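import Mathlib

set_option autoImplicit false
set_option linter.unusedSectionVars false
set_option linter.unusedVariables false
universe u
open Polynomial

namespace Groth.Agent.Helper1.AS

section Ring

variable (p : ℕ) [hp : Fact p.Prime] {A : Type u} [CommRing A] (hA : (p : A) = 0)

include hA in
theorem add_pow_p (x y : A) : (x + y) ^ p = x ^ p + y ^ p := by
  obtain ⟨r, hr⟩ := exists_add_pow_prime_eq hp.out x y
  rw [hr, hA]
  ring

include hA in
theorem sub_pow_p (x y : A) : (x - y) ^ p = x ^ p - y ^ p := by
  have h := add_pow_p p hA (x - y) y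
  rw [sub_add_cancel] at h
  rw [h]
  ring

/-- the Artin–Schreier map `x ↦ x ^ p - x` -/
def asHom : A →+ A where
  toFun x := x ^ p - x
  map_zero' := by
    rw [zero_pow hp.out.ne_zero, sub_zero]
  map_add' x y := by
    rw [add_pow_p p hA]
    ring

theorem asHom_apply (x : A) : asHom p hA x = x ^ p - x := rfl

theorem asHom_map {B : Type*} [CommRing B] (hB : (p : B) = 0) (f : A →+* B) (x : A) :
    asHom p hB (f x) = f (asHom p hA x) := by
  rw [asHom_apply, asHom_apply, map_sub, map_pow]

end Ring

section Etale

variable (p : ℕ) [hp : Fact p.Prime] (R : Type u) [CommRing R]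

/-- the Artin–Schreier polynomial `T ^ p - T - X` over `R[X]` -/
noncomputable def asPoly : R[X][X] := X ^ p - X - C (X : R[X])

theorem asPoly_monic : (asPoly p R).Monic := by
  have h2 : 2 ≤ p := hp.out.two_le
  have : asPoly p R = X ^ p - (X + C (X : R[X])) := by
    rw [asPoly]
    ring
  rw [this]
  apply monic_X_pow_sub
  refine lt_of_le_of_lt (degree_add_le _ _) (max_lt ?_ ?_)
  · refine lt_of_le_of_lt degree_X_le ?_
    exact_mod_cast (by omega : 1 < p)
  · refine lt_of_le_of_lt degree_C_le ?_
    exact_mod_cast (by omega : 0 < p)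

variable {R} (hR : (p : R) = 0)

include hR in
theorem derivative_asPoly : derivative (asPoly p R) = -1 := by
  have h0 : ((p : ℕ) : R[X][X]) = 0 := by
    have : ((p : ℕ) : R[X][X]) = C (C ((p : ℕ) : R)) := by simp
    rw [this, hR, map_zero, map_zero]
  rw [asPoly, derivative_sub, derivative_sub, derivative_X_pow, derivative_X, derivative_C]
  rw [show (C ((p : ℕ) : R[X]) : R[X][X]) = ((p : ℕ) : R[X][X]) by simp, h0]
  ring

/-- the standard étale pair of the Artin–Schreier covering -/
noncomputable def asPair : StandardEtalePair R[X] where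
  f := asPoly p R
  monic_f := asPoly_monic p R
  g := 1
  cond := ⟨-1, 0, 0, by rw [derivative_asPoly p hR]; ring⟩

variable (R) in
/-- the Artin–Schreier algebra `R[X][T]/(T ^ p - T - X)` -/
abbrev ASAlg : Type u := AdjoinRoot (asPoly p R)

variable (R) in
/-- the root `T` -/
noncomputable def asRoot : ASAlg p R := AdjoinRoot.root (asPoly p R)

variable (R) in
theorem asRoot_eq : asRoot p R ^ p - asRoot p R = algebraMap R[X] (ASAlg p R) X := by
  have h := AdjoinRoot.eval₂_root (asPoly p R)
  unfold asPoly at h
  rw [eval₂_sub, eval₂_sub, eval₂_pow, eval₂_X, eval₂_C, sub_eq_zero] at h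
  exact h

/-- comparison with the standard étale algebra -/
noncomputable def asEquiv : ASAlg p R ≃ₐ[R[X]] (asPair p hR).Ring :=
  AlgEquiv.ofAlgHom
    (AdjoinRoot.liftAlgHom (asPoly p R) (Algebra.ofId R[X] (asPair p hR).Ring) (asPair p hR).X
      (asPair p hR).hasMap_X.1)
    ((asPair p hR).lift (asRoot p R) ⟨by
      change aeval (asRoot p R) (asPoly p R) = 0
      rw [aeval_def]
      exact AdjoinRoot.eval₂_root (asPoly p R), by
      change IsUnit (aeval (asRoot p R) (1 : R[X][X]))
      rw [map_one]
      exact isUnit_one⟩)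
    (by
      apply StandardEtalePair.hom_ext
      simp [asRoot])
    (by
      apply AdjoinRoot.algHom_ext
      simp [asRoot])

include hR in
theorem etale_ASAlg : Algebra.Etale R[X] (ASAlg p R) :=
  Algebra.Etale.of_equiv (asEquiv p hR).symm

variable (R) in
theorem natDegree_asPoly [Nontrivial R] : (asPoly p R).natDegree = p := by
  have h2 : 2 ≤ p := hp.out.two_le
  have : asPoly p R = X ^ p - (X + C (X : R[X])) := by
    rw [asPoly]
    ring
  rw [this, natDegree_sub_eq_left_of_natDegree_lt, natDegree_X_pow]
  rw [natDegree_X_pow]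
  refine lt_of_le_of_lt (natDegree_add_le _ _) (max_lt ?_ ?_)
  · exact lt_of_le_of_lt natDegree_X_le (by omega)
  · rw [natDegree_C]
    omega

variable (R) in
theorem comap_surjective_ASAlg :
    Function.Surjective (PrimeSpectrum.comap (algebraMap R[X] (ASAlg p R))) := by
  rcases subsingleton_or_nontrivial R with h | h
  · intro x
    exact (PrimeSpectrum.instIsEmptyOfSubsingleton : IsEmpty (PrimeSpectrum R[X])).elim x
  · haveI : Module.Free R[X] (ASAlg p R) := (asPoly_monic p R).free_adjoinRoot
    haveI : Nontrivial (ASAlg p R) := by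
      change Nontrivial (R[X][X] ⧸ Ideal.span {asPoly p R})
      rw [Ideal.Quotient.nontrivial_iff, Ne, Ideal.span_singleton_eq_top,
        (asPoly_monic p R).isUnit_iff]
      intro h1
      have h2 := natDegree_asPoly p R
      rw [h1, natDegree_one] at h2
      exact hp.out.ne_zero h2.symm
    exact PrimeSpectrum.comap_surjective_of_faithfullyFlat

end Etale

end Groth.Agent.Helper1.AS
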