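import Mathlib
import Groth.Agent.Lib.Helper1.AS1

set_option autoImplicit false
set_option linter.unusedSectionVars false
set_option linter.unusedVariables false
universe u
open Polynomial AlgebraicGeometry CategoryTheory Opposite TopologicalSpace

namespace Groth.Agent.Helper1.AS

section Local

variable (p : ℕ) [hp : Fact p.Prime]

theorem prod_X_sub_C_zmod : ∏ a : ZMod p, (X - C a) = (X ^ p - X : (ZMod p)[X]) := by
  have h2 := FiniteField.roots_X_pow_card_sub_X (ZMod p)
  rw [ZMod.card] at h2
  have hm : (X ^ p - X : (ZMod p)[X]).Monic := by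
    apply monic_X_pow_sub
    exact lt_of_le_of_lt degree_X_le (by exact_mod_cast hp.out.one_lt)
  have hd : (X ^ p - X : (ZMod p)[X]).natDegree = p := by
    have := FiniteField.X_pow_card_sub_X_natDegree_eq (ZMod p) hp.out.one_lt
    exact this
  have h3 := prod_multiset_X_sub_C_of_monic_of_roots_card_eq hm (by
    rw [h2, hd]
    simp [ZMod.card])
  rw [h2] at h3
  rw [← h3]
  rfl

variable {A : Type u} [CommRing A] [IsLocalRing A] [Algebra (ZMod p) A]

/-- in a local ring of characteristic `p`, the solutions of `x ^ p = x` are the constants -/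
theorem exists_eq_algebraMap_of_pow_eq (x : A) (hx : x ^ p = x) :
    ∃ a : ZMod p, x = algebraMap (ZMod p) A a := by
  have h0 : ∏ a : ZMod p, (x - algebraMap (ZMod p) A a) = 0 := by
    have h := congrArg (aeval x) (prod_X_sub_C_zmod p)
    rw [map_prod] at h
    simp only [map_sub, aeval_X, aeval_C, map_pow] at h
    rw [h, hx, sub_self]
  have h1 : ∃ a : ZMod p, ¬ IsUnit (x - algebraMap (ZMod p) A a) := by
    by_contra hcon
    push Not at hcon
    have : IsUnit (∏ a : ZMod p, (x - algebraMap (ZMod p) A a)) := by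
      rw [IsUnit.prod_univ_iff]
      exact hcon
    rw [h0] at this
    exact not_isUnit_zero this
  obtain ⟨a, ha⟩ := h1
  refine ⟨a, ?_⟩
  have h2 : ∀ b : ZMod p, b ≠ a → IsUnit (x - algebraMap (ZMod p) A b) := by
    intro b hb
    by_contra hcon
    have h3 : ¬ IsUnit ((x - algebraMap (ZMod p) A b) - (x - algebraMap (ZMod p) A a)) := by
      have := (IsLocalRing.maximalIdeal A).sub_mem ((IsLocalRing.mem_maximalIdeal _).2 hcon)
        ((IsLocalRing.mem_maximalIdeal _).2 ha)
      exact (IsLocalRing.mem_maximalIdeal _).1 this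
    apply h3
    have : (x - algebraMap (ZMod p) A b) - (x - algebraMap (ZMod p) A a) =
        algebraMap (ZMod p) A (a - b) := by
      rw [map_sub]
      ring
    rw [this]
    exact (IsUnit.mk0 (a - b) (sub_ne_zero.2 (Ne.symm hb))).map _
  have h4 : (x - algebraMap (ZMod p) A a) *
      ∏ b ∈ Finset.univ.erase a, (x - algebraMap (ZMod p) A b) = 0 := by
    rw [Finset.mul_prod_erase Finset.univ (fun b => x - algebraMap (ZMod p) A b) (Finset.mem_univ a)]
    exact h0
  have h5 : IsUnit (∏ b ∈ Finset.univ.erase a, (x - algebraMap (ZMod p) A b)) := by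
    rw [IsUnit.prod_iff]
    intro b hb
    exact h2 b (Finset.ne_of_mem_erase hb)
  have h6 := (h5.mul_left_eq_zero).1 h4
  exact sub_eq_zero.1 h6

end Local

section Scheme

variable (p : ℕ) [hp : Fact p.Prime]

/-- in a local ring in which `p = 0`, the solutions of `x ^ p = x` are the natural numbers -/
theorem exists_eq_natCast_of_pow_eq {A : Type u} [CommRing A] [IsLocalRing A] (hA : (p : A) = 0)
    (x : A) (hx : x ^ p = x) : ∃ a : ℕ, x = (a : A) := by
  haveI : CharP A p := (CharP.charP_iff_prime_eq_zero hp.out).2 hA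
  letI : Algebra (ZMod p) A := ZMod.algebra A p
  obtain ⟨a, ha⟩ := exists_eq_algebraMap_of_pow_eq p x hx
  refine ⟨a.val, ?_⟩
  rw [ha]
  change (ZMod.cast a : A) = _
  exact (ZMod.natCast_val a).symm

/-- a global function with `x ^ p = x` on a scheme on which `p = 0` is locally constant -/
theorem exists_open_natCast {X : Scheme.{u}} (hX : (p : Γ(X, ⊤)) = 0) (x : Γ(X, ⊤))
    (hx : x ^ p = x) (v : X) :
    ∃ (W : X.Opens) (a : ℕ), v ∈ W ∧ W.ι.appTop.hom x = (a : Γ((W : Scheme.{u}), ⊤)) := by
  let g := (X.presheaf.germ ⊤ v trivial).hom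
  have hA : (p : X.presheaf.stalk v) = 0 := by
    have := congrArg g hX
    rwa [map_natCast, map_zero] at this
  obtain ⟨a, ha⟩ := exists_eq_natCast_of_pow_eq p hA (g x) (by rw [← map_pow, hx])
  have h1 : g x = g (a : Γ(X, ⊤)) := by rw [ha, map_natCast]
  obtain ⟨W', hW, iU, iV, e⟩ := X.presheaf.germ_eq (U := ⊤) (V := ⊤) v trivial trivial x
    (a : Γ(X, ⊤)) h1
  let W : X.Opens := W'
  refine ⟨W, a, hW, ?_⟩
  have h2 : ∀ y : Γ(X, ⊤), W.ι.appTop.hom y =
      (X.presheaf.map (eqToHom W.ι_image_top).op).hom ((X.presheaf.map iU.op).hom y) := by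
    intro y
    rw [Scheme.Opens.ι_appTop]
    change _ = (X.presheaf.map iU.op ≫ X.presheaf.map (eqToHom W.ι_image_top).op).hom y
    rw [← X.presheaf.map_comp]
    rfl
  have e' : (X.presheaf.map iU.op).hom x = (X.presheaf.map iU.op).hom (a : Γ(X, ⊤)) := by
    rw [show iU = iV from Subsingleton.elim _ _]
    rw [show iU = iV from Subsingleton.elim _ _] at e
    exact e
  rw [h2, e', ← h2, map_natCast]

end Scheme

end Groth.Agent.Helper1.AS
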