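import Mathlib
import Groth.Prelude.Def_EtGm
import Groth.Agent.Lib.Helper1.AS2

set_option autoImplicit false
set_option linter.unusedSectionVars false
set_option linter.unusedVariables false
set_option maxHeartbeats 400000
universe u
open CategoryTheory CategoryTheory.Limits AlgebraicGeometry Opposite TopologicalSpace

namespace Groth.Agent.Helper1.AS

variable (S : Scheme.{u}) (p : ℕ) [hp : Fact p.Prime] (hS : (p : Γ(S, ⊤)) = 0)

include hS in
theorem p_zero (U : S.Etale) : (p : Γ(U.left, ⊤)) = 0 := by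
  have := congrArg U.hom.appTop.hom hS
  rwa [map_natCast, map_zero] at this

/-- the Artin–Schreier map on sections -/
noncomputable def asSec (U : S.Etale) :
    ((EtCoh.Ga S).obj.obj (op U)) →+ ((EtCoh.Ga S).obj.obj (op U)) :=
  (AddEquiv.ulift (α := Γ(U.left, ⊤))).symm.toAddMonoidHom.comp
    ((asHom p (p_zero S p hS U)).comp (AddEquiv.ulift (α := Γ(U.left, ⊤))).toAddMonoidHom)

/-- the underlying global function of a section of `G_a` -/
def dn {S : Scheme.{u}} {U : S.Etale} (x : (EtCoh.Ga S).obj.obj (op U)) : Γ(U.left, ⊤) := x.down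

/-- the section of `G_a` of a global function -/
def up {S : Scheme.{u}} {U : S.Etale} (x : Γ(U.left, ⊤)) : (EtCoh.Ga S).obj.obj (op U) := ULift.up x

theorem dn_up {S : Scheme.{u}} {U : S.Etale} (x : Γ(U.left, ⊤)) : dn (up x) = x := rfl

theorem up_dn {S : Scheme.{u}} {U : S.Etale} (x : (EtCoh.Ga S).obj.obj (op U)) : up (dn x) = x := rfl

theorem dn_injective {S : Scheme.{u}} {U : S.Etale} :
    Function.Injective (dn : (EtCoh.Ga S).obj.obj (op U) → Γ(U.left, ⊤)) :=
  fun _ _ h => ULift.ext _ _ h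

theorem dn_map {S : Scheme.{u}} {U V : S.Etale} (f : V ⟶ U) (x : (EtCoh.Ga S).obj.obj (op U)) :
    dn (((EtCoh.Ga S).obj.map f.op).hom x) = f.left.appTop.hom (dn x) := rfl

theorem dn_add {S : Scheme.{u}} {U : S.Etale} (x y : (EtCoh.Ga S).obj.obj (op U)) :
    dn (x + y) = dn x + dn y := rfl

theorem dn_zero {S : Scheme.{u}} {U : S.Etale} :
    dn (0 : (EtCoh.Ga S).obj.obj (op U)) = 0 := rfl

theorem asSec_apply (U : S.Etale) (x : (EtCoh.Ga S).obj.obj (op U)) :
    dn (asSec S p hS U x) = dn x ^ p - dn x := rfl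

/-- the Artin–Schreier map `x ↦ x ^ p - x` of étale sheaves -/
noncomputable def asMap : EtCoh.Ga S ⟶ EtCoh.Ga S :=
  ⟨{ app := fun U => AddCommGrpCat.ofHom (asSec S p hS U.unop)
     naturality := fun U V f => by
      ext x
      apply dn_injective
      change ((f.unop.left.appTop.hom (dn x)) ^ p - f.unop.left.appTop.hom (dn x)) =
        f.unop.left.appTop.hom (dn x ^ p - dn x)
      rw [map_sub, map_pow] }⟩

theorem dn_asMap (U : S.Etale) (x : (EtCoh.Ga S).obj.obj (op U)) :
    dn (((asMap S p hS).hom.app (op U)).hom x) = dn x ^ p - dn x := rfl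

section Cover

open Polynomial

variable {S} (U : S.Etale) (x : Γ(U.left, ⊤))

/-- evaluation at `x` -/
noncomputable def θ : Γ(S, ⊤)[X] →+* Γ(U.left, ⊤) := eval₂RingHom U.hom.appTop.hom x

theorem θ_X : θ U x X = x := eval₂_X _ _

/-- the morphism to the affine line defined by `x` -/
noncomputable def uMap : U.left ⟶ Spec (CommRingCat.of Γ(S, ⊤)[X]) :=
  U.left.toSpecΓ ≫ Spec.map (CommRingCat.ofHom (θ U x))

theorem uMap_appTop (g : Γ(S, ⊤)[X]) :
    (uMap U x).appTop.hom ((Scheme.ΓSpecIso (CommRingCat.of Γ(S, ⊤)[X])).inv.hom g) = θ U x g := by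
  have h1 : (Scheme.ΓSpecIso (CommRingCat.of Γ(S, ⊤)[X])).inv ≫ (uMap U x).appTop =
      CommRingCat.ofHom (θ U x) := by
    rw [uMap, Scheme.Hom.comp_appTop, Scheme.toSpecΓ_appTop, ← Category.assoc,
      ← Scheme.ΓSpecIso_inv_naturality, Category.assoc, Iso.inv_hom_id, Category.comp_id]
  exact ConcreteCategory.congr_hom h1 g

/-- the Artin–Schreier covering of the affine line -/
noncomputable def wp (S : Scheme.{u}) :
    Spec (CommRingCat.of (ASAlg p Γ(S, ⊤))) ⟶ Spec (CommRingCat.of Γ(S, ⊤)[X]) :=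
  Spec.map (CommRingCat.ofHom (algebraMap Γ(S, ⊤)[X] (ASAlg p Γ(S, ⊤))))

include hS in
theorem etale_wp : Etale (wp p S) := by
  rw [wp, HasRingHomProperty.Spec_iff (P := @Etale)]
  exact RingHom.etale_algebraMap.2 (etale_ASAlg p hS)

theorem surjective_wp : Surjective (wp p S) := by
  constructor
  intro y
  obtain ⟨z, hz⟩ := comap_surjective_ASAlg p Γ(S, ⊤) y
  exact ⟨z, hz⟩

theorem wp_appTop (g : Γ(S, ⊤)[X]) :
    (wp p S).appTop.hom ((Scheme.ΓSpecIso (CommRingCat.of Γ(S, ⊤)[X])).inv.hom g) =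
      (Scheme.ΓSpecIso (CommRingCat.of (ASAlg p Γ(S, ⊤)))).inv.hom
        (algebraMap Γ(S, ⊤)[X] (ASAlg p Γ(S, ⊤)) g) := by
  have h1 := Scheme.ΓSpecIso_inv_naturality
    (CommRingCat.ofHom (algebraMap Γ(S, ⊤)[X] (ASAlg p Γ(S, ⊤))))
  exact (ConcreteCategory.congr_hom h1 g).symm

end Cover

section Epi

open Polynomial

include hS in
/-- the Artin–Schreier map is an epimorphism of étale sheaves -/
theorem epi_asMap : Epi (asMap S p hS) := by
  rw [← Sheaf.isLocallySurjective_iff_epi']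
  constructor
  intro U x
  haveI := etale_wp (S := S) p hS
  haveI := surjective_wp (p := p) (S := S)
  let V := pullback (uMap U (dn x)) (wp p S)
  let π₁ : V ⟶ U.left := pullback.fst _ _
  let π₂ : V ⟶ Spec (CommRingCat.of (ASAlg p Γ(S, ⊤))) := pullback.snd _ _
  haveI : Etale π₁ := inferInstance
  haveI : Surjective π₁ := inferInstance
  haveI : Etale U.hom := U.prop
  let V' : S.Etale := Scheme.Etale.mk (π₁ ≫ U.hom)
  let m : V' ⟶ U := MorphismProperty.Over.homMk π₁ rfl
  have hcov : Sieve.ofArrows (fun _ : PUnit.{1} => V') (fun _ => m) ∈ S.smallEtaleTopology U := by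
    rw [Scheme.ofArrows_mem_smallEtaleTopology_iff]
    ext v
    simp only [Set.mem_iUnion, Set.mem_range, Set.mem_univ, iff_true]
    obtain ⟨w, hw⟩ := π₁.surjective v
    exact ⟨PUnit.unit, w, hw⟩
  refine GrothendieckTopology.superset_covering _ ?_ hcov
  rintro Y f ⟨Z, h, g', ⟨i⟩, rfl⟩
  let y : (EtCoh.Ga S).obj.obj (op V') :=
    up (π₂.appTop.hom ((Scheme.ΓSpecIso (CommRingCat.of (ASAlg p Γ(S, ⊤)))).inv.hom
      (asRoot p Γ(S, ⊤))))
  have hy : ((asMap S p hS).hom.app (op V')).hom y = ((EtCoh.Ga S).obj.map m.op).hom x := by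
    apply dn_injective
    rw [dn_asMap, dn_map]
    change (π₂.appTop.hom _) ^ p - π₂.appTop.hom _ = π₁.appTop.hom (dn x)
    rw [← map_pow, ← map_pow, ← map_sub, ← map_sub, asRoot_eq, ← wp_appTop]
    have h1 : π₁ ≫ uMap U (dn x) = π₂ ≫ wp p S := pullback.condition
    have h2 := congrArg (fun q => q.appTop.hom
      ((Scheme.ΓSpecIso (CommRingCat.of Γ(S, ⊤)[X])).inv.hom X)) h1
    simp only [Scheme.Hom.comp_appTop, CommRingCat.hom_comp, RingHom.comp_apply] at h2
    rw [← h2, uMap_appTop, θ_X]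
  refine ⟨((EtCoh.Ga S).obj.map h.op).hom y, ?_⟩
  have h3 := ConcreteCategory.congr_hom ((asMap S p hS).hom.naturality h.op) y
  refine h3.trans ?_
  change ((EtCoh.Ga S).obj.map h.op).hom (((asMap S p hS).hom.app (op V')).hom y) = _
  rw [hy]
  exact (ConcreteCategory.congr_hom ((EtCoh.Ga S).obj.map_comp m.op h.op) x).symm

end Epi

end Groth.Agent.Helper1.AS
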