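import Mathlib
import Groth.Prelude.Def_EtGm
import Groth.Agent.Lib.Helper1.AS3

set_option autoImplicit false
set_option linter.unusedSectionVars false
set_option linter.unusedVariables false
set_option maxHeartbeats 400000
universe u
open CategoryTheory CategoryTheory.Limits AlgebraicGeometry Opposite TopologicalSpace

namespace Groth.Agent.Helper1.AS

section Cast

variable (p : ℕ) [hp : Fact p.Prime] (A : Type u) [CommRing A] (hA : (p : A) = 0)

/-- the canonical ring homomorphism from `ZMod p` to a ring in which `p = 0` -/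
noncomputable def castR : ZMod p →+* A := ZMod.castHom (ringChar.dvd hA) A

theorem castR_comp {B : Type*} [CommRing B] (hB : (p : B) = 0) (f : A →+* B) (a : ZMod p) :
    f (castR p A hA a) = castR p B hB a :=
  congrArg (fun g : ZMod p →+* B => g a) (Subsingleton.elim (f.comp (castR p A hA)) (castR p B hB))

theorem castR_pow (a : ZMod p) : castR p A hA a ^ p = castR p A hA a := by
  rw [← map_pow, ZMod.pow_card]

theorem subsingleton_of_castR_eq_zero (a : ZMod p) (ha : a ≠ 0) (h : castR p A hA a = 0) :
    Subsingleton A := by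
  have h1 : (1 : A) = 0 := by
    have := congrArg (castR p A hA) (inv_mul_cancel₀ ha)
    rwa [map_mul, h, mul_zero, map_one, eq_comm] at this
  exact subsingleton_of_zero_eq_one h1.symm

end Cast

theorem isEmpty_of_subsingleton_Γ (X : Scheme.{u}) [Subsingleton Γ(X, ⊤)] : IsEmpty X := by
  refine ⟨fun x => ?_⟩
  have h1 : (1 : X.presheaf.stalk x) = 0 := by
    have := congrArg (X.presheaf.germ ⊤ x trivial).hom (Subsingleton.elim (1 : Γ(X, ⊤)) 0)
    rwa [map_one, map_zero] at this
  exact one_ne_zero h1

section Sheaf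

variable (S : Scheme.{u}) (p : ℕ) [hp : Fact p.Prime] (hS : (p : Γ(S, ⊤)) = 0)

/-- the constant presheaf with value `ZMod p` -/
abbrev cP : (S.Etale)ᵒᵖ ⥤ AddCommGrpCat.{u + 1} :=
  (Functor.const _).obj (AddCommGrpCat.of (ULift.{u + 1} (ZMod p)))

/-- constants as sections of `G_a` -/
noncomputable def ψSec (U : S.Etale) : ULift.{u + 1} (ZMod p) →+ (EtCoh.Ga S).obj.obj (op U) :=
  (AddEquiv.ulift (α := Γ(U.left, ⊤))).symm.toAddMonoidHom.comp
    ((castR p Γ(U.left, ⊤) (p_zero S p hS U)).toAddMonoidHom.comp
      (AddEquiv.ulift (α := ZMod p)).toAddMonoidHom)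

theorem dn_ψSec (U : S.Etale) (a : ULift.{u + 1} (ZMod p)) :
    dn (ψSec S p hS U a) = castR p Γ(U.left, ⊤) (p_zero S p hS U) a.down := rfl

/-- the map from the constant presheaf to `G_a` -/
noncomputable def ψ : cP S p ⟶ (EtCoh.Ga S).obj where
  app U := AddCommGrpCat.ofHom (ψSec S p hS U.unop)
  naturality U V f := by
    ext a
    apply dn_injective
    change castR p Γ(V.unop.left, ⊤) (p_zero S p hS V.unop) a.down =
      f.unop.left.appTop.hom (castR p Γ(U.unop.left, ⊤) (p_zero S p hS U.unop) a.down)
    rw [castR_comp p _ (p_zero S p hS U.unop) (p_zero S p hS V.unop)]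

theorem dn_ψ (U : S.Etale) (a : ULift.{u + 1} (ZMod p)) :
    dn (((ψ S p hS).app (op U)).hom a) = castR p Γ(U.left, ⊤) (p_zero S p hS U) a.down := rfl

/-- the inclusion of the constant sheaf into `G_a` -/
noncomputable def ι : EtCoh.const S (ZMod p) ⟶ EtCoh.Ga S :=
  ⟨sheafifyLift S.smallEtaleTopology (ψ S p hS) (EtCoh.Ga S).property⟩

theorem toSheafify_ι :
    toSheafify S.smallEtaleTopology (cP S p) ≫ (ι S p hS).hom = ψ S p hS :=
  toSheafify_sheafifyLift _ _ _

theorem ι_asMap : ι S p hS ≫ asMap S p hS = 0 := by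
  apply Sheaf.hom_ext
  apply sheafify_hom_ext _ _ _ (EtCoh.Ga S).property
  change toSheafify _ _ ≫ (ι S p hS).hom ≫ (asMap S p hS).hom = toSheafify _ _ ≫ 0
  rw [← Category.assoc, toSheafify_ι, comp_zero]
  ext U a
  apply dn_injective
  change dn (((asMap S p hS).hom.app U).hom (((ψ S p hS).app U).hom a)) = 0
  rw [dn_asMap S p hS U.unop, dn_ψ, castR_pow, sub_self]

variable {S} in
/-- every sieve on an empty étale scheme is covering -/
theorem mem_of_isEmpty (U : S.Etale) [IsEmpty U.left] (R : Sieve U) :
    R ∈ S.smallEtaleTopology U := by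
  have h : Sieve.ofArrows (fun i : PEmpty.{1} => (i.elim : S.Etale)) (fun i => i.elim) ∈
      S.smallEtaleTopology U := by
    rw [Scheme.ofArrows_mem_smallEtaleTopology_iff]
    ext v
    exact (IsEmpty.false v).elim
  refine GrothendieckTopology.superset_covering _ ?_ h
  rintro Y f ⟨Z, h, g', ⟨i⟩, rfl⟩
  exact i.elim

instance isLocallyInjective_ψ :
    Presheaf.IsLocallyInjective S.smallEtaleTopology (ψ S p hS) where
  equalizerSieve_mem {U} a b hab := by
    by_cases h : a = b
    · rw [h, Presheaf.equalizerSieve_self_eq_top]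
      exact GrothendieckTopology.top_mem _ _
    · have h1 : a.down - b.down ≠ 0 := by
        intro h2
        exact h (ULift.ext _ _ (sub_eq_zero.1 h2))
      have h2 : castR p Γ(U.unop.left, ⊤) (p_zero S p hS U.unop) (a.down - b.down) = 0 := by
        have h3 := congrArg dn hab
        change castR p Γ(U.unop.left, ⊤) (p_zero S p hS U.unop) a.down =
          castR p Γ(U.unop.left, ⊤) (p_zero S p hS U.unop) b.down at h3
        rw [map_sub, h3, sub_self]
      haveI := subsingleton_of_castR_eq_zero p _ _ _ h1 h2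
      haveI := isEmpty_of_subsingleton_Γ U.unop.left
      exact mem_of_isEmpty _ _

instance isLocallyInjective_ι : Sheaf.IsLocallyInjective (ι S p hS) := by
  haveI h1 : Presheaf.IsLocallySurjective S.smallEtaleTopology
      (toSheafify S.smallEtaleTopology (cP S p)) := inferInstance
  haveI h2 : Presheaf.IsLocallyInjective S.smallEtaleTopology (ψ S p hS) := isLocallyInjective_ψ S p hS
  exact @Presheaf.isLocallyInjective_of_isLocallyInjective_of_isLocallySurjective_fac _ _
    S.smallEtaleTopology _ _ _ _ _ _ _ _ _ _ _ (ψ S p hS) (toSheafify_ι S p hS) h2 h1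

instance mono_ι : Mono (ι S p hS) := Sheaf.mono_of_isLocallyInjective _

/-- monomorphisms of étale sheaves are injective on sections -/
theorem mono_app_injective {F G : EtCoh.Ab S} (f : F ⟶ G) [Mono f] (U : S.Etale) :
    Function.Injective (f.hom.app (op U)).hom := by
  have h1 : Mono ((sheafToPresheaf _ _).map f) := inferInstance
  have h2 : Mono (((sheafToPresheaf _ _).map f).app (op U)) := inferInstance
  exact (AddCommGrpCat.mono_iff_injective _).1 h2

/-- the comparison map from the constant sheaf to the kernel of the Artin–Schreier map -/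
noncomputable def κ : EtCoh.const S (ZMod p) ⟶ kernel (asMap S p hS) :=
  kernel.lift (asMap S p hS) (ι S p hS) (ι_asMap S p hS)

theorem κ_ι : κ S p hS ≫ kernel.ι (asMap S p hS) = ι S p hS := kernel.lift_ι _ _ _

instance mono_κ : Mono (κ S p hS) := mono_of_mono_fac (κ_ι S p hS)

theorem ι_toSheafify_apply (V : S.Etale) (a : ULift.{u + 1} (ZMod p)) :
    ((ι S p hS).hom.app (op V)).hom
      (((toSheafify S.smallEtaleTopology (cP S p)).app (op V)).hom a) =
      ((ψ S p hS).app (op V)).hom a :=
  congrArg (fun q : cP S p ⟶ (EtCoh.Ga S).obj => (q.app (op V)).hom a) (toSheafify_ι S p hS)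

instance epi_κ : Epi (κ S p hS) := by
  rw [← Sheaf.isLocallySurjective_iff_epi']
  constructor
  intro U t
  let x : (EtCoh.Ga S).obj.obj (op U) := ((kernel.ι (asMap S p hS)).hom.app (op U)).hom t
  have hx : ((asMap S p hS).hom.app (op U)).hom x = 0 := by
    have h := congrArg (fun q => (q.hom.app (op U)).hom t) (kernel.condition (asMap S p hS))
    exact h
  have hx' : dn x ^ p = dn x := by
    have := congrArg dn hx
    rw [dn_asMap, dn_zero] at this
    exact sub_eq_zero.1 this
  choose W a hW ha using exists_open_natCast p (p_zero S p hS U) (dn x) hx'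
  haveI : Etale U.hom := U.prop
  let V : U.left → S.Etale := fun v => Scheme.Etale.mk ((W v).ι ≫ U.hom)
  let m : ∀ v, V v ⟶ U := fun v => MorphismProperty.Over.homMk (W v).ι rfl
  have hcov : Sieve.ofArrows V m ∈ S.smallEtaleTopology U := by
    rw [Scheme.ofArrows_mem_smallEtaleTopology_iff]
    ext v
    simp only [Set.mem_iUnion, Set.mem_range, Set.mem_univ, iff_true]
    exact ⟨v, ⟨v, hW v⟩, rfl⟩
  refine GrothendieckTopology.superset_covering _ ?_ hcov
  rintro Y f ⟨Z, h, g', ⟨v⟩, rfl⟩
  let c : (EtCoh.const S (ZMod p)).obj.obj (op (V v)) :=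
    ((toSheafify S.smallEtaleTopology (cP S p)).app (op (V v))).hom (ULift.up (a v : ZMod p))
  have hc : ((κ S p hS).hom.app (op (V v))).hom c =
      ((kernel (asMap S p hS)).obj.map (m v).op).hom t := by
    apply mono_app_injective S (kernel.ι (asMap S p hS)) (V v)
    have e1 : ((kernel.ι (asMap S p hS)).hom.app (op (V v))).hom
        (((κ S p hS).hom.app (op (V v))).hom c) = ((ι S p hS).hom.app (op (V v))).hom c :=
      congrArg (fun q => (q.hom.app (op (V v))).hom c) (κ_ι S p hS)
    have e2 : ((kernel.ι (asMap S p hS)).hom.app (op (V v))).hom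
        (((kernel (asMap S p hS)).obj.map (m v).op).hom t) =
        ((EtCoh.Ga S).obj.map (m v).op).hom x :=
      ConcreteCategory.congr_hom ((kernel.ι (asMap S p hS)).hom.naturality (m v).op) t
    rw [e1, e2, ι_toSheafify_apply]
    apply dn_injective
    rw [dn_ψ, dn_map]
    change _ = (W v).ι.appTop.hom (dn x)
    rw [ha v, map_natCast]
    rfl
  refine ⟨((EtCoh.const S (ZMod p)).obj.map h.op).hom c, ?_⟩
  have h3 := ConcreteCategory.congr_hom ((κ S p hS).hom.naturality h.op) c
  refine h3.trans ?_
  change ((kernel (asMap S p hS)).obj.map h.op).hom (((κ S p hS).hom.app (op (V v))).hom c) = _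
  rw [hc]
  exact (ConcreteCategory.congr_hom ((kernel (asMap S p hS)).obj.map_comp (m v).op h.op) t).symm

instance isIso_κ : IsIso (κ S p hS) := isIso_of_mono_of_epi _

/-- the Artin–Schreier identification of the constant sheaf -/
noncomputable def constIso : EtCoh.const S (ZMod p) ≅ kernel (asMap S p hS) := asIso (κ S p hS)

end Sheaf

end Groth.Agent.Helper1.AS
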