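import Mathlib

set_option autoImplicit false
universe u
open TensorProduct

namespace Groth.Agent.Helper1.Adq

/-- **equational criterion for vanishing**, without spanning hypothesis: a vanishing sum of pure
tensors vanishes trivially after enlarging the left family -/
theorem exists_vanishesTrivially {R : Type*} [CommRing R] {B N : Type*} [AddCommGroup B]
    [Module R B] [AddCommGroup N] [Module R N] {n : ℕ} (b : Fin n → B) (y : Fin n → N)
    (h : ∑ i, b i ⊗ₜ[R] y i = 0) :
    ∃ (n' : ℕ) (c : Fin n' → B) (k : ℕ) (a : Fin n ⊕ Fin n' → Fin k → R) (z : Fin k → N),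
      (∀ i, Sum.elim y (fun _ => (0 : N)) i = ∑ j, a i j • z j) ∧
      ∀ j, ∑ i, a i j • Sum.elim b c i = 0 := by
  classical
  set P : Submodule R B := Submodule.span R (Set.range b) with hP
  have hPfg : P.FG := Submodule.fg_span (Set.finite_range b)
  have hbP : ∀ i, b i ∈ P := fun i => Submodule.subset_span ⟨i, rfl⟩
  set t : P ⊗[R] N := ∑ i, (⟨b i, hbP i⟩ : P) ⊗ₜ[R] y i with ht
  have ht0 : LinearMap.rTensor N P.subtype t = 0 := by
    rw [ht, map_sum, ← h]
    rfl
  obtain ⟨Q, hPQ, hQfg, hQ0⟩ := TensorProduct.eq_zero_of_fg_of_subtype_eq_zero hPfg ht0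
  obtain ⟨n', c, hc⟩ := Submodule.fg_iff_exists_fin_generating_family.1 hQfg
  have hcQ : ∀ i, c i ∈ Q := fun i => hc ▸ Submodule.subset_span ⟨i, rfl⟩
  let m : Fin n ⊕ Fin n' → Q := Sum.elim (fun i => ⟨b i, hPQ (hbP i)⟩) (fun i => ⟨c i, hcQ i⟩)
  let y' : Fin n ⊕ Fin n' → N := Sum.elim y (fun _ => 0)
  have hspan : Submodule.span R (Set.range m) = ⊤ := by
    rw [eq_top_iff]
    rintro ⟨q, hq⟩ -
    have hq' : q ∈ Submodule.span R (Set.range c) := hc ▸ hq
    have : (⟨q, hq⟩ : Q) ∈ Submodule.span R (Set.range fun i => (⟨c i, hcQ i⟩ : Q)) := by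
      have hmap : Submodule.map Q.subtype
          (Submodule.span R (Set.range fun i => (⟨c i, hcQ i⟩ : Q))) =
          Submodule.span R (Set.range c) := by
        rw [Submodule.map_span]
        congr 1
        ext x
        simp
      rw [← hmap] at hq'
      obtain ⟨q', hq'1, hq'2⟩ := hq'
      have : q' = ⟨q, hq⟩ := Subtype.ext hq'2
      rwa [← this]
    refine Submodule.span_mono ?_ this
    rintro _ ⟨i, rfl⟩
    exact ⟨Sum.inr i, rfl⟩
  have hsum : ∑ i, m i ⊗ₜ[R] y' i = 0 := by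
    rw [Fintype.sum_sum_type]
    simp only [m, y', Sum.elim_inl, Sum.elim_inr, tmul_zero, Finset.sum_const_zero, add_zero]
    rw [← hQ0, ht, map_sum]
    rfl
  obtain ⟨k, a, z, h1, h2⟩ := TensorProduct.vanishesTrivially_of_sum_tmul_eq_zero R hspan hsum
  refine ⟨n', c, k, a, z, h1, fun j => ?_⟩
  have := congrArg Q.subtype (h2 j)
  rw [map_sum, map_zero] at this
  rw [← this]
  refine Finset.sum_congr rfl fun i _ => ?_
  rw [map_smul]
  congr 1
  cases i <;> rfl

end Groth.Agent.Helper1.Adq
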