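import Mathlib
import Groth.Prelude.Def_Adeq
import Groth.Agent.Lib.Helper6.Adeq.Pointwise
import Groth.Agent.Lib.Helper1.Adq1

set_option autoImplicit false
universe u
open CategoryTheory CategoryTheory.Limits TensorProduct

namespace Groth.Agent.Helper1.Adq

open Groth.Agent.Lib.Helper6.Adeq

variable {A : Type u} [CommRing A]

/-- the free module on a finite type, in the universe of the values -/
abbrev freeMod (A : Type u) [CommRing A] (κ : Type) : ModuleCat.{u + 1} A :=
  ModuleCat.of A (ULift.{u + 1} κ → A)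

/-- basis vectors -/
def bvec (κ : Type) [DecidableEq κ] (i : κ) : freeMod A κ := Pi.single (ULift.up i) (1 : A)

/-- the linear map of a matrix -/
noncomputable def matMap {κ₁ κ₂ : Type} [Fintype κ₁] (a : κ₁ → κ₂ → A) : freeMod A κ₁ ⟶ freeMod A κ₂ :=
  ModuleCat.ofHom (LinearMap.pi fun j => ∑ i : κ₁, a i j.down • LinearMap.proj (ULift.up i))

/-- the linear map out of a free module given by a family of vectors -/
noncomputable def vecMap {κ₁ : Type} [Fintype κ₁] {M : ModuleCat.{u + 1} A} (m : κ₁ → M) :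
    freeMod A κ₁ ⟶ M :=
  ModuleCat.ofHom (∑ i : κ₁, (LinearMap.proj (ULift.up i)).smulRight (m i))

theorem vecMap_apply {κ₁ : Type} [Fintype κ₁] {M : ModuleCat.{u + 1} A} (m : κ₁ → M)
    (v : freeMod A κ₁) : vecMap m v = ∑ i : κ₁, v (ULift.up i) • m i := by
  simp [vecMap, LinearMap.sum_apply]

theorem matMap_apply {κ₁ κ₂ : Type} [Fintype κ₁] (a : κ₁ → κ₂ → A) (v : freeMod A κ₁)
    (j : ULift.{u + 1} κ₂) : matMap a v j = ∑ i : κ₁, a i j.down * v (ULift.up i) := by
  simp [matMap, LinearMap.sum_apply]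

theorem vecMap_bvec {κ₁ : Type} [Fintype κ₁] [DecidableEq κ₁] {M : ModuleCat.{u + 1} A}
    (m : κ₁ → M) (i : κ₁) : vecMap m (bvec κ₁ i) = m i := by
  rw [vecMap_apply]
  rw [Finset.sum_eq_single i]
  · simp [bvec]
  · intro j _ hj
    have : (ULift.up j : ULift.{u + 1} κ₁) ≠ ULift.up i := fun h => hj (ULift.up_injective h)
    simp [bvec, this]
  · intro h
    exact absurd (Finset.mem_univ i) h

theorem matMap_bvec {κ₁ κ₂ : Type} [Fintype κ₁] [DecidableEq κ₁] (a : κ₁ → κ₂ → A) (i : κ₁)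
    (j : ULift.{u + 1} κ₂) : matMap a (bvec κ₁ i) j = a i j.down := by
  rw [matMap_apply]
  rw [Finset.sum_eq_single i]
  · simp [bvec]
  · intro l _ hl
    have : (ULift.up l : ULift.{u + 1} κ₁) ≠ ULift.up i := fun h => hl (ULift.up_injective h)
    simp [bvec, this]
  · intro h
    exact absurd (Finset.mem_univ i) h

/-- compatibility of `vecMap` and `matMap` -/
theorem vecMap_comp {κ₁ κ₂ : Type} [Fintype κ₁] [Fintype κ₂] {M N : ModuleCat.{u + 1} A}
    (φ : M ⟶ N) (m : κ₁ → M) (a : κ₁ → κ₂ → A) (z : κ₂ → N)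
    (h : ∀ i, φ (m i) = ∑ j, a i j • z j) : vecMap m ≫ φ = matMap a ≫ vecMap z := by
  ext v
  change φ (vecMap m v) = vecMap z (matMap a v)
  rw [vecMap_apply, vecMap_apply, map_sum]
  have h1 : ∀ i : κ₁, φ (v (ULift.up i) • m i) = ∑ j, (a i j * v (ULift.up i)) • z j := by
    intro i
    rw [map_smul, h, Finset.smul_sum]
    refine Finset.sum_congr rfl fun j _ => ?_
    rw [smul_smul, mul_comm]
  have h2 : ∀ j : κ₂, matMap a v (ULift.up j) • z j = ∑ i, (a i j * v (ULift.up i)) • z j := by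
    intro j
    rw [matMap_apply, Finset.sum_smul]
  simp_rw [h1, h2]
  rw [Finset.sum_comm]


/-- the universal vector `∑ b_i ⊗ e_i` -/
noncomputable def uvec {κ₁ : Type} [Fintype κ₁] [DecidableEq κ₁] (B : Adeq.Alg A) (b : κ₁ → B) :
    ((Adeq.underline A).obj (freeMod A κ₁)).obj (Adeq.pt B) :=
  ∑ i : κ₁, ut (freeMod A κ₁) B (b i) (bvec κ₁ i)

theorem underline_vecMap_uvec {κ₁ : Type} [Fintype κ₁] [DecidableEq κ₁] (B : Adeq.Alg A)
    (b : κ₁ → B) {M : ModuleCat.{u + 1} A} (m : κ₁ → M) :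
    ((Adeq.underline A).map (vecMap m)).app (Adeq.pt B) (uvec B b) =
      ∑ i : κ₁, ut M B (b i) (m i) := by
  rw [uvec, map_sum]
  refine Finset.sum_congr rfl fun i _ => ?_
  rw [underline_app_ut, vecMap_bvec]

theorem underline_matMap_uvec {κ₁ κ₂ : Type} [Fintype κ₁] [DecidableEq κ₁] [Fintype κ₂]
    [DecidableEq κ₂] (B : Adeq.Alg A) (b : κ₁ → B) (a : κ₁ → κ₂ → A) :
    ((Adeq.underline A).map (matMap a)).app (Adeq.pt B) (uvec B b) =
      uvec B (fun j => ∑ i, a i j • b i) := by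
  rw [uvec, map_sum, uvec]
  have h1 : ∀ i : κ₁, matMap a (bvec κ₁ i) = ∑ j : κ₂, a i j • bvec κ₂ j := by
    intro i
    funext j
    rw [matMap_bvec, Finset.sum_apply]
    rw [Finset.sum_eq_single j.down]
    · simp [bvec]
    · intro l _ hl
      have : (ULift.up l : ULift.{u + 1} κ₂) ≠ j := fun h => hl (by rw [← h])
      simp [bvec, this.symm]
    · intro h
      exact absurd (Finset.mem_univ _) h
  have h2 : ∀ i : κ₁, ((Adeq.underline A).map (matMap a)).app (Adeq.pt B)
      (ut (freeMod A κ₁) B (b i) (bvec κ₁ i)) =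
      ∑ j : κ₂, ut (freeMod A κ₂) B (a i j • b i) (bvec κ₂ j) := by
    intro i
    rw [underline_app_ut, h1]
    change (b i) ⊗ₜ[A] (∑ j : κ₂, a i j • bvec κ₂ j) = _
    rw [TensorProduct.tmul_sum]
    refine Finset.sum_congr rfl fun j _ => ?_
    exact ut_smul_right (freeMod A κ₂) B (b i) (a i j) (bvec κ₂ j)
  simp_rw [h2]
  rw [Finset.sum_comm]
  refine Finset.sum_congr rfl fun j _ => ?_
  change _ = (∑ i, a i j • b i) ⊗ₜ[A] (bvec κ₂ j)
  rw [TensorProduct.sum_tmul]
  rfl


theorem uvec_zero {κ₁ : Type} [Fintype κ₁] [DecidableEq κ₁] (B : Adeq.Alg A) :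
    uvec (A := A) B (fun _ : κ₁ => (0 : B)) = 0 := by
  rw [uvec]
  refine Finset.sum_eq_zero fun i _ => ?_
  exact ut_zero_left _ B _

/-- the kernel of the map of a matrix is linearly adequate -/
theorem linAdequate_kernel_matMap {κ₁ κ₂ : Type} [Fintype κ₁] [Fintype κ₂] (a : κ₁ → κ₂ → A) :
    Adeq.linAdequate A (kernel ((Adeq.underline A).map (matMap a))) :=
  ⟨freeMod A κ₁, freeMod A κ₂, matMap a, inferInstance, inferInstance, inferInstance,
    inferInstance, ⟨Iso.refl _⟩⟩

/-- **every section of an adequate functor is hit by a linearly adequate functor** -/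
theorem exists_linAdequate_hitting (F : Adeq.MVF A) (hF : Adeq.adequate A F) (B : Adeq.Alg A)
    (ξ : F.obj (Adeq.pt B)) :
    ∃ (L : Adeq.MVF A) (_ : Adeq.linAdequate A L) (π : L ⟶ F) (k : L.obj (Adeq.pt B)),
      π.app (Adeq.pt B) k = ξ := by
  classical
  obtain ⟨M, N, φ, ⟨e⟩⟩ := hF
  set x : ((Adeq.underline A).obj M).obj (Adeq.pt B) :=
    (kernel.ι ((Adeq.underline A).map φ)).app (Adeq.pt B) (e.hom.app (Adeq.pt B) ξ) with hx
  have hx0 : ((Adeq.underline A).map φ).app (Adeq.pt B) x = 0 := by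
    have := congrArg (fun t => t.app (Adeq.pt B) (e.hom.app (Adeq.pt B) ξ))
      (kernel.condition ((Adeq.underline A).map φ))
    exact this
  obtain ⟨n, b, m, hxs⟩ := TensorProduct.exists_sum_tmul_eq (show (B : Type u) ⊗[A] M from x)
  have hxs' : x = ∑ i, ut M B (b i) (m i) := hxs
  have hsum : ∑ i, (b i) ⊗ₜ[A] (φ (m i)) = 0 := by
    rw [hxs', map_sum] at hx0
    exact hx0
  obtain ⟨n', c, k, a, z, h1, h2⟩ := exists_vanishesTrivially b (fun i => φ (m i)) hsum
  let m' : Fin n ⊕ Fin n' → M := Sum.elim m (fun _ => 0)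
  let b' : Fin n ⊕ Fin n' → B := Sum.elim b c
  have h1' : ∀ i, φ (m' i) = ∑ j, a i j • z j := by
    intro i
    rw [← h1 i]
    cases i
    · rfl
    · simp [m']
  have hcomm := vecMap_comp φ m' a z h1'
  have hw : (kernel.ι ((Adeq.underline A).map (matMap a)) ≫ (Adeq.underline A).map (vecMap m')) ≫
      (Adeq.underline A).map φ = 0 := by
    rw [Category.assoc, ← Functor.map_comp, hcomm, Functor.map_comp, ← Category.assoc,
      kernel.condition, zero_comp]
  let π : kernel ((Adeq.underline A).map (matMap a)) ⟶ F :=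
    kernel.lift ((Adeq.underline A).map φ)
      (kernel.ι ((Adeq.underline A).map (matMap a)) ≫ (Adeq.underline A).map (vecMap m')) hw ≫ e.inv
  have hβ : ((Adeq.underline A).map (matMap a)).app (Adeq.pt B) (uvec B b') = 0 := by
    rw [underline_matMap_uvec]
    have : (fun j => ∑ i, a i j • b' i) = fun _ => (0 : B) := by
      funext j
      exact h2 j
    rw [this, uvec_zero]
  obtain ⟨kβ, hkβ⟩ := kernel_app_exact _ B _ hβ
  refine ⟨_, linAdequate_kernel_matMap a, π, kβ, ?_⟩
  -- injectivity of `F ⟶ underline M`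
  have hinj : Function.Injective fun t : F.obj (Adeq.pt B) =>
      (kernel.ι ((Adeq.underline A).map φ)).app (Adeq.pt B) (e.hom.app (Adeq.pt B) t) := by
    intro t t' htt
    have h3 := kernel_app_injective _ B htt
    have h4 : ∀ s, e.inv.app (Adeq.pt B) (e.hom.app (Adeq.pt B) s) = s := by
      intro s
      have := congrArg (fun q => q.app (Adeq.pt B) s) e.hom_inv_id
      exact this
    rw [← h4 t, ← h4 t', h3]
  apply hinj
  change (kernel.ι ((Adeq.underline A).map φ)).app (Adeq.pt B)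
    (e.hom.app (Adeq.pt B) (π.app (Adeq.pt B) kβ)) = x
  have h5 : π ≫ e.hom ≫ kernel.ι ((Adeq.underline A).map φ) =
      kernel.ι ((Adeq.underline A).map (matMap a)) ≫ (Adeq.underline A).map (vecMap m') := by
    simp only [π, Category.assoc, Iso.inv_hom_id_assoc, kernel.lift_ι]
  have h6 := congrArg (fun q => q.app (Adeq.pt B) kβ) h5
  refine h6.trans ?_
  change ((Adeq.underline A).map (vecMap m')).app (Adeq.pt B)
    ((kernel.ι ((Adeq.underline A).map (matMap a))).app (Adeq.pt B) kβ) = x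
  rw [hkβ, underline_vecMap_uvec, hxs', Fintype.sum_sum_type]
  have : ∑ i : Fin n', ut M B (b' (Sum.inr i)) (m' (Sum.inr i)) = 0 := by
    refine Finset.sum_eq_zero fun i _ => ?_
    exact ut_zero_right M B _
  rw [this, add_zero]
  rfl


/-- **an adequate functor is a quotient of a direct sum of linearly adequate functors** -/
theorem exists_epi_coprod_linAdequate (F : Adeq.MVF A) (hF : Adeq.adequate A F) :
    ∃ (ι : Type (u + 1)) (L : ι → Adeq.MVF A), (∀ i, Adeq.linAdequate A (L i)) ∧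
      ∃ (c : Cofan L) (_ : IsColimit c) (π : c.pt ⟶ F), Epi π := by
  classical
  let ι := Σ B : Adeq.Alg A, F.obj (Adeq.pt B)
  choose L hL π k hk using fun i : ι => exists_linAdequate_hitting F hF i.1 i.2
  refine ⟨ι, L, hL, Cofan.mk (∐ L) (Sigma.ι L), coproductIsCoproduct L, Sigma.desc π, ?_⟩
  apply PresheafOfModules.epi_of_surjective
  intro X ξ
  let i : ι := ⟨X.unop.unop, ξ⟩
  refine ⟨(Sigma.ι L i).app X (k i), ?_⟩
  have := congrArg (fun q => q.app X (k i)) (Sigma.ι_desc π i)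
  exact this.trans (hk i)

end Groth.Agent.Helper1.Adq
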