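import Mathlib
import Groth.Prelude.Def_Adeq
import Groth.Agent.Lib.Helper6.Adeq.Pointwise
import Groth.Agent.Lib.Helper1.Adq2

set_option autoImplicit false
universe u
open CategoryTheory CategoryTheory.Limits TensorProduct

namespace Groth.Agent.Helper1.Adq

open Groth.Agent.Lib.Helper6.Adeq

variable {A : Type u} [CommRing A]

section coord

variable {κ₁ : Type} [Fintype κ₁] [DecidableEq κ₁]

/-- the `i`-th coordinate of an element of `B ⊗ A^κ` -/
noncomputable def coord (B : Adeq.Alg A) (i : κ₁) :
    ((Adeq.underline A).obj (freeMod A κ₁)).obj (Adeq.pt B) →+ (B : Type u) :=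
  ((TensorProduct.rid A (B : Type u)).toLinearMap.comp
    (LinearMap.lTensor (B : Type u)
      (LinearMap.proj (ULift.up i) : (ULift.{u + 1} κ₁ → A) →ₗ[A] A))).toAddMonoidHom

theorem coord_ut (B : Adeq.Alg A) (i : κ₁) (c : B) (v : freeMod A κ₁) :
    coord B i (ut (freeMod A κ₁) B c v) = v (ULift.up i) • c := by
  change (TensorProduct.rid A (B : Type u)) (LinearMap.lTensor (B : Type u)
      (LinearMap.proj (ULift.up i) : (ULift.{u + 1} κ₁ → A) →ₗ[A] A) (c ⊗ₜ[A] v)) = _
  rw [LinearMap.lTensor_tmul, TensorProduct.rid_tmul]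
  rfl

theorem coord_uvec (B : Adeq.Alg A) (i : κ₁) (b : κ₁ → B) : coord B i (uvec B b) = b i := by
  rw [uvec, map_sum]
  simp_rw [coord_ut]
  rw [Finset.sum_eq_single i]
  · simp [bvec]
  · intro j _ hj
    have : (ULift.up i : ULift.{u + 1} κ₁) ≠ ULift.up j := fun h => hj (ULift.up_injective h).symm
    simp [bvec, this]
  · intro h
    exact absurd (Finset.mem_univ i) h

theorem uvec_injective (B : Adeq.Alg A) : Function.Injective (uvec (A := A) (κ₁ := κ₁) B) := by
  intro b b' h
  funext i
  rw [← coord_uvec B i b, h, coord_uvec]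

theorem uvec_add (B : Adeq.Alg A) (b b' : κ₁ → B) : uvec B (b + b') = uvec B b + uvec B b' := by
  simp only [uvec, Pi.add_apply, ut_add_left, Finset.sum_add_distrib]

theorem exists_uvec (B : Adeq.Alg A)
    (x : ((Adeq.underline A).obj (freeMod A κ₁)).obj (Adeq.pt B)) : ∃ b : κ₁ → B, x = uvec B b := by
  induction x using ut_induction with
  | h0 => exact ⟨fun _ => 0, (uvec_zero B).symm⟩
  | ht c v =>
    refine ⟨fun i => v (ULift.up i) • c, ?_⟩
    have hv : v = ∑ i : κ₁, v (ULift.up i) • bvec κ₁ i := by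
      funext j
      rw [Finset.sum_apply, Finset.sum_eq_single j.down]
      · simp [bvec]
      · intro l _ hl
        have : (ULift.up l : ULift.{u + 1} κ₁) ≠ j := fun h => hl (by rw [← h])
        simp [bvec, this.symm]
      · intro h
        exact absurd (Finset.mem_univ _) h
    conv_lhs => rw [hv]
    change c ⊗ₜ[A] (∑ i : κ₁, v (ULift.up i) • bvec κ₁ i) = _
    rw [TensorProduct.tmul_sum, uvec]
    refine Finset.sum_congr rfl fun i _ => ?_
    exact ut_smul_right (freeMod A κ₁) B c (v (ULift.up i)) (bvec κ₁ i)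
  | ha z w hz hw =>
    obtain ⟨b, rfl⟩ := hz
    obtain ⟨b', rfl⟩ := hw
    exact ⟨b + b', (uvec_add B b b').symm⟩

theorem underline_map_uvec {B B' : Adeq.Alg A} (f : B ⟶ B') (b : κ₁ → B) :
    ((Adeq.underline A).obj (freeMod A κ₁)).map (Adeq.ptHom f) (uvec B b) =
      uvec B' (fun i => f.hom (b i)) := by
  rw [uvec, map_sum]
  rfl

theorem smul_uvec (B : Adeq.Alg A) (c : B) (b : κ₁ → B) :
    c • uvec B b = uvec B (fun i => c * b i) := by
  rw [uvec, Finset.smul_sum]
  refine Finset.sum_congr rfl fun i _ => ?_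
  exact ut_smul (freeMod A κ₁) B c (b i) (bvec κ₁ i)

end coord


section univ

variable {n m : ℕ} (a : Fin n → Fin m → A)

/-- the relation ideal -/
noncomputable def relIdeal : Ideal (MvPolynomial (Fin n) A) :=
  Ideal.span (Set.range fun j : Fin m =>
    ∑ i, a i j • (MvPolynomial.X i : MvPolynomial (Fin n) A))

/-- the universal ring -/
abbrev UR : Type u := MvPolynomial (Fin n) A ⧸ relIdeal a

/-- the universal coordinates -/
noncomputable def xbar (i : Fin n) : UR a :=
  Ideal.Quotient.mkₐ A (relIdeal a) (MvPolynomial.X i)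

theorem xbar_rel (j : Fin m) : ∑ i, a i j • xbar a i = 0 := by
  have h : Ideal.Quotient.mkₐ A (relIdeal a)
      (∑ i, a i j • (MvPolynomial.X i : MvPolynomial (Fin n) A)) = 0 := by
    rw [Ideal.Quotient.mkₐ_eq_mk]
    exact Ideal.Quotient.eq_zero_iff_mem.2 (Ideal.subset_span ⟨j, rfl⟩)
  rw [map_sum] at h
  simp_rw [map_smul] at h
  exact h

/-- the evaluation morphism -/
noncomputable def ev (B : Adeq.Alg A) (b : Fin n → B) (hb : ∀ j, ∑ i, a i j • b i = 0) :
    Adeq.algOf A (UR a) ⟶ B :=
  CommAlgCat.ofHom (Ideal.Quotient.liftₐ (relIdeal a) (MvPolynomial.aeval b) (by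
    intro p hp
    have hle : relIdeal a ≤ RingHom.ker (MvPolynomial.aeval b : MvPolynomial (Fin n) A →ₐ[A] B) := by
      rw [relIdeal, Ideal.span_le]
      rintro _ ⟨j, rfl⟩
      change MvPolynomial.aeval b _ = 0
      rw [map_sum]
      simp_rw [map_smul, MvPolynomial.aeval_X]
      exact hb j
    exact hle hp))

theorem ev_xbar (B : Adeq.Alg A) (b : Fin n → B) (hb : ∀ j, ∑ i, a i j • b i = 0) (i : Fin n) :
    (ev a B b hb).hom (xbar a i) = b i := by
  change Ideal.Quotient.liftₐ (relIdeal a) (MvPolynomial.aeval b) _ (xbar a i) = b i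
  rw [xbar, Ideal.Quotient.mkₐ_eq_mk, Ideal.Quotient.liftₐ_apply, Ideal.Quotient.lift_mk]
  exact MvPolynomial.aeval_X b i

end univ


section main

variable {n m : ℕ} (a : Fin n → Fin m → A)

/-- an element of the kernel functor is a vector satisfying the relations -/
theorem kernel_rel (B : Adeq.Alg A)
    (z : (kernel ((Adeq.underline A).map (matMap a))).obj (Adeq.pt B)) :
    ∃ b : Fin n → B, (kernel.ι ((Adeq.underline A).map (matMap a))).app (Adeq.pt B) z = uvec B b ∧
      ∀ j, ∑ i, a i j • b i = 0 := by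
  obtain ⟨b, hb⟩ := exists_uvec B ((kernel.ι ((Adeq.underline A).map (matMap a))).app (Adeq.pt B) z)
  refine ⟨b, hb, ?_⟩
  have h0 : ((Adeq.underline A).map (matMap a)).app (Adeq.pt B)
      ((kernel.ι ((Adeq.underline A).map (matMap a))).app (Adeq.pt B) z) = 0 :=
    congrArg (fun t => t.app (Adeq.pt B) z) (kernel.condition ((Adeq.underline A).map (matMap a)))
  rw [hb, underline_matMap_uvec] at h0
  have := uvec_injective B (h0.trans (uvec_zero B).symm)
  intro j
  exact congrFun this j

theorem exists_kernel_elt (B : Adeq.Alg A) (b : Fin n → B) (hb : ∀ j, ∑ i, a i j • b i = 0) :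
    ∃ z : (kernel ((Adeq.underline A).map (matMap a))).obj (Adeq.pt B),
      (kernel.ι ((Adeq.underline A).map (matMap a))).app (Adeq.pt B) z = uvec B b := by
  apply kernel_app_exact
  rw [underline_matMap_uvec]
  have : (fun j => ∑ i, a i j • b i) = fun _ => (0 : B) := funext hb
  rw [this, uvec_zero]


/-- the grading vector `t x_i` -/
noncomputable def bT (i : Fin n) : Polynomial (UR a) := Polynomial.X * Polynomial.C (xbar a i)

theorem bT_rel (j : Fin m) : ∑ i, a i j • bT a i = 0 := by
  have h1 : ∀ i, a i j • bT a i = Polynomial.X * Polynomial.C (a i j • xbar a i) := by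
    intro i
    rw [bT, ← Polynomial.smul_C, mul_smul_comm]
  simp_rw [h1]
  rw [← Finset.mul_sum, ← map_sum, xbar_rel, map_zero, mul_zero]

/-- the span of the universal coordinates -/
noncomputable def Vx : Submodule A (UR a) := Submodule.span A (Set.range (xbar a))

theorem coeff_aeval_bT (p : MvPolynomial (Fin n) A) :
    (MvPolynomial.aeval (bT a) p).coeff 0 ∈ LinearMap.range (Algebra.linearMap A (UR a)) ∧
      (MvPolynomial.aeval (bT a) p).coeff 1 ∈ Vx a := by
  induction p using MvPolynomial.induction_on with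
  | C c =>
    rw [MvPolynomial.aeval_C]
    have : algebraMap A (Polynomial (UR a)) c = Polynomial.C (algebraMap A (UR a) c) := rfl
    rw [this, Polynomial.coeff_C_zero, Polynomial.coeff_C_succ]
    exact ⟨⟨c, rfl⟩, Submodule.zero_mem _⟩
  | add p q hp hq =>
    rw [map_add, Polynomial.coeff_add, Polynomial.coeff_add]
    exact ⟨Submodule.add_mem _ hp.1 hq.1, Submodule.add_mem _ hp.2 hq.2⟩
  | mul_X p i hp =>
    rw [map_mul, MvPolynomial.aeval_X]
    have h1 : MvPolynomial.aeval (bT a) p * bT a i =
        (MvPolynomial.aeval (bT a) p * Polynomial.C (xbar a i)) * Polynomial.X := by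
      rw [bT]
      ring
    rw [h1, Polynomial.coeff_mul_X_zero, Polynomial.coeff_mul_X, Polynomial.coeff_mul_C]
    refine ⟨Submodule.zero_mem _, ?_⟩
    obtain ⟨c, hc⟩ := hp.1
    rw [← hc]
    change algebraMap A (UR a) c * xbar a i ∈ Vx a
    rw [← Algebra.smul_def]
    exact Submodule.smul_mem _ _ (Submodule.subset_span ⟨i, rfl⟩)

/-- elements of `V ⊗ M` are combinations of the universal coordinates -/
theorem exists_vec_of_mem_Vx_tensor {M : Type*} [AddCommGroup M] [Module A M]
    (w : (Vx a) ⊗[A] M) :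
    ∃ g : Fin n → M, LinearMap.rTensor M (Vx a).subtype w = ∑ i, (xbar a i) ⊗ₜ[A] (g i) := by
  induction w using TensorProduct.induction_on with
  | zero => exact ⟨fun _ => 0, by simp⟩
  | tmul v μ =>
    obtain ⟨c, hc⟩ := (Submodule.mem_span_range_iff_exists_fun A).1 v.2
    refine ⟨fun i => c i • μ, ?_⟩
    rw [LinearMap.rTensor_tmul, Submodule.subtype_apply, ← hc, TensorProduct.sum_tmul]
    refine Finset.sum_congr rfl fun i _ => ?_
    rw [TensorProduct.smul_tmul]
  | add w w' hw hw' =>
    obtain ⟨g, hg⟩ := hw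
    obtain ⟨g', hg'⟩ := hw'
    refine ⟨g + g', ?_⟩
    rw [map_add, hg, hg', ← Finset.sum_add_distrib]
    refine Finset.sum_congr rfl fun i _ => ?_
    rw [Pi.add_apply, TensorProduct.tmul_add]


/-- **maps from the kernel of a matrix to `underline M` extend** (free case) -/
theorem exists_vec_of_hom {M : ModuleCat.{u + 1} A}
    (φ : kernel ((Adeq.underline A).map (matMap a)) ⟶ (Adeq.underline A).obj M) :
    ∃ g : Fin n → M,
      kernel.ι ((Adeq.underline A).map (matMap a)) ≫ (Adeq.underline A).map (vecMap g) = φ := by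
  classical
  let RA : Adeq.Alg A := Adeq.algOf A (UR a)
  let TA : Adeq.Alg A := Adeq.algOf A (Polynomial (UR a))
  let cst : RA ⟶ TA := CommAlgCat.ofHom (IsScalarTower.toAlgHom A (UR a) (Polynomial (UR a)))
  let γ : RA ⟶ TA := ev a TA (bT a) (bT_rel a)
  obtain ⟨ξ, hξ⟩ := exists_kernel_elt a RA (xbar a) (xbar_rel a)
  set ω := φ.app (Adeq.pt RA) ξ with hω
  have hstar : ((Adeq.underline A).obj M).map (Adeq.ptHom γ) ω =
      (Polynomial.X : Polynomial (UR a)) •
        ((Adeq.underline A).obj M).map (Adeq.ptHom cst) ω := by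
    have h1 : (kernel.ι ((Adeq.underline A).map (matMap a))).app (Adeq.pt TA)
        ((kernel ((Adeq.underline A).map (matMap a))).map (Adeq.ptHom cst) ξ) =
        uvec TA (fun i => Polynomial.C (xbar a i)) := by
      rw [PresheafOfModules.naturality_apply, hξ, underline_map_uvec]
      rfl
    have h2 : (kernel.ι ((Adeq.underline A).map (matMap a))).app (Adeq.pt TA)
        ((kernel ((Adeq.underline A).map (matMap a))).map (Adeq.ptHom γ) ξ) = uvec TA (bT a) := by
      rw [PresheafOfModules.naturality_apply, hξ, underline_map_uvec]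
      congr 1
      funext i
      exact ev_xbar a TA (bT a) (bT_rel a) i
    have h3 : (kernel ((Adeq.underline A).map (matMap a))).map (Adeq.ptHom γ) ξ =
        (Polynomial.X : Polynomial (UR a)) •
          (kernel ((Adeq.underline A).map (matMap a))).map (Adeq.ptHom cst) ξ := by
      apply kernel_app_injective _ TA
      rw [h2]
      have := ((kernel.ι ((Adeq.underline A).map (matMap a))).app (Adeq.pt TA)).hom.map_smul
        (Polynomial.X : Polynomial (UR a))
        ((kernel ((Adeq.underline A).map (matMap a))).map (Adeq.ptHom cst) ξ)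
      refine Eq.trans ?_ this.symm
      refine Eq.trans ?_ (congrArg (fun t => (Polynomial.X : Polynomial (UR a)) • t) h1.symm)
      have h6 : (Polynomial.X : Polynomial (UR a)) • uvec TA (fun i => Polynomial.C (xbar a i)) =
          uvec TA (bT a) := smul_uvec TA _ _
      exact h6.symm
    have h4 := PresheafOfModules.naturality_apply φ (Adeq.ptHom γ) ξ
    have h5 := PresheafOfModules.naturality_apply φ (Adeq.ptHom cst) ξ
    rw [← h4, h3, ← h5]
    exact (φ.app (Adeq.pt TA)).hom.map_smul _ _
  have hstar' : LinearMap.rTensor M γ.hom.toLinearMap (show (UR a) ⊗[A] M from ω) =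
      (Polynomial.X : Polynomial (UR a)) •
        LinearMap.rTensor M cst.hom.toLinearMap (show (UR a) ⊗[A] M from ω) := hstar
  let c₁ : (Polynomial (UR a)) ⊗[A] M →ₗ[A] (UR a) ⊗[A] M :=
    LinearMap.rTensor M ((Polynomial.lcoeff (UR a) 1).restrictScalars A)
  have hA : ∀ w : (UR a) ⊗[A] M, c₁ ((Polynomial.X : Polynomial (UR a)) •
      (LinearMap.rTensor M cst.hom.toLinearMap w)) = w := by
    intro w
    induction w using TensorProduct.induction_on with
    | zero => simp
    | tmul r μ =>
      rw [LinearMap.rTensor_tmul, TensorProduct.smul_tmul', LinearMap.rTensor_tmul]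
      congr 1
      change ((Polynomial.X : Polynomial (UR a)) * Polynomial.C r).coeff 1 = r
      rw [Polynomial.coeff_X_mul, Polynomial.coeff_C_zero]
    | add w w' hw hw' => rw [map_add, smul_add, map_add, hw, hw']
  let κ : UR a →ₗ[A] UR a :=
    ((Polynomial.lcoeff (UR a) 1).restrictScalars A).comp γ.hom.toLinearMap
  have hκ : ∀ r, κ r ∈ Vx a := by
    intro r
    obtain ⟨p, rfl⟩ := Ideal.Quotient.mkₐ_surjective A (relIdeal a) r
    have h7 : γ.hom (Ideal.Quotient.mkₐ A (relIdeal a) p) = MvPolynomial.aeval (bT a) p := by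
      change Ideal.Quotient.liftₐ (relIdeal a) (MvPolynomial.aeval (bT a)) _ _ = _
      rw [Ideal.Quotient.mkₐ_eq_mk, Ideal.Quotient.liftₐ_apply, Ideal.Quotient.lift_mk]
      rfl
    change (γ.hom (Ideal.Quotient.mkₐ A (relIdeal a) p)).coeff 1 ∈ _
    rw [h7]
    exact (coeff_aeval_bT a p).2
  let κ' : UR a →ₗ[A] Vx a := κ.codRestrict (Vx a) hκ
  have hκ' : (Vx a).subtype.comp κ' = κ := LinearMap.subtype_comp_codRestrict _ _ _
  have hω1 : (show (UR a) ⊗[A] M from ω) =
      LinearMap.rTensor M (Vx a).subtype (LinearMap.rTensor M κ' (show (UR a) ⊗[A] M from ω)) := by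
    rw [← LinearMap.comp_apply, ← LinearMap.rTensor_comp, hκ']
    have h8 : LinearMap.rTensor M κ = c₁.comp (LinearMap.rTensor M γ.hom.toLinearMap) :=
      LinearMap.rTensor_comp M _ _
    rw [h8, LinearMap.comp_apply, hstar', hA]
  obtain ⟨g, hg⟩ := exists_vec_of_mem_Vx_tensor a
    (LinearMap.rTensor M κ' (show (UR a) ⊗[A] M from ω))
  have hωg : ω = ∑ i, ut M RA (xbar a i) (g i) := hω1.trans hg
  refine ⟨g, ?_⟩
  ext X z
  obtain ⟨b, hzb, hb⟩ := kernel_rel a X.unop.unop z
  have hz : z = (kernel ((Adeq.underline A).map (matMap a))).map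
      (Adeq.ptHom (ev a X.unop.unop b hb)) ξ := by
    apply kernel_app_injective _ X.unop.unop
    rw [PresheafOfModules.naturality_apply, hξ, underline_map_uvec]
    refine hzb.trans ?_
    congr 1
    funext i
    exact (ev_xbar a X.unop.unop b hb i).symm
  have hL : (kernel.ι ((Adeq.underline A).map (matMap a)) ≫
      (Adeq.underline A).map (vecMap g)).app X z = ∑ i, ut M X.unop.unop (b i) (g i) := by
    change ((Adeq.underline A).map (vecMap g)).app (Adeq.pt X.unop.unop)
      ((kernel.ι ((Adeq.underline A).map (matMap a))).app (Adeq.pt X.unop.unop) z) = _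
    rw [hzb, underline_vecMap_uvec]
  have hR : φ.app X z = ∑ i, ut M X.unop.unop (b i) (g i) := by
    rw [hz]
    have := PresheafOfModules.naturality_apply φ (Adeq.ptHom (ev a X.unop.unop b hb)) ξ
    refine this.trans ?_
    rw [← hω, hωg, map_sum]
    refine Finset.sum_congr rfl fun i _ => ?_
    rw [underline_map_ut, ev_xbar]
  exact hL.trans hR.symm


end main

section general

theorem exists_matMap {κ₁ κ₂ : Type} [Fintype κ₁] [DecidableEq κ₁] (ψ : freeMod A κ₁ ⟶ freeMod A κ₂) :
    ∃ a : κ₁ → κ₂ → A, ψ = matMap a := by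
  refine ⟨fun i j => ψ (bvec κ₁ i) (ULift.up j), ?_⟩
  apply ModuleCat.hom_ext
  apply LinearMap.ext
  intro v
  funext j
  change (ψ v) j = (matMap _ v) j
  have hv : v = ∑ i : κ₁, v (ULift.up i) • bvec κ₁ i := by
    funext l
    rw [Finset.sum_apply, Finset.sum_eq_single l.down]
    · simp [bvec]
    · intro i _ hi
      have : (ULift.up i : ULift.{u + 1} κ₁) ≠ l := fun h => hi (by rw [← h])
      simp [bvec, this.symm]
    · intro h
      exact absurd (Finset.mem_univ _) h
  rw [matMap_apply]
  conv_lhs => rw [hv]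
  rw [map_sum, Finset.sum_apply]
  refine Finset.sum_congr rfl fun i _ => ?_
  rw [map_smul, Pi.smul_apply, smul_eq_mul, mul_comm]

/-- a finite free module is isomorphic to a standard one -/
theorem exists_iso_freeMod [Nontrivial A] (P : ModuleCat.{u + 1} A) [Module.Finite A P]
    [Module.Free A P] : ∃ n : ℕ, Nonempty (freeMod A (Fin n) ≅ P) := by
  let b := Module.Free.chooseBasis A P
  let e := Fintype.equivFin (Module.Free.ChooseBasisIndex A P)
  let b' : Module.Basis (ULift.{u + 1} (Fin (Fintype.card (Module.Free.ChooseBasisIndex A P)))) A P :=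
    b.reindex (e.trans Equiv.ulift.symm)
  exact ⟨_, ⟨(b'.equivFun.symm).toModuleIso⟩⟩

/-- **maps from the kernel of a map of finite free modules to `underline M` extend** -/
theorem exists_hom_of_kernel (P P' M : ModuleCat.{u + 1} A)
    [Module.Finite A P] [Module.Free A P] [Module.Finite A P'] [Module.Free A P'] (φ₀ : P ⟶ P')
    (φ : kernel ((Adeq.underline A).map φ₀) ⟶ (Adeq.underline A).obj M) :
    ∃ g : P ⟶ M, kernel.ι ((Adeq.underline A).map φ₀) ≫ (Adeq.underline A).map g = φ := by
  classical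
  rcases subsingleton_or_nontrivial A with hA | hA
  · refine ⟨0, ?_⟩
    ext X z
    haveI : Subsingleton (((Adeq.underline A).obj M).obj X) :=
      (Module.subsingleton A ((X.unop.unop : Type u) ⊗[A] M) :)
    exact Subsingleton.elim _ _
  · obtain ⟨n, ⟨α⟩⟩ := exists_iso_freeMod P
    obtain ⟨m, ⟨α'⟩⟩ := exists_iso_freeMod P'
    obtain ⟨a, ha⟩ := exists_matMap (α.hom ≫ φ₀ ≫ α'.inv)
    have hc1 : α.hom ≫ φ₀ = matMap a ≫ α'.hom := by
      rw [← ha, Category.assoc, Category.assoc, Iso.inv_hom_id, Category.comp_id]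
    have hc2 : α.inv ≫ matMap a = φ₀ ≫ α'.inv := by
      rw [← ha, Iso.inv_hom_id_assoc]
    let κ : kernel ((Adeq.underline A).map (matMap a)) ⟶ kernel ((Adeq.underline A).map φ₀) :=
      kernel.map _ _ ((Adeq.underline A).map α.hom) ((Adeq.underline A).map α'.hom)
        (by rw [← Functor.map_comp, ← Functor.map_comp, hc1])
    let κinv : kernel ((Adeq.underline A).map φ₀) ⟶ kernel ((Adeq.underline A).map (matMap a)) :=
      kernel.map _ _ ((Adeq.underline A).map α.inv) ((Adeq.underline A).map α'.inv)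
        (by rw [← Functor.map_comp, ← Functor.map_comp, hc2])
    have hκ : κinv ≫ κ = 𝟙 _ := by
      rw [← cancel_mono (kernel.ι ((Adeq.underline A).map φ₀))]
      simp only [κ, κinv, Category.assoc, kernel.lift_ι, kernel.lift_ι_assoc, Category.id_comp]
      rw [← CategoryTheory.Functor.map_comp, Iso.inv_hom_id, CategoryTheory.Functor.map_id,
        Category.comp_id]
    obtain ⟨g', hg'⟩ := exists_vec_of_hom a (κ ≫ φ)
    refine ⟨α.inv ≫ vecMap g', ?_⟩
    have h1 : kernel.ι ((Adeq.underline A).map φ₀) ≫ (Adeq.underline A).map α.inv =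
        κinv ≫ kernel.ι ((Adeq.underline A).map (matMap a)) := by
      simp only [κinv, kernel.lift_ι]
    rw [Functor.map_comp, ← Category.assoc, h1, Category.assoc, hg', ← Category.assoc, hκ,
      Category.id_comp]

end general

end Groth.Agent.Helper1.Adq
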