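import Mathlib
import Groth.Prelude.Def_Adeq
import Groth.Agent.Lib.Helper6.Adeq.Pointwise
import Groth.Agent.Lib.Helper1.Adq3

set_option autoImplicit false
set_option linter.unusedSectionVars false
universe u
open CategoryTheory CategoryTheory.Limits TensorProduct

namespace Groth.Agent.Helper1.Adq

open Groth.Agent.Lib.Helper6.Adeq

variable {A : Type u} [CommRing A]

section univ

variable {κ₁ κ₂ : Type} [Fintype κ₁] [DecidableEq κ₁] [Fintype κ₂] [DecidableEq κ₂]
  (a : κ₁ → κ₂ → A)

/-- the relation ideal -/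
noncomputable def relIdealG : Ideal (MvPolynomial (κ₁) A) :=
  Ideal.span (Set.range fun j : κ₂ =>
    ∑ i, a i j • (MvPolynomial.X i : MvPolynomial (κ₁) A))

/-- the universal ring -/
abbrev URG : Type u := MvPolynomial (κ₁) A ⧸ relIdealG a

/-- the universal coordinates -/
noncomputable def xbarG (i : κ₁) : URG a :=
  Ideal.Quotient.mkₐ A (relIdealG a) (MvPolynomial.X i)

theorem xbar_relG (j : κ₂) : ∑ i, a i j • xbarG a i = 0 := by
  have h : Ideal.Quotient.mkₐ A (relIdealG a)
      (∑ i, a i j • (MvPolynomial.X i : MvPolynomial (κ₁) A)) = 0 := by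
    rw [Ideal.Quotient.mkₐ_eq_mk]
    exact Ideal.Quotient.eq_zero_iff_mem.2 (Ideal.subset_span ⟨j, rfl⟩)
  rw [map_sum] at h
  simp_rw [map_smul] at h
  exact h

/-- the evaluation morphism -/
noncomputable def evG (B : Adeq.Alg A) (b : κ₁ → B) (hb : ∀ j, ∑ i, a i j • b i = 0) :
    Adeq.algOf A (URG a) ⟶ B :=
  CommAlgCat.ofHom (Ideal.Quotient.liftₐ (relIdealG a) (MvPolynomial.aeval b) (by
    intro p hp
    have hle : relIdealG a ≤ RingHom.ker (MvPolynomial.aeval b : MvPolynomial (κ₁) A →ₐ[A] B) := by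
      rw [relIdealG, Ideal.span_le]
      rintro _ ⟨j, rfl⟩
      change MvPolynomial.aeval b _ = 0
      rw [map_sum]
      simp_rw [map_smul, MvPolynomial.aeval_X]
      exact hb j
    exact hle hp))

theorem ev_xbarG (B : Adeq.Alg A) (b : κ₁ → B) (hb : ∀ j, ∑ i, a i j • b i = 0) (i : κ₁) :
    (evG a B b hb).hom (xbarG a i) = b i := by
  change Ideal.Quotient.liftₐ (relIdealG a) (MvPolynomial.aeval b) _ (xbarG a i) = b i
  rw [xbarG, Ideal.Quotient.mkₐ_eq_mk, Ideal.Quotient.liftₐ_apply, Ideal.Quotient.lift_mk]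
  exact MvPolynomial.aeval_X b i

end univ


section main

variable {κ₁ κ₂ : Type} [Fintype κ₁] [DecidableEq κ₁] [Fintype κ₂] [DecidableEq κ₂]
  (a : κ₁ → κ₂ → A)

/-- an element of the kernel functor is a vector satisfying the relations -/
theorem kernel_relG (B : Adeq.Alg A)
    (z : (kernel ((Adeq.underline A).map (matMap a))).obj (Adeq.pt B)) :
    ∃ b : κ₁ → B, (kernel.ι ((Adeq.underline A).map (matMap a))).app (Adeq.pt B) z = uvec B b ∧
      ∀ j, ∑ i, a i j • b i = 0 := by
  obtain ⟨b, hb⟩ := exists_uvec B ((kernel.ι ((Adeq.underline A).map (matMap a))).app (Adeq.pt B) z)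
  refine ⟨b, hb, ?_⟩
  have h0 : ((Adeq.underline A).map (matMap a)).app (Adeq.pt B)
      ((kernel.ι ((Adeq.underline A).map (matMap a))).app (Adeq.pt B) z) = 0 :=
    congrArg (fun t => t.app (Adeq.pt B) z) (kernel.condition ((Adeq.underline A).map (matMap a)))
  rw [hb, underline_matMap_uvec] at h0
  have := uvec_injective B (h0.trans (uvec_zero B).symm)
  intro j
  exact congrFun this j

theorem exists_kernel_eltG (B : Adeq.Alg A) (b : κ₁ → B) (hb : ∀ j, ∑ i, a i j • b i = 0) :
    ∃ z : (kernel ((Adeq.underline A).map (matMap a))).obj (Adeq.pt B),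
      (kernel.ι ((Adeq.underline A).map (matMap a))).app (Adeq.pt B) z = uvec B b := by
  apply kernel_app_exact
  rw [underline_matMap_uvec]
  have : (fun j => ∑ i, a i j • b i) = fun _ => (0 : B) := funext hb
  rw [this, uvec_zero]


/-- the grading vector `t x_i` -/
noncomputable def bTG (i : κ₁) : Polynomial (URG a) := Polynomial.X * Polynomial.C (xbarG a i)

theorem bT_relG (j : κ₂) : ∑ i, a i j • bTG a i = 0 := by
  have h1 : ∀ i, a i j • bTG a i = Polynomial.X * Polynomial.C (a i j • xbarG a i) := by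
    intro i
    rw [bTG, ← Polynomial.smul_C, mul_smul_comm]
  simp_rw [h1]
  rw [← Finset.mul_sum, ← map_sum, xbar_relG, map_zero, mul_zero]

/-- the span of the universal coordinates -/
noncomputable def VxG : Submodule A (URG a) := Submodule.span A (Set.range (xbarG a))

theorem coeff_aeval_bTG (p : MvPolynomial (κ₁) A) :
    (MvPolynomial.aeval (bTG a) p).coeff 0 ∈ LinearMap.range (Algebra.linearMap A (URG a)) ∧
      (MvPolynomial.aeval (bTG a) p).coeff 1 ∈ VxG a := by
  induction p using MvPolynomial.induction_on with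
  | C c =>
    rw [MvPolynomial.aeval_C]
    have : algebraMap A (Polynomial (URG a)) c = Polynomial.C (algebraMap A (URG a) c) := rfl
    rw [this, Polynomial.coeff_C_zero, Polynomial.coeff_C_succ]
    exact ⟨⟨c, rfl⟩, Submodule.zero_mem _⟩
  | add p q hp hq =>
    rw [map_add, Polynomial.coeff_add, Polynomial.coeff_add]
    exact ⟨Submodule.add_mem _ hp.1 hq.1, Submodule.add_mem _ hp.2 hq.2⟩
  | mul_X p i hp =>
    rw [map_mul, MvPolynomial.aeval_X]
    have h1 : MvPolynomial.aeval (bTG a) p * bTG a i =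
        (MvPolynomial.aeval (bTG a) p * Polynomial.C (xbarG a i)) * Polynomial.X := by
      rw [bTG]
      ring
    rw [h1, Polynomial.coeff_mul_X_zero, Polynomial.coeff_mul_X, Polynomial.coeff_mul_C]
    refine ⟨Submodule.zero_mem _, ?_⟩
    obtain ⟨c, hc⟩ := hp.1
    rw [← hc]
    change algebraMap A (URG a) c * xbarG a i ∈ VxG a
    rw [← Algebra.smul_def]
    exact Submodule.smul_mem _ _ (Submodule.subset_span ⟨i, rfl⟩)

/-- elements of `V ⊗ M` are combinations of the universal coordinates -/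
theorem exists_vec_of_mem_Vx_tensorG {M : Type*} [AddCommGroup M] [Module A M]
    (w : (VxG a) ⊗[A] M) :
    ∃ g : κ₁ → M, LinearMap.rTensor M (VxG a).subtype w = ∑ i, (xbarG a i) ⊗ₜ[A] (g i) := by
  induction w using TensorProduct.induction_on with
  | zero => exact ⟨fun _ => 0, by simp⟩
  | tmul v μ =>
    obtain ⟨c, hc⟩ := (Submodule.mem_span_range_iff_exists_fun A).1 v.2
    refine ⟨fun i => c i • μ, ?_⟩
    rw [LinearMap.rTensor_tmul, Submodule.subtype_apply, ← hc, TensorProduct.sum_tmul]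
    refine Finset.sum_congr rfl fun i _ => ?_
    rw [TensorProduct.smul_tmul]
  | add w w' hw hw' =>
    obtain ⟨g, hg⟩ := hw
    obtain ⟨g', hg'⟩ := hw'
    refine ⟨g + g', ?_⟩
    rw [map_add, hg, hg', ← Finset.sum_add_distrib]
    refine Finset.sum_congr rfl fun i _ => ?_
    rw [Pi.add_apply, TensorProduct.tmul_add]



end main

section more

variable {κ₁ κ₂ : Type} [Fintype κ₁] [DecidableEq κ₁] [Fintype κ₂] [DecidableEq κ₂]
  (a : κ₁ → κ₂ → A)

/-- the kernel functor of a matrix -/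
noncomputable abbrev LK : Adeq.MVF A := kernel ((Adeq.underline A).map (matMap a))

/-- the universal algebra as an object -/
noncomputable abbrev CA : Adeq.Alg A := Adeq.algOf A (URG a)

theorem URG_hom_ext {B : Adeq.Alg A} (f g : CA a ⟶ B)
    (h : ∀ i, f.hom (xbarG a i) = g.hom (xbarG a i)) : f = g := by
  apply CommAlgCat.hom_ext
  apply Ideal.Quotient.algHom_ext
  apply MvPolynomial.algHom_ext
  intro i
  exact h i

theorem evG_comp {B B' : Adeq.Alg A} (f : B ⟶ B') (b : κ₁ → B)
    (hb : ∀ j, ∑ i, a i j • b i = 0) (hb' : ∀ j, ∑ i, a i j • f.hom (b i) = 0) :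
    evG a B b hb ≫ f = evG a B' (fun i => f.hom (b i)) hb' := by
  apply URG_hom_ext
  intro i
  change f.hom ((evG a B b hb).hom (xbarG a i)) = _
  rw [ev_xbarG, ev_xbarG]

theorem rel_map {B B' : Adeq.Alg A} (f : B ⟶ B') (b : κ₁ → B)
    (hb : ∀ j, ∑ i, a i j • b i = 0) : ∀ j, ∑ i, a i j • f.hom (b i) = 0 := by
  intro j
  have := congrArg f.hom (hb j)
  rw [map_sum, map_zero] at this
  simp_rw [map_smul] at this
  exact this

/-- the universal element -/
noncomputable def xiG : (LK a).obj (Adeq.pt (CA a)) :=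
  (exists_kernel_eltG a (CA a) (xbarG a) (xbar_relG a)).choose

theorem ι_xiG : (kernel.ι ((Adeq.underline A).map (matMap a))).app (Adeq.pt (CA a)) (xiG a) =
    uvec (CA a) (xbarG a) :=
  (exists_kernel_eltG a (CA a) (xbarG a) (xbar_relG a)).choose_spec

/-- the element of the kernel functor with given coordinates -/
noncomputable def zK (B : Adeq.Alg A) (b : κ₁ → B) (hb : ∀ j, ∑ i, a i j • b i = 0) :
    (LK a).obj (Adeq.pt B) :=
  (exists_kernel_eltG a B b hb).choose

theorem ι_zK (B : Adeq.Alg A) (b : κ₁ → B) (hb : ∀ j, ∑ i, a i j • b i = 0) :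
    (kernel.ι ((Adeq.underline A).map (matMap a))).app (Adeq.pt B) (zK a B b hb) = uvec B b :=
  (exists_kernel_eltG a B b hb).choose_spec

theorem LK_ext (B : Adeq.Alg A) (z z' : (LK a).obj (Adeq.pt B))
    (h : (kernel.ι ((Adeq.underline A).map (matMap a))).app (Adeq.pt B) z =
      (kernel.ι ((Adeq.underline A).map (matMap a))).app (Adeq.pt B) z') : z = z' :=
  kernel_app_injective _ B h

theorem map_zK {B B' : Adeq.Alg A} (f : B ⟶ B') (b : κ₁ → B) (hb : ∀ j, ∑ i, a i j • b i = 0) :
    (LK a).map (Adeq.ptHom f) (zK a B b hb) = zK a B' (fun i => f.hom (b i)) (rel_map a f b hb) := by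
  refine LK_ext a B' _ _ ?_
  rw [PresheafOfModules.naturality_apply, ι_zK, ι_zK, underline_map_uvec]

theorem map_ev_xiG (B : Adeq.Alg A) (b : κ₁ → B) (hb : ∀ j, ∑ i, a i j • b i = 0) :
    (LK a).map (Adeq.ptHom (evG a B b hb)) (xiG a) = zK a B b hb := by
  refine LK_ext a B _ _ ?_
  rw [PresheafOfModules.naturality_apply, ι_xiG, ι_zK, underline_map_uvec]
  congr 1
  funext i
  exact ev_xbarG a B b hb i

/-- coordinates of an element of the kernel functor -/
noncomputable def kc (B : Adeq.Alg A) (z : (LK a).obj (Adeq.pt B)) : κ₁ → B :=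
  (kernel_relG a B z).choose

theorem kc_rel (B : Adeq.Alg A) (z : (LK a).obj (Adeq.pt B)) :
    ∀ j, ∑ i, a i j • kc a B z i = 0 := (kernel_relG a B z).choose_spec.2

theorem ι_eq_uvec_kc (B : Adeq.Alg A) (z : (LK a).obj (Adeq.pt B)) :
    (kernel.ι ((Adeq.underline A).map (matMap a))).app (Adeq.pt B) z = uvec B (kc a B z) :=
  (kernel_relG a B z).choose_spec.1

theorem zK_kc (B : Adeq.Alg A) (z : (LK a).obj (Adeq.pt B)) :
    zK a B (kc a B z) (kc_rel a B z) = z := by
  apply LK_ext
  rw [ι_zK, ι_eq_uvec_kc]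

theorem kc_zK (B : Adeq.Alg A) (b : κ₁ → B) (hb : ∀ j, ∑ i, a i j • b i = 0) :
    kc a B (zK a B b hb) = b := by
  apply uvec_injective B
  rw [← ι_eq_uvec_kc, ι_zK]

theorem kc_add (B : Adeq.Alg A) (z z' : (LK a).obj (Adeq.pt B)) :
    kc a B (z + z') = kc a B z + kc a B z' := by
  apply uvec_injective B
  rw [← ι_eq_uvec_kc, map_add, ι_eq_uvec_kc, ι_eq_uvec_kc, uvec_add]

theorem kc_smul (B : Adeq.Alg A) (c : B) (z : (LK a).obj (Adeq.pt B)) :
    kc a B (c • z) = fun i => c * kc a B z i := by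
  apply uvec_injective B
  rw [← ι_eq_uvec_kc, ← smul_uvec, ← ι_eq_uvec_kc]
  exact ((kernel.ι ((Adeq.underline A).map (matMap a))).app (Adeq.pt B)).hom.map_smul c z

theorem kc_map {B B' : Adeq.Alg A} (f : B ⟶ B') (z : (LK a).obj (Adeq.pt B)) :
    kc a B' ((LK a).map (Adeq.ptHom f) z) = fun i => f.hom (kc a B z i) := by
  apply uvec_injective B'
  rw [← ι_eq_uvec_kc, PresheafOfModules.naturality_apply, ι_eq_uvec_kc, underline_map_uvec]

end more

end Groth.Agent.Helper1.Adq
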