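import Mathlib

set_option autoImplicit false
set_option maxHeartbeats 400000

universe u v

open TensorProduct Polynomial

namespace Groth.Agent.Helper1.Adq

section poly

variable {A : Type u} [CommRing A] (R : Type u) [CommRing R] [Algebra A R]
  (M : Type v) [AddCommGroup M] [Module A M]

/-- coefficient of `X^1` on tensors -/
noncomputable def c1 : R[X] ⊗[A] M →ₗ[A] R ⊗[A] M :=
  LinearMap.rTensor M ((Polynomial.lcoeff R 1).restrictScalars A)

/-- constants, as an `A`-algebra map -/
noncomputable def cstAlg : R →ₐ[A] R[X] := IsScalarTower.toAlgHom A R R[X]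

theorem cstAlg_apply (r : R) : cstAlg (A := A) R r = C r := rfl

variable {M} in
theorem smul_eq_rTensor {R' : Type*} [CommRing R'] [Algebra A R'] (r : R') (w : R' ⊗[A] M) :
    r • w = LinearMap.rTensor M (LinearMap.mulLeft A r) w := by
  induction w using TensorProduct.induction_on with
  | zero => simp
  | tmul s m => rw [TensorProduct.smul_tmul', LinearMap.rTensor_tmul]; rfl
  | add w w' hw hw' => rw [smul_add, map_add, hw, hw']

theorem c1_X_smul_cst (w : R ⊗[A] M) :
    c1 R M ((X : R[X]) • LinearMap.rTensor M (cstAlg (A := A) R).toLinearMap w) = w := by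
  rw [smul_eq_rTensor, c1, ← LinearMap.rTensor_comp_apply, ← LinearMap.rTensor_comp_apply]
  have : ((Polynomial.lcoeff R 1).restrictScalars A ∘ₗ LinearMap.mulLeft A (X : R[X])) ∘ₗ
      (cstAlg (A := A) R).toLinearMap = LinearMap.id := by
    apply LinearMap.ext
    intro r
    change ((X : R[X]) * C r).coeff 1 = r
    rw [Polynomial.coeff_X_mul, Polynomial.coeff_C_zero]
  rw [this, LinearMap.rTensor_id, LinearMap.id_apply]

variable {R} in
theorem c1_mapAlgHom {R' : Type u} [CommRing R'] [Algebra A R'] (γ : R →ₐ[A] R')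
    (w : R[X] ⊗[A] M) :
    c1 R' M (LinearMap.rTensor M (Polynomial.mapAlgHom γ).toLinearMap w) =
      LinearMap.rTensor M γ.toLinearMap (c1 R M w) := by
  rw [c1, c1, ← LinearMap.rTensor_comp_apply, ← LinearMap.rTensor_comp_apply]
  congr 2
  apply LinearMap.ext
  intro q
  change (Polynomial.map (γ : R →+* R') q).coeff 1 = γ (q.coeff 1)
  rw [Polynomial.coeff_map]
  rfl

/-- the substitution `X ↦ X * C X` (outer times inner variable) -/
noncomputable def betAlg : R[X] →ₐ[A] R[X][X] :=
  (Polynomial.aeval (R := R) ((X : R[X][X]) * C (X : R[X]))).restrictScalars A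

theorem betAlg_C (r : R) : betAlg (A := A) R (C r) = C (C r) := by
  change Polynomial.aeval (R := R) ((X : R[X][X]) * C (X : R[X])) (C r) = _
  rw [Polynomial.aeval_C]
  rfl

theorem betAlg_X : betAlg (A := A) R X = (X : R[X][X]) * C (X : R[X]) := by
  change Polynomial.aeval (R := R) ((X : R[X][X]) * C (X : R[X])) X = _
  rw [Polynomial.aeval_X]

theorem coeff_one_betAlg (q : R[X]) :
    (betAlg (A := A) R q).coeff 1 = (X : R[X]) * C (q.coeff 1) := by
  induction q using Polynomial.induction_on' with
  | add q q' hq hq' => rw [map_add, Polynomial.coeff_add, hq, hq', Polynomial.coeff_add, C_add, mul_add]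
  | monomial k r =>
    rw [← Polynomial.C_mul_X_pow_eq_monomial, map_mul, map_pow, betAlg_C, betAlg_X, mul_pow,
      ← C_pow]
    have : (C (C r) : R[X][X]) * ((X : R[X][X]) ^ k * C ((X : R[X]) ^ k)) =
        C (C r * X ^ k) * X ^ k := by
      rw [C_mul]
      ring
    rw [this, Polynomial.coeff_C_mul_X_pow, Polynomial.coeff_C_mul_X_pow]
    by_cases hk : 1 = k
    · subst hk
      simp
    · simp [hk]

theorem c1_betAlg (w : R[X] ⊗[A] M) :
    c1 R[X] M (LinearMap.rTensor M (betAlg (A := A) R).toLinearMap w) =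
      (X : R[X]) • LinearMap.rTensor M (cstAlg (A := A) R).toLinearMap (c1 R M w) := by
  rw [smul_eq_rTensor, c1, c1, ← LinearMap.rTensor_comp_apply, ← LinearMap.rTensor_comp_apply,
    ← LinearMap.rTensor_comp_apply]
  congr 2
  apply LinearMap.ext
  intro q
  exact coeff_one_betAlg (A := A) R q

end poly

end Groth.Agent.Helper1.Adq
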