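import Mathlib
import Groth.Prelude.Def_Adeq
import Groth.Agent.Lib.Helper6.Adeq.Pointwise
import Groth.Agent.Lib.Helper1.Adq12

set_option autoImplicit false
set_option linter.unusedSectionVars false
set_option linter.unusedVariables false
set_option maxHeartbeats 400000
universe u
open CategoryTheory CategoryTheory.Limits TensorProduct Polynomial

namespace Groth.Agent.Helper1.Adq

open Groth.Agent.Lib.Helper6.Adeq

variable {A : Type u} [CommRing A]

section mvfbasic

/-- the transition map of a module valued functor as a plain function -/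
noncomputable def mvfMap (F : Adeq.MVF A) {B B' : Adeq.Alg A} (f : B ⟶ B') (x : F.obj (Adeq.pt B)) :
    F.obj (Adeq.pt B') := F.map (Adeq.ptHom f) x

theorem mvfMap_smul (F : Adeq.MVF A) {B B' : Adeq.Alg A} (f : B ⟶ B') (r : B)
    (x : F.obj (Adeq.pt B)) : mvfMap F f (r • x) = (f.hom r) • mvfMap F f x :=
  F.map_smul (Adeq.ptHom f) r x

theorem mvfMap_comp (F : Adeq.MVF A) {B B' B'' : Adeq.Alg A} (f : B ⟶ B') (g : B' ⟶ B'')
    (x : F.obj (Adeq.pt B)) : mvfMap F (f ≫ g) x = mvfMap F g (mvfMap F f x) :=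
  F.map_comp_apply (Adeq.ptHom f) (Adeq.ptHom g) x

theorem mvfMap_nat {F F' : Adeq.MVF A} (φ : F ⟶ F') {B B' : Adeq.Alg A} (f : B ⟶ B')
    (x : F.obj (Adeq.pt B)) :
    φ.app (Adeq.pt B') (mvfMap F f x) = mvfMap F' f (φ.app (Adeq.pt B) x) :=
  PresheafOfModules.naturality_apply φ (Adeq.ptHom f) x

theorem mvfMap_add (F : Adeq.MVF A) {B B' : Adeq.Alg A} (f : B ⟶ B')
    (x y : F.obj (Adeq.pt B)) : mvfMap F f (x + y) = mvfMap F f x + mvfMap F f y :=
  map_add (F.map (Adeq.ptHom f)).hom x y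

theorem mvfMap_sub (F : Adeq.MVF A) {B B' : Adeq.Alg A} (f : B ⟶ B')
    (x y : F.obj (Adeq.pt B)) : mvfMap F f (x - y) = mvfMap F f x - mvfMap F f y :=
  map_sub (F.map (Adeq.ptHom f)).hom x y

theorem mvfMap_zero (F : Adeq.MVF A) {B B' : Adeq.Alg A} (f : B ⟶ B') :
    mvfMap F f (0 : F.obj (Adeq.pt B)) = 0 :=
  map_zero (F.map (Adeq.ptHom f)).hom

theorem mvfMap_underline (M : ModuleCat.{u + 1} A) {B B' : Adeq.Alg A} (f : B ⟶ B')
    (w : ((Adeq.underline A).obj M).obj (Adeq.pt B)) :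
    mvfMap ((Adeq.underline A).obj M) f w =
      LinearMap.rTensor M f.hom.toLinearMap (show (B : Type u) ⊗[A] M from w) := rfl

end mvfbasic

section generic

variable (R : Type u) [CommRing R] [Algebra A R]

/-- `R` as an object -/
noncomputable abbrev RA : Adeq.Alg A := Adeq.algOf A R

/-- `R[X]` -/
noncomputable abbrev SAg : Adeq.Alg A := Adeq.algOf A R[X]

/-- `R[X][X]` -/
noncomputable abbrev TAg : Adeq.Alg A := Adeq.algOf A R[X][X]

/-- constants -/
noncomputable def cstR : RA (A := A) R ⟶ SAg R := CommAlgCat.ofHom (cstAlg R)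

/-- constants -/
noncomputable def cstSg : SAg (A := A) R ⟶ TAg R := CommAlgCat.ofHom (cstAlg R[X])

/-- `X ↦ X * C X` -/
noncomputable def betg : SAg (A := A) R ⟶ TAg R := CommAlgCat.ofHom (betAlg R)

variable {R}

/-- scaling of the coefficients -/
noncomputable def alpg (γ : R →ₐ[A] R[X]) : SAg (A := A) R ⟶ TAg R :=
  CommAlgCat.ofHom (Polynomial.mapAlgHom γ)

/-- the scaling as a morphism -/
noncomputable def gamg (γ : R →ₐ[A] R[X]) : RA (A := A) R ⟶ SAg R := CommAlgCat.ofHom γ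

variable (γ : R →ₐ[A] R[X])

theorem cst_alpg : cstR R ≫ alpg γ = gamg γ ≫ cstSg R := by
  apply CommAlgCat.hom_ext
  apply AlgHom.ext
  intro r
  change Polynomial.map (γ : R →+* R[X]) (C r) = C (γ r)
  rw [Polynomial.map_C]
  rfl

theorem cst_betg : cstR (A := A) R ≫ betg R = cstR R ≫ cstSg R := by
  apply CommAlgCat.hom_ext
  apply AlgHom.ext
  intro r
  change betAlg (A := A) R (C r) = C (C r)
  rw [betAlg_C]

theorem gam_alpg (hγ : (Polynomial.mapAlgHom γ).comp γ = (betAlg R).comp γ) :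
    gamg γ ≫ alpg γ = gamg γ ≫ betg R := by
  apply CommAlgCat.hom_ext
  exact hγ

theorem alpg_X : (alpg γ).hom (X : R[X]) = (X : R[X][X]) := by
  change Polynomial.map _ X = _
  rw [Polynomial.map_X]

theorem betg_X : (betg (A := A) R).hom (X : R[X]) = (X : R[X][X]) * C (X : R[X]) :=
  betAlg_X (A := A) R

theorem cstSg_X : (cstSg (A := A) R).hom (X : R[X]) = C (X : R[X]) := rfl

end generic

section lift

variable {R : Type u} [CommRing R] [Algebra A R] (γ : R →ₐ[A] R[X])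
  (hγ : (Polynomial.mapAlgHom γ).comp γ = (betAlg R).comp γ)
  {M : ModuleCat.{u + 1} A} {G H : Adeq.MVF A} (i : (Adeq.underline A).obj M ⟶ G) (p : G ⟶ H)
  (hi : ∀ B : Adeq.Alg A, Function.Injective (i.app (Adeq.pt B)))
  (hex : ∀ (B : Adeq.Alg A) (g : G.obj (Adeq.pt B)), p.app (Adeq.pt B) g = 0 →
    ∃ x, i.app (Adeq.pt B) x = g)
  (hip : i ≫ p = 0)

include hγ hi hex hip in
/-- **existence of a lift of weight one** -/
theorem exists_weight_one_lift (ξ' : H.obj (Adeq.pt (RA R)))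
    (hξ' : mvfMap H (gamg γ) ξ' = (X : R[X]) • mvfMap H (cstR R) ξ')
    (θ₀ : G.obj (Adeq.pt (RA R))) (hθ₀ : p.app (Adeq.pt (RA R)) θ₀ = ξ') :
    ∃ θ : G.obj (Adeq.pt (RA R)), p.app (Adeq.pt (RA R)) θ = ξ' ∧
      mvfMap G (gamg γ) θ = (X : R[X]) • mvfMap G (cstR R) θ := by
  have hip' : ∀ (B : Adeq.Alg A) (x : ((Adeq.underline A).obj M).obj (Adeq.pt B)),
      p.app (Adeq.pt B) (i.app (Adeq.pt B) x) = 0 := by
    intro B x
    have := congrArg (fun s => s.app (Adeq.pt B) x) hip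
    exact this
  let E : G.obj (Adeq.pt (SAg R)) :=
    mvfMap G (gamg γ) θ₀ - (X : R[X]) • mvfMap G (cstR R) θ₀
  have hE : p.app (Adeq.pt (SAg R)) E = 0 := by
    change p.app (Adeq.pt (SAg R)) (_ - _) = 0
    rw [map_sub, mvfMap_nat, (p.app (Adeq.pt (SAg R))).hom.map_smul, mvfMap_nat, hθ₀, hξ',
      sub_self]
  obtain ⟨d, hd⟩ := hex _ E hE
  let d₁ : ((Adeq.underline A).obj M).obj (Adeq.pt (RA R)) := c1 R M (show R[X] ⊗[A] M from d)
  -- the key identity
  have hstar : (X : R[X][X]) • mvfMap ((Adeq.underline A).obj M) (cstSg R) d +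
      mvfMap ((Adeq.underline A).obj M) (alpg γ) d =
      mvfMap ((Adeq.underline A).obj M) (betg R) d := by
    apply hi (TAg R)
    rw [map_add, (i.app (Adeq.pt (TAg R))).hom.map_smul, mvfMap_nat, mvfMap_nat, mvfMap_nat, hd]
    change (X : R[X][X]) • mvfMap G (cstSg R) (_ - _) + mvfMap G (alpg γ) (_ - _) =
      mvfMap G (betg R) (_ - _)
    rw [mvfMap_sub, mvfMap_sub, mvfMap_sub, mvfMap_smul, mvfMap_smul, mvfMap_smul,
      ← mvfMap_comp, ← mvfMap_comp, ← mvfMap_comp, ← mvfMap_comp, ← mvfMap_comp,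
      ← mvfMap_comp, cst_alpg, cst_betg, gam_alpg γ hγ, alpg_X, betg_X, cstSg_X, smul_sub,
      mul_smul]
    abel
  have hkey : (show R[X] ⊗[A] M from d) +
      LinearMap.rTensor M γ.toLinearMap (c1 R M (show R[X] ⊗[A] M from d)) =
      (X : R[X]) • LinearMap.rTensor M (cstAlg (A := A) R).toLinearMap
        (c1 R M (show R[X] ⊗[A] M from d)) := by
    have h1 := (map_add (c1 R[X] M) _ _).symm.trans (congrArg (c1 R[X] M) hstar)
    have e1 : c1 R[X] M ((X : R[X][X]) • mvfMap ((Adeq.underline A).obj M) (cstSg R) d) = d :=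
      c1_X_smul_cst R[X] M (show R[X] ⊗[A] M from d)
    have e2 : c1 R[X] M (mvfMap ((Adeq.underline A).obj M) (alpg γ) d) =
        LinearMap.rTensor M γ.toLinearMap (c1 R M (show R[X] ⊗[A] M from d)) :=
      c1_mapAlgHom M γ (show R[X] ⊗[A] M from d)
    have e3 : c1 R[X] M (mvfMap ((Adeq.underline A).obj M) (betg R) d) =
        (X : R[X]) • LinearMap.rTensor M (cstAlg (A := A) R).toLinearMap
          (c1 R M (show R[X] ⊗[A] M from d)) :=
      c1_betAlg R M (show R[X] ⊗[A] M from d)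
    rw [e1, e2, e3] at h1
    exact h1
  have hkey' : d + mvfMap ((Adeq.underline A).obj M) (gamg γ) d₁ =
      (X : R[X]) • mvfMap ((Adeq.underline A).obj M) (cstR R) d₁ := hkey
  refine ⟨θ₀ + i.app (Adeq.pt (RA R)) d₁, ?_, ?_⟩
  · rw [map_add, hip', add_zero, hθ₀]
  · rw [mvfMap_add, mvfMap_add, smul_add, ← mvfMap_nat, ← mvfMap_nat]
    have h2 : mvfMap G (gamg γ) θ₀ = (X : R[X]) • mvfMap G (cstR R) θ₀ +
        i.app (Adeq.pt (SAg R)) d := by
      rw [hd]
      change _ = _ + (_ - _)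
      abel
    rw [h2, add_assoc, ← map_add, hkey', (i.app (Adeq.pt (SAg R))).hom.map_smul]

end lift

end Groth.Agent.Helper1.Adq
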