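import Mathlib
import Groth.Prelude.Def_Adeq
import Groth.Agent.Lib.Helper6.Adeq.Pointwise
import Groth.Agent.Lib.Helper1.Adq11
import Groth.Agent.Lib.Helper1.Adq13

set_option autoImplicit false
set_option linter.unusedSectionVars false
set_option linter.unusedVariables false
set_option maxHeartbeats 400000
universe u
open CategoryTheory CategoryTheory.Limits TensorProduct Polynomial

namespace Groth.Agent.Helper1.Adq

open Groth.Agent.Lib.Helper6.Adeq

variable {A : Type u} [CommRing A]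

section scaling

variable {κ₁ κ₂ : Type} [Fintype κ₁] [DecidableEq κ₁] [Fintype κ₂] [DecidableEq κ₂]
  (a : κ₁ → κ₂ → A)

/-- the scaling `x_i ↦ X * x_i` -/
noncomputable def gamA : URG a →ₐ[A] (URG a)[X] := (evG a (SAg (URG a)) (bTG a) (bT_relG a)).hom

theorem gamA_xbar (i : κ₁) : gamA a (xbarG a i) = (X : (URG a)[X]) * C (xbarG a i) :=
  ev_xbarG a (SAg (URG a)) (bTG a) (bT_relG a) i

theorem gamA_coassoc : (Polynomial.mapAlgHom (gamA a)).comp (gamA a) =
    (betAlg (URG a)).comp (gamA a) := by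
  apply Ideal.Quotient.algHom_ext
  apply MvPolynomial.algHom_ext
  intro i
  change Polynomial.map ((gamA a : URG a →ₐ[A] (URG a)[X]) : URG a →+* (URG a)[X])
      (gamA a (xbarG a i)) = betAlg (A := A) (URG a) (gamA a (xbarG a i))
  rw [gamA_xbar, Polynomial.map_mul, Polynomial.map_X, Polynomial.map_C, map_mul, betAlg_X,
    betAlg_C]
  change _ * C (gamA a (xbarG a i)) = _
  rw [gamA_xbar, C_mul, mul_assoc]

theorem gamg_gamA_eq : gamg (gamA a) = evG a (SAg (URG a)) (bTG a) (bT_relG a) := rfl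

/-- the universal element has weight one -/
theorem mvfMap_gam_xiG : mvfMap (LK a) (gamg (gamA a)) (xiG a) =
    (X : (URG a)[X]) • mvfMap (LK a) (cstR (URG a)) (xiG a) := by
  refine LK_ext a (SAg (URG a)) _ _ ?_
  have h1 : (kernel.ι ((Adeq.underline A).map (matMap a))).app (Adeq.pt (SAg (URG a)))
      (mvfMap (LK a) (cstR (URG a)) (xiG a)) =
      uvec (SAg (URG a)) (fun i => C (xbarG a i)) := by
    rw [mvfMap_nat, ι_xiG]
    exact underline_map_uvec (cstR (URG a)) (xbarG a)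
  have h2 : (kernel.ι ((Adeq.underline A).map (matMap a))).app (Adeq.pt (SAg (URG a)))
      (mvfMap (LK a) (gamg (gamA a)) (xiG a)) = uvec (SAg (URG a)) (bTG a) := by
    rw [mvfMap_nat, ι_xiG]
    refine (underline_map_uvec (gamg (gamA a)) (xbarG a)).trans ?_
    congr 1
    funext i
    exact ev_xbarG a (SAg (URG a)) (bTG a) (bT_relG a) i
  rw [h2, ((kernel.ι ((Adeq.underline A).map (matMap a))).app (Adeq.pt (SAg (URG a)))).hom.map_smul,
    h1]
  exact (smul_uvec (SAg (URG a)) _ _).symm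

theorem rel_smul (B : Adeq.Alg A) (c : B) (b : κ₁ → B) (hb : ∀ j, ∑ i, a i j • b i = 0) :
    ∀ j, ∑ i, a i j • (c * b i) = 0 := by
  intro j
  have : ∑ i, a i j • (c * b i) = c * ∑ i, a i j • b i := by
    rw [Finset.mul_sum]
    refine Finset.sum_congr rfl fun i _ => ?_
    rw [mul_smul_comm]
  rw [this, hb j, mul_zero]

theorem rel_zero (B : Adeq.Alg A) : ∀ j, ∑ i, a i j • ((0 : κ₁ → B) i) = 0 := by
  intro j
  simp

end scaling

section ext

variable {κ₁ κ₂ : Type} [Fintype κ₁] [DecidableEq κ₁] [Fintype κ₂] [DecidableEq κ₂]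
  (a : κ₁ → κ₂ → A)
  {M : ModuleCat.{u + 1} A} {G H : Adeq.MVF A} (i : (Adeq.underline A).obj M ⟶ G) (p : G ⟶ H)
  (lam : LK a ⟶ H)

/-- a lift of the universal element which has weight one -/
structure GoodLift where
  /-- the lift -/
  θ : G.obj (Adeq.pt (CA a))
  lift : p.app (Adeq.pt (CA a)) θ = lam.app (Adeq.pt (CA a)) (xiG a)
  weight : mvfMap G (gamg (gamA a)) θ = (X : (URG a)[X]) • mvfMap G (cstR (URG a)) θ

theorem nonempty_goodLift
    (hi : ∀ B : Adeq.Alg A, Function.Injective (i.app (Adeq.pt B)))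
    (hp : ∀ B : Adeq.Alg A, Function.Surjective (p.app (Adeq.pt B)))
    (hex : ∀ (B : Adeq.Alg A) (g : G.obj (Adeq.pt B)), p.app (Adeq.pt B) g = 0 →
      ∃ x, i.app (Adeq.pt B) x = g)
    (hip : i ≫ p = 0) : Nonempty (GoodLift a p lam) := by
  obtain ⟨θ₀, hθ₀⟩ := hp (CA a) (lam.app (Adeq.pt (CA a)) (xiG a))
  have hξ' : mvfMap H (gamg (gamA a)) (lam.app (Adeq.pt (CA a)) (xiG a)) =
      (X : (URG a)[X]) • mvfMap H (cstR (URG a)) (lam.app (Adeq.pt (CA a)) (xiG a)) := by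
    rw [← mvfMap_nat, ← mvfMap_nat, mvfMap_gam_xiG]
    exact (lam.app (Adeq.pt (SAg (URG a)))).hom.map_smul _ _
  obtain ⟨θ, h1, h2⟩ := exists_weight_one_lift (gamA a) (gamA_coassoc a) i p hi hex hip
    (lam.app (Adeq.pt (CA a)) (xiG a)) hξ' θ₀ hθ₀
  exact ⟨⟨θ, h1, h2⟩⟩

variable {a p lam} (L : GoodLift a p lam)

/-- the section on coordinates -/
noncomputable def GoodLift.Ψ (B : Adeq.Alg A) (b : κ₁ → B) (hb : ∀ j, ∑ i, a i j • b i = 0) :
    G.obj (Adeq.pt B) := mvfMap G (evG a B b hb) L.θ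

theorem GoodLift.Ψ_congr (B : Adeq.Alg A) (b b' : κ₁ → B) (hb : ∀ j, ∑ i, a i j • b i = 0)
    (h : b = b') : L.Ψ B b hb = L.Ψ B b' (h ▸ hb) := by
  subst h
  rfl

theorem GoodLift.map_Ψ {B B' : Adeq.Alg A} (f : B ⟶ B') (b : κ₁ → B)
    (hb : ∀ j, ∑ i, a i j • b i = 0) :
    mvfMap G f (L.Ψ B b hb) = L.Ψ B' (fun i => f.hom (b i)) (rel_map a f b hb) := by
  rw [GoodLift.Ψ, ← mvfMap_comp, evG_comp a f b hb (rel_map a f b hb)]
  rfl

theorem GoodLift.p_Ψ (B : Adeq.Alg A) (b : κ₁ → B) (hb : ∀ j, ∑ i, a i j • b i = 0) :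
    p.app (Adeq.pt B) (L.Ψ B b hb) = lam.app (Adeq.pt B) (zK a B b hb) := by
  rw [GoodLift.Ψ, mvfMap_nat, L.lift, ← mvfMap_nat]
  congr 1
  exact map_ev_xiG a B b hb

theorem GoodLift.Ψ_smul (B : Adeq.Alg A) (c : B) (b : κ₁ → B) (hb : ∀ j, ∑ i, a i j • b i = 0) :
    L.Ψ B (fun i => c * b i) (rel_smul a B c b hb) = c • L.Ψ B b hb := by
  let PB : Adeq.Alg A := Adeq.algOf A (Polynomial (B : Type u))
  let pm : SAg (URG a) ⟶ PB := CommAlgCat.ofHom (Polynomial.mapAlgHom (evG a B b hb).hom)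
  let evc : PB ⟶ B := CommAlgCat.ofHom ((Polynomial.aeval (R := (B : Type u)) c).restrictScalars A)
  have h1 : evG a B (fun i => c * b i) (rel_smul a B c b hb) = gamg (gamA a) ≫ pm ≫ evc := by
    apply URG_hom_ext
    intro i
    rw [ev_xbarG]
    change _ = Polynomial.aeval (R := (B : Type u)) c
      (Polynomial.map ((evG a B b hb).hom : URG a →+* (B : Type u)) (gamA a (xbarG a i)))
    rw [gamA_xbar, Polynomial.map_mul, Polynomial.map_X, Polynomial.map_C, map_mul,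
      Polynomial.aeval_X, Polynomial.aeval_C]
    change _ = c * (evG a B b hb).hom (xbarG a i)
    rw [ev_xbarG]
  have h2 : evG a B b hb = cstR (URG a) ≫ pm ≫ evc := by
    apply URG_hom_ext
    intro i
    rw [ev_xbarG]
    change _ = Polynomial.aeval (R := (B : Type u)) c
      (Polynomial.map ((evG a B b hb).hom : URG a →+* (B : Type u)) (C (xbarG a i)))
    rw [Polynomial.map_C, Polynomial.aeval_C]
    change _ = (evG a B b hb).hom (xbarG a i)
    rw [ev_xbarG]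
  have h3 : evc.hom (pm.hom (X : (URG a)[X])) = c := by
    change Polynomial.aeval (R := (B : Type u)) c (Polynomial.map _ X) = c
    rw [Polynomial.map_X, Polynomial.aeval_X]
  rw [GoodLift.Ψ, h1, mvfMap_comp, mvfMap_comp, L.weight, mvfMap_smul, mvfMap_smul, h3,
    ← mvfMap_comp, ← mvfMap_comp, ← h2]
  rfl

theorem GoodLift.Ψ_zero (B : Adeq.Alg A) : L.Ψ B 0 (rel_zero a B) = 0 := by
  have h := L.Ψ_smul B 0 0 (rel_zero a B)
  rw [zero_smul] at h
  rw [← h]
  apply L.Ψ_congr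
  funext i
  simp

end ext

section pairs

variable {κ₁ κ₂ : Type} [Fintype κ₁] [DecidableEq κ₁] [Fintype κ₂] [DecidableEq κ₂]
  (a : κ₁ → κ₂ → A)

/-- the block diagonal matrix -/
def a2 : κ₁ ⊕ κ₁ → κ₂ ⊕ κ₂ → A := fun i j =>
  Sum.elim (fun i => Sum.elim (fun j => a i j) (fun _ => 0) j)
    (fun i => Sum.elim (fun _ => 0) (fun j => a i j) j) i

theorem rel_elim (B : Adeq.Alg A) (b b' : κ₁ → B) (hb : ∀ j, ∑ i, a i j • b i = 0)
    (hb' : ∀ j, ∑ i, a i j • b' i = 0) : ∀ j, ∑ i, a2 a i j • (Sum.elim b b' i) = 0 := by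
  intro j
  rw [Fintype.sum_sum_type]
  cases j <;> simp [a2, hb, hb']

theorem rel_left (B : Adeq.Alg A) (w : κ₁ ⊕ κ₁ → B) (hw : ∀ j, ∑ i, a2 a i j • w i = 0) :
    ∀ j, ∑ i, a i j • w (Sum.inl i) = 0 := by
  intro j
  have := hw (Sum.inl j)
  rw [Fintype.sum_sum_type] at this
  simpa [a2] using this

theorem rel_right (B : Adeq.Alg A) (w : κ₁ ⊕ κ₁ → B) (hw : ∀ j, ∑ i, a2 a i j • w i = 0) :
    ∀ j, ∑ i, a i j • w (Sum.inr i) = 0 := by
  intro j
  have := hw (Sum.inr j)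
  rw [Fintype.sum_sum_type] at this
  simpa [a2] using this

theorem rel_add (B : Adeq.Alg A) (b b' : κ₁ → B) (hb : ∀ j, ∑ i, a i j • b i = 0)
    (hb' : ∀ j, ∑ i, a i j • b' i = 0) : ∀ j, ∑ i, a i j • ((b + b') i) = 0 := by
  intro j
  simp only [Pi.add_apply, smul_add, Finset.sum_add_distrib, hb j, hb' j, add_zero]

theorem zK_add (B : Adeq.Alg A) (b b' : κ₁ → B) (hb : ∀ j, ∑ i, a i j • b i = 0)
    (hb' : ∀ j, ∑ i, a i j • b' i = 0) :
    zK a B (b + b') (rel_add a B b b' hb hb') = zK a B b hb + zK a B b' hb' := by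
  apply LK_ext
  rw [map_add, ι_zK, ι_zK, ι_zK, uvec_add]

/-- first universal vector -/
noncomputable def xx : κ₁ → CA (a2 a) := fun i => xbarG (a2 a) (Sum.inl i)

/-- second universal vector -/
noncomputable def yy : κ₁ → CA (a2 a) := fun i => xbarG (a2 a) (Sum.inr i)

theorem rel_xx : ∀ j, ∑ i, a i j • xx a i = 0 :=
  rel_left a (CA (a2 a)) (xbarG (a2 a)) (xbar_relG (a2 a))

theorem rel_yy : ∀ j, ∑ i, a i j • yy a i = 0 :=
  rel_right a (CA (a2 a)) (xbarG (a2 a)) (xbar_relG (a2 a))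

/-- the coefficient of `X` of the scaling, landing in the span of the coordinates -/
theorem coeff_one_gamA_mem (r : URG a) : (gamA a r).coeff 1 ∈ VxG a := by
  obtain ⟨q, rfl⟩ := Ideal.Quotient.mkₐ_surjective A (relIdealG a) r
  have h7 : gamA a (Ideal.Quotient.mkₐ A (relIdealG a) q) = MvPolynomial.aeval (bTG a) q := by
    change Ideal.Quotient.liftₐ (relIdealG a) (MvPolynomial.aeval (bTG a)) _ _ = _
    rw [Ideal.Quotient.mkₐ_eq_mk, Ideal.Quotient.liftₐ_apply, Ideal.Quotient.lift_mk]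
    rfl
  rw [h7]
  exact (coeff_aeval_bTG a q).2

/-- an element of `C ⊗ M` of weight one is a combination of the coordinates -/
theorem exists_vec_of_weight_one {M : ModuleCat.{u + 1} A}
    (w : ((Adeq.underline A).obj M).obj (Adeq.pt (CA a)))
    (hw : mvfMap ((Adeq.underline A).obj M) (gamg (gamA a)) w =
      (X : (URG a)[X]) • mvfMap ((Adeq.underline A).obj M) (cstR (URG a)) w) :
    ∃ g : κ₁ → M, (show (URG a) ⊗[A] M from w) = ∑ i, (xbarG a i) ⊗ₜ[A] (g i) := by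
  have h1 : c1 (URG a) M (LinearMap.rTensor M (gamA a).toLinearMap (show (URG a) ⊗[A] M from w)) =
      w := by
    have h2 : LinearMap.rTensor M (gamA a).toLinearMap (show (URG a) ⊗[A] M from w) =
        (X : (URG a)[X]) • LinearMap.rTensor M (cstAlg (A := A) (URG a)).toLinearMap
          (show (URG a) ⊗[A] M from w) := hw
    rw [h2]
    exact c1_X_smul_cst (URG a) M _
  let κ : URG a →ₗ[A] URG a :=
    ((Polynomial.lcoeff (URG a) 1).restrictScalars A).comp (gamA a).toLinearMap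
  let κ' : URG a →ₗ[A] VxG a := κ.codRestrict (VxG a) (coeff_one_gamA_mem a)
  have hκ' : (VxG a).subtype.comp κ' = κ := LinearMap.subtype_comp_codRestrict _ _ _
  have h3 : (show (URG a) ⊗[A] M from w) = LinearMap.rTensor M (VxG a).subtype
      (LinearMap.rTensor M κ' (show (URG a) ⊗[A] M from w)) := by
    rw [← LinearMap.rTensor_comp_apply, hκ']
    refine h1.symm.trans ?_
    rw [c1, ← LinearMap.rTensor_comp_apply]
  obtain ⟨g, hg⟩ := exists_vec_of_mem_Vx_tensorG a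
    (LinearMap.rTensor M κ' (show (URG a) ⊗[A] M from w))
  exact ⟨g, h3.trans hg⟩

end pairs

section additivity

variable {κ₁ κ₂ : Type} [Fintype κ₁] [DecidableEq κ₁] [Fintype κ₂] [DecidableEq κ₂]
  {a : κ₁ → κ₂ → A}
  {M : ModuleCat.{u + 1} A} {G H : Adeq.MVF A} {i : (Adeq.underline A).obj M ⟶ G} {p : G ⟶ H}
  {lam : LK a ⟶ H} (L : GoodLift a p lam)

theorem GoodLift.Ψ_congr' (B : Adeq.Alg A) (b b' : κ₁ → B) (hb : ∀ j, ∑ i, a i j • b i = 0)
    (hb' : ∀ j, ∑ i, a i j • b' i = 0) (h : b = b') : L.Ψ B b hb = L.Ψ B b' hb' := by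
  subst h
  rfl

/-- `Ψ` of a vector of weight one has weight one -/
theorem GoodLift.weight_Ψ (b : κ₁ → CA (a2 a)) (hb : ∀ j, ∑ i, a i j • b i = 0)
    (hw : ∀ i, gamA (a2 a) (b i) = (X : (URG (a2 a))[X]) * C (b i)) :
    mvfMap G (gamg (gamA (a2 a))) (L.Ψ (CA (a2 a)) b hb) =
      (X : (URG (a2 a))[X]) • mvfMap G (cstR (URG (a2 a))) (L.Ψ (CA (a2 a)) b hb) := by
  rw [L.map_Ψ, L.map_Ψ]
  have h1 := L.Ψ_smul (SAg (URG (a2 a))) (X : (URG (a2 a))[X])
    (fun i => (cstR (URG (a2 a))).hom (b i)) (rel_map a (cstR (URG (a2 a))) b hb)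
  rw [← h1]
  apply L.Ψ_congr'
  funext i
  exact hw i

include L in
/-- **additivity of the section** -/
theorem GoodLift.Ψ_add
    (hi : ∀ B : Adeq.Alg A, Function.Injective (i.app (Adeq.pt B)))
    (hex : ∀ (B : Adeq.Alg A) (g : G.obj (Adeq.pt B)), p.app (Adeq.pt B) g = 0 →
      ∃ x, i.app (Adeq.pt B) x = g)
    (B : Adeq.Alg A) (b b' : κ₁ → B) (hb : ∀ j, ∑ i, a i j • b i = 0)
    (hb' : ∀ j, ∑ i, a i j • b' i = 0) :
    L.Ψ B (b + b') (rel_add a B b b' hb hb') = L.Ψ B b hb + L.Ψ B b' hb' := by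
  classical
  -- the universal defect
  let C₂ : Adeq.Alg A := CA (a2 a)
  let hxy := rel_add a C₂ (xx a) (yy a) (rel_xx a) (rel_yy a)
  let τ : G.obj (Adeq.pt C₂) :=
    L.Ψ C₂ (xx a + yy a) hxy - L.Ψ C₂ (xx a) (rel_xx a) - L.Ψ C₂ (yy a) (rel_yy a)
  have hpτ : p.app (Adeq.pt C₂) τ = 0 := by
    change p.app (Adeq.pt C₂) (_ - _ - _) = 0
    rw [map_sub, map_sub, L.p_Ψ, L.p_Ψ, L.p_Ψ, zK_add a C₂ (xx a) (yy a) (rel_xx a) (rel_yy a),
      map_add]
    abel
  obtain ⟨τ', hτ'⟩ := hex C₂ τ hpτ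
  -- weights
  have hwx : ∀ i, gamA (a2 a) (xx a i) = (X : (URG (a2 a))[X]) * C (xx a i) :=
    fun i => gamA_xbar (a2 a) (Sum.inl i)
  have hwy : ∀ i, gamA (a2 a) (yy a i) = (X : (URG (a2 a))[X]) * C (yy a i) :=
    fun i => gamA_xbar (a2 a) (Sum.inr i)
  have hwxy : ∀ i, gamA (a2 a) ((xx a + yy a) i) =
      (X : (URG (a2 a))[X]) * C ((xx a + yy a) i) := by
    intro i
    rw [Pi.add_apply, map_add, hwx, hwy, C_add, mul_add]
  have hτw : mvfMap G (gamg (gamA (a2 a))) τ =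
      (X : (URG (a2 a))[X]) • mvfMap G (cstR (URG (a2 a))) τ := by
    change mvfMap G (gamg (gamA (a2 a))) (_ - _ - _) =
      (X : (URG (a2 a))[X]) • mvfMap G (cstR (URG (a2 a))) (_ - _ - _)
    rw [mvfMap_sub, mvfMap_sub, mvfMap_sub, mvfMap_sub, L.weight_Ψ _ hxy hwxy,
      L.weight_Ψ _ (rel_xx a) hwx, L.weight_Ψ _ (rel_yy a) hwy, smul_sub, smul_sub]
  have hτ'w : mvfMap ((Adeq.underline A).obj M) (gamg (gamA (a2 a))) τ' =
      (X : (URG (a2 a))[X]) • mvfMap ((Adeq.underline A).obj M) (cstR (URG (a2 a))) τ' := by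
    apply hi (SAg (URG (a2 a)))
    rw [(i.app (Adeq.pt (SAg (URG (a2 a))))).hom.map_smul, mvfMap_nat, mvfMap_nat, hτ', hτw]
  obtain ⟨g, hg⟩ := exists_vec_of_weight_one (a2 a) τ' hτ'w
  -- restriction to the axes
  let q₁ : C₂ ⟶ CA a := evG (a2 a) (CA a) (Sum.elim (xbarG a) 0)
    (rel_elim a (CA a) (xbarG a) 0 (xbar_relG a) (rel_zero a (CA a)))
  let q₂ : C₂ ⟶ CA a := evG (a2 a) (CA a) (Sum.elim 0 (xbarG a))
    (rel_elim a (CA a) 0 (xbarG a) (rel_zero a (CA a)) (xbar_relG a))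
  let p₁ : CA a ⟶ C₂ := evG a C₂ (xx a) (rel_xx a)
  let p₂ : CA a ⟶ C₂ := evG a C₂ (yy a) (rel_yy a)
  have hq₁τ : mvfMap G q₁ τ = 0 := by
    change mvfMap G q₁ (_ - _ - _) = 0
    rw [mvfMap_sub, mvfMap_sub, L.map_Ψ, L.map_Ψ, L.map_Ψ]
    have e1 : L.Ψ (CA a) (fun i => q₁.hom ((xx a + yy a) i)) (rel_map a q₁ _ hxy) =
        L.Ψ (CA a) (xbarG a) (xbar_relG a) := by
      apply L.Ψ_congr'
      funext i
      rw [Pi.add_apply, map_add]
      change (evG (a2 a) (CA a) _ _).hom (xbarG (a2 a) (Sum.inl i)) +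
        (evG (a2 a) (CA a) _ _).hom (xbarG (a2 a) (Sum.inr i)) = _
      rw [ev_xbarG, ev_xbarG]
      simp
    have e2 : L.Ψ (CA a) (fun i => q₁.hom (xx a i)) (rel_map a q₁ _ (rel_xx a)) =
        L.Ψ (CA a) (xbarG a) (xbar_relG a) := by
      apply L.Ψ_congr'
      funext i
      change (evG (a2 a) (CA a) _ _).hom (xbarG (a2 a) (Sum.inl i)) = _
      rw [ev_xbarG]
      simp
    have e3 : L.Ψ (CA a) (fun i => q₁.hom (yy a i)) (rel_map a q₁ _ (rel_yy a)) =
        L.Ψ (CA a) 0 (rel_zero a (CA a)) := by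
      apply L.Ψ_congr'
      funext i
      change (evG (a2 a) (CA a) _ _).hom (xbarG (a2 a) (Sum.inr i)) = _
      rw [ev_xbarG]
      simp
    rw [e1, e2, e3, L.Ψ_zero, sub_self, sub_zero]
  have hq₂τ : mvfMap G q₂ τ = 0 := by
    change mvfMap G q₂ (_ - _ - _) = 0
    rw [mvfMap_sub, mvfMap_sub, L.map_Ψ, L.map_Ψ, L.map_Ψ]
    have e1 : L.Ψ (CA a) (fun i => q₂.hom ((xx a + yy a) i)) (rel_map a q₂ _ hxy) =
        L.Ψ (CA a) (xbarG a) (xbar_relG a) := by
      apply L.Ψ_congr'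
      funext i
      rw [Pi.add_apply, map_add]
      change (evG (a2 a) (CA a) _ _).hom (xbarG (a2 a) (Sum.inl i)) +
        (evG (a2 a) (CA a) _ _).hom (xbarG (a2 a) (Sum.inr i)) = _
      rw [ev_xbarG, ev_xbarG]
      simp
    have e2 : L.Ψ (CA a) (fun i => q₂.hom (xx a i)) (rel_map a q₂ _ (rel_xx a)) =
        L.Ψ (CA a) 0 (rel_zero a (CA a)) := by
      apply L.Ψ_congr'
      funext i
      change (evG (a2 a) (CA a) _ _).hom (xbarG (a2 a) (Sum.inl i)) = _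
      rw [ev_xbarG]
      simp
    have e3 : L.Ψ (CA a) (fun i => q₂.hom (yy a i)) (rel_map a q₂ _ (rel_yy a)) =
        L.Ψ (CA a) (xbarG a) (xbar_relG a) := by
      apply L.Ψ_congr'
      funext i
      change (evG (a2 a) (CA a) _ _).hom (xbarG (a2 a) (Sum.inr i)) = _
      rw [ev_xbarG]
      simp
    rw [e1, e2, e3, L.Ψ_zero, sub_zero, sub_self]
  have hq₁τ' : mvfMap ((Adeq.underline A).obj M) q₁ τ' = 0 := by
    apply hi (CA a)
    rw [mvfMap_nat, hτ', hq₁τ, map_zero]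
  have hq₂τ' : mvfMap ((Adeq.underline A).obj M) q₂ τ' = 0 := by
    apply hi (CA a)
    rw [mvfMap_nat, hτ', hq₂τ, map_zero]
  -- hence `τ' = 0`
  have hτ'0 : τ' = 0 := by
    have h1 : LinearMap.rTensor M q₁.hom.toLinearMap (show (URG (a2 a)) ⊗[A] M from τ') = 0 :=
      hq₁τ'
    have h2 : LinearMap.rTensor M q₂.hom.toLinearMap (show (URG (a2 a)) ⊗[A] M from τ') = 0 :=
      hq₂τ'
    rw [hg, map_sum] at h1 h2
    simp_rw [LinearMap.rTensor_tmul] at h1 h2
    rw [Fintype.sum_sum_type] at h1 h2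
    have e1 : ∀ i, q₁.hom.toLinearMap (xbarG (a2 a) (Sum.inl i)) = xbarG a i :=
      fun i => ev_xbarG (a2 a) (CA a) (Sum.elim (xbarG a) 0)
        (rel_elim a (CA a) (xbarG a) 0 (xbar_relG a) (rel_zero a (CA a))) (Sum.inl i)
    have e2 : ∀ i, q₁.hom.toLinearMap (xbarG (a2 a) (Sum.inr i)) = 0 :=
      fun i => ev_xbarG (a2 a) (CA a) (Sum.elim (xbarG a) 0)
        (rel_elim a (CA a) (xbarG a) 0 (xbar_relG a) (rel_zero a (CA a))) (Sum.inr i)
    have e3 : ∀ i, q₂.hom.toLinearMap (xbarG (a2 a) (Sum.inl i)) = 0 :=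
      fun i => ev_xbarG (a2 a) (CA a) (Sum.elim 0 (xbarG a))
        (rel_elim a (CA a) 0 (xbarG a) (rel_zero a (CA a)) (xbar_relG a)) (Sum.inl i)
    have e4 : ∀ i, q₂.hom.toLinearMap (xbarG (a2 a) (Sum.inr i)) = xbarG a i :=
      fun i => ev_xbarG (a2 a) (CA a) (Sum.elim 0 (xbarG a))
        (rel_elim a (CA a) 0 (xbarG a) (rel_zero a (CA a)) (xbar_relG a)) (Sum.inr i)
    simp_rw [e1, e2, TensorProduct.zero_tmul, Finset.sum_const_zero, add_zero] at h1
    simp_rw [e3, e4, TensorProduct.zero_tmul, Finset.sum_const_zero, zero_add] at h2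
    have h3 := congrArg (LinearMap.rTensor M p₁.hom.toLinearMap) h1
    have h4 := congrArg (LinearMap.rTensor M p₂.hom.toLinearMap) h2
    rw [map_sum, map_zero] at h3 h4
    simp_rw [LinearMap.rTensor_tmul] at h3 h4
    have e5 : ∀ i, p₁.hom.toLinearMap (xbarG a i) = xbarG (a2 a) (Sum.inl i) :=
      fun i => ev_xbarG a C₂ (xx a) (rel_xx a) i
    have e6 : ∀ i, p₂.hom.toLinearMap (xbarG a i) = xbarG (a2 a) (Sum.inr i) :=
      fun i => ev_xbarG a C₂ (yy a) (rel_yy a) i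
    simp_rw [e5] at h3
    simp_rw [e6] at h4
    change (show (URG (a2 a)) ⊗[A] M from τ') = 0
    rw [hg, Fintype.sum_sum_type, h3, h4, add_zero]
  have hτ0 : τ = 0 := by rw [← hτ', hτ'0, map_zero]
  -- specialise
  let f : C₂ ⟶ B := evG (a2 a) B (Sum.elim b b') (rel_elim a B b b' hb hb')
  have hfτ : mvfMap G f τ = L.Ψ B (b + b') (rel_add a B b b' hb hb') - L.Ψ B b hb - L.Ψ B b' hb' := by
    change mvfMap G f (_ - _ - _) = _
    rw [mvfMap_sub, mvfMap_sub, L.map_Ψ, L.map_Ψ, L.map_Ψ]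
    have e1 : L.Ψ B (fun i => f.hom ((xx a + yy a) i)) (rel_map a f _ hxy) =
        L.Ψ B (b + b') (rel_add a B b b' hb hb') := by
      apply L.Ψ_congr'
      funext i
      rw [Pi.add_apply, map_add]
      change (evG (a2 a) B _ _).hom (xbarG (a2 a) (Sum.inl i)) +
        (evG (a2 a) B _ _).hom (xbarG (a2 a) (Sum.inr i)) = _
      rw [ev_xbarG, ev_xbarG]
      rfl
    have e2 : L.Ψ B (fun i => f.hom (xx a i)) (rel_map a f _ (rel_xx a)) = L.Ψ B b hb := by
      apply L.Ψ_congr'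
      funext i
      change (evG (a2 a) B _ _).hom (xbarG (a2 a) (Sum.inl i)) = _
      rw [ev_xbarG]
      rfl
    have e3 : L.Ψ B (fun i => f.hom (yy a i)) (rel_map a f _ (rel_yy a)) = L.Ψ B b' hb' := by
      apply L.Ψ_congr'
      funext i
      change (evG (a2 a) B _ _).hom (xbarG (a2 a) (Sum.inr i)) = _
      rw [ev_xbarG]
      rfl
    rw [e1, e2, e3]
  rw [hτ0, mvfMap_zero] at hfτ
  have := hfτ.symm
  rw [sub_sub, sub_eq_zero] at this
  exact this

end additivity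

section final

variable {κ₁ κ₂ : Type} [Fintype κ₁] [DecidableEq κ₁] [Fintype κ₂] [DecidableEq κ₂]
  (a : κ₁ → κ₂ → A)
  {M : ModuleCat.{u + 1} A} {G H : Adeq.MVF A} (i : (Adeq.underline A).obj M ⟶ G) (p : G ⟶ H)

/-- **Lifting property**: morphisms from the kernel functor of a matrix lift along an epimorphism
whose kernel is of the form `underline M`. -/
theorem exists_lift_of_kernel
    (hi : ∀ B : Adeq.Alg A, Function.Injective (i.app (Adeq.pt B)))
    (hp : ∀ B : Adeq.Alg A, Function.Surjective (p.app (Adeq.pt B)))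
    (hex : ∀ (B : Adeq.Alg A) (g : G.obj (Adeq.pt B)), p.app (Adeq.pt B) g = 0 →
      ∃ x, i.app (Adeq.pt B) x = g)
    (hip : i ≫ p = 0) (lam : LK a ⟶ H) : ∃ σ : LK a ⟶ G, σ ≫ p = lam := by
  obtain ⟨L⟩ := nonempty_goodLift a i p lam hi hp hex hip
  let s : ∀ B : Adeq.Alg A, (LK a).obj (Adeq.pt B) → G.obj (Adeq.pt B) :=
    fun B z => L.Ψ B (kc a B z) (kc_rel a B z)
  have hs_add : ∀ (B : Adeq.Alg A) (z z' : (LK a).obj (Adeq.pt B)), s B (z + z') = s B z + s B z' := by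
    intro B z z'
    rw [← L.Ψ_add hi hex B (kc a B z) (kc a B z') (kc_rel a B z) (kc_rel a B z')]
    apply L.Ψ_congr'
    exact kc_add a B z z'
  have hs_smul : ∀ (B : Adeq.Alg A) (c : B) (z : (LK a).obj (Adeq.pt B)),
      s B (c • z) = c • s B z := by
    intro B c z
    rw [← L.Ψ_smul B c (kc a B z) (kc_rel a B z)]
    apply L.Ψ_congr'
    exact kc_smul a B c z
  have hs_nat : ∀ {B B' : Adeq.Alg A} (f : B ⟶ B') (z : (LK a).obj (Adeq.pt B)),
      s B' (mvfMap (LK a) f z) = mvfMap G f (s B z) := by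
    intro B B' f z
    rw [L.map_Ψ]
    apply L.Ψ_congr'
    exact kc_map a f z
  have hs_p : ∀ (B : Adeq.Alg A) (z : (LK a).obj (Adeq.pt B)),
      p.app (Adeq.pt B) (s B z) = lam.app (Adeq.pt B) z := by
    intro B z
    rw [L.p_Ψ, zK_kc]
  let σ : LK a ⟶ G :=
    { app := fun X => ModuleCat.ofHom
        { toFun := s X.unop.unop
          map_add' := hs_add X.unop.unop
          map_smul' := hs_smul X.unop.unop }
      naturality := fun {X Y} f => by
        ext x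
        exact hs_nat f.unop.unop x }
  refine ⟨σ, ?_⟩
  ext X z
  exact hs_p X.unop.unop z

end final

end Groth.Agent.Helper1.Adq
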