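import Mathlib
import Groth.Prelude.Def_Adeq
import Groth.Agent.Lib.Helper6.Adeq.Pointwise
import Groth.Agent.Lib.Helper1.Adq3

set_option linter.unusedSectionVars false
set_option linter.unusedVariables false
set_option linter.unusedSimpArgs false
set_option autoImplicit false
set_option linter.style.haveILetI false
set_option maxHeartbeats 400000

universe u v w w'

open CategoryTheory Limits TensorProduct DirectSum

namespace Groth.Agent.Helper1.Adq

section linalg

variable {A : Type u} [CommRing A] {M : Type v} {M₁ : Type v} {N₁ : Type v}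
  [AddCommGroup M] [Module A M] [AddCommGroup M₁] [Module A M₁] [AddCommGroup N₁] [Module A N₁]
  (g : M₁ →ₗ[A] M) (ψ : M₁ →ₗ[A] N₁)

/-- the quotient `(M × N₁) / (g, ψ)(M₁)` -/
abbrev QQ : Type v := (M × N₁) ⧸ LinearMap.range (g.prod ψ)

/-- `M → Q` -/
noncomputable def uQ : M →ₗ[A] QQ g ψ :=
  (LinearMap.range (g.prod ψ)).mkQ ∘ₗ LinearMap.inl A M N₁

/-- `N₁ → Q` -/
noncomputable def vQ : N₁ →ₗ[A] QQ g ψ :=
  (LinearMap.range (g.prod ψ)).mkQ ∘ₗ LinearMap.inr A M N₁

theorem uQ_comp : uQ g ψ ∘ₗ g = - (vQ g ψ ∘ₗ ψ) := by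
  apply LinearMap.ext
  intro x
  rw [LinearMap.neg_apply, eq_neg_iff_add_eq_zero]
  change (LinearMap.range (g.prod ψ)).mkQ (g x, 0) + (LinearMap.range (g.prod ψ)).mkQ (0, ψ x) = 0
  rw [← map_add, Prod.mk_add_mk, add_zero, zero_add, Submodule.mkQ_apply,
    Submodule.Quotient.mk_eq_zero]
  exact ⟨x, rfl⟩

variable (B : Type w) [AddCommGroup B] [Module A B]

theorem lTensor_uQ_eq_zero (y : B ⊗[A] M₁) (hy : LinearMap.lTensor B ψ y = 0) :
    LinearMap.lTensor B (uQ g ψ) (LinearMap.lTensor B g y) = 0 := by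
  rw [← LinearMap.comp_apply, ← LinearMap.lTensor_comp, uQ_comp, LinearMap.lTensor_neg,
    LinearMap.neg_apply, LinearMap.lTensor_comp, LinearMap.comp_apply, hy, map_zero, neg_zero]

theorem exists_of_lTensor_uQ_eq_zero (x : B ⊗[A] M) (hx : LinearMap.lTensor B (uQ g ψ) x = 0) :
    ∃ y : B ⊗[A] M₁, LinearMap.lTensor B ψ y = 0 ∧ LinearMap.lTensor B g y = x := by
  have hex : Function.Exact (LinearMap.lTensor B (g.prod ψ))
      (LinearMap.lTensor B (LinearMap.range (g.prod ψ)).mkQ) :=
    lTensor_exact B (LinearMap.exact_map_mkQ_range (g.prod ψ)) (Submodule.mkQ_surjective _)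
  have h1 : LinearMap.lTensor B (LinearMap.range (g.prod ψ)).mkQ
      (LinearMap.lTensor B (LinearMap.inl A M N₁) x) = 0 := by
    rw [← LinearMap.comp_apply, ← LinearMap.lTensor_comp]
    exact hx
  obtain ⟨y, hy⟩ := (hex _).1 h1
  refine ⟨y, ?_, ?_⟩
  · have := congrArg (LinearMap.lTensor B (LinearMap.snd A M N₁)) hy
    rw [← LinearMap.comp_apply, ← LinearMap.lTensor_comp, ← LinearMap.comp_apply,
      ← LinearMap.lTensor_comp, LinearMap.snd_prod, LinearMap.snd_comp_inl,
      LinearMap.lTensor_zero, LinearMap.zero_apply] at this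
    exact this
  · have := congrArg (LinearMap.lTensor B (LinearMap.fst A M N₁)) hy
    rw [← LinearMap.comp_apply, ← LinearMap.lTensor_comp, ← LinearMap.comp_apply,
      ← LinearMap.lTensor_comp, LinearMap.fst_prod, LinearMap.fst_comp_inl,
      LinearMap.lTensor_id, LinearMap.id_apply] at this
    exact this

end linalg

section dsum

variable {A : Type u} [CommRing A] {I : Type v} (P : I → Type w) [∀ i, AddCommGroup (P i)]
  [∀ i, Module A (P i)] (B : Type w') [AddCommGroup B] [Module A B]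

theorem exists_finset_decomp [DecidableEq I] (y : B ⊗[A] (⨁ i, P i)) :
    ∃ s : Finset I, ∀ t : Finset I, s ⊆ t → y = ∑ i ∈ t, LinearMap.lTensor B (DirectSum.lof A I P i)
      (LinearMap.lTensor B (DirectSum.component A I P i) y) := by
  classical
  induction y using TensorProduct.induction_on with
  | zero => exact ⟨∅, fun t _ => by simp⟩
  | tmul b m =>
    refine ⟨DFinsupp.support m, fun t ht => ?_⟩
    simp only [LinearMap.lTensor_tmul]
    rw [← TensorProduct.tmul_sum]
    congr 1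
    have h1 : ∑ i ∈ t, (DirectSum.lof A I P i) ((DirectSum.component A I P i) m) =
        ∑ i ∈ DFinsupp.support m, (DirectSum.lof A I P i) ((DirectSum.component A I P i) m) := by
      symm
      apply Finset.sum_subset ht
      intro i _ hi
      have : m i = 0 := by simpa using hi
      rw [← DirectSum.apply_eq_component, this, map_zero]
    rw [h1]
    exact (DirectSum.sum_support_of (β := P) m).symm
  | add y₁ y₂ h₁ h₂ =>
    obtain ⟨s₁, hs₁⟩ := h₁
    obtain ⟨s₂, hs₂⟩ := h₂
    refine ⟨s₁ ∪ s₂, fun t ht => ?_⟩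
    simp only [map_add, Finset.sum_add_distrib]
    rw [← hs₁ t (Finset.union_subset_left ht), ← hs₂ t (Finset.union_subset_right ht)]

end dsum

open Groth.Agent.Lib.Helper6.Adeq

section lemmaK

variable {A : Type u} [CommRing A]

/-- `underline` of a module map is `lTensor` pointwise -/
theorem underline_map_app_eq {M N : ModuleCat.{u + 1} A} (g : M ⟶ N) (B : Adeq.Alg A)
    (y : ((Adeq.underline A).obj M).obj (Adeq.pt B)) :
    ((Adeq.underline A).map g).app (Adeq.pt B) y =
      LinearMap.lTensor (B : Type u) g.hom (show (B : Type u) ⊗[A] M from y) := by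
  change (g.hom.baseChange (B : Type u)) y = _
  rw [LinearMap.baseChange_eq_ltensor]

theorem exists_kernel_hitting (F : Adeq.MVF A) (hF : Adeq.adequate A F) (M : ModuleCat.{u + 1} A)
    (φ : F ⟶ (Adeq.underline A).obj M) (B : Adeq.Alg A) (ξ : F.obj (Adeq.pt B)) :
    ∃ (P P' : ModuleCat.{u + 1} A) (ψ : P ⟶ P')
      (lam : kernel ((Adeq.underline A).map ψ) ⟶ F)
      (k : (kernel ((Adeq.underline A).map ψ)).obj (Adeq.pt B)) (g : P ⟶ M),
      lam.app (Adeq.pt B) k = ξ ∧
        kernel.ι ((Adeq.underline A).map ψ) ≫ (Adeq.underline A).map g = lam ≫ φ := by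
  obtain ⟨L, ⟨P, P', ψ, h1, h2, h3, h4, ⟨e⟩⟩, π, k, hk⟩ := exists_linAdequate_hitting F hF B ξ
  obtain ⟨g, hg⟩ := exists_hom_of_kernel P P' M ψ (e.inv ≫ π ≫ φ)
  refine ⟨P, P', ψ, e.inv ≫ π, e.hom.app (Adeq.pt B) k, g, ?_, ?_⟩
  · have h3 : e.inv.app (Adeq.pt B) (e.hom.app (Adeq.pt B) k) = k := by
      have := congrArg (fun s => s.app (Adeq.pt B) k) e.hom_inv_id
      exact this
    change π.app (Adeq.pt B) (e.inv.app (Adeq.pt B) (e.hom.app (Adeq.pt B) k)) = ξ
    rw [h3, hk]
  · rw [hg, Category.assoc]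

/-- **Key lemma**: for `F` adequate and `φ : F ⟶ underline M` there is a module map `u : M → Q`
such that pointwise the kernel of `underline u` is the image of `φ`. -/
theorem exists_ker_eq_range (F : Adeq.MVF A) (hF : Adeq.adequate A F) (M : ModuleCat.{u + 1} A)
    (φ : F ⟶ (Adeq.underline A).obj M) :
    ∃ (Q : ModuleCat.{u + 1} A) (u : M ⟶ Q), ∀ (B : Adeq.Alg A)
      (x : ((Adeq.underline A).obj M).obj (Adeq.pt B)),
      ((Adeq.underline A).map u).app (Adeq.pt B) x = 0 ↔ ∃ ξ, φ.app (Adeq.pt B) ξ = x := by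
  classical
  let I : Type (u + 1) := Σ B : Adeq.Alg A, F.obj (Adeq.pt B)
  have hch : ∀ i : I, ∃ (P P' : ModuleCat.{u + 1} A) (ψ : P ⟶ P')
      (lam : kernel ((Adeq.underline A).map ψ) ⟶ F)
      (k : (kernel ((Adeq.underline A).map ψ)).obj (Adeq.pt i.1)) (g : P ⟶ M),
      lam.app (Adeq.pt i.1) k = i.2 ∧
        kernel.ι ((Adeq.underline A).map ψ) ≫ (Adeq.underline A).map g = lam ≫ φ :=
    fun i => exists_kernel_hitting F hF M φ i.1 i.2
  choose P P' ψ lam k g hk hg using hch
  let Ψ : (⨁ i, P i) →ₗ[A] (⨁ i, P' i) := DirectSum.lmap (fun i => (ψ i).hom)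
  let G : (⨁ i, P i) →ₗ[A] M := DirectSum.toModule A I M (fun i => (g i).hom)
  have hΨ : ∀ i, Ψ ∘ₗ DirectSum.lof A I (fun i => P i) i =
      DirectSum.lof A I (fun i => P' i) i ∘ₗ (ψ i).hom := by
    intro i
    apply LinearMap.ext
    intro x
    exact DirectSum.lmap_lof (M := fun i => (P i : Type (u + 1))) (N := fun i => (P' i : Type (u + 1)))
      (fun i => (ψ i).hom) i x
  have hΨ' : ∀ i, DirectSum.component A I (fun i => P' i) i ∘ₗ Ψ =
      (ψ i).hom ∘ₗ DirectSum.component A I (fun i => P i) i := by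
    intro i
    apply LinearMap.ext
    intro x
    rfl
  have hG : ∀ i, G ∘ₗ DirectSum.lof A I (fun i => P i) i = (g i).hom := by
    intro i
    apply LinearMap.ext
    intro x
    exact DirectSum.toModule_lof A (M := fun i => (P i : Type (u + 1))) (N := (M : Type (u + 1)))
      (φ := fun i => (g i).hom) i x
  -- the two properties
  have hι0 : ∀ (i : I) (B : Adeq.Alg A) (κ : (kernel ((Adeq.underline A).map (ψ i))).obj (Adeq.pt B)),
      LinearMap.lTensor (B : Type u) (ψ i).hom
        (show (B : Type u) ⊗[A] (P i) from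
          (kernel.ι ((Adeq.underline A).map (ψ i))).app (Adeq.pt B) κ) = 0 := by
    intro i B κ
    rw [← underline_map_app_eq]
    have := congrArg (fun s => s.app (Adeq.pt B) κ) (kernel.condition ((Adeq.underline A).map (ψ i)))
    exact this
  have hιg : ∀ (i : I) (B : Adeq.Alg A) (κ : (kernel ((Adeq.underline A).map (ψ i))).obj (Adeq.pt B)),
      LinearMap.lTensor (B : Type u) (g i).hom
        (show (B : Type u) ⊗[A] (P i) from
          (kernel.ι ((Adeq.underline A).map (ψ i))).app (Adeq.pt B) κ) =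
        φ.app (Adeq.pt B) ((lam i).app (Adeq.pt B) κ) := by
    intro i B κ
    rw [← underline_map_app_eq]
    have := congrArg (fun s => s.app (Adeq.pt B) κ) (hg i)
    exact this
  have P1 : ∀ (B : Adeq.Alg A) (ξ : F.obj (Adeq.pt B)),
      ∃ y : (B : Type u) ⊗[A] (⨁ i, P i), LinearMap.lTensor (B : Type u) Ψ y = 0 ∧
        LinearMap.lTensor (B : Type u) G y = φ.app (Adeq.pt B) ξ := by
    intro B ξ
    let i : I := ⟨B, ξ⟩
    let y₀ : (B : Type u) ⊗[A] (P i) :=
      (kernel.ι ((Adeq.underline A).map (ψ i))).app (Adeq.pt B) (k i)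
    refine ⟨LinearMap.lTensor (B : Type u) (DirectSum.lof A I (fun i => P i) i) y₀, ?_, ?_⟩
    · rw [← LinearMap.comp_apply, ← LinearMap.lTensor_comp, hΨ i, LinearMap.lTensor_comp,
        LinearMap.comp_apply]
      have := hι0 i B (k i)
      rw [this, map_zero]
    · rw [← LinearMap.comp_apply, ← LinearMap.lTensor_comp, hG i]
      have := hιg i B (k i)
      rw [this, hk i]
  have P2 : ∀ (B : Adeq.Alg A) (y : (B : Type u) ⊗[A] (⨁ i, P i)),
      LinearMap.lTensor (B : Type u) Ψ y = 0 →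
        ∃ ξ : F.obj (Adeq.pt B), φ.app (Adeq.pt B) ξ = LinearMap.lTensor (B : Type u) G y := by
    intro B y hy
    obtain ⟨s, hs⟩ := exists_finset_decomp (fun i => P i) (B : Type u) y
    have hs' := hs s (Finset.Subset.refl s)
    have hκ : ∀ i : I, ∃ κ : (kernel ((Adeq.underline A).map (ψ i))).obj (Adeq.pt B),
        (kernel.ι ((Adeq.underline A).map (ψ i))).app (Adeq.pt B) κ =
          LinearMap.lTensor (B : Type u) (DirectSum.component A I (fun i => P i) i) y := by
      intro i
      apply kernel_app_exact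
      rw [underline_map_app_eq]
      change LinearMap.lTensor (B : Type u) (ψ i).hom
        (LinearMap.lTensor (B : Type u) (DirectSum.component A I (fun i => P i) i) y) = 0
      rw [← LinearMap.comp_apply, ← LinearMap.lTensor_comp, ← hΨ' i, LinearMap.lTensor_comp,
        LinearMap.comp_apply, hy, map_zero]
    choose κ hκ using hκ
    refine ⟨∑ i ∈ s, (lam i).app (Adeq.pt B) (κ i), ?_⟩
    rw [map_sum]
    conv_rhs => rw [hs', map_sum]
    refine Finset.sum_congr rfl fun i _ => ?_
    rw [← hιg i B (κ i), hκ i]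
    conv_rhs => rw [← LinearMap.comp_apply, ← LinearMap.lTensor_comp, hG i]
  refine ⟨ModuleCat.of A (QQ G Ψ), ModuleCat.ofHom (uQ G Ψ), fun B x => ?_⟩
  rw [underline_map_app_eq]
  constructor
  · intro hx
    obtain ⟨y, hy1, hy2⟩ := exists_of_lTensor_uQ_eq_zero G Ψ (B : Type u) x hx
    obtain ⟨ξ, hξ⟩ := P2 B y hy1
    exact ⟨ξ, hξ.trans hy2⟩
  · rintro ⟨ξ, rfl⟩
    obtain ⟨y, hy1, hy2⟩ := P1 B ξ
    have := lTensor_uQ_eq_zero G Ψ (B : Type u) y hy1
    rw [hy2] at this
    exact this

end lemmaK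

end Groth.Agent.Helper1.Adq
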