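import Mathlib
import Groth.Prelude.Def_Adeq
import Groth.Agent.Lib.Helper6.Adeq.Pointwise
import Groth.Agent.Lib.Helper1.Adq4

set_option linter.unusedSectionVars false
set_option linter.unusedVariables false
set_option linter.unusedSimpArgs false
set_option autoImplicit false
set_option linter.style.haveILetI false
set_option maxHeartbeats 400000

universe u

open CategoryTheory Limits TensorProduct

namespace Groth.Agent.Helper1.Adq

open Groth.Agent.Lib.Helper6.Adeq

variable {A : Type u} [CommRing A]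

theorem comp_app_apply {F G H : Adeq.MVF A} (f : F ⟶ G) (g : G ⟶ H) (B : Adeq.Alg A)
    (x : F.obj (Adeq.pt B)) :
    (f ≫ g).app (Adeq.pt B) x = g.app (Adeq.pt B) (f.app (Adeq.pt B) x) := rfl

/-- **cokernels of maps of adequate functors are adequate** -/
theorem adequate_cokernel {F G : Adeq.MVF A} (φ : F ⟶ G)
    (hF : Adeq.adequate A F) (hG : Adeq.adequate A G) : Adeq.adequate A (cokernel φ) := by
  obtain ⟨M, N, β, jG, -, hjG, -⟩ := pointwise_of_adequate G hG
  obtain ⟨Q, u, hu⟩ := exists_ker_eq_range F hF M (φ ≫ jG)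
  obtain ⟨Q', u', hu'⟩ := exists_ker_eq_range G hG Q (jG ≫ (Adeq.underline A).map u)
  have h0 : φ ≫ jG ≫ (Adeq.underline A).map u = 0 := by
    ext X ξ
    exact (hu X.unop.unop _).2 ⟨ξ, rfl⟩
  let j : cokernel φ ⟶ (Adeq.underline A).obj Q := cokernel.desc φ (jG ≫ (Adeq.underline A).map u) h0
  have hπj : cokernel.π φ ≫ j = jG ≫ (Adeq.underline A).map u := cokernel.π_desc _ _ _
  have hπj' : ∀ (B : Adeq.Alg A) (γ : G.obj (Adeq.pt B)),
      j.app (Adeq.pt B) ((cokernel.π φ).app (Adeq.pt B) γ) =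
        ((Adeq.underline A).map u).app (Adeq.pt B) (jG.app (Adeq.pt B) γ) := by
    intro B γ
    have := congrArg (fun s => s.app (Adeq.pt B) γ) hπj
    exact this
  have hπs : ∀ B : Adeq.Alg A, Function.Surjective ((cokernel.π φ).app (Adeq.pt B)) :=
    fun B => PresheafOfModules.surjective_of_epi (cokernel.π φ) (Adeq.pt B)
  have hπφ : ∀ (B : Adeq.Alg A) (ξ : F.obj (Adeq.pt B)),
      (cokernel.π φ).app (Adeq.pt B) (φ.app (Adeq.pt B) ξ) = 0 := by
    intro B ξ
    have := congrArg (fun s => s.app (Adeq.pt B) ξ) (cokernel.condition φ)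
    exact this
  refine adequate_of_pointwise (cokernel φ) u' j ?_ ?_ ?_
  · rw [← cancel_epi (cokernel.π φ), ← Category.assoc, hπj, comp_zero]
    ext X γ
    exact (hu' X.unop.unop _).2 ⟨γ, rfl⟩
  · intro B z z' hzz
    obtain ⟨γ, rfl⟩ := hπs B z
    obtain ⟨γ', rfl⟩ := hπs B z'
    rw [hπj', hπj'] at hzz
    have h1 : ((Adeq.underline A).map u).app (Adeq.pt B) (jG.app (Adeq.pt B) (γ - γ')) = 0 := by
      rw [map_sub, map_sub, hzz, sub_self]
    obtain ⟨ξ, hξ⟩ := (hu B _).1 h1
    have h2 : φ.app (Adeq.pt B) ξ = γ - γ' := hjG B hξ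
    have h3 := hπφ B ξ
    rw [h2, map_sub, sub_eq_zero] at h3
    exact h3
  · intro B x hx
    obtain ⟨γ, hγ⟩ := (hu' B x).1 hx
    refine ⟨(cokernel.π φ).app (Adeq.pt B) γ, ?_⟩
    rw [hπj']
    exact hγ

section prod

variable {R : Type*} [CommRing R] {M N Q : Type*} [AddCommGroup M] [Module R M] [AddCommGroup N]
  [Module R N] [AddCommGroup Q] [Module R Q] (B : Type*) [AddCommGroup B] [Module R B]

theorem lTensor_prod_eq_zero_iff (f : M →ₗ[R] N) (g : M →ₗ[R] Q) (x : B ⊗[R] M) :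
    LinearMap.lTensor B (f.prod g) x = 0 ↔
      LinearMap.lTensor B f x = 0 ∧ LinearMap.lTensor B g x = 0 := by
  constructor
  · intro h
    constructor
    · have := congrArg (LinearMap.lTensor B (LinearMap.fst R N Q)) h
      rw [← LinearMap.comp_apply, ← LinearMap.lTensor_comp, LinearMap.fst_prod, map_zero] at this
      exact this
    · have := congrArg (LinearMap.lTensor B (LinearMap.snd R N Q)) h
      rw [← LinearMap.comp_apply, ← LinearMap.lTensor_comp, LinearMap.snd_prod, map_zero] at this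
      exact this
  · rintro ⟨h1, h2⟩
    have h3 : f.prod g = LinearMap.inl R N Q ∘ₗ f + LinearMap.inr R N Q ∘ₗ g := by
      apply LinearMap.ext
      intro m
      simp
    rw [h3, LinearMap.lTensor_add, LinearMap.add_apply, LinearMap.lTensor_comp,
      LinearMap.lTensor_comp, LinearMap.comp_apply, LinearMap.comp_apply, h1, h2, map_zero,
      map_zero, add_zero]

end prod

/-- **kernels of maps of adequate functors are adequate** -/
theorem adequate_kernel {F G : Adeq.MVF A} (φ : F ⟶ G)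
    (hF : Adeq.adequate A F) (hG : Adeq.adequate A G) : Adeq.adequate A (kernel φ) := by
  obtain ⟨M, M', α, jF, -, hjF, -⟩ := pointwise_of_adequate F hF
  obtain ⟨N, N', β, jG, -, hjG, -⟩ := pointwise_of_adequate G hG
  let MN : ModuleCat.{u + 1} A := ModuleCat.of A (M × N)
  let iL : M ⟶ MN := ModuleCat.ofHom (LinearMap.inl A M N)
  let iR : N ⟶ MN := ModuleCat.ofHom (LinearMap.inr A M N)
  let δ : F ⟶ (Adeq.underline A).obj MN :=
    jF ≫ (Adeq.underline A).map iL + (φ ≫ jG) ≫ (Adeq.underline A).map iR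
  have hδ : ∀ (B : Adeq.Alg A) (ξ : F.obj (Adeq.pt B)),
      (show (B : Type u) ⊗[A] (M × N) from δ.app (Adeq.pt B) ξ) =
      LinearMap.lTensor (B : Type u) (LinearMap.inl A M N)
        (show (B : Type u) ⊗[A] M from jF.app (Adeq.pt B) ξ) +
      LinearMap.lTensor (B : Type u) (LinearMap.inr A M N)
        (show (B : Type u) ⊗[A] N from jG.app (Adeq.pt B) (φ.app (Adeq.pt B) ξ)) := by
    intro B ξ
    change ((Adeq.underline A).map iL).app (Adeq.pt B) (jF.app (Adeq.pt B) ξ) +
      ((Adeq.underline A).map iR).app (Adeq.pt B) (jG.app (Adeq.pt B) (φ.app (Adeq.pt B) ξ)) = _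
    rw [underline_map_app_eq, underline_map_app_eq]
    rfl
  have hδ1 : ∀ (B : Adeq.Alg A) (ξ : F.obj (Adeq.pt B)),
      LinearMap.lTensor (B : Type u) (LinearMap.fst A M N)
        (show (B : Type u) ⊗[A] (M × N) from δ.app (Adeq.pt B) ξ) = jF.app (Adeq.pt B) ξ := by
    intro B ξ
    rw [hδ, map_add, ← LinearMap.comp_apply, ← LinearMap.lTensor_comp, ← LinearMap.comp_apply,
      ← LinearMap.lTensor_comp, LinearMap.fst_comp_inl, LinearMap.fst_comp_inr,
      LinearMap.lTensor_id, LinearMap.lTensor_zero, LinearMap.id_apply, LinearMap.zero_apply,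
      add_zero]
  have hδ2 : ∀ (B : Adeq.Alg A) (ξ : F.obj (Adeq.pt B)),
      LinearMap.lTensor (B : Type u) (LinearMap.snd A M N)
        (show (B : Type u) ⊗[A] (M × N) from δ.app (Adeq.pt B) ξ) =
        jG.app (Adeq.pt B) (φ.app (Adeq.pt B) ξ) := by
    intro B ξ
    rw [hδ, map_add, ← LinearMap.comp_apply, ← LinearMap.lTensor_comp, ← LinearMap.comp_apply,
      ← LinearMap.lTensor_comp, LinearMap.snd_comp_inl, LinearMap.snd_comp_inr,
      LinearMap.lTensor_id, LinearMap.lTensor_zero, LinearMap.id_apply, LinearMap.zero_apply,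
      zero_add]
  obtain ⟨Q, u, hu⟩ := exists_ker_eq_range F hF MN δ
  let QN : ModuleCat.{u + 1} A := ModuleCat.of A (Q × N)
  let w : MN ⟶ QN := ModuleCat.ofHom (u.hom.prod (LinearMap.snd A M N))
  have hw : ∀ (B : Adeq.Alg A) (x : ((Adeq.underline A).obj MN).obj (Adeq.pt B)),
      ((Adeq.underline A).map w).app (Adeq.pt B) x = 0 ↔
        ((Adeq.underline A).map u).app (Adeq.pt B) x = 0 ∧
          LinearMap.lTensor (B : Type u) (LinearMap.snd A M N)
            (show (B : Type u) ⊗[A] (M × N) from x) = 0 := by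
    intro B x
    rw [underline_map_app_eq, underline_map_app_eq]
    exact lTensor_prod_eq_zero_iff (B : Type u) u.hom (LinearMap.snd A M N) x
  have hιφ : ∀ (B : Adeq.Alg A) (ζ : (kernel φ).obj (Adeq.pt B)),
      φ.app (Adeq.pt B) ((kernel.ι φ).app (Adeq.pt B) ζ) = 0 := by
    intro B ζ
    have := congrArg (fun s => s.app (Adeq.pt B) ζ) (kernel.condition φ)
    exact this
  refine adequate_of_pointwise (kernel φ) w (kernel.ι φ ≫ δ) ?_ ?_ ?_
  · ext X ζ
    change ((Adeq.underline A).map w).app (Adeq.pt X.unop.unop)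
      (δ.app (Adeq.pt X.unop.unop) ((kernel.ι φ).app (Adeq.pt X.unop.unop) ζ)) = 0
    rw [hw]
    refine ⟨(hu _ _).2 ⟨_, rfl⟩, ?_⟩
    rw [hδ2, hιφ, map_zero]
    rfl
  · intro B ζ ζ' h
    apply kernel_app_injective φ B
    apply hjF B
    rw [← hδ1, ← hδ1]
    exact congrArg _ h
  · intro B x hx
    rw [hw] at hx
    obtain ⟨ξ, rfl⟩ := (hu B x).1 hx.1
    have h2 := hx.2
    rw [hδ2] at h2
    have h3 : φ.app (Adeq.pt B) ξ = 0 := hjG B (h2.trans (map_zero _).symm)
    obtain ⟨ζ, hζ⟩ := kernel_app_exact φ B ξ h3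
    exact ⟨ζ, by rw [← hζ]; rfl⟩

end Groth.Agent.Helper1.Adq
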