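import Mathlib
import Groth.Prelude.Def_Adeq
import Groth.Agent.Lib.Helper6.Adeq.Pointwise
import Groth.Agent.Lib.Helper1.Adq5

set_option linter.unusedSectionVars false
set_option linter.unusedVariables false
set_option linter.unusedSimpArgs false
set_option autoImplicit false
set_option linter.style.haveILetI false
set_option maxHeartbeats 400000

universe u

open CategoryTheory Limits TensorProduct DirectSum

namespace Groth.Agent.Helper1.Adq

open Groth.Agent.Lib.Helper6.Adeq

variable {A : Type u} [CommRing A]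

section coprod

variable {ι : Type (u + 1)} [DecidableEq ι] (F : ι → Adeq.MVF A) (c : Cofan F) (hc : IsColimit c)

/-- the canonical map from the direct sum of the values to the value of the coproduct -/
noncomputable def sumToPt (X : (Adeq.Alg A)ᵒᵖᵒᵖ) :
    (⨁ i, (F i).obj X) →ₗ[((Adeq.ringOf A).obj X : Type u)] c.pt.obj X :=
  DirectSum.toModule _ ι _ (fun i => ((c.inj i).app X).hom)

include hc in
theorem sumToPt_surjective (X : (Adeq.Alg A)ᵒᵖᵒᵖ) : Function.Surjective (sumToPt F c X) := by
  haveI : PreservesColimitsOfShape (Discrete ι)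
      (PresheafOfModules.evaluation.{u + 1} (Adeq.ringOf A) X) :=
    PresheafOfModules.evaluation_preservesColimitsOfShape _ _ X
  have hcX := isColimitOfPreserves (PresheafOfModules.evaluation (Adeq.ringOf A) X) hc
  let T : ModuleCat.{u + 1} ((Adeq.ringOf A).obj X : Type u) :=
    ModuleCat.of _ ((c.pt.obj X) ⧸ LinearMap.range (sumToPt F c X))
  let f₁ : (PresheafOfModules.evaluation (Adeq.ringOf A) X).obj c.pt ⟶ T :=
    ModuleCat.ofHom (LinearMap.range (sumToPt F c X)).mkQ
  have h12 : f₁ = 0 := by
    apply hcX.hom_ext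
    rintro ⟨i⟩
    rw [comp_zero]
    ext x
    change (LinearMap.range (sumToPt F c X)).mkQ ((c.inj i).app X x) = 0
    rw [Submodule.mkQ_apply, Submodule.Quotient.mk_eq_zero]
    refine ⟨DirectSum.lof ((Adeq.ringOf A).obj X : Type u) ι (fun i => (F i).obj X) i x, ?_⟩
    exact DirectSum.toModule_lof ((Adeq.ringOf A).obj X : Type u) (M := fun i => (F i).obj X) i x
  intro z
  have hz : (LinearMap.range (sumToPt F c X)).mkQ z = 0 := by
    have := congrArg (fun s => s.hom z) h12
    exact this
  rw [Submodule.mkQ_apply, Submodule.Quotient.mk_eq_zero] at hz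
  exact hz

theorem component_comp_lof_self {R : Type*} [Semiring R] {ι : Type*} [DecidableEq ι]
    (M : ι → Type*) [∀ i, AddCommMonoid (M i)] [∀ i, Module R (M i)] (i : ι) :
    DirectSum.component R ι M i ∘ₗ DirectSum.lof R ι M i = LinearMap.id := by
  apply LinearMap.ext
  intro x
  exact DirectSum.component.lof_self R i x

theorem component_comp_lof_ne {R : Type*} [Semiring R] {ι : Type*} [DecidableEq ι]
    (M : ι → Type*) [∀ i, AddCommMonoid (M i)] [∀ i, Module R (M i)] {i j : ι} (h : i ≠ j) :
    DirectSum.component R ι M j ∘ₗ DirectSum.lof R ι M i = 0 := by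
  apply LinearMap.ext
  intro x
  change DirectSum.component R ι M j (DirectSum.lof R ι M i x) = 0
  rw [DirectSum.component.of, dif_neg h]

/-- **a coproduct of adequate functors is adequate** -/
theorem adequate_cofan_pt {ι : Type (u + 1)} (F : ι → Adeq.MVF A)
    (hF : ∀ i, Adeq.adequate A (F i)) (c : Cofan F) (hc : IsColimit c) :
    Adeq.adequate A c.pt := by
  classical
  have hch := fun i => pointwise_of_adequate (F i) (hF i)
  choose M N β jF h0 hinj hex using hch
  let Ψ : (⨁ i, M i) →ₗ[A] (⨁ i, N i) := DirectSum.lmap (fun i => (β i).hom)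
  let MM : ModuleCat.{u + 1} A := ModuleCat.of A (⨁ i, M i)
  let NN : ModuleCat.{u + 1} A := ModuleCat.of A (⨁ i, N i)
  let lofM : ∀ i, M i ⟶ MM := fun i => ModuleCat.ofHom (DirectSum.lof A ι (fun i => M i) i)
  let lofN : ∀ i, N i ⟶ NN := fun i => ModuleCat.ofHom (DirectSum.lof A ι (fun i => N i) i)
  let Ψ' : MM ⟶ NN := ModuleCat.ofHom Ψ
  have hΨ : ∀ i, Ψ ∘ₗ DirectSum.lof A ι (fun i => M i) i =
      DirectSum.lof A ι (fun i => N i) i ∘ₗ (β i).hom := by
    intro i
    apply LinearMap.ext
    intro x
    exact DirectSum.lmap_lof (M := fun i => (M i : Type (u + 1))) (N := fun i => (N i : Type (u + 1)))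
      (fun i => (β i).hom) i x
  have hΨ' : ∀ i, DirectSum.component A ι (fun i => N i) i ∘ₗ Ψ =
      (β i).hom ∘ₗ DirectSum.component A ι (fun i => M i) i := by
    intro i
    apply LinearMap.ext
    intro x
    rfl
  have hΨc : ∀ i, lofM i ≫ Ψ' = β i ≫ lofN i := by
    intro i
    apply ModuleCat.hom_ext
    exact hΨ i
  let j : c.pt ⟶ (Adeq.underline A).obj MM :=
    Cofan.IsColimit.desc hc (fun i => jF i ≫ (Adeq.underline A).map (lofM i))
  have hfac : ∀ i, c.inj i ≫ j = jF i ≫ (Adeq.underline A).map (lofM i) :=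
    fun i => Cofan.IsColimit.fac hc _ i
  have hfac' : ∀ i (B : Adeq.Alg A) (ξ : (F i).obj (Adeq.pt B)),
      (show (B : Type u) ⊗[A] (⨁ i, M i) from
        j.app (Adeq.pt B) ((c.inj i).app (Adeq.pt B) ξ)) =
      LinearMap.lTensor (B : Type u) (DirectSum.lof A ι (fun i => M i) i)
        (show (B : Type u) ⊗[A] (M i) from (jF i).app (Adeq.pt B) ξ) := by
    intro i B ξ
    have := congrArg (fun s => s.app (Adeq.pt B) ξ) (hfac i)
    refine this.trans ?_
    exact underline_map_app_eq (lofM i) B _
  -- components of `j (sumToPt d)`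
  have hcomp : ∀ (B : Adeq.Alg A) (d : ⨁ i, (F i).obj (Adeq.pt B)) (i₀ : ι),
      LinearMap.lTensor (B : Type u) (DirectSum.component A ι (fun i => M i) i₀)
        (show (B : Type u) ⊗[A] (⨁ i, M i) from
          j.app (Adeq.pt B) (sumToPt F c (Adeq.pt B) d)) = (jF i₀).app (Adeq.pt B) (d i₀) := by
    intro B d i₀
    induction d using DirectSum.induction_on with
    | zero =>
      rw [map_zero, map_zero]
      change LinearMap.lTensor (B : Type u) (DirectSum.component A ι (fun i => M i) i₀) 0 = _
      rw [map_zero]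
      exact (map_zero _).symm
    | of i x =>
      have h1 : sumToPt F c (Adeq.pt B) (DirectSum.of (fun i => (F i).obj (Adeq.pt B)) i x) =
          (c.inj i).app (Adeq.pt B) x :=
        DirectSum.toModule_lof (((Adeq.ringOf A).obj (Adeq.pt B)) : Type u)
          (M := fun i => (F i).obj (Adeq.pt B)) i x
      rw [h1, hfac', ← LinearMap.comp_apply, ← LinearMap.lTensor_comp]
      by_cases h : i = i₀
      · subst h
        rw [component_comp_lof_self, LinearMap.lTensor_id, LinearMap.id_apply,
          DirectSum.of_eq_same]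
      · rw [component_comp_lof_ne _ h, LinearMap.lTensor_zero, LinearMap.zero_apply,
          DirectSum.of_eq_of_ne _ _ _ (Ne.symm h)]
        exact (map_zero ((jF i₀).app (Adeq.pt B)).hom).symm
    | add d₁ d₂ h₁ h₂ =>
      rw [map_add, map_add]
      change LinearMap.lTensor (B : Type u) (DirectSum.component A ι (fun i => M i) i₀)
        ((show (B : Type u) ⊗[A] (⨁ i, M i) from j.app (Adeq.pt B) (sumToPt F c (Adeq.pt B) d₁)) +
         (show (B : Type u) ⊗[A] (⨁ i, M i) from j.app (Adeq.pt B) (sumToPt F c (Adeq.pt B) d₂))) = _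
      rw [map_add, h₁, h₂]
      exact (map_add _ _ _).symm
  have hinj0 : ∀ (B : Adeq.Alg A) (z : c.pt.obj (Adeq.pt B)), j.app (Adeq.pt B) z = 0 → z = 0 := by
    intro B z hz
    obtain ⟨d, rfl⟩ := sumToPt_surjective F c hc (Adeq.pt B) z
    have hd : d = 0 := by
      apply DFinsupp.ext
      intro i₀
      apply hinj i₀ B
      rw [← hcomp B d i₀, hz]
      change LinearMap.lTensor (B : Type u) (DirectSum.component A ι (fun i => M i) i₀) 0 = _
      rw [map_zero]
      exact (map_zero _).symm
    rw [hd, map_zero]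
  refine adequate_of_pointwise c.pt Ψ' j ?_ ?_ ?_
  · apply Cofan.IsColimit.hom_ext hc
    intro i
    rw [← Category.assoc, hfac, Category.assoc, ← CategoryTheory.Functor.map_comp, hΨc,
      CategoryTheory.Functor.map_comp, ← Category.assoc, h0 i, zero_comp, comp_zero]
  · intro B z z' hzz
    have := hinj0 B (z - z') (by rw [map_sub, hzz, sub_self])
    exact sub_eq_zero.1 this
  · intro B x hx
    rw [underline_map_app_eq] at hx
    obtain ⟨s, hs⟩ := exists_finset_decomp (fun i => M i) (B : Type u) x
    have hs' := hs s (Finset.Subset.refl s)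
    have hκ : ∀ i : ι, ∃ ξ : (F i).obj (Adeq.pt B), (jF i).app (Adeq.pt B) ξ =
        LinearMap.lTensor (B : Type u) (DirectSum.component A ι (fun i => M i) i) x := by
      intro i
      apply hex i B
      rw [underline_map_app_eq]
      change LinearMap.lTensor (B : Type u) (β i).hom
        (LinearMap.lTensor (B : Type u) (DirectSum.component A ι (fun i => M i) i) x) = 0
      rw [← LinearMap.comp_apply, ← LinearMap.lTensor_comp, ← hΨ' i, LinearMap.lTensor_comp,
        LinearMap.comp_apply]
      erw [hx]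
      exact map_zero _
    choose ξ hξ using hκ
    refine ⟨∑ i ∈ s, (c.inj i).app (Adeq.pt B) (ξ i), ?_⟩
    rw [map_sum]
    refine Eq.trans ?_ hs'.symm
    refine Finset.sum_congr rfl fun i _ => ?_
    rw [← hξ i]
    exact hfac' i B (ξ i)

end coprod

section colim

/-- **a colimit of adequate functors is adequate** -/
theorem adequate_colimit {J : Type (u + 1)} [SmallCategory J]
    (D : J ⥤ Adeq.MVF A) (hD : ∀ j, Adeq.adequate A (D.obj j)) :
    Adeq.adequate A (colimit D) := by
  let cc := colimitCoconeOfCoequalizerAndCoproduct D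
  let s : (∐ fun f : Σ p : J × J, p.1 ⟶ p.2 => D.obj f.1.1) ⟶ ∐ D.obj :=
    Sigma.desc fun f => D.map f.2 ≫ colimit.ι (Discrete.functor D.obj) ⟨f.1.2⟩
  let t : (∐ fun f : Σ p : J × J, p.1 ⟶ p.2 => D.obj f.1.1) ⟶ ∐ D.obj :=
    Sigma.desc fun f => colimit.ι (Discrete.functor D.obj) ⟨f.1.1⟩
  have e1 : colimit D ≅ coequalizer s t :=
    (colimit.isColimit D).coconePointUniqueUpToIso cc.isColimit
  have e2 : coequalizer s t ≅ cokernel (s - t) :=
    (coequalizerIsCoequalizer s t).coconePointUniqueUpToIso
      (Preadditive.isColimitCoforkOfCokernelCofork (cokernelIsCokernel (s - t)))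
  have h1 : Adeq.adequate A (∐ fun f : Σ p : J × J, p.1 ⟶ p.2 => D.obj f.1.1) :=
    adequate_cofan_pt (fun f : Σ p : J × J, p.1 ⟶ p.2 => D.obj f.1.1) (fun f => hD f.1.1)
      (colimit.cocone _) (colimit.isColimit _)
  have h2 : Adeq.adequate A (∐ D.obj) :=
    adequate_cofan_pt D.obj (fun j => hD j) (colimit.cocone _) (colimit.isColimit _)
  have h3 : Adeq.adequate A (cokernel (s - t)) := adequate_cokernel (s - t) h1 h2
  exact (Adeq.adequate A).prop_of_iso (e1 ≪≫ e2).symm h3

end colim

end Groth.Agent.Helper1.Adq
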