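import Mathlib
import Groth.Prelude.Def_Adeq
import Groth.Agent.Lib.Helper6.Adeq.Pointwise
import Groth.Agent.Lib.Helper1.Adq6

set_option linter.unusedSectionVars false
set_option linter.unusedVariables false
set_option linter.unusedSimpArgs false
set_option autoImplicit false
set_option linter.style.haveILetI false
set_option maxHeartbeats 400000

universe u

open CategoryTheory Limits TensorProduct DirectSum

namespace Groth.Agent.Helper1.Adq

open Groth.Agent.Lib.Helper6.Adeq

variable {A : Type u} [CommRing A]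

/-- over the zero ring every module valued functor is zero -/
theorem isZero_of_subsingleton [Subsingleton A] (F : Adeq.MVF A) : IsZero F := by
  rw [IsZero.iff_id_eq_zero]
  ext X z
  haveI : Subsingleton (F.obj X) := by
    haveI : Subsingleton (X.unop.unop : Type u) := by
      have h01 : (0 : (X.unop.unop : Type u)) = 1 := by
        rw [← (algebraMap A (X.unop.unop : Type u)).map_one, Subsingleton.elim (1 : A) 0,
          (algebraMap A (X.unop.unop : Type u)).map_zero]
      exact subsingleton_of_zero_eq_one h01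
    exact (Module.subsingleton (X.unop.unop : Type u) (F.obj (Adeq.pt X.unop.unop)) :)
  exact Subsingleton.elim _ _

/-- index type for the standard linearly adequate functors -/
abbrev StdIdx (A : Type u) : Type u := Σ (n : ℕ) (m : ℕ), Fin n → Fin m → A

/-- the standard linearly adequate functors -/
noncomputable def Lstd (i : StdIdx A) : Adeq.MVF A :=
  kernel ((Adeq.underline A).map (matMap i.2.2))

theorem linAdequate_Lstd (i : StdIdx A) : Adeq.linAdequate A (Lstd i) :=
  linAdequate_kernel_matMap i.2.2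

theorem adequate_of_linAdequate {L : Adeq.MVF A} (hL : Adeq.linAdequate A L) :
    Adeq.adequate A L := by
  obtain ⟨P, P', ψ, -, -, -, -, h⟩ := hL
  exact ⟨P, P', ψ, h⟩

theorem adequate_Lstd (i : StdIdx A) : Adeq.adequate A (Lstd i) :=
  adequate_of_linAdequate (linAdequate_Lstd i)

/-- every linearly adequate functor is isomorphic to a standard one -/
theorem linAdequate_iso_std {L : Adeq.MVF A} (hL : Adeq.linAdequate A L) :
    ∃ i : StdIdx A, Nonempty (L ≅ Lstd i) := by
  classical
  rcases subsingleton_or_nontrivial A with hA | hA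
  · exact ⟨⟨0, 0, fun _ _ => 0⟩, ⟨(isZero_of_subsingleton L).iso (isZero_of_subsingleton _)⟩⟩
  · obtain ⟨P, P', φ₀, h1, h2, h3, h4, ⟨e⟩⟩ := hL
    obtain ⟨n, ⟨α⟩⟩ := exists_iso_freeMod P
    obtain ⟨m, ⟨α'⟩⟩ := exists_iso_freeMod P'
    obtain ⟨a, ha⟩ := exists_matMap (α.hom ≫ φ₀ ≫ α'.inv)
    have hc1 : α.hom ≫ φ₀ = matMap a ≫ α'.hom := by
      rw [← ha, Category.assoc, Category.assoc, Iso.inv_hom_id, Category.comp_id]
    have hc2 : α.inv ≫ matMap a = φ₀ ≫ α'.inv := by
      rw [← ha, Iso.inv_hom_id_assoc]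
    let κ : kernel ((Adeq.underline A).map (matMap a)) ⟶ kernel ((Adeq.underline A).map φ₀) :=
      kernel.map _ _ ((Adeq.underline A).map α.hom) ((Adeq.underline A).map α'.hom)
        (by rw [← Functor.map_comp, ← Functor.map_comp, hc1])
    let κinv : kernel ((Adeq.underline A).map φ₀) ⟶ kernel ((Adeq.underline A).map (matMap a)) :=
      kernel.map _ _ ((Adeq.underline A).map α.inv) ((Adeq.underline A).map α'.inv)
        (by rw [← Functor.map_comp, ← Functor.map_comp, hc2])
    have hκ : κinv ≫ κ = 𝟙 _ := by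
      rw [← cancel_mono (kernel.ι ((Adeq.underline A).map φ₀))]
      simp only [κ, κinv, Category.assoc, kernel.lift_ι, kernel.lift_ι_assoc, Category.id_comp]
      rw [← CategoryTheory.Functor.map_comp, Iso.inv_hom_id, CategoryTheory.Functor.map_id,
        Category.comp_id]
    have hκ' : κ ≫ κinv = 𝟙 _ := by
      rw [← cancel_mono (kernel.ι ((Adeq.underline A).map (matMap a)))]
      simp only [κ, κinv, Category.assoc, kernel.lift_ι, kernel.lift_ι_assoc, Category.id_comp]
      rw [← CategoryTheory.Functor.map_comp, Iso.hom_inv_id, CategoryTheory.Functor.map_id,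
        Category.comp_id]
    exact ⟨⟨n, m, a⟩, ⟨e ≪≫ ⟨κinv, κ, hκ, hκ'⟩⟩⟩

/-- every section of an adequate functor is hit from a standard linearly adequate functor -/
theorem exists_std_hitting (F : Adeq.MVF A) (hF : Adeq.adequate A F) (B : Adeq.Alg A)
    (ξ : F.obj (Adeq.pt B)) :
    ∃ (i : StdIdx A) (π : Lstd i ⟶ F) (k : (Lstd i).obj (Adeq.pt B)), π.app (Adeq.pt B) k = ξ := by
  obtain ⟨L, hL, π, k, hk⟩ := exists_linAdequate_hitting F hF B ξ
  obtain ⟨i, ⟨e⟩⟩ := linAdequate_iso_std hL
  refine ⟨i, e.inv ≫ π, e.hom.app (Adeq.pt B) k, ?_⟩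
  have h3 : e.inv.app (Adeq.pt B) (e.hom.app (Adeq.pt B) k) = k := by
    have := congrArg (fun s => s.app (Adeq.pt B) k) e.hom_inv_id
    exact this
  change π.app (Adeq.pt B) (e.inv.app (Adeq.pt B) (e.hom.app (Adeq.pt B) k)) = ξ
  rw [h3, hk]

/-- index type: standard functors over `F` -/
def CovIdx (F : Adeq.MVF A) : Type (u + 1) := Σ i : StdIdx A, (Lstd i ⟶ F)

/-- the family of standard functors over `F` -/
noncomputable abbrev covFam (F : Adeq.MVF A) : CovIdx F → Adeq.MVF A := fun p => Lstd p.1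

/-- the structure maps -/
noncomputable abbrev covHom (F : Adeq.MVF A) (p : CovIdx F) : covFam F p ⟶ F := p.2

/-- the canonical map from the coproduct of all standard functors over `F` -/
noncomputable def stdCover (F : Adeq.MVF A) : (∐ covFam F) ⟶ F :=
  Sigma.desc (covHom F)

theorem ι_stdCover (F : Adeq.MVF A) (p : CovIdx F) :
    Sigma.ι (covFam F) p ≫ stdCover F = p.2 := Sigma.ι_desc _ _

theorem ι_stdCover_assoc (F : Adeq.MVF A) (p : CovIdx F) {Z : Adeq.MVF A} (h : F ⟶ Z) :
    Sigma.ι (covFam F) p ≫ stdCover F ≫ h = p.2 ≫ h := by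
  rw [← Category.assoc, ι_stdCover]

attribute [irreducible] stdCover

theorem stdCover_surjective (F : Adeq.MVF A) (hF : Adeq.adequate A F) (B : Adeq.Alg A) :
    Function.Surjective ((stdCover F).app (Adeq.pt B)) := by
  intro ξ
  obtain ⟨i, π, k, hk⟩ := exists_std_hitting F hF B ξ
  refine ⟨(Sigma.ι (covFam F) (⟨i, π⟩ : CovIdx F)).app (Adeq.pt B) k, ?_⟩
  have := congrArg (fun q => q.app (Adeq.pt B) k) (ι_stdCover F (⟨i, π⟩ : CovIdx F))
  exact this.trans hk

theorem stdCover_epi (F : Adeq.MVF A) (hF : Adeq.adequate A F) : Epi (stdCover F) := by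
  apply PresheafOfModules.epi_of_surjective
  intro X
  exact stdCover_surjective F hF X.unop.unop

theorem adequate_stdCoprod (F : Adeq.MVF A) : Adeq.adequate A (∐ covFam F) :=
  adequate_cofan_pt (covFam F) (fun p => adequate_Lstd p.1) (colimit.cocone _)
    (colimit.isColimit _)

section biprod

/-- **a binary biproduct of adequate functors is adequate** -/
theorem adequate_biprod (G H : Adeq.MVF A) (hG : Adeq.adequate A G) (hH : Adeq.adequate A H) :
    Adeq.adequate A (G ⊞ H) := by
  obtain ⟨M, N, α, jG, h0G, hinjG, hexG⟩ := pointwise_of_adequate G hG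
  obtain ⟨M', N', α', jH, h0H, hinjH, hexH⟩ := pointwise_of_adequate H hH
  let MM : ModuleCat.{u + 1} A := ModuleCat.of A (M × M')
  let NN : ModuleCat.{u + 1} A := ModuleCat.of A (N × N')
  let Φ : MM ⟶ NN := ModuleCat.ofHom (α.hom.prodMap α'.hom)
  let iL : M ⟶ MM := ModuleCat.ofHom (LinearMap.inl A M M')
  let iR : M' ⟶ MM := ModuleCat.ofHom (LinearMap.inr A M M')
  let iL' : N ⟶ NN := ModuleCat.ofHom (LinearMap.inl A N N')
  let iR' : N' ⟶ NN := ModuleCat.ofHom (LinearMap.inr A N N')
  have hL : iL ≫ Φ = α ≫ iL' := by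
    apply ModuleCat.hom_ext
    apply LinearMap.ext
    intro x
    change ((α.hom.prodMap α'.hom) (x, 0) : N × N') = (α.hom x, 0)
    rw [LinearMap.prodMap_apply, map_zero]
  have hR : iR ≫ Φ = α' ≫ iR' := by
    apply ModuleCat.hom_ext
    apply LinearMap.ext
    intro x
    change ((α.hom.prodMap α'.hom) (0, x) : N × N') = (0, α'.hom x)
    rw [LinearMap.prodMap_apply, map_zero]
  let j : G ⊞ H ⟶ (Adeq.underline A).obj MM :=
    biprod.fst ≫ jG ≫ (Adeq.underline A).map iL + biprod.snd ≫ jH ≫ (Adeq.underline A).map iR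
  have hj : ∀ (B : Adeq.Alg A) (z : (G ⊞ H).obj (Adeq.pt B)),
      (show (B : Type u) ⊗[A] (M × M') from j.app (Adeq.pt B) z) =
      LinearMap.lTensor (B : Type u) (LinearMap.inl A M M')
        (show (B : Type u) ⊗[A] M from jG.app (Adeq.pt B) ((biprod.fst : G ⊞ H ⟶ G).app (Adeq.pt B) z)) +
      LinearMap.lTensor (B : Type u) (LinearMap.inr A M M')
        (show (B : Type u) ⊗[A] M' from jH.app (Adeq.pt B) ((biprod.snd : G ⊞ H ⟶ H).app (Adeq.pt B) z)) := by
    intro B z
    change ((Adeq.underline A).map iL).app (Adeq.pt B)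
        (jG.app (Adeq.pt B) ((biprod.fst : G ⊞ H ⟶ G).app (Adeq.pt B) z)) +
      ((Adeq.underline A).map iR).app (Adeq.pt B)
        (jH.app (Adeq.pt B) ((biprod.snd : G ⊞ H ⟶ H).app (Adeq.pt B) z)) = _
    rw [underline_map_app_eq, underline_map_app_eq]
    rfl
  have hj1 : ∀ (B : Adeq.Alg A) (z : (G ⊞ H).obj (Adeq.pt B)),
      LinearMap.lTensor (B : Type u) (LinearMap.fst A M M')
        (show (B : Type u) ⊗[A] (M × M') from j.app (Adeq.pt B) z) =
        jG.app (Adeq.pt B) ((biprod.fst : G ⊞ H ⟶ G).app (Adeq.pt B) z) := by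
    intro B z
    rw [hj, map_add, ← LinearMap.lTensor_comp_apply, ← LinearMap.lTensor_comp_apply,
      LinearMap.fst_comp_inl, LinearMap.fst_comp_inr,
      LinearMap.lTensor_id, LinearMap.lTensor_zero, LinearMap.id_apply, LinearMap.zero_apply,
      add_zero]
  have hj2 : ∀ (B : Adeq.Alg A) (z : (G ⊞ H).obj (Adeq.pt B)),
      LinearMap.lTensor (B : Type u) (LinearMap.snd A M M')
        (show (B : Type u) ⊗[A] (M × M') from j.app (Adeq.pt B) z) =
        jH.app (Adeq.pt B) ((biprod.snd : G ⊞ H ⟶ H).app (Adeq.pt B) z) := by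
    intro B z
    rw [hj, map_add, ← LinearMap.lTensor_comp_apply, ← LinearMap.lTensor_comp_apply,
      LinearMap.snd_comp_inl, LinearMap.snd_comp_inr,
      LinearMap.lTensor_id, LinearMap.lTensor_zero, LinearMap.id_apply, LinearMap.zero_apply,
      zero_add]
  have htot : ∀ (B : Adeq.Alg A) (z : (G ⊞ H).obj (Adeq.pt B)),
      z = (biprod.inl : G ⟶ G ⊞ H).app (Adeq.pt B) ((biprod.fst : G ⊞ H ⟶ G).app (Adeq.pt B) z) +
        (biprod.inr : H ⟶ G ⊞ H).app (Adeq.pt B) ((biprod.snd : G ⊞ H ⟶ H).app (Adeq.pt B) z) := by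
    intro B z
    have := congrArg (fun q => q.app (Adeq.pt B) z) (biprod.total (X := G) (Y := H))
    exact this.symm
  have hfi : ∀ (B : Adeq.Alg A) (g : G.obj (Adeq.pt B)),
      (biprod.fst : G ⊞ H ⟶ G).app (Adeq.pt B) ((biprod.inl : G ⟶ G ⊞ H).app (Adeq.pt B) g) = g := by
    intro B g
    have := congrArg (fun q => q.app (Adeq.pt B) g) (biprod.inl_fst (X := G) (Y := H))
    exact this
  have hsi : ∀ (B : Adeq.Alg A) (g : G.obj (Adeq.pt B)),
      (biprod.snd : G ⊞ H ⟶ H).app (Adeq.pt B) ((biprod.inl : G ⟶ G ⊞ H).app (Adeq.pt B) g) = 0 := by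
    intro B g
    have := congrArg (fun q => q.app (Adeq.pt B) g) (biprod.inl_snd (X := G) (Y := H))
    exact this
  have hfr : ∀ (B : Adeq.Alg A) (h : H.obj (Adeq.pt B)),
      (biprod.fst : G ⊞ H ⟶ G).app (Adeq.pt B) ((biprod.inr : H ⟶ G ⊞ H).app (Adeq.pt B) h) = 0 := by
    intro B h
    have := congrArg (fun q => q.app (Adeq.pt B) h) (biprod.inr_fst (X := G) (Y := H))
    exact this
  have hsr : ∀ (B : Adeq.Alg A) (h : H.obj (Adeq.pt B)),
      (biprod.snd : G ⊞ H ⟶ H).app (Adeq.pt B) ((biprod.inr : H ⟶ G ⊞ H).app (Adeq.pt B) h) = h := by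
    intro B h
    have := congrArg (fun q => q.app (Adeq.pt B) h) (biprod.inr_snd (X := G) (Y := H))
    exact this
  refine adequate_of_pointwise (G ⊞ H) Φ j ?_ ?_ ?_
  · simp only [j, Preadditive.add_comp, Category.assoc]
    rw [← CategoryTheory.Functor.map_comp, ← CategoryTheory.Functor.map_comp, hL, hR,
      CategoryTheory.Functor.map_comp, CategoryTheory.Functor.map_comp, reassoc_of% h0G,
      reassoc_of% h0H, zero_comp, zero_comp, comp_zero, comp_zero, add_zero]
  · intro B z z' hzz
    have h1 : (biprod.fst : G ⊞ H ⟶ G).app (Adeq.pt B) z =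
        (biprod.fst : G ⊞ H ⟶ G).app (Adeq.pt B) z' := by
      apply hinjG B
      rw [← hj1, ← hj1]
      exact congrArg _ hzz
    have h2 : (biprod.snd : G ⊞ H ⟶ H).app (Adeq.pt B) z =
        (biprod.snd : G ⊞ H ⟶ H).app (Adeq.pt B) z' := by
      apply hinjH B
      rw [← hj2, ← hj2]
      exact congrArg _ hzz
    rw [htot B z, htot B z', h1, h2]
  · intro B x hx
    rw [underline_map_app_eq] at hx
    replace hx : LinearMap.lTensor (B : Type u) (α.hom.prodMap α'.hom)
        (show (B : Type u) ⊗[A] (M × M') from x) = 0 := hx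
    have hx1 : LinearMap.lTensor (B : Type u) α.hom
        (LinearMap.lTensor (B : Type u) (LinearMap.fst A M M') (show (B : Type u) ⊗[A] (M × M') from x)) = 0 := by
      have := congrArg (LinearMap.lTensor (B : Type u) (LinearMap.fst A N N')) hx
      rw [map_zero, ← LinearMap.lTensor_comp_apply] at this
      rw [← LinearMap.lTensor_comp_apply]
      exact this
    have hx2 : LinearMap.lTensor (B : Type u) α'.hom
        (LinearMap.lTensor (B : Type u) (LinearMap.snd A M M') (show (B : Type u) ⊗[A] (M × M') from x)) = 0 := by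
      have := congrArg (LinearMap.lTensor (B : Type u) (LinearMap.snd A N N')) hx
      rw [map_zero, ← LinearMap.lTensor_comp_apply] at this
      rw [← LinearMap.lTensor_comp_apply]
      exact this
    obtain ⟨g, hg⟩ := hexG B _ ((underline_map_app_eq α B _).trans hx1)
    obtain ⟨h, hh⟩ := hexH B _ ((underline_map_app_eq α' B _).trans hx2)
    refine ⟨(biprod.inl : G ⟶ G ⊞ H).app (Adeq.pt B) g + (biprod.inr : H ⟶ G ⊞ H).app (Adeq.pt B) h, ?_⟩
    have e1 : (biprod.fst : G ⊞ H ⟶ G).app (Adeq.pt B)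
        ((biprod.inl : G ⟶ G ⊞ H).app (Adeq.pt B) g + (biprod.inr : H ⟶ G ⊞ H).app (Adeq.pt B) h) = g := by
      rw [map_add, hfi, hfr, add_zero]
    have e2 : (biprod.snd : G ⊞ H ⟶ H).app (Adeq.pt B)
        ((biprod.inl : G ⟶ G ⊞ H).app (Adeq.pt B) g + (biprod.inr : H ⟶ G ⊞ H).app (Adeq.pt B) h) = h := by
      rw [map_add, hsi, hsr, zero_add]
    refine (hj B _).trans ?_
    rw [e1, e2, hg, hh,
      ← LinearMap.lTensor_comp_apply, ← LinearMap.lTensor_comp_apply, ← LinearMap.add_apply,
      ← LinearMap.lTensor_add]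
    have : LinearMap.inl A M M' ∘ₗ LinearMap.fst A M M' + LinearMap.inr A M M' ∘ₗ LinearMap.snd A M M' =
        LinearMap.id := by
      apply LinearMap.ext
      intro m
      simp
    rw [this, LinearMap.lTensor_id, LinearMap.id_apply]

end biprod

end Groth.Agent.Helper1.Adq
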