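import Mathlib
import Groth.Prelude.Def_Adeq
import Groth.Agent.Lib.Helper6.Adeq.Pointwise
import Groth.Agent.Lib.Helper1.Adq7
import Groth.Agent.Lib.Helper1.Adq14

set_option autoImplicit false
set_option linter.unusedSectionVars false
set_option linter.unusedVariables false
set_option maxHeartbeats 400000
universe u v
open CategoryTheory CategoryTheory.Limits TensorProduct

namespace Groth.Agent.Helper1.Adq

open Groth.Agent.Lib.Helper6.Adeq

section General

variable {C : Type*} [Category C] {R : Cᵒᵖ ⥤ RingCat.{u}}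

theorem gen_exact_app {S : ShortComplex (PresheafOfModules.{v} R)} (hS : S.Exact) (X : Cᵒᵖ)
    (x : S.X₂.obj X) (hx : S.g.app X x = 0) : ∃ y : S.X₁.obj X, S.f.app X y = x := by
  have hS' := hS.map (PresheafOfModules.evaluation.{v} R X)
  rw [ShortComplex.moduleCat_exact_iff] at hS'
  exact hS' x hx

theorem gen_cokernel_app_exact {F G : PresheafOfModules.{v} R} (φ : F ⟶ G) (X : Cᵒᵖ)
    (x : G.obj X) (hx : (cokernel.π φ).app X x = 0) : ∃ y : F.obj X, φ.app X y = x := by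
  let S : ShortComplex (PresheafOfModules.{v} R) :=
    ShortComplex.mk φ (cokernel.π φ) (cokernel.condition φ)
  have hS : S.Exact := S.exact_of_g_is_cokernel (cokernelIsCokernel φ)
  exact gen_exact_app hS X x hx

end General

variable {A : Type u} [CommRing A]

section biprodtools

variable (P Q : Adeq.MVF A) (B : Adeq.Alg A)

theorem bp_inl_fst (x : P.obj (Adeq.pt B)) :
    (biprod.fst : P ⊞ Q ⟶ P).app (Adeq.pt B) ((biprod.inl : P ⟶ P ⊞ Q).app (Adeq.pt B) x) = x :=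
  congrArg (fun q => q.app (Adeq.pt B) x) (biprod.inl_fst (X := P) (Y := Q))

theorem bp_inl_snd (x : P.obj (Adeq.pt B)) :
    (biprod.snd : P ⊞ Q ⟶ Q).app (Adeq.pt B) ((biprod.inl : P ⟶ P ⊞ Q).app (Adeq.pt B) x) = 0 :=
  congrArg (fun q => q.app (Adeq.pt B) x) (biprod.inl_snd (X := P) (Y := Q))

theorem bp_inr_fst (y : Q.obj (Adeq.pt B)) :
    (biprod.fst : P ⊞ Q ⟶ P).app (Adeq.pt B) ((biprod.inr : Q ⟶ P ⊞ Q).app (Adeq.pt B) y) = 0 :=
  congrArg (fun q => q.app (Adeq.pt B) y) (biprod.inr_fst (X := P) (Y := Q))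

theorem bp_inr_snd (y : Q.obj (Adeq.pt B)) :
    (biprod.snd : P ⊞ Q ⟶ Q).app (Adeq.pt B) ((biprod.inr : Q ⟶ P ⊞ Q).app (Adeq.pt B) y) = y :=
  congrArg (fun q => q.app (Adeq.pt B) y) (biprod.inr_snd (X := P) (Y := Q))

theorem bp_total (w : (P ⊞ Q).obj (Adeq.pt B)) :
    w = (biprod.inl : P ⟶ P ⊞ Q).app (Adeq.pt B) ((biprod.fst : P ⊞ Q ⟶ P).app (Adeq.pt B) w) +
      (biprod.inr : Q ⟶ P ⊞ Q).app (Adeq.pt B) ((biprod.snd : P ⊞ Q ⟶ Q).app (Adeq.pt B) w) :=
  (congrArg (fun q => q.app (Adeq.pt B) w) (biprod.total (X := P) (Y := Q))).symm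

theorem bp_ext (w w' : (P ⊞ Q).obj (Adeq.pt B))
    (h1 : (biprod.fst : P ⊞ Q ⟶ P).app (Adeq.pt B) w = (biprod.fst : P ⊞ Q ⟶ P).app (Adeq.pt B) w')
    (h2 : (biprod.snd : P ⊞ Q ⟶ Q).app (Adeq.pt B) w = (biprod.snd : P ⊞ Q ⟶ Q).app (Adeq.pt B) w') :
    w = w' := by
  rw [bp_total P Q B w, bp_total P Q B w', h1, h2]

variable {P Q}

theorem bp_lift_fst {T : Adeq.MVF A} (f : T ⟶ P) (g : T ⟶ Q) (t : T.obj (Adeq.pt B)) :
    (biprod.fst : P ⊞ Q ⟶ P).app (Adeq.pt B) ((biprod.lift f g).app (Adeq.pt B) t) =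
      f.app (Adeq.pt B) t :=
  congrArg (fun q => q.app (Adeq.pt B) t) (biprod.lift_fst f g)

theorem bp_lift_snd {T : Adeq.MVF A} (f : T ⟶ P) (g : T ⟶ Q) (t : T.obj (Adeq.pt B)) :
    (biprod.snd : P ⊞ Q ⟶ Q).app (Adeq.pt B) ((biprod.lift f g).app (Adeq.pt B) t) =
      g.app (Adeq.pt B) t :=
  congrArg (fun q => q.app (Adeq.pt B) t) (biprod.lift_snd f g)

theorem bp_desc {T : Adeq.MVF A} (f : P ⟶ T) (g : Q ⟶ T) (w : (P ⊞ Q).obj (Adeq.pt B)) :
    (biprod.desc f g).app (Adeq.pt B) w =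
      f.app (Adeq.pt B) ((biprod.fst : P ⊞ Q ⟶ P).app (Adeq.pt B) w) +
      g.app (Adeq.pt B) ((biprod.snd : P ⊞ Q ⟶ Q).app (Adeq.pt B) w) :=
  congrArg (fun q : P ⊞ Q ⟶ T => q.app (Adeq.pt B) w) biprod.desc_eq

end biprodtools

section shortExact

theorem pointwise_of_shortExact {S : ShortComplex (Adeq.MVF A)} (hS : S.ShortExact) :
    (∀ B : Adeq.Alg A, Function.Injective (S.f.app (Adeq.pt B))) ∧
    (∀ B : Adeq.Alg A, Function.Surjective (S.g.app (Adeq.pt B))) ∧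
    (∀ (B : Adeq.Alg A) (x : S.X₂.obj (Adeq.pt B)), S.g.app (Adeq.pt B) x = 0 →
      ∃ y, S.f.app (Adeq.pt B) y = x) := by
  haveI := hS.mono_f
  haveI := hS.epi_g
  exact ⟨fun B => PresheafOfModules.injective_of_mono S.f (Adeq.pt B),
    fun B => PresheafOfModules.surjective_of_epi S.g (Adeq.pt B),
    fun B x hx => gen_exact_app hS.exact (Adeq.pt B) x hx⟩

theorem adequate_underline (M : ModuleCat.{u + 1} A) :
    Adeq.adequate A ((Adeq.underline A).obj M) := by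
  refine adequate_of_pointwise _ (0 : M ⟶ M) (𝟙 _) ?_ ?_ ?_
  · rw [CategoryTheory.Functor.map_zero, comp_zero]
  · intro B x y h
    exact h
  · intro B x _
    exact ⟨x, rfl⟩

/-- **S8747**: an extension of a linearly adequate functor by `underline M` splits -/
theorem splitting_of_shortExact (S : ShortComplex (Adeq.MVF A)) (hS : S.ShortExact)
    (M : ModuleCat.{u + 1} A) (e : S.X₁ ≅ (Adeq.underline A).obj M)
    (hL : Adeq.linAdequate A S.X₃) : Nonempty S.Splitting ∧ Adeq.adequate A S.X₂ := by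
  obtain ⟨hinj, hsurj, hex⟩ := pointwise_of_shortExact hS
  obtain ⟨idx, ⟨ε⟩⟩ := linAdequate_iso_std hL
  have hinv : ∀ (B : Adeq.Alg A) (x : ((Adeq.underline A).obj M).obj (Adeq.pt B)),
      e.inv.app (Adeq.pt B) (e.hom.app (Adeq.pt B) (e.inv.app (Adeq.pt B) x)) =
        e.inv.app (Adeq.pt B) x := by
    intro B x
    have := congrArg (fun q => q.app (Adeq.pt B) (e.inv.app (Adeq.pt B) x)) e.hom_inv_id
    exact this
  have hhi : ∀ (B : Adeq.Alg A) (y : S.X₁.obj (Adeq.pt B)),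
      e.inv.app (Adeq.pt B) (e.hom.app (Adeq.pt B) y) = y := by
    intro B y
    have := congrArg (fun q => q.app (Adeq.pt B) y) e.hom_inv_id
    exact this
  have hih : ∀ (B : Adeq.Alg A) (x : ((Adeq.underline A).obj M).obj (Adeq.pt B)),
      e.hom.app (Adeq.pt B) (e.inv.app (Adeq.pt B) x) = x := by
    intro B x
    have := congrArg (fun q => q.app (Adeq.pt B) x) e.inv_hom_id
    exact this
  obtain ⟨σ, hσ⟩ := exists_lift_of_kernel idx.2.2 (e.inv ≫ S.f) S.g
    (by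
      intro B x y h
      have h' : S.f.app (Adeq.pt B) (e.inv.app (Adeq.pt B) x) =
        S.f.app (Adeq.pt B) (e.inv.app (Adeq.pt B) y) := h
      have := hinj B h'
      rw [← hih B x, ← hih B y, this])
    hsurj
    (by
      intro B g hg
      obtain ⟨y, hy⟩ := hex B g hg
      refine ⟨e.hom.app (Adeq.pt B) y, ?_⟩
      change S.f.app (Adeq.pt B) (e.inv.app (Adeq.pt B) (e.hom.app (Adeq.pt B) y)) = g
      rw [hhi, hy])
    (by rw [Category.assoc, S.zero, comp_zero]) ε.inv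
  let σ' : Lstd idx ⟶ S.X₂ := σ
  have hσ' : σ' ≫ S.g = ε.inv := hσ
  have hs : (ε.hom ≫ σ') ≫ S.g = 𝟙 S.X₃ :=
    (Category.assoc _ _ _).trans ((congrArg (fun t => ε.hom ≫ t) hσ').trans ε.hom_inv_id)
  haveI := hS.mono_f
  let spl : S.Splitting := ShortComplex.Splitting.ofExactOfSection S hS.exact (ε.hom ≫ σ') hs
    inferInstance
  refine ⟨⟨spl⟩, ?_⟩
  have h1 : Adeq.adequate A S.X₁ := (Adeq.adequate A).prop_of_iso e.symm (adequate_underline M)
  have h3 : Adeq.adequate A S.X₃ := adequate_of_linAdequate hL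
  exact (Adeq.adequate A).prop_of_iso spl.isoBinaryBiproduct.symm (adequate_biprod _ _ h1 h3)

end shortExact

end Groth.Agent.Helper1.Adq
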