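import Mathlib
import Groth.Prelude.Def_Adeq
import Groth.Agent.Lib.Helper6.Adeq.Pointwise
import Groth.Agent.Lib.Helper1.Adq15

set_option autoImplicit false
set_option linter.unusedSectionVars false
set_option linter.unusedVariables false
set_option maxHeartbeats 400000
universe u v
open CategoryTheory CategoryTheory.Limits TensorProduct

namespace Groth.Agent.Helper1.Adq

open Groth.Agent.Lib.Helper6.Adeq

variable {A : Type u} [CommRing A]

theorem app_comp {F G H : Adeq.MVF A} (f : F ⟶ G) (g : G ⟶ H) (B : Adeq.Alg A)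
    (x : F.obj (Adeq.pt B)) :
    (f ≫ g).app (Adeq.pt B) x = g.app (Adeq.pt B) (f.app (Adeq.pt B) x) := rfl

theorem app_eq_of_eq {F G : Adeq.MVF A} {f g : F ⟶ G} (h : f = g) (B : Adeq.Alg A)
    (x : F.obj (Adeq.pt B)) : f.app (Adeq.pt B) x = g.app (Adeq.pt B) x := by rw [h]

theorem bp_fst_add (P Q : Adeq.MVF A) (B : Adeq.Alg A) (x : P.obj (Adeq.pt B))
    (y : Q.obj (Adeq.pt B)) :
    (biprod.fst : P ⊞ Q ⟶ P).app (Adeq.pt B) ((biprod.inl : P ⟶ P ⊞ Q).app (Adeq.pt B) x +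
      (biprod.inr : Q ⟶ P ⊞ Q).app (Adeq.pt B) y) = x := by
  rw [map_add, bp_inl_fst, bp_inr_fst, add_zero]

theorem bp_snd_add (P Q : Adeq.MVF A) (B : Adeq.Alg A) (x : P.obj (Adeq.pt B))
    (y : Q.obj (Adeq.pt B)) :
    (biprod.snd : P ⊞ Q ⟶ Q).app (Adeq.pt B) ((biprod.inl : P ⟶ P ⊞ Q).app (Adeq.pt B) x +
      (biprod.inr : Q ⟶ P ⊞ Q).app (Adeq.pt B) y) = y := by
  rw [map_add, bp_inl_snd, bp_inr_snd, zero_add]

/-- if a cover of `H` by an adequate functor lifts to `G` and the kernel of `G → H` is adequate,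
then `G` is adequate -/
theorem adequate_of_cover_lift {G H Cv : Adeq.MVF A} (p : G ⟶ H) (π : Cv ⟶ H) (s : Cv ⟶ G)
    (hs : s ≫ p = π) (hπ : ∀ B : Adeq.Alg A, Function.Surjective (π.app (Adeq.pt B)))
    (hK : Adeq.adequate A (kernel p)) (hH : Adeq.adequate A H) (hCv : Adeq.adequate A Cv) :
    Adeq.adequate A G := by
  have hN : Adeq.adequate A (kernel π) := adequate_kernel π hCv hH
  have hW : Adeq.adequate A (kernel p ⊞ Cv) := adequate_biprod _ _ hK hCv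
  let ρ : kernel p ⊞ Cv ⟶ G := biprod.desc (kernel.ι p) s
  have hν0 : (kernel.ι π ≫ s) ≫ p = 0 := by
    rw [Category.assoc, hs, kernel.condition]
  let ν : kernel π ⟶ kernel p := kernel.lift p (kernel.ι π ≫ s) hν0
  have hν : ν ≫ kernel.ι p = kernel.ι π ≫ s := kernel.lift_ι _ _ _
  let ι' : kernel π ⟶ kernel p ⊞ Cv := biprod.lift (-ν) (kernel.ι π)
  have hι'ρ : ι' ≫ ρ = 0 := by
    rw [biprod.lift_desc, Preadditive.neg_comp, hν, neg_add_cancel]
  let d : cokernel ι' ⟶ G := cokernel.desc ι' ρ hι'ρ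
  have hπd : cokernel.π ι' ≫ d = ρ := cokernel.π_desc _ _ _
  have hρ : ∀ (B : Adeq.Alg A) (w : (kernel p ⊞ Cv).obj (Adeq.pt B)),
      ρ.app (Adeq.pt B) w =
        (kernel.ι p).app (Adeq.pt B) ((biprod.fst : kernel p ⊞ Cv ⟶ kernel p).app (Adeq.pt B) w) +
        s.app (Adeq.pt B) ((biprod.snd : kernel p ⊞ Cv ⟶ Cv).app (Adeq.pt B) w) :=
    fun B w => bp_desc B (kernel.ι p) s w
  have hps : ∀ (B : Adeq.Alg A) (l : Cv.obj (Adeq.pt B)),
      p.app (Adeq.pt B) (s.app (Adeq.pt B) l) = π.app (Adeq.pt B) l :=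
    fun B l => app_eq_of_eq hs B l
  have hpι : ∀ (B : Adeq.Alg A) (k : (kernel p).obj (Adeq.pt B)),
      p.app (Adeq.pt B) ((kernel.ι p).app (Adeq.pt B) k) = 0 :=
    fun B k => app_eq_of_eq (kernel.condition p) B k
  have hcs : ∀ B : Adeq.Alg A, Function.Surjective ((cokernel.π ι').app (Adeq.pt B)) :=
    fun B => PresheafOfModules.surjective_of_epi (cokernel.π ι') (Adeq.pt B)
  have hd_surj : ∀ B : Adeq.Alg A, Function.Surjective (d.app (Adeq.pt B)) := by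
    intro B g₀
    obtain ⟨l, hl⟩ := hπ B (p.app (Adeq.pt B) g₀)
    have h0 : p.app (Adeq.pt B) (g₀ - s.app (Adeq.pt B) l) = 0 := by
      rw [map_sub, hps B l, hl, sub_self]
    obtain ⟨k, hk⟩ := gen_kernel_app_exact p (Adeq.pt B) _ h0
    refine ⟨(cokernel.π ι').app (Adeq.pt B)
      ((biprod.inl : kernel p ⟶ kernel p ⊞ Cv).app (Adeq.pt B) k +
        (biprod.inr : Cv ⟶ kernel p ⊞ Cv).app (Adeq.pt B) l), ?_⟩
    have h1 := app_eq_of_eq hπd B
      ((biprod.inl : kernel p ⟶ kernel p ⊞ Cv).app (Adeq.pt B) k +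
        (biprod.inr : Cv ⟶ kernel p ⊞ Cv).app (Adeq.pt B) l)
    refine h1.trans ?_
    rw [hρ B, bp_fst_add, bp_snd_add, hk]
    abel
  have hd_inj : ∀ B : Adeq.Alg A, Function.Injective (d.app (Adeq.pt B)) := by
    intro B
    rw [injective_iff_map_eq_zero]
    intro c hc
    obtain ⟨w, rfl⟩ := hcs B c
    have h1 := app_eq_of_eq hπd B w
    have h2 : ρ.app (Adeq.pt B) w = 0 := h1.symm.trans hc
    rw [hρ B] at h2
    have h3 := congrArg (p.app (Adeq.pt B)) h2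
    rw [map_add, hpι B, hps B, zero_add, map_zero] at h3
    obtain ⟨n, hn⟩ := gen_kernel_app_exact π (Adeq.pt B) _ h3
    have h4 : (biprod.fst : kernel p ⊞ Cv ⟶ kernel p).app (Adeq.pt B) w = -(ν.app (Adeq.pt B) n) := by
      apply gen_kernel_app_injective (kernel.ι p) (Adeq.pt B)
      rw [map_neg]
      have h5 := app_eq_of_eq hν B n
      rw [app_comp, app_comp, hn] at h5
      rw [h5]
      exact eq_neg_of_add_eq_zero_left h2
    have h6 : w = ι'.app (Adeq.pt B) n := by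
      apply bp_ext _ _ B
      · rw [bp_lift_fst]
        exact h4
      · rw [bp_lift_snd]
        exact hn.symm
    rw [h6]
    exact app_eq_of_eq (cokernel.condition ι') B n
  haveI : Epi d := by
    apply PresheafOfModules.epi_of_surjective
    intro X
    exact hd_surj X.unop.unop
  haveI : Mono d := by
    apply PresheafOfModules.mono_of_injective
    intro X
    exact hd_inj X.unop.unop
  haveI : IsIso d := isIso_of_mono_of_epi d
  exact (Adeq.adequate A).prop_of_iso (asIso d) (adequate_cokernel ι' hN hW)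

/-- an extension of an adequate functor by `underline M` is adequate -/
theorem adequate_of_ext_underline {M : ModuleCat.{u + 1} A} {G H : Adeq.MVF A}
    (i : (Adeq.underline A).obj M ⟶ G) (p : G ⟶ H)
    (hi : ∀ B : Adeq.Alg A, Function.Injective (i.app (Adeq.pt B)))
    (hp : ∀ B : Adeq.Alg A, Function.Surjective (p.app (Adeq.pt B)))
    (hex : ∀ (B : Adeq.Alg A) (g : G.obj (Adeq.pt B)), p.app (Adeq.pt B) g = 0 →
      ∃ x, i.app (Adeq.pt B) x = g)
    (hip : i ≫ p = 0) (hH : Adeq.adequate A H) : Adeq.adequate A G := by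
  have hK : Adeq.adequate A (kernel p) := by
    obtain ⟨e⟩ := gen_iso_kernel_of_pointwise i p hip (fun X => hi X.unop.unop)
      (fun X x hx => hex X.unop.unop x hx)
    exact (Adeq.adequate A).prop_of_iso e (adequate_underline M)
  have hch : ∀ q : CovIdx H, ∃ σ : covFam H q ⟶ G, σ ≫ p = q.2 :=
    fun q => exists_lift_of_kernel q.1.2.2 i p hi hp hex hip q.2
  choose σ hσ using hch
  have hs : Sigma.desc σ ≫ p = stdCover H := by
    apply Sigma.hom_ext
    intro q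
    have h1 : Sigma.ι (covFam H) q ≫ Sigma.desc σ = σ q := Sigma.ι_desc _ _
    exact (Category.assoc _ _ _).symm.trans ((congrArg (fun t => t ≫ p) h1).trans
      ((hσ q).trans (ι_stdCover H q).symm))
  exact adequate_of_cover_lift p (stdCover H) (Sigma.desc σ) hs (stdCover_surjective H hH) hK hH
    (adequate_stdCoprod H)

/-- **S8748**: an extension of adequate functors is adequate -/
theorem adequate_of_shortExact (S : ShortComplex (Adeq.MVF A)) (hS : S.ShortExact)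
    (h₁ : Adeq.adequate A S.X₁) (h₃ : Adeq.adequate A S.X₃) : Adeq.adequate A S.X₂ := by
  obtain ⟨hinj, hsurj, hex⟩ := pointwise_of_shortExact hS
  obtain ⟨M, N, β, jF, -, hjF, -⟩ := pointwise_of_adequate S.X₁ h₁
  let UM : Adeq.MVF A := (Adeq.underline A).obj M
  let φ : S.X₁ ⟶ UM ⊞ S.X₂ := biprod.lift jF (-S.f)
  let c := cokernel.π φ
  have hc0 : ∀ (B : Adeq.Alg A) (x : S.X₁.obj (Adeq.pt B)),
      c.app (Adeq.pt B) (φ.app (Adeq.pt B) x) = 0 :=
    fun B x => app_eq_of_eq (cokernel.condition φ) B x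
  have hcs : ∀ B : Adeq.Alg A, Function.Surjective (c.app (Adeq.pt B)) :=
    fun B => PresheafOfModules.surjective_of_epi c (Adeq.pt B)
  have hcex : ∀ (B : Adeq.Alg A) (w : (UM ⊞ S.X₂).obj (Adeq.pt B)), c.app (Adeq.pt B) w = 0 →
      ∃ x, φ.app (Adeq.pt B) x = w := fun B w hw => gen_cokernel_app_exact φ (Adeq.pt B) w hw
  have hφ1 : ∀ (B : Adeq.Alg A) (x : S.X₁.obj (Adeq.pt B)),
      (biprod.fst : UM ⊞ S.X₂ ⟶ UM).app (Adeq.pt B) (φ.app (Adeq.pt B) x) = jF.app (Adeq.pt B) x :=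
    fun B x => bp_lift_fst B jF (-S.f) x
  have hφ2 : ∀ (B : Adeq.Alg A) (x : S.X₁.obj (Adeq.pt B)),
      (biprod.snd : UM ⊞ S.X₂ ⟶ S.X₂).app (Adeq.pt B) (φ.app (Adeq.pt B) x) =
        -(S.f.app (Adeq.pt B) x) := fun B x => bp_lift_snd B jF (-S.f) x
  have hfg : ∀ (B : Adeq.Alg A) (x : S.X₁.obj (Adeq.pt B)),
      S.g.app (Adeq.pt B) (S.f.app (Adeq.pt B) x) = 0 := fun B x => app_eq_of_eq S.zero B x
  -- the maps out of the pushout
  have hg'0 : φ ≫ (biprod.snd ≫ S.g) = 0 := by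
    rw [← Category.assoc, biprod.lift_snd, Preadditive.neg_comp, S.zero, neg_zero]
  let g' : cokernel φ ⟶ S.X₃ := cokernel.desc φ (biprod.snd ≫ S.g) hg'0
  have hcg' : c ≫ g' = biprod.snd ≫ S.g := cokernel.π_desc _ _ _
  have he'0 : φ ≫ (biprod.fst ≫ cokernel.π jF) = 0 := by
    rw [← Category.assoc, biprod.lift_fst, cokernel.condition]
  let e' : cokernel φ ⟶ cokernel jF := cokernel.desc φ (biprod.fst ≫ cokernel.π jF) he'0
  have hce' : c ≫ e' = biprod.fst ≫ cokernel.π jF := cokernel.π_desc _ _ _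
  let i' : UM ⟶ cokernel φ := biprod.inl ≫ c
  let k : S.X₂ ⟶ cokernel φ := biprod.inr ≫ c
  have hcg'a : ∀ (B : Adeq.Alg A) (w : (UM ⊞ S.X₂).obj (Adeq.pt B)),
      g'.app (Adeq.pt B) (c.app (Adeq.pt B) w) =
        S.g.app (Adeq.pt B) ((biprod.snd : UM ⊞ S.X₂ ⟶ S.X₂).app (Adeq.pt B) w) :=
    fun B w => app_eq_of_eq hcg' B w
  have hce'a : ∀ (B : Adeq.Alg A) (w : (UM ⊞ S.X₂).obj (Adeq.pt B)),
      e'.app (Adeq.pt B) (c.app (Adeq.pt B) w) =
        (cokernel.π jF).app (Adeq.pt B) ((biprod.fst : UM ⊞ S.X₂ ⟶ UM).app (Adeq.pt B) w) :=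
    fun B w => app_eq_of_eq hce' B w
  -- (a)
  have hi' : ∀ B : Adeq.Alg A, Function.Injective (i'.app (Adeq.pt B)) := by
    intro B
    rw [injective_iff_map_eq_zero]
    intro m hm
    have hm' : c.app (Adeq.pt B) ((biprod.inl : UM ⟶ UM ⊞ S.X₂).app (Adeq.pt B) m) = 0 := hm
    obtain ⟨x, hx⟩ := hcex B _ hm'
    have h1 := congrArg ((biprod.snd : UM ⊞ S.X₂ ⟶ S.X₂).app (Adeq.pt B)) hx
    rw [hφ2, bp_inl_snd, neg_eq_zero] at h1
    have hx0 : x = 0 := hinj B (h1.trans (map_zero _).symm)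
    have h2 := congrArg ((biprod.fst : UM ⊞ S.X₂ ⟶ UM).app (Adeq.pt B)) hx
    rw [hφ1, bp_inl_fst, hx0, map_zero] at h2
    exact h2.symm
  -- (b)
  have hp' : ∀ B : Adeq.Alg A, Function.Surjective (g'.app (Adeq.pt B)) := by
    intro B h
    obtain ⟨γ, hγ⟩ := hsurj B h
    refine ⟨c.app (Adeq.pt B) ((biprod.inr : S.X₂ ⟶ UM ⊞ S.X₂).app (Adeq.pt B) γ), ?_⟩
    rw [hcg'a, bp_inr_snd, hγ]
  -- (c)
  have hex' : ∀ (B : Adeq.Alg A) (z : (cokernel φ).obj (Adeq.pt B)), g'.app (Adeq.pt B) z = 0 →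
      ∃ m, i'.app (Adeq.pt B) m = z := by
    intro B z hz
    obtain ⟨w, rfl⟩ := hcs B z
    rw [hcg'a] at hz
    obtain ⟨x, hx⟩ := hex B _ hz
    refine ⟨(biprod.fst : UM ⊞ S.X₂ ⟶ UM).app (Adeq.pt B) w + jF.app (Adeq.pt B) x, ?_⟩
    have h1 : (biprod.inl : UM ⟶ UM ⊞ S.X₂).app (Adeq.pt B)
        ((biprod.fst : UM ⊞ S.X₂ ⟶ UM).app (Adeq.pt B) w + jF.app (Adeq.pt B) x) =
        w + φ.app (Adeq.pt B) x := by
      apply bp_ext _ _ B
      · rw [bp_inl_fst, map_add, hφ1]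
      · rw [bp_inl_snd, map_add, hφ2, hx, add_neg_cancel]
    change c.app (Adeq.pt B) ((biprod.inl : UM ⟶ UM ⊞ S.X₂).app (Adeq.pt B) _) = _
    rw [h1, map_add, hc0, add_zero]
  -- (d)
  have hip' : i' ≫ g' = 0 := by
    change (biprod.inl ≫ c) ≫ g' = 0
    rw [Category.assoc, hcg', biprod.inl_snd_assoc, zero_comp]
  have hG' : Adeq.adequate A (cokernel φ) := adequate_of_ext_underline i' g' hi' hp' hex' hip' h₃
  have hE : Adeq.adequate A (cokernel jF) := adequate_cokernel jF h₁ (adequate_underline M)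
  -- (e)
  have hke : k ≫ e' = 0 := by
    change (biprod.inr ≫ c) ≫ e' = 0
    rw [Category.assoc, hce', biprod.inr_fst_assoc, zero_comp]
  -- (f)
  have hk : ∀ B : Adeq.Alg A, Function.Injective (k.app (Adeq.pt B)) := by
    intro B
    rw [injective_iff_map_eq_zero]
    intro γ hγ
    have hγ' : c.app (Adeq.pt B) ((biprod.inr : S.X₂ ⟶ UM ⊞ S.X₂).app (Adeq.pt B) γ) = 0 := hγ
    obtain ⟨x, hx⟩ := hcex B _ hγ'
    have h1 := congrArg ((biprod.fst : UM ⊞ S.X₂ ⟶ UM).app (Adeq.pt B)) hx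
    rw [hφ1, bp_inr_fst] at h1
    have hx0 : x = 0 := hjF B (h1.trans (map_zero _).symm)
    have h2 := congrArg ((biprod.snd : UM ⊞ S.X₂ ⟶ S.X₂).app (Adeq.pt B)) hx
    rw [hφ2, bp_inr_snd, hx0, map_zero, neg_zero] at h2
    exact h2.symm
  -- (g)
  have hkex : ∀ (B : Adeq.Alg A) (z : (cokernel φ).obj (Adeq.pt B)), e'.app (Adeq.pt B) z = 0 →
      ∃ γ, k.app (Adeq.pt B) γ = z := by
    intro B z hz
    obtain ⟨w, rfl⟩ := hcs B z
    rw [hce'a] at hz
    obtain ⟨x, hx⟩ := gen_cokernel_app_exact jF (Adeq.pt B) _ hz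
    refine ⟨(biprod.snd : UM ⊞ S.X₂ ⟶ S.X₂).app (Adeq.pt B) w + S.f.app (Adeq.pt B) x, ?_⟩
    have h1 : (biprod.inr : S.X₂ ⟶ UM ⊞ S.X₂).app (Adeq.pt B)
        ((biprod.snd : UM ⊞ S.X₂ ⟶ S.X₂).app (Adeq.pt B) w + S.f.app (Adeq.pt B) x) =
        w - φ.app (Adeq.pt B) x := by
      apply bp_ext _ _ B
      · rw [bp_inr_fst, map_sub, hφ1, hx, sub_self]
      · rw [bp_inr_snd, map_sub, hφ2, sub_neg_eq_add]
    change c.app (Adeq.pt B) ((biprod.inr : S.X₂ ⟶ UM ⊞ S.X₂).app (Adeq.pt B) _) = _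
    rw [h1, map_sub, hc0, sub_zero]
  obtain ⟨iso⟩ := gen_iso_kernel_of_pointwise k e' hke (fun X => hk X.unop.unop)
    (fun X z hz => hkex X.unop.unop z hz)
  exact (Adeq.adequate A).prop_of_iso iso.symm (adequate_kernel e' hG' hE)

end Groth.Agent.Helper1.Adq
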