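import Mathlib
import Groth.Prelude.Def_Adeq
import Groth.Agent.Lib.Helper6.Adeq.Pointwise
import Groth.Agent.Lib.Helper6.Adeq.Push
import Groth.Agent.Lib.Helper6.Adeq.Restr
import Groth.Agent.Lib.Helper1.Adq16

set_option autoImplicit false
set_option linter.unusedSectionVars false
set_option linter.unusedVariables false
set_option maxHeartbeats 400000
universe u v
open CategoryTheory CategoryTheory.Limits TensorProduct

namespace Groth.Agent.Helper1.Adq

open Groth.Agent.Lib.Helper6.Adeq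

variable (A A' : Type u) [CommRing A] [CommRing A'] [Algebra A A']

/-- the monad `T F = B ↦ F(A' ⊗ B)` -/
noncomputable abbrev TT : Adeq.MVF A ⥤ Adeq.MVF A := Adeq.restr A A' ⋙ Adeq.push A A'

theorem unit_natural {B B' : Adeq.Alg A} (f : B ⟶ B') :
    Adeq.Alg.unit A A' B ≫ (Adeq.Alg.restr A A').map ((Adeq.Alg.baseChange A A').map f) =
      f ≫ Adeq.Alg.unit A A' B' := by
  apply CommAlgCat.hom_ext
  refine DFunLike.ext _ _ (fun b => ?_)
  change Algebra.TensorProduct.map (AlgHom.id A' A') f.hom ((1 : A') ⊗ₜ[A] b) = (1 : A') ⊗ₜ[A] f.hom b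
  rw [Algebra.TensorProduct.map_tmul]
  rfl

/-- the unit `F ⟶ T F`, at `B` the map `F(B) → F(A' ⊗ B)` -/
noncomputable def etaT (F : Adeq.MVF A) : F ⟶ (TT A A').obj F :=
  PresheafOfModules.homMk
    { app := fun X => AddCommGrpCat.ofHom
        ((F.map (Adeq.ptHom (Adeq.Alg.unit A A' X.unop.unop))).hom.toAddMonoidHom)
      naturality := by
        intro X Y f
        ext x
        change mvfMap F (Adeq.Alg.unit A A' Y.unop.unop) (mvfMap F f.unop.unop x) =
          mvfMap F ((Adeq.Alg.restr A A').map ((Adeq.Alg.baseChange A A').map f.unop.unop))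
            (mvfMap F (Adeq.Alg.unit A A' X.unop.unop) x)
        rw [← mvfMap_comp, ← mvfMap_comp, unit_natural] }
    (by
      intro X r m
      exact (F.map (Adeq.ptHom (Adeq.Alg.unit A A' X.unop.unop))).hom.map_smul r m)

theorem etaT_app (F : Adeq.MVF A) (B : Adeq.Alg A) (x : F.obj (Adeq.pt B)) :
    (etaT A A' F).app (Adeq.pt B) x = mvfMap F (Adeq.Alg.unit A A' B) x := rfl

theorem TT_map_app {F G : Adeq.MVF A} (φ : F ⟶ G) (B : Adeq.Alg A)
    (y : F.obj (Adeq.pt ((Adeq.Alg.restr A A').obj ((Adeq.Alg.baseChange A A').obj B)))) :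
    ((TT A A').map φ).app (Adeq.pt B) y =
      φ.app (Adeq.pt ((Adeq.Alg.restr A A').obj ((Adeq.Alg.baseChange A A').obj B))) y := rfl

theorem TT_obj_map (F : Adeq.MVF A) {B B' : Adeq.Alg A} (f : B ⟶ B')
    (y : F.obj (Adeq.pt ((Adeq.Alg.restr A A').obj ((Adeq.Alg.baseChange A A').obj B)))) :
    mvfMap ((TT A A').obj F) f y =
      mvfMap F ((Adeq.Alg.restr A A').map ((Adeq.Alg.baseChange A A').map f)) y := rfl

theorem etaT_natural {F G : Adeq.MVF A} (φ : F ⟶ G) :
    φ ≫ etaT A A' G = etaT A A' F ≫ (TT A A').map φ := by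
  ext X x
  change mvfMap G (Adeq.Alg.unit A A' X.unop.unop) (φ.app X x) =
    φ.app _ (mvfMap F (Adeq.Alg.unit A A' X.unop.unop) x)
  rw [mvfMap_nat]

theorem adequate_of_restr_adequate_of_exact
    (F : Adeq.MVF A) (h₁ : Adeq.adequate A' ((Adeq.restr A A').obj F))
    (h₂ : ∀ B : Adeq.Alg A, Function.Injective (F.map (Adeq.ptHom (Adeq.Alg.unit A A' B))) ∧
      ∀ y : F.obj (Adeq.pt ((Adeq.Alg.restr A A').obj ((Adeq.Alg.baseChange A A').obj B))),
        F.map (Adeq.ptHom (Adeq.Alg.unit A A' ((Adeq.Alg.restr A A').obj ((Adeq.Alg.baseChange A A').obj B)))) y =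
          F.map (Adeq.ptHom ((Adeq.Alg.restr A A').map ((Adeq.Alg.baseChange A A').map (Adeq.Alg.unit A A' B)))) y →
        y ∈ Set.range (F.map (Adeq.ptHom (Adeq.Alg.unit A A' B)))) :
    Adeq.adequate A F := by
  have hG : Adeq.adequate A ((TT A A').obj F) := push_adequate A A' _ h₁
  have hH : Adeq.adequate A ((TT A A').obj ((TT A A').obj F)) :=
    push_adequate A A' _ (restr_adequate A A' _ hG)
  let w : (TT A A').obj F ⟶ (TT A A').obj ((TT A A').obj F) :=
    (TT A A').map (etaT A A' F) - etaT A A' ((TT A A').obj F)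
  have hjw : etaT A A' F ≫ w = 0 := by
    change etaT A A' F ≫ ((TT A A').map (etaT A A' F) - etaT A A' ((TT A A').obj F)) = 0
    rw [Preadditive.comp_sub, ← etaT_natural, sub_self]
  obtain ⟨e⟩ := gen_iso_kernel_of_pointwise (etaT A A' F) w hjw
    (fun X => (h₂ X.unop.unop).1)
    (fun X y hy => by
      have h3 := (h₂ X.unop.unop).2 y
      let y' : F.obj (Adeq.pt ((Adeq.Alg.restr A A').obj ((Adeq.Alg.baseChange A A').obj X.unop.unop))) := y
      have h4 : w.app X y = mvfMap F (Adeq.Alg.unit A A' ((Adeq.Alg.restr A A').obj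
          ((Adeq.Alg.baseChange A A').obj X.unop.unop))) y' -
          mvfMap F ((Adeq.Alg.restr A A').map ((Adeq.Alg.baseChange A A').map
            (Adeq.Alg.unit A A' X.unop.unop))) y' := rfl
      rw [h4] at hy
      have hy' : mvfMap F (Adeq.Alg.unit A A' ((Adeq.Alg.restr A A').obj
          ((Adeq.Alg.baseChange A A').obj X.unop.unop))) y' =
          mvfMap F ((Adeq.Alg.restr A A').map ((Adeq.Alg.baseChange A A').map
            (Adeq.Alg.unit A A' X.unop.unop))) y' := sub_eq_zero.mp hy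
      obtain ⟨k, hk⟩ := h3 hy'
      exact ⟨k, hk⟩)
  exact (Adeq.adequate A).prop_of_iso e.symm (adequate_kernel w hG hH)

end Groth.Agent.Helper1.Adq
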