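import Mathlib
import Groth.Prelude.Def_Adeq
import Groth.Agent.Lib.Helper1.Adq17

set_option autoImplicit false
set_option linter.unusedSectionVars false
set_option linter.unusedVariables false
set_option maxHeartbeats 400000
universe u v
open CategoryTheory CategoryTheory.Limits TensorProduct

namespace Groth.Agent.Helper1.Adq

open Groth.Agent.Lib.Helper6.Adeq

variable {A : Type u} [CommRing A]

/-- evaluation of morphisms at a section, as an additive map -/
def evalHom (P Q : Adeq.MVF A) (X : (Adeq.Alg A)ᵒᵖᵒᵖ) (x : P.obj X) : (P ⟶ Q) →+ Q.obj X where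
  toFun φ := φ.app X x
  map_zero' := rfl
  map_add' _ _ := rfl

theorem sum_app {ι : Type*} (s : Finset ι) (P Q : Adeq.MVF A) (φ : ι → (P ⟶ Q))
    (X : (Adeq.Alg A)ᵒᵖᵒᵖ) (x : P.obj X) :
    (∑ i ∈ s, φ i).app X x = ∑ i ∈ s, (φ i).app X x :=
  map_sum (evalHom P Q X x) φ s

section Biprod

noncomputable instance mvf_hasFiniteBiproducts : HasFiniteBiproducts (Adeq.MVF A) :=
  HasFiniteBiproducts.of_hasFiniteProducts

variable {κ : Type (u + 1)} [Fintype κ] (f : κ → Adeq.MVF A)

theorem biproduct_total' : ∑ k, biproduct.π f k ≫ biproduct.ι f k = 𝟙 (⨁ f) := by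
  classical
  apply biproduct.hom_ext'
  intro j
  rw [Preadditive.comp_sum, Category.comp_id, Finset.sum_eq_single j]
  · rw [biproduct.ι_π_self_assoc]
  · intro k _ hk
    rw [biproduct.ι_π_ne_assoc f (Ne.symm hk), zero_comp]
  · intro hj
    exact absurd (Finset.mem_univ j) hj

theorem biproduct_app_eq_zero (X : (Adeq.Alg A)ᵒᵖᵒᵖ) (x : (⨁ f).obj X)
    (h : ∀ k, (biproduct.π f k).app X x = 0) : x = 0 := by
  have ht : ∑ k, biproduct.π f k ≫ biproduct.ι f k = 𝟙 (⨁ f) := biproduct_total' f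
  have h1 : (𝟙 (⨁ f) : ⨁ f ⟶ ⨁ f).app X x = x := rfl
  rw [← h1, ← ht, sum_app]
  apply Finset.sum_eq_zero
  intro k _
  change (biproduct.ι f k).app X ((biproduct.π f k).app X x) = 0
  rw [h k, map_zero]

theorem biproduct_exists_app (X : (Adeq.Alg A)ᵒᵖᵒᵖ) (y : ∀ k, (f k).obj X) :
    ∃ x : (⨁ f).obj X, ∀ k, (biproduct.π f k).app X x = y k := by
  classical
  refine ⟨∑ k, (biproduct.ι f k).app X (y k), fun l => ?_⟩
  rw [map_sum, Finset.sum_eq_single l]
  · have h1 : (biproduct.ι f l ≫ biproduct.π f l).app X (y l) = y l := by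
      rw [biproduct.ι_π_self]; rfl
    exact h1
  · intro k _ hk
    have h1 : (biproduct.ι f k ≫ biproduct.π f l).app X (y k) = 0 := by
      rw [biproduct.ι_π_ne f hk]; rfl
    exact h1
  · intro hl
    exact absurd (Finset.mem_univ l) hl

end Biprod


section Descent

variable {κ : Type (u + 1)} [Fintype κ] (A' : κ → Type u) [∀ k, CommRing (A' k)]
  [∀ k, Algebra A (A' k)]

/-- `A' k ⊗ B` as an `A`-algebra -/
noncomputable abbrev Ck (k : κ) (B : Adeq.Alg A) : Adeq.Alg A :=
  (Adeq.Alg.restr A (A' k)).obj ((Adeq.Alg.baseChange A (A' k)).obj B)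

theorem adequate_of_finite_cover (F : Adeq.MVF A)
    (h₁ : ∀ k, Adeq.adequate (A' k) ((Adeq.restr A (A' k)).obj F))
    (hinj : ∀ (B : Adeq.Alg A) (x : F.obj (Adeq.pt B)),
      (∀ k, mvfMap F (Adeq.Alg.unit A (A' k) B) x = 0) → x = 0)
    (hglue : ∀ (B : Adeq.Alg A) (y : ∀ k, F.obj (Adeq.pt (Ck A' k B))),
      (∀ k l, mvfMap F ((Adeq.Alg.restr A (A' k)).map ((Adeq.Alg.baseChange A (A' k)).map
          (Adeq.Alg.unit A (A' l) B))) (y k) =
        mvfMap F (Adeq.Alg.unit A (A' k) (Ck A' l B)) (y l)) →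
      ∃ x : F.obj (Adeq.pt B), ∀ k, mvfMap F (Adeq.Alg.unit A (A' k) B) x = y k) :
    Adeq.adequate A F := by
  classical
  let G : κ → Adeq.MVF A := fun k => (TT A (A' k)).obj F
  let H : κ × κ → Adeq.MVF A := fun p => (TT A (A' p.2)).obj ((TT A (A' p.1)).obj F)
  have hG : ∀ k, Adeq.adequate A (G k) := fun k => push_adequate A (A' k) _ (h₁ k)
  have hH : ∀ p, Adeq.adequate A (H p) := fun p =>
    push_adequate A (A' p.2) _ (restr_adequate A (A' p.2) _ (hG p.1))
  have hGG : Adeq.adequate A (⨁ G) :=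
    adequate_cofan_pt G hG (biproduct.bicone G).toCocone (biproduct.isColimit G)
  have hHH : Adeq.adequate A (⨁ H) :=
    adequate_cofan_pt H hH (biproduct.bicone H).toCocone (biproduct.isColimit H)
  let j : F ⟶ ⨁ G := biproduct.lift (fun k => etaT A (A' k) F)
  let w : ⨁ G ⟶ ⨁ H := biproduct.lift (fun p =>
    biproduct.π G p.1 ≫ etaT A (A' p.2) (G p.1) -
      biproduct.π G p.2 ≫ (TT A (A' p.2)).map (etaT A (A' p.1) F))
  have hjw : j ≫ w = 0 := by
    apply biproduct.hom_ext
    intro p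
    rw [Category.assoc, biproduct.lift_π, zero_comp, Preadditive.comp_sub,
      biproduct.lift_π_assoc, biproduct.lift_π_assoc, etaT_natural, sub_self]
  have hπj : ∀ (k : κ) (X : (Adeq.Alg A)ᵒᵖᵒᵖ) (x : F.obj X),
      (biproduct.π G k).app X (j.app X x) = (etaT A (A' k) F).app X x := by
    intro k X x
    exact congrArg (fun q : F ⟶ G k => q.app X x) (biproduct.lift_π _ k)
  have hπw : ∀ (p : κ × κ) (X : (Adeq.Alg A)ᵒᵖᵒᵖ) (y : (⨁ G).obj X),
      (biproduct.π H p).app X (w.app X y) =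
        (etaT A (A' p.2) (G p.1)).app X ((biproduct.π G p.1).app X y) -
          ((TT A (A' p.2)).map (etaT A (A' p.1) F)).app X ((biproduct.π G p.2).app X y) := by
    intro p X y
    exact congrArg (fun q : ⨁ G ⟶ H p => q.app X y) (biproduct.lift_π _ p)
  obtain ⟨e⟩ := gen_iso_kernel_of_pointwise j w hjw
    (fun X => by
      rw [← AddMonoidHom.coe_coe, injective_iff_map_eq_zero]
      intro x hx
      apply hinj X.unop.unop x
      intro k
      have h2 := hπj k X x
      have h3 : j.app X x = 0 := hx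
      rw [h3, map_zero] at h2
      exact h2.symm)
    (fun X y hy => by
      obtain ⟨x, hx⟩ := hglue X.unop.unop (fun k => (biproduct.π G k).app X y) (by
        intro k l
        have h2 := hπw (k, l) X y
        rw [hy, map_zero] at h2
        exact (sub_eq_zero.mp h2.symm))
      refine ⟨x, ?_⟩
      rw [← sub_eq_zero]
      apply biproduct_app_eq_zero G X
      intro k
      rw [map_sub, hπj k X x, sub_eq_zero]
      exact hx k)
  exact (Adeq.adequate A).prop_of_iso e.symm (adequate_kernel w hGG hHH)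

end Descent

end Groth.Agent.Helper1.Adq
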