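import Mathlib
import Groth.Prelude.Def_Adeq
import Groth.Agent.Lib.Helper1.Adq18

set_option autoImplicit false
set_option linter.unusedSectionVars false
set_option linter.unusedVariables false
set_option maxHeartbeats 400000
universe u v
open CategoryTheory CategoryTheory.Limits TensorProduct

namespace Groth.Agent.Helper1.Adq

section Descent

variable (R : Type u) [CommRing R] (B : Type u) [CommRing B] [Algebra R B]
  (N : Type v) [AddCommGroup N] [Module R N]

/-- `R ⊗ N → B ⊗ N` -/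
noncomputable def fD : R ⊗[R] N →ₗ[R] B ⊗[R] N := (Algebra.linearMap R B).rTensor N

/-- `B ⊗ N → (B ⊗ B) ⊗ N`, the difference of the two coface maps -/
noncomputable def gD : B ⊗[R] N →ₗ[R] (B ⊗[R] B) ⊗[R] N :=
  (Algebra.TensorProduct.includeLeftSubRight R B).rTensor N

theorem gD_comp_fD : gD R B N ∘ₗ fD R B N = 0 := by
  apply TensorProduct.ext'
  intro r n
  simp only [fD, gD, LinearMap.comp_apply, LinearMap.rTensor_tmul, Algebra.linearMap_apply,
    LinearMap.zero_apply]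
  rw [Algebra.TensorProduct.includeLeftSubRight_algebraMap_zero, zero_tmul]

/-- contraction `B ⊗ (B ⊗ N) → B ⊗ (R ⊗ N)` -/
noncomputable def hD : B ⊗[R] (B ⊗[R] N) →ₗ[R] B ⊗[R] (R ⊗[R] N) :=
  (LinearMap.lTensor B (TensorProduct.lid R N).symm.toLinearMap) ∘ₗ
    (LinearMap.rTensor N (LinearMap.mul' R B)) ∘ₗ (TensorProduct.assoc R B B N).symm.toLinearMap

/-- contraction `B ⊗ ((B ⊗ B) ⊗ N) → B ⊗ (B ⊗ N)` -/
noncomputable def hD' : B ⊗[R] ((B ⊗[R] B) ⊗[R] N) →ₗ[R] B ⊗[R] (B ⊗[R] N) :=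
  (TensorProduct.assoc R B B N).toLinearMap ∘ₗ
    (LinearMap.rTensor N (LinearMap.rTensor B (LinearMap.mul' R B))) ∘ₗ
    (LinearMap.rTensor N (TensorProduct.assoc R B B B).symm.toLinearMap) ∘ₗ
    (TensorProduct.assoc R B (B ⊗[R] B) N).symm.toLinearMap

theorem contraction' : (LinearMap.id : B ⊗[R] (B ⊗[R] N) →ₗ[R] B ⊗[R] (B ⊗[R] N)) =
    (fD R B N).lTensor B ∘ₗ hD R B N - hD' R B N ∘ₗ (gD R B N).lTensor B := by
  ext b b' n
  simp [fD, gD, hD, hD', sub_tmul, tmul_sub]

theorem exact_lTensor : Function.Exact ((fD R B N).lTensor B) ((gD R B N).lTensor B) := by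
  intro x
  constructor
  · intro hx
    have h1 := LinearMap.congr_fun (contraction' R B N) x
    simp only [LinearMap.id_apply, LinearMap.sub_apply, LinearMap.comp_apply, hx, map_zero,
      sub_zero] at h1
    exact ⟨hD R B N x, h1.symm⟩
  · rintro ⟨z, rfl⟩
    rw [← LinearMap.comp_apply, ← LinearMap.lTensor_comp, gD_comp_fD, LinearMap.lTensor_zero,
      LinearMap.zero_apply]

theorem exact_fD_gD [Module.FaithfullyFlat R B] : Function.Exact (fD R B N) (gD R B N) :=
  Module.FaithfullyFlat.lTensor_reflects_exact R B _ _ (exact_lTensor R B N)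

theorem fD_eq : (fD R B N) = (TensorProduct.mk R B N 1) ∘ₗ (TensorProduct.lid R N).toLinearMap := by
  ext r n
  simp [fD, Algebra.algebraMap_eq_smul_one, TensorProduct.smul_tmul]

theorem fD_injective [Module.FaithfullyFlat R B] : Function.Injective (fD R B N) := by
  rw [fD_eq]
  exact (Module.FaithfullyFlat.tensorProduct_mk_injective (A := R) (B := B) N).comp
    (TensorProduct.lid R N).injective

end Descent


section AdqDescent

open Groth.Agent.Lib.Helper6.Adeq

variable {R : Type u} [CommRing R]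

theorem adequate_descent (F : Adeq.MVF R) (hF : Adeq.adequate R F)
    (B : Type u) [CommRing B] [Algebra R B] [Module.FaithfullyFlat R B] :
    Function.Injective (F.map
        (Adeq.ptHom (CommAlgCat.ofHom (Algebra.ofId R B) : Adeq.algOf R R ⟶ Adeq.algOf R B))) ∧
      ∀ y : F.obj (Adeq.pt (Adeq.algOf R B)),
        F.map (Adeq.ptHom (CommAlgCat.ofHom
            (Algebra.TensorProduct.includeLeft : B →ₐ[R] B ⊗[R] B) :
              Adeq.algOf R B ⟶ Adeq.algOf R (B ⊗[R] B))) y =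
          F.map (Adeq.ptHom (CommAlgCat.ofHom
            (Algebra.TensorProduct.includeRight : B →ₐ[R] B ⊗[R] B) :
              Adeq.algOf R B ⟶ Adeq.algOf R (B ⊗[R] B))) y →
        y ∈ Set.range (F.map
          (Adeq.ptHom (CommAlgCat.ofHom (Algebra.ofId R B) : Adeq.algOf R R ⟶ Adeq.algOf R B))) := by
  obtain ⟨M₀, N₀, φ, j, hjw, hinj, hex⟩ := pointwise_of_adequate F hF
  let ι₀ : Adeq.algOf R R ⟶ Adeq.algOf R B := CommAlgCat.ofHom (Algebra.ofId R B)
  let ι₁ : Adeq.algOf R B ⟶ Adeq.algOf R (B ⊗[R] B) :=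
    CommAlgCat.ofHom (Algebra.TensorProduct.includeLeft : B →ₐ[R] B ⊗[R] B)
  let ι₂ : Adeq.algOf R B ⟶ Adeq.algOf R (B ⊗[R] B) :=
    CommAlgCat.ofHom (Algebra.TensorProduct.includeRight : B →ₐ[R] B ⊗[R] B)
  -- naturality of j along the three maps, in terms of fD and gD
  have n₀ : ∀ x : F.obj (Adeq.pt (Adeq.algOf R R)),
      j.app (Adeq.pt (Adeq.algOf R B)) (mvfMap F ι₀ x) =
        fD R B M₀ (j.app (Adeq.pt (Adeq.algOf R R)) x) := fun x => mvfMap_nat j ι₀ x
  have n₀' : ∀ z : R ⊗[R] M₀,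
      ((Adeq.underline R).map φ).app (Adeq.pt (Adeq.algOf R B)) (fD R B M₀ z) =
        fD R B N₀ (((Adeq.underline R).map φ).app (Adeq.pt (Adeq.algOf R R)) z) := fun z =>
    mvfMap_nat ((Adeq.underline R).map φ) ι₀ z
  have n₁₂ : ∀ y : F.obj (Adeq.pt (Adeq.algOf R B)),
      j.app (Adeq.pt (Adeq.algOf R (B ⊗[R] B))) (mvfMap F ι₁ y) -
        j.app (Adeq.pt (Adeq.algOf R (B ⊗[R] B))) (mvfMap F ι₂ y) =
        gD R B M₀ (j.app (Adeq.pt (Adeq.algOf R B)) y) := by
    intro y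
    rw [mvfMap_nat j ι₁ y, mvfMap_nat j ι₂ y]
    change LinearMap.rTensor M₀ (Algebra.TensorProduct.includeLeft : B →ₐ[R] B ⊗[R] B).toLinearMap _ -
      LinearMap.rTensor M₀ (Algebra.TensorProduct.includeRight : B →ₐ[R] B ⊗[R] B).toLinearMap _ = _
    rw [← LinearMap.sub_apply, ← LinearMap.rTensor_sub]
    rfl
  have hw : ∀ (C : Adeq.Alg R) (x : F.obj (Adeq.pt C)),
      ((Adeq.underline R).map φ).app (Adeq.pt C) (j.app (Adeq.pt C) x) = 0 := fun C x =>
    congrArg (fun t => t.app (Adeq.pt C) x) hjw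
  constructor
  · intro x x' hxx
    apply hinj (Adeq.algOf R R)
    apply fD_injective R B M₀
    have h1 : mvfMap F ι₀ x = mvfMap F ι₀ x' := hxx
    rw [← n₀, ← n₀, h1]
  · intro y hy
    have h1 : mvfMap F ι₁ y = mvfMap F ι₂ y := hy
    have h2 : gD R B M₀ (j.app (Adeq.pt (Adeq.algOf R B)) y) = 0 := by
      rw [← n₁₂, h1]
      exact sub_self _
    obtain ⟨z, hz⟩ := (exact_fD_gD R B M₀ _).1 h2
    have h3 : ((Adeq.underline R).map φ).app (Adeq.pt (Adeq.algOf R R)) z = 0 := by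
      apply fD_injective R B N₀
      rw [← n₀', hz, hw]
      exact (map_zero (fD R B N₀)).symm
    obtain ⟨x, hx⟩ := hex (Adeq.algOf R R) z h3
    refine ⟨x, ?_⟩
    apply hinj (Adeq.algOf R B)
    have h4 := n₀ x
    rw [hx, hz] at h4
    exact h4

end AdqDescent

end Groth.Agent.Helper1.Adq
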