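import Mathlib
import Groth.Prelude.Def_Adeq2
import Groth.Agent.S12450

set_option autoImplicit false
set_option linter.unusedSectionVars false
set_option linter.unusedVariables false
set_option maxHeartbeats 400000
universe u
open CategoryTheory CategoryTheory.Limits AlgebraicGeometry Opposite

namespace Groth.Agent.Helper1.AdqS

set_option backward.isDefEq.respectTransparency.types false in
instance fppf_containsIdentities :
    (@Flat ⊓ @LocallyOfFinitePresentation : MorphismProperty Scheme.{u}).ContainsIdentities where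
  id_mem X := ⟨(inferInstance : Flat (𝟙 X)), (inferInstance : LocallyOfFinitePresentation (𝟙 X))⟩

set_option backward.isDefEq.respectTransparency.types false in
instance fppf_isMultiplicative :
    (@Flat ⊓ @LocallyOfFinitePresentation : MorphismProperty Scheme.{u}).IsMultiplicative where

instance fppf_hasIsos : Scheme.fppfPrecoverage.{u}.HasIsos := by
  unfold Scheme.fppfPrecoverage; infer_instance

variable (K : Precoverage Scheme.{u}) [BigSite.OSh K] {S : Scheme.{u}}

noncomputable instance toAbMod_preservesColimitsOfShape (D : Type) [SmallCategory D] [FinCategory D] :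
    PreservesColimitsOfShape D (BigSite.toAbMod K S) := by
  let α : (BigSite.ORing K S).obj ⟶ (BigSite.ORing K S).obj := 𝟙 _
  have h : PreservesColimitsOfShape D
      (PresheafOfModules.sheafification α ⋙ SheafOfModules.toSheaf (BigSite.ORing K S)) := by
    have : PreservesColimitsOfShape D
        (PresheafOfModules.toPresheaf (BigSite.ORing K S).obj ⋙
          presheafToSheaf (QuotSh.J K S) AddCommGrpCat.{u + 1}) :=
      inferInstance
    exact preservesColimitsOfShape_of_natIso (PresheafOfModules.sheafificationCompToSheaf α).symm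
  exact Groth.Agent.S12450.preservesColimitsOfShape_of_reflective
    (PresheafOfModules.sheafificationAdjunction α) (SheafOfModules.toSheaf (BigSite.ORing K S)) D


instance toAbMod_preservesEpi : (BigSite.toAbMod K S).PreservesEpimorphisms :=
  preservesEpimorphisms_of_preservesColimitsOfShape _

/-- local lifting of sections along an epimorphism of modules -/
theorem imageSieve_mem_of_epi {M N : BigSite.Mod K S} (p : M ⟶ N) [Epi p] (U : Over S)
    (s : BigSite.sectMod K N U) :
    Presheaf.imageSieve ((BigSite.toAbMod K S).map p).hom (U := U) s ∈ QuotSh.J K S U := by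
  have h1 : Epi ((BigSite.toAbMod K S).map p) := inferInstance
  have hls : Sheaf.IsLocallySurjective ((BigSite.toAbMod K S).map p) :=
    (Sheaf.isLocallySurjective_iff_epi' (φ := (BigSite.toAbMod K S).map p)).2 h1
  exact Presheaf.imageSieve_mem (QuotSh.J K S) ((BigSite.toAbMod K S).map p).hom (U := op U) s


/-- sections of the kernel -/
theorem kernel_sect_exact {M N : BigSite.Mod K S} (g : M ⟶ N) (U : Over S)
    (s : BigSite.sectMod K M U) (hs : g.val.app (op U) s = 0) :
    ∃ z : BigSite.sectMod K (kernel g) U, (kernel.ι g).val.app (op U) z = s := by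
  let C : ShortComplex (BigSite.Mod K S) := ShortComplex.mk (kernel.ι g) g (kernel.condition g)
  have hC : C.Exact := C.exact_of_f_is_kernel (kernelIsKernel g)
  haveI : (SheafOfModules.evaluation (BigSite.ORing K S) (op U)).PreservesZeroMorphisms :=
    ⟨fun _ _ => rfl⟩
  have hC' := hC.map_of_mono_of_preservesKernel
    (SheafOfModules.evaluation (BigSite.ORing K S) (op U)) (inferInstanceAs (Mono (kernel.ι g)))
    inferInstance
  rw [ShortComplex.moduleCat_exact_iff] at hC'
  exact hC' s hs

theorem exact_local_lift (C : ShortComplex (BigSite.Mod K S)) (hC : C.Exact) (U : Over S)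
    (s : BigSite.sectMod K C.X₂ U) (hs : C.g.val.app (op U) s = 0) :
    ∃ R : Sieve U, R ∈ QuotSh.J K S U ∧ ∀ ⦃V : Over S⦄ (i : V ⟶ U), R i →
      ∃ t : BigSite.sectMod K C.X₁ V, C.f.val.app (op V) t = C.X₂.val.map i.op s := by
  obtain ⟨z, hz⟩ := kernel_sect_exact K C.g U s hs
  haveI : Epi (kernel.lift C.g C.f C.zero) := C.exact_iff_epi_kernel_lift.1 hC
  refine ⟨_, imageSieve_mem_of_epi K (kernel.lift C.g C.f C.zero) U z, ?_⟩
  intro V i hi
  obtain ⟨t0, ht⟩ := hi
  let t : BigSite.sectMod K C.X₁ V := t0
  refine ⟨t, ?_⟩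
  have h1 : kernel.lift C.g C.f C.zero ≫ kernel.ι C.g = C.f := kernel.lift_ι _ _ _
  have h2 : C.f.val.app (op V) t =
      (kernel.ι C.g).val.app (op V) ((kernel.lift C.g C.f C.zero).val.app (op V) t) :=
    congrArg (fun q : C.X₁ ⟶ C.X₂ => q.val.app (op V) t) h1.symm
  rw [h2]
  have h3 : (kernel.lift C.g C.f C.zero).val.app (op V) t = (kernel C.g).val.map i.op z := ht
  rw [h3, ← hz]
  exact (PresheafOfModules.naturality_apply (kernel.ι C.g).val i.op z)


theorem sect_eq_zero_of_locally (M : BigSite.Mod K S) (U : Over S) (s : BigSite.sectMod K M U)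
    (R : Sieve U) (hR : R ∈ QuotSh.J K S U)
    (h : ∀ ⦃V : Over S⦄ (i : V ⟶ U), R i → M.val.map i.op s = 0) : s = 0 := by
  have hsep := (M.isSheaf).isSeparated
  refine hsep U R hR s 0 (fun V i hi => ?_)
  have h1 := h i hi
  have h2 : M.val.presheaf.map i.op (0 : M.val.presheaf.obj (op U)) = 0 := map_zero _
  exact h1.trans h2.symm

/-- the sieve of maps along which a section vanishes -/
def zeroSieve (M : BigSite.Mod K S) (U : Over S) (s : BigSite.sectMod K M U) : Sieve U where
  arrows V i := M.val.map i.op s = 0
  downward_closed := by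
    intro V W i hi j
    rw [op_comp, PresheafOfModules.map_comp_apply]
    exact (congrArg (M.val.map j.op) hi).trans (map_zero (M.val.map j.op).hom)

theorem sect_eq_zero_of_flat_locally (M : BigSite.Mod Scheme.fppfPrecoverage S) (U : Over S)
    (hU : Flat U.hom) (s : BigSite.sectMod Scheme.fppfPrecoverage M U)
    (R : Sieve U) (hR : R ∈ QuotSh.J Scheme.fppfPrecoverage S U)
    (h : ∀ ⦃V : Over S⦄ (i : V ⟶ U), R i → Flat V.hom → M.val.map i.op s = 0) : s = 0 := by
  apply sect_eq_zero_of_locally Scheme.fppfPrecoverage M U s (zeroSieve Scheme.fppfPrecoverage M U s)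
  · have hR' : R ∈ (Scheme.fppfTopology.over S) U := hR
    rw [GrothendieckTopology.mem_over_iff,
      Precoverage.mem_toGrothendieck_iff_of_isStableUnderComposition] at hR'
    obtain ⟨P, hP, hle⟩ := hR'
    change zeroSieve Scheme.fppfPrecoverage M U s ∈ (Scheme.fppfTopology.over S) U
    rw [GrothendieckTopology.mem_over_iff]
    refine GrothendieckTopology.superset_covering _ ?_
      (Precoverage.generate_mem_toGrothendieck hP)
    rw [Sieve.generate_le_iff]
    intro T t ht
    rw [Sieve.overEquiv_iff]
    have h3 := hle _ _ ht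
    rw [Sieve.overEquiv_iff] at h3
    have hflat : Flat t :=
      ((hP : P ∈ Scheme.precoverage (@Flat ⊓ @LocallyOfFinitePresentation) U.left).2 ht).1
    haveI := hflat
    haveI := hU
    exact h _ h3 (inferInstanceAs (Flat (t ≫ U.hom)))
  · intro V i hi
    exact hi


theorem parasitic_of_exact (C : ShortComplex (BigSite.Mod Scheme.fppfPrecoverage S)) (hC : C.Exact)
    (p₁ : Adeq.parasitic Scheme.fppfPrecoverage S C.X₁)
    (p₃ : Adeq.parasitic Scheme.fppfPrecoverage S C.X₃) :
    Adeq.parasitic Scheme.fppfPrecoverage S C.X₂ := by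
  intro U hU
  have key : ∀ s : BigSite.sectMod Scheme.fppfPrecoverage C.X₂ U, s = 0 := by
    intro s
    have hs : C.g.val.app (op U) s = 0 := (p₃ U hU).elim _ _
    obtain ⟨R, hR, hlift⟩ := exact_local_lift Scheme.fppfPrecoverage C hC U s hs
    apply sect_eq_zero_of_flat_locally C.X₂ U hU s R hR
    intro V i hi hV
    obtain ⟨t, ht⟩ := hlift i hi
    have h0 : t = 0 := (p₁ V hV).elim _ _
    rw [← ht, h0, map_zero]
    rfl
  exact ⟨fun s s' => (key s).trans (key s').symm⟩

end Groth.Agent.Helper1.AdqS
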