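import Mathlib
import Groth.Prelude.Def_Adeq2
import Groth.Agent.Lib.Helper1.AdqS1
import Groth.Agent.Lib.Helper1.Adq17

set_option autoImplicit false
set_option linter.unusedSectionVars false
set_option linter.unusedVariables false
set_option maxHeartbeats 400000
universe u
open CategoryTheory CategoryTheory.Limits AlgebraicGeometry Opposite

namespace Groth.Agent.Helper1.AdqS

/-- a morphism of module valued functors with bijective components transports adequacy -/
theorem adequate_iff_of_bijective {A : Type u} [CommRing A] {F G : Adeq.MVF A} (φ : F ⟶ G)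
    (h : ∀ X, Function.Bijective (φ.app X)) : Adeq.adequate A F ↔ Adeq.adequate A G := by
  haveI : Mono φ := PresheafOfModules.mono_of_injective (f := φ) (fun X => (h X).1)
  haveI : Epi φ := PresheafOfModules.epi_of_surjective (f := φ) (fun X => (h X).2)
  haveI : IsIso φ := isIso_of_mono_of_epi φ
  exact (Adeq.adequate A).prop_iff_of_iso (asIso φ)

variable (K : Precoverage Scheme.{u}) [BigSite.OSh K] {S : Scheme.{u}}

/-- iso in `Over S` between two equal structure maps -/
noncomputable def ovEq {T : Scheme.{u}} (f g : T ⟶ S) (h : f = g) : Over.mk f ≅ Over.mk g :=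
  Over.isoMk (Iso.refl T) (by simp [h])

theorem ovEq_natural {T T' : Scheme.{u}} (f g : T ⟶ S) (h : f = g) (f' g' : T' ⟶ S) (h' : f' = g')
    (t : T' ⟶ T) (w : t ≫ f = f') (w' : t ≫ g = g') :
    (Over.homMk t w : Over.mk f' ⟶ Over.mk f) ≫ (ovEq f g h).hom =
      (ovEq f' g' h').hom ≫ (Over.homMk t w' : Over.mk g' ⟶ Over.mk g) := by
  subst h h'
  ext
  simp [ovEq]

theorem O_map_ovEq {T : Scheme.{u}} (f g : T ⟶ S) (h : f = g) (x : ULift.{u + 1} Γ(T, ⊤)) :
    (BigSite.ORing K S).obj.map (ovEq f g h).hom.op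
      (x : (BigSite.ORing K S).obj.obj (op (Over.mk g))) =
      (x : (BigSite.ORing K S).obj.obj (op (Over.mk f))) := by
  subst h
  have h1 : (ovEq f f rfl).hom = 𝟙 (Over.mk f) := by
    ext
    simp [ovEq]
  rw [h1, op_id, (BigSite.ORing K S).obj.map_id]
  rfl


section Restr

/-- structure map of `Spec B` over `S` through `Spec A → Spec R → S` -/
noncomputable abbrev strMap {R : CommRingCat.{u}} (a : Spec R ⟶ S) (A : Type u) [CommRing A]
    [Algebra R A] (B : Adeq.Alg A) : Spec (CommRingCat.of B) ⟶ S :=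
  Spec.map (CommRingCat.ofHom ((algebraMap A B).comp (algebraMap R A))) ≫ a

theorem specOver_restr_obj {R : CommRingCat.{u}} (a : Spec R ⟶ S) (A : Type u) [CommRing A]
    [Algebra R A] (B : Adeq.Alg A) :
    (Adeq.specOver a).obj (op ((Adeq.Alg.restr R A).obj B)) = Over.mk (strMap a A B) := rfl

variable {R₁ R₂ : CommRingCat.{u}} (a₁ : Spec R₁ ⟶ S) (a₂ : Spec R₂ ⟶ S)
  (A : Type u) [CommRing A] [Algebra R₁ A] [Algebra R₂ A]
  (h : Spec.map (CommRingCat.ofHom (algebraMap R₁ A)) ≫ a₁ =
    Spec.map (CommRingCat.ofHom (algebraMap R₂ A)) ≫ a₂)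

include h in
theorem strMap_eq (B : Adeq.Alg A) : strMap a₁ A B = strMap a₂ A B := by
  unfold strMap
  rw [CommRingCat.ofHom_comp, Spec.map_comp, Category.assoc, h, CommRingCat.ofHom_comp,
    Spec.map_comp, Category.assoc]


theorem specOver_restr_map {R : CommRingCat.{u}} (a : Spec R ⟶ S) (A : Type u) [CommRing A]
    [Algebra R A] {B B' : Adeq.Alg A} (g : B ⟶ B') :
    (Adeq.specOver a).map ((Adeq.Alg.restr R A).map g).op =
      (Over.homMk (Spec.map (CommRingCat.ofHom g.hom.toRingHom))
        (Over.w ((Adeq.specOver a).map ((Adeq.Alg.restr R A).map g).op)) :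
        Over.mk (strMap a A B') ⟶ Over.mk (strMap a A B)) := rfl

variable (P : PresheafOfModules.{u + 1} (BigSite.ORing K S).obj)

/-- comparison of the two restrictions to `A`-algebras, on underlying presheaves -/
noncomputable def restrNat :
    ((Adeq.restr R₂ A).obj ((Adeq.toMVFPre K a₂).obj P)).presheaf ⟶
      ((Adeq.restr R₁ A).obj ((Adeq.toMVFPre K a₁).obj P)).presheaf where
  app X := P.presheaf.map (ovEq (strMap a₁ A X.unop.unop) (strMap a₂ A X.unop.unop)
    (strMap_eq a₁ a₂ A h X.unop.unop)).hom.op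
  naturality := by
    intro X Y φ
    have key := ovEq_natural (strMap a₁ A X.unop.unop) (strMap a₂ A X.unop.unop)
      (strMap_eq a₁ a₂ A h X.unop.unop) (strMap a₁ A Y.unop.unop) (strMap a₂ A Y.unop.unop)
      (strMap_eq a₁ a₂ A h Y.unop.unop) (Spec.map (CommRingCat.ofHom φ.unop.unop.hom.toRingHom))
      (Over.w ((Adeq.specOver a₁).map ((Adeq.Alg.restr R₁ A).map φ.unop.unop).op))
      (Over.w ((Adeq.specOver a₂).map ((Adeq.Alg.restr R₂ A).map φ.unop.unop).op))
    have key2 := congrArg (fun q => P.presheaf.map q.op) key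
    simp only [op_comp, Functor.map_comp] at key2
    exact key2.symm


noncomputable def restrHom :
    (Adeq.restr R₂ A).obj ((Adeq.toMVFPre K a₂).obj P) ⟶
      (Adeq.restr R₁ A).obj ((Adeq.toMVFPre K a₁).obj P) :=
  PresheafOfModules.homMk (restrNat K a₁ a₂ A h P) (by
    intro X r m
    have h1 := P.map_smul (ovEq (strMap a₁ A X.unop.unop) (strMap a₂ A X.unop.unop)
      (strMap_eq a₁ a₂ A h X.unop.unop)).hom.op
      (Adeq.toSect K a₂ ((Adeq.Alg.restr R₂ A).obj X.unop.unop) r) m
    have h2 := O_map_ovEq K (strMap a₁ A X.unop.unop) (strMap a₂ A X.unop.unop)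
      (strMap_eq a₁ a₂ A h X.unop.unop)
      (ULift.up ((Scheme.ΓSpecIso (CommRingCat.of X.unop.unop)).inv.hom r))
    refine h1.trans ?_
    exact congrArg (fun t => t • _) h2)


theorem restrHom_bijective (X : (Adeq.Alg A)ᵒᵖᵒᵖ) :
    Function.Bijective ((restrHom K a₁ a₂ A h P).app X) := by
  have h1 := ConcreteCategory.bijective_of_isIso
    (P.presheaf.map (ovEq (strMap a₁ A X.unop.unop) (strMap a₂ A X.unop.unop)
      (strMap_eq a₁ a₂ A h X.unop.unop)).hom.op)
  exact h1

include h in
theorem restr_adequate_iff :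
    Adeq.adequate A ((Adeq.restr R₂ A).obj ((Adeq.toMVFPre K a₂).obj P)) ↔
      Adeq.adequate A ((Adeq.restr R₁ A).obj ((Adeq.toMVFPre K a₁).obj P)) :=
  adequate_iff_of_bijective (restrHom K a₁ a₂ A h P) (restrHom_bijective K a₁ a₂ A h P)

end Restr

end Groth.Agent.Helper1.AdqS
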