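import Mathlib
import Groth.Prelude.Def_Adeq2
import Groth.Agent.Lib.Helper1.AdqS2
import Groth.Agent.Lib.Helper1.Adq18

set_option autoImplicit false
set_option linter.unusedSectionVars false
set_option linter.unusedVariables false
set_option maxHeartbeats 400000
universe u
open CategoryTheory CategoryTheory.Limits AlgebraicGeometry Opposite TensorProduct

namespace Groth.Agent.Helper1.AdqS

open Groth.Agent.Helper1.Adq

theorem over_isPullback_of_left {S : Scheme.{u}} {A B C D : Over S} (f : A ⟶ B) (g : A ⟶ C)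
    (h : B ⟶ D) (i : C ⟶ D)
    (H : IsPullback f.left g.left h.left i.left) : IsPullback f g h i :=
  IsPullback.of_map (Over.forget S) (Over.OverMorphism.ext H.w) H

section Alg

variable (R : Type u) [CommRing R] (A₁ A₂ : Type u) [CommRing A₁] [CommRing A₂]
  [Algebra R A₁] [Algebra R A₂]

/-- `A ⊗ B` as an `R`-algebra -/
noncomputable abbrev CC (A : Type u) [CommRing A] [Algebra R A] (B : Adeq.Alg R) : Adeq.Alg R :=
  (Adeq.Alg.restr R A).obj ((Adeq.Alg.baseChange R A).obj B)

/-- the ring map underlying a map of algebras -/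
noncomputable def rH {B B' : Adeq.Alg R} (g : B ⟶ B') : CommRingCat.of B ⟶ CommRingCat.of B' :=
  CommRingCat.ofHom g.hom.toRingHom

theorem rH_comp {B B' B'' : Adeq.Alg R} (g : B ⟶ B') (g' : B' ⟶ B'') :
    rH R (g ≫ g') = rH R g ≫ rH R g' := rfl

/-- `A → A ⊗ B` as a morphism of commutative rings -/
noncomputable def lR (A : Type u) [CommRing A] [Algebra R A] (B : Adeq.Alg R) :
    CommRingCat.of A ⟶ CommRingCat.of (CC R A B) :=
  CommRingCat.ofHom (Algebra.TensorProduct.includeLeftRingHom : A →+* A ⊗[R] B)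

theorem isPushout_unit (A : Type u) [CommRing A] [Algebra R A] (B : Adeq.Alg R) :
    IsPushout (CommRingCat.ofHom (algebraMap R B)) (CommRingCat.ofHom (algebraMap R A))
      (rH R (Adeq.Alg.unit R A B)) (lR R A B) :=
  (CommRingCat.isPushout_tensorProduct R A B).flip

theorem rH_algebraMap {B B' : Adeq.Alg R} (g : B ⟶ B') :
    CommRingCat.ofHom (algebraMap R B) ≫ rH R g = CommRingCat.ofHom (algebraMap R B') := by
  apply CommRingCat.hom_ext
  refine RingHom.ext (fun r => ?_)
  exact g.hom.commutes r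

theorem lR_natural (A : Type u) [CommRing A] [Algebra R A] {B B' : Adeq.Alg R} (f : B ⟶ B') :
    lR R A B ≫ rH R ((Adeq.Alg.restr R A).map ((Adeq.Alg.baseChange R A).map f)) = lR R A B' := by
  apply CommRingCat.hom_ext
  refine RingHom.ext (fun x => ?_)
  change Algebra.TensorProduct.map (AlgHom.id A A) f.hom (x ⊗ₜ[R] (1 : B)) = x ⊗ₜ[R] (1 : B')
  rw [Algebra.TensorProduct.map_tmul, map_one]
  rfl

theorem isPushout_units (B : Adeq.Alg R) :
    IsPushout (rH R (Adeq.Alg.unit R A₂ B)) (rH R (Adeq.Alg.unit R A₁ B))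
      (rH R (Adeq.Alg.unit R A₁ (CC R A₂ B)))
      (rH R ((Adeq.Alg.restr R A₁).map ((Adeq.Alg.baseChange R A₁).map (Adeq.Alg.unit R A₂ B)))) := by
  have s := isPushout_unit R A₁ (CC R A₂ B)
  have t := isPushout_unit R A₁ B
  rw [← rH_algebraMap R (Adeq.Alg.unit R A₂ B), ← lR_natural R A₁ (Adeq.Alg.unit R A₂ B)] at s
  refine IsPushout.of_left s ?_ t
  rw [← rH_comp, ← rH_comp, unit_natural]

end Alg


section Sheaf

variable (K : Precoverage Scheme.{u}) [BigSite.OSh K] {S : Scheme.{u}} {R : CommRingCat.{u}}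
  (a : Spec R ⟶ S) {κ : Type (u + 1)} (A' : κ → Type u) [∀ k, CommRing (A' k)]
  [∀ k, Algebra R (A' k)] (M : BigSite.Mod K S)

/-- the family `Spec (A_k ⊗ B) → Spec B` is a covering in the big site -/
def CovAt (B : Adeq.Alg R) : Prop :=
  Sieve.ofArrows (fun k => (Adeq.specOver a).obj (op (Ck A' k B)))
    (fun k => (Adeq.specOver a).map (Adeq.Alg.unit R (A' k) B).op) ∈
      QuotSh.J K S ((Adeq.specOver a).obj (op B))

theorem mvfMap_toMVF {B B' : Adeq.Alg R} (g : B ⟶ B')
    (x : ((Adeq.toMVF K a).obj M).obj (Adeq.pt B)) :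
    mvfMap ((Adeq.toMVF K a).obj M) g x = M.val.map ((Adeq.specOver a).map g.op).op x := rfl

theorem toMVF_hinj (B : Adeq.Alg R) (hc : CovAt K a A' B)
    (x : ((Adeq.toMVF K a).obj M).obj (Adeq.pt B))
    (h : ∀ k, mvfMap ((Adeq.toMVF K a).obj M) (Adeq.Alg.unit R (A' k) B) x = 0) : x = 0 := by
  apply sect_eq_zero_of_locally K M ((Adeq.specOver a).obj (op B)) x _ hc
  intro V i hi
  obtain ⟨W, g, f, hf, rfl⟩ := hi
  obtain ⟨k⟩ := hf
  rw [op_comp, PresheafOfModules.map_comp_apply]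
  have h1 := h k
  rw [mvfMap_toMVF] at h1
  exact (congrArg (M.val.map g.op) h1).trans (map_zero (M.val.map g.op).hom)


theorem specOver_map_left' {B B' : Adeq.Alg R} (g : B ⟶ B') :
    ((Adeq.specOver a).map g.op).left = Spec.map (rH R g) := rfl

theorem isPullback_units (k l : κ) (B : Adeq.Alg R) :
    IsPullback ((Adeq.specOver a).map (Adeq.Alg.unit R (A' k) (Ck A' l B)).op)
      ((Adeq.specOver a).map ((Adeq.Alg.restr R (A' k)).map ((Adeq.Alg.baseChange R (A' k)).map
        (Adeq.Alg.unit R (A' l) B))).op)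
      ((Adeq.specOver a).map (Adeq.Alg.unit R (A' l) B).op)
      ((Adeq.specOver a).map (Adeq.Alg.unit R (A' k) B).op) := by
  apply over_isPullback_of_left
  rw [specOver_map_left', specOver_map_left', specOver_map_left', specOver_map_left']
  exact isPullback_SpecMap_of_isPushout _ _ _ _ (isPushout_units R (A' k) (A' l) B)

theorem map_map_apply {V W Z : Over S} (t : Z ⟶ V) (p : V ⟶ W) (z : M.val.obj (op W)) :
    M.val.map t.op (M.val.map p.op z) = M.val.map (t ≫ p).op z := by
  rw [op_comp, PresheafOfModules.map_comp_apply]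

theorem toMVF_hglue (B : Adeq.Alg R) (hc : CovAt K a A' B)
    (y : ∀ k, ((Adeq.toMVF K a).obj M).obj (Adeq.pt (Ck A' k B)))
    (hy : ∀ k l, mvfMap ((Adeq.toMVF K a).obj M) ((Adeq.Alg.restr R (A' k)).map
        ((Adeq.Alg.baseChange R (A' k)).map (Adeq.Alg.unit R (A' l) B))) (y k) =
      mvfMap ((Adeq.toMVF K a).obj M) (Adeq.Alg.unit R (A' k) (Ck A' l B)) (y l)) :
    ∃ x : ((Adeq.toMVF K a).obj M).obj (Adeq.pt B),
      ∀ k, mvfMap ((Adeq.toMVF K a).obj M) (Adeq.Alg.unit R (A' k) B) x = y k := by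
  have hsh : Presieve.IsSheaf (QuotSh.J K S) (M.val.presheaf ⋙ forget Ab) :=
    (isSheaf_iff_isSheaf_of_type _ _).1
      ((Presheaf.isSheaf_iff_isSheaf_forget _ _ (forget _)).1 M.isSheaf)
  have h1 := hsh.isSheafFor _ hc
  rw [Presieve.isSheafFor_arrows_iff] at h1
  obtain ⟨t, ht, -⟩ := h1 y (by
    intro k l Z g₁ g₂ hg
    have pb := isPullback_units a A' k l B
    obtain ⟨t, e1, e2⟩ : ∃ t, t ≫ (Adeq.specOver a).map (Adeq.Alg.unit R (A' k) (Ck A' l B)).op = g₂ ∧
        t ≫ (Adeq.specOver a).map ((Adeq.Alg.restr R (A' k)).map ((Adeq.Alg.baseChange R (A' k)).map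
          (Adeq.Alg.unit R (A' l) B))).op = g₁ :=
      ⟨pb.lift g₂ g₁ hg.symm, pb.lift_fst g₂ g₁ hg.symm, pb.lift_snd g₂ g₁ hg.symm⟩
    have hkl := hy k l
    rw [mvfMap_toMVF, mvfMap_toMVF] at hkl
    change M.val.map g₁.op (y k) = M.val.map g₂.op (y l)
    rw [← e1, ← e2, ← map_map_apply, ← map_map_apply, hkl])
  exact ⟨t, ht⟩


theorem covAt_of_cover [K.IsStableUnderBaseChange]
    (hcov : Presieve.ofArrows (fun k => Spec (CommRingCat.of (A' k)))
      (fun k => Spec.map (CommRingCat.ofHom (algebraMap R (A' k)))) ∈ K.coverings (Spec R))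
    (B : Adeq.Alg R) : CovAt K a A' B := by
  unfold CovAt
  change _ ∈ (K.toGrothendieck.over S) _
  rw [GrothendieckTopology.mem_over_iff, Sieve.overEquiv_ofArrows]
  apply Precoverage.generate_mem_toGrothendieck
  exact Precoverage.IsStableUnderBaseChange.mem_coverings_of_isPullback _ hcov
    (Spec.map (CommRingCat.ofHom (algebraMap R B)))
    (fun k => Spec.map (rH R (Adeq.Alg.unit R (A' k) B)))
    (fun k => Spec.map (lR R (A' k) B))
    (fun k => isPullback_SpecMap_of_isPushout _ _ _ _ (isPushout_unit R (A' k) B))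


theorem toMVF_adequate_of_finite_cover [K.IsStableUnderBaseChange] [Fintype κ]
    (hcov : Presieve.ofArrows (fun k => Spec (CommRingCat.of (A' k)))
      (fun k => Spec.map (CommRingCat.ofHom (algebraMap R (A' k)))) ∈ K.coverings (Spec R))
    (h₁ : ∀ k, Adeq.adequate (A' k) ((Adeq.restr R (A' k)).obj ((Adeq.toMVF K a).obj M))) :
    Adeq.adequate R ((Adeq.toMVF K a).obj M) :=
  adequate_of_finite_cover A' _ h₁
    (fun B x hx => toMVF_hinj K a A' M B (covAt_of_cover K a A' hcov B) x hx)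
    (fun B y hy => toMVF_hglue K a A' M B (covAt_of_cover K a A' hcov B) y hy)

end Sheaf

end Groth.Agent.Helper1.AdqS
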