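import Mathlib
import Groth.Prelude.Def_Adeq2
import Groth.Agent.Lib.Helper1.AdqS3
import Groth.Agent.Lib.Helper1.Adq19

set_option autoImplicit false
set_option linter.unusedSectionVars false
set_option linter.unusedVariables false
set_option maxHeartbeats 400000
universe u
open CategoryTheory CategoryTheory.Limits AlgebraicGeometry Opposite TensorProduct

namespace Groth.Agent.Helper1.AdqH

open Groth.Agent.Helper1.Adq Groth.Agent.Helper1.AdqS Groth.Agent.Lib.Helper6.Adeq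

variable (R B : Type u) [CommRing R] [CommRing B] [Algebra R B]

/-- `B` as an `R`-algebra -/
noncomputable abbrev P1 : Adeq.Alg R := Adeq.algOf R B

/-- `b ↦ b ⊗ 1` -/
noncomputable def jC (C : Adeq.Alg R) : P1 R B ⟶ CC R B C :=
  letI : Algebra R (B ⊗[R] C) := ((algebraMap B (B ⊗[R] C)).comp (algebraMap R B)).toAlgebra
  CommAlgCat.ofHom
    { (Algebra.TensorProduct.includeLeftRingHom : B →+* B ⊗[R] C) with
      commutes' := fun r => rfl }

theorem jC_apply (C : Adeq.Alg R) (b : B) : (jC R B C).hom b = b ⊗ₜ[R] (1 : C) := rfl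

/-- multiplication `b ⊗ b' ↦ b b'` -/
noncomputable def mu : CC R B (P1 R B) ⟶ P1 R B :=
  let g : B ⊗[R] B →+* B := (Algebra.TensorProduct.lmul' R : B ⊗[R] B →ₐ[R] B).toRingHom
  letI : Algebra R (B ⊗[R] B) := ((algebraMap B (B ⊗[R] B)).comp (algebraMap R B)).toAlgebra
  CommAlgCat.ofHom
    { g with
      commutes' := fun r => by
        change Algebra.TensorProduct.lmul' R ((algebraMap R B r) ⊗ₜ[R] (1 : B)) = algebraMap R B r
        rw [Algebra.TensorProduct.lmul'_apply_tmul, mul_one] }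

theorem mu_apply (b b' : B) : (mu R B).hom (b ⊗ₜ[R] b') = b * b' :=
  Algebra.TensorProduct.lmul'_apply_tmul b b'

/-- morphisms out of `B ⊗ C` are determined on pure tensors -/
theorem cc_hom_ext {C D : Adeq.Alg R} (f g : CC R B C ⟶ D)
    (h : ∀ (b : B) (c : C), f.hom (b ⊗ₜ[R] c) = g.hom (b ⊗ₜ[R] c)) : f = g := by
  apply CommAlgCat.hom_ext
  refine DFunLike.ext _ _ (fun x => ?_)
  induction (show B ⊗[R] C from x) using TensorProduct.induction_on with
  | zero => exact (map_zero f.hom).trans (map_zero g.hom).symm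
  | tmul b c => exact h b c
  | add x y hx hy => exact (map_add f.hom x y).trans ((congrArg₂ (· + ·) hx hy).trans (map_add g.hom x y).symm)

theorem CCmap_apply {C C' : Adeq.Alg R} (f : C ⟶ C') (b : B) (c : C) :
    ((Adeq.Alg.restr R B).map ((Adeq.Alg.baseChange R B).map f)).hom (b ⊗ₜ[R] c) = b ⊗ₜ[R] f.hom c := by
  change Algebra.TensorProduct.map (AlgHom.id B B) f.hom (b ⊗ₜ[R] c) = _
  rw [Algebra.TensorProduct.map_tmul]
  rfl

theorem unit_apply (C : Adeq.Alg R) (c : C) :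
    (Adeq.Alg.unit R B C).hom c = (1 : B) ⊗ₜ[R] c := rfl

theorem unit_mu : Adeq.Alg.unit R B (P1 R B) ≫ mu R B = 𝟙 _ := by
  apply CommAlgCat.hom_ext
  refine DFunLike.ext _ _ (fun b => ?_)
  change (mu R B).hom ((Adeq.Alg.unit R B (P1 R B)).hom b) = b
  rw [unit_apply, mu_apply, one_mul]

theorem jC_mu : jC R B (P1 R B) ≫ mu R B = 𝟙 _ := by
  apply CommAlgCat.hom_ext
  refine DFunLike.ext _ _ (fun b => ?_)
  change (mu R B).hom ((jC R B (P1 R B)).hom b) = b
  rw [jC_apply, mu_apply, mul_one]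

theorem jC_natural {C C' : Adeq.Alg R} (f : C ⟶ C') :
    jC R B C ≫ (Adeq.Alg.restr R B).map ((Adeq.Alg.baseChange R B).map f) = jC R B C' := by
  apply CommAlgCat.hom_ext
  refine DFunLike.ext _ _ (fun b => ?_)
  change ((Adeq.Alg.restr R B).map ((Adeq.Alg.baseChange R B).map f)).hom ((jC R B C).hom b) = _
  rw [jC_apply, CCmap_apply, map_one, jC_apply]

/-- the structure map `R → B` -/
noncomputable abbrev i0 : Adeq.algOf R R ⟶ P1 R B := CommAlgCat.ofHom (Algebra.ofId R B)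

theorem CCi0_mu_jC :
    ((Adeq.Alg.restr R B).map ((Adeq.Alg.baseChange R B).map (i0 R B)) ≫ mu R B) ≫ jC R B (P1 R B) =
      (Adeq.Alg.restr R B).map ((Adeq.Alg.baseChange R B).map (i0 R B)) := by
  apply cc_hom_ext
  intro b r
  change (jC R B (P1 R B)).hom ((mu R B).hom
    (((Adeq.Alg.restr R B).map ((Adeq.Alg.baseChange R B).map (i0 R B))).hom (b ⊗ₜ[R] r))) = _
  rw [CCmap_apply, mu_apply, jC_apply]
  change (b * algebraMap R B r) ⊗ₜ[R] (1 : B) = b ⊗ₜ[R] (algebraMap R B r)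
  rw [Algebra.algebraMap_eq_smul_one, mul_smul_comm, mul_one, TensorProduct.smul_tmul]

/-- the identity map `B ⊗ B → B ⊗ B` between the two `R`-algebra structures -/
noncomputable def ee : Adeq.algOf R (B ⊗[R] B) ⟶ CC R B (P1 R B) :=
  ConcreteCategory.ofHom (C := CommAlgCat R) (X := Adeq.algOf R (B ⊗[R] B)) (Y := CC R B (P1 R B))
    (@AlgHom.mk R (B ⊗[R] B) (B ⊗[R] B) _ _ _ (Adeq.algOf R (B ⊗[R] B)).algebra
      (CC R B (P1 R B)).algebra (RingHom.id _) (fun r => rfl))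

/-- the identity map back -/
noncomputable def ee' : CC R B (P1 R B) ⟶ Adeq.algOf R (B ⊗[R] B) :=
  ConcreteCategory.ofHom (C := CommAlgCat R) (X := CC R B (P1 R B)) (Y := Adeq.algOf R (B ⊗[R] B))
    (@AlgHom.mk R (B ⊗[R] B) (B ⊗[R] B) _ _ _ (CC R B (P1 R B)).algebra
      (Adeq.algOf R (B ⊗[R] B)).algebra (RingHom.id _) (fun r => rfl))

theorem ee_ee' : ee R B ≫ ee' R B = 𝟙 _ := by
  apply CommAlgCat.hom_ext
  refine DFunLike.ext _ _ (fun b => ?_)
  rfl

/-- `b ↦ b ⊗ 1` -/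
noncomputable abbrev i1 : P1 R B ⟶ Adeq.algOf R (B ⊗[R] B) :=
  CommAlgCat.ofHom (Algebra.TensorProduct.includeLeft : B →ₐ[R] B ⊗[R] B)

/-- `b ↦ 1 ⊗ b` -/
noncomputable abbrev i2 : P1 R B ⟶ Adeq.algOf R (B ⊗[R] B) :=
  CommAlgCat.ofHom (Algebra.TensorProduct.includeRight : B →ₐ[R] B ⊗[R] B)

theorem i1_ee : i1 R B ≫ ee R B = jC R B (P1 R B) := by
  apply CommAlgCat.hom_ext
  refine DFunLike.ext _ _ (fun b => ?_)
  rfl

theorem i2_ee : i2 R B ≫ ee R B = Adeq.Alg.unit R B (P1 R B) := by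
  apply CommAlgCat.hom_ext
  refine DFunLike.ext _ _ (fun b => ?_)
  rfl

/-- `CC` on morphisms -/
noncomputable abbrev CCm {C C' : Adeq.Alg R} (f : C ⟶ C') : CC R B C ⟶ CC R B C' :=
  (Adeq.Alg.restr R B).map ((Adeq.Alg.baseChange R B).map f)

theorem CCm_comp {C C' C'' : Adeq.Alg R} (f : C ⟶ C') (g : C' ⟶ C'') :
    CCm R B (f ≫ g) = CCm R B f ≫ CCm R B g := by
  change (Adeq.Alg.restr R B).map ((Adeq.Alg.baseChange R B).map (f ≫ g)) = _
  rw [Functor.map_comp, Functor.map_comp]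

theorem CCm_id (C : Adeq.Alg R) : CCm R B (𝟙 C) = 𝟙 _ := by
  change (Adeq.Alg.restr R B).map ((Adeq.Alg.baseChange R B).map (𝟙 C)) = _
  rw [CategoryTheory.Functor.map_id, CategoryTheory.Functor.map_id]

/-- total multiplication -/
noncomputable def mu3 : CC R B (CC R B (P1 R B)) ⟶ P1 R B := CCm R B (mu R B) ≫ mu R B

theorem unit_mu3 : Adeq.Alg.unit R B (CC R B (P1 R B)) ≫ mu3 R B = mu R B := by
  unfold mu3
  rw [← Category.assoc, unit_natural, Category.assoc, unit_mu, Category.comp_id]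

theorem CCunit_mu3 : CCm R B (Adeq.Alg.unit R B (P1 R B)) ≫ mu3 R B = mu R B := by
  unfold mu3
  rw [← Category.assoc, ← CCm_comp, unit_mu, CCm_id, Category.id_comp]

theorem CCjC_mu3 : CCm R B (jC R B (P1 R B)) ≫ mu3 R B = mu R B := by
  unfold mu3
  rw [← Category.assoc, ← CCm_comp, jC_mu, CCm_id, Category.id_comp]

theorem mvfMap_id' (F : Adeq.MVF R) (C : Adeq.Alg R) (x : F.obj (Adeq.pt C)) :
    mvfMap F (𝟙 C) x = x := by
  change F.map (𝟙 (Adeq.pt C)) x = x
  rw [F.map_id]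
  rfl

theorem mvfMap_neg' (F : Adeq.MVF R) {C C' : Adeq.Alg R} (f : C ⟶ C') (x : F.obj (Adeq.pt C)) :
    mvfMap F f (-x) = -mvfMap F f x :=
  map_neg (F.map (Adeq.ptHom f)).hom x

theorem mvfMap_congr (F : Adeq.MVF R) {C C' : Adeq.Alg R} {f g : C ⟶ C'} (h : f = g)
    (x : F.obj (Adeq.pt C)) : mvfMap F f x = mvfMap F g x := by rw [h]

/-- **Čech `H¹` vanishing** for an adequate functor and a faithfully flat algebra -/
theorem cech_h1 (F : Adeq.MVF R) (hF : Adeq.adequate R F) [Module.FaithfullyFlat R B]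
    (c : F.obj (Adeq.pt (CC R B (P1 R B))))
    (hc : mvfMap F (Adeq.Alg.unit R B (CC R B (P1 R B))) c -
        mvfMap F (CCm R B (Adeq.Alg.unit R B (P1 R B))) c +
        mvfMap F (CCm R B (jC R B (P1 R B))) c = 0) :
    ∃ z : F.obj (Adeq.pt (P1 R B)),
      c = mvfMap F (Adeq.Alg.unit R B (P1 R B)) z - mvfMap F (jC R B (P1 R B)) z := by
  let T : Adeq.MVF R := (TT R B).obj F
  let η : F ⟶ T := etaT R B F
  let Q : Adeq.MVF R := cokernel η
  let π : T ⟶ Q := cokernel.π η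
  have hT : Adeq.adequate R T := push_adequate R B _ (restr_adequate R B F hF)
  have hQ : Adeq.adequate R Q := adequate_cokernel η hF hT
  have hπη : ∀ (C : Adeq.Alg R) (x : F.obj (Adeq.pt C)),
      π.app (Adeq.pt C) (η.app (Adeq.pt C) x) = 0 := fun C x =>
    congrArg (fun t => t.app (Adeq.pt C) x) (cokernel.condition η)
  let c' : T.obj (Adeq.pt (P1 R B)) := c
  let y : Q.obj (Adeq.pt (P1 R B)) := π.app (Adeq.pt (P1 R B)) c'
  -- the descent datum condition for `y`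
  have hy : mvfMap Q (Adeq.Alg.unit R B (P1 R B)) y = mvfMap Q (jC R B (P1 R B)) y := by
    have e1 : mvfMap Q (Adeq.Alg.unit R B (P1 R B)) y =
        π.app (Adeq.pt (CC R B (P1 R B))) (mvfMap F (CCm R B (Adeq.Alg.unit R B (P1 R B))) c) :=
      (mvfMap_nat π (Adeq.Alg.unit R B (P1 R B)) c').symm
    have e2 : mvfMap Q (jC R B (P1 R B)) y =
        π.app (Adeq.pt (CC R B (P1 R B))) (mvfMap F (CCm R B (jC R B (P1 R B))) c) :=
      (mvfMap_nat π (jC R B (P1 R B)) c').symm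
    have e3 : mvfMap F (CCm R B (Adeq.Alg.unit R B (P1 R B))) c -
        mvfMap F (CCm R B (jC R B (P1 R B))) c =
        mvfMap F (Adeq.Alg.unit R B (CC R B (P1 R B))) c := by
      rw [eq_comm, ← sub_eq_zero]
      rw [← hc]
      abel
    have e4 := hπη (CC R B (P1 R B)) c
    rw [← sub_eq_zero, e1, e2, ← map_sub]
    rw [show (η.app (Adeq.pt (CC R B (P1 R B))) c) =
      mvfMap F (Adeq.Alg.unit R B (CC R B (P1 R B))) c from rfl, ← e3] at e4
    exact e4
  -- transport to the standard model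
  have hy' : mvfMap Q (i1 R B) y = mvfMap Q (i2 R B) y := by
    have h1 : mvfMap Q (ee R B) (mvfMap Q (i1 R B) y) = mvfMap Q (ee R B) (mvfMap Q (i2 R B) y) := by
      rw [← mvfMap_comp, ← mvfMap_comp, i1_ee, i2_ee, hy]
    have key : ∀ x : Q.obj (Adeq.pt (Adeq.algOf R (B ⊗[R] B))),
        mvfMap Q (ee' R B) (mvfMap Q (ee R B) x) = x := fun x => by
      rw [← mvfMap_comp, ee_ee', mvfMap_id']
    have h2 := congrArg (mvfMap Q (ee' R B)) h1
    rw [key, key] at h2
    exact h2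
  obtain ⟨q, hq⟩ := (adequate_descent Q hQ B).2 y hy'
  obtain ⟨t₀, ht₀⟩ := PresheafOfModules.surjective_of_epi π (Adeq.pt (Adeq.algOf R R)) q
  have hq' : mvfMap Q (i0 R B) q = y := hq
  have h3 : π.app (Adeq.pt (P1 R B)) (c' - mvfMap T (i0 R B) t₀) = 0 := by
    rw [map_sub, mvfMap_nat π (i0 R B) t₀, ht₀, hq', sub_self]
  obtain ⟨z, hz⟩ := gen_cokernel_app_exact η (Adeq.pt (P1 R B)) _ h3
  have hz' : mvfMap F (Adeq.Alg.unit R B (P1 R B)) z = c - mvfMap F (CCm R B (i0 R B)) t₀ := hz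
  -- normalisation
  have hn : mvfMap F (mu R B) c = 0 := by
    have := congrArg (mvfMap F (mu3 R B)) hc
    rw [mvfMap_add, mvfMap_sub, ← mvfMap_comp, ← mvfMap_comp, ← mvfMap_comp, unit_mu3, CCunit_mu3,
      CCjC_mu3, mvfMap_zero, sub_self, zero_add] at this
    exact this
  have hw : z = - mvfMap F (CCm R B (i0 R B) ≫ mu R B) t₀ := by
    have := congrArg (mvfMap F (mu R B)) hz'
    rw [mvfMap_sub, ← mvfMap_comp, ← mvfMap_comp, unit_mu, mvfMap_id', hn, zero_sub] at this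
    exact this
  have h9 : mvfMap F (CCm R B (i0 R B)) t₀ = - mvfMap F (jC R B (P1 R B)) z := by
    rw [hw, mvfMap_neg', neg_neg, ← mvfMap_comp]
    exact mvfMap_congr R F (CCi0_mu_jC R B).symm t₀
  refine ⟨z, ?_⟩
  rw [hz', h9]
  abel

end Groth.Agent.Helper1.AdqH
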