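import Mathlib
import Groth.Prelude.Def_Adeq2

set_option autoImplicit false
set_option linter.unusedSectionVars false
set_option linter.unusedVariables false
set_option maxHeartbeats 400000
universe u
open CategoryTheory CategoryTheory.Limits AlgebraicGeometry Opposite

namespace Groth.Agent.Helper1.AdqS

variable (P : MorphismProperty Scheme.{u}) [P.IsStableUnderBaseChange] [P.IsMultiplicative]

/-- pointwise refinement: through every point of `Spec R` passes an affine `P`-chart of `Spec R`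
which also maps to a member of the given covering of `S` -/
theorem exists_chart (hO : ∀ {X Y : Scheme.{u}} (f : X ⟶ Y), IsOpenImmersion f → P f)
    {S : Scheme.{u}} {ι : Type u} (R_ : ι → CommRingCat.{u}) (a_ : ∀ i, Spec (R_ i) ⟶ S)
    (hcov : Presieve.ofArrows (fun i => Spec (R_ i)) a_ ∈ (Scheme.precoverage P).coverings S)
    {R : CommRingCat.{u}} (a : Spec R ⟶ S) (x : Spec R) :
    ∃ (A : CommRingCat.{u}) (ψ : R ⟶ A) (i : ι) (θ : R_ i ⟶ A),
      Spec.map ψ ≫ a = Spec.map θ ≫ a_ i ∧ P (Spec.map ψ) ∧ x ∈ Set.range (Spec.map ψ) := by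
  rw [Scheme.ofArrows_mem_precoverage_iff] at hcov
  obtain ⟨hsurj, hP⟩ := hcov
  obtain ⟨i, y, hy⟩ := hsurj (a x)
  obtain ⟨z, hz1, hz2⟩ := Scheme.Pullback.exists_preimage_pullback (f := a) (g := a_ i) x y hy.symm
  let W := pullback a (a_ i)
  let 𝒰 := W.affineOpenCover
  obtain ⟨w, hw⟩ := 𝒰.covers z
  let j := 𝒰.idx z
  refine ⟨𝒰.X j, Spec.preimage (𝒰.f j ≫ pullback.fst a (a_ i)), i,
    Spec.preimage (𝒰.f j ≫ pullback.snd a (a_ i)), ?_, ?_, ?_⟩
  · rw [Spec.map_preimage, Spec.map_preimage, Category.assoc, Category.assoc, pullback.condition]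
  · rw [Spec.map_preimage]
    exact P.comp_mem _ _ (hO _ inferInstance) (P.pullback_fst _ _ (hP i))
  · rw [Spec.map_preimage]
    refine ⟨w, ?_⟩
    rw [Scheme.Hom.comp_apply, hw, hz1]


theorem exists_finite_refinement (hO : ∀ {X Y : Scheme.{u}} (f : X ⟶ Y), IsOpenImmersion f → P f)
    (hopen : P ≤ fun _ _ f => IsOpenMap f.base)
    {S : Scheme.{u}} {ι : Type u} (R_ : ι → CommRingCat.{u}) (a_ : ∀ i, Spec (R_ i) ⟶ S)
    (hcov : Presieve.ofArrows (fun i => Spec (R_ i)) a_ ∈ (Scheme.precoverage P).coverings S)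
    {R : CommRingCat.{u}} (a : Spec R ⟶ S) :
    ∃ (κ : Type (u + 1)) (_ : Fintype κ) (A : κ → CommRingCat.{u}) (ψ : ∀ k, R ⟶ A k)
      (i : κ → ι) (θ : ∀ k, R_ (i k) ⟶ A k),
      (∀ k, Spec.map (ψ k) ≫ a = Spec.map (θ k) ≫ a_ (i k)) ∧
      Presieve.ofArrows (fun k => Spec (A k)) (fun k => Spec.map (ψ k)) ∈
        (Scheme.precoverage P).coverings (Spec R) := by
  choose A ψ i θ hcomm hP hx using exists_chart P hO R_ a_ hcov a
  have hUo : ∀ x : Spec R, IsOpen (Set.range (Spec.map (ψ x))) := fun x =>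
    (hopen _ (hP x)).isOpen_range
  obtain ⟨t, ht⟩ := isCompact_univ.elim_finite_subcover
    (fun x : Spec R => Set.range (Spec.map (ψ x))) hUo
    (fun x _ => Set.mem_iUnion.2 ⟨x, hx x⟩)
  refine ⟨ULift.{u + 1} t, inferInstance, fun k => A k.down.1, fun k => ψ k.down.1,
    fun k => i k.down.1, fun k => θ k.down.1, fun k => hcomm k.down.1, ?_⟩
  rw [Scheme.ofArrows_mem_precoverage_iff]
  refine ⟨fun x => ?_, fun k => hP k.down.1⟩
  have h1 := ht (Set.mem_univ x)
  rw [Set.mem_iUnion₂] at h1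
  obtain ⟨x', hx't, hx'⟩ := h1
  exact ⟨ULift.up ⟨x', hx't⟩, hx'⟩

end Groth.Agent.Helper1.AdqS
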