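import Mathlib
import Groth.Prelude.Def_Adeq2
import Groth.Agent.Lib.Helper1.AdqS3
import Groth.Agent.Lib.Helper1.AdqS4

set_option autoImplicit false
set_option linter.unusedSectionVars false
set_option linter.unusedVariables false
set_option maxHeartbeats 400000
universe u
open CategoryTheory CategoryTheory.Limits AlgebraicGeometry Opposite

namespace Groth.Agent.Helper1.AdqS

open Groth.Agent.Lib.Helper6.Adeq

variable (P : MorphismProperty Scheme.{u}) [P.IsStableUnderBaseChange] [P.IsMultiplicative]
  [BigSite.OSh (Scheme.precoverage P)]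

theorem adequate_toMVF_of_adequateMod
    (hO : ∀ {X Y : Scheme.{u}} (f : X ⟶ Y), IsOpenImmersion f → P f)
    (hopen : P ≤ fun _ _ f => IsOpenMap f.base)
    (S : Scheme.{u}) (M : BigSite.Mod (Scheme.precoverage P) S)
    (hM : Adeq.adequateMod (Scheme.precoverage P) S M) (R : CommRingCat.{u}) (a : Spec R ⟶ S) :
    Adeq.adequate R ((Adeq.toMVF (Scheme.precoverage P) a).obj M) := by
  obtain ⟨ι, R_, a_, hcov, hadq⟩ := hM
  obtain ⟨κ, hκ, A, ψ, i, θ, hcomm, hcov'⟩ := exists_finite_refinement P hO hopen R_ a_ hcov a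
  letI : ∀ k, Algebra R (A k) := fun k => (ψ k).hom.toAlgebra
  refine toMVF_adequate_of_finite_cover (Scheme.precoverage P) a (fun k => (A k : Type u)) M
    hcov' ?_
  intro k
  letI : Algebra (R_ (i k)) (A k) := (θ k).hom.toAlgebra
  exact (restr_adequate_iff (Scheme.precoverage P) a (a_ (i k)) (A k) (hcomm k) M.val).mp
    (restr_adequate (R_ (i k)) (A k) _ (hadq (i k)))


set_option backward.isDefEq.respectTransparency.types false in
theorem adequate_toMVF_fppf (S : Scheme.{u}) (M : BigSite.Mod Scheme.fppfPrecoverage S)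
    (hM : Adeq.adequateMod Scheme.fppfPrecoverage S M) (R : CommRingCat.{u}) (a : Spec R ⟶ S) :
    Adeq.adequate R ((Adeq.toMVF Scheme.fppfPrecoverage a).obj M) := by
  haveI : BigSite.OSh (Scheme.precoverage (@Flat ⊓ @LocallyOfFinitePresentation)) :=
    inferInstanceAs (BigSite.OSh Scheme.fppfPrecoverage)
  exact adequate_toMVF_of_adequateMod (@Flat ⊓ @LocallyOfFinitePresentation)
    (fun f hf => ⟨inferInstance, inferInstance⟩)
    (fun X Y f ⟨_, _⟩ => f.isOpenMap) S M hM R a

theorem adequate_toMVF_zariski (S : Scheme.{u}) (M : BigSite.Mod Scheme.zariskiPrecoverage S)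
    (hM : Adeq.adequateMod Scheme.zariskiPrecoverage S M) (R : CommRingCat.{u}) (a : Spec R ⟶ S) :
    Adeq.adequate R ((Adeq.toMVF Scheme.zariskiPrecoverage a).obj M) :=
  adequate_toMVF_of_adequateMod @IsOpenImmersion
    (fun f hf => hf)
    (fun X Y f hf => by
      haveI : IsOpenImmersion f := hf
      exact f.isOpenEmbedding.isOpenMap) S M hM R a

end Groth.Agent.Helper1.AdqS
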