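import Mathlib
import Groth.Prelude.Def_Adeq2
import Groth.Agent.Lib.Helper1.AdqS5

set_option autoImplicit false
set_option linter.unusedSectionVars false
set_option linter.unusedVariables false
set_option maxHeartbeats 400000
universe u
open CategoryTheory CategoryTheory.Limits AlgebraicGeometry Opposite

namespace Groth.Agent.Helper1.AdqS

variable (K : Precoverage Scheme.{u}) [BigSite.OSh K] {S : Scheme.{u}}

section Pull

variable {T : Scheme.{u}} (f : T ⟶ S) {R : CommRingCat.{u}} (b : Spec R ⟶ T)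
  (M : BigSite.Mod K S)

/-- `Spec B → Spec R` -/
noncomputable abbrev sm (B : Adeq.Alg R) : Spec (CommRingCat.of B) ⟶ Spec R :=
  Spec.map (CommRingCat.ofHom (algebraMap R B))

theorem specOver_pull_obj (B : Adeq.Alg R) :
    (Over.map f).obj ((Adeq.specOver b).obj (op B)) = Over.mk ((sm B ≫ b) ≫ f) := rfl

theorem specOver_comp_obj (B : Adeq.Alg R) :
    (Adeq.specOver (b ≫ f)).obj (op B) = Over.mk (sm B ≫ (b ≫ f)) := rfl

theorem toMVF_pull_presheaf_obj (X : (Adeq.Alg R)ᵒᵖᵒᵖ) :
    ((Adeq.toMVF K b).obj ((BigSite.pullMod K f).obj M)).presheaf.obj X =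
      M.val.presheaf.obj (op (Over.mk ((sm X.unop.unop ≫ b) ≫ f))) := rfl


/-- comparison on underlying presheaves -/
noncomputable def pullNat :
    ((Adeq.toMVF K b).obj ((BigSite.pullMod K f).obj M)).presheaf ⟶
      ((Adeq.toMVF K (b ≫ f)).obj M).presheaf where
  app X := M.val.presheaf.map (ovEq (sm X.unop.unop ≫ (b ≫ f)) ((sm X.unop.unop ≫ b) ≫ f)
    (Category.assoc _ _ _).symm).hom.op
  naturality := by
    intro X Y φ
    have key := ovEq_natural (sm X.unop.unop ≫ (b ≫ f)) ((sm X.unop.unop ≫ b) ≫ f)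
      (Category.assoc _ _ _).symm (sm Y.unop.unop ≫ (b ≫ f)) ((sm Y.unop.unop ≫ b) ≫ f)
      (Category.assoc _ _ _).symm (Spec.map (CommRingCat.ofHom φ.unop.unop.hom.toRingHom))
      (Over.w ((Adeq.specOver (b ≫ f)).map φ.unop))
      (Over.w ((Over.map f).map ((Adeq.specOver b).map φ.unop)))
    have key2 := congrArg (fun q => M.val.presheaf.map q.op) key
    simp only [op_comp, Functor.map_comp] at key2
    exact key2.symm


noncomputable def pullHom :
    (Adeq.toMVF K b).obj ((BigSite.pullMod K f).obj M) ⟶ (Adeq.toMVF K (b ≫ f)).obj M :=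
  PresheafOfModules.homMk (pullNat K f b M) (by
    intro X r m
    have h1 := M.val.map_smul (ovEq (sm X.unop.unop ≫ (b ≫ f)) ((sm X.unop.unop ≫ b) ≫ f)
      (Category.assoc _ _ _).symm).hom.op
      (ULift.up ((Scheme.ΓSpecIso (CommRingCat.of X.unop.unop)).inv.hom r) :
        (BigSite.ORing K S).obj.obj (op (Over.mk ((sm X.unop.unop ≫ b) ≫ f)))) m
    have h2 := O_map_ovEq K (sm X.unop.unop ≫ (b ≫ f)) ((sm X.unop.unop ≫ b) ≫ f)
      (Category.assoc _ _ _).symm
      (ULift.up ((Scheme.ΓSpecIso (CommRingCat.of X.unop.unop)).inv.hom r))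
    refine h1.trans ?_
    exact congrArg (fun t => t • _) h2)

theorem pullHom_bijective (X : (Adeq.Alg R)ᵒᵖᵒᵖ) :
    Function.Bijective ((pullHom K f b M).app X) := by
  have h1 := ConcreteCategory.bijective_of_isIso
    (M.val.presheaf.map (ovEq (sm X.unop.unop ≫ (b ≫ f)) ((sm X.unop.unop ≫ b) ≫ f)
      (Category.assoc _ _ _).symm).hom.op)
  exact h1

theorem pull_adequate_iff :
    Adeq.adequate R ((Adeq.toMVF K b).obj ((BigSite.pullMod K f).obj M)) ↔
      Adeq.adequate R ((Adeq.toMVF K (b ≫ f)).obj M) :=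
  adequate_iff_of_bijective (pullHom K f b M) (pullHom_bijective K f b M)

end Pull


section PullAdq

variable (P : MorphismProperty Scheme.{u}) [P.IsStableUnderBaseChange] [P.IsMultiplicative]
  [BigSite.OSh (Scheme.precoverage P)]

theorem adequateMod_pullMod
    (hO : ∀ {X Y : Scheme.{u}} (f : X ⟶ Y), IsOpenImmersion f → P f)
    (hopen : P ≤ fun _ _ f => IsOpenMap f.base)
    {S T : Scheme.{u}} (f : T ⟶ S) (M : BigSite.Mod (Scheme.precoverage P) S)
    (hM : Adeq.adequateMod (Scheme.precoverage P) S M) :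
    Adeq.adequateMod (Scheme.precoverage P) T ((BigSite.pullMod (Scheme.precoverage P) f).obj M) := by
  refine ⟨T.affineOpenCover.I₀, T.affineOpenCover.X, T.affineOpenCover.f, ?_, fun j => ?_⟩
  · rw [Scheme.ofArrows_mem_precoverage_iff]
    exact ⟨fun x => ⟨T.affineOpenCover.idx x, T.affineOpenCover.covers x⟩,
      fun j => hO _ inferInstance⟩
  · exact (pull_adequate_iff (Scheme.precoverage P) f (T.affineOpenCover.f j) M).mpr
      (adequate_toMVF_of_adequateMod P hO hopen S M hM _ _)

theorem adequateMod_of_cover_pullMod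
    (S : Scheme.{u}) (M : BigSite.Mod (Scheme.precoverage P) S) (ι : Type u)
    (T : ι → Scheme.{u}) (f : ∀ i, T i ⟶ S)
    (hcov : Presieve.ofArrows T f ∈ (Scheme.precoverage P).coverings S)
    (h : ∀ i, Adeq.adequateMod (Scheme.precoverage P) (T i)
      ((BigSite.pullMod (Scheme.precoverage P) (f i)).obj M)) :
    Adeq.adequateMod (Scheme.precoverage P) S M := by
  choose κ R_ b hb hadq using h
  rw [Scheme.ofArrows_mem_precoverage_iff] at hcov
  refine ⟨Σ i, κ i, fun p => R_ p.1 p.2, fun p => b p.1 p.2 ≫ f p.1, ?_, fun p => ?_⟩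
  · rw [Scheme.ofArrows_mem_precoverage_iff]
    refine ⟨fun s => ?_, fun p => ?_⟩
    · obtain ⟨i, t, ht⟩ := hcov.1 s
      have hbi := hb i
      rw [Scheme.ofArrows_mem_precoverage_iff] at hbi
      obtain ⟨j, y, hy⟩ := hbi.1 t
      refine ⟨⟨i, j⟩, y, ?_⟩
      rw [Scheme.Hom.comp_apply, hy, ht]
    · have hbi := hb p.1
      rw [Scheme.ofArrows_mem_precoverage_iff] at hbi
      exact P.comp_mem _ _ (hbi.2 p.2) (hcov.2 p.1)
  · exact (pull_adequate_iff (Scheme.precoverage P) (f p.1) (b p.1 p.2) M).mp (hadq p.1 p.2)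

end PullAdq

set_option backward.isDefEq.respectTransparency.types false in
theorem adequateMod_pullMod_fppf {S T : Scheme.{u}} (f : T ⟶ S)
    (M : BigSite.Mod Scheme.fppfPrecoverage S)
    (hM : Adeq.adequateMod Scheme.fppfPrecoverage S M) :
    Adeq.adequateMod Scheme.fppfPrecoverage T ((BigSite.pullMod Scheme.fppfPrecoverage f).obj M) := by
  haveI : BigSite.OSh (Scheme.precoverage (@Flat ⊓ @LocallyOfFinitePresentation)) :=
    inferInstanceAs (BigSite.OSh Scheme.fppfPrecoverage)
  exact adequateMod_pullMod (@Flat ⊓ @LocallyOfFinitePresentation)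
    (fun f hf => ⟨inferInstance, inferInstance⟩)
    (fun X Y f ⟨_, _⟩ => f.isOpenMap) f M hM

set_option backward.isDefEq.respectTransparency.types false in
theorem adequateMod_of_cover_pullMod_fppf (S : Scheme.{u})
    (M : BigSite.Mod Scheme.fppfPrecoverage S) (ι : Type u)
    (T : ι → Scheme.{u}) (f : ∀ i, T i ⟶ S)
    (hcov : Presieve.ofArrows T f ∈ Scheme.fppfPrecoverage.coverings S)
    (h : ∀ i, Adeq.adequateMod Scheme.fppfPrecoverage (T i)
      ((BigSite.pullMod Scheme.fppfPrecoverage (f i)).obj M)) :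
    Adeq.adequateMod Scheme.fppfPrecoverage S M := by
  haveI : BigSite.OSh (Scheme.precoverage (@Flat ⊓ @LocallyOfFinitePresentation)) :=
    inferInstanceAs (BigSite.OSh Scheme.fppfPrecoverage)
  exact adequateMod_of_cover_pullMod (@Flat ⊓ @LocallyOfFinitePresentation) S M ι T f hcov h

end Groth.Agent.Helper1.AdqS
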