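import Mathlib
import Groth.Prelude.Def_Adeq2
import Groth.Agent.Lib.Helper1.AdqS6

set_option autoImplicit false
set_option linter.unusedSectionVars false
set_option linter.unusedVariables false
set_option maxHeartbeats 400000
universe u
open CategoryTheory CategoryTheory.Limits AlgebraicGeometry Opposite

namespace Groth.Agent.Helper1.AdqS

open Groth.Agent.Lib.Helper6.Adeq Groth.Agent.Helper1.Adq

variable (K : Precoverage Scheme.{u}) [BigSite.OSh K] {S : Scheme.{u}}

theorem toMVF_map_app {R : CommRingCat.{u}} (a : Spec R ⟶ S) {M N : BigSite.Mod K S} (ψ : M ⟶ N)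
    (X : (Adeq.Alg R)ᵒᵖᵒᵖ) (x : ((Adeq.toMVF K a).obj M).obj X) :
    ((Adeq.toMVF K a).map ψ).app X x =
      ψ.val.app (op ((Adeq.specOver a).obj (op X.unop.unop))) x := rfl

theorem mono_sect_injective {M N : BigSite.Mod K S} (ψ : M ⟶ N) [Mono ψ] (U : Over S) :
    Function.Injective (ψ.val.app (op U)) := by
  have : Mono ((SheafOfModules.evaluation (BigSite.ORing K S) (op U)).map ψ) := inferInstance
  exact (ModuleCat.mono_iff_injective _).mp this

theorem toMVF_kernel_iso {R : CommRingCat.{u}} (a : Spec R ⟶ S) {M N : BigSite.Mod K S}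
    (φ : M ⟶ N) :
    Nonempty ((Adeq.toMVF K a).obj (kernel φ) ≅ kernel ((Adeq.toMVF K a).map φ)) := by
  apply gen_iso_kernel_of_pointwise ((Adeq.toMVF K a).map (kernel.ι φ)) ((Adeq.toMVF K a).map φ)
  · rw [← Functor.map_comp, kernel.condition, Functor.map_zero]
  · intro X
    exact mono_sect_injective K (kernel.ι φ) _
  · intro X x hx
    exact kernel_sect_exact K φ _ x hx


section Ker

variable (P : MorphismProperty Scheme.{u}) [P.IsStableUnderBaseChange] [P.IsMultiplicative]
  [BigSite.OSh (Scheme.precoverage P)]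

theorem adequateMod_kernel
    (hO : ∀ {X Y : Scheme.{u}} (f : X ⟶ Y), IsOpenImmersion f → P f)
    (hopen : P ≤ fun _ _ f => IsOpenMap f.base)
    (S : Scheme.{u}) {M N : BigSite.Mod (Scheme.precoverage P) S} (φ : M ⟶ N)
    (hM : Adeq.adequateMod (Scheme.precoverage P) S M)
    (hN : Adeq.adequateMod (Scheme.precoverage P) S N) :
    Adeq.adequateMod (Scheme.precoverage P) S (kernel φ) := by
  obtain ⟨ι, R_, a_, hcov, hadq⟩ := hM
  refine ⟨ι, R_, a_, hcov, fun i => ?_⟩
  obtain ⟨e⟩ := toMVF_kernel_iso (Scheme.precoverage P) (a_ i) φ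
  exact (Adeq.adequate (R_ i)).prop_of_iso e.symm
    (adequate_kernel _ (hadq i) (adequate_toMVF_of_adequateMod P hO hopen S N hN _ _))

end Ker

set_option backward.isDefEq.respectTransparency.types false in
theorem adequateMod_kernel_fppf (S : Scheme.{u}) {M N : BigSite.Mod Scheme.fppfPrecoverage S}
    (φ : M ⟶ N) (hM : Adeq.adequateMod Scheme.fppfPrecoverage S M)
    (hN : Adeq.adequateMod Scheme.fppfPrecoverage S N) :
    Adeq.adequateMod Scheme.fppfPrecoverage S (kernel φ) := by
  haveI : BigSite.OSh (Scheme.precoverage (@Flat ⊓ @LocallyOfFinitePresentation)) :=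
    inferInstanceAs (BigSite.OSh Scheme.fppfPrecoverage)
  exact adequateMod_kernel (@Flat ⊓ @LocallyOfFinitePresentation)
    (fun f hf => ⟨inferInstance, inferInstance⟩)
    (fun X Y f ⟨_, _⟩ => f.isOpenMap) S φ hM hN

end Groth.Agent.Helper1.AdqS
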