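import Mathlib

set_option autoImplicit false
universe w v u
open CategoryTheory Opposite

namespace Groth.Agent.Helper1.SigSh

variable {C : Type u} [Category.{v} C] {S : C} (G : (Over S)ᵒᵖ ⥤ Type w)

theorem map_congr_left {V W : Over S} (φ ψ : V ⟶ W) (h : φ.left = ψ.left) (ξ : G.obj (op W)) :
    G.map φ.op ξ = G.map ψ.op ξ := by
  have : φ = ψ := Over.OverMorphism.ext h
  rw [this]

theorem map_map {V W Z : Over S} (φ : V ⟶ W) (ψ : W ⟶ Z) (ξ : G.obj (op Z)) :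
    G.map φ.op (G.map ψ.op ξ) = G.map (φ ≫ ψ).op ξ := by
  rw [op_comp, Functor.map_comp_apply]

theorem map_id' {V : Over S} (φ : V ⟶ V) (h : φ.left = 𝟙 V.left) (ξ : G.obj (op V)) :
    G.map φ.op ξ = ξ := by
  have : φ = 𝟙 V := Over.OverMorphism.ext h
  rw [this, op_id, Functor.map_id_apply]

/-- identity-like morphism -/
def tr {Y : C} {f f' : Y ⟶ S} (h : f = f') : Over.mk f ⟶ Over.mk f' :=
  Over.homMk (𝟙 Y) (by simp [h])

@[simp] theorem tr_left {Y : C} {f f' : Y ⟶ S} (h : f = f') : (tr h).left = 𝟙 Y := rfl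

/-- the morphism `(Z, g ≫ f) ⟶ (Y, f)` given by `g` -/
def hm {Y Z : C} (g : Z ⟶ Y) (f : Y ⟶ S) : Over.mk (g ≫ f) ⟶ Over.mk f := Over.homMk g rfl

@[simp] theorem hm_left {Y Z : C} (g : Z ⟶ Y) (f : Y ⟶ S) : (hm g f).left = g := rfl

/-- identity-like morphism `V ⟶ (V.left, f)` -/
def tr' {V : Over S} {f : V.left ⟶ S} (h : f = V.hom) : V ⟶ Over.mk f :=
  Over.homMk (𝟙 V.left) (by simp [h])

@[simp] theorem tr'_left {V : Over S} {f : V.left ⟶ S} (h : f = V.hom) : (tr' h).left = 𝟙 V.left := rfl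

theorem sigma_eq {Y : C} {f f' : Y ⟶ S} (h : f = f') (ξ : G.obj (op (Over.mk f)))
    (ξ' : G.obj (op (Over.mk f'))) (h2 : G.map (tr h.symm).op ξ = ξ') :
    (⟨f, ξ⟩ : Σ f : Y ⟶ S, G.obj (op (Over.mk f))) = ⟨f', ξ'⟩ := by
  subst h
  rw [map_id' G _ rfl] at h2
  rw [h2]

theorem sigma_eq_iff {Y : C} {f f' : Y ⟶ S} (ξ : G.obj (op (Over.mk f)))
    (ξ' : G.obj (op (Over.mk f'))) :
    (⟨f, ξ⟩ : Σ f : Y ⟶ S, G.obj (op (Over.mk f))) = ⟨f', ξ'⟩ ↔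
      ∃ h : f = f', G.map (tr h.symm).op ξ = ξ' := by
  constructor
  · intro e
    cases e
    exact ⟨rfl, map_id' G _ rfl _⟩
  · rintro ⟨h, h2⟩
    exact sigma_eq G h ξ ξ' h2

/-- the "sigma" presheaf `Y ↦ Σ (f : Y ⟶ S), G (Y, f)` -/
def sig : Cᵒᵖ ⥤ Type (max v w) where
  obj Y := Σ f : Y.unop ⟶ S, G.obj (op (Over.mk f))
  map {Y Z} g := ↾fun p => ⟨g.unop ≫ p.1,
    G.map (Over.homMk g.unop rfl : Over.mk (g.unop ≫ p.1) ⟶ Over.mk p.1).op p.2⟩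
  map_id Y := by
    refine ConcreteCategory.hom_ext _ _ (fun p => ?_)
    obtain ⟨f, ξ⟩ := p
    refine sigma_eq G (Category.id_comp f) _ _ ?_
    rw [map_map]
    exact map_id' G _ (by simp) _
  map_comp {X Y Z} g h := by
    refine ConcreteCategory.hom_ext _ _ (fun p => ?_)
    obtain ⟨f, ξ⟩ := p
    refine sigma_eq G (Category.assoc _ _ _) _ _ ?_
    change G.map _ (G.map _ ξ) = G.map _ (G.map _ ξ)
    rw [map_map, map_map]
    exact map_congr_left G _ _ (by simp) _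

theorem sig_map_mk {Y Z : C} (g : Z ⟶ Y) (f : Y ⟶ S) (ξ : G.obj (op (Over.mk f))) :
    (sig G).map g.op ⟨f, ξ⟩ = ⟨g ≫ f, G.map (hm g f).op ξ⟩ :=
  rfl

theorem sig_map_eta {Y Z : C} (g : Z ⟶ Y) (p : (sig G).obj (op Y)) :
    (sig G).map g.op p = ⟨g ≫ p.1, G.map (hm g p.1).op p.2⟩ :=
  rfl

theorem sig_map_fst {Y Z : C} (g : Z ⟶ Y) (p : (sig G).obj (op Y)) :
    ((sig G).map g.op p).1 = g ≫ p.1 := rfl

end Groth.Agent.Helper1.SigSh
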