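import Mathlib
import Groth.Agent.Lib.Helper1.SigSh1

set_option autoImplicit false
universe w v u
open CategoryTheory Opposite

namespace Groth.Agent.Helper1.SigSh

variable {C : Type u} [Category.{v} C] {S : C} {G : (Over S)ᵒᵖ ⥤ Type w}

theorem isSheafFor_over_of_sig {Y : C} (R : Sieve Y)
    (hS : Presieve.IsSeparatedFor (yoneda.obj S) R.arrows)
    (h : Presieve.IsSheafFor (sig G) R.arrows) (y : Y ⟶ S) :
    Presieve.IsSheafFor G ((Sieve.overEquiv (Over.mk y)).symm R).arrows := by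
  intro x hx
  -- family for sig G
  let x' : Presieve.FamilyOfElements (sig G) R.arrows := fun Z g hg =>
    ⟨g ≫ y, x (hm g y) hg⟩
  have hx' : x'.Compatible := by
    intro Y₁ Y₂ Z g₁ g₂ f₁ f₂ h₁ h₂ e
    have e1 : g₁ ≫ f₁ ≫ y = g₂ ≫ f₂ ≫ y := by rw [← Category.assoc, e, Category.assoc]
    refine sigma_eq G e1 _ _ ?_
    rw [map_map]
    exact hx (tr e1.symm ≫ hm g₁ (f₁ ≫ y)) (hm g₂ (f₂ ≫ y)) (f₁ := hm f₁ y) (f₂ := hm f₂ y) h₁ h₂
      (by ext; simp [e])
  obtain ⟨p, hp, hpu⟩ := h x' hx'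
  have h1 : p.1 = y := hS (fun Z g hg => g ≫ y) p.1 y
    (fun Z g hg => congrArg Sigma.fst (hp g hg)) (fun Z g hg => rfl)
  -- the amalgamation
  have key : ∀ ⦃V : Over S⦄ (ψ : V ⟶ Over.mk y) (hψ : R.arrows ψ.left),
      x ψ hψ = G.map (tr' (Over.w ψ) : V ⟶ Over.mk (ψ.left ≫ y)).op (x (hm ψ.left y) hψ) := by
    intro V ψ hψ
    have := hx (𝟙 V) (tr' (Over.w ψ) : V ⟶ Over.mk (ψ.left ≫ y)) hψ
      (show ((Sieve.overEquiv (Over.mk y)).symm R).arrows (hm ψ.left y) from hψ)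
      (by ext; simp)
    rw [op_id, Functor.map_id_apply] at this
    exact this
  refine ⟨G.map (tr h1.symm).op p.2, ?_, ?_⟩
  · intro V ψ hψ
    have e' : (⟨ψ.left ≫ p.1, G.map (hm ψ.left p.1).op p.2⟩ :
        Σ f : V.left ⟶ S, G.obj (op (Over.mk f))) =
        ⟨ψ.left ≫ y, x (hm ψ.left y) hψ⟩ := hp ψ.left hψ
    obtain ⟨h', e''⟩ := (sigma_eq_iff G _ _).1 e'
    rw [key ψ hψ, ← e'', map_map, map_map, map_map]
    exact map_congr_left G _ _ (by simp) _
  · intro t ht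
    have : (⟨y, t⟩ : (sig G).obj (op Y)) = p := by
      apply hpu
      intro Z g hg
      exact sigma_eq G rfl _ _ (by rw [map_id' G _ rfl]; exact ht (hm g y) hg)
    subst this
    exact (map_id' G _ rfl _).symm

end Groth.Agent.Helper1.SigSh

namespace Groth.Agent.Helper1.SigSh

variable {C : Type u} [Category.{v} C] {S : C} {G : (Over S)ᵒᵖ ⥤ Type w}

theorem isSheafFor_sig_of_over {Y : C} (R : Sieve Y)
    (hS : Presieve.IsSheafFor (yoneda.obj S) R.arrows)
    (h : ∀ y : Y ⟶ S, Presieve.IsSheafFor G ((Sieve.overEquiv (Over.mk y)).symm R).arrows) :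
    Presieve.IsSheafFor (sig G) R.arrows := by
  intro x' hx'
  -- glue the structure maps
  let xS : Presieve.FamilyOfElements (yoneda.obj S) R.arrows := fun Z g hg => (x' g hg).1
  have hxS : xS.Compatible := by
    intro Y₁ Y₂ Z g₁ g₂ f₁ f₂ h₁ h₂ e
    exact congrArg Sigma.fst (hx' g₁ g₂ h₁ h₂ e)
  obtain ⟨y, hy, -⟩ := hS xS hxS
  have hy' : ∀ ⦃Z : C⦄ (g : Z ⟶ Y) (hg : R.arrows g), g ≫ y = (x' g hg).1 := fun Z g hg => hy g hg
  -- the family over `(Y, y)`
  let x : Presieve.FamilyOfElements G ((Sieve.overEquiv (Over.mk y)).symm R).arrows :=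
    fun V ψ hψ => G.map (tr' ((hy' ψ.left hψ).symm.trans (Over.w ψ)) :
      V ⟶ Over.mk (x' ψ.left hψ).1).op (x' ψ.left hψ).2
  have hx : x.Compatible := by
    intro V₁ V₂ W k₁ k₂ ψ₁ ψ₂ h₁ h₂ e
    have e' : (⟨k₁.left ≫ (x' ψ₁.left h₁).1, G.map (hm k₁.left (x' ψ₁.left h₁).1).op (x' ψ₁.left h₁).2⟩ :
        Σ f : W.left ⟶ S, G.obj (op (Over.mk f))) =
        ⟨k₂.left ≫ (x' ψ₂.left h₂).1, G.map (hm k₂.left (x' ψ₂.left h₂).1).op (x' ψ₂.left h₂).2⟩ :=
      hx' k₁.left k₂.left h₁ h₂ (congrArg CommaMorphism.left e)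
    obtain ⟨h', e''⟩ := (sigma_eq_iff G _ _).1 e'
    have hW : k₂.left ≫ (x' ψ₂.left h₂).1 = W.hom := by
      rw [← hy' ψ₂.left h₂, ← Category.assoc]
      exact (congrArg (· ≫ y) (Over.comp_left _ _ _ k₂ ψ₂).symm).trans (Over.w (k₂ ≫ ψ₂))
    have e3 := congrArg (G.map (tr' hW).op) e''
    change G.map k₁.op (G.map _ _) = G.map k₂.op (G.map _ _)
    simp only [map_map] at e3 ⊢
    refine (map_congr_left G _ _ ?_ _).trans (e3.trans (map_congr_left G _ _ ?_ _))
    · simp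
    · simp
  obtain ⟨t, ht, htu⟩ := h y x hx
  refine ⟨⟨y, t⟩, ?_, ?_⟩
  · intro Z g hg
    refine sigma_eq G (hy' g hg) _ (x' g hg).2 ?_
    have := ht (hm g y) hg
    change G.map (tr _).op (G.map (hm g y).op t) = _
    rw [this, map_map]
    exact map_id' G _ (by simp) _
  · intro p hp
    have h1 : p.1 = y := hS.isSeparatedFor xS p.1 y
      (fun Z g hg => congrArg Sigma.fst (hp g hg)) hy
    refine sigma_eq G h1 p.2 t ?_
    apply htu
    intro V ψ hψ
    have e' : (⟨ψ.left ≫ p.1, G.map (hm ψ.left p.1).op p.2⟩ :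
        Σ f : V.left ⟶ S, G.obj (op (Over.mk f))) =
        ⟨(x' ψ.left hψ).1, (x' ψ.left hψ).2⟩ := hp ψ.left hψ
    obtain ⟨h', e''⟩ := (sigma_eq_iff G _ _).1 e'
    change _ = G.map _ (x' ψ.left hψ).2
    rw [← e'', map_map, map_map, map_map]
    exact map_congr_left G _ _ (by simp) _

end Groth.Agent.Helper1.SigSh

namespace Groth.Agent.Helper1.SigSh

variable {C : Type u} [Category.{v} C] {S : C} {G : (Over S)ᵒᵖ ⥤ Type w}

theorem isSheaf_over_of_sig (J : GrothendieckTopology C)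
    (hS : Presieve.IsSheaf J (yoneda.obj S))
    (h : Presieve.IsSheaf J (sig G)) : Presieve.IsSheaf (J.over S) G := by
  intro U R hR
  rw [GrothendieckTopology.mem_over_iff] at hR
  have := isSheafFor_over_of_sig (G := G) (Sieve.overEquiv _ R) (hS _ hR).isSeparatedFor (h _ hR) U.hom
  have e : (Sieve.overEquiv (Over.mk U.hom)).symm (Sieve.overEquiv U R) = R :=
    (Sieve.overEquiv U).symm_apply_apply R
  rwa [e] at this

theorem isSheaf_sig_of_over (J : GrothendieckTopology C)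
    (hS : Presieve.IsSheaf J (yoneda.obj S))
    (h : Presieve.IsSheaf (J.over S) G) : Presieve.IsSheaf J (sig G) := by
  intro Y R hR
  exact isSheafFor_sig_of_over R (hS _ hR)
    (fun y => h _ (J.overEquiv_symm_mem_over (Over.mk y) _ hR))

/-- the single-morphism case -/
theorem isSheafFor_sig_singleton {X Y : C} (f : X ⟶ Y)
    (hS : Presieve.IsSheafFor (yoneda.obj S) (Presieve.singleton f))
    (h : ∀ y : Y ⟶ S, Presieve.IsSheafFor G (Presieve.singleton (hm f y))) :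
    Presieve.IsSheafFor (sig G) (Presieve.singleton f) := by
  rw [Presieve.isSheafFor_iff_generate] at hS ⊢
  refine isSheafFor_sig_of_over _ hS (fun y => ?_)
  have h2 := h y
  rw [Presieve.isSheafFor_iff_generate] at h2
  convert h2 using 2
  ext V ψ
  rw [Sieve.overEquiv_symm_iff]
  constructor
  · rintro ⟨W, g, _, ⟨⟩, e⟩
    refine ⟨Over.mk (f ≫ y), Over.homMk g ?_, hm f y, Presieve.singleton.mk, ?_⟩
    · have := Over.w ψ
      simp only [Over.mk_hom] at this ⊢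
      rw [← this, ← e, Category.assoc]
    · ext
      simpa using e
  · rintro ⟨W, g, _, ⟨⟩, e⟩
    exact ⟨X, g.left, f, Presieve.singleton.mk, by rw [← e]; rfl⟩

end Groth.Agent.Helper1.SigSh
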