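import Mathlib
import Groth.Prelude.Def_Adeq2
import Groth.Agent.Lib.Helper1.AdqS5
import Groth.Agent.Lib.Helper1.Adq19
import Groth.Agent.Lib.Helper1.SigSh2

set_option autoImplicit false
set_option linter.unusedSectionVars false
set_option linter.unusedVariables false
set_option maxHeartbeats 400000
universe u
open CategoryTheory CategoryTheory.Limits AlgebraicGeometry Opposite TensorProduct

namespace Groth.Agent.Helper1.AdqS

open Groth.Agent.Helper1.Adq Groth.Agent.Helper1.SigSh

variable (K : Precoverage Scheme.{u}) [BigSite.OSh K] {S : Scheme.{u}} (M : BigSite.Mod K S)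

theorem specOver_map_comp_hm {R : CommRingCat.{u}} (a : Spec R ⟶ S) {B B' : Adeq.Alg R} (g : B ⟶ B') :
    ((Adeq.specOver a).map g.op ≫ hm (Spec.map (CommRingCat.ofHom (algebraMap R B))) a).left =
      Spec.map (CommRingCat.ofHom (algebraMap R B')) := by
  change Spec.map (rH R g) ≫ Spec.map (CommRingCat.ofHom (algebraMap R B)) = _
  rw [← Spec.map_comp, rH_algebraMap]

theorem isSheafFor_singleton_of_adequate {R : CommRingCat.{u}} (a : Spec R ⟶ S)
    (hF : Adeq.adequate R ((Adeq.toMVF K a).obj M))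
    (B : Type u) [CommRing B] [Algebra R B] [Module.FaithfullyFlat R B] :
    Presieve.IsSheafFor (M.val.presheaf ⋙ forget Ab)
      (Presieve.singleton (hm (Spec.map (CommRingCat.ofHom (algebraMap R B))) a)) := by
  rw [Presieve.isSheafFor_singleton]
  intro ξ hξ
  obtain ⟨hinj, hglue⟩ := adequate_descent ((Adeq.toMVF K a).obj M) hF B
  let ι₀ : Adeq.algOf R R ⟶ Adeq.algOf R B := CommAlgCat.ofHom (Algebra.ofId R B)
  let ι₁ : Adeq.algOf R B ⟶ Adeq.algOf R (B ⊗[R] B) :=
    CommAlgCat.ofHom (Algebra.TensorProduct.includeLeft : B →ₐ[R] B ⊗[R] B)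
  let ι₂ : Adeq.algOf R B ⟶ Adeq.algOf R (B ⊗[R] B) :=
    CommAlgCat.ofHom (Algebra.TensorProduct.includeRight : B →ₐ[R] B ⊗[R] B)
  have h12 := hξ ((Adeq.specOver a).map ι₁.op) ((Adeq.specOver a).map ι₂.op)
    (Over.OverMorphism.ext ((specOver_map_comp_hm a ι₁).trans (specOver_map_comp_hm a ι₂).symm))
  obtain ⟨η, hη⟩ := hglue ξ h12
  -- identity-like maps between `(Spec R, a)` and `specOver a R`
  have ha : a = Spec.map (CommRingCat.ofHom (algebraMap R R)) ≫ a := by
    rw [Algebra.algebraMap_self, CommRingCat.ofHom_id, Spec.map_id, Category.id_comp]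
  have hη' : (M.val.presheaf ⋙ forget Ab).map ((Adeq.specOver a).map ι₀.op).op η = ξ := hη
  refine ⟨(M.val.presheaf ⋙ forget Ab).map (tr ha).op η, ?_, ?_⟩
  · change (M.val.presheaf ⋙ forget Ab).map _ ((M.val.presheaf ⋙ forget Ab).map (tr ha).op η) = ξ
    refine (SigSh.map_map _ _ _ _).trans ?_
    rw [← hη']
    refine map_congr_left _ _ _ ?_ _
    exact Category.comp_id _
  · intro η₁ h₁
    have e1 : η₁ = (M.val.presheaf ⋙ forget Ab).map (tr ha).op
        ((M.val.presheaf ⋙ forget Ab).map (tr ha.symm).op η₁) := by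
      refine ((map_id' _ _ ?_ _).symm.trans (SigSh.map_map _ _ _ _).symm)
      exact Category.id_comp _
    rw [e1]
    congr 1
    apply hinj
    refine Eq.trans ?_ hη.symm
    change (M.val.presheaf ⋙ forget Ab).map ((Adeq.specOver a).map ι₀.op).op _ = ξ
    refine (SigSh.map_map _ _ _ _).trans ?_
    rw [← h₁]
    refine map_congr_left _ _ _ ?_ _
    exact Category.comp_id _

theorem over_mono' {C : Type*} [Category C] {J J' : GrothendieckTopology C} (h : J ≤ J') (X : C) :
    J.over X ≤ J'.over X := by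
  intro Y R hR
  rw [GrothendieckTopology.mem_over_iff] at hR ⊢
  exact h _ hR

set_option backward.isDefEq.respectTransparency.types false in
theorem isSheaf_fpqc_of_adequate
    (hK : Scheme.zariskiTopology ≤ K.toGrothendieck)
    (hF : ∀ (R : CommRingCat.{u}) (a : Spec R ⟶ S), Adeq.adequate R ((Adeq.toMVF K a).obj M)) :
    Presheaf.IsSheaf (QuotSh.J Scheme.fpqcPrecoverage S) ((BigSite.toAbMod K S).obj M).obj := by
  have hsh : Presieve.IsSheaf (QuotSh.J K S) (M.val.presheaf ⋙ forget Ab) :=
    (isSheaf_iff_isSheaf_of_type _ _).1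
      ((Presheaf.isSheaf_iff_isSheaf_forget _ _ (forget _)).1 M.isSheaf)
  change Presheaf.IsSheaf (Scheme.fpqcTopology.over S) M.val.presheaf
  rw [Presheaf.isSheaf_iff_isSheaf_forget _ _ (forget Ab), isSheaf_iff_isSheaf_of_type]
  apply isSheaf_over_of_sig Scheme.fpqcTopology
    (GrothendieckTopology.Subcanonical.isSheaf_of_isRepresentable _)
  rw [Scheme.fpqcTopology_eq_propQCTopology, isSheaf_type_propQCTopology_iff]
  refine ⟨?_, ?_⟩
  · apply isSheaf_sig_of_over Scheme.zariskiTopology
      (GrothendieckTopology.Subcanonical.isSheaf_of_isRepresentable _)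
    exact Presieve.isSheaf_of_le _ (over_mono' hK S) hsh
  · intro R B φ hflat hsurj
    have hff : φ.hom.FaithfullyFlat := (flat_and_surjective_SpecMap_iff φ).1 ⟨hflat, hsurj⟩
    letI : Algebra R B := φ.hom.toAlgebra
    haveI : Module.FaithfullyFlat R B := hff
    apply isSheafFor_sig_singleton
    · haveI := hflat
      haveI := hsurj
      have : IsRegularEpi (Spec.map φ) := isRegularEpi_of_flat_of_surjective_of_isAffine _
      exact .singleton_of_isRepresentable_of_effectiveEpi _ _
    · intro y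
      exact isSheafFor_singleton_of_adequate K M y (hF R y) B

end Groth.Agent.Helper1.AdqS
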