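import Mathlib
import Groth.Prelude.Def_Adeq2
import Groth.Agent.Lib.Helper1.AdqH1
import Groth.Agent.Lib.Helper1.AdqS8
import Groth.Agent.Lib.Helper1.AdqS7

set_option autoImplicit false
set_option linter.unusedSectionVars false
set_option linter.unusedVariables false
set_option maxHeartbeats 400000
universe u
open CategoryTheory CategoryTheory.Limits AlgebraicGeometry Opposite TensorProduct

namespace Groth.Agent.Helper1.AdqH

open Groth.Agent.Helper1.Adq Groth.Agent.Helper1.AdqS Groth.Agent.Lib.Helper6.Adeq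
  Groth.Agent.Helper1.SigSh

variable (K : Precoverage Scheme.{u}) [BigSite.OSh K] {S : Scheme.{u}}

/-- sections of a short exact sequence are left exact -/
theorem shortExact_sect_exact (C : ShortComplex (BigSite.Mod K S)) (hC : C.ShortExact) (U : Over S)
    (s : BigSite.sectMod K C.X₂ U) (hs : C.g.val.app (op U) s = 0) :
    ∃ z : BigSite.sectMod K C.X₁ U, C.f.val.app (op U) z = s := by
  haveI : (SheafOfModules.evaluation (BigSite.ORing K S) (op U)).PreservesZeroMorphisms :=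
    ⟨fun _ _ => rfl⟩
  have hC' := hC.exact.map_of_mono_of_preservesKernel
    (SheafOfModules.evaluation (BigSite.ORing K S) (op U)) hC.mono_f inferInstance
  rw [ShortComplex.moduleCat_exact_iff] at hC'
  exact hC' s hs

theorem hom_from_base_ext {R : Type u} [CommRing R] {X : Adeq.Alg R} (f g : Adeq.algOf R R ⟶ X) :
    f = g := by
  apply CommAlgCat.hom_ext
  refine DFunLike.ext _ _ (fun r => ?_)
  have h1 := f.hom.commutes r
  have h2 := g.hom.commutes r
  exact h1.trans h2.symm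

section Pb

variable {R : CommRingCat.{u}} (a : Spec R ⟶ S) (B : Type u) [CommRing B] [Algebra R B]

theorem isPullback_cover :
    IsPullback ((Adeq.specOver a).map (Adeq.Alg.unit R B (P1 R B)).op)
      ((Adeq.specOver a).map (jC R B (P1 R B)).op)
      ((Adeq.specOver a).map (i0 R B).op) ((Adeq.specOver a).map (i0 R B).op) := by
  apply over_isPullback_of_left
  exact isPullback_SpecMap_of_isPushout _ _ _ _ (isPushout_unit R B (P1 R B))

end Pb

section Main

variable (C : ShortComplex (BigSite.Mod K S)) (hC : C.ShortExact)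
  {R : CommRingCat.{u}} (a : Spec R ⟶ S) (B : Type u) [CommRing B] [Algebra R B]

/-- the sheaf condition of a module for a covering singleton -/
theorem isSheafFor_cover (M : BigSite.Mod K S) {U V : Over S} (w : V ⟶ U)
    (hcov : Sieve.generate (Presieve.singleton w) ∈ QuotSh.J K S U) :
    Presieve.IsSheafFor (M.val.presheaf ⋙ forget Ab) (Presieve.singleton w) := by
  have hsh : Presieve.IsSheaf (QuotSh.J K S) (M.val.presheaf ⋙ forget Ab) :=
    (isSheaf_iff_isSheaf_of_type _ _).1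
      ((Presheaf.isSheaf_iff_isSheaf_forget _ _ (forget _)).1 M.isSheaf)
  exact (Presieve.isSheafFor_iff_generate _).2 (hsh _ hcov)

include hC in
theorem lift_of_cover [Module.FaithfullyFlat R B]
    (hF : Adeq.adequate R ((Adeq.toMVF K a).obj C.X₁))
    (hcov : Sieve.generate (Presieve.singleton ((Adeq.specOver a).map (i0 R B).op)) ∈
      QuotSh.J K S ((Adeq.specOver a).obj (op (Adeq.algOf R R))))
    (s : ((Adeq.toMVF K a).obj C.X₃).obj (Adeq.pt (Adeq.algOf R R)))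
    (t' : ((Adeq.toMVF K a).obj C.X₂).obj (Adeq.pt (P1 R B)))
    (ht' : ((Adeq.toMVF K a).map C.g).app (Adeq.pt (P1 R B)) t' =
      mvfMap ((Adeq.toMVF K a).obj C.X₃) (i0 R B) s) :
    ∃ t : ((Adeq.toMVF K a).obj C.X₂).obj (Adeq.pt (Adeq.algOf R R)),
      ((Adeq.toMVF K a).map C.g).app (Adeq.pt (Adeq.algOf R R)) t = s := by
  let F₁ := (Adeq.toMVF K a).obj C.X₁
  let F₂ := (Adeq.toMVF K a).obj C.X₂
  let F₃ := (Adeq.toMVF K a).obj C.X₃
  let fα : F₁ ⟶ F₂ := (Adeq.toMVF K a).map C.f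
  let gα : F₂ ⟶ F₃ := (Adeq.toMVF K a).map C.g
  haveI := hC.mono_f
  have hfinj : ∀ D : Adeq.Alg R, Function.Injective (fα.app (Adeq.pt D)) := fun D =>
    mono_sect_injective K C.f _
  have hex : ∀ (D : Adeq.Alg R) (x : F₂.obj (Adeq.pt D)), gα.app (Adeq.pt D) x = 0 →
      ∃ z : F₁.obj (Adeq.pt D), fα.app (Adeq.pt D) z = x := fun D x hx =>
    shortExact_sect_exact K C hC _ x hx
  have hgf : ∀ (D : Adeq.Alg R) (z : F₁.obj (Adeq.pt D)),
      gα.app (Adeq.pt D) (fα.app (Adeq.pt D) z) = 0 := by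
    intro D z
    have h0 : fα ≫ gα = 0 := by
      change (Adeq.toMVF K a).map C.f ≫ (Adeq.toMVF K a).map C.g = 0
      rw [← Functor.map_comp, C.zero, Functor.map_zero]
    exact congrArg (fun t => t.app (Adeq.pt D) z) h0
  -- the difference of the two pullbacks of `t'`
  let u₁ := Adeq.Alg.unit R B (P1 R B)
  let j₁ := jC R B (P1 R B)
  let δ : F₂.obj (Adeq.pt (CC R B (P1 R B))) := mvfMap F₂ u₁ t' - mvfMap F₂ j₁ t'
  have hδ : gα.app (Adeq.pt (CC R B (P1 R B))) δ = 0 := by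
    change gα.app _ (mvfMap F₂ u₁ t' - mvfMap F₂ j₁ t') = 0
    rw [map_sub, mvfMap_nat gα u₁ t', mvfMap_nat gα j₁ t', ht', ← mvfMap_comp, ← mvfMap_comp,
      hom_from_base_ext (i0 R B ≫ u₁) (i0 R B ≫ j₁), sub_self]
  obtain ⟨c, hc⟩ := hex _ δ hδ
  -- `c` is a cocycle
  have hcc : mvfMap F₁ (Adeq.Alg.unit R B (CC R B (P1 R B))) c -
        mvfMap F₁ (CCm R B u₁) c + mvfMap F₁ (CCm R B j₁) c = 0 := by
    apply hfinj
    rw [map_add, map_sub, map_zero, mvfMap_nat fα, mvfMap_nat fα, mvfMap_nat fα, hc]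
    change mvfMap F₂ _ (mvfMap F₂ u₁ t' - mvfMap F₂ j₁ t') -
      mvfMap F₂ _ (mvfMap F₂ u₁ t' - mvfMap F₂ j₁ t') +
      mvfMap F₂ _ (mvfMap F₂ u₁ t' - mvfMap F₂ j₁ t') = 0
    rw [mvfMap_sub, mvfMap_sub, mvfMap_sub, ← mvfMap_comp, ← mvfMap_comp, ← mvfMap_comp,
      ← mvfMap_comp, ← mvfMap_comp, ← mvfMap_comp]
    have e1 : u₁ ≫ Adeq.Alg.unit R B (CC R B (P1 R B)) = u₁ ≫ CCm R B u₁ :=
      (unit_natural R B u₁).symm
    have e2 : j₁ ≫ Adeq.Alg.unit R B (CC R B (P1 R B)) = u₁ ≫ CCm R B j₁ :=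
      (unit_natural R B j₁).symm
    have e3 : j₁ ≫ CCm R B u₁ = j₁ ≫ CCm R B j₁ :=
      (jC_natural R B u₁).trans (jC_natural R B j₁).symm
    rw [e1, e2, e3]
    abel
  obtain ⟨z, hz⟩ := cech_h1 R B F₁ hF c hcc
  let t'' : F₂.obj (Adeq.pt (P1 R B)) := t' - fα.app (Adeq.pt (P1 R B)) z
  have ht'' : mvfMap F₂ u₁ t'' = mvfMap F₂ j₁ t'' := by
    rw [← sub_eq_zero]
    change mvfMap F₂ u₁ (t' - fα.app _ z) - mvfMap F₂ j₁ (t' - fα.app _ z) = 0
    rw [mvfMap_sub, mvfMap_sub, ← mvfMap_nat fα, ← mvfMap_nat fα]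
    have : fα.app _ (mvfMap F₁ u₁ z) - fα.app _ (mvfMap F₁ j₁ z) = δ := by
      rw [← map_sub, ← hz, hc]
    change mvfMap F₂ u₁ t' - fα.app _ (mvfMap F₁ u₁ z) -
      (mvfMap F₂ j₁ t' - fα.app _ (mvfMap F₁ j₁ z)) = 0
    have hδ' : δ = mvfMap F₂ u₁ t' - mvfMap F₂ j₁ t' := rfl
    rw [hδ'] at this
    rw [sub_sub_sub_comm, this, sub_self]
  -- glue
  have hsh2 := isSheafFor_cover K C.X₂ _ hcov
  rw [Presieve.isSheafFor_singleton] at hsh2
  obtain ⟨t, ht, -⟩ := hsh2 t'' (by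
    intro Z p₁ p₂ hp
    obtain ⟨q, hq1, hq2⟩ : ∃ q : Z ⟶ (Adeq.specOver a).obj (op (CC R B (P1 R B))),
        q ≫ (Adeq.specOver a).map u₁.op = p₂ ∧ q ≫ (Adeq.specOver a).map j₁.op = p₁ :=
      ⟨(isPullback_cover a B).lift p₂ p₁ hp.symm, (isPullback_cover a B).lift_fst _ _ _,
        (isPullback_cover a B).lift_snd _ _ _⟩
    rw [← hq1, ← hq2]
    change (C.X₂.val.presheaf ⋙ forget Ab).map (q ≫ (Adeq.specOver a).map j₁.op).op t'' =
      (C.X₂.val.presheaf ⋙ forget Ab).map (q ≫ (Adeq.specOver a).map u₁.op).op t''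
    rw [op_comp, op_comp, CategoryTheory.Functor.map_comp_apply, CategoryTheory.Functor.map_comp_apply]
    congr 1
    exact ht''.symm)
  refine ⟨t, ?_⟩
  -- separatedness of `C.X₃`
  have hsh3 := (isSheafFor_cover K C.X₃ _ hcov).isSeparatedFor
  have ht2 : mvfMap F₂ (i0 R B) t = t'' := ht
  have h5 : mvfMap F₃ (i0 R B) (gα.app _ t) = mvfMap F₃ (i0 R B) s := by
    rw [← mvfMap_nat gα, ht2]
    change gα.app _ (t' - fα.app _ z) = _
    rw [map_sub, hgf, sub_zero, ht']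
  refine hsh3.ext (fun Y f hf => ?_)
  obtain ⟨⟩ := hf
  exact h5

end Main

end Groth.Agent.Helper1.AdqH
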