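import Mathlib
import Groth.Prelude.Def_Adeq
import Groth.Agent.Lib.Helper1.Adq18

set_option autoImplicit false
set_option linter.unusedSectionVars false
set_option linter.unusedVariables false
set_option maxHeartbeats 400000
universe u v
open CategoryTheory CategoryTheory.Limits TensorProduct

namespace Groth.Agent.Helper1.Adq

open Groth.Agent.Lib.Helper6.Adeq

variable {A : Type u} [CommRing A]

/-- a functor presented as the equalizer of finitely many adequate functors is adequate -/
theorem adequate_of_finite_presentation {I L : Type (u + 1)} [Fintype I] [Fintype L]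
    (F : Adeq.MVF A) (G : I → Adeq.MVF A) (H : L → Adeq.MVF A)
    (hG : ∀ i, Adeq.adequate A (G i)) (hH : ∀ l, Adeq.adequate A (H l))
    (α : ∀ i, F ⟶ G i) (s t : L → I) (β : ∀ l, G (s l) ⟶ H l) (γ : ∀ l, G (t l) ⟶ H l)
    (hαβ : ∀ l, α (s l) ≫ β l = α (t l) ≫ γ l)
    (hinj : ∀ (X : (Adeq.Alg A)ᵒᵖᵒᵖ) (x : F.obj X), (∀ i, (α i).app X x = 0) → x = 0)
    (hglue : ∀ (X : (Adeq.Alg A)ᵒᵖᵒᵖ) (y : ∀ i, (G i).obj X),
      (∀ l, (β l).app X (y (s l)) = (γ l).app X (y (t l))) → ∃ x : F.obj X, ∀ i, (α i).app X x = y i) :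
    Adeq.adequate A F := by
  classical
  have hGG : Adeq.adequate A (⨁ G) :=
    adequate_cofan_pt G hG (biproduct.bicone G).toCocone (biproduct.isColimit G)
  have hHH : Adeq.adequate A (⨁ H) :=
    adequate_cofan_pt H hH (biproduct.bicone H).toCocone (biproduct.isColimit H)
  let j : F ⟶ ⨁ G := biproduct.lift α
  let w : ⨁ G ⟶ ⨁ H := biproduct.lift (fun l =>
    biproduct.π G (s l) ≫ β l - biproduct.π G (t l) ≫ γ l)
  have hjw : j ≫ w = 0 := by
    apply biproduct.hom_ext
    intro l
    rw [Category.assoc, biproduct.lift_π, zero_comp, Preadditive.comp_sub,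
      biproduct.lift_π_assoc, biproduct.lift_π_assoc, hαβ, sub_self]
  have hπj : ∀ (k : I) (X : (Adeq.Alg A)ᵒᵖᵒᵖ) (x : F.obj X),
      (biproduct.π G k).app X (j.app X x) = (α k).app X x := by
    intro k X x
    exact congrArg (fun q : F ⟶ G k => q.app X x) (biproduct.lift_π _ k)
  have hπw : ∀ (l : L) (X : (Adeq.Alg A)ᵒᵖᵒᵖ) (y : (⨁ G).obj X),
      (biproduct.π H l).app X (w.app X y) =
        (β l).app X ((biproduct.π G (s l)).app X y) -
          (γ l).app X ((biproduct.π G (t l)).app X y) := by
    intro l X y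
    exact congrArg (fun q : ⨁ G ⟶ H l => q.app X y) (biproduct.lift_π _ l)
  obtain ⟨e⟩ := gen_iso_kernel_of_pointwise j w hjw
    (fun X => by
      rw [← AddMonoidHom.coe_coe, injective_iff_map_eq_zero]
      intro x hx
      apply hinj X x
      intro k
      have h2 := hπj k X x
      have h3 : j.app X x = 0 := hx
      rw [h3, map_zero] at h2
      exact h2.symm)
    (fun X y hy => by
      obtain ⟨x, hx⟩ := hglue X (fun k => (biproduct.π G k).app X y) (by
        intro l
        have h2 := hπw l X y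
        rw [hy, map_zero] at h2
        exact (sub_eq_zero.mp h2.symm))
      refine ⟨x, ?_⟩
      rw [← sub_eq_zero]
      apply biproduct_app_eq_zero G X
      intro k
      rw [map_sub, hπj k X x, sub_eq_zero]
      exact hx k)
  exact (Adeq.adequate A).prop_of_iso e.symm (adequate_kernel w hGG hHH)

end Groth.Agent.Helper1.Adq
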