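import Mathlib
import Groth.Prelude.Def_Adeq2
import Groth.Agent.Lib.Helper1.AdqS8
import Groth.Agent.Lib.Helper1.AdqP1
import Groth.Agent.Lib.Helper1.AdqS6

set_option autoImplicit false
set_option linter.unusedSectionVars false
set_option linter.unusedVariables false
set_option maxHeartbeats 400000
universe u
open CategoryTheory CategoryTheory.Limits AlgebraicGeometry Opposite TensorProduct

namespace Groth.Agent.Helper1.AdqP

open Groth.Agent.Helper1.Adq Groth.Agent.Helper1.AdqS

variable (K : Precoverage Scheme.{u}) [BigSite.OSh K] {S T : Scheme.{u}} (f : T ⟶ S)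
  (M : BigSite.Mod K T) {R : CommRingCat.{u}} (a : Spec R ⟶ S)

/-- the object of the big site of `T` over which the sections of `f_* M` at `Spec B → S` live -/
noncomputable abbrev VV (B : Adeq.Alg R) : Over T :=
  (Over.pullback f).obj ((Adeq.specOver a).obj (op B))

theorem toMVF_push_presheaf_obj (X : (Adeq.Alg R)ᵒᵖᵒᵖ) :
    ((Adeq.toMVF K a).obj ((BigSite.pushMod K f).obj M)).presheaf.obj X =
      M.val.presheaf.obj (op (VV f a X.unop.unop)) := rfl

variable (A : Type u) [CommRing A] [Algebra R A] (b : Spec (CommRingCat.of A) ⟶ T)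

/-- the object `Spec (A ⊗ B) → Spec A → T` -/
noncomputable abbrev WW (B : Adeq.Alg R) : Over T :=
  (Adeq.specOver b).obj (op ((Adeq.Alg.baseChange R A).obj B))

theorem push_toMVF_presheaf_obj (X : (Adeq.Alg R)ᵒᵖᵒᵖ) :
    ((Adeq.push R A).obj ((Adeq.toMVF K b).obj M)).presheaf.obj X =
      M.val.presheaf.obj (op (WW A b X.unop.unop)) := rfl

variable (hb : b ≫ f = Spec.map (CommRingCat.ofHom (algebraMap R A)) ≫ a)

include hb in
theorem theta_comm (B : Adeq.Alg R) :
    Spec.map (rH R (Adeq.Alg.unit R A B)) ≫ (sm B ≫ a) = (Spec.map (lR R A B) ≫ b) ≫ f := by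
  rw [Category.assoc, hb, ← Category.assoc, ← Category.assoc, ← Spec.map_comp, ← Spec.map_comp,
    (isPushout_unit R A B).w]

/-- `Spec (A ⊗ B) ⟶ Spec B ×_S T` over `T` -/
noncomputable def theta (B : Adeq.Alg R) : WW A b B ⟶ VV f a B :=
  Over.homMk (pullback.lift (Spec.map (rH R (Adeq.Alg.unit R A B))) (Spec.map (lR R A B) ≫ b)
    (theta_comm f a A b hb B)) (pullback.lift_snd _ _ _)

theorem theta_left_fst (B : Adeq.Alg R) :
    (theta f a A b hb B).left ≫ pullback.fst (sm B ≫ a) f = Spec.map (rH R (Adeq.Alg.unit R A B)) :=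
  pullback.lift_fst _ _ _

theorem theta_left_snd (B : Adeq.Alg R) :
    (theta f a A b hb B).left ≫ pullback.snd (sm B ≫ a) f = Spec.map (lR R A B) ≫ b :=
  pullback.lift_snd _ _ _

theorem lift_natural {C : Type*} [Category C] [HasPullbacks C] {S T Y Y' W W' : C} (f : T ⟶ S)
    (y : Y ⟶ S) (y' : Y' ⟶ S) (k : Y' ⟶ Y) (hk : k ≫ y = y') (w₁ : W ⟶ Y) (w₂ : W ⟶ T)
    (hw : w₁ ≫ y = w₂ ≫ f) (w₁' : W' ⟶ Y') (w₂' : W' ⟶ T) (hw' : w₁' ≫ y' = w₂' ≫ f)
    (h : W' ⟶ W) (h1 : h ≫ w₁ = w₁' ≫ k) (h2 : h ≫ w₂ = w₂') :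
    pullback.lift w₁' w₂' hw' ≫ pullback.lift (pullback.fst y' f ≫ k) (pullback.snd y' f)
        (by rw [Category.assoc, hk, pullback.condition]) =
      h ≫ pullback.lift w₁ w₂ hw := by
  apply pullback.hom_ext
  · rw [Category.assoc, pullback.lift_fst, pullback.lift_fst_assoc, Category.assoc,
      pullback.lift_fst, h1]
  · rw [Category.assoc, pullback.lift_snd, pullback.lift_snd, Category.assoc,
      pullback.lift_snd, h2]

theorem unit_sq {B B' : Adeq.Alg R} (g : B ⟶ B') :
    Spec.map (rH R ((Adeq.Alg.restr R A).map ((Adeq.Alg.baseChange R A).map g))) ≫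
        Spec.map (rH R (Adeq.Alg.unit R A B)) =
      Spec.map (rH R (Adeq.Alg.unit R A B')) ≫ Spec.map (rH R g) := by
  rw [← Spec.map_comp, ← Spec.map_comp, ← rH_comp, ← rH_comp, unit_natural]

theorem lR_sq {B B' : Adeq.Alg R} (g : B ⟶ B') :
    Spec.map (rH R ((Adeq.Alg.restr R A).map ((Adeq.Alg.baseChange R A).map g))) ≫
        (Spec.map (lR R A B) ≫ b) = Spec.map (lR R A B') ≫ b := by
  rw [← Category.assoc, ← Spec.map_comp, lR_natural]

theorem theta_natural {B B' : Adeq.Alg R} (g : B ⟶ B') :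
    theta f a A b hb B' ≫ (Over.pullback f).map ((Adeq.specOver a).map g.op) =
      (Adeq.specOver b).map ((Adeq.Alg.baseChange R A).map g).op ≫ theta f a A b hb B := by
  apply Over.OverMorphism.ext
  exact lift_natural f (sm B ≫ a) (sm B' ≫ a) (Spec.map (rH R g))
    (Over.w ((Adeq.specOver a).map g.op)) _ _ (theta_comm f a A b hb B) _ _
    (theta_comm f a A b hb B') _ (unit_sq A g) (lR_sq A b g)

/-- restriction along `theta`, on underlying presheaves -/
noncomputable def unitNat :
    ((Adeq.toMVF K a).obj ((BigSite.pushMod K f).obj M)).presheaf ⟶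
      ((Adeq.push R A).obj ((Adeq.toMVF K b).obj M)).presheaf where
  app X := M.val.presheaf.map (theta f a A b hb X.unop.unop).op
  naturality := by
    intro X Y φ
    have key := theta_natural f a A b hb φ.unop.unop
    have key2 := congrArg (fun q => M.val.presheaf.map q.op) key
    simp only [op_comp, Functor.map_comp] at key2
    exact key2

theorem O_map_up {V W : Over T} (g : V ⟶ W) (y : Γ(W.left, ⊤)) :
    (BigSite.ORing K T).obj.map g.op (ULift.up y : (BigSite.ORing K T).obj.obj (op W)) =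
      (ULift.up (g.left.appTop.hom y) : (BigSite.ORing K T).obj.obj (op V)) := rfl

theorem O_map_theta (B : Adeq.Alg R) (x : Γ(Spec (CommRingCat.of B), ⊤)) :
    (BigSite.ORing K T).obj.map (theta f a A b hb B).op
      (ULift.up ((pullback.fst (sm B ≫ a) f).appTop.hom x) :
        (BigSite.ORing K T).obj.obj (op (VV f a B))) =
      (ULift.up ((Spec.map (rH R (Adeq.Alg.unit R A B))).appTop.hom x) :
        (BigSite.ORing K T).obj.obj (op (WW A b B))) := by
  refine (O_map_up K (theta f a A b hb B) _).trans ?_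
  apply ULift.ext
  change _ = (Spec.map (rH R (Adeq.Alg.unit R A B))).appTop.hom x
  have := congrArg (fun q => q.appTop.hom x) (theta_left_fst f a A b hb B)
  dsimp only at this
  rw [Scheme.Hom.comp_appTop, CommRingCat.hom_comp, RingHom.comp_apply] at this
  exact this

theorem appTop_ΓSpecIso_inv {B B' : CommRingCat.{u}} (φ : B ⟶ B') (r : B) :
    (Spec.map φ).appTop.hom ((Scheme.ΓSpecIso B).inv.hom r) = (Scheme.ΓSpecIso B').inv.hom (φ.hom r) := by
  have := congrArg (fun q => q.hom r) (Scheme.ΓSpecIso_inv_naturality φ)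
  exact this.symm

/-- the restriction map `f_* M (Spec B) → M (Spec (A ⊗ B))` as a map of module valued functors -/
noncomputable def unitHom :
    (Adeq.toMVF K a).obj ((BigSite.pushMod K f).obj M) ⟶
      (Adeq.push R A).obj ((Adeq.toMVF K b).obj M) :=
  PresheafOfModules.homMk (unitNat K f M a A b hb) (by
    intro X r m
    have h1 := M.val.map_smul (theta f a A b hb X.unop.unop).op
      (ULift.up ((pullback.fst (sm X.unop.unop ≫ a) f).appTop.hom
        ((Scheme.ΓSpecIso (CommRingCat.of X.unop.unop)).inv.hom r)) :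
        (BigSite.ORing K T).obj.obj (op (VV f a X.unop.unop))) m
    have h2 := O_map_theta K f a A b hb X.unop.unop
      ((Scheme.ΓSpecIso (CommRingCat.of X.unop.unop)).inv.hom r)
    have h3 := appTop_ΓSpecIso_inv (rH R (Adeq.Alg.unit R A X.unop.unop)) r
    rw [h2, h3] at h1
    exact h1)

theorem unitHom_app (X : (Adeq.Alg R)ᵒᵖᵒᵖ)
    (x : ((Adeq.toMVF K a).obj ((BigSite.pushMod K f).obj M)).obj X) :
    (unitHom K f M a A b hb).app X x = M.val.map (theta f a A b hb X.unop.unop).op x := rfl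

end Groth.Agent.Helper1.AdqP
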