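import Mathlib
import Groth.Prelude.Def_Adeq2
import Groth.Agent.Lib.Helper1.AdqP2

set_option autoImplicit false
set_option linter.unusedSectionVars false
set_option linter.unusedVariables false
set_option maxHeartbeats 400000
universe u
open CategoryTheory CategoryTheory.Limits AlgebraicGeometry Opposite TensorProduct

namespace Groth.Agent.Helper1.AdqP

open Groth.Agent.Helper1.Adq Groth.Agent.Helper1.AdqS

variable (K : Precoverage Scheme.{u}) [BigSite.OSh K] {T : Scheme.{u}}
  (M : BigSite.Mod K T) {R : CommRingCat.{u}}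
  (A A' : Type u) [CommRing A] [Algebra R A] [CommRing A'] [Algebra R A'] (χ : A →ₐ[R] A')
  (b : Spec (CommRingCat.of A) ⟶ T) (b' : Spec (CommRingCat.of A') ⟶ T)
  (hb : b' = Spec.map (CommRingCat.ofHom χ.toRingHom) ≫ b)

/-- `χ ⊗ B` as a morphism of commutative rings -/
noncomputable def tm (B : Adeq.Alg R) : CommRingCat.of (CC R A B) ⟶ CommRingCat.of (CC R A' B) :=
  CommRingCat.ofHom (Algebra.TensorProduct.map χ (AlgHom.id R B)).toRingHom

theorem lR_tm (B : Adeq.Alg R) :
    lR R A B ≫ tm A A' χ B = CommRingCat.ofHom χ.toRingHom ≫ lR R A' B := by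
  apply CommRingCat.hom_ext
  refine RingHom.ext (fun x => ?_)
  change Algebra.TensorProduct.map χ (AlgHom.id R B) (x ⊗ₜ[R] (1 : B)) = χ x ⊗ₜ[R] (1 : B)
  rw [Algebra.TensorProduct.map_tmul]
  rfl

theorem unit_tm (B : Adeq.Alg R) :
    rH R (Adeq.Alg.unit R A B) ≫ tm A A' χ B = rH R (Adeq.Alg.unit R A' B) := by
  apply CommRingCat.hom_ext
  refine RingHom.ext (fun x => ?_)
  change Algebra.TensorProduct.map χ (AlgHom.id R B) ((1 : A) ⊗ₜ[R] x) = (1 : A') ⊗ₜ[R] x
  rw [Algebra.TensorProduct.map_tmul, map_one]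
  rfl

theorem tm_natural {B B' : Adeq.Alg R} (g : B ⟶ B') :
    tm A A' χ B ≫ rH R ((Adeq.Alg.restr R A').map ((Adeq.Alg.baseChange R A').map g)) =
      rH R ((Adeq.Alg.restr R A).map ((Adeq.Alg.baseChange R A).map g)) ≫ tm A A' χ B' := by
  apply CommRingCat.hom_ext
  apply RingHom.ext
  intro z
  induction z using TensorProduct.induction_on with
  | zero => simp
  | tmul x y =>
    change Algebra.TensorProduct.map (AlgHom.id A' A') g.hom
        (Algebra.TensorProduct.map χ (AlgHom.id R B) (x ⊗ₜ[R] y)) =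
      Algebra.TensorProduct.map χ (AlgHom.id R B')
        (Algebra.TensorProduct.map (AlgHom.id A A) g.hom (x ⊗ₜ[R] y))
    rw [Algebra.TensorProduct.map_tmul, Algebra.TensorProduct.map_tmul,
      Algebra.TensorProduct.map_tmul, Algebra.TensorProduct.map_tmul]
    rfl
  | add x y hx hy => rw [map_add, map_add, hx, hy]

include hb in
theorem rho_comm (B : Adeq.Alg R) :
    Spec.map (tm A A' χ B) ≫ (Spec.map (lR R A B) ≫ b) = Spec.map (lR R A' B) ≫ b' := by
  rw [hb, ← Category.assoc, ← Category.assoc, ← Spec.map_comp, ← Spec.map_comp, lR_tm]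

/-- `Spec (A' ⊗ B) ⟶ Spec (A ⊗ B)` over `T` -/
noncomputable def rho (B : Adeq.Alg R) : WW A' b' B ⟶ WW A b B :=
  Over.homMk (Spec.map (tm A A' χ B)) (rho_comm A A' χ b b' hb B)

theorem rho_left (B : Adeq.Alg R) : (rho A A' χ b b' hb B).left = Spec.map (tm A A' χ B) := rfl

theorem rho_natural {B B' : Adeq.Alg R} (g : B ⟶ B') :
    rho A A' χ b b' hb B' ≫ (Adeq.specOver b).map ((Adeq.Alg.baseChange R A).map g).op =
      (Adeq.specOver b').map ((Adeq.Alg.baseChange R A').map g).op ≫ rho A A' χ b b' hb B := by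
  apply Over.OverMorphism.ext
  change Spec.map (tm A A' χ B') ≫
      Spec.map (rH R ((Adeq.Alg.restr R A).map ((Adeq.Alg.baseChange R A).map g))) =
    Spec.map (rH R ((Adeq.Alg.restr R A').map ((Adeq.Alg.baseChange R A').map g))) ≫
      Spec.map (tm A A' χ B)
  rw [← Spec.map_comp, ← Spec.map_comp, tm_natural]

/-- restriction along `rho`, on underlying presheaves -/
noncomputable def resNat :
    ((Adeq.push R A).obj ((Adeq.toMVF K b).obj M)).presheaf ⟶
      ((Adeq.push R A').obj ((Adeq.toMVF K b').obj M)).presheaf where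
  app X := M.val.presheaf.map (rho A A' χ b b' hb X.unop.unop).op
  naturality := by
    intro X Y φ
    have key := rho_natural A A' χ b b' hb φ.unop.unop
    have key2 := congrArg (fun q => M.val.presheaf.map q.op) key
    simp only [op_comp, Functor.map_comp] at key2
    exact key2

theorem O_map_rho (B : Adeq.Alg R) (x : Γ(Spec (CommRingCat.of (CC R A B)), ⊤)) :
    (BigSite.ORing K T).obj.map (rho A A' χ b b' hb B).op
      (ULift.up x : (BigSite.ORing K T).obj.obj (op (WW A b B))) =
      (ULift.up ((Spec.map (tm A A' χ B)).appTop.hom x) :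
        (BigSite.ORing K T).obj.obj (op (WW A' b' B))) :=
  O_map_up K (rho A A' χ b b' hb B) x

/-- the restriction map `M (Spec (A ⊗ B)) → M (Spec (A' ⊗ B))` as a map of module valued functors -/
noncomputable def resHom :
    (Adeq.push R A).obj ((Adeq.toMVF K b).obj M) ⟶ (Adeq.push R A').obj ((Adeq.toMVF K b').obj M) :=
  PresheafOfModules.homMk (resNat K M A A' χ b b' hb) (by
    intro X r m
    have h1 := M.val.map_smul (rho A A' χ b b' hb X.unop.unop).op
      (ULift.up ((Scheme.ΓSpecIso (CommRingCat.of (CC R A X.unop.unop))).inv.hom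
        ((rH R (Adeq.Alg.unit R A X.unop.unop)).hom r)) :
        (BigSite.ORing K T).obj.obj (op (WW A b X.unop.unop))) m
    have h2 := O_map_rho K A A' χ b b' hb X.unop.unop
      ((Scheme.ΓSpecIso (CommRingCat.of (CC R A X.unop.unop))).inv.hom
        ((rH R (Adeq.Alg.unit R A X.unop.unop)).hom r))
    have h3 := appTop_ΓSpecIso_inv (tm A A' χ X.unop.unop)
      ((rH R (Adeq.Alg.unit R A X.unop.unop)).hom r)
    have h4 : (tm A A' χ X.unop.unop).hom ((rH R (Adeq.Alg.unit R A X.unop.unop)).hom r) =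
        (rH R (Adeq.Alg.unit R A' X.unop.unop)).hom r :=
      congrArg (fun q => q.hom r) (unit_tm A A' χ X.unop.unop)
    rw [h2, h3, h4] at h1
    exact h1)

theorem resHom_app (X : (Adeq.Alg R)ᵒᵖᵒᵖ)
    (x : ((Adeq.push R A).obj ((Adeq.toMVF K b).obj M)).obj X) :
    (resHom K M A A' χ b b' hb).app X x = M.val.map (rho A A' χ b b' hb X.unop.unop).op x := rfl

end Groth.Agent.Helper1.AdqP
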