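import Mathlib
import Groth.Prelude.Def_Adeq2
import Groth.Agent.Lib.Helper1.AdqP3

set_option autoImplicit false
set_option linter.unusedSectionVars false
set_option linter.unusedVariables false
set_option maxHeartbeats 400000
universe u
open CategoryTheory CategoryTheory.Limits AlgebraicGeometry Opposite TensorProduct

namespace Groth.Agent.Helper1.AdqP

open Groth.Agent.Helper1.Adq Groth.Agent.Helper1.AdqS

theorem Spec_tm_unit {R : CommRingCat.{u}} (A A' : Type u) [CommRing A] [Algebra R A] [CommRing A']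
    [Algebra R A'] (χ : A →ₐ[R] A') (B : Adeq.Alg R) :
    Spec.map (tm A A' χ B) ≫ Spec.map (rH R (Adeq.Alg.unit R A B)) =
      Spec.map (rH R (Adeq.Alg.unit R A' B)) := by
  rw [← Spec.map_comp, unit_tm]

theorem Spec_tm_lR {R : CommRingCat.{u}} (A A' : Type u) [CommRing A] [Algebra R A] [CommRing A']
    [Algebra R A'] (χ : A →ₐ[R] A') (B : Adeq.Alg R) :
    Spec.map (tm A A' χ B) ≫ Spec.map (lR R A B) =
      Spec.map (lR R A' B) ≫ Spec.map (CommRingCat.ofHom χ.toRingHom) := by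
  rw [← Spec.map_comp, ← Spec.map_comp, lR_tm]

section Gen

variable {C : Type*} [Category C] [HasPullbacks C] {S T R' Bs As W : C}
  (a : R' ⟶ S) (f : T ⟶ S) (sB : Bs ⟶ R') (tA : As ⟶ pullback a f) (wA : W ⟶ As) (wB : W ⟶ Bs)

/-- the comparison `Bs ×_S T ⟶ R' ×_S T` -/
noncomputable def qq : pullback (sB ≫ a) f ⟶ pullback a f :=
  pullback.lift (pullback.fst (sB ≫ a) f ≫ sB) (pullback.snd (sB ≫ a) f)
    (by rw [Category.assoc, pullback.condition])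

theorem qq_fst : qq a f sB ≫ pullback.fst a f = pullback.fst (sB ≫ a) f ≫ sB :=
  pullback.lift_fst _ _ _

theorem qq_snd : qq a f sB ≫ pullback.snd a f = pullback.snd (sB ≫ a) f :=
  pullback.lift_snd _ _ _

theorem isPullback_qq :
    IsPullback (qq a f sB) (pullback.fst (sB ≫ a) f) (pullback.fst a f) sB := by
  refine IsPullback.of_right (h₁₂ := pullback.snd a f) (h₂₂ := a) (v₁₃ := f) ?_
    (qq_fst a f sB) (IsPullback.of_hasPullback a f).flip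
  rw [qq_snd]
  exact (IsPullback.of_hasPullback (sB ≫ a) f).flip

theorem lift_comp' {Y W W' : C} {y : Y ⟶ S} (h : W' ⟶ W) (w₁ : W ⟶ Y) (w₂ : W ⟶ T)
    (hw : w₁ ≫ y = w₂ ≫ f) (w₁' : W' ⟶ Y) (w₂' : W' ⟶ T) (hw' : w₁' ≫ y = w₂' ≫ f)
    (h1 : h ≫ w₁ = w₁') (h2 : h ≫ w₂ = w₂') :
    h ≫ pullback.lift w₁ w₂ hw = pullback.lift w₁' w₂' hw' := by
  apply pullback.hom_ext
  · rw [Category.assoc, pullback.lift_fst, pullback.lift_fst, h1]
  · rw [Category.assoc, pullback.lift_snd, pullback.lift_snd, h2]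

variable (hW : IsPullback wA wB (tA ≫ pullback.fst a f) sB)

include hW in
theorem thetaG_comm : wB ≫ (sB ≫ a) = (wA ≫ tA ≫ pullback.snd a f) ≫ f := by
  rw [← Category.assoc, ← hW.w, Category.assoc, Category.assoc, Category.assoc, Category.assoc,
    pullback.condition]

/-- `W ⟶ Bs ×_S T` -/
noncomputable def thetaG : W ⟶ pullback (sB ≫ a) f :=
  pullback.lift wB (wA ≫ tA ≫ pullback.snd a f) (thetaG_comm a f sB tA wA wB hW)

theorem thetaG_qq : wA ≫ tA = thetaG a f sB tA wA wB hW ≫ qq a f sB := by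
  apply pullback.hom_ext
  · rw [Category.assoc, Category.assoc, qq_fst, ← Category.assoc (thetaG a f sB tA wA wB hW)]
    unfold thetaG
    rw [pullback.lift_fst, hW.w]
  · rw [Category.assoc, Category.assoc, qq_snd]
    unfold thetaG
    rw [pullback.lift_snd]

theorem isPullback_thetaG :
    IsPullback wA (thetaG a f sB tA wA wB hW) tA (qq a f sB) := by
  refine IsPullback.of_bot (v₂₁ := pullback.fst (sB ≫ a) f) (v₂₂ := pullback.fst a f) (h₃₁ := sB)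
    ?_ (thetaG_qq a f sB tA wA wB hW) (isPullback_qq a f sB)
  have : thetaG a f sB tA wA wB hW ≫ pullback.fst (sB ≫ a) f = wB := pullback.lift_fst _ _ _
  rw [this]
  exact hW

end Gen

theorem exists_preimage_of_isPullback {X Y Z P : Scheme.{u}} {fst : P ⟶ X} {snd : P ⟶ Y}
    {f : X ⟶ Z} {g : Y ⟶ Z} (sq : IsPullback fst snd f g) (x : X) (y : Y) (h : f x = g y) :
    ∃ z : P, fst z = x ∧ snd z = y := by
  obtain ⟨z', hz1, hz2⟩ := Scheme.Pullback.exists_preimage_pullback x y h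
  refine ⟨sq.isoPullback.inv z', ?_, ?_⟩
  · rw [← Scheme.Hom.comp_apply, sq.isoPullback_inv_fst, hz1]
  · rw [← Scheme.Hom.comp_apply, sq.isoPullback_inv_snd, hz2]

/-- a jointly surjective family of open immersions generates a covering sieve in the big site -/
theorem ofArrows_mem_J_of_open (K : Precoverage Scheme.{u}) (hK : Scheme.zariskiPrecoverage ≤ K)
    {T : Scheme.{u}} (V : Over T) {ι : Type*} (W : ι → Over T) (g : ∀ i, W i ⟶ V)
    (hopen : ∀ i, IsOpenImmersion (g i).left)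
    (hsurj : ∀ v : V.left, ∃ i, v ∈ Set.range (g i).left) :
    Sieve.ofArrows W g ∈ QuotSh.J K T V := by
  change _ ∈ (K.toGrothendieck.over T) _
  rw [GrothendieckTopology.mem_over_iff, Sieve.overEquiv_ofArrows]
  apply Precoverage.generate_mem_toGrothendieck
  apply hK
  rw [Scheme.ofArrows_mem_precoverage_iff]
  exact ⟨hsurj, hopen⟩

section Sch

variable (K : Precoverage Scheme.{u}) [BigSite.OSh K] {S T : Scheme.{u}} (f : T ⟶ S)
  (M : BigSite.Mod K T) {R : CommRingCat.{u}} (a : Spec R ⟶ S)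

section Chart

variable (A : Type u) [CommRing A] [Algebra R A] (t : Spec (CommRingCat.of A) ⟶ pullback a f)
  (ht : t ≫ pullback.fst a f = Spec.map (CommRingCat.ofHom (algebraMap R A)))

/-- the composite `Spec A → T` -/
noncomputable abbrev cb : Spec (CommRingCat.of A) ⟶ T := t ≫ pullback.snd a f

include ht in
theorem cb_comm : cb f a A t ≫ f = Spec.map (CommRingCat.ofHom (algebraMap R A)) ≫ a := by
  rw [Category.assoc, ← pullback.condition, ← Category.assoc, ht]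

include ht in
theorem hW_chart (B : Adeq.Alg R) :
    IsPullback (Spec.map (lR R A B)) (Spec.map (rH R (Adeq.Alg.unit R A B)))
      (t ≫ pullback.fst a f) (sm B) := by
  rw [ht]
  exact (isPullback_SpecMap_of_isPushout _ _ _ _ (isPushout_unit R A B)).flip

theorem isPullback_theta (B : Adeq.Alg R) :
    IsPullback (Spec.map (lR R A B)) (theta f a A (cb f a A t) (cb_comm f a A t ht) B).left t
      (qq a f (sm B)) :=
  isPullback_thetaG a f (sm B) t (Spec.map (lR R A B)) (Spec.map (rH R (Adeq.Alg.unit R A B)))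
    (hW_chart f a A t ht B)

theorem isOpenImmersion_theta [IsOpenImmersion t] (B : Adeq.Alg R) :
    IsOpenImmersion (theta f a A (cb f a A t) (cb_comm f a A t ht) B).left :=
  MorphismProperty.of_isPullback (P := @IsOpenImmersion) (isPullback_theta f a A t ht B)
    inferInstance

theorem theta_qq (B : Adeq.Alg R) :
    (theta f a A (cb f a A t) (cb_comm f a A t ht) B).left ≫ qq a f (sm B) =
      Spec.map (lR R A B) ≫ t :=
  (isPullback_theta f a A t ht B).w.symm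

/-- the underlying scheme morphism of `theta`, with clean types -/
noncomputable def thetaL (B : Adeq.Alg R) :
    Spec (CommRingCat.of (CC R A B)) ⟶ pullback (sm B ≫ a) f :=
  (theta f a A (cb f a A t) (cb_comm f a A t ht) B).left

theorem thetaL_fst (B : Adeq.Alg R) :
    thetaL f a A t ht B ≫ pullback.fst (sm B ≫ a) f = Spec.map (rH R (Adeq.Alg.unit R A B)) :=
  theta_left_fst f a A _ _ B

theorem thetaL_snd (B : Adeq.Alg R) :
    thetaL f a A t ht B ≫ pullback.snd (sm B ≫ a) f = Spec.map (lR R A B) ≫ cb f a A t :=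
  theta_left_snd f a A _ _ B

theorem thetaL_qq (B : Adeq.Alg R) :
    thetaL f a A t ht B ≫ qq a f (sm B) = Spec.map (lR R A B) ≫ t :=
  theta_qq f a A t ht B

theorem isPullback_thetaL (B : Adeq.Alg R) :
    IsPullback (Spec.map (lR R A B)) (thetaL f a A t ht B) t (qq a f (sm B)) :=
  isPullback_theta f a A t ht B

/-- `theta` for a chart -/
noncomputable abbrev thetaC (B : Adeq.Alg R) : WW A (cb f a A t) B ⟶ VV f a B :=
  theta f a A (cb f a A t) (cb_comm f a A t ht) B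

end Chart

section Compat

variable (A₁ A₂ D : Type u) [CommRing A₁] [Algebra R A₁] [CommRing A₂] [Algebra R A₂]
  [CommRing D] [Algebra R D]
  (t₁ : Spec (CommRingCat.of A₁) ⟶ pullback a f) (t₂ : Spec (CommRingCat.of A₂) ⟶ pullback a f)
  (td : Spec (CommRingCat.of D) ⟶ pullback a f)
  (ht₁ : t₁ ≫ pullback.fst a f = Spec.map (CommRingCat.ofHom (algebraMap R A₁)))
  (ht₂ : t₂ ≫ pullback.fst a f = Spec.map (CommRingCat.ofHom (algebraMap R A₂)))
  (htd : td ≫ pullback.fst a f = Spec.map (CommRingCat.ofHom (algebraMap R D)))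
  (χ₁ : A₁ →ₐ[R] D) (χ₂ : A₂ →ₐ[R] D)
  (hχ₁ : td = Spec.map (CommRingCat.ofHom χ₁.toRingHom) ≫ t₁)
  (hχ₂ : td = Spec.map (CommRingCat.ofHom χ₂.toRingHom) ≫ t₂)

include hχ₁ in
theorem cb_chi : cb f a D td = Spec.map (CommRingCat.ofHom χ₁.toRingHom) ≫ cb f a A₁ t₁ := by
  rw [hχ₁]
  exact Category.assoc _ _ _

/-- `rho` for a morphism of charts -/
noncomputable abbrev rhoC (B : Adeq.Alg R) : WW D (cb f a D td) B ⟶ WW A₁ (cb f a A₁ t₁) B :=
  rho A₁ D χ₁ (cb f a A₁ t₁) (cb f a D td) (cb_chi f a A₁ D t₁ td χ₁ hχ₁) B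

theorem rhoC_thetaC (B : Adeq.Alg R) :
    rhoC f a A₁ D t₁ td χ₁ hχ₁ B ≫ thetaC f a A₁ t₁ ht₁ B = thetaC f a D td htd B := by
  apply Over.OverMorphism.ext
  refine lift_comp' f (Spec.map (tm A₁ D χ₁ B)) _ _ _ _ _ _ ?_ ?_
  · exact Spec_tm_unit A₁ D χ₁ B
  · exact rho_comm A₁ D χ₁ (cb f a A₁ t₁) (cb f a D td) (cb_chi f a A₁ D t₁ td χ₁ hχ₁) B

variable (B : Adeq.Alg R) {Zl : Scheme.{u}} (γ₁ : Zl ⟶ Spec (CommRingCat.of (CC R A₁ B)))
  (γ₂ : Zl ⟶ Spec (CommRingCat.of (CC R A₂ B)))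
  (hγ : γ₁ ≫ thetaL f a A₁ t₁ ht₁ B = γ₂ ≫ thetaL f a A₂ t₂ ht₂ B)

/-- the map `Z → Spec R ×_S T` -/
noncomputable def zX : Zl ⟶ pullback a f := γ₁ ≫ Spec.map (lR R A₁ B) ≫ t₁

theorem zX_eq_theta : zX f a A₁ t₁ B γ₁ = (γ₁ ≫ thetaL f a A₁ t₁ ht₁ B) ≫ qq a f (sm B) := by
  rw [Category.assoc, thetaL_qq]
  rfl

include hγ in
theorem zX_eq : zX f a A₁ t₁ B γ₁ = zX f a A₂ t₂ B γ₂ := by
  rw [zX_eq_theta f a A₁ t₁ ht₁ B γ₁, zX_eq_theta f a A₂ t₂ ht₂ B γ₂, hγ]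

include hγ in
theorem g_unit_eq : γ₁ ≫ Spec.map (rH R (Adeq.Alg.unit R A₁ B)) =
    γ₂ ≫ Spec.map (rH R (Adeq.Alg.unit R A₂ B)) := by
  rw [← thetaL_fst f a A₁ t₁ ht₁ B, ← thetaL_fst f a A₂ t₂ ht₂ B, ← Category.assoc, hγ,
    Category.assoc]

include ht₁ in
theorem mleft_comm :
    pullback.snd (zX f a A₁ t₁ B γ₁) td ≫ (td ≫ pullback.fst a f) =
      (pullback.fst (zX f a A₁ t₁ B γ₁) td ≫ γ₁ ≫
        Spec.map (rH R (Adeq.Alg.unit R A₁ B))) ≫ sm B := by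
  have hw := (hW_chart f a A₁ t₁ ht₁ B).w
  calc pullback.snd (zX f a A₁ t₁ B γ₁) td ≫ (td ≫ pullback.fst a f)
      = (pullback.snd (zX f a A₁ t₁ B γ₁) td ≫ td) ≫ pullback.fst a f := (Category.assoc _ _ _).symm
    _ = (pullback.fst (zX f a A₁ t₁ B γ₁) td ≫ zX f a A₁ t₁ B γ₁) ≫ pullback.fst a f := by
        rw [pullback.condition]
    _ = pullback.fst (zX f a A₁ t₁ B γ₁) td ≫ γ₁ ≫
          (Spec.map (lR R A₁ B) ≫ (t₁ ≫ pullback.fst a f)) := by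
        simp only [zX, Category.assoc]
    _ = pullback.fst (zX f a A₁ t₁ B γ₁) td ≫ γ₁ ≫
          (Spec.map (rH R (Adeq.Alg.unit R A₁ B)) ≫ sm B) := by rw [hw]
    _ = _ := by simp only [Category.assoc]

/-- `Z_k → Spec (D ⊗ B)` -/
noncomputable def mleft : pullback (zX f a A₁ t₁ B γ₁) td ⟶ Spec (CommRingCat.of (CC R D B)) :=
  (hW_chart f a D td htd B).lift (pullback.snd (zX f a A₁ t₁ B γ₁) td)
    (pullback.fst (zX f a A₁ t₁ B γ₁) td ≫ γ₁ ≫ Spec.map (rH R (Adeq.Alg.unit R A₁ B)))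
    (mleft_comm f a A₁ D t₁ td ht₁ B γ₁)

theorem mleft_lR : mleft f a A₁ D t₁ td ht₁ htd B γ₁ ≫ Spec.map (lR R D B) =
    pullback.snd (zX f a A₁ t₁ B γ₁) td :=
  (hW_chart f a D td htd B).lift_fst _ _ _

theorem mleft_unit : mleft f a A₁ D t₁ td ht₁ htd B γ₁ ≫ Spec.map (rH R (Adeq.Alg.unit R D B)) =
    pullback.fst (zX f a A₁ t₁ B γ₁) td ≫ γ₁ ≫ Spec.map (rH R (Adeq.Alg.unit R A₁ B)) :=
  (hW_chart f a D td htd B).lift_snd _ _ _

theorem mk_comm : mleft f a A₁ D t₁ td ht₁ htd B γ₁ ≫ (Spec.map (lR R D B) ≫ cb f a D td) =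
    pullback.fst (zX f a A₁ t₁ B γ₁) td ≫ (γ₁ ≫ (Spec.map (lR R A₁ B) ≫ cb f a A₁ t₁)) := by
  calc mleft f a A₁ D t₁ td ht₁ htd B γ₁ ≫ (Spec.map (lR R D B) ≫ cb f a D td)
      = (mleft f a A₁ D t₁ td ht₁ htd B γ₁ ≫ Spec.map (lR R D B)) ≫ td ≫ pullback.snd a f := by
        simp only [Category.assoc]
    _ = (pullback.snd (zX f a A₁ t₁ B γ₁) td ≫ td) ≫ pullback.snd a f := by
        rw [mleft_lR, Category.assoc]
    _ = (pullback.fst (zX f a A₁ t₁ B γ₁) td ≫ zX f a A₁ t₁ B γ₁) ≫ pullback.snd a f := by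
        rw [pullback.condition]
    _ = _ := by
        simp only [zX, Category.assoc]

include hχ₁ in
theorem key1 [Mono t₁] : mleft f a A₁ D t₁ td ht₁ htd B γ₁ ≫ Spec.map (tm A₁ D χ₁ B) =
    pullback.fst (zX f a A₁ t₁ B γ₁) td ≫ γ₁ := by
  apply (hW_chart f a A₁ t₁ ht₁ B).hom_ext
  · rw [← cancel_mono t₁]
    calc ((mleft f a A₁ D t₁ td ht₁ htd B γ₁ ≫ Spec.map (tm A₁ D χ₁ B)) ≫ Spec.map (lR R A₁ B)) ≫ t₁
        = mleft f a A₁ D t₁ td ht₁ htd B γ₁ ≫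
            (Spec.map (tm A₁ D χ₁ B) ≫ Spec.map (lR R A₁ B)) ≫ t₁ := by
          simp only [Category.assoc]
      _ = (mleft f a A₁ D t₁ td ht₁ htd B γ₁ ≫ Spec.map (lR R D B)) ≫
            (Spec.map (CommRingCat.ofHom χ₁.toRingHom) ≫ t₁) := by
          rw [Spec_tm_lR]
          simp only [Category.assoc]
      _ = pullback.snd (zX f a A₁ t₁ B γ₁) td ≫ td := by rw [mleft_lR, ← hχ₁]
      _ = pullback.fst (zX f a A₁ t₁ B γ₁) td ≫ zX f a A₁ t₁ B γ₁ := pullback.condition.symm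
      _ = _ := by simp only [zX, Category.assoc]
  · rw [Category.assoc, Spec_tm_unit, mleft_unit, Category.assoc]

include hχ₂ hγ in
theorem key2 [Mono t₂] : mleft f a A₁ D t₁ td ht₁ htd B γ₁ ≫ Spec.map (tm A₂ D χ₂ B) =
    pullback.fst (zX f a A₁ t₁ B γ₁) td ≫ γ₂ := by
  apply (hW_chart f a A₂ t₂ ht₂ B).hom_ext
  · rw [← cancel_mono t₂]
    calc ((mleft f a A₁ D t₁ td ht₁ htd B γ₁ ≫ Spec.map (tm A₂ D χ₂ B)) ≫ Spec.map (lR R A₂ B)) ≫ t₂
        = mleft f a A₁ D t₁ td ht₁ htd B γ₁ ≫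
            (Spec.map (tm A₂ D χ₂ B) ≫ Spec.map (lR R A₂ B)) ≫ t₂ := by
          simp only [Category.assoc]
      _ = (mleft f a A₁ D t₁ td ht₁ htd B γ₁ ≫ Spec.map (lR R D B)) ≫
            (Spec.map (CommRingCat.ofHom χ₂.toRingHom) ≫ t₂) := by
          rw [Spec_tm_lR]
          simp only [Category.assoc]
      _ = pullback.snd (zX f a A₁ t₁ B γ₁) td ≫ td := by rw [mleft_lR, ← hχ₂]
      _ = pullback.fst (zX f a A₁ t₁ B γ₁) td ≫ zX f a A₁ t₁ B γ₁ := pullback.condition.symm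
      _ = pullback.fst (zX f a A₁ t₁ B γ₁) td ≫ zX f a A₂ t₂ B γ₂ := by
          rw [zX_eq f a A₁ A₂ t₁ t₂ ht₁ ht₂ B γ₁ γ₂ hγ]
      _ = _ := by simp only [zX, Category.assoc]
  · rw [Category.assoc, Spec_tm_unit, mleft_unit, Category.assoc,
      g_unit_eq f a A₁ A₂ t₁ t₂ ht₁ ht₂ B γ₁ γ₂ hγ]

section OverLevel

variable {Z : Over T} (g₁ : Z ⟶ WW A₁ (cb f a A₁ t₁) B) (g₂ : Z ⟶ WW A₂ (cb f a A₂ t₂) B)
  (hg : g₁ ≫ thetaC f a A₁ t₁ ht₁ B = g₂ ≫ thetaC f a A₂ t₂ ht₂ B)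

/-- `g.left` with clean types -/
noncomputable def gL : Z.left ⟶ Spec (CommRingCat.of (CC R A₁ B)) := g₁.left

include hg in
theorem gL_eq : gL f a A₁ t₁ B g₁ ≫ thetaL f a A₁ t₁ ht₁ B =
    gL f a A₂ t₂ B g₂ ≫ thetaL f a A₂ t₂ ht₂ B :=
  congrArg (fun q => q.left) hg

/-- the open piece of `Z` lying over the chart `D` -/
noncomputable def Zk : Over T :=
  Over.mk (pullback.fst (zX f a A₁ t₁ B (gL f a A₁ t₁ B g₁)) td ≫ Z.hom)

/-- the inclusion `Z_k → Z` -/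
noncomputable def ek : Zk f a A₁ D t₁ td B g₁ ⟶ Z :=
  Over.homMk (pullback.fst (zX f a A₁ t₁ B (gL f a A₁ t₁ B g₁)) td) rfl

theorem gL_hom : gL f a A₁ t₁ B g₁ ≫ (Spec.map (lR R A₁ B) ≫ cb f a A₁ t₁) = Z.hom := Over.w g₁

/-- `Z_k → Spec (D ⊗ B)` over `T` -/
noncomputable def mk : Zk f a A₁ D t₁ td B g₁ ⟶ WW D (cb f a D td) B :=
  Over.homMk (mleft f a A₁ D t₁ td ht₁ htd B (gL f a A₁ t₁ B g₁))
    ((mk_comm f a A₁ D t₁ td ht₁ htd B (gL f a A₁ t₁ B g₁)).trans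
      (congrArg (fun q => pullback.fst (zX f a A₁ t₁ B (gL f a A₁ t₁ B g₁)) td ≫ q)
        (gL_hom f a A₁ t₁ B g₁)))

theorem mk_rho₁ [Mono t₁] : mk f a A₁ D t₁ td ht₁ htd B g₁ ≫ rhoC f a A₁ D t₁ td χ₁ hχ₁ B =
    ek f a A₁ D t₁ td B g₁ ≫ g₁ := by
  apply Over.OverMorphism.ext
  exact key1 f a A₁ D t₁ td ht₁ htd χ₁ hχ₁ B (gL f a A₁ t₁ B g₁)

include hg in
theorem mk_rho₂ [Mono t₂] : mk f a A₁ D t₁ td ht₁ htd B g₁ ≫ rhoC f a A₂ D t₂ td χ₂ hχ₂ B =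
    ek f a A₁ D t₁ td B g₁ ≫ g₂ := by
  apply Over.OverMorphism.ext
  exact key2 f a A₁ A₂ D t₁ t₂ td ht₁ ht₂ htd χ₂ hχ₂ B (gL f a A₁ t₁ B g₁) (gL f a A₂ t₂ B g₂)
    (gL_eq f a A₁ A₂ t₁ t₂ ht₁ ht₂ B g₁ g₂ hg)

include hg htd in
theorem compat_one [Mono t₁] [Mono t₂] (y₁ : M.val.obj (op (WW A₁ (cb f a A₁ t₁) B)))
    (y₂ : M.val.obj (op (WW A₂ (cb f a A₂ t₂) B)))
    (hy : M.val.map (rhoC f a A₁ D t₁ td χ₁ hχ₁ B).op y₁ =
      M.val.map (rhoC f a A₂ D t₂ td χ₂ hχ₂ B).op y₂) :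
    M.val.map (ek f a A₁ D t₁ td B g₁).op (M.val.map g₁.op y₁) =
      M.val.map (ek f a A₁ D t₁ td B g₁).op (M.val.map g₂.op y₂) := by
  rw [map_map_apply, map_map_apply, ← mk_rho₁ f a A₁ D t₁ td ht₁ htd χ₁ hχ₁ B g₁,
    ← mk_rho₂ f a A₁ A₂ D t₁ t₂ td ht₁ ht₂ htd χ₂ hχ₂ B g₁ g₂ hg, ← map_map_apply,
    ← map_map_apply, hy]

end OverLevel

end Compat

end Sch

end Groth.Agent.Helper1.AdqP
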