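import Mathlib
import Groth.Prelude.Def_Adeq2
import Groth.Agent.Lib.Helper1.AdqH2
import Groth.Agent.Lib.Helper1.AdqP4

set_option autoImplicit false
set_option linter.unusedSectionVars false
set_option linter.unusedVariables false
set_option maxHeartbeats 400000
universe u
open CategoryTheory CategoryTheory.Limits AlgebraicGeometry Opposite TensorProduct

namespace Groth.Agent.Helper1.AdqH

open Groth.Agent.Helper1.Adq Groth.Agent.Helper1.AdqS Groth.Agent.Lib.Helper6.Adeq
  Groth.Agent.Helper1.SigSh Groth.Agent.Helper1.AdqP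

variable (K : Precoverage Scheme.{u}) [BigSite.OSh K] {S : Scheme.{u}}

theorem presieve_isSheaf (M : BigSite.Mod K S) :
    Presieve.IsSheaf (QuotSh.J K S) (M.val.presheaf ⋙ forget Ab) :=
  (isSheaf_iff_isSheaf_of_type _ _).1
    ((Presheaf.isSheaf_iff_isSheaf_forget _ _ (forget _)).1 M.isSheaf)

/-- sections over an empty scheme are unique -/
theorem subsingleton_sect_of_isEmpty (hK : Scheme.zariskiPrecoverage ≤ K) (M : BigSite.Mod K S)
    (Z : Over S) [IsEmpty Z.left] : Subsingleton ((M.val.presheaf ⋙ forget Ab).obj (op Z)) := by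
  have hbot : (⊥ : Sieve Z) ∈ QuotSh.J K S Z := by
    change _ ∈ (K.toGrothendieck.over S) _
    rw [GrothendieckTopology.mem_over_iff]
    have : Sieve.overEquiv Z (⊥ : Sieve Z) = ⊥ := by
      ext Y f
      rw [Sieve.overEquiv_iff]
      exact Iff.rfl
    rw [this, ← Sieve.generate_bot]
    exact Precoverage.generate_mem_toGrothendieck (hK _ (Scheme.bot_mem_precoverage _ Z.left))
  have hsep := (presieve_isSheaf K M).isSeparated
  exact ⟨fun x y => (hsep _ hbot).ext (fun V i hi => hi.elim)⟩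

/-- gluing sections over a disjoint open cover -/
theorem glue_disjoint (hK : Scheme.zariskiPrecoverage ≤ K) (M : BigSite.Mod K S) {V : Over S}
    {κ : Type*} (W : κ → Over S) (n : ∀ k, W k ⟶ V)
    (hopen : ∀ k, IsOpenImmersion (n k).left)
    (hsurj : ∀ v : V.left, ∃ k, v ∈ Set.range (n k).left)
    (hdisj : ∀ k l, k ≠ l → Disjoint (Set.range (n k).left) (Set.range (n l).left))
    (t : ∀ k, (M.val.presheaf ⋙ forget Ab).obj (op (W k))) :
    ∃ t' : (M.val.presheaf ⋙ forget Ab).obj (op V),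
      ∀ k, (M.val.presheaf ⋙ forget Ab).map (n k).op t' = t k := by
  have hcov := ofArrows_mem_J_of_open K hK V W n hopen hsurj
  have h1 : Presieve.IsSheafFor (M.val.presheaf ⋙ forget Ab) (Presieve.ofArrows W n) :=
    (Presieve.isSheafFor_iff_generate _).2 (presieve_isSheaf K M _ hcov)
  rw [Presieve.isSheafFor_arrows_iff] at h1
  obtain ⟨t', ht', -⟩ := h1 t (by
    intro i j Z gi gj hg
    by_cases h : i = j
    · subst h
      haveI : Mono (n i).left := inferInstance
      haveI : Mono (n i) := Over.mono_of_mono_left _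
      rw [(cancel_mono (n i)).1 hg]
    · haveI : IsEmpty Z.left := by
        refine ⟨fun z => ?_⟩
        have h2 : (n i).left (gi.left z) = (n j).left (gj.left z) := by
          have h3 := congrArg (fun q => q.left z) hg
          exact h3
        exact (hdisj i j h).le_bot ⟨⟨gi.left z, rfl⟩, ⟨gj.left z, h2.symm⟩⟩
      exact (subsingleton_sect_of_isEmpty K hK M Z).elim _ _)
  exact ⟨t', ht'⟩

/-- pointwise affine refinement of a covering sieve -/
theorem exists_affine_chart_in_sieve {R : CommRingCat.{u}} (b : Spec R ⟶ S) (T : Sieve (Over.mk b))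
    (hT : T ∈ QuotSh.J Scheme.fppfPrecoverage S (Over.mk b)) (x : Spec R) :
    ∃ (A : CommRingCat.{u}) (ψ : R ⟶ A), Flat (Spec.map ψ) ∧
      LocallyOfFinitePresentation (Spec.map ψ) ∧ x ∈ Set.range (Spec.map ψ) ∧
      T.arrows (Over.homMk (Spec.map ψ) rfl : Over.mk (Spec.map ψ ≫ b) ⟶ Over.mk b) := by
  have hT' : T ∈ (Scheme.fppfTopology.over S) (Over.mk b) := hT
  rw [GrothendieckTopology.mem_over_iff,
    Precoverage.mem_toGrothendieck_iff_of_isStableUnderComposition] at hT'
  obtain ⟨P₀, hP₀, hle⟩ := hT'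
  have hP₀' : P₀ ∈ Scheme.precoverage (@Flat ⊓ @LocallyOfFinitePresentation) (Spec R) := hP₀
  have hsurj := hP₀'.1
  rw [Presieve.mem_comap_jointlySurjectivePrecoverage_iff] at hsurj
  obtain ⟨Y, f, hf, y, hy⟩ := hsurj x
  have hfP : (@Flat ⊓ @LocallyOfFinitePresentation) f := hP₀'.2 hf
  let 𝒰 := Y.affineOpenCover
  obtain ⟨w, hw⟩ := 𝒰.covers y
  let j := 𝒰.idx y
  refine ⟨𝒰.X j, Spec.preimage (𝒰.f j ≫ f), ?_, ?_, ?_, ?_⟩
  · rw [Spec.map_preimage]
    haveI := hfP.1
    infer_instance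
  · rw [Spec.map_preimage]
    haveI := hfP.2
    infer_instance
  · rw [Spec.map_preimage]
    refine ⟨w, ?_⟩
    rw [Scheme.Hom.comp_apply, hw]
    exact hy
  · have h1 := hle _ _ hf
    have h2 : (Sieve.overEquiv (Over.mk b) T).arrows (𝒰.f j ≫ f) :=
      (Sieve.overEquiv (Over.mk b) T).downward_closed h1 _
    rw [Sieve.overEquiv_iff] at h2
    have key : ∀ (g : Spec (𝒰.X j) ⟶ Spec R), g = 𝒰.f j ≫ f →
        T.arrows (Over.homMk g rfl : Over.mk (g ≫ b) ⟶ Over.mk b) := by
      rintro g rfl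
      exact h2
    exact key _ (Spec.map_preimage _)

/-- finite affine refinement of a covering sieve of an affine object -/
theorem exists_finite_affine_refinement_sieve {R : CommRingCat.{u}} (b : Spec R ⟶ S)
    (T : Sieve (Over.mk b)) (hT : T ∈ QuotSh.J Scheme.fppfPrecoverage S (Over.mk b)) :
    ∃ (κ : Type u) (_ : Fintype κ) (A : κ → CommRingCat.{u}) (ψ : ∀ k, R ⟶ A k),
      (∀ k, Flat (Spec.map (ψ k))) ∧ (∀ k, LocallyOfFinitePresentation (Spec.map (ψ k))) ∧
      (∀ x : Spec R, ∃ k, x ∈ Set.range (Spec.map (ψ k))) ∧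
      ∀ k, T.arrows (Over.homMk (Spec.map (ψ k)) rfl : Over.mk (Spec.map (ψ k) ≫ b) ⟶ Over.mk b) := by
  choose A ψ hfl hfp hx hTk using exists_affine_chart_in_sieve b T hT
  have hUo : ∀ x : Spec R, IsOpen (Set.range (Spec.map (ψ x))) := fun x => by
    haveI := hfl x
    haveI := hfp x
    exact (Spec.map (ψ x)).isOpenMap.isOpen_range
  obtain ⟨t, ht⟩ := isCompact_univ.elim_finite_subcover
    (fun x : Spec R => Set.range (Spec.map (ψ x))) hUo
    (fun x _ => Set.mem_iUnion.2 ⟨x, hx x⟩)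
  refine ⟨t, inferInstance, fun k => A k.1, fun k => ψ k.1, fun k => hfl k.1, fun k => hfp k.1,
    fun x => ?_, fun k => hTk k.1⟩
  have h1 := ht (Set.mem_univ x)
  rw [Set.mem_iUnion₂] at h1
  obtain ⟨x', hx't, hx'⟩ := h1
  exact ⟨⟨x', hx't⟩, hx'⟩

theorem singleton_mem_J_fppf {U V : Over S} (w : V ⟶ U) (h1 : Flat w.left)
    (h2 : Surjective w.left) (h3 : LocallyOfFinitePresentation w.left) :
    Sieve.generate (Presieve.singleton w) ∈ QuotSh.J Scheme.fppfPrecoverage S U := by
  have e : Sieve.generate (Presieve.singleton w) =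
      Sieve.ofArrows (fun _ : PUnit.{1} => V) (fun _ => w) := by
    rw [Sieve.ofArrows, Presieve.ofArrows_pUnit]
  rw [e]
  change _ ∈ (Scheme.fppfTopology.over S) _
  rw [GrothendieckTopology.mem_over_iff, Sieve.overEquiv_ofArrows]
  apply Precoverage.generate_mem_toGrothendieck
  rw [Presieve.ofArrows_pUnit]
  exact Scheme.Hom.singleton_mem_fppfPrecoverage _

section Prod

variable {R : CommRingCat.{u}} {κ : Type u} [Finite κ] (A : κ → Type u) [∀ k, CommRing (A k)]
  [∀ k, Algebra R (A k)]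

theorem sigmaDesc_eq :
    Sigma.desc (fun k => Spec.map (CommRingCat.ofHom (algebraMap R (A k)))) =
      sigmaSpec (fun k => CommRingCat.of (A k)) ≫
        Spec.map (CommRingCat.ofHom (algebraMap R (Π k, A k))) := by
  apply Sigma.hom_ext
  intro k
  rw [Sigma.ι_desc, ι_sigmaSpec_assoc, ← Spec.map_comp]
  rfl

theorem specMap_pi_eq :
    Spec.map (CommRingCat.ofHom (algebraMap R (Π k, A k))) =
      inv (sigmaSpec (fun k => CommRingCat.of (A k))) ≫
        Sigma.desc (fun k => Spec.map (CommRingCat.ofHom (algebraMap R (A k)))) := by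
  rw [sigmaDesc_eq, IsIso.inv_hom_id_assoc]

theorem flat_pi (hfl : ∀ k, Flat (Spec.map (CommRingCat.ofHom (algebraMap R (A k))))) :
    Flat (Spec.map (CommRingCat.ofHom (algebraMap R (Π k, A k)))) := by
  rw [specMap_pi_eq]
  haveI : Flat (Sigma.desc (fun k => Spec.map (CommRingCat.ofHom (algebraMap R (A k))))) :=
    IsZariskiLocalAtSource.sigmaDesc hfl
  infer_instance

theorem lfp_pi
    (hfp : ∀ k, LocallyOfFinitePresentation (Spec.map (CommRingCat.ofHom (algebraMap R (A k))))) :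
    LocallyOfFinitePresentation (Spec.map (CommRingCat.ofHom (algebraMap R (Π k, A k)))) := by
  rw [specMap_pi_eq]
  haveI : LocallyOfFinitePresentation
      (Sigma.desc (fun k => Spec.map (CommRingCat.ofHom (algebraMap R (A k))))) :=
    IsZariskiLocalAtSource.sigmaDesc hfp
  infer_instance

theorem evalMap_comp (k : κ) :
    Spec.map (CommRingCat.ofHom (Pi.evalRingHom A k)) ≫
      Spec.map (CommRingCat.ofHom (algebraMap R (Π k, A k))) =
      Spec.map (CommRingCat.ofHom (algebraMap R (A k))) := by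
  rw [← Spec.map_comp]
  rfl

theorem surjective_pi
    (hs : ∀ x : Spec R, ∃ k, x ∈ Set.range (Spec.map (CommRingCat.ofHom (algebraMap R (A k))))) :
    Surjective (Spec.map (CommRingCat.ofHom (algebraMap R (Π k, A k)))) := by
  refine ⟨fun x => ?_⟩
  obtain ⟨k, y, hy⟩ := hs x
  refine ⟨Spec.map (CommRingCat.ofHom (Pi.evalRingHom A k)) y, ?_⟩
  rw [← Scheme.Hom.comp_apply, evalMap_comp]
  exact hy

theorem faithfullyFlat_pi (hfl : ∀ k, Flat (Spec.map (CommRingCat.ofHom (algebraMap R (A k)))))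
    (hs : ∀ x : Spec R, ∃ k, x ∈ Set.range (Spec.map (CommRingCat.ofHom (algebraMap R (A k))))) :
    Module.FaithfullyFlat R (Π k, A k) := by
  have h1 := (flat_and_surjective_SpecMap_iff (CommRingCat.ofHom (algebraMap R (Π k, A k)))).1
    ⟨flat_pi A hfl, surjective_pi A hs⟩
  exact RingHom.faithfullyFlat_algebraMap_iff.1 h1

theorem disjoint_eval (k l : κ) (h : k ≠ l) :
    Disjoint (Set.range (Spec.map (CommRingCat.ofHom (Pi.evalRingHom A k))))
      (Set.range (Spec.map (CommRingCat.ofHom (Pi.evalRingHom A l)))) := by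
  classical
  refine Set.disjoint_iff_forall_ne.mpr ?_
  rintro _ ⟨x, rfl⟩ _ ⟨y, rfl⟩ e
  have h1 : (Pi.single l 1 : Π k, A k) k ∈ x.asIdeal := by
    rw [Pi.single_eq_of_ne h]
    exact x.asIdeal.zero_mem
  have h2 : (Pi.single l 1 : Π k, A k) l ∈ y.asIdeal :=
    (PrimeSpectrum.ext_iff.mp e).le (x := (Pi.single l 1 : Π k, A k)) h1
  rw [Pi.single_eq_same] at h2
  exact y.2.ne_top ((Ideal.eq_top_iff_one _).2 h2)

theorem surj_eval (v : Spec (CommRingCat.of (Π k, A k))) :
    ∃ k, v ∈ Set.range (Spec.map (CommRingCat.ofHom (Pi.evalRingHom A k))) := by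
  obtain ⟨z, hz⟩ := (sigmaSpec (fun k => CommRingCat.of (A k))).surjective v
  obtain ⟨k, y, hy⟩ := (sigmaOpenCover (fun k => Spec (CommRingCat.of (A k)))).exists_eq z
  refine ⟨k, y, ?_⟩
  have h1 : Sigma.ι (fun k => Spec (CommRingCat.of (A k))) k y = z := hy
  rw [← hz, ← h1, ← Scheme.Hom.comp_apply, ι_sigmaSpec]

end Prod

theorem sieve_congr {D : Type*} [Category D] {X Y : D} (T : Sieve X) {f g : Y ⟶ X} (h : f = g)
    (hf : T.arrows f) : T.arrows g := h ▸ hf

theorem tr_symm_tr {D : Type*} [Category D] {T Y : D} {f f' : Y ⟶ T} (h : f = f') :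
    tr h.symm ≫ tr h = 𝟙 (Over.mk f') := by
  subst h
  apply Over.OverMorphism.ext
  exact Category.id_comp _

theorem surj_of_iso {M N : BigSite.Mod K S} (g : M ⟶ N) {U V : Over S} (e₁ : U ⟶ V) (e₂ : V ⟶ U)
    (he : e₂ ≫ e₁ = 𝟙 V) (hU : Function.Surjective (g.val.app (op U))) :
    Function.Surjective (g.val.app (op V)) := by
  intro s
  obtain ⟨t₁, ht₁⟩ := hU (N.val.map e₁.op s)
  refine ⟨M.val.map e₂.op t₁, ?_⟩
  refine (PresheafOfModules.naturality_apply g.val e₂.op t₁).trans ?_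
  rw [ht₁, ← PresheafOfModules.map_comp_apply, ← op_comp, he, op_id, PresheafOfModules.map_id]
  rfl

section Lift

variable (C : ShortComplex (BigSite.Mod Scheme.fppfPrecoverage S)) (hC : C.ShortExact)

include hC in
theorem exists_lift_base
    (hF : ∀ (R : CommRingCat.{u}) (a : Spec R ⟶ S),
      Adeq.adequate R ((Adeq.toMVF Scheme.fppfPrecoverage a).obj C.X₁))
    {R : CommRingCat.{u}} (a : Spec R ⟶ S)
    (s : ((Adeq.toMVF Scheme.fppfPrecoverage a).obj C.X₃).obj (Adeq.pt (Adeq.algOf R R))) :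
    ∃ t : ((Adeq.toMVF Scheme.fppfPrecoverage a).obj C.X₂).obj (Adeq.pt (Adeq.algOf R R)),
      ((Adeq.toMVF Scheme.fppfPrecoverage a).map C.g).app (Adeq.pt (Adeq.algOf R R)) t = s := by
  haveI := hC.epi_g
  let U0 : Over S := (Adeq.specOver a).obj (op (Adeq.algOf R R))
  let b : Spec (CommRingCat.of R) ⟶ S := U0.hom
  have hT := imageSieve_mem_of_epi Scheme.fppfPrecoverage C.g U0 s
  obtain ⟨κ, _, A, ψ, hfl, hfp, hsurj, hTk⟩ :=
    exists_finite_affine_refinement_sieve (R := CommRingCat.of R) b _ hT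
  letI alg : ∀ k, Algebra R (A k) := fun k => (ψ k).hom.toAlgebra
  let F₂ := (Adeq.toMVF Scheme.fppfPrecoverage a).obj C.X₂
  let F₃ := (Adeq.toMVF Scheme.fppfPrecoverage a).obj C.X₃
  let gα : F₂ ⟶ F₃ := (Adeq.toMVF Scheme.fppfPrecoverage a).map C.g
  -- the charts and their lifts
  have hlift : ∀ k, ∃ t : F₂.obj (Adeq.pt (Adeq.algOf R (A k))),
      gα.app (Adeq.pt (Adeq.algOf R (A k))) t = mvfMap F₃ (i0 R (A k)) s := by
    intro k
    have hb : Spec.map (CommRingCat.ofHom (algebraMap R (A k))) ≫ a = Spec.map (ψ k) ≫ b := by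
      change _ = Spec.map (ψ k) ≫ Spec.map (CommRingCat.ofHom (algebraMap R R)) ≫ a
      rw [Algebra.algebraMap_self, CommRingCat.ofHom_id, Spec.map_id, Category.id_comp]
      rfl
    have h1 := (Presheaf.imageSieve ((BigSite.toAbMod Scheme.fppfPrecoverage S).map C.g).hom
      (U := U0) s).downward_closed (hTk k) (tr hb)
    have h2 : tr hb ≫ (Over.homMk (Spec.map (ψ k)) rfl : Over.mk (Spec.map (ψ k) ≫ b) ⟶ Over.mk b) =
        (Adeq.specOver a).map (i0 R (A k)).op := by
      apply Over.OverMorphism.ext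
      change 𝟙 _ ≫ Spec.map (ψ k) = _
      rw [Category.id_comp]
      rfl
    obtain ⟨t, ht⟩ := sieve_congr _ h2 h1
    exact ⟨t, ht⟩
  choose tk htk using hlift
  -- the product cover
  let Bp : Type u := Π k, A k
  let ev : ∀ k, P1 R Bp ⟶ Adeq.algOf R (A k) := fun k => CommAlgCat.ofHom (Pi.evalAlgHom R (fun k => A k) k)
  let U1 : Over S := (Adeq.specOver a).obj (op (P1 R Bp))
  let W : κ → Over S := fun k => (Adeq.specOver a).obj (op (Adeq.algOf R (A k)))
  let n : ∀ k, W k ⟶ U1 := fun k => (Adeq.specOver a).map (ev k).op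
  have hnleft : ∀ k, (n k).left = Spec.map (CommRingCat.ofHom (Pi.evalRingHom (fun k => A k) k)) :=
    fun k => rfl
  have hfl' : ∀ k, Flat (Spec.map (CommRingCat.ofHom (algebraMap R (A k)))) := hfl
  have hfp' : ∀ k, LocallyOfFinitePresentation (Spec.map (CommRingCat.ofHom (algebraMap R (A k)))) :=
    hfp
  have hsurj' : ∀ x : Spec R, ∃ k,
      x ∈ Set.range (Spec.map (CommRingCat.ofHom (algebraMap R (A k)))) := hsurj
  have hopen : ∀ k, IsOpenImmersion (n k).left := fun k => by
    change IsOpenImmersion (Spec.map (CommRingCat.ofHom (Pi.evalRingHom (fun k => (A k : Type u)) k)))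
    infer_instance
  have hcovW : ∀ v : U1.left, ∃ k, v ∈ Set.range (n k).left := fun v => surj_eval (fun k => A k) v
  have hdisj : ∀ k l, k ≠ l → Disjoint (Set.range (n k).left) (Set.range (n l).left) :=
    fun k l h => disjoint_eval (fun k => A k) k l h
  obtain ⟨t', ht'⟩ := glue_disjoint Scheme.fppfPrecoverage Scheme.zariskiPrecoverage_le_fppfPrecoverage
    C.X₂ W n hopen hcovW hdisj tk
  let t'' : F₂.obj (Adeq.pt (P1 R Bp)) := t'
  have ht'' : ∀ k, mvfMap F₂ (ev k) t'' = tk k := ht'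
  haveI : Module.FaithfullyFlat R Bp := faithfullyFlat_pi (fun k => A k) hfl' hsurj'
  have hcov : Sieve.generate (Presieve.singleton ((Adeq.specOver a).map (i0 R Bp).op)) ∈
      QuotSh.J Scheme.fppfPrecoverage S ((Adeq.specOver a).obj (op (Adeq.algOf R R))) :=
    singleton_mem_J_fppf _ (flat_pi (fun k => A k) hfl') (surjective_pi (fun k => A k) hsurj')
      (lfp_pi (fun k => A k) hfp')
  have hg : gα.app (Adeq.pt (P1 R Bp)) t'' = mvfMap F₃ (i0 R Bp) s := by
    have hsep := (presieve_isSheaf Scheme.fppfPrecoverage C.X₃).isSeparated _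
      (ofArrows_mem_J_of_open Scheme.fppfPrecoverage Scheme.zariskiPrecoverage_le_fppfPrecoverage
        U1 W n hopen hcovW)
    refine hsep.ext (fun Y f hf => ?_)
    obtain ⟨Z, h, g', ⟨k⟩, rfl⟩ := hf
    have key : mvfMap F₃ (ev k) (gα.app (Adeq.pt (P1 R Bp)) t'') =
        mvfMap F₃ (ev k) (mvfMap F₃ (i0 R Bp) s) := by
      rw [← mvfMap_nat gα, ht'', htk, ← mvfMap_comp]
      exact mvfMap_congr R F₃ (hom_from_base_ext _ _) s
    rw [op_comp, CategoryTheory.Functor.map_comp_apply, CategoryTheory.Functor.map_comp_apply]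
    congr 1
  exact lift_of_cover Scheme.fppfPrecoverage C hC a Bp (hF R a) hcov s t'' hg

include hC in
theorem surj_sect
    (hF : ∀ (R : CommRingCat.{u}) (a : Spec R ⟶ S),
      Adeq.adequate R ((Adeq.toMVF Scheme.fppfPrecoverage a).obj C.X₁))
    {R : CommRingCat.{u}} (a : Spec R ⟶ S) (D : Adeq.Alg R) :
    Function.Surjective
      (((Adeq.toMVF Scheme.fppfPrecoverage a).map C.g).app (Adeq.pt D)) := by
  let a' : Spec (CommRingCat.of D) ⟶ S := Spec.map (CommRingCat.ofHom (algebraMap R D)) ≫ a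
  have h : Spec.map (CommRingCat.ofHom (algebraMap D D)) ≫ a' = a' := by
    rw [Algebra.algebraMap_self, CommRingCat.ofHom_id, Spec.map_id, Category.id_comp]
  have hU : Function.Surjective (C.g.val.app (op (Over.mk (Spec.map (CommRingCat.ofHom (algebraMap D D)) ≫ a')))) :=
    fun s => exists_lift_base C hC hF a' s
  change Function.Surjective (C.g.val.app (op (Over.mk a')))
  have he : tr h.symm ≫ tr h = 𝟙 (Over.mk a') := tr_symm_tr h
  exact surj_of_iso Scheme.fppfPrecoverage C.g (tr h) (tr h.symm) he hU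

end Lift

end Groth.Agent.Helper1.AdqH
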