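import Mathlib
import Groth.Prelude.Def_Adeq2
import Groth.Agent.Lib.Helper1.AdqH3

set_option autoImplicit false
set_option linter.unusedSectionVars false
set_option linter.unusedVariables false
set_option maxHeartbeats 400000
universe u
open CategoryTheory CategoryTheory.Limits AlgebraicGeometry Opposite TensorProduct

namespace Groth.Agent.Helper1.AdqH

open Groth.Agent.Helper1.Adq Groth.Agent.Helper1.AdqS Groth.Agent.Lib.Helper6.Adeq
  Groth.Agent.Helper1.SigSh Groth.Agent.Helper1.AdqP

section MVFlevel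

variable {A : Type u} [CommRing A]

/-- a pointwise short exact sequence of module valued functors is short exact -/
theorem shortExact_of_pointwise (T : ShortComplex (Adeq.MVF A))
    (hinj : ∀ B : Adeq.Alg A, Function.Injective (T.f.app (Adeq.pt B)))
    (hsurj : ∀ B : Adeq.Alg A, Function.Surjective (T.g.app (Adeq.pt B)))
    (hex : ∀ (B : Adeq.Alg A) (y : T.X₂.obj (Adeq.pt B)), T.g.app (Adeq.pt B) y = 0 →
      ∃ x : T.X₁.obj (Adeq.pt B), T.f.app (Adeq.pt B) x = y) : T.ShortExact := by
  haveI : Mono T.f := PresheafOfModules.mono_of_injective (fun X => hinj X.unop.unop)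
  haveI : Epi T.g := PresheafOfModules.epi_of_surjective (fun X => hsurj X.unop.unop)
  refine { exact := ?_ }
  rw [T.exact_iff_epi_kernel_lift]
  apply PresheafOfModules.epi_of_surjective
  intro X k
  have h0 : T.g.app X ((kernel.ι T.g).app X k) = 0 :=
    congrArg (fun t => t.app X k) (kernel.condition T.g)
  obtain ⟨x, hx⟩ := hex X.unop.unop _ h0
  refine ⟨x, ?_⟩
  apply gen_kernel_app_injective (kernel.ι T.g) X
  have h1 : (kernel.lift T.g T.f T.zero ≫ kernel.ι T.g).app X x = T.f.app X x :=
    congrArg (fun t => t.app X x) (kernel.lift_ι T.g T.f T.zero)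
  exact h1.trans hx

/-- a pointwise cokernel of a map of adequate functors is adequate -/
theorem adequate_of_pointwise_cokernel {F G H : Adeq.MVF A} (α : F ⟶ G) (β : G ⟶ H)
    (w : α ≫ β = 0) (hF : Adeq.adequate A F) (hG : Adeq.adequate A G)
    (hsurj : ∀ B : Adeq.Alg A, Function.Surjective (β.app (Adeq.pt B)))
    (hex : ∀ (B : Adeq.Alg A) (y : G.obj (Adeq.pt B)), β.app (Adeq.pt B) y = 0 →
      ∃ x : F.obj (Adeq.pt B), α.app (Adeq.pt B) x = y) : Adeq.adequate A H := by
  let d : cokernel α ⟶ H := cokernel.desc α β w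
  have hd : ∀ (X : (Adeq.Alg A)ᵒᵖᵒᵖ) (y : G.obj X),
      d.app X ((cokernel.π α).app X y) = β.app X y := fun X y =>
    congrArg (fun t => t.app X y) (cokernel.π_desc α β w)
  haveI : Mono d := by
    apply PresheafOfModules.mono_of_injective
    intro X
    rw [injective_iff_map_eq_zero]
    intro q hq
    obtain ⟨y, rfl⟩ := PresheafOfModules.surjective_of_epi (cokernel.π α) X q
    rw [hd] at hq
    obtain ⟨x, rfl⟩ := hex X.unop.unop y hq
    exact congrArg (fun t => t.app X x) (cokernel.condition α)
  haveI : Epi d := by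
    apply PresheafOfModules.epi_of_surjective
    intro X h
    obtain ⟨y, rfl⟩ := hsurj X.unop.unop h
    exact ⟨(cokernel.π α).app X y, hd X y⟩
  haveI : IsIso d := isIso_of_mono_of_epi d
  exact (Adeq.adequate A).prop_of_iso (asIso d) (adequate_cokernel α hF hG)

end MVFlevel

section ModLevel

variable {S : Scheme.{u}} (C : ShortComplex (BigSite.Mod Scheme.fppfPrecoverage S)) (hC : C.ShortExact)

theorem adequateMod_of_forall (M : BigSite.Mod Scheme.fppfPrecoverage S)
    (h : ∀ (R : CommRingCat.{u}) (a : Spec R ⟶ S),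
      Adeq.adequate R ((Adeq.toMVF Scheme.fppfPrecoverage a).obj M)) :
    Adeq.adequateMod Scheme.fppfPrecoverage S M := by
  refine ⟨S.affineOpenCover.I₀, S.affineOpenCover.X, S.affineOpenCover.f, ?_, fun j => h _ _⟩
  apply Scheme.zariskiPrecoverage_le_fppfPrecoverage
  rw [Scheme.ofArrows_mem_precoverage_iff]
  exact ⟨fun x => ⟨S.affineOpenCover.idx x, S.affineOpenCover.covers x⟩,
    fun j => inferInstance⟩

include hC in
theorem toMVF_pointwise (h₁ : Adeq.adequateMod Scheme.fppfPrecoverage S C.X₁)
    {R : CommRingCat.{u}} (a : Spec R ⟶ S) :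
    (∀ B : Adeq.Alg R, Function.Injective
      (((Adeq.toMVF Scheme.fppfPrecoverage a).map C.f).app (Adeq.pt B))) ∧
    (∀ B : Adeq.Alg R, Function.Surjective
      (((Adeq.toMVF Scheme.fppfPrecoverage a).map C.g).app (Adeq.pt B))) ∧
    (∀ (B : Adeq.Alg R) (y : ((Adeq.toMVF Scheme.fppfPrecoverage a).obj C.X₂).obj (Adeq.pt B)),
      ((Adeq.toMVF Scheme.fppfPrecoverage a).map C.g).app (Adeq.pt B) y = 0 →
      ∃ x : ((Adeq.toMVF Scheme.fppfPrecoverage a).obj C.X₁).obj (Adeq.pt B),
        ((Adeq.toMVF Scheme.fppfPrecoverage a).map C.f).app (Adeq.pt B) x = y) := by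
  haveI := hC.mono_f
  refine ⟨fun B => mono_sect_injective Scheme.fppfPrecoverage C.f _,
    fun B => surj_sect C hC (adequate_toMVF_fppf S C.X₁ h₁) a B,
    fun B y hy => shortExact_sect_exact Scheme.fppfPrecoverage C hC _ y hy⟩

include hC in
/-- **extensions of adequate modules are adequate** -/
theorem adequateMod_ext (h₁ : Adeq.adequateMod Scheme.fppfPrecoverage S C.X₁)
    (h₃ : Adeq.adequateMod Scheme.fppfPrecoverage S C.X₃) :
    Adeq.adequateMod Scheme.fppfPrecoverage S C.X₂ := by
  apply adequateMod_of_forall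
  intro R a
  obtain ⟨hinj, hsurj, hex⟩ := toMVF_pointwise C hC h₁ a
  let T : ShortComplex (Adeq.MVF R) :=
    ShortComplex.mk ((Adeq.toMVF Scheme.fppfPrecoverage a).map C.f)
      ((Adeq.toMVF Scheme.fppfPrecoverage a).map C.g)
      (by rw [← Functor.map_comp, C.zero, Functor.map_zero])
  exact adequate_of_shortExact T (shortExact_of_pointwise T hinj hsurj hex)
    (adequate_toMVF_fppf S C.X₁ h₁ R a) (adequate_toMVF_fppf S C.X₃ h₃ R a)

include hC in
/-- the cokernel term of a short exact sequence with adequate kernel and middle terms -/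
theorem adequateMod_coker (h₁ : Adeq.adequateMod Scheme.fppfPrecoverage S C.X₁)
    (h₂ : Adeq.adequateMod Scheme.fppfPrecoverage S C.X₂) :
    Adeq.adequateMod Scheme.fppfPrecoverage S C.X₃ := by
  apply adequateMod_of_forall
  intro R a
  obtain ⟨hinj, hsurj, hex⟩ := toMVF_pointwise C hC h₁ a
  exact adequate_of_pointwise_cokernel ((Adeq.toMVF Scheme.fppfPrecoverage a).map C.f)
    ((Adeq.toMVF Scheme.fppfPrecoverage a).map C.g)
    (by rw [← Functor.map_comp, C.zero, Functor.map_zero])
    (adequate_toMVF_fppf S C.X₁ h₁ R a) (adequate_toMVF_fppf S C.X₂ h₂ R a) hsurj hex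

/-- **cokernels of maps of adequate modules are adequate** -/
theorem adequateMod_cokernel {M N : BigSite.Mod Scheme.fppfPrecoverage S} (φ : M ⟶ N)
    (hM : Adeq.adequateMod Scheme.fppfPrecoverage S M)
    (hN : Adeq.adequateMod Scheme.fppfPrecoverage S N) :
    Adeq.adequateMod Scheme.fppfPrecoverage S (cokernel φ) := by
  -- the coimage
  let C1 : ShortComplex (BigSite.Mod Scheme.fppfPrecoverage S) :=
    ShortComplex.mk (kernel.ι φ) (cokernel.π (kernel.ι φ)) (cokernel.condition _)
  have hC1 : C1.ShortExact :=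
    { exact := C1.exact_of_g_is_cokernel (cokernelIsCokernel (kernel.ι φ))
      mono_f := inferInstanceAs (Mono (kernel.ι φ))
      epi_g := inferInstanceAs (Epi (cokernel.π (kernel.ι φ))) }
  have hI : Adeq.adequateMod Scheme.fppfPrecoverage S (Abelian.coimage φ) :=
    adequateMod_coker C1 hC1 (adequateMod_kernel_fppf S φ hM hN) hM
  have w : Abelian.factorThruCoimage φ ≫ cokernel.π φ = 0 := by
    rw [← cancel_epi (Abelian.coimage.π φ), ← Category.assoc, Abelian.coimage.fac,
      cokernel.condition, comp_zero]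
  let C2 : ShortComplex (BigSite.Mod Scheme.fppfPrecoverage S) :=
    ShortComplex.mk (Abelian.factorThruCoimage φ) (cokernel.π φ) w
  have hC2 : C2.ShortExact :=
    { exact := C2.exact_of_g_is_cokernel
        (isCokernelOfComp (Abelian.coimage.π φ) φ (cokernelIsCokernel φ) w (Abelian.coimage.fac φ))
      mono_f := inferInstanceAs (Mono (Abelian.factorThruCoimage φ))
      epi_g := inferInstanceAs (Epi (cokernel.π φ)) }
  exact adequateMod_coker C2 hC2 hI hN

end ModLevel

end Groth.Agent.Helper1.AdqH
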