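import Mathlib
import Groth.Prelude.Def_Adeq2
import Groth.Agent.Lib.Helper1.AdqH4

set_option autoImplicit false
set_option linter.unusedSectionVars false
set_option linter.unusedVariables false
set_option maxHeartbeats 400000
universe u
open CategoryTheory CategoryTheory.Limits AlgebraicGeometry Opposite TensorProduct

namespace Groth.Agent.Helper1.AdqH

open Groth.Agent.Helper1.Adq Groth.Agent.Helper1.AdqS Groth.Agent.Lib.Helper6.Adeq
  Groth.Agent.Helper1.SigSh Groth.Agent.Helper1.AdqP

section PiTensor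

variable {R : Type u} [CommRing R] {κ : Type u} [Finite κ] (A : κ → Type u)
  [∀ k, CommRing (A k)] [∀ k, Algebra R (A k)]

theorem pi_rTensor_bijective (M : Type*) [AddCommGroup M] [Module R M] :
    Function.Bijective (fun (z : (∀ k, A k) ⊗[R] M) (k : κ) =>
      (LinearMap.proj k : (∀ k, A k) →ₗ[R] A k).rTensor M z) := by
  classical
  haveI := Fintype.ofFinite κ
  have h : LinearMap.pi (fun k => (LinearMap.proj k : (∀ k, A k) →ₗ[R] A k).rTensor M) =
      (TensorProduct.piLeft R M A).toLinearMap := by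
    apply TensorProduct.ext'
    intro f m
    ext k
    simp
  have h2 : (fun (z : (∀ k, A k) ⊗[R] M) (k : κ) =>
      (LinearMap.proj k : (∀ k, A k) →ₗ[R] A k).rTensor M z) =
      ⇑(TensorProduct.piLeft R M A) := by
    funext z
    exact congrArg (fun t => t z) h
  rw [h2]
  exact (TensorProduct.piLeft R M A).bijective

/-- evaluation at an index as a map of algebras -/
noncomputable abbrev evA (k : κ) : Adeq.algOf R (∀ k, A k) ⟶ Adeq.algOf R (A k) :=
  CommAlgCat.ofHom (Pi.evalAlgHom R A k)

theorem underline_pi_bijective (M : ModuleCat.{u + 1} R) :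
    Function.Bijective (fun (z : ((Adeq.underline R).obj M).obj (Adeq.pt (Adeq.algOf R (∀ k, A k))))
      (k : κ) => mvfMap ((Adeq.underline R).obj M) (evA A k) z) :=
  pi_rTensor_bijective A M

theorem adequate_pi_inj (F : Adeq.MVF R) (hF : Adeq.adequate R F)
    (x : F.obj (Adeq.pt (Adeq.algOf R (∀ k, A k)))) (h : ∀ k, mvfMap F (evA A k) x = 0) : x = 0 := by
  obtain ⟨M₀, N₀, φ, j, hjw, hinj, hex⟩ := pointwise_of_adequate F hF
  apply hinj
  rw [map_zero]
  apply (underline_pi_bijective A M₀).1
  funext k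
  change mvfMap _ (evA A k) (j.app _ x) = mvfMap _ (evA A k) 0
  rw [← mvfMap_nat j, h, map_zero, mvfMap_zero]

theorem adequate_pi_surj (F : Adeq.MVF R) (hF : Adeq.adequate R F)
    (xk : ∀ k, F.obj (Adeq.pt (Adeq.algOf R (A k)))) :
    ∃ x : F.obj (Adeq.pt (Adeq.algOf R (∀ k, A k))), ∀ k, mvfMap F (evA A k) x = xk k := by
  obtain ⟨M₀, N₀, φ, j, hjw, hinj, hex⟩ := pointwise_of_adequate F hF
  obtain ⟨z, hz⟩ := (underline_pi_bijective A M₀).2 (fun k => j.app _ (xk k))
  have hz' : ∀ k, mvfMap ((Adeq.underline R).obj M₀) (evA A k) z = j.app _ (xk k) :=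
    fun k => congrFun hz k
  have hw : ∀ (C : Adeq.Alg R) (y : F.obj (Adeq.pt C)),
      ((Adeq.underline R).map φ).app (Adeq.pt C) (j.app (Adeq.pt C) y) = 0 := fun C y =>
    congrArg (fun t => t.app (Adeq.pt C) y) hjw
  have h0 : ((Adeq.underline R).map φ).app _ z = 0 := by
    apply (underline_pi_bijective A N₀).1
    funext k
    change mvfMap _ (evA A k) (((Adeq.underline R).map φ).app _ z) = mvfMap _ (evA A k) 0
    rw [← mvfMap_nat, hz', hw, mvfMap_zero]
  obtain ⟨x, hx⟩ := hex _ z h0
  refine ⟨x, fun k => ?_⟩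
  apply hinj
  rw [mvfMap_nat j, hx, hz']

end PiTensor

section Cover

variable {S : Scheme.{u}}

/-- every covering sieve of an affine object of the big fppf site contains a finite family of affine
charts whose product is a faithfully flat covering algebra -/
theorem product_cover_elim {R : CommRingCat.{u}} (a : Spec R ⟶ S)
    (T : Sieve ((Adeq.specOver a).obj (op (Adeq.algOf R R))))
    (hT : T ∈ QuotSh.J Scheme.fppfPrecoverage S ((Adeq.specOver a).obj (op (Adeq.algOf R R))))
    {motive : Prop}
    (h : ∀ (κ : Type u) [Fintype κ] (A : κ → Type u) [∀ k, CommRing (A k)] [∀ k, Algebra R (A k)],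
      Module.FaithfullyFlat R (∀ k, A k) →
      Sieve.generate (Presieve.singleton ((Adeq.specOver a).map (i0 R (∀ k, A k)).op)) ∈
        QuotSh.J Scheme.fppfPrecoverage S ((Adeq.specOver a).obj (op (Adeq.algOf R R))) →
      (∀ k, T.arrows ((Adeq.specOver a).map (i0 R (A k)).op)) →
      (∀ k, IsOpenImmersion ((Adeq.specOver a).map (evA A k).op).left) →
      (∀ v : ((Adeq.specOver a).obj (op (Adeq.algOf R (∀ k, A k)))).left,
        ∃ k, v ∈ Set.range ((Adeq.specOver a).map (evA A k).op).left) →
      (∀ k l, k ≠ l → Disjoint (Set.range ((Adeq.specOver a).map (evA A k).op).left)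
        (Set.range ((Adeq.specOver a).map (evA A l).op).left)) → motive) : motive := by
  let U0 : Over S := (Adeq.specOver a).obj (op (Adeq.algOf R R))
  let b : Spec (CommRingCat.of R) ⟶ S := U0.hom
  obtain ⟨κ, _, A, ψ, hfl, hfp, hsurj, hTk⟩ :=
    exists_finite_affine_refinement_sieve (R := CommRingCat.of R) b T hT
  letI alg : ∀ k, Algebra R (A k) := fun k => (ψ k).hom.toAlgebra
  have hfl' : ∀ k, Flat (Spec.map (CommRingCat.ofHom (algebraMap R (A k)))) := hfl
  have hfp' : ∀ k, LocallyOfFinitePresentation (Spec.map (CommRingCat.ofHom (algebraMap R (A k)))) :=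
    hfp
  have hsurj' : ∀ x : Spec R, ∃ k,
      x ∈ Set.range (Spec.map (CommRingCat.ofHom (algebraMap R (A k)))) := hsurj
  refine h κ (fun k => (A k : Type u)) (faithfullyFlat_pi (fun k => A k) hfl' hsurj')
    (singleton_mem_J_fppf _ (flat_pi (fun k => A k) hfl') (surjective_pi (fun k => A k) hsurj')
      (lfp_pi (fun k => A k) hfp')) ?_ ?_ ?_ ?_
  · intro k
    have hb : Spec.map (CommRingCat.ofHom (algebraMap R (A k))) ≫ a = Spec.map (ψ k) ≫ b := by
      change _ = Spec.map (ψ k) ≫ Spec.map (CommRingCat.ofHom (algebraMap R R)) ≫ a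
      rw [Algebra.algebraMap_self, CommRingCat.ofHom_id, Spec.map_id, Category.id_comp]
      rfl
    have h1 := T.downward_closed (hTk k) (tr hb)
    have h2 : tr hb ≫ (Over.homMk (Spec.map (ψ k)) rfl : Over.mk (Spec.map (ψ k) ≫ b) ⟶ Over.mk b) =
        (Adeq.specOver a).map (i0 R (A k)).op := by
      apply Over.OverMorphism.ext
      change 𝟙 _ ≫ Spec.map (ψ k) = _
      rw [Category.id_comp]
      rfl
    exact sieve_congr _ h2 h1
  · intro k
    change IsOpenImmersion (Spec.map (CommRingCat.ofHom (Pi.evalRingHom (fun k => (A k : Type u)) k)))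
    infer_instance
  · intro v
    exact surj_eval (fun k => A k) v
  · intro k l hkl
    exact disjoint_eval (fun k => A k) k l hkl

end Cover

end Groth.Agent.Helper1.AdqH
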