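import Mathlib
import Groth.Prelude.Def_Adeq2

set_option autoImplicit false
set_option linter.unusedSectionVars false
set_option linter.unusedVariables false
set_option maxHeartbeats 400000
universe u
open CategoryTheory CategoryTheory.Limits Opposite TensorProduct

namespace Groth.Agent.Helper1.Ami

section Lift

variable {R : Type u} [CommRing R] {ι : Type} [Fintype ι] [DecidableEq ι]
  {B : Type u} [CommRing B] [Algebra R B]

/-- the algebra map out of a tensor power determined by a family of algebra maps -/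
noncomputable def liftFam {S : Type u} [CommRing S] [Algebra R S] (φ : ι → (B →ₐ[R] S)) :
    (⨂[R] (_ : ι), B) →ₐ[R] S :=
  PiTensorProduct.liftAlgHom
    ((MultilinearMap.mkPiAlgebra R ι S).compLinearMap (fun a => (φ a).toLinearMap))
    (by simp) (by intro x y; simp [Finset.prod_mul_distrib])

theorem liftFam_tprod {S : Type u} [CommRing S] [Algebra R S] (φ : ι → (B →ₐ[R] S))
    (x : ι → B) : liftFam φ (PiTensorProduct.tprod R x) = ∏ a, φ a (x a) := by
  simp [liftFam]

theorem liftFam_single {S : Type u} [CommRing S] [Algebra R S] (φ : ι → (B →ₐ[R] S))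
    (a : ι) (b : B) :
    liftFam φ (PiTensorProduct.singleAlgHom (R := R) (A := fun _ : ι => B) a b) = φ a b := by
  rw [PiTensorProduct.singleAlgHom_apply, liftFam_tprod]
  rw [Finset.prod_eq_single a]
  · simp
  · intro c _ hc
    rw [MonoidHom.mulSingle_apply, Pi.mulSingle_eq_of_ne hc, map_one]
  · intro h
    exact absurd (Finset.mem_univ a) h

theorem liftFam_comp_single {S : Type u} [CommRing S] [Algebra R S] (φ : ι → (B →ₐ[R] S))
    (a : ι) :
    (liftFam φ).comp (PiTensorProduct.singleAlgHom (R := R) (A := fun _ : ι => B) a) = φ a :=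
  AlgHom.ext (fun b => liftFam_single φ a b)

end Lift


section Am

variable (R : Type u) [CommRing R] (B : Type u) [CommRing B] [Algebra R B]

/-- the `n`-fold tensor power of `B` over `R` -/
abbrev Am (n : ℕ) : Type u := ⨂[R] (_ : Fin n), B

/-- the generators -/
noncomputable abbrev sg (n : ℕ) (a : Fin n) : B →ₐ[R] Am R B n :=
  PiTensorProduct.singleAlgHom (R := R) (A := fun _ : Fin n => B) a

variable {R B} in
theorem am_hom_ext {n : ℕ} {S : Type u} [CommRing S] [Algebra R S] {f g : Am R B n →ₐ[R] S}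
    (h : ∀ a, f.comp (sg R B n a) = g.comp (sg R B n a)) : f = g :=
  PiTensorProduct.algHom_ext h

/-- functoriality of the tensor powers in the index set -/
noncomputable def amMap {m n : ℕ} (θ : Fin m → Fin n) : Am R B m →ₐ[R] Am R B n :=
  liftFam (fun a => sg R B n (θ a))

theorem amMap_comp_sg {m n : ℕ} (θ : Fin m → Fin n) (a : Fin m) :
    (amMap R B θ).comp (sg R B m a) = sg R B n (θ a) :=
  liftFam_comp_single _ a

theorem amMap_sg {m n : ℕ} (θ : Fin m → Fin n) (a : Fin m) (b : B) :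
    amMap R B θ (sg R B m a b) = sg R B n (θ a) b :=
  liftFam_single _ a b

theorem amMap_comp {l m n : ℕ} (θ : Fin l → Fin m) (θ' : Fin m → Fin n) :
    (amMap R B θ').comp (amMap R B θ) = amMap R B (θ' ∘ θ) := by
  apply am_hom_ext
  intro a
  rw [AlgHom.comp_assoc, amMap_comp_sg, amMap_comp_sg, amMap_comp_sg]
  rfl

theorem amMap_id (n : ℕ) : amMap R B (id : Fin n → Fin n) = AlgHom.id R _ := by
  apply am_hom_ext
  intro a
  rw [amMap_comp_sg]
  rfl

/-- the base-changed tensor powers -/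
abbrev BAm (n : ℕ) : Type u := B ⊗[R] Am R B n

/-- functoriality of the base-changed tensor powers -/
noncomputable def bMap {m n : ℕ} (θ : Fin m → Fin n) : BAm R B m →ₐ[R] BAm R B n :=
  Algebra.TensorProduct.map (AlgHom.id R B) (amMap R B θ)

/-- the contraction -/
noncomputable def sMap (n : ℕ) : BAm R B (n + 1) →ₐ[R] BAm R B n :=
  Algebra.TensorProduct.lift (Algebra.TensorProduct.includeLeft)
    (liftFam (Fin.cases (Algebra.TensorProduct.includeLeft)
      (fun a => (Algebra.TensorProduct.includeRight).comp (sg R B n a))))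
    (fun _ _ => Commute.all _ _)

variable {R B} in
theorem bam_hom_ext {n : ℕ} {S : Type u} [CommRing S] [Algebra R S] {f g : BAm R B n →ₐ[R] S}
    (h1 : f.comp Algebra.TensorProduct.includeLeft = g.comp Algebra.TensorProduct.includeLeft)
    (h2 : ∀ a, (f.comp Algebra.TensorProduct.includeRight).comp (sg R B n a) =
      (g.comp Algebra.TensorProduct.includeRight).comp (sg R B n a)) : f = g :=
  Algebra.TensorProduct.ext h1 (am_hom_ext h2)


variable {R B} in
theorem bam_hom_ext' {n : ℕ} {S : Type u} [CommRing S] [Algebra R S] {f g : BAm R B n →ₐ[R] S}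
    (h1 : ∀ b : B, f (b ⊗ₜ[R] 1) = g (b ⊗ₜ[R] 1))
    (h2 : ∀ (a : Fin n) (b : B), f (1 ⊗ₜ[R] sg R B n a b) = g (1 ⊗ₜ[R] sg R B n a b)) : f = g :=
  bam_hom_ext (AlgHom.ext h1) (fun a => AlgHom.ext (h2 a))

theorem sMap_tmul (n : ℕ) (b : B) (x : Am R B (n + 1)) :
    sMap R B n (b ⊗ₜ[R] x) = (b ⊗ₜ[R] 1) *
      (liftFam (Fin.cases (Algebra.TensorProduct.includeLeft)
        (fun a => (Algebra.TensorProduct.includeRight).comp (sg R B n a))) x) := by
  unfold sMap
  rw [Algebra.TensorProduct.lift_tmul]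
  rfl

theorem sMap_tmul_one (n : ℕ) (b : B) : sMap R B n (b ⊗ₜ[R] 1) = b ⊗ₜ[R] 1 := by
  rw [sMap_tmul, map_one, mul_one]

theorem sMap_sg_zero (n : ℕ) (b : B) :
    sMap R B n (1 ⊗ₜ[R] sg R B (n + 1) 0 b) = b ⊗ₜ[R] 1 := by
  rw [sMap_tmul, liftFam_single, ← Algebra.TensorProduct.one_def, one_mul]
  rfl

theorem sMap_sg_succ (n : ℕ) (a : Fin n) (b : B) :
    sMap R B n (1 ⊗ₜ[R] sg R B (n + 1) a.succ b) = 1 ⊗ₜ[R] sg R B n a b := by
  rw [sMap_tmul, liftFam_single, ← Algebra.TensorProduct.one_def, one_mul]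
  rfl

theorem bMap_tmul {m n : ℕ} (θ : Fin m → Fin n) (b : B) (x : Am R B m) :
    bMap R B θ (b ⊗ₜ[R] x) = b ⊗ₜ[R] amMap R B θ x := by
  simp [bMap]

theorem bMap_comp {l m n : ℕ} (θ : Fin l → Fin m) (θ' : Fin m → Fin n) :
    (bMap R B θ').comp (bMap R B θ) = bMap R B (θ' ∘ θ) := by
  unfold bMap
  rw [← Algebra.TensorProduct.map_comp, amMap_comp]
  rfl

/-- the contraction is a retraction of the zeroth coface -/
theorem sMap_comp_bMap_succ (n : ℕ) :
    (sMap R B n).comp (bMap R B (Fin.succ : Fin n → Fin (n + 1))) = AlgHom.id R _ := by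
  apply bam_hom_ext'
  · intro b
    rw [AlgHom.comp_apply, bMap_tmul, map_one, sMap_tmul_one]
    rfl
  · intro a b
    rw [AlgHom.comp_apply, bMap_tmul, amMap_sg, sMap_sg_succ]
    rfl

/-- the contraction commutes with the higher cofaces -/
theorem sMap_comp_bMap_succAbove (n : ℕ) (i : Fin (n + 1)) :
    (sMap R B (n + 1)).comp (bMap R B (Fin.succAbove i.succ)) =
      (bMap R B (Fin.succAbove i)).comp (sMap R B n) := by
  apply bam_hom_ext'
  · intro b
    rw [AlgHom.comp_apply, AlgHom.comp_apply, bMap_tmul, map_one, sMap_tmul_one, sMap_tmul_one,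
      bMap_tmul, map_one]
  · intro a b
    rw [AlgHom.comp_apply, AlgHom.comp_apply, bMap_tmul, amMap_sg]
    refine Fin.cases ?_ (fun a' => ?_) a
    · rw [Fin.succ_succAbove_zero, sMap_sg_zero, sMap_sg_zero, bMap_tmul, map_one]
    · rw [Fin.succ_succAbove_succ, sMap_sg_succ, sMap_sg_succ, bMap_tmul, amMap_sg]

end Am

end Groth.Agent.Helper1.Ami
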