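import Mathlib
import Groth.Prelude.Def_Adeq2
import Groth.Agent.Lib.Helper1.Ami1
import Groth.Agent.Lib.Helper1.AdqH5

set_option autoImplicit false
set_option linter.unusedSectionVars false
set_option linter.unusedVariables false
set_option maxHeartbeats 400000
universe u
open CategoryTheory CategoryTheory.Limits Opposite TensorProduct

namespace Groth.Agent.Helper1.Ami

open Groth.Agent.Helper1.Adq Groth.Agent.Helper1.AdqH

theorem mvfMap_sum {A : Type u} [CommRing A] (F : Adeq.MVF A) {C C' : Adeq.Alg A} (f : C ⟶ C')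
    {κ : Type*} (s : Finset κ) (g : κ → F.obj (Adeq.pt C)) :
    mvfMap F f (∑ i ∈ s, g i) = ∑ i ∈ s, mvfMap F f (g i) :=
  map_sum (F.map (Adeq.ptHom f)).hom g s

theorem mvfMap_zsmul {A : Type u} [CommRing A] (F : Adeq.MVF A) {C C' : Adeq.Alg A} (f : C ⟶ C')
    (k : ℤ) (x : F.obj (Adeq.pt C)) : mvfMap F f (k • x) = k • mvfMap F f x :=
  map_zsmul (F.map (Adeq.ptHom f)).hom k x

section Cx

variable (R : Type u) [CommRing R] (B : Type u) [CommRing B] [Algebra R B]

/-- the tensor powers as objects -/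
noncomputable abbrev amObj (n : ℕ) : Adeq.Alg R := Adeq.algOf R (Am R B n)

/-- the base-changed tensor powers as objects -/
noncomputable abbrev bamObj (n : ℕ) : Adeq.Alg R := Adeq.algOf R (BAm R B n)

noncomputable abbrev amHom {m n : ℕ} (θ : Fin m → Fin n) : amObj R B m ⟶ amObj R B n :=
  CommAlgCat.ofHom (amMap R B θ)

noncomputable abbrev bHom {m n : ℕ} (θ : Fin m → Fin n) : bamObj R B m ⟶ bamObj R B n :=
  CommAlgCat.ofHom (bMap R B θ)

noncomputable abbrev sHom (n : ℕ) : bamObj R B (n + 1) ⟶ bamObj R B n :=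
  CommAlgCat.ofHom (sMap R B n)

/-- `b ↦ b ⊗ 1` -/
noncomputable abbrev jHom (n : ℕ) : amObj R B n ⟶ bamObj R B n :=
  CommAlgCat.ofHom (Algebra.TensorProduct.includeRight)

theorem amHom_comp {l m n : ℕ} (θ : Fin l → Fin m) (θ' : Fin m → Fin n) :
    amHom R B θ ≫ amHom R B θ' = amHom R B (θ' ∘ θ) := by
  apply CommAlgCat.hom_ext
  exact amMap_comp R B θ θ'

theorem sHom_bHom_succ (n : ℕ) :
    bHom R B (Fin.succ : Fin n → Fin (n + 1)) ≫ sHom R B n = 𝟙 _ := by
  apply CommAlgCat.hom_ext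
  exact sMap_comp_bMap_succ R B n

theorem sHom_bHom_succAbove (n : ℕ) (i : Fin (n + 1)) :
    bHom R B (Fin.succAbove i.succ) ≫ sHom R B (n + 1) = sHom R B n ≫ bHom R B (Fin.succAbove i) := by
  apply CommAlgCat.hom_ext
  exact sMap_comp_bMap_succAbove R B n i

variable (F : Adeq.MVF R)

/-- the Amitsur differential -/
noncomputable def dA (n : ℕ) (x : F.obj (Adeq.pt (amObj R B n))) : F.obj (Adeq.pt (amObj R B (n + 1))) :=
  ∑ i : Fin (n + 1), (-1 : ℤ) ^ (i : ℕ) • mvfMap F (amHom R B (Fin.succAbove i)) x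

/-- the base-changed Amitsur differential -/
noncomputable def dBm (n : ℕ) (x : F.obj (Adeq.pt (bamObj R B n))) :
    F.obj (Adeq.pt (bamObj R B (n + 1))) :=
  ∑ i : Fin (n + 1), (-1 : ℤ) ^ (i : ℕ) • mvfMap F (bHom R B (Fin.succAbove i)) x

theorem contraction_zero (x : F.obj (Adeq.pt (bamObj R B 0))) :
    mvfMap F (sHom R B 0) (dBm R B F 0 x) = x := by
  unfold dBm
  rw [Fin.sum_univ_one]
  simp only [Fin.val_zero, pow_zero, one_smul]
  rw [← mvfMap_comp]
  have : (Fin.succAbove (0 : Fin 1) : Fin 0 → Fin 1) = Fin.succ := by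
    funext a
    exact a.elim0
  rw [this, mvfMap_congr R F (sHom_bHom_succ R B 0) x, mvfMap_id']


theorem contraction_succ (n : ℕ) (x : F.obj (Adeq.pt (bamObj R B (n + 1)))) :
    mvfMap F (sHom R B (n + 1)) (dBm R B F (n + 1) x) =
      x - dBm R B F n (mvfMap F (sHom R B n) x) := by
  unfold dBm
  rw [Fin.sum_univ_succ]
  simp only [Fin.val_zero, pow_zero, one_smul, Fin.val_succ]
  rw [mvfMap_add, ← mvfMap_comp]
  have h0 : (Fin.succAbove (0 : Fin (n + 2)) : Fin (n + 1) → Fin (n + 2)) = Fin.succ := by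
    funext a
    exact Fin.succAbove_zero_apply a
  rw [h0, mvfMap_congr R F (sHom_bHom_succ R B (n + 1)) x, mvfMap_id']
  rw [sub_eq_add_neg]
  congr 1
  rw [mvfMap_sum, ← Finset.sum_neg_distrib]
  apply Finset.sum_congr rfl
  intro i _
  rw [mvfMap_zsmul, ← mvfMap_comp, ← mvfMap_comp,
    mvfMap_congr R F (sHom_bHom_succAbove R B n i) x, pow_succ]
  simp


/-- exactness of the base-changed complex in degree zero -/
theorem dBm_zero_injective : Function.Injective (dBm R B F 0) := by
  intro x y hxy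
  rw [← contraction_zero R B F x, ← contraction_zero R B F y, hxy]

/-- exactness of the base-changed complex in positive degrees -/
theorem dBm_exact (n : ℕ) (x : F.obj (Adeq.pt (bamObj R B (n + 1))))
    (hx : dBm R B F (n + 1) x = 0) : dBm R B F n (mvfMap F (sHom R B n) x) = x := by
  have h := contraction_succ R B F n x
  rw [hx, mvfMap_zero] at h
  exact (sub_eq_zero.1 h.symm).symm

end Cx

section Lin

variable (R : Type u) [CommRing R] (B : Type u) [CommRing B] [Algebra R B]
  (M : Type (u + 1)) [AddCommGroup M] [Module R M]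

/-- the Amitsur differential of a module, as a linear map -/
noncomputable def DA (n : ℕ) : Am R B n ⊗[R] M →ₗ[R] Am R B (n + 1) ⊗[R] M :=
  ∑ i : Fin (n + 1), (-1 : R) ^ (i : ℕ) • LinearMap.rTensor M (amMap R B (Fin.succAbove i)).toLinearMap

/-- the base-changed Amitsur differential of a module, as a linear map -/
noncomputable def DB (n : ℕ) : BAm R B n ⊗[R] M →ₗ[R] BAm R B (n + 1) ⊗[R] M :=
  ∑ i : Fin (n + 1), (-1 : R) ^ (i : ℕ) • LinearMap.rTensor M (bMap R B (Fin.succAbove i)).toLinearMap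

/-- the associator -/
noncomputable abbrev al (n : ℕ) : B ⊗[R] (Am R B n ⊗[R] M) ≃ₗ[R] BAm R B n ⊗[R] M :=
  (TensorProduct.assoc R B (Am R B n) M).symm

theorem DA_tmul (n : ℕ) (x : Am R B n) (m : M) :
    DA R B M n (x ⊗ₜ[R] m) =
      ∑ i : Fin (n + 1), (-1 : R) ^ (i : ℕ) • (amMap R B (Fin.succAbove i) x ⊗ₜ[R] m) := by
  simp [DA, LinearMap.sum_apply]

theorem DB_tmul (n : ℕ) (x : BAm R B n) (m : M) :
    DB R B M n (x ⊗ₜ[R] m) =
      ∑ i : Fin (n + 1), (-1 : R) ^ (i : ℕ) • (bMap R B (Fin.succAbove i) x ⊗ₜ[R] m) := by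
  simp [DB, LinearMap.sum_apply]

theorem al_comp (n : ℕ) :
    (al R B M (n + 1)).toLinearMap ∘ₗ (DA R B M n).lTensor B = DB R B M n ∘ₗ (al R B M n).toLinearMap := by
  apply TensorProduct.ext'
  intro b z
  induction z using TensorProduct.induction_on with
  | zero => simp
  | tmul x m =>
    simp only [LinearMap.comp_apply, LinearMap.lTensor_tmul, LinearEquiv.coe_coe, DA_tmul,
      tmul_sum, tmul_smul, map_sum, map_smul, TensorProduct.assoc_symm_tmul, DB_tmul, bMap_tmul]
  | add z₁ z₂ h₁ h₂ =>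
    rw [tmul_add, map_add, map_add, h₁, h₂]

end Lin


section Cos

variable (R : Type u) [CommRing R] (B : Type u) [CommRing B] [Algebra R B]

/-- the Amitsur cosimplicial algebra -/
noncomputable def amCos : CosimplicialObject (Adeq.Alg R) where
  obj n := amObj R B (n.len + 1)
  map {m n} θ := amHom R B (θ.toOrderHom : Fin (m.len + 1) → Fin (n.len + 1))
  map_id n := by
    apply CommAlgCat.hom_ext
    exact amMap_id R B _
  map_comp θ θ' := by
    rw [amHom_comp]
    rfl

theorem ab_sum_apply {P Q : AddCommGrpCat.{u + 1}} {κ : Type*} (s : Finset κ) (f : κ → (P ⟶ Q))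
    (x : P) : (∑ i ∈ s, f i).hom x = ∑ i ∈ s, (f i).hom x := by
  classical
  induction s using Finset.induction_on with
  | empty => simp
  | insert a s ha ih =>
    rw [Finset.sum_insert ha, Finset.sum_insert ha, AddCommGrpCat.hom_add, AddMonoidHom.add_apply, ih]

variable (F : Adeq.MVF R)

/-- the Amitsur cosimplicial group of a module-valued functor -/
noncomputable abbrev amCosF : CosimplicialObject AddCommGrpCat.{u + 1} := amCos R B ⋙ F.toAb

theorem objD_apply (n : ℕ) (x : F.obj (Adeq.pt (amObj R B (n + 1)))) :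
    (AlgebraicTopology.AlternatingCofaceMapComplex.objD (amCosF R B F) n).hom x =
      dA R B F (n + 1) x := by
  unfold AlgebraicTopology.AlternatingCofaceMapComplex.objD dA
  rw [ab_sum_apply]
  apply Finset.sum_congr rfl
  intro i _
  rw [AddCommGrpCat.hom_zsmul]
  rfl

theorem dA_dA_succ (n : ℕ) (x : F.obj (Adeq.pt (amObj R B (n + 1)))) :
    dA R B F (n + 2) (dA R B F (n + 1) x) = 0 := by
  have h := AlgebraicTopology.AlternatingCofaceMapComplex.d_squared (amCosF R B F) n
  have h2 := ConcreteCategory.congr_hom h x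
  rw [← objD_apply, ← objD_apply]
  exact h2

theorem dA_dA_zero (x : F.obj (Adeq.pt (amObj R B 0))) :
    dA R B F 1 (dA R B F 0 x) = 0 := by
  unfold dA
  rw [Fin.sum_univ_one, Fin.sum_univ_two]
  simp only [Fin.val_zero, pow_zero, one_smul, Fin.val_one, pow_one, neg_smul]
  rw [← mvfMap_comp, ← mvfMap_comp, amHom_comp, amHom_comp]
  have : (Fin.succAbove (0 : Fin 2) ∘ Fin.succAbove (0 : Fin 1) : Fin 0 → Fin 2) =
      Fin.succAbove (1 : Fin 2) ∘ Fin.succAbove (0 : Fin 1) := by
    funext a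
    exact a.elim0
  rw [this, add_neg_cancel]

theorem dA_dA (n : ℕ) (x : F.obj (Adeq.pt (amObj R B n))) :
    dA R B F (n + 1) (dA R B F n x) = 0 := by
  cases n with
  | zero => exact dA_dA_zero R B F x
  | succ k => exact dA_dA_succ R B F k x

end Cos

end Groth.Agent.Helper1.Ami
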