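import Mathlib
import Groth.Prelude.Def_Adeq2
import Groth.Agent.Lib.Helper1.Ami2

set_option autoImplicit false
set_option linter.unusedSectionVars false
set_option linter.unusedVariables false
set_option maxHeartbeats 400000
universe u
open CategoryTheory CategoryTheory.Limits Opposite TensorProduct

namespace Groth.Agent.Helper1.Ami

open Groth.Agent.Helper1.Adq Groth.Agent.Helper1.AdqH

section Und

variable (R : Type u) [CommRing R] (B : Type u) [CommRing B] [Algebra R B]
  (M : ModuleCat.{u + 1} R)

theorem neg_one_pow_smul {X : Type*} [AddCommGroup X] [Module R X] (i : ℕ) (y : X) :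
    ((-1 : ℤ) ^ i) • y = ((-1 : R) ^ i) • y := by
  rw [← Int.cast_smul_eq_zsmul R]
  push_cast
  rfl

theorem dA_underline (n : ℕ) (x : ((Adeq.underline R).obj M).obj (Adeq.pt (amObj R B n))) :
    dA R B ((Adeq.underline R).obj M) n x = DA R B M n x := by
  unfold dA DA
  rw [LinearMap.sum_apply]
  apply Finset.sum_congr rfl
  intro i _
  rw [LinearMap.smul_apply]
  change ((-1 : ℤ) ^ (i : ℕ)) • (LinearMap.rTensor M (amMap R B (Fin.succAbove i)).toLinearMap x :
    Am R B (n + 1) ⊗[R] M) = _
  rw [neg_one_pow_smul R]

theorem dBm_underline (n : ℕ) (x : ((Adeq.underline R).obj M).obj (Adeq.pt (bamObj R B n))) :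
    dBm R B ((Adeq.underline R).obj M) n x = DB R B M n x := by
  unfold dBm DB
  rw [LinearMap.sum_apply]
  apply Finset.sum_congr rfl
  intro i _
  rw [LinearMap.smul_apply]
  change ((-1 : ℤ) ^ (i : ℕ)) • (LinearMap.rTensor M (bMap R B (Fin.succAbove i)).toLinearMap x :
    BAm R B (n + 1) ⊗[R] M) = _
  rw [neg_one_pow_smul R]

theorem DA_comp (n : ℕ) : DA R B M (n + 1) ∘ₗ DA R B M n = 0 := by
  apply LinearMap.ext
  intro x
  rw [LinearMap.comp_apply, LinearMap.zero_apply, ← dA_underline, ← dA_underline]
  exact dA_dA R B ((Adeq.underline R).obj M) n x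

theorem DB_zero_injective : Function.Injective (DB R B M 0) := by
  intro x y hxy
  apply dBm_zero_injective R B ((Adeq.underline R).obj M)
  rw [dBm_underline, dBm_underline]
  exact hxy

theorem DB_exact (n : ℕ) (y : BAm R B (n + 1) ⊗[R] M) (hy : DB R B M (n + 1) y = 0) :
    ∃ x, DB R B M n x = y := by
  have h := dBm_exact R B ((Adeq.underline R).obj M) n y (by rw [dBm_underline]; exact hy)
  rw [dBm_underline] at h
  exact ⟨_, h⟩

theorem lTensor_DA_exact (n : ℕ) :
    Function.Exact ((DA R B M n).lTensor B) ((DA R B M (n + 1)).lTensor B) := by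
  intro y
  constructor
  · intro hy
    have h1 : DB R B M (n + 1) (al R B M (n + 1) y) = 0 := by
      have := LinearMap.congr_fun (al_comp R B M (n + 1)) y
      rw [LinearMap.comp_apply, LinearMap.comp_apply, hy, map_zero] at this
      exact this.symm
    obtain ⟨x, hx⟩ := DB_exact R B M n _ h1
    refine ⟨(al R B M n).symm x, ?_⟩
    apply (al R B M (n + 1)).injective
    have := LinearMap.congr_fun (al_comp R B M n) ((al R B M n).symm x)
    rw [LinearMap.comp_apply, LinearMap.comp_apply] at this
    rw [LinearEquiv.coe_coe] at this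
    rw [this, LinearEquiv.coe_coe, LinearEquiv.apply_symm_apply, hx]
  · rintro ⟨x, rfl⟩
    rw [← LinearMap.comp_apply, ← LinearMap.lTensor_comp, DA_comp, LinearMap.lTensor_zero,
      LinearMap.zero_apply]

variable [Module.FaithfullyFlat R B]

theorem DA_exact (n : ℕ) : Function.Exact (DA R B M n) (DA R B M (n + 1)) :=
  Module.FaithfullyFlat.lTensor_reflects_exact R B _ _ (lTensor_DA_exact R B M n)

theorem DA_zero_injective : Function.Injective (DA R B M 0) := by
  rw [← Module.FaithfullyFlat.lTensor_injective_iff_injective R B]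
  intro x y hxy
  apply (al R B M 0).injective
  apply DB_zero_injective R B M
  have h1 := LinearMap.congr_fun (al_comp R B M 0) x
  have h2 := LinearMap.congr_fun (al_comp R B M 0) y
  rw [LinearMap.comp_apply, LinearMap.comp_apply] at h1 h2
  exact h1.symm.trans ((congrArg _ hxy).trans h2)

/-- exactness of the Amitsur complex of a module in positive degrees -/
theorem dA_underline_exact (n : ℕ) (x : ((Adeq.underline R).obj M).obj (Adeq.pt (amObj R B (n + 1))))
    (hx : dA R B ((Adeq.underline R).obj M) (n + 1) x = 0) :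
    ∃ y, dA R B ((Adeq.underline R).obj M) n y = x := by
  rw [dA_underline] at hx
  obtain ⟨y, hy⟩ := (DA_exact R B M n x).1 hx
  exact ⟨y, by rw [dA_underline]; exact hy⟩

theorem dA_underline_injective : Function.Injective (dA R B ((Adeq.underline R).obj M) 0) := by
  intro x y hxy
  rw [dA_underline, dA_underline] at hxy
  exact DA_zero_injective R B M hxy

end Und

end Groth.Agent.Helper1.Ami
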