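import Mathlib
import Groth.Prelude.Def_Adeq2
import Groth.Agent.Lib.Helper1.Ami3

set_option autoImplicit false
set_option linter.unusedSectionVars false
set_option linter.unusedVariables false
set_option maxHeartbeats 400000
universe u
open CategoryTheory CategoryTheory.Limits Opposite TensorProduct

namespace Groth.Agent.Helper1.Ami

open Groth.Agent.Helper1.Adq Groth.Agent.Helper1.AdqH Groth.Agent.Lib.Helper6.Adeq

section Chase

variable (R : Type u) [CommRing R] (B : Type u) [CommRing B] [Algebra R B]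

theorem dA_nat {F G : Adeq.MVF R} (α : F ⟶ G) (n : ℕ) (x : F.obj (Adeq.pt (amObj R B n))) :
    α.app (Adeq.pt (amObj R B (n + 1))) (dA R B F n x) = dA R B G n (α.app (Adeq.pt (amObj R B n)) x) := by
  unfold dA
  rw [map_sum]
  apply Finset.sum_congr rfl
  intro i _
  rw [map_zsmul, mvfMap_nat]

theorem dA_sub (F : Adeq.MVF R) (n : ℕ) (x y : F.obj (Adeq.pt (amObj R B n))) :
    dA R B F n (x - y) = dA R B F n x - dA R B F n y := by
  unfold dA
  rw [← Finset.sum_sub_distrib]
  apply Finset.sum_congr rfl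
  intro i _
  rw [mvfMap_sub, smul_sub]

theorem dA_map_zero (F : Adeq.MVF R) (n : ℕ) : dA R B F n 0 = 0 := by
  unfold dA
  apply Finset.sum_eq_zero
  intro i _
  rw [mvfMap_zero, smul_zero]


section Coker

variable {M₀ N₀ : ModuleCat.{u + 1} R} (φ : M₀ ⟶ N₀)

/-- the cokernel module -/
noncomputable abbrev Qm : ModuleCat.{u + 1} R := ModuleCat.of R (N₀ ⧸ LinearMap.range φ.hom)

/-- the projection to the cokernel -/
noncomputable abbrev πm : N₀ ⟶ Qm R φ := ModuleCat.ofHom (LinearMap.range φ.hom).mkQ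

theorem und_π_surjective (C : Adeq.Alg R) :
    Function.Surjective (((Adeq.underline R).map (πm R φ)).app (Adeq.pt C)) := by
  intro y
  obtain ⟨z, hz⟩ := LinearMap.lTensor_surjective (C : Type u)
    (Submodule.mkQ_surjective (LinearMap.range φ.hom)) y
  refine ⟨z, ?_⟩
  rw [underline_map_app_eq]
  exact hz

theorem und_π_exact (C : Adeq.Alg R) (z : ((Adeq.underline R).obj N₀).obj (Adeq.pt C))
    (hz : ((Adeq.underline R).map (πm R φ)).app (Adeq.pt C) z = 0) :
    ∃ w : ((Adeq.underline R).obj M₀).obj (Adeq.pt C),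
      ((Adeq.underline R).map φ).app (Adeq.pt C) w = z := by
  rw [underline_map_app_eq] at hz
  have hex := lTensor_exact (C : Type u) (LinearMap.exact_map_mkQ_range φ.hom)
    (Submodule.mkQ_surjective _)
  obtain ⟨w, hw⟩ := (hex z).1 hz
  refine ⟨w, ?_⟩
  rw [underline_map_app_eq]
  exact hw

theorem und_φ_π (C : Adeq.Alg R) (w : ((Adeq.underline R).obj M₀).obj (Adeq.pt C)) :
    ((Adeq.underline R).map (πm R φ)).app (Adeq.pt C)
      (((Adeq.underline R).map φ).app (Adeq.pt C) w) = 0 := by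
  have h : φ ≫ πm R φ = 0 := by
    apply ModuleCat.hom_ext
    apply LinearMap.ext
    intro m
    change (LinearMap.range φ.hom).mkQ (φ.hom m) = 0
    rw [Submodule.mkQ_apply, Submodule.Quotient.mk_eq_zero]
    exact ⟨m, rfl⟩
  have h2 : (Adeq.underline R).map φ ≫ (Adeq.underline R).map (πm R φ) = 0 := by
    rw [← Functor.map_comp, h, Functor.map_zero]
  exact congrArg (fun t => t.app (Adeq.pt C) w) h2

end Coker


variable [Module.FaithfullyFlat R B]

theorem dA_adequate_injective (F : Adeq.MVF R) (hF : Adeq.adequate R F) :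
    Function.Injective (dA R B F 0) := by
  obtain ⟨M₀, N₀, φ, j, hjw, hinj, hex⟩ := pointwise_of_adequate F hF
  intro x y hxy
  apply hinj
  apply dA_underline_injective R B M₀
  rw [← dA_nat, ← dA_nat, hxy]

/-- **exactness of the Amitsur complex of an adequate functor in positive degrees** -/
theorem dA_adequate_exact (F : Adeq.MVF R) (hF : Adeq.adequate R F) (n : ℕ)
    (x : F.obj (Adeq.pt (amObj R B (n + 1)))) (hx : dA R B F (n + 1) x = 0) :
    ∃ y, dA R B F n y = x := by
  obtain ⟨M₀, N₀, φ, j, hjw, hinj, hex⟩ := pointwise_of_adequate F hF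
  have hw : ∀ (C : Adeq.Alg R) (t : F.obj (Adeq.pt C)),
      ((Adeq.underline R).map φ).app (Adeq.pt C) (j.app (Adeq.pt C) t) = 0 := fun C t =>
    congrArg (fun s => s.app (Adeq.pt C) t) hjw
  let Mu := (Adeq.underline R).obj M₀
  let Nu := (Adeq.underline R).obj N₀
  let Qu := (Adeq.underline R).obj (Qm R φ)
  let φu : Mu ⟶ Nu := (Adeq.underline R).map φ
  let πu : Nu ⟶ Qu := (Adeq.underline R).map (πm R φ)
  -- step 1
  have h1 : dA R B Mu (n + 1) (j.app _ x) = 0 := by
    rw [← dA_nat, hx, map_zero]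
  obtain ⟨y, hy⟩ := dA_underline_exact R B M₀ n _ h1
  -- step 2
  have h2 : dA R B Nu n (φu.app _ y) = 0 := by
    rw [← dA_nat, hy]
    exact hw _ x
  -- it suffices to correct `y` into the kernel of `φ`
  suffices hsuff : ∃ y' : Mu.obj (Adeq.pt (amObj R B n)),
      φu.app _ y' = 0 ∧ dA R B Mu n y' = dA R B Mu n y by
    obtain ⟨y', hy'1, hy'2⟩ := hsuff
    obtain ⟨x', hx'⟩ := hex _ y' hy'1
    refine ⟨x', ?_⟩
    apply hinj
    rw [dA_nat, hx', hy'2, hy]
  cases n with
  | zero =>
    refine ⟨y, ?_, rfl⟩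
    apply dA_underline_injective R B N₀
    rw [h2, dA_map_zero]
  | succ m =>
    obtain ⟨z, hz⟩ := dA_underline_exact R B N₀ m _ h2
    -- find `w` with `d (φ w) = φ y`
    have hwex : ∃ w : Mu.obj (Adeq.pt (amObj R B m)),
        dA R B Nu m (φu.app _ w) = φu.app _ y := by
      have h3 : dA R B Qu m (πu.app _ z) = 0 := by
        rw [← dA_nat, hz]
        exact und_φ_π R φ _ y
      cases m with
      | zero =>
        have h4 : πu.app _ z = 0 := by
          apply dA_underline_injective R B (Qm R φ)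
          rw [h3, dA_map_zero]
        obtain ⟨w, hw'⟩ := und_π_exact R φ _ z h4
        exact ⟨w, by rw [hw', hz]⟩
      | succ l =>
        obtain ⟨vb, hvb⟩ := dA_underline_exact R B (Qm R φ) l _ h3
        obtain ⟨v, hv⟩ := und_π_surjective R φ _ vb
        have h4 : πu.app _ (z - dA R B Nu l v) = 0 := by
          rw [map_sub, dA_nat, hv, hvb, sub_self]
        obtain ⟨w, hw'⟩ := und_π_exact R φ _ _ h4
        refine ⟨w, ?_⟩
        rw [hw', dA_sub, dA_dA, sub_zero, hz]
    obtain ⟨w, hw'⟩ := hwex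
    refine ⟨y - dA R B Mu m w, ?_, ?_⟩
    · rw [map_sub, dA_nat, hw', sub_self]
    · rw [dA_sub, dA_dA, sub_zero]

end Chase

end Groth.Agent.Helper1.Ami
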