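import Mathlib
import Groth.Prelude.Def_Adeq2
import Groth.Agent.Lib.Helper1.Ami4

set_option autoImplicit false
set_option linter.unusedSectionVars false
set_option linter.unusedVariables false
set_option maxHeartbeats 400000
universe u
open CategoryTheory CategoryTheory.Limits Opposite TensorProduct AlgebraicGeometry

namespace Groth.Agent.Helper1.Ami

open Groth.Agent.Helper1.Adq Groth.Agent.Helper1.AdqH Groth.Agent.Lib.Helper6.Adeq

section Fan

variable (R : CommRingCat.{u})

/-- an `R`-algebra as an object over `R` in the opposite category of rings -/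
noncomputable def thetaObj (C : Adeq.Alg R) : Over (op R : CommRingCatᵒᵖ) :=
  Over.mk ((CommRingCat.ofHom (algebraMap R C) : R ⟶ CommRingCat.of C).op)

noncomputable def thetaMap {C C' : Adeq.Alg R} (f : C ⟶ C') : thetaObj R C' ⟶ thetaObj R C :=
  Over.homMk ((CommRingCat.ofHom f.hom.toRingHom : CommRingCat.of C ⟶ CommRingCat.of C').op) (by
    change ((CommRingCat.ofHom f.hom.toRingHom).op ≫ (CommRingCat.ofHom (algebraMap R C)).op) =
      (CommRingCat.ofHom (algebraMap R C')).op
    rw [← op_comp, ← CommRingCat.ofHom_comp, AlgHom.toRingHom_eq_coe, AlgHom.comp_algebraMap])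


variable (B : Type u) [CommRing B] [Algebra R B] (n : ℕ)

/-- the fan of the tensor power -/
noncomputable def thFan : Fan (fun _ : Fin n => thetaObj R (Adeq.algOf R B)) :=
  Fan.mk (thetaObj R (amObj R B n)) (fun a => thetaMap R (CommAlgCat.ofHom (sg R B n a)))

/-- the algebra map attached to a morphism to `thetaObj` -/
noncomputable def algOfHom (Z : Over (op R : CommRingCatᵒᵖ)) (C : Adeq.Alg R)
    (q : Z ⟶ thetaObj R C) :
    letI : Algebra R Z.left.unop := Z.hom.unop.hom.toAlgebra
    (C →ₐ[R] Z.left.unop) :=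
  letI : Algebra R Z.left.unop := Z.hom.unop.hom.toAlgebra
  { toRingHom := q.left.unop.hom
    commutes' := fun r => by
      have h := Over.w q
      have h2 : (CommRingCat.ofHom (algebraMap R C) : R ⟶ CommRingCat.of C) ≫ q.left.unop =
          Z.hom.unop := congrArg Quiver.Hom.unop h
      exact congrArg (fun t => t.hom r) h2 }

/-- the morphism to `thetaObj` attached to an algebra map -/
noncomputable def homOfAlg (Z : Over (op R : CommRingCatᵒᵖ)) (C : Adeq.Alg R)
    (γ : letI : Algebra R Z.left.unop := Z.hom.unop.hom.toAlgebra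
      (C →ₐ[R] Z.left.unop)) : Z ⟶ thetaObj R C :=
  letI : Algebra R Z.left.unop := Z.hom.unop.hom.toAlgebra
  Over.homMk ((CommRingCat.ofHom γ.toRingHom : CommRingCat.of C ⟶ Z.left.unop).op) (by
    change (CommRingCat.ofHom γ.toRingHom).op ≫ (CommRingCat.ofHom (algebraMap R C)).op = Z.hom
    rw [← op_comp, ← CommRingCat.ofHom_comp, AlgHom.toRingHom_eq_coe, AlgHom.comp_algebraMap]
    rfl)

theorem homOfAlg_algOfHom (Z : Over (op R : CommRingCatᵒᵖ)) (C : Adeq.Alg R)
    (q : Z ⟶ thetaObj R C) : homOfAlg R Z C (algOfHom R Z C q) = q := by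
  apply Over.OverMorphism.ext
  rfl

theorem homOfAlg_comp (Z : Over (op R : CommRingCatᵒᵖ)) {C C' : Adeq.Alg R} (f : C ⟶ C')
    (γ : letI : Algebra R Z.left.unop := Z.hom.unop.hom.toAlgebra
      (C' →ₐ[R] Z.left.unop)) :
    letI : Algebra R Z.left.unop := Z.hom.unop.hom.toAlgebra
    homOfAlg R Z C' γ ≫ thetaMap R f = homOfAlg R Z C (γ.comp f.hom) := by
  apply Over.OverMorphism.ext
  rfl

theorem homOfAlg_injective (Z : Over (op R : CommRingCatᵒᵖ)) (C : Adeq.Alg R)
    (γ γ' : letI : Algebra R Z.left.unop := Z.hom.unop.hom.toAlgebra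
      (C →ₐ[R] Z.left.unop)) (h : homOfAlg R Z C γ = homOfAlg R Z C γ') : γ = γ' := by
  letI : Algebra R Z.left.unop := Z.hom.unop.hom.toAlgebra
  have h1 := congrArg (fun q => q.left.unop.hom) h
  apply AlgHom.ext
  intro c
  exact congrArg (fun t => t c) h1


/-- the tensor power is the product in the category over `R` -/
noncomputable def thFanIsLimit : IsLimit (thFan R B n) :=
  mkFanLimit _
    (fun s =>
      letI : Algebra R s.pt.left.unop := s.pt.hom.unop.hom.toAlgebra
      homOfAlg R s.pt (amObj R B n)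
        (liftFam (fun a => algOfHom R s.pt (Adeq.algOf R B) (s.proj a))))
    (fun s a => by
      letI : Algebra R s.pt.left.unop := s.pt.hom.unop.hom.toAlgebra
      change homOfAlg R s.pt (amObj R B n) _ ≫ thetaMap R (CommAlgCat.ofHom (sg R B n a)) = s.proj a
      rw [homOfAlg_comp]
      have h : (liftFam (fun a => algOfHom R s.pt (Adeq.algOf R B) (s.proj a))).comp
          (CommAlgCat.ofHom (sg R B n a)).hom = algOfHom R s.pt (Adeq.algOf R B) (s.proj a) :=
        liftFam_comp_single _ a
      rw [h, homOfAlg_algOfHom])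
    (fun s m hm => by
      letI : Algebra R s.pt.left.unop := s.pt.hom.unop.hom.toAlgebra
      rw [← homOfAlg_algOfHom R s.pt _ m]
      congr 1
      apply am_hom_ext
      intro a
      rw [liftFam_comp_single]
      apply homOfAlg_injective R s.pt (Adeq.algOf R B)
      have h := homOfAlg_comp R s.pt (CommAlgCat.ofHom (sg R B n a))
        (algOfHom R s.pt (amObj R B n) m)
      rw [homOfAlg_algOfHom] at h
      rw [homOfAlg_algOfHom]
      exact h.symm.trans (hm a))

end Fan


section Sp

variable (R : CommRingCat.{u})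

/-- the spectrum of an algebra, over `Spec R` -/
noncomputable abbrev spObj (C : Adeq.Alg R) : Over (Spec R) :=
  Over.mk (Spec.map (CommRingCat.ofHom (algebraMap R C)))

noncomputable abbrev spMap {C C' : Adeq.Alg R} (f : C ⟶ C') : spObj R C' ⟶ spObj R C :=
  (Over.post (X := (op R : CommRingCatᵒᵖ)) Scheme.Spec).map (thetaMap R f)

theorem spMap_left {C C' : Adeq.Alg R} (f : C ⟶ C') :
    (spMap R f).left = Spec.map (CommRingCat.ofHom f.hom.toRingHom) := rfl

variable (B : Type u) [CommRing B] [Algebra R B] (n : ℕ)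

/-- the spectrum of the tensor power is the product over `Spec R` -/
noncomputable def spFanIsLimit :
    IsLimit (Fan.mk (spObj R (amObj R B n))
      (fun a : Fin n => spMap R (CommAlgCat.ofHom (sg R B n a) : Adeq.algOf R B ⟶ amObj R B n))) :=
  isLimitMapConeFanMkEquiv (Over.post (X := (op R : CommRingCatᵒᵖ)) Scheme.Spec) _ _
    (isLimitOfPreserves (Over.post (X := (op R : CommRingCatᵒᵖ)) Scheme.Spec) (thFanIsLimit R B n))

end Sp

end Groth.Agent.Helper1.Ami
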