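import Mathlib

set_option autoImplicit false
set_option linter.unusedSectionVars false
set_option linter.unusedVariables false
set_option maxHeartbeats 400000
universe w v u
open CategoryTheory CategoryTheory.Limits Opposite

namespace Groth.Agent.Helper1.Ami

section CechModel

variable {D : Type u} [Category.{v} D] [HasFiniteProducts D] (Y₀ : D)
  (Q : Dᵒᵖ ⥤ AddCommGrpCat.{w})
  (W : SimplicialObject D)
  (p : ∀ (n : SimplexCategory) (k : Fin (n.len + 1)), W.obj (op n) ⟶ Y₀)
  (hp : ∀ n : SimplexCategory, IsLimit (Fan.mk (W.obj (op n)) (p n)))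
  (hθ : ∀ {m n : SimplexCategory} (θ : m ⟶ n) (k : Fin (m.len + 1)),
    W.map θ.op ≫ p m k = p n (θ.toOrderHom k))

/-- the constant family indexed by a one-point type -/
abbrev cfam : PUnit.{w + 1} → D := fun _ => Y₀

/-- the Čech cosimplicial group of the one-member family -/
noncomputable abbrev cechCos : CosimplicialObject AddCommGrpCat.{w} :=
  (FormalCoproduct.cosimplicialObjectFunctor
    (FormalCoproduct.mk PUnit.{w + 1} (cfam.{w} Y₀)).cech).obj Q

/-- comparison of the abstract product with the model -/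
noncomputable def modelIso (n : SimplexCategory) :
    W.obj (op n) ≅ ∏ᶜ (fun _ : Fin (n.len + 1) => Y₀) :=
  (hp n).conePointUniqueUpToIso (limit.isLimit _)

theorem modelIso_hom_π (n : SimplexCategory) (k : Fin (n.len + 1)) :
    (modelIso Y₀ W p hp n).hom ≫ Pi.π (fun _ : Fin (n.len + 1) => Y₀) k = p n k :=
  (hp n).conePointUniqueUpToIso_hom_comp (limit.isLimit _) ⟨k⟩

include hθ in
theorem modelIso_naturality {m n : SimplexCategory} (θ : m ⟶ n) :
    W.map θ.op ≫ (modelIso Y₀ W p hp m).hom =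
      (modelIso Y₀ W p hp n).hom ≫
        Pi.lift (fun k : Fin (m.len + 1) => Pi.π (fun _ : Fin (n.len + 1) => Y₀) (θ.toOrderHom k)) := by
  apply Pi.hom_ext
  intro k
  rw [Category.assoc, modelIso_hom_π, hθ, Category.assoc, Pi.lift_π, modelIso_hom_π]


/-- the unique multi-index -/
abbrev x0 (n : SimplexCategory) : Fin (n.len + 1) → PUnit.{w + 1} := fun _ => PUnit.unit

/-- the comparison in each degree -/
noncomputable def termIso (n : SimplexCategory) :
    (cechCos.{w} Y₀ Q).obj n ≅ Q.obj (op (W.obj (op n))) :=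
  (productUniqueIso (fun x : Fin (n.len + 1) → PUnit.{w + 1} =>
      Q.obj (op (∏ᶜ (fun k : Fin (n.len + 1) => cfam.{w} Y₀ (x k)))))) ≪≫
    Q.mapIso (modelIso Y₀ W p hp n).op

theorem termIso_hom (n : SimplexCategory) :
    (termIso.{w} Y₀ Q W p hp n).hom =
      Pi.π (fun x : Fin (n.len + 1) → PUnit.{w + 1} =>
        Q.obj (op (∏ᶜ (fun k : Fin (n.len + 1) => cfam.{w} Y₀ (x k))))) (x0 n) ≫
        Q.map (modelIso Y₀ W p hp n).hom.op := rfl

include hθ in
theorem termIso_naturality {m n : SimplexCategory} (θ : m ⟶ n) :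
    (cechCos.{w} Y₀ Q).map θ ≫ (termIso.{w} Y₀ Q W p hp n).hom =
      (termIso.{w} Y₀ Q W p hp m).hom ≫ Q.map (W.map θ.op).op := by
  have hA : (cechCos.{w} Y₀ Q).map θ = Pi.lift (fun (b : Fin (n.len + 1) → PUnit.{w + 1}) =>
      Pi.π (fun (c : Fin (m.len + 1) → PUnit.{w + 1}) =>
        Q.obj (op (∏ᶜ (fun k : Fin (m.len + 1) => cfam.{w} Y₀ (c k))))) (b ∘ θ.toOrderHom) ≫
        Q.map (Pi.lift (fun k : Fin (m.len + 1) =>
          Pi.π (fun k : Fin (n.len + 1) => cfam.{w} Y₀ (b k)) (θ.toOrderHom k))).op) := rfl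
  rw [termIso_hom, termIso_hom, hA]
  refine ((Category.assoc _ _ _).symm.trans (congrArg (· ≫ _) (Pi.lift_π _ (x0 n)))).trans ?_
  refine (Category.assoc _ _ _).trans (Eq.trans ?_ (Category.assoc _ _ _).symm)
  refine congrArg (_ ≫ ·) ?_
  rw [← Q.map_comp, ← Q.map_comp, ← op_comp, ← op_comp]
  congr 2
  exact (modelIso_naturality Y₀ W p hp hθ θ).symm

/-- the Čech cosimplicial group is computed by the model -/
noncomputable def cechCosIso : cechCos.{w} Y₀ Q ≅ W.rightOp ⋙ Q :=
  NatIso.ofComponents (fun n => termIso.{w} Y₀ Q W p hp n)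
    (fun θ => termIso_naturality.{w} Y₀ Q W p hp hθ θ)

end CechModel


section Exact

open AlgebraicTopology

theorem coface_exactAt (X : CosimplicialObject AddCommGrpCat.{w}) (n : ℕ)
    (h : ∀ x : X.obj (SimplexCategory.mk (n + 1)),
      (AlternatingCofaceMapComplex.objD X (n + 1)).hom x = 0 →
        ∃ y : X.obj (SimplexCategory.mk n), (AlternatingCofaceMapComplex.objD X n).hom y = x) :
    ((alternatingCofaceMapComplex AddCommGrpCat.{w}).obj X).ExactAt (n + 1) := by
  rw [HomologicalComplex.exactAt_iff' _ n (n + 1) (n + 2) (by simp) (by simp),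
    ShortComplex.ab_exact_iff]
  intro x hx
  have hd1 : ((alternatingCofaceMapComplex AddCommGrpCat.{w}).obj X).d (n + 1) (n + 2) =
      AlternatingCofaceMapComplex.objD X (n + 1) :=
    CochainComplex.of_d (V := AddCommGrpCat.{w}) _ (AlternatingCofaceMapComplex.objD X) (n + 1)
  have hd0 : ((alternatingCofaceMapComplex AddCommGrpCat.{w}).obj X).d n (n + 1) =
      AlternatingCofaceMapComplex.objD X n :=
    CochainComplex.of_d (V := AddCommGrpCat.{w}) _ (AlternatingCofaceMapComplex.objD X) n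
  have hx' : (AlternatingCofaceMapComplex.objD X (n + 1)).hom x = 0 := by
    rw [← hd1]
    exact hx
  obtain ⟨y, hy⟩ := h x hx'
  refine ⟨y, ?_⟩
  change (((alternatingCofaceMapComplex AddCommGrpCat.{w}).obj X).d n (n + 1)).hom y = x
  rw [hd0]
  exact hy

end Exact

end Groth.Agent.Helper1.Ami
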