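import Mathlib
import Groth.Prelude.Def_Adeq2
import Groth.Agent.Lib.Helper1.Ami5
import Groth.Agent.Lib.Helper1.Ami6

set_option autoImplicit false
set_option linter.unusedSectionVars false
set_option linter.unusedVariables false
set_option maxHeartbeats 400000
universe u
open CategoryTheory CategoryTheory.Limits Opposite TensorProduct AlgebraicGeometry

namespace Groth.Agent.Helper1.Ami

open Groth.Agent.Helper1.Adq Groth.Agent.Helper1.AdqH Groth.Agent.Lib.Helper6.Adeq Groth.Agent.Helper1.AdqS

section SpFun

variable (R : CommRingCat.{u})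

/-- `thetaObj` as a functor -/
noncomputable def thetaFun : (Adeq.Alg R)ᵒᵖ ⥤ Over (op R : CommRingCatᵒᵖ) where
  obj C := thetaObj R C.unop
  map f := thetaMap R f.unop
  map_id C := by
    apply Over.OverMorphism.ext
    rfl
  map_comp f g := by
    apply Over.OverMorphism.ext
    rfl

/-- the spectrum functor from algebras to schemes over `Spec R` -/
noncomputable def spFun : (Adeq.Alg R)ᵒᵖ ⥤ Over (Spec R) :=
  thetaFun R ⋙ Over.post (X := (op R : CommRingCatᵒᵖ)) Scheme.Spec

theorem spFun_map {C C' : Adeq.Alg R} (f : C ⟶ C') : (spFun R).map f.op = spMap R f := rfl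

theorem spMap_comp {C C' C'' : Adeq.Alg R} (f : C ⟶ C') (g : C' ⟶ C'') :
    spMap R g ≫ spMap R f = spMap R (f ≫ g) := by
  have h := (spFun R).map_comp g.op f.op
  rw [← op_comp] at h
  exact h.symm

variable (B : Type u) [CommRing B] [Algebra R B]

/-- the Čech nerve model -/
noncomputable def Wm : SimplicialObject (Over (Spec R)) := (amCos R B).op ⋙ spFun R

/-- the projections of the model -/
noncomputable def pm (n : SimplexCategory) (k : Fin (n.len + 1)) :
    (Wm R B).obj (op n) ⟶ spObj R (Adeq.algOf R B) :=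
  spMap R (CommAlgCat.ofHom (sg R B (n.len + 1) k) : Adeq.algOf R B ⟶ amObj R B (n.len + 1))

noncomputable def hpm (n : SimplexCategory) : IsLimit (Fan.mk ((Wm R B).obj (op n)) (pm R B n)) :=
  spFanIsLimit R B (n.len + 1)

theorem hθm {m n : SimplexCategory} (θ : m ⟶ n) (k : Fin (m.len + 1)) :
    (Wm R B).map θ.op ≫ pm R B m k = pm R B n (θ.toOrderHom k) := by
  change spMap R (amHom R B (θ.toOrderHom : Fin (m.len + 1) → Fin (n.len + 1))) ≫
    spMap R (CommAlgCat.ofHom (sg R B (m.len + 1) k)) = _
  rw [spMap_comp]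
  unfold pm
  congr 1
  apply CommAlgCat.hom_ext
  exact amMap_comp_sg R B _ k

end SpFun


section Main

variable {S : Scheme.{u}} (M : BigSite.Mod Scheme.fppfPrecoverage S) (R : CommRingCat.{u})
  (a : Spec R ⟶ S) (B : Type u) [CommRing B] [Algebra R B]

/-- the presheaf on schemes over `Spec R` -/
noncomputable abbrev Qa : (Over (Spec R))ᵒᵖ ⥤ AddCommGrpCat.{u + 1} :=
  (Over.map a).op ⋙ ((BigSite.toAbMod Scheme.fppfPrecoverage S).obj M).obj

/-- the model cosimplicial group is the Amitsur cosimplicial group -/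
noncomputable def modelCosIso :
    (Wm R B).rightOp ⋙ Qa M R a ≅
      amCosF R B ((Adeq.toMVF Scheme.fppfPrecoverage a).obj M) :=
  NatIso.ofComponents (fun n => Iso.refl _) (fun θ => by
    refine (Category.comp_id _).trans (Eq.trans ?_ (Category.id_comp _).symm)
    rfl)


/-- the Čech cosimplicial group of the one-member cover is the Amitsur cosimplicial group -/
noncomputable def cechAmIso :
    cechCos.{u + 1} (spObj R (Adeq.algOf R B)) (Qa M R a) ≅
      amCosF R B ((Adeq.toMVF Scheme.fppfPrecoverage a).obj M) :=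
  cechCosIso.{u + 1} (spObj R (Adeq.algOf R B)) (Qa M R a) (Wm R B) (pm R B) (hpm R B)
    (fun θ k => hθm R B θ k) ≪≫ modelCosIso M R a B

open AlgebraicTopology in
/-- **exactness of the Čech complex of an adequate module for a faithfully flat one-member cover** -/
theorem cech_exactAt (hM : Adeq.adequateMod Scheme.fppfPrecoverage S M)
    [Module.FaithfullyFlat R B] (n : ℕ) (hn : 0 < n) :
    ((cechComplexFunctor (A := AddCommGrpCat.{u + 1})
        (fun _ : PUnit.{u + 2} =>
          (Over.mk (Spec.map (CommRingCat.ofHom (algebraMap R B))) : Over (Spec R)))).obj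
      ((Over.map a).op ⋙ ((BigSite.toAbMod Scheme.fppfPrecoverage S).obj M).obj)).ExactAt n := by
  obtain ⟨k, rfl⟩ : ∃ k, n = k + 1 := ⟨n - 1, by omega⟩
  let F := (Adeq.toMVF Scheme.fppfPrecoverage a).obj M
  have hF : Adeq.adequate R F := adequate_toMVF_fppf S M hM R a
  have h1 : ((alternatingCofaceMapComplex AddCommGrpCat.{u + 1}).obj (amCosF R B F)).ExactAt (k + 1) := by
    apply coface_exactAt
    intro x hx
    have hx' : dA R B F (k + 2) x = 0 := by
      rw [← objD_apply]
      exact hx
    obtain ⟨y, hy⟩ := dA_adequate_exact R B F hF (k + 1) x hx'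
    refine ⟨y, ?_⟩
    rw [objD_apply]
    exact hy
  exact h1.of_iso ((alternatingCofaceMapComplex AddCommGrpCat.{u + 1}).mapIso
    (cechAmIso M R a B)).symm

end Main

end Groth.Agent.Helper1.Ami
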