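import Mathlib
import Groth.Prelude.Def_Adeq2
import Groth.Agent.Lib.Helper1.Ami2

set_option autoImplicit false
set_option linter.unusedSectionVars false
set_option linter.unusedVariables false
set_option maxHeartbeats 400000
universe u
open CategoryTheory CategoryTheory.Limits Opposite TensorProduct

namespace Groth.Agent.Helper1.Car

open Groth.Agent.Helper1.Adq Groth.Agent.Helper1.AdqH Groth.Agent.Helper1.Ami

section Gen

variable (R : Type u) [CommRing R] (B : Type u) [CommRing B] [Algebra R B]
  (G : Adeq.Alg R ⥤ AddCommGrpCat.{u + 1})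

/-- the Amitsur cosimplicial group of a functor on algebras -/
noncomputable abbrev amCosG : CosimplicialObject AddCommGrpCat.{u + 1} := amCos R B ⋙ G

/-- the Amitsur differential of a functor on algebras -/
noncomputable def dG (n : ℕ) : G.obj (amObj R B (n + 1)) →+ G.obj (amObj R B (n + 2)) :=
  (AlgebraicTopology.AlternatingCofaceMapComplex.objD (amCosG R B G) n).hom

theorem dG_apply (n : ℕ) (x : G.obj (amObj R B (n + 1))) :
    dG R B G n x =
      ∑ i : Fin (n + 2), (-1 : ℤ) ^ (i : ℕ) • (G.map (amHom R B (Fin.succAbove i))).hom x := by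
  unfold dG AlgebraicTopology.AlternatingCofaceMapComplex.objD
  refine (ab_sum_apply (P := (amCosG R B G).obj (SimplexCategory.mk n))
    (Q := (amCosG R B G).obj (SimplexCategory.mk (n + 1))) _ _ x).trans ?_
  apply Finset.sum_congr rfl
  intro i _
  rw [AddCommGrpCat.hom_zsmul]
  rfl

theorem dG_dG (n : ℕ) (x : G.obj (amObj R B (n + 1))) :
    dG R B G (n + 1) (dG R B G n x) = 0 := by
  have h := AlgebraicTopology.AlternatingCofaceMapComplex.d_squared (amCosG R B G) n
  exact ConcreteCategory.congr_hom h x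

variable {G} in
theorem dG_nat {G' : Adeq.Alg R ⥤ AddCommGrpCat.{u + 1}} (α : G ⟶ G') (n : ℕ)
    (x : G.obj (amObj R B (n + 1))) :
    (α.app _).hom (dG R B G n x) = dG R B G' n ((α.app _).hom x) := by
  rw [dG_apply, dG_apply, map_sum]
  apply Finset.sum_congr rfl
  intro i _
  rw [map_zsmul]
  congr 1
  exact ConcreteCategory.congr_hom (α.naturality (amHom R B (Fin.succAbove i))) x

/-- exactness of the Amitsur complex in positive Čech degrees -/
def AmExact : Prop :=
  ∀ (n : ℕ) (x : G.obj (amObj R B (n + 2))), dG R B G (n + 1) x = 0 →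
    ∃ y : G.obj (amObj R B (n + 1)), dG R B G n y = x

variable {G} in
theorem amExact_of_iso {G' : Adeq.Alg R ⥤ AddCommGrpCat.{u + 1}} (e : G ≅ G')
    (h : AmExact R B G) : AmExact R B G' := by
  intro n x hx
  obtain ⟨y, hy⟩ := h n ((e.inv.app _).hom x) (by rw [← dG_nat, hx, map_zero])
  refine ⟨(e.hom.app _).hom y, ?_⟩
  rw [← dG_nat, hy]
  exact ConcreteCategory.congr_hom (e.inv_hom_id_app _) x

open AlgebraicTopology in
theorem amExact_of_exactAt
    (h : ∀ n : ℕ, ((alternatingCofaceMapComplex AddCommGrpCat.{u + 1}).obj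
      (amCosG R B G)).ExactAt (n + 1)) : AmExact R B G := by
  intro n x hx
  have h1 := h n
  rw [HomologicalComplex.exactAt_iff' _ n (n + 1) (n + 2) (by simp) (by simp),
    ShortComplex.ab_exact_iff] at h1
  have hd1 : ((alternatingCofaceMapComplex AddCommGrpCat.{u + 1}).obj (amCosG R B G)).d (n + 1) (n + 2) =
      AlternatingCofaceMapComplex.objD (amCosG R B G) (n + 1) :=
    CochainComplex.of_d (V := AddCommGrpCat.{u + 1}) _
      (AlternatingCofaceMapComplex.objD (amCosG R B G)) (n + 1)
  have hd0 : ((alternatingCofaceMapComplex AddCommGrpCat.{u + 1}).obj (amCosG R B G)).d n (n + 1) =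
      AlternatingCofaceMapComplex.objD (amCosG R B G) n :=
    CochainComplex.of_d (V := AddCommGrpCat.{u + 1}) _
      (AlternatingCofaceMapComplex.objD (amCosG R B G)) n
  obtain ⟨y, hy⟩ := h1 x (by
    change (((alternatingCofaceMapComplex AddCommGrpCat.{u + 1}).obj (amCosG R B G)).d (n + 1) (n + 2)).hom x = 0
    rw [hd1]
    exact hx)
  refine ⟨y, ?_⟩
  have hy' : (((alternatingCofaceMapComplex AddCommGrpCat.{u + 1}).obj (amCosG R B G)).d n (n + 1)).hom y = x := hy
  rw [hd0] at hy'
  exact hy'

end Gen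

section MVF

variable (R : Type u) [CommRing R] (B : Type u) [CommRing B] [Algebra R B] (F : Adeq.MVF R)

theorem dG_toAb (n : ℕ) (x : F.obj (Adeq.pt (amObj R B (n + 1)))) :
    dG R B F.toAb n x = dA R B F (n + 1) x :=
  objD_apply R B F n x

end MVF

end Groth.Agent.Helper1.Car
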