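import Mathlib
import Groth.Prelude.Def_Adeq2
import Groth.Agent.Lib.Helper1.Car1

set_option autoImplicit false
set_option linter.unusedSectionVars false
set_option linter.unusedVariables false
set_option maxHeartbeats 400000
universe u
open CategoryTheory CategoryTheory.Limits Opposite TensorProduct

namespace Groth.Agent.Helper1.Car

open Groth.Agent.Helper1.Adq Groth.Agent.Helper1.AdqH Groth.Agent.Helper1.Ami
  Groth.Agent.Helper1.AdqS

section GM

variable {R : Type u} [CommRing R] (G : Adeq.Alg R ⥤ AddCommGrpCat.{u + 1})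

theorem gmap_comp {X Y Z : Adeq.Alg R} (f : X ⟶ Y) (g : Y ⟶ Z) (x : G.obj X) :
    (G.map g).hom ((G.map f).hom x) = (G.map (f ≫ g)).hom x := by
  rw [G.map_comp]
  rfl

theorem gmap_id {X : Adeq.Alg R} (x : G.obj X) : (G.map (𝟙 X)).hom x = x := by
  rw [G.map_id]
  rfl

theorem gmap_congr {X Y : Adeq.Alg R} {f g : X ⟶ Y} (h : f = g) (x : G.obj X) :
    (G.map f).hom x = (G.map g).hom x := by rw [h]

end GM

section Cmp

variable (R B : Type u) [CommRing R] [CommRing B] [Algebra R B]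

noncomputable def e1 : P1 R B ⟶ amObj R B 1 := CommAlgCat.ofHom (sg R B 1 0)

noncomputable def r1 : amObj R B 1 ⟶ P1 R B :=
  CommAlgCat.ofHom (liftFam (fun _ : Fin 1 => AlgHom.id R B))

theorem r1_e1 : r1 R B ≫ e1 R B = 𝟙 (amObj R B 1) := by
  apply CommAlgCat.hom_ext
  apply am_hom_ext
  intro a
  obtain rfl : a = 0 := Subsingleton.elim _ _
  refine AlgHom.ext (fun b => ?_)
  change sg R B 1 0 (liftFam (fun _ : Fin 1 => AlgHom.id R B) (sg R B 1 0 b)) = sg R B 1 0 b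
  rw [liftFam_single]
  rfl

noncomputable def e2 : CC R B (P1 R B) ⟶ amObj R B 2 :=
  ee' R B ≫ CommAlgCat.ofHom (Algebra.TensorProduct.productMap (sg R B 2 0) (sg R B 2 1))

theorem e2_apply (b c : B) : (e2 R B).hom (b ⊗ₜ[R] c) = sg R B 2 0 b * sg R B 2 1 c :=
  Algebra.TensorProduct.productMap_apply_tmul _ _ b c

/-- the family for the retraction -/
noncomputable def fam2 : Fin 2 → (B →ₐ[R] B ⊗[R] B) := fun k =>
  if k = 0 then Algebra.TensorProduct.includeLeft else Algebra.TensorProduct.includeRight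

noncomputable def r2 : amObj R B 2 ⟶ CC R B (P1 R B) :=
  (CommAlgCat.ofHom (liftFam (fam2 R B)) : amObj R B 2 ⟶ Adeq.algOf R (B ⊗[R] B)) ≫ ee R B

theorem r2_sg0 (b : B) : (r2 R B).hom (sg R B 2 0 b) = b ⊗ₜ[R] (1 : B) := by
  change liftFam (fam2 R B) (sg R B 2 0 b) = _
  rw [liftFam_single]
  rfl

theorem r2_sg1 (b : B) : (r2 R B).hom (sg R B 2 1 b) = (1 : B) ⊗ₜ[R] b := by
  change liftFam (fam2 R B) (sg R B 2 1 b) = _
  rw [liftFam_single]
  rfl

theorem e2_r2 : e2 R B ≫ r2 R B = 𝟙 _ := by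
  apply cc_hom_ext
  intro b c
  change (r2 R B).hom ((e2 R B).hom (b ⊗ₜ[R] c)) = b ⊗ₜ[R] c
  rw [e2_apply, map_mul, r2_sg0, r2_sg1, Algebra.TensorProduct.tmul_mul_tmul, mul_one, one_mul]

noncomputable def g3 : CC R B (P1 R B) ⟶ amObj R B 3 :=
  ee' R B ≫ CommAlgCat.ofHom (Algebra.TensorProduct.productMap (sg R B 3 1) (sg R B 3 2))

theorem g3_apply (b c : B) : (g3 R B).hom (b ⊗ₜ[R] c) = sg R B 3 1 b * sg R B 3 2 c :=
  Algebra.TensorProduct.productMap_apply_tmul _ _ b c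

/-- the coproduct property of `CC` -/
noncomputable def ccDesc {X D : Adeq.Alg R} (f : P1 R B ⟶ D) (g : X ⟶ D) : CC R B X ⟶ D :=
  ConcreteCategory.ofHom (C := CommAlgCat R) (X := CC R B X) (Y := D)
    (@AlgHom.mk R (B ⊗[R] X) D _ _ _ (CC R B X).algebra _
      (Algebra.TensorProduct.productMap f.hom g.hom).toRingHom (fun r => by
        change Algebra.TensorProduct.productMap f.hom g.hom
          ((algebraMap R B r) ⊗ₜ[R] (1 : X)) = _
        rw [Algebra.TensorProduct.productMap_apply_tmul, map_one, mul_one, AlgHom.commutes]))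

theorem ccDesc_apply {X D : Adeq.Alg R} (f : P1 R B ⟶ D) (g : X ⟶ D) (b : B) (x : X) :
    (ccDesc R B f g).hom (b ⊗ₜ[R] x) = f.hom b * g.hom x :=
  Algebra.TensorProduct.productMap_apply_tmul _ _ b x

noncomputable def e3 : CC R B (CC R B (P1 R B)) ⟶ amObj R B 3 :=
  ccDesc R B (CommAlgCat.ofHom (sg R B 3 0)) (g3 R B)

theorem e3_unit (x : CC R B (P1 R B)) :
    (e3 R B).hom ((Adeq.Alg.unit R B (CC R B (P1 R B))).hom x) = (g3 R B).hom x := by
  rw [unit_apply]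
  unfold e3
  rw [ccDesc_apply]
  change sg R B 3 0 1 * _ = _
  rw [map_one, one_mul]

theorem e3_CCm {X : Adeq.Alg R} (f : X ⟶ CC R B (P1 R B)) (b : B) (x : X) :
    (e3 R B).hom ((CCm R B f).hom (b ⊗ₜ[R] x)) = sg R B 3 0 b * (g3 R B).hom (f.hom x) := by
  rw [CCmap_apply]
  unfold e3
  rw [ccDesc_apply]
  rfl

theorem cmp_i : Adeq.Alg.unit R B (CC R B (P1 R B)) ≫ e3 R B =
    e2 R B ≫ amHom R B (Fin.succAbove (0 : Fin 3)) := by
  apply cc_hom_ext
  intro b c
  change (e3 R B).hom ((Adeq.Alg.unit R B (CC R B (P1 R B))).hom (b ⊗ₜ[R] c)) =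
    amMap R B (Fin.succAbove (0 : Fin 3)) ((e2 R B).hom (b ⊗ₜ[R] c))
  rw [e3_unit, g3_apply, e2_apply, map_mul, amMap_sg, amMap_sg]
  rfl

theorem cmp_ii : CCm R B (Adeq.Alg.unit R B (P1 R B)) ≫ e3 R B =
    e2 R B ≫ amHom R B (Fin.succAbove (1 : Fin 3)) := by
  apply cc_hom_ext
  intro b c
  change (e3 R B).hom ((CCm R B (Adeq.Alg.unit R B (P1 R B))).hom (b ⊗ₜ[R] c)) =
    amMap R B (Fin.succAbove (1 : Fin 3)) ((e2 R B).hom (b ⊗ₜ[R] c))
  rw [e3_CCm, unit_apply, g3_apply, e2_apply, map_mul, amMap_sg, amMap_sg, map_one, one_mul]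
  rfl

theorem cmp_iii : CCm R B (jC R B (P1 R B)) ≫ e3 R B =
    e2 R B ≫ amHom R B (Fin.succAbove (2 : Fin 3)) := by
  apply cc_hom_ext
  intro b c
  change (e3 R B).hom ((CCm R B (jC R B (P1 R B))).hom (b ⊗ₜ[R] c)) =
    amMap R B (Fin.succAbove (2 : Fin 3)) ((e2 R B).hom (b ⊗ₜ[R] c))
  rw [e3_CCm, jC_apply, g3_apply, e2_apply, map_mul, amMap_sg, amMap_sg, map_one, mul_one]
  rfl

theorem cmp_iv : Adeq.Alg.unit R B (P1 R B) ≫ e2 R B =
    e1 R B ≫ amHom R B (Fin.succAbove (0 : Fin 2)) := by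
  apply CommAlgCat.hom_ext
  refine AlgHom.ext (fun b => ?_)
  change (e2 R B).hom ((Adeq.Alg.unit R B (P1 R B)).hom b) =
    amMap R B (Fin.succAbove (0 : Fin 2)) (sg R B 1 0 b)
  rw [unit_apply, e2_apply, amMap_sg, map_one, one_mul]
  rfl

theorem cmp_v : jC R B (P1 R B) ≫ e2 R B =
    e1 R B ≫ amHom R B (Fin.succAbove (1 : Fin 2)) := by
  apply CommAlgCat.hom_ext
  refine AlgHom.ext (fun b => ?_)
  change (e2 R B).hom ((jC R B (P1 R B)).hom b) =
    amMap R B (Fin.succAbove (1 : Fin 2)) (sg R B 1 0 b)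
  rw [jC_apply, e2_apply, amMap_sg, map_one, mul_one]
  rfl

section H1

variable (G : Adeq.Alg R ⥤ AddCommGrpCat.{u + 1})

/-- standard-model degree-one Čech vanishing -/
def H1std : Prop :=
  ∀ c : G.obj (CC R B (P1 R B)),
    (G.map (Adeq.Alg.unit R B (CC R B (P1 R B)))).hom c -
      (G.map (CCm R B (Adeq.Alg.unit R B (P1 R B)))).hom c +
      (G.map (CCm R B (jC R B (P1 R B)))).hom c = 0 →
    ∃ z : G.obj (P1 R B),
      c = (G.map (Adeq.Alg.unit R B (P1 R B))).hom z - (G.map (jC R B (P1 R B))).hom z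

theorem h1std_of_amExact (h : AmExact R B G) : H1std R B G := by
  intro c hc
  have hx : dG R B G 1 ((G.map (e2 R B)).hom c) = 0 := by
    rw [dG_apply, Fin.sum_univ_three]
    simp only [Fin.val_zero, pow_zero, one_smul, Fin.val_one, pow_one, neg_smul, Fin.val_two,
      even_two, Even.neg_pow, one_pow]
    rw [gmap_comp, gmap_comp, gmap_comp, ← cmp_i, ← cmp_ii, ← cmp_iii, ← gmap_comp, ← gmap_comp,
      ← gmap_comp G (CCm R B (jC R B (P1 R B))), ← sub_eq_add_neg, ← map_sub, ← map_add, hc, map_zero]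
  obtain ⟨y, hy⟩ := h 0 _ hx
  refine ⟨(G.map (r1 R B)).hom y, ?_⟩
  have hy1 : (G.map (e1 R B)).hom ((G.map (r1 R B)).hom y) = y := by
    rw [gmap_comp, gmap_congr G (r1_e1 R B), gmap_id]
  have h2 : (G.map (e2 R B)).hom ((G.map (Adeq.Alg.unit R B (P1 R B))).hom ((G.map (r1 R B)).hom y) -
      (G.map (jC R B (P1 R B))).hom ((G.map (r1 R B)).hom y)) = (G.map (e2 R B)).hom c := by
    rw [map_sub, gmap_comp G (Adeq.Alg.unit R B (P1 R B)), gmap_comp G (jC R B (P1 R B)), cmp_iv,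
      cmp_v, ← gmap_comp G (e1 R B), ← gmap_comp G (e1 R B), hy1, ← hy, dG_apply, Fin.sum_univ_two]
    simp only [Fin.val_zero, pow_zero, one_smul, Fin.val_one, pow_one, neg_smul]
    rw [sub_eq_add_neg]
  have h3 := congrArg (G.map (r2 R B)).hom h2
  have key : ∀ t : G.obj (CC R B (P1 R B)), (G.map (r2 R B)).hom ((G.map (e2 R B)).hom t) = t := by
    intro t
    rw [gmap_comp G (e2 R B), gmap_congr G (e2_r2 R B), gmap_id]
  rw [key, key] at h3
  exact h3.symm

end H1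

end Cmp

end Groth.Agent.Helper1.Car
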