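import Mathlib
import Groth.Prelude.Def_Adeq2
import Groth.Agent.Lib.Helper1.Car2
import Groth.Agent.Lib.Helper1.AdqH5

set_option autoImplicit false
set_option linter.unusedSectionVars false
set_option linter.unusedVariables false
set_option maxHeartbeats 400000
universe u
open CategoryTheory CategoryTheory.Limits AlgebraicGeometry Opposite TensorProduct

namespace Groth.Agent.Helper1.Car

open Groth.Agent.Helper1.Adq Groth.Agent.Helper1.AdqH Groth.Agent.Helper1.Ami
  Groth.Agent.Helper1.AdqS Groth.Agent.Helper1.AdqP Groth.Agent.Helper1.SigSh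

section TypeSheaf

variable (K : Precoverage Scheme.{u}) {T : Scheme.{u}} (P : (Over T)ᵒᵖ ⥤ Type (u + 1))
  (hP : Presieve.IsSheaf (QuotSh.J K T) P)

include hP in
/-- sections over an empty scheme are unique -/
theorem subsingleton_of_isEmpty (hK : Scheme.zariskiPrecoverage ≤ K)
    (Z : Over T) [IsEmpty Z.left] : Subsingleton (P.obj (op Z)) := by
  have hbot : (⊥ : Sieve Z) ∈ QuotSh.J K T Z := by
    change _ ∈ (K.toGrothendieck.over T) _
    rw [GrothendieckTopology.mem_over_iff]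
    have : Sieve.overEquiv Z (⊥ : Sieve Z) = ⊥ := by
      ext Y f
      rw [Sieve.overEquiv_iff]
      exact Iff.rfl
    rw [this, ← Sieve.generate_bot]
    exact Precoverage.generate_mem_toGrothendieck (hK _ (Scheme.bot_mem_precoverage _ Z.left))
  have hsep := hP.isSeparated
  exact ⟨fun x y => (hsep _ hbot).ext (fun V i hi => hi.elim)⟩

include hP in
/-- gluing sections over a disjoint open cover -/
theorem glue_disjoint' (hK : Scheme.zariskiPrecoverage ≤ K) {V : Over T}
    {κ : Type*} (W : κ → Over T) (n : ∀ k, W k ⟶ V)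
    (hopen : ∀ k, IsOpenImmersion (n k).left)
    (hsurj : ∀ v : V.left, ∃ k, v ∈ Set.range (n k).left)
    (hdisj : ∀ k l, k ≠ l → Disjoint (Set.range (n k).left) (Set.range (n l).left))
    (t : ∀ k, P.obj (op (W k))) :
    ∃ t' : P.obj (op V), ∀ k, P.map (n k).op t' = t k := by
  have hcov := ofArrows_mem_J_of_open K hK V W n hopen hsurj
  have h1 : Presieve.IsSheafFor P (Presieve.ofArrows W n) :=
    (Presieve.isSheafFor_iff_generate _).2 (hP _ hcov)
  rw [Presieve.isSheafFor_arrows_iff] at h1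
  obtain ⟨t', ht', -⟩ := h1 t (by
    intro i j Z gi gj hg
    by_cases h : i = j
    · subst h
      haveI : Mono (n i).left := inferInstance
      haveI : Mono (n i) := Over.mono_of_mono_left _
      rw [(cancel_mono (n i)).1 hg]
    · haveI : IsEmpty Z.left := by
        refine ⟨fun z => ?_⟩
        have h2 : (n i).left (gi.left z) = (n j).left (gj.left z) := by
          have h3 := congrArg (fun q => q.left z) hg
          exact h3
        exact (hdisj i j h).le_bot ⟨⟨gi.left z, rfl⟩, ⟨gj.left z, h2.symm⟩⟩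
      exact (subsingleton_of_isEmpty K P hP hK Z).elim _ _)
  exact ⟨t', ht'⟩

include hP in
/-- the sheaf condition for a covering singleton -/
theorem isSheafFor_cover' {U V : Over T} (w : V ⟶ U)
    (hcov : Sieve.generate (Presieve.singleton w) ∈ QuotSh.J K T U) :
    Presieve.IsSheafFor P (Presieve.singleton w) :=
  (Presieve.isSheafFor_iff_generate _).2 (hP _ hcov)

end TypeSheaf

section AbSheaf

variable {T : Scheme.{u}}

/-- the topology -/
abbrev JT (T : Scheme.{u}) : GrothendieckTopology (Over T) := QuotSh.J Scheme.fppfPrecoverage T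

theorem presieve_isSheaf' (F : Sheaf (JT T) AddCommGrpCat.{u + 1}) :
    Presieve.IsSheaf (JT T) (F.obj ⋙ forget AddCommGrpCat) :=
  (isSheaf_iff_isSheaf_of_type _ _).1
    ((Presheaf.isSheaf_iff_isSheaf_forget _ _ (forget _)).1 F.property)

theorem mono_app_injective {F G : Sheaf (JT T) AddCommGrpCat.{u + 1}} (f : F ⟶ G) [Mono f]
    (U : Over T) : Function.Injective (f.hom.app (op U)).hom := by
  have h1 : Mono ((sheafToPresheaf _ _).map f) := inferInstance
  have h2 : Mono (((sheafToPresheaf _ _).map f).app (op U)) := inferInstance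
  exact (AddCommGrpCat.mono_iff_injective _).1 h2

theorem exact_app (C : ShortComplex (Sheaf (JT T) AddCommGrpCat.{u + 1})) (hC : C.ShortExact)
    (U : Over T) (s : C.X₂.obj.obj (op U)) (hs : (C.g.hom.app (op U)).hom s = 0) :
    ∃ z : C.X₁.obj.obj (op U), (C.f.hom.app (op U)).hom z = s := by
  let E : Sheaf (JT T) AddCommGrpCat.{u + 1} ⥤ AddCommGrpCat.{u + 1} :=
    sheafToPresheaf _ _ ⋙ (evaluation _ _).obj (op U)
  haveI : E.PreservesZeroMorphisms := ⟨fun _ _ => rfl⟩
  haveI := hC.mono_f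
  have hC' := hC.exact.map_of_mono_of_preservesKernel E hC.mono_f inferInstance
  rw [ShortComplex.ab_exact_iff] at hC'
  exact hC' s hs

theorem imageSieve_mem_of_epi' {F G : Sheaf (JT T) AddCommGrpCat.{u + 1}} (p : F ⟶ G) [Epi p]
    (U : Over T) (s : G.obj.obj (op U)) :
    Presheaf.imageSieve p.hom (U := U) s ∈ JT T U := by
  have hls : Sheaf.IsLocallySurjective p := (Sheaf.isLocallySurjective_iff_epi' (φ := p)).2 inferInstance
  exact Presheaf.imageSieve_mem (JT T) p.hom (U := op U) s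

end AbSheaf

section Lift

open Groth.Agent.Lib.Helper6.Adeq

variable {T : Scheme.{u}}

/-- sections over affine objects, as a functor on algebras -/
noncomputable abbrev gv (𝓖 : (Over T)ᵒᵖ ⥤ AddCommGrpCat.{u + 1}) {R : CommRingCat.{u}}
    (v : Spec R ⟶ T) : Adeq.Alg R ⥤ AddCommGrpCat.{u + 1} := (Adeq.specOver v).rightOp ⋙ 𝓖

noncomputable abbrev gvMap {𝓖 𝓖' : (Over T)ᵒᵖ ⥤ AddCommGrpCat.{u + 1}} (α : 𝓖 ⟶ 𝓖')
    {R : CommRingCat.{u}} (v : Spec R ⟶ T) : gv 𝓖 v ⟶ gv 𝓖' v :=
  Functor.whiskerLeft (Adeq.specOver v).rightOp α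

theorem gnat {R : Type u} [CommRing R] {G G' : Adeq.Alg R ⥤ AddCommGrpCat.{u + 1}} (α : G ⟶ G')
    {X Y : Adeq.Alg R} (f : X ⟶ Y) (x : G.obj X) :
    (α.app Y).hom ((G.map f).hom x) = (G'.map f).hom ((α.app X).hom x) :=
  ConcreteCategory.congr_hom (α.naturality f) x

variable (C : ShortComplex (Sheaf (JT T) AddCommGrpCat.{u + 1})) (hC : C.ShortExact)
  {R : CommRingCat.{u}} (v : Spec R ⟶ T) (B : Type u) [CommRing B] [Algebra R B]

include hC in
theorem lift_of_cover'
    (h1 : H1std R B (gv C.X₁.obj v))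
    (hcov : Sieve.generate (Presieve.singleton ((Adeq.specOver v).map (i0 R B).op)) ∈
      JT T ((Adeq.specOver v).obj (op (Adeq.algOf R R))))
    (s : (gv C.X₃.obj v).obj (Adeq.algOf R R))
    (t' : (gv C.X₂.obj v).obj (P1 R B))
    (ht' : ((gvMap C.g.hom v).app (P1 R B)).hom t' = ((gv C.X₃.obj v).map (i0 R B)).hom s) :
    ∃ t : (gv C.X₂.obj v).obj (Adeq.algOf R R),
      ((gvMap C.g.hom v).app (Adeq.algOf R R)).hom t = s := by
  let G₁ := gv C.X₁.obj v
  let G₂ := gv C.X₂.obj v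
  let G₃ := gv C.X₃.obj v
  let fα : G₁ ⟶ G₂ := gvMap C.f.hom v
  let gα : G₂ ⟶ G₃ := gvMap C.g.hom v
  haveI := hC.mono_f
  have hfinj : ∀ D : Adeq.Alg R, Function.Injective (fα.app D).hom := fun D =>
    mono_app_injective C.f _
  have hex : ∀ (D : Adeq.Alg R) (x : G₂.obj D), (gα.app D).hom x = 0 →
      ∃ z : G₁.obj D, (fα.app D).hom z = x := fun D x hx => exact_app C hC _ x hx
  have hgf : ∀ (D : Adeq.Alg R) (z : G₁.obj D), (gα.app D).hom ((fα.app D).hom z) = 0 := by
    intro D z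
    have h0 : C.f ≫ C.g = 0 := C.zero
    exact congrArg (fun t => (t.hom.app (op ((Adeq.specOver v).obj (op D)))).hom z) h0
  let u₁ := Adeq.Alg.unit R B (P1 R B)
  let j₁ := jC R B (P1 R B)
  let δ : G₂.obj (CC R B (P1 R B)) := (G₂.map u₁).hom t' - (G₂.map j₁).hom t'
  have hδ : (gα.app _).hom δ = 0 := by
    change (gα.app _).hom ((G₂.map u₁).hom t' - (G₂.map j₁).hom t') = 0
    rw [map_sub, gnat gα u₁ t', gnat gα j₁ t', ht', gmap_comp, gmap_comp,
      gmap_congr G₃ (hom_from_base_ext (i0 R B ≫ u₁) (i0 R B ≫ j₁)), sub_self]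
  obtain ⟨c, hc⟩ := hex _ δ hδ
  have hcc : (G₁.map (Adeq.Alg.unit R B (CC R B (P1 R B)))).hom c -
        (G₁.map (CCm R B u₁)).hom c + (G₁.map (CCm R B j₁)).hom c = 0 := by
    apply hfinj
    rw [map_add, map_sub, map_zero, gnat fα, gnat fα, gnat fα, hc]
    change (G₂.map _).hom ((G₂.map u₁).hom t' - (G₂.map j₁).hom t') -
      (G₂.map _).hom ((G₂.map u₁).hom t' - (G₂.map j₁).hom t') +
      (G₂.map _).hom ((G₂.map u₁).hom t' - (G₂.map j₁).hom t') = 0
    rw [map_sub, map_sub, map_sub, gmap_comp, gmap_comp, gmap_comp, gmap_comp, gmap_comp, gmap_comp]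
    have e1 : u₁ ≫ Adeq.Alg.unit R B (CC R B (P1 R B)) = u₁ ≫ CCm R B u₁ :=
      (unit_natural R B u₁).symm
    have e2 : j₁ ≫ Adeq.Alg.unit R B (CC R B (P1 R B)) = u₁ ≫ CCm R B j₁ :=
      (unit_natural R B j₁).symm
    have e3 : j₁ ≫ CCm R B u₁ = j₁ ≫ CCm R B j₁ :=
      (jC_natural R B u₁).trans (jC_natural R B j₁).symm
    rw [e1, e2, e3]
    abel
  obtain ⟨z, hz⟩ := h1 c hcc
  let t'' : G₂.obj (P1 R B) := t' - (fα.app (P1 R B)).hom z
  have ht'' : (G₂.map u₁).hom t'' = (G₂.map j₁).hom t'' := by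
    rw [← sub_eq_zero]
    change (G₂.map u₁).hom (t' - (fα.app _).hom z) - (G₂.map j₁).hom (t' - (fα.app _).hom z) = 0
    rw [map_sub, map_sub, ← gnat fα, ← gnat fα]
    have : (fα.app _).hom ((G₁.map u₁).hom z) - (fα.app _).hom ((G₁.map j₁).hom z) = δ := by
      rw [← map_sub, ← hz, hc]
    have hδ' : δ = (G₂.map u₁).hom t' - (G₂.map j₁).hom t' := rfl
    rw [hδ'] at this
    rw [sub_sub_sub_comm, this, sub_self]
  -- glue
  have hsh2 := isSheafFor_cover' Scheme.fppfPrecoverage (C.X₂.obj ⋙ forget AddCommGrpCat)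
    (presieve_isSheaf' C.X₂) _ hcov
  rw [Presieve.isSheafFor_singleton] at hsh2
  obtain ⟨t, ht, -⟩ := hsh2 t'' (by
    intro Z p₁ p₂ hp
    obtain ⟨q, hq1, hq2⟩ : ∃ q : Z ⟶ (Adeq.specOver v).obj (op (CC R B (P1 R B))),
        q ≫ (Adeq.specOver v).map u₁.op = p₂ ∧ q ≫ (Adeq.specOver v).map j₁.op = p₁ :=
      ⟨(isPullback_cover v B).lift p₂ p₁ hp.symm, (isPullback_cover v B).lift_fst _ _ _,
        (isPullback_cover v B).lift_snd _ _ _⟩
    rw [← hq1, ← hq2]
    change (C.X₂.obj ⋙ forget AddCommGrpCat).map (q ≫ (Adeq.specOver v).map j₁.op).op t'' =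
      (C.X₂.obj ⋙ forget AddCommGrpCat).map (q ≫ (Adeq.specOver v).map u₁.op).op t''
    rw [op_comp, op_comp, CategoryTheory.Functor.map_comp_apply, CategoryTheory.Functor.map_comp_apply]
    congr 1
    exact ht''.symm)
  refine ⟨t, ?_⟩
  have hsh3 := (isSheafFor_cover' Scheme.fppfPrecoverage (C.X₃.obj ⋙ forget AddCommGrpCat)
    (presieve_isSheaf' C.X₃) _ hcov).isSeparatedFor
  have ht2 : (G₂.map (i0 R B)).hom t = t'' := ht
  have h5 : (G₃.map (i0 R B)).hom ((gα.app _).hom t) = (G₃.map (i0 R B)).hom s := by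
    rw [← gnat gα, ht2]
    change (gα.app _).hom (t' - (fα.app _).hom z) = _
    rw [map_sub, hgf, sub_zero, ht']
  refine hsh3.ext (fun Y f hf => ?_)
  obtain ⟨⟩ := hf
  exact h5

include hC in
theorem exists_lift_base'
    (h1 : ∀ (R : CommRingCat.{u}) (v : Spec R ⟶ T) (B : Type u) [CommRing B] [Algebra R B]
      [Module.FaithfullyFlat R B],
      Sieve.generate (Presieve.singleton ((Adeq.specOver v).map (i0 R B).op)) ∈
        JT T ((Adeq.specOver v).obj (op (Adeq.algOf R R))) → H1std R B (gv C.X₁.obj v))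
    (s : (gv C.X₃.obj v).obj (Adeq.algOf R R)) :
    ∃ t : (gv C.X₂.obj v).obj (Adeq.algOf R R),
      ((gvMap C.g.hom v).app (Adeq.algOf R R)).hom t = s := by
  haveI := hC.epi_g
  let U0 : Over T := (Adeq.specOver v).obj (op (Adeq.algOf R R))
  have hT := imageSieve_mem_of_epi' C.g U0 s
  apply product_cover_elim v _ hT
  intro κ _ A _ _ hff hcov hmem hopen hsurj hdisj
  let G₂ := gv C.X₂.obj v
  let G₃ := gv C.X₃.obj v
  let gα : G₂ ⟶ G₃ := gvMap C.g.hom v
  have hlift : ∀ k, ∃ t : G₂.obj (Adeq.algOf R (A k)),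
      (gα.app (Adeq.algOf R (A k))).hom t = (G₃.map (i0 R (A k))).hom s := fun k => hmem k
  choose tk htk using hlift
  let Bp : Type u := ∀ k, A k
  let U1 : Over T := (Adeq.specOver v).obj (op (P1 R Bp))
  let W : κ → Over T := fun k => (Adeq.specOver v).obj (op (Adeq.algOf R (A k)))
  let n : ∀ k, W k ⟶ U1 := fun k => (Adeq.specOver v).map (evA A k).op
  obtain ⟨t', ht'⟩ := glue_disjoint' Scheme.fppfPrecoverage (C.X₂.obj ⋙ forget AddCommGrpCat)
    (presieve_isSheaf' C.X₂) Scheme.zariskiPrecoverage_le_fppfPrecoverage W n hopen hsurj hdisj tk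
  let t'' : G₂.obj (P1 R Bp) := t'
  have ht'' : ∀ k, (G₂.map (evA A k)).hom t'' = tk k := ht'
  have hg : (gα.app (P1 R Bp)).hom t'' = (G₃.map (i0 R Bp)).hom s := by
    have hsep := (presieve_isSheaf' C.X₃).isSeparated _
      (ofArrows_mem_J_of_open Scheme.fppfPrecoverage Scheme.zariskiPrecoverage_le_fppfPrecoverage
        U1 W n hopen hsurj)
    refine hsep.ext (fun Y f hf => ?_)
    obtain ⟨Z, h, g', ⟨k⟩, rfl⟩ := hf
    have key : (G₃.map (evA A k)).hom ((gα.app (P1 R Bp)).hom t'') =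
        (G₃.map (evA A k)).hom ((G₃.map (i0 R Bp)).hom s) := by
      rw [← gnat gα, ht'', htk, gmap_comp]
      exact gmap_congr G₃ (hom_from_base_ext _ _) s
    rw [op_comp, CategoryTheory.Functor.map_comp_apply, CategoryTheory.Functor.map_comp_apply]
    congr 1
  exact lift_of_cover' C hC v Bp (h1 R v Bp hcov) hcov s t'' hg

theorem surj_of_iso'' {F G : Sheaf (JT T) AddCommGrpCat.{u + 1}} (g : F ⟶ G) {U V : Over T}
    (e₁ : U ⟶ V) (e₂ : V ⟶ U) (he : e₂ ≫ e₁ = 𝟙 V)
    (hU : Function.Surjective (g.hom.app (op U)).hom) :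
    Function.Surjective (g.hom.app (op V)).hom := by
  intro s
  obtain ⟨t₁, ht₁⟩ := hU ((G.obj.map e₁.op).hom s)
  refine ⟨(F.obj.map e₂.op).hom t₁, ?_⟩
  have hn := ConcreteCategory.congr_hom (g.hom.naturality e₂.op) t₁
  refine hn.trans ?_
  change (G.obj.map e₂.op).hom ((g.hom.app (op U)).hom t₁) = s
  rw [ht₁]
  have h2 : G.obj.map e₁.op ≫ G.obj.map e₂.op = 𝟙 _ := by
    rw [← G.obj.map_comp, ← op_comp, he, op_id, G.obj.map_id]
  exact ConcreteCategory.congr_hom h2 s

include hC in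
theorem surj_sect'
    (h1 : ∀ (R : CommRingCat.{u}) (v : Spec R ⟶ T) (B : Type u) [CommRing B] [Algebra R B]
      [Module.FaithfullyFlat R B],
      Sieve.generate (Presieve.singleton ((Adeq.specOver v).map (i0 R B).op)) ∈
        JT T ((Adeq.specOver v).obj (op (Adeq.algOf R R))) → H1std R B (gv C.X₁.obj v))
    (D : Adeq.Alg R) :
    Function.Surjective ((gvMap C.g.hom v).app D).hom := by
  let a' : Spec (CommRingCat.of D) ⟶ T := Spec.map (CommRingCat.ofHom (algebraMap R D)) ≫ v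
  have h : Spec.map (CommRingCat.ofHom (algebraMap D D)) ≫ a' = a' := by
    rw [Algebra.algebraMap_self, CommRingCat.ofHom_id, Spec.map_id, Category.id_comp]
  have hU : Function.Surjective (C.g.hom.app
      (op (Over.mk (Spec.map (CommRingCat.ofHom (algebraMap D D)) ≫ a')))).hom :=
    fun s => exists_lift_base' C hC a' h1 s
  change Function.Surjective (C.g.hom.app (op (Over.mk a'))).hom
  have he : tr h.symm ≫ tr h = 𝟙 (Over.mk a') := tr_symm_tr h
  exact surj_of_iso'' C.g (tr h) (tr h.symm) he hU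

end Lift

end Groth.Agent.Helper1.Car
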