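import Mathlib
import Groth.Prelude.Def_Adeq2
import Groth.Agent.Lib.Helper1.Car3
import Groth.Agent.Lib.Helper1.Ami7
import Groth.Agent.Lib.Helper3.CechG

set_option autoImplicit false
set_option linter.unusedSectionVars false
set_option linter.unusedVariables false
set_option maxHeartbeats 400000
universe u
open CategoryTheory CategoryTheory.Limits AlgebraicGeometry Opposite TensorProduct

namespace Groth.Agent.Helper1.Car

open Groth.Agent.Helper1.Adq Groth.Agent.Helper1.AdqH Groth.Agent.Helper1.Ami
  Groth.Agent.Helper1.AdqS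

section Inj

variable {T : Scheme.{u}} {R : CommRingCat.{u}} (v : Spec R ⟶ T) (B : Type u) [CommRing B]
  [Algebra R B] (M : (Over T)ᵒᵖ ⥤ AddCommGrpCat.{u + 1})

/-- the affine object -/
noncomputable abbrev Xv : Over T := Over.mk v

/-- the iterated slice equivalence -/
noncomputable abbrev Ev : Over (Xv v) ≌ Over (Spec R) := Over.iteratedSliceEquiv (Xv v)

/-- the Čech nerve model in the iterated slice -/
noncomputable def Wv : SimplicialObject (Over (Xv v)) := Wm R B ⋙ (Ev v).inverse

noncomputable def Yv : Over (Xv v) := (Ev v).inverse.obj (spObj R (Adeq.algOf R B))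

noncomputable def pv (n : SimplexCategory) (k : Fin (n.len + 1)) :
    (Wv v B).obj (op n) ⟶ Yv v B := (Ev v).inverse.map (pm R B n k)

noncomputable def hpv (n : SimplexCategory) : IsLimit (Fan.mk ((Wv v B).obj (op n)) (pv v B n)) :=
  isLimitMapConeFanMkEquiv (Ev v).inverse _ _ (isLimitOfPreserves (Ev v).inverse (hpm R B n))

theorem hθv {m n : SimplexCategory} (θ : m ⟶ n) (k : Fin (m.len + 1)) :
    (Wv v B).map θ.op ≫ pv v B m k = pv v B n (θ.toOrderHom k) := by
  change (Ev v).inverse.map ((Wm R B).map θ.op) ≫ (Ev v).inverse.map (pm R B m k) = _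
  rw [← Functor.map_comp, hθm]
  rfl

/-- the restricted presheaf -/
noncomputable abbrev Qv : (Over (Xv v))ᵒᵖ ⥤ AddCommGrpCat.{u + 1} :=
  (Over.forget (Xv v)).op ⋙ (𝟭 (Over T)).op ⋙ M

noncomputable def modelCosIso' : (Wv v B).rightOp ⋙ Qv v M ≅ amCosG R B (gv M v) :=
  NatIso.ofComponents (fun n => Iso.refl _) (fun θ => by
    refine (Category.comp_id _).trans (Eq.trans ?_ (Category.id_comp _).symm)
    rfl)

open AlgebraicTopology in
/-- the Amitsur complex of an injective presheaf on the big site is exact in positive degrees -/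
theorem amExact_of_injective [Injective M] : AmExact R B (gv M v) := by
  apply amExact_of_exactAt
  intro n
  have hz := Groth.Agent.Helper3.CechG.isZero_cech_of_injective (𝟭 (Over T)) (X := Xv v)
    (fun _ : PUnit.{u + 2} => Yv v B) M n
  have hex : ((alternatingCofaceMapComplex AddCommGrpCat.{u + 1}).obj
      (cechCos.{u + 1} (Yv v B) (Qv v M))).ExactAt (n + 1) := by
    rw [HomologicalComplex.exactAt_iff_isZero_homology]
    exact hz
  exact hex.of_iso ((alternatingCofaceMapComplex AddCommGrpCat.{u + 1}).mapIso
    (cechCosIso.{u + 1} (Yv v B) (Qv v M) (Wv v B) (pv v B) (hpv v B)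
      (fun θ k => hθv v B θ k) ≪≫ modelCosIso' v B M))

/-- an injective sheaf has an injective underlying presheaf -/
theorem injective_presheaf_of_sheaf (I : Sheaf (JT T) AddCommGrpCat.{u + 1}) [Injective I] :
    Injective I.obj :=
  Injective.injective_of_adjoint (sheafificationAdjunction (JT T) AddCommGrpCat.{u + 1}) I

theorem amExact_of_injective_sheaf (I : Sheaf (JT T) AddCommGrpCat.{u + 1}) [Injective I] :
    AmExact R B (gv I.obj v) := by
  haveI := injective_presheaf_of_sheaf I
  exact amExact_of_injective v B I.obj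

end Inj

end Groth.Agent.Helper1.Car
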