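import Mathlib
import Groth.Prelude.Def_Adeq2
import Groth.Agent.Lib.Helper1.Car4
import Groth.Agent.Lib.Helper3.AcyClass

set_option autoImplicit false
set_option linter.unusedSectionVars false
set_option linter.unusedVariables false
set_option maxHeartbeats 400000
universe u
open CategoryTheory CategoryTheory.Limits AlgebraicGeometry Opposite TensorProduct

namespace Groth.Agent.Helper1.Car

open Groth.Agent.Helper1.Adq Groth.Agent.Helper1.AdqH Groth.Agent.Helper1.Ami
  Groth.Agent.Helper1.AdqS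

section Chase

variable {T : Scheme.{u}}

/-- Čech-acyclicity for all faithfully flat one-member covers of affine objects -/
def PA (F : Sheaf (JT T) AddCommGrpCat.{u + 1}) : Prop :=
  ∀ (R : CommRingCat.{u}) (v : Spec R ⟶ T) (B : Type u) [CommRing B] [Algebra R B]
    [Module.FaithfullyFlat R B],
    Sieve.generate (Presieve.singleton ((Adeq.specOver v).map (i0 R B).op)) ∈
      JT T ((Adeq.specOver v).obj (op (Adeq.algOf R R))) → AmExact R B (gv F.obj v)

theorem h1std_of_PA (F : Sheaf (JT T) AddCommGrpCat.{u + 1}) (hF : PA F) :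
    ∀ (R : CommRingCat.{u}) (v : Spec R ⟶ T) (B : Type u) [CommRing B] [Algebra R B]
      [Module.FaithfullyFlat R B],
      Sieve.generate (Presieve.singleton ((Adeq.specOver v).map (i0 R B).op)) ∈
        JT T ((Adeq.specOver v).obj (op (Adeq.algOf R R))) → H1std R B (gv F.obj v) :=
  fun R v B _ _ _ hcov => h1std_of_amExact R B _ (hF R v B hcov)

variable (C : ShortComplex (Sheaf (JT T) AddCommGrpCat.{u + 1})) (hC : C.ShortExact)

include hC in
theorem PA_of_shortExact (h₁ : PA C.X₁) [Injective C.X₂] : PA C.X₃ := by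
  intro R v B _ _ _ hcov n x hx
  let G₁ := gv C.X₁.obj v
  let G₂ := gv C.X₂.obj v
  let G₃ := gv C.X₃.obj v
  let fα : G₁ ⟶ G₂ := gvMap C.f.hom v
  let gα : G₂ ⟶ G₃ := gvMap C.g.hom v
  haveI := hC.mono_f
  have hfinj : ∀ D : Adeq.Alg R, Function.Injective (fα.app D).hom := fun D =>
    mono_app_injective C.f _
  have hex : ∀ (D : Adeq.Alg R) (x : G₂.obj D), (gα.app D).hom x = 0 →
      ∃ z : G₁.obj D, (fα.app D).hom z = x := fun D x hx => exact_app C hC _ x hx
  have hgf : ∀ (D : Adeq.Alg R) (z : G₁.obj D), (gα.app D).hom ((fα.app D).hom z) = 0 := by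
    intro D z
    have h0 : C.f ≫ C.g = 0 := C.zero
    exact congrArg (fun t => (t.hom.app (op ((Adeq.specOver v).obj (op D)))).hom z) h0
  obtain ⟨x₂, hx₂⟩ := surj_sect' C hC v (h1std_of_PA C.X₁ h₁) (amObj R B (n + 2)) x
  have h3 : (gα.app _).hom (dG R B G₂ (n + 1) x₂) = 0 := by
    rw [dG_nat R B gα, hx₂, hx]
  obtain ⟨x₁, hx₁⟩ := hex _ _ h3
  have h4 : dG R B G₁ (n + 2) x₁ = 0 := by
    apply hfinj
    rw [dG_nat R B fα, hx₁, dG_dG, map_zero]
  obtain ⟨y₁, hy₁⟩ := h₁ R v B hcov (n + 1) x₁ h4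
  have h5 : dG R B G₂ (n + 1) (x₂ - (fα.app _).hom y₁) = 0 := by
    rw [map_sub, ← dG_nat R B fα, hy₁, hx₁, sub_self]
  obtain ⟨y₂, hy₂⟩ := amExact_of_injective_sheaf v B C.X₂ n _ h5
  refine ⟨(gα.app _).hom y₂, ?_⟩
  rw [← dG_nat R B gα, hy₂, map_sub, hgf, sub_zero, hx₂]

include hC in
theorem surj_terminal [IsAffine T] (h₁ : PA C.X₁) :
    Function.Surjective (C.g.hom.app (op (Over.mk (𝟙 T)))).hom := by
  let R : CommRingCat.{u} := Γ(T, ⊤)
  let v : Spec R ⟶ T := T.isoSpec.inv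
  let U0 : Over T := (Adeq.specOver v).obj (op (Adeq.algOf R R))
  have hU : Function.Surjective (C.g.hom.app (op U0)).hom :=
    fun s => exists_lift_base' C hC v (h1std_of_PA _ h₁) s
  let e₁ : U0 ⟶ Over.mk (𝟙 T) := Over.homMk U0.hom (Category.comp_id _)
  let e₂ : Over.mk (𝟙 T) ⟶ U0 := Over.homMk T.isoSpec.hom (by
    change T.isoSpec.hom ≫ (Spec.map (CommRingCat.ofHom (algebraMap R R)) ≫ T.isoSpec.inv) = 𝟙 T
    rw [Algebra.algebraMap_self, CommRingCat.ofHom_id, Spec.map_id]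
    exact (congrArg (T.isoSpec.hom ≫ ·) (Category.id_comp _)).trans (Iso.hom_inv_id _))
  exact surj_of_iso'' C.g e₁ e₂ (Over.mkIdTerminal.hom_ext _ _) hU

include hC in
theorem lift_const [IsAffine T] (h₁ : PA C.X₁)
    (ψ : (constantSheaf (JT T) AddCommGrpCat.{u + 1}).obj (AddCommGrpCat.of (ULift ℤ)) ⟶ C.X₃) :
    ∃ ψ' : (constantSheaf (JT T) AddCommGrpCat.{u + 1}).obj (AddCommGrpCat.of (ULift ℤ)) ⟶ C.X₂,
      ψ' ≫ C.g = ψ := by
  let hT₀ : IsTerminal (Over.mk (𝟙 T)) := Over.mkIdTerminal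
  let adj := constantSheafAdj (JT T) AddCommGrpCat.{u + 1} hT₀
  let φ₃ := adj.homEquiv _ _ ψ
  obtain ⟨s₂, hs₂⟩ := surj_terminal C hC h₁ (AddCommGrpCat.uliftZMultiplesAddEquiv _ φ₃)
  let φ₂ : AddCommGrpCat.of (ULift ℤ) ⟶ C.X₂.obj.obj (op (Over.mk (𝟙 T))) :=
    (AddCommGrpCat.uliftZMultiplesAddEquiv _).symm s₂
  refine ⟨(adj.homEquiv _ _).symm φ₂, ?_⟩
  apply (adj.homEquiv _ _).injective
  rw [adj.homEquiv_naturality_right, Equiv.apply_symm_apply]
  apply (AddCommGrpCat.uliftZMultiplesAddEquiv _).injective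
  refine Eq.trans ?_ hs₂
  have h2 : AddCommGrpCat.uliftZMultiplesAddEquiv _ φ₂ = s₂ := AddEquiv.apply_symm_apply _ s₂
  rw [← h2]
  rfl

end Chase

section Final

variable {T : Scheme.{u}}

theorem ext_eq_zero_of_PA [IsAffine T] (G : Sheaf (JT T) AddCommGrpCat.{u + 1}) (hG : PA G) (n : ℕ)
    (x : Sheaf.H G (n + 1)) : x = 0 :=
  Groth.Agent.Helper3.AcyClass.ext_eq_zero
    ((constantSheaf (JT T) AddCommGrpCat.{u + 1}).obj (AddCommGrpCat.of (ULift ℤ))) PA
    (fun S hS h₁ hI => by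
      haveI := hI
      exact ⟨PA_of_shortExact S hS h₁, fun ψ => lift_const S hS h₁ ψ⟩) n G hG x

variable {S : Scheme.{u}}

/-- comparison of the affine objects -/
noncomputable def sigmaIso {R : CommRingCat.{u}} (v : Spec R ⟶ T) (f : T ⟶ S) :
    Adeq.specOver v ⋙ Over.map f ≅ Adeq.specOver (v ≫ f) :=
  NatIso.ofComponents (fun C => Over.isoMk (Iso.refl _) (by
    change 𝟙 _ ≫ (Spec.map _ ≫ v ≫ f) = (Spec.map _ ≫ v) ≫ f
    rw [Category.id_comp, Category.assoc])) (fun {C C'} g => by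
    apply Over.OverMorphism.ext
    change (Spec.map _) ≫ 𝟙 _ = 𝟙 _ ≫ Spec.map _
    rw [Category.comp_id, Category.id_comp])

/-- sections of the restriction to `T` of a module on `S`, over affine objects -/
noncomputable def pullIso (M : BigSite.Mod Scheme.fppfPrecoverage S) (f : T ⟶ S)
    {R : CommRingCat.{u}} (v : Spec R ⟶ T) :
    ((Adeq.toMVF Scheme.fppfPrecoverage (v ≫ f)).obj M).toAb ≅
      gv ((BigSite.pullBig Scheme.fppfPrecoverage f AddCommGrpCat.{u + 1}).obj
        ((BigSite.toAbMod Scheme.fppfPrecoverage S).obj M)).obj v :=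
  NatIso.ofComponents (fun C =>
    ((BigSite.toAbMod Scheme.fppfPrecoverage S).obj M).obj.mapIso ((sigmaIso v f).app (op C)).op)
    (fun {C C'} g => by
      change ((BigSite.toAbMod Scheme.fppfPrecoverage S).obj M).obj.map
          ((Adeq.specOver (v ≫ f)).map g.op).op ≫
        ((BigSite.toAbMod Scheme.fppfPrecoverage S).obj M).obj.map ((sigmaIso v f).hom.app (op C')).op =
        ((BigSite.toAbMod Scheme.fppfPrecoverage S).obj M).obj.map ((sigmaIso v f).hom.app (op C)).op ≫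
        ((BigSite.toAbMod Scheme.fppfPrecoverage S).obj M).obj.map
          ((Over.map f).map ((Adeq.specOver v).map g.op)).op
      rw [← Functor.map_comp, ← Functor.map_comp, ← op_comp, ← op_comp]
      congr 2)

theorem PA_pull_adequate (M : BigSite.Mod Scheme.fppfPrecoverage S)
    (hM : Adeq.adequateMod Scheme.fppfPrecoverage S M) (f : T ⟶ S) :
    PA ((BigSite.pullBig Scheme.fppfPrecoverage f AddCommGrpCat.{u + 1}).obj
      ((BigSite.toAbMod Scheme.fppfPrecoverage S).obj M)) := by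
  intro R v B _ _ _ hcov
  let F := (Adeq.toMVF Scheme.fppfPrecoverage (v ≫ f)).obj M
  have hF : Adeq.adequate R F := adequate_toMVF_fppf S M hM R (v ≫ f)
  have h1 : AmExact R B F.toAb := by
    intro n x hx
    rw [dG_toAb] at hx
    obtain ⟨y, hy⟩ := dA_adequate_exact R B F hF (n + 1) x hx
    exact ⟨y, (dG_toAb R B F n y).trans hy⟩
  exact amExact_of_iso R B (pullIso M f v) h1

end Final

end Groth.Agent.Helper1.Car
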