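import Mathlib

set_option autoImplicit false
universe u u₁
open CategoryTheory Limits Opposite

namespace Groth.Agent.Helper1.Flq

variable {C : Type u₁} [Category.{u} C]

/-- the free abelian presheaf on a representable presheaf, one universe up -/
abbrev freePre' (U : C) : Cᵒᵖ ⥤ AddCommGrpCat.{u + 1} :=
  uliftYoneda.{u + 1}.obj U ⋙ AddCommGrpCat.free.{u + 1}

/-- the map out of the free presheaf determined by a section -/
noncomputable def liftPre' (U : C) (P : Cᵒᵖ ⥤ AddCommGrpCat.{u + 1}) (s : P.obj (op U)) :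
    freePre' U ⟶ P where
  app T := AddCommGrpCat.ofHom
    (FreeAbelianGroup.lift fun f : ULift.{u + 1} (unop T ⟶ U) => (P.map f.down.op).hom s)
  naturality T T' g := by
    apply AddCommGrpCat.hom_ext
    apply FreeAbelianGroup.lift_ext
    intro (f : ULift.{u + 1} (unop T ⟶ U))
    change FreeAbelianGroup.lift (fun f' : ULift.{u + 1} (unop T' ⟶ U) => (P.map f'.down.op).hom s)
        (FreeAbelianGroup.map (fun f' : ULift.{u + 1} (unop T ⟶ U) => (⟨g.unop ≫ f'.down⟩ : ULift.{u + 1} (unop T' ⟶ U)))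
          (FreeAbelianGroup.of f)) =
      (P.map g).hom (FreeAbelianGroup.lift (fun f' : ULift.{u + 1} (unop T ⟶ U) => (P.map f'.down.op).hom s)
        (FreeAbelianGroup.of f))
    rw [FreeAbelianGroup.map_of_apply, FreeAbelianGroup.lift_apply_of, FreeAbelianGroup.lift_apply_of,
      op_comp, Quiver.Hom.op_unop, P.map_comp]
    rfl

theorem liftPre'_app_of (U : C) (P : Cᵒᵖ ⥤ AddCommGrpCat.{u + 1}) (s : P.obj (op U)) (T : Cᵒᵖ)
    (f : ULift.{u + 1} (unop T ⟶ U)) :
    ((liftPre' U P s).app T).hom (FreeAbelianGroup.of f) = (P.map f.down.op).hom s :=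
  FreeAbelianGroup.lift_apply_of _ _

/-- the map of free presheaves induced by a morphism -/
noncomputable abbrev freePreMap {U V : C} (f : V ⟶ U) : freePre' V ⟶ freePre' U :=
  Functor.whiskerRight (uliftYoneda.{u + 1}.map f) AddCommGrpCat.free.{u + 1}

instance mono_freePreMap {U V : C} (f : V ⟶ U) [Mono f] : Mono (freePreMap f) := by
  have : ∀ W : Cᵒᵖ, Mono ((freePreMap f).app W) := by
    intro W
    have : Mono ((uliftYoneda.{u + 1}.map f).app W) := by
      rw [mono_iff_injective]
      intro a b hab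
      apply ULift.ext
      have h2 := congrArg ULift.down hab
      exact (cancel_mono f).1 h2
    exact AddCommGrpCat.free.map_mono _
  exact NatTrans.mono_of_mono_app _

theorem freePreMap_app_of {U V : C} (f : V ⟶ U) (T : Cᵒᵖ) (g : ULift.{u + 1} (unop T ⟶ V)) :
    ((freePreMap f).app T).hom (FreeAbelianGroup.of g) =
      FreeAbelianGroup.of (⟨g.down ≫ f⟩ : ULift.{u + 1} (unop T ⟶ U)) := by
  change FreeAbelianGroup.map _ (FreeAbelianGroup.of g) = _
  rw [FreeAbelianGroup.map_of_apply]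
  rfl

/-- sections of an injective presheaf extend along monomorphisms -/
theorem surjective_of_injective_presheaf (P : Cᵒᵖ ⥤ AddCommGrpCat.{u + 1}) [Injective P]
    {U V : C} (f : V ⟶ U) [Mono f] : Function.Surjective (P.map f.op).hom := by
  intro s
  let τ : freePre' U ⟶ P := Injective.factorThru (liftPre' V P s) (freePreMap f)
  have hτ : freePreMap f ≫ τ = liftPre' V P s := Injective.comp_factorThru _ _
  refine ⟨(τ.app (op U)).hom (FreeAbelianGroup.of (⟨𝟙 U⟩ : ULift.{u + 1} (U ⟶ U))), ?_⟩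
  have h1 := ConcreteCategory.congr_hom (τ.naturality f.op)
    (FreeAbelianGroup.of (⟨𝟙 U⟩ : ULift.{u + 1} (U ⟶ U)))
  refine h1.symm.trans ?_
  have h2 : ((freePre' U).map f.op).hom (FreeAbelianGroup.of (⟨𝟙 U⟩ : ULift.{u + 1} (U ⟶ U))) =
      ((freePreMap f).app (op V)).hom (FreeAbelianGroup.of (⟨𝟙 V⟩ : ULift.{u + 1} (V ⟶ V))) := by
    rw [freePreMap_app_of]
    change FreeAbelianGroup.map _ (FreeAbelianGroup.of _) = _
    rw [FreeAbelianGroup.map_of_apply]
    apply congrArg FreeAbelianGroup.of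
    apply ULift.ext
    change f ≫ 𝟙 U = 𝟙 V ≫ f
    rw [Category.comp_id, Category.id_comp]
  change (τ.app (op V)).hom (((freePre' U).map f.op).hom _) = s
  rw [h2]
  have h3 := ConcreteCategory.congr_hom (NatTrans.congr_app hτ (op V))
    (FreeAbelianGroup.of (⟨𝟙 V⟩ : ULift.{u + 1} (V ⟶ V)))
  refine h3.trans ?_
  rw [liftPre'_app_of]
  change (P.map (𝟙 V).op).hom s = s
  rw [op_id, P.map_id]
  rfl

end Groth.Agent.Helper1.Flq
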