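import Mathlib
import Groth.Prelude.Def_BigSite
import Groth.Agent.Lib.Helper1.Flq1
import Groth.Agent.Lib.Helper1.Flq3
import Groth.Agent.Lib.Helper3.AcyClass

set_option autoImplicit false
universe u
open TopCat TopologicalSpace Opposite CategoryTheory Limits AlgebraicGeometry

namespace Groth.Agent.Helper1.Flq

variable (S : Scheme.{u})

instance instWEqZar : (Opens.grothendieckTopology S).WEqualsLocallyBijective AddCommGrpCat.{u + 1} :=
  GrothendieckTopology.WEqualsLocallyBijective.ofEssentiallySmall (Opens.grothendieckTopology S)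

/-- flasque sheaves on the Zariski site of a scheme, valued one universe up -/
abbrev IsFl (F : EtZar.Ab S) : Prop := TopCat.Sheaf.IsFlasque (X := S.carrier) F

variable {S}

/-- an injective sheaf has an injective underlying presheaf -/
theorem injective_presheaf_zar (I : EtZar.Ab S) [Injective I] : Injective I.obj :=
  Injective.injective_of_adjoint
    (sheafificationAdjunction (Opens.grothendieckTopology S) AddCommGrpCat.{u + 1}) I

/-- injective sheaves on the Zariski site are flasque -/
theorem isFl_of_injective (I : EtZar.Ab S) [Injective I] : IsFl S I := by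
  haveI := injective_presheaf_zar I
  constructor
  intro U V i
  rw [AddCommGrpCat.epi_iff_surjective]
  have : Mono i.unop := ⟨fun _ _ _ => Subsingleton.elim _ _⟩
  exact surjective_of_injective_presheaf I.obj i.unop

/-- A flasque abelian sheaf has vanishing higher cohomology. -/
theorem ext_eq_zero_of_isFl (F : EtZar.Ab S) (hF : IsFl S F) (n : ℕ) (x : EtZar.H F (n + 1)) :
    x = 0 := by
  have hT : Limits.IsTerminal (⊤ : TopologicalSpace.Opens S) := Limits.isTerminalTop
  refine Groth.Agent.Helper3.AcyClass.ext_eq_zero
    ((constantSheaf (Opens.grothendieckTopology S) AddCommGrpCat.{u + 1}).obj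
      (AddCommGrpCat.of (ULift ℤ)))
    (fun M : EtZar.Ab S => IsFl S M) (by
      intro C hC h1 h2
      have h2' : IsFl S C.X₂ := isFl_of_injective C.X₂
      have h1' : IsFl S C.X₁ := h1
      refine ⟨of_shortExact_of_isFlasque₁₂ (X := S.carrier) hC, fun ψ => ?_⟩
      have hepi := epi_of_shortExact (X := S.carrier) (U := ⊤) hC
      rw [AddCommGrpCat.epi_iff_surjective] at hepi
      obtain ⟨t, ht⟩ := hepi (Sheaf.H.equiv₀ C.X₃ hT (Abelian.Ext.mk₀ ψ))
      obtain ⟨ψ', hψ'⟩ := (Abelian.Ext.mk₀_bijective _ _).2 ((Sheaf.H.equiv₀ C.X₂ hT).symm t)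
      refine ⟨ψ', ?_⟩
      apply (Abelian.Ext.mk₀_bijective _ _).1
      apply (Sheaf.H.equiv₀ C.X₃ hT).injective
      rw [← ht]
      have h3 := Sheaf.H.equiv₀_naturality hT C.g ((Sheaf.H.equiv₀ C.X₂ hT).symm t)
      rw [AddEquiv.apply_symm_apply] at h3
      rw [h3, ← hψ']
      congr 1
      exact (Abelian.Ext.mk₀_comp_mk₀ ψ' C.g).symm) n F hF x

section Big

variable (K : Precoverage Scheme.{u})

/-- an injective sheaf on the big site has an injective underlying presheaf -/
theorem injective_presheaf_big (Q : BigSite.Ab K S) [Injective Q] : Injective Q.obj :=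
  Injective.injective_of_adjoint
    (sheafificationAdjunction (QuotSh.J K S) AddCommGrpCat.{u + 1}) Q

theorem mono_zarIncl_map {U V : S.Opens} (i : U ⟶ V) : Mono ((BigSite.zarIncl S).map i) := by
  haveI : Mono ((BigSite.zarIncl S).map i).left := by
    change Mono (S.homOfLE i.le)
    infer_instance
  exact Over.mono_of_mono_left _

/-- the restriction to the Zariski site of an injective sheaf on the big site is flasque -/
theorem isFl_resZar_of_injective [BigSite.ZarCont K S] (Q : BigSite.Ab K S) [Injective Q] :
    IsFl S ((BigSite.resZar K S).obj Q) := by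
  haveI := injective_presheaf_big K Q
  constructor
  intro U V i
  rw [AddCommGrpCat.epi_iff_surjective]
  haveI := mono_zarIncl_map i.unop
  exact surjective_of_injective_presheaf Q.obj ((BigSite.zarIncl S).map i.unop)

end Big

end Groth.Agent.Helper1.Flq
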