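import Mathlib
import Groth.Agent.Lib.Helper3.RDerL

set_option autoImplicit false
universe v v' u u'
open CategoryTheory Limits

namespace Groth.Agent.Helper1.Flq

variable {C : Type u} [Category.{v} C] [Abelian C] [EnoughInjectives C]
  {D : Type u'} [Category.{v'} D] [Abelian D] (F : C ⥤ D) [F.Additive] [PreservesFiniteLimits F]

/-- dimension shifting for right derived functors: a class of objects stable under cokernels of
embeddings into injectives, on which `F` preserves the epimorphism, is `F`-acyclic -/
theorem rightDerived_isZero (P : C → Prop)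
    (hP : ∀ (S : ShortComplex C), S.ShortExact → P S.X₁ → Injective S.X₂ →
      P S.X₃ ∧ Epi (F.map S.g))
    (n : ℕ) : ∀ (M : C), P M → IsZero ((F.rightDerived (n + 1)).obj M) := by
  let Δ := Groth.Agent.Helper3.RDerL.derivedLES F
  induction n with
  | zero =>
    intro M hM
    let S : ShortComplex C := ShortComplex.mk (Injective.ι M) (cokernel.π (Injective.ι M))
      (cokernel.condition _)
    have hS : S.ShortExact :=
      { exact := ShortComplex.exact_cokernel _
        mono_f := by dsimp [S]; infer_instance
        epi_g := by dsimp [S]; infer_instance }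
    have hI : Injective S.X₂ := by dsimp [S]; infer_instance
    obtain ⟨hQ, hepi⟩ := hP S hS hM hI
    have hz : IsZero ((F.rightDerived (0 + 1)).obj S.X₂) :=
      Functor.isZero_rightDerived_obj_injective_succ F 0 S.X₂
    have e₁ := Δ.exact₁ S hS 0 1 rfl
    have hδepi : Epi (Δ.δ S hS 0 1 rfl) := e₁.epi_f (hz.eq_of_tgt _ _)
    have hcomp := Δ.comp_δ S hS 0 1 rfl
    have hepi0 : Epi ((F.rightDerived 0).map S.g) := by
      have hnat := (F.rightDerivedZeroIsoSelf).hom.naturality S.g
      have : (F.rightDerived 0).map S.g =
          (F.rightDerivedZeroIsoSelf).hom.app S.X₂ ≫ F.map S.g ≫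
            (F.rightDerivedZeroIsoSelf).inv.app S.X₃ := by
        rw [← Category.assoc, ← hnat, Category.assoc, Iso.hom_inv_id_app, Category.comp_id]
      rw [this]
      infer_instance
    have hδ0 : Δ.δ S hS 0 1 rfl = 0 := by
      rw [← cancel_epi ((F.rightDerived 0).map S.g), hcomp, comp_zero]
    exact IsZero.of_epi_eq_zero _ hδ0
  | succ k ih =>
    intro M hM
    let S : ShortComplex C := ShortComplex.mk (Injective.ι M) (cokernel.π (Injective.ι M))
      (cokernel.condition _)
    have hS : S.ShortExact :=
      { exact := ShortComplex.exact_cokernel _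
        mono_f := by dsimp [S]; infer_instance
        epi_g := by dsimp [S]; infer_instance }
    have hI : Injective S.X₂ := by dsimp [S]; infer_instance
    obtain ⟨hQ, hepi⟩ := hP S hS hM hI
    have hz : IsZero ((F.rightDerived (k + 1 + 1)).obj S.X₂) :=
      Functor.isZero_rightDerived_obj_injective_succ F (k + 1) S.X₂
    have e₁ := Δ.exact₁ S hS (k + 1) (k + 1 + 1) rfl
    have hδepi : Epi (Δ.δ S hS (k + 1) (k + 1 + 1) rfl) := e₁.epi_f (hz.eq_of_tgt _ _)
    exact IsZero.of_epi (Δ.δ S hS (k + 1) (k + 1 + 1) rfl) (ih S.X₃ hQ)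

end Groth.Agent.Helper1.Flq
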