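import Mathlib
import Groth.Prelude.Def_Adeq2
import Groth.Agent.Lib.Helper1.Car5
import Groth.Agent.Lib.Helper1.Flq2
import Groth.Agent.Lib.Helper1.Flq4

set_option autoImplicit false
set_option linter.unusedSectionVars false
set_option linter.unusedVariables false
set_option maxHeartbeats 400000
universe u
open CategoryTheory CategoryTheory.Limits AlgebraicGeometry Opposite TopologicalSpace

namespace Groth.Agent.Helper1.Flq

open Groth.Agent.Helper1.Car Groth.Agent.Helper1.AdqH

variable {S : Scheme.{u}}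

section Surj

variable (C : ShortComplex (Sheaf (JT S) AddCommGrpCat.{u + 1})) (hC : C.ShortExact)

include hC in
/-- sections over objects with affine source lift along an epimorphism whose kernel is `PA` -/
theorem surj_affine (h₁ : PA C.X₁) (W : Over S) [IsAffine W.left] :
    Function.Surjective (C.g.hom.app (op W)).hom := by
  let R : CommRingCat.{u} := Γ(W.left, ⊤)
  let v : Spec R ⟶ S := W.left.isoSpec.inv ≫ W.hom
  let U0 : Over S := (Adeq.specOver v).obj (op (Adeq.algOf R R))
  have hU : Function.Surjective (C.g.hom.app (op U0)).hom :=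
    fun s => exists_lift_base' C hC v (h1std_of_PA _ h₁) s
  have hid : Spec.map (CommRingCat.ofHom (algebraMap R R)) = 𝟙 (Spec R) := by
    rw [Algebra.algebraMap_self, CommRingCat.ofHom_id, Spec.map_id]
    rfl
  let e₁ : U0 ⟶ W := Over.homMk (Spec.map (CommRingCat.ofHom (algebraMap R R)) ≫ W.left.isoSpec.inv)
    (Category.assoc _ _ _)
  let e₂ : W ⟶ U0 := Over.homMk W.left.isoSpec.hom (by
    change W.left.isoSpec.hom ≫ (Spec.map (CommRingCat.ofHom (algebraMap R R)) ≫
      W.left.isoSpec.inv ≫ W.hom) = W.hom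
    rw [hid]
    refine (congrArg (W.left.isoSpec.hom ≫ ·) (Category.id_comp _)).trans ?_
    rw [Iso.hom_inv_id_assoc])
  have he : e₂ ≫ e₁ = 𝟙 W := by
    apply Over.OverMorphism.ext
    change W.left.isoSpec.hom ≫ (Spec.map (CommRingCat.ofHom (algebraMap R R)) ≫
      W.left.isoSpec.inv) = 𝟙 _
    rw [hid]
    exact (congrArg (W.left.isoSpec.hom ≫ ·) (Category.id_comp _)).trans (Iso.hom_inv_id _)
  exact surj_of_iso'' C.g e₁ e₂ he hU

include hC in
theorem epi_resZar_map [BigSite.ZarCont Scheme.fppfPrecoverage S] (h₁ : PA C.X₁) :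
    Epi ((BigSite.resZar Scheme.fppfPrecoverage S).map C.g) := by
  rw [← Sheaf.isLocallySurjective_iff_epi']
  constructor
  intro U s
  rw [Opens.mem_grothendieckTopology]
  intro x hx
  obtain ⟨V, hV, hxV, hVU⟩ := exists_isAffineOpen_mem_and_subset hx
  refine ⟨V, homOfLE hVU, ?_, hxV⟩
  haveI : IsAffine ((BigSite.zarIncl S).obj V).left := hV
  obtain ⟨t, ht⟩ := surj_affine C hC h₁ ((BigSite.zarIncl S).obj V)
    ((C.X₃.obj.map ((BigSite.zarIncl S).map (homOfLE hVU)).op).hom s)
  exact ⟨t, ht⟩

end Surj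

/-- the higher derived functors of restriction to the Zariski site vanish on `PA` sheaves -/
theorem isZero_rightDerived_resZar [BigSite.ZarCont Scheme.fppfPrecoverage S]
    (A : Sheaf (JT S) AddCommGrpCat.{u + 1}) (hA : PA A) (n : ℕ) :
    IsZero (((BigSite.resZar Scheme.fppfPrecoverage S).rightDerived (n + 1)).obj A) := by
  haveI : (BigSite.resZar Scheme.fppfPrecoverage S).IsRightAdjoint :=
    (BigSite.piZarAdj Scheme.fppfPrecoverage S).isRightAdjoint
  exact rightDerived_isZero (BigSite.resZar Scheme.fppfPrecoverage S) PA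
    (fun C hC h₁ hI => by
      haveI := hI
      exact ⟨PA_of_shortExact C hC h₁, epi_resZar_map C hC h₁⟩) n A hA

end Groth.Agent.Helper1.Flq
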