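import Mathlib
import Groth.Prelude.Def_SpSeq
set_option autoImplicit false
universe v u
open CategoryTheory CategoryTheory.Limits

namespace Groth.Agent.Helper1.SpSeqL

variable {C : Type u} [Category.{v} C] [Abelian C]

theorem d_prev_eq_zero {a : ℤ × ℤ} (K : HomologicalComplex C (ComplexShape.up' a)) (pq : ℤ × ℤ)
    (h : K.d (pq - a) pq = 0) : K.d ((ComplexShape.up' a).prev pq) pq = 0 := by
  by_cases hrel : (ComplexShape.up' a).Rel ((ComplexShape.up' a).prev pq) pq
  · have : (ComplexShape.up' a).prev pq = pq - a := by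
      rw [eq_sub_iff_add_eq]; exact hrel
    rw [this]; exact h
  · exact K.shape _ _ hrel

theorem d_next_eq_zero {a : ℤ × ℤ} (K : HomologicalComplex C (ComplexShape.up' a)) (pq : ℤ × ℤ)
    (h : K.d pq (pq + a) = 0) : K.d pq ((ComplexShape.up' a).next pq) = 0 := by
  by_cases hrel : (ComplexShape.up' a).Rel pq ((ComplexShape.up' a).next pq)
  · have : (ComplexShape.up' a).next pq = pq + a := hrel.symm
    rw [this]; exact h
  · exact K.shape _ _ hrel

theorem isZero_homology_of_isZero_X {ι : Type*} {c : ComplexShape ι} (K : HomologicalComplex C c) (i : ι)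
    (h : IsZero (K.X i)) : IsZero (K.homology i) := by
  have : (K.sc i).Exact := ShortComplex.exact_of_isZero_X₂ _ h
  exact (ShortComplex.exact_iff_isZero_homology _).1 this

noncomputable def homologyIsoX {a : ℤ × ℤ} (K : HomologicalComplex C (ComplexShape.up' a)) (pq : ℤ × ℤ)
    (h1 : K.d (pq - a) pq = 0) (h2 : K.d pq (pq + a) = 0) : K.homology pq ≅ K.X pq :=
  (ShortComplex.HomologyData.ofZeros (K.sc pq) (d_prev_eq_zero K pq h1) (d_next_eq_zero K pq h2)).left.homologyIso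

theorem isIso_cokernel_π_of_isZero {A B : C} (f : A ⟶ B) (hA : IsZero A) : IsIso (cokernel.π f) := by
  obtain rfl : f = 0 := hA.eq_of_src _ _
  infer_instance

/-- if the graded piece vanishes, the two steps agree -/
theorem le_of_isZero_grPiece {X : C} (F : ℤ → Subobject X) (hF : Antitone F) (p : ℤ)
    (h : IsZero (SpSeq.grPiece F hF p)) : F p ≤ F (p + 1) := by
  have hle : F (p + 1) ≤ F p := hF (Int.le_add_one le_rfl)
  have hepi : Epi ((F (p + 1)).ofLE (F p) hle) := by
    apply Preadditive.epi_of_cokernel_zero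
    exact h.eq_of_tgt _ _
  have hiso : IsIso ((F (p + 1)).ofLE (F p) hle) := isIso_of_mono_of_epi _
  exact Subobject.le_of_comm (inv ((F (p + 1)).ofLE (F p) hle)) (by
    rw [IsIso.inv_comp_eq, Subobject.ofLE_arrow])

/-- `⊤ / ⊥ ≅ X`. -/
theorem nonempty_iso_grPiece_of_top_bot {X : C} (F : ℤ → Subobject X) (hF : Antitone F) (p : ℤ)
    (h1 : F p = ⊤) (h2 : F (p + 1) = ⊥) : Nonempty (X ≅ SpSeq.grPiece F hF p) := by
  have hle : F (p + 1) ≤ F p := hF (Int.le_add_one le_rfl)
  have hz : IsZero ((F (p + 1) : Subobject X) : C) := by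
    rw [h2]
    exact (isZero_zero C).of_iso Subobject.botCoeIsoZero
  have i1 : IsIso (cokernel.π ((F (p + 1)).ofLE (F p) hle)) := isIso_cokernel_π_of_isZero _ hz
  have i2 : IsIso (F p).arrow := (Subobject.isIso_arrow_iff_eq_top _).2 h1
  let e1 : ((F p : Subobject X) : C) ≅ X := asIso (F p).arrow
  let e2 : ((F p : Subobject X) : C) ≅ cokernel ((F (p + 1)).ofLE (F p) hle) :=
    asIso (cokernel.π ((F (p + 1)).ofLE (F p) hle))
  exact ⟨e1.symm ≪≫ e2⟩

/-- a filtration that is discrete, exhaustive and has a single nonzero graded piece -/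
theorem top_bot_of_single {X : C} (F : ℤ → Subobject X) (hF : Antitone F) (p₀ : ℤ)
    (hz : ∀ p, p ≠ p₀ → IsZero (SpSeq.grPiece F hF p))
    (hdisc : ∃ b : ℤ, F b = ⊥) (hexh : IsLUB (Set.range F) ⊤) : F p₀ = ⊤ ∧ F (p₀ + 1) = ⊥ := by
  have hstep : ∀ p, p ≠ p₀ → F p = F (p + 1) := fun p hp =>
    le_antisymm (le_of_isZero_grPiece F hF p (hz p hp)) (hF (Int.le_add_one le_rfl))
  constructor
  · -- all F p ≤ F p₀
    have hdown : ∀ (k : ℤ) (hk : k ≤ p₀), F k = F p₀ := by
      intro k hk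
      induction k, hk using Int.leInductionDown with
      | base => rfl
      | pred n hn ih =>
        rw [← ih, hstep (n - 1) (by lia), sub_add_cancel]
    have hub : ∀ k, F k ≤ F p₀ := by
      intro k
      rcases le_total k p₀ with h | h
      · exact (hdown k h).le
      · exact hF h
    apply top_le_iff.1
    apply hexh.2
    rintro _ ⟨k, rfl⟩
    exact hub k
  · obtain ⟨b, hb⟩ := hdisc
    have hup : ∀ (k : ℤ) (hk : p₀ + 1 ≤ k), F k = F (p₀ + 1) := by
      intro k hk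
      induction k, hk using Int.leInduction with
      | base => rfl
      | succ n hn ih =>
        rw [← ih, ← hstep n (by lia)]
    rcases le_total b (p₀ + 1) with h | h
    · exact le_bot_iff.1 (hb ▸ hF h)
    · rw [← hup b h, hb]

variable {r₀ : ℤ} (E : CohomologicalSpectralSequence C r₀)

theorem isZero_succ (r : ℤ) (hr : r₀ ≤ r) (pq : ℤ × ℤ) (h : IsZero ((E.page r hr).X pq)) :
    IsZero ((E.page (r + 1) (by lia)).X pq) :=
  (isZero_homology_of_isZero_X _ pq h).of_iso (E.iso r (r + 1) pq rfl hr).symm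

theorem isZero_of_le (r : ℤ) (hr : r₀ ≤ r) (pq : ℤ × ℤ) (h : IsZero ((E.page r hr).X pq)) :
    ∀ (k : ℤ) (hk : r ≤ k), IsZero ((E.page k (hr.trans hk)).X pq) := by
  intro k hk
  induction k, hk using Int.leInduction with
  | base => exact h
  | succ n hn ih => exact isZero_succ E n (hr.trans hn) pq ih

theorem isZero_pred (r : ℤ) (hr : r₀ ≤ r) (pq : ℤ × ℤ)
    (h1 : (E.page r hr).d (pq - (r, 1 - r)) pq = 0) (h2 : (E.page r hr).d pq (pq + (r, 1 - r)) = 0)
    (h : IsZero ((E.page (r + 1) (by lia)).X pq)) : IsZero ((E.page r hr).X pq) :=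
  (h.of_iso (E.iso r (r + 1) pq rfl hr)).of_iso (homologyIsoX (E.page r hr) pq h1 h2).symm

theorem isZero_of_stationary (s : ℤ) (pq : ℤ × ℤ) (hs : SpSeq.StationaryAt E pq s) :
    ∀ (k : ℤ) (hk : s ≤ k), IsZero ((E.page k (hs.1.trans hk)).X pq) → IsZero ((E.page s hs.1).X pq) := by
  intro k hk
  induction k, hk using Int.leInduction with
  | base => exact fun h => h
  | succ n hn ih =>
    intro h
    apply ih
    exact isZero_pred E n (hs.1.trans hn) pq (hs.2 n (hs.1.trans hn) hn).1 (hs.2 n (hs.1.trans hn) hn).2 h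

theorem isZero_grPiece_of_isZero_page {H : ℤ → C} (a : SpSeq.Abutment E H) (r : ℤ) (hr : r₀ ≤ r)
    (pq : ℤ × ℤ) (h : IsZero ((E.page r hr).X pq)) :
    IsZero (SpSeq.grPiece (a.fil (pq.1 + pq.2)) (a.anti (pq.1 + pq.2)) pq.1) := by
  have hs := a.stat pq
  have key : IsZero ((E.page (a.rk pq) hs.1).X pq) := by
    rcases le_total r (a.rk pq) with hle | hle
    · exact isZero_of_le E r hr pq h (a.rk pq) hle
    · exact isZero_of_stationary E (a.rk pq) pq hs r hle h
  exact key.of_iso (a.β pq).symm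

theorem isZero_grPiece_congr {H : ℤ → C} (a : SpSeq.Abutment E H) (m n : ℤ) (h : m = n) (p : ℤ) :
    IsZero (SpSeq.grPiece (a.fil m) (a.anti m) p) → IsZero (SpSeq.grPiece (a.fil n) (a.anti n) p) := by
  subst h
  exact id

theorem nonempty_iso_of_stationary (s : ℤ) (pq : ℤ × ℤ) (hs : SpSeq.StationaryAt E pq s) :
    ∀ (k : ℤ) (hk : s ≤ k),
      Nonempty ((E.page s hs.1).X pq ≅ (E.page k (hs.1.trans hk)).X pq) := by
  intro k hk
  induction k, hk using Int.leInduction with
  | base => exact ⟨Iso.refl _⟩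
  | succ n hn ih =>
    obtain ⟨e⟩ := ih
    exact ⟨e ≪≫ (homologyIsoX (E.page n (hs.1.trans hn)) pq (hs.2 n (hs.1.trans hn) hn).1
      (hs.2 n (hs.1.trans hn) hn).2).symm ≪≫ E.iso n (n + 1) pq rfl (hs.1.trans hn)⟩

theorem nonempty_iso_of_single {H : ℤ → C} (a : SpSeq.Abutment E H) (r : ℤ) (hr : r₀ ≤ r)
    (p Q n : ℤ) (hn : p + Q = n)
    (hzero : ∀ p', p' ≠ p → IsZero (SpSeq.grPiece (a.fil n) (a.anti n) p'))
    (hdisc : (a.filObj n).IsDiscrete) (hexh : a.IsExhaustive n)
    (hst : SpSeq.StationaryAt E (p, Q) r) :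
    Nonempty (H n ≅ (E.page r hr).X (p, Q)) := by
  subst hn
  obtain ⟨h1, h2⟩ := top_bot_of_single (a.fil (p + Q)) (a.anti (p + Q)) p hzero hdisc hexh
  obtain ⟨e1⟩ := nonempty_iso_grPiece_of_top_bot _ (a.anti (p + Q)) p h1 h2
  have e2 : (E.page (a.rk (p, Q)) (a.stat (p, Q)).1).X (p, Q) ≅
      SpSeq.grPiece (a.fil (p + Q)) (a.anti (p + Q)) p := a.β (p, Q)
  rcases le_total r (a.rk (p, Q)) with hle | hle
  · obtain ⟨e3⟩ := nonempty_iso_of_stationary E r (p, Q) hst _ hle
    exact ⟨e1 ≪≫ e2.symm ≪≫ e3.symm⟩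
  · obtain ⟨e3⟩ := nonempty_iso_of_stationary E (a.rk (p, Q)) (p, Q) (a.stat _) r hle
    exact ⟨e1 ≪≫ e2.symm ≪≫ e3⟩

end Groth.Agent.Helper1.SpSeqL
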