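import Mathlib
import Groth.Prelude.Def_Adeq2
import Groth.Agent.Lib.Helper1.Flq5
import Groth.Agent.Lib.Helper3.LerayCol3
import Groth.Agent.Lib.Helper3.ExtRD

set_option autoImplicit false
set_option linter.unusedSectionVars false
set_option linter.unusedVariables false
set_option maxHeartbeats 400000
universe u
open CategoryTheory CategoryTheory.Limits AlgebraicGeometry Opposite TopologicalSpace

namespace Groth.Agent.Helper1.Flq

open Groth.Agent.Helper1.Car Groth.Agent.Helper1.AdqH

variable (S : Scheme.{u})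

/-- global sections on the Zariski site -/
noncomputable abbrev ΓZ : EtZar.Ab S ⥤ AddCommGrpCat.{u + 1} :=
  (sheafSections (Opens.grothendieckTopology S) AddCommGrpCat.{u + 1}).obj (op ⊤)

instance : (ΓZ S).Additive where

instance : PreservesFiniteLimits (ΓZ S) :=
  inferInstanceAs (PreservesFiniteLimits (sheafToPresheaf _ _ ⋙ (evaluation _ _).obj (op ⊤)))

/-- the constant sheaf `ℤ` on the Zariski site -/
noncomputable abbrev ZZ : EtZar.Ab S :=
  (constantSheaf (Opens.grothendieckTopology S) AddCommGrpCat.{u + 1}).obj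
    (AddCommGrpCat.of (ULift ℤ))

/-- maps from the constant sheaf are global sections -/
noncomputable def coyonedaIsoΓZ : preadditiveCoyoneda.obj (op (ZZ S)) ≅ ΓZ S :=
  NatIso.ofComponents (fun F => AddEquiv.toAddCommGrpIso
      (X := AddCommGrpCat.of (ZZ S ⟶ F)) (Y := F.obj.obj (op ⊤))
      (((constantSheafAdj (Opens.grothendieckTopology S) AddCommGrpCat.{u + 1}
        (isTerminalTop : IsTerminal (⊤ : Opens S))).homAddEquiv _ F).trans
        (AddCommGrpCat.uliftZMultiplesAddEquiv _)))
    (fun {F G} φ => by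
      ext ψ
      change AddCommGrpCat.uliftZMultiplesAddEquiv _
          ((constantSheafAdj (Opens.grothendieckTopology S) AddCommGrpCat.{u + 1}
            (isTerminalTop : IsTerminal (⊤ : Opens S))).homEquiv _ G (ψ ≫ φ)) =
        (φ.hom.app (op ⊤)).hom (AddCommGrpCat.uliftZMultiplesAddEquiv _
          ((constantSheafAdj (Opens.grothendieckTopology S) AddCommGrpCat.{u + 1}
            (isTerminalTop : IsTerminal (⊤ : Opens S))).homEquiv _ F ψ))
      rw [Adjunction.homEquiv_naturality_right]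
      rfl)

/-- global sections on the big site -/
noncomputable abbrev ΓF : Sheaf (JT S) AddCommGrpCat.{u + 1} ⥤ AddCommGrpCat.{u + 1} :=
  (sheafSections (JT S) AddCommGrpCat.{u + 1}).obj (op (Over.mk (𝟙 S)))

instance : (ΓF S).Additive where

/-- the constant sheaf `ℤ` on the big site -/
noncomputable abbrev ZF : Sheaf (JT S) AddCommGrpCat.{u + 1} :=
  (constantSheaf (JT S) AddCommGrpCat.{u + 1}).obj (AddCommGrpCat.of (ULift ℤ))

/-- maps from the constant sheaf are global sections -/
noncomputable def coyonedaIsoΓF : preadditiveCoyoneda.obj (op (ZF S)) ≅ ΓF S :=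
  NatIso.ofComponents (fun F => AddEquiv.toAddCommGrpIso
      (X := AddCommGrpCat.of (ZF S ⟶ F)) (Y := F.obj.obj (op (Over.mk (𝟙 S))))
      (((constantSheafAdj (JT S) AddCommGrpCat.{u + 1}
        (Over.mkIdTerminal : IsTerminal (Over.mk (𝟙 S)))).homAddEquiv _ F).trans
        (AddCommGrpCat.uliftZMultiplesAddEquiv _)))
    (fun {F G} φ => by
      ext ψ
      change AddCommGrpCat.uliftZMultiplesAddEquiv _
          ((constantSheafAdj (JT S) AddCommGrpCat.{u + 1}
            (Over.mkIdTerminal : IsTerminal (Over.mk (𝟙 S)))).homEquiv _ G (ψ ≫ φ)) =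
        (φ.hom.app (op (Over.mk (𝟙 S)))).hom (AddCommGrpCat.uliftZMultiplesAddEquiv _
          ((constantSheafAdj (JT S) AddCommGrpCat.{u + 1}
            (Over.mkIdTerminal : IsTerminal (Over.mk (𝟙 S)))).homEquiv _ F ψ))
      rw [Adjunction.homEquiv_naturality_right]
      rfl)

/-- the whole scheme as an open of itself is the terminal object of the big site -/
noncomputable def topIsoOver : (BigSite.zarIncl S).obj ⊤ ≅ Over.mk (𝟙 S) :=
  Over.isoMk S.topIso (by
    change (⊤ : S.Opens).ι ≫ 𝟙 S = (⊤ : S.Opens).ι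
    exact Category.comp_id _)

variable [BigSite.ZarCont Scheme.fppfPrecoverage S]

/-- global sections of the restriction to the Zariski site -/
noncomputable def resΓIso : BigSite.resZar Scheme.fppfPrecoverage S ⋙ ΓZ S ≅ ΓF S :=
  (NatIso.ofComponents (fun F => Iso.refl _) (fun {F G} φ => by
    refine (Category.comp_id _).trans (Eq.trans ?_ (Category.id_comp _).symm)
    rfl) :
    BigSite.resZar Scheme.fppfPrecoverage S ⋙ ΓZ S ≅
      (sheafSections (JT S) AddCommGrpCat.{u + 1}).obj (op ((BigSite.zarIncl S).obj ⊤))) ≪≫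
  (sheafSections (JT S) AddCommGrpCat.{u + 1}).mapIso (topIsoOver S).symm.op

open Groth.Agent.Helper3 in
/-- Zariski and fppf cohomology agree for `PA` sheaves -/
theorem zar_fppf_iso (A : Sheaf (JT S) AddCommGrpCat.{u + 1}) (hA : PA A) (q : ℕ) :
    Nonempty (EtZar.H ((BigSite.resZar Scheme.fppfPrecoverage S).obj A) q ≃+
      BigSite.H Scheme.fppfPrecoverage S A q) := by
  haveI : (BigSite.resZar Scheme.fppfPrecoverage S).IsRightAdjoint :=
    (BigSite.piZarAdj Scheme.fppfPrecoverage S).isRightAdjoint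
  have hT : ∀ Q : BigSite.Ab Scheme.fppfPrecoverage S, Injective Q → ∀ q : ℕ, 0 < q →
      IsZero (((ΓZ S).rightDerived q).obj ((BigSite.resZar Scheme.fppfPrecoverage S).obj Q)) := by
    intro Q hQ q hq
    haveI := hQ
    obtain ⟨m, rfl⟩ : ∃ m, q = m + 1 := ⟨q - 1, by omega⟩
    have e := ExtRD.rightDerivedIsoExt (ΓZ S) (ZZ S) (coyonedaIsoΓZ S).symm
      ((BigSite.resZar Scheme.fppfPrecoverage S).obj Q) (m + 1)
    refine IsZero.of_iso ?_ e
    have hfl := isFl_resZar_of_injective Scheme.fppfPrecoverage Q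
    haveI : Subsingleton (Abelian.Ext (ZZ S) ((BigSite.resZar Scheme.fppfPrecoverage S).obj Q) (m + 1)) :=
      ⟨fun x y => (ext_eq_zero_of_isFl _ hfl m x).trans (ext_eq_zero_of_isFl _ hfl m y).symm⟩
    exact AddCommGrpCat.isZero_of_subsingleton _
  have hvan : ∀ q : ℕ, 0 < q →
      IsZero (((BigSite.resZar Scheme.fppfPrecoverage S).rightDerived q).obj A) := by
    intro q hq
    obtain ⟨m, rfl⟩ : ∃ m, q = m + 1 := ⟨q - 1, by omega⟩
    exact isZero_rightDerived_resZar A hA m
  obtain ⟨e1⟩ := LerayCol3.nonempty_iso_row (BigSite.resZar Scheme.fppfPrecoverage S) (ΓZ S) hT A hvan q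
  let e2 := ExtRD.rightDerivedIsoExt (ΓZ S) (ZZ S) (coyonedaIsoΓZ S).symm
    ((BigSite.resZar Scheme.fppfPrecoverage S).obj A) q
  let e3 := ExtRD.rightDerivedIsoExt (BigSite.resZar Scheme.fppfPrecoverage S ⋙ ΓZ S) (ZF S)
    (resΓIso S ≪≫ (coyonedaIsoΓF S).symm) A q
  exact ⟨(e2.symm ≪≫ e1.symm ≪≫ e3).addCommGroupIsoToAddEquiv⟩

open Groth.Agent.Helper1.Ami Groth.Agent.Helper1.AdqS in
theorem PA_adequate {S : Scheme.{u}} (M : BigSite.Mod Scheme.fppfPrecoverage S)
    (hM : Adeq.adequateMod Scheme.fppfPrecoverage S M) :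
    PA ((BigSite.toAbMod Scheme.fppfPrecoverage S).obj M) := by
  intro R v B _ _ _ hcov
  let F := (Adeq.toMVF Scheme.fppfPrecoverage v).obj M
  have hF : Adeq.adequate R F := adequate_toMVF_fppf S M hM R v
  have h1 : AmExact R B F.toAb := by
    intro n x hx
    rw [dG_toAb] at hx
    obtain ⟨y, hy⟩ := dA_adequate_exact R B F hF (n + 1) x hx
    exact ⟨y, (dG_toAb R B F n y).trans hy⟩
  let e : F.toAb ≅ gv ((BigSite.toAbMod Scheme.fppfPrecoverage S).obj M).obj v :=
    NatIso.ofComponents (fun C => Iso.refl _) (fun {C C'} g => by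
      refine (Category.comp_id _).trans (Eq.trans ?_ (Category.id_comp _).symm)
      rfl)
  exact amExact_of_iso R B e h1

end Groth.Agent.Helper1.Flq
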