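import Mathlib
import Groth.Prelude.Def_Adeq2
import Groth.Agent.Lib.Helper1.Flq6

set_option autoImplicit false
set_option linter.unusedSectionVars false
set_option linter.unusedVariables false
set_option maxHeartbeats 400000
universe u
open CategoryTheory CategoryTheory.Limits AlgebraicGeometry Opposite TopologicalSpace

namespace Groth.Agent.Helper1.Eps

open Groth.Agent.Helper1.Car Groth.Agent.Helper1.AdqH Groth.Agent.Helper1.Flq
  Groth.Agent.Helper1.AdqP

section Gen

variable (K : Precoverage Scheme.{u}) (S : Scheme.{u})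

/-- global sections on the big site for the topology of `K` -/
noncomputable abbrev ΓK : BigSite.Ab K S ⥤ AddCommGrpCat.{u + 1} :=
  (sheafSections (QuotSh.J K S) AddCommGrpCat.{u + 1}).obj (op (Over.mk (𝟙 S)))

instance : (ΓK K S).Additive where

instance : PreservesFiniteLimits (ΓK K S) :=
  inferInstanceAs (PreservesFiniteLimits (sheafToPresheaf _ _ ⋙ (evaluation _ _).obj (op (Over.mk (𝟙 S)))))

/-- the constant sheaf `ℤ` -/
noncomputable abbrev ZK : BigSite.Ab K S :=
  (constantSheaf (QuotSh.J K S) AddCommGrpCat.{u + 1}).obj (AddCommGrpCat.of (ULift ℤ))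

/-- maps from the constant sheaf are global sections -/
noncomputable def coyonedaIsoΓK : preadditiveCoyoneda.obj (op (ZK K S)) ≅ ΓK K S :=
  NatIso.ofComponents (fun F => AddEquiv.toAddCommGrpIso
      (X := AddCommGrpCat.of (ZK K S ⟶ F)) (Y := F.obj.obj (op (Over.mk (𝟙 S))))
      (((constantSheafAdj (QuotSh.J K S) AddCommGrpCat.{u + 1}
        (Over.mkIdTerminal : IsTerminal (Over.mk (𝟙 S)))).homAddEquiv _ F).trans
        (AddCommGrpCat.uliftZMultiplesAddEquiv _)))
    (fun {F G} φ => by
      ext ψ
      change AddCommGrpCat.uliftZMultiplesAddEquiv _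
          ((constantSheafAdj (QuotSh.J K S) AddCommGrpCat.{u + 1}
            (Over.mkIdTerminal : IsTerminal (Over.mk (𝟙 S)))).homEquiv _ G (ψ ≫ φ)) =
        (φ.hom.app (op (Over.mk (𝟙 S)))).hom (AddCommGrpCat.uliftZMultiplesAddEquiv _
          ((constantSheafAdj (QuotSh.J K S) AddCommGrpCat.{u + 1}
            (Over.mkIdTerminal : IsTerminal (Over.mk (𝟙 S)))).homEquiv _ F ψ))
      rw [Adjunction.homEquiv_naturality_right]
      rfl)

open Groth.Agent.Helper3 in
/-- cohomology on the big site as right derived functors of global sections -/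
noncomputable def rightDerivedΓKIso (A : BigSite.Ab K S) (n : ℕ) :
    ((ΓK K S).rightDerived n).obj A ≅ AddCommGrpCat.of (BigSite.H K S A n) :=
  ExtRD.rightDerivedIsoExt (ΓK K S) (ZK K S) (coyonedaIsoΓK K S).symm A n

end Gen

section InjSh

variable {C : Type*} [Category C] (J : GrothendieckTopology C)

/-- a sheaf whose underlying presheaf is injective is an injective sheaf -/
theorem injective_sheaf_of_injective_presheaf {A : Type*} [Category A]
    [(sheafToPresheaf J A).PreservesMonomorphisms]
    (F : Sheaf J A) (hF : Injective F.obj) : Injective F := by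
  constructor
  intro X Y g f hf
  haveI : Mono ((sheafToPresheaf J A).map f) := (sheafToPresheaf J A).map_mono f
  haveI : Injective ((sheafToPresheaf J A).obj F) := hF
  refine ⟨⟨Injective.factorThru ((sheafToPresheaf J A).map g) ((sheafToPresheaf J A).map f)⟩, ?_⟩
  apply Sheaf.hom_ext
  exact Injective.comp_factorThru ((sheafToPresheaf J A).map g) ((sheafToPresheaf J A).map f)

end InjSh

end Groth.Agent.Helper1.Eps
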