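import Mathlib
import Groth.Prelude.Def_Adeq2
import Groth.Agent.Lib.Helper1.Eps1

set_option autoImplicit false
set_option linter.unusedSectionVars false
set_option linter.unusedVariables false
set_option maxHeartbeats 400000
universe u
open CategoryTheory CategoryTheory.Limits AlgebraicGeometry Opposite TopologicalSpace

namespace Groth.Agent.Helper1.Eps

open Groth.Agent.Helper1.Car Groth.Agent.Helper1.AdqH Groth.Agent.Helper1.Flq
  Groth.Agent.Helper1.AdqP

variable {S : Scheme.{u}}

/-- the forgetful functor from fppf sheaves to étale sheaves -/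
noncomputable abbrev epsEF (S : Scheme.{u}) :
    BigSite.Ab Scheme.fppfPrecoverage S ⥤ BigSite.Ab Scheme.etalePrecoverage S :=
  BigSite.eps Scheme.etalePrecoverage Scheme.fppfPrecoverage S AddCommGrpCat.{u + 1}

section Surj

variable (C : ShortComplex (Sheaf (JT S) AddCommGrpCat.{u + 1})) (hC : C.ShortExact)

include hC in
theorem epi_eps_map (h₁ : PA C.X₁) : Epi ((epsEF S).map C.g) := by
  rw [← Sheaf.isLocallySurjective_iff_epi']
  constructor
  intro U s
  let 𝒰 := U.left.affineCover
  let W : 𝒰.I₀ → Over S := fun i => Over.mk (𝒰.f i ≫ U.hom)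
  let n : ∀ i, W i ⟶ U := fun i => Over.homMk (𝒰.f i) rfl
  have hcov := ofArrows_mem_J_of_open Scheme.etalePrecoverage
    BigSite.zariskiPrecoverage_le_etalePrecoverage U W n
    (fun i => inferInstanceAs (IsOpenImmersion (𝒰.f i)))
    (fun v => by
      obtain ⟨i, x, hx⟩ := 𝒰.exists_eq v
      exact ⟨i, x, hx⟩)
  refine GrothendieckTopology.superset_covering _ ?_ hcov
  rintro Y f ⟨Z, h, g', ⟨i⟩, rfl⟩
  haveI : IsAffine (W i).left := inferInstanceAs (IsAffine (𝒰.X i))
  obtain ⟨t, ht⟩ := surj_affine C hC h₁ (W i) ((C.X₃.obj.map (n i).op).hom s)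
  refine ⟨(C.X₂.obj.map h.op).hom t, ?_⟩
  change (C.g.hom.app (op _)).hom ((C.X₂.obj.map h.op).hom t) = (C.X₃.obj.map (h ≫ n i).op).hom s
  have h1 := ConcreteCategory.congr_hom (C.g.hom.naturality h.op) t
  refine h1.trans ?_
  change (C.X₃.obj.map h.op).hom ((C.g.hom.app (op (W i))).hom t) = _
  rw [ht]
  have h2 := ConcreteCategory.congr_hom (C.X₃.obj.map_comp (n i).op h.op) s
  exact h2.symm

end Surj

/-- the higher derived functors of the forgetful functor to étale sheaves vanish on `PA` sheaves -/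
theorem isZero_rightDerived_eps (A : Sheaf (JT S) AddCommGrpCat.{u + 1}) (hA : PA A) (n : ℕ) :
    IsZero (((epsEF S).rightDerived (n + 1)).obj A) := by
  haveI : (epsEF S).IsRightAdjoint :=
    (BigSite.epsAdj Scheme.etalePrecoverage Scheme.fppfPrecoverage S).isRightAdjoint
  exact rightDerived_isZero (epsEF S) PA
    (fun C hC h₁ hI => by
      haveI := hI
      exact ⟨PA_of_shortExact C hC h₁, epi_eps_map C hC h₁⟩) n A hA

/-- the forgetful functor to étale sheaves preserves injectives -/
theorem injective_eps (Q : BigSite.Ab Scheme.fppfPrecoverage S) [Injective Q] :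
    Injective ((epsEF S).obj Q) :=
  injective_sheaf_of_injective_presheaf _ _ (injective_presheaf_big Scheme.fppfPrecoverage Q)

/-- global sections of the underlying étale sheaf -/
noncomputable def epsΓIso : epsEF S ⋙ ΓK Scheme.etalePrecoverage S ≅ ΓK Scheme.fppfPrecoverage S :=
  NatIso.ofComponents (fun F => Iso.refl _) (fun {F G} φ => by
    refine (Category.comp_id _).trans (Eq.trans ?_ (Category.id_comp _).symm)
    rfl)

open Groth.Agent.Helper3 in
/-- étale and fppf cohomology agree for `PA` sheaves -/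
theorem et_fppf_iso (A : Sheaf (JT S) AddCommGrpCat.{u + 1}) (hA : PA A) (q : ℕ) :
    Nonempty (BigSite.H Scheme.etalePrecoverage S ((epsEF S).obj A) q ≃+
      BigSite.H Scheme.fppfPrecoverage S A q) := by
  haveI : (epsEF S).IsRightAdjoint :=
    (BigSite.epsAdj Scheme.etalePrecoverage Scheme.fppfPrecoverage S).isRightAdjoint
  have hT : ∀ Q : BigSite.Ab Scheme.fppfPrecoverage S, Injective Q → ∀ q : ℕ, 0 < q →
      IsZero (((ΓK Scheme.etalePrecoverage S).rightDerived q).obj ((epsEF S).obj Q)) := by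
    intro Q hQ q hq
    haveI := hQ
    haveI := injective_eps Q
    obtain ⟨m, rfl⟩ : ∃ m, q = m + 1 := ⟨q - 1, by omega⟩
    exact Functor.isZero_rightDerived_obj_injective_succ _ m _
  have hvan : ∀ q : ℕ, 0 < q → IsZero (((epsEF S).rightDerived q).obj A) := by
    intro q hq
    obtain ⟨m, rfl⟩ : ∃ m, q = m + 1 := ⟨q - 1, by omega⟩
    exact isZero_rightDerived_eps A hA m
  obtain ⟨e1⟩ := LerayCol3.nonempty_iso_row (epsEF S) (ΓK Scheme.etalePrecoverage S) hT A hvan q
  let e2 := rightDerivedΓKIso Scheme.etalePrecoverage S ((epsEF S).obj A) q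
  let e3 := ExtRD.rightDerivedIsoExt (epsEF S ⋙ ΓK Scheme.etalePrecoverage S)
    (ZK Scheme.fppfPrecoverage S)
    (epsΓIso ≪≫ (coyonedaIsoΓK Scheme.fppfPrecoverage S).symm) A q
  exact ⟨(e2.symm ≪≫ e1.symm ≪≫ e3).addCommGroupIsoToAddEquiv⟩

end Groth.Agent.Helper1.Eps
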