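import Mathlib
import Groth.Prelude.Def_Adeq2
import Groth.Agent.Lib.Helper1.Eps2

set_option autoImplicit false
set_option linter.unusedSectionVars false
set_option linter.unusedVariables false
set_option maxHeartbeats 400000
universe u
open CategoryTheory CategoryTheory.Limits AlgebraicGeometry Opposite TopologicalSpace TensorProduct

namespace Groth.Agent.Helper1.Eps

open Groth.Agent.Helper1.Car Groth.Agent.Helper1.AdqH Groth.Agent.Helper1.Flq
  Groth.Agent.Helper1.AdqP Groth.Agent.Helper1.Ami

/-- the structure sheaf as an abelian fppf sheaf -/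
noncomputable abbrev Oab (S : Scheme.{u}) : BigSite.Ab Scheme.fppfPrecoverage S :=
  (BigSite.toAbMod Scheme.fppfPrecoverage S).obj (BigSite.unitMod Scheme.fppfPrecoverage S)

variable {S : Scheme.{u}} {R : CommRingCat.{u}} (v : Spec R ⟶ S)

/-- sections of the structure sheaf over an affine object -/
noncomputable def sectEquiv (C : Adeq.Alg R) :
    (C : Type u) ≃+ (gv (Oab S).obj v).obj C :=
  ((Scheme.ΓSpecIso (CommRingCat.of C)).symm.commRingCatIsoToRingEquiv.trans
    (ULift.ringEquiv.symm :
      Γ(Spec (CommRingCat.of C), ⊤) ≃+* ULift.{u + 1} Γ(Spec (CommRingCat.of C), ⊤))).toAddEquiv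

theorem sectEquiv_nat {C C' : Adeq.Alg R} (g : C ⟶ C') (c : C) :
    ((gv (Oab S).obj v).map g).hom (sectEquiv v C c) = sectEquiv v C' (g.hom c) := by
  apply ULift.ext
  change ((Scheme.ΓSpecIso (CommRingCat.of C)).inv ≫
        (Spec.map (CommRingCat.ofHom g.hom.toRingHom)).appTop) c =
      (CommRingCat.ofHom g.hom.toRingHom ≫ (Scheme.ΓSpecIso (CommRingCat.of C')).inv) c
  rw [Scheme.ΓSpecIso_inv_naturality]

/-- the free module of rank one, one universe up -/
noncomputable abbrev MU (R : CommRingCat.{u}) : ModuleCat.{u + 1} R := ModuleCat.of R (ULift.{u + 1} R)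

noncomputable def tensEquiv (C : Adeq.Alg R) : ((C : Type u) ⊗[R] (MU R)) ≃+ (C : Type u) :=
  ((TensorProduct.congr (LinearEquiv.refl R C)
    (ULift.moduleEquiv : ULift.{u + 1} R ≃ₗ[R] R)).trans (TensorProduct.rid R C)).toAddEquiv

theorem tensEquiv_tmul (C : Adeq.Alg R) (c : C) (r : ULift.{u + 1} R) :
    tensEquiv C (c ⊗ₜ[R] (r : MU R)) = r.down • c := rfl

theorem tensEquiv_nat {C C' : Adeq.Alg R} (g : C ⟶ C') (x : (C : Type u) ⊗[R] (MU R)) :
    tensEquiv C' ((g.hom.toLinearMap.rTensor (MU R)) x) = g.hom (tensEquiv C x) := by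
  induction x using TensorProduct.induction_on with
  | zero => simp
  | tmul c r =>
    rw [LinearMap.rTensor_tmul, tensEquiv_tmul, tensEquiv_tmul]
    simp
  | add x y hx hy => simp only [map_add, hx, hy]

/-- the structure sheaf on affine objects is the functor underlying the free module of rank one -/
noncomputable def undIso : ((Adeq.underline R).obj (MU R)).toAb ≅ gv (Oab S).obj v :=
  NatIso.ofComponents (fun C => AddEquiv.toAddCommGrpIso
      (X := AddCommGrpCat.of ((C : Type u) ⊗[R] (MU R))) ((tensEquiv C).trans (sectEquiv v C)))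
    (fun {C C'} g => by
      ext x
      change sectEquiv v C' (tensEquiv C' ((g.hom.toLinearMap.rTensor (MU R)) x)) =
        ((gv (Oab S).obj v).map g).hom (sectEquiv v C (tensEquiv C x))
      rw [sectEquiv_nat, tensEquiv_nat])

/-- the structure sheaf has exact Amitsur complexes -/
theorem PA_O (S : Scheme.{u}) : PA (Oab S) := by
  intro R v B _ _ _ hcov
  let F := (Adeq.underline R).obj (MU R)
  have h1 : AmExact R B F.toAb := by
    intro n x hx
    rw [dG_toAb] at hx
    obtain ⟨y, hy⟩ := dA_underline_exact R B (MU R) (n + 1) x hx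
    exact ⟨y, (dG_toAb R B F n y).trans hy⟩
  exact amExact_of_iso R B (undIso v) h1

end Groth.Agent.Helper1.Eps
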