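import Mathlib
import Groth.Prelude.Def_Adeq2
import Groth.Prelude.Def_EtGm
import Groth.Agent.Lib.Helper1.Eps3
import Groth.Agent.S6185

set_option autoImplicit false
set_option linter.unusedSectionVars false
set_option linter.unusedVariables false
set_option maxHeartbeats 400000
universe u
open CategoryTheory CategoryTheory.Limits AlgebraicGeometry Opposite TopologicalSpace TensorProduct

namespace Groth.Agent.Helper1.Eps

open Groth.Agent.Helper1.Car Groth.Agent.Helper1.AdqH Groth.Agent.Helper1.Flq
  Groth.Agent.Helper1.AdqP Groth.Agent.Helper1.Ami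

variable (S : Scheme.{u})

/-- the structure sheaf as a big étale sheaf -/
noncomputable abbrev OabE : BigSite.Ab Scheme.etalePrecoverage S := (epsEF S).obj (Oab S)

/-- `G_a` on the small étale site is the restriction of the structure sheaf of the big site -/
noncomputable def gaIso :
    EtCoh.Ga S ≅ (BigSite.resEt Scheme.etalePrecoverage S).obj (OabE S) :=
  (fullyFaithfulSheafToPresheaf _ _).preimageIso
    (NatIso.ofComponents (fun U => AddEquiv.toAddCommGrpIso
      { toEquiv := Equiv.refl _
        map_add' := fun _ _ => rfl })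
      (fun {U V} f => by
        ext x
        rfl))

/-- étale cohomology of `G_a` is the fppf cohomology of the structure sheaf -/
theorem ga_fppf_iso (p : ℕ) :
    Nonempty (EtCoh.H S (EtCoh.Ga S) p ≃+ BigSite.H Scheme.fppfPrecoverage S (Oab S) p) := by
  let e1 : EtCoh.H S (EtCoh.Ga S) p ≃+
      EtCoh.H S ((BigSite.resEt Scheme.etalePrecoverage S).obj (OabE S)) p :=
    ((EtCoh.HF S p).mapIso (gaIso S)).addCommGroupIsoToAddEquiv
  obtain ⟨e2⟩ := Groth.Agent.S6185.result S (OabE S) p
  obtain ⟨e3⟩ := et_fppf_iso (Oab S) (PA_O S) p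
  exact ⟨e1.trans (e2.trans e3)⟩

/-- vanishing of the higher étale cohomology of `G_a` on an affine scheme -/
theorem subsingleton_H_ga [IsAffine S] (p : ℕ) (hp : 1 ≤ p) :
    Subsingleton (EtCoh.H S (EtCoh.Ga S) p) := by
  obtain ⟨e⟩ := ga_fppf_iso S p
  obtain ⟨n, rfl⟩ : ∃ n, p = n + 1 := ⟨p - 1, by omega⟩
  haveI : Subsingleton (BigSite.H Scheme.fppfPrecoverage S (Oab S) (n + 1)) :=
    ⟨fun x y => (ext_eq_zero_of_PA (Oab S) (PA_O S) n x).trans
      (ext_eq_zero_of_PA (Oab S) (PA_O S) n y).symm⟩
  exact e.toEquiv.subsingleton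

end Groth.Agent.Helper1.Eps
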