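import Mathlib
import Groth.Prelude.Def_EtGm
import Groth.Agent.Lib.Helper1.AS4
import Groth.Agent.Lib.Helper1.Eps4

set_option autoImplicit false
set_option linter.unusedSectionVars false
set_option linter.unusedVariables false
set_option maxHeartbeats 400000
universe u
open CategoryTheory CategoryTheory.Limits AlgebraicGeometry Opposite TopologicalSpace

namespace Groth.Agent.Helper1.AS

variable (S : Scheme.{u}) (p : ℕ) [hp : Fact p.Prime] (hS : (p : Γ(S, ⊤)) = 0)

/-- the Artin–Schreier short complex `0 → ker → G_a → G_a → 0` -/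
noncomputable abbrev asSC : ShortComplex (EtCoh.Ab S) :=
  ShortComplex.mk (kernel.ι (asMap S p hS)) (asMap S p hS) (kernel.condition _)

theorem asSC_shortExact : (asSC S p hS).ShortExact :=
  { exact := ShortComplex.exact_of_f_is_kernel _ (kernelIsKernel _)
    mono_f := inferInstanceAs (Mono (kernel.ι (asMap S p hS)))
    epi_g := epi_asMap S p hS }

/-- isomorphic étale sheaves have isomorphic cohomology -/
noncomputable def HEquivOfIso {F G : EtCoh.Ab S} (e : F ≅ G) (n : ℕ) :
    EtCoh.H S F n ≃+ EtCoh.H S G n :=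
  AddMonoidHom.toAddEquiv (Sheaf.H.map e.hom n) (Sheaf.H.map e.inv n)
    (by
      ext x
      change Sheaf.H.map e.inv n (Sheaf.H.map e.hom n x) = x
      rw [← Sheaf.H.map_comp_apply, e.hom_inv_id, Sheaf.H.map_id_apply])
    (by
      ext x
      change Sheaf.H.map e.hom n (Sheaf.H.map e.inv n x) = x
      rw [← Sheaf.H.map_comp_apply, e.inv_hom_id, Sheaf.H.map_id_apply])

include hS in
/-- Artin–Schreier: vanishing of the cohomology of `G_a` in two consecutive degrees gives
vanishing of the cohomology of `ℤ/p` in the higher degree -/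
theorem subsingleton_H_const (q : ℕ)
    (h1 : Subsingleton (EtCoh.H S (EtCoh.Ga S) q))
    (h2 : Subsingleton (EtCoh.H S (EtCoh.Ga S) (q + 1))) :
    Subsingleton (EtCoh.H S (EtCoh.const S (ZMod p)) (q + 1)) := by
  have hK : Subsingleton (EtCoh.H S (kernel (asMap S p hS)) (q + 1)) := by
    refine ⟨fun x y => ?_⟩
    have hz : ∀ z : EtCoh.H S (kernel (asMap S p hS)) (q + 1), z = 0 := by
      intro z
      obtain ⟨w, hw⟩ := Abelian.Ext.covariant_sequence_exact₁ _ (asSC_shortExact S p hS) z
        (Subsingleton.elim _ _) (rfl : q + 1 = q + 1)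
      rw [← hw, Subsingleton.elim w 0, Abelian.Ext.zero_comp]
    rw [hz x, hz y]
  exact (HEquivOfIso S (constIso S p hS) (q + 1)).toEquiv.subsingleton

include hS in
/-- vanishing of `H^q(S_ét, ℤ/p)` for `q ≥ 2` on an affine scheme of characteristic `p` -/
theorem subsingleton_H_const_affine [IsAffine S] (q : ℕ) (hq : 2 ≤ q) :
    Subsingleton (EtCoh.H S (EtCoh.const S (ZMod p)) q) := by
  obtain ⟨n, rfl⟩ : ∃ n, q = n + 1 := ⟨q - 1, by omega⟩
  exact subsingleton_H_const S p hS n
    (Groth.Agent.Helper1.Eps.subsingleton_H_ga S n (by omega))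
    (Groth.Agent.Helper1.Eps.subsingleton_H_ga S (n + 1) (by omega))

end Groth.Agent.Helper1.AS
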