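import Mathlib
universe u v

namespace Groth.Agent.Helper1.AbL

section Basics
variable {G : Type*} [AddCommGroup G]

theorem bezout_smul {a b : ℕ} (hab : Nat.Coprime a b) (x : G) :
    ∃ α β : ℤ, x = α • (a • x) + β • (b • x) := by
  refine ⟨Nat.gcdA a b, Nat.gcdB a b, ?_⟩
  have h := Nat.gcd_eq_gcd_ab a b
  rw [hab.gcd_eq_one] at h
  have h1 : x = ((1 : ℕ) : ℤ) • x := by simp
  have h2 : ((1 : ℕ) : ℤ) • x = Nat.gcdA a b • (a • x) + Nat.gcdB a b • (b • x) := by
    rw [h, add_smul, mul_comm (a : ℤ), mul_comm (b : ℤ), mul_smul, mul_smul, natCast_zsmul, natCast_zsmul]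
  exact h1.trans h2

theorem eq_zero_of_coprime_smul {a b : ℕ} (hab : Nat.Coprime a b) (x : G) (ha : a • x = 0) (hb : b • x = 0) :
    x = 0 := by
  obtain ⟨α, β, h⟩ := bezout_smul hab x
  rw [h, ha, hb, smul_zero, smul_zero, add_zero]

/-- divisibility by all primes gives divisibility by all nonzero naturals -/
theorem nat_divisible_of_prime_divisible (H : AddSubgroup G)
    (h : ∀ q : ℕ, q.Prime → ∀ x ∈ H, ∃ y ∈ H, q • y = x) :
    ∀ n : ℕ, n ≠ 0 → ∀ x ∈ H, ∃ y ∈ H, n • y = x := by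
  intro n
  induction n using Nat.recOnMul with
  | zero => intro h0; exact absurd rfl h0
  | one => intro _ x hx; exact ⟨x, hx, one_smul _ _⟩
  | prime p hp => intro _ x hx; exact h p hp x hx
  | mul a b iha ihb =>
    intro hab x hx
    have ha : a ≠ 0 := fun h => hab (by rw [h, zero_mul])
    have hb : b ≠ 0 := fun h => hab (by rw [h, mul_zero])
    obtain ⟨y, hy, rfl⟩ := iha ha x hx
    obtain ⟨z, hz, rfl⟩ := ihb hb y hy
    exact ⟨z, hz, by rw [mul_smul]⟩

end Basics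


section Main

theorem split_torsion
    {A T : Type*} [AddCommGroup A] [AddCommGroup T] (P : Set ℕ) (hP : ∀ p ∈ P, p.Prime)
    (π : A →+ T) (hπ : Function.Surjective π) (hT : ∀ t : T, ∃ n : ℕ, 0 < n ∧ n • t = 0)
    (hD : ∀ ℓ ∈ P, ∀ x ∈ π.ker, ∃ y ∈ π.ker, ℓ • y = x)
    (TP T' : AddSubgroup T)
    (hTP : ∀ t, t ∈ TP ↔ ∃ n : ℕ, 0 < n ∧ (∀ p : ℕ, p.Prime → p ∣ n → p ∈ P) ∧ n • t = 0)
    (hT' : ∀ t, t ∈ T' ↔ ∃ n : ℕ, 0 < n ∧ (∀ p : ℕ, p.Prime → p ∣ n → p ∉ P) ∧ n • t = 0) :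
    (∀ ℓ ∈ P, ∀ x ∈ T'.comap π, ∃ y ∈ T'.comap π, ℓ • y = x) ∧
    ∃ s : TP →+ A, (∀ t : TP, π (s t) = (t : T)) ∧
      Function.Bijective (fun q : (T'.comap π) × TP => (q.1 : A) + s q.2) := by
  classical
  -- the index sets
  let IP : ℕ → Prop := fun n => 0 < n ∧ ∀ p : ℕ, p.Prime → p ∣ n → p ∈ P
  let IP' : ℕ → Prop := fun n => 0 < n ∧ ∀ p : ℕ, p.Prime → p ∣ n → p ∉ P
  have hIPmul : ∀ a b, IP a → IP b → IP (a * b) := by
    intro a b ha hb
    refine ⟨Nat.mul_pos ha.1 hb.1, fun p hp hdvd => ?_⟩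
    rcases (Nat.Prime.dvd_mul hp).mp hdvd with h | h
    · exact ha.2 p hp h
    · exact hb.2 p hp h
  have hcop : ∀ a b, IP a → IP' b → Nat.Coprime a b := by
    intro a b ha hb
    apply Nat.Coprime.symm
    apply Nat.coprime_of_dvd
    intro k hk hkb hka
    exact hb.2 k hk hkb (ha.2 k hk hka)
  -- Part 1
  have part1 : ∀ ℓ ∈ P, ∀ x ∈ T'.comap π, ∃ y ∈ T'.comap π, ℓ • y = x := by
    intro ℓ hℓ x hx
    rw [AddSubgroup.mem_comap, hT'] at hx
    obtain ⟨n, hn0, hnP, hnx⟩ := hx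
    have hℓn : Nat.Coprime ℓ n := by
      rw [(hP ℓ hℓ).coprime_iff_not_dvd]
      intro hdvd
      exact hnP ℓ (hP ℓ hℓ) hdvd hℓ
    obtain ⟨α, β, hαβ⟩ := bezout_smul hℓn (π x)
    rw [hnx, smul_zero, add_zero] at hαβ
    have hx' : π x ∈ T' := (hT' _).mpr ⟨n, hn0, hnP, hnx⟩
    have hker : x - ℓ • (α • x) ∈ π.ker := by
      rw [AddMonoidHom.mem_ker, map_sub, map_nsmul, map_zsmul, sub_eq_zero]
      rw [smul_comm] at hαβ
      exact hαβ
    obtain ⟨z, hz, hzx⟩ := hD ℓ hℓ _ hker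
    refine ⟨α • x + z, ?_, ?_⟩
    · rw [AddSubgroup.mem_comap, map_add, map_zsmul, AddMonoidHom.mem_ker.mp hz, add_zero]
      exact T'.zsmul_mem hx' α
    · rw [smul_add, hzx]; abel
  refine ⟨part1, ?_⟩
  -- the P-primary torsion subgroup of A
  let AP : AddSubgroup A :=
    { carrier := {a | ∃ n, IP n ∧ n • a = 0}
      zero_mem' := ⟨1, ⟨Nat.one_pos, fun p hp h => absurd (Nat.dvd_one.mp h) hp.ne_one⟩, by simp⟩
      add_mem' := by
        rintro a b ⟨n, hn, hna⟩ ⟨m, hm, hmb⟩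
        refine ⟨n * m, hIPmul n m hn hm, ?_⟩
        rw [smul_add, mul_comm, mul_smul, hna, smul_zero, mul_comm, mul_smul, hmb, smul_zero, add_zero]
      neg_mem' := by
        rintro a ⟨n, hn, hna⟩
        exact ⟨n, hn, by rw [smul_neg, hna, neg_zero]⟩ }
  let KP : AddSubgroup A := π.ker ⊓ AP
  -- KP is divisible by primes
  have hKPprime : ∀ q : ℕ, q.Prime → ∀ x ∈ KP, ∃ y ∈ KP, q • y = x := by
    intro q hq x hx
    obtain ⟨hxk, n, hn, hnx⟩ := hx
    by_cases hqP : q ∈ P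
    · obtain ⟨y, hy, hyx⟩ := hD q hqP x hxk
      refine ⟨y, ⟨hy, q * n, hIPmul q n ⟨hq.pos, fun p hp hdvd => ?_⟩ hn, ?_⟩, hyx⟩
      · rw [(Nat.prime_dvd_prime_iff_eq hp hq).mp hdvd]; exact hqP
      · rw [mul_comm, mul_smul, hyx, hnx]
    · have hqn : Nat.Coprime q n := by
        rw [hq.coprime_iff_not_dvd]
        intro hdvd
        exact hqP (hn.2 q hq hdvd)
      obtain ⟨α, β, hαβ⟩ := bezout_smul hqn x
      rw [hnx, smul_zero, add_zero] at hαβ
      refine ⟨α • x, ⟨π.ker.zsmul_mem hxk α, n, hn, ?_⟩, ?_⟩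
      · rw [smul_comm, hnx, smul_zero]
      · rw [smul_comm]; exact hαβ.symm
  have hKPnat := nat_divisible_of_prime_divisible KP hKPprime
  have hKPint : ∀ {n : ℤ}, n ≠ 0 → Function.Surjective (fun a : KP => n • a) := by
    intro n hn x
    have hn' : n.natAbs ≠ 0 := Int.natAbs_ne_zero.mpr hn
    obtain ⟨y, hy, hyx⟩ := hKPnat n.natAbs hn' x.1 x.2
    rcases Int.natAbs_eq n with h | h
    · refine ⟨⟨y, hy⟩, Subtype.ext ?_⟩
      simp only [AddSubgroup.coe_zsmul]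
      rw [h, natCast_zsmul]; exact hyx
    · refine ⟨⟨-y, KP.neg_mem hy⟩, Subtype.ext ?_⟩
      simp only [AddSubgroup.coe_zsmul]
      rw [h, neg_smul, smul_neg, neg_neg, natCast_zsmul]; exact hyx
  let : DivisibleBy KP ℤ := divisibleByOfSMulRightSurj KP ℤ hKPint
  have hBaer : Module.Baer ℤ KP := Module.Baer.of_divisible KP
  -- retraction
  have hKPAP : KP ≤ AP := inf_le_right
  obtain ⟨r, hr⟩ := hBaer.extension_property_addMonoidHom (AddSubgroup.inclusion hKPAP)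
    (AddSubgroup.inclusion_injective hKPAP) (AddMonoidHom.id KP)
  have hr' : ∀ (k : A) (hk : k ∈ KP), (r ⟨k, hKPAP hk⟩ : A) = k := by
    intro k hk
    have := DFunLike.congr_fun hr ⟨k, hk⟩
    simp only [AddMonoidHom.comp_apply, AddMonoidHom.id_apply] at this
    have e : AddSubgroup.inclusion hKPAP ⟨k, hk⟩ = ⟨k, hKPAP hk⟩ := rfl
    rw [e] at this
    rw [this]
  -- ker π is divisible by IP numbers
  have hKdiv : ∀ n : ℕ, IP n → ∀ x ∈ π.ker, ∃ y ∈ π.ker, n • y = x := by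
    intro n
    induction n using Nat.recOnMul with
    | zero => intro h; exact absurd h.1 (lt_irrefl 0)
    | one => intro _ x hx; exact ⟨x, hx, one_smul _ _⟩
    | prime p hp => intro h x hx; exact hD p (h.2 p hp dvd_rfl) x hx
    | mul a b iha ihb =>
      intro hab x hx
      have ha : IP a := ⟨Nat.pos_of_mul_pos_right hab.1 |> fun h => Nat.pos_of_ne_zero (fun h0 => by
          have := hab.1; rw [h0, zero_mul] at this; exact lt_irrefl 0 this),
        fun p hp hd => hab.2 p hp (dvd_mul_of_dvd_left hd b)⟩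
      have hb : IP b := ⟨Nat.pos_of_ne_zero (fun h0 => by
          have := hab.1; rw [h0, mul_zero] at this; exact lt_irrefl 0 this),
        fun p hp hd => hab.2 p hp (dvd_mul_of_dvd_right hd a)⟩
      obtain ⟨y, hy, rfl⟩ := iha ha x hx
      obtain ⟨z, hz, rfl⟩ := ihb hb y hy
      exact ⟨z, hz, by rw [mul_smul]⟩
  -- lifts of TP to AP
  have hlift : ∀ t : TP, ∃ a : AP, π a = t := by
    intro t
    obtain ⟨n, hn0, hnP, hnt⟩ := (hTP t).mp t.2
    obtain ⟨a, ha⟩ := hπ t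
    have hker : n • a ∈ π.ker := by
      rw [AddMonoidHom.mem_ker, map_nsmul, ha, hnt]
    obtain ⟨z, hz, hza⟩ := hKdiv n ⟨hn0, hnP⟩ _ hker
    refine ⟨⟨a - z, n, ⟨hn0, hnP⟩, ?_⟩, ?_⟩
    · rw [smul_sub, hza, sub_self]
    · simp only [map_sub, ha, AddMonoidHom.mem_ker.mp hz, sub_zero]
  choose lift hlift' using hlift
  -- the section
  have hrker : ∀ a : AP, π (r a : A) = 0 := fun a => AddMonoidHom.mem_ker.mp (r a).2.1
  let s : TP →+ A := AddMonoidHom.mk' (fun t => (lift t : A) - (r (lift t) : A)) (by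
    intro t t'
    -- k = lift (t+t') - lift t - lift t' ∈ KP
    set k : AP := lift (t + t') - lift t - lift t' with hk
    have hkK : (k : A) ∈ KP := by
      refine ⟨AddMonoidHom.mem_ker.mpr ?_, k.2⟩
      rw [hk]
      simp only [AddSubgroup.coe_sub, map_sub, hlift', AddSubgroup.coe_add]
      abel
    have h1 : (r k : A) = (k : A) := hr' k hkK
    have h2 : r k = r (lift (t + t')) - r (lift t) - r (lift t') := by
      rw [hk, map_sub, map_sub]
    have h3 : (k : A) = (lift (t + t') : A) - lift t - lift t' := by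
      rw [hk]; simp
    have h4 : (r k : A) = (r (lift (t + t')) : A) - r (lift t) - r (lift t') := by
      rw [h2]; simp
    rw [h4, h3] at h1
    -- rearrange
    have : (lift (t + t') : A) - (r (lift (t + t')) : A) =
        ((lift t : A) - (r (lift t) : A)) + ((lift t' : A) - (r (lift t') : A)) := by
      have := h1
      rw [sub_sub, sub_sub, sub_eq_sub_iff_add_eq_add] at this
      rw [sub_eq_iff_eq_add]
      calc (lift (t + t') : A) = (lift (t + t') : A) + ((r (lift t) : A) + (r (lift t') : A)) - ((r (lift t) : A) + (r (lift t') : A)) := by abel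
        _ = _ := by rw [← this]; abel
    exact this)
  have hs : ∀ t : TP, π (s t) = (t : T) := by
    intro t
    change π ((lift t : A) - (r (lift t) : A)) = t
    rw [map_sub, hlift', hrker, sub_zero]
  refine ⟨s, hs, ?_, ?_⟩
  · -- injective
    rintro ⟨d, t⟩ ⟨d', t'⟩ h
    simp only at h
    have hπ' := congrArg π h
    rw [map_add, map_add, hs, hs] at hπ'
    have hmem : (t : T) - t' ∈ TP ⊓ T' := by
      refine ⟨TP.sub_mem t.2 t'.2, ?_⟩
      have : (t : T) - t' = π d' - π d := by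
        rw [sub_eq_sub_iff_add_eq_add, add_comm, hπ', add_comm]
      rw [this]
      exact T'.sub_mem d'.2 d.2
    have hzero : (t : T) - t' = 0 := by
      obtain ⟨h1, h2⟩ := hmem
      obtain ⟨n, hn0, hnP, hn⟩ := (hTP _).mp h1
      obtain ⟨m, hm0, hmP, hm⟩ := (hT' _).mp h2
      exact eq_zero_of_coprime_smul (hcop n m ⟨hn0, hnP⟩ ⟨hm0, hmP⟩) _ hn hm
    have htt : t = t' := Subtype.ext (sub_eq_zero.mp hzero)
    subst htt
    have : (d : A) = d' := add_right_cancel h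
    rw [Subtype.ext this]
  · -- surjective
    intro a
    -- decompose π a
    have hdecomp : ∀ n : ℕ, 0 < n → ∀ t : T, n • t = 0 → ∃ t₁ ∈ TP, ∃ t₂ ∈ T', t = t₁ + t₂ := by
      intro n
      induction n using Nat.recOnPrimeCoprime with
      | zero => intro h; exact absurd h (lt_irrefl 0)
      | prime_pow p k hp =>
        intro hpos t ht
        by_cases hpP : p ∈ P
        · refine ⟨t, (hTP t).mpr ⟨p ^ k, hpos, fun q hq hd => ?_, ht⟩, 0, T'.zero_mem, (add_zero t).symm⟩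
          rw [(Nat.prime_dvd_prime_iff_eq hq hp).mp (hq.dvd_of_dvd_pow hd)]; exact hpP
        · refine ⟨0, TP.zero_mem, t, (hT' t).mpr ⟨p ^ k, hpos, fun q hq hd => ?_, ht⟩, (zero_add t).symm⟩
          rw [(Nat.prime_dvd_prime_iff_eq hq hp).mp (hq.dvd_of_dvd_pow hd)]; exact hpP
      | coprime a b ha hb hab iha ihb =>
        intro _ t ht
        obtain ⟨α, β, hαβ⟩ := bezout_smul hab t
        have h1 : b • (a • t) = 0 := by rw [← mul_smul, mul_comm, ht]
        have h2 : a • (b • t) = 0 := by rw [← mul_smul, ht]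
        obtain ⟨u₁, hu₁, u₂, hu₂, hu⟩ := ihb (by omega) (a • t) h1
        obtain ⟨v₁, hv₁, v₂, hv₂, hv⟩ := iha (by omega) (b • t) h2
        refine ⟨α • u₁ + β • v₁, TP.add_mem (TP.zsmul_mem hu₁ α) (TP.zsmul_mem hv₁ β),
          α • u₂ + β • v₂, T'.add_mem (T'.zsmul_mem hu₂ α) (T'.zsmul_mem hv₂ β), ?_⟩
        rw [hαβ, hu, hv, smul_add, smul_add]; abel
    obtain ⟨n, hn0, hn⟩ := hT (π a)
    obtain ⟨t₁, ht₁, t₂, ht₂, hsum⟩ := hdecomp n hn0 (π a) hn
    refine ⟨(⟨a - s ⟨t₁, ht₁⟩, ?_⟩, ⟨t₁, ht₁⟩), ?_⟩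
    · rw [AddSubgroup.mem_comap, map_sub, hs, hsum]
      simpa using ht₂
    · simp
end Main

end Groth.Agent.Helper1.AbL
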