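import Mathlib

namespace Groth.Agent.Helper1.AdicReg

open Submodule RingTheory.Sequence

variable {A : Type*} [CommRing A] (a : A) {M Q : Type*} [AddCommGroup M] [Module A M]
  [AddCommGroup Q] [Module A Q]

lemma mem_pow_smul_top_iff (n : ℕ) (m : M) :
    m ∈ ((Ideal.span {a}) ^ n • ⊤ : Submodule A M) ↔ ∃ m' : M, m = a ^ n • m' := by
  rw [Ideal.span_singleton_pow, Submodule.ideal_span_singleton_smul]
  constructor
  · intro h
    obtain ⟨m', -, rfl⟩ := (Submodule.mem_smul_pointwise_iff_exists _ _ _).mp h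
    exact ⟨m', rfl⟩
  · rintro ⟨m', rfl⟩
    exact Submodule.smul_mem_pointwise_smul _ _ _ mem_top

/-- bounded `a`-power torsion -/
def BT (M : Type*) [AddCommGroup M] [Module A M] (N : ℕ) : Prop :=
  ∀ x : M, (∃ m : ℕ, a ^ m • x = 0) → a ^ N • x = 0

section
variable (x : A) (f : M →ₗ[A] Q) (hf : Function.Surjective f)
  (hker : ∀ m, f m = 0 ↔ ∃ m', m = x • m') (hx : IsSMulRegular M x) {N : ℕ} (hQ : BT a Q N)

include hker hx hQ in
lemma key {n : ℕ} (hn : N ≤ n) {w m : M} (h : x • w = a ^ n • m) :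
    ∃ m', w = a ^ (n - N) • m' := by
  have h1 : a ^ N • f m = 0 := by
    apply hQ
    refine ⟨n, ?_⟩
    rw [← map_smul, ← h]
    exact (hker _).mpr ⟨w, rfl⟩
  rw [← map_smul] at h1
  obtain ⟨m1, hm1⟩ := (hker _).mp h1
  refine ⟨m1, hx ?_⟩
  show x • w = x • a ^ (n - N) • m1
  rw [h, smul_comm x, ← hm1, smul_smul, ← pow_add, Nat.sub_add_cancel hn]

include hker hx hQ in
lemma isSMulRegular_completion : IsSMulRegular (AdicCompletion (Ideal.span {a}) M) x := by
  rw [isSMulRegular_iff_right_eq_zero_of_smul]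
  intro w hw
  obtain ⟨g, rfl⟩ := AdicCompletion.mk_surjective _ _ w
  apply AdicCompletion.mk_zero_of
  refine ⟨0, fun n _ => ⟨n + N, by omega, n, le_rfl, ?_⟩⟩
  have h1 : x • g (n + N) ∈ ((Ideal.span {a}) ^ (n + N) • ⊤ : Submodule A M) := by
    have := congrArg (fun z => z.val (n + N)) hw
    simp only [AdicCompletion.val_smul_apply, AdicCompletion.mk_apply_coe,
      AdicCompletion.val_zero_apply] at this
    rw [← Submodule.Quotient.mk_eq_zero]
    simpa using this
  obtain ⟨m, hm⟩ := (mem_pow_smul_top_iff a _ _).mp h1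
  obtain ⟨m', hm'⟩ := key a x f hker hx hQ (by omega) hm
  rw [hm', Nat.add_sub_cancel]
  exact (mem_pow_smul_top_iff a _ _).mpr ⟨m', rfl⟩

include hf hker hx hQ in
lemma map_eq_zero_iff (w : AdicCompletion (Ideal.span {a}) M) :
    AdicCompletion.map (Ideal.span {a}) f w = 0 ↔
      ∃ y : AdicCompletion (Ideal.span {a}) M, w = x • y := by
  constructor
  · intro hw
    obtain ⟨g, rfl⟩ := AdicCompletion.mk_surjective _ _ w
    rw [AdicCompletion.map_mk] at hw
    have h1 : ∀ n, ∃ y m : M, g n = x • y + a ^ n • m := by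
      intro n
      have := congrArg (fun z => z.val n) hw
      simp only [AdicCompletion.mk_apply_coe, AdicCompletion.val_zero_apply] at this
      have h' : f (g n) ∈ ((Ideal.span {a}) ^ n • ⊤ : Submodule A Q) := by
        rw [← Submodule.Quotient.mk_eq_zero]
        simpa using this
      obtain ⟨q, hq⟩ := (mem_pow_smul_top_iff a n _).mp h'
      obtain ⟨m, rfl⟩ := hf q
      have : f (g n - a ^ n • m) = 0 := by rw [map_sub, map_smul, hq, sub_self]
      obtain ⟨y, hy⟩ := (hker _).mp this
      exact ⟨y, m, by rw [← hy]; abel⟩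
    choose y m hym using h1
    have h2 : ∀ n, ∃ c, g (n+1) - g n = a ^ n • c := by
      intro n
      have := (g.2 (Nat.le_succ n)).symm
      rw [SModEq.sub_mem] at this
      exact (mem_pow_smul_top_iff a n _).mp this
    have h3 : ∀ n, N ≤ n → ∃ m', y (n+1) - y n = a ^ (n - N) • m' := by
      intro n hn
      obtain ⟨c, hc⟩ := h2 n
      apply key a x f hker hx hQ hn (m := c - a • m (n+1) + m n)
      have e1 := hym (n+1)
      have e2 := hym n
      have e3 : x • y (n+1) = g (n+1) - a ^ (n+1) • m (n+1) := by rw [e1]; abel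
      have e4 : x • y n = g n - a ^ n • m n := by rw [e2]; abel
      rw [smul_sub, e3, e4, smul_add, smul_sub, ← hc, smul_smul, ← pow_succ]
      abel
    let z : AdicCompletion.AdicCauchySequence (Ideal.span {a}) M :=
      AdicCompletion.AdicCauchySequence.mk _ _ (fun n => y (n + N)) (by
        intro n
        symm
        rw [SModEq.sub_mem]
        obtain ⟨m', hm'⟩ := h3 (n + N) (by omega)
        rw [Nat.add_sub_cancel] at hm'
        rw [show n + 1 + N = n + N + 1 by omega, hm']
        exact (mem_pow_smul_top_iff a n _).mpr ⟨m', rfl⟩)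
    refine ⟨AdicCompletion.mk _ _ z, ?_⟩
    ext n
    simp only [AdicCompletion.val_smul_apply, AdicCompletion.mk_apply_coe]
    have e3 : x • y (n + N) = g (n + N) - a ^ (n + N) • m (n + N) := by
      have e1 := hym (n + N)
      rw [e1]; abel
    rw [Submodule.mkQ_apply, Submodule.mkQ_apply,
      ← AdicCompletion.AdicCauchySequence.mk_eq_mk (show n ≤ n + N by omega) g]
    show _ = x • Submodule.Quotient.mk (y (n + N))
    rw [← Submodule.Quotient.mk_smul, e3, Submodule.Quotient.mk_sub]
    have : Submodule.Quotient.mk (p := ((Ideal.span {a}) ^ n • ⊤ : Submodule A M))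
        (a ^ (n + N) • m (n + N)) = 0 := by
      rw [Submodule.Quotient.mk_eq_zero, pow_add, mul_smul]
      exact (mem_pow_smul_top_iff a n _).mpr ⟨_, rfl⟩
    rw [this, sub_zero]
  · rintro ⟨y, rfl⟩
    rw [LinearMap.map_smul_of_tower]
    ext n
    simp only [AdicCompletion.val_smul_apply, AdicCompletion.val_zero_apply]
    obtain ⟨q, hq⟩ := Submodule.Quotient.mk_surjective _
      ((AdicCompletion.map (Ideal.span {a}) f y).val n)
    obtain ⟨m, rfl⟩ := hf q
    rw [← hq, ← Submodule.Quotient.mk_smul, ← map_smul, (hker _).mpr ⟨m, rfl⟩]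
    rfl

end

section main
variable (rs : List A)

lemma ofList_take_succ {i : ℕ} (hi : i < rs.length) :
    Ideal.ofList (rs.take (i + 1)) = Ideal.ofList (rs.take i) ⊔ Ideal.span {rs[i]} := by
  rw [List.take_succ_eq_append_getElem hi, Ideal.ofList_append, Ideal.ofList_singleton]

lemma ofList_take_le {i : ℕ} (hi : i < rs.length) :
    Ideal.ofList (rs.take i) ≤ Ideal.ofList (rs.take (i + 1)) := by
  rw [ofList_take_succ rs hi]; exact le_sup_left

/-- the transition map `A ⧸ (a_1, …, a_i) → A ⧸ (a_1, …, a_{i+1})` -/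
noncomputable def tr {i : ℕ} (hi : i < rs.length) :
    (A ⧸ Ideal.ofList (rs.take i)) →ₗ[A] (A ⧸ Ideal.ofList (rs.take (i + 1))) :=
  Submodule.factor (ofList_take_le rs hi)

lemma tr_surjective {i : ℕ} (hi : i < rs.length) : Function.Surjective (tr rs hi) :=
  Submodule.factor_surjective (ofList_take_le rs hi)

lemma tr_comp_mkQ {i : ℕ} (hi : i < rs.length) :
    (tr rs hi).comp (Ideal.ofList (rs.take i)).mkQ = (Ideal.ofList (rs.take (i + 1))).mkQ :=
  Submodule.factor_comp_mk (ofList_take_le rs hi)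

lemma tr_ker {i : ℕ} (hi : i < rs.length) (m : A ⧸ Ideal.ofList (rs.take i)) :
    tr rs hi m = 0 ↔ ∃ m', m = rs[i] • m' := by
  obtain ⟨b, rfl⟩ := Submodule.Quotient.mk_surjective _ m
  constructor
  · intro h
    have h1 : b ∈ Ideal.ofList (rs.take (i + 1)) := by
      rw [← Submodule.Quotient.mk_eq_zero]
      exact h
    rw [ofList_take_succ rs hi, Submodule.mem_sup] at h1
    obtain ⟨c, hc, d, hd, rfl⟩ := h1
    obtain ⟨e, rfl⟩ := Ideal.mem_span_singleton'.mp hd
    refine ⟨Submodule.Quotient.mk e, ?_⟩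
    rw [← Submodule.Quotient.mk_smul, Submodule.Quotient.mk_add,
      (Submodule.Quotient.mk_eq_zero _).mpr hc, zero_add, smul_eq_mul, mul_comm]
  · rintro ⟨m', hm'⟩
    rw [hm', map_smul]
    obtain ⟨e, rfl⟩ := Submodule.Quotient.mk_surjective _ m'
    show rs[i] • Submodule.Quotient.mk e = 0
    rw [← Submodule.Quotient.mk_smul, Submodule.Quotient.mk_eq_zero, ofList_take_succ rs hi,
      smul_eq_mul]
    exact Ideal.mem_sup_right (Ideal.mul_mem_right _ _ (Ideal.mem_span_singleton_self _))

lemma regular_step (hreg : IsWeaklyRegular A rs) {i : ℕ} (hi : i < rs.length) :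
    IsSMulRegular (A ⧸ Ideal.ofList (rs.take i)) rs[i] := by
  have h := hreg.regular_mod_prev i hi
  have e : (Ideal.ofList (rs.take i) • ⊤ : Submodule A A) = Ideal.ofList (rs.take i) := by
    rw [smul_eq_mul, Ideal.mul_top]
  exact ((Submodule.quotEquivOfEq _ _ e).isSMulRegular_congr _).mp h

lemma pi_surjective (i : ℕ) : Function.Surjective
    (AdicCompletion.map (Ideal.span {a}) (Ideal.ofList (rs.take i)).mkQ) :=
  AdicCompletion.map_surjective _ (Submodule.mkQ_surjective _)

lemma pi_succ {i : ℕ} (hi : i < rs.length) (w : AdicCompletion (Ideal.span {a}) A) :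
    AdicCompletion.map (Ideal.span {a}) (Ideal.ofList (rs.take (i + 1))).mkQ w =
      AdicCompletion.map (Ideal.span {a}) (tr rs hi)
        (AdicCompletion.map (Ideal.span {a}) (Ideal.ofList (rs.take i)).mkQ w) := by
  rw [AdicCompletion.map_comp_apply, tr_comp_mkQ]

lemma pi_zero_injective (J : Ideal A) (hJ : J = ⊥) : Function.Injective
    (AdicCompletion.map (Ideal.span {a}) J.mkQ) := by
  subst hJ
  let e : A ≃ₗ[A] A ⧸ (⊥ : Ideal A) := (Submodule.quotEquivOfEqBot ⊥ rfl).symm
  have he : (e : A →ₗ[A] _) = (⊥ : Ideal A).mkQ := by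
    ext; rfl
  have := (AdicCompletion.congr (Ideal.span {a}) e).injective
  intro u v huv
  apply this
  rw [AdicCompletion.congr_apply, AdicCompletion.congr_apply, he]
  exact huv

lemma ker_of_eq_bot (J : Ideal A) (hJ : J = ⊥) (w : AdicCompletion (Ideal.span {a}) A) :
    AdicCompletion.map (Ideal.span {a}) J.mkQ w = 0 ↔
      w ∈ J.map (algebraMap A (AdicCompletion (Ideal.span {a}) A)) := by
  have hinj := pi_zero_injective a J hJ
  subst hJ
  rw [Ideal.map_bot, Ideal.mem_bot]
  constructor
  · intro h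
    exact hinj (by rw [h, map_zero])
  · rintro rfl
    exact map_zero _

theorem ker_pi (hreg : IsWeaklyRegular A rs)
    (hbd : ∀ i ≤ rs.length, ∃ N : ℕ, ∀ x : A ⧸ Ideal.ofList (rs.take i),
      (∃ m : ℕ, a ^ m • x = 0) → a ^ N • x = 0) :
    ∀ i ≤ rs.length, ∀ w : AdicCompletion (Ideal.span {a}) A,
      AdicCompletion.map (Ideal.span {a}) (Ideal.ofList (rs.take i)).mkQ w = 0 ↔
        w ∈ (Ideal.ofList (rs.take i)).map
          (algebraMap A (AdicCompletion (Ideal.span {a}) A)) := by
  intro i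
  induction i with
  | zero =>
    intro _ w
    have hJ : Ideal.ofList (rs.take 0) = ⊥ := by simp
    exact ker_of_eq_bot a _ hJ w
  | succ i ih =>
    intro hi w
    have hi' : i < rs.length := hi
    obtain ⟨N, hN⟩ := hbd (i+1) hi
    rw [pi_succ a rs hi', map_eq_zero_iff a rs[i] (tr rs hi') (tr_surjective rs hi')
      (tr_ker rs hi') (regular_step rs hreg hi') hN]
    have hsp : Ideal.map (algebraMap A (AdicCompletion (Ideal.span {a}) A)) (Ideal.span {rs[i]})
        = Ideal.span {algebraMap A (AdicCompletion (Ideal.span {a}) A) rs[i]} := by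
      rw [Ideal.map_span, Set.image_singleton]
    rw [ofList_take_succ rs hi', Ideal.map_sup, hsp]
    constructor
    · rintro ⟨y, hy⟩
      obtain ⟨v, rfl⟩ := pi_surjective a rs i y
      have h0 : AdicCompletion.map (Ideal.span {a}) (Ideal.ofList (rs.take i)).mkQ
          (w - algebraMap A _ rs[i] * v) = 0 := by
        rw [map_sub, hy, ← smul_eq_mul, map_smul, algebraMap_smul, sub_self]
      have h1 := (ih hi'.le _).mp h0
      have h2 : w = (w - algebraMap A _ rs[i] * v) + algebraMap A _ rs[i] * v := by ring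
      rw [h2]
      exact Submodule.add_mem_sup h1
        (Ideal.mul_mem_right _ _ (Ideal.mem_span_singleton_self _))
    · intro h
      obtain ⟨c, hc, d, hd, rfl⟩ := Submodule.mem_sup.mp h
      obtain ⟨e, rfl⟩ := Ideal.mem_span_singleton'.mp hd
      refine ⟨AdicCompletion.map (Ideal.span {a}) (Ideal.ofList (rs.take i)).mkQ e, ?_⟩
      rw [map_add, (ih hi'.le c).mpr hc, zero_add, mul_comm, ← smul_eq_mul, map_smul,
        algebraMap_smul]

theorem main (hreg : IsWeaklyRegular A rs)
    (hbd : ∀ i ≤ rs.length, ∃ N : ℕ, ∀ x : A ⧸ Ideal.ofList (rs.take i),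
      (∃ m : ℕ, a ^ m • x = 0) → a ^ N • x = 0) :
    IsWeaklyRegular (AdicCompletion (Ideal.span {a}) A)
        (rs.map (algebraMap A (AdicCompletion (Ideal.span {a}) A))) ∧
      Function.Surjective (AdicCompletion.map (Ideal.span {a}) (Ideal.ofList rs).mkQ) ∧
      LinearMap.ker (AdicCompletion.map (Ideal.span {a}) (Ideal.ofList rs).mkQ) =
        (Ideal.ofList rs).map (algebraMap A (AdicCompletion (Ideal.span {a}) A)) := by
  refine ⟨?_, AdicCompletion.map_surjective _ (Submodule.mkQ_surjective _), ?_⟩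
  · constructor
    intro i hi
    have hi' : i < rs.length := by simpa using hi
    obtain ⟨N, hN⟩ := hbd (i+1) hi'
    have hreg' := isSMulRegular_completion a rs[i] (tr rs hi') (tr_ker rs hi')
      (regular_step rs hreg hi') hN
    rw [isSMulRegular_iff_right_eq_zero_of_smul]
    intro q hq
    obtain ⟨z, rfl⟩ := Submodule.Quotient.mk_surjective _ q
    rw [← Submodule.Quotient.mk_smul, Submodule.Quotient.mk_eq_zero] at hq
    rw [Submodule.Quotient.mk_eq_zero]
    have e : (Ideal.ofList ((rs.map (algebraMap A (AdicCompletion (Ideal.span {a}) A))).take i) • ⊤ :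
        Submodule (AdicCompletion (Ideal.span {a}) A) (AdicCompletion (Ideal.span {a}) A)) =
        (Ideal.ofList (rs.take i)).map (algebraMap A (AdicCompletion (Ideal.span {a}) A)) := by
      rw [smul_eq_mul, Ideal.mul_top, ← List.map_take, Ideal.map_ofList]
    rw [e] at hq ⊢
    rw [List.getElem_map, ← ker_pi a rs hreg hbd i hi'.le, map_smul, algebraMap_smul] at hq
    exact (ker_pi a rs hreg hbd i hi'.le z).mp (hreg'.right_eq_zero_of_smul hq)
  · have h := ker_pi a rs hreg hbd rs.length le_rfl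
    generalize hL : rs.take rs.length = L at h
    have hL' : L = rs := by rw [← hL, List.take_length]
    subst hL'
    ext w
    exact (LinearMap.mem_ker).trans (h w)

end main



end Groth.Agent.Helper1.AdicReg
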