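import Mathlib

set_option autoImplicit false
universe u
namespace Groth.Agent.Helper1.GrAlg

open DirectSum

section KM
variable {R A M : Type*} [CommRing R] [CommRing A] [Algebra R A]
  (𝒜 : ℕ → Submodule R A) [GradedAlgebra 𝒜]
  [AddCommGroup M] [Module R M] [Module A M] [IsScalarTower R A M]
  (ℳ : ℕ → Submodule R M) [DirectSum.Decomposition ℳ] [SetLike.GradedSMul 𝒜 ℳ]

/-- projection onto the `n`-th graded piece, as an additive map `M → M`. -/
noncomputable def pr (n : ℕ) : M →+ M :=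
  AddMonoidHom.mk' (fun x => ((DirectSum.decompose ℳ x) n : M)) (by
    intro a b
    rw [DirectSum.decompose_add, DirectSum.add_apply, Submodule.coe_add])

theorem pr_apply (n : ℕ) (x : M) : pr ℳ n x = ((DirectSum.decompose ℳ x) n : M) := rfl

theorem pr_of_mem_same {n : ℕ} {x : M} (hx : x ∈ ℳ n) : pr ℳ n x = x :=
  DirectSum.decompose_of_mem_same ℳ hx

theorem pr_of_mem_ne {i n : ℕ} {x : M} (hx : x ∈ ℳ i) (h : i ≠ n) : pr ℳ n x = 0 :=
  DirectSum.decompose_of_mem_ne ℳ hx h

theorem pr_smul (a : A) {y : M} {e : ℕ} (hy : y ∈ ℳ e) (n : ℕ) :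
    pr ℳ n (a • y) = if e ≤ n then ((DirectSum.decompose 𝒜 a (n - e) : A)) • y else 0 := by
  classical
  have ha : a • y = ∑ i ∈ (DirectSum.decompose 𝒜 a).support,
      (DirectSum.decompose 𝒜 a i : A) • y := by
    rw [← Finset.sum_smul, DirectSum.sum_support_decompose]
  have hterm : ∀ i, pr ℳ n ((DirectSum.decompose 𝒜 a i : A) • y) =
      if i + e = n then (DirectSum.decompose 𝒜 a i : A) • y else 0 := by
    intro i
    have hmem : (DirectSum.decompose 𝒜 a i : A) • y ∈ ℳ (i + e) := by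
      have := SetLike.GradedSMul.smul_mem (A := 𝒜) (B := ℳ) (DirectSum.decompose 𝒜 a i).2 hy
      simpa [vadd_eq_add] using this
    split_ifs with h
    · exact pr_of_mem_same ℳ (h ▸ hmem)
    · exact pr_of_mem_ne ℳ hmem h
  rw [ha, map_sum]
  simp_rw [hterm]
  split_ifs with hen
  · rw [Finset.sum_eq_single (n - e)]
    · rw [if_pos (Nat.sub_add_cancel hen)]
    · intro i _ hi
      rw [if_neg]
      omega
    · intro hns
      rw [DFinsupp.notMem_support_iff] at hns
      rw [if_pos (Nat.sub_add_cancel hen), hns]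
      simp
  · apply Finset.sum_eq_zero
    intro i _
    rw [if_neg]
    omega

/-- Key lemma: a homogeneous element of degree `n` in the span of homogeneous elements is a
combination with homogeneous coefficients of the complementary degrees. -/
theorem exists_sum_of_mem_span (X : Set M) (e : M → ℕ) (hX : ∀ y ∈ X, y ∈ ℳ (e y)) {n : ℕ}
    {x : M} (hx : x ∈ ℳ n) (hxs : x ∈ Submodule.span A X) :
    ∃ (t : ℕ) (c : Fin t → A) (y : Fin t → M),
      (∀ i, y i ∈ X ∧ c i ∈ 𝒜 (n - e (y i)) ∧ (e (y i) ≤ n ∨ c i = 0)) ∧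
        x = ∑ i, c i • y i := by
  obtain ⟨t, f, g, hfg⟩ := Submodule.mem_span_set'.1 hxs
  refine ⟨t, fun i => if e (g i) ≤ n then (DirectSum.decompose 𝒜 (f i) (n - e (g i)) : A) else 0,
    fun i => (g i : M), fun i => ⟨(g i).2, ?_, ?_⟩, ?_⟩
  · show (if e (g i) ≤ n then (DirectSum.decompose 𝒜 (f i) (n - e (g i)) : A) else 0) ∈ _
    split_ifs
    exacts [(DirectSum.decompose 𝒜 (f i) _).2, zero_mem _]
  · by_cases h : e (g i : M) ≤ n
    exacts [Or.inl h, Or.inr (if_neg h)]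
  · have h1 : x = pr ℳ n x := (pr_of_mem_same ℳ hx).symm
    rw [h1, ← hfg, map_sum]
    refine Finset.sum_congr rfl fun i _ => ?_
    rw [pr_smul 𝒜 ℳ (f i) (hX _ (g i).2) n]
    show _ = (if e (g i : M) ≤ n then (DirectSum.decompose 𝒜 (f i) (n - e (g i)) : A) else (0 : A)) •
      (g i : M)
    by_cases h : e (g i : M) ≤ n
    · rw [if_pos h, if_pos h]
    · rw [if_neg h, if_neg h, zero_smul]

end KM

section Ring
variable {R A : Type u} [CommRing R] [CommRing A] [Algebra R A]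
  (𝒜 : ℕ → Submodule R A) [GradedAlgebra 𝒜]

theorem S4389 (E : Set A) (hE : ∀ e ∈ E, ∃ d : ℕ, 0 < d ∧ e ∈ 𝒜 d) :
    (HomogeneousIdeal.irrelevant 𝒜).toIdeal = Ideal.span E ↔ Algebra.adjoin (𝒜 0) E = ⊤ := by
  classical
  have hEirr : Ideal.span E ≤ (HomogeneousIdeal.irrelevant 𝒜).toIdeal := by
    refine Ideal.span_le.2 fun e he => ?_
    obtain ⟨d, hd, hed⟩ := hE e he
    exact HomogeneousIdeal.mem_irrelevant_of_mem 𝒜 hd hed
  choose! d hdpos hdmem using hE
  constructor
  · intro h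
    have hn : ∀ n, ∀ x ∈ 𝒜 n, x ∈ Algebra.adjoin (𝒜 0) E := by
      intro n
      induction n using Nat.strong_induction_on with
      | _ n ih =>
        intro x hx
        rcases Nat.eq_zero_or_pos n with h0 | hpos
        · subst h0
          exact Subalgebra.algebraMap_mem _ (⟨x, hx⟩ : 𝒜 0)
        · have hxI : x ∈ Ideal.span E := by
            rw [← h]
            exact HomogeneousIdeal.mem_irrelevant_of_mem 𝒜 hpos hx
          obtain ⟨t, c, y, hcy, rfl⟩ :=
            exists_sum_of_mem_span 𝒜 𝒜 E d hdmem hx hxI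
          refine sum_mem fun i _ => ?_
          obtain ⟨hyE, hc, hor⟩ := hcy i
          rw [smul_eq_mul]
          refine mul_mem ?_ (Algebra.subset_adjoin hyE)
          rcases hor with hle | h0
          · exact ih _ (by have := hdpos _ hyE; omega) _ hc
          · rw [h0]; exact zero_mem _
    rw [eq_top_iff]
    intro x _
    rw [← DirectSum.sum_support_decompose 𝒜 x]
    exact sum_mem fun i _ => hn i _ (DirectSum.decompose 𝒜 x i).2
  · intro h
    refine le_antisymm ?_ hEirr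
    intro x hx
    have hP : ∀ y ∈ Algebra.adjoin (𝒜 0) E, ∃ a ∈ 𝒜 0, y - a ∈ Ideal.span E := by
      intro y hy
      induction hy using Algebra.adjoin_induction with
      | mem y hy => exact ⟨0, zero_mem _, by simpa using Ideal.subset_span hy⟩
      | algebraMap r => exact ⟨r.1, r.2, by simp⟩
      | add y z _ _ hy hz =>
        obtain ⟨a, ha, hya⟩ := hy
        obtain ⟨b, hb, hzb⟩ := hz
        refine ⟨a + b, add_mem ha hb, ?_⟩
        have : y + z - (a + b) = (y - a) + (z - b) := by ring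
        rw [this]
        exact add_mem hya hzb
      | mul y z _ _ hy hz =>
        obtain ⟨a, ha, hya⟩ := hy
        obtain ⟨b, hb, hzb⟩ := hz
        refine ⟨a * b, by simpa using SetLike.mul_mem_graded ha hb, ?_⟩
        have : y * z - a * b = (y - a) * z + a * (z - b) := by ring
        rw [this]
        exact add_mem (Ideal.mul_mem_right _ _ hya) (Ideal.mul_mem_left _ _ hzb)
    obtain ⟨a, ha, hxa⟩ := hP x (h ▸ Algebra.mem_top)
    have haI : a ∈ (HomogeneousIdeal.irrelevant 𝒜).toIdeal := by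
      have h1 := hEirr hxa
      have h2 := sub_mem hx h1
      simpa using h2
    have ha0 : a = 0 := by
      have h1 : (DirectSum.decompose 𝒜 a 0 : A) = 0 := haI
      rwa [DirectSum.decompose_of_mem_same 𝒜 ha] at h1
    simpa [ha0] using hxa

theorem S4390 :
    (HomogeneousIdeal.irrelevant 𝒜).toIdeal.FG ↔ Algebra.FiniteType (𝒜 0) A := by
  classical
  constructor
  · rintro ⟨F, hF⟩
    let E : Finset A := F.biUnion fun f =>
      (DirectSum.decompose 𝒜 f).support.image fun i => (DirectSum.decompose 𝒜 f i : A)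
    have hFirr : ∀ f ∈ F, f ∈ (HomogeneousIdeal.irrelevant 𝒜).toIdeal := fun f hf => by
      rw [← hF]; exact Ideal.subset_span hf
    have hE : ∀ e ∈ (E : Set A), ∃ d : ℕ, 0 < d ∧ e ∈ 𝒜 d := by
      intro e he
      simp only [E, Finset.coe_biUnion, Finset.coe_image, Set.mem_iUnion, Set.mem_image,
        Finset.mem_coe, exists_prop] at he
      obtain ⟨f, hf, i, hi, rfl⟩ := he
      refine ⟨i, Nat.pos_of_ne_zero ?_, (DirectSum.decompose 𝒜 f i).2⟩
      rintro rfl
      rw [DFinsupp.mem_support_iff] at hi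
      apply hi
      have h1 : (DirectSum.decompose 𝒜 f 0 : A) = 0 := hFirr f hf
      exact Subtype.ext h1
    have hspan : (HomogeneousIdeal.irrelevant 𝒜).toIdeal = Ideal.span (E : Set A) := by
      refine le_antisymm ?_ ?_
      · rw [← hF]
        refine Ideal.span_le.2 fun f hf => ?_
        rw [← DirectSum.sum_support_decompose 𝒜 f]
        refine sum_mem fun i hi => Ideal.subset_span ?_
        simp only [E, Finset.coe_biUnion, Finset.coe_image, Set.mem_iUnion, Set.mem_image,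
          Finset.mem_coe, exists_prop]
        exact ⟨f, hf, i, hi, rfl⟩
      · refine Ideal.span_le.2 fun e he => ?_
        obtain ⟨d, hd, hed⟩ := hE e he
        exact HomogeneousIdeal.mem_irrelevant_of_mem 𝒜 hd hed
    exact ⟨⟨E, (S4389 𝒜 _ hE).1 hspan⟩⟩
  · intro hft
    obtain ⟨s, hs, hs'⟩ := GradedAlgebra.exists_finset_adjoin_eq_top_and_homogeneous_ne_zero 𝒜
    have hE : ∀ e ∈ (s : Set A), ∃ d : ℕ, 0 < d ∧ e ∈ 𝒜 d := fun e he => by
      obtain ⟨n, hn, hen⟩ := hs' e he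
      exact ⟨n, Nat.pos_of_ne_zero hn, hen⟩
    exact ⟨s, ((S4389 𝒜 _ hE).2 hs).symm⟩

theorem S4391 :
    IsNoetherianRing A ↔ IsNoetherianRing (𝒜 0) ∧ Algebra.FiniteType (𝒜 0) A := by
  constructor
  · intro h
    exact ⟨inferInstance, (S4390 𝒜).1 (IsNoetherian.noetherian _)⟩
  · rintro ⟨h0, hft⟩
    exact Algebra.FiniteType.isNoetherianRing (𝒜 0) A

variable [Algebra.FiniteType (𝒜 0) A]

theorem exists_le_irrelevant_pow (n : ℕ) :
    ∃ m₀ : ℕ, ∀ m : ℕ, m₀ ≤ m → ∀ x ∈ 𝒜 m,
      x ∈ ((HomogeneousIdeal.irrelevant 𝒜).toIdeal ^ n : Ideal A) := by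
  classical
  obtain ⟨s, hs, hs'⟩ := GradedAlgebra.exists_finset_adjoin_eq_top_and_homogeneous_ne_zero 𝒜
  have hE : ∀ e ∈ (s : Set A), ∃ d : ℕ, 0 < d ∧ e ∈ 𝒜 d := fun e he => by
    obtain ⟨n, hn, hen⟩ := hs' e he
    exact ⟨n, Nat.pos_of_ne_zero hn, hen⟩
  have hirr := (S4389 𝒜 _ hE).2 hs
  choose! d hdpos hdmem using hE
  set D := s.sup d + 1 with hD
  have key : ∀ n m : ℕ, n * D ≤ m → ∀ x ∈ 𝒜 m,
      x ∈ ((HomogeneousIdeal.irrelevant 𝒜).toIdeal ^ n : Ideal A) := by
    intro n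
    induction n with
    | zero => intro m _ x _; simp
    | succ n ih =>
      intro m hm x hx
      have hmD : n * D + D ≤ m := by rwa [Nat.succ_mul] at hm
      have hmpos : 0 < m := by omega
      have hxI : x ∈ Ideal.span (s : Set A) := by
        rw [← hirr]
        exact HomogeneousIdeal.mem_irrelevant_of_mem 𝒜 hmpos hx
      obtain ⟨t, c, y, hcy, rfl⟩ := exists_sum_of_mem_span 𝒜 𝒜 (s : Set A) d hdmem hx hxI
      refine sum_mem fun i _ => ?_
      obtain ⟨hyE, hc, hor⟩ := hcy i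
      rw [smul_eq_mul, pow_succ]
      refine Ideal.mul_mem_mul ?_ (hirr ▸ Ideal.subset_span hyE)
      rcases hor with hle | h0
      · have hdle : d (y i) ≤ s.sup d := Finset.le_sup (f := d) hyE
        exact ih _ (by omega) _ hc
      · rw [h0]; exact zero_mem _
  exact ⟨n * D, fun m hm x hx => key n m hm x hx⟩

theorem S4394 (n : ℕ) :
    ∃ m₀ : ℕ, ∀ m : ℕ, m₀ ≤ m →
      (𝒜 m : Set A) ⊆ ((HomogeneousIdeal.irrelevant 𝒜).toIdeal ^ n : Ideal A) := by
  obtain ⟨m₀, h⟩ := exists_le_irrelevant_pow 𝒜 n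
  exact ⟨m₀, fun m hm x hx => h m hm x hx⟩

theorem core : ∃ q k₀ : ℕ, 0 < q ∧ ∀ k, k₀ ≤ k → 𝒜 (k + q) ≤ 𝒜 q * 𝒜 k := by
  classical
  obtain ⟨s, hs, hs'⟩ := GradedAlgebra.exists_finset_adjoin_eq_top_and_homogeneous_ne_zero 𝒜
  have hE : ∀ e ∈ (s : Set A), ∃ d : ℕ, 0 < d ∧ e ∈ 𝒜 d := fun e he => by
    obtain ⟨n, hn, hen⟩ := hs' e he
    exact ⟨n, Nat.pos_of_ne_zero hn, hen⟩
  have hirr := (S4389 𝒜 _ hE).2 hs
  choose! d hdpos hdmem using hE
  set q := ∏ e ∈ s, d e with hq
  have hqpos : 0 < q := Finset.prod_pos fun e he => hdpos e he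
  let g : A → A := fun e => e ^ (q / d e)
  have hg : ∀ e ∈ s, g e ∈ 𝒜 q := by
    intro e he
    have h1 := SetLike.pow_mem_graded (A := 𝒜) (q / d e) (hdmem e he)
    rwa [smul_eq_mul, Nat.div_mul_cancel (Finset.dvd_prod_of_mem d he)] at h1
  set J : Ideal A := Ideal.span (g '' (s : Set A)) with hJ
  have hrad : (HomogeneousIdeal.irrelevant 𝒜).toIdeal ≤ J.radical := by
    rw [hirr]
    refine Ideal.span_le.2 fun e he => ?_
    exact ⟨q / d e, Ideal.subset_span ⟨e, he, rfl⟩⟩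
  have hfg : (HomogeneousIdeal.irrelevant 𝒜).toIdeal.FG := ⟨s, hirr.symm⟩
  obtain ⟨N, hN⟩ := Ideal.exists_pow_le_of_le_radical_of_fg hrad hfg
  obtain ⟨m₀, hm₀⟩ := exists_le_irrelevant_pow 𝒜 N
  refine ⟨q, m₀, hqpos, fun k hk x hx => ?_⟩
  have hxJ : x ∈ J := hN (hm₀ (k + q) (by omega) x hx)
  have hX : ∀ y ∈ g '' (s : Set A), y ∈ 𝒜 ((fun _ : A => q) y) := by
    rintro _ ⟨e, he, rfl⟩
    exact hg e he
  obtain ⟨t, c, y, hcy, rfl⟩ :=
    exists_sum_of_mem_span 𝒜 𝒜 (g '' (s : Set A)) (fun _ => q) hX hx hxJ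
  refine sum_mem fun i _ => ?_
  obtain ⟨hyE, hc, -⟩ := hcy i
  rw [smul_eq_mul, mul_comm (c i) (y i)]
  rw [Nat.add_sub_cancel] at hc
  exact Submodule.mul_mem_mul (hX _ hyE) hc

theorem S4392 {M : Type u} [AddCommGroup M] [Module R M] [Module A M] [IsScalarTower R A M]
    (ℳ : ℕ → Submodule R M) [DirectSum.Decomposition ℳ] [SetLike.GradedSMul 𝒜 ℳ]
    [Module.Finite A M] :
    ∃ (n₁ h : ℕ), 0 < h ∧ ∀ n : ℕ, n₁ ≤ n →
      ℳ (n + h) = (𝒜 h : Submodule R A) • (ℳ n : Submodule R M) := by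
  classical
  obtain ⟨q, k₀, hq, hcore⟩ := core 𝒜
  obtain ⟨F, hF⟩ := Module.Finite.fg_top (R := A) (M := M)
  let X : Finset M := F.biUnion fun f =>
    (DirectSum.decompose ℳ f).support.image fun i => (DirectSum.decompose ℳ f i : M)
  have hXspan : Submodule.span A (X : Set M) = ⊤ := by
    rw [eq_top_iff, ← hF]
    refine Submodule.span_le.2 fun f hf => ?_
    rw [← DirectSum.sum_support_decompose ℳ f]
    refine sum_mem fun i hi => Submodule.subset_span ?_
    simp only [X, Finset.coe_biUnion, Finset.coe_image, Set.mem_iUnion, Set.mem_image,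
      Finset.mem_coe, exists_prop]
    exact ⟨f, hf, i, hi, rfl⟩
  have hXhom : ∀ y ∈ (X : Set M), ∃ e : ℕ, y ∈ ℳ e := by
    intro y hy
    simp only [X, Finset.coe_biUnion, Finset.coe_image, Set.mem_iUnion, Set.mem_image,
      Finset.mem_coe, exists_prop] at hy
    obtain ⟨f, hf, i, hi, rfl⟩ := hy
    exact ⟨i, (DirectSum.decompose ℳ f i).2⟩
  choose! e he using hXhom
  have hsm : ∀ i j, (𝒜 i : Submodule R A) • (ℳ j : Submodule R M) ≤ ℳ (i + j) := by
    intro i j
    refine Submodule.smul_le.2 fun a ha m hm => ?_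
    have := SetLike.GradedSMul.smul_mem (A := 𝒜) (B := ℳ) ha hm
    simpa [vadd_eq_add] using this
  refine ⟨k₀ + X.sup e, q, hq, fun n hn => le_antisymm ?_ ?_⟩
  · intro x hx
    have hxs : x ∈ Submodule.span A (X : Set M) := hXspan ▸ Submodule.mem_top
    obtain ⟨t, c, y, hcy, rfl⟩ := exists_sum_of_mem_span 𝒜 ℳ (X : Set M) e he hx hxs
    refine sum_mem fun i _ => ?_
    obtain ⟨hyX, hc, hor⟩ := hcy i
    have hele : e (y i) ≤ X.sup e := Finset.le_sup (f := e) hyX
    have hidx : n + q - e (y i) = (n - e (y i)) + q := by omega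
    rw [hidx] at hc
    have hc' := hcore (n - e (y i)) (by omega) hc
    have hy := he _ hyX
    refine Submodule.mul_induction_on hc' ?_ ?_
    · intro a ha b hb
      rw [mul_smul]
      refine Submodule.smul_mem_smul ha ?_
      have h1 := hsm _ _ (Submodule.smul_mem_smul hb hy)
      have h2 : n - e (y i) + e (y i) = n := by omega
      rwa [h2] at h1
    · intro u v hu hv
      rw [add_smul]
      exact add_mem hu hv
  · have := hsm q n
    rwa [add_comm] at this

theorem S4393 :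
    ∃ h : ℕ, 0 < h ∧ ∀ m : ℕ, 0 < m → 𝒜 (m * h) = (𝒜 h : Submodule R A) ^ m := by
  obtain ⟨q, k₀, hq, hcore⟩ := core 𝒜
  have iter : ∀ t k : ℕ, k₀ ≤ k → 𝒜 (k + t * q) ≤ (𝒜 q : Submodule R A) ^ t * 𝒜 k := by
    intro t
    induction t with
    | zero => intro k _; simp
    | succ t ih =>
      intro k hk
      have h1 : k + (t + 1) * q = (k + t * q) + q := by ring
      rw [h1, pow_succ', mul_assoc]
      exact (hcore (k + t * q) (by omega)).trans (mul_le_mul' le_rfl (ih k hk))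
  have powle : ∀ t i : ℕ, (𝒜 i : Submodule R A) ^ t ≤ 𝒜 (t * i) := by
    intro t i
    induction t with
    | zero =>
      rw [pow_zero, Nat.zero_mul, Submodule.one_le]
      exact SetLike.GradedOne.one_mem
    | succ t ih =>
      rw [pow_succ, Nat.succ_mul]
      refine (mul_le_mul' ih le_rfl).trans ?_
      exact Submodule.mul_le.2 fun a ha b hb => SetLike.mul_mem_graded ha hb
  refine ⟨(k₀ + 1) * q, Nat.mul_pos (Nat.succ_pos _) hq, fun m hm => le_antisymm ?_ (powle m _)⟩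
  induction m, hm using Nat.le_induction with
  | base => simp
  | succ m hm ih =>
    have hk : k₀ ≤ m * ((k₀ + 1) * q) := by
      have h1 : 1 * ((k₀ + 1) * 1) ≤ m * ((k₀ + 1) * q) :=
        Nat.mul_le_mul hm (Nat.mul_le_mul le_rfl hq)
      omega
    have h1 : (m + 1) * ((k₀ + 1) * q) = m * ((k₀ + 1) * q) + (k₀ + 1) * q := by ring
    rw [h1, pow_succ']
    refine (iter (k₀ + 1) _ hk).trans ?_
    exact mul_le_mul' (powle _ _) ih

end Ring

theorem S4397 {R A : Type u} [CommRing R] [CommRing A] [Algebra R A] (𝒜 : ℕ → Submodule R A)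
    [GradedAlgebra 𝒜] [IsNoetherianRing A] {d : ℕ} (f : A) (hf : f ∈ 𝒜 d) :
    IsNoetherianRing (HomogeneousLocalization.Away 𝒜 f) := by
  obtain ⟨h0, hft⟩ := (S4391 𝒜).1 inferInstance
  have := HomogeneousLocalization.Away.finiteType (𝒜 := 𝒜) f d hf
  exact Algebra.FiniteType.isNoetherianRing (𝒜 0) _

end Groth.Agent.Helper1.GrAlg
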