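import Mathlib
import Groth.Prelude.Def_RelSpec

/-!
# Morphisms of relative spectra induced by `q`-morphisms (helper1 library)
-/

open CategoryTheory CategoryTheory.Limits AlgebraicGeometry Opposite TopologicalSpace

universe u

namespace Groth.Agent.Helper1.RelSpecMap

variable {S S' : Scheme.{u}} (q : S' ⟶ S) (B : RelSpec.QCAlg S) (B' : RelSpec.QCAlg S')
  (u : B.presheaf ⟶ q.base _* B'.presheaf)

/-- the index type: pairs of affine opens `U ⊆ S`, `U' ⊆ q⁻¹ U` -/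
def Idx : Type u :=
  {p : S.AffineZariskiSite × S'.AffineZariskiSite // p.2.toOpens ≤ q ⁻¹ᵁ p.1.toOpens}

instance : Preorder (Idx q) := inferInstanceAs (Preorder (Subtype _))

/-- the ring map `B(U) ⟶ B'(U')` -/
def ringMap (U : S.Opens) (U' : S'.Opens) (hle : U' ≤ q ⁻¹ᵁ U) :
    B.presheaf.obj (op U) ⟶ B'.presheaf.obj (op U') :=
  (u.app (op U) : B.presheaf.obj (op U) ⟶ B'.presheaf.obj (op (q ⁻¹ᵁ U))) ≫
    B'.presheaf.map (homOfLE hle).op

/-- the local pieces -/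
noncomputable def g (U : S.Opens) (hU : IsAffineOpen U) (U' : S'.Opens) (hle : U' ≤ q ⁻¹ᵁ U) :
    Spec (B'.presheaf.obj (op U')) ⟶ B.spec :=
  Spec.map (ringMap q B B' u U U' hle) ≫ B.ι U hU

lemma ringMap_res (U : S.Opens) (U' W' : S'.Opens) (hle : U' ≤ q ⁻¹ᵁ U) (h' : W' ≤ U') :
    ringMap q B B' u U U' hle ≫ B'.presheaf.map (homOfLE h').op =
      ringMap q B B' u U W' (h'.trans hle) := by
  unfold ringMap
  rw [Category.assoc, ← Functor.map_comp]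
  rfl

lemma res_ringMap (U W : S.Opens) (W' : S'.Opens) (h : W ≤ U) (hle : W' ≤ q ⁻¹ᵁ W) :
    B.presheaf.map (homOfLE h).op ≫ ringMap q B B' u W W' hle =
      ringMap q B B' u U W' (hle.trans (q.preimage_mono h)) := by
  unfold ringMap
  rw [← Category.assoc, u.naturality (homOfLE h).op, Category.assoc]
  congr 1
  exact (B'.presheaf.map_comp _ _).symm

lemma g_compat {p p' : Idx q} (h : p ≤ p') :
    Spec.map (B'.presheaf.map (homOfLE (Scheme.AffineZariskiSite.toOpens_mono h.2)).op) ≫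
      g q B B' u p'.1.1.1 p'.1.1.2 p'.1.2.1 p'.2 = g q B B' u p.1.1.1 p.1.1.2 p.1.2.1 p.2 := by
  unfold g
  rw [← Spec.map_comp_assoc, ringMap_res]
  have h1 := B.ι_res (U := p'.1.1) (V := p.1.1) (homOfLE h.1)
  rw [← h1, ← Spec.map_comp_assoc, res_ringMap]

lemma mem_range_ι (U' : S'.Opens) (hU' : IsAffineOpen U') (z : B'.spec) (hz : B'.π z ∈ U') :
    z ∈ Set.range (B'.ι U' hU') := by
  have : z ∈ B'.π ⁻¹ᵁ U' := hz
  rw [B'.π_preimage U' hU'] at this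
  exact this

/-- The cover of `Spec(B')` by the charts over the affine opens `U'` mapping into an affine open of
`S`. -/
noncomputable def cov : B'.spec.OpenCover where
  I₀ := Idx q
  X p := Spec (B'.presheaf.obj (op p.1.2.1))
  f p := B'.ι p.1.2.1 p.1.2.2
  mem₀ := by
    rw [Scheme.presieve₀_mem_precoverage_iff]
    refine ⟨fun z => ?_, fun p => inferInstance⟩
    obtain ⟨U, hU, hzU, -⟩ := Opens.isBasis_iff_nbhd.mp S.isBasis_affineOpens
      (show q (B'.π z) ∈ (⊤ : S.Opens) from trivial)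
    obtain ⟨U', hU', hzU', hle⟩ := Opens.isBasis_iff_nbhd.mp S'.isBasis_affineOpens
      (show B'.π z ∈ q ⁻¹ᵁ U from hzU)
    exact ⟨⟨(⟨U, hU⟩, ⟨U', hU'⟩), hle⟩, mem_range_ι B' U' hU' z hzU'⟩

instance : Preorder (cov q B').I₀ := inferInstanceAs (Preorder (Idx q))

/-- transition maps -/
noncomputable def tr {p p' : Idx q} (h : p ≤ p') :
    Spec (B'.presheaf.obj (op p.1.2.1)) ⟶ Spec (B'.presheaf.obj (op p'.1.2.1)) :=
  Spec.map (B'.presheaf.map (homOfLE (Scheme.AffineZariskiSite.toOpens_mono h.2)).op)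

lemma tr_ι {p p' : Idx q} (h : p ≤ p') :
    tr q B' h ≫ B'.ι p'.1.2.1 p'.1.2.2 = B'.ι p.1.2.1 p.1.2.2 :=
  B'.ι_res (U := p'.1.2) (V := p.1.2) (homOfLE h.2)

instance {p p' : Idx q} (h : p ≤ p') : IsOpenImmersion (tr q B' h) := by
  have : IsOpenImmersion (tr q B' h ≫ B'.ι p'.1.2.1 p'.1.2.2) := by
    rw [tr_ι]; infer_instance
  exact IsOpenImmersion.of_comp _ (B'.ι p'.1.2.1 p'.1.2.2)

lemma π_ι_mem (U' : S'.Opens) (hU' : IsAffineOpen U') (y : Spec (B'.presheaf.obj (op U'))) :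
    B'.π (B'.ι U' hU' y) ∈ U' := by
  have : B'.ι U' hU' y ∈ (B'.ι U' hU').opensRange := ⟨y, rfl⟩
  rw [← B'.π_preimage U' hU'] at this
  exact this

lemma cov_f (p : Idx q) : (cov q B').f p = B'.ι p.1.2.1 p.1.2.2 := rfl

lemma directed_aux (i j : Idx q)
    (x : ↥(pullback (B'.ι i.1.2.1 i.1.2.2) (B'.ι j.1.2.1 j.1.2.2))) :
    ∃ (k : Idx q) (hki : k ≤ i) (hkj : k ≤ j) (y : Spec (B'.presheaf.obj (op k.1.2.1))),
      pullback.lift (tr q B' hki) (tr q B' hkj) (by rw [tr_ι, tr_ι]) y = x := by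
  set z : B'.spec := (pullback.fst (B'.ι i.1.2.1 i.1.2.2) (B'.ι j.1.2.1 j.1.2.2) ≫
    B'.ι i.1.2.1 i.1.2.2) x with hz
  have hz2 : z = (pullback.snd (B'.ι i.1.2.1 i.1.2.2) (B'.ι j.1.2.1 j.1.2.2) ≫
      B'.ι j.1.2.1 j.1.2.2) x := by
    rw [hz, pullback.condition]
  have hxU' : B'.π z ∈ i.1.2.1 := π_ι_mem B' _ _ _
  have hxV' : B'.π z ∈ j.1.2.1 := by rw [hz2]; exact π_ι_mem B' _ _ _
  obtain ⟨r, r', hrr', hxr⟩ := exists_basicOpen_le_affine_inter i.1.1.2 j.1.1.2 (q (B'.π z))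
    ⟨i.2 hxU', j.2 hxV'⟩
  obtain ⟨a, a', haa', hxa⟩ := exists_basicOpen_le_affine_inter i.1.2.2 j.1.2.2 (B'.π z)
    ⟨hxU', hxV'⟩
  obtain ⟨c, hcW, hxc⟩ := (i.1.2.2.basicOpen a).exists_basicOpen_le
    (V := q ⁻¹ᵁ (S.basicOpen r)) ⟨B'.π z, hxr⟩ hxa
  let W : S.AffineZariskiSite := ⟨S.basicOpen r, i.1.1.2.basicOpen r⟩
  let W₀' : S'.AffineZariskiSite := ⟨S'.basicOpen a, i.1.2.2.basicOpen a⟩
  let W' : S'.AffineZariskiSite := ⟨S'.basicOpen c, (i.1.2.2.basicOpen a).basicOpen c⟩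
  have hWU : W ≤ i.1.1 := ⟨r, rfl⟩
  have hWV : W ≤ j.1.1 := ⟨r', hrr'.symm⟩
  have hW'W₀ : W' ≤ W₀' := ⟨c, rfl⟩
  have hW'U : W' ≤ i.1.2 := le_trans hW'W₀ ⟨a, rfl⟩
  have hW'V : W' ≤ j.1.2 := le_trans hW'W₀ ⟨a', haa'.symm⟩
  let k : Idx q := ⟨(W, W'), hcW⟩
  have hki : k ≤ i := ⟨hWU, hW'U⟩
  have hkj : k ≤ j := ⟨hWV, hW'V⟩
  obtain ⟨y, hy⟩ := mem_range_ι B' W'.1 W'.2 z hxc
  refine ⟨k, hki, hkj, y, ?_⟩
  apply (pullback.fst (B'.ι i.1.2.1 i.1.2.2) (B'.ι j.1.2.1 j.1.2.2) ≫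
    B'.ι i.1.2.1 i.1.2.2).isOpenEmbedding.injective
  rw [← Scheme.Hom.comp_apply, pullback.lift_fst_assoc, ← hz, ← hy]
  exact congr($(tr_ι q B' hki) y)

set_option backward.isDefEq.respectTransparency.types false in
noncomputable instance : (cov q B').LocallyDirected where
  trans {i j} hij := tr q B' (p := i) (p' := j) (leOfHom hij)
  trans_id i := by
    refine (cancel_mono (B'.ι (i : Idx q).1.2.1 (i : Idx q).1.2.2)).mp ?_
    exact (tr_ι q B' (le_refl (i : Idx q))).trans (Category.id_comp _).symm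
  trans_comp {i j k} hij hjk := by
    refine (cancel_mono (B'.ι (k : Idx q).1.2.1 (k : Idx q).1.2.2)).mp ?_
    refine (tr_ι q B' (p := i) (p' := k) (leOfHom (hij ≫ hjk))).trans ?_
    refine Eq.trans ?_ (Category.assoc _ _ _).symm
    exact ((congrArg (fun t => tr q B' (p := i) (p' := j) (leOfHom hij) ≫ t)
      (tr_ι q B' (p := j) (p' := k) (leOfHom hjk))).trans
      (tr_ι q B' (p := i) (p' := j) (leOfHom hij))).symm
  w {i j} hij := tr_ι q B' (p := i) (p' := j) (leOfHom hij)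
  directed {i j} x := by
    obtain ⟨k, hki, hkj, y, hy⟩ := directed_aux q B' i j x
    exact ⟨k, homOfLE hki, homOfLE hkj, y, hy⟩
  property_trans {i j} hij :=
    inferInstanceAs (IsOpenImmersion (tr q B' (p := i) (p' := j) (leOfHom hij)))

lemma str_ringMap
    (hu : B.str ≫ u = q.c ≫ (TopCat.Presheaf.pushforward CommRingCat.{u} q.base).map B'.str)
    (U : S.Opens) (U' : S'.Opens) (hle : U' ≤ q ⁻¹ᵁ U) :
    B.str.app (op U) ≫ ringMap q B B' u U U' hle = q.appLE U U' hle ≫ B'.str.app (op U') := by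
  unfold ringMap
  have h1 := NatTrans.congr_app hu (op U)
  rw [NatTrans.comp_app, NatTrans.comp_app] at h1
  rw [← Category.assoc, h1, Category.assoc, Scheme.Hom.appLE, Category.assoc]
  congr 1
  exact (B'.str.naturality (homOfLE hle).op).symm

set_option backward.isDefEq.respectTransparency.types false in
theorem existsUnique_specMap
    (hu : B.str ≫ u = q.c ≫ (TopCat.Presheaf.pushforward CommRingCat.{u} q.base).map B'.str) :
    (∃! v : B'.spec ⟶ B.spec,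
        ∀ (U : S.Opens) (hU : IsAffineOpen U) (U' : S'.Opens) (hU' : IsAffineOpen U')
          (hle : U' ≤ q ⁻¹ᵁ U),
          B'.ι U' hU' ≫ v =
            Spec.map ((u.app (op U) : B.presheaf.obj (op U) ⟶ B'.presheaf.obj (op (q ⁻¹ᵁ U))) ≫
              B'.presheaf.map (homOfLE hle).op) ≫ B.ι U hU) ∧
      ∀ v : B'.spec ⟶ B.spec,
        (∀ (U : S.Opens) (hU : IsAffineOpen U) (U' : S'.Opens) (hU' : IsAffineOpen U')
          (hle : U' ≤ q ⁻¹ᵁ U),
          B'.ι U' hU' ≫ v =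
            Spec.map ((u.app (op U) : B.presheaf.obj (op U) ⟶ B'.presheaf.obj (op (q ⁻¹ᵁ U))) ≫
              B'.presheaf.map (homOfLE hle).op) ≫ B.ι U hU) →
        v ≫ B.π = B'.π ≫ q := by
  have hcompat : ∀ {i j : (cov q B').I₀} (hij : i ⟶ j),
      (cov q B').trans hij ≫ (fun p : Idx q => g q B B' u p.1.1.1 p.1.1.2 p.1.2.1 p.2) j =
        (fun p : Idx q => g q B B' u p.1.1.1 p.1.1.2 p.1.2.1 p.2) i :=
    fun {i j} hij => g_compat q B B' u (p := i) (p' := j) (leOfHom hij)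
  refine ⟨⟨(cov q B').glueMorphismsOfLocallyDirected
    (fun p : Idx q => g q B B' u p.1.1.1 p.1.1.2 p.1.2.1 p.2) hcompat, ?_, ?_⟩, ?_⟩
  · intro U hU U' hU' hle
    exact (cov q B').map_glueMorphismsOfLocallyDirected _ hcompat
      (⟨(⟨U, hU⟩, ⟨U', hU'⟩), hle⟩ : Idx q)
  · intro v hv
    refine (cov q B').hom_ext _ _ fun p => ?_
    refine Eq.trans ?_ ((cov q B').map_glueMorphismsOfLocallyDirected _ hcompat p).symm
    exact hv (p : Idx q).1.1.1 (p : Idx q).1.1.2 (p : Idx q).1.2.1 (p : Idx q).1.2.2 (p : Idx q).2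
  · intro v hv
    refine (cov q B').hom_ext _ _ fun p => ?_
    have h1 := hv (p : Idx q).1.1.1 (p : Idx q).1.1.2 (p : Idx q).1.2.1 (p : Idx q).1.2.2
      (p : Idx q).2
    show B'.ι (p : Idx q).1.2.1 (p : Idx q).1.2.2 ≫ v ≫ B.π =
      B'.ι (p : Idx q).1.2.1 (p : Idx q).1.2.2 ≫ B'.π ≫ q
    rw [reassoc_of% h1, B.ι_π, reassoc_of% B'.ι_π, ← Spec.map_comp_assoc,
      ← IsAffineOpen.SpecMap_appLE_fromSpec q (p : Idx q).1.1.2 (p : Idx q).1.2.2 (p : Idx q).2,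
      ← Spec.map_comp_assoc]
    congr 2
    exact str_ringMap q B B' u hu _ _ _

end Groth.Agent.Helper1.RelSpecMap
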