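import Mathlib
import Groth.Prelude.Def_RelSpec2
import Groth.Agent.Lib.Helper1.RelSpecMap

/-!
# Pointed affine cones and morphisms of cones (helper1 library)
-/

open CategoryTheory CategoryTheory.Limits AlgebraicGeometry Opposite TopologicalSpace
open scoped HomogeneousIdeal

universe u

namespace Groth.Agent.Helper1.RelCone2

section Graded
variable {σ τ A B : Type*} [CommRing A] [SetLike σ A] [AddSubgroupClass σ A] {𝒜 : ℕ → σ}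
  [GradedRing 𝒜] [CommRing B] [SetLike τ B] [AddSubgroupClass τ B] {ℬ : ℕ → τ} [GradedRing ℬ]

lemma map_mem_irrelevant (f : 𝒜 →+*ᵍ ℬ) {x : A} (hx : x ∈ (𝒜)₊) : f x ∈ (ℬ)₊ := by
  classical
  rw [HomogeneousIdeal.mem_irrelevant_iff, GradedRing.proj_apply] at hx ⊢
  rw [← GradedRingHom.map_directSumDecompose, hx, map_zero]

/-- `Proj(φ)` is everywhere defined iff every prime not containing the irrelevant ideal of the
target misses some `φ f` with `f` in the irrelevant ideal of the source. -/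
theorem forall_proj_iff_forall_prime (f : 𝒜 →+*ᵍ ℬ) :
    (∀ x : ProjectiveSpectrum ℬ, ∃ a ∈ ((𝒜)₊).toIdeal, f a ∉ x.asHomogeneousIdeal) ↔
      ∀ y : Ideal B, y.IsPrime → (∃ b ∈ ((ℬ)₊).toIdeal, b ∉ y) →
        ∃ a ∈ ((𝒜)₊).toIdeal, f a ∉ y := by
  classical
  constructor
  · intro H y hy ⟨b, hb, hby⟩
    by_contra hcon
    push Not at hcon
    -- a homogeneous component of `b` outside `y`
    obtain ⟨i, hi⟩ : ∃ i, (DirectSum.decompose ℬ b i : B) ∉ y := by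
      by_contra h2
      push Not at h2
      apply hby
      rw [← DirectSum.sum_support_decompose ℬ b]
      exact Ideal.sum_mem _ fun i _ => h2 i
    have hipos : 0 < i := by
      rcases Nat.eq_zero_or_pos i with h0 | h0
      · exfalso
        subst h0
        have := (HomogeneousIdeal.mem_irrelevant_iff _ _).mp hb
        rw [GradedRing.proj_apply] at this
        rw [this] at hi
        exact hi (zero_mem _)
      · exact h0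
    have hq : ¬ (ℬ)₊ ≤ y.homogeneousCore ℬ := by
      intro hle
      apply hi
      exact Ideal.toIdeal_homogeneousCore_le ℬ y
        (hle (HomogeneousIdeal.mem_irrelevant_of_mem ℬ hipos (SetLike.coe_mem _)))
    obtain ⟨a, ha, hfa⟩ := H ⟨y.homogeneousCore ℬ, hy.homogeneousCore, hq⟩
    apply hfa
    rw [← DirectSum.sum_support_decompose 𝒜 a, map_sum]
    refine Ideal.sum_mem _ fun j _ => ?_
    refine Ideal.mem_homogeneousCore_of_homogeneous_of_mem ⟨j, f.map_mem (SetLike.coe_mem _)⟩ ?_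
    exact hcon _ ((𝒜)₊.isHomogeneous j ha)
  · intro H x
    refine H x.asHomogeneousIdeal.toIdeal x.isPrime ?_
    by_contra hcon
    push Not at hcon
    exact x.not_irrelevant_le (fun b hb => hcon b hb)

end Graded

section Rel
variable {Y Y' : Scheme.{u}} (q : Y' ⟶ Y) (𝒮 : RelProj.QCGrAlg Y) (𝒮' : RelProj.QCGrAlg Y')
    (u : 𝒮.presheaf ⟶ q.base _* 𝒮'.presheaf)

lemma mem_pointedCone_iff (z : 𝒮.toQCAlg.spec) :
    z ∈ RelCone.pointedCone 𝒮 ↔ ∃ (U : Y.Opens) (hU : IsAffineOpen U)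
      (y : Spec (𝒮.presheaf.obj (op U))), 𝒮.toQCAlg.ι U hU y = z ∧
        ∃ x ∈ ((𝒮.deg U hU)₊).toIdeal, x ∉ y.asIdeal := by
  rw [RelCone.pointedCone, Opens.mem_iSup]
  constructor
  · rintro ⟨U, y, hy, rfl⟩
    refine ⟨U.1, U.2, y, rfl, ?_⟩
    by_contra hcon
    push Not at hcon
    exact hy (fun x hx => hcon x hx)
  · rintro ⟨U, hU, y, rfl, x, hx, hxy⟩
    exact ⟨⟨U, hU⟩, y, fun hcon => hxy (hcon hx), rfl⟩

set_option backward.isDefEq.respectTransparency.types false in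
theorem preimage_pointedCone_le
    (hu : 𝒮.str ≫ u = q.c ≫ (TopCat.Presheaf.pushforward CommRingCat.{u} q.base).map 𝒮'.str)
    (φ : ∀ (U : Y.Opens) (hU : IsAffineOpen U) (U' : Y'.Opens) (hU' : IsAffineOpen U')
      (_ : U' ≤ q ⁻¹ᵁ U), 𝒮.deg U hU →+*ᵍ 𝒮'.deg U' hU')
    (hφ : ∀ (U : Y.Opens) (hU : IsAffineOpen U) (U' : Y'.Opens) (hU' : IsAffineOpen U')
      (hle : U' ≤ q ⁻¹ᵁ U),
      (φ U hU U' hU' hle).toRingHom =
        ((u.app (op U) : 𝒮.presheaf.obj (op U) ⟶ 𝒮'.presheaf.obj (op (q ⁻¹ᵁ U))) ≫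
          𝒮'.presheaf.map (homOfLE hle).op).hom)
    (Φ : 𝒮'.toQCAlg.spec ⟶ 𝒮.toQCAlg.spec)
    (hΦ : ∀ (U : Y.Opens) (hU : IsAffineOpen U) (U' : Y'.Opens) (hU' : IsAffineOpen U')
      (hle : U' ≤ q ⁻¹ᵁ U),
      𝒮'.toQCAlg.ι U' hU' ≫ Φ =
        Spec.map ((u.app (op U) : 𝒮.presheaf.obj (op U) ⟶ 𝒮'.presheaf.obj (op (q ⁻¹ᵁ U))) ≫
          𝒮'.presheaf.map (homOfLE hle).op) ≫ 𝒮.toQCAlg.ι U hU) :
    Φ ⁻¹ᵁ RelCone.pointedCone 𝒮 ≤ RelCone.pointedCone 𝒮' := by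
  have hΦπ : Φ ≫ 𝒮.toQCAlg.π = 𝒮'.toQCAlg.π ≫ q :=
    (RelSpecMap.existsUnique_specMap q 𝒮.toQCAlg 𝒮'.toQCAlg u hu).2 Φ hΦ
  intro z' hz'
  have hz : Φ z' ∈ RelCone.pointedCone 𝒮 := hz'
  obtain ⟨V, hV, y, hy, x, hx, hxy⟩ := (mem_pointedCone_iff 𝒮 _).mp hz
  have hqV : q (𝒮'.toQCAlg.π z') ∈ V := by
    have : q (𝒮'.toQCAlg.π z') = 𝒮.toQCAlg.π (Φ z') := by
      rw [← Scheme.Hom.comp_apply, ← Scheme.Hom.comp_apply, hΦπ]
    rw [this, ← hy]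
    exact RelSpecMap.π_ι_mem 𝒮.toQCAlg V hV y
  obtain ⟨V', hV', hzV', hle⟩ := Opens.isBasis_iff_nbhd.mp Y'.isBasis_affineOpens
    (show 𝒮'.toQCAlg.π z' ∈ q ⁻¹ᵁ V from hqV)
  obtain ⟨y', rfl⟩ := RelSpecMap.mem_range_ι 𝒮'.toQCAlg V' hV' z' hzV'
  have h1 : 𝒮.toQCAlg.ι V hV (Spec.map ((u.app (op V) : 𝒮.presheaf.obj (op V) ⟶
      𝒮'.presheaf.obj (op (q ⁻¹ᵁ V))) ≫ 𝒮'.presheaf.map (homOfLE hle).op) y') =
      𝒮.toQCAlg.ι V hV y := by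
    rw [hy, ← Scheme.Hom.comp_apply, ← hΦ V hV V' hV' hle, Scheme.Hom.comp_apply]
  have h2 := (𝒮.toQCAlg.ι V hV).isOpenEmbedding.injective h1
  refine (mem_pointedCone_iff 𝒮' _).mpr ⟨V', hV', y', rfl, φ V hV V' hV' hle x,
    map_mem_irrelevant _ hx, ?_⟩
  intro hcon
  apply hxy
  rw [← h2, Spec.map_apply, PrimeSpectrum.comap_asIdeal, Ideal.mem_comap, ← hφ V hV V' hV' hle]
  exact hcon

end Rel

section Chart
variable {Y : Scheme.{u}} (𝒮 : RelProj.QCGrAlg Y)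

/-- the prime `y` of `𝒮(U)` does not contain the irrelevant ideal -/
def Q (U : Y.Opens) (hU : IsAffineOpen U) (y : Spec (𝒮.presheaf.obj (op U))) : Prop :=
  ∃ x ∈ ((𝒮.deg U hU)₊).toIdeal, x ∉ y.asIdeal

lemma Q_basic (U : Y.Opens) (hU : IsAffineOpen U) (r : Γ(Y, U))
    (w : Spec (𝒮.presheaf.obj (op (Y.basicOpen r)))) :
    Q 𝒮 U hU (Spec.map (𝒮.presheaf.map (homOfLE (Y.basicOpen_le r)).op) w) ↔
      Q 𝒮 (Y.basicOpen r) (hU.basicOpen r) w := by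
  constructor
  · rintro ⟨x, hx, hxw⟩
    refine ⟨𝒮.res hU (hU.basicOpen r) (Y.basicOpen_le r) x, map_mem_irrelevant _ hx, ?_⟩
    intro hcon
    apply hxw
    exact hcon
  · rintro ⟨x', hx', hxw'⟩
    by_contra hcon
    apply hxw'
    have hle : ((𝒮.deg (Y.basicOpen r) (hU.basicOpen r))₊).toIdeal ≤
        (((𝒮.deg U hU)₊).map (𝒮.res hU (hU.basicOpen r) (Y.basicOpen_le r))).toIdeal :=
      𝒮.irrelevant_le_map U hU r
    have h2 : (((𝒮.deg U hU)₊).map (𝒮.res hU (hU.basicOpen r) (Y.basicOpen_le r))).toIdeal ≤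
        w.asIdeal := by
      rw [HomogeneousIdeal.toIdeal_map, Ideal.map_le_iff_le_comap]
      intro x hx
      by_contra hxw
      apply hcon
      exact ⟨x, hx, hxw⟩
    exact h2 (hle hx')

lemma Q_congr {W W₂ : Y.Opens} (e : W = W₂) (hW : IsAffineOpen W) (hW₂ : IsAffineOpen W₂)
    (w : Spec (𝒮.presheaf.obj (op W))) (w₂ : Spec (𝒮.presheaf.obj (op W₂)))
    (h : 𝒮.toQCAlg.ι W hW w = 𝒮.toQCAlg.ι W₂ hW₂ w₂) : Q 𝒮 W hW w ↔ Q 𝒮 W₂ hW₂ w₂ := by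
  subst e
  have := (𝒮.toQCAlg.ι W hW).isOpenEmbedding.injective h
  subst this
  rfl

lemma ι_basic (U : Y.Opens) (hU : IsAffineOpen U) (r : Γ(Y, U)) :
    Spec.map (𝒮.presheaf.map (homOfLE (Y.basicOpen_le r)).op) ≫ 𝒮.toQCAlg.ι U hU =
      𝒮.toQCAlg.ι (Y.basicOpen r) (hU.basicOpen r) := by
  have h1 : @LE.le Y.AffineZariskiSite _ ⟨Y.basicOpen r, hU.basicOpen r⟩ ⟨U, hU⟩ := ⟨r, rfl⟩
  exact 𝒮.toQCAlg.ι_res (U := ⟨U, hU⟩) (V := ⟨Y.basicOpen r, hU.basicOpen r⟩) (homOfLE h1)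

/-- passing to a basic open chart around a point -/
lemma exists_basic_chart (U : Y.Opens) (hU : IsAffineOpen U) (y : Spec (𝒮.presheaf.obj (op U)))
    (r : Γ(Y, U)) (hr : 𝒮.toQCAlg.π (𝒮.toQCAlg.ι U hU y) ∈ Y.basicOpen r) :
    ∃ w : Spec (𝒮.presheaf.obj (op (Y.basicOpen r))),
      𝒮.toQCAlg.ι (Y.basicOpen r) (hU.basicOpen r) w = 𝒮.toQCAlg.ι U hU y ∧
        (Q 𝒮 U hU y ↔ Q 𝒮 (Y.basicOpen r) (hU.basicOpen r) w) := by
  obtain ⟨w, hw⟩ := RelSpecMap.mem_range_ι 𝒮.toQCAlg (Y.basicOpen r) (hU.basicOpen r) _ hr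
  refine ⟨w, hw, ?_⟩
  have h1 : 𝒮.toQCAlg.ι U hU (Spec.map (𝒮.presheaf.map (homOfLE (Y.basicOpen_le r)).op) w) =
      𝒮.toQCAlg.ι U hU y := by
    rw [← Scheme.Hom.comp_apply, ι_basic, hw]
  have h2 := (𝒮.toQCAlg.ι U hU).isOpenEmbedding.injective h1
  rw [← h2]
  exact Q_basic 𝒮 U hU r w

theorem mem_pointedCone_ι_iff (U : Y.Opens) (hU : IsAffineOpen U)
    (y : Spec (𝒮.presheaf.obj (op U))) :
    𝒮.toQCAlg.ι U hU y ∈ RelCone.pointedCone 𝒮 ↔ Q 𝒮 U hU y := by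
  constructor
  · intro hz
    obtain ⟨V, hV, y₂, hy₂, hQ₂⟩ := (mem_pointedCone_iff 𝒮 _).mp hz
    have hπU : 𝒮.toQCAlg.π (𝒮.toQCAlg.ι U hU y) ∈ U := RelSpecMap.π_ι_mem 𝒮.toQCAlg U hU y
    have hπV : 𝒮.toQCAlg.π (𝒮.toQCAlg.ι U hU y) ∈ V := by
      rw [← hy₂]; exact RelSpecMap.π_ι_mem 𝒮.toQCAlg V hV y₂
    obtain ⟨r, r', hrr', hxr⟩ := exists_basicOpen_le_affine_inter hU hV _ ⟨hπU, hπV⟩
    obtain ⟨w, hw, hQw⟩ := exists_basic_chart 𝒮 U hU y r hxr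
    have hxr' : 𝒮.toQCAlg.π (𝒮.toQCAlg.ι V hV y₂) ∈ Y.basicOpen r' := by
      rw [hy₂, ← hrr']; exact hxr
    obtain ⟨w', hw', hQw'⟩ := exists_basic_chart 𝒮 V hV y₂ r' hxr'
    rw [hQw, Q_congr 𝒮 hrr' (hU.basicOpen r) (hV.basicOpen r') w w' (by rw [hw, hw', hy₂]), ← hQw']
    exact hQ₂
  · intro hQ
    exact (mem_pointedCone_iff 𝒮 _).mpr ⟨U, hU, y, rfl, hQ⟩

end Chart

section Iff
variable {Y Y' : Scheme.{u}} (q : Y' ⟶ Y) (𝒮 : RelProj.QCGrAlg Y) (𝒮' : RelProj.QCGrAlg Y')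
    (u : 𝒮.presheaf ⟶ q.base _* 𝒮'.presheaf)

set_option backward.isDefEq.respectTransparency.types false in
theorem preimage_pointedCone_eq_iff
    (hu : 𝒮.str ≫ u = q.c ≫ (TopCat.Presheaf.pushforward CommRingCat.{u} q.base).map 𝒮'.str)
    (φ : ∀ (U : Y.Opens) (hU : IsAffineOpen U) (U' : Y'.Opens) (hU' : IsAffineOpen U')
      (_ : U' ≤ q ⁻¹ᵁ U), 𝒮.deg U hU →+*ᵍ 𝒮'.deg U' hU')
    (hφ : ∀ (U : Y.Opens) (hU : IsAffineOpen U) (U' : Y'.Opens) (hU' : IsAffineOpen U')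
      (hle : U' ≤ q ⁻¹ᵁ U),
      (φ U hU U' hU' hle).toRingHom =
        ((u.app (op U) : 𝒮.presheaf.obj (op U) ⟶ 𝒮'.presheaf.obj (op (q ⁻¹ᵁ U))) ≫
          𝒮'.presheaf.map (homOfLE hle).op).hom)
    (Φ : 𝒮'.toQCAlg.spec ⟶ 𝒮.toQCAlg.spec)
    (hΦ : ∀ (U : Y.Opens) (hU : IsAffineOpen U) (U' : Y'.Opens) (hU' : IsAffineOpen U')
      (hle : U' ≤ q ⁻¹ᵁ U),
      𝒮'.toQCAlg.ι U' hU' ≫ Φ =
        Spec.map ((u.app (op U) : 𝒮.presheaf.obj (op U) ⟶ 𝒮'.presheaf.obj (op (q ⁻¹ᵁ U))) ≫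
          𝒮'.presheaf.map (homOfLE hle).op) ≫ 𝒮.toQCAlg.ι U hU) :
    (∀ (U : Y.Opens) (hU : IsAffineOpen U) (U' : Y'.Opens) (hU' : IsAffineOpen U')
      (hle : U' ≤ q ⁻¹ᵁ U), RelCone.domOpen (φ U hU U' hU' hle) = ⊤) ↔
      Φ ⁻¹ᵁ RelCone.pointedCone 𝒮 = RelCone.pointedCone 𝒮' := by
  -- the key chartwise equivalence
  have key : ∀ (U : Y.Opens) (hU : IsAffineOpen U) (U' : Y'.Opens) (hU' : IsAffineOpen U')
      (hle : U' ≤ q ⁻¹ᵁ U) (y' : Spec (𝒮'.presheaf.obj (op U'))),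
      Φ (𝒮'.toQCAlg.ι U' hU' y') ∈ RelCone.pointedCone 𝒮 ↔
        ∃ a ∈ ((𝒮.deg U hU)₊).toIdeal, φ U hU U' hU' hle a ∉ y'.asIdeal := by
    intro U hU U' hU' hle y'
    rw [← Scheme.Hom.comp_apply, hΦ U hU U' hU' hle, Scheme.Hom.comp_apply,
      mem_pointedCone_ι_iff]
    unfold Q
    have : ∀ a, a ∈ (Spec.map ((u.app (op U) : 𝒮.presheaf.obj (op U) ⟶
        𝒮'.presheaf.obj (op (q ⁻¹ᵁ U))) ≫ 𝒮'.presheaf.map (homOfLE hle).op) y').asIdeal ↔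
        φ U hU U' hU' hle a ∈ y'.asIdeal := by
      intro a
      rw [Spec.map_apply, PrimeSpectrum.comap_asIdeal, Ideal.mem_comap, ← hφ U hU U' hU' hle]
      rfl
    simp only [this]
  constructor
  · intro H
    refine le_antisymm (preimage_pointedCone_le q 𝒮 𝒮' u hu φ hφ Φ hΦ) ?_
    intro z' hz'
    obtain ⟨U, hU, hzU, -⟩ := Opens.isBasis_iff_nbhd.mp Y.isBasis_affineOpens
      (show q (𝒮'.toQCAlg.π z') ∈ (⊤ : Y.Opens) from trivial)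
    obtain ⟨U', hU', hzU', hle⟩ := Opens.isBasis_iff_nbhd.mp Y'.isBasis_affineOpens
      (show 𝒮'.toQCAlg.π z' ∈ q ⁻¹ᵁ U from hzU)
    obtain ⟨y', rfl⟩ := RelSpecMap.mem_range_ι 𝒮'.toQCAlg U' hU' z' hzU'
    show Φ (𝒮'.toQCAlg.ι U' hU' y') ∈ RelCone.pointedCone 𝒮
    rw [key U hU U' hU' hle y']
    have hQ' := (mem_pointedCone_ι_iff 𝒮' U' hU' y').mp hz'
    have h1 : ∀ x : ProjectiveSpectrum (𝒮'.deg U' hU'),
        ∃ a ∈ ((𝒮.deg U hU)₊).toIdeal, φ U hU U' hU' hle a ∉ x.asHomogeneousIdeal := by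
      intro x
      have hx : x ∈ RelCone.domOpen (φ U hU U' hU' hle) := by
        rw [H U hU U' hU' hle]; trivial
      exact (RelCone.mem_domOpen _ x).mp hx
    exact (forall_proj_iff_forall_prime (φ U hU U' hU' hle)).mp h1 y'.asIdeal y'.isPrime hQ'
  · intro H U hU U' hU' hle
    have h2 : ∀ x : ProjectiveSpectrum (𝒮'.deg U' hU'),
        ∃ a ∈ ((𝒮.deg U hU)₊).toIdeal, φ U hU U' hU' hle a ∉ x.asHomogeneousIdeal := by
      rw [forall_proj_iff_forall_prime (φ U hU U' hU' hle)]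
      intro y hy hQ'
      let y' : Spec (𝒮'.presheaf.obj (op U')) := ⟨y, hy⟩
      have h1 : 𝒮'.toQCAlg.ι U' hU' y' ∈ RelCone.pointedCone 𝒮' :=
        (mem_pointedCone_ι_iff 𝒮' U' hU' y').mpr hQ'
      rw [← H] at h1
      exact (key U hU U' hU' hle y').mp h1
    refine eq_top_iff.mpr fun x _ => ?_
    rw [RelCone.mem_domOpen]
    exact h2 x

end Iff

end Groth.Agent.Helper1.RelCone2
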