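import Mathlib
import Groth.Prelude.Def_RelProj

/-!
# Local properties of relative Proj (helper1 library)
-/

open CategoryTheory CategoryTheory.Limits AlgebraicGeometry Opposite TopologicalSpace
open scoped HomogeneousIdeal

universe u

namespace Groth.Agent.Helper1.RelProjLoc

section Graded
variable {σ A : Type*} [CommRing A] [SetLike σ A] [AddSubgroupClass σ A] (𝒜 : ℕ → σ) [GradedRing 𝒜]

theorem isReduced_away
    (hred : ∀ x : A, x ∈ (𝒜)₊ → IsNilpotent x → x = 0) {d : ℕ} (hd : 0 < d)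
    (f : A) (hf : f ∈ 𝒜 d) : IsReduced (HomogeneousLocalization.Away 𝒜 f) := by
  refine ⟨fun z hz => ?_⟩
  obtain ⟨k, hk⟩ := hz
  obtain ⟨n, a, ha, rfl⟩ := HomogeneousLocalization.Away.mk_surjective 𝒜 hf z
  have h1 := congrArg HomogeneousLocalization.val hk
  rw [HomogeneousLocalization.val_pow, HomogeneousLocalization.Away.val_mk,
    HomogeneousLocalization.val_zero, Localization.mk_pow, Localization.mk_eq_mk',
    IsLocalization.mk'_eq_zero_iff] at h1
  obtain ⟨⟨_, m, rfl⟩, hm⟩ := h1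
  have hm' : f ^ m * a ^ k = 0 := hm
  have hfa : f * a = 0 := by
    apply hred
    · exact Ideal.mul_mem_right _ _ (HomogeneousIdeal.mem_irrelevant_of_mem _ hd hf)
    · refine ⟨m + k, ?_⟩
      calc (f * a) ^ (m + k) = (f ^ m * a ^ k) * (f ^ k * a ^ m) := by ring
        _ = 0 := by rw [hm', zero_mul]
  apply HomogeneousLocalization.val_injective
  rw [HomogeneousLocalization.Away.val_mk, HomogeneousLocalization.val_zero,
    Localization.mk_eq_mk', IsLocalization.mk'_eq_zero_iff]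
  exact ⟨⟨f, 1, pow_one f⟩, hfa⟩

theorem isReduced_proj (hred : ∀ x : A, x ∈ (𝒜)₊ → IsNilpotent x → x = 0) :
    AlgebraicGeometry.IsReduced (Proj 𝒜) := by
  have : ∀ i, AlgebraicGeometry.IsReduced ((Proj.affineOpenCover 𝒜).openCover.X i) := fun i => by
    have := isReduced_away 𝒜 hred i.1.2 i.2.1 i.2.2
    show AlgebraicGeometry.IsReduced (Spec (.of (HomogeneousLocalization.Away 𝒜 i.2.1)))
    infer_instance
  exact AlgebraicGeometry.IsReduced.of_openCover _ (Proj.affineOpenCover 𝒜).openCover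

end Graded

variable {Y P : Scheme.{u}} (𝒮 : RelProj.QCGrAlg Y) (p : P ⟶ Y)
  (chart : ∀ (U : Y.Opens) (hU : IsAffineOpen U),
    (((p ⁻¹ᵁ U : P.Opens) : Scheme.{u}) ≅ Proj (𝒮.deg U hU)))

include 𝒮 chart in
theorem restrict_eq (hP : RelProj.IsRelProj 𝒮 p chart) (U : Y.Opens) (hU : IsAffineOpen U) :
    p ∣_ U = (chart U hU).hom ≫ Proj.toSpecZero (𝒮.deg U hU) ≫ Spec.map (𝒮.strZero U hU) ≫
      hU.isoSpec.inv := by
  rw [← cancel_mono U.ι]
  simp only [Category.assoc]
  rw [morphismRestrict_ι, ← hP.chart_over U hU, IsAffineOpen.isoSpec_inv_ι]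

theorem isSeparated (hP : RelProj.IsRelProj 𝒮 p chart) : IsSeparated p := by
  refine IsZariskiLocalAtTarget.of_iSup_eq_top (P := @IsSeparated)
    (fun U : Y.affineOpens => U.1) (iSup_affineOpens_eq_top Y) fun U => ?_
  rw [restrict_eq 𝒮 p chart hP U.1 U.2]
  infer_instance

include p chart in
theorem isReduced
    (hred : ∀ (U : Y.Opens) (hU : IsAffineOpen U) (x : 𝒮.presheaf.obj (op U)),
      x ∈ (𝒮.deg U hU)₊ → IsNilpotent x → x = 0) : AlgebraicGeometry.IsReduced P := by
  have hcov : IsOpenCover (fun U : Y.affineOpens => p ⁻¹ᵁ U.1) := by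
    refine eq_top_iff.mpr fun x _ => ?_
    have : p x ∈ (⨆ i : Y.affineOpens, (i : Y.Opens)) := by
      rw [iSup_affineOpens_eq_top]; trivial
    obtain ⟨U, hU⟩ := Opens.mem_iSup.mp this
    exact Opens.mem_iSup.mpr ⟨U, hU⟩
  let 𝒰 := P.openCoverOfIsOpenCover (fun U : Y.affineOpens => p ⁻¹ᵁ U.1) hcov
  have h : ∀ U : Y.affineOpens,
      AlgebraicGeometry.IsReduced ((p ⁻¹ᵁ U.1 : P.Opens) : Scheme.{u}) := fun U => by
    have hU : IsAffineOpen U.1 := U.2
    have := isReduced_proj (𝒮.deg U.1 hU) (hred U.1 hU)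
    exact isReduced_of_isOpenImmersion (chart U.1 hU).hom
  have : ∀ i, AlgebraicGeometry.IsReduced (𝒰.X i) := h
  exact AlgebraicGeometry.IsReduced.of_openCover _ 𝒰

set_option backward.isDefEq.respectTransparency.types false in
theorem finiteType
    (hft : ∀ (U : Y.Opens) (hU : IsAffineOpen U), (𝒮.str.app (op U)).hom.FiniteType)
    (hP : RelProj.IsRelProj 𝒮 p chart) : LocallyOfFiniteType p ∧ QuasiCompact p := by
  have key : ∀ U : Y.affineOpens, LocallyOfFiniteType (p ∣_ U.1) ∧ QuasiCompact (p ∣_ U.1) := by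
    intro U
    have hcomp : (algebraMap (𝒮.deg U.1 U.2 0) (𝒮.presheaf.obj (op U.1))).comp
        (𝒮.strZero U.1 U.2).hom = (𝒮.str.app (op U.1)).hom := by
      ext r; rfl
    have h1 : (algebraMap (𝒮.deg U.1 U.2 0) (𝒮.presheaf.obj (op U.1))).FiniteType := by
      have := hft U.1 U.2
      rw [← hcomp] at this
      exact RingHom.FiniteType.of_comp_finiteType this
    have : Algebra.FiniteType (𝒮.deg U.1 U.2 0) (𝒮.presheaf.obj (op U.1)) :=
      RingHom.finiteType_algebraMap.mp h1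
    have hcomp2 : (GradedRing.projZeroRingHom' (𝒮.deg U.1 U.2)).comp (𝒮.str.app (op U.1)).hom =
        (𝒮.strZero U.1 U.2).hom := by
      refine RingHom.ext fun r => ?_
      exact GradedRing.projZeroRingHom'_apply_coe (𝒮.deg U.1 U.2) ((𝒮.strZero U.1 U.2).hom r)
    have h2 : (𝒮.strZero U.1 U.2).hom.FiniteType := by
      rw [← hcomp2]
      exact (RingHom.FiniteType.of_surjective _
        (GradedRing.projZeroRingHom'_surjective (𝒮.deg U.1 U.2))).comp (hft U.1 U.2)
    have : LocallyOfFiniteType (Spec.map (𝒮.strZero U.1 U.2)) :=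
      (HasRingHomProperty.Spec_iff (P := @LocallyOfFiniteType)).mpr h2
    rw [restrict_eq 𝒮 p chart hP U.1 U.2]
    exact ⟨inferInstance, inferInstance⟩
  exact ⟨IsZariskiLocalAtTarget.of_iSup_eq_top (P := @LocallyOfFiniteType)
      (fun U : Y.affineOpens => U.1) (iSup_affineOpens_eq_top Y) fun U => (key U).1,
    IsZariskiLocalAtTarget.of_iSup_eq_top (P := @QuasiCompact)
      (fun U : Y.affineOpens => U.1) (iSup_affineOpens_eq_top Y) fun U => (key U).2⟩

end Groth.Agent.Helper1.RelProjLoc
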