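import Mathlib
import Groth.Prelude.Def_RelProj
import Groth.Agent.Lib.Helper1.RelProjLoc

/-!
# Morphisms of (relative) Proj induced by graded homomorphisms (helper1 library)
-/

open CategoryTheory CategoryTheory.Limits AlgebraicGeometry Opposite TopologicalSpace
open HomogeneousLocalization
open scoped HomogeneousIdeal

universe u

namespace Groth.Agent.Helper1.RelProjMap

section Graded
variable {σ τ A B : Type*} [CommRing A] [SetLike σ A] [AddSubgroupClass σ A] {𝒜 : ℕ → σ}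
  [GradedRing 𝒜] [CommRing B] [SetLike τ B] [AddSubgroupClass τ B] {ℬ : ℕ → τ} [GradedRing ℬ]

/-- degree zero part of a graded ring hom -/
def zeroHom (f : 𝒜 →+*ᵍ ℬ) : 𝒜 0 →+* ℬ 0 where
  toFun a := ⟨f a, f.map_mem a.2⟩
  map_one' := Subtype.ext (map_one f)
  map_mul' a b := Subtype.ext (map_mul f _ _)
  map_zero' := Subtype.ext (map_zero f)
  map_add' a b := Subtype.ext (map_add f _ _)

set_option backward.isDefEq.respectTransparency.types false in
lemma awayMap_comp_fromZero (f : 𝒜 →+*ᵍ ℬ) (s : A) :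
    (Away.map f s).comp (fromZeroRingHom 𝒜 (Submonoid.powers s)) =
      (fromZeroRingHom ℬ (Submonoid.powers (f s))).comp (zeroHom f) := by
  refine RingHom.ext fun a => ?_
  apply HomogeneousLocalization.val_injective
  simp only [RingHom.comp_apply, fromZeroRingHom, RingHom.coe_mk, MonoidHom.coe_mk, OneHom.coe_mk,
    Away.map, HomogeneousLocalization.map_mk, val_mk, zeroHom]
  simp

lemma awayMap_surjective (f : 𝒜 →+*ᵍ ℬ) (hsurj : Function.Surjective f) {d : ℕ} (s : A)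
    (hs : s ∈ 𝒜 d) : Function.Surjective (Away.map f s) := by
  classical
  intro z
  obtain ⟨n, b, hb, rfl⟩ := Away.mk_surjective ℬ (f.map_mem hs) z
  obtain ⟨a₀, ha₀⟩ := hsurj b
  refine ⟨Away.mk 𝒜 hs n (DirectSum.decompose 𝒜 a₀ (n • d) : A) (SetLike.coe_mem _), ?_⟩
  rw [Away.map_mk]
  congr 1
  rw [GradedRingHom.map_directSumDecompose, ha₀, DirectSum.decompose_of_mem_same ℬ hb]

end Graded

section Univ
variable {σ τ A B : Type u} [CommRing A] [SetLike σ A] [AddSubgroupClass σ A] {𝒜 : ℕ → σ}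
  [GradedRing 𝒜] [CommRing B] [SetLike τ B] [AddSubgroupClass τ B] {ℬ : ℕ → τ} [GradedRing ℬ]

set_option backward.isDefEq.respectTransparency.types false in
lemma map_toSpecZero_aux (f : 𝒜 →+*ᵍ ℬ) (hf : (ℬ)₊ ≤ ((𝒜)₊).map f) {d : ℕ} (hd : 0 < d) (s : A)
    (hs : s ∈ 𝒜 d) :
    Proj.awayι ℬ (f s) (f.map_mem hs) hd ≫ Proj.map f hf ≫ Proj.toSpecZero 𝒜 =
      Proj.awayι ℬ (f s) (f.map_mem hs) hd ≫ Proj.toSpecZero ℬ ≫
        Spec.map (CommRingCat.ofHom (zeroHom f)) := by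
  rw [Proj.awayι_comp_map_assoc f hf hd s hs, Proj.awayι_toSpecZero,
    Proj.awayι_toSpecZero_assoc, ← Spec.map_comp, ← Spec.map_comp, ← CommRingCat.ofHom_comp,
    ← CommRingCat.ofHom_comp, awayMap_comp_fromZero]

set_option backward.isDefEq.respectTransparency.types false in
theorem map_toSpecZero (f : 𝒜 →+*ᵍ ℬ) (hf : (ℬ)₊ ≤ ((𝒜)₊).map f) :
    Proj.map f hf ≫ Proj.toSpecZero 𝒜 =
      Proj.toSpecZero ℬ ≫ Spec.map (CommRingCat.ofHom (zeroHom f)) := by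
  refine (Proj.mapAffineOpenCover f hf).openCover.hom_ext _ _ ?_
  rintro (s : Σ i : PNat, 𝒜 i)
  exact map_toSpecZero_aux f hf s.1.2 (s.2 : A) s.2.2

set_option backward.isDefEq.respectTransparency.types false in
theorem isPullback_awayι (f : 𝒜 →+*ᵍ ℬ) (hf : (ℬ)₊ ≤ ((𝒜)₊).map f) {d : ℕ} (hd : 0 < d) (s : A)
    (hs : s ∈ 𝒜 d) :
    IsPullback (Spec.map (CommRingCat.ofHom (Away.map f s)))
      (Proj.awayι ℬ (f s) (f.map_mem hs) hd) (Proj.awayι 𝒜 s hs hd)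
      (Proj.map f hf) := by
  apply IsOpenImmersion.isPullback
  · exact Proj.awayι_comp_map f hf hd s hs
  · rw [Proj.opensRange_awayι, Proj.opensRange_awayι, Proj.map_preimage_basicOpen]

set_option backward.isDefEq.respectTransparency.types false in
theorem isClosedImmersion_map (f : 𝒜 →+*ᵍ ℬ) (hf : (ℬ)₊ ≤ ((𝒜)₊).map f)
    (hsurj : Function.Surjective f) : IsClosedImmersion (Proj.map f hf) := by
  refine IsZariskiLocalAtTarget.of_openCover (P := @IsClosedImmersion)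
    (Proj.affineOpenCover 𝒜).openCover ?_
  rintro (s : Σ i : PNat, 𝒜 i)
  have sq := isPullback_awayι f hf s.1.2 (s.2 : A) s.2.2
  have hg : IsClosedImmersion (Spec.map (CommRingCat.ofHom (Away.map f (s.2 : A)))) :=
    IsClosedImmersion.spec_of_surjective _ (awayMap_surjective f hsurj _ s.2.2)
  have h2 : IsClosedImmersion (sq.flip.isoPullback.inv ≫
      Spec.map (CommRingCat.ofHom (Away.map f (s.2 : A)))) := inferInstance
  rw [sq.flip.isoPullback_inv_snd] at h2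
  exact h2

end Univ

section Rel
variable {Y PA PB : Scheme.{u}} {𝒜 ℬ : RelProj.QCGrAlg Y}
    (φ : 𝒜.toQCAlg ⟶ ℬ.toQCAlg) (hφ : RelProj.IsGradedHom φ)
    (hirr : ∀ (U : Y.Opens) (hU : IsAffineOpen U),
      (ℬ.deg U hU)₊ ≤ ((𝒜.deg U hU)₊).map (RelProj.gradedHomAt φ hφ U hU))
    (pA : PA ⟶ Y) (pB : PB ⟶ Y)
    (chartA : ∀ (U : Y.Opens) (hU : IsAffineOpen U),
      (((pA ⁻¹ᵁ U : PA.Opens) : Scheme.{u}) ≅ Proj (𝒜.deg U hU)))
    (chartB : ∀ (U : Y.Opens) (hU : IsAffineOpen U),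
      (((pB ⁻¹ᵁ U : PB.Opens) : Scheme.{u}) ≅ Proj (ℬ.deg U hU)))

include hφ hirr in
/-- The induced morphism of relative Proj's is a morphism over the base. -/
theorem comp_eq (hA : RelProj.IsRelProj 𝒜 pA chartA) (hB : RelProj.IsRelProj ℬ pB chartB)
    (h : PB ⟶ PA) (hh : RelProj.IsRelProjMap φ hφ hirr chartA chartB h) : h ≫ pA = pB := by
  have hcov : ⨆ U : Y.affineOpens, pB ⁻¹ᵁ U.1 = ⊤ := by
    refine eq_top_iff.mpr fun x _ => ?_
    have : pB x ∈ (⨆ i : Y.affineOpens, (i : Y.Opens)) := by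
      rw [iSup_affineOpens_eq_top]; trivial
    obtain ⟨U, hU⟩ := Opens.mem_iSup.mp this
    exact Opens.mem_iSup.mpr ⟨U, hU⟩
  refine (PB.openCoverOfIsOpenCover _ hcov).hom_ext _ _ fun U => ?_
  have hU : IsAffineOpen U.1 := U.2
  show (pB ⁻¹ᵁ U.1).ι ≫ h ≫ pA = (pB ⁻¹ᵁ U.1).ι ≫ pB
  have hstr : 𝒜.strZero U.1 hU ≫ CommRingCat.ofHom (zeroHom (RelProj.gradedHomAt φ hφ U.1 hU)) =
      ℬ.strZero U.1 hU := by
    ext r
    exact congr($(φ.comm).app (op U.1) r)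
  have e1 : (pB ⁻¹ᵁ U.1).ι ≫ pB = (chartB U.1 hU).hom ≫ Proj.toSpecZero _ ≫
      Spec.map (CommRingCat.ofHom (zeroHom (RelProj.gradedHomAt φ hφ U.1 hU))) ≫
      Spec.map (𝒜.strZero U.1 hU) ≫ hU.fromSpec := by
    rw [← hB.chart_over U.1 hU, ← hstr, Spec.map_comp]
    simp only [Category.assoc]
  have e2 : (pB ⁻¹ᵁ U.1).ι ≫ h ≫ pA = (chartB U.1 hU).hom ≫
      Proj.map (RelProj.gradedHomAt φ hφ U.1 hU) (hirr U.1 hU) ≫ Proj.toSpecZero _ ≫
      Spec.map (𝒜.strZero U.1 hU) ≫ hU.fromSpec := by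
    rw [← Category.assoc, hh U.1 hU]
    simp only [Category.assoc]
    rw [← hA.chart_over U.1 hU, Iso.inv_hom_id_assoc]
  rw [e1, e2, reassoc_of% (map_toSpecZero (RelProj.gradedHomAt φ hφ U.1 hU) (hirr U.1 hU))]

include hφ hirr in
set_option backward.isDefEq.respectTransparency.types false in
theorem isClosedImmersion
    (hsurj : ∀ (U : Y.Opens) (hU : IsAffineOpen U), Function.Surjective (φ.hom.app (op U)).hom)
    (hA : RelProj.IsRelProj 𝒜 pA chartA) (hB : RelProj.IsRelProj ℬ pB chartB)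
    (h : PB ⟶ PA) (hh : RelProj.IsRelProjMap φ hφ hirr chartA chartB h) :
    IsClosedImmersion h := by
  have hcomp := comp_eq φ hφ hirr pA pB chartA chartB hA hB h hh
  have hcov : ⨆ U : Y.affineOpens, pA ⁻¹ᵁ U.1 = ⊤ := by
    refine eq_top_iff.mpr fun x _ => ?_
    have : pA x ∈ (⨆ i : Y.affineOpens, (i : Y.Opens)) := by
      rw [iSup_affineOpens_eq_top]; trivial
    obtain ⟨U, hU⟩ := Opens.mem_iSup.mp this
    exact Opens.mem_iSup.mpr ⟨U, hU⟩
  refine IsZariskiLocalAtTarget.of_iSup_eq_top (P := @IsClosedImmersion)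
    (fun U : Y.affineOpens => pA ⁻¹ᵁ U.1) hcov fun U => ?_
  have hU : IsAffineOpen U.1 := U.2
  have hpre : h ⁻¹ᵁ (pA ⁻¹ᵁ U.1) = pB ⁻¹ᵁ U.1 := by
    rw [← Scheme.Hom.comp_preimage, hcomp]
  have key : h ∣_ (pA ⁻¹ᵁ U.1) = (PB.isoOfEq hpre).hom ≫ (chartB U.1 hU).hom ≫
      Proj.map (RelProj.gradedHomAt φ hφ U.1 hU) (hirr U.1 hU) ≫ (chartA U.1 hU).inv := by
    rw [← cancel_mono (pA ⁻¹ᵁ U.1).ι]
    simp only [Category.assoc]
    rw [morphismRestrict_ι, ← hh U.1 hU, Scheme.isoOfEq_hom_ι_assoc]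
  rw [key]
  have : IsClosedImmersion (Proj.map (RelProj.gradedHomAt φ hφ U.1 hU) (hirr U.1 hU)) :=
    isClosedImmersion_map _ _ (hsurj U.1 hU)
  infer_instance

end Rel

end Groth.Agent.Helper1.RelProjMap
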