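import Mathlib
import Groth.Agent.Lib.Helper1.RelProjMap
import Groth.Agent.Lib.Helper1.RelCone2

/-!
# Topological facts on `Proj` of a graded ring (helper1 library)
-/

open AlgebraicGeometry CategoryTheory HomogeneousLocalization
open scoped HomogeneousIdeal

universe u

namespace Groth.Agent.Helper1.ProjTop

section
variable {A σ : Type u} [CommRing A] [SetLike σ A] [AddSubgroupClass σ A] (𝒜 : ℕ → σ)
  [GradedRing 𝒜]

/-- a non-nilpotent element of the irrelevant ideal is nonzero at some point of `Proj` -/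
theorem exists_notMem_of_not_isNilpotent {f : A} (hf : f ∈ (𝒜)₊.toIdeal) (hn : ¬ IsNilpotent f) :
    ∃ x : ProjectiveSpectrum 𝒜, f ∉ x.asHomogeneousIdeal := by
  have h1 : f ∉ nilradical A := fun h => hn (mem_nilradical.mp h)
  rw [nilradical_eq_sInf, Ideal.mem_sInf] at h1
  push Not at h1
  obtain ⟨P, hP, hfP⟩ := h1
  have hP' : P.IsPrime := hP
  have hQ : (P.homogeneousCore 𝒜).toIdeal.IsPrime := hP'.homogeneousCore
  have hQP : (P.homogeneousCore 𝒜).toIdeal ≤ P := Ideal.toIdeal_homogeneousCore_le 𝒜 P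
  refine ⟨⟨P.homogeneousCore 𝒜, hQ, fun hle => hfP (hQP (hle hf))⟩, fun h => hfP (hQP h)⟩

/-- a point of `Proj` misses a homogeneous element of positive degree -/
theorem exists_homogeneous_notMem (x : ProjectiveSpectrum 𝒜) :
    ∃ (i : ℕ) (_ : 0 < i) (f : A), f ∈ 𝒜 i ∧ f ∉ x.asHomogeneousIdeal := by
  by_contra hcon
  push Not at hcon
  apply x.not_irrelevant_le
  rw [HomogeneousIdeal.irrelevant_le]
  intro i hi f hf
  exact hcon i hi f hf

variable (hred : ∀ f ∈ (𝒜)₊.toIdeal, IsNilpotent f → f = 0)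

include hred in
/-- charts of an essentially reduced graded ring are reduced -/
theorem isReduced_away {d : ℕ} (hd : 0 < d) {f : A} (hf : f ∈ 𝒜 d) :
    IsReduced (Away 𝒜 f) := by
  refine ⟨fun x hx => ?_⟩
  obtain ⟨n, hn⟩ := hx
  obtain ⟨k, a, ha, rfl⟩ := Away.mk_surjective 𝒜 hf x
  have hval : (Away.mk 𝒜 hf k a ha).val ^ n = 0 := by
    rw [← HomogeneousLocalization.val_pow, hn, HomogeneousLocalization.val_zero]
  rw [Away.val_mk, Localization.mk_pow, Localization.mk_eq_mk', IsLocalization.mk'_eq_zero_iff]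
    at hval
  obtain ⟨⟨_, m, rfl⟩, hm⟩ := hval
  have hfa : f * a ∈ (𝒜)₊.toIdeal := by
    have : f * a ∈ 𝒜 (d + k • d) := SetLike.mul_mem_graded hf ha
    exact HomogeneousIdeal.mem_irrelevant_of_mem 𝒜 (by omega) this
  have hnil : IsNilpotent (f * a) := by
    refine ⟨m + n, ?_⟩
    rw [mul_pow, pow_add, pow_add]
    calc f ^ m * f ^ n * (a ^ m * a ^ n) = (f ^ n * a ^ m) * (f ^ m * a ^ n) := by ring
      _ = 0 := by rw [hm, mul_zero]
  have h0 := hred _ hfa hnil
  apply HomogeneousLocalization.val_injective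
  rw [Away.val_mk, HomogeneousLocalization.val_zero, Localization.mk_eq_mk',
    IsLocalization.mk'_eq_zero_iff]
  exact ⟨⟨f, 1, pow_one f⟩, h0⟩

include hred in
theorem isReduced_proj : AlgebraicGeometry.IsReduced (Proj 𝒜) := by
  have : ∀ i, AlgebraicGeometry.IsReduced ((Proj.affineOpenCover 𝒜).openCover.X i) := by
    rintro (s : Σ i : PNat, 𝒜 i)
    have := isReduced_away 𝒜 hred s.1.2 s.2.2
    show AlgebraicGeometry.IsReduced (Spec (CommRingCat.of (Away 𝒜 (s.2 : A))))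
    infer_instance
  exact IsReduced.of_openCover _ (Proj.affineOpenCover 𝒜).openCover

include hred in
theorem isIntegral_of_essIntegral (hne : ∃ f ∈ (𝒜)₊.toIdeal, f ≠ 0)
    (hdom : ∀ f ∈ (𝒜)₊.toIdeal, ∀ g ∈ (𝒜)₊.toIdeal, f * g = 0 → f = 0 ∨ g = 0) :
    AlgebraicGeometry.IsIntegral (Proj 𝒜) := by
  rw [isIntegral_iff_irreducibleSpace_and_isReduced]
  refine ⟨?_, isReduced_proj 𝒜 hred⟩
  have hnonempty : Nonempty (Proj 𝒜) := by
    obtain ⟨f, hf, hf0⟩ := hne
    obtain ⟨x, -⟩ := exists_notMem_of_not_isNilpotent 𝒜 hf (fun h => hf0 (hred f hf h))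
    exact ⟨x⟩
  have hpre : PreirreducibleSpace (Proj 𝒜) := by
    refine ⟨?_⟩
    rintro U V hU hV ⟨x, -, hxU⟩ ⟨y, -, hyV⟩
    obtain ⟨_, ⟨a, rfl⟩, hxa, haU⟩ :=
      (ProjectiveSpectrum.isTopologicalBasis_basic_opens 𝒜).exists_subset_of_mem_open hxU hU
    obtain ⟨_, ⟨b, rfl⟩, hyb, hbV⟩ :=
      (ProjectiveSpectrum.isTopologicalBasis_basic_opens 𝒜).exists_subset_of_mem_open hyV hV
    have hxa' : a ∉ x.asHomogeneousIdeal := hxa
    have hyb' : b ∉ y.asHomogeneousIdeal := hyb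
    obtain ⟨i, hi, f, hfi, hfx⟩ := exists_homogeneous_notMem 𝒜 x
    obtain ⟨j, hj, g, hgj, hgy⟩ := exists_homogeneous_notMem 𝒜 y
    have hf : f ∈ (𝒜)₊.toIdeal := HomogeneousIdeal.mem_irrelevant_of_mem 𝒜 hi hfi
    have hg : g ∈ (𝒜)₊.toIdeal := HomogeneousIdeal.mem_irrelevant_of_mem 𝒜 hj hgj
    have haf : a * f ∈ (𝒜)₊.toIdeal := Ideal.mul_mem_left _ _ hf
    have hbg : b * g ∈ (𝒜)₊.toIdeal := Ideal.mul_mem_left _ _ hg
    have haf0 : a * f ≠ 0 := by
      intro h
      have : a * f ∈ x.asHomogeneousIdeal.toIdeal := by rw [h]; exact Ideal.zero_mem _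
      rcases x.isPrime.mem_or_mem this with h1 | h1
      · exact hxa' h1
      · exact hfx h1
    have hbg0 : b * g ≠ 0 := by
      intro h
      have : b * g ∈ y.asHomogeneousIdeal.toIdeal := by rw [h]; exact Ideal.zero_mem _
      rcases y.isPrime.mem_or_mem this with h1 | h1
      · exact hyb' h1
      · exact hgy h1
    have hprod0 : (a * f) * (b * g) ≠ 0 := by
      intro h
      rcases hdom _ haf _ hbg h with h1 | h1
      · exact haf0 h1
      · exact hbg0 h1
    have hprod : (a * f) * (b * g) ∈ (𝒜)₊.toIdeal := Ideal.mul_mem_left _ _ hbg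
    obtain ⟨z, hz⟩ := exists_notMem_of_not_isNilpotent 𝒜 hprod
      (fun h => hprod0 (hred _ hprod h))
    have hza : a ∉ z.asHomogeneousIdeal := fun h => hz (by
      have : a * (f * (b * g)) ∈ z.asHomogeneousIdeal.toIdeal := Ideal.mul_mem_right _ _ h
      rwa [← mul_assoc] at this)
    have hzb : b ∉ z.asHomogeneousIdeal := fun h => hz (by
      have : b * (g * (a * f)) ∈ z.asHomogeneousIdeal.toIdeal := Ideal.mul_mem_right _ _ h
      have e : (a * f) * (b * g) = b * (g * (a * f)) := by ring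
      rwa [e])
    exact ⟨z, Set.mem_univ _, haU hza, hbV hzb⟩
  exact { toPreirreducibleSpace := hpre, toNonempty := hnonempty }

include hred in
theorem essIntegral_of_isIntegral (h : AlgebraicGeometry.IsIntegral (Proj 𝒜)) :
    (∃ f ∈ (𝒜)₊.toIdeal, f ≠ 0) ∧
      ∀ f ∈ (𝒜)₊.toIdeal, ∀ g ∈ (𝒜)₊.toIdeal, f * g = 0 → f = 0 ∨ g = 0 := by
  rw [isIntegral_iff_irreducibleSpace_and_isReduced] at h
  obtain ⟨hirr, -⟩ := h
  constructor
  · obtain ⟨x⟩ := hirr.toNonempty
    obtain ⟨i, hi, f, hfi, hfx⟩ := exists_homogeneous_notMem 𝒜 x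
    refine ⟨f, HomogeneousIdeal.mem_irrelevant_of_mem 𝒜 hi hfi, ?_⟩
    rintro rfl
    exact hfx (Ideal.zero_mem _)
  · intro f hf g hg hfg
    by_contra hcon
    push Not at hcon
    obtain ⟨hf0, hg0⟩ := hcon
    obtain ⟨x, hx⟩ := exists_notMem_of_not_isNilpotent 𝒜 hf (fun h => hf0 (hred f hf h))
    obtain ⟨y, hy⟩ := exists_notMem_of_not_isNilpotent 𝒜 hg (fun h => hg0 (hred g hg h))
    obtain ⟨z, hzf, hzg⟩ := @nonempty_preirreducible_inter _ _ _ _ hirr.toPreirreducibleSpace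
      (ProjectiveSpectrum.basicOpen 𝒜 f).2 (ProjectiveSpectrum.basicOpen 𝒜 g).2 ⟨x, hx⟩ ⟨y, hy⟩
    have hzf' : f ∉ z.asHomogeneousIdeal := hzf
    have hzg' : g ∉ z.asHomogeneousIdeal := hzg
    have : f * g ∈ z.asHomogeneousIdeal.toIdeal := by rw [hfg]; exact Ideal.zero_mem _
    rcases z.isPrime.mem_or_mem this with h1 | h1
    · exact hzf' h1
    · exact hzg' h1

end

section Quot
variable {A σ B τ : Type u} [CommRing A] [SetLike σ A] [AddSubgroupClass σ A] (𝒜 : ℕ → σ)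
  [GradedRing 𝒜] [CommRing B] [SetLike τ B] [AddSubgroupClass τ B] (ℬ : ℕ → τ) [GradedRing ℬ]
  (φ : 𝒜 →+*ᵍ ℬ) (hsurj : Function.Surjective φ)
  (hker : ∀ a : A, φ a = 0 ↔ a ∈ (𝒜)₊.toIdeal ∧ IsNilpotent a)
  (hφ : (ℬ)₊ ≤ ((𝒜)₊).map φ)

include hsurj hker in
theorem essReduced_of_quot : ∀ b ∈ (ℬ)₊.toIdeal, IsNilpotent b → b = 0 := by
  classical
  intro b hb hnil
  obtain ⟨a, rfl⟩ := hsurj b
  set a' := a - (DirectSum.decompose 𝒜 a 0 : A) with ha'
  have hb0 : (DirectSum.decompose ℬ (φ a) 0 : B) = 0 := by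
    have := (HomogeneousIdeal.mem_irrelevant_iff ℬ (φ a)).mp hb
    rwa [GradedRing.proj_apply] at this
  have hφa' : φ a' = φ a := by
    rw [ha', map_sub, φ.map_directSumDecompose, hb0, sub_zero]
  have ha'irr : a' ∈ (𝒜)₊.toIdeal := by
    show a' ∈ (𝒜)₊
    rw [HomogeneousIdeal.mem_irrelevant_iff, GradedRing.proj_apply,
      ha', DirectSum.decompose_sub, DirectSum.sub_apply, AddSubgroupClass.coe_sub,
      DirectSum.decompose_coe, DirectSum.of_eq_same, sub_self]
  obtain ⟨n, hn⟩ := hnil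
  have h1 : φ (a' ^ n) = 0 := by rw [map_pow, hφa', hn]
  have h2 := ((hker _).mp h1).2
  have h3 : IsNilpotent a' := by
    obtain ⟨m, hm⟩ := h2
    exact ⟨n * m, by rw [pow_mul, hm]⟩
  rw [← hφa']
  exact (hker a').mpr ⟨ha'irr, h3⟩

include hsurj hker in
theorem map_surjective : Function.Surjective (Proj.map φ hφ).base := by
  intro p
  have hkerle : RingHom.ker (φ : A →+* B) ≤ p.asHomogeneousIdeal.toIdeal := by
    intro a ha
    have h0 : φ a = 0 := ha
    obtain ⟨n, hn⟩ := ((hker a).mp h0).2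
    exact p.isPrime.mem_of_pow_mem n (by rw [hn]; exact Ideal.zero_mem _)
  have hcm : Ideal.comap (φ : A →+* B) (Ideal.map (φ : A →+* B) p.asHomogeneousIdeal.toIdeal) =
      p.asHomogeneousIdeal.toIdeal := by
    rw [Ideal.comap_map_of_surjective (φ : A →+* B) hsurj]
    exact sup_eq_left.mpr hkerle
  have hprime : (Ideal.map (φ : A →+* B) p.asHomogeneousIdeal.toIdeal).IsPrime :=
    Ideal.map_isPrime_of_surjective (f := (φ : A →+* B)) hsurj hkerle
  let q : ProjectiveSpectrum ℬ :=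
    { asHomogeneousIdeal := p.asHomogeneousIdeal.map φ
      isPrime := hprime
      not_irrelevant_le := by
        intro hle
        apply p.not_irrelevant_le
        intro a ha
        have h1 : φ a ∈ (ℬ)₊ := RelCone2.map_mem_irrelevant φ ha
        have h2 : φ a ∈ Ideal.map (φ : A →+* B) p.asHomogeneousIdeal.toIdeal := hle h1
        have h3 : a ∈ Ideal.comap (φ : A →+* B)
            (Ideal.map (φ : A →+* B) p.asHomogeneousIdeal.toIdeal) := h2
        rw [hcm] at h3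
        exact h3 }
  refine ⟨q, ?_⟩
  apply ProjectiveSpectrum.ext
  apply HomogeneousIdeal.toIdeal_injective
  exact hcm

include hsurj hker in
theorem quot_main :
    IsClosedImmersion (Proj.map φ hφ) ∧ IsHomeomorph (Proj.map φ hφ).base ∧
      AlgebraicGeometry.IsReduced (Proj ℬ) := by
  have hci : IsClosedImmersion (Proj.map φ hφ) := RelProjMap.isClosedImmersion_map φ hφ hsurj
  refine ⟨hci, ?_, isReduced_proj ℬ (essReduced_of_quot 𝒜 ℬ φ hsurj hker)⟩
  rw [isHomeomorph_iff_isEmbedding_surjective]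
  exact ⟨(Proj.map φ hφ).isClosedEmbedding.isEmbedding, map_surjective 𝒜 ℬ φ hsurj hker hφ⟩

end Quot

end Groth.Agent.Helper1.ProjTop
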