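import Mathlib

universe u
open AlgebraicGeometry CategoryTheory Limits TopologicalSpace

namespace Groth.Agent.Helper1.QCohLib

variable {X : Scheme.{u}}

/-- transport a presentation of `F|_U` (module on the scheme `U`) to the over-site -/
noncomputable def presentationOver (F : X.Modules) (U : X.Opens)
    (P : (F.restrict U.ι).Presentation) :
    (F.over U).Presentation := by
  let E : SheafOfModules.{u} (X.ringCatSheaf.over U) ≌
      SheafOfModules.{u} (U.sheafRestrict.obj X.ringCatSheaf) :=
    U.sheafOfModulesEquivOver X.ringCatSheaf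
  let M' : SheafOfModules.{u} (U.sheafRestrict.obj X.ringCatSheaf) := F.restrict U.ι
  let P' : M'.Presentation := P
  have η : SheafOfModules.unit _ ≅ E.inverse.obj (SheafOfModules.unit _) :=
    (TopologicalSpace.Opens.sheafOfModulesEquivOverInverseUnit U X.ringCatSheaf).symm
  have iso : E.inverse.obj M' ≅ F.over U :=
    E.inverse.mapIso ((Scheme.Modules.overFunctorEquiv U).app F).symm ≪≫
      (E.unitIso.app (F.over U)).symm
  exact (P'.map E.inverse η).ofIsIso iso.hom

theorem isQuasicoherent_of_cover (F : X.Modules) {I : Type u} (U : I → X.Opens)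
    (hU : ⨆ i, U i = ⊤) (P : ∀ i, Nonempty (F.restrict (U i).ι).Presentation) :
    F.IsQuasicoherent := by
  have : ∀ i, SheafOfModules.IsQuasicoherent.{u} (F.over (U i)) := fun i =>
    (presentationOver F (U i) (P i).some).isQuasicoherent
  refine SheafOfModules.IsQuasicoherent.of_coversTop F U ?_
  exact (Opens.coversTop_iff (T := X) U).mpr hU

end Groth.Agent.Helper1.QCohLib

namespace Groth.Agent.Helper1.QCohLib

variable {X : Scheme.{u}}

/-- a module on `Spec R` with `IsIso fromTildeΓ` has a presentation -/
theorem nonempty_presentation_of_isIso_fromTildeΓ {R : CommRingCat.{u}} (N : (Spec R).Modules)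
    [IsIso N.fromTildeΓ] : Nonempty N.Presentation := by
  have h : IsIso (C := SheafOfModules.{u} (Spec R).ringCatSheaf) N.fromTildeΓ := ‹_›
  exact ⟨SheafOfModules.Presentation.ofIsIso.{u, u, u} N.fromTildeΓ
    (presentationTilde.{u} _ .univ (by simp) _ (Submodule.span_eq _))⟩

theorem nonempty_presentation_restrict_opensRange (F : X.Modules) {R : CommRingCat.{u}}
    (j : Spec R ⟶ X) [IsOpenImmersion j] [IsIso (F.restrict j).fromTildeΓ] :
    Nonempty (F.restrict j.opensRange.ι).Presentation := by
  obtain ⟨P⟩ := nonempty_presentation_of_isIso_fromTildeΓ (F.restrict j)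
  -- `e : Spec R ≅ opensRange`
  let e := j.isoOpensRange
  have he : e.inv ≫ j = j.opensRange.ι := by
    rw [Iso.inv_comp_eq]
    exact (Scheme.Hom.isoOpensRange_hom_ι j).symm
  have P1 := Scheme.Modules.presentationRestrict e.inv P
  let iso : (F.restrict j).restrict e.inv ≅ F.restrict j.opensRange.ι :=
    ((Scheme.Modules.restrictFunctorComp e.inv j).app F).symm ≪≫
      (Scheme.Modules.restrictFunctorCongr he).app F
  have h : IsIso (C := SheafOfModules.{u} (j.opensRange : Scheme.{u}).ringCatSheaf) iso.hom :=
    Iso.isIso_hom iso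
  exact ⟨SheafOfModules.Presentation.ofIsIso.{u, u, u} iso.hom P1⟩

end Groth.Agent.Helper1.QCohLib

namespace Groth.Agent.Helper1.QCohLib

variable {X : Scheme.{u}}

/-- quasi-coherence can be checked on affine charts via `fromTildeΓ` -/
theorem isQuasicoherent_of_affine_charts (F : X.Modules) {I : Type u} (R : I → CommRingCat.{u})
    (j : ∀ i, Spec (R i) ⟶ X) [∀ i, IsOpenImmersion (j i)]
    (hcov : ⨆ i, (j i).opensRange = ⊤) (h : ∀ i, IsIso (F.restrict (j i)).fromTildeΓ) :
    F.IsQuasicoherent := by
  refine isQuasicoherent_of_cover F (fun i => (j i).opensRange) hcov fun i => ?_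
  have := h i
  exact nonempty_presentation_restrict_opensRange F (j i)

end Groth.Agent.Helper1.QCohLib
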