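import Mathlib
import Groth.Prelude.Def_GrMod2
import Groth.Agent.Lib.Helper1.GrSect
import Groth.Agent.Lib.Helper1.GrTildeLib
import Groth.Agent.Lib.Helper1.QCohLib

universe u
open AlgebraicGeometry CategoryTheory Limits TopologicalSpace HomogeneousLocalization Opposite

namespace Groth.Agent.Helper1.TildeQC

section Star
variable {σ : Type*} {A : Type u} [CommRing A] [SetLike σ A] [AddSubgroupClass σ A]
variable (𝒜 : ℕ → σ) [GradedRing 𝒜]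
variable (f : A) {d : ℕ} (hf : f ∈ 𝒜 d) (hd : 0 < d)

theorem le_preimage : (⊤ : (Spec (.of (Away 𝒜 f))).Opens) ≤
    (Proj.awayι 𝒜 f hf hd) ⁻¹ᵁ (Proj.basicOpen 𝒜 f) := by
  rw [← Proj.opensRange_awayι 𝒜 f hf hd]
  intro x _
  exact ⟨x, rfl⟩

set_option backward.isDefEq.respectTransparency.types false in
/-- (★) -/
theorem star : Proj.awayToSection 𝒜 f ≫
    (Proj.awayι 𝒜 f hf hd).appLE (Proj.basicOpen 𝒜 f) ⊤ (le_preimage 𝒜 f hf hd) =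
      (Scheme.ΓSpecIso _).inv := by
  have hiso : IsIso (Proj.basicOpenToSpec 𝒜 f) :=
    (Proj.basicOpenIsoSpec 𝒜 f hf hd).isIso_hom
  have hcomp : Proj.basicOpenToSpec 𝒜 f ≫ Proj.awayι 𝒜 f hf hd = (Proj.basicOpen 𝒜 f).ι := by
    rw [Proj.awayι, ← Proj.basicOpenIsoSpec_hom 𝒜 f hf hd, Iso.hom_inv_id_assoc]
  have e0 : (Proj.basicOpenToSpec 𝒜 f).appTop =
      (Proj.basicOpenToSpec 𝒜 f).appLE ⊤ ⊤ le_top := by
    simp only [Scheme.Hom.appLE, Scheme.Hom.appTop]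
    erw [CategoryTheory.Functor.map_id, Category.comp_id]
  have h1 : (Proj.awayι 𝒜 f hf hd).appLE (Proj.basicOpen 𝒜 f) ⊤ (le_preimage 𝒜 f hf hd) ≫
      (Proj.basicOpenToSpec 𝒜 f).appTop =
      (Proj.basicOpen 𝒜 f).ι.appLE (Proj.basicOpen 𝒜 f) ⊤ (by simp) := by
    rw [e0]
    refine (Scheme.Hom.appLE_comp_appLE (Proj.basicOpenToSpec 𝒜 f) (Proj.awayι 𝒜 f hf hd)
      (Proj.basicOpen 𝒜 f) ⊤ ⊤ _ _).trans ?_
    simp only [hcomp]
  have h2 : IsIso (Proj.awayToSection 𝒜 f) := (Proj.basicOpenIsoAway 𝒜 f hf hd).isIso_hom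
  have h3 : (Proj.basicOpenToSpec 𝒜 f).appTop = _ := Proj.basicOpenToSpec_app_top 𝒜 f
  rw [h3, Scheme.Opens.ι_appLE] at h1
  have h4 : (Proj 𝒜).presheaf.map (homOfLE (x := (Proj.basicOpen 𝒜 f).ι ''ᵁ ⊤)
      (Set.image_subset_iff.mpr (by simp))).op = (Proj.basicOpen 𝒜 f).topIso.inv := by
    rw [Scheme.Opens.topIso_inv]
    rfl
  rw [h4] at h1
  have h5 : (Proj.awayToSection 𝒜 f ≫
      (Proj.awayι 𝒜 f hf hd).appLE (Proj.basicOpen 𝒜 f) ⊤ (le_preimage 𝒜 f hf hd) ≫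
      (Scheme.ΓSpecIso _).hom) ≫ (Proj.awayToSection 𝒜 f ≫ (Proj.basicOpen 𝒜 f).topIso.inv) =
      𝟙 _ ≫ (Proj.awayToSection 𝒜 f ≫ (Proj.basicOpen 𝒜 f).topIso.inv) := by
    simp only [Category.assoc, Category.id_comp]
    rw [h1]
  have h6 := (cancel_mono _).mp h5
  rw [← Category.assoc, ← Iso.eq_comp_inv, Category.id_comp] at h6
  exact h6

theorem image_le (V : (Spec (.of (Away 𝒜 f))).Opens) :
    (Proj.awayι 𝒜 f hf hd) ''ᵁ V ≤ Proj.basicOpen 𝒜 f := by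
  rw [← Proj.opensRange_awayι 𝒜 f hf hd]
  rintro _ ⟨x, _, rfl⟩
  exact ⟨x, rfl⟩

set_option backward.isDefEq.respectTransparency.types false in
/-- (★★) -/
theorem star2 (V : (Spec (.of (Away 𝒜 f))).Opens) :
    (Scheme.ΓSpecIso (.of (Away 𝒜 f))).inv ≫
      (Spec (.of (Away 𝒜 f))).presheaf.map V.leTop.op ≫
        ((Proj.awayι 𝒜 f hf hd).appIso V).inv =
    Proj.awayToSection 𝒜 f ≫
      (Proj 𝒜).presheaf.map (homOfLE (image_le 𝒜 f hf hd V)).op := by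
  rw [← Category.assoc, Iso.comp_inv_eq, Category.assoc, Scheme.Hom.appIso_hom',
    Scheme.Hom.map_appLE, ← star 𝒜 f hf hd, Category.assoc, Scheme.Hom.appLE_map]

theorem isLocalizationElem_eq {k : ℕ} {a : A} (ha : a ∈ 𝒜 (k • d))
    (hg : f * a ∈ 𝒜 (d + k • d)) :
    Away.isLocalizationElem hf hg = (Away.mk 𝒜 hf k a ha) ^ d := by
  apply HomogeneousLocalization.val_injective
  rw [HomogeneousLocalization.val_pow]
  simp only [Away.isLocalizationElem, Away.val_mk, Localization.mk_pow]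
  rw [Localization.mk_eq_mk_iff, Localization.r_iff_exists]
  refine ⟨1, ?_⟩
  simp only [OneMemClass.coe_one, one_mul, SubmonoidClass.coe_pow]
  rw [mul_pow, pow_add, smul_eq_mul, pow_mul]
  ring

theorem image_basicOpen {k : ℕ} {a : A} (ha : a ∈ 𝒜 (k • d)) :
    (Proj.awayι 𝒜 f hf hd) ''ᵁ (PrimeSpectrum.basicOpen (Away.mk 𝒜 hf k a ha)) =
      Proj.basicOpen 𝒜 (f * a) := by
  have hg : f * a ∈ 𝒜 (d + k • d) := SetLike.mul_mem_graded hf ha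
  have hgpos : 0 < d + k • d := Nat.add_pos_left hd _
  have h1 := Proj.awayι_preimage_basicOpen 𝒜 hf hd hg hgpos
  rw [isLocalizationElem_eq 𝒜 f hf ha hg, PrimeSpectrum.basicOpen_pow _ _ hd] at h1
  rw [← h1, Scheme.Hom.image_preimage_eq_opensRange_inf, Proj.opensRange_awayι,
    Proj.basicOpen_mul, ← inf_assoc, inf_idem]

end Star
section Generic

/-- the `R'`-action on sections of a module over `Spec R'` -/
noncomputable def act {R' : CommRingCat.{u}} (N : (Spec R').Modules) (V : (Spec R').Opens)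
    (r : R') (x : Γ(N, V)) : Γ(N, V) := r • x

theorem act_def {R' : CommRingCat.{u}} (N : (Spec R').Modules) (V : (Spec R').Opens)
    (r : R') (x : Γ(N, V)) : act N V r x = r • x := rfl

theorem act_restrict {X : Scheme.{u}} {R' : CommRingCat.{u}} (j : Spec R' ⟶ X) [IsOpenImmersion j]
    (F : X.Modules) (V : (Spec R').Opens) (r : R') (x : Γ(F.restrict j, V)) :
    act (F.restrict j) V r x = (show Γ(F, j ''ᵁ V) from
      ((j.appIso V).inv.hom (((Spec R').presheaf.map V.leTop.op).hom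
        ((Scheme.ΓSpecIso R').inv.hom r)) : Γ(X, j ''ᵁ V)) •
      (show Γ(F, j ''ᵁ V) from x)) := rfl

set_option backward.isDefEq.respectTransparency.types false in
theorem isIso_fromTildeΓ_of {R' : CommRingCat.{u}} (N : (Spec R').Modules)
    (hex : ∀ (g : R') (y : Γ(N, PrimeSpectrum.basicOpen g)), ∃ (k : ℕ) (t : Γ(N, ⊤)),
      act N (PrimeSpectrum.basicOpen g) (g ^ k) y =
        N.presheaf.map (PrimeSpectrum.basicOpen g).leTop.op t)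
    (huniq : ∀ (g : R') (t : Γ(N, ⊤)),
      N.presheaf.map (PrimeSpectrum.basicOpen g).leTop.op t = 0 →
        ∃ k : ℕ, act N ⊤ (g ^ k) t = 0) :
    IsIso N.fromTildeΓ := by
  rw [isIso_fromTildeΓ_iff_isLocalizing]
  intro g
  refine IsLocalizedModule.Away.mk_of_addCommGroup ?_ ?_ ?_
  · exact Scheme.Modules.isUnit_algebraMap_end_of_le_basicOpen g le_rfl
  · intro x
    obtain ⟨k, t, h⟩ := hex g x
    exact ⟨k, t, h⟩
  · intro t ht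
    obtain ⟨k, hk⟩ := huniq g t ht
    exact ⟨k, hk⟩

end Generic

section Mod
set_option synthInstance.maxHeartbeats 400000
variable {R A : Type u} [CommRing R] [CommRing A] [Algebra R A] (𝒜 : ℕ → Submodule R A)
  [GradedAlgebra 𝒜]
variable {M : Type u} [AddCommGroup M] [Module R M] [Module A M] [IsScalarTower R A M]
  (ℳ : ℕ → Submodule R M) [DirectSum.Decomposition ℳ] [SetLike.GradedSMul 𝒜 ℳ] (n : ℤ)
variable (f : A) {d : ℕ} (hf : f ∈ 𝒜 d) (hd : 0 < d)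

omit [IsScalarTower R A M] [DirectSum.Decomposition ℳ] in
theorem smul_eq (V : (Spec (.of (Away 𝒜 f))).Opens) (r : Away 𝒜 f)
    (x : Γ((GrTilde.tilde 𝒜 ℳ n).restrict (Proj.awayι 𝒜 f hf hd), V)) :
    act (R' := .of (Away 𝒜 f)) ((GrTilde.tilde 𝒜 ℳ n).restrict (Proj.awayι 𝒜 f hf hd)) V r x =
    (show Γ(GrTilde.tilde 𝒜 ℳ n, (Proj.awayι 𝒜 f hf hd) ''ᵁ V) from
      (((Proj 𝒜).presheaf.map (homOfLE (image_le 𝒜 f hf hd V)).op).hom
        ((Proj.awayToSection 𝒜 f).hom r) : Γ(Proj 𝒜, (Proj.awayι 𝒜 f hf hd) ''ᵁ V)) •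
      (show Γ(GrTilde.tilde 𝒜 ℳ n, (Proj.awayι 𝒜 f hf hd) ''ᵁ V) from x)) := by
  rw [act_restrict]
  have h := congrArg (fun φ => φ.hom r) (star2 𝒜 f hf hd V)
  simp only [CommRingCat.hom_comp, RingHom.coe_comp, Function.comp_apply] at h
  rw [← h]

omit [IsScalarTower R A M] [DirectSum.Decomposition ℳ] in
theorem sect_smul_val (W : Opens (ProjectiveSpectrum.top 𝒜)) (c : Twist.O (𝒜 := 𝒜) (op W))
    (x : GrTilde.sect 𝒜 ℳ n (op W)) (p : W) :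
    (((c • x : GrTilde.sect 𝒜 ℳ n (op W)).1 p : GrTilde.tildeAt 𝒜 ℳ n p.1) :
      GrTilde.LocMod 𝒜 (M := M) p.1) =
    (c.1 p).val • ((x.1 p : GrTilde.tildeAt 𝒜 ℳ n p.1) : GrTilde.LocMod 𝒜 (M := M) p.1) := by
  rw [Submodule.coe_smul, GrTilde.smul_apply]
  exact GrTilde.coe_smul_val n p.1 (c.1 p) (x.1 p)

/-- general fraction section -/
noncomputable def fracS (W : Opens (ProjectiveSpectrum.top 𝒜)) {i e : ℕ} (m : ℳ i) (s : 𝒜 e)
    (hdeg : (i : ℤ) = e + n) (hs : ∀ x : W, s.1 ∉ x.1.asHomogeneousIdeal) :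
    GrTilde.sect 𝒜 ℳ n (op W) :=
  have hmem : ∀ (y : ProjectiveSpectrum 𝒜) (hy : s.1 ∉ y.asHomogeneousIdeal),
      (LocalizedModule.mk m.1 ⟨s.1, hy⟩ : GrTilde.LocMod 𝒜 (M := M) y) ∈
        GrTilde.tildeAt 𝒜 ℳ n y := fun y hy =>
    Submodule.subset_span ⟨i, e, m, s, hy, hdeg, rfl⟩
  ⟨fun y => ⟨LocalizedModule.mk m.1 ⟨s.1, hs y⟩, hmem y.1 (hs y)⟩,
    fun y => ⟨W, y.2, 𝟙 _, i, e, m, s, hs, Or.inl hdeg, fun _ => rfl⟩⟩

omit [IsScalarTower R A M] [DirectSum.Decomposition ℳ] in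
theorem fracS_val (W : Opens (ProjectiveSpectrum.top 𝒜)) {i e : ℕ} (m : ℳ i) (s : 𝒜 e)
    (hdeg : (i : ℤ) = e + n) (hs : ∀ x : W, s.1 ∉ x.1.asHomogeneousIdeal) (y : W) :
    (((fracS 𝒜 ℳ n W m s hdeg hs).1 y : GrTilde.tildeAt 𝒜 ℳ n y.1) :
      GrTilde.LocMod 𝒜 (M := M) y.1) = LocalizedModule.mk m.1 ⟨s.1, hs y⟩ := rfl

theorem main' (W : Opens (ProjectiveSpectrum.top 𝒜)) {e : ℕ} (he : 0 < e) {g : A} (hg : g ∈ 𝒜 e)
    (hW : W = (ProjectiveSpectrum.basicOpen 𝒜 g : Opens (ProjectiveSpectrum.top 𝒜)))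
    (s : GrTilde.sect 𝒜 ℳ n (op W)) :
    ∃ (k i : ℕ) (m : ℳ i), (i : ℤ) = k * e + n ∧
      ∀ (x : ProjectiveSpectrum 𝒜) (hx : x ∈ W) (hgx : g ∉ x.asHomogeneousIdeal),
        ((s.1 ⟨x, hx⟩ : GrTilde.tildeAt 𝒜 ℳ n x) : GrTilde.LocMod 𝒜 (M := M) x) =
          (LocalizedModule.mk m.1 ⟨g ^ k, fun h => hgx (x.isPrime.mem_of_pow_mem k h)⟩ :
            GrTilde.LocMod 𝒜 (M := M) x) := by
  subst hW
  obtain ⟨k, i, m, hi, h⟩ := Groth.Agent.Helper1.GrSect.main 𝒜 ℳ n he hg s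
  exact ⟨k, i, m, hi, fun x hx hgx => h ⟨x, hx⟩⟩

theorem vanish' (W : Opens (ProjectiveSpectrum.top 𝒜)) {e : ℕ} (he : 0 < e) {g : A} (hg : g ∈ 𝒜 e)
    (hW : W = (ProjectiveSpectrum.basicOpen 𝒜 g : Opens (ProjectiveSpectrum.top 𝒜)))
    (k i : ℕ) (m : ℳ i)
    (h : ∀ (x : ProjectiveSpectrum 𝒜) (_ : x ∈ W) (hgx : g ∉ x.asHomogeneousIdeal),
      (LocalizedModule.mk m.1 ⟨g ^ k, fun h => hgx (x.isPrime.mem_of_pow_mem k h)⟩ :
        GrTilde.LocMod 𝒜 (M := M) x) = 0) :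
    ∃ N : ℕ, g ^ N • m.1 = 0 := by
  subst hW
  exact Groth.Agent.Helper1.GrTildeLib.S3587 𝒜 ℳ he hg k i m
    (fun x => h x.1 x.2 ((ProjectiveSpectrum.mem_basicOpen 𝒜 g x.1).mp x.2))

set_option maxHeartbeats 800000 in
omit [IsScalarTower R A M] [DirectSum.Decomposition ℳ] in
theorem act_val (V : (Spec (.of (Away 𝒜 f))).Opens) (r : Away 𝒜 f)
    (x : Γ((GrTilde.tilde 𝒜 ℳ n).restrict (Proj.awayι 𝒜 f hf hd), V))
    (p : ProjectiveSpectrum 𝒜) (hp : p ∈ (Proj.awayι 𝒜 f hf hd) ''ᵁ V)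
    (hfp : f ∉ p.asHomogeneousIdeal) :
    ((((show GrTilde.sect 𝒜 ℳ n (op ((Proj.awayι 𝒜 f hf hd) ''ᵁ V)) from
      act (R' := .of (Away 𝒜 f)) ((GrTilde.tilde 𝒜 ℳ n).restrict (Proj.awayι 𝒜 f hf hd)) V r x)).1
        ⟨p, hp⟩ : GrTilde.tildeAt 𝒜 ℳ n p) : GrTilde.LocMod 𝒜 (M := M) p) =
    (HomogeneousLocalization.mapId 𝒜 (show Submonoid.powers f ≤
      p.asHomogeneousIdeal.toIdeal.primeCompl from Submonoid.powers_le.mpr hfp) r).val •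
      ((((show GrTilde.sect 𝒜 ℳ n (op ((Proj.awayι 𝒜 f hf hd) ''ᵁ V)) from x)).1
        ⟨p, hp⟩ : GrTilde.tildeAt 𝒜 ℳ n p) : GrTilde.LocMod 𝒜 (M := M) p) := by
  have h1 := smul_eq 𝒜 ℳ n f hf hd V r x
  have h2 := sect_smul_val 𝒜 ℳ n ((Proj.awayι 𝒜 f hf hd) ''ᵁ V)
    (show Twist.O (𝒜 := 𝒜) (op ((Proj.awayι 𝒜 f hf hd) ''ᵁ V)) from
      (((Proj 𝒜).presheaf.map (homOfLE (image_le 𝒜 f hf hd V)).op).hom
        ((Proj.awayToSection 𝒜 f).hom r)))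
    (show GrTilde.sect 𝒜 ℳ n (op ((Proj.awayι 𝒜 f hf hd) ''ᵁ V)) from x) ⟨p, hp⟩
  rw [h1]
  exact h2

omit [Module R M] [IsScalarTower R A M] [DirectSum.Decomposition ℳ] in
theorem mk_smul_mk' (x : ProjectiveSpectrum 𝒜) (a : A) (s t : x.asHomogeneousIdeal.toIdeal.primeCompl)
    (m : M) :
    (Localization.mk a s : Localization x.asHomogeneousIdeal.toIdeal.primeCompl) •
      (LocalizedModule.mk m t : GrTilde.LocMod 𝒜 (M := M) x) =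
    (LocalizedModule.mk (a • m) (s * t) : GrTilde.LocMod 𝒜 (M := M) x) :=
  LocalizedModule.mk_smul_mk a m s t

theorem mapId_pow_val (p : ProjectiveSpectrum 𝒜) (hfp : f ∉ p.asHomogeneousIdeal)
    {k : ℕ} {a : A} (ha : a ∈ 𝒜 (k • d)) (K : ℕ) :
    (HomogeneousLocalization.mapId 𝒜 (show Submonoid.powers f ≤
      p.asHomogeneousIdeal.toIdeal.primeCompl from Submonoid.powers_le.mpr hfp)
        ((Away.mk 𝒜 hf k a ha) ^ K)).val =
    Localization.mk (a ^ K) (⟨(f ^ k) ^ K, fun h => hfp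
      (p.isPrime.mem_of_pow_mem k (p.isPrime.mem_of_pow_mem K h))⟩ :
        p.asHomogeneousIdeal.toIdeal.primeCompl) := by
  rw [map_pow, HomogeneousLocalization.val_pow]
  have : (HomogeneousLocalization.mapId 𝒜 (show Submonoid.powers f ≤
      p.asHomogeneousIdeal.toIdeal.primeCompl from Submonoid.powers_le.mpr hfp)
        (Away.mk 𝒜 hf k a ha)).val =
      Localization.mk a (⟨f ^ k, fun h => hfp (p.isPrime.mem_of_pow_mem k h)⟩ :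
        p.asHomogeneousIdeal.toIdeal.primeCompl) := rfl
  rw [this, Localization.mk_pow]
  rfl

set_option maxHeartbeats 1600000 in
theorem existence (g : (CommRingCat.of (Away 𝒜 f)))
    (y : Γ((GrTilde.tilde 𝒜 ℳ n).restrict (Proj.awayι 𝒜 f hf hd), PrimeSpectrum.basicOpen g)) :
    ∃ (K : ℕ) (t : Γ((GrTilde.tilde 𝒜 ℳ n).restrict (Proj.awayι 𝒜 f hf hd), ⊤)),
      act ((GrTilde.tilde 𝒜 ℳ n).restrict (Proj.awayι 𝒜 f hf hd)) (PrimeSpectrum.basicOpen g)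
        (g ^ K) y =
      ((GrTilde.tilde 𝒜 ℳ n).restrict (Proj.awayι 𝒜 f hf hd)).presheaf.map
        (PrimeSpectrum.basicOpen g).leTop.op t := by
  obtain ⟨k, a, ha, rfl⟩ := Away.mk_surjective 𝒜 hf g
  have hW := image_basicOpen 𝒜 f hf hd ha
  have hg : f * a ∈ 𝒜 (d + k • d) := SetLike.mul_mem_graded hf ha
  have hgpos : 0 < d + k • d := Nat.add_pos_left hd _
  obtain ⟨K, i, m, hi, hval⟩ := main' 𝒜 ℳ n
    ((Proj.awayι 𝒜 f hf hd) ''ᵁ (PrimeSpectrum.basicOpen (Away.mk 𝒜 hf k a ha))) hgpos hg hW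
    (show GrTilde.sect 𝒜 ℳ n (op ((Proj.awayι 𝒜 f hf hd) ''ᵁ
      (PrimeSpectrum.basicOpen (Away.mk 𝒜 hf k a ha)))) from y)
  have hfN : f ^ (K * (k + 1)) ∈ 𝒜 ((K * (k + 1)) • d) := SetLike.pow_mem_graded _ hf
  have hdeg : (i : ℤ) = ((K * (k + 1)) • d : ℕ) + n := by
    rw [hi]
    simp only [smul_eq_mul]
    push_cast
    ring
  have hs : ∀ x : ((Proj.awayι 𝒜 f hf hd) ''ᵁ ⊤ : (Proj 𝒜).Opens),
      f ^ (K * (k + 1)) ∉ x.1.asHomogeneousIdeal := fun x h =>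
    (image_le 𝒜 f hf hd ⊤ x.2) (x.1.isPrime.mem_of_pow_mem _ h)
  let t := fracS 𝒜 ℳ n ((Proj.awayι 𝒜 f hf hd) ''ᵁ ⊤) m ⟨f ^ (K * (k + 1)), hfN⟩ hdeg hs
  refine ⟨K, t, ?_⟩
  have key : ∀ (p : ProjectiveSpectrum 𝒜) (hp : p ∈ (Proj.awayι 𝒜 f hf hd) ''ᵁ
      (PrimeSpectrum.basicOpen (Away.mk 𝒜 hf k a ha))),
      ((((show GrTilde.sect 𝒜 ℳ n (op ((Proj.awayι 𝒜 f hf hd) ''ᵁ
        (PrimeSpectrum.basicOpen (Away.mk 𝒜 hf k a ha)))) from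
        act (R' := .of (Away 𝒜 f)) ((GrTilde.tilde 𝒜 ℳ n).restrict (Proj.awayι 𝒜 f hf hd))
          (PrimeSpectrum.basicOpen (Away.mk 𝒜 hf k a ha)) ((Away.mk 𝒜 hf k a ha) ^ K) y)).1
        ⟨p, hp⟩ : GrTilde.tildeAt 𝒜 ℳ n p) : GrTilde.LocMod 𝒜 (M := M) p) =
      ((((show GrTilde.sect 𝒜 ℳ n (op ((Proj.awayι 𝒜 f hf hd) ''ᵁ
        (PrimeSpectrum.basicOpen (Away.mk 𝒜 hf k a ha)))) from
        ((GrTilde.tilde 𝒜 ℳ n).restrict (Proj.awayι 𝒜 f hf hd)).presheaf.map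
          (PrimeSpectrum.basicOpen (Away.mk 𝒜 hf k a ha)).leTop.op t)).1
        ⟨p, hp⟩ : GrTilde.tildeAt 𝒜 ℳ n p) : GrTilde.LocMod 𝒜 (M := M) p) := by
    intro p hp
    have hfa : f * a ∉ p.asHomogeneousIdeal := by
      have hp' := hp
      rw [hW] at hp'
      exact (Proj.mem_basicOpen 𝒜 (f * a) p).mp hp'
    have hfp : f ∉ p.asHomogeneousIdeal := fun h => hfa (Ideal.mul_mem_right _ _ h)
    refine (act_val 𝒜 ℳ n f hf hd _ ((Away.mk 𝒜 hf k a ha) ^ K) y p hp hfp).trans ?_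
    rw [mapId_pow_val 𝒜 f hf p hfp ha K]
    refine (congrArg _ (hval p hp hfa)).trans ?_
    rw [mk_smul_mk']
    refine Eq.trans ?_ (fracS_val 𝒜 ℳ n ((Proj.awayι 𝒜 f hf hd) ''ᵁ ⊤) m
      ⟨f ^ (K * (k + 1)), hfN⟩ hdeg hs ⟨p, ?_⟩).symm
    · rw [LocalizedModule.mk_eq]
      refine ⟨1, ?_⟩
      simp only [one_smul, Submonoid.smul_def, Submonoid.coe_mul, smul_smul]
      congr 1
      rw [mul_pow]
      ring
    · exact (Scheme.Hom.image_mono _ le_top) hp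
  apply Subtype.ext
  funext p
  apply Subtype.ext
  exact key p.1 p.2

omit [Module R M] [IsScalarTower R A M] [DirectSum.Decomposition ℳ] in
theorem mk_eq_zero_iff' (x : ProjectiveSpectrum 𝒜) (m : M)
    (s : x.asHomogeneousIdeal.toIdeal.primeCompl) :
    (LocalizedModule.mk m s : GrTilde.LocMod 𝒜 (M := M) x) = 0 ↔
      ∃ u : x.asHomogeneousIdeal.toIdeal.primeCompl, u • m = 0 := by
  rw [← LocalizedModule.zero_mk (1 : x.asHomogeneousIdeal.toIdeal.primeCompl),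
    LocalizedModule.mk_eq]
  constructor
  · rintro ⟨u, hu⟩
    rw [smul_zero, smul_zero, one_smul] at hu
    exact ⟨u, hu⟩
  · rintro ⟨u, hu⟩
    refine ⟨u, ?_⟩
    rw [smul_zero, smul_zero, one_smul]
    exact hu

set_option maxHeartbeats 1600000 in
theorem uniqueness (g : (CommRingCat.of (Away 𝒜 f)))
    (t : Γ((GrTilde.tilde 𝒜 ℳ n).restrict (Proj.awayι 𝒜 f hf hd), ⊤))
    (h0 : ((GrTilde.tilde 𝒜 ℳ n).restrict (Proj.awayι 𝒜 f hf hd)).presheaf.map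
        (PrimeSpectrum.basicOpen g).leTop.op t = 0) :
    ∃ K : ℕ, act ((GrTilde.tilde 𝒜 ℳ n).restrict (Proj.awayι 𝒜 f hf hd)) ⊤ (g ^ K) t = 0 := by
  obtain ⟨k, a, ha, rfl⟩ := Away.mk_surjective 𝒜 hf g
  have hW := image_basicOpen 𝒜 f hf hd ha
  have hg : f * a ∈ 𝒜 (d + k • d) := SetLike.mul_mem_graded hf ha
  have hgpos : 0 < d + k • d := Nat.add_pos_left hd _
  have hTop : (Proj.awayι 𝒜 f hf hd) ''ᵁ ⊤ = Proj.basicOpen 𝒜 f :=
    (Scheme.Hom.image_top_eq_opensRange _).trans (Proj.opensRange_awayι 𝒜 f hf hd)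
  obtain ⟨K₀, i, m, hi, hval⟩ := main' 𝒜 ℳ n ((Proj.awayι 𝒜 f hf hd) ''ᵁ ⊤) hd hf hTop
    (show GrTilde.sect 𝒜 ℳ n (op ((Proj.awayι 𝒜 f hf hd) ''ᵁ ⊤)) from t)
  obtain ⟨N₀, hN₀⟩ := vanish' 𝒜 ℳ
    ((Proj.awayι 𝒜 f hf hd) ''ᵁ (PrimeSpectrum.basicOpen (Away.mk 𝒜 hf k a ha))) hgpos hg hW K₀ i m
    (by
      intro x hx hgx
      have hfx : f ∉ x.asHomogeneousIdeal := fun h => hgx (Ideal.mul_mem_right _ _ h)
      have hx' : x ∈ (Proj.awayι 𝒜 f hf hd) ''ᵁ ⊤ := (Scheme.Hom.image_mono _ le_top) hx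
      have h1 := hval x hx' hfx
      have h2 : ((((show GrTilde.sect 𝒜 ℳ n (op ((Proj.awayι 𝒜 f hf hd) ''ᵁ ⊤)) from t)).1
          ⟨x, hx'⟩ : GrTilde.tildeAt 𝒜 ℳ n x) : GrTilde.LocMod 𝒜 (M := M) x) = 0 := by
        have h3 := congrArg (fun s : GrTilde.sect 𝒜 ℳ n (op ((Proj.awayι 𝒜 f hf hd) ''ᵁ
          (PrimeSpectrum.basicOpen (Away.mk 𝒜 hf k a ha)))) =>
            ((s.1 ⟨x, hx⟩ : GrTilde.tildeAt 𝒜 ℳ n x) : GrTilde.LocMod 𝒜 (M := M) x)) h0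
        exact h3
      rw [h1, mk_eq_zero_iff'] at h2
      exact (mk_eq_zero_iff' 𝒜 x m.1 _).mpr h2)
  refine ⟨N₀, ?_⟩
  have key : ∀ (p : ProjectiveSpectrum 𝒜) (hp : p ∈ (Proj.awayι 𝒜 f hf hd) ''ᵁ ⊤),
      ((((show GrTilde.sect 𝒜 ℳ n (op ((Proj.awayι 𝒜 f hf hd) ''ᵁ ⊤)) from
        act (R' := .of (Away 𝒜 f)) ((GrTilde.tilde 𝒜 ℳ n).restrict (Proj.awayι 𝒜 f hf hd))
          ⊤ ((Away.mk 𝒜 hf k a ha) ^ N₀) t)).1
        ⟨p, hp⟩ : GrTilde.tildeAt 𝒜 ℳ n p) : GrTilde.LocMod 𝒜 (M := M) p) = 0 := by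
    intro p hp
    have hfp : f ∉ p.asHomogeneousIdeal := image_le 𝒜 f hf hd ⊤ hp
    refine (act_val 𝒜 ℳ n f hf hd _ ((Away.mk 𝒜 hf k a ha) ^ N₀) t p hp hfp).trans ?_
    rw [mapId_pow_val 𝒜 f hf p hfp ha N₀]
    refine (congrArg _ (hval p hp hfp)).trans ?_
    rw [mk_smul_mk', mk_eq_zero_iff']
    refine ⟨⟨f ^ N₀, fun h => hfp (p.isPrime.mem_of_pow_mem _ h)⟩, ?_⟩
    show f ^ N₀ • a ^ N₀ • m.1 = 0
    rw [smul_smul, ← mul_pow]
    exact hN₀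
  apply Subtype.ext
  funext p
  apply Subtype.ext
  exact key p.1 p.2

theorem isIso_fromTildeΓ_restrict :
    IsIso (Scheme.Modules.fromTildeΓ (R := CommRingCat.of (Away 𝒜 f))
      ((GrTilde.tilde 𝒜 ℳ n).restrict (Proj.awayι 𝒜 f hf hd))) :=
  isIso_fromTildeΓ_of (R' := CommRingCat.of (Away 𝒜 f)) _
    (existence 𝒜 ℳ n f hf hd) (uniqueness 𝒜 ℳ n f hf hd)

/-- **S3545**: `M(n)~` is quasi-coherent. -/
theorem tilde_isQuasicoherent : (GrTilde.tilde 𝒜 ℳ n).IsQuasicoherent := by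
  let I : Type u := (d : ℕ) × {f : A // 0 < d ∧ f ∈ 𝒜 d}
  refine Groth.Agent.Helper1.QCohLib.isQuasicoherent_of_affine_charts (GrTilde.tilde 𝒜 ℳ n)
    (I := I) (fun i => CommRingCat.of (Away 𝒜 i.2.1))
    (fun i => Proj.awayι 𝒜 i.2.1 i.2.2.2 i.2.2.1) ?_ ?_
  · rw [eq_top_iff]
    intro x _
    obtain ⟨i, hi, g, hg, hgx⟩ := Groth.Agent.Helper1.ProjTop.exists_homogeneous_notMem 𝒜 x
    rw [Opens.mem_iSup]
    refine ⟨⟨i, g, hi, hg⟩, ?_⟩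
    rw [Proj.opensRange_awayι]
    exact (Proj.mem_basicOpen 𝒜 g x).mpr hgx
  · intro i
    exact isIso_fromTildeΓ_restrict 𝒜 ℳ n i.2.1 i.2.2.2 i.2.2.1

end Mod



end Groth.Agent.Helper1.TildeQC
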