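import Mathlib
import Groth.Prelude.Def_GrMod2
import Groth.Agent.Lib.Helper1.TildeQC

universe u
open AlgebraicGeometry CategoryTheory Limits TopologicalSpace HomogeneousLocalization Opposite

namespace Groth.Agent.Helper1.PF1

variable {R A : Type u} [CommRing R] [CommRing A] [Algebra R A] (𝒜 : ℕ → Submodule R A)
  [GradedAlgebra 𝒜]

/-- the ring map `A_(h) → Γ(X, W)` for `W ≤ D₊(h)` -/
noncomputable def ρ (h : A) {W : (Proj 𝒜).Opens} (hW : W ≤ Proj.basicOpen 𝒜 h) :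
    Away 𝒜 h →+* Γ(Proj 𝒜, W) :=
  ((Proj 𝒜).presheaf.map (homOfLE hW).op).hom.comp (Proj.awayToSection 𝒜 h).hom

theorem ρ_res (h : A) {W W' : (Proj 𝒜).Opens} (hW : W ≤ Proj.basicOpen 𝒜 h) (hWW' : W' ≤ W)
    (r : Away 𝒜 h) :
    ((Proj 𝒜).presheaf.map (homOfLE hWW').op).hom (ρ 𝒜 h hW r) = ρ 𝒜 h (hWW'.trans hW) r := by
  simp only [ρ, RingHom.coe_comp, Function.comp_apply]
  rw [← CommRingCat.comp_apply, ← Functor.map_comp]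
  rfl

theorem ρ_awayMap {h h' x : A} {m' : ℕ} (hh' : h' ∈ 𝒜 m') (hx : x = h * h')
    {W : (Proj 𝒜).Opens} (hW : W ≤ Proj.basicOpen 𝒜 x) (r : Away 𝒜 h) :
    ρ 𝒜 x hW (awayMap 𝒜 hh' hx r) =
      ρ 𝒜 h (hW.trans (Proj.basicOpen_mono _ _ _ ⟨_, hx⟩)) r := by
  have h1 := congrArg (fun φ => φ.hom r) (Proj.awayMap_awayToSection 𝒜 (f := h) hh' hx)
  simp only [CommRingCat.hom_comp, RingHom.coe_comp, Function.comp_apply,
    CommRingCat.hom_ofHom] at h1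
  simp only [ρ, RingHom.coe_comp, Function.comp_apply]
  rw [h1, ← CommRingCat.comp_apply, ← Functor.map_comp]
  rfl


/-- evaluation of a section of the structure sheaf at a point, in the localization at the point -/
noncomputable def ev {W : (Proj 𝒜).Opens} (s : Γ(Proj 𝒜, W)) (x : ProjectiveSpectrum 𝒜)
    (hx : x ∈ W) : Twist.Loc 𝒜 x :=
  ((show Twist.O (𝒜 := 𝒜) (op W) from s).1 ⟨x, hx⟩).val

theorem ev_ext {W : (Proj 𝒜).Opens} {s s' : Γ(Proj 𝒜, W)}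
    (h : ∀ x hx, ev 𝒜 s x hx = ev 𝒜 s' x hx) : s = s' := by
  apply Subtype.ext
  funext p
  exact HomogeneousLocalization.val_injective _ (h p.1 p.2)

theorem ev_mul {W : (Proj 𝒜).Opens} (s s' : Γ(Proj 𝒜, W)) (x hx) :
    ev 𝒜 (s * s') x hx = ev 𝒜 s x hx * ev 𝒜 s' x hx :=
  HomogeneousLocalization.val_mul _ _

theorem ev_add {W : (Proj 𝒜).Opens} (s s' : Γ(Proj 𝒜, W)) (x hx) :
    ev 𝒜 (s + s') x hx = ev 𝒜 s x hx + ev 𝒜 s' x hx :=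
  HomogeneousLocalization.val_add _ _

theorem ev_one {W : (Proj 𝒜).Opens} (x hx) :
    ev 𝒜 (1 : Γ(Proj 𝒜, W)) x hx = 1 :=
  HomogeneousLocalization.val_one

theorem ev_res {W W' : (Proj 𝒜).Opens} (hWW' : W' ≤ W) (s : Γ(Proj 𝒜, W)) (x hx) :
    ev 𝒜 (((Proj 𝒜).presheaf.map (homOfLE hWW').op).hom s) x hx = ev 𝒜 s x (hWW' hx) := rfl

theorem ev_ρ (h : A) {W : (Proj 𝒜).Opens} (hW : W ≤ Proj.basicOpen 𝒜 h) (r : Away 𝒜 h) (x hx) :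
    ev 𝒜 (ρ 𝒜 h hW r) x hx =
      (HomogeneousLocalization.mapId 𝒜 (show Submonoid.powers h ≤
        x.asHomogeneousIdeal.toIdeal.primeCompl from
          Submonoid.powers_le.mpr ((Proj.mem_basicOpen 𝒜 h x).1 (hW hx))) r).val := rfl


theorem ev_pow {W : (Proj 𝒜).Opens} (s : Γ(Proj 𝒜, W)) (n : ℕ) (x hx) :
    ev 𝒜 (s ^ n) x hx = ev 𝒜 s x hx ^ n :=
  HomogeneousLocalization.val_pow _ _

theorem ev_ρ_mk {h : A} {d : ℕ} (hh : h ∈ 𝒜 d) {W : (Proj 𝒜).Opens}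
    (hW : W ≤ Proj.basicOpen 𝒜 h) (k : ℕ) (a : A) (ha : a ∈ 𝒜 (k • d)) (x hx) :
    ev 𝒜 (ρ 𝒜 h hW (Away.mk 𝒜 hh k a ha)) x hx =
      Localization.mk a (⟨h ^ k, fun hm => (Proj.mem_basicOpen 𝒜 h x).1 (hW hx)
        (x.isPrime.mem_of_pow_mem k hm)⟩ : x.asHomogeneousIdeal.toIdeal.primeCompl) := rfl

theorem isUnit_ρ_mk {f : A} {d : ℕ} (hf : f ∈ 𝒜 d) (k : ℕ) (a : A) (ha : a ∈ 𝒜 (k • d))
    {W : (Proj 𝒜).Opens} (hW : W ≤ Proj.basicOpen 𝒜 (f * a)) :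
    IsUnit (ρ 𝒜 f (hW.trans (Proj.basicOpen_mono 𝒜 _ _ ⟨a, rfl⟩)) (Away.mk 𝒜 hf k a ha)) := by
  have hfa : f * a ∈ 𝒜 (d + k • d) := SetLike.mul_mem_graded hf ha
  have hnum : f ^ (k + 1) ∈ 𝒜 (1 • (d + k • d)) := by
    have := SetLike.pow_mem_graded (k + 1) hf
    have e : (k + 1) • d = 1 • (d + k • d) := by simp [add_mul, add_comm]
    rwa [e] at this
  refine isUnit_iff_exists_inv.2 ⟨ρ 𝒜 (f * a) hW (Away.mk 𝒜 hfa 1 (f ^ (k + 1)) hnum), ?_⟩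
  apply ev_ext
  intro x hx
  rw [ev_mul, ev_ρ_mk, ev_ρ_mk, ev_one, Localization.mk_mul]
  convert Localization.mk_self _ using 2
  simp only [Submonoid.coe_mul, pow_one]
  ring

section Chart
open Groth.Agent.Helper1.TildeQC
variable (F : (Proj 𝒜).Modules) (f : A) {d : ℕ} (hf : f ∈ 𝒜 d) (hd : 0 < d)

theorem smul_eq (V : (Spec (.of (Away 𝒜 f))).Opens) (r : Away 𝒜 f)
    (x : Γ(F.restrict (Proj.awayι 𝒜 f hf hd), V)) :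
    act (R' := .of (Away 𝒜 f)) (F.restrict (Proj.awayι 𝒜 f hf hd)) V r x =
    (show Γ(F, (Proj.awayι 𝒜 f hf hd) ''ᵁ V) from
      (ρ 𝒜 f (image_le 𝒜 f hf hd V) r) •
      (show Γ(F, (Proj.awayι 𝒜 f hf hd) ''ᵁ V) from x)) := by
  rw [act_restrict]
  have h := congrArg (fun φ => φ.hom r) (star2 𝒜 f hf hd V)
  simp only [CommRingCat.hom_comp, RingHom.coe_comp, Function.comp_apply] at h
  rw [h]
  rfl

theorem isLocalizing_restrict (hF : SheafOfModules.IsQuasicoherent.{u, u, u} F) :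
    IsLocalizing (modulesSpecToSheaf.obj (F.restrict (Proj.awayι 𝒜 f hf hd))) := by
  have : SheafOfModules.IsQuasicoherent.{u, u, u} (F.restrict (Proj.awayι 𝒜 f hf hd)) :=
    Scheme.Modules.isQuasicoherent_restrictFunctor _ F
  exact (isIso_fromTildeΓ_iff_isLocalizing _).1 ((isQuasicoherent_iff_isIso_fromTildeΓ _).1 this)

theorem hex_chart (hF : SheafOfModules.IsQuasicoherent.{u, u, u} F) (g : Away 𝒜 f)
    (y : Γ(F.restrict (Proj.awayι 𝒜 f hf hd), PrimeSpectrum.basicOpen g)) :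
    ∃ (k : ℕ) (t : Γ(F.restrict (Proj.awayι 𝒜 f hf hd), ⊤)),
      act (R' := .of (Away 𝒜 f)) (F.restrict (Proj.awayι 𝒜 f hf hd))
        (PrimeSpectrum.basicOpen g) (g ^ k) y =
        (F.restrict (Proj.awayι 𝒜 f hf hd)).presheaf.map (PrimeSpectrum.basicOpen g).leTop.op t := by
  have h := isLocalizing_restrict 𝒜 F f hf hd hF g
  obtain ⟨⟨t, ⟨_, k, rfl⟩⟩, ht⟩ := h.surj y
  exact ⟨k, t, ht⟩

theorem huniq_chart (hF : SheafOfModules.IsQuasicoherent.{u, u, u} F) (g : Away 𝒜 f)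
    (t : Γ(F.restrict (Proj.awayι 𝒜 f hf hd), ⊤))
    (ht : (F.restrict (Proj.awayι 𝒜 f hf hd)).presheaf.map (PrimeSpectrum.basicOpen g).leTop.op t = 0) :
    ∃ k : ℕ, act (R' := .of (Away 𝒜 f)) (F.restrict (Proj.awayι 𝒜 f hf hd)) ⊤ (g ^ k) t = 0 := by
  have h := isLocalizing_restrict 𝒜 F f hf hd hF g
  obtain ⟨⟨_, k, rfl⟩, hk⟩ := h.exists_of_eq (x₁ := t) (x₂ := 0) (by rw [map_zero]; exact ht)
  refine ⟨k, ?_⟩
  rw [smul_zero] at hk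
  exact hk

theorem hex_aux (hF : SheafOfModules.IsQuasicoherent.{u, u, u} F) (g : Away 𝒜 f)
    (W₀ W : (Proj 𝒜).Opens) (e₀ : (Proj.awayι 𝒜 f hf hd) ''ᵁ ⊤ = W₀)
    (e : (Proj.awayι 𝒜 f hf hd) ''ᵁ (PrimeSpectrum.basicOpen g) = W)
    (hle : W ≤ W₀) (hW : W ≤ Proj.basicOpen 𝒜 f) (y : Γ(F, W)) :
    ∃ (N : ℕ) (t : Γ(F, W₀)),
      ρ 𝒜 f hW (g ^ N) • y = F.presheaf.map (homOfLE hle).op t := by
  subst e₀ e
  obtain ⟨k, t, ht⟩ := hex_chart 𝒜 F f hf hd hF g y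
  refine ⟨k, t, ?_⟩
  exact (smul_eq 𝒜 F f hf hd (PrimeSpectrum.basicOpen g) (g ^ k) y).symm.trans ht

theorem huniq_aux (hF : SheafOfModules.IsQuasicoherent.{u, u, u} F) (g : Away 𝒜 f)
    (W₀ W : (Proj 𝒜).Opens) (e₀ : (Proj.awayι 𝒜 f hf hd) ''ᵁ ⊤ = W₀)
    (e : (Proj.awayι 𝒜 f hf hd) ''ᵁ (PrimeSpectrum.basicOpen g) = W)
    (hle : W ≤ W₀) (hW₀ : W₀ ≤ Proj.basicOpen 𝒜 f) (t : Γ(F, W₀))
    (ht : F.presheaf.map (homOfLE hle).op t = 0) :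
    ∃ N : ℕ, ρ 𝒜 f hW₀ (g ^ N) • t = 0 := by
  subst e₀ e
  obtain ⟨k, hk⟩ := huniq_chart 𝒜 F f hf hd hF g t ht
  refine ⟨k, ?_⟩
  exact (smul_eq 𝒜 F f hf hd ⊤ (g ^ k) t).symm.trans hk

theorem image_top : (Proj.awayι 𝒜 f hf hd) ''ᵁ ⊤ = Proj.basicOpen 𝒜 f := by
  rw [Scheme.Hom.image_top_eq_opensRange, Proj.opensRange_awayι]

include hd in
theorem hex (hF : SheafOfModules.IsQuasicoherent.{u, u, u} F) (k : ℕ) (a : A)
    (ha : a ∈ 𝒜 (k • d)) (y : Γ(F, Proj.basicOpen 𝒜 (f * a))) :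
    ∃ (N : ℕ) (t : Γ(F, Proj.basicOpen 𝒜 f)),
      ρ 𝒜 f (Proj.basicOpen_mono 𝒜 _ _ ⟨a, rfl⟩) ((Away.mk 𝒜 hf k a ha) ^ N) • y =
        F.presheaf.map (homOfLE (Proj.basicOpen_mono 𝒜 _ _ ⟨a, rfl⟩)).op t :=
  hex_aux 𝒜 F f hf hd hF (Away.mk 𝒜 hf k a ha) _ _ (image_top 𝒜 f hf hd)
    (image_basicOpen 𝒜 f hf hd ha) _ _ y

include hd in
theorem huniq (hF : SheafOfModules.IsQuasicoherent.{u, u, u} F) (k : ℕ) (a : A)
    (ha : a ∈ 𝒜 (k • d)) (t : Γ(F, Proj.basicOpen 𝒜 f))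
    (ht : F.presheaf.map (homOfLE (Proj.basicOpen_mono 𝒜 _ _ ⟨a, rfl⟩ :
      Proj.basicOpen 𝒜 (f * a) ≤ Proj.basicOpen 𝒜 f)).op t = 0) :
    ∃ N : ℕ, ρ 𝒜 f le_rfl ((Away.mk 𝒜 hf k a ha) ^ N) • t = 0 :=
  huniq_aux 𝒜 F f hf hd hF (Away.mk 𝒜 hf k a ha) _ _ (image_top 𝒜 f hf hd)
    (image_basicOpen 𝒜 f hf hd ha) _ _ t ht

end Chart

end Groth.Agent.Helper1.PF1
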