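import Mathlib
import Groth.Prelude.Def_GrMod2
import Groth.Agent.Lib.Helper1.PF1

universe u
open AlgebraicGeometry CategoryTheory Limits TopologicalSpace HomogeneousLocalization Opposite
open DirectSum

namespace Groth.Agent.Helper1.PF2
open Groth.Agent.Helper1.PF1

variable {R A : Type u} [CommRing R] [CommRing A] [Algebra R A] (𝒜 : ℕ → Submodule R A)
  [GradedAlgebra 𝒜]

section Deg1
variable {g : A} (hg : g ∈ 𝒜 1)

/-- `a / g^e` in `A_(g)` for `g` of degree one -/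
noncomputable def fr (e : ℕ) (a : A) (ha : a ∈ 𝒜 e) : Away 𝒜 g :=
  Away.mk 𝒜 hg e a (by simpa using ha)

theorem val_fr (e : ℕ) (a : A) (ha : a ∈ 𝒜 e) :
    (fr 𝒜 hg e a ha).val = Localization.mk a (⟨g ^ e, e, rfl⟩ : Submonoid.powers g) := rfl

theorem fr_mul (e e' : ℕ) (a b : A) (ha : a ∈ 𝒜 e) (hb : b ∈ 𝒜 e') :
    fr 𝒜 hg e a ha * fr 𝒜 hg e' b hb = fr 𝒜 hg (e + e') (a * b) (SetLike.mul_mem_graded ha hb) := by
  apply HomogeneousLocalization.val_injective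
  rw [HomogeneousLocalization.val_mul, val_fr, val_fr, val_fr, Localization.mk_mul]
  congr 1
  ext
  simp [pow_add]

theorem fr_add (e : ℕ) (a b : A) (ha : a ∈ 𝒜 e) (hb : b ∈ 𝒜 e) :
    fr 𝒜 hg e a ha + fr 𝒜 hg e b hb = fr 𝒜 hg e (a + b) (add_mem ha hb) := by
  apply HomogeneousLocalization.val_injective
  rw [HomogeneousLocalization.val_add, val_fr, val_fr, val_fr, ← Localization.add_mk_self]

theorem fr_zero (e : ℕ) : fr 𝒜 hg e 0 (zero_mem _) = 0 := by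
  apply HomogeneousLocalization.val_injective
  rw [val_fr, HomogeneousLocalization.val_zero, Localization.mk_zero]

theorem fr_one : fr 𝒜 hg 0 1 SetLike.GradedOne.one_mem = 1 := by
  apply HomogeneousLocalization.val_injective
  rw [val_fr, HomogeneousLocalization.val_one]
  convert Localization.mk_self (⟨g ^ 0, 0, rfl⟩ : Submonoid.powers g) using 2
  simp

/-- dehomogenization `A → A_(g)` for `g` of degree one -/
noncomputable def ψ : A →+* Away 𝒜 g :=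
  (DirectSum.toSemiring
    (fun e => ({ toFun := fun a => fr 𝒜 hg e a.1 a.2
                 map_zero' := fr_zero 𝒜 hg e
                 map_add' := fun a b => (fr_add 𝒜 hg e a.1 b.1 a.2 b.2).symm } : 𝒜 e →+ Away 𝒜 g))
    (fr_one 𝒜 hg) (fun a b => (fr_mul 𝒜 hg _ _ a.1 b.1 a.2 b.2).symm)).comp
    (DirectSum.decomposeRingEquiv 𝒜).toRingHom

theorem ψ_of_mem (e : ℕ) (a : A) (ha : a ∈ 𝒜 e) : ψ 𝒜 hg a = fr 𝒜 hg e a ha := by
  simp only [ψ, RingEquiv.toRingHom_eq_coe, RingHom.coe_comp, RingHom.coe_coe,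
    Function.comp_apply]
  have : (decomposeRingEquiv 𝒜) a = DirectSum.of (fun i => 𝒜 i) e ⟨a, ha⟩ :=
    DirectSum.decompose_of_mem 𝒜 ha
  rw [this, DirectSum.toSemiring_of]
  rfl

end Deg1

section Cross
variable {g g' : A} (hg : g ∈ 𝒜 1) (hg' : g' ∈ 𝒜 1)

theorem ev_ρ_fr {W : (Proj 𝒜).Opens} (hW : W ≤ Proj.basicOpen 𝒜 g) (e : ℕ) (a : A) (ha : a ∈ 𝒜 e)
    (x hx) :
    ev 𝒜 (ρ 𝒜 g hW (fr 𝒜 hg e a ha)) x hx =
      Localization.mk a (⟨g ^ e, fun hm => (Proj.mem_basicOpen 𝒜 g x).1 (hW hx)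
        (x.isPrime.mem_of_pow_mem e hm)⟩ : x.asHomogeneousIdeal.toIdeal.primeCompl) := rfl

/-- change of chart for fractions -/
theorem ρ_cross {W : (Proj 𝒜).Opens} (hW : W ≤ Proj.basicOpen 𝒜 g)
    (hW' : W ≤ Proj.basicOpen 𝒜 g') (e : ℕ) (a : A) (ha : a ∈ 𝒜 e) :
    ρ 𝒜 g hW (fr 𝒜 hg e a ha) =
      (ρ 𝒜 g hW (fr 𝒜 hg 1 g' hg')) ^ e * ρ 𝒜 g' hW' (fr 𝒜 hg' e a ha) := by
  apply ev_ext
  intro x hx
  rw [ev_mul, ev_pow, ev_ρ_fr, ev_ρ_fr, ev_ρ_fr, Localization.mk_pow, Localization.mk_mul,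
    Localization.mk_eq_mk_iff, Localization.r_iff_exists]
  refine ⟨1, ?_⟩
  simp only [OneMemClass.coe_one, one_mul, Submonoid.coe_mul, SubmonoidClass.coe_pow, pow_one]
  ring

/-- `(g'/g) * (g/g') = 1` -/
theorem ρ_inv {W : (Proj 𝒜).Opens} (hW : W ≤ Proj.basicOpen 𝒜 g)
    (hW' : W ≤ Proj.basicOpen 𝒜 g') :
    ρ 𝒜 g hW (fr 𝒜 hg 1 g' hg') * ρ 𝒜 g' hW' (fr 𝒜 hg' 1 g hg) = 1 := by
  apply ev_ext
  intro x hx
  rw [ev_mul, ev_ρ_fr, ev_ρ_fr, ev_one, Localization.mk_mul]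
  convert Localization.mk_self _ using 2
  simp only [Submonoid.coe_mul, pow_one]
  ring

end Cross

section Gamma
variable (s : Finset A) (F : (Proj 𝒜).Modules)

/-- index type: the degree-one elements of `s` -/
abbrev T : Type u := {g : A // g ∈ s ∧ g ∈ 𝒜 1}

omit [GradedAlgebra 𝒜] in
variable {𝒜 s} in
theorem T.deg (g : T 𝒜 s) : g.1 ∈ 𝒜 1 := g.2.2

/-- the ambient group `Π_g Γ(F, D₊(g))` -/
abbrev P : Type u := ∀ g : T 𝒜 s, Γ(F, Proj.basicOpen 𝒜 g.1)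

/-- `A` acts on `Γ(F, D₊(g))` through dehomogenization -/
@[reducible] noncomputable def modΓ (g : T 𝒜 s) : Module A Γ(F, Proj.basicOpen 𝒜 g.1) :=
  Module.compHom _ ((ρ 𝒜 g.1 le_rfl).comp (ψ 𝒜 g.deg))

attribute [local instance] modΓ

theorem smul_def (g : T 𝒜 s) (a : A) (t : Γ(F, Proj.basicOpen 𝒜 g.1)) :
    a • t = ρ 𝒜 g.1 le_rfl (ψ 𝒜 g.deg a) • t := rfl

theorem smul_of_mem (g : T 𝒜 s) {e : ℕ} {a : A} (ha : a ∈ 𝒜 e) (t : Γ(F, Proj.basicOpen 𝒜 g.1)) :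
    a • t = ρ 𝒜 g.1 le_rfl (fr 𝒜 g.deg e a ha) • t := by
  rw [smul_def, ψ_of_mem 𝒜 g.deg e a ha]

theorem P_smul_apply (a : A) (m : P 𝒜 s F) (g : T 𝒜 s) : (a • m) g = a • m g := rfl

variable {𝒜 s} in
theorem le_left (g g' : T 𝒜 s) : Proj.basicOpen 𝒜 (g.1 * g'.1) ≤ Proj.basicOpen 𝒜 g.1 :=
  Proj.basicOpen_mono 𝒜 _ _ ⟨_, rfl⟩

variable {𝒜 s} in
theorem le_right (g g' : T 𝒜 s) : Proj.basicOpen 𝒜 (g.1 * g'.1) ≤ Proj.basicOpen 𝒜 g'.1 :=
  Proj.basicOpen_mono 𝒜 _ _ ⟨_, mul_comm _ _⟩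

/-- compatible families of weight `n` -/
def IsCompat (n : ℕ) (m : P 𝒜 s F) : Prop :=
  ∀ g g' : T 𝒜 s, F.presheaf.map (homOfLE (le_left g g')).op (m g) =
    (ρ 𝒜 g.1 (le_left g g') (fr 𝒜 g.deg 1 g'.1 g'.deg)) ^ n •
      F.presheaf.map (homOfLE (le_right g g')).op (m g')

/-- `Γ(X, F(n))` as compatible families -/
noncomputable def Mn (n : ℕ) : AddSubgroup (P 𝒜 s F) where
  carrier := {m | IsCompat 𝒜 s F n m}
  zero_mem' := by
    intro g g'
    simp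
  add_mem' := by
    intro m m' hm hm' g g'
    simp only [Pi.add_apply, map_add, smul_add]
    rw [hm g g', hm' g g']
  neg_mem' := by
    intro m hm g g'
    simp only [Pi.neg_apply, map_neg, smul_neg]
    rw [hm g g']

theorem mem_Mn {n : ℕ} {m : P 𝒜 s F} : m ∈ Mn 𝒜 s F n ↔ IsCompat 𝒜 s F n m := Iff.rfl

variable {𝒜} in
theorem res_smul {h : A} {W W' : (Proj 𝒜).Opens} (hW : W ≤ Proj.basicOpen 𝒜 h) (hWW' : W' ≤ W)
    (r : Away 𝒜 h) (t : Γ(F, W)) :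
    F.presheaf.map (homOfLE hWW').op (ρ 𝒜 h hW r • t) =
      ρ 𝒜 h (hWW'.trans hW) r • F.presheaf.map (homOfLE hWW').op t := by
  rw [Scheme.Modules.map_smul]
  congr 1

instance gradedSMul : SetLike.GradedSMul 𝒜 (Mn 𝒜 s F) where
  smul_mem := by
    intro e n a m ha hm g g'
    rw [P_smul_apply, P_smul_apply, smul_of_mem 𝒜 s F g ha, smul_of_mem 𝒜 s F g' ha,
      res_smul, res_smul, hm g g', smul_smul, smul_smul]
    congr 1
    rw [ρ_cross 𝒜 g.deg g'.deg (le_left g g') (le_right g g') e a ha, vadd_eq_add, pow_add]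
    ring

/-- `Γ_*(F) = ⨁ₙ Γ(X, F(n))` -/
abbrev M : Type u := ⨁ n, Mn 𝒜 s F n

@[reducible] noncomputable def modM : Module A (M 𝒜 s F) := GradedModule.isModule 𝒜 (Mn 𝒜 s F)

attribute [local instance] modM

@[reducible] noncomputable def modRM : Module R (M 𝒜 s F) := Module.compHom _ (algebraMap R A)

attribute [local instance] modRM

theorem towerM : IsScalarTower R A (M 𝒜 s F) :=
  ⟨fun r a m => by
    show (r • a) • m = (algebraMap R A r) • (a • m)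
    rw [Algebra.smul_def, mul_smul]⟩

theorem of_smul_of' {e n : ℕ} (a : A) (ha : a ∈ 𝒜 e) (m : Mn 𝒜 s F n) :
    a • (DirectSum.of (fun n => Mn 𝒜 s F n) n m) =
      DirectSum.of (fun n => Mn 𝒜 s F n) (e + n)
        ⟨a • m.1, SetLike.GradedSMul.smul_mem (A := 𝒜) (B := Mn 𝒜 s F) ha m.2⟩ := by
  show DirectSum.decompose 𝒜 a • (DirectSum.of (fun n => Mn 𝒜 s F n) n m) = _
  rw [DirectSum.decompose_of_mem 𝒜 ha, DirectSum.Gmodule.of_smul_of]
  rfl

theorem of_mem_range_cast {k n : ℕ} (h : k = n) (m : Mn 𝒜 s F k) :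
    DirectSum.of (fun n => Mn 𝒜 s F n) k m ∈
      (DirectSum.of (fun n => Mn 𝒜 s F n) n).range := by
  subst h
  exact ⟨m, rfl⟩

/-- the graded pieces of `Γ_*(F)` -/
noncomputable def piece (n : ℕ) : Submodule R (M 𝒜 s F) where
  carrier := (DirectSum.of (fun n => Mn 𝒜 s F n) n).range
  zero_mem' := zero_mem _
  add_mem' := add_mem
  smul_mem' := by
    rintro r _ ⟨m, rfl⟩
    show (algebraMap R A r) • (DirectSum.of (fun n => Mn 𝒜 s F n) n m) ∈ _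
    rw [of_smul_of' 𝒜 s F (algebraMap R A r) (SetLike.algebraMap_mem_graded 𝒜 r) m]
    exact of_mem_range_cast 𝒜 s F (zero_add n) _

theorem mem_piece {n : ℕ} {x : M 𝒜 s F} :
    x ∈ piece 𝒜 s F n ↔ ∃ m : Mn 𝒜 s F n, DirectSum.of (fun n => Mn 𝒜 s F n) n m = x := Iff.rfl

instance gradedSMulM : SetLike.GradedSMul 𝒜 (piece 𝒜 s F) where
  smul_mem := by
    rintro e n a _ ha ⟨m, rfl⟩
    rw [of_smul_of' 𝒜 s F a ha m]
    exact ⟨_, rfl⟩

set_option maxHeartbeats 2000000 in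
/-- the decomposition of `Γ_*(F)` -/
@[reducible] noncomputable def decompM : DirectSum.Decomposition (piece 𝒜 s F) :=
  DirectSum.Decomposition.ofAddHom (piece 𝒜 s F)
    (DirectSum.toAddMonoid fun n =>
      (DirectSum.of (fun n => piece 𝒜 s F n) n).comp
        ((DirectSum.of (fun n => Mn 𝒜 s F n) n).codRestrict (piece 𝒜 s F n).toAddSubmonoid
          (fun m => ⟨m, rfl⟩)))
    (by
      apply DirectSum.addHom_ext
      intro n m
      rw [AddMonoidHom.comp_apply, DirectSum.toAddMonoid_of, AddMonoidHom.comp_apply,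
        DirectSum.coeAddMonoidHom_of]
      rfl)
    (by
      apply DirectSum.addHom_ext
      intro n w
      obtain ⟨m, hm⟩ := (mem_piece 𝒜 s F).1 w.2
      have hw : w = ⟨DirectSum.of (fun n => Mn 𝒜 s F n) n m, ⟨m, rfl⟩⟩ := Subtype.ext hm.symm
      rw [AddMonoidHom.comp_apply, DirectSum.coeAddMonoidHom_of, hw]
      show DirectSum.toAddMonoid _ (DirectSum.of (fun n => Mn 𝒜 s F n) n m) = _
      rw [DirectSum.toAddMonoid_of]
      rfl)

/-- evaluation `Γ_*(F) → Π_g Γ(F, D₊(g))` (sum of components) -/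
noncomputable def evM : M 𝒜 s F →+ P 𝒜 s F :=
  DirectSum.toAddMonoid fun n => (Mn 𝒜 s F n).subtype

theorem evM_of (n : ℕ) (m : Mn 𝒜 s F n) :
    evM 𝒜 s F (DirectSum.of (fun n => Mn 𝒜 s F n) n m) = m.1 := by
  rw [evM, DirectSum.toAddMonoid_of]
  rfl

theorem evM_smul (a : A) (x : M 𝒜 s F) : evM 𝒜 s F (a • x) = a • evM 𝒜 s F x := by
  induction x using DirectSum.induction_on with
  | zero => simp
  | of n m =>
    induction a using DirectSum.Decomposition.inductionOn 𝒜 with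
    | zero => simp
    | homogeneous a =>
      rw [of_smul_of' 𝒜 s F a.1 a.2 m, evM_of, evM_of]
    | add a b ha hb => rw [add_smul, map_add, ha, hb, add_smul]
  | add x y hx hy => rw [smul_add, map_add, hx, hy, map_add, smul_add]

theorem evM_mem {n : ℕ} {x : M 𝒜 s F} (hx : x ∈ piece 𝒜 s F n) : evM 𝒜 s F x ∈ Mn 𝒜 s F n := by
  obtain ⟨m, rfl⟩ := (mem_piece 𝒜 s F).1 hx
  rw [evM_of]
  exact m.2

end Gamma

end Groth.Agent.Helper1.PF2
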