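import Mathlib
import Groth.Prelude.Def_GrMod2
import Groth.Agent.Lib.Helper1.PF2

universe u
open AlgebraicGeometry CategoryTheory Limits TopologicalSpace HomogeneousLocalization Opposite
open DirectSum

namespace Groth.Agent.Helper1.PF4
open Groth.Agent.Helper1.PF1 Groth.Agent.Helper1.PF2

variable {R A : Type u} [CommRing R] [CommRing A] [Algebra R A] (𝒜 : ℕ → Submodule R A)
  [GradedAlgebra 𝒜]

section
variable {g : A} (hg : g ∈ 𝒜 1)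

theorem pow_mem_deg {a : A} (ha : a ∈ 𝒜 1) (j : ℕ) : a ^ j ∈ 𝒜 j := by
  have := SetLike.pow_mem_graded j ha
  simpa using this

theorem fr_pow {a : A} (ha : a ∈ 𝒜 1) (j : ℕ) :
    fr 𝒜 hg j (a ^ j) (pow_mem_deg 𝒜 ha j) = (fr 𝒜 hg 1 a ha) ^ j := by
  apply HomogeneousLocalization.val_injective
  rw [HomogeneousLocalization.val_pow, val_fr, val_fr, Localization.mk_pow]
  congr 1
  ext
  simp

end

variable (s : Finset A) (F : (Proj 𝒜).Modules)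
attribute [local instance] modΓ

theorem res_res {V W W' : (Proj 𝒜).Opens} (h1 : W ≤ V) (h2 : W' ≤ W) (t : Γ(F, V)) :
    F.presheaf.map (homOfLE h2).op (F.presheaf.map (homOfLE h1).op t) =
      F.presheaf.map (homOfLE (h2.trans h1)).op t := by
  rw [← ConcreteCategory.comp_apply, ← Functor.map_comp]
  rfl

/-- `g₀ / g` as a function on `W ≤ D₊(g)` -/
noncomputable def c (g g₀ : T 𝒜 s) {W : (Proj 𝒜).Opens} (hW : W ≤ Proj.basicOpen 𝒜 g.1) :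
    Γ(Proj 𝒜, W) :=
  ρ 𝒜 g.1 hW (fr 𝒜 g.deg 1 g₀.1 g₀.deg)

theorem ev_c (g g₀ : T 𝒜 s) {W : (Proj 𝒜).Opens} (hW : W ≤ Proj.basicOpen 𝒜 g.1) (x hx) :
    ev 𝒜 (c 𝒜 s g g₀ hW) x hx =
      Localization.mk g₀.1 (⟨g.1 ^ 1, fun hm => (Proj.mem_basicOpen 𝒜 g.1 x).1 (hW hx)
        (x.isPrime.mem_of_pow_mem 1 hm)⟩ : x.asHomogeneousIdeal.toIdeal.primeCompl) := rfl

theorem c_self (g : T 𝒜 s) {W : (Proj 𝒜).Opens} (hW : W ≤ Proj.basicOpen 𝒜 g.1) :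
    c 𝒜 s g g hW = 1 := by
  apply ev_ext
  intro x hx
  rw [ev_c, ev_one]
  convert Localization.mk_self _ using 2
  simp

theorem c_mul (g g' g₀ : T 𝒜 s) {W : (Proj 𝒜).Opens} (hW : W ≤ Proj.basicOpen 𝒜 g.1)
    (hW' : W ≤ Proj.basicOpen 𝒜 g'.1) :
    c 𝒜 s g g' hW * c 𝒜 s g' g₀ hW' = c 𝒜 s g g₀ hW := by
  apply ev_ext
  intro x hx
  rw [ev_mul, ev_c, ev_c, ev_c, Localization.mk_mul, Localization.mk_eq_mk_iff,
    Localization.r_iff_exists]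
  refine ⟨1, ?_⟩
  simp only [OneMemClass.coe_one, one_mul, Submonoid.coe_mul, pow_one]
  ring

theorem c_res (g g₀ : T 𝒜 s) {W W' : (Proj 𝒜).Opens} (hW : W ≤ Proj.basicOpen 𝒜 g.1)
    (hWW' : W' ≤ W) :
    ((Proj 𝒜).presheaf.map (homOfLE hWW').op).hom (c 𝒜 s g g₀ hW) =
      c 𝒜 s g g₀ (hWW'.trans hW) :=
  ρ_res 𝒜 g.1 hW hWW' _

theorem res_c_smul (g g₀ : T 𝒜 s) {W W' : (Proj 𝒜).Opens} (hW : W ≤ Proj.basicOpen 𝒜 g.1)
    (hWW' : W' ≤ W) (j : ℕ) (t : Γ(F, W)) :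
    F.presheaf.map (homOfLE hWW').op ((c 𝒜 s g g₀ hW) ^ j • t) =
      (c 𝒜 s g g₀ (hWW'.trans hW)) ^ j • F.presheaf.map (homOfLE hWW').op t := by
  rw [Scheme.Modules.map_smul, map_pow]
  congr 1

theorem compat_c {n : ℕ} (m : Mn 𝒜 s F n) (g g' : T 𝒜 s) :
    F.presheaf.map (homOfLE (le_left g g')).op (m.1 g) =
      (c 𝒜 s g g' (le_left g g')) ^ n • F.presheaf.map (homOfLE (le_right g g')).op (m.1 g') :=
  m.2 g g'

instance finiteT : Finite (T 𝒜 s) :=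
  Finite.of_injective (fun g : T 𝒜 s => (⟨g.1, g.2.1⟩ : s)) (fun a b h => Subtype.ext (by
    have := congrArg Subtype.val h
    exact this))

section QC
variable (hF : SheafOfModules.IsQuasicoherent.{u, u, u} F)
include hF

theorem inj_aux {n : ℕ} (m : Mn 𝒜 s F n) (g : T 𝒜 s) (h0 : m.1 g = 0) (g' : T 𝒜 s) :
    ∃ N : ℕ, (c 𝒜 s g' g le_rfl) ^ N • m.1 g' = 0 := by
  have h1 : F.presheaf.map (homOfLE (le_left g' g)).op (m.1 g') = 0 := by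
    rw [compat_c, h0, map_zero, smul_zero]
  obtain ⟨N, hN⟩ := huniq 𝒜 F g'.1 g'.deg one_pos hF 1 g.1 (by simpa using g.deg) (m.1 g') h1
  refine ⟨N, ?_⟩
  rw [c, ← map_pow]
  exact hN

theorem inj_M {n : ℕ} (m : Mn 𝒜 s F n) (g : T 𝒜 s) (h0 : m.1 g = 0) :
    ∃ k : ℕ, ∀ g' : T 𝒜 s, (c 𝒜 s g' g le_rfl) ^ k • m.1 g' = 0 := by
  classical
  letI : Fintype (T 𝒜 s) := Fintype.ofFinite _
  choose N hN using inj_aux 𝒜 s F hF m g h0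
  refine ⟨Finset.univ.sup N, fun g' => ?_⟩
  have hle : N g' ≤ Finset.univ.sup N := Finset.le_sup (Finset.mem_univ g')
  obtain ⟨j, hj⟩ := Nat.exists_eq_add_of_le hle
  rw [hj, add_comm, pow_add, mul_smul, hN g', smul_zero]

attribute [local instance] modM modRM

omit hF in
theorem pow_smul_P (g g' : T 𝒜 s) (k : ℕ) (t : Γ(F, Proj.basicOpen 𝒜 g'.1)) :
    (g.1 ^ k) • t = (c 𝒜 s g' g le_rfl) ^ k • t := by
  rw [smul_of_mem 𝒜 s F g' (pow_mem_deg 𝒜 g.deg k), fr_pow 𝒜 g'.deg g.deg k, map_pow]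
  rfl

theorem inj_piece {n : ℕ} {x : M 𝒜 s F} (hx : x ∈ piece 𝒜 s F n) (g : T 𝒜 s)
    (h0 : evM 𝒜 s F x g = 0) : ∃ k : ℕ, (g.1 ^ k) • x = 0 := by
  obtain ⟨m, rfl⟩ := (mem_piece 𝒜 s F).1 hx
  rw [evM_of] at h0
  obtain ⟨k, hk⟩ := inj_M 𝒜 s F hF m g h0
  refine ⟨k, ?_⟩
  rw [of_smul_of' 𝒜 s F (g.1 ^ k) (pow_mem_deg 𝒜 g.deg k) m]
  have : (⟨g.1 ^ k • m.1, SetLike.GradedSMul.smul_mem (A := 𝒜) (B := Mn 𝒜 s F)
      (pow_mem_deg 𝒜 g.deg k) m.2⟩ : Mn 𝒜 s F (k + n)) = 0 := by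
    apply Subtype.ext
    funext g'
    show (g.1 ^ k) • m.1 g' = 0
    rw [pow_smul_P, hk g']
  rw [this, map_zero]

omit hF in
theorem res_injective_of_le {V W : (Proj 𝒜).Opens} (h : W ≤ V) (h' : V ≤ W) :
    Function.Injective (F.presheaf.map (homOfLE h).op) := by
  intro a b hab
  have := congrArg (F.presheaf.map (homOfLE h').op) hab
  rw [res_res, res_res] at this
  have hid : F.presheaf.map (homOfLE (h'.trans h)).op = 𝟙 _ := by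
    rw [← F.presheaf.map_id]
    rfl
  rw [hid] at this
  exact this

theorem ext1 (g₀ : T 𝒜 s) (t : Γ(F, Proj.basicOpen 𝒜 g₀.1)) (g : T 𝒜 s) :
    ∃ (N : ℕ) (tg : Γ(F, Proj.basicOpen 𝒜 g.1)),
      (c 𝒜 s g g₀ (le_left g g₀)) ^ N • F.presheaf.map (homOfLE (le_right g g₀)).op t =
        F.presheaf.map (homOfLE (le_left g g₀)).op tg := by
  obtain ⟨N, tg, h⟩ := hex 𝒜 F g.1 g.deg one_pos hF 1 g₀.1 (by simpa using g₀.deg)
    (F.presheaf.map (homOfLE (le_right g g₀)).op t)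
  refine ⟨N, tg, ?_⟩
  rw [c, ← map_pow]
  exact h

theorem ext1u (g₀ : T 𝒜 s) (t : Γ(F, Proj.basicOpen 𝒜 g₀.1)) :
    ∃ (k : ℕ) (tg : ∀ g : T 𝒜 s, Γ(F, Proj.basicOpen 𝒜 g.1)), ∀ g : T 𝒜 s,
      (c 𝒜 s g g₀ (le_left g g₀)) ^ k • F.presheaf.map (homOfLE (le_right g g₀)).op t =
        F.presheaf.map (homOfLE (le_left g g₀)).op (tg g) := by
  classical
  letI : Fintype (T 𝒜 s) := Fintype.ofFinite _
  choose N tg h using ext1 𝒜 s F hF g₀ t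
  refine ⟨Finset.univ.sup N, fun g => (c 𝒜 s g g₀ le_rfl) ^ (Finset.univ.sup N - N g) • tg g,
    fun g => ?_⟩
  have hle : N g ≤ Finset.univ.sup N := Finset.le_sup (Finset.mem_univ g)
  rw [res_c_smul, ← h g, smul_smul, ← pow_add, Nat.sub_add_cancel hle]

omit hF in
theorem ext_key (g₀ : T 𝒜 s) (t : Γ(F, Proj.basicOpen 𝒜 g₀.1)) (k : ℕ)
    (tg : ∀ g : T 𝒜 s, Γ(F, Proj.basicOpen 𝒜 g.1))
    (h : ∀ g : T 𝒜 s,
      (c 𝒜 s g g₀ (le_left g g₀)) ^ k • F.presheaf.map (homOfLE (le_right g g₀)).op t =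
        F.presheaf.map (homOfLE (le_left g g₀)).op (tg g))
    (g : T 𝒜 s) {W : (Proj 𝒜).Opens} (hW : W ≤ Proj.basicOpen 𝒜 (g.1 * g₀.1)) :
    F.presheaf.map (homOfLE (hW.trans (le_left g g₀))).op (tg g) =
      (c 𝒜 s g g₀ (hW.trans (le_left g g₀))) ^ k •
        F.presheaf.map (homOfLE (hW.trans (le_right g g₀))).op t := by
  rw [← res_res 𝒜 F (le_left g g₀) hW, ← h g, res_c_smul, res_res]

omit hF in
theorem delta_vanish (g₀ : T 𝒜 s) (t : Γ(F, Proj.basicOpen 𝒜 g₀.1)) (k : ℕ)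
    (tg : ∀ g : T 𝒜 s, Γ(F, Proj.basicOpen 𝒜 g.1))
    (h : ∀ g : T 𝒜 s,
      (c 𝒜 s g g₀ (le_left g g₀)) ^ k • F.presheaf.map (homOfLE (le_right g g₀)).op t =
        F.presheaf.map (homOfLE (le_left g g₀)).op (tg g))
    (g g' : T 𝒜 s) :
    F.presheaf.map (homOfLE (Proj.basicOpen_mono 𝒜 _ _ ⟨g₀.1 * g₀.1, rfl⟩ :
      Proj.basicOpen 𝒜 (g.1 * g'.1 * (g₀.1 * g₀.1)) ≤ Proj.basicOpen 𝒜 (g.1 * g'.1))).op
      (F.presheaf.map (homOfLE (le_left g g')).op (tg g) -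
        (c 𝒜 s g g' (le_left g g')) ^ k • F.presheaf.map (homOfLE (le_right g g')).op (tg g')) = 0 := by
  have hW1 : Proj.basicOpen 𝒜 (g.1 * g'.1 * (g₀.1 * g₀.1)) ≤ Proj.basicOpen 𝒜 (g.1 * g₀.1) :=
    Proj.basicOpen_mono 𝒜 _ _ ⟨g'.1 * g₀.1, by ring⟩
  have hW2 : Proj.basicOpen 𝒜 (g.1 * g'.1 * (g₀.1 * g₀.1)) ≤ Proj.basicOpen 𝒜 (g'.1 * g₀.1) :=
    Proj.basicOpen_mono 𝒜 _ _ ⟨g.1 * g₀.1, by ring⟩
  rw [map_sub, res_c_smul, res_res, res_res]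
  have e1 := ext_key 𝒜 s F g₀ t k tg h g hW1
  have e2 := ext_key 𝒜 s F g₀ t k tg h g' hW2
  rw [e1, e2, smul_smul, ← mul_pow, c_mul, sub_self]

omit hF in
theorem ρ_deg2 (g g' g₀ : T 𝒜 s) (h2 : g.1 * g'.1 ∈ 𝒜 2) (ha : g₀.1 * g₀.1 ∈ 𝒜 (1 • 2))
    {W : (Proj 𝒜).Opens} (hW : W ≤ Proj.basicOpen 𝒜 (g.1 * g'.1)) :
    ρ 𝒜 (g.1 * g'.1) hW (Away.mk 𝒜 h2 1 (g₀.1 * g₀.1) ha) =
      c 𝒜 s g g₀ (hW.trans (le_left g g')) * c 𝒜 s g' g₀ (hW.trans (le_right g g')) := by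
  apply ev_ext
  intro x hx
  rw [ev_mul, ev_c, ev_c, ev_ρ_mk, Localization.mk_mul, Localization.mk_eq_mk_iff,
    Localization.r_iff_exists]
  refine ⟨1, ?_⟩
  simp only [OneMemClass.coe_one, one_mul, Submonoid.coe_mul, pow_one]

theorem kill_delta (g g' g₀ : T 𝒜 s) (δ : Γ(F, Proj.basicOpen 𝒜 (g.1 * g'.1)))
    (hδ : F.presheaf.map (homOfLE (Proj.basicOpen_mono 𝒜 _ _ ⟨g₀.1 * g₀.1, rfl⟩ :
      Proj.basicOpen 𝒜 (g.1 * g'.1 * (g₀.1 * g₀.1)) ≤ Proj.basicOpen 𝒜 (g.1 * g'.1))).op δ = 0) :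
    ∃ L : ℕ, (c 𝒜 s g g₀ (le_left g g')) ^ (2 * L) • δ = 0 := by
  have h2 : g.1 * g'.1 ∈ 𝒜 2 := SetLike.mul_mem_graded g.deg g'.deg
  have ha : g₀.1 * g₀.1 ∈ 𝒜 (1 • 2) := SetLike.mul_mem_graded g₀.deg g₀.deg
  obtain ⟨N, hN⟩ := huniq 𝒜 F (g.1 * g'.1) h2 two_pos hF 1 (g₀.1 * g₀.1) ha δ hδ
  refine ⟨N, ?_⟩
  rw [map_pow, ρ_deg2 𝒜 s g g' g₀ h2 ha le_rfl] at hN
  have h3 := congrArg (fun z => (c 𝒜 s g g' (le_left g g')) ^ N • z) hN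
  simp only [smul_zero, smul_smul] at h3
  rw [← h3]
  congr 1
  rw [← mul_pow, ← mul_assoc, mul_comm (c 𝒜 s g g' _), mul_assoc, c_mul, ← sq, ← pow_mul]

theorem ext_M (g₀ : T 𝒜 s) (t : Γ(F, Proj.basicOpen 𝒜 g₀.1)) :
    ∃ (n : ℕ) (m : Mn 𝒜 s F n), m.1 g₀ = t := by
  classical
  letI : Fintype (T 𝒜 s) := Fintype.ofFinite _
  obtain ⟨k, tg, h⟩ := ext1u 𝒜 s F hF g₀ t
  have hδ := fun g g' => kill_delta 𝒜 s F hF g g' g₀ _ (delta_vanish 𝒜 s F g₀ t k tg h g g')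
  choose L hL using hδ
  set L₀ := Finset.univ.sup (fun p : T 𝒜 s × T 𝒜 s => L p.1 p.2) with hL₀
  have hL' : ∀ g g' : T 𝒜 s, (c 𝒜 s g g₀ (le_left g g')) ^ (2 * L₀) •
      (F.presheaf.map (homOfLE (le_left g g')).op (tg g) -
        (c 𝒜 s g g' (le_left g g')) ^ k • F.presheaf.map (homOfLE (le_right g g')).op (tg g')) = 0 := by
    intro g g'
    have hle : L g g' ≤ L₀ :=
      Finset.le_sup (f := fun p : T 𝒜 s × T 𝒜 s => L p.1 p.2) (Finset.mem_univ (g, g'))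
    obtain ⟨j, hj⟩ := Nat.exists_eq_add_of_le hle
    rw [hj, mul_add, add_comm, pow_add, mul_smul, hL g g', smul_zero]
  refine ⟨k + 2 * L₀, ⟨fun g => (c 𝒜 s g g₀ le_rfl) ^ (2 * L₀) • tg g, ?_⟩, ?_⟩
  · intro g g'
    show F.presheaf.map (homOfLE (le_left g g')).op ((c 𝒜 s g g₀ le_rfl) ^ (2 * L₀) • tg g) =
      (c 𝒜 s g g' (le_left g g')) ^ (k + 2 * L₀) •
        F.presheaf.map (homOfLE (le_right g g')).op ((c 𝒜 s g' g₀ le_rfl) ^ (2 * L₀) • tg g')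
    rw [res_c_smul, res_c_smul, smul_smul]
    have hcoef : (c 𝒜 s g g' (le_left g g')) ^ (k + 2 * L₀) *
        (c 𝒜 s g' g₀ (le_right g g')) ^ (2 * L₀) =
        (c 𝒜 s g g₀ (le_left g g')) ^ (2 * L₀) * (c 𝒜 s g g' (le_left g g')) ^ k := by
      rw [pow_add, mul_assoc, ← mul_pow, c_mul 𝒜 s g g' g₀ (le_left g g') (le_right g g')]
      exact mul_comm _ _
    rw [hcoef, ← smul_smul]
    have := hL' g g'
    rw [smul_sub, sub_eq_zero] at this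
    exact this
  · show (c 𝒜 s g₀ g₀ le_rfl) ^ (2 * L₀) • tg g₀ = t
    rw [c_self, one_pow, one_smul]
    have h0 := h g₀
    rw [c_self, one_pow, one_smul] at h0
    have hle : Proj.basicOpen 𝒜 g₀.1 ≤ Proj.basicOpen 𝒜 (g₀.1 * g₀.1) := by
      rw [Proj.basicOpen_mul, inf_idem]
    exact (res_injective_of_le 𝒜 F (le_left g₀ g₀) hle h0).symm

end QC

end Groth.Agent.Helper1.PF4
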