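import Mathlib
import Groth.Prelude.Def_GrMod2
import Groth.Agent.Lib.Helper1.PF4

universe u
open AlgebraicGeometry CategoryTheory Limits TopologicalSpace HomogeneousLocalization Opposite
open DirectSum

namespace Groth.Agent.Helper1.PF5
open Groth.Agent.Helper1.PF1 Groth.Agent.Helper1.PF2 Groth.Agent.Helper1.PF4

variable {R A : Type u} [CommRing R] [CommRing A] [Algebra R A] (𝒜 : ℕ → Submodule R A)
  [GradedAlgebra 𝒜]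

theorem exists_homog_basic (U : (Proj 𝒜).Opens) (x : ProjectiveSpectrum 𝒜) (hx : x ∈ U) :
    ∃ (e : ℕ) (c : A), c ∈ 𝒜 e ∧ c ∉ x.asHomogeneousIdeal ∧ Proj.basicOpen 𝒜 c ≤ U := by
  classical
  obtain ⟨_, ⟨r, rfl⟩, hxr, hrU⟩ :=
    (ProjectiveSpectrum.isTopologicalBasis_basic_opens 𝒜).exists_subset_of_mem_open hx U.isOpen
  obtain ⟨i, hi⟩ : ∃ i : ℕ, (decompose 𝒜 r i : A) ∉ x.asHomogeneousIdeal := by
    by_contra hcon
    push Not at hcon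
    apply hxr
    show r ∈ x.asHomogeneousIdeal
    rw [← DirectSum.sum_support_decompose 𝒜 r]
    exact Ideal.sum_mem _ fun i _ => hcon i
  refine ⟨i, (decompose 𝒜 r i : A), SetLike.coe_mem _, hi, ?_⟩
  intro y hy
  apply hrU
  show r ∉ y.asHomogeneousIdeal
  intro hr
  exact (Proj.mem_basicOpen 𝒜 _ y).1 hy (y.asHomogeneousIdeal.2 i hr)

variable (s : Finset A) (F : (Proj 𝒜).Modules)
variable {N : Type u} [AddCommGroup N] [Module R N] [Module A N] (𝒩 : ℕ → Submodule R N)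
attribute [local instance] modΓ

/-- the abstract interface: a graded module mapping to `Γ_*(F)`, bijectively on charts -/
structure Data where
  ev : N →+ P 𝒜 s F
  lin : ∀ (a : A) (y : N), ev (a • y) = a • ev y
  compat : ∀ n y, y ∈ 𝒩 n → ev y ∈ Mn 𝒜 s F n
  surj : ∀ (g : T 𝒜 s) (t : Γ(F, Proj.basicOpen 𝒜 g.1)), ∃ n y, y ∈ 𝒩 n ∧ ev y g = t
  inj : ∀ n y, y ∈ 𝒩 n → ∀ g : T 𝒜 s, ev y g = 0 → ∃ k : ℕ, g.1 ^ k • y = 0

variable {𝒜 s F 𝒩} (D : Data 𝒜 s F 𝒩)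

/-- local representation of a section `t` on `W` as `(g^e / c) · y` -/
def LocRep (U : (Proj 𝒜).Opens) (t : Γ(F, U)) (W : (Proj 𝒜).Opens) (g : T 𝒜 s) (e : ℕ) (c : A)
    (n : ℕ) (y : N) : Prop :=
  ∃ (hc : c ∈ 𝒜 e) (hWU : W ≤ U) (hWg : W ≤ Proj.basicOpen 𝒜 g.1),
    W ≤ Proj.basicOpen 𝒜 c ∧ y ∈ 𝒩 n ∧
      ρ 𝒜 g.1 hWg (fr 𝒜 g.deg e c hc) • F.presheaf.map (homOfLE hWU).op t =
        F.presheaf.map (homOfLE hWg).op (D.ev y g)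

theorem away_pow_eq {g : A} (hg : g ∈ 𝒜 1) (e₀ : ℕ) (c₀ : A) (hc₀ : c₀ ∈ 𝒜 e₀) (j : ℕ)
    (hc : c₀ ^ j ∈ 𝒜 (j • e₀)) :
    fr 𝒜 hg (j • e₀) (c₀ ^ j) hc = (fr 𝒜 hg e₀ c₀ hc₀) ^ j := by
  apply HomogeneousLocalization.val_injective
  rw [HomogeneousLocalization.val_pow, val_fr, val_fr, Localization.mk_pow]
  congr 1
  ext
  simp [pow_mul, mul_comm]

theorem exists_locRep (hF : SheafOfModules.IsQuasicoherent.{u, u, u} F) (U : (Proj 𝒜).Opens)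
    (t : Γ(F, U)) (x : ProjectiveSpectrum 𝒜) (hx : x ∈ U) (g : T 𝒜 s)
    (hgx : g.1 ∉ x.asHomogeneousIdeal) :
    ∃ (W : (Proj 𝒜).Opens) (e : ℕ) (c : A) (n : ℕ) (y : N), LocRep D U t W g e c n y ∧ x ∈ W := by
  obtain ⟨e₀, c₀, hc₀, hc₀x, hle⟩ := exists_homog_basic 𝒜 U x hx
  have hWc : Proj.basicOpen 𝒜 (g.1 * c₀) ≤ Proj.basicOpen 𝒜 c₀ :=
    Proj.basicOpen_mono 𝒜 _ _ ⟨g.1, mul_comm _ _⟩
  have hWU : Proj.basicOpen 𝒜 (g.1 * c₀) ≤ U := hWc.trans hle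
  have hWg : Proj.basicOpen 𝒜 (g.1 * c₀) ≤ Proj.basicOpen 𝒜 g.1 :=
    Proj.basicOpen_mono 𝒜 _ _ ⟨c₀, rfl⟩
  obtain ⟨K, t', ht'⟩ := hex 𝒜 F g.1 g.deg one_pos hF e₀ c₀ (by simpa using hc₀)
    (F.presheaf.map (homOfLE hWU).op t)
  obtain ⟨n, y, hy, hev⟩ := D.surj g (ρ 𝒜 g.1 le_rfl (fr 𝒜 g.deg e₀ c₀ hc₀) • t')
  have hc : c₀ ^ (K + 1) ∈ 𝒜 ((K + 1) • e₀) := SetLike.pow_mem_graded (K + 1) hc₀
  refine ⟨Proj.basicOpen 𝒜 (g.1 * c₀), (K + 1) • e₀, c₀ ^ (K + 1), n, y,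
    ⟨hc, hWU, hWg, ?_, hy, ?_⟩, ?_⟩
  · intro x' hx'
    rw [Proj.basicOpen_pow 𝒜 _ _ (Nat.succ_pos K)]
    exact hWc hx'
  · rw [hev, res_smul, away_pow_eq g.deg e₀ c₀ hc₀ (K + 1) hc, pow_succ', map_mul, mul_smul]
    congr 1
  · exact (Proj.mem_basicOpen 𝒜 _ x).2 (fun h => (x.isPrime.mem_or_mem h).elim hgx hc₀x)

/-- the value `g^e y / (c g^n)` in `N_x` -/
noncomputable def val (x : ProjectiveSpectrum 𝒜) (g : A) (e : ℕ) (c : A) (n : ℕ) (y : N)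
    (hgx : g ∉ x.asHomogeneousIdeal) (hcx : c ∉ x.asHomogeneousIdeal) :
    GrTilde.LocMod 𝒜 (M := N) x :=
  LocalizedModule.mk (g ^ e • y) ⟨c * g ^ n, fun h => (x.isPrime.mem_or_mem h).elim hcx
    (fun h' => hgx (x.isPrime.mem_of_pow_mem n h'))⟩

/-- coefficient identity behind uniqueness -/
theorem coef_identity (g g' : T 𝒜 s) {W : (Proj 𝒜).Opens} (hg : W ≤ Proj.basicOpen 𝒜 g.1)
    (hg' : W ≤ Proj.basicOpen 𝒜 g'.1) (e n e' n' : ℕ) (c c' : A) (hc : c ∈ 𝒜 e) (hc' : c' ∈ 𝒜 e')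
    (h1 : c' * g'.1 ^ n' * g.1 ^ e ∈ 𝒜 (e' + n' + e))
    (h2 : c * g.1 ^ n * g'.1 ^ e' ∈ 𝒜 (e + n + e')) :
    ρ 𝒜 g'.1 hg' (fr 𝒜 g'.deg _ _ h1) * (PF4.c 𝒜 s g' g hg') ^ n * ρ 𝒜 g.1 hg (fr 𝒜 g.deg e c hc) =
      ρ 𝒜 g'.1 hg' (fr 𝒜 g'.deg _ _ h2) * ρ 𝒜 g'.1 hg' (fr 𝒜 g'.deg e' c' hc') := by
  apply ev_ext
  intro x hx
  rw [ev_mul, ev_mul, ev_mul, ev_pow, ev_c, ev_ρ_fr, ev_ρ_fr, ev_ρ_fr, ev_ρ_fr,
    Localization.mk_pow, Localization.mk_mul, Localization.mk_mul, Localization.mk_mul,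
    Localization.mk_eq_mk_iff, Localization.r_iff_exists]
  refine ⟨1, ?_⟩
  simp only [OneMemClass.coe_one, one_mul, Submonoid.coe_mul, SubmonoidClass.coe_pow, pow_one]
  ring

theorem res_ev_other {U W W'' : (Proj 𝒜).Opens} {t : Γ(F, U)} {g g' : T 𝒜 s} {e n : ℕ} {b : A}
    {y : N} (hb : b ∈ 𝒜 e) (hWU : W ≤ U) (hWg : W ≤ Proj.basicOpen 𝒜 g.1) (hy : y ∈ 𝒩 n)
    (heq : ρ 𝒜 g.1 hWg (fr 𝒜 g.deg e b hb) • F.presheaf.map (homOfLE hWU).op t =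
      F.presheaf.map (homOfLE hWg).op (D.ev y g))
    (h1 : W'' ≤ W) (h2 : W'' ≤ Proj.basicOpen 𝒜 g'.1) :
    F.presheaf.map (homOfLE h2).op (D.ev y g') =
      ((PF4.c 𝒜 s g' g h2) ^ n * ρ 𝒜 g.1 (h1.trans hWg) (fr 𝒜 g.deg e b hb)) •
        F.presheaf.map (homOfLE (h1.trans hWU)).op t := by
  have hcompat := compat_c 𝒜 s F ⟨D.ev y, D.compat n y hy⟩ g' g
  have h3 : W'' ≤ Proj.basicOpen 𝒜 (g'.1 * g.1) := by
    rw [Proj.basicOpen_mul]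
    exact le_inf h2 (h1.trans hWg)
  have e1 : F.presheaf.map (homOfLE h2).op (D.ev y g') =
      F.presheaf.map (homOfLE h3).op (F.presheaf.map (homOfLE (le_left g' g)).op (D.ev y g')) := by
    rw [res_res]
  have e2 : F.presheaf.map (homOfLE h3).op
      (F.presheaf.map (homOfLE (le_right g' g)).op (D.ev y g)) =
      F.presheaf.map (homOfLE h1).op (F.presheaf.map (homOfLE hWg).op (D.ev y g)) := by
    rw [res_res, res_res]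
  rw [e1]
  erw [hcompat]
  rw [res_c_smul, e2, ← heq, res_smul, res_res, smul_smul]

section Uniq
variable [SetLike.GradedSMul 𝒜 𝒩]

omit [GradedAlgebra 𝒜] in
theorem smul_mem_deg {e n k : ℕ} {a : A} {y : N} (ha : a ∈ 𝒜 e) (hy : y ∈ 𝒩 n) (hk : e + n = k) :
    a • y ∈ 𝒩 k := by
  subst hk
  exact SetLike.GradedSMul.smul_mem ha hy

theorem locRep_kill (hF : SheafOfModules.IsQuasicoherent.{u, u, u} F) {U : (Proj 𝒜).Opens}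
    {t : Γ(F, U)} {W W' : (Proj 𝒜).Opens} {g g' : T 𝒜 s} {e n e' n' : ℕ} {b b' : A} {y y' : N}
    (h : LocRep D U t W g e b n y) (h' : LocRep D U t W' g' e' b' n' y')
    (x : ProjectiveSpectrum 𝒜) (hxW : x ∈ W) (hxW' : x ∈ W') :
    ∃ u : A, u ∉ x.asHomogeneousIdeal ∧
      u • ((b' * g'.1 ^ n' * g.1 ^ e) • y - (b * g.1 ^ n * g'.1 ^ e') • y') = 0 := by
  obtain ⟨hb, hWU, hWg, hWb, hy, heq⟩ := h
  obtain ⟨hb', hWU', hWg', hWb', hy', heq'⟩ := h'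
  have d1 : b' * g'.1 ^ n' * g.1 ^ e ∈ 𝒜 (e' + n' + e) :=
    SetLike.mul_mem_graded (SetLike.mul_mem_graded hb' (pow_mem_deg 𝒜 g'.deg n'))
      (pow_mem_deg 𝒜 g.deg e)
  have d2 : b * g.1 ^ n * g'.1 ^ e' ∈ 𝒜 (e + n + e') :=
    SetLike.mul_mem_graded (SetLike.mul_mem_graded hb (pow_mem_deg 𝒜 g.deg n))
      (pow_mem_deg 𝒜 g'.deg e')
  set z : N := (b' * g'.1 ^ n' * g.1 ^ e) • y - (b * g.1 ^ n * g'.1 ^ e') • y' with hz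
  have hzmem : z ∈ 𝒩 (e' + n' + e + n) :=
    sub_mem (smul_mem_deg d1 hy rfl) (smul_mem_deg d2 hy' (by omega))
  -- a basic neighbourhood inside `W ⊓ W'`
  obtain ⟨ea, a, ha, hax, hale⟩ := exists_homog_basic 𝒜 (W ⊓ W') x ⟨hxW, hxW'⟩
  have hW''a : Proj.basicOpen 𝒜 (g'.1 * a) ≤ Proj.basicOpen 𝒜 a :=
    Proj.basicOpen_mono 𝒜 _ _ ⟨g'.1, mul_comm _ _⟩
  have hW''g' : Proj.basicOpen 𝒜 (g'.1 * a) ≤ Proj.basicOpen 𝒜 g'.1 :=
    Proj.basicOpen_mono 𝒜 _ _ ⟨a, rfl⟩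
  have hW''W : Proj.basicOpen 𝒜 (g'.1 * a) ≤ W := hW''a.trans (hale.trans inf_le_left)
  have hW''W' : Proj.basicOpen 𝒜 (g'.1 * a) ≤ W' := hW''a.trans (hale.trans inf_le_right)
  -- the restriction of `ev z g'` vanishes
  have hvan : F.presheaf.map (homOfLE hW''g').op (D.ev z g') = 0 := by
    have e1 := res_ev_other D hb hWU hWg hy heq hW''W hW''g'
    have e2 := res_ev_other D hb' hWU' hWg' hy' heq' hW''W' hW''g'
    rw [hz, map_sub, D.lin, D.lin, Pi.sub_apply, P_smul_apply, P_smul_apply,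
      smul_of_mem 𝒜 s F g' d1, smul_of_mem 𝒜 s F g' d2, map_sub, res_smul, res_smul, e1, e2,
      smul_smul, smul_smul, sub_eq_zero]
    congr 1
    rw [c_self, one_pow, one_mul, ← mul_assoc]
    exact coef_identity g g' (hW''W.trans hWg) hW''g' e n e' n' b b' hb hb' d1 d2
  obtain ⟨K, hK⟩ := huniq 𝒜 F g'.1 g'.deg one_pos hF ea a (by simpa using ha) (D.ev z g') hvan
  have haK : a ^ K ∈ 𝒜 (K • ea) := SetLike.pow_mem_graded K ha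
  have h0 : D.ev (a ^ K • z) g' = 0 := by
    rw [D.lin, P_smul_apply, smul_of_mem 𝒜 s F g' haK, away_pow_eq g'.deg ea a ha K haK]
    exact hK
  obtain ⟨k, hk⟩ := D.inj _ _ (smul_mem_deg haK hzmem rfl) g' h0
  refine ⟨g'.1 ^ k * a ^ K, ?_, ?_⟩
  · intro hmem
    rcases x.isPrime.mem_or_mem hmem with h1 | h1
    · exact (Proj.mem_basicOpen 𝒜 _ x).1 (hWg' hxW') (x.isPrime.mem_of_pow_mem k h1)
    · exact hax (x.isPrime.mem_of_pow_mem K h1)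
  · rw [mul_smul]
    exact hk

theorem locRep_val_eq (hF : SheafOfModules.IsQuasicoherent.{u, u, u} F) {U : (Proj 𝒜).Opens}
    {t : Γ(F, U)} {W W' : (Proj 𝒜).Opens} {g g' : T 𝒜 s} {e n e' n' : ℕ} {b b' : A} {y y' : N}
    (h : LocRep D U t W g e b n y) (h' : LocRep D U t W' g' e' b' n' y')
    (x : ProjectiveSpectrum 𝒜) (hxW : x ∈ W) (hxW' : x ∈ W')
    (hgx : g.1 ∉ x.asHomogeneousIdeal) (hbx : b ∉ x.asHomogeneousIdeal)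
    (hg'x : g'.1 ∉ x.asHomogeneousIdeal) (hb'x : b' ∉ x.asHomogeneousIdeal) :
    val x g.1 e b n y hgx hbx = val x g'.1 e' b' n' y' hg'x hb'x := by
  obtain ⟨u, hux, hu⟩ := locRep_kill D hF h h' x hxW hxW'
  rw [val, val, LocalizedModule.mk_eq]
  refine ⟨⟨u, hux⟩, ?_⟩
  rw [smul_sub, sub_eq_zero] at hu
  show u • (b' * g'.1 ^ n') • (g.1 ^ e • y) = u • (b * g.1 ^ n) • (g'.1 ^ e' • y')
  rw [smul_smul (b' * g'.1 ^ n'), smul_smul (b * g.1 ^ n)]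
  exact hu

end Uniq

end Groth.Agent.Helper1.PF5
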