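import Mathlib
import Groth.Prelude.Def_GrMod2
import Groth.Agent.Lib.Helper1.PF5
import Groth.Agent.Lib.Helper1.GrTildeLib

universe u
open AlgebraicGeometry CategoryTheory Limits TopologicalSpace HomogeneousLocalization Opposite
open DirectSum

namespace Groth.Agent.Helper1.PF6
open Groth.Agent.Helper1.PF1 Groth.Agent.Helper1.PF2 Groth.Agent.Helper1.PF4
  Groth.Agent.Helper1.PF5

variable {R A : Type u} [CommRing R] [CommRing A] [Algebra R A] {𝒜 : ℕ → Submodule R A}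
  [GradedAlgebra 𝒜]
variable {s : Finset A} {F : (Proj 𝒜).Modules}
variable {N : Type u} [AddCommGroup N] [Module R N] [Module A N] {𝒩 : ℕ → Submodule R N}
attribute [local instance] modΓ

variable (D : Data 𝒜 s F 𝒩)

/-- normalized local representation: `(b / g^e) · t = y|_W` with `y` of degree `e` -/
def NRep (U : (Proj 𝒜).Opens) (t : Γ(F, U)) (W : (Proj 𝒜).Opens) (g : T 𝒜 s) (e : ℕ) (b : A)
    (y : N) : Prop :=
  LocRep D U t W g e b e y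

variable {D}

theorem NRep.not_mem {U : (Proj 𝒜).Opens} {t : Γ(F, U)} {W : (Proj 𝒜).Opens} {g : T 𝒜 s} {e : ℕ}
    {b : A} {y : N} (h : NRep D U t W g e b y) {x : ProjectiveSpectrum 𝒜} (hx : x ∈ W) :
    b ∉ x.asHomogeneousIdeal := by
  obtain ⟨hb, hWU, hWg, hWb, hy, heq⟩ := h
  exact (Proj.mem_basicOpen 𝒜 _ x).1 (hWb hx)

theorem NRep.g_not_mem {U : (Proj 𝒜).Opens} {t : Γ(F, U)} {W : (Proj 𝒜).Opens} {g : T 𝒜 s}
    {e : ℕ} {b : A} {y : N} (h : NRep D U t W g e b y) {x : ProjectiveSpectrum 𝒜} (hx : x ∈ W) :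
    g.1 ∉ x.asHomogeneousIdeal := by
  obtain ⟨hb, hWU, hWg, hWb, hy, heq⟩ := h
  exact (Proj.mem_basicOpen 𝒜 _ x).1 (hWg hx)

theorem NRep.le {U : (Proj 𝒜).Opens} {t : Γ(F, U)} {W : (Proj 𝒜).Opens} {g : T 𝒜 s}
    {e : ℕ} {b : A} {y : N} (h : NRep D U t W g e b y) : W ≤ U := by
  obtain ⟨hb, hWU, hWg, hWb, hy, heq⟩ := h
  exact hWU

theorem NRep.hb {U : (Proj 𝒜).Opens} {t : Γ(F, U)} {W : (Proj 𝒜).Opens} {g : T 𝒜 s}
    {e : ℕ} {b : A} {y : N} (h : NRep D U t W g e b y) : b ∈ 𝒜 e := by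
  obtain ⟨hb, hWU, hWg, hWb, hy, heq⟩ := h
  exact hb

theorem NRep.hy {U : (Proj 𝒜).Opens} {t : Γ(F, U)} {W : (Proj 𝒜).Opens} {g : T 𝒜 s}
    {e : ℕ} {b : A} {y : N} (h : NRep D U t W g e b y) : y ∈ 𝒩 e := by
  obtain ⟨hb, hWU, hWg, hWb, hy, heq⟩ := h
  exact hy

/-- the value `y / b` in `N_x` -/
noncomputable def nval (x : ProjectiveSpectrum 𝒜) (b : A) (y : N)
    (hbx : b ∉ x.asHomogeneousIdeal) : GrTilde.LocMod 𝒜 (M := N) x :=
  LocalizedModule.mk y ⟨b, hbx⟩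

theorem val_eq_nval (x : ProjectiveSpectrum 𝒜) (g : A) (e : ℕ) (b : A) (y : N)
    (hgx : g ∉ x.asHomogeneousIdeal) (hbx : b ∉ x.asHomogeneousIdeal) :
    PF5.val x g e b e y hgx hbx = nval x b y hbx := by
  rw [PF5.val, nval, LocalizedModule.mk_eq]
  refine ⟨1, ?_⟩
  show (1 : A) • b • (g ^ e • y) = (1 : A) • (b * g ^ e) • y
  rw [smul_smul b]

section GS
variable [SetLike.GradedSMul 𝒜 𝒩]

theorem locRep_norm {U : (Proj 𝒜).Opens} {t : Γ(F, U)} {W : (Proj 𝒜).Opens} {g : T 𝒜 s}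
    {e n : ℕ} {c : A} {y : N} (h : LocRep D U t W g e c n y) :
    NRep D U t W g (e + n) (c * g.1 ^ n) (g.1 ^ e • y) := by
  obtain ⟨hc, hWU, hWg, hWc, hy, heq⟩ := h
  have hgn : g.1 ^ n ∈ 𝒜 n := pow_mem_deg 𝒜 g.deg n
  refine ⟨SetLike.mul_mem_graded hc hgn, hWU, hWg, ?_,
    smul_mem_deg (pow_mem_deg 𝒜 g.deg e) hy rfl, ?_⟩
  · intro x hx
    rw [Proj.mem_basicOpen]
    intro hmem
    rcases x.isPrime.mem_or_mem hmem with h1 | h1
    · exact (Proj.mem_basicOpen 𝒜 _ x).1 (hWc hx) h1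
    · exact (Proj.mem_basicOpen 𝒜 _ x).1 (hWg hx) (x.isPrime.mem_of_pow_mem n h1)
  · have e1 : fr 𝒜 g.deg (e + n) (c * g.1 ^ n) (SetLike.mul_mem_graded hc hgn) =
        fr 𝒜 g.deg e c hc := by
      rw [← fr_mul 𝒜 g.deg e n c (g.1 ^ n) hc hgn, fr_pow 𝒜 g.deg g.deg n]
      have : fr 𝒜 g.deg 1 g.1 g.deg = 1 := by
        apply HomogeneousLocalization.val_injective
        rw [val_fr, HomogeneousLocalization.val_one]
        convert Localization.mk_self (⟨g.1 ^ 1, 1, rfl⟩ : Submonoid.powers g.1) using 2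
        simp
      rw [this, one_pow, mul_one]
    rw [e1, heq, D.lin, P_smul_apply, pow_smul_P, c_self, one_pow, one_smul]

theorem exists_nrep (hF : SheafOfModules.IsQuasicoherent.{u, u, u} F) (U : (Proj 𝒜).Opens)
    (t : Γ(F, U)) (x : ProjectiveSpectrum 𝒜) (hx : x ∈ U) (g : T 𝒜 s)
    (hgx : g.1 ∉ x.asHomogeneousIdeal) :
    ∃ (W : (Proj 𝒜).Opens) (e : ℕ) (b : A) (y : N), NRep D U t W g e b y ∧ x ∈ W := by
  obtain ⟨W, e, c, n, y, h, hxW⟩ := exists_locRep D hF U t x hx g hgx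
  exact ⟨W, _, _, _, locRep_norm h, hxW⟩

theorem nrep_val_eq (hF : SheafOfModules.IsQuasicoherent.{u, u, u} F) {U : (Proj 𝒜).Opens}
    {t : Γ(F, U)} {W W' : (Proj 𝒜).Opens} {g g' : T 𝒜 s} {e e' : ℕ} {b b' : A} {y y' : N}
    (h : NRep D U t W g e b y) (h' : NRep D U t W' g' e' b' y')
    (x : ProjectiveSpectrum 𝒜) (hxW : x ∈ W) (hxW' : x ∈ W') :
    nval x b y (h.not_mem hxW) = nval x b' y' (h'.not_mem hxW') := by
  rw [← val_eq_nval x g.1 e b y (h.g_not_mem hxW), ← val_eq_nval x g'.1 e' b' y' (h'.g_not_mem hxW')]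
  exact locRep_val_eq D hF h h' x hxW hxW' _ _ _ _

variable (hF : SheafOfModules.IsQuasicoherent.{u, u, u} F)
  (hcov : ∀ x : ProjectiveSpectrum 𝒜, ∃ g : T 𝒜 s, g.1 ∉ x.asHomogeneousIdeal)

include hF hcov in
theorem exists_val (U : (Proj 𝒜).Opens) (t : Γ(F, U)) (x : ProjectiveSpectrum 𝒜) (hx : x ∈ U) :
    ∃ v : GrTilde.LocMod 𝒜 (M := N) x, ∀ (W : (Proj 𝒜).Opens) (g : T 𝒜 s) (e : ℕ) (b : A) (y : N)
      (h : NRep D U t W g e b y) (hxW : x ∈ W), nval x b y (h.not_mem hxW) = v := by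
  obtain ⟨g, hgx⟩ := hcov x
  obtain ⟨W, e, b, y, h, hxW⟩ := exists_nrep (D := D) hF U t x hx g hgx
  exact ⟨nval x b y (h.not_mem hxW), fun W' g' e' b' y' h' hxW' =>
    nrep_val_eq hF h' h x hxW' hxW⟩

variable (D) in
/-- the value of `β(t)` at `x` -/
noncomputable def βval (U : (Proj 𝒜).Opens) (t : Γ(F, U)) (x : ProjectiveSpectrum 𝒜)
    (hx : x ∈ U) : GrTilde.LocMod 𝒜 (M := N) x :=
  Classical.choose (exists_val (D := D) hF hcov U t x hx)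

theorem βval_eq {U : (Proj 𝒜).Opens} {t : Γ(F, U)} {W : (Proj 𝒜).Opens} {g : T 𝒜 s} {e : ℕ}
    {b : A} {y : N} (h : NRep D U t W g e b y) {x : ProjectiveSpectrum 𝒜} (hxW : x ∈ W) :
    βval D hF hcov U t x (h.le hxW) = nval x b y (h.not_mem hxW) :=
  (Classical.choose_spec (exists_val (D := D) hF hcov U t x (h.le hxW)) W g e b y h hxW).symm

omit [SetLike.GradedSMul 𝒜 𝒩] in
theorem nval_mem {x : ProjectiveSpectrum 𝒜} {e : ℕ} {b : A} {y : N} (hb : b ∈ 𝒜 e) (hy : y ∈ 𝒩 e)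
    (hbx : b ∉ x.asHomogeneousIdeal) : nval x b y hbx ∈ GrTilde.tildeAt 𝒜 𝒩 0 x :=
  Submodule.subset_span ⟨e, e, ⟨y, hy⟩, ⟨b, hb⟩, hbx, by simp, rfl⟩

theorem βval_mem (U : (Proj 𝒜).Opens) (t : Γ(F, U)) (x : ProjectiveSpectrum 𝒜) (hx : x ∈ U) :
    βval D hF hcov U t x hx ∈ GrTilde.tildeAt 𝒜 𝒩 0 x := by
  obtain ⟨g, hgx⟩ := hcov x
  obtain ⟨W, e, b, y, h, hxW⟩ := exists_nrep (D := D) hF U t x hx g hgx
  rw [βval_eq hF hcov h hxW]
  exact nval_mem h.hb h.hy _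

variable (D) in
/-- `β(t)` as a dependent function -/
noncomputable def βfun (U : (Proj 𝒜).Opens) (t : Γ(F, U)) :
    ∀ x : U, GrTilde.tildeAt 𝒜 𝒩 0 x.1 :=
  fun x => ⟨βval D hF hcov U t x.1 x.2, βval_mem hF hcov U t x.1 x.2⟩

theorem βfun_locFrac (U : (Proj 𝒜).Opens) (t : Γ(F, U)) :
    (GrTilde.isLocFrac 𝒜 𝒩 0).pred (βfun D hF hcov U t) := by
  intro x
  obtain ⟨g, hgx⟩ := hcov x.1
  obtain ⟨W, e, b, y, h, hxW⟩ := exists_nrep (D := D) hF U t x.1 x.2 g hgx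
  exact ⟨W, hxW, homOfLE h.le, e, e, ⟨y, h.hy⟩, ⟨b, h.hb⟩, fun z => h.not_mem z.2,
    Or.inl (by simp), fun z => βval_eq hF hcov h z.2⟩

variable (D) in
/-- `β(t)` as a section of `N~` -/
noncomputable def βsec (U : (Proj 𝒜).Opens) (t : Γ(F, U)) : GrTilde.sect 𝒜 𝒩 0 (op U) :=
  ⟨βfun D hF hcov U t, βfun_locFrac hF hcov U t⟩

theorem βsec_val {U : (Proj 𝒜).Opens} {t : Γ(F, U)} {W : (Proj 𝒜).Opens} {g : T 𝒜 s} {e : ℕ}
    {b : A} {y : N} (h : NRep D U t W g e b y) {x : ProjectiveSpectrum 𝒜} (hxW : x ∈ W) :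
    (((βsec D hF hcov U t).1 ⟨x, h.le hxW⟩).1 : GrTilde.LocMod 𝒜 (M := N) x) =
      nval x b y (h.not_mem hxW) :=
  βval_eq hF hcov h hxW


/-! ### restriction, additivity, linearity -/

omit [SetLike.GradedSMul 𝒜 𝒩] in
theorem NRep.of_res {U V : (Proj 𝒜).Opens} (hVU : V ≤ U) {t : Γ(F, U)} {W : (Proj 𝒜).Opens}
    {g : T 𝒜 s} {e : ℕ} {b : A} {y : N}
    (h : NRep D V (F.presheaf.map (homOfLE hVU).op t) W g e b y) : NRep D U t W g e b y := by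
  obtain ⟨hb, hWV, hWg, hWb, hy, heq⟩ := h
  refine ⟨hb, hWV.trans hVU, hWg, hWb, hy, ?_⟩
  rw [← res_res 𝒜 F hVU hWV]
  exact heq

theorem βval_res {U V : (Proj 𝒜).Opens} (hVU : V ≤ U) (t : Γ(F, U)) (x : ProjectiveSpectrum 𝒜)
    (hx : x ∈ V) :
    βval D hF hcov V (F.presheaf.map (homOfLE hVU).op t) x hx = βval D hF hcov U t x (hVU hx) := by
  obtain ⟨g, hgx⟩ := hcov x
  obtain ⟨W, e, b, y, h, hxW⟩ := exists_nrep (D := D) hF V (F.presheaf.map (homOfLE hVU).op t)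
    x hx g hgx
  rw [βval_eq hF hcov h hxW, βval_eq hF hcov (NRep.of_res hVU h) hxW]

omit [SetLike.GradedSMul 𝒜 𝒩] in
theorem NRep.eq_on {U : (Proj 𝒜).Opens} {t : Γ(F, U)} {W : (Proj 𝒜).Opens} {g : T 𝒜 s} {e : ℕ}
    {b : A} {y : N} (h : NRep D U t W g e b y) {W'' : (Proj 𝒜).Opens} (hW'' : W'' ≤ W)
    (hg : W'' ≤ Proj.basicOpen 𝒜 g.1) :
    ρ 𝒜 g.1 hg (fr 𝒜 g.deg e b h.hb) • F.presheaf.map (homOfLE (hW''.trans h.le)).op t =
      F.presheaf.map (homOfLE hg).op (D.ev y g) := by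
  obtain ⟨hb, hWU, hWg, hWb, hy, heq⟩ := h
  have := congrArg (F.presheaf.map (homOfLE hW'').op) heq
  rw [res_smul, res_res, res_res] at this
  exact this

omit [SetLike.GradedSMul 𝒜 𝒩] in
theorem res_ev_smul {k : ℕ} {a : A} (ha : a ∈ 𝒜 k) (y : N) (g : T 𝒜 s) {W : (Proj 𝒜).Opens}
    (hW : W ≤ Proj.basicOpen 𝒜 g.1) :
    F.presheaf.map (homOfLE hW).op (D.ev (a • y) g) =
      ρ 𝒜 g.1 hW (fr 𝒜 g.deg k a ha) • F.presheaf.map (homOfLE hW).op (D.ev y g) := by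
  rw [D.lin, P_smul_apply, smul_of_mem 𝒜 s F g ha, res_smul]

theorem NRep.add {U : (Proj 𝒜).Opens} {t t' : Γ(F, U)} {W W' : (Proj 𝒜).Opens} {g : T 𝒜 s}
    {e e' : ℕ} {b b' : A} {y y' : N} (h : NRep D U t W g e b y) (h' : NRep D U t' W' g e' b' y') :
    NRep D U (t + t') (W ⊓ W') g (e + e') (b * b') (b' • y + b • y') := by
  have hg : W ⊓ W' ≤ Proj.basicOpen 𝒜 g.1 := fun x hx =>
    (Proj.mem_basicOpen 𝒜 _ x).2 (h.g_not_mem hx.1)
  refine ⟨SetLike.mul_mem_graded h.hb h'.hb, inf_le_left.trans h.le, hg, ?_,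
    add_mem (smul_mem_deg h'.hb h.hy (by omega)) (smul_mem_deg h.hb h'.hy rfl), ?_⟩
  · intro x hx
    rw [Proj.mem_basicOpen]
    intro hmem
    rcases x.isPrime.mem_or_mem hmem with h1 | h1
    · exact h.not_mem hx.1 h1
    · exact h'.not_mem hx.2 h1
  · have e1 := h.eq_on (inf_le_left : W ⊓ W' ≤ W) hg
    have e2 := h'.eq_on (inf_le_right : W ⊓ W' ≤ W') hg
    have e3 : F.presheaf.map (homOfLE hg).op (D.ev (b' • y + b • y') g) =
        ρ 𝒜 g.1 hg (fr 𝒜 g.deg e' b' h'.hb) • F.presheaf.map (homOfLE hg).op (D.ev y g) +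
        ρ 𝒜 g.1 hg (fr 𝒜 g.deg e b h.hb) • F.presheaf.map (homOfLE hg).op (D.ev y' g) := by
      rw [map_add, Pi.add_apply, map_add, res_ev_smul h'.hb, res_ev_smul h.hb]
    rw [e3, ← e1, ← e2, ← fr_mul 𝒜 g.deg e e' b b' h.hb h'.hb, map_mul, map_add, smul_add,
      smul_smul, smul_smul]
    congr 2
    exact mul_comm _ _

omit [SetLike.GradedSMul 𝒜 𝒩] in
theorem nval_add (x : ProjectiveSpectrum 𝒜) (b b' : A) (y y' : N) (hbx : b ∉ x.asHomogeneousIdeal)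
    (hb'x : b' ∉ x.asHomogeneousIdeal) (hbb' : b * b' ∉ x.asHomogeneousIdeal) :
    nval x (b * b') (b' • y + b • y') hbb' = nval x b y hbx + nval x b' y' hb'x := by
  rw [nval, nval, nval, LocalizedModule.mk_add_mk]
  rfl

theorem βval_add (U : (Proj 𝒜).Opens) (t t' : Γ(F, U)) (x : ProjectiveSpectrum 𝒜) (hx : x ∈ U) :
    βval D hF hcov U (t + t') x hx = βval D hF hcov U t x hx + βval D hF hcov U t' x hx := by
  obtain ⟨g, hgx⟩ := hcov x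
  obtain ⟨W, e, b, y, h, hxW⟩ := exists_nrep (D := D) hF U t x hx g hgx
  obtain ⟨W', e', b', y', h', hxW'⟩ := exists_nrep (D := D) hF U t' x hx g hgx
  rw [βval_eq hF hcov h hxW, βval_eq hF hcov h' hxW',
    βval_eq hF hcov (h.add h') (⟨hxW, hxW'⟩ : x ∈ W ⊓ W')]
  exact nval_add x b b' y y' _ _ _

/-- a section of the structure sheaf is locally a fraction -/
theorem exists_frac {U : (Proj 𝒜).Opens} (r : Γ(Proj 𝒜, U)) (x : ProjectiveSpectrum 𝒜)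
    (hx : x ∈ U) :
    ∃ (V : (Proj 𝒜).Opens) (k : ℕ) (a d : A) (hVU : V ≤ U) (hVd : V ≤ Proj.basicOpen 𝒜 d),
      x ∈ V ∧ a ∈ 𝒜 k ∧ d ∈ 𝒜 k ∧ ∀ (z : ProjectiveSpectrum 𝒜) (hz : z ∈ V),
        ev 𝒜 r z (hVU hz) = Localization.mk a
          (⟨d, (Proj.mem_basicOpen 𝒜 d z).1 (hVd hz)⟩ :
            z.asHomogeneousIdeal.toIdeal.primeCompl) := by
  obtain ⟨V, hxV, iV, k, a, d, hd, hw⟩ := (show Twist.O (𝒜 := 𝒜) (op U) from r).2 ⟨x, hx⟩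
  refine ⟨V, k, a.1, d.1, iV.le, fun z hz => (Proj.mem_basicOpen 𝒜 _ z).2 (hd ⟨z, hz⟩), hxV,
    a.2, d.2, fun z hz => ?_⟩
  exact congrArg HomogeneousLocalization.val (hw ⟨z, hz⟩)

theorem NRep.smul {U : (Proj 𝒜).Opens} {t : Γ(F, U)} {W : (Proj 𝒜).Opens} {g : T 𝒜 s}
    {e : ℕ} {b : A} {y : N} (h : NRep D U t W g e b y) (r : Γ(Proj 𝒜, U))
    {V : (Proj 𝒜).Opens} {k : ℕ} {a d : A} (hVU : V ≤ U) (hVd : V ≤ Proj.basicOpen 𝒜 d)
    (ha : a ∈ 𝒜 k) (hd : d ∈ 𝒜 k)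
    (hr : ∀ (z : ProjectiveSpectrum 𝒜) (hz : z ∈ V),
        ev 𝒜 r z (hVU hz) = Localization.mk a
          (⟨d, (Proj.mem_basicOpen 𝒜 d z).1 (hVd hz)⟩ :
            z.asHomogeneousIdeal.toIdeal.primeCompl)) :
    NRep D U (r • t) (W ⊓ V) g (k + e) (d * b) (a • y) := by
  have hg : W ⊓ V ≤ Proj.basicOpen 𝒜 g.1 := fun x hx =>
    (Proj.mem_basicOpen 𝒜 _ x).2 (h.g_not_mem hx.1)
  refine ⟨SetLike.mul_mem_graded hd h.hb, inf_le_left.trans h.le, hg, ?_,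
    smul_mem_deg ha h.hy rfl, ?_⟩
  · intro x hx
    rw [Proj.mem_basicOpen]
    intro hmem
    rcases x.isPrime.mem_or_mem hmem with h1 | h1
    · exact (Proj.mem_basicOpen 𝒜 _ x).1 (hVd hx.2) h1
    · exact h.not_mem hx.1 h1
  · have e1 := h.eq_on (inf_le_left : W ⊓ V ≤ W) hg
    have key : ρ 𝒜 g.1 hg (fr 𝒜 g.deg k d hd) *
        ((Proj 𝒜).presheaf.map (homOfLE (inf_le_left.trans h.le : W ⊓ V ≤ U)).op).hom r =
        ρ 𝒜 g.1 hg (fr 𝒜 g.deg k a ha) := by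
      apply ev_ext
      intro z hz
      rw [ev_mul, ev_res, ev_ρ_fr, ev_ρ_fr, hr z hz.2, Localization.mk_mul,
        Localization.mk_eq_mk_iff, Localization.r_iff_exists]
      refine ⟨1, ?_⟩
      simp only [OneMemClass.coe_one, one_mul, Submonoid.coe_mul]
      ring
    rw [← fr_mul 𝒜 g.deg k e d b hd h.hb, map_mul, Scheme.Modules.map_smul, smul_smul,
      res_ev_smul ha, ← e1, smul_smul, ← key]
    congr 1
    ring

omit [SetLike.GradedSMul 𝒜 𝒩] in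
theorem nval_smul (x : ProjectiveSpectrum 𝒜) (a d b : A) (y : N)
    (hdx : d ∉ x.asHomogeneousIdeal) (hbx : b ∉ x.asHomogeneousIdeal)
    (hdb : d * b ∉ x.asHomogeneousIdeal) :
    nval x (d * b) (a • y) hdb =
      (Localization.mk a (⟨d, hdx⟩ : x.asHomogeneousIdeal.toIdeal.primeCompl) : Twist.Loc 𝒜 x) •
        nval x b y hbx := by
  rw [nval, nval, LocalizedModule.mk_smul_mk]
  rfl

theorem βval_smul (U : (Proj 𝒜).Opens) (r : Γ(Proj 𝒜, U)) (t : Γ(F, U))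
    (x : ProjectiveSpectrum 𝒜) (hx : x ∈ U) :
    βval D hF hcov U (r • t) x hx = ev 𝒜 r x hx • βval D hF hcov U t x hx := by
  obtain ⟨g, hgx⟩ := hcov x
  obtain ⟨W, e, b, y, h, hxW⟩ := exists_nrep (D := D) hF U t x hx g hgx
  obtain ⟨V, k, a, d, hVU, hVd, hxV, ha, hd, hr⟩ := exists_frac r x hx
  rw [βval_eq hF hcov h hxW,
    βval_eq hF hcov (h.smul r hVU hVd ha hd hr) (⟨hxW, hxV⟩ : x ∈ W ⊓ V), hr x hxV]
  exact nval_smul x a d b y _ _ _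

end GS

end Groth.Agent.Helper1.PF6
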