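import Mathlib
import Groth.Prelude.Def_GrMod2
import Groth.Agent.Lib.Helper1.PF6

universe u
open AlgebraicGeometry CategoryTheory Limits TopologicalSpace HomogeneousLocalization Opposite
open DirectSum

namespace Groth.Agent.Helper1.PF7
open Groth.Agent.Helper1.PF1 Groth.Agent.Helper1.PF2 Groth.Agent.Helper1.PF4
  Groth.Agent.Helper1.PF5 Groth.Agent.Helper1.PF6

theorem isIso_of_locally {X : Scheme.{u}} {M N : X.Modules} (φ : M ⟶ N)
    (hinj : ∀ (U : X.Opens) (t : Γ(M, U)), φ.app U t = 0 → ∀ x ∈ U,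
      ∃ (V : X.Opens) (hV : V ≤ U), x ∈ V ∧ M.presheaf.map (homOfLE hV).op t = 0)
    (hsurj : ∀ (U : X.Opens) (σ : Γ(N, U)), ∀ x ∈ U,
      ∃ (V : X.Opens) (hV : V ≤ U), x ∈ V ∧ ∃ t : Γ(M, V),
        φ.app V t = N.presheaf.map (homOfLE hV).op σ) : IsIso φ := by
  rw [← isIso_iff_of_reflects_iso _ (Scheme.Modules.toPresheaf X)]
  let M' : Sheaf (Opens.grothendieckTopology X) Ab := ⟨M.presheaf, M.isSheaf⟩
  let N' : Sheaf (Opens.grothendieckTopology X) Ab := ⟨N.presheaf, N.isSheaf⟩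
  let ψ : M' ⟶ N' := ⟨φ.mapPresheaf⟩
  have hψ : IsIso ψ := by
    refine (Sheaf.isLocallyBijective_iff_isIso ψ).1 ⟨?_, ?_⟩
    · constructor
      intro U a b h
      rw [Opens.mem_grothendieckTopology]
      intro p hp
      have h0 : φ.app U.unop (a - b) = 0 := by
        rw [map_sub, sub_eq_zero]
        exact h
      obtain ⟨V, hV, hpV, hres⟩ := hinj U.unop (a - b) h0 p hp
      refine ⟨V, homOfLE hV, ?_, hpV⟩
      rw [map_sub, sub_eq_zero] at hres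
      exact hres
    · constructor
      intro U σ
      rw [Opens.mem_grothendieckTopology]
      intro p hp
      obtain ⟨V, hV, hpV, t, ht⟩ := hsurj U σ p hp
      exact ⟨V, homOfLE hV, ⟨t, ht⟩, hpV⟩
  exact (inferInstance : IsIso ((sheafToPresheaf _ _).map ψ))

variable {R A : Type u} [CommRing R] [CommRing A] [Algebra R A] {𝒜 : ℕ → Submodule R A}
  [GradedAlgebra 𝒜]
variable {s : Finset A} {F : (Proj 𝒜).Modules}
variable {N : Type u} [AddCommGroup N] [Module R N] [Module A N] {𝒩 : ℕ → Submodule R N}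
attribute [local instance] modΓ

set_option synthInstance.maxHeartbeats 400000

variable (D : Data 𝒜 s F 𝒩) [SetLike.GradedSMul 𝒜 𝒩]
variable (hF : SheafOfModules.IsQuasicoherent.{u, u, u} F)
  (hcov : ∀ x : ProjectiveSpectrum 𝒜, ∃ g : T 𝒜 s, g.1 ∉ x.asHomogeneousIdeal)

theorem βsec_add (U : (Proj 𝒜).Opens) (t t' : Γ(F, U)) :
    βsec D hF hcov U (t + t') = βsec D hF hcov U t + βsec D hF hcov U t' := by
  apply Subtype.ext
  funext x
  apply Subtype.ext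
  exact βval_add hF hcov U t t' x.1 x.2

theorem βsec_smul (U : (Proj 𝒜).Opens) (r : Γ(Proj 𝒜, U)) (t : Γ(F, U)) :
    βsec D hF hcov U (r • t) =
      (show Twist.O (𝒜 := 𝒜) (op U) from r) • βsec D hF hcov U t := by
  apply Subtype.ext
  funext x
  apply Subtype.ext
  refine (βval_smul hF hcov U r t x.1 x.2).trans ?_
  exact (GrTilde.coe_smul_val 0 x.1 ((show Twist.O (𝒜 := 𝒜) (op U) from r).1 x)
    ((βsec D hF hcov U t).1 x)).symm

theorem βsec_res {U V : (Proj 𝒜).Opens} (hVU : V ≤ U) (t : Γ(F, U)) :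
    βsec D hF hcov V (F.presheaf.map (homOfLE hVU).op t) =
      GrTilde.res 𝒜 𝒩 0 (homOfLE hVU).op (βsec D hF hcov U t) := by
  apply Subtype.ext
  funext x
  apply Subtype.ext
  exact βval_res hF hcov hVU t x.1 x.2

/-- the comparison map on presheaves of abelian groups -/
noncomputable def βpre : F.val.presheaf ⟶ (GrTilde.tilde 𝒜 𝒩 0).val.presheaf where
  app U := AddCommGrpCat.ofHom (AddMonoidHom.mk' (fun t => βsec D hF hcov U.unop t)
    (fun t t' => βsec_add D hF hcov U.unop t t'))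
  naturality := by
    intro U V i
    ext t
    exact βsec_res D hF hcov i.unop.le t

/-- the comparison morphism `F ⟶ N~` -/
noncomputable def βmor : F ⟶ GrTilde.tilde 𝒜 𝒩 0 :=
  (SheafOfModules.Hom.mk (PresheafOfModules.homMk (βpre D hF hcov)
    (fun U r t => βsec_smul D hF hcov U.unop r t)) : SheafOfModules.Hom _ _)

theorem βmor_app (U : (Proj 𝒜).Opens) (t : Γ(F, U)) :
    (βmor D hF hcov).app U t = βsec D hF hcov U t := rfl


omit [SetLike.GradedSMul 𝒜 𝒩] in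
theorem isUnit_ρ_fr (g : T 𝒜 s) (e : ℕ) (a : A) (ha : a ∈ 𝒜 e) {W : (Proj 𝒜).Opens}
    (hWg : W ≤ Proj.basicOpen 𝒜 g.1) (hWa : W ≤ Proj.basicOpen 𝒜 a) :
    IsUnit (ρ 𝒜 g.1 hWg (fr 𝒜 g.deg e a ha)) := by
  have hW : W ≤ Proj.basicOpen 𝒜 (g.1 * a) := by
    rw [Proj.basicOpen_mul]
    exact le_inf hWg hWa
  exact isUnit_ρ_mk 𝒜 g.deg e a (by simpa using ha) hW

omit [SetLike.GradedSMul 𝒜 𝒩] in
theorem res_self {W : (Proj 𝒜).Opens} (t : Γ(F, W)) :
    F.presheaf.map (homOfLE (le_refl W)).op t = t := by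
  have hid : F.presheaf.map (homOfLE (le_refl W)).op = 𝟙 _ := by
    rw [← F.presheaf.map_id]
    rfl
  rw [hid]
  rfl

section Inj
variable [IsScalarTower R A N] [DirectSum.Decomposition 𝒩]

include hF hcov in
theorem β_locInj (U : (Proj 𝒜).Opens) (t : Γ(F, U)) (h0 : βsec D hF hcov U t = 0)
    (x : ProjectiveSpectrum 𝒜) (hx : x ∈ U) :
    ∃ (V : (Proj 𝒜).Opens) (hV : V ≤ U), x ∈ V ∧ F.presheaf.map (homOfLE hV).op t = 0 := by
  classical
  obtain ⟨g, hgx⟩ := hcov x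
  obtain ⟨W, e, b, y, h, hxW⟩ := exists_nrep (D := D) hF U t x hx g hgx
  have hv : nval x b y (h.not_mem hxW) = 0 := by
    rw [← βval_eq hF hcov h hxW]
    have := congrArg (fun σ : GrTilde.sect 𝒜 𝒩 0 (op U) =>
      ((σ.1 ⟨x, h.le hxW⟩).1 : GrTilde.LocMod 𝒜 (M := N) x)) h0
    exact this
  rw [nval, ← LocalizedModule.zero_mk (1 : x.asHomogeneousIdeal.toIdeal.primeCompl),
    LocalizedModule.mk_eq] at hv
  obtain ⟨⟨u, hux⟩, hu⟩ := hv
  have hu' : u • y = 0 := by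
    have : u • ((1 : A) • y) = u • (b • (0 : N)) := hu
    rwa [one_smul, smul_zero, smul_zero] at this
  obtain ⟨j, hj⟩ : ∃ j : ℕ, (decompose 𝒜 u j : A) ∉ x.asHomogeneousIdeal := by
    by_contra hcon
    push Not at hcon
    apply hux
    show u ∈ x.asHomogeneousIdeal
    rw [← DirectSum.sum_support_decompose 𝒜 u]
    exact Ideal.sum_mem _ fun i _ => hcon i
  have huj : (decompose 𝒜 u j : A) • y = 0 :=
    GrTildeLib.comp_smul_eq_zero 𝒜 𝒩 h.hy hu' j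
  set uj : A := (decompose 𝒜 u j : A) with huj_def
  have hujmem : uj ∈ 𝒜 j := SetLike.coe_mem _
  have hV1 : W ⊓ Proj.basicOpen 𝒜 uj ≤ W := inf_le_left
  have hVg : W ⊓ Proj.basicOpen 𝒜 uj ≤ Proj.basicOpen 𝒜 g.1 := fun z hz =>
    (Proj.mem_basicOpen 𝒜 _ z).2 (h.g_not_mem hz.1)
  have hVb : W ⊓ Proj.basicOpen 𝒜 uj ≤ Proj.basicOpen 𝒜 b := fun z hz =>
    (Proj.mem_basicOpen 𝒜 _ z).2 (h.not_mem hz.1)
  refine ⟨W ⊓ Proj.basicOpen 𝒜 uj, hV1.trans h.le, ⟨hxW, (Proj.mem_basicOpen 𝒜 _ x).2 hj⟩, ?_⟩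
  have e1 := h.eq_on hV1 hVg
  have e2 := res_ev_smul (D := D) hujmem y g hVg
  rw [huj, map_zero, Pi.zero_apply, map_zero] at e2
  have hu1 := isUnit_ρ_fr g j uj hujmem hVg inf_le_right
  have hu2 := isUnit_ρ_fr g e b h.hb hVg hVb
  have e3 : F.presheaf.map (homOfLE hVg).op (D.ev y g) = 0 := by
    have := congrArg (fun z => (↑hu1.unit⁻¹ : Γ(Proj 𝒜, W ⊓ Proj.basicOpen 𝒜 uj)) • z) e2
    simp only [smul_zero, smul_smul] at this
    rw [IsUnit.val_inv_mul, one_smul] at this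
    exact this.symm
  rw [e3] at e1
  have := congrArg (fun z => (↑hu2.unit⁻¹ : Γ(Proj 𝒜, W ⊓ Proj.basicOpen 𝒜 uj)) • z) e1
  simp only [smul_zero, smul_smul] at this
  rw [IsUnit.val_inv_mul, one_smul] at this
  exact this

end Inj

include hF hcov in
theorem β_locSurj (U : (Proj 𝒜).Opens) (σ : GrTilde.sect 𝒜 𝒩 0 (op U))
    (x : ProjectiveSpectrum 𝒜) (hx : x ∈ U) :
    ∃ (V : (Proj 𝒜).Opens) (hV : V ≤ U), x ∈ V ∧ ∃ t : Γ(F, V),
      βsec D hF hcov V t = GrTilde.res 𝒜 𝒩 0 (homOfLE hV).op σ := by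
  obtain ⟨V, hxV, iV, i, j, m, c, nin, hij, hw⟩ := σ.2 ⟨x, hx⟩
  obtain ⟨m', hm', hmm'⟩ : ∃ m' : N, m' ∈ 𝒩 j ∧ m' = m.1 := by
    rcases hij with hij | hij
    · have : i = j := by omega
      subst this
      exact ⟨m.1, m.2, rfl⟩
    · exact ⟨0, zero_mem _, hij.symm⟩
  obtain ⟨g, hgx⟩ := hcov x
  obtain ⟨W, hW⟩ : ∃ W : (Proj 𝒜).Opens, W = (show (Proj 𝒜).Opens from V) ⊓ Proj.basicOpen 𝒜 g.1 :=
    ⟨_, rfl⟩
  have hWV : W ≤ V := hW ▸ inf_le_left
  have hWg : W ≤ Proj.basicOpen 𝒜 g.1 := hW ▸ inf_le_right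
  have hWc : W ≤ Proj.basicOpen 𝒜 c.1 := fun z hz =>
    (Proj.mem_basicOpen 𝒜 _ z).2 (nin ⟨z, hWV hz⟩)
  have hu := isUnit_ρ_fr g j c.1 c.2 hWg hWc
  have hWU : W ≤ U := hWV.trans iV.le
  have hxW : x ∈ W := hW ▸ ⟨hxV, (Proj.mem_basicOpen 𝒜 _ x).2 hgx⟩
  refine ⟨W, hWU, hxW,
    (↑hu.unit⁻¹ : Γ(Proj 𝒜, W)) • F.presheaf.map (homOfLE hWg).op (D.ev m' g), ?_⟩
  have hrep : NRep D W
      ((↑hu.unit⁻¹ : Γ(Proj 𝒜, W)) • F.presheaf.map (homOfLE hWg).op (D.ev m' g))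
      W g j c.1 m' := by
    refine ⟨c.2, le_rfl, hWg, hWc, hm', ?_⟩
    rw [res_self, smul_smul, IsUnit.mul_val_inv, one_smul]
  apply Subtype.ext
  funext z
  apply Subtype.ext
  refine (βval_eq hF hcov hrep z.2).trans ?_
  subst hmm'
  exact (hw ⟨z.1, hWV z.2⟩).symm

include hF hcov in
theorem isIso_βmor [IsScalarTower R A N] [DirectSum.Decomposition 𝒩] :
    IsIso (βmor D hF hcov) := by
  apply isIso_of_locally
  · intro U t h0 x hx
    exact β_locInj D hF hcov U t h0 x hx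
  · intro U σ x hx
    obtain ⟨V, hV, hxV, t, ht⟩ := β_locSurj D hF hcov U σ x hx
    exact ⟨V, hV, hxV, t, ht⟩

include D hF hcov in
/-- main theorem: `F ≅ N~` for any graded module `N` with `Data` -/
theorem nonempty_iso [IsScalarTower R A N] [DirectSum.Decomposition 𝒩] :
    Nonempty (GrTilde.tilde 𝒜 𝒩 0 ≅ F) :=
  haveI := isIso_βmor D hF hcov
  ⟨(asIso (βmor D hF hcov)).symm⟩

end Groth.Agent.Helper1.PF7
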