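import Mathlib
import Groth.Agent.Lib.Helper8.ExtScal

universe u

open AlgebraicGeometry CategoryTheory TensorProduct TopologicalSpace Opposite

namespace Groth.Agent.Helper1.TildeBC

variable {R S : CommRingCat.{u}} (φ : R ⟶ S)

set_option backward.isDefEq.respectTransparency false in
/-- Global sections of a pushforward along `Spec S ⟶ Spec R`. -/
noncomputable def gammaPushforwardIso :
    Scheme.Modules.pushforward (Spec.map φ) ⋙ moduleSpecΓFunctor (R := R) ≅
      moduleSpecΓFunctor (R := S) ⋙ ModuleCat.restrictScalars φ.hom :=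
  Functor.isoWhiskerRight (pushforwardCompModulesSpecToSheafIso φ)
      (TopCat.Sheaf.forget _ _ ⋙ (evaluation _ _).obj (.op ⊤)) ≪≫
    NatIso.ofComponents (fun M => Iso.refl _) (fun f => by
      simp only [Iso.refl_hom, Category.comp_id, Category.id_comp]; rfl)

/-- The two left adjoints agree. -/
noncomputable def pullbackTildeIso :
    tilde.functor R ⋙ Scheme.Modules.pullback (Spec.map φ) ≅
      ModuleCat.extendScalars φ.hom ⋙ tilde.functor S :=
  let adj1 := (tilde.adjunction (R := R)).comp
    (Scheme.Modules.pullbackPushforwardAdjunction (Spec.map φ))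
  let adj2 := (ModuleCat.extendRestrictScalarsAdj φ.hom).comp (tilde.adjunction (R := S))
  adj1.leftAdjointUniq (adj2.ofNatIsoRight (gammaPushforwardIso φ).symm)

theorem result (A' A : Type u) [CommRing A'] [CommRing A] [Algebra A' A]
    (N' : Type u) [AddCommGroup N'] [Module A' N'] :
    Nonempty ((Scheme.Modules.pullback (Spec.map (CommRingCat.ofHom (algebraMap A' A)))).obj
        (tilde (ModuleCat.of A' N')) ≅ tilde (ModuleCat.of A (A ⊗[A'] N'))) := by
  refine ⟨(pullbackTildeIso (CommRingCat.ofHom (algebraMap A' A))).app (ModuleCat.of A' N') ≪≫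
    (tilde.functor (CommRingCat.of A)).mapIso ?_⟩
  exact (Groth.Agent.Helper8.extScalEquiv (R := A') (S := A) (ModuleCat.of A' N')).toModuleIso

end Groth.Agent.Helper1.TildeBC
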