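import Mathlib
import Groth.Agent.Lib.Helper1.TildeBC
import Groth.Agent.Lib.Helper1.PF7

set_option autoImplicit false
universe u

open CategoryTheory AlgebraicGeometry TopologicalSpace Opposite

namespace Groth.Agent.Helper1.AdjBC

/-! ## Part 0: a right adjoint is bijective on homs out of objects where the counit is iso -/

theorem right_map_bijective {C D : Type*} [Category C] [Category D] {L : C ⥤ D} {Rt : D ⥤ C}
    (adj : L ⊣ Rt) (E K : D) [IsIso (adj.counit.app E)] :
    Function.Bijective (fun α : E ⟶ K => Rt.map α) := by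
  have h : (fun α : E ⟶ K => Rt.map α) =
      (fun α : E ⟶ K => adj.homEquiv (Rt.obj E) K (adj.counit.app E ≫ α)) := by
    funext α
    rw [Adjunction.homEquiv_unit, Functor.map_comp, ← Category.assoc,
      adj.right_triangle_components, Category.id_comp]
  rw [h]
  refine (adj.homEquiv (Rt.obj E) K).bijective.comp ?_
  constructor
  · intro a b hab
    exact (cancel_epi (adj.counit.app E)).1 hab
  · intro c
    exact ⟨inv (adj.counit.app E) ≫ c, by simp⟩

/-! ## Part 1: global sections on `Spec R` -/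

theorem Γ_map_bijective {R : CommRingCat.{u}} (E K : (Spec R).Modules) [IsIso E.fromTildeΓ] :
    Function.Bijective (fun α : E ⟶ K => (moduleSpecΓFunctor (R := R)).map α) := by
  haveI : IsIso ((tilde.adjunction (R := R)).counit.app E) := by
    change IsIso E.fromTildeΓ
    infer_instance
  exact right_map_bijective (tilde.adjunction (R := R)) E K


/-! ## Part 2: homs into a pushforward from an affine chart -/

section chart
variable {Z : Scheme.{u}} {R : CommRingCat.{u}} (ι : Spec R ⟶ Z) [IsOpenImmersion ι]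

theorem restrictFunctor_map_app {E E' : Z.Modules} (α : E ⟶ E') (W : (Spec R).Opens) :
    ((Scheme.Modules.restrictFunctor ι).map α).app W = α.app (ι ''ᵁ W) := rfl

theorem restrictFunctor_map_app' {Z V : Scheme.{u}} (j : V ⟶ Z) [IsOpenImmersion j]
    {E E' : Z.Modules} (α : E ⟶ E') (W : V.Opens) :
    ((Scheme.Modules.restrictFunctor j).map α).app W = α.app (j ''ᵁ W) := rfl

/-- the module map on chart sections induced by a morphism into a pushforward from the chart -/
noncomputable def secMap {E : Z.Modules} {K' : (Spec R).Modules}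
    (α : E ⟶ (Scheme.Modules.pushforward ι).obj K') :
    (moduleSpecΓFunctor (R := R)).obj (E.restrict ι) ⟶ (moduleSpecΓFunctor (R := R)).obj K' :=
  (moduleSpecΓFunctor (R := R)).map (((Scheme.Modules.restrictAdjunction ι).homEquiv E K').symm α)

theorem secMap_apply {E : Z.Modules} {K' : (Spec R).Modules}
    (α : E ⟶ (Scheme.Modules.pushforward ι).obj K') (x : Γ(E, ι ''ᵁ ⊤)) :
    (secMap ι α).hom x =
      K'.presheaf.map (eqToHom (ι.preimage_image_eq ⊤).symm).op (α.app (ι ''ᵁ ⊤) x) := by
  rfl

theorem secMap_bijective (E : Z.Modules) (K' : (Spec R).Modules) [IsIso (E.restrict ι).fromTildeΓ] :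
    Function.Bijective (fun α : E ⟶ (Scheme.Modules.pushforward ι).obj K' => secMap ι α) :=
  (Γ_map_bijective (E.restrict ι) K').comp
    ((Scheme.Modules.restrictAdjunction ι).homEquiv E K').symm.bijective

end chart


/-! ## Part 3: the affine base change criterion -/

section main
open Scheme.Modules

variable {X Y : Scheme.{u}} (f : Y ⟶ X) {R R' : CommRingCat.{u}} (θ : R ⟶ R')
  (i : Spec R ⟶ X) (j : Spec R' ⟶ Y) [IsOpenImmersion i] [IsOpenImmersion j]
  (comm : j ≫ f = Spec.map θ ≫ i)

/-- the `R`-action on sections of a pushforward along `Spec.map θ` -/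
theorem smul_pushforward (H : (Spec R').Modules) (r : R)
    (h : Γ((pushforward (Spec.map θ)).obj H, ⊤)) :
    r • h = (show Γ((pushforward (Spec.map θ)).obj H, ⊤) from
      (θ.hom r • (show Γ(H, ⊤) from h) : Γ(H, ⊤))) := by
  have := (((TildeBC.gammaPushforwardIso θ).hom.app H).hom.map_smul r h)
  exact this

include comm in
theorem image_le_preimage : j ''ᵁ (⊤ : (Spec R').Opens) ≤ f ⁻¹ᵁ (i ''ᵁ (⊤ : (Spec R).Opens)) := by
  rintro _ ⟨z, -, rfl⟩
  refine ⟨Spec.map θ z, trivial, ?_⟩
  have := congrArg (fun g => g.base z) comm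
  exact this.symm

/-- the iso `f_* j_* H ≅ i_* θ_* H` -/
noncomputable def cIso (H : (Spec R').Modules) :
    (pushforward f).obj ((pushforward j).obj H) ≅
      (pushforward i).obj ((pushforward (Spec.map θ)).obj H) :=
  (pushforwardComp j f).app H ≪≫ (pushforwardCongr comm).app H ≪≫
    ((pushforwardComp (Spec.map θ) i).app H).symm

variable (F : X.Modules) (G : Y.Modules) (φ : F ⟶ (pushforward f).obj G)

/-- the induced map on chart sections -/
noncomputable def vmap : Γ(F, i ''ᵁ (⊤ : (Spec R).Opens)) →+ Γ(G, j ''ᵁ (⊤ : (Spec R').Opens)) :=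
  (G.presheaf.map (homOfLE (image_le_preimage f θ i j comm)).op).hom.comp (φ.app (i ''ᵁ ⊤)).hom

theorem key (H : (Spec R').Modules) (β : G ⟶ (pushforward j).obj H) (x : Γ(F, i ''ᵁ (⊤ : (Spec R).Opens))) :
    (show Γ(H, ⊤) from (secMap i ((φ ≫ (pushforward f).map β) ≫ (cIso f θ i j comm H).hom)).hom x) =
      (secMap j β).hom (vmap f θ i j comm F G φ x) := by
  rw [secMap_apply, secMap_apply]
  have hnat := congrArg (fun g => g.hom (φ.app (i ''ᵁ ⊤) x))
    (β.mapPresheaf.naturality (homOfLE (image_le_preimage f θ i j comm)).op)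
  have hv : vmap f θ i j comm F G φ x =
      G.presheaf.map (homOfLE (image_le_preimage f θ i j comm)).op (φ.app (i ''ᵁ ⊤) x) := rfl
  rw [hv]
  refine Eq.trans ?_ (congrArg (fun t => H.presheaf.map (eqToHom (j.preimage_image_eq ⊤).symm).op t) hnat).symm
  change (H.presheaf.map _ ≫ H.presheaf.map _) _ = (H.presheaf.map _ ≫ H.presheaf.map _) _
  rw [← Functor.map_comp, ← Functor.map_comp]
  rfl


variable [IsIso (F.restrict i).fromTildeΓ] [IsIso (G.restrict j).fromTildeΓ]

/-- the base change hypothesis on chart sections -/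
def IsBC : Prop :=
  ∀ (Q : ModuleCat.{u} R') (w : Γ(F, i ''ᵁ (⊤ : (Spec R).Opens)) →+ Q),
    (∀ (r : R) (x : Γ(F.restrict i, ⊤)), w (r • x) = θ.hom r • w x) →
    ∃! b : (moduleSpecΓFunctor (R := R')).obj (G.restrict j) ⟶ Q,
      ∀ x, b.hom (vmap f θ i j comm F G φ x) = w x

omit [IsOpenImmersion j] [IsIso (F.restrict i).fromTildeΓ] in
theorem secMap_semilinear (H : (Spec R').Modules)
    (α' : F ⟶ (pushforward i).obj ((pushforward (Spec.map θ)).obj H))
    (r : R) (x : Γ(F.restrict i, ⊤)) :
    (show Γ(H, ⊤) from (secMap i α').hom (r • x)) =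
      θ.hom r • (show Γ(H, ⊤) from (secMap i α').hom x) :=
  ((secMap i α').hom.map_smul r x).trans (smul_pushforward θ H r _)

theorem comp_bijective (hBC : IsBC f θ i j comm F G φ) (H : (Spec R').Modules) :
    Function.Bijective (fun β : G ⟶ (pushforward j).obj H => φ ≫ (pushforward f).map β) := by
  have h1 := secMap_bijective j G H
  have h2 := secMap_bijective i F ((pushforward (Spec.map θ)).obj H)
  -- semilinearity of secMap i α'
  have hsemi := secMap_semilinear θ i F H
  constructor
  · intro β₁ β₂ h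
    apply h1.1
    change secMap j β₁ = secMap j β₂
    have hh : ∀ x, (secMap j β₁).hom (vmap f θ i j comm F G φ x) =
        (secMap j β₂).hom (vmap f θ i j comm F G φ x) := by
      intro x
      rw [← key f θ i j comm F G φ H β₁ x, ← key f θ i j comm F G φ H β₂ x]
      have h' : φ ≫ (pushforward f).map β₁ = φ ≫ (pushforward f).map β₂ := h
      rw [h']
    let w : Γ(F, i ''ᵁ (⊤ : (Spec R).Opens)) →+ (moduleSpecΓFunctor (R := R')).obj H :=
      { toFun := fun x => (secMap j β₁).hom (vmap f θ i j comm F G φ x)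
        map_zero' := by rw [map_zero]; exact map_zero (secMap j β₁).hom
        map_add' := fun a b => by rw [map_add]; exact map_add (secMap j β₁).hom _ _ }
    obtain ⟨b, -, hb⟩ := hBC ((moduleSpecΓFunctor (R := R')).obj H) w (by
      intro r x
      change (secMap j β₁).hom (vmap f θ i j comm F G φ (r • x)) =
        θ.hom r • (secMap j β₁).hom (vmap f θ i j comm F G φ x)
      rw [← key f θ i j comm F G φ H β₁, ← key f θ i j comm F G φ H β₁]
      exact hsemi _ r x)
    rw [hb (secMap j β₁) (fun x => rfl), hb (secMap j β₂) (fun x => (hh x).symm)]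
  · intro α
    let α' := α ≫ (cIso f θ i j comm H).hom
    let w : Γ(F, i ''ᵁ (⊤ : (Spec R).Opens)) →+ (moduleSpecΓFunctor (R := R')).obj H :=
      { toFun := fun x => (show Γ(H, ⊤) from (secMap i α').hom x)
        map_zero' := map_zero (secMap i α').hom
        map_add' := fun a b => map_add (secMap i α').hom a b }
    obtain ⟨b, hb, -⟩ := hBC ((moduleSpecΓFunctor (R := R')).obj H) w (fun r x => hsemi α' r x)
    obtain ⟨β, hβ⟩ := h1.2 b
    refine ⟨β, ?_⟩
    have hβ' : secMap j β = b := hβ
    have : (φ ≫ (pushforward f).map β) ≫ (cIso f θ i j comm H).hom = α' := by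
      apply h2.1
      change secMap i _ = secMap i α'
      apply ModuleCat.hom_ext
      apply LinearMap.ext
      intro x
      have := key f θ i j comm F G φ H β x
      rw [hβ', hb x] at this
      exact this
    exact (cancel_mono (cIso f θ i j comm H).hom).1 this


/-- general: precomposition bijective through two adjunctions -/
theorem isIso_map_adjunct_of_comp_bijective {C D E : Type*} [Category C] [Category D] [Category E]
    {L₁ : C ⥤ D} {R₁ : D ⥤ C} (adj₁ : L₁ ⊣ R₁) {L₂ : D ⥤ E} {R₂ : E ⥤ D} (adj₂ : L₂ ⊣ R₂)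
    {A : C} {B : D} (φ : A ⟶ R₁.obj B)
    (h : ∀ T : E, Function.Bijective (fun β : B ⟶ R₂.obj T => φ ≫ R₁.map β)) :
    IsIso (L₂.map ((adj₁.homEquiv A B).symm φ)) := by
  apply isIso_of_coyoneda_map_bijective
  intro T
  have key : (fun γ : L₂.obj B ⟶ T => L₂.map ((adj₁.homEquiv A B).symm φ) ≫ γ) =
      (fun δ => (adj₂.homEquiv _ T).symm ((adj₁.homEquiv A _).symm δ)) ∘
        (fun β : B ⟶ R₂.obj T => φ ≫ R₁.map β) ∘ (adj₂.homEquiv B T) := by
    funext γ
    simp only [Function.comp_apply]
    rw [Adjunction.homEquiv_naturality_right_symm, Adjunction.homEquiv_naturality_left_symm,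
      Equiv.symm_apply_apply]
  rw [key]
  refine Function.Bijective.comp ?_ (Function.Bijective.comp (h T) (adj₂.homEquiv B T).bijective)
  exact (adj₂.homEquiv _ T).symm.bijective.comp (adj₁.homEquiv A _).symm.bijective

theorem isIso_restrict_adjunct (hBC : IsBC f θ i j comm F G φ) :
    IsIso ((restrictFunctor j).map (((pullbackPushforwardAdjunction f).homEquiv F G).symm φ)) :=
  isIso_map_adjunct_of_comp_bijective (pullbackPushforwardAdjunction f) (restrictAdjunction j) φ
    (fun H => comp_bijective f θ i j comm F G φ hBC H)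

end main


/-! ## Part 4: locality of isomorphisms -/

theorem isIso_of_restrict {Y : Scheme.{u}} {P G : Y.Modules} (ψ : P ⟶ G)
    (h : ∀ y : Y, ∃ (V : Scheme.{u}) (j : V ⟶ Y) (_ : IsOpenImmersion j),
      y ∈ j.opensRange ∧ IsIso ((Scheme.Modules.restrictFunctor j).map ψ)) : IsIso ψ := by
  have hbij : ∀ y : Y, ∀ U : Y.Opens, y ∈ U → ∃ (V : Y.Opens) (_ : V ≤ U), y ∈ V ∧
      Function.Bijective (ψ.app V) := by
    intro y U hy
    obtain ⟨V, j, hj, hyj, hiso⟩ := h y
    refine ⟨j ''ᵁ (j ⁻¹ᵁ U), j.image_preimage_le U, ?_, ?_⟩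
    · obtain ⟨z, rfl⟩ := hyj
      exact ⟨z, hy, rfl⟩
    · have : IsIso (((Scheme.Modules.restrictFunctor j).map ψ).app (j ⁻¹ᵁ U)) := inferInstance
      rw [restrictFunctor_map_app'] at this
      exact (ConcreteCategory.isIso_iff_bijective _).1 this
  refine PF7.isIso_of_locally ψ ?_ ?_
  · intro U t ht x hx
    obtain ⟨V, hV, hxV, hb⟩ := hbij x U hx
    refine ⟨V, hV, hxV, ?_⟩
    apply hb.1
    rw [map_zero]
    have := congrArg (fun g => g.hom t) (ψ.mapPresheaf.naturality (homOfLE hV).op)
    refine this.trans ?_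
    change G.presheaf.map (homOfLE hV).op (ψ.app U t) = 0
    rw [ht, map_zero]
  · intro U σ x hx
    obtain ⟨V, hV, hxV, hb⟩ := hbij x U hx
    obtain ⟨t, ht⟩ := hb.2 (G.presheaf.map (homOfLE hV).op σ)
    exact ⟨V, hV, hxV, t, ht⟩

end Groth.Agent.Helper1.AdjBC
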