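import Mathlib
import Groth.Agent.Lib.Helper1.AdjBC

set_option autoImplicit false
universe u

open CategoryTheory AlgebraicGeometry TopologicalSpace Opposite

namespace Groth.Agent.Helper1.AdjBC

section main
open Scheme.Modules

variable {X Y : Scheme.{u}} (f : Y ⟶ X) {R R' : CommRingCat.{u}} (θ : R ⟶ R')
  (i : Spec R ⟶ X) (j : Spec R' ⟶ Y) [IsOpenImmersion i] [IsOpenImmersion j]
  (comm : j ≫ f = Spec.map θ ≫ i)
  (F : X.Modules) (G : Y.Modules) (φ : F ⟶ (pushforward f).obj G)
  [IsIso (F.restrict i).fromTildeΓ] [IsIso (G.restrict j).fromTildeΓ]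

theorem isBC_of_comp_bijective
    (h : ∀ H : (Spec R').Modules,
      Function.Bijective (fun β : G ⟶ (pushforward j).obj H => φ ≫ (pushforward f).map β)) :
    IsBC f θ i j comm F G φ := by
  intro Q w hw
  let H : (Spec R').Modules := (tilde.functor R').obj Q
  let eQ : Q ≅ (moduleSpecΓFunctor (R := R')).obj H := (tilde.toTildeΓNatIso (R := R')).app Q
  have h1 := secMap_bijective j G H
  have h2 := secMap_bijective i F ((pushforward (Spec.map θ)).obj H)
  let lin : Γ(F.restrict i, ⊤) →ₗ[R] Γ((pushforward (Spec.map θ)).obj H, ⊤) :=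
      { toFun := fun x => (show Γ((pushforward (Spec.map θ)).obj H, ⊤) from eQ.hom.hom (w x))
        map_add' := fun a b => by
          exact (congrArg eQ.hom.hom (map_add w (show Γ(F, i ''ᵁ ⊤) from a) b)).trans
            (map_add eQ.hom.hom _ _)
        map_smul' := fun r x => by
          change (show Γ((pushforward (Spec.map θ)).obj H, ⊤) from eQ.hom.hom (w (r • x))) =
            r • (show Γ((pushforward (Spec.map θ)).obj H, ⊤) from eQ.hom.hom (w x))
          rw [smul_pushforward θ H r, hw r x]
          exact eQ.hom.hom.map_smul (θ.hom r) (w x) }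
  let w' : (moduleSpecΓFunctor (R := R)).obj (F.restrict i) ⟶
      (moduleSpecΓFunctor (R := R)).obj ((pushforward (Spec.map θ)).obj H) :=
    (show ModuleCat.of R Γ(F.restrict i, ⊤) ⟶
      ModuleCat.of R Γ((pushforward (Spec.map θ)).obj H, ⊤) from ModuleCat.ofHom lin)
  obtain ⟨α', hα'⟩ := h2.2 w'
  obtain ⟨β, hβ⟩ := (h H).2 (α' ≫ (cIso f θ i j comm H).inv)
  have hβ' : (φ ≫ (pushforward f).map β) ≫ (cIso f θ i j comm H).hom = α' := by
    have : φ ≫ (pushforward f).map β = α' ≫ (cIso f θ i j comm H).inv := hβ
    rw [this, Category.assoc, Iso.inv_hom_id, Category.comp_id]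
  have hw' : ∀ x, (secMap i α').hom x = eQ.hom.hom (w x) := by
    intro x
    have : secMap i α' = w' := hα'
    rw [this]
    rfl
  refine ⟨secMap j β ≫ eQ.inv, ?_, ?_⟩
  · intro x
    have hk := key f θ i j comm F G φ H β x
    rw [hβ'] at hk
    change eQ.inv.hom ((secMap j β).hom (vmap f θ i j comm F G φ x)) = w x
    rw [← hk]
    have := hw' x
    refine (congrArg eQ.inv.hom this).trans ?_
    exact congrArg (fun t => t.hom (w x)) eQ.hom_inv_id
  · intro b' hb'
    obtain ⟨β', hβ''⟩ := h1.2 (b' ≫ eQ.hom)
    have hβ2 : secMap j β' = b' ≫ eQ.hom := hβ''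
    have e1 : (φ ≫ (pushforward f).map β') ≫ (cIso f θ i j comm H).hom = α' := by
      apply h2.1
      change secMap i _ = secMap i α'
      apply ModuleCat.hom_ext
      apply LinearMap.ext
      intro x
      have hk := key f θ i j comm F G φ H β' x
      refine hk.trans ?_
      rw [hβ2, hw' x]
      change eQ.hom.hom (b'.hom (vmap f θ i j comm F G φ x)) = _
      rw [hb' x]
    have e2 : φ ≫ (pushforward f).map β' = φ ≫ (pushforward f).map β :=
      (cancel_mono (cIso f θ i j comm H).hom).1 (e1.trans hβ'.symm)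
    have e3 : β' = β := (h H).1 e2
    rw [← e3, hβ2, Category.assoc, Iso.hom_inv_id, Category.comp_id]

/-- the unit of the pullback-pushforward adjunction satisfies base change on affine charts -/
theorem isBC_unit [IsIso (((Scheme.Modules.pullback f).obj F).restrict j).fromTildeΓ] :
    IsBC f θ i j comm F ((Scheme.Modules.pullback f).obj F)
      ((pullbackPushforwardAdjunction f).unit.app F) := by
  apply isBC_of_comp_bijective
  intro H
  have : (fun β : (Scheme.Modules.pullback f).obj F ⟶ (pushforward j).obj H =>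
      (pullbackPushforwardAdjunction f).unit.app F ≫ (pushforward f).map β) =
      ((pullbackPushforwardAdjunction f).homEquiv F ((pushforward j).obj H)) := by
    funext β
    rw [Adjunction.homEquiv_unit]
  rw [this]
  exact Equiv.bijective _

end main

end Groth.Agent.Helper1.AdjBC
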