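import Mathlib

set_option autoImplicit false
set_option maxHeartbeats 400000

universe v' u'

open CategoryTheory Limits

namespace Groth.Agent.Helper1.Adq

section abstractCorefl

variable {𝓜 : Type u'} [Category.{v'} 𝓜] [Abelian 𝓜] (P : ObjectProperty 𝓜)
  [P.IsClosedUnderIsomorphisms]

/-- abstract construction of a coreflection onto a subcategory closed under kernels, cokernels
and biproducts, given functorial covers by objects of the subcategory -/
theorem exists_coreflection
    (hker : ∀ {X Y : 𝓜} (f : X ⟶ Y), P X → P Y → P (kernel f))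
    (hcoker : ∀ {X Y : 𝓜} (f : X ⟶ Y), P X → P Y → P (cokernel f))
    (hbiprod : ∀ X Y : 𝓜, P X → P Y → P (X ⊞ Y))
    (C : 𝓜 → 𝓜) (c : ∀ F, C F ⟶ F) (hC : ∀ F, P (C F)) (hepi : ∀ G, P G → Epi (c G))
    (hlift : ∀ {G F : 𝓜} (γ : G ⟶ F), ∃ l : C G ⟶ C F, l ≫ c F = c G ≫ γ)
    (F : 𝓜) : ∃ (Q : 𝓜) (_ : P Q) (ε : Q ⟶ F), ∀ (G : 𝓜), P G → ∀ (γ : G ⟶ F),
      ∃! β : G ⟶ Q, β ≫ ε = γ := by
  let ρ : C (kernel (c F)) ⟶ C F := c (kernel (c F)) ≫ kernel.ι (c F)
  have hρ : ρ ≫ c F = 0 := by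
    simp only [ρ, Category.assoc, kernel.condition, comp_zero]
  let π := cokernel.π ρ
  let ε : cokernel ρ ⟶ F := cokernel.desc ρ (c F) hρ
  have hπε : π ≫ ε = c F := cokernel.π_desc _ _ _
  have key : ∀ G : 𝓜, P G → ∀ b : G ⟶ C F, b ≫ c F = 0 → b ≫ π = 0 := by
    intro G hG b hb
    have hb' : kernel.lift (c F) b hb ≫ kernel.ι (c F) = b := kernel.lift_ι _ _ _
    obtain ⟨l, hl⟩ := hlift (kernel.lift (c F) b hb)
    haveI := hepi G hG
    rw [← cancel_epi (c G), comp_zero]
    calc c G ≫ b ≫ π = (c G ≫ kernel.lift (c F) b hb) ≫ kernel.ι (c F) ≫ π := by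
          rw [Category.assoc, reassoc_of% hb']
      _ = l ≫ ρ ≫ π := by
          rw [← hl]
          simp only [ρ, Category.assoc]
      _ = 0 := by
          rw [cokernel.condition, comp_zero]
  have hzero : ∀ G : 𝓜, P G → ∀ β : G ⟶ cokernel ρ, β ≫ ε = 0 → β = 0 := by
    intro G hG β hβ
    haveI : Epi π := inferInstanceAs (Epi (cokernel.π ρ))
    have hiso : pullback β π ≅ kernel (biprod.desc β (-π)) :=
      (Abelian.PullbackToBiproductIsKernel.isLimitPullbackToBiproduct β π).conePointUniqueUpToIso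
        (limit.isLimit _)
    have hP : P (pullback β π) :=
      P.prop_of_iso hiso.symm (hker _ (hbiprod G (C F) hG (hC F)) (hcoker ρ (hC _) (hC F)))
    have h1 : pullback.snd β π ≫ c F = 0 := by
      calc pullback.snd β π ≫ c F = pullback.snd β π ≫ π ≫ ε := by rw [hπε]
        _ = (pullback.fst β π ≫ β) ≫ ε := by rw [pullback.condition, Category.assoc]
        _ = 0 := by rw [Category.assoc, hβ, comp_zero]
    have h2 : pullback.snd β π ≫ π = 0 := key _ hP _ h1
    rw [← cancel_epi (pullback.fst β π), pullback.condition, h2, comp_zero]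
  refine ⟨cokernel ρ, hcoker ρ (hC _) (hC F), ε, fun G hG γ => ?_⟩
  obtain ⟨l, hl⟩ := hlift γ
  haveI := hepi G hG
  have hz : kernel.ι (c G) ≫ l ≫ π = 0 := by
    rw [← Category.assoc]
    apply key _ (hker (c G) (hC G) hG)
    rw [Category.assoc, hl, ← Category.assoc, kernel.condition, zero_comp]
  refine ⟨Abelian.epiDesc (c G) (l ≫ π) hz, ?_, ?_⟩
  · change Abelian.epiDesc (c G) (l ≫ π) hz ≫ ε = γ
    rw [← cancel_epi (c G), ← Category.assoc, Abelian.comp_epiDesc, Category.assoc, hπε, hl]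
  · intro β' hβ'
    change β' ≫ ε = γ at hβ'
    have h3 : Abelian.epiDesc (c G) (l ≫ π) hz ≫ ε = γ := by
      rw [← cancel_epi (c G), ← Category.assoc, Abelian.comp_epiDesc, Category.assoc, hπε, hl]
    have h4 : (β' - Abelian.epiDesc (c G) (l ≫ π) hz) ≫ ε = 0 := by
      rw [Preadditive.sub_comp, hβ', h3, sub_self]
    exact sub_eq_zero.1 (hzero G hG _ h4)

end abstractCorefl

section adjoint

variable {𝓜 : Type u'} [Category.{v'} 𝓜] (P : ObjectProperty 𝓜)

theorem isLeftAdjoint_ι_of_coreflection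
    (h : ∀ F : 𝓜, ∃ (Q : 𝓜) (_ : P Q) (ε : Q ⟶ F), ∀ (G : 𝓜), P G → ∀ (γ : G ⟶ F),
      ∃! β : G ⟶ Q, β ≫ ε = γ) : P.ι.IsLeftAdjoint := by
  haveI : ∀ F : 𝓜, HasTerminal (CostructuredArrow P.ι F) := by
    intro F
    obtain ⟨Q, hQ, ε, hε⟩ := h F
    let T : CostructuredArrow P.ι F := CostructuredArrow.mk
      (show P.ι.obj (⟨Q, hQ⟩ : P.FullSubcategory) ⟶ F from ε)
    have hT : IsTerminal T := by
      refine IsTerminal.ofUniqueHom (fun X => ?_) (fun X m => ?_)
      · refine CostructuredArrow.homMk (ObjectProperty.homMk (hε X.left.obj X.left.property X.hom).choose) ?_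
        have := (hε X.left.obj X.left.property X.hom).choose_spec.1
        exact this
      · apply CostructuredArrow.hom_ext
        apply ObjectProperty.hom_ext
        have hm : m.left.hom ≫ ε = X.hom := CostructuredArrow.w m
        exact (hε X.left.obj X.left.property X.hom).choose_spec.2 _ hm
    exact hT.hasTerminal
  exact isLeftAdjoint_of_costructuredArrowTerminals P.ι

end adjoint

end Groth.Agent.Helper1.Adq
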