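import Mathlib
import Groth.Prelude.Def_Adeq
import Groth.Agent.Lib.Helper6.Adeq.Pointwise
import Groth.Agent.Lib.Helper1.Adq7
import Groth.Agent.Lib.Helper1.Adq8

set_option linter.unusedSectionVars false
set_option linter.unusedVariables false
set_option autoImplicit false
set_option maxHeartbeats 400000

universe u

open CategoryTheory Limits TensorProduct

namespace Groth.Agent.Helper1.Adq

variable {A : Type u} [CommRing A]

theorem exists_cover_lift {G F : Adeq.MVF A} (γ : G ⟶ F) :
    ∃ l : (∐ covFam G) ⟶ ∐ covFam F, l ≫ stdCover F = stdCover G ≫ γ := by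
  refine ⟨Sigma.desc (fun q : CovIdx G => Sigma.ι (covFam F) (⟨q.1, q.2 ≫ γ⟩ : CovIdx F)), ?_⟩
  apply Sigma.hom_ext
  intro q
  have h1 : Sigma.ι (covFam G) q ≫ stdCover G = q.2 := ι_stdCover G q
  have h2 : Sigma.ι (covFam G) q ≫
      Sigma.desc (fun q : CovIdx G => Sigma.ι (covFam F) (⟨q.1, q.2 ≫ γ⟩ : CovIdx F)) =
      Sigma.ι (covFam F) (⟨q.1, q.2 ≫ γ⟩ : CovIdx F) := Sigma.ι_desc _ _
  have h3 : Sigma.ι (covFam F) (⟨q.1, q.2 ≫ γ⟩ : CovIdx F) ≫ stdCover F = q.2 ≫ γ :=
    ι_stdCover F _
  exact (Category.assoc _ _ _).symm.trans ((congrArg (· ≫ stdCover F) h2).trans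
    (h3.trans ((congrArg (· ≫ γ) h1).symm.trans (Category.assoc _ _ _))))

/-- **the inclusion of adequate functors has a right adjoint** -/
theorem isLeftAdjoint_adequate_ι : (Adeq.adequate A).ι.IsLeftAdjoint := by
  apply isLeftAdjoint_ι_of_coreflection
  intro F
  exact exists_coreflection (Adeq.adequate A)
    (fun f hX hY => adequate_kernel f hX hY)
    (fun f hX hY => adequate_cokernel f hX hY)
    (fun X Y hX hY => adequate_biprod X Y hX hY)
    (fun F => ∐ covFam F) (fun F => stdCover F) (fun F => adequate_stdCoprod F)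
    (fun G hG => stdCover_epi G hG) (fun γ => exists_cover_lift γ) F

end Groth.Agent.Helper1.Adq
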