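import Mathlib
import Groth.Prelude.Def_Adeq
import Groth.Agent.Lib.Helper1.Adq9
import Groth.Agent.S8754

set_option linter.unusedSectionVars false
set_option linter.unusedVariables false
set_option autoImplicit false
set_option maxHeartbeats 400000

universe u

open CategoryTheory Limits TensorProduct

namespace Groth.Agent.Helper1.Adq

variable {A : Type u} [CommRing A]

/-- the inclusion of adequate functors preserves monomorphisms (kernels are adequate) -/
theorem preservesMono_adequate_ι : (Adeq.adequate A).ι.PreservesMonomorphisms := by
  constructor
  intro G G' f hf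
  apply Preadditive.mono_of_kernel_zero
  let K : Adeq.Adequate A := ⟨kernel f.hom, adequate_kernel f.hom G.property G'.property⟩
  let k : K ⟶ G := ObjectProperty.homMk (kernel.ι f.hom)
  let k' : K ⟶ G := ObjectProperty.homMk 0
  have hkk : k ≫ f = k' ≫ f := by
    apply ObjectProperty.hom_ext
    change kernel.ι f.hom ≫ f.hom = 0 ≫ f.hom
    rw [kernel.condition, zero_comp]
  have := (cancel_mono f).1 hkk
  have h2 := congrArg (fun t => t.hom) this
  exact h2

theorem enoughInjectives_adequate : EnoughInjectives (Adeq.Adequate A) := by
  haveI := Groth.Agent.S8754.result A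
  haveI : (Adeq.adequate A).ι.IsLeftAdjoint := isLeftAdjoint_adequate_ι
  haveI : (Adeq.adequate A).ι.PreservesMonomorphisms := preservesMono_adequate_ι
  exact EnoughInjectives.of_adjunction (Adjunction.ofIsLeftAdjoint (Adeq.adequate A).ι)

end Groth.Agent.Helper1.Adq
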