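import Mathlib
import Groth.Prelude.Def_Adeq2
import Groth.Agent.Lib.Helper1.AdqH5

set_option autoImplicit false
set_option linter.unusedSectionVars false
set_option linter.unusedVariables false
set_option maxHeartbeats 400000
universe u
open CategoryTheory CategoryTheory.Limits AlgebraicGeometry Opposite TensorProduct

namespace Groth.Agent.Helper1.AdqH

open Groth.Agent.Helper1.Adq Groth.Agent.Helper1.AdqS Groth.Agent.Lib.Helper6.Adeq
  Groth.Agent.Helper1.SigSh Groth.Agent.Helper1.AdqP

section Gen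

variable {R : Type u} [CommRing R] (B : Type u) [CommRing B] [Algebra R B]

theorem descent_inj (F : Adeq.MVF R) (hF : Adeq.adequate R F) [Module.FaithfullyFlat R B] :
    Function.Injective (mvfMap F (i0 R B)) :=
  (adequate_descent F hF B).1

theorem descent_surj (F : Adeq.MVF R) (hF : Adeq.adequate R F) [Module.FaithfullyFlat R B]
    (y : F.obj (Adeq.pt (Adeq.algOf R B))) (hy : mvfMap F (i1 R B) y = mvfMap F (i2 R B) y) :
    ∃ x : F.obj (Adeq.pt (Adeq.algOf R R)), mvfMap F (i0 R B) x = y :=
  (adequate_descent F hF B).2 y hy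

end Gen

section Shf

variable {S : Scheme.{u}}
  (P : PresheafOfModules.{u + 1} (BigSite.ORing Scheme.fppfPrecoverage S).obj)

/-- the sheafification -/
noncomputable abbrev shf : BigSite.Mod Scheme.fppfPrecoverage S :=
  (PresheafOfModules.sheafification (𝟙 (BigSite.ORing Scheme.fppfPrecoverage S).obj)).obj P

/-- the unit -/
noncomputable abbrev eta : P ⟶ (PresheafOfModules.restrictScalars
    (𝟙 (BigSite.ORing Scheme.fppfPrecoverage S).obj)).obj (shf P).val :=
  PresheafOfModules.toSheafify (𝟙 _)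
    (CategoryTheory.toSheafify (QuotSh.J Scheme.fppfPrecoverage S) P.presheaf)

/-- the abelian presheaf map -/
noncomputable abbrev tau : P.presheaf ⟶ (shf P).val.presheaf :=
  CategoryTheory.toSheafify (QuotSh.J Scheme.fppfPrecoverage S) P.presheaf

noncomputable def theta {R : CommRingCat.{u}} (a : Spec R ⟶ S) :
    (Adeq.toMVFPre Scheme.fppfPrecoverage a).obj P ⟶
      (Adeq.toMVF Scheme.fppfPrecoverage a).obj (shf P) :=
  PresheafOfModules.homMk
    (Functor.whiskerLeft (Adeq.specOver a).op (tau P))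
    (by
      intro X r m
      exact ((eta P).app (op ((Adeq.specOver a).obj (op X.unop.unop)))).hom.map_smul
        (Adeq.toSect Scheme.fppfPrecoverage a X.unop.unop r) m)


theorem theta_app_apply {R : CommRingCat.{u}} (a : Spec R ⟶ S) (D : Adeq.Alg R)
    (x : ((Adeq.toMVFPre Scheme.fppfPrecoverage a).obj P).obj (Adeq.pt D)) :
    (theta P a).app (Adeq.pt D) x = (tau P).app (op ((Adeq.specOver a).obj (op D))) x := rfl

theorem mvfMap_toMVFPre {R : CommRingCat.{u}} (a : Spec R ⟶ S) {B B' : Adeq.Alg R} (g : B ⟶ B')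
    (x : ((Adeq.toMVFPre Scheme.fppfPrecoverage a).obj P).obj (Adeq.pt B)) :
    mvfMap ((Adeq.toMVFPre Scheme.fppfPrecoverage a).obj P) g x =
      P.presheaf.map ((Adeq.specOver a).map g.op).op x := rfl

/-- transport of injectivity along an isomorphism of objects -/
theorem inj_of_iso' {F G : (Over S)ᵒᵖ ⥤ Ab.{u + 1}} (φ : F ⟶ G) {U V : Over S} (e₁ : U ⟶ V)
    (e₂ : V ⟶ U) (he : e₂ ≫ e₁ = 𝟙 V) (hU : Function.Injective (φ.app (op U))) :
    Function.Injective (φ.app (op V)) := by
  intro x y hxy
  have h1 : φ.app (op U) (F.map e₁.op x) = φ.app (op U) (F.map e₁.op y) := by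
    rw [NatTrans.naturality_apply, NatTrans.naturality_apply, hxy]
  have h2 := congrArg (F.map e₂.op) (hU h1)
  rw [← Functor.map_comp_apply, ← Functor.map_comp_apply, ← op_comp, he, op_id, F.map_id] at h2
  exact h2

theorem surj_of_iso' {F G : (Over S)ᵒᵖ ⥤ Ab.{u + 1}} (φ : F ⟶ G) {U V : Over S} (e₁ : U ⟶ V)
    (e₂ : V ⟶ U) (he : e₂ ≫ e₁ = 𝟙 V) (hU : Function.Surjective (φ.app (op U))) :
    Function.Surjective (φ.app (op V)) := by
  intro y
  obtain ⟨x, hx⟩ := hU (G.map e₁.op y)
  refine ⟨F.map e₂.op x, ?_⟩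
  rw [NatTrans.naturality_apply, hx, ← Functor.map_comp_apply, ← op_comp, he, op_id, G.map_id]
  rfl



/-- injectivity of the sheafification map on the base object of an affine chart -/
theorem tau_inj_base {R : CommRingCat.{u}} (a : Spec R ⟶ S)
    (hF : Adeq.adequate R ((Adeq.toMVFPre Scheme.fppfPrecoverage a).obj P))
    (x : P.presheaf.obj (op ((Adeq.specOver a).obj (op (Adeq.algOf R R)))))
    (hx : (CategoryTheory.toSheafify (QuotSh.J Scheme.fppfPrecoverage S) P.presheaf).app
      (op ((Adeq.specOver a).obj (op (Adeq.algOf R R)))) x = 0) : x = 0 := by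
  let F := (Adeq.toMVFPre Scheme.fppfPrecoverage a).obj P
  let U0 : Over S := (Adeq.specOver a).obj (op (Adeq.algOf R R))
  have hT : Presheaf.equalizerSieve (F := P.presheaf) (X := op U0) x 0 ∈
      QuotSh.J Scheme.fppfPrecoverage S U0 :=
    Presheaf.equalizerSieve_mem _
      (CategoryTheory.toSheafify (QuotSh.J Scheme.fppfPrecoverage S) P.presheaf) x 0
      (by rw [hx, map_zero])
  refine product_cover_elim a _ hT ?_
  intro κ _ A _ _ hff hcov hTk hopen hsurj hdisj
  let x' : F.obj (Adeq.pt (Adeq.algOf R R)) := x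
  have h1 : ∀ k, mvfMap F (i0 R (A k)) x' = 0 := by
    intro k
    have h2 : P.presheaf.map ((Adeq.specOver a).map (i0 R (A k)).op).op x =
      P.presheaf.map ((Adeq.specOver a).map (i0 R (A k)).op).op 0 := hTk k
    rw [map_zero] at h2
    exact h2
  have h3 : mvfMap F (i0 R (∀ k, A k)) x' = 0 := by
    apply adequate_pi_inj A F hF
    intro k
    have e : mvfMap F (evA A k) (mvfMap F (i0 R (∀ k, A k)) x') = mvfMap F (i0 R (A k)) x' := by
      rw [← mvfMap_comp]
      exact mvfMap_congr R F (hom_from_base_ext _ _) x'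
    exact e.trans (h1 k)
  have h4 : Function.Injective (mvfMap F (i0 R (∀ k, A k))) := descent_inj (∀ k, A k) F hF
  have h5 : x' = 0 := h4 (h3.trans (mvfMap_zero F (i0 R (∀ k, A k))).symm)
  exact h5

/-- injectivity of the sheafification map on every affine object -/
theorem tau_inj
    (h : ∀ (R : CommRingCat.{u}) (a : Spec R ⟶ S),
      Adeq.adequate R ((Adeq.toMVFPre Scheme.fppfPrecoverage a).obj P))
    {R : CommRingCat.{u}} (a : Spec R ⟶ S) (D : Adeq.Alg R) :
    Function.Injective
      ((CategoryTheory.toSheafify (QuotSh.J Scheme.fppfPrecoverage S) P.presheaf).app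
        (op ((Adeq.specOver a).obj (op D)))) := by
  let a' : Spec (CommRingCat.of D) ⟶ S := Spec.map (CommRingCat.ofHom (algebraMap R D)) ≫ a
  have hh : Spec.map (CommRingCat.ofHom (algebraMap D D)) ≫ a' = a' := by
    rw [Algebra.algebraMap_self, CommRingCat.ofHom_id, Spec.map_id, Category.id_comp]
  have hU : Function.Injective
      ((CategoryTheory.toSheafify (QuotSh.J Scheme.fppfPrecoverage S) P.presheaf).app
        (op (Over.mk (Spec.map (CommRingCat.ofHom (algebraMap D D)) ≫ a')))) := by
    rw [injective_iff_map_eq_zero]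
    intro x hx
    exact tau_inj_base P a' (h _ a') x hx
  change Function.Injective
    ((CategoryTheory.toSheafify (QuotSh.J Scheme.fppfPrecoverage S) P.presheaf).app
      (op (Over.mk a')))
  exact inj_of_iso' _ (tr hh) (tr hh.symm) (tr_symm_tr hh) hU

theorem theta_inj
    (h : ∀ (R : CommRingCat.{u}) (a : Spec R ⟶ S),
      Adeq.adequate R ((Adeq.toMVFPre Scheme.fppfPrecoverage a).obj P))
    {R : CommRingCat.{u}} (a : Spec R ⟶ S) (D : Adeq.Alg R) :
    Function.Injective ((theta P a).app (Adeq.pt D)) :=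
  fun x y hxy => tau_inj P h a D hxy

theorem theta_surj_base
    (h : ∀ (R : CommRingCat.{u}) (a : Spec R ⟶ S),
      Adeq.adequate R ((Adeq.toMVFPre Scheme.fppfPrecoverage a).obj P))
    {R : CommRingCat.{u}} (a : Spec R ⟶ S)
    (y : ((Adeq.toMVF Scheme.fppfPrecoverage a).obj (shf P)).obj (Adeq.pt (Adeq.algOf R R))) :
    ∃ x : ((Adeq.toMVFPre Scheme.fppfPrecoverage a).obj P).obj (Adeq.pt (Adeq.algOf R R)),
      (theta P a).app (Adeq.pt (Adeq.algOf R R)) x = y := by
  let F := (Adeq.toMVFPre Scheme.fppfPrecoverage a).obj P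
  let G := (Adeq.toMVF Scheme.fppfPrecoverage a).obj (shf P)
  let θ : F ⟶ G := theta P a
  have hF := h R a
  let U0 : Over S := (Adeq.specOver a).obj (op (Adeq.algOf R R))
  let y' : (CategoryTheory.sheafify (QuotSh.J Scheme.fppfPrecoverage S) P.presheaf).obj (op U0) := y
  have hT : Presheaf.imageSieve
      (CategoryTheory.toSheafify (QuotSh.J Scheme.fppfPrecoverage S) P.presheaf) y' ∈
      QuotSh.J Scheme.fppfPrecoverage S U0 :=
    Presheaf.imageSieve_mem _
      (CategoryTheory.toSheafify (QuotSh.J Scheme.fppfPrecoverage S) P.presheaf) y'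
  refine product_cover_elim a _ hT ?_
  intro κ _ A _ _ hff hcov hTk hopen hsurj hdisj
  have hl : ∀ k, ∃ xk : F.obj (Adeq.pt (Adeq.algOf R (A k))),
      θ.app (Adeq.pt (Adeq.algOf R (A k))) xk = mvfMap G (i0 R (A k)) y := by
    intro k
    obtain ⟨t, ht⟩ := hTk k
    exact ⟨t, ht⟩
  choose xk hxk using hl
  obtain ⟨x', hx'⟩ := adequate_pi_surj A F hF xk
  let B : Type u := ∀ k, A k
  let U1 : Over S := (Adeq.specOver a).obj (op (Adeq.algOf R B))
  let W : κ → Over S := fun k => (Adeq.specOver a).obj (op (Adeq.algOf R (A k)))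
  let n : ∀ k, W k ⟶ U1 := fun k => (Adeq.specOver a).map (evA A k).op
  have hg : θ.app (Adeq.pt (Adeq.algOf R B)) x' = mvfMap G (i0 R B) y := by
    have hsep := (presieve_isSheaf Scheme.fppfPrecoverage (shf P)).isSeparated _
      (ofArrows_mem_J_of_open Scheme.fppfPrecoverage Scheme.zariskiPrecoverage_le_fppfPrecoverage
        U1 W n hopen hsurj)
    refine hsep.ext (fun Y f hf => ?_)
    obtain ⟨Z, g, g', ⟨k⟩, rfl⟩ := hf
    have key : mvfMap G (evA A k) (θ.app (Adeq.pt (Adeq.algOf R B)) x') =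
        mvfMap G (evA A k) (mvfMap G (i0 R B) y) := by
      rw [← mvfMap_nat θ, hx', hxk, ← mvfMap_comp]
      exact mvfMap_congr R G (hom_from_base_ext _ _) y
    rw [op_comp, CategoryTheory.Functor.map_comp_apply, CategoryTheory.Functor.map_comp_apply]
    congr 1
  haveI : Module.FaithfullyFlat R B := hff
  have hc : mvfMap F (i1 R B) x' = mvfMap F (i2 R B) x' := by
    apply theta_inj P h a (Adeq.algOf R (B ⊗[R] B))
    rw [mvfMap_nat θ, mvfMap_nat θ, hg, ← mvfMap_comp, ← mvfMap_comp]
    exact mvfMap_congr R G (hom_from_base_ext _ _) y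
  obtain ⟨x, hx⟩ := descent_surj B F hF x' hc
  refine ⟨x, ?_⟩
  have hsep := (presieve_isSheaf Scheme.fppfPrecoverage (shf P)).isSeparated _ hcov
  refine hsep.ext (fun Y f hf => ?_)
  obtain ⟨Z, g, g', ⟨⟩, rfl⟩ := hf
  have key : mvfMap G (i0 R B) (θ.app (Adeq.pt (Adeq.algOf R R)) x) = mvfMap G (i0 R B) y := by
    rw [← mvfMap_nat θ, hx, hg]
  rw [op_comp, CategoryTheory.Functor.map_comp_apply, CategoryTheory.Functor.map_comp_apply]
  congr 1

theorem theta_surj
    (h : ∀ (R : CommRingCat.{u}) (a : Spec R ⟶ S),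
      Adeq.adequate R ((Adeq.toMVFPre Scheme.fppfPrecoverage a).obj P))
    {R : CommRingCat.{u}} (a : Spec R ⟶ S) (D : Adeq.Alg R) :
    Function.Surjective ((theta P a).app (Adeq.pt D)) := by
  let a' : Spec (CommRingCat.of D) ⟶ S := Spec.map (CommRingCat.ofHom (algebraMap R D)) ≫ a
  have hh : Spec.map (CommRingCat.ofHom (algebraMap D D)) ≫ a' = a' := by
    rw [Algebra.algebraMap_self, CommRingCat.ofHom_id, Spec.map_id, Category.id_comp]
  have hU : Function.Surjective
      ((tau P).app (op (Over.mk (Spec.map (CommRingCat.ofHom (algebraMap D D)) ≫ a')))) :=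
    fun y => theta_surj_base P h a' y
  change Function.Surjective ((tau P).app (op (Over.mk a')))
  exact surj_of_iso' _ (tr hh) (tr hh.symm) (tr_symm_tr hh) hU

theorem theta_isIso
    (h : ∀ (R : CommRingCat.{u}) (a : Spec R ⟶ S),
      Adeq.adequate R ((Adeq.toMVFPre Scheme.fppfPrecoverage a).obj P))
    {R : CommRingCat.{u}} (a : Spec R ⟶ S) : IsIso (theta P a) := by
  haveI : Mono (theta P a) :=
    PresheafOfModules.mono_of_injective (fun X => theta_inj P h a X.unop.unop)
  haveI : Epi (theta P a) :=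
    PresheafOfModules.epi_of_surjective (fun X => theta_surj P h a X.unop.unop)
  exact isIso_of_mono_of_epi _

/-- **the sheafification of a presheaf of modules with adequate values is adequate** -/
theorem adequateMod_sheafification
    (h : ∀ (R : CommRingCat.{u}) (a : Spec R ⟶ S),
      Adeq.adequate R ((Adeq.toMVFPre Scheme.fppfPrecoverage a).obj P)) :
    Adeq.adequateMod Scheme.fppfPrecoverage S
      ((PresheafOfModules.sheafification
        (𝟙 (BigSite.ORing Scheme.fppfPrecoverage S).obj)).obj P) := by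
  apply adequateMod_of_forall
  intro R a
  haveI := theta_isIso P h a
  exact (Adeq.adequate R).prop_of_iso (asIso (theta P a)) (h R a)

end Shf

end Groth.Agent.Helper1.AdqH
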