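import Mathlib
import Groth.Prelude.Def_Adeq2
import Groth.Agent.Lib.Helper1.AdqH6

set_option autoImplicit false
set_option linter.unusedSectionVars false
set_option linter.unusedVariables false
set_option maxHeartbeats 400000
universe u
open CategoryTheory CategoryTheory.Limits AlgebraicGeometry Opposite TensorProduct

namespace Groth.Agent.Helper1.AdqH

open Groth.Agent.Helper1.Adq Groth.Agent.Helper1.AdqS Groth.Agent.Lib.Helper6.Adeq
  Groth.Agent.Helper1.SigSh Groth.Agent.Helper1.AdqP

section Colim

variable {S : Scheme.{u}} {R : CommRingCat.{u}} (a : Spec R ⟶ S)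

theorem toMVFPre_preservesColimit {J : Type (u + 1)} [SmallCategory J]
    (E : J ⥤ PresheafOfModules.{u + 1} (BigSite.ORing Scheme.fppfPrecoverage S).obj) :
    PreservesColimit E (Adeq.toMVFPre Scheme.fppfPrecoverage a) :=
  ⟨fun {c} hc => ⟨PresheafOfModules.evaluationJointlyReflectsColimits _ _ (fun X =>
    isColimitOfPreserves (ModuleCat.restrictScalars
      (Adeq.toSect Scheme.fppfPrecoverage a X.unop.unop))
      (isColimitOfPreserves (PresheafOfModules.evaluation _
        (op ((Adeq.specOver a).obj (op X.unop.unop)))) hc))⟩⟩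


/-- **colimits of adequate modules are adequate** -/
theorem adequateMod_colimit {J : Type (u + 1)} [SmallCategory J]
    (D : J ⥤ BigSite.Mod Scheme.fppfPrecoverage S)
    (hD : ∀ j, Adeq.adequateMod Scheme.fppfPrecoverage S (D.obj j)) :
    Adeq.adequateMod Scheme.fppfPrecoverage S (colimit D) := by
  let R₀ := BigSite.ORing Scheme.fppfPrecoverage S
  let L := PresheafOfModules.sheafification.{u + 1} (𝟙 R₀.obj)
  let E : J ⥤ PresheafOfModules.{u + 1} R₀.obj := D ⋙ SheafOfModules.forget R₀
  let e : D ≅ E ⋙ L := Functor.isoWhiskerLeft D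
    (asIso (PresheafOfModules.sheafificationAdjunction (𝟙 R₀.obj)).counit).symm
  have i1 : colimit D ≅ colimit (E ⋙ L) := HasColimit.isoOfNatIso e
  have i2 : L.obj (colimit E) ≅ colimit (E ⋙ L) := preservesColimitIso L E
  have hP : ∀ (R : CommRingCat.{u}) (a : Spec R ⟶ S),
      Adeq.adequate R ((Adeq.toMVFPre Scheme.fppfPrecoverage a).obj (colimit E)) := by
    intro R a
    haveI := toMVFPre_preservesColimit a E
    have i3 : (Adeq.toMVFPre Scheme.fppfPrecoverage a).obj (colimit E) ≅
        colimit (E ⋙ Adeq.toMVFPre Scheme.fppfPrecoverage a) := preservesColimitIso _ _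
    refine (Adeq.adequate R).prop_of_iso i3.symm ?_
    exact adequate_colimit (E ⋙ Adeq.toMVFPre Scheme.fppfPrecoverage a)
      (fun j => adequate_toMVF_fppf S (D.obj j) (hD j) R a)
  have h1 := adequateMod_sheafification (colimit E) hP
  exact (Adeq.adequateMod Scheme.fppfPrecoverage S).prop_of_iso (i2 ≪≫ i1.symm) h1

end Colim

end Groth.Agent.Helper1.AdqH
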