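import Mathlib
import Groth.Prelude.Def_Adeq2
import Groth.Agent.Lib.Helper1.AdqP4

set_option autoImplicit false
set_option linter.unusedSectionVars false
set_option linter.unusedVariables false
set_option maxHeartbeats 400000
universe u
open CategoryTheory CategoryTheory.Limits AlgebraicGeometry Opposite TensorProduct

namespace Groth.Agent.Helper1.AdqP

open Groth.Agent.Helper1.Adq Groth.Agent.Helper1.AdqS

theorem sect_ext_of_locally (K : Precoverage Scheme.{u}) [BigSite.OSh K] {S : Scheme.{u}}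
    (M : BigSite.Mod K S) (U : Over S) (s s' : BigSite.sectMod K M U)
    (R : Sieve U) (hR : R ∈ QuotSh.J K S U)
    (h : ∀ ⦃V : Over S⦄ (i : V ⟶ U), R i → M.val.map i.op s = M.val.map i.op s') : s = s' := by
  have hsep := (M.isSheaf).isSeparated
  exact hsep U R hR s s' (fun V i hi => h i hi)

variable (K : Precoverage Scheme.{u}) [BigSite.OSh K] (hK : Scheme.zariskiPrecoverage ≤ K)
  {S T : Scheme.{u}} (f : T ⟶ S)
  (M : BigSite.Mod K T) {R : CommRingCat.{u}} (a : Spec R ⟶ S)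
  {I : Type*} (A : I → Type u) [∀ i, CommRing (A i)] [∀ i, Algebra R (A i)]
  (t : ∀ i, Spec (CommRingCat.of (A i)) ⟶ pullback a f)
  (ht : ∀ i, t i ≫ pullback.fst a f = Spec.map (CommRingCat.ofHom (algebraMap R (A i))))
  [hopen : ∀ i, IsOpenImmersion (t i)]
  (hcov : ∀ x : ↥(pullback a f), ∃ i, x ∈ Set.range (t i))

include hK hcov in
theorem theta_cover (B : Adeq.Alg R) :
    Sieve.ofArrows (fun i => WW (A i) (cb f a (A i) (t i)) B)
      (fun i => thetaC f a (A i) (t i) (ht i) B) ∈ QuotSh.J K T (VV f a B) := by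
  refine ofArrows_mem_J_of_open K hK _ _ _ (fun i => isOpenImmersion_theta f a (A i) (t i) (ht i) B)
    (fun v => ?_)
  obtain ⟨i, y, hy⟩ := hcov ((qq a f (sm B)) v)
  obtain ⟨z, hz1, hz2⟩ := exists_preimage_of_isPullback (isPullback_thetaL f a (A i) (t i) (ht i) B)
    y v hy
  exact ⟨i, z, hz2⟩

include hK hcov in
theorem push_inj (B : Adeq.Alg R) (x : M.val.obj (op (VV f a B)))
    (h : ∀ i, M.val.map (thetaC f a (A i) (t i) (ht i) B).op x = 0) : x = 0 := by
  apply sect_eq_zero_of_locally K M (VV f a B) x _ (theta_cover K hK f a A t ht hcov B)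
  intro V g hg
  obtain ⟨W, g', f', hf, rfl⟩ := hg
  obtain ⟨i⟩ := hf
  rw [op_comp, PresheafOfModules.map_comp_apply]
  exact (congrArg (M.val.map g'.op) (h i)).trans (map_zero (M.val.map g'.op).hom)

variable {Kp : I → I → Type*} (D : ∀ i j, Kp i j → Type u) [∀ i j k, CommRing (D i j k)]
  [∀ i j k, Algebra R (D i j k)]
  (td : ∀ i j k, Spec (CommRingCat.of (D i j k)) ⟶ pullback a f)
  (htd : ∀ i j k, td i j k ≫ pullback.fst a f =
    Spec.map (CommRingCat.ofHom (algebraMap R (D i j k))))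
  [hopenD : ∀ i j k, IsOpenImmersion (td i j k)]
  (χ₁ : ∀ i j k, A i →ₐ[R] D i j k) (χ₂ : ∀ i j k, A j →ₐ[R] D i j k)
  (hχ₁ : ∀ i j k, td i j k = Spec.map (CommRingCat.ofHom (χ₁ i j k).toRingHom) ≫ t i)
  (hχ₂ : ∀ i j k, td i j k = Spec.map (CommRingCat.ofHom (χ₂ i j k).toRingHom) ≫ t j)
  (hcovD : ∀ i j (x : ↥(pullback a f)), x ∈ Set.range (t i) → x ∈ Set.range (t j) →
    ∃ k, x ∈ Set.range (td i j k))

include hK hcovD in
theorem ek_cover (B : Adeq.Alg R) (i j : I) {Z : Over T}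
    (g₁ : Z ⟶ WW (A i) (cb f a (A i) (t i)) B) (g₂ : Z ⟶ WW (A j) (cb f a (A j) (t j)) B)
    (hg : g₁ ≫ thetaC f a (A i) (t i) (ht i) B = g₂ ≫ thetaC f a (A j) (t j) (ht j) B) :
    Sieve.ofArrows (fun k => Zk f a (A i) (D i j k) (t i) (td i j k) B g₁)
      (fun k => ek f a (A i) (D i j k) (t i) (td i j k) B g₁) ∈ QuotSh.J K T Z := by
  refine ofArrows_mem_J_of_open K hK _ _ _ (fun k => ?_) (fun z => ?_)
  · change IsOpenImmersion (pullback.fst (zX f a (A i) (t i) B (gL f a (A i) (t i) B g₁)) (td i j k))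
    infer_instance
  · have h1 : (zX f a (A i) (t i) B (gL f a (A i) (t i) B g₁)) z ∈ Set.range (t i) :=
      ⟨(gL f a (A i) (t i) B g₁ ≫ Spec.map (lR R (A i) B)) z, by
        rw [← Scheme.Hom.comp_apply]
        simp only [zX, Category.assoc]⟩
    have h2 : (zX f a (A i) (t i) B (gL f a (A i) (t i) B g₁)) z ∈ Set.range (t j) := by
      rw [zX_eq f a (A i) (A j) (t i) (t j) (ht i) (ht j) B (gL f a (A i) (t i) B g₁)
        (gL f a (A j) (t j) B g₂) (gL_eq f a (A i) (A j) (t i) (t j) (ht i) (ht j) B g₁ g₂ hg)]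
      exact ⟨(gL f a (A j) (t j) B g₂ ≫ Spec.map (lR R (A j) B)) z, by
        rw [← Scheme.Hom.comp_apply]
        simp only [zX, Category.assoc]⟩
    obtain ⟨k, w, hw⟩ := hcovD i j _ h1 h2
    obtain ⟨p, hp1, hp2⟩ := Scheme.Pullback.exists_preimage_pullback
      (f := zX f a (A i) (t i) B (gL f a (A i) (t i) B g₁)) (g := td i j k) z w hw.symm
    exact ⟨k, p, hp1⟩

include hK hcov hcovD htd in
theorem push_glue (B : Adeq.Alg R)
    (y : ∀ i, M.val.obj (op (WW (A i) (cb f a (A i) (t i)) B)))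
    (hy : ∀ i j k,
      M.val.map (rhoC f a (A i) (D i j k) (t i) (td i j k) (χ₁ i j k) (hχ₁ i j k) B).op (y i) =
        M.val.map (rhoC f a (A j) (D i j k) (t j) (td i j k) (χ₂ i j k) (hχ₂ i j k) B).op (y j)) :
    ∃ x : M.val.obj (op (VV f a B)),
      ∀ i, M.val.map (thetaC f a (A i) (t i) (ht i) B).op x = y i := by
  have hsh : Presieve.IsSheaf (QuotSh.J K T) (M.val.presheaf ⋙ forget Ab) :=
    (isSheaf_iff_isSheaf_of_type _ _).1
      ((Presheaf.isSheaf_iff_isSheaf_forget _ _ (forget _)).1 M.isSheaf)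
  have h1 := hsh.isSheafFor _ (theta_cover K hK f a A t ht hcov B)
  rw [Presieve.isSheafFor_arrows_iff] at h1
  obtain ⟨x, hx, -⟩ := h1 y (by
    intro i j Z g₁ g₂ hg
    change M.val.map g₁.op (y i) = M.val.map g₂.op (y j)
    apply sect_ext_of_locally K M Z _ _ _ (ek_cover K hK f a A t ht D td hcovD B i j g₁ g₂ hg)
    intro V e he
    obtain ⟨W, e', f', hf, rfl⟩ := he
    obtain ⟨k⟩ := hf
    rw [op_comp, PresheafOfModules.map_comp_apply, PresheafOfModules.map_comp_apply]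
    congr 1
    haveI : Mono (t i) := inferInstance
    haveI : Mono (t j) := inferInstance
    exact compat_one K f M a (A i) (A j) (D i j k) (t i) (t j) (td i j k) (ht i) (ht j)
      (htd i j k) (χ₁ i j k) (χ₂ i j k) (hχ₁ i j k) (hχ₂ i j k) B g₁ g₂ hg (y i) (y j) (hy i j k))
  exact ⟨x, hx⟩

end Groth.Agent.Helper1.AdqP
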