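import Mathlib
import Groth.Prelude.Def_Adeq2
import Groth.Agent.Lib.Helper1.AdqP5

set_option autoImplicit false
set_option linter.unusedSectionVars false
set_option linter.unusedVariables false
set_option maxHeartbeats 400000
universe u
open CategoryTheory CategoryTheory.Limits AlgebraicGeometry Opposite TensorProduct

namespace Groth.Agent.Helper1.AdqP

open Groth.Agent.Helper1.Adq Groth.Agent.Helper1.AdqS Groth.Agent.Lib.Helper6.Adeq

variable (K : Precoverage Scheme.{u}) [BigSite.OSh K] (hK : Scheme.zariskiPrecoverage ≤ K)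
  {S T : Scheme.{u}} (f : T ⟶ S)
  (M : BigSite.Mod K T) {R : CommRingCat.{u}} (a : Spec R ⟶ S)

section One

variable (A D : Type u) [CommRing A] [Algebra R A] [CommRing D] [Algebra R D]
  (t : Spec (CommRingCat.of A) ⟶ pullback a f) (td : Spec (CommRingCat.of D) ⟶ pullback a f)
  (ht : t ≫ pullback.fst a f = Spec.map (CommRingCat.ofHom (algebraMap R A)))
  (htd : td ≫ pullback.fst a f = Spec.map (CommRingCat.ofHom (algebraMap R D)))
  (χ : A →ₐ[R] D) (hχ : td = Spec.map (CommRingCat.ofHom χ.toRingHom) ≫ t)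

/-- the map `F → G_A` for a chart -/
noncomputable abbrev alphaC :
    (Adeq.toMVF K a).obj ((BigSite.pushMod K f).obj M) ⟶
      (Adeq.push R A).obj ((Adeq.toMVF K (cb f a A t)).obj M) :=
  unitHom K f M a A (cb f a A t) (cb_comm f a A t ht)

/-- the map `G_A → G_D` for a morphism of charts -/
noncomputable abbrev betaC :
    (Adeq.push R A).obj ((Adeq.toMVF K (cb f a A t)).obj M) ⟶
      (Adeq.push R D).obj ((Adeq.toMVF K (cb f a D td)).obj M) :=
  resHom K M A D χ (cb f a A t) (cb f a D td) (cb_chi f a A D t td χ hχ)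

theorem alpha_beta :
    alphaC K f M a A t ht ≫ betaC K f M a A D t td χ hχ = alphaC K f M a D td htd := by
  ext X x
  change M.val.map (rhoC f a A D t td χ hχ X.unop.unop).op
      (M.val.map (thetaC f a A t ht X.unop.unop).op x) =
    M.val.map (thetaC f a D td htd X.unop.unop).op x
  rw [map_map_apply, rhoC_thetaC f a A D t td ht htd χ hχ X.unop.unop]

end One

section Charts

variable {I : Type (u + 1)} [Fintype I] (A : I → Type u) [∀ i, CommRing (A i)]
  [∀ i, Algebra R (A i)]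
  (t : ∀ i, Spec (CommRingCat.of (A i)) ⟶ pullback a f)
  (ht : ∀ i, t i ≫ pullback.fst a f = Spec.map (CommRingCat.ofHom (algebraMap R (A i))))
  [hopen : ∀ i, IsOpenImmersion (t i)]
  (hcov : ∀ x : ↥(pullback a f), ∃ i, x ∈ Set.range (t i))
  {Kp : I → I → Type (u + 1)} [∀ i j, Fintype (Kp i j)]
  (D : ∀ i j, Kp i j → Type u) [∀ i j k, CommRing (D i j k)]
  [∀ i j k, Algebra R (D i j k)]
  (td : ∀ i j k, Spec (CommRingCat.of (D i j k)) ⟶ pullback a f)
  (htd : ∀ i j k, td i j k ≫ pullback.fst a f =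
    Spec.map (CommRingCat.ofHom (algebraMap R (D i j k))))
  [hopenD : ∀ i j k, IsOpenImmersion (td i j k)]
  (χ₁ : ∀ i j k, A i →ₐ[R] D i j k) (χ₂ : ∀ i j k, A j →ₐ[R] D i j k)
  (hχ₁ : ∀ i j k, td i j k = Spec.map (CommRingCat.ofHom (χ₁ i j k).toRingHom) ≫ t i)
  (hχ₂ : ∀ i j k, td i j k = Spec.map (CommRingCat.ofHom (χ₂ i j k).toRingHom) ≫ t j)
  (hcovD : ∀ i j (x : ↥(pullback a f)), x ∈ Set.range (t i) → x ∈ Set.range (t j) →
    ∃ k, x ∈ Set.range (td i j k))
  (hF : ∀ (R' : CommRingCat.{u}) (b : Spec R' ⟶ T), Adeq.adequate R' ((Adeq.toMVF K b).obj M))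

include hK ht htd hcov hχ₁ hχ₂ hcovD hF in
theorem adequate_toMVF_push_of_charts :
    Adeq.adequate R ((Adeq.toMVF K a).obj ((BigSite.pushMod K f).obj M)) := by
  refine adequate_of_finite_presentation (I := I) (L := Σ (i : I) (j : I), Kp i j)
    ((Adeq.toMVF K a).obj ((BigSite.pushMod K f).obj M))
    (fun i => (Adeq.push R (A i)).obj ((Adeq.toMVF K (cb f a (A i) (t i))).obj M))
    (fun l => (Adeq.push R (D l.1 l.2.1 l.2.2)).obj
      ((Adeq.toMVF K (cb f a (D l.1 l.2.1 l.2.2) (td l.1 l.2.1 l.2.2))).obj M))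
    (fun i => push_adequate R (A i) _ (hF (CommRingCat.of (A i)) (cb f a (A i) (t i))))
    (fun l => push_adequate R (D l.1 l.2.1 l.2.2) _
      (hF (CommRingCat.of (D l.1 l.2.1 l.2.2)) (cb f a (D l.1 l.2.1 l.2.2) (td l.1 l.2.1 l.2.2))))
    (fun i => alphaC K f M a (A i) (t i) (ht i))
    (fun l => l.1) (fun l => l.2.1)
    (fun l => betaC K f M a (A l.1) (D l.1 l.2.1 l.2.2) (t l.1) (td l.1 l.2.1 l.2.2)
      (χ₁ l.1 l.2.1 l.2.2) (hχ₁ l.1 l.2.1 l.2.2))
    (fun l => betaC K f M a (A l.2.1) (D l.1 l.2.1 l.2.2) (t l.2.1) (td l.1 l.2.1 l.2.2)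
      (χ₂ l.1 l.2.1 l.2.2) (hχ₂ l.1 l.2.1 l.2.2))
    (fun l => ?_) (fun X x hx => ?_) (fun X y hy => ?_)
  · rw [alpha_beta K f M a (A l.1) (D l.1 l.2.1 l.2.2) (t l.1) (td l.1 l.2.1 l.2.2) (ht l.1)
      (htd l.1 l.2.1 l.2.2), alpha_beta K f M a (A l.2.1) (D l.1 l.2.1 l.2.2) (t l.2.1)
      (td l.1 l.2.1 l.2.2) (ht l.2.1) (htd l.1 l.2.1 l.2.2)]
  · exact push_inj K hK f M a A t ht hcov X.unop.unop x hx
  · exact push_glue K hK f M a A t ht hcov D td htd χ₁ χ₂ hχ₁ hχ₂ hcovD X.unop.unop y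
      (fun i j k => hy ⟨i, j, k⟩)

end Charts

theorem exists_finite_affine_cover (X : Scheme.{u}) [CompactSpace X] :
    ∃ (I : Type (u + 1)) (_ : Fintype I) (A : I → CommRingCat.{u}) (t : ∀ i, Spec (A i) ⟶ X),
      (∀ i, IsOpenImmersion (t i)) ∧ ∀ x : X, ∃ i, x ∈ Set.range (t i) := by
  let 𝒰 := X.affineCover.finiteSubcover
  have haff : ∀ i, IsAffine (𝒰.X i) := by
    intro i
    dsimp [𝒰]
    infer_instance
  refine ⟨ULift.{u + 1} 𝒰.I₀, inferInstance, fun i => Γ(𝒰.X i.down, ⊤),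
    fun i => (𝒰.X i.down).isoSpec.inv ≫ 𝒰.f i.down, fun i => inferInstance, fun x => ?_⟩
  obtain ⟨y, hy⟩ := 𝒰.covers x
  refine ⟨ULift.up (𝒰.idx x), (𝒰.X (𝒰.idx x)).isoSpec.hom y, ?_⟩
  rw [← Scheme.Hom.comp_apply, Iso.hom_inv_id_assoc]
  exact hy

include hK in
theorem adequate_toMVF_push [QuasiCompact f] [QuasiSeparated f]
    (hF : ∀ (R' : CommRingCat.{u}) (b : Spec R' ⟶ T), Adeq.adequate R' ((Adeq.toMVF K b).obj M)) :
    Adeq.adequate R ((Adeq.toMVF K a).obj ((BigSite.pushMod K f).obj M)) := by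
  haveI : CompactSpace ↥(pullback a f) := inferInstance
  haveI : QuasiSeparatedSpace ↥(pullback a f) :=
    quasiSeparatedSpace_of_quasiSeparated (pullback.fst a f)
  obtain ⟨I, hI, A', t', hopen', hcov'⟩ := exists_finite_affine_cover (pullback a f)
  have hψ : ∀ i, ∃ ψ : R ⟶ A' i, Spec.map ψ = t' i ≫ pullback.fst a f :=
    fun i => Spec.map_surjective _
  choose ψ hψ using hψ
  have hY : ∀ i j, ∃ (Kp : Type (u + 1)) (_ : Fintype Kp) (D : Kp → CommRingCat.{u})
      (v : ∀ k, Spec (D k) ⟶ pullback (t' i) (t' j)),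
      (∀ k, IsOpenImmersion (v k)) ∧ ∀ y : ↥(pullback (t' i) (t' j)), ∃ k, y ∈ Set.range (v k) := by
    intro i j
    haveI : QuasiCompact (t' i) := inferInstance
    haveI : CompactSpace ↥(pullback (t' i) (t' j)) := inferInstance
    exact exists_finite_affine_cover _
  choose Kp hKp D' v hvopen hvcov using hY
  have hχ₁' : ∀ i j k, ∃ χ : A' i ⟶ D' i j k, Spec.map χ = v i j k ≫ pullback.fst (t' i) (t' j) :=
    fun i j k => Spec.map_surjective _
  choose χ₁' hχ₁' using hχ₁'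
  have hχ₂' : ∀ i j k, ∃ χ : A' j ⟶ D' i j k, Spec.map χ = v i j k ≫ pullback.snd (t' i) (t' j) :=
    fun i j k => Spec.map_surjective _
  choose χ₂' hχ₂' using hχ₂'
  have hcomp : ∀ i j k, ψ j ≫ χ₂' i j k = ψ i ≫ χ₁' i j k := by
    intro i j k
    apply Spec.map_injective
    rw [Spec.map_comp, Spec.map_comp, hχ₁', hχ₂', hψ, hψ, Category.assoc, Category.assoc,
      ← Category.assoc (pullback.snd _ _), ← pullback.condition, Category.assoc]
  letI algA : ∀ i, Algebra R (A' i) := fun i => (ψ i).hom.toAlgebra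
  letI algD : ∀ i j k, Algebra R (D' i j k) := fun i j k => (ψ i ≫ χ₁' i j k).hom.toAlgebra
  letI finK : ∀ i j, Fintype (Kp i j) := hKp
  let χ₁ : ∀ i j k, A' i →ₐ[R] D' i j k := fun i j k =>
    { toRingHom := (χ₁' i j k).hom
      commutes' := fun r => rfl }
  let χ₂ : ∀ i j k, A' j →ₐ[R] D' i j k := fun i j k =>
    { toRingHom := (χ₂' i j k).hom
      commutes' := fun r => congrArg (fun q => q.hom r) (hcomp i j k) }
  let td : ∀ i j k, Spec (CommRingCat.of (D' i j k)) ⟶ pullback a f := fun i j k =>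
    v i j k ≫ pullback.fst (t' i) (t' j) ≫ t' i
  haveI : ∀ i j k, IsOpenImmersion (v i j k) := hvopen
  haveI : ∀ i, IsOpenImmersion (t' i) := hopen'
  haveI hopenD : ∀ i j k, IsOpenImmersion (td i j k) := fun i j k => by
    dsimp only [td]
    infer_instance
  refine adequate_toMVF_push_of_charts K hK f M a (I := I) (fun i => (A' i : Type u)) t'
    (fun i => (hψ i).symm) hcov' (Kp := Kp) (fun i j k => (D' i j k : Type u)) td
    (fun i j k => ?_) χ₁ χ₂ (fun i j k => ?_) (fun i j k => ?_) (fun i j x hi hj => ?_) hF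
  · change (v i j k ≫ pullback.fst (t' i) (t' j) ≫ t' i) ≫ pullback.fst a f =
      Spec.map (ψ i ≫ χ₁' i j k)
    rw [Spec.map_comp, hχ₁', hψ]
    simp only [Category.assoc]
  · change v i j k ≫ pullback.fst (t' i) (t' j) ≫ t' i = Spec.map (χ₁' i j k) ≫ t' i
    rw [hχ₁', Category.assoc]
  · change v i j k ≫ pullback.fst (t' i) (t' j) ≫ t' i = Spec.map (χ₂' i j k) ≫ t' j
    rw [hχ₂', Category.assoc, pullback.condition]
  · obtain ⟨yi, hyi⟩ := hi
    obtain ⟨yj, hyj⟩ := hj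
    obtain ⟨p, hp1, hp2⟩ := Scheme.Pullback.exists_preimage_pullback (f := t' i) (g := t' j)
      yi yj (hyi.trans hyj.symm)
    obtain ⟨k, w, hw⟩ := hvcov i j p
    refine ⟨k, w, ?_⟩
    change (v i j k ≫ pullback.fst (t' i) (t' j) ≫ t' i) w = x
    rw [Scheme.Hom.comp_apply, Scheme.Hom.comp_apply, hw, hp1, hyi]

theorem adequateMod_pushMod_fppf {S T : Scheme.{u}} (f : T ⟶ S) [QuasiCompact f]
    [QuasiSeparated f] (M : BigSite.Mod Scheme.fppfPrecoverage T)
    (hM : Adeq.adequateMod Scheme.fppfPrecoverage T M) :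
    Adeq.adequateMod Scheme.fppfPrecoverage S
      ((BigSite.pushMod Scheme.fppfPrecoverage f).obj M) := by
  refine ⟨S.affineOpenCover.I₀, S.affineOpenCover.X, S.affineOpenCover.f, ?_, fun j => ?_⟩
  · apply Scheme.zariskiPrecoverage_le_fppfPrecoverage
    rw [Scheme.ofArrows_mem_precoverage_iff]
    exact ⟨fun x => ⟨S.affineOpenCover.idx x, S.affineOpenCover.covers x⟩,
      fun j => inferInstance⟩
  · exact adequate_toMVF_push Scheme.fppfPrecoverage Scheme.zariskiPrecoverage_le_fppfPrecoverage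
      f M (S.affineOpenCover.f j) (adequate_toMVF_fppf T M hM)

end Groth.Agent.Helper1.AdqP
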