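import Mathlib
import Groth.Prelude.Def_Adeq2
import Groth.Agent.Lib.Helper1.AdqP4
import Groth.Agent.Lib.Helper6.Adeq.FlatBC

set_option autoImplicit false
set_option linter.unusedSectionVars false
set_option linter.unusedVariables false
set_option maxHeartbeats 400000
universe u
open CategoryTheory CategoryTheory.Limits AlgebraicGeometry Opposite TensorProduct

namespace Groth.Agent.Helper1.AdqS

open Groth.Agent.Helper1.Adq Groth.Agent.Lib.Helper6.Adeq

example (S : Scheme.{u}) (U : S.Opens) : (BigSite.zarIncl S).obj U = Over.mk U.ι := rfl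

/-- flat base change: vanishing of an adequate functor propagates along flat maps -/
theorem subsingleton_of_flat {A : Type u} [CommRing A] (F : Adeq.MVF A) (hF : Adeq.adequate A F)
    {B B' : Adeq.Alg A} (f : B ⟶ B') (hf : f.hom.toRingHom.Flat)
    (h : Subsingleton (F.obj (Adeq.pt B))) : Subsingleton (F.obj (Adeq.pt B')) := by
  haveI := bc_isIso_of_adequate F hF f hf
  have hsurj := (ConcreteCategory.bijective_of_isIso (F.bc f)).2
  refine ⟨fun x y => ?_⟩
  obtain ⟨x', rfl⟩ := hsurj x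
  obtain ⟨y', rfl⟩ := hsurj y
  congr 1
  have h0 : ∀ z : (ModuleCat.extendScalars.{u, u, u + 1} f.hom.toRingHom).obj (F.obj (Adeq.pt B)),
      z = 0 := by
    intro z
    refine tm_induction F f (P := fun z => z = 0) rfl (fun b' y => ?_)
      (fun z w hz hw => by rw [hz, hw, add_zero]) z
    rw [Subsingleton.elim y 0, tm_zero_right]
  rw [h0 x', h0 y']

theorem subsingleton_of_over_iso (K : Precoverage Scheme.{u}) [BigSite.OSh K] {S : Scheme.{u}}
    (M : BigSite.Mod K S) {V₁ V₂ : Over S} (e : V₁ ≅ V₂)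
    (h : Subsingleton (M.val.obj (op V₁))) : Subsingleton (M.val.obj (op V₂)) := by
  refine ⟨fun x y => ?_⟩
  have hx : M.val.map e.inv.op (M.val.map e.hom.op x) = x := by
    rw [map_map_apply, e.inv_hom_id]
    exact congrArg (fun q => q x) (M.val.map_id (op V₂))
  have hy : M.val.map e.inv.op (M.val.map e.hom.op y) = y := by
    rw [map_map_apply, e.inv_hom_id]
    exact congrArg (fun q => q y) (M.val.map_id (op V₂))
  have hxy : (M.val.map e.hom.op x : M.val.obj (op V₁)) = M.val.map e.hom.op y :=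
    h.elim _ _
  rw [← hx, ← hy]
  exact congrArg (M.val.map e.inv.op) hxy

set_option backward.isDefEq.respectTransparency.types false in
theorem subsingleton_of_flat_affine (S : Scheme.{u}) (M : BigSite.Mod Scheme.fppfPrecoverage S)
    (hM : Adeq.adequateMod Scheme.fppfPrecoverage S M) {U : S.Opens} (hU : IsAffineOpen U)
    (hsub : Subsingleton (M.val.obj (op (Over.mk U.ι))))
    {V : Scheme.{u}} (g : V ⟶ S) (hg : Flat g) (W : V.Opens) (hW : IsAffineOpen W)
    (e : W ≤ g ⁻¹ᵁ U) :
    Subsingleton (M.val.obj (op (Over.mk (hW.fromSpec ≫ g)))) := by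
  let a : Spec Γ(S, U) ⟶ S := hU.fromSpec
  have hF := adequate_toMVF_fppf S M hM _ a
  let ψ : Γ(S, U) ⟶ Γ(V, W) := g.appLE U W e
  have hflat : ψ.hom.Flat := HasRingHomProperty.appLE (P := @Flat) g hg ⟨U, hU⟩ ⟨W, hW⟩ e
  letI : Algebra Γ(S, U) Γ(V, W) := ψ.hom.toAlgebra
  -- sections over `Spec Γ(S, U)`
  have e1 : Over.mk U.ι ≅ Over.mk a := Over.isoMk hU.isoSpec (by simp [a])
  have h1 : Subsingleton (M.val.obj (op (Over.mk a))) :=
    subsingleton_of_over_iso _ M e1 hsub
  have ha : a = Spec.map (CommRingCat.ofHom (algebraMap Γ(S, U) Γ(S, U))) ≫ a := by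
    rw [Algebra.algebraMap_self, CommRingCat.ofHom_id, Spec.map_id, Category.id_comp]
  have h2 : Subsingleton (((Adeq.toMVF Scheme.fppfPrecoverage a).obj M).obj
      (Adeq.pt (Adeq.algOf Γ(S, U) Γ(S, U)))) :=
    subsingleton_of_over_iso _ M (ovEq _ _ ha) h1
  have h3 := subsingleton_of_flat _ hF
    (CommAlgCat.ofHom (Algebra.ofId Γ(S, U) Γ(V, W)) :
      Adeq.algOf Γ(S, U) Γ(S, U) ⟶ Adeq.algOf Γ(S, U) Γ(V, W)) hflat h2
  have hb : Spec.map (CommRingCat.ofHom (algebraMap Γ(S, U) Γ(V, W))) ≫ a = hW.fromSpec ≫ g :=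
    IsAffineOpen.SpecMap_appLE_fromSpec g hU hW e
  exact subsingleton_of_over_iso _ M (ovEq _ _ hb) h3

set_option backward.isDefEq.respectTransparency.types false in
theorem parasitic_of_affine_cover (S : Scheme.{u}) (M : BigSite.Mod Scheme.fppfPrecoverage S)
    (hM : Adeq.adequateMod Scheme.fppfPrecoverage S M) {ι : Type u} (U : ι → S.Opens)
    (hU : ∀ i, IsAffineOpen (U i)) (hcov : (⨆ i, U i) = ⊤)
    (hsub : ∀ i, Subsingleton (M.val.obj (op (Over.mk (U i).ι)))) :
    Adeq.parasitic Scheme.fppfPrecoverage S M := by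
  intro V hV
  have key : ∀ x : M.val.obj (op V), x = 0 := by
    intro x
    apply sect_eq_zero_of_locally _ M V x
      (Sieve.ofArrows
        (fun W : {W : V.left.affineOpens // ∃ i, W.1 ≤ V.hom ⁻¹ᵁ U i} =>
          Over.mk (W.1.2.fromSpec ≫ V.hom))
        (fun W => (Over.homMk W.1.2.fromSpec rfl : Over.mk (W.1.2.fromSpec ≫ V.hom) ⟶ V)))
      (AdqP.ofArrows_mem_J_of_open _ Scheme.zariskiPrecoverage_le_fppfPrecoverage _ _ _
        (fun W => ?_) (fun v => ?_))
    · intro V' g hg
      obtain ⟨W', g', f', hf, rfl⟩ := hg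
      obtain ⟨W⟩ := hf
      obtain ⟨i, hi⟩ := W.2
      have hs := subsingleton_of_flat_affine S M hM (hU i) (hsub i) V.hom hV W.1.1 W.1.2 hi
      rw [op_comp, PresheafOfModules.map_comp_apply]
      have h0 : M.val.map (Over.homMk W.1.2.fromSpec rfl :
          Over.mk (W.1.2.fromSpec ≫ V.hom) ⟶ V).op x = 0 := hs.elim _ _
      exact (congrArg (M.val.map g'.op) h0).trans (map_zero (M.val.map g'.op).hom)
    · change IsOpenImmersion W.1.2.fromSpec
      infer_instance
    · have hv : V.hom v ∈ (⊤ : S.Opens) := trivial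
      rw [← hcov, TopologicalSpace.Opens.mem_iSup] at hv
      obtain ⟨i, hi⟩ := hv
      obtain ⟨W, hW, hvW, hWle⟩ := TopologicalSpace.Opens.isBasis_iff_nbhd.mp
        (V.left.isBasis_affineOpens) (show v ∈ V.hom ⁻¹ᵁ U i from hi)
      refine ⟨⟨⟨W, hW⟩, i, hWle⟩, ?_⟩
      change v ∈ Set.range (IsAffineOpen.fromSpec hW)
      rw [IsAffineOpen.range_fromSpec]
      exact hvW
  exact ⟨fun x y => (key x).trans (key y).symm⟩

set_option backward.isDefEq.respectTransparency.types false in
theorem parasitic_tfae (S : Scheme.{u}) (M : BigSite.Mod Scheme.fppfPrecoverage S)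
    (hM : Adeq.adequateMod Scheme.fppfPrecoverage S M) :
    List.TFAE [Adeq.parasitic Scheme.fppfPrecoverage S M, Adeq.parasiticFor Scheme.fppfPrecoverage S M,
      ∀ U : S.Opens, Subsingleton (BigSite.sectMod Scheme.fppfPrecoverage M ((BigSite.zarIncl S).obj U)),
      ∃ (ι : Type u) (U : ι → S.Opens), (∀ i, IsAffineOpen (U i)) ∧ (⨆ i, U i) = ⊤ ∧
        ∀ i, Subsingleton (BigSite.sectMod Scheme.fppfPrecoverage M ((BigSite.zarIncl S).obj (U i)))] := by
  have hcovA : ∀ x : S, ∃ i : S.affineOpens, x ∈ Set.range i.1.ι := by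
    intro x
    have hx : x ∈ (⊤ : S.Opens) := trivial
    rw [← (iSup_affineOpens_eq_top S), TopologicalSpace.Opens.mem_iSup] at hx
    obtain ⟨i, hi⟩ := hx
    exact ⟨i, by rw [Scheme.Opens.range_ι]; exact hi⟩
  tfae_have 1 → 2 := by
    intro hP P hPcov V g hg
    refine hP (Over.mk g) ?_
    have := hPcov.2 hg
    exact this.1
  tfae_have 2 → 4 := by
    intro h2
    refine ⟨S.affineOpens, fun i => i.1, fun i => i.2, (iSup_affineOpens_eq_top S), fun i => ?_⟩
    have hc : Presieve.ofArrows (fun i : S.affineOpens => (i.1 : Scheme.{u})) (fun i => i.1.ι) ∈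
        Scheme.fppfPrecoverage.coverings S := by
      apply Scheme.zariskiPrecoverage_le_fppfPrecoverage
      rw [Scheme.ofArrows_mem_precoverage_iff]
      exact ⟨hcovA, fun i => inferInstance⟩
    exact h2 hc i.1.ι (Presieve.ofArrows.mk i)
  tfae_have 4 → 1 := by
    rintro ⟨ι, U, hU, hcov, hsub⟩
    exact parasitic_of_affine_cover S M hM U hU hcov hsub
  tfae_have 1 → 3 := by
    intro hP U
    exact hP ((BigSite.zarIncl S).obj U) (inferInstanceAs (Flat U.ι))
  tfae_have 3 → 4 := by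
    intro h3
    exact ⟨S.affineOpens, fun i => i.1, fun i => i.2, (iSup_affineOpens_eq_top S), fun i => h3 i.1⟩
  tfae_finish

end Groth.Agent.Helper1.AdqS
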