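import Mathlib
import Groth.Prelude.Def_RelProj

/-!
# Gluing morphisms out of a scheme over `Y` along preimages of affine opens (helper1 library)
-/

open CategoryTheory CategoryTheory.Limits AlgebraicGeometry Opposite TopologicalSpace
open scoped HomogeneousIdeal

universe u

namespace Groth.Agent.Helper1.RelProjGlue

/-- two morphisms agreeing locally are equal -/
theorem hom_ext_of_local {X Z : Scheme.{u}} (f g : X ⟶ Z)
    (H : ∀ x : X, ∃ (W : X.Opens), x ∈ W ∧ W.ι ≫ f = W.ι ≫ g) : f = g := by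
  choose W hxW hW using H
  have hcov : IsOpenCover W :=
    eq_top_iff.mpr fun x _ => Opens.mem_iSup.mpr ⟨x, hxW x⟩
  exact (X.openCoverOfIsOpenCover W hcov).hom_ext _ _ fun x => hW x

theorem hom_ext_of_local' {X Z : Scheme.{u}} (f g : X ⟶ Z)
    (H : ∀ x : X, ∃ (W : Scheme.{u}) (j : W ⟶ X), IsOpenImmersion j ∧ x ∈ Set.range j ∧
      j ≫ f = j ≫ g) : f = g := by
  refine hom_ext_of_local f g fun x => ?_
  obtain ⟨W, j, hj, hx, hjj⟩ := H x
  refine ⟨j.opensRange, hx, ?_⟩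
  rw [← cancel_epi j.isoOpensRange.hom]
  simpa using hjj

section
variable {Y PB Z : Scheme.{u}} (pB : PB ⟶ Y)

lemma isOpenCover : IsOpenCover (fun U : Y.affineOpens => pB ⁻¹ᵁ U.1) := by
  refine eq_top_iff.mpr fun x _ => ?_
  have : pB x ∈ (⨆ i : Y.affineOpens, (i : Y.Opens)) := by
    rw [iSup_affineOpens_eq_top]; trivial
  obtain ⟨U, hU⟩ := Opens.mem_iSup.mp this
  exact Opens.mem_iSup.mpr ⟨U, hU⟩

/-- The cover of `PB` by preimages of affine opens of `Y`. -/
def cov : PB.OpenCover :=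
  PB.openCoverOfIsOpenCover (fun U : Y.affineOpens => pB ⁻¹ᵁ U.1) (isOpenCover pB)

variable (h : ∀ (U : Y.Opens) (_ : IsAffineOpen U), ((pB ⁻¹ᵁ U : PB.Opens) : Scheme.{u}) ⟶ Z)

include h in
theorem h_congr {W W' : Y.Opens} (e : W = W') (hW : IsAffineOpen W) (hW' : IsAffineOpen W') :
    h W hW = (PB.isoOfEq (by rw [e])).hom ≫ h W' hW' := by
  subst e; simp

theorem compat_of_basic
    (hb : ∀ (U : Y.Opens) (hU : IsAffineOpen U) (r : Γ(Y, U)),
      PB.homOfLE (pB.preimage_mono (Y.basicOpen_le r)) ≫ h U hU =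
        h (Y.basicOpen r) (hU.basicOpen r))
    {U V : Y.Opens} (hU : IsAffineOpen U) (hV : IsAffineOpen V) (i : V ≤ U) :
    PB.homOfLE (pB.preimage_mono i) ≫ h U hU = h V hV := by
  refine hom_ext_of_local' _ _ fun x => ?_
  obtain ⟨r, r', hrr', hxr⟩ := exists_basicOpen_le_affine_inter hU hV (pB x.1) ⟨i x.2, x.2⟩
  have hxr' : pB x.1 ∈ Y.basicOpen r' := hrr' ▸ hxr
  refine ⟨_, PB.homOfLE (pB.preimage_mono (Y.basicOpen_le r')), inferInstance,
    ⟨⟨x.1, hxr'⟩, ?_⟩, ?_⟩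
  · exact Scheme.homOfLE_apply' _ _ _
  · rw [hb V hV r', Scheme.homOfLE_homOfLE_assoc,
      h_congr pB h hrr'.symm (hV.basicOpen r') (hU.basicOpen r), ← hb U hU r,
      ← Category.assoc]
    congr 1
    rw [← cancel_mono (pB ⁻¹ᵁ U).ι]
    simp

instance : Preorder (cov pB).I₀ := inferInstanceAs (Preorder Y.affineOpens)

lemma cov_f (U : Y.affineOpens) : (cov pB).f U = (pB ⁻¹ᵁ U.1).ι := rfl

set_option backward.isDefEq.respectTransparency.types false in
noncomputable instance : (cov pB).LocallyDirected where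
  trans {i j} hij := PB.homOfLE (pB.preimage_mono (leOfHom hij))
  trans_id i := Scheme.homOfLE_rfl _ _
  trans_comp hij hjk := (Scheme.homOfLE_homOfLE _ _ _).symm
  w hij := Scheme.homOfLE_ι _ _
  directed {i j} x := by
    set y : PB := (pullback.fst ((cov pB).f i) ((cov pB).f j) ≫ (cov pB).f i) x with hy
    have hyi : pB y ∈ i.1 := (pullback.fst ((cov pB).f i) ((cov pB).f j) x).2
    have hyj : pB y ∈ j.1 := by
      have : y = (pullback.snd ((cov pB).f i) ((cov pB).f j) ≫ (cov pB).f j) x := by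
        rw [hy, pullback.condition]
      rw [this]
      exact (pullback.snd ((cov pB).f i) ((cov pB).f j) x).2
    obtain ⟨W, hW, hyW, hWij⟩ := Opens.isBasis_iff_nbhd.mp Y.isBasis_affineOpens
      (show pB y ∈ i.1 ⊓ j.1 from ⟨hyi, hyj⟩)
    refine ⟨⟨W, hW⟩, homOfLE (fun z hz => (hWij hz).1), homOfLE (fun z hz => (hWij hz).2),
      ⟨y, hyW⟩, ?_⟩
    apply (pullback.fst ((cov pB).f i) ((cov pB).f j) ≫ (cov pB).f i).isOpenEmbedding.injective
    rw [← Scheme.Hom.comp_apply, pullback.lift_fst_assoc, ← hy]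
    exact congr($(Scheme.homOfLE_ι PB (pB.preimage_mono (fun z hz => (hWij hz).1))) ⟨y, hyW⟩)
  property_trans hij := inferInstanceAs (IsOpenImmersion (PB.homOfLE _))

theorem exists_glue
    (hb : ∀ (U : Y.Opens) (hU : IsAffineOpen U) (r : Γ(Y, U)),
      PB.homOfLE (pB.preimage_mono (Y.basicOpen_le r)) ≫ h U hU =
        h (Y.basicOpen r) (hU.basicOpen r)) :
    ∃! g : PB ⟶ Z, ∀ (U : Y.Opens) (hU : IsAffineOpen U), (pB ⁻¹ᵁ U).ι ≫ g = h U hU := by
  refine ⟨(cov pB).glueMorphismsOfLocallyDirected (fun U => h U.1 U.2) ?_, ?_, ?_⟩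
  · intro i j hij
    exact compat_of_basic pB h hb j.2 i.2 (leOfHom hij)
  · intro U hU
    exact (cov pB).map_glueMorphismsOfLocallyDirected (fun U => h U.1 U.2) _ ⟨U, hU⟩
  · intro g hg
    refine (cov pB).hom_ext _ _ fun U => ?_
    refine Eq.trans ?_
      ((cov pB).map_glueMorphismsOfLocallyDirected (fun U : Y.affineOpens => h U.1 U.2) _ U).symm
    exact hg (U : Y.affineOpens).1 (U : Y.affineOpens).2

/-- two morphisms out of `PB` agreeing on all preimages of affine opens are equal -/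
theorem hom_ext {g g' : PB ⟶ Z}
    (H : ∀ (U : Y.Opens) (_ : IsAffineOpen U), (pB ⁻¹ᵁ U).ι ≫ g = (pB ⁻¹ᵁ U).ι ≫ g') : g = g' :=
  (cov pB).hom_ext _ _ fun U => H U.1 U.2

end

end Groth.Agent.Helper1.RelProjGlue
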