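import Mathlib
import Groth.Prelude.Def_AffAlg
import Groth.Agent.Lib.Helper1.RelProjGlue

open CategoryTheory AlgebraicGeometry TopologicalSpace Opposite

universe u

namespace Groth.Agent.Helper1.AffAlgLib

variable {X X' S : Scheme.{u}}

theorem algHom_app (f : X ⟶ S) (h : X' ⟶ X) (U : S.Opens) :
    (AffAlg.algHom f (h ≫ f) h rfl).app (op U) = h.app (f ⁻¹ᵁ U) := by
  simp only [AffAlg.algHom]
  rfl

theorem surjective_appTop_restrict (h : X' ⟶ X) (W : X.Opens)
    (hs : Function.Surjective (h.app W)) : Function.Surjective ((h ∣_ W).appTop) := by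
  rw [morphismRestrict_appTop]
  have : ∀ (W' : X.Opens) (e : W' = W) (e' : (h ⁻¹ᵁ W).ι ''ᵁ ⊤ = h ⁻¹ᵁ W'),
      Function.Surjective (h.app W' ≫ X'.presheaf.map (eqToHom e').op) := by
    intro W' e e'
    subst e
    have hb := (ConcreteCategory.bijective_of_isIso (X'.presheaf.map (eqToHom e').op)).2
    intro y
    obtain ⟨z, rfl⟩ := hb y
    obtain ⟨x, rfl⟩ := hs z
    exact ⟨x, rfl⟩
  exact this _ (by simp) _

theorem isClosedImmersion_of_surjective (f : X ⟶ S) [IsAffineHom f] (h : X' ⟶ X)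
    [IsAffineHom (h ≫ f)]
    (hsurj : ∀ U : S.affineOpens, Function.Surjective (h.app (f ⁻¹ᵁ U.1))) :
    IsClosedImmersion h := by
  have hcov : (⨆ U : S.affineOpens, ((⟨f ⁻¹ᵁ U.1, U.2.preimage f⟩ : X.affineOpens) : X.Opens)) = ⊤ :=
    RelProjGlue.isOpenCover f
  refine (@HasAffineProperty.iff_of_iSup_eq_top _ _ IsClosedImmersion.hasAffineProperty _ _ h _
    (fun U : S.affineOpens => (⟨f ⁻¹ᵁ U.1, U.2.preimage f⟩ : X.affineOpens)) hcov).mpr fun U => ?_
  refine ⟨?_, surjective_appTop_restrict h _ (hsurj U)⟩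
  have : IsAffineOpen (h ⁻¹ᵁ (f ⁻¹ᵁ U.1)) := U.2.preimage (h ≫ f)
  exact this

theorem isIso_appTop_restrict (h : X' ⟶ X) (W : X.Opens)
    (hs : IsIso (h.app W)) : IsIso ((h ∣_ W).appTop) := by
  rw [morphismRestrict_appTop]
  have : ∀ (W' : X.Opens) (e : W' = W) (e' : (h ⁻¹ᵁ W).ι ''ᵁ ⊤ = h ⁻¹ᵁ W'),
      IsIso (h.app W' ≫ X'.presheaf.map (eqToHom e').op) := by
    intro W' e e'
    subst e
    infer_instance
  exact this _ (by simp) _

set_option backward.isDefEq.respectTransparency false in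
theorem isIso_of_isIso_app (f : X ⟶ S) [IsAffineHom f] (h : X' ⟶ X)
    [IsAffineHom (h ≫ f)]
    (hiso : ∀ U : S.affineOpens, IsIso (h.app (f ⁻¹ᵁ U.1))) :
    IsIso h := by
  have hcov : (⨆ U : S.affineOpens, ((⟨f ⁻¹ᵁ U.1, U.2.preimage f⟩ : X.affineOpens) : X.Opens)) = ⊤ :=
    RelProjGlue.isOpenCover f
  change MorphismProperty.isomorphisms Scheme h
  refine HasAffineProperty.of_iSup_eq_top (P := MorphismProperty.isomorphisms Scheme)
    (fun U : S.affineOpens => (⟨f ⁻¹ᵁ U.1, U.2.preimage f⟩ : X.affineOpens)) hcov fun U => ?_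
  refine ⟨?_, isIso_appTop_restrict h _ (hiso U)⟩
  have : IsAffineOpen (h ⁻¹ᵁ (f ⁻¹ᵁ U.1)) := U.2.preimage (h ≫ f)
  exact this

set_option backward.isDefEq.respectTransparency false in
theorem isIso_algHom_of_isIso (f : X ⟶ S) (h : X' ⟶ X) [IsIso h] :
    IsIso (AffAlg.algHom f (h ≫ f) h rfl) := by
  have : ∀ U, IsIso ((AffAlg.algHom f (h ≫ f) h rfl).app U) := by
    intro U
    rw [show U = op U.unop from rfl, algHom_app]
    infer_instance
  exact NatIso.isIso_of_isIso_app _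

set_option backward.isDefEq.respectTransparency false in
theorem isIso_iff (f : X ⟶ S) [IsAffineHom f] (h : X' ⟶ X) [IsAffineHom (h ≫ f)] :
    IsIso h ↔ IsIso (AffAlg.algHom f (h ≫ f) h rfl) := by
  constructor
  · intro hh
    exact isIso_algHom_of_isIso f h
  · intro hh
    refine isIso_of_isIso_app f h fun U => ?_
    rw [← algHom_app]
    infer_instance

end Groth.Agent.Helper1.AffAlgLib
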