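import Mathlib
import Groth.Agent.Lib.Helper1.TildeQC

set_option autoImplicit false
universe u
open CategoryTheory CategoryTheory.Limits AlgebraicGeometry TopologicalSpace Opposite

namespace Groth.Agent.Helper1.QcLoc

open Groth.Agent.Helper1.TildeQC PrimeSpectrum

variable {X : Scheme.{u}}

/-- On `Spec R`, for a quasi-coherent module `N`: every section over `D(g)` times a power of `g`
extends to a global section. -/
theorem spec_exists_extend {R : CommRingCat.{u}} (N : (Spec R).Modules) [N.IsQuasicoherent]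
    (g : R) (y : Γ(N, basicOpen g)) :
    ∃ (k : ℕ) (t : Γ(N, ⊤)), g ^ k • y = N.presheaf.map (basicOpen g).leTop.op t := by
  have h1 : IsIso N.fromTildeΓ := inferInstance
  have h2 := (isIso_fromTildeΓ_iff_isLocalizing N).1 h1
  let φ (f : R) := ((modulesSpecToSheaf.obj N).obj.map (basicOpen f).leTop.op).hom
  have hf (f : R) : IsLocalizedModule.Away f (φ f) := h2 f
  obtain ⟨n, t, ht⟩ := (hf g).surj _ _ y
  exact ⟨n, t, ht⟩

theorem spec_exists_kill {R : CommRingCat.{u}} (N : (Spec R).Modules) [N.IsQuasicoherent]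
    (g : R) (t : Γ(N, ⊤))
    (ht : N.presheaf.map (basicOpen g).leTop.op t = 0) :
    ∃ k : ℕ, g ^ k • t = 0 := by
  have h1 : IsIso N.fromTildeΓ := inferInstance
  have h2 := (isIso_fromTildeΓ_iff_isLocalizing N).1 h1
  let φ (f : R) := ((modulesSpecToSheaf.obj N).obj.map (basicOpen f).leTop.op).hom
  have hf (f : R) : IsLocalizedModule.Away f (φ f) := h2 f
  obtain ⟨⟨_, n, rfl⟩, hn⟩ := (IsLocalizedModule.eq_zero_iff (.powers g) (φ g)).mp ht
  exact ⟨n, hn⟩

section Aff
variable {U : X.Opens} (hU : IsAffineOpen U)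

theorem le_preimage : (⊤ : (Spec Γ(X, U)).Opens) ≤ hU.fromSpec ⁻¹ᵁ U := by
  rw [hU.fromSpec_preimage_self]

theorem star : hU.fromSpec.appLE U ⊤ (le_preimage hU) = (Scheme.ΓSpecIso Γ(X, U)).inv := by
  rw [Scheme.Hom.appLE, hU.fromSpec_app_self, Category.assoc, ← Functor.map_comp]
  have : (eqToHom hU.fromSpec_preimage_self).op ≫ (homOfLE (le_preimage hU)).op = 𝟙 _ :=
    Subsingleton.elim _ _
  rw [this, CategoryTheory.Functor.map_id, Category.comp_id]

theorem image_le (V : (Spec Γ(X, U)).Opens) : hU.fromSpec ''ᵁ V ≤ U := by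
  rintro _ ⟨x, _, rfl⟩
  have : hU.fromSpec x ∈ Set.range hU.fromSpec := ⟨x, rfl⟩
  rw [hU.range_fromSpec] at this
  exact this

theorem star2 (V : (Spec Γ(X, U)).Opens) :
    (Scheme.ΓSpecIso Γ(X, U)).inv ≫ (Spec Γ(X, U)).presheaf.map V.leTop.op ≫
      (hU.fromSpec.appIso V).inv = X.presheaf.map (homOfLE (image_le hU V)).op := by
  rw [← Category.assoc, Iso.comp_inv_eq, Scheme.Hom.appIso_hom',
    Scheme.Hom.map_appLE, ← star hU, Scheme.Hom.appLE_map]

/-- the `Γ(X,U)`-action on sections of the restriction to `Spec Γ(X,U)` is the action through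
restriction of functions -/
theorem smul_eq (M : X.Modules) (V : (Spec Γ(X, U)).Opens) (r : Γ(X, U))
    (x : Γ(M.restrict hU.fromSpec, V)) :
    r • x = (show Γ(M, hU.fromSpec ''ᵁ V) from
      ((X.presheaf.map (homOfLE (image_le hU V)).op).hom r : Γ(X, hU.fromSpec ''ᵁ V)) •
      (show Γ(M, hU.fromSpec ''ᵁ V) from x)) := by
  have h0 := act_restrict hU.fromSpec M V r x
  rw [act_def] at h0
  rw [h0]
  have h := congrArg (fun φ => φ.hom r) (star2 hU V)
  simp only [CommRingCat.hom_comp, RingHom.coe_comp, Function.comp_apply] at h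
  rw [← h]

theorem image_top : hU.fromSpec ''ᵁ ⊤ = U := by
  rw [Scheme.Hom.image_top_eq_opensRange, hU.opensRange_fromSpec]

include hU in
/-- extension after multiplying by a power -/
theorem exists_extend (M : X.Modules) [M.IsQuasicoherent] (f : Γ(X, U))
    (s : Γ(M, X.basicOpen f)) :
    ∃ (n : ℕ) (t : Γ(M, U)), M.presheaf.map (homOfLE (X.basicOpen_le f)).op t =
      ((X.presheaf.map (homOfLE (X.basicOpen_le f)).op).hom f) ^ n • s := by
  have e := hU.fromSpec_image_basicOpen f
  have e0 := image_top hU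
  let N := M.restrict hU.fromSpec
  let y : Γ(N, basicOpen f) := M.presheaf.map (homOfLE e.le).op s
  obtain ⟨k, t, ht⟩ := spec_exists_extend N f y
  refine ⟨k, M.presheaf.map (homOfLE e0.ge).op t, ?_⟩
  have hinj : Function.Injective (M.presheaf.map (homOfLE e.le).op) := by
    have : IsIso (M.presheaf.map (homOfLE e.le).op) := by
      have : IsIso (homOfLE e.le) := ⟨homOfLE e.ge, Subsingleton.elim _ _, Subsingleton.elim _ _⟩
      infer_instance
    exact ((ConcreteCategory.isIso_iff_bijective _).1 this).1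
  apply hinj
  rw [smul_eq hU M (basicOpen f) (f ^ k) y] at ht
  rw [← ConcreteCategory.comp_apply, ← ConcreteCategory.comp_apply, ← Functor.map_comp,
    ← Functor.map_comp]
  have h1 : N.presheaf.map (basicOpen f).leTop.op t =
      M.presheaf.map ((homOfLE e0.ge).op ≫ (homOfLE (X.basicOpen_le f)).op ≫ (homOfLE e.le).op) t := by
    change M.presheaf.map _ t = _
    congr 1
  rw [← h1, ← ht]
  rw [Scheme.Modules.map_smul]
  congr 1
  rw [map_pow, map_pow]
  congr 1
  rw [← ConcreteCategory.comp_apply, ← Functor.map_comp]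
  rfl

include hU in
/-- sections vanishing on `X_f` are killed by a power of `f` -/
theorem exists_kill (M : X.Modules) [M.IsQuasicoherent] (f : Γ(X, U))
    (t : Γ(M, U)) (ht : M.presheaf.map (homOfLE (X.basicOpen_le f)).op t = 0) :
    ∃ n : ℕ, f ^ n • t = 0 := by
  have e := hU.fromSpec_image_basicOpen f
  have e0 := image_top hU
  let N := M.restrict hU.fromSpec
  let t' : Γ(N, ⊤) := M.presheaf.map (homOfLE e0.le).op t
  have h1 : N.presheaf.map (basicOpen f).leTop.op t' = 0 := by
    change M.presheaf.map _ (M.presheaf.map (homOfLE e0.le).op t) = 0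
    rw [← ConcreteCategory.comp_apply, ← Functor.map_comp]
    have h2 : M.presheaf.map ((homOfLE (X.basicOpen_le f)).op ≫ (homOfLE e.le).op) t = 0 := by
      rw [Functor.map_comp, ConcreteCategory.comp_apply, ht, map_zero]
    refine Eq.trans ?_ h2
    congr 1
  obtain ⟨k, hk⟩ := spec_exists_kill N f t' h1
  refine ⟨k, ?_⟩
  rw [smul_eq hU M ⊤ (f ^ k) t'] at hk
  have hinj : Function.Injective (M.presheaf.map (homOfLE e0.le).op) := by
    have : IsIso (M.presheaf.map (homOfLE e0.le).op) := by
      have : IsIso (homOfLE e0.le) := ⟨homOfLE e0.ge, Subsingleton.elim _ _, Subsingleton.elim _ _⟩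
      infer_instance
    exact ((ConcreteCategory.isIso_iff_bijective _).1 this).1
  apply hinj
  rw [map_zero, Scheme.Modules.map_smul]
  exact hk

end Aff

end Groth.Agent.Helper1.QcLoc
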