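import Mathlib
import Groth.Prelude.Def_CohTop
import Groth.Agent.Lib.Helper3.FCFree

set_option autoImplicit false
universe u
open CategoryTheory Limits Opposite TopologicalSpace

namespace Groth.Agent.Helper1.TCx

open Groth.Agent.Helper3

variable {X : TopCat.{u}} {ι : Type u} (U : ι → Opens X) (P : (Opens X)ᵒᵖ ⥤ AddCommGrpCat.{u})

lemma hom_sum_apply {M N : AddCommGrpCat.{u}} {α : Type*} (s : Finset α) (f : α → (M ⟶ N)) (x : M) :
    (∑ i ∈ s, f i).hom x = ∑ i ∈ s, (f i).hom x := by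
  have h : (∑ i ∈ s, f i).hom = ∑ i ∈ s, (f i).hom :=
    map_sum (AddCommGrpCat.homAddEquiv (M := M) (N := N)) f s
  rw [h, AddMonoidHom.finset_sum_apply]

/-- the (categorical) intersection of the members of the family indexed by a tuple -/
noncomputable abbrev W {n : ℕ} (a : Fin (n + 1) → ι) : Opens X := ∏ᶜ fun k => U (a k)

lemma W_le {n : ℕ} (a : Fin (n + 1) → ι) (k : Fin (n + 1)) : W U a ≤ U (a k) :=
  leOfHom (Pi.π (fun k => U (a k)) k)

lemma le_W {n : ℕ} (a : Fin (n + 1) → ι) (O : Opens X) (h : ∀ k, O ≤ U (a k)) : O ≤ W U a :=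
  leOfHom (Pi.lift fun k => homOfLE (h k))

lemma W_eq_iInf {n : ℕ} (a : Fin (n + 1) → ι) : W U a = ⨅ k, U (a k) :=
  le_antisymm (le_iInf fun k => W_le U a k) (le_W U a _ fun k => iInf_le _ k)

lemma W_face_le {n : ℕ} (a : Fin (n + 2) → ι) (i : Fin (n + 2)) :
    W U a ≤ W U (fun k => a (i.succAbove k)) :=
  le_W U _ _ fun k => W_le U a (i.succAbove k)

/-- the Čech complex -/
noncomputable abbrev K : CochainComplex AddCommGrpCat.{u} ℕ := (cechComplexFunctor U).obj P

/-- components of a cochain -/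
noncomputable def proj (n : ℕ) (a : Fin (n + 1) → ι) : (K U P).X n ⟶ P.obj (op (W U a)) :=
  Pi.π (fun a : Fin (n + 1) → ι => P.obj (op (W U a))) a

lemma ext (n : ℕ) (x y : (K U P).X n) (h : ∀ a, (proj U P n a).hom x = (proj U P n a).hom y) :
    x = y :=
  FCFree.pi_ext (fun a : Fin (n + 1) → ι => P.obj (op (W U a))) x y h

lemma exists_cochain (n : ℕ) (f : ∀ a : Fin (n + 1) → ι, P.obj (op (W U a))) :
    ∃ x : (K U P).X n, ∀ a, (proj U P n a).hom x = f a :=
  ⟨(FCFree.piIso (fun a : Fin (n + 1) → ι => P.obj (op (W U a)))).inv f,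
    fun a => FCFree.π_piIso_inv_apply _ f a⟩

/-- coface maps -/
noncomputable abbrev coface (n : ℕ) (i : Fin (n + 2)) : (K U P).X n ⟶ (K U P).X (n + 1) :=
  ((FormalCoproduct.cosimplicialObjectFunctor (FormalCoproduct.mk _ U).cech).obj P).δ i

lemma coface_proj (n : ℕ) (i : Fin (n + 2)) (a : Fin (n + 2) → ι) :
    coface U P n i ≫ proj U P (n + 1) a =
      proj U P n (fun k => a (i.succAbove k)) ≫ P.map (homOfLE (W_face_le U a i)).op := by
  have h : coface U P n i = Pi.lift (fun (b : Fin (n + 2) → ι) =>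
      Pi.π (fun (c : Fin (n + 1) → ι) => P.obj (op (W U c))) (fun k => b (i.succAbove k)) ≫
        P.map (homOfLE (W_face_le U b i)).op) := rfl
  rw [h]
  exact Pi.lift_π _ a

lemma d_eq (n : ℕ) :
    (K U P).d n (n + 1) = ∑ i : Fin (n + 2), (-1 : ℤ) ^ (i : ℕ) • coface U P n i := by
  exact CochainComplex.of_d (V := AddCommGrpCat.{u}) _
    (AlgebraicTopology.AlternatingCofaceMapComplex.objD
      ((FormalCoproduct.cosimplicialObjectFunctor (FormalCoproduct.mk _ U).cech).obj P)) n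

lemma d_apply (n : ℕ) (a : Fin (n + 2) → ι) (x : (K U P).X n) :
    (proj U P (n + 1) a).hom (((K U P).d n (n + 1)).hom x) =
      ∑ i : Fin (n + 2), (-1 : ℤ) ^ (i : ℕ) •
        (P.map (homOfLE (W_face_le U a i)).op).hom
          ((proj U P n (fun k => a (i.succAbove k))).hom x) := by
  have h : (K U P).d n (n + 1) ≫ proj U P (n + 1) a =
      ∑ i : Fin (n + 2), (-1 : ℤ) ^ (i : ℕ) •
        (proj U P n (fun k => a (i.succAbove k)) ≫ P.map (homOfLE (W_face_le U a i)).op) := by
    rw [d_eq, Preadditive.sum_comp]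
    refine Finset.sum_congr rfl fun i _ => ?_
    rw [Preadditive.zsmul_comp, coface_proj]
  have h2 := ConcreteCategory.congr_hom h x
  rw [ConcreteCategory.comp_apply] at h2
  rw [h2]
  exact hom_sum_apply _ _ x

/-- exactness criterion -/
lemma isZero_cechH_succ (p : ℕ)
    (h : ∀ x : (K U P).X (p + 1), ((K U P).d (p + 1) (p + 2)).hom x = 0 →
      ∃ y : (K U P).X p, ((K U P).d p (p + 1)).hom y = x) :
    IsZero (CohTop.cechH P U (p + 1)) := by
  rw [← HomologicalComplex.exactAt_iff_isZero_homology,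
    (K U P).exactAt_iff' p (p + 1) (p + 2) (by simp) (by simp), ShortComplex.ab_exact_iff]
  exact h

end Groth.Agent.Helper1.TCx
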