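import Mathlib
import Groth.Agent.Lib.Helper1.QcLoc
import Groth.Agent.Lib.Helper1.TCx

set_option autoImplicit false
universe u
open CategoryTheory CategoryTheory.Limits AlgebraicGeometry TopologicalSpace Opposite

namespace Groth.Agent.Helper1.QcCech

variable {X : Scheme.{u}} (M : X.Modules) {U₀ : X.Opens}

/-- restriction of sections, as an additive map -/
noncomputable def res {O O' : X.Opens} (h : O' ≤ O) : Γ(M, O) →+ Γ(M, O') :=
  (M.presheaf.map (homOfLE h).op).hom

lemma res_res {O O' O'' : X.Opens} (h : O' ≤ O) (h' : O'' ≤ O') (s : Γ(M, O)) :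
    res M h' (res M h s) = res M (h'.trans h) s := by
  change ((M.presheaf.map (homOfLE h).op) ≫ (M.presheaf.map (homOfLE h').op)).hom s = _
  rw [← Functor.map_comp]
  rfl

lemma res_self {O : X.Opens} (h : O ≤ O) (s : Γ(M, O)) : res M h s = s := by
  have : (homOfLE h).op = 𝟙 _ := Subsingleton.elim _ _
  change (M.presheaf.map (homOfLE h).op).hom s = s
  rw [this, CategoryTheory.Functor.map_id]
  rfl

/-- restriction of functions -/
noncomputable def resR {O O' : X.Opens} (h : O' ≤ O) : Γ(X, O) →+* Γ(X, O') :=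
  (X.presheaf.map (homOfLE h).op).hom

lemma resR_resR {O O' O'' : X.Opens} (h : O' ≤ O) (h' : O'' ≤ O') (r : Γ(X, O)) :
    resR h' (resR h r) = resR (h'.trans h) r := by
  change ((X.presheaf.map (homOfLE h).op) ≫ (X.presheaf.map (homOfLE h').op)).hom r = _
  rw [← Functor.map_comp]
  rfl

lemma res_smul {O O' : X.Opens} (h : O' ≤ O) (r : Γ(X, O)) (s : Γ(M, O)) :
    res M h (r • s) = resR h r • res M h s :=
  Scheme.Modules.map_smul M (homOfLE h) r s

/-- action of functions on the base open on sections over smaller opens -/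
noncomputable def rsmul {O : X.Opens} (h : O ≤ U₀) (r : Γ(X, U₀)) (s : Γ(M, O)) : Γ(M, O) :=
  resR h r • s

lemma res_rsmul {O O' : X.Opens} (h : O ≤ U₀) (h' : O' ≤ O) (r : Γ(X, U₀)) (s : Γ(M, O)) :
    res M h' (rsmul M h r s) = rsmul M (h'.trans h) r (res M h' s) := by
  rw [rsmul, rsmul, res_smul, resR_resR]

variable {ι : Type u} (g : ι → Γ(X, U₀))

/-- the standard family of basic opens -/
abbrev V : ι → X.Opens := fun i => X.basicOpen (g i)

lemma W_le_base {n : ℕ} (a : Fin (n + 1) → ι) : TCx.W (V g) a ≤ U₀ :=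
  (TCx.W_le (V g) a 0).trans (X.basicOpen_le _)

lemma W_cons_le {n : ℕ} (k : ι) (a : Fin (n + 1) → ι) :
    TCx.W (V g) (Fin.cons k a : Fin (n + 2) → ι) ≤ TCx.W (V g) a := by
  apply TCx.le_W
  intro j
  have := TCx.W_le (V g) (Fin.cons k a : Fin (n + 2) → ι) j.succ
  rwa [Fin.cons_succ] at this

lemma W_cons_eq {n : ℕ} (k : ι) (a : Fin (n + 1) → ι) :
    TCx.W (V g) (Fin.cons k a : Fin (n + 2) → ι) =
      X.basicOpen (resR (W_le_base g a) (g k)) := by
  rw [resR]
  erw [Scheme.basicOpen_res]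
  apply le_antisymm
  · apply le_inf (W_cons_le g k a)
    have := TCx.W_le (V g) (Fin.cons k a : Fin (n + 2) → ι) 0
    rwa [Fin.cons_zero] at this
  · apply TCx.le_W
    intro j
    refine Fin.cases ?_ (fun j' => ?_) j
    · rw [Fin.cons_zero]; exact inf_le_right
    · rw [Fin.cons_succ]; exact inf_le_left.trans (TCx.W_le (V g) a j')

lemma W_zero_eq (a : Fin 1 → ι) : TCx.W (V g) a = X.basicOpen (g (a 0)) := by
  apply le_antisymm (TCx.W_le (V g) a 0)
  apply TCx.le_W
  intro j
  obtain rfl : j = 0 := Fin.fin_one_eq_zero j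
  exact le_rfl

include g in
lemma isAffineOpen_W (hU₀ : IsAffineOpen U₀) : ∀ {n : ℕ} (a : Fin (n + 1) → ι),
    IsAffineOpen (TCx.W (V g) a) := by
  intro n
  induction n with
  | zero =>
    intro a
    rw [W_zero_eq]
    exact hU₀.basicOpen _
  | succ n ih =>
    intro a
    have h := W_cons_eq g (a 0) (Fin.tail a)
    rw [Fin.cons_self_tail] at h
    rw [h]
    exact (ih (Fin.tail a)).basicOpen _

/-- the `Γ(X, U₀)`-module structure on sections over an intersection -/
@[reducible] noncomputable def modW {n : ℕ} (a : Fin (n + 1) → ι) :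
    Module Γ(X, U₀) Γ(M, TCx.W (V g) a) :=
  Module.compHom _ (resR (W_le_base g a))

attribute [local instance] modW

lemma smul_def {n : ℕ} (a : Fin (n + 1) → ι) (r : Γ(X, U₀)) (s : Γ(M, TCx.W (V g) a)) :
    r • s = rsmul M (W_le_base g a) r s := rfl

/-- cochains as families of sections -/
abbrev Coch (n : ℕ) : Type u := ∀ a : Fin (n + 1) → ι, Γ(M, TCx.W (V g) a)

/-- restriction between intersections is linear over the base ring -/
noncomputable def resL {n m : ℕ} {a : Fin (n + 1) → ι} {b : Fin (m + 1) → ι}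
    (h : TCx.W (V g) b ≤ TCx.W (V g) a) :
    Γ(M, TCx.W (V g) a) →ₗ[Γ(X, U₀)] Γ(M, TCx.W (V g) b) where
  toFun := res M h
  map_add' := map_add _
  map_smul' r s := by
    rw [smul_def, res_rsmul]
    rfl

lemma resL_apply {n m : ℕ} {a : Fin (n + 1) → ι} {b : Fin (m + 1) → ι}
    (h : TCx.W (V g) b ≤ TCx.W (V g) a) (s : Γ(M, TCx.W (V g) a)) :
    resL M g h s = res M h s := rfl

/-- the Čech differential on families -/
noncomputable def D (n : ℕ) : Coch M g n →ₗ[Γ(X, U₀)] Coch M g (n + 1) :=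
  LinearMap.pi fun a => ∑ i : Fin (n + 2), (-1 : ℤ) ^ (i : ℕ) •
    (resL M g (TCx.W_face_le (V g) a i)).comp (LinearMap.proj (fun k => a (i.succAbove k)))

lemma D_apply (n : ℕ) (y : Coch M g n) (a : Fin (n + 2) → ι) :
    D M g n y a = ∑ i : Fin (n + 2), (-1 : ℤ) ^ (i : ℕ) •
      res M (TCx.W_face_le (V g) a i) (y (fun k => a (i.succAbove k))) := by
  simp [D, LinearMap.sum_apply, resL_apply]

section aux
variable [M.IsQuasicoherent]

lemma extend_aux {U : X.Opens} (hU : IsAffineOpen U) (f : Γ(X, U)) (O : X.Opens)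
    (hO : O = X.basicOpen f) (s : Γ(M, O)) :
    ∃ (n : ℕ) (t : Γ(M, U)), res M (hO.le.trans (X.basicOpen_le f)) t =
      (resR (hO.le.trans (X.basicOpen_le f)) f) ^ n • s := by
  subst hO
  exact QcLoc.exists_extend hU M f s

lemma kill_aux {U : X.Opens} (hU : IsAffineOpen U) (f : Γ(X, U)) (O : X.Opens)
    (hO : O = X.basicOpen f) (t : Γ(M, U)) (ht : res M (hO.le.trans (X.basicOpen_le f)) t = 0) :
    ∃ n : ℕ, f ^ n • t = 0 := by
  subst hO
  exact QcLoc.exists_kill hU M f t ht

end aux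

lemma res_congr {n : ℕ} (x : Coch M g n) {a b : Fin (n + 1) → ι} (hab : a = b) {O : X.Opens}
    (ha : O ≤ TCx.W (V g) a) (hb : O ≤ TCx.W (V g) b) : res M ha (x a) = res M hb (x b) := by
  subst hab
  rfl

lemma cons_comp_succ {n : ℕ} (k : ι) (a' : Fin (n + 1) → ι) (i : Fin (n + 1)) :
    (fun j => (Fin.cons k a' : Fin (n + 2) → ι) (i.succ.succAbove j)) =
      Fin.cons k (fun j => a' (i.succAbove j)) := by
  funext j
  refine Fin.cases ?_ (fun j' => ?_) j
  · rw [Fin.succ_succAbove_zero, Fin.cons_zero, Fin.cons_zero]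
  · rw [Fin.succ_succAbove_succ, Fin.cons_succ, Fin.cons_succ]

lemma cons_comp_zero {n : ℕ} (k : ι) (a' : Fin (n + 1) → ι) :
    (fun j => (Fin.cons k a' : Fin (n + 2) → ι) ((0 : Fin (n + 2)).succAbove j)) = a' := by
  funext j
  rw [Fin.succAbove_zero, Fin.cons_succ]

section steps
variable [M.IsQuasicoherent] (hU₀ : IsAffineOpen U₀) [Finite ι]

include hU₀ in
/-- extension of the `k`-th slice of a cochain after multiplication by a power of `g k` -/
lemma step1 (k : ι) (n : ℕ) (x : Coch M g (n + 1)) :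
    ∃ (N : ℕ) (y : Coch M g n), ∀ a, res M (W_cons_le g k a) (y a) = (g k) ^ N • x (Fin.cons k a) := by
  classical
  have : Fintype (Fin (n + 1) → ι) := Fintype.ofFinite _
  have h1 : ∀ a : Fin (n + 1) → ι, ∃ (m : ℕ) (t : Γ(M, TCx.W (V g) a)),
      res M (W_cons_le g k a) t = (g k) ^ m • x (Fin.cons k a) := by
    intro a
    obtain ⟨m, t, ht⟩ := extend_aux M (isAffineOpen_W g hU₀ a) (resR (W_le_base g a) (g k))
      _ (W_cons_eq g k a) (x (Fin.cons k a))
    refine ⟨m, t, ?_⟩
    rw [smul_def, rsmul, map_pow]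
    rw [resR_resR] at ht
    exact ht
  choose m t ht using h1
  refine ⟨∑ a, m a, fun a => (g k) ^ ((∑ a, m a) - m a) • t a, fun a => ?_⟩
  have hle : m a ≤ ∑ a, m a := Finset.single_le_sum (f := m) (fun _ _ => Nat.zero_le _) (Finset.mem_univ a)
  rw [← resL_apply, map_smul, resL_apply, ht, ← mul_smul, ← pow_add, Nat.sub_add_cancel hle]

omit [M.IsQuasicoherent] [Finite ι] in
lemma step2 (k : ι) (n : ℕ) (x : Coch M g (n + 1)) (hx : D M g (n + 1) x = 0) (N : ℕ)
    (y : Coch M g n)
    (hy : ∀ a, res M (W_cons_le g k a) (y a) = (g k) ^ N • x (Fin.cons k a))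
    (a' : Fin (n + 2) → ι) :
    res M (W_cons_le g k a') (D M g n y a' - (g k) ^ N • x a') = 0 := by
  set b : Fin (n + 3) → ι := Fin.cons k a' with hb
  have hO : ∀ i : Fin (n + 2), TCx.W (V g) b ≤ TCx.W (V g) (Fin.cons k (fun j => a' (i.succAbove j)) : Fin (n + 2) → ι) := by
    intro i
    have := TCx.W_face_le (V g) b i.succ
    rwa [hb, cons_comp_succ] at this
  have hxb := congrFun hx b
  rw [D_apply, Fin.sum_univ_succ] at hxb
  have h0 : res M (TCx.W_face_le (V g) b 0) (x (fun j => b ((0 : Fin (n + 3)).succAbove j))) =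
      res M (W_cons_le g k a') (x a') := res_congr M g x (cons_comp_zero k a') _ _
  have hi : ∀ i : Fin (n + 2), res M (TCx.W_face_le (V g) b i.succ) (x (fun j => b (i.succ.succAbove j))) =
      res M (hO i) (x (Fin.cons k (fun j => a' (i.succAbove j)))) := fun i =>
    res_congr M g x (cons_comp_succ k a' i) _ _
  simp only [h0, hi] at hxb
  -- the restriction of `D y a'`
  have h1 : res M (W_cons_le g k a') (D M g n y a') =
      ∑ i : Fin (n + 2), (-1 : ℤ) ^ (i : ℕ) • ((g k) ^ N • res M (hO i) (x (Fin.cons k (fun j => a' (i.succAbove j))))) := by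
    rw [D_apply, map_sum]
    refine Finset.sum_congr rfl fun i _ => ?_
    rw [map_zsmul, res_res]
    congr 1
    rw [← resL_apply M g (hO i), ← map_smul, resL_apply, ← hy, res_res]
  rw [map_sub, h1]
  have h2 : res M (W_cons_le g k a') ((g k) ^ N • x a') = (g k) ^ N • res M (W_cons_le g k a') (x a') := by
    rw [← resL_apply, map_smul, resL_apply]
  rw [h2]
  have h3 : res M (W_cons_le g k a') (x a') =
      ∑ i : Fin (n + 2), (-1 : ℤ) ^ (i : ℕ) • res M (hO i) (x (Fin.cons k (fun j => a' (i.succAbove j)))) := by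
    have : ∑ i : Fin (n + 2), (-1 : ℤ) ^ ((i.succ : Fin (n + 3)) : ℕ) • res M (hO i) (x (Fin.cons k (fun j => a' (i.succAbove j)))) =
        - ∑ i : Fin (n + 2), (-1 : ℤ) ^ (i : ℕ) • res M (hO i) (x (Fin.cons k (fun j => a' (i.succAbove j)))) := by
      rw [← Finset.sum_neg_distrib]
      refine Finset.sum_congr rfl fun i _ => ?_
      rw [Fin.val_succ, pow_succ, mul_neg_one, neg_smul]
    rw [this] at hxb
    simp only [Fin.val_zero, pow_zero, one_smul] at hxb
    exact eq_neg_of_add_eq_zero_left hxb |>.trans (neg_neg _)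
  rw [h3, Finset.smul_sum, sub_eq_zero]
  refine Finset.sum_congr rfl fun i _ => ?_
  rw [smul_comm]

include hU₀ in
lemma step3 (k : ι) (n : ℕ) (x : Coch M g (n + 1)) (hx : D M g (n + 1) x = 0) :
    ∃ (N : ℕ) (y : Coch M g n), D M g n y = (g k) ^ N • x := by
  classical
  have : Fintype (Fin (n + 2) → ι) := Fintype.ofFinite _
  obtain ⟨N, y, hy⟩ := step1 M g hU₀ k n x
  have h2 := step2 M g k n x hx N y hy
  have h3 : ∀ a' : Fin (n + 2) → ι, ∃ m : ℕ, (g k) ^ m • (D M g n y a' - (g k) ^ N • x a') = 0 := by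
    intro a'
    obtain ⟨m, hm⟩ := kill_aux M (isAffineOpen_W g hU₀ a') (resR (W_le_base g a') (g k)) _
      (W_cons_eq g k a') _ (h2 a')
    refine ⟨m, ?_⟩
    rw [smul_def, rsmul, map_pow]
    exact hm
  choose m hm using h3
  refine ⟨(∑ a, m a) + N, (g k) ^ (∑ a, m a) • y, ?_⟩
  funext a'
  rw [map_smul]
  have hle : m a' ≤ ∑ a, m a :=
    Finset.single_le_sum (f := m) (fun _ _ => Nat.zero_le _) (Finset.mem_univ a')
  have h4 : (g k) ^ (∑ a, m a) • (D M g n y a' - (g k) ^ N • x a') = 0 := by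
    rw [← Nat.sub_add_cancel hle, pow_add, mul_smul, hm, smul_zero]
  rw [smul_sub, sub_eq_zero] at h4
  rw [Pi.smul_apply, Pi.smul_apply, h4, ← mul_smul, ← pow_add]

include hU₀ in
/-- exactness of the Čech complex of a quasi-coherent module for a standard cover, on families -/
theorem exact_fam (hg : Ideal.span (Set.range g) = ⊤) (n : ℕ) (x : Coch M g (n + 1))
    (hx : D M g (n + 1) x = 0) : ∃ y : Coch M g n, D M g n y = x := by
  classical
  have : Fintype ι := Fintype.ofFinite _
  choose N y hy using fun k => step3 M g hU₀ k n x hx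
  set S := ∑ k, N k with hS
  have hspan : Ideal.span (Set.range fun k => (g k) ^ S) = ⊤ := by
    have := Ideal.span_pow_eq_top _ hg S
    rwa [← Set.range_comp] at this
  have h1 : (1 : Γ(X, U₀)) ∈ Ideal.span (Set.range fun k => (g k) ^ S) := by
    rw [hspan]; trivial
  obtain ⟨c, hc⟩ := Ideal.mem_span_range_iff_exists_fun.1 h1
  refine ⟨∑ k, (c k * (g k) ^ (S - N k)) • y k, ?_⟩
  rw [map_sum]
  have h2 : ∀ k, D M g n ((c k * (g k) ^ (S - N k)) • y k) = (c k * (g k) ^ S) • x := by
    intro k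
    have hle : N k ≤ S :=
      Finset.single_le_sum (f := N) (fun _ _ => Nat.zero_le _) (Finset.mem_univ k)
    rw [map_smul, hy, ← mul_smul, mul_assoc, ← pow_add, Nat.sub_add_cancel hle]
  simp only [h2]
  rw [← Finset.sum_smul, hc, one_smul]

include hU₀ in
/-- **Čech acyclicity of quasi-coherent modules for standard covers of affine opens.** -/
theorem isZero_cechH (hg : Ideal.span (Set.range g) = ⊤) (p : ℕ) :
    IsZero (CohTop.cechH M.presheaf (V g) (p + 1)) := by
  apply TCx.isZero_cechH_succ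
  intro x hx
  let xf : Coch M g (p + 1) := fun a => (TCx.proj (V g) M.presheaf (p + 1) a).hom x
  have hxf : D M g (p + 1) xf = 0 := by
    funext a
    rw [D_apply]
    have := TCx.d_apply (V g) M.presheaf (p + 1) a x
    rw [hx, map_zero] at this
    exact this.symm
  obtain ⟨yf, hyf⟩ := exact_fam M g hU₀ hg p xf hxf
  obtain ⟨y, hy⟩ := TCx.exists_cochain (V g) M.presheaf p yf
  refine ⟨y, ?_⟩
  apply TCx.ext
  intro a
  rw [TCx.d_apply]
  have := congrFun hyf a
  rw [D_apply] at this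
  simp only [hy]
  exact this

end steps

end Groth.Agent.Helper1.QcCech
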