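import Mathlib
import Groth.Prelude.Def_Coh
import Groth.Agent.Lib.Helper1.QcCech
import Groth.Agent.S0493

set_option autoImplicit false
universe u
open CategoryTheory CategoryTheory.Limits AlgebraicGeometry TopologicalSpace Opposite

namespace Groth.Agent.Helper1.QcAcyc

variable {X : Scheme.{u}}

/-- every open cover of an affine open is refined by a finite standard cover -/
theorem exists_standard_refinement {U : X.Opens} (hU : IsAffineOpen U) (κ : Type u)
    (W : κ → X.Opens) (hW : iSup W = U) :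
    ∃ (ι : Type u) (_ : Finite ι) (g : ι → Γ(X, U)), Ideal.span (Set.range g) = ⊤ ∧
      ∀ i, ∃ k, X.basicOpen (g i) ≤ W k := by
  classical
  let S : Set Γ(X, U) := {f | ∃ k, X.basicOpen f ≤ W k}
  have hS : Ideal.span S = ⊤ := by
    rw [← hU.self_le_iSup_basicOpen_iff]
    intro x hx
    have hx' : x ∈ iSup W := by rw [hW]; exact hx
    obtain ⟨k, hk⟩ := Opens.mem_iSup.1 hx'
    obtain ⟨f, hf1, hf2⟩ := hU.exists_basicOpen_le (V := W k) ⟨x, hk⟩ hx
    exact Opens.mem_iSup.2 ⟨⟨f, k, hf1⟩, hf2⟩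
  obtain ⟨s', hs'S, hs'⟩ := (Ideal.span_eq_top_iff_finite S).1 hS
  refine ⟨(s' : Set Γ(X, U)), inferInstance, fun i => i.1, ?_, fun i => hs'S i.2⟩
  rw [Subtype.range_coe]
  exact hs'

theorem iSup_V {U₀ : X.Opens} (hU₀ : IsAffineOpen U₀) {ι : Type u} (g : ι → Γ(X, U₀))
    (hg : Ideal.span (Set.range g) = ⊤) : iSup (QcCech.V g) = U₀ := by
  have := (hU₀.iSup_basicOpen_eq_self_iff (s := Set.range g)).2 hg
  rw [iSup_range'] at this
  exact this

/-- **Vanishing of higher cohomology of quasi-coherent modules on affine opens.** -/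
theorem subsingleton_HU (M : X.Modules) [M.IsQuasicoherent] (U : X.Opens) (hU : IsAffineOpen U)
    (p : ℕ) : Subsingleton (CohTop.HU (Coh.toAb M) (p + 1) U) := by
  refine Groth.Agent.S0493.result (X := X.toTopCat) (Coh.toAb M) {U | IsAffineOpen U} X.isBasis_affineOpens
    (fun ι V => Finite ι ∧ ∃ (U₀ : X.Opens) (_ : IsAffineOpen U₀) (g : ι → Γ(X, U₀)),
      Ideal.span (Set.range g) = ⊤ ∧ V = QcCech.V g) ?_ ?_ ?_ U hU p
  · rintro ι V ⟨hfin, U₀, hU₀, g, hg, rfl⟩
    refine ⟨?_, fun q a => ?_⟩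
    · rw [iSup_V hU₀ g hg]; exact hU₀
    · have := QcCech.isAffineOpen_W g hU₀ a
      rwa [TCx.W_eq_iInf] at this
  · intro U hU κ W hW
    obtain ⟨ι, hfin, g, hg, href⟩ := exists_standard_refinement hU κ W hW
    exact ⟨ι, QcCech.V g, ⟨hfin, U, hU, g, hg, rfl⟩, iSup_V hU g hg, href⟩
  · rintro ι V ⟨hfin, U₀, hU₀, g, hg, rfl⟩ q
    exact QcCech.isZero_cechH M g hU₀ hg q

end Groth.Agent.Helper1.QcAcyc
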