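import Mathlib
import Groth.Prelude.Def_Coh
import Groth.Agent.Lib.Helper1.QcAcyc
import Groth.Agent.Lib.Helper1.QCohLib
import Groth.Agent.Lib.Helper1.TildeQC
import Groth.Agent.Lib.Helper3.ShSec
import Groth.Agent.Lib.Helper5.Misc.SheafModGen
import Groth.Agent.S0466

set_option autoImplicit false
universe u
open CategoryTheory CategoryTheory.Limits AlgebraicGeometry TopologicalSpace Opposite

namespace Groth.Agent.Helper1.QcExt

open Groth.Agent.Helper1.QcCech Groth.Agent.Helper1.TildeQC PrimeSpectrum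

variable {X : Scheme.{u}} (S : ShortComplex X.Modules)

/-- the forgetful functor to abelian sheaves, on `X.Modules` -/
noncomputable def T (X : Scheme.{u}) : X.Modules ⥤ CohTop.Ab X.toTopCat :=
  SheafOfModules.toSheaf.{u} X.ringCatSheaf

instance : (T X).Additive :=
  inferInstanceAs (SheafOfModules.toSheaf.{u} X.ringCatSheaf).Additive
noncomputable instance : PreservesFiniteLimits (T X) :=
  inferInstanceAs (PreservesFiniteLimits (SheafOfModules.toSheaf.{u} X.ringCatSheaf))
noncomputable instance : PreservesFiniteColimits (T X) :=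
  inferInstanceAs (PreservesFiniteColimits (SheafOfModules.toSheaf.{u} X.ringCatSheaf))

/-- the underlying short complex of abelian sheaves -/
noncomputable def Sab : ShortComplex (CohTop.Ab X.toTopCat) :=
  S.map (T X)

variable {S} in
theorem Sab_shortExact (hS : S.ShortExact) : (Sab S).ShortExact := hS.map_of_exact _

variable {S} in
theorem app_injective (hS : S.ShortExact) (U : X.Opens) : Function.Injective (S.f.app U) :=
  Groth.Agent.Helper3.ShSec.injective_f (Sab_shortExact hS) U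

variable {S} in
theorem app_exact (hS : S.ShortExact) (U : X.Opens) (x : Γ(S.X₂, U)) (hx : S.g.app U x = 0) :
    ∃ y : Γ(S.X₁, U), S.f.app U y = x :=
  Groth.Agent.Helper3.ShSec.exact_sections (Sab_shortExact hS) U x hx

theorem app_zero (U : X.Opens) (y : Γ(S.X₁, U)) : S.g.app U (S.f.app U y) = 0 :=
  Groth.Agent.Helper3.ShSec.zero_apply (S := Sab S) U y

variable {S} in
theorem app_surjective (hS : S.ShortExact) [S.X₁.IsQuasicoherent] (U : X.Opens)
    (hU : IsAffineOpen U) : Function.Surjective (S.g.app U) := by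
  refine Groth.Agent.S0466.result (X := X.toTopCat) (Sab S) (Sab_shortExact hS) U ?_
  intro κ W hW
  obtain ⟨ι, hfin, g, hg, href⟩ := QcAcyc.exists_standard_refinement hU κ W hW
  choose r hr using href
  exact ⟨ι, QcCech.V g, r, QcAcyc.iSup_V hU g hg, hr, QcCech.isZero_cechH S.X₁ g hU hg 0⟩

theorem app_res {M N : X.Modules} (φ : M ⟶ N) {O O' : X.Opens} (h : O' ≤ O) (s : Γ(M, O)) :
    φ.app O' (res M h s) = res N h (φ.app O s) := by
  have := φ.mapPresheaf.naturality (homOfLE h).op
  exact (ConcreteCategory.congr_hom this s)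

variable {S} in
/-- sections of the middle term vanishing on `X_f` are killed by a power of `f` -/
theorem kill_mid (hS : S.ShortExact) [S.X₁.IsQuasicoherent] [S.X₃.IsQuasicoherent]
    {U : X.Opens} (hU : IsAffineOpen U) (f : Γ(X, U)) (O : X.Opens)
    (hO : O = X.basicOpen f) (t : Γ(S.X₂, U))
    (ht : res S.X₂ (hO.le.trans (X.basicOpen_le f)) t = 0) :
    ∃ n : ℕ, f ^ n • t = 0 := by
  have hle := hO.le.trans (X.basicOpen_le f)
  have h1 : res S.X₃ hle (S.g.app U t) = 0 := by
    rw [← app_res, ht, map_zero]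
  obtain ⟨k, hk⟩ := kill_aux S.X₃ hU f O hO _ h1
  rw [← Scheme.Modules.Hom.app_smul] at hk
  obtain ⟨s, hs⟩ := app_exact hS U _ hk
  have h2 : res S.X₁ hle s = 0 := by
    apply app_injective hS O
    rw [app_res, hs, res_smul, ht, smul_zero, map_zero]
  obtain ⟨l, hl⟩ := kill_aux S.X₁ hU f O hO s h2
  refine ⟨l + k, ?_⟩
  rw [pow_add, mul_smul, ← hs, ← Scheme.Modules.Hom.app_smul, hl, map_zero]

variable {S} in
/-- sections of the middle term over `X_f` extend after multiplication by a power of `f` -/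
theorem extend_mid (hS : S.ShortExact) [S.X₁.IsQuasicoherent] [S.X₃.IsQuasicoherent]
    {U : X.Opens} (hU : IsAffineOpen U) (f : Γ(X, U)) (O : X.Opens)
    (hO : O = X.basicOpen f) (y : Γ(S.X₂, O)) :
    ∃ (n : ℕ) (t : Γ(S.X₂, U)), res S.X₂ (hO.le.trans (X.basicOpen_le f)) t =
      (resR (hO.le.trans (X.basicOpen_le f)) f) ^ n • y := by
  have hle := hO.le.trans (X.basicOpen_le f)
  obtain ⟨k, h, hh⟩ := extend_aux S.X₃ hU f O hO (S.g.app O y)
  obtain ⟨t₁, rfl⟩ := app_surjective hS U hU h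
  have h1 : S.g.app O (res S.X₂ hle t₁ - (resR hle f) ^ k • y) = 0 := by
    rw [map_sub, app_res, hh, Scheme.Modules.Hom.app_smul, sub_self]
  obtain ⟨s, hs⟩ := app_exact hS O _ h1
  obtain ⟨l, s₁, hs₁⟩ := extend_aux S.X₁ hU f O hO s
  refine ⟨l + k, f ^ l • t₁ - S.f.app U s₁, ?_⟩
  rw [map_sub, res_smul, ← app_res, hs₁, Scheme.Modules.Hom.app_smul, hs, map_pow, smul_sub,
    sub_sub_cancel, pow_add, mul_smul]

variable {S} in
/-- **an extension of quasi-coherent modules is quasi-coherent** -/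
theorem isQuasicoherent_mid (hS : S.ShortExact) [S.X₁.IsQuasicoherent] [S.X₃.IsQuasicoherent] :
    S.X₂.IsQuasicoherent := by
  refine QCohLib.isQuasicoherent_of_affine_charts _ (I := X.affineOpens)
    (fun V => Γ(X, V.1)) (fun V => V.2.fromSpec) ?_ ?_
  · apply le_antisymm le_top
    intro y _
    obtain ⟨_, ⟨W, hW, rfl⟩, hyW, -⟩ := X.isBasis_affineOpens.exists_subset_of_mem_open
      (Set.mem_univ y) isOpen_univ
    refine Opens.mem_iSup.2 ⟨⟨W, hW⟩, ?_⟩
    rw [IsAffineOpen.opensRange_fromSpec]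
    exact hyW
  · rintro ⟨V, hV⟩
    apply isIso_fromTildeΓ_of
    · intro g y
      have e1 : hV.fromSpec ''ᵁ (basicOpen g) = X.basicOpen g := hV.fromSpec_image_basicOpen g
      have e0 : hV.fromSpec ''ᵁ ⊤ = V := QcLoc.image_top hV
      let y' : Γ(S.X₂, hV.fromSpec ''ᵁ (basicOpen g)) := y
      obtain ⟨n, t, ht⟩ := extend_mid hS hV g _ e1 y'
      refine ⟨n, (res S.X₂ e0.le t : Γ(S.X₂, hV.fromSpec ''ᵁ ⊤)), ?_⟩
      rw [act_def, QcLoc.smul_eq hV S.X₂ (basicOpen g) (g ^ n) y]
      have hle : hV.fromSpec ''ᵁ (basicOpen g) ≤ hV.fromSpec ''ᵁ ⊤ :=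
        (hV.fromSpec.opensFunctor.map (basicOpen g).leTop).le
      change resR (QcLoc.image_le hV (basicOpen g)) (g ^ n) • y' = res S.X₂ hle (res S.X₂ e0.le t)
      rw [res_res, map_pow]
      exact ht.symm
    · intro g t ht
      have e1 : hV.fromSpec ''ᵁ (basicOpen g) = X.basicOpen g := hV.fromSpec_image_basicOpen g
      have e0 : hV.fromSpec ''ᵁ ⊤ = V := QcLoc.image_top hV
      let t' : Γ(S.X₂, hV.fromSpec ''ᵁ ⊤) := t
      have hle : hV.fromSpec ''ᵁ (basicOpen g) ≤ hV.fromSpec ''ᵁ ⊤ :=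
        (hV.fromSpec.opensFunctor.map (basicOpen g).leTop).le
      have ht' : res S.X₂ hle t' = 0 := ht
      obtain ⟨n, hn⟩ := kill_mid hS hV g _ e1 (res S.X₂ e0.ge t') (by
        rw [res_res]
        exact ht')
      refine ⟨n, ?_⟩
      rw [act_def, QcLoc.smul_eq hV S.X₂ ⊤ (g ^ n) t]
      change resR (QcLoc.image_le hV ⊤) (g ^ n) • t' = 0
      have h2 := congrArg (res S.X₂ e0.le) hn
      rw [res_smul, res_res, res_self, map_zero] at h2
      exact h2

end Groth.Agent.Helper1.QcExt
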