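import Mathlib
import Groth.Prelude.Def_Coh
import Groth.Agent.Lib.Helper1.QcExt

set_option autoImplicit false
universe u
open CategoryTheory CategoryTheory.Limits AlgebraicGeometry TopologicalSpace Opposite

namespace Groth.Agent.Helper1.QcAbel

open Groth.Agent.Helper1.QcCech Groth.Agent.Helper1.TildeQC PrimeSpectrum
open Groth.Agent.Helper1.QcExt

variable {X : Scheme.{u}}

/-- the kill property -/
def KillP (G : X.Modules) : Prop :=
  ∀ (U : X.Opens) (_ : IsAffineOpen U) (f : Γ(X, U)) (O : X.Opens) (hO : O = X.basicOpen f)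
    (t : Γ(G, U)), res G (hO.le.trans (X.basicOpen_le f)) t = 0 → ∃ n : ℕ, f ^ n • t = 0

/-- the extension property -/
def ExtP (G : X.Modules) : Prop :=
  ∀ (U : X.Opens) (_ : IsAffineOpen U) (f : Γ(X, U)) (O : X.Opens) (hO : O = X.basicOpen f)
    (y : Γ(G, O)), ∃ (n : ℕ) (t : Γ(G, U)), res G (hO.le.trans (X.basicOpen_le f)) t =
      (resR (hO.le.trans (X.basicOpen_le f)) f) ^ n • y

theorem killP_of_isQuasicoherent (G : X.Modules) [G.IsQuasicoherent] : KillP G :=
  fun _ hU f O hO t ht => kill_aux G hU f O hO t ht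

theorem extP_of_isQuasicoherent (G : X.Modules) [G.IsQuasicoherent] : ExtP G :=
  fun _ hU f O hO y => extend_aux G hU f O hO y

/-- criterion for quasi-coherence -/
theorem isQuasicoherent_of_kill_ext (G : X.Modules) (hk : KillP G) (he : ExtP G) :
    G.IsQuasicoherent := by
  refine QCohLib.isQuasicoherent_of_affine_charts _ (I := X.affineOpens)
    (fun V => Γ(X, V.1)) (fun V => V.2.fromSpec) ?_ ?_
  · apply le_antisymm le_top
    intro y _
    obtain ⟨_, ⟨W, hW, rfl⟩, hyW, -⟩ := X.isBasis_affineOpens.exists_subset_of_mem_open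
      (Set.mem_univ y) isOpen_univ
    refine Opens.mem_iSup.2 ⟨⟨W, hW⟩, ?_⟩
    rw [IsAffineOpen.opensRange_fromSpec]
    exact hyW
  · rintro ⟨V, hV⟩
    apply isIso_fromTildeΓ_of
    · intro g y
      have e1 : hV.fromSpec ''ᵁ (basicOpen g) = X.basicOpen g := hV.fromSpec_image_basicOpen g
      have e0 : hV.fromSpec ''ᵁ ⊤ = V := QcLoc.image_top hV
      let y' : Γ(G, hV.fromSpec ''ᵁ (basicOpen g)) := y
      obtain ⟨n, t, ht⟩ := he V hV g _ e1 y'
      refine ⟨n, (res G e0.le t : Γ(G, hV.fromSpec ''ᵁ ⊤)), ?_⟩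
      rw [act_def, QcLoc.smul_eq hV G (basicOpen g) (g ^ n) y]
      have hle : hV.fromSpec ''ᵁ (basicOpen g) ≤ hV.fromSpec ''ᵁ ⊤ :=
        (hV.fromSpec.opensFunctor.map (basicOpen g).leTop).le
      change resR (QcLoc.image_le hV (basicOpen g)) (g ^ n) • y' = res G hle (res G e0.le t)
      rw [res_res, map_pow]
      exact ht.symm
    · intro g t ht
      have e1 : hV.fromSpec ''ᵁ (basicOpen g) = X.basicOpen g := hV.fromSpec_image_basicOpen g
      have e0 : hV.fromSpec ''ᵁ ⊤ = V := QcLoc.image_top hV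
      let t' : Γ(G, hV.fromSpec ''ᵁ ⊤) := t
      have hle : hV.fromSpec ''ᵁ (basicOpen g) ≤ hV.fromSpec ''ᵁ ⊤ :=
        (hV.fromSpec.opensFunctor.map (basicOpen g).leTop).le
      have ht' : res G hle t' = 0 := ht
      obtain ⟨n, hn⟩ := hk V hV g _ e1 (res G e0.ge t') (by
        rw [res_res]
        exact ht')
      refine ⟨n, ?_⟩
      rw [act_def, QcLoc.smul_eq hV G ⊤ (g ^ n) t]
      change resR (QcLoc.image_le hV ⊤) (g ^ n) • t' = 0
      have h2 := congrArg (res G e0.le) hn
      rw [res_smul, res_res, res_self, map_zero] at h2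
      exact h2

/-! ### left exact sequences -/

section LeftExact
variable {S : ShortComplex X.Modules}

theorem app_injective' [Mono S.f] (U : X.Opens) : Function.Injective (S.f.app U) := by
  have : (T X).PreservesMonomorphisms := preservesMonomorphisms_of_preservesLimitsOfShape _
  have : Mono ((T X).map S.f) := inferInstance
  have h : Mono ((Groth.Agent.Helper3.ShSec.Γ _ U).map ((T X).map S.f)) := inferInstance
  exact (AddCommGrpCat.mono_iff_injective _).1 h

theorem app_exact' (hS : S.Exact) [Mono S.f] (U : X.Opens) (x : Γ(S.X₂, U))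
    (hx : S.g.app U x = 0) : ∃ y : Γ(S.X₁, U), S.f.app U y = x := by
  have h1 : (S.map (T X)).Exact := hS.map_of_mono_of_preservesKernel (T X) inferInstance inferInstance
  have : (T X).PreservesMonomorphisms := preservesMonomorphisms_of_preservesLimitsOfShape _
  have : Mono (S.map (T X)).f := inferInstanceAs (Mono ((T X).map S.f))
  have h : ((S.map (T X)).map (Groth.Agent.Helper3.ShSec.Γ _ U)).Exact :=
    h1.map_of_mono_of_preservesKernel _ inferInstance inferInstance
  rw [ShortComplex.ab_exact_iff] at h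
  exact h x hx

/-- the kernel term of a left exact sequence of quasi-coherent modules is quasi-coherent -/
theorem isQuasicoherent_left (hS : S.Exact) [Mono S.f] [S.X₂.IsQuasicoherent]
    [S.X₃.IsQuasicoherent] : S.X₁.IsQuasicoherent := by
  apply isQuasicoherent_of_kill_ext
  · intro U hU f O hO t ht
    have hle := hO.le.trans (X.basicOpen_le f)
    have h1 : res S.X₂ hle (S.f.app U t) = 0 := by rw [← app_res, ht, map_zero]
    obtain ⟨n, hn⟩ := kill_aux S.X₂ hU f O hO _ h1
    refine ⟨n, app_injective' U ?_⟩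
    rw [Scheme.Modules.Hom.app_smul, hn, map_zero]
  · intro U hU f O hO y
    have hle := hO.le.trans (X.basicOpen_le f)
    obtain ⟨n, t, ht⟩ := extend_aux S.X₂ hU f O hO (S.f.app O y)
    have h1 : res S.X₃ hle (S.g.app U t) = 0 := by
      rw [← app_res, ht, Scheme.Modules.Hom.app_smul, app_zero, smul_zero]
    obtain ⟨m, hm⟩ := kill_aux S.X₃ hU f O hO _ h1
    rw [← Scheme.Modules.Hom.app_smul] at hm
    obtain ⟨s, hs⟩ := app_exact' hS U _ hm
    refine ⟨m + n, s, app_injective' O ?_⟩
    rw [app_res, hs, res_smul, ht, Scheme.Modules.Hom.app_smul, map_pow, ← mul_smul, ← pow_add]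

end LeftExact

/-- the cokernel term of a short exact sequence of quasi-coherent modules is quasi-coherent -/
theorem isQuasicoherent_right {S : ShortComplex X.Modules} (hS : S.ShortExact)
    [S.X₁.IsQuasicoherent] [S.X₂.IsQuasicoherent] : S.X₃.IsQuasicoherent := by
  apply isQuasicoherent_of_kill_ext
  · intro U hU f O hO t ht
    have hle := hO.le.trans (X.basicOpen_le f)
    obtain ⟨t', rfl⟩ := app_surjective hS U hU t
    rw [← app_res] at ht
    obtain ⟨s, hs⟩ := app_exact hS O _ ht
    obtain ⟨n, s₁, hs₁⟩ := extend_aux S.X₁ hU f O hO s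
    have h1 : res S.X₂ hle (f ^ n • t' - S.f.app U s₁) = 0 := by
      rw [map_sub, res_smul, ← app_res, hs₁, Scheme.Modules.Hom.app_smul, hs, map_pow, sub_self]
    obtain ⟨m, hm⟩ := kill_aux S.X₂ hU f O hO _ h1
    refine ⟨m + n, ?_⟩
    have h2 := congrArg (S.g.app U) hm
    rw [Scheme.Modules.Hom.app_smul, map_sub, app_zero, sub_zero, Scheme.Modules.Hom.app_smul,
      ← mul_smul, ← pow_add, map_zero] at h2
    exact h2
  · intro U hU f O hO y
    have hle := hO.le.trans (X.basicOpen_le f)
    have hOaff : IsAffineOpen O := by rw [hO]; exact hU.basicOpen f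
    obtain ⟨y', rfl⟩ := app_surjective hS O hOaff y
    obtain ⟨n, t, ht⟩ := extend_aux S.X₂ hU f O hO y'
    refine ⟨n, S.g.app U t, ?_⟩
    rw [← app_res, ht, Scheme.Modules.Hom.app_smul]

theorem isQuasicoherent_of_iso {M N : X.Modules} (e : M ≅ N) [M.IsQuasicoherent] :
    N.IsQuasicoherent :=
  (SheafOfModules.isQuasicoherent X.ringCatSheaf).prop_of_iso e ‹_›

theorem sections_eq_zero_of_isZero {G : X.Modules} (hG : IsZero G) (U : X.Opens) (t : Γ(G, U)) :
    t = 0 := by
  have h : (𝟙 G : G ⟶ G) = 0 := hG.eq_of_src _ _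
  have h2 : (𝟙 G : G ⟶ G).app U t = (0 : G ⟶ G).app U t := by rw [h]
  simpa using h2

theorem isQuasicoherent_of_isZero {G : X.Modules} (hG : IsZero G) : G.IsQuasicoherent := by
  apply isQuasicoherent_of_kill_ext
  · intro U hU f O hO t ht
    exact ⟨0, by rw [sections_eq_zero_of_isZero hG U t, smul_zero]⟩
  · intro U hU f O hO y
    exact ⟨0, 0, by rw [sections_eq_zero_of_isZero hG O y, smul_zero, map_zero]⟩

section KerCoker
variable {M N : X.Modules} (φ : M ⟶ N)

theorem isQuasicoherent_kernel [M.IsQuasicoherent] [N.IsQuasicoherent] :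
    (kernel φ).IsQuasicoherent := by
  let S : ShortComplex X.Modules := ShortComplex.mk (kernel.ι φ) φ (kernel.condition φ)
  have hS : S.Exact := ShortComplex.exact_of_f_is_kernel _ (kernelIsKernel φ)
  have : Mono S.f := inferInstanceAs (Mono (kernel.ι φ))
  have : S.X₂.IsQuasicoherent := ‹M.IsQuasicoherent›
  have : S.X₃.IsQuasicoherent := ‹N.IsQuasicoherent›
  exact isQuasicoherent_left (S := S) hS

theorem isQuasicoherent_image [M.IsQuasicoherent] [N.IsQuasicoherent] :
    (Abelian.image φ).IsQuasicoherent := by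
  have := isQuasicoherent_kernel φ
  let S : ShortComplex X.Modules := ShortComplex.mk (kernel.ι φ) (Abelian.factorThruImage φ) (by
    rw [← cancel_mono (Abelian.image.ι φ), Category.assoc, Abelian.image.fac, kernel.condition,
      zero_comp])
  let S' : ShortComplex X.Modules := ShortComplex.mk (kernel.ι φ) φ (kernel.condition φ)
  have hS' : S'.Exact := ShortComplex.exact_of_f_is_kernel _ (kernelIsKernel φ)
  let α : S ⟶ S' := { τ₁ := 𝟙 _, τ₂ := 𝟙 _, τ₃ := Abelian.image.ι φ }
  have : Epi α.τ₁ := inferInstanceAs (Epi (𝟙 _))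
  have : IsIso α.τ₂ := inferInstanceAs (IsIso (𝟙 _))
  have : Mono α.τ₃ := inferInstanceAs (Mono (Abelian.image.ι φ))
  have hS : S.Exact := (ShortComplex.exact_iff_of_epi_of_isIso_of_mono α).2 hS'
  have : Mono S.f := inferInstanceAs (Mono (kernel.ι φ))
  have : Epi S.g := inferInstanceAs (Epi (Abelian.factorThruImage φ))
  have hSE : S.ShortExact := { exact := hS }
  have : S.X₁.IsQuasicoherent := ‹(kernel φ).IsQuasicoherent›
  have : S.X₂.IsQuasicoherent := ‹M.IsQuasicoherent›
  exact isQuasicoherent_right (S := S) hSE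

theorem isQuasicoherent_cokernel [M.IsQuasicoherent] [N.IsQuasicoherent] :
    (cokernel φ).IsQuasicoherent := by
  have := isQuasicoherent_image φ
  let S : ShortComplex X.Modules := ShortComplex.mk (Abelian.image.ι φ) (cokernel.π φ)
    (kernel.condition _)
  have hS : S.Exact := ShortComplex.exact_of_f_is_kernel _ (kernelIsKernel (cokernel.π φ))
  have : Mono S.f := inferInstanceAs (Mono (Abelian.image.ι φ))
  have : Epi S.g := inferInstanceAs (Epi (cokernel.π φ))
  have hSE : S.ShortExact := { exact := hS }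
  have : S.X₁.IsQuasicoherent := ‹(Abelian.image φ).IsQuasicoherent›
  have : S.X₂.IsQuasicoherent := ‹N.IsQuasicoherent›
  exact isQuasicoherent_right (S := S) hSE

end KerCoker

end Groth.Agent.Helper1.QcAbel
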