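import Mathlib
import Groth.Prelude.Def_CohB1

/-! Tools for identifying `CohB1.tensorMod M N` (sheafified tensor product) with a given module
`L`, from a bilinear pairing which is "locally perfect". -/

open AlgebraicGeometry CategoryTheory Opposite TopologicalSpace MonoidalCategory

universe u v v' u'

namespace Groth.Agent.Helper1.TensLib

section Abstract
variable {C : Type u'} [Category.{v'} C] {J : GrothendieckTopology C}
  {R₀ : Cᵒᵖ ⥤ RingCat.{u}} {R : Sheaf J RingCat.{u}} (α : R₀ ⟶ R.obj)
  [Presheaf.IsLocallyInjective J α] [Presheaf.IsLocallySurjective J α]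
  [J.WEqualsLocallyBijective AddCommGrpCat.{v}] [HasWeakSheafify J AddCommGrpCat.{v}]

theorem isIso_of_locallyBijective_abs (P : PresheafOfModules.{v} R₀) (L : SheafOfModules.{v} R)
    (μ : P ⟶ (SheafOfModules.forget R ⋙ PresheafOfModules.restrictScalars α).obj L)
    (hinj : Presheaf.IsLocallyInjective J ((PresheafOfModules.toPresheaf _).map μ))
    (hsurj : Presheaf.IsLocallySurjective J ((PresheafOfModules.toPresheaf _).map μ)) :
    IsIso (((PresheafOfModules.sheafificationAdjunction α).homEquiv P L).symm μ) := by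
  rw [Adjunction.homEquiv_counit]
  have h1 : IsIso ((PresheafOfModules.sheafification α).map μ) := by
    rw [← isIso_iff_of_reflects_iso _ (SheafOfModules.toSheaf R)]
    have hW : J.W ((PresheafOfModules.toPresheaf _).map μ) :=
      (J.W_iff_isLocallyBijective _).2 ⟨hinj, hsurj⟩
    exact (J.W_iff _).1 hW
  infer_instance
end Abstract

section Top
variable {X : Scheme.{u}}

theorem nonempty_sheafify_iso (P : X.PresheafOfModules) (L : X.Modules)
    (μ : P ⟶ (SheafOfModules.forget X.ringCatSheaf ⋙
      PresheafOfModules.restrictScalars (𝟙 X.ringCatSheaf.obj)).obj L)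
    (good : X.Opens → Prop) (hcov : ∀ x : X, ∃ V, good V ∧ x ∈ V)
    (hle : ∀ V V', good V → V' ≤ V → good V')
    (hbij : ∀ V, good V → Function.Bijective (μ.app (op V))) :
    Nonempty ((CohB1.sheafifyMod X).obj P ≅ L) := by
  have hinj : Presheaf.IsLocallyInjective (Opens.grothendieckTopology X)
      ((PresheafOfModules.toPresheaf _).map μ) := by
    constructor
    intro U x y h
    rw [Opens.mem_grothendieckTopology]
    intro p hp
    obtain ⟨V, hV, hpV⟩ := hcov p
    refine ⟨V ⊓ U.unop, homOfLE inf_le_right, ?_, ⟨hpV, hp⟩⟩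
    have hg : good (V ⊓ U.unop) := hle V _ hV inf_le_left
    apply (hbij _ hg).1
    have h1 := NatTrans.naturality_apply ((PresheafOfModules.toPresheaf _).map μ)
      (homOfLE (inf_le_right : V ⊓ U.unop ≤ U.unop)).op x
    have h2 := NatTrans.naturality_apply ((PresheafOfModules.toPresheaf _).map μ)
      (homOfLE (inf_le_right : V ⊓ U.unop ≤ U.unop)).op y
    rw [h] at h1
    exact h1.trans h2.symm
  have hsurj : Presheaf.IsLocallySurjective (Opens.grothendieckTopology X)
      ((PresheafOfModules.toPresheaf _).map μ) := by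
    constructor
    intro U s
    rw [Opens.mem_grothendieckTopology]
    intro p hp
    obtain ⟨V, hV, hpV⟩ := hcov p
    refine ⟨V ⊓ U, homOfLE inf_le_right, ?_, ⟨hpV, hp⟩⟩
    have hg : good (V ⊓ U) := hle V _ hV inf_le_left
    exact (hbij _ hg).2 _
  have := isIso_of_locallyBijective_abs (𝟙 X.ringCatSheaf.obj) P L μ hinj hsurj
  exact ⟨@asIso _ _ _ _ _ this⟩

end Top

section Alg
open TensorProduct

theorem lift_bijective {R M N L : Type*} [CommRing R] [AddCommGroup M] [Module R M]
    [AddCommGroup N] [Module R N] [AddCommGroup L] [Module R L]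
    (β : M →ₗ[R] N →ₗ[R] L) (σ : M) (hσ : Function.Bijective (fun r : R => r • σ))
    (hβ : Function.Bijective (β σ)) : Function.Bijective (TensorProduct.lift β) := by
  let e : R ≃ₗ[R] M := LinearEquiv.ofBijective (LinearMap.toSpanSingleton R M σ) hσ
  let g : N ≃ₗ[R] M ⊗[R] N :=
    (TensorProduct.lid R N).symm ≪≫ₗ TensorProduct.congr e (LinearEquiv.refl R N)
  have hg : ∀ n, g n = σ ⊗ₜ n := by
    intro n
    have h1 : e 1 = σ := by
      change (1 : R) • σ = σ
      exact one_smul _ _
    simp only [g, LinearEquiv.trans_apply, TensorProduct.lid_symm_apply, TensorProduct.congr_tmul,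
      LinearEquiv.refl_apply, h1]
  have hcomp : (TensorProduct.lift β) ∘ g = β σ := by
    funext n
    simp [hg]
  refine (Function.Bijective.of_comp_iff (TensorProduct.lift β) g.bijective).1 ?_
  rw [hcomp]
  exact hβ

end Alg

section Pairing
variable {X : Scheme.{u}}

/-- bilinear pairing data -/
structure Pairing (M N L : X.Modules) where
  β : ∀ U : (Opens X)ᵒᵖ, (CohB1.toPMod M).obj U → (CohB1.toPMod N).obj U → (CohB1.toPMod L).obj U
  add_left : ∀ U m₁ m₂ n, β U (m₁ + m₂) n = β U m₁ n + β U m₂ n
  smul_left : ∀ U (a : (X.sheaf.obj ⋙ forget₂ CommRingCat RingCat.{u}).obj U) m n,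
    β U (a • m) n = a • β U m n
  add_right : ∀ U m n₁ n₂, β U m (n₁ + n₂) = β U m n₁ + β U m n₂
  smul_right : ∀ U (a : (X.sheaf.obj ⋙ forget₂ CommRingCat RingCat.{u}).obj U) m n,
    β U m (a • n) = a • β U m n
  nat : ∀ {U V : (Opens X)ᵒᵖ} (f : U ⟶ V) m n,
    (CohB1.toPMod L).map f (β U m n) = β V ((CohB1.toPMod M).map f m) ((CohB1.toPMod N).map f n)

noncomputable def Pairing.μ₀ {M N L : X.Modules} (p : Pairing M N L) :
    CohB1.tensorPre M N ⟶ CohB1.toPMod L where
  app U := ModuleCat.MonoidalCategory.tensorLift (p.β U) (p.add_left U) (p.smul_left U)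
    (p.add_right U) (p.smul_right U)
  naturality := by
    intro U V f
    apply ModuleCat.MonoidalCategory.tensor_ext
    intro m n
    exact (p.nat f m n).symm

theorem Pairing.nonempty_tensorMod_iso {M N L : X.Modules} (p : Pairing M N L)
    (good : X.Opens → Prop) (hcov : ∀ x : X, ∃ V, good V ∧ x ∈ V)
    (hle : ∀ V V', good V → V' ≤ V → good V')
    (hσ : ∀ V, good V → ∃ σ : (CohB1.toPMod M).obj (op V),
      Function.Bijective (fun r : (X.sheaf.obj ⋙ forget₂ CommRingCat RingCat.{u}).obj (op V) => r • σ) ∧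
      Function.Bijective (p.β (op V) σ)) :
    Nonempty (CohB1.tensorMod M N ≅ L) := by
  refine nonempty_sheafify_iso (show X.PresheafOfModules from CohB1.tensorPre M N) L p.μ₀
    good hcov hle ?_
  intro V hV
  obtain ⟨σ, hσ1, hσ2⟩ := hσ V hV
  exact lift_bijective (LinearMap.mk₂ _ (p.β (op V)) (p.add_left _) (p.smul_left _)
    (p.add_right _) (p.smul_right _)) σ hσ1 hσ2

end Pairing

end Groth.Agent.Helper1.TensLib
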