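import Mathlib
import Groth.Prelude.Def_FlatMod2

/-! A module on a scheme restricted to an open `U` is trivial as soon as it has a section over `U`
which is a basis over every smaller open. -/

open AlgebraicGeometry CategoryTheory Opposite TopologicalSpace Limits

universe u

namespace Groth.Agent.Helper1.ModTriv

variable {X : Scheme.{u}}

theorem nonempty_restrict_iso_unit (M : X.Modules) (U : X.Opens) (σ : Γ(M, U))
    (h : ∀ (V : X.Opens) (hV : V ≤ U), Function.Bijective
      (fun r : Γ(X, V) => r • M.presheaf.map (homOfLE hV).op σ)) :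
    Nonempty (M.restrict U.ι ≅ SheafOfModules.unit (U : Scheme.{u}).ringCatSheaf) := by
  let N : (U : Scheme.{u}).Modules := M.restrict U.ι
  let s : SheafOfModules.sections N := PresheafOfModules.sectionsMk
    (fun V => (M.presheaf.map (homOfLE (U.ι_image_le V.unop)).op σ : Γ(M, U.ι ''ᵁ V.unop)))
    (by
      intro V W f
      change (M.presheaf.map (U.ι.opensFunctor.map f.unop).op)
        (M.presheaf.map (homOfLE (U.ι_image_le V.unop)).op σ) = _
      rw [← ConcreteCategory.comp_apply, ← Functor.map_comp]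
      rfl)
  let φ : SheafOfModules.unit (U : Scheme.{u}).ringCatSheaf ⟶ N :=
    (SheafOfModules.unitHomEquiv N).symm s
  have hφ : IsIso φ := by
    have : ∀ V : (U : Scheme.{u}).Opens, IsIso (Scheme.Modules.Hom.app
        (M := SheafOfModules.unit (U : Scheme.{u}).ringCatSheaf) (N := N) φ V) := by
      intro V
      rw [ConcreteCategory.isIso_iff_bijective]
      have key : ∀ r : Γ((U : Scheme.{u}), V), (Scheme.Modules.Hom.app
          (M := SheafOfModules.unit (U : Scheme.{u}).ringCatSheaf) (N := N) φ V) r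
          = ((U.ι.appIso V).inv r : Γ(X, U.ι ''ᵁ V)) •
            M.presheaf.map (homOfLE (U.ι_image_le V)).op σ := fun r => rfl
      have hb := h (U.ι ''ᵁ V) (U.ι_image_le V)
      have hb2 : Function.Bijective
          (fun r : Γ((U : Scheme.{u}), V) => ((U.ι.appIso V).inv r : Γ(X, U.ι ''ᵁ V))) :=
        (ConcreteCategory.isIso_iff_bijective (U.ι.appIso V).inv).1 inferInstance
      exact hb.comp hb2
    exact Scheme.Modules.Hom.isIso_iff_isIso_app.2 this
  exact ⟨(asIso φ).symm⟩

/-- version for an arbitrary open immersion -/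
theorem nonempty_restrict_iso_unit' {Y : Scheme.{u}} (j : Y ⟶ X) [IsOpenImmersion j]
    (M : X.Modules) (σ : Γ(M, j.opensRange))
    (h : ∀ (V : X.Opens) (hV : V ≤ j.opensRange), Function.Bijective
      (fun r : Γ(X, V) => r • M.presheaf.map (homOfLE hV).op σ)) :
    Nonempty (M.restrict j ≅ SheafOfModules.unit Y.ringCatSheaf) := by
  obtain ⟨e⟩ := nonempty_restrict_iso_unit M j.opensRange σ h
  -- j = isoOpensRange.hom ≫ opensRange.ι
  have hj : j = j.isoOpensRange.hom ≫ j.opensRange.ι := by simp
  let e1 : M.restrict j ≅ (M.restrict j.opensRange.ι).restrict j.isoOpensRange.hom :=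
    (Scheme.Modules.restrictFunctorCongr hj).app M ≪≫
      (Scheme.Modules.restrictFunctorComp j.isoOpensRange.hom j.opensRange.ι).app M
  let e2 : (M.restrict j.opensRange.ι).restrict j.isoOpensRange.hom ≅
      Scheme.Modules.restrict (SheafOfModules.unit (j.opensRange : Scheme.{u}).ringCatSheaf)
        j.isoOpensRange.hom :=
    (Scheme.Modules.restrictFunctor j.isoOpensRange.hom).mapIso e
  exact ⟨e1 ≪≫ e2 ≪≫ Scheme.Modules.restrictUnitIso j.isoOpensRange.hom⟩

/-- a global section as a compatible family -/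
noncomputable def secOfTop (N : X.Modules) (σ : Γ(N, ⊤)) : SheafOfModules.sections N :=
  PresheafOfModules.sectionsMk
    (fun V => (N.presheaf.map (homOfLE (le_top : V.unop ≤ ⊤)).op σ : Γ(N, V.unop)))
    (by
      intro V W f
      change (N.presheaf.map f) (N.presheaf.map (homOfLE (le_top : V.unop ≤ ⊤)).op σ) = _
      rw [← ConcreteCategory.comp_apply, ← Functor.map_comp]
      rfl)

theorem exists_epi_of_locally_span (N : X.Modules) {k : ℕ} (σ : Fin k → Γ(N, ⊤))
    (h : ∀ (U : X.Opens) (s : Γ(N, U)) (x : X), x ∈ U → ∃ (V : X.Opens) (hVU : V ≤ U), x ∈ V ∧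
      N.presheaf.map (homOfLE hVU).op s ∈ Submodule.span Γ(X, V)
        (Set.range fun i => N.presheaf.map (homOfLE (le_top : V ≤ ⊤)).op (σ i))) :
    ∃ p : FlatMod.freeMod X k ⟶ N, Epi p := by
  let f : ∀ i : Fin k, Coh.structureModule X ⟶ N := fun i =>
    (SheafOfModules.unitHomEquiv N).symm (secOfTop N (σ i))
  refine ⟨Sigma.desc f, ⟨fun {Q} g g' hgg' => ?_⟩⟩
  have h1 : ∀ i, f i ≫ g = f i ≫ g' := by
    intro i
    have := congrArg (fun q => Sigma.ι (fun _ : Fin k => Coh.structureModule X) i ≫ q) hgg'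
    simpa using this
  have h2 : ∀ (i : Fin k) (V : X.Opens),
      g.app V (N.presheaf.map (homOfLE (le_top : V ≤ ⊤)).op (σ i)) =
      g'.app V (N.presheaf.map (homOfLE (le_top : V ≤ ⊤)).op (σ i)) := by
    intro i V
    have e : (SheafOfModules.unitHomEquiv N).symm (secOfTop N (σ i)) ≫ g =
        (SheafOfModules.unitHomEquiv N).symm (secOfTop N (σ i)) ≫ g' := h1 i
    have e1 := SheafOfModules.unitHomEquiv_symm_comp (secOfTop N (σ i)) g
    have e2 := SheafOfModules.unitHomEquiv_symm_comp (secOfTop N (σ i)) g'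
    have e' := (SheafOfModules.unitHomEquiv Q).symm.injective (e1.symm.trans (e.trans e2))
    exact congrArg (fun q : SheafOfModules.sections Q => q.val (op V)) e'
  apply Scheme.Modules.hom_ext
  intro U
  ext s
  -- local cover
  choose V hVU hxV hspan using fun x : U => h U s x.1 x.2
  refine TopCat.Sheaf.eq_of_locally_eq' (⟨Q.presheaf, Q.isSheaf⟩ : TopCat.Sheaf Ab X) V U
    (fun x => homOfLE (hVU x)) (fun x hx => Opens.mem_iSup.2 ⟨⟨x, hx⟩, hxV ⟨x, hx⟩⟩) _ _ ?_
  intro x
  change Q.presheaf.map (homOfLE (hVU x)).op (g.app U s) =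
    Q.presheaf.map (homOfLE (hVU x)).op (g'.app U s)
  have n1 := NatTrans.naturality_apply g.mapPresheaf (homOfLE (hVU x)).op s
  have n2 := NatTrans.naturality_apply g'.mapPresheaf (homOfLE (hVU x)).op s
  simp only [Scheme.Modules.mapPresheaf_app] at n1 n2
  erw [← n1, ← n2]
  have hs := hspan x
  generalize (N.presheaf.map (homOfLE (hVU x)).op) s = w at hs ⊢
  induction hs using Submodule.span_induction with
  | mem y hy =>
    obtain ⟨i, rfl⟩ := hy
    exact h2 i (V x)
  | zero => simp
  | add y z _ _ hy hz => rw [map_add, map_add, hy, hz]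
  | smul r y _ hy => rw [Scheme.Modules.Hom.app_smul, Scheme.Modules.Hom.app_smul, hy]

end Groth.Agent.Helper1.ModTriv
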