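import Mathlib
import Groth.Agent.Lib.Helper1.TwistTriv
import Groth.Agent.Lib.Helper1.TensLib

open DirectSum CategoryTheory AlgebraicGeometry TopologicalSpace Opposite HomogeneousLocalization

universe u

namespace Groth.Agent.Helper1.TwistTens

open Groth.Agent.Helper1.TwistTriv

section
variable {R A : Type u} [CommRing R] [CommRing A] [Algebra R A] (𝒜 : ℕ → Submodule R A)
  [GradedAlgebra 𝒜]

set_option synthInstance.maxHeartbeats 400000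

theorem mul_mem_twistAt {m n k : ℤ} (hk : k = m + n) (x : ProjectiveSpectrum 𝒜)
    {i j i' j' : ℕ} (a : 𝒜 i) (s : 𝒜 j) (hs : s.1 ∉ x.asHomogeneousIdeal)
    (a' : 𝒜 i') (s' : 𝒜 j') (hs' : s'.1 ∉ x.asHomogeneousIdeal)
    (h : (i : ℤ) = j + m ∨ a.1 = 0) (h' : (i' : ℤ) = j' + n ∨ a'.1 = 0) :
    (Localization.mk a.1 ⟨s.1, hs⟩ * Localization.mk a'.1 ⟨s'.1, hs'⟩ : Twist.Loc 𝒜 x) ∈
      Twist.twistAt 𝒜 k x := by
  rw [Localization.mk_mul]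
  rcases h with h | h
  · rcases h' with h' | h'
    · refine Submodule.subset_span ⟨i + i', j + j', ⟨a.1 * a'.1, SetLike.mul_mem_graded a.2 a'.2⟩,
        ⟨s.1 * s'.1, SetLike.mul_mem_graded s.2 s'.2⟩, ?_, ?_, rfl⟩
      · exact fun hmem => (x.isPrime.mem_or_mem hmem).elim hs hs'
      · push_cast; omega
    · rw [h', mul_zero, Localization.mk_zero]
      exact Submodule.zero_mem _
  · rw [h, zero_mul, Localization.mk_zero]
    exact Submodule.zero_mem _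

theorem sec_val_eq {m : ℤ} {U : (Opens (ProjectiveSpectrum.top 𝒜))ᵒᵖ}
    (s : Twist.sectN (𝒜 := 𝒜) m U) (x : U.unop) :
    ∃ (i j : ℕ) (a : 𝒜 i) (s' : 𝒜 j) (hs' : s'.1 ∉ x.1.asHomogeneousIdeal),
      ((i : ℤ) = j + m ∨ a.1 = 0) ∧
      ((s.1 x).1 : Twist.Loc 𝒜 x.1) = Localization.mk a.1 ⟨s'.1, hs'⟩ := by
  obtain ⟨W, hxW, iW, i, j, a, s', nin, h, hw⟩ := s.2 x
  exact ⟨i, j, a, s', nin ⟨x.1, hxW⟩, h, hw ⟨x.1, hxW⟩⟩

theorem mul_sec_mem {m n k : ℤ} (hk : k = m + n) {U : (Opens (ProjectiveSpectrum.top 𝒜))ᵒᵖ}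
    (s : Twist.sectN (𝒜 := 𝒜) m U) (t : Twist.sectN (𝒜 := 𝒜) n U) (x : U.unop) :
    ((s.1 x).1 : Twist.Loc 𝒜 x.1) * ((t.1 x).1 : Twist.Loc 𝒜 x.1) ∈ Twist.twistAt 𝒜 k x.1 := by
  obtain ⟨i, j, a, s', hs', h, e1⟩ := sec_val_eq 𝒜 s x
  obtain ⟨i', j', a', s'', hs'', h', e2⟩ := sec_val_eq 𝒜 t x
  rw [e1, e2]
  exact mul_mem_twistAt 𝒜 hk x.1 a s' _ a' s'' _ h h'

theorem mul_sec_locFrac {m n k : ℤ} (hk : k = m + n) {U : (Opens (ProjectiveSpectrum.top 𝒜))ᵒᵖ}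
    (s : Twist.sectN (𝒜 := 𝒜) m U) (t : Twist.sectN (𝒜 := 𝒜) n U) :
    (Twist.isLocFracN 𝒜 k).pred (fun x : U.unop =>
      (⟨((s.1 x).1 : Twist.Loc 𝒜 x.1) * ((t.1 x).1 : Twist.Loc 𝒜 x.1),
        mul_sec_mem 𝒜 hk s t x⟩ : Twist.twistAt 𝒜 k x.1)) := by
  intro x
  obtain ⟨W, hxW, iW, i, j, a, s', nin, h, hw⟩ := s.2 x
  obtain ⟨W', hxW', iW', i', j', a', s'', nin', h', hw'⟩ := t.2 x
  have nin2 : ∀ y : (W ⊓ W' : Opens _), s'.1 * s''.1 ∉ y.1.asHomogeneousIdeal := fun y hmem =>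
    (y.1.isPrime.mem_or_mem hmem).elim (nin ⟨y.1, y.2.1⟩) (nin' ⟨y.1, y.2.2⟩)
  refine ⟨W ⊓ W', ⟨hxW, hxW'⟩, Opens.infLELeft _ _ ≫ iW, i + i', j + j',
    ⟨a.1 * a'.1, SetLike.mul_mem_graded a.2 a'.2⟩,
    ⟨s'.1 * s''.1, SetLike.mul_mem_graded s'.2 s''.2⟩, nin2, ?_, fun y => ?_⟩
  · rcases h with h | h
    · rcases h' with h' | h'
      · exact Or.inl (by push_cast; omega)
      · exact Or.inr (show a.1 * a'.1 = 0 by rw [h', mul_zero])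
    · exact Or.inr (show a.1 * a'.1 = 0 by rw [h, zero_mul])
  · have e1 := hw ⟨y.1, y.2.1⟩
    have e2 := hw' ⟨y.1, y.2.2⟩
    dsimp only at e1 e2 ⊢
    erw [e1, e2]
    rw [Localization.mk_mul]
    rfl

/-- pointwise product of sections of `O(m)` and `O(n)` -/
noncomputable def mulSec {m n k : ℤ} (hk : k = m + n) {U : (Opens (ProjectiveSpectrum.top 𝒜))ᵒᵖ}
    (s : Twist.sectN (𝒜 := 𝒜) m U) (t : Twist.sectN (𝒜 := 𝒜) n U) : Twist.sectN (𝒜 := 𝒜) k U :=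
  ⟨fun x => ⟨((s.1 x).1 : Twist.Loc 𝒜 x.1) * ((t.1 x).1 : Twist.Loc 𝒜 x.1),
    mul_sec_mem 𝒜 hk s t x⟩, mul_sec_locFrac 𝒜 hk s t⟩

theorem mulSec_val {m n k : ℤ} (hk : k = m + n) {U : (Opens (ProjectiveSpectrum.top 𝒜))ᵒᵖ}
    (s : Twist.sectN (𝒜 := 𝒜) m U) (t : Twist.sectN (𝒜 := 𝒜) n U) (x : U.unop) :
    (((mulSec 𝒜 hk s t).1 x).1 : Twist.Loc 𝒜 x.1) =
      ((s.1 x).1 : Twist.Loc 𝒜 x.1) * ((t.1 x).1 : Twist.Loc 𝒜 x.1) := rfl

theorem mulSec_add_left {m n k : ℤ} (hk : k = m + n) {U : (Opens (ProjectiveSpectrum.top 𝒜))ᵒᵖ}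
    (s₁ s₂ : Twist.sectN (𝒜 := 𝒜) m U) (t : Twist.sectN (𝒜 := 𝒜) n U) :
    mulSec 𝒜 hk (s₁ + s₂) t = mulSec 𝒜 hk s₁ t + mulSec 𝒜 hk s₂ t := by
  apply Subtype.ext
  funext x
  apply Subtype.ext
  exact add_mul _ _ _

theorem mulSec_add_right {m n k : ℤ} (hk : k = m + n) {U : (Opens (ProjectiveSpectrum.top 𝒜))ᵒᵖ}
    (s : Twist.sectN (𝒜 := 𝒜) m U) (t₁ t₂ : Twist.sectN (𝒜 := 𝒜) n U) :
    mulSec 𝒜 hk s (t₁ + t₂) = mulSec 𝒜 hk s t₁ + mulSec 𝒜 hk s t₂ := by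
  apply Subtype.ext
  funext x
  apply Subtype.ext
  exact mul_add _ _ _

theorem mulSec_smul_left {m n k : ℤ} (hk : k = m + n) {U : (Opens (ProjectiveSpectrum.top 𝒜))ᵒᵖ}
    (r : Twist.O (𝒜 := 𝒜) U)
    (s : Twist.sectN (𝒜 := 𝒜) m U) (t : Twist.sectN (𝒜 := 𝒜) n U) :
    mulSec 𝒜 hk (r • s) t = r • mulSec 𝒜 hk s t := by
  apply Subtype.ext
  funext x
  apply Subtype.ext
  refine Eq.trans ?_ (smul_sec_val 𝒜 U.unop r (mulSec 𝒜 hk s t) x).symm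
  refine Eq.trans (congrArg (· * ((t.1 x).1 : Twist.Loc 𝒜 x.1)) (smul_sec_val 𝒜 U.unop r s x)) ?_
  exact mul_assoc _ _ _

theorem mulSec_smul_right {m n k : ℤ} (hk : k = m + n) {U : (Opens (ProjectiveSpectrum.top 𝒜))ᵒᵖ}
    (r : Twist.O (𝒜 := 𝒜) U)
    (s : Twist.sectN (𝒜 := 𝒜) m U) (t : Twist.sectN (𝒜 := 𝒜) n U) :
    mulSec 𝒜 hk s (r • t) = r • mulSec 𝒜 hk s t := by
  apply Subtype.ext
  funext x
  apply Subtype.ext
  refine Eq.trans ?_ (smul_sec_val 𝒜 U.unop r (mulSec 𝒜 hk s t) x).symm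
  refine Eq.trans (congrArg (((s.1 x).1 : Twist.Loc 𝒜 x.1) * ·) (smul_sec_val 𝒜 U.unop r t x)) ?_
  exact mul_left_comm _ _ _

/-- the multiplication pairing `O(m) × O(n) → O(k)`, `k = m + n` -/
noncomputable def twistPairing {m n k : ℤ} (hk : k = m + n) :
    TensLib.Pairing (Twist.twist 𝒜 m) (Twist.twist 𝒜 n) (Twist.twist 𝒜 k) where
  β U s t := mulSec 𝒜 hk (U := U) s t
  add_left U s₁ s₂ t := mulSec_add_left 𝒜 hk s₁ s₂ t
  smul_left U r s t := mulSec_smul_left 𝒜 hk r s t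
  add_right U s t₁ t₂ := mulSec_add_right 𝒜 hk s t₁ t₂
  smul_right U r s t := mulSec_smul_right 𝒜 hk r s t
  nat f s t := rfl

theorem mulSec_fracSec_bijective {i j : ℕ} {a b : A} (ha : a ∈ 𝒜 i) (hb : b ∈ 𝒜 j) {m n k : ℤ}
    (hm : (i : ℤ) = j + m) (hk : k = m + n)
    (V : Opens (ProjectiveSpectrum.top 𝒜)) (hbV : ∀ x : V, b ∉ x.1.asHomogeneousIdeal)
    (haV : ∀ x : V, a ∉ x.1.asHomogeneousIdeal) :
    Function.Bijective (fun t : Twist.sectN (𝒜 := 𝒜) n (op V) =>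
      mulSec 𝒜 hk (fracSec 𝒜 ha hb hm V hbV) t) := by
  constructor
  · intro t t' h
    apply Subtype.ext
    funext x
    apply Subtype.ext
    have h1 := congrArg (fun u : Twist.sectN (𝒜 := 𝒜) k (op V) => ((u.1 x).1 : Twist.Loc 𝒜 x.1)) h
    simp only at h1
    have hu : IsUnit (Localization.mk a ⟨b, hbV x⟩ : Twist.Loc 𝒜 x.1) :=
      isUnit_iff_exists_inv.2 ⟨_, mk_mul_mk_inv 𝒜 x.1 (haV x) (hbV x)⟩
    exact hu.mul_right_injective h1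
  · intro u
    have hm' : (j : ℤ) = i + (-m) := by omega
    have hk' : n = -m + k := by omega
    refine ⟨mulSec 𝒜 hk' (fracSec 𝒜 hb ha hm' V haV) u, ?_⟩
    apply Subtype.ext
    funext x
    apply Subtype.ext
    change (Localization.mk a ⟨b, hbV x⟩ : Twist.Loc 𝒜 x.1) *
      ((Localization.mk b ⟨a, haV x⟩ : Twist.Loc 𝒜 x.1) * ((u.1 x).1 : Twist.Loc 𝒜 x.1)) = _
    rw [← mul_assoc]
    have := mk_mul_mk_inv 𝒜 x.1 (haV x) (hbV x)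
    erw [this]
    exact one_mul _

theorem nonempty_tensor_twist_iso {m n k : ℤ} (hk : k = m + n)
    (hcov : ∀ x : ProjectiveSpectrum 𝒜, ∃ (i j : ℕ) (a b : A), a ∈ 𝒜 i ∧ b ∈ 𝒜 j ∧
      (i : ℤ) = j + m ∧ a ∉ x.asHomogeneousIdeal ∧ b ∉ x.asHomogeneousIdeal) :
    Nonempty (CohB1.tensorMod (Twist.twist 𝒜 m) (Twist.twist 𝒜 n) ≅ Twist.twist 𝒜 k) := by
  refine (twistPairing 𝒜 hk).nonempty_tensorMod_iso
    (fun V : (Proj 𝒜).Opens => ∃ (i j : ℕ) (a b : A), a ∈ 𝒜 i ∧ b ∈ 𝒜 j ∧ (i : ℤ) = j + m ∧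
      ∀ x : ProjectiveSpectrum 𝒜, x ∈ V → a ∉ x.asHomogeneousIdeal ∧ b ∉ x.asHomogeneousIdeal)
    ?_ ?_ ?_
  · intro x
    obtain ⟨i, j, a, b, ha, hb, hm, hax, hbx⟩ := hcov x
    refine ⟨Proj.basicOpen 𝒜 a ⊓ Proj.basicOpen 𝒜 b, ⟨i, j, a, b, ha, hb, hm, ?_⟩, ?_⟩
    · intro y hy
      exact ⟨(Proj.mem_basicOpen 𝒜 a y).1 hy.1, (Proj.mem_basicOpen 𝒜 b y).1 hy.2⟩
    · exact ⟨(Proj.mem_basicOpen 𝒜 a x).2 hax, (Proj.mem_basicOpen 𝒜 b x).2 hbx⟩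
  · rintro V V' ⟨i, j, a, b, ha, hb, hm, h⟩ hle
    exact ⟨i, j, a, b, ha, hb, hm, fun x hx => h x (hle hx)⟩
  · rintro V ⟨i, j, a, b, ha, hb, hm, h⟩
    refine ⟨fracSec 𝒜 ha hb hm V (fun x => (h x.1 x.2).2), ?_, ?_⟩
    · exact fracSec_bijective 𝒜 ha hb hm V (fun x => (h x.1 x.2).2) (fun x => (h x.1 x.2).1)
    · exact mulSec_fracSec_bijective 𝒜 ha hb hm hk V (fun x => (h x.1 x.2).2)
        (fun x => (h x.1 x.2).1)

/-- `O(0) ≅ O` -/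
theorem nonempty_twist_zero_iso :
    Nonempty (Twist.twist 𝒜 0 ≅ Coh.structureModule (Proj 𝒜)) := by
  have h1 : (1 : A) ∈ 𝒜 0 := SetLike.GradedOne.one_mem
  have hm : ((0 : ℕ) : ℤ) = (0 : ℕ) + 0 := by simp
  have hne : ∀ x : ProjectiveSpectrum 𝒜, x ∈ (𝟙 (Proj 𝒜) : Proj 𝒜 ⟶ Proj 𝒜).opensRange →
      (1 : A) ∉ x.asHomogeneousIdeal := fun x _ h =>
    x.isPrime.ne_top ((Ideal.eq_top_iff_one _).mpr h)
  obtain ⟨e⟩ := nonempty_twist_restrict_iso 𝒜 h1 h1 hm (𝟙 (Proj 𝒜)) hne hne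
  exact ⟨(Scheme.Modules.restrictFunctorId.app (Twist.twist 𝒜 0)).symm ≪≫ e⟩

end

section General
variable {X : Scheme.{u}}
open MonoidalCategory

noncomputable def tensorModCongrLeft {M M' : X.Modules} (e : M ≅ M') (N : X.Modules) :
    CohB1.tensorMod M N ≅ CohB1.tensorMod M' N :=
  (CohB1.sheafifyMod X).mapIso
    (show (show X.PresheafOfModules from CohB1.tensorPre M N) ≅
        (show X.PresheafOfModules from CohB1.tensorPre M' N) from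
      whiskerRightIso (show CohB1.toPMod M ≅ CohB1.toPMod M' from
        (SheafOfModules.forget X.ringCatSheaf).mapIso e) (CohB1.toPMod N))

noncomputable def tensorModCongrRight (M : X.Modules) {N N' : X.Modules} (e : N ≅ N') :
    CohB1.tensorMod M N ≅ CohB1.tensorMod M N' :=
  (CohB1.sheafifyMod X).mapIso
    (show (show X.PresheafOfModules from CohB1.tensorPre M N) ≅
        (show X.PresheafOfModules from CohB1.tensorPre M N') from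
      whiskerLeftIso (CohB1.toPMod M) (show CohB1.toPMod N ≅ CohB1.toPMod N' from
        (SheafOfModules.forget X.ringCatSheaf).mapIso e))

end General

section
variable {R A : Type u} [CommRing R] [CommRing A] [Algebra R A] (𝒜 : ℕ → Submodule R A)
  [GradedAlgebra 𝒜]

/-- the package for `Proj` covered by `D₊(f)`, `f` of degree one -/
theorem twist_package (hcov : ∀ x : ProjectiveSpectrum 𝒜, ∃ f ∈ 𝒜 1, f ∉ x.asHomogeneousIdeal) :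
    (∀ n : ℤ, PicF.IsInvertible (Twist.twist 𝒜 n)) ∧
      (∀ m n : ℤ, Nonempty (CohB1.tensorMod (Twist.twist 𝒜 m) (Twist.twist 𝒜 n) ≅
        Twist.twist 𝒜 (m + n))) ∧
      ∀ n : ℕ, Nonempty (Twist.twist 𝒜 (n : ℤ) ≅ CohB1.tensorPow (Twist.twist 𝒜 1) n) := by
  have htens : ∀ m n : ℤ, Nonempty (CohB1.tensorMod (Twist.twist 𝒜 m) (Twist.twist 𝒜 n) ≅
      Twist.twist 𝒜 (m + n)) := by
    intro m n
    apply nonempty_tensor_twist_iso 𝒜 rfl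
    intro x
    obtain ⟨f, hf, hfx⟩ := hcov x
    refine ⟨m.toNat • 1, (-m).toNat • 1, f ^ m.toNat, f ^ (-m).toNat,
      SetLike.pow_mem_graded _ hf, SetLike.pow_mem_graded _ hf, ?_,
      fun h => hfx (x.isPrime.mem_of_pow_mem _ h), fun h => hfx (x.isPrime.mem_of_pow_mem _ h)⟩
    have := Int.toNat_sub_toNat_neg m
    push_cast [smul_eq_mul]
    omega
  refine ⟨?_, htens, ?_⟩
  · intro n y
    obtain ⟨f, hf, hfy⟩ := hcov y
    refine ⟨Proj.basicOpen 𝒜 f, (Proj.mem_basicOpen 𝒜 f y).2 hfy, ?_⟩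
    have := nonempty_twist_restrict_iso_of_le 𝒜 hf n (Proj.basicOpen 𝒜 f).ι
      (by rw [Scheme.Opens.opensRange_ι])
    rwa [Nat.cast_one, mul_one] at this
  · intro n
    induction n with
    | zero =>
      obtain ⟨e⟩ := nonempty_twist_zero_iso 𝒜
      exact ⟨e⟩
    | succ n ih =>
      obtain ⟨e⟩ := ih
      obtain ⟨e'⟩ := htens (n : ℤ) 1
      have hcast : ((n + 1 : ℕ) : ℤ) = (n : ℤ) + 1 := by push_cast; rfl
      rw [hcast]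
      exact ⟨e'.symm ≪≫ tensorModCongrLeft e (Twist.twist 𝒜 1)⟩

/-- generators of the algebra cover Proj -/
theorem exists_gen_not_mem {ι : Type*} (f : ι → A) (hfn : ∀ i, ∃ n, f i ∈ 𝒜 n)
    (hgen : Algebra.adjoin R (Set.range f) = ⊤) (x : ProjectiveSpectrum 𝒜) :
    ∃ i, f i ∉ x.asHomogeneousIdeal := by
  have h0 : Algebra.adjoin (𝒜 0) (Set.range f) = ⊤ := by
    rw [eq_top_iff]
    intro z hz'
    clear hz'
    have hz : z ∈ Algebra.adjoin R (Set.range f) := by rw [hgen]; trivial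
    induction hz using Algebra.adjoin_induction with
    | mem z hz => exact Algebra.subset_adjoin hz
    | algebraMap r =>
      have : algebraMap R A r ∈ 𝒜 0 := SetLike.algebraMap_mem_graded 𝒜 r
      exact Subalgebra.algebraMap_mem (Algebra.adjoin (𝒜 0) (Set.range f)) (⟨_, this⟩ : 𝒜 0)
    | add z w _ _ hz hw => exact Subalgebra.add_mem _ hz hw
    | mul z w _ _ hz hw => exact Subalgebra.mul_mem _ hz hw
  have := Proj.iSup_basicOpen_eq_top' 𝒜 f hfn h0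
  have hx : (x : Proj 𝒜) ∈ (⨆ i, Proj.basicOpen 𝒜 (f i)) := by rw [this]; trivial
  obtain ⟨i, hi⟩ := TopologicalSpace.Opens.mem_iSup.1 hx
  exact ⟨i, (Proj.mem_basicOpen 𝒜 (f i) x).1 hi⟩

set_option synthInstance.maxHeartbeats 400000

theorem one_not_mem (x : ProjectiveSpectrum 𝒜) : (1 : A) ∉ x.asHomogeneousIdeal := fun h =>
  x.isPrime.ne_top ((Ideal.eq_top_iff_one _).mpr h)

/-- finitely many global sections `a_i/1` of `O(m)` such that every point has some `a_i`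
nonvanishing: they generate, giving an epimorphism from a free module. -/
theorem exists_epi_free {k : ℕ} {m : ℕ} (a : Fin k → A) (ha : ∀ i, a i ∈ 𝒜 m)
    (hcov : ∀ x : ProjectiveSpectrum 𝒜, ∃ i, a i ∉ x.asHomogeneousIdeal) :
    ∃ p : FlatMod.freeMod (Proj 𝒜) k ⟶ Twist.twist 𝒜 (m : ℤ), Epi p := by
  have h1 : (1 : A) ∈ 𝒜 0 := SetLike.GradedOne.one_mem
  have hm : ((m : ℕ) : ℤ) = (0 : ℕ) + (m : ℤ) := by simp
  refine ModTriv.exists_epi_of_locally_span (Twist.twist 𝒜 (m : ℤ))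
    (fun i => fracSec 𝒜 (ha i) h1 hm ⊤ (fun x => one_not_mem 𝒜 x.1)) ?_
  intro U t x hxU
  obtain ⟨i, hi⟩ := hcov x
  refine ⟨U ⊓ Proj.basicOpen 𝒜 (a i), inf_le_left, ⟨hxU, (Proj.mem_basicOpen 𝒜 (a i) x).2 hi⟩, ?_⟩
  have hnv : ∀ y : (U ⊓ Proj.basicOpen 𝒜 (a i) : (Proj 𝒜).Opens), a i ∉ y.1.asHomogeneousIdeal :=
    fun y => (Proj.mem_basicOpen 𝒜 (a i) y.1).1 y.2.2
  obtain ⟨r, hr⟩ := (fracSec_bijective 𝒜 (ha i) h1 hm (U ⊓ Proj.basicOpen 𝒜 (a i))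
    (fun y => one_not_mem 𝒜 y.1) hnv).2
    ((Twist.twist 𝒜 (m : ℤ)).presheaf.map (homOfLE (inf_le_left : U ⊓ Proj.basicOpen 𝒜 (a i) ≤ U)).op t)
  rw [← hr]
  exact Submodule.smul_mem _ _ (Submodule.subset_span ⟨i, rfl⟩)

end
end Groth.Agent.Helper1.TwistTens
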