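import Mathlib
import Groth.Prelude.Def_ProjUP
import Groth.Agent.Lib.Helper1.TwistTens

open DirectSum CategoryTheory AlgebraicGeometry TopologicalSpace Opposite HomogeneousLocalization

universe u

namespace Groth.Agent.Helper1.TwistGen
open Groth.Agent.Helper1.TwistTriv Groth.Agent.Helper1.TwistTens

section General
variable {X : Scheme.{u}}

theorem generatedBy_of_locally_span (N : X.Modules) {ι : Type*} (σ : ι → ProjUP.Γm N)
    (h : ∀ (U : X.Opens) (s : Γ(N, U)) (x : X), x ∈ U → ∃ (V : X.Opens) (hVU : V ≤ U), x ∈ V ∧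
      N.presheaf.map (homOfLE hVU).op s ∈ Submodule.span Γ(X, V)
        (Set.range fun i => N.presheaf.map (homOfLE (le_top : V ≤ ⊤)).op (σ i))) :
    ProjUP.GeneratedBy N σ := by
  intro x
  rw [eq_top_iff]
  intro z _
  obtain ⟨U, hxU, s, rfl⟩ := TopCat.Presheaf.exists_germ_eq N.presheaf z
  obtain ⟨V, hVU, hxV, hspan⟩ := h U s x hxU
  have e1 : N.presheaf.germ U x hxU s =
      N.presheaf.germ V x hxV (N.presheaf.map (homOfLE hVU).op s) :=
    (TopCat.Presheaf.germ_res_apply N.presheaf (homOfLE hVU) x hxV s).symm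
  rw [e1]
  generalize (N.presheaf.map (homOfLE hVU).op) s = w at hspan ⊢
  induction hspan using Submodule.span_induction with
  | mem y hy =>
    obtain ⟨i, rfl⟩ := hy
    apply Submodule.subset_span
    refine ⟨i, ?_⟩
    exact (TopCat.Presheaf.germ_res_apply N.presheaf (homOfLE (le_top : V ≤ ⊤)) x hxV (σ i)).symm
  | zero => rw [map_zero]; exact Submodule.zero_mem _
  | add y z _ _ hy hz => rw [map_add]; exact Submodule.add_mem _ hy hz
  | smul r y _ hy =>
    have := PresheafOfModules.germ_smul (R := X.presheaf)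
      (show PresheafOfModules (X.presheaf ⋙ forget₂ CommRingCat RingCat) from N.val) x V hxV r y
    erw [this]
    exact Submodule.smul_mem _ _ hy

end General

section
variable {R A : Type u} [CommRing R] [CommRing A] [Algebra R A] (𝒜 : ℕ → Submodule R A)
  [GradedAlgebra 𝒜]

set_option synthInstance.maxHeartbeats 400000

theorem twist_generatedBy {ι : Type*} {m : ℕ} (a : ι → 𝒜 m)
    (hcov : ∀ x : ProjectiveSpectrum 𝒜, ∃ i, (a i : A) ∉ x.asHomogeneousIdeal) :
    ProjUP.GeneratedBy (Twist.twist 𝒜 (m : ℤ))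
      (fun i => (Twist.globalOf 𝒜 (a i) : ProjUP.Γm (Twist.twist 𝒜 (m : ℤ)))) := by
  have h1 : (1 : A) ∈ 𝒜 0 := SetLike.GradedOne.one_mem
  have hm : ((m : ℕ) : ℤ) = (0 : ℕ) + (m : ℤ) := by simp
  apply generatedBy_of_locally_span
  intro U t x hxU
  obtain ⟨i, hi⟩ := hcov x
  refine ⟨U ⊓ Proj.basicOpen 𝒜 (a i : A), inf_le_left,
    ⟨hxU, (Proj.mem_basicOpen 𝒜 (a i : A) x).2 hi⟩, ?_⟩
  have hnv : ∀ y : (U ⊓ Proj.basicOpen 𝒜 (a i : A) : (Proj 𝒜).Opens),
      (a i : A) ∉ y.1.asHomogeneousIdeal :=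
    fun y => (Proj.mem_basicOpen 𝒜 (a i : A) y.1).1 y.2.2
  obtain ⟨r, hr⟩ := (fracSec_bijective 𝒜 (a i).2 h1 hm (U ⊓ Proj.basicOpen 𝒜 (a i : A))
    (fun y => one_not_mem 𝒜 y.1) hnv).2
    ((Twist.twist 𝒜 (m : ℤ)).presheaf.map
      (homOfLE (inf_le_left : U ⊓ Proj.basicOpen 𝒜 (a i : A) ≤ U)).op t)
  rw [← hr]
  exact Submodule.smul_mem _ _ (Submodule.subset_span ⟨i, rfl⟩)

end
end Groth.Agent.Helper1.TwistGen
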