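import Mathlib
import Groth.Agent.Lib.Helper1.TwistGen

open DirectSum CategoryTheory AlgebraicGeometry TopologicalSpace Opposite HomogeneousLocalization

universe u

namespace Groth.Agent.Helper1.TwistAmple
open Groth.Agent.Helper1.TwistTriv Groth.Agent.Helper1.TwistTens Groth.Agent.Helper1

section General
variable {X : Scheme.{u}}

/-- the morphism `O ⟶ N` attached to a global section -/
noncomputable def homOfSec (N : X.Modules) (σ : Γ(N, ⊤)) : Coh.structureModule X ⟶ N :=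
  (SheafOfModules.unitHomEquiv N).symm (ModTriv.secOfTop N σ)

theorem homOfSec_app (N : X.Modules) (σ : Γ(N, ⊤)) (W : X.Opens) (r : Γ(X, W)) :
    (Scheme.Modules.Hom.app (M := Coh.structureModule X) (N := N) (homOfSec N σ) W) r =
      r • N.presheaf.map (homOfLE (le_top : W ≤ ⊤)).op σ := rfl

theorem isIso_restrict_homOfSec_iff (N : X.Modules) (σ : Γ(N, ⊤)) (U : X.Opens) :
    IsIso ((Scheme.Modules.restrictFunctor U.ι).map (homOfSec N σ)) ↔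
      ∀ V : (U : Scheme.{u}).Opens, Function.Bijective
        (fun r : Γ(X, U.ι ''ᵁ V) => r • N.presheaf.map (homOfLE (le_top : U.ι ''ᵁ V ≤ ⊤)).op σ) := by
  rw [Scheme.Modules.Hom.isIso_iff_isIso_app]
  refine forall_congr' fun V => ?_
  rw [ConcreteCategory.isIso_iff_bijective]
  rfl

end General

section
variable {R A : Type u} [CommRing R] [CommRing A] [Algebra R A] (𝒜 : ℕ → Submodule R A)
  [GradedAlgebra 𝒜]

set_option synthInstance.maxHeartbeats 400000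

theorem isIso_restrict_globalOf {m : ℕ} (g : 𝒜 m) :
    IsIso ((Scheme.Modules.restrictFunctor (Proj.basicOpen 𝒜 (g : A)).ι).map
      (homOfSec (Twist.twist 𝒜 (m : ℤ)) (Twist.globalOf 𝒜 g))) := by
  refine (isIso_restrict_homOfSec_iff (Twist.twist 𝒜 (m : ℤ)) (Twist.globalOf 𝒜 g) _).2 ?_
  intro V
  have h1 : (1 : A) ∈ 𝒜 0 := SetLike.GradedOne.one_mem
  have hm : ((m : ℕ) : ℤ) = (0 : ℕ) + (m : ℤ) := by simp
  have hnv : ∀ y : ((Proj.basicOpen 𝒜 (g : A)).ι ''ᵁ V : (Proj 𝒜).Opens),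
      (g : A) ∉ y.1.asHomogeneousIdeal :=
    fun y => (Proj.mem_basicOpen 𝒜 (g : A) y.1).1 ((Proj.basicOpen 𝒜 (g : A)).ι_image_le V y.2)
  exact fracSec_bijective 𝒜 g.2 h1 hm _ (fun y => one_not_mem 𝒜 y.1) hnv

theorem le_basicOpen_of_isIso {m : ℕ} (g : 𝒜 m)
    (hunit : ∀ x : ProjectiveSpectrum 𝒜, ∃ g' : 𝒜 m, (g' : A) ∉ x.asHomogeneousIdeal)
    (U : (Proj 𝒜).Opens)
    (hU : IsIso ((Scheme.Modules.restrictFunctor U.ι).map
      (homOfSec (Twist.twist 𝒜 (m : ℤ)) (Twist.globalOf 𝒜 g)))) :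
    U ≤ Proj.basicOpen 𝒜 (g : A) := by
  have hU' := (isIso_restrict_homOfSec_iff (Twist.twist 𝒜 (m : ℤ)) (Twist.globalOf 𝒜 g) _).1 hU
  intro x hxU
  rw [Proj.mem_basicOpen]
  intro hgx
  obtain ⟨g', hg'x⟩ := hunit x
  have hsurj := (hU' (U.ι ⁻¹ᵁ Proj.basicOpen 𝒜 (g' : A))).2
  have hxW : x ∈ U.ι ''ᵁ (U.ι ⁻¹ᵁ Proj.basicOpen 𝒜 (g' : A)) :=
    ⟨⟨x, hxU⟩, (Proj.mem_basicOpen 𝒜 (g' : A) x).2 hg'x, rfl⟩
  obtain ⟨r, hr⟩ := hsurj ((Twist.twist 𝒜 (m : ℤ)).presheaf.map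
    (homOfLE (le_top : U.ι ''ᵁ (U.ι ⁻¹ᵁ Proj.basicOpen 𝒜 (g' : A)) ≤ ⊤)).op (Twist.globalOf 𝒜 g'))
  have hr' := congrArg (fun t : Twist.sectN (𝒜 := 𝒜) (m : ℤ)
    (op (U.ι ''ᵁ (U.ι ⁻¹ᵁ Proj.basicOpen 𝒜 (g' : A)))) =>
      ((t.1 ⟨x, hxW⟩).1 : Twist.Loc 𝒜 x)) hr
  have h1p : (1 : A) ∉ x.asHomogeneousIdeal := one_not_mem 𝒜 x
  set c : Twist.A0 𝒜 x := r.1 ⟨x, hxW⟩ with hc
  have hc2 : c.val * (Localization.mk (g : A) ⟨1, h1p⟩ : Twist.Loc 𝒜 x) =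
      Localization.mk (g' : A) ⟨1, h1p⟩ := hr'
  rw [HomogeneousLocalization.eq_num_div_den] at hc2
  have hc3 : (Localization.mk c.num ⟨c.den, c.den_mem⟩ : Twist.Loc 𝒜 x) *
      Localization.mk (g : A) ⟨1, h1p⟩ = Localization.mk (g' : A) ⟨1, h1p⟩ := hc2
  rw [Localization.mk_mul, Localization.mk_eq_mk_iff, Localization.r_iff_exists] at hc3
  obtain ⟨t, ht⟩ := hc3
  simp only [OneMemClass.coe_one, Submonoid.coe_mul, one_mul, mul_one] at ht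
  have hmem : (t : A) * (c.num * (g : A)) ∈ x.asHomogeneousIdeal.toIdeal :=
    Ideal.mul_mem_left _ _ (Ideal.mul_mem_left _ _ hgx)
  rw [ht] at hmem
  rcases x.isPrime.mem_or_mem hmem with h1 | h1
  · exact t.2 h1
  · rcases x.isPrime.mem_or_mem h1 with h2 | h2
    · exact c.den_mem h2
    · exact hg'x h2

theorem genLocus_globalOf {m : ℕ} (g : 𝒜 m)
    (hunit : ∀ x : ProjectiveSpectrum 𝒜, ∃ g' : 𝒜 m, (g' : A) ∉ x.asHomogeneousIdeal) :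
    CohB1.genLocus (Twist.twist 𝒜 (m : ℤ))
      (homOfSec (Twist.twist 𝒜 (m : ℤ)) (Twist.globalOf 𝒜 g)) = Proj.basicOpen 𝒜 (g : A) :=
  le_antisymm (sSup_le fun U hU => le_basicOpen_of_isIso 𝒜 g hunit U hU)
    (le_sSup (isIso_restrict_globalOf 𝒜 g))

theorem genLocus_comp_iso {X : Scheme.{u}} {L L' : X.Modules} (s : Coh.structureModule X ⟶ L)
    (e : L ≅ L') : CohB1.genLocus L' (s ≫ e.hom) = CohB1.genLocus L s := by
  unfold CohB1.genLocus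
  congr 1
  ext U
  simp only [Set.mem_ofPred_eq, Functor.map_comp]
  exact isIso_comp_right_iff _ _

theorem isAmple_twist {m : ℕ} (hm : 0 < m) [CompactSpace (Proj 𝒜)]
    (hunit : ∀ x : ProjectiveSpectrum 𝒜, ∃ g' : 𝒜 m, (g' : A) ∉ x.asHomogeneousIdeal) :
    CohB1.IsAmple (Twist.twist 𝒜 (m : ℤ)) := by
  have h1 : (1 : A) ∈ 𝒜 0 := SetLike.GradedOne.one_mem
  have hm0 : ((m : ℕ) : ℤ) = (0 : ℕ) + (m : ℤ) := by simp
  refine ⟨?_, inferInstance, ?_⟩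
  · intro y
    obtain ⟨g, hgy⟩ := hunit y
    refine ⟨Proj.basicOpen 𝒜 (g : A), (Proj.mem_basicOpen 𝒜 (g : A) y).2 hgy, ?_⟩
    refine nonempty_twist_restrict_iso 𝒜 g.2 h1 hm0 (Proj.basicOpen 𝒜 (g : A)).ι
      (fun x _ => one_not_mem 𝒜 x) (fun x hx => ?_)
    rw [Scheme.Opens.opensRange_ι] at hx
    exact (Proj.mem_basicOpen 𝒜 (g : A) x).1 hx
  · intro x
    obtain ⟨g, hgx⟩ := hunit x
    -- `L ≅ O ⊗ L`
    obtain ⟨e0⟩ := nonempty_twist_zero_iso 𝒜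
    obtain ⟨e1⟩ := nonempty_tensor_twist_iso 𝒜 (m := 0) (n := (m : ℤ)) (k := (m : ℤ)) (by simp)
      (fun x => ⟨0, 0, 1, 1, h1, h1, by simp, one_not_mem 𝒜 x, one_not_mem 𝒜 x⟩)
    let e : Twist.twist 𝒜 (m : ℤ) ≅ CohB1.tensorPow (Twist.twist 𝒜 (m : ℤ)) (0 + 1) :=
      e1.symm ≪≫ tensorModCongrLeft e0 (Twist.twist 𝒜 (m : ℤ))
    refine ⟨0, homOfSec (Twist.twist 𝒜 (m : ℤ)) (Twist.globalOf 𝒜 g) ≫ e.hom, ?_, ?_⟩
    · rw [genLocus_comp_iso, genLocus_globalOf 𝒜 g hunit]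
      exact (Proj.mem_basicOpen 𝒜 (g : A) x).2 hgx
    · rw [genLocus_comp_iso, genLocus_globalOf 𝒜 g hunit]
      exact Proj.isAffineOpen_basicOpen 𝒜 (g : A) g.2 hm

theorem compactSpace_of_finite_cover (s : Finset A) (hs : ∀ f ∈ s, ∃ n, 0 < n ∧ f ∈ 𝒜 n)
    (hcov : ∀ x : ProjectiveSpectrum 𝒜, ∃ f ∈ s, f ∉ x.asHomogeneousIdeal) :
    CompactSpace (Proj 𝒜) := by
  rw [← isCompact_univ_iff]
  have huniv : (Set.univ : Set (Proj 𝒜)) = ⋃ f ∈ s, (Proj.basicOpen 𝒜 f : Set (Proj 𝒜)) := by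
    ext x
    simp only [Set.mem_univ, Set.mem_iUnion, true_iff]
    obtain ⟨f, hf, hfx⟩ := hcov x
    exact ⟨f, hf, (Proj.mem_basicOpen 𝒜 f x).2 hfx⟩
  rw [huniv]
  refine s.finite_toSet.isCompact_biUnion fun f hf => ?_
  obtain ⟨n, hn, hfn⟩ := hs f hf
  exact (Proj.isAffineOpen_basicOpen 𝒜 f hfn hn).isCompact

end
end Groth.Agent.Helper1.TwistAmple
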