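import Mathlib
import Groth.Agent.Lib.Helper1.TwistAmple
import Groth.Agent.Lib.Helper1.TensLib
import Groth.Agent.Lib.Helper1.ProjTop

open DirectSum CategoryTheory AlgebraicGeometry TopologicalSpace Opposite HomogeneousLocalization

universe u

namespace Groth.Agent.Helper1.TwistAmpleOpen
open Groth.Agent.Helper1.TwistTriv Groth.Agent.Helper1.TwistTens Groth.Agent.Helper1
  Groth.Agent.Helper1.TwistAmple

section General
variable {X : Scheme.{u}}

/-- unit law for `CohB1.tensorMod` -/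
theorem nonempty_tensorMod_unit_iso (L : X.Modules) :
    Nonempty (CohB1.tensorMod (Coh.structureModule X) L ≅ L) := by
  let p : TensLib.Pairing (Coh.structureModule X) L L :=
    { β := fun U r l => (show (X.sheaf.obj ⋙ forget₂ CommRingCat RingCat.{u}).obj U from r) • l
      add_left := fun U m₁ m₂ n => add_smul _ _ _
      smul_left := fun U a m n => mul_smul _ _ _
      add_right := fun U m n₁ n₂ => smul_add _ _ _
      smul_right := fun U a m n => smul_comm _ _ _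
      nat := fun f m n => PresheafOfModules.map_smul _ _ _ _ }
  refine p.nonempty_tensorMod_iso (fun _ => True) (fun x => ⟨⊤, trivial, trivial⟩)
    (fun _ _ _ _ => trivial) ?_
  intro V _
  refine ⟨(1 : (X.sheaf.obj ⋙ forget₂ CommRingCat RingCat.{u}).obj (op V)), ?_, ?_⟩
  · have : (fun r : (X.sheaf.obj ⋙ forget₂ CommRingCat RingCat.{u}).obj (op V) =>
        r • (1 : (X.sheaf.obj ⋙ forget₂ CommRingCat RingCat.{u}).obj (op V))) = id := by
      funext r
      exact mul_one r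
    exact this ▸ Function.bijective_id
  · have : p.β (op V) (1 : (X.sheaf.obj ⋙ forget₂ CommRingCat RingCat.{u}).obj (op V)) = id := by
      funext l
      exact one_smul _ l
    rw [this]
    exact Function.bijective_id

/-- `φ` restricted to `W` is an isomorphism iff it is bijective on sections over all opens in `W` -/
theorem isIso_restrict_map_iff {M M' : X.Modules} (φ : M ⟶ M') (W : X.Opens) :
    IsIso ((Scheme.Modules.restrictFunctor W.ι).map φ) ↔
      ∀ V : X.Opens, V ≤ W → Function.Bijective (Scheme.Modules.Hom.app φ V) := by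
  rw [Scheme.Modules.Hom.isIso_iff_isIso_app]
  constructor
  · intro h V hV
    obtain ⟨V', rfl⟩ : ∃ V' : W.toScheme.Opens, W.ι ''ᵁ V' = V := by
      refine ⟨W.ι ⁻¹ᵁ V, ?_⟩
      rw [Scheme.Hom.image_preimage_eq_opensRange_inf, Scheme.Opens.opensRange_ι]
      exact inf_eq_right.mpr hV
    have := h V'
    rw [ConcreteCategory.isIso_iff_bijective] at this
    exact this
  · intro h V'
    rw [ConcreteCategory.isIso_iff_bijective]
    exact h (W.ι ''ᵁ V') (W.ι_image_le V')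

/-- variant for a double restriction along an open immersion `j` -/
theorem isIso_restrict_restrict_map_iff {Y : Scheme.{u}} (j : Y ⟶ X) [IsOpenImmersion j]
    {M M' : X.Modules} (φ : M ⟶ M') (U : Y.Opens) :
    IsIso ((Scheme.Modules.restrictFunctor U.ι).map ((Scheme.Modules.restrictFunctor j).map φ)) ↔
      ∀ V : X.Opens, V ≤ j ''ᵁ U → Function.Bijective (Scheme.Modules.Hom.app φ V) := by
  rw [Scheme.Modules.Hom.isIso_iff_isIso_app]
  constructor
  · intro h V hV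
    obtain ⟨V', rfl⟩ : ∃ V' : U.toScheme.Opens, j ''ᵁ (U.ι ''ᵁ V') = V := by
      refine ⟨U.ι ⁻¹ᵁ (j ⁻¹ᵁ V), ?_⟩
      rw [Scheme.Hom.image_preimage_eq_opensRange_inf, Scheme.Opens.opensRange_ι]
      have h1 : U ⊓ j ⁻¹ᵁ V = j ⁻¹ᵁ V := by
        refine inf_eq_right.mpr ?_
        have := j.preimage_mono hV
        rwa [Scheme.Hom.preimage_image_eq] at this
      rw [h1, Scheme.Hom.image_preimage_eq_opensRange_inf]
      exact inf_eq_right.mpr (hV.trans (j.image_le_opensRange U))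
    have := h V'
    rw [ConcreteCategory.isIso_iff_bijective] at this
    exact this
  · intro h V'
    rw [ConcreteCategory.isIso_iff_bijective]
    exact h (j ''ᵁ (U.ι ''ᵁ V')) (j.image_mono (U.ι_image_le V'))

noncomputable def tensorPowCongr {L L' : X.Modules} (e : L ≅ L') :
    ∀ n : ℕ, CohB1.tensorPow L n ≅ CohB1.tensorPow L' n
  | 0 => Iso.refl _
  | n + 1 => tensorModCongrLeft (tensorPowCongr e n) L ≪≫ tensorModCongrRight _ e

theorem isInvertible_of_iso {L L' : X.Modules} (e : L ≅ L') (h : PicF.IsInvertible L) :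
    PicF.IsInvertible L' := by
  intro y
  obtain ⟨U, hyU, ⟨i⟩⟩ := h y
  exact ⟨U, hyU, ⟨((Scheme.Modules.restrictFunctor U.ι).mapIso e).symm ≪≫ i⟩⟩

theorem isAmple_of_iso {L L' : X.Modules} (e : L ≅ L') (h : CohB1.IsAmple L) :
    CohB1.IsAmple L' := by
  obtain ⟨h1, h2, h3⟩ := h
  refine ⟨isInvertible_of_iso e h1, h2, fun x => ?_⟩
  obtain ⟨n, s, hx, haff⟩ := h3 x
  refine ⟨n, s ≫ (tensorPowCongr e (n + 1)).hom, ?_, ?_⟩
  · rw [genLocus_comp_iso]; exact hx
  · rw [genLocus_comp_iso]; exact haff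

/-- ampleness criterion: an invertible `L` with sections whose loci of generation are affine and
cover -/
theorem isAmple_of_sections [CompactSpace X] (L : X.Modules) (hL : PicF.IsInvertible L)
    (h : ∀ x : X, ∃ s : Coh.structureModule X ⟶ L,
      x ∈ CohB1.genLocus L s ∧ IsAffineOpen (CohB1.genLocus L s)) :
    CohB1.IsAmple L := by
  obtain ⟨e0⟩ := nonempty_tensorMod_unit_iso L
  refine ⟨hL, inferInstance, fun x => ?_⟩
  obtain ⟨s, hx, haff⟩ := h x
  let e : L ≅ CohB1.tensorPow L (0 + 1) := e0.symm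
  refine ⟨0, s ≫ e.hom, ?_, ?_⟩
  · rw [genLocus_comp_iso]; exact hx
  · rw [genLocus_comp_iso]; exact haff

theorem genLocus_iso_comp {L : X.Modules} {O' : X.Modules} (u : Coh.structureModule X ≅ O')
    (s : O' ⟶ L) :
    CohB1.genLocus L (u.hom ≫ s) =
      sSup {U : X.Opens | IsIso ((Scheme.Modules.restrictFunctor U.ι).map s)} := by
  unfold CohB1.genLocus
  congr 1
  ext U
  simp only [Set.mem_ofPred_eq, Functor.map_comp]
  exact isIso_comp_left_iff _ _

end General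

section
variable {R A : Type u} [CommRing R] [CommRing A] [Algebra R A] (𝒜 : ℕ → Submodule R A)
  [GradedAlgebra 𝒜]

set_option synthInstance.maxHeartbeats 400000

theorem le_basicOpen_of_isIso' {m : ℕ} (g : 𝒜 m) (U : (Proj 𝒜).Opens)
    (hunit : ∀ x : ProjectiveSpectrum 𝒜, x ∈ U →
      ∃ g' : 𝒜 m, (g' : A) ∉ x.asHomogeneousIdeal)
    (hU : IsIso ((Scheme.Modules.restrictFunctor U.ι).map
      (homOfSec (Twist.twist 𝒜 (m : ℤ)) (Twist.globalOf 𝒜 g)))) :
    U ≤ Proj.basicOpen 𝒜 (g : A) := by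
  have hU' := (isIso_restrict_homOfSec_iff (Twist.twist 𝒜 (m : ℤ)) (Twist.globalOf 𝒜 g) _).1 hU
  intro x hxU
  rw [Proj.mem_basicOpen]
  intro hgx
  obtain ⟨g', hg'x⟩ := hunit x hxU
  have hsurj := (hU' (U.ι ⁻¹ᵁ Proj.basicOpen 𝒜 (g' : A))).2
  have hxW : x ∈ U.ι ''ᵁ (U.ι ⁻¹ᵁ Proj.basicOpen 𝒜 (g' : A)) :=
    ⟨⟨x, hxU⟩, (Proj.mem_basicOpen 𝒜 (g' : A) x).2 hg'x, rfl⟩
  obtain ⟨r, hr⟩ := hsurj ((Twist.twist 𝒜 (m : ℤ)).presheaf.map
    (homOfLE (le_top : U.ι ''ᵁ (U.ι ⁻¹ᵁ Proj.basicOpen 𝒜 (g' : A)) ≤ ⊤)).op (Twist.globalOf 𝒜 g'))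
  have hr' := congrArg (fun t : Twist.sectN (𝒜 := 𝒜) (m : ℤ)
    (op (U.ι ''ᵁ (U.ι ⁻¹ᵁ Proj.basicOpen 𝒜 (g' : A)))) =>
      ((t.1 ⟨x, hxW⟩).1 : Twist.Loc 𝒜 x)) hr
  have h1p : (1 : A) ∉ x.asHomogeneousIdeal := one_not_mem 𝒜 x
  set c : Twist.A0 𝒜 x := r.1 ⟨x, hxW⟩ with hc
  have hc2 : c.val * (Localization.mk (g : A) ⟨1, h1p⟩ : Twist.Loc 𝒜 x) =
      Localization.mk (g' : A) ⟨1, h1p⟩ := hr'
  rw [HomogeneousLocalization.eq_num_div_den] at hc2
  have hc3 : (Localization.mk c.num ⟨c.den, c.den_mem⟩ : Twist.Loc 𝒜 x) *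
      Localization.mk (g : A) ⟨1, h1p⟩ = Localization.mk (g' : A) ⟨1, h1p⟩ := hc2
  rw [Localization.mk_mul, Localization.mk_eq_mk_iff, Localization.r_iff_exists] at hc3
  obtain ⟨t, ht⟩ := hc3
  simp only [OneMemClass.coe_one, Submonoid.coe_mul, one_mul, mul_one] at ht
  have hmem : (t : A) * (c.num * (g : A)) ∈ x.asHomogeneousIdeal.toIdeal :=
    Ideal.mul_mem_left _ _ (Ideal.mul_mem_left _ _ hgx)
  rw [ht] at hmem
  rcases x.isPrime.mem_or_mem hmem with h1 | h1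
  · exact t.2 h1
  · rcases x.isPrime.mem_or_mem h1 with h2 | h2
    · exact c.den_mem h2
    · exact hg'x h2

/-- `O(d)` restricted to an open `X` of `Proj` covered by `D₊(g) ⊆ X`, `g ∈ 𝒜 d`, is ample -/
theorem isAmple_restrict_twist {d : ℕ} (hd : 0 < d) {X : Scheme.{u}} [CompactSpace X]
    (j : X ⟶ Proj 𝒜) [IsOpenImmersion j]
    (hcov : ∀ x : X, ∃ g : 𝒜 d, (g : A) ∉ (j x).asHomogeneousIdeal ∧
      Proj.basicOpen 𝒜 (g : A) ≤ j.opensRange) :
    CohB1.IsAmple ((Scheme.Modules.restrictFunctor j).obj (Twist.twist 𝒜 (d : ℤ))) := by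
  have h1 : (1 : A) ∈ 𝒜 0 := SetLike.GradedOne.one_mem
  have hm0 : ((d : ℕ) : ℤ) = (0 : ℕ) + (d : ℤ) := by simp
  have hunit : ∀ y : ProjectiveSpectrum 𝒜, y ∈ j.opensRange →
      ∃ g' : 𝒜 d, (g' : A) ∉ y.asHomogeneousIdeal := by
    rintro _ ⟨x, rfl⟩
    obtain ⟨g, hg, _⟩ := hcov x
    exact ⟨g, hg⟩
  refine isAmple_of_sections _ ?_ ?_
  · intro x
    obtain ⟨g, hgx, hgle⟩ := hcov x
    refine ⟨j ⁻¹ᵁ Proj.basicOpen 𝒜 (g : A), (Proj.mem_basicOpen 𝒜 (g : A) (j x)).2 hgx, ?_⟩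
    obtain ⟨e⟩ := nonempty_twist_restrict_iso 𝒜 g.2 h1 hm0
      ((j ⁻¹ᵁ Proj.basicOpen 𝒜 (g : A)).ι ≫ j)
      (fun y _ => one_not_mem 𝒜 y) (fun y hy => by
        obtain ⟨z, rfl⟩ := hy
        exact (Proj.mem_basicOpen 𝒜 (g : A) _).1 z.2)
    exact ⟨((Scheme.Modules.restrictFunctorComp (j ⁻¹ᵁ Proj.basicOpen 𝒜 (g : A)).ι j).app
      (Twist.twist 𝒜 (d : ℤ))).symm ≪≫ e⟩
  · intro x
    obtain ⟨g, hgx, hgle⟩ := hcov x
    let s₀ := homOfSec (Twist.twist 𝒜 (d : ℤ)) (Twist.globalOf 𝒜 g)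
    let u : Coh.structureModule X ≅
        (Scheme.Modules.restrictFunctor j).obj (Coh.structureModule (Proj 𝒜)) :=
      (Scheme.Modules.restrictUnitIso j).symm
    have hgen : CohB1.genLocus _ (u.hom ≫ (Scheme.Modules.restrictFunctor j).map s₀) =
        j ⁻¹ᵁ Proj.basicOpen 𝒜 (g : A) := by
      rw [genLocus_iso_comp]
      apply le_antisymm
      · refine sSup_le fun U hU => ?_
        have hU' := (isIso_restrict_restrict_map_iff j s₀ U).1 hU
        have h2 : IsIso ((Scheme.Modules.restrictFunctor (j ''ᵁ U).ι).map s₀) :=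
          (isIso_restrict_map_iff s₀ _).2 hU'
        have h3 := le_basicOpen_of_isIso' 𝒜 g (j ''ᵁ U)
          (fun y hy => hunit y (j.image_le_opensRange U hy)) h2
        have := j.preimage_mono h3
        rwa [Scheme.Hom.preimage_image_eq] at this
      · refine le_sSup ?_
        refine (isIso_restrict_restrict_map_iff j s₀ _).2 fun V hV => ?_
        exact (isIso_restrict_map_iff s₀ _).1 (isIso_restrict_globalOf 𝒜 g) V
          (hV.trans (j.image_preimage_le _))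
    refine ⟨u.hom ≫ (Scheme.Modules.restrictFunctor j).map s₀, ?_, ?_⟩
    · rw [hgen]
      exact (Proj.mem_basicOpen 𝒜 (g : A) (j x)).2 hgx
    · rw [hgen]
      exact (Proj.isAffineOpen_basicOpen 𝒜 (g : A) g.2 hd).preimage_of_isOpenImmersion j hgle

/-- homogeneous positive-degree basic open neighbourhoods inside an open of `Proj` -/
theorem exists_basicOpen_le (W : (Proj 𝒜).Opens) (y : ProjectiveSpectrum 𝒜) (hy : y ∈ W) :
    ∃ (e : ℕ) (_ : 0 < e) (g : A), g ∈ 𝒜 e ∧ g ∉ y.asHomogeneousIdeal ∧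
      Proj.basicOpen 𝒜 g ≤ W := by
  classical
  obtain ⟨_, ⟨r, rfl⟩, hyr, hrW⟩ :=
    (ProjectiveSpectrum.isTopologicalBasis_basic_opens 𝒜).exists_subset_of_mem_open hy W.isOpen
  obtain ⟨c, hc⟩ : ∃ c : ℕ, (decompose 𝒜 r c : A) ∉ y.asHomogeneousIdeal := by
    by_contra hcon
    push Not at hcon
    apply hyr
    show r ∈ y.asHomogeneousIdeal
    rw [← DirectSum.sum_support_decompose 𝒜 r]
    exact Ideal.sum_mem _ fun i _ => hcon i
  obtain ⟨e₀, he₀, f₀, hf₀, hf₀y⟩ := ProjTop.exists_homogeneous_notMem 𝒜 y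
  refine ⟨c + e₀, by omega, (decompose 𝒜 r c : A) * f₀,
    SetLike.mul_mem_graded (SetLike.coe_mem _) hf₀, ?_, ?_⟩
  · intro hmem
    rcases y.isPrime.mem_or_mem hmem with h | h
    · exact hc h
    · exact hf₀y h
  · intro z hz
    apply hrW
    show r ∉ z.asHomogeneousIdeal
    intro hr
    apply (Proj.mem_basicOpen 𝒜 _ z).1 hz
    exact Ideal.mul_mem_right _ _ (z.asHomogeneousIdeal.isHomogeneous c hr)

theorem main (X : Scheme.{u}) [CompactSpace X] (j : X ⟶ Proj 𝒜) [IsOpenImmersion j] :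
    ∃ d : ℕ, 0 < d ∧
      CohB1.IsAmple ((Scheme.Modules.pullback j).obj (Twist.twist 𝒜 (d : ℤ))) := by
  classical
  have hloc : ∀ x : X, ∃ (e : ℕ) (_ : 0 < e) (g : A), g ∈ 𝒜 e ∧
      g ∉ (j x).asHomogeneousIdeal ∧ Proj.basicOpen 𝒜 g ≤ j.opensRange :=
    fun x => exists_basicOpen_le 𝒜 j.opensRange (j x) ⟨x, rfl⟩
  choose e he g hg hgx hgle using hloc
  -- finite subcover
  obtain ⟨t, ht⟩ := CompactSpace.elim_nhds_subcover
    (fun x : X => ((j ⁻¹ᵁ Proj.basicOpen 𝒜 (g x) : X.Opens) : Set X))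
    (fun x => (j ⁻¹ᵁ Proj.basicOpen 𝒜 (g x)).isOpen.mem_nhds
      ((Proj.mem_basicOpen 𝒜 (g x) (j x)).2 (hgx x)))
  let d : ℕ := ∏ x ∈ t, e x
  have hd : 0 < d := Finset.prod_pos fun x _ => he x
  refine ⟨d, hd, ?_⟩
  have hcov : ∀ y : X, ∃ h : 𝒜 d, (h : A) ∉ (j y).asHomogeneousIdeal ∧
      Proj.basicOpen 𝒜 (h : A) ≤ j.opensRange := by
    intro y
    have hy : y ∈ ⋃ x ∈ t, ((j ⁻¹ᵁ Proj.basicOpen 𝒜 (g x) : X.Opens) : Set X) := by
      rw [ht]; trivial
    simp only [Set.mem_iUnion] at hy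
    obtain ⟨x, hxt, hyx⟩ := hy
    have hyx' : g x ∉ (j y).asHomogeneousIdeal := (Proj.mem_basicOpen 𝒜 (g x) (j y)).1 hyx
    obtain ⟨q, hq⟩ : e x ∣ d := Finset.dvd_prod_of_mem e hxt
    have hq0 : 0 < q := by
      rcases Nat.eq_zero_or_pos q with h0 | h0
      · rw [h0, mul_zero] at hq; omega
      · exact h0
    have hmem : g x ^ q ∈ 𝒜 d := by
      have := SetLike.pow_mem_graded q (hg x)
      rw [smul_eq_mul, mul_comm, ← hq] at this
      exact this
    refine ⟨⟨g x ^ q, hmem⟩, fun hmem' => hyx' ((j y).isPrime.mem_of_pow_mem q hmem'), ?_⟩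
    intro z hz
    apply hgle x
    rw [Proj.mem_basicOpen] at hz ⊢
    intro h'
    exact hz (Ideal.pow_mem_of_mem _ h' q hq0)
  exact isAmple_of_iso ((Scheme.Modules.restrictFunctorIsoPullback j).app _)
    (isAmple_restrict_twist 𝒜 hd j hcov)

end
end Groth.Agent.Helper1.TwistAmpleOpen
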