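import Mathlib
import Groth.Agent.Lib.Helper1.TwistAmpleOpen
import Groth.Agent.Lib.Helper1.QcCech
import Groth.Agent.Lib.Helper1.QcExt

set_option autoImplicit false
universe u
open CategoryTheory CategoryTheory.Limits AlgebraicGeometry TopologicalSpace Opposite

namespace Groth.Agent.Helper1.GenLoc

open Groth.Agent.Helper1.QcCech Groth.Agent.Helper1.TwistAmpleOpen Groth.Agent.Helper1

variable {X : Scheme.{u}} (L : X.Modules) (s : Coh.structureModule X ⟶ L)

/-- `s` is bijective on sections over `V` -/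
def Good (V : X.Opens) : Prop := Function.Bijective (Scheme.Modules.Hom.app s V)

theorem le_genLocus (W : X.Opens) (h : ∀ V : X.Opens, V ≤ W → Good L s V) :
    W ≤ CohB1.genLocus L s :=
  le_sSup ((isIso_restrict_map_iff s W).2 h)

theorem mem_genLocus_iff (x : X) :
    x ∈ CohB1.genLocus L s ↔ ∃ W : X.Opens, x ∈ W ∧ ∀ V : X.Opens, V ≤ W → Good L s V := by
  constructor
  · intro hx
    rw [CohB1.genLocus, Opens.mem_sSup] at hx
    obtain ⟨W, hW, hxW⟩ := hx
    exact ⟨W, hxW, (isIso_restrict_map_iff s W).1 hW⟩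
  · rintro ⟨W, hxW, hW⟩
    exact le_genLocus L s W hW hxW

/-- units and basic opens -/
theorem isUnit_res_iff {Y : Scheme.{u}} {O : Y.Opens} (g : Γ(Y, O)) (V : Y.Opens) (hV : V ≤ O) :
    IsUnit (resR hV g) ↔ V ≤ Y.basicOpen g := by
  constructor
  · intro h
    have h1 : Y.basicOpen (resR hV g) = V := Y.basicOpen_of_isUnit h
    have h2 : Y.basicOpen (resR hV g) = V ⊓ Y.basicOpen g := by
      rw [resR]
      erw [Scheme.basicOpen_res]
    rw [h2] at h1
    exact inf_eq_left.1 h1
  · intro h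
    have hu : IsUnit (resR (Y.basicOpen_le g) g) := Y.toRingedSpace.isUnit_res_basicOpen g
    have := hu.map (resR h)
    rwa [resR_resR] at this

variable (U : X.Opens) (e : L.restrict U.ι ≅ Coh.structureModule (↑U))

/-- the function on `U` corresponding to `s` under a trivialization -/
noncomputable def fn : Γ(↑U, ⊤) :=
  ((Scheme.Modules.restrictFunctor U.ι).map s ≫ e.hom).app ⊤ (1 : Γ(X, U.ι ''ᵁ ⊤))

theorem good_image_iff (V' : (↑U : Scheme.{u}).Opens) :
    Good L s (U.ι ''ᵁ V') ↔ V' ≤ (↑U : Scheme.{u}).basicOpen (fn L s U e) := by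
  let φ := (Scheme.Modules.restrictFunctor U.ι).map s ≫ e.hom
  have hb : Function.Bijective (e.hom.app V') := by
    have : IsIso (e.hom.app V') := inferInstance
    exact (ConcreteCategory.isIso_iff_bijective _).1 this
  have h1 : Good L s (U.ι ''ᵁ V') ↔ Function.Bijective (φ.app V') := by
    have : ⇑(ConcreteCategory.hom (φ.app V')) =
        ⇑(ConcreteCategory.hom (e.hom.app V')) ∘ ⇑(ConcreteCategory.hom (s.app (U.ι ''ᵁ V'))) := rfl
    rw [this]
    exact (Function.Bijective.of_comp_iff' hb _).symm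
  rw [h1, ← isUnit_res_iff (fn L s U e) V' le_top]
  -- formula for `φ.app V'`
  have h2 : ∀ r : Γ(X, U.ι ''ᵁ V'), φ.app V' r =
      (U.ι.appIso V').hom.hom r * resR (le_top : V' ≤ ⊤) (fn L s U e) := by
    intro r
    have e1 : (show Γ((Coh.structureModule X).restrict U.ι, V') from r) =
        ((U.ι.appIso V').hom.hom r : Γ(↑U, V')) •
          (show Γ((Coh.structureModule X).restrict U.ι, V') from (1 : Γ(X, U.ι ''ᵁ V'))) := by
      change r = (U.ι.appIso V').inv.hom ((U.ι.appIso V').hom.hom r) * 1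
      rw [mul_one]
      exact (congr($((U.ι.appIso V').hom_inv_id) r)).symm
    have e2 : φ.app V' r = ((U.ι.appIso V').hom.hom r : Γ(↑U, V')) •
        φ.app V' (show Γ((Coh.structureModule X).restrict U.ι, V') from (1 : Γ(X, U.ι ''ᵁ V'))) := by
      conv_lhs => rw [show r = (show Γ((Coh.structureModule X).restrict U.ι, V') from r) from rfl, e1]
      exact Scheme.Modules.Hom.app_smul φ _ _
    rw [e2]
    congr 1
    have e3 := QcExt.app_res φ (le_top : V' ≤ ⊤)
      (show Γ((Coh.structureModule X).restrict U.ι, ⊤) from (1 : Γ(X, U.ι ''ᵁ ⊤)))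
    have e4 : res ((Coh.structureModule X).restrict U.ι) (le_top : V' ≤ ⊤)
        (show Γ((Coh.structureModule X).restrict U.ι, ⊤) from (1 : Γ(X, U.ι ''ᵁ ⊤))) =
        (show Γ((Coh.structureModule X).restrict U.ι, V') from (1 : Γ(X, U.ι ''ᵁ V'))) := by
      change (X.presheaf.map _).hom 1 = 1
      exact map_one _
    rw [e4] at e3
    exact e3
  have hbij : Function.Bijective ((U.ι.appIso V').hom.hom : Γ(X, U.ι ''ᵁ V') → Γ(↑U, V')) := by
    have : IsIso (U.ι.appIso V').hom := inferInstance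
    exact (ConcreteCategory.isIso_iff_bijective _).1 this
  have h3 : ⇑(ConcreteCategory.hom (φ.app V')) =
      (fun a : Γ(↑U, V') => a * resR (le_top : V' ≤ ⊤) (fn L s U e)) ∘
        ((U.ι.appIso V').hom.hom : Γ(X, U.ι ''ᵁ V') → Γ(↑U, V')) := by
    funext r
    exact h2 r
  rw [h3]
  exact (Function.Bijective.of_comp_iff _ hbij).trans IsUnit.isUnit_iff_mulRight_bijective.symm

theorem image_preimage_of_le {V : X.Opens} (hV : V ≤ U) : U.ι ''ᵁ (U.ι ⁻¹ᵁ V) = V := by
  rw [Scheme.Hom.image_preimage_eq_opensRange_inf, Scheme.Opens.opensRange_ι]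
  exact inf_eq_right.mpr hV

/-- over a trivializing open, the locus where `s` generates is a basic open -/
theorem genLocus_inf_eq :
    CohB1.genLocus L s ⊓ U = U.ι ''ᵁ ((↑U : Scheme.{u}).basicOpen (fn L s U e)) := by
  apply le_antisymm
  · rintro x ⟨hx, hxU⟩
    obtain ⟨W, hxW, hW⟩ := (mem_genLocus_iff L s x).1 hx
    have h1 : Good L s (U.ι ''ᵁ (U.ι ⁻¹ᵁ W)) := hW _ (U.ι.image_preimage_le W)
    rw [good_image_iff L s U e] at h1
    exact ⟨⟨x, hxU⟩, h1 hxW, rfl⟩
  · apply le_inf
    · apply le_genLocus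
      intro V hV
      have hVU : V ≤ U := hV.trans (U.ι_image_le _)
      rw [← image_preimage_of_le U hVU, good_image_iff L s U e]
      have := U.ι.preimage_mono hV
      rwa [Scheme.Hom.preimage_image_eq] at this
    · exact U.ι_image_le _

include e in
theorem isAffineOpen_genLocus_inf (hU : IsAffineOpen U) : IsAffineOpen (CohB1.genLocus L s ⊓ U) := by
  rw [genLocus_inf_eq L s U e]
  have : IsAffine (↑U : Scheme.{u}) := hU
  exact ((isAffineOpen_top (↑U : Scheme.{u})).basicOpen (fn L s U e)).image_of_isOpenImmersion U.ι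

omit s in
include e in
/-- a trivialization restricts to smaller opens -/
theorem nonempty_trivialization_of_le {V : X.Opens} (hVU : V ≤ U) :
    Nonempty (L.restrict V.ι ≅ Coh.structureModule (↑V)) := by
  refine ⟨(Scheme.Modules.restrictFunctorCongr (X.homOfLE_ι hVU).symm).app L ≪≫
      (Scheme.Modules.restrictFunctorComp (X.homOfLE hVU) U.ι).app L ≪≫
      (Scheme.Modules.restrictFunctor (X.homOfLE hVU)).mapIso e ≪≫ ?_⟩
  exact Scheme.Modules.restrictUnitIso _

omit s U e in
/-- an invertible module is trivial on arbitrarily small affine opens -/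
theorem exists_affine_trivialization (hL : PicF.IsInvertible L) (x : X) (W : X.Opens) (hxW : x ∈ W) :
    ∃ V : X.Opens, IsAffineOpen V ∧ x ∈ V ∧ V ≤ W ∧
      Nonempty (L.restrict V.ι ≅ Coh.structureModule (↑V)) := by
  obtain ⟨U, hxU, ⟨e⟩⟩ := hL x
  obtain ⟨_, ⟨V, hV, rfl⟩, hxV, hVU⟩ :=
    X.isBasis_affineOpens.exists_subset_of_mem_open (show x ∈ U ⊓ W from ⟨hxU, hxW⟩) (U ⊓ W).isOpen
  exact ⟨V, hV, hxV, fun y hy => (hVU hy).2,
    nonempty_trivialization_of_le L U e (fun y hy => (hVU hy).1)⟩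

omit U e in
/-- the inclusion of the locus where a section generates an invertible module is affine -/
theorem isAffineHom_genLocus_ι (hL : PicF.IsInvertible L) :
    IsAffineHom (CohB1.genLocus L s).ι := by
  apply isAffineHom_of_forall_exists_isAffineOpen
  intro x
  obtain ⟨V, hV, hxV, -, ⟨e'⟩⟩ := exists_affine_trivialization L hL x ⊤ trivial
  refine ⟨V, hxV, hV, ?_⟩
  have h1 := isAffineOpen_genLocus_inf L s V e' hV
  have h2 : (CohB1.genLocus L s).ι ''ᵁ ((CohB1.genLocus L s).ι ⁻¹ᵁ V) = CohB1.genLocus L s ⊓ V := by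
    rw [Scheme.Hom.image_preimage_eq_opensRange_inf, Scheme.Opens.opensRange_ι]
  rw [← h2] at h1
  exact (Scheme.Hom.isAffineOpen_iff_of_isOpenImmersion _).1 h1

end Groth.Agent.Helper1.GenLoc
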