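import Mathlib
import Groth.Agent.Lib.Helper7.CohStalk.FiniteAss

universe u
open AlgebraicGeometry CategoryTheory Limits TopologicalSpace Opposite

namespace Groth.Agent.Helper1.AffFin

/-- basic opens of `Spec R` as scheme opens -/
abbrev D {R : CommRingCat.{u}} (f : R) : (Spec R).Opens := PrimeSpectrum.basicOpen f

/-- local-to-global finiteness of global sections of a quasi-coherent module on `Spec R` -/
theorem finite_Γ_of_locally {R : CommRingCat.{u}} (M : (Spec R).Modules)
    (hq : SheafOfModules.IsQuasicoherent.{u, u, u} M)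
    (key : ∀ x : Spec R, ∃ f : R, x ∈ D f ∧ Module.Finite Γ(Spec R, D f) Γ(M, D f)) :
    Module.Finite R Γ(M, ⊤) := by
  have hloc : IsLocalizing (modulesSpecToSheaf.obj M) :=
    (isIso_fromTildeΓ_iff_isLocalizing M).1 (Scheme.Modules.isIso_fromTildeΓ_of_isQuasicoherent M)
  choose f hxf hfin using key
  have hspan : Ideal.span (Set.range f) = ⊤ := by
    rw [← PrimeSpectrum.iSup_basicOpen_eq_top_iff]
    rw [eq_top_iff]
    intro x _
    exact Opens.mem_iSup.2 ⟨x, hxf x⟩
  have h2 : ∀ g : Set.range f, IsLocalizedModule.Away g.1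
      ((modulesSpecToSheaf.obj M).obj.map (D g.1).leTop.op).hom := fun g => hloc g.1
  exact Module.Finite.of_localizationSpan' (Set.range f) hspan
    (Rₚ := fun g => Γ(Spec R, D g.1))
    (Mₚ := fun g => Γ(M, D g.1)) (h₂ := h2)
    (fun g => ((modulesSpecToSheaf.obj M).obj.map (D g.1).leTop.op).hom)
    (fun g => by
      obtain ⟨g, x, rfl⟩ := g
      exact hfin x)

theorem isAffineOpen_D {R : CommRingCat.{u}} (f : R) : IsAffineOpen (D f) := by
  rw [D, ← basicOpen_eq_of_affine]
  exact (isAffineOpen_top (Spec R)).basicOpen _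

/-- on an affine scheme, a quasi-coherent module of finite type has finitely generated global
sections -/
theorem finite_Γ_of_isFiniteType {R : CommRingCat.{u}} (M : (Spec R).Modules)
    (hq : SheafOfModules.IsQuasicoherent.{u, u, u} M)
    (hft : SheafOfModules.IsFiniteType.{u, u, u} M) :
    Module.Finite R Γ(M, ⊤) := by
  apply finite_Γ_of_locally M hq
  intro x
  obtain ⟨W, hxW, hW⟩ := Groth.Agent.Helper7.FinType.exists_generators_of_le M hft x
  obtain ⟨_, ⟨f, rfl⟩, hxf, hfW⟩ :=
    (Opens.isBasis_iff_nbhd.1 (PrimeSpectrum.isBasis_basic_opens (R := R))) hxW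
  refine ⟨f, hxf, ?_⟩
  obtain ⟨G, hG⟩ := hW (D f) hfW
  exact Groth.Agent.Helper7.FinType.finite_sections_of_generators M hq (isAffineOpen_D f) G

open Scheme.Modules in
/-- transport of finiteness of sections to a restriction along an open immersion -/
theorem finite_restrict_sections {X Y : Scheme.{u}} (j : Y ⟶ X) [IsOpenImmersion j]
    (F : X.Modules) (U : Y.Opens) (hfin : Module.Finite Γ(X, j ''ᵁ U) Γ(F, j ''ᵁ U)) :
    Module.Finite Γ(Y, U) Γ(F.restrict j, U) := by
  classical
  obtain ⟨S, hS⟩ := hfin.fg_top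
  let toY : Γ(F, j ''ᵁ U) → Γ(F.restrict j, U) := fun n => n
  let P : Submodule Γ(Y, U) Γ(F.restrict j, U) :=
    Submodule.span _ (toY '' (S : Set Γ(F, j ''ᵁ U)))
  have hall : ∀ n : Γ(F, j ''ᵁ U), toY n ∈ P := by
    intro n
    have hn : n ∈ Submodule.span Γ(X, j ''ᵁ U) (S : Set Γ(F, j ''ᵁ U)) := by rw [hS]; trivial
    induction hn using Submodule.span_induction with
    | mem n hn => exact Submodule.subset_span ⟨n, hn, rfl⟩
    | zero => exact P.zero_mem
    | add a b _ _ ha hb => exact P.add_mem ha hb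
    | smul r a _ ha =>
      have : toY (r • a) = ((j.appIso U).hom r) • toY a := by
        show r • a = (j.appIso U).inv ((j.appIso U).hom r) • a
        rw [Iso.hom_inv_id_apply]
      rw [this]
      exact P.smul_mem _ ha
  refine ⟨?_⟩
  have hP : P = ⊤ := by
    rw [eq_top_iff]
    intro n _
    exact hall n
  rw [← hP]
  exact ⟨S.image toY, by simp [P]⟩

/-- finiteness of sections of a quasi-coherent module of finite type over an affine chart -/
theorem finite_restrict {X : Scheme.{u}} (F : X.Modules)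
    (hq : SheafOfModules.IsQuasicoherent.{u, u, u} F)
    (hft : SheafOfModules.IsFiniteType.{u, u, u} F) {R : CommRingCat.{u}} (j : Spec R ⟶ X)
    [IsOpenImmersion j] : Module.Finite R Γ(F.restrict j, ⊤) := by
  have hq' : SheafOfModules.IsQuasicoherent.{u, u, u} (F.restrict j) :=
    Scheme.Modules.isQuasicoherent_restrictFunctor j F
  apply finite_Γ_of_locally (F.restrict j) hq'
  intro x
  obtain ⟨W, hxW, hW⟩ := Groth.Agent.Helper7.FinType.exists_generators_of_le F hft (j x)
  have hx' : x ∈ j ⁻¹ᵁ W := hxW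
  obtain ⟨_, ⟨f, rfl⟩, hxf, hfW⟩ :=
    (Opens.isBasis_iff_nbhd.1 (PrimeSpectrum.isBasis_basic_opens (R := R))) hx'
  refine ⟨f, hxf, ?_⟩
  have hle : j ''ᵁ (D f) ≤ W := (j.image_mono hfW).trans (j.image_preimage_le _)
  obtain ⟨G, hG⟩ := hW (j ''ᵁ (D f)) hle
  have hV : IsAffineOpen (j ''ᵁ (D f)) := (isAffineOpen_D f).image_of_isOpenImmersion j
  exact finite_restrict_sections j F (D f)
    (Groth.Agent.Helper7.FinType.finite_sections_of_generators F hq hV G)

end Groth.Agent.Helper1.AffFin
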