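import Mathlib
import Groth.Agent.Lib.Helper1.AffFin

set_option autoImplicit false
universe u
open CategoryTheory CategoryTheory.Limits AlgebraicGeometry TopologicalSpace Opposite

namespace Groth.Agent.Helper1.TildeFT

set_option backward.defeqAttrib.useBackward true in
set_option backward.isDefEq.respectTransparency false in
/-- finitely many global generating sections give finite type -/
theorem isFiniteType_of_generators {X : Scheme.{u}} (N : X.Modules)
    (G : SheafOfModules.GeneratingSections N) [hG : G.IsFiniteType] :
    SheafOfModules.IsFiniteType.{u, u, u} N := by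
  have : (G.localGeneratorsData).IsFiniteType := by
    constructor
    intro x
    dsimp
    infer_instance
  constructor
  exact ⟨G.localGeneratorsData, this⟩

theorem exists_gen (R : CommRingCat.{u}) (M : ModuleCat.{u} R) (h : Module.Finite R M) :
    ∃ G : SheafOfModules.GeneratingSections (tilde M), G.IsFiniteType := by
  obtain ⟨s, hs⟩ := h.fg_top
  refine ⟨(presentationTilde M (s : Set M) hs _ (Submodule.span_eq _)).generators, ⟨?_⟩⟩
  change Finite (s : Set M)
  infer_instance

theorem tilde_isFiniteType (R : CommRingCat.{u}) (M : ModuleCat.{u} R) (h : Module.Finite R M) :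
    SheafOfModules.IsFiniteType.{u, u, u} (tilde M) := by
  obtain ⟨G, hG⟩ := exists_gen R M h
  exact isFiniteType_of_generators _ G

theorem finite_of_tilde_isFiniteType (R : CommRingCat.{u}) (M : ModuleCat.{u} R)
    (h : SheafOfModules.IsFiniteType.{u, u, u} (tilde M)) : Module.Finite R M := by
  have hq : SheafOfModules.IsQuasicoherent.{u,u,u} (tilde M) := inferInstance
  have hfin := Groth.Agent.Helper1.AffFin.finite_Γ_of_isFiniteType (tilde M) hq h
  let e := (asIso (tilde.toOpen M ⊤)).toLinearEquiv
  have : Module.Finite R ((modulesSpecToSheaf.obj (tilde M)).presheaf.obj (op ⊤)) := hfin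
  exact Module.Finite.equiv e.symm

end Groth.Agent.Helper1.TildeFT
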