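import Mathlib
import Groth.Prelude.Def_Coh
import Groth.Agent.Lib.Helper1.QCohLib
import Groth.Agent.Lib.Helper1.TildeFT
import Groth.Agent.Lib.Helper1.AffFin
import Groth.Agent.Lib.Helper1.QcAbel

set_option autoImplicit false
universe u
open CategoryTheory CategoryTheory.Limits AlgebraicGeometry TopologicalSpace Opposite

namespace Groth.Agent.Helper1.FtLocal

variable {X : Scheme.{u}}

/-- transport generating sections of `F|_U` (module on the scheme `U`) to the over-site -/
noncomputable def generatorsOver (F : X.Modules) (U : X.Opens)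
    (G : (F.restrict U.ι).GeneratingSections) :
    (F.over U).GeneratingSections := by
  let E : SheafOfModules.{u} (X.ringCatSheaf.over U) ≌
      SheafOfModules.{u} (U.sheafRestrict.obj X.ringCatSheaf) :=
    U.sheafOfModulesEquivOver X.ringCatSheaf
  let M' : SheafOfModules.{u} (U.sheafRestrict.obj X.ringCatSheaf) := F.restrict U.ι
  let G' : M'.GeneratingSections := G
  have η : SheafOfModules.unit _ ≅ E.inverse.obj (SheafOfModules.unit _) :=
    (TopologicalSpace.Opens.sheafOfModulesEquivOverInverseUnit U X.ringCatSheaf).symm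
  have iso : E.inverse.obj M' ≅ F.over U :=
    E.inverse.mapIso ((Scheme.Modules.overFunctorEquiv U).app F).symm ≪≫
      (E.unitIso.app (F.over U)).symm
  exact (G'.map E.inverse η).ofEpi iso.hom

theorem generatorsOver_I (F : X.Modules) (U : X.Opens)
    (G : (F.restrict U.ι).GeneratingSections) : (generatorsOver F U G).I = G.I := rfl

theorem isFiniteType_of_cover (F : X.Modules) {I : Type u} (U : I → X.Opens)
    (hU : ⨆ i, U i = ⊤)
    (G : ∀ i, ∃ G : (F.restrict (U i).ι).GeneratingSections, G.IsFiniteType) :
    SheafOfModules.IsFiniteType.{u, u, u} F := by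
  choose G hG using G
  let σ : SheafOfModules.LocalGeneratorsData.{u} (R := X.ringCatSheaf) F :=
    { I := I, X := U, coversTop := (Opens.coversTop_iff (T := X) U).mpr hU,
      generators := fun i => generatorsOver F (U i) (G i) }
  have hσ : σ.IsFiniteType := by
    constructor
    intro i
    constructor
    change Finite (generatorsOver F (U i) (G i)).I
    rw [generatorsOver_I]
    exact (hG i).finite
  constructor
  exact ⟨σ, hσ⟩

set_option backward.isDefEq.respectTransparency false in
theorem exists_gen_restrict_opensRange (F : X.Modules) {R : CommRingCat.{u}}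
    (j : Spec R ⟶ X) [IsOpenImmersion j] (G : (F.restrict j).GeneratingSections)
    [hG : G.IsFiniteType] :
    ∃ G' : (F.restrict j.opensRange.ι).GeneratingSections, G'.IsFiniteType := by
  let e := j.isoOpensRange
  have he : e.inv ≫ j = j.opensRange.ι := by
    rw [Iso.inv_comp_eq]
    exact (Scheme.Hom.isoOpensRange_hom_ι j).symm
  have : PreservesColimitsOfSize.{u, u} (Scheme.Modules.restrictFunctor e.inv) := inferInstance
  let G1 := G.map (Scheme.Modules.restrictFunctor.{u} e.inv)
    (Scheme.Modules.restrictUnitIso _).symm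
  have hG1 : G1.IsFiniteType := ⟨hG.finite⟩
  let iso : (F.restrict j).restrict e.inv ≅ F.restrict j.opensRange.ι :=
    ((Scheme.Modules.restrictFunctorComp e.inv j).app F).symm ≪≫
      (Scheme.Modules.restrictFunctorCongr he).app F
  have h : IsIso (C := SheafOfModules.{u} (j.opensRange : Scheme.{u}).ringCatSheaf) iso.hom :=
    Iso.isIso_hom iso
  have hepi : Epi (C := SheafOfModules.{u} (j.opensRange : Scheme.{u}).ringCatSheaf) iso.hom :=
    inferInstance
  exact ⟨G1.ofEpi iso.hom, inferInstance⟩

theorem exists_gen_of_finite {R : CommRingCat.{u}} (N : (Spec R).Modules) [N.IsQuasicoherent]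
    (h : Module.Finite R Γ(N, ⊤)) :
    ∃ G : SheafOfModules.GeneratingSections N, G.IsFiniteType := by
  obtain ⟨G, hG⟩ := TildeFT.exists_gen R ((modulesSpecToSheaf.obj N).presheaf.obj (.op ⊤)) h
  have h : IsIso (C := SheafOfModules.{u} (Spec R).ringCatSheaf) N.fromTildeΓ :=
    inferInstanceAs (IsIso N.fromTildeΓ)
  have hepi : Epi (C := SheafOfModules.{u} (Spec R).ringCatSheaf) N.fromTildeΓ := inferInstance
  exact ⟨G.ofEpi N.fromTildeΓ, inferInstance⟩

/-- finite type can be checked on affine charts, for quasi-coherent modules -/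
theorem isFiniteType_of_affine_charts (F : X.Modules) [F.IsQuasicoherent] {I : Type u}
    (R : I → CommRingCat.{u}) (j : ∀ i, Spec (R i) ⟶ X) [∀ i, IsOpenImmersion (j i)]
    (hcov : ⨆ i, (j i).opensRange = ⊤) (h : ∀ i, Module.Finite (R i) Γ(F.restrict (j i), ⊤)) :
    SheafOfModules.IsFiniteType.{u, u, u} F := by
  refine isFiniteType_of_cover F (fun i => (j i).opensRange) hcov fun i => ?_
  obtain ⟨G, hG⟩ := exists_gen_of_finite (F.restrict (j i)) (h i)
  exact exists_gen_restrict_opensRange F (j i) G

/-- finite type can be checked on affine opens, for quasi-coherent modules -/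
theorem isFiniteType_of_affineOpens (F : X.Modules) [F.IsQuasicoherent]
    (h : ∀ (V : X.Opens) (hV : IsAffineOpen V),
      Module.Finite Γ(X, V) Γ(F.restrict hV.fromSpec, ⊤)) :
    SheafOfModules.IsFiniteType.{u, u, u} F := by
  refine isFiniteType_of_affine_charts F (I := X.affineOpens)
    (fun V => Γ(X, V.1)) (fun V => V.2.fromSpec) ?_ (fun V => h V.1 V.2)
  apply le_antisymm le_top
  intro y _
  obtain ⟨_, ⟨W, hW, rfl⟩, hyW, -⟩ := X.isBasis_affineOpens.exists_subset_of_mem_open
    (Set.mem_univ y) isOpen_univ
  refine Opens.mem_iSup.2 ⟨⟨W, hW⟩, ?_⟩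
  rw [IsAffineOpen.opensRange_fromSpec]
  exact hyW

theorem app_injective_of_mono {N M : X.Modules} (i : N ⟶ M) [Mono i] (U : X.Opens) :
    Function.Injective (i.app U) := by
  let S : ShortComplex X.Modules := ShortComplex.mk i (0 : M ⟶ M) comp_zero
  have : Mono S.f := inferInstanceAs (Mono i)
  exact QcAbel.app_injective' (S := S) U

/-- the map on sections of a chart induced by a morphism of modules, as a linear map -/
noncomputable def chartMap {N M : X.Modules} (i : N ⟶ M) {R : CommRingCat.{u}} (j : Spec R ⟶ X)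
    [IsOpenImmersion j] : Γ(N.restrict j, ⊤) →ₗ[R] Γ(M.restrict j, ⊤) where
  toFun := ((Scheme.Modules.restrictFunctor j).map i).app ⊤
  map_add' := map_add _
  map_smul' r x := by
    rw [Scheme.Modules.smul_Spec_def, Scheme.Modules.Hom.app_smul, RingHom.id_apply,
      Scheme.Modules.smul_Spec_def]

theorem chartMap_apply {N M : X.Modules} (i : N ⟶ M) {R : CommRingCat.{u}} (j : Spec R ⟶ X)
    [IsOpenImmersion j] (x : Γ(N.restrict j, ⊤)) :
    chartMap i j x = i.app (j ''ᵁ ⊤) x := rfl

theorem chartMap_injective {N M : X.Modules} (i : N ⟶ M) [Mono i] {R : CommRingCat.{u}}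
    (j : Spec R ⟶ X) [IsOpenImmersion j] : Function.Injective (chartMap i j) :=
  app_injective_of_mono i (j ''ᵁ ⊤)

/-- **a quasi-coherent submodule of a coherent module on a locally noetherian scheme is coherent** -/
theorem isCoh_of_mono [IsLocallyNoetherian X] {N M : X.Modules} (i : N ⟶ M) [Mono i]
    (hM : Coh.IsCoh M) (hN : Coh.IsQCoh N) : Coh.IsCoh N := by
  have : N.IsQuasicoherent := hN
  refine ⟨hN, isFiniteType_of_affineOpens N fun V hV => ?_⟩
  have hfin : Module.Finite Γ(X, V) Γ(M.restrict hV.fromSpec, ⊤) :=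
    AffFin.finite_restrict M hM.1 hM.2 hV.fromSpec
  have : IsNoetherianRing Γ(X, V) := IsLocallyNoetherian.component_noetherian ⟨V, hV⟩
  have : IsNoetherian Γ(X, V) Γ(M.restrict hV.fromSpec, ⊤) :=
    isNoetherian_of_isNoetherianRing_of_finite _ _
  exact Module.Finite.of_injective (chartMap i hV.fromSpec) (chartMap_injective i hV.fromSpec)

end Groth.Agent.Helper1.FtLocal
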