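import Mathlib
import Groth.Agent.Lib.Helper1.QcCech

set_option autoImplicit false
universe u
open CategoryTheory CategoryTheory.Limits AlgebraicGeometry TopologicalSpace Opposite

namespace Groth.Agent.Helper1.QcsLoc

open Groth.Agent.Helper1.QcCech

variable {X : Scheme.{u}} (M : X.Modules)

/-- sections over the empty open -/
theorem subsingleton_bot : Subsingleton Γ(M, ⊥) := by
  let F : TopCat.Sheaf Ab X := ⟨M.presheaf, M.isSheaf⟩
  have hT : IsTerminal (F.1.obj (op ⊥)) := TopCat.Sheaf.isTerminalOfEmpty F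
  have hz : IsZero (F.1.obj (op ⊥)) :=
    IsZero.of_iso (isZero_zero _) (hT.uniqueUpToIso (isZero_zero _).isTerminal)
  exact AddCommGrpCat.subsingleton_of_isZero hz

/-- two sections agreeing on the two members of a binary cover are equal -/
theorem eq_of_res₂ {U V : X.Opens} (s t : Γ(M, U ⊔ V))
    (h1 : res M le_sup_left s = res M le_sup_left t)
    (h2 : res M le_sup_right s = res M le_sup_right t) : s = t :=
  TopCat.Sheaf.eq_of_locally_eq₂ (⟨M.presheaf, M.isSheaf⟩ : TopCat.Sheaf Ab X)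
    (homOfLE le_sup_left) (homOfLE le_sup_right) le_rfl s t h1 h2

/-- gluing two sections -/
theorem glue₂ {U V : X.Opens} (a : Γ(M, U)) (b : Γ(M, V))
    (h : res M (inf_le_left : U ⊓ V ≤ U) a = res M (inf_le_right : U ⊓ V ≤ V) b) :
    ∃ c : Γ(M, U ⊔ V), res M le_sup_left c = a ∧ res M le_sup_right c = b := by
  let F : TopCat.Sheaf Ab X := ⟨M.presheaf, M.isSheaf⟩
  let W : Bool → X.Opens := fun b => match b with | true => U | false => V
  let sf : ∀ i : Bool, ToType (F.1.obj (op (W i))) := fun i => match i with | true => a | false => b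
  have hcomp : TopCat.Presheaf.IsCompatible F.1 W sf := by
    rintro (_ | _) (_ | _)
    · rfl
    · change res M _ b = res M _ a
      have h' := congrArg (res M (le_of_eq (inf_comm V U))) h
      rw [res_res, res_res] at h'
      exact h'.symm
    · exact h
    · rfl
  obtain ⟨c, hc, -⟩ := F.existsUnique_gluing' W (U ⊔ V)
    (fun i => match i with | true => homOfLE le_sup_left | false => homOfLE le_sup_right)
    (by
      refine sup_le ?_ ?_
      · exact le_iSup W true
      · exact le_iSup W false) sf hcomp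
  exact ⟨c, hc true, hc false⟩

/-- two sections agreeing on a binary cover are equal (general form) -/
theorem eq_of_res₂' {A B O : X.Opens} (hA : A ≤ O) (hB : B ≤ O) (hcov : O ≤ A ⊔ B)
    (s t : Γ(M, O)) (h1 : res M hA s = res M hA t) (h2 : res M hB s = res M hB t) : s = t :=
  TopCat.Sheaf.eq_of_locally_eq₂ (⟨M.presheaf, M.isSheaf⟩ : TopCat.Sheaf Ab X)
    (homOfLE hA) (homOfLE hB) hcov s t h1 h2

section rsmul
variable {W₀ : X.Opens}

lemma rsmul_mul {O : X.Opens} (h : O ≤ W₀) (a b : Γ(X, W₀)) (s : Γ(M, O)) :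
    rsmul M h (a * b) s = rsmul M h a (rsmul M h b s) := by
  rw [rsmul, rsmul, rsmul, map_mul, mul_smul]

lemma rsmul_zero {O : X.Opens} (h : O ≤ W₀) (a : Γ(X, W₀)) : rsmul M h a (0 : Γ(M, O)) = 0 := by
  rw [rsmul, smul_zero]

lemma rsmul_sub {O : X.Opens} (h : O ≤ W₀) (a : Γ(X, W₀)) (s t : Γ(M, O)) :
    rsmul M h a (s - t) = rsmul M h a s - rsmul M h a t := by
  rw [rsmul, rsmul, rsmul, smul_sub]

lemma rsmul_one {O : X.Opens} (h : O ≤ W₀) (s : Γ(M, O)) : rsmul M h 1 s = s := by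
  rw [rsmul, map_one, one_smul]

lemma rsmul_pow_add {O : X.Opens} (h : O ≤ W₀) (f : Γ(X, W₀)) (m n : ℕ) (s : Γ(M, O)) :
    rsmul M h (f ^ (m + n)) s = rsmul M h (f ^ m) (rsmul M h (f ^ n) s) := by
  rw [pow_add, rsmul_mul]

end rsmul

variable [M.IsQuasicoherent] {W₀ : X.Opens} (f : Γ(X, W₀))

/-- sections vanishing on `W ∩ X_f` are killed by a power of `f` -/
def Kill (W : X.Opens) : Prop :=
  ∀ (hW : W ≤ W₀) (t : Γ(M, W)), res M (inf_le_left : W ⊓ X.basicOpen f ≤ W) t = 0 →
    ∃ n : ℕ, rsmul M hW (f ^ n) t = 0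

/-- sections over `W ∩ X_f` extend to `W` after multiplication by a power of `f` -/
def Ext (W : X.Opens) : Prop :=
  ∀ (hW : W ≤ W₀) (s : Γ(M, W ⊓ X.basicOpen f)), ∃ (n : ℕ) (t : Γ(M, W)),
    res M (inf_le_left : W ⊓ X.basicOpen f ≤ W) t = rsmul M (inf_le_left.trans hW) (f ^ n) s

lemma inf_basicOpen_eq {U : X.Opens} (hU : U ≤ W₀) :
    U ⊓ X.basicOpen f = X.basicOpen (resR hU f) := by
  rw [resR]
  erw [Scheme.basicOpen_res]

theorem kill_affine {U : X.Opens} (hU : IsAffineOpen U) : Kill M f U := by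
  intro hW t ht
  obtain ⟨n, hn⟩ := kill_aux M hU (resR hW f) (U ⊓ X.basicOpen f) (inf_basicOpen_eq f hW) t ht
  refine ⟨n, ?_⟩
  rw [rsmul, map_pow]
  exact hn

theorem ext_affine {U : X.Opens} (hU : IsAffineOpen U) : Ext M f U := by
  intro hW s
  obtain ⟨n, t, ht⟩ := extend_aux M hU (resR hW f) (U ⊓ X.basicOpen f) (inf_basicOpen_eq f hW) s
  refine ⟨n, t, ?_⟩
  rw [rsmul, map_pow]
  rw [resR_resR] at ht
  exact ht

/-- the kill property for quasi-compact opens -/
theorem kill_of_isCompact (W : X.Opens) (hWc : IsCompact (W : Set X)) : Kill M f W := by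
  refine compact_open_induction_on (P := fun W => Kill M f W) W hWc ?_ ?_
  · intro hW t _
    have := subsingleton_bot M
    exact ⟨0, Subsingleton.elim _ _⟩
  · intro S _ U hS hW t ht
    have hSW : S ≤ W₀ := le_sup_left.trans hW
    have hUW : U.1 ≤ W₀ := le_sup_right.trans hW
    obtain ⟨n₁, hn₁⟩ := hS hSW (res M le_sup_left t) (by
      rw [res_res]
      have := congrArg (res M (inf_le_inf_right (X.basicOpen f) (le_sup_left : S ≤ S ⊔ U.1))) ht
      rw [res_res, map_zero] at this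
      exact this)
    obtain ⟨n₂, hn₂⟩ := kill_affine M f U.2 hUW (res M le_sup_right t) (by
      rw [res_res]
      have := congrArg (res M (inf_le_inf_right (X.basicOpen f) (le_sup_right : U.1 ≤ S ⊔ U.1))) ht
      rw [res_res, map_zero] at this
      exact this)
    refine ⟨n₂ + n₁, ?_⟩
    apply eq_of_res₂ M
    · rw [res_rsmul, map_zero, rsmul_pow_add, hn₁, rsmul_zero]
    · rw [res_rsmul, map_zero, add_comm, rsmul_pow_add, hn₂, rsmul_zero]

/-- the extension property for quasi-compact opens inside a quasi-separated open -/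
theorem ext_of_isCompact (W₁ : X.Opens) (hW₁ : IsQuasiSeparated (W₁ : Set X))
    (W : X.Opens) (hWc : IsCompact (W : Set X)) (hWW₁ : W ≤ W₁) : Ext M f W := by
  revert hWW₁
  refine compact_open_induction_on (P := fun W => W ≤ W₁ → Ext M f W) W hWc ?_ ?_
  · intro _ hW s
    have h0 : (⊥ ⊓ X.basicOpen f : X.Opens) = ⊥ := bot_inf_eq _
    have : Subsingleton Γ(M, ⊥ ⊓ X.basicOpen f) := by
      rw [h0]; exact subsingleton_bot M
    exact ⟨0, 0, Subsingleton.elim _ _⟩
  · intro S hSc U hS hSU hW s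
    have hSW : S ≤ W₀ := le_sup_left.trans hW
    have hUW : U.1 ≤ W₀ := le_sup_right.trans hW
    have hS1 : S ≤ W₁ := le_sup_left.trans hSU
    have hU1 : U.1 ≤ W₁ := le_sup_right.trans hSU
    -- restrictions of `s`
    obtain ⟨n₁, t₁, ht₁⟩ := hS hS1 hSW (res M (inf_le_inf_right (X.basicOpen f) (le_sup_left : S ≤ S ⊔ U.1)) s)
    obtain ⟨n₂, t₂, ht₂⟩ := ext_affine M f U.2 hUW
      (res M (inf_le_inf_right (X.basicOpen f) (le_sup_right : U.1 ≤ S ⊔ U.1)) s)
    -- the difference on the intersection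
    have hSUc : IsCompact ((S ⊓ U.1 : X.Opens) : Set X) :=
      hW₁ _ _ (by exact_mod_cast hS1) S.2 hSc (by exact_mod_cast hU1) U.1.2 U.2.isCompact
    have hSUW : S ⊓ U.1 ≤ W₀ := inf_le_left.trans hSW
    let t₁' := rsmul M hSW (f ^ n₂) t₁
    let t₂' := rsmul M hUW (f ^ n₁) t₂
    let d : Γ(M, S ⊓ U.1) := res M inf_le_left t₁' - res M inf_le_right t₂'
    have hd : res M (inf_le_left : (S ⊓ U.1) ⊓ (X.basicOpen f) ≤ S ⊓ U.1) d = 0 := by
      have e1 : res M (inf_le_left : (S ⊓ U.1) ⊓ (X.basicOpen f) ≤ S ⊓ U.1) (res M inf_le_left t₁') =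
          rsmul M (inf_le_left.trans hSUW) (f ^ (n₂ + n₁))
            (res M (inf_le_inf_right (X.basicOpen f) ((inf_le_left : S ⊓ U.1 ≤ S).trans le_sup_left)) s) := by
        rw [res_res, res_rsmul]
        have := congrArg (res M (inf_le_inf_right (X.basicOpen f) (inf_le_left : S ⊓ U.1 ≤ S))) ht₁
        rw [res_res, res_rsmul, res_res] at this
        rw [rsmul_pow_add, ← this]
      have e2 : res M (inf_le_left : (S ⊓ U.1) ⊓ (X.basicOpen f) ≤ S ⊓ U.1) (res M inf_le_right t₂') =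
          rsmul M (inf_le_left.trans hSUW) (f ^ (n₂ + n₁))
            (res M (inf_le_inf_right (X.basicOpen f) ((inf_le_left : S ⊓ U.1 ≤ S).trans le_sup_left)) s) := by
        rw [res_res, res_rsmul]
        have := congrArg (res M (inf_le_inf_right (X.basicOpen f) (inf_le_right : S ⊓ U.1 ≤ U.1))) ht₂
        rw [res_res, res_rsmul, res_res] at this
        rw [add_comm, rsmul_pow_add, ← this]
      rw [map_sub, e1, e2, sub_self]
    obtain ⟨m, hm⟩ := kill_of_isCompact M f (S ⊓ U.1) hSUc hSUW d hd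
    -- glue
    obtain ⟨c, hc1, hc2⟩ := glue₂ M (rsmul M hSW (f ^ m) t₁') (rsmul M hUW (f ^ m) t₂') (by
      have ha : res M (inf_le_left : S ⊓ U.1 ≤ S) (rsmul M hSW (f ^ m) t₁') =
          rsmul M hSUW (f ^ m) (res M inf_le_left t₁') := res_rsmul M hSW _ _ _
      have hb : res M (inf_le_right : S ⊓ U.1 ≤ U.1) (rsmul M hUW (f ^ m) t₂') =
          rsmul M hSUW (f ^ m) (res M inf_le_right t₂') := res_rsmul M hUW _ _ _
      rw [ha, hb, ← sub_eq_zero, ← rsmul_sub]
      exact hm)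
    refine ⟨m + (n₂ + n₁), c, ?_⟩
    apply eq_of_res₂' M (inf_le_inf_right (X.basicOpen f) (le_sup_left : S ≤ S ⊔ U.1))
      (inf_le_inf_right (X.basicOpen f) (le_sup_right : U.1 ≤ S ⊔ U.1)) (by rw [← inf_sup_right])
    · rw [res_res, res_rsmul]
      have h1 := congrArg (res M (inf_le_left : S ⊓ (X.basicOpen f) ≤ S)) hc1
      rw [res_res] at h1
      rw [h1, res_rsmul, res_rsmul, ht₁, rsmul_pow_add, rsmul_pow_add]
    · rw [res_res, res_rsmul]
      have h2 := congrArg (res M (inf_le_left : U.1 ⊓ (X.basicOpen f) ≤ U.1)) hc2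
      rw [res_res] at h2
      rw [h2, res_rsmul, res_rsmul, ht₂, rsmul_pow_add, add_comm n₂ n₁, rsmul_pow_add]

end Groth.Agent.Helper1.QcsLoc
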