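import Mathlib
import Groth.Agent.Lib.Helper1.QcsLoc
import Groth.Agent.Lib.Helper1.QCohLib

set_option autoImplicit false
universe u
open CategoryTheory CategoryTheory.Limits AlgebraicGeometry TopologicalSpace Opposite

namespace Groth.Agent.Helper1.PushQc

open Groth.Agent.Helper1.QcCech Groth.Agent.Helper1.TildeQC PrimeSpectrum

variable {X Y : Scheme.{u}} (f : X ⟶ Y) (F : X.Modules)

/-- the module structure on sections of a pushforward -/
theorem push_smul (V' : Y.Opens) (r : Γ(Y, V')) (x : Γ((Scheme.Modules.pushforward f).obj F, V')) :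
    r • x = (show Γ(F, f ⁻¹ᵁ V') from ((f.app V').hom r : Γ(X, f ⁻¹ᵁ V')) •
      (show Γ(F, f ⁻¹ᵁ V') from x)) := rfl

variable {V : Y.Opens} (hV : IsAffineOpen V)

theorem preimage_image_le (O' : (Spec Γ(Y, V)).Opens) :
    f ⁻¹ᵁ (hV.fromSpec ''ᵁ O') ≤ f ⁻¹ᵁ V :=
  (Opens.map f.base).map (homOfLE (QcLoc.image_le hV O')) |>.le

/-- the action of `Γ(Y, V)` on sections of the restriction of `f_* F` to `Spec Γ(Y, V)` -/
theorem act_push (O' : (Spec Γ(Y, V)).Opens) (r : Γ(Y, V))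
    (x : Γ(((Scheme.Modules.pushforward f).obj F).restrict hV.fromSpec, O')) :
    r • x = (show Γ(F, f ⁻¹ᵁ (hV.fromSpec ''ᵁ O')) from
      rsmul F (preimage_image_le f hV O') ((f.app V).hom r)
        (show Γ(F, f ⁻¹ᵁ (hV.fromSpec ''ᵁ O')) from x)) := by
  rw [QcLoc.smul_eq hV ((Scheme.Modules.pushforward f).obj F) O' r x]
  have h := congrArg (fun φ => φ.hom r) (f.naturality (homOfLE (QcLoc.image_le hV O')).op)
  simp only [CommRingCat.hom_comp, RingHom.coe_comp, Function.comp_apply] at h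
  change @HSMul.hSMul Γ(X, f ⁻¹ᵁ (hV.fromSpec ''ᵁ O')) Γ(F, f ⁻¹ᵁ (hV.fromSpec ''ᵁ O')) _ _
    ((f.app (hV.fromSpec ''ᵁ O')).hom ((Y.presheaf.map (homOfLE (QcLoc.image_le hV O')).op).hom r)) x =
    @HSMul.hSMul Γ(X, f ⁻¹ᵁ (hV.fromSpec ''ᵁ O')) Γ(F, f ⁻¹ᵁ (hV.fromSpec ''ᵁ O')) _ _
    (resR (preimage_image_le f hV O') ((f.app V).hom r)) x
  rw [h]
  rfl

theorem res_injective_of_eq {O O' : X.Opens} (h : O' = O) :
    Function.Injective (res F h.le) := by
  subst h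
  intro a b hab
  rwa [res_self, res_self] at hab

include hV in
/-- `f_* F` restricted to an affine chart of the target is the tilde of its sections, when the
preimage of the chart is quasi-compact and quasi-separated -/
theorem isIso_fromTildeΓ_push [F.IsQuasicoherent] (hc : IsCompact (f ⁻¹ᵁ V : Set X))
    (hqs : IsQuasiSeparated (f ⁻¹ᵁ V : Set X)) :
    IsIso (((Scheme.Modules.pushforward f).obj F).restrict hV.fromSpec).fromTildeΓ := by
  apply isIso_fromTildeΓ_of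
  · intro g y
    let φ : Γ(X, f ⁻¹ᵁ V) := (f.app V).hom g
    have e1 : hV.fromSpec ''ᵁ (basicOpen g) = Y.basicOpen g := hV.fromSpec_image_basicOpen g
    have e2 : f ⁻¹ᵁ (hV.fromSpec ''ᵁ (basicOpen g)) = f ⁻¹ᵁ V ⊓ X.basicOpen φ := by
      rw [e1, Scheme.preimage_basicOpen]
      exact (inf_eq_right.2 (X.basicOpen_le φ)).symm
    let y' : Γ(F, f ⁻¹ᵁ (hV.fromSpec ''ᵁ (basicOpen g))) := y
    obtain ⟨n, t, ht⟩ := QcsLoc.ext_of_isCompact F φ (f ⁻¹ᵁ V) hqs (f ⁻¹ᵁ V) hc le_rfl le_rfl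
      (res F e2.ge y')
    have e0 : f ⁻¹ᵁ (hV.fromSpec ''ᵁ ⊤) = f ⁻¹ᵁ V := by rw [QcLoc.image_top hV]
    refine ⟨n, (res F e0.le t : Γ(F, f ⁻¹ᵁ (hV.fromSpec ''ᵁ ⊤))), ?_⟩
    rw [act_def, act_push f F hV (basicOpen g) (g ^ n) y]
    have hle : f ⁻¹ᵁ (hV.fromSpec ''ᵁ (basicOpen g)) ≤ f ⁻¹ᵁ (hV.fromSpec ''ᵁ ⊤) :=
      (Opens.map f.base).map (hV.fromSpec.opensFunctor.map (basicOpen g).leTop) |>.le
    change rsmul F (preimage_image_le f hV (basicOpen g)) ((f.app V).hom (g ^ n)) y' =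
      res F hle (res F e0.le t)
    apply res_injective_of_eq F e2.symm
    rw [res_rsmul, res_res, res_res, map_pow]
    exact ht.symm
  · intro g t ht
    let φ : Γ(X, f ⁻¹ᵁ V) := (f.app V).hom g
    have e1 : hV.fromSpec ''ᵁ (basicOpen g) = Y.basicOpen g := hV.fromSpec_image_basicOpen g
    have e2 : f ⁻¹ᵁ (hV.fromSpec ''ᵁ (basicOpen g)) = f ⁻¹ᵁ V ⊓ X.basicOpen φ := by
      rw [e1, Scheme.preimage_basicOpen]
      exact (inf_eq_right.2 (X.basicOpen_le φ)).symm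
    have e0 : f ⁻¹ᵁ (hV.fromSpec ''ᵁ ⊤) = f ⁻¹ᵁ V := by rw [QcLoc.image_top hV]
    let t' : Γ(F, f ⁻¹ᵁ (hV.fromSpec ''ᵁ ⊤)) := t
    have hle : f ⁻¹ᵁ (hV.fromSpec ''ᵁ (basicOpen g)) ≤ f ⁻¹ᵁ (hV.fromSpec ''ᵁ ⊤) :=
      (Opens.map f.base).map (hV.fromSpec.opensFunctor.map (basicOpen g).leTop) |>.le
    have ht' : res F hle t' = 0 := ht
    obtain ⟨n, hn⟩ := QcsLoc.kill_of_isCompact F φ (f ⁻¹ᵁ V) hc le_rfl (res F e0.ge t') (by
      rw [res_res]
      have := congrArg (res F e2.ge) ht'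
      rw [res_res, map_zero] at this
      exact this)
    refine ⟨n, ?_⟩
    rw [act_def, act_push f F hV ⊤ (g ^ n) t]
    change rsmul F (preimage_image_le f hV ⊤) ((f.app V).hom (g ^ n)) t' = 0
    apply res_injective_of_eq F e0.symm
    rw [res_rsmul, map_zero, map_pow]
    exact hn

/-- **the direct image of a quasi-coherent module along a quasi-compact quasi-separated morphism is
quasi-coherent** -/
theorem isQuasicoherent_pushforward [QuasiCompact f] [QuasiSeparated f] [F.IsQuasicoherent] :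
    ((Scheme.Modules.pushforward f).obj F).IsQuasicoherent := by
  refine QCohLib.isQuasicoherent_of_affine_charts _ (I := Y.affineOpens)
    (fun V => Γ(Y, V.1)) (fun V => V.2.fromSpec) ?_ ?_
  · apply le_antisymm le_top
    intro y _
    obtain ⟨_, ⟨W, hW, rfl⟩, hyW, -⟩ := Y.isBasis_affineOpens.exists_subset_of_mem_open
      (Set.mem_univ y) isOpen_univ
    refine Opens.mem_iSup.2 ⟨⟨W, hW⟩, ?_⟩
    rw [IsAffineOpen.opensRange_fromSpec]
    exact hyW
  · intro W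
    exact isIso_fromTildeΓ_push f F W.2 (f.isCompact_preimage W.2.isCompact)
      (f.isQuasiSeparated_preimage W.2.isQuasiSeparated)

end Groth.Agent.Helper1.PushQc
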