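import Mathlib
import Groth.Prelude.Def_Coh
import Groth.Agent.Lib.Helper1.FtLocal
import Groth.Agent.Lib.Helper1.PushQc

set_option autoImplicit false
universe u
open CategoryTheory CategoryTheory.Limits AlgebraicGeometry TopologicalSpace Opposite

namespace Groth.Agent.Helper1.FinPush

open Groth.Agent.Helper1.QcCech

variable {X Y : Scheme.{u}}

lemma resR_self {O : X.Opens} (h : O ≤ O) (r : Γ(X, O)) : resR h r = r := by
  have : (homOfLE h).op = 𝟙 _ := Subsingleton.elim _ _
  change (X.presheaf.map (homOfLE h).op).hom r = r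
  rw [this, CategoryTheory.Functor.map_id]
  rfl

lemma resR_surjective_of_eq {O O' : X.Opens} (h : O' = O) :
    Function.Surjective (resR h.le) := by
  subst h
  intro r
  exact ⟨r, resR_self _ r⟩

/-- sections of a coherent module over an affine open form a finite module -/
theorem finite_sections (M : X.Modules) (hM : Coh.IsCoh M) {O : X.Opens} (hO : IsAffineOpen O) :
    Module.Finite Γ(X, O) Γ(M, O) := by
  have h := AffFin.finite_restrict M hM.1 hM.2 hO.fromSpec
  have e0 := QcLoc.image_top hO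
  let L : Γ(M.restrict hO.fromSpec, ⊤) →ₗ[Γ(X, O)] Γ(M, O) :=
    { toFun := fun x => res M e0.ge (show Γ(M, hO.fromSpec ''ᵁ ⊤) from x)
      map_add' := fun x y => map_add (res M e0.ge) _ _
      map_smul' := fun r x => by
        rw [QcLoc.smul_eq hO M ⊤ r x]
        change res M e0.ge (resR (QcLoc.image_le hO ⊤) r •
          (show Γ(M, hO.fromSpec ''ᵁ ⊤) from x)) = _
        rw [res_smul, resR_resR, resR_self]
        rfl }
  refine Module.Finite.of_surjective L (fun y => ⟨res M e0.le y, ?_⟩)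
  change res M e0.ge (res M e0.le y) = y
  rw [res_res, res_self]

/-- finiteness through a tower of rings acting compatibly -/
theorem finite_of_tower {A B N : Type*} [CommRing A] [CommRing B] [AddCommGroup N] [Module A N]
    [Module B N] (φ : A →+* B) (hφ : φ.Finite) (hcompat : ∀ (a : A) (x : N), a • x = φ a • x)
    (hN : Module.Finite B N) : Module.Finite A N := by
  let _ := φ.toAlgebra
  have : IsScalarTower A B N := ⟨fun a b x => by
    rw [Algebra.smul_def, mul_smul, hcompat]
    rfl⟩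
  have : Module.Finite A B := hφ
  exact Module.Finite.trans B N

/-- **the direct image of a coherent module along a finite morphism to a locally noetherian scheme
is coherent** -/
theorem isCoh_pushforward (f : X ⟶ Y) [IsFinite f] (M : X.Modules) (hM : Coh.IsCoh M) :
    Coh.IsCoh ((Scheme.Modules.pushforward f).obj M) := by
  have : M.IsQuasicoherent := hM.1
  have hq : ((Scheme.Modules.pushforward f).obj M).IsQuasicoherent :=
    PushQc.isQuasicoherent_pushforward f M
  refine ⟨hq, FtLocal.isFiniteType_of_affineOpens _ fun V hV => ?_⟩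
  have e0 : hV.fromSpec ''ᵁ ⊤ = V := QcLoc.image_top hV
  have hOV : f ⁻¹ᵁ (hV.fromSpec ''ᵁ ⊤) = f ⁻¹ᵁ V := by rw [e0]
  have hO : IsAffineOpen (f ⁻¹ᵁ (hV.fromSpec ''ᵁ ⊤)) := by
    rw [hOV]
    exact hV.preimage f
  have hfin : Module.Finite Γ(X, f ⁻¹ᵁ (hV.fromSpec ''ᵁ ⊤)) Γ(M, f ⁻¹ᵁ (hV.fromSpec ''ᵁ ⊤)) :=
    finite_sections M hM hO
  let φ : Γ(Y, V) →+* Γ(X, f ⁻¹ᵁ (hV.fromSpec ''ᵁ ⊤)) :=
    (resR (PushQc.preimage_image_le f hV ⊤)).comp (f.app V).hom
  have hφ : φ.Finite := by
    refine RingHom.Finite.comp ?_ (IsFinite.finite_app f V hV)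
    exact RingHom.Finite.of_surjective _ (resR_surjective_of_eq hOV)
  let instA : Module Γ(Y, V) Γ(M, f ⁻¹ᵁ (hV.fromSpec ''ᵁ ⊤)) := Module.compHom _ φ
  have h1 : Module.Finite Γ(Y, V) Γ(M, f ⁻¹ᵁ (hV.fromSpec ''ᵁ ⊤)) :=
    finite_of_tower φ hφ (fun a x => rfl) hfin
  let L : Γ(M, f ⁻¹ᵁ (hV.fromSpec ''ᵁ ⊤)) →ₗ[Γ(Y, V)]
      Γ(((Scheme.Modules.pushforward f).obj M).restrict hV.fromSpec, ⊤) :=
    { toFun := fun x => x
      map_add' := fun _ _ => rfl
      map_smul' := fun a x => by
        rw [RingHom.id_apply, PushQc.act_push f M hV ⊤ a x]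
        rfl }
  exact Module.Finite.of_surjective L (fun y => ⟨y, rfl⟩)

end Groth.Agent.Helper1.FinPush
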