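import Mathlib
import Groth.Prelude.Def_ClSub2
import Groth.Agent.Lib.Helper1.QcAbel
import Groth.Agent.Lib.Helper1.PushQc

set_option autoImplicit false
universe u
open CategoryTheory CategoryTheory.Limits AlgebraicGeometry TopologicalSpace Opposite

namespace Groth.Agent.Helper1.IdealModL

open Groth.Agent.Helper1.QcCech Groth.Agent.Helper1

variable {X : Scheme.{u}}

/-- the structure sheaf is the free module on one generator -/
noncomputable def unitIso :
    (SheafOfModules.free PUnit.{u+1} : X.Modules) ≅ Coh.structureModule X :=
  Limits.coproductUniqueIso (fun _ : PUnit.{u+1} => SheafOfModules.unit X.ringCatSheaf)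

instance isQuasicoherent_structureModule : (Coh.structureModule X).IsQuasicoherent :=
  QcAbel.isQuasicoherent_of_iso unitIso

variable (I : X.IdealSheafData)

instance isQuasicoherent_quotMod : (ClSub.quotMod I).IsQuasicoherent :=
  PushQc.isQuasicoherent_pushforward I.subschemeι (Coh.structureModule I.subscheme)

instance isQuasicoherent_idealMod : (ClSub.idealMod I).IsQuasicoherent :=
  QcAbel.isQuasicoherent_kernel (ClSub.toSubscheme I)

/-- the defining left exact sequence -/
noncomputable def S : ShortComplex X.Modules :=
  ShortComplex.mk (ClSub.idealModι I) (ClSub.toSubscheme I) (kernel.condition (ClSub.toSubscheme I))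

lemma S_exact : (S I).Exact :=
  ShortComplex.exact_of_f_is_kernel _ (kernelIsKernel (ClSub.toSubscheme I))

instance : Mono (S I).f := inferInstanceAs (Mono (kernel.ι (ClSub.toSubscheme I)))

instance : Mono (ClSub.idealModι I) := inferInstanceAs (Mono (kernel.ι (ClSub.toSubscheme I)))

lemma ι_injective (U : X.Opens) : Function.Injective ((ClSub.idealModι I).app U) :=
  QcAbel.app_injective' (S := S I) U

lemma toSubscheme_app (U : X.Opens) (r : Γ(X, U)) :
    (ClSub.toSubscheme I).app U r = (I.subschemeι.app U).hom r := rfl

lemma toSubscheme_ι (U : X.Opens) (y : Γ(ClSub.idealMod I, U)) :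
    (I.subschemeι.app U).hom ((ClSub.idealModι I).app U y) = 0 :=
  QcExt.app_zero (S I) U y

lemma exists_of_app_eq_zero (U : X.Opens) (r : Γ(X, U)) (hr : (I.subschemeι.app U).hom r = 0) :
    ∃ y : Γ(ClSub.idealMod I, U), (ClSub.idealModι I).app U y = r :=
  QcAbel.app_exact' (S := S I) (S_exact I) U r hr

end Groth.Agent.Helper1.IdealModL
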