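import Mathlib
import Groth.Agent.Lib.Helper1.QcCech

set_option autoImplicit false
universe u
open CategoryTheory CategoryTheory.Limits AlgebraicGeometry TopologicalSpace Opposite

namespace Groth.Agent.Helper1.SubSh

open Groth.Agent.Helper1.QcCech

variable {X : Scheme.{u}} (M : X.Modules)

/-- a family of submodules of the modules of sections, stable under restriction -/
structure PreSub where
  carrier : ∀ U : X.Opens, Submodule Γ(X, U) Γ(M, U)
  res_mem : ∀ {U V : X.Opens} (h : V ≤ U) {t : Γ(M, U)}, t ∈ carrier U → res M h t ∈ carrier V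

/-- a family of submodules stable under restriction and local -/
structure LocalSub extends PreSub M where
  local_mem : ∀ {U : X.Opens} (t : Γ(M, U)),
    (∀ x ∈ U, ∃ (W : X.Opens) (h : W ≤ U), x ∈ W ∧ res M h t ∈ carrier W) → t ∈ carrier U

variable {M}

/-- the local family associated with a restriction-stable family -/
def PreSub.loc (N : PreSub M) : LocalSub M where
  carrier U :=
    { carrier := {t | ∀ x ∈ U, ∃ (W : X.Opens) (h : W ≤ U), x ∈ W ∧ res M h t ∈ N.carrier W}
      add_mem' := by
        intro a b ha hb x hx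
        obtain ⟨W₁, h₁, hx₁, hm₁⟩ := ha x hx
        obtain ⟨W₂, h₂, hx₂, hm₂⟩ := hb x hx
        refine ⟨W₁ ⊓ W₂, inf_le_left.trans h₁, ⟨hx₁, hx₂⟩, ?_⟩
        rw [map_add]
        refine (N.carrier _).add_mem ?_ ?_
        · have := N.res_mem (inf_le_left : W₁ ⊓ W₂ ≤ W₁) hm₁
          rwa [res_res] at this
        · have := N.res_mem (inf_le_right : W₁ ⊓ W₂ ≤ W₂) hm₂
          rwa [res_res] at this
      zero_mem' := by
        intro x hx
        exact ⟨U, le_rfl, hx, by rw [map_zero]; exact (N.carrier U).zero_mem⟩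
      smul_mem' := by
        intro r a ha x hx
        obtain ⟨W₁, h₁, hx₁, hm₁⟩ := ha x hx
        refine ⟨W₁, h₁, hx₁, ?_⟩
        rw [res_smul]
        exact (N.carrier _).smul_mem _ hm₁ }
  res_mem := by
    intro U V h t ht x hx
    obtain ⟨W₁, h₁, hx₁, hm₁⟩ := ht x (h hx)
    refine ⟨W₁ ⊓ V, inf_le_right, ⟨hx₁, hx⟩, ?_⟩
    rw [res_res]
    have := N.res_mem (inf_le_left : W₁ ⊓ V ≤ W₁) hm₁
    rwa [res_res] at this
  local_mem := by
    intro U t ht x hx
    obtain ⟨W, h, hxW, hm⟩ := ht x hx
    obtain ⟨W', h', hxW', hm'⟩ := hm x hxW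
    refine ⟨W', h'.trans h, hxW', ?_⟩
    rwa [res_res] at hm'

lemma PreSub.le_loc (N : PreSub M) {U : X.Opens} {t : Γ(M, U)} (ht : t ∈ N.carrier U) :
    t ∈ N.loc.carrier U := by
  intro x hx
  exact ⟨U, le_rfl, hx, by rw [res_self]; exact ht⟩

lemma PreSub.mem_loc_iff (N : PreSub M) {U : X.Opens} (t : Γ(M, U)) :
    t ∈ N.loc.carrier U ↔
      ∀ x ∈ U, ∃ (W : X.Opens) (h : W ≤ U), x ∈ W ∧ res M h t ∈ N.carrier W := Iff.rfl

namespace LocalSub

variable (N : LocalSub M)

/-- the associated Mathlib sub-presheaf of modules -/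
def toSubmodule : PresheafOfModules.Submodule M.val where
  obj U := N.carrier U.unop
  map {U V} f := by
    intro t ht
    exact N.res_mem (leOfHom f.unop) ht

/-- the underlying presheaf of modules -/
noncomputable def pre : PresheafOfModules X.ringCatSheaf.obj := N.toSubmodule.toPresheafOfModules

lemma pre_map_val {U V : (X.Opens)ᵒᵖ} (f : U ⟶ V) (t : N.carrier U.unop) :
    ((N.pre.presheaf.map f).hom t : N.carrier V.unop).1 = M.presheaf.map f t.1 := rfl

theorem isSheaf : TopCat.Presheaf.IsSheaf (X := X.toTopCat) N.pre.presheaf := by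
  rw [TopCat.Presheaf.isSheaf_iff_isSheafUniqueGluing]
  intro ι U sf hsf
  let F : TopCat.Sheaf Ab X := ⟨M.presheaf, M.isSheaf⟩
  let sf' : ∀ i, ToType (F.1.obj (op (U i))) := fun i => (sf i : N.carrier (U i)).1
  have hc : TopCat.Presheaf.IsCompatible F.1 U sf' := by
    intro i j
    have := congrArg (fun z : N.carrier (U i ⊓ U j) => z.1) (hsf i j)
    exact this
  obtain ⟨s, hs, hu⟩ := F.existsUnique_gluing U sf' hc
  have hmem : s ∈ N.carrier (iSup U) := by
    apply N.local_mem
    intro x hx
    obtain ⟨i, hi⟩ := Opens.mem_iSup.1 hx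
    refine ⟨U i, le_iSup U i, hi, ?_⟩
    have := hs i
    change res M _ s = _ at this
    rw [this]
    exact (sf i : N.carrier (U i)).2
  refine ⟨(⟨s, hmem⟩ : N.carrier (iSup U)), ?_, ?_⟩
  · intro i
    apply Subtype.ext
    exact hs i
  · intro s' hs'
    apply Subtype.ext
    apply hu
    intro i
    have := congrArg (fun z : N.carrier (U i) => z.1) (hs' i)
    exact this

/-- the subsheaf of modules -/
noncomputable def obj : X.Modules := ⟨N.pre, N.isSheaf⟩

/-- the inclusion -/
noncomputable def ι : N.obj ⟶ M := ⟨N.toSubmodule.ι⟩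

lemma ι_app_val {U : X.Opens} (t : Γ(N.obj, U)) :
    N.ι.app U t = (show N.carrier U from t).1 := rfl

lemma ι_app_mem {U : X.Opens} (t : Γ(N.obj, U)) : N.ι.app U t ∈ N.carrier U :=
  (show N.carrier U from t).2

lemma ι_app_injective (U : X.Opens) : Function.Injective (N.ι.app U) := by
  intro a b h
  exact Subtype.ext (a1 := (show N.carrier U from a)) (a2 := (show N.carrier U from b)) h

instance : Mono N.ι := by
  apply Preadditive.mono_of_cancel_zero
  intro K g hg
  apply Scheme.Modules.hom_ext
  intro U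
  ext s
  apply N.ι_app_injective U
  have := congrArg (fun φ => φ.app U s) hg
  simpa using this

/-- an element of the submodule as a section of the subsheaf -/
def mkSec {U : X.Opens} (t : Γ(M, U)) (ht : t ∈ N.carrier U) : Γ(N.obj, U) :=
  (⟨t, ht⟩ : N.carrier U)

@[simp] lemma ι_app_mkSec {U : X.Opens} (t : Γ(M, U)) (ht : t ∈ N.carrier U) :
    N.ι.app U (N.mkSec t ht) = t := rfl

lemma mem_iff {U : X.Opens} (t : Γ(M, U)) :
    t ∈ N.carrier U ↔ ∃ s : Γ(N.obj, U), N.ι.app U s = t :=
  ⟨fun h => ⟨N.mkSec t h, rfl⟩, fun ⟨s, hs⟩ => hs ▸ N.ι_app_mem s⟩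

/-- if the inclusion is an isomorphism, then the family is everything -/
lemma mem_of_isIso [IsIso N.ι] {U : X.Opens} (t : Γ(M, U)) : t ∈ N.carrier U := by
  rw [N.mem_iff]
  have : IsIso (N.ι.app U) := inferInstance
  have hb := (ConcreteCategory.isIso_iff_bijective (N.ι.app U)).1 this
  exact hb.2 t

/-- a morphism with values in the family factors through the subsheaf -/
noncomputable def lift {K : X.Modules} (φ : K ⟶ M)
    (h : ∀ (U : X.Opens) (s : Γ(K, U)), φ.app U s ∈ N.carrier U) : K ⟶ N.obj :=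
  ⟨PresheafOfModules.homMk
    { app := fun U => AddCommGrpCat.ofHom
        { toFun := fun s => (⟨φ.app U.unop s, h U.unop s⟩ : N.carrier U.unop)
          map_zero' := by apply Subtype.ext; exact map_zero _
          map_add' := by intro a b; apply Subtype.ext; exact map_add _ a b }
      naturality := by
        intro U V f
        ext s
        apply Subtype.ext
        exact ConcreteCategory.congr_hom (φ.mapPresheaf.naturality f) s }
    (by
      intro U r m
      apply Subtype.ext
      exact Scheme.Modules.Hom.app_smul φ r m)⟩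

@[reassoc (attr := simp)]
lemma lift_ι {K : X.Modules} (φ : K ⟶ M)
    (h : ∀ (U : X.Opens) (s : Γ(K, U)), φ.app U s ∈ N.carrier U) : N.lift φ h ≫ N.ι = φ := by
  apply Scheme.Modules.hom_ext
  intro U
  rfl

end LocalSub

end Groth.Agent.Helper1.SubSh
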