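import Mathlib
import Groth.Agent.Lib.Helper1.SubSh
import Groth.Agent.Lib.Helper1.QcAbel
import Groth.Agent.Lib.Helper1.IdealModL

set_option autoImplicit false
universe u
open CategoryTheory CategoryTheory.Limits AlgebraicGeometry TopologicalSpace Opposite

namespace Groth.Agent.Helper1.SubSh

open Groth.Agent.Helper1.QcCech Groth.Agent.Helper1

variable {X : Scheme.{u}} {F : X.Modules}

namespace LocalSub

/-- the whole module -/
noncomputable def top (F : X.Modules) : LocalSub F where
  carrier _ := ⊤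
  res_mem _ _ _ := trivial
  local_mem _ _ := trivial

/-- intersection -/
noncomputable def inf (G H : LocalSub F) : LocalSub F where
  carrier U := G.carrier U ⊓ H.carrier U
  res_mem h _ ht := ⟨G.res_mem h ht.1, H.res_mem h ht.2⟩
  local_mem t ht := by
    refine ⟨G.local_mem t fun x hx => ?_, H.local_mem t fun x hx => ?_⟩
    · obtain ⟨W, h, hxW, hm⟩ := ht x hx
      exact ⟨W, h, hxW, hm.1⟩
    · obtain ⟨W, h, hxW, hm⟩ := ht x hx
      exact ⟨W, h, hxW, hm.2⟩

/-- canonical extension from an open `O` -/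
noncomputable def extTo (O : X.Opens) (N : LocalSub F) : LocalSub F where
  carrier W :=
    { carrier := {t | res F (inf_le_left : W ⊓ O ≤ W) t ∈ N.carrier (W ⊓ O)}
      add_mem' := by
        intro a b ha hb
        simp only [Set.mem_ofPred_eq, map_add] at ha hb ⊢
        exact (N.carrier _).add_mem ha hb
      zero_mem' := by
        simp only [Set.mem_ofPred_eq, map_zero]
        exact (N.carrier _).zero_mem
      smul_mem' := by
        intro r t ht
        simp only [Set.mem_ofPred_eq] at ht ⊢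
        rw [res_smul]
        exact (N.carrier _).smul_mem _ ht }
  res_mem := by
    intro U V h t ht
    change res F (inf_le_left : V ⊓ O ≤ V) (res F h t) ∈ N.carrier (V ⊓ O)
    rw [res_res]
    have := N.res_mem (inf_le_inf_right O h) ht
    rwa [res_res] at this
  local_mem := by
    intro U t ht
    change res F (inf_le_left : U ⊓ O ≤ U) t ∈ N.carrier (U ⊓ O)
    apply N.local_mem
    rintro x ⟨hxU, hxO⟩
    obtain ⟨W, h, hxW, hm⟩ := ht x hxU
    refine ⟨W ⊓ O, inf_le_inf_right O h, ⟨hxW, hxO⟩, ?_⟩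
    rw [res_res]
    change res F (inf_le_left : W ⊓ O ≤ W) (res F h t) ∈ N.carrier (W ⊓ O) at hm
    rwa [res_res] at hm

theorem mem_extTo_iff (O : X.Opens) (N : LocalSub F) {W : X.Opens} (t : Γ(F, W)) :
    t ∈ (extTo O N).carrier W ↔ res F (inf_le_left : W ⊓ O ≤ W) t ∈ N.carrier (W ⊓ O) := Iff.rfl

theorem mem_extTo_of_le (O : X.Opens) (N : LocalSub F) {W : X.Opens} (hW : W ≤ O) (t : Γ(F, W)) :
    t ∈ (extTo O N).carrier W ↔ t ∈ N.carrier W := by
  rw [mem_extTo_iff]
  constructor
  · intro h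
    have := N.res_mem (le_inf le_rfl hW : W ≤ W ⊓ O) h
    rwa [res_res, res_self] at this
  · intro h
    exact N.res_mem _ h

/-- the extension property on affine opens inside `O` -/
def ExtPOn (N : LocalSub F) (O : X.Opens) : Prop :=
  ∀ (B : X.Opens), IsAffineOpen B → B ≤ O → ∀ (f : Γ(X, B)) (y : Γ(F, X.basicOpen f)),
    y ∈ N.carrier (X.basicOpen f) → ∃ (n : ℕ) (t : Γ(F, B)), t ∈ N.carrier B ∧
      res F (X.basicOpen_le f) t = resR (X.basicOpen_le f) f ^ n • y

theorem ExtPOn.mono {N : LocalSub F} {O O' : X.Opens} (h : N.ExtPOn O) (hO : O' ≤ O) :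
    N.ExtPOn O' := fun B hB hBO => h B hB (hBO.trans hO)

theorem top_extPOn [F.IsQuasicoherent] : (top F).ExtPOn ⊤ := by
  intro B hB _ f y _
  obtain ⟨n, t, ht⟩ := QcAbel.extP_of_isQuasicoherent F B hB f _ rfl y
  exact ⟨n, t, trivial, ht⟩

/-- absorbing lemma on an affine open -/
theorem absorb [F.IsQuasicoherent] (N : LocalSub F) {B : X.Opens} (hB : IsAffineOpen B)
    (hN : N.ExtPOn B) (f : Γ(X, B)) (t : Γ(F, B))
    (ht : res F (X.basicOpen_le f) t ∈ N.carrier (X.basicOpen f)) :
    ∃ m : ℕ, f ^ m • t ∈ N.carrier B := by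
  obtain ⟨n, z, hz, hzt⟩ := hN B hB le_rfl f _ ht
  have h0 : res F (X.basicOpen_le f) (f ^ n • t - z) = 0 := by
    rw [map_sub, res_smul, map_pow, hzt, sub_self]
  obtain ⟨k, hk⟩ := QcAbel.killP_of_isQuasicoherent F B hB f _ rfl _ h0
  refine ⟨k + n, ?_⟩
  rw [smul_sub, sub_eq_zero] at hk
  rw [pow_add, mul_smul, hk]
  exact (N.carrier B).smul_mem _ hz

/-! ### the subsheaf generated by a set of sections over an open -/

/-- spans of the restrictions of a set `P` of sections over `V` -/
noncomputable def genPre (V : X.Opens) (P : Set Γ(F, V)) : PreSub F where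
  carrier W := Submodule.span Γ(X, W) {t | ∃ (h : W ≤ V) (p : Γ(F, V)), p ∈ P ∧ t = res F h p}
  res_mem := by
    intro U W h t ht
    induction ht using Submodule.span_induction with
    | mem x hx =>
      obtain ⟨hU, p, hp, rfl⟩ := hx
      rw [res_res]
      exact Submodule.subset_span ⟨h.trans hU, p, hp, rfl⟩
    | zero => rw [map_zero]; exact Submodule.zero_mem _
    | add x y _ _ hx hy => rw [map_add]; exact Submodule.add_mem _ hx hy
    | smul r x _ hx => rw [res_smul]; exact Submodule.smul_mem _ _ hx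

/-- the subsheaf generated by `P` (over opens inside `V`) -/
noncomputable def genOn (V : X.Opens) (P : Set Γ(F, V)) : LocalSub F := (genPre V P).loc

theorem res_mem_genPre {V : X.Opens} (P : Set Γ(F, V)) {W : X.Opens} (h : W ≤ V) {p : Γ(F, V)}
    (hp : p ∈ P) : res F h p ∈ (genPre V P).carrier W :=
  Submodule.subset_span ⟨h, p, hp, rfl⟩

theorem genPre_le_genOn {V : X.Opens} (P : Set Γ(F, V)) {W : X.Opens} {t : Γ(F, W)}
    (ht : t ∈ (genPre V P).carrier W) : t ∈ (genOn V P).carrier W :=
  (genPre V P).le_loc ht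

section Claim

variable [F.IsQuasicoherent] {V : X.Opens} (P : Set Γ(F, V))

/-- extension of functions from a basic open (the structure sheaf is quasi-coherent) -/
theorem exists_extend_fn {B : X.Opens} (hB : IsAffineOpen B) (f : Γ(X, B))
    (b : Γ(X, X.basicOpen f)) :
    ∃ (k : ℕ) (c : Γ(X, B)), resR (X.basicOpen_le f) c = resR (X.basicOpen_le f) f ^ k * b := by
  obtain ⟨k, c, hc⟩ := QcAbel.extP_of_isQuasicoherent (Coh.structureModule X) B hB f _ rfl
    (show Γ(Coh.structureModule X, X.basicOpen f) from b)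
  exact ⟨k, c, hc⟩

variable {B : X.Opens} (hB : IsAffineOpen B) (hBV : B ≤ V) (f : Γ(X, B))

/-- `z` becomes, after multiplication by a power of `f`, the restriction of an element of the
span of `P` over `B` -/
def Psi (z : Γ(F, X.basicOpen f)) : Prop :=
  ∃ (n : ℕ) (t : Γ(F, B)), t ∈ (genPre V P).carrier B ∧
    res F (X.basicOpen_le f) t = resR (X.basicOpen_le f) f ^ n • z

omit [F.IsQuasicoherent] in
theorem psi_zero : Psi P f 0 :=
  ⟨0, 0, Submodule.zero_mem _, by rw [map_zero, smul_zero]⟩

omit [F.IsQuasicoherent] in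
theorem psi_add {z₁ z₂ : Γ(F, X.basicOpen f)} (h₁ : Psi P f z₁) (h₂ : Psi P f z₂) :
    Psi P f (z₁ + z₂) := by
  obtain ⟨n₁, t₁, ht₁, e₁⟩ := h₁
  obtain ⟨n₂, t₂, ht₂, e₂⟩ := h₂
  refine ⟨n₁ + n₂, f ^ n₂ • t₁ + f ^ n₁ • t₂,
    Submodule.add_mem _ (Submodule.smul_mem _ _ ht₁) (Submodule.smul_mem _ _ ht₂), ?_⟩
  rw [map_add, res_smul, res_smul, e₁, e₂, map_pow, map_pow, smul_add, smul_smul, smul_smul,
    ← pow_add, ← pow_add, add_comm n₂ n₁]

include hB in
omit [F.IsQuasicoherent] in
theorem psi_smul (b : Γ(X, X.basicOpen f)) {z : Γ(F, X.basicOpen f)} (h : Psi P f z) :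
    Psi P f (b • z) := by
  obtain ⟨n, t, ht, e⟩ := h
  obtain ⟨k, c, hc⟩ := exists_extend_fn hB f b
  refine ⟨k + n, c • t, Submodule.smul_mem _ _ ht, ?_⟩
  rw [res_smul, e, hc, smul_smul, pow_add, smul_smul]
  congr 1
  ring

include hBV in
omit [F.IsQuasicoherent] in
theorem psi_of_mem_genPre {z : Γ(F, X.basicOpen f)} (hB : IsAffineOpen B)
    (hz : z ∈ (genPre V P).carrier (X.basicOpen f)) : Psi P f z := by
  induction hz using Submodule.span_induction with
  | mem x hx =>
    obtain ⟨h, p, hp, rfl⟩ := hx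
    refine ⟨0, res F hBV p, res_mem_genPre P hBV hp, ?_⟩
    rw [res_res, pow_zero, one_smul]
  | zero => exact psi_zero P f
  | add x y _ _ hx hy => exact psi_add P f hx hy
  | smul r x _ hx => exact psi_smul P hB f r hx

include hBV in
/-- sections of the generated subsheaf over a basic open are, up to a power of `f`, restrictions of
elements of the span -/
theorem psi_of_mem_genOn (hB : IsAffineOpen B) {y : Γ(F, X.basicOpen f)}
    (hy : y ∈ (genOn V P).carrier (X.basicOpen f)) : Psi P f y := by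
  have hBf : IsAffineOpen (X.basicOpen f) := hB.basicOpen f
  have hBfV : X.basicOpen f ≤ V := (X.basicOpen_le f).trans hBV
  let I : Ideal Γ(X, X.basicOpen f) :=
    { carrier := {a | Psi P f (a • y)}
      add_mem' := by
        intro a b ha hb
        simp only [Set.mem_ofPred_eq] at ha hb ⊢
        rw [add_smul]
        exact psi_add P f ha hb
      zero_mem' := by
        simp only [Set.mem_ofPred_eq]
        rw [zero_smul]
        exact psi_zero P f
      smul_mem' := by
        intro c a ha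
        simp only [Set.mem_ofPred_eq] at ha ⊢
        rw [smul_eq_mul, mul_smul]
        exact psi_smul P hB f c ha }
  have hI : I = ⊤ := by
    rw [← Ideal.span_eq I, ← hBf.self_le_iSup_basicOpen_iff]
    intro x hx
    obtain ⟨W', hW', hxW', hm⟩ := hy x hx
    obtain ⟨h, hhW', hxh⟩ := hBf.exists_basicOpen_le ⟨x, hxW'⟩ hx
    have hm' : res F (X.basicOpen_le h) y ∈ (genPre V P).carrier (X.basicOpen h) := by
      have := (genPre V P).res_mem hhW' hm
      rwa [res_res] at this
    obtain ⟨k, z, hz, hzy⟩ := psi_of_mem_genPre P hBfV h hBf hm'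
    have h0 : res F (X.basicOpen_le h) (h ^ k • y - z) = 0 := by
      rw [map_sub, res_smul, map_pow, hzy, sub_self]
    obtain ⟨M, hM⟩ := QcAbel.killP_of_isQuasicoherent F _ hBf h _ rfl _ h0
    rw [smul_sub, sub_eq_zero, smul_smul, ← pow_add] at hM
    have hmem : h ^ (M + k + 1) ∈ I := by
      change Psi P f (h ^ (M + k + 1) • y)
      rw [pow_succ', mul_smul, hM]
      exact psi_smul P hB f _ (psi_smul P hB f _ (psi_of_mem_genPre P hBV f hB hz))
    refine Opens.mem_iSup.2 ⟨⟨h ^ (M + k + 1), hmem⟩, ?_⟩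
    change x ∈ X.basicOpen (h ^ (M + k + 1))
    rw [Scheme.basicOpen_pow X h (Nat.succ_pos _)]
    exact hxh
  have h1 : (1 : Γ(X, X.basicOpen f)) ∈ I := by rw [hI]; trivial
  have h2 : Psi P f ((1 : Γ(X, X.basicOpen f)) • y) := h1
  rwa [one_smul] at h2

/-- **the subsheaf generated by sections over `V` satisfies the extension property on affine opens
inside `V`** -/
theorem genOn_extPOn : (genOn V P).ExtPOn V := by
  intro B hB hBV f y hy
  obtain ⟨n, t, ht, e⟩ := psi_of_mem_genOn P hBV f hB hy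
  exact ⟨n, t, genPre_le_genOn P ht, e⟩

end Claim

end LocalSub

end Groth.Agent.Helper1.SubSh
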