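import Mathlib
import Groth.Agent.Lib.Helper1.SubExt1

set_option autoImplicit false
universe u
open CategoryTheory CategoryTheory.Limits AlgebraicGeometry TopologicalSpace Opposite

namespace Groth.Agent.Helper1.SubSh

open Groth.Agent.Helper1.QcCech Groth.Agent.Helper1

variable {X : Scheme.{u}} {F : X.Modules}

namespace LocalSub

/-- the extension property holds locally on `O` -/
def IsQcOn (N : LocalSub F) (O : X.Opens) : Prop :=
  ∀ x ∈ O, ∃ O' : X.Opens, x ∈ O' ∧ O' ≤ O ∧ N.ExtPOn O'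

theorem ExtPOn.isQcOn {N : LocalSub F} {O : X.Opens} (h : N.ExtPOn O) : N.IsQcOn O :=
  fun _ hx => ⟨O, hx, le_rfl, h⟩

theorem ExtPOn.congr {N N' : LocalSub F} {O : X.Opens} (h : N.ExtPOn O)
    (hc : ∀ W ≤ O, N'.carrier W = N.carrier W) : N'.ExtPOn O := by
  intro B hB hBO f y hy
  rw [hc _ ((X.basicOpen_le f).trans hBO)] at hy
  obtain ⟨n, t, ht, e⟩ := h B hB hBO f y hy
  exact ⟨n, t, by rw [hc _ hBO]; exact ht, e⟩

/-- absorbing lemma on a quasi-compact open inside `O` -/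
theorem absorb_of_isCompact [F.IsQuasicoherent] (N : LocalSub F) {O A W : X.Opens}
    (hN : N.IsQcOn O) (hWO : W ≤ O) (hWA : W ≤ A) (hW : IsCompact (W : Set X))
    (f : Γ(X, A)) (t : Γ(F, A))
    (ht : res F (inf_le_inf_right (X.basicOpen f) hWA : W ⊓ X.basicOpen f ≤ A ⊓ X.basicOpen f)
      (res F (inf_le_right : A ⊓ X.basicOpen f ≤ X.basicOpen f)
        (res F (X.basicOpen_le f) t)) ∈ N.carrier (W ⊓ X.basicOpen f)) :
    ∃ m : ℕ, res F hWA (f ^ m • t) ∈ N.carrier W := by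
  classical
  -- affine opens inside `W`
  have hcov : ∀ x : W, ∃ B : X.Opens, IsAffineOpen B ∧ x.1 ∈ B ∧ B ≤ W ∧ N.ExtPOn B := by
    rintro ⟨x, hx⟩
    obtain ⟨O', hxO', hO'O, hO'⟩ := hN x (hWO hx)
    obtain ⟨_, ⟨B, hB, rfl⟩, hxB, hBW⟩ :=
      X.isBasis_affineOpens.exists_subset_of_mem_open (show x ∈ ((W ⊓ O' : X.Opens) : Set X)
        from ⟨hx, hxO'⟩) (W ⊓ O').isOpen
    exact ⟨B, hB, hxB, fun y hy => (hBW hy).1, hO'.mono fun y hy => (hBW hy).2⟩
  choose B hB hxB hBW hBN using hcov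
  obtain ⟨s, hs⟩ := hW.elim_finite_subcover (fun x : W => (B x : Set X)) (fun x => (B x).isOpen)
    (fun x hx => Set.mem_iUnion.2 ⟨⟨x, hx⟩, hxB ⟨x, hx⟩⟩)
  -- absorb on each member
  have habs : ∀ x : W, ∃ m : ℕ, res F ((hBW x).trans hWA) (f ^ m • t) ∈ N.carrier (B x) := by
    intro x
    have hBA : B x ≤ A := (hBW x).trans hWA
    have e : X.basicOpen (resR hBA f) = B x ⊓ X.basicOpen f := by
      rw [resR]
      erw [Scheme.basicOpen_res]
    have h1 : res F (X.basicOpen_le (resR hBA f)) (res F hBA t) ∈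
        N.carrier (X.basicOpen (resR hBA f)) := by
      have := N.res_mem (e.le.trans (inf_le_inf_right (X.basicOpen f) (hBW x)) :
        X.basicOpen (resR hBA f) ≤ W ⊓ X.basicOpen f) ht
      rw [res_res, res_res, res_res] at this
      rw [res_res]
      exact this
    obtain ⟨m, hm⟩ := absorb N (hB x) (hBN x) (resR hBA f) (res F hBA t) h1
    refine ⟨m, ?_⟩
    rw [res_smul, map_pow]
    exact hm
  choose m hm using habs
  refine ⟨s.sup m, ?_⟩
  apply N.local_mem
  intro x hx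
  obtain ⟨y, hys, hxy⟩ : ∃ y ∈ s, x ∈ B y := by
    have := hs hx
    simpa using this
  refine ⟨B y, hBW y, hxy, ?_⟩
  rw [res_res]
  have hle : m y ≤ s.sup m := Finset.le_sup hys
  obtain ⟨d, hd⟩ := Nat.exists_eq_add_of_le hle
  rw [hd, add_comm, pow_add, mul_smul, res_smul]
  exact (N.carrier _).smul_mem _ (hm y)

/-- **canonical extensions preserve the extension property** -/
theorem inf_extTo_extPOn [F.IsQuasicoherent] (H N : LocalSub F) {O V : X.Opens}
    (hO : ∀ A : X.Opens, IsAffineOpen A → A ≤ V → IsCompact ((A ⊓ O : X.Opens) : Set X))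
    (hH : H.ExtPOn V) (hN : N.IsQcOn O) : (H.inf (extTo O N)).ExtPOn V := by
  intro A hA hAV f y hy
  obtain ⟨hyH, hyN⟩ := hy
  obtain ⟨n, t, htH, hty⟩ := hH A hA hAV f y hyH
  have hyN' : res F (inf_le_left : X.basicOpen f ⊓ O ≤ X.basicOpen f) y ∈
      N.carrier (X.basicOpen f ⊓ O) := hyN
  have hle : (A ⊓ O) ⊓ X.basicOpen f ≤ X.basicOpen f ⊓ O :=
    le_inf inf_le_right (inf_le_left.trans inf_le_right)
  obtain ⟨m, hm⟩ := absorb_of_isCompact N (O := O) (A := A) (W := A ⊓ O) hN inf_le_right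
    inf_le_left (hO A hA hAV) f t (by
      rw [res_res, res_res, ← res_res F (X.basicOpen_le f) (hle.trans inf_le_left), hty, res_smul]
      refine (N.carrier _).smul_mem _ ?_
      have := N.res_mem hle hyN'
      rwa [res_res] at this)
  refine ⟨m + n, f ^ m • t, ⟨(H.carrier A).smul_mem _ htH, hm⟩, ?_⟩
  rw [res_smul, hty, smul_smul, map_pow, ← pow_add]

end LocalSub

end Groth.Agent.Helper1.SubSh
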