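import Mathlib
import Groth.Agent.Lib.Helper1.SubExt2
import Groth.Agent.Lib.Helper1.PushQc

set_option autoImplicit false
universe u
open CategoryTheory CategoryTheory.Limits AlgebraicGeometry TopologicalSpace Opposite

namespace Groth.Agent.Helper1.SubSh

open Groth.Agent.Helper1.QcCech Groth.Agent.Helper1

variable {X : Scheme.{u}} {F : X.Modules}

theorem mem_of_isUnit_pow_smul {R M : Type*} [CommRing R] [AddCommGroup M] [Module R M]
    (N : Submodule R M) {u : R} (hu : IsUnit u) (n : ℕ) {x : M} (h : u ^ n • x ∈ N) : x ∈ N := by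
  obtain ⟨v, rfl⟩ := hu
  have := N.smul_mem ((↑(v⁻¹ ^ n) : R)) h
  rwa [smul_smul, ← Units.val_pow_eq_pow_val, ← Units.val_mul, ← mul_pow, inv_mul_cancel, one_pow,
    Units.val_one, one_smul] at this

namespace LocalSub

/-- a good affine open for a subsheaf: the extension property holds on it and the sections over it
are finitely generated -/
structure Good (N : LocalSub F) (B : X.Opens) : Prop where
  affine : IsAffineOpen B
  ext : N.ExtPOn B
  fg : (N.carrier B).FG

/-- quasi-coherent of finite type on `O`, in terms of good affine opens -/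
def IsQcFtOn (N : LocalSub F) (O : X.Opens) : Prop :=
  ∀ x ∈ O, ∃ B : X.Opens, x ∈ B ∧ B ≤ O ∧ N.Good B

theorem IsQcFtOn.isQcOn {N : LocalSub F} {O : X.Opens} (h : N.IsQcFtOn O) : N.IsQcOn O := by
  intro x hx
  obtain ⟨B, hxB, hBO, hB⟩ := h x hx
  exact ⟨B, hxB, hBO, hB.ext⟩

theorem Good.congr {N N' : LocalSub F} {B : X.Opens} (h : N.Good B)
    (hc : ∀ W ≤ B, N'.carrier W = N.carrier W) : N'.Good B :=
  ⟨h.affine, h.ext.congr hc, by rw [hc B le_rfl]; exact h.fg⟩

theorem Good.of_eq {N : LocalSub F} {B B' : X.Opens} (h : N.Good B) (e : B = B') : N.Good B' :=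
  e ▸ h

/-- a basic open of a good affine open is good -/
theorem Good.basicOpen {N : LocalSub F} {B : X.Opens} (h : N.Good B) (f : Γ(X, B)) :
    N.Good (X.basicOpen f) := by
  classical
  refine ⟨h.affine.basicOpen f, h.ext.mono (X.basicOpen_le f), ?_⟩
  obtain ⟨S, hS⟩ := h.fg
  refine ⟨S.image (res F (X.basicOpen_le f)), ?_⟩
  apply le_antisymm
  · rw [Submodule.span_le]
    intro y hy
    rw [Finset.coe_image] at hy
    obtain ⟨s, hs, rfl⟩ := hy
    apply N.res_mem
    rw [← hS]
    exact Submodule.subset_span hs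
  · intro y hy
    obtain ⟨n, t, ht, e⟩ := h.ext B h.affine le_rfl f y hy
    have hu : IsUnit (resR (X.basicOpen_le f) f) := X.toRingedSpace.isUnit_res_basicOpen f
    refine mem_of_isUnit_pow_smul _ hu n ?_
    rw [← e]
    rw [← hS] at ht
    clear e
    induction ht using Submodule.span_induction with
    | mem s hs =>
      apply Submodule.subset_span
      rw [Finset.coe_image]
      exact ⟨s, hs, rfl⟩
    | zero => rw [map_zero]; exact Submodule.zero_mem _
    | add a b _ _ ha hb => rw [map_add]; exact Submodule.add_mem _ ha hb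
    | smul r a _ ha => rw [res_smul]; exact Submodule.smul_mem _ _ ha

/-- the generated subsheaf is contained in any subsheaf containing the generators -/
theorem genOn_le {V : X.Opens} (P : Set Γ(F, V)) (N : LocalSub F) (hP : ∀ p ∈ P, p ∈ N.carrier V)
    (W : X.Opens) : (genOn V P).carrier W ≤ N.carrier W := by
  intro t ht
  apply N.local_mem
  intro x hx
  obtain ⟨W', h, hxW', hm⟩ := ht x hx
  refine ⟨W', h, hxW', ?_⟩
  generalize res F h t = z at hm
  induction hm using Submodule.span_induction with
  | mem y hy =>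
    obtain ⟨hV, p, hp, rfl⟩ := hy
    exact N.res_mem hV (hP p hp)
  | zero => exact Submodule.zero_mem _
  | add a b _ _ ha hb => exact Submodule.add_mem _ ha hb
  | smul r a _ ha => exact Submodule.smul_mem _ _ ha

/-- over an affine open inside `V`, the generated subsheaf is the span of the generators -/
theorem genOn_carrier_of_isAffineOpen [F.IsQuasicoherent] {V : X.Opens} (P : Set Γ(F, V))
    {B : X.Opens} (hB : IsAffineOpen B) (hBV : B ≤ V) :
    (genOn V P).carrier B = (genPre V P).carrier B := by
  apply le_antisymm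
  · intro y hy
    have e1 : X.basicOpen (1 : Γ(X, B)) = B := by
      apply le_antisymm (X.basicOpen_le _)
      rw [Scheme.basicOpen_of_isUnit X isUnit_one]
    have hy' := (genOn V P).res_mem (X.basicOpen_le (1 : Γ(X, B))) hy
    obtain ⟨n, t, ht, e⟩ := psi_of_mem_genOn P hBV (1 : Γ(X, B)) hB hy'
    rw [map_one, one_pow, one_smul] at e
    have := PushQc.res_injective_of_eq (F := F) e1 e
    rw [← this]
    exact ht
  · intro y hy
    exact genPre_le_genOn P hy

theorem genOn_fg [F.IsQuasicoherent] {V : X.Opens} (hV : IsAffineOpen V) (P : Set Γ(F, V))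
    (hP : P.Finite) : ((genOn V P).carrier V).FG := by
  rw [genOn_carrier_of_isAffineOpen P hV le_rfl]
  have : {t | ∃ (h : V ≤ V) (p : Γ(F, V)), p ∈ P ∧ t = res F h p} = P := by
    ext t
    constructor
    · rintro ⟨h, p, hp, rfl⟩
      rwa [res_self]
    · intro ht
      exact ⟨le_rfl, t, ht, (res_self F _ t).symm⟩
  change (Submodule.span Γ(X, V) _).FG
  rw [this]
  exact Submodule.fg_span hP

end LocalSub

end Groth.Agent.Helper1.SubSh
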