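import Mathlib
import Groth.Agent.Lib.Helper1.SubExt3

set_option autoImplicit false
universe u
open CategoryTheory CategoryTheory.Limits AlgebraicGeometry TopologicalSpace Opposite

namespace Groth.Agent.Helper1.SubSh

open Groth.Agent.Helper1.QcCech Groth.Agent.Helper1

variable {X : Scheme.{u}} {F : X.Modules}

namespace LocalSub

/-- lifting a section of `G` over a basic open `V_f ≤ O` to a section over `V` lying in the
canonical extension, up to a power of `f` -/
theorem exists_lift_section [F.IsQuasicoherent] (G : LocalSub F) {O V : X.Opens}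
    (hV : IsAffineOpen V) (hc : IsCompact ((O ⊓ V : X.Opens) : Set X)) (hG : G.IsQcOn O)
    (f : Γ(X, V)) (σ : Γ(F, X.basicOpen f))
    (hσ : σ ∈ G.carrier (X.basicOpen f)) :
    ∃ (p : Γ(F, V)) (N : ℕ), p ∈ (extTo O G).carrier V ∧
      res F (X.basicOpen_le f) p = resR (X.basicOpen_le f) f ^ N • σ := by
  obtain ⟨n, t, ht⟩ := QcAbel.extP_of_isQuasicoherent F V hV f _ rfl σ
  obtain ⟨m, hm⟩ := absorb_of_isCompact G (O := O) (A := V) (W := O ⊓ V) hG inf_le_left
    inf_le_right hc f t (by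
      rw [res_res, res_res, ← res_res F (X.basicOpen_le f)
        (inf_le_right : (O ⊓ V) ⊓ X.basicOpen f ≤ X.basicOpen f), ht, res_smul]
      exact (G.carrier _).smul_mem _ (G.res_mem _ hσ))
  refine ⟨f ^ m • t, m + n, ?_, ?_⟩
  · rw [mem_extTo_iff]
    have := G.res_mem (le_inf inf_le_right inf_le_left : V ⊓ O ≤ O ⊓ V) hm
    rwa [res_res] at this
  · rw [res_smul, ht, smul_smul, map_pow, ← pow_add]

/-- **the extension step**: a subsheaf which is quasi-coherent of finite type on `O` can be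
modified outside `O` so as to be quasi-coherent of finite type on `O ⊔ V`, for `V` affine with
`O ⊓ V` quasi-compact -/
theorem step [F.IsQuasicoherent] (G : LocalSub F) (O V : X.Opens) (hV : IsAffineOpen V)
    (hc : IsCompact ((O ⊓ V : X.Opens) : Set X)) (hG : G.IsQcFtOn O) :
    ∃ G' : LocalSub F, G'.IsQcFtOn (O ⊔ V) ∧ ∀ W ≤ O, G'.carrier W = G.carrier W := by
  classical
  -- good basic opens of `V` covering `O ⊓ V`
  have h1 : ∀ x : (O ⊓ V : X.Opens), ∃ f : Γ(X, V), x.1 ∈ X.basicOpen f ∧ X.basicOpen f ≤ O ∧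
      G.Good (X.basicOpen f) := by
    rintro ⟨x, hxO, hxV⟩
    obtain ⟨B, hxB, hBO, hB⟩ := hG x hxO
    obtain ⟨g, f, hgf, hxg⟩ := exists_basicOpen_le_affine_inter hB.affine hV x ⟨hxB, hxV⟩
    refine ⟨f, hgf ▸ hxg, hgf ▸ ((X.basicOpen_le g).trans hBO), (hB.basicOpen g).of_eq hgf⟩
  choose f hxf hfO hfG using h1
  obtain ⟨s, hs⟩ := hc.elim_finite_subcover (fun x : (O ⊓ V : X.Opens) => (X.basicOpen (f x) : Set X))
    (fun x => (X.basicOpen (f x)).isOpen)
    (fun x hx => Set.mem_iUnion.2 ⟨⟨x, hx⟩, hxf ⟨x, hx⟩⟩)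
  -- finite generating sets
  have h2 : ∀ x : (O ⊓ V : X.Opens), ∃ S : Finset Γ(F, X.basicOpen (f x)),
      Submodule.span Γ(X, X.basicOpen (f x)) (S : Set Γ(F, X.basicOpen (f x))) =
        G.carrier (X.basicOpen (f x)) := fun x => (hfG x).fg
  choose S hS using h2
  -- lifts of the generators
  have h3 : ∀ (x : (O ⊓ V : X.Opens)) (σ : Γ(F, X.basicOpen (f x))), ∃ (p : Γ(F, V)) (N : ℕ),
      σ ∈ G.carrier (X.basicOpen (f x)) → (p ∈ (extTo O G).carrier V ∧
        res F (X.basicOpen_le (f x)) p = resR (X.basicOpen_le (f x)) (f x) ^ N • σ) := by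
    intro x σ
    by_cases hσ : σ ∈ G.carrier (X.basicOpen (f x))
    · obtain ⟨p, N, hp⟩ := exists_lift_section G hV hc hG.isQcOn (f x) σ hσ
      exact ⟨p, N, fun _ => hp⟩
    · exact ⟨0, 0, fun h => absurd h hσ⟩
  choose p N hp using h3
  let P : Set Γ(F, V) := ⋃ x ∈ s, (p x) '' (S x : Set Γ(F, X.basicOpen (f x)))
  have hPfin : P.Finite := by
    apply Set.Finite.biUnion s.finite_toSet
    intro x _
    exact (S x).finite_toSet.image _
  have hPmem : ∀ q ∈ P, q ∈ (extTo O G).carrier V := by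
    intro q hq
    simp only [P, Set.mem_iUnion, Set.mem_image] at hq
    obtain ⟨x, _, σ, hσ, rfl⟩ := hq
    have hσG : σ ∈ G.carrier (X.basicOpen (f x)) := by
      rw [← hS x]
      exact Submodule.subset_span hσ
    exact (hp x σ hσG).1
  -- on `O ⊓ V`, `G` is contained in the subsheaf generated by `P`
  have h4 : ∀ x ∈ s, G.carrier (X.basicOpen (f x)) ≤ (genPre V P).carrier (X.basicOpen (f x)) := by
    intro x hx
    rw [← hS x, Submodule.span_le]
    intro σ hσ
    have hσG : σ ∈ G.carrier (X.basicOpen (f x)) := by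
      rw [← hS x]
      exact Submodule.subset_span hσ
    have hu : IsUnit (resR (X.basicOpen_le (f x)) (f x)) :=
      X.toRingedSpace.isUnit_res_basicOpen (f x)
    refine mem_of_isUnit_pow_smul _ hu (N x σ) ?_
    rw [← (hp x σ hσG).2]
    apply res_mem_genPre
    simp only [P, Set.mem_iUnion, Set.mem_image]
    exact ⟨x, hx, σ, hσ, rfl⟩
  have h5 : ∀ W : X.Opens, W ≤ O ⊓ V → G.carrier W ≤ (genOn V P).carrier W := by
    intro W hW t ht y hy
    obtain ⟨x, hxs, hyx⟩ : ∃ x ∈ s, y ∈ X.basicOpen (f x) := by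
      have := hs (hW hy)
      simpa using this
    have hD : IsAffineOpen (X.basicOpen (f x)) := (hfG x).affine
    obtain ⟨h, hhW, hyh⟩ := hD.exists_basicOpen_le (V := W ⊓ X.basicOpen (f x))
      ⟨y, ⟨hy, hyx⟩⟩ hyx
    refine ⟨X.basicOpen h, hhW.trans inf_le_left, hyh, ?_⟩
    have ht' : res F (hhW.trans inf_le_left) t ∈ G.carrier (X.basicOpen h) := G.res_mem _ ht
    obtain ⟨n, z, hz, hzt⟩ := (hfG x).ext _ hD le_rfl h _ ht'
    have hu : IsUnit (resR (X.basicOpen_le h) h) := X.toRingedSpace.isUnit_res_basicOpen h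
    refine mem_of_isUnit_pow_smul _ hu n ?_
    rw [← hzt]
    exact (genPre V P).res_mem _ (h4 x hxs hz)
  -- agreement on `O`
  have hO' : ∀ W ≤ O, ((extTo O G).inf (extTo V (genOn V P))).carrier W = G.carrier W := by
    intro W hW
    ext t
    change (t ∈ (extTo O G).carrier W ∧ t ∈ (extTo V (genOn V P)).carrier W) ↔ _
    rw [mem_extTo_of_le O _ hW]
    refine ⟨fun h => h.1, fun h => ⟨h, ?_⟩⟩
    rw [mem_extTo_iff]
    exact h5 _ (inf_le_inf_right V hW) (G.res_mem _ h)
  refine ⟨(extTo O G).inf (extTo V (genOn V P)), ?_, ?_⟩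
  · -- agreement on `V`
    have hV' : ∀ W ≤ V, ((extTo O G).inf (extTo V (genOn V P))).carrier W =
        (genOn V P).carrier W := by
      intro W hW
      ext t
      change (t ∈ (extTo O G).carrier W ∧ t ∈ (extTo V (genOn V P)).carrier W) ↔ _
      rw [mem_extTo_of_le V _ hW]
      exact ⟨fun h => h.2, fun h => ⟨genOn_le P (extTo O G) hPmem W h, h⟩⟩
    have hgV : ((extTo O G).inf (extTo V (genOn V P))).Good V :=
      Good.congr (N := genOn V P) ⟨hV, genOn_extPOn P, genOn_fg hV P hPfin⟩ hV'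
    rintro x (hx | hx)
    · obtain ⟨B, hxB, hBO, hB⟩ := hG x hx
      exact ⟨B, hxB, hBO.trans le_sup_left, hB.congr fun W hW => hO' W (hW.trans hBO)⟩
    · exact ⟨V, hx, le_sup_right, hgV⟩
  · exact hO'

end LocalSub

end Groth.Agent.Helper1.SubSh
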