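import Mathlib
import Groth.Agent.Lib.Helper1.SubExt4

set_option autoImplicit false
universe u
open CategoryTheory CategoryTheory.Limits AlgebraicGeometry TopologicalSpace Opposite

namespace Groth.Agent.Helper1.SubSh

open Groth.Agent.Helper1.QcCech Groth.Agent.Helper1

variable {X : Scheme.{u}} {F : X.Modules}

namespace LocalSub

/-- infimum of a family -/
noncomputable def iInf {ι : Sort*} (G : ι → LocalSub F) : LocalSub F where
  carrier W := ⨅ i, (G i).carrier W
  res_mem h t ht := by
    rw [Submodule.mem_iInf] at ht ⊢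
    exact fun i => (G i).res_mem h (ht i)
  local_mem t ht := by
    rw [Submodule.mem_iInf]
    intro i
    apply (G i).local_mem
    intro x hx
    obtain ⟨W, h, hxW, hm⟩ := ht x hx
    exact ⟨W, h, hxW, (Submodule.mem_iInf _).1 hm i⟩

/-- gluing of subsheaves `g i` given on opens `T i` -/
noncomputable def glue {ι : Sort*} (T : ι → X.Opens) (g : ι → LocalSub F) : LocalSub F :=
  iInf fun i => extTo (T i) (g i)

theorem glue_carrier {ι : Sort*} (T : ι → X.Opens) (g : ι → LocalSub F)
    (h : ∀ i i', ∀ W ≤ T i ⊓ T i', (g i).carrier W = (g i').carrier W) (i : ι) (W : X.Opens)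
    (hW : W ≤ T i) : (glue T g).carrier W = (g i).carrier W := by
  ext t
  change t ∈ ⨅ i, (extTo (T i) (g i)).carrier W ↔ _
  rw [Submodule.mem_iInf]
  constructor
  · intro ht
    exact (mem_extTo_of_le (T i) (g i) hW t).1 (ht i)
  · intro ht i'
    rw [mem_extTo_iff, ← h i i' _ (le_inf (inf_le_left.trans hW) inf_le_right)]
    exact (g i).res_mem _ ht

section Transfinite

variable {L : Type*} [LinearOrder L] [WellFoundedLT L]
  (V : L → X.Opens) (U : X.Opens) (G₀ : LocalSub F)

/-- the union of `U` and the `V m`, `m ≤ l` -/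
def upTo (l : L) : X.Opens := U ⊔ ⨆ m : {m // m ≤ l}, V m.1

/-- the union of `U` and the `V m`, `m < l` -/
def below (l : L) : X.Opens := U ⊔ ⨆ m : {m // m < l}, V m.1

omit [WellFoundedLT L] in
theorem below_sup (l : L) : below V U l ⊔ V l = upTo V U l := by
  apply le_antisymm
  · refine sup_le (sup_le le_sup_left ?_) ?_
    · refine le_sup_of_le_right (iSup_le fun m => ?_)
      exact le_iSup (fun m : {m // m ≤ l} => V m.1) ⟨m.1, m.2.le⟩
    · exact le_sup_of_le_right (le_iSup (fun m : {m // m ≤ l} => V m.1) ⟨l, le_rfl⟩)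
  · refine sup_le (le_sup_of_le_left le_sup_left) (iSup_le fun m => ?_)
    rcases m.2.lt_or_eq with h | h
    · exact le_sup_of_le_left (le_sup_of_le_right
        (le_iSup (fun m : {m // m < l} => V m.1) ⟨m.1, h⟩))
    · rw [h]
      exact le_sup_right

omit [WellFoundedLT L] in
theorem upTo_le_below {m l : L} (h : m < l) : upTo V U m ≤ below V U l := by
  refine sup_le le_sup_left (iSup_le fun k => ?_)
  exact le_sup_of_le_right (le_iSup (fun m : {m // m < l} => V m.1) ⟨k.1, k.2.trans_lt h⟩)

omit [WellFoundedLT L] in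
theorem upTo_mono {m l : L} (h : m ≤ l) : upTo V U m ≤ upTo V U l := by
  refine sup_le le_sup_left (iSup_le fun k => ?_)
  exact le_sup_of_le_right (le_iSup (fun m : {m // m ≤ l} => V m.1) ⟨k.1, k.2.trans h⟩)

/-- a choice of step -/
noncomputable def stepFn (O V : X.Opens) (G : LocalSub F) : LocalSub F :=
  open Classical in
  if h : ∃ G' : LocalSub F, G'.IsQcFtOn (O ⊔ V) ∧ ∀ W ≤ O, G'.carrier W = G.carrier W then
    h.choose else G

/-- the opens of the family to be glued -/
def optT (p : L → Prop) : Option {m // p m} → X.Opens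
  | none => U
  | some m => upTo V U m.1

/-- the subsheaves of the family to be glued -/
def optG (p : L → Prop) (g : ∀ m, p m → LocalSub F) : Option {m // p m} → LocalSub F
  | none => G₀
  | some m => g m.1 m.2

/-- the transfinite family of extensions -/
noncomputable def fam : L → LocalSub F :=
  WellFounded.fix wellFounded_lt fun l g =>
    stepFn (below V U l) (V l) (glue (optT V U (· < l)) (optG G₀ (· < l) g))

theorem fam_eq (l : L) : fam V U G₀ l =
    stepFn (below V U l) (V l)
      (glue (optT V U (· < l)) (optG G₀ (· < l) fun m _ => fam V U G₀ m)) :=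
  WellFounded.fix_eq _ _ _

/-- the invariant of the induction -/
structure Inv (l : L) : Prop where
  ft : (fam V U G₀ l).IsQcFtOn (upTo V U l)
  base : ∀ W ≤ U, (fam V U G₀ l).carrier W = G₀.carrier W
  compat : ∀ m < l, ∀ W ≤ upTo V U m, (fam V U G₀ l).carrier W = (fam V U G₀ m).carrier W

theorem compat_of_inv (p : L → Prop) (hinv : ∀ m, p m → Inv V U G₀ m) :
    ∀ i i', ∀ W ≤ optT V U p i ⊓ optT V U p i',
      (optG G₀ p (fun m _ => fam V U G₀ m) i).carrier W =
        (optG G₀ p (fun m _ => fam V U G₀ m) i').carrier W := by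
  rintro (_ | ⟨m, hm⟩) (_ | ⟨m', hm'⟩) W hW
  · rfl
  · exact ((hinv m' hm').base W (hW.trans inf_le_left)).symm
  · exact (hinv m hm).base W (hW.trans inf_le_right)
  · change (fam V U G₀ m).carrier W = (fam V U G₀ m').carrier W
    rcases lt_trichotomy m m' with h | h | h
    · exact ((hinv m' hm').compat m h W (hW.trans inf_le_left)).symm
    · rw [h]
    · exact (hinv m hm).compat m' h W (hW.trans inf_le_right)

variable [F.IsQuasicoherent]

theorem inv (hV : ∀ l, IsAffineOpen (V l))
    (hUV : ∀ l, IsCompact ((U ⊓ V l : X.Opens) : Set X))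
    (hW : ∀ l, IsCompact (((⨆ m : {m // m < l}, V m.1) ⊓ V l : X.Opens) : Set X))
    (h0 : G₀.IsQcFtOn U) : ∀ l, Inv V U G₀ l := by
  intro l
  induction l using WellFoundedLT.induction with
  | ind l ih =>
    set Gp := glue (optT V U (· < l)) (optG G₀ (· < l) fun m _ => fam V U G₀ m) with hGp
    have hcompat := compat_of_inv V U G₀ (· < l) ih
    have hbase : ∀ W ≤ U, Gp.carrier W = G₀.carrier W := fun W hW =>
      glue_carrier _ _ hcompat none W hW
    have hcomp : ∀ m (hm : m < l), ∀ W ≤ upTo V U m, Gp.carrier W = (fam V U G₀ m).carrier W :=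
      fun m hm W hW => glue_carrier _ _ hcompat (some ⟨m, hm⟩) W hW
    have hft : Gp.IsQcFtOn (below V U l) := by
      rintro x (hx | hx)
      · obtain ⟨B, hxB, hBU, hB⟩ := h0 x hx
        exact ⟨B, hxB, hBU.trans le_sup_left, hB.congr fun W hW => hbase W (hW.trans hBU)⟩
      · obtain ⟨⟨m, hm⟩, hxm⟩ := Opens.mem_iSup.1 hx
        have hxm' : x ∈ upTo V U m :=
          Or.inr (Opens.mem_iSup.2 ⟨⟨m, le_rfl⟩, hxm⟩)
        obtain ⟨B, hxB, hBm, hB⟩ := (ih m hm).ft x hxm'
        exact ⟨B, hxB, hBm.trans (upTo_le_below V U hm),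
          hB.congr fun W hW => hcomp m hm W (hW.trans hBm)⟩
    have hc : IsCompact ((below V U l ⊓ V l : X.Opens) : Set X) := by
      have : below V U l ⊓ V l = (U ⊓ V l) ⊔ ((⨆ m : {m // m < l}, V m.1) ⊓ V l) := by
        rw [below, inf_sup_right]
      rw [this, Opens.coe_sup]
      exact (hUV l).union (hW l)
    have hex := step Gp (below V U l) (V l) (hV l) hc hft
    have hfam : fam V U G₀ l = hex.choose := by
      rw [fam_eq, stepFn, dif_pos hex]
    obtain ⟨h1, h2⟩ := hex.choose_spec
    rw [← hfam] at h1 h2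
    refine ⟨?_, ?_, ?_⟩
    · rwa [below_sup] at h1
    · intro W hW
      rw [h2 W (hW.trans le_sup_left), hbase W hW]
    · intro m hm W hW
      rw [h2 W (hW.trans (upTo_le_below V U hm)), hcomp m hm W hW]

/-- **extension of quasi-coherent subsheaves of finite type**, in terms of families of
submodules -/
theorem exists_extension (hV : ∀ l, IsAffineOpen (V l)) (hcov : ⨆ l, V l = ⊤)
    (hUV : ∀ l, IsCompact ((U ⊓ V l : X.Opens) : Set X))
    (hW : ∀ l, IsCompact (((⨆ m : {m // m < l}, V m.1) ⊓ V l : X.Opens) : Set X))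
    (h0 : G₀.IsQcFtOn U) :
    ∃ G' : LocalSub F, G'.IsQcFtOn ⊤ ∧ ∀ W ≤ U, G'.carrier W = G₀.carrier W := by
  have hinv := inv V U G₀ hV hUV hW h0
  have hcompat := compat_of_inv V U G₀ (fun _ => True) (fun m _ => hinv m)
  refine ⟨glue (optT V U fun _ => True) (optG G₀ (fun _ => True) fun m _ => fam V U G₀ m), ?_, ?_⟩
  · intro x _
    have hx : x ∈ ⨆ l, V l := by rw [hcov]; trivial
    obtain ⟨l, hxl⟩ := Opens.mem_iSup.1 hx
    have hxl' : x ∈ upTo V U l := Or.inr (Opens.mem_iSup.2 ⟨⟨l, le_rfl⟩, hxl⟩)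
    obtain ⟨B, hxB, hBl, hB⟩ := (hinv l).ft x hxl'
    exact ⟨B, hxB, le_top, hB.congr fun W hW =>
      glue_carrier _ _ hcompat (some ⟨l, trivial⟩) W (hW.trans hBl)⟩
  · intro W hW
    exact glue_carrier _ _ hcompat none W hW

end Transfinite

end LocalSub

end Groth.Agent.Helper1.SubSh
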