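import Mathlib
import Groth.Agent.Lib.Helper1.SubExt5
import Groth.Agent.Lib.Helper1.FinPush

set_option autoImplicit false
universe u
open CategoryTheory CategoryTheory.Limits AlgebraicGeometry TopologicalSpace Opposite

namespace Groth.Agent.Helper1.SubSh

open Groth.Agent.Helper1.QcCech Groth.Agent.Helper1 Groth.Agent.Helper1.TildeQC PrimeSpectrum

variable {X : Scheme.{u}} {F : X.Modules}

/-- criterion for quasi-coherence, over a covering family of affine opens -/
theorem isQuasicoherent_of_kill_ext_cover (G : X.Modules) (S : Set X.Opens)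
    (hS : ∀ V ∈ S, IsAffineOpen V) (hcov : ∀ x : X, ∃ V ∈ S, x ∈ V)
    (hk : ∀ V ∈ S, ∀ (f : Γ(X, V)) (O : X.Opens) (hO : O = X.basicOpen f)
      (t : Γ(G, V)), res G (hO.le.trans (X.basicOpen_le f)) t = 0 → ∃ n : ℕ, f ^ n • t = 0)
    (he : ∀ V ∈ S, ∀ (f : Γ(X, V)) (O : X.Opens) (hO : O = X.basicOpen f)
      (y : Γ(G, O)), ∃ (n : ℕ) (t : Γ(G, V)), res G (hO.le.trans (X.basicOpen_le f)) t =
        (resR (hO.le.trans (X.basicOpen_le f)) f) ^ n • y) :
    G.IsQuasicoherent := by
  refine QCohLib.isQuasicoherent_of_affine_charts _ (I := S)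
    (fun V => Γ(X, V.1)) (fun V => (hS V.1 V.2).fromSpec) ?_ ?_
  · apply le_antisymm le_top
    intro y _
    obtain ⟨W, hW, hyW⟩ := hcov y
    refine Opens.mem_iSup.2 ⟨⟨W, hW⟩, ?_⟩
    rw [IsAffineOpen.opensRange_fromSpec]
    exact hyW
  · rintro ⟨V, hVS⟩
    have hV := hS V hVS
    apply isIso_fromTildeΓ_of
    · intro g y
      have e1 : hV.fromSpec ''ᵁ (basicOpen g) = X.basicOpen g := hV.fromSpec_image_basicOpen g
      have e0 : hV.fromSpec ''ᵁ ⊤ = V := QcLoc.image_top hV
      let y' : Γ(G, hV.fromSpec ''ᵁ (basicOpen g)) := y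
      obtain ⟨n, t, ht⟩ := he V hVS g _ e1 y'
      refine ⟨n, (res G e0.le t : Γ(G, hV.fromSpec ''ᵁ ⊤)), ?_⟩
      rw [act_def, QcLoc.smul_eq hV G (basicOpen g) (g ^ n) y]
      have hle : hV.fromSpec ''ᵁ (basicOpen g) ≤ hV.fromSpec ''ᵁ ⊤ :=
        (hV.fromSpec.opensFunctor.map (basicOpen g).leTop).le
      change resR (QcLoc.image_le hV (basicOpen g)) (g ^ n) • y' = res G hle (res G e0.le t)
      rw [res_res, map_pow]
      exact ht.symm
    · intro g t ht
      have e1 : hV.fromSpec ''ᵁ (basicOpen g) = X.basicOpen g := hV.fromSpec_image_basicOpen g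
      have e0 : hV.fromSpec ''ᵁ ⊤ = V := QcLoc.image_top hV
      let t' : Γ(G, hV.fromSpec ''ᵁ ⊤) := t
      have hle : hV.fromSpec ''ᵁ (basicOpen g) ≤ hV.fromSpec ''ᵁ ⊤ :=
        (hV.fromSpec.opensFunctor.map (basicOpen g).leTop).le
      have ht' : res G hle t' = 0 := ht
      obtain ⟨n, hn⟩ := hk V hVS g _ e1 (res G e0.ge t') (by
        rw [res_res]
        exact ht')
      refine ⟨n, ?_⟩
      rw [act_def, QcLoc.smul_eq hV G ⊤ (g ^ n) t]
      change resR (QcLoc.image_le hV ⊤) (g ^ n) • t' = 0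
      have h2 := congrArg (res G e0.le) hn
      rw [res_smul, res_res, res_self, map_zero] at h2
      exact h2

namespace LocalSub

variable (N : LocalSub F)

/-- a subsheaf satisfying the extension property locally is quasi-coherent -/
theorem isQuasicoherent_obj [F.IsQuasicoherent] (h : N.IsQcOn ⊤) : N.obj.IsQuasicoherent := by
  refine isQuasicoherent_of_kill_ext_cover N.obj {B | IsAffineOpen B ∧ N.ExtPOn B}
    (fun V hV => hV.1) ?_ ?_ ?_
  · intro x
    obtain ⟨O', hxO', -, hO'⟩ := h x trivial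
    obtain ⟨_, ⟨B, hB, rfl⟩, hxB, hBO'⟩ :=
      X.isBasis_affineOpens.exists_subset_of_mem_open hxO' O'.isOpen
    exact ⟨B, ⟨hB, hO'.mono hBO'⟩, hxB⟩
  · rintro V ⟨hV, -⟩ f O hO t ht
    have h1 : res F (hO.le.trans (X.basicOpen_le f)) (N.ι.app V t) = 0 := by
      rw [← QcExt.app_res, ht, map_zero]
    obtain ⟨n, hn⟩ := QcAbel.killP_of_isQuasicoherent F V hV f O hO _ h1
    refine ⟨n, N.ι_app_injective V ?_⟩
    rw [Scheme.Modules.Hom.app_smul, hn, map_zero]
  · rintro V ⟨hV, hVN⟩ f O hO y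
    subst hO
    obtain ⟨n, t, ht, e⟩ := hVN V hV le_rfl f (N.ι.app _ y) (N.ι_app_mem y)
    refine ⟨n, N.mkSec t ht, N.ι_app_injective _ ?_⟩
    rw [QcExt.app_res, ι_app_mkSec, e, Scheme.Modules.Hom.app_smul]

/-- sections of the subsheaf over an open, as a module, are the submodule -/
noncomputable def sectionsEquiv (B : X.Opens) : N.carrier B ≃ₗ[Γ(X, B)] Γ(N.obj, B) where
  toFun x := x
  invFun x := x
  map_add' _ _ := rfl
  map_smul' _ _ := rfl
  left_inv _ := rfl
  right_inv _ := rfl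

theorem finite_sections_of_fg {B : X.Opens} (h : (N.carrier B).FG) :
    Module.Finite Γ(X, B) Γ(N.obj, B) := by
  have : Module.Finite Γ(X, B) (N.carrier B) := Module.Finite.iff_fg.2 h
  exact Module.Finite.equiv (N.sectionsEquiv B)

/-- a subsheaf which is quasi-coherent of finite type in terms of good opens is of finite type -/
theorem isFiniteType_obj [F.IsQuasicoherent] (h : N.IsQcFtOn ⊤) :
    SheafOfModules.IsFiniteType.{u, u, u} N.obj := by
  have hq : N.obj.IsQuasicoherent := N.isQuasicoherent_obj h.isQcOn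
  refine FtLocal.isFiniteType_of_affine_charts N.obj (I := {B : X.Opens // N.Good B})
    (fun B => Γ(X, B.1)) (fun B => B.2.affine.fromSpec) ?_ ?_
  · apply le_antisymm le_top
    intro y _
    obtain ⟨B, hyB, -, hB⟩ := h y trivial
    refine Opens.mem_iSup.2 ⟨⟨B, hB⟩, ?_⟩
    rw [IsAffineOpen.opensRange_fromSpec]
    exact hyB
  · rintro ⟨B, hB⟩
    have hfin := N.finite_sections_of_fg hB.fg
    have hO := hB.affine
    have e0 := QcLoc.image_top hO
    let L : Γ(N.obj, B) →ₗ[Γ(X, B)] Γ(N.obj.restrict hO.fromSpec, ⊤) :=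
      { toFun := fun x => (show Γ(N.obj, hO.fromSpec ''ᵁ ⊤) from res N.obj e0.le x)
        map_add' := fun x y => map_add (res N.obj e0.le) _ _
        map_smul' := fun r x => by
          rw [RingHom.id_apply, QcLoc.smul_eq hO N.obj ⊤ r]
          change res N.obj e0.le (r • x) = _
          rw [res_smul]
          rfl }
    refine Module.Finite.of_surjective L (fun y => ⟨res N.obj e0.ge
      (show Γ(N.obj, hO.fromSpec ''ᵁ ⊤) from y), ?_⟩)
    change res N.obj e0.le (res N.obj e0.ge _) = y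
    rw [res_res, res_self]

end LocalSub

end Groth.Agent.Helper1.SubSh
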