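import Mathlib
import Groth.Agent.Lib.Helper1.SubExt6

set_option autoImplicit false
universe u v
open CategoryTheory CategoryTheory.Limits AlgebraicGeometry TopologicalSpace Opposite

namespace Groth.Agent.Helper1.SubSh

open Groth.Agent.Helper1.QcCech Groth.Agent.Helper1

variable {X : Scheme.{u}} {F : X.Modules}

/-! ### topological preliminaries -/

/-- a finite affine cover of a quasi-compact quasi-separated scheme, indexed by `Fin n` -/
theorem exists_fin_cover [CompactSpace X] [QuasiSeparatedSpace X] :
    ∃ (n : ℕ) (V : Fin n → X.Opens), (∀ l, IsAffineOpen (V l)) ∧ ⨆ l, V l = ⊤ ∧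
      (∀ l, IsCompact (((⨆ m : {m // m < l}, V m.1) ⊓ V l : X.Opens) : Set X)) := by
  classical
  obtain ⟨t, ht⟩ := isCompact_univ.elim_finite_subcover (fun B : X.affineOpens => (B.1 : Set X))
    (fun B => B.1.isOpen) (by
      intro x _
      obtain ⟨_, ⟨W, hW, rfl⟩, hxW, -⟩ := X.isBasis_affineOpens.exists_subset_of_mem_open
        (Set.mem_univ x) isOpen_univ
      exact Set.mem_iUnion.2 ⟨⟨W, hW⟩, hxW⟩)
  let e := t.equivFin.symm
  refine ⟨t.card, fun k => (e k).1.1, fun k => (e k).1.2, ?_, ?_⟩
  · apply le_antisymm le_top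
    intro x _
    obtain ⟨B, hBt, hxB⟩ : ∃ B ∈ t, x ∈ (B.1 : Set X) := by
      have := ht (Set.mem_univ x)
      simpa using this
    refine Opens.mem_iSup.2 ⟨e.symm ⟨B, hBt⟩, ?_⟩
    change x ∈ (e (e.symm ⟨B, hBt⟩)).1.1
    rw [Equiv.apply_symm_apply]
    exact hxB
  · intro l
    rw [Opens.coe_inf]
    refine IsCompact.inter_of_isOpen ?_ (e l).1.2.isCompact (Opens.isOpen _) (Opens.isOpen _)
    rw [Opens.coe_iSup]
    exact isCompact_iUnion fun m => (e m.1).1.2.isCompact

/-- the intersection of a quasi-compact open with an affine open in a quasi-separated scheme -/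
theorem isCompact_inf_of_quasiSeparated [QuasiSeparatedSpace X] {U A : X.Opens}
    (hU : IsCompact (U : Set X)) (hA : IsAffineOpen A) :
    IsCompact ((U ⊓ A : X.Opens) : Set X) := by
  rw [Opens.coe_inf]
  exact IsCompact.inter_of_isOpen hU hA.isCompact U.isOpen A.isOpen

/-- the intersection of an open with quasi-compact inclusion and an affine open -/
theorem isCompact_inf_of_quasiCompact (U : X.Opens) [QuasiCompact U.ι] {A : X.Opens}
    (hA : IsAffineOpen A) : IsCompact ((U ⊓ A : X.Opens) : Set X) := by
  have h := QuasiCompact.isCompact_preimage (f := U.ι) (A : Set X) A.isOpen hA.isCompact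
  have h2 := h.image U.ι.continuous
  have : (U.ι : U → X) '' (U.ι ⁻¹' (A : Set X)) = ((U ⊓ A : X.Opens) : Set X) := by
    rw [Set.image_preimage_eq_inter_range, Scheme.Opens.range_ι, Opens.coe_inf, Set.inter_comm]
  rwa [this] at h2

/-- every subset of an open noetherian subspace is quasi-compact -/
theorem isCompact_of_subset_noetherian {T : Type*} [TopologicalSpace T] {U S : Set T}
    (hU : NoetherianSpace U) (hS : S ⊆ U) : IsCompact S := by
  have h := (NoetherianSpace.isCompact (α := U) (Subtype.val ⁻¹' S)).image continuous_subtype_val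
  rwa [Subtype.image_preimage_coe, Set.inter_eq_right.2 hS] at h

/-- in a locally noetherian space, quasi-compact sets are noetherian: all their subsets are
quasi-compact -/
theorem isCompact_of_subset_of_locally_noetherian
    (hX : ∀ x : X, ∃ U : X.Opens, x ∈ U ∧ NoetherianSpace (U : Set X)) {K S : Set X}
    (hK : IsCompact K) (hS : S ⊆ K) : IsCompact S := by
  choose U hxU hU using hX
  obtain ⟨t, ht⟩ := hK.elim_finite_subcover (fun x => (U x : Set X)) (fun x => (U x).isOpen)
    (fun x _ => Set.mem_iUnion.2 ⟨x, hxU x⟩)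
  have : S = ⋃ x ∈ t, S ∩ (U x : Set X) := by
    ext y
    constructor
    · intro hy
      obtain ⟨x, hxt, hyx⟩ : ∃ x ∈ t, y ∈ (U x : Set X) := by
        have := ht (hS hy)
        simpa using this
      simp only [Set.mem_iUnion]
      exact ⟨x, hxt, hy, hyx⟩
    · intro hy
      simp only [Set.mem_iUnion] at hy
      obtain ⟨x, -, hy, -⟩ := hy
      exact hy
  rw [this]
  exact t.isCompact_biUnion fun x _ => isCompact_of_subset_noetherian (hU x) Set.inter_subset_right

/-- a well-ordered affine cover of a scheme with locally noetherian underlying space -/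
theorem exists_wo_cover (X : Scheme.{u}) :
    ∃ (L : Type u) (_ : LinearOrder L) (_ : WellFoundedLT L) (V : L → X.Opens),
      (∀ l, IsAffineOpen (V l)) ∧ ⨆ l, V l = ⊤ := by
  obtain ⟨hlin, hwf⟩ := exists_wellFoundedLT X.affineOpens
  refine ⟨X.affineOpens, hlin, hwf, fun B => B.1, fun B => B.2, ?_⟩
  apply le_antisymm le_top
  intro x _
  obtain ⟨_, ⟨W, hW, rfl⟩, hxW, -⟩ := X.isBasis_affineOpens.exists_subset_of_mem_open
    (Set.mem_univ x) isOpen_univ
  exact Opens.mem_iSup.2 ⟨⟨W, hW⟩, hxW⟩

namespace LocalSub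

/-- on a scheme with locally noetherian underlying space, every subsheaf which is quasi-coherent of
finite type on an open extends -/
theorem exists_extension_of_locally_noetherian [F.IsQuasicoherent]
    (hX : ∀ x : X, ∃ U : X.Opens, x ∈ U ∧ NoetherianSpace (U : Set X)) (U : X.Opens)
    (G₀ : LocalSub F) (h0 : G₀.IsQcFtOn U) :
    ∃ G' : LocalSub F, G'.IsQcFtOn ⊤ ∧ ∀ W ≤ U, G'.carrier W = G₀.carrier W := by
  obtain ⟨L, hlin, hwf, V, hV, hcov⟩ := exists_wo_cover X
  refine exists_extension V U G₀ hV hcov (fun l => ?_) (fun l => ?_) h0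
  · exact isCompact_of_subset_of_locally_noetherian hX (hV l).isCompact
      (by rw [Opens.coe_inf]; exact Set.inter_subset_right)
  · exact isCompact_of_subset_of_locally_noetherian hX (hV l).isCompact
      (by rw [Opens.coe_inf]; exact Set.inter_subset_right)

/-- on a quasi-compact quasi-separated scheme, every subsheaf which is quasi-coherent of
finite type on a quasi-compact open extends -/
theorem exists_extension_of_qcqs [F.IsQuasicoherent] [CompactSpace X] [QuasiSeparatedSpace X]
    (U : X.Opens) (hU : IsCompact (U : Set X)) (G₀ : LocalSub F) (h0 : G₀.IsQcFtOn U) :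
    ∃ G' : LocalSub F, G'.IsQcFtOn ⊤ ∧ ∀ W ≤ U, G'.carrier W = G₀.carrier W := by
  obtain ⟨n, V, hV, hcov, hW⟩ := exists_fin_cover (X := X)
  exact exists_extension V U G₀ hV hcov
    (fun l => isCompact_inf_of_quasiSeparated hU (hV l)) hW h0

/-- the subsheaf generated by a section over an affine open is quasi-coherent of finite type
there -/
theorem genOn_singleton_isQcFtOn [F.IsQuasicoherent] {U : X.Opens} (hU : IsAffineOpen U)
    (s : Γ(F, U)) : (genOn U {s}).IsQcFtOn U :=
  fun _ hx => ⟨U, hx, le_rfl, hU, genOn_extPOn _, genOn_fg hU _ (Set.finite_singleton s)⟩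

theorem mem_genOn_singleton {U : X.Opens} (s : Γ(F, U)) : s ∈ (genOn U {s}).carrier U := by
  have := genPre_le_genOn ({s} : Set Γ(F, U)) (res_mem_genPre _ (le_refl U) (Set.mem_singleton s))
  rwa [res_self] at this

end LocalSub

end Groth.Agent.Helper1.SubSh
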