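import Mathlib
import Groth.Agent.Lib.Helper1.SubExt7
import Groth.Agent.Lib.Helper1.FinPush

set_option autoImplicit false
universe u v
open CategoryTheory CategoryTheory.Limits AlgebraicGeometry TopologicalSpace Opposite

namespace Groth.Agent.Helper1.SubSh

open Groth.Agent.Helper1.QcCech Groth.Agent.Helper1

variable {X : Scheme.{u}}

/-- a morphism of modules which is injective on sections is a monomorphism -/
theorem mono_of_app_injective {K M : X.Modules} (φ : K ⟶ M)
    (h : ∀ O : X.Opens, Function.Injective (φ.app O)) : Mono φ := by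
  apply Preadditive.mono_of_cancel_zero
  intro K' g hg
  apply Scheme.Modules.hom_ext
  intro U
  ext s
  apply h U
  have := congrArg (fun ψ => ψ.app U s) hg
  simpa using this

/-- the range of a morphism of modules which is injective on sections is local -/
theorem mem_range_of_locally {K M : X.Modules} (φ : K ⟶ M)
    (hφ : ∀ O : X.Opens, Function.Injective (φ.app O)) {O : X.Opens} (t : Γ(M, O))
    (h : ∀ x ∈ O, ∃ (W : X.Opens) (hW : W ≤ O), x ∈ W ∧ res M hW t ∈ Set.range (φ.app W)) :
    t ∈ Set.range (φ.app O) := by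
  have h' : ∀ x : O, ∃ (W : X.Opens) (hW : W ≤ O), x.1 ∈ W ∧ res M hW t ∈ Set.range (φ.app W) :=
    fun x => h x.1 x.2
  choose W hW hxW hm using h'
  choose s hs using hm
  let FK : TopCat.Sheaf Ab X := ⟨K.presheaf, K.isSheaf⟩
  let FM : TopCat.Sheaf Ab X := ⟨M.presheaf, M.isSheaf⟩
  let sf : ∀ x : O, ToType (FK.1.obj (op (W x))) := s
  have hc : TopCat.Presheaf.IsCompatible FK.1 W sf := by
    intro x y
    apply hφ (W x ⊓ W y)
    change φ.app _ (res K inf_le_left (s x)) = φ.app _ (res K inf_le_right (s y))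
    rw [QcExt.app_res, QcExt.app_res, hs, hs, res_res, res_res]
  have hcov : O ≤ iSup W := fun x hx => Opens.mem_iSup.2 ⟨⟨x, hx⟩, hxW ⟨x, hx⟩⟩
  obtain ⟨g, hg, -⟩ := FK.existsUnique_gluing' W O (fun x => homOfLE (hW x)) hcov sf hc
  refine ⟨g, ?_⟩
  apply FM.eq_of_locally_eq' W O (fun x => homOfLE (hW x)) hcov
  intro x
  change res M (hW x) (φ.app O g) = res M (hW x) t
  rw [← QcExt.app_res, ← hs]
  congr 1
  exact hg x

/-- two subobjects of a module with the same sections are isomorphic -/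
theorem exists_iso_of_range_eq {A B M : X.Modules} (a : A ⟶ M) (b : B ⟶ M) [Mono a] [Mono b]
    (h : ∀ O : X.Opens, Set.range (a.app O) = Set.range (b.app O)) :
    ∃ e : A ≅ B, e.hom ≫ b = a := by
  have key : ∀ {A B : X.Modules} (a : A ⟶ M) (b : B ⟶ M),
      (∀ O : X.Opens, Set.range (a.app O) ⊆ Set.range (b.app O)) → a ≫ cokernel.π b = 0 := by
    intro A B a b hab
    apply Scheme.Modules.hom_ext
    intro O
    ext s
    obtain ⟨s', hs'⟩ := hab O ⟨s, rfl⟩
    have h1 : (a ≫ cokernel.π b).app O s = (cokernel.π b).app O (a.app O s) := rfl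
    have h2 : (b ≫ cokernel.π b).app O s' = (cokernel.π b).app O (b.app O s') := rfl
    rw [h1, ← hs', ← h2, cokernel.condition]
    rfl
  have hab := key a b fun O => (h O).le
  have hba := key b a fun O => (h O).ge
  refine ⟨⟨Abelian.monoLift b a hab, Abelian.monoLift a b hba, ?_, ?_⟩, ?_⟩
  · rw [← cancel_mono a, Category.assoc, Abelian.monoLift_comp, Abelian.monoLift_comp,
      Category.id_comp]
  · rw [← cancel_mono b, Category.assoc, Abelian.monoLift_comp, Abelian.monoLift_comp,
      Category.id_comp]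
  · exact Abelian.monoLift_comp _ _ _

section Restrict

variable {Y : Scheme.{u}} (j : Y ⟶ X) [IsOpenImmersion j] {F : X.Modules}

lemma res_restrict {O O' : Y.Opens} (h : O' ≤ O) (t : Γ(F.restrict j, O)) :
    res (F.restrict j) h t = res F (j.image_mono h) (show Γ(F, j ''ᵁ O) from t) := rfl

lemma smul_restrict (O : Y.Opens) (r : Γ(Y, O)) (t : Γ(F.restrict j, O)) :
    r • t = (show Γ(F.restrict j, O) from
      ((j.appIso O).inv r • (show Γ(F, j ''ᵁ O) from t))) := rfl

lemma appIso_hom_resR {A : X.Opens} {O' : Y.Opens} (h : O' ≤ j ⁻¹ᵁ A) (f : Γ(X, A)) :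
    (j.appIso O').hom (resR ((j.image_mono h).trans (j.image_preimage_le A)) f) =
      resR h (j.app A f) := by
  have : X.presheaf.map (homOfLE ((j.image_mono h).trans (j.image_preimage_le A))).op ≫
      (j.appIso O').hom = j.app A ≫ Y.presheaf.map (homOfLE h).op := by
    rw [Scheme.Hom.appIso_hom', Scheme.Hom.map_appLE]
    rfl
  exact ConcreteCategory.congr_hom this f

lemma appIso_inv_resR_app {A : X.Opens} {O' : Y.Opens} (h : O' ≤ j ⁻¹ᵁ A) (f : Γ(X, A)) :
    (j.appIso O').inv (resR h (j.app A f)) =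
      resR ((j.image_mono h).trans (j.image_preimage_le A)) f := by
  rw [← appIso_hom_resR]
  exact Iso.hom_inv_id_apply _ _

variable {G : Y.Modules} (i : G ⟶ F.restrict j)

/-- the subsheaf of `F` of sections whose restriction to the open subscheme `Y` lies in the
subsheaf `G` of `F|_Y` -/
noncomputable def sub (hi : ∀ O : Y.Opens, Function.Injective (i.app O)) : LocalSub F where
  carrier W :=
    { carrier := {t | (show Γ(F.restrict j, j ⁻¹ᵁ W) from res F (j.image_preimage_le W) t) ∈
        Set.range (i.app (j ⁻¹ᵁ W))}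
      add_mem' := by
        rintro a b ⟨ga, ha⟩ ⟨gb, hb⟩
        refine ⟨ga + gb, ?_⟩
        rw [map_add, ha, hb, map_add]
        rfl
      zero_mem' := ⟨0, by rw [map_zero, map_zero]; rfl⟩
      smul_mem' := by
        rintro r t ⟨g, hg⟩
        refine ⟨(j.appIso (j ⁻¹ᵁ W)).hom (resR (j.image_preimage_le W) r) • g, ?_⟩
        rw [Scheme.Modules.Hom.app_smul, hg, smul_restrict, Iso.hom_inv_id_apply, res_smul] }
  res_mem := by
    rintro W V h t ⟨g, hg⟩
    refine ⟨res G (j.preimage_mono h) g, ?_⟩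
    rw [QcExt.app_res, hg, res_restrict]
    change res F _ (res F _ t) = res F _ (res F _ t)
    rw [res_res, res_res]
  local_mem := by
    intro W t ht
    apply mem_range_of_locally i hi
    intro y hy
    obtain ⟨W', hW', hyW', g, hg⟩ := ht (j y) hy
    refine ⟨j ⁻¹ᵁ W', j.preimage_mono hW', hyW', g, ?_⟩
    rw [hg, res_restrict]
    change res F _ (res F _ t) = res F _ (res F _ t)
    rw [res_res, res_res]


variable (hi : ∀ O : Y.Opens, Function.Injective (i.app O))

lemma mem_sub_iff {W : X.Opens} (t : Γ(F, W)) : t ∈ (sub j i hi).carrier W ↔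
    ∃ g : Γ(G, j ⁻¹ᵁ W), i.app (j ⁻¹ᵁ W) g =
      (show Γ(F.restrict j, j ⁻¹ᵁ W) from res F (j.image_preimage_le W) t) := Iff.rfl

lemma image_preimage_eq_of_le {A : X.Opens} (hA : A ≤ j.opensRange) : j ''ᵁ (j ⁻¹ᵁ A) = A := by
  rw [j.image_preimage_eq_opensRange_inf, inf_eq_right.2 hA]

theorem sub_extPOn [G.IsQuasicoherent] : (sub j i hi).ExtPOn j.opensRange := by
  intro A hA hAj f y hy
  obtain ⟨g, hg⟩ := hy
  have hA' : IsAffineOpen (j ⁻¹ᵁ A) := hA.preimage_of_isOpenImmersion j hAj
  have hO' : j ⁻¹ᵁ (X.basicOpen f) = Y.basicOpen (j.app A f) := Scheme.preimage_basicOpen j f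
  obtain ⟨n, t', ht'⟩ := QcAbel.extP_of_isQuasicoherent G (j ⁻¹ᵁ A) hA' (j.app A f) _ hO' g
  have heq : j ''ᵁ (j ⁻¹ᵁ A) = A := image_preimage_eq_of_le j hAj
  have heqf : j ''ᵁ (j ⁻¹ᵁ X.basicOpen f) = X.basicOpen f :=
    image_preimage_eq_of_le j ((X.basicOpen_le f).trans hAj)
  refine ⟨n, res F heq.ge (show Γ(F, j ''ᵁ (j ⁻¹ᵁ A)) from i.app _ t'), ⟨t', ?_⟩, ?_⟩
  · change _ = res F _ (res F _ _)
    rw [res_res, res_self]
  · apply PushQc.res_injective_of_eq (F := F) heqf
    rw [res_res, res_res, res_smul, map_pow, resR_resR]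
    have h1 : res F ((j.image_mono (hO'.le.trans (Y.basicOpen_le _))))
        (show Γ(F, j ''ᵁ (j ⁻¹ᵁ A)) from i.app _ t') =
        (show Γ(F.restrict j, j ⁻¹ᵁ X.basicOpen f) from
          i.app _ (res G (hO'.le.trans (Y.basicOpen_le _)) t')) := by
      rw [QcExt.app_res]
      rfl
    rw [h1, ht', Scheme.Modules.Hom.app_smul, smul_restrict, map_pow, appIso_inv_resR_app, hg]

theorem sub_fg [G.IsQuasicoherent] (hft : SheafOfModules.IsFiniteType.{u, u, u} G)
    {B : X.Opens} (hB : IsAffineOpen B) (hBj : B ≤ j.opensRange) :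
    ((sub j i hi).carrier B).FG := by
  classical
  have hB' : IsAffineOpen (j ⁻¹ᵁ B) := hB.preimage_of_isOpenImmersion j hBj
  have hfin : Module.Finite Γ(Y, j ⁻¹ᵁ B) Γ(G, j ⁻¹ᵁ B) :=
    FinPush.finite_sections G ⟨‹G.IsQuasicoherent›, hft⟩ hB'
  obtain ⟨S, hS⟩ := hfin.fg_top
  have heq := image_preimage_eq_of_le j hBj
  let τ : Γ(G, j ⁻¹ᵁ B) → Γ(F, B) := fun g =>
    res F heq.ge (show Γ(F, j ''ᵁ (j ⁻¹ᵁ B)) from i.app _ g)
  have hτ : ∀ g, τ g ∈ (sub j i hi).carrier B := by
    intro g
    refine ⟨g, ?_⟩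
    change _ = res F _ (res F _ _)
    rw [res_res, res_self]
  refine ⟨S.image τ, ?_⟩
  apply le_antisymm
  · rw [Submodule.span_le]
    intro t ht
    rw [Finset.coe_image] at ht
    obtain ⟨g, -, rfl⟩ := ht
    exact hτ g
  · rintro t ⟨g, hg⟩
    have ht : t = τ g := by
      apply PushQc.res_injective_of_eq (F := F) heq
      change res F heq.le t = res F heq.le (res F heq.ge _)
      rw [res_res, res_self]
      exact hg.symm
    rw [ht]
    have hg' : g ∈ Submodule.span Γ(Y, j ⁻¹ᵁ B) (S : Set Γ(G, j ⁻¹ᵁ B)) := by rw [hS]; trivial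
    clear ht hg
    induction hg' using Submodule.span_induction with
    | mem g hg =>
      apply Submodule.subset_span
      rw [Finset.coe_image]
      exact ⟨g, hg, rfl⟩
    | zero =>
      have : τ 0 = 0 := by simp only [τ]; rw [map_zero]; exact map_zero _
      rw [this]
      exact Submodule.zero_mem _
    | add a b _ _ ha hb =>
      have : τ (a + b) = τ a + τ b := by simp only [τ]; rw [map_add]; exact map_add _ _ _
      rw [this]
      exact Submodule.add_mem _ ha hb
    | smul r a _ ha =>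
      have : τ (r • a) = resR heq.ge ((j.appIso _).inv r) • τ a := by
        simp only [τ]
        rw [Scheme.Modules.Hom.app_smul, smul_restrict]
        exact res_smul F heq.ge _ _
      rw [this]
      exact Submodule.smul_mem _ _ ha

theorem sub_isQcFtOn [G.IsQuasicoherent] (hft : SheafOfModules.IsFiniteType.{u, u, u} G) :
    (sub j i hi).IsQcFtOn j.opensRange := by
  intro x hx
  obtain ⟨_, ⟨B, hB, rfl⟩, hxB, hBj⟩ :=
    X.isBasis_affineOpens.exists_subset_of_mem_open hx j.opensRange.isOpen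
  exact ⟨B, hxB, hBj, hB, (sub_extPOn j i hi).mono hBj, sub_fg j i hi hft hB hBj⟩

include hi in
theorem mono_of_injective : Mono i := mono_of_app_injective i hi

/-- a subsheaf of `F` agreeing with `sub j i` on opens inside the range of `j` restricts to `G` -/
theorem exists_iso_restrict (N : LocalSub F)
    (hN : ∀ W ≤ j.opensRange, N.carrier W = (sub j i hi).carrier W) :
    ∃ e : N.obj.restrict j ≅ G, e.hom ≫ i = (Scheme.Modules.restrictFunctor j).map N.ι := by
  have hm : Mono i := mono_of_app_injective i hi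
  have hm' : Mono ((Scheme.Modules.restrictFunctor j).map N.ι) :=
    mono_of_app_injective _ fun O => N.ι_app_injective (j ''ᵁ O)
  refine exists_iso_of_range_eq _ i fun O => ?_
  have hle : j ''ᵁ O ≤ j.opensRange := by
    rw [← Scheme.Hom.image_top_eq_opensRange]
    exact j.image_mono le_top
  have e : j ⁻¹ᵁ (j ''ᵁ O) = O := j.preimage_image_eq O
  ext t
  have h1 : t ∈ Set.range (((Scheme.Modules.restrictFunctor j).map N.ι).app O) ↔
      (show Γ(F, j ''ᵁ O) from t) ∈ N.carrier (j ''ᵁ O) := (N.mem_iff _).symm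
  rw [h1, hN _ hle]
  constructor
  · rintro ⟨g, hg⟩
    refine ⟨res G e.ge g, ?_⟩
    rw [QcExt.app_res, hg, res_restrict]
    change res F _ (res F _ _) = _
    rw [res_res]
    exact res_self F _ _
  · rintro ⟨g, rfl⟩
    refine ⟨res G e.le g, ?_⟩
    rw [QcExt.app_res]
    rfl

end Restrict

end Groth.Agent.Helper1.SubSh
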