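import Mathlib
import Groth.Prelude.Def_SecTwist
import Groth.Agent.Lib.Helper1.SubExt8
import Groth.Agent.Lib.Helper1.GenLoc

set_option autoImplicit false
universe u
open CategoryTheory CategoryTheory.Limits AlgebraicGeometry TopologicalSpace Opposite

namespace Groth.Agent.Helper1.LGen

open Groth.Agent.Helper1.QcCech Groth.Agent.Helper1.SubSh

variable {X : Scheme.{u}} (L : X.Modules)

/-- `a` is a free generator of `L` on `W` -/
def IsGen (W : X.Opens) (a : Γ(L, W)) : Prop :=
  ∀ (V : X.Opens) (h : V ≤ W), Function.Bijective (fun r : Γ(X, V) => r • res L h a)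

variable {L}

theorem IsGen.res {W : X.Opens} {a : Γ(L, W)} (ha : IsGen L W a) {W' : X.Opens} (h : W' ≤ W) :
    IsGen L W' (res L h a) := by
  intro V hV
  have := ha V (hV.trans h)
  simpa only [res_res] using this

/-- an invertible module has local free generators -/
theorem exists_isGen (hL : PicF.IsInvertible L) (x : X) :
    ∃ (W : X.Opens) (a : Γ(L, W)), x ∈ W ∧ IsGen L W a := by
  obtain ⟨U, hxU, ⟨e⟩⟩ := hL x
  have htop : U.ι ''ᵁ ⊤ = U := by simp
  let a : Γ(L, U.ι ''ᵁ ⊤) := e.inv.app ⊤
    (show Γ(Coh.structureModule (↑U : Scheme.{u}), ⊤) from (1 : Γ(↑U, ⊤)))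
  refine ⟨U.ι ''ᵁ ⊤, a, by rw [htop]; exact hxU, ?_⟩
  intro V hV
  obtain ⟨V', rfl⟩ : ∃ V' : (↑U : Scheme.{u}).Opens, V = U.ι ''ᵁ V' :=
    ⟨U.ι ⁻¹ᵁ V, (image_preimage_eq_of_le U.ι (by
      rw [← Scheme.Hom.image_top_eq_opensRange]; exact hV)).symm⟩
  have hb : Function.Bijective (e.inv.app V') := by
    have : IsIso (e.inv.app V') := inferInstance
    exact (ConcreteCategory.isIso_iff_bijective _).1 this
  have hb2 : Function.Bijective ((U.ι.appIso V').hom.hom) :=
    (ConcreteCategory.isIso_iff_bijective (U.ι.appIso V').hom).1 inferInstance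
  let one' : Γ(Coh.structureModule (↑U : Scheme.{u}), V') := (1 : Γ(↑U, V'))
  have key : ∀ r : Γ(X, U.ι ''ᵁ V'), r • res L hV a =
      e.inv.app V' (show Γ(Coh.structureModule (↑U : Scheme.{u}), V') from
        (U.ι.appIso V').hom.hom r) := by
    intro r
    have h1 : res L hV a = e.inv.app V' one' := by
      have := QcExt.app_res e.inv (le_top : V' ≤ ⊤)
        (show Γ(Coh.structureModule (↑U : Scheme.{u}), ⊤) from (1 : Γ(↑U, ⊤)))
      change res (L.restrict U.ι) (le_top : V' ≤ ⊤) (e.inv.app ⊤ _) = _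
      rw [← this]
      congr 1
      exact map_one (resR (le_top : V' ≤ ⊤))
    have h2 : (show Γ(Coh.structureModule (↑U : Scheme.{u}), V') from (U.ι.appIso V').hom.hom r) =
        (U.ι.appIso V').hom.hom r • one' := by
      change _ = (U.ι.appIso V').hom.hom r * (1 : Γ(↑U, V'))
      rw [mul_one]
    rw [h2, Scheme.Modules.Hom.app_smul, ← h1, smul_restrict]
    change r • res L hV a = (U.ι.appIso V').inv.hom ((U.ι.appIso V').hom.hom r) • res L hV a
    congr 1
    exact (congr($((U.ι.appIso V').hom_inv_id) r)).symm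
  have : (fun r : Γ(X, U.ι ''ᵁ V') => r • res L hV a) =
      (e.inv.app V') ∘ (fun r => (show Γ(Coh.structureModule (↑U : Scheme.{u}), V') from
        (U.ι.appIso V').hom.hom r)) := by
    funext r
    exact key r
  rw [this]
  exact hb.comp hb2

/-- the value of a global section over an open -/
noncomputable def secVal (s : Coh.structureModule X ⟶ L) (V : X.Opens) : Γ(L, V) :=
  SecTwist.val s V

theorem app_eq_smul (s : Coh.structureModule X ⟶ L) (V : X.Opens) (r : Γ(X, V)) :
    s.app V (show Γ(Coh.structureModule X, V) from r) = r • secVal s V := by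
  have h2 := Scheme.Modules.Hom.app_smul s r
    (show Γ(Coh.structureModule X, V) from (1 : Γ(X, V)))
  have h : r • (show Γ(Coh.structureModule X, V) from (1 : Γ(X, V))) =
      (show Γ(Coh.structureModule X, V) from r) := by
    change r * 1 = r
    rw [mul_one]
  rw [h] at h2
  exact h2

theorem res_secVal (s : Coh.structureModule X ⟶ L) {U V : X.Opens} (h : V ≤ U) :
    res L h (secVal s U) = secVal s V :=
  SecTwist.map_val s (homOfLE h)

theorem bijective_mul_right_of_isUnit {R : Type*} [CommRing R] {u : R} (hu : IsUnit u) :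
    Function.Bijective (fun r : R => r * u) := by
  obtain ⟨u, rfl⟩ := hu
  refine ⟨fun r r' h => u.isUnit.mul_left_injective h, fun r => ⟨r * ↑u⁻¹, ?_⟩⟩
  change r * ↑u⁻¹ * ↑u = r
  rw [mul_assoc, Units.inv_mul, mul_one]

/-- the locus where a section generates, in terms of a local generator -/
theorem genLocus_inf_eq_basicOpen (s : Coh.structureModule X ⟶ L) {W : X.Opens} {a : Γ(L, W)}
    (ha : IsGen L W a) (φ : Γ(X, W)) (hφ : φ • a = secVal s W) :
    CohB1.genLocus L s ⊓ W = X.basicOpen φ := by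
  have hval : ∀ (V : X.Opens) (h : V ≤ W), secVal s V = resR h φ • res L h a := by
    intro V h
    rw [← res_secVal s h, ← hφ, res_smul]
  have happ : ∀ (V : X.Opens) (h : V ≤ W) (r : Γ(X, V)),
      s.app V (show Γ(Coh.structureModule X, V) from r) = (r * resR h φ) • res L h a := by
    intro V h r
    rw [app_eq_smul, hval V h, mul_smul]
  apply le_antisymm
  · rintro x ⟨hx, hxW⟩
    obtain ⟨W', hxW', hW'⟩ := (GenLoc.mem_genLocus_iff L s x).1 hx
    have hV : W' ⊓ W ≤ W := inf_le_right
    obtain ⟨r, hr⟩ : ∃ r : Γ(X, W' ⊓ W),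
        s.app _ (show Γ(Coh.structureModule X, W' ⊓ W) from r) = res L hV a :=
      (hW' (W' ⊓ W) inf_le_left).2 (res L hV a)
    have hr' : (r * resR hV φ) • res L hV a = (1 : Γ(X, W' ⊓ W)) • res L hV a := by
      rw [one_smul, ← happ _ hV]
      exact hr
    have h1 : r * resR hV φ = 1 := (ha _ hV).1 hr'
    have hu : IsUnit (resR hV φ) := IsUnit.of_mul_eq_one_right _ h1
    exact (GenLoc.isUnit_res_iff φ _ hV).1 hu ⟨hxW', hxW⟩
  · intro x hx
    refine ⟨?_, X.basicOpen_le φ hx⟩
    refine (GenLoc.mem_genLocus_iff L s x).2 ⟨X.basicOpen φ, hx, fun V hV => ?_⟩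
    have hVW : V ≤ W := hV.trans (X.basicOpen_le φ)
    have hu : IsUnit (resR hVW φ) := (GenLoc.isUnit_res_iff φ V hVW).2 hV
    have hb : Function.Bijective (fun r : Γ(X, V) => (r * resR hVW φ) • res L hVW a) :=
      (ha V hVW).comp (bijective_mul_right_of_isUnit hu)
    have : (fun r : Γ(X, V) => (r * resR hVW φ) • res L hVW a) =
        (fun r : Γ(X, V) => s.app V (show Γ(Coh.structureModule X, V) from r)) := by
      funext r
      exact (happ V hVW r).symm
    rw [this] at hb
    exact hb

/-- the coefficient of a section with respect to a generator -/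
theorem IsGen.exists_coeff {W : X.Opens} {a : Γ(L, W)} (ha : IsGen L W a) (t : Γ(L, W)) :
    ∃ φ : Γ(X, W), φ • a = t := by
  obtain ⟨φ, hφ⟩ := (ha W le_rfl).2 t
  refine ⟨φ, ?_⟩
  have h : φ • QcCech.res L (le_refl W) a = t := hφ
  rwa [QcCech.res_self] at h

end Groth.Agent.Helper1.LGen
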