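import Mathlib
import Groth.Prelude.Def_SecTwist
import Groth.Agent.Lib.Helper1.QcCech

set_option autoImplicit false
universe u
open CategoryTheory CategoryTheory.Limits AlgebraicGeometry TopologicalSpace Opposite TensorProduct
  MonoidalCategory

namespace Groth.Agent.Helper1.TmulLib

open Groth.Agent.Helper1.QcCech

variable {X : Scheme.{u}} (M N : X.Modules)

/-- the pure tensor, with the types in the form used by the prelude -/
noncomputable def pure (U : X.Opens) (m : (CohB1.toPMod M).obj (op U)) (n : (CohB1.toPMod N).obj (op U)) :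
    (CohB1.tensorPre M N).obj (op U) := m ⊗ₜ n

theorem tmul_eq (U : X.Opens) (m : M.val.obj (op U)) (n : N.val.obj (op U)) :
    SecTwist.tmul M N U m n = ((SecTwist.toTensor M N).app (op U)).hom (pure M N U m n) := rfl

theorem pure_add_left (U : X.Opens) (m m' : (CohB1.toPMod M).obj (op U))
    (n : (CohB1.toPMod N).obj (op U)) :
    pure M N U (m + m') n = pure M N U m n + pure M N U m' n :=
  TensorProduct.add_tmul m m' n

theorem pure_add_right (U : X.Opens) (m : (CohB1.toPMod M).obj (op U))
    (n n' : (CohB1.toPMod N).obj (op U)) :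
    pure M N U m (n + n') = pure M N U m n + pure M N U m n' :=
  TensorProduct.tmul_add m n n'

theorem pure_smul_left (U : X.Opens) (r : (X.sheaf.obj ⋙ forget₂ CommRingCat RingCat.{u}).obj (op U))
    (m : (CohB1.toPMod M).obj (op U)) (n : (CohB1.toPMod N).obj (op U)) :
    pure M N U (r • m) n = r • pure M N U m n :=
  (TensorProduct.smul_tmul' r m n).symm

theorem pure_smul_right (U : X.Opens) (r : (X.sheaf.obj ⋙ forget₂ CommRingCat RingCat.{u}).obj (op U))
    (m : (CohB1.toPMod M).obj (op U)) (n : (CohB1.toPMod N).obj (op U)) :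
    pure M N U m (r • n) = r • pure M N U m n :=
  TensorProduct.tmul_smul r m n

theorem tmul_add_left (U : X.Opens) (m m' : M.val.obj (op U)) (n : N.val.obj (op U)) :
    SecTwist.tmul M N U (m + m') n = SecTwist.tmul M N U m n + SecTwist.tmul M N U m' n :=
  (congrArg _ (pure_add_left M N U m m' n)).trans
    (map_add ((SecTwist.toTensor M N).app (op U)).hom (pure M N U m n) (pure M N U m' n))

theorem tmul_add_right (U : X.Opens) (m : M.val.obj (op U)) (n n' : N.val.obj (op U)) :
    SecTwist.tmul M N U m (n + n') = SecTwist.tmul M N U m n + SecTwist.tmul M N U m n' :=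
  (congrArg _ (pure_add_right M N U m n n')).trans
    (map_add ((SecTwist.toTensor M N).app (op U)).hom (pure M N U m n) (pure M N U m n'))

theorem tmul_smul_left (U : X.Opens) (r : Γ(X, U)) (m : M.val.obj (op U)) (n : N.val.obj (op U)) :
    SecTwist.tmul M N U (r • m) n = r • SecTwist.tmul M N U m n :=
  (congrArg _ (pure_smul_left M N U r m n)).trans
    (((SecTwist.toTensor M N).app (op U)).hom.map_smul r (pure M N U m n))

theorem tmul_smul_right (U : X.Opens) (r : Γ(X, U)) (m : M.val.obj (op U)) (n : N.val.obj (op U)) :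
    SecTwist.tmul M N U m (r • n) = r • SecTwist.tmul M N U m n :=
  (congrArg _ (pure_smul_right M N U r m n)).trans
    (((SecTwist.toTensor M N).app (op U)).hom.map_smul r (pure M N U m n))

theorem tmul_zero_left (U : X.Opens) (n : N.val.obj (op U)) :
    SecTwist.tmul M N U 0 n = 0 := by
  have := tmul_smul_left M N U (0 : Γ(X, U)) 0 n
  rwa [zero_smul, zero_smul] at this

theorem tmul_zero_right (U : X.Opens) (m : M.val.obj (op U)) :
    SecTwist.tmul M N U m 0 = 0 := by
  have := tmul_smul_right M N U (0 : Γ(X, U)) m 0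
  rwa [zero_smul, zero_smul] at this

/-- restriction-compatibility in terms of `res` -/
theorem res_tmul {U V : X.Opens} (h : V ≤ U) (m : M.val.obj (op U)) (n : N.val.obj (op U)) :
    res (CohB1.tensorMod M N) h (SecTwist.tmul M N U m n) =
      SecTwist.tmul M N V (res M h m) (res N h n) :=
  SecTwist.map_tmul M N (homOfLE h) m n

/-! ### the same, with sections typed as `Γ(M, U)` -/

/-- the section `m ⊗ n`, with sections typed as `Γ(M, U)` -/
noncomputable def tm (U : X.Opens) (m : Γ(M, U)) (n : Γ(N, U)) : Γ(CohB1.tensorMod M N, U) :=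
  SecTwist.tmul M N U m n

theorem tm_add_left (U : X.Opens) (m m' : Γ(M, U)) (n : Γ(N, U)) :
    tm M N U (m + m') n = tm M N U m n + tm M N U m' n := tmul_add_left M N U m m' n

theorem tm_add_right (U : X.Opens) (m : Γ(M, U)) (n n' : Γ(N, U)) :
    tm M N U m (n + n') = tm M N U m n + tm M N U m n' := tmul_add_right M N U m n n'

theorem tm_smul_left (U : X.Opens) (r : Γ(X, U)) (m : Γ(M, U)) (n : Γ(N, U)) :
    tm M N U (r • m) n = r • tm M N U m n := tmul_smul_left M N U r m n

theorem tm_smul_right (U : X.Opens) (r : Γ(X, U)) (m : Γ(M, U)) (n : Γ(N, U)) :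
    tm M N U m (r • n) = r • tm M N U m n := tmul_smul_right M N U r m n

theorem tm_zero_left (U : X.Opens) (n : Γ(N, U)) : tm M N U 0 n = 0 := tmul_zero_left M N U n

theorem tm_zero_right (U : X.Opens) (m : Γ(M, U)) : tm M N U m 0 = 0 := tmul_zero_right M N U m

theorem tm_sub_left (U : X.Opens) (m m' : Γ(M, U)) (n : Γ(N, U)) :
    tm M N U (m - m') n = tm M N U m n - tm M N U m' n := by
  have := tm_add_left M N U (m - m') m' n
  rw [sub_add_cancel] at this
  rw [this, add_sub_cancel_right]

theorem res_tm {U V : X.Opens} (h : V ≤ U) (m : Γ(M, U)) (n : Γ(N, U)) :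
    res (CohB1.tensorMod M N) h (tm M N U m n) = tm M N V (res M h m) (res N h n) :=
  res_tmul M N h m n

end Groth.Agent.Helper1.TmulLib
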