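import Mathlib
import Groth.Agent.Lib.Helper1.TmulLib
import Groth.Agent.Lib.Helper1.LGen

set_option autoImplicit false
universe u
open CategoryTheory CategoryTheory.Limits AlgebraicGeometry TopologicalSpace Opposite

namespace Groth.Agent.Helper1.TwistSec

open Groth.Agent.Helper1.QcCech Groth.Agent.Helper1.SubSh Groth.Agent.Helper1.LGen
open Groth.Agent.Helper1.TmulLib Groth.Agent.Helper1

variable {X : Scheme.{u}}

/-- local equality of sections -/
theorem eq_of_locally (M : X.Modules) {O : X.Opens} (s t : Γ(M, O))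
    (h : ∀ x ∈ O, ∃ (W : X.Opens) (hW : W ≤ O), x ∈ W ∧ res M hW s = res M hW t) : s = t := by
  have h' : ∀ x : O, ∃ (W : X.Opens) (hW : W ≤ O), x.1 ∈ W ∧ res M hW s = res M hW t :=
    fun x => h x.1 x.2
  choose W hW hxW he using h'
  let FM : TopCat.Sheaf Ab X := ⟨M.presheaf, M.isSheaf⟩
  exact FM.eq_of_locally_eq' W O (fun x => homOfLE (hW x))
    (fun x hx => Opens.mem_iSup.2 ⟨⟨x, hx⟩, hxW ⟨x, hx⟩⟩) s t he

/-- gluing of compatible sections -/
theorem glue_of_compatible (M : X.Modules) {ι : Type*} (W : ι → X.Opens) (O : X.Opens)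
    (hWO : ∀ i, W i ≤ O) (hcov : O ≤ ⨆ i, W i) (sf : ∀ i, Γ(M, W i))
    (hc : ∀ i j, res M (inf_le_left : W i ⊓ W j ≤ W i) (sf i) =
      res M (inf_le_right : W i ⊓ W j ≤ W j) (sf j)) :
    ∃ s : Γ(M, O), ∀ i, res M (hWO i) s = sf i := by
  let FM : TopCat.Sheaf Ab X := ⟨M.presheaf, M.isSheaf⟩
  obtain ⟨s, hs, -⟩ := FM.existsUnique_gluing' W O (fun i => homOfLE (hWO i)) hcov sf hc
  exact ⟨s, hs⟩

variable {L : X.Modules}

/-- tensor powers of a local section -/
noncomputable def gpow {W : X.Opens} (a : Γ(L, W)) : (n : ℕ) → Γ(CohB1.tensorPow L n, W)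
  | 0 => (show Γ(Coh.structureModule X, W) from (1 : Γ(X, W)))
  | n + 1 => tm (CohB1.tensorPow L n) L W (gpow a n) a

theorem gpow_succ {W : X.Opens} (a : Γ(L, W)) (n : ℕ) :
    gpow a (n + 1) = tm (CohB1.tensorPow L n) L W (gpow a n) a := rfl

theorem res_gpow {W V : X.Opens} (h : V ≤ W) (a : Γ(L, W)) (n : ℕ) :
    res (CohB1.tensorPow L n) h (gpow a n) = gpow (res L h a) n := by
  induction n with
  | zero => exact map_one (resR h)
  | succ n ih =>
    change res (CohB1.tensorMod (CohB1.tensorPow L n) L) h (tm _ _ W (gpow a n) a) = _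
    rw [res_tm, ih]
    rfl

theorem gpow_smul {W : X.Opens} (r : Γ(X, W)) (a : Γ(L, W)) (n : ℕ) :
    gpow (r • a) n = r ^ n • gpow a n := by
  induction n with
  | zero =>
    rw [pow_zero, one_smul]
    rfl
  | succ n ih =>
    rw [gpow_succ, gpow_succ, ih, tm_smul_left, tm_smul_right, smul_smul, pow_succ]
    rfl

theorem pow_eq_gpow (s : Coh.structureModule X ⟶ L) (n : ℕ) (U : X.Opens) :
    SecTwist.pow s n U = gpow (secVal s U) n := by
  induction n with
  | zero => rfl
  | succ n ih =>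
    change SecTwist.tmul _ _ U (SecTwist.pow s n U) (SecTwist.val s U) = _
    rw [ih]
    rfl

theorem twist_eq (s : Coh.structureModule X ⟶ L) (n : ℕ) (F : X.Modules) (U : X.Opens)
    (t : Γ(F, U)) :
    SecTwist.twist s n F U t = tm F (CohB1.tensorPow L n) U t (gpow (secVal s U) n) := by
  change SecTwist.tmul _ _ U t (SecTwist.pow s n U) = _
  rw [pow_eq_gpow]
  rfl

theorem res_twist (s : Coh.structureModule X ⟶ L) (n : ℕ) (F : X.Modules) {U V : X.Opens}
    (h : V ≤ U) (t : Γ(F, U)) :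
    res (CohB1.tensorMod F (CohB1.tensorPow L n)) h (SecTwist.twist s n F U t) =
      SecTwist.twist s n F V (res F h t) :=
  SecTwist.map_twist s n F (homOfLE h) t

/-- the twist in terms of a local generator -/
theorem twist_eq_of_isGen (s : Coh.structureModule X ⟶ L) (n : ℕ) (F : X.Modules) {W : X.Opens}
    {a : Γ(L, W)} (φ : Γ(X, W)) (hφ : φ • a = secVal s W) (t : Γ(F, W)) :
    SecTwist.twist s n F W t = tm F (CohB1.tensorPow L n) W (φ ^ n • t) (gpow a n) := by
  rw [twist_eq, ← hφ, gpow_smul, tm_smul_right, tm_smul_left]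

end Groth.Agent.Helper1.TwistSec
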