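import Mathlib
import Groth.Agent.Lib.Helper1.TwistSec

set_option autoImplicit false
universe u
open CategoryTheory CategoryTheory.Limits AlgebraicGeometry TopologicalSpace Opposite TensorProduct
  MonoidalCategory

namespace Groth.Agent.Helper1.TensGen

open Groth.Agent.Helper1.QcCech Groth.Agent.Helper1.SubSh Groth.Agent.Helper1.LGen
open Groth.Agent.Helper1.TmulLib Groth.Agent.Helper1 Groth.Agent.Helper1.TwistSec

variable {X : Scheme.{u}} (M N : X.Modules)

theorem toPresheaf_toTensor :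
    (PresheafOfModules.toPresheaf _).map (SecTwist.toTensor M N) =
      CategoryTheory.toSheafify (Opens.grothendieckTopology X)
        (CohB1.tensorPre M N : X.PresheafOfModules).presheaf := by
  rfl

theorem li : Presheaf.IsLocallyInjective (Opens.grothendieckTopology X)
    ((PresheafOfModules.toPresheaf _).map (SecTwist.toTensor M N)) := by
  rw [toPresheaf_toTensor]
  exact ((Opens.grothendieckTopology X).W_toSheafify _).isLocallyInjective

theorem ls : Presheaf.IsLocallySurjective (Opens.grothendieckTopology X)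
    ((PresheafOfModules.toPresheaf _).map (SecTwist.toTensor M N)) := by
  rw [toPresheaf_toTensor]
  exact ((Opens.grothendieckTopology X).W_toSheafify _).isLocallySurjective

/-- restriction in the sectionwise tensor product -/
noncomputable def resP {U V : X.Opens} (h : V ≤ U) (p : (CohB1.tensorPre M N).obj (op U)) :
    (CohB1.tensorPre M N).obj (op V) :=
  ((CohB1.tensorPre M N).map (homOfLE h).op).hom p

/-- the canonical map to the sheafified tensor product, on sections -/
noncomputable def toT (U : X.Opens) (p : (CohB1.tensorPre M N).obj (op U)) :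
    Γ(CohB1.tensorMod M N, U) :=
  ((SecTwist.toTensor M N).app (op U)).hom p

theorem toT_pure (U : X.Opens) (m : Γ(M, U)) (n : Γ(N, U)) :
    toT M N U (pure M N U m n) = tm M N U m n := rfl

theorem res_toT {U V : X.Opens} (h : V ≤ U) (p : (CohB1.tensorPre M N).obj (op U)) :
    res (CohB1.tensorMod M N) h (toT M N U p) = toT M N V (resP M N h p) :=
  (PresheafOfModules.naturality_apply (SecTwist.toTensor M N) (homOfLE h).op p).symm

theorem resP_pure {U V : X.Opens} (h : V ≤ U) (m : Γ(M, U)) (n : Γ(N, U)) :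
    resP M N h (pure M N U m n) = pure M N V (res M h m) (res N h n) := rfl

theorem toT_locally_injective (U : X.Opens) (p q : (CohB1.tensorPre M N).obj (op U))
    (h : toT M N U p = toT M N U q) :
    ∀ x ∈ U, ∃ (V : X.Opens) (hV : V ≤ U), x ∈ V ∧ resP M N hV p = resP M N hV q := by
  intro x hx
  have := (li M N).equalizerSieve_mem (X := op U) p q h
  obtain ⟨V, f, hf, hxV⟩ := (Opens.mem_grothendieckTopology X).1 this x hx
  exact ⟨V, f.le, hxV, hf⟩

theorem toT_locally_surjective (U : X.Opens) (t : Γ(CohB1.tensorMod M N, U)) :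
    ∀ x ∈ U, ∃ (V : X.Opens) (hV : V ≤ U) (p : (CohB1.tensorPre M N).obj (op V)), x ∈ V ∧
      toT M N V p = res (CohB1.tensorMod M N) hV t := by
  intro x hx
  have := (ls M N).imageSieve_mem (U := U) t
  obtain ⟨V, f, ⟨p, hp⟩, hxV⟩ := (Opens.mem_grothendieckTopology X).1 this x hx
  exact ⟨V, f.le, p, hxV, hp⟩

theorem bijective_tmul_of_gen {R A B : Type*} [CommRing R] [AddCommGroup A] [Module R A]
    [AddCommGroup B] [Module R B] (b : B) (hb : Function.Bijective (fun r : R => r • b)) :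
    Function.Bijective (fun a : A => a ⊗ₜ[R] b) := by
  let e : R ≃ₗ[R] B := LinearEquiv.ofBijective (LinearMap.toSpanSingleton R B b) hb
  have he : e 1 = b := by
    change (1 : R) • b = b
    rw [one_smul]
  let E : A ≃ₗ[R] TensorProduct R A B :=
    (TensorProduct.rid R A).symm ≪≫ₗ TensorProduct.congr (LinearEquiv.refl R A) e
  have : (fun a : A => a ⊗ₜ[R] b) = E := by
    funext a
    change _ = TensorProduct.congr (LinearEquiv.refl R A) e ((TensorProduct.rid R A).symm a)
    rw [TensorProduct.rid_symm_apply, TensorProduct.congr_tmul, he]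
    rfl
  rw [this]
  exact E.bijective

theorem bijective_pure (W : X.Opens) (σ : Γ(N, W))
    (hσ : Function.Bijective (fun r : Γ(X, W) => r • σ)) :
    Function.Bijective (fun m : Γ(M, W) => pure M N W m σ) :=
  bijective_tmul_of_gen (R := (X.sheaf.obj ⋙ forget₂ CommRingCat RingCat.{u}).obj (op W))
    (A := (CohB1.toPMod M).obj (op W)) (B := (CohB1.toPMod N).obj (op W)) σ hσ

variable {M N}

theorem IsGen.bijective_self {W : X.Opens} {σ : Γ(N, W)} (hσ : IsGen N W σ) :
    Function.Bijective (fun r : Γ(X, W) => r • σ) := by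
  have := hσ W le_rfl
  simpa only [res_self] using this

variable (M)

theorem injective_tm_of_isGen {W : X.Opens} {σ : Γ(N, W)} (hσ : IsGen N W σ) :
    Function.Injective (fun m : Γ(M, W) => tm M N W m σ) := by
  intro m m' h
  apply eq_of_locally M
  intro x hx
  obtain ⟨V, hV, hxV, hp⟩ := toT_locally_injective M N W (pure M N W m σ) (pure M N W m' σ) h x hx
  refine ⟨V, hV, hxV, ?_⟩
  rw [resP_pure, resP_pure] at hp
  exact (bijective_pure M N V (res N hV σ) (IsGen.bijective_self (hσ.res hV))).1 hp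

theorem bijective_tm_of_isGen {W : X.Opens} {σ : Γ(N, W)} (hσ : IsGen N W σ) :
    Function.Bijective (fun m : Γ(M, W) => tm M N W m σ) := by
  refine ⟨injective_tm_of_isGen M hσ, fun t => ?_⟩
  have h1 : ∀ x : W, ∃ (V : X.Opens) (hV : V ≤ W) (m : Γ(M, V)), x.1 ∈ V ∧
      tm M N V m (res N hV σ) = res (CohB1.tensorMod M N) hV t := by
    intro x
    obtain ⟨V, hV, p, hxV, hp⟩ := toT_locally_surjective M N W t x.1 x.2
    obtain ⟨m, hm⟩ := (bijective_pure M N V (res N hV σ)
      (IsGen.bijective_self (hσ.res hV))).2 p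
    refine ⟨V, hV, m, hxV, ?_⟩
    rw [← hp, ← hm]
    rfl
  choose V hV m hxV hm using h1
  obtain ⟨m₀, hm₀⟩ := glue_of_compatible M V W hV
    (fun x hx => Opens.mem_iSup.2 ⟨⟨x, hx⟩, hxV ⟨x, hx⟩⟩) m (by
      intro i j
      have hi : V i ⊓ V j ≤ W := inf_le_left.trans (hV i)
      apply injective_tm_of_isGen M (hσ.res hi)
      change tm M N _ (res M _ (m i)) (res N hi σ) = tm M N _ (res M _ (m j)) (res N hi σ)
      have e1 : res N hi σ = res N (inf_le_left : V i ⊓ V j ≤ V i) (res N (hV i) σ) := by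
        rw [res_res]
      have e2 : res N hi σ = res N (inf_le_right : V i ⊓ V j ≤ V j) (res N (hV j) σ) := by
        rw [res_res]
      conv_lhs => rw [e1]
      conv_rhs => rw [e2]
      rw [← res_tm, ← res_tm, hm, hm, res_res, res_res])
  refine ⟨m₀, ?_⟩
  apply eq_of_locally
  intro x hx
  refine ⟨V ⟨x, hx⟩, hV ⟨x, hx⟩, hxV ⟨x, hx⟩, ?_⟩
  change res _ _ (tm M N W m₀ σ) = _
  rw [res_tm, hm₀, hm]

variable {M}

/-- the tensor of two free generators is a free generator -/
theorem isGen_tm {W : X.Opens} {τ : Γ(M, W)} {σ : Γ(N, W)} (hτ : IsGen M W τ) (hσ : IsGen N W σ) :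
    IsGen (CohB1.tensorMod M N) W (tm M N W τ σ) := by
  intro V hV
  have h1 := bijective_tm_of_isGen M (hσ.res hV)
  have h2 := hτ V hV
  have : (fun r : Γ(X, V) => r • res (CohB1.tensorMod M N) hV (tm M N W τ σ)) =
      (fun m : Γ(M, V) => tm M N V m (res N hV σ)) ∘ (fun r : Γ(X, V) => r • res M hV τ) := by
    funext r
    change _ = tm M N V (r • res M hV τ) (res N hV σ)
    rw [tm_smul_left, res_tm]
  rw [this]
  exact h1.comp h2

/-- common local generators for two invertible modules -/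
theorem exists_isGen₂ {L L' : X.Modules} (hL : PicF.IsInvertible L) (hL' : PicF.IsInvertible L')
    (x : X) : ∃ (W : X.Opens) (a : Γ(L, W)) (b : Γ(L', W)), x ∈ W ∧ IsGen L W a ∧ IsGen L' W b := by
  obtain ⟨W₁, a, hx₁, ha⟩ := exists_isGen hL x
  obtain ⟨W₂, b, hx₂, hb⟩ := exists_isGen hL' x
  exact ⟨W₁ ⊓ W₂, res L inf_le_left a, res L' inf_le_right b, ⟨hx₁, hx₂⟩, ha.res _, hb.res _⟩

theorem secVal_tmulHom {L L' : X.Modules} (f : Coh.structureModule X ⟶ L)
    (g : Coh.structureModule X ⟶ L') (W : X.Opens) :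
    secVal (SecTwist.tmulHom f g) W = tm L L' W (secVal f W) (secVal g W) :=
  SecTwist.val_tmulHom f g W

theorem genLocus_tmulHom {L L' : X.Modules} (hL : PicF.IsInvertible L)
    (hL' : PicF.IsInvertible L') (f : Coh.structureModule X ⟶ L)
    (g : Coh.structureModule X ⟶ L') :
    CohB1.genLocus (CohB1.tensorMod L L') (SecTwist.tmulHom f g) =
      CohB1.genLocus L f ⊓ CohB1.genLocus L' g := by
  ext x
  obtain ⟨W, a, b, hxW, ha, hb⟩ := exists_isGen₂ hL hL' x
  obtain ⟨φ, hφ⟩ := ha.exists_coeff (secVal f W)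
  obtain ⟨γ, hγ⟩ := hb.exists_coeff (secVal g W)
  have h1 := genLocus_inf_eq_basicOpen f ha φ hφ
  have h2 := genLocus_inf_eq_basicOpen g hb γ hγ
  have h3 := genLocus_inf_eq_basicOpen (SecTwist.tmulHom f g) (isGen_tm ha hb) (φ * γ) (by
    rw [secVal_tmulHom, ← hφ, ← hγ, tm_smul_left, tm_smul_right, smul_smul])
  rw [X.basicOpen_mul] at h3
  have e1 : x ∈ CohB1.genLocus (CohB1.tensorMod L L') (SecTwist.tmulHom f g) ↔
      x ∈ CohB1.genLocus (CohB1.tensorMod L L') (SecTwist.tmulHom f g) ⊓ W :=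
    ⟨fun h => ⟨h, hxW⟩, fun h => h.1⟩
  have e2 : x ∈ CohB1.genLocus L f ↔ x ∈ CohB1.genLocus L f ⊓ W :=
    ⟨fun h => ⟨h, hxW⟩, fun h => h.1⟩
  have e3 : x ∈ CohB1.genLocus L' g ↔ x ∈ CohB1.genLocus L' g ⊓ W :=
    ⟨fun h => ⟨h, hxW⟩, fun h => h.1⟩
  change x ∈ CohB1.genLocus (CohB1.tensorMod L L') (SecTwist.tmulHom f g) ↔
    (x ∈ CohB1.genLocus L f ∧ x ∈ CohB1.genLocus L' g)
  rw [e1, e2, e3, h1, h2, h3]
  rfl

end Groth.Agent.Helper1.TensGen
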