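import Mathlib
import Groth.Agent.Lib.Helper1.TensGen

set_option autoImplicit false
universe u
open CategoryTheory CategoryTheory.Limits AlgebraicGeometry TopologicalSpace Opposite

namespace Groth.Agent.Helper1.TwForm

open Groth.Agent.Helper1.QcCech Groth.Agent.Helper1.SubSh Groth.Agent.Helper1.LGen
open Groth.Agent.Helper1.TmulLib Groth.Agent.Helper1 Groth.Agent.Helper1.TwistSec
open Groth.Agent.Helper1.TensGen

variable {X : Scheme.{u}}

/-- a morphism of modules from sectionwise data -/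
noncomputable def homMk (M N : X.Modules) (φ : ∀ U : X.Opens, Γ(M, U) → Γ(N, U))
    (hadd : ∀ U a b, φ U (a + b) = φ U a + φ U b)
    (hsmul : ∀ U (r : Γ(X, U)) a, φ U (r • a) = r • φ U a)
    (hres : ∀ (U V : X.Opens) (h : V ≤ U) a, res N h (φ U a) = φ V (res M h a)) : M ⟶ N :=
  ⟨PresheafOfModules.homMk
    { app := fun U => AddCommGrpCat.ofHom
        { toFun := φ U.unop
          map_zero' := by
            have := hadd U.unop 0 0
            rw [add_zero] at this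
            exact left_eq_add.mp this
          map_add' := hadd U.unop }
      naturality := by
        intro U V f
        ext a
        exact (hres U.unop V.unop f.unop.le a).symm }
    (fun U r m => hsmul U.unop r m)⟩

theorem homMk_app (M N : X.Modules) (φ : ∀ U : X.Opens, Γ(M, U) → Γ(N, U))
    (hadd hsmul hres) (U : X.Opens) (a : Γ(M, U)) :
    (homMk M N φ hadd hsmul hres).app U a = φ U a := rfl

theorem isIso_of_app_bijective {M N : X.Modules} (φ : M ⟶ N)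
    (h : ∀ U : X.Opens, Function.Bijective (φ.app U)) : IsIso φ := by
  rw [Scheme.Modules.Hom.isIso_iff_isIso_app]
  intro U
  exact (ConcreteCategory.isIso_iff_bijective _).2 (h U)




/-- a unit multiple of a generator is a generator -/
theorem IsGen.smul_unit {L : X.Modules} {W : X.Opens} {a : Γ(L, W)} (ha : IsGen L W a)
    (u : (Γ(X, W))ˣ) : IsGen L W ((u : Γ(X, W)) • a) := by
  intro V hV
  have h1 := ha V hV
  have hu : IsUnit (resR hV (u : Γ(X, W))) := (u.isUnit).map (resR hV)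
  have h2 := bijective_mul_right_of_isUnit hu
  have : (fun r : Γ(X, V) => r • res L hV ((u : Γ(X, W)) • a)) =
      (fun r : Γ(X, V) => r • res L hV a) ∘ (fun r : Γ(X, V) => r * resR hV (u : Γ(X, W))) := by
    funext r
    change _ = (r * resR hV (u : Γ(X, W))) • res L hV a
    rw [res_smul, mul_smul]
  rw [this]
  exact h1.comp h2

/-- two generators differ by a unit -/
theorem IsGen.exists_unit {L : X.Modules} {W : X.Opens} {a a' : Γ(L, W)} (ha : IsGen L W a)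
    (ha' : IsGen L W a') : ∃ u : (Γ(X, W))ˣ, a' = (u : Γ(X, W)) • a := by
  obtain ⟨φ, hφ⟩ := ha.exists_coeff a'
  obtain ⟨ψ, hψ⟩ := ha'.exists_coeff a
  have h1 : (ψ * φ) • a = (1 : Γ(X, W)) • a := by
    rw [mul_smul, hφ, hψ, one_smul]
  have h2 : ψ * φ = 1 := (IsGen.bijective_self ha).1 h1
  exact ⟨⟨φ, ψ, by rw [mul_comm]; exact h2, h2⟩, hφ.symm⟩

/-- a pair of local generators of two modules -/
structure Frame (L₁ L₂ : X.Modules) (W : X.Opens) where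
  a₁ : Γ(L₁, W)
  a₂ : Γ(L₂, W)
  h₁ : IsGen L₁ W a₁
  h₂ : IsGen L₂ W a₂

namespace Frame

variable {L₁ L₂ : X.Modules} {W : X.Opens}

@[ext] theorem ext' {f g : Frame L₁ L₂ W} (h₁ : f.a₁ = g.a₁) (h₂ : f.a₂ = g.a₂) : f = g := by
  cases f; cases g; cases h₁; cases h₂; rfl

/-- restriction of a frame -/
noncomputable def res (f : Frame L₁ L₂ W) {V : X.Opens} (h : V ≤ W) : Frame L₁ L₂ V :=
  ⟨QcCech.res L₁ h f.a₁, QcCech.res L₂ h f.a₂, f.h₁.res h, f.h₂.res h⟩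

/-- rescaling the first generator -/
noncomputable def smul₁ (f : Frame L₁ L₂ W) (u : (Γ(X, W))ˣ) : Frame L₁ L₂ W :=
  ⟨(u : Γ(X, W)) • f.a₁, f.a₂, IsGen.smul_unit f.h₁ u, f.h₂⟩

/-- rescaling the second generator -/
noncomputable def smul₂ (f : Frame L₁ L₂ W) (u : (Γ(X, W))ˣ) : Frame L₁ L₂ W :=
  ⟨f.a₁, (u : Γ(X, W)) • f.a₂, f.h₁, IsGen.smul_unit f.h₂ u⟩

theorem exists_units (f g : Frame L₁ L₂ W) :
    ∃ u₁ u₂ : (Γ(X, W))ˣ, g = (f.smul₁ u₁).smul₂ u₂ := by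
  obtain ⟨u₁, hu₁⟩ := IsGen.exists_unit f.h₁ g.h₁
  obtain ⟨u₂, hu₂⟩ := IsGen.exists_unit f.h₂ g.h₂
  exact ⟨u₁, u₂, Frame.ext' hu₁ hu₂⟩

theorem res_res (f : Frame L₁ L₂ W) {V V' : X.Opens} (h : V ≤ W) (h' : V' ≤ V) :
    (f.res h).res h' = f.res (h'.trans h) :=
  Frame.ext' (QcCech.res_res _ _ _ _) (QcCech.res_res _ _ _ _)

/-- the restriction of a unit -/
noncomputable def resU {V : X.Opens} (h : V ≤ W) (u : (Γ(X, W))ˣ) : (Γ(X, V))ˣ :=
  Units.map (resR h).toMonoidHom u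

theorem res_smul₁ (f : Frame L₁ L₂ W) (u : (Γ(X, W))ˣ) {V : X.Opens} (h : V ≤ W) :
    (f.smul₁ u).res h = (f.res h).smul₁ (resU h u) :=
  Frame.ext' (QcCech.res_smul _ _ _ _) rfl

theorem res_smul₂ (f : Frame L₁ L₂ W) (u : (Γ(X, W))ˣ) {V : X.Opens} (h : V ≤ W) :
    (f.smul₂ u).res h = (f.res h).smul₂ (resU h u) :=
  Frame.ext' rfl (QcCech.res_smul _ _ _ _)

end Frame

/-- `G` is a form of `F` twisted by `L₁^{d₁} ⊗ L₂^{d₂}` -/
structure Tw (L₁ L₂ F : X.Modules) (d₁ d₂ : ℤ) (G : X.Modules) where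
  θ : ∀ (W : X.Opens), Frame L₁ L₂ W → Γ(F, W) → Γ(G, W)
  bij : ∀ W f, Function.Bijective (θ W f)
  add : ∀ W f m m', θ W f (m + m') = θ W f m + θ W f m'
  smul : ∀ W f (r : Γ(X, W)) m, θ W f (r • m) = r • θ W f m
  res : ∀ (W V : X.Opens) (h : V ≤ W) f m,
    QcCech.res G h (θ W f m) = θ V (f.res h) (QcCech.res F h m)
  unit₁ : ∀ W f (u : (Γ(X, W))ˣ) m,
    θ W (f.smul₁ u) m = ((u ^ d₁ : (Γ(X, W))ˣ) : Γ(X, W)) • θ W f m
  unit₂ : ∀ W f (u : (Γ(X, W))ˣ) m,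
    θ W (f.smul₂ u) m = ((u ^ d₂ : (Γ(X, W))ˣ) : Γ(X, W)) • θ W f m



namespace Tw

variable {L₁ L₂ F G G' : X.Modules} {d₁ d₂ : ℤ}

/-- the inverse of `θ` -/
noncomputable def inv (T : Tw L₁ L₂ F d₁ d₂ G) (W : X.Opens) (f : Frame L₁ L₂ W) (g : Γ(G, W)) :
    Γ(F, W) :=
  Function.surjInv (T.bij W f).2 g

theorem θ_inv (T : Tw L₁ L₂ F d₁ d₂ G) (W : X.Opens) (f : Frame L₁ L₂ W) (g : Γ(G, W)) :
    T.θ W f (T.inv W f g) = g := Function.surjInv_eq _ g

theorem inv_θ (T : Tw L₁ L₂ F d₁ d₂ G) (W : X.Opens) (f : Frame L₁ L₂ W) (m : Γ(F, W)) :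
    T.inv W f (T.θ W f m) = m := (T.bij W f).1 (T.θ_inv W f _)

theorem inv_eq (T : Tw L₁ L₂ F d₁ d₂ G) (W : X.Opens) (f : Frame L₁ L₂ W) (g : Γ(G, W))
    (m : Γ(F, W)) (h : T.θ W f m = g) : T.inv W f g = m := by
  rw [← h, inv_θ]

/-- the transition map between two forms of the same type -/
noncomputable def trans (T : Tw L₁ L₂ F d₁ d₂ G) (T' : Tw L₁ L₂ F d₁ d₂ G') (W : X.Opens)
    (f : Frame L₁ L₂ W) (g : Γ(G, W)) : Γ(G', W) :=
  T'.θ W f (T.inv W f g)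

variable (T : Tw L₁ L₂ F d₁ d₂ G) (T' : Tw L₁ L₂ F d₁ d₂ G')

theorem trans_θ (W : X.Opens) (f : Frame L₁ L₂ W) (m : Γ(F, W)) :
    trans T T' W f (T.θ W f m) = T'.θ W f m := by
  rw [trans, inv_θ]

theorem trans_trans (W : X.Opens) (f : Frame L₁ L₂ W) (g : Γ(G', W)) :
    trans T T' W f (trans T' T W f g) = g := by
  rw [trans, trans, inv_θ, θ_inv]

theorem trans_smul₁ (W : X.Opens) (f : Frame L₁ L₂ W) (u : (Γ(X, W))ˣ) (g : Γ(G, W)) :
    trans T T' W (f.smul₁ u) g = trans T T' W f g := by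
  have h1 : T.inv W f g = ((u ^ d₁ : (Γ(X, W))ˣ) : Γ(X, W)) • T.inv W (f.smul₁ u) g := by
    apply T.inv_eq
    rw [T.smul, ← T.unit₁, θ_inv]
  rw [trans, trans, h1, T'.smul, T'.unit₁]

theorem trans_smul₂ (W : X.Opens) (f : Frame L₁ L₂ W) (u : (Γ(X, W))ˣ) (g : Γ(G, W)) :
    trans T T' W (f.smul₂ u) g = trans T T' W f g := by
  have h1 : T.inv W f g = ((u ^ d₂ : (Γ(X, W))ˣ) : Γ(X, W)) • T.inv W (f.smul₂ u) g := by
    apply T.inv_eq
    rw [T.smul, ← T.unit₂, θ_inv]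
  rw [trans, trans, h1, T'.smul, T'.unit₂]

theorem trans_indep (W : X.Opens) (f f' : Frame L₁ L₂ W) (g : Γ(G, W)) :
    trans T T' W f g = trans T T' W f' g := by
  obtain ⟨u₁, u₂, rfl⟩ := f.exists_units f'
  rw [trans_smul₂, trans_smul₁]

theorem trans_res (W V : X.Opens) (h : V ≤ W) (f : Frame L₁ L₂ W) (g : Γ(G, W)) :
    QcCech.res G' h (trans T T' W f g) = trans T T' V (f.res h) (QcCech.res G h g) := by
  have h1 : QcCech.res G h g = T.θ V (f.res h) (QcCech.res F h (T.inv W f g)) := by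
    rw [← T.res, θ_inv]
  rw [h1, trans_θ, trans, T'.res]

theorem trans_add (W : X.Opens) (f : Frame L₁ L₂ W) (g g' : Γ(G, W)) :
    trans T T' W f (g + g') = trans T T' W f g + trans T T' W f g' := by
  have h1 : T.inv W f (g + g') = T.inv W f g + T.inv W f g' := by
    apply T.inv_eq
    rw [T.add, θ_inv, θ_inv]
  rw [trans, h1, T'.add]
  rfl

theorem trans_smul (W : X.Opens) (f : Frame L₁ L₂ W) (r : Γ(X, W)) (g : Γ(G, W)) :
    trans T T' W f (r • g) = r • trans T T' W f g := by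
  have h1 : T.inv W f (r • g) = r • T.inv W f g := by
    apply T.inv_eq
    rw [T.smul, θ_inv]
  rw [trans, h1, T'.smul]
  rfl

end Tw

end Groth.Agent.Helper1.TwForm
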