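import Mathlib
import Groth.Agent.Lib.Helper1.TwForm1

set_option autoImplicit false
universe u
open CategoryTheory CategoryTheory.Limits AlgebraicGeometry TopologicalSpace Opposite

namespace Groth.Agent.Helper1.AffExt

open Groth.Agent.Helper1.QcCech Groth.Agent.Helper1.TwistSec Groth.Agent.Helper1.TwForm

variable {S : Scheme.{u}}

/-- every point of the intersection of two affine opens has a neighbourhood which is a basic open
of both -/
theorem exists_basic_both {U U' : S.Opens} (hU : IsAffineOpen U) (hU' : IsAffineOpen U')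
    {x : S} (hx : x ∈ U) (hx' : x ∈ U') :
    ∃ (f : Γ(S, U)) (g : Γ(S, U')), S.basicOpen f = S.basicOpen g ∧ x ∈ S.basicOpen f := by
  obtain ⟨f, g, e, hxf⟩ := exists_basicOpen_le_affine_inter hU hU' x ⟨hx, hx'⟩
  exact ⟨f, g, e, hxf⟩

/-- a family of semilinear maps on the affine opens, compatible with restriction to basic opens -/
structure Fam (E G : S.Modules) where
  f : ∀ (U : S.Opens) (_ : IsAffineOpen U), Γ(E, U) → Γ(G, U)
  hadd : ∀ U hU a b, f U hU (a + b) = f U hU a + f U hU b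
  hsmul : ∀ U hU (r : Γ(S, U)) a, f U hU (r • a) = r • f U hU a
  hres : ∀ U (hU : IsAffineOpen U) (r : Γ(S, U)) a,
    res G (S.basicOpen_le r) (f U hU a) = f (S.basicOpen r) (hU.basicOpen r) (res E (S.basicOpen_le r) a)

namespace Fam

variable {E G : S.Modules} (T : Fam E G)

/-- compatibility for an arbitrary pair of affine opens, locally -/
theorem res_eq {U U' : S.Opens} (hU : IsAffineOpen U) (hU' : IsAffineOpen U') {W : S.Opens}
    (hWU : U ≤ W) (hWU' : U' ≤ W) (a : Γ(E, W)) :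
    res G (inf_le_left : U ⊓ U' ≤ U) (T.f U hU (res E hWU a)) =
      res G (inf_le_right : U ⊓ U' ≤ U') (T.f U' hU' (res E hWU' a)) := by
  apply eq_of_locally
  intro x hx
  obtain ⟨f, g, e, hxf⟩ := exists_basic_both hU hU' hx.1 hx.2
  have h1 : S.basicOpen f ≤ U ⊓ U' := le_inf (S.basicOpen_le f) (e ▸ S.basicOpen_le g)
  refine ⟨S.basicOpen f, h1, hxf, ?_⟩
  rw [res_res, res_res]
  have e1 := T.hres U hU f (res E hWU a)
  rw [res_res] at e1
  rw [e1]
  have e2 := T.hres U' hU' g (res E hWU' a)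
  rw [res_res] at e2
  have key : ∀ (O : S.Opens) (hO : O = S.basicOpen g) (hOa : IsAffineOpen O) (hOU' : O ≤ U'),
      res G hOU' (T.f U' hU' (res E hWU' a)) = T.f O hOa (res E (hOU'.trans hWU') a) := by
    intro O hO hOa hOU'
    subst hO
    exact e2
  exact (key _ e (hU.basicOpen f) _).symm

theorem exists_glue (W : S.Opens) (a : Γ(E, W)) :
    ∃ b : Γ(G, W), ∀ (U : S.Opens) (hU : IsAffineOpen U) (hUW : U ≤ W),
      res G hUW b = T.f U hU (res E hUW a) := by
  let I := {U : S.Opens // IsAffineOpen U ∧ U ≤ W}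
  obtain ⟨b, hb⟩ := glue_of_compatible G (fun i : I => i.1) W (fun i => i.2.2)
    (by
      intro x hx
      obtain ⟨_, ⟨U, hU, rfl⟩, hxU, hUW⟩ := S.isBasis_affineOpens.exists_subset_of_mem_open hx W.2
      exact Opens.mem_iSup.2 ⟨⟨U, hU, hUW⟩, hxU⟩)
    (fun i => T.f i.1 i.2.1 (res E i.2.2 a))
    (fun i j => T.res_eq i.2.1 j.2.1 i.2.2 j.2.2 a)
  exact ⟨b, fun U hU hUW => hb ⟨U, hU, hUW⟩⟩

/-- the glued map on sections -/
noncomputable def Ψ (W : S.Opens) (a : Γ(E, W)) : Γ(G, W) := (T.exists_glue W a).choose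

theorem Ψ_spec (W : S.Opens) (a : Γ(E, W)) (U : S.Opens) (hU : IsAffineOpen U) (hUW : U ≤ W) :
    res G hUW (T.Ψ W a) = T.f U hU (res E hUW a) := (T.exists_glue W a).choose_spec U hU hUW

theorem eq_of_affine {W : S.Opens} (b b' : Γ(G, W))
    (h : ∀ (U : S.Opens) (_ : IsAffineOpen U) (hUW : U ≤ W), res G hUW b = res G hUW b') :
    b = b' := by
  apply eq_of_locally
  intro x hx
  obtain ⟨_, ⟨U, hU, rfl⟩, hxU, hUW⟩ := S.isBasis_affineOpens.exists_subset_of_mem_open hx W.2
  exact ⟨U, hUW, hxU, h U hU hUW⟩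

theorem Ψ_add (W : S.Opens) (a a' : Γ(E, W)) : T.Ψ W (a + a') = T.Ψ W a + T.Ψ W a' := by
  apply eq_of_affine
  intro U hU hUW
  rw [map_add, T.Ψ_spec _ _ U hU, T.Ψ_spec _ _ U hU, T.Ψ_spec _ _ U hU, map_add, T.hadd]

theorem Ψ_smul (W : S.Opens) (r : Γ(S, W)) (a : Γ(E, W)) : T.Ψ W (r • a) = r • T.Ψ W a := by
  apply eq_of_affine
  intro U hU hUW
  rw [res_smul, T.Ψ_spec _ _ U hU, T.Ψ_spec _ _ U hU, res_smul, T.hsmul]

theorem Ψ_res (W W' : S.Opens) (h : W' ≤ W) (a : Γ(E, W)) :
    res G h (T.Ψ W a) = T.Ψ W' (res E h a) := by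
  apply eq_of_affine
  intro U hU hUW
  rw [res_res, T.Ψ_spec _ _ U hU, T.Ψ_spec _ _ U hU, res_res]

/-- **the morphism of modules extending a family on the affine opens** -/
noncomputable def hom : E ⟶ G := homMk E G T.Ψ T.Ψ_add T.Ψ_smul T.Ψ_res

theorem hom_app (U : S.Opens) (hU : IsAffineOpen U) (a : Γ(E, U)) :
    T.hom.app U a = T.f U hU a := by
  have := T.Ψ_spec U a U hU le_rfl
  rwa [res_self, res_self] at this

end Fam

/-- morphisms of modules agreeing on affine opens are equal -/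
theorem hom_ext_affine {E G : S.Modules} {φ ψ : E ⟶ G}
    (h : ∀ (U : S.Opens) (_ : IsAffineOpen U) (a : Γ(E, U)), φ.app U a = ψ.app U a) : φ = ψ := by
  ext W a
  apply Fam.eq_of_affine
  intro U hU hUW
  have e1 : res G hUW (φ.app W a) = φ.app U (res E hUW a) := by
    have := φ.mapPresheaf.naturality (homOfLE hUW).op
    exact (ConcreteCategory.congr_hom this a).symm
  have e2 : res G hUW (ψ.app W a) = ψ.app U (res E hUW a) := by
    have := ψ.mapPresheaf.naturality (homOfLE hUW).op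
    exact (ConcreteCategory.congr_hom this a).symm
  rw [e1, e2, h U hU]

end Groth.Agent.Helper1.AffExt
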