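import Mathlib
import Groth.Prelude.Def_RelSpec

set_option autoImplicit false
universe u
open CategoryTheory CategoryTheory.Limits AlgebraicGeometry TopologicalSpace Opposite

/-!
# Gluing a coequifibered presheaf of rings on the affine opens into a quasi-coherent algebra
-/

namespace Groth.Agent.Helper1.AffGlue

variable {S : Scheme.{u}} {F : S.AffineZariskiSiteᵒᵖ ⥤ CommRingCat.{u}}
  {α : (Scheme.AffineZariskiSite.toOpensFunctor S).op ⋙ S.presheaf ⟶ F} (H : α.Coequifibered)

/-- the gluing datum -/
noncomputable def glueData : (Scheme.AffineZariskiSite.directedCover S).RelativeGluingData :=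
  Scheme.AffineZariskiSite.relativeGluingData H

instance : ((glueData H).functor ⋙ Scheme.forget).IsLocallyDirected :=
  Scheme.Cover.RelativeGluingData.instIsLocallyDirectedI₀CompFunctorForgetOfIsThin ..

/-- the glued scheme -/
noncomputable def spec : Scheme.{u} := (glueData H).glued

/-- the structure morphism -/
noncomputable def π : spec H ⟶ S := (glueData H).toBase

/-- the charts -/
noncomputable def ι (U : S.AffineZariskiSite) : Spec (F.obj (op U)) ⟶ spec H :=
  (glueData H).cover.f U

variable (U : S.AffineZariskiSite)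

instance : IsOpenImmersion (ι H U) := (glueData H).cover.map_prop _

theorem ι_π : ι H U ≫ π H = Spec.map (α.app (op U)) ≫ U.2.fromSpec :=
  colimit.ι_desc _ _

theorem π_preimage : π H ⁻¹ᵁ U.1 = (ι H U).opensRange := by
  simpa using! (glueData H).toBase_preimage_eq_opensRange_ι U

theorem top_le_preimage : (⊤ : (Spec (F.obj (op U))).Opens) ≤ ι H U ⁻¹ᵁ (π H ⁻¹ᵁ U.1) := by
  rw [← Scheme.Hom.comp_preimage, ι_π, Scheme.Hom.comp_preimage]
  have h : U.2.fromSpec ⁻¹ᵁ U.1 = ⊤ := U.2.fromSpec_preimage_self
  erw [h]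
  exact le_top

instance isAffineHom_π : IsAffineHom (π H) where
  isAffine_preimage U hU := by
    rw [π_preimage H ⟨U, hU⟩]
    exact isAffineOpen_opensRange (ι H ⟨U, hU⟩)

/-- identification of functions over an affine open -/
noncomputable def gammaAff : Γ(spec H, π H ⁻¹ᵁ U.1) ⟶ F.obj (op U) :=
  (ι H U).appLE (π H ⁻¹ᵁ U.1) ⊤ (top_le_preimage H U) ≫ (Scheme.ΓSpecIso (F.obj (op U))).hom

theorem ι_res {U V : S.AffineZariskiSite} (i : V ⟶ U) :
    Spec.map (F.map i.op) ≫ ι H U = ι H V :=
  colimit.w (glueData H).functor i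

theorem isIso_gammaAff : IsIso (gammaAff H U) := by
  unfold gammaAff
  have h1 : IsIso ((ι H U).appLE (π H ⁻¹ᵁ U.1) ⊤ (top_le_preimage H U)) := by
    rw [Scheme.Hom.appLE]
    have : IsIso ((ι H U).app (π H ⁻¹ᵁ U.1)) :=
      Scheme.Hom.isIso_app _ _ (π_preimage H U).le
    have h2 : IsIso ((Spec (F.obj (op U))).presheaf.map
        (homOfLE (top_le_preimage H U)).op) := by
      have : IsIso (homOfLE (top_le_preimage H U)) :=
        ⟨homOfLE (le_top), Subsingleton.elim _ _, Subsingleton.elim _ _⟩
      infer_instance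
    infer_instance
  infer_instance

set_option backward.isDefEq.respectTransparency false in
/-- naturality of `gammaAff` -/
theorem gammaAff_naturality {U V : S.AffineZariskiSite} (i : V ⟶ U) :
    (spec H).presheaf.map (homOfLE ((π H).preimage_mono
        (Scheme.AffineZariskiSite.toOpens_mono i.le))).op ≫ gammaAff H V =
      gammaAff H U ≫ F.map i.op := by
  simp only [gammaAff, Category.assoc, ← Scheme.ΓSpecIso_naturality]
  simp only [← Category.assoc]
  congr 1
  simp only [Scheme.Hom.appTop, Scheme.Hom.appLE, Category.assoc]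
  have h1 := (Scheme.Hom.comp_app (Spec.map (F.map i.op)) (ι H U) (π H ⁻¹ᵁ U.1)).symm
  rw [Scheme.Hom.naturality_assoc, Scheme.Hom.naturality, reassoc_of% h1,
    Scheme.Hom.congr_app (ι_res H i), Category.assoc, ← Functor.map_comp, ← Functor.map_comp]
  rfl

set_option backward.isDefEq.respectTransparency false in
theorem π_app_gammaAff : (π H).app U.1 ≫ gammaAff H U = α.app (op U) := by
  have h1 := Scheme.Hom.congr_app (ι_π H U) U.1
  have h2 := (Scheme.Hom.comp_app (ι H U) (π H) U.1).symm
  have hk : ∀ k : (op ⊤ : (Spec (F.obj (op U))).Opensᵒᵖ) ⟶ op ⊤,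
      (Spec (F.obj (op U))).presheaf.map k = 𝟙 _ := fun k => by
    rw [Subsingleton.elim k (𝟙 _)]; exact CategoryTheory.Functor.map_id _ _
  simp only [gammaAff, Scheme.Hom.appLE, Category.assoc]
  rw [reassoc_of% h2, h1, Scheme.Hom.comp_app, U.2.fromSpec_app_self]
  simp only [Category.assoc]
  rw [Scheme.Hom.naturality_assoc]
  simp only [← Functor.map_comp_assoc]
  erw [hk, Category.id_comp]
  rw [← cancel_epi (Scheme.ΓSpecIso Γ(S, U.1)).hom, Iso.hom_inv_id_assoc]
  erw [Scheme.ΓSpecIso_naturality]
  rfl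

/-- the glued quasi-coherent algebra -/
noncomputable def alg : RelSpec.QCAlg S := RelSpec.QCAlg.directImage (π H)

/-- the inverse identification -/
noncomputable def gammaInv : F.obj (op U) ⟶ Γ(spec H, π H ⁻¹ᵁ U.1) :=
  haveI := isIso_gammaAff H U
  inv (gammaAff H U)

@[reassoc (attr := simp)]
theorem gammaInv_gammaAff : gammaInv H U ≫ gammaAff H U = 𝟙 _ := by
  have := isIso_gammaAff H U
  exact IsIso.inv_hom_id _

@[reassoc (attr := simp)]
theorem gammaAff_gammaInv : gammaAff H U ≫ gammaInv H U = 𝟙 _ := by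
  have := isIso_gammaAff H U
  exact IsIso.hom_inv_id _

theorem gammaInv_naturality {U V : S.AffineZariskiSite} (i : V ⟶ U) :
    gammaInv H U ≫ (spec H).presheaf.map (homOfLE ((π H).preimage_mono
        (Scheme.AffineZariskiSite.toOpens_mono i.le))).op =
      F.map i.op ≫ gammaInv H V := by
  have := isIso_gammaAff H V
  rw [← cancel_mono (gammaAff H V), Category.assoc, Category.assoc, gammaInv_gammaAff,
    Category.comp_id, gammaAff_naturality, gammaInv_gammaAff_assoc]

theorem α_gammaInv : α.app (op U) ≫ gammaInv H U = (π H).app U.1 := by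
  rw [← π_app_gammaAff H U]
  refine (Category.assoc _ _ _).trans ?_
  rw [gammaAff_gammaInv]
  exact Category.comp_id _

/-- `gammaAff` as a natural transformation on the affine opens -/
noncomputable def gammaRestrict :
    (Scheme.AffineZariskiSite.toOpensFunctor S).op ⋙ ((π H).base _* (spec H).presheaf) ⟶ F where
  app U := gammaAff H U.unop
  naturality _ _ i := gammaAff_naturality H i.unop

section Hom

variable (B : RelSpec.QCAlg S)
  (τ : F ⟶ (Scheme.AffineZariskiSite.toOpensFunctor S).op ⋙ B.presheaf)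

/-- the underlying map of presheaves of rings -/
noncomputable def homOfAux : (π H).base _* (spec H).presheaf ⟶ B.presheaf :=
  Functor.IsCoverDense.restrictHomEquivHom (G := Scheme.AffineZariskiSite.toOpensFunctor S)
    (K := Opens.grothendieckTopology S) (ℱ := (π H).base _* (spec H).presheaf)
    (ℱ' := (⟨B.presheaf, B.isSheaf⟩ : TopCat.Sheaf CommRingCat.{u} S.carrier))
    (gammaRestrict H ≫ τ)

theorem homOfAux_restrict :
    (Scheme.AffineZariskiSite.toOpensFunctor S).op.whiskerLeft (homOfAux H B τ) =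
      gammaRestrict H ≫ τ :=
  (Functor.IsCoverDense.restrictHomEquivHom (G := Scheme.AffineZariskiSite.toOpensFunctor S)
    (K := Opens.grothendieckTopology S) (ℱ := (π H).base _* (spec H).presheaf)
    (ℱ' := (⟨B.presheaf, B.isSheaf⟩ : TopCat.Sheaf CommRingCat.{u} S.carrier))).symm_apply_apply _

theorem homOfAux_app (U : S.AffineZariskiSite) :
    (homOfAux H B τ).app (op U.1) = gammaAff H U ≫ τ.app (op U) :=
  NatTrans.congr_app (homOfAux_restrict H B τ) (op U)

/-- maps of presheaves of rings into a sheaf agreeing on affine opens are equal -/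
theorem presheafHom_ext {P : TopCat.Presheaf CommRingCat.{u} S.carrier}
    {f g : P ⟶ B.presheaf}
    (h : ∀ U : S.AffineZariskiSite, f.app (op U.1) = g.app (op U.1)) : f = g := by
  apply (Functor.IsCoverDense.restrictHomEquivHom (G := Scheme.AffineZariskiSite.toOpensFunctor S)
    (K := Opens.grothendieckTopology S) (ℱ := P)
    (ℱ' := (⟨B.presheaf, B.isSheaf⟩ : TopCat.Sheaf CommRingCat.{u} S.carrier))).symm.injective
  ext U : 2
  exact h U.unop

/-- **homomorphisms out of the glued algebra** -/
noncomputable def homOf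
    (hτ : ∀ U : S.AffineZariskiSite, α.app (op U) ≫ τ.app (op U) = B.str.app (op U.1)) :
    alg H ⟶ B where
  hom := homOfAux H B τ
  comm := by
    apply presheafHom_ext B
    intro U
    change (π H).app U.1 ≫ (homOfAux H B τ).app (op U.1) = B.str.app (op U.1)
    have h1 := π_app_gammaAff H U
    rw [homOfAux_app, ← hτ U, ← h1]
    exact (Category.assoc _ _ _).symm

theorem homOf_app
    (hτ : ∀ U : S.AffineZariskiSite, α.app (op U) ≫ τ.app (op U) = B.str.app (op U.1))
    (U : S.AffineZariskiSite) :
    (homOf H B τ hτ).hom.app (op U.1) = gammaAff H U ≫ τ.app (op U) :=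
  homOfAux_app H B τ U

theorem hom_ext_affine {A : RelSpec.QCAlg S} {ψ ψ' : A ⟶ B}
    (h : ∀ U : S.AffineZariskiSite, ψ.hom.app (op U.1) = ψ'.hom.app (op U.1)) : ψ = ψ' :=
  RelSpec.QCAlg.hom_ext (presheafHom_ext B h)

end Hom

end Groth.Agent.Helper1.AffGlue
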