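import Mathlib
import Groth.Agent.Lib.Lead.BCU1
import Groth.Agent.Lib.Helper4.ReesAlg1

/-!
# Polynomial-like ring extensions: algebraic lemmas for the affine line (helper1)
-/

set_option autoImplicit false
set_option backward.isDefEq.respectTransparency.types false
set_option synthInstance.maxHeartbeats 400000
set_option maxHeartbeats 1000000
set_option linter.style.haveILetI false
set_option linter.unusedSectionVars false
set_option linter.unusedVariables false
universe u
open CategoryTheory AlgebraicGeometry TopologicalSpace TensorProduct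

namespace Groth.Agent.Helper1.AffLine

open Groth.Agent.Lead.BCU

section Alg
variable {B C : Type u} [CommRing B] [CommRing C] (φ : B →+* C) (τ : C)
  (hΨ : Function.Bijective (Polynomial.eval₂ φ τ : Polynomial B → C))

include hΨ in
theorem ker_eq_span {B' : Type u} [CommRing B'] (σ : C →+* B') (hστ : σ τ = 0)
    (hinj : Function.Injective (σ.comp φ)) : RingHom.ker σ = Ideal.span {τ} := by
  apply le_antisymm
  · intro c hc
    rw [RingHom.mem_ker] at hc
    obtain ⟨f, rfl⟩ := hΨ.2 c
    have h1 : Polynomial.eval₂ φ τ f =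
        Polynomial.eval₂ φ τ (Polynomial.divX f) * τ + φ (f.coeff 0) := by
      calc Polynomial.eval₂ φ τ f
          = Polynomial.eval₂ φ τ (Polynomial.divX f * Polynomial.X +
              Polynomial.C (f.coeff 0)) := by rw [Polynomial.divX_mul_X_add]
        _ = _ := by
          rw [Polynomial.eval₂_add, Polynomial.eval₂_mul, Polynomial.eval₂_X, Polynomial.eval₂_C]
    rw [h1, map_add, map_mul, hστ, mul_zero, zero_add] at hc
    have h0 : f.coeff 0 = 0 := hinj (by rw [RingHom.comp_apply, hc, map_zero])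
    rw [h1, h0, map_zero, add_zero]
    exact Ideal.mem_span_singleton'.2 ⟨_, rfl⟩
  · rw [Ideal.span_le, Set.singleton_subset_iff]
    exact RingHom.mem_ker.2 hστ

include hΨ in
theorem smul_injective_of_isBC {N F : Type u} [AddCommGroup N] [Module B N] [AddCommGroup F]
    [Module C F] (l : N → F) (hl : IsBC φ l) (m : F) (hm : τ • m = 0) : m = 0 := by
  letI := φ.toAlgebra
  letI : Module B F := Module.compHom F φ
  haveI : IsScalarTower B C F := ⟨fun a a' n => by
    change (φ a * a') • n = φ a • a' • n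
    exact mul_smul _ _ _⟩
  obtain ⟨l', hl', hb⟩ := hl
  have hΨ' : Function.Bijective (Polynomial.eval₂RingHom φ τ) := by
    rw [Polynomial.coe_eval₂RingHom]; exact hΨ
  obtain ⟨E, hE⟩ : ∃ E : Polynomial B ≃+* C, ∀ q, E q = Polynomial.eval₂ φ τ q :=
    ⟨RingEquiv.ofBijective (Polynomial.eval₂RingHom φ τ) hΨ', fun q => rfl⟩
  have hEC : ∀ b : B, E (Polynomial.C b) = φ b := fun b => by rw [hE, Polynomial.eval₂_C]
  have hEX : E Polynomial.X = τ := by rw [hE, Polynomial.eval₂_X]
  have hsymmC : ∀ (b : B) (c : C), E.symm (φ b * c) = Polynomial.C b * E.symm c := fun b c => by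
    rw [map_mul, ← hEC b, E.symm_apply_apply]
  have hsymmX : ∀ c : C, E.symm (τ * c) = Polynomial.X * E.symm c := fun c => by
    rw [map_mul, ← hEX, E.symm_apply_apply]
  have hdiv : ∀ q : Polynomial B, Polynomial.divX (Polynomial.X * q) = q := fun q =>
    Polynomial.ext fun n => by rw [Polynomial.coeff_divX, Polynomial.coeff_X_mul]
  obtain ⟨D, hD⟩ : ∃ D : C →ₗ[B] C, ∀ c, D (τ * c) = c := by
    refine ⟨{ toFun := fun c => E (Polynomial.divX (E.symm c)), map_add' := ?_, map_smul' := ?_ },
      ?_⟩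
    · intro a b
      rw [map_add, Polynomial.divX_add, map_add]
    · intro b c
      simp only [RingHom.id_apply]
      rw [Algebra.smul_def, Algebra.smul_def]
      change E (Polynomial.divX (E.symm (φ b * c))) = φ b * E (Polynomial.divX (E.symm c))
      rw [hsymmC, Polynomial.divX_C_mul, map_mul, hEC]
    · intro c
      change E (Polynomial.divX (E.symm (τ * c))) = c
      rw [hsymmX, hdiv, E.apply_symm_apply]
  have key : ∀ z : C ⊗[B] N, LinearMap.rTensor N D (τ • z) = z := by
    intro z
    induction z using TensorProduct.induction_on with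
    | zero => rw [smul_zero, map_zero]
    | tmul c n => rw [TensorProduct.smul_tmul', LinearMap.rTensor_tmul, smul_eq_mul, hD]
    | add z w hz hw => rw [smul_add, map_add, hz, hw]
  have h1 : τ • hb.equiv.symm m = 0 := by rw [← map_smul, hm, map_zero]
  have h2 := key (hb.equiv.symm m)
  rw [h1, map_zero] at h2
  exact (LinearEquiv.map_eq_zero_iff hb.equiv.symm).1 h2.symm

end Alg

theorem bij_poly_of_mv {B C : Type u} [CommRing B] [CommRing C] {n : Type u} [Unique n]
    (φ : B →+* C) (τ : C)
    (h : Function.Bijective (MvPolynomial.eval₂Hom φ (fun _ : n => τ))) :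
    Function.Bijective (Polynomial.eval₂ φ τ : Polynomial B → C) := by
  have e : ∀ q : Polynomial B, Polynomial.eval₂ φ τ q =
      MvPolynomial.eval₂Hom φ (fun _ : n => τ) ((MvPolynomial.uniqueAlgEquiv B n).symm q) := by
    intro q
    change Polynomial.eval₂ φ τ q = MvPolynomial.eval₂Hom φ (fun _ : n => τ)
      (Polynomial.eval₂ MvPolynomial.C (MvPolynomial.X default) q)
    rw [Polynomial.hom_eval₂, MvPolynomial.eval₂Hom_comp_C, MvPolynomial.eval₂Hom_X']
  have e' : (Polynomial.eval₂ φ τ : Polynomial B → C) =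
      (MvPolynomial.eval₂Hom φ (fun _ : n => τ)) ∘ (MvPolynomial.uniqueAlgEquiv B n).symm :=
    funext e
  rw [e']
  exact h.comp (AlgEquiv.bijective _)

section Sch

theorem bijective_appLE_of_range {X' Y' : Scheme.{u}} (f : X' ⟶ Y') [IsOpenImmersion f]
    (V : Y'.Opens) (hV : (V : Set Y') = Set.range f) (e : (⊤ : X'.Opens) ≤ f ⁻¹ᵁ V) :
    Function.Bijective (f.appLE V ⊤ e).hom := by
  have hV' : V = f ''ᵁ ⊤ := by
    apply TopologicalSpace.Opens.ext
    rw [hV, Scheme.Hom.image_top_eq_opensRange, Scheme.Hom.coe_opensRange]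
  subst hV'
  have h : f.appLE (f ''ᵁ ⊤) ⊤ e = (f.appIso ⊤).hom := (Scheme.Hom.appIso_hom' f ⊤).symm
  rw [h]
  exact ConcreteCategory.bijective_of_isIso (f.appIso ⊤).hom

theorem appLE_congr_hom {A B : Scheme.{u}} {a b : A ⟶ B} (h : a = b) (U : B.Opens)
    (V : A.Opens) (e : V ≤ a ⁻¹ᵁ U) (e' : V ≤ b ⁻¹ᵁ U) : a.appLE U V e = b.appLE U V e' := by
  subst h; rfl

theorem appLE_top_top {A B : Scheme.{u}} (f : A ⟶ B) (e : (⊤ : A.Opens) ≤ f ⁻¹ᵁ ⊤) :
    f.appLE ⊤ ⊤ e = f.appTop :=
  Scheme.Hom.appLE_eq_app (f := f) (U := (⊤ : B.Opens))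

end Sch

end Groth.Agent.Helper1.AffLine
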