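import Mathlib
import Groth.Agent.Lib.Helper1.AffLineA
import Groth.Agent.Lib.Helper3.ExtReg2

/-!
# Geometry of the affine line `𝔸¹_X`: zero section, charts (helper1)
-/

set_option autoImplicit false
set_option backward.isDefEq.respectTransparency.types false
set_option synthInstance.maxHeartbeats 400000
set_option maxHeartbeats 1000000
set_option linter.style.haveILetI false
set_option linter.unusedSectionVars false
set_option linter.unusedVariables false
universe u
open CategoryTheory CategoryTheory.Limits AlgebraicGeometry TopologicalSpace Opposite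

namespace Groth.Agent.Helper1.AffLine

open Groth.Agent.Helper3.ExtReg

noncomputable section

instance uniqueIdx : Unique (ULift.{u} (Fin 1)) :=
  ⟨⟨ULift.up 0⟩, fun a => by cases a; congr 1; exact Subsingleton.elim _ _⟩

section Defs
variable (X : Scheme.{u})

/-- the affine line over `X` -/
abbrev AL : Scheme.{u} := 𝔸(ULift.{u} (Fin 1); X)

/-- the projection -/
abbrev pp : AL X ⟶ X := 𝔸(ULift.{u} (Fin 1); X) ↘ X

/-- the coordinate -/
abbrev tt : Γ(AL X, ⊤) := AffineSpace.coord X (ULift.up (0 : Fin 1))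

/-- the zero section -/
def s0 : X ⟶ AL X := AffineSpace.homOfVector (𝟙 X) (fun _ => 0)

theorem s0_pp : s0 X ≫ pp X = 𝟙 X := AffineSpace.homOfVector_over _ _

theorem s0_tt : (s0 X).appTop (tt X) = 0 := AffineSpace.homOfVector_appTop_coord _ _ _

instance isIso_s0_pp : IsIso (s0 X ≫ pp X) := by rw [s0_pp]; infer_instance

instance isClosedImmersion_s0 : IsClosedImmersion (s0 X) := by
  haveI : IsClosedImmersion (s0 X ≫ pp X) := by rw [s0_pp]; infer_instance
  exact IsClosedImmersion.of_comp (s0 X) (pp X)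

theorem s0_app_resTop (U : (AL X).Opens) : ((s0 X).app U).hom (resTop (tt X) U) = 0 := by
  unfold resTop
  have h := ConcreteCategory.congr_hom ((s0 X).naturality (homOfLE (le_top : U ≤ ⊤)).op) (tt X)
  rw [ConcreteCategory.comp_apply, ConcreteCategory.comp_apply] at h
  refine h.trans ?_
  have h2 : (s0 X).app ⊤ (tt X) = 0 := s0_tt X
  rw [h2, map_zero]

end Defs

section Affine

theorem bij_affine (S : Scheme.{u}) [IsAffine S] :
    Function.Bijective (MvPolynomial.eval₂Hom ((𝔸(ULift.{u} (Fin 1); S) ↘ S).appTop).hom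
      (AffineSpace.coord S)) := by
  have h := AffineSpace.isoOfIsAffine_hom_appTop (n := ULift.{u} (Fin 1)) (S := S)
  haveI hiso : IsIso (CommRingCat.ofHom (MvPolynomial.eval₂Hom
      ((𝔸(ULift.{u} (Fin 1); S) ↘ S).appTop).hom (AffineSpace.coord S))) := by
    have e : CommRingCat.ofHom (MvPolynomial.eval₂Hom
        ((𝔸(ULift.{u} (Fin 1); S) ↘ S).appTop).hom (AffineSpace.coord S)) =
        (Scheme.ΓSpecIso _).inv ≫ (AffineSpace.isoOfIsAffine (ULift.{u} (Fin 1)) S).hom.appTop := by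
      rw [h, Iso.inv_hom_id_assoc]
    rw [e]
    haveI h1 : IsIso ((AffineSpace.isoOfIsAffine (ULift.{u} (Fin 1)) S).hom.appTop) := by
      show IsIso ((AffineSpace.isoOfIsAffine (ULift.{u} (Fin 1)) S).hom.app ⊤)
      infer_instance
    exact IsIso.comp_isIso
  exact ConcreteCategory.bijective_of_isIso (CommRingCat.ofHom (MvPolynomial.eval₂Hom
      ((𝔸(ULift.{u} (Fin 1); S) ↘ S).appTop).hom (AffineSpace.coord S)))

end Affine

section Chart
variable {X : Scheme.{u}} (W : X.Opens)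

/-- the open immersion `𝔸¹_W → 𝔸¹_X` -/
abbrev gmap : 𝔸(ULift.{u} (Fin 1); (W : Scheme.{u})) ⟶ AL X :=
  AffineSpace.map (ULift.{u} (Fin 1)) W.ι

/-- the projection `𝔸¹_W → W` -/
abbrev pW : 𝔸(ULift.{u} (Fin 1); (W : Scheme.{u})) ⟶ (W : Scheme.{u}) :=
  𝔸(ULift.{u} (Fin 1); (W : Scheme.{u})) ↘ (W : Scheme.{u})

instance isOpenImmersion_gmap : IsOpenImmersion (gmap W) :=
  MorphismProperty.IsStableUnderBaseChange.of_isPullback (P := @IsOpenImmersion)
    (AffineSpace.isPullback_map (n := ULift.{u} (Fin 1)) W.ι).flip inferInstance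

theorem range_gmap : Set.range (gmap W) = (pp X) ⁻¹' (W : Set X) := by
  have sq := AffineSpace.isPullback_map (n := ULift.{u} (Fin 1)) W.ι
  ext x
  constructor
  · rintro ⟨y, rfl⟩
    show (pp X) ((gmap W) y) ∈ W
    have h := congrArg (fun φ : 𝔸(ULift.{u} (Fin 1); (W : Scheme.{u})) ⟶ X => φ y)
      (AffineSpace.map_over (n := ULift.{u} (Fin 1)) W.ι)
    have h' : (pp X) ((gmap W) y) = W.ι ((pW W) y) := h
    rw [h']
    have hr : W.ι ((pW W) y) ∈ Set.range W.ι := ⟨_, rfl⟩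
    rw [Scheme.Opens.range_ι] at hr
    exact hr
  · intro hx
    have h1 : x ∈ Set.range (pullback.fst (pp X) W.ι) := by
      rw [Scheme.Pullback.range_fst, Scheme.Opens.range_ι]
      exact hx
    obtain ⟨z, rfl⟩ := h1
    refine ⟨sq.isoPullback.inv z, ?_⟩
    have e := sq.isoPullback_inv_fst
    have := congrArg (fun φ : pullback (pp X) W.ι ⟶ AL X => φ z) e
    exact this

variable (hW : IsAffineOpen W)

include hW in
theorem mv_bij :
    Function.Bijective (MvPolynomial.eval₂Hom ((pp X).app W).hom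
      (fun _ : ULift.{u} (Fin 1) => resTop (tt X) ((pp X) ⁻¹ᵁ W))) := by
  haveI : IsAffine (W : Scheme.{u}) := hW
  have hrange : Set.range (gmap W) = (pp X) ⁻¹' (W : Set X) := range_gmap W
  have eV : (⊤ : (𝔸(ULift.{u} (Fin 1); (W : Scheme.{u}))).Opens) ≤
      (gmap W) ⁻¹ᵁ ((pp X) ⁻¹ᵁ W) := by
    intro y _
    have : (gmap W) y ∈ Set.range (gmap W) := ⟨y, rfl⟩
    rw [hrange] at this
    exact this
  have eW : (⊤ : (W : Scheme.{u}).Opens) ≤ W.ι ⁻¹ᵁ W := by rw [Scheme.Opens.ι_preimage_self]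
  have hβ := bijective_appLE_of_range (gmap W) ((pp X) ⁻¹ᵁ W) hrange.symm eV
  have hα := bijective_appLE_of_range W.ι W (Scheme.Opens.range_ι W).symm eW
  have hΨS := bij_affine (W : Scheme.{u})
  have sq1 : (pp X).app W ≫ (gmap W).appLE ((pp X) ⁻¹ᵁ W) ⊤ eV =
      W.ι.appLE W ⊤ eW ≫ (pW W).appTop := by
    have hov : gmap W ≫ pp X = pW W ≫ W.ι := AffineSpace.map_over W.ι
    have h1 : (pp X).app W ≫ (gmap W).appLE ((pp X) ⁻¹ᵁ W) ⊤ eV =
        (gmap W ≫ pp X).appLE W ⊤ eV :=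
      (Scheme.Hom.comp_appLE (gmap W) (pp X) W ⊤ eV).symm
    have h2 : W.ι.appLE W ⊤ eW ≫ (pW W).appTop =
        (pW W ≫ W.ι).appLE W ⊤ (by rw [← hov]; exact eV) := by
      rw [← appLE_top_top (pW W) le_top, Scheme.Hom.appLE_comp_appLE]
    rw [h1, h2]
    exact appLE_congr_hom hov _ _ _ _
  have sq2 : ((gmap W).appLE ((pp X) ⁻¹ᵁ W) ⊤ eV).hom (resTop (tt X) ((pp X) ⁻¹ᵁ W)) =
      AffineSpace.coord (W : Scheme.{u}) (ULift.up 0) := by
    unfold resTop
    have h := ConcreteCategory.congr_hom (Scheme.Hom.map_appLE (gmap W) eV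
      (homOfLE (le_top : (pp X) ⁻¹ᵁ W ≤ ⊤)).op) (tt X)
    rw [ConcreteCategory.comp_apply] at h
    refine h.trans ?_
    rw [appLE_top_top]
    exact AffineSpace.map_appTop_coord W.ι (ULift.up 0)
  have hsq : (((gmap W).appLE ((pp X) ⁻¹ᵁ W) ⊤ eV).hom).comp
      (MvPolynomial.eval₂Hom ((pp X).app W).hom
        (fun _ : ULift.{u} (Fin 1) => resTop (tt X) ((pp X) ⁻¹ᵁ W))) =
      (MvPolynomial.eval₂Hom ((pW W).appTop).hom (AffineSpace.coord (W : Scheme.{u}))).comp
        (MvPolynomial.map (W.ι.appLE W ⊤ eW).hom) := by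
    apply MvPolynomial.ringHom_ext
    · intro b
      rw [RingHom.comp_apply, RingHom.comp_apply, MvPolynomial.eval₂Hom_C, MvPolynomial.map_C,
        MvPolynomial.eval₂Hom_C]
      exact ConcreteCategory.congr_hom sq1 b
    · intro i
      rw [RingHom.comp_apply, RingHom.comp_apply, MvPolynomial.eval₂Hom_X', MvPolynomial.map_X,
        MvPolynomial.eval₂Hom_X', Subsingleton.elim i (ULift.up 0)]
      exact sq2
  have hcomp : Function.Bijective (⇑((gmap W).appLE ((pp X) ⁻¹ᵁ W) ⊤ eV).hom ∘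
      ⇑(MvPolynomial.eval₂Hom ((pp X).app W).hom
        (fun _ : ULift.{u} (Fin 1) => resTop (tt X) ((pp X) ⁻¹ᵁ W)))) := by
    have e : ⇑((gmap W).appLE ((pp X) ⁻¹ᵁ W) ⊤ eV).hom ∘
        ⇑(MvPolynomial.eval₂Hom ((pp X).app W).hom
          (fun _ : ULift.{u} (Fin 1) => resTop (tt X) ((pp X) ⁻¹ᵁ W))) =
        ⇑(MvPolynomial.eval₂Hom ((pW W).appTop).hom (AffineSpace.coord (W : Scheme.{u}))) ∘
          ⇑(MvPolynomial.map (σ := ULift.{u} (Fin 1)) (W.ι.appLE W ⊤ eW).hom) := by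
      funext q
      exact RingHom.congr_fun hsq q
    rw [e]
    exact hΨS.comp ⟨MvPolynomial.map_injective _ hα.1, MvPolynomial.map_surjective _ hα.2⟩
  exact (Function.Bijective.of_comp_iff' hβ _).1 hcomp

include hW in
theorem poly_bij :
    Function.Bijective (Polynomial.eval₂ ((pp X).app W).hom (resTop (tt X) ((pp X) ⁻¹ᵁ W)) :
      Polynomial Γ(X, W) → Γ(AL X, (pp X) ⁻¹ᵁ W)) :=
  bij_poly_of_mv (n := ULift.{u} (Fin 1)) _ _ (mv_bij W hW)

include hW in
theorem ker_s0_app :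
    RingHom.ker ((s0 X).app ((pp X) ⁻¹ᵁ W)).hom =
      Ideal.span {resTop (tt X) ((pp X) ⁻¹ᵁ W)} := by
  refine ker_eq_span ((pp X).app W).hom (resTop (tt X) ((pp X) ⁻¹ᵁ W)) (poly_bij W hW)
    ((s0 X).app ((pp X) ⁻¹ᵁ W)).hom (s0_app_resTop X _) ?_
  exact (ConcreteCategory.bijective_of_isIso ((s0 X ≫ pp X).app W)).1

end Chart

section Range
variable (X : Scheme.{u})

theorem range_s0 :
    Set.range (s0 X) = (((AL X).basicOpen (tt X) : (AL X).Opens) : Set (AL X))ᶜ := by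
  have hcl : IsClosed (Set.range (s0 X)) := (s0 X).isClosedEmbedding.isClosed_range
  have hsupp := Scheme.Hom.support_ker (s0 X)
  rw [hcl.closure_eq] at hsupp
  ext y
  obtain ⟨_, ⟨W, hW, rfl⟩, hyW, -⟩ :=
    X.isBasis_affineOpens.exists_subset_of_mem_open (Set.mem_univ ((pp X) y)) isOpen_univ
  have hV : IsAffineOpen ((pp X) ⁻¹ᵁ W) := hW.preimage (pp X)
  have hyV : y ∈ ((pp X) ⁻¹ᵁ W) := hyW
  have key : y ∈ (s0 X).ker.support ↔
      y ∈ (((AL X).basicOpen (tt X) : (AL X).Opens) : Set (AL X))ᶜ := by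
    rw [Scheme.IdealSheafData.mem_support_iff_of_mem (U := ⟨(pp X) ⁻¹ᵁ W, hV⟩) hyV,
      Scheme.Hom.ker_apply]
    show y ∈ (AL X).zeroLocus (U := (pp X) ⁻¹ᵁ W)
      (RingHom.ker ((s0 X).app ((pp X) ⁻¹ᵁ W)).hom : Set _) ↔ _
    rw [ker_s0_app W hW, Scheme.zeroLocus_span, Scheme.zeroLocus_singleton]
    unfold resTop
    rw [Scheme.basicOpen_res]
    constructor
    · intro h hy
      exact h ⟨hyV, hy⟩
    · intro h hy
      exact h hy.2
  rw [← hsupp]
  exact key

end Range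

end

end Groth.Agent.Helper1.AffLine
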