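import Mathlib
import Groth.Agent.Lib.Helper1.FinPush

set_option autoImplicit false
universe u
open CategoryTheory CategoryTheory.Limits AlgebraicGeometry TopologicalSpace Opposite

namespace Groth.Agent.Helper1.FinPush

open Groth.Agent.Helper1.QcCech

variable {X Y : Scheme.{u}}

/-- converse of `finite_sections`, on a single affine chart -/
theorem finite_restrict_fromSpec (M : X.Modules) {O : X.Opens} (hO : IsAffineOpen O)
    (h : Module.Finite Γ(X, O) Γ(M, O)) : Module.Finite Γ(X, O) Γ(M.restrict hO.fromSpec, ⊤) := by
  have e0 := QcLoc.image_top hO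
  let L : Γ(M, O) →ₗ[Γ(X, O)] Γ(M.restrict hO.fromSpec, ⊤) :=
    { toFun := fun x => (show Γ(M.restrict hO.fromSpec, ⊤) from res M e0.le x)
      map_add' := fun x y => map_add (res M e0.le) _ _
      map_smul' := fun r x => by
        have h1 := QcLoc.smul_eq hO M ⊤ r (show Γ(M.restrict hO.fromSpec, ⊤) from res M e0.le x)
        refine Eq.trans ?_ h1.symm
        change res M e0.le (r • x) = resR (QcLoc.image_le hO ⊤) r • res M e0.le x
        rw [res_smul] }
  refine Module.Finite.of_surjective L (fun y => ⟨res M e0.ge (show Γ(M, hO.fromSpec ''ᵁ ⊤) from y), ?_⟩)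
  change res M e0.le (res M e0.ge _) = y
  rw [res_res, res_self]

/-- a quasi-coherent module with finite sections over affine opens is of finite type -/
theorem isFiniteType_of_finite_sections (M : X.Modules) [M.IsQuasicoherent]
    (h : ∀ (O : X.Opens), IsAffineOpen O → Module.Finite Γ(X, O) Γ(M, O)) :
    SheafOfModules.IsFiniteType.{u, u, u} M :=
  FtLocal.isFiniteType_of_affineOpens M fun V hV => finite_restrict_fromSpec M hV (h V hV)

/-- the restriction of a coherent module to an open subscheme is coherent -/
theorem isCoh_restrict (j : Y ⟶ X) [IsOpenImmersion j] (M : X.Modules) (hM : Coh.IsCoh M) :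
    Coh.IsCoh (M.restrict j) := by
  have hq : (M.restrict j).IsQuasicoherent := by
    have : M.IsQuasicoherent := hM.1
    exact Scheme.Modules.isQuasicoherent_restrictFunctor j M
  refine ⟨hq, isFiniteType_of_finite_sections _ fun V hV => ?_⟩
  exact AffFin.finite_restrict_sections j M V
    (finite_sections M hM (hV.image_of_isOpenImmersion j))

end Groth.Agent.Helper1.FinPush
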