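import Mathlib
import Groth.Agent.Lib.Helper1.TwistSec

set_option autoImplicit false
universe u
open CategoryTheory CategoryTheory.Limits AlgebraicGeometry TopologicalSpace Opposite

namespace Groth.Agent.Helper1.ModGlue
open Groth.Agent.Helper1.QcCech Groth.Agent.Helper1.TwistSec

variable {X : Scheme.{u}} {J : Type u} [Preorder J] (F : Jᵒᵖ ⥤ X.Modules)

example : HasLimit F := inferInstance

noncomputable def evalType (W : X.Opens) : X.Modules ⥤ Type u :=
  SheafOfModules.evaluation X.ringCatSheaf (op W) ⋙ forget _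

noncomputable instance (W : X.Opens) : PreservesLimit F (evalType (X := X) W) := by
  unfold evalType
  have h1 : PreservesLimitsOfShape Jᵒᵖ (SheafOfModules.evaluation.{u} X.ringCatSheaf (op W)) :=
    inferInstance
  have h2 : PreservesLimitsOfShape Jᵒᵖ
      (forget (ModuleCat.{u} ↑(X.ringCatSheaf.obj.obj (op W)))) := inferInstance
  have h3 : PreservesLimitsOfShape Jᵒᵖ (SheafOfModules.evaluation.{u} X.ringCatSheaf (op W) ⋙
      forget (ModuleCat.{u} ↑(X.ringCatSheaf.obj.obj (op W)))) := inferInstance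
  exact h3.preservesLimit

theorem lim_ext {W : X.Opens} (s t : Γ(limit F, W))
    (h : ∀ i : J, (limit.π F (op i)).app W s = (limit.π F (op i)).app W t) : s = t := by
  have hl := isLimitOfPreserves (evalType (X := X) W) (limit.isLimit F)
  apply (Types.isLimitEquivSections hl).injective
  apply Subtype.ext
  funext j
  exact h j.unop

theorem lim_exists {W : X.Opens} (τ : ∀ i : J, Γ(F.obj (op i), W))
    (hτ : ∀ {k i : J} (h : k ≤ i), (F.map (homOfLE h).op).app W (τ i) = τ k) :
    ∃ s : Γ(limit F, W), ∀ i : J, (limit.π F (op i)).app W s = τ i := by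
  have hl := isLimitOfPreserves (evalType (X := X) W) (limit.isLimit F)
  let sec : (F ⋙ evalType (X := X) W).sections := ⟨fun j => τ j.unop, by
    intro j j' f
    have : j'.unop ≤ j.unop := f.unop.le
    exact hτ this⟩
  refine ⟨(Types.isLimitEquivSections hl).symm sec, fun i => ?_⟩
  exact Types.isLimitEquivSections_symm_apply hl sec (op i)

theorem app_res {M N : X.Modules} (φ : M ⟶ N) {W W' : X.Opens} (h : W' ≤ W) (s : Γ(M, W)) :
    res N h (φ.app W s) = φ.app W' (res M h s) := by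
  have := congrArg (fun f => f.hom s) (φ.mapPresheaf.naturality (homOfLE h).op)
  exact this.symm

/-- transition maps -/
noncomputable def c {k i : J} (h : k ≤ i) : F.obj (op i) ⟶ F.obj (op k) := F.map (homOfLE h).op

theorem c_comp {l k i : J} (h' : l ≤ k) (h : k ≤ i) {W : X.Opens} (s : Γ(F.obj (op i), W)) :
    (c F h').app W ((c F h).app W s) = (c F (h'.trans h)).app W s := by
  have : c F h ≫ c F h' = c F (h'.trans h) := by
    unfold c
    rw [← F.map_comp]
    rfl
  rw [← this]
  rfl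

theorem π_c {k i : J} (h : k ≤ i) {W : X.Opens} (s : Γ(limit F, W)) :
    (c F h).app W ((limit.π F (op i)).app W s) = (limit.π F (op k)).app W s := by
  have : limit.π F (op i) ≫ c F h = limit.π F (op k) := limit.w F (homOfLE h).op
  rw [← this]
  rfl

section Glue
variable (O : J → X.Opens) (hmono : ∀ {k i : J}, k ≤ i → O k ≤ O i)
  (hdir : ∀ (i j : J) (x : X), x ∈ O i → x ∈ O j → ∃ k, k ≤ i ∧ k ≤ j ∧ x ∈ O k)
  (hsupp : ∀ (i : J) (W : X.Opens),
    Function.Bijective (res (F.obj (op i)) (inf_le_left : W ⊓ O i ≤ W)))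
  (hiso : ∀ {k i : J} (h : k ≤ i) (W : X.Opens), W ≤ O k → Function.Bijective ((c F h).app W))

include hdir hsupp hiso in
theorem π_injective (i : J) (W : X.Opens) (hW : W ≤ O i) :
    Function.Injective ((limit.π F (op i)).app W) := by
  intro s t hst
  apply lim_ext
  intro j
  apply (hsupp j W).1
  apply eq_of_locally
  intro x hx
  obtain ⟨k, hki, hkj, hxk⟩ := hdir i j x (hW hx.1) hx.2
  refine ⟨W ⊓ O j ⊓ O k, inf_le_left, ⟨hx, hxk⟩, ?_⟩
  apply (hiso hkj _ inf_le_right).1
  have key : ∀ s : Γ(limit F, W), (c F hkj).app (W ⊓ O j ⊓ O k)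
      (res (F.obj (op j)) (inf_le_left : W ⊓ O j ⊓ O k ≤ W ⊓ O j)
        (res (F.obj (op j)) (inf_le_left : W ⊓ O j ≤ W) ((limit.π F (op j)).app W s))) =
      res (F.obj (op k)) ((inf_le_left : W ⊓ O j ⊓ O k ≤ W ⊓ O j).trans inf_le_left)
        ((c F hki).app W ((limit.π F (op i)).app W s)) := by
    intro s
    rw [res_res, app_res, π_c, π_c, app_res]
  rw [key, key, hst]

include hmono hdir hsupp hiso in
theorem π_surjective (i : J) (W : X.Opens) (hW : W ≤ O i) :
    Function.Surjective ((limit.π F (op i)).app W) := by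
  intro t
  -- the components
  have hcomp : ∀ j : J, ∃ τ : Γ(F.obj (op j), W), ∀ (k : J) (hki : k ≤ i) (hkj : k ≤ j)
      (W' : X.Opens) (hW' : W' ≤ W) (_ : W' ≤ O k),
      (c F hkj).app W' (res (F.obj (op j)) hW' τ) = (c F hki).app W' (res (F.obj (op i)) hW' t) := by
    intro j
    -- local pieces
    have hloc : ∀ k : {k : J // k ≤ i ∧ k ≤ j}, ∃ σ : Γ(F.obj (op j), W ⊓ O j ⊓ O k.1),
        (c F k.2.2).app _ σ = (c F k.2.1).app _
          (res (F.obj (op i)) ((inf_le_left : W ⊓ O j ⊓ O k.1 ≤ W ⊓ O j).trans inf_le_left) t) :=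
      fun k => (hiso k.2.2 _ inf_le_right).2 _
    choose σ hσ using hloc
    have hσ' : ∀ (k : {k : J // k ≤ i ∧ k ≤ j}) (W' : X.Opens) (hW' : W' ≤ W ⊓ O j ⊓ O k.1),
        (c F k.2.2).app W' (res (F.obj (op j)) hW' (σ k)) = (c F k.2.1).app W'
          (res (F.obj (op i)) ((hW'.trans inf_le_left).trans inf_le_left) t) := by
      intro k W' hW'
      rw [← app_res, hσ k, app_res, res_res]
    obtain ⟨σ₀, hσ₀⟩ := glue_of_compatible (F.obj (op j))
      (fun k : {k : J // k ≤ i ∧ k ≤ j} => W ⊓ O j ⊓ O k.1) (W ⊓ O j) (fun _ => inf_le_left)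
      (by
        intro x hx
        obtain ⟨k, hki, hkj, hxk⟩ := hdir i j x (hW hx.1) hx.2
        exact Opens.mem_iSup.2 ⟨⟨k, hki, hkj⟩, hx, hxk⟩) σ (by
        intro k k'
        apply eq_of_locally
        intro x hx
        obtain ⟨l, hlk, hlk', hxl⟩ := hdir k.1 k'.1 x hx.1.2 hx.2.2
        refine ⟨(W ⊓ O j ⊓ O k.1) ⊓ (W ⊓ O j ⊓ O k'.1) ⊓ O l, inf_le_left, ⟨hx, hxl⟩, ?_⟩
        apply (hiso (hlk.trans k.2.2) _ inf_le_right).1
        rw [res_res, res_res]
        have e1 := hσ' k ((W ⊓ O j ⊓ O k.1) ⊓ (W ⊓ O j ⊓ O k'.1) ⊓ O l)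
          (inf_le_left.trans inf_le_left)
        have e2 := hσ' k' ((W ⊓ O j ⊓ O k.1) ⊓ (W ⊓ O j ⊓ O k'.1) ⊓ O l)
          (inf_le_left.trans inf_le_right)
        have e1' := congrArg ((c F hlk).app _) e1
        have e2' := congrArg ((c F hlk').app _) e2
        rw [c_comp, c_comp] at e1' e2'
        exact e1'.trans e2'.symm)
    obtain ⟨τ, hτ⟩ := (hsupp j W).2 σ₀
    refine ⟨τ, fun k hki hkj W' hW' hW'k => ?_⟩
    have hle : W' ≤ W ⊓ O j ⊓ O k := le_inf (le_inf hW' (hW'k.trans (hmono hkj))) hW'k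
    have e := hσ' ⟨k, hki, hkj⟩ W' hle
    rw [← hσ₀ ⟨k, hki, hkj⟩, ← hτ, res_res, res_res] at e
    exact e
  choose τ hτ using hcomp
  have hcompat : ∀ {j' j : J} (h : j' ≤ j), (c F h).app W (τ j) = τ j' := by
    intro j' j h
    apply (hsupp j' W).1
    apply eq_of_locally
    intro x hx
    obtain ⟨k, hki, hkj', hxk⟩ := hdir i j' x (hW hx.1) hx.2
    refine ⟨W ⊓ O j' ⊓ O k, inf_le_left, ⟨hx, hxk⟩, ?_⟩
    apply (hiso hkj' _ inf_le_right).1
    rw [res_res, res_res, hτ j' k hki hkj' _ _ inf_le_right, app_res, c_comp,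
      hτ j k hki (hkj'.trans h) _ _ inf_le_right]
  obtain ⟨s, hs⟩ := lim_exists F τ (fun h => hcompat h)
  refine ⟨s, ?_⟩
  rw [hs i]
  apply (hiso (le_refl i) W hW).1
  have := hτ i i (le_refl i) (le_refl i) W le_rfl hW
  rwa [res_self, res_self] at this

include hmono hdir hsupp hiso in
/-- the projections of the limit of a compatible system of locally isomorphic modules are
bijective on sections over the members of the cover -/
theorem π_bijective (i : J) (W : X.Opens) (hW : W ≤ O i) :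
    Function.Bijective ((limit.π F (op i)).app W) :=
  ⟨π_injective F O hdir hsupp hiso i W hW, π_surjective F O hmono hdir hsupp hiso i W hW⟩

end Glue

end Groth.Agent.Helper1.ModGlue
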