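import Mathlib
import Groth.Prelude.Def_Coh
import Groth.Agent.Lib.Helper1.QcAbel

set_option autoImplicit false
universe u
open CategoryTheory CategoryTheory.Limits AlgebraicGeometry TopologicalSpace Opposite

namespace Groth.Agent.Helper1.QcAbel

open Groth.Agent.Helper1.QcCech Groth.Agent.Helper1.TildeQC PrimeSpectrum
open Groth.Agent.Helper1.QcExt

variable {X : Scheme.{u}}

section Prod
variable {ι : Type u} (F : ι → X.Modules)

/-- sections over `U`, as a functor to types -/
noncomputable def secT (U : X.Opens) : X.Modules ⥤ Type u :=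
  (Scheme.Modules.toPresheaf X ⋙ (evaluation (Opens ↥X)ᵒᵖ Ab.{u}).obj (op U)) ⋙
    forget AddCommGrpCat.{u}

noncomputable instance (U : X.Opens) : PreservesLimits (secT (X := X) U) := by
  unfold secT
  have h2 : PreservesLimits ((evaluation (Opens ↥X)ᵒᵖ Ab.{u}).obj (op U)) :=
    evaluationPreservesLimits (op U)
  have h1 : PreservesLimits (Scheme.Modules.toPresheaf X ⋙
      (evaluation (Opens ↥X)ᵒᵖ Ab.{u}).obj (op U)) :=
    comp_preservesLimits _ _
  exact comp_preservesLimits _ _

theorem pi_bijective (U : X.Opens) :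
    Function.Bijective (fun (s : Γ(∏ᶜ F, U)) (i : ι) => (Pi.π F i).app U s) := by
  have hlim : IsLimit ((secT U).mapCone (limit.cone (Discrete.functor F))) :=
    isLimitOfPreserves (secT U) (limit.isLimit _)
  let e := Types.isLimitEquivSections hlim
  let e2 : (Discrete.functor F ⋙ secT U).sections ≃ (∀ i, Γ(F i, U)) :=
    { toFun := fun x i => x.1 ⟨i⟩
      invFun := fun y => ⟨fun j => y j.as, by
        rintro ⟨j⟩ ⟨j'⟩ ⟨⟨h⟩⟩
        cases h
        simp⟩
      left_inv := fun x => by ext ⟨j⟩; rfl
      right_inv := fun y => rfl }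
  exact (e.trans e2).bijective

/-- **a finite product of quasi-coherent modules is quasi-coherent** -/
theorem isQuasicoherent_pi [Finite ι] [∀ i, (F i).IsQuasicoherent] :
    (∏ᶜ F).IsQuasicoherent := by
  classical
  have := Fintype.ofFinite ι
  apply isQuasicoherent_of_kill_ext
  · intro U hU f O hO t ht
    have hle := hO.le.trans (X.basicOpen_le f)
    have h1 : ∀ i, ∃ n : ℕ, f ^ n • (Pi.π F i).app U t = 0 := fun i =>
      kill_aux (F i) hU f O hO _ (by rw [← app_res, ht, map_zero])
    choose n hn using h1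
    refine ⟨Finset.univ.sup n, (pi_bijective F U).1 ?_⟩
    funext i
    simp only
    rw [Scheme.Modules.Hom.app_smul, map_zero]
    have h2 : f ^ (Finset.univ.sup n) = f ^ (Finset.univ.sup n - n i) * f ^ (n i) := by
      rw [← pow_add, Nat.sub_add_cancel (Finset.le_sup (Finset.mem_univ i))]
    rw [h2, mul_smul, hn i, smul_zero]
  · intro U hU f O hO y
    have hle := hO.le.trans (X.basicOpen_le f)
    have h1 : ∀ i, ∃ (n : ℕ) (t : Γ(F i, U)), res (F i) hle t =
        (resR hle f) ^ n • (Pi.π F i).app O y := fun i => extend_aux (F i) hU f O hO _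
    choose n t ht using h1
    obtain ⟨s, hs⟩ := (pi_bijective F U).2 (fun i => f ^ (Finset.univ.sup n - n i) • t i)
    refine ⟨Finset.univ.sup n, s, (pi_bijective F O).1 ?_⟩
    funext i
    have hsi : (Pi.π F i).app U s = f ^ (Finset.univ.sup n - n i) • t i := congrFun hs i
    simp only
    rw [app_res, hsi, res_smul, ht i, Scheme.Modules.Hom.app_smul, map_pow, ← mul_smul, ← pow_add,
      Nat.sub_add_cancel (Finset.le_sup (Finset.mem_univ i))]

end Prod

theorem isQuasicoherent_biprod (M N : X.Modules) [M.IsQuasicoherent] [N.IsQuasicoherent] :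
    (M ⊞ N).IsQuasicoherent := by
  let S : ShortComplex X.Modules := ShortComplex.mk (biprod.inl : M ⟶ M ⊞ N) biprod.snd (by simp)
  have hS : S.ShortExact := (ShortComplex.Splitting.ofHasBinaryBiproduct M N).shortExact
  have : S.X₁.IsQuasicoherent := ‹M.IsQuasicoherent›
  have : S.X₃.IsQuasicoherent := ‹N.IsQuasicoherent›
  exact isQuasicoherent_mid (S := S) hS

end Groth.Agent.Helper1.QcAbel
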