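import Mathlib
import Groth.Prelude.Def_RelProj4

/-!
# Base change of relative spectra (helper1 library)
-/

open CategoryTheory CategoryTheory.Limits AlgebraicGeometry Opposite TopologicalSpace

universe u

namespace Groth.Agent.Helper1.SpecBC

variable {S S' : Scheme.{u}}

/-- the structure morphism of a chart, landing in the open subscheme `U` -/
noncomputable def n (B : RelSpec.QCAlg S) (U : S.Opens) (hU : IsAffineOpen U) :
    Spec (B.presheaf.obj (op U)) ⟶ (U : Scheme.{u}) :=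
  Spec.map (B.str.app (op U)) ≫ hU.isoSpec.inv

lemma n_ι (B : RelSpec.QCAlg S) (U : S.Opens) (hU : IsAffineOpen U) :
    n B U hU ≫ U.ι = B.ι U hU ≫ B.π := by
  rw [n, Category.assoc, IsAffineOpen.isoSpec_inv_ι, B.ι_π]

lemma isPullback_ι_π (B : RelSpec.QCAlg S) (U : S.Opens) (hU : IsAffineOpen U) :
    IsPullback (n B U hU) (B.ι U hU) U.ι B.π := by
  refine IsOpenImmersion.isPullback _ _ _ _ (n_ι B U hU).symm ?_
  rw [Scheme.Opens.opensRange_ι, B.π_preimage U hU]

lemma SpecMap_appLE_isoSpec_inv (g : S' ⟶ S) (U : S.Opens) (hU : IsAffineOpen U)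
    (U' : S'.Opens) (hU' : IsAffineOpen U') (hle : U' ≤ g ⁻¹ᵁ U) :
    Spec.map (g.appLE U U' hle) ≫ hU.isoSpec.inv = hU'.isoSpec.inv ≫ g.resLE U U' hle := by
  rw [← cancel_mono U.ι, Category.assoc, Category.assoc, IsAffineOpen.isoSpec_inv_ι,
    Scheme.Hom.resLE_comp_ι, ← Category.assoc, IsAffineOpen.isoSpec_inv_ι,
    IsAffineOpen.SpecMap_appLE_fromSpec]

lemma isPullback_pair {g : S' ⟶ S} {A : RelSpec.QCAlg S} {B : RelSpec.QCAlg S'}
    (u : RelSpec.QHom g A B) (hu : RelSpec.IsQBaseChange u)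
    (U : S.Opens) (hU : IsAffineOpen U) (U' : S'.Opens) (hU' : IsAffineOpen U')
    (hle : U' ≤ g ⁻¹ᵁ U) :
    IsPullback (n B U' hU') (Spec.map (u.appLE U U' hle)) (g.resLE U U' hle) (n A U hU) := by
  have h1 := isPullback_SpecMap_of_isPushout _ _ _ _ (hu U hU U' hU' hle)
  -- h1 : IsPullback (Spec B.str) (Spec u) (Spec g.appLE) (Spec A.str)
  have h2 : IsPullback hU'.isoSpec.inv (Spec.map (g.appLE U U' hle)) (g.resLE U U' hle)
      hU.isoSpec.inv :=
    IsPullback.of_horiz_isIso ⟨(SpecMap_appLE_isoSpec_inv g U hU U' hU' hle).symm⟩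
  exact h1.paste_horiz h2

theorem isPullback_spec {g : S' ⟶ S} {A : RelSpec.QCAlg S} {B : RelSpec.QCAlg S'}
    (u : RelSpec.QHom g A B) (hu : RelSpec.IsQBaseChange u)
    (h : B.spec ⟶ A.spec) (hh : RelSpec.IsSpecQMap u h) :
    IsPullback h B.π A.π g := by
  -- the cover of `S'` by affine opens mapping into affine opens of `S`
  let Idx : Type u :=
    {p : S.AffineZariskiSite × S'.AffineZariskiSite // p.2.toOpens ≤ g ⁻¹ᵁ p.1.toOpens}
  have hcov : IsOpenCover (fun p : Idx => p.1.2.toOpens) := by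
    rw [IsOpenCover, eq_top_iff]
    intro x _
    obtain ⟨V, hV, hxV⟩ : ∃ V : S.Opens, IsAffineOpen V ∧ g.base x ∈ V := by
      obtain ⟨_, ⟨V, hV : IsAffineOpen V, rfl⟩, hxV, -⟩ :=
        (S.isBasis_affineOpens).exists_subset_of_mem_open (Set.mem_univ (g.base x)) isOpen_univ
      exact ⟨V, hV, hxV⟩
    obtain ⟨_, ⟨U', hU' : IsAffineOpen U', rfl⟩, hxU', hle⟩ :=
      (S'.isBasis_affineOpens).exists_subset_of_mem_open (show x ∈ (g ⁻¹ᵁ V : Set S') from hxV)
        (g ⁻¹ᵁ V).isOpen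
    rw [Opens.mem_iSup]
    exact ⟨⟨(⟨V, hV⟩, ⟨U', hU'⟩), hle⟩, hxU'⟩
  let 𝒰 : S'.OpenCover := S'.openCoverOfIsOpenCover _ hcov
  refine IsPullback.flip ?_
  refine Scheme.isPullback_of_openCover B.π h g A.π 𝒰 ?_
  intro p
  have hV := p.1.1.2
  have hU' := p.1.2.2
  -- the two pullback squares
  have hB := isPullback_ι_π B p.1.2.toOpens hU'
  have hA := isPullback_ι_π A p.1.1.toOpens hV
  have hpair := isPullback_pair u hu p.1.1.toOpens hV p.1.2.toOpens hU' p.2
  have hQ : IsPullback (n B p.1.2.toOpens hU') (B.ι p.1.2.toOpens hU' ≫ h)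
      (p.1.2.toOpens.ι ≫ g) A.π := by
    rw [hh p.1.1.toOpens hV p.1.2.toOpens hU' p.2, ← Scheme.Hom.resLE_comp_ι g p.2]
    exact hpair.paste_vert hA
  -- transport along the iso of pullbacks
  have hB' : IsPullback (pullback.snd B.π (𝒰.f p)) (pullback.fst B.π (𝒰.f p))
      p.1.2.toOpens.ι B.π := (IsPullback.of_hasPullback B.π (𝒰.f p)).flip
  let e : pullback B.π (𝒰.f p) ≅ Spec (B.presheaf.obj (op p.1.2.toOpens)) :=
    hB'.isoIsPullback _ _ hB
  have he1 : e.hom ≫ n B p.1.2.toOpens hU' = pullback.snd B.π (𝒰.f p) :=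
    hB'.isoIsPullback_hom_fst _ _ hB
  have he2 : e.hom ≫ B.ι p.1.2.toOpens hU' = pullback.fst B.π (𝒰.f p) :=
    hB'.isoIsPullback_hom_snd _ _ hB
  refine IsPullback.of_iso hQ e.symm (Iso.refl _) (Iso.refl _) (Iso.refl _) ?_ ?_ ?_ ?_
  · simp only [Iso.symm_hom, Iso.refl_hom, Category.comp_id]
    rw [Iso.eq_inv_comp]
    exact he1
  · simp only [Iso.symm_hom, Iso.refl_hom, Category.comp_id]
    rw [Iso.eq_inv_comp, ← Category.assoc]
    exact congrArg (· ≫ h) he2
  · simp only [Iso.refl_hom, Category.comp_id, Category.id_comp]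
    rfl
  · simp

end Groth.Agent.Helper1.SpecBC
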