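import Mathlib
import Groth.Agent.Lib.Helper1.QcExt
import Groth.Agent.Lib.Helper1.QcAbel
import Groth.Agent.Lib.Helper1.TwistSec

set_option autoImplicit false
universe u
open CategoryTheory CategoryTheory.Limits AlgebraicGeometry TopologicalSpace Opposite

namespace Groth.Agent.Helper1.AffPushEpi

open Groth.Agent.Helper1.QcCech Groth.Agent.Helper1

variable {X S : Scheme.{u}}

/-- a morphism of modules which is surjective on sections over affine opens is an epimorphism -/
theorem epi_of_surjective_on_affine {M N : X.Modules} (φ : M ⟶ N)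
    (h : ∀ U : X.Opens, IsAffineOpen U → Function.Surjective (φ.app U)) : Epi φ := by
  apply Preadditive.epi_of_cancel_zero
  intro Q g hg
  apply Scheme.Modules.hom_ext
  intro W
  ext t
  change g.app W t = 0
  apply TwistSec.eq_of_locally Q
  intro x hx
  obtain ⟨_, ⟨U, hU, rfl⟩, hxU, hUW⟩ :=
    X.isBasis_affineOpens.exists_subset_of_mem_open hx W.isOpen
  refine ⟨U, hUW, hxU, ?_⟩
  rw [← QcExt.app_res, map_zero]
  obtain ⟨m, hm⟩ := h U hU (QcCech.res N hUW t)
  rw [← hm]
  have := congrArg (fun ψ => Scheme.Modules.Hom.app ψ U m) hg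
  exact this

/-- an epimorphism of quasi-coherent modules is surjective on sections over affine opens -/
theorem app_surjective_of_epi {F G : X.Modules} [F.IsQuasicoherent] [G.IsQuasicoherent]
    (v : F ⟶ G) [Epi v] (U : X.Opens) (hU : IsAffineOpen U) : Function.Surjective (v.app U) := by
  let T : ShortComplex X.Modules := ShortComplex.mk (kernel.ι v) v (kernel.condition v)
  have hT : T.ShortExact :=
    { exact := ShortComplex.exact_of_f_is_kernel _ (kernelIsKernel v)
      mono_f := inferInstanceAs (Mono (kernel.ι v))
      epi_g := inferInstanceAs (Epi v) }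
  have : T.X₁.IsQuasicoherent := QcAbel.isQuasicoherent_kernel v
  exact QcExt.app_surjective hT U hU

/-- the direct image along an affine morphism preserves epimorphisms of quasi-coherent modules -/
theorem epi_pushforward_of_isAffineHom (f : X ⟶ S) [IsAffineHom f] {F G : X.Modules}
    [F.IsQuasicoherent] [G.IsQuasicoherent] (v : F ⟶ G) [Epi v] :
    Epi ((Scheme.Modules.pushforward f).map v) := by
  apply epi_of_surjective_on_affine
  intro U hU
  exact app_surjective_of_epi v (f ⁻¹ᵁ U) (hU.preimage f)

end Groth.Agent.Helper1.AffPushEpi
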