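import Mathlib

set_option autoImplicit false
universe u

namespace Groth.Agent.Helper1.SymLoc

open SymmetricAlgebra

section Ext
variable {R M T : Type*} [CommRing R] [AddCommGroup M] [Module R M] [Semiring T]

/-- ring homomorphisms out of a symmetric algebra are determined on scalars and generators -/
theorem ringHom_ext {φ ψ : SymmetricAlgebra R M →+* T}
    (h1 : ∀ r : R, φ (algebraMap R _ r) = ψ (algebraMap R _ r))
    (h2 : ∀ m : M, φ (ι R M m) = ψ (ι R M m)) : φ = ψ := by
  refine RingHom.ext fun x => ?_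
  induction x using SymmetricAlgebra.induction with
  | algebraMap r => exact h1 r
  | ι m => exact h2 m
  | mul a b ha hb => rw [map_mul, map_mul, ha, hb]
  | add a b ha hb => rw [map_add, map_add, ha, hb]

end Ext

section Map
variable {R R' : Type*} [CommRing R] [CommRing R'] (ρ : R →+* R')
  {M M' : Type*} [AddCommGroup M] [Module R M] [AddCommGroup M'] [Module R' M']
  (g : M →+ M') (hg : ∀ (r : R) (m : M), g (r • m) = ρ r • g m)

/-- the `R`-linear map `M → Sym_{R'} M'` -/
noncomputable def linAux :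
    letI : Algebra R (SymmetricAlgebra R' M') :=
      ((algebraMap R' (SymmetricAlgebra R' M')).comp ρ).toAlgebra
    M →ₗ[R] SymmetricAlgebra R' M' :=
  letI : Algebra R (SymmetricAlgebra R' M') :=
    ((algebraMap R' (SymmetricAlgebra R' M')).comp ρ).toAlgebra
  { toFun := fun m => ι R' M' (g m)
    map_add' := fun a b => by rw [map_add, map_add]
    map_smul' := fun r m => by
      rw [hg, map_smul, Algebra.smul_def, RingHom.id_apply, Algebra.smul_def]
      rfl }

/-- the ring homomorphism `Sym_R M → Sym_{R'} M'` induced by a semilinear map -/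
noncomputable def symMap : SymmetricAlgebra R M →+* SymmetricAlgebra R' M' :=
  letI : Algebra R (SymmetricAlgebra R' M') :=
    ((algebraMap R' (SymmetricAlgebra R' M')).comp ρ).toAlgebra
  (SymmetricAlgebra.lift (linAux ρ g hg)).toRingHom

theorem symMap_algebraMap (r : R) :
    symMap ρ g hg (algebraMap R _ r) = algebraMap R' _ (ρ r) := by
  letI : Algebra R (SymmetricAlgebra R' M') :=
    ((algebraMap R' (SymmetricAlgebra R' M')).comp ρ).toAlgebra
  exact (SymmetricAlgebra.lift (linAux ρ g hg)).commutes r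

theorem symMap_ι (m : M) : symMap ρ g hg (ι R M m) = ι R' M' (g m) := by
  letI : Algebra R (SymmetricAlgebra R' M') :=
    ((algebraMap R' (SymmetricAlgebra R' M')).comp ρ).toAlgebra
  exact SymmetricAlgebra.lift_ι_apply (linAux ρ g hg) m

end Map

section Comp
variable {R R' R'' : Type*} [CommRing R] [CommRing R'] [CommRing R'']
  {M M' M'' : Type*} [AddCommGroup M] [Module R M] [AddCommGroup M'] [Module R' M']
  [AddCommGroup M''] [Module R'' M'']

theorem symMap_id (g : M →+ M) (hg : ∀ (r : R) (m : M), g (r • m) = (RingHom.id R) r • g m)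
    (hid : ∀ m, g m = m) : symMap (RingHom.id R) g hg = RingHom.id _ := by
  apply ringHom_ext
  · intro r; rw [symMap_algebraMap]; rfl
  · intro m; rw [symMap_ι, hid]; rfl

theorem symMap_comp (ρ : R →+* R') (ρ' : R' →+* R'') (g : M →+ M') (g' : M' →+ M'')
    (hg : ∀ (r : R) (m : M), g (r • m) = ρ r • g m)
    (hg' : ∀ (r : R') (m : M'), g' (r • m) = ρ' r • g' m)
    (ρ'' : R →+* R'') (g'' : M →+ M'') (hg'' : ∀ (r : R) (m : M), g'' (r • m) = ρ'' r • g'' m)
    (hρ : ∀ r, ρ'' r = ρ' (ρ r)) (hgg : ∀ m, g'' m = g' (g m)) :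
    symMap ρ'' g'' hg'' = (symMap ρ' g' hg').comp (symMap ρ g hg) := by
  apply ringHom_ext
  · intro r
    rw [symMap_algebraMap, RingHom.comp_apply, symMap_algebraMap, symMap_algebraMap, hρ]
  · intro m
    rw [symMap_ι, RingHom.comp_apply, symMap_ι, symMap_ι, hgg]

end Comp


section Loc
variable {R R' : Type u} [CommRing R] [CommRing R'] [Algebra R R'] (f : R)
  [IsLocalization.Away f R']
  {M M' : Type u} [AddCommGroup M] [Module R M] [AddCommGroup M'] [Module R' M'] [Module R M']
  [IsScalarTower R R' M'] (g : M →ₗ[R] M') [IsLocalizedModule (Submonoid.powers f) g]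

theorem hg_of_linear (r : R) (m : M) :
    g.toAddMonoidHom (r • m) = (algebraMap R R') r • g.toAddMonoidHom m := by
  change g (r • m) = _
  rw [map_smul, algebraMap_smul]
  rfl

/-- the comparison `Sym_R M → Sym_{R'} M'` for a localization -/
noncomputable abbrev Φ : SymmetricAlgebra R M →+* SymmetricAlgebra R' M' :=
  symMap (algebraMap R R') g.toAddMonoidHom (hg_of_linear g)

set_option maxHeartbeats 800000 in
set_option synthInstance.maxHeartbeats 200000 in
/-- **the symmetric algebra commutes with localization** -/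
theorem isLocalization_symMap :
    letI := (Φ g : SymmetricAlgebra R M →+* SymmetricAlgebra R' M').toAlgebra
    IsLocalization.Away (algebraMap R (SymmetricAlgebra R M) f) (SymmetricAlgebra R' M') := by
  let alg := (Φ g : SymmetricAlgebra R M →+* SymmetricAlgebra R' M').toAlgebra
  have halg : ∀ t : SymmetricAlgebra R M,
      algebraMap (SymmetricAlgebra R M) (SymmetricAlgebra R' M') t = Φ g t := fun _ => rfl
  have hu : IsUnit (algebraMap R R' f) := IsLocalization.Away.algebraMap_isUnit f
  have hΦf : Φ g (algebraMap R _ f) = algebraMap R' _ (algebraMap R R' f) := symMap_algebraMap _ _ _ f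
  -- the inverse comparison
  let T := SymmetricAlgebra R M
  let Tf := Localization.Away (algebraMap R T f)
  have huT : IsUnit (algebraMap R Tf f) := by
    rw [IsScalarTower.algebraMap_apply R T Tf]
    exact IsLocalization.Away.algebraMap_isUnit _
  let σ : R' →+* Tf := IsLocalization.Away.lift f (g := algebraMap R Tf) huT
  let algR'Tf : Algebra R' Tf := σ.toAlgebra
  have : IsScalarTower R R' Tf := IsScalarTower.of_algebraMap_eq fun r =>
    (IsLocalization.Away.lift_eq f huT r).symm
  let ℓ : M →ₗ[R] Tf := (IsScalarTower.toAlgHom R T Tf).toLinearMap ∘ₗ ι R M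
  have hEnd : ∀ x : Submonoid.powers f, IsUnit (algebraMap R (Module.End R Tf) x) := by
    rintro ⟨_, n, rfl⟩
    rw [map_pow]
    refine IsUnit.pow n ?_
    rw [Module.End.isUnit_iff]
    obtain ⟨v, hv⟩ := huT
    refine ⟨fun a b hab => ?_, fun a => ⟨(v⁻¹ : Tfˣ) * a, ?_⟩⟩
    · have h1 : algebraMap R Tf f * a = algebraMap R Tf f * b := by
        simpa [Algebra.smul_def] using hab
      rw [← hv] at h1
      exact (Units.mul_right_inj v).1 h1
    · change f • (((v⁻¹ : Tfˣ) : Tf) * a) = a
      rw [Algebra.smul_def, ← hv, ← mul_assoc, Units.mul_inv, one_mul]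
  let ℓ' : M' →ₗ[R] Tf := IsLocalizedModule.lift (Submonoid.powers f) g ℓ hEnd
  let ℓ'' : M' →ₗ[R'] Tf := LinearMap.extendScalarsOfIsLocalization (Submonoid.powers f) R' ℓ'
  let Ψ : SymmetricAlgebra R' M' →ₐ[R'] Tf := SymmetricAlgebra.lift ℓ''
  have hΨΦ : (Ψ : SymmetricAlgebra R' M' →+* Tf).comp (Φ g) = algebraMap T Tf := by
    apply ringHom_ext
    · intro r
      rw [RingHom.comp_apply, symMap_algebraMap]
      change Ψ (algebraMap R' _ (algebraMap R R' r)) = _
      rw [Ψ.commutes, ← IsScalarTower.algebraMap_apply R R' Tf, IsScalarTower.algebraMap_apply R T Tf]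
    · intro m
      rw [RingHom.comp_apply, symMap_ι]
      change Ψ (ι R' M' (g m)) = _
      rw [SymmetricAlgebra.lift_ι_apply]
      change ℓ' (g m) = _
      rw [IsLocalizedModule.lift_apply]
      rfl
  change IsLocalization (Submonoid.powers (algebraMap R (SymmetricAlgebra R M) f)) _
  rw [isLocalization_iff]
  refine ⟨?_, ?_, ?_⟩
  · rintro ⟨_, n, rfl⟩
    rw [halg, map_pow, hΦf]
    exact (hu.map _).pow n
  · intro z
    induction z using SymmetricAlgebra.induction with
    | algebraMap r' =>
      obtain ⟨⟨r, ⟨_, n, rfl⟩⟩, hr⟩ := IsLocalization.surj (Submonoid.powers f) r'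
      refine ⟨⟨algebraMap R _ r, ⟨_, n, rfl⟩⟩, ?_⟩
      simp only [halg]
      rw [map_pow, hΦf, symMap_algebraMap, ← map_pow, ← map_mul]
      have hr' : r' * (algebraMap R R') f ^ n = (algebraMap R R') r := by
        simpa only [map_pow] using hr
      exact congrArg _ hr'
    | ι m' =>
      obtain ⟨⟨m, ⟨_, n, rfl⟩⟩, hm⟩ := IsLocalizedModule.surj (Submonoid.powers f) g m'
      refine ⟨⟨ι R M m, ⟨_, n, rfl⟩⟩, ?_⟩
      simp only [halg]
      rw [map_pow, hΦf, symMap_ι, ← map_pow, mul_comm, ← Algebra.smul_def, ← map_smul]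
      congr 1
      change (f ^ n) • m' = g m at hm
      change _ = g m
      rw [← hm, ← map_pow, algebraMap_smul]
    | mul a b ha hb =>
      obtain ⟨⟨ta, ⟨_, na, rfl⟩⟩, hta⟩ := ha
      obtain ⟨⟨tb, ⟨_, nb, rfl⟩⟩, htb⟩ := hb
      refine ⟨⟨ta * tb, ⟨_, na + nb, rfl⟩⟩, ?_⟩
      simp only [halg] at hta htb ⊢
      rw [map_mul, ← hta, ← htb, pow_add, map_mul]
      ring
    | add a b ha hb =>
      obtain ⟨⟨ta, ⟨_, na, rfl⟩⟩, hta⟩ := ha
      obtain ⟨⟨tb, ⟨_, nb, rfl⟩⟩, htb⟩ := hb
      refine ⟨⟨ta * algebraMap R _ f ^ nb + tb * algebraMap R _ f ^ na, ⟨_, na + nb, rfl⟩⟩, ?_⟩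
      simp only [halg] at hta htb ⊢
      rw [map_add, map_mul, map_mul, ← hta, ← htb, pow_add, map_mul]
      ring
  · intro a b hab
    rw [halg, halg] at hab
    have h1 : algebraMap T Tf a = algebraMap T Tf b := by
      rw [← hΨΦ, RingHom.comp_apply, RingHom.comp_apply, hab]
    exact (IsLocalization.eq_iff_exists (Submonoid.powers (algebraMap R T f)) Tf).1 h1

end Loc

end Groth.Agent.Helper1.SymLoc
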