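import Mathlib
import Groth.Prelude.Def_RelSpec
import Groth.Prelude.Def_Coh
import Groth.Agent.Lib.Helper1.QcAbel
import Groth.Agent.Lib.Helper1.SymLoc
import Groth.Agent.Lib.Helper1.AffGlue
import Groth.Agent.Lib.Helper1.AffExt
import Groth.Agent.Lib.Helper1.ModGlue

set_option autoImplicit false
universe u
open CategoryTheory CategoryTheory.Limits AlgebraicGeometry TopologicalSpace Opposite

namespace Groth.Agent.Helper1.SymAlg

open Groth.Agent.Helper1.SymLoc Groth.Agent.Helper1.QcCech Groth.Agent.Helper1

variable {S : Scheme.{u}} (E : S.Modules)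

/-- the symmetric algebra of the sections over an open -/
abbrev SymSec (U : S.Opens) : Type u := SymmetricAlgebra Γ(S, U) Γ(E, U)

/-- restriction maps of the symmetric algebras of sections -/
noncomputable def symRes {U V : S.Opens} (h : V ≤ U) : SymSec E U →+* SymSec E V :=
  symMap (resR h) (res E h) (fun r m => res_smul E h r m)

theorem symRes_algebraMap {U V : S.Opens} (h : V ≤ U) (r : Γ(S, U)) :
    symRes E h (algebraMap Γ(S, U) (SymSec E U) r) = algebraMap Γ(S, V) (SymSec E V) (resR h r) :=
  symMap_algebraMap _ _ _ r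

theorem symRes_ι {U V : S.Opens} (h : V ≤ U) (m : Γ(E, U)) :
    symRes E h (SymmetricAlgebra.ι Γ(S, U) Γ(E, U) m) =
      SymmetricAlgebra.ι Γ(S, V) Γ(E, V) (res E h m) :=
  symMap_ι _ _ _ m

theorem symRes_self {U : S.Opens} (h : U ≤ U) : symRes E h = RingHom.id _ := by
  apply ringHom_ext
  · intro r
    rw [symRes_algebraMap]
    have : resR h r = r := by
      have : (homOfLE h).op = 𝟙 _ := Subsingleton.elim _ _
      change (S.presheaf.map (homOfLE h).op).hom r = r
      rw [this, CategoryTheory.Functor.map_id]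
      rfl
    rw [this]; rfl
  · intro m
    rw [symRes_ι, res_self]; rfl

theorem symRes_comp {U V W : S.Opens} (h : V ≤ U) (h' : W ≤ V) :
    symRes E (h'.trans h) = (symRes E h').comp (symRes E h) := by
  apply ringHom_ext
  · intro r
    rw [symRes_algebraMap, RingHom.comp_apply, symRes_algebraMap, symRes_algebraMap, resR_resR]
  · intro m
    rw [symRes_ι, RingHom.comp_apply, symRes_ι, symRes_ι, res_res]

/-- the presheaf of symmetric algebras on the affine opens -/
noncomputable def symF : S.AffineZariskiSiteᵒᵖ ⥤ CommRingCat.{u} where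
  obj U := CommRingCat.of (SymSec E U.unop.1)
  map i := CommRingCat.ofHom (symRes E (Scheme.AffineZariskiSite.toOpens_mono i.unop.le))
  map_id U := by
    apply CommRingCat.hom_ext
    exact symRes_self E _
  map_comp i j := by
    apply CommRingCat.hom_ext
    exact symRes_comp E (Scheme.AffineZariskiSite.toOpens_mono i.unop.le)
      (Scheme.AffineZariskiSite.toOpens_mono j.unop.le)

/-- the structure map -/
noncomputable def symα :
    (Scheme.AffineZariskiSite.toOpensFunctor S).op ⋙ S.presheaf ⟶ symF E where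
  app U := CommRingCat.ofHom (algebraMap Γ(S, U.unop.1) (SymSec E U.unop.1))
  naturality U V i := by
    ext r
    exact (symRes_algebraMap E (Scheme.AffineZariskiSite.toOpens_mono i.unop.le) r).symm

section Loc

variable {U : S.Opens} (hU : IsAffineOpen U) (f : Γ(S, U))

/-- restriction to a basic open as a linear map -/
noncomputable def resLin :
    letI : Module Γ(S, U) Γ(E, S.basicOpen f) := Module.compHom _ (resR (S.basicOpen_le f))
    Γ(E, U) →ₗ[Γ(S, U)] Γ(E, S.basicOpen f) :=
  letI : Module Γ(S, U) Γ(E, S.basicOpen f) := Module.compHom _ (resR (S.basicOpen_le f))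
  { toFun := res E (S.basicOpen_le f)
    map_add' := map_add _
    map_smul' := fun r m => res_smul E (S.basicOpen_le f) r m }

include hU in
theorem isLocalizedModule_resLin [E.IsQuasicoherent] :
    letI : Module Γ(S, U) Γ(E, S.basicOpen f) := Module.compHom _ (resR (S.basicOpen_le f))
    IsLocalizedModule (Submonoid.powers f) (resLin E f) := by
  let _ : Module Γ(S, U) Γ(E, S.basicOpen f) := Module.compHom _ (resR (S.basicOpen_le f))
  have hsm : ∀ (r : Γ(S, U)) (m : Γ(E, S.basicOpen f)), r • m = resR (S.basicOpen_le f) r • m :=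
    fun _ _ => rfl
  refine IsLocalizedModule.Away.mk_of_addCommGroup ?_ ?_ ?_
  · have hu : IsUnit (resR (S.basicOpen_le f) f) := S.toRingedSpace.isUnit_res_basicOpen f
    obtain ⟨v, hv⟩ := hu
    rw [Module.End.isUnit_iff]
    refine ⟨fun a b hab => ?_, fun a => ⟨((v⁻¹ : (Γ(S, S.basicOpen f))ˣ) : Γ(S, S.basicOpen f)) • a, ?_⟩⟩
    · have h1 : resR (S.basicOpen_le f) f • a = resR (S.basicOpen_le f) f • b := hab
      rw [← hv] at h1
      have := congrArg (fun z => ((v⁻¹ : (Γ(S, S.basicOpen f))ˣ) : Γ(S, S.basicOpen f)) • z) h1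
      simpa [smul_smul] using this
    · change resR (S.basicOpen_le f) f •
        (((v⁻¹ : (Γ(S, S.basicOpen f))ˣ) : Γ(S, S.basicOpen f)) • a) = a
      rw [← hv, smul_smul, Units.mul_inv, one_smul]
  · intro x
    obtain ⟨n, t, ht⟩ := QcAbel.extP_of_isQuasicoherent E U hU f _ rfl x
    refine ⟨n, t, ?_⟩
    change _ = res E (S.basicOpen_le f) t
    rw [ht, hsm, map_pow]
  · intro x hx
    exact QcAbel.killP_of_isQuasicoherent E U hU f _ rfl x hx

end Loc

section Flex
variable {R R' : Type u} [CommRing R] [CommRing R'] [Algebra R R'] (f : R)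
  [IsLocalization.Away f R']
  {M M' : Type u} [AddCommGroup M] [Module R M] [AddCommGroup M'] [Module R' M'] [Module R M']
  [IsScalarTower R R' M'] (g : M →ₗ[R] M') [IsLocalizedModule (Submonoid.powers f) g]

/-- flexible form of `isLocalization_symMap` -/
theorem isLocalization_of_ringHom (Φ' : SymmetricAlgebra R M →+* SymmetricAlgebra R' M')
    (h1 : ∀ r : R, Φ' (algebraMap R _ r) = algebraMap R' _ (algebraMap R R' r))
    (h2 : ∀ m : M, Φ' (SymmetricAlgebra.ι R M m) = SymmetricAlgebra.ι R' M' (g m)) :
    letI := Φ'.toAlgebra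
    IsLocalization.Away (algebraMap R (SymmetricAlgebra R M) f) (SymmetricAlgebra R' M') := by
  have e : Φ' = Φ g := by
    apply ringHom_ext
    · intro r; rw [h1, symMap_algebraMap]
    · intro m; rw [h2, symMap_ι]; rfl
  subst e
  exact isLocalization_symMap f g

end Flex

theorem coequifibered [E.IsQuasicoherent] : (symα E).Coequifibered := by
  rw [Scheme.AffineZariskiSite.coequifibered_iff_forall_isLocalizationAway]
  intro U f
  let _ : Algebra Γ(S, U.1) Γ(S, S.basicOpen f) := (resR (S.basicOpen_le f)).toAlgebra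
  have : IsLocalization.Away f Γ(S, S.basicOpen f) := U.2.isLocalization_basicOpen f
  let _ : Module Γ(S, U.1) Γ(E, S.basicOpen f) := Module.compHom _ (resR (S.basicOpen_le f))
  have : IsScalarTower Γ(S, U.1) Γ(S, S.basicOpen f) Γ(E, S.basicOpen f) := ⟨fun r r' m => by
    change (resR (S.basicOpen_le f) r * r') • m = resR (S.basicOpen_le f) r • (r' • m)
    rw [mul_smul]⟩
  have := isLocalizedModule_resLin E U.2 f
  exact isLocalization_of_ringHom f (resLin E f) (symRes E (S.basicOpen_le f))
    (fun r => symRes_algebraMap E _ r) (fun m => symRes_ι E _ m)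

section Univ

variable (B : RelSpec.QCAlg S) (φ : E ⟶ B.toModule)

theorem toModuleMap_app {A B : RelSpec.QCAlg S} (ψ : A ⟶ B) (U : S.Opens)
    (x : Γ(A.toModule, U)) :
    (RelSpec.QCAlg.Hom.toModuleMap ψ).app U x =
      (show Γ(B.toModule, U) from (ψ.hom.app (op U)).hom (show A.presheaf.obj (op U) from x)) :=
  rfl

/-- the linear map on sections over `U` -/
noncomputable def φLin (U : S.Opens) :
    letI : Algebra Γ(S, U) (B.presheaf.obj (op U)) := (B.str.app (op U)).hom.toAlgebra
    Γ(E, U) →ₗ[Γ(S, U)] B.presheaf.obj (op U) :=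
  letI : Algebra Γ(S, U) (B.presheaf.obj (op U)) := (B.str.app (op U)).hom.toAlgebra
  { toFun := fun e => (show B.presheaf.obj (op U) from φ.app U e)
    map_add' := fun a b => map_add (φ.app U).hom a b
    map_smul' := fun r e => (Scheme.Modules.Hom.app_smul φ r e) }

/-- the lift on sections over `U` -/
noncomputable def liftAff (U : S.Opens) : SymSec E U →+* B.presheaf.obj (op U) :=
  letI : Algebra Γ(S, U) (B.presheaf.obj (op U)) := (B.str.app (op U)).hom.toAlgebra
  (SymmetricAlgebra.lift (φLin E B φ U)).toRingHom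

theorem liftAff_algebraMap (U : S.Opens) (r : Γ(S, U)) :
    liftAff E B φ U (algebraMap Γ(S, U) (SymSec E U) r) = (B.str.app (op U)).hom r := by
  let _ : Algebra Γ(S, U) (B.presheaf.obj (op U)) := (B.str.app (op U)).hom.toAlgebra
  exact (SymmetricAlgebra.lift (φLin E B φ U)).commutes r

theorem liftAff_ι (U : S.Opens) (e : Γ(E, U)) :
    liftAff E B φ U (SymmetricAlgebra.ι Γ(S, U) Γ(E, U) e) =
      (show B.presheaf.obj (op U) from φ.app U e) := by
  let _ : Algebra Γ(S, U) (B.presheaf.obj (op U)) := (B.str.app (op U)).hom.toAlgebra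
  exact SymmetricAlgebra.lift_ι_apply (φLin E B φ U) e

theorem liftAff_res {U V : S.Opens} (h : V ≤ U) :
    (liftAff E B φ V).comp (symRes E h) =
      (B.presheaf.map (homOfLE h).op).hom.comp (liftAff E B φ U) := by
  apply ringHom_ext
  · intro r
    rw [RingHom.comp_apply, RingHom.comp_apply, symRes_algebraMap, liftAff_algebraMap,
      liftAff_algebraMap]
    have := B.str.naturality (homOfLE h).op
    exact (ConcreteCategory.congr_hom this r)
  · intro e
    rw [RingHom.comp_apply, RingHom.comp_apply, symRes_ι, liftAff_ι, liftAff_ι]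
    exact (ModGlue.app_res φ h e).symm

end Univ

section Construct

variable [E.IsQuasicoherent]

/-- **the symmetric algebra of a quasi-coherent module** -/
noncomputable def symAlg : RelSpec.QCAlg S := AffGlue.alg (coequifibered E)

/-- sections of the symmetric algebra over an affine open -/
noncomputable def secIso (U : S.Opens) (hU : IsAffineOpen U) :
    SymSec E U →+* (symAlg E).presheaf.obj (op U) :=
  (AffGlue.gammaInv (coequifibered E) ⟨U, hU⟩).hom

noncomputable def secIsoInv (U : S.Opens) (hU : IsAffineOpen U) :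
    (symAlg E).presheaf.obj (op U) →+* SymSec E U :=
  (AffGlue.gammaAff (coequifibered E) ⟨U, hU⟩).hom

theorem secIso_inv (U : S.Opens) (hU : IsAffineOpen U) (x : SymSec E U) :
    secIsoInv E U hU (secIso E U hU x) = x := by
  have := AffGlue.gammaInv_gammaAff (coequifibered E) ⟨U, hU⟩
  exact ConcreteCategory.congr_hom this x

theorem inv_secIso (U : S.Opens) (hU : IsAffineOpen U) (y : (symAlg E).presheaf.obj (op U)) :
    secIso E U hU (secIsoInv E U hU y) = y := by
  have := AffGlue.gammaAff_gammaInv (coequifibered E) ⟨U, hU⟩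
  exact ConcreteCategory.congr_hom this y

theorem secIso_algebraMap (U : S.Opens) (hU : IsAffineOpen U) (r : Γ(S, U)) :
    secIso E U hU (algebraMap Γ(S, U) (SymSec E U) r) = ((symAlg E).str.app (op U)).hom r := by
  have := AffGlue.α_gammaInv (coequifibered E) ⟨U, hU⟩
  exact ConcreteCategory.congr_hom this r

theorem secIso_res (U : S.Opens) (hU : IsAffineOpen U) (r : Γ(S, U)) (x : SymSec E U) :
    ((symAlg E).presheaf.map (homOfLE (S.basicOpen_le r)).op).hom (secIso E U hU x) =
      secIso E (S.basicOpen r) (hU.basicOpen r) (symRes E (S.basicOpen_le r) x) := by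
  have := AffGlue.gammaInv_naturality (coequifibered E)
    (U := ⟨U, hU⟩) (V := ⟨S.basicOpen r, hU.basicOpen r⟩)
    (homOfLE (Scheme.AffineZariskiSite.basicOpen_le ⟨U, hU⟩ r))
  exact ConcreteCategory.congr_hom this x

/-- the family defining `j` -/
noncomputable def jFam : AffExt.Fam E (symAlg E).toModule where
  f U hU e := (show Γ((symAlg E).toModule, U) from
    secIso E U hU (SymmetricAlgebra.ι Γ(S, U) Γ(E, U) e))
  hadd U hU a b := by
    change secIso E U hU _ = secIso E U hU _ + secIso E U hU _
    rw [map_add, map_add]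
  hsmul U hU r a := by
    change secIso E U hU _ = ((symAlg E).str.app (op U)).hom r * secIso E U hU _
    rw [map_smul, Algebra.smul_def, map_mul, secIso_algebraMap]
  hres U hU r a := by
    change ((symAlg E).presheaf.map (homOfLE (S.basicOpen_le r)).op).hom (secIso E U hU _) =
      secIso E (S.basicOpen r) (hU.basicOpen r) _
    rw [secIso_res, symRes_ι]

/-- the canonical map `E ⟶ Sym(E)` -/
noncomputable def j : E ⟶ (symAlg E).toModule := (jFam E).hom

theorem j_app (U : S.Opens) (hU : IsAffineOpen U) (e : Γ(E, U)) :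
    (j E).app U e = (show Γ((symAlg E).toModule, U) from
      secIso E U hU (SymmetricAlgebra.ι Γ(S, U) Γ(E, U) e)) :=
  (jFam E).hom_app U hU e


section UP

variable (B : RelSpec.QCAlg S) (φ : E ⟶ B.toModule)

/-- the natural transformation on affine opens -/
noncomputable def τ : symF E ⟶ (Scheme.AffineZariskiSite.toOpensFunctor S).op ⋙ B.presheaf where
  app U := CommRingCat.ofHom (liftAff E B φ U.unop.1)
  naturality U V i := by
    apply CommRingCat.hom_ext
    exact liftAff_res E B φ (Scheme.AffineZariskiSite.toOpens_mono i.unop.le)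

omit [E.IsQuasicoherent] in
theorem hτ (U : S.AffineZariskiSite) :
    (symα E).app (op U) ≫ (τ E B φ).app (op U) = B.str.app (op U.1) := by
  apply CommRingCat.hom_ext
  apply RingHom.ext
  intro r
  exact liftAff_algebraMap E B φ U.1 r

/-- the induced algebra homomorphism -/
noncomputable def lift : symAlg E ⟶ B := AffGlue.homOf (coequifibered E) B (τ E B φ) (hτ E B φ)

theorem lift_app (U : S.Opens) (hU : IsAffineOpen U) (y : (symAlg E).presheaf.obj (op U)) :
    ((lift E B φ).hom.app (op U)).hom y = liftAff E B φ U (secIsoInv E U hU y) := by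
  have := AffGlue.homOf_app (coequifibered E) B (τ E B φ) (hτ E B φ) ⟨U, hU⟩
  exact ConcreteCategory.congr_hom this y

theorem j_lift : j E ≫ RelSpec.QCAlg.Hom.toModuleMap (lift E B φ) = φ := by
  apply AffExt.hom_ext_affine
  intro U hU e
  change (RelSpec.QCAlg.Hom.toModuleMap (lift E B φ)).app U ((j E).app U e) = _
  rw [toModuleMap_app, j_app E U hU]
  change ((lift E B φ).hom.app (op U)).hom (secIso E U hU _) = _
  rw [lift_app E B φ U hU, secIso_inv, liftAff_ι]

theorem lift_unique (ψ : symAlg E ⟶ B) (hψ : j E ≫ RelSpec.QCAlg.Hom.toModuleMap ψ = φ) :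
    ψ = lift E B φ := by
  apply AffGlue.hom_ext_affine
  intro U
  apply CommRingCat.hom_ext
  apply RingHom.ext
  intro y
  obtain ⟨x, rfl⟩ : ∃ x, secIso E U.1 U.2 x = y := ⟨_, inv_secIso E U.1 U.2 y⟩
  rw [lift_app E B φ U.1 U.2, secIso_inv]
  have key : (ψ.hom.app (op U.1)).hom.comp (secIso E U.1 U.2) = liftAff E B φ U.1 := by
    apply ringHom_ext
    · intro r
      rw [RingHom.comp_apply, secIso_algebraMap, liftAff_algebraMap]
      have := NatTrans.congr_app ψ.comm (op U.1)
      exact ConcreteCategory.congr_hom this r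
    · intro e
      rw [RingHom.comp_apply, liftAff_ι, ← hψ]
      change _ = (RelSpec.QCAlg.Hom.toModuleMap ψ).app U.1 ((j E).app U.1 e)
      rw [toModuleMap_app, j_app E U.1 U.2]
  exact RingHom.congr_fun key x

/-- **existence of the symmetric algebra** -/
theorem isSymAlg : RelSpec.IsSymAlg E (symAlg E) (j E) := fun B φ =>
  ⟨lift E B φ, j_lift E B φ, fun ψ hψ => lift_unique E B φ ψ hψ⟩

end UP

end Construct

end Groth.Agent.Helper1.SymAlg
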