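import Mathlib
import Groth.Agent.Lib.Helper1.SymAlg

set_option autoImplicit false
universe u
open CategoryTheory CategoryTheory.Limits AlgebraicGeometry TopologicalSpace Opposite

namespace Groth.Agent.Helper1.SymAlg

open Groth.Agent.Helper1.SymLoc Groth.Agent.Helper1.QcCech Groth.Agent.Helper1

variable {S : Scheme.{u}}

theorem toModuleMap_id (A : RelSpec.QCAlg S) :
    RelSpec.QCAlg.Hom.toModuleMap (𝟙 A) = 𝟙 A.toModule := rfl

theorem toModuleMap_comp {A B C : RelSpec.QCAlg S} (f : A ⟶ B) (g : B ⟶ C) :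
    RelSpec.QCAlg.Hom.toModuleMap (f ≫ g) =
      RelSpec.QCAlg.Hom.toModuleMap f ≫ RelSpec.QCAlg.Hom.toModuleMap g := rfl

/-- two symmetric algebras of the same module are canonically isomorphic -/
theorem exists_iso {E : S.Modules} {A A' : RelSpec.QCAlg S} {j : E ⟶ A.toModule}
    {j' : E ⟶ A'.toModule} (hA : RelSpec.IsSymAlg E A j) (hA' : RelSpec.IsSymAlg E A' j') :
    ∃ θ : A ≅ A', j ≫ RelSpec.QCAlg.Hom.toModuleMap θ.hom = j' := by
  obtain ⟨f, hf, -⟩ := hA A' j'
  obtain ⟨g, hg, -⟩ := hA' A j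
  have h1 : f ≫ g = 𝟙 A := by
    obtain ⟨k, -, hk⟩ := hA A j
    rw [hk (f ≫ g) (by show j ≫ _ = j; rw [toModuleMap_comp, ← Category.assoc, hf, hg]),
      hk (𝟙 A) (by show j ≫ _ = j; rw [toModuleMap_id, Category.comp_id])]
  have h2 : g ≫ f = 𝟙 A' := by
    obtain ⟨k, -, hk⟩ := hA' A' j'
    rw [hk (g ≫ f) (by show j' ≫ _ = j'; rw [toModuleMap_comp, ← Category.assoc, hg, hf]),
      hk (𝟙 A') (by show j' ≫ _ = j'; rw [toModuleMap_id, Category.comp_id])]
  exact ⟨⟨f, g, h1, h2⟩, hf⟩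

variable (E : S.Modules) [E.IsQuasicoherent]

/-- **sections of any symmetric algebra over an affine open** -/
theorem exists_ringEquiv {A : RelSpec.QCAlg S} {jA : E ⟶ A.toModule} (hA : RelSpec.IsSymAlg E A jA)
    (U : S.Opens) (hU : IsAffineOpen U) :
    ∃ c : SymSec E U ≃+* A.presheaf.obj (op U),
      (∀ r : Γ(S, U), c (algebraMap Γ(S, U) (SymSec E U) r) = (A.str.app (op U)).hom r) ∧
      (∀ e : Γ(E, U), c (SymmetricAlgebra.ι Γ(S, U) Γ(E, U) e) =
        (show A.presheaf.obj (op U) from jA.app U e)) := by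
  obtain ⟨θ, hθ⟩ := exists_iso (isSymAlg E) hA
  let f : SymSec E U →+* A.presheaf.obj (op U) := (θ.hom.hom.app (op U)).hom.comp (secIso E U hU)
  let g : A.presheaf.obj (op U) →+* SymSec E U := (secIsoInv E U hU).comp (θ.inv.hom.app (op U)).hom
  have hgf : ∀ x, g (f x) = x := by
    intro x
    change secIsoInv E U hU ((θ.inv.hom.app (op U)).hom ((θ.hom.hom.app (op U)).hom _)) = x
    have h1 : θ.hom.hom.app (op U) ≫ θ.inv.hom.app (op U) = 𝟙 _ := by
      rw [← NatTrans.comp_app, ← RelSpec.QCAlg.comp_hom, θ.hom_inv_id]; rfl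
    have h2 := ConcreteCategory.congr_hom h1 (secIso E U hU x)
    change (θ.inv.hom.app (op U)).hom ((θ.hom.hom.app (op U)).hom _) = _ at h2
    rw [h2]
    exact secIso_inv E U hU x
  have hfg : ∀ y, f (g y) = y := by
    intro y
    change (θ.hom.hom.app (op U)).hom (secIso E U hU (secIsoInv E U hU _)) = y
    rw [inv_secIso]
    have h1 : θ.inv.hom.app (op U) ≫ θ.hom.hom.app (op U) = 𝟙 _ := by
      rw [← NatTrans.comp_app, ← RelSpec.QCAlg.comp_hom, θ.inv_hom_id]; rfl
    exact ConcreteCategory.congr_hom h1 y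
  refine ⟨RingEquiv.ofRingHom f g (RingHom.ext hfg) (RingHom.ext hgf), ?_, ?_⟩
  · intro r
    change (θ.hom.hom.app (op U)).hom (secIso E U hU _) = _
    rw [secIso_algebraMap]
    have := NatTrans.congr_app θ.hom.comm (op U)
    exact ConcreteCategory.congr_hom this r
  · intro e
    change (θ.hom.hom.app (op U)).hom (secIso E U hU _) = _
    rw [← hθ]
    change _ = (RelSpec.QCAlg.Hom.toModuleMap θ.hom).app U ((j E).app U e)
    rw [toModuleMap_app, j_app E U hU]

end Groth.Agent.Helper1.SymAlg
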