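import Mathlib
import Groth.Agent.Lib.Helper1.SymCmp
import Groth.Agent.Lib.Helper1.AffPushEpi

set_option autoImplicit false
universe u
open CategoryTheory CategoryTheory.Limits AlgebraicGeometry TopologicalSpace Opposite

namespace Groth.Agent.Helper1.SymAlg

open Groth.Agent.Helper1.SymLoc Groth.Agent.Helper1.QcCech Groth.Agent.Helper1

variable {S : Scheme.{u}}

/-- the chart square of a morphism of relative spectra is a pullback square -/
theorem isPullback_chart {A B : RelSpec.QCAlg S} (ψ : A ⟶ B) (U : S.Opens) (hU : IsAffineOpen U) :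
    IsPullback (Spec.map (ψ.hom.app (op U))) (B.ι U hU) (A.ι U hU) (RelSpec.QCAlg.specMap ψ) := by
  apply IsOpenImmersion.isPullback
  · exact RelSpec.QCAlg.ι_specMap U hU ψ
  · rw [← A.π_preimage U hU, ← Scheme.Hom.comp_preimage, RelSpec.QCAlg.specMap_π, B.π_preimage U hU]

/-- a property local on the target can be checked on the charts of a relative spectrum -/
theorem specMap_of_charts {P : MorphismProperty Scheme.{u}} [IsZariskiLocalAtTarget P]
    {A B : RelSpec.QCAlg S} (ψ : A ⟶ B)
    (h : ∀ (U : S.Opens) (_ : IsAffineOpen U), P (Spec.map (ψ.hom.app (op U)))) :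
    P (RelSpec.QCAlg.specMap ψ) := by
  refine IsZariskiLocalAtTarget.of_openCover (show A.spec.OpenCover from A.glueData.cover) ?_
  intro U
  have sq := (isPullback_chart ψ U.1 U.2).flip
  change P (pullback.snd (RelSpec.QCAlg.specMap ψ) (A.ι U.1 U.2))
  rw [← sq.isoPullback_inv_snd, P.cancel_left_of_respectsIso]
  exact h U.1 U.2

theorem isClosedImmersion_specMap_of_surjective {A B : RelSpec.QCAlg S} (ψ : A ⟶ B)
    (h : ∀ (U : S.Opens) (_ : IsAffineOpen U), Function.Surjective (ψ.hom.app (op U)).hom) :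
    IsClosedImmersion (RelSpec.QCAlg.specMap ψ) :=
  specMap_of_charts (P := @IsClosedImmersion) ψ
    (fun U hU => IsClosedImmersion.spec_of_surjective _ (h U hU))

theorem main8268 (E F : S.Modules) (hE : Coh.IsQCoh E)
    (hF : Coh.IsQCoh F) (u : E ⟶ F) [Epi u]
    (A B : RelSpec.QCAlg S) (jA : E ⟶ A.toModule) (k : F ⟶ B.toModule)
    (_hA : RelSpec.IsSymAlg E A jA) (hB : RelSpec.IsSymAlg F B k)
    (ψ : A ⟶ B) (hψ : jA ≫ RelSpec.QCAlg.Hom.toModuleMap ψ = u ≫ k) :
    IsClosedImmersion (RelSpec.QCAlg.specMap ψ) := by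
  have : E.IsQuasicoherent := hE
  have : F.IsQuasicoherent := hF
  apply isClosedImmersion_specMap_of_surjective
  intro U hU y
  obtain ⟨cB, hB1, hB2⟩ := exists_ringEquiv F hB U hU
  obtain ⟨x, rfl⟩ := cB.surjective y
  induction x using SymmetricAlgebra.induction with
  | algebraMap r =>
    refine ⟨(A.str.app (op U)).hom r, ?_⟩
    rw [hB1]
    have := NatTrans.congr_app ψ.comm (op U)
    exact ConcreteCategory.congr_hom this r
  | ι f =>
    obtain ⟨e, rfl⟩ := AffPushEpi.app_surjective_of_epi u U hU f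
    refine ⟨(show A.presheaf.obj (op U) from jA.app U e), ?_⟩
    rw [hB2]
    have h1 := congrArg (fun φ => Scheme.Modules.Hom.app φ U e) hψ
    exact h1
  | mul a b ha hb =>
    obtain ⟨a', ha'⟩ := ha
    obtain ⟨b', hb'⟩ := hb
    exact ⟨a' * b', by rw [map_mul, map_mul, ha', hb']⟩
  | add a b ha hb =>
    obtain ⟨a', ha'⟩ := ha
    obtain ⟨b', hb'⟩ := hb
    exact ⟨a' + b', by rw [map_add, map_add, ha', hb']⟩

end Groth.Agent.Helper1.SymAlg
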