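import Mathlib
import Groth.Agent.Lib.Helper1.SymCmp

set_option autoImplicit false
universe u
open CategoryTheory CategoryTheory.Limits AlgebraicGeometry TopologicalSpace Opposite

namespace Groth.Agent.Helper1.SymAlg

open Groth.Agent.Helper1.SymLoc Groth.Agent.Helper1.QcCech Groth.Agent.Helper1

variable {S : Scheme.{u}} (E : S.Modules) [E.IsQuasicoherent]
  {A : RelSpec.QCAlg S} {jA : E ⟶ A.toModule} (hA : RelSpec.IsSymAlg E A jA)
  (U : S.Opens) (hU : IsAffineOpen U)

include hA hU in
/-- ring homomorphisms out of the sections of a symmetric algebra over an affine open are determined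
by their values on scalars and on the image of `E` -/
theorem secHom_ext {C : Type*} [Semiring C] {m m' : A.presheaf.obj (op U) →+* C}
    (h1 : ∀ r : Γ(S, U), m ((A.str.app (op U)).hom r) = m' ((A.str.app (op U)).hom r))
    (h2 : ∀ e : Γ(E, U), m (show A.presheaf.obj (op U) from jA.app U e) =
      m' (show A.presheaf.obj (op U) from jA.app U e)) : m = m' := by
  obtain ⟨c, hc1, hc2⟩ := exists_ringEquiv E hA U hU
  have key : m.comp (c : SymSec E U →+* A.presheaf.obj (op U)) =
      m'.comp (c : SymSec E U →+* A.presheaf.obj (op U)) := by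
    apply ringHom_ext
    · intro r
      change m (c _) = m' (c _)
      rw [hc1, h1]
    · intro e
      change m (c _) = m' (c _)
      rw [hc2, h2]
  refine RingHom.ext fun y => ?_
  obtain ⟨x, rfl⟩ := c.surjective y
  exact RingHom.congr_fun key x

include hA hU in
/-- construction of ring homomorphisms out of the sections of a symmetric algebra -/
theorem exists_secHom {C : Type u} [CommRing C] (s : Γ(S, U) →+* C) (ℓ : Γ(E, U) →+ C)
    (hℓ : ∀ (r : Γ(S, U)) (e : Γ(E, U)), ℓ (r • e) = s r * ℓ e) :
    ∃ m : A.presheaf.obj (op U) →+* C,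
      (∀ r : Γ(S, U), m ((A.str.app (op U)).hom r) = s r) ∧
      (∀ e : Γ(E, U), m (show A.presheaf.obj (op U) from jA.app U e) = ℓ e) := by
  obtain ⟨c, hc1, hc2⟩ := exists_ringEquiv E hA U hU
  letI : Algebra Γ(S, U) C := s.toAlgebra
  let L : Γ(E, U) →ₗ[Γ(S, U)] C :=
    { toFun := ℓ
      map_add' := map_add ℓ
      map_smul' := fun r e => hℓ r e }
  let m0 : SymSec E U →+* C := (SymmetricAlgebra.lift L).toRingHom
  refine ⟨m0.comp (c.symm : A.presheaf.obj (op U) →+* SymSec E U), ?_, ?_⟩
  · intro r
    change m0 (c.symm _) = _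
    rw [← hc1, c.symm_apply_apply]
    exact (SymmetricAlgebra.lift L).commutes r
  · intro e
    change m0 (c.symm _) = _
    rw [← hc2, c.symm_apply_apply]
    exact SymmetricAlgebra.lift_ι_apply L e

end Groth.Agent.Helper1.SymAlg
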