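import Mathlib
import Groth.Agent.Lib.Helper1.SymCmp2
import Groth.Agent.Lib.Helper1.SymCI
import Groth.Agent.Lib.Helper1.QcProd
import Groth.Agent.Lib.Helper1.SpecBC

set_option autoImplicit false
universe u
open CategoryTheory CategoryTheory.Limits AlgebraicGeometry TopologicalSpace Opposite

namespace Groth.Agent.Helper1.SymAlg

open Groth.Agent.Helper1.SymLoc Groth.Agent.Helper1.QcCech Groth.Agent.Helper1

variable {S : Scheme.{u}}

section Bi

variable (E F : S.Modules) (U : S.Opens)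

theorem biprod_decomp (x : Γ(E ⊞ F, U)) :
    x = (biprod.inl : E ⟶ E ⊞ F).app U ((biprod.fst : E ⊞ F ⟶ E).app U x) +
      (biprod.inr : F ⟶ E ⊞ F).app U ((biprod.snd : E ⊞ F ⟶ F).app U x) := by
  have h : (biprod.fst ≫ biprod.inl + biprod.snd ≫ biprod.inr : E ⊞ F ⟶ E ⊞ F) = 𝟙 _ :=
    biprod.total
  have h2 := congrArg (fun φ => Scheme.Modules.Hom.app φ U x) h
  exact h2.symm

theorem fst_inl (e : Γ(E, U)) :
    (biprod.fst : E ⊞ F ⟶ E).app U ((biprod.inl : E ⟶ E ⊞ F).app U e) = e := by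
  have h : ((biprod.inl : E ⟶ E ⊞ F) ≫ biprod.fst : E ⟶ E) = 𝟙 _ := biprod.inl_fst
  exact congrArg (fun φ => Scheme.Modules.Hom.app φ U e) h

theorem snd_inl (e : Γ(E, U)) :
    (biprod.snd : E ⊞ F ⟶ F).app U ((biprod.inl : E ⟶ E ⊞ F).app U e) = 0 := by
  have h : (biprod.inl ≫ biprod.snd : E ⟶ F) = 0 := biprod.inl_snd
  exact congrArg (fun φ => Scheme.Modules.Hom.app φ U e) h

theorem fst_inr (f : Γ(F, U)) :
    (biprod.fst : E ⊞ F ⟶ E).app U ((biprod.inr : F ⟶ E ⊞ F).app U f) = 0 := by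
  have h : (biprod.inr ≫ biprod.fst : F ⟶ E) = 0 := biprod.inr_fst
  exact congrArg (fun φ => Scheme.Modules.Hom.app φ U f) h

theorem snd_inr (f : Γ(F, U)) :
    (biprod.snd : E ⊞ F ⟶ F).app U ((biprod.inr : F ⟶ E ⊞ F).app U f) = f := by
  have h : ((biprod.inr : F ⟶ E ⊞ F) ≫ biprod.snd : F ⟶ F) = 𝟙 _ := biprod.inr_snd
  exact congrArg (fun φ => Scheme.Modules.Hom.app φ U f) h

end Bi

section Push

variable (E F : S.Modules) [E.IsQuasicoherent] [F.IsQuasicoherent]
  {AE AF A : RelSpec.QCAlg S} {jE : E ⟶ AE.toModule} {jF : F ⟶ AF.toModule}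
  {j : E ⊞ F ⟶ A.toModule}
  (hAE : RelSpec.IsSymAlg E AE jE) (hAF : RelSpec.IsSymAlg F AF jF)
  (hA : RelSpec.IsSymAlg (E ⊞ F) A j)
  (ψE : AE ⟶ A) (ψF : AF ⟶ A)
  (hψE : jE ≫ RelSpec.QCAlg.Hom.toModuleMap ψE = biprod.inl ≫ j)
  (hψF : jF ≫ RelSpec.QCAlg.Hom.toModuleMap ψF = biprod.inr ≫ j)
  (U : S.Opens) (hU : IsAffineOpen U)

theorem str_smul' (B : RelSpec.QCAlg S) (r : Γ(S, U)) (b : Γ(B.toModule, U)) :
    r • b = (show Γ(B.toModule, U) from
      ((B.str.app (op U)).hom r * (show B.presheaf.obj (op U) from b))) := rfl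

omit [E.IsQuasicoherent] [F.IsQuasicoherent] in
include hψE in
theorem ψE_j (e : Γ(E, U)) :
    (ψE.hom.app (op U)).hom (show AE.presheaf.obj (op U) from jE.app U e) =
      (show A.presheaf.obj (op U) from j.app U ((biprod.inl : E ⟶ E ⊞ F).app U e)) :=
  congrArg (fun φ => Scheme.Modules.Hom.app φ U e) hψE

omit [E.IsQuasicoherent] [F.IsQuasicoherent] in
include hψF in
theorem ψF_j (f : Γ(F, U)) :
    (ψF.hom.app (op U)).hom (show AF.presheaf.obj (op U) from jF.app U f) =
      (show A.presheaf.obj (op U) from j.app U ((biprod.inr : F ⟶ E ⊞ F).app U f)) :=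
  congrArg (fun φ => Scheme.Modules.Hom.app φ U f) hψF

theorem ψ_str {B B' : RelSpec.QCAlg S} (ψ : B ⟶ B') (r : Γ(S, U)) :
    (ψ.hom.app (op U)).hom ((B.str.app (op U)).hom r) = (B'.str.app (op U)).hom r := by
  have := NatTrans.congr_app ψ.comm (op U)
  exact ConcreteCategory.congr_hom this r

include hAE hAF hA hU hψE hψF in
theorem exists_desc (C : CommRingCat.{u}) (f : AE.presheaf.obj (op U) ⟶ C)
    (g : AF.presheaf.obj (op U) ⟶ C) (w : AE.str.app (op U) ≫ f = AF.str.app (op U) ≫ g) :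
    ∃ m : A.presheaf.obj (op U) ⟶ C, ψE.hom.app (op U) ≫ m = f ∧ ψF.hom.app (op U) ≫ m = g := by
  have : (E ⊞ F).IsQuasicoherent := QcAbel.isQuasicoherent_biprod E F
  have hw : ∀ r : Γ(S, U), f.hom ((AE.str.app (op U)).hom r) = g.hom ((AF.str.app (op U)).hom r) :=
    fun r => ConcreteCategory.congr_hom w r
  let ℓ : Γ(E ⊞ F, U) →+ C :=
    { toFun := fun x =>
        f.hom (show AE.presheaf.obj (op U) from jE.app U ((biprod.fst : E ⊞ F ⟶ E).app U x)) +
        g.hom (show AF.presheaf.obj (op U) from jF.app U ((biprod.snd : E ⊞ F ⟶ F).app U x))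
      map_zero' := by
        simp only [map_zero]
        change f.hom 0 + g.hom 0 = 0
        rw [map_zero, map_zero, add_zero]
      map_add' := fun x y => by
        simp only [map_add]
        change f.hom (_ + _) + g.hom (_ + _) = _
        rw [map_add, map_add]
        abel }
  have hℓ : ∀ (r : Γ(S, U)) (x : Γ(E ⊞ F, U)),
      ℓ (r • x) = (AE.str.app (op U) ≫ f).hom r * ℓ x := by
    intro r x
    change f.hom (show AE.presheaf.obj (op U) from jE.app U ((biprod.fst : E ⊞ F ⟶ E).app U (r • x))) +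
      g.hom (show AF.presheaf.obj (op U) from jF.app U ((biprod.snd : E ⊞ F ⟶ F).app U (r • x))) =
      f.hom ((AE.str.app (op U)).hom r) * (f.hom _ + g.hom _)
    rw [Scheme.Modules.Hom.app_smul, Scheme.Modules.Hom.app_smul, Scheme.Modules.Hom.app_smul,
      Scheme.Modules.Hom.app_smul, str_smul', str_smul']
    change f.hom (_ * _) + g.hom (_ * _) = _
    rw [map_mul, map_mul, mul_add, hw]
  obtain ⟨m, hm1, hm2⟩ := exists_secHom (E ⊞ F) hA U hU (AE.str.app (op U) ≫ f).hom ℓ hℓ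
  refine ⟨CommRingCat.ofHom m, ?_, ?_⟩
  · apply CommRingCat.hom_ext
    apply secHom_ext E hAE U hU
    · intro r
      change m ((ψE.hom.app (op U)).hom _) = _
      rw [ψ_str, hm1]
      rfl
    · intro e
      change m ((ψE.hom.app (op U)).hom _) = _
      rw [ψE_j E F ψE hψE, hm2]
      change f.hom _ + g.hom _ = _
      rw [fst_inl, snd_inl]
      change _ + g.hom (show AF.presheaf.obj (op U) from jF.app U 0) = _
      rw [map_zero]
      change _ + g.hom 0 = _
      rw [map_zero, add_zero]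
  · apply CommRingCat.hom_ext
    apply secHom_ext F hAF U hU
    · intro r
      change m ((ψF.hom.app (op U)).hom _) = _
      rw [ψ_str, hm1]
      exact hw r
    · intro e
      change m ((ψF.hom.app (op U)).hom _) = _
      rw [ψF_j E F ψF hψF, hm2]
      change f.hom _ + g.hom _ = _
      rw [fst_inr, snd_inr]
      change f.hom (show AE.presheaf.obj (op U) from jE.app U 0) + _ = _
      rw [map_zero]
      change f.hom 0 + _ = _
      rw [map_zero, zero_add]

include hA hU hψE hψF in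
omit [E.IsQuasicoherent] [F.IsQuasicoherent] in
theorem desc_unique [(E ⊞ F).IsQuasicoherent] (C : CommRingCat.{u})
    (m m' : A.presheaf.obj (op U) ⟶ C)
    (h1 : ψE.hom.app (op U) ≫ m = ψE.hom.app (op U) ≫ m')
    (h2 : ψF.hom.app (op U) ≫ m = ψF.hom.app (op U) ≫ m') : m = m' := by
  apply CommRingCat.hom_ext
  apply secHom_ext (E ⊞ F) hA U hU
  · intro r
    rw [← ψ_str U ψE r]
    exact ConcreteCategory.congr_hom h1 _
  · intro x
    have hx : (show A.presheaf.obj (op U) from j.app U x) =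
        (ψE.hom.app (op U)).hom (show AE.presheaf.obj (op U) from
          jE.app U ((biprod.fst : E ⊞ F ⟶ E).app U x)) +
        (ψF.hom.app (op U)).hom (show AF.presheaf.obj (op U) from
          jF.app U ((biprod.snd : E ⊞ F ⟶ F).app U x)) := by
      rw [ψE_j E F ψE hψE, ψF_j E F ψF hψF]
      conv_lhs => rw [biprod_decomp E F U x]
      exact map_add (j.app U).hom _ _
    rw [hx, map_add, map_add]
    have e1 := ConcreteCategory.congr_hom h1 (show AE.presheaf.obj (op U) from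
          jE.app U ((biprod.fst : E ⊞ F ⟶ E).app U x))
    have e2 := ConcreteCategory.congr_hom h2 (show AF.presheaf.obj (op U) from
          jF.app U ((biprod.snd : E ⊞ F ⟶ F).app U x))
    change m.hom ((ψE.hom.app (op U)).hom _) = m'.hom ((ψE.hom.app (op U)).hom _) at e1
    change m.hom ((ψF.hom.app (op U)).hom _) = m'.hom ((ψF.hom.app (op U)).hom _) at e2
    rw [e1, e2]

include hAE hAF hA hU hψE hψF in
theorem isPushout_sections :
    IsPushout (AE.str.app (op U)) (AF.str.app (op U)) (ψE.hom.app (op U))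
      (ψF.hom.app (op U)) := by
  have : (E ⊞ F).IsQuasicoherent := QcAbel.isQuasicoherent_biprod E F
  have w : AE.str.app (op U) ≫ ψE.hom.app (op U) = AF.str.app (op U) ≫ ψF.hom.app (op U) := by
    rw [← NatTrans.comp_app, ← NatTrans.comp_app, ψE.comm, ψF.comm]
  refine ⟨⟨w⟩, ⟨PushoutCocone.IsColimit.mk _
    (fun s => (exists_desc E F hAE hAF hA ψE ψF hψE hψF U hU s.pt s.inl s.inr s.condition).choose)
    (fun s => (exists_desc E F hAE hAF hA ψE ψF hψE hψF U hU s.pt s.inl s.inr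
      s.condition).choose_spec.1)
    (fun s => (exists_desc E F hAE hAF hA ψE ψF hψE hψF U hU s.pt s.inl s.inr
      s.condition).choose_spec.2)
    (fun s m h1 h2 => desc_unique E F hA ψE ψF hψE hψF U hU s.pt _ _
      (h1.trans (exists_desc E F hAE hAF hA ψE ψF hψE hψF U hU s.pt s.inl s.inr
        s.condition).choose_spec.1.symm)
      (h2.trans (exists_desc E F hAE hAF hA ψE ψF hψE hψF U hU s.pt s.inl s.inr
        s.condition).choose_spec.2.symm))⟩⟩

include hAE hAF hA hψE hψF in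
theorem main8271 :
    IsPullback (RelSpec.QCAlg.specMap ψE) (RelSpec.QCAlg.specMap ψF) AE.π AF.π := by
  let 𝒰 : AE.spec.OpenCover := AE.glueData.cover
  refine Scheme.isPullback_of_openCover _ _ _ _ 𝒰 ?_
  intro U
  have hU := U.2
  have h1 := isPullback_SpecMap_of_isPushout _ _ _ _
    (isPushout_sections E F hAE hAF hA ψE ψF hψE hψF U.1 hU)
  have hR : IsPullback (Spec.map (AF.str.app (op U.1))) (AF.ι U.1 hU) hU.fromSpec AF.π := by
    refine IsOpenImmersion.isPullback _ _ _ _ (AF.ι_π U.1 hU) ?_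
    rw [hU.opensRange_fromSpec, AF.π_preimage U.1 hU]
  have hQ : IsPullback (Spec.map (ψE.hom.app (op U.1))) (A.ι U.1 hU ≫ RelSpec.QCAlg.specMap ψF) (AE.ι U.1 hU ≫ AE.π) AF.π := by
    have := h1.paste_vert hR
    rw [AE.ι_π U.1 hU, RelSpec.QCAlg.ι_specMap U.1 hU ψF]
    exact this
  have hB := isPullback_chart ψE U.1 hU
  have hB' : IsPullback (pullback.snd (RelSpec.QCAlg.specMap ψE) (𝒰.f U))
      (pullback.fst (RelSpec.QCAlg.specMap ψE) (𝒰.f U)) (𝒰.f U) (RelSpec.QCAlg.specMap ψE) :=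
    (IsPullback.of_hasPullback (RelSpec.QCAlg.specMap ψE) (𝒰.f U)).flip
  let e : pullback (RelSpec.QCAlg.specMap ψE) (𝒰.f U) ≅ Spec (A.presheaf.obj (op U.1)) :=
    hB'.isoIsPullback _ _ hB
  have he1 : e.hom ≫ Spec.map (ψE.hom.app (op U.1)) =
      pullback.snd (RelSpec.QCAlg.specMap ψE) (𝒰.f U) := hB'.isoIsPullback_hom_fst _ _ hB
  have he2 : e.hom ≫ A.ι U.1 hU = pullback.fst (RelSpec.QCAlg.specMap ψE) (𝒰.f U) :=
    hB'.isoIsPullback_hom_snd _ _ hB
  refine IsPullback.of_iso hQ e.symm (Iso.refl _) (Iso.refl _) (Iso.refl _) ?_ ?_ ?_ ?_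
  · simp only [Iso.symm_hom, Iso.refl_hom, Category.comp_id]
    rw [Iso.eq_inv_comp]
    exact he1
  · simp only [Iso.symm_hom, Iso.refl_hom]
    rw [Iso.eq_inv_comp, ← Category.assoc]
    exact congrArg (· ≫ RelSpec.QCAlg.specMap ψF) he2
  · simp only [Iso.refl_hom, Category.comp_id]
    rfl
  · simp

end Push

end Groth.Agent.Helper1.SymAlg
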