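import Mathlib
import Groth.Agent.Lib.Helper1.PF7
import Groth.Agent.Lib.Helper1.QcsLoc
import Groth.Agent.Lib.Helper1.SymBiprod
import Groth.Agent.Lib.Helper1.ModGlue

set_option autoImplicit false
universe u

open CategoryTheory CategoryTheory.Limits AlgebraicGeometry TopologicalSpace Opposite

namespace Groth.Agent.Helper1.CoprodMod

open Groth.Agent.Helper1.QcCech Groth.Agent.Helper1.SymAlg

variable {X X' Z : Scheme.{u}} (a : X ⟶ Z) (b : X' ⟶ Z) [IsOpenImmersion a] [IsOpenImmersion b]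

/-- the comparison of a module with the product of its extended restrictions -/
noncomputable def Θ (M : Z.Modules) :
    M ⟶ (Scheme.Modules.pushforward a).obj (M.restrict a) ⊞
      (Scheme.Modules.pushforward b).obj (M.restrict b) :=
  biprod.lift ((Scheme.Modules.restrictAdjunction a).unit.app M)
    ((Scheme.Modules.restrictAdjunction b).unit.app M)

theorem fst_Θ (M : Z.Modules) (U : Z.Opens) (t : Γ(M, U)) :
    (biprod.fst : (Scheme.Modules.pushforward a).obj (M.restrict a) ⊞
      (Scheme.Modules.pushforward b).obj (M.restrict b) ⟶ _).app U ((Θ a b M).app U t) =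
      res M (a.image_preimage_le U) t := by
  have h : Θ a b M ≫ biprod.fst = (Scheme.Modules.restrictAdjunction a).unit.app M :=
    biprod.lift_fst _ _
  exact congrArg (fun φ => Scheme.Modules.Hom.app φ U t) h

theorem snd_Θ (M : Z.Modules) (U : Z.Opens) (t : Γ(M, U)) :
    (biprod.snd : (Scheme.Modules.pushforward a).obj (M.restrict a) ⊞
      (Scheme.Modules.pushforward b).obj (M.restrict b) ⟶ _).app U ((Θ a b M).app U t) =
      res M (b.image_preimage_le U) t := by
  have h : Θ a b M ≫ biprod.snd = (Scheme.Modules.restrictAdjunction b).unit.app M :=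
    biprod.lift_snd _ _
  exact congrArg (fun φ => Scheme.Modules.Hom.app φ U t) h

theorem biprod_ext {E F : Z.Modules} (U : Z.Opens) (x y : Γ(E ⊞ F, U))
    (h1 : (biprod.fst : E ⊞ F ⟶ E).app U x = (biprod.fst : E ⊞ F ⟶ E).app U y)
    (h2 : (biprod.snd : E ⊞ F ⟶ F).app U x = (biprod.snd : E ⊞ F ⟶ F).app U y) : x = y := by
  rw [biprod_decomp E F U x, biprod_decomp E F U y, h1, h2]


variable (hsup : a.opensRange ⊔ b.opensRange = ⊤) (hinf : a.opensRange ⊓ b.opensRange = ⊥)

include hinf in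
theorem image_b_eq_bot (U : Z.Opens) : b ''ᵁ (b ⁻¹ᵁ (a ''ᵁ (a ⁻¹ᵁ U))) = ⊥ := by
  rw [eq_bot_iff, ← hinf]
  intro z hz
  have h1 : z ∈ b.opensRange := (b.image_le_opensRange _) hz
  have h2 : z ∈ a ''ᵁ (a ⁻¹ᵁ U) := (b.image_preimage_le _) hz
  exact ⟨(a.image_le_opensRange _) h2, h1⟩

include hinf in
theorem image_a_eq_bot (U : Z.Opens) : a ''ᵁ (a ⁻¹ᵁ (b ''ᵁ (b ⁻¹ᵁ U))) = ⊥ := by
  rw [eq_bot_iff, ← hinf]
  intro z hz
  have h1 : z ∈ a.opensRange := (a.image_le_opensRange _) hz
  have h2 : z ∈ b ''ᵁ (b ⁻¹ᵁ U) := (a.image_preimage_le _) hz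
  exact ⟨h1, (b.image_le_opensRange _) h2⟩

theorem subsingleton_of_eq_bot (M : Z.Modules) {W : Z.Opens} (h : W = ⊥) : Subsingleton Γ(M, W) := by
  subst h
  exact QcsLoc.subsingleton_bot M

theorem mem_image_preimage {U : Z.Opens} {x : Z} (hx : x ∈ U) (hxa : x ∈ a.opensRange) :
    x ∈ a ''ᵁ (a ⁻¹ᵁ U) := by
  obtain ⟨y, rfl⟩ := hxa
  exact ⟨y, hx, rfl⟩

include hsup hinf in
theorem isIso_Θ (M : Z.Modules) : IsIso (Θ a b M) := by
  apply PF7.isIso_of_locally
  · intro U t ht x hx
    have hx' : x ∈ a.opensRange ⊔ b.opensRange := by rw [hsup]; trivial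
    rcases hx' with hxa | hxb
    · refine ⟨a ''ᵁ (a ⁻¹ᵁ U), a.image_preimage_le U, mem_image_preimage a hx hxa, ?_⟩
      have := fst_Θ a b M U t
      rw [ht, map_zero] at this
      exact this.symm
    · refine ⟨b ''ᵁ (b ⁻¹ᵁ U), b.image_preimage_le U, mem_image_preimage b hx hxb, ?_⟩
      have := snd_Θ a b M U t
      rw [ht, map_zero] at this
      exact this.symm
  · intro U s x hx
    have hx' : x ∈ a.opensRange ⊔ b.opensRange := by rw [hsup]; trivial
    rcases hx' with hxa | hxb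
    · refine ⟨a ''ᵁ (a ⁻¹ᵁ U), a.image_preimage_le U, mem_image_preimage a hx hxa, ?_⟩
      refine ⟨(biprod.fst : (Scheme.Modules.pushforward a).obj (M.restrict a) ⊞
        (Scheme.Modules.pushforward b).obj (M.restrict b) ⟶ _).app U s, ?_⟩
      apply biprod_ext
      · rw [fst_Θ]
        change _ = (biprod.fst : (Scheme.Modules.pushforward a).obj (M.restrict a) ⊞
          (Scheme.Modules.pushforward b).obj (M.restrict b) ⟶ _).app _ (res _ (a.image_preimage_le U) s)
        rw [← ModGlue.app_res]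
        rfl
      · have := subsingleton_of_eq_bot M (image_b_eq_bot a b hinf U)
        exact Subsingleton.elim (α := Γ(M, b ''ᵁ (b ⁻¹ᵁ (a ''ᵁ (a ⁻¹ᵁ U))))) _ _
    · refine ⟨b ''ᵁ (b ⁻¹ᵁ U), b.image_preimage_le U, mem_image_preimage b hx hxb, ?_⟩
      refine ⟨(biprod.snd : (Scheme.Modules.pushforward a).obj (M.restrict a) ⊞
        (Scheme.Modules.pushforward b).obj (M.restrict b) ⟶ _).app U s, ?_⟩
      apply biprod_ext
      · have := subsingleton_of_eq_bot M (image_a_eq_bot a b hinf U)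
        exact Subsingleton.elim (α := Γ(M, a ''ᵁ (a ⁻¹ᵁ (b ''ᵁ (b ⁻¹ᵁ U))))) _ _
      · rw [snd_Θ]
        change _ = (biprod.snd : (Scheme.Modules.pushforward a).obj (M.restrict a) ⊞
          (Scheme.Modules.pushforward b).obj (M.restrict b) ⟶ _).app _ (res _ (b.image_preimage_le U) s)
        rw [← ModGlue.app_res]
        rfl

include hsup hinf in
/-- modules on a disjoint union are isomorphic if their restrictions are -/
theorem nonempty_iso_of_restrict (M N : Z.Modules) (α : M.restrict a ≅ N.restrict a)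
    (β : M.restrict b ≅ N.restrict b) : Nonempty (M ≅ N) := by
  have h1 := isIso_Θ a b hsup hinf M
  have h2 := isIso_Θ a b hsup hinf N
  exact ⟨asIso (Θ a b M) ≪≫
    biprod.mapIso ((Scheme.Modules.pushforward a).mapIso α) ((Scheme.Modules.pushforward b).mapIso β) ≪≫
    (asIso (Θ a b N)).symm⟩

end Groth.Agent.Helper1.CoprodMod
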