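import Mathlib
import Groth.Prelude.Def_Coh
import Groth.Agent.Lib.Helper1.FtLocal

set_option autoImplicit false
universe u
open CategoryTheory CategoryTheory.Limits AlgebraicGeometry TopologicalSpace Opposite

namespace Groth.Agent.Helper1.FtLocal

variable {X : Scheme.{u}}

/-- a quasi-coherent quotient of a quasi-coherent module of finite type, with quasi-coherent kernel,
is of finite type -/
theorem isFiniteType_right {S : ShortComplex X.Modules} (hS : S.ShortExact)
    [S.X₁.IsQuasicoherent] [S.X₂.IsQuasicoherent] [S.X₃.IsQuasicoherent]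
    (hft : SheafOfModules.IsFiniteType.{u, u, u} S.X₂) :
    SheafOfModules.IsFiniteType.{u, u, u} S.X₃ := by
  refine isFiniteType_of_affineOpens S.X₃ fun V hV => ?_
  have hfin : Module.Finite Γ(X, V) Γ(S.X₂.restrict hV.fromSpec, ⊤) :=
    AffFin.finite_restrict S.X₂ ‹_› hft hV.fromSpec
  refine Module.Finite.of_surjective (chartMap S.g hV.fromSpec) ?_
  have haff : IsAffineOpen (hV.fromSpec ''ᵁ ⊤) :=
    (isAffineOpen_top _).image_of_isOpenImmersion hV.fromSpec
  exact QcExt.app_surjective hS _ haff

theorem isCoh_kernel [IsLocallyNoetherian X] {F G : X.Modules} (hF : Coh.IsCoh F)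
    (hG : Coh.IsCoh G) (φ : F ⟶ G) : Coh.IsCoh (kernel φ) := by
  have : F.IsQuasicoherent := hF.1
  have : G.IsQuasicoherent := hG.1
  exact isCoh_of_mono (kernel.ι φ) hF (QcAbel.isQuasicoherent_kernel φ)

theorem isCoh_cokernel {F G : X.Modules} (hF : Coh.IsCoh F)
    (hG : Coh.IsCoh G) (φ : F ⟶ G) : Coh.IsCoh (cokernel φ) := by
  have : F.IsQuasicoherent := hF.1
  have : G.IsQuasicoherent := hG.1
  have h1 := QcAbel.isQuasicoherent_image φ
  have h2 := QcAbel.isQuasicoherent_cokernel φ
  refine ⟨h2, ?_⟩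
  let S : ShortComplex X.Modules := ShortComplex.mk (Abelian.image.ι φ) (cokernel.π φ)
    (kernel.condition _)
  have hS : S.Exact := ShortComplex.exact_of_f_is_kernel _ (kernelIsKernel (cokernel.π φ))
  have : Mono S.f := inferInstanceAs (Mono (Abelian.image.ι φ))
  have : Epi S.g := inferInstanceAs (Epi (cokernel.π φ))
  have hSE : S.ShortExact := { exact := hS }
  have : S.X₁.IsQuasicoherent := h1
  have : S.X₂.IsQuasicoherent := hG.1
  have : S.X₃.IsQuasicoherent := h2
  exact isFiniteType_right hSE hG.2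

end Groth.Agent.Helper1.FtLocal
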