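import Mathlib
import Groth.Prelude.Def_Coh
import Groth.Agent.Lib.Helper1.FinPush

set_option autoImplicit false
universe u
open CategoryTheory CategoryTheory.Limits AlgebraicGeometry TopologicalSpace Opposite

namespace Groth.Agent.Helper1.CohACC

open Groth.Agent.Helper1.QcCech Groth.Agent.Helper1.QcExt

variable {X : Scheme.{u}}

theorem isZero_of_sections {C : X.Modules} (h : ∀ (V : X.Opens) (s : Γ(C, V)), s = 0) :
    IsZero C := by
  rw [IsZero.iff_id_eq_zero]
  apply Scheme.Modules.hom_ext
  intro V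
  ext s
  exact h V s

/-- a quasi-coherent module with no sections on the members of an affine cover is zero -/
theorem isZero_of_affine_cover (C : X.Modules) [C.IsQuasicoherent] {ι : Type*} (U : ι → X.Opens)
    (hU : ∀ i, IsAffineOpen (U i)) (hcov : ⨆ i, U i = ⊤)
    (h : ∀ i (s : Γ(C, U i)), s = 0) : IsZero C := by
  apply isZero_of_sections
  intro V s
  -- cover `V` by basic opens of the `U i` contained in `V`
  let J := {p : Σ i, Γ(X, U i) // X.basicOpen p.2 ≤ V}
  apply TopCat.Sheaf.eq_of_locally_eq' (⟨C.presheaf, C.isSheaf⟩ : TopCat.Sheaf Ab X)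
    (fun p : J => X.basicOpen p.1.2) V (fun p => homOfLE p.2)
  · intro x hx
    have : x ∈ (⨆ i, U i : X.Opens) := by rw [hcov]; trivial
    obtain ⟨i, hi⟩ := Opens.mem_iSup.1 this
    obtain ⟨g, hg1, hg2⟩ := (hU i).exists_basicOpen_le (V := V) ⟨x, hx⟩ hi
    exact Opens.mem_iSup.2 ⟨⟨⟨i, g⟩, hg1⟩, hg2⟩
  · rintro ⟨⟨i, g⟩, hg⟩
    change res C hg s = res C hg 0
    rw [map_zero]
    obtain ⟨n, t, ht⟩ := extend_aux C (hU i) g (X.basicOpen g) rfl (res C hg s)
    rw [h i t, map_zero] at ht
    have hu : IsUnit (resR (X.basicOpen_le g) g) := X.toRingedSpace.isUnit_res_basicOpen g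
    have hu' := hu.pow n
    rw [← hu'.unit_spec] at ht
    have := congrArg (fun z => (hu'.unit⁻¹ : (Γ(X, X.basicOpen g))ˣ) • z) ht
    simpa [Units.smul_def, smul_smul] using this.symm

/-- a monomorphism of quasi-coherent modules which is surjective on the members of an affine cover
is an isomorphism -/
theorem isIso_of_surjective_on_cover {N N' : X.Modules} (ι : N ⟶ N') [Mono ι]
    [N.IsQuasicoherent] [N'.IsQuasicoherent] {κ : Type*} (U : κ → X.Opens)
    (hU : ∀ i, IsAffineOpen (U i)) (hcov : ⨆ i, U i = ⊤)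
    (hs : ∀ i, Function.Surjective (ι.app (U i))) : IsIso ι := by
  let S : ShortComplex X.Modules := ShortComplex.mk ι (cokernel.π ι) (cokernel.condition ι)
  have hS : S.Exact := ShortComplex.exact_cokernel ι
  have : Mono S.f := inferInstanceAs (Mono ι)
  have : Epi S.g := inferInstanceAs (Epi (cokernel.π ι))
  have hSE : S.ShortExact := { exact := hS }
  have : S.X₁.IsQuasicoherent := ‹N.IsQuasicoherent›
  have hC : (cokernel ι).IsQuasicoherent := QcAbel.isQuasicoherent_cokernel ι
  have hz : IsZero (cokernel ι) := by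
    refine isZero_of_affine_cover (cokernel ι) U hU hcov fun i c => ?_
    obtain ⟨y, rfl⟩ := app_surjective hSE (U i) (hU i) c
    obtain ⟨x, rfl⟩ := hs i y
    exact app_zero S (U i) x
  have : Epi ι := Preadditive.epi_of_isZero_cokernel ι hz
  exact isIso_of_mono_of_epi ι

/-- a morphism of modules on sections, as a linear map -/
noncomputable def appL {N M : X.Modules} (φ : N ⟶ M) (U : X.Opens) :
    Γ(N, U) →ₗ[Γ(X, U)] Γ(M, U) where
  toFun := φ.app U
  map_add' := map_add _
  map_smul' r x := by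
    rw [Scheme.Modules.Hom.app_smul]
    rfl

/-- **ascending chains of quasi-coherent submodules of a coherent module on a noetherian scheme
stabilize** -/
theorem acc [IsNoetherian X] (M : X.Modules) (hM : Coh.IsCoh M) (F : ℕ →o Subobject M)
    (hF : ∀ n, ((F n : Subobject M) : X.Modules).IsQuasicoherent) :
    ∃ n : ℕ, ∀ m : ℕ, n ≤ m → F m = F n := by
  classical
  obtain ⟨s, hs⟩ := isCompact_univ.elim_finite_subcover
    (fun i : X.affineOpens => (i.1 : Set X)) (fun i => i.1.2) (by
      intro x _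
      obtain ⟨_, ⟨W, hW, rfl⟩, hxW, -⟩ := X.isBasis_affineOpens.exists_subset_of_mem_open
        (Set.mem_univ x) isOpen_univ
      exact Set.mem_iUnion.2 ⟨⟨W, hW⟩, hxW⟩)
  let U : {i : X.affineOpens // i ∈ s} → X.Opens := fun i => i.1.1
  have hcov : ⨆ i, U i = ⊤ := by
    apply le_antisymm le_top
    intro x _
    obtain ⟨i, hi⟩ := Set.mem_iUnion.1 (hs (Set.mem_univ x))
    obtain ⟨his, hxi⟩ := Set.mem_iUnion.1 hi
    exact Opens.mem_iSup.2 ⟨⟨i, his⟩, hxi⟩
  have hU : ∀ i, IsAffineOpen (U i) := fun i => i.1.2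
  -- the chains of submodules of sections
  let T : ∀ i : X.affineOpens, ℕ →o Submodule Γ(X, i.1) Γ(M, i.1) := fun i =>
    { toFun := fun n => LinearMap.range (appL (F n).arrow i.1)
      monotone' := by
        intro n m hnm
        rintro _ ⟨x, rfl⟩
        refine ⟨(Subobject.ofLE _ _ (F.monotone hnm)).app i.1 x, ?_⟩
        change ((Subobject.ofLE _ _ (F.monotone hnm)).app i.1 ≫ (F m).arrow.app i.1) x = _
        rw [← Scheme.Modules.Hom.comp_app, Subobject.ofLE_arrow]
        rfl }
  have hstab : ∀ i : X.affineOpens, ∃ n, ∀ m, n ≤ m → T i n = T i m := by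
    intro i
    have : IsNoetherianRing Γ(X, i.1) := IsLocallyNoetherian.component_noetherian i
    have : Module.Finite Γ(X, i.1) Γ(M, i.1) := FinPush.finite_sections M hM i.2
    have : IsNoetherian Γ(X, i.1) Γ(M, i.1) := isNoetherian_of_isNoetherianRing_of_finite _ _
    exact monotone_stabilizes_iff_noetherian.2 this (T i)
  choose n hn using hstab
  refine ⟨s.sup n, fun m hm => ?_⟩
  have hle : F (s.sup n) ≤ F m := F.monotone hm
  have : ((F (s.sup n) : Subobject M) : X.Modules).IsQuasicoherent := hF _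
  have : ((F m : Subobject M) : X.Modules).IsQuasicoherent := hF _
  have hiso : IsIso (Subobject.ofLE _ _ hle) := by
    refine isIso_of_surjective_on_cover _ U hU hcov fun i y => ?_
    have h1 : T i.1 (n i.1) = T i.1 m := hn i.1 m ((Finset.le_sup i.2).trans hm)
    have h2 : T i.1 (n i.1) = T i.1 (s.sup n) := hn i.1 _ (Finset.le_sup i.2)
    have hy : appL (F m).arrow i.1.1 y ∈ T i.1 (s.sup n) := by
      rw [← h2, h1]
      exact ⟨y, rfl⟩
    obtain ⟨x, hx⟩ := hy
    refine ⟨x, ?_⟩
    apply FtLocal.app_injective_of_mono (F m).arrow i.1.1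
    change ((Subobject.ofLE _ _ hle).app i.1.1 ≫ (F m).arrow.app i.1.1) x = _
    rw [← Scheme.Modules.Hom.comp_app, Subobject.ofLE_arrow]
    exact hx
  apply le_antisymm _ hle
  exact Subobject.le_of_comm (inv (Subobject.ofLE _ _ hle)) (by
    rw [IsIso.inv_comp_eq, Subobject.ofLE_arrow])

end Groth.Agent.Helper1.CohACC
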