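import Mathlib
import Groth.Prelude.Def_Coh
import Groth.Agent.Lib.Helper1.CohACC
import Groth.Agent.Lib.Helper1.QcAbel
import Groth.Agent.Lib.Helper1.SubExt8

/-!
# Section submodules of morphisms of modules (helper1, dévissage cluster)
-/

set_option autoImplicit false
universe u
open CategoryTheory CategoryTheory.Limits AlgebraicGeometry TopologicalSpace Opposite

namespace Groth.Agent.Helper1.Dv

open Groth.Agent.Helper1.QcCech Groth.Agent.Helper1.QcExt Groth.Agent.Helper1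
open Groth.Agent.Helper1.CohACC

variable {X : Scheme.{u}} {F : X.Modules}

/-- the submodule of sections of `F` over `U` coming from `G` -/
noncomputable def sec {G : X.Modules} (ι : G ⟶ F) (U : X.Opens) : Submodule Γ(X, U) Γ(F, U) :=
  LinearMap.range (appL ι U)

lemma mem_sec {G : X.Modules} (ι : G ⟶ F) (U : X.Opens) (x : Γ(F, U)) :
    x ∈ sec ι U ↔ ∃ y : Γ(G, U), ι.app U y = x := Iff.rfl

lemma app_mem_sec {G : X.Modules} (ι : G ⟶ F) (U : X.Opens) (y : Γ(G, U)) :
    ι.app U y ∈ sec ι U := ⟨y, rfl⟩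

lemma sec_comp {H G : X.Modules} (φ : H ⟶ G) (ι : G ⟶ F) (U : X.Opens) :
    sec (φ ≫ ι) U = (sec φ U).map (appL ι U) := by
  ext x
  constructor
  · rintro ⟨y, rfl⟩
    exact ⟨φ.app U y, ⟨y, rfl⟩, rfl⟩
  · rintro ⟨_, ⟨y, rfl⟩, rfl⟩
    exact ⟨y, rfl⟩

lemma sec_comp_le {H G : X.Modules} (φ : H ⟶ G) (ι : G ⟶ F) (U : X.Opens) :
    sec (φ ≫ ι) U ≤ sec ι U := by
  rintro _ ⟨y, rfl⟩
  exact ⟨φ.app U y, rfl⟩

lemma sec_le_of_fac {G G' : X.Modules} {ι : G ⟶ F} {ι' : G' ⟶ F} (φ : G ⟶ G')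
    (h : φ ≫ ι' = ι) (U : X.Opens) : sec ι U ≤ sec ι' U := by
  rw [← h]
  exact sec_comp_le φ ι' U

lemma sec_eq_top_of_isIso {G : X.Modules} (ι : G ⟶ F) [IsIso ι] (U : X.Opens) : sec ι U = ⊤ := by
  rw [eq_top_iff]
  intro x _
  refine ⟨(inv ι).app U x, ?_⟩
  change ((inv ι).app U ≫ ι.app U) x = x
  rw [← Scheme.Modules.Hom.comp_app, IsIso.inv_hom_id]
  rfl

/-- a morphism out of a quasi-coherent module vanishing on the sections over the members of an
affine cover is zero -/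
theorem hom_eq_zero_of_affine_cover {G C : X.Modules} [G.IsQuasicoherent] (ψ : G ⟶ C)
    {κ : Type*} (U : κ → X.Opens) (hU : ∀ i, IsAffineOpen (U i)) (hcov : ⨆ i, U i = ⊤)
    (h : ∀ i (s : Γ(G, U i)), ψ.app (U i) s = 0) : ψ = 0 := by
  apply Scheme.Modules.hom_ext
  intro V
  ext s
  change ψ.app V s = 0
  let J := {p : Σ i, Γ(X, U i) // X.basicOpen p.2 ≤ V}
  apply TopCat.Sheaf.eq_of_locally_eq' (⟨C.presheaf, C.isSheaf⟩ : TopCat.Sheaf Ab X)
    (fun p : J => X.basicOpen p.1.2) V (fun p => homOfLE p.2)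
  · intro x hx
    have : x ∈ (⨆ i, U i : X.Opens) := by rw [hcov]; trivial
    obtain ⟨i, hi⟩ := Opens.mem_iSup.1 this
    obtain ⟨g, hg1, hg2⟩ := (hU i).exists_basicOpen_le (V := V) ⟨x, hx⟩ hi
    exact Opens.mem_iSup.2 ⟨⟨⟨i, g⟩, hg1⟩, hg2⟩
  · rintro ⟨⟨i, g⟩, hg⟩
    change res C hg (ψ.app V s) = res C hg 0
    rw [map_zero, ← app_res]
    obtain ⟨n, t, ht⟩ := extend_aux G (hU i) g (X.basicOpen g) rfl (res G hg s)
    have h1 : ψ.app (X.basicOpen g) (res G (X.basicOpen_le g) t) = 0 := by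
      rw [app_res, h i t, map_zero]
    rw [ht, Scheme.Modules.Hom.app_smul] at h1
    have hu : IsUnit (resR (X.basicOpen_le g) g) := X.toRingedSpace.isUnit_res_basicOpen g
    have hu' := hu.pow n
    rw [← hu'.unit_spec] at h1
    have := congrArg (fun z => (hu'.unit⁻¹ : (Γ(X, X.basicOpen g))ˣ) • z) h1
    simpa [Units.smul_def, smul_smul] using this

/-- factorization criterion through a subobject, tested on an affine cover -/
theorem exists_fac_of_sec_le {G G' : X.Modules} [G.IsQuasicoherent] (ι : G ⟶ F) (ι' : G' ⟶ F)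
    [Mono ι'] {κ : Type*} (U : κ → X.Opens) (hU : ∀ i, IsAffineOpen (U i))
    (hcov : ⨆ i, U i = ⊤) (h : ∀ i, sec ι (U i) ≤ sec ι' (U i)) :
    ∃ φ : G ⟶ G', φ ≫ ι' = ι := by
  have hz : ι ≫ cokernel.π ι' = 0 := by
    refine hom_eq_zero_of_affine_cover _ U hU hcov fun i s => ?_
    obtain ⟨y, hy⟩ := h i (app_mem_sec ι (U i) s)
    change (cokernel.π ι').app (U i) (ι.app (U i) s) = 0
    rw [← hy]
    change (ι' ≫ cokernel.π ι').app (U i) y = 0
    rw [cokernel.condition]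
    rfl
  exact ⟨Abelian.monoLift ι' ι hz, Abelian.monoLift_comp _ _ _⟩

theorem mk_le_mk_of_sec_le {G G' : X.Modules} [G.IsQuasicoherent] (ι : G ⟶ F) (ι' : G' ⟶ F)
    [Mono ι] [Mono ι'] {κ : Type*} (U : κ → X.Opens) (hU : ∀ i, IsAffineOpen (U i))
    (hcov : ⨆ i, U i = ⊤) (h : ∀ i, sec ι (U i) ≤ sec ι' (U i)) :
    Subobject.mk ι ≤ Subobject.mk ι' := by
  obtain ⟨φ, hφ⟩ := exists_fac_of_sec_le ι ι' U hU hcov h
  exact Subobject.mk_le_mk_of_comm φ hφ

theorem mk_eq_mk_of_sec_eq {G G' : X.Modules} [G.IsQuasicoherent] [G'.IsQuasicoherent]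
    (ι : G ⟶ F) (ι' : G' ⟶ F)
    [Mono ι] [Mono ι'] {κ : Type*} (U : κ → X.Opens) (hU : ∀ i, IsAffineOpen (U i))
    (hcov : ⨆ i, U i = ⊤) (h : ∀ i, sec ι (U i) = sec ι' (U i)) :
    Subobject.mk ι = Subobject.mk ι' :=
  le_antisymm (mk_le_mk_of_sec_le ι ι' U hU hcov fun i => (h i).le)
    (mk_le_mk_of_sec_le ι' ι U hU hcov fun i => (h i).ge)

/-- sections of a kernel -/
theorem sec_kernel {M N : X.Modules} (φ : M ⟶ N) (U : X.Opens) :
    sec (kernel.ι φ) U = LinearMap.ker (appL φ U) := by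
  ext x
  constructor
  · rintro ⟨y, rfl⟩
    change (kernel.ι φ ≫ φ).app U y = 0
    rw [kernel.condition]
    rfl
  · intro hx
    let S : ShortComplex X.Modules := ShortComplex.mk (kernel.ι φ) φ (kernel.condition φ)
    have hS : S.Exact := ShortComplex.exact_of_f_is_kernel _ (kernelIsKernel φ)
    have : Mono S.f := inferInstanceAs (Mono (kernel.ι φ))
    obtain ⟨y, hy⟩ := QcAbel.app_exact' (S := S) hS U x hx
    exact ⟨y, hy⟩

/-- sections of a monomorphism with cokernel `π` -/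
theorem sec_eq_ker_cokernel {G : X.Modules} (ι : G ⟶ F) [Mono ι] (U : X.Opens) :
    sec ι U = LinearMap.ker (appL (cokernel.π ι) U) := by
  ext x
  constructor
  · rintro ⟨y, rfl⟩
    change (ι ≫ cokernel.π ι).app U y = 0
    rw [cokernel.condition]
    rfl
  · intro hx
    let S : ShortComplex X.Modules := ShortComplex.mk ι (cokernel.π ι) (cokernel.condition ι)
    have hS : S.Exact := ShortComplex.exact_cokernel ι
    have : Mono S.f := inferInstanceAs (Mono ι)
    obtain ⟨y, hy⟩ := QcAbel.app_exact' (S := S) hS U x hx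
    exact ⟨y, hy⟩

/-- sections of the arrow of a subobject `mk ι` -/
theorem sec_mk_arrow {G : X.Modules} (ι : G ⟶ F) [Mono ι] (U : X.Opens) :
    sec (Subobject.mk ι).arrow U = sec ι U := by
  apply le_antisymm
  · exact sec_le_of_fac (Subobject.underlyingIso ι).hom (Subobject.underlyingIso_hom_comp_eq_mk ι) U
  · exact sec_le_of_fac (Subobject.underlyingIso ι).inv (by simp) U

theorem sec_mono_of_le {A B : Subobject F} (h : A ≤ B) (U : X.Opens) :
    sec A.arrow U ≤ sec B.arrow U :=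
  sec_le_of_fac (Subobject.ofLE A B h) (Subobject.ofLE_arrow h) U

/-- sections of an intersection of subobjects -/
theorem sec_inf (A B : Subobject F) (U : X.Opens) :
    sec (A ⊓ B).arrow U = sec A.arrow U ⊓ sec B.arrow U := by
  apply le_antisymm
  · exact le_inf (sec_mono_of_le inf_le_left U) (sec_mono_of_le inf_le_right U)
  · rintro x ⟨⟨s, rfl⟩, hb⟩
    rw [sec_eq_ker_cokernel B.arrow U] at hb
    -- the kernel of `A ⟶ F ⟶ F/B`
    let k := kernel.ι (A.arrow ≫ cokernel.π B.arrow)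
    have hs : s ∈ sec k U := by
      rw [sec_kernel]
      exact hb
    obtain ⟨t, rfl⟩ := hs
    have hle : Subobject.mk (k ≫ A.arrow) ≤ A ⊓ B := by
      apply le_inf
      · exact Subobject.mk_le_of_comm k rfl
      · have hz : (k ≫ A.arrow) ≫ cokernel.π B.arrow = 0 := by
          rw [Category.assoc]; exact kernel.condition _
        exact Subobject.mk_le_of_comm (Abelian.monoLift B.arrow _ hz) (Abelian.monoLift_comp _ _ _)
    have := sec_mono_of_le hle U
    rw [sec_mk_arrow] at this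
    exact this ⟨t, rfl⟩

end Groth.Agent.Helper1.Dv
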