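import Mathlib
import Groth.Prelude.Def_Coh
import Groth.Prelude.Def_Dual3
import Groth.Agent.Lib.Helper1.Dv1
import Groth.Agent.Lib.Lead.CIU6
import Groth.Agent.Lib.Helper1.PushQc

/-!
# `Dual3.idealMul` on affine opens (helper1, dévissage cluster)
-/

set_option autoImplicit false
universe u
open CategoryTheory AlgebraicGeometry TopologicalSpace Opposite

namespace Groth.Agent.Helper1.Dv

open Groth.Agent.Helper1.QcCech Groth.Agent.Helper1.QcExt Groth.Agent.Helper1
open Groth.Agent.Helper1.CohACC Scheme.Modules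

variable {X : Scheme.{u}} (I : X.IdealSheafData) (F : X.Modules)

lemma unit_smul_eq_zero {Z : Scheme.{u}} (i : Z ⟶ X) (U : X.Opens) (a : Γ(X, U))
    (ha : (i.app U).hom a = 0) (x : Γ(F, U)) :
    ((pullbackPushforwardAdjunction i).unit.app F).app U (a • x) = 0 := by
  rw [Hom.app_smul]
  have h1 : ∀ x : Γ((pushforward i).obj ((pullback i).obj F), U), a • x = 0 := by
    intro x
    show (show Γ((pullback i).obj F, i ⁻¹ᵁ U) from ((i.app U).hom a : Γ(Z, i ⁻¹ᵁ U)) •
      (show Γ((pullback i).obj F, i ⁻¹ᵁ U) from x)) = 0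
    rw [ha, zero_smul]
  exact h1 _

/-- **sections of `I·F` over an affine open** -/
theorem sec_idealMulι [F.IsQuasicoherent] {U : X.Opens} (hU : IsAffineOpen U) :
    sec (Dual3.idealMulι I F) U = I.ideal ⟨U, hU⟩ • (⊤ : Submodule Γ(X, U) Γ(F, U)) := by
  have hk : RingHom.ker (I.subschemeι.app U).hom = I.ideal ⟨U, hU⟩ :=
    I.ker_subschemeι_app ⟨U, hU⟩
  have e : sec (Dual3.idealMulι I F) U =
      LinearMap.ker (appL ((pullbackPushforwardAdjunction I.subschemeι).unit.app F) U) :=
    sec_kernel _ U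
  rw [e]
  apply le_antisymm
  · intro x hx
    have := Groth.Agent.Lead.CIU.mem_smul_top_of_unit_app_eq_zero F I.subschemeι hU x hx
    rwa [hk] at this
  · rw [Submodule.smul_le]
    intro a ha x _
    rw [← hk, RingHom.mem_ker] at ha
    exact unit_smul_eq_zero F I.subschemeι U a ha x

instance isQuasicoherent_idealMul [F.IsQuasicoherent] : ((Dual3.idealMul I).obj F).IsQuasicoherent := by
  haveI : ((pullback I.subschemeι).obj F).IsQuasicoherent :=
    Groth.Agent.Lead.PB.isQuasicoherent_pullback _ _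
  haveI : ((pushforward I.subschemeι).obj ((pullback I.subschemeι).obj F)).IsQuasicoherent :=
    PushQc.isQuasicoherent_pushforward _ _
  haveI : ((𝟭 X.Modules).obj F).IsQuasicoherent := ‹F.IsQuasicoherent›
  haveI : ((pullback I.subschemeι ⋙ pushforward I.subschemeι).obj F).IsQuasicoherent :=
    ‹((pushforward I.subschemeι).obj ((pullback I.subschemeι).obj F)).IsQuasicoherent›
  exact QcAbel.isQuasicoherent_kernel ((pullbackPushforwardAdjunction I.subschemeι).unit.app F)

end Groth.Agent.Helper1.Dv
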