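import Mathlib
import Groth.Prelude.Def_Coh
import Groth.Prelude.Def_Dual3
import Groth.Agent.Lib.Helper1.Dv2

/-!
# Artin–Rees for `Dual3.idealMul` (helper1, dévissage cluster)
-/

set_option autoImplicit false
universe u
open CategoryTheory AlgebraicGeometry TopologicalSpace Opposite

namespace Groth.Agent.Helper1.Dv

open Groth.Agent.Helper1.QcCech Groth.Agent.Helper1.QcExt Groth.Agent.Helper1
open Groth.Agent.Helper1.CohACC Scheme.Modules

variable {X : Scheme.{u}}

/-- a finite affine open cover of a quasi-compact scheme -/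
theorem exists_finite_affine_cover [CompactSpace X] :
    ∃ (n : ℕ) (U : Fin n → X.Opens), (∀ i, IsAffineOpen (U i)) ∧ ⨆ i, U i = ⊤ := by
  classical
  obtain ⟨s, hs⟩ := isCompact_univ.elim_finite_subcover
    (fun i : X.affineOpens => (i.1 : Set X)) (fun i => i.1.2) (by
      intro x _
      obtain ⟨_, ⟨W, hW, rfl⟩, hxW, -⟩ := X.isBasis_affineOpens.exists_subset_of_mem_open
        (Set.mem_univ x) isOpen_univ
      exact Set.mem_iUnion.2 ⟨⟨W, hW⟩, hxW⟩)
  let e := s.equivFin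
  refine ⟨s.card, fun k => (e.symm k).1.1, fun k => (e.symm k).1.2, ?_⟩
  apply le_antisymm le_top
  intro x _
  obtain ⟨i, hi⟩ := Set.mem_iUnion.1 (hs (Set.mem_univ x))
  obtain ⟨his, hxi⟩ := Set.mem_iUnion.1 hi
  refine Opens.mem_iSup.2 ⟨e ⟨i, his⟩, ?_⟩
  show x ∈ ((e.symm (e ⟨i, his⟩)).1.1)
  rw [Equiv.symm_apply_apply]
  exact hxi

/-- Artin–Rees: the constant can be increased -/
theorem artinRees_mono {R M : Type*} [CommRing R] [AddCommGroup M] [Module R M] (I : Ideal R)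
    (N : Submodule R M) {k : ℕ}
    (hk : ∀ n ≥ k, I ^ n • ⊤ ⊓ N = I ^ (n - k) • (I ^ k • ⊤ ⊓ N)) {c : ℕ} (hc : k ≤ c) :
    ∀ n ≥ c, I ^ n • ⊤ ⊓ N = I ^ (n - c) • (I ^ c • ⊤ ⊓ N) := by
  intro n hn
  rw [hk n (hc.trans hn), hk c hc, ← mul_smul, ← pow_add]
  congr 2
  omega

/-- sections of `J·K ⟶ K ⟶ F` over an affine open -/
theorem sec_idealMulι_comp (J : X.IdealSheafData) {K F : X.Modules} [K.IsQuasicoherent]
    (κ : K ⟶ F) {U : X.Opens} (hU : IsAffineOpen U) :
    sec (Dual3.idealMulι J K ≫ κ) U = J.ideal ⟨U, hU⟩ • sec κ U := by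
  rw [sec_comp, sec_idealMulι J K hU, Submodule.map_smul'', Submodule.map_top]
  rfl

/-- **Artin–Rees for submodules of coherent modules** (sections form, on a finite family of
affine opens) -/
theorem artinRees_sec [IsLocallyNoetherian X] (F : X.Modules) (hF : Coh.IsCoh F)
    (I : X.IdealSheafData) {G : X.Modules} (ι : G ⟶ F) {m : ℕ} (U : Fin m → X.Opens)
    (hU : ∀ i, IsAffineOpen (U i)) :
    ∃ c : ℕ, ∀ (i : Fin m), ∀ n ≥ c,
      (I.ideal ⟨U i, hU i⟩) ^ n • ⊤ ⊓ sec ι (U i) =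
        (I.ideal ⟨U i, hU i⟩) ^ (n - c) • ((I.ideal ⟨U i, hU i⟩) ^ c • ⊤ ⊓ sec ι (U i)) := by
  have h : ∀ i : Fin m, ∃ k : ℕ, ∀ n ≥ k,
      (I.ideal ⟨U i, hU i⟩) ^ n • ⊤ ⊓ sec ι (U i) =
        (I.ideal ⟨U i, hU i⟩) ^ (n - k) • ((I.ideal ⟨U i, hU i⟩) ^ k • ⊤ ⊓ sec ι (U i)) := by
    intro i
    have : IsNoetherianRing Γ(X, U i) := IsLocallyNoetherian.component_noetherian ⟨U i, hU i⟩
    have : Module.Finite Γ(X, U i) Γ(F, U i) := FinPush.finite_sections F hF (hU i)
    exact Ideal.exists_pow_inf_eq_pow_smul _ _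
  choose k hk using h
  refine ⟨Finset.univ.sup k, fun i => ?_⟩
  exact artinRees_mono _ _ (hk i) (Finset.le_sup (Finset.mem_univ i))

/-- the intersection of two subobjects as a kernel -/
theorem inf_eq_mk_kernel {F : X.Modules} (A B : Subobject F) :
    A ⊓ B = Subobject.mk (Limits.kernel.ι (A.arrow ≫ Limits.cokernel.π B.arrow) ≫ A.arrow) := by
  set k := Limits.kernel.ι (A.arrow ≫ Limits.cokernel.π B.arrow) with hk
  apply le_antisymm
  · have h1 : (A ⊓ B).arrow = Subobject.ofLE _ _ inf_le_left ≫ A.arrow :=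
      (Subobject.ofLE_arrow _).symm
    have h2 : (A ⊓ B).arrow = Subobject.ofLE _ _ inf_le_right ≫ B.arrow :=
      (Subobject.ofLE_arrow _).symm
    have hz : Subobject.ofLE (A ⊓ B) A inf_le_left ≫ A.arrow ≫ Limits.cokernel.π B.arrow = 0 := by
      rw [← Category.assoc, ← h1, h2, Category.assoc, Limits.cokernel.condition, Limits.comp_zero]
    refine Subobject.le_mk_of_comm (Limits.kernel.lift _ _ hz) ?_
    rw [← Category.assoc, Limits.kernel.lift_ι, ← h1]
  · apply le_inf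
    · exact Subobject.mk_le_of_comm k rfl
    · have hz : (k ≫ A.arrow) ≫ Limits.cokernel.π B.arrow = 0 := by
        rw [Category.assoc]; exact Limits.kernel.condition _
      exact Subobject.mk_le_of_comm (Abelian.monoLift B.arrow _ hz) (Abelian.monoLift_comp _ _ _)

/-- the intersection of quasi-coherent subobjects is quasi-coherent -/
theorem isQuasicoherent_inf {F : X.Modules} [F.IsQuasicoherent] (A B : Subobject F)
    (hA : ((A : X.Modules)).IsQuasicoherent) (hB : ((B : X.Modules)).IsQuasicoherent) :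
    (((A ⊓ B : Subobject F) : X.Modules)).IsQuasicoherent := by
  haveI := hA
  haveI := hB
  haveI : (Limits.cokernel B.arrow).IsQuasicoherent := QcAbel.isQuasicoherent_cokernel _
  haveI : (Limits.kernel (A.arrow ≫ Limits.cokernel.π B.arrow)).IsQuasicoherent :=
    QcAbel.isQuasicoherent_kernel _
  rw [inf_eq_mk_kernel]
  exact QcAbel.isQuasicoherent_of_iso (Subobject.underlyingIso _).symm

theorem isQuasicoherent_mk {F G : X.Modules} [G.IsQuasicoherent] (ι : G ⟶ F) [Mono ι] :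
    (((Subobject.mk ι : Subobject F) : X.Modules)).IsQuasicoherent :=
  QcAbel.isQuasicoherent_of_iso (Subobject.underlyingIso ι).symm

/-- **Artin–Rees for `Dual3.idealMul`** (S9517) -/
theorem artinRees [IsNoetherian X] (F G : X.Modules) (hF : Coh.IsCoh F)
    (hG : Coh.IsQCoh G) (ι : G ⟶ F) [Mono ι] (I : X.IdealSheafData) :
    ∃ c : ℕ, ∀ n : ℕ, c ≤ n →
      Subobject.mk (Dual3.idealMulι (I ^ (n - c))
          (Subobject.underlying.obj (Subobject.mk (Dual3.idealMulι (I ^ c) F) ⊓ Subobject.mk ι)) ≫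
        (Subobject.mk (Dual3.idealMulι (I ^ c) F) ⊓ Subobject.mk ι).arrow) =
      Subobject.mk (Dual3.idealMulι (I ^ n) F) ⊓ Subobject.mk ι := by
  haveI : F.IsQuasicoherent := hF.1
  haveI : G.IsQuasicoherent := hG
  obtain ⟨m, U, hU, hcov⟩ := exists_finite_affine_cover (X := X)
  obtain ⟨c, hc⟩ := artinRees_sec F hF I ι U hU
  refine ⟨c, fun n hn => ?_⟩
  have hK : ∀ k : ℕ, (((Subobject.mk (Dual3.idealMulι (I ^ k) F) ⊓ Subobject.mk ι :
      Subobject F) : X.Modules)).IsQuasicoherent := fun k =>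
    isQuasicoherent_inf _ _ (isQuasicoherent_mk _) (isQuasicoherent_mk _)
  haveI := hK c
  haveI := hK n
  rw [← Subobject.mk_arrow (Subobject.mk (Dual3.idealMulι (I ^ n) F) ⊓ Subobject.mk ι)]
  refine mk_eq_mk_of_sec_eq _ _ U hU hcov fun i => ?_
  rw [sec_idealMulι_comp _ _ (hU i), sec_inf, sec_inf, sec_mk_arrow, sec_mk_arrow, sec_mk_arrow,
    sec_idealMulι _ _ (hU i), sec_idealMulι _ _ (hU i)]
  exact (hc i n hn).symm

end Groth.Agent.Helper1.Dv
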