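import Mathlib
import Groth.Prelude.Def_Coh
import Groth.Prelude.Def_Dual3
import Groth.Agent.Lib.Helper1.Dv3

/-!
# Modules supported on `V(I)` are killed by a power of `I`; Deligne's formula, injectivity
(helper1, dévissage cluster)
-/

set_option autoImplicit false
universe u
open CategoryTheory AlgebraicGeometry TopologicalSpace Opposite

namespace Groth.Agent.Helper1.Dv

open Groth.Agent.Helper1.QcCech Groth.Agent.Helper1.QcExt Groth.Agent.Helper1
open Groth.Agent.Helper1.CohACC Scheme.Modules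

variable {X : Scheme.{u}}

/-- the basic open of a section of `I` misses the support of `I` -/
theorem basicOpen_le_compl_support (I : X.IdealSheafData) {V : X.Opens} (hV : IsAffineOpen V)
    (a : Γ(X, V)) (ha : a ∈ I.ideal ⟨V, hV⟩) (U : X.Opens)
    (hU : (U : Set X) = (I.support : Set X)ᶜ) : X.basicOpen a ≤ U := by
  intro x hx
  change x ∈ (U : Set X)
  rw [hU]
  intro hxs
  have hxV : x ∈ V := X.basicOpen_le a hx
  have := (Scheme.IdealSheafData.mem_support_iff_of_mem (U := ⟨V, hV⟩) hxV).1 hxs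
  rw [Scheme.mem_zeroLocus_iff] at this
  exact this a ha hx

/-- a power of `a` kills a finitely generated submodule whose elements die on `D(a)` -/
theorem exists_pow_mem_annihilator {R M : Type*} [CommRing R] [AddCommGroup M] [Module R M]
    (N : Submodule R M) (hN : N.FG) (a : R) (h : ∀ y ∈ N, ∃ k : ℕ, a ^ k • y = 0) :
    ∃ k : ℕ, a ^ k ∈ N.annihilator := by
  classical
  obtain ⟨S, rfl⟩ := hN
  have h' : ∀ s : S, ∃ k : ℕ, a ^ k • (s : M) = 0 := fun s => h _ (Submodule.subset_span s.2)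
  choose k hk using h'
  refine ⟨Finset.univ.sup k, ?_⟩
  rw [Submodule.mem_annihilator_span]
  intro s
  have hle : k s ≤ Finset.univ.sup k := Finset.le_sup (Finset.mem_univ s)
  obtain ⟨d, hd⟩ := Nat.exists_eq_add_of_le hle
  rw [hd, pow_add, mul_comm, mul_smul, hk, smul_zero]

/-- **a morphism from a coherent module to a quasi-coherent one which vanishes off `V(I)` kills
`I^c`** -/
theorem exists_pow_kill_hom [IsLocallyNoetherian X] {E F : X.Modules} (hE : Coh.IsCoh E)
    [F.IsQuasicoherent] (ψ : E ⟶ F) (I : X.IdealSheafData)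
    (hvan : ∀ (V : X.Opens) (hV : IsAffineOpen V) (a : Γ(X, V)), a ∈ I.ideal ⟨V, hV⟩ →
      ∀ t : Γ(E, X.basicOpen a), ψ.app _ t = 0)
    {m : ℕ} (U : Fin m → X.Opens) (hU : ∀ i, IsAffineOpen (U i)) :
    ∃ c : ℕ, ∀ i, (I.ideal ⟨U i, hU i⟩) ^ c • (⊤ : Submodule Γ(X, U i) Γ(E, U i)) ≤
      LinearMap.ker (appL ψ (U i)) := by
  have h : ∀ i, ∃ c : ℕ, (I.ideal ⟨U i, hU i⟩) ^ c • (⊤ : Submodule Γ(X, U i) Γ(E, U i)) ≤
      LinearMap.ker (appL ψ (U i)) := by
    intro i
    have : IsNoetherianRing Γ(X, U i) := IsLocallyNoetherian.component_noetherian ⟨U i, hU i⟩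
    have : Module.Finite Γ(X, U i) Γ(E, U i) := FinPush.finite_sections E hE (hU i)
    set N := LinearMap.range (appL ψ (U i)) with hN
    have hNfg : N.FG := by
      rw [hN, LinearMap.range_eq_map]
      exact Submodule.FG.map _ Module.Finite.fg_top
    have hrad : I.ideal ⟨U i, hU i⟩ ≤ (N.annihilator).radical := by
      intro a ha
      refine exists_pow_mem_annihilator N hNfg a ?_
      rintro _ ⟨x, rfl⟩
      have h0 : res F (X.basicOpen_le a) (ψ.app (U i) x) = 0 := by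
        rw [← app_res]
        exact hvan (U i) (hU i) a ha _
      exact kill_aux F (hU i) a (X.basicOpen a) rfl _ h0
    obtain ⟨c, hc⟩ := Ideal.exists_pow_le_of_le_radical_of_fg hrad
      (IsNoetherian.noetherian _)
    refine ⟨c, ?_⟩
    rw [Submodule.smul_le]
    intro r hr x _
    have := Submodule.mem_annihilator.1 (hc hr) (appL ψ (U i) x) ⟨x, rfl⟩
    rw [LinearMap.mem_ker, LinearMap.map_smul]
    exact this
  choose c hc using h
  refine ⟨Finset.univ.sup c, fun i => le_trans ?_ (hc i)⟩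
  exact Submodule.smul_mono_left (Ideal.pow_le_pow_right (Finset.le_sup (Finset.mem_univ i)))

/-- `(I * J)·G = I·(J·G)` as subobjects of `G` -/
theorem mk_idealMulι_mul (I J : X.IdealSheafData) (G : X.Modules) [G.IsQuasicoherent] :
    Subobject.mk (Dual3.idealMulι (I * J) G) =
      Subobject.mk (Dual3.idealMulι I ((Dual3.idealMul J).obj G) ≫ Dual3.idealMulι J G) := by
  refine mk_eq_mk_of_sec_eq _ _ (fun U : X.affineOpens => U.1) (fun U => U.2) ?_ fun U => ?_
  · apply le_antisymm le_top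
    intro x _
    obtain ⟨_, ⟨W, hW, rfl⟩, hxW, -⟩ := X.isBasis_affineOpens.exists_subset_of_mem_open
      (Set.mem_univ x) isOpen_univ
    exact Opens.mem_iSup.2 ⟨⟨W, hW⟩, hxW⟩
  · rw [sec_idealMulι_comp _ _ U.2, sec_idealMulι _ _ U.2, sec_idealMulι _ _ U.2]
    exact Submodule.mul_smul _ _ _

/-- vanishing of a restricted morphism, on sections over opens inside `U` -/
theorem app_eq_zero_of_restrict_eq_zero {E F : X.Modules} (ψ : E ⟶ F) (U : X.Opens)
    (h : (restrictFunctor U.ι).map ψ = 0) (W : X.Opens) (hW : W ≤ U) (t : Γ(E, W)) :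
    ψ.app W t = 0 := by
  have key : ∀ (W' : X.Opens), W' = W → (∀ s : Γ(E, W'), ψ.app W' s = 0) →
      ∀ t : Γ(E, W), ψ.app W t = 0 := by
    intro W' hW' hs
    subst hW'
    exact hs
  refine key (U.ι ''ᵁ (U.ι ⁻¹ᵁ W)) ?_ (fun s => ?_) t
  · rw [Scheme.Hom.image_preimage_eq_opensRange_inf, Scheme.Opens.opensRange_ι]
    exact inf_eq_right.2 hW
  · have h1 : ((restrictFunctor U.ι).map ψ).app (U.ι ⁻¹ᵁ W) s = 0 := by
      rw [h]
      rfl
    exact h1

theorem isCoh_idealMul [IsLocallyNoetherian X] (I : X.IdealSheafData) (G : X.Modules)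
    (hG : Coh.IsCoh G) : Coh.IsCoh ((Dual3.idealMul I).obj G) :=
  FtLocal.isCoh_of_mono (Dual3.idealMulι I G) hG (by haveI := hG.1; infer_instance)

/-- the hypothesis of `exists_pow_kill_hom` from vanishing on `U = V(I)ᶜ` -/
theorem hvan_of_restrict_eq_zero {E F : X.Modules} (ψ : E ⟶ F) (I : X.IdealSheafData)
    (U : X.Opens) (hU : (U : Set X) = (I.support : Set X)ᶜ)
    (hψ : (restrictFunctor U.ι).map ψ = 0) :
    ∀ (V : X.Opens) (hV : IsAffineOpen V) (a : Γ(X, V)), a ∈ I.ideal ⟨V, hV⟩ →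
      ∀ t : Γ(E, X.basicOpen a), ψ.app _ t = 0 := fun V hV a ha t =>
  app_eq_zero_of_restrict_eq_zero ψ U hψ _ (basicOpen_le_compl_support I hV a ha U hU) t

/-- **Deligne's formula, injectivity** (S9516) -/
theorem deligne_injective [IsNoetherian X] (F G : X.Modules)
    (hF : Coh.IsQCoh F) (hG : Coh.IsCoh G) (I : X.IdealSheafData)
    (U : X.Opens) (hU : (U : Set X) = (I.support : Set X)ᶜ) (n : ℕ)
    (ψ : (Dual3.idealMul (I ^ n)).obj G ⟶ F)
    (hψ : (restrictFunctor U.ι).map ψ = 0) :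
    ∃ (N : ℕ) (ι : (Dual3.idealMul (I ^ N)).obj G ⟶ (Dual3.idealMul (I ^ n)).obj G),
      ι ≫ Dual3.idealMulι (I ^ n) G = Dual3.idealMulι (I ^ N) G ∧ ι ≫ ψ = 0 := by
  haveI : F.IsQuasicoherent := hF
  haveI : G.IsQuasicoherent := hG.1
  have hEc : Coh.IsCoh ((Dual3.idealMul (I ^ n)).obj G) := isCoh_idealMul _ G hG
  obtain ⟨m, V, hV, hcov⟩ := exists_finite_affine_cover (X := X)
  obtain ⟨c, hc⟩ := exists_pow_kill_hom hEc ψ I (hvan_of_restrict_eq_zero ψ I U hU hψ) V hV
  refine ⟨c + n, ?_⟩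
  rw [pow_add]
  have h := mk_idealMulι_mul (I ^ c) (I ^ n) G
  refine ⟨(Subobject.isoOfMkEqMk _ _ h).hom ≫ Dual3.idealMulι (I ^ c) _, ?_, ?_⟩
  · rw [Category.assoc]
    exact Subobject.ofMkLEMk_comp _
  · rw [Category.assoc]
    have hz : Dual3.idealMulι (I ^ c) ((Dual3.idealMul (I ^ n)).obj G) ≫ ψ = 0 := by
      refine hom_eq_zero_of_affine_cover _ V hV hcov fun i s => ?_
      have h1 : (Dual3.idealMulι (I ^ c) ((Dual3.idealMul (I ^ n)).obj G)).app (V i) s ∈
          sec (Dual3.idealMulι (I ^ c) ((Dual3.idealMul (I ^ n)).obj G)) (V i) :=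
        ⟨s, rfl⟩
      rw [sec_idealMulι _ _ (hV i)] at h1
      exact hc i h1
    rw [hz, Limits.comp_zero]

end Groth.Agent.Helper1.Dv
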