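import Mathlib
import Groth.Agent.Lib.Helper1.SubExt8

set_option autoImplicit false
universe u v
open CategoryTheory CategoryTheory.Limits AlgebraicGeometry TopologicalSpace Opposite

namespace Groth.Agent.Helper1.SubSh

open Groth.Agent.Helper1.QcCech Groth.Agent.Helper1

variable {X : Scheme.{u}} {F : X.Modules}

/-- from the extension theorem for families of submodules to its categorical form -/
theorem exists_extension_cat_of [F.IsQuasicoherent] (U : X.Opens)
    (hext : ∀ G₀ : LocalSub F, G₀.IsQcFtOn U →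
      ∃ G' : LocalSub F, G'.IsQcFtOn ⊤ ∧ ∀ W ≤ U, G'.carrier W = G₀.carrier W)
    (G : (U : Scheme.{u}).Modules) (i : G ⟶ F.restrict U.ι) [Mono i] [G.IsQuasicoherent]
    (hG : SheafOfModules.IsFiniteType.{u, u, u} G) :
    ∃ (G' : X.Modules) (i' : G' ⟶ F) (e : G'.restrict U.ι ≅ G), Mono i' ∧ G'.IsQuasicoherent ∧
      SheafOfModules.IsFiniteType.{u, u, u} G' ∧
      e.hom ≫ i = (Scheme.Modules.restrictFunctor U.ι).map i' := by
  have hi : ∀ O : (U : Scheme.{u}).Opens, Function.Injective (i.app O) :=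
    fun O => FtLocal.app_injective_of_mono i O
  have hr : U.ι.opensRange = U := Scheme.Opens.opensRange_ι U
  have h0 : (sub U.ι i hi).IsQcFtOn U := by
    have := sub_isQcFtOn U.ι i hi hG
    rwa [hr] at this
  obtain ⟨G', hG', hGU⟩ := hext _ h0
  obtain ⟨e, he⟩ := exists_iso_restrict U.ι i hi G' (by rw [hr]; exact hGU)
  exact ⟨G'.obj, G'.ι, e, inferInstance, G'.isQuasicoherent_obj hG'.isQcOn,
    G'.isFiniteType_obj hG', he⟩

/-- **extension of quasi-coherent subsheaves of finite type**, general form -/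
theorem exists_extension_cat [F.IsQuasicoherent] {L : Type v} [LinearOrder L] [WellFoundedLT L]
    (V : L → X.Opens) (hV : ∀ l, IsAffineOpen (V l)) (hcov : ⨆ l, V l = ⊤)
    (hW : ∀ l, IsCompact ((V l : Set X) ∩ ⋃ m ∈ Set.Iio l, (V m : Set X)))
    (U : X.Opens) [QuasiCompact U.ι]
    (G : (U : Scheme.{u}).Modules) (i : G ⟶ F.restrict U.ι) [Mono i] [G.IsQuasicoherent]
    (hG : SheafOfModules.IsFiniteType.{u, u, u} G) :
    ∃ (G' : X.Modules) (i' : G' ⟶ F) (e : G'.restrict U.ι ≅ G), Mono i' ∧ G'.IsQuasicoherent ∧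
      SheafOfModules.IsFiniteType.{u, u, u} G' ∧
      e.hom ≫ i = (Scheme.Modules.restrictFunctor U.ι).map i' := by
  refine exists_extension_cat_of U (fun G₀ h0 => ?_) G i hG
  refine LocalSub.exists_extension V U G₀ hV hcov
    (fun l => isCompact_inf_of_quasiCompact U (hV l)) (fun l => ?_) h0
  have : (((⨆ m : {m // m < l}, V m.1) ⊓ V l : X.Opens) : Set X) =
      (V l : Set X) ∩ ⋃ m ∈ Set.Iio l, (V m : Set X) := by
    ext x
    simp only [Opens.coe_inf, Opens.coe_iSup, Set.mem_inter_iff, Set.mem_iUnion, SetLike.mem_coe,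
      Set.mem_Iio, Subtype.exists, exists_prop]
    tauto
  rw [this]
  exact hW l

/-- the quasi-compact quasi-separated case -/
theorem exists_extension_cat_qcqs [F.IsQuasicoherent] [CompactSpace X] [QuasiSeparatedSpace X]
    (U : X.Opens) (hU : IsCompact (U : Set X))
    (G : (U : Scheme.{u}).Modules) (i : G ⟶ F.restrict U.ι) [Mono i] [G.IsQuasicoherent]
    (hG : SheafOfModules.IsFiniteType.{u, u, u} G) :
    ∃ (G' : X.Modules) (i' : G' ⟶ F) (e : G'.restrict U.ι ≅ G), Mono i' ∧ G'.IsQuasicoherent ∧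
      SheafOfModules.IsFiniteType.{u, u, u} G' ∧
      e.hom ≫ i = (Scheme.Modules.restrictFunctor U.ι).map i' :=
  exists_extension_cat_of U (fun G₀ h0 => LocalSub.exists_extension_of_qcqs U hU G₀ h0) G i hG

/-- the locally noetherian case -/
theorem exists_extension_cat_noeth [F.IsQuasicoherent]
    (hX : ∀ x : X, ∃ U : X.Opens, x ∈ U ∧ NoetherianSpace (U : Set X)) (U : X.Opens)
    (G : (U : Scheme.{u}).Modules) (i : G ⟶ F.restrict U.ι) [Mono i] [G.IsQuasicoherent]
    (hG : SheafOfModules.IsFiniteType.{u, u, u} G) :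
    ∃ (G' : X.Modules) (i' : G' ⟶ F) (e : G'.restrict U.ι ≅ G), Mono i' ∧ G'.IsQuasicoherent ∧
      SheafOfModules.IsFiniteType.{u, u, u} G' ∧
      e.hom ≫ i = (Scheme.Modules.restrictFunctor U.ι).map i' :=
  exists_extension_cat_of U
    (fun G₀ h0 => LocalSub.exists_extension_of_locally_noetherian hX U G₀ h0) G i hG

end Groth.Agent.Helper1.SubSh
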