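import Mathlib
import Groth.Prelude.Def_Coh
import Groth.Prelude.Def_Dual3
import Groth.Agent.Lib.Helper1.Dv5
import Groth.Agent.Lib.Helper1.QcProd
import Groth.Agent.Lib.Helper1.CohAbel
import Groth.Agent.Lib.Helper1.CohRestr
import Groth.Agent.Lib.Helper1.SubExt9

/-!
# Deligne's formula, surjectivity (helper1, dévissage cluster)
-/

set_option autoImplicit false
universe u
open CategoryTheory CategoryTheory.Limits AlgebraicGeometry TopologicalSpace Opposite

namespace Groth.Agent.Helper1.Dv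

open Groth.Agent.Helper1.QcCech Groth.Agent.Helper1.QcExt Groth.Agent.Helper1
open Groth.Agent.Helper1.CohACC

variable {X : Scheme.{u}}

/-- on an affine open, the kernel of `G ⟶ coker p` on sections is the range of `p` -/
theorem ker_cokernel_le_sec {H G : X.Modules} [H.IsQuasicoherent] [G.IsQuasicoherent]
    (p : H ⟶ G) {V : X.Opens} (hV : IsAffineOpen V) :
    LinearMap.ker (appL (cokernel.π p) V) ≤ sec p V := by
  intro x hx
  -- `0 ⟶ im ⟶ G ⟶ coker`
  let S₁ : ShortComplex X.Modules := ShortComplex.mk (Abelian.image.ι p) (cokernel.π p)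
    (kernel.condition _)
  have hS₁ : S₁.Exact := ShortComplex.exact_of_f_is_kernel _ (kernelIsKernel (cokernel.π p))
  have : Mono S₁.f := inferInstanceAs (Mono (Abelian.image.ι p))
  obtain ⟨y, hy⟩ := QcAbel.app_exact' (S := S₁) hS₁ V x hx
  -- `0 ⟶ ker ⟶ H ⟶ im ⟶ 0`
  let S₂ : ShortComplex X.Modules := ShortComplex.mk (kernel.ι p) (Abelian.factorThruImage p) (by
    rw [← cancel_mono (Abelian.image.ι p), Category.assoc, Abelian.image.fac, kernel.condition,
      zero_comp])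
  let S' : ShortComplex X.Modules := ShortComplex.mk (kernel.ι p) p (kernel.condition p)
  have hS' : S'.Exact := ShortComplex.exact_of_f_is_kernel _ (kernelIsKernel p)
  let α : S₂ ⟶ S' := { τ₁ := 𝟙 _, τ₂ := 𝟙 _, τ₃ := Abelian.image.ι p }
  have : Epi α.τ₁ := inferInstanceAs (Epi (𝟙 _))
  have : IsIso α.τ₂ := inferInstanceAs (IsIso (𝟙 _))
  have : Mono α.τ₃ := inferInstanceAs (Mono (Abelian.image.ι p))
  have hS₂ : S₂.Exact := (ShortComplex.exact_iff_of_epi_of_isIso_of_mono α).2 hS'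
  have : Mono S₂.f := inferInstanceAs (Mono (kernel.ι p))
  have : Epi S₂.g := inferInstanceAs (Epi (Abelian.factorThruImage p))
  have hSE : S₂.ShortExact := { exact := hS₂ }
  have : S₂.X₁.IsQuasicoherent := QcAbel.isQuasicoherent_kernel p
  obtain ⟨h, hh⟩ := app_surjective hSE V hV y
  refine ⟨h, ?_⟩
  rw [← hy, ← hh]
  change p.app V h = (Abelian.factorThruImage p ≫ Abelian.image.ι p).app V h
  rw [Abelian.image.fac]

/-- bijectivity on sections over opens inside `U` of a morphism whose restriction to `U` is an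
isomorphism -/
theorem app_bijective_of_restrict_isIso {E F : X.Modules} (ψ : E ⟶ F) (U : X.Opens)
    [h : IsIso ((Scheme.Modules.restrictFunctor U.ι).map ψ)] (W : X.Opens) (hW : W ≤ U) :
    Function.Bijective (ψ.app W) := by
  have key : ∀ (W' : X.Opens), W' = W → Function.Bijective (ψ.app W') →
      Function.Bijective (ψ.app W) := by
    intro W' hW' hs
    subst hW'
    exact hs
  refine key (U.ι ''ᵁ (U.ι ⁻¹ᵁ W)) ?_ ?_
  · rw [Scheme.Hom.image_preimage_eq_opensRange_inf, Scheme.Opens.opensRange_ι]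
    exact inf_eq_right.2 hW
  · have : IsIso (((Scheme.Modules.restrictFunctor U.ι).map ψ).app (U.ι ⁻¹ᵁ W)) := inferInstance
    exact (ConcreteCategory.isIso_iff_bijective _).1 this

/-- **Deligne's formula, surjectivity** (S9515) -/
theorem deligne_surjective [IsNoetherian X] (F G : X.Modules)
    (hF : Coh.IsQCoh F) (hG : Coh.IsCoh G) (I : X.IdealSheafData)
    (U : X.Opens) (hU : (U : Set X) = (I.support : Set X)ᶜ)
    (φ : (Scheme.Modules.restrictFunctor U.ι).obj G ⟶
      (Scheme.Modules.restrictFunctor U.ι).obj F) :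
    ∃ (n : ℕ) (ψ : (Dual3.idealMul (I ^ n)).obj G ⟶ F),
      (Scheme.Modules.restrictFunctor U.ι).map ψ =
        (Scheme.Modules.restrictFunctor U.ι).map (Dual3.idealMulι (I ^ n) G) ≫ φ := by
  haveI : F.IsQuasicoherent := hF
  haveI : G.IsQuasicoherent := hG.1
  haveI : (G ⊞ F).IsQuasicoherent := QcAbel.isQuasicoherent_biprod G F
  let R := Scheme.Modules.restrictFunctor U.ι
  -- the graph of `φ`
  let graph : R.obj G ⟶ R.obj (G ⊞ F) := R.map biprod.inl + φ ≫ R.map biprod.inr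
  have hfst : graph ≫ R.map biprod.fst = 𝟙 _ := by
    simp only [graph, Preadditive.add_comp, Category.assoc]
    rw [← Functor.map_comp, ← Functor.map_comp, biprod.inl_fst, biprod.inr_fst, R.map_id,
      R.map_zero, comp_zero, add_zero]
  have hsnd : graph ≫ R.map biprod.snd = φ := by
    simp only [graph, Preadditive.add_comp, Category.assoc]
    rw [← Functor.map_comp, ← Functor.map_comp, biprod.inl_snd, biprod.inr_snd, R.map_id,
      R.map_zero, Category.comp_id, zero_add]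
  haveI : Mono graph := mono_of_mono_fac hfst
  have hGU : Coh.IsCoh (R.obj G) := FinPush.isCoh_restrict U.ι G hG
  haveI : (R.obj G).IsQuasicoherent := hGU.1
  have hUc : IsCompact (U : Set X) := TopologicalSpace.NoetherianSpace.isCompact _
  obtain ⟨H, i', e, hi', hHq, hHft, he⟩ :=
    SubSh.exists_extension_cat_qcqs (F := G ⊞ F) U hUc (R.obj G) graph hGU.2
  haveI := hi'
  haveI := hHq
  have hH : Coh.IsCoh H := ⟨hHq, hHft⟩
  set p₁ : H ⟶ G := i' ≫ biprod.fst with hp₁
  set p₂ : H ⟶ F := i' ≫ biprod.snd with hp₂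
  have hRp₁ : R.map p₁ = e.hom := by
    rw [hp₁, Functor.map_comp, ← he, Category.assoc, hfst, Category.comp_id]
  have hRp₂ : R.map p₂ = e.hom ≫ φ := by
    rw [hp₂, Functor.map_comp, ← he, Category.assoc, hsnd]
  haveI : IsIso (R.map p₁) := by rw [hRp₁]; infer_instance
  obtain ⟨m, V, hV, hcov⟩ := exists_finite_affine_cover (X := X)
  -- the kernel of `p₁`
  have hT : Coh.IsCoh (kernel p₁) := FtLocal.isCoh_kernel hH hG p₁
  haveI : (kernel p₁).IsQuasicoherent := hT.1
  obtain ⟨c₁, hc₁⟩ := exists_pow_kill_hom hT (𝟙 (kernel p₁)) I (by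
    intro W hW a ha t
    have hle := basicOpen_le_compl_support I hW a ha U hU
    have hinj := (app_bijective_of_restrict_isIso p₁ U _ hle).1
    have h1 : p₁.app _ ((kernel.ι p₁).app _ t) = 0 := by
      change (kernel.ι p₁ ≫ p₁).app _ t = 0
      rw [kernel.condition]
      rfl
    have h2 : (kernel.ι p₁).app _ t = 0 := hinj (h1.trans (map_zero _).symm)
    exact FtLocal.app_injective_of_mono (kernel.ι p₁) _ (h2.trans (map_zero _).symm)) V hV
  obtain ⟨c₂, hc₂⟩ := artinRees_sec H hH I (kernel.ι p₁) V hV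
  -- `I^(c₁+c₂) H` meets the kernel trivially
  have hA : ∀ i, (I.ideal ⟨V i, hV i⟩) ^ (c₁ + c₂) • (⊤ : Submodule Γ(X, V i) Γ(H, V i)) ⊓
      sec (kernel.ι p₁) (V i) = ⊥ := by
    intro i
    rw [hc₂ i (c₁ + c₂) (Nat.le_add_left _ _), Nat.add_sub_cancel, eq_bot_iff]
    refine le_trans (smul_mono_right _ inf_le_right) ?_
    have h1 : sec (kernel.ι p₁) (V i) = (⊤ : Submodule _ Γ(kernel p₁, V i)).map
        (appL (kernel.ι p₁) (V i)) := by
      rw [Submodule.map_top]; rfl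
    rw [h1, ← Submodule.map_smul'']
    have h2 : (I.ideal ⟨V i, hV i⟩) ^ c₁ • (⊤ : Submodule Γ(X, V i) Γ(kernel p₁, V i)) = ⊥ := by
      rw [eq_bot_iff]
      intro x hx
      have := hc₁ i hx
      rw [LinearMap.mem_ker] at this
      exact this
    rw [h2, Submodule.map_bot]
  -- `ν` is a monomorphism
  have hνm : Mono (Dual3.idealMulι (I ^ (c₁ + c₂)) H ≫ p₁) := by
    haveI : (kernel (Dual3.idealMulι (I ^ (c₁ + c₂)) H ≫ p₁)).IsQuasicoherent :=
      QcAbel.isQuasicoherent_kernel _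
    apply Preadditive.mono_of_isZero_kernel
    refine isZero_of_affine_cover _ V hV hcov fun i s => ?_
    have h0 : (Dual3.idealMulι (I ^ (c₁ + c₂)) H ≫ p₁).app (V i)
        ((kernel.ι (Dual3.idealMulι (I ^ (c₁ + c₂)) H ≫ p₁)).app (V i) s) = 0 := by
      change (kernel.ι (Dual3.idealMulι (I ^ (c₁ + c₂)) H ≫ p₁) ≫
        (Dual3.idealMulι (I ^ (c₁ + c₂)) H ≫ p₁)).app (V i) s = 0
      rw [kernel.condition]
      rfl
    set y := (kernel.ι (Dual3.idealMulι (I ^ (c₁ + c₂)) H ≫ p₁)).app (V i) s with hy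
    have hz1 : (Dual3.idealMulι (I ^ (c₁ + c₂)) H).app (V i) y ∈
        (I.ideal ⟨V i, hV i⟩) ^ (c₁ + c₂) • (⊤ : Submodule Γ(X, V i) Γ(H, V i)) := by
      have : (Dual3.idealMulι (I ^ (c₁ + c₂)) H).app (V i) y ∈
          sec (Dual3.idealMulι (I ^ (c₁ + c₂)) H) (V i) := ⟨y, rfl⟩
      rwa [sec_idealMulι _ _ (hV i)] at this
    have hz2 : (Dual3.idealMulι (I ^ (c₁ + c₂)) H).app (V i) y ∈ sec (kernel.ι p₁) (V i) := by
      rw [sec_kernel]
      exact h0
    have hz : (Dual3.idealMulι (I ^ (c₁ + c₂)) H).app (V i) y = 0 := by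
      have : (Dual3.idealMulι (I ^ (c₁ + c₂)) H).app (V i) y ∈ (⊥ : Submodule Γ(X, V i) Γ(H, V i)) := by
        rw [← hA i]
        exact ⟨hz1, hz2⟩
      simpa using this
    have hy0 : y = 0 :=
      FtLocal.app_injective_of_mono (Dual3.idealMulι (I ^ (c₁ + c₂)) H) _ (hz.trans (map_zero _).symm)
    exact FtLocal.app_injective_of_mono (kernel.ι (Dual3.idealMulι (I ^ (c₁ + c₂)) H ≫ p₁)) _
      (hy0.trans (map_zero _).symm)
  -- the cokernel of `p₁`
  have hQ : Coh.IsCoh (cokernel p₁) := FtLocal.isCoh_cokernel hH hG p₁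
  haveI : (cokernel p₁).IsQuasicoherent := hQ.1
  obtain ⟨c₃, hc₃⟩ := exists_pow_kill_hom hG (cokernel.π p₁) I (by
    intro W hW a ha t
    have hle := basicOpen_le_compl_support I hW a ha U hU
    obtain ⟨h, rfl⟩ := (app_bijective_of_restrict_isIso p₁ U _ hle).2 t
    change (p₁ ≫ cokernel.π p₁).app _ h = 0
    rw [cokernel.condition]
    rfl) V hV
  have hle : ∀ i, sec (Dual3.idealMulι (I ^ (c₁ + c₂ + c₃)) G) (V i) ≤
      sec (Dual3.idealMulι (I ^ (c₁ + c₂)) H ≫ p₁) (V i) := by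
    intro i
    rw [sec_idealMulι _ _ (hV i), sec_idealMulι_comp _ _ (hV i)]
    change (I.ideal ⟨V i, hV i⟩) ^ (c₁ + c₂ + c₃) • ⊤ ≤
      (I.ideal ⟨V i, hV i⟩) ^ (c₁ + c₂) • sec p₁ (V i)
    rw [pow_add, Submodule.mul_smul]
    exact smul_mono_right _ ((hc₃ i).trans (ker_cokernel_le_sec p₁ (hV i)))
  obtain ⟨θ, hθ⟩ := exists_fac_of_sec_le (Dual3.idealMulι (I ^ (c₁ + c₂ + c₃)) G)
    (Dual3.idealMulι (I ^ (c₁ + c₂)) H ≫ p₁) V hV hcov hle
  refine ⟨c₁ + c₂ + c₃, θ ≫ Dual3.idealMulι (I ^ (c₁ + c₂)) H ≫ p₂, ?_⟩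
  rw [← hθ]
  simp only [Functor.map_comp, Category.assoc]
  rw [hRp₂, hRp₁]

end Groth.Agent.Helper1.Dv
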