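import Mathlib
import Groth.Prelude.Def_Coh
import Groth.Prelude.Def_Dual3
import Groth.Agent.Lib.Helper1.Dv5

/-!
# Global Krull intersection for `I^n F` (helper1, dévissage cluster)
-/

set_option autoImplicit false
universe u
open CategoryTheory CategoryTheory.Limits AlgebraicGeometry TopologicalSpace Opposite

namespace Groth.Agent.Helper1.Dv

open Groth.Agent.Helper1.QcCech Groth.Agent.Helper1.QcExt Groth.Agent.Helper1
open Groth.Agent.Helper1.CohACC

variable {X : Scheme.{u}}

/-- restriction of a section of `F` lying in `sec ι U` lies in `sec ι W` -/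
theorem res_mem_sec {G F : X.Modules} (ι : G ⟶ F) {U W : X.Opens} (h : W ≤ U) {s : Γ(F, U)}
    (hs : s ∈ sec ι U) : res F h s ∈ sec ι W := by
  obtain ⟨t, rfl⟩ := hs
  exact ⟨res G h t, app_res ι h t⟩

/-- a section killed by `g` vanishes on `D(g)` -/
theorem res_basicOpen_eq_zero (F : X.Modules) {U : X.Opens} (g : Γ(X, U)) (s : Γ(F, U))
    (h : g • s = 0) : res F (X.basicOpen_le g) s = 0 := by
  have h1 : res F (X.basicOpen_le g) (g • s) = 0 := by rw [h, map_zero]
  rw [res_smul] at h1
  have hu : IsUnit (resR (X.basicOpen_le g) g) := X.toRingedSpace.isUnit_res_basicOpen g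
  rw [← hu.unit_spec] at h1
  have := congrArg (fun z => (hu.unit⁻¹ : (Γ(X, X.basicOpen g))ˣ) • z) h1
  simpa [Units.smul_def, smul_smul] using this

theorem krull_global [IsNoetherian X] (I : X.IdealSheafData) (F : X.Modules) (hF : Coh.IsCoh F)
    (s : Γ(F, ⊤)) :
    (∀ n : ℕ, s ∈ sec (Dual3.idealMulι (I ^ n) F) ⊤) ↔
      ∃ V : X.Opens, I.supportSet ⊆ (V : Set X) ∧ res F (le_top : V ≤ ⊤) s = 0 := by
  haveI : F.IsQuasicoherent := hF.1
  constructor
  · intro h
    -- on every affine open, Krull's intersection theorem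
    have hW : ∀ W : X.affineOpens, ∃ r ∈ I.ideal W,
        (1 - r) • res F (le_top : W.1 ≤ ⊤) s = 0 := by
      intro W
      have : IsNoetherianRing Γ(X, W.1) := IsLocallyNoetherian.component_noetherian W
      have : Module.Finite Γ(X, W.1) Γ(F, W.1) := FinPush.finite_sections F hF W.2
      have hmem : res F (le_top : W.1 ≤ ⊤) s ∈
          (⨅ i : ℕ, (I.ideal W) ^ i • ⊤ : Submodule Γ(X, W.1) Γ(F, W.1)) := by
        rw [Submodule.mem_iInf]
        intro n
        have := res_mem_sec (Dual3.idealMulι (I ^ n) F) (le_top : W.1 ≤ ⊤) (h n)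
        rwa [sec_idealMulι _ _ W.2] at this
      obtain ⟨r, hr⟩ := (Ideal.mem_iInf_smul_pow_eq_bot_iff (I.ideal W) _).1 hmem
      exact ⟨r.1, r.2, by rw [sub_smul, one_smul, hr, sub_self]⟩
    choose r hr hrs using hW
    refine ⟨⨆ W : X.affineOpens, X.basicOpen (1 - r W), ?_, ?_⟩
    · intro x hx
      obtain ⟨_, ⟨W, hW, rfl⟩, hxW, -⟩ := X.isBasis_affineOpens.exists_subset_of_mem_open
        (Set.mem_univ x) isOpen_univ
      have hx' : x ∈ I.support := hx
      rw [Scheme.IdealSheafData.mem_support_iff_of_mem (U := ⟨W, hW⟩) hxW,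
        Scheme.mem_zeroLocus_iff] at hx'
      have h1 : x ∈ X.basicOpen ((1 - r ⟨W, hW⟩) + r ⟨W, hW⟩) := by
        rw [sub_add_cancel, Scheme.basicOpen_one]
        exact hxW
      rcases X.basicOpen_add_le _ _ h1 with h2 | h2
      · exact Opens.mem_iSup.2 ⟨⟨W, hW⟩, h2⟩
      · exact absurd h2 (hx' _ (hr _))
    · apply TopCat.Sheaf.eq_of_locally_eq' (⟨F.presheaf, F.isSheaf⟩ : TopCat.Sheaf Ab X)
        (fun W : X.affineOpens => X.basicOpen (1 - r W)) _
        (fun W => homOfLE (le_iSup (fun W : X.affineOpens => X.basicOpen (1 - r W)) W))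
      · exact le_rfl
      · intro W
        change res F _ (res F _ s) = res F _ 0
        rw [map_zero, res_res]
        have := res_basicOpen_eq_zero F (1 - r W) _ (hrs W)
        rwa [res_res] at this
  · rintro ⟨V, hV, hs⟩ n
    have hinj : ∀ O : X.Opens, Function.Injective ((Dual3.idealMulι (I ^ n) F).app O) :=
      fun O => FtLocal.app_injective_of_mono _ O
    refine SubSh.mem_range_of_locally (Dual3.idealMulι (I ^ n) F) hinj s fun x _ => ?_
    by_cases hx : x ∈ V
    · exact ⟨V, le_top, hx, ⟨0, by rw [map_zero]; exact hs.symm⟩⟩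
    · have hx' : x ∉ I.support := fun h => hx (hV h)
      obtain ⟨_, ⟨W, hW, rfl⟩, hxW, -⟩ := X.isBasis_affineOpens.exists_subset_of_mem_open
        (Set.mem_univ x) isOpen_univ
      rw [Scheme.IdealSheafData.mem_support_iff_of_mem (U := ⟨W, hW⟩) hxW,
        Scheme.mem_zeroLocus_iff] at hx'
      push Not at hx'
      obtain ⟨a, ha, hxa⟩ := hx'
      refine ⟨X.basicOpen a, le_top, hxa, ?_⟩
      have hA : IsAffineOpen (X.basicOpen a) := hW.basicOpen a
      have htop : (I ^ n).ideal ⟨X.basicOpen a, hA⟩ = ⊤ := by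
        have h1 : I.ideal ⟨X.basicOpen a, hA⟩ = ⊤ := by
          have := I.map_ideal_basicOpen ⟨W, hW⟩ a
          rw [Ideal.eq_top_iff_one]
          have hu : IsUnit (X.presheaf.map (homOfLE (X.basicOpen_le a)).op a) :=
            X.toRingedSpace.isUnit_res_basicOpen a
          have hmem : (X.presheaf.map (homOfLE (X.basicOpen_le a)).op).hom a ∈
              I.ideal (X.affineBasicOpen a) := by
            rw [← this]
            exact Ideal.mem_map_of_mem _ ha
          exact (Ideal.eq_top_of_isUnit_mem _ hmem hu) ▸ Submodule.mem_top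
        change (I.ideal ⟨X.basicOpen a, hA⟩) ^ n = ⊤
        rw [h1, Ideal.top_pow]
      have : res F (le_top : X.basicOpen a ≤ ⊤) s ∈ sec (Dual3.idealMulι (I ^ n) F) (X.basicOpen a) := by
        rw [sec_idealMulι _ _ hA, htop, Submodule.top_smul]
        trivial
      exact this

end Groth.Agent.Helper1.Dv
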