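import Mathlib
universe u v
open CategoryTheory MonoidalCategory Limits

namespace Groth.Agent.Helper1.TorL

variable {R : Type u} [CommRing R]

/-- abbreviation for Tor objects -/
noncomputable abbrev T (n : ℕ) (X Y : ModuleCat.{u} R) : ModuleCat.{u} R :=
  ((Tor (ModuleCat.{u} R) n).obj X).obj Y

/-- The complex `X ⊗ Q`. -/
noncomputable abbrev tensCx (X : ModuleCat.{u} R) (Q : ChainComplex (ModuleCat.{u} R) ℕ) :
    ChainComplex (ModuleCat.{u} R) ℕ :=
  ((tensorLeft X).mapHomologicalComplex _).obj Q

/-- The map `f ⊗ Q`. -/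
noncomputable abbrev tensCxMap {X X' : ModuleCat.{u} R} (f : X ⟶ X')
    (Q : ChainComplex (ModuleCat.{u} R) ℕ) : tensCx X Q ⟶ tensCx X' Q :=
  (NatTrans.mapHomologicalComplex ((tensoringLeft (ModuleCat.{u} R)).map f) _).app Q

/-- Tor computed by a resolution of the second variable. -/
noncomputable def torIso (X : ModuleCat.{u} R) {Y : ModuleCat.{u} R} (Q : ProjectiveResolution Y)
    (n : ℕ) : T n X Y ≅ (tensCx X Q.complex).homology n :=
  Q.isoLeftDerivedObj ((tensoringLeft (ModuleCat.{u} R)).obj X) n

theorem tor_map_eq {X X' : ModuleCat.{u} R} (f : X ⟶ X') {Y : ModuleCat.{u} R}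
    (Q : ProjectiveResolution Y) (n : ℕ) :
    ((Tor (ModuleCat.{u} R) n).map f).app Y =
      (torIso X Q n).hom ≫ HomologicalComplex.homologyMap (tensCxMap f Q.complex) n ≫
        (torIso X' Q n).inv :=
  ProjectiveResolution.leftDerived_app_eq ((tensoringLeft (ModuleCat.{u} R)).map f) Q n

end Groth.Agent.Helper1.TorL

namespace Groth.Agent.Helper1.TorL
variable {R : Type u} [CommRing R]

theorem tensCxMap_f {X X' : ModuleCat.{u} R} (f : X ⟶ X')
    (Q : ChainComplex (ModuleCat.{u} R) ℕ) (i : ℕ) :
    (tensCxMap f Q).f i = f ▷ Q.X i := rfl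

/-- The short complex of complexes `S ⊗ Q`. -/
noncomputable abbrev tensSC (S : ShortComplex (ModuleCat.{u} R))
    (Q : ChainComplex (ModuleCat.{u} R) ℕ) : ShortComplex (ChainComplex (ModuleCat.{u} R) ℕ) :=
  ShortComplex.mk (tensCxMap S.f Q) (tensCxMap S.g Q) (by
    ext i : 1
    show S.f ▷ Q.X i ≫ S.g ▷ Q.X i = 0
    rw [← comp_whiskerRight, S.zero, MonoidalPreadditive.zero_whiskerRight])

theorem flat_of_projective (P : ModuleCat.{u} R) [Projective P] : Module.Flat R P := by
  have : Module.Projective R P := (IsProjective.iff_projective (R := R) P).mpr (by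
    have : ModuleCat.of R P = P := rfl
    rw [this]; infer_instance)
  infer_instance

theorem tensSC_shortExact (S : ShortComplex (ModuleCat.{u} R)) (hS : S.ShortExact)
    (Q : ChainComplex (ModuleCat.{u} R) ℕ) (hQ : ∀ i, Module.Flat R (Q.X i)) :
    (tensSC S Q).ShortExact := by
  apply HomologicalComplex.shortExact_of_degreewise_shortExact
  intro i
  have := hQ i
  exact hS.map_of_exact (tensorRight (Q.X i))

end Groth.Agent.Helper1.TorL

namespace Groth.Agent.Helper1.TorL
variable {R : Type u} [CommRing R]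

theorem flat_res {Y : ModuleCat.{u} R} (Q : ProjectiveResolution Y) (i : ℕ) :
    Module.Flat R (Q.complex.X i) := by
  have := Q.projective i
  exact flat_of_projective _

theorem tor_map_hom {X X' : ModuleCat.{u} R} (f : X ⟶ X') {Y : ModuleCat.{u} R}
    (Q : ProjectiveResolution Y) (n : ℕ) :
    ((Tor (ModuleCat.{u} R) n).map f).app Y ≫ (torIso X' Q n).hom =
      (torIso X Q n).hom ≫ HomologicalComplex.homologyMap (tensCxMap f Q.complex) n := by
  rw [tor_map_eq f Q n, Category.assoc, Category.assoc, Iso.inv_hom_id, Category.comp_id]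

theorem relDown (n : ℕ) : (ComplexShape.down ℕ).Rel (n + 1) n := by simp

theorem tor_map_comp_zero (S : ShortComplex (ModuleCat.{u} R)) (Y : ModuleCat.{u} R) (n : ℕ) :
    ((Tor (ModuleCat.{u} R) n).map S.f).app Y ≫ ((Tor (ModuleCat.{u} R) n).map S.g).app Y = 0 := by
  let Q := projectiveResolution Y
  rw [← cancel_mono (torIso S.X₃ Q n).hom, Category.assoc, tor_map_hom S.g Q n,
    reassoc_of% (tor_map_hom S.f Q n), ← HomologicalComplex.homologyMap_comp, zero_comp]
  have : tensCxMap S.f Q.complex ≫ tensCxMap S.g Q.complex = 0 := (tensSC S Q.complex).zero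
  rw [this, HomologicalComplex.homologyMap_zero, comp_zero]

/-- Middle exactness of Tor in the first variable. -/
theorem tor_exact₂ (S : ShortComplex (ModuleCat.{u} R)) (hS : S.ShortExact) (Y : ModuleCat.{u} R)
    (n : ℕ) : (ShortComplex.mk _ _ (tor_map_comp_zero S Y n)).Exact := by
  let Q := projectiveResolution Y
  have hSQ := tensSC_shortExact S hS Q.complex (flat_res Q)
  refine ShortComplex.exact_of_iso ?_ (hSQ.homology_exact₂ n)
  exact (ShortComplex.isoMk (torIso S.X₁ Q n) (torIso S.X₂ Q n) (torIso S.X₃ Q n)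
    (tor_map_hom S.f Q n).symm (tor_map_hom S.g Q n).symm).symm

/-- The connecting map. -/
noncomputable def torδ (S : ShortComplex (ModuleCat.{u} R)) (hS : S.ShortExact)
    (Y : ModuleCat.{u} R) (n : ℕ) : T (n + 1) S.X₃ Y ⟶ T n S.X₁ Y :=
  (torIso S.X₃ (projectiveResolution Y) (n + 1)).hom ≫
    (tensSC_shortExact S hS (projectiveResolution Y).complex
      (flat_res (projectiveResolution Y))).δ (n + 1) n (relDown n) ≫
    (torIso S.X₁ (projectiveResolution Y) n).inv

theorem torδ_hom (S : ShortComplex (ModuleCat.{u} R)) (hS : S.ShortExact)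
    (Y : ModuleCat.{u} R) (n : ℕ) :
    torδ S hS Y n ≫ (torIso S.X₁ (projectiveResolution Y) n).hom =
      (torIso S.X₃ (projectiveResolution Y) (n + 1)).hom ≫
        (tensSC_shortExact S hS (projectiveResolution Y).complex
          (flat_res (projectiveResolution Y))).δ (n + 1) n (relDown n) := by
  rw [torδ, Category.assoc, Category.assoc, Iso.inv_hom_id, Category.comp_id]

theorem tor_comp_δ (S : ShortComplex (ModuleCat.{u} R)) (hS : S.ShortExact)
    (Y : ModuleCat.{u} R) (n : ℕ) :
    ((Tor (ModuleCat.{u} R) (n + 1)).map S.g).app Y ≫ torδ S hS Y n = 0 := by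
  have hSQ := tensSC_shortExact S hS (projectiveResolution Y).complex
    (flat_res (projectiveResolution Y))
  rw [← cancel_mono (torIso S.X₁ (projectiveResolution Y) n).hom, Category.assoc, torδ_hom,
    reassoc_of% (tor_map_hom S.g (projectiveResolution Y) (n + 1)), zero_comp]
  have := hSQ.comp_δ (n + 1) n (relDown n)
  erw [this, comp_zero]

theorem tor_δ_comp (S : ShortComplex (ModuleCat.{u} R)) (hS : S.ShortExact)
    (Y : ModuleCat.{u} R) (n : ℕ) :
    torδ S hS Y n ≫ ((Tor (ModuleCat.{u} R) n).map S.f).app Y = 0 := by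
  have hSQ := tensSC_shortExact S hS (projectiveResolution Y).complex
    (flat_res (projectiveResolution Y))
  rw [← cancel_mono (torIso S.X₂ (projectiveResolution Y) n).hom, Category.assoc,
    tor_map_hom S.f (projectiveResolution Y) n, reassoc_of% (torδ_hom S hS Y n), zero_comp]
  have := hSQ.δ_comp (n + 1) n (relDown n)
  erw [this, comp_zero]

theorem tor_exact₃ (S : ShortComplex (ModuleCat.{u} R)) (hS : S.ShortExact) (Y : ModuleCat.{u} R)
    (n : ℕ) : (ShortComplex.mk _ _ (tor_comp_δ S hS Y n)).Exact := by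
  let Q := projectiveResolution Y
  have hSQ := tensSC_shortExact S hS Q.complex (flat_res Q)
  refine ShortComplex.exact_of_iso ?_ (hSQ.homology_exact₃ (n + 1) n (relDown n))
  exact (ShortComplex.isoMk (torIso S.X₂ Q (n + 1)) (torIso S.X₃ Q (n + 1)) (torIso S.X₁ Q n)
    (tor_map_hom S.g Q (n + 1)).symm (torδ_hom S hS Y n).symm).symm

theorem tor_exact₁ (S : ShortComplex (ModuleCat.{u} R)) (hS : S.ShortExact) (Y : ModuleCat.{u} R)
    (n : ℕ) : (ShortComplex.mk _ _ (tor_δ_comp S hS Y n)).Exact := by
  let Q := projectiveResolution Y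
  have hSQ := tensSC_shortExact S hS Q.complex (flat_res Q)
  refine ShortComplex.exact_of_iso ?_ (hSQ.homology_exact₁ (n + 1) n (relDown n))
  exact (ShortComplex.isoMk (torIso S.X₃ Q (n + 1)) (torIso S.X₁ Q n) (torIso S.X₂ Q n)
    (torδ_hom S hS Y n).symm (tor_map_hom S.f Q n).symm).symm

end Groth.Agent.Helper1.TorL

namespace Groth.Agent.Helper1.TorL
variable {R : Type u} [CommRing R]

theorem tensCx_exactAt_succ (X : ModuleCat.{u} R) [Module.Flat R X] {Y : ModuleCat.{u} R}
    (Q : ProjectiveResolution Y) (n : ℕ) : (tensCx X Q.complex).ExactAt (n + 1) := by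
  rw [HomologicalComplex.exactAt_iff' _ (n + 2) (n + 1) n (by simp) (by simp)]
  exact Module.Flat.lTensor_shortComplex_exact X _ (Q.exact_succ n)

/-- **Flat first variable kills higher Tor.** -/
theorem isZero_tor_succ_of_flat (X Y : ModuleCat.{u} R) [Module.Flat R X] (n : ℕ) :
    IsZero (T (n + 1) X Y) := by
  let Q := projectiveResolution Y
  exact IsZero.of_iso (tensCx_exactAt_succ X Q n).isZero_homology (torIso X Q (n + 1))

end Groth.Agent.Helper1.TorL

namespace Groth.Agent.Helper1.TorL
variable {R : Type u} [CommRing R]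

section General
variable {C D : Type*} [Category C] [Category D] [Abelian C] [HasProjectiveResolutions C] [Abelian D]

theorem fromLeftDerivedZero_naturality_natTrans {F G : C ⥤ D} [F.Additive] [G.Additive]
    (α : F ⟶ G) (X : C) :
    (NatTrans.leftDerived α 0).app X ≫ G.fromLeftDerivedZero.app X =
      F.fromLeftDerivedZero.app X ≫ α.app X := by
  let P := projectiveResolution X
  rw [P.leftDerived_app_eq α 0, P.fromLeftDerivedZero_eq F, P.fromLeftDerivedZero_eq G]
  simp only [Category.assoc, Iso.inv_hom_id_assoc]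
  congr 1
  have h1 : HomologicalComplex.homologyMap ((NatTrans.mapHomologicalComplex α _).app P.complex) 0 ≫
      (ChainComplex.isoHomologyι₀ ((G.mapHomologicalComplex _).obj P.complex)).hom =
      (ChainComplex.isoHomologyι₀ ((F.mapHomologicalComplex _).obj P.complex)).hom ≫
        HomologicalComplex.opcyclesMap ((NatTrans.mapHomologicalComplex α _).app P.complex) 0 :=
    HomologicalComplex.homologyι_naturality _ 0
  erw [reassoc_of% h1]
  congr 1
  rw [← cancel_epi (HomologicalComplex.pOpcycles _ _)]
  simp only [HomologicalComplex.p_opcyclesMap_assoc,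
    ProjectiveResolution.pOpcycles_comp_fromLeftDerivedZero',
    ProjectiveResolution.pOpcycles_comp_fromLeftDerivedZero'_assoc]
  simp only [NatTrans.mapHomologicalComplex_app_f]
  exact (α.naturality _).symm

end General

end Groth.Agent.Helper1.TorL

namespace Groth.Agent.Helper1.TorL
variable {R : Type u} [CommRing R]

/-- `Tor₀(X, Y) ≅ X ⊗ Y`. -/
noncomputable def tor0Iso (X Y : ModuleCat.{u} R) : T 0 X Y ≅ X ⊗ Y :=
  ((tensorLeft X).leftDerivedZeroIsoSelf).app Y

theorem tor0Iso_naturality {X X' : ModuleCat.{u} R} (f : X ⟶ X') (Y : ModuleCat.{u} R) :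
    ((Tor (ModuleCat.{u} R) 0).map f).app Y ≫ (tor0Iso X' Y).hom =
      (tor0Iso X Y).hom ≫ (f ▷ Y) :=
  fromLeftDerivedZero_naturality_natTrans ((tensoringLeft (ModuleCat.{u} R)).map f) Y

end Groth.Agent.Helper1.TorL

namespace Groth.Agent.Helper1.TorL
variable {R : Type u} [CommRing R]

section Vanishing
variable (S : ShortComplex (ModuleCat.{u} R)) (hS : S.ShortExact) (Y : ModuleCat.{u} R)

include hS in
theorem isZero_tor_X₂ (n : ℕ) (h₁ : IsZero (T n S.X₁ Y)) (h₃ : IsZero (T n S.X₃ Y)) :
    IsZero (T n S.X₂ Y) :=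
  (tor_exact₂ S hS Y n).isZero_of_both_zeros (h₁.eq_of_src _ _) (h₃.eq_of_tgt _ _)

include hS in
theorem isZero_tor_succ_X₃ (n : ℕ) (h₂ : IsZero (T (n + 1) S.X₂ Y)) (h₁ : IsZero (T n S.X₁ Y)) :
    IsZero (T (n + 1) S.X₃ Y) :=
  (tor_exact₃ S hS Y n).isZero_of_both_zeros (h₂.eq_of_src _ _) (h₁.eq_of_tgt _ _)

include hS in
theorem isZero_tor_X₁ (n : ℕ) (h₃ : IsZero (T (n + 1) S.X₃ Y)) (h₂ : IsZero (T n S.X₂ Y)) :
    IsZero (T n S.X₁ Y) :=
  (tor_exact₁ S hS Y n).isZero_of_both_zeros (h₃.eq_of_src _ _) (h₂.eq_of_tgt _ _)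

theorem isIso_torδ (n : ℕ) (h₂ : IsZero (T (n + 1) S.X₂ Y)) (h₂' : IsZero (T n S.X₂ Y)) :
    IsIso (torδ S hS Y n) := by
  have hm : Mono (torδ S hS Y n) := (tor_exact₃ S hS Y n).mono_g (h₂.eq_of_src _ _)
  have he : Epi (torδ S hS Y n) := (tor_exact₁ S hS Y n).epi_f (h₂'.eq_of_tgt _ _)
  exact isIso_of_mono_of_epi _

/-- Dimension shifting in the first variable. -/
noncomputable def torShiftIso (n : ℕ) (h₂ : IsZero (T (n + 1) S.X₂ Y))
    (h₂' : IsZero (T n S.X₂ Y)) : T (n + 1) S.X₃ Y ≅ T n S.X₁ Y :=
  @asIso _ _ _ _ (torδ S hS Y n) (isIso_torδ S hS Y n h₂ h₂')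

include hS in
theorem isZero_tor_one_X₃_iff (h₂ : IsZero (T 1 S.X₂ Y)) :
    IsZero (T 1 S.X₃ Y) ↔ Function.Injective (S.f.hom.rTensor Y) := by
  have hm : Mono (torδ S hS Y 0) := (tor_exact₃ S hS Y 0).mono_g (h₂.eq_of_src _ _)
  have key : IsZero (T 1 S.X₃ Y) ↔ Mono (((Tor (ModuleCat.{u} R) 0).map S.f).app Y) := by
    constructor
    · intro h
      exact (tor_exact₁ S hS Y 0).mono_g (h.eq_of_src _ _)
    · intro h
      have h0 : torδ S hS Y 0 = 0 := by
        rw [← cancel_mono (((Tor (ModuleCat.{u} R) 0).map S.f).app Y), tor_δ_comp, zero_comp]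
      exact IsZero.of_mono_eq_zero _ h0
  rw [key]
  have hiso : Mono (((Tor (ModuleCat.{u} R) 0).map S.f).app Y) ↔ Mono (S.f ▷ Y) := by
    have e := tor0Iso_naturality S.f Y
    constructor
    · intro h
      have : Mono ((tor0Iso S.X₁ Y).hom ≫ S.f ▷ Y) := by rw [← e]; infer_instance
      have h2 : S.f ▷ Y = (tor0Iso S.X₁ Y).inv ≫ ((tor0Iso S.X₁ Y).hom ≫ S.f ▷ Y) := by simp
      rw [h2]; infer_instance
    · intro h
      have : Mono (((Tor (ModuleCat.{u} R) 0).map S.f).app Y ≫ (tor0Iso S.X₂ Y).hom) := by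
        rw [e]; infer_instance
      exact mono_of_mono _ (tor0Iso S.X₂ Y).hom
  rw [hiso, ModuleCat.mono_iff_injective]
  rfl

end Vanishing

end Groth.Agent.Helper1.TorL

namespace Groth.Agent.Helper1.TorL
variable {R : Type u} [CommRing R]

section Helpers

/-- The short exact sequence of a submodule. -/
theorem shortExact_subtype_mkQ {M : Type u} [AddCommGroup M] [Module R M] (N : Submodule R M) :
    (ModuleCat.shortComplexOfCompEqZero N.subtype N.mkQ
      (by ext x; simp)).ShortExact :=
  ModuleCat.shortComplex_shortExact _ (LinearMap.exact_subtype_mkQ N) N.injective_subtype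
    N.mkQ_surjective

/-- Tor is invariant under isomorphism in the first variable. -/
noncomputable def torCongrLeft {X X' : ModuleCat.{u} R} (e : X ≅ X') (Y : ModuleCat.{u} R) (n : ℕ) :
    T n X Y ≅ T n X' Y :=
  ((Tor (ModuleCat.{u} R) n).mapIso e).app Y

/-- Tor is invariant under isomorphism in the second variable. -/
noncomputable def torCongrRight (X : ModuleCat.{u} R) {Y Y' : ModuleCat.{u} R} (e : Y ≅ Y') (n : ℕ) :
    T n X Y ≅ T n X Y' :=
  ((Tor (ModuleCat.{u} R) n).obj X).mapIso e

end Helpers

/-- **S6378** -/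
theorem isZero_tor_one_of_isFiniteLength [IsLocalRing R] (M : ModuleCat.{u} R)
    (h : IsZero (T 1 (ModuleCat.of R (IsLocalRing.ResidueField R)) M))
    (N : Type u) [AddCommGroup N] [Module R N] (hN : IsFiniteLength R N) :
    IsZero (T 1 (ModuleCat.of R N) M) := by
  induction hN with
  | of_subsingleton =>
    exact isZero_tor_succ_of_flat _ _ 0
  | @of_simple_quotient N _ _ N' hs hN' ih =>
    have hS := shortExact_subtype_mkQ N'
    refine isZero_tor_X₂ _ hS M 1 ih ?_
    obtain ⟨I, hI, ⟨e⟩⟩ := isSimpleModule_iff_quot_maximal.mp hs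
    have hI' : I = IsLocalRing.maximalIdeal R := IsLocalRing.eq_maximalIdeal hI
    subst hI'
    exact IsZero.of_iso h (torCongrLeft e.toModuleIso M 1)

end Groth.Agent.Helper1.TorL

namespace Groth.Agent.Helper1.TorL
variable {R : Type u} [CommRing R]

section FreePres

/-- A free presentation `0 → L → R^(N) → N → 0`. -/
noncomputable abbrev freePres (N : Type u) [AddCommGroup N] [Module R N] :
    ShortComplex (ModuleCat.{u} R) :=
  (Finsupp.linearCombination R (id : N → N)).shortComplexKer

theorem freePres_shortExact (N : Type u) [AddCommGroup N] [Module R N] :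
    (freePres (R := R) N).ShortExact :=
  LinearMap.shortExact_shortComplexKer (Finsupp.linearCombination_id_surjective R N)

instance (N : Type u) [AddCommGroup N] [Module R N] : Module.Free R (freePres (R := R) N).X₂ :=
  inferInstanceAs (Module.Free R (N →₀ R))

instance (N : Type u) [AddCommGroup N] [Module R N] : Module.Flat R (freePres (R := R) N).X₂ :=
  inferInstanceAs (Module.Flat R (N →₀ R))

/-- shifting along the free presentation -/
theorem isZero_tor_succ_succ_iff (N : Type u) [AddCommGroup N] [Module R N] (Y : ModuleCat.{u} R)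
    (n : ℕ) : IsZero (T (n + 2) (ModuleCat.of R N) Y) ↔
      IsZero (T (n + 1) (freePres (R := R) N).X₁ Y) := by
  have hS := freePres_shortExact (R := R) N
  have h2 : IsZero (T (n + 2) (freePres (R := R) N).X₂ Y) := isZero_tor_succ_of_flat _ _ _
  have h1 : IsZero (T (n + 1) (freePres (R := R) N).X₂ Y) := isZero_tor_succ_of_flat _ _ _
  constructor
  · intro h
    exact isZero_tor_X₁ _ hS Y (n + 1) h h1
  · intro h
    exact isZero_tor_succ_X₃ _ hS Y (n + 1) h2 h

theorem isZero_tor_one_iff (N : Type u) [AddCommGroup N] [Module R N] (Y : ModuleCat.{u} R) :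
    IsZero (T 1 (ModuleCat.of R N) Y) ↔
      Function.Injective ((freePres (R := R) N).f.hom.rTensor Y) :=
  isZero_tor_one_X₃_iff _ (freePres_shortExact (R := R) N) Y (isZero_tor_succ_of_flat _ _ _)

end FreePres

/-- **Flat second variable kills higher Tor.** -/
theorem isZero_tor_succ_of_flat_right (M : ModuleCat.{u} R) [Module.Flat R M] (n : ℕ) :
    ∀ (N : Type u) [AddCommGroup N] [Module R N], IsZero (T (n + 1) (ModuleCat.of R N) M) := by
  induction n with
  | zero =>
    intro N _ _
    rw [isZero_tor_one_iff]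
    exact Module.Flat.rTensor_preserves_injective_linearMap _
      (freePres_shortExact (R := R) N).injective_f
  | succ n ih =>
    intro N _ _
    rw [isZero_tor_succ_succ_iff]
    exact ih _

end Groth.Agent.Helper1.TorL

namespace Groth.Agent.Helper1.TorL

section ThreeByThree
variable {R : Type*} [CommRing R]
  {A1 A2 A3 B1 B2 B3 C1 C2 : Type*}
  [AddCommGroup A1] [AddCommGroup A2] [AddCommGroup A3] [AddCommGroup B1] [AddCommGroup B2]
  [AddCommGroup B3] [AddCommGroup C1] [AddCommGroup C2]
  [Module R A1] [Module R A2] [Module R A3] [Module R B1] [Module R B2] [Module R B3]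
  [Module R C1] [Module R C2]

/-- Half of the `3 × 3` lemma. -/
theorem injective_of_three_by_three
    (a12 : A1 →ₗ[R] A2) (a23 : A2 →ₗ[R] A3) (b12 : B1 →ₗ[R] B2) (b23 : B2 →ₗ[R] B3)
    (c12 : C1 →ₗ[R] C2) (u1 : A1 →ₗ[R] B1) (v1 : B1 →ₗ[R] C1) (u2 : A2 →ₗ[R] B2)
    (v2 : B2 →ₗ[R] C2) (u3 : A3 →ₗ[R] B3)
    (ha23 : Function.Surjective a23) (hb : Function.Exact b12 b23)
    (hv2u2 : ∀ x, v2 (u2 x) = 0) (hcol1 : Function.Exact u1 v1) (hu2 : Function.Injective u2)
    (ha : ∀ x, a23 (a12 x) = 0)
    (sq1 : ∀ x, u3 (a23 x) = b23 (u2 x)) (sq2 : ∀ x, v2 (b12 x) = c12 (v1 x))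
    (sq3 : ∀ x, u2 (a12 x) = b12 (u1 x))
    (hc12 : Function.Injective c12) : Function.Injective u3 := by
  rw [← LinearMap.ker_eq_bot, LinearMap.ker_eq_bot']
  intro a3 h3
  obtain ⟨a2, rfl⟩ := ha23 a3
  rw [sq1] at h3
  obtain ⟨b1, hb1⟩ := (hb (u2 a2)).mp h3
  have h4 : c12 (v1 b1) = 0 := by rw [← sq2, hb1, hv2u2]
  have h5 : v1 b1 = 0 := hc12 (h4.trans (map_zero c12).symm)
  obtain ⟨a1, ha1⟩ := (hcol1 b1).mp h5
  have h6 : a12 a1 = a2 := hu2 (by rw [sq3, ha1, hb1])
  rw [← h6, ha]

end ThreeByThree

section TensorBridge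
variable {R : Type u} [CommRing R]
  {L G X K F Y : Type*} [AddCommGroup L] [AddCommGroup G] [AddCommGroup X] [AddCommGroup K]
  [AddCommGroup F] [AddCommGroup Y] [Module R L] [Module R G] [Module R X] [Module R K]
  [Module R F] [Module R Y]

/-- Balancing in degree one: for presentations `0 → L → G → X → 0` and `0 → K → F → Y → 0` with
`G`, `F` flat, `L ⊗ Y → G ⊗ Y` is injective iff `X ⊗ K → X ⊗ F` is. -/
theorem rTensor_injective_iff_lTensor_injective [Module.Flat R G] [Module.Flat R F]
    (i : L →ₗ[R] G) (p : G →ₗ[R] X) (hi : Function.Injective i) (hp : Function.Surjective p)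
    (hip : Function.Exact i p)
    (j : K →ₗ[R] F) (q : F →ₗ[R] Y) (hj : Function.Injective j) (hq : Function.Surjective q)
    (hjq : Function.Exact j q) :
    Function.Injective (i.rTensor Y) ↔ Function.Injective (j.lTensor X) := by
  constructor
  · intro h
    -- transposed diagram
    refine injective_of_three_by_three
      (i.rTensor K) (p.rTensor K) (i.rTensor F) (p.rTensor F) (i.rTensor Y)
      (j.lTensor L) (q.lTensor L) (j.lTensor G) (q.lTensor G) (j.lTensor X)
      (LinearMap.rTensor_surjective K hp) (rTensor_exact F hip hp) ?_ (lTensor_exact L hjq hq)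
      (Module.Flat.lTensor_preserves_injective_linearMap j hj) ?_ ?_ ?_ ?_ h
    · intro x
      rw [← LinearMap.comp_apply, ← LinearMap.lTensor_comp, hjq.linearMap_comp_eq_zero,
        LinearMap.lTensor_zero, LinearMap.zero_apply]
    · intro x
      rw [← LinearMap.comp_apply, ← LinearMap.rTensor_comp, hip.linearMap_comp_eq_zero,
        LinearMap.rTensor_zero, LinearMap.zero_apply]
    · intro x
      rw [← LinearMap.comp_apply, ← LinearMap.comp_apply, LinearMap.lTensor_comp_rTensor,
        LinearMap.rTensor_comp_lTensor]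
    · intro x
      rw [← LinearMap.comp_apply, ← LinearMap.comp_apply, LinearMap.lTensor_comp_rTensor,
        LinearMap.rTensor_comp_lTensor]
    · intro x
      rw [← LinearMap.comp_apply, ← LinearMap.comp_apply, LinearMap.lTensor_comp_rTensor,
        LinearMap.rTensor_comp_lTensor]
  · intro h
    refine injective_of_three_by_three
      (j.lTensor L) (q.lTensor L) (j.lTensor G) (q.lTensor G) (j.lTensor X)
      (i.rTensor K) (p.rTensor K) (i.rTensor F) (p.rTensor F) (i.rTensor Y)
      (LinearMap.lTensor_surjective L hq) (lTensor_exact G hjq hq) ?_ (rTensor_exact K hip hp)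
      (Module.Flat.rTensor_preserves_injective_linearMap i hi) ?_ ?_ ?_ ?_ h
    · intro x
      rw [← LinearMap.comp_apply, ← LinearMap.rTensor_comp, hip.linearMap_comp_eq_zero,
        LinearMap.rTensor_zero, LinearMap.zero_apply]
    · intro x
      rw [← LinearMap.comp_apply, ← LinearMap.lTensor_comp, hjq.linearMap_comp_eq_zero,
        LinearMap.lTensor_zero, LinearMap.zero_apply]
    · intro x
      rw [← LinearMap.comp_apply, ← LinearMap.comp_apply, LinearMap.lTensor_comp_rTensor,
        LinearMap.rTensor_comp_lTensor]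
    · intro x
      rw [← LinearMap.comp_apply, ← LinearMap.comp_apply, LinearMap.lTensor_comp_rTensor,
        LinearMap.rTensor_comp_lTensor]
    · intro x
      rw [← LinearMap.comp_apply, ← LinearMap.comp_apply, LinearMap.lTensor_comp_rTensor,
        LinearMap.rTensor_comp_lTensor]

end TensorBridge
end Groth.Agent.Helper1.TorL

namespace Groth.Agent.Helper1.TorL
variable {R : Type u} [CommRing R]

section SecondVar
variable {K F Y : Type u} [AddCommGroup K] [AddCommGroup F] [AddCommGroup Y] [Module R K]
  [Module R F] [Module R Y] [Module.Flat R F]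
  (j : K →ₗ[R] F) (q : F →ₗ[R] Y) (hj : Function.Injective j) (hq : Function.Surjective q)
  (hjq : Function.Exact j q)

include hj hq hjq in
/-- `Tor₁(N, Y) = 0` iff `N ⊗ K → N ⊗ F` is injective, for a flat presentation
`0 → K → F → Y → 0` of the second variable. -/
theorem isZero_tor_one_iff_lTensor_injective (N : Type u) [AddCommGroup N] [Module R N] :
    IsZero (T 1 (ModuleCat.of R N) (ModuleCat.of R Y)) ↔ Function.Injective (j.lTensor N) := by
  rw [isZero_tor_one_iff N (ModuleCat.of R Y)]
  have hS := freePres_shortExact (R := R) N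
  exact rTensor_injective_iff_lTensor_injective (G := (N →₀ R)) (freePres (R := R) N).f.hom
    (freePres (R := R) N).g.hom hS.injective_f hS.surjective_g
    ((ShortComplex.ShortExact.moduleCat_exact_iff_function_exact _).mp hS.exact) j q hj hq hjq

include hj hq hjq in
/-- Dimension shifting in the second variable. -/
theorem isZero_tor_succ_succ_iff_right (n : ℕ) :
    ∀ (N : Type u) [AddCommGroup N] [Module R N],
      IsZero (T (n + 2) (ModuleCat.of R N) (ModuleCat.of R Y)) ↔
        IsZero (T (n + 1) (ModuleCat.of R N) (ModuleCat.of R K)) := by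
  induction n with
  | zero =>
    intro N _ _
    rw [isZero_tor_succ_succ_iff N (ModuleCat.of R Y) 0, isZero_tor_one_iff N (ModuleCat.of R K)]
    have hS := freePres_shortExact (R := R) N
    have h1 := isZero_tor_one_iff_lTensor_injective j q hj hq hjq
      (LinearMap.ker (Finsupp.linearCombination R (id : N → N)))
    have h1' : IsZero (T 1 (freePres (R := R) N).X₁ (ModuleCat.of R Y)) ↔
        Function.Injective (j.lTensor (LinearMap.ker (Finsupp.linearCombination R (id : N → N)))) :=
      h1
    rw [h1']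
    set i : (LinearMap.ker (Finsupp.linearCombination R (id : N → N))) →ₗ[R] (N →₀ R) :=
      (LinearMap.ker (Finsupp.linearCombination R (id : N → N))).subtype with hi
    have hi_inj : Function.Injective i := Submodule.injective_subtype _
    have e : (i.rTensor F) ∘ₗ (j.lTensor _) = (j.lTensor (N →₀ R)) ∘ₗ (i.rTensor K) := by
      rw [LinearMap.rTensor_comp_lTensor, LinearMap.lTensor_comp_rTensor]
    have hA : Function.Injective (i.rTensor F) :=
      Module.Flat.rTensor_preserves_injective_linearMap i hi_inj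
    have hB : Function.Injective (j.lTensor (N →₀ R)) :=
      Module.Flat.lTensor_preserves_injective_linearMap j hj
    show Function.Injective (j.lTensor _) ↔ Function.Injective (i.rTensor K)
    constructor
    · intro h
      have h2 : Function.Injective ((j.lTensor (N →₀ R)) ∘ₗ (i.rTensor K)) := by
        rw [← e]; exact hA.comp h
      exact Function.Injective.of_comp h2
    · intro h
      have h2 : Function.Injective ((i.rTensor F) ∘ₗ (j.lTensor _)) := by
        rw [e]; exact hB.comp h
      exact Function.Injective.of_comp h2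
  | succ n ih =>
    intro N _ _
    rw [isZero_tor_succ_succ_iff N (ModuleCat.of R Y) (n + 1),
      isZero_tor_succ_succ_iff N (ModuleCat.of R K) n]
    exact ih _

end SecondVar

end Groth.Agent.Helper1.TorL

namespace Groth.Agent.Helper1.TorL
variable {R : Type u} [CommRing R]

section IdealQuot

theorem isZero_tor_one_quotient_iff (I : Ideal R) (N : Type u) [AddCommGroup N] [Module R N] :
    IsZero (T 1 (ModuleCat.of R N) (ModuleCat.of R (R ⧸ I))) ↔
      Function.Injective (I.subtype.lTensor N) :=
  isZero_tor_one_iff_lTensor_injective (F := R) I.subtype I.mkQ I.injective_subtype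
    I.mkQ_surjective (LinearMap.exact_subtype_mkQ I) N

/-- **S6313** -/
theorem flat_iff_tor_one_quotient (M : Type u) [AddCommGroup M] [Module R M] :
    Module.Flat R M ↔ ∀ I : Ideal R, I.FG →
      IsZero (T 1 (ModuleCat.of R M) (ModuleCat.of R (R ⧸ I))) := by
  constructor
  · intro h I _
    exact isZero_tor_succ_of_flat _ _ 0
  · intro h
    rw [Module.Flat.iff_lTensor_injective]
    intro I hI
    exact (isZero_tor_one_quotient_iff I M).mp (h I hI)

end IdealQuot

section RegularElt

/-- **S14434** -/
theorem isZero_tor_quotient_span_singleton (M : Type u) [AddCommGroup M] [Module R M] (x : R)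
    (hxR : IsSMulRegular R x) (hxM : IsSMulRegular M x) (n : ℕ) :
    IsZero (T (n + 1) (ModuleCat.of R M) (ModuleCat.of R (R ⧸ Ideal.span {x}))) := by
  have hj : Function.Injective (LinearMap.lsmul R R x) := hxR
  have hq : Function.Surjective (Ideal.span {x}).mkQ := Submodule.mkQ_surjective _
  have hjq : Function.Exact (LinearMap.lsmul R R x) (Ideal.span {x}).mkQ := by
    rw [LinearMap.exact_iff, Submodule.ker_mkQ]
    ext y
    rw [Ideal.mem_span_singleton', LinearMap.mem_range]
    constructor
    · rintro ⟨a, rfl⟩; exact ⟨a, by simp [mul_comm]⟩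
    · rintro ⟨a, rfl⟩; exact ⟨a, by simp [mul_comm]⟩
  cases n with
  | zero =>
    rw [isZero_tor_one_iff_lTensor_injective (F := R) _ _ hj hq hjq M]
    have : (LinearMap.lsmul R R x).lTensor M =
        (TensorProduct.rid R M).symm.toLinearMap ∘ₗ (LinearMap.lsmul R M x) ∘ₗ
          (TensorProduct.rid R M).toLinearMap := by
      ext m
      simp only [TensorProduct.AlgebraTensorModule.curry_apply, LinearMap.restrictScalars_self,
        TensorProduct.curry_apply, LinearMap.lTensor_tmul, LinearMap.lsmul_apply, smul_eq_mul,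
        mul_one, LinearMap.coe_comp, LinearEquiv.coe_coe, Function.comp_apply,
        TensorProduct.rid_tmul, one_smul, TensorProduct.rid_symm_apply]
      rw [TensorProduct.smul_tmul, smul_eq_mul, mul_one]
    rw [this]
    exact (TensorProduct.rid R M).symm.injective.comp (hxM.comp (TensorProduct.rid R M).injective)
  | succ n =>
    rw [isZero_tor_succ_succ_iff_right (F := R) _ _ hj hq hjq n M]
    have : Projective (ModuleCat.of R R) := inferInstance
    exact isZero_Tor_succ_of_projective _ _ _ n

end RegularElt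
end Groth.Agent.Helper1.TorL

namespace Groth.Agent.Helper1.TorL
variable {R : Type u} [CommRing R]

open scoped TensorProduct

section QuotientCrit
variable (I : Ideal R) (M : Type u) [AddCommGroup M] [Module R M]

theorem isZero_tor_one_of_module_quotient_aux [Module.Flat (R ⧸ I) ((R ⧸ I) ⊗[R] M)]
    (h : IsZero (T 1 (ModuleCat.of R (R ⧸ I)) (ModuleCat.of R M)))
    (K F : Type u) [AddCommGroup K] [Module R K] [AddCommGroup F] [Module R F] [Module.Flat R F]
    (j : K →ₗ[R] F) (π : F →ₗ[R] M) (hj : Function.Injective j) (hπ : Function.Surjective π)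
    (hjq : Function.Exact j π)
    (N : Type u) [AddCommGroup N] [Module R N] [Module (R ⧸ I) N] [IsScalarTower R (R ⧸ I) N] :
    IsZero (T 1 (ModuleCat.of R N) (ModuleCat.of R M)) := by
  -- the hypothesis
  have h0 := isZero_tor_one_iff_lTensor_injective (K := K) (F := F) j π hj hπ
    hjq (R ⧸ I)
  have h1 : Function.Injective (j.lTensor (R ⧸ I)) := h0.mp h
  have h0' := isZero_tor_one_iff_lTensor_injective (K := K) (F := F) j π hj hπ
    hjq N
  refine h0'.mpr ?_
  -- base change to `A = R/I`
  let jA : (R ⧸ I) ⊗[R] K →ₗ[R ⧸ I] (R ⧸ I) ⊗[R] F := j.baseChange (R ⧸ I)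
  let qA : (R ⧸ I) ⊗[R] F →ₗ[R ⧸ I] (R ⧸ I) ⊗[R] M := π.baseChange (R ⧸ I)
  have hjA : Function.Injective jA := h1
  have hqA : Function.Surjective qA := LinearMap.lTensor_surjective (R ⧸ I) hπ
  have hexA : Function.Exact jA qA := by
    have : Function.Exact (j.lTensor (R ⧸ I)) (π.lTensor (R ⧸ I)) := lTensor_exact _ hjq hπ
    exact this
  have h2 : IsZero (T 1 (ModuleCat.of (R ⧸ I) N) (ModuleCat.of (R ⧸ I) ((R ⧸ I) ⊗[R] M))) :=
    isZero_tor_succ_of_flat_right (R := (R ⧸ I)) (ModuleCat.of (R ⧸ I) ((R ⧸ I) ⊗[R] M)) 0 N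
  have h0A := isZero_tor_one_iff_lTensor_injective (R := (R ⧸ I)) (K := (R ⧸ I) ⊗[R] K)
    (F := (R ⧸ I) ⊗[R] F) jA qA hjA hqA hexA N
  have h3 : Function.Injective (jA.lTensor N) := h0A.mp h2
  -- transfer along `cancelBaseChange`
  let eK := TensorProduct.AlgebraTensorModule.cancelBaseChange R (R ⧸ I) (R ⧸ I) N K
  let eF := TensorProduct.AlgebraTensorModule.cancelBaseChange R (R ⧸ I) (R ⧸ I) N F
  have hsq : ∀ z, eF (jA.lTensor N z) = j.lTensor N (eK z) := by
    intro z
    induction z using TensorProduct.induction_on with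
    | zero => simp
    | tmul n y =>
      induction y using TensorProduct.induction_on with
      | zero => simp
      | tmul a k =>
        simp [eF, eK, jA]
      | add y y' hy hy' =>
        rw [TensorProduct.tmul_add, map_add, map_add, hy, hy', map_add, map_add]
    | add z z' hz hz' => rw [map_add, map_add, hz, hz', map_add, map_add]
  intro x y hxy
  have hx : eF (jA.lTensor N (eK.symm x)) = eF (jA.lTensor N (eK.symm y)) := by
    rw [hsq, hsq, LinearEquiv.apply_symm_apply, LinearEquiv.apply_symm_apply, hxy]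
  have := h3 (eF.injective hx)
  exact eK.symm.injective this

/-- If `M/IM` is flat over `R/I` and `Tor₁(R/I, M) = 0`, then `Tor₁(N, M) = 0` for every
`R/I`-module `N`. -/
theorem isZero_tor_one_of_module_quotient [Module.Flat (R ⧸ I) ((R ⧸ I) ⊗[R] M)]
    (h : IsZero (T 1 (ModuleCat.of R (R ⧸ I)) (ModuleCat.of R M)))
    (N : Type u) [AddCommGroup N] [Module R N] [Module (R ⧸ I) N] [IsScalarTower R (R ⧸ I) N] :
    IsZero (T 1 (ModuleCat.of R N) (ModuleCat.of R M)) := by
  exact isZero_tor_one_of_module_quotient_aux I M h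
    (LinearMap.ker (Finsupp.linearCombination R (id : M → M))) (M →₀ R)
    (LinearMap.ker (Finsupp.linearCombination R (id : M → M))).subtype
    (Finsupp.linearCombination R (id : M → M)) (Submodule.injective_subtype _)
    (Finsupp.linearCombination_id_surjective R M) (LinearMap.exact_subtype_ker_map _) N

/-- **S12205**: `Tor₁(N, M) = 0` for `N` killed by a power of `I`. -/
theorem isZero_tor_one_of_pow_smul_eq_zero [Module.Flat (R ⧸ I) ((R ⧸ I) ⊗[R] M)]
    (h : IsZero (T 1 (ModuleCat.of R (R ⧸ I)) (ModuleCat.of R M)))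
    (m : ℕ) : ∀ (N : Type u) [AddCommGroup N] [Module R N]
      (_ : ∀ a : R, a ∈ I ^ m → ∀ x : N, a • x = 0),
    IsZero (T 1 (ModuleCat.of R N) (ModuleCat.of R M)) := by
  induction m with
  | zero =>
    intro N _ _ hN
    have : Subsingleton N := ⟨fun x y => by
      have hx := hN 1 (by simp) x
      have hy := hN 1 (by simp) y
      rw [one_smul] at hx hy
      rw [hx, hy]⟩
    exact isZero_tor_succ_of_flat (ModuleCat.of R N) (ModuleCat.of R M) 0
  | succ m ih =>
    intro N _ _ hN
    let N' : Submodule R N := I • (⊤ : Submodule R N)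
    have h1 : IsZero (T 1 (ModuleCat.of R N') (ModuleCat.of R M)) := by
      apply ih
      intro a ha x
      have hx : (x : N) ∈ I • (⊤ : Submodule R N) := x.2
      have : a • (x : N) = 0 := by
        refine Submodule.smul_induction_on hx ?_ ?_
        · intro b hb y _
          rw [smul_smul]
          exact hN _ (by rw [pow_succ]; exact Ideal.mul_mem_mul ha hb) y
        · intro y z hy hz
          rw [smul_add, hy, hz, add_zero]
      exact Subtype.ext this
    have h3 : IsZero (T 1 (ModuleCat.of R (N ⧸ N')) (ModuleCat.of R M)) :=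
      isZero_tor_one_of_module_quotient I M h (N ⧸ (I • (⊤ : Submodule R N)))
    exact isZero_tor_X₂ _ (shortExact_subtype_mkQ N') (ModuleCat.of R M) 1 h1 h3

end QuotientCrit
end Groth.Agent.Helper1.TorL

namespace Groth.Agent.Helper1.TorL
variable {R : Type u} [CommRing R]

section ProjDim

/-- **S14414**: `Tor_i(M, N) = 0` for `i > pd N`. -/
theorem isZero_tor_of_hasProjectiveDimensionLT (q : ℕ) :
    ∀ (N : ModuleCat.{u} R) [HasProjectiveDimensionLT N (q + 1)] (M : ModuleCat.{u} R) (i : ℕ),
      q < i → IsZero (T i M N) := by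
  induction q with
  | zero =>
    intro N hN M i hi
    obtain ⟨n, rfl⟩ : ∃ n, i = n + 1 := ⟨i - 1, by omega⟩
    have : Projective N := projective_iff_hasProjectiveDimensionLT_one.mpr hN
    exact isZero_Tor_succ_of_projective _ _ _ n
  | succ q ih =>
    intro N hN M i hi
    obtain ⟨n, rfl⟩ : ∃ n, i = n + 2 := ⟨i - 2, by omega⟩
    have hS := freePres_shortExact (R := R) N
    have hK : HasProjectiveDimensionLT (freePres (R := R) N).X₁ (q + 1) := by
      have hp : Projective (freePres (R := R) N).X₂ := by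
        show Projective (ModuleCat.of R (N →₀ R))
        infer_instance
      exact (hS.hasProjectiveDimensionLT_X₃_iff q hp).mp hN
    have h1 := isZero_tor_succ_succ_iff_right (R := R) (F := (N →₀ R))
      (freePres (R := R) N).f.hom (freePres (R := R) N).g.hom hS.injective_f hS.surjective_g
      ((ShortComplex.ShortExact.moduleCat_exact_iff_function_exact _).mp hS.exact) n M
    refine h1.mpr ?_
    exact ih (freePres (R := R) N).X₁ M (n + 1) (by omega)

end ProjDim
end Groth.Agent.Helper1.TorL

namespace Groth.Agent.Helper1.TorL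
variable {R : Type u} [CommRing R]

open scoped TensorProduct

section Finite

/-- **S6315**: over a Noetherian ring, `Tor_p(M, N)` is finite for finite `M`, `N`. -/
theorem finite_tor [IsNoetherianRing R] (N : Type u) [AddCommGroup N] [Module R N]
    [Module.Finite R N] (p : ℕ) :
    ∀ (M : Type u) [AddCommGroup M] [Module R M] [Module.Finite R M],
      Module.Finite R (T p (ModuleCat.of R M) (ModuleCat.of R N)) := by
  induction p with
  | zero =>
    intro M _ _ _
    have : Module.Finite R (ModuleCat.of R M ⊗ ModuleCat.of R N : ModuleCat.{u} R) := by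
      show Module.Finite R (M ⊗[R] N)
      infer_instance
    exact Module.Finite.equiv (tor0Iso (ModuleCat.of R M) (ModuleCat.of R N)).symm.toLinearEquiv
  | succ p ih =>
    intro M _ _ _
    obtain ⟨n, f, hf⟩ := Module.Finite.exists_fin' R M
    have hS := LinearMap.shortExact_shortComplexKer hf
    have hK : Module.Finite R (LinearMap.ker f) := by
      have : IsNoetherian R (Fin n → R) := isNoetherian_of_isNoetherianRing_of_finite R _
      infer_instance
    have hfin : Module.Finite R (T p (ModuleCat.of R (LinearMap.ker f)) (ModuleCat.of R N)) :=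
      ih (LinearMap.ker f)
    have hflat : Module.Flat R f.shortComplexKer.X₂ := by
      show Module.Flat R (Fin n → R)
      infer_instance
    have h₂ : IsZero (T (p + 1) f.shortComplexKer.X₂ (ModuleCat.of R N)) :=
      isZero_tor_succ_of_flat _ _ p
    have hm : Mono (torδ f.shortComplexKer hS (ModuleCat.of R N) p) :=
      (tor_exact₃ f.shortComplexKer hS (ModuleCat.of R N) p).mono_g (h₂.eq_of_src _ _)
    have hnoeth : IsNoetherian R (T p (ModuleCat.of R (LinearMap.ker f)) (ModuleCat.of R N)) :=
      isNoetherian_of_isNoetherianRing_of_finite R _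
    exact Module.Finite.of_injective (torδ f.shortComplexKer hS (ModuleCat.of R N) p).hom
      ((ModuleCat.mono_iff_injective _).mp hm)

end Finite
end Groth.Agent.Helper1.TorL

namespace Groth.Agent.Helper1.TorL
variable {R : Type u} [CommRing R]
open scoped TensorProduct
open scoped TensorProduct

section PrimeCrit

/-- extension-closure in the second variable of `Tor₁ = 0` (in tensor form) -/
theorem rTensor_injective_of_exact {L F N₁ N₂ N₃ : Type*} [AddCommGroup L] [Module R L]
    [AddCommGroup F] [Module R F] [Module.Flat R F] [AddCommGroup N₁] [Module R N₁]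
    [AddCommGroup N₂] [Module R N₂] [AddCommGroup N₃] [Module R N₃]
    (i : L →ₗ[R] F) (f : N₁ →ₗ[R] N₂) (g : N₂ →ₗ[R] N₃) (hf : Function.Injective f)
    (hg : Function.Surjective g) (hfg : Function.Exact f g)
    (h1 : Function.Injective (i.rTensor N₁)) (h3 : Function.Injective (i.rTensor N₃)) :
    Function.Injective (i.rTensor N₂) := by
  rw [← LinearMap.ker_eq_bot, LinearMap.ker_eq_bot']
  intro x hx
  have hx3 : (i.rTensor N₃) ((g.lTensor L) x) = 0 := by
    rw [← LinearMap.comp_apply, LinearMap.rTensor_comp_lTensor, ← LinearMap.lTensor_comp_rTensor,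
      LinearMap.comp_apply, hx, map_zero]
  have hx3' : (g.lTensor L) x = 0 := h3 (hx3.trans (map_zero _).symm)
  obtain ⟨y, rfl⟩ := (lTensor_exact L hfg hg x).mp hx3'
  have hy : (f.lTensor F) ((i.rTensor N₁) y) = 0 := by
    rw [← LinearMap.comp_apply, LinearMap.lTensor_comp_rTensor, ← LinearMap.rTensor_comp_lTensor,
      LinearMap.comp_apply, hx]
  have hfF : Function.Injective (f.lTensor F) :=
    Module.Flat.lTensor_preserves_injective_linearMap f hf
  have hy' : (i.rTensor N₁) y = 0 := hfF (hy.trans (map_zero _).symm)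
  have : y = 0 := h1 (hy'.trans (map_zero _).symm)
  rw [this, map_zero]

/-- **S11450**: over a Noetherian ring, `M` is flat iff `Tor₁(M, A/p) = 0` for all primes. -/
theorem flat_iff_tor_one_quotient_prime [IsNoetherianRing R] (M : Type u) [AddCommGroup M]
    [Module R M] :
    Module.Flat R M ↔ ∀ p : Ideal R, p.IsPrime →
      IsZero (T 1 (ModuleCat.of R M) (ModuleCat.of R (R ⧸ p))) := by
  constructor
  · intro h p _
    exact isZero_tor_succ_of_flat _ _ 0
  · intro h
    rw [flat_iff_tor_one_quotient]
    intro I _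
    have hflat : Module.Flat R (M →₀ R) := inferInstance
    have key : ∀ (N : Type u) [AddCommGroup N] [Module R N] [Module.Finite R N],
        Function.Injective ((freePres (R := R) M).f.hom.rTensor N) := by
      intro N _ _ hN
      induction hN using IsNoetherianRing.induction_on_isQuotientEquivQuotientPrime R with
      | subsingleton N =>
        intro x y _
        exact Subsingleton.elim _ _
      | quotient N p e =>
        have hp := (isZero_tor_one_iff M (ModuleCat.of R (R ⧸ p.1))).mp (h p.1 p.2)
        have hp' : Function.Injective ((freePres (R := R) M).f.hom.rTensor (R ⧸ p.1)) := hp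
        have hsq : ∀ z, (e.lTensor _) (((freePres (R := R) M).f.hom.rTensor N) z) =
            ((freePres (R := R) M).f.hom.rTensor (R ⧸ p.1)) ((e.lTensor _) z) := by
          intro z
          induction z using TensorProduct.induction_on with
          | zero => simp
          | tmul a b => simp
          | add a b ha hb => rw [map_add, map_add, ha, hb, map_add, map_add]
        intro x y hxy
        have := congrArg (e.lTensor _) hxy
        rw [hsq, hsq] at this
        exact (e.lTensor _).injective (hp' this)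
      | exact N₁ N₂ N₃ f g hf hg hfg h₁ h₃ =>
        exact rTensor_injective_of_exact (F := (M →₀ R)) _ f g hf hg hfg h₁ h₃
    exact (isZero_tor_one_iff M (ModuleCat.of R (R ⧸ I))).mpr (key (R ⧸ I))

end PrimeCrit
end Groth.Agent.Helper1.TorL

namespace Groth.Agent.Helper1.TorL
variable {R : Type u} [CommRing R]
open scoped TensorProduct
open scoped TensorProduct

section LocalPD

/-- **S5809** (sufficiency): over a Noetherian local ring, `Tor_{n+1}(k, M) = 0` implies
`pd M ≤ n` for finite `M`. -/
theorem hasProjectiveDimensionLT_of_isZero_tor_residueField [IsLocalRing R] [IsNoetherianRing R]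
    (n : ℕ) : ∀ (M : Type u) [AddCommGroup M] [Module R M] [Module.Finite R M],
      IsZero (T (n + 1) (ModuleCat.of R (IsLocalRing.ResidueField R)) (ModuleCat.of R M)) →
        HasProjectiveDimensionLT (ModuleCat.of R M) (n + 1) := by
  induction n with
  | zero =>
    intro M _ _ _ h
    obtain ⟨r, f, hf⟩ := Module.Finite.exists_fin' R M
    have hK : Module.Finite R (LinearMap.ker f) := by
      have : IsNoetherian R (Fin r → R) := isNoetherian_of_isNoetherianRing_of_finite R _
      infer_instance
    have h0 := isZero_tor_one_iff_lTensor_injective (K := LinearMap.ker f) (F := (Fin r → R))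
      (LinearMap.ker f).subtype f (Submodule.injective_subtype _) hf
      (LinearMap.exact_subtype_ker_map f) (IsLocalRing.ResidueField R)
    have h1 := h0.mp h
    have hfree : Module.Free R M :=
      Module.free_of_lTensor_residueField_injective (LinearMap.ker f).subtype f hf
        (LinearMap.exact_subtype_ker_map f) h1
    have : Projective (ModuleCat.of R M) := by
      have : Module.Projective R M := inferInstance
      exact (IsProjective.iff_projective (R := R) M).mp this
    infer_instance
  | succ n ih =>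
    intro M _ _ _ h
    obtain ⟨r, f, hf⟩ := Module.Finite.exists_fin' R M
    have hK : Module.Finite R (LinearMap.ker f) := by
      have : IsNoetherian R (Fin r → R) := isNoetherian_of_isNoetherianRing_of_finite R _
      infer_instance
    have hS := LinearMap.shortExact_shortComplexKer hf
    have h0 := isZero_tor_succ_succ_iff_right (K := LinearMap.ker f) (F := (Fin r → R))
      (LinearMap.ker f).subtype f (Submodule.injective_subtype _) hf
      (LinearMap.exact_subtype_ker_map f) n (IsLocalRing.ResidueField R)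
    have h1 := h0.mp h
    have h2 := ih (LinearMap.ker f) h1
    have hp : Projective f.shortComplexKer.X₂ := by
      show Projective (ModuleCat.of R (Fin r → R))
      have : Module.Projective R (Fin r → R) := inferInstance
      exact (IsProjective.iff_projective (R := R) _).mp this
    exact (hS.hasProjectiveDimensionLT_X₃_iff n hp).mpr h2

end LocalPD
end Groth.Agent.Helper1.TorL

namespace Groth.Agent.Helper1.TorL
variable {R : Type u} [CommRing R]
open scoped TensorProduct
open scoped TensorProduct

section TorLinear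

theorem tensCxMap_smul {X X' : ModuleCat.{u} R} (r : R) (f : X ⟶ X')
    (Q : ChainComplex (ModuleCat.{u} R) ℕ) : tensCxMap (r • f) Q = r • tensCxMap f Q := by
  ext i : 1
  show (r • f) ▷ Q.X i = r • (f ▷ Q.X i)
  exact MonoidalLinear.smul_whiskerRight r f (Q.X i)

theorem homologyMap_smul' {K L : ChainComplex (ModuleCat.{u} R) ℕ} (r : R) (φ : K ⟶ L) (n : ℕ) :
    HomologicalComplex.homologyMap (r • φ) n = r • HomologicalComplex.homologyMap φ n := by
  unfold HomologicalComplex.homologyMap
  have : (HomologicalComplex.shortComplexFunctor (ModuleCat.{u} R) (ComplexShape.down ℕ) n).map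
      (r • φ) = r • (HomologicalComplex.shortComplexFunctor (ModuleCat.{u} R)
        (ComplexShape.down ℕ) n).map φ := by
    ext <;> rfl
  rw [this, ShortComplex.homologyMap_smul]
  rfl

/-- The Tor functor is linear in the first variable. -/
theorem tor_map_smul {X X' : ModuleCat.{u} R} (r : R) (f : X ⟶ X') (Y : ModuleCat.{u} R) (n : ℕ) :
    ((Tor (ModuleCat.{u} R) n).map (r • f)).app Y = r • ((Tor (ModuleCat.{u} R) n).map f).app Y := by
  rw [tor_map_eq (r • f) (projectiveResolution Y) n, tor_map_eq f (projectiveResolution Y) n,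
    tensCxMap_smul, homologyMap_smul', Linear.smul_comp, Linear.comp_smul]

theorem tor_map_smul_id (X Y : ModuleCat.{u} R) (r : R) (n : ℕ) :
    ((Tor (ModuleCat.{u} R) n).map (r • 𝟙 X)).app Y = r • 𝟙 (T n X Y) := by
  rw [tor_map_smul, CategoryTheory.Functor.map_id, NatTrans.id_app]

end TorLinear

section RegTor
variable (I' I : Ideal R) (r : R) (hI : I = I' ⊔ Ideal.span {r})

theorem le_of_eq_sup {I' I : Ideal R} {r : R} (hI : I = I' ⊔ Ideal.span {r}) : I' ≤ I :=
  hI ▸ le_sup_left

/-- The short complex `R/I' --r--> R/I' → R/(I' + (r))`. -/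
noncomputable abbrev quotSC : ShortComplex (ModuleCat.{u} R) :=
  ModuleCat.shortComplexOfCompEqZero (r • (LinearMap.id : (R ⧸ I') →ₗ[R] (R ⧸ I')))
    (Submodule.factor (le_of_eq_sup hI)) (by
      apply LinearMap.ext
      intro y
      obtain ⟨a, rfl⟩ := Submodule.mkQ_surjective _ y
      simp only [LinearMap.comp_apply, LinearMap.smul_apply, LinearMap.id_apply, map_smul,
        LinearMap.zero_apply]
      rw [Submodule.factor_mk, ← map_smul, Submodule.mkQ_apply, Submodule.Quotient.mk_eq_zero]
      rw [hI, smul_eq_mul]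
      exact Ideal.mem_sup_right (Ideal.mul_mem_right _ _ (Ideal.mem_span_singleton_self r)))

theorem quotSC_shortExact (hr : IsSMulRegular (R ⧸ I') r) : (quotSC I' I r hI).ShortExact := by
  refine ModuleCat.shortComplex_shortExact _ ?_ ?_ (Submodule.factor_surjective (le_of_eq_sup hI))
  · intro y
    obtain ⟨a, rfl⟩ := Submodule.mkQ_surjective _ y
    show Submodule.factor (le_of_eq_sup hI) (I'.mkQ a) = 0 ↔ _
    have hmem : a ∈ I ↔ ∃ a' ∈ I', ∃ c ∈ Ideal.span {r}, a' + c = a := by
      rw [hI]; exact Submodule.mem_sup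
    rw [Submodule.factor_mk, Submodule.mkQ_apply, Submodule.Quotient.mk_eq_zero, hmem]
    constructor
    · rintro ⟨a', ha', c, hc, rfl⟩
      obtain ⟨d, rfl⟩ := Ideal.mem_span_singleton'.mp hc
      refine ⟨I'.mkQ d, ?_⟩
      show r • I'.mkQ d = I'.mkQ (a' + d * r)
      rw [← map_smul, smul_eq_mul, Submodule.mkQ_apply, Submodule.mkQ_apply,
        ← sub_eq_zero, ← Submodule.Quotient.mk_sub, Submodule.Quotient.mk_eq_zero]
      have : r * d - (a' + d * r) = -a' := by ring
      rw [this]
      exact neg_mem ha'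
    · rintro ⟨z, hz⟩
      obtain ⟨d, rfl⟩ := Submodule.mkQ_surjective _ z
      have hz' : r • I'.mkQ d = I'.mkQ a := hz
      rw [← map_smul, smul_eq_mul, Submodule.mkQ_apply, Submodule.mkQ_apply,
        ← sub_eq_zero, ← Submodule.Quotient.mk_sub, Submodule.Quotient.mk_eq_zero] at hz'
      refine ⟨a - r * d, ?_, r * d, ?_, by ring⟩
      · have := neg_mem hz'
        rwa [neg_sub] at this
      · exact Ideal.mul_mem_right _ _ (Ideal.mem_span_singleton_self r)
  · exact hr

theorem quotSC_f_eq : (quotSC I' I r hI).f = r • 𝟙 (ModuleCat.of R (R ⧸ I')) := by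
  apply ModuleCat.hom_ext
  apply LinearMap.ext
  intro y
  rfl

variable (N : Type u) [AddCommGroup N] [Module R N]

include hI in
/-- (c1) -/
theorem isZero_tor_one_quotSC_iff (hr : IsSMulRegular (R ⧸ I') r)
    (h₂ : IsZero (T 1 (ModuleCat.of R (R ⧸ I')) (ModuleCat.of R N))) :
    IsZero (T 1 (ModuleCat.of R (R ⧸ I)) (ModuleCat.of R N)) ↔
      IsSMulRegular (N ⧸ (I' • ⊤ : Submodule R N)) r := by
  have h0 := isZero_tor_one_X₃_iff (quotSC I' I r hI) (quotSC_shortExact I' I r hI hr)
    (ModuleCat.of R N) h₂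
  refine h0.trans ?_
  have h1 : (quotSC I' I r hI).f.hom.rTensor (ModuleCat.of R N) =
      r • (LinearMap.id : (R ⧸ I') ⊗[R] N →ₗ[R] (R ⧸ I') ⊗[R] N) := by
    show (r • (LinearMap.id : (R ⧸ I') →ₗ[R] (R ⧸ I'))).rTensor N = _
    rw [LinearMap.rTensor_smul, LinearMap.rTensor_id]
  rw [h1]
  have h2 : Function.Injective (r • (LinearMap.id : (R ⧸ I') ⊗[R] N →ₗ[R] (R ⧸ I') ⊗[R] N)) ↔
      IsSMulRegular ((R ⧸ I') ⊗[R] N) r := Iff.rfl
  rw [h2]
  exact (TensorProduct.quotTensorEquivQuotSMul N I').isSMulRegular_congr r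

include hI in
/-- (c2): Nakayama step -/
theorem isZero_tor_of_isZero_tor_quotSC [IsLocalRing R] [IsNoetherianRing R] [Module.Finite R N]
    (hr : IsSMulRegular (R ⧸ I') r) (hrm : r ∈ IsLocalRing.maximalIdeal R) (i : ℕ)
    (h : IsZero (T i (ModuleCat.of R (R ⧸ I)) (ModuleCat.of R N))) :
    IsZero (T i (ModuleCat.of R (R ⧸ I')) (ModuleCat.of R N)) := by
  have hS := quotSC_shortExact I' I r hI hr
  have hex := tor_exact₂ (quotSC I' I r hI) hS (ModuleCat.of R N) i
  have hepi : Epi (((Tor (ModuleCat.{u} R) i).map (quotSC I' I r hI).f).app (ModuleCat.of R N)) :=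
    hex.epi_f (h.eq_of_tgt _ _)
  rw [quotSC_f_eq, tor_map_smul_id] at hepi
  have hsurj := (ModuleCat.epi_iff_surjective _).mp hepi
  have hfin : Module.Finite R (T i (ModuleCat.of R (R ⧸ I')) (ModuleCat.of R N)) :=
    finite_tor N i (R ⧸ I')
  have htop : (⊤ : Submodule R (T i (ModuleCat.of R (R ⧸ I')) (ModuleCat.of R N))) = ⊥ := by
    apply Submodule.eq_bot_of_le_smul_of_le_jacobson_bot (Ideal.span {r}) ⊤ Module.Finite.fg_top
    · intro t _
      obtain ⟨t', rfl⟩ := hsurj t
      exact Submodule.smul_mem_smul (Ideal.mem_span_singleton_self r) trivial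
    · rw [IsLocalRing.jacobson_eq_maximalIdeal ⊥ bot_ne_top, Ideal.span_le]
      intro y hy
      rw [Set.mem_singleton_iff.mp hy]
      exact hrm
  have hsub : Subsingleton (T i (ModuleCat.of R (R ⧸ I')) (ModuleCat.of R N)) := by
    rw [← Submodule.subsingleton_iff R]
    exact subsingleton_of_bot_eq_top htop.symm
  exact ModuleCat.isZero_of_subsingleton _

end RegTor

section RegTorMain

open RingTheory.Sequence in
theorem isWeaklyRegular_iff_isZero_tor [IsLocalRing R] [IsNoetherianRing R] (N : Type u)
    [AddCommGroup N] [Module R N] [Module.Finite R N] (rs : List R) :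
    IsWeaklyRegular R rs → (∀ a ∈ rs, a ∈ IsLocalRing.maximalIdeal R) →
    (IsWeaklyRegular N rs ↔ ∀ i : ℕ, 1 ≤ i →
      IsZero (T i (ModuleCat.of R (R ⧸ Ideal.ofList rs)) (ModuleCat.of R N))) := by
  induction rs using List.reverseRecOn with
  | nil =>
    intro _ _
    have hflat : Module.Flat R (R ⧸ Ideal.ofList ([] : List R)) :=
      Module.Flat.of_linearEquiv (Submodule.quotEquivOfEqBot _ Ideal.ofList_nil)
    constructor
    · intro _ i hi
      obtain ⟨n, rfl⟩ : ∃ n, i = n + 1 := ⟨i - 1, by omega⟩
      exact isZero_tor_succ_of_flat _ _ n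
    · intro _
      exact IsWeaklyRegular.nil R N
  | append_singleton rs r ih =>
    intro hreg hm
    rw [isWeaklyRegular_append_iff, isWeaklyRegular_singleton_iff] at hreg
    obtain ⟨hreg1, hreg2⟩ := hreg
    have hr : IsSMulRegular (R ⧸ Ideal.ofList rs) r := by
      have e : (R ⧸ (Ideal.ofList rs • ⊤ : Submodule R R)) ≃ₗ[R] (R ⧸ Ideal.ofList rs) :=
        Submodule.quotEquivOfEq _ _ (by simp)
      exact (e.isSMulRegular_congr r).mp hreg2
    have hI : Ideal.ofList (rs ++ [r]) = Ideal.ofList rs ⊔ Ideal.span {r} := by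
      rw [Ideal.ofList_append, Ideal.ofList_singleton]
    have hrm : r ∈ IsLocalRing.maximalIdeal R := hm r (by simp)
    have ih' := ih hreg1 (fun a ha => hm a (by simp [ha]))
    rw [isWeaklyRegular_append_iff, isWeaklyRegular_singleton_iff]
    constructor
    · rintro ⟨h1, h2⟩
      have hT := ih'.mp h1
      intro i hi
      obtain ⟨n, rfl⟩ : ∃ n, i = n + 1 := ⟨i - 1, by omega⟩
      cases n with
      | zero => exact (isZero_tor_one_quotSC_iff _ _ r hI N hr (hT 1 le_rfl)).mpr h2
      | succ n =>
        exact isZero_tor_succ_X₃ (quotSC _ _ r hI) (quotSC_shortExact _ _ r hI hr) _ (n + 1)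
          (hT (n + 2) (by omega)) (hT (n + 1) (by omega))
    · intro hT
      have hT' : ∀ i, 1 ≤ i →
          IsZero (T i (ModuleCat.of R (R ⧸ Ideal.ofList rs)) (ModuleCat.of R N)) :=
        fun i hi => isZero_tor_of_isZero_tor_quotSC _ _ r hI N hr hrm i (hT i hi)
      exact ⟨ih'.mpr hT',
        (isZero_tor_one_quotSC_iff _ _ r hI N hr (hT' 1 le_rfl)).mp (hT 1 le_rfl)⟩

open RingTheory.Sequence in
/-- **S16238** -/
theorem isWeaklyRegular_quotient_iff_isZero_tor [IsLocalRing R] [IsNoetherianRing R]
    (n : ℕ) (x : Fin n → R) (hx : IsWeaklyRegular R (List.ofFn x))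
    (J : Ideal R) (hIJ : Ideal.span (Set.range x) ⊔ J ≠ ⊤) :
    IsWeaklyRegular (R ⧸ J) (List.ofFn (fun i : Fin n => Ideal.Quotient.mk J (x i))) ↔
      ∀ i : ℕ, 1 ≤ i → IsZero (T i (ModuleCat.of R (R ⧸ Ideal.span (Set.range x)))
        (ModuleCat.of R (R ⧸ J))) := by
  have e : Ideal.ofList (List.ofFn x) = Ideal.span (Set.range x) := by
    show Ideal.span {r | r ∈ List.ofFn x} = Ideal.span (Set.range x)
    congr 1
    ext a
    rw [Set.mem_ofPred_eq, List.mem_ofFn, Set.mem_range]
  have hm : ∀ a ∈ List.ofFn x, a ∈ IsLocalRing.maximalIdeal R := by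
    intro a ha
    rw [List.mem_ofFn] at ha
    obtain ⟨i, rfl⟩ := ha
    exact IsLocalRing.le_maximalIdeal hIJ
      (Ideal.mem_sup_left (Ideal.subset_span (Set.mem_range_self i)))
  have key := isWeaklyRegular_iff_isZero_tor (R ⧸ J) (List.ofFn x) hx hm
  rw [e] at key
  have hmap : List.ofFn (fun i : Fin n => Ideal.Quotient.mk J (x i)) =
      (List.ofFn x).map (algebraMap R (R ⧸ J)) := by
    rw [List.map_ofFn]; rfl
  rw [hmap, isWeaklyRegular_map_algebraMap_iff]
  exact key

end RegTorMain
end Groth.Agent.Helper1.TorL
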