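import Mathlib
import Groth.Prelude.Def_Coh
import Groth.Prelude.Def_CohB1
import Groth.Agent.Lib.Helper1.Dv7
import Groth.Agent.Lib.Lead.SD1
import Groth.Agent.Lib.Helper5.Stalk.Exact

/-!
# Stalk tools for the dévissage (helper1)
-/

set_option autoImplicit false
universe u
open CategoryTheory CategoryTheory.Limits AlgebraicGeometry TopologicalSpace Opposite

namespace Groth.Agent.Helper1.Dv

open Groth.Agent.Helper1.QcCech Groth.Agent.Helper1.QcExt Groth.Agent.Helper1
open Groth.Agent.Helper1.CohACC Groth.Agent.Lib.Helper5.StalkAdj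

variable {X : Scheme.{u}}

theorem isZero_stalkSh_iff (M : X.Modules) (x : X) :
    IsZero ((stalkSh X x).obj M) ↔ x ∉ CohB1.support M := by
  rw [ModuleCat.isZero_iff_subsingleton]
  change _ ↔ ¬ ¬ Subsingleton (M.presheaf.stalk x)
  rw [not_not]
  rfl

theorem isZero_mid_iff {C : Type*} [Category C] [Abelian C] (T : ShortComplex C)
    (hT : T.ShortExact) : IsZero T.X₂ ↔ IsZero T.X₁ ∧ IsZero T.X₃ := by
  haveI := hT.mono_f
  haveI := hT.epi_g
  constructor
  · intro h
    exact ⟨IsZero.of_mono T.f h, IsZero.of_epi T.g h⟩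
  · rintro ⟨h1, h3⟩
    exact hT.exact.isZero_of_both_zeros (h1.eq_of_src _ _) (h3.eq_of_tgt _ _)

/-- the support of the middle term of a short exact sequence -/
theorem support_ses (E : ShortComplex X.Modules) (hE : E.ShortExact) :
    CohB1.support E.X₂ = CohB1.support E.X₁ ∪ CohB1.support E.X₃ := by
  ext x
  have h := isZero_mid_iff (E.map (stalkSh X x)) (hE.map_of_exact (stalkSh X x))
  change IsZero ((stalkSh X x).obj E.X₂) ↔
    IsZero ((stalkSh X x).obj E.X₁) ∧ IsZero ((stalkSh X x).obj E.X₃) at h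
  rw [isZero_stalkSh_iff, isZero_stalkSh_iff, isZero_stalkSh_iff] at h
  rw [Set.mem_union]
  tauto

theorem support_iso {M N : X.Modules} (e : M ≅ N) : CohB1.support M = CohB1.support N := by
  ext x
  rw [← not_iff_not, ← isZero_stalkSh_iff, ← isZero_stalkSh_iff]
  exact ((stalkSh X x).mapIso e).isZero_iff

theorem support_mono {M N : X.Modules} (f : M ⟶ N) [Mono f] :
    CohB1.support M ⊆ CohB1.support N := by
  intro x hx
  by_contra h
  rw [← isZero_stalkSh_iff] at h
  have : IsZero ((stalkSh X x).obj M) := IsZero.of_mono ((stalkSh X x).map f) h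
  rw [isZero_stalkSh_iff] at this
  exact this hx

theorem support_epi {M N : X.Modules} (f : M ⟶ N) [Epi f] :
    CohB1.support N ⊆ CohB1.support M := by
  intro x hx
  by_contra h
  rw [← isZero_stalkSh_iff] at h
  have : IsZero ((stalkSh X x).obj N) := IsZero.of_epi ((stalkSh X x).map f) h
  rw [isZero_stalkSh_iff] at this
  exact this hx

theorem support_isZero {M : X.Modules} (h : IsZero M) : CohB1.support M = ∅ := by
  ext x
  simp only [Set.mem_empty_iff_false, iff_false]
  rw [← isZero_stalkSh_iff]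
  exact (stalkSh X x).map_isZero h

theorem notMem_support_kernel {E G : X.Modules} (ψ : E ⟶ G) (x : X)
    (h : Function.Injective ((stalkSh X x).map ψ).hom) : x ∉ CohB1.support (kernel ψ) := by
  rw [← isZero_stalkSh_iff]
  haveI : Mono ((stalkSh X x).map ψ) := (ModuleCat.mono_iff_injective _).2 h
  exact IsZero.of_iso (isZero_kernel_of_mono ((stalkSh X x).map ψ))
    (PreservesKernel.iso (stalkSh X x) ψ)

theorem notMem_support_cokernel {E G : X.Modules} (ψ : E ⟶ G) (x : X)
    (h : Function.Surjective ((stalkSh X x).map ψ).hom) : x ∉ CohB1.support (cokernel ψ) := by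
  rw [← isZero_stalkSh_iff]
  haveI : Epi ((stalkSh X x).map ψ) := (ModuleCat.epi_iff_surjective _).2 h
  exact IsZero.of_iso (isZero_cokernel_of_epi ((stalkSh X x).map ψ))
    (PreservesCokernel.iso (stalkSh X x) ψ)

theorem stalkSh_map_germ {E G : X.Modules} (ψ : E ⟶ G) (x : X) (U : X.Opens) (hx : x ∈ U)
    (s : Γ(E, U)) :
    ((stalkSh X x).map ψ).hom (E.presheaf.germ U x hx s) = G.presheaf.germ U x hx (ψ.app U s) :=
  Groth.Agent.Lib.Helper5.Misc.StalkTensor.stalkMap_gm x ψ.val U hx s

end Groth.Agent.Helper1.Dv
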