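import Mathlib
import Groth.Agent.Lib.Helper1.Dv8

set_option autoImplicit false
universe u
open CategoryTheory CategoryTheory.Limits AlgebraicGeometry TopologicalSpace Opposite

namespace Groth.Agent.Helper1.Dv

open Groth.Agent.Helper1.QcCech Groth.Agent.Helper1.QcExt Groth.Agent.Helper1
open Groth.Agent.Helper1.CohACC Groth.Agent.Lib.Helper5.StalkAdj Groth.Agent.Lead

variable {X : Scheme.{u}}

/-- the stalk map as a linear map between the stalks -/
noncomputable def stalkL {E G : X.Modules} (ψ : E ⟶ G) (x : X) :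
    E.presheaf.stalk x →ₗ[X.presheaf.stalk x] G.presheaf.stalk x :=
  ((stalkSh X x).map ψ).hom

theorem stalkL_germ {E G : X.Modules} (ψ : E ⟶ G) (x : X) (U : X.Opens) (hx : x ∈ U)
    (s : Γ(E, U)) :
    stalkL ψ x (E.presheaf.germ U x hx s) = G.presheaf.germ U x hx (ψ.app U s) :=
  stalkSh_map_germ ψ x U hx s

attribute [local instance] SD.stalkModule

theorem stalkL_bijective_of_locBij {E G : X.Modules} [E.IsQuasicoherent] [G.IsQuasicoherent]
    (ψ : E ⟶ G) {W : X.Opens} (hW : IsAffineOpen W) (ξ : X) (hξ : ξ ∈ W)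
    (hinj : ∀ s : Γ(E, W), (∃ t ∉ (hW.primeIdealOf ⟨ξ, hξ⟩).asIdeal, t • ψ.app W s = 0) →
      ∃ t' ∉ (hW.primeIdealOf ⟨ξ, hξ⟩).asIdeal, t' • s = 0)
    (hsurj : ∀ n : Γ(G, W), ∃ t ∉ (hW.primeIdealOf ⟨ξ, hξ⟩).asIdeal, ∃ s, ψ.app W s = t • n) :
    Function.Bijective (stalkL ψ ξ) := by
  set p := (hW.primeIdealOf ⟨ξ, hξ⟩).asIdeal with hp
  haveI hE := SD.isLocalizedModule_germ E hW ⟨ξ, hξ⟩
  haveI hG := SD.isLocalizedModule_germ G hW ⟨ξ, hξ⟩
  have hunit : ∀ t : Γ(X, W), t ∉ p → IsUnit (X.presheaf.germ W ξ hξ t) := fun t ht =>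
    (SD.isUnit_germ_iff hW ⟨ξ, hξ⟩ t).2 ht
  have hgerm_smul : ∀ (M : X.Modules) (t : Γ(X, W)) (s : Γ(M, W)),
      M.presheaf.germ W ξ hξ (t • s) = X.presheaf.germ W ξ hξ t • M.presheaf.germ W ξ hξ s :=
    fun M t s => SD.germ_smul M ξ W hξ t s
  constructor
  · rw [injective_iff_map_eq_zero]
    intro y hy
    obtain ⟨⟨s, t⟩, hst⟩ := IsLocalizedModule.surj p.primeCompl (SD.germₗ E (⟨ξ, hξ⟩ : W)) y
    change X.presheaf.germ W ξ hξ t.1 • y = E.presheaf.germ W ξ hξ s at hst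
    have ht : IsUnit (X.presheaf.germ W ξ hξ t.1) := hunit t.1 t.2
    have h1 : G.presheaf.germ W ξ hξ (ψ.app W s) = 0 := by
      rw [← stalkL_germ, ← hst, map_smul, hy, smul_zero]
    have h2 : (SD.germₗ G (⟨ξ, hξ⟩ : W)) (ψ.app W s) = 0 := h1
    have h2' : (SD.germₗ G (⟨ξ, hξ⟩ : W)) (ψ.app W s) = (SD.germₗ G (⟨ξ, hξ⟩ : W)) 0 := by
      rw [h2, map_zero]
    obtain ⟨c, hc⟩ := IsLocalizedModule.exists_of_eq (S := p.primeCompl) h2'
    rw [smul_zero] at hc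
    obtain ⟨t', ht', hts⟩ := hinj s ⟨c.1, c.2, hc⟩
    have h3 : E.presheaf.germ W ξ hξ s = 0 := by
      have := congrArg (E.presheaf.germ W ξ hξ) hts
      rw [hgerm_smul, map_zero] at this
      exact (hunit t' ht').smul_eq_zero.1 this
    rw [h3] at hst
    exact ht.smul_eq_zero.1 hst
  · intro z
    obtain ⟨⟨n, t⟩, hnt⟩ := IsLocalizedModule.surj p.primeCompl (SD.germₗ G (⟨ξ, hξ⟩ : W)) z
    change X.presheaf.germ W ξ hξ t.1 • z = G.presheaf.germ W ξ hξ n at hnt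
    obtain ⟨t₂, ht₂, s, hs⟩ := hsurj n
    obtain ⟨u, hu⟩ := (hunit t₂ ht₂).mul (hunit t.1 t.2)
    refine ⟨(↑u⁻¹ : X.presheaf.stalk ξ) • E.presheaf.germ W ξ hξ s, ?_⟩
    rw [map_smul, stalkL_germ, hs, hgerm_smul, ← hnt, smul_smul, smul_smul, mul_assoc, ← hu,
      Units.inv_mul, one_smul]

theorem notMem_support_kernel' {E G : X.Modules} (ψ : E ⟶ G) (x : X)
    (h : Function.Injective (stalkL ψ x)) : x ∉ CohB1.support (kernel ψ) :=
  notMem_support_kernel ψ x h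

theorem notMem_support_cokernel' {E G : X.Modules} (ψ : E ⟶ G) (x : X)
    (h : Function.Surjective (stalkL ψ x)) : x ∉ CohB1.support (cokernel ψ) :=
  notMem_support_cokernel ψ x h

theorem stalkL_comp {E F G : X.Modules} (φ : E ⟶ F) (ψ : F ⟶ G) (x : X) :
    stalkL (φ ≫ ψ) x = (stalkL ψ x).comp (stalkL φ x) := by
  unfold stalkL
  rw [Functor.map_comp]
  rfl

theorem stalkL_bijective_of_isIso {E F : X.Modules} (φ : E ⟶ F) [IsIso φ] (x : X) :
    Function.Bijective (stalkL φ x) := by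
  have : IsIso ((stalkSh X x).map φ) := inferInstance
  exact (ConcreteCategory.isIso_iff_bijective _).1 this

end Groth.Agent.Helper1.Dv
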