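import Mathlib
import Groth.Agent.Lib.Helper1.Dv8b
import Groth.Agent.Lib.Lead.FLF4
import Groth.Agent.Lib.Helper1.Dv6

set_option autoImplicit false
universe u
open CategoryTheory CategoryTheory.Limits AlgebraicGeometry TopologicalSpace Opposite

namespace Groth.Agent.Helper1.Dv

open Groth.Agent.Helper1.QcCech Groth.Agent.Helper1.QcExt Groth.Agent.Helper1
open Groth.Agent.Helper1.CohACC Groth.Agent.Lead

/-- the module of global sections -/
noncomputable abbrev gsec {R : CommRingCat.{u}} (M : (Spec R).Modules) : ModuleCat.{u} R :=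
  ModuleCat.of R Γ(M, (⊤ : (Spec R).Opens))

noncomputable def fromT {R : CommRingCat.{u}} (M : (Spec R).Modules) : tilde (gsec M) ⟶ M :=
  M.fromTildeΓ

theorem toOpen_fromT {R : CommRingCat.{u}} (M : (Spec R).Modules) (s : Γ(M, (⊤ : (Spec R).Opens))) :
    (fromT M).app ⊤ ((tilde.toOpen (gsec M) ⊤).hom s) = s := by
  have h := Scheme.Modules.toOpen_fromTildeΓ_app M ⊤
  have h2 := congrArg (fun f => f.hom s) h
  have : (homOfLE (le_top : (⊤ : (Spec R).Opens) ≤ ⊤)) = 𝟙 _ := Subsingleton.elim _ _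
  rw [this, op_id, CategoryTheory.Functor.map_id] at h2
  exact h2

theorem toOpen_map {R : CommRingCat.{u}} {M N : ModuleCat.{u} R} (f : M ⟶ N) (m : M) :
    (tilde.map f).app ⊤ ((tilde.toOpen M ⊤).hom m) = (tilde.toOpen N ⊤).hom (f.hom m) := by
  have h := tilde.toOpen_map_app f ⊤
  exact congrArg (fun g => g.hom m) h

end Groth.Agent.Helper1.Dv

namespace Groth.Agent.Helper1.Dv

open Groth.Agent.Helper1.QcCech Groth.Agent.Helper1.QcExt Groth.Agent.Helper1
open Groth.Agent.Helper1.CohACC Groth.Agent.Lead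

/-- on an affine scheme, a linear map of global sections out of a quasi-coherent module comes from a
morphism of modules -/
theorem exists_hom_spec {R : CommRingCat.{u}} (E' G' : (Spec R).Modules) [E'.IsQuasicoherent]
    (θ : Γ(E', (⊤ : (Spec R).Opens)) →ₗ[R] Γ(G', (⊤ : (Spec R).Opens))) :
    ∃ φ : E' ⟶ G', ∀ s : Γ(E', (⊤ : (Spec R).Opens)), φ.app ⊤ s = θ s := by
  have : IsIso (fromT E') := by
    unfold fromT
    exact (isQuasicoherent_iff_isIso_fromTildeΓ E').1 inferInstance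
  let θ' : gsec E' ⟶ gsec G' := ModuleCat.ofHom θ
  refine ⟨inv (fromT E') ≫ tilde.map θ' ≫ fromT G', fun s => ?_⟩
  have h1 : (inv (fromT E')).app ⊤ s = (tilde.toOpen (gsec E') ⊤).hom s := by
    have h := toOpen_fromT E' s
    rw [← h]
    change ((fromT E').app ⊤ ≫ (inv (fromT E')).app ⊤) _ = _
    rw [← Scheme.Modules.Hom.comp_app, IsIso.hom_inv_id]
    rw [h]
    rfl
  rw [Scheme.Modules.Hom.comp_app, Scheme.Modules.Hom.comp_app]
  change (fromT G').app ⊤ ((tilde.map θ').app ⊤ ((inv (fromT E')).app ⊤ s)) = θ s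
  rw [h1, toOpen_map, toOpen_fromT]
  rfl

end Groth.Agent.Helper1.Dv

namespace Groth.Agent.Helper1.Dv

open Groth.Agent.Helper1.QcCech Groth.Agent.Helper1.QcExt Groth.Agent.Helper1
open Groth.Agent.Helper1.CohACC Groth.Agent.Lead

variable {X : Scheme.{u}}

/-- all presheaf maps are restrictions -/
lemma pmap_eq (M : X.Modules) {V V' : X.Opens} (f : (op V) ⟶ (op V')) (x : Γ(M, V)) :
    M.presheaf.map f x = res M (leOfHom f.unop) x := by
  have : f = (homOfLE (leOfHom f.unop)).op := Subsingleton.elim _ _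
  exact congrArg (fun g => (M.presheaf.map g).hom x) this

theorem exists_hom_restrict {W : X.Opens} (hW : IsAffineOpen W) (E G : X.Modules)
    [E.IsQuasicoherent] (θ : Γ(E, W) →ₗ[Γ(X, W)] Γ(G, W)) :
    ∃ φ : E.restrict W.ι ⟶ G.restrict W.ι, ∀ s : Γ(E, W),
      φ.app ⊤ (res E (le_of_eq W.ι_image_top) s) = res G (le_of_eq W.ι_image_top) (θ s) := by
  let j := hW.fromSpec
  let e := hW.isoSpec
  have hj : W.ι = e.hom ≫ j := by
    change W.ι = hW.isoSpec.hom ≫ hW.fromSpec
    rw [← hW.isoSpec_inv_ι, Iso.hom_inv_id_assoc]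
  let θ' : Γ(E.restrict j, (⊤ : (Spec Γ(X, W)).Opens)) →ₗ[Γ(X, W)]
      Γ(G.restrict j, (⊤ : (Spec Γ(X, W)).Opens)) :=
    (FLF.sectionsLinearEquiv hW G).symm.toLinearMap ∘ₗ θ ∘ₗ
      (FLF.sectionsLinearEquiv hW E).toLinearMap
  obtain ⟨φ', hφ'⟩ := exists_hom_spec (E.restrict j) (G.restrict j) θ'
  let C : ∀ M : X.Modules, M.restrict W.ι ≅ (M.restrict j).restrict e.hom := fun M =>
    (Scheme.Modules.restrictFunctorCongr hj).app M ≪≫
      (Scheme.Modules.restrictFunctorComp e.hom j).app M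
  refine ⟨(C E).hom ≫ (Scheme.Modules.restrictFunctor e.hom).map φ' ≫ (C G).inv, fun s => ?_⟩
  simp only [Scheme.Modules.Hom.comp_app, C, Iso.trans_hom, Iso.trans_inv, Iso.app_hom, Iso.app_inv,
    Scheme.Modules.restrictFunctorCongr_hom_app_app, Scheme.Modules.restrictFunctorComp_hom_app_app,
    Scheme.Modules.restrictFunctorCongr_inv_app_app, Scheme.Modules.restrictFunctorComp_inv_app_app]
  rw [ConcreteCategory.comp_apply, ConcreteCategory.comp_apply, ConcreteCategory.comp_apply,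
    ConcreteCategory.comp_apply]
  show res G _ (res G _ (φ'.app (e.hom ''ᵁ ⊤) (res E _ (res E _ (res E _ s))))) = res G _ (θ s)
  -- the global section of `E.restrict j` corresponding to `s`
  let u : Γ(E.restrict j, (⊤ : (Spec Γ(X, W)).Opens)) := (FLF.sectionsLinearEquiv hW E).symm s
  have hu : (FLF.sectionsLinearEquiv hW E) u = s := LinearEquiv.apply_symm_apply _ s
  have hx : ∀ (h₁ : W.ι ''ᵁ ⊤ ≤ W) (h₂ : (e.hom ≫ j) ''ᵁ ⊤ ≤ W.ι ''ᵁ ⊤)
      (h₃ : j ''ᵁ (e.hom ''ᵁ ⊤) ≤ (e.hom ≫ j) ''ᵁ ⊤),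
      (show Γ(E.restrict j, e.hom ''ᵁ ⊤) from res E h₃ (res E h₂ (res E h₁ s))) =
        res (E.restrict j) (le_top : e.hom ''ᵁ ⊤ ≤ ⊤) u := by
    intro h₁ h₂ h₃
    change res E h₃ (res E h₂ (res E h₁ s)) = res E _ (res E _ s)
    rw [res_res, res_res, res_res]
  refine (congrArg (fun z => res G _ (res G _ (φ'.app (e.hom ''ᵁ ⊤) z))) (hx _ _ _)).trans ?_
  rw [app_res φ', hφ' u]
  change res G _ (res G _ (res G _ (res G _ (θ ((FLF.sectionsLinearEquiv hW E) u))))) = _
  rw [hu, res_res, res_res, res_res]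

end Groth.Agent.Helper1.Dv

namespace Groth.Agent.Helper1.Dv

open Groth.Agent.Helper1.QcCech Groth.Agent.Helper1.QcExt Groth.Agent.Helper1
open Groth.Agent.Helper1.CohACC Groth.Agent.Lead

variable {X : Scheme.{u}}

lemma res_injective_of_eq (M : X.Modules) {V V' : X.Opens} (h : V' = V) :
    Function.Injective (res M (le_of_eq h)) := by
  subst h
  intro a b hab
  rwa [res_self, res_self] at hab

/-- a linear map of sections over an affine open `W` extends, after multiplying the source by a power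
of an ideal cutting out the complement of `W`, to a global morphism -/
theorem exists_hom_idealMul [IsNoetherian X] {W : X.Opens} (hW : IsAffineOpen W) (E G : X.Modules)
    (hE : Coh.IsCoh E) (hG : Coh.IsQCoh G) (I : X.IdealSheafData)
    (hI : (W : Set X) = (I.support : Set X)ᶜ) (θ : Γ(E, W) →ₗ[Γ(X, W)] Γ(G, W)) :
    ∃ (n : ℕ) (ψ : (Dual3.idealMul (I ^ n)).obj E ⟶ G),
      ∀ t : Γ((Dual3.idealMul (I ^ n)).obj E, W),
        ψ.app W t = θ ((Dual3.idealMulι (I ^ n) E).app W t) := by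
  haveI : E.IsQuasicoherent := hE.1
  obtain ⟨φ, hφ⟩ := exists_hom_restrict hW E G θ
  obtain ⟨n, ψ, hψ⟩ := deligne_surjective G E hG hE I W hI φ
  refine ⟨n, ψ, fun t => ?_⟩
  have h := le_of_eq W.ι_image_top
  apply res_injective_of_eq G W.ι_image_top
  rw [← hφ, ← app_res, ← app_res]
  have h2 := congrArg (fun f => (Scheme.Modules.Hom.app f ⊤)
    (res ((Dual3.idealMul (I ^ n)).obj E) h t)) hψ
  exact h2

end Groth.Agent.Helper1.Dv
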