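import Mathlib
import Groth.Agent.Lib.Helper1.Dv9

set_option autoImplicit false
universe u
open CategoryTheory CategoryTheory.Limits AlgebraicGeometry TopologicalSpace Opposite

namespace Groth.Agent.Helper1.Dv

open Groth.Agent.Helper1.QcCech Groth.Agent.Helper1.QcExt Groth.Agent.Helper1
open Groth.Agent.Helper1.CohACC Groth.Agent.Lead

variable {X : Scheme.{u}}

lemma sum_app {M N : X.Modules} {ι : Type*} (s : Finset ι) (φ : ι → (M ⟶ N)) (U : X.Opens)
    (x : Γ(M, U)) : (∑ j ∈ s, φ j).app U x = ∑ j ∈ s, (φ j).app U x := by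
  classical
  induction s using Finset.induction_on with
  | empty => simp
  | insert a s ha ih =>
    rw [Finset.sum_insert ha, Finset.sum_insert ha, Scheme.Modules.Hom.add_app]
    change (φ a).app U x + (∑ j ∈ s, φ j).app U x = _
    rw [ih]

/-- the `j`-th projection from a finite coproduct of copies of `F` -/
noncomputable def cpπ (F : X.Modules) (e : ℕ) (j : Fin e) : (∐ fun _ : Fin e => F) ⟶ F :=
  Sigma.desc (fun k => if k = j then 𝟙 F else 0)

lemma ι_cpπ (F : X.Modules) (e : ℕ) (j k : Fin e) :
    Sigma.ι (fun _ : Fin e => F) k ≫ cpπ F e j = if k = j then 𝟙 F else 0 := by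
  unfold cpπ
  rw [Sigma.ι_desc]

lemma cp_total (F : X.Modules) (e : ℕ) :
    ∑ j : Fin e, cpπ F e j ≫ Sigma.ι (fun _ : Fin e => F) j = 𝟙 _ := by
  apply Sigma.hom_ext
  intro k
  rw [Preadditive.comp_sum, Category.comp_id]
  rw [Finset.sum_eq_single k]
  · rw [← Category.assoc, ι_cpπ, if_pos rfl, Category.id_comp]
  · intro j _ hjk
    rw [← Category.assoc, ι_cpπ, if_neg (Ne.symm hjk), zero_comp]
  · intro h
    exact absurd (Finset.mem_univ k) h

/-- sections of a finite coproduct of copies of `F` -/
noncomputable def coprodSec (F : X.Modules) (e : ℕ) (U : X.Opens) :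
    Γ(∐ fun _ : Fin e => F, U) ≃ₗ[Γ(X, U)] (Fin e → Γ(F, U)) where
  toFun s j := (cpπ F e j).app U s
  map_add' s t := by
    funext j
    simp only [map_add, Pi.add_apply]
  map_smul' r s := by
    funext j
    simp only [RingHom.id_apply, Pi.smul_apply]
    exact Scheme.Modules.Hom.app_smul _ r s
  invFun t := ∑ j : Fin e, (Sigma.ι (fun _ : Fin e => F) j).app U (t j)
  left_inv s := by
    have h := congrArg (fun f => (Scheme.Modules.Hom.app f U) s) (cp_total F e)
    simp only [sum_app, Scheme.Modules.Hom.comp_app, Scheme.Modules.Hom.id_app] at h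
    exact h
  right_inv t := by
    funext k
    simp only [map_sum]
    rw [Finset.sum_eq_single k]
    · change (Sigma.ι (fun _ : Fin e => F) k ≫ cpπ F e k).app U (t k) = t k
      rw [ι_cpπ, if_pos rfl]
      rfl
    · intro j _ hjk
      change (Sigma.ι (fun _ : Fin e => F) j ≫ cpπ F e k).app U (t j) = 0
      rw [ι_cpπ, if_neg hjk]
      rfl
    · intro h
      exact absurd (Finset.mem_univ k) h

end Groth.Agent.Helper1.Dv
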