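import Mathlib

/-!
# The algebra behind the dévissage: modules generically free over `A/p` (helper1)
-/

set_option autoImplicit false
universe u

namespace Groth.Agent.Helper1.Dv

section one

variable {A : Type u} [CommRing A] (p : Ideal A) {N : Type u} [AddCommGroup N] [Module A N]
  {M : Type u} [AddCommGroup M] [Module A M] (x : M) (hx : ∀ a : A, a • x = 0 ↔ a ∈ p)
  (n' : N) (hn' : ∀ a ∈ p, a • n' = 0)

include hx hn' in
lemma smul_wd {a a' : A} (h : a • x = a' • x) : a • n' = a' • n' := by
  have h1 : (a - a') • x = 0 := by rw [sub_smul, h, sub_self]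
  have h2 := hn' _ ((hx _).1 h1)
  rwa [sub_smul, sub_eq_zero] at h2

/-- the linear map `A x → N` sending `x` to `n'` -/
noncomputable def spanMap : Submodule.span A {x} →ₗ[A] N where
  toFun y := (Submodule.mem_span_singleton.1 y.2).choose • n'
  map_add' y z := by
    rw [← add_smul]
    apply smul_wd p x hx n' hn'
    rw [add_smul, (Submodule.mem_span_singleton.1 y.2).choose_spec,
      (Submodule.mem_span_singleton.1 z.2).choose_spec,
      (Submodule.mem_span_singleton.1 (y + z).2).choose_spec]
    rfl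
  map_smul' r y := by
    simp only [RingHom.id_apply]
    rw [smul_smul]
    apply smul_wd p x hx n' hn'
    rw [mul_smul, (Submodule.mem_span_singleton.1 y.2).choose_spec,
      (Submodule.mem_span_singleton.1 (r • y).2).choose_spec]
    rfl

lemma spanMap_apply (y : Submodule.span A {x}) (a : A) (h : a • x = y.1) :
    spanMap p x hx n' hn' y = a • n' := by
  change (Submodule.mem_span_singleton.1 y.2).choose • n' = a • n'
  apply smul_wd p x hx n' hn'
  rw [(Submodule.mem_span_singleton.1 y.2).choose_spec, h]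

end one

end Groth.Agent.Helper1.Dv

namespace Groth.Agent.Helper1.Dv

section two

variable {A : Type u} [CommRing A] (p : Ideal A) [p.IsPrime] {N : Type u} [AddCommGroup N]
  [Module A N]

lemma exists_kill_ideal (hp : p.FG) (n : N) (h : ∀ a ∈ p, ∃ c ∉ p, c • a • n = 0) :
    ∃ c ∉ p, ∀ a ∈ p, c • a • n = 0 := by
  classical
  obtain ⟨S, hS⟩ := hp
  have hSp : ∀ a ∈ S, a ∈ p := fun a ha => hS ▸ Submodule.subset_span ha
  choose c hc hc' using fun a : S => h a.1 (hSp a.1 a.2)
  refine ⟨∏ a ∈ S.attach, c a, ?_, ?_⟩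
  · have : ∏ a ∈ S.attach, c a ∈ p.primeCompl :=
      Submonoid.prod_mem _ (fun a _ => hc a)
    exact this
  · intro a ha
    rw [← hS] at ha
    induction ha using Submodule.span_induction with
    | mem a ha =>
      rw [← Finset.mul_prod_erase S.attach c (Finset.mem_attach S ⟨a, ha⟩), mul_comm, mul_smul,
        hc' ⟨a, ha⟩, smul_zero]
    | zero => rw [zero_smul, smul_zero]
    | add a b _ _ ha hb => rw [add_smul, smul_add, ha, hb, add_zero]
    | smul r a _ ha => rw [smul_eq_mul, mul_smul, smul_comm, ha, smul_zero]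

end two

end Groth.Agent.Helper1.Dv

namespace Groth.Agent.Helper1.Dv

section three

theorem alg_core {A : Type u} [CommRing A] [IsNoetherianRing A] (p : Ideal A) [p.IsPrime]
    {B : Type u} [CommRing B] [IsLocalRing B] [Algebra A B] [IsLocalization.AtPrime B p]
    {N : Type u} [AddCommGroup N] [Module A N]
    {V : Type u} [AddCommGroup V] [Module B V] [Module A V] [IsScalarTower A B V]
    (g : N →ₗ[A] V) [IsLocalizedModule p.primeCompl g] [Module.Finite B V]
    (hV : ∀ a ∈ IsLocalRing.maximalIdeal B, ∀ v : V, a • v = 0)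
    {M : Type u} [AddCommGroup M] [Module A M] (x : M) (hx : ∀ a : A, a • x = 0 ↔ a ∈ p) :
    ∃ (e : ℕ) (Θ : (Fin e → Submodule.span A {x}) →ₗ[A] N),
      (∀ f, (∃ t ∉ p, t • Θ f = 0) → f = 0) ∧
      (∀ n : N, ∃ t ∉ p, ∃ f, Θ f = t • n) ∧
      (IsSimpleModule B V → e = 1) ∧ (e = 0 → Subsingleton V) := by
  classical
  -- residue field structure
  have hT : Module.IsTorsionBySet B V (IsLocalRing.maximalIdeal B : Set B) :=
    fun v a => hV a.1 a.2 v
  letI : Module (B ⧸ IsLocalRing.maximalIdeal B) V := hT.module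
  haveI : IsScalarTower B (B ⧸ IsLocalRing.maximalIdeal B) V := hT.isScalarTower
  letI : Field (B ⧸ IsLocalRing.maximalIdeal B) := Ideal.Quotient.field _
  haveI : Module.Finite (B ⧸ IsLocalRing.maximalIdeal B) V :=
    Module.Finite.of_restrictScalars_finite B (B ⧸ IsLocalRing.maximalIdeal B) V
  let e := Module.finrank (B ⧸ IsLocalRing.maximalIdeal B) V
  let b : Module.Basis (Fin e) (B ⧸ IsLocalRing.maximalIdeal B) V :=
    Module.finBasis (B ⧸ IsLocalRing.maximalIdeal B) V
  have hmk : ∀ (β : B) (v : V), (Ideal.Quotient.mk (IsLocalRing.maximalIdeal B) β) • v = β • v :=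
    fun β v => hT.mk_smul β v
  have hAB : ∀ (a : A) (v : V), a • v = algebraMap A B a • v := fun a v =>
    (IsScalarTower.algebraMap_smul B a v).symm
  have hmem : ∀ a : A, algebraMap A B a ∈ IsLocalRing.maximalIdeal B ↔ a ∈ p := fun a =>
    IsLocalization.AtPrime.to_map_mem_maximal_iff B p a
  -- representatives of the basis vectors
  choose ns hns using fun j => IsLocalizedModule.surj p.primeCompl g (b j)
  have hkill : ∀ j, ∃ c ∉ p, ∀ a ∈ p, c • a • (ns j).1 = 0 := by
    intro j
    apply exists_kill_ideal p (IsNoetherian.noetherian p)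
    intro a ha
    have h1 : g (a • (ns j).1) = g 0 := by
      rw [map_smul, ← hns j, map_zero, smul_comm, hAB a (b j),
        hV _ ((hmem a).2 ha), smul_zero]
    obtain ⟨c, hc⟩ := IsLocalizedModule.exists_of_eq (S := p.primeCompl) h1
    rw [smul_zero] at hc
    exact ⟨c.1, c.2, hc⟩
  choose c hc hc' using hkill
  let n' : Fin e → N := fun j => c j • (ns j).1
  have hn' : ∀ j, ∀ a ∈ p, a • n' j = 0 := by
    intro j a ha
    change a • c j • (ns j).1 = 0
    rw [smul_comm]
    exact hc' j a ha
  -- the unit relating g (n' j) and b j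
  let w : Fin e → A := fun j => c j * ((ns j).2 : A)
  have hw : ∀ j, w j ∉ p := fun j => by
    change c j * ((ns j).2 : A) ∈ p.primeCompl
    exact p.primeCompl.mul_mem (hc j) (ns j).2.2
  have hgn' : ∀ j, g (n' j) = w j • b j := by
    intro j
    change g (c j • (ns j).1) = (c j * ((ns j).2 : A)) • b j
    rw [map_smul, ← hns j, mul_smul]
    rfl
  let Θ : (Fin e → Submodule.span A {x}) →ₗ[A] N :=
    ∑ j : Fin e, (spanMap p x hx (n' j) (hn' j)).comp (LinearMap.proj j)
  have hΘ : ∀ (f : Fin e → Submodule.span A {x}) (a : Fin e → A), (∀ j, a j • x = (f j).1) →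
      Θ f = ∑ j, a j • n' j := by
    intro f a ha
    simp only [Θ, LinearMap.sum_apply, LinearMap.comp_apply, LinearMap.proj_apply]
    exact Finset.sum_congr rfl (fun j _ => spanMap_apply p x hx (n' j) (hn' j) (f j) (a j) (ha j))
  refine ⟨e, Θ, ?_, ?_, ?_, ?_⟩
  · rintro f ⟨t, ht, htf⟩
    choose a ha using fun j => Submodule.mem_span_singleton.1 (f j).2
    rw [hΘ f a ha] at htf
    have h1 : ∑ j, (Ideal.Quotient.mk (IsLocalRing.maximalIdeal B)
        (algebraMap A B (t * a j * w j))) • b j = 0 := by
      have h2 := congrArg g htf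
      rw [map_zero, map_smul, map_sum, Finset.smul_sum] at h2
      rw [← h2]
      refine Finset.sum_congr rfl (fun j _ => ?_)
      rw [hmk, ← hAB, map_smul, hgn', mul_smul, mul_smul]
    have h3 := (Fintype.linearIndependent_iff.1 b.linearIndependent) _ h1
    funext j
    have h4 := h3 j
    rw [Ideal.Quotient.eq_zero_iff_mem, hmem] at h4
    have h5 : a j ∈ p := by
      rcases (Ideal.IsPrime.mem_or_mem inferInstance h4) with h6 | h6
      · rcases (Ideal.IsPrime.mem_or_mem inferInstance h6) with h7 | h7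
        · exact absurd h7 ht
        · exact h7
      · exact absurd h6 (hw j)
    apply Subtype.ext
    rw [← ha j, (hx (a j)).2 h5]
    rfl
  · intro n
    -- coordinates of g n
    choose β hβ using fun j => Ideal.Quotient.mk_surjective (b.repr (g n) j)
    have hu : ∀ j, IsUnit (algebraMap A B (w j)) := fun j =>
      IsLocalization.map_units B (⟨w j, hw j⟩ : p.primeCompl)
    let γ : Fin e → B := fun j => β j * ((hu j).unit⁻¹ : Bˣ)
    obtain ⟨s, hs⟩ := IsLocalization.exist_integer_multiples p.primeCompl Finset.univ γ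
    choose a' ha' using fun j => hs j (Finset.mem_univ j)
    have h1 : g (s.1 • n) = g (∑ j, a' j • n' j) := by
      rw [map_smul, map_sum]
      conv_lhs => rw [← b.sum_repr (g n)]
      rw [Finset.smul_sum]
      refine Finset.sum_congr rfl (fun j _ => ?_)
      rw [map_smul, hgn', hAB (a' j), ha' j, ← hβ j, hmk, hAB s.1, hAB (w j), smul_smul, smul_smul]
      congr 1
      change algebraMap A B s.1 * β j = (s.1 • (β j * ((hu j).unit⁻¹ : Bˣ))) * algebraMap A B (w j)
      rw [Algebra.smul_def, mul_assoc, mul_assoc, IsUnit.val_inv_mul, mul_one]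
    obtain ⟨c₀, hc₀⟩ := IsLocalizedModule.exists_of_eq (S := p.primeCompl) h1
    refine ⟨c₀.1 * s.1, p.primeCompl.mul_mem c₀.2 s.2,
      fun j => ⟨(c₀.1 * a' j) • x, Submodule.mem_span_singleton.2 ⟨_, rfl⟩⟩, ?_⟩
    rw [hΘ _ (fun j => c₀.1 * a' j) (fun j => rfl), mul_smul]
    change _ = c₀ • (s.1 • n)
    rw [hc₀]
    change _ = c₀.1 • ∑ j, a' j • n' j
    rw [Finset.smul_sum]
    exact Finset.sum_congr rfl (fun j _ => mul_smul _ _ _)
  · intro hsimp
    change Module.finrank (B ⧸ IsLocalRing.maximalIdeal B) V = 1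
    rw [← isSimpleModule_iff_finrank_eq_one]
    exact (isSimpleModule_iff_isSimpleModule_of_algebraMap_surjective
      (Ideal.Quotient.mk_surjective (I := IsLocalRing.maximalIdeal B))).1 hsimp
  · intro he
    exact Module.finrank_zero_iff.1 he

end three

end Groth.Agent.Helper1.Dv
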