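import Mathlib
import Groth.Agent.Lib.Helper1.QcLoc
import Groth.Agent.Lib.Helper1.PF7
import Groth.Agent.Lib.Helper1.AffAlgLib
import Groth.Agent.Lib.Helper1.PushQc

set_option autoImplicit false
universe u
open CategoryTheory CategoryTheory.Limits AlgebraicGeometry TopologicalSpace Opposite

namespace Groth.Agent.Helper1.QcIso

variable {X : Scheme.{u}} {M N : X.Modules} [M.IsQuasicoherent] [N.IsQuasicoherent] (φ : M ⟶ N)

/-- naturality of a morphism of modules with respect to restriction, on elements -/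
theorem app_res {U V : X.Opens} (h : V ≤ U) (t : Γ(M, U)) :
    φ.app V (M.presheaf.map (homOfLE h).op t) = N.presheaf.map (homOfLE h).op (φ.app U t) := by
  have := congrArg (fun g => g.hom t) (φ.mapPresheaf.naturality (homOfLE h).op)
  exact this

/-- a morphism of quasi-coherent modules bijective over an affine open is bijective over its basic
opens -/
theorem bijective_basicOpen {U : X.Opens} (hU : IsAffineOpen U)
    (hb : Function.Bijective (φ.app U)) (f : Γ(X, U)) :
    Function.Bijective (φ.app (X.basicOpen f)) := by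
  set f' : Γ(X, X.basicOpen f) := (X.presheaf.map (homOfLE (X.basicOpen_le f)).op).hom f with hf'
  have hunit : IsUnit f' := RingedSpace.isUnit_res_basicOpen X.toRingedSpace f
  have hcancel : ∀ (L : X.Modules) (k : ℕ) (s : Γ(L, X.basicOpen f)), f' ^ k • s = 0 → s = 0 := by
    intro L k s hs
    obtain ⟨w, hw⟩ := hunit.pow k
    have : (↑w⁻¹ : Γ(X, X.basicOpen f)) • (f' ^ k • s) = s := by
      rw [← hw, smul_smul, Units.inv_mul, one_smul]
    rw [← this, hs, smul_zero]
  constructor
  · rw [injective_iff_map_eq_zero]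
    intro s hs
    obtain ⟨n, t, ht⟩ := QcLoc.exists_extend hU M f s
    have h1 : N.presheaf.map (homOfLE (X.basicOpen_le f)).op (φ.app U t) = 0 := by
      rw [← app_res, ht, Scheme.Modules.Hom.app_smul, hs, smul_zero]
    obtain ⟨k, hk⟩ := QcLoc.exists_kill hU N f (φ.app U t) h1
    have h2 : f ^ k • t = 0 := by
      apply hb.1
      rw [Scheme.Modules.Hom.app_smul, hk, map_zero]
    have h3 : f' ^ (k + n) • s = 0 := by
      rw [pow_add, mul_smul, ← ht]
      have := congrArg (M.presheaf.map (homOfLE (X.basicOpen_le f)).op) h2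
      rw [Scheme.Modules.map_smul, map_pow, map_zero] at this
      exact this
    exact hcancel M _ s h3
  · intro σ
    obtain ⟨n, t', ht'⟩ := QcLoc.exists_extend hU N f σ
    obtain ⟨m, rfl⟩ := hb.2 t'
    obtain ⟨w, hw⟩ := hunit.pow n
    refine ⟨(↑w⁻¹ : Γ(X, X.basicOpen f)) • M.presheaf.map (homOfLE (X.basicOpen_le f)).op m, ?_⟩
    rw [Scheme.Modules.Hom.app_smul, app_res, ht', ← hw, smul_smul, Units.inv_mul, one_smul]

/-- **a morphism of quasi-coherent modules which is bijective on an affine open cover is an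
isomorphism** -/
theorem isIso_of_bijective_cover
    (h : ∀ x : X, ∃ U : X.Opens, IsAffineOpen U ∧ x ∈ U ∧ Function.Bijective (φ.app U)) :
    IsIso φ := by
  have key : ∀ (U : X.Opens) (x : X), x ∈ U → ∃ (V : X.Opens) (_ : V ≤ U), x ∈ V ∧
      Function.Bijective (φ.app V) := by
    intro U x hx
    obtain ⟨W, hW, hxW, hb⟩ := h x
    obtain ⟨f, hfV, hxf⟩ := hW.exists_basicOpen_le (V := U ⊓ W) ⟨x, ⟨hx, hxW⟩⟩ hxW
    exact ⟨X.basicOpen f, hfV.trans inf_le_left, hxf, bijective_basicOpen φ hW hb f⟩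
  refine PF7.isIso_of_locally φ ?_ ?_
  · intro U t ht x hx
    obtain ⟨V, hV, hxV, hb⟩ := key U x hx
    refine ⟨V, hV, hxV, hb.1 ?_⟩
    rw [app_res, ht, map_zero, map_zero]
  · intro U σ x hx
    obtain ⟨V, hV, hxV, hb⟩ := key U x hx
    obtain ⟨t, ht⟩ := hb.2 (N.presheaf.map (homOfLE hV).op σ)
    exact ⟨V, hV, hxV, t, ht⟩

end Groth.Agent.Helper1.QcIso

namespace Groth.Agent.Helper1.QcIso

/-- **S8305** -/
theorem main8305 {X Y S : Scheme.{u}} (gX : X ⟶ S) [IsAffineHom gX]
    (gY : Y ⟶ S) [IsAffineHom gY] (h : Y ⟶ X) (hh : h ≫ gX = gY)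
    (F : X.Modules) (G : Y.Modules) [F.IsQuasicoherent] [G.IsQuasicoherent]
    (v : F ⟶ (Scheme.Modules.pushforward h).obj G) :
    (IsIso h ∧ IsIso v) ↔
      (IsIso (AffAlg.algHom gX gY h hh) ∧ IsIso ((Scheme.Modules.pushforward gX).map v)) := by
  subst hh
  constructor
  · rintro ⟨h1, h2⟩
    exact ⟨AffAlgLib.isIso_algHom_of_isIso gX h, inferInstance⟩
  · rintro ⟨h1, h2⟩
    have hiso : IsIso h := (AffAlgLib.isIso_iff gX h).2 h1
    refine ⟨hiso, ?_⟩
    have hq : ((Scheme.Modules.pushforward h).obj G).IsQuasicoherent :=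
      PushQc.isQuasicoherent_pushforward h G
    refine isIso_of_bijective_cover v fun x => ?_
    obtain ⟨_, ⟨V, hV, rfl⟩, hxV, -⟩ := S.isBasis_affineOpens.exists_subset_of_mem_open
      (Set.mem_univ (gX x)) isOpen_univ
    refine ⟨gX ⁻¹ᵁ V, hV.preimage gX, hxV, ?_⟩
    have h3 : IsIso (((Scheme.Modules.pushforward gX).map v).app V) := inferInstance
    rw [Scheme.Modules.pushforward_map_app] at h3
    exact (ConcreteCategory.isIso_iff_bijective _).1 h3

end Groth.Agent.Helper1.QcIso
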