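import Mathlib
import Groth.Agent.Lib.Helper1.QcAbel
import Groth.Agent.Lib.Helper1.QcExt

set_option autoImplicit false
universe u
open CategoryTheory CategoryTheory.Limits AlgebraicGeometry TopologicalSpace Opposite

namespace Groth.Agent.Helper1.FinSigma

open Groth.Agent.Helper1.QcCech Groth.Agent.Helper1

variable {X : Scheme.{u}} {k : ℕ} (B : Fin k → X.Modules)

/-- the projections of a finite coproduct -/
noncomputable def q (i : Fin k) : (∐ B) ⟶ B i :=
  Sigma.desc (fun j => if h : j = i then eqToHom (by rw [h]) else 0)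

theorem ι_q_self (i : Fin k) : Sigma.ι B i ≫ q B i = 𝟙 _ := by
  rw [q, Sigma.ι_desc, dif_pos rfl]
  rfl

theorem ι_q_ne {i j : Fin k} (h : j ≠ i) : Sigma.ι B j ≫ q B i = 0 := by
  rw [q, Sigma.ι_desc, dif_neg h]

theorem sum_q_ι : ∑ i, q B i ≫ Sigma.ι B i = 𝟙 (∐ B) := by
  apply Sigma.hom_ext
  intro j
  rw [Preadditive.comp_sum, Category.comp_id]
  rw [Finset.sum_eq_single j]
  · rw [← Category.assoc, ι_q_self, Category.id_comp]
  · intro i _ hij
    rw [← Category.assoc, ι_q_ne B hij.symm, zero_comp]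
  · intro h
    exact (h (Finset.mem_univ j)).elim

theorem sum_app {M N : X.Modules} {ι : Type*} (s : Finset ι) (φ : ι → (M ⟶ N)) (U : X.Opens)
    (m : Γ(M, U)) : (∑ i ∈ s, φ i).app U m = ∑ i ∈ s, (φ i).app U m := by
  classical
  induction s using Finset.induction_on with
  | empty => simp
  | insert a s ha ih =>
    rw [Finset.sum_insert ha, Finset.sum_insert ha, Scheme.Modules.Hom.add_app]
    change (φ a).app U m + (∑ i ∈ s, φ i).app U m = _
    rw [ih]

/-- every section of a finite coproduct is the sum of its components -/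
theorem decomp (U : X.Opens) (m : Γ(∐ B, U)) :
    m = ∑ i, (Sigma.ι B i).app U ((q B i).app U m) := by
  have h := congrArg (fun φ : (∐ B) ⟶ (∐ B) => φ.app U m) (sum_q_ι B)
  simp only at h
  rw [sum_app] at h
  exact h.symm

theorem desc_app {N : X.Modules} (φ : ∀ i, B i ⟶ N) (U : X.Opens) (m : Γ(∐ B, U)) :
    (Sigma.desc φ).app U m = ∑ i, (φ i).app U ((q B i).app U m) := by
  conv_lhs => rw [decomp B U m]
  rw [map_sum]
  refine Finset.sum_congr rfl fun i _ => ?_
  have : Sigma.ι B i ≫ Sigma.desc φ = φ i := Sigma.ι_desc _ _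
  rw [← this]
  rfl

/-- a finite coproduct of quasi-coherent modules is quasi-coherent -/
theorem isQuasicoherent_sigma [∀ i, (B i).IsQuasicoherent] : (∐ B).IsQuasicoherent := by
  apply QcAbel.isQuasicoherent_of_kill_ext
  · intro U hU f O hO t ht
    have hle := hO.le.trans (X.basicOpen_le f)
    have h1 : ∀ i, ∃ n : ℕ, f ^ n • (q B i).app U t = 0 := fun i =>
      kill_aux (B i) hU f O hO _ (by rw [← QcExt.app_res, ht, map_zero])
    choose n hn using h1
    refine ⟨Finset.univ.sup n, ?_⟩
    rw [decomp B U (f ^ Finset.univ.sup n • t)]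
    apply Finset.sum_eq_zero
    intro i _
    have h2 : f ^ (Finset.univ.sup n) = f ^ (Finset.univ.sup n - n i) * f ^ (n i) := by
      rw [← pow_add, Nat.sub_add_cancel (Finset.le_sup (Finset.mem_univ i))]
    rw [Scheme.Modules.Hom.app_smul, h2, mul_smul, hn i, smul_zero, map_zero]
  · intro U hU f O hO y
    have hle := hO.le.trans (X.basicOpen_le f)
    have h1 : ∀ i, ∃ (n : ℕ) (t : Γ(B i, U)), res (B i) hle t =
        (resR hle f) ^ n • (q B i).app O y := fun i => extend_aux (B i) hU f O hO _
    choose n t ht using h1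
    refine ⟨Finset.univ.sup n,
      ∑ i, (Sigma.ι B i).app U (f ^ (Finset.univ.sup n - n i) • t i), ?_⟩
    rw [map_sum]
    conv_rhs => rw [decomp B O y, Finset.smul_sum]
    refine Finset.sum_congr rfl fun i _ => ?_
    rw [← QcExt.app_res, res_smul, ht i, map_pow, ← mul_smul,
      ← pow_add, Nat.sub_add_cancel (Finset.le_sup (Finset.mem_univ i)),
      Scheme.Modules.Hom.app_smul]

end Groth.Agent.Helper1.FinSigma
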