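import Mathlib
import Groth.Prelude.Def_RelSpec
import Groth.Agent.Lib.Helper1.QcAbel

set_option autoImplicit false
universe u

open CategoryTheory CategoryTheory.Limits AlgebraicGeometry TopologicalSpace Opposite

namespace Groth.Agent.Helper1.QCAlgQc

open Groth.Agent.Helper1.QcCech Groth.Agent.Helper1.QcAbel

variable {S : Scheme.{u}} (A : RelSpec.QCAlg S)

theorem res_toModule {U V : S.Opens} (h : V ≤ U) (t : Γ(A.toModule, U)) :
    res A.toModule h t = (A.presheaf.map (homOfLE h).op).hom (show A.presheaf.obj (op U) from t) := rfl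

theorem smul_toModule {U : S.Opens} (r : Γ(S, U)) (t : Γ(A.toModule, U)) :
    r • t = (show Γ(A.toModule, U) from
      (A.str.app (op U)).hom r * (show A.presheaf.obj (op U) from t)) := rfl

theorem str_res {U V : S.Opens} (h : V ≤ U) (r : Γ(S, U)) :
    (A.str.app (op V)).hom (resR h r) =
      (A.presheaf.map (homOfLE h).op).hom ((A.str.app (op U)).hom r) := by
  have := congrArg (fun ψ => ψ.hom r) (A.str.naturality (homOfLE h).op)
  exact this

/-- a quasi-coherent algebra is quasi-coherent as a module -/
theorem isQuasicoherent_toModule : A.toModule.IsQuasicoherent := by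
  apply isQuasicoherent_of_kill_ext
  · intro U hU f O hO t ht
    subst hO
    let _ := (A.presheaf.map (homOfLE (S.basicOpen_le f)).op).hom.toAlgebra
    have hloc : IsLocalization.Away ((A.str.app (op U)).hom f)
      (A.presheaf.obj (op (S.basicOpen f))) := A.isQC U hU f
    have h0 : algebraMap (A.presheaf.obj (op U)) (A.presheaf.obj (op (S.basicOpen f)))
        (show A.presheaf.obj (op U) from t) = 0 := ht
    obtain ⟨⟨_, n, rfl⟩, hn⟩ := (IsLocalization.map_eq_zero_iff
      (Submonoid.powers ((A.str.app (op U)).hom f)) _ _).1 h0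
    refine ⟨n, ?_⟩
    rw [smul_toModule, map_pow]
    exact hn
  · intro U hU f O hO y
    subst hO
    let _ := (A.presheaf.map (homOfLE (S.basicOpen_le f)).op).hom.toAlgebra
    have hloc : IsLocalization.Away ((A.str.app (op U)).hom f)
      (A.presheaf.obj (op (S.basicOpen f))) := A.isQC U hU f
    obtain ⟨n, a, ha⟩ := IsLocalization.Away.surj ((A.str.app (op U)).hom f)
      (show A.presheaf.obj (op (S.basicOpen f)) from y)
    refine ⟨n, (show Γ(A.toModule, U) from a), ?_⟩
    change (A.presheaf.map (homOfLE (S.basicOpen_le f)).op).hom a =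
      (A.str.app (op (S.basicOpen f))).hom (resR (S.basicOpen_le f) f ^ n) *
        (show A.presheaf.obj (op (S.basicOpen f)) from y)
    rw [map_pow, str_res, mul_comm]
    exact ha.symm

end Groth.Agent.Helper1.QCAlgQc
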