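import Mathlib
import Groth.Prelude.Def_RelProj2
import Groth.Agent.Lib.Helper1.RelProjMap

/-!
# Closed immersions of relative Proj from homomorphisms surjective in positive degrees
(helper1 library)
-/

open CategoryTheory CategoryTheory.Limits AlgebraicGeometry Opposite TopologicalSpace
open HomogeneousLocalization
open scoped HomogeneousIdeal

universe u

namespace Groth.Agent.Helper1.RelProjCI

section Graded
variable {σ A : Type*} [CommRing A] [SetLike σ A] [AddSubgroupClass σ A] (𝒜 : ℕ → σ)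
  [GradedRing 𝒜]

/-- if `A` is generated by degrees `0` and `1`, then a homogeneous ideal containing `A₁` contains
the irrelevant ideal -/
theorem irrelevant_le_of_genDegOne
    (hgen : Subring.closure ((𝒜 0 : Set A) ∪ (𝒜 1 : Set A)) = ⊤)
    (I : Ideal A) (hhom : I.IsHomogeneous 𝒜) (h1 : ∀ a ∈ 𝒜 1, a ∈ I) :
    ((𝒜)₊).toIdeal ≤ I := by
  classical
  have hall : ∀ a : A, ∃ b ∈ 𝒜 0, a - b ∈ I := by
    intro a
    have ha : a ∈ Subring.closure ((𝒜 0 : Set A) ∪ (𝒜 1 : Set A)) := hgen ▸ Subring.mem_top a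
    induction ha using Subring.closure_induction with
    | mem x hx =>
      rcases hx with hx | hx
      · exact ⟨x, hx, by simp⟩
      · exact ⟨0, zero_mem _, by simpa using h1 x hx⟩
    | zero => exact ⟨0, zero_mem _, by simp⟩
    | one => exact ⟨1, SetLike.GradedOne.one_mem, by simp⟩
    | add x y _ _ hx hy =>
      obtain ⟨b, hb, hxb⟩ := hx
      obtain ⟨b', hb', hyb⟩ := hy
      refine ⟨b + b', add_mem hb hb', ?_⟩
      have : x + y - (b + b') = (x - b) + (y - b') := by ring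
      rw [this]; exact add_mem hxb hyb
    | neg x _ hx =>
      obtain ⟨b, hb, hxb⟩ := hx
      refine ⟨-b, neg_mem hb, ?_⟩
      have : -x - -b = -(x - b) := by ring
      rw [this]; exact neg_mem hxb
    | mul x y _ _ hx hy =>
      obtain ⟨b, hb, hxb⟩ := hx
      obtain ⟨b', hb', hyb⟩ := hy
      refine ⟨b * b', by simpa using SetLike.mul_mem_graded hb hb', ?_⟩
      have : x * y - b * b' = (x - b) * y + b * (y - b') := by ring
      rw [this]
      exact add_mem (Ideal.mul_mem_right _ _ hxb) (Ideal.mul_mem_left _ _ hyb)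
  rw [HomogeneousIdeal.toIdeal_irrelevant_le]
  intro i hi x hx
  obtain ⟨b, hb, hxb⟩ := hall x
  have h2 := hhom i hxb
  rw [DirectSum.decompose_sub, DirectSum.sub_apply, AddSubgroupClass.coe_sub,
    DirectSum.decompose_of_mem_same 𝒜 hx, DirectSum.decompose_of_mem_ne 𝒜 hb hi.ne, sub_zero] at h2
  exact h2

/-- if `A` is generated by degrees `0` and `1`, a subring containing `A₁` contains all elements
of positive degree -/
theorem mem_of_genDegOne
    (hgen : Subring.closure ((𝒜 0 : Set A) ∪ (𝒜 1 : Set A)) = ⊤)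
    (R' : Subring A) (h1 : ∀ a ∈ 𝒜 1, a ∈ R') {n : ℕ} (hn : 0 < n) {x : A} (hx : x ∈ 𝒜 n) :
    x ∈ R' := by
  classical
  -- the non-unital subring generated by `A₁`
  set K : NonUnitalSubring A := NonUnitalSubring.closure (𝒜 1 : Set A) with hK
  have hKR : ∀ z ∈ K, z ∈ R' := by
    intro z hz
    induction hz using NonUnitalSubring.closure_induction with
    | mem z hz => exact h1 z hz
    | zero => exact zero_mem _
    | add x y _ _ hx hy => exact add_mem hx hy
    | neg x _ hx => exact neg_mem hx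
    | mul x y _ _ hx hy => exact mul_mem hx hy
  have h0K : ∀ a ∈ 𝒜 0, ∀ z ∈ K, a * z ∈ K := by
    intro a ha z hz
    induction hz using NonUnitalSubring.closure_induction with
    | mem z hz =>
      exact NonUnitalSubring.subset_closure (by simpa using SetLike.mul_mem_graded ha hz)
    | zero => rw [mul_zero]; exact zero_mem _
    | add x y _ _ hx hy => rw [mul_add]; exact add_mem hx hy
    | neg x _ hx => rw [mul_neg]; exact neg_mem hx
    | mul x y _ hy hx _ => rw [← mul_assoc]; exact mul_mem hx hy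
  have hAK : ∀ a : A, ∀ z ∈ K, a * z ∈ K := by
    intro a
    have ha : a ∈ Subring.closure ((𝒜 0 : Set A) ∪ (𝒜 1 : Set A)) := hgen ▸ Subring.mem_top a
    induction ha using Subring.closure_induction with
    | mem x hx =>
      rcases hx with hx | hx
      · exact h0K x hx
      · exact fun z hz => mul_mem (NonUnitalSubring.subset_closure hx) hz
    | zero => intro z _; rw [zero_mul]; exact zero_mem _
    | one => intro z hz; rwa [one_mul]
    | add x y _ _ hx hy => intro z hz; rw [add_mul]; exact add_mem (hx z hz) (hy z hz)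
    | neg x _ hx => intro z hz; rw [neg_mul]; exact neg_mem (hx z hz)
    | mul x y _ _ hx hy => intro z hz; rw [mul_assoc]; exact hx _ (hy z hz)
  have hspan : ∀ z ∈ Ideal.span (𝒜 1 : Set A), z ∈ K := by
    intro z hz
    induction hz using Submodule.span_induction with
    | mem z hz => exact NonUnitalSubring.subset_closure hz
    | zero => exact zero_mem _
    | add x y _ _ hx hy => exact add_mem hx hy
    | smul a x _ hx => exact hAK a x hx
  have hirr := irrelevant_le_of_genDegOne 𝒜 hgen (Ideal.span (𝒜 1 : Set A))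
    (Ideal.homogeneous_span 𝒜 _ fun x hx => ⟨1, hx⟩) (fun a ha => Ideal.subset_span ha)
  exact hKR _ (hspan _ (hirr (HomogeneousIdeal.mem_irrelevant_of_mem 𝒜 hn hx)))

end Graded

section Graded2
variable {σ τ A B : Type*} [CommRing A] [SetLike σ A] [AddSubgroupClass σ A] {𝒜 : ℕ → σ}
  [GradedRing 𝒜] [CommRing B] [SetLike τ B] [AddSubgroupClass τ B] {ℬ : ℕ → τ} [GradedRing ℬ]

lemma awayMap_surjective' (f : 𝒜 →+*ᵍ ℬ)
    (hsurj : ∀ n, 0 < n → ∀ b ∈ ℬ n, ∃ a, f a = b) {d : ℕ} (hd : 0 < d) (s : A)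
    (hs : s ∈ 𝒜 d) : Function.Surjective (Away.map f s) := by
  classical
  intro z
  obtain ⟨n, b, hb, rfl⟩ := Away.mk_surjective ℬ (f.map_mem hs) z
  have hb' : b * f s ∈ ℬ ((n + 1) • d) := by
    have := SetLike.mul_mem_graded hb (f.map_mem hs)
    rwa [show n • d + d = (n + 1) • d by simp [add_mul]] at this
  have hz : Away.mk ℬ (f.map_mem hs) n b hb = Away.mk ℬ (f.map_mem hs) (n + 1) (b * f s) hb' := by
    apply HomogeneousLocalization.val_injective
    rw [Away.val_mk, Away.val_mk, Localization.mk_eq_mk_iff, Localization.r_iff_exists]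
    refine ⟨1, ?_⟩
    simp only [OneMemClass.coe_one, one_mul]
    change f s ^ (n + 1) * b = f s ^ n * (b * f s)
    ring
  obtain ⟨a₀, ha₀⟩ := hsurj ((n + 1) • d) (by simp only [smul_eq_mul]; positivity) _ hb'
  refine ⟨Away.mk 𝒜 hs (n + 1) (DirectSum.decompose 𝒜 a₀ ((n + 1) • d) : A) (SetLike.coe_mem _), ?_⟩
  rw [Away.map_mk, hz]
  congr 1
  rw [GradedRingHom.map_directSumDecompose, ha₀, DirectSum.decompose_of_mem_same ℬ hb']

end Graded2

section Univ
variable {σ τ A B : Type u} [CommRing A] [SetLike σ A] [AddSubgroupClass σ A] {𝒜 : ℕ → σ}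
  [GradedRing 𝒜] [CommRing B] [SetLike τ B] [AddSubgroupClass τ B] {ℬ : ℕ → τ} [GradedRing ℬ]

set_option backward.isDefEq.respectTransparency.types false in
theorem isClosedImmersion_map' (f : 𝒜 →+*ᵍ ℬ) (hf : (ℬ)₊ ≤ ((𝒜)₊).map f)
    (hsurj : ∀ n, 0 < n → ∀ b ∈ ℬ n, ∃ a, f a = b) : IsClosedImmersion (Proj.map f hf) := by
  refine IsZariskiLocalAtTarget.of_openCover (P := @IsClosedImmersion)
    (Proj.affineOpenCover 𝒜).openCover ?_
  rintro (s : Σ i : PNat, 𝒜 i)
  have sq := RelProjMap.isPullback_awayι f hf s.1.2 (s.2 : A) s.2.2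
  have hg : IsClosedImmersion (Spec.map (CommRingCat.ofHom (Away.map f (s.2 : A)))) :=
    IsClosedImmersion.spec_of_surjective _ (awayMap_surjective' f hsurj s.1.2 _ s.2.2)
  have h2 : IsClosedImmersion (sq.flip.isoPullback.inv ≫
      Spec.map (CommRingCat.ofHom (Away.map f (s.2 : A)))) := inferInstance
  rw [sq.flip.isoPullback_inv_snd] at h2
  exact h2

end Univ

section Rel
variable {Y PA PB : Scheme.{u}} {𝒜 ℬ : RelProj.QCGrAlg Y}
    (φ : 𝒜.toQCAlg ⟶ ℬ.toQCAlg) (hφ : RelProj.IsGradedHom φ)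
    (hirr : ∀ (U : Y.Opens) (hU : IsAffineOpen U),
      (ℬ.deg U hU)₊ ≤ ((𝒜.deg U hU)₊).map (RelProj.gradedHomAt φ hφ U hU))
    (pA : PA ⟶ Y) (pB : PB ⟶ Y)
    (chartA : ∀ (U : Y.Opens) (hU : IsAffineOpen U),
      (((pA ⁻¹ᵁ U : PA.Opens) : Scheme.{u}) ≅ Proj (𝒜.deg U hU)))
    (chartB : ∀ (U : Y.Opens) (hU : IsAffineOpen U),
      (((pB ⁻¹ᵁ U : PB.Opens) : Scheme.{u}) ≅ Proj (ℬ.deg U hU)))

include hφ hirr in
set_option backward.isDefEq.respectTransparency.types false in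
theorem isClosedImmersion'
    (hsurj : ∀ (U : Y.Opens) (hU : IsAffineOpen U) (n : ℕ), 0 < n → ∀ b ∈ ℬ.deg U hU n,
      ∃ a, (φ.hom.app (op U)).hom a = b)
    (hA : RelProj.IsRelProj 𝒜 pA chartA) (hB : RelProj.IsRelProj ℬ pB chartB)
    (h : PB ⟶ PA) (hh : RelProj.IsRelProjMap φ hφ hirr chartA chartB h) :
    IsClosedImmersion h := by
  have hcomp := RelProjMap.comp_eq φ hφ hirr pA pB chartA chartB hA hB h hh
  have hcov : ⨆ U : Y.affineOpens, pA ⁻¹ᵁ U.1 = ⊤ := by
    refine eq_top_iff.mpr fun x _ => ?_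
    have : pA x ∈ (⨆ i : Y.affineOpens, (i : Y.Opens)) := by
      rw [iSup_affineOpens_eq_top]; trivial
    obtain ⟨U, hU⟩ := Opens.mem_iSup.mp this
    exact Opens.mem_iSup.mpr ⟨U, hU⟩
  refine IsZariskiLocalAtTarget.of_iSup_eq_top (P := @IsClosedImmersion)
    (fun U : Y.affineOpens => pA ⁻¹ᵁ U.1) hcov fun U => ?_
  have hU : IsAffineOpen U.1 := U.2
  have hpre : h ⁻¹ᵁ (pA ⁻¹ᵁ U.1) = pB ⁻¹ᵁ U.1 := by
    rw [← Scheme.Hom.comp_preimage, hcomp]
  have key : h ∣_ (pA ⁻¹ᵁ U.1) = (PB.isoOfEq hpre).hom ≫ (chartB U.1 hU).hom ≫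
      Proj.map (RelProj.gradedHomAt φ hφ U.1 hU) (hirr U.1 hU) ≫ (chartA U.1 hU).inv := by
    rw [← cancel_mono (pA ⁻¹ᵁ U.1).ι]
    simp only [Category.assoc]
    rw [morphismRestrict_ι, ← hh U.1 hU, Scheme.isoOfEq_hom_ι_assoc]
  rw [key]
  have : IsClosedImmersion (Proj.map (RelProj.gradedHomAt φ hφ U.1 hU) (hirr U.1 hU)) :=
    isClosedImmersion_map' _ _ (hsurj U.1 hU)
  infer_instance

end Rel

section Sym
variable {Y PT PS : Scheme.{u}} (𝒮 𝒯 : RelProj.QCGrAlg Y)

theorem isClosedImmersion_into_projBundle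
    (hgen : 𝒮.IsGenDegOne) (M : Y.Modules)
    (u : M ⟶ 𝒮.toModule)
    (husurj : ∀ (U : Y.Opens) (hU : IsAffineOpen U) (s : 𝒮.presheaf.obj (op U)), s ∈ 𝒮.deg U hU 1 →
      ∃ x : Γ(M, U), (u.app U) x = s)
    (j : M ⟶ 𝒯.toModule)
    (ubar : 𝒯.toQCAlg ⟶ 𝒮.toQCAlg) (hubar : RelProj.IsGradedHom ubar)
    (hju : j ≫ RelSpec.QCAlg.Hom.toModuleMap ubar = u)
    (hirr : ∀ (U : Y.Opens) (hU : IsAffineOpen U),
      (𝒮.deg U hU)₊ ≤ ((𝒯.deg U hU)₊).map (RelProj.gradedHomAt ubar hubar U hU))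
    (pT : PT ⟶ Y) (pS : PS ⟶ Y)
    (chartT : ∀ (U : Y.Opens) (hU : IsAffineOpen U),
      (((pT ⁻¹ᵁ U : PT.Opens) : Scheme.{u}) ≅ Proj (𝒯.deg U hU)))
    (chartS : ∀ (U : Y.Opens) (hU : IsAffineOpen U),
      (((pS ⁻¹ᵁ U : PS.Opens) : Scheme.{u}) ≅ Proj (𝒮.deg U hU)))
    (hPT : RelProj.IsRelProj 𝒯 pT chartT) (hPS : RelProj.IsRelProj 𝒮 pS chartS)
    (h : PS ⟶ PT) (hh : RelProj.IsRelProjMap ubar hubar hirr chartT chartS h) :
    IsClosedImmersion h := by
  refine isClosedImmersion' ubar hubar hirr pT pS chartT chartS ?_ hPT hPS h hh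
  intro U hU n hn b hb
  have h1 : ∀ a ∈ 𝒮.deg U hU 1, a ∈ (ubar.hom.app (op U)).hom.range := by
    intro a ha
    obtain ⟨x, hx⟩ := husurj U hU a ha
    refine ⟨(j.app U) x, ?_⟩
    rw [← hx, ← hju]
    rfl
  exact mem_of_genDegOne (𝒮.deg U hU) (hgen U hU) _ h1 hn hb

end Sym

end Groth.Agent.Helper1.RelProjCI
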