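import Mathlib

set_option autoImplicit false

namespace Groth.Agent.Helper1.GrTransport

open scoped DirectSum

variable {A B σ : Type*} [CommRing A] [CommRing B] [SetLike σ A] [AddSubgroupClass σ A]
  (e : A ≃+* B) (𝒜 : ℕ → σ) [GradedRing 𝒜]

/-- the transported pieces -/
def mapPiece (n : ℕ) : AddSubgroup B := (AddSubgroup.ofClass (𝒜 n)).map (e : A →+ B)

omit [GradedRing 𝒜] in
theorem mem_mapPiece {n : ℕ} {b : B} : b ∈ mapPiece e 𝒜 n ↔ ∃ a ∈ 𝒜 n, e a = b := Iff.rfl

omit [GradedRing 𝒜] in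
theorem map_mem_mapPiece {n : ℕ} {a : A} (ha : a ∈ 𝒜 n) : e a ∈ mapPiece e 𝒜 n := ⟨a, ha, rfl⟩

omit [GradedRing 𝒜] in
theorem mem_mapPiece_iff {n : ℕ} {b : B} : b ∈ mapPiece e 𝒜 n ↔ e.symm b ∈ 𝒜 n := by
  constructor
  · rintro ⟨a, ha, rfl⟩
    change e.symm (e a) ∈ 𝒜 n
    rw [e.symm_apply_apply]
    exact ha
  · intro h
    exact ⟨_, h, e.apply_symm_apply b⟩

instance gradedMonoid : SetLike.GradedMonoid (mapPiece e 𝒜) where
  one_mem := ⟨1, SetLike.GradedOne.one_mem, map_one e⟩
  mul_mem := by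
    rintro i j _ _ ⟨a, ha, rfl⟩ ⟨b, hb, rfl⟩
    exact ⟨a * b, SetLike.GradedMul.mul_mem ha hb, map_mul e a b⟩

/-- the transported component maps -/
def compHom (n : ℕ) : 𝒜 n →+ mapPiece e 𝒜 n where
  toFun a := ⟨e (a : A), map_mem_mapPiece e 𝒜 a.2⟩
  map_zero' := Subtype.ext (map_zero e)
  map_add' a b := Subtype.ext (map_add e (a : A) (b : A))

/-- the transported decomposition -/
@[reducible] noncomputable def decomposition : DirectSum.Decomposition (mapPiece e 𝒜) :=
  DirectSum.Decomposition.ofAddHom (mapPiece e 𝒜)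
    ((DirectSum.map (compHom e 𝒜)).comp
      ((DirectSum.decomposeAddEquiv 𝒜).toAddMonoidHom.comp (e.symm : B →+ A)))
    (by
      ext b
      obtain ⟨a, rfl⟩ := e.surjective b
      simp only [AddMonoidHom.comp_apply, AddMonoidHom.id_apply]
      change DirectSum.coeAddMonoidHom (mapPiece e 𝒜)
        (DirectSum.map (compHom e 𝒜) (DirectSum.decompose 𝒜 (e.symm (e a)))) = e a
      rw [e.symm_apply_apply]
      have hcomm : (DirectSum.coeAddMonoidHom (mapPiece e 𝒜)).comp (DirectSum.map (compHom e 𝒜)) =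
          (e : A →+ B).comp (DirectSum.coeAddMonoidHom 𝒜) := by
        apply DirectSum.addHom_ext
        intro n x
        rw [AddMonoidHom.comp_apply, DirectSum.map_of, DirectSum.coeAddMonoidHom_of,
          AddMonoidHom.comp_apply, DirectSum.coeAddMonoidHom_of]
        rfl
      have := DFunLike.congr_fun hcomm (DirectSum.decompose 𝒜 a)
      rw [AddMonoidHom.comp_apply, AddMonoidHom.comp_apply] at this
      rw [this]
      change e ((DirectSum.decompose 𝒜).symm (DirectSum.decompose 𝒜 a)) = e a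
      rw [Equiv.symm_apply_apply])
    (by
      apply DirectSum.addHom_ext
      intro n x
      obtain ⟨x, a, ha, rfl⟩ := x
      simp only [AddMonoidHom.comp_apply, AddMonoidHom.id_apply, DirectSum.coeAddMonoidHom_of]
      change DirectSum.map (compHom e 𝒜) (DirectSum.decompose 𝒜 (e.symm (e a))) = _
      rw [e.symm_apply_apply, DirectSum.decompose_of_mem 𝒜 ha, DirectSum.map_of]
      rfl)

noncomputable instance gradedRing : GradedRing (mapPiece e 𝒜) :=
  { gradedMonoid e 𝒜, decomposition e 𝒜 with }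

theorem decompose_map (a : A) (n : ℕ) :
    ((DirectSum.decompose (mapPiece e 𝒜) (e a) n : mapPiece e 𝒜 n) : B) =
      e (DirectSum.decompose 𝒜 a n : A) := by
  change ((DirectSum.map (compHom e 𝒜) (DirectSum.decompose 𝒜 (e.symm (e a)))) n : B) = _
  rw [e.symm_apply_apply, DirectSum.map_apply]
  rfl

end Groth.Agent.Helper1.GrTransport
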