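import Mathlib
import Groth.Prelude.Def_RelProj2
import Groth.Agent.Lib.Helper1.SymCmp2
import Groth.Agent.Lib.Helper1.SymGrading
import Groth.Agent.Lib.Helper1.GrTransport

set_option autoImplicit false
universe u
open CategoryTheory CategoryTheory.Limits AlgebraicGeometry TopologicalSpace Opposite
open scoped HomogeneousIdeal

namespace Groth.Agent.Helper1.SymAlg

open Groth.Agent.Helper1.SymLoc Groth.Agent.Helper1.QcCech Groth.Agent.Helper1
open Groth.Agent.Helper1.SymGrading

section Alg
variable {R R' : Type*} [CommRing R] [CommRing R'] (ρ : R →+* R')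
  {M M' : Type*} [AddCommGroup M] [Module R M] [AddCommGroup M'] [Module R' M']
  (g : M →+ M') (hg : ∀ (r : R) (m : M), g (r • m) = ρ r • g m)

/-- `symMap` preserves degrees -/
theorem symMap_mem_piece {n : ℕ} {x : SymmetricAlgebra R M} (hx : x ∈ piece R M n) :
    symMap ρ g hg x ∈ piece R' M' n := by
  induction hx using Submodule.pow_induction_on_left' with
  | algebraMap r =>
    rw [symMap_algebraMap]
    change _ ∈ (LinearMap.range (SymmetricAlgebra.ι R' M')) ^ 0
    rw [pow_zero]
    exact Submodule.algebraMap_mem _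
  | add x y i hx hy ihx ihy =>
    rw [map_add]
    exact Submodule.add_mem _ ihx ihy
  | mem_mul m hm i x hx ih =>
    obtain ⟨m, rfl⟩ := hm
    rw [map_mul, symMap_ι]
    change _ ∈ (LinearMap.range (SymmetricAlgebra.ι R' M')) ^ (i + 1)
    rw [pow_succ']
    exact Submodule.mul_mem_mul ⟨_, rfl⟩ ih

end Alg

variable {S : Scheme.{u}} (E : S.Modules) [E.IsQuasicoherent]

/-- the identification of sections as a ring isomorphism -/
noncomputable def secEquiv (U : S.Opens) (hU : IsAffineOpen U) :
    SymSec E U ≃+* (symAlg E).presheaf.obj (op U) :=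
  RingEquiv.ofRingHom (secIso E U hU) (secIsoInv E U hU)
    (RingHom.ext (inv_secIso E U hU)) (RingHom.ext (secIso_inv E U hU))

theorem secEquiv_apply (U : S.Opens) (hU : IsAffineOpen U) (x : SymSec E U) :
    secEquiv E U hU x = secIso E U hU x := rfl

/-- compatibility of `secIso` with restriction between arbitrary affine opens -/
theorem secIso_res' {U V : S.Opens} (hU : IsAffineOpen U) (hV : IsAffineOpen V) (h : V ≤ U)
    (x : SymSec E U) :
    ((symAlg E).presheaf.map (homOfLE h).op).hom (secIso E U hU x) =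
      secIso E V hV (symRes E h x) := by
  let M := (symAlg E).toModule
  change (show Γ(M, V) from ((symAlg E).presheaf.map (homOfLE h).op).hom (secIso E U hU x)) =
    (show Γ(M, V) from secIso E V hV (symRes E h x))
  apply TwistSec.eq_of_locally M
  intro y hy
  obtain ⟨f, g, e, hyf⟩ := AffExt.exists_basic_both hU hV (h hy) hy
  have hWV : S.basicOpen f ≤ V := e ▸ S.basicOpen_le g
  refine ⟨S.basicOpen f, hWV, hyf, ?_⟩
  have key : ∀ (O : S.Opens) (hO : O = S.basicOpen g) (hOa : IsAffineOpen O) (hOV : O ≤ V)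
      (z : SymSec E V),
      ((symAlg E).presheaf.map (homOfLE hOV).op).hom (secIso E V hV z) =
        secIso E O hOa (symRes E hOV z) := by
    intro O hO hOa hOV z
    subst hO
    exact secIso_res E V hV g z
  change ((symAlg E).presheaf.map (homOfLE hWV).op).hom
      (((symAlg E).presheaf.map (homOfLE h).op).hom (secIso E U hU x)) =
    ((symAlg E).presheaf.map (homOfLE hWV).op).hom (secIso E V hV (symRes E h x))
  rw [key _ e (hU.basicOpen f) hWV]
  have h1 : ((symAlg E).presheaf.map (homOfLE hWV).op).hom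
      (((symAlg E).presheaf.map (homOfLE h).op).hom (secIso E U hU x)) =
      ((symAlg E).presheaf.map (homOfLE (S.basicOpen_le f)).op).hom (secIso E U hU x) := by
    change ((symAlg E).presheaf.map (homOfLE h).op ≫
      (symAlg E).presheaf.map (homOfLE hWV).op).hom _ = _
    rw [← Functor.map_comp]
    rfl
  rw [h1, secIso_res E U hU f x]
  congr 1
  have := symRes_comp E h hWV
  exact RingHom.congr_fun this x

/-- **the graded symmetric algebra** -/
noncomputable def symGr : RelProj.QCGrAlg S where
  toQCAlg := symAlg E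
  deg U hU n := GrTransport.mapPiece (secEquiv E U hU) (piece Γ(S, U) Γ(E, U)) n
  graded U hU := GrTransport.gradedRing (secEquiv E U hU) (piece Γ(S, U) Γ(E, U))
  map_mem := by
    rintro U V hU hV i d _ ⟨x, hx, rfl⟩
    change ((symAlg E).presheaf.map (homOfLE i).op).hom (secIso E U hU x) ∈ _
    rw [secIso_res' E hU hV i]
    exact ⟨_, symMap_mem_piece _ _ _ hx, rfl⟩
  str_mem U hU r := by
    refine ⟨algebraMap Γ(S, U) (SymSec E U) r, ?_, secIso_algebraMap E U hU r⟩
    change _ ∈ (LinearMap.range (SymmetricAlgebra.ι Γ(S, U) Γ(E, U))) ^ 0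
    rw [pow_zero]
    exact Submodule.algebraMap_mem _

theorem symGr_toQCAlg : (symGr E).toQCAlg = symAlg E := rfl

theorem mem_symGr_deg {U : S.Opens} {hU : IsAffineOpen U} {n : ℕ}
    {y : (symAlg E).presheaf.obj (op U)} :
    y ∈ (symGr E).deg U hU n ↔ ∃ x ∈ piece Γ(S, U) Γ(E, U) n, secIso E U hU x = y := Iff.rfl

/-- the canonical map into the graded symmetric algebra -/
noncomputable def jGr : E ⟶ (symGr E).toModule := j E

theorem isGrSymAlg : RelProj.IsGrSymAlg E (symGr E) (jGr E) := by
  refine ⟨isSymAlg E, fun U hU x => ?_⟩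
  refine ⟨SymmetricAlgebra.ι Γ(S, U) Γ(E, U) x, ?_, (j_app E U hU x).symm⟩
  change _ ∈ (LinearMap.range (SymmetricAlgebra.ι Γ(S, U) Γ(E, U))) ^ 1
  rw [pow_one]
  exact ⟨x, rfl⟩

theorem isGenDegOne : (symGr E).IsGenDegOne := by
  intro U hU
  rw [eq_top_iff]
  rintro y -
  obtain ⟨x, rfl⟩ : ∃ x, secIso E U hU x = y := ⟨_, inv_secIso E U hU y⟩
  induction x using SymmetricAlgebra.induction with
  | algebraMap r =>
    apply Subring.subset_closure
    left
    rw [secIso_algebraMap]
    exact (symGr E).str_mem U hU r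
  | ι m =>
    apply Subring.subset_closure
    right
    refine ⟨SymmetricAlgebra.ι Γ(S, U) Γ(E, U) m, ?_, rfl⟩
    change _ ∈ (LinearMap.range (SymmetricAlgebra.ι Γ(S, U) Γ(E, U))) ^ 1
    rw [pow_one]
    exact ⟨m, rfl⟩
  | mul a b ha hb => rw [map_mul]; exact Subring.mul_mem _ ha hb
  | add a b ha hb => rw [map_add]; exact Subring.add_mem _ ha hb

end Groth.Agent.Helper1.SymAlg
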