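import Mathlib
import Groth.Agent.Lib.Helper1.SymGr
import Groth.Agent.Lib.Helper1.RelProjCI
import Groth.Agent.Lib.Helper1.QCAlgQc

set_option autoImplicit false
universe u

open CategoryTheory CategoryTheory.Limits AlgebraicGeometry TopologicalSpace Opposite
open scoped HomogeneousIdeal

namespace Groth.Agent.Helper1.SymAlg

open Groth.Agent.Helper1.QcCech Groth.Agent.Helper1.SymGrading

set_option synthInstance.maxHeartbeats 400000

variable {S : Scheme.{u}} (E : S.Modules) [E.IsQuasicoherent] (𝒮 : RelProj.QCGrAlg S)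
  (u : E ⟶ 𝒮.toModule)
  (hu1 : ∀ (U : S.Opens) (hU : IsAffineOpen U) (x : Γ(E, U)), (u.app U) x ∈ 𝒮.deg U hU 1)

omit [E.IsQuasicoherent] in
include hu1 in
theorem liftAff_mem {U : S.Opens} (hU : IsAffineOpen U) {n : ℕ} {x : SymSec E U}
    (hx : x ∈ piece Γ(S, U) Γ(E, U) n) : liftAff E 𝒮.toQCAlg u U x ∈ 𝒮.deg U hU n := by
  induction hx using Submodule.pow_induction_on_left' with
  | algebraMap r => rw [liftAff_algebraMap]; exact 𝒮.str_mem U hU r
  | add x y i hx hy ihx ihy => rw [map_add]; exact add_mem ihx ihy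
  | mem_mul m hm i x hx ih =>
    obtain ⟨m, rfl⟩ := hm
    rw [map_mul, liftAff_ι]
    have := SetLike.mul_mem_graded (A := 𝒮.deg U hU) (hu1 U hU m) ih
    rw [add_comm] at this
    exact this

include hu1 in
/-- the algebra map out of the graded symmetric algebra induced by a map into degree one is
graded -/
theorem isGradedHom_lift :
    RelProj.IsGradedHom (𝒜 := symGr E) (ℬ := 𝒮) (lift E 𝒮.toQCAlg u) := by
  intro U hU d x hx
  obtain ⟨x', hx', rfl⟩ := hx
  have h := lift_app E 𝒮.toQCAlg u U hU (secIso E U hU x')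
  rw [secIso_inv] at h
  have h2 := liftAff_mem E 𝒮 u hu1 hU hx'
  rw [← h] at h2
  exact h2

include hu1 in
/-- with the target generated in degree one and the map onto degree one, the irrelevant ideal
condition holds -/
theorem hirr_lift (hgen : 𝒮.IsGenDegOne)
    (husurj : ∀ (U : S.Opens) (hU : IsAffineOpen U) (s : 𝒮.presheaf.obj (op U)), s ∈ 𝒮.deg U hU 1 →
      ∃ x : Γ(E, U), (u.app U) x = s)
    (U : S.Opens) (hU : IsAffineOpen U) :
    (𝒮.deg U hU)₊ ≤ (((symGr E).deg U hU)₊).map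
      (RelProj.gradedHomAt (𝒜 := symGr E) (ℬ := 𝒮) (lift E 𝒮.toQCAlg u)
        (isGradedHom_lift E 𝒮 u hu1) U hU) := by
  change ((𝒮.deg U hU)₊).toIdeal ≤ ((((symGr E).deg U hU)₊).map _).toIdeal
  apply RelProjCI.irrelevant_le_of_genDegOne (𝒮.deg U hU) (hgen U hU) _
    (HomogeneousIdeal.isHomogeneous _)
  intro a ha
  obtain ⟨x, rfl⟩ := husurj U hU a ha
  rw [HomogeneousIdeal.toIdeal_map]
  have h1 : @Eq (𝒮.presheaf.obj (op U)) ((u.app U) x)
      (RelProj.gradedHomAt (𝒜 := symGr E) (ℬ := 𝒮) (lift E 𝒮.toQCAlg u)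
        (isGradedHom_lift E 𝒮 u hu1) U hU
        (show (symAlg E).presheaf.obj (op U) from (jGr E).app U x)) := by
    have := congrArg (fun ψ => Scheme.Modules.Hom.app ψ U x) (j_lift E 𝒮.toQCAlg u)
    exact this.symm
  have h2 : (RelProj.gradedHomAt (𝒜 := symGr E) (ℬ := 𝒮) (lift E 𝒮.toQCAlg u)
        (isGradedHom_lift E 𝒮 u hu1) U hU
        (show (symAlg E).presheaf.obj (op U) from (jGr E).app U x)) ∈
      Ideal.map (RelProj.gradedHomAt (𝒜 := symGr E) (ℬ := 𝒮) (lift E 𝒮.toQCAlg u)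
        (isGradedHom_lift E 𝒮 u hu1) U hU) (((symGr E).deg U hU)₊).toIdeal :=
    Ideal.mem_map_of_mem _
      (HomogeneousIdeal.mem_irrelevant_of_mem _ one_pos ((isGrSymAlg E).2 U hU x))
  exact (congrArg (fun z => z ∈ Ideal.map (RelProj.gradedHomAt (𝒜 := symGr E) (ℬ := 𝒮)
    (lift E 𝒮.toQCAlg u) (isGradedHom_lift E 𝒮 u hu1) U hU)
    (((symGr E).deg U hU)₊).toIdeal) h1).mpr h2


section Pr
variable {S : Scheme.{u}} (𝒮 : RelProj.QCGrAlg S) (d : ℕ)

/-- the projection onto the degree-`d` part, on affine opens -/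
noncomputable def prFam : AffExt.Fam 𝒮.toModule 𝒮.toModule where
  f U hU x := (show Γ(𝒮.toModule, U) from
    ((DirectSum.decompose (𝒮.deg U hU) (show 𝒮.presheaf.obj (op U) from x) d : 𝒮.deg U hU d) :
      𝒮.presheaf.obj (op U)))
  hadd U hU a b := by
    change ((DirectSum.decompose (𝒮.deg U hU) ((show 𝒮.presheaf.obj (op U) from a) +
      (show 𝒮.presheaf.obj (op U) from b)) d : 𝒮.deg U hU d) : 𝒮.presheaf.obj (op U)) = _
    rw [DirectSum.decompose_add]
    rfl
  hsmul U hU r a := by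
    change ((DirectSum.decompose (𝒮.deg U hU) ((𝒮.str.app (op U)).hom r *
      (show 𝒮.presheaf.obj (op U) from a)) d : 𝒮.deg U hU d) : 𝒮.presheaf.obj (op U)) = _
    rw [DirectSum.coe_decompose_mul_of_left_mem_zero (𝒮.deg U hU) (𝒮.str_mem U hU r)]
    rfl
  hres U hU r a := by
    exact (GradedRingHom.map_directSumDecompose (𝒮.deg U hU)
      (𝒮.deg (S.basicOpen r) (hU.basicOpen r))
      (𝒮.res hU (hU.basicOpen r) (S.basicOpen_le r)) (x := (show 𝒮.presheaf.obj (op U) from a))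
      (i := d))

/-- the projection onto the degree-`d` part -/
noncomputable def pr : 𝒮.toModule ⟶ 𝒮.toModule := (prFam 𝒮 d).hom

theorem pr_app (U : S.Opens) (hU : IsAffineOpen U) (x : Γ(𝒮.toModule, U)) :
    (pr 𝒮 d).app U x = (show Γ(𝒮.toModule, U) from
      ((DirectSum.decompose (𝒮.deg U hU) (show 𝒮.presheaf.obj (op U) from x) d : 𝒮.deg U hU d) :
        𝒮.presheaf.obj (op U))) :=
  (prFam 𝒮 d).hom_app U hU x

theorem pr_mem (U : S.Opens) (hU : IsAffineOpen U) (x : Γ(𝒮.toModule, U)) :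
    (pr 𝒮 d).app U x ∈ 𝒮.deg U hU d := by
  rw [pr_app 𝒮 d U hU]
  exact SetLike.coe_mem _

theorem pr_surj (U : S.Opens) (hU : IsAffineOpen U) (s : 𝒮.presheaf.obj (op U))
    (hs : s ∈ 𝒮.deg U hU d) : ∃ x : Γ(𝒮.toModule, U), (pr 𝒮 d).app U x = s := by
  refine ⟨(show Γ(𝒮.toModule, U) from s), ?_⟩
  rw [pr_app 𝒮 d U hU]
  exact DirectSum.decompose_of_mem_same (𝒮.deg U hU) hs

end Pr

end Groth.Agent.Helper1.SymAlg
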