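import Mathlib
import Groth.Agent.Lib.Helper1.SymLift
import Groth.Agent.Lib.Helper1.CohRestr

set_option autoImplicit false
universe u

open CategoryTheory CategoryTheory.Limits AlgebraicGeometry TopologicalSpace Opposite
open scoped HomogeneousIdeal

/-!
# The degree-`d` piece of a graded quasi-coherent algebra, as a quasi-coherent module
-/

namespace Groth.Agent.Helper1.DegPiece

open Groth.Agent.Helper1 Groth.Agent.Helper1.SymAlg Groth.Agent.Helper1.QcCech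

variable {S : Scheme.{u}} (𝒮 : RelProj.QCGrAlg S) (d : ℕ)

/-- the degree-`d` piece -/
noncomputable def piece : S.Modules := kernel (𝟙 𝒮.toModule - pr 𝒮 d)

/-- its inclusion -/
noncomputable def ι : piece 𝒮 d ⟶ 𝒮.toModule := kernel.ι _

instance : Mono (ι 𝒮 d) := by
  unfold ι
  exact equalizer.ι_mono

instance : (piece 𝒮 d).IsQuasicoherent := by
  have : 𝒮.toModule.IsQuasicoherent := QCAlgQc.isQuasicoherent_toModule 𝒮.toQCAlg
  exact QcAbel.isQuasicoherent_kernel _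

theorem ι_injective (U : S.Opens) : Function.Injective ((ι 𝒮 d).app U) :=
  FtLocal.app_injective_of_mono (ι 𝒮 d) U

theorem ι_pr (U : S.Opens) (x : Γ(piece 𝒮 d, U)) :
    (pr 𝒮 d).app U ((ι 𝒮 d).app U x) = (ι 𝒮 d).app U x := by
  have h : ι 𝒮 d ≫ (𝟙 𝒮.toModule - pr 𝒮 d) = 0 := kernel.condition _
  have h2 := congrArg (fun ψ => Scheme.Modules.Hom.app ψ U x) h
  simp only [Scheme.Modules.Hom.comp_app, Scheme.Modules.Hom.sub_app, Scheme.Modules.Hom.zero_app,
    Scheme.Modules.Hom.id_app] at h2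
  have h3 : (ι 𝒮 d).app U x - (pr 𝒮 d).app U ((ι 𝒮 d).app U x) = 0 := h2
  exact (sub_eq_zero.1 h3).symm

theorem ι_mem (U : S.Opens) (hU : IsAffineOpen U) (x : Γ(piece 𝒮 d, U)) :
    (ι 𝒮 d).app U x ∈ 𝒮.deg U hU d := by
  rw [← ι_pr 𝒮 d U x]
  exact pr_mem 𝒮 d U hU _

theorem ι_surj (U : S.Opens) (hU : IsAffineOpen U) (s : 𝒮.presheaf.obj (op U))
    (hs : s ∈ 𝒮.deg U hU d) : ∃ x : Γ(piece 𝒮 d, U), (ι 𝒮 d).app U x = s := by
  let T : ShortComplex S.Modules :=
    ShortComplex.mk (ι 𝒮 d) (𝟙 𝒮.toModule - pr 𝒮 d) (kernel.condition _)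
  have hT : T.Exact := ShortComplex.exact_of_f_is_kernel _ (kernelIsKernel _)
  have : Mono T.f := inferInstanceAs (Mono (ι 𝒮 d))
  refine QcAbel.app_exact' (S := T) hT U (show Γ(𝒮.toModule, U) from s) ?_
  change (𝟙 𝒮.toModule - pr 𝒮 d).app U (show Γ(𝒮.toModule, U) from s) = 0
  rw [Scheme.Modules.Hom.sub_app]
  change (show Γ(𝒮.toModule, U) from s) - (pr 𝒮 d).app U (show Γ(𝒮.toModule, U) from s) = 0
  rw [pr_app 𝒮 d U hU, sub_eq_zero]
  exact (DirectSum.decompose_of_mem_same (𝒮.deg U hU) hs).symm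

theorem finite_sections (hft : 𝒮.IsFTDeg d) (U : S.Opens) (hU : IsAffineOpen U) :
    Module.Finite Γ(S, U) Γ(piece 𝒮 d, U) := by
  classical
  obtain ⟨T, hT, hspan⟩ := hft U hU
  have hex : ∀ t : T, ∃ x : Γ(piece 𝒮 d, U), (ι 𝒮 d).app U x = t.1 :=
    fun t => ι_surj 𝒮 d U hU t.1 (hT t.2)
  choose x hx using hex
  refine ⟨⟨Finset.univ.image x, ?_⟩⟩
  rw [eq_top_iff]
  rintro y -
  obtain ⟨c, hc⟩ := hspan _ (ι_mem 𝒮 d U hU y)
  have hy : y = ∑ t : T, c t.1 • x t := by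
    apply ι_injective 𝒮 d U
    rw [map_sum]
    refine hc.trans ?_
    rw [← Finset.sum_coe_sort T (fun t => (𝒮.str.app (op U)).hom (c t) * t)]
    refine Finset.sum_congr rfl fun t _ => ?_
    rw [Scheme.Modules.Hom.app_smul, hx t]
    rfl
  rw [hy]
  refine Submodule.sum_mem _ fun t _ => Submodule.smul_mem _ _ (Submodule.subset_span ?_)
  exact Finset.mem_coe.2 (Finset.mem_image_of_mem x (Finset.mem_univ t))

theorem isFiniteType (hft : 𝒮.IsFTDeg d) : CohB1.IsFT (piece 𝒮 d) :=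
  FinPush.isFiniteType_of_finite_sections _ (finite_sections 𝒮 d hft)

end Groth.Agent.Helper1.DegPiece
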