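import Groth.Agent.Lib.Helper1.RelCone5

/-!
# Projective cones: the canonical immersion is schematically dominant (helper1 library)
-/

universe u

open CategoryTheory CategoryTheory.Limits AlgebraicGeometry TopologicalSpace Opposite Polynomial
open scoped HomogeneousIdeal

namespace Groth.Agent.Helper1.RelCone6

section Ring
variable {A σ : Type*} [CommRing A] [SetLike σ A] [AddSubgroupClass σ A] (𝒜 : ℕ → σ) [GradedRing 𝒜]

theorem awayMap_injective {d e : ℕ} {f g x : A} (hf : f ∈ 𝒜 d) (hg : g ∈ 𝒜 e) (hx : x = f * g)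
    (hnz : ∀ a : A, a * g = 0 → a = 0) :
    Function.Injective (HomogeneousLocalization.awayMap 𝒜 hg hx) := by
  have hpow : ∀ (n : ℕ) (a : A), a * g ^ n = 0 → a = 0 := by
    intro n
    induction n with
    | zero => intro a h; simpa using h
    | succ n ih =>
      intro a h
      apply ih
      apply hnz
      rw [mul_assoc, ← pow_succ]; exact h
  rw [injective_iff_map_eq_zero]
  intro q hq
  obtain ⟨n, s, hs, rfl⟩ := HomogeneousLocalization.Away.mk_surjective 𝒜 hf q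
  rw [HomogeneousLocalization.awayMap_mk] at hq
  have h1 := congrArg HomogeneousLocalization.val hq
  rw [HomogeneousLocalization.Away.val_mk, HomogeneousLocalization.val_zero,
    Localization.mk_eq_mk', IsLocalization.mk'_eq_zero_iff] at h1
  obtain ⟨⟨_, m, rfl⟩, hm⟩ := h1
  have hm' : x ^ m * (s * g ^ n) = 0 := hm
  have h2 : f ^ m * s = 0 := by
    apply hpow (m + n)
    rw [← hm', hx, mul_pow, pow_add]; ring
  apply HomogeneousLocalization.val_injective
  rw [HomogeneousLocalization.Away.val_mk, HomogeneousLocalization.val_zero,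
    Localization.mk_eq_mk', IsLocalization.mk'_eq_zero_iff]
  exact ⟨⟨f ^ m, m, rfl⟩, h2⟩

end Ring

section Rel
variable {Y : Scheme.{u}} {𝒮 𝒮h : RelProj.QCGrAlg Y} {ι : 𝒮.toQCAlg ⟶ 𝒮h.toQCAlg}
  {z : 𝒮h.presheaf.obj (op ⊤)} (h : RelCone.IsPolyOver 𝒮 𝒮h ι z)
  (U : Y.Opens) (hU : IsAffineOpen U)

open RelCone3 RelCone4 RelCone5

include h hU in
theorem z_nonzerodiv (a : 𝒮h.presheaf.obj (op U)) (ha : a * RelCone.restrictTop 𝒮h z U = 0) :
    a = 0 := by
  obtain ⟨p, rfl⟩ := (h.bij U hU).2 a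
  have hX : eval₂RingHom (ι.hom.app (op U)).hom (RelCone.restrictTop 𝒮h z U) X =
      RelCone.restrictTop 𝒮h z U := eval₂_X _ _
  have h1 : eval₂RingHom (ι.hom.app (op U)).hom (RelCone.restrictTop 𝒮h z U) (p * X) = 0 := by
    rw [map_mul, hX]; exact ha
  have h2 : p * X = 0 := (h.bij U hU).1 (h1.trans (map_zero _).symm)
  have hp : p = 0 := (mul_right_mem_nonZeroDivisors_eq_zero_iff X_mem_nonzeroDivisors).mp h2
  rw [hp, map_zero]

section Top
variable {A σ : Type u} [CommRing A] [SetLike σ A] [AddSubgroupClass σ A] (𝒜 : ℕ → σ) [GradedRing 𝒜]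

theorem awayι_deg_irrel {f : A} {m m' : ℕ} (h1 : f ∈ 𝒜 m) (hm : 0 < m) (h2 : f ∈ 𝒜 m')
    (hm' : 0 < m') (e : m = m') : Proj.awayι 𝒜 f h1 hm = Proj.awayι 𝒜 f h2 hm' := by
  subst e; rfl

theorem isPullback_awayι {m m' : ℕ} {f g x : A} (f_deg : f ∈ 𝒜 m) (hm : 0 < m)
    (g_deg : g ∈ 𝒜 m') (hm' : 0 < m') (hx : x = f * g) :
    IsPullback (Spec.map (CommRingCat.ofHom (HomogeneousLocalization.awayMap 𝒜 g_deg hx)))
      (Spec.map (CommRingCat.ofHom
        (HomogeneousLocalization.awayMap 𝒜 f_deg (hx.trans (mul_comm _ _)))))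
      (Proj.awayι 𝒜 f f_deg hm) (Proj.awayι 𝒜 g g_deg hm') := by
  refine IsPullback.of_iso_pullback ⟨?_⟩ (Proj.pullbackAwayιIso 𝒜 f_deg hm g_deg hm' hx).symm
    ?_ ?_
  · rw [Proj.SpecMap_awayMap_awayι, Proj.SpecMap_awayMap_awayι]
    exact awayι_deg_irrel 𝒜 _ _ _ _ (add_comm _ _)
  · exact Proj.pullbackAwayιIso_inv_fst 𝒜 f_deg hm g_deg hm' hx
  · exact Proj.pullbackAwayιIso_inv_snd 𝒜 f_deg hm g_deg hm' hx

theorem ker_SpecMap_ideal_top {R S : CommRingCat.{u}} (ψ : R ⟶ S)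
    (hψ : Function.Injective ψ.hom) :
    (Spec.map ψ).ker.ideal ⟨⊤, isAffineOpen_top _⟩ = ⊥ := by
  rw [Scheme.Hom.ker_apply]
  rw [eq_bot_iff]
  intro a ha
  rw [RingHom.mem_ker] at ha
  have hnat := Scheme.ΓSpecIso_naturality ψ
  have h1 : ((Spec.map ψ).appTop ≫ (Scheme.ΓSpecIso S).hom) a = 0 := by
    rw [CommRingCat.comp_apply]
    have : (Spec.map ψ).appTop a = 0 := ha
    rw [this, map_zero]
  rw [hnat, CommRingCat.comp_apply] at h1
  have h2 : (Scheme.ΓSpecIso R).hom a = 0 := hψ (h1.trans (map_zero _).symm)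
  have h3 : Function.Injective (Scheme.ΓSpecIso R).hom :=
    (ConcreteCategory.bijective_of_isIso (Scheme.ΓSpecIso R).hom).1
  exact h3 (h2.trans (map_zero _).symm)

theorem eq_bot_of_comap_iso {R S : CommRingCat.{u}} (e : R ≅ S) (I : Ideal R)
    (hI : ⊥ = I.comap e.inv.hom) : I = ⊥ := by
  rw [eq_bot_iff]
  intro a ha
  have h1 : e.hom a ∈ I.comap e.inv.hom := by
    rw [Ideal.mem_comap]
    have : e.inv.hom (e.hom a) = a := by
      rw [← CommRingCat.comp_apply, Iso.hom_inv_id]; rfl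
    rw [this]
    exact ha
  rw [← hI] at h1
  have h2 : e.hom a = 0 := h1
  have h3 : Function.Injective e.hom := (ConcreteCategory.bijective_of_isIso e.hom).1
  exact h3 (h2.trans (map_zero _).symm)

end Top

variable {PC : Scheme.{u}} {pC : PC ⟶ Y}
  {chartC : ∀ (U : Y.Opens) (hU : IsAffineOpen U),
    (((pC ⁻¹ᵁ U : PC.Opens) : Scheme.{u}) ≅ Proj (𝒮h.deg U hU))}

/-- the inverse chart `Spec 𝒮h(U)_(z) ⟶ C` -/
noncomputable def κ :
    Spec (CommRingCat.of (HomogeneousLocalization.Away (𝒮h.deg U hU) (RelCone.restrictTop 𝒮h z U))) ⟶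
      𝒮.toQCAlg.spec :=
  Spec.map (CommRingCat.ofHom
    (RingEquiv.ofBijective _ (awayZToBase_bijective h U hU)).symm.toRingHom) ≫ 𝒮.toQCAlg.ι U hU

theorem SpecMap_symm_comp :
    Spec.map (CommRingCat.ofHom
      (RingEquiv.ofBijective _ (awayZToBase_bijective h U hU)).symm.toRingHom) ≫
      Spec.map (CommRingCat.ofHom (h.awayZToBase U hU)) = 𝟙 _ := by
  rw [← Spec.map_comp]
  have : CommRingCat.ofHom (h.awayZToBase U hU) ≫ CommRingCat.ofHom
      (RingEquiv.ofBijective _ (awayZToBase_bijective h U hU)).symm.toRingHom = 𝟙 _ := by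
    refine CommRingCat.hom_ext (RingHom.ext fun q => ?_)
    exact (RingEquiv.ofBijective _ (awayZToBase_bijective h U hU)).symm_apply_apply q
  rw [this, Spec.map_id]

theorem κ_comp (i : 𝒮.toQCAlg.spec ⟶ PC) (hi : RelCone.IsConeImm 𝒮 h pC chartC i) :
    κ h U hU ≫ i =
      Proj.awayι (𝒮h.deg U hU) (RelCone.restrictTop 𝒮h z U) (h.deg_z U hU) one_pos ≫
        RelProj.emb pC chartC U hU := by
  rw [κ, Category.assoc, hi U hU, reassoc_of% (SpecMap_symm_comp h U hU)]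

instance isIso_SpecMap_symm : IsIso (Spec.map (CommRingCat.ofHom
    (RingEquiv.ofBijective _ (awayZToBase_bijective h U hU)).symm.toRingHom)) := by
  have : IsIso (CommRingCat.ofHom
      (RingEquiv.ofBijective _ (awayZToBase_bijective h U hU)).symm.toRingHom) :=
    inferInstanceAs (IsIso
      (RingEquiv.ofBijective _ (awayZToBase_bijective h U hU)).symm.toCommRingCatIso.hom)
  infer_instance

instance isOpenImmersion_κ : IsOpenImmersion (κ h U hU) := by
  unfold κ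
  infer_instance

theorem isPullback_bottom (hPC : RelProj.IsRelProj 𝒮h pC chartC)
    (i : 𝒮.toQCAlg.spec ⟶ PC) (hi : RelCone.IsConeImm 𝒮 h pC chartC i) :
    IsPullback (Proj.awayι (𝒮h.deg U hU) (RelCone.restrictTop 𝒮h z U) (h.deg_z U hU) one_pos)
      (κ h U hU) (RelProj.emb pC chartC U hU) i := by
  have : IsOpenImmersion (RelProj.emb pC chartC U hU) := RelProj.isOpenImmersion_emb ..
  refine IsOpenImmersion.isPullback _ _ _ _ (κ_comp h U hU i hi) ?_
  rw [preimage_emb_opensRange h U hU hPC i hi]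
  unfold κ
  rw [Scheme.Hom.opensRange_comp_of_isIso]

/-- the affine open `emb_U (D_+(f))` of the projective cone -/
noncomputable def chartOpen {d : ℕ} (hd : 0 < d) (f : 𝒮h.presheaf.obj (op U))
    (hf : f ∈ 𝒮h.deg U hU d) : PC.affineOpens :=
  haveI : IsOpenImmersion (RelProj.emb pC chartC U hU) := RelProj.isOpenImmersion_emb ..
  ⟨(Proj.awayι (𝒮h.deg U hU) f hf hd ≫ RelProj.emb pC chartC U hU) ''ᵁ ⊤,
    (isAffineOpen_top _).image_of_isOpenImmersion _⟩

theorem ker_ideal_eq_bot (hPC : RelProj.IsRelProj 𝒮h pC chartC)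
    (i : 𝒮.toQCAlg.spec ⟶ PC) (hi : RelCone.IsConeImm 𝒮 h pC chartC i)
    {d : ℕ} (hd : 0 < d) (f : 𝒮h.presheaf.obj (op U)) (hf : f ∈ 𝒮h.deg U hU d) :
    i.ker.ideal (chartOpen (pC := pC) (chartC := chartC) U hU hd f hf) = ⊥ := by
  have : IsOpenImmersion (RelProj.emb pC chartC U hU) := RelProj.isOpenImmersion_emb ..
  have : IsAffineHom i := isAffineHom_coneImm h hPC i hi
  have htop := isPullback_awayι (𝒮h.deg U hU) hf hd (h.deg_z U hU) one_pos
    (rfl : f * RelCone.restrictTop 𝒮h z U = f * RelCone.restrictTop 𝒮h z U)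
  have hbot := isPullback_bottom h U hU hPC i hi
  have hpb := htop.paste_vert hbot
  have hk := Scheme.ker_ideal_of_isPullback_of_isOpenImmersion i _ _ _ hpb
    ⟨⊤, isAffineOpen_top _⟩
  rw [ker_SpecMap_ideal_top _ (awayMap_injective (𝒮h.deg U hU) hf (h.deg_z U hU) rfl
    (z_nonzerodiv h U hU))] at hk
  exact eq_bot_of_comap_iso _ _ hk

set_option backward.isDefEq.respectTransparency.types false in
theorem ker_coneImm (hPC : RelProj.IsRelProj 𝒮h pC chartC)
    (i : 𝒮.toQCAlg.spec ⟶ PC) (hi : RelCone.IsConeImm 𝒮 h pC chartC i) : i.ker = ⊥ := by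
  let Idx := Σ U : Y.affineOpens, Σ d : {d : ℕ // 0 < d}, {f // f ∈ 𝒮h.deg U.1 U.2 d}
  let W : Idx → PC.affineOpens := fun t =>
    chartOpen (pC := pC) (chartC := chartC) t.1.1 t.1.2 t.2.1.2 t.2.2.1 t.2.2.2
  refine Scheme.IdealSheafData.ext_of_iSup_eq_top W ?_ fun t => ?_
  · refine eq_top_iff.mpr fun c _ => ?_
    obtain ⟨U, (hU : IsAffineOpen U), hcU, -⟩ := Opens.isBasis_iff_nbhd.mp Y.isBasis_affineOpens
      (show pC c ∈ (⊤ : Y.Opens) from trivial)
    have hc' : c ∈ Set.range (RelProj.emb pC chartC U hU) := by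
      rw [range_emb]; exact hcU
    obtain ⟨x, rfl⟩ := hc'
    have hx := x.not_irrelevant_le
    rw [HomogeneousIdeal.irrelevant_le] at hx
    push Not at hx
    obtain ⟨d, hd, hx⟩ := hx
    obtain ⟨f, hf, hfx⟩ := SetLike.not_le_iff_exists.mp hx
    have hf' : f ∈ 𝒮h.deg U hU d := hf
    obtain ⟨y, rfl⟩ := (mem_range_awayι_iff (𝒮h.deg U hU) hf' hd x).mpr hfx
    refine Opens.mem_iSup.mpr ⟨⟨⟨U, hU⟩, ⟨d, hd⟩, ⟨f, hf'⟩⟩, ?_⟩
    exact ⟨y, trivial, rfl⟩
  · rw [ker_ideal_eq_bot h _ _ hPC i hi]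
    rfl

end Rel

end Groth.Agent.Helper1.RelCone6
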