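import Mathlib
import Groth.Agent.Lib.Helper1.RelCone6

/-!
# The morphism induced by a graded homomorphism on its domain of definition (helper1 library)
-/

universe u

open CategoryTheory CategoryTheory.Limits AlgebraicGeometry TopologicalSpace Opposite
open scoped HomogeneousIdeal

namespace Groth.Agent.Helper1.ProjDom

section Cat
variable {C : Type*} [Category C]

theorem isPullback_of_comp_mono {P X Y Z W : C} {fst : P ⟶ X} {snd : P ⟶ Y} {f : X ⟶ Z}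
    {g : Y ⟶ Z} (m : Z ⟶ W) [Mono m] (h : IsPullback fst snd (f ≫ m) (g ≫ m)) :
    IsPullback fst snd f g := by
  have hw : fst ≫ f = snd ≫ g := (cancel_mono m).mp (by simpa using h.w)
  refine ⟨⟨hw⟩, ⟨PullbackCone.IsLimit.mk _
    (fun s => h.lift s.fst s.snd (by rw [reassoc_of% s.condition])) ?_ ?_ ?_⟩⟩
  · intro s; exact h.lift_fst _ _ _
  · intro s; exact h.lift_snd _ _ _
  · intro s m' h1 h2
    apply h.hom_ext
    · rw [h1, h.lift_fst]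
    · rw [h2, h.lift_snd]

end Cat

section Ring
variable {A B σ τ : Type*} [CommRing A] [SetLike σ A] [AddSubgroupClass σ A] {𝒜 : ℕ → σ}
  [GradedRing 𝒜] [CommRing B] [SetLike τ B] [AddSubgroupClass τ B] {ℬ : ℕ → τ} [GradedRing ℬ]
  (φ : 𝒜 →+*ᵍ ℬ)

theorem awayMap_natural {d e : ℕ} {f g x : A} (hf : f ∈ 𝒜 d) (hg : g ∈ 𝒜 e) (hx : x = f * g)
    (hx' : φ x = φ f * φ g) :
    (HomogeneousLocalization.awayMap ℬ (φ.2 hg) hx').comp (HomogeneousLocalization.Away.map φ f) =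
      (HomogeneousLocalization.Away.map φ x).comp (HomogeneousLocalization.awayMap 𝒜 hg hx) := by
  refine RingHom.ext fun q => ?_
  obtain ⟨n, a, ha, rfl⟩ := HomogeneousLocalization.Away.mk_surjective 𝒜 hf q
  simp only [RingHom.comp_apply]
  rw [HomogeneousLocalization.Away.map_mk, HomogeneousLocalization.awayMap_mk,
    HomogeneousLocalization.awayMap_mk, HomogeneousLocalization.Away.map_mk]
  apply HomogeneousLocalization.val_injective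
  rw [HomogeneousLocalization.Away.val_mk, HomogeneousLocalization.Away.val_mk]
  congr 1
  rw [map_mul, map_pow]
  rfl

end Ring

section Geo
variable {A B σ τ : Type u} [CommRing A] [SetLike σ A] [AddSubgroupClass σ A] {𝒜 : ℕ → σ}
  [GradedRing 𝒜] [CommRing B] [SetLike τ B] [AddSubgroupClass τ B] {ℬ : ℕ → τ} [GradedRing ℬ]
  (φ : 𝒜 →+*ᵍ ℬ)

/-- homogeneous elements of positive degree -/
structure Idx (𝒜 : ℕ → σ) where
  d : ℕ
  hd : 0 < d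
  f : A
  hf : f ∈ 𝒜 d

/-- product of two homogeneous elements of positive degree -/
def Idx.mul (s t : Idx 𝒜) : Idx 𝒜 :=
  ⟨s.d + t.d, Nat.add_pos_left s.hd _, s.f * t.f, SetLike.mul_mem_graded s.hf t.hf⟩

/-- the chartwise morphism `Spec B_(φ f) ⟶ Spec A_(f) ⟶ Proj A` -/
noncomputable def gmap (t : Idx 𝒜) :
    Spec (CommRingCat.of (HomogeneousLocalization.Away ℬ (φ t.f))) ⟶ Proj 𝒜 :=
  Spec.map (CommRingCat.ofHom (HomogeneousLocalization.Away.map φ t.f)) ≫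
    Proj.awayι 𝒜 t.f t.hf t.hd

theorem gmap_compat_left (s t : Idx 𝒜) :
    Spec.map (CommRingCat.ofHom
      (HomogeneousLocalization.awayMap ℬ (φ.2 t.hf) (map_mul φ s.f t.f))) ≫ gmap φ s =
      gmap φ (s.mul t) := by
  unfold gmap
  rw [← Spec.map_comp_assoc, ← CommRingCat.ofHom_comp,
    awayMap_natural φ s.hf t.hf rfl (map_mul φ s.f t.f), CommRingCat.ofHom_comp,
    Spec.map_comp_assoc, Proj.SpecMap_awayMap_awayι]
  rfl

theorem gmap_compat_right (s t : Idx 𝒜) :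
    Spec.map (CommRingCat.ofHom
      (HomogeneousLocalization.awayMap ℬ (φ.2 s.hf)
        ((map_mul φ s.f t.f).trans (mul_comm _ _)))) ≫ gmap φ t =
      gmap φ (s.mul t) := by
  unfold gmap
  rw [← Spec.map_comp_assoc, ← CommRingCat.ofHom_comp,
    awayMap_natural φ t.hf s.hf (mul_comm s.f t.f) ((map_mul φ s.f t.f).trans (mul_comm _ _)),
    CommRingCat.ofHom_comp, Spec.map_comp_assoc, Proj.SpecMap_awayMap_awayι]
  congr 1

variable (W : (Proj ℬ).Opens)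
  (c : ∀ t : Idx 𝒜, Spec (CommRingCat.of (HomogeneousLocalization.Away ℬ (φ t.f))) ⟶
    (W : Scheme.{u}))

include φ in
theorem isOpenImmersion_chart
    (hc : ∀ t, c t ≫ W.ι = Proj.awayι ℬ (φ t.f) (φ.2 t.hf) t.hd) (t : Idx 𝒜) :
    IsOpenImmersion (c t) := by
  have : IsOpenImmersion (c t ≫ W.ι) := by rw [hc t]; infer_instance
  exact IsOpenImmersion.of_comp (c t) W.ι

/-- the cover of `W` by the charts -/
noncomputable def cov (hW : ∀ x : Proj ℬ, x ∈ W → ∃ t : Idx 𝒜, x ∈ Proj.basicOpen ℬ (φ t.f))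
    (hc : ∀ t, c t ≫ W.ι = Proj.awayι ℬ (φ t.f) (φ.2 t.hf) t.hd) :
    (W : Scheme.{u}).OpenCover where
  I₀ := Idx 𝒜
  X t := Spec (CommRingCat.of (HomogeneousLocalization.Away ℬ (φ t.f)))
  f t := c t
  mem₀ := by
    rw [Scheme.presieve₀_mem_precoverage_iff]
    refine ⟨fun x => ?_, fun t => isOpenImmersion_chart φ W c hc t⟩
    obtain ⟨t, ht⟩ := hW (W.ι x) x.2
    have : W.ι x ∈ Set.range (Proj.awayι ℬ (φ t.f) (φ.2 t.hf) t.hd) := by
      rw [RelCone3.mem_range_awayι_iff, ← Proj.mem_basicOpen]; exact ht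
    obtain ⟨y, hy⟩ := this
    refine ⟨t, y, ?_⟩
    apply W.ι.isOpenEmbedding.injective
    rw [← hy, ← hc t]
    rfl

theorem isPullback_chart (hc : ∀ t, c t ≫ W.ι = Proj.awayι ℬ (φ t.f) (φ.2 t.hf) t.hd)
    (s t : Idx 𝒜) :
    IsPullback
      (Spec.map (CommRingCat.ofHom
        (HomogeneousLocalization.awayMap ℬ (φ.2 t.hf) (map_mul φ s.f t.f))))
      (Spec.map (CommRingCat.ofHom
        (HomogeneousLocalization.awayMap ℬ (φ.2 s.hf)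
          ((map_mul φ s.f t.f).trans (mul_comm _ _)))))
      (c s) (c t) := by
  apply isPullback_of_comp_mono W.ι
  rw [hc s, hc t]
  exact RelCone6.isPullback_awayι ℬ (φ.2 s.hf) s.hd (φ.2 t.hf) t.hd (map_mul φ s.f t.f)

theorem existsUnique_map
    (hW : ∀ x : Proj ℬ, x ∈ W → ∃ t : Idx 𝒜, x ∈ Proj.basicOpen ℬ (φ t.f))
    (hc : ∀ t, c t ≫ W.ι = Proj.awayι ℬ (φ t.f) (φ.2 t.hf) t.hd) :
    ∃! p : (W : Scheme.{u}) ⟶ Proj 𝒜, ∀ t, c t ≫ p = gmap φ t := by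
  have hcompat : ∀ s t : (cov φ W c hW hc).I₀,
      pullback.fst ((cov φ W c hW hc).f s) ((cov φ W c hW hc).f t) ≫ gmap φ s =
        pullback.snd ((cov φ W c hW hc).f s) ((cov φ W c hW hc).f t) ≫ gmap φ t := by
    intro s t
    have hpb := isPullback_chart φ W c hc s t
    show pullback.fst (c s) (c t) ≫ gmap φ (s : Idx 𝒜) =
      pullback.snd (c s) (c t) ≫ gmap φ (t : Idx 𝒜)
    rw [← cancel_epi hpb.isoPullback.hom]
    have h1 : hpb.isoPullback.hom ≫ pullback.fst (c s) (c t) = _ := hpb.isoPullback_hom_fst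
    have h2 : hpb.isoPullback.hom ≫ pullback.snd (c s) (c t) = _ := hpb.isoPullback_hom_snd
    rw [reassoc_of% h1, reassoc_of% h2]
    exact (gmap_compat_left φ (s : Idx 𝒜) (t : Idx 𝒜)).trans
      (gmap_compat_right φ (s : Idx 𝒜) (t : Idx 𝒜)).symm
  refine ⟨(cov φ W c hW hc).glueMorphisms (gmap φ) hcompat, fun t => ?_, fun p hp => ?_⟩
  · exact (cov φ W c hW hc).ι_glueMorphisms (gmap φ) hcompat t
  · refine (cov φ W c hW hc).hom_ext _ _ fun t => ?_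
    rw [(cov φ W c hW hc).ι_glueMorphisms (gmap φ) hcompat t]
    exact hp t

theorem map_isLocalizationElem (s : Idx 𝒜) {e : ℕ} {g : A} (hg : g ∈ 𝒜 e) :
    HomogeneousLocalization.Away.map φ s.f
      (HomogeneousLocalization.Away.isLocalizationElem s.hf hg) =
      HomogeneousLocalization.Away.isLocalizationElem (φ.2 s.hf) (φ.2 hg) := by
  rw [HomogeneousLocalization.Away.isLocalizationElem, HomogeneousLocalization.Away.map_mk]
  apply HomogeneousLocalization.val_injective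
  rw [HomogeneousLocalization.Away.val_mk, HomogeneousLocalization.Away.val_mk]
  congr 1
  exact map_pow φ g s.d

theorem gmap_mem_basicOpen_iff (s : Idx 𝒜) {e : ℕ} (he : 0 < e) {g : A} (hg : g ∈ 𝒜 e)
    (y : Spec (CommRingCat.of (HomogeneousLocalization.Away ℬ (φ s.f)))) :
    gmap φ s y ∈ Proj.basicOpen 𝒜 g ↔
      Proj.awayι ℬ (φ s.f) (φ.2 s.hf) s.hd y ∈ Proj.basicOpen ℬ (φ g) := by
  refine Iff.trans ?_ (RelCone3.awayι_mem_basicOpen_iff ℬ (φ.2 s.hf) s.hd (φ.2 hg) he y).symm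
  have h1 : gmap φ s y = Proj.awayι 𝒜 s.f s.hf s.hd
      (Spec.map (CommRingCat.ofHom (HomogeneousLocalization.Away.map φ s.f)) y) := rfl
  rw [h1, RelCone3.awayι_mem_basicOpen_iff 𝒜 s.hf s.hd hg he, ← map_isLocalizationElem φ s hg]
  rfl

theorem map_mem_basicOpen_iff
    (hW : ∀ x : Proj ℬ, x ∈ W → ∃ t : Idx 𝒜, x ∈ Proj.basicOpen ℬ (φ t.f))
    (hc : ∀ t, c t ≫ W.ι = Proj.awayι ℬ (φ t.f) (φ.2 t.hf) t.hd)
    (p : (W : Scheme.{u}) ⟶ Proj 𝒜) (hp : ∀ t, c t ≫ p = gmap φ t)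
    {e : ℕ} (he : 0 < e) {g : A} (hg : g ∈ 𝒜 e) (w : (W : Scheme.{u})) :
    p w ∈ Proj.basicOpen 𝒜 g ↔ W.ι w ∈ Proj.basicOpen ℬ (φ g) := by
  obtain ⟨s, y, rfl⟩ := (cov φ W c hW hc).exists_eq w
  have h1 : p (c s y) = gmap φ s y := by rw [← hp s]; rfl
  have h2 : W.ι (c s y) = Proj.awayι ℬ (φ (s : Idx 𝒜).f) (φ.2 (s : Idx 𝒜).hf) (s : Idx 𝒜).hd y := by
    rw [← hc s]; rfl
  show p (c s y) ∈ _ ↔ W.ι (c s y) ∈ _
  rw [h1, h2]
  exact gmap_mem_basicOpen_iff φ s he hg y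

theorem preimage_basicOpen_eq
    (hW : ∀ x : Proj ℬ, x ∈ W → ∃ t : Idx 𝒜, x ∈ Proj.basicOpen ℬ (φ t.f))
    (hc : ∀ t, c t ≫ W.ι = Proj.awayι ℬ (φ t.f) (φ.2 t.hf) t.hd)
    (p : (W : Scheme.{u}) ⟶ Proj 𝒜) (hp : ∀ t, c t ≫ p = gmap φ t) (t : Idx 𝒜) :
    haveI := isOpenImmersion_chart φ W c hc t
    p ⁻¹ᵁ Proj.basicOpen 𝒜 t.f = (c t).opensRange := by
  have := isOpenImmersion_chart φ W c hc t
  ext w
  have h0 : w ∈ p ⁻¹ᵁ Proj.basicOpen 𝒜 t.f ↔ W.ι w ∈ Proj.basicOpen ℬ (φ t.f) :=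
    map_mem_basicOpen_iff φ W c hW hc p hp t.hd t.hf w
  have h1 : W.ι w ∈ Proj.basicOpen ℬ (φ t.f) ↔
      W.ι w ∈ Set.range (Proj.awayι ℬ (φ t.f) (φ.2 t.hf) t.hd) := by
    refine Iff.trans ?_ (RelCone3.mem_range_awayι_iff ℬ (φ.2 t.hf) t.hd (W.ι w)).symm
    exact Proj.mem_basicOpen ℬ _ _
  rw [SetLike.mem_coe, h0, h1]
  constructor
  · rintro ⟨y, hy⟩
    refine ⟨y, ?_⟩
    apply W.ι.isOpenEmbedding.injective
    rw [← hy, ← hc t]
    rfl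
  · rintro ⟨y, rfl⟩
    refine ⟨y, ?_⟩
    rw [← hc t]
    rfl

theorem isAffineHom_map
    (hW : ∀ x : Proj ℬ, x ∈ W → ∃ t : Idx 𝒜, x ∈ Proj.basicOpen ℬ (φ t.f))
    (hc : ∀ t, c t ≫ W.ι = Proj.awayι ℬ (φ t.f) (φ.2 t.hf) t.hd)
    (p : (W : Scheme.{u}) ⟶ Proj 𝒜) (hp : ∀ t, c t ≫ p = gmap φ t) : IsAffineHom p := by
  apply isAffineHom_of_forall_exists_isAffineOpen
  intro y
  have hy := y.not_irrelevant_le
  rw [HomogeneousIdeal.irrelevant_le] at hy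
  push Not at hy
  obtain ⟨d, hd, hy⟩ := hy
  obtain ⟨f, hf, hfy⟩ := SetLike.not_le_iff_exists.mp hy
  have hf' : f ∈ 𝒜 d := hf
  let t : Idx 𝒜 := ⟨d, hd, f, hf'⟩
  have := isOpenImmersion_chart φ W c hc t
  refine ⟨Proj.basicOpen 𝒜 f, (Proj.mem_basicOpen 𝒜 f y).mpr hfy,
    Proj.isAffineOpen_basicOpen 𝒜 f hf' hd, ?_⟩
  have := preimage_basicOpen_eq φ W c hW hc p hp t
  rw [this]
  exact isAffineOpen_opensRange (c t)

section Section
variable {C ρ : Type u} [CommRing C] [SetLike ρ C] [AddSubgroupClass ρ C] {𝒞 : ℕ → ρ}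
  [GradedRing 𝒞] (ψ : ℬ →+*ᵍ 𝒞)

theorem lift_comp_map (hψ : (𝒞)₊ ≤ ((ℬ)₊).map ψ) (hcomp : (𝒞)₊ ≤ ((𝒜)₊).map (ψ.comp φ))
    (hc : ∀ t, c t ≫ W.ι = Proj.awayι ℬ (φ t.f) (φ.2 t.hf) t.hd)
    (p : (W : Scheme.{u}) ⟶ Proj 𝒜) (hp : ∀ t, c t ≫ p = gmap φ t)
    (j : Proj 𝒞 ⟶ (W : Scheme.{u})) (hj : j ≫ W.ι = Proj.map ψ hψ) :
    j ≫ p = Proj.map (ψ.comp φ) hcomp := by
  refine (Proj.mapAffineOpenCover (ψ.comp φ) hcomp).openCover.hom_ext _ _ fun s => ?_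
  let t : Idx 𝒜 := ⟨s.1, s.1.2, s.2, s.2.2⟩
  have h0 : Proj.awayι 𝒞 (ψ (φ t.f)) (ψ.2 (φ.2 t.hf)) t.hd ≫ Proj.map (ψ.comp φ) hcomp =
      Spec.map (CommRingCat.ofHom (HomogeneousLocalization.Away.map (ψ.comp φ) t.f)) ≫
        Proj.awayι 𝒜 t.f t.hf t.hd :=
    Proj.awayι_comp_map (ψ.comp φ) hcomp t.hd t.f t.hf
  have h1 : Proj.awayι 𝒞 (ψ (φ t.f)) (ψ.2 (φ.2 t.hf)) t.hd ≫ j =
      Spec.map (CommRingCat.ofHom (HomogeneousLocalization.Away.map ψ (φ t.f))) ≫ c t := by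
    refine (cancel_mono W.ι).mp ?_
    rw [Category.assoc, Category.assoc, hj, hc t]
    exact Proj.awayι_comp_map ψ hψ t.hd (φ t.f) (φ.2 t.hf)
  show Proj.awayι 𝒞 (ψ (φ t.f)) (ψ.2 (φ.2 t.hf)) t.hd ≫ j ≫ p =
    Proj.awayι 𝒞 (ψ (φ t.f)) (ψ.2 (φ.2 t.hf)) t.hd ≫ Proj.map (ψ.comp φ) hcomp
  rw [h0, reassoc_of% h1, hp t, gmap, ← Spec.map_comp_assoc, ← CommRingCat.ofHom_comp]
  congr 3
  exact (HomogeneousLocalization.Away.map_comp φ ψ t.f).symm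

omit c in
theorem range_map_subset (hψ : (𝒞)₊ ≤ ((ℬ)₊).map ψ) (hcomp : (𝒞)₊ ≤ ((𝒜)₊).map (ψ.comp φ))
    (hW' : ∀ x : Proj ℬ, (∃ t : Idx 𝒜, x ∈ Proj.basicOpen ℬ (φ t.f)) → x ∈ W) :
    Set.range (Proj.map ψ hψ).base ⊆ Set.range W.ι.base := by
  rw [Scheme.Opens.range_ι]
  rintro _ ⟨x', rfl⟩
  apply hW'
  by_contra hne
  push Not at hne
  apply x'.not_irrelevant_le
  refine hcomp.trans ?_
  rw [HomogeneousIdeal.map_le_iff_le_comap, HomogeneousIdeal.irrelevant_le]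
  intro i hi f hf
  have hf' : f ∈ 𝒜 i := hf
  have := hne ⟨i, hi, f, hf'⟩
  rw [Proj.mem_basicOpen, not_not] at this
  exact this

end Section

end Geo

end Groth.Agent.Helper1.ProjDom
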