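import Mathlib
import Groth.Agent.Lib.Helper1.ProjDom

/-!
# Functoriality of the partially defined morphism of a graded homomorphism (helper1 library)
-/

universe u

open CategoryTheory CategoryTheory.Limits AlgebraicGeometry TopologicalSpace Opposite
open scoped HomogeneousIdeal

namespace Groth.Agent.Helper1.ProjDom

section
variable {A B σ τ : Type u} [CommRing A] [SetLike σ A] [AddSubgroupClass σ A] {𝒜 : ℕ → σ}
  [GradedRing 𝒜] [CommRing B] [SetLike τ B] [AddSubgroupClass τ B] {ℬ : ℕ → τ} [GradedRing ℬ]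

/-- the chart property does not depend on the presentation of the graded homomorphism -/
theorem chart_congr {φ₁ φ₂ : 𝒜 →+*ᵍ ℬ} (h : φ₁ = φ₂) (W : (Proj ℬ).Opens)
    (c₁ : ∀ t : Idx 𝒜, Spec (CommRingCat.of (HomogeneousLocalization.Away ℬ (φ₁ t.f))) ⟶
      (W : Scheme.{u}))
    (c₂ : ∀ t : Idx 𝒜, Spec (CommRingCat.of (HomogeneousLocalization.Away ℬ (φ₂ t.f))) ⟶
      (W : Scheme.{u}))
    (hc₁ : ∀ t, c₁ t ≫ W.ι = Proj.awayι ℬ (φ₁ t.f) (φ₁.2 t.hf) t.hd)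
    (hc₂ : ∀ t, c₂ t ≫ W.ι = Proj.awayι ℬ (φ₂ t.f) (φ₂.2 t.hf) t.hd)
    (p : (W : Scheme.{u}) ⟶ Proj 𝒜) (hp : ∀ t, c₁ t ≫ p = gmap φ₁ t) :
    ∀ t, c₂ t ≫ p = gmap φ₂ t := by
  subst h
  intro t
  have : c₂ t = c₁ t := by
    rw [← cancel_mono W.ι, hc₁, hc₂]
  rw [this, hp t]

variable (φ : 𝒜 →+*ᵍ ℬ)

section Pre
variable {A' σ' : Type u} [CommRing A'] [SetLike σ' A'] [AddSubgroupClass σ' A'] {𝒜' : ℕ → σ'}
  [GradedRing 𝒜'] (α : 𝒜' →+*ᵍ 𝒜) (hα : (𝒜)₊ ≤ ((𝒜')₊).map α)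

/-- precomposition: `p_φ ≫ Proj.map α` is the morphism of `φ ∘ α` -/
theorem map_comp_pre (W : (Proj ℬ).Opens)
    (c : ∀ t : Idx 𝒜, Spec (CommRingCat.of (HomogeneousLocalization.Away ℬ (φ t.f))) ⟶
      (W : Scheme.{u}))
    (p : (W : Scheme.{u}) ⟶ Proj 𝒜) (hp : ∀ t, c t ≫ p = gmap φ t) (t : Idx 𝒜') :
    c ⟨t.d, t.hd, α t.f, α.2 t.hf⟩ ≫ p ≫ Proj.map α hα = gmap (φ.comp α) t := by
  rw [reassoc_of% (hp ⟨t.d, t.hd, α t.f, α.2 t.hf⟩), gmap, gmap, Category.assoc]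
  have := Proj.awayι_comp_map α hα t.hd t.f t.hf
  rw [this, ← Spec.map_comp_assoc, ← CommRingCat.ofHom_comp]
  congr 3
  exact (HomogeneousLocalization.Away.map_comp α φ t.f).symm

end Pre

section Post
variable {B' τ' : Type u} [CommRing B'] [SetLike τ' B'] [AddSubgroupClass τ' B'] {ℬ' : ℕ → τ'}
  [GradedRing ℬ'] (β : ℬ →+*ᵍ ℬ') (hβ : (ℬ')₊ ≤ ((ℬ)₊).map β)

/-- postcomposition: `ρ ≫ p_φ` is the morphism of `β ∘ φ` -/
theorem map_comp_post (W : (Proj ℬ).Opens) (W' : (Proj ℬ').Opens)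
    (c : ∀ t : Idx 𝒜, Spec (CommRingCat.of (HomogeneousLocalization.Away ℬ (φ t.f))) ⟶
      (W : Scheme.{u}))
    (hc : ∀ t, c t ≫ W.ι = Proj.awayι ℬ (φ t.f) (φ.2 t.hf) t.hd)
    (p : (W : Scheme.{u}) ⟶ Proj 𝒜) (hp : ∀ t, c t ≫ p = gmap φ t)
    (ρ : (W' : Scheme.{u}) ⟶ (W : Scheme.{u})) (hρ : ρ ≫ W.ι = W'.ι ≫ Proj.map β hβ)
    (c' : ∀ t : Idx 𝒜, Spec (CommRingCat.of (HomogeneousLocalization.Away ℬ' (β (φ t.f)))) ⟶
      (W' : Scheme.{u}))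
    (hc' : ∀ t, c' t ≫ W'.ι = Proj.awayι ℬ' (β (φ t.f)) (β.2 (φ.2 t.hf)) t.hd)
    (t : Idx 𝒜) :
    c' t ≫ ρ ≫ p =
      Spec.map (CommRingCat.ofHom (HomogeneousLocalization.Away.map β (φ t.f))) ≫ gmap φ t := by
  have h1 : c' t ≫ ρ =
      Spec.map (CommRingCat.ofHom (HomogeneousLocalization.Away.map β (φ t.f))) ≫ c t := by
    refine (cancel_mono W.ι).mp ?_
    rw [Category.assoc, Category.assoc, hρ, reassoc_of% (hc' t), hc t]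
    exact Proj.awayι_comp_map β hβ t.hd (φ t.f) (φ.2 t.hf)
  rw [reassoc_of% h1, hp t]

theorem gmap_comp (t : Idx 𝒜) :
    Spec.map (CommRingCat.ofHom (HomogeneousLocalization.Away.map β (φ t.f))) ≫ gmap φ t =
      gmap (β.comp φ) t := by
  rw [gmap, gmap, ← Spec.map_comp_assoc, ← CommRingCat.ofHom_comp]
  congr 3
  exact (HomogeneousLocalization.Away.map_comp φ β t.f).symm

end Post

end

end Groth.Agent.Helper1.ProjDom
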