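import Mathlib
import Groth.Prelude.Def_RelProj4
import Groth.Agent.Lib.Helper1.ProjDom2
import Groth.Agent.Lib.Helper1.RelProjGlue
import Groth.Agent.Lib.Helper1.RelProjMap

/-!
# Gluing locally compatible morphisms; the canonical morphism on `G(φ)` at ring level
(helper1 library)
-/

universe u

open CategoryTheory CategoryTheory.Limits AlgebraicGeometry TopologicalSpace Opposite
open scoped HomogeneousIdeal

namespace Groth.Agent.Helper1.ProjQ

section Glue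

variable {X Z : Scheme.{u}} (G : X.Opens) {I : Type u} (Xi : I → Scheme.{u})
    (j : ∀ i, Xi i ⟶ X) [∀ i, IsOpenImmersion (j i)]
    (hjG : ∀ i, Set.range (j i).base ⊆ Set.range G.ι.base)
    (hG : ∀ x ∈ G, ∃ i, x ∈ Set.range (j i).base)

include hjG in
theorem isOpenImmersion_lift (i : I) :
    IsOpenImmersion (IsOpenImmersion.lift G.ι (j i) (hjG i)) := by
  have : IsOpenImmersion (IsOpenImmersion.lift G.ι (j i) (hjG i) ≫ G.ι) := by
    rw [IsOpenImmersion.lift_fac]; infer_instance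
  exact IsOpenImmersion.of_comp _ G.ι

/-- the cover of `G` by the `Xi` -/
noncomputable def gcov : (G : Scheme.{u}).OpenCover where
  I₀ := I
  X i := Xi i
  f i := IsOpenImmersion.lift G.ι (j i) (hjG i)
  mem₀ := by
    rw [Scheme.presieve₀_mem_precoverage_iff]
    refine ⟨fun x => ?_, fun i => isOpenImmersion_lift G Xi j hjG i⟩
    obtain ⟨i, y, hy⟩ := hG (G.ι x) x.2
    refine ⟨i, y, ?_⟩
    apply G.ι.isOpenEmbedding.injective
    rw [← hy, ← Scheme.Hom.comp_apply, IsOpenImmersion.lift_fac]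

variable (n : ∀ i, Xi i ⟶ Z)

include hG in
theorem exists_glue
    (hdir : ∀ i i' (a : Xi i) (a' : Xi i'), j i a = j i' a' →
      ∃ (k : I) (b : Xi k) (ρ : Xi k ⟶ Xi i) (ρ' : Xi k ⟶ Xi i'), j k b = j i a ∧
        ρ ≫ j i = j k ∧ ρ' ≫ j i' = j k ∧ ρ ≫ n i = n k ∧ ρ' ≫ n i' = n k) :
    ∃! v : (G : Scheme.{u}) ⟶ Z, ∀ i, IsOpenImmersion.lift G.ι (j i) (hjG i) ≫ v = n i := by
  have hcompat : ∀ i i' : (gcov G Xi j hjG hG).I₀,
      pullback.fst ((gcov G Xi j hjG hG).f i) ((gcov G Xi j hjG hG).f i') ≫ n i =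
        pullback.snd ((gcov G Xi j hjG hG).f i) ((gcov G Xi j hjG hG).f i') ≫ n i' := by
    intro (i : I) (i' : I)
    show pullback.fst (IsOpenImmersion.lift G.ι (j i) (hjG i))
        (IsOpenImmersion.lift G.ι (j i') (hjG i')) ≫ n i =
      pullback.snd (IsOpenImmersion.lift G.ι (j i) (hjG i))
        (IsOpenImmersion.lift G.ι (j i') (hjG i')) ≫ n i'
    have hi := isOpenImmersion_lift G Xi j hjG i
    have hi' := isOpenImmersion_lift G Xi j hjG i'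
    refine RelProjGlue.hom_ext_of_local' _ _ fun w => ?_
    have haa' : j i (pullback.fst (IsOpenImmersion.lift G.ι (j i) (hjG i))
        (IsOpenImmersion.lift G.ι (j i') (hjG i')) w) =
        j i' (pullback.snd (IsOpenImmersion.lift G.ι (j i) (hjG i))
        (IsOpenImmersion.lift G.ι (j i') (hjG i')) w) := by
      have h1 : ∀ y, j i y = (IsOpenImmersion.lift G.ι (j i) (hjG i) ≫ G.ι) y := fun y => by
        rw [IsOpenImmersion.lift_fac]
      have h2 : ∀ y, j i' y = (IsOpenImmersion.lift G.ι (j i') (hjG i') ≫ G.ι) y := fun y => by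
        rw [IsOpenImmersion.lift_fac]
      rw [h1, h2, ← Scheme.Hom.comp_apply, ← Scheme.Hom.comp_apply,
        pullback.condition_assoc]
    obtain ⟨k, b, ρ, ρ', hb, h1, h2, h3, h4⟩ := hdir i i' _ _ haa'
    have hcond : ρ ≫ IsOpenImmersion.lift G.ι (j i) (hjG i) =
        ρ' ≫ IsOpenImmersion.lift G.ι (j i') (hjG i') := by
      rw [← cancel_mono G.ι, Category.assoc, Category.assoc, IsOpenImmersion.lift_fac,
        IsOpenImmersion.lift_fac, h1, h2]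
    have hρ : IsOpenImmersion ρ := by
      have : IsOpenImmersion (ρ ≫ j i) := by rw [h1]; infer_instance
      exact IsOpenImmersion.of_comp ρ (j i)
    refine ⟨Xi k, pullback.lift ρ ρ' hcond, ?_, ⟨b, ?_⟩, ?_⟩
    · have : IsOpenImmersion (pullback.lift ρ ρ' hcond ≫
          pullback.fst (IsOpenImmersion.lift G.ι (j i) (hjG i))
            (IsOpenImmersion.lift G.ι (j i') (hjG i'))) := by
        rw [pullback.lift_fst]; exact hρ
      exact IsOpenImmersion.of_comp _ (pullback.fst (IsOpenImmersion.lift G.ι (j i) (hjG i))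
            (IsOpenImmersion.lift G.ι (j i') (hjG i')))
    · apply (pullback.fst (IsOpenImmersion.lift G.ι (j i) (hjG i))
            (IsOpenImmersion.lift G.ι (j i') (hjG i')) ≫ j i).isOpenEmbedding.injective
      rw [← Scheme.Hom.comp_apply, pullback.lift_fst_assoc, h1, hb]
      rfl
    · rw [pullback.lift_fst_assoc, pullback.lift_snd_assoc, h3, h4]
  refine ⟨(gcov G Xi j hjG hG).glueMorphisms n hcompat, fun i => ?_, fun v hv => ?_⟩
  · exact (gcov G Xi j hjG hG).ι_glueMorphisms n hcompat i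
  · refine (gcov G Xi j hjG hG).hom_ext _ _ fun i => ?_
    rw [(gcov G Xi j hjG hG).ι_glueMorphisms n hcompat i]
    exact hv i

include hG in
theorem hom_ext {v v' : (G : Scheme.{u}) ⟶ Z}
    (h : ∀ i, IsOpenImmersion.lift G.ι (j i) (hjG i) ≫ v =
      IsOpenImmersion.lift G.ι (j i) (hjG i) ≫ v') : v = v' :=
  (gcov G Xi j hjG hG).hom_ext _ _ h

end Glue

section Ring

open ProjDom

variable {A B σ τ : Type u} [CommRing A] [SetLike σ A] [AddSubgroupClass σ A] {𝒜 : ℕ → σ}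
  [GradedRing 𝒜] [CommRing B] [SetLike τ B] [AddSubgroupClass τ B] {ℬ : ℕ → τ} [GradedRing ℬ]
  (φ : 𝒜 →+*ᵍ ℬ)

theorem mem_domOpen_iff (x : Proj ℬ) :
    x ∈ RelCone.domOpen φ ↔ ∃ t : Idx 𝒜, x ∈ Proj.basicOpen ℬ (φ t.f) := by
  rw [RelCone.mem_domOpen]
  constructor
  · rintro ⟨f, hf, hfx⟩
    by_contra hcon
    push Not at hcon
    apply hfx
    classical
    rw [← DirectSum.sum_support_decompose 𝒜 f, map_sum]
    refine Ideal.sum_mem _ fun i _ => ?_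
    rcases Nat.eq_zero_or_pos i with rfl | hi
    · have h0 : (DirectSum.decompose 𝒜 f 0 : A) = 0 := by
        have := (HomogeneousIdeal.mem_irrelevant_iff 𝒜 f).mp hf
        simpa [GradedRing.proj_apply] using this
      rw [h0, map_zero]
      exact Ideal.zero_mem _
    · have := hcon ⟨i, hi, (DirectSum.decompose 𝒜 f i : A), SetLike.coe_mem _⟩
      rw [Proj.mem_basicOpen, not_not] at this
      exact this
  · rintro ⟨t, ht⟩
    exact ⟨t.f, HomogeneousIdeal.mem_irrelevant_of_mem _ t.hd t.hf,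
      (Proj.mem_basicOpen ℬ _ _).mp ht⟩

theorem range_awayι_subset (t : Idx 𝒜) :
    Set.range (Proj.awayι ℬ (φ t.f) (φ.2 t.hf) t.hd).base ⊆
      Set.range (RelCone.domOpen φ).ι.base := by
  rw [Scheme.Opens.range_ι]
  rintro _ ⟨y, rfl⟩
  rw [SetLike.mem_coe, mem_domOpen_iff]
  refine ⟨t, ?_⟩
  rw [Proj.mem_basicOpen]
  exact (RelCone3.mem_range_awayι_iff ℬ (φ.2 t.hf) t.hd _).mp ⟨y, rfl⟩

/-- the standard charts of `G(φ)` -/
noncomputable def ch (t : Idx 𝒜) :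
    Spec (CommRingCat.of (HomogeneousLocalization.Away ℬ (φ t.f))) ⟶
      ((RelCone.domOpen φ : (Proj ℬ).Opens) : Scheme.{u}) :=
  IsOpenImmersion.lift (RelCone.domOpen φ).ι (Proj.awayι ℬ (φ t.f) (φ.2 t.hf) t.hd)
    (range_awayι_subset φ t)

theorem ch_ι (t : Idx 𝒜) :
    ch φ t ≫ (RelCone.domOpen φ).ι = Proj.awayι ℬ (φ t.f) (φ.2 t.hf) t.hd :=
  IsOpenImmersion.lift_fac _ _ _

theorem exists_idx_of_mem (x : Proj ℬ) (hx : x ∈ RelCone.domOpen φ) :
    ∃ t : Idx 𝒜, x ∈ Proj.basicOpen ℬ (φ t.f) := (mem_domOpen_iff φ x).mp hx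

/-- the canonical morphism `G(φ) ⟶ Proj 𝒜` -/
noncomputable def dmap : ((RelCone.domOpen φ : (Proj ℬ).Opens) : Scheme.{u}) ⟶ Proj 𝒜 :=
  (existsUnique_map φ (RelCone.domOpen φ) (ch φ) (exists_idx_of_mem φ) (ch_ι φ)).exists.choose

theorem ch_dmap (t : Idx 𝒜) : ch φ t ≫ dmap φ = gmap φ t :=
  (existsUnique_map φ (RelCone.domOpen φ) (ch φ) (exists_idx_of_mem φ)
    (ch_ι φ)).exists.choose_spec t

theorem dmap_unique (p : ((RelCone.domOpen φ : (Proj ℬ).Opens) : Scheme.{u}) ⟶ Proj 𝒜)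
    (hp : ∀ t, ch φ t ≫ p = gmap φ t) : p = dmap φ :=
  (existsUnique_map φ (RelCone.domOpen φ) (ch φ) (exists_idx_of_mem φ) (ch_ι φ)).unique hp
    (ch_dmap φ)

theorem isAffineHom_dmap : IsAffineHom (dmap φ) :=
  isAffineHom_map φ (RelCone.domOpen φ) (ch φ) (exists_idx_of_mem φ) (ch_ι φ) (dmap φ) (ch_dmap φ)

theorem dmap_mem_basicOpen_iff {e : ℕ} (he : 0 < e) {g : A} (hg : g ∈ 𝒜 e)
    (w : ((RelCone.domOpen φ : (Proj ℬ).Opens) : Scheme.{u})) :
    dmap φ w ∈ Proj.basicOpen 𝒜 g ↔ (RelCone.domOpen φ).ι w ∈ Proj.basicOpen ℬ (φ g) :=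
  map_mem_basicOpen_iff φ (RelCone.domOpen φ) (ch φ) (exists_idx_of_mem φ) (ch_ι φ) (dmap φ)
    (ch_dmap φ) he hg w

set_option backward.isDefEq.respectTransparency.types false in
theorem dmap_toSpecZero :
    dmap φ ≫ Proj.toSpecZero 𝒜 =
      (RelCone.domOpen φ).ι ≫ Proj.toSpecZero ℬ ≫
        Spec.map (CommRingCat.ofHom (RelProjMap.zeroHom φ)) := by
  refine (cov φ (RelCone.domOpen φ) (ch φ) (exists_idx_of_mem φ) (ch_ι φ)).hom_ext _ _
    fun t => ?_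
  show ch φ t ≫ dmap φ ≫ _ = ch φ t ≫ _
  rw [reassoc_of% (ch_dmap φ t), reassoc_of% (ch_ι φ t), gmap, Category.assoc,
    Proj.awayι_toSpecZero, Proj.awayι_toSpecZero_assoc, ← Spec.map_comp, ← Spec.map_comp,
    ← CommRingCat.ofHom_comp, ← CommRingCat.ofHom_comp, RelProjMap.awayMap_comp_fromZero]

section Post
variable {B' τ' : Type u} [CommRing B'] [SetLike τ' B'] [AddSubgroupClass τ' B'] {ℬ' : ℕ → τ'}
  [GradedRing ℬ'] (β : ℬ →+*ᵍ ℬ') (hβ : (ℬ')₊ ≤ ((ℬ)₊).map β)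

theorem map_mem_domOpen_iff (x' : Proj ℬ') :
    Proj.map β hβ x' ∈ RelCone.domOpen φ ↔ x' ∈ RelCone.domOpen (β.comp φ) := by
  rw [mem_domOpen_iff, mem_domOpen_iff]
  rfl

theorem lift_dmap
    (ρ : ((RelCone.domOpen (β.comp φ) : (Proj ℬ').Opens) : Scheme.{u}) ⟶
      ((RelCone.domOpen φ : (Proj ℬ).Opens) : Scheme.{u}))
    (hρ : ρ ≫ (RelCone.domOpen φ).ι = (RelCone.domOpen (β.comp φ)).ι ≫ Proj.map β hβ) :
    ρ ≫ dmap φ = dmap (β.comp φ) := by
  apply dmap_unique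
  intro t
  have h1 := map_comp_post φ β hβ (RelCone.domOpen φ) (RelCone.domOpen (β.comp φ)) (ch φ)
    (ch_ι φ) (dmap φ) (ch_dmap φ) ρ hρ (fun t => ch (β.comp φ) t) (fun t => ch_ι (β.comp φ) t) t
  rw [gmap_comp] at h1
  exact h1

theorem lift_dmap' (φ' : 𝒜 →+*ᵍ ℬ') (h : φ' = β.comp φ)
    (ρ : ((RelCone.domOpen φ' : (Proj ℬ').Opens) : Scheme.{u}) ⟶
      ((RelCone.domOpen φ : (Proj ℬ).Opens) : Scheme.{u}))
    (hρ : ρ ≫ (RelCone.domOpen φ).ι = (RelCone.domOpen φ').ι ≫ Proj.map β hβ) :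
    ρ ≫ dmap φ = dmap φ' := by
  subst h
  exact lift_dmap φ β hβ ρ hρ

end Post

section Pre
variable {A' σ' : Type u} [CommRing A'] [SetLike σ' A'] [AddSubgroupClass σ' A'] {𝒜' : ℕ → σ'}
  [GradedRing 𝒜'] (α : 𝒜' →+*ᵍ 𝒜) (hα : (𝒜)₊ ≤ ((𝒜')₊).map α)

theorem domOpen_comp_le : RelCone.domOpen (φ.comp α) ≤ RelCone.domOpen φ := by
  intro x hx
  rw [mem_domOpen_iff] at hx ⊢
  obtain ⟨t, ht⟩ := hx
  exact ⟨⟨t.d, t.hd, α t.f, α.2 t.hf⟩, ht⟩

include hα in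
theorem le_domOpen_comp : RelCone.domOpen φ ≤ RelCone.domOpen (φ.comp α) := by
  intro x hx
  rw [RelCone.mem_domOpen] at hx ⊢
  obtain ⟨f, hf, hfx⟩ := hx
  by_contra hcon
  push Not at hcon
  apply hfx
  have h1 : ((𝒜)₊).toIdeal ≤ (((𝒜')₊).map α).toIdeal := hα
  have h2 : (((𝒜')₊).map α).toIdeal ≤ x.asHomogeneousIdeal.toIdeal.comap φ := by
    rw [HomogeneousIdeal.toIdeal_map, Ideal.map_le_iff_le_comap]
    intro a ha
    exact hcon a ha
  exact h2 (h1 hf)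

theorem pre_dmap :
    (Proj ℬ).homOfLE (le_domOpen_comp φ α hα) ≫ dmap (φ.comp α) = dmap φ ≫ Proj.map α hα := by
  let c₂ : ∀ t : Idx 𝒜', Spec (CommRingCat.of (HomogeneousLocalization.Away ℬ ((φ.comp α) t.f))) ⟶
      ((RelCone.domOpen φ : (Proj ℬ).Opens) : Scheme.{u}) := fun t =>
    ch φ ⟨t.d, t.hd, α t.f, α.2 t.hf⟩
  have hc₂ : ∀ t, c₂ t ≫ (RelCone.domOpen φ).ι =
      Proj.awayι ℬ ((φ.comp α) t.f) ((φ.comp α).2 t.hf) t.hd := fun t =>
    ch_ι φ ⟨t.d, t.hd, α t.f, α.2 t.hf⟩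
  have hW₂ : ∀ x : Proj ℬ, x ∈ RelCone.domOpen φ →
      ∃ t : Idx 𝒜', x ∈ Proj.basicOpen ℬ ((φ.comp α) t.f) := fun x hx =>
    exists_idx_of_mem (φ.comp α) x (le_domOpen_comp φ α hα hx)
  refine (existsUnique_map (φ.comp α) (RelCone.domOpen φ) c₂ hW₂ hc₂).unique ?_ ?_
  · intro t
    have h1 : c₂ t ≫ (Proj ℬ).homOfLE (le_domOpen_comp φ α hα) = ch (φ.comp α) t := by
      rw [← cancel_mono (RelCone.domOpen (φ.comp α)).ι, Category.assoc, Scheme.homOfLE_ι, hc₂,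
        ch_ι]
    rw [reassoc_of% h1, ch_dmap]
  · intro t
    exact map_comp_pre φ α hα (RelCone.domOpen φ) (ch φ) (dmap φ) (ch_dmap φ) t

theorem pre_dmap' (φ₀ : 𝒜' →+*ᵍ ℬ) (h : φ₀ = φ.comp α) :
    ∃ ρ : ((RelCone.domOpen φ : (Proj ℬ).Opens) : Scheme.{u}) ⟶
        ((RelCone.domOpen φ₀ : (Proj ℬ).Opens) : Scheme.{u}),
      ρ ≫ (RelCone.domOpen φ₀).ι = (RelCone.domOpen φ).ι ∧
        ρ ≫ dmap φ₀ = dmap φ ≫ Proj.map α hα := by
  subst h
  exact ⟨(Proj ℬ).homOfLE (le_domOpen_comp φ α hα), Scheme.homOfLE_ι _ _, pre_dmap φ α hα⟩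

include hα in
theorem domOpen_eq_of_pre (φ₀ : 𝒜' →+*ᵍ ℬ) (h : φ₀ = φ.comp α) :
    RelCone.domOpen φ₀ = RelCone.domOpen φ := by
  subst h
  exact le_antisymm (domOpen_comp_le φ α) (le_domOpen_comp φ α hα)

end Pre

end Ring

end Groth.Agent.Helper1.ProjQ
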