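import Mathlib
import Groth.Prelude.Def_RelSpec2
import Groth.Agent.Lib.Helper1.RelProjGlue
import Groth.Agent.Lib.Helper1.RelSpecMap

/-!
# The vertex section of an affine cone (helper1 library)
-/

open CategoryTheory CategoryTheory.Limits AlgebraicGeometry Opposite TopologicalSpace
open scoped HomogeneousIdeal

universe u

namespace Groth.Agent.Helper1.RelCone1

section Glue
variable {Y Z : Scheme.{u}}
  (h : ∀ (U : Y.Opens) (_ : IsAffineOpen U), (U : Scheme.{u}) ⟶ Z)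

include h in
theorem h_congr {W W' : Y.Opens} (e : W = W') (hW : IsAffineOpen W) (hW' : IsAffineOpen W') :
    h W hW = (Y.isoOfEq e).hom ≫ h W' hW' := by
  subst e; simp

theorem compat_of_basic
    (hb : ∀ (U : Y.Opens) (hU : IsAffineOpen U) (r : Γ(Y, U)),
      Y.homOfLE (Y.basicOpen_le r) ≫ h U hU = h (Y.basicOpen r) (hU.basicOpen r))
    {U V : Y.Opens} (hU : IsAffineOpen U) (hV : IsAffineOpen V) (i : V ≤ U) :
    Y.homOfLE i ≫ h U hU = h V hV := by
  refine RelProjGlue.hom_ext_of_local' _ _ fun x => ?_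
  obtain ⟨r, r', hrr', hxr⟩ := exists_basicOpen_le_affine_inter hU hV x.1 ⟨i x.2, x.2⟩
  have hxr' : x.1 ∈ Y.basicOpen r' := hrr' ▸ hxr
  refine ⟨_, Y.homOfLE (Y.basicOpen_le r'), inferInstance, ⟨⟨x.1, hxr'⟩, ?_⟩, ?_⟩
  · exact Scheme.homOfLE_apply' _ _ _
  · rw [hb V hV r', Scheme.homOfLE_homOfLE_assoc,
      h_congr h hrr'.symm (hV.basicOpen r') (hU.basicOpen r), ← hb U hU r,
      ← Category.assoc]
    congr 1
    rw [← cancel_mono U.ι]
    simp

set_option backward.isDefEq.respectTransparency.types false in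
theorem exists_glue_affine
    (hb : ∀ (U : Y.Opens) (hU : IsAffineOpen U) (r : Γ(Y, U)),
      Y.homOfLE (Y.basicOpen_le r) ≫ h U hU = h (Y.basicOpen r) (hU.basicOpen r)) :
    ∃! g : Y ⟶ Z, ∀ (U : Y.Opens) (hU : IsAffineOpen U), U.ι ≫ g = h U hU := by
  have hcompat : ∀ {i j : Y.directedAffineCover.I₀} (hij : i ⟶ j),
      Y.directedAffineCover.trans hij ≫ (fun U : Y.affineOpens => h U.1 U.2) j =
        (fun U : Y.affineOpens => h U.1 U.2) i := by
    intro i j hij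
    exact compat_of_basic h hb (j : Y.affineOpens).2 (i : Y.affineOpens).2 (leOfHom hij)
  refine ⟨Y.directedAffineCover.glueMorphismsOfLocallyDirected
    (fun U : Y.affineOpens => h U.1 U.2) hcompat, ?_, ?_⟩
  · intro U hU
    exact Y.directedAffineCover.map_glueMorphismsOfLocallyDirected _ hcompat ⟨U, hU⟩
  · intro g hg
    refine Y.directedAffineCover.hom_ext _ _ fun U => ?_
    refine Eq.trans ?_ (Y.directedAffineCover.map_glueMorphismsOfLocallyDirected _ hcompat U).symm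
    exact hg (U : Y.affineOpens).1 (U : Y.affineOpens).2

theorem hom_ext_affine {g g' : Y ⟶ Z}
    (H : ∀ (U : Y.Opens) (_ : IsAffineOpen U), U.ι ≫ g = U.ι ≫ g') : g = g' :=
  Y.directedAffineCover.hom_ext _ _ fun U => H (U : Y.affineOpens).1 (U : Y.affineOpens).2

end Glue

section Vertex
variable {Y : Scheme.{u}} (𝒮 : RelProj.QCGrAlg Y) (aug : 𝒮.toQCAlg ⟶ RelSpec.QCAlg.unit Y)

/-- the augmentation over `U`, typed with values in `Γ(Y, U)` -/
def augAt (U : Y.Opens) : 𝒮.presheaf.obj (op U) ⟶ Γ(Y, U) := aug.hom.app (op U)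

lemma str_augAt (U : Y.Opens) : 𝒮.str.app (op U) ≫ augAt 𝒮 aug U = 𝟙 _ := by
  have := NatTrans.congr_app aug.comm (op U)
  rw [NatTrans.comp_app] at this
  exact this

lemma augAt_natural {U V : Y.Opens} (i : V ≤ U) :
    𝒮.presheaf.map (homOfLE i).op ≫ augAt 𝒮 aug V = augAt 𝒮 aug U ≫ Y.presheaf.map (homOfLE i).op :=
  aug.hom.naturality (homOfLE i).op

/-- the local pieces of the vertex section -/
noncomputable def vloc (U : Y.Opens) (hU : IsAffineOpen U) : (U : Scheme.{u}) ⟶ 𝒮.toQCAlg.spec :=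
  hU.isoSpec.hom ≫ Spec.map (augAt 𝒮 aug U) ≫ 𝒮.toQCAlg.ι U hU

lemma homOfLE_isoSpec {U V : Y.Opens} (hU : IsAffineOpen U) (hV : IsAffineOpen V) (i : V ≤ U) :
    Y.homOfLE i ≫ hU.isoSpec.hom = hV.isoSpec.hom ≫ Spec.map (Y.presheaf.map (homOfLE i).op) := by
  rw [← Iso.inv_comp_eq, ← Category.assoc, ← Iso.eq_comp_inv, ← cancel_mono U.ι]
  simp only [Category.assoc, Scheme.homOfLE_ι, IsAffineOpen.isoSpec_inv_ι]
  exact (hU.map_fromSpec hV (homOfLE i).op).symm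

theorem vloc_basic (U : Y.Opens) (hU : IsAffineOpen U) (r : Γ(Y, U)) :
    Y.homOfLE (Y.basicOpen_le r) ≫ vloc 𝒮 aug U hU =
      vloc 𝒮 aug (Y.basicOpen r) (hU.basicOpen r) := by
  unfold vloc
  rw [reassoc_of% homOfLE_isoSpec hU (hU.basicOpen r) (Y.basicOpen_le r)]
  congr 1
  have h1 : @LE.le Y.AffineZariskiSite _ ⟨Y.basicOpen r, hU.basicOpen r⟩ ⟨U, hU⟩ := ⟨r, rfl⟩
  have h2 := 𝒮.toQCAlg.ι_res (U := ⟨U, hU⟩) (V := ⟨Y.basicOpen r, hU.basicOpen r⟩) (homOfLE h1)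
  rw [← h2, ← Spec.map_comp_assoc, ← Spec.map_comp_assoc]
  congr 2
  exact (augAt_natural 𝒮 aug (Y.basicOpen_le r)).symm

theorem existsUnique_vertex :
    (∃! ε : Y ⟶ 𝒮.toQCAlg.spec, RelCone.IsVertex 𝒮 aug ε) ∧
      ∀ ε : Y ⟶ 𝒮.toQCAlg.spec, RelCone.IsVertex 𝒮 aug ε → IsClosedImmersion ε := by
  obtain ⟨ε, hε, huniq⟩ := exists_glue_affine (vloc 𝒮 aug) (vloc_basic 𝒮 aug)
  have hvert : RelCone.IsVertex 𝒮 aug ε := by
    refine ⟨?_, ?_⟩
    · refine hom_ext_affine fun U hU => ?_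
      rw [← Category.assoc, hε U hU, vloc, Category.assoc, Category.assoc, 𝒮.toQCAlg.ι_π U hU,
        ← Spec.map_comp_assoc, str_augAt, Spec.map_id, Category.id_comp, Category.comp_id,
        ← IsAffineOpen.isoSpec_inv_ι, Iso.hom_inv_id_assoc]
    · intro U hU
      show hU.fromSpec ≫ ε = Spec.map (augAt 𝒮 aug U) ≫ 𝒮.toQCAlg.ι U hU
      rw [IsAffineOpen.fromSpec, Category.assoc, hε U hU, vloc, Iso.inv_hom_id_assoc]
  refine ⟨⟨ε, hvert, ?_⟩, ?_⟩
  · intro ε' hε'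
    refine huniq ε' fun U hU => ?_
    have : hU.fromSpec ≫ ε' = Spec.map (augAt 𝒮 aug U) ≫ 𝒮.toQCAlg.ι U hU := hε'.chart U hU
    rw [IsAffineOpen.fromSpec, Category.assoc, Iso.inv_comp_eq] at this
    exact this
  · intro ε' hε'
    have h1 : IsClosedImmersion (ε' ≫ 𝒮.toQCAlg.π) := by
      rw [hε'.comp_π]; infer_instance
    exact IsClosedImmersion.of_comp ε' 𝒮.toQCAlg.π

end Vertex

section Pointed
variable {Y : Scheme.{u}} (𝒮 : RelProj.QCGrAlg Y) (aug : 𝒮.toQCAlg ⟶ RelSpec.QCAlg.unit Y)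

/-- the augmentation kills the irrelevant ideal -/
lemma augAt_irrelevant (haug : RelCone.IsAugmentation 𝒮 aug) (U : Y.Opens) (hU : IsAffineOpen U)
    (x : 𝒮.presheaf.obj (op U)) (hx : x ∈ (𝒮.deg U hU)₊) : (augAt 𝒮 aug U).hom x = 0 := by
  classical
  rw [← DirectSum.sum_support_decompose (𝒮.deg U hU) x, map_sum]
  refine Finset.sum_eq_zero fun i _ => ?_
  rcases Nat.eq_zero_or_pos i with hi | hi
  · subst hi
    have := (HomogeneousIdeal.mem_irrelevant_iff _ _).mp hx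
    rw [GradedRing.proj_apply] at this
    rw [this, map_zero]
  · obtain ⟨d, rfl⟩ : ∃ d, i = d + 1 := ⟨i - 1, by omega⟩
    exact haug U hU d _ (SetLike.coe_mem _)

/-- `x - str (aug x)` lies in the irrelevant ideal -/
lemma sub_str_augAt_mem (h0 : RelCone.StrZeroBij 𝒮) (haug : RelCone.IsAugmentation 𝒮 aug)
    (U : Y.Opens) (hU : IsAffineOpen U) (x : 𝒮.presheaf.obj (op U)) :
    x - (𝒮.str.app (op U)).hom ((augAt 𝒮 aug U).hom x) ∈ (𝒮.deg U hU)₊ := by
  classical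
  set x₀ : 𝒮.presheaf.obj (op U) := (DirectSum.decompose (𝒮.deg U hU) x 0 : 𝒮.presheaf.obj (op U))
    with hx₀
  have hx₀mem : x₀ ∈ 𝒮.deg U hU 0 := SetLike.coe_mem _
  obtain ⟨r, hr⟩ := (h0 U hU).2 ⟨x₀, hx₀mem⟩
  have hr' : (𝒮.str.app (op U)).hom r = x₀ := congrArg Subtype.val hr
  have hmem : x - x₀ ∈ (𝒮.deg U hU)₊ := by
    rw [HomogeneousIdeal.mem_irrelevant_iff, GradedRing.proj_apply, DirectSum.decompose_sub,
      DirectSum.sub_apply, AddSubgroupClass.coe_sub, DirectSum.decompose_of_mem_same _ hx₀mem,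
      ← hx₀, sub_self]
  have haugx : (augAt 𝒮 aug U).hom x = r := by
    have e : x = x₀ + (x - x₀) := by ring
    rw [e, map_add, augAt_irrelevant 𝒮 aug haug U hU _ hmem, add_zero, ← hr']
    exact congr($(str_augAt 𝒮 aug U) r)
  rw [haugx, hr']
  exact hmem

set_option backward.isDefEq.respectTransparency.types false in
/-- a point of the chart `Spec 𝒮(U)` lies on the vertex section iff it contains the irrelevant
ideal -/
theorem ι_mem_range_iff (h0 : RelCone.StrZeroBij 𝒮) (haug : RelCone.IsAugmentation 𝒮 aug)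
    (ε : Y ⟶ 𝒮.toQCAlg.spec) (hε : RelCone.IsVertex 𝒮 aug ε) (U : Y.Opens) (hU : IsAffineOpen U)
    (y : Spec (𝒮.presheaf.obj (op U))) :
    𝒮.toQCAlg.ι U hU y ∈ Set.range ε ↔
      ∀ x ∈ ((𝒮.deg U hU)₊).toIdeal, x ∈ y.asIdeal := by
  have hchart : hU.fromSpec ≫ ε = Spec.map (augAt 𝒮 aug U) ≫ 𝒮.toQCAlg.ι U hU := hε.chart U hU
  constructor
  · rintro ⟨s, hs⟩
    have hsU : s ∈ U := by
      have h1 : 𝒮.toQCAlg.π (ε s) = s := by
        rw [← Scheme.Hom.comp_apply, hε.comp_π]; rfl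
      rw [← h1, hs]
      exact RelSpecMap.π_ι_mem 𝒮.toQCAlg U hU y
    obtain ⟨t, ht⟩ : s ∈ Set.range hU.fromSpec := by rw [hU.range_fromSpec]; exact hsU
    have h2 : 𝒮.toQCAlg.ι U hU (Spec.map (augAt 𝒮 aug U) t) = 𝒮.toQCAlg.ι U hU y := by
      rw [← Scheme.Hom.comp_apply, ← hchart, Scheme.Hom.comp_apply, ht, hs]
    have h3 : Spec.map (augAt 𝒮 aug U) t = y :=
      (𝒮.toQCAlg.ι U hU).isOpenEmbedding.injective h2
    rw [← h3]
    intro x hx
    show x ∈ (Spec.map (augAt 𝒮 aug U) t).asIdeal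
    rw [Spec.map_apply, PrimeSpectrum.comap_asIdeal, Ideal.mem_comap,
      augAt_irrelevant 𝒮 aug haug U hU x hx]
    exact zero_mem _
  · intro hy
    refine ⟨hU.fromSpec (Spec.map (𝒮.str.app (op U)) y), ?_⟩
    rw [← Scheme.Hom.comp_apply, hchart, Scheme.Hom.comp_apply]
    congr 1
    apply PrimeSpectrum.ext
    ext x
    rw [Spec.map_apply, Spec.map_apply, PrimeSpectrum.comap_asIdeal, PrimeSpectrum.comap_asIdeal,
      Ideal.mem_comap, Ideal.mem_comap]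
    have hmem := hy _ (sub_str_augAt_mem 𝒮 aug h0 haug U hU x)
    constructor
    · intro h
      have := add_mem hmem h
      rwa [sub_add_cancel] at this
    · intro h
      have := sub_mem h hmem
      rwa [sub_sub_cancel] at this

set_option backward.isDefEq.respectTransparency.types false in
theorem pointedCone_eq (h0 : RelCone.StrZeroBij 𝒮) (haug : RelCone.IsAugmentation 𝒮 aug)
    (ε : Y ⟶ 𝒮.toQCAlg.spec) (hε : RelCone.IsVertex 𝒮 aug ε) :
    ((RelCone.pointedCone 𝒮 : 𝒮.toQCAlg.spec.Opens) : Set 𝒮.toQCAlg.spec) =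
      (Set.range ε.base)ᶜ := by
  ext z
  rw [SetLike.mem_coe, RelCone.pointedCone, Opens.mem_iSup, Set.mem_compl_iff]
  change _ ↔ ¬ z ∈ Set.range ε
  constructor
  · rintro ⟨U, y, hy, rfl⟩
    have hU : IsAffineOpen U.1 := U.2
    change ¬ (𝒮.toQCAlg.ι U.1 hU y ∈ Set.range ε)
    rw [ι_mem_range_iff 𝒮 aug h0 haug ε hε U.1 hU y]
    intro hcon
    exact hy (fun x hx => hcon x hx)
  · intro hz
    obtain ⟨U, hU, hzU, -⟩ := Opens.isBasis_iff_nbhd.mp Y.isBasis_affineOpens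
      (show 𝒮.toQCAlg.π z ∈ (⊤ : Y.Opens) from trivial)
    obtain ⟨y, rfl⟩ := RelSpecMap.mem_range_ι 𝒮.toQCAlg U hU z hzU
    rw [ι_mem_range_iff 𝒮 aug h0 haug ε hε U hU y] at hz
    refine ⟨⟨U, hU⟩, y, ?_, rfl⟩
    intro hcon
    exact hz (fun x hx => hcon hx)

end Pointed

end Groth.Agent.Helper1.RelCone1
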