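import Groth.Prelude.Def_RelSpec2
import Groth.Agent.Lib.Helper1.PolyGr
import Groth.Agent.Lib.Helper1.RelCone1

/-!
# Projective cones over a general base (helper1 library)
-/

universe u

open CategoryTheory CategoryTheory.Limits AlgebraicGeometry TopologicalSpace Opposite Polynomial
open scoped HomogeneousIdeal

namespace Groth.Agent.Helper1.RelCone3

section Ring
variable {A B : Type*} [CommRing A] [CommRing B] (𝒜 : ℕ → AddSubgroup A) (ℬ : ℕ → AddSubgroup B)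
  [GradedRing 𝒜] [GradedRing ℬ] (ι₀ : A →+* B) (hι : ∀ i a, a ∈ 𝒜 i → ι₀ a ∈ ℬ i)
  (z : B) (hz : z ∈ ℬ 1)

include hι hz in
theorem bijective_of_rule (hbij : Function.Bijective (eval₂RingHom ι₀ z)) (ev : B →+* A)
    (hev : ∀ p : A[X], ev (eval₂ ι₀ z p) = p.eval 1)
    (φ : HomogeneousLocalization.Away ℬ z →+* A)
    (hφ : ∀ (q : HomogeneousLocalization.Away ℬ z) (x : B) (k : ℕ),
      q.val = Localization.mk x ⟨z ^ k, pow_mem (Submonoid.mem_powers z) k⟩ → φ q = ev x) :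
    Function.Bijective φ := by
  constructor
  · rw [injective_iff_map_eq_zero]
    intro q hq
    obtain ⟨k, x, hx, rfl⟩ := HomogeneousLocalization.Away.mk_surjective ℬ hz q
    rw [hφ _ x k (HomogeneousLocalization.Away.val_mk ℬ k hz x hx)] at hq
    obtain ⟨p, rfl⟩ := hbij.2 x
    have hx' : eval₂ ι₀ z p ∈ ℬ k := by simpa using hx
    have hp : p = 0 := by
      refine PolyGr.eq_zero_of_eval_one 𝒜 ℬ ι₀ hι z hz hbij.1 hx' ?_
      rw [← hev]; exact hq
    subst hp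
    apply HomogeneousLocalization.val_injective
    rw [HomogeneousLocalization.Away.val_mk, HomogeneousLocalization.val_zero]
    simp only [coe_eval₂RingHom, eval₂_zero]
    exact Localization.mk_zero _
  · intro a
    obtain ⟨N, p, hp, hpa⟩ := PolyGr.exists_homog_lift 𝒜 ℬ ι₀ hι z hz a
    refine ⟨HomogeneousLocalization.Away.mk ℬ hz N (eval₂ ι₀ z p) (by simpa using hp), ?_⟩
    rw [hφ _ (eval₂ ι₀ z p) N (HomogeneousLocalization.Away.val_mk ℬ N hz _ _), hev, hpa]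

end Ring

section Pt
variable {A σ : Type u} [CommRing A] [SetLike σ A] [AddSubgroupClass σ A] (𝒜 : ℕ → σ) [GradedRing 𝒜]

/-- pointwise description of `Proj.awayι` on basic opens -/
theorem awayι_mem_basicOpen_iff {f g : A} {m m' : ℕ} (f_deg : f ∈ 𝒜 m) (hm : 0 < m)
    (g_deg : g ∈ 𝒜 m') (hm' : 0 < m')
    (y : Spec (CommRingCat.of (HomogeneousLocalization.Away 𝒜 f))) :
    Proj.awayι 𝒜 f f_deg hm y ∈ Proj.basicOpen 𝒜 g ↔
      HomogeneousLocalization.Away.isLocalizationElem f_deg g_deg ∉ y.asIdeal := by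
  have e := Proj.awayι_preimage_basicOpen 𝒜 f_deg hm g_deg hm'
  have : y ∈ Proj.awayι 𝒜 f f_deg hm ⁻¹ᵁ Proj.basicOpen 𝒜 g ↔
      y ∈ (PrimeSpectrum.basicOpen (HomogeneousLocalization.Away.isLocalizationElem f_deg g_deg)) := by
    rw [e]; rfl
  exact this

theorem mem_range_awayι_iff {f : A} {m : ℕ} (f_deg : f ∈ 𝒜 m) (hm : 0 < m) (x : Proj 𝒜) :
    x ∈ Set.range (Proj.awayι 𝒜 f f_deg hm) ↔ f ∉ x.asHomogeneousIdeal := by
  have e := Proj.opensRange_awayι 𝒜 f f_deg hm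
  have : x ∈ (Proj.awayι 𝒜 f f_deg hm).opensRange ↔ x ∈ Proj.basicOpen 𝒜 f := by rw [e]
  rw [← Proj.mem_basicOpen]
  exact this

end Pt

section Rel
variable {Y : Scheme.{u}} {𝒮 𝒮h : RelProj.QCGrAlg Y} {ι : 𝒮.toQCAlg ⟶ 𝒮h.toQCAlg}
  {z : 𝒮h.presheaf.obj (op ⊤)} (h : RelCone.IsPolyOver 𝒮 𝒮h ι z)
  (U : Y.Opens) (hU : IsAffineOpen U)

theorem evalOne_eval₂ (p : (𝒮.presheaf.obj (op U))[X]) :
    h.evalOne U hU (eval₂ (ι.hom.app (op U)).hom (RelCone.restrictTop 𝒮h z U) p) = p.eval 1 := by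
  have e := h.polyEquiv_apply U hU p
  rw [← e, RelCone.IsPolyOver.evalOne, RingHom.comp_apply]
  simp

theorem awayZToBase_bijective : Function.Bijective (h.awayZToBase U hU) :=
  bijective_of_rule (𝒮.deg U hU) (𝒮h.deg U hU) (ι.hom.app (op U)).hom
    (fun i a ha => h.graded U hU i a ha) (RelCone.restrictTop 𝒮h z U) (h.deg_z U hU) (h.bij U hU)
    (h.evalOne U hU) (evalOne_eval₂ h U hU) _ (fun q x k hq => h.awayZToBase_of_val U hU q x k hq)

theorem spec_hom_ext (A : RelSpec.QCAlg Y) {Z : Scheme.{u}} {f g : A.spec ⟶ Z}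
    (hfg : ∀ (U : Y.Opens) (hU : IsAffineOpen U), A.ι U hU ≫ f = A.ι U hU ≫ g) : f = g :=
  A.glueData.cover.hom_ext _ _ fun U => hfg U.1 U.2

variable {PC : Scheme.{u}} {pC : PC ⟶ Y}
  {chartC : ∀ (U : Y.Opens) (hU : IsAffineOpen U),
    (((pC ⁻¹ᵁ U : PC.Opens) : Scheme.{u}) ≅ Proj (𝒮h.deg U hU))}

theorem emb_comp (hPC : RelProj.IsRelProj 𝒮h pC chartC) :
    RelProj.emb pC chartC U hU ≫ pC =
      Proj.toSpecZero (𝒮h.deg U hU) ≫ Spec.map (𝒮h.strZero U hU) ≫ hU.fromSpec := by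
  rw [RelProj.emb, Category.assoc, ← hPC.chart_over U hU, Iso.inv_hom_id_assoc]

theorem awayZToBase_fromZero_str (r : Γ(Y, U)) :
    h.awayZToBase U hU (HomogeneousLocalization.fromZeroRingHom (𝒮h.deg U hU) _
      ((𝒮h.strZero U hU).hom r)) = (𝒮.str.app (op U)).hom r := by
  have hval : (HomogeneousLocalization.fromZeroRingHom (𝒮h.deg U hU)
      (Submonoid.powers (RelCone.restrictTop 𝒮h z U)) ((𝒮h.strZero U hU).hom r)).val =
      Localization.mk ((𝒮h.str.app (op U)).hom r)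
        ⟨RelCone.restrictTop 𝒮h z U ^ 0, pow_mem (Submonoid.mem_powers _) 0⟩ := by
    change Localization.mk _ _ = _
    congr 1
    exact Subtype.ext (pow_zero _).symm
  rw [h.awayZToBase_of_val U hU _ _ 0 hval]
  have : (𝒮h.str.app (op U)).hom r = (ι.hom.app (op U)).hom ((𝒮.str.app (op U)).hom r) := by
    rw [← ι.comm]; rfl
  rw [this, h.evalOne_ι]

theorem coneImm_comp (hPC : RelProj.IsRelProj 𝒮h pC chartC) (i : 𝒮.toQCAlg.spec ⟶ PC)
    (hi : RelCone.IsConeImm 𝒮 h pC chartC i) : i ≫ pC = 𝒮.toQCAlg.π := by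
  apply spec_hom_ext
  intro U hU
  rw [reassoc_of% (hi U hU), emb_comp U hU hPC, Proj.awayι_toSpecZero_assoc, 𝒮.toQCAlg.ι_π,
    ← Spec.map_comp_assoc, ← Spec.map_comp_assoc]
  congr 2
  ext r
  exact awayZToBase_fromZero_str h U hU r

/-- the chartwise morphism `Spec 𝒮(U) ⟶ Proj 𝒮h(U)` -/
noncomputable def jU : Spec (𝒮.presheaf.obj (op U)) ⟶ Proj (𝒮h.deg U hU) :=
  Spec.map (CommRingCat.ofHom (h.awayZToBase U hU)) ≫
    Proj.awayι (𝒮h.deg U hU) (RelCone.restrictTop 𝒮h z U) (h.deg_z U hU) one_pos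

theorem awayZToBase_elem {k : ℕ} (f : 𝒮.presheaf.obj (op U)) (hf : f ∈ 𝒮.deg U hU k) :
    h.awayZToBase U hU (HomogeneousLocalization.Away.isLocalizationElem (h.deg_z U hU)
      (h.graded U hU k f hf)) = f := by
  rw [h.awayZToBase_of_val U hU _ (((ι.hom.app (op U)).hom f) ^ 1) k
    (HomogeneousLocalization.Away.val_mk _ _ _ _ _), pow_one, h.evalOne_ι]

theorem mem_jU_iff {k : ℕ} (hk : 0 < k) (f : 𝒮.presheaf.obj (op U)) (hf : f ∈ 𝒮.deg U hU k)
    (w : Spec (𝒮.presheaf.obj (op U))) :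
    (ι.hom.app (op U)).hom f ∈ (jU h U hU w).asHomogeneousIdeal ↔ f ∈ w.asIdeal := by
  rw [← not_iff_not, ← Proj.mem_basicOpen, jU, Scheme.Hom.comp_apply,
    awayι_mem_basicOpen_iff (𝒮h.deg U hU) (h.deg_z U hU) one_pos (h.graded U hU k f hf) hk,
    not_iff_not]
  show _ ∈ (Spec.map (CommRingCat.ofHom (h.awayZToBase U hU)) w).asIdeal ↔ _
  rw [Spec.map_apply]
  show h.awayZToBase U hU _ ∈ w.asIdeal ↔ _
  rw [awayZToBase_elem h U hU f hf]

theorem jU_not_mem_domOpen_iff (w : Spec (𝒮.presheaf.obj (op U))) :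
    jU h U hU w ∉ RelCone.domOpen (RelProj.gradedHomAt ι h.graded U hU) ↔
      ((𝒮.deg U hU)₊).toIdeal ≤ w.asIdeal := by
  rw [RelCone.mem_domOpen]
  push Not
  have e1 : (∀ f ∈ ((𝒮.deg U hU)₊).toIdeal,
      (RelProj.gradedHomAt ι h.graded U hU) f ∈ (jU h U hU w).asHomogeneousIdeal) ↔
      ((𝒮.deg U hU)₊).toIdeal ≤
        Ideal.comap (ι.hom.app (op U)).hom (jU h U hU w).asHomogeneousIdeal.toIdeal := Iff.rfl
  rw [e1, HomogeneousIdeal.toIdeal_irrelevant_le, HomogeneousIdeal.toIdeal_irrelevant_le]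
  refine forall_congr' fun i => forall_congr' fun hi => ?_
  constructor
  · intro hh f hf
    exact (mem_jU_iff h U hU hi f hf w).mp (hh hf)
  · intro hh f hf
    exact (mem_jU_iff h U hU hi f hf w).mpr (hh hf)

theorem mem_range_jU_of_not_mem_domOpen (x : Proj (𝒮h.deg U hU))
    (hx : x ∉ RelCone.domOpen (RelProj.gradedHomAt ι h.graded U hU)) :
    x ∈ Set.range (jU h U hU) := by
  rw [RelCone.mem_domOpen] at hx
  push Not at hx
  have hz : RelCone.restrictTop 𝒮h z U ∉ x.asHomogeneousIdeal := by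
    intro hzx
    apply x.not_irrelevant_le
    have hle := PolyGr.irrelevant_le_span (𝒮.deg U hU) (𝒮h.deg U hU) (ι.hom.app (op U)).hom
      (fun i a ha => h.graded U hU i a ha) (RelCone.restrictTop 𝒮h z U) (h.deg_z U hU) (h.bij U hU)
    have : ((𝒮h.deg U hU)₊).toIdeal ≤ x.asHomogeneousIdeal.toIdeal := by
      refine hle.trans ?_
      rw [Ideal.span_le]
      rintro b (⟨a, ha, rfl⟩ | rfl)
      · exact hx a ha
      · exact hzx
    exact this
  obtain ⟨y, rfl⟩ := (mem_range_awayι_iff (𝒮h.deg U hU) (h.deg_z U hU) one_pos x).mpr hz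
  let e := RingEquiv.ofBijective _ (awayZToBase_bijective h U hU)
  refine ⟨Spec.map (CommRingCat.ofHom e.symm.toRingHom) y, ?_⟩
  have : CommRingCat.ofHom (h.awayZToBase U hU) ≫ CommRingCat.ofHom e.symm.toRingHom = 𝟙 _ := by
    refine CommRingCat.hom_ext (RingHom.ext fun q => ?_)
    exact e.symm_apply_apply q
  have h2 : Spec.map (CommRingCat.ofHom e.symm.toRingHom) ≫
      Spec.map (CommRingCat.ofHom (h.awayZToBase U hU)) = 𝟙 _ := by
    rw [← Spec.map_comp, this, Spec.map_id]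
  rw [jU, ← Scheme.Hom.comp_apply, reassoc_of% h2]

theorem range_emb :
    Set.range (RelProj.emb pC chartC U hU) = ((pC ⁻¹ᵁ U : PC.Opens) : Set PC) := by
  have hs : Function.Surjective (chartC U hU).inv := (chartC U hU).inv.homeomorph.surjective
  rw [RelProj.emb, Scheme.Hom.comp_base, TopCat.coe_comp, Set.range_comp,
    Set.range_eq_univ.mpr hs, Set.image_univ]
  exact (pC ⁻¹ᵁ U).range_ι

theorem coneImm_ι (i : 𝒮.toQCAlg.spec ⟶ PC) (hi : RelCone.IsConeImm 𝒮 h pC chartC i)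
    (w : Spec (𝒮.presheaf.obj (op U))) :
    i (𝒮.toQCAlg.ι U hU w) = RelProj.emb pC chartC U hU (jU h U hU w) := by
  rw [← Scheme.Hom.comp_apply, hi U hU, jU]
  rfl

set_option backward.isDefEq.respectTransparency.types false in
theorem pointedProjCone_eq (h0 : RelCone.StrZeroBij 𝒮) (hPC : RelProj.IsRelProj 𝒮h pC chartC)
    (aug : 𝒮.toQCAlg ⟶ RelSpec.QCAlg.unit Y) (haug : RelCone.IsAugmentation 𝒮 aug)
    (ε : Y ⟶ 𝒮.toQCAlg.spec) (hε : RelCone.IsVertex 𝒮 aug ε)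
    (i : 𝒮.toQCAlg.spec ⟶ PC) (hi : RelCone.IsConeImm 𝒮 h pC chartC i) :
    ((RelCone.pointedProjCone 𝒮 h pC chartC : PC.Opens) : Set PC) =
      (Set.range (ε ≫ i).base)ᶜ := by
  have hipC := coneImm_comp h hPC i hi
  ext c
  rw [SetLike.mem_coe, RelCone.pointedProjCone, Opens.mem_iSup, Set.mem_compl_iff]
  constructor
  · rintro ⟨V, x', hx', rfl⟩ ⟨y, hy⟩
    have hV : IsAffineOpen V.1 := V.2
    have hy' : i (ε y) = RelProj.emb pC chartC V.1 hV x' := hy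
    -- the point `s = ε y` lies over `V`
    have hsV : 𝒮.toQCAlg.π (ε y) ∈ V.1 := by
      have h1 : 𝒮.toQCAlg.π (ε y) = pC (i (ε y)) := by
        rw [← hipC]; rfl
      rw [h1, hy']
      have : RelProj.emb pC chartC V.1 hV x' ∈ Set.range (RelProj.emb pC chartC V.1 hV) := ⟨x', rfl⟩
      rw [range_emb] at this
      exact this
    obtain ⟨w, hw⟩ := RelSpecMap.mem_range_ι 𝒮.toQCAlg V.1 hV (ε y) hsV
    have h2 : RelProj.emb pC chartC V.1 hV (jU h V.1 hV w) = RelProj.emb pC chartC V.1 hV x' := by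
      rw [← coneImm_ι h V.1 hV i hi w, hw, hy']
    have h3 : jU h V.1 hV w = x' :=
      (RelProj.emb pC chartC V.1 hV).isOpenEmbedding.injective h2
    have h4 : 𝒮.toQCAlg.ι V.1 hV w ∈ Set.range ε := ⟨y, hw.symm⟩
    rw [RelCone1.ι_mem_range_iff 𝒮 aug h0 haug ε hε V.1 hV w] at h4
    have h5 := (jU_not_mem_domOpen_iff h V.1 hV w).mpr (fun x hx => h4 x hx)
    rw [h3] at h5
    exact h5 hx'
  · intro hc
    obtain ⟨U, hU, hcU, -⟩ := Opens.isBasis_iff_nbhd.mp Y.isBasis_affineOpens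
      (show pC c ∈ (⊤ : Y.Opens) from trivial)
    have hc' : c ∈ Set.range (RelProj.emb pC chartC U hU) := by
      rw [range_emb]; exact hcU
    obtain ⟨x, rfl⟩ := hc'
    refine ⟨⟨U, hU⟩, x, ?_, rfl⟩
    by_contra hx
    obtain ⟨w, rfl⟩ := mem_range_jU_of_not_mem_domOpen h U hU x hx
    have h4 := (jU_not_mem_domOpen_iff h U hU w).mp hx
    have h5 : 𝒮.toQCAlg.ι U hU w ∈ Set.range ε :=
      (RelCone1.ι_mem_range_iff 𝒮 aug h0 haug ε hε U hU w).mpr (fun x hx => h4 hx)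
    obtain ⟨y, hy⟩ := h5
    apply hc
    refine ⟨y, ?_⟩
    show i (ε y) = _
    rw [hy, coneImm_ι h U hU i hi w]

end Rel

end Groth.Agent.Helper1.RelCone3
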