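import Mathlib
import Groth.Prelude.Def_RelProj4
import Groth.Agent.Lib.Helper1.ProjQ1
import Groth.Agent.Lib.Helper1.RelCone3

/-!
# The morphism `Proj(u)` on its open of definition `G(u)` (helper1 library)
-/

universe u

open CategoryTheory CategoryTheory.Limits AlgebraicGeometry TopologicalSpace Opposite
open scoped HomogeneousIdeal

namespace Groth.Agent.Helper1.ProjQ

section Ring
variable {A B σ τ : Type u} [CommRing A] [SetLike σ A] [AddSubgroupClass σ A] {𝒜 : ℕ → σ}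
  [GradedRing 𝒜] [CommRing B] [SetLike τ B] [AddSubgroupClass τ B] {ℬ : ℕ → τ} [GradedRing ℬ]
  (φ : 𝒜 →+*ᵍ ℬ)
variable {B' τ' : Type u} [CommRing B'] [SetLike τ' B'] [AddSubgroupClass τ' B'] {ℬ' : ℕ → τ'}
  [GradedRing ℬ'] (β : ℬ →+*ᵍ ℬ') (hβ : (ℬ')₊ ≤ ((ℬ)₊).map β)

theorem map_mem_domOpen_iff' (φ' : 𝒜 →+*ᵍ ℬ') (h : φ' = β.comp φ) (x' : Proj ℬ') :
    Proj.map β hβ x' ∈ RelCone.domOpen φ ↔ x' ∈ RelCone.domOpen φ' := by
  subst h
  exact map_mem_domOpen_iff φ β hβ x'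

end Ring

section Rel
variable {Y Y' P P' : Scheme.{u}} {g : Y' ⟶ Y} {𝒮 : RelProj.QCGrAlg Y} {𝒮' : RelProj.QCGrAlg Y'}
  (u : RelProj.QGrHom g 𝒮 𝒮')
  (p : P ⟶ Y)
  (chart : ∀ (U : Y.Opens) (hU : IsAffineOpen U),
    (((p ⁻¹ᵁ U : P.Opens) : Scheme.{u}) ≅ Proj (𝒮.deg U hU)))
  (p' : P' ⟶ Y')
  (chart' : ∀ (U : Y'.Opens) (hU : IsAffineOpen U),
    (((p' ⁻¹ᵁ U : P'.Opens) : Scheme.{u}) ≅ Proj (𝒮'.deg U hU)))

/-- affine pairs -/
structure Pair (g : Y' ⟶ Y) : Type u where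
  U : Y.Opens
  hU : IsAffineOpen U
  U' : Y'.Opens
  hU' : IsAffineOpen U'
  hle : U' ≤ g ⁻¹ᵁ U

/-- the graded homomorphism of an affine pair -/
abbrev gr (π : Pair g) : 𝒮.deg π.U π.hU →+*ᵍ 𝒮'.deg π.U' π.hU' :=
  u.gradedAt π.U π.hU π.U' π.hU' π.hle

/-- the local domain of definition -/
abbrev Xi (π : Pair g) : Scheme.{u} :=
  ((RelCone.domOpen (gr u π) : (Proj (𝒮'.deg π.U' π.hU')).Opens) : Scheme.{u})

/-- the local domain inside `P'` -/
noncomputable def jj (π : Pair g) : Xi u π ⟶ P' :=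
  (RelCone.domOpen (gr u π)).ι ≫ RelProj.emb p' chart' π.U' π.hU'

instance (π : Pair g) : IsOpenImmersion (jj u p' chart' π) := by
  unfold jj; infer_instance

/-- the local morphism -/
noncomputable def nn (π : Pair g) : Xi u π ⟶ P :=
  dmap (gr u π) ≫ RelProj.emb p chart π.U π.hU

/-- the pair `k` refines the pair `i`, compatibly with the local morphisms -/
def Rel (k i : Pair g) : Prop :=
  ∃ ρ : Xi u k ⟶ Xi u i, ρ ≫ jj u p' chart' i = jj u p' chart' k ∧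
    ρ ≫ nn u p chart i = nn u p chart k

theorem Rel.refl (i : Pair g) : Rel u p chart p' chart' i i :=
  ⟨𝟙 _, Category.id_comp _, Category.id_comp _⟩

theorem Rel.trans {k i l : Pair g} (h1 : Rel u p chart p' chart' k i)
    (h2 : Rel u p chart p' chart' i l) : Rel u p chart p' chart' k l := by
  obtain ⟨ρ, hρ1, hρ2⟩ := h1
  obtain ⟨ρ', hρ'1, hρ'2⟩ := h2
  exact ⟨ρ ≫ ρ', by rw [Category.assoc, hρ'1, hρ1], by rw [Category.assoc, hρ'2, hρ2]⟩

theorem rel_of_eq (k i : Pair g) (h1 : k.U = i.U) (h2 : k.U' = i.U') :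
    Rel u p chart p' chart' k i := by
  obtain ⟨U, hU, U', hU', hle⟩ := k
  obtain ⟨V, hV, V', hV', hle'⟩ := i
  simp only at h1 h2
  subst h1 h2
  exact Rel.refl u p chart p' chart' _

/-- shrink the open of `Y'` to a basic open -/
abbrev Pair.post (π : Pair g) (r' : Γ(Y', π.U')) : Pair g :=
  ⟨π.U, π.hU, Y'.basicOpen r', π.hU'.basicOpen r', (Y'.basicOpen_le r').trans π.hle⟩

/-- shrink the open of `Y` to a basic open -/
abbrev Pair.pre (π : Pair g) (r : Γ(Y, π.U)) (h : π.U' ≤ g ⁻¹ᵁ Y.basicOpen r) : Pair g :=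
  ⟨Y.basicOpen r, π.hU.basicOpen r, π.U', π.hU', h⟩

theorem gr_post (π : Pair g) (r' : Γ(Y', π.U')) :
    gr u (π.post r') =
      (𝒮'.res π.hU' (π.hU'.basicOpen r') (Y'.basicOpen_le r')).comp (gr u π) := by
  ext x
  exact congr($(u.appLE_map π.hle (Y'.basicOpen_le r')).hom x).symm

theorem gr_pre (π : Pair g) (r : Γ(Y, π.U)) (h : π.U' ≤ g ⁻¹ᵁ Y.basicOpen r) :
    gr u π =
      (gr u (π.pre r h)).comp (𝒮.res π.hU (π.hU.basicOpen r) (Y.basicOpen_le r)) := by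
  ext x
  exact congr($(u.map_appLE (Y.basicOpen_le r) h).hom x).symm

variable (hP : RelProj.IsRelProj 𝒮 p chart) (hP' : RelProj.IsRelProj 𝒮' p' chart')

include hP' in
theorem rel_post (π : Pair g) (r' : Γ(Y', π.U')) :
    Rel u p chart p' chart' (π.post r') π := by
  have hmem : Set.range ((RelCone.domOpen (gr u (π.post r'))).ι ≫
      Proj.map (𝒮'.res π.hU' (π.hU'.basicOpen r') (Y'.basicOpen_le r'))
        (𝒮'.irrelevant_le_map π.U' π.hU' r')).base ⊆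
      Set.range (RelCone.domOpen (gr u π)).ι.base := by
    rw [Scheme.Opens.range_ι]
    rintro _ ⟨b, rfl⟩
    exact (map_mem_domOpen_iff' (gr u π) _ (𝒮'.irrelevant_le_map π.U' π.hU' r')
      (gr u (π.post r')) (gr_post u π r') _).mpr b.2
  refine ⟨IsOpenImmersion.lift (RelCone.domOpen (gr u π)).ι _ hmem, ?_, ?_⟩
  · unfold jj
    rw [← Category.assoc, IsOpenImmersion.lift_fac, Category.assoc]
    congr 1
    exact RelProj.map_res_emb hP' π.U' π.hU' r'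
  · unfold nn
    rw [← Category.assoc]
    congr 1
    exact lift_dmap' (gr u π) _ (𝒮'.irrelevant_le_map π.U' π.hU' r') (gr u (π.post r'))
      (gr_post u π r') _ (IsOpenImmersion.lift_fac _ _ _)

include hP' in
theorem point_post (π : Pair g) (r' : Γ(Y', π.U')) (a : Xi u π)
    (ha : p' (jj u p' chart' π a) ∈ Y'.basicOpen r') :
    ∃ b : Xi u (π.post r'), jj u p' chart' (π.post r') b = jj u p' chart' π a := by
  have h1 : jj u p' chart' π a ∈ Set.range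
      (RelProj.emb p' chart' (Y'.basicOpen r') (π.hU'.basicOpen r')) := by
    rw [RelCone3.range_emb]; exact ha
  obtain ⟨x'', hx''⟩ := h1
  have h2 : RelProj.emb p' chart' π.U' π.hU'
      (Proj.map (𝒮'.res π.hU' (π.hU'.basicOpen r') (Y'.basicOpen_le r'))
        (𝒮'.irrelevant_le_map π.U' π.hU' r') x'') =
      RelProj.emb p' chart' π.U' π.hU' ((RelCone.domOpen (gr u π)).ι a) := by
    rw [← Scheme.Hom.comp_apply, RelProj.map_res_emb hP' π.U' π.hU' r', hx'']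
    rfl
  have h3 := (RelProj.emb p' chart' π.U' π.hU').isOpenEmbedding.injective h2
  have h4 : x'' ∈ RelCone.domOpen (gr u (π.post r')) := by
    refine (map_mem_domOpen_iff' (gr u π) _ (𝒮'.irrelevant_le_map π.U' π.hU' r')
      (gr u (π.post r')) (gr_post u π r') x'').mp ?_
    rw [h3]
    exact a.2
  exact ⟨⟨x'', h4⟩, hx''⟩

include hP in
theorem rel_pre (π : Pair g) (r : Γ(Y, π.U)) (h : π.U' ≤ g ⁻¹ᵁ Y.basicOpen r) :
    Rel u p chart p' chart' (π.pre r h) π := by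
  obtain ⟨ρ, hρ1, hρ2⟩ := pre_dmap' (gr u (π.pre r h))
    (𝒮.res π.hU (π.hU.basicOpen r) (Y.basicOpen_le r)) (𝒮.irrelevant_le_map π.U π.hU r)
    (gr u π) (gr_pre u π r h)
  refine ⟨ρ, ?_, ?_⟩
  · show ρ ≫ (RelCone.domOpen (gr u π)).ι ≫ RelProj.emb p' chart' π.U' π.hU' = _
    rw [reassoc_of% hρ1]
    rfl
  · show ρ ≫ dmap (gr u π) ≫ RelProj.emb p chart π.U π.hU = _
    rw [reassoc_of% hρ2]
    show _ = dmap (gr u (π.pre r h)) ≫ RelProj.emb p chart (Y.basicOpen r) (π.hU.basicOpen r)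
    rw [← RelProj.map_res_emb hP π.U π.hU r]

theorem point_pre (π : Pair g) (r : Γ(Y, π.U)) (h : π.U' ≤ g ⁻¹ᵁ Y.basicOpen r) (a : Xi u π) :
    ∃ b : Xi u (π.pre r h), jj u p' chart' (π.pre r h) b = jj u p' chart' π a := by
  have e : RelCone.domOpen (gr u π) = RelCone.domOpen (gr u (π.pre r h)) :=
    domOpen_eq_of_pre (gr u (π.pre r h))
      (𝒮.res π.hU (π.hU.basicOpen r) (Y.basicOpen_le r)) (𝒮.irrelevant_le_map π.U π.hU r)
      (gr u π) (gr_pre u π r h)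
  have h1 : (RelCone.domOpen (gr u π)).ι a ∈ RelCone.domOpen (gr u (π.pre r h)) :=
    (SetLike.ext_iff.mp e ((RelCone.domOpen (gr u π)).ι a)).mp a.2
  exact ⟨⟨_, h1⟩, rfl⟩

end Rel

end Groth.Agent.Helper1.ProjQ
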