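import Mathlib
import Groth.Prelude.Def_RelProj4
import Groth.Agent.Lib.Helper1.ProjQ2

/-!
# Existence and uniqueness of `Proj(u)` on `G(u)` (helper1 library)
-/

universe u

open CategoryTheory CategoryTheory.Limits AlgebraicGeometry TopologicalSpace Opposite
open scoped HomogeneousIdeal

namespace Groth.Agent.Helper1.ProjQ

section Rel
variable {Y Y' P P' : Scheme.{u}} {g : Y' ⟶ Y} {𝒮 : RelProj.QCGrAlg Y} {𝒮' : RelProj.QCGrAlg Y'}
  (u : RelProj.QGrHom g 𝒮 𝒮')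
  (p : P ⟶ Y)
  (chart : ∀ (U : Y.Opens) (hU : IsAffineOpen U),
    (((p ⁻¹ᵁ U : P.Opens) : Scheme.{u}) ≅ Proj (𝒮.deg U hU)))
  (p' : P' ⟶ Y')
  (chart' : ∀ (U : Y'.Opens) (hU : IsAffineOpen U),
    (((p' ⁻¹ᵁ U : P'.Opens) : Scheme.{u}) ≅ Proj (𝒮'.deg U hU)))

theorem p'_jj_mem (π : Pair g) (a : Xi u π) : p' (jj u p' chart' π a) ∈ π.U' := by
  have : jj u p' chart' π a ∈ Set.range (RelProj.emb p' chart' π.U' π.hU') :=
    ⟨(RelCone.domOpen (gr u π)).ι a, rfl⟩
  rw [RelCone3.range_emb] at this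
  exact this

variable (hP : RelProj.IsRelProj 𝒮 p chart) (hP' : RelProj.IsRelProj 𝒮' p' chart')

include hP hP' in
theorem chain (π : Pair g) (a : Xi u π) (π' : Pair g)
    (hx : p' (jj u p' chart' π a) ∈ π'.U') :
    ∃ (k : Pair g) (b : Xi u k), jj u p' chart' k b = jj u p' chart' π a ∧
      Rel u p chart p' chart' k π ∧ Rel u p chart p' chart' k π' := by
  have hyU' := p'_jj_mem u p' chart' π a
  obtain ⟨c₀, c₀', hcc', hy'⟩ := exists_basicOpen_le_affine_inter π.hU' π'.hU' _ ⟨hyU', hx⟩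
  obtain ⟨r, s, hrs, hgy⟩ := exists_basicOpen_le_affine_inter π.hU π'.hU
    (g (p' (jj u p' chart' π a))) ⟨π.hle hyU', π'.hle hx⟩
  have hc : Y'.basicOpen (c₀ * (g.appLE π.U π.U' π.hle).hom r) =
      Y'.basicOpen c₀ ⊓ g ⁻¹ᵁ Y.basicOpen r := by
    rw [Scheme.basicOpen_mul, Scheme.basicOpen_appLE, ← inf_assoc,
      inf_eq_left.mpr (Y'.basicOpen_le c₀)]
  have hc' : Y'.basicOpen (c₀' * (g.appLE π'.U π'.U' π'.hle).hom s) =
      Y'.basicOpen c₀' ⊓ g ⁻¹ᵁ Y.basicOpen s := by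
    rw [Scheme.basicOpen_mul, Scheme.basicOpen_appLE, ← inf_assoc,
      inf_eq_left.mpr (Y'.basicOpen_le c₀')]
  have hle₁ : Y'.basicOpen (c₀ * (g.appLE π.U π.U' π.hle).hom r) ≤ g ⁻¹ᵁ Y.basicOpen r := by
    rw [hc]; exact inf_le_right
  have hle₁' : Y'.basicOpen (c₀' * (g.appLE π'.U π'.U' π'.hle).hom s) ≤
      g ⁻¹ᵁ Y.basicOpen s := by
    rw [hc']; exact inf_le_right
  have hyc : p' (jj u p' chart' π a) ∈
      Y'.basicOpen (c₀ * (g.appLE π.U π.U' π.hle).hom r) := by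
    rw [hc]; exact ⟨hy', hgy⟩
  obtain ⟨b₁, hb₁⟩ := point_post u p' chart' hP' π _ a hyc
  obtain ⟨b₂, hb₂⟩ := point_pre u p' chart' (π.post (c₀ * (g.appLE π.U π.U' π.hle).hom r)) r hle₁ b₁
  refine ⟨(π.post (c₀ * (g.appLE π.U π.U' π.hle).hom r)).pre r hle₁, b₂, hb₂.trans hb₁, ?_, ?_⟩
  · exact (rel_pre u p chart p' chart' hP
      (π.post (c₀ * (g.appLE π.U π.U' π.hle).hom r)) r hle₁).trans u p chart p' chart'
      (rel_post u p chart p' chart' hP' π _)
  · have h1 : Rel u p chart p' chart'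
        ((π.post (c₀ * (g.appLE π.U π.U' π.hle).hom r)).pre r hle₁)
        ((π'.post (c₀' * (g.appLE π'.U π'.U' π'.hle).hom s)).pre s hle₁') := by
      apply rel_of_eq
      · exact hrs
      · show Y'.basicOpen _ = Y'.basicOpen _
        rw [hc, hc', hcc', hrs]
    exact h1.trans u p chart p' chart'
      ((rel_pre u p chart p' chart' hP
        (π'.post (c₀' * (g.appLE π'.U π'.U' π'.hle).hom s)) s hle₁').trans u p chart p' chart'
        (rel_post u p chart p' chart' hP' π' _))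

theorem range_jj_subset (π : Pair g) :
    Set.range (jj u p' chart' π).base ⊆ Set.range (RelProj.domQ u p' chart').ι.base := by
  rw [Scheme.Opens.range_ι]
  rintro _ ⟨a, rfl⟩
  refine Opens.mem_iSup.mpr ⟨⟨(⟨π.U, π.hU⟩, ⟨π.U', π.hU'⟩), π.hle⟩, ?_⟩
  exact ⟨(RelCone.domOpen (gr u π)).ι a, a.2, rfl⟩

theorem exists_pair_of_mem (x : P') (hx : x ∈ RelProj.domQ u p' chart') :
    ∃ π : Pair g, x ∈ Set.range (jj u p' chart' π).base := by
  obtain ⟨V, y, hy, rfl⟩ := Opens.mem_iSup.mp hx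
  exact ⟨⟨V.1.1.1, V.1.1.2, V.1.2.1, V.1.2.2, V.2⟩, ⟨y, hy⟩, rfl⟩

include hP hP' in
theorem existsUnique_glue :
    ∃! v : ((RelProj.domQ u p' chart' : P'.Opens) : Scheme.{u}) ⟶ P,
      ∀ π : Pair g, IsOpenImmersion.lift (RelProj.domQ u p' chart').ι (jj u p' chart' π)
        (range_jj_subset u p' chart' π) ≫ v = nn u p chart π := by
  refine exists_glue (RelProj.domQ u p' chart') (Xi u) (jj u p' chart')
    (range_jj_subset u p' chart') (exists_pair_of_mem u p' chart') (nn u p chart) ?_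
  intro i i' a a' haa'
  have hx : p' (jj u p' chart' i a) ∈ i'.U' := by
    rw [haa']; exact p'_jj_mem u p' chart' i' a'
  obtain ⟨k, b, hb, ⟨ρ, h1, h3⟩, ⟨ρ', h2, h4⟩⟩ := chain u p chart p' chart' hP hP' i a i' hx
  exact ⟨k, b, ρ, ρ', hb, h1, h2, h3, h4⟩

theorem awayEmb_eq (π : Pair g) (t : ProjDom.Idx (𝒮.deg π.U π.hU)) :
    RelProj.awayEmb u p' chart' π.U π.hU π.U' π.hU' π.hle t.hd t.f t.hf =
      ch (gr u π) t ≫ jj u p' chart' π := by
  unfold jj RelProj.awayEmb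
  rw [reassoc_of% (ch_ι (gr u π) t)]

theorem lift_awayEmb (W : P'.Opens) (π : Pair g) (t : ProjDom.Idx (𝒮.deg π.U π.hU))
    (hW : Set.range (RelProj.awayEmb u p' chart' π.U π.hU π.U' π.hU' π.hle t.hd t.f t.hf).base ⊆
      Set.range W.ι.base)
    (hW' : Set.range (jj u p' chart' π).base ⊆ Set.range W.ι.base) :
    IsOpenImmersion.lift W.ι
        (RelProj.awayEmb u p' chart' π.U π.hU π.U' π.hU' π.hle t.hd t.f t.hf) hW =
      ch (gr u π) t ≫ IsOpenImmersion.lift W.ι (jj u p' chart' π) hW' := by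
  rw [← cancel_mono W.ι, Category.assoc, IsOpenImmersion.lift_fac, IsOpenImmersion.lift_fac,
    awayEmb_eq]

theorem range_awayEmb_subset (W : P'.Opens) (π : Pair g) (t : ProjDom.Idx (𝒮.deg π.U π.hU))
    (hW' : Set.range (jj u p' chart' π).base ⊆ Set.range W.ι.base) :
    Set.range (RelProj.awayEmb u p' chart' π.U π.hU π.U' π.hU' π.hle t.hd t.f t.hf).base ⊆
      Set.range W.ι.base := by
  rw [awayEmb_eq]
  rintro _ ⟨y, rfl⟩
  exact hW' ⟨ch (gr u π) t y, rfl⟩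

theorem isProjQMapOn_iff (W : P'.Opens)
    (hW : ∀ π : Pair g, Set.range (jj u p' chart' π).base ⊆ Set.range W.ι.base)
    (v : (W : Scheme.{u}) ⟶ P) :
    RelProj.IsProjQMapOn u p chart p' chart' W v ↔
      ∀ π : Pair g, IsOpenImmersion.lift W.ι (jj u p' chart' π) (hW π) ≫ v = nn u p chart π := by
  constructor
  · intro H π
    refine (ProjDom.cov (gr u π) (RelCone.domOpen (gr u π)) (ch (gr u π))
      (exists_idx_of_mem (gr u π)) (ch_ι (gr u π))).hom_ext _ _ fun t => ?_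
    show ch (gr u π) t ≫ IsOpenImmersion.lift W.ι (jj u p' chart' π) (hW π) ≫ v =
      ch (gr u π) t ≫ nn u p chart π
    have hWt := range_awayEmb_subset u p' chart' W π t (hW π)
    rw [← Category.assoc, ← lift_awayEmb u p' chart' W π t hWt (hW π),
      H π.U π.hU π.U' π.hU' π.hle t.d t.hd t.f t.hf hWt]
    unfold nn
    rw [reassoc_of% (ch_dmap (gr u π) t)]
    rfl
  · intro H U hU U' hU' hle d hd f hf hWr
    have := lift_awayEmb u p' chart' W ⟨U, hU, U', hU', hle⟩ ⟨d, hd, f, hf⟩ hWr (hW _)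
    rw [this, Category.assoc, H ⟨U, hU, U', hU', hle⟩]
    unfold nn
    rw [reassoc_of% (ch_dmap (gr u ⟨U, hU, U', hU', hle⟩) ⟨d, hd, f, hf⟩)]
    rfl

include hP hP' in
theorem existsUnique_isProjQMapOn (W : P'.Opens) (hW : W = RelProj.domQ u p' chart') :
    ∃! v : (W : Scheme.{u}) ⟶ P, RelProj.IsProjQMapOn u p chart p' chart' W v := by
  subst hW
  obtain ⟨v, hv, huniq⟩ := existsUnique_glue u p chart p' chart' hP hP'
  exact ⟨v, (isProjQMapOn_iff u p chart p' chart' _ (range_jj_subset u p' chart') v).mpr hv,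
    fun v' hv' => huniq v'
      ((isProjQMapOn_iff u p chart p' chart' _ (range_jj_subset u p' chart') v').mp hv')⟩

theorem strZero_comp (π : Pair g) :
    𝒮.strZero π.U π.hU ≫ CommRingCat.ofHom (RelProjMap.zeroHom (gr u π)) =
      g.appLE π.U π.U' π.hle ≫ 𝒮'.strZero π.U' π.hU' := by
  ext r
  exact congr($(u.str_appLE π.U π.U' π.hle).hom r)

include hP hP' in
theorem nn_comp (π : Pair g) :
    nn u p chart π ≫ p = jj u p' chart' π ≫ p' ≫ g := by
  unfold nn jj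
  rw [Category.assoc, Category.assoc, RelCone3.emb_comp π.U π.hU hP,
    reassoc_of% (RelCone3.emb_comp π.U' π.hU' hP'), reassoc_of% (dmap_toSpecZero (gr u π)),
    ← IsAffineOpen.SpecMap_appLE_fromSpec g π.hU π.hU' π.hle, ← Spec.map_comp_assoc,
    ← Spec.map_comp_assoc, strZero_comp]

include hP hP' in
theorem comp_eq (W : P'.Opens) (hW : W = RelProj.domQ u p' chart') (v : (W : Scheme.{u}) ⟶ P)
    (hv : RelProj.IsProjQMapOn u p chart p' chart' W v) : v ≫ p = W.ι ≫ p' ≫ g := by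
  subst hW
  have hv' := (isProjQMapOn_iff u p chart p' chart' _ (range_jj_subset u p' chart') v).mp hv
  refine hom_ext (RelProj.domQ u p' chart') (Xi u) (jj u p' chart')
    (range_jj_subset u p' chart') (exists_pair_of_mem u p' chart') fun π => ?_
  rw [← Category.assoc, hv' π, nn_comp u p chart p' chart' hP hP' π,
    IsOpenImmersion.lift_fac_assoc]

include hP hP' in
theorem inf_preimage_eq (π : Pair g) :
    RelProj.domQ u p' chart' ⊓ p' ⁻¹ᵁ π.U' =
      (RelProj.emb p' chart' π.U' π.hU') ''ᵁ RelCone.domOpen (gr u π) := by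
  apply le_antisymm
  · rintro x ⟨hx1, hx2⟩
    obtain ⟨π₀, a, rfl⟩ := exists_pair_of_mem u p' chart' x hx1
    obtain ⟨k, b, hb, -, ⟨ρ', h2, -⟩⟩ := chain u p chart p' chart' hP hP' π₀ a π hx2
    refine ⟨(RelCone.domOpen (gr u π)).ι (ρ' b), (ρ' b).2, ?_⟩
    have : jj u p' chart' π (ρ' b) = jj u p' chart' k b := by
      rw [← h2]; rfl
    exact this.trans hb
  · rintro _ ⟨y, hy, rfl⟩
    refine ⟨?_, ?_⟩
    · have := range_jj_subset u p' chart' π ⟨⟨y, hy⟩, rfl⟩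
      rw [Scheme.Opens.range_ι] at this
      exact this
    · exact p'_jj_mem u p' chart' π ⟨y, hy⟩

end Rel

end Groth.Agent.Helper1.ProjQ
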