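import Mathlib
import Groth.Prelude.Def_RelProj4
import Groth.Agent.Lib.Helper1.ProjQ3

/-!
# `Proj(φ)` on `G(φ)` for a graded homomorphism over one base (helper1 library)
-/

universe u

open CategoryTheory CategoryTheory.Limits AlgebraicGeometry TopologicalSpace Opposite
open scoped HomogeneousIdeal

namespace Groth.Agent.Helper1.ProjQ

section Same
variable {Y PA PB : Scheme.{u}} {𝒜 ℬ : RelProj.QCGrAlg Y} (φ : 𝒜.toQCAlg ⟶ ℬ.toQCAlg)
  (hφ : RelProj.IsGradedHom φ)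
  (pA : PA ⟶ Y)
  (chartA : ∀ (U : Y.Opens) (hU : IsAffineOpen U),
    (((pA ⁻¹ᵁ U : PA.Opens) : Scheme.{u}) ≅ Proj (𝒜.deg U hU)))
  (pB : PB ⟶ Y)
  (chartB : ∀ (U : Y.Opens) (hU : IsAffineOpen U),
    (((pB ⁻¹ᵁ U : PB.Opens) : Scheme.{u}) ≅ Proj (ℬ.deg U hU)))

/-- the diagonal pair `(U, U)` -/
abbrev diag (U : Y.Opens) (hU : IsAffineOpen U) : Pair (𝟙 Y) := ⟨U, hU, U, hU, le_refl U⟩

theorem gr_diag (U : Y.Opens) (hU : IsAffineOpen U) :
    gr (RelProj.QGrHom.ofHom φ hφ) (diag U hU) = RelProj.gradedHomAt φ hφ U hU := by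
  ext x
  show (ℬ.presheaf.map (homOfLE (le_refl U)).op).hom ((φ.hom.app (op U)).hom x) =
    (φ.hom.app (op U)).hom x
  have : (homOfLE (le_refl U)).op = 𝟙 (op U) := Subsingleton.elim _ _
  rw [this, ℬ.presheaf.map_id]
  rfl

variable (hA : RelProj.IsRelProj 𝒜 pA chartA) (hB : RelProj.IsRelProj ℬ pB chartB)

include hA hB in
theorem inf_preimage_eq_same (U : Y.Opens) (hU : IsAffineOpen U) :
    RelProj.domQ (RelProj.QGrHom.ofHom φ hφ) pB chartB ⊓ pB ⁻¹ᵁ U =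
      (RelProj.emb pB chartB U hU) ''ᵁ RelCone.domOpen (RelProj.gradedHomAt φ hφ U hU) := by
  have := inf_preimage_eq (RelProj.QGrHom.ofHom φ hφ) pA chartA pB chartB hA hB (diag U hU)
  rw [gr_diag] at this
  exact this

include hA hB in
theorem domQ_ofHom_eq :
    RelProj.domQ (RelProj.QGrHom.ofHom φ hφ) pB chartB =
      ⨆ U : Y.affineOpens, (RelProj.emb pB chartB U.1 U.2) ''ᵁ
        RelCone.domOpen (RelProj.gradedHomAt φ hφ U.1 U.2) := by
  apply le_antisymm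
  · intro x hx
    obtain ⟨U, (hU : IsAffineOpen U), hxU, -⟩ := Opens.isBasis_iff_nbhd.mp Y.isBasis_affineOpens
      (show pB x ∈ (⊤ : Y.Opens) from trivial)
    have h1 : x ∈ RelProj.domQ (RelProj.QGrHom.ofHom φ hφ) pB chartB ⊓ pB ⁻¹ᵁ U := ⟨hx, hxU⟩
    rw [inf_preimage_eq_same φ hφ pA chartA pB chartB hA hB U hU] at h1
    exact Opens.mem_iSup.mpr ⟨⟨U, hU⟩, h1⟩
  · refine iSup_le fun U => ?_
    rw [← inf_preimage_eq_same φ hφ pA chartA pB chartB hA hB U.1 U.2]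
    exact inf_le_left

include hA hB in
theorem isAffineHom_of_isProjQMapOn (W : PB.Opens)
    (hW : W = RelProj.domQ (RelProj.QGrHom.ofHom φ hφ) pB chartB)
    (Φ : (W : Scheme.{u}) ⟶ PA)
    (hΦ : RelProj.IsProjQMapOn (RelProj.QGrHom.ofHom φ hφ) pA chartA pB chartB W Φ) :
    IsAffineHom Φ := by
  subst hW
  have hΦ' := (isProjQMapOn_iff (RelProj.QGrHom.ofHom φ hφ) pA chartA pB chartB _
    (range_jj_subset (RelProj.QGrHom.ofHom φ hφ) pB chartB) Φ).mp hΦ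
  have hcomp := comp_eq (RelProj.QGrHom.ofHom φ hφ) pA chartA pB chartB hA hB _ rfl Φ hΦ
  apply isAffineHom_of_forall_exists_isAffineOpen
  intro y
  obtain ⟨U, (hU : IsAffineOpen U), hyU, -⟩ := Opens.isBasis_iff_nbhd.mp Y.isBasis_affineOpens
    (show pA y ∈ (⊤ : Y.Opens) from trivial)
  have hy' : y ∈ Set.range (RelProj.emb pA chartA U hU) := by
    rw [RelCone3.range_emb]; exact hyU
  obtain ⟨y₁, rfl⟩ := hy'
  have hy := y₁.not_irrelevant_le
  rw [HomogeneousIdeal.irrelevant_le] at hy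
  push Not at hy
  obtain ⟨d, hd, hy⟩ := hy
  obtain ⟨f, hf, hfy⟩ := SetLike.not_le_iff_exists.mp hy
  have hf' : f ∈ 𝒜.deg U hU d := hf
  have hlift := isOpenImmersion_lift (RelProj.domQ (RelProj.QGrHom.ofHom φ hφ) pB chartB)
    (Xi (RelProj.QGrHom.ofHom φ hφ)) (jj (RelProj.QGrHom.ofHom φ hφ) pB chartB)
    (range_jj_subset (RelProj.QGrHom.ofHom φ hφ) pB chartB) (diag U hU)
  have hch : IsOpenImmersion (ch (gr (RelProj.QGrHom.ofHom φ hφ) (diag U hU)) ⟨d, hd, f, hf'⟩) :=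
    ProjDom.isOpenImmersion_chart _ _ _ (ch_ι _) _
  refine ⟨(RelProj.emb pA chartA U hU) ''ᵁ Proj.basicOpen (𝒜.deg U hU) f,
    ⟨y₁, (Proj.mem_basicOpen _ f y₁).mpr hfy, rfl⟩,
    (Proj.isAffineOpen_basicOpen _ f hf' hd).image_of_isOpenImmersion _, ?_⟩
  have key : Φ ⁻¹ᵁ ((RelProj.emb pA chartA U hU) ''ᵁ Proj.basicOpen (𝒜.deg U hU) f) =
      (ch (gr (RelProj.QGrHom.ofHom φ hφ) (diag U hU)) ⟨d, hd, f, hf'⟩ ≫
        IsOpenImmersion.lift (RelProj.domQ (RelProj.QGrHom.ofHom φ hφ) pB chartB).ι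
          (jj (RelProj.QGrHom.ofHom φ hφ) pB chartB (diag U hU))
          (range_jj_subset (RelProj.QGrHom.ofHom φ hφ) pB chartB (diag U hU))).opensRange := by
    ext w
    constructor
    · rintro ⟨y₂, hy₂, hy₂w⟩
      have hwU : pB ((RelProj.domQ (RelProj.QGrHom.ofHom φ hφ) pB chartB).ι w) ∈ U := by
        have h1 : pB ((RelProj.domQ (RelProj.QGrHom.ofHom φ hφ) pB chartB).ι w) = pA (Φ w) := by
          rw [← Scheme.Hom.comp_apply, ← Scheme.Hom.comp_apply, hcomp]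
          rfl
        rw [h1, ← hy₂w]
        have : RelProj.emb pA chartA U hU y₂ ∈ Set.range (RelProj.emb pA chartA U hU) := ⟨y₂, rfl⟩
        rw [RelCone3.range_emb] at this
        exact this
      have h2 : (RelProj.domQ (RelProj.QGrHom.ofHom φ hφ) pB chartB).ι w ∈
          RelProj.domQ (RelProj.QGrHom.ofHom φ hφ) pB chartB ⊓ pB ⁻¹ᵁ U := ⟨w.2, hwU⟩
      rw [inf_preimage_eq (RelProj.QGrHom.ofHom φ hφ) pA chartA pB chartB hA hB (diag U hU)] at h2
      obtain ⟨a₁, ha₁, ha₁w⟩ := h2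
      have hwa : IsOpenImmersion.lift (RelProj.domQ (RelProj.QGrHom.ofHom φ hφ) pB chartB).ι
          (jj (RelProj.QGrHom.ofHom φ hφ) pB chartB (diag U hU))
          (range_jj_subset (RelProj.QGrHom.ofHom φ hφ) pB chartB (diag U hU)) ⟨a₁, ha₁⟩ = w := by
        apply (RelProj.domQ (RelProj.QGrHom.ofHom φ hφ) pB chartB).ι.isOpenEmbedding.injective
        rw [← Scheme.Hom.comp_apply, IsOpenImmersion.lift_fac]
        exact ha₁w
      have hΦw : Φ w = RelProj.emb pA chartA U hU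
          (dmap (gr (RelProj.QGrHom.ofHom φ hφ) (diag U hU)) ⟨a₁, ha₁⟩) := by
        rw [← hwa, ← Scheme.Hom.comp_apply, hΦ' (diag U hU)]
        rfl
      have h3 : y₂ = dmap (gr (RelProj.QGrHom.ofHom φ hφ) (diag U hU)) ⟨a₁, ha₁⟩ :=
        (RelProj.emb pA chartA U hU).isOpenEmbedding.injective (hy₂w.trans hΦw)
      rw [h3] at hy₂
      have h4 := (dmap_mem_basicOpen_iff (gr (RelProj.QGrHom.ofHom φ hφ) (diag U hU)) hd hf'
        ⟨a₁, ha₁⟩).mp hy₂
      have h5 : a₁ ∈ Set.range (Proj.awayι (ℬ.deg U hU)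
          ((gr (RelProj.QGrHom.ofHom φ hφ) (diag U hU)) f)
          ((gr (RelProj.QGrHom.ofHom φ hφ) (diag U hU)).2 hf') hd) := by
        rw [RelCone3.mem_range_awayι_iff, ← Proj.mem_basicOpen]
        exact h4
      obtain ⟨z, hz⟩ := h5
      refine ⟨z, ?_⟩
      apply (RelProj.domQ (RelProj.QGrHom.ofHom φ hφ) pB chartB).ι.isOpenEmbedding.injective
      rw [← Scheme.Hom.comp_apply, Category.assoc, IsOpenImmersion.lift_fac, ← ha₁w, ← hz]
      unfold jj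
      rw [reassoc_of% (ch_ι (gr (RelProj.QGrHom.ofHom φ hφ) (diag U hU)) ⟨d, hd, f, hf'⟩)]
      rfl
    · rintro ⟨z, rfl⟩
      have h1 : Φ ((ch (gr (RelProj.QGrHom.ofHom φ hφ) (diag U hU)) ⟨d, hd, f, hf'⟩ ≫
          IsOpenImmersion.lift (RelProj.domQ (RelProj.QGrHom.ofHom φ hφ) pB chartB).ι
          (jj (RelProj.QGrHom.ofHom φ hφ) pB chartB (diag U hU))
          (range_jj_subset (RelProj.QGrHom.ofHom φ hφ) pB chartB (diag U hU))) z) =
          RelProj.emb pA chartA U hU (Proj.awayι (𝒜.deg U hU) f hf' hd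
            (Spec.map (CommRingCat.ofHom (HomogeneousLocalization.Away.map
              (gr (RelProj.QGrHom.ofHom φ hφ) (diag U hU)) f)) z)) := by
        rw [← Scheme.Hom.comp_apply, Category.assoc, hΦ' (diag U hU)]
        unfold nn
        rw [reassoc_of% (ch_dmap (gr (RelProj.QGrHom.ofHom φ hφ) (diag U hU)) ⟨d, hd, f, hf'⟩)]
        rfl
      refine ⟨_, ?_, h1.symm⟩
      rw [SetLike.mem_coe, Proj.mem_basicOpen, ← RelCone3.mem_range_awayι_iff _ hf' hd]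
      exact ⟨_, rfl⟩
  rw [key]
  exact isAffineOpen_opensRange _

end Same

end Groth.Agent.Helper1.ProjQ
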