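import Mathlib
import Groth.Prelude.Def_RelProj4
import Groth.Agent.Lib.Helper1.ProjQ4

/-!
# Small facts on the open of definition `G(u)` (helper1 library)
-/

universe u

open CategoryTheory CategoryTheory.Limits AlgebraicGeometry TopologicalSpace Opposite
open scoped HomogeneousIdeal

namespace Groth.Agent.Helper1.ProjQ

section Ring
variable {A B σ τ : Type u} [CommRing A] [SetLike σ A] [AddSubgroupClass σ A] {𝒜 : ℕ → σ}
  [GradedRing 𝒜] [CommRing B] [SetLike τ B] [AddSubgroupClass τ B] {ℬ : ℕ → τ} [GradedRing ℬ]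
  (φ : 𝒜 →+*ᵍ ℬ)

theorem domOpen_eq_top_of_irrelevant_le (h : (ℬ)₊ ≤ ((𝒜)₊).map φ) : RelCone.domOpen φ = ⊤ := by
  refine eq_top_iff.mpr fun x _ => ?_
  rw [RelCone.mem_domOpen]
  by_contra hcon
  push Not at hcon
  apply x.not_irrelevant_le
  have h1 : ((ℬ)₊).toIdeal ≤ (((𝒜)₊).map φ).toIdeal := h
  have h2 : (((𝒜)₊).map φ).toIdeal ≤ x.asHomogeneousIdeal.toIdeal := by
    rw [HomogeneousIdeal.toIdeal_map, Ideal.map_le_iff_le_comap]
    intro a ha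
    exact hcon a ha
  exact le_trans h1 h2

end Ring

section Gen
variable {Y Y' P' : Scheme.{u}} {g : Y' ⟶ Y} {𝒮 : RelProj.QCGrAlg Y} {𝒮' : RelProj.QCGrAlg Y'}
  (u : RelProj.QGrHom g 𝒮 𝒮')
  (p' : P' ⟶ Y')
  (chart' : ∀ (U : Y'.Opens) (hU : IsAffineOpen U),
    (((p' ⁻¹ᵁ U : P'.Opens) : Scheme.{u}) ≅ Proj (𝒮'.deg U hU)))

theorem image_le_domQ (π : Pair g) :
    (RelProj.emb p' chart' π.U' π.hU') ''ᵁ RelCone.domOpen (gr u π) ≤ RelProj.domQ u p' chart' := by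
  rintro _ ⟨y, hy, rfl⟩
  have := range_jj_subset u p' chart' π ⟨⟨y, hy⟩, rfl⟩
  rw [Scheme.Opens.range_ι] at this
  exact this

theorem mem_domQ_iff (x : P') :
    x ∈ RelProj.domQ u p' chart' ↔ ∃ (π : Pair g) (y : Proj (𝒮'.deg π.U' π.hU')),
      y ∈ RelCone.domOpen (gr u π) ∧ RelProj.emb p' chart' π.U' π.hU' y = x := by
  constructor
  · intro hx
    obtain ⟨π, a, ha⟩ := exists_pair_of_mem u p' chart' x hx
    exact ⟨π, (RelCone.domOpen (gr u π)).ι a, a.2, ha⟩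
  · rintro ⟨π, y, hy, rfl⟩
    exact image_le_domQ u p' chart' π ⟨y, hy, rfl⟩

variable {𝒯 : RelProj.QCGrAlg Y} (v : 𝒯.toQCAlg ⟶ 𝒮.toQCAlg) (hv : RelProj.IsGradedHom v)
  (u' : RelProj.QGrHom g 𝒯 𝒮')

theorem gr_comp (hu' : ∀ U : Y.Opens, u'.app U = v.hom.app (op U) ≫ u.app U) (π : Pair g) :
    gr u' π = (gr u π).comp (RelProj.gradedHomAt v hv π.U π.hU) := by
  ext x
  show (u'.appLE π.U π.U' π.hle).hom x = (u.appLE π.U π.U' π.hle).hom ((v.hom.app (op π.U)).hom x)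
  rw [RelSpec.QHom.appLE, RelSpec.QHom.appLE, hu']
  rfl

include hv in
theorem domQ_comp_le (hu' : ∀ U : Y.Opens, u'.app U = v.hom.app (op U) ≫ u.app U) :
    RelProj.domQ u' p' chart' ≤ RelProj.domQ u p' chart' := by
  intro x hx
  rw [mem_domQ_iff] at hx ⊢
  obtain ⟨π, y, hy, rfl⟩ := hx
  refine ⟨π, y, ?_, rfl⟩
  rw [gr_comp u v hv u' hu' π] at hy
  exact domOpen_comp_le (gr u π) (RelProj.gradedHomAt v hv π.U π.hU) hy

end Gen

section Same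
variable {Y PB : Scheme.{u}} {𝒜 ℬ : RelProj.QCGrAlg Y} (φ : 𝒜.toQCAlg ⟶ ℬ.toQCAlg)
  (hφ : RelProj.IsGradedHom φ)
  (pB : PB ⟶ Y)
  (chartB : ∀ (U : Y.Opens) (hU : IsAffineOpen U),
    (((pB ⁻¹ᵁ U : PB.Opens) : Scheme.{u}) ≅ Proj (ℬ.deg U hU)))

theorem image_le_domQ_same (U : Y.Opens) (hU : IsAffineOpen U) :
    (RelProj.emb pB chartB U hU) ''ᵁ RelCone.domOpen (RelProj.gradedHomAt φ hφ U hU) ≤
      RelProj.domQ (RelProj.QGrHom.ofHom φ hφ) pB chartB := by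
  have := image_le_domQ (RelProj.QGrHom.ofHom φ hφ) pB chartB (diag U hU)
  rw [gr_diag] at this
  exact this

theorem domQ_eq_top_of_locally_irrelevant_le
    (hcov : ∀ y : Y, ∃ (U : Y.Opens) (hU : IsAffineOpen U), y ∈ U ∧
      (ℬ.deg U hU)₊ ≤ ((𝒜.deg U hU)₊).map (RelProj.gradedHomAt φ hφ U hU)) :
    RelProj.domQ (RelProj.QGrHom.ofHom φ hφ) pB chartB = ⊤ := by
  refine eq_top_iff.mpr fun x _ => ?_
  obtain ⟨U, hU, hxU, hirr⟩ := hcov (pB x)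
  have hx' : x ∈ Set.range (RelProj.emb pB chartB U hU) := by
    rw [RelCone3.range_emb]; exact hxU
  obtain ⟨x₁, rfl⟩ := hx'
  apply image_le_domQ_same φ hφ pB chartB U hU
  refine ⟨x₁, ?_, rfl⟩
  rw [domOpen_eq_top_of_irrelevant_le _ hirr]
  trivial

end Same

end Groth.Agent.Helper1.ProjQ
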