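import Mathlib
import Groth.Prelude.Def_RelProj4
import Groth.Agent.Lib.Helper1.ProjQ5

/-!
# The chart property over the diagonal pairs (helper1 library)
-/

universe u

open CategoryTheory CategoryTheory.Limits AlgebraicGeometry TopologicalSpace Opposite
open scoped HomogeneousIdeal

namespace Groth.Agent.Helper1.ProjQ

section Ring
variable {A σ : Type u} [CommRing A] [SetLike σ A] [AddSubgroupClass σ A] {𝒜 : ℕ → σ}
  [GradedRing 𝒜]

/-- a point of `Proj` is determined by the standard opens of positive degree containing it -/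
theorem proj_ext_of_basicOpen (x y : Proj 𝒜)
    (h : ∀ t : ProjDom.Idx 𝒜, x ∈ Proj.basicOpen 𝒜 t.f ↔ y ∈ Proj.basicOpen 𝒜 t.f) : x = y := by
  have key : ∀ (x y : Proj 𝒜),
      (∀ t : ProjDom.Idx 𝒜, x ∈ Proj.basicOpen 𝒜 t.f ↔ y ∈ Proj.basicOpen 𝒜 t.f) →
      ∀ (i : ℕ) (g : A), g ∈ 𝒜 i → g ∈ x.asHomogeneousIdeal → g ∈ y.asHomogeneousIdeal := by
    intro x y h i g hg hgx
    have hx := x.not_irrelevant_le
    rw [HomogeneousIdeal.irrelevant_le] at hx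
    push Not at hx
    obtain ⟨d, hd, hx⟩ := hx
    obtain ⟨f, hf, hfx⟩ := SetLike.not_le_iff_exists.mp hx
    have hf' : f ∈ 𝒜 d := hf
    have hfy : f ∉ y.asHomogeneousIdeal := by
      have := (h ⟨d, hd, f, hf'⟩).mp ((Proj.mem_basicOpen 𝒜 f x).mpr hfx)
      exact (Proj.mem_basicOpen 𝒜 f y).mp this
    have hgf : g * f ∈ 𝒜 (i + d) := SetLike.mul_mem_graded hg hf'
    have h1 : g * f ∈ x.asHomogeneousIdeal.toIdeal := Ideal.mul_mem_right _ _ hgx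
    have h2 : g * f ∈ y.asHomogeneousIdeal.toIdeal := by
      by_contra hcon
      have := (h ⟨i + d, Nat.add_pos_right i hd, g * f, hgf⟩).mpr
        ((Proj.mem_basicOpen 𝒜 _ y).mpr hcon)
      exact (Proj.mem_basicOpen 𝒜 _ x).mp this h1
    have hp : y.asHomogeneousIdeal.toIdeal.IsPrime := y.isPrime
    rcases hp.mem_or_mem h2 with h3 | h3
    · exact h3
    · exact absurd h3 hfy
  apply ProjectiveSpectrum.ext
  apply HomogeneousIdeal.ext'
  intro i g hg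
  exact ⟨key x y h i g hg, key y x (fun t => (h t).symm) i g hg⟩

end Ring

section Gen
variable {Y Y' P P' : Scheme.{u}} {g : Y' ⟶ Y} {𝒮 : RelProj.QCGrAlg Y} {𝒮' : RelProj.QCGrAlg Y'}
  (u : RelProj.QGrHom g 𝒮 𝒮')
  (p : P ⟶ Y)
  (chart : ∀ (U : Y.Opens) (hU : IsAffineOpen U),
    (((p ⁻¹ᵁ U : P.Opens) : Scheme.{u}) ≅ Proj (𝒮.deg U hU)))
  (p' : P' ⟶ Y')
  (chart' : ∀ (U : Y'.Opens) (hU : IsAffineOpen U),
    (((p' ⁻¹ᵁ U : P'.Opens) : Scheme.{u}) ≅ Proj (𝒮'.deg U hU)))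

/-- transport of the chart equation to a propositionally equal graded homomorphism -/
theorem chart_eq_of_eq (W : P'.Opens) (π : Pair g)
    (ψ : 𝒮.deg π.U π.hU →+*ᵍ 𝒮'.deg π.U' π.hU') (hψ : ψ = gr u π)
    (t : ProjDom.Idx (𝒮.deg π.U π.hU))
    (c : Spec (CommRingCat.of (HomogeneousLocalization.Away (𝒮'.deg π.U' π.hU') (ψ t.f))) ⟶
      (W : Scheme.{u}))
    (hc : c ≫ W.ι = Proj.awayι (𝒮'.deg π.U' π.hU') (ψ t.f) (ψ.2 t.hf) t.hd ≫
      RelProj.emb p' chart' π.U' π.hU')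
    (hWπ : Set.range (jj u p' chart' π).base ⊆ Set.range W.ι.base)
    (v : (W : Scheme.{u}) ⟶ P)
    (hv : IsOpenImmersion.lift W.ι (jj u p' chart' π) hWπ ≫ v = nn u p chart π) :
    c ≫ v = Spec.map (CommRingCat.ofHom (HomogeneousLocalization.Away.map ψ t.f)) ≫
      Proj.awayι (𝒮.deg π.U π.hU) t.f t.hf t.hd ≫ RelProj.emb p chart π.U π.hU := by
  subst hψ
  have hcc : c = ch (gr u π) t ≫ IsOpenImmersion.lift W.ι (jj u p' chart' π) hWπ := by
    rw [← cancel_mono W.ι, hc, Category.assoc, IsOpenImmersion.lift_fac]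
    unfold jj
    rw [reassoc_of% (ch_ι (gr u π) t)]
  rw [hcc, Category.assoc, hv]
  unfold nn
  rw [reassoc_of% (ch_dmap (gr u π) t)]
  rfl

/-- two morphisms agreeing on the standard charts of a pair agree on the local piece -/
theorem lift_comp_eq_of_eq (W : P'.Opens) (π : Pair g)
    (ψ : 𝒮.deg π.U π.hU →+*ᵍ 𝒮'.deg π.U' π.hU') (hψ : ψ = gr u π)
    {Z : Scheme.{u}} (r r' : (W : Scheme.{u}) ⟶ Z)
    (H : ∀ (t : ProjDom.Idx (𝒮.deg π.U π.hU))
      (c : Spec (CommRingCat.of (HomogeneousLocalization.Away (𝒮'.deg π.U' π.hU') (ψ t.f))) ⟶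
        (W : Scheme.{u})),
      c ≫ W.ι = Proj.awayι (𝒮'.deg π.U' π.hU') (ψ t.f) (ψ.2 t.hf) t.hd ≫
        RelProj.emb p' chart' π.U' π.hU' → c ≫ r = c ≫ r')
    (hWπ : Set.range (jj u p' chart' π).base ⊆ Set.range W.ι.base) :
    IsOpenImmersion.lift W.ι (jj u p' chart' π) hWπ ≫ r =
      IsOpenImmersion.lift W.ι (jj u p' chart' π) hWπ ≫ r' := by
  subst hψ
  refine (ProjDom.cov (gr u π) (RelCone.domOpen (gr u π)) (ch (gr u π))
    (exists_idx_of_mem (gr u π)) (ch_ι (gr u π))).hom_ext _ _ fun t => ?_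
  show ch (gr u π) t ≫ IsOpenImmersion.lift W.ι (jj u p' chart' π) hWπ ≫ r =
    ch (gr u π) t ≫ IsOpenImmersion.lift W.ι (jj u p' chart' π) hWπ ≫ r'
  rw [← Category.assoc, ← Category.assoc]
  apply H t
  rw [Category.assoc, IsOpenImmersion.lift_fac]
  unfold jj
  rw [reassoc_of% (ch_ι (gr u π) t)]

end Gen

section Same
variable {Y PA PB : Scheme.{u}} {𝒜 ℬ : RelProj.QCGrAlg Y} (φ : 𝒜.toQCAlg ⟶ ℬ.toQCAlg)
  (hφ : RelProj.IsGradedHom φ)
  (pA : PA ⟶ Y)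
  (chartA : ∀ (U : Y.Opens) (hU : IsAffineOpen U),
    (((pA ⁻¹ᵁ U : PA.Opens) : Scheme.{u}) ≅ Proj (𝒜.deg U hU)))
  (pB : PB ⟶ Y)
  (chartB : ∀ (U : Y.Opens) (hU : IsAffineOpen U),
    (((pB ⁻¹ᵁ U : PB.Opens) : Scheme.{u}) ≅ Proj (ℬ.deg U hU)))

/-- the chart property over the diagonal pairs `(U, U)` -/
def CP (W : PB.Opens) (r : (W : Scheme.{u}) ⟶ PA) : Prop :=
  ∀ (U : Y.Opens) (hU : IsAffineOpen U) (d : ℕ) (hd : 0 < d) (f : 𝒜.presheaf.obj (op U))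
    (hf : f ∈ 𝒜.deg U hU d)
    (g : Spec (CommRingCat.of (HomogeneousLocalization.Away (ℬ.deg U hU)
      ((RelProj.gradedHomAt φ hφ U hU) f))) ⟶ (W : Scheme.{u})),
    g ≫ W.ι = Proj.awayι (ℬ.deg U hU) ((RelProj.gradedHomAt φ hφ U hU) f)
        ((RelProj.gradedHomAt φ hφ U hU).2 hf) hd ≫ RelProj.emb pB chartB U hU →
      g ≫ r = Spec.map (CommRingCat.ofHom (HomogeneousLocalization.Away.map
          (RelProj.gradedHomAt φ hφ U hU) f)) ≫
        Proj.awayι (𝒜.deg U hU) f hf hd ≫ RelProj.emb pA chartA U hU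

variable (hA : RelProj.IsRelProj 𝒜 pA chartA) (hB : RelProj.IsRelProj ℬ pB chartB)

theorem cp_of_isProjQMapOn (W : PB.Opens)
    (hW : W = RelProj.domQ (RelProj.QGrHom.ofHom φ hφ) pB chartB)
    (r : (W : Scheme.{u}) ⟶ PA)
    (hr : RelProj.IsProjQMapOn (RelProj.QGrHom.ofHom φ hφ) pA chartA pB chartB W r) :
    CP φ hφ pA chartA pB chartB W r := by
  subst hW
  have hr' := (isProjQMapOn_iff (RelProj.QGrHom.ofHom φ hφ) pA chartA pB chartB _
    (range_jj_subset (RelProj.QGrHom.ofHom φ hφ) pB chartB) r).mp hr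
  intro U hU d hd f hf c hc
  exact chart_eq_of_eq (RelProj.QGrHom.ofHom φ hφ) pA chartA pB chartB _ (diag U hU)
    (RelProj.gradedHomAt φ hφ U hU) (gr_diag φ hφ U hU).symm ⟨d, hd, f, hf⟩ c hc
    (range_jj_subset (RelProj.QGrHom.ofHom φ hφ) pB chartB (diag U hU)) r (hr' (diag U hU))

include hA hB in
theorem cp_unique (W : PB.Opens)
    (hW : W = RelProj.domQ (RelProj.QGrHom.ofHom φ hφ) pB chartB)
    (r r' : (W : Scheme.{u}) ⟶ PA)
    (hr : CP φ hφ pA chartA pB chartB W r) (hr' : CP φ hφ pA chartA pB chartB W r') :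
    r = r' := by
  subst hW
  refine hom_ext (RelProj.domQ (RelProj.QGrHom.ofHom φ hφ) pB chartB)
    (fun U : Y.affineOpens => Xi (RelProj.QGrHom.ofHom φ hφ) (diag U.1 U.2))
    (fun U : Y.affineOpens => jj (RelProj.QGrHom.ofHom φ hφ) pB chartB (diag U.1 U.2))
    (fun U => range_jj_subset (RelProj.QGrHom.ofHom φ hφ) pB chartB (diag U.1 U.2)) ?_ ?_
  · intro x hx
    obtain ⟨U, (hU : IsAffineOpen U), hxU, -⟩ := Opens.isBasis_iff_nbhd.mp Y.isBasis_affineOpens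
      (show pB x ∈ (⊤ : Y.Opens) from trivial)
    have h1 : x ∈ RelProj.domQ (RelProj.QGrHom.ofHom φ hφ) pB chartB ⊓ pB ⁻¹ᵁ U := ⟨hx, hxU⟩
    rw [inf_preimage_eq (RelProj.QGrHom.ofHom φ hφ) pA chartA pB chartB hA hB (diag U hU)] at h1
    obtain ⟨a, ha, hax⟩ := h1
    exact ⟨⟨U, hU⟩, ⟨a, ha⟩, hax⟩
  · intro U
    exact lift_comp_eq_of_eq (RelProj.QGrHom.ofHom φ hφ) pB chartB _ (diag U.1 U.2)
      (RelProj.gradedHomAt φ hφ U.1 U.2) (gr_diag φ hφ U.1 U.2).symm r r'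
      (fun t c hc => (hr U.1 U.2 t.d t.hd t.f t.hf c hc).trans
        (hr' U.1 U.2 t.d t.hd t.f t.hf c hc).symm) _

include hA hB in
theorem isProjQMapOn_of_cp (W : PB.Opens)
    (hW : W = RelProj.domQ (RelProj.QGrHom.ofHom φ hφ) pB chartB)
    (r : (W : Scheme.{u}) ⟶ PA) (hr : CP φ hφ pA chartA pB chartB W r) :
    RelProj.IsProjQMapOn (RelProj.QGrHom.ofHom φ hφ) pA chartA pB chartB W r := by
  obtain ⟨r₀, hr₀, -⟩ := existsUnique_isProjQMapOn (RelProj.QGrHom.ofHom φ hφ) pA chartA pB chartB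
    hA hB W hW
  have := cp_unique φ hφ pA chartA pB chartB hA hB W hW r r₀ hr
    (cp_of_isProjQMapOn φ hφ pA chartA pB chartB W hW r₀ hr₀)
  rw [this]
  exact hr₀

include hA hB in
theorem existsUnique_cp (W : PB.Opens)
    (hW : W = RelProj.domQ (RelProj.QGrHom.ofHom φ hφ) pB chartB) :
    ∃! r : (W : Scheme.{u}) ⟶ PA, CP φ hφ pA chartA pB chartB W r := by
  obtain ⟨r₀, hr₀, -⟩ := existsUnique_isProjQMapOn (RelProj.QGrHom.ofHom φ hφ) pA chartA pB chartB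
    hA hB W hW
  exact ⟨r₀, cp_of_isProjQMapOn φ hφ pA chartA pB chartB W hW r₀ hr₀,
    fun r hr => cp_unique φ hφ pA chartA pB chartB hA hB W hW r r₀ hr
      (cp_of_isProjQMapOn φ hφ pA chartA pB chartB W hW r₀ hr₀)⟩

end Same

end Groth.Agent.Helper1.ProjQ
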