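import Mathlib
import Groth.Prelude.Def_RelProj4
import Groth.Agent.Lib.Helper1.ProjQ6

/-!
# Properties of `Proj(φ)` checked on the standard charts (helper1 library)
-/

universe u

open CategoryTheory CategoryTheory.Limits AlgebraicGeometry TopologicalSpace Opposite
open scoped HomogeneousIdeal

namespace Groth.Agent.Helper1.ProjQ

section Same
variable {Y PA PB : Scheme.{u}} {𝒜 ℬ : RelProj.QCGrAlg Y} (φ : 𝒜.toQCAlg ⟶ ℬ.toQCAlg)
  (hφ : RelProj.IsGradedHom φ)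
  (pA : PA ⟶ Y)
  (chartA : ∀ (U : Y.Opens) (hU : IsAffineOpen U),
    (((pA ⁻¹ᵁ U : PA.Opens) : Scheme.{u}) ≅ Proj (𝒜.deg U hU)))
  (pB : PB ⟶ Y)
  (chartB : ∀ (U : Y.Opens) (hU : IsAffineOpen U),
    (((pB ⁻¹ᵁ U : PB.Opens) : Scheme.{u}) ≅ Proj (ℬ.deg U hU)))
  (hA : RelProj.IsRelProj 𝒜 pA chartA) (hB : RelProj.IsRelProj ℬ pB chartB)

/-- the standard chart of `G(φ)` over `U` at `t` -/
noncomputable def chartB' (U : Y.Opens) (hU : IsAffineOpen U) (t : ProjDom.Idx (𝒜.deg U hU)) :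
    Spec (CommRingCat.of (HomogeneousLocalization.Away (ℬ.deg U hU)
      ((gr (RelProj.QGrHom.ofHom φ hφ) (diag U hU)) t.f))) ⟶
      ((RelProj.domQ (RelProj.QGrHom.ofHom φ hφ) pB chartB : PB.Opens) : Scheme.{u}) :=
  ch (gr (RelProj.QGrHom.ofHom φ hφ) (diag U hU)) t ≫
    IsOpenImmersion.lift (RelProj.domQ (RelProj.QGrHom.ofHom φ hφ) pB chartB).ι
      (jj (RelProj.QGrHom.ofHom φ hφ) pB chartB (diag U hU))
      (range_jj_subset (RelProj.QGrHom.ofHom φ hφ) pB chartB (diag U hU))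

instance (U : Y.Opens) (hU : IsAffineOpen U) (t : ProjDom.Idx (𝒜.deg U hU)) :
    IsOpenImmersion (chartB' φ hφ pB chartB U hU t) := by
  have hlift := isOpenImmersion_lift (RelProj.domQ (RelProj.QGrHom.ofHom φ hφ) pB chartB)
    (Xi (RelProj.QGrHom.ofHom φ hφ)) (jj (RelProj.QGrHom.ofHom φ hφ) pB chartB)
    (range_jj_subset (RelProj.QGrHom.ofHom φ hφ) pB chartB) (diag U hU)
  have hch : IsOpenImmersion (ch (gr (RelProj.QGrHom.ofHom φ hφ) (diag U hU)) t) :=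
    ProjDom.isOpenImmersion_chart _ _ _ (ch_ι _) _
  unfold chartB'
  infer_instance

/-- the standard chart of `Proj(𝒜)` over `U` at `t` -/
noncomputable def chartA' (U : Y.Opens) (hU : IsAffineOpen U) (t : ProjDom.Idx (𝒜.deg U hU)) :
    Spec (CommRingCat.of (HomogeneousLocalization.Away (𝒜.deg U hU) t.f)) ⟶ PA :=
  Proj.awayι (𝒜.deg U hU) t.f t.hf t.hd ≫ RelProj.emb pA chartA U hU

instance (U : Y.Opens) (hU : IsAffineOpen U) (t : ProjDom.Idx (𝒜.deg U hU)) :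
    IsOpenImmersion (chartA' pA chartA U hU t) := by
  unfold chartA'; infer_instance

theorem opensRange_chartA' (U : Y.Opens) (hU : IsAffineOpen U) (t : ProjDom.Idx (𝒜.deg U hU)) :
    (chartA' pA chartA U hU t).opensRange =
      (RelProj.emb pA chartA U hU) ''ᵁ Proj.basicOpen (𝒜.deg U hU) t.f := by
  unfold chartA'
  rw [Scheme.Hom.opensRange_comp, Proj.opensRange_awayι]

variable (Φ : ((RelProj.domQ (RelProj.QGrHom.ofHom φ hφ) pB chartB : PB.Opens) : Scheme.{u}) ⟶ PA)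
  (hΦ : RelProj.IsProjQMapOn (RelProj.QGrHom.ofHom φ hφ) pA chartA pB chartB
    (RelProj.domQ (RelProj.QGrHom.ofHom φ hφ) pB chartB) Φ)

include hΦ in
theorem chartB'_comp (U : Y.Opens) (hU : IsAffineOpen U) (t : ProjDom.Idx (𝒜.deg U hU)) :
    chartB' φ hφ pB chartB U hU t ≫ Φ =
      Spec.map (CommRingCat.ofHom (HomogeneousLocalization.Away.map
        (gr (RelProj.QGrHom.ofHom φ hφ) (diag U hU)) t.f)) ≫ chartA' pA chartA U hU t := by
  have hΦ' := (isProjQMapOn_iff (RelProj.QGrHom.ofHom φ hφ) pA chartA pB chartB _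
    (range_jj_subset (RelProj.QGrHom.ofHom φ hφ) pB chartB) Φ).mp hΦ
  unfold chartB' chartA'
  rw [Category.assoc, hΦ' (diag U hU)]
  unfold nn
  rw [reassoc_of% (ch_dmap (gr (RelProj.QGrHom.ofHom φ hφ) (diag U hU)) t)]
  rfl

include hA hB hΦ in
theorem preimage_chart_eq (U : Y.Opens) (hU : IsAffineOpen U) (t : ProjDom.Idx (𝒜.deg U hU)) :
    Φ ⁻¹ᵁ ((RelProj.emb pA chartA U hU) ''ᵁ Proj.basicOpen (𝒜.deg U hU) t.f) =
      (chartB' φ hφ pB chartB U hU t).opensRange := by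
  have hΦ' := (isProjQMapOn_iff (RelProj.QGrHom.ofHom φ hφ) pA chartA pB chartB _
    (range_jj_subset (RelProj.QGrHom.ofHom φ hφ) pB chartB) Φ).mp hΦ
  have hcomp := comp_eq (RelProj.QGrHom.ofHom φ hφ) pA chartA pB chartB hA hB _ rfl Φ hΦ
  ext w
  constructor
  · rintro ⟨y₂, hy₂, hy₂w⟩
    have hwU : pB ((RelProj.domQ (RelProj.QGrHom.ofHom φ hφ) pB chartB).ι w) ∈ U := by
      have h1 : pB ((RelProj.domQ (RelProj.QGrHom.ofHom φ hφ) pB chartB).ι w) = pA (Φ w) := by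
        rw [← Scheme.Hom.comp_apply, ← Scheme.Hom.comp_apply, hcomp]
        rfl
      rw [h1, ← hy₂w]
      have : RelProj.emb pA chartA U hU y₂ ∈ Set.range (RelProj.emb pA chartA U hU) := ⟨y₂, rfl⟩
      rw [RelCone3.range_emb] at this
      exact this
    have h2 : (RelProj.domQ (RelProj.QGrHom.ofHom φ hφ) pB chartB).ι w ∈
        RelProj.domQ (RelProj.QGrHom.ofHom φ hφ) pB chartB ⊓ pB ⁻¹ᵁ U := ⟨w.2, hwU⟩
    rw [inf_preimage_eq (RelProj.QGrHom.ofHom φ hφ) pA chartA pB chartB hA hB (diag U hU)] at h2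
    obtain ⟨a₁, ha₁, ha₁w⟩ := h2
    have hwa : IsOpenImmersion.lift (RelProj.domQ (RelProj.QGrHom.ofHom φ hφ) pB chartB).ι
        (jj (RelProj.QGrHom.ofHom φ hφ) pB chartB (diag U hU))
        (range_jj_subset (RelProj.QGrHom.ofHom φ hφ) pB chartB (diag U hU)) ⟨a₁, ha₁⟩ = w := by
      apply (RelProj.domQ (RelProj.QGrHom.ofHom φ hφ) pB chartB).ι.isOpenEmbedding.injective
      rw [← Scheme.Hom.comp_apply, IsOpenImmersion.lift_fac]
      exact ha₁w
    have hΦw : Φ w = RelProj.emb pA chartA U hU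
        (dmap (gr (RelProj.QGrHom.ofHom φ hφ) (diag U hU)) ⟨a₁, ha₁⟩) := by
      rw [← hwa, ← Scheme.Hom.comp_apply, hΦ' (diag U hU)]
      rfl
    have h3 : y₂ = dmap (gr (RelProj.QGrHom.ofHom φ hφ) (diag U hU)) ⟨a₁, ha₁⟩ :=
      (RelProj.emb pA chartA U hU).isOpenEmbedding.injective (hy₂w.trans hΦw)
    rw [h3] at hy₂
    have h4 := (dmap_mem_basicOpen_iff (gr (RelProj.QGrHom.ofHom φ hφ) (diag U hU)) t.hd t.hf
      ⟨a₁, ha₁⟩).mp hy₂
    have h5 : a₁ ∈ Set.range (Proj.awayι (ℬ.deg U hU)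
        ((gr (RelProj.QGrHom.ofHom φ hφ) (diag U hU)) t.f)
        ((gr (RelProj.QGrHom.ofHom φ hφ) (diag U hU)).2 t.hf) t.hd) := by
      rw [RelCone3.mem_range_awayι_iff, ← Proj.mem_basicOpen]
      exact h4
    obtain ⟨z, hz⟩ := h5
    refine ⟨z, ?_⟩
    apply (RelProj.domQ (RelProj.QGrHom.ofHom φ hφ) pB chartB).ι.isOpenEmbedding.injective
    unfold chartB'
    rw [← Scheme.Hom.comp_apply, Category.assoc, IsOpenImmersion.lift_fac, ← ha₁w, ← hz]
    unfold jj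
    rw [reassoc_of% (ch_ι (gr (RelProj.QGrHom.ofHom φ hφ) (diag U hU)) t)]
    rfl
  · rintro ⟨z, rfl⟩
    have h1 : Φ (chartB' φ hφ pB chartB U hU t z) =
        RelProj.emb pA chartA U hU (Proj.awayι (𝒜.deg U hU) t.f t.hf t.hd
          (Spec.map (CommRingCat.ofHom (HomogeneousLocalization.Away.map
            (gr (RelProj.QGrHom.ofHom φ hφ) (diag U hU)) t.f)) z)) := by
      rw [← Scheme.Hom.comp_apply, chartB'_comp φ hφ pA chartA pB chartB Φ hΦ U hU t]
      rfl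
    refine ⟨_, ?_, h1.symm⟩
    rw [SetLike.mem_coe, Proj.mem_basicOpen, ← RelCone3.mem_range_awayι_iff _ t.hf t.hd]
    exact ⟨_, rfl⟩

include hA hB hΦ in
theorem isPullback_chart (U : Y.Opens) (hU : IsAffineOpen U) (t : ProjDom.Idx (𝒜.deg U hU)) :
    IsPullback (Spec.map (CommRingCat.ofHom (HomogeneousLocalization.Away.map
        (gr (RelProj.QGrHom.ofHom φ hφ) (diag U hU)) t.f)))
      (chartB' φ hφ pB chartB U hU t) (chartA' pA chartA U hU t) Φ := by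
  apply IsOpenImmersion.isPullback
  · exact chartB'_comp φ hφ pA chartA pB chartB Φ hΦ U hU t
  · rw [opensRange_chartA']
    exact preimage_chart_eq φ hφ pA chartA pB chartB hA hB Φ hΦ U hU t

/-- the cover of `Proj(𝒜)` by the standard charts -/
noncomputable def covA : PA.OpenCover where
  I₀ := Σ U : Y.affineOpens, ProjDom.Idx (𝒜.deg U.1 U.2)
  X s := Spec (CommRingCat.of (HomogeneousLocalization.Away (𝒜.deg s.1.1 s.1.2) s.2.f))
  f s := chartA' pA chartA s.1.1 s.1.2 s.2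
  mem₀ := by
    rw [Scheme.presieve₀_mem_precoverage_iff]
    refine ⟨fun y => ?_, fun s => inferInstance⟩
    obtain ⟨U, (hU : IsAffineOpen U), hyU, -⟩ := Opens.isBasis_iff_nbhd.mp Y.isBasis_affineOpens
      (show pA y ∈ (⊤ : Y.Opens) from trivial)
    have hy' : y ∈ Set.range (RelProj.emb pA chartA U hU) := by
      rw [RelCone3.range_emb]; exact hyU
    obtain ⟨y₁, rfl⟩ := hy'
    have hy := y₁.not_irrelevant_le
    rw [HomogeneousIdeal.irrelevant_le] at hy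
    push Not at hy
    obtain ⟨d, hd, hy⟩ := hy
    obtain ⟨f, hf, hfy⟩ := SetLike.not_le_iff_exists.mp hy
    have hf' : f ∈ 𝒜.deg U hU d := hf
    have h1 : y₁ ∈ Set.range (Proj.awayι (𝒜.deg U hU) f hf' hd) := by
      rw [RelCone3.mem_range_awayι_iff]; exact hfy
    obtain ⟨z, rfl⟩ := h1
    exact ⟨⟨⟨U, hU⟩, ⟨d, hd, f, hf'⟩⟩, z, rfl⟩

include hA hB hΦ in
theorem of_charts (P : MorphismProperty Scheme.{u}) [IsZariskiLocalAtTarget P]
    (H : ∀ (U : Y.Opens) (hU : IsAffineOpen U) (t : ProjDom.Idx (𝒜.deg U hU)),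
      P (Spec.map (CommRingCat.ofHom (HomogeneousLocalization.Away.map
        (gr (RelProj.QGrHom.ofHom φ hφ) (diag U hU)) t.f)))) : P Φ := by
  refine IsZariskiLocalAtTarget.of_openCover (P := P) (covA pA chartA) ?_
  rintro ⟨U, t⟩
  have sq := isPullback_chart φ hφ pA chartA pB chartB hA hB Φ hΦ U.1 U.2 t
  have h2 := sq.flip.isoPullback_inv_snd
  show P (pullback.snd Φ (chartA' pA chartA U.1 U.2 t))
  rw [← h2]
  exact (P.cancel_left_of_respectsIso _ _).mpr (H U.1 U.2 t)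

end Same

end Groth.Agent.Helper1.ProjQ
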