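import Mathlib
import Groth.Prelude.Def_RelProj4
import Groth.Agent.Lib.Helper1.ProjQ7

/-!
# (TN)-surjective and (TN)-bijective graded homomorphisms (helper1 library)
-/

universe u

open CategoryTheory CategoryTheory.Limits AlgebraicGeometry TopologicalSpace Opposite
open scoped HomogeneousIdeal
open HomogeneousLocalization

namespace Groth.Agent.Helper1.ProjQ

section RingTN
variable {A B σ τ : Type u} [CommRing A] [SetLike σ A] [AddSubgroupClass σ A] {𝒜 : ℕ → σ}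
  [GradedRing 𝒜] [CommRing B] [SetLike τ B] [AddSubgroupClass τ B] {ℬ : ℕ → τ} [GradedRing ℬ]
  (ψ : 𝒜 →+*ᵍ ℬ)

theorem awayMap_surjective_of_tn (n : ℕ)
    (h : ∀ k, n ≤ k → ∀ y ∈ ℬ k, ∃ x ∈ 𝒜 k, ψ x = y) (t : ProjDom.Idx 𝒜) :
    Function.Surjective (Away.map ψ t.f) := by
  intro q
  obtain ⟨k, b, hb, rfl⟩ := Away.mk_surjective ℬ (ψ.2 t.hf) q
  have hdeg : b * ψ t.f ^ n ∈ ℬ ((k + n) • t.d) := by
    rw [add_smul]
    exact SetLike.mul_mem_graded hb (SetLike.pow_mem_graded n (ψ.2 t.hf))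
  have hle : n ≤ (k + n) • t.d := by
    have := t.hd
    calc n ≤ k + n := Nat.le_add_left _ _
      _ = (k + n) * 1 := (Nat.mul_one _).symm
      _ ≤ (k + n) * t.d := Nat.mul_le_mul_left _ this
  obtain ⟨a, ha, hab⟩ := h _ hle _ hdeg
  refine ⟨Away.mk 𝒜 t.hf (k + n) a ha, ?_⟩
  rw [Away.map_mk]
  apply HomogeneousLocalization.val_injective
  rw [Away.val_mk, Away.val_mk, hab, Localization.mk_eq_mk_iff, Localization.r_iff_exists]
  refine ⟨1, ?_⟩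
  simp only [OneMemClass.coe_one, one_mul]
  show ψ t.f ^ k * (b * ψ t.f ^ n) = ψ t.f ^ (k + n) * b
  ring

theorem awayMap_injective_of_tn (n : ℕ)
    (h : ∀ k, n ≤ k → ∀ x ∈ 𝒜 k, ψ x = 0 → x = 0) (t : ProjDom.Idx 𝒜) :
    Function.Injective (Away.map ψ t.f) := by
  rw [injective_iff_map_eq_zero]
  intro q hq
  obtain ⟨k, a, ha, rfl⟩ := Away.mk_surjective 𝒜 t.hf q
  rw [Away.map_mk] at hq
  have hq' := congr_arg HomogeneousLocalization.val hq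
  rw [Away.val_mk, HomogeneousLocalization.val_zero, Localization.mk_eq_mk',
    IsLocalization.mk'_eq_zero_iff] at hq'
  obtain ⟨⟨_, m, rfl⟩, hm⟩ := hq'
  have hm' : ψ (t.f ^ (m + n) * a) = 0 := by
    rw [map_mul, map_pow, pow_add, mul_assoc, mul_comm (ψ t.f ^ n), ← mul_assoc]
    simp only at hm
    rw [hm, zero_mul]
  have hdeg : t.f ^ (m + n) * a ∈ 𝒜 ((m + n + k) • t.d) := by
    rw [add_smul]
    exact SetLike.mul_mem_graded (SetLike.pow_mem_graded _ t.hf) ha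
  have hle : n ≤ (m + n + k) • t.d := by
    have := t.hd
    calc n ≤ m + n + k := by omega
      _ = (m + n + k) * 1 := (Nat.mul_one _).symm
      _ ≤ (m + n + k) * t.d := Nat.mul_le_mul_left _ this
  have h0 := h _ hle _ hdeg hm'
  apply HomogeneousLocalization.val_injective
  rw [Away.val_mk, HomogeneousLocalization.val_zero, Localization.mk_eq_mk',
    IsLocalization.mk'_eq_zero_iff]
  exact ⟨⟨t.f ^ (m + n), m + n, rfl⟩, h0⟩

theorem domOpen_eq_top_of_tn (n : ℕ)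
    (h : ∀ k, n ≤ k → ∀ y ∈ ℬ k, ∃ x ∈ 𝒜 k, ψ x = y) : RelCone.domOpen ψ = ⊤ := by
  refine eq_top_iff.mpr fun x _ => ?_
  rw [mem_domOpen_iff]
  have hx := x.not_irrelevant_le
  rw [HomogeneousIdeal.irrelevant_le] at hx
  push Not at hx
  obtain ⟨d, hd, hx⟩ := hx
  obtain ⟨b, hb, hbx⟩ := SetLike.not_le_iff_exists.mp hx
  have hb' : b ∈ ℬ d := hb
  have hdeg : b ^ (n + 1) ∈ ℬ ((n + 1) • d) := SetLike.pow_mem_graded _ hb'
  have hle : n ≤ (n + 1) • d := by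
    calc n ≤ n + 1 := Nat.le_succ _
      _ = (n + 1) * 1 := (Nat.mul_one _).symm
      _ ≤ (n + 1) * d := Nat.mul_le_mul_left _ hd
  obtain ⟨a, ha, hab⟩ := h _ hle _ hdeg
  have hpos : 0 < (n + 1) • d := Nat.mul_pos (Nat.succ_pos n) hd
  refine ⟨⟨(n + 1) • d, hpos, a, ha⟩, ?_⟩
  rw [Proj.mem_basicOpen]
  show ψ a ∉ x.asHomogeneousIdeal
  rw [hab]
  intro hcon
  have hp : x.asHomogeneousIdeal.toIdeal.IsPrime := x.isPrime
  exact hbx (hp.mem_of_pow_mem _ hcon)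

end RingTN

section Gen
variable {Y Y' P P' : Scheme.{u}} {g : Y' ⟶ Y} {𝒮 : RelProj.QCGrAlg Y} {𝒮' : RelProj.QCGrAlg Y'}
  (u : RelProj.QGrHom g 𝒮 𝒮')
  (p : P ⟶ Y)
  (chart : ∀ (U : Y.Opens) (hU : IsAffineOpen U),
    (((p ⁻¹ᵁ U : P.Opens) : Scheme.{u}) ≅ Proj (𝒮.deg U hU)))
  (p' : P' ⟶ Y')
  (chart' : ∀ (U : Y'.Opens) (hU : IsAffineOpen U),
    (((p' ⁻¹ᵁ U : P'.Opens) : Scheme.{u}) ≅ Proj (𝒮'.deg U hU)))

theorem isProjQMapOn_of_isProjQMap (h : P' ⟶ P)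
    (hh : RelProj.IsProjQMap u p chart p' chart' h) (W : P'.Opens) :
    RelProj.IsProjQMapOn u p chart p' chart' W (W.ι ≫ h) := by
  intro U hU U' hU' hle d hd f hf hW
  rw [IsOpenImmersion.lift_fac_assoc]
  exact hh.2 U hU U' hU' hle d hd f hf

end Gen

section Same
variable {Y PA PB : Scheme.{u}} {𝒜 ℬ : RelProj.QCGrAlg Y} (φ : 𝒜.toQCAlg ⟶ ℬ.toQCAlg)
  (hφ : RelProj.IsGradedHom φ)
  (pA : PA ⟶ Y)
  (chartA : ∀ (U : Y.Opens) (hU : IsAffineOpen U),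
    (((pA ⁻¹ᵁ U : PA.Opens) : Scheme.{u}) ≅ Proj (𝒜.deg U hU)))
  (pB : PB ⟶ Y)
  (chartB : ∀ (U : Y.Opens) (hU : IsAffineOpen U),
    (((pB ⁻¹ᵁ U : PB.Opens) : Scheme.{u}) ≅ Proj (ℬ.deg U hU)))
  (hA : RelProj.IsRelProj 𝒜 pA chartA) (hB : RelProj.IsRelProj ℬ pB chartB)

theorem domQ_eq_top_of_tn
    (hTN : ∃ n : ℕ, ∀ k, n ≤ k → ∀ (U : Y.Opens) (hU : IsAffineOpen U), ∀ y ∈ ℬ.deg U hU k,
      ∃ x ∈ 𝒜.deg U hU k, (φ.hom.app (op U)).hom x = y) :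
    RelProj.domQ (RelProj.QGrHom.ofHom φ hφ) pB chartB = ⊤ := by
  obtain ⟨n, hn⟩ := hTN
  refine eq_top_iff.mpr fun x _ => ?_
  obtain ⟨U, (hU : IsAffineOpen U), hxU, -⟩ := Opens.isBasis_iff_nbhd.mp Y.isBasis_affineOpens
    (show pB x ∈ (⊤ : Y.Opens) from trivial)
  have hx' : x ∈ Set.range (RelProj.emb pB chartB U hU) := by
    rw [RelCone3.range_emb]; exact hxU
  obtain ⟨x₁, rfl⟩ := hx'
  apply image_le_domQ_same φ hφ pB chartB U hU
  refine ⟨x₁, ?_, rfl⟩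
  rw [domOpen_eq_top_of_tn (RelProj.gradedHomAt φ hφ U hU) n (fun k hk y hy => hn k hk U hU y hy)]
  trivial

include hA hB in
theorem of_isProjQMap (P : MorphismProperty Scheme.{u}) [IsZariskiLocalAtTarget P]
    (h : PB ⟶ PA)
    (hh : RelProj.IsProjQMap (RelProj.QGrHom.ofHom φ hφ) pA chartA pB chartB h)
    (H : ∀ (U : Y.Opens) (hU : IsAffineOpen U) (t : ProjDom.Idx (𝒜.deg U hU)),
      P (Spec.map (CommRingCat.ofHom (HomogeneousLocalization.Away.map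
        (gr (RelProj.QGrHom.ofHom φ hφ) (diag U hU)) t.f)))) : P h := by
  have h1 := of_charts φ hφ pA chartA pB chartB hA hB _
    (isProjQMapOn_of_isProjQMap (RelProj.QGrHom.ofHom φ hφ) pA chartA pB chartB h hh _) P H
  have h2 : IsIso (RelProj.domQ (RelProj.QGrHom.ofHom φ hφ) pB chartB).ι := by
    apply isIso_of_isOpenImmersion_of_opensRange_eq_top
    rw [Scheme.Opens.opensRange_ι]
    exact hh.1
  exact (P.cancel_left_of_respectsIso _ _).mp h1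

end Same

end Groth.Agent.Helper1.ProjQ
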