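import Mathlib

/-!
# A retract of a base change is a base change (helper1 library)
-/

set_option autoImplicit false
universe u

namespace Groth.Agent.Helper1.BCRetract

open TensorProduct

section
variable {R R' L C L' C' : Type*} [CommRing R] [CommRing R'] [Algebra R R']
  [AddCommGroup L] [Module R L] [AddCommGroup C] [Module R C]
  [AddCommGroup L'] [Module R L'] [Module R' L'] [IsScalarTower R R' L']
  [AddCommGroup C'] [Module R C'] [Module R' C'] [IsScalarTower R R' C']

theorem isBaseChange_of_retract (g : L →ₗ[R] L') (hg : IsBaseChange R' g) (g₀ : C →ₗ[R] C')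
    (i : C →ₗ[R] L) (π : L →ₗ[R] C) (hπi : ∀ c, π (i c) = c)
    (i' : C' →ₗ[R'] L') (hi' : Function.Injective i') (π' : L' →+ L')
    (ha : ∀ y, π' (i' y) = i' y)
    (hb : ∀ (r' : R') (x : L), π' (r' • g x) = r' • i' (g₀ (π x)))
    (hc : ∀ c, i' (g₀ c) = g (i c)) : IsBaseChange R' g₀ := by
  let θ : R' ⊗[R] L ≃ₗ[R'] L' := hg.equiv
  let θ₀ : R' ⊗[R] C →ₗ[R'] C' := g₀.liftBaseChange R'
  have h1 : ∀ t : R' ⊗[R] C, i' (θ₀ t) = θ (i.baseChange R' t) := by
    intro t
    induction t using TensorProduct.induction_on with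
    | zero => simp
    | tmul r' c =>
      rw [LinearMap.liftBaseChange_tmul, LinearMap.baseChange_tmul, map_smul, hc]
      exact (hg.equiv_tmul r' (i c)).symm
    | add x y hx hy => rw [map_add, map_add, map_add, map_add, hx, hy]
  have h2 : ∀ t : R' ⊗[R] L, π' (θ t) = i' (θ₀ (π.baseChange R' t)) := by
    intro t
    induction t using TensorProduct.induction_on with
    | zero => simp
    | tmul r' x =>
      rw [LinearMap.baseChange_tmul, LinearMap.liftBaseChange_tmul, map_smul]
      rw [show θ (r' ⊗ₜ x) = r' • g x from hg.equiv_tmul r' x]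
      exact hb r' x
    | add x y hx hy => rw [map_add, map_add, map_add, map_add, map_add, hx, hy]
  have h3 : ∀ t : R' ⊗[R] C, π.baseChange R' (i.baseChange R' t) = t := by
    intro t
    have : (π.baseChange R').comp (i.baseChange R') = LinearMap.id := by
      rw [← LinearMap.baseChange_comp]
      have : π.comp i = LinearMap.id := LinearMap.ext hπi
      rw [this, LinearMap.baseChange_id]
    exact LinearMap.congr_fun this t
  have hinj : Function.Injective θ₀ := by
    rw [injective_iff_map_eq_zero]
    intro t ht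
    have e1 : θ (i.baseChange R' t) = 0 := by rw [← h1, ht, map_zero]
    have e2 : i.baseChange R' t = 0 := θ.injective (e1.trans (map_zero θ).symm)
    rw [← h3 t, e2, map_zero]
  have hsurj : Function.Surjective θ₀ := by
    intro y
    refine ⟨π.baseChange R' (θ.symm (i' y)), ?_⟩
    apply hi'
    rw [← h2, LinearEquiv.apply_symm_apply, ha]
  refine IsBaseChange.of_equiv (LinearEquiv.ofBijective θ₀ ⟨hinj, hsurj⟩) ?_
  intro c
  show θ₀ (1 ⊗ₜ c) = g₀ c
  rw [LinearMap.liftBaseChange_tmul, one_smul]

end

end Groth.Agent.Helper1.BCRetract
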