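import Mathlib

/-!
# The degree-zero projection on the localization of a graded ring at a homogeneous element
(helper1 library)

For an `ℕ`-graded ring `A` and `f ∈ A_d`, the additive map `pi0 : A_f → A_f`,
`a / f^k ↦ a_{kd} / f^k`, is a retraction onto the image of `A_(f)`.
-/

set_option autoImplicit false
universe u

namespace Groth.Agent.Helper1.GrLoc

open HomogeneousLocalization

section
variable {A σ : Type*} [CommRing A] [SetLike σ A] [AddSubgroupClass σ A] (𝒜 : ℕ → σ)
  [GradedRing 𝒜] {d : ℕ} {f : A} (hf : f ∈ 𝒜 d)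

include hf in
theorem proj_pow_mul (j m : ℕ) (a : A) :
    GradedRing.proj 𝒜 (j * d + m) (f ^ j * a) = f ^ j * GradedRing.proj 𝒜 m a := by
  have hfj : f ^ j ∈ 𝒜 (j * d) := by
    have := SetLike.pow_mem_graded (A := 𝒜) j hf
    simpa [smul_eq_mul] using this
  rw [GradedRing.proj_apply, GradedRing.proj_apply,
    DirectSum.coe_decompose_mul_of_left_mem_of_le 𝒜 hfj (Nat.le_add_right _ _),
    Nat.add_sub_cancel_left]

include hf in
/-- the key well-definedness statement -/
theorem mk_proj_eq (k l : ℕ) (a b : A) (s t : Submonoid.powers f) (hs : (s : A) = f ^ k)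
    (ht : (t : A) = f ^ l) (h : Localization.r (Submonoid.powers f) (a, s) (b, t)) :
    Localization.mk (GradedRing.proj 𝒜 (k * d) a) s =
      Localization.mk (GradedRing.proj 𝒜 (l * d) b) t := by
  rw [Localization.r_iff_exists] at h
  obtain ⟨⟨_, j, rfl⟩, hj⟩ := h
  simp only [hs, ht] at hj
  rw [Localization.mk_eq_mk_iff, Localization.r_iff_exists]
  refine ⟨⟨f ^ j, j, rfl⟩, ?_⟩
  simp only [hs, ht]
  have h1 := proj_pow_mul 𝒜 hf (j + l) (k * d) a
  have h2 := proj_pow_mul 𝒜 hf (j + k) (l * d) b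
  have e1 : f ^ (j + l) * a = f ^ (j + k) * b := by
    rw [pow_add, pow_add, mul_assoc, mul_assoc]; exact hj
  have e2 : (j + l) * d + k * d = (j + k) * d + l * d := by ring
  rw [e1, e2, h2] at h1
  rw [← mul_assoc, ← mul_assoc, ← pow_add, ← pow_add]
  exact h1.symm

/-- an exponent of a power of `f` -/
noncomputable def expo (s : Submonoid.powers f) : ℕ := Classical.choose s.2

theorem pow_expo (s : Submonoid.powers f) : (s : A) = f ^ expo s :=
  (Classical.choose_spec s.2).symm

variable (d) in
/-- the raw function -/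
noncomputable def pi0Fun (a : A) (s : Submonoid.powers f) : Localization.Away f :=
  Localization.mk (GradedRing.proj 𝒜 (expo s * d) a) s

/-- the degree-zero projection, as a function -/
noncomputable def pi0F (x : Localization.Away f) : Localization.Away f :=
  Localization.liftOn x (pi0Fun 𝒜 d) (fun {a c} {b e} h =>
    mk_proj_eq 𝒜 hf (expo b) (expo e) a c b e (pow_expo b) (pow_expo e) h)

theorem pi0F_mk (k : ℕ) (a : A) (s : Submonoid.powers f) (hs : (s : A) = f ^ k) :
    pi0F 𝒜 hf (Localization.mk a s) = Localization.mk (GradedRing.proj 𝒜 (k * d) a) s := by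
  rw [pi0F, Localization.liftOn_mk, pi0Fun]
  exact mk_proj_eq 𝒜 hf (expo s) k a a s s (pow_expo s) hs (Localization.mk_eq_mk_iff.1 rfl)

/-- the degree-zero projection `A_f → A_f` -/
noncomputable def pi0 : Localization.Away f →+ Localization.Away f where
  toFun := pi0F 𝒜 hf
  map_zero' := by
    rw [← Localization.mk_zero (1 : Submonoid.powers f),
      pi0F_mk 𝒜 hf 0 0 1 (by simp), map_zero, Localization.mk_zero]
  map_add' := by
    intro x y
    induction x using Localization.induction_on with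
    | H x =>
    induction y using Localization.induction_on with
    | H y =>
    obtain ⟨a, s⟩ := x
    obtain ⟨b, t⟩ := y
    have hs := pow_expo s
    have ht := pow_expo t
    have hst : ((s * t : Submonoid.powers f) : A) = f ^ (expo s + expo t) := by
      rw [Submonoid.coe_mul, hs, ht, pow_add]
    rw [Localization.add_mk, pi0F_mk 𝒜 hf _ _ _ hst, pi0F_mk 𝒜 hf _ _ _ hs,
      pi0F_mk 𝒜 hf _ _ _ ht, Localization.add_mk, map_add]
    congr 1
    have h1 := proj_pow_mul 𝒜 hf (expo s) (expo t * d) b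
    have h2 := proj_pow_mul 𝒜 hf (expo t) (expo s * d) a
    rw [hs, ht]
    have e1 : (expo s + expo t) * d = expo s * d + expo t * d := by ring
    have e2 : (expo s + expo t) * d = expo t * d + expo s * d := by ring
    congr 1
    · rw [e1]; exact h1
    · rw [e2]; exact h2

theorem pi0_mk (k : ℕ) (a : A) (s : Submonoid.powers f) (hs : (s : A) = f ^ k) :
    pi0 𝒜 hf (Localization.mk a s) = Localization.mk (GradedRing.proj 𝒜 (k * d) a) s :=
  pi0F_mk 𝒜 hf k a s hs

theorem pi0_mk_of_mem (k : ℕ) (a : A) (ha : a ∈ 𝒜 (k * d)) (s : Submonoid.powers f)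
    (hs : (s : A) = f ^ k) : pi0 𝒜 hf (Localization.mk a s) = Localization.mk a s := by
  rw [pi0_mk 𝒜 hf k a s hs, GradedRing.proj_apply, DirectSum.decompose_of_mem_same 𝒜 ha]

theorem pi0_mk_of_mem_ne (k m : ℕ) (a : A) (ha : a ∈ 𝒜 m) (hm : m ≠ k * d)
    (s : Submonoid.powers f) (hs : (s : A) = f ^ k) : pi0 𝒜 hf (Localization.mk a s) = 0 := by
  rw [pi0_mk 𝒜 hf k a s hs, GradedRing.proj_apply, DirectSum.decompose_of_mem_ne 𝒜 ha hm,
    Localization.mk_zero]

/-- `pi0` fixes the image of the homogeneous localization -/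
theorem pi0_val (z : Away 𝒜 f) : pi0 𝒜 hf z.val = z.val := by
  obtain ⟨k, a, ha, rfl⟩ := Away.mk_surjective 𝒜 hf z
  rw [Away.val_mk]
  exact pi0_mk_of_mem 𝒜 hf k a (by simpa [smul_eq_mul] using ha) _ rfl

/-- `pi0` takes values in the image of the homogeneous localization -/
theorem pi0_mem_range (x : Localization.Away f) :
    pi0 𝒜 hf x ∈ Set.range (HomogeneousLocalization.val : Away 𝒜 f → Localization.Away f) := by
  induction x using Localization.induction_on with
  | H x =>
  obtain ⟨a, s⟩ := x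
  rw [pi0_mk 𝒜 hf (expo s) a s (pow_expo s)]
  have hmem : GradedRing.proj 𝒜 (expo s * d) a ∈ 𝒜 (expo s • d) := by
    rw [GradedRing.proj_apply, smul_eq_mul]
    exact (DirectSum.decompose 𝒜 a (expo s * d)).2
  refine ⟨Away.mk 𝒜 hf (expo s) _ hmem, ?_⟩
  rw [Away.val_mk]
  congr 1
  exact Subtype.ext (pow_expo s).symm


/-- `pi0` commutes with multiplication by elements of degree zero -/
theorem pi0_mul_of_mem_zero (s₀ : A) (hs₀ : s₀ ∈ 𝒜 0) (x : Localization.Away f) :
    pi0 𝒜 hf (algebraMap A (Localization.Away f) s₀ * x) =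
      algebraMap A (Localization.Away f) s₀ * pi0 𝒜 hf x := by
  induction x using Localization.induction_on with
  | H x =>
  obtain ⟨a, s⟩ := x
  have hs := pow_expo s
  have h1 : (1 * s : Submonoid.powers f) = s := one_mul s
  rw [← Localization.mk_one_eq_algebraMap, Localization.mk_mul, pi0_mk 𝒜 hf (expo s) a s hs,
    Localization.mk_mul, h1, pi0_mk 𝒜 hf (expo s) _ s hs]
  congr 1
  rw [GradedRing.proj_apply, GradedRing.proj_apply,
    DirectSum.coe_decompose_mul_of_left_mem_of_le 𝒜 hs₀ (Nat.zero_le _), Nat.sub_zero]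

/-- the degree-zero projection with values in the homogeneous localization -/
noncomputable def piC (x : Localization.Away f) : Away 𝒜 f :=
  Classical.choose (pi0_mem_range 𝒜 hf x)

theorem val_piC (x : Localization.Away f) : (piC 𝒜 hf x).val = pi0 𝒜 hf x :=
  Classical.choose_spec (pi0_mem_range 𝒜 hf x)

theorem piC_val (z : Away 𝒜 f) : piC 𝒜 hf z.val = z := by
  apply HomogeneousLocalization.val_injective
  rw [val_piC, pi0_val]

theorem piC_add (x y : Localization.Away f) :
    piC 𝒜 hf (x + y) = piC 𝒜 hf x + piC 𝒜 hf y := by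
  apply HomogeneousLocalization.val_injective
  rw [val_add, val_piC, val_piC, val_piC, map_add]

end

section Map
variable {A B σ τ : Type*} [CommRing A] [SetLike σ A] [AddSubgroupClass σ A] {𝒜 : ℕ → σ}
  [GradedRing 𝒜] [CommRing B] [SetLike τ B] [AddSubgroupClass τ B] {ℬ : ℕ → τ} [GradedRing ℬ]
  (φ : 𝒜 →+*ᵍ ℬ) {d : ℕ} {f : A} (hf : f ∈ 𝒜 d)

omit [AddSubgroupClass σ A] [GradedRing 𝒜] [AddSubgroupClass τ B] [GradedRing ℬ] in
theorem powers_le_comap (f : A) :
    Submonoid.powers f ≤ (Submonoid.powers (φ f)).comap (φ : A →+* B) := by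
  rintro _ ⟨k, rfl⟩
  exact ⟨k, (map_pow φ f k).symm⟩

variable (f) in
/-- the induced map `A_f → B_{φ f}` -/
noncomputable def locMap : Localization.Away f →+* Localization.Away (φ f) :=
  IsLocalization.map (M := Submonoid.powers f) (T := Submonoid.powers (φ f))
    (Localization.Away (φ f)) (φ : A →+* B) (powers_le_comap φ f)

omit [AddSubgroupClass σ A] [GradedRing 𝒜] [AddSubgroupClass τ B] [GradedRing ℬ] in
theorem locMap_comp :
    (locMap φ f).comp (algebraMap A (Localization.Away f)) =
      (algebraMap B (Localization.Away (φ f))).comp (φ : A →+* B) :=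
  IsLocalization.map_comp _

omit [AddSubgroupClass σ A] [GradedRing 𝒜] [AddSubgroupClass τ B] [GradedRing ℬ] in
theorem locMap_algebraMap (a : A) :
    locMap φ f (algebraMap A (Localization.Away f) a) =
      algebraMap B (Localization.Away (φ f)) (φ a) :=
  IsLocalization.map_eq _ a

omit [AddSubgroupClass σ A] [GradedRing 𝒜] [AddSubgroupClass τ B] [GradedRing ℬ] in
theorem locMap_mk (a : A) (k : ℕ) :
    locMap φ f (Localization.mk a (⟨f ^ k, k, rfl⟩ : Submonoid.powers f)) =
      Localization.mk (φ a) (⟨φ f ^ k, k, rfl⟩ : Submonoid.powers (φ f)) := by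
  rw [Localization.mk_eq_mk', Localization.mk_eq_mk']
  show IsLocalization.map _ _ _ (IsLocalization.mk' _ a _) = _
  rw [IsLocalization.map_mk']
  congr 1
  apply Subtype.ext
  simp

include hf in
theorem val_map (c : Away 𝒜 f) :
    (Away.map φ f c).val = locMap φ f c.val := by
  obtain ⟨k, a, ha, rfl⟩ := Away.mk_surjective 𝒜 hf c
  rw [Away.map_mk, Away.val_mk, Away.val_mk, locMap_mk]

theorem pi0_locMap (x : Localization.Away f) :
    pi0 ℬ (φ.2 hf) (locMap φ f x) = locMap φ f (pi0 𝒜 hf x) := by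
  induction x using Localization.induction_on with
  | H x =>
  obtain ⟨a, ⟨_, k, rfl⟩⟩ := x
  rw [locMap_mk, pi0_mk ℬ (φ.2 hf) k _ _ rfl, pi0_mk 𝒜 hf k _ _ rfl, locMap_mk]
  congr 1
  rw [GradedRing.proj_apply, GradedRing.proj_apply]
  exact (GradedRingHom.map_directSumDecompose 𝒜 ℬ φ).symm

end Map

end Groth.Agent.Helper1.GrLoc
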