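import Mathlib
import Groth.Agent.Lib.Helper1.GrLoc
import Groth.Agent.Lib.Helper1.BCRetract

/-!
# Homogeneous localization commutes with base change (helper1 library)
-/

set_option autoImplicit false
universe u

namespace Groth.Agent.Helper1.HLBaseChange

open HomogeneousLocalization CategoryTheory Groth.Agent.Helper1.GrLoc

section
variable {R R' S S' : Type u} [CommRing R] [CommRing R'] [CommRing S] [CommRing S']
  {τ τ' : Type*} [SetLike τ S] [AddSubgroupClass τ S] [SetLike τ' S'] [AddSubgroupClass τ' S']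
  (𝒮 : ℕ → τ) [GradedRing 𝒮] (𝒮' : ℕ → τ') [GradedRing 𝒮']
  (ρ : R →+* R') (σz : R →+* 𝒮 0) (σz' : R' →+* 𝒮' 0) (φ : 𝒮 →+*ᵍ 𝒮')

theorem val_fromZero {f : S} (z : 𝒮 0) :
    (fromZeroRingHom 𝒮 (Submonoid.powers f) z).val =
      algebraMap S (Localization.Away f) (z : S) := by
  show Localization.mk (z : S) 1 = _
  rw [Localization.mk_one_eq_algebraMap]

theorem isPushout_away
    (hpo : IsPushout (CommRingCat.ofHom ρ)
      (CommRingCat.ofHom ((algebraMap (𝒮 0) S).comp σz))
      (CommRingCat.ofHom ((algebraMap (𝒮' 0) S').comp σz'))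
      (CommRingCat.ofHom (φ : S →+* S')))
    {d : ℕ} {f : S} (hf : f ∈ 𝒮 d) :
    IsPushout (CommRingCat.ofHom ρ)
      (CommRingCat.ofHom ((fromZeroRingHom 𝒮 (Submonoid.powers f)).comp σz))
      (CommRingCat.ofHom ((fromZeroRingHom 𝒮' (Submonoid.powers (φ f))).comp σz'))
      (CommRingCat.ofHom (Away.map φ f)) := by
  classical
  -- the localizations
  let toL : S →+* Localization.Away f := algebraMap S (Localization.Away f)
  let toL' : S' →+* Localization.Away (φ f) := algebraMap S' (Localization.Away (φ f))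
  let gL : Localization.Away f →+* Localization.Away (φ f) := locMap φ f
  let σ : R →+* S := (algebraMap (𝒮 0) S).comp σz
  let σ' : R' →+* S' := (algebraMap (𝒮' 0) S').comp σz'
  have hσ0 : ∀ r, σ r ∈ 𝒮 0 := fun r => (σz r).2
  have hσ0' : ∀ r, σ' r ∈ 𝒮' 0 := fun r => (σz' r).2
  have hw : ∀ r, φ (σ r) = σ' (ρ r) := by
    intro r
    have := congrArg (fun F => F.hom r) hpo.w
    exact this.symm
  have hmp : (Submonoid.powers f).map (φ : S →+* S') = Submonoid.powers (φ f) :=
    Submonoid.map_powers _ _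
  have : IsLocalization ((Submonoid.powers f).map (φ : S →+* S')) (Localization.Away (φ f)) := by
    rw [hmp]
    exact Localization.isLocalization
  have hloc : IsPushout (CommRingCat.ofHom (φ : S →+* S')) (CommRingCat.ofHom toL)
      (CommRingCat.ofHom toL') (CommRingCat.ofHom gL) :=
    CommRingCat.isPushout_of_isLocalization (Rₘ := Localization.Away f)
      (Sₘ := Localization.Away (φ f)) (φ : S →+* S') gL (locMap_comp φ) (Submonoid.powers f)
  have hL := hpo.paste_vert hloc
  -- algebra instances on the localizations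
  let _ : Algebra R R' := ρ.toAlgebra
  let _ : Algebra R (Localization.Away f) := (toL.comp σ).toAlgebra
  let _ : Algebra R' (Localization.Away (φ f)) := (toL'.comp σ').toAlgebra
  let _ : Algebra (Localization.Away f) (Localization.Away (φ f)) := gL.toAlgebra
  let _ : Algebra R (Localization.Away (φ f)) := (gL.comp (toL.comp σ)).toAlgebra
  have : IsScalarTower R (Localization.Away f) (Localization.Away (φ f)) :=
    .of_algebraMap_eq' rfl
  have : IsScalarTower R R' (Localization.Away (φ f)) := by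
    refine .of_algebraMap_eq' ?_
    refine RingHom.ext fun r => ?_
    show gL (toL (σ r)) = toL' (σ' (ρ r))
    rw [← hw r]
    exact locMap_algebraMap φ _
  have hALG : Algebra.IsPushout R R' (Localization.Away f) (Localization.Away (φ f)) :=
    CommRingCat.isPushout_iff_isPushout.mp hL
  -- the homogeneous localizations
  let σ₀ : R →+* Away 𝒮 f := (fromZeroRingHom 𝒮 (Submonoid.powers f)).comp σz
  let σ₀' : R' →+* Away 𝒮' (φ f) := (fromZeroRingHom 𝒮' (Submonoid.powers (φ f))).comp σz'
  let g₀ : Away 𝒮 f →+* Away 𝒮' (φ f) := Away.map φ f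
  have hvσ : ∀ r, (σ₀ r).val = toL (σ r) := fun r => val_fromZero 𝒮 (σz r)
  have hvσ' : ∀ r, (σ₀' r).val = toL' (σ' r) := fun r => val_fromZero 𝒮' (σz' r)
  let _ : Algebra R (Away 𝒮 f) := σ₀.toAlgebra
  let _ : Algebra R' (Away 𝒮' (φ f)) := σ₀'.toAlgebra
  let _ : Algebra (Away 𝒮 f) (Away 𝒮' (φ f)) := g₀.toAlgebra
  let _ : Algebra R (Away 𝒮' (φ f)) := (g₀.comp σ₀).toAlgebra
  have : IsScalarTower R (Away 𝒮 f) (Away 𝒮' (φ f)) := .of_algebraMap_eq' rfl
  have : IsScalarTower R R' (Away 𝒮' (φ f)) := by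
    refine .of_algebraMap_eq' ?_
    refine RingHom.ext fun r => ?_
    show g₀ (σ₀ r) = σ₀' (ρ r)
    apply HomogeneousLocalization.val_injective
    rw [val_map φ hf, hvσ, hvσ', ← hw r]
    exact locMap_algebraMap φ _
  -- the linear maps
  let i : Away 𝒮 f →ₗ[R] Localization.Away f :=
    { toFun := fun c => c.val
      map_add' := fun x y => val_add x y
      map_smul' := by
        intro r c
        show (σ₀ r * c).val = toL (σ r) * c.val
        rw [val_mul, hvσ] }
  let π : Localization.Away f →ₗ[R] Away 𝒮 f :=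
    { toFun := piC 𝒮 hf
      map_add' := piC_add 𝒮 hf
      map_smul' := by
        intro r x
        show piC 𝒮 hf (toL (σ r) * x) = σ₀ r * piC 𝒮 hf x
        apply HomogeneousLocalization.val_injective
        rw [val_piC, val_mul, val_piC, hvσ]
        exact pi0_mul_of_mem_zero 𝒮 hf _ (hσ0 r) x }
  let i' : Away 𝒮' (φ f) →ₗ[R'] Localization.Away (φ f) :=
    { toFun := fun c => c.val
      map_add' := fun x y => val_add x y
      map_smul' := by
        intro r c
        show (σ₀' r * c).val = toL' (σ' r) * c.val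
        rw [val_mul, hvσ'] }
  have hbc : IsBaseChange R' (IsScalarTower.toAlgHom R (Away 𝒮 f) (Away 𝒮' (φ f))).toLinearMap := by
    refine BCRetract.isBaseChange_of_retract
      (IsScalarTower.toAlgHom R (Localization.Away f) (Localization.Away (φ f))).toLinearMap
      hALG.out _ i π (fun c => piC_val 𝒮 hf c) i' (fun x y h => HomogeneousLocalization.val_injective _ h)
      (pi0 𝒮' (φ.2 hf)) (fun y => pi0_val 𝒮' (φ.2 hf) y) ?_ ?_
    · intro r' x
      show pi0 𝒮' (φ.2 hf) (toL' (σ' r') * gL x) = toL' (σ' r') * (g₀ (piC 𝒮 hf x)).val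
      refine (pi0_mul_of_mem_zero 𝒮' (φ.2 hf) _ (hσ0' r') (gL x)).trans ?_
      show toL' (σ' r') * pi0 𝒮' (φ.2 hf) (locMap φ f x) = toL' (σ' r') * (Away.map φ f (piC 𝒮 hf x)).val
      rw [pi0_locMap φ hf, val_map φ hf, val_piC]
    · intro c
      exact val_map φ hf c
  have hALG₀ : Algebra.IsPushout R R' (Away 𝒮 f) (Away 𝒮' (φ f)) := ⟨hbc⟩
  exact CommRingCat.isPushout_of_isPushout R R' (Away 𝒮 f) (Away 𝒮' (φ f))

open scoped HomogeneousIdeal in
/-- for a base change of graded rings, the irrelevant ideal is generated by the image of the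
irrelevant ideal -/
theorem irrelevant_le_map
    (hpo : IsPushout (CommRingCat.ofHom ρ)
      (CommRingCat.ofHom ((algebraMap (𝒮 0) S).comp σz))
      (CommRingCat.ofHom ((algebraMap (𝒮' 0) S').comp σz'))
      (CommRingCat.ofHom (φ : S →+* S'))) :
    (𝒮')₊ ≤ ((𝒮)₊).map φ := by
  classical
  let σ : R →+* S := (algebraMap (𝒮 0) S).comp σz
  let σ' : R' →+* S' := (algebraMap (𝒮' 0) S').comp σz'
  have hσ0' : ∀ r, σ' r ∈ 𝒮' 0 := fun r => (σz' r).2
  have hw : ∀ r, φ (σ r) = σ' (ρ r) := by
    intro r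
    have := congrArg (fun F => F.hom r) hpo.w
    exact this.symm
  let _ : Algebra R R' := ρ.toAlgebra
  let _ : Algebra R S := σ.toAlgebra
  let _ : Algebra R' S' := σ'.toAlgebra
  let _ : Algebra S S' := (φ : S →+* S').toAlgebra
  let _ : Algebra R S' := ((φ : S →+* S').comp σ).toAlgebra
  have : IsScalarTower R S S' := .of_algebraMap_eq' rfl
  have : IsScalarTower R R' S' := by
    refine .of_algebraMap_eq' ?_
    refine RingHom.ext fun r => ?_
    exact hw r
  have hALG : Algebra.IsPushout R R' S S' := CommRingCat.isPushout_iff_isPushout.mp hpo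
  rw [HomogeneousIdeal.irrelevant_le]
  intro i hi b hb
  change b ∈ Ideal.map φ ((𝒮)₊.toIdeal)
  have key : ∀ y : S', (DirectSum.decompose 𝒮' y i : S') ∈ Ideal.map φ ((𝒮)₊.toIdeal) := by
    intro y
    refine hALG.out.inductionOn y _ ?_ ?_ ?_ ?_
    · rw [DirectSum.decompose_zero]
      exact Ideal.zero_mem _
    · intro m
      show (DirectSum.decompose 𝒮' (φ m) i : S') ∈ _
      rw [← φ.map_directSumDecompose]
      exact Ideal.mem_map_of_mem _
        (HomogeneousIdeal.mem_irrelevant_of_mem _ hi (SetLike.coe_mem _))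
    · intro r' n hn
      show (DirectSum.decompose 𝒮' (σ' r' * n) i : S') ∈ _
      rw [DirectSum.coe_decompose_mul_of_left_mem_of_le 𝒮' (hσ0' r') (Nat.zero_le _), Nat.sub_zero]
      exact Ideal.mul_mem_left _ _ hn
    · intro n₁ n₂ h₁ h₂
      rw [DirectSum.decompose_add, DirectSum.add_apply, AddMemClass.coe_add]
      exact Ideal.add_mem _ h₁ h₂
  have := key b
  rwa [DirectSum.decompose_of_mem_same 𝒮' hb] at this

end

end Groth.Agent.Helper1.HLBaseChange
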