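import Mathlib
import Groth.Prelude.Def_RelProj4
import Groth.Agent.Lib.Helper1.HLBaseChange
import Groth.Agent.Lib.Helper1.RelProjMap

/-!
# Base change of homogeneous spectra (helper1 library)
-/

open CategoryTheory CategoryTheory.Limits AlgebraicGeometry Opposite TopologicalSpace
open HomogeneousLocalization
open scoped HomogeneousIdeal

universe u

namespace Groth.Agent.Helper1.ProjBC

section Affine
variable {S S' τ τ' : Type u} [CommRing S] [CommRing S']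
  [SetLike τ S] [AddSubgroupClass τ S] [SetLike τ' S'] [AddSubgroupClass τ' S']
  {𝒮 : ℕ → τ} [GradedRing 𝒮] {𝒮' : ℕ → τ'} [GradedRing 𝒮']

set_option backward.isDefEq.respectTransparency.types false in
theorem isPullback_affine {R R' : CommRingCat.{u}} (ρ : R ⟶ R') (σz : R ⟶ CommRingCat.of (𝒮 0))
    (σz' : R' ⟶ CommRingCat.of (𝒮' 0)) (φ : 𝒮 →+*ᵍ 𝒮') (hirr : (𝒮')₊ ≤ ((𝒮)₊).map φ)
    (σ : R ⟶ CommRingCat.of S) (σ' : R' ⟶ CommRingCat.of S')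
    (φr : CommRingCat.of S ⟶ CommRingCat.of S')
    (hσ : ∀ r, σ.hom r = (σz.hom r : S)) (hσ' : ∀ r, σ'.hom r = (σz'.hom r : S'))
    (hφr : ∀ x, φr.hom x = φ x) (hpo : IsPushout ρ σ σ' φr) :
    IsPullback (Proj.map φ hirr) (Proj.toSpecZero 𝒮' ≫ Spec.map σz')
      (Proj.toSpecZero 𝒮 ≫ Spec.map σz) (Spec.map ρ) := by
  have e1 : σ = CommRingCat.ofHom ((algebraMap (𝒮 0) S).comp σz.hom) :=
    CommRingCat.hom_ext (RingHom.ext fun r => hσ r)
  have e2 : σ' = CommRingCat.ofHom ((algebraMap (𝒮' 0) S').comp σz'.hom) :=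
    CommRingCat.hom_ext (RingHom.ext fun r => hσ' r)
  have e3 : φr = CommRingCat.ofHom (φ : S →+* S') :=
    CommRingCat.hom_ext (RingHom.ext fun r => hφr r)
  rw [e1, e2, e3] at hpo
  refine Scheme.isPullback_of_openCover _ _ _ _ (Proj.affineOpenCover 𝒮).openCover ?_
  rintro (s : Σ i : PNat, 𝒮 i)
  have sq := RelProjMap.isPullback_awayι φ hirr s.1.2 (s.2 : S) s.2.2
  have hpo' := HLBaseChange.isPushout_away 𝒮 𝒮' ρ.hom σz.hom σz'.hom φ hpo s.2.2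
  have h1 := (isPullback_SpecMap_of_isPushout _ _ _ _ hpo').flip
  have hQ : IsPullback (Spec.map (CommRingCat.ofHom (Away.map φ (s.2 : S))))
      (Proj.awayι 𝒮' (φ (s.2 : S)) (φ.map_mem s.2.2) s.1.2 ≫ Proj.toSpecZero 𝒮' ≫ Spec.map σz')
      (Proj.awayι 𝒮 (s.2 : S) s.2.2 s.1.2 ≫ Proj.toSpecZero 𝒮 ≫ Spec.map σz) (Spec.map ρ) := by
    rw [Proj.awayι_toSpecZero_assoc, Proj.awayι_toSpecZero_assoc, ← Spec.map_comp,
      ← Spec.map_comp]
    exact h1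
  have hB' : IsPullback
      (pullback.snd (Proj.map φ hirr) (Proj.awayι 𝒮 (s.2 : S) s.2.2 s.1.2))
      (pullback.fst (Proj.map φ hirr) (Proj.awayι 𝒮 (s.2 : S) s.2.2 s.1.2))
      (Proj.awayι 𝒮 (s.2 : S) s.2.2 s.1.2) (Proj.map φ hirr) :=
    (IsPullback.of_hasPullback _ _).flip
  let e := hB'.isoIsPullback _ _ sq
  have he1 : e.hom ≫ Spec.map (CommRingCat.ofHom (Away.map φ (s.2 : S))) = pullback.snd _ _ :=
    hB'.isoIsPullback_hom_fst _ _ sq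
  have he2 : e.hom ≫ Proj.awayι 𝒮' (φ (s.2 : S)) (φ.map_mem s.2.2) s.1.2 = pullback.fst _ _ :=
    hB'.isoIsPullback_hom_snd _ _ sq
  refine IsPullback.of_iso hQ e.symm (Iso.refl _) (Iso.refl _) (Iso.refl _) ?_ ?_ ?_ ?_
  · simp only [Iso.symm_hom, Iso.refl_hom, Category.comp_id]
    rw [Iso.eq_inv_comp]
    exact he1
  · simp only [Iso.symm_hom, Iso.refl_hom, Category.comp_id]
    rw [Iso.eq_inv_comp, ← Category.assoc]
    exact congrArg (· ≫ (Proj.toSpecZero 𝒮' ≫ Spec.map σz')) he2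
  · simp only [Iso.refl_hom, Category.comp_id, Category.id_comp]
    rfl
  · simp

end Affine

section Rel
variable {Y Y' P P' : Scheme.{u}} {ψ : Y' ⟶ Y}

/-- the structure morphism of a chart of a relative `Proj`, landing in the open subscheme `U` -/
noncomputable def nP (𝒮 : RelProj.QCGrAlg Y) (U : Y.Opens) (hU : IsAffineOpen U) :
    Proj (𝒮.deg U hU) ⟶ (U : Scheme.{u}) :=
  Proj.toSpecZero (𝒮.deg U hU) ≫ Spec.map (𝒮.strZero U hU) ≫ hU.isoSpec.inv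

variable {𝒮 : RelProj.QCGrAlg Y} {𝒮' : RelProj.QCGrAlg Y'} {p : P ⟶ Y}
  {chart : ∀ (U : Y.Opens) (hU : IsAffineOpen U),
    (((p ⁻¹ᵁ U : P.Opens) : Scheme.{u}) ≅ Proj (𝒮.deg U hU))}
  {p' : P' ⟶ Y'}
  {chart' : ∀ (U' : Y'.Opens) (hU' : IsAffineOpen U'),
    (((p' ⁻¹ᵁ U' : P'.Opens) : Scheme.{u}) ≅ Proj (𝒮'.deg U' hU'))}

lemma nP_ι (hP : RelProj.IsRelProj 𝒮 p chart) (U : Y.Opens) (hU : IsAffineOpen U) :
    nP 𝒮 U hU ≫ U.ι = RelProj.emb p chart U hU ≫ p := by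
  rw [nP, Category.assoc, Category.assoc, IsAffineOpen.isoSpec_inv_ι, RelProj.emb, Category.assoc,
    ← hP.chart_over U hU, Iso.inv_hom_id_assoc]

lemma opensRange_emb (U : Y.Opens) (hU : IsAffineOpen U) :
    (RelProj.emb p chart U hU).opensRange = p ⁻¹ᵁ U := by
  apply Opens.ext
  have hs : Function.Surjective (chart U hU).inv := (chart U hU).inv.homeomorph.surjective
  show Set.range (RelProj.emb p chart U hU) = _
  rw [RelProj.emb, Scheme.Hom.comp_base, TopCat.coe_comp, Set.range_comp,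
    Set.range_eq_univ.mpr hs, Set.image_univ]
  exact (p ⁻¹ᵁ U).range_ι

lemma isPullback_emb (hP : RelProj.IsRelProj 𝒮 p chart) (U : Y.Opens) (hU : IsAffineOpen U) :
    IsPullback (nP 𝒮 U hU) (RelProj.emb p chart U hU) U.ι p := by
  refine IsOpenImmersion.isPullback _ _ _ _ (nP_ι hP U hU).symm ?_
  rw [Scheme.Opens.opensRange_ι, opensRange_emb]

lemma SpecMap_appLE_isoSpec_inv (g : Y' ⟶ Y) (U : Y.Opens) (hU : IsAffineOpen U)
    (U' : Y'.Opens) (hU' : IsAffineOpen U') (hle : U' ≤ g ⁻¹ᵁ U) :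
    Spec.map (g.appLE U U' hle) ≫ hU.isoSpec.inv = hU'.isoSpec.inv ≫ g.resLE U U' hle := by
  rw [← cancel_mono U.ι, Category.assoc, Category.assoc, IsAffineOpen.isoSpec_inv_ι,
    Scheme.Hom.resLE_comp_ι, ← Category.assoc, IsAffineOpen.isoSpec_inv_ι,
    IsAffineOpen.SpecMap_appLE_fromSpec]

/-- the chart square over an affine pair -/
lemma isPullback_pair (U : Y.Opens) (hU : IsAffineOpen U) (U' : Y'.Opens) (hU' : IsAffineOpen U')
    (hle : U' ≤ ψ ⁻¹ᵁ U) (φ : 𝒮.deg U hU →+*ᵍ 𝒮'.deg U' hU')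
    (hirr : (𝒮'.deg U' hU')₊ ≤ ((𝒮.deg U hU)₊).map φ)
    (φr : 𝒮.presheaf.obj (op U) ⟶ 𝒮'.presheaf.obj (op U')) (hφr : ∀ x, φr.hom x = φ x)
    (hpo : IsPushout (ψ.appLE U U' hle) (𝒮.str.app (op U)) (𝒮'.str.app (op U')) φr) :
    IsPullback (nP 𝒮' U' hU') (Proj.map φ hirr) (ψ.resLE U U' hle) (nP 𝒮 U hU) := by
  have h1 := (isPullback_affine (𝒮 := 𝒮.deg U hU) (𝒮' := 𝒮'.deg U' hU') (ψ.appLE U U' hle)
    (𝒮.strZero U hU) (𝒮'.strZero U' hU') φ hirr (𝒮.str.app (op U)) (𝒮'.str.app (op U')) φr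
    (fun _ => rfl) (fun _ => rfl) hφr hpo).flip
  have h2 : IsPullback hU'.isoSpec.inv (Spec.map (ψ.appLE U U' hle)) (ψ.resLE U U' hle)
      hU.isoSpec.inv :=
    IsPullback.of_horiz_isIso ⟨(SpecMap_appLE_isoSpec_inv ψ U hU U' hU' hle).symm⟩
  have h3 := h1.paste_horiz h2
  simpa only [nP, Category.assoc] using h3

/-- global base change for relative `Proj`, from the chart squares -/
theorem isPullback_of_charts (hP : RelProj.IsRelProj 𝒮 p chart)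
    (hP' : RelProj.IsRelProj 𝒮' p' chart') (g : P' ⟶ P)
    (φ : ∀ (U : Y.Opens) (hU : IsAffineOpen U) (U' : Y'.Opens) (hU' : IsAffineOpen U')
      (_ : U' ≤ ψ ⁻¹ᵁ U), 𝒮.deg U hU →+*ᵍ 𝒮'.deg U' hU')
    (hirr : ∀ (U : Y.Opens) (hU : IsAffineOpen U) (U' : Y'.Opens) (hU' : IsAffineOpen U')
      (hle : U' ≤ ψ ⁻¹ᵁ U), (𝒮'.deg U' hU')₊ ≤ ((𝒮.deg U hU)₊).map (φ U hU U' hU' hle))
    (hpair : ∀ (U : Y.Opens) (hU : IsAffineOpen U) (U' : Y'.Opens) (hU' : IsAffineOpen U')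
      (hle : U' ≤ ψ ⁻¹ᵁ U), IsPullback (nP 𝒮' U' hU')
        (Proj.map (φ U hU U' hU' hle) (hirr U hU U' hU' hle)) (ψ.resLE U U' hle) (nP 𝒮 U hU))
    (hg : ∀ (U : Y.Opens) (hU : IsAffineOpen U) (U' : Y'.Opens) (hU' : IsAffineOpen U')
      (hle : U' ≤ ψ ⁻¹ᵁ U), RelProj.emb p' chart' U' hU' ≫ g =
        Proj.map (φ U hU U' hU' hle) (hirr U hU U' hU' hle) ≫ RelProj.emb p chart U hU) :
    IsPullback g p' p ψ := by
  let Idx : Type u :=
    {q : Y.AffineZariskiSite × Y'.AffineZariskiSite // q.2.toOpens ≤ ψ ⁻¹ᵁ q.1.toOpens}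
  have hcov : IsOpenCover (fun q : Idx => q.1.2.toOpens) := by
    rw [IsOpenCover, eq_top_iff]
    intro x _
    obtain ⟨V, hV, hxV⟩ : ∃ V : Y.Opens, IsAffineOpen V ∧ ψ.base x ∈ V := by
      obtain ⟨_, ⟨V, hV : IsAffineOpen V, rfl⟩, hxV, -⟩ :=
        (Y.isBasis_affineOpens).exists_subset_of_mem_open (Set.mem_univ (ψ.base x)) isOpen_univ
      exact ⟨V, hV, hxV⟩
    obtain ⟨_, ⟨U', hU' : IsAffineOpen U', rfl⟩, hxU', hle⟩ :=
      (Y'.isBasis_affineOpens).exists_subset_of_mem_open (show x ∈ (ψ ⁻¹ᵁ V : Set Y') from hxV)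
        (ψ ⁻¹ᵁ V).isOpen
    rw [Opens.mem_iSup]
    exact ⟨⟨(⟨V, hV⟩, ⟨U', hU'⟩), hle⟩, hxU'⟩
  let 𝒰 : Y'.OpenCover := Y'.openCoverOfIsOpenCover _ hcov
  refine IsPullback.flip ?_
  refine Scheme.isPullback_of_openCover p' g ψ p 𝒰 ?_
  intro q
  have hV := q.1.1.2
  have hU' := q.1.2.2
  have hB := isPullback_emb hP' q.1.2.toOpens hU'
  have hA := isPullback_emb hP q.1.1.toOpens hV
  have hpr := hpair q.1.1.toOpens hV q.1.2.toOpens hU' q.2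
  have hQ : IsPullback (nP 𝒮' q.1.2.toOpens hU') (RelProj.emb p' chart' q.1.2.toOpens hU' ≫ g)
      (q.1.2.toOpens.ι ≫ ψ) p := by
    rw [hg q.1.1.toOpens hV q.1.2.toOpens hU' q.2, ← Scheme.Hom.resLE_comp_ι ψ q.2]
    exact hpr.paste_vert hA
  have hB' : IsPullback (pullback.snd p' (𝒰.f q)) (pullback.fst p' (𝒰.f q))
      q.1.2.toOpens.ι p' := (IsPullback.of_hasPullback p' (𝒰.f q)).flip
  let e : pullback p' (𝒰.f q) ≅ Proj (𝒮'.deg q.1.2.toOpens hU') :=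
    hB'.isoIsPullback _ _ hB
  have he1 : e.hom ≫ nP 𝒮' q.1.2.toOpens hU' = pullback.snd p' (𝒰.f q) :=
    hB'.isoIsPullback_hom_fst _ _ hB
  have he2 : e.hom ≫ RelProj.emb p' chart' q.1.2.toOpens hU' = pullback.fst p' (𝒰.f q) :=
    hB'.isoIsPullback_hom_snd _ _ hB
  refine IsPullback.of_iso hQ e.symm (Iso.refl _) (Iso.refl _) (Iso.refl _) ?_ ?_ ?_ ?_
  · simp only [Iso.symm_hom, Iso.refl_hom, Category.comp_id]
    rw [Iso.eq_inv_comp]
    exact he1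
  · simp only [Iso.symm_hom, Iso.refl_hom, Category.comp_id]
    rw [Iso.eq_inv_comp, ← Category.assoc]
    exact congrArg (· ≫ g) he2
  · simp only [Iso.refl_hom, Category.comp_id, Category.id_comp]
    rfl
  · simp

end Rel

end Groth.Agent.Helper1.ProjBC
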