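import Mathlib
import Groth.Prelude.Def_RelProj2

set_option autoImplicit false
universe u

open CategoryTheory CategoryTheory.Limits AlgebraicGeometry TopologicalSpace Opposite
open scoped HomogeneousIdeal

namespace Groth.Agent.Helper1.RP1

variable {Y P : Scheme.{u}} {𝒮 : RelProj.QCGrAlg Y} {p : P ⟶ Y}
  {chart : ∀ (U : Y.Opens) (hU : IsAffineOpen U), ((p ⁻¹ᵁ U : P.Opens) : Scheme.{u}) ≅ Proj (𝒮.deg U hU)}

/-- the structure morphism of a chart -/
noncomputable def chartStr (𝒮 : RelProj.QCGrAlg Y) (U : Y.Opens) (hU : IsAffineOpen U) :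
    Proj (𝒮.deg U hU) ⟶ Y :=
  Proj.toSpecZero (𝒮.deg U hU) ≫ Spec.map (𝒮.strZero U hU) ≫ hU.fromSpec

instance (U : Y.Opens) (hU : IsAffineOpen U) : IsSeparated (chartStr 𝒮 U hU) := by
  unfold chartStr; infer_instance

theorem restrict_comp_ι (hp : RelProj.IsRelProj 𝒮 p chart) (U : Y.Opens) (hU : IsAffineOpen U) :
    (p ∣_ U) ≫ U.ι = (chart U hU).hom ≫ chartStr 𝒮 U hU := by
  rw [morphismRestrict_ι]
  exact (hp.chart_over U hU).symm

theorem isSeparated (hp : RelProj.IsRelProj 𝒮 p chart) : IsSeparated p := by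
  rw [IsZariskiLocalAtTarget.iff_of_iSup_eq_top (P := @IsSeparated) _ (iSup_affineOpens_eq_top Y)]
  intro U
  have h : IsSeparated ((p ∣_ U.1) ≫ U.1.ι) := by
    rw [restrict_comp_ι hp U.1 U.2]; infer_instance
  exact IsSeparated.of_comp (p ∣_ U.1) U.1.ι

end Groth.Agent.Helper1.RP1
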