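import Mathlib
import Groth.Prelude.Def_RelProj2
import Groth.Agent.Lib.Helper1.ProjBC
import Groth.Agent.Lib.Helper1.RP1

set_option autoImplicit false
universe u

open CategoryTheory CategoryTheory.Limits AlgebraicGeometry TopologicalSpace Opposite
open scoped HomogeneousIdeal

namespace Groth.Agent.Helper1.RP2

open Groth.Agent.Helper1.ProjBC

variable {Y : Scheme.{u}} (𝒮 : RelProj.QCGrAlg Y)

theorem hirr {U' U : Y.AffineZariskiSite} (h : U' ≤ U) :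
    (𝒮.deg U'.1 U'.2)₊ ≤ ((𝒮.deg U.1 U.2)₊).map
      (𝒮.res U.2 U'.2 (Scheme.AffineZariskiSite.toOpens_mono h)) := by
  obtain ⟨U', hU'⟩ := U'
  obtain ⟨r, hr⟩ := h
  change Y.basicOpen r = U' at hr
  subst hr
  exact 𝒮.irrelevant_le_map U.1 U.2 r

theorem map_congr {A B σ τ : Type u} [CommRing A] [SetLike σ A] [AddSubgroupClass σ A]
    [CommRing B] [SetLike τ B] [AddSubgroupClass τ B] {𝒜 : ℕ → σ} [GradedRing 𝒜] {ℬ : ℕ → τ}
    [GradedRing ℬ] {φ φ' : 𝒜 →+*ᵍ ℬ} (h : φ = φ') (hφ : (ℬ)₊ ≤ ((𝒜)₊).map φ)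
    (hφ' : (ℬ)₊ ≤ ((𝒜)₊).map φ') : Proj.map φ hφ = Proj.map φ' hφ' := by
  subst h; rfl

theorem res_id (U : Y.Opens) (hU : IsAffineOpen U) :
    𝒮.res hU hU le_rfl = GradedRingHom.id _ := by
  apply GradedRingHom.ext
  intro x
  rw [RelProj.QCGrAlg.res_apply, GradedRingHom.id_apply]
  have : (homOfLE (le_refl U)).op = 𝟙 (op U) := rfl
  rw [this, 𝒮.presheaf.map_id]
  rfl

theorem res_comp {U V W : Y.Opens} (hU : IsAffineOpen U) (hV : IsAffineOpen V)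
    (hW : IsAffineOpen W) (i : V ≤ U) (j : W ≤ V) :
    𝒮.res hU hW (j.trans i) = (𝒮.res hV hW j).comp (𝒮.res hU hV i) := by
  apply GradedRingHom.ext
  intro x
  rw [GradedRingHom.comp_apply, RelProj.QCGrAlg.res_apply, RelProj.QCGrAlg.res_apply,
    RelProj.QCGrAlg.res_apply]
  have : (homOfLE (j.trans i)).op = (homOfLE i).op ≫ (homOfLE j).op := rfl
  rw [this, 𝒮.presheaf.map_comp]
  rfl

/-- the functor `U ↦ Proj 𝒮(U)` on the affine Zariski site -/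
noncomputable def functor : Y.AffineZariskiSite ⥤ Scheme.{u} where
  obj U := Proj (𝒮.deg U.1 U.2)
  map {U' U} h := Proj.map (𝒮.res U.2 U'.2 (Scheme.AffineZariskiSite.toOpens_mono h.le))
    (hirr 𝒮 h.le)
  map_id U := by
    rw [map_congr (res_id 𝒮 U.1 U.2) _ (by simp)]
    exact Proj.map_id
  map_comp {U V W} f g := by
    rw [map_congr (res_comp 𝒮 W.2 V.2 U.2 (Scheme.AffineZariskiSite.toOpens_mono g.le)
      (Scheme.AffineZariskiSite.toOpens_mono f.le)) _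
      (HomogeneousIdeal.irrelevant_le_map_comp (hirr 𝒮 g.le) (hirr 𝒮 f.le))]
    exact Proj.map_comp _ _ _ _

theorem isPushout_res {U' U : Y.AffineZariskiSite} (h : U' ⟶ U) :
    IsPushout (Y.presheaf.map (homOfLE (Scheme.AffineZariskiSite.toOpens_mono h.le)).op)
      (𝒮.str.app (op U.1)) (𝒮.str.app (op U'.1))
      (𝒮.presheaf.map (homOfLE (Scheme.AffineZariskiSite.toOpens_mono h.le)).op) :=
  𝒮.toQCAlg.coequifibered h.op

theorem isPullback_nP {U' U : Y.AffineZariskiSite} (h : U' ⟶ U) :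
    IsPullback ((functor 𝒮).map h) (nP 𝒮 U'.1 U'.2) (nP 𝒮 U.1 U.2)
      (Y.homOfLE (Scheme.AffineZariskiSite.toOpens_mono h.le)) := by
  have hle := Scheme.AffineZariskiSite.toOpens_mono h.le
  have h1 := isPullback_affine (𝒮 := 𝒮.deg U.1 U.2) (𝒮' := 𝒮.deg U'.1 U'.2)
    (Y.presheaf.map (homOfLE hle).op)
    (𝒮.strZero U.1 U.2) (𝒮.strZero U'.1 U'.2) (𝒮.res U.2 U'.2 hle) (hirr 𝒮 h.le)
    (𝒮.str.app (op U.1)) (𝒮.str.app (op U'.1)) (𝒮.presheaf.map (homOfLE hle).op)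
    (fun _ => rfl) (fun _ => rfl) (fun _ => rfl) (isPushout_res 𝒮 h)
  have h2 : IsPullback (Spec.map (Y.presheaf.map (homOfLE hle).op)) U'.2.isoSpec.inv
      U.2.isoSpec.inv (Y.homOfLE hle) := by
    refine IsPullback.of_vert_isIso ⟨?_⟩
    rw [← cancel_mono U.1.ι, Category.assoc, Category.assoc, IsAffineOpen.isoSpec_inv_ι,
      Scheme.homOfLE_ι, IsAffineOpen.isoSpec_inv_ι]
    exact U.2.map_fromSpec U'.2 (homOfLE hle).op
  have h3 := h1.paste_vert h2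
  simp only [Category.assoc] at h3
  exact h3

/-- the structure morphisms of the charts as a natural transformation -/
noncomputable def natTrans :
    functor 𝒮 ⟶ (Scheme.AffineZariskiSite.directedCover Y).functorOfLocallyDirected where
  app U := nP 𝒮 U.1 U.2
  naturality _ _ h := (isPullback_nP 𝒮 h).w

/-- the relative gluing datum of the homogeneous spectra `Proj 𝒮(U)` -/
noncomputable def glueData : (Scheme.AffineZariskiSite.directedCover Y).RelativeGluingData where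
  functor := functor 𝒮
  natTrans := natTrans 𝒮
  equifibered := fun _ _ h => isPullback_nP 𝒮 h

instance : ((glueData 𝒮).functor ⋙ Scheme.forget).IsLocallyDirected :=
  Scheme.Cover.RelativeGluingData.instIsLocallyDirectedI₀CompFunctorForgetOfIsThin ..

/-- the relative homogeneous spectrum -/
noncomputable def P : Scheme.{u} := (glueData 𝒮).glued

/-- its structure morphism -/
noncomputable def p : P 𝒮 ⟶ Y := (glueData 𝒮).toBase

/-- the canonical open immersion of a chart -/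
noncomputable def ι (U : Y.Opens) (hU : IsAffineOpen U) : Proj (𝒮.deg U hU) ⟶ P 𝒮 :=
  (glueData 𝒮).cover.f ⟨U, hU⟩

instance (U : Y.Opens) (hU : IsAffineOpen U) : IsOpenImmersion (ι 𝒮 U hU) :=
  (glueData 𝒮).cover.map_prop _

theorem ι_p (U : Y.Opens) (hU : IsAffineOpen U) : ι 𝒮 U hU ≫ p 𝒮 = nP 𝒮 U hU ≫ U.ι :=
  colimit.ι_desc _ _

theorem p_preimage (U : Y.Opens) (hU : IsAffineOpen U) :
    p 𝒮 ⁻¹ᵁ U = (ι 𝒮 U hU).opensRange := by
  simpa using! (glueData 𝒮).toBase_preimage_eq_opensRange_ι ⟨U, hU⟩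

theorem ι_res {U' U : Y.AffineZariskiSite} (h : U' ⟶ U) :
    (functor 𝒮).map h ≫ ι 𝒮 U.1 U.2 = ι 𝒮 U'.1 U'.2 :=
  colimit.w (glueData 𝒮).functor h

/-- the charts -/
noncomputable def chart (U : Y.Opens) (hU : IsAffineOpen U) :
    ((p 𝒮 ⁻¹ᵁ U : (P 𝒮).Opens) : Scheme.{u}) ≅ Proj (𝒮.deg U hU) :=
  IsOpenImmersion.isoOfRangeEq (p 𝒮 ⁻¹ᵁ U).ι (ι 𝒮 U hU) (by
    rw [Scheme.Opens.range_ι, p_preimage 𝒮 U hU]; rfl)

theorem chart_hom_ι (U : Y.Opens) (hU : IsAffineOpen U) :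
    (chart 𝒮 U hU).hom ≫ ι 𝒮 U hU = (p 𝒮 ⁻¹ᵁ U).ι :=
  IsOpenImmersion.isoOfRangeEq_hom_fac _ _ _

theorem isRelProj : RelProj.IsRelProj 𝒮 (p 𝒮) (chart 𝒮) where
  chart_over U hU := by
    rw [← chart_hom_ι 𝒮 U hU, Category.assoc, ι_p, nP, Category.assoc, Category.assoc,
      IsAffineOpen.isoSpec_inv_ι]
  chart_res U hU r := by
    rw [← cancel_mono (ι 𝒮 U hU), Category.assoc, chart_hom_ι, Scheme.homOfLE_ι, Category.assoc]
    have h := ι_res 𝒮 (U' := ⟨Y.basicOpen r, hU.basicOpen r⟩) (U := ⟨U, hU⟩)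
      (homOfLE ⟨r, rfl⟩)
    change Proj.map (𝒮.res hU (hU.basicOpen r) (Y.basicOpen_le r)) (𝒮.irrelevant_le_map U hU r) ≫
      ι 𝒮 U hU = ι 𝒮 (Y.basicOpen r) (hU.basicOpen r) at h
    rw [h, chart_hom_ι]

theorem exists_isRelProj : ∃ (P : Scheme.{u}) (p : P ⟶ Y)
      (chart : ∀ (U : Y.Opens) (hU : IsAffineOpen U),
        (((p ⁻¹ᵁ U : P.Opens) : Scheme.{u}) ≅ Proj (𝒮.deg U hU))),
      RelProj.IsRelProj 𝒮 p chart :=
  ⟨P 𝒮, p 𝒮, chart 𝒮, isRelProj 𝒮⟩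

end Groth.Agent.Helper1.RP2
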