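import Mathlib

/-!
# The quotient of a graded ring (graded by additive subgroups) by a homogeneous ideal
-/

open DirectSum

universe u

namespace Groth.Agent.Helper1.GrQuotZ

variable {A : Type u} [CommRing A] (𝒜 : ℕ → AddSubgroup A) [GradedRing 𝒜] (I : Ideal A)

/-- the pieces of the quotient: images of the pieces -/
def gr (n : ℕ) : AddSubgroup (A ⧸ I) := (𝒜 n).map (Ideal.Quotient.mk I : A →+* A ⧸ I).toAddMonoidHom

omit [GradedRing 𝒜] in
theorem mem_gr {n : ℕ} {b : A ⧸ I} : b ∈ gr 𝒜 I n ↔ ∃ a ∈ 𝒜 n, Ideal.Quotient.mk I a = b :=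
  Iff.rfl

omit [GradedRing 𝒜] in
theorem mk_mem_gr {n : ℕ} {a : A} (ha : a ∈ 𝒜 n) : Ideal.Quotient.mk I a ∈ gr 𝒜 I n :=
  ⟨a, ha, rfl⟩

instance gradedMonoid : SetLike.GradedMonoid (gr 𝒜 I) where
  one_mem := ⟨1, SetLike.GradedOne.one_mem, map_one (Ideal.Quotient.mk I)⟩
  mul_mem := by
    rintro i j _ _ ⟨a, ha, rfl⟩ ⟨b, hb, rfl⟩
    exact ⟨a * b, SetLike.mul_mem_graded ha hb, map_mul (Ideal.Quotient.mk I) _ _⟩

variable (hI : I.IsHomogeneous 𝒜)

open scoped Classical in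
theorem proj_sum_of_mem (t : Finset ℕ) (m : ℕ → A) (hm : ∀ k, m k ∈ 𝒜 k) (g : ℕ) :
    (decompose 𝒜 (∑ k ∈ t, m k) g : A) = if g ∈ t then m g else 0 := by
  rw [decompose_sum, DFinsupp.finsetSum_apply, AddSubmonoidClass.coe_finsetSum]
  have : ∀ k ∈ t, ((decompose 𝒜 (m k)) g : A) = if k = g then m g else 0 := by
    intro k _
    by_cases hkg : k = g
    · subst hkg
      rw [if_pos rfl, decompose_of_mem_same 𝒜 (hm k)]
    · rw [if_neg hkg, decompose_of_mem_ne 𝒜 (hm k) hkg]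
  rw [Finset.sum_congr rfl this, Finset.sum_ite_eq' t g]

open scoped Classical in
include hI in
theorem coe_injective : Function.Injective (DirectSum.coeAddMonoidHom (gr 𝒜 I)) := by
  rw [injective_iff_map_eq_zero]
  intro y hy
  have hex : ∀ g, ∃ m : A, m ∈ 𝒜 g ∧ Ideal.Quotient.mk I m = (y g : A ⧸ I) := fun g => (y g).2
  choose m hm hπm using hex
  have hsum : DirectSum.coeAddMonoidHom (gr 𝒜 I) y = ∑ g ∈ y.support, (y g : A ⧸ I) := by
    rw [DirectSum.coeAddMonoidHom_eq_dfinsuppSum]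
    rfl
  have hx : (∑ g ∈ y.support, m g) ∈ I := by
    rw [← Ideal.Quotient.eq_zero_iff_mem, map_sum, Finset.sum_congr rfl (fun g _ => hπm g),
      ← hsum, hy]
  ext g
  by_cases hg : g ∈ y.support
  · have h1 := hI g hx
    rw [proj_sum_of_mem 𝒜 y.support m hm g, if_pos hg, ← Ideal.Quotient.eq_zero_iff_mem,
      hπm] at h1
    rw [h1]
    rfl
  · rw [DFinsupp.mem_support_iff, not_not] at hg
    rw [hg]
    rfl

open scoped Classical in
theorem coe_surjective : Function.Surjective (DirectSum.coeAddMonoidHom (gr 𝒜 I)) := by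
  intro q
  obtain ⟨x, rfl⟩ := Ideal.Quotient.mk_surjective q
  refine ⟨∑ k ∈ (decompose 𝒜 x).support,
    DirectSum.of (fun g => gr 𝒜 I g) k
      ⟨Ideal.Quotient.mk I (decompose 𝒜 x k : A), mk_mem_gr 𝒜 I (SetLike.coe_mem _)⟩, ?_⟩
  rw [map_sum]
  simp only [DirectSum.coeAddMonoidHom_of]
  rw [← map_sum]
  congr 1
  exact DirectSum.sum_support_decompose 𝒜 x

include hI in
theorem isInternal : DirectSum.IsInternal (gr 𝒜 I) :=
  ⟨coe_injective 𝒜 I hI, coe_surjective 𝒜 I⟩

/-- the graded ring structure on the quotient by a homogeneous ideal -/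
@[instance_reducible]
noncomputable def gradedRing : GradedRing (gr 𝒜 I) :=
  { gradedMonoid 𝒜 I with
    toDecomposition := (isInternal 𝒜 I hI).chooseDecomposition }

/-- the quotient map as a graded ring hom (for the structure `gradedRing`) -/
def quotHom : 𝒜 →+*ᵍ gr 𝒜 I where
  __ := Ideal.Quotient.mk I
  map_mem := fun ha => mk_mem_gr 𝒜 I ha

theorem quotHom_apply (a : A) : quotHom 𝒜 I a = Ideal.Quotient.mk I a := rfl

theorem quotHom_surjective : Function.Surjective (quotHom 𝒜 I) := Ideal.Quotient.mk_surjective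

end Groth.Agent.Helper1.GrQuotZ
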