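import Mathlib
import Groth.Agent.Lib.Helper1.RelProjMap
import Groth.Agent.Lib.Helper1.GrQuot

/-!
# Closed subschemes of `Proj 𝒜` are `Proj` of graded quotients (helper1 library)

`𝒜₊` generated by finitely many elements of degree one.
-/

open AlgebraicGeometry CategoryTheory HomogeneousLocalization DirectSum
open scoped HomogeneousIdeal

universe u

namespace Groth.Agent.Helper1.ProjClosed

section Geo
variable {A σ : Type u} [CommRing A] [SetLike σ A] [AddSubgroupClass σ A] (𝒜 : ℕ → σ)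
  [GradedRing 𝒜] {Z : Scheme.{u}} (i : Z ⟶ Proj 𝒜)

theorem basicOpen_awayToSection_le {d : ℕ} {g : A} (hg : g ∈ 𝒜 d) (n : ℕ) (b : A)
    (hb : b ∈ 𝒜 (n • d)) :
    (Proj 𝒜).basicOpen (Proj.awayToSection 𝒜 g (Away.mk 𝒜 hg n b hb)) ≤ Proj.basicOpen 𝒜 b := by
  intro x hx
  obtain ⟨hxg, hu⟩ := (Scheme.mem_basicOpen'' (X := Proj 𝒜) _ x).mp hx
  rw [Proj.mem_basicOpen]
  intro hbx
  have h1 := ProjectiveSpectrum.Proj.awayToSection_germ 𝒜 g x hxg
  have h2 := congr($h1 (Away.mk 𝒜 hg n b hb))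
  simp only [CommRingCat.hom_comp, RingHom.coe_comp, Function.comp_apply] at h2
  have hu2 : IsUnit ((CommRingCat.Hom.hom
        ((ProjectiveSpectrum.Proj.structureSheaf 𝒜).presheaf.germ
          (ProjectiveSpectrum.basicOpen 𝒜 g) x hxg))
      ((CommRingCat.Hom.hom (ProjectiveSpectrum.Proj.awayToSection 𝒜 g))
        (Away.mk 𝒜 hg n b hb))) := hu
  rw [h2] at hu2
  have hu3 := hu2.map (Proj.stalkIso' 𝒜 x).toCommRingCatIso.hom.hom
  rw [← CommRingCat.comp_apply, Iso.inv_hom_id] at hu3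
  simp only [CommRingCat.hom_id, RingHom.id_apply, CommRingCat.hom_ofHom] at hu3
  rw [← HomogeneousLocalization.isUnit_iff_isUnit_val] at hu3
  have : x.asHomogeneousIdeal.toIdeal.IsPrime := x.isPrime
  have hden : g ^ n ∈ x.asHomogeneousIdeal.toIdeal.primeCompl := fun h =>
    hxg (x.isPrime.mem_of_pow_mem n h)
  have hu4 : IsUnit (Localization.mk b
      (⟨g ^ n, hden⟩ : x.asHomogeneousIdeal.toIdeal.primeCompl)) := hu3
  rw [Localization.mk_eq_mk', IsLocalization.AtPrime.isUnit_mk'_iff] at hu4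
  exact hu4 hbx

/-- the pulled back sections -/
noncomputable def ψ (f : A) : Away 𝒜 f →+* Γ(Z, i ⁻¹ᵁ Proj.basicOpen 𝒜 f) :=
  (Proj.awayToSection 𝒜 f ≫ i.app (Proj.basicOpen 𝒜 f)).hom

theorem ψ_apply (f : A) (y : Away 𝒜 f) :
    ψ 𝒜 i f y = i.app (Proj.basicOpen 𝒜 f) (Proj.awayToSection 𝒜 f y) := rfl

theorem ψ_awayMap {e : ℕ} {f g x : A} (hg : g ∈ 𝒜 e) (hx : x = f * g) (y : Away 𝒜 f) :
    ψ 𝒜 i x (awayMap 𝒜 hg hx y) =
      Z.presheaf.map (homOfLE (i.preimage_mono (Proj.basicOpen_mono 𝒜 f x ⟨g, hx⟩))).op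
        (ψ 𝒜 i f y) := by
  have h1 := Proj.awayMap_awayToSection 𝒜 (f := f) hg hx
  have h2 := i.naturality (homOfLE (Proj.basicOpen_mono 𝒜 f x ⟨g, hx⟩)).op
  have h3 := congr($h1 y)
  have h4 := congr($h2 (Proj.awayToSection 𝒜 f y))
  simp only [CommRingCat.hom_comp, RingHom.coe_comp, Function.comp_apply,
    CommRingCat.hom_ofHom] at h3 h4
  rw [ψ_apply, ψ_apply, h3]
  exact h4

theorem key_P [QuasiCompact i] {d : ℕ} (hd : 0 < d) {f g : A} (hf : f ∈ 𝒜 d) (hg : g ∈ 𝒜 d)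
    (hf' : f ∈ 𝒜 (1 • d)) (n : ℕ) (a : A) (ha : a ∈ 𝒜 (n • d))
    (h0 : ψ 𝒜 i f (Away.mk 𝒜 hf n a ha) = 0) :
    ∃ m : ℕ, ψ 𝒜 i g (Away.mk 𝒜 hg 1 f hf' ^ m * Away.mk 𝒜 hg n a ha) = 0 := by
  have hcomp : IsCompact (i ⁻¹ᵁ Proj.basicOpen 𝒜 g : Set Z) :=
    i.isCompact_preimage (Proj.isAffineOpen_basicOpen 𝒜 g hg hd).isCompact
  have hle : Z.basicOpen (ψ 𝒜 i g (Away.mk 𝒜 hg 1 f hf')) ≤
      i ⁻¹ᵁ Proj.basicOpen 𝒜 (g * f) := by
    rw [ψ_apply, ← Scheme.preimage_basicOpen]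
    apply i.preimage_mono
    rw [Proj.basicOpen_mul]
    exact le_inf (Scheme.basicOpen_le _ _) (basicOpen_awayToSection_le 𝒜 hg 1 f hf')
  have hgf : g * f ∈ 𝒜 (d + d) := SetLike.mul_mem_graded hg hf
  have hres : Z.presheaf.map (homOfLE (i.preimage_mono
      (Proj.basicOpen_mono 𝒜 g (g * f) ⟨f, rfl⟩))).op (ψ 𝒜 i g (Away.mk 𝒜 hg n a ha)) = 0 := by
    rw [← ψ_awayMap 𝒜 i hf rfl, awayMap_mk]
    have h1 : ψ 𝒜 i (g * f) (awayMap 𝒜 hg (mul_comm g f) (Away.mk 𝒜 hf n a ha)) = 0 := by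
      rw [ψ_awayMap, h0, map_zero]
    rw [awayMap_mk] at h1
    have hw : f ^ n * f ^ n ∈ 𝒜 (n • (d + d)) := by
      rw [smul_add]
      exact SetLike.mul_mem_graded (SetLike.pow_mem_graded n hf) (SetLike.pow_mem_graded n hf)
    have h2 : Away.mk 𝒜 hgf n (a * f ^ n) (by
          rw [smul_add]; exact SetLike.mul_mem_graded ha (SetLike.pow_mem_graded n hf)) =
        Away.mk 𝒜 hgf n (a * g ^ n) (by
          rw [smul_add]; exact SetLike.mul_mem_graded ha (SetLike.pow_mem_graded n hg)) *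
        Away.mk 𝒜 hgf n (f ^ n * f ^ n) hw := by
      apply HomogeneousLocalization.val_injective
      rw [HomogeneousLocalization.val_mul, Away.val_mk, Away.val_mk, Away.val_mk,
        Localization.mk_mul, Localization.mk_eq_mk_iff, Localization.r_iff_exists]
      refine ⟨1, ?_⟩
      simp only [Submonoid.coe_mul, OneMemClass.coe_one]
      ring
    rw [h2, map_mul, h1, zero_mul]
  have H : (ψ 𝒜 i g (Away.mk 𝒜 hg n a ha)) |_
      (Z.basicOpen (ψ 𝒜 i g (Away.mk 𝒜 hg 1 f hf'))) = 0 := by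
    have := congr(Z.presheaf.map (homOfLE hle).op $hres)
    rw [map_zero, ← CommRingCat.comp_apply, ← Functor.map_comp] at this
    exact this
  obtain ⟨m, hm⟩ := exists_pow_mul_eq_zero_of_res_basicOpen_eq_zero_of_isCompact Z hcomp _ _ H
  exact ⟨m, by rw [map_mul, map_pow, hm]⟩

variable {B τ : Type u} [CommRing B] [SetLike τ B] [AddSubgroupClass τ B] (ℬ : ℕ → τ)
  [GradedRing ℬ]

theorem exists_iso [IsClosedImmersion i] (φ : 𝒜 →+*ᵍ ℬ) (hφ : (ℬ)₊ ≤ ((𝒜)₊).map φ)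
    (hsurj : Function.Surjective φ)
    (s : Set A) (hs : ∀ f ∈ s, ∃ d, 0 < d ∧ f ∈ 𝒜 d)
    (hcov : ⨆ f : s, Proj.basicOpen 𝒜 f.1 = ⊤)
    (hker : ∀ f ∈ s, ∀ x : Away 𝒜 f, Away.map φ f x = 0 ↔ ψ 𝒜 i f x = 0) :
    ∃ e : Z ≅ Proj ℬ, e.hom ≫ Proj.map φ hφ = i := by
  have hci : IsClosedImmersion (Proj.map φ hφ) := RelProjMap.isClosedImmersion_map φ hφ hsurj
  have haff : ∀ f : s, IsAffineOpen (Proj.basicOpen 𝒜 f.1) := fun f => by
    obtain ⟨d, hd, hfd⟩ := hs f.1 f.2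
    exact Proj.isAffineOpen_basicOpen 𝒜 f.1 hfd hd
  have hk : (Proj.map φ hφ).ker = i.ker := by
    refine Scheme.IdealSheafData.ext_of_iSup_eq_top
      (fun f : s => (⟨Proj.basicOpen 𝒜 f.1, haff f⟩ : (Proj 𝒜).affineOpens)) hcov ?_
    rintro ⟨f, hf⟩
    obtain ⟨d, hd, hfd⟩ := hs f hf
    rw [Scheme.Hom.ker_apply, Scheme.Hom.ker_apply]
    ext y
    obtain ⟨x, rfl⟩ : ∃ x, Proj.awayToSection 𝒜 f x = y :=
      ⟨(Proj.basicOpenIsoAway 𝒜 f hfd hd).inv y, by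
        rw [← Proj.basicOpenIsoAway_hom 𝒜 f hfd hd]
        exact Iso.inv_hom_id_apply _ y⟩
    rw [RingHom.mem_ker, RingHom.mem_ker]
    have h1 := Proj.awayToSection_comp_appLE φ hφ hfd
    have h2 := congr($h1 x)
    simp only [CommRingCat.hom_comp, RingHom.coe_comp, Function.comp_apply,
      CommRingCat.hom_ofHom] at h2
    have hinj : Function.Injective (Proj.awayToSection ℬ (φ f)) := by
      rw [← Proj.basicOpenIsoAway_hom ℬ (φ f) (φ.map_mem hfd) hd]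
      exact ((Proj.basicOpenIsoAway ℬ (φ f) (φ.map_mem hfd) hd).commRingCatIsoToRingEquiv).injective
    have h3 : (Proj.map φ hφ).app (Proj.basicOpen 𝒜 f) (Proj.awayToSection 𝒜 f x) =
        Proj.awayToSection ℬ (φ f) (Away.map φ f x) := by
      rw [← h2]
      rfl
    show (Proj.map φ hφ).app (Proj.basicOpen 𝒜 f) (Proj.awayToSection 𝒜 f x) = 0 ↔
      i.app (Proj.basicOpen 𝒜 f) (Proj.awayToSection 𝒜 f x) = 0
    rw [h3, ← ψ_apply, ← hker f hf x]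
    constructor
    · intro h
      exact hinj (h.trans (map_zero _).symm)
    · intro h
      rw [h]
      exact map_zero _
  exact ⟨@asIso _ _ _ _ (IsClosedImmersion.lift (Proj.map φ hφ) i hk.le)
    (IsClosedImmersion.isIso_lift _ _ hk), IsClosedImmersion.lift_fac _ _ _⟩

include ℬ in
theorem irrelevant_le_map_of_surjective (φ : 𝒜 →+*ᵍ ℬ) (hsurj : Function.Surjective φ) :
    (ℬ)₊ ≤ ((𝒜)₊).map φ := by
  classical
  rw [HomogeneousIdeal.irrelevant_le]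
  intro n hn b hb
  change b ∈ Ideal.map φ ((𝒜)₊.toIdeal)
  obtain ⟨a, rfl⟩ := hsurj b
  have h1 : (DirectSum.decompose ℬ (φ a) n : B) = φ a := DirectSum.decompose_of_mem_same ℬ hb
  rw [← h1, ← φ.map_directSumDecompose]
  exact Ideal.mem_map_of_mem _ (HomogeneousIdeal.mem_irrelevant_of_mem _ hn (SetLike.coe_mem _))

end Geo

section Alg
variable {R A : Type u} [CommRing R] [CommRing A] [Algebra R A] (𝒜 : ℕ → Submodule R A)
  [GradedAlgebra 𝒜]

/-- `a_n / f^n` -/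
noncomputable def el {f : A} (hf : f ∈ 𝒜 1) (n : ℕ) (a : A) : Away 𝒜 f :=
  Away.mk 𝒜 hf n (decompose 𝒜 a n : A)
    (by rw [smul_eq_mul, mul_one]; exact SetLike.coe_mem _)

variable {f : A} (hf : f ∈ 𝒜 1)

theorem val_el (n : ℕ) (a : A) :
    (el 𝒜 hf n a).val = Localization.mk (decompose 𝒜 a n : A) (⟨f ^ n, n, rfl⟩ : Submonoid.powers f) := rfl

theorem el_add (n : ℕ) (a b : A) : el 𝒜 hf n (a + b) = el 𝒜 hf n a + el 𝒜 hf n b := by
  apply HomogeneousLocalization.val_injective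
  rw [HomogeneousLocalization.val_add, val_el, val_el, val_el, decompose_add, DirectSum.add_apply,
    Submodule.coe_add, Localization.add_mk_self]

theorem el_zero (n : ℕ) : el 𝒜 hf n 0 = 0 := by
  apply HomogeneousLocalization.val_injective
  rw [val_el, decompose_zero, DirectSum.zero_apply, ZeroMemClass.coe_zero, Localization.mk_zero,
    HomogeneousLocalization.val_zero]

theorem el_of_mem {n : ℕ} {a : A} (ha : a ∈ 𝒜 n) (ha' : a ∈ 𝒜 (n • 1)) :
    el 𝒜 hf n a = Away.mk 𝒜 hf n a ha' := by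
  apply HomogeneousLocalization.val_injective
  rw [val_el, Away.val_mk, decompose_of_mem_same 𝒜 ha]

theorem el_of_mem_ne {n k : ℕ} {a : A} (ha : a ∈ 𝒜 k) (h : k ≠ n) : el 𝒜 hf n a = 0 := by
  apply HomogeneousLocalization.val_injective
  rw [val_el, decompose_of_mem_ne 𝒜 ha h, Localization.mk_zero,
    HomogeneousLocalization.val_zero]

theorem el_mul {k : ℕ} {a : A} (ha : a ∈ 𝒜 k) (n : ℕ) (b : A) :
    el 𝒜 hf (k + n) (a * b) = el 𝒜 hf k a * el 𝒜 hf n b := by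
  apply HomogeneousLocalization.val_injective
  rw [HomogeneousLocalization.val_mul, val_el, val_el, val_el,
    coe_decompose_mul_add_of_left_mem 𝒜 ha, decompose_of_mem_same 𝒜 ha, Localization.mk_mul]
  congr 1
  ext
  exact pow_add f k n

theorem el_mul_of_lt {k : ℕ} {a : A} (ha : a ∈ 𝒜 k) {n : ℕ} (h : n < k) (b : A) :
    el 𝒜 hf n (a * b) = 0 := by
  apply HomogeneousLocalization.val_injective
  rw [val_el, coe_decompose_mul_of_left_mem_of_not_le 𝒜 ha (not_le.mpr h), Localization.mk_zero,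
    HomogeneousLocalization.val_zero]

theorem el_pow_self (m : ℕ) : el 𝒜 hf m (f ^ m) = 1 := by
  apply HomogeneousLocalization.val_injective
  have hm : f ^ m ∈ 𝒜 m := by
    have := SetLike.pow_mem_graded m hf
    rwa [smul_eq_mul, mul_one] at this
  rw [val_el, decompose_of_mem_same 𝒜 hm, HomogeneousLocalization.val_one]
  exact Localization.mk_self (⟨f ^ m, m, rfl⟩ : Submonoid.powers f)

end Alg

section Alg2
variable {R A : Type u} [CommRing R] [CommRing A] [Algebra R A] (𝒜 : ℕ → Submodule R A)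
  [GradedAlgebra 𝒜] {Z : Scheme.{u}} (i : Z ⟶ Proj 𝒜) (s : Finset A) (hs1 : ∀ f ∈ s, f ∈ 𝒜 1)

/-- the homogeneous ideal cut out by the closed subscheme -/
noncomputable def I : Ideal A where
  carrier := {a | ∀ (n : ℕ) (f : A) (hf : f ∈ s), ψ 𝒜 i f (el 𝒜 (hs1 f hf) n a) = 0}
  zero_mem' := fun n f hf => by rw [el_zero, map_zero]
  add_mem' := fun {a b} ha hb n f hf => by rw [el_add, map_add, ha n f hf, hb n f hf, add_zero]
  smul_mem' := fun c {a} ha => by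
    classical
    induction c using DirectSum.Decomposition.inductionOn 𝒜 with
    | zero => 
      intro n f hf
      rw [zero_smul, el_zero, map_zero]
    | homogeneous c =>
      rename_i k
      intro n f hf
      rw [smul_eq_mul]
      by_cases hkn : k ≤ n
      · obtain ⟨m, rfl⟩ := Nat.exists_eq_add_of_le hkn
        rw [el_mul 𝒜 (hs1 f hf) c.2, map_mul, ha m f hf, mul_zero]
      · rw [el_mul_of_lt 𝒜 (hs1 f hf) c.2 (not_le.mp hkn), map_zero]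
    | add c c' hc hc' =>
      intro n f hf
      rw [add_smul, el_add, map_add, hc n f hf, hc' n f hf, add_zero]

theorem mem_I {a : A} : a ∈ I 𝒜 i s hs1 ↔
    ∀ (n : ℕ) (f : A) (hf : f ∈ s), ψ 𝒜 i f (el 𝒜 (hs1 f hf) n a) = 0 := Iff.rfl

theorem I_isHomogeneous : (I 𝒜 i s hs1).IsHomogeneous 𝒜 := by
  intro k a ha n f hf
  by_cases hkn : k = n
  · subst hkn
    have h1 : el 𝒜 (hs1 f hf) k ((decompose 𝒜 a k : A)) = el 𝒜 (hs1 f hf) k a := by
      apply HomogeneousLocalization.val_injective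
      rw [val_el, val_el, decompose_of_mem_same 𝒜 (SetLike.coe_mem _)]
    rw [h1]
    exact ha k f hf
  · rw [el_of_mem_ne 𝒜 (hs1 f hf) (SetLike.coe_mem _) hkn, map_zero]


theorem pow_mem_deg {f : A} (hf : f ∈ 𝒜 1) (m : ℕ) : f ^ m ∈ 𝒜 m := by
  have := SetLike.pow_mem_graded m hf
  rwa [smul_eq_mul, mul_one] at this

theorem el_pow {f g : A} (hf : f ∈ 𝒜 1) (hg : g ∈ 𝒜 1) (hf' : f ∈ 𝒜 (1 • 1)) (m : ℕ) :
    el 𝒜 hg m (f ^ m) = Away.mk 𝒜 hg 1 f hf' ^ m := by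
  apply HomogeneousLocalization.val_injective
  rw [val_el, decompose_of_mem_same 𝒜 (pow_mem_deg 𝒜 hf m), HomogeneousLocalization.val_pow,
    Away.val_mk, Localization.mk_pow]
  congr 1
  ext
  simp

theorem ker_eq [QuasiCompact i] {f : A} (hf : f ∈ s) (x : Away 𝒜 f) :
    letI := GrQuot.gradedAlgebra 𝒜 (I 𝒜 i s hs1) (I_isHomogeneous 𝒜 i s hs1)
    Away.map (GrQuot.quotHom 𝒜 (I 𝒜 i s hs1)) f x = 0 ↔ ψ 𝒜 i f x = 0 := by
  let _ := GrQuot.gradedAlgebra 𝒜 (I 𝒜 i s hs1) (I_isHomogeneous 𝒜 i s hs1)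
  obtain ⟨n, a, ha, rfl⟩ := Away.mk_surjective 𝒜 (hs1 f hf) x
  have han : a ∈ 𝒜 n := by rwa [smul_eq_mul, mul_one] at ha
  rw [Away.map_mk, HomogeneousLocalization.ext_iff_val, Away.val_mk,
    HomogeneousLocalization.val_zero, Localization.mk_eq_mk', IsLocalization.mk'_eq_zero_iff]
  constructor
  · rintro ⟨⟨_, m, rfl⟩, hm⟩
    have h1 : f ^ m * a ∈ I 𝒜 i s hs1 := by
      rw [← Ideal.Quotient.eq_zero_iff_mem, map_mul, map_pow]
      exact hm
    have h2 := h1 (m + n) f hf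
    rw [el_mul 𝒜 (hs1 f hf) (pow_mem_deg 𝒜 (hs1 f hf) m), el_pow_self, one_mul,
      el_of_mem 𝒜 (hs1 f hf) han ha] at h2
    exact h2
  · intro h0
    have hf' : f ∈ 𝒜 (1 • 1) := hs1 f hf
    have hex : ∀ g : s, ∃ m : ℕ, ψ 𝒜 i g.1
        (Away.mk 𝒜 (hs1 g.1 g.2) 1 f hf' ^ m * Away.mk 𝒜 (hs1 g.1 g.2) n a ha) = 0 := fun g =>
      key_P 𝒜 i one_pos (hs1 f hf) (hs1 g.1 g.2) hf' n a ha h0
    choose m hm using hex
    set M := Finset.univ.sup m with hM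
    have h1 : f ^ M * a ∈ I 𝒜 i s hs1 := by
      intro k g hg
      by_cases hk : M + n = k
      · subst hk
        rw [el_mul 𝒜 (hs1 g hg) (pow_mem_deg 𝒜 (hs1 f hf) M), el_pow 𝒜 (hs1 f hf) (hs1 g hg) hf',
          el_of_mem 𝒜 (hs1 g hg) han ha]
        have hle : m ⟨g, hg⟩ ≤ M := Finset.le_sup (f := m) (Finset.mem_univ _)
        obtain ⟨r, hr⟩ := Nat.exists_eq_add_of_le hle
        rw [hr, add_comm, pow_add, mul_assoc, map_mul, hm ⟨g, hg⟩, mul_zero]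
      · rw [el_of_mem_ne 𝒜 (hs1 g hg)
          (SetLike.mul_mem_graded (pow_mem_deg 𝒜 (hs1 f hf) M) han) hk, map_zero]
    refine ⟨⟨_, M, rfl⟩, ?_⟩
    have := Ideal.Quotient.eq_zero_iff_mem.mpr h1
    rw [map_mul, map_pow] at this
    exact this


include hs1 in
theorem main [IsClosedImmersion i] (hs : (HomogeneousIdeal.irrelevant 𝒜).toIdeal =
      Ideal.span (s : Set A)) :
    ∃ (B : Type u) (_ : CommRing B) (_ : Algebra R B) (ℬ : ℕ → Submodule R B)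
      (_ : GradedAlgebra ℬ) (φ : 𝒜 →+*ᵍ ℬ) (_ : Function.Surjective φ)
      (hφ : HomogeneousIdeal.irrelevant ℬ ≤ (HomogeneousIdeal.irrelevant 𝒜).map φ)
      (e : Z ≅ Proj ℬ), e.hom ≫ Proj.map φ hφ = i := by
  let inst := GrQuot.gradedAlgebra 𝒜 (I 𝒜 i s hs1) (I_isHomogeneous 𝒜 i s hs1)
  have hsurj : Function.Surjective (GrQuot.quotHom 𝒜 (I 𝒜 i s hs1)) :=
    GrQuot.quotHom_surjective 𝒜 _
  have hφ := irrelevant_le_map_of_surjective 𝒜 (GrQuot.gr 𝒜 (I 𝒜 i s hs1))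
    (GrQuot.quotHom 𝒜 (I 𝒜 i s hs1)) hsurj
  have hcov : ⨆ f : (s : Set A), Proj.basicOpen 𝒜 f.1 = ⊤ := by
    apply Proj.iSup_basicOpen_eq_top
    rw [hs, Subtype.range_coe]
  obtain ⟨e, he⟩ := exists_iso 𝒜 i (GrQuot.gr 𝒜 (I 𝒜 i s hs1)) (GrQuot.quotHom 𝒜 (I 𝒜 i s hs1))
    hφ hsurj (s : Set A) (fun f hf => ⟨1, one_pos, hs1 f hf⟩) hcov
    (fun f hf x => ker_eq 𝒜 i s hs1 hf x)
  exact ⟨A ⧸ I 𝒜 i s hs1, inferInstance, inferInstance, GrQuot.gr 𝒜 (I 𝒜 i s hs1), inst,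
    GrQuot.quotHom 𝒜 (I 𝒜 i s hs1), hsurj, hφ, e, he⟩

end Alg2

end Groth.Agent.Helper1.ProjClosed
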