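import Mathlib
import Groth.Prelude.Def_RelProj4
import Groth.Agent.Lib.Helper1.ProjQ8

/-!
# Functoriality: `Proj(u ∘ v) = Proj(v) ∘ Proj(u)` on `G(u ∘ v)` (helper1 library)
-/

universe u

open CategoryTheory CategoryTheory.Limits AlgebraicGeometry TopologicalSpace Opposite
open scoped HomogeneousIdeal
open HomogeneousLocalization

namespace Groth.Agent.Helper1.ProjQ

section Ring
open ProjDom
variable {A B σ τ : Type u} [CommRing A] [SetLike σ A] [AddSubgroupClass σ A] {𝒜 : ℕ → σ}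
  [GradedRing 𝒜] [CommRing B] [SetLike τ B] [AddSubgroupClass τ B] {ℬ : ℕ → τ} [GradedRing ℬ]
  (φ : 𝒜 →+*ᵍ ℬ)
variable {A' σ' : Type u} [CommRing A'] [SetLike σ' A'] [AddSubgroupClass σ' A'] {𝒜' : ℕ → σ'}
  [GradedRing 𝒜'] (α : 𝒜' →+*ᵍ 𝒜)

theorem dmap_mem_domOpen_iff (w : ((RelCone.domOpen φ : (Proj ℬ).Opens) : Scheme.{u})) :
    dmap φ w ∈ RelCone.domOpen α ↔ (RelCone.domOpen φ).ι w ∈ RelCone.domOpen (φ.comp α) := by
  rw [mem_domOpen_iff, mem_domOpen_iff]
  refine exists_congr fun t => ?_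
  exact dmap_mem_basicOpen_iff φ t.hd (α.2 t.hf) w

theorem range_comp_dmap_subset :
    Set.range ((Proj ℬ).homOfLE (domOpen_comp_le φ α) ≫ dmap φ).base ⊆
      Set.range (RelCone.domOpen α).ι.base := by
  rw [Scheme.Opens.range_ι]
  rintro _ ⟨w, rfl⟩
  show dmap φ ((Proj ℬ).homOfLE (domOpen_comp_le φ α) w) ∈ RelCone.domOpen α
  rw [dmap_mem_domOpen_iff]
  have : (RelCone.domOpen φ).ι ((Proj ℬ).homOfLE (domOpen_comp_le φ α) w) =
      (RelCone.domOpen (φ.comp α)).ι w := by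
    rw [← Scheme.Hom.comp_apply, Scheme.homOfLE_ι]
  rw [this]
  exact w.2

theorem comp_dmap :
    IsOpenImmersion.lift (RelCone.domOpen α).ι
      ((Proj ℬ).homOfLE (domOpen_comp_le φ α) ≫ dmap φ) (range_comp_dmap_subset φ α) ≫ dmap α =
      dmap (φ.comp α) := by
  apply dmap_unique
  intro t
  have h1 : ch (φ.comp α) t ≫ (Proj ℬ).homOfLE (domOpen_comp_le φ α) =
      ch φ ⟨t.d, t.hd, α t.f, α.2 t.hf⟩ := by
    refine (cancel_mono (RelCone.domOpen φ).ι).mp ?_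
    rw [Category.assoc, Scheme.homOfLE_ι, ch_ι]
    exact (ch_ι φ ⟨t.d, t.hd, α t.f, α.2 t.hf⟩).symm
  have h2 : ch (φ.comp α) t ≫ IsOpenImmersion.lift (RelCone.domOpen α).ι
      ((Proj ℬ).homOfLE (domOpen_comp_le φ α) ≫ dmap φ) (range_comp_dmap_subset φ α) =
      Spec.map (CommRingCat.ofHom (Away.map φ (α t.f))) ≫ ch α t := by
    refine (cancel_mono (RelCone.domOpen α).ι).mp ?_
    calc (ch (φ.comp α) t ≫ IsOpenImmersion.lift (RelCone.domOpen α).ι
          ((Proj ℬ).homOfLE (domOpen_comp_le φ α) ≫ dmap φ) (range_comp_dmap_subset φ α)) ≫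
          (RelCone.domOpen α).ι
        = ch (φ.comp α) t ≫ ((Proj ℬ).homOfLE (domOpen_comp_le φ α) ≫ dmap φ) := by
          rw [Category.assoc, IsOpenImmersion.lift_fac]
      _ = (ch (φ.comp α) t ≫ (Proj ℬ).homOfLE (domOpen_comp_le φ α)) ≫ dmap φ :=
          (Category.assoc _ _ _).symm
      _ = ch φ ⟨t.d, t.hd, α t.f, α.2 t.hf⟩ ≫ dmap φ := congrArg (· ≫ dmap φ) h1
      _ = gmap φ ⟨t.d, t.hd, α t.f, α.2 t.hf⟩ := ch_dmap φ ⟨t.d, t.hd, α t.f, α.2 t.hf⟩
      _ = Spec.map (CommRingCat.ofHom (Away.map φ (α t.f))) ≫ (ch α t ≫ (RelCone.domOpen α).ι) := by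
          rw [ch_ι α t]; rfl
      _ = (Spec.map (CommRingCat.ofHom (Away.map φ (α t.f))) ≫ ch α t) ≫ (RelCone.domOpen α).ι :=
          (Category.assoc _ _ _).symm
  refine (Category.assoc _ _ _).symm.trans ?_
  refine (congrArg (· ≫ dmap α) h2).trans ?_
  refine (Category.assoc _ _ _).trans ?_
  refine (congrArg (Spec.map (CommRingCat.ofHom (Away.map φ (α t.f))) ≫ ·) (ch_dmap α t)).trans ?_
  exact gmap_comp α φ t

theorem comp_dmap' (φ' : 𝒜' →+*ᵍ ℬ) (h : φ' = φ.comp α) :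
    ∃ (κ : ((RelCone.domOpen φ' : (Proj ℬ).Opens) : Scheme.{u}) ⟶
        ((RelCone.domOpen φ : (Proj ℬ).Opens) : Scheme.{u}))
      (lam : ((RelCone.domOpen φ' : (Proj ℬ).Opens) : Scheme.{u}) ⟶
        ((RelCone.domOpen α : (Proj 𝒜).Opens) : Scheme.{u})),
      κ ≫ (RelCone.domOpen φ).ι = (RelCone.domOpen φ').ι ∧
        lam ≫ (RelCone.domOpen α).ι = κ ≫ dmap φ ∧ lam ≫ dmap α = dmap φ' := by
  subst h
  exact ⟨_, _, Scheme.homOfLE_ι _ _, IsOpenImmersion.lift_fac _ _ _, comp_dmap φ α⟩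

end Ring

section Glob
variable {Y Y' P P' PT : Scheme.{u}} {g : Y' ⟶ Y} {𝒮 𝒯 : RelProj.QCGrAlg Y}
  {𝒮' : RelProj.QCGrAlg Y'}
  (u : RelProj.QGrHom g 𝒮 𝒮')
  (v : 𝒯.toQCAlg ⟶ 𝒮.toQCAlg) (hv : RelProj.IsGradedHom v)
  (u' : RelProj.QGrHom g 𝒯 𝒮')
  (hu' : ∀ U : Y.Opens, u'.app U = v.hom.app (op U) ≫ u.app U)
  (p : P ⟶ Y)
  (chart : ∀ (U : Y.Opens) (hU : IsAffineOpen U),
    (((p ⁻¹ᵁ U : P.Opens) : Scheme.{u}) ≅ Proj (𝒮.deg U hU)))
  (p' : P' ⟶ Y')
  (chart' : ∀ (U : Y'.Opens) (hU : IsAffineOpen U),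
    (((p' ⁻¹ᵁ U : P'.Opens) : Scheme.{u}) ≅ Proj (𝒮'.deg U hU)))
  (pT : PT ⟶ Y)
  (chartT : ∀ (U : Y.Opens) (hU : IsAffineOpen U),
    (((pT ⁻¹ᵁ U : PT.Opens) : Scheme.{u}) ≅ Proj (𝒯.deg U hU)))
  (r : ((RelProj.domQ u p' chart' : P'.Opens) : Scheme.{u}) ⟶ P)
  (hr : RelProj.IsProjQMapOn u p chart p' chart' (RelProj.domQ u p' chart') r)
  (r' : ((RelProj.domQ u' p' chart' : P'.Opens) : Scheme.{u}) ⟶ PT)
  (hr' : RelProj.IsProjQMapOn u' pT chartT p' chart' (RelProj.domQ u' p' chart') r')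
  (s : ((RelProj.domQ (RelProj.QGrHom.ofHom v hv) p chart : P.Opens) : Scheme.{u}) ⟶ PT)
  (hs : RelProj.IsProjQMapOn (RelProj.QGrHom.ofHom v hv) pT chartT p chart
    (RelProj.domQ (RelProj.QGrHom.ofHom v hv) p chart) s)

include hv hu' in
theorem gr_comp_diag (π : Pair g) :
    gr u' π = (gr u π).comp (gr (RelProj.QGrHom.ofHom v hv) (diag π.U π.hU)) := by
  rw [gr_diag]
  exact gr_comp u v hv u' hu' π

include hr hu' in
theorem lift_comp_r (π : Pair g) :
    ∃ lam : Xi u' π ⟶ Xi (RelProj.QGrHom.ofHom v hv) (diag π.U π.hU),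
      IsOpenImmersion.lift (RelProj.domQ u' p' chart').ι (jj u' p' chart' π)
          (range_jj_subset u' p' chart' π) ≫
        P'.homOfLE (domQ_comp_le u p' chart' v hv u' hu') ≫ r =
        lam ≫ jj (RelProj.QGrHom.ofHom v hv) p chart (diag π.U π.hU) ∧
      lam ≫ dmap (gr (RelProj.QGrHom.ofHom v hv) (diag π.U π.hU)) = dmap (gr u' π) := by
  have hr₂ := (isProjQMapOn_iff u p chart p' chart' _ (range_jj_subset u p' chart') r).mp hr
  obtain ⟨κ, lam, h1, h2, h3⟩ := comp_dmap' (gr u π)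
    (gr (RelProj.QGrHom.ofHom v hv) (diag π.U π.hU)) (gr u' π) (gr_comp_diag u v hv u' hu' π)
  refine ⟨lam, ?_, h3⟩
  have e1 : IsOpenImmersion.lift (RelProj.domQ u' p' chart').ι (jj u' p' chart' π)
      (range_jj_subset u' p' chart' π) ≫ P'.homOfLE (domQ_comp_le u p' chart' v hv u' hu') =
      κ ≫ IsOpenImmersion.lift (RelProj.domQ u p' chart').ι (jj u p' chart' π)
        (range_jj_subset u p' chart' π) := by
    refine (cancel_mono (RelProj.domQ u p' chart').ι).mp ?_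
    rw [Category.assoc, Scheme.homOfLE_ι, IsOpenImmersion.lift_fac, Category.assoc,
      IsOpenImmersion.lift_fac]
    unfold jj
    rw [← Category.assoc, h1]
  rw [← Category.assoc, e1, Category.assoc, hr₂ π]
  unfold nn jj
  rw [← Category.assoc, ← h2, Category.assoc]

include hv hu' hr in
theorem range_comp_subset :
    Set.range (P'.homOfLE (domQ_comp_le u p' chart' v hv u' hu') ≫ r).base ⊆
      Set.range (RelProj.domQ (RelProj.QGrHom.ofHom v hv) p chart).ι.base := by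
  rintro _ ⟨x, rfl⟩
  obtain ⟨π, a, rfl⟩ := (gcov (RelProj.domQ u' p' chart') (Xi u') (jj u' p' chart')
    (range_jj_subset u' p' chart') (exists_pair_of_mem u' p' chart')).exists_eq x
  obtain ⟨lam, h1, -⟩ := lift_comp_r u v hv u' hu' p chart p' chart' r hr π
  have : (P'.homOfLE (domQ_comp_le u p' chart' v hv u' hu') ≫ r)
      (IsOpenImmersion.lift (RelProj.domQ u' p' chart').ι (jj u' p' chart' π)
          (range_jj_subset u' p' chart' π) a) =
      jj (RelProj.QGrHom.ofHom v hv) p chart (diag π.U π.hU) (lam a) := by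
    rw [← Scheme.Hom.comp_apply, h1]
    rfl
  show (P'.homOfLE (domQ_comp_le u p' chart' v hv u' hu') ≫ r)
      (IsOpenImmersion.lift (RelProj.domQ u' p' chart').ι (jj u' p' chart' π)
          (range_jj_subset u' p' chart' π) a) ∈ _
  rw [this]
  exact range_jj_subset (RelProj.QGrHom.ofHom v hv) p chart (diag π.U π.hU) ⟨lam a, rfl⟩

include hr hr' hs in
theorem functoriality :
    IsOpenImmersion.lift (RelProj.domQ (RelProj.QGrHom.ofHom v hv) p chart).ι
      (P'.homOfLE (domQ_comp_le u p' chart' v hv u' hu') ≫ r)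
      (range_comp_subset u v hv u' hu' p chart p' chart' r hr) ≫ s = r' := by
  have hr'₂ := (isProjQMapOn_iff u' pT chartT p' chart' _ (range_jj_subset u' p' chart') r').mp hr'
  have hs₂ := (isProjQMapOn_iff (RelProj.QGrHom.ofHom v hv) pT chartT p chart _
    (range_jj_subset (RelProj.QGrHom.ofHom v hv) p chart) s).mp hs
  refine hom_ext (RelProj.domQ u' p' chart') (Xi u') (jj u' p' chart')
    (range_jj_subset u' p' chart') (exists_pair_of_mem u' p' chart') fun π => ?_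
  obtain ⟨lam, h1, h3⟩ := lift_comp_r u v hv u' hu' p chart p' chart' r hr π
  have e2 : IsOpenImmersion.lift (RelProj.domQ u' p' chart').ι (jj u' p' chart' π)
      (range_jj_subset u' p' chart' π) ≫
      IsOpenImmersion.lift (RelProj.domQ (RelProj.QGrHom.ofHom v hv) p chart).ι
        (P'.homOfLE (domQ_comp_le u p' chart' v hv u' hu') ≫ r)
        (range_comp_subset u v hv u' hu' p chart p' chart' r hr) =
      lam ≫ IsOpenImmersion.lift (RelProj.domQ (RelProj.QGrHom.ofHom v hv) p chart).ι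
        (jj (RelProj.QGrHom.ofHom v hv) p chart (diag π.U π.hU))
        (range_jj_subset (RelProj.QGrHom.ofHom v hv) p chart (diag π.U π.hU)) := by
    refine (cancel_mono (RelProj.domQ (RelProj.QGrHom.ofHom v hv) p chart).ι).mp ?_
    rw [Category.assoc, IsOpenImmersion.lift_fac, h1, Category.assoc, IsOpenImmersion.lift_fac]
  rw [← Category.assoc, e2, Category.assoc, hs₂ (diag π.U π.hU), hr'₂ π]
  unfold nn
  rw [← Category.assoc, h3]

end Glob

end Groth.Agent.Helper1.ProjQ
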