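import Mathlib
import Groth.Prelude.Def_RelProj4
import Groth.Agent.Lib.Helper1.ProjQ9

/-!
# `G(u ∘ v) = G(u) ∩ r⁻¹ G(v)` and dominance (helper1 library)
-/

universe u

open CategoryTheory CategoryTheory.Limits AlgebraicGeometry TopologicalSpace Opposite
open scoped HomogeneousIdeal
open HomogeneousLocalization

namespace Groth.Agent.Helper1.ProjQ

section Glob
variable {Y Y' P P' PT : Scheme.{u}} {g : Y' ⟶ Y} {𝒮 𝒯 : RelProj.QCGrAlg Y}
  {𝒮' : RelProj.QCGrAlg Y'}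
  (u : RelProj.QGrHom g 𝒮 𝒮')
  (v : 𝒯.toQCAlg ⟶ 𝒮.toQCAlg) (hv : RelProj.IsGradedHom v)
  (u' : RelProj.QGrHom g 𝒯 𝒮')
  (hu' : ∀ U : Y.Opens, u'.app U = v.hom.app (op U) ≫ u.app U)
  (p : P ⟶ Y)
  (chart : ∀ (U : Y.Opens) (hU : IsAffineOpen U),
    (((p ⁻¹ᵁ U : P.Opens) : Scheme.{u}) ≅ Proj (𝒮.deg U hU)))
  (p' : P' ⟶ Y')
  (chart' : ∀ (U : Y'.Opens) (hU : IsAffineOpen U),
    (((p' ⁻¹ᵁ U : P'.Opens) : Scheme.{u}) ≅ Proj (𝒮'.deg U hU)))
  (pT : PT ⟶ Y)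
  (chartT : ∀ (U : Y.Opens) (hU : IsAffineOpen U),
    (((pT ⁻¹ᵁ U : PT.Opens) : Scheme.{u}) ≅ Proj (𝒯.deg U hU)))
  (hP : RelProj.IsRelProj 𝒮 p chart) (hPT : RelProj.IsRelProj 𝒯 pT chartT)
  (r : ((RelProj.domQ u p' chart' : P'.Opens) : Scheme.{u}) ⟶ P)
  (hr : RelProj.IsProjQMapOn u p chart p' chart' (RelProj.domQ u p' chart') r)

include hv hu' hP hPT hr in
theorem mem_domQ_comp (x : ((RelProj.domQ u p' chart' : P'.Opens) : Scheme.{u}))
    (hx : r x ∈ RelProj.domQ (RelProj.QGrHom.ofHom v hv) p chart) :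
    (RelProj.domQ u p' chart').ι x ∈ RelProj.domQ u' p' chart' := by
  have hr₂ := (isProjQMapOn_iff u p chart p' chart' _ (range_jj_subset u p' chart') r).mp hr
  obtain ⟨π, a, ha⟩ := exists_pair_of_mem u p' chart' _ x.2
  have hxa : IsOpenImmersion.lift (RelProj.domQ u p' chart').ι (jj u p' chart' π)
      (range_jj_subset u p' chart' π) a = x := by
    apply (RelProj.domQ u p' chart').ι.isOpenEmbedding.injective
    rw [← Scheme.Hom.comp_apply, IsOpenImmersion.lift_fac]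
    exact ha
  have hrx : r x = RelProj.emb p chart π.U π.hU (dmap (gr u π) a) := by
    rw [← hxa, ← Scheme.Hom.comp_apply, hr₂ π]
    rfl
  have hmem : r x ∈ RelProj.domQ (RelProj.QGrHom.ofHom v hv) p chart ⊓ p ⁻¹ᵁ π.U := by
    refine ⟨hx, ?_⟩
    have : r x ∈ Set.range (RelProj.emb p chart π.U π.hU) := by
      rw [hrx]; exact ⟨_, rfl⟩
    rw [RelCone3.range_emb] at this
    exact this
  rw [inf_preimage_eq (RelProj.QGrHom.ofHom v hv) pT chartT p chart hPT hP (diag π.U π.hU)] at hmem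
  obtain ⟨z, hz, hzr⟩ := hmem
  have hz' : z = dmap (gr u π) a :=
    (RelProj.emb p chart π.U π.hU).isOpenEmbedding.injective (hzr.trans hrx)
  rw [hz'] at hz
  have h1 := (dmap_mem_domOpen_iff (gr u π)
    (gr (RelProj.QGrHom.ofHom v hv) (diag π.U π.hU)) a).mp hz
  rw [← gr_comp_diag u v hv u' hu' π] at h1
  rw [mem_domQ_iff]
  exact ⟨π, _, h1, ha⟩

include hv hu' hP hPT hr in
theorem isDominant_lift [IsDominant r] :
    IsDominant (IsOpenImmersion.lift (RelProj.domQ (RelProj.QGrHom.ofHom v hv) p chart).ι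
      (P'.homOfLE (domQ_comp_le u p' chart' v hv u' hu') ≫ r)
      (range_comp_subset u v hv u' hu' p chart p' chart' r hr)) := by
  refine ⟨?_⟩
  rw [DenseRange, dense_iff_inter_open]
  intro O hO hne
  have hO' : IsOpen ((RelProj.domQ (RelProj.QGrHom.ofHom v hv) p chart).ι '' O) :=
    (RelProj.domQ (RelProj.QGrHom.ofHom v hv) p chart).ι.isOpenEmbedding.isOpenMap O hO
  have hne' : ((RelProj.domQ (RelProj.QGrHom.ofHom v hv) p chart).ι '' O).Nonempty := hne.image _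
  obtain ⟨_, ⟨z, hzO, rfl⟩, ⟨x, hx⟩⟩ :=
    (dense_iff_inter_open.mp r.denseRange) _ hO' hne'
  have hxG : r x ∈ RelProj.domQ (RelProj.QGrHom.ofHom v hv) p chart := by
    rw [hx]; exact z.2
  have hx' := mem_domQ_comp u v hv u' hu' p chart p' chart' pT chartT hP hPT r hr x hxG
  refine ⟨z, hzO, ⟨⟨_, hx'⟩, ?_⟩⟩
  apply (RelProj.domQ (RelProj.QGrHom.ofHom v hv) p chart).ι.isOpenEmbedding.injective
  rw [← Scheme.Hom.comp_apply, IsOpenImmersion.lift_fac, ← hx, Scheme.Hom.comp_apply]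
  congr 1
  apply (RelProj.domQ u p' chart').ι.isOpenEmbedding.injective
  rw [← Scheme.Hom.comp_apply, Scheme.homOfLE_ι]
  rfl

end Glob

section Same
variable {Y PA PB : Scheme.{u}} {𝒜 ℬ : RelProj.QCGrAlg Y} (φ : 𝒜.toQCAlg ⟶ ℬ.toQCAlg)
  (hφ : RelProj.IsGradedHom φ)
  (pA : PA ⟶ Y)
  (chartA : ∀ (U : Y.Opens) (hU : IsAffineOpen U),
    (((pA ⁻¹ᵁ U : PA.Opens) : Scheme.{u}) ≅ Proj (𝒜.deg U hU)))
  (pB : PB ⟶ Y)
  (chartB : ∀ (U : Y.Opens) (hU : IsAffineOpen U),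
    (((pB ⁻¹ᵁ U : PB.Opens) : Scheme.{u}) ≅ Proj (ℬ.deg U hU)))
  (hA : RelProj.IsRelProj 𝒜 pA chartA) (hB : RelProj.IsRelProj ℬ pB chartB)
  (Φ : ((RelProj.domQ (RelProj.QGrHom.ofHom φ hφ) pB chartB : PB.Opens) : Scheme.{u}) ⟶ PA)
  (hΦ : RelProj.IsProjQMapOn (RelProj.QGrHom.ofHom φ hφ) pA chartA pB chartB
    (RelProj.domQ (RelProj.QGrHom.ofHom φ hφ) pB chartB) Φ)

theorem isDominant_spec_of_injective {R S : CommRingCat.{u}} (f : R ⟶ S)
    (hf : Function.Injective f.hom) : IsDominant (Spec.map f) := by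
  refine ⟨?_⟩
  show DenseRange (PrimeSpectrum.comap f.hom)
  rw [PrimeSpectrum.denseRange_comap_iff_ker_le_nilRadical,
    (RingHom.injective_iff_ker_eq_bot _).mp hf]
  exact bot_le

include hA hB hΦ in
theorem isDominant_of_tn_injective
    (hTN : ∃ n : ℕ, ∀ k, n ≤ k → ∀ (U : Y.Opens) (hU : IsAffineOpen U), ∀ x ∈ 𝒜.deg U hU k,
      (φ.hom.app (op U)).hom x = 0 → x = 0) : IsDominant Φ := by
  obtain ⟨n, hn⟩ := hTN
  apply of_charts φ hφ pA chartA pB chartB hA hB Φ hΦ @IsDominant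
  intro U hU t
  apply isDominant_spec_of_injective
  apply awayMap_injective_of_tn _ n
  intro k hk x hx hx0
  refine hn k hk U hU x hx ?_
  exact (DFunLike.congr_fun (gr_diag φ hφ U hU) x).symm.trans hx0

end Same

end Groth.Agent.Helper1.ProjQ
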