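import Mathlib
import Groth.Prelude.Def_RelProj4
import Groth.Agent.Lib.Helper1.ProjQ10

/-!
# Composites of graded `g`-morphisms with same-base homomorphisms; functoriality on the
source side (helper1 library)
-/

universe u

open CategoryTheory CategoryTheory.Limits AlgebraicGeometry TopologicalSpace Opposite
open scoped HomogeneousIdeal
open HomogeneousLocalization

namespace Groth.Agent.Helper1.ProjQ

section CompHom
variable {Y Y' : Scheme.{u}} {g : Y' ⟶ Y} {𝒮 𝒯 : RelProj.QCGrAlg Y} {𝒮' : RelProj.QCGrAlg Y'}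

/-- `u ∘ v` for a graded homomorphism `v : 𝒯 → 𝒮` on the base of `u`. -/
def compHom (v : 𝒯.toQCAlg ⟶ 𝒮.toQCAlg) (hv : RelProj.IsGradedHom v)
    (u : RelProj.QGrHom g 𝒮 𝒮') : RelProj.QGrHom g 𝒯 𝒮' where
  app U := v.hom.app (op U) ≫ u.app U
  naturality {U V} i := by
    rw [Category.assoc, u.naturality i, ← Category.assoc, ← Category.assoc]
    congr 1
    exact (v.hom.naturality _).symm
  str_app U := by
    have h1 : 𝒯.str.app (op U) ≫ v.hom.app (op U) = 𝒮.str.app (op U) := by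
      rw [← NatTrans.comp_app, v.comm]
    rw [← Category.assoc, h1, u.str_app]
  map_mem U hU U' hU' hle _ x hx := u.map_mem U hU U' hU' hle (hv U hU _ x hx)

theorem compHom_app (v : 𝒯.toQCAlg ⟶ 𝒮.toQCAlg) (hv : RelProj.IsGradedHom v)
    (u : RelProj.QGrHom g 𝒮 𝒮') (U : Y.Opens) :
    (compHom v hv u).app U = v.hom.app (op U) ≫ u.app U := rfl

end CompHom

section Pre
variable {Y Y' P P' PW : Scheme.{u}} {g : Y' ⟶ Y} {𝒮 : RelProj.QCGrAlg Y}
  {𝒮' 𝒲 : RelProj.QCGrAlg Y'}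
  (u : RelProj.QGrHom g 𝒮 𝒮')
  (w : 𝒮'.toQCAlg ⟶ 𝒲.toQCAlg) (hw : RelProj.IsGradedHom w)
  (κ : RelProj.QGrHom g 𝒮 𝒲)
  (hκ : ∀ π : Pair g,
    gr κ π = (gr (RelProj.QGrHom.ofHom w hw) (diag π.U' π.hU')).comp (gr u π))
  (p : P ⟶ Y)
  (chart : ∀ (U : Y.Opens) (hU : IsAffineOpen U),
    (((p ⁻¹ᵁ U : P.Opens) : Scheme.{u}) ≅ Proj (𝒮.deg U hU)))
  (p' : P' ⟶ Y')
  (chart' : ∀ (U : Y'.Opens) (hU : IsAffineOpen U),
    (((p' ⁻¹ᵁ U : P'.Opens) : Scheme.{u}) ≅ Proj (𝒮'.deg U hU)))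
  (pW : PW ⟶ Y')
  (chartW : ∀ (U : Y'.Opens) (hU : IsAffineOpen U),
    (((pW ⁻¹ᵁ U : PW.Opens) : Scheme.{u}) ≅ Proj (𝒲.deg U hU)))
  (hP' : RelProj.IsRelProj 𝒮' p' chart') (hPW : RelProj.IsRelProj 𝒲 pW chartW)
  (Φ : ((RelProj.domQ u p' chart' : P'.Opens) : Scheme.{u}) ⟶ P)
  (hΦ : RelProj.IsProjQMapOn u p chart p' chart' (RelProj.domQ u p' chart') Φ)
  (ρ : ((RelProj.domQ (RelProj.QGrHom.ofHom w hw) pW chartW : PW.Opens) : Scheme.{u}) ⟶ P')
  (hρ : RelProj.IsProjQMapOn (RelProj.QGrHom.ofHom w hw) p' chart' pW chartW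
    (RelProj.domQ (RelProj.QGrHom.ofHom w hw) pW chartW) ρ)
  (Φκ : ((RelProj.domQ κ pW chartW : PW.Opens) : Scheme.{u}) ⟶ P)
  (hΦκ : RelProj.IsProjQMapOn κ p chart pW chartW (RelProj.domQ κ pW chartW) Φκ)

include hκ in
theorem domQ_pre_le :
    RelProj.domQ κ pW chartW ≤ RelProj.domQ (RelProj.QGrHom.ofHom w hw) pW chartW := by
  intro x hx
  rw [mem_domQ_iff] at hx ⊢
  obtain ⟨π, y, hy, rfl⟩ := hx
  refine ⟨diag π.U' π.hU', y, ?_, rfl⟩
  rw [hκ π] at hy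
  exact domOpen_comp_le _ _ hy

include hρ hκ in
theorem lift_pre_r (π : Pair g) :
    ∃ lam : Xi κ π ⟶ Xi u π,
      IsOpenImmersion.lift (RelProj.domQ κ pW chartW).ι (jj κ pW chartW π)
          (range_jj_subset κ pW chartW π) ≫
        PW.homOfLE (domQ_pre_le u w hw κ hκ pW chartW) ≫ ρ =
        lam ≫ jj u p' chart' π ∧
      lam ≫ dmap (gr u π) = dmap (gr κ π) := by
  have hρ₂ := (isProjQMapOn_iff (RelProj.QGrHom.ofHom w hw) p' chart' pW chartW _
    (range_jj_subset (RelProj.QGrHom.ofHom w hw) pW chartW) ρ).mp hρ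
  obtain ⟨κ₀, lam, h1, h2, h3⟩ := comp_dmap'
    (gr (RelProj.QGrHom.ofHom w hw) (diag π.U' π.hU')) (gr u π) (gr κ π) (hκ π)
  refine ⟨lam, ?_, h3⟩
  have e1 : IsOpenImmersion.lift (RelProj.domQ κ pW chartW).ι (jj κ pW chartW π)
      (range_jj_subset κ pW chartW π) ≫ PW.homOfLE (domQ_pre_le u w hw κ hκ pW chartW) =
      κ₀ ≫ IsOpenImmersion.lift (RelProj.domQ (RelProj.QGrHom.ofHom w hw) pW chartW).ι
        (jj (RelProj.QGrHom.ofHom w hw) pW chartW (diag π.U' π.hU'))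
        (range_jj_subset (RelProj.QGrHom.ofHom w hw) pW chartW (diag π.U' π.hU')) := by
    refine (cancel_mono (RelProj.domQ (RelProj.QGrHom.ofHom w hw) pW chartW).ι).mp ?_
    rw [Category.assoc, Scheme.homOfLE_ι, IsOpenImmersion.lift_fac, Category.assoc,
      IsOpenImmersion.lift_fac]
    unfold jj
    rw [← Category.assoc, h1]
  rw [← Category.assoc, e1, Category.assoc, hρ₂ (diag π.U' π.hU')]
  unfold nn jj
  rw [← Category.assoc, ← h2, Category.assoc]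

include hκ hρ in
theorem range_pre_subset :
    Set.range (PW.homOfLE (domQ_pre_le u w hw κ hκ pW chartW) ≫ ρ).base ⊆
      Set.range (RelProj.domQ u p' chart').ι.base := by
  rintro _ ⟨x, rfl⟩
  obtain ⟨π, a, rfl⟩ := (gcov (RelProj.domQ κ pW chartW) (Xi κ) (jj κ pW chartW)
    (range_jj_subset κ pW chartW) (exists_pair_of_mem κ pW chartW)).exists_eq x
  obtain ⟨lam, h1, -⟩ := lift_pre_r u w hw κ hκ p' chart' pW chartW ρ hρ π
  have : (PW.homOfLE (domQ_pre_le u w hw κ hκ pW chartW) ≫ ρ)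
      (IsOpenImmersion.lift (RelProj.domQ κ pW chartW).ι (jj κ pW chartW π)
          (range_jj_subset κ pW chartW π) a) =
      jj u p' chart' π (lam a) := by
    rw [← Scheme.Hom.comp_apply, h1]
    rfl
  show (PW.homOfLE (domQ_pre_le u w hw κ hκ pW chartW) ≫ ρ)
      (IsOpenImmersion.lift (RelProj.domQ κ pW chartW).ι (jj κ pW chartW π)
          (range_jj_subset κ pW chartW π) a) ∈ _
  rw [this]
  exact range_jj_subset u p' chart' π ⟨lam a, rfl⟩

include hΦ hρ hΦκ in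
theorem functoriality_pre :
    IsOpenImmersion.lift (RelProj.domQ u p' chart').ι
      (PW.homOfLE (domQ_pre_le u w hw κ hκ pW chartW) ≫ ρ)
      (range_pre_subset u w hw κ hκ p' chart' pW chartW ρ hρ) ≫ Φ = Φκ := by
  have hΦκ₂ := (isProjQMapOn_iff κ p chart pW chartW _ (range_jj_subset κ pW chartW) Φκ).mp hΦκ
  have hΦ₂ := (isProjQMapOn_iff u p chart p' chart' _ (range_jj_subset u p' chart') Φ).mp hΦ
  refine hom_ext (RelProj.domQ κ pW chartW) (Xi κ) (jj κ pW chartW)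
    (range_jj_subset κ pW chartW) (exists_pair_of_mem κ pW chartW) fun π => ?_
  obtain ⟨lam, h1, h3⟩ := lift_pre_r u w hw κ hκ p' chart' pW chartW ρ hρ π
  have e2 : IsOpenImmersion.lift (RelProj.domQ κ pW chartW).ι (jj κ pW chartW π)
      (range_jj_subset κ pW chartW π) ≫
      IsOpenImmersion.lift (RelProj.domQ u p' chart').ι
        (PW.homOfLE (domQ_pre_le u w hw κ hκ pW chartW) ≫ ρ)
        (range_pre_subset u w hw κ hκ p' chart' pW chartW ρ hρ) =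
      lam ≫ IsOpenImmersion.lift (RelProj.domQ u p' chart').ι (jj u p' chart' π)
        (range_jj_subset u p' chart' π) := by
    refine (cancel_mono (RelProj.domQ u p' chart').ι).mp ?_
    rw [Category.assoc, IsOpenImmersion.lift_fac, h1, Category.assoc, IsOpenImmersion.lift_fac]
  rw [← Category.assoc, e2, Category.assoc, hΦ₂ π, hΦκ₂ π]
  unfold nn
  rw [← Category.assoc, h3]

include hκ hP' hPW hρ in
theorem mem_domQ_pre
    (x : ((RelProj.domQ (RelProj.QGrHom.ofHom w hw) pW chartW : PW.Opens) : Scheme.{u}))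
    (hx : ρ x ∈ RelProj.domQ u p' chart') :
    (RelProj.domQ (RelProj.QGrHom.ofHom w hw) pW chartW).ι x ∈ RelProj.domQ κ pW chartW := by
  have hρ₂ := (isProjQMapOn_iff (RelProj.QGrHom.ofHom w hw) p' chart' pW chartW _
    (range_jj_subset (RelProj.QGrHom.ofHom w hw) pW chartW) ρ).mp hρ
  have hcomp := comp_eq (RelProj.QGrHom.ofHom w hw) p' chart' pW chartW hP' hPW _ rfl ρ hρ
  obtain ⟨π, y₁, hy₁, hy₁x⟩ := (mem_domQ_iff u p' chart' _).mp hx
  have hxU : pW ((RelProj.domQ (RelProj.QGrHom.ofHom w hw) pW chartW).ι x) ∈ π.U' := by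
    have h1 : pW ((RelProj.domQ (RelProj.QGrHom.ofHom w hw) pW chartW).ι x) = p' (ρ x) := by
      rw [← Scheme.Hom.comp_apply, ← Scheme.Hom.comp_apply, hcomp]
      rfl
    rw [h1, ← hy₁x]
    have : RelProj.emb p' chart' π.U' π.hU' y₁ ∈ Set.range (RelProj.emb p' chart' π.U' π.hU') :=
      ⟨y₁, rfl⟩
    rw [RelCone3.range_emb] at this
    exact this
  have h2 : (RelProj.domQ (RelProj.QGrHom.ofHom w hw) pW chartW).ι x ∈
      RelProj.domQ (RelProj.QGrHom.ofHom w hw) pW chartW ⊓ pW ⁻¹ᵁ π.U' := ⟨x.2, hxU⟩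
  rw [inf_preimage_eq (RelProj.QGrHom.ofHom w hw) p' chart' pW chartW hP' hPW
    (diag π.U' π.hU')] at h2
  obtain ⟨a₁, ha₁, ha₁x⟩ := h2
  have hxa : IsOpenImmersion.lift (RelProj.domQ (RelProj.QGrHom.ofHom w hw) pW chartW).ι
      (jj (RelProj.QGrHom.ofHom w hw) pW chartW (diag π.U' π.hU'))
      (range_jj_subset (RelProj.QGrHom.ofHom w hw) pW chartW (diag π.U' π.hU')) ⟨a₁, ha₁⟩ = x := by
    apply (RelProj.domQ (RelProj.QGrHom.ofHom w hw) pW chartW).ι.isOpenEmbedding.injective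
    rw [← Scheme.Hom.comp_apply, IsOpenImmersion.lift_fac]
    exact ha₁x
  have hρx : ρ x = RelProj.emb p' chart' π.U' π.hU'
      (dmap (gr (RelProj.QGrHom.ofHom w hw) (diag π.U' π.hU')) ⟨a₁, ha₁⟩) := by
    rw [← hxa, ← Scheme.Hom.comp_apply, hρ₂ (diag π.U' π.hU')]
    rfl
  have h3 : y₁ = dmap (gr (RelProj.QGrHom.ofHom w hw) (diag π.U' π.hU')) ⟨a₁, ha₁⟩ :=
    (RelProj.emb p' chart' π.U' π.hU').isOpenEmbedding.injective (hy₁x.trans hρx)
  rw [h3] at hy₁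
  have h4 := (dmap_mem_domOpen_iff (gr (RelProj.QGrHom.ofHom w hw) (diag π.U' π.hU'))
    (gr u π) ⟨a₁, ha₁⟩).mp hy₁
  rw [← hκ π] at h4
  rw [mem_domQ_iff]
  exact ⟨π, _, h4, ha₁x⟩

end Pre

end Groth.Agent.Helper1.ProjQ
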