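import Mathlib
import Groth.Prelude.Def_RelProj4
import Groth.Agent.Lib.Helper1.ProjQ11

/-!
# Target-free versions: `G(u) ∩ p'⁻¹ U' = emb(G(u_{U,U'}))` without a relative Proj of the
target algebra (helper1 library)
-/

universe u

open CategoryTheory CategoryTheory.Limits AlgebraicGeometry TopologicalSpace Opposite
open scoped HomogeneousIdeal
open HomogeneousLocalization

namespace Groth.Agent.Helper1.ProjQ

section RelD
variable {Y Y' P' : Scheme.{u}} {g : Y' ⟶ Y} {𝒮 : RelProj.QCGrAlg Y} {𝒮' : RelProj.QCGrAlg Y'}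
  (u : RelProj.QGrHom g 𝒮 𝒮')
  (p' : P' ⟶ Y')
  (chart' : ∀ (U : Y'.Opens) (hU : IsAffineOpen U),
    (((p' ⁻¹ᵁ U : P'.Opens) : Scheme.{u}) ≅ Proj (𝒮'.deg U hU)))

/-- the pair `k` refines the pair `i` (domains only) -/
def RelD (k i : Pair g) : Prop :=
  ∃ ρ : Xi u k ⟶ Xi u i, ρ ≫ jj u p' chart' i = jj u p' chart' k

theorem RelD.refl (i : Pair g) : RelD u p' chart' i i :=
  ⟨𝟙 _, Category.id_comp _⟩

theorem RelD.trans {k i l : Pair g} (h1 : RelD u p' chart' k i)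
    (h2 : RelD u p' chart' i l) : RelD u p' chart' k l := by
  obtain ⟨ρ, hρ1⟩ := h1
  obtain ⟨ρ', hρ'1⟩ := h2
  exact ⟨ρ ≫ ρ', by rw [Category.assoc, hρ'1, hρ1]⟩

theorem relD_of_eq (k i : Pair g) (h1 : k.U = i.U) (h2 : k.U' = i.U') :
    RelD u p' chart' k i := by
  obtain ⟨U, hU, U', hU', hle⟩ := k
  obtain ⟨V, hV, V', hV', hle'⟩ := i
  simp only at h1 h2
  subst h1 h2
  exact RelD.refl u p' chart' _

variable (hP' : RelProj.IsRelProj 𝒮' p' chart')

include hP' in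
theorem relD_post (π : Pair g) (r' : Γ(Y', π.U')) :
    RelD u p' chart' (π.post r') π := by
  have hmem : Set.range ((RelCone.domOpen (gr u (π.post r'))).ι ≫
      Proj.map (𝒮'.res π.hU' (π.hU'.basicOpen r') (Y'.basicOpen_le r'))
        (𝒮'.irrelevant_le_map π.U' π.hU' r')).base ⊆
      Set.range (RelCone.domOpen (gr u π)).ι.base := by
    rw [Scheme.Opens.range_ι]
    rintro _ ⟨b, rfl⟩
    exact (map_mem_domOpen_iff' (gr u π) _ (𝒮'.irrelevant_le_map π.U' π.hU' r')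
      (gr u (π.post r')) (gr_post u π r') _).mpr b.2
  refine ⟨IsOpenImmersion.lift (RelCone.domOpen (gr u π)).ι _ hmem, ?_⟩
  unfold jj
  rw [← Category.assoc, IsOpenImmersion.lift_fac, Category.assoc]
  congr 1
  exact RelProj.map_res_emb hP' π.U' π.hU' r'

theorem relD_pre (π : Pair g) (r : Γ(Y, π.U)) (h : π.U' ≤ g ⁻¹ᵁ Y.basicOpen r) :
    RelD u p' chart' (π.pre r h) π := by
  obtain ⟨ρ, hρ1, -⟩ := pre_dmap' (gr u (π.pre r h))
    (𝒮.res π.hU (π.hU.basicOpen r) (Y.basicOpen_le r)) (𝒮.irrelevant_le_map π.U π.hU r)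
    (gr u π) (gr_pre u π r h)
  refine ⟨ρ, ?_⟩
  show ρ ≫ (RelCone.domOpen (gr u π)).ι ≫ RelProj.emb p' chart' π.U' π.hU' = _
  rw [reassoc_of% hρ1]
  rfl

include hP' in
theorem chainD (π : Pair g) (a : Xi u π) (π' : Pair g)
    (hx : p' (jj u p' chart' π a) ∈ π'.U') :
    ∃ (k : Pair g) (b : Xi u k), jj u p' chart' k b = jj u p' chart' π a ∧
      RelD u p' chart' k π ∧ RelD u p' chart' k π' := by
  have hyU' := p'_jj_mem u p' chart' π a
  obtain ⟨c₀, c₀', hcc', hy'⟩ := exists_basicOpen_le_affine_inter π.hU' π'.hU' _ ⟨hyU', hx⟩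
  obtain ⟨r, s, hrs, hgy⟩ := exists_basicOpen_le_affine_inter π.hU π'.hU
    (g (p' (jj u p' chart' π a))) ⟨π.hle hyU', π'.hle hx⟩
  have hc : Y'.basicOpen (c₀ * (g.appLE π.U π.U' π.hle).hom r) =
      Y'.basicOpen c₀ ⊓ g ⁻¹ᵁ Y.basicOpen r := by
    rw [Scheme.basicOpen_mul, Scheme.basicOpen_appLE, ← inf_assoc,
      inf_eq_left.mpr (Y'.basicOpen_le c₀)]
  have hc' : Y'.basicOpen (c₀' * (g.appLE π'.U π'.U' π'.hle).hom s) =
      Y'.basicOpen c₀' ⊓ g ⁻¹ᵁ Y.basicOpen s := by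
    rw [Scheme.basicOpen_mul, Scheme.basicOpen_appLE, ← inf_assoc,
      inf_eq_left.mpr (Y'.basicOpen_le c₀')]
  have hle₁ : Y'.basicOpen (c₀ * (g.appLE π.U π.U' π.hle).hom r) ≤ g ⁻¹ᵁ Y.basicOpen r := by
    rw [hc]; exact inf_le_right
  have hle₁' : Y'.basicOpen (c₀' * (g.appLE π'.U π'.U' π'.hle).hom s) ≤
      g ⁻¹ᵁ Y.basicOpen s := by
    rw [hc']; exact inf_le_right
  have hyc : p' (jj u p' chart' π a) ∈
      Y'.basicOpen (c₀ * (g.appLE π.U π.U' π.hle).hom r) := by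
    rw [hc]; exact ⟨hy', hgy⟩
  obtain ⟨b₁, hb₁⟩ := point_post u p' chart' hP' π _ a hyc
  obtain ⟨b₂, hb₂⟩ := point_pre u p' chart' (π.post (c₀ * (g.appLE π.U π.U' π.hle).hom r)) r hle₁ b₁
  refine ⟨(π.post (c₀ * (g.appLE π.U π.U' π.hle).hom r)).pre r hle₁, b₂, hb₂.trans hb₁, ?_, ?_⟩
  · exact (relD_pre u p' chart'
      (π.post (c₀ * (g.appLE π.U π.U' π.hle).hom r)) r hle₁).trans u p' chart'
      (relD_post u p' chart' hP' π _)
  · have h1 : RelD u p' chart'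
        ((π.post (c₀ * (g.appLE π.U π.U' π.hle).hom r)).pre r hle₁)
        ((π'.post (c₀' * (g.appLE π'.U π'.U' π'.hle).hom s)).pre s hle₁') := by
      apply relD_of_eq
      · exact hrs
      · show Y'.basicOpen _ = Y'.basicOpen _
        rw [hc, hc', hcc', hrs]
    exact h1.trans u p' chart'
      ((relD_pre u p' chart'
        (π'.post (c₀' * (g.appLE π'.U π'.U' π'.hle).hom s)) s hle₁').trans u p' chart'
        (relD_post u p' chart' hP' π' _))

include hP' in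
theorem inf_preimage_eq' (π : Pair g) :
    RelProj.domQ u p' chart' ⊓ p' ⁻¹ᵁ π.U' =
      (RelProj.emb p' chart' π.U' π.hU') ''ᵁ RelCone.domOpen (gr u π) := by
  apply le_antisymm
  · rintro x ⟨hx1, hx2⟩
    obtain ⟨π₀, a, rfl⟩ := exists_pair_of_mem u p' chart' x hx1
    obtain ⟨k, b, hb, -, ⟨ρ', h2⟩⟩ := chainD u p' chart' hP' π₀ a π hx2
    refine ⟨(RelCone.domOpen (gr u π)).ι (ρ' b), (ρ' b).2, ?_⟩
    have : jj u p' chart' π (ρ' b) = jj u p' chart' k b := by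
      rw [← h2]; rfl
    exact this.trans hb
  · rintro _ ⟨y, hy, rfl⟩
    refine ⟨?_, ?_⟩
    · have := range_jj_subset u p' chart' π ⟨⟨y, hy⟩, rfl⟩
      rw [Scheme.Opens.range_ι] at this
      exact this
    · exact p'_jj_mem u p' chart' π ⟨y, hy⟩

include hP' in
/-- if `Proj(u)` is everywhere defined, it is so on each affine pair -/
theorem domOpen_eq_top_of_domQ_eq_top (h : RelProj.domQ u p' chart' = ⊤) (π : Pair g) :
    RelCone.domOpen (gr u π) = ⊤ := by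
  refine eq_top_iff.mpr fun y _ => ?_
  have h1 : RelProj.emb p' chart' π.U' π.hU' y ∈ RelProj.domQ u p' chart' ⊓ p' ⁻¹ᵁ π.U' := by
    refine ⟨by rw [h]; trivial, ?_⟩
    have : RelProj.emb p' chart' π.U' π.hU' y ∈ Set.range (RelProj.emb p' chart' π.U' π.hU') :=
      ⟨y, rfl⟩
    rw [RelCone3.range_emb] at this
    exact this
  rw [inf_preimage_eq' u p' chart' hP' π] at h1
  obtain ⟨y₁, hy₁, he⟩ := h1
  have := (RelProj.emb p' chart' π.U' π.hU').isOpenEmbedding.injective he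
  rw [← this]
  exact hy₁

/-- every point of `P'` lies over some affine pair -/
theorem exists_pair_of_point (x : P') :
    ∃ (π : Pair g) (y : Proj (𝒮'.deg π.U' π.hU')), RelProj.emb p' chart' π.U' π.hU' y = x := by
  obtain ⟨U, (hU : IsAffineOpen U), hxU, -⟩ := Opens.isBasis_iff_nbhd.mp Y.isBasis_affineOpens
    (show g (p' x) ∈ (⊤ : Y.Opens) from trivial)
  obtain ⟨U', (hU' : IsAffineOpen U'), hxU', hle⟩ :=
    Opens.isBasis_iff_nbhd.mp Y'.isBasis_affineOpens (show p' x ∈ g ⁻¹ᵁ U from hxU)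
  have hx' : x ∈ Set.range (RelProj.emb p' chart' U' hU') := by
    rw [RelCone3.range_emb]; exact hxU'
  obtain ⟨y, hy⟩ := hx'
  exact ⟨⟨U, hU, U', hU', hle⟩, y, hy⟩

end RelD

section Glob
variable {Y Y' P P' : Scheme.{u}} {g : Y' ⟶ Y} {𝒮 𝒯 : RelProj.QCGrAlg Y}
  {𝒮' : RelProj.QCGrAlg Y'}
  (u : RelProj.QGrHom g 𝒮 𝒮')
  (v : 𝒯.toQCAlg ⟶ 𝒮.toQCAlg) (hv : RelProj.IsGradedHom v)
  (u' : RelProj.QGrHom g 𝒯 𝒮')
  (hu' : ∀ U : Y.Opens, u'.app U = v.hom.app (op U) ≫ u.app U)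
  (p : P ⟶ Y)
  (chart : ∀ (U : Y.Opens) (hU : IsAffineOpen U),
    (((p ⁻¹ᵁ U : P.Opens) : Scheme.{u}) ≅ Proj (𝒮.deg U hU)))
  (p' : P' ⟶ Y')
  (chart' : ∀ (U : Y'.Opens) (hU : IsAffineOpen U),
    (((p' ⁻¹ᵁ U : P'.Opens) : Scheme.{u}) ≅ Proj (𝒮'.deg U hU)))
  (hP : RelProj.IsRelProj 𝒮 p chart)
  (r : ((RelProj.domQ u p' chart' : P'.Opens) : Scheme.{u}) ⟶ P)
  (hr : RelProj.IsProjQMapOn u p chart p' chart' (RelProj.domQ u p' chart') r)

include hv hu' hP hr in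
/-- `mem_domQ_comp` without a relative Proj of `𝒯`. -/
theorem mem_domQ_comp' (x : ((RelProj.domQ u p' chart' : P'.Opens) : Scheme.{u}))
    (hx : r x ∈ RelProj.domQ (RelProj.QGrHom.ofHom v hv) p chart) :
    (RelProj.domQ u p' chart').ι x ∈ RelProj.domQ u' p' chart' := by
  have hr₂ := (isProjQMapOn_iff u p chart p' chart' _ (range_jj_subset u p' chart') r).mp hr
  obtain ⟨π, a, ha⟩ := exists_pair_of_mem u p' chart' _ x.2
  have hxa : IsOpenImmersion.lift (RelProj.domQ u p' chart').ι (jj u p' chart' π)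
      (range_jj_subset u p' chart' π) a = x := by
    apply (RelProj.domQ u p' chart').ι.isOpenEmbedding.injective
    rw [← Scheme.Hom.comp_apply, IsOpenImmersion.lift_fac]
    exact ha
  have hrx : r x = RelProj.emb p chart π.U π.hU (dmap (gr u π) a) := by
    rw [← hxa, ← Scheme.Hom.comp_apply, hr₂ π]
    rfl
  have hmem : r x ∈ RelProj.domQ (RelProj.QGrHom.ofHom v hv) p chart ⊓ p ⁻¹ᵁ π.U := by
    refine ⟨hx, ?_⟩
    have : r x ∈ Set.range (RelProj.emb p chart π.U π.hU) := by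
      rw [hrx]; exact ⟨_, rfl⟩
    rw [RelCone3.range_emb] at this
    exact this
  rw [inf_preimage_eq' (RelProj.QGrHom.ofHom v hv) p chart hP (diag π.U π.hU)] at hmem
  obtain ⟨z, hz, hzr⟩ := hmem
  have hz' : z = dmap (gr u π) a :=
    (RelProj.emb p chart π.U π.hU).isOpenEmbedding.injective (hzr.trans hrx)
  rw [hz'] at hz
  have h1 := (dmap_mem_domOpen_iff (gr u π)
    (gr (RelProj.QGrHom.ofHom v hv) (diag π.U π.hU)) a).mp hz
  rw [← gr_comp_diag u v hv u' hu' π] at h1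
  rw [mem_domQ_iff]
  exact ⟨π, _, h1, ha⟩

end Glob

end Groth.Agent.Helper1.ProjQ
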