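import Mathlib
import Groth.Agent.Lib.Helper1.GenLoc
import Groth.Agent.Lib.Helper1.TwistAmple

set_option autoImplicit false
universe u
open CategoryTheory CategoryTheory.Limits AlgebraicGeometry TopologicalSpace Opposite

namespace Groth.Agent.Helper1.GenLoc

open Groth.Agent.Helper1.QcCech Groth.Agent.Helper1.TwistAmpleOpen Groth.Agent.Helper1
open Groth.Agent.Helper1.TwistTens

variable {X : Scheme.{u}}

/-- the function defined by an endomorphism of the structure sheaf -/
noncomputable def fnO (s : Coh.structureModule X ⟶ Coh.structureModule X) : Γ(X, ⊤) :=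
  s.app ⊤ (1 : Γ(X, ⊤))

theorem good_O_iff (s : Coh.structureModule X ⟶ Coh.structureModule X) (V : X.Opens) :
    Good (Coh.structureModule X) s V ↔ IsUnit (resR (le_top : V ≤ ⊤) (fnO s)) := by
  have h2 : ∀ r : Γ(X, V), s.app V r = r * resR (le_top : V ≤ ⊤) (fnO s) := by
    intro r
    have e1 : (show Γ(Coh.structureModule X, V) from r) =
        r • (show Γ(Coh.structureModule X, V) from (1 : Γ(X, V))) := (mul_one r).symm
    have e2 : s.app V r = r • s.app V (show Γ(Coh.structureModule X, V) from (1 : Γ(X, V))) := by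
      conv_lhs => rw [show r = (show Γ(Coh.structureModule X, V) from r) from rfl, e1]
      exact Scheme.Modules.Hom.app_smul s _ _
    rw [e2]
    congr 1
    have e3 := QcExt.app_res s (le_top : V ≤ ⊤)
      (show Γ(Coh.structureModule X, ⊤) from (1 : Γ(X, ⊤)))
    have e4 : res (Coh.structureModule X) (le_top : V ≤ ⊤)
        (show Γ(Coh.structureModule X, ⊤) from (1 : Γ(X, ⊤))) =
        (show Γ(Coh.structureModule X, V) from (1 : Γ(X, V))) := by
      change (X.presheaf.map _).hom 1 = 1
      exact map_one _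
    rw [e4] at e3
    exact e3
  have h3 : ⇑(ConcreteCategory.hom (s.app V)) =
      (fun a : Γ(X, V) => a * resR (le_top : V ≤ ⊤) (fnO s)) := by
    funext r
    exact h2 r
  rw [Good, h3]
  change Function.Bijective (fun a : Γ(X, V) => a * resR (le_top : V ≤ ⊤) (fnO s)) ↔ _
  exact IsUnit.isUnit_iff_mulRight_bijective.symm

theorem genLocus_O (s : Coh.structureModule X ⟶ Coh.structureModule X) :
    CohB1.genLocus (Coh.structureModule X) s = X.basicOpen (fnO s) := by
  apply le_antisymm
  · intro x hx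
    obtain ⟨W, hxW, hW⟩ := (mem_genLocus_iff _ s x).1 hx
    have := (good_O_iff s W).1 (hW W le_rfl)
    rw [isUnit_res_iff] at this
    exact this hxW
  · apply le_genLocus
    intro V hV
    rw [good_O_iff, isUnit_res_iff]
    exact hV

/-- tensor powers of the structure sheaf are trivial -/
theorem nonempty_tensorPow_O_iso (n : ℕ) :
    Nonempty (CohB1.tensorPow (Coh.structureModule X) n ≅ Coh.structureModule X) := by
  induction n with
  | zero => exact ⟨Iso.refl _⟩
  | succ n ih =>
    obtain ⟨e⟩ := ih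
    obtain ⟨e0⟩ := nonempty_tensorMod_unit_iso (Coh.structureModule X)
    exact ⟨tensorModCongrLeft e (Coh.structureModule X) ≪≫ e0⟩

theorem isQuasiAffine_of_isAmple_O (h : CohB1.IsAmple (Coh.structureModule X)) :
    X.IsQuasiAffine := by
  obtain ⟨-, hc, h⟩ := h
  refine Scheme.IsQuasiAffine.of_forall_exists_mem_basicOpen X fun x => ?_
  obtain ⟨n, s, hx, haff⟩ := h x
  obtain ⟨e⟩ := nonempty_tensorPow_O_iso (X := X) (n + 1)
  rw [← TwistAmple.genLocus_comp_iso s e, genLocus_O] at hx haff
  exact ⟨_, haff, hx⟩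

theorem isInvertible_O : PicF.IsInvertible (Coh.structureModule X) := by
  intro y
  exact ⟨⊤, trivial, ⟨Scheme.Modules.restrictUnitIso _⟩⟩

theorem homOfSec_fnO (f : Γ(X, ⊤)) :
    fnO (TwistAmple.homOfSec (Coh.structureModule X) f) = f := by
  rw [fnO, TwistAmple.homOfSec_app]
  change (1 : Γ(X, ⊤)) * (X.presheaf.map (𝟙 _)).hom f = f
  rw [X.presheaf.map_id, one_mul]
  rfl

theorem isAmple_O_of_isQuasiAffine [X.IsQuasiAffine] : CohB1.IsAmple (Coh.structureModule X) := by
  apply isAmple_of_sections _ isInvertible_O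
  intro x
  obtain ⟨_, ⟨_, ⟨r, hr, rfl⟩, rfl⟩, hxr, -⟩ :=
    (Scheme.IsQuasiAffine.isBasis_basicOpen X).exists_subset_of_mem_open (Set.mem_univ x)
      isOpen_univ
  refine ⟨TwistAmple.homOfSec (Coh.structureModule X) r, ?_, ?_⟩
  · rw [genLocus_O, homOfSec_fnO]; exact hxr
  · rw [genLocus_O, homOfSec_fnO]; exact hr

end Groth.Agent.Helper1.GenLoc
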