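import Mathlib
import Groth.Agent.Lib.Helper1.QCohLib
import Groth.Agent.Lib.Helper1.IdealModL

set_option autoImplicit false
universe u
open CategoryTheory CategoryTheory.Limits AlgebraicGeometry TopologicalSpace Opposite

namespace Groth.Agent.Helper1.InvQc

variable {X : Scheme.{u}}

/-- the tautological presentation of a free module -/
noncomputable def presentationFree (I : Type u) :
    (SheafOfModules.free I : X.Modules).Presentation where
  generators := SheafOfModules.free.generatingSections I
  relations :=
    { I := ULift Empty
      s := fun j => Empty.rec _ j.down
      epi := IsZero.epi (IsZero.of_iso (isZero_zero _) (Limits.kernel.ofMono _)) _ }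

/-- the tautological presentation of the structure sheaf -/
noncomputable def presentationUnit : (Coh.structureModule X).Presentation :=
  (presentationFree PUnit.{u+1}).ofIsIso IdealModL.unitIso.hom

/-- invertible modules are quasi-coherent -/
theorem isQuasicoherent_of_isInvertible (L : X.Modules) (hL : PicF.IsInvertible L) :
    L.IsQuasicoherent := by
  choose U hxU e using hL
  refine QCohLib.isQuasicoherent_of_cover L U ?_ fun x => ?_
  · exact top_le_iff.mp fun x _ => Opens.mem_iSup.mpr ⟨x, hxU x⟩
  · exact ⟨presentationUnit.ofIsIso (e x).some.inv⟩

end Groth.Agent.Helper1.InvQc
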