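import Mathlib
import Groth.Agent.Lib.Helper1.AmpleQA
import Groth.Agent.Lib.Helper1.InvQc
import Groth.Agent.Lib.Helper1.QcsLoc

set_option autoImplicit false
universe u
open CategoryTheory CategoryTheory.Limits AlgebraicGeometry TopologicalSpace Opposite

namespace Groth.Agent.Helper1.GenLoc

open Groth.Agent.Helper1.QcCech Groth.Agent.Helper1.TwistAmpleOpen Groth.Agent.Helper1
open Groth.Agent.Helper1.TwistTens

variable {X : Scheme.{u}} (L : X.Modules)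

/-- semilinearity of a trivialization on global sections of the chart -/
theorem triv_smul (U : X.Opens) (e : L.restrict U.ι ≅ Coh.structureModule (↑U))
    (r : Γ(X, U.ι ''ᵁ ⊤)) (m : Γ(L, U.ι ''ᵁ ⊤)) :
    e.hom.app ⊤ (show Γ(L.restrict U.ι, ⊤) from r • m) =
      ((U.ι.appIso ⊤).hom.hom r : Γ(↑U, ⊤)) *
        (show Γ(↑U, ⊤) from e.hom.app ⊤ (show Γ(L.restrict U.ι, ⊤) from m)) := by
  have e1 : (show Γ(L.restrict U.ι, ⊤) from r • m) =
      ((U.ι.appIso ⊤).hom.hom r : Γ(↑U, ⊤)) • (show Γ(L.restrict U.ι, ⊤) from m) := by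
    change r • m = (U.ι.appIso ⊤).inv.hom ((U.ι.appIso ⊤).hom.hom r) • m
    congr 1
    exact (congr($((U.ι.appIso ⊤).hom_inv_id) r)).symm
  rw [e1]
  exact Scheme.Modules.Hom.app_smul e.hom _ _

theorem fn_homOfSec (τ : Γ(L, ⊤)) (U : X.Opens) (e : L.restrict U.ι ≅ Coh.structureModule (↑U)) :
    fn L (TwistAmple.homOfSec L τ) U e =
      e.hom.app ⊤ (show Γ(L.restrict U.ι, ⊤) from res L (le_top : U.ι ''ᵁ ⊤ ≤ ⊤) τ) := by
  change e.hom.app ⊤ ((TwistAmple.homOfSec L τ).app (U.ι ''ᵁ ⊤) (1 : Γ(X, U.ι ''ᵁ ⊤))) = _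
  rw [TwistAmple.homOfSec_app, one_smul]
  rfl

/-- on a quasi-affine scheme every invertible module is ample -/
theorem isAmple_of_isQuasiAffine [X.IsQuasiAffine] (hL : PicF.IsInvertible L) :
    CohB1.IsAmple L := by
  have hq : L.IsQuasicoherent := InvQc.isQuasicoherent_of_isInvertible L hL
  apply isAmple_of_sections L hL
  intro x
  obtain ⟨V, hV, hxV, -, ⟨e⟩⟩ := exists_affine_trivialization L hL x ⊤ trivial
  obtain ⟨_, ⟨_, ⟨f, hf, rfl⟩, rfl⟩, hxf, hfV⟩ :=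
    (Scheme.IsQuasiAffine.isBasis_basicOpen X).exists_subset_of_mem_open hxV V.isOpen
  obtain ⟨ef⟩ := nonempty_trivialization_of_le L V e (show X.basicOpen f ≤ V from hfV)
  set D : X.Opens := X.basicOpen f with hD
  have htop : D.ι ''ᵁ ⊤ = D := by simp
  -- the generator on `D`
  let σ : Γ(L, D.ι ''ᵁ ⊤) := ef.inv.app ⊤ (1 : Γ(↑D, ⊤))
  have hσ : ef.hom.app ⊤ (show Γ(L.restrict D.ι, ⊤) from σ) = (1 : Γ(↑D, ⊤)) := by
    change (ef.inv.app ⊤ ≫ ef.hom.app ⊤) (show Γ(Coh.structureModule ↑D, ⊤) from (1 : Γ(↑D, ⊤))) = _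
    rw [← Scheme.Modules.Hom.comp_app, ef.inv_hom_id]
    rfl
  -- extend a multiple of the generator
  have hle : (⊤ ⊓ D : X.Opens) ≤ D.ι ''ᵁ ⊤ := by rw [htop]; exact inf_le_right
  have hge : D.ι ''ᵁ ⊤ ≤ (⊤ ⊓ D : X.Opens) := by rw [htop]; exact le_inf le_top le_rfl
  obtain ⟨n, τ, hτ⟩ := QcsLoc.ext_of_isCompact L f ⊤ isQuasiSeparated_univ ⊤ isCompact_univ le_rfl
    le_rfl (res L hle σ)
  have h1 := congrArg (res L hge) hτ
  rw [res_res, res_rsmul, res_res, res_self, rsmul, map_pow] at h1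
  -- the section
  let τ' : Γ(L, ⊤) := f • τ
  refine ⟨TwistAmple.homOfSec L τ', ?_⟩
  -- formula for the function of `τ'` in a chart
  have hfn : ∀ (U : X.Opens) (e' : L.restrict U.ι ≅ Coh.structureModule (↑U)),
      fn L (TwistAmple.homOfSec L τ') U e' =
        ((U.ι.appIso ⊤).hom.hom (resR (le_top : U.ι ''ᵁ ⊤ ≤ ⊤) f) : Γ(↑U, ⊤)) *
          (show Γ(↑U, ⊤) from e'.hom.app ⊤
            (show Γ(L.restrict U.ι, ⊤) from res L (le_top : U.ι ''ᵁ ⊤ ≤ ⊤) τ)) := by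
    intro U e'
    rw [fn_homOfSec]
    have : res L (le_top : U.ι ''ᵁ ⊤ ≤ ⊤) τ' =
        resR (le_top : U.ι ''ᵁ ⊤ ≤ ⊤) f • res L (le_top : U.ι ''ᵁ ⊤ ≤ ⊤) τ := res_smul L _ f τ
    rw [this]
    exact triv_smul L U e' _ _
  have key : CohB1.genLocus L (TwistAmple.homOfSec L τ') = D := by
    apply le_antisymm
    · intro y hy
      obtain ⟨U, hyU, ⟨e'⟩⟩ := hL y
      have h2 : y ∈ CohB1.genLocus L (TwistAmple.homOfSec L τ') ⊓ U := ⟨hy, hyU⟩
      rw [genLocus_inf_eq L _ U e', hfn U e'] at h2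
      obtain ⟨y', hy', rfl⟩ := h2
      rw [SetLike.mem_coe, Scheme.basicOpen_mul] at hy'
      have h3 : U.ι y' ∈ U.ι ''ᵁ ((↑U : Scheme.{u}).basicOpen
          ((U.ι.appIso ⊤).hom.hom (resR (le_top : U.ι ''ᵁ ⊤ ≤ ⊤) f))) := ⟨y', hy'.1, rfl⟩
      rw [Scheme.image_basicOpen] at h3
      have h4 : (U.ι.appIso ⊤).inv.hom ((U.ι.appIso ⊤).hom.hom
          (resR (le_top : U.ι ''ᵁ ⊤ ≤ ⊤) f)) = resR (le_top : U.ι ''ᵁ ⊤ ≤ ⊤) f :=
        congr($((U.ι.appIso ⊤).hom_inv_id) _)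
      rw [h4, resR] at h3
      erw [Scheme.basicOpen_res] at h3
      exact h3.2
    · have h2 := genLocus_inf_eq L (TwistAmple.homOfSec L τ') D ef
      have h3 : fn L (TwistAmple.homOfSec L τ') D ef =
          ((D.ι.appIso ⊤).hom.hom (resR (le_top : D.ι ''ᵁ ⊤ ≤ ⊤) f) : Γ(↑D, ⊤)) ^ (n + 1) := by
        rw [hfn D ef, h1]
        have := triv_smul L D ef (resR (le_top : D.ι ''ᵁ ⊤ ≤ ⊤) f ^ n) σ
        rw [this, hσ, mul_one, map_pow, pow_succ']
      have hu : IsUnit (resR (le_top : D.ι ''ᵁ ⊤ ≤ ⊤) f) := by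
        rw [isUnit_res_iff]
        exact htop.le
      have hu' : IsUnit (fn L (TwistAmple.homOfSec L τ') D ef) := by
        rw [h3]
        exact (hu.map _).pow _
      rw [(↑D : Scheme.{u}).basicOpen_of_isUnit hu', htop] at h2
      rw [← h2]
      exact inf_le_left
  rw [key]
  exact ⟨hxf, hf⟩

end Groth.Agent.Helper1.GenLoc
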