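import Mathlib
import Groth.Agent.Lib.Helper1.TensGen

set_option autoImplicit false
universe u
open CategoryTheory CategoryTheory.Limits AlgebraicGeometry TopologicalSpace Opposite TensorProduct
  MonoidalCategory

namespace Groth.Agent.Helper1.TensGen

open Groth.Agent.Helper1.QcCech Groth.Agent.Helper1.SubSh Groth.Agent.Helper1.LGen
open Groth.Agent.Helper1.TmulLib Groth.Agent.Helper1 Groth.Agent.Helper1.TwistSec

variable {X : Scheme.{u}} (M N : X.Modules)

theorem bijective_tmul_of_gen_left {R A B : Type*} [CommRing R] [AddCommGroup A] [Module R A]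
    [AddCommGroup B] [Module R B] (a : A) (ha : Function.Bijective (fun r : R => r • a)) :
    Function.Bijective (fun b : B => a ⊗ₜ[R] b) := by
  let e : R ≃ₗ[R] A := LinearEquiv.ofBijective (LinearMap.toSpanSingleton R A a) ha
  have he : e 1 = a := by
    change (1 : R) • a = a
    rw [one_smul]
  let E : B ≃ₗ[R] TensorProduct R A B :=
    (TensorProduct.lid R B).symm ≪≫ₗ TensorProduct.congr e (LinearEquiv.refl R B)
  have : (fun b : B => a ⊗ₜ[R] b) = E := by
    funext b
    change _ = TensorProduct.congr e (LinearEquiv.refl R B) ((TensorProduct.lid R B).symm b)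
    rw [TensorProduct.lid_symm_apply, TensorProduct.congr_tmul, he]
    rfl
  rw [this]
  exact E.bijective

theorem bijective_pure_left (W : X.Opens) (σ : Γ(M, W))
    (hσ : Function.Bijective (fun r : Γ(X, W) => r • σ)) :
    Function.Bijective (fun n : Γ(N, W) => pure M N W σ n) :=
  bijective_tmul_of_gen_left (R := (X.sheaf.obj ⋙ forget₂ CommRingCat RingCat.{u}).obj (op W))
    (A := (CohB1.toPMod M).obj (op W)) (B := (CohB1.toPMod N).obj (op W)) σ hσ

variable {M}

theorem injective_tm_of_isGen_left {W : X.Opens} {σ : Γ(M, W)} (hσ : IsGen M W σ) :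
    Function.Injective (fun n : Γ(N, W) => tm M N W σ n) := by
  intro m m' h
  apply eq_of_locally N
  intro x hx
  obtain ⟨V, hV, hxV, hp⟩ := toT_locally_injective M N W (pure M N W σ m) (pure M N W σ m') h x hx
  refine ⟨V, hV, hxV, ?_⟩
  rw [resP_pure, resP_pure] at hp
  exact (bijective_pure_left M N V (res M hV σ) (IsGen.bijective_self (hσ.res hV))).1 hp

theorem bijective_tm_of_isGen_left {W : X.Opens} {σ : Γ(M, W)} (hσ : IsGen M W σ) :
    Function.Bijective (fun n : Γ(N, W) => tm M N W σ n) := by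
  refine ⟨injective_tm_of_isGen_left N hσ, fun t => ?_⟩
  have h1 : ∀ x : W, ∃ (V : X.Opens) (hV : V ≤ W) (m : Γ(N, V)), x.1 ∈ V ∧
      tm M N V (res M hV σ) m = res (CohB1.tensorMod M N) hV t := by
    intro x
    obtain ⟨V, hV, p, hxV, hp⟩ := toT_locally_surjective M N W t x.1 x.2
    obtain ⟨m, hm⟩ := (bijective_pure_left M N V (res M hV σ)
      (IsGen.bijective_self (hσ.res hV))).2 p
    refine ⟨V, hV, m, hxV, ?_⟩
    rw [← hp, ← hm]
    rfl
  choose V hV m hxV hm using h1
  obtain ⟨m₀, hm₀⟩ := glue_of_compatible N V W hV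
    (fun x hx => Opens.mem_iSup.2 ⟨⟨x, hx⟩, hxV ⟨x, hx⟩⟩) m (by
      intro i j
      have hi : V i ⊓ V j ≤ W := inf_le_left.trans (hV i)
      apply injective_tm_of_isGen_left N (hσ.res hi)
      change tm M N _ (res M hi σ) (res N _ (m i)) = tm M N _ (res M hi σ) (res N _ (m j))
      have e1 : res M hi σ = res M (inf_le_left : V i ⊓ V j ≤ V i) (res M (hV i) σ) := by
        rw [res_res]
      have e2 : res M hi σ = res M (inf_le_right : V i ⊓ V j ≤ V j) (res M (hV j) σ) := by
        rw [res_res]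
      conv_lhs => rw [e1]
      conv_rhs => rw [e2]
      rw [← res_tm, ← res_tm, hm, hm, res_res, res_res])
  refine ⟨m₀, ?_⟩
  apply eq_of_locally
  intro x hx
  refine ⟨V ⟨x, hx⟩, hV ⟨x, hx⟩, hxV ⟨x, hx⟩, ?_⟩
  change res _ _ (tm M N W σ m₀) = _
  rw [res_tm, hm₀, hm]

end Groth.Agent.Helper1.TensGen
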