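import Mathlib
import Groth.Agent.Lib.Helper1.TwForm1

set_option autoImplicit false
universe u
open CategoryTheory CategoryTheory.Limits AlgebraicGeometry TopologicalSpace Opposite

namespace Groth.Agent.Helper1.TwForm

open Groth.Agent.Helper1.QcCech Groth.Agent.Helper1.SubSh Groth.Agent.Helper1.LGen
open Groth.Agent.Helper1.TmulLib Groth.Agent.Helper1 Groth.Agent.Helper1.TwistSec
open Groth.Agent.Helper1.TensGen

variable {X : Scheme.{u}}

/-- frames exist locally -/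
def LocFrame (L₁ L₂ : X.Modules) : Prop :=
  ∀ x : X, ∃ W : X.Opens, x ∈ W ∧ Nonempty (Frame L₁ L₂ W)

theorem locFrame_of_isInvertible {L₁ L₂ : X.Modules} (h₁ : PicF.IsInvertible L₁)
    (h₂ : PicF.IsInvertible L₂) : LocFrame L₁ L₂ := by
  intro x
  obtain ⟨W, a, b, hxW, ha, hb⟩ := exists_isGen₂ h₁ h₂ x
  exact ⟨W, hxW, ⟨⟨a, b, ha, hb⟩⟩⟩

namespace Tw

variable {L₁ L₂ F G G' : X.Modules} {d₁ d₂ : ℤ}
variable (T : Tw L₁ L₂ F d₁ d₂ G) (T' : Tw L₁ L₂ F d₁ d₂ G')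

/-- sections agreeing on framed opens are equal -/
theorem eq_of_framed (hloc : LocFrame L₁ L₂) (M : X.Modules) {U : X.Opens} (s t : Γ(M, U))
    (h : ∀ (W : X.Opens) (hW : W ≤ U), Frame L₁ L₂ W → QcCech.res M hW s = QcCech.res M hW t) :
    s = t := by
  apply eq_of_locally
  intro x hx
  obtain ⟨W, hxW, ⟨f⟩⟩ := hloc x
  exact ⟨W ⊓ U, inf_le_right, ⟨hxW, hx⟩, h _ _ (f.res inf_le_left)⟩

theorem exists_glue (hloc : LocFrame L₁ L₂) (U : X.Opens) (g : Γ(G, U)) :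
    ∃ g' : Γ(G', U), ∀ (W : X.Opens) (hW : W ≤ U) (f : Frame L₁ L₂ W),
      QcCech.res G' hW g' = trans T T' W f (QcCech.res G hW g) := by
  have h1 : ∀ x : U, ∃ (W : X.Opens) (_ : W ≤ U), x.1 ∈ W ∧ Nonempty (Frame L₁ L₂ W) := by
    intro x
    obtain ⟨W, hxW, ⟨f⟩⟩ := hloc x.1
    exact ⟨W ⊓ U, inf_le_right, ⟨hxW, x.2⟩, ⟨f.res inf_le_left⟩⟩
  choose W hW hxW hf using h1
  let f := fun x => (hf x).some
  obtain ⟨g', hg'⟩ := glue_of_compatible G' W U hW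
    (fun x hx => Opens.mem_iSup.2 ⟨⟨x, hx⟩, hxW ⟨x, hx⟩⟩)
    (fun x => trans T T' (W x) (f x) (QcCech.res G (hW x) g)) (by
      intro i j
      rw [trans_res, trans_res, QcCech.res_res, QcCech.res_res]
      exact trans_indep T T' _ _ _ _)
  refine ⟨g', fun W' hW' f' => ?_⟩
  apply eq_of_locally
  intro x hx
  have hxU : x ∈ U := hW' hx
  refine ⟨W' ⊓ W ⟨x, hxU⟩, inf_le_left, ⟨hx, hxW ⟨x, hxU⟩⟩, ?_⟩
  rw [trans_res, QcCech.res_res, QcCech.res_res]
  have e1 : QcCech.res G' (inf_le_left.trans hW' : W' ⊓ W ⟨x, hxU⟩ ≤ U) g' =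
      QcCech.res G' (inf_le_right : W' ⊓ W ⟨x, hxU⟩ ≤ W ⟨x, hxU⟩)
        (QcCech.res G' (hW ⟨x, hxU⟩) g') := by
    rw [QcCech.res_res]
  rw [e1, hg', trans_res, QcCech.res_res]
  exact trans_indep T T' _ _ _ _

/-- the comparison map on sections -/
noncomputable def Φ (hloc : LocFrame L₁ L₂) (U : X.Opens) (g : Γ(G, U)) : Γ(G', U) :=
  (exists_glue T T' hloc U g).choose

theorem Φ_spec (hloc : LocFrame L₁ L₂) (U : X.Opens) (g : Γ(G, U)) (W : X.Opens) (hW : W ≤ U)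
    (f : Frame L₁ L₂ W) :
    QcCech.res G' hW (Φ T T' hloc U g) = trans T T' W f (QcCech.res G hW g) :=
  (exists_glue T T' hloc U g).choose_spec W hW f

theorem Φ_add (hloc : LocFrame L₁ L₂) (U : X.Opens) (g g' : Γ(G, U)) :
    Φ T T' hloc U (g + g') = Φ T T' hloc U g + Φ T T' hloc U g' := by
  apply eq_of_framed hloc
  intro W hW f
  rw [map_add, Φ_spec T T' hloc U _ W hW f, Φ_spec T T' hloc U _ W hW f,
    Φ_spec T T' hloc U _ W hW f, map_add, trans_add]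

theorem Φ_smul (hloc : LocFrame L₁ L₂) (U : X.Opens) (r : Γ(X, U)) (g : Γ(G, U)) :
    Φ T T' hloc U (r • g) = r • Φ T T' hloc U g := by
  apply eq_of_framed hloc
  intro W hW f
  rw [QcCech.res_smul, Φ_spec T T' hloc U _ W hW f, Φ_spec T T' hloc U _ W hW f,
    QcCech.res_smul, trans_smul]

theorem Φ_res (hloc : LocFrame L₁ L₂) (U V : X.Opens) (h : V ≤ U) (g : Γ(G, U)) :
    QcCech.res G' h (Φ T T' hloc U g) = Φ T T' hloc V (QcCech.res G h g) := by
  apply eq_of_framed hloc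
  intro W hW f
  rw [QcCech.res_res, Φ_spec T T' hloc U _ W (hW.trans h) f, Φ_spec T T' hloc V _ W hW f,
    QcCech.res_res]

theorem Φ_Φ (hloc : LocFrame L₁ L₂) (U : X.Opens) (g : Γ(G', U)) :
    Φ T T' hloc U (Φ T' T hloc U g) = g := by
  apply eq_of_framed hloc
  intro W hW f
  rw [Φ_spec T T' hloc U _ W hW f, Φ_spec T' T hloc U _ W hW f, trans_trans]

theorem Φ_θ (hloc : LocFrame L₁ L₂) (W : X.Opens) (f : Frame L₁ L₂ W) (m : Γ(F, W)) :
    Φ T T' hloc W (T.θ W f m) = T'.θ W f m := by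
  have := Φ_spec T T' hloc W (T.θ W f m) W le_rfl f
  rwa [QcCech.res_self, QcCech.res_self, trans_θ] at this

/-- the comparison morphism -/
noncomputable def hom (hloc : LocFrame L₁ L₂) : G ⟶ G' :=
  homMk G G' (Φ T T' hloc) (Φ_add T T' hloc) (Φ_smul T T' hloc) (Φ_res T T' hloc)

theorem hom_app (hloc : LocFrame L₁ L₂) (U : X.Opens) (g : Γ(G, U)) :
    (hom T T' hloc).app U g = Φ T T' hloc U g := rfl

instance (hloc : LocFrame L₁ L₂) : IsIso (hom T T' hloc) := by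
  apply isIso_of_app_bijective
  intro U
  refine ⟨fun g g' h => ?_, fun g => ⟨Φ T' T hloc U g, Φ_Φ T T' hloc U g⟩⟩
  have h' : Φ T T' hloc U g = Φ T T' hloc U g' := h
  have := congrArg (Φ T' T hloc U) h'
  rwa [Φ_Φ, Φ_Φ] at this

/-- **two forms of the same type are canonically isomorphic** -/
noncomputable def iso (hloc : LocFrame L₁ L₂) : G ≅ G' := asIso (hom T T' hloc)

theorem iso_hom_θ (hloc : LocFrame L₁ L₂) (W : X.Opens) (f : Frame L₁ L₂ W) (m : Γ(F, W)) :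
    (iso T T' hloc).hom.app W (T.θ W f m) = T'.θ W f m :=
  Φ_θ T T' hloc W f m

end Tw

end Groth.Agent.Helper1.TwForm
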