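import Mathlib
import Groth.Agent.Lib.Helper1.TwForm2
import Groth.Agent.Lib.Helper1.TensGenL

set_option autoImplicit false
universe u
open CategoryTheory CategoryTheory.Limits AlgebraicGeometry TopologicalSpace Opposite

namespace Groth.Agent.Helper1.TwForm

open Groth.Agent.Helper1.QcCech Groth.Agent.Helper1.SubSh Groth.Agent.Helper1.LGen
open Groth.Agent.Helper1.TmulLib Groth.Agent.Helper1 Groth.Agent.Helper1.TwistSec
open Groth.Agent.Helper1.TensGen

variable {X : Scheme.{u}}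

/-- the unit section of the structure sheaf -/
noncomputable def one' (W : X.Opens) : Γ(Coh.structureModule X, W) := (1 : Γ(X, W))

theorem res_one' {W V : X.Opens} (h : V ≤ W) :
    QcCech.res (Coh.structureModule X) h (one' W) = one' V :=
  map_one (resR h)

theorem smul_one' (W : X.Opens) (r : Γ(X, W)) :
    r • one' W = (show Γ(Coh.structureModule X, W) from r) := by
  change r * 1 = r
  rw [mul_one]

namespace Tw

variable {L₁ L₂ F G G' A : X.Modules} {d₁ d₂ e₁ e₂ : ℤ}

/-- change of the degrees along equalities -/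
def cast (T : Tw L₁ L₂ F d₁ d₂ G) {d₁' d₂' : ℤ} (h₁ : d₁ = d₁') (h₂ : d₂ = d₂') :
    Tw L₁ L₂ F d₁' d₂' G where
  θ := T.θ
  bij := T.bij
  add := T.add
  smul := T.smul
  res := T.res
  unit₁ := by subst h₁; exact T.unit₁
  unit₂ := by subst h₂; exact T.unit₂

/-- `F` is a form of itself -/
noncomputable def self (L₁ L₂ F : X.Modules) : Tw L₁ L₂ F 0 0 F where
  θ _ _ m := m
  bij _ _ := Function.bijective_id
  add _ _ _ _ := rfl
  smul _ _ _ _ := rfl
  res _ _ _ _ _ := rfl
  unit₁ W f u m := by rw [zpow_zero, Units.val_one, one_smul]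
  unit₂ W f u m := by rw [zpow_zero, Units.val_one, one_smul]

/-- the generator of a form of `O` attached to a frame -/
noncomputable def gen (S : Tw L₁ L₂ (Coh.structureModule X) e₁ e₂ A) (W : X.Opens)
    (f : Frame L₁ L₂ W) : Γ(A, W) := S.θ W f (one' W)

theorem θ_eq_smul_gen (S : Tw L₁ L₂ (Coh.structureModule X) e₁ e₂ A) (W : X.Opens)
    (f : Frame L₁ L₂ W) (r : Γ(X, W)) :
    S.θ W f (show Γ(Coh.structureModule X, W) from r) = r • S.gen W f := by
  rw [gen, ← S.smul, smul_one']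

theorem res_gen (S : Tw L₁ L₂ (Coh.structureModule X) e₁ e₂ A) {W V : X.Opens} (h : V ≤ W)
    (f : Frame L₁ L₂ W) : QcCech.res A h (S.gen W f) = S.gen V (f.res h) := by
  rw [gen, S.res, res_one']
  rfl

theorem isGen_gen (S : Tw L₁ L₂ (Coh.structureModule X) e₁ e₂ A) (W : X.Opens)
    (f : Frame L₁ L₂ W) : IsGen A W (S.gen W f) := by
  intro V hV
  have : (fun r : Γ(X, V) => r • QcCech.res A hV (S.gen W f)) =
      (fun r : Γ(X, V) => S.θ V (f.res hV) (show Γ(Coh.structureModule X, V) from r)) := by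
    funext r
    rw [res_gen, θ_eq_smul_gen]
  rw [this]
  exact S.bij V (f.res hV)

theorem gen_smul₁ (S : Tw L₁ L₂ (Coh.structureModule X) e₁ e₂ A) (W : X.Opens)
    (f : Frame L₁ L₂ W) (u : (Γ(X, W))ˣ) :
    S.gen W (f.smul₁ u) = ((u ^ e₁ : (Γ(X, W))ˣ) : Γ(X, W)) • S.gen W f := S.unit₁ W f u _

theorem gen_smul₂ (S : Tw L₁ L₂ (Coh.structureModule X) e₁ e₂ A) (W : X.Opens)
    (f : Frame L₁ L₂ W) (u : (Γ(X, W))ˣ) :
    S.gen W (f.smul₂ u) = ((u ^ e₂ : (Γ(X, W))ˣ) : Γ(X, W)) • S.gen W f := S.unit₂ W f u _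

/-- `L₁` is a form of `O` of degree `(1, 0)` -/
noncomputable def fst (L₁ L₂ : X.Modules) : Tw L₁ L₂ (Coh.structureModule X) 1 0 L₁ where
  θ W f r := (show Γ(X, W) from r) • f.a₁
  bij W f := IsGen.bijective_self f.h₁
  add W f m m' := add_smul (R := Γ(X, W)) _ _ _
  smul W f r m := mul_smul (α := Γ(X, W)) _ _ _
  res W V h f m := QcCech.res_smul _ _ _ _
  unit₁ W f u m := by
    rw [zpow_one]
    exact smul_comm (M := Γ(X, W)) (N := Γ(X, W)) _ _ _
  unit₂ W f u m := by
    rw [zpow_zero, Units.val_one, one_smul]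
    rfl

/-- `L₂` is a form of `O` of degree `(0, 1)` -/
noncomputable def snd (L₁ L₂ : X.Modules) : Tw L₁ L₂ (Coh.structureModule X) 0 1 L₂ where
  θ W f r := (show Γ(X, W) from r) • f.a₂
  bij W f := IsGen.bijective_self f.h₂
  add W f m m' := add_smul (R := Γ(X, W)) _ _ _
  smul W f r m := mul_smul (α := Γ(X, W)) _ _ _
  res W V h f m := QcCech.res_smul _ _ _ _
  unit₁ W f u m := by
    rw [zpow_zero, Units.val_one, one_smul]
    rfl
  unit₂ W f u m := by
    rw [zpow_one]
    exact smul_comm (M := Γ(X, W)) (N := Γ(X, W)) _ _ _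

theorem gen_fst (W : X.Opens) (f : Frame L₁ L₂ W) : (fst L₁ L₂).gen W f = f.a₁ :=
  one_smul _ _

theorem gen_snd (W : X.Opens) (f : Frame L₁ L₂ W) : (snd L₁ L₂).gen W f = f.a₂ :=
  one_smul _ _

/-- tensoring a form of `F` on the right with a form of `O` -/
noncomputable def tensorR (T : Tw L₁ L₂ F d₁ d₂ G) (S : Tw L₁ L₂ (Coh.structureModule X) e₁ e₂ A) :
    Tw L₁ L₂ F (d₁ + e₁) (d₂ + e₂) (CohB1.tensorMod G A) where
  θ W f m := tm G A W (T.θ W f m) (S.gen W f)
  bij W f := (bijective_tm_of_isGen G (S.isGen_gen W f)).comp (T.bij W f)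
  add W f m m' := by rw [T.add, tm_add_left]
  smul W f r m := by rw [T.smul, tm_smul_left]
  res W V h f m := by rw [res_tm, T.res, res_gen]
  unit₁ W f u m := by
    rw [T.unit₁, gen_smul₁, tm_smul_left, tm_smul_right, smul_smul, zpow_add, Units.val_mul,
      mul_comm]
  unit₂ W f u m := by
    rw [T.unit₂, gen_smul₂, tm_smul_left, tm_smul_right, smul_smul, zpow_add, Units.val_mul,
      mul_comm]

/-- tensoring a form of `F` on the left with a form of `O` -/
noncomputable def tensorL (S : Tw L₁ L₂ (Coh.structureModule X) e₁ e₂ A) (T : Tw L₁ L₂ F d₁ d₂ G) :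
    Tw L₁ L₂ F (e₁ + d₁) (e₂ + d₂) (CohB1.tensorMod A G) where
  θ W f m := tm A G W (S.gen W f) (T.θ W f m)
  bij W f := (bijective_tm_of_isGen_left G (S.isGen_gen W f)).comp (T.bij W f)
  add W f m m' := by rw [T.add, tm_add_right]
  smul W f r m := by rw [T.smul, tm_smul_right]
  res W V h f m := by rw [res_tm, T.res, res_gen]
  unit₁ W f u m := by
    rw [T.unit₁, gen_smul₁, tm_smul_left, tm_smul_right, smul_smul, zpow_add, Units.val_mul]
  unit₂ W f u m := by
    rw [T.unit₂, gen_smul₂, tm_smul_left, tm_smul_right, smul_smul, zpow_add, Units.val_mul]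

/-- tensor powers of a form of `O` -/
noncomputable def pow (S : Tw L₁ L₂ (Coh.structureModule X) e₁ e₂ A) :
    (n : ℕ) → Tw L₁ L₂ (Coh.structureModule X) (e₁ * n) (e₂ * n) (CohB1.tensorPow A n)
  | 0 => (self L₁ L₂ (Coh.structureModule X)).cast (by simp) (by simp)
  | n + 1 => ((pow S n).tensorR S).cast (by push_cast; ring) (by push_cast; ring)

theorem gen_pow (S : Tw L₁ L₂ (Coh.structureModule X) e₁ e₂ A) (n : ℕ) (W : X.Opens)
    (f : Frame L₁ L₂ W) : (S.pow n).gen W f = gpow (S.gen W f) n := by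
  induction n with
  | zero => rfl
  | succ n ih =>
    change tm _ _ W ((S.pow n).θ W f (one' W)) (S.gen W f) = _
    rw [gpow_succ, ← ih]
    rfl

/-- transport of a form along an isomorphism -/
noncomputable def ofIso (T : Tw L₁ L₂ F d₁ d₂ G) (e : G ≅ G') : Tw L₁ L₂ F d₁ d₂ G' where
  θ W f m := e.hom.app W (T.θ W f m)
  bij W f := by
    have : IsIso (e.hom.app W) := inferInstance
    exact ((ConcreteCategory.isIso_iff_bijective _).1 this).comp (T.bij W f)
  add W f m m' := by rw [T.add, map_add]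
  smul W f r m := by rw [T.smul, Scheme.Modules.Hom.app_smul]
  res W V h f m := by rw [← T.res, QcExt.app_res]
  unit₁ W f u m := by rw [T.unit₁, Scheme.Modules.Hom.app_smul]
  unit₂ W f u m := by rw [T.unit₂, Scheme.Modules.Hom.app_smul]

/-- exchanging the roles of the two modules -/
noncomputable def swap (T : Tw L₁ L₂ F d₁ d₂ G) : Tw L₂ L₁ F d₂ d₁ G where
  θ W f m := T.θ W ⟨f.a₂, f.a₁, f.h₂, f.h₁⟩ m
  bij W f := T.bij W _
  add W f := T.add W _
  smul W f := T.smul W _
  res W V h f := T.res W V h _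
  unit₁ W f := T.unit₂ W ⟨f.a₂, f.a₁, f.h₂, f.h₁⟩
  unit₂ W f := T.unit₁ W ⟨f.a₂, f.a₁, f.h₂, f.h₁⟩

end Tw

end Groth.Agent.Helper1.TwForm
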