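import Mathlib
import Groth.Agent.Lib.Helper1.TwForm3
import Groth.Agent.Lib.Helper1.AmpleQA2

set_option autoImplicit false
universe u
open CategoryTheory CategoryTheory.Limits AlgebraicGeometry TopologicalSpace Opposite

namespace Groth.Agent.Helper1.TwForm

open Groth.Agent.Helper1.QcCech Groth.Agent.Helper1.SubSh Groth.Agent.Helper1.LGen
open Groth.Agent.Helper1.TmulLib Groth.Agent.Helper1 Groth.Agent.Helper1.TwistSec
open Groth.Agent.Helper1.TensGen

variable {X : Scheme.{u}}

/-- a free generator gives a trivialization -/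
theorem nonempty_trivialization_of_isGen {A : X.Modules} {W : X.Opens} {σ : Γ(A, W)}
    (hσ : IsGen A W σ) :
    Nonempty (A.restrict W.ι ≅ Coh.structureModule (↑W : Scheme.{u})) := by
  have htop : W.ι ''ᵁ ⊤ ≤ W := W.ι_image_le ⊤
  let σ' : Γ(A.restrict W.ι, ⊤) := QcCech.res A htop σ
  let φ := TwistAmple.homOfSec (A.restrict W.ι) σ'
  have : IsIso φ := by
    apply isIso_of_app_bijective
    intro V
    have hV : W.ι ''ᵁ V ≤ W := W.ι_image_le V
    have hb2 : Function.Bijective ((W.ι.appIso V).inv.hom) :=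
      (ConcreteCategory.isIso_iff_bijective (W.ι.appIso V).inv).1 inferInstance
    have key : ∀ r : Γ(↑W, V), φ.app V (show Γ(Coh.structureModule (↑W : Scheme.{u}), V) from r) =
        (show Γ(A.restrict W.ι, V) from ((W.ι.appIso V).inv.hom r • QcCech.res A hV σ)) := by
      intro r
      have h1 : φ.app V (show Γ(Coh.structureModule (↑W : Scheme.{u}), V) from r) =
          r • QcCech.res (A.restrict W.ι) (le_top : V ≤ ⊤) σ' :=
        TwistAmple.homOfSec_app (A.restrict W.ι) σ' V r
      rw [h1, smul_restrict, res_restrict]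
      change (show Γ(A.restrict W.ι, V) from ((W.ι.appIso V).inv.hom r •
        QcCech.res A _ (QcCech.res A htop σ))) = _
      rw [QcCech.res_res]
      rfl
    have : (fun r => φ.app V r) =
        (fun r' : Γ(X, W.ι ''ᵁ V) => (show Γ(A.restrict W.ι, V) from r' • QcCech.res A hV σ)) ∘
          (fun r : Γ(↑W, V) => (W.ι.appIso V).inv.hom r) := by
      funext r
      exact key r
    change Function.Bijective (fun r => φ.app V r)
    rw [this]
    exact (hσ _ hV).comp hb2
  exact ⟨(asIso φ).symm⟩

/-- a module with local free generators is invertible -/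
theorem isInvertible_of_locGen {A : X.Modules}
    (h : ∀ x : X, ∃ (W : X.Opens) (a : Γ(A, W)), x ∈ W ∧ IsGen A W a) : PicF.IsInvertible A := by
  intro x
  obtain ⟨W, a, hxW, ha⟩ := h x
  exact ⟨W, hxW, nonempty_trivialization_of_isGen ha⟩

theorem Tw.isInvertible {L₁ L₂ A : X.Modules} {e₁ e₂ : ℤ}
    (S : Tw L₁ L₂ (Coh.structureModule X) e₁ e₂ A) (hloc : LocFrame L₁ L₂) :
    PicF.IsInvertible A := by
  apply isInvertible_of_locGen
  intro x
  obtain ⟨W, hxW, ⟨f⟩⟩ := hloc x
  exact ⟨W, S.gen W f, hxW, S.isGen_gen W f⟩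

theorem isInvertible_tensorMod {L L' : X.Modules} (hL : PicF.IsInvertible L)
    (hL' : PicF.IsInvertible L') : PicF.IsInvertible (CohB1.tensorMod L L') :=
  ((Tw.fst L L').tensorR (Tw.snd L L')).isInvertible (locFrame_of_isInvertible hL hL')

theorem isInvertible_tensorPow {L : X.Modules} (hL : PicF.IsInvertible L) (n : ℕ) :
    PicF.IsInvertible (CohB1.tensorPow L n) :=
  ((Tw.fst L L).pow n).isInvertible (locFrame_of_isInvertible hL hL)

end Groth.Agent.Helper1.TwForm
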