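import Mathlib
import Groth.Agent.Lib.Helper1.TwForm4

set_option autoImplicit false
universe u
open CategoryTheory CategoryTheory.Limits AlgebraicGeometry TopologicalSpace Opposite

namespace Groth.Agent.Helper1.AmpleLib

open Groth.Agent.Helper1.QcCech Groth.Agent.Helper1.SubSh Groth.Agent.Helper1.LGen
open Groth.Agent.Helper1.TmulLib Groth.Agent.Helper1 Groth.Agent.Helper1.TwistSec
open Groth.Agent.Helper1.TensGen Groth.Agent.Helper1.TwForm

variable {X : Scheme.{u}}

/-- bijectivity on sections is local -/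
theorem good_of_locally {L : X.Modules} (s : Coh.structureModule X ⟶ L) (V : X.Opens)
    (h : ∀ x ∈ V, ∃ W : X.Opens, x ∈ W ∧ ∀ V' : X.Opens, V' ≤ W → GenLoc.Good L s V') :
    GenLoc.Good L s V := by
  have h' : ∀ x : V, ∃ (W : X.Opens) (_ : W ≤ V), x.1 ∈ W ∧
      ∀ V' : X.Opens, V' ≤ W → GenLoc.Good L s V' := by
    intro x
    obtain ⟨W, hxW, hW⟩ := h x.1 x.2
    exact ⟨W ⊓ V, inf_le_right, ⟨hxW, x.2⟩, fun V' hV' => hW V' (hV'.trans inf_le_left)⟩
  choose W hWV hxW hW using h'
  have hinj : ∀ V' : X.Opens, (∀ y ∈ V', ∃ x : V, y ∈ W x) →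
      Function.Injective (Scheme.Modules.Hom.app s V') := by
    intro V' hV' r r' hrr
    apply eq_of_locally (Coh.structureModule X)
    intro y hy
    obtain ⟨x, hyx⟩ := hV' y hy
    refine ⟨V' ⊓ W x, inf_le_left, ⟨hy, hyx⟩, ?_⟩
    apply (hW x _ inf_le_right).1
    rw [QcExt.app_res, QcExt.app_res, hrr]
  refine ⟨hinj V fun y hy => ⟨⟨y, hy⟩, hxW ⟨y, hy⟩⟩, fun t => ?_⟩
  have h2 : ∀ x : V, ∃ r : Γ(Coh.structureModule X, W x),
      Scheme.Modules.Hom.app s (W x) r = QcCech.res L (hWV x) t :=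
    fun x => (hW x _ le_rfl).2 _
  choose r hr using h2
  obtain ⟨r₀, hr₀⟩ := glue_of_compatible (Coh.structureModule X) W V hWV
    (fun y hy => Opens.mem_iSup.2 ⟨⟨y, hy⟩, hxW ⟨y, hy⟩⟩) r (by
      intro i j
      apply (hW i _ inf_le_left).1
      rw [QcExt.app_res, QcExt.app_res, hr, hr, QcCech.res_res, QcCech.res_res])
  refine ⟨r₀, ?_⟩
  apply eq_of_locally L
  intro y hy
  refine ⟨W ⟨y, hy⟩, hWV ⟨y, hy⟩, hxW ⟨y, hy⟩, ?_⟩
  rw [← QcExt.app_res, hr₀, hr]

theorem good_of_le_genLocus {L : X.Modules} (s : Coh.structureModule X ⟶ L) (V : X.Opens)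
    (hV : V ≤ CohB1.genLocus L s) : GenLoc.Good L s V :=
  good_of_locally s V fun x hx => (GenLoc.mem_genLocus_iff L s x).1 (hV hx)

/-- a section generates freely on its locus of generation -/
theorem isGen_secVal {L : X.Modules} (s : Coh.structureModule X ⟶ L) {W : X.Opens}
    (hW : W ≤ CohB1.genLocus L s) : IsGen L W (secVal s W) := by
  intro V hV
  have h1 := good_of_le_genLocus s V (hV.trans hW)
  have : (fun r : Γ(X, V) => r • QcCech.res L hV (secVal s W)) =
      (fun r : Γ(X, V) => Scheme.Modules.Hom.app s V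
        (show Γ(Coh.structureModule X, V) from r)) := by
    funext r
    rw [res_secVal, app_eq_smul]
  rw [this]
  exact h1

/-- conversely, where the section is a free generator it lies in the locus -/
theorem le_genLocus_of_isGen {L : X.Modules} (s : Coh.structureModule X ⟶ L) {W : X.Opens}
    (hW : IsGen L W (secVal s W)) : W ≤ CohB1.genLocus L s := by
  apply GenLoc.le_genLocus
  intro V hV
  have h1 := hW V hV
  have : (fun r : Γ(X, V) => r • QcCech.res L hV (secVal s W)) =
      (fun r : Γ(X, V) => Scheme.Modules.Hom.app s V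
        (show Γ(Coh.structureModule X, V) from r)) := by
    funext r
    rw [res_secVal, app_eq_smul]
  rw [this] at h1
  exact h1

theorem genLocus_id : CohB1.genLocus (Coh.structureModule X) (𝟙 _) = ⊤ := by
  apply le_antisymm le_top
  apply GenLoc.le_genLocus
  intro V _
  exact Function.bijective_id

theorem genLocus_powHom {A : X.Modules} (hA : PicF.IsInvertible A)
    (s : Coh.structureModule X ⟶ A) (n : ℕ) :
    CohB1.genLocus (CohB1.tensorPow A (n + 1)) (SecTwist.powHom s (n + 1)) =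
      CohB1.genLocus A s := by
  induction n with
  | zero =>
    change CohB1.genLocus (CohB1.tensorMod (Coh.structureModule X) A)
      (SecTwist.tmulHom (𝟙 _) s) = _
    rw [genLocus_tmulHom GenLoc.isInvertible_O hA, genLocus_id, top_inf_eq]
  | succ n ih =>
    change CohB1.genLocus (CohB1.tensorMod (CohB1.tensorPow A (n + 1)) A)
      (SecTwist.tmulHom (SecTwist.powHom s (n + 1)) s) = _
    rw [genLocus_tmulHom (isInvertible_tensorPow hA (n + 1)) hA, ih, inf_idem]

/-- a scheme covered by affine opens whose inclusions are affine morphisms is quasi-separated -/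
theorem quasiSeparatedSpace_of_affine_cover
    (h : ∀ x : X, ∃ U : X.Opens, x ∈ U ∧ IsAffineOpen U ∧ IsAffineHom U.ι) :
    QuasiSeparatedSpace X := by
  rw [quasiSeparatedSpace_iff_forall_affineOpens]
  intro U V
  -- `U ∩ V` is covered by the compact sets `(U ∩ Wₓ) ∩ (V ∩ Wₓ)`
  choose W hxW hWaff hWι using h
  have hU : IsCompact (U.1 : Set X) := U.2.isCompact
  have key : ∀ x : X, IsCompact ((U.1 ⊓ W x : X.Opens) ∩ (V.1 ⊓ W x : X.Opens) : Set X) := by
    intro x
    have hUW : IsAffineOpen (U.1 ⊓ W x) := by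
      have := hWι x
      have h1 : IsAffineOpen ((W x).ι ⁻¹ᵁ U.1) := U.2.preimage (W x).ι
      have h2 := h1.image_of_isOpenImmersion (W x).ι
      rwa [Scheme.Hom.image_preimage_eq_opensRange_inf, Scheme.Opens.opensRange_ι,
        inf_comm] at h2
    have hVW : IsAffineOpen (V.1 ⊓ W x) := by
      have := hWι x
      have h1 : IsAffineOpen ((W x).ι ⁻¹ᵁ V.1) := V.2.preimage (W x).ι
      have h2 := h1.image_of_isOpenImmersion (W x).ι
      rwa [Scheme.Hom.image_preimage_eq_opensRange_inf, Scheme.Opens.opensRange_ι,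
        inf_comm] at h2
    exact (hWaff x).isQuasiSeparated _ _ (fun y hy => hy.2) (U.1 ⊓ W x).isOpen hUW.isCompact
      (fun y hy => hy.2) (V.1 ⊓ W x).isOpen hVW.isCompact
  -- finitely many `W x` cover `U`
  obtain ⟨S, hS⟩ := hU.elim_finite_subcover (fun x => ((W x : X.Opens) : Set X))
    (fun x => (W x).isOpen) (fun x _ => Set.mem_iUnion.2 ⟨x, hxW x⟩)
  have : (U.1 : Set X) ∩ (V.1 : Set X) =
      ⋃ x ∈ S, ((U.1 ⊓ W x : X.Opens) ∩ (V.1 ⊓ W x : X.Opens) : Set X) := by
    ext y
    simp only [Set.mem_inter_iff, Set.mem_iUnion, SetLike.mem_coe, Opens.coe_inf, exists_prop]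
    constructor
    · rintro ⟨hyU, hyV⟩
      have := hS hyU
      simp only [Set.mem_iUnion, SetLike.mem_coe, exists_prop] at this
      obtain ⟨x, hxS, hyx⟩ := this
      exact ⟨x, hxS, ⟨hyU, hyx⟩, ⟨hyV, hyx⟩⟩
    · rintro ⟨x, -, ⟨hyU, -⟩, ⟨hyV, -⟩⟩
      exact ⟨hyU, hyV⟩
  rw [this]
  exact S.isCompact_biUnion fun x _ => key x

/-- the locus of generation of a section of an invertible module meets affine opens in affine
opens -/
theorem isAffineOpen_genLocus_inf {L : X.Modules} (hL : PicF.IsInvertible L)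
    (s : Coh.structureModule X ⟶ L) {V : X.Opens} (hV : IsAffineOpen V) :
    IsAffineOpen (CohB1.genLocus L s ⊓ V) := by
  have := GenLoc.isAffineHom_genLocus_ι L s hL
  have h1 : IsAffineOpen ((CohB1.genLocus L s).ι ⁻¹ᵁ V) := hV.preimage (CohB1.genLocus L s).ι
  have h2 := h1.image_of_isOpenImmersion (CohB1.genLocus L s).ι
  rwa [Scheme.Hom.image_preimage_eq_opensRange_inf, Scheme.Opens.opensRange_ι] at h2

theorem isAffineOpen_genLocus_of_le {L : X.Modules} (hL : PicF.IsInvertible L)
    (s : Coh.structureModule X ⟶ L) {V : X.Opens} (hV : IsAffineOpen V)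
    (h : CohB1.genLocus L s ≤ V) : IsAffineOpen (CohB1.genLocus L s) := by
  have := isAffineOpen_genLocus_inf hL s hV
  rwa [inf_eq_left.mpr h] at this

end Groth.Agent.Helper1.AmpleLib
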