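import Mathlib
import Groth.Agent.Lib.Helper1.TwistSec

set_option autoImplicit false
universe u
open CategoryTheory CategoryTheory.Limits AlgebraicGeometry TopologicalSpace Opposite

namespace Groth.Agent.Helper1.TwistSec

open Groth.Agent.Helper1.QcCech Groth.Agent.Helper1.SubSh Groth.Agent.Helper1.LGen
open Groth.Agent.Helper1.TmulLib Groth.Agent.Helper1

variable {X : Scheme.{u}} {L : X.Modules}

/-- affine opens with a generator of `L` and the coefficient of `s` -/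
theorem exists_affine_isGen (hL : PicF.IsInvertible L) (s : Coh.structureModule X ⟶ L) (x : X)
    (O : X.Opens) (hxO : x ∈ O) :
    ∃ (W : X.Opens) (a : Γ(L, W)) (φ : Γ(X, W)), x ∈ W ∧ W ≤ O ∧ IsAffineOpen W ∧ IsGen L W a ∧
      φ • a = secVal s W := by
  obtain ⟨W₀, a₀, hxW₀, ha₀⟩ := exists_isGen hL x
  obtain ⟨_, ⟨W, hW, rfl⟩, hxW, hWle⟩ := X.isBasis_affineOpens.exists_subset_of_mem_open
    (show x ∈ ((W₀ ⊓ O : X.Opens) : Set X) from ⟨hxW₀, hxO⟩) (W₀ ⊓ O).isOpen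
  have h1 : W ≤ W₀ := fun y hy => (hWle hy).1
  have h2 : W ≤ O := fun y hy => (hWle hy).2
  have ha := ha₀.res h1
  obtain ⟨φ, hφ⟩ := ha.exists_coeff (secVal s W)
  exact ⟨W, res L h1 a₀, φ, hxW, h2, hW, ha, hφ⟩

/-- local annihilation -/
theorem twist_eq_zero_local (F : X.Modules) [F.IsQuasicoherent] (s : Coh.structureModule X ⟶ L)
    {W : X.Opens} (hW : IsAffineOpen W) {a : Γ(L, W)} (ha : IsGen L W a) (φ : Γ(X, W))
    (hφ : φ • a = secVal s W) (u : Γ(F, W))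
    (hu : res F (inf_le_right : CohB1.genLocus L s ⊓ W ≤ W) u = 0) :
    ∃ n₀ : ℕ, ∀ n, n₀ ≤ n → SecTwist.twist s n F W u = 0 := by
  have e := genLocus_inf_eq_basicOpen s ha φ hφ
  have h0 : res F (X.basicOpen_le φ) u = 0 := by
    have := congrArg (res F e.ge) hu
    rwa [res_res, map_zero] at this
  obtain ⟨n₀, hn₀⟩ := QcAbel.killP_of_isQuasicoherent F W hW φ _ rfl u h0
  refine ⟨n₀, fun n hn => ?_⟩
  obtain ⟨d, rfl⟩ := Nat.exists_eq_add_of_le hn
  rw [twist_eq_of_isGen s _ F φ hφ, add_comm, pow_add, mul_smul, hn₀, smul_zero, tm_zero_left]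
  rfl

/-- **annihilation of sections vanishing on `X_s` by powers of `s`** -/
theorem exists_twist_eq_zero [CompactSpace X] (hL : PicF.IsInvertible L)
    (s : Coh.structureModule X ⟶ L) (F : X.Modules) [F.IsQuasicoherent] (t : Γ(F, ⊤))
    (ht : res F (le_top : CohB1.genLocus L s ≤ ⊤) t = 0) :
    ∃ n : ℕ, 0 < n ∧ SecTwist.twist s n F ⊤ t = 0 := by
  classical
  have h1 : ∀ x : X, ∃ (W : X.Opens) (n₀ : ℕ), x ∈ W ∧
      ∀ n, n₀ ≤ n → SecTwist.twist s n F W (res F le_top t) = 0 := by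
    intro x
    obtain ⟨W, a, φ, hxW, -, hW, ha, hφ⟩ := exists_affine_isGen hL s x ⊤ trivial
    obtain ⟨n₀, hn₀⟩ := twist_eq_zero_local F s hW ha φ hφ (res F le_top t) (by
      rw [res_res]
      have := congrArg (res F (inf_le_left : CohB1.genLocus L s ⊓ W ≤ CohB1.genLocus L s)) ht
      rwa [res_res, map_zero] at this)
    exact ⟨W, n₀, hxW, hn₀⟩
  choose W n₀ hxW hn₀ using h1
  obtain ⟨S, hS⟩ := isCompact_univ.elim_finite_subcover (fun x => (W x : Set X))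
    (fun x => (W x).isOpen) (fun x _ => Set.mem_iUnion.2 ⟨x, hxW x⟩)
  refine ⟨S.sup n₀ + 1, Nat.succ_pos _, ?_⟩
  refine eq_of_locally (CohB1.tensorMod F (CohB1.tensorPow L (S.sup n₀ + 1))) (O := ⊤)
    (SecTwist.twist s (S.sup n₀ + 1) F ⊤ t) 0 ?_
  intro y _
  obtain ⟨x, hxS, hyx⟩ : ∃ x ∈ S, y ∈ W x := by
    have := hS (Set.mem_univ y)
    simpa using this
  refine ⟨W x, le_top, hyx, ?_⟩
  rw [res_twist, map_zero]
  exact hn₀ x _ ((Finset.le_sup hxS).trans (Nat.le_succ _))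

end Groth.Agent.Helper1.TwistSec
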