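import Mathlib
import Groth.Agent.Lib.Helper1.TwistKill
import Groth.Agent.Lib.Helper1.QcsLoc

set_option autoImplicit false
universe u
open CategoryTheory CategoryTheory.Limits AlgebraicGeometry TopologicalSpace Opposite

namespace Groth.Agent.Helper1.TwistSec

open Groth.Agent.Helper1.QcCech Groth.Agent.Helper1.SubSh Groth.Agent.Helper1.LGen
open Groth.Agent.Helper1.TmulLib Groth.Agent.Helper1

variable {X : Scheme.{u}} {L : X.Modules}

/-- a chart for `(L, s)`: an affine open with a generator of `L` and the coefficient of `s` -/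
structure Chart (L : X.Modules) (s : Coh.structureModule X ⟶ L) where
  W : X.Opens
  affine : IsAffineOpen W
  a : Γ(L, W)
  gen : IsGen L W a
  φ : Γ(X, W)
  hφ : φ • a = secVal s W

variable {s : Coh.structureModule X ⟶ L} (F : X.Modules)

/-- the local section `u ⊗ a^{⊗ N}` -/
noncomputable def Chart.loc (c : Chart L s) (N : ℕ) (u : Γ(F, c.W)) :
    Γ(CohB1.tensorMod F (CohB1.tensorPow L N), c.W) :=
  tm F (CohB1.tensorPow L N) c.W u (gpow c.a N)

theorem Chart.genLocus_inf (c : Chart L s) : CohB1.genLocus L s ⊓ c.W = X.basicOpen c.φ :=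
  genLocus_inf_eq_basicOpen s c.gen c.φ c.hφ

/-- the coefficient of `s` on smaller opens -/
theorem Chart.hφ_res (c : Chart L s) {V : X.Opens} (h : V ≤ c.W) :
    resR h c.φ • res L h c.a = secVal s V := by
  rw [← res_smul, c.hφ, res_secVal]

/-- the restriction of a twist to an open inside a chart -/
theorem Chart.twist_eq (c : Chart L s) {V : X.Opens} (h : V ≤ c.W) (N : ℕ) (t : Γ(F, V)) :
    SecTwist.twist s N F V t =
      tm F (CohB1.tensorPow L N) V (resR h c.φ ^ N • t) (gpow (res L h c.a) N) :=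
  twist_eq_of_isGen s N F (resR h c.φ) (c.hφ_res h) t

theorem Chart.res_loc (c : Chart L s) {V : X.Opens} (h : V ≤ c.W) (N : ℕ) (u : Γ(F, c.W)) :
    res (CohB1.tensorMod F (CohB1.tensorPow L N)) h (c.loc F N u) =
      tm F (CohB1.tensorPow L N) V (res F h u) (gpow (res L h c.a) N) := by
  rw [Chart.loc, res_tm, res_gpow]

/-- comparison of two charts on their intersection -/
theorem Chart.exists_transition (c c' : Chart L s) :
    ∃ g : Γ(X, c.W ⊓ c'.W), res L inf_le_right c'.a = g • res L inf_le_left c.a ∧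
      resR inf_le_left c.φ = resR inf_le_right c'.φ * g := by
  obtain ⟨g, hg⟩ := (c.gen.res (inf_le_left : c.W ⊓ c'.W ≤ c.W)).exists_coeff
    (res L inf_le_right c'.a)
  refine ⟨g, hg.symm, ?_⟩
  have h1 := c.hφ_res (inf_le_left : c.W ⊓ c'.W ≤ c.W)
  have h2 := c'.hφ_res (inf_le_right : c.W ⊓ c'.W ≤ c'.W)
  rw [← hg, smul_smul] at h2
  have h3 := (c.gen _ (inf_le_left : c.W ⊓ c'.W ≤ c.W)).1 (h1.trans h2.symm)
  exact h3

/-- two local extensions agree on the intersection of the charts after multiplication by a power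
of `s` -/
theorem Chart.exists_compat [F.IsQuasicoherent] [QuasiSeparatedSpace X] (c c' : Chart L s) (n : ℕ)
    (t : Γ(F, CohB1.genLocus L s)) (u : Γ(F, c.W)) (u' : Γ(F, c'.W))
    (hu : res F (inf_le_right : CohB1.genLocus L s ⊓ c.W ≤ c.W) u =
      resR (inf_le_right : CohB1.genLocus L s ⊓ c.W ≤ c.W) c.φ ^ n •
        res F (inf_le_left : CohB1.genLocus L s ⊓ c.W ≤ CohB1.genLocus L s) t)
    (hu' : res F (inf_le_right : CohB1.genLocus L s ⊓ c'.W ≤ c'.W) u' =
      resR (inf_le_right : CohB1.genLocus L s ⊓ c'.W ≤ c'.W) c'.φ ^ n •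
        res F (inf_le_left : CohB1.genLocus L s ⊓ c'.W ≤ CohB1.genLocus L s) t) :
    ∃ m₀ : ℕ, ∀ m, m₀ ≤ m →
      res (CohB1.tensorMod F (CohB1.tensorPow L (n + m))) (inf_le_left : c.W ⊓ c'.W ≤ c.W)
          (c.loc F (n + m) (c.φ ^ m • u)) =
        res (CohB1.tensorMod F (CohB1.tensorPow L (n + m))) (inf_le_right : c.W ⊓ c'.W ≤ c'.W)
          (c'.loc F (n + m) (c'.φ ^ m • u')) := by
  obtain ⟨g, hg, hφψ⟩ := c.exists_transition c'
  have hl : c.W ⊓ c'.W ≤ c.W := inf_le_left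
  have hr : c.W ⊓ c'.W ≤ c'.W := inf_le_right
  obtain ⟨d, hd⟩ : ∃ d : Γ(F, c.W ⊓ c'.W), d = res F hl u - g ^ n • res F hr u' := ⟨_, rfl⟩
  -- `d` vanishes on `V ∩ X_s`
  have hle1 : (c.W ⊓ c'.W) ⊓ X.basicOpen c.φ ≤ CohB1.genLocus L s ⊓ c.W := by
    rw [c.genLocus_inf]; exact inf_le_right
  have hle2 : (c.W ⊓ c'.W) ⊓ X.basicOpen c.φ ≤ CohB1.genLocus L s ⊓ c'.W :=
    le_inf (hle1.trans inf_le_left) (inf_le_left.trans hr)
  have hd0 : res F (inf_le_left : (c.W ⊓ c'.W) ⊓ X.basicOpen c.φ ≤ c.W ⊓ c'.W) d = 0 := by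
    have e1 := congrArg (res F hle1) hu
    have e2 := congrArg (res F hle2) hu'
    rw [res_res, res_smul, map_pow, resR_resR, res_res] at e1 e2
    have e3 := congrArg (resR (inf_le_left : (c.W ⊓ c'.W) ⊓ X.basicOpen c.φ ≤ c.W ⊓ c'.W)) hφψ
    rw [resR_resR, map_mul, resR_resR] at e3
    rw [hd, map_sub, res_smul, res_res, res_res, e1, e2, map_pow, smul_smul, ← mul_pow, e3,
      mul_comm, sub_self]
  have hVc : IsCompact ((c.W ⊓ c'.W : X.Opens) : Set X) := by
    rw [Opens.coe_inf]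
    exact c.affine.isCompact.inter_of_isOpen c'.affine.isCompact c.W.isOpen c'.W.isOpen
  obtain ⟨m₀, hm₀⟩ := QcsLoc.kill_of_isCompact F c.φ (c.W ⊓ c'.W) hVc hl d hd0
  have hm₀' : resR hl c.φ ^ m₀ • d = 0 := by
    have : resR hl (c.φ ^ m₀) • d = 0 := hm₀
    rwa [map_pow] at this
  refine ⟨m₀, fun m hm => ?_⟩
  obtain ⟨k, rfl⟩ := Nat.exists_eq_add_of_le hm
  rw [c.res_loc F hl, c'.res_loc F hr, hg, gpow_smul, tm_smul_right, ← tm_smul_left,
    ← sub_eq_zero, ← tm_sub_left]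
  have : res F hl (c.φ ^ (m₀ + k) • u) - g ^ (n + (m₀ + k)) • res F hr (c'.φ ^ (m₀ + k) • u') =
      resR hl c.φ ^ k • resR hl c.φ ^ m₀ • d := by
    rw [res_smul, res_smul, map_pow, map_pow, hd, smul_sub, smul_sub, smul_smul, smul_smul,
      smul_smul, smul_smul, ← pow_add, add_comm k m₀, hφψ]
    congr 2
    ring
  rw [this, hm₀', smul_zero, tm_zero_left]

/-- charts exist around every point -/
theorem exists_chart (hL : PicF.IsInvertible L) (s : Coh.structureModule X ⟶ L) (x : X) :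
    ∃ c : Chart L s, x ∈ c.W := by
  obtain ⟨W, a, φ, hxW, -, hW, ha, hφ⟩ := exists_affine_isGen hL s x ⊤ trivial
  exact ⟨⟨W, hW, a, ha, φ, hφ⟩, hxW⟩

/-- local extension on a chart -/
theorem Chart.exists_local_ext [F.IsQuasicoherent] (c : Chart L s)
    (t : Γ(F, CohB1.genLocus L s)) :
    ∃ (n : ℕ) (u : Γ(F, c.W)), res F (inf_le_right : CohB1.genLocus L s ⊓ c.W ≤ c.W) u =
      resR (inf_le_right : CohB1.genLocus L s ⊓ c.W ≤ c.W) c.φ ^ n •
        res F (inf_le_left : CohB1.genLocus L s ⊓ c.W ≤ CohB1.genLocus L s) t :=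
  QcAbel.extP_of_isQuasicoherent F c.W c.affine c.φ _ c.genLocus_inf _

/-- **extension of sections over `X_s` after multiplication by a power of `s`** -/
theorem exists_twist_extends [CompactSpace X] [QuasiSeparatedSpace X] (hL : PicF.IsInvertible L)
    (s : Coh.structureModule X ⟶ L) (F : X.Modules) [F.IsQuasicoherent]
    (t : Γ(F, CohB1.genLocus L s)) :
    ∃ n : ℕ, 0 < n ∧ ∃ t' : Γ(CohB1.tensorMod F (CohB1.tensorPow L n), ⊤),
      res (CohB1.tensorMod F (CohB1.tensorPow L n)) (le_top : CohB1.genLocus L s ≤ ⊤) t' =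
        SecTwist.twist s n F (CohB1.genLocus L s) t := by
  classical
  choose c hc using exists_chart hL s
  obtain ⟨S, hS⟩ := isCompact_univ.elim_finite_subcover (fun x => ((c x).W : Set X))
    (fun x => (c x).W.isOpen) (fun x _ => Set.mem_iUnion.2 ⟨x, hc x⟩)
  choose n₁ u₁ hu₁ using fun x => (c x).exists_local_ext F t
  -- a common exponent
  let n := S.sup n₁
  have h2 : ∀ x ∈ S, ∃ u : Γ(F, (c x).W),
      res F (inf_le_right : CohB1.genLocus L s ⊓ (c x).W ≤ (c x).W) u =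
      resR (inf_le_right : CohB1.genLocus L s ⊓ (c x).W ≤ (c x).W) (c x).φ ^ n •
        res F (inf_le_left : CohB1.genLocus L s ⊓ (c x).W ≤ CohB1.genLocus L s) t := by
    intro x hx
    obtain ⟨k, hk⟩ := Nat.exists_eq_add_of_le (Finset.le_sup (f := n₁) hx)
    refine ⟨(c x).φ ^ k • u₁ x, ?_⟩
    rw [res_smul, hu₁, smul_smul, map_pow, ← pow_add]
    congr 2
    omega
  -- extend `u` to all points (irrelevant values outside `S`)
  have h2' : ∀ x : X, ∃ u : Γ(F, (c x).W), x ∈ S →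
      res F (inf_le_right : CohB1.genLocus L s ⊓ (c x).W ≤ (c x).W) u =
      resR (inf_le_right : CohB1.genLocus L s ⊓ (c x).W ≤ (c x).W) (c x).φ ^ n •
        res F (inf_le_left : CohB1.genLocus L s ⊓ (c x).W ≤ CohB1.genLocus L s) t := by
    intro x
    by_cases hx : x ∈ S
    · obtain ⟨u, hu⟩ := h2 x hx
      exact ⟨u, fun _ => hu⟩
    · exact ⟨0, fun h => absurd h hx⟩
  choose u hu using h2'
  -- compatibility exponents
  have h3 : ∀ x y : X, ∃ m₀ : ℕ, x ∈ S → y ∈ S → ∀ m, m₀ ≤ m →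
      res (CohB1.tensorMod F (CohB1.tensorPow L (n + m)))
          (inf_le_left : (c x).W ⊓ (c y).W ≤ (c x).W)
          ((c x).loc F (n + m) ((c x).φ ^ m • u x)) =
        res (CohB1.tensorMod F (CohB1.tensorPow L (n + m)))
          (inf_le_right : (c x).W ⊓ (c y).W ≤ (c y).W)
          ((c y).loc F (n + m) ((c y).φ ^ m • u y)) := by
    intro x y
    by_cases hx : x ∈ S
    · by_cases hy : y ∈ S
      · obtain ⟨m₀, hm₀⟩ := (c x).exists_compat F (c y) n t (u x) (u y) (hu x hx) (hu y hy)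
        exact ⟨m₀, fun _ _ => hm₀⟩
      · exact ⟨0, fun _ h => absurd h hy⟩
    · exact ⟨0, fun h => absurd h hx⟩
  choose m₀ hm₀ using h3
  let m := (S.sup fun x => S.sup fun y => m₀ x y) + 1
  have hm : ∀ x ∈ S, ∀ y ∈ S, m₀ x y ≤ m := by
    intro x hx y hy
    have h1 : m₀ x y ≤ S.sup fun y => m₀ x y := Finset.le_sup (f := fun y => m₀ x y) hy
    have h2 : (S.sup fun y => m₀ x y) ≤ S.sup fun x => S.sup fun y => m₀ x y :=
      Finset.le_sup (f := fun x => S.sup fun y => m₀ x y) hx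
    exact (h1.trans h2).trans (Nat.le_succ _)
  -- glue
  obtain ⟨t', ht'⟩ := glue_of_compatible (CohB1.tensorMod F (CohB1.tensorPow L (n + m)))
    (fun x : S => (c x.1).W) ⊤ (fun _ => le_top)
    (by
      intro y _
      obtain ⟨x, hxS, hyx⟩ : ∃ x ∈ S, y ∈ (c x).W := by
        have := hS (Set.mem_univ y)
        simpa using this
      exact Opens.mem_iSup.2 ⟨⟨x, hxS⟩, hyx⟩)
    (fun x => (c x.1).loc F (n + m) ((c x.1).φ ^ m • u x.1))
    (fun x y => hm₀ x.1 y.1 x.2 y.2 m (hm x.1 x.2 y.1 y.2))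
  refine ⟨n + m, by omega, t', ?_⟩
  -- check the restriction to `X_s`
  refine eq_of_locally (CohB1.tensorMod F (CohB1.tensorPow L (n + m)))
    (O := CohB1.genLocus L s) _ _ ?_
  intro y hy
  obtain ⟨x, hxS, hyx⟩ : ∃ x ∈ S, y ∈ (c x).W := by
    have := hS (Set.mem_univ y)
    simpa using this
  refine ⟨CohB1.genLocus L s ⊓ (c x).W, inf_le_left, ⟨hy, hyx⟩, ?_⟩
  rw [res_res, res_twist, ← res_res (CohB1.tensorMod F (CohB1.tensorPow L (n + m)))
    (le_top : (c x).W ≤ ⊤) inf_le_right, ht' ⟨x, hxS⟩, (c x).res_loc F inf_le_right,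
    (c x).twist_eq F inf_le_right, res_smul, hu x hxS, smul_smul, map_pow, ← pow_add,
    add_comm m n]

end Groth.Agent.Helper1.TwistSec
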