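import Mathlib
import Groth.Agent.Lib.Helper1.AmpleLib1
import Groth.Agent.Lib.Helper1.TwistExt

set_option autoImplicit false
universe u
open CategoryTheory CategoryTheory.Limits AlgebraicGeometry TopologicalSpace Opposite

namespace Groth.Agent.Helper1.AmpleLib

open Groth.Agent.Helper1.QcCech Groth.Agent.Helper1.SubSh Groth.Agent.Helper1.LGen
open Groth.Agent.Helper1.TmulLib Groth.Agent.Helper1 Groth.Agent.Helper1.TwistSec
open Groth.Agent.Helper1.TensGen Groth.Agent.Helper1.TwForm

variable {X : Scheme.{u}}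

theorem isGen_one' (W : X.Opens) : IsGen (Coh.structureModule X) W (one' W) := by
  intro V hV
  have : (fun r : Γ(X, V) => r • QcCech.res (Coh.structureModule X) hV (one' W)) =
      (fun r : Γ(X, V) => (show Γ(Coh.structureModule X, V) from r)) := by
    funext r
    rw [res_one', smul_one']
  rw [this]
  exact Function.bijective_id

theorem isGen_gpow {L : X.Modules} {W : X.Opens} {a : Γ(L, W)} (ha : IsGen L W a) (n : ℕ) :
    IsGen (CohB1.tensorPow L n) W (gpow a n) := by
  induction n with
  | zero => exact isGen_one' W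
  | succ n ih => exact isGen_tm ih ha

theorem secVal_homOfSec (N : X.Modules) (σ : Γ(N, ⊤)) (W : X.Opens) :
    secVal (TwistAmple.homOfSec N σ) W = QcCech.res N (le_top : W ≤ ⊤) σ := by
  have h1 := app_eq_smul (TwistAmple.homOfSec N σ) W 1
  rw [one_smul] at h1
  rw [← h1]
  have h2 := TwistAmple.homOfSec_app N σ W 1
  rw [one_smul] at h2
  exact h2

/-- transport of a section of a monomial of degree `N + 1` to the tensor power -/
theorem exists_section_tensorPow {L G : X.Modules} (hL : PicF.IsInvertible L) (N : ℕ)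
    (S : Tw L L (Coh.structureModule X) ((N : ℤ) + 1) 0 G) (s : Coh.structureModule X ⟶ G) :
    ∃ s' : Coh.structureModule X ⟶ CohB1.tensorPow L (N + 1),
      CohB1.genLocus _ s' = CohB1.genLocus G s := by
  let e := Tw.iso S (((Tw.fst L L).pow (N + 1)).cast (by push_cast; ring) (by simp))
    (locFrame_of_isInvertible hL hL)
  exact ⟨s ≫ e.hom, TwistAmple.genLocus_comp_iso s e⟩

theorem quasiSeparatedSpace_of_isAmple {L : X.Modules} (hL : CohB1.IsAmple L) :
    QuasiSeparatedSpace X := by
  apply quasiSeparatedSpace_of_affine_cover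
  intro x
  obtain ⟨n, s, hx, haff⟩ := hL.2.2 x
  exact ⟨_, hx, haff, GenLoc.isAffineHom_genLocus_ι _ s (isInvertible_tensorPow hL.1 (n + 1))⟩

/-- **the opens `X_s` form a basis when `L` is ample** -/
theorem exists_genLocus_nbhd {L : X.Modules} (hL : CohB1.IsAmple L) (U : X.Opens) (x : X)
    (hx : x ∈ U) :
    ∃ (N : ℕ) (s : Coh.structureModule X ⟶ CohB1.tensorPow L (N + 1)),
      x ∈ CohB1.genLocus _ s ∧ CohB1.genLocus _ s ≤ U ∧ IsAffineOpen (CohB1.genLocus _ s) := by
  have : CompactSpace X := hL.2.1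
  have : QuasiSeparatedSpace X := quasiSeparatedSpace_of_isAmple hL
  obtain ⟨k, s, hxs, haff⟩ := hL.2.2 x
  have hA : PicF.IsInvertible (CohB1.tensorPow L (k + 1)) := isInvertible_tensorPow hL.1 (k + 1)
  obtain ⟨g, hgU, hxg⟩ := haff.exists_basicOpen_le (V := U) ⟨x, hx⟩ hxs
  have hgs : X.basicOpen g ≤ CohB1.genLocus _ s := X.basicOpen_le g
  have : (Coh.structureModule X).IsQuasicoherent :=
    InvQc.isQuasicoherent_of_isInvertible _ GenLoc.isInvertible_O
  obtain ⟨n, -, t', ht'⟩ := exists_twist_extends hA s (Coh.structureModule X)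
    (show Γ(Coh.structureModule X, CohB1.genLocus _ s) from g)
  let B := CohB1.tensorMod (Coh.structureModule X) (CohB1.tensorPow (CohB1.tensorPow L (k + 1)) n)
  have hB : PicF.IsInvertible B :=
    isInvertible_tensorMod GenLoc.isInvertible_O (isInvertible_tensorPow hA n)
  let τ : Coh.structureModule X ⟶ B := TwistAmple.homOfSec B t'
  -- the locus of `τ ⊗ s`
  have h1 : CohB1.genLocus _ (SecTwist.tmulHom τ s) = X.basicOpen g := by
    rw [genLocus_tmulHom hB hA]
    have hgen : IsGen B (CohB1.genLocus _ s)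
        (tm (Coh.structureModule X) (CohB1.tensorPow (CohB1.tensorPow L (k + 1)) n) _
          (one' _) (gpow (secVal s (CohB1.genLocus _ s)) n)) :=
      isGen_tm (isGen_one' _) (isGen_gpow (isGen_secVal s le_rfl) n)
    refine genLocus_inf_eq_basicOpen τ hgen g ?_
    rw [secVal_homOfSec, ht', twist_eq, ← tm_smul_left, smul_one']
  -- transport to the tensor power
  let S : Tw L L (Coh.structureModule X) ((((k + 1) * n + k : ℕ) : ℤ) + 1) 0
      (CohB1.tensorMod B (CohB1.tensorPow L (k + 1))) :=
    (((Tw.self L L (Coh.structureModule X)).tensorR (((Tw.fst L L).pow (k + 1)).pow n)).tensorR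
      ((Tw.fst L L).pow (k + 1))).cast (by push_cast; ring) (by simp)
  obtain ⟨s', hs'⟩ := exists_section_tensorPow hL.1 ((k + 1) * n + k) S (SecTwist.tmulHom τ s)
  refine ⟨(k + 1) * n + k, s', ?_, ?_, ?_⟩
  · rw [hs', h1]; exact hxg
  · rw [hs', h1]; exact hgU
  · rw [hs', h1]; exact haff.basicOpen g

end Groth.Agent.Helper1.AmpleLib
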