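import Mathlib
import Groth.Prelude.Def_Curv2
import Groth.Agent.Lib.Helper1.QcAbel
import Groth.Agent.Lib.Helper1.QcsLoc
import Groth.Agent.Lib.Helper1.CohACC

set_option autoImplicit false
universe u
open CategoryTheory CategoryTheory.Limits AlgebraicGeometry TopologicalSpace Opposite

namespace Groth.Agent.Helper1.GlobGen

open Groth.Agent.Helper1.QcCech

variable {X : Scheme.{u}}

/-- a section over `⊤` as a global section of the sheaf of modules -/
noncomputable def secOfTop (M : X.Modules) (t : Γ(M, ⊤)) : M.sections :=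
  PresheafOfModules.sectionsMk (fun U => M.val.map (homOfLE (le_top : U.unop ≤ ⊤)).op t) (by
    intro U V f
    rw [← PresheafOfModules.map_comp_apply]
    rfl)

lemma secOfTop_eval_top (M : X.Modules) (t : Γ(M, ⊤)) :
    (secOfTop M t).1 (op ⊤) = t := by
  show M.val.map (𝟙 _) t = t
  simp

lemma sections_ext_top (M : X.Modules) (s s' : M.sections)
    (h : s.1 (op ⊤) = s'.1 (op ⊤)) : s = s' := by
  apply PresheafOfModules.sections_ext
  intro U
  have h1 := PresheafOfModules.sections_property s (homOfLE (le_top : U.unop ≤ ⊤)).op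
  have h2 := PresheafOfModules.sections_property s' (homOfLE (le_top : U.unop ≤ ⊤)).op
  rw [← h1, ← h2, h]

lemma secOfTop_eval (M : X.Modules) (s : M.sections) : secOfTop M (s.1 (op ⊤)) = s :=
  sections_ext_top M _ _ (secOfTop_eval_top M _)

/-- the canonical map from the free module on the global sections -/
noncomputable def gen (M : X.Modules) : (SheafOfModules.free Γ(M, ⊤) : X.Modules) ⟶ M :=
  M.freeHomEquiv.symm (secOfTop M)

lemma sectionsMap_eval {M N : X.Modules} (h : M ⟶ N) (s : M.sections) :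
    (SheafOfModules.sectionsMap h s).1 (op ⊤) = h.app ⊤ (s.1 (op ⊤)) := rfl

/-- a map killing `gen` kills all global sections -/
lemma app_top_eq_zero_of_gen_comp {M N : X.Modules} (h : M ⟶ N) (hh : gen M ≫ h = 0)
    (t : Γ(M, ⊤)) : h.app ⊤ t = 0 := by
  have h1 : N.freeHomEquiv (gen M ≫ h) t = SheafOfModules.sectionsMap h (secOfTop M t) := by
    rw [SheafOfModules.freeHomEquiv_comp_apply, gen, Equiv.apply_symm_apply]
  rw [hh] at h1
  have h2 := congrArg (fun s : N.sections => s.1 (op ⊤)) h1
  simp only [sectionsMap_eval, secOfTop_eval_top] at h2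
  rw [← h2]
  rfl

theorem isGloballyGenerated_iff (M : X.Modules) :
    Curv2.IsGloballyGenerated M ↔ Epi (gen M) := by
  constructor
  · rintro ⟨ι, p, hp⟩
    let a : ι → Γ(M, ⊤) := fun i => (M.freeHomEquiv p i).1 (op ⊤)
    have : SheafOfModules.freeMap a ≫ gen M = p := by
      apply M.freeHomEquiv.injective
      ext1 i
      rw [SheafOfModules.freeHomEquiv_comp_apply, SheafOfModules.freeHomEquiv_freeMap]
      simp only [Function.comp_apply]
      rw [gen, SheafOfModules.sectionsMap_freeHomEquiv_symm_freeSection]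
      exact secOfTop_eval M _
    exact epi_of_epi_fac this
  · intro h
    exact ⟨Γ(M, ⊤), gen M, h⟩

open Groth.Agent.Helper1 in
/-- If `M` is quasi-coherent and enough affine basic opens `X_r` of global functions cover `X`
(X quasi-compact quasi-separated), then `M` is globally generated. -/
theorem epi_gen_of_cover [CompactSpace X] [QuasiSeparatedSpace X] (M : X.Modules)
    [M.IsQuasicoherent]
    (hcov : ⨆ r : {r : Γ(X, ⊤) // IsAffineOpen (X.basicOpen r)}, X.basicOpen r.1 = ⊤) :
    Epi (gen M) := by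
  have hqF : (SheafOfModules.free Γ(M, ⊤) : X.Modules).IsQuasicoherent := inferInstance
  have hqC : (cokernel (gen M)).IsQuasicoherent := QcAbel.isQuasicoherent_cokernel (gen M)
  have hqI : (Abelian.image (gen M)).IsQuasicoherent := QcAbel.isQuasicoherent_image (gen M)
  suffices hz : IsZero (cokernel (gen M)) by
    exact Preadditive.epi_of_isZero_cokernel _ hz
  let S : ShortComplex X.Modules := ShortComplex.mk (Abelian.image.ι (gen M)) (cokernel.π (gen M))
    (kernel.condition (cokernel.π (gen M)))
  have hS : S.Exact := ShortComplex.exact_of_f_is_kernel _ (kernelIsKernel (cokernel.π (gen M)))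
  have : Mono S.f := inferInstanceAs (Mono (Abelian.image.ι (gen M)))
  have : Epi S.g := inferInstanceAs (Epi (cokernel.π (gen M)))
  have hSE : S.ShortExact := { exact := hS }
  have : S.X₁.IsQuasicoherent := hqI
  refine @CohACC.isZero_of_affine_cover _ (cokernel (gen M)) hqC _
    (fun r : {r : Γ(X, ⊤) // IsAffineOpen (X.basicOpen r)} => X.basicOpen r.1) (fun r => r.2) hcov ?_
  rintro ⟨r, hr⟩ c
  obtain ⟨t, rfl⟩ := QcExt.app_surjective hSE (X.basicOpen r) hr c
  change S.g.app (X.basicOpen r) t = 0
  -- extend a multiple of `t`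
  have hle : (⊤ ⊓ X.basicOpen r : X.Opens) ≤ X.basicOpen r := inf_le_right
  have hge : X.basicOpen r ≤ (⊤ ⊓ X.basicOpen r : X.Opens) := le_inf le_top le_rfl
  obtain ⟨n, s, hs⟩ := QcsLoc.ext_of_isCompact M r ⊤ isQuasiSeparated_univ ⊤ isCompact_univ le_rfl
    le_rfl (res M hle t)
  have h0 : S.g.app ⊤ s = 0 :=
    app_top_eq_zero_of_gen_comp S.g (cokernel.condition (gen M)) s
  have h1 := congrArg (res M hge) hs
  rw [res_res, res_rsmul, res_res, res_self] at h1
  -- apply π
  have h2 := congrArg (S.g.app (X.basicOpen r)) h1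
  rw [QcExt.app_res, h0, map_zero] at h2
  rw [rsmul, Scheme.Modules.Hom.app_smul] at h2
  have hu : IsUnit (resR (X.basicOpen_le r) r) := X.toRingedSpace.isUnit_res_basicOpen r
  have hu' := hu.pow n
  have e : resR (hge.trans (inf_le_left.trans le_rfl)) (r ^ n) = (resR (X.basicOpen_le r) r) ^ n := by
    rw [map_pow]
  rw [e, ← hu'.unit_spec] at h2
  have := congrArg (fun z => (hu'.unit⁻¹ : (Γ(X, X.basicOpen r))ˣ) • z) h2
  simpa [Units.smul_def, smul_smul] using this.symm

theorem isGloballyGenerated_of_isQuasiAffine [X.IsQuasiAffine] (M : X.Modules)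
    [M.IsQuasicoherent] : Curv2.IsGloballyGenerated M := by
  rw [isGloballyGenerated_iff]
  apply epi_gen_of_cover
  apply top_le_iff.mp
  intro x _
  obtain ⟨_, ⟨_, ⟨r, hr, rfl⟩, rfl⟩, hxr, -⟩ :=
    (Scheme.IsQuasiAffine.isBasis_basicOpen X).exists_subset_of_mem_open (Set.mem_univ x)
      isOpen_univ
  exact Opens.mem_iSup.mpr ⟨⟨r, hr⟩, hxr⟩


end Groth.Agent.Helper1.GlobGen
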