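import Mathlib
import Groth.Agent.Lib.Helper1.GlobGen
import Groth.Agent.Lib.Helper1.SubSh

set_option autoImplicit false
universe u
open CategoryTheory CategoryTheory.Limits AlgebraicGeometry TopologicalSpace Opposite

namespace Groth.Agent.Helper1.GlobGen

open Groth.Agent.Helper1.QcCech Groth.Agent.Helper1 Groth.Agent.Helper1.SubSh

variable {X : Scheme.{u}} {M : X.Modules}

/-- span of the restrictions of a family of global sections -/
noncomputable def spanPre {ι : Type*} (s : ι → Γ(M, ⊤)) : PreSub M where
  carrier U := Submodule.span Γ(X, U) (Set.range fun i => res M (le_top : U ≤ ⊤) (s i))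
  res_mem := by
    intro U V h t ht
    induction ht using Submodule.span_induction with
    | mem x hx =>
      obtain ⟨i, rfl⟩ := hx
      rw [res_res]
      exact Submodule.subset_span ⟨i, rfl⟩
    | zero => rw [map_zero]; exact Submodule.zero_mem _
    | add x y _ _ hx hy => rw [map_add]; exact Submodule.add_mem _ hx hy
    | smul r x _ hx => rw [res_smul]; exact Submodule.smul_mem _ _ hx

/-- the map from the free module given by a family of elements of `Γ(M, ⊤)` -/
noncomputable def ofSections {ι : Type u} (s : ι → Γ(M, ⊤)) :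
    (SheafOfModules.free ι : X.Modules) ⟶ M :=
  M.freeHomEquiv.symm (fun i => secOfTop M (s i))

lemma ofSections_comp_eq_zero {ι : Type u} (s : ι → Γ(M, ⊤)) {N : X.Modules} (h : M ⟶ N)
    (hh : ofSections s ≫ h = 0) (i : ι) : h.app ⊤ (s i) = 0 := by
  have h1 : N.freeHomEquiv (ofSections s ≫ h) i =
      SheafOfModules.sectionsMap h (secOfTop M (s i)) := by
    rw [SheafOfModules.freeHomEquiv_comp_apply, ofSections, Equiv.apply_symm_apply]
  rw [hh] at h1
  have h2 := congrArg (fun s : N.sections => s.1 (op ⊤)) h1
  simp only [sectionsMap_eval, secOfTop_eval_top] at h2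
  rw [← h2]
  rfl

lemma eq_ofSections {ι : Type u} (p : (SheafOfModules.free ι : X.Modules) ⟶ M) :
    p = ofSections (fun i => (M.freeHomEquiv p i).1 (op ⊤)) := by
  apply M.freeHomEquiv.injective
  ext1 i
  rw [ofSections, Equiv.apply_symm_apply]
  exact (secOfTop_eval M _).symm

/-- if the family generates, every section is locally a combination of the family -/
theorem mem_loc_of_epi {ι : Type u} (s : ι → Γ(M, ⊤)) [Epi (ofSections s)] {U : X.Opens}
    (t : Γ(M, U)) : t ∈ (spanPre s).loc.carrier U := by
  let G := (spanPre s).loc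
  have hmem : ∀ i, s i ∈ G.carrier ⊤ := fun i =>
    (spanPre s).le_loc (Submodule.subset_span ⟨i, res_self M _ _⟩)
  let q : (SheafOfModules.free ι : X.Modules) ⟶ G.obj :=
    ofSections (fun i => G.mkSec (s i) (hmem i))
  have hq : q ≫ G.ι = ofSections s := by
    apply M.freeHomEquiv.injective
    ext1 i
    rw [SheafOfModules.freeHomEquiv_comp_apply]
    have e1 : G.obj.freeHomEquiv q i = secOfTop G.obj (G.mkSec (s i) (hmem i)) := by
      simp only [q, ofSections, Equiv.apply_symm_apply]
    rw [e1, ofSections, Equiv.apply_symm_apply]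
    apply sections_ext_top
    rw [sectionsMap_eval, secOfTop_eval_top, secOfTop_eval_top]
    rfl
  have : Epi (q ≫ G.ι) := by rw [hq]; infer_instance
  have : Epi G.ι := epi_of_epi q G.ι
  have : IsIso G.ι := isIso_of_mono_of_epi _
  exact G.mem_of_isIso t

/-- conversely, a locally generating family gives an epimorphism -/
theorem epi_of_mem_loc {ι : Type u} (s : ι → Γ(M, ⊤))
    (h : ∀ (U : X.Opens) (t : Γ(M, U)), t ∈ (spanPre s).loc.carrier U) : Epi (ofSections s) := by
  apply Preadditive.epi_of_cancel_zero
  intro N' g' hg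
  let N : X.Modules := N'
  let g : M ⟶ N := g'
  have h0 := ofSections_comp_eq_zero s g hg
  apply Scheme.Modules.hom_ext (f := g) (g := 0)
  intro U
  ext t
  change g.app U t = 0
  apply TopCat.Sheaf.eq_of_locally_eq' (⟨N.presheaf, N.isSheaf⟩ : TopCat.Sheaf Ab X)
    (fun p : {W : X.Opens // ∃ h : W ≤ U, res M h t ∈ (spanPre s).carrier W} => p.1) U
    (fun p => homOfLE p.2.1)
  · intro x hx
    obtain ⟨W, hW, hxW, hm⟩ := h U t x hx
    exact Opens.mem_iSup.2 ⟨⟨W, hW, hm⟩, hxW⟩
  · rintro ⟨W, hW, hm⟩
    change res N hW (g.app U t) = res N hW 0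
    rw [map_zero, ← QcExt.app_res]
    generalize res M hW t = t' at hm
    induction hm using Submodule.span_induction with
    | mem x hx =>
      obtain ⟨i, rfl⟩ := hx
      rw [QcExt.app_res, h0, map_zero]
    | zero => rw [map_zero]
    | add x y _ _ hx hy => rw [map_add, hx, hy, add_zero]
    | smul r x _ hx => rw [Scheme.Modules.Hom.app_smul, hx, smul_zero]

end Groth.Agent.Helper1.GlobGen
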