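import Mathlib
import Groth.Agent.Lib.Helper1.TwForm4
import Groth.Agent.Lib.Helper1.SubExt6
import Groth.Agent.Lib.Helper1.FinPush

set_option autoImplicit false
universe u
open CategoryTheory CategoryTheory.Limits AlgebraicGeometry TopologicalSpace Opposite

namespace Groth.Agent.Helper1.TwForm

open Groth.Agent.Helper1.QcCech Groth.Agent.Helper1.SubSh Groth.Agent.Helper1.LGen
open Groth.Agent.Helper1.TmulLib Groth.Agent.Helper1 Groth.Agent.Helper1.TwistSec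
open Groth.Agent.Helper1.TensGen

variable {X : Scheme.{u}}

namespace Tw

variable {L₁ L₂ F G : X.Modules} {d₁ d₂ : ℤ}

theorem θ_zero (T : Tw L₁ L₂ F d₁ d₂ G) (W : X.Opens) (f : Frame L₁ L₂ W) : T.θ W f 0 = 0 := by
  have := T.add W f 0 0
  rw [add_zero] at this
  exact left_eq_add.mp this

/-- a form of a quasi-coherent module is quasi-coherent -/
theorem isQuasicoherent (T : Tw L₁ L₂ F d₁ d₂ G) (hloc : LocFrame L₁ L₂) [F.IsQuasicoherent] :
    G.IsQuasicoherent := by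
  refine SubSh.isQuasicoherent_of_kill_ext_cover G
    {V | IsAffineOpen V ∧ Nonempty (Frame L₁ L₂ V)} (fun V hV => hV.1) ?_ ?_ ?_
  · intro x
    obtain ⟨W, hxW, ⟨f⟩⟩ := hloc x
    obtain ⟨_, ⟨V, hV, rfl⟩, hxV, hVW⟩ :=
      X.isBasis_affineOpens.exists_subset_of_mem_open hxW W.isOpen
    exact ⟨V, ⟨hV, ⟨f.res hVW⟩⟩, hxV⟩
  · rintro V ⟨hV, ⟨f⟩⟩ g O hO t ht
    obtain ⟨m, rfl⟩ := (T.bij V f).2 t
    rw [T.res] at ht
    have h0 : QcCech.res F (hO.le.trans (X.basicOpen_le g)) m = 0 := by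
      apply (T.bij O (f.res _)).1
      rw [ht, θ_zero]
    obtain ⟨n, hn⟩ := QcAbel.killP_of_isQuasicoherent F V hV g O hO m h0
    exact ⟨n, by rw [← T.smul, hn, θ_zero]⟩
  · rintro V ⟨hV, ⟨f⟩⟩ g O hO y
    obtain ⟨m, rfl⟩ := (T.bij O (f.res (hO.le.trans (X.basicOpen_le g)))).2 y
    obtain ⟨n, t, ht⟩ := QcAbel.extP_of_isQuasicoherent F V hV g O hO m
    exact ⟨n, T.θ V f t, by rw [T.res, ht, T.smul]⟩

/-- `θ` as a linear map -/
noncomputable def θₗ (T : Tw L₁ L₂ F d₁ d₂ G) (W : X.Opens) (f : Frame L₁ L₂ W) :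
    Γ(F, W) →ₗ[Γ(X, W)] Γ(G, W) where
  toFun := T.θ W f
  map_add' := T.add W f
  map_smul' := T.smul W f

theorem finite_sections (T : Tw L₁ L₂ F d₁ d₂ G) (hF : Coh.IsCoh F) {W : X.Opens}
    (hW : IsAffineOpen W) (f : Frame L₁ L₂ W) : Module.Finite Γ(X, W) Γ(G, W) := by
  have := FinPush.finite_sections F hF hW
  exact Module.Finite.of_surjective (T.θₗ W f) (T.bij W f).2

end Tw

end Groth.Agent.Helper1.TwForm
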