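import Mathlib
import Groth.Agent.Lib.Helper1.TwistExt

set_option autoImplicit false
universe u
open CategoryTheory CategoryTheory.Limits AlgebraicGeometry TopologicalSpace Opposite

namespace Groth.Agent.Helper1.TwistSec

open Groth.Agent.Helper1.QcCech Groth.Agent.Helper1.SubSh Groth.Agent.Helper1.LGen
open Groth.Agent.Helper1.TmulLib Groth.Agent.Helper1

variable {X : Scheme.{u}} {L : X.Modules}

/-- **extension of sections over `X_s` after multiplication by a power of `s`** -/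
theorem exists_twist_extends_ge [CompactSpace X] [QuasiSeparatedSpace X] (hL : PicF.IsInvertible L)
    (s : Coh.structureModule X ⟶ L) (F : X.Modules) [F.IsQuasicoherent]
    (t : Γ(F, CohB1.genLocus L s)) :
    ∃ n₀ : ℕ, ∀ n : ℕ, n₀ ≤ n → ∃ t' : Γ(CohB1.tensorMod F (CohB1.tensorPow L n), ⊤),
      res (CohB1.tensorMod F (CohB1.tensorPow L n)) (le_top : CohB1.genLocus L s ≤ ⊤) t' =
        SecTwist.twist s n F (CohB1.genLocus L s) t := by
  classical
  choose c hc using exists_chart hL s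
  obtain ⟨S, hS⟩ := isCompact_univ.elim_finite_subcover (fun x => ((c x).W : Set X))
    (fun x => (c x).W.isOpen) (fun x _ => Set.mem_iUnion.2 ⟨x, hc x⟩)
  choose n₁ u₁ hu₁ using fun x => (c x).exists_local_ext F t
  -- a common exponent
  let n := S.sup n₁
  have h2 : ∀ x ∈ S, ∃ u : Γ(F, (c x).W),
      res F (inf_le_right : CohB1.genLocus L s ⊓ (c x).W ≤ (c x).W) u =
      resR (inf_le_right : CohB1.genLocus L s ⊓ (c x).W ≤ (c x).W) (c x).φ ^ n •
        res F (inf_le_left : CohB1.genLocus L s ⊓ (c x).W ≤ CohB1.genLocus L s) t := by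
    intro x hx
    obtain ⟨k, hk⟩ := Nat.exists_eq_add_of_le (Finset.le_sup (f := n₁) hx)
    refine ⟨(c x).φ ^ k • u₁ x, ?_⟩
    rw [res_smul, hu₁, smul_smul, map_pow, ← pow_add]
    congr 2
    omega
  -- extend `u` to all points (irrelevant values outside `S`)
  have h2' : ∀ x : X, ∃ u : Γ(F, (c x).W), x ∈ S →
      res F (inf_le_right : CohB1.genLocus L s ⊓ (c x).W ≤ (c x).W) u =
      resR (inf_le_right : CohB1.genLocus L s ⊓ (c x).W ≤ (c x).W) (c x).φ ^ n •
        res F (inf_le_left : CohB1.genLocus L s ⊓ (c x).W ≤ CohB1.genLocus L s) t := by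
    intro x
    by_cases hx : x ∈ S
    · obtain ⟨u, hu⟩ := h2 x hx
      exact ⟨u, fun _ => hu⟩
    · exact ⟨0, fun h => absurd h hx⟩
  choose u hu using h2'
  -- compatibility exponents
  have h3 : ∀ x y : X, ∃ m₀ : ℕ, x ∈ S → y ∈ S → ∀ m, m₀ ≤ m →
      res (CohB1.tensorMod F (CohB1.tensorPow L (n + m)))
          (inf_le_left : (c x).W ⊓ (c y).W ≤ (c x).W)
          ((c x).loc F (n + m) ((c x).φ ^ m • u x)) =
        res (CohB1.tensorMod F (CohB1.tensorPow L (n + m)))
          (inf_le_right : (c x).W ⊓ (c y).W ≤ (c y).W)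
          ((c y).loc F (n + m) ((c y).φ ^ m • u y)) := by
    intro x y
    by_cases hx : x ∈ S
    · by_cases hy : y ∈ S
      · obtain ⟨m₀, hm₀⟩ := (c x).exists_compat F (c y) n t (u x) (u y) (hu x hx) (hu y hy)
        exact ⟨m₀, fun _ _ => hm₀⟩
      · exact ⟨0, fun _ h => absurd h hy⟩
    · exact ⟨0, fun h => absurd h hx⟩
  choose m₀ hm₀ using h3
  let m' := (S.sup fun x => S.sup fun y => m₀ x y) + 1
  refine ⟨n + m', fun N hN => ?_⟩
  obtain ⟨m, hmm', rfl⟩ : ∃ m, m' ≤ m ∧ N = n + m := ⟨N - n, by omega, by omega⟩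
  have hm : ∀ x ∈ S, ∀ y ∈ S, m₀ x y ≤ m := by
    intro x hx y hy
    have h1 : m₀ x y ≤ S.sup fun y => m₀ x y := Finset.le_sup (f := fun y => m₀ x y) hy
    have h2 : (S.sup fun y => m₀ x y) ≤ S.sup fun x => S.sup fun y => m₀ x y :=
      Finset.le_sup (f := fun x => S.sup fun y => m₀ x y) hx
    exact ((h1.trans h2).trans (Nat.le_succ _)).trans hmm'
  -- glue
  obtain ⟨t', ht'⟩ := glue_of_compatible (CohB1.tensorMod F (CohB1.tensorPow L (n + m)))
    (fun x : S => (c x.1).W) ⊤ (fun _ => le_top)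
    (by
      intro y _
      obtain ⟨x, hxS, hyx⟩ : ∃ x ∈ S, y ∈ (c x).W := by
        have := hS (Set.mem_univ y)
        simpa using this
      exact Opens.mem_iSup.2 ⟨⟨x, hxS⟩, hyx⟩)
    (fun x => (c x.1).loc F (n + m) ((c x.1).φ ^ m • u x.1))
    (fun x y => hm₀ x.1 y.1 x.2 y.2 m (hm x.1 x.2 y.1 y.2))
  refine ⟨t', ?_⟩
  -- check the restriction to `X_s`
  refine eq_of_locally (CohB1.tensorMod F (CohB1.tensorPow L (n + m)))
    (O := CohB1.genLocus L s) _ _ ?_
  intro y hy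
  obtain ⟨x, hxS, hyx⟩ : ∃ x ∈ S, y ∈ (c x).W := by
    have := hS (Set.mem_univ y)
    simpa using this
  refine ⟨CohB1.genLocus L s ⊓ (c x).W, inf_le_left, ⟨hy, hyx⟩, ?_⟩
  rw [res_res, res_twist, ← res_res (CohB1.tensorMod F (CohB1.tensorPow L (n + m)))
    (le_top : (c x).W ≤ ⊤) inf_le_right, ht' ⟨x, hxS⟩, (c x).res_loc F inf_le_right,
    (c x).twist_eq F inf_le_right, res_smul, hu x hxS, smul_smul, map_pow, ← pow_add,
    add_comm m n]


end Groth.Agent.Helper1.TwistSec
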