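import Mathlib
import Groth.Agent.Lib.Helper1.AmpleLib2
import Groth.Agent.Lib.Helper1.TwForm5
import Groth.Agent.Lib.Helper1.TwistExt2
import Groth.Agent.Lib.Helper1.GlobGenLoc

set_option autoImplicit false
universe u
open CategoryTheory CategoryTheory.Limits AlgebraicGeometry TopologicalSpace Opposite

namespace Groth.Agent.Helper1.AmpleLib

open Groth.Agent.Helper1.QcCech Groth.Agent.Helper1.SubSh Groth.Agent.Helper1.LGen
open Groth.Agent.Helper1.TmulLib Groth.Agent.Helper1 Groth.Agent.Helper1.TwistSec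
open Groth.Agent.Helper1.TensGen Groth.Agent.Helper1.TwForm

variable {X : Scheme.{u}}

/-- restriction maps spans into spans -/
theorem res_mem_span (M : X.Modules) {U V : X.Opens} (h : V ≤ U) (T : Set Γ(M, U)) (z : Γ(M, U))
    (hz : z ∈ Submodule.span Γ(X, U) T) :
    QcCech.res M h z ∈ Submodule.span Γ(X, V) ((fun t => QcCech.res M h t) '' T) := by
  induction hz using Submodule.span_induction with
  | mem x hx => exact Submodule.subset_span ⟨x, hx, rfl⟩
  | zero => rw [map_zero]; exact Submodule.zero_mem _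
  | add x y _ _ hx hy => rw [map_add]; exact Submodule.add_mem _ hx hy
  | smul r x _ hx => rw [QcCech.res_smul]; exact Submodule.smul_mem _ _ hx

/-- on an affine open, a quasi-coherent module is generated by its sections over that open -/
theorem affine_local_span (M : X.Modules) [M.IsQuasicoherent] {U : X.Opens} (hU : IsAffineOpen U)
    (O : X.Opens) (hO : O ≤ U) (t : Γ(M, O)) (y : X) (hy : y ∈ O) :
    ∃ (O' : X.Opens) (hO' : O' ≤ O), y ∈ O' ∧
      QcCech.res M hO' t ∈ Submodule.span Γ(X, O')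
        (Set.range fun h : Γ(M, U) => QcCech.res M (hO'.trans hO) h) := by
  obtain ⟨g, hgO, hyg⟩ := hU.exists_basicOpen_le (V := O) ⟨y, hy⟩ (hO hy)
  refine ⟨X.basicOpen g, hgO, hyg, ?_⟩
  obtain ⟨n, t', ht'⟩ := QcAbel.extP_of_isQuasicoherent M U hU g (X.basicOpen g) rfl
    (QcCech.res M hgO t)
  have hu : IsUnit (resR (X.basicOpen_le g) g) :=
    (GenLoc.isUnit_res_iff g (X.basicOpen g) (X.basicOpen_le g)).2 le_rfl
  obtain ⟨u, hu'⟩ := hu
  have h1 : QcCech.res M hgO t = ((u⁻¹ ^ n : (Γ(X, X.basicOpen g))ˣ) : Γ(X, X.basicOpen g)) •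
      QcCech.res M (X.basicOpen_le g) t' := by
    rw [ht', ← hu', smul_smul, ← Units.val_pow_eq_pow_val, ← Units.val_mul, ← mul_pow,
      inv_mul_cancel, one_pow, Units.val_one, one_smul]
  rw [h1]
  exact Submodule.smul_mem _ _ (Submodule.subset_span ⟨t', rfl⟩)

/-- every local section over an open inside `U` is locally a combination of global sections -/
def SpannedOn (G : X.Modules) (U : X.Opens) : Prop :=
  ∀ (O : X.Opens) (_ : O ≤ U) (t : Γ(G, O)) (y : X), y ∈ O →
    ∃ (O' : X.Opens) (hO' : O' ≤ O), y ∈ O' ∧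
      QcCech.res G hO' t ∈ Submodule.span Γ(X, O')
        (Set.range fun h : Γ(G, ⊤) => QcCech.res G (le_top : O' ≤ ⊤) h)

theorem isGloballyGenerated_of_spannedOn (G : X.Modules)
    (h : ∀ x : X, ∃ U : X.Opens, x ∈ U ∧ SpannedOn G U) : Curv2.IsGloballyGenerated G := by
  refine ⟨Γ(G, ⊤), GlobGen.ofSections (fun t : Γ(G, ⊤) => t), ?_⟩
  apply GlobGen.epi_of_mem_loc
  intro V t y hy
  obtain ⟨U, hyU, hU⟩ := h y
  obtain ⟨O', hO', hyO', hm⟩ := hU (V ⊓ U) inf_le_right (QcCech.res G inf_le_left t) y ⟨hy, hyU⟩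
  refine ⟨O', hO'.trans inf_le_left, hyO', ?_⟩
  rw [QcCech.res_res] at hm
  exact hm

theorem SpannedOn.of_iso {G G' : X.Modules} (e : G ≅ G') {U : X.Opens} (h : SpannedOn G U) :
    SpannedOn G' U := by
  intro O hO t y hy
  obtain ⟨O', hO', hyO', hm⟩ := h O hO (e.inv.app O t) y hy
  refine ⟨O', hO', hyO', ?_⟩
  have h1 : QcCech.res G' hO' t = e.hom.app O' (QcCech.res G hO' (e.inv.app O t)) := by
    rw [QcExt.app_res]
    have : e.hom.app O (e.inv.app O t) = t := by
      rw [← ConcreteCategory.comp_apply, ← Scheme.Modules.Hom.comp_app, e.inv_hom_id]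
      rfl
    rw [this]
  rw [h1]
  generalize QcCech.res G hO' (e.inv.app O t) = z at hm
  induction hm using Submodule.span_induction with
  | mem x hx =>
    obtain ⟨g, rfl⟩ := hx
    change e.hom.app O' (QcCech.res G _ g) ∈ _
    rw [QcExt.app_res]
    exact Submodule.subset_span ⟨e.hom.app ⊤ g, rfl⟩
  | zero => rw [map_zero]; exact Submodule.zero_mem _
  | add x y _ _ hx hy => rw [map_add]; exact Submodule.add_mem _ hx hy
  | smul r x _ hx => rw [Scheme.Modules.Hom.app_smul]; exact Submodule.smul_mem _ _ hx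

/-- **twists of a finitely generated quasi-coherent module are generated over `X_s` by global
sections** -/
theorem spannedOn_twist [CompactSpace X] [QuasiSeparatedSpace X] {A : X.Modules}
    (hA : PicF.IsInvertible A) (s : Coh.structureModule X ⟶ A)
    (haff : IsAffineOpen (CohB1.genLocus A s)) (F' : X.Modules) [F'.IsQuasicoherent]
    (hfin : Module.Finite Γ(X, CohB1.genLocus A s) Γ(F', CohB1.genLocus A s)) :
    ∃ j₀ : ℕ, ∀ j, j₀ ≤ j →
      SpannedOn (CohB1.tensorMod F' (CohB1.tensorPow A j)) (CohB1.genLocus A s) := by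
  classical
  obtain ⟨S, hS⟩ := hfin.fg_top
  choose n₀ hn₀ using fun h : Γ(F', CohB1.genLocus A s) => exists_twist_extends_ge hA s F' h
  refine ⟨S.sup n₀, fun j hj => ?_⟩
  have hext : ∀ h ∈ S, ∃ t' : Γ(CohB1.tensorMod F' (CohB1.tensorPow A j), ⊤),
      QcCech.res (CohB1.tensorMod F' (CohB1.tensorPow A j))
        (le_top : CohB1.genLocus A s ≤ ⊤) t' =
        SecTwist.twist s j F' (CohB1.genLocus A s) h :=
    fun h hh => hn₀ h j ((Finset.le_sup hh).trans hj)
  have hσ : IsGen (CohB1.tensorPow A j) (CohB1.genLocus A s)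
      (gpow (secVal s (CohB1.genLocus A s)) j) := isGen_gpow (isGen_secVal s le_rfl) j
  have h1 : ∀ h : Γ(F', CohB1.genLocus A s),
      tm F' (CohB1.tensorPow A j) _ h (gpow (secVal s (CohB1.genLocus A s)) j) ∈
        Submodule.span Γ(X, CohB1.genLocus A s)
          (Set.range fun g : Γ(CohB1.tensorMod F' (CohB1.tensorPow A j), ⊤) =>
            QcCech.res (CohB1.tensorMod F' (CohB1.tensorPow A j))
              (le_top : CohB1.genLocus A s ≤ ⊤) g) := by
    intro h
    have hh : h ∈ Submodule.span Γ(X, CohB1.genLocus A s) (S : Set Γ(F', CohB1.genLocus A s)) := by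
      rw [hS]; trivial
    induction hh using Submodule.span_induction with
    | mem x hx =>
      obtain ⟨t', ht'⟩ := hext x hx
      rw [twist_eq] at ht'
      exact Submodule.subset_span ⟨t', ht'⟩
    | zero => rw [tm_zero_left]; exact Submodule.zero_mem _
    | add x y _ _ hx hy => rw [tm_add_left]; exact Submodule.add_mem _ hx hy
    | smul r x _ hx => rw [tm_smul_left]; exact Submodule.smul_mem _ _ hx
  intro O hO t y hy
  obtain ⟨m, hm⟩ := (bijective_tm_of_isGen F' (hσ.res hO)).2 t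
  obtain ⟨O', hO', hyO', hspan⟩ := affine_local_span F' haff O hO m y hy
  refine ⟨O', hO', hyO', ?_⟩
  rw [← hm]
  change QcCech.res _ hO' (tm F' (CohB1.tensorPow A j) O m _) ∈ _
  rw [res_tm]
  generalize QcCech.res F' hO' m = m' at hspan
  induction hspan using Submodule.span_induction with
  | mem x hx =>
    obtain ⟨h, rfl⟩ := hx
    have h2 := res_mem_span (CohB1.tensorMod F' (CohB1.tensorPow A j)) (hO'.trans hO) _ _ (h1 h)
    rw [res_tm] at h2
    rw [QcCech.res_res]
    refine Submodule.span_mono ?_ h2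
    rintro _ ⟨_, ⟨g, rfl⟩, rfl⟩
    exact ⟨g, (QcCech.res_res _ _ _ _).symm⟩
  | zero => rw [tm_zero_left]; exact Submodule.zero_mem _
  | add x y _ _ hx hy => rw [tm_add_left]; exact Submodule.add_mem _ hx hy
  | smul r x _ hx => rw [tm_smul_left]; exact Submodule.smul_mem _ _ hx

/-- local form of the eventual global generation of twists -/
theorem exists_spannedOn_twists {L : X.Modules} (hL : CohB1.IsAmple L) (F : X.Modules)
    (hF : Coh.IsCoh F) (x : X) :
    ∃ (U : X.Opens) (n₀ : ℕ), x ∈ U ∧ ∀ n, n₀ ≤ n →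
      SpannedOn (CohB1.tensorMod F (CohB1.tensorPow L n)) U := by
  classical
  have : CompactSpace X := hL.2.1
  have : QuasiSeparatedSpace X := quasiSeparatedSpace_of_isAmple hL
  have : F.IsQuasicoherent := hF.1
  have hloc := locFrame_of_isInvertible hL.1 hL.1
  obtain ⟨W, a, hxW, ha⟩ := exists_isGen hL.1 x
  obtain ⟨k, s, hxs, hsW, haff⟩ := exists_genLocus_nbhd hL W x hxW
  have hA : PicF.IsInvertible (CohB1.tensorPow L (k + 1)) := isInvertible_tensorPow hL.1 (k + 1)
  let f : Frame L L (CohB1.genLocus _ s) :=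
    ⟨QcCech.res L hsW a, QcCech.res L hsW a, ha.res hsW, ha.res hsW⟩
  have h1 : ∀ r : ℕ, ∃ j₀ : ℕ, ∀ j, j₀ ≤ j →
      SpannedOn (CohB1.tensorMod (CohB1.tensorMod F (CohB1.tensorPow L r))
        (CohB1.tensorPow (CohB1.tensorPow L (k + 1)) j)) (CohB1.genLocus _ s) := by
    intro r
    let Tr := (Tw.self L L F).tensorR ((Tw.fst L L).pow r)
    have : (CohB1.tensorMod F (CohB1.tensorPow L r)).IsQuasicoherent := Tr.isQuasicoherent hloc
    exact spannedOn_twist hA s haff _ (Tr.finite_sections hF haff f)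
  choose j₀ hj₀ using h1
  refine ⟨CohB1.genLocus _ s, (k + 1) * (Finset.range (k + 1)).sup j₀, hxs, fun n hn => ?_⟩
  obtain ⟨r, j, hr, hrj⟩ : ∃ r j : ℕ, r < k + 1 ∧ r + (k + 1) * j = n :=
    ⟨n % (k + 1), n / (k + 1), Nat.mod_lt _ (Nat.succ_pos k), Nat.mod_add_div n (k + 1)⟩
  have hj : j₀ r ≤ j := by
    have h2 : j₀ r ≤ (Finset.range (k + 1)).sup j₀ := Finset.le_sup (Finset.mem_range.2 hr)
    refine h2.trans ?_
    by_contra hcon
    rw [not_le] at hcon
    have : (k + 1) * (j + 1) ≤ (k + 1) * (Finset.range (k + 1)).sup j₀ :=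
      Nat.mul_le_mul_left _ hcon
    nlinarith
  have h3 := hj₀ r j hj
  let e := Tw.iso
    (((Tw.self L L F).tensorR ((Tw.fst L L).pow r)).tensorR (((Tw.fst L L).pow (k + 1)).pow j))
    (((Tw.self L L F).tensorR ((Tw.fst L L).pow n)).cast
      (by subst hrj; push_cast; ring) (by simp)) hloc
  exact h3.of_iso e

/-- **twists of a coherent module by high powers of an ample module are globally generated** -/
theorem eventually_globallyGenerated {L : X.Modules} (hL : CohB1.IsAmple L) (F : X.Modules)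
    (hF : Coh.IsCoh F) :
    ∃ n₀ : ℕ, ∀ n, n₀ ≤ n →
      Curv2.IsGloballyGenerated (CohB1.tensorMod F (CohB1.tensorPow L n)) := by
  classical
  have : CompactSpace X := hL.2.1
  choose U n₀ hxU hU using exists_spannedOn_twists hL F hF
  obtain ⟨S, hS⟩ := isCompact_univ.elim_finite_subcover (fun x => ((U x : X.Opens) : Set X))
    (fun x => (U x).isOpen) (fun x _ => Set.mem_iUnion.2 ⟨x, hxU x⟩)
  refine ⟨S.sup n₀, fun n hn => ?_⟩
  apply isGloballyGenerated_of_spannedOn
  intro y
  obtain ⟨x, hxS, hyx⟩ : ∃ x ∈ S, y ∈ U x := by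
    have := hS (Set.mem_univ y)
    simpa using this
  exact ⟨U x, hyx, hU x n ((Finset.le_sup hxS).trans hn)⟩

end Groth.Agent.Helper1.AmpleLib
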