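import Mathlib
import Groth.Agent.Lib.Helper1.InvQc
import Groth.Agent.Lib.Helper1.FtLocal

set_option autoImplicit false
universe u
open CategoryTheory CategoryTheory.Limits AlgebraicGeometry TopologicalSpace Opposite

namespace Groth.Agent.Helper1.InvQc

variable {X : Scheme.{u}}

/-- invertible modules are of finite type -/
theorem isFiniteType_of_isInvertible (L : X.Modules) (hL : PicF.IsInvertible L) :
    SheafOfModules.IsFiniteType.{u, u, u} L := by
  choose U hxU e using hL
  refine FtLocal.isFiniteType_of_cover L U ?_ fun x => ?_
  · exact top_le_iff.mp fun x _ => Opens.mem_iSup.mpr ⟨x, hxU x⟩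
  · refine ⟨(presentationUnit.ofIsIso (e x).some.inv).generators, ?_⟩
    constructor
    change Finite PUnit.{u+1}
    infer_instance

theorem isCoh_of_isInvertible (L : X.Modules) (hL : PicF.IsInvertible L) : Coh.IsCoh L :=
  ⟨isQuasicoherent_of_isInvertible L hL, isFiniteType_of_isInvertible L hL⟩

end Groth.Agent.Helper1.InvQc
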