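import Mathlib
import Groth.Agent.Lib.Helper1.AmpleLib3
import Groth.Agent.Lib.Helper1.InvFt

set_option autoImplicit false
universe u
open CategoryTheory CategoryTheory.Limits AlgebraicGeometry TopologicalSpace Opposite

namespace Groth.Agent.Helper1.AmpleLib

open Groth.Agent.Helper1.QcCech Groth.Agent.Helper1.SubSh Groth.Agent.Helper1.LGen
open Groth.Agent.Helper1.TmulLib Groth.Agent.Helper1 Groth.Agent.Helper1.TwistSec
open Groth.Agent.Helper1.TensGen Groth.Agent.Helper1.TwForm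

variable {X : Scheme.{u}}

theorem isGloballyGenerated_of_iso {M M' : X.Modules} (e : M ≅ M')
    (h : Curv2.IsGloballyGenerated M) : Curv2.IsGloballyGenerated M' := by
  obtain ⟨ι, p, hp⟩ := h
  exact ⟨ι, p ≫ e.hom, epi_comp _ _⟩

/-- a globally generated invertible module has, at each point, a global section generating
there -/
theorem exists_section_of_globallyGenerated {M : X.Modules} (hM : PicF.IsInvertible M)
    (hg : Curv2.IsGloballyGenerated M) (x : X) :
    ∃ s : Coh.structureModule X ⟶ M, x ∈ CohB1.genLocus M s := by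
  obtain ⟨ι, p, hp⟩ := hg
  let σ : ι → Γ(M, ⊤) := fun i => (M.freeHomEquiv p i).1 (op ⊤)
  have hp' : Epi (GlobGen.ofSections σ) := by
    rw [← GlobGen.eq_ofSections p]
    exact hp
  obtain ⟨W, a, hxW, ha⟩ := exists_isGen hM x
  obtain ⟨O', hO', hxO', hm⟩ := GlobGen.mem_loc_of_epi σ (U := W) a x hxW
  have ha' := ha.res hO'
  choose φ hφ using fun i => ha'.exists_coeff (QcCech.res M (le_top : O' ≤ ⊤) (σ i))
  -- the ideal of functions vanishing at `x`
  let I : Ideal Γ(X, O') :=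
    Ideal.comap (X.presheaf.germ O' x hxO').hom (IsLocalRing.maximalIdeal _)
  have hI : ∀ f : Γ(X, O'), f ∈ I ↔ x ∉ X.basicOpen f := by
    intro f
    rw [Scheme.mem_basicOpen _ _ _ hxO']
    exact Iff.rfl
  have key : ∀ z ∈ (GlobGen.spanPre σ).carrier O',
      ∃ ψ ∈ Ideal.span (Set.range φ), z = ψ • QcCech.res M hO' a := by
    intro z hz
    induction hz using Submodule.span_induction with
    | mem z hz =>
      obtain ⟨i, rfl⟩ := hz
      exact ⟨φ i, Ideal.subset_span ⟨i, rfl⟩, (hφ i).symm⟩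
    | zero => exact ⟨0, Ideal.zero_mem _, by rw [zero_smul]⟩
    | add y z _ _ hy hz =>
      obtain ⟨ψ, hψ, rfl⟩ := hy
      obtain ⟨ψ', hψ', rfl⟩ := hz
      exact ⟨ψ + ψ', Ideal.add_mem _ hψ hψ', by rw [add_smul]⟩
    | smul r z _ hz =>
      obtain ⟨ψ, hψ, rfl⟩ := hz
      exact ⟨r * ψ, Ideal.mul_mem_left _ _ hψ, by rw [mul_smul]⟩
  obtain ⟨ψ, hψ, hψa⟩ := key _ hm
  have hψ1 : ψ = 1 := by
    apply (IsGen.bijective_self ha').1
    change ψ • QcCech.res M hO' a = (1 : Γ(X, O')) • QcCech.res M hO' a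
    rw [one_smul, ← hψa]
  have hex : ∃ i, x ∈ X.basicOpen (φ i) := by
    by_contra hcon
    rw [not_exists] at hcon
    have h1 : Ideal.span (Set.range φ) ≤ I := by
      rw [Ideal.span_le]
      rintro _ ⟨i, rfl⟩
      exact (hI _).2 (hcon i)
    have h2 : (1 : Γ(X, O')) ∈ I := hψ1 ▸ h1 hψ
    have h3 := (hI 1).1 h2
    apply h3
    rw [Scheme.basicOpen_of_isUnit _ isUnit_one]
    exact hxO'
  obtain ⟨i, hi⟩ := hex
  refine ⟨TwistAmple.homOfSec M (σ i), ?_⟩
  have h4 := genLocus_inf_eq_basicOpen (TwistAmple.homOfSec M (σ i)) ha' (φ i)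
    (by rw [secVal_homOfSec]; exact hφ i)
  have h5 : x ∈ CohB1.genLocus M (TwistAmple.homOfSec M (σ i)) ⊓ O' := by
    rw [h4]; exact hi
  exact h5.1

/-- `L` ample and `L'` invertible with `X` covered by the `X_{s'}` ⟹ `L ⊗ L'` ample -/
theorem isAmple_tensor [CompactSpace X] {L L' : X.Modules} (hL : CohB1.IsAmple L)
    (hL' : PicF.IsInvertible L')
    (h : ∀ x : X, ∃ (n : ℕ) (s' : Coh.structureModule X ⟶ CohB1.tensorPow L' (n + 1)),
      x ∈ CohB1.genLocus _ s') :
    CohB1.IsAmple (CohB1.tensorMod L L') := by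
  have hloc := locFrame_of_isInvertible hL.1 hL'
  refine ⟨isInvertible_tensorMod hL.1 hL', inferInstance, fun x => ?_⟩
  obtain ⟨m, s', hxs'⟩ := h x
  obtain ⟨k, s, hxs, hss', haff⟩ := exists_genLocus_nbhd hL (CohB1.genLocus _ s') x hxs'
  have hAk := isInvertible_tensorPow hL.1 (k + 1)
  have hAm := isInvertible_tensorPow hL' (m + 1)
  have h1 := genLocus_powHom hAk s m
  have h2 := genLocus_powHom hAm s' k
  have h3 := genLocus_tmulHom (isInvertible_tensorPow hAk (m + 1))
    (isInvertible_tensorPow hAm (k + 1)) (SecTwist.powHom s (m + 1)) (SecTwist.powHom s' (k + 1))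
  rw [h1, h2, inf_eq_left.mpr hss'] at h3
  let e := Tw.iso
    ((((Tw.fst L L').pow (k + 1)).pow (m + 1)).tensorR (((Tw.snd L L').pow (m + 1)).pow (k + 1)))
    ((((Tw.fst L L').tensorR (Tw.snd L L')).pow (k * (m + 1) + m + 1)).cast
        (by push_cast; ring) (by push_cast; ring)) hloc
  refine ⟨k * (m + 1) + m,
    SecTwist.tmulHom (SecTwist.powHom s (m + 1)) (SecTwist.powHom s' (k + 1)) ≫ e.hom, ?_, ?_⟩
  · rw [TwistAmple.genLocus_comp_iso, h3]; exact hxs
  · rw [TwistAmple.genLocus_comp_iso, h3]; exact haff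

/-- `L ⊗ M` is ample for `L` ample and `M` invertible and globally generated -/
theorem isAmple_tensor_of_globallyGenerated [CompactSpace X] {L M : X.Modules}
    (hL : CohB1.IsAmple L) (hM : PicF.IsInvertible M) (hg : Curv2.IsGloballyGenerated M) :
    CohB1.IsAmple (CohB1.tensorMod L M) := by
  apply isAmple_tensor hL hM
  intro x
  obtain ⟨s, hs⟩ := exists_section_of_globallyGenerated hM hg x
  obtain ⟨e0⟩ := TwistAmpleOpen.nonempty_tensorMod_unit_iso M
  refine ⟨0, s ≫ e0.symm.hom, ?_⟩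
  have := TwistAmple.genLocus_comp_iso s e0.symm
  change x ∈ CohB1.genLocus (CohB1.tensorMod (Coh.structureModule X) M) (s ≫ e0.symm.hom)
  rw [this]
  exact hs

/-- **EGA II 4.5.8**: for `L` ample and `L'` invertible, `L^{⊗ n} ⊗ L'` is ample and globally
generated for `n` large -/
theorem eventually_ample_globallyGenerated [CompactSpace X] {L L' : X.Modules}
    (hL : CohB1.IsAmple L) (hL' : PicF.IsInvertible L') :
    ∃ n₀ : ℕ, 0 < n₀ ∧ ∀ n, n₀ ≤ n →
      CohB1.IsAmple (CohB1.tensorMod (CohB1.tensorPow L n) L') ∧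
        Curv2.IsGloballyGenerated (CohB1.tensorMod (CohB1.tensorPow L n) L') := by
  have hloc := locFrame_of_isInvertible hL.1 hL'
  obtain ⟨n₁, hn₁⟩ := eventually_globallyGenerated hL L' (InvQc.isCoh_of_isInvertible L' hL')
  refine ⟨n₁ + 1, Nat.succ_pos _, fun n hn => ?_⟩
  obtain ⟨n', rfl⟩ : ∃ n', n = n' + 1 := ⟨n - 1, by omega⟩
  constructor
  · -- `L^{n'+1} ⊗ L' ≅ L ⊗ (L' ⊗ L^{n'})`
    have hM : PicF.IsInvertible (CohB1.tensorMod L' (CohB1.tensorPow L n')) :=
      isInvertible_tensorMod hL' (isInvertible_tensorPow hL.1 n')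
    have h1 := isAmple_tensor_of_globallyGenerated hL hM (hn₁ n' (by omega))
    let e := Tw.iso
      ((Tw.fst L L').tensorR ((Tw.snd L L').tensorR ((Tw.fst L L').pow n')))
      ((((Tw.fst L L').pow (n' + 1)).tensorR (Tw.snd L L')).cast
        (by push_cast; ring) (by push_cast; ring)) hloc
    exact TwistAmpleOpen.isAmple_of_iso e h1
  · let e := Tw.iso
      ((Tw.snd L L').tensorR ((Tw.fst L L').pow (n' + 1)))
      ((((Tw.fst L L').pow (n' + 1)).tensorR (Tw.snd L L')).cast
        (by push_cast; ring) (by push_cast; ring)) hloc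
    exact isGloballyGenerated_of_iso e (hn₁ (n' + 1) (by omega))

end Groth.Agent.Helper1.AmpleLib
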