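import Mathlib
import Groth.Agent.Lib.Helper1.TwForm5

set_option autoImplicit false
universe u
open CategoryTheory CategoryTheory.Limits AlgebraicGeometry TopologicalSpace Opposite

namespace Groth.Agent.Helper1.TwForm

open Groth.Agent.Helper1.QcCech Groth.Agent.Helper1.SubSh Groth.Agent.Helper1.LGen
open Groth.Agent.Helper1.TmulLib Groth.Agent.Helper1 Groth.Agent.Helper1.TwistSec
open Groth.Agent.Helper1.TensGen

variable {X Y : Scheme.{u}} (j : Y ⟶ X) [IsOpenImmersion j]

/-- generators of a restriction are generators over the image -/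
theorem isGen_image_of_isGen_restrict (L : X.Modules) (W' : Y.Opens) (a : Γ(L, j ''ᵁ W'))
    (ha : IsGen (L.restrict j) W' (show Γ(L.restrict j, W') from a)) : IsGen L (j ''ᵁ W') a := by
  intro V hV
  obtain ⟨V', rfl⟩ : ∃ V' : Y.Opens, V = j ''ᵁ V' :=
    ⟨j ⁻¹ᵁ V, (image_preimage_eq_of_le j (hV.trans (j.image_le_opensRange W'))).symm⟩
  have hV' : V' ≤ W' := by
    have := j.preimage_mono hV
    rwa [Scheme.Hom.preimage_image_eq, Scheme.Hom.preimage_image_eq] at this
  have h1 := ha V' hV'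
  have hb2 : Function.Bijective ((j.appIso V').hom.hom) :=
    (ConcreteCategory.isIso_iff_bijective (j.appIso V').hom).1 inferInstance
  have : (fun r : Γ(X, j ''ᵁ V') => r • QcCech.res L hV a) =
      (fun r' : Γ(Y, V') => (show Γ(L, j ''ᵁ V') from
        (r' • QcCech.res (L.restrict j) hV' (show Γ(L.restrict j, W') from a)))) ∘
        (fun r : Γ(X, j ''ᵁ V') => (j.appIso V').hom.hom r) := by
    funext r
    change _ = (show Γ(L, j ''ᵁ V') from ((j.appIso V').hom.hom r •
      QcCech.res (L.restrict j) hV' (show Γ(L.restrict j, W') from a)))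
    rw [smul_restrict]
    change r • QcCech.res L hV a =
      (j.appIso V').inv.hom ((j.appIso V').hom.hom r) • QcCech.res L _ a
    congr 1
    exact (congr($((j.appIso V').hom_inv_id) r)).symm
  rw [this]
  exact h1.comp hb2

/-- generators over the image are generators of the restriction -/
theorem isGen_restrict_of_isGen_image (L : X.Modules) (W' : Y.Opens) (a : Γ(L, j ''ᵁ W'))
    (ha : IsGen L (j ''ᵁ W') a) : IsGen (L.restrict j) W' (show Γ(L.restrict j, W') from a) := by
  intro V' hV'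
  have h1 := ha (j ''ᵁ V') (j.image_mono hV')
  have hb2 : Function.Bijective ((j.appIso V').inv.hom) :=
    (ConcreteCategory.isIso_iff_bijective (j.appIso V').inv).1 inferInstance
  have : (fun r : Γ(Y, V') => r • QcCech.res (L.restrict j) hV'
        (show Γ(L.restrict j, W') from a)) =
      (fun r' : Γ(X, j ''ᵁ V') => (show Γ(L.restrict j, V') from
        r' • QcCech.res L (j.image_mono hV') a)) ∘
        (fun r : Γ(Y, V') => (j.appIso V').inv.hom r) := by
    funext r
    rw [smul_restrict]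
    rfl
  rw [this]
  exact h1.comp hb2

variable {j}

/-- the frame over the image of an open attached to a frame of the restrictions -/
noncomputable def Frame.image {L₁ L₂ : X.Modules} {W' : Y.Opens}
    (f : Frame (L₁.restrict j) (L₂.restrict j) W') : Frame L₁ L₂ (j ''ᵁ W') :=
  ⟨f.a₁, f.a₂, isGen_image_of_isGen_restrict j L₁ W' f.a₁ f.h₁,
    isGen_image_of_isGen_restrict j L₂ W' f.a₂ f.h₂⟩

/-- the frame of the restrictions attached to a frame over the image of an open -/
noncomputable def Frame.ofImage {L₁ L₂ : X.Modules} {W' : Y.Opens}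
    (f : Frame L₁ L₂ (j ''ᵁ W')) : Frame (L₁.restrict j) (L₂.restrict j) W' :=
  ⟨f.a₁, f.a₂, isGen_restrict_of_isGen_image j L₁ W' f.a₁ f.h₁,
    isGen_restrict_of_isGen_image j L₂ W' f.a₂ f.h₂⟩

theorem Frame.image_res {L₁ L₂ : X.Modules} {W' V' : Y.Opens}
    (f : Frame (L₁.restrict j) (L₂.restrict j) W') (h : V' ≤ W') :
    (f.res h).image = f.image.res (j.image_mono h) :=
  Frame.ext' rfl rfl

/-- transport of units along `appIso` -/
noncomputable def unitImage (W' : Y.Opens) (u : (Γ(Y, W'))ˣ) : (Γ(X, j ''ᵁ W'))ˣ :=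
  Units.map ((j.appIso W').inv.hom : Γ(Y, W') →* Γ(X, j ''ᵁ W')) u

theorem Frame.image_smul₁ {L₁ L₂ : X.Modules} {W' : Y.Opens}
    (f : Frame (L₁.restrict j) (L₂.restrict j) W') (u : (Γ(Y, W'))ˣ) :
    (f.smul₁ u).image = f.image.smul₁ (unitImage W' u) :=
  Frame.ext' rfl rfl

theorem Frame.image_smul₂ {L₁ L₂ : X.Modules} {W' : Y.Opens}
    (f : Frame (L₁.restrict j) (L₂.restrict j) W') (u : (Γ(Y, W'))ˣ) :
    (f.smul₂ u).image = f.image.smul₂ (unitImage W' u) :=
  Frame.ext' rfl rfl

theorem unitImage_zpow (W' : Y.Opens) (u : (Γ(Y, W'))ˣ) (d : ℤ) :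
    ((unitImage (j := j) W' u ^ d : (Γ(X, j ''ᵁ W'))ˣ) : Γ(X, j ''ᵁ W')) =
      (j.appIso W').inv.hom ((u ^ d : (Γ(Y, W'))ˣ) : Γ(Y, W')) := by
  rw [unitImage, ← map_zpow]
  rfl

/-- restriction of a form to an open subscheme -/
noncomputable def Tw.restrict {L₁ L₂ F G : X.Modules} {d₁ d₂ : ℤ} (T : Tw L₁ L₂ F d₁ d₂ G)
    (j : Y ⟶ X) [IsOpenImmersion j] :
    Tw (L₁.restrict j) (L₂.restrict j) (F.restrict j) d₁ d₂ (G.restrict j) where
  θ W' f m := T.θ (j ''ᵁ W') f.image m
  bij W' f := T.bij _ _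
  add W' f := T.add _ _
  smul W' f r m :=
    (congrArg (T.θ (j ''ᵁ W') f.image) (smul_restrict (F := F) j W' r m)).trans
      ((T.smul (j ''ᵁ W') f.image ((j.appIso W').inv r) m).trans
        (smul_restrict (F := G) j W' r (T.θ (j ''ᵁ W') f.image m)).symm)
  res W' V' h f m :=
    (T.res (j ''ᵁ W') (j ''ᵁ V') (j.image_mono h) f.image m).trans
      (congrArg (fun g => T.θ (j ''ᵁ V') g (QcCech.res F (j.image_mono h) m))
        (Frame.image_res f h).symm)
  unit₁ W' f u m :=
    (congrArg (fun g => T.θ (j ''ᵁ W') g m) (Frame.image_smul₁ f u)).trans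
      ((T.unit₁ (j ''ᵁ W') f.image (unitImage W' u) m).trans
        ((congrArg (fun c => c • T.θ (j ''ᵁ W') f.image m) (unitImage_zpow W' u d₁)).trans
          (smul_restrict (F := G) j W' _ (T.θ (j ''ᵁ W') f.image m)).symm))
  unit₂ W' f u m :=
    (congrArg (fun g => T.θ (j ''ᵁ W') g m) (Frame.image_smul₂ f u)).trans
      ((T.unit₂ (j ''ᵁ W') f.image (unitImage W' u) m).trans
        ((congrArg (fun c => c • T.θ (j ''ᵁ W') f.image m) (unitImage_zpow W' u d₂)).trans
          (smul_restrict (F := G) j W' _ (T.θ (j ''ᵁ W') f.image m)).symm))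

/-- change of the module `F` along an isomorphism -/
noncomputable def Tw.ofIsoF {L₁ L₂ F F' G : X.Modules} {d₁ d₂ : ℤ} (T : Tw L₁ L₂ F d₁ d₂ G)
    (e : F ≅ F') : Tw L₁ L₂ F' d₁ d₂ G where
  θ W f m := T.θ W f (e.inv.app W m)
  bij W f := by
    have : IsIso (e.inv.app W) := inferInstance
    exact (T.bij W f).comp ((ConcreteCategory.isIso_iff_bijective _).1 this)
  add W f m m' := by rw [map_add, T.add]
  smul W f r m := by rw [Scheme.Modules.Hom.app_smul, T.smul]
  res W V h f m := by rw [T.res, QcExt.app_res]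
  unit₁ W f u m := T.unit₁ W f u _
  unit₂ W f u m := T.unit₂ W f u _

end Groth.Agent.Helper1.TwForm
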