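import Mathlib
import Groth.Agent.Lib.Helper1.TwRestr
import Groth.Agent.Lib.Helper1.AmpleLib4

set_option autoImplicit false
universe u
open CategoryTheory CategoryTheory.Limits AlgebraicGeometry TopologicalSpace Opposite

namespace Groth.Agent.Helper1.AmpleLib

open Groth.Agent.Helper1.QcCech Groth.Agent.Helper1.SubSh Groth.Agent.Helper1.LGen
open Groth.Agent.Helper1.TmulLib Groth.Agent.Helper1 Groth.Agent.Helper1.TwistSec
open Groth.Agent.Helper1.TensGen Groth.Agent.Helper1.TwForm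

variable {X Y : Scheme.{u}} (j : Y ⟶ X) [IsOpenImmersion j]

theorem locFrame_restrict {L₁ L₂ : X.Modules} (h : LocFrame L₁ L₂) :
    LocFrame (L₁.restrict j) (L₂.restrict j) := by
  intro y
  obtain ⟨W, hyW, ⟨f⟩⟩ := h (j y)
  exact ⟨j ⁻¹ᵁ W, hyW, ⟨(f.res (j.image_preimage_le W)).ofImage⟩⟩

theorem isInvertible_restrict {L : X.Modules} (hL : PicF.IsInvertible L) :
    PicF.IsInvertible (L.restrict j) :=
  (((Tw.fst L L).restrict j).ofIsoF (Scheme.Modules.restrictUnitIso j)).isInvertible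
    (locFrame_restrict j (locFrame_of_isInvertible hL hL))

/-- restriction to an open subscheme commutes with tensor powers of an invertible module -/
noncomputable def restrictTensorPowIso {L : X.Modules} (hL : PicF.IsInvertible L) (n : ℕ) :
    (CohB1.tensorPow L n).restrict j ≅ CohB1.tensorPow (L.restrict j) n :=
  Tw.iso ((((Tw.fst L L).pow n).restrict j).ofIsoF (Scheme.Modules.restrictUnitIso j))
    (((((Tw.fst L L).restrict j).ofIsoF (Scheme.Modules.restrictUnitIso j)).pow n).cast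
      (by ring) (by ring))
    (locFrame_restrict j (locFrame_of_isInvertible hL hL))

theorem mem_genLocus_iff_isGen {L : X.Modules} (s : Coh.structureModule X ⟶ L) (x : X) :
    x ∈ CohB1.genLocus L s ↔ ∃ W : X.Opens, x ∈ W ∧ IsGen L W (secVal s W) :=
  ⟨fun h => ⟨_, h, isGen_secVal s le_rfl⟩, fun ⟨_, hxW, hW⟩ => le_genLocus_of_isGen s hW hxW⟩

/-- sections of a restriction versus sections of the module: the loci of generation -/
theorem genLocus_restrict_eq {A : X.Modules} (s : Coh.structureModule X ⟶ A)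
    (s' : Coh.structureModule Y ⟶ A.restrict j)
    (h : ∀ W' : Y.Opens, (show Γ(A, j ''ᵁ W') from secVal s' W') = secVal s (j ''ᵁ W')) :
    CohB1.genLocus (A.restrict j) s' = j ⁻¹ᵁ CohB1.genLocus A s := by
  ext y
  change y ∈ CohB1.genLocus (A.restrict j) s' ↔ j y ∈ CohB1.genLocus A s
  rw [mem_genLocus_iff_isGen, mem_genLocus_iff_isGen]
  constructor
  · rintro ⟨W', hyW', hW'⟩
    refine ⟨j ''ᵁ W', ⟨y, hyW', rfl⟩, ?_⟩
    rw [← h W']
    exact isGen_image_of_isGen_restrict j A W' _ hW'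
  · rintro ⟨W, hyW, hW⟩
    refine ⟨j ⁻¹ᵁ W, hyW, ?_⟩
    have h1 := hW.res (j.image_preimage_le W)
    rw [res_secVal, ← h (j ⁻¹ᵁ W)] at h1
    exact isGen_restrict_of_isGen_image j A _ _ h1

/-- the restriction of a global section -/
noncomputable def restrictSec {A : X.Modules} (s : Coh.structureModule X ⟶ A) :
    Coh.structureModule Y ⟶ A.restrict j :=
  (Scheme.Modules.restrictUnitIso j).inv ≫ (Scheme.Modules.restrictFunctor j).map s

theorem secVal_restrictSec {A : X.Modules} (s : Coh.structureModule X ⟶ A) (W' : Y.Opens) :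
    (show Γ(A, j ''ᵁ W') from secVal (restrictSec j s) W') = secVal s (j ''ᵁ W') := by
  have h1 : (Scheme.Modules.restrictUnitIso j).inv.app W'
      (show Γ(Coh.structureModule Y, W') from (1 : Γ(Y, W'))) =
      (show Γ((Coh.structureModule X).restrict j, W') from (1 : Γ(X, j ''ᵁ W'))) :=
    map_one (j.appIso W').inv.hom
  have h2 := app_eq_smul (restrictSec j s) W' 1
  rw [one_smul] at h2
  have h3 := app_eq_smul s (j ''ᵁ W') 1
  rw [one_smul] at h3
  rw [← h2, ← h3]
  change (Scheme.Modules.Hom.app s (j ''ᵁ W'))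
    ((Scheme.Modules.restrictUnitIso j).inv.app W' _) = _
  rw [h1]

theorem genLocus_restrictSec {A : X.Modules} (s : Coh.structureModule X ⟶ A) :
    CohB1.genLocus (A.restrict j) (restrictSec j s) = j ⁻¹ᵁ CohB1.genLocus A s :=
  genLocus_restrict_eq j s _ (secVal_restrictSec j s)

/-- the restriction of an ample module to a quasi-compact open is ample -/
theorem isAmple_restrict_of_isCompact {L : X.Modules} (hL : CohB1.IsAmple L) (U : X.Opens)
    (hU : IsCompact (U : Set X)) : CohB1.IsAmple (L.restrict U.ι) := by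
  refine ⟨isInvertible_restrict U.ι hL.1, isCompact_iff_compactSpace.mp hU, fun y => ?_⟩
  obtain ⟨N, s, hxs, hsU, haff⟩ := exists_genLocus_nbhd hL U y.1 y.2
  have h1 := genLocus_restrictSec U.ι s
  let e := restrictTensorPowIso U.ι hL.1 (N + 1)
  refine ⟨N, restrictSec U.ι s ≫ e.hom, ?_, ?_⟩
  · rw [TwistAmple.genLocus_comp_iso, h1]
    exact hxs
  · rw [TwistAmple.genLocus_comp_iso, h1]
    apply (Scheme.Hom.isAffineOpen_iff_of_isOpenImmersion U.ι).1
    rw [Scheme.Hom.image_preimage_eq_opensRange_inf, Scheme.Opens.opensRange_ι,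
      inf_eq_right.mpr hsU]
    exact haff

/-- ampleness of the restriction to the whole space gives ampleness -/
theorem isAmple_of_restrict_top {L : X.Modules} (hinv : PicF.IsInvertible L) (U : X.Opens)
    (hU : U = ⊤) (h : CohB1.IsAmple (L.restrict U.ι)) : CohB1.IsAmple L := by
  have hc : CompactSpace X := by
    have h1 : CompactSpace ↥U := h.2.1
    have h2 : IsCompact (U : Set X) := isCompact_iff_compactSpace.mpr h1
    rw [hU] at h2
    exact ⟨h2⟩
  refine ⟨hinv, hc, fun x => ?_⟩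
  have hxU : x ∈ U := hU ▸ trivial
  obtain ⟨n, s', hy, haff⟩ := h.2.2 ⟨x, hxU⟩
  let A := CohB1.tensorPow L (n + 1)
  let s'' : Coh.structureModule (↑U : Scheme.{u}) ⟶ A.restrict U.ι :=
    s' ≫ (restrictTensorPowIso U.ι hinv (n + 1)).inv
  have hs'' : CohB1.genLocus _ s'' = CohB1.genLocus _ s' :=
    TwistAmple.genLocus_comp_iso s' (restrictTensorPowIso U.ι hinv (n + 1)).symm
  have htop : (⊤ : X.Opens) ≤ U.ι ''ᵁ ⊤ := by
    rw [Scheme.Hom.image_top_eq_opensRange, Scheme.Opens.opensRange_ι, hU]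
  let σ : Γ(A, U.ι ''ᵁ ⊤) := secVal s'' ⊤
  let s : Coh.structureModule X ⟶ A := TwistAmple.homOfSec A (QcCech.res A htop σ)
  have hcond : ∀ W' : (↑U : Scheme.{u}).Opens,
      (show Γ(A, U.ι ''ᵁ W') from secVal s'' W') = secVal s (U.ι ''ᵁ W') := by
    intro W'
    rw [secVal_homOfSec, QcCech.res_res, ← res_secVal s'' (le_top : W' ≤ ⊤), res_restrict]
  have h1 := genLocus_restrict_eq U.ι s s'' hcond
  rw [hs''] at h1
  refine ⟨n, s, ?_, ?_⟩
  · have : (⟨x, hxU⟩ : ↥U) ∈ U.ι ⁻¹ᵁ CohB1.genLocus A s := h1 ▸ hy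
    exact this
  · rw [h1] at haff
    have h2 := haff.image_of_isOpenImmersion U.ι
    rwa [Scheme.Hom.image_preimage_eq_opensRange_inf, Scheme.Opens.opensRange_ι, hU,
      top_inf_eq] at h2

/-- `L` is ample iff `L^{⊗ n}` is, for `n > 0` -/
theorem isAmple_tensorPow_iff {L : X.Modules} (hL : PicF.IsInvertible L) (n : ℕ) (hn : 0 < n) :
    CohB1.IsAmple L ↔ CohB1.IsAmple (CohB1.tensorPow L n) := by
  obtain ⟨n', rfl⟩ : ∃ n', n = n' + 1 := ⟨n - 1, by omega⟩
  have hloc := locFrame_of_isInvertible hL hL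
  constructor
  · intro hA
    refine ⟨isInvertible_tensorPow hL _, hA.2.1, fun x => ?_⟩
    obtain ⟨k, s, hxs, haff⟩ := hA.2.2 x
    have hAk := isInvertible_tensorPow hL (k + 1)
    have h1 := genLocus_powHom hAk s n'
    let e := Tw.iso (((Tw.fst L L).pow (k + 1)).pow (n' + 1))
      ((((Tw.fst L L).pow (n' + 1)).pow (k + 1)).cast (by push_cast; ring) (by simp)) hloc
    refine ⟨k, SecTwist.powHom s (n' + 1) ≫ e.hom, ?_, ?_⟩
    · rw [TwistAmple.genLocus_comp_iso, h1]; exact hxs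
    · rw [TwistAmple.genLocus_comp_iso, h1]; exact haff
  · intro hA
    refine ⟨hL, hA.2.1, fun x => ?_⟩
    obtain ⟨k, s, hxs, haff⟩ := hA.2.2 x
    obtain ⟨s', hs'⟩ := exists_section_tensorPow hL (n' * (k + 1) + k)
      ((((Tw.fst L L).pow (n' + 1)).pow (k + 1)).cast (by push_cast; ring) (by simp)) s
    refine ⟨n' * (k + 1) + k, s', ?_, ?_⟩
    · rw [hs']; exact hxs
    · rw [hs']; exact haff

theorem isInvertible_of_restrict_top {L : X.Modules} (U : X.Opens) (hU : U = ⊤)
    (h : PicF.IsInvertible (L.restrict U.ι)) : PicF.IsInvertible L := by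
  apply isInvertible_of_locGen
  intro x
  have hxU : x ∈ U := hU ▸ trivial
  obtain ⟨W', a, hyW', ha⟩ := exists_isGen h (⟨x, hxU⟩ : ↥U)
  exact ⟨U.ι ''ᵁ W', a, ⟨⟨x, hxU⟩, hyW', rfl⟩, isGen_image_of_isGen_restrict U.ι L W' a ha⟩

end Groth.Agent.Helper1.AmpleLib
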