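import Mathlib
import Groth.Agent.Lib.Helper1.AmpleRestr

set_option autoImplicit false
universe u
open CategoryTheory CategoryTheory.Limits AlgebraicGeometry TopologicalSpace Opposite

namespace Groth.Agent.Helper1.AmpleLib

open Groth.Agent.Helper1.QcCech Groth.Agent.Helper1.SubSh Groth.Agent.Helper1.LGen
open Groth.Agent.Helper1.TmulLib Groth.Agent.Helper1 Groth.Agent.Helper1.TwistSec
open Groth.Agent.Helper1.TensGen Groth.Agent.Helper1.TwForm

variable {X Y : Scheme.{u}} (j : Y ⟶ X) [IsOpenImmersion j]

theorem isInvertible_of_restrict_surj {L : X.Modules} (hj : j.opensRange = ⊤)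
    (h : PicF.IsInvertible (L.restrict j)) : PicF.IsInvertible L := by
  apply isInvertible_of_locGen
  intro x
  have hx : x ∈ j.opensRange := hj ▸ trivial
  obtain ⟨y, rfl⟩ := hx
  obtain ⟨W', a, hyW', ha⟩ := exists_isGen h y
  exact ⟨j ''ᵁ W', a, ⟨y, hyW', rfl⟩, isGen_image_of_isGen_restrict j L W' a ha⟩

/-- ampleness of the restriction along a surjective open immersion gives ampleness -/
theorem isAmple_of_restrict_surj {L : X.Modules} (hj : j.opensRange = ⊤)
    (h : CohB1.IsAmple (L.restrict j)) : CohB1.IsAmple L := by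
  have hinv : PicF.IsInvertible L := isInvertible_of_restrict_surj j hj h.1
  have hc : CompactSpace X := by
    have h1 : CompactSpace Y := h.2.1
    have h2 : IsCompact (Set.range j) := isCompact_range j.continuous
    have h3 : Set.range j = Set.univ := by
      have := congrArg (fun U : X.Opens => (U : Set X)) hj
      simpa using this
    rw [h3] at h2
    exact ⟨h2⟩
  refine ⟨hinv, hc, fun x => ?_⟩
  have hx : x ∈ j.opensRange := hj ▸ trivial
  obtain ⟨y, rfl⟩ := hx
  obtain ⟨n, s', hy, haff⟩ := h.2.2 y
  let A := CohB1.tensorPow L (n + 1)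
  let s'' : Coh.structureModule Y ⟶ A.restrict j :=
    s' ≫ (restrictTensorPowIso j hinv (n + 1)).inv
  have hs'' : CohB1.genLocus _ s'' = CohB1.genLocus _ s' :=
    TwistAmple.genLocus_comp_iso s' (restrictTensorPowIso j hinv (n + 1)).symm
  have htop : (⊤ : X.Opens) ≤ j ''ᵁ ⊤ := by
    rw [Scheme.Hom.image_top_eq_opensRange, hj]
  let σ : Γ(A, j ''ᵁ ⊤) := secVal s'' ⊤
  let s : Coh.structureModule X ⟶ A := TwistAmple.homOfSec A (QcCech.res A htop σ)
  have hcond : ∀ W' : Y.Opens,
      (show Γ(A, j ''ᵁ W') from secVal s'' W') = secVal s (j ''ᵁ W') := by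
    intro W'
    rw [secVal_homOfSec, QcCech.res_res, ← res_secVal s'' (le_top : W' ≤ ⊤), res_restrict]
  have h1 := genLocus_restrict_eq j s s'' hcond
  rw [hs''] at h1
  refine ⟨n, s, ?_, ?_⟩
  · have : y ∈ j ⁻¹ᵁ CohB1.genLocus A s := h1 ▸ hy
    exact this
  · rw [h1] at haff
    have h2 := haff.image_of_isOpenImmersion j
    rwa [Scheme.Hom.image_preimage_eq_opensRange_inf, hj, top_inf_eq] at h2

/-- the restriction of an ample module along an open immersion with quasi-compact range is
ample -/
theorem isAmple_restrict_of_isCompact_range {L : X.Modules} (hL : CohB1.IsAmple L)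
    (hc : IsCompact (Set.range j)) : CohB1.IsAmple (L.restrict j) := by
  have hcY : CompactSpace Y := by
    refine ⟨?_⟩
    have := j.isOpenEmbedding.isEmbedding.isCompact_iff (s := Set.univ)
    rw [this, Set.image_univ]
    exact hc
  refine ⟨isInvertible_restrict j hL.1, hcY, fun y => ?_⟩
  obtain ⟨N, s, hxs, hsU, haff⟩ := exists_genLocus_nbhd hL j.opensRange (j y) ⟨y, rfl⟩
  have h1 := genLocus_restrictSec j s
  let e := restrictTensorPowIso j hL.1 (N + 1)
  refine ⟨N, restrictSec j s ≫ e.hom, ?_, ?_⟩
  · rw [TwistAmple.genLocus_comp_iso, h1]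
    exact hxs
  · rw [TwistAmple.genLocus_comp_iso, h1]
    apply (Scheme.Hom.isAffineOpen_iff_of_isOpenImmersion j).1
    rw [Scheme.Hom.image_preimage_eq_opensRange_inf, inf_eq_right.mpr hsU]
    exact haff

/-- ampleness is invariant under restriction along an isomorphism -/
theorem isAmple_restrict_iff_of_isIso (e : Y ⟶ X) [IsIso e] (M : X.Modules) :
    CohB1.IsAmple (M.restrict e) ↔ CohB1.IsAmple M := by
  have hr : e.opensRange = ⊤ := by
    ext x
    simp only [Scheme.Hom.coe_opensRange, Set.mem_range, Opens.coe_top, Set.mem_univ, iff_true]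
    exact ⟨(inv e) x, by rw [← Scheme.Hom.comp_apply, IsIso.inv_hom_id]; rfl⟩
  constructor
  · exact isAmple_of_restrict_surj e hr
  · intro h
    have : CompactSpace X := h.2.1
    apply isAmple_restrict_of_isCompact_range e h
    have h3 : Set.range e = Set.univ := by
      have := congrArg (fun U : X.Opens => (U : Set X)) hr
      simpa using this
    rw [h3]
    exact isCompact_univ

/-- ampleness of the restriction along an open immersion only depends on the range -/
theorem isAmple_restrict_iff_opensRange (L : X.Modules) :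
    CohB1.IsAmple (L.restrict j) ↔ CohB1.IsAmple (L.restrict j.opensRange.ι) := by
  have he : j.isoOpensRange.hom ≫ j.opensRange.ι = j := Scheme.Hom.isoOpensRange_hom_ι j
  let e1 : L.restrict j ≅ L.restrict (j.isoOpensRange.hom ≫ j.opensRange.ι) :=
    (Scheme.Modules.restrictFunctorCongr he.symm).app L
  let e2 : L.restrict (j.isoOpensRange.hom ≫ j.opensRange.ι) ≅
      (L.restrict j.opensRange.ι).restrict j.isoOpensRange.hom :=
    (Scheme.Modules.restrictFunctorComp _ _).app L
  rw [← isAmple_restrict_iff_of_isIso j.isoOpensRange.hom (L.restrict j.opensRange.ι)]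
  exact ⟨fun h => TwistAmpleOpen.isAmple_of_iso (e1 ≪≫ e2) h,
    fun h => TwistAmpleOpen.isAmple_of_iso (e1 ≪≫ e2).symm h⟩

/-- ampleness of the restriction along an open immersion with a given range -/
theorem isAmple_restrict_iff_of_opensRange_eq (L : X.Modules) (U : X.Opens)
    (hU : j.opensRange = U) :
    CohB1.IsAmple (L.restrict j) ↔ CohB1.IsAmple (L.restrict U.ι) := by
  subst hU
  exact isAmple_restrict_iff_opensRange j L

/-- restriction in two steps -/
theorem isAmple_restrict_restrict_iff {Z : Scheme.{u}} (k : Z ⟶ Y) [IsOpenImmersion k]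
    (L : X.Modules) :
    CohB1.IsAmple ((L.restrict j).restrict k) ↔ CohB1.IsAmple (L.restrict (k ≫ j)) := by
  let e2 : L.restrict (k ≫ j) ≅ (L.restrict j).restrict k :=
    (Scheme.Modules.restrictFunctorComp _ _).app L
  exact ⟨fun h => TwistAmpleOpen.isAmple_of_iso e2.symm h,
    fun h => TwistAmpleOpen.isAmple_of_iso e2 h⟩

end Groth.Agent.Helper1.AmpleLib
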