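import Mathlib
import Groth.Prelude.Def_GrTwist
import Groth.Prelude.Def_Pic
import Groth.Agent.Lib.Helper1.ModTriv

open DirectSum CategoryTheory AlgebraicGeometry TopologicalSpace Opposite HomogeneousLocalization

universe u

namespace Groth.Agent.Helper1.GrTwTriv

section
variable {A σ : Type u} [CommRing A] [SetLike σ A] [AddSubgroupClass σ A] (𝒜 : ℕ → σ)
  [GradedRing 𝒜]

set_option synthInstance.maxHeartbeats 400000

/-- the section `a/b` of `O(m)` over an open where `b` does not vanish -/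
noncomputable def fracSec {i j : ℕ} {a b : A} (ha : a ∈ 𝒜 i) (hb : b ∈ 𝒜 j) {m : ℤ} (hm : (i : ℤ) = j + m)
    (V : Opens (ProjectiveSpectrum.top 𝒜)) (hbV : ∀ x : V, b ∉ x.1.asHomogeneousIdeal) :
    GrTwist.sectN (𝒜 := 𝒜) m (op V) :=
  ⟨fun x => ⟨Localization.mk a ⟨b, hbV x⟩,
    Submodule.subset_span ⟨i, j, ⟨a, ha⟩, ⟨b, hb⟩, hbV x, hm, rfl⟩⟩,
   fun x => ⟨V, x.2, 𝟙 _, i, j, ⟨a, ha⟩, ⟨b, hb⟩, hbV, Or.inl hm, fun _ => rfl⟩⟩

theorem smul_sec_val {m : ℤ} (V : Opens (ProjectiveSpectrum.top 𝒜))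
    (r : GrTwist.O (𝒜 := 𝒜) (op V)) (t : GrTwist.sectN (𝒜 := 𝒜) m (op V)) (x : V) :
    (((r • t : GrTwist.sectN (𝒜 := 𝒜) m (op V)).1 x).1 : GrTwist.Loc 𝒜 x.1) =
      (r.1 x).val * ((t.1 x).1 : GrTwist.Loc 𝒜 x.1) :=
  GrTwist.coe_smul_val m x.1 (r.1 x) (t.1 x)

theorem mk_mul_mk_inv (x : ProjectiveSpectrum 𝒜) {a b : A} (ha : a ∉ x.asHomogeneousIdeal)
    (hb : b ∉ x.asHomogeneousIdeal) :
    (Localization.mk a ⟨b, hb⟩ : GrTwist.Loc 𝒜 x) * Localization.mk b ⟨a, ha⟩ = 1 := by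
  rw [Localization.mk_mul, ← Localization.mk_one, Localization.mk_eq_mk_iff,
    Localization.r_iff_exists]
  exact ⟨1, by simp only [Submonoid.coe_mul, OneMemClass.coe_one]; ring⟩

theorem fracSec_bijective {i j : ℕ} {a b : A} (ha : a ∈ 𝒜 i) (hb : b ∈ 𝒜 j) {m : ℤ} (hm : (i : ℤ) = j + m)
    (V : Opens (ProjectiveSpectrum.top 𝒜)) (hbV : ∀ x : V, b ∉ x.1.asHomogeneousIdeal)
    (haV : ∀ x : V, a ∉ x.1.asHomogeneousIdeal) :
    Function.Bijective (fun r : GrTwist.O (𝒜 := 𝒜) (op V) => r • fracSec 𝒜 ha hb hm V hbV) := by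
  constructor
  · intro r r' h
    apply Subtype.ext
    funext x
    have h1 := congrArg (fun t : GrTwist.sectN (𝒜 := 𝒜) m (op V) => ((t.1 x).1 : GrTwist.Loc 𝒜 x.1)) h
    simp only at h1
    have hu : IsUnit (Localization.mk a ⟨b, hbV x⟩ : GrTwist.Loc 𝒜 x.1) :=
      isUnit_iff_exists_inv.2 ⟨_, mk_mul_mk_inv 𝒜 x.1 (haV x) (hbV x)⟩
    have h2 : (r.1 x).val = (r'.1 x).val := hu.mul_left_injective h1
    exact HomogeneousLocalization.val_injective _ h2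
  · intro t
    -- local description
    have hloc : ∀ x : V, ∃ (W : Opens (ProjectiveSpectrum.top 𝒜)) (_ : x.1 ∈ W) (iW : W ⟶ V)
        (k : ℕ) (p q : 𝒜 k) (hq : ∀ y : W, q.1 ∉ y.1.asHomogeneousIdeal),
        ∀ y : W, ((t.1 (iW y)).1 : GrTwist.Loc 𝒜 y.1) * Localization.mk b ⟨a, haV (iW y)⟩ =
          Localization.mk p.1 ⟨q.1, hq y⟩ := by
      intro x
      obtain ⟨W, hxW, iW, i', j', a', s', nin, hc, hw⟩ := t.2 x
      have hq : ∀ y : W, s'.1 * a ∉ y.1.asHomogeneousIdeal := fun y h =>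
        (y.1.isPrime.mem_or_mem h).elim (nin y) (haV (iW y))
      rcases hc with hc | hc
      · have e : i' + j = j' + i := by omega
        refine ⟨W, hxW, iW, j' + i, ⟨a'.1 * b, e ▸ SetLike.mul_mem_graded a'.2 hb⟩,
          ⟨s'.1 * a, SetLike.mul_mem_graded s'.2 ha⟩, hq, fun y => ?_⟩
        have := hw y
        dsimp only at this ⊢
        erw [this]
        rw [Localization.mk_mul]
        rfl
      · refine ⟨W, hxW, iW, j' + i, 0,
          ⟨s'.1 * a, SetLike.mul_mem_graded s'.2 ha⟩, hq, fun y => ?_⟩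
        have := hw y
        dsimp only at this ⊢
        erw [this]
        rw [hc, Localization.mk_zero, zero_mul]
        simp [Localization.mk_zero]
    choose W hxW iW k p q hq hval using hloc
    have hr₀ : ∀ x : V, (HomogeneousLocalization.mk ⟨k x, p x, q x, hq x ⟨x.1, hxW x⟩⟩ :
        GrTwist.A0 𝒜 x.1).val = ((t.1 x).1 : GrTwist.Loc 𝒜 x.1) * Localization.mk b ⟨a, haV x⟩ := by
      intro x
      rw [HomogeneousLocalization.val_mk]
      exact (hval x ⟨x.1, hxW x⟩).symm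
    let r : GrTwist.O (𝒜 := 𝒜) (op V) :=
      ⟨fun x => HomogeneousLocalization.mk ⟨k x, p x, q x, hq x ⟨x.1, hxW x⟩⟩, fun x =>
        ⟨W x, hxW x, iW x, k x, p x, q x, hq x, fun y => by
          apply HomogeneousLocalization.val_injective
          rw [HomogeneousLocalization.val_mk]
          exact (hr₀ (iW x y)).trans (hval x y)⟩⟩
    refine ⟨r, ?_⟩
    apply Subtype.ext
    funext x
    apply Subtype.ext
    refine (smul_sec_val 𝒜 V r _ x).trans ?_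
    change (HomogeneousLocalization.mk ⟨k x, p x, q x, hq x ⟨x.1, hxW x⟩⟩ :
        GrTwist.A0 𝒜 x.1).val * Localization.mk a ⟨b, hbV x⟩ = _
    rw [hr₀ x, mul_assoc, mul_comm (Localization.mk b _)]
    have := mk_mul_mk_inv 𝒜 x.1 (haV x) (hbV x)
    erw [this]
    exact mul_one _

theorem nonempty_twist_restrict_iso {i j : ℕ} {a b : A} (ha : a ∈ 𝒜 i) (hb : b ∈ 𝒜 j) {m : ℤ}
    (hm : (i : ℤ) = j + m) {Y : Scheme.{u}} (ι : Y ⟶ Proj 𝒜) [IsOpenImmersion ι]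
    (hbU : ∀ x : ProjectiveSpectrum 𝒜, x ∈ ι.opensRange → b ∉ x.asHomogeneousIdeal)
    (haU : ∀ x : ProjectiveSpectrum 𝒜, x ∈ ι.opensRange → a ∉ x.asHomogeneousIdeal) :
    Nonempty ((GrTwist.twist 𝒜 m).restrict ι ≅ Coh.structureModule Y) := by
  refine ModTriv.nonempty_restrict_iso_unit' ι (GrTwist.twist 𝒜 m)
    (fracSec 𝒜 ha hb hm ι.opensRange (fun x => hbU x.1 x.2)) ?_
  intro V hV
  exact fracSec_bijective 𝒜 ha hb hm V (fun x => hbU x.1 (hV x.2)) (fun x => haU x.1 (hV x.2))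

/-- restrict of restrict to a preimage -/
theorem nonempty_restrict_restrict_iso {X : Scheme.{u}} (M : X.Modules) (W D : X.Opens)
    (h : ∀ {Y : Scheme.{u}} (j : Y ⟶ X) [IsOpenImmersion j], j.opensRange ≤ D →
      Nonempty (M.restrict j ≅ Coh.structureModule Y)) :
    Nonempty ((M.restrict W.ι).restrict (W.ι ⁻¹ᵁ D).ι ≅
      Coh.structureModule ↑(W.ι ⁻¹ᵁ D)) := by
  have hr : ((W.ι ⁻¹ᵁ D).ι ≫ W.ι).opensRange ≤ D := by
    rintro x ⟨z, rfl⟩
    exact z.2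
  obtain ⟨e⟩ := h ((W.ι ⁻¹ᵁ D).ι ≫ W.ι) hr
  exact ⟨((Scheme.Modules.restrictFunctorComp (W.ι ⁻¹ᵁ D).ι W.ι).app M).symm ≪≫ e⟩

/-- `O(nd)` is trivial on any open subscheme contained in `D₊(f)`, `f` of degree `d`. -/
theorem nonempty_twist_restrict_iso_of_le {d : ℕ} {f : A} (hf : f ∈ 𝒜 d) (n : ℤ)
    {Y : Scheme.{u}} (j : Y ⟶ Proj 𝒜) [IsOpenImmersion j]
    (hj : j.opensRange ≤ Proj.basicOpen 𝒜 f) :
    Nonempty ((GrTwist.twist 𝒜 (n * d)).restrict j ≅ Coh.structureModule Y) := by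
  have hp : f ^ n.toNat ∈ 𝒜 (n.toNat • d) := SetLike.pow_mem_graded _ hf
  have hq : f ^ (-n).toNat ∈ 𝒜 ((-n).toNat • d) := SetLike.pow_mem_graded _ hf
  have hm : ((n.toNat • d : ℕ) : ℤ) = ((-n).toNat • d : ℕ) + n * d := by
    have := Int.toNat_sub_toNat_neg n
    push_cast [smul_eq_mul]
    nlinarith
  have hmem : ∀ x : ProjectiveSpectrum 𝒜, x ∈ j.opensRange →
      ∀ k : ℕ, f ^ k ∉ x.asHomogeneousIdeal := by
    intro x hx k hk
    exact ((Proj.mem_basicOpen 𝒜 f x).1 (hj hx)) (x.isPrime.mem_of_pow_mem k hk)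
  exact nonempty_twist_restrict_iso 𝒜 hp hq hm j (fun x hx => hmem x hx _) (fun x hx => hmem x hx _)

/-- `O(nd)` is trivial on any open subscheme contained in `D₊(ab)`, `deg a = deg b + d`. -/
theorem nonempty_twist_restrict_iso_of_le' {d i j : ℕ} {a b : A} (ha : a ∈ 𝒜 i) (hb : b ∈ 𝒜 j)
    (hij : i = j + d) (n : ℤ)
    {Y : Scheme.{u}} (ι : Y ⟶ Proj 𝒜) [IsOpenImmersion ι]
    (hι : ι.opensRange ≤ Proj.basicOpen 𝒜 (a * b)) :
    Nonempty ((GrTwist.twist 𝒜 (n * d)).restrict ι ≅ Coh.structureModule Y) := by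
  have hp : a ^ n.toNat * b ^ (-n).toNat ∈ 𝒜 (n.toNat • i + (-n).toNat • j) :=
    SetLike.mul_mem_graded (SetLike.pow_mem_graded _ ha) (SetLike.pow_mem_graded _ hb)
  have hq : a ^ (-n).toNat * b ^ n.toNat ∈ 𝒜 ((-n).toNat • i + n.toNat • j) :=
    SetLike.mul_mem_graded (SetLike.pow_mem_graded _ ha) (SetLike.pow_mem_graded _ hb)
  have hm : ((n.toNat • i + (-n).toNat • j : ℕ) : ℤ) =
      ((-n).toNat • i + n.toNat • j : ℕ) + n * d := by
    have := Int.toNat_sub_toNat_neg n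
    subst hij
    push_cast [smul_eq_mul]
    nlinarith
  have hmem : ∀ x : ProjectiveSpectrum 𝒜, x ∈ ι.opensRange →
      ∀ k l : ℕ, a ^ k * b ^ l ∉ x.asHomogeneousIdeal := by
    intro x hx k l hk
    have hab := (Proj.mem_basicOpen 𝒜 (a * b) x).1 (hι hx)
    rcases x.isPrime.mem_or_mem hk with h | h
    · exact hab (Ideal.mul_mem_right _ _ (x.isPrime.mem_of_pow_mem k h))
    · exact hab (Ideal.mul_mem_left _ _ (x.isPrime.mem_of_pow_mem l h))
  exact nonempty_twist_restrict_iso 𝒜 hp hq hm ι (fun x hx => hmem x hx _ _)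
    (fun x hx => hmem x hx _ _)

/-- invertibility criterion -/
theorem isInvertible_restrict {X : Scheme.{u}} (M : X.Modules) (W : X.Opens)
    (h : ∀ y : X, y ∈ W → ∃ D : X.Opens, y ∈ D ∧
      ∀ {Y : Scheme.{u}} (j : Y ⟶ X) [IsOpenImmersion j], j.opensRange ≤ D →
        Nonempty (M.restrict j ≅ Coh.structureModule Y)) :
    PicF.IsInvertible (M.restrict W.ι) := by
  intro y
  obtain ⟨D, hyD, hD⟩ := h (W.ι y) y.2
  exact ⟨W.ι ⁻¹ᵁ D, hyD, nonempty_restrict_restrict_iso M W D hD⟩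

theorem isInvertible_of_cover {X : Scheme.{u}} (M : X.Modules)
    (h : ∀ y : X, ∃ D : X.Opens, y ∈ D ∧ Nonempty (M.restrict D.ι ≅ Coh.structureModule ↑D)) :
    PicF.IsInvertible M := h

end
end Groth.Agent.Helper1.GrTwTriv
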