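import Mathlib
import Groth.Prelude.Def_RelProj2
import Groth.Agent.Lib.Helper1.ProjBC
import Groth.Agent.Lib.Helper1.RP1
import Groth.Agent.Lib.Helper1.GrTwAmpleOpen
import Groth.Agent.Lib.Helper1.AmpleTransport

set_option autoImplicit false
universe u

open CategoryTheory CategoryTheory.Limits AlgebraicGeometry TopologicalSpace Opposite
open scoped HomogeneousIdeal

namespace Groth.Agent.Helper1.RP3

open Groth.Agent.Helper1.ProjBC

variable {Y P : Scheme.{u}} {𝒮 : RelProj.QCGrAlg Y} {p : P ⟶ Y}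
  {chart : ∀ (U : Y.Opens) (hU : IsAffineOpen U), ((p ⁻¹ᵁ U : P.Opens) : Scheme.{u}) ≅ Proj (𝒮.deg U hU)}
  {n : ℤ} {L : P.Modules}
  {lam : ∀ (U : Y.Opens) (hU : IsAffineOpen U),
    L ⟶ (Scheme.Modules.pushforward (RelProj.emb p chart U hU)).obj (GrTwist.twist (𝒮.deg U hU) n)}

/-- the adjunct of `lam U` -/
noncomputable def adj (lam : ∀ (U : Y.Opens) (hU : IsAffineOpen U),
      L ⟶ (Scheme.Modules.pushforward (RelProj.emb p chart U hU)).obj (GrTwist.twist (𝒮.deg U hU) n))
    (U : Y.Opens) (hU : IsAffineOpen U) :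
    L.restrict (RelProj.emb p chart U hU) ⟶ GrTwist.twist (𝒮.deg U hU) n :=
  (Scheme.Modules.restrictFunctor (RelProj.emb p chart U hU)).map (lam U hU) ≫
    (Scheme.Modules.restrictAdjunction (RelProj.emb p chart U hU)).counit.app _

theorem isIso_adj (hL : RelProj.IsRelTwist 𝒮 p chart n L lam) (U : Y.Opens) (hU : IsAffineOpen U) :
    IsIso (adj lam U hU) := by
  rw [Scheme.Modules.Hom.isIso_iff_isIso_app]
  intro V
  rw [ConcreteCategory.isIso_iff_bijective]
  have hle : RelProj.emb p chart U hU ''ᵁ V ≤ p ⁻¹ᵁ U := by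
    rw [← opensRange_emb (p := p) (chart := chart) U hU]
    exact (RelProj.emb p chart U hU).image_le_opensRange V
  have h1 := hL.bijective U hU _ hle
  have h2 : Function.Bijective ((GrTwist.twist (𝒮.deg U hU) n).presheaf.map
      (eqToHom ((RelProj.emb p chart U hU).preimage_image_eq V).symm).op) := by
    rw [← ConcreteCategory.isIso_iff_bijective]
    infer_instance
  exact h2.comp h1

/-- chartwise identification of `O_P(n)` -/
theorem nonempty_restrict_emb_iso (hL : RelProj.IsRelTwist 𝒮 p chart n L lam)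
    (U : Y.Opens) (hU : IsAffineOpen U) :
    Nonempty (L.restrict (RelProj.emb p chart U hU) ≅ GrTwist.twist (𝒮.deg U hU) n) :=
  have := isIso_adj hL U hU
  ⟨asIso (adj lam U hU)⟩

section General
open Groth.Agent.Helper1.AmpleLib Groth.Agent.Helper1.TwForm Groth.Agent.Helper1.LGen

theorem isInvertible_of_restrict_cover {X : Scheme.{u}} {L : X.Modules}
    (h : ∀ x : X, ∃ (Z : Scheme.{u}) (j : Z ⟶ X) (_ : IsOpenImmersion j),
      x ∈ j.opensRange ∧ PicF.IsInvertible (L.restrict j)) : PicF.IsInvertible L := by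
  apply isInvertible_of_locGen
  intro x
  obtain ⟨Z, j, hj, hx, hinv⟩ := h x
  obtain ⟨y, rfl⟩ := hx
  obtain ⟨W', a, hyW', ha⟩ := exists_isGen hinv y
  exact ⟨j ''ᵁ W', a, ⟨y, hyW', rfl⟩, isGen_image_of_isGen_restrict j L W' a ha⟩

end General

section Alg
variable {A σ : Type u} [CommRing A] [SetLike σ A] [AddSubgroupClass σ A] (𝒜 : ℕ → σ) [GradedRing 𝒜]

theorem exists_deg_one_notMem
    (hgen : Subring.closure ((𝒜 0 : Set A) ∪ (𝒜 1 : Set A)) = ⊤) (x : ProjectiveSpectrum 𝒜) :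
    ∃ f ∈ 𝒜 1, f ∉ x.asHomogeneousIdeal := by
  have h0 : Algebra.adjoin (𝒜 0) (Set.range (fun a : 𝒜 1 => (a : A))) = ⊤ := by
    rw [eq_top_iff]
    intro z hz0
    clear hz0
    have hz : z ∈ Subring.closure ((𝒜 0 : Set A) ∪ (𝒜 1 : Set A)) := by rw [hgen]; trivial
    induction hz using Subring.closure_induction with
    | mem z hz =>
      rcases hz with hz | hz
      · exact Subalgebra.algebraMap_mem _ (⟨z, hz⟩ : 𝒜 0)
      · exact Algebra.subset_adjoin ⟨⟨z, hz⟩, rfl⟩
    | zero => exact zero_mem _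
    | one => exact one_mem _
    | add z w _ _ hz hw => exact add_mem hz hw
    | neg z _ hz => exact neg_mem hz
    | mul z w _ _ hz hw => exact mul_mem hz hw
  obtain ⟨i, hi⟩ := GrTwTens.exists_gen_not_mem 𝒜 (fun a : 𝒜 1 => (a : A)) (fun a => ⟨1, a.2⟩) h0 x
  exact ⟨i, i.2, hi⟩

end Alg

/-- `O_P(n)` is invertible when `𝒮` is generated in degree one -/
theorem isInvertible_of_isGenDegOne (hgen : 𝒮.IsGenDegOne)
    (hL : RelProj.IsRelTwist 𝒮 p chart n L lam) : PicF.IsInvertible L := by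
  apply isInvertible_of_restrict_cover
  intro y
  obtain ⟨_, ⟨U, hU : IsAffineOpen U, rfl⟩, hyU, -⟩ :=
    (Y.isBasis_affineOpens).exists_subset_of_mem_open (Set.mem_univ (p.base y)) isOpen_univ
  refine ⟨_, RelProj.emb p chart U hU, inferInstance, ?_, ?_⟩
  · rw [opensRange_emb]; exact hyU
  · obtain ⟨e⟩ := nonempty_restrict_emb_iso hL U hU
    exact GrTwAmpleOpen.isInvertible_of_iso e.symm
      ((GrTwTens.twist_package (𝒮.deg U hU) (exists_deg_one_notMem _ (hgen U hU))).1 n)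

end Groth.Agent.Helper1.RP3
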