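import Mathlib
import Groth.Agent.Lib.Helper1.SymGr

set_option autoImplicit false
universe u
open CategoryTheory CategoryTheory.Limits AlgebraicGeometry TopologicalSpace Opposite
open scoped HomogeneousIdeal

namespace Groth.Agent.Helper1.SymAlg

open Groth.Agent.Helper1.SymLoc Groth.Agent.Helper1.QcCech Groth.Agent.Helper1
open Groth.Agent.Helper1.SymGrading

variable {S : Scheme.{u}} (E : S.Modules) [E.IsQuasicoherent]
  {𝒮 : RelProj.QCGrAlg S} {jS : E ⟶ 𝒮.toModule} (hj : RelProj.IsGrSymAlg E 𝒮 jS)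
  (U : S.Opens) (hU : IsAffineOpen U)

include hj in
/-- **the grading of a graded symmetric algebra is forced** -/
theorem exists_gradedEquiv :
    ∃ c : SymSec E U ≃+* 𝒮.presheaf.obj (op U),
      (∀ r : Γ(S, U), c (algebraMap Γ(S, U) (SymSec E U) r) = (𝒮.str.app (op U)).hom r) ∧
      (∀ e : Γ(E, U), c (SymmetricAlgebra.ι Γ(S, U) Γ(E, U) e) =
        (show 𝒮.presheaf.obj (op U) from jS.app U e)) ∧
      (∀ (n : ℕ) (x : SymSec E U), x ∈ piece Γ(S, U) Γ(E, U) n → c x ∈ 𝒮.deg U hU n) ∧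
      (∀ (n : ℕ) (b : 𝒮.presheaf.obj (op U)), b ∈ 𝒮.deg U hU n →
        ∃ x ∈ piece Γ(S, U) Γ(E, U) n, c x = b) := by
  obtain ⟨c, hc1, hc2⟩ := exists_ringEquiv E hj.1 U hU
  have h3 : ∀ (n : ℕ) (x : SymSec E U), x ∈ piece Γ(S, U) Γ(E, U) n → c x ∈ 𝒮.deg U hU n := by
    intro n x hx
    induction hx using Submodule.pow_induction_on_left' with
    | algebraMap r => rw [hc1]; exact 𝒮.str_mem U hU r
    | add x y i hx hy ihx ihy => rw [map_add]; exact add_mem ihx ihy
    | mem_mul m hm i x hx ih =>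
      obtain ⟨m, rfl⟩ := hm
      rw [map_mul, hc2]
      have := SetLike.mul_mem_graded (A := 𝒮.deg U hU) (hj.2 U hU m) ih
      rw [add_comm] at this
      exact this
  refine ⟨c, hc1, hc2, h3, ?_⟩
  intro n b hb
  obtain ⟨t, rfl⟩ := c.surjective b
  let cg : GradedRingHom (A := SymSec E U) (B := 𝒮.presheaf.obj (op U))
      (piece Γ(S, U) Γ(E, U)) (𝒮.deg U hU) :=
    { toRingHom := (c : SymSec E U →+* 𝒮.presheaf.obj (op U))
      map_mem := fun hx => h3 _ _ hx }
  have h4' := GradedRingHom.map_directSumDecompose _ _ cg (x := t) (i := n)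
  have h4 : c (DirectSum.decompose (piece Γ(S, U) Γ(E, U)) t n : SymSec E U) =
      (DirectSum.decompose (𝒮.deg U hU) (c t) n : 𝒮.presheaf.obj (op U)) := h4'
  refine ⟨_, SetLike.coe_mem (DirectSum.decompose (piece Γ(S, U) Γ(E, U)) t n), ?_⟩
  rw [h4, DirectSum.decompose_of_mem_same _ hb]

end Groth.Agent.Helper1.SymAlg
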