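import Mathlib
import Groth.Agent.Lib.Helper1.SymForced

set_option autoImplicit false
universe u

open CategoryTheory CategoryTheory.Limits AlgebraicGeometry TopologicalSpace Opposite
open scoped HomogeneousIdeal

namespace Groth.Agent.Helper1.SymAlg

open Groth.Agent.Helper1.QcCech Groth.Agent.Helper1.SymGrading

set_option synthInstance.maxHeartbeats 400000

variable {S : Scheme.{u}} {E : S.Modules} [E.IsQuasicoherent] {𝒮 : RelProj.QCGrAlg S}
  {j : E ⟶ 𝒮.toModule}

/-- the degree-one part of a graded symmetric algebra is the image of the module -/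
theorem exists_eq_j_of_mem_deg_one (hj : RelProj.IsGrSymAlg E 𝒮 j) (U : S.Opens)
    (hU : IsAffineOpen U) (b : 𝒮.presheaf.obj (op U)) (hb : b ∈ 𝒮.deg U hU 1) :
    ∃ e : Γ(E, U), (show 𝒮.presheaf.obj (op U) from j.app U e) = b := by
  obtain ⟨c, hc1, hc2, hle, hge⟩ := exists_gradedEquiv E hj U hU
  obtain ⟨x, hx, rfl⟩ := hge 1 b hb
  have hx' : x ∈ LinearMap.range (SymmetricAlgebra.ι Γ(S, U) Γ(E, U)) := by
    have : x ∈ (LinearMap.range (SymmetricAlgebra.ι Γ(S, U) Γ(E, U))) ^ 1 := hx
    rwa [pow_one] at this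
  obtain ⟨e, rfl⟩ := hx'
  exact ⟨e, (hc2 e).symm⟩

/-- a graded symmetric algebra is generated in degree one -/
theorem isGenDegOne_of_isGrSymAlg (hj : RelProj.IsGrSymAlg E 𝒮 j) : 𝒮.IsGenDegOne := by
  intro U hU
  obtain ⟨c, hc1, hc2, hle, hge⟩ := exists_gradedEquiv E hj U hU
  rw [eq_top_iff]
  rintro y -
  obtain ⟨x, rfl⟩ := c.surjective y
  induction x using SymmetricAlgebra.induction with
  | algebraMap r =>
    apply Subring.subset_closure
    left
    rw [hc1]
    exact 𝒮.str_mem U hU r
  | ι e =>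
    apply Subring.subset_closure
    right
    rw [hc2]
    exact hj.2 U hU e
  | mul a b ha hb => rw [map_mul]; exact mul_mem ha hb
  | add a b ha hb => rw [map_add]; exact add_mem ha hb

end Groth.Agent.Helper1.SymAlg
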