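import Mathlib
import Groth.Agent.Lib.Helper1.SymGrading

set_option autoImplicit false
universe u

namespace Groth.Agent.Helper1.SymRk1

open Groth.Agent.Helper1.SymGrading HomogeneousLocalization Polynomial

section Alg
variable {R M : Type u} [CommRing R] [AddCommGroup M] [Module R M] (a : M)
  (hbij : Function.Bijective (fun r : R => r • a))

include hbij in
/-- the pieces of the symmetric algebra of a free module of rank one -/
theorem piece_rk1 (n : ℕ) (x : SymmetricAlgebra R M) (hx : x ∈ piece R M n) :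
    ∃ r : R, x = algebraMap R _ r * (SymmetricAlgebra.ι R M a) ^ n := by
  induction hx using Submodule.pow_induction_on_left' with
  | algebraMap r => exact ⟨r, by rw [pow_zero, mul_one]⟩
  | add x y i hx hy ihx ihy =>
    obtain ⟨r, rfl⟩ := ihx
    obtain ⟨r', rfl⟩ := ihy
    exact ⟨r + r', by rw [map_add, add_mul]⟩
  | mem_mul m hm i x hx ih =>
    obtain ⟨m, rfl⟩ := hm
    obtain ⟨r, rfl⟩ := ih
    obtain ⟨s, rfl⟩ := hbij.2 m
    refine ⟨s * r, ?_⟩
    change SymmetricAlgebra.ι R M (s • a) * _ = _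
    rw [map_smul, Algebra.smul_def, map_mul, pow_succ]
    ring

/-- the coefficient map -/
noncomputable def coeffL : M →ₗ[R] R :=
  (LinearEquiv.ofBijective (LinearMap.toSpanSingleton R M a) hbij).symm.toLinearMap

theorem coeffL_self : coeffL a hbij a = 1 := by
  have : LinearEquiv.ofBijective (LinearMap.toSpanSingleton R M a) hbij 1 = a := by
    change (1 : R) • a = a
    rw [one_smul]
  exact (LinearEquiv.symm_apply_eq _).2 this.symm

/-- comparison with the polynomial ring -/
noncomputable def χ : SymmetricAlgebra R M →ₐ[R] R[X] :=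
  SymmetricAlgebra.lift ((Polynomial.monomial 1 : R →ₗ[R] R[X]) ∘ₗ coeffL a hbij)

theorem χ_ι : χ a hbij (SymmetricAlgebra.ι R M a) = X := by
  rw [χ, SymmetricAlgebra.lift_ι_apply, LinearMap.comp_apply, coeffL_self]
  exact (Polynomial.X_pow_eq_monomial 1).symm.trans (pow_one _)

include hbij in
theorem eq_zero_of_mul_pow (r : R) (k : ℕ)
    (h : algebraMap R (SymmetricAlgebra R M) r * (SymmetricAlgebra.ι R M a) ^ k = 0) : r = 0 := by
  have h1 := congrArg (χ a hbij) h
  rw [map_mul, map_pow, χ_ι, AlgHom.commutes, map_zero, ← Polynomial.C_eq_algebraMap,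
    Polynomial.C_mul_X_pow_eq_monomial, Polynomial.monomial_eq_zero_iff] at h1
  exact h1

end Alg

section Gr
variable {R M : Type u} [CommRing R] [AddCommGroup M] [Module R M] (a : M)
  (hbij : Function.Bijective (fun r : R => r • a))
  {A : Type u} [CommRing A] (𝒜 : ℕ → AddSubgroup A) [GradedRing 𝒜]
  (c : SymmetricAlgebra R M ≃+* A)
  (hle : ∀ (n : ℕ) (x : SymmetricAlgebra R M), x ∈ piece R M n → c x ∈ 𝒜 n)
  (hge : ∀ (n : ℕ) (b : A), b ∈ 𝒜 n → ∃ x ∈ piece R M n, c x = b)

omit [GradedRing 𝒜] in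
include hbij hge in
theorem mem_deg (n : ℕ) (b : A) (hb : b ∈ 𝒜 n) :
    ∃ r : R, b = c (algebraMap R _ r) * c (SymmetricAlgebra.ι R M a) ^ n := by
  obtain ⟨x, hx, rfl⟩ := hge n b hb
  obtain ⟨r, rfl⟩ := piece_rk1 a hbij n x hx
  exact ⟨r, by rw [map_mul, map_pow]⟩

omit [GradedRing 𝒜] in
include hle in
theorem T_mem : c (SymmetricAlgebra.ι R M a) ∈ 𝒜 1 := by
  apply hle
  change _ ∈ (LinearMap.range (SymmetricAlgebra.ι R M)) ^ 1
  rw [pow_one]
  exact ⟨a, rfl⟩

omit [GradedRing 𝒜] in
include hle in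
theorem str_mem (r : R) : c (algebraMap R _ r) ∈ 𝒜 0 := by
  apply hle
  change _ ∈ (LinearMap.range (SymmetricAlgebra.ι R M)) ^ 0
  rw [pow_zero]
  exact Submodule.algebraMap_mem _

/-- the structure map into degree zero -/
noncomputable def strZ : R →+* 𝒜 0 where
  toFun r := ⟨c (algebraMap R _ r), str_mem 𝒜 c hle r⟩
  map_one' := Subtype.ext (by simp)
  map_mul' x y := Subtype.ext (by simp)
  map_zero' := Subtype.ext (by simp)
  map_add' x y := Subtype.ext (by simp)

include hbij hge in
theorem strZ_bijective : Function.Bijective (strZ 𝒜 c hle) := by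
  constructor
  · intro r r' h
    have h1 : c (algebraMap R _ r) = c (algebraMap R _ r') := congrArg Subtype.val h
    have h2 := c.injective h1
    have h3 : algebraMap R (SymmetricAlgebra R M) (r - r') * (SymmetricAlgebra.ι R M a) ^ 0 = 0 := by
      rw [pow_zero, mul_one, map_sub, h2, sub_self]
    exact sub_eq_zero.1 (eq_zero_of_mul_pow a hbij _ 0 h3)
  · rintro ⟨z, hz⟩
    obtain ⟨r, hr⟩ := mem_deg a hbij 𝒜 c hge 0 z hz
    refine ⟨r, Subtype.ext ?_⟩
    rw [pow_zero, mul_one] at hr
    exact hr.symm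

include hbij hle hge in
theorem fromZero_bijective :
    Function.Bijective (fromZeroRingHom 𝒜 (Submonoid.powers (c (SymmetricAlgebra.ι R M a)))) := by
  set T := c (SymmetricAlgebra.ι R M a) with hT
  have hT1 : T ∈ 𝒜 1 := T_mem a 𝒜 c hle
  constructor
  · rw [injective_iff_map_eq_zero]
    rintro ⟨z, hz⟩ h
    have h1 := congrArg HomogeneousLocalization.val h
    have h2 : (fromZeroRingHom 𝒜 (Submonoid.powers T) ⟨z, hz⟩).val =
        algebraMap A (Localization (Submonoid.powers T)) z := by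
      change Localization.mk z 1 = _
      exact Localization.mk_one_eq_algebraMap z
    rw [h2, HomogeneousLocalization.val_zero,
      IsLocalization.map_eq_zero_iff (Submonoid.powers T)] at h1
    obtain ⟨⟨_, k, rfl⟩, hk⟩ := h1
    obtain ⟨r, hr⟩ := mem_deg a hbij 𝒜 c hge 0 z hz
    rw [pow_zero, mul_one] at hr
    have h3 : c (algebraMap R _ r * (SymmetricAlgebra.ι R M a) ^ k) = 0 := by
      rw [map_mul, map_pow, ← hr, mul_comm]
      exact hk
    have h4 := eq_zero_of_mul_pow a hbij r k (c.injective (h3.trans (map_zero c).symm))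
    apply Subtype.ext
    change z = 0
    rw [hr, h4, map_zero, map_zero]
  · intro q
    obtain ⟨n, x, hx, rfl⟩ := Away.mk_surjective 𝒜 hT1 q
    obtain ⟨r, hr⟩ := mem_deg a hbij 𝒜 c hge _ x hx
    refine ⟨⟨c (algebraMap R _ r), str_mem 𝒜 c hle r⟩, ?_⟩
    apply HomogeneousLocalization.val_injective
    rw [Away.val_mk]
    change Localization.mk (c (algebraMap R _ r)) 1 = _
    rw [Localization.mk_eq_mk_iff, Localization.r_iff_exists]
    refine ⟨1, ?_⟩
    simp only [OneMemClass.coe_one, one_mul]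
    rw [hr, smul_eq_mul, mul_one, mul_comm]

include hbij hge in
theorem T_notMem (x : ProjectiveSpectrum 𝒜) :
    c (SymmetricAlgebra.ι R M a) ∉ x.asHomogeneousIdeal := by
  intro hTx
  apply x.not_irrelevant_le
  rw [HomogeneousIdeal.irrelevant_le]
  intro i hi b hb
  obtain ⟨r, hr⟩ := mem_deg a hbij 𝒜 c hge i b hb
  obtain ⟨i', rfl⟩ : ∃ i', i = i' + 1 := ⟨i - 1, by omega⟩
  change b ∈ x.asHomogeneousIdeal.toIdeal
  rw [hr, pow_succ]
  exact Ideal.mul_mem_left _ _ (Ideal.mul_mem_left _ _ hTx)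

end Gr

end Groth.Agent.Helper1.SymRk1
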