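import Mathlib
import Groth.Agent.Lib.Helper1.SymForced
import Groth.Agent.Lib.Helper1.SymRk1
import Groth.Agent.Lib.Helper1.AmpleLib2

set_option autoImplicit false
universe u
open CategoryTheory CategoryTheory.Limits AlgebraicGeometry TopologicalSpace Opposite
open scoped HomogeneousIdeal

namespace Groth.Agent.Helper1.SymAlg

open Groth.Agent.Helper1.SymLoc Groth.Agent.Helper1.QcCech Groth.Agent.Helper1
open Groth.Agent.Helper1.SymGrading Groth.Agent.Helper1.LGen HomogeneousLocalization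

section Alg
variable {A : Type u} [CommRing A] (𝒜 : ℕ → AddSubgroup A) [GradedRing 𝒜]

theorem isIso_toSpecZero_of {T : A} (hT : T ∈ 𝒜 1)
    (hTtop : ∀ x : ProjectiveSpectrum 𝒜, T ∉ x.asHomogeneousIdeal)
    (hbij : Function.Bijective (fromZeroRingHom 𝒜 (Submonoid.powers T))) :
    IsIso (Proj.toSpecZero 𝒜) := by
  have h1 : IsIso (Proj.awayι 𝒜 T hT one_pos) := by
    apply isIso_of_isOpenImmersion_of_opensRange_eq_top
    rw [Proj.opensRange_awayι]
    apply Opens.ext
    ext x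
    simp only [Opens.coe_top, Set.mem_univ, iff_true]
    exact (Proj.mem_basicOpen 𝒜 T x).2 (hTtop x)
  have h2 : IsIso (CommRingCat.ofHom (fromZeroRingHom 𝒜 (Submonoid.powers T))) :=
    (ConcreteCategory.isIso_iff_bijective _).2 hbij
  have h3 : IsIso (Proj.awayι 𝒜 T hT one_pos ≫ Proj.toSpecZero 𝒜) := by
    rw [Proj.awayι_toSpecZero]
    infer_instance
  exact IsIso.of_isIso_comp_left (Proj.awayι 𝒜 T hT one_pos) _

end Alg

section Main
variable {X PL : Scheme.{u}} (L : X.Modules) [L.IsQuasicoherent]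
  {𝒮L : RelProj.QCGrAlg X} {j : L ⟶ 𝒮L.toModule} (hj : RelProj.IsGrSymAlg L 𝒮L j)
  {pL : PL ⟶ X}
  {chartL : ∀ (U : X.Opens) (hU : IsAffineOpen U),
    (((pL ⁻¹ᵁ U : PL.Opens) : Scheme.{u}) ≅ Proj (𝒮L.deg U hU))}

include hj in
theorem isIso_restrict (hPL : RelProj.IsRelProj 𝒮L pL chartL) (U : X.Opens) (hU : IsAffineOpen U)
    (a : Γ(L, U)) (ha : IsGen L U a) : IsIso (pL ∣_ U) := by
  have hbij : Function.Bijective (fun r : Γ(X, U) => r • a) := by
    have := ha U le_rfl
    simpa only [res_self] using this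
  obtain ⟨c, hc1, hc2, hle, hge⟩ := exists_gradedEquiv L hj U hU
  have h1 : IsIso (Proj.toSpecZero (𝒮L.deg U hU)) :=
    isIso_toSpecZero_of (𝒮L.deg U hU) (SymRk1.T_mem a (𝒮L.deg U hU) c hle)
      (SymRk1.T_notMem a hbij (𝒮L.deg U hU) c hge)
      (SymRk1.fromZero_bijective a hbij (𝒮L.deg U hU) c hle hge)
  have h2 : IsIso (𝒮L.strZero U hU) := by
    apply (ConcreteCategory.isIso_iff_bijective _).2
    have : ⇑(ConcreteCategory.hom (𝒮L.strZero U hU)) =
        ⇑(SymRk1.strZ (𝒮L.deg U hU) c hle) := by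
      funext r
      apply Subtype.ext
      exact (hc1 r).symm
    rw [this]
    exact SymRk1.strZ_bijective a hbij (𝒮L.deg U hU) c hle hge
  have e : pL ∣_ U = (chartL U hU).hom ≫ Proj.toSpecZero (𝒮L.deg U hU) ≫
      Spec.map (𝒮L.strZero U hU) ≫ hU.isoSpec.inv := by
    rw [← cancel_mono U.ι, morphismRestrict_ι, ← hPL.chart_over U hU]
    simp only [Category.assoc, IsAffineOpen.isoSpec_inv_ι]
  rw [e]
  infer_instance

include hj in
/-- **S12143** -/
theorem main12143 (hL : PicF.IsInvertible L) (hPL : RelProj.IsRelProj 𝒮L pL chartL) :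
    IsIso pL := by
  have hx : ∀ x : X, ∃ (U : X.Opens) (_ : IsAffineOpen U) (a : Γ(L, U)), x ∈ U ∧ IsGen L U a := by
    intro x
    obtain ⟨W, a, hxW, ha⟩ := exists_isGen hL x
    obtain ⟨_, ⟨U, hU, rfl⟩, hxU, hUW⟩ := X.isBasis_affineOpens.exists_subset_of_mem_open hxW W.2
    exact ⟨U, hU, res L hUW a, hxU, ha.res hUW⟩
  choose U hU a hxU ha using hx
  have hcov : iSup U = ⊤ := by
    rw [eq_top_iff]
    intro x _
    exact Opens.mem_iSup.2 ⟨x, hxU x⟩
  exact (IsZariskiLocalAtTarget.iff_of_iSup_eq_top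
    (P := MorphismProperty.isomorphisms Scheme.{u}) U hcov).2
    (fun x => isIso_restrict L hj hPL (U x) (hU x) (a x) (ha x))

end Main

end Groth.Agent.Helper1.SymAlg
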