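import Mathlib
import Groth.Agent.Lib.Helper1.SymInv
import Groth.Agent.Lib.Helper1.RelCone3
import Groth.Agent.Lib.Helper1.ProjQ12
import Groth.Agent.Lib.Helper1.RP3
import Groth.Agent.Lib.Helper1.SymFacts

set_option autoImplicit false
universe u

open CategoryTheory CategoryTheory.Limits AlgebraicGeometry TopologicalSpace Opposite
open HomogeneousLocalization
open scoped HomogeneousIdeal

namespace Groth.Agent.Helper1.SymInvLoc

section Ring
variable {A : Type u} [CommRing A] (𝒜 : ℕ → AddSubgroup A) [GradedRing 𝒜]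

set_option backward.isDefEq.respectTransparency false in
theorem toSpecZero_mem_basicOpen {T : A} (hT : T ∈ 𝒜 1) (y : Proj 𝒜)
    (hTy : T ∉ y.asHomogeneousIdeal) (r₀ : 𝒜 0) (d : ℕ) (hd : 0 < d)
    (h : (r₀ : A) * T ^ d ∉ y.asHomogeneousIdeal) :
    Proj.toSpecZero 𝒜 y ∈ PrimeSpectrum.basicOpen r₀ := by
  obtain ⟨z, rfl⟩ := (RelCone3.mem_range_awayι_iff 𝒜 hT one_pos y).2 hTy
  have hb : (r₀ : A) * T ^ d ∈ 𝒜 d := by
    have := SetLike.mul_mem_graded r₀.2 (SetLike.pow_mem_graded d hT)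
    simpa using this
  have h1 := (RelCone3.awayι_mem_basicOpen_iff 𝒜 hT one_pos hb hd z).1
    ((Proj.mem_basicOpen 𝒜 _ _).2 h)
  have h2 : Proj.toSpecZero 𝒜 (Proj.awayι 𝒜 T hT one_pos z) =
      Spec.map (CommRingCat.ofHom (fromZeroRingHom 𝒜 (Submonoid.powers T))) z := by
    rw [← Proj.awayι_toSpecZero 𝒜 T hT one_pos]; rfl
  rw [h2]
  intro hmem
  apply h1
  have e : Away.isLocalizationElem hT hb = fromZeroRingHom 𝒜 (Submonoid.powers T) r₀ := by
    apply val_injective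
    rw [Away.val_mk]
    change _ = Localization.mk (r₀ : A) 1
    rw [Localization.mk_eq_mk_iff, Localization.r_iff_exists]
    refine ⟨1, ?_⟩
    simp only [OneMemClass.coe_one, one_mul, pow_one]
    exact mul_comm _ _
  rw [e]
  exact hmem

end Ring


section Rel
variable {X PL : Scheme.{u}} {𝒮L : RelProj.QCGrAlg X} {pL : PL ⟶ X}
  {chartL : ∀ (U : X.Opens) (hU : IsAffineOpen U),
    (((pL ⁻¹ᵁ U : PL.Opens) : Scheme.{u}) ≅ Proj (𝒮L.deg U hU))}

/-- the point of the base under a point of a chart lies in a basic open as soon as its trace on the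
degree-zero part does -/
theorem emb_mem_basicOpen (hPL : RelProj.IsRelProj 𝒮L pL chartL) (V : X.Opens)
    (hV : IsAffineOpen V) (y : Proj (𝒮L.deg V hV)) (r : Γ(X, V))
    (h : Proj.toSpecZero (𝒮L.deg V hV) y ∈ PrimeSpectrum.basicOpen ((𝒮L.strZero V hV).hom r)) :
    pL (RelProj.emb pL chartL V hV y) ∈ X.basicOpen r := by
  have e : RelProj.emb pL chartL V hV ≫ pL = Proj.toSpecZero (𝒮L.deg V hV) ≫
      Spec.map (𝒮L.strZero V hV) ≫ hV.fromSpec := by
    rw [RelProj.emb, Category.assoc, ← hPL.chart_over V hV, Iso.inv_hom_id_assoc]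
  have h2 : Spec.map (𝒮L.strZero V hV) (Proj.toSpecZero (𝒮L.deg V hV) y) ∈
      hV.fromSpec ⁻¹ᵁ X.basicOpen r := by
    rw [hV.fromSpec_preimage_basicOpen]
    exact h
  have h3 : (RelProj.emb pL chartL V hV ≫ pL) y ∈ X.basicOpen r := by
    rw [e]
    exact h2
  exact h3

end Rel

section Sym
open Groth.Agent.Helper1.SymAlg Groth.Agent.Helper1.LGen Groth.Agent.Helper1.QcCech
variable {X PL : Scheme.{u}} (L : X.Modules) [L.IsQuasicoherent]
  {𝒮L : RelProj.QCGrAlg X} {j : L ⟶ 𝒮L.toModule} (hj : RelProj.IsGrSymAlg L 𝒮L j)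
  {pL : PL ⟶ X}
  {chartL : ∀ (U : X.Opens) (hU : IsAffineOpen U),
    (((pL ⁻¹ᵁ U : PL.Opens) : Scheme.{u}) ≅ Proj (𝒮L.deg U hU))}

include hj in
/-- homogeneous elements over an open with a generator -/
theorem exists_coeff (V : X.Opens) (hV : IsAffineOpen V) (a : Γ(L, V)) (ha : IsGen L V a)
    (n : ℕ) (b : 𝒮L.presheaf.obj (op V)) (hb : b ∈ 𝒮L.deg V hV n) :
    ∃ r : Γ(X, V), b = (𝒮L.str.app (op V)).hom r *
      (show 𝒮L.presheaf.obj (op V) from j.app V a) ^ n := by
  have hbij : Function.Bijective (fun r : Γ(X, V) => r • a) := by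
    have := ha V le_rfl
    simpa only [res_self] using this
  obtain ⟨c, hc1, hc2, hle, hge⟩ := exists_gradedEquiv L hj V hV
  obtain ⟨r, hr⟩ := SymRk1.mem_deg a hbij (𝒮L.deg V hV) c hge n b hb
  exact ⟨r, by rw [hr, hc1, hc2]⟩

include hj in
/-- **key**: non-vanishing of a homogeneous element at a point of the chart forces the coefficient
to be invertible at the point below -/
theorem mem_basicOpen_of_notMem (hPL : RelProj.IsRelProj 𝒮L pL chartL) (V : X.Opens)
    (hV : IsAffineOpen V) (a : Γ(L, V)) (ha : IsGen L V a) (y : Proj (𝒮L.deg V hV))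
    (r : Γ(X, V)) (d : ℕ) (hd : 0 < d)
    (h : (𝒮L.str.app (op V)).hom r * (show 𝒮L.presheaf.obj (op V) from j.app V a) ^ d ∉
      y.asHomogeneousIdeal) :
    pL (RelProj.emb pL chartL V hV y) ∈ X.basicOpen r := by
  have hbij : Function.Bijective (fun r : Γ(X, V) => r • a) := by
    have := ha V le_rfl
    simpa only [res_self] using this
  obtain ⟨c, hc1, hc2, hle, hge⟩ := exists_gradedEquiv L hj V hV
  have hT := SymRk1.T_mem a (𝒮L.deg V hV) c hle
  have hTy := SymRk1.T_notMem a hbij (𝒮L.deg V hV) c hge y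
  rw [hc2] at hT hTy
  apply emb_mem_basicOpen hPL V hV y r
  exact toSpecZero_mem_basicOpen (𝒮L.deg V hV) hT y hTy ((𝒮L.strZero V hV).hom r) d hd h

end Sym


section Main
open Groth.Agent.Helper1.SymAlg Groth.Agent.Helper1.LGen Groth.Agent.Helper1.QcCech
open Groth.Agent.Helper1.ProjQ
variable {Y X PL : Scheme.{u}} (q : X ⟶ Y) (L : X.Modules) [L.IsQuasicoherent]
  {𝒮 : RelProj.QCGrAlg Y} {𝒮L : RelProj.QCGrAlg X} {j : L ⟶ 𝒮L.toModule}
  (hj : RelProj.IsGrSymAlg L 𝒮L j) (u : RelProj.QGrHom q 𝒮 𝒮L)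
  {pL : PL ⟶ X}
  {chartL : ∀ (U : X.Opens) (hU : IsAffineOpen U),
    (((pL ⁻¹ᵁ U : PL.Opens) : Scheme.{u}) ≅ Proj (𝒮L.deg U hU))}

include hj in
/-- if the degree-`n` part over `V` lies in the ideal generated by `t`, then `t` vanishes at no
point of the chart over `V` -/
theorem notMem_of_span (V : X.Opens) (hV : IsAffineOpen V) (n : ℕ)
    (t : 𝒮L.presheaf.obj (op V))
    (hsub : ((𝒮L.deg V hV n : AddSubgroup (𝒮L.presheaf.obj (op V))) :
      Set (𝒮L.presheaf.obj (op V))) ⊆ (Ideal.span {t} : Set (𝒮L.presheaf.obj (op V))))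
    (y : Proj (𝒮L.deg V hV)) : t ∉ y.asHomogeneousIdeal := by
  intro hmem
  obtain ⟨g, hg1, hgy⟩ := RP3.exists_deg_one_notMem (𝒮L.deg V hV)
    (isGenDegOne_of_isGrSymAlg hj V hV) y
  apply hgy
  have hgn : g ^ n ∈ 𝒮L.deg V hV n := by
    have := SetLike.pow_mem_graded n hg1
    simpa using this
  have h1 : g ^ n ∈ y.asHomogeneousIdeal.toIdeal :=
    (Ideal.span_le.2 (Set.singleton_subset_iff.2 hmem)) (hsub hgn)
  exact y.isPrime.mem_of_pow_mem n h1


include hj in
/-- restriction of `str r * (j a)^d` to a smaller open -/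
theorem map_coeff {V V' : X.Opens} (hle : V' ≤ V) (a : Γ(L, V)) (r : Γ(X, V)) (d : ℕ) :
    (𝒮L.presheaf.map (homOfLE hle).op).hom ((𝒮L.str.app (op V)).hom r *
      (show 𝒮L.presheaf.obj (op V) from j.app V a) ^ d) =
    (𝒮L.str.app (op V')).hom ((X.presheaf.map (homOfLE hle).op).hom r) *
      (show 𝒮L.presheaf.obj (op V') from j.app V' (res L hle a)) ^ d := by
  rw [map_mul, map_pow]
  congr 1
  · have := congrArg (fun ψ => ψ.hom r) (𝒮L.str.naturality (homOfLE hle).op)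
    exact this.symm
  · congr 1
    have := congrArg (fun ψ => ψ.hom a) (j.mapPresheaf.naturality (homOfLE hle).op)
    exact this.symm

include hj in
/-- **S12145** -/
theorem main12145 (hL : PicF.IsInvertible L) (hPL : RelProj.IsRelProj 𝒮L pL chartL)
    (hY : IsAffineOpen (⊤ : Y.Opens)) :
    RelProj.domQ u pL chartL = ⊤ ↔
      ∀ x : X, ∃ (n : ℕ) (_ : 0 < n) (s : 𝒮.presheaf.obj (op ⊤)) (_ : s ∈ 𝒮.deg ⊤ hY n)
        (V : X.Opens) (hV : IsAffineOpen V), x ∈ V ∧
          ((𝒮L.deg V hV n : AddSubgroup (𝒮L.presheaf.obj (op V))) :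
            Set (𝒮L.presheaf.obj (op V))) ⊆
            (Ideal.span {(u.appLE ⊤ V (le_top.trans (Scheme.Hom.preimage_top q).ge)).hom s} :
              Set (𝒮L.presheaf.obj (op V))) := by
  constructor
  · intro h x
    obtain ⟨W, a₀, hxW, ha₀⟩ := exists_isGen hL x
    obtain ⟨_, ⟨V, hV, rfl⟩, hxV, hVW⟩ :=
      X.isBasis_affineOpens.exists_subset_of_mem_open hxW W.2
    have ha := ha₀.res (show V ≤ W from hVW)
    set a := res L (show V ≤ W from hVW) a₀ with hadef
    let π : Pair q := ⟨⊤, hY, V, hV, le_top.trans (Scheme.Hom.preimage_top q).ge⟩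
    have hdom := domOpen_eq_top_of_domQ_eq_top u pL chartL hPL h π
    have hiso : IsIso pL := main12143 L hj hL hPL
    obtain ⟨x', rfl⟩ : ∃ x', pL x' = x := pL.homeomorph.surjective x
    have hx' : x' ∈ Set.range (RelProj.emb pL chartL V hV) := by
      rw [RelCone3.range_emb]; exact hxV
    obtain ⟨y, rfl⟩ := hx'
    have hy : y ∈ RelCone.domOpen (gr u π) := by rw [hdom]; trivial
    rw [mem_domOpen_iff] at hy
    obtain ⟨t, ht⟩ := hy
    rw [Proj.mem_basicOpen] at ht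
    have hb : gr u π t.f ∈ 𝒮L.deg V hV t.d := (gr u π).map_mem t.hf
    obtain ⟨r, hr⟩ := exists_coeff L hj V hV a ha t.d _ hb
    rw [hr] at ht
    have hxr := mem_basicOpen_of_notMem L hj hPL V hV a ha y r t.d t.hd ht
    refine ⟨t.d, t.hd, t.f, t.hf, X.basicOpen r, hV.basicOpen r, hxr, ?_⟩
    intro b' hb'
    have ha' := ha.res (X.basicOpen_le r)
    obtain ⟨r', hr'⟩ := exists_coeff L hj _ (hV.basicOpen r) _ ha' t.d b' hb'
    have e1 : (u.appLE ⊤ (X.basicOpen r) (le_top.trans (Scheme.Hom.preimage_top q).ge)).hom t.f =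
        (𝒮L.presheaf.map (homOfLE (X.basicOpen_le r)).op).hom (gr u π t.f) := by
      have := congrArg (fun ψ => ψ.hom t.f) (RelSpec.QHom.appLE_map u.toQHom
        (le_top.trans (Scheme.Hom.preimage_top q).ge : V ≤ q ⁻¹ᵁ ⊤) (X.basicOpen_le r))
      exact this.symm
    rw [hr, map_coeff L hj (X.basicOpen_le r) a r t.d] at e1
    have hunit : IsUnit ((X.presheaf.map (homOfLE (X.basicOpen_le r)).op).hom r) :=
      RingedSpace.isUnit_res_basicOpen X.toRingedSpace r
    obtain ⟨w, hw⟩ := hunit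
    rw [SetLike.mem_coe, Ideal.mem_span_singleton']
    refine ⟨(𝒮L.str.app (op (X.basicOpen r))).hom (r' * (↑w⁻¹ : Γ(X, X.basicOpen r))), ?_⟩
    rw [e1, hr', ← mul_assoc, ← map_mul]
    congr 2
    have hw' : (X.presheaf.map (homOfLE (X.basicOpen_le r)).op).hom r = ↑w := hw.symm
    rw [hw', mul_assoc, Units.inv_mul, mul_one]
  · intro h
    refine eq_top_iff.mpr fun x' _ => ?_
    obtain ⟨n, hn, s, hs, V, hV, hxV, hsub⟩ := h (pL x')
    let π : Pair q := ⟨⊤, hY, V, hV, le_top.trans (Scheme.Hom.preimage_top q).ge⟩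
    have hx' : x' ∈ Set.range (RelProj.emb pL chartL V hV) := by
      rw [RelCone3.range_emb]; exact hxV
    obtain ⟨y, rfl⟩ := hx'
    apply image_le_domQ u pL chartL π
    refine ⟨y, ?_, rfl⟩
    apply (RelCone.mem_domOpen _ _).2
    exact ⟨s, HomogeneousIdeal.mem_irrelevant_of_mem _ hn hs,
      notMem_of_span L hj V hV n _ hsub y⟩

end Main

end Groth.Agent.Helper1.SymInvLoc
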