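import Mathlib
import Groth.Agent.Lib.Helper1.SymInvLoc

set_option autoImplicit false
universe u

open CategoryTheory CategoryTheory.Limits AlgebraicGeometry TopologicalSpace Opposite
open HomogeneousLocalization
open scoped HomogeneousIdeal

namespace Groth.Agent.Helper1.SymInvLoc

section Main
open Groth.Agent.Helper1.SymAlg Groth.Agent.Helper1.LGen Groth.Agent.Helper1.QcCech
open Groth.Agent.Helper1.ProjQ
variable {Y X P PL : Scheme.{u}} (q : X ⟶ Y) (L : X.Modules) [L.IsQuasicoherent]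
  {𝒮 : RelProj.QCGrAlg Y} {𝒮L : RelProj.QCGrAlg X} {j : L ⟶ 𝒮L.toModule}
  (hj : RelProj.IsGrSymAlg L 𝒮L j) (u : RelProj.QGrHom q 𝒮 𝒮L)
  {p : P ⟶ Y}
  {chart : ∀ (U : Y.Opens) (hU : IsAffineOpen U),
    (((p ⁻¹ᵁ U : P.Opens) : Scheme.{u}) ≅ Proj (𝒮.deg U hU))}
  {pL : PL ⟶ X}
  {chartL : ∀ (U : X.Opens) (hU : IsAffineOpen U),
    (((pL ⁻¹ᵁ U : PL.Opens) : Scheme.{u}) ≅ Proj (𝒮L.deg U hU))}

include hj in
/-- a homogeneous element not vanishing at a point of the chart generates the degree-`d` part on a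
basic open neighbourhood of the point below -/
theorem exists_basicOpen_span (hPL : RelProj.IsRelProj 𝒮L pL chartL) (V : X.Opens)
    (hV : IsAffineOpen V) (a : Γ(L, V)) (ha : IsGen L V a) (y : Proj (𝒮L.deg V hV))
    (d : ℕ) (hd : 0 < d) (b : 𝒮L.presheaf.obj (op V)) (hb : b ∈ 𝒮L.deg V hV d)
    (hby : b ∉ y.asHomogeneousIdeal) :
    ∃ r : Γ(X, V), pL (RelProj.emb pL chartL V hV y) ∈ X.basicOpen r ∧
      ((𝒮L.deg (X.basicOpen r) (hV.basicOpen r) d :
        AddSubgroup (𝒮L.presheaf.obj (op (X.basicOpen r)))) :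
          Set (𝒮L.presheaf.obj (op (X.basicOpen r)))) ⊆
        (Ideal.span {(𝒮L.presheaf.map (homOfLE (X.basicOpen_le r)).op).hom b} :
          Set (𝒮L.presheaf.obj (op (X.basicOpen r)))) := by
  obtain ⟨r, hr⟩ := exists_coeff L hj V hV a ha d b hb
  rw [hr] at hby
  have hxr := mem_basicOpen_of_notMem L hj hPL V hV a ha y r d hd hby
  refine ⟨r, hxr, ?_⟩
  intro b' hb'
  have ha' := ha.res (X.basicOpen_le r)
  obtain ⟨r', hr'⟩ := exists_coeff L hj _ (hV.basicOpen r) _ ha' d b' hb'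
  have hunit : IsUnit ((X.presheaf.map (homOfLE (X.basicOpen_le r)).op).hom r) :=
    RingedSpace.isUnit_res_basicOpen X.toRingedSpace r
  obtain ⟨w, hw⟩ := hunit
  rw [SetLike.mem_coe, Ideal.mem_span_singleton']
  refine ⟨(𝒮L.str.app (op (X.basicOpen r))).hom (r' * (↑w⁻¹ : Γ(X, X.basicOpen r))), ?_⟩
  rw [hr, map_coeff L hj (X.basicOpen_le r) a r d, hr', ← mul_assoc, ← map_mul]
  congr 2
  have hw' : (X.presheaf.map (homOfLE (X.basicOpen_le r)).op).hom r = ↑w := hw.symm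
  rw [hw', mul_assoc, Units.inv_mul, mul_one]

include hj in
/-- **S12144** -/
theorem main12144 (hL : PicF.IsInvertible L) (hP : RelProj.IsRelProj 𝒮 p chart)
    (hPL : RelProj.IsRelProj 𝒮L pL chartL)
    (r : ((RelProj.domQ u pL chartL : PL.Opens) : Scheme.{u}) ⟶ P)
    (hr : RelProj.IsProjQMapOn u p chart pL chartL (RelProj.domQ u pL chartL) r)
    (hY : IsAffineOpen (⊤ : Y.Opens)) (d : ℕ) (hd : 0 < d) (f : 𝒮.presheaf.obj (op ⊤))
    (hf : f ∈ 𝒮.deg ⊤ hY d) :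
    (RelProj.domQ u pL chartL).ι ''ᵁ
        (r ⁻¹ᵁ ((RelProj.emb p chart ⊤ hY) ''ᵁ Proj.basicOpen (𝒮.deg ⊤ hY) f)) =
      pL ⁻¹ᵁ
        (⨆ V : {V : X.affineOpens //
          ((𝒮L.deg V.1 V.2 d : AddSubgroup (𝒮L.presheaf.obj (op (V.1 : X.Opens)))) :
            Set (𝒮L.presheaf.obj (op (V.1 : X.Opens)))) ⊆
            (Ideal.span {(u.appLE ⊤ (V.1 : X.Opens)
              (le_top.trans (Scheme.Hom.preimage_top q).ge)).hom f} :
                Set (𝒮L.presheaf.obj (op (V.1 : X.Opens))))},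
          (V.1.1 : X.Opens)) := by
  have hrr := (isProjQMapOn_iff u p chart pL chartL _ (range_jj_subset u pL chartL) r).1 hr
  -- pointwise form of `hrr`
  have hpt : ∀ (π : Pair q) (w : Xi u π),
      r (IsOpenImmersion.lift (RelProj.domQ u pL chartL).ι (jj u pL chartL π)
        (range_jj_subset u pL chartL π) w) =
      RelProj.emb p chart π.U π.hU (dmap (gr u π) w) := by
    intro π w
    have := congrArg (fun ψ : Xi u π ⟶ P => ψ w) (hrr π)
    exact this
  have hpt' : ∀ (π : Pair q) (w : Xi u π),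
      (RelProj.domQ u pL chartL).ι (IsOpenImmersion.lift (RelProj.domQ u pL chartL).ι
        (jj u pL chartL π) (range_jj_subset u pL chartL π) w) =
      RelProj.emb pL chartL π.U' π.hU' ((RelCone.domOpen (gr u π)).ι w) := by
    intro π w
    have := congrArg (fun ψ : Xi u π ⟶ PL => ψ w)
      (IsOpenImmersion.lift_fac (RelProj.domQ u pL chartL).ι (jj u pL chartL π)
        (range_jj_subset u pL chartL π))
    exact this
  apply le_antisymm
  · rintro _ ⟨x'', hx'', rfl⟩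
    set x' := (RelProj.domQ u pL chartL).ι x'' with hx'def
    obtain ⟨W, a₀, hxW, ha₀⟩ := exists_isGen hL (pL x')
    obtain ⟨_, ⟨V, hV, rfl⟩, hxV, hVW⟩ :=
      X.isBasis_affineOpens.exists_subset_of_mem_open hxW W.2
    have ha := ha₀.res (show V ≤ W from hVW)
    let π : Pair q := ⟨⊤, hY, V, hV, le_top.trans (Scheme.Hom.preimage_top q).ge⟩
    have hmem : x' ∈ RelProj.domQ u pL chartL ⊓ pL ⁻¹ᵁ π.U' := ⟨x''.2, hxV⟩
    rw [inf_preimage_eq' u pL chartL hPL π] at hmem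
    obtain ⟨y₁, hy₁, hy₁x⟩ := hmem
    let w : Xi u π := ⟨y₁, hy₁⟩
    have hw : IsOpenImmersion.lift (RelProj.domQ u pL chartL).ι (jj u pL chartL π)
        (range_jj_subset u pL chartL π) w = x'' := by
      apply (RelProj.domQ u pL chartL).ι.isOpenEmbedding.injective
      rw [hpt']
      exact hy₁x
    have hrx : r x'' = RelProj.emb p chart ⊤ hY (dmap (gr u π) w) := by
      rw [← hw]; exact hpt π w
    obtain ⟨z, hz, hzx⟩ := hx''
    rw [hrx] at hzx
    have hzw := (RelProj.emb p chart ⊤ hY).isOpenEmbedding.injective hzx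
    rw [hzw] at hz
    have hy₁f := (dmap_mem_basicOpen_iff (gr u π) hd hf w).1 hz
    rw [Proj.mem_basicOpen] at hy₁f
    have hb : gr u π f ∈ 𝒮L.deg V hV d := (gr u π).map_mem hf
    obtain ⟨r₀, hr₀x, hspan⟩ := exists_basicOpen_span L hj hPL V hV _ ha y₁ d hd _ hb hy₁f
    have e1 : (u.appLE ⊤ (X.basicOpen r₀) (le_top.trans (Scheme.Hom.preimage_top q).ge)).hom f =
        (𝒮L.presheaf.map (homOfLE (X.basicOpen_le r₀)).op).hom (gr u π f) := by
      have := congrArg (fun ψ => ψ.hom f) (RelSpec.QHom.appLE_map u.toQHom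
        (le_top.trans (Scheme.Hom.preimage_top q).ge : V ≤ q ⁻¹ᵁ ⊤) (X.basicOpen_le r₀))
      exact this.symm
    rw [← e1] at hspan
    have hr₀x' : pL x' ∈ X.basicOpen r₀ := hy₁x ▸ hr₀x
    exact Opens.mem_iSup.2 ⟨⟨⟨X.basicOpen r₀, hV.basicOpen r₀⟩, hspan⟩, hr₀x'⟩
  · intro x' hx'
    obtain ⟨⟨⟨V, (hV : IsAffineOpen V)⟩, hspan⟩, hxV⟩ := Opens.mem_iSup.1 hx'
    let π : Pair q := ⟨⊤, hY, V, hV, le_top.trans (Scheme.Hom.preimage_top q).ge⟩
    have hx'r : x' ∈ Set.range (RelProj.emb pL chartL V hV) := by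
      rw [RelCone3.range_emb]; exact hxV
    obtain ⟨y, rfl⟩ := hx'r
    have hyf : gr u π f ∉ y.asHomogeneousIdeal := notMem_of_span L hj V hV d _ hspan y
    have hyd : y ∈ RelCone.domOpen (gr u π) :=
      (mem_domOpen_iff (gr u π) y).2 ⟨⟨d, hd, f, hf⟩, (Proj.mem_basicOpen _ _ _).2 hyf⟩
    let w : Xi u π := ⟨y, hyd⟩
    refine ⟨IsOpenImmersion.lift (RelProj.domQ u pL chartL).ι (jj u pL chartL π)
        (range_jj_subset u pL chartL π) w, ?_, hpt' π w⟩
    refine ⟨dmap (gr u π) w, ?_, (hpt π w).symm⟩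
    exact (dmap_mem_basicOpen_iff (gr u π) hd hf w).2 ((Proj.mem_basicOpen _ _ _).2 hyf)

end Main

end Groth.Agent.Helper1.SymInvLoc
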