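import Mathlib
import Groth.Agent.Lib.Helper1.SymInvLoc2
import Groth.Agent.Lib.Helper1.ProjTop

set_option autoImplicit false
universe u

open CategoryTheory CategoryTheory.Limits AlgebraicGeometry TopologicalSpace Opposite
open HomogeneousLocalization
open scoped HomogeneousIdeal

namespace Groth.Agent.Helper1.SymInvLoc

section Ring
variable {A σ : Type u} [CommRing A] [SetLike σ A] [AddSubgroupClass σ A] (𝒜 : ℕ → σ)
  [GradedRing 𝒜]

/-- basic opens of homogeneous elements of positive degree form a basis of `Proj` -/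
theorem exists_basicOpen_le (O : (Proj 𝒜).Opens) (x₀ : Proj 𝒜) (hx₀ : x₀ ∈ O) :
    ∃ (n : ℕ) (_ : 0 < n) (s : A) (_ : s ∈ 𝒜 n), x₀ ∈ Proj.basicOpen 𝒜 s ∧
      Proj.basicOpen 𝒜 s ≤ O := by
  obtain ⟨_, ⟨_, ⟨f, rfl⟩, rfl⟩, hxf, hfO⟩ :=
    (Proj.isBasis_basicOpen 𝒜).exists_subset_of_mem_open hx₀ O.2
  have hxf' : x₀ ∈ Proj.basicOpen 𝒜 f := hxf
  rw [Proj.basicOpen_eq_iSup_proj, Opens.mem_iSup] at hxf'
  obtain ⟨i, hi⟩ := hxf'
  have hle : Proj.basicOpen 𝒜 (GradedRing.proj 𝒜 i f) ≤ Proj.basicOpen 𝒜 f := by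
    rw [Proj.basicOpen_eq_iSup_proj 𝒜 f]
    exact le_iSup (fun i => Proj.basicOpen 𝒜 (GradedRing.proj 𝒜 i f)) i
  obtain ⟨k, hk, g, hg, hgx⟩ := ProjTop.exists_homogeneous_notMem 𝒜 x₀
  refine ⟨i + k, Nat.add_pos_right i hk, GradedRing.proj 𝒜 i f * g,
    SetLike.mul_mem_graded (by rw [GradedRing.proj_apply]; exact SetLike.coe_mem _) hg, ?_, ?_⟩
  · rw [Proj.basicOpen_mul]
    exact ⟨hi, (Proj.mem_basicOpen 𝒜 g x₀).2 hgx⟩
  · rw [Proj.basicOpen_mul]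
    exact inf_le_left.trans (hle.trans hfO)

end Ring


section Main
open Groth.Agent.Helper1.SymAlg Groth.Agent.Helper1.LGen Groth.Agent.Helper1.QcCech
open Groth.Agent.Helper1.ProjQ
variable {Y X P PL : Scheme.{u}} (q : X ⟶ Y)
  {𝒮 : RelProj.QCGrAlg Y} {𝒮L : RelProj.QCGrAlg X} (u : RelProj.QGrHom q 𝒮 𝒮L)
  {p : P ⟶ Y}
  {chart : ∀ (U : Y.Opens) (hU : IsAffineOpen U),
    (((p ⁻¹ᵁ U : P.Opens) : Scheme.{u}) ≅ Proj (𝒮.deg U hU))}
  {pL : PL ⟶ X}
  {chartL : ∀ (U : X.Opens) (hU : IsAffineOpen U),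
    (((pL ⁻¹ᵁ U : PL.Opens) : Scheme.{u}) ≅ Proj (𝒮L.deg U hU))}
  (r : ((RelProj.domQ u pL chartL : PL.Opens) : Scheme.{u}) ⟶ P)
  (hr : RelProj.IsProjQMapOn u p chart pL chartL (RelProj.domQ u pL chartL) r)

include hr in
/-- the point of `G(u)` attached to a point of a local domain of definition -/
theorem exists_point_of_chart (π : Pair q) (w : Xi u π) :
    ∃ x'' : ((RelProj.domQ u pL chartL : PL.Opens) : Scheme.{u}),
      (RelProj.domQ u pL chartL).ι x'' =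
        RelProj.emb pL chartL π.U' π.hU' ((RelCone.domOpen (gr u π)).ι w) ∧
      r x'' = RelProj.emb p chart π.U π.hU (dmap (gr u π) w) := by
  have hrr := (isProjQMapOn_iff u p chart pL chartL _ (range_jj_subset u pL chartL) r).1 hr
  refine ⟨IsOpenImmersion.lift (RelProj.domQ u pL chartL).ι (jj u pL chartL π)
        (range_jj_subset u pL chartL π) w, ?_, ?_⟩
  · have := congrArg (fun ψ : Xi u π ⟶ PL => ψ w)
      (IsOpenImmersion.lift_fac (RelProj.domQ u pL chartL).ι (jj u pL chartL π)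
        (range_jj_subset u pL chartL π))
    exact this
  · have := congrArg (fun ψ : Xi u π ⟶ P => ψ w) (hrr π)
    exact this

include hr in
/-- every point of `G(u)` over `U'` comes from the local domain of definition of the pair -/
theorem exists_chart_of_point (hPL : RelProj.IsRelProj 𝒮L pL chartL) (π : Pair q)
    (x'' : ((RelProj.domQ u pL chartL : PL.Opens) : Scheme.{u}))
    (hx : pL ((RelProj.domQ u pL chartL).ι x'') ∈ π.U') :
    ∃ w : Xi u π,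
      RelProj.emb pL chartL π.U' π.hU' ((RelCone.domOpen (gr u π)).ι w) =
        (RelProj.domQ u pL chartL).ι x'' ∧
      r x'' = RelProj.emb p chart π.U π.hU (dmap (gr u π) w) := by
  have hmem : (RelProj.domQ u pL chartL).ι x'' ∈ RelProj.domQ u pL chartL ⊓ pL ⁻¹ᵁ π.U' :=
    ⟨x''.2, hx⟩
  rw [inf_preimage_eq' u pL chartL hPL π] at hmem
  obtain ⟨y₁, hy₁, hy₁x⟩ := hmem
  obtain ⟨x₂, hx₂, hrx₂⟩ := exists_point_of_chart q u r hr π ⟨y₁, hy₁⟩
  have : x₂ = x'' := by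
    apply (RelProj.domQ u pL chartL).ι.isOpenEmbedding.injective
    rw [hx₂]; exact hy₁x
  subst this
  exact ⟨⟨y₁, hy₁⟩, hy₁x, hrx₂⟩

include hr in
/-- **S12146** -/
theorem main12146 (hP : RelProj.IsRelProj 𝒮 p chart) (hPL : RelProj.IsRelProj 𝒮L pL chartL)
    (hY : IsAffineOpen (⊤ : Y.Opens)) :
    IsDominant r ↔
      ∀ (n : ℕ), 0 < n → ∀ s ∈ 𝒮.deg ⊤ hY n,
        (∀ x : X, ∃ (V : X.Opens) (_ : IsAffineOpen V), x ∈ V ∧
          IsNilpotent ((u.appLE ⊤ V (le_top.trans (Scheme.Hom.preimage_top q).ge)).hom s)) →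
          IsNilpotent s := by
  constructor
  · intro hdom n hn s hs hloc
    by_contra hnil
    obtain ⟨x₀, hx₀⟩ := ProjTop.exists_notMem_of_not_isNilpotent (𝒮.deg ⊤ hY)
      (HomogeneousIdeal.mem_irrelevant_of_mem _ hn hs) hnil
    let D : P.Opens := (RelProj.emb p chart ⊤ hY) ''ᵁ Proj.basicOpen (𝒮.deg ⊤ hY) s
    have hDne : (D : Set P).Nonempty :=
      ⟨RelProj.emb p chart ⊤ hY x₀, x₀, (Proj.mem_basicOpen _ _ _).2 hx₀, rfl⟩
    obtain ⟨_, hzD, x'', rfl⟩ := hdom.denseRange.inter_open_nonempty _ D.2 hDne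
    obtain ⟨V, hV, hxV, hnilV⟩ := hloc (pL ((RelProj.domQ u pL chartL).ι x''))
    let π : Pair q := ⟨⊤, hY, V, hV, le_top.trans (Scheme.Hom.preimage_top q).ge⟩
    obtain ⟨w, hw, hrw⟩ := exists_chart_of_point q u r hr hPL π x'' hxV
    obtain ⟨z, hz, hzx⟩ := hzD
    rw [hrw] at hzx
    have hzw := (RelProj.emb p chart ⊤ hY).isOpenEmbedding.injective hzx
    rw [hzw] at hz
    have hy₁f := (dmap_mem_basicOpen_iff (gr u π) hn hs w).1 hz
    rw [Proj.mem_basicOpen] at hy₁f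
    apply hy₁f
    obtain ⟨k, hk⟩ := hnilV
    have hk' : (gr u π s) ^ k = 0 := hk
    have : (gr u π s) ^ k ∈ ((RelCone.domOpen (gr u π)).ι w).asHomogeneousIdeal.toIdeal := by
      rw [hk']; exact Ideal.zero_mem _
    exact ((RelCone.domOpen (gr u π)).ι w).isPrime.mem_of_pow_mem k this
  · intro h
    refine ⟨dense_iff_inter_open.2 fun O hO hOne => ?_⟩
    obtain ⟨z₀, hz₀⟩ := hOne
    have hz₀r : z₀ ∈ Set.range (RelProj.emb p chart ⊤ hY) := by
      rw [RelCone3.range_emb]; trivial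
    obtain ⟨x₀, rfl⟩ := hz₀r
    let O' : (Proj (𝒮.deg ⊤ hY)).Opens := (RelProj.emb p chart ⊤ hY) ⁻¹ᵁ ⟨O, hO⟩
    obtain ⟨n, hn, s, hs, hx₀s, hsO⟩ := exists_basicOpen_le (𝒮.deg ⊤ hY) O' x₀ hz₀
    have hnil : ¬ IsNilpotent s := by
      rintro ⟨k, hk⟩
      rw [Proj.mem_basicOpen] at hx₀s
      apply hx₀s
      have : s ^ k ∈ x₀.asHomogeneousIdeal.toIdeal := by rw [hk]; exact Ideal.zero_mem _
      exact x₀.isPrime.mem_of_pow_mem k this
    have h1 := mt (h n hn s hs) hnil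
    push Not at h1
    obtain ⟨x, hx⟩ := h1
    obtain ⟨_, ⟨V, hV, rfl⟩, hxV, -⟩ :=
      X.isBasis_affineOpens.exists_subset_of_mem_open (Set.mem_univ x) isOpen_univ
    have hVnil := hx V hV hxV
    let π : Pair q := ⟨⊤, hY, V, hV, le_top.trans (Scheme.Hom.preimage_top q).ge⟩
    have hb : gr u π s ∈ 𝒮L.deg V hV n := (gr u π).map_mem hs
    obtain ⟨y₂, hy₂⟩ := ProjTop.exists_notMem_of_not_isNilpotent (𝒮L.deg V hV)
      (HomogeneousIdeal.mem_irrelevant_of_mem _ hn hb) hVnil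
    have hyd : y₂ ∈ RelCone.domOpen (gr u π) :=
      (mem_domOpen_iff (gr u π) y₂).2 ⟨⟨n, hn, s, hs⟩, (Proj.mem_basicOpen _ _ _).2 hy₂⟩
    obtain ⟨x'', -, hrx⟩ := exists_point_of_chart q u r hr π ⟨y₂, hyd⟩
    refine ⟨r x'', ?_, x'', rfl⟩
    rw [hrx]
    have : dmap (gr u π) ⟨y₂, hyd⟩ ∈ Proj.basicOpen (𝒮.deg ⊤ hY) s :=
      (dmap_mem_basicOpen_iff (gr u π) hn hs _).2 ((Proj.mem_basicOpen _ _ _).2 hy₂)
    exact hsO this

end Main

end Groth.Agent.Helper1.SymInvLoc
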