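import Mathlib
import Groth.Agent.Lib.Helper1.ProjClosed
import Groth.Agent.Lib.Helper1.GrQuotZ
import Groth.Agent.Lib.Helper1.SymInvLoc3

/-!
# Closed subschemes of `Proj 𝒜` are `Proj` of graded quotients: the general case (helper1 library)
-/

open AlgebraicGeometry CategoryTheory HomogeneousLocalization DirectSum
open scoped HomogeneousIdeal

universe u

namespace Groth.Agent.Helper1.ProjClosedG

open Groth.Agent.Helper1.ProjClosed

section Alg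
variable {A : Type u} [CommRing A] (𝒜 : ℕ → AddSubgroup A) [GradedRing 𝒜]

/-- `c ↦ c_{n e} / g ^ n` -/
noncomputable def el {e : ℕ} {g : A} (hg : g ∈ 𝒜 e) (n : ℕ) (c : A) : Away 𝒜 g :=
  Away.mk 𝒜 hg n (decompose 𝒜 c (n • e) : A) (SetLike.coe_mem _)

variable {e : ℕ} {g : A} (hg : g ∈ 𝒜 e)

theorem val_el (n : ℕ) (c : A) :
    (el 𝒜 hg n c).val = Localization.mk (decompose 𝒜 c (n • e) : A)
      (⟨g ^ n, n, rfl⟩ : Submonoid.powers g) := rfl

theorem el_add (n : ℕ) (a b : A) : el 𝒜 hg n (a + b) = el 𝒜 hg n a + el 𝒜 hg n b := by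
  apply HomogeneousLocalization.val_injective
  rw [HomogeneousLocalization.val_add, val_el, val_el, val_el, decompose_add, DirectSum.add_apply,
    AddMemClass.coe_add, Localization.add_mk_self]

theorem el_zero (n : ℕ) : el 𝒜 hg n 0 = 0 := by
  apply HomogeneousLocalization.val_injective
  rw [val_el, decompose_zero, DirectSum.zero_apply, ZeroMemClass.coe_zero, HomogeneousLocalization.val_zero,
    Localization.mk_zero]

theorem el_of_mem {n : ℕ} {a : A} (ha : a ∈ 𝒜 (n • e)) :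
    el 𝒜 hg n a = Away.mk 𝒜 hg n a ha := by
  apply HomogeneousLocalization.val_injective
  rw [val_el, Away.val_mk, decompose_of_mem_same 𝒜 ha]

theorem el_of_mem_ne {n k : ℕ} {a : A} (ha : a ∈ 𝒜 k) (h : k ≠ n • e) : el 𝒜 hg n a = 0 := by
  apply HomogeneousLocalization.val_injective
  rw [val_el, decompose_of_mem_ne 𝒜 ha h, HomogeneousLocalization.val_zero, Localization.mk_zero]

/-- product formula -/
theorem el_mul_mk {K n : ℕ} {c b : A} (hc : c ∈ 𝒜 (K • e)) {m : ℕ} (hb : b ∈ 𝒜 m)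
    (h : K • e + m = n • e) (he : 0 < e) :
    ∃ (hb' : b ∈ 𝒜 ((n - K) • e)),
      el 𝒜 hg n (c * b) = Away.mk 𝒜 hg K c hc * Away.mk 𝒜 hg (n - K) b hb' := by
  have hKn : K ≤ n := by
    by_contra hlt
    rw [not_le] at hlt
    have : n • e < K • e := by
      simp only [smul_eq_mul]; exact Nat.mul_lt_mul_of_pos_right hlt he
    omega
  have hm : m = (n - K) • e := by
    simp only [smul_eq_mul] at h ⊢
    rw [Nat.sub_mul]; omega
  subst hm
  refine ⟨hb, ?_⟩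
  have hcb : c * b ∈ 𝒜 (n • e) := h ▸ SetLike.mul_mem_graded hc hb
  rw [el_of_mem 𝒜 hg hcb]
  apply HomogeneousLocalization.val_injective
  rw [HomogeneousLocalization.val_mul, Away.val_mk, Away.val_mk, Away.val_mk, Localization.mk_mul]
  congr 1
  ext
  simp only [Submonoid.coe_mul]
  rw [← pow_add, Nat.add_sub_cancel' hKn]

end Alg

section Geo
variable {A : Type u} [CommRing A] (𝒜 : ℕ → AddSubgroup A) [GradedRing 𝒜]
  {Z : Scheme.{u}} (i : Z ⟶ Proj 𝒜)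

/-- the homogeneous ideal cut out by a closed subscheme -/
noncomputable def I : Ideal A where
  carrier := {a | ∀ (e : ℕ) (_ : 0 < e) (g : A) (hg : g ∈ 𝒜 e) (n : ℕ) (b : A),
    ψ 𝒜 i g (el 𝒜 hg n (a * b)) = 0}
  zero_mem' := fun e _ g hg n b => by rw [zero_mul, el_zero, map_zero]
  add_mem' := fun {a a'} ha ha' e he g hg n b => by
    rw [add_mul, el_add, map_add, ha e he g hg n b, ha' e he g hg n b, add_zero]
  smul_mem' := fun c {a} ha e he g hg n b => by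
    rw [smul_eq_mul, mul_comm c a, mul_assoc]
    exact ha e he g hg n (c * b)

theorem mem_I {a : A} : a ∈ I 𝒜 i ↔ ∀ (e : ℕ) (_ : 0 < e) (g : A) (hg : g ∈ 𝒜 e) (n : ℕ) (b : A),
    ψ 𝒜 i g (el 𝒜 hg n (a * b)) = 0 := Iff.rfl

theorem I_isHomogeneous : (I 𝒜 i).IsHomogeneous 𝒜 := by
  classical
  intro k a ha e he g hg n b
  induction b using DirectSum.Decomposition.inductionOn 𝒜 with
  | zero => rw [mul_zero, el_zero, map_zero]
  | add b b' hb hb' => rw [mul_add, el_add, map_add, hb, hb', add_zero]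
  | homogeneous b =>
    rename_i m
    by_cases hkm : k + m = n • e
    · have hle : m ≤ n • e := hkm ▸ Nat.le_add_left m k
      have hsub : n • e - m = k := by rw [← hkm, Nat.add_sub_cancel]
      have h1 : (decompose 𝒜 (a * (b : A)) (n • e) : A) = (decompose 𝒜 a k : A) * b := by
        rw [coe_decompose_mul_of_right_mem_of_le 𝒜 b.2 hle, hsub]
      have h2 : el 𝒜 hg n ((decompose 𝒜 a k : A) * b) = el 𝒜 hg n (a * b) := by
        apply HomogeneousLocalization.val_injective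
        rw [val_el, val_el, h1, decompose_of_mem_same 𝒜
          (hkm ▸ SetLike.mul_mem_graded (SetLike.coe_mem _) b.2)]
      rw [h2]
      exact ha e he g hg n b
    · rw [el_of_mem_ne 𝒜 hg (SetLike.mul_mem_graded (SetLike.coe_mem _) b.2) hkm, map_zero]

/-- elements killed at a chart stay killed after multiplication -/
theorem psi_el_mul_eq_zero {e : ℕ} (he : 0 < e) {g : A} (hg : g ∈ 𝒜 e) {K : ℕ} {c : A}
    (hc : c ∈ 𝒜 (K • e)) (h0 : ψ 𝒜 i g (Away.mk 𝒜 hg K c hc) = 0) (n : ℕ) (b : A) :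
    ψ 𝒜 i g (el 𝒜 hg n (c * b)) = 0 := by
  classical
  induction b using DirectSum.Decomposition.inductionOn 𝒜 with
  | zero => rw [mul_zero, el_zero, map_zero]
  | add b b' hb hb' => rw [mul_add, el_add, map_add, hb, hb', add_zero]
  | homogeneous b =>
    rename_i m
    by_cases h : K • e + m = n • e
    · obtain ⟨hb', heq⟩ := el_mul_mk 𝒜 hg hc b.2 h he
      rw [heq, map_mul, h0, zero_mul]
    · rw [el_of_mem_ne 𝒜 hg (SetLike.mul_mem_graded hc b.2) h, map_zero]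

omit [GradedRing 𝒜] in
theorem mem_of_eq {k k' : ℕ} (h : k = k') {x : A} (hx : x ∈ 𝒜 k) : x ∈ 𝒜 k' := h ▸ hx

/-- transfer of vanishing from the chart of `f` to the chart of `g`, on the overlap -/
theorem psi_overlap {e d' : ℕ} {g f : A} (hg : g ∈ 𝒜 e) (hf : f ∈ 𝒜 (d' + 1)) (n : ℕ) (c : A)
    (hc : c ∈ 𝒜 (n • e))
    (hc' : c * g ^ (n * d') ∈ 𝒜 ((n * e) • (d' + 1)))
    (h0 : ψ 𝒜 i f (Away.mk 𝒜 hf (n * e) (c * g ^ (n * d')) hc') = 0) :
    ψ 𝒜 i (g * f) (awayMap 𝒜 hf rfl (Away.mk 𝒜 hg n c hc)) = 0 := by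
  have h1 : ψ 𝒜 i (g * f) (awayMap 𝒜 hg (mul_comm g f)
      (Away.mk 𝒜 hf (n * e) (c * g ^ (n * d')) hc')) = 0 := by
    rw [ψ_awayMap, h0, map_zero]
  rw [awayMap_mk] at h1 ⊢
  have hx : g * f ∈ 𝒜 (e + (d' + 1)) := SetLike.mul_mem_graded hg hf
  have hu : f ^ (n * e + n * (d' + 1)) ∈ 𝒜 ((n * (d' + 1)) • (e + (d' + 1))) := by
    refine mem_of_eq 𝒜 ?_ (SetLike.pow_mem_graded (n * e + n * (d' + 1)) hf)
    simp only [smul_eq_mul]; ring
  have hT : ∀ (h₁ : g * f ∈ 𝒜 (e + (d' + 1))) (h₂ : g * f ∈ 𝒜 (d' + 1 + e))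
      (hn : c * f ^ n ∈ 𝒜 (n • (e + (d' + 1))))
      (hk : c * g ^ (n * d') * g ^ (n * e) ∈ 𝒜 ((n * e) • (d' + 1 + e))),
      Away.mk 𝒜 h₁ n (c * f ^ n) hn =
        Away.mk 𝒜 h₂ (n * e) (c * g ^ (n * d') * g ^ (n * e)) hk *
          Away.mk 𝒜 hx (n * (d' + 1)) (f ^ (n * e + n * (d' + 1))) hu := by
    intro h₁ h₂ hn hk
    apply HomogeneousLocalization.val_injective
    rw [HomogeneousLocalization.val_mul, Away.val_mk, Away.val_mk, Away.val_mk,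
      Localization.mk_mul, Localization.mk_eq_mk_iff, Localization.r_iff_exists]
    refine ⟨1, ?_⟩
    simp only [OneMemClass.coe_one, one_mul, Submonoid.coe_mul]
    ring
  have h₂' : g * f ∈ 𝒜 (d' + 1 + e) := mem_of_eq 𝒜 (add_comm _ _) hx
  have hk' : c * g ^ (n * d') * g ^ (n * e) ∈ 𝒜 ((n * e) • (d' + 1 + e)) := by
    rw [smul_add]; exact SetLike.mul_mem_graded hc' (SetLike.pow_mem_graded (n * e) hg)
  have h1' : ψ 𝒜 i (g * f) (Away.mk 𝒜 h₂' (n * e) (c * g ^ (n * d') * g ^ (n * e)) hk') = 0 := h1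
  rw [hT _ h₂' _ hk', map_mul, h1', zero_mul]

/-- vanishing on a cover implies membership -/
theorem mem_I_of_cover {ι : Type*} (f : ι → A) (d : ι → ℕ) (hd : ∀ j, 0 < d j)
    (hf : ∀ j, f j ∈ 𝒜 (d j)) (hcov : ⨆ j, Proj.basicOpen 𝒜 (f j) = ⊤) (a : A)
    (h : ∀ j n b, ψ 𝒜 i (f j) (el 𝒜 (hf j) n (a * b)) = 0) : a ∈ I 𝒜 i := by
  classical
  intro e he g hg n b
  refine TopCat.Sheaf.eq_of_locally_eq' Z.sheaf
    (fun j => i ⁻¹ᵁ Proj.basicOpen 𝒜 (g * f j)) (i ⁻¹ᵁ Proj.basicOpen 𝒜 g)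
    (fun j => homOfLE (i.preimage_mono (Proj.basicOpen_mono 𝒜 g (g * f j) ⟨f j, rfl⟩))) ?_ _ _ ?_
  · intro x hx
    have hx' : i x ∈ (⨆ j, Proj.basicOpen 𝒜 (f j)) := by rw [hcov]; trivial
    obtain ⟨j, hj⟩ := TopologicalSpace.Opens.mem_iSup.1 hx'
    refine TopologicalSpace.Opens.mem_iSup.2 ⟨j, ?_⟩
    change i x ∈ Proj.basicOpen 𝒜 (g * f j)
    rw [Proj.basicOpen_mul]
    exact ⟨hx, hj⟩
  · intro j
    refine Eq.trans ?_ (map_zero _).symm
    have hc : (decompose 𝒜 (a * b) (n • e) : A) ∈ 𝒜 (n • e) := SetLike.coe_mem _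
    obtain ⟨d', hd'⟩ : ∃ d', d j = d' + 1 := ⟨d j - 1, by have := hd j; omega⟩
    have key : ∀ (dd : ℕ) (hdd : dd = d' + 1) (hfj : f j ∈ 𝒜 dd)
        (hh : ∀ n b, ψ 𝒜 i (f j) (el 𝒜 hfj n (a * b)) = 0),
        ψ 𝒜 i (g * f j) (awayMap 𝒜 hfj rfl (el 𝒜 hg n (a * b))) = 0 := by
      intro dd hdd hfj hh
      subst hdd
      have hgp : g ^ (n * d') ∈ 𝒜 ((n * d') • e) := SetLike.pow_mem_graded _ hg
      have hle : (n * d') • e ≤ (n * e) • (d' + 1) := by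
        simp only [smul_eq_mul]
        nlinarith [Nat.zero_le (n * e)]
      have hsub : (n * e) • (d' + 1) - (n * d') • e = n • e := by
        simp only [smul_eq_mul]
        have : n * e * (d' + 1) = n * d' * e + n * e := by ring
        omega
      have h2 : (decompose 𝒜 (a * (b * g ^ (n * d'))) ((n * e) • (d' + 1)) : A) =
          (decompose 𝒜 (a * b) (n • e) : A) * g ^ (n * d') := by
        rw [← mul_assoc, coe_decompose_mul_of_right_mem_of_le 𝒜 hgp hle, hsub]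
      have hc' : (decompose 𝒜 (a * b) (n • e) : A) * g ^ (n * d') ∈ 𝒜 ((n * e) • (d' + 1)) := by
        rw [← h2]; exact SetLike.coe_mem _
      have h3 : el 𝒜 hfj (n * e) (a * (b * g ^ (n * d'))) =
          Away.mk 𝒜 hfj (n * e) ((decompose 𝒜 (a * b) (n • e) : A) * g ^ (n * d')) hc' := by
        apply HomogeneousLocalization.val_injective
        rw [val_el, Away.val_mk, h2]
      have h0 := hh (n * e) (b * g ^ (n * d'))
      rw [h3] at h0
      exact psi_overlap 𝒜 i hg hfj n _ hc hc' h0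
    have := key (d j) hd' (hf j) (h j)
    exact (ψ_awayMap 𝒜 i (hf j) rfl (el 𝒜 hg n (a * b))).symm.trans this

/-- the key quasi-compactness argument, for arbitrary degrees -/
theorem exists_pow_mem [QuasiCompact i] {e e' : ℕ} (he : 0 < e) {f g : A} (hf : f ∈ 𝒜 e)
    (hg : g ∈ 𝒜 (e' + 1)) (k : ℕ) (c : A) (hc : c ∈ 𝒜 (k • e))
    (h0 : ψ 𝒜 i f (Away.mk 𝒜 hf k c hc) = 0) :
    ∃ N : ℕ, ∀ (n : ℕ) (b : A), ψ 𝒜 i g (el 𝒜 hg n (f ^ N * c * b)) = 0 := by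
  have hy₀ : c * f ^ (k * e') ∈ 𝒜 ((k * e) • (e' + 1)) := by
    refine mem_of_eq 𝒜 ?_ (SetLike.mul_mem_graded hc (SetLike.pow_mem_graded (k * e') hf))
    simp only [smul_eq_mul]; ring
  -- step 1: vanishing on the overlap
  have h1 : ψ 𝒜 i (g * f) (awayMap 𝒜 hg (mul_comm g f) (Away.mk 𝒜 hf k c hc)) = 0 := by
    rw [ψ_awayMap, h0, map_zero]
  have hx : g * f ∈ 𝒜 (e' + 1 + e) := SetLike.mul_mem_graded hg hf
  have h2 : ψ 𝒜 i (g * f) (awayMap 𝒜 hf rfl (Away.mk 𝒜 hg (k * e) (c * f ^ (k * e')) hy₀)) = 0 := by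
    rw [awayMap_mk] at h1 ⊢
    have hu : f ^ (k * (e' + 1) + k * e) ∈ 𝒜 ((k * e) • (e' + 1 + e)) := by
      refine mem_of_eq 𝒜 ?_ (SetLike.pow_mem_graded (k * (e' + 1) + k * e) hf)
      simp only [smul_eq_mul]; ring
    have h₂' : g * f ∈ 𝒜 (e + (e' + 1)) := mem_of_eq 𝒜 (add_comm _ _) hx
    have hk' : c * g ^ k ∈ 𝒜 (k • (e + (e' + 1))) := by
      rw [smul_add]; exact SetLike.mul_mem_graded hc (SetLike.pow_mem_graded k hg)
    have h1' : ψ 𝒜 i (g * f) (Away.mk 𝒜 h₂' k (c * g ^ k) hk') = 0 := h1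
    have hT : ∀ (h₁ : g * f ∈ 𝒜 (e' + 1 + e))
        (hn : c * f ^ (k * e') * f ^ (k * e) ∈ 𝒜 ((k * e) • (e' + 1 + e))),
        Away.mk 𝒜 h₁ (k * e) (c * f ^ (k * e') * f ^ (k * e)) hn =
          Away.mk 𝒜 h₂' k (c * g ^ k) hk' *
            Away.mk 𝒜 hx (k * e) (f ^ (k * (e' + 1) + k * e)) hu := by
      intro h₁ hn
      apply HomogeneousLocalization.val_injective
      rw [HomogeneousLocalization.val_mul, Away.val_mk, Away.val_mk, Away.val_mk,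
        Localization.mk_mul, Localization.mk_eq_mk_iff, Localization.r_iff_exists]
      refine ⟨1, ?_⟩
      simp only [OneMemClass.coe_one, one_mul, Submonoid.coe_mul]
      ring
    rw [hT _ _, map_mul, h1', zero_mul]
  -- step 2: the section of the localising element
  have hw : f ^ (e' + 1) ∈ 𝒜 (e • (e' + 1)) := by
    refine mem_of_eq 𝒜 ?_ (SetLike.pow_mem_graded (e' + 1) hf)
    simp only [smul_eq_mul]; ring
  have hcomp : IsCompact (i ⁻¹ᵁ Proj.basicOpen 𝒜 g : Set Z) :=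
    i.isCompact_preimage (Proj.isAffineOpen_basicOpen 𝒜 g hg (Nat.succ_pos e')).isCompact
  have hle : Z.basicOpen (ψ 𝒜 i g (Away.mk 𝒜 hg e (f ^ (e' + 1)) hw)) ≤
      i ⁻¹ᵁ Proj.basicOpen 𝒜 (g * f) := by
    rw [ψ_apply, ← Scheme.preimage_basicOpen]
    apply i.preimage_mono
    rw [Proj.basicOpen_mul]
    refine le_inf (Scheme.basicOpen_le _ _) ?_
    refine (basicOpen_awayToSection_le 𝒜 hg e (f ^ (e' + 1)) hw).trans ?_
    rw [Proj.basicOpen_pow 𝒜 f (e' + 1) (Nat.succ_pos e')]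
  have hres : Z.presheaf.map (homOfLE (i.preimage_mono
      (Proj.basicOpen_mono 𝒜 g (g * f) ⟨f, rfl⟩))).op
      (ψ 𝒜 i g (Away.mk 𝒜 hg (k * e) (c * f ^ (k * e')) hy₀)) = 0 := by
    rw [← ψ_awayMap 𝒜 i hf rfl]
    exact h2
  have H : (ψ 𝒜 i g (Away.mk 𝒜 hg (k * e) (c * f ^ (k * e')) hy₀)) |_
      (Z.basicOpen (ψ 𝒜 i g (Away.mk 𝒜 hg e (f ^ (e' + 1)) hw))) = 0 := by
    have := congr(Z.presheaf.map (homOfLE hle).op $hres)
    rw [map_zero, ← CommRingCat.comp_apply, ← Functor.map_comp] at this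
    exact this
  obtain ⟨M, hM⟩ := exists_pow_mul_eq_zero_of_res_basicOpen_eq_zero_of_isCompact Z hcomp _ _ H
  -- step 3: conclude
  have hc'' : f ^ ((e' + 1) * M + k * e') * c ∈ 𝒜 ((e * M + k * e) • (e' + 1)) := by
    refine mem_of_eq 𝒜 ?_ (SetLike.mul_mem_graded
      (SetLike.pow_mem_graded ((e' + 1) * M + k * e') hf) hc)
    simp only [smul_eq_mul]; ring
  have hprod : Away.mk 𝒜 hg (e * M + k * e) (f ^ ((e' + 1) * M + k * e') * c) hc'' =
      Away.mk 𝒜 hg e (f ^ (e' + 1)) hw ^ M * Away.mk 𝒜 hg (k * e) (c * f ^ (k * e')) hy₀ := by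
    apply HomogeneousLocalization.val_injective
    rw [HomogeneousLocalization.val_mul, HomogeneousLocalization.val_pow, Away.val_mk, Away.val_mk,
      Away.val_mk, Localization.mk_pow, Localization.mk_mul, Localization.mk_eq_mk_iff,
      Localization.r_iff_exists]
    refine ⟨1, ?_⟩
    simp only [OneMemClass.coe_one, one_mul, Submonoid.coe_mul, SubmonoidClass.coe_pow]
    ring
  have h3 : ψ 𝒜 i g (Away.mk 𝒜 hg (e * M + k * e) (f ^ ((e' + 1) * M + k * e') * c) hc'') = 0 := by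
    rw [hprod, map_mul, map_pow, hM]
  exact ⟨(e' + 1) * M + k * e', fun n b =>
    psi_el_mul_eq_zero 𝒜 i (Nat.succ_pos e') hg hc'' h3 n b⟩

theorem ker_eq [QuasiCompact i] {ι : Type*} [Finite ι] (f : ι → A) (d : ι → ℕ)
    (hd : ∀ j, 0 < d j) (hf : ∀ j, f j ∈ 𝒜 (d j)) (hcov : ⨆ j, Proj.basicOpen 𝒜 (f j) = ⊤)
    (j₀ : ι) (x : Away 𝒜 (f j₀)) :
    letI := GrQuotZ.gradedRing 𝒜 (I 𝒜 i) (I_isHomogeneous 𝒜 i)
    Away.map (GrQuotZ.quotHom 𝒜 (I 𝒜 i)) (f j₀) x = 0 ↔ ψ 𝒜 i (f j₀) x = 0 := by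
  classical
  let _ := GrQuotZ.gradedRing 𝒜 (I 𝒜 i) (I_isHomogeneous 𝒜 i)
  cases nonempty_fintype ι
  obtain ⟨k, c, hc, rfl⟩ := Away.mk_surjective 𝒜 (hf j₀) x
  rw [Away.map_mk, HomogeneousLocalization.ext_iff_val, Away.val_mk,
    HomogeneousLocalization.val_zero, Localization.mk_eq_mk', IsLocalization.mk'_eq_zero_iff]
  constructor
  · rintro ⟨⟨_, N, rfl⟩, hN⟩
    have h1 : f j₀ ^ N * c ∈ I 𝒜 i := by
      rw [← Ideal.Quotient.eq_zero_iff_mem, map_mul, map_pow]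
      exact hN
    have h2 := h1 (d j₀) (hd j₀) (f j₀) (hf j₀) (N + k) 1
    rw [mul_one] at h2
    have hmem : f j₀ ^ N * c ∈ 𝒜 ((N + k) • d j₀) := by
      rw [add_smul]; exact SetLike.mul_mem_graded (SetLike.pow_mem_graded N (hf j₀)) hc
    rw [el_of_mem 𝒜 (hf j₀) hmem] at h2
    have h3 : Away.mk 𝒜 (hf j₀) (N + k) (f j₀ ^ N * c) hmem = Away.mk 𝒜 (hf j₀) k c hc := by
      apply HomogeneousLocalization.val_injective
      rw [Away.val_mk, Away.val_mk, Localization.mk_eq_mk_iff, Localization.r_iff_exists]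
      refine ⟨1, ?_⟩
      simp only [OneMemClass.coe_one, one_mul]
      ring
    rw [h3] at h2
    exact h2
  · intro h0
    have hex : ∀ j, ∃ N : ℕ, ∀ (n : ℕ) (b : A),
        ψ 𝒜 i (f j) (el 𝒜 (hf j) n (f j₀ ^ N * c * b)) = 0 := by
      intro j
      obtain ⟨d', hd'⟩ : ∃ d', d j = d' + 1 := ⟨d j - 1, by have := hd j; omega⟩
      have key : ∀ (dd : ℕ) (hdd : dd = d' + 1) (hfj : f j ∈ 𝒜 dd),
          ∃ N : ℕ, ∀ (n : ℕ) (b : A), ψ 𝒜 i (f j) (el 𝒜 hfj n (f j₀ ^ N * c * b)) = 0 := by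
        intro dd hdd hfj
        subst hdd
        exact exists_pow_mem 𝒜 i (hd j₀) (hf j₀) hfj k c hc h0
      exact key (d j) hd' (hf j)
    choose Nf hNf using hex
    set N := Finset.univ.sup Nf with hNdef
    have h1 : f j₀ ^ N * c ∈ I 𝒜 i := by
      apply mem_I_of_cover 𝒜 i f d hd hf hcov
      intro j n b
      have hle : Nf j ≤ N := Finset.le_sup (f := Nf) (Finset.mem_univ j)
      obtain ⟨r, hr⟩ := Nat.exists_eq_add_of_le hle
      have e1 : f j₀ ^ N * c * b = f j₀ ^ Nf j * c * (f j₀ ^ r * b) := by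
        rw [hr, pow_add]; ring
      rw [e1]
      exact hNf j n _
    refine ⟨⟨_, N, rfl⟩, ?_⟩
    have := Ideal.Quotient.eq_zero_iff_mem.mpr h1
    rw [map_mul, map_pow] at this
    exact this

/-- **closed subschemes of a quasi-compact `Proj` are `Proj` of graded quotients** -/
theorem main [IsClosedImmersion i] [CompactSpace (Proj 𝒜)] :
    letI := GrQuotZ.gradedRing 𝒜 (I 𝒜 i) (I_isHomogeneous 𝒜 i)
    ∃ (hφ : (GrQuotZ.gr 𝒜 (I 𝒜 i))₊ ≤ ((𝒜)₊).map (GrQuotZ.quotHom 𝒜 (I 𝒜 i)))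
      (e : Z ≅ Proj (GrQuotZ.gr 𝒜 (I 𝒜 i))),
      e.hom ≫ Proj.map (GrQuotZ.quotHom 𝒜 (I 𝒜 i)) hφ = i := by
  classical
  let _ := GrQuotZ.gradedRing 𝒜 (I 𝒜 i) (I_isHomogeneous 𝒜 i)
  have hsurj : Function.Surjective (GrQuotZ.quotHom 𝒜 (I 𝒜 i)) :=
    GrQuotZ.quotHom_surjective 𝒜 _
  have hφ := irrelevant_le_map_of_surjective 𝒜 (GrQuotZ.gr 𝒜 (I 𝒜 i))
    (GrQuotZ.quotHom 𝒜 (I 𝒜 i)) hsurj
  -- a finite covering family
  have hex : ∀ x : Proj 𝒜, ∃ (n : ℕ) (s : A), (0 < n ∧ s ∈ 𝒜 n) ∧ x ∈ Proj.basicOpen 𝒜 s := by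
    intro x
    obtain ⟨n, hn, s, hs, hxs, -⟩ := SymInvLoc.exists_basicOpen_le 𝒜 ⊤ x trivial
    exact ⟨n, s, ⟨hn, hs⟩, hxs⟩
  choose n s h1 h2 using hex
  obtain ⟨t, ht⟩ := isCompact_univ.elim_finite_subcover
    (fun x : Proj 𝒜 => ((Proj.basicOpen 𝒜 (s x) : (Proj 𝒜).Opens) : Set (Proj 𝒜)))
    (fun x => (Proj.basicOpen 𝒜 (s x)).2)
    (fun x _ => Set.mem_iUnion.2 ⟨x, h2 x⟩)
  have hcov : ⨆ j : t, Proj.basicOpen 𝒜 (s j.1) = ⊤ := by
    refine eq_top_iff.2 fun x _ => ?_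
    obtain ⟨y, hy⟩ := Set.mem_iUnion.1 (ht (Set.mem_univ x))
    obtain ⟨hyt, hxy⟩ := Set.mem_iUnion.1 hy
    exact TopologicalSpace.Opens.mem_iSup.2 ⟨⟨y, hyt⟩, hxy⟩
  have hcov' : ⨆ f : (Set.range fun j : t => s j.1), Proj.basicOpen 𝒜 f.1 = ⊤ := by
    refine eq_top_iff.2 fun x _ => ?_
    have hx : x ∈ ⨆ j : t, Proj.basicOpen 𝒜 (s j.1) := by rw [hcov]; trivial
    obtain ⟨j, hj⟩ := TopologicalSpace.Opens.mem_iSup.1 hx
    exact TopologicalSpace.Opens.mem_iSup.2 ⟨⟨s j.1, j, rfl⟩, hj⟩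
  obtain ⟨e, he⟩ := exists_iso 𝒜 i (GrQuotZ.gr 𝒜 (I 𝒜 i)) (GrQuotZ.quotHom 𝒜 (I 𝒜 i))
    hφ hsurj (Set.range fun j : t => s j.1)
    (by rintro _ ⟨j, rfl⟩; exact ⟨n j.1, (h1 j.1).1, (h1 j.1).2⟩) hcov'
    (by
      rintro _ ⟨j, rfl⟩ x
      exact ker_eq 𝒜 i (fun j : t => s j.1) (fun j => n j.1) (fun j => (h1 j.1).1)
        (fun j => (h1 j.1).2) hcov j x)
  exact ⟨hφ, e, he⟩

end Geo

end Groth.Agent.Helper1.ProjClosedG
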