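import Mathlib
import Groth.Agent.Lib.Helper1.ProjClosedG

/-!
# Closed subschemes of `Proj 𝒜`: the saturated ideal, compatible with localization on the base
-/

open AlgebraicGeometry CategoryTheory HomogeneousLocalization DirectSum
open scoped HomogeneousIdeal

universe u

namespace Groth.Agent.Helper1.ProjClosedJ

open Groth.Agent.Helper1.ProjClosed (ψ ψ_apply ψ_awayMap exists_iso irrelevant_le_map_of_surjective basicOpen_awayToSection_le)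
open Groth.Agent.Helper1.ProjClosedG

section Rad
variable {A : Type u} [CommRing A] (𝒜 : ℕ → AddSubgroup A) [GradedRing 𝒜]

/-- homogeneous Nullstellensatz for basic opens -/
theorem mem_radical_of_cover {ι : Type*} (f : ι → A) (hf : ∀ j, ∃ d, f j ∈ 𝒜 d) {e : ℕ}
    (he : 0 < e) {g : A} (hg : g ∈ 𝒜 e)
    (hcov : Proj.basicOpen 𝒜 g ≤ ⨆ j, Proj.basicOpen 𝒜 (f j)) :
    g ∈ (Ideal.span (Set.range f)).radical := by
  classical
  rw [Ideal.radical_eq_sInf, Ideal.mem_sInf]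
  rintro p ⟨hIp, hp⟩
  by_contra hgp
  have hq : (p.homogeneousCore 𝒜).toIdeal.IsPrime := hp.homogeneousCore
  have hqp : (p.homogeneousCore 𝒜).toIdeal ≤ p := Ideal.toIdeal_homogeneousCore_le 𝒜 p
  have hgq : g ∉ (p.homogeneousCore 𝒜).toIdeal := fun h => hgp (hqp h)
  have hirr : ¬ (HomogeneousIdeal.irrelevant 𝒜 ≤ p.homogeneousCore 𝒜) := fun h =>
    hgq (h (HomogeneousIdeal.mem_irrelevant_of_mem _ he hg))
  let x : Proj 𝒜 := (⟨p.homogeneousCore 𝒜, hq, hirr⟩ : ProjectiveSpectrum 𝒜)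
  have hx : x ∈ Proj.basicOpen 𝒜 g := by
    rw [Proj.mem_basicOpen]; exact hgq
  obtain ⟨j, hj⟩ := TopologicalSpace.Opens.mem_iSup.1 (hcov hx)
  rw [Proj.mem_basicOpen] at hj
  apply hj
  obtain ⟨d, hd⟩ := hf j
  exact Ideal.mem_homogeneousCore_of_homogeneous_of_mem ⟨d, hd⟩
    (hIp (Ideal.subset_span ⟨j, rfl⟩))

end Rad

section Geo
variable {A : Type u} [CommRing A] (𝒜 : ℕ → AddSubgroup A) [GradedRing 𝒜]
  {Z : Scheme.{u}} (i : Z ⟶ Proj 𝒜)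

/-- the chart ideal -/
noncomputable def Ig {e : ℕ} {g : A} (hg : g ∈ 𝒜 e) : Ideal A where
  carrier := {x | ∀ (n : ℕ) (b : A), ψ 𝒜 i g (el 𝒜 hg n (x * b)) = 0}
  zero_mem' := fun n b => by rw [zero_mul, el_zero, map_zero]
  add_mem' := fun {a a'} ha ha' n b => by
    rw [add_mul, el_add, map_add, ha n b, ha' n b, add_zero]
  smul_mem' := fun c {a} ha n b => by
    rw [smul_eq_mul, mul_comm c a, mul_assoc]
    exact ha n (c * b)

/-- the ideal generated by the numerators of the kernel at a chart -/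
noncomputable def Kt {e : ℕ} {g : A} (hg : g ∈ 𝒜 e) : Ideal A :=
  Ideal.span {c | ∃ (k : ℕ) (hc : c ∈ 𝒜 (k • e)), ψ 𝒜 i g (Away.mk 𝒜 hg k c hc) = 0}

variable {e : ℕ} {g : A} (hg : g ∈ 𝒜 e)

theorem Kt_isHomogeneous : (Kt 𝒜 i hg).IsHomogeneous 𝒜 :=
  Ideal.homogeneous_span 𝒜 _ (by rintro c ⟨k, hc, -⟩; exact ⟨k • e, hc⟩)

theorem Kt_le_Ig (he : 0 < e) : Kt 𝒜 i hg ≤ Ig 𝒜 i hg := by
  apply Ideal.span_le.2
  rintro c ⟨k, hc, h0⟩ n b
  exact psi_el_mul_eq_zero 𝒜 i he hg hc h0 n b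

theorem psi_eq_zero_of_mem_Kt (he : 0 < e) {k : ℕ} {c : A} (hc : c ∈ 𝒜 (k • e))
    (h : c ∈ Kt 𝒜 i hg) : ψ 𝒜 i g (Away.mk 𝒜 hg k c hc) = 0 := by
  have h1 := Kt_le_Ig 𝒜 i hg he h k 1
  rw [mul_one, el_of_mem 𝒜 hg hc] at h1
  exact h1

theorem mem_Kt {k : ℕ} {c : A} (hc : c ∈ 𝒜 (k • e))
    (h : ψ 𝒜 i g (Away.mk 𝒜 hg k c hc) = 0) : c ∈ Kt 𝒜 i hg :=
  Ideal.subset_span ⟨k, hc, h⟩

/-- the saturated ideal -/
noncomputable def J : Ideal A where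
  carrier := {a | ∀ (e : ℕ) (_ : 0 < e) (g : A) (hg : g ∈ 𝒜 e), ∃ M : ℕ, g ^ M * a ∈ Kt 𝒜 i hg}
  zero_mem' := fun e _ g hg => ⟨0, by rw [mul_zero]; exact Ideal.zero_mem _⟩
  add_mem' := fun {a a'} ha ha' e he g hg => by
    obtain ⟨M, hM⟩ := ha e he g hg
    obtain ⟨M', hM'⟩ := ha' e he g hg
    refine ⟨M + M', ?_⟩
    rw [mul_add]
    refine Ideal.add_mem _ ?_ ?_
    · rw [pow_add, mul_comm (g ^ M), mul_assoc]; exact Ideal.mul_mem_left _ _ hM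
    · rw [pow_add, mul_assoc]; exact Ideal.mul_mem_left _ _ hM'
  smul_mem' := fun c {a} ha e he g hg => by
    obtain ⟨M, hM⟩ := ha e he g hg
    refine ⟨M, ?_⟩
    rw [smul_eq_mul, mul_left_comm]
    exact Ideal.mul_mem_left _ _ hM

theorem mem_J {a : A} : a ∈ J 𝒜 i ↔ ∀ (e : ℕ) (_ : 0 < e) (g : A) (hg : g ∈ 𝒜 e),
    ∃ M : ℕ, g ^ M * a ∈ Kt 𝒜 i hg := Iff.rfl

theorem J_isHomogeneous : (J 𝒜 i).IsHomogeneous 𝒜 := by
  classical
  intro n a ha e he g hg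
  obtain ⟨M, hM⟩ := ha e he g hg
  refine ⟨M, ?_⟩
  have h1 := Kt_isHomogeneous 𝒜 i hg (M • e + n) hM
  rwa [coe_decompose_mul_add_of_left_mem 𝒜 (SetLike.pow_mem_graded M hg)] at h1

/-- the key quasi-compactness argument: numerators killed at the chart of `f` are, up to a power of
`f`, killed at the chart of `g` -/
theorem exists_pow_mem_Kt [QuasiCompact i] {e e' : ℕ} (he : 0 < e) {f g : A} (hf : f ∈ 𝒜 e)
    (hg : g ∈ 𝒜 (e' + 1)) (k : ℕ) (c : A) (hc : c ∈ 𝒜 (k • e))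
    (h0 : ψ 𝒜 i f (Away.mk 𝒜 hf k c hc) = 0) :
    ∃ N : ℕ, f ^ N * c ∈ Kt 𝒜 i hg := by
  have hy₀ : c * f ^ (k * e') ∈ 𝒜 ((k * e) • (e' + 1)) := by
    refine mem_of_eq 𝒜 ?_ (SetLike.mul_mem_graded hc (SetLike.pow_mem_graded (k * e') hf))
    simp only [smul_eq_mul]; ring
  have h1 : ψ 𝒜 i (g * f) (awayMap 𝒜 hg (mul_comm g f) (Away.mk 𝒜 hf k c hc)) = 0 := by
    rw [ψ_awayMap, h0, map_zero]
  have hx : g * f ∈ 𝒜 (e' + 1 + e) := SetLike.mul_mem_graded hg hf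
  have h2 : ψ 𝒜 i (g * f) (awayMap 𝒜 hf rfl (Away.mk 𝒜 hg (k * e) (c * f ^ (k * e')) hy₀)) = 0 := by
    rw [awayMap_mk] at h1 ⊢
    have hu : f ^ (k * (e' + 1) + k * e) ∈ 𝒜 ((k * e) • (e' + 1 + e)) := by
      refine mem_of_eq 𝒜 ?_ (SetLike.pow_mem_graded (k * (e' + 1) + k * e) hf)
      simp only [smul_eq_mul]; ring
    have h₂' : g * f ∈ 𝒜 (e + (e' + 1)) := mem_of_eq 𝒜 (add_comm _ _) hx
    have hk' : c * g ^ k ∈ 𝒜 (k • (e + (e' + 1))) := by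
      rw [smul_add]; exact SetLike.mul_mem_graded hc (SetLike.pow_mem_graded k hg)
    have h1' : ψ 𝒜 i (g * f) (Away.mk 𝒜 h₂' k (c * g ^ k) hk') = 0 := h1
    have hT : ∀ (h₁ : g * f ∈ 𝒜 (e' + 1 + e))
        (hn : c * f ^ (k * e') * f ^ (k * e) ∈ 𝒜 ((k * e) • (e' + 1 + e))),
        Away.mk 𝒜 h₁ (k * e) (c * f ^ (k * e') * f ^ (k * e)) hn =
          Away.mk 𝒜 h₂' k (c * g ^ k) hk' *
            Away.mk 𝒜 hx (k * e) (f ^ (k * (e' + 1) + k * e)) hu := by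
      intro h₁ hn
      apply HomogeneousLocalization.val_injective
      rw [HomogeneousLocalization.val_mul, Away.val_mk, Away.val_mk, Away.val_mk,
        Localization.mk_mul, Localization.mk_eq_mk_iff, Localization.r_iff_exists]
      refine ⟨1, ?_⟩
      simp only [OneMemClass.coe_one, one_mul, Submonoid.coe_mul]
      ring
    rw [hT _ _, map_mul, h1', zero_mul]
  have hw : f ^ (e' + 1) ∈ 𝒜 (e • (e' + 1)) := by
    refine mem_of_eq 𝒜 ?_ (SetLike.pow_mem_graded (e' + 1) hf)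
    simp only [smul_eq_mul]; ring
  have hcomp : IsCompact (i ⁻¹ᵁ Proj.basicOpen 𝒜 g : Set Z) :=
    i.isCompact_preimage (Proj.isAffineOpen_basicOpen 𝒜 g hg (Nat.succ_pos e')).isCompact
  have hle : Z.basicOpen (ψ 𝒜 i g (Away.mk 𝒜 hg e (f ^ (e' + 1)) hw)) ≤
      i ⁻¹ᵁ Proj.basicOpen 𝒜 (g * f) := by
    rw [ψ_apply, ← Scheme.preimage_basicOpen]
    apply i.preimage_mono
    rw [Proj.basicOpen_mul]
    refine le_inf (Scheme.basicOpen_le _ _) ?_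
    refine (basicOpen_awayToSection_le 𝒜 hg e (f ^ (e' + 1)) hw).trans ?_
    rw [Proj.basicOpen_pow 𝒜 f (e' + 1) (Nat.succ_pos e')]
  have hres : Z.presheaf.map (homOfLE (i.preimage_mono
      (Proj.basicOpen_mono 𝒜 g (g * f) ⟨f, rfl⟩))).op
      (ψ 𝒜 i g (Away.mk 𝒜 hg (k * e) (c * f ^ (k * e')) hy₀)) = 0 := by
    rw [← ψ_awayMap 𝒜 i hf rfl]
    exact h2
  have H : (ψ 𝒜 i g (Away.mk 𝒜 hg (k * e) (c * f ^ (k * e')) hy₀)) |_
      (Z.basicOpen (ψ 𝒜 i g (Away.mk 𝒜 hg e (f ^ (e' + 1)) hw))) = 0 := by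
    have := congr(Z.presheaf.map (homOfLE hle).op $hres)
    rw [map_zero, ← CommRingCat.comp_apply, ← Functor.map_comp] at this
    exact this
  obtain ⟨M, hM⟩ := exists_pow_mul_eq_zero_of_res_basicOpen_eq_zero_of_isCompact Z hcomp _ _ H
  have hc'' : f ^ ((e' + 1) * M + k * e') * c ∈ 𝒜 ((e * M + k * e) • (e' + 1)) := by
    refine mem_of_eq 𝒜 ?_ (SetLike.mul_mem_graded
      (SetLike.pow_mem_graded ((e' + 1) * M + k * e') hf) hc)
    simp only [smul_eq_mul]; ring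
  have hprod : Away.mk 𝒜 hg (e * M + k * e) (f ^ ((e' + 1) * M + k * e') * c) hc'' =
      Away.mk 𝒜 hg e (f ^ (e' + 1)) hw ^ M * Away.mk 𝒜 hg (k * e) (c * f ^ (k * e')) hy₀ := by
    apply HomogeneousLocalization.val_injective
    rw [HomogeneousLocalization.val_mul, HomogeneousLocalization.val_pow, Away.val_mk, Away.val_mk,
      Away.val_mk, Localization.mk_pow, Localization.mk_mul, Localization.mk_eq_mk_iff,
      Localization.r_iff_exists]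
    refine ⟨1, ?_⟩
    simp only [OneMemClass.coe_one, one_mul, Submonoid.coe_mul, SubmonoidClass.coe_pow]
    ring
  have h3 : ψ 𝒜 i g (Away.mk 𝒜 hg (e * M + k * e) (f ^ ((e' + 1) * M + k * e') * c) hc'') = 0 := by
    rw [hprod, map_mul, map_pow, hM]
  exact ⟨(e' + 1) * M + k * e', mem_Kt 𝒜 i hg hc'' h3⟩

/-- `Kt f ⊆ (Kt g : f^∞)` -/
theorem Kt_sat [QuasiCompact i] {e e' : ℕ} (he : 0 < e) {f g : A} (hf : f ∈ 𝒜 e)
    (hg : g ∈ 𝒜 (e' + 1)) {x : A} (hx : x ∈ Kt 𝒜 i hf) :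
    ∃ N : ℕ, f ^ N * x ∈ Kt 𝒜 i hg := by
  induction hx using Submodule.span_induction with
  | mem c hc =>
    obtain ⟨k, hck, h0⟩ := hc
    exact exists_pow_mem_Kt 𝒜 i he hf hg k c hck h0
  | zero => exact ⟨0, by rw [mul_zero]; exact Ideal.zero_mem _⟩
  | add a a' _ _ ha ha' =>
    obtain ⟨M, hM⟩ := ha
    obtain ⟨M', hM'⟩ := ha'
    refine ⟨M + M', ?_⟩
    rw [mul_add]
    refine Ideal.add_mem _ ?_ ?_
    · rw [pow_add, mul_comm (f ^ M), mul_assoc]; exact Ideal.mul_mem_left _ _ hM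
    · rw [pow_add, mul_assoc]; exact Ideal.mul_mem_left _ _ hM'
  | smul c a _ ha =>
    obtain ⟨M, hM⟩ := ha
    refine ⟨M, ?_⟩
    rw [smul_eq_mul, mul_left_comm]
    exact Ideal.mul_mem_left _ _ hM

/-- membership in `J` can be tested on a finite covering family -/
theorem mem_J_of_cover [QuasiCompact i] {ι : Type*} [Finite ι] (f : ι → A) (d : ι → ℕ)
    (hd : ∀ j, 0 < d j) (hf : ∀ j, f j ∈ 𝒜 (d j))
    (hcov : ⨆ j, Proj.basicOpen 𝒜 (f j) = ⊤) (a : A)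
    (h : ∀ j, ∃ M : ℕ, f j ^ M * a ∈ Kt 𝒜 i (hf j)) : a ∈ J 𝒜 i := by
  classical
  cases nonempty_fintype ι
  intro e he g hg
  obtain ⟨e', rfl⟩ : ∃ e', e = e' + 1 := ⟨e - 1, by omega⟩
  have hex : ∀ j, ∃ N : ℕ, f j ^ N * a ∈ Kt 𝒜 i hg := by
    intro j
    obtain ⟨M, hM⟩ := h j
    obtain ⟨N, hN⟩ := Kt_sat 𝒜 i (hd j) (hf j) hg hM
    exact ⟨N + M, by rw [pow_add, mul_assoc]; exact hN⟩
  choose Nf hNf using hex
  set N := Finset.univ.sup Nf with hNdef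
  have hN : ∀ j, f j ^ (N + 1) * a ∈ Kt 𝒜 i hg := by
    intro j
    have hle : Nf j ≤ N := Finset.le_sup (f := Nf) (Finset.mem_univ j)
    obtain ⟨r, hr⟩ := Nat.exists_eq_add_of_le hle
    have e1 : f j ^ (N + 1) * a = f j ^ (r + 1) * (f j ^ Nf j * a) := by
      rw [hr, ← mul_assoc, ← pow_add]; congr 2; omega
    rw [e1]
    exact Ideal.mul_mem_left _ _ (hNf j)
  have hrad : g ∈ (Ideal.span (Set.range fun j => f j ^ (N + 1))).radical := by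
    apply mem_radical_of_cover 𝒜 (fun j => f j ^ (N + 1))
      (fun j => ⟨_, SetLike.pow_mem_graded (N + 1) (hf j)⟩) (Nat.succ_pos e') hg
    have : ∀ j, Proj.basicOpen 𝒜 (f j ^ (N + 1)) = Proj.basicOpen 𝒜 (f j) := fun j =>
      Proj.basicOpen_pow 𝒜 (f j) (N + 1) (Nat.succ_pos N)
    simp only [this, hcov]
    exact le_top
  obtain ⟨L, hL⟩ := hrad
  refine ⟨L, ?_⟩
  generalize g ^ L = y₀ at hL
  induction hL using Submodule.span_induction with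
  | mem y hy =>
    obtain ⟨j, rfl⟩ := hy
    exact hN j
  | zero => rw [zero_mul]; exact Ideal.zero_mem _
  | add y y' _ _ hy hy' => rw [add_mul]; exact Ideal.add_mem _ hy hy'
  | smul c y _ hy => rw [smul_eq_mul, mul_assoc]; exact Ideal.mul_mem_left _ _ hy

variable {B τ : Type u} [CommRing B] [SetLike τ B] [AddSubgroupClass τ B] (ℬ : ℕ → τ)
  [GradedRing ℬ]

omit [GradedRing 𝒜] in
theorem away_map_eq_zero_iff [GradedRing 𝒜] (φ : 𝒜 →+*ᵍ ℬ) {e : ℕ} {f : A} (hf : f ∈ 𝒜 e) (k : ℕ) (c : A)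
    (hc : c ∈ 𝒜 (k • e)) :
    Away.map φ f (Away.mk 𝒜 hf k c hc) = 0 ↔ ∃ N : ℕ, φ (f ^ N * c) = 0 := by
  rw [Away.map_mk, HomogeneousLocalization.ext_iff_val, Away.val_mk,
    HomogeneousLocalization.val_zero, Localization.mk_eq_mk', IsLocalization.mk'_eq_zero_iff]
  constructor
  · rintro ⟨⟨_, N, rfl⟩, hN⟩
    exact ⟨N, by rw [map_mul, map_pow]; exact hN⟩
  · rintro ⟨N, hN⟩
    exact ⟨⟨_, N, rfl⟩, by rw [map_mul, map_pow] at hN; exact hN⟩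

theorem hker_of_ker_eq [QuasiCompact i] (φ : 𝒜 →+*ᵍ ℬ) (hker : ∀ a, φ a = 0 ↔ a ∈ J 𝒜 i)
    {ι : Type*} [Finite ι] (f : ι → A) (d : ι → ℕ)
    (hd : ∀ j, 0 < d j) (hf : ∀ j, f j ∈ 𝒜 (d j)) (hcov : ⨆ j, Proj.basicOpen 𝒜 (f j) = ⊤)
    (j₀ : ι) (x : Away 𝒜 (f j₀)) :
    Away.map φ (f j₀) x = 0 ↔ ψ 𝒜 i (f j₀) x = 0 := by
  classical
  cases nonempty_fintype ι
  obtain ⟨k, c, hc, rfl⟩ := Away.mk_surjective 𝒜 (hf j₀) x
  rw [away_map_eq_zero_iff 𝒜 ℬ φ (hf j₀) k c hc]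
  constructor
  · rintro ⟨N, hN⟩
    rw [hker] at hN
    obtain ⟨M, hM⟩ := hN (d j₀) (hd j₀) (f j₀) (hf j₀)
    have hmem : f j₀ ^ M * (f j₀ ^ N * c) ∈ 𝒜 ((M + N + k) • d j₀) := by
      rw [add_smul, add_smul, ← mul_assoc]
      exact SetLike.mul_mem_graded (SetLike.mul_mem_graded (SetLike.pow_mem_graded M (hf j₀))
        (SetLike.pow_mem_graded N (hf j₀))) hc
    have h2 := psi_eq_zero_of_mem_Kt 𝒜 i (hf j₀) (hd j₀) hmem hM
    have h3 : Away.mk 𝒜 (hf j₀) (M + N + k) (f j₀ ^ M * (f j₀ ^ N * c)) hmem =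
        Away.mk 𝒜 (hf j₀) k c hc := by
      apply HomogeneousLocalization.val_injective
      rw [Away.val_mk, Away.val_mk, Localization.mk_eq_mk_iff, Localization.r_iff_exists]
      refine ⟨1, ?_⟩
      simp only [OneMemClass.coe_one, one_mul]
      ring
    rw [h3] at h2
    exact h2
  · intro h0
    have hex : ∀ j, ∃ N : ℕ, f j₀ ^ N * c ∈ Kt 𝒜 i (hf j) := by
      intro j
      obtain ⟨d', hd'⟩ : ∃ d', d j = d' + 1 := ⟨d j - 1, by have := hd j; omega⟩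
      have key : ∀ (dd : ℕ) (hdd : dd = d' + 1) (hfj : f j ∈ 𝒜 dd),
          ∃ N : ℕ, f j₀ ^ N * c ∈ Kt 𝒜 i hfj := by
        intro dd hdd hfj
        subst hdd
        exact exists_pow_mem_Kt 𝒜 i (hd j₀) (hf j₀) hfj k c hc h0
      exact key (d j) hd' (hf j)
    choose Nf hNf using hex
    set N := Finset.univ.sup Nf with hNdef
    refine ⟨N, ?_⟩
    rw [hker]
    apply mem_J_of_cover 𝒜 i f d hd hf hcov
    intro j
    refine ⟨0, ?_⟩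
    rw [pow_zero, one_mul]
    have hle : Nf j ≤ N := Finset.le_sup (f := Nf) (Finset.mem_univ j)
    obtain ⟨r, hr⟩ := Nat.exists_eq_add_of_le hle
    have e1 : f j₀ ^ N * c = f j₀ ^ r * (f j₀ ^ Nf j * c) := by
      rw [hr, ← mul_assoc, ← pow_add, add_comm]
    rw [e1]
    exact Ideal.mul_mem_left _ _ (hNf j)

/-- a finite covering family of a quasi-compact `Proj` -/
theorem exists_finite_cover [CompactSpace (Proj 𝒜)] :
    ∃ (ι : Type u) (_ : Finite ι) (f : ι → A) (d : ι → ℕ), (∀ j, 0 < d j) ∧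
      (∀ j, f j ∈ 𝒜 (d j)) ∧ ⨆ j, Proj.basicOpen 𝒜 (f j) = ⊤ := by
  have hex : ∀ x : Proj 𝒜, ∃ (n : ℕ) (s : A), (0 < n ∧ s ∈ 𝒜 n) ∧ x ∈ Proj.basicOpen 𝒜 s := by
    intro x
    obtain ⟨n, hn, s, hs, hxs, -⟩ := SymInvLoc.exists_basicOpen_le 𝒜 ⊤ x trivial
    exact ⟨n, s, ⟨hn, hs⟩, hxs⟩
  choose n s h1 h2 using hex
  obtain ⟨t, ht⟩ := isCompact_univ.elim_finite_subcover
    (fun x : Proj 𝒜 => ((Proj.basicOpen 𝒜 (s x) : (Proj 𝒜).Opens) : Set (Proj 𝒜)))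
    (fun x => (Proj.basicOpen 𝒜 (s x)).2)
    (fun x _ => Set.mem_iUnion.2 ⟨x, h2 x⟩)
  refine ⟨t, inferInstance, fun j => s j.1, fun j => n j.1, fun j => (h1 j.1).1,
    fun j => (h1 j.1).2, ?_⟩
  refine eq_top_iff.2 fun x _ => ?_
  obtain ⟨y, hy⟩ := Set.mem_iUnion.1 (ht (Set.mem_univ x))
  obtain ⟨hyt, hxy⟩ := Set.mem_iUnion.1 hy
  exact TopologicalSpace.Opens.mem_iSup.2 ⟨⟨y, hyt⟩, hxy⟩

/-- **closed subschemes of a quasi-compact `Proj` are `Proj` of the quotient by the saturated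
ideal**, for any presentation of that quotient -/
theorem main [IsClosedImmersion i] [CompactSpace (Proj 𝒜)] (φ : 𝒜 →+*ᵍ ℬ)
    (hsurj : Function.Surjective φ) (hker : ∀ a, φ a = 0 ↔ a ∈ J 𝒜 i) :
    ∃ (hφ : (ℬ)₊ ≤ ((𝒜)₊).map φ) (e : Z ≅ Proj ℬ), e.hom ≫ Proj.map φ hφ = i := by
  classical
  have hφ := irrelevant_le_map_of_surjective 𝒜 ℬ φ hsurj
  obtain ⟨ι, _, f, d, hd, hf, hcov⟩ := exists_finite_cover 𝒜
  have hcov' : ⨆ g : (Set.range f), Proj.basicOpen 𝒜 g.1 = ⊤ := by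
    refine eq_top_iff.2 fun x _ => ?_
    have hx : x ∈ ⨆ j, Proj.basicOpen 𝒜 (f j) := by rw [hcov]; trivial
    obtain ⟨j, hj⟩ := TopologicalSpace.Opens.mem_iSup.1 hx
    exact TopologicalSpace.Opens.mem_iSup.2 ⟨⟨f j, j, rfl⟩, hj⟩
  obtain ⟨e, he⟩ := exists_iso 𝒜 i ℬ φ hφ hsurj (Set.range f)
    (by rintro _ ⟨j, rfl⟩; exact ⟨d j, hd j, hf j⟩) hcov'
    (by
      rintro _ ⟨j, rfl⟩ x
      exact hker_of_ker_eq 𝒜 i ℬ φ hker f d hd hf hcov j x)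
  exact ⟨hφ, e, he⟩

end Geo

end Groth.Agent.Helper1.ProjClosedJ
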