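import Mathlib
import Groth.Agent.Lib.Helper1.ProjClosedJ

/-!
# The saturated ideal of a closed subscheme of `Proj` and localization on the base
-/

open AlgebraicGeometry CategoryTheory HomogeneousLocalization DirectSum
open scoped HomogeneousIdeal

universe u

namespace Groth.Agent.Helper1.ProjClosedBC

open Groth.Agent.Helper1.ProjClosed (ψ ψ_apply ψ_awayMap basicOpen_awayToSection_le)
open Groth.Agent.Helper1.ProjClosedG Groth.Agent.Helper1.ProjClosedJ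

variable {A B : Type u} [CommRing A] [CommRing B] (𝒜 : ℕ → AddSubgroup A) (ℬ : ℕ → AddSubgroup B)
  [GradedRing 𝒜] [GradedRing ℬ] (ρ : 𝒜 →+*ᵍ ℬ) (hρ : (ℬ)₊ ≤ ((𝒜)₊).map ρ)
  {Z Z' : Scheme.{u}} (i : Z ⟶ Proj 𝒜) (i' : Z' ⟶ Proj ℬ) (ι : Z' ⟶ Z)
  (hsq : i' ≫ Proj.map ρ hρ = ι ≫ i)

include hsq in
theorem preimage_le (g : A) :
    i' ⁻¹ᵁ Proj.basicOpen ℬ (ρ g) ≤ ι ⁻¹ᵁ (i ⁻¹ᵁ Proj.basicOpen 𝒜 g) := by
  rw [← Scheme.Hom.comp_preimage, ← hsq, Scheme.Hom.comp_preimage, Proj.map_preimage_basicOpen]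

include hsq in
/-- naturality of the pulled-back sections -/
theorem psi_map {e : ℕ} {g : A} (hg : g ∈ 𝒜 e) (x : Away 𝒜 g) :
    ψ ℬ i' (ρ g) (Away.map ρ g x) =
      ι.appLE (i ⁻¹ᵁ Proj.basicOpen 𝒜 g) (i' ⁻¹ᵁ Proj.basicOpen ℬ (ρ g))
        (preimage_le 𝒜 ℬ ρ hρ i i' ι hsq g) (ψ 𝒜 i g x) := by
  have h1 := Proj.awayToSection_comp_appLE ρ hρ hg
  have h2 := congr($h1 x)
  simp only [CommRingCat.hom_comp, RingHom.coe_comp, Function.comp_apply,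
    CommRingCat.hom_ofHom] at h2
  rw [ψ_apply, ψ_apply, ← h2]
  have key : ∀ (k : Z' ⟶ Proj 𝒜) (hk : k = ι ≫ i)
      (hle : i' ⁻¹ᵁ Proj.basicOpen ℬ (ρ g) ≤ k ⁻¹ᵁ Proj.basicOpen 𝒜 g),
      k.appLE (Proj.basicOpen 𝒜 g) (i' ⁻¹ᵁ Proj.basicOpen ℬ (ρ g)) hle =
        i.app (Proj.basicOpen 𝒜 g) ≫
          ι.appLE (i ⁻¹ᵁ Proj.basicOpen 𝒜 g) (i' ⁻¹ᵁ Proj.basicOpen ℬ (ρ g))
            (preimage_le 𝒜 ℬ ρ hρ i i' ι hsq g) := by
    intro k hk hle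
    subst hk
    exact Scheme.Hom.comp_appLE _ _ _ _ _
  have h3 := key (i' ≫ Proj.map ρ hρ) hsq (by
    rw [Scheme.Hom.comp_preimage, Proj.map_preimage_basicOpen])
  have h4 : (i' ≫ Proj.map ρ hρ).appLE (Proj.basicOpen 𝒜 g) (i' ⁻¹ᵁ Proj.basicOpen ℬ (ρ g))
      (by rw [Scheme.Hom.comp_preimage, Proj.map_preimage_basicOpen]) =
      (Proj.map ρ hρ).appLE (Proj.basicOpen 𝒜 g) (Proj.basicOpen ℬ (ρ g)) (by rfl) ≫
        i'.app (Proj.basicOpen ℬ (ρ g)) := by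
    rw [Scheme.Hom.app_eq_appLE, Scheme.Hom.appLE_comp_appLE]
  rw [h4] at h3
  exact congr($h3 (Proj.awayToSection 𝒜 g x))

include hsq in
theorem map_mem_Kt {e : ℕ} {g : A} (hg : g ∈ 𝒜 e) {c : A} (hc : c ∈ Kt 𝒜 i hg) :
    ρ c ∈ Kt ℬ i' (ρ.map_mem hg) := by
  induction hc using Submodule.span_induction with
  | mem c hc =>
    obtain ⟨k, hck, h0⟩ := hc
    refine mem_Kt ℬ i' (ρ.map_mem hg) (k := k) (ρ.map_mem hck) ?_
    have h1 := psi_map 𝒜 ℬ ρ hρ i i' ι hsq hg (Away.mk 𝒜 hg k c hck)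
    rw [Away.map_mk, h0, map_zero] at h1
    exact h1
  | zero => rw [map_zero]; exact Ideal.zero_mem _
  | add a a' _ _ ha ha' => rw [map_add]; exact Ideal.add_mem _ ha ha'
  | smul b a _ ha => rw [smul_eq_mul, map_mul]; exact Ideal.mul_mem_left _ _ ha

variable {r : A} (hr : r ∈ 𝒜 0) [IsOpenImmersion ι]
  (hrange : i ⁻¹ᵁ (Proj.basicOpen 𝒜 r) ≤ ι.opensRange)

include hsq hr hrange in
/-- sections killed on the localized subscheme are killed by a power of `r` -/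
theorem exists_pow_psi_eq_zero [QuasiCompact i] {e : ℕ} (he : 0 < e) {g : A} (hg : g ∈ 𝒜 e)
    (x : Away 𝒜 g)
    (h0 : ι.appLE (i ⁻¹ᵁ Proj.basicOpen 𝒜 g) (i' ⁻¹ᵁ Proj.basicOpen ℬ (ρ g))
      (preimage_le 𝒜 ℬ ρ hρ i i' ι hsq g) (ψ 𝒜 i g x) = 0) :
    ∃ N : ℕ, ψ 𝒜 i g (Away.mk 𝒜 hg 0 r (by simpa using hr) ^ N * x) = 0 := by
  have hr' : r ∈ 𝒜 (0 • e) := by simpa using hr
  set t := ψ 𝒜 i g (Away.mk 𝒜 hg 0 r hr') with ht
  have hcomp : IsCompact (i ⁻¹ᵁ Proj.basicOpen 𝒜 g : Set Z) :=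
    i.isCompact_preimage (Proj.isAffineOpen_basicOpen 𝒜 g hg he).isCompact
  have hle1 : Z.basicOpen t ≤ i ⁻¹ᵁ Proj.basicOpen 𝒜 r := by
    rw [ht, ψ_apply, ← Scheme.preimage_basicOpen]
    exact i.preimage_mono (basicOpen_awayToSection_le 𝒜 hg 0 r hr')
  have hle2 : Z.basicOpen t ≤ ι.opensRange := hle1.trans hrange
  have H : (ψ 𝒜 i g x) |_ (Z.basicOpen t) = 0 := by
    have : IsIso (ι.app (Z.basicOpen t)) := Scheme.Hom.isIso_app _ _ hle2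
    have hinj : Function.Injective (ι.app (Z.basicOpen t)) :=
      ((ConcreteCategory.isIso_iff_bijective (ι.app (Z.basicOpen t))).1 this).1
    apply hinj
    rw [map_zero]
    have hle3 : ι ⁻¹ᵁ Z.basicOpen t ≤ i' ⁻¹ᵁ Proj.basicOpen ℬ (ρ g) := by
      refine (ι.preimage_mono (Z.basicOpen_le t)).trans ?_
      rw [← Scheme.Hom.comp_preimage, ← hsq, Scheme.Hom.comp_preimage,
        Proj.map_preimage_basicOpen]
    have e1 : Z.presheaf.map (homOfLE (Z.basicOpen_le t)).op ≫ ι.app (Z.basicOpen t) =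
        ι.appLE (i ⁻¹ᵁ Proj.basicOpen 𝒜 g) (i' ⁻¹ᵁ Proj.basicOpen ℬ (ρ g))
          (preimage_le 𝒜 ℬ ρ hρ i i' ι hsq g) ≫ Z'.presheaf.map (homOfLE hle3).op := by
      rw [Scheme.Hom.app_eq_appLE, Scheme.Hom.map_appLE, Scheme.Hom.appLE_map]
    have e2 := congr($e1 (ψ 𝒜 i g x))
    simp only [CommRingCat.comp_apply] at e2
    rw [h0, map_zero] at e2
    exact e2
  obtain ⟨N, hN⟩ := exists_pow_mul_eq_zero_of_res_basicOpen_eq_zero_of_isCompact Z hcomp _ _ H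
  exact ⟨N, by rw [map_mul, map_pow]; exact hN⟩

variable (hloc : @IsLocalization.Away A _ r B _ (ρ : A →+* B).toAlgebra)

include hr hloc in
/-- homogeneous lifting along the localization -/
theorem exists_lift {d : ℕ} {c' : B} (hc' : c' ∈ ℬ d) :
    ∃ (c : A) (m : ℕ), c ∈ 𝒜 d ∧ c' * ρ r ^ m = ρ c := by
  classical
  let _ := (ρ : A →+* B).toAlgebra
  obtain ⟨⟨c₀, ⟨_, m, rfl⟩⟩, hx⟩ := IsLocalization.surj (Submonoid.powers r) c'
  change c' * ρ (r ^ m) = ρ c₀ at hx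
  rw [map_pow] at hx
  refine ⟨(decompose 𝒜 c₀ d : A), m, SetLike.coe_mem _, ?_⟩
  have h0 : ρ r ^ m ∈ ℬ 0 := by
    have := SetLike.pow_mem_graded m (ρ.map_mem hr)
    simpa using this
  have hmem : c' * ρ r ^ m ∈ ℬ d := by
    have := SetLike.mul_mem_graded hc' h0
    simpa using this
  rw [GradedRingHom.map_directSumDecompose, ← hx, decompose_of_mem_same ℬ hmem]

include hsq hr hrange hloc in
theorem Kt_le_map [QuasiCompact i] {e : ℕ} (he : 0 < e) {g : A} (hg : g ∈ 𝒜 e) :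
    Kt ℬ i' (ρ.map_mem hg) ≤ Ideal.map (ρ : A →+* B) (Kt 𝒜 i hg) := by
  let _ := (ρ : A →+* B).toAlgebra
  apply Ideal.span_le.2
  rintro c' ⟨k, hc', h0⟩
  obtain ⟨c, m, hc, hcm⟩ := exists_lift 𝒜 ℬ ρ hr hloc hc'
  have hr' : r ∈ 𝒜 (0 • e) := by simpa using hr
  have hρr' : ρ r ∈ ℬ (0 • e) := ρ.map_mem hr'
  have h1 : Away.mk ℬ (ρ.map_mem hg) k (ρ c) (ρ.map_mem hc) =
      Away.mk ℬ (ρ.map_mem hg) k c' hc' * Away.mk ℬ (ρ.map_mem hg) 0 (ρ r) hρr' ^ m := by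
    apply HomogeneousLocalization.val_injective
    rw [HomogeneousLocalization.val_mul, HomogeneousLocalization.val_pow, Away.val_mk, Away.val_mk,
      Away.val_mk, Localization.mk_pow, Localization.mk_mul, Localization.mk_eq_mk_iff,
      Localization.r_iff_exists]
    refine ⟨1, ?_⟩
    simp only [OneMemClass.coe_one, one_mul, Submonoid.coe_mul, SubmonoidClass.coe_pow, pow_zero,
      one_pow, mul_one]
    rw [← hcm]
  have h2 := psi_map 𝒜 ℬ ρ hρ i i' ι hsq hg (Away.mk 𝒜 hg k c hc)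
  have h0' : ψ ℬ i' (ρ g) (Away.mk ℬ (ρ.map_mem hg) k c' hc') = 0 := h0
  rw [Away.map_mk, h1, map_mul, h0', zero_mul] at h2
  obtain ⟨N, hN⟩ := exists_pow_psi_eq_zero 𝒜 ℬ ρ hρ i i' ι hsq hr hrange he hg _ h2.symm
  have hmem : r ^ N * c ∈ 𝒜 (k • e) := by
    have h0' : r ^ N ∈ 𝒜 0 := by
      have := SetLike.pow_mem_graded N hr
      simpa using this
    have := SetLike.mul_mem_graded h0' hc
    simpa using this
  have h3 : Away.mk 𝒜 hg 0 r hr' ^ N * Away.mk 𝒜 hg k c hc = Away.mk 𝒜 hg k (r ^ N * c) hmem := by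
    apply HomogeneousLocalization.val_injective
    rw [HomogeneousLocalization.val_mul, HomogeneousLocalization.val_pow, Away.val_mk, Away.val_mk,
      Away.val_mk, Localization.mk_pow, Localization.mk_mul, Localization.mk_eq_mk_iff,
      Localization.r_iff_exists]
    refine ⟨1, ?_⟩
    simp only [OneMemClass.coe_one, one_mul, Submonoid.coe_mul, SubmonoidClass.coe_pow, pow_zero,
      one_pow]
  rw [h3] at hN
  have h4 : r ^ N * c ∈ Kt 𝒜 i hg := mem_Kt 𝒜 i hg hmem hN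
  change c' ∈ Ideal.map (algebraMap A B) (Kt 𝒜 i hg)
  rw [IsLocalization.mem_map_algebraMap_iff (Submonoid.powers r)]
  refine ⟨⟨⟨r ^ N * c, h4⟩, ⟨r ^ (N + m), N + m, rfl⟩⟩, ?_⟩
  change c' * ρ (r ^ (N + m)) = ρ (r ^ N * c)
  rw [map_mul, map_pow, map_pow, pow_add, ← hcm]
  ring

include hsq hr hrange hloc in
theorem exists_pow_mem_Kt_of_map [QuasiCompact i] {e : ℕ} (he : 0 < e) {g : A} (hg : g ∈ 𝒜 e)
    {y : A} (hy : ρ y ∈ Kt ℬ i' (ρ.map_mem hg)) : ∃ N : ℕ, r ^ N * y ∈ Kt 𝒜 i hg := by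
  let _ := (ρ : A →+* B).toAlgebra
  have h1 := Kt_le_map 𝒜 ℬ ρ hρ i i' ι hsq hr hrange hloc he hg hy
  change ρ y ∈ Ideal.map (algebraMap A B) (Kt 𝒜 i hg) at h1
  rw [IsLocalization.mem_map_algebraMap_iff (Submonoid.powers r)] at h1
  obtain ⟨⟨⟨x, hx⟩, ⟨_, n, rfl⟩⟩, h2⟩ := h1
  change ρ y * ρ (r ^ n) = ρ x at h2
  rw [← map_mul] at h2
  obtain ⟨⟨_, n', rfl⟩, h3⟩ := (IsLocalization.eq_iff_exists (Submonoid.powers r) B).1 h2
  refine ⟨n' + n, ?_⟩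
  have : r ^ (n' + n) * y = r ^ n' * x := by
    rw [← h3, pow_add]; ring
  rw [this]
  exact Ideal.mul_mem_left _ _ hx

omit [IsOpenImmersion ι] in
include hsq in
/-- the saturated ideal maps into the saturated ideal -/
theorem map_mem_J [QuasiCompact i] [QuasiCompact i'] [CompactSpace (Proj 𝒜)] {a : A}
    (ha : a ∈ J 𝒜 i) : ρ a ∈ J ℬ i' := by
  obtain ⟨ι₀, _, f, d, hd, hf, hcov⟩ := exists_finite_cover 𝒜
  have hcov' : ⨆ j, Proj.basicOpen ℬ (ρ (f j)) = ⊤ := by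
    have h1 : ∀ j, Proj.basicOpen ℬ (ρ (f j)) = Proj.map ρ hρ ⁻¹ᵁ Proj.basicOpen 𝒜 (f j) :=
      fun j => (Proj.map_preimage_basicOpen ρ hρ (f j)).symm
    simp only [h1]
    rw [← Scheme.Hom.preimage_iSup, hcov]
    rfl
  apply mem_J_of_cover ℬ i' (fun j => ρ (f j)) d hd (fun j => ρ.map_mem (hf j)) hcov'
  intro j
  obtain ⟨M, hM⟩ := ha (d j) (hd j) (f j) (hf j)
  refine ⟨M, ?_⟩
  have := map_mem_Kt 𝒜 ℬ ρ hρ i i' ι hsq (hf j) hM
  rwa [map_mul, map_pow] at this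

include hsq hr hrange hloc in
/-- elements mapping into the saturated ideal of the localization are, up to a power of `r`, in
the saturated ideal -/
theorem exists_pow_mul_mem_J [QuasiCompact i] [CompactSpace (Proj 𝒜)] {a : A}
    (ha : ρ a ∈ J ℬ i') : ∃ N : ℕ, r ^ N * a ∈ J 𝒜 i := by
  classical
  obtain ⟨ι₀, _, f, d, hd, hf, hcov⟩ := exists_finite_cover 𝒜
  cases nonempty_fintype ι₀
  have hex : ∀ j, ∃ (M N : ℕ), r ^ N * (f j ^ M * a) ∈ Kt 𝒜 i (hf j) := by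
    intro j
    obtain ⟨M, hM⟩ := ha (d j) (hd j) (ρ (f j)) (ρ.map_mem (hf j))
    rw [← map_pow, ← map_mul] at hM
    obtain ⟨N, hN⟩ := exists_pow_mem_Kt_of_map 𝒜 ℬ ρ hρ i i' ι hsq hr hrange hloc (hd j) (hf j) hM
    exact ⟨M, N, hN⟩
  choose Mf Nf hMN using hex
  set N := Finset.univ.sup Nf with hNdef
  refine ⟨N, ?_⟩
  apply mem_J_of_cover 𝒜 i f d hd hf hcov
  intro j
  refine ⟨Mf j, ?_⟩
  have hle : Nf j ≤ N := Finset.le_sup (f := Nf) (Finset.mem_univ j)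
  obtain ⟨s, hs⟩ := Nat.exists_eq_add_of_le hle
  have e1 : f j ^ Mf j * (r ^ N * a) = r ^ s * (r ^ Nf j * (f j ^ Mf j * a)) := by
    rw [hs, pow_add]; ring
  rw [e1]
  exact Ideal.mul_mem_left _ _ (hMN j)

end Groth.Agent.Helper1.ProjClosedBC
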