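import Mathlib
import Groth.Agent.Lib.Helper1.AffGlue
import Groth.Agent.Lib.Helper1.SymBiprod
import Groth.Agent.Lib.Helper1.LGen
import Groth.Prelude.Def_RelSpec2

set_option autoImplicit false
universe u
open CategoryTheory CategoryTheory.Limits AlgebraicGeometry TopologicalSpace Opposite

namespace Groth.Agent.Helper1.SymPoly

open Groth.Agent.Helper1 Groth.Agent.Helper1.SymAlg

variable {S : Scheme.{u}}

/-- hom of quasi-coherent algebras from affine data -/
noncomputable def homOfAffine (A B : RelSpec.QCAlg S)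
    (τ : (Scheme.AffineZariskiSite.toOpensFunctor S).op ⋙ A.presheaf ⟶
      (Scheme.AffineZariskiSite.toOpensFunctor S).op ⋙ B.presheaf)
    (hτ : ∀ U : S.AffineZariskiSite, A.str.app (op U.1) ≫ τ.app (op U) = B.str.app (op U.1)) :
    A ⟶ B where
  hom := Functor.IsCoverDense.restrictHomEquivHom (G := Scheme.AffineZariskiSite.toOpensFunctor S)
    (K := Opens.grothendieckTopology S) (ℱ := A.presheaf)
    (ℱ' := (⟨B.presheaf, B.isSheaf⟩ : TopCat.Sheaf CommRingCat.{u} S.carrier)) τ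
  comm := by
    apply AffGlue.presheafHom_ext B
    intro U
    have h := NatTrans.congr_app ((Functor.IsCoverDense.restrictHomEquivHom
      (G := Scheme.AffineZariskiSite.toOpensFunctor S)
      (K := Opens.grothendieckTopology S) (ℱ := A.presheaf)
      (ℱ' := (⟨B.presheaf, B.isSheaf⟩ : TopCat.Sheaf CommRingCat.{u} S.carrier))).symm_apply_apply τ) (op U)
    change A.str.app (op U.1) ≫ _ = _
    rw [← hτ U]
    exact congrArg (fun z => A.str.app (op U.1) ≫ z) h

theorem homOfAffine_app (A B : RelSpec.QCAlg S)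
    (τ : (Scheme.AffineZariskiSite.toOpensFunctor S).op ⋙ A.presheaf ⟶
      (Scheme.AffineZariskiSite.toOpensFunctor S).op ⋙ B.presheaf)
    (hτ : ∀ U : S.AffineZariskiSite, A.str.app (op U.1) ≫ τ.app (op U) = B.str.app (op U.1))
    (U : S.AffineZariskiSite) :
    (homOfAffine A B τ hτ).hom.app (op U.1) = τ.app (op U) :=
  NatTrans.congr_app ((Functor.IsCoverDense.restrictHomEquivHom
      (G := Scheme.AffineZariskiSite.toOpensFunctor S)
      (K := Opens.grothendieckTopology S) (ℱ := A.presheaf)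
      (ℱ' := (⟨B.presheaf, B.isSheaf⟩ : TopCat.Sheaf CommRingCat.{u} S.carrier))).symm_apply_apply τ) (op U)


section Main

variable {Y : Scheme.{u}} {𝒮 𝒮h : RelProj.QCGrAlg Y}
  {ι : 𝒮.toQCAlg ⟶ 𝒮h.toQCAlg} {z : 𝒮h.presheaf.obj (op ⊤)} (hz : RelCone.IsPolyOver 𝒮 𝒮h ι z)

theorem restrictTop_res (A : RelProj.QCGrAlg Y) (z : A.presheaf.obj (op ⊤)) {U V : Y.Opens}
    (i : V ⟶ U) :
    (A.presheaf.map i.op).hom (RelCone.restrictTop A z U) = RelCone.restrictTop A z V := by
  change (A.presheaf.map (homOfLE le_top).op ≫ A.presheaf.map i.op).hom z = _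
  rw [← Functor.map_comp]
  rfl

/-- presheaf-level restriction of a global section -/
noncomputable abbrev resTop (B : RelSpec.QCAlg Y) (b : B.presheaf.obj (op ⊤)) (U : Y.Opens) :
    B.presheaf.obj (op U) := (B.presheaf.map (homOfLE le_top).op).hom b

theorem resTop_res (B : RelSpec.QCAlg Y) (b : B.presheaf.obj (op ⊤)) {U V : Y.Opens}
    (i : V ⟶ U) :
    (B.presheaf.map i.op).hom (resTop B b U) = resTop B b V := by
  change (B.presheaf.map (homOfLE le_top).op ≫ B.presheaf.map i.op).hom b = _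
  rw [← Functor.map_comp]
  rfl

include hz in
/-- ring homs out of `𝒮h(U)` are determined by their values on `ι` and `z` -/
theorem ringHom_ext_poly (U : Y.Opens) (hU : IsAffineOpen U) {R : Type*} [Semiring R]
    {g g' : 𝒮h.presheaf.obj (op U) →+* R}
    (h1 : ∀ a, g ((ι.hom.app (op U)).hom a) = g' ((ι.hom.app (op U)).hom a))
    (h2 : g (RelCone.restrictTop 𝒮h z U) = g' (RelCone.restrictTop 𝒮h z U)) : g = g' := by
  have key : g.comp (Polynomial.eval₂RingHom (ι.hom.app (op U)).hom (RelCone.restrictTop 𝒮h z U)) =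
      g'.comp (Polynomial.eval₂RingHom (ι.hom.app (op U)).hom (RelCone.restrictTop 𝒮h z U)) := by
    apply Polynomial.ringHom_ext
    · intro a
      simp only [RingHom.comp_apply, Polynomial.coe_eval₂RingHom, Polynomial.eval₂_C]
      exact h1 a
    · simp only [RingHom.comp_apply, Polynomial.coe_eval₂RingHom, Polynomial.eval₂_X]
      exact h2
  apply RingHom.ext
  intro x
  obtain ⟨p, rfl⟩ := (hz.bij U hU).2 x
  exact RingHom.congr_fun key p

variable (B : RelSpec.QCAlg Y) (ψ₀ : 𝒮.toQCAlg ⟶ B) (b : B.presheaf.obj (op ⊤))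

/-- the local extension -/
noncomputable def tauAff (U : Y.Opens) (hU : IsAffineOpen U) :
    𝒮h.presheaf.obj (op U) →+* B.presheaf.obj (op U) :=
  (Polynomial.eval₂RingHom (ψ₀.hom.app (op U)).hom (resTop B b U)).comp
    (hz.polyEquiv U hU).symm.toRingHom

theorem tauAff_ι (U : Y.Opens) (hU : IsAffineOpen U) (a : 𝒮.presheaf.obj (op U)) :
    tauAff hz B ψ₀ b U hU ((ι.hom.app (op U)).hom a) = (ψ₀.hom.app (op U)).hom a := by
  have e : hz.polyEquiv U hU (Polynomial.C a) = (ι.hom.app (op U)).hom a := by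
    rw [RelCone.IsPolyOver.polyEquiv_apply, Polynomial.eval₂_C]
  rw [tauAff, RingHom.comp_apply, ← e]
  simp

theorem tauAff_z (U : Y.Opens) (hU : IsAffineOpen U) :
    tauAff hz B ψ₀ b U hU (RelCone.restrictTop 𝒮h z U) = resTop B b U := by
  have e : hz.polyEquiv U hU Polynomial.X = RelCone.restrictTop 𝒮h z U := by
    rw [RelCone.IsPolyOver.polyEquiv_apply, Polynomial.eval₂_X]
  rw [tauAff, RingHom.comp_apply, ← e]
  simp

theorem tauAff_res {U V : Y.Opens} (hU : IsAffineOpen U) (hV : IsAffineOpen V) (i : V ⟶ U) :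
    (tauAff hz B ψ₀ b V hV).comp (𝒮h.presheaf.map i.op).hom =
      (B.presheaf.map i.op).hom.comp (tauAff hz B ψ₀ b U hU) := by
  apply ringHom_ext_poly hz U hU
  · intro a
    simp only [RingHom.comp_apply]
    have n1 : (𝒮h.presheaf.map i.op).hom ((ι.hom.app (op U)).hom a) =
        (ι.hom.app (op V)).hom ((𝒮.presheaf.map i.op).hom a) :=
      (ConcreteCategory.congr_hom (ι.hom.naturality i.op) a).symm
    have n2 : (B.presheaf.map i.op).hom ((ψ₀.hom.app (op U)).hom a) =
        (ψ₀.hom.app (op V)).hom ((𝒮.presheaf.map i.op).hom a) :=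
      (ConcreteCategory.congr_hom (ψ₀.hom.naturality i.op) a).symm
    rw [n1, tauAff_ι, tauAff_ι, n2]
  · simp only [RingHom.comp_apply]
    rw [restrictTop_res, tauAff_z, tauAff_z, resTop_res]

/-- the family as a natural transformation on affine opens -/
noncomputable def tauNat :
    (Scheme.AffineZariskiSite.toOpensFunctor Y).op ⋙ 𝒮h.presheaf ⟶
      (Scheme.AffineZariskiSite.toOpensFunctor Y).op ⋙ B.presheaf where
  app U := CommRingCat.ofHom (tauAff hz B ψ₀ b U.unop.1 U.unop.2)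
  naturality U V i := by
    apply CommRingCat.hom_ext
    exact (tauAff_res hz B ψ₀ b U.unop.2 V.unop.2
      ((Scheme.AffineZariskiSite.toOpensFunctor Y).map i.unop))

theorem tauNat_str (U : Y.AffineZariskiSite) :
    𝒮h.str.app (op U.1) ≫ (tauNat hz B ψ₀ b).app (op U) = B.str.app (op U.1) := by
  apply CommRingCat.hom_ext
  apply RingHom.ext
  intro r
  change tauAff hz B ψ₀ b U.1 U.2 ((𝒮h.str.app (op U.1)).hom r) = _
  rw [← ψ_str U.1 ι r, tauAff_ι, ψ_str U.1 ψ₀ r]
  rfl

/-- the extension `𝒮[z] ⟶ B` -/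
noncomputable def ext : 𝒮h.toQCAlg ⟶ B :=
  homOfAffine 𝒮h.toQCAlg B (tauNat hz B ψ₀ b) (tauNat_str hz B ψ₀ b)

theorem ext_app (U : Y.Opens) (hU : IsAffineOpen U) (x : 𝒮h.presheaf.obj (op U)) :
    ((ext hz B ψ₀ b).hom.app (op U)).hom x = tauAff hz B ψ₀ b U hU x :=
  ConcreteCategory.congr_hom
    (homOfAffine_app 𝒮h.toQCAlg B (tauNat hz B ψ₀ b) (tauNat_str hz B ψ₀ b) ⟨U, hU⟩) x

theorem ι_ext : ι ≫ ext hz B ψ₀ b = ψ₀ := by
  apply AffGlue.hom_ext_affine
  intro U
  apply CommRingCat.hom_ext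
  apply RingHom.ext
  intro a
  change ((ext hz B ψ₀ b).hom.app (op U.1)).hom ((ι.hom.app (op U.1)).hom a) = _
  rw [ext_app hz B ψ₀ b U.1 U.2, tauAff_ι]

theorem ext_z (U : Y.Opens) (hU : IsAffineOpen U) :
    ((ext hz B ψ₀ b).hom.app (op U)).hom (RelCone.restrictTop 𝒮h z U) = resTop B b U := by
  rw [ext_app hz B ψ₀ b U hU, tauAff_z]

theorem ext_unique (ψ : 𝒮h.toQCAlg ⟶ B) (h1 : ι ≫ ψ = ψ₀)
    (h2 : ∀ (U : Y.Opens) (_ : IsAffineOpen U),
      (ψ.hom.app (op U)).hom (RelCone.restrictTop 𝒮h z U) = resTop B b U) :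
    ψ = ext hz B ψ₀ b := by
  apply AffGlue.hom_ext_affine
  intro U
  apply CommRingCat.hom_ext
  apply ringHom_ext_poly hz U.1 U.2
  · intro a
    rw [ext_app hz B ψ₀ b U.1 U.2, tauAff_ι, ← h1]
    rfl
  · rw [ext_z hz B ψ₀ b U.1 U.2, h2 U.1 U.2]

end Main


theorem app_one_smul {X : Scheme.{u}} {L : X.Modules} (s : Coh.structureModule X ⟶ L) (V : X.Opens)
    (r : Γ(X, V)) :
    s.app V (show Γ(Coh.structureModule X, V) from r) =
      r • s.app V (show Γ(Coh.structureModule X, V) from (1 : Γ(X, V))) := by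
  have h2 := Scheme.Modules.Hom.app_smul s r
    (show Γ(Coh.structureModule X, V) from (1 : Γ(X, V)))
  have h : r • (show Γ(Coh.structureModule X, V) from (1 : Γ(X, V))) =
      (show Γ(Coh.structureModule X, V) from r) := by
    change r * 1 = r
    rw [mul_one]
  rw [h] at h2
  exact h2

theorem app_one_res {X : Scheme.{u}} {L : X.Modules} (s : Coh.structureModule X ⟶ L) {U V : X.Opens}
    (i : V ⟶ U) :
    L.presheaf.map i.op (s.app U (show Γ(Coh.structureModule X, U) from (1 : Γ(X, U)))) =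
      s.app V (show Γ(Coh.structureModule X, V) from (1 : Γ(X, V))) :=
  SecTwist.map_val s i

theorem main8304 {Y : Scheme.{u}} (E : Y.Modules)
    (𝒮 𝒮h : RelProj.QCGrAlg Y) (j : E ⟶ 𝒮.toModule) (hS : RelProj.IsGrSymAlg E 𝒮 j)
    (ι : 𝒮.toQCAlg ⟶ 𝒮h.toQCAlg) (z : 𝒮h.presheaf.obj (op ⊤)) (hz : RelCone.IsPolyOver 𝒮 𝒮h ι z)
    (k : Coh.structureModule Y ⟶ 𝒮h.toModule)
    (hk : ∀ U : Y.Opens, (k.app U) (1 : Γ(Y, U)) = RelCone.restrictTop 𝒮h z U) :
    RelProj.IsGrSymAlg (E ⊞ Coh.structureModule Y) 𝒮h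
      (biprod.desc (j ≫ RelSpec.QCAlg.Hom.toModuleMap ι) k) := by
  refine ⟨?_, ?_⟩
  · intro B φ
    obtain ⟨ψ₀, hψ₀, hψ₀u⟩ := hS.1 B (biprod.inl ≫ φ)
    let b : B.presheaf.obj (op ⊤) := (biprod.inr ≫ φ).app ⊤ (1 : Γ(Y, ⊤))
    have hb : ∀ U : Y.Opens, (show B.presheaf.obj (op U) from
        (biprod.inr ≫ φ).app U (1 : Γ(Y, U))) = resTop B b U := by
      intro U
      exact (app_one_res (biprod.inr ≫ φ) (homOfLE (le_top : U ≤ ⊤))).symm
    refine ⟨ext hz B ψ₀ b, ?_, ?_⟩
    · apply biprod.hom_ext'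
      · rw [← Category.assoc, biprod.inl_desc, Category.assoc, ← toModuleMap_comp, ι_ext, hψ₀]
      · rw [← Category.assoc, biprod.inr_desc]
        apply AffExt.hom_ext_affine
        intro U hU r
        rw [app_one_smul, app_one_smul (biprod.inr ≫ φ)]
        congr 1
        change (show B.presheaf.obj (op U) from ((ext hz B ψ₀ b).hom.app (op U)).hom
          (show 𝒮h.presheaf.obj (op U) from k.app U (1 : Γ(Y, U)))) = _
        rw [hk U, ext_z hz B ψ₀ b U hU, ← hb U]
    · intro ψ hψ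
      apply ext_unique
      · apply hψ₀u
        rw [toModuleMap_comp, ← Category.assoc, ← hψ, biprod.inl_desc_assoc]
      · intro U hU
        rw [← hb U, ← hk U, ← hψ, biprod.inr_desc_assoc]
        rfl
  · intro U hU x
    rw [biprod_decomp E (Coh.structureModule Y) U x, map_add]
    apply AddSubgroup.add_mem
    · have h1 : (biprod.desc (j ≫ RelSpec.QCAlg.Hom.toModuleMap ι) k).app U
          ((biprod.inl : E ⟶ E ⊞ Coh.structureModule Y).app U
            ((biprod.fst : E ⊞ Coh.structureModule Y ⟶ E).app U x)) =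
          (j ≫ RelSpec.QCAlg.Hom.toModuleMap ι).app U
            ((biprod.fst : E ⊞ Coh.structureModule Y ⟶ E).app U x) :=
        congrArg (fun φ => Scheme.Modules.Hom.app φ U
          ((biprod.fst : E ⊞ Coh.structureModule Y ⟶ E).app U x))
          (biprod.inl_desc (j ≫ RelSpec.QCAlg.Hom.toModuleMap ι) k)
      rw [h1]
      exact hz.graded U hU 1 _ (hS.2 U hU _)
    · have h1 : (biprod.desc (j ≫ RelSpec.QCAlg.Hom.toModuleMap ι) k).app U
          ((biprod.inr : Coh.structureModule Y ⟶ E ⊞ Coh.structureModule Y).app U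
            ((biprod.snd : E ⊞ Coh.structureModule Y ⟶ Coh.structureModule Y).app U x)) =
          k.app U ((biprod.snd : E ⊞ Coh.structureModule Y ⟶ Coh.structureModule Y).app U x) :=
        congrArg (fun φ => Scheme.Modules.Hom.app φ U
          ((biprod.snd : E ⊞ Coh.structureModule Y ⟶ Coh.structureModule Y).app U x))
          (biprod.inr_desc (j ≫ RelSpec.QCAlg.Hom.toModuleMap ι) k)
      rw [h1]
      have h2 := app_one_smul k U
        ((biprod.snd : E ⊞ Coh.structureModule Y ⟶ Coh.structureModule Y).app U x)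
      refine (congrArg (fun w => w ∈ 𝒮h.deg U hU 1) h2).mpr ?_
      rw [str_smul']
      have h3 : (show 𝒮h.presheaf.obj (op U) from k.app U
          (show Γ(Coh.structureModule Y, U) from (1 : Γ(Y, U)))) = RelCone.restrictTop 𝒮h z U := hk U
      have := SetLike.mul_mem_graded (𝒮h.str_mem U hU
        ((biprod.snd : E ⊞ Coh.structureModule Y ⟶ Coh.structureModule Y).app U x))
        (hz.deg_z U hU)
      rw [zero_add, ← h3] at this
      exact this

end Groth.Agent.Helper1.SymPoly
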