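import Mathlib
import Groth.Prelude.Def_RelProj
import Groth.Agent.Lib.Helper1.AffGlue
import Groth.Agent.Lib.Helper1.AffExt
import Groth.Agent.Lib.Helper1.GrTransport
import Groth.Agent.Lib.Helper1.SymPoly

set_option autoImplicit false
universe u
open CategoryTheory CategoryTheory.Limits AlgebraicGeometry TopologicalSpace Opposite
open scoped HomogeneousIdeal

/-!
# Gluing a graded coequifibered presheaf of rings on the affine opens into a graded q.c. algebra
-/

namespace Groth.Agent.Helper1.GrGlue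

open Groth.Agent.Helper1

variable {S : Scheme.{u}} {F : S.AffineZariskiSiteᵒᵖ ⥤ CommRingCat.{u}}
  {α : (Scheme.AffineZariskiSite.toOpensFunctor S).op ⋙ S.presheaf ⟶ F} (H : α.Coequifibered)

/-- the identification of sections as a ring isomorphism -/
noncomputable def secEquiv (U : S.AffineZariskiSite) :
    F.obj (op U) ≃+* (AffGlue.alg H).presheaf.obj (op U.1) :=
  RingEquiv.ofRingHom (AffGlue.gammaInv H U).hom (AffGlue.gammaAff H U).hom
    (by
      have := AffGlue.gammaAff_gammaInv H U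
      exact congrArg CommRingCat.Hom.hom this)
    (by
      have := AffGlue.gammaInv_gammaAff H U
      exact congrArg CommRingCat.Hom.hom this)

theorem secEquiv_apply (U : S.AffineZariskiSite) (x : F.obj (op U)) :
    secEquiv H U x = (AffGlue.gammaInv H U).hom x := rfl

theorem secEquiv_symm_apply (U : S.AffineZariskiSite) (y : (AffGlue.alg H).presheaf.obj (op U.1)) :
    (secEquiv H U).symm y = (AffGlue.gammaAff H U).hom y := rfl

theorem secEquiv_res {U V : S.AffineZariskiSite} (i : V ⟶ U) (x : F.obj (op U)) :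
    ((AffGlue.alg H).presheaf.map (homOfLE (Scheme.AffineZariskiSite.toOpens_mono i.le)).op).hom
      (secEquiv H U x) = secEquiv H V ((F.map i.op).hom x) := by
  have := AffGlue.gammaInv_naturality H i
  exact ConcreteCategory.congr_hom this x

theorem secEquiv_symm_res {U V : S.AffineZariskiSite} (i : V ⟶ U)
    (y : (AffGlue.alg H).presheaf.obj (op U.1)) :
    (secEquiv H V).symm (((AffGlue.alg H).presheaf.map
      (homOfLE (Scheme.AffineZariskiSite.toOpens_mono i.le)).op).hom y) =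
      (F.map i.op).hom ((secEquiv H U).symm y) := by
  have := AffGlue.gammaAff_naturality H i
  exact ConcreteCategory.congr_hom this y

theorem secEquiv_str (U : S.AffineZariskiSite) (r : Γ(S, U.1)) :
    secEquiv H U ((α.app (op U)).hom r) = ((AffGlue.alg H).str.app (op U.1)).hom r := by
  have := AffGlue.α_gammaInv H U
  exact ConcreteCategory.congr_hom this r

include H in
/-- local vanishing in `F` -/
theorem eq_zero_of_locally (V : S.AffineZariskiSite) (z : F.obj (op V))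
    (h : ∀ v ∈ V.1, ∃ (W : S.AffineZariskiSite) (i : W ⟶ V), v ∈ W.1 ∧ (F.map i.op).hom z = 0) :
    z = 0 := by
  apply (secEquiv H V).injective
  rw [map_zero]
  have h' : ∀ v : V.1, ∃ (W : S.AffineZariskiSite) (i : W ⟶ V), v.1 ∈ W.1 ∧
      (F.map i.op).hom z = 0 := fun v => h v.1 v.2
  choose W i hvW hz using h'
  let FM : TopCat.Sheaf CommRingCat.{u} S.carrier := ⟨(AffGlue.alg H).presheaf, (AffGlue.alg H).isSheaf⟩
  refine FM.eq_of_locally_eq' (fun v => (W v).1) V.1
    (fun v => homOfLE (Scheme.AffineZariskiSite.toOpens_mono (i v).le))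
    (fun v hv => Opens.mem_iSup.2 ⟨⟨v, hv⟩, hvW ⟨v, hv⟩⟩) _ _ ?_
  intro v
  refine (secEquiv_res H (i v) z).trans ?_
  rw [hz v, map_zero]
  exact (map_zero _).symm

variable (𝒢 : ∀ U : S.AffineZariskiSite, ℕ → AddSubgroup (F.obj (op U)))
  [∀ U, GradedRing (𝒢 U)]
  (hmap : ∀ {U V : S.AffineZariskiSite} (i : V ⟶ U) {d : ℕ} {x : F.obj (op U)},
    x ∈ 𝒢 U d → (F.map i.op).hom x ∈ 𝒢 V d)
  (hα : ∀ (U : S.AffineZariskiSite) (r : Γ(S, U.1)), (α.app (op U)).hom r ∈ 𝒢 U 0)

include hmap in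
theorem map_decompose {U V : S.AffineZariskiSite} (i : V ⟶ U) (x : F.obj (op U)) (k : ℕ) :
    (F.map i.op).hom (DirectSum.decompose (𝒢 U) x k : F.obj (op U)) =
      (DirectSum.decompose (𝒢 V) ((F.map i.op).hom x) k : F.obj (op V)) := by
  classical
  let φ : 𝒢 U →+*ᵍ 𝒢 V := { (F.map i.op).hom with map_mem := fun hx => hmap i hx }
  exact φ.map_directSumDecompose

include H hmap in
/-- homogeneity is local -/
theorem mem_of_locally (V : S.AffineZariskiSite) (z : F.obj (op V)) (d : ℕ)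
    (h : ∀ v ∈ V.1, ∃ (W : S.AffineZariskiSite) (i : W ⟶ V), v ∈ W.1 ∧
      (F.map i.op).hom z ∈ 𝒢 W d) : z ∈ 𝒢 V d := by
  classical
  have hk : ∀ k, k ≠ d → (DirectSum.decompose (𝒢 V) z k : F.obj (op V)) = 0 := by
    intro k hkd
    apply eq_zero_of_locally H V
    intro v hv
    obtain ⟨W, i, hvW, hz⟩ := h v hv
    refine ⟨W, i, hvW, ?_⟩
    rw [map_decompose 𝒢 hmap i z k, DirectSum.decompose_of_mem_ne (𝒢 W) hz hkd.symm]
  have hz : z = (DirectSum.decompose (𝒢 V) z d : F.obj (op V)) := by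
    conv_lhs => rw [← DirectSum.sum_support_decompose (𝒢 V) z]
    refine Finset.sum_eq_single d (fun k _ hkd => hk k hkd) (fun hd => ?_)
    rw [DFinsupp.notMem_support_iff] at hd
    rw [hd]; rfl
  rw [hz]
  exact SetLike.coe_mem _

include H hmap in
theorem map_mem_general {U V : S.AffineZariskiSite} (i : V.1 ≤ U.1) {d : ℕ} {x : F.obj (op U)}
    (hx : x ∈ 𝒢 U d) :
    (secEquiv H V).symm (((AffGlue.alg H).presheaf.map (homOfLE i).op).hom (secEquiv H U x)) ∈
      𝒢 V d := by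
  apply mem_of_locally H 𝒢 hmap
  intro v hv
  obtain ⟨f, g, e, hvf⟩ := AffExt.exists_basic_both U.2 V.2 (i hv) hv
  let W : S.AffineZariskiSite := ⟨S.basicOpen g, V.2.basicOpen g⟩
  let iV : W ⟶ V := homOfLE ⟨g, rfl⟩
  let iU : W ⟶ U := homOfLE ⟨f, e⟩
  refine ⟨W, iV, (show v ∈ S.basicOpen g from e ▸ hvf), ?_⟩
  rw [← secEquiv_symm_res H iV]
  have h1 : ((AffGlue.alg H).presheaf.map
      (homOfLE (Scheme.AffineZariskiSite.toOpens_mono iV.le)).op).hom
      (((AffGlue.alg H).presheaf.map (homOfLE i).op).hom (secEquiv H U x)) =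
      ((AffGlue.alg H).presheaf.map
        (homOfLE (Scheme.AffineZariskiSite.toOpens_mono iU.le)).op).hom (secEquiv H U x) := by
    change ((AffGlue.alg H).presheaf.map (homOfLE i).op ≫
      (AffGlue.alg H).presheaf.map _).hom _ = _
    rw [← Functor.map_comp]
    rfl
  rw [h1, secEquiv_res H iU, RingEquiv.symm_apply_apply]
  exact hmap iU hx

/-- **the glued graded quasi-coherent algebra** -/
noncomputable def grAlg : RelProj.QCGrAlg S where
  toQCAlg := AffGlue.alg H
  deg U hU n := GrTransport.mapPiece (secEquiv H ⟨U, hU⟩) (𝒢 ⟨U, hU⟩) n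
  graded U hU := GrTransport.gradedRing (secEquiv H ⟨U, hU⟩) (𝒢 ⟨U, hU⟩)
  map_mem := by
    rintro U V hU hV i d _ ⟨x, hx, rfl⟩
    rw [GrTransport.mem_mapPiece_iff]
    exact map_mem_general H 𝒢 hmap (U := ⟨U, hU⟩) (V := ⟨V, hV⟩) i hx
  str_mem U hU r := ⟨_, hα ⟨U, hU⟩ r, secEquiv_str H ⟨U, hU⟩ r⟩

theorem grAlg_toQCAlg : (grAlg H 𝒢 hmap hα).toQCAlg = AffGlue.alg H := rfl

theorem mem_deg {U : S.Opens} {hU : IsAffineOpen U} {n : ℕ}
    {y : (AffGlue.alg H).presheaf.obj (op U)} :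
    y ∈ (grAlg H 𝒢 hmap hα).deg U hU n ↔ ∃ x ∈ 𝒢 ⟨U, hU⟩ n, secEquiv H ⟨U, hU⟩ x = y := Iff.rfl

theorem mem_deg_iff {U : S.Opens} {hU : IsAffineOpen U} {n : ℕ}
    {y : (AffGlue.alg H).presheaf.obj (op U)} :
    y ∈ (grAlg H 𝒢 hmap hα).deg U hU n ↔ (secEquiv H ⟨U, hU⟩).symm y ∈ 𝒢 ⟨U, hU⟩ n :=
  GrTransport.mem_mapPiece_iff _ _

/-- `gammaInv` as a natural transformation -/
noncomputable def gammaRestrictInv :
    F ⟶ (Scheme.AffineZariskiSite.toOpensFunctor S).op ⋙ (AffGlue.alg H).presheaf where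
  app U := AffGlue.gammaInv H U.unop
  naturality _ _ i := (AffGlue.gammaInv_naturality H i.unop).symm

/-- **homomorphisms into the glued algebra** -/
noncomputable def homInto (A : RelSpec.QCAlg S)
    (τ : (Scheme.AffineZariskiSite.toOpensFunctor S).op ⋙ A.presheaf ⟶ F)
    (hτ : ∀ U : S.AffineZariskiSite, A.str.app (op U.1) ≫ τ.app (op U) = α.app (op U)) :
    A ⟶ AffGlue.alg H :=
  SymPoly.homOfAffine A (AffGlue.alg H) (τ ≫ gammaRestrictInv H) (fun U => by
    change A.str.app (op U.1) ≫ τ.app (op U) ≫ AffGlue.gammaInv H U = _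
    rw [reassoc_of% hτ U]
    exact AffGlue.α_gammaInv H U)

theorem homInto_app (A : RelSpec.QCAlg S)
    (τ : (Scheme.AffineZariskiSite.toOpensFunctor S).op ⋙ A.presheaf ⟶ F)
    (hτ : ∀ U : S.AffineZariskiSite, A.str.app (op U.1) ≫ τ.app (op U) = α.app (op U))
    (U : S.AffineZariskiSite) :
    (homInto H A τ hτ).hom.app (op U.1) = τ.app (op U) ≫ AffGlue.gammaInv H U :=
  SymPoly.homOfAffine_app A (AffGlue.alg H) (τ ≫ gammaRestrictInv H) _ U

theorem homInto_apply (A : RelSpec.QCAlg S)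
    (τ : (Scheme.AffineZariskiSite.toOpensFunctor S).op ⋙ A.presheaf ⟶ F)
    (hτ : ∀ U : S.AffineZariskiSite, A.str.app (op U.1) ≫ τ.app (op U) = α.app (op U))
    (U : S.AffineZariskiSite) (x : A.presheaf.obj (op U.1)) :
    ((homInto H A τ hτ).hom.app (op U.1)).hom x = secEquiv H U ((τ.app (op U)).hom x) :=
  ConcreteCategory.congr_hom (homInto_app H A τ hτ U) x

end Groth.Agent.Helper1.GrGlue
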