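import Mathlib
import Groth.Prelude.Def_RelProj
import Groth.Agent.Lib.Helper1.GrGlue
import Groth.Agent.Lib.Helper1.GrQuotZ

set_option autoImplicit false
universe u
open CategoryTheory CategoryTheory.Limits AlgebraicGeometry TopologicalSpace Opposite
open scoped HomogeneousIdeal

/-!
# Quotient of a graded quasi-coherent algebra by a compatible family of homogeneous ideals
-/

namespace Groth.Agent.Helper1.QuotAlg

open Groth.Agent.Helper1

/-- quotient of a localization -/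
theorem isLocalization_quotient {R R' : Type*} [CommRing R] [CommRing R'] (ρ : R →+* R') (c : R)
    (hloc : @IsLocalization.Away R _ c R' _ ρ.toAlgebra) (J : Ideal R) (J' : Ideal R')
    (hJ : J ≤ J'.comap ρ) (h : ∀ a, ρ a ∈ J' → ∃ N : ℕ, c ^ N * a ∈ J) :
    @IsLocalization.Away (R ⧸ J) _ (Ideal.Quotient.mk J c) (R' ⧸ J') _
      (Ideal.quotientMap J' ρ hJ).toAlgebra := by
  let _i2 : Algebra R R' := ρ.toAlgebra
  let _i1 : Algebra (R ⧸ J) (R' ⧸ J') := (Ideal.quotientMap J' ρ hJ).toAlgebra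
  have halg : ∀ a : R, algebraMap (R ⧸ J) (R' ⧸ J') (Ideal.Quotient.mk J a) =
      Ideal.Quotient.mk J' (ρ a) := fun a => rfl
  change IsLocalization (Submonoid.powers (Ideal.Quotient.mk J c)) _
  rw [isLocalization_iff]
  refine ⟨?_, ?_, ?_⟩
  · rintro ⟨_, n, rfl⟩
    change IsUnit (algebraMap (R ⧸ J) (R' ⧸ J') (Ideal.Quotient.mk J c ^ n))
    rw [← map_pow, halg]
    have hu : IsUnit (ρ (c ^ n)) :=
      IsLocalization.map_units (M := Submonoid.powers c) R' ⟨c ^ n, n, rfl⟩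
    exact hu.map (Ideal.Quotient.mk J')
  · intro z
    obtain ⟨z', rfl⟩ := Ideal.Quotient.mk_surjective z
    obtain ⟨⟨x, ⟨_, n, rfl⟩⟩, hx⟩ := IsLocalization.surj (Submonoid.powers c) z'
    refine ⟨⟨Ideal.Quotient.mk J x, ⟨_, n, rfl⟩⟩, ?_⟩
    change _ * algebraMap _ _ (Ideal.Quotient.mk J c ^ n) = algebraMap _ _ _
    rw [← map_pow, halg, halg, ← map_mul]
    exact congrArg _ hx
  · intro x y hxy
    obtain ⟨x, rfl⟩ := Ideal.Quotient.mk_surjective x
    obtain ⟨y, rfl⟩ := Ideal.Quotient.mk_surjective y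
    rw [halg, halg, Ideal.Quotient.eq, ← map_sub] at hxy
    obtain ⟨N, hN⟩ := h (x - y) hxy
    refine ⟨⟨_, N, rfl⟩, ?_⟩
    change Ideal.Quotient.mk J c ^ N * _ = Ideal.Quotient.mk J c ^ N * _
    rw [← map_pow, ← map_mul, ← map_mul, Ideal.Quotient.eq, ← mul_sub]
    exact hN

variable {S : Scheme.{u}} (𝒜 : RelProj.QCGrAlg S)

/-- a family of homogeneous ideals over the affine opens, compatible with restriction to basic
opens and with localization -/
structure IdealFam where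
  J : ∀ U : S.AffineZariskiSite, Ideal (𝒜.presheaf.obj (op U.1))
  hom : ∀ U : S.AffineZariskiSite, (J U).IsHomogeneous (𝒜.deg U.1 U.2)
  res : ∀ {U V : S.AffineZariskiSite} (i : V ⟶ U) {a : 𝒜.presheaf.obj (op U.1)}, a ∈ J U →
    (𝒜.presheaf.map (homOfLE (Scheme.AffineZariskiSite.toOpens_mono i.le)).op).hom a ∈ J V
  loc : ∀ (U : S.AffineZariskiSite) (r : Γ(S, U.1)) (a : 𝒜.presheaf.obj (op U.1)),
    (𝒜.presheaf.map (homOfLE (S.basicOpen_le r)).op).hom a ∈ J (U.basicOpen r) →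
      ∃ N : ℕ, (𝒜.str.app (op U.1)).hom r ^ N * a ∈ J U

variable {𝒜} (Jf : IdealFam 𝒜)

namespace IdealFam

/-- restriction map of `𝒜` along an arrow of the affine site -/
noncomputable abbrev resA {U V : S.AffineZariskiSite} (i : V ⟶ U) :
    𝒜.presheaf.obj (op U.1) →+* 𝒜.presheaf.obj (op V.1) :=
  (𝒜.presheaf.map (homOfLE (Scheme.AffineZariskiSite.toOpens_mono i.le)).op).hom

theorem le_comap {U V : S.AffineZariskiSite} (i : V ⟶ U) :
    Jf.J U ≤ (Jf.J V).comap (resA (𝒜 := 𝒜) i) := fun _ ha => Jf.res i ha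

/-- the quotient presheaf on the affine site -/
noncomputable def F : S.AffineZariskiSiteᵒᵖ ⥤ CommRingCat.{u} where
  obj U := CommRingCat.of (𝒜.presheaf.obj (op U.unop.1) ⧸ Jf.J U.unop)
  map {U V} i := CommRingCat.ofHom (Ideal.quotientMap (Jf.J V.unop) (resA i.unop) (Jf.le_comap i.unop))
  map_id U := by
    apply CommRingCat.hom_ext
    apply Ideal.Quotient.ringHom_ext
    ext a
    change Ideal.Quotient.mk (Jf.J U.unop) ((𝒜.presheaf.map (𝟙 _)).hom a) =
      Ideal.Quotient.mk (Jf.J U.unop) a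
    rw [CategoryTheory.Functor.map_id]
    rfl
  map_comp {U V W} i j := by
    apply CommRingCat.hom_ext
    apply Ideal.Quotient.ringHom_ext
    ext a
    change Ideal.Quotient.mk (Jf.J W.unop) (resA (i ≫ j).unop a) =
      Ideal.Quotient.mk (Jf.J W.unop) ((𝒜.presheaf.map _ ≫ 𝒜.presheaf.map _).hom a)
    rw [← Functor.map_comp]
    rfl

theorem F_map_mk {U V : S.AffineZariskiSite} (i : V ⟶ U) (a : 𝒜.presheaf.obj (op U.1)) :
    (Jf.F.map i.op).hom (Ideal.Quotient.mk (Jf.J U) a) =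
      Ideal.Quotient.mk (Jf.J V) (resA i a) := rfl

/-- the quotient map as a natural transformation -/
noncomputable def q : (Scheme.AffineZariskiSite.toOpensFunctor S).op ⋙ 𝒜.presheaf ⟶ Jf.F where
  app U := CommRingCat.ofHom (Ideal.Quotient.mk (Jf.J U.unop))
  naturality U V i := by
    apply CommRingCat.hom_ext
    ext a
    rfl

/-- the structure map -/
noncomputable def α : (Scheme.AffineZariskiSite.toOpensFunctor S).op ⋙ S.presheaf ⟶ Jf.F :=
  (Scheme.AffineZariskiSite.toOpensFunctor S).op.whiskerLeft 𝒜.str ≫ Jf.q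

theorem α_app (U : S.AffineZariskiSite) (r : Γ(S, U.1)) :
    (Jf.α.app (op U)).hom r = Ideal.Quotient.mk (Jf.J U) ((𝒜.str.app (op U.1)).hom r) := rfl

theorem coequifibered : Jf.α.Coequifibered := by
  rw [Scheme.AffineZariskiSite.coequifibered_iff_forall_isLocalizationAway]
  intro U r
  have hloc : @IsLocalization.Away _ _ ((𝒜.str.app (op U.1)).hom r)
      (𝒜.presheaf.obj (op (S.basicOpen r))) _
      (𝒜.presheaf.map (homOfLE (S.basicOpen_le r)).op).hom.toAlgebra := 𝒜.isQC U.1 U.2 r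
  exact isLocalization_quotient (𝒜.presheaf.map (homOfLE (S.basicOpen_le r)).op).hom
    ((𝒜.str.app (op U.1)).hom r) hloc (Jf.J U) (Jf.J (U.basicOpen r))
    (Jf.le_comap (homOfLE (U.basicOpen_le r))) (Jf.loc U r)

/-- the quotient gradings -/
noncomputable def 𝒢 (U : S.AffineZariskiSite) : ℕ → AddSubgroup (Jf.F.obj (op U)) :=
  GrQuotZ.gr (𝒜.deg U.1 U.2) (Jf.J U)

noncomputable instance (U : S.AffineZariskiSite) : GradedRing (Jf.𝒢 U) :=
  GrQuotZ.gradedRing (𝒜.deg U.1 U.2) (Jf.J U) (Jf.hom U)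

theorem hmap {U V : S.AffineZariskiSite} (i : V ⟶ U) {d : ℕ} {x : Jf.F.obj (op U)}
    (hx : x ∈ Jf.𝒢 U d) : (Jf.F.map i.op).hom x ∈ Jf.𝒢 V d := by
  obtain ⟨a, ha, rfl⟩ := hx
  exact ⟨resA i a, 𝒜.map_mem U.2 V.2 (Scheme.AffineZariskiSite.toOpens_mono i.le) ha, rfl⟩

theorem hα (U : S.AffineZariskiSite) (r : Γ(S, U.1)) : (Jf.α.app (op U)).hom r ∈ Jf.𝒢 U 0 :=
  ⟨(𝒜.str.app (op U.1)).hom r, 𝒜.str_mem U.1 U.2 r, rfl⟩

/-- **the quotient graded algebra** -/
noncomputable def quot : RelProj.QCGrAlg S :=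
  GrGlue.grAlg Jf.coequifibered Jf.𝒢 (fun i _ _ hx => Jf.hmap i hx) Jf.hα

/-- **the quotient homomorphism** -/
noncomputable def φ : 𝒜.toQCAlg ⟶ Jf.quot.toQCAlg :=
  GrGlue.homInto Jf.coequifibered 𝒜.toQCAlg Jf.q (fun _ => rfl)

theorem φ_apply (U : S.AffineZariskiSite) (x : 𝒜.presheaf.obj (op U.1)) :
    (Jf.φ.hom.app (op U.1)).hom x =
      GrGlue.secEquiv Jf.coequifibered U (Ideal.Quotient.mk (Jf.J U) x) :=
  GrGlue.homInto_apply Jf.coequifibered 𝒜.toQCAlg Jf.q (fun _ => rfl) U x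

theorem isGradedHom : RelProj.IsGradedHom Jf.φ := by
  intro U hU d x hx
  rw [Jf.φ_apply ⟨U, hU⟩ x]
  exact ⟨_, ⟨x, hx, rfl⟩, rfl⟩

theorem φ_surjective (U : S.Opens) (hU : IsAffineOpen U) :
    Function.Surjective (Jf.φ.hom.app (op U)).hom := by
  intro y
  obtain ⟨x, hx⟩ := Ideal.Quotient.mk_surjective
    ((GrGlue.secEquiv Jf.coequifibered ⟨U, hU⟩).symm y)
  refine ⟨x, ?_⟩
  rw [Jf.φ_apply ⟨U, hU⟩ x, hx, RingEquiv.apply_symm_apply]

theorem φ_eq_zero_iff (U : S.Opens) (hU : IsAffineOpen U) (x : 𝒜.presheaf.obj (op U)) :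
    (Jf.φ.hom.app (op U)).hom x = 0 ↔ x ∈ Jf.J ⟨U, hU⟩ := by
  rw [Jf.φ_apply ⟨U, hU⟩ x]
  constructor
  · intro h
    have h2 := (GrGlue.secEquiv Jf.coequifibered ⟨U, hU⟩).injective (h.trans (map_zero _).symm)
    exact Ideal.Quotient.eq_zero_iff_mem.1 h2
  · intro h
    rw [Ideal.Quotient.eq_zero_iff_mem.2 h]
    exact map_zero _

end IdealFam

/-- **existence of the quotient** -/
theorem exists_quot (Jf : IdealFam 𝒜) :
    ∃ (ℬ : RelProj.QCGrAlg S) (φ : 𝒜.toQCAlg ⟶ ℬ.toQCAlg) (_ : RelProj.IsGradedHom φ),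
      (∀ (U : S.Opens), IsAffineOpen U → Function.Surjective (φ.hom.app (op U)).hom) ∧
      ∀ (U : S.Opens) (hU : IsAffineOpen U) (x : 𝒜.presheaf.obj (op U)),
        (φ.hom.app (op U)).hom x = 0 ↔ x ∈ Jf.J ⟨U, hU⟩ :=
  ⟨Jf.quot, Jf.φ, Jf.isGradedHom, Jf.φ_surjective, Jf.φ_eq_zero_iff⟩

end Groth.Agent.Helper1.QuotAlg
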