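import Mathlib
import Groth.Prelude.Def_RelProj2
import Groth.Agent.Lib.Helper1.ProjClosedBC
import Groth.Agent.Lib.Helper1.QuotAlg
import Groth.Agent.Lib.Helper1.RelCone3

/-!
# Closed subschemes of a relative `Proj`: the family of saturated ideals
-/

open AlgebraicGeometry CategoryTheory HomogeneousLocalization DirectSum Opposite TopologicalSpace
open scoped HomogeneousIdeal

universe u

namespace Groth.Agent.Helper1.RelClosed

open Groth.Agent.Helper1

section Pt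
variable {A : Type u} [CommRing A] (𝒜 : ℕ → AddSubgroup A) [GradedRing 𝒜]

/-- pointwise description of the structure map of `Proj` -/
theorem toSpecZero_mem_basicOpen_iff {s : A} (hs : s ∈ 𝒜 0) (y : Proj 𝒜) :
    Proj.toSpecZero 𝒜 y ∈ PrimeSpectrum.basicOpen (⟨s, hs⟩ : 𝒜 0) ↔ y ∈ Proj.basicOpen 𝒜 s := by
  obtain ⟨e, he, g, hg, hyg, -⟩ := SymInvLoc.exists_basicOpen_le 𝒜 ⊤ y trivial
  have hy' : y ∈ Set.range (Proj.awayι 𝒜 g hg he) := by
    rw [RelCone3.mem_range_awayι_iff]; exact (Proj.mem_basicOpen 𝒜 g y).1 hyg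
  obtain ⟨w, rfl⟩ := hy'
  have h1 : Proj.toSpecZero 𝒜 (Proj.awayι 𝒜 g hg he w) =
      Spec.map (CommRingCat.ofHom (fromZeroRingHom 𝒜 (Submonoid.powers g))) w := by
    rw [← Proj.awayι_toSpecZero 𝒜 g hg he]; rfl
  rw [h1]
  have hsg : s * g ∈ 𝒜 e := by
    have := SetLike.mul_mem_graded hs hg
    rwa [zero_add] at this
  have h2 : Proj.awayι 𝒜 g hg he w ∈ Proj.basicOpen 𝒜 s ↔
      Proj.awayι 𝒜 g hg he w ∈ Proj.basicOpen 𝒜 (s * g) := by
    rw [Proj.basicOpen_mul]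
    exact ⟨fun h => ⟨h, hyg⟩, fun h => h.1⟩
  rw [h2, RelCone3.awayι_mem_basicOpen_iff 𝒜 hg he hsg he]
  have h3 : Away.isLocalizationElem hg hsg =
      (fromZeroRingHom 𝒜 (Submonoid.powers g) ⟨s, hs⟩) ^ e := by
    apply HomogeneousLocalization.val_injective
    rw [HomogeneousLocalization.val_pow, Away.val_mk]
    change _ = (Localization.mk s 1) ^ e
    rw [Localization.mk_pow, Localization.mk_eq_mk_iff, Localization.r_iff_exists]
    refine ⟨1, ?_⟩
    simp only [OneMemClass.coe_one, one_mul, one_pow, mul_one, mul_pow]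
    ring
  rw [h3]
  have h4 : Spec.map (CommRingCat.ofHom (fromZeroRingHom 𝒜 (Submonoid.powers g))) w ∈
      PrimeSpectrum.basicOpen (⟨s, hs⟩ : 𝒜 0) ↔
      fromZeroRingHom 𝒜 (Submonoid.powers g) ⟨s, hs⟩ ∉ w.asIdeal := Iff.rfl
  rw [h4]
  have hw : w.asIdeal.IsPrime := w.isPrime
  constructor
  · intro h hp
    exact h (hw.mem_of_pow_mem e hp)
  · intro h hp
    exact h (Ideal.pow_mem_of_mem _ hp e he)

end Pt

section Rel
variable {S P Z : Scheme.{u}} (𝒜 : RelProj.QCGrAlg S) (p : P ⟶ S)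
  (chart : ∀ (U : S.Opens) (hU : IsAffineOpen U),
    (((p ⁻¹ᵁ U : P.Opens) : Scheme.{u}) ≅ Proj (𝒜.deg U hU)))
  (i : Z ⟶ P)

/-- the local pieces of `i`, read through the charts -/
noncomputable def iU (U : S.Opens) (hU : IsAffineOpen U) :
    ((i ⁻¹ᵁ (p ⁻¹ᵁ U) : Z.Opens) : Scheme.{u}) ⟶ Proj (𝒜.deg U hU) :=
  (i ∣_ (p ⁻¹ᵁ U)) ≫ (chart U hU).hom

instance (U : S.Opens) (hU : IsAffineOpen U) [IsClosedImmersion i] :
    IsClosedImmersion (iU 𝒜 p chart i U hU) := by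
  unfold iU
  have : IsClosedImmersion (i ∣_ (p ⁻¹ᵁ U)) :=
    MorphismProperty.of_isPullback (P := @IsClosedImmersion)
      (isPullback_morphismRestrict i (p ⁻¹ᵁ U)).flip inferInstance
  infer_instance

theorem iU_emb (U : S.Opens) (hU : IsAffineOpen U) :
    iU 𝒜 p chart i U hU ≫ RelProj.emb p chart U hU = (i ⁻¹ᵁ (p ⁻¹ᵁ U)).ι ≫ i := by
  unfold iU RelProj.emb
  rw [Category.assoc, Iso.hom_inv_id_assoc, morphismRestrict_ι]

variable (hP : RelProj.IsRelProj 𝒜 p chart)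

include hP in
theorem compactSpace_proj [QuasiCompact p] (U : S.Opens) (hU : IsAffineOpen U) :
    CompactSpace (Proj (𝒜.deg U hU)) := by
  have h1 : IsCompact ((p ⁻¹ᵁ U : P.Opens) : Set P) := p.isCompact_preimage hU.isCompact
  have h2 : CompactSpace ((p ⁻¹ᵁ U : P.Opens) : Scheme.{u}) := isCompact_iff_compactSpace.1 h1
  exact (chart U hU).hom.homeomorph.compactSpace

include hP in
/-- compatibility of the local pieces with restriction to basic opens -/
theorem sq (U : S.Opens) (hU : IsAffineOpen U) (r : Γ(S, U)) :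
    iU 𝒜 p chart i (S.basicOpen r) (hU.basicOpen r) ≫
        Proj.map (𝒜.res hU (hU.basicOpen r) (S.basicOpen_le r)) (𝒜.irrelevant_le_map U hU r) =
      Z.homOfLE (i.preimage_mono (p.preimage_mono (S.basicOpen_le r))) ≫ iU 𝒜 p chart i U hU := by
  unfold iU
  rw [Category.assoc, ← hP.chart_res U hU r, ← Category.assoc, ← Category.assoc,
    morphismRestrict_homOfLE]

include hP in
theorem iU_over (U : S.Opens) (hU : IsAffineOpen U) :
    iU 𝒜 p chart i U hU ≫ Proj.toSpecZero (𝒜.deg U hU) ≫ Spec.map (𝒜.strZero U hU) ≫ hU.fromSpec =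
      (i ⁻¹ᵁ (p ⁻¹ᵁ U)).ι ≫ i ≫ p := by
  unfold iU
  rw [Category.assoc, hP.chart_over U hU, ← Category.assoc, morphismRestrict_ι, Category.assoc]

include hP in
/-- the locus of `Z_U` where `r` is invertible is `Z_{D(r)}` -/
theorem hrange (U : S.Opens) (hU : IsAffineOpen U) (r : Γ(S, U)) :
    iU 𝒜 p chart i U hU ⁻¹ᵁ (Proj.basicOpen (𝒜.deg U hU) ((𝒜.str.app (op U)).hom r)) ≤
      (Z.homOfLE (i.preimage_mono (p.preimage_mono (S.basicOpen_le r)))).opensRange := by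
  rw [Scheme.opensRange_homOfLE]
  intro z hz
  have h1 : Proj.toSpecZero (𝒜.deg U hU) (iU 𝒜 p chart i U hU z) ∈
      PrimeSpectrum.basicOpen ((𝒜.strZero U hU).hom r) :=
    (toSpecZero_mem_basicOpen_iff (𝒜.deg U hU) (𝒜.str_mem U hU r) _).2 hz
  have h2 : Spec.map (𝒜.strZero U hU) (Proj.toSpecZero (𝒜.deg U hU) (iU 𝒜 p chart i U hU z)) ∈
      PrimeSpectrum.basicOpen r := h1
  have h3 : hU.fromSpec (Spec.map (𝒜.strZero U hU)
      (Proj.toSpecZero (𝒜.deg U hU) (iU 𝒜 p chart i U hU z))) ∈ S.basicOpen r := by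
    have := hU.fromSpec_preimage_basicOpen r
    have h4 : Spec.map (𝒜.strZero U hU)
        (Proj.toSpecZero (𝒜.deg U hU) (iU 𝒜 p chart i U hU z)) ∈
        hU.fromSpec ⁻¹ᵁ S.basicOpen r := by rw [this]; exact h2
    exact h4
  have h5 := iU_over 𝒜 p chart i hP U hU
  have h6 : hU.fromSpec (Spec.map (𝒜.strZero U hU)
      (Proj.toSpecZero (𝒜.deg U hU) (iU 𝒜 p chart i U hU z))) = p (i ((i ⁻¹ᵁ (p ⁻¹ᵁ U)).ι z)) := by
    have := congrArg (fun f => f z) (congrArg (fun f : _ ⟶ S => (f : _ → S)) h5)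
    simpa using this
  rw [h6] at h3
  exact h3

variable [QuasiCompact p] [IsClosedImmersion i]

include hP in
theorem res_mem (U : S.Opens) (hU : IsAffineOpen U) (r : Γ(S, U)) {a : 𝒜.presheaf.obj (op U)}
    (ha : a ∈ ProjClosedJ.J (𝒜.deg U hU) (iU 𝒜 p chart i U hU)) :
    (𝒜.presheaf.map (homOfLE (S.basicOpen_le r)).op).hom a ∈
      ProjClosedJ.J (𝒜.deg (S.basicOpen r) (hU.basicOpen r))
        (iU 𝒜 p chart i (S.basicOpen r) (hU.basicOpen r)) := by
  have := compactSpace_proj 𝒜 p chart hP U hU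
  exact ProjClosedBC.map_mem_J (𝒜.deg U hU) (𝒜.deg (S.basicOpen r) (hU.basicOpen r))
    (𝒜.res hU (hU.basicOpen r) (S.basicOpen_le r)) (𝒜.irrelevant_le_map U hU r)
    (iU 𝒜 p chart i U hU) (iU 𝒜 p chart i (S.basicOpen r) (hU.basicOpen r))
    (Z.homOfLE (i.preimage_mono (p.preimage_mono (S.basicOpen_le r))))
    (sq 𝒜 p chart i hP U hU r) ha

include hP in
theorem loc_mem (U : S.Opens) (hU : IsAffineOpen U) (r : Γ(S, U)) (a : 𝒜.presheaf.obj (op U))
    (ha : (𝒜.presheaf.map (homOfLE (S.basicOpen_le r)).op).hom a ∈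
      ProjClosedJ.J (𝒜.deg (S.basicOpen r) (hU.basicOpen r))
        (iU 𝒜 p chart i (S.basicOpen r) (hU.basicOpen r))) :
    ∃ N : ℕ, (𝒜.str.app (op U)).hom r ^ N * a ∈
      ProjClosedJ.J (𝒜.deg U hU) (iU 𝒜 p chart i U hU) := by
  have := compactSpace_proj 𝒜 p chart hP U hU
  exact ProjClosedBC.exists_pow_mul_mem_J (𝒜.deg U hU) (𝒜.deg (S.basicOpen r) (hU.basicOpen r))
    (𝒜.res hU (hU.basicOpen r) (S.basicOpen_le r)) (𝒜.irrelevant_le_map U hU r)
    (iU 𝒜 p chart i U hU) (iU 𝒜 p chart i (S.basicOpen r) (hU.basicOpen r))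
    (Z.homOfLE (i.preimage_mono (p.preimage_mono (S.basicOpen_le r))))
    (sq 𝒜 p chart i hP U hU r) (𝒜.str_mem U hU r) (hrange 𝒜 p chart i hP U hU r)
    (𝒜.isQC U hU r) ha

/-- **the family of saturated ideals** -/
noncomputable def idealFam : QuotAlg.IdealFam 𝒜 where
  J U := ProjClosedJ.J (𝒜.deg U.1 U.2) (iU 𝒜 p chart i U.1 U.2)
  hom U := ProjClosedJ.J_isHomogeneous _ _
  res := by
    rintro ⟨U, hU⟩ ⟨V, hV⟩ j a ha
    obtain ⟨r, hr⟩ := j.le
    change S.basicOpen r = V at hr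
    subst hr
    exact res_mem 𝒜 p chart i hP U hU r ha
  loc U r a ha := loc_mem 𝒜 p chart i hP U.1 U.2 r a ha

end Rel

end Groth.Agent.Helper1.RelClosed
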