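import Mathlib
import Groth.Prelude.Def_RelProj
import Groth.Agent.Lib.Helper1.RelProjGlue
import Groth.Agent.Lib.Helper1.RelProjMap

/-!
# Induced morphisms of relative Proj and uniqueness of relative Proj (helper1 library)
-/

open CategoryTheory CategoryTheory.Limits AlgebraicGeometry Opposite TopologicalSpace
open scoped HomogeneousIdeal

universe u

namespace Groth.Agent.Helper1.RelProjGlue2

section Graded
variable {σ τ A B : Type u} [CommRing A] [SetLike σ A] [AddSubgroupClass σ A] {𝒜 : ℕ → σ}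
  [GradedRing 𝒜] [CommRing B] [SetLike τ B] [AddSubgroupClass τ B] {ℬ : ℕ → τ} [GradedRing ℬ]

theorem map_congr {f f' : 𝒜 →+*ᵍ ℬ} (e : f = f') (hf : (ℬ)₊ ≤ ((𝒜)₊).map f)
    (hf' : (ℬ)₊ ≤ ((𝒜)₊).map f') : Proj.map f hf = Proj.map f' hf' := by
  subst e; rfl

end Graded

section Rel
variable {Y PA PB : Scheme.{u}} {𝒜 ℬ : RelProj.QCGrAlg Y}
    (φ : 𝒜.toQCAlg ⟶ ℬ.toQCAlg) (hφ : RelProj.IsGradedHom φ)
    (hirr : ∀ (U : Y.Opens) (hU : IsAffineOpen U),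
      (ℬ.deg U hU)₊ ≤ ((𝒜.deg U hU)₊).map (RelProj.gradedHomAt φ hφ U hU))
    (pA : PA ⟶ Y) (pB : PB ⟶ Y)
    (chartA : ∀ (U : Y.Opens) (hU : IsAffineOpen U),
      (((pA ⁻¹ᵁ U : PA.Opens) : Scheme.{u}) ≅ Proj (𝒜.deg U hU)))
    (chartB : ∀ (U : Y.Opens) (hU : IsAffineOpen U),
      (((pB ⁻¹ᵁ U : PB.Opens) : Scheme.{u}) ≅ Proj (ℬ.deg U hU)))

/-- the local pieces of the induced morphism -/
noncomputable def hloc (U : Y.Opens) (hU : IsAffineOpen U) :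
    ((pB ⁻¹ᵁ U : PB.Opens) : Scheme.{u}) ⟶ PA :=
  (chartB U hU).hom ≫ Proj.map (RelProj.gradedHomAt φ hφ U hU) (hirr U hU) ≫
    (chartA U hU).inv ≫ (pA ⁻¹ᵁ U).ι

include hφ hirr in
theorem hloc_basic (hA : RelProj.IsRelProj 𝒜 pA chartA) (hB : RelProj.IsRelProj ℬ pB chartB)
    (U : Y.Opens) (hU : IsAffineOpen U) (r : Γ(Y, U)) :
    PB.homOfLE (pB.preimage_mono (Y.basicOpen_le r)) ≫ hloc φ hφ hirr pA pB chartA chartB U hU =
      hloc φ hφ hirr pA pB chartA chartB (Y.basicOpen r) (hU.basicOpen r) := by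
  unfold hloc
  have hnat : (ℬ.res hU (hU.basicOpen r) (Y.basicOpen_le r)).comp
      (RelProj.gradedHomAt φ hφ U hU) =
      (RelProj.gradedHomAt φ hφ (Y.basicOpen r) (hU.basicOpen r)).comp
        (𝒜.res hU (hU.basicOpen r) (Y.basicOpen_le r)) := by
    ext x
    exact congr($(φ.hom.naturality (homOfLE (Y.basicOpen_le r)).op) x).symm
  have h1 : Proj.map (ℬ.res hU (hU.basicOpen r) (Y.basicOpen_le r)) (ℬ.irrelevant_le_map U hU r) ≫
      Proj.map (RelProj.gradedHomAt φ hφ U hU) (hirr U hU) =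
      Proj.map (RelProj.gradedHomAt φ hφ (Y.basicOpen r) (hU.basicOpen r))
        (hirr (Y.basicOpen r) (hU.basicOpen r)) ≫
      Proj.map (𝒜.res hU (hU.basicOpen r) (Y.basicOpen_le r)) (𝒜.irrelevant_le_map U hU r) := by
    rw [← Proj.map_comp, ← Proj.map_comp]
    exact map_congr hnat _ _
  have h2 : Proj.map (𝒜.res hU (hU.basicOpen r) (Y.basicOpen_le r)) (𝒜.irrelevant_le_map U hU r) ≫
      (chartA U hU).inv ≫ (pA ⁻¹ᵁ U).ι =
      (chartA (Y.basicOpen r) (hU.basicOpen r)).inv ≫ (pA ⁻¹ᵁ (Y.basicOpen r)).ι := by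
    have h3 := hA.chart_res U hU r
    rw [← Iso.inv_comp_eq] at h3
    rw [← h3]
    simp
  rw [reassoc_of% hB.chart_res U hU r, reassoc_of% h1, h2]

include hφ hirr in
theorem existsUnique_map (hA : RelProj.IsRelProj 𝒜 pA chartA)
    (hB : RelProj.IsRelProj ℬ pB chartB) :
    (∃! h : PB ⟶ PA, RelProj.IsRelProjMap φ hφ hirr chartA chartB h) ∧
      ∀ h : PB ⟶ PA, RelProj.IsRelProjMap φ hφ hirr chartA chartB h → h ≫ pA = pB := by
  refine ⟨?_, fun h hh => RelProjMap.comp_eq φ hφ hirr pA pB chartA chartB hA hB h hh⟩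
  exact RelProjGlue.exists_glue pB (hloc φ hφ hirr pA pB chartA chartB)
    (hloc_basic φ hφ hirr pA pB chartA chartB hA hB)

end Rel

section Uniq
variable {Y P P' : Scheme.{u}} (𝒮 : RelProj.QCGrAlg Y) (p : P ⟶ Y)
    (chart : ∀ (U : Y.Opens) (hU : IsAffineOpen U),
      (((p ⁻¹ᵁ U : P.Opens) : Scheme.{u}) ≅ Proj (𝒮.deg U hU)))
    (p' : P' ⟶ Y)
    (chart' : ∀ (U : Y.Opens) (hU : IsAffineOpen U),
      (((p' ⁻¹ᵁ U : P'.Opens) : Scheme.{u}) ≅ Proj (𝒮.deg U hU)))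

/-- the local pieces of the comparison morphism -/
noncomputable def eloc (U : Y.Opens) (hU : IsAffineOpen U) :
    ((p ⁻¹ᵁ U : P.Opens) : Scheme.{u}) ⟶ P' :=
  (chart U hU).hom ≫ (chart' U hU).inv ≫ (p' ⁻¹ᵁ U).ι

theorem eloc_basic (hP : RelProj.IsRelProj 𝒮 p chart) (hP' : RelProj.IsRelProj 𝒮 p' chart')
    (U : Y.Opens) (hU : IsAffineOpen U) (r : Γ(Y, U)) :
    P.homOfLE (p.preimage_mono (Y.basicOpen_le r)) ≫ eloc 𝒮 p chart p' chart' U hU =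
      eloc 𝒮 p chart p' chart' (Y.basicOpen r) (hU.basicOpen r) := by
  unfold eloc
  have h2 : Proj.map (𝒮.res hU (hU.basicOpen r) (Y.basicOpen_le r)) (𝒮.irrelevant_le_map U hU r) ≫
      (chart' U hU).inv ≫ (p' ⁻¹ᵁ U).ι =
      (chart' (Y.basicOpen r) (hU.basicOpen r)).inv ≫ (p' ⁻¹ᵁ (Y.basicOpen r)).ι := by
    have h3 := hP'.chart_res U hU r
    rw [← Iso.inv_comp_eq] at h3
    rw [← h3]
    simp
  rw [reassoc_of% hP.chart_res U hU r, h2]

theorem existsUnique_comparison (hP : RelProj.IsRelProj 𝒮 p chart)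
    (hP' : RelProj.IsRelProj 𝒮 p' chart') :
    ∃! e : P ⟶ P', ∀ (U : Y.Opens) (hU : IsAffineOpen U),
        (p ⁻¹ᵁ U).ι ≫ e = (chart U hU).hom ≫ (chart' U hU).inv ≫ (p' ⁻¹ᵁ U).ι :=
  RelProjGlue.exists_glue p (eloc 𝒮 p chart p' chart') (eloc_basic 𝒮 p chart p' chart' hP hP')

theorem comparison_comp (hP : RelProj.IsRelProj 𝒮 p chart)
    (hP' : RelProj.IsRelProj 𝒮 p' chart') (e : P ⟶ P')
    (he : ∀ (U : Y.Opens) (hU : IsAffineOpen U),
        (p ⁻¹ᵁ U).ι ≫ e = (chart U hU).hom ≫ (chart' U hU).inv ≫ (p' ⁻¹ᵁ U).ι) :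
    e ≫ p' = p := by
  refine RelProjGlue.hom_ext p fun U hU => ?_
  rw [← Category.assoc, he U hU]
  simp only [Category.assoc]
  rw [← hP'.chart_over U hU, Iso.inv_hom_id_assoc, hP.chart_over U hU]

theorem comparison_isIso (hP : RelProj.IsRelProj 𝒮 p chart)
    (hP' : RelProj.IsRelProj 𝒮 p' chart') (e : P ⟶ P')
    (he : ∀ (U : Y.Opens) (hU : IsAffineOpen U),
        (p ⁻¹ᵁ U).ι ≫ e = (chart U hU).hom ≫ (chart' U hU).inv ≫ (p' ⁻¹ᵁ U).ι) :
    IsIso e := by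
  obtain ⟨e', he', -⟩ := existsUnique_comparison 𝒮 p' chart' p chart hP' hP
  refine ⟨e', ?_, ?_⟩
  · refine RelProjGlue.hom_ext p fun U hU => ?_
    rw [← Category.assoc, he U hU]
    simp only [Category.assoc]
    rw [he' U hU]
    simp
  · refine RelProjGlue.hom_ext p' fun U hU => ?_
    rw [← Category.assoc, he' U hU]
    simp only [Category.assoc]
    rw [he U hU]
    simp

theorem unique_upTo_iso (hP : RelProj.IsRelProj 𝒮 p chart)
    (hP' : RelProj.IsRelProj 𝒮 p' chart') :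
    (∃! e : P ⟶ P', ∀ (U : Y.Opens) (hU : IsAffineOpen U),
        (p ⁻¹ᵁ U).ι ≫ e = (chart U hU).hom ≫ (chart' U hU).inv ≫ (p' ⁻¹ᵁ U).ι) ∧
      ∀ e : P ⟶ P', (∀ (U : Y.Opens) (hU : IsAffineOpen U),
        (p ⁻¹ᵁ U).ι ≫ e = (chart U hU).hom ≫ (chart' U hU).inv ≫ (p' ⁻¹ᵁ U).ι) →
        IsIso e ∧ e ≫ p' = p :=
  ⟨existsUnique_comparison 𝒮 p chart p' chart' hP hP', fun e he =>
    ⟨comparison_isIso 𝒮 p chart p' chart' hP hP' e he,
      comparison_comp 𝒮 p chart p' chart' hP hP' e he⟩⟩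

end Uniq

end Groth.Agent.Helper1.RelProjGlue2
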