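import Mathlib
import Groth.Prelude.Def_RelProj4
import Groth.Agent.Lib.Helper1.RelClosed
import Groth.Agent.Lib.Helper1.RelProjGlue2
import Groth.Agent.Lib.Helper1.RelProjCI
import Groth.Agent.Lib.Helper1.ProjQ8
import Groth.Agent.Lib.Helper1.RP2

/-!
# Closed subschemes of a relative `Proj` are relative `Proj`'s of graded quotients
-/

open AlgebraicGeometry CategoryTheory HomogeneousLocalization DirectSum Opposite TopologicalSpace
open scoped HomogeneousIdeal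

universe u

namespace Groth.Agent.Helper1.RelClosed

open Groth.Agent.Helper1

section Map
variable {Y PA PB : Scheme.{u}} {𝒜 ℬ : RelProj.QCGrAlg Y}
    (φ : 𝒜.toQCAlg ⟶ ℬ.toQCAlg) (hφ : RelProj.IsGradedHom φ)
    (hirr : ∀ (U : Y.Opens) (hU : IsAffineOpen U),
      (ℬ.deg U hU)₊ ≤ ((𝒜.deg U hU)₊).map (RelProj.gradedHomAt φ hφ U hU))
    (pA : PA ⟶ Y) (pB : PB ⟶ Y)
    (chartA : ∀ (U : Y.Opens) (hU : IsAffineOpen U),
      (((pA ⁻¹ᵁ U : PA.Opens) : Scheme.{u}) ≅ Proj (𝒜.deg U hU)))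
    (chartB : ∀ (U : Y.Opens) (hU : IsAffineOpen U),
      (((pB ⁻¹ᵁ U : PB.Opens) : Scheme.{u}) ≅ Proj (ℬ.deg U hU)))

theorem emb_comp (h : PB ⟶ PA) (hh : RelProj.IsRelProjMap φ hφ hirr chartA chartB h)
    (U : Y.Opens) (hU : IsAffineOpen U) :
    RelProj.emb pB chartB U hU ≫ h =
      Proj.map (RelProj.gradedHomAt φ hφ U hU) (hirr U hU) ≫ RelProj.emb pA chartA U hU := by
  unfold RelProj.emb
  rw [Category.assoc, hh U hU, Iso.inv_hom_id_assoc]

include hφ in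
/-- graded surjections: homogeneous preimages -/
theorem exists_homog_preimage
    (hsurj : ∀ (U : Y.Opens), IsAffineOpen U → Function.Surjective (φ.hom.app (op U)).hom)
    (U : Y.Opens) (hU : IsAffineOpen U) (k : ℕ) (y : ℬ.presheaf.obj (op U))
    (hy : y ∈ ℬ.deg U hU k) : ∃ x ∈ 𝒜.deg U hU k, (φ.hom.app (op U)).hom x = y := by
  classical
  obtain ⟨x, rfl⟩ := hsurj U hU y
  refine ⟨(DirectSum.decompose (𝒜.deg U hU) x k : 𝒜.presheaf.obj (op U)), SetLike.coe_mem _, ?_⟩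
  have := (RelProj.gradedHomAt φ hφ U hU).map_directSumDecompose (x := x) (i := k)
  refine this.trans ?_
  exact DirectSum.decompose_of_mem_same _ hy

include hirr in
theorem isProjQMap_of_isRelProjMap
    (hsurj : ∀ (U : Y.Opens), IsAffineOpen U → Function.Surjective (φ.hom.app (op U)).hom)
    (hA : RelProj.IsRelProj 𝒜 pA chartA) (hB : RelProj.IsRelProj ℬ pB chartB)
    (h : PB ⟶ PA) (hh : RelProj.IsRelProjMap φ hφ hirr chartA chartB h) :
    RelProj.IsProjQMap (RelProj.QGrHom.ofHom φ hφ) pA chartA pB chartB h := by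
  have htop : RelProj.domQ (RelProj.QGrHom.ofHom φ hφ) pB chartB = ⊤ :=
    ProjQ.domQ_eq_top_of_tn φ hφ pB chartB
      ⟨0, fun k _ U hU y hy => exists_homog_preimage φ hφ hsurj U hU k y hy⟩
  have hcp : ProjQ.CP φ hφ pA chartA pB chartB
      (RelProj.domQ (RelProj.QGrHom.ofHom φ hφ) pB chartB)
      ((RelProj.domQ (RelProj.QGrHom.ofHom φ hφ) pB chartB).ι ≫ h) := by
    intro U hU d hd f hf g hg
    rw [← Category.assoc, hg, Category.assoc, emb_comp φ hφ hirr pA pB chartA chartB h hh U hU,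
      Proj.awayι_comp_map_assoc (RelProj.gradedHomAt φ hφ U hU) (hirr U hU) hd f hf]
  have hOn := ProjQ.isProjQMapOn_of_cp φ hφ pA chartA pB chartB hA hB _ rfl _ hcp
  refine ⟨htop, fun U hU U' hU' hle d hd f hf => ?_⟩
  have := hOn U hU U' hU' hle d hd f hf
    (RelProj.range_awayEmb_subset_domQ _ pB chartB U hU U' hU' hle hd f hf)
  rw [IsOpenImmersion.lift_fac_assoc] at this
  exact this

end Map

section Main
variable {S P Z : Scheme.{u}} (𝒜 : RelProj.QCGrAlg S) (p : P ⟶ S)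
  (chart : ∀ (U : S.Opens) (hU : IsAffineOpen U),
    (((p ⁻¹ᵁ U : P.Opens) : Scheme.{u}) ≅ Proj (𝒜.deg U hU)))
  (hP : RelProj.IsRelProj 𝒜 p chart) [QuasiCompact p] (i : Z ⟶ P) [IsClosedImmersion i]

include hP in
/-- **closed subschemes of a quasi-compact relative `Proj` are relative `Proj`'s of graded
quotients** -/
theorem main :
    ∃ (ℬ : RelProj.QCGrAlg S) (φ : 𝒜.toQCAlg ⟶ ℬ.toQCAlg) (hφ : RelProj.IsGradedHom φ)
      (PB : Scheme.{u}) (pB : PB ⟶ S)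
      (chartB : ∀ (U : S.Opens) (hU : IsAffineOpen U),
        (((pB ⁻¹ᵁ U : PB.Opens) : Scheme.{u}) ≅ Proj (ℬ.deg U hU)))
      (h : PB ⟶ P) (e : PB ≅ Z),
      (∀ (U : S.Opens), IsAffineOpen U → Function.Surjective (φ.hom.app (op U)).hom) ∧
        RelProj.IsRelProj ℬ pB chartB ∧
        RelProj.IsProjQMap (RelProj.QGrHom.ofHom φ hφ) p chart pB chartB h ∧
        e.hom ≫ i = h ∧ h ≫ p = pB := by
  obtain ⟨ℬ, φ, hφ, hsurj, hker⟩ := QuotAlg.exists_quot (idealFam 𝒜 p chart i hP)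
  obtain ⟨PB, pB, chartB, hPB⟩ := RP2.exists_isRelProj ℬ
  have hirr : ∀ (U : S.Opens) (hU : IsAffineOpen U),
      (ℬ.deg U hU)₊ ≤ ((𝒜.deg U hU)₊).map (RelProj.gradedHomAt φ hφ U hU) := fun U hU =>
    ProjClosed.irrelevant_le_map_of_surjective (𝒜.deg U hU) (ℬ.deg U hU)
      (RelProj.gradedHomAt φ hφ U hU) (hsurj U hU)
  obtain ⟨⟨h, hh, -⟩, hcomp⟩ := RelProjGlue2.existsUnique_map φ hφ hirr p pB chart chartB hP hPB
  have hpq := isProjQMap_of_isRelProjMap φ hφ hirr p pB chart chartB hsurj hP hPB h hh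
  have hci : IsClosedImmersion h :=
    RelProjCI.isClosedImmersion' φ hφ hirr p pB chart chartB
      (fun U hU n _ b hb => by
        obtain ⟨a, -, ha⟩ := exists_homog_preimage φ hφ hsurj U hU n b hb
        exact ⟨a, ha⟩) hP hPB h hh
  have hloc : ∀ (U : S.Opens) (hU : IsAffineOpen U),
      ∃ eU : ((i ⁻¹ᵁ (p ⁻¹ᵁ U) : Z.Opens) : Scheme.{u}) ≅ Proj (ℬ.deg U hU),
        eU.hom ≫ Proj.map (RelProj.gradedHomAt φ hφ U hU) (hirr U hU) = iU 𝒜 p chart i U hU := by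
    intro U hU
    have := compactSpace_proj 𝒜 p chart hP U hU
    obtain ⟨_, eU, heU⟩ := ProjClosedJ.main (𝒜.deg U hU) (iU 𝒜 p chart i U hU) (ℬ.deg U hU)
      (RelProj.gradedHomAt φ hφ U hU) (hsurj U hU) (hker U hU)
    exact ⟨eU, heU⟩
  choose eU heU using hloc
  -- the local pieces of `PB ⟶ Z`
  have haU : ∀ (U : S.Opens) (hU : IsAffineOpen U),
      ((chartB U hU).hom ≫ (eU U hU).inv ≫ (i ⁻¹ᵁ (p ⁻¹ᵁ U)).ι) ≫ i = (pB ⁻¹ᵁ U).ι ≫ h := by
    intro U hU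
    simp only [Category.assoc]
    rw [← iU_emb 𝒜 p chart i U hU, ← heU U hU]
    simp only [Category.assoc]
    rw [Iso.inv_hom_id_assoc, ← emb_comp φ hφ hirr p pB chart chartB h hh U hU]
    unfold RelProj.emb
    rw [Category.assoc, Iso.hom_inv_id_assoc]
  obtain ⟨ℓ, hℓ, -⟩ := RelProjGlue.exists_glue pB
    (fun U hU => (chartB U hU).hom ≫ (eU U hU).inv ≫ (i ⁻¹ᵁ (p ⁻¹ᵁ U)).ι) (by
      intro U hU r
      rw [← cancel_mono i, Category.assoc, haU U hU, haU _ (hU.basicOpen r),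
        Scheme.homOfLE_ι_assoc])
  have hℓi : ℓ ≫ i = h := RelProjGlue.hom_ext pB fun U hU => by
    rw [← Category.assoc, hℓ U hU, haU U hU]
  -- the local pieces of `Z ⟶ PB`
  have hbU' : ∀ (U : S.Opens) (hU : IsAffineOpen U),
      ((eU U hU).hom ≫ RelProj.emb pB chartB U hU) ≫ h = (i ⁻¹ᵁ (p ⁻¹ᵁ U)).ι ≫ i := by
    intro U hU
    rw [Category.assoc, emb_comp φ hφ hirr p pB chart chartB h hh U hU, ← Category.assoc,
      heU U hU, iU_emb]
  let bU : ∀ (U : S.Opens) (_ : IsAffineOpen U), (((i ≫ p) ⁻¹ᵁ U : Z.Opens) : Scheme.{u}) ⟶ PB :=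
    fun U hU => (eU U hU).hom ≫ RelProj.emb pB chartB U hU
  have hbU : ∀ (U : S.Opens) (hU : IsAffineOpen U),
      bU U hU ≫ h = ((i ≫ p) ⁻¹ᵁ U).ι ≫ i := fun U hU => hbU' U hU
  obtain ⟨ℓ', hℓ', -⟩ := RelProjGlue.exists_glue (i ≫ p) bU (by
      intro U hU r
      rw [← cancel_mono h, Category.assoc, hbU U hU, hbU _ (hU.basicOpen r),
        Scheme.homOfLE_ι_assoc])
  have hℓ'h : ℓ' ≫ h = i := RelProjGlue.hom_ext (i ≫ p) fun U hU => by
    rw [← Category.assoc, hℓ' U hU, hbU U hU]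
  refine ⟨ℬ, φ, hφ, PB, pB, chartB, h, ⟨ℓ, ℓ', ?_, ?_⟩, hsurj, hPB, hpq, hℓi, hcomp h hh⟩
  · rw [← cancel_mono h, Category.assoc, hℓ'h, hℓi, Category.id_comp]
  · rw [← cancel_mono i, Category.assoc, hℓi, hℓ'h, Category.id_comp]

end Main

end Groth.Agent.Helper1.RelClosed
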