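import Mathlib
import Groth.Prelude.Def_RelProj
import Groth.Agent.Lib.Helper1.RelProjLoc

/-!
# Relative Proj of an algebra generated in degree one is of finite type (helper1 library)
-/

open CategoryTheory CategoryTheory.Limits AlgebraicGeometry Opposite TopologicalSpace
open HomogeneousLocalization
open scoped HomogeneousIdeal

universe u

namespace Groth.Agent.Helper1.RelProjFT

section Dehom
variable {σ A : Type*} [CommRing A] [SetLike σ A] [AddSubgroupClass σ A] (𝒜 : ℕ → σ)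
  [GradedRing 𝒜]

/-- the maps `𝒜 n → A_(t)`, `a ↦ a / t ^ n` -/
noncomputable def dehomAux {t : A} (ht : t ∈ 𝒜 1) (n : ℕ) : 𝒜 n →+ Away 𝒜 t where
  toFun a := Away.mk 𝒜 ht n a.1 (by simpa using a.2)
  map_zero' := by
    apply HomogeneousLocalization.val_injective
    simp [Localization.mk_zero]
  map_add' a b := by
    apply HomogeneousLocalization.val_injective
    simp [Localization.add_mk_self]

/-- dehomogenization `A → A_(t)` for `t` of degree one: `a ↦ Σ aₙ/tⁿ` -/
noncomputable def dehom {t : A} (ht : t ∈ 𝒜 1) : A →+* Away 𝒜 t :=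
  (DirectSum.toSemiring (dehomAux 𝒜 ht)
    (by
      apply HomogeneousLocalization.val_injective
      simp [dehomAux, Localization.mk_one])
    (by
      intro i j ai aj
      apply HomogeneousLocalization.val_injective
      simp [dehomAux, Localization.mk_mul, pow_add])).comp
    (DirectSum.decomposeRingEquiv 𝒜).toRingHom

lemma dehom_of_mem {t : A} (ht : t ∈ 𝒜 1) {n : ℕ} {a : A} (ha : a ∈ 𝒜 n) :
    dehom 𝒜 ht a = Away.mk 𝒜 ht n a (by simpa using ha) := by
  unfold dehom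
  simp only [RingHom.comp_apply, RingEquiv.toRingHom_eq_coe, RingHom.coe_coe]
  have : (DirectSum.decomposeRingEquiv 𝒜) a = DirectSum.decompose 𝒜 a := rfl
  rw [this, DirectSum.decompose_of_mem 𝒜 ha, DirectSum.toSemiring_of]
  rfl

lemma dehom_self {t : A} (ht : t ∈ 𝒜 1) : dehom 𝒜 ht t = 1 := by
  rw [dehom_of_mem 𝒜 ht ht]
  apply HomogeneousLocalization.val_injective
  rw [Away.val_mk, HomogeneousLocalization.val_one]
  convert Localization.mk_self (⟨t ^ 1, 1, rfl⟩ : Submonoid.powers t) using 2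
  simp

lemma dehom_zero {t : A} (ht : t ∈ 𝒜 1) (a : 𝒜 0) :
    dehom 𝒜 ht a = fromZeroRingHom 𝒜 (Submonoid.powers t) a := by
  rw [dehom_of_mem 𝒜 ht a.2]
  apply HomogeneousLocalization.val_injective
  simp [fromZeroRingHom]
  try rfl

lemma dehom_surjective {t : A} (ht : t ∈ 𝒜 1) : Function.Surjective (dehom 𝒜 ht) := by
  intro z
  obtain ⟨n, a, ha, rfl⟩ := Away.mk_surjective 𝒜 ht z
  exact ⟨a, dehom_of_mem 𝒜 ht (by simpa using ha)⟩

theorem away_finiteType {R : Type*} [CommRing R] (φ : R →+* 𝒜 0)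
    (hgen : Subring.closure ((𝒜 0 : Set A) ∪ (𝒜 1 : Set A)) = ⊤)
    (T : Finset A)
    (hspan : ∀ x ∈ 𝒜 1, ∃ c : A → R, x = ∑ t ∈ T, (φ (c t) : A) * t)
    {t : A} (ht : t ∈ 𝒜 1) :
    ((fromZeroRingHom 𝒜 (Submonoid.powers t)).comp φ).FiniteType := by
  classical
  letI : Algebra R (Away 𝒜 t) := ((fromZeroRingHom 𝒜 (Submonoid.powers t)).comp φ).toAlgebra
  have halg : ∀ r : R, algebraMap R (Away 𝒜 t) r = dehom 𝒜 ht (φ r : A) := fun r => by
    rw [dehom_zero]; rfl
  set S : Subalgebra R (Away 𝒜 t) := Algebra.adjoin R ((T.image (dehom 𝒜 ht) : Finset _) : Set _)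
    with hS
  have h1 : ∀ a ∈ 𝒜 1, dehom 𝒜 ht a ∈ S := by
    intro a ha
    obtain ⟨c, hc⟩ := hspan a ha
    rw [hc, map_sum]
    refine Subalgebra.sum_mem _ fun t' ht' => ?_
    rw [map_mul, ← halg]
    refine Subalgebra.mul_mem _ (Subalgebra.algebraMap_mem _ _) (Algebra.subset_adjoin ?_)
    exact Finset.mem_coe.mpr (Finset.mem_image_of_mem _ ht')
  have h0 : ∀ a ∈ 𝒜 0, dehom 𝒜 ht a ∈ S := by
    intro a ha
    have : dehom 𝒜 ht a = dehom 𝒜 ht (a * t) := by
      rw [map_mul, dehom_self, mul_one]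
    rw [this]
    refine h1 _ ?_
    simpa using SetLike.mul_mem_graded ha ht
  have hall : ∀ a : A, dehom 𝒜 ht a ∈ S := by
    intro a
    have ha : a ∈ Subring.closure ((𝒜 0 : Set A) ∪ (𝒜 1 : Set A)) := hgen ▸ Subring.mem_top a
    induction ha using Subring.closure_induction with
    | mem x hx =>
      rcases hx with hx | hx
      · exact h0 x hx
      · exact h1 x hx
    | zero => rw [map_zero]; exact Subalgebra.zero_mem _
    | one => rw [map_one]; exact Subalgebra.one_mem _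
    | add x y _ _ hx hy => rw [map_add]; exact Subalgebra.add_mem _ hx hy
    | neg x _ hx => rw [map_neg]; exact Subalgebra.neg_mem _ hx
    | mul x y _ _ hx hy => rw [map_mul]; exact Subalgebra.mul_mem _ hx hy
  refine ⟨⟨T.image (dehom 𝒜 ht), ?_⟩⟩
  rw [← hS]
  refine eq_top_iff.mpr fun z _ => ?_
  obtain ⟨a, rfl⟩ := dehom_surjective 𝒜 ht z
  exact hall a

/-- the irrelevant ideal is contained in the ideal spanned by `T` -/
theorem irrelevant_le_span {R : Type*} [CommRing R] (φ : R →+* 𝒜 0)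
    (hgen : Subring.closure ((𝒜 0 : Set A) ∪ (𝒜 1 : Set A)) = ⊤)
    (T : Finset A) (hT : (↑T : Set A) ⊆ 𝒜 1)
    (hspan : ∀ x ∈ 𝒜 1, ∃ c : A → R, x = ∑ t ∈ T, (φ (c t) : A) * t) :
    ((𝒜)₊).toIdeal ≤ Ideal.span (T : Set A) := by
  classical
  have hhom : (Ideal.span (T : Set A)).IsHomogeneous 𝒜 :=
    Ideal.homogeneous_span 𝒜 _ fun x hx => ⟨1, hT hx⟩
  have h1 : ∀ a ∈ 𝒜 1, a ∈ Ideal.span (T : Set A) := by
    intro a ha
    obtain ⟨c, hc⟩ := hspan a ha
    rw [hc]
    exact Ideal.sum_mem _ fun t' ht' => Ideal.mul_mem_left _ _ (Ideal.subset_span ht')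
  -- every element is the sum of a degree zero element and an element of the span
  have hall : ∀ a : A, ∃ b ∈ 𝒜 0, a - b ∈ Ideal.span (T : Set A) := by
    intro a
    have ha : a ∈ Subring.closure ((𝒜 0 : Set A) ∪ (𝒜 1 : Set A)) := hgen ▸ Subring.mem_top a
    induction ha using Subring.closure_induction with
    | mem x hx =>
      rcases hx with hx | hx
      · exact ⟨x, hx, by simp⟩
      · exact ⟨0, zero_mem _, by simpa using h1 x hx⟩
    | zero => exact ⟨0, zero_mem _, by simp⟩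
    | one => exact ⟨1, SetLike.GradedOne.one_mem, by simp⟩
    | add x y _ _ hx hy =>
      obtain ⟨b, hb, hxb⟩ := hx
      obtain ⟨b', hb', hyb⟩ := hy
      refine ⟨b + b', add_mem hb hb', ?_⟩
      have : x + y - (b + b') = (x - b) + (y - b') := by ring
      rw [this]; exact add_mem hxb hyb
    | neg x _ hx =>
      obtain ⟨b, hb, hxb⟩ := hx
      refine ⟨-b, neg_mem hb, ?_⟩
      have : -x - -b = -(x - b) := by ring
      rw [this]; exact neg_mem hxb
    | mul x y _ _ hx hy =>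
      obtain ⟨b, hb, hxb⟩ := hx
      obtain ⟨b', hb', hyb⟩ := hy
      refine ⟨b * b', by simpa using SetLike.mul_mem_graded hb hb', ?_⟩
      have : x * y - b * b' = (x - b) * y + b * (y - b') := by ring
      rw [this]
      exact add_mem (Ideal.mul_mem_right _ _ hxb) (Ideal.mul_mem_left _ _ hyb)
  rw [HomogeneousIdeal.toIdeal_irrelevant_le]
  intro i hi x hx
  obtain ⟨b, hb, hxb⟩ := hall x
  have h2 := hhom i hxb
  rw [DirectSum.decompose_sub, DirectSum.sub_apply, AddSubgroupClass.coe_sub,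
    DirectSum.decompose_of_mem_same 𝒜 hx, DirectSum.decompose_of_mem_ne 𝒜 hb hi.ne, sub_zero] at h2
  exact h2

end Dehom

section Univ
variable {σ A : Type u} [CommRing A] [SetLike σ A] [AddSubgroupClass σ A] (𝒜 : ℕ → σ)
  [GradedRing 𝒜]

set_option backward.isDefEq.respectTransparency.types false in
theorem proj_finiteType {R : CommRingCat.{u}} (φ : R ⟶ CommRingCat.of (𝒜 0))
    (hgen : Subring.closure ((𝒜 0 : Set A) ∪ (𝒜 1 : Set A)) = ⊤)
    (T : Finset A) (hT : (↑T : Set A) ⊆ 𝒜 1)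
    (hspan : ∀ x ∈ 𝒜 1, ∃ c : A → R, x = ∑ t ∈ T, (φ.hom (c t) : A) * t) :
    LocallyOfFiniteType (Proj.toSpecZero 𝒜 ≫ Spec.map φ) ∧
      QuasiCompact (Proj.toSpecZero 𝒜 ≫ Spec.map φ) := by
  have hle : ((𝒜)₊).toIdeal ≤ Ideal.span (Set.range fun t : T => (t.1 : A)) := by
    have := irrelevant_le_span 𝒜 φ.hom hgen T hT hspan
    convert this
    ext x; simp
  let 𝒰 := Proj.affineOpenCoverOfIrrelevantLESpan 𝒜 (fun t : T => (t.1 : A)) (m := fun _ => 1)
    (fun t => hT t.2) (fun _ => one_pos) hle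
  constructor
  · refine IsZariskiLocalAtSource.of_openCover (P := @LocallyOfFiniteType) 𝒰.openCover ?_
    rintro (t : T)
    have : 𝒰.openCover.f t ≫ Proj.toSpecZero 𝒜 ≫ Spec.map φ =
        Spec.map (φ ≫ CommRingCat.ofHom (fromZeroRingHom 𝒜 (Submonoid.powers (t.1 : A)))) := by
      rw [Spec.map_comp, ← Proj.awayι_toSpecZero 𝒜 _ (hT t.2) one_pos, Category.assoc]
      rfl
    rw [this]
    refine (HasRingHomProperty.Spec_iff (P := @LocallyOfFiniteType)).mpr ?_
    exact away_finiteType 𝒜 φ.hom hgen T hspan (hT t.2)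
  · have : Finite 𝒰.openCover.I₀ := inferInstanceAs (Finite T)
    have : CompactSpace (Proj 𝒜) := 𝒰.openCover.compactSpace
    exact (HasAffineProperty.iff_of_isAffine (P := @QuasiCompact)).mpr this

end Univ

section Rel
variable {Y P : Scheme.{u}} (𝒮 : RelProj.QCGrAlg Y) (p : P ⟶ Y)
  (chart : ∀ (U : Y.Opens) (hU : IsAffineOpen U),
    (((p ⁻¹ᵁ U : P.Opens) : Scheme.{u}) ≅ Proj (𝒮.deg U hU)))

set_option backward.isDefEq.respectTransparency.types false in
theorem finiteType_of_genDegOne (hgen : 𝒮.IsGenDegOne) (hft : 𝒮.IsFTDeg 1)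
    (hP : RelProj.IsRelProj 𝒮 p chart) : LocallyOfFiniteType p ∧ QuasiCompact p := by
  have key : ∀ U : Y.affineOpens, LocallyOfFiniteType (p ∣_ U.1) ∧ QuasiCompact (p ∣_ U.1) := by
    intro U
    have hU : IsAffineOpen U.1 := U.2
    obtain ⟨T, hT, hspan⟩ := hft U.1 hU
    obtain ⟨h1, h2⟩ := proj_finiteType (𝒮.deg U.1 hU) (𝒮.strZero U.1 hU) (hgen U.1 hU) T hT
      (fun x hx => hspan x hx)
    rw [RelProjLoc.restrict_eq 𝒮 p chart hP U.1 hU]
    have e : (chart U.1 hU).hom ≫ Proj.toSpecZero (𝒮.deg U.1 hU) ≫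
        Spec.map (𝒮.strZero U.1 hU) ≫ hU.isoSpec.inv =
        (chart U.1 hU).hom ≫ (Proj.toSpecZero (𝒮.deg U.1 hU) ≫
        Spec.map (𝒮.strZero U.1 hU)) ≫ hU.isoSpec.inv := by
      simp only [Category.assoc]
    rw [e]
    exact ⟨inferInstance, inferInstance⟩
  exact ⟨IsZariskiLocalAtTarget.of_iSup_eq_top (P := @LocallyOfFiniteType)
      (fun U : Y.affineOpens => U.1) (iSup_affineOpens_eq_top Y) fun U => (key U).1,
    IsZariskiLocalAtTarget.of_iSup_eq_top (P := @QuasiCompact)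
      (fun U : Y.affineOpens => U.1) (iSup_affineOpens_eq_top Y) fun U => (key U).2⟩

end Rel

end Groth.Agent.Helper1.RelProjFT
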