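import Mathlib
import Groth.Agent.Lib.Helper1.DegPiece
import Groth.Agent.Lib.Helper1.RelClosed2
import Groth.Agent.Lib.Helper1.SymFacts
import Groth.Agent.Lib.Helper1.RelProjFT
import Groth.Agent.Lib.Helper1.FinPush

set_option autoImplicit false
universe u

open CategoryTheory CategoryTheory.Limits AlgebraicGeometry TopologicalSpace Opposite
open scoped HomogeneousIdeal

/-!
# Projective morphisms are the closed subschemes of projective bundles of finite type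
-/

namespace Groth.Agent.Helper1.ProjChar

open Groth.Agent.Helper1 Groth.Agent.Helper1.SymAlg Groth.Agent.Helper1.QcCech

set_option synthInstance.maxHeartbeats 400000

theorem exists_coeff {α R B : Type*} [CommRing R] [CommRing B] [DecidableEq B] (ρ : R →+* B)
    (T : Finset α) (F : α → B) (c : α → R) :
    ∃ c' : B → R, ∑ t ∈ T, ρ (c t) * F t = ∑ t' ∈ T.image F, ρ (c' t') * t' := by
  classical
  refine ⟨fun t' => ∑ t ∈ T.filter (fun t => F t = t'), c t, ?_⟩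
  rw [Finset.sum_image']
  intro t ht
  rw [map_sum, Finset.sum_mul]
  refine Finset.sum_congr rfl fun t₂ ht₂ => ?_
  rw [(Finset.mem_filter.1 ht₂).2]

section Quot
variable {S : Scheme.{u}} {𝒜 ℬ : RelProj.QCGrAlg S} (φ : 𝒜.toQCAlg ⟶ ℬ.toQCAlg)
  (hφ : RelProj.IsGradedHom φ)
  (hsurj : ∀ (U : S.Opens), IsAffineOpen U → Function.Surjective (φ.hom.app (op U)).hom)

include hφ hsurj in
theorem isGenDegOne_of_surj (h : 𝒜.IsGenDegOne) : ℬ.IsGenDegOne := by
  intro U hU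
  rw [eq_top_iff]
  rintro y -
  obtain ⟨x, rfl⟩ := hsurj U hU y
  have hx : x ∈ Subring.closure ((𝒜.deg U hU 0 : Set (𝒜.presheaf.obj (op U))) ∪
      (𝒜.deg U hU 1 : Set _)) := by rw [h U hU]; trivial
  induction hx using Subring.closure_induction with
  | mem x hx =>
    apply Subring.subset_closure
    rcases hx with hx | hx
    · left; exact hφ U hU 0 x hx
    · right; exact hφ U hU 1 x hx
  | zero => rw [map_zero]; exact Subring.zero_mem _
  | one => rw [map_one]; exact Subring.one_mem _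
  | add a b _ _ ha hb => rw [map_add]; exact Subring.add_mem _ ha hb
  | neg a _ ha => rw [map_neg]; exact Subring.neg_mem _ ha
  | mul a b _ _ ha hb => rw [map_mul]; exact Subring.mul_mem _ ha hb

include hφ hsurj in
theorem isFTDeg_of_surj (d : ℕ) (h : 𝒜.IsFTDeg d) : ℬ.IsFTDeg d := by
  classical
  intro U hU
  obtain ⟨T, hT, hspan⟩ := h U hU
  refine ⟨T.image (φ.hom.app (op U)).hom, ?_, ?_⟩
  · intro y hy
    obtain ⟨t, ht, rfl⟩ := Finset.mem_image.1 (Finset.mem_coe.1 hy)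
    exact hφ U hU d t (hT ht)
  · intro y hy
    obtain ⟨x, hx, rfl⟩ := RelClosed.exists_homog_preimage φ hφ hsurj U hU d y hy
    obtain ⟨c, hc⟩ := hspan x hx
    refine ⟨fun t' => ∑ t ∈ T.filter (fun t => (φ.hom.app (op U)).hom t = t'), c t, ?_⟩
    have hstr : ∀ r : Γ(S, U), (φ.hom.app (op U)).hom ((𝒜.str.app (op U)).hom r) =
        (ℬ.str.app (op U)).hom r := by
      intro r
      have := congrArg (fun ψ => (ψ.app (op U)).hom r) φ.comm
      exact this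
    rw [hc, map_sum]
    simp only [map_mul, hstr]
    rw [Finset.sum_image']
    intro t ht
    rw [map_sum, Finset.sum_mul]
    refine Finset.sum_congr rfl fun t₂ ht₂ => ?_
    rw [(Finset.mem_filter.1 ht₂).2]

end Quot

section Sym
variable {S : Scheme.{u}} {E : S.Modules} {𝒯 : RelProj.QCGrAlg S} {j : E ⟶ 𝒯.toModule}

theorem isFTDeg_one_of_isGrSymAlg (hEq : Coh.IsQCoh E) (hEft : CohB1.IsFT E)
    (hj : RelProj.IsGrSymAlg E 𝒯 j) : 𝒯.IsFTDeg 1 := by
  classical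
  have : E.IsQuasicoherent := hEq
  intro U hU
  have hfin : Module.Finite Γ(S, U) Γ(E, U) := FinPush.finite_sections E ⟨hEq, hEft⟩ hU
  obtain ⟨G, hG⟩ := hfin.fg_top
  refine ⟨G.image (fun e => (show 𝒯.presheaf.obj (op U) from j.app U e)), ?_, ?_⟩
  · intro y hy
    obtain ⟨e, -, rfl⟩ := Finset.mem_image.1 (Finset.mem_coe.1 hy)
    exact hj.2 U hU e
  · intro y hy
    obtain ⟨e, rfl⟩ := exists_eq_j_of_mem_deg_one hj U hU y hy
    have he : e ∈ Submodule.span Γ(S, U) (G : Set Γ(E, U)) := by rw [hG]; trivial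
    obtain ⟨c, -, hc⟩ := (Submodule.mem_span_finset.1 he)
    obtain ⟨c', hc'⟩ := exists_coeff (𝒯.str.app (op U)).hom G
      (fun e => (show 𝒯.presheaf.obj (op U) from j.app U e)) c
    refine ⟨c', ?_⟩
    rw [← hc', ← hc, map_sum]
    refine Finset.sum_congr rfl fun g _ => ?_
    rw [Scheme.Modules.Hom.app_smul]
    rfl

end Sym

section Main
variable {X Y : Scheme.{u}} (f : X ⟶ Y)

/-- closed subschemes of projective bundles of finite type are projective -/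
theorem isProjective_of_closedImmersion (E : Y.Modules) (𝒯 : RelProj.QCGrAlg Y)
    (j : E ⟶ 𝒯.toModule) {P : Scheme.{u}} (p : P ⟶ Y)
    (chart : ∀ (U : Y.Opens) (hU : IsAffineOpen U),
      ((p ⁻¹ᵁ U : P.Opens) : Scheme.{u}) ≅ Proj (𝒯.deg U hU))
    (i : X ⟶ P) (hEq : Coh.IsQCoh E) (hEft : CohB1.IsFT E) (hj : RelProj.IsGrSymAlg E 𝒯 j)
    (hP : RelProj.IsRelProj 𝒯 p chart) [IsClosedImmersion i] (hi : i ≫ p = f) :
    RelProj.IsProjective f := by
  have : E.IsQuasicoherent := hEq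
  have hgenT : 𝒯.IsGenDegOne := isGenDegOne_of_isGrSymAlg hj
  have hftT : 𝒯.IsFTDeg 1 := isFTDeg_one_of_isGrSymAlg hEq hEft hj
  have : QuasiCompact p := (RelProjFT.finiteType_of_genDegOne 𝒯 p chart hgenT hftT hP).2
  obtain ⟨ℬ, φ, hφ, PB, pB, chartB, h, e, hsurj, hPB, -, he, hhp⟩ :=
    RelClosed.main 𝒯 p chart hP i
  refine ⟨ℬ, PB, pB, chartB, e.symm, isGenDegOne_of_surj φ hφ hsurj hgenT,
    isFTDeg_of_surj φ hφ hsurj 1 hftT, hPB, ?_⟩
  rw [Iso.symm_hom, ← hhp, ← he, Category.assoc, Iso.inv_hom_id_assoc, hi]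

/-- the closed immersion into the projective bundle of a module surjecting onto the degree-one
part -/
theorem exists_closedImmersion_aux (𝒮 : RelProj.QCGrAlg Y) (hgen : 𝒮.IsGenDegOne)
    (E : Y.Modules) [E.IsQuasicoherent] (u : E ⟶ 𝒮.toModule)
    (hu1 : ∀ (U : Y.Opens) (hU : IsAffineOpen U) (x : Γ(E, U)), (u.app U) x ∈ 𝒮.deg U hU 1)
    (husurj : ∀ (U : Y.Opens) (hU : IsAffineOpen U) (s : 𝒮.presheaf.obj (op U)),
      s ∈ 𝒮.deg U hU 1 → ∃ x : Γ(E, U), (u.app U) x = s)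
    {PS : Scheme.{u}} (pS : PS ⟶ Y)
    (chartS : ∀ (U : Y.Opens) (hU : IsAffineOpen U),
      ((pS ⁻¹ᵁ U : PS.Opens) : Scheme.{u}) ≅ Proj (𝒮.deg U hU))
    (hPS : RelProj.IsRelProj 𝒮 pS chartS) :
    ∃ (PT : Scheme.{u}) (pT : PT ⟶ Y)
      (chartT : ∀ (U : Y.Opens) (hU : IsAffineOpen U),
        ((pT ⁻¹ᵁ U : PT.Opens) : Scheme.{u}) ≅ Proj ((symGr E).deg U hU))
      (h : PS ⟶ PT), RelProj.IsRelProj (symGr E) pT chartT ∧ IsClosedImmersion h ∧
        h ≫ pT = pS := by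
  have hubar := isGradedHom_lift E 𝒮 u hu1
  have hirr := hirr_lift E 𝒮 u hu1 hgen husurj
  obtain ⟨PT, pT, chartT, hPT⟩ := RP2.exists_isRelProj (symGr E)
  obtain ⟨⟨h, hh, -⟩, hcomp⟩ := RelProjGlue2.existsUnique_map (𝒜 := symGr E) (ℬ := 𝒮)
    (lift E 𝒮.toQCAlg u) hubar hirr pT pS chartT chartS hPT hPS
  have hci : IsClosedImmersion h :=
    RelProjCI.isClosedImmersion_into_projBundle 𝒮 (symGr E) hgen E u husurj (jGr E)
      (lift E 𝒮.toQCAlg u) hubar (j_lift E 𝒮.toQCAlg u) hirr pT pS chartT chartS hPT hPS h hh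
  exact ⟨PT, pT, chartT, h, hPT, hci, hcomp h hh⟩

/-- projective morphisms are closed subschemes of projective bundles of finite type -/
theorem exists_closedImmersion_of_isProjective (hf : RelProj.IsProjective f) :
    ∃ (E : Y.Modules) (𝒯 : RelProj.QCGrAlg Y) (j : E ⟶ 𝒯.toModule) (P : Scheme.{u}) (p : P ⟶ Y)
      (chart : ∀ (U : Y.Opens) (hU : IsAffineOpen U),
        ((p ⁻¹ᵁ U : P.Opens) : Scheme.{u}) ≅ Proj (𝒯.deg U hU))
      (i : X ⟶ P),
      Coh.IsQCoh E ∧ CohB1.IsFT E ∧ RelProj.IsGrSymAlg E 𝒯 j ∧ RelProj.IsRelProj 𝒯 p chart ∧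
        IsClosedImmersion i ∧ i ≫ p = f := by
  obtain ⟨𝒮, PS, pS, chartS, e, hgen, hft, hPS, he⟩ := hf
  obtain ⟨PT, pT, chartT, h, hPT, hci, hcomp⟩ := exists_closedImmersion_aux 𝒮 hgen
    (DegPiece.piece 𝒮 1) (DegPiece.ι 𝒮 1) (DegPiece.ι_mem 𝒮 1) (DegPiece.ι_surj 𝒮 1) pS chartS hPS
  refine ⟨DegPiece.piece 𝒮 1, symGr (DegPiece.piece 𝒮 1), jGr (DegPiece.piece 𝒮 1), PT, pT,
    chartT, e.hom ≫ h, inferInstanceAs (DegPiece.piece 𝒮 1).IsQuasicoherent,
    DegPiece.isFiniteType 𝒮 1 hft, isGrSymAlg (DegPiece.piece 𝒮 1), hPT, inferInstance, ?_⟩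
  rw [Category.assoc, hcomp, he]

end Main

end Groth.Agent.Helper1.ProjChar
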