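import Mathlib
import Groth.Prelude.Def_CohB1

/-!
# Global sections of the structure sheaf of `Proj`, and of projective space

* `ProjGlobal.key`: the ring map `𝒜 0 → Γ(Proj 𝒜, ⊤) → Γ(Proj 𝒜, D₊(f))` is `a ↦ a/1`.
* `ProjGlobal.psi_injective`, `ProjGlobal.psi_surjective`: criteria for `𝒜 0 → Γ(Proj 𝒜, ⊤)`.
* `ProjGlobal.Poly.main`: the combinatorial lemma on compatible families of polynomials.
-/

universe u
open AlgebraicGeometry CategoryTheory HomogeneousLocalization

namespace Groth.Agent.Helper1.ProjGlobal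

section General
variable {σ : Type*} {A : Type u} [CommRing A] [SetLike σ A] [AddSubgroupClass σ A]
variable (𝒜 : ℕ → σ) [GradedRing 𝒜]

lemma ι_toSpecZero (f : A) {m : ℕ} (f_deg : f ∈ 𝒜 m) (hm : 0 < m) :
    (Proj.basicOpen 𝒜 f).ι ≫ Proj.toSpecZero 𝒜 =
      Proj.basicOpenToSpec 𝒜 f ≫ Spec.map (CommRingCat.ofHom (fromZeroRingHom 𝒜 _)) := by
  have := Proj.awayι_toSpecZero 𝒜 f f_deg hm
  rw [Proj.awayι, Category.assoc, Iso.inv_comp_eq, Proj.basicOpenIsoSpec_hom] at this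
  exact this

lemma key (f : A) {m : ℕ} (f_deg : f ∈ 𝒜 m) (hm : 0 < m) :
    (Scheme.ΓSpecIso (CommRingCat.of (𝒜 0))).inv ≫ (Proj.toSpecZero 𝒜).appTop ≫
      (Proj 𝒜).presheaf.map (homOfLE (le_top : Proj.basicOpen 𝒜 f ≤ ⊤)).op =
    CommRingCat.ofHom (fromZeroRingHom 𝒜 _) ≫ Proj.awayToSection 𝒜 f := by
  have h := congrArg (fun φ => Scheme.Hom.appTop φ) (ι_toSpecZero 𝒜 f f_deg hm)
  simp only [Scheme.Hom.comp_appTop] at h
  have h2 : Scheme.Hom.appTop (Proj.basicOpenToSpec 𝒜 f) = _ := Proj.basicOpenToSpec_app_top 𝒜 f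
  rw [h2] at h
  have h4 : (Proj 𝒜).presheaf.map (homOfLE (le_top : Proj.basicOpen 𝒜 f ≤ ⊤)).op ≫
      (Proj.basicOpen 𝒜 f).topIso.inv = (Proj.basicOpen 𝒜 f).ι.appTop := by
    rw [Scheme.Opens.topIso_inv, Scheme.Opens.ι_appTop]
    exact ((Proj 𝒜).presheaf.map_comp _ _).symm
  rw [← cancel_mono (Proj.basicOpen 𝒜 f).topIso.inv]
  simp only [Category.assoc]
  rw [h4, h, Iso.inv_comp_eq, Scheme.ΓSpecIso_naturality_assoc]

/-- the ring map `𝒜 0 → Γ(Proj 𝒜, ⊤)` -/
noncomputable def psi : 𝒜 0 →+* Γ(Proj 𝒜, ⊤) :=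
  ((Scheme.ΓSpecIso (CommRingCat.of (𝒜 0))).inv ≫ (Proj.toSpecZero 𝒜).appTop).hom

lemma psi_res (f : A) {m : ℕ} (f_deg : f ∈ 𝒜 m) (hm : 0 < m) (c : 𝒜 0) :
    ((Proj 𝒜).presheaf.map (homOfLE (le_top : Proj.basicOpen 𝒜 f ≤ ⊤)).op).hom (psi 𝒜 c) =
      (Proj.awayToSection 𝒜 f).hom (fromZeroRingHom 𝒜 _ c) := by
  have := key 𝒜 f f_deg hm
  have h2 := congrArg (fun φ => φ.hom c) this
  exact h2

lemma awayToSection_injective (f : A) {m : ℕ} (f_deg : f ∈ 𝒜 m) (hm : 0 < m) :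
    Function.Injective (Proj.awayToSection 𝒜 f).hom := by
  have : IsIso (Proj.awayToSection 𝒜 f) := (Proj.basicOpenIsoAway 𝒜 f f_deg hm).isIso_hom
  exact ((ConcreteCategory.isIso_iff_bijective _).mp this).1

lemma awayToSection_surjective (f : A) {m : ℕ} (f_deg : f ∈ 𝒜 m) (hm : 0 < m) :
    Function.Surjective (Proj.awayToSection 𝒜 f).hom := by
  have : IsIso (Proj.awayToSection 𝒜 f) := (Proj.basicOpenIsoAway 𝒜 f f_deg hm).isIso_hom
  exact ((ConcreteCategory.isIso_iff_bijective _).mp this).2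

lemma psi_injective (f : A) {m : ℕ} (f_deg : f ∈ 𝒜 m) (hm : 0 < m)
    (hinj : Function.Injective (fromZeroRingHom 𝒜 (Submonoid.powers f))) :
    Function.Injective (psi 𝒜) := by
  intro c c' h
  apply hinj
  apply awayToSection_injective 𝒜 f f_deg hm
  rw [← psi_res 𝒜 f f_deg hm, ← psi_res 𝒜 f f_deg hm, h]

lemma psi_surjective {ι : Type*} (f : ι → A) (d : ι → ℕ) (hd : ∀ i, 0 < d i)
    (hf : ∀ i, f i ∈ 𝒜 (d i))
    (hcov : (HomogeneousIdeal.irrelevant 𝒜).toIdeal ≤ Ideal.span (Set.range f))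
    (hglue : ∀ q : ∀ i, Away 𝒜 (f i),
      (∀ i j, awayMap 𝒜 (hf j) (rfl : f i * f j = f i * f j) (q i) =
        awayMap 𝒜 (hf i) (mul_comm (f i) (f j)) (q j)) →
      ∃ c : 𝒜 0, ∀ i, q i = fromZeroRingHom 𝒜 _ c) :
    Function.Surjective (psi 𝒜) := by
  intro s
  choose q hq using fun i => awayToSection_surjective 𝒜 (f i) (hf i) (hd i)
    (((Proj 𝒜).presheaf.map (homOfLE (le_top : Proj.basicOpen 𝒜 (f i) ≤ ⊤)).op).hom s)
  obtain ⟨c, hc⟩ := hglue q (by
    intro i j
    apply awayToSection_injective 𝒜 (f i * f j) (SetLike.mul_mem_graded (hf i) (hf j))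
      (Nat.add_pos_left (hd i) _)
    have h1 := congrArg (fun φ => φ.hom (q i))
      (Proj.awayMap_awayToSection 𝒜 (f := f i) (hf j) (rfl : f i * f j = f i * f j))
    have h2 := congrArg (fun φ => φ.hom (q j))
      (Proj.awayMap_awayToSection 𝒜 (f := f j) (hf i) (mul_comm (f i) (f j)))
    simp only [CommRingCat.hom_comp, RingHom.coe_comp, Function.comp_apply,
      CommRingCat.hom_ofHom] at h1 h2
    rw [h1, h2, hq, hq]
    rw [← CommRingCat.comp_apply, ← CommRingCat.comp_apply, ← Functor.map_comp,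
      ← Functor.map_comp]
    rfl)
  refine ⟨c, ?_⟩
  refine TopCat.Sheaf.eq_of_locally_eq' (Proj 𝒜).sheaf (fun i => Proj.basicOpen 𝒜 (f i)) ⊤
    (fun i => homOfLE le_top) ?_ _ _ ?_
  · rw [Proj.iSup_basicOpen_eq_top 𝒜 f hcov]
  · intro i
    have := psi_res 𝒜 (f i) (hf i) (hd i) c
    refine this.trans ?_
    rw [← hc i, hq]
    rfl

lemma isIso_toSpecZero_appTop (h : Function.Bijective (psi 𝒜)) :
    IsIso (Proj.toSpecZero 𝒜).appTop := by
  have h1 : IsIso (CommRingCat.ofHom (psi 𝒜)) :=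
    (ConcreteCategory.isIso_iff_bijective _).mpr h
  have h2 : (Proj.toSpecZero 𝒜).appTop =
      (Scheme.ΓSpecIso (CommRingCat.of (𝒜 0))).hom ≫ CommRingCat.ofHom (psi 𝒜) := by
    rw [← Iso.inv_comp_eq]
    rfl
  rw [h2]
  infer_instance

lemma psi_val (f : A) {m : ℕ} (f_deg : f ∈ 𝒜 m) (hm : 0 < m) (c : 𝒜 0)
    (x : ProjectiveSpectrum 𝒜) (hx : f ∉ x.asHomogeneousIdeal) :
    (((psi 𝒜 c : (ProjectiveSpectrum.Proj.structureSheaf 𝒜).1.obj (Opposite.op ⊤))).1
      ⟨x, trivial⟩).val = Localization.mk (c : A) 1 := by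
  have h := psi_res 𝒜 f f_deg hm c
  have h2 := congrArg (fun s : (ProjectiveSpectrum.Proj.structureSheaf 𝒜).1.obj
    (Opposite.op (ProjectiveSpectrum.basicOpen 𝒜 f)) => (s.1 ⟨x, hx⟩).val) h
  refine h2.trans ?_
  change (HomogeneousLocalization.mapId 𝒜 _ (fromZeroRingHom 𝒜 _ c)).val = _
  rfl

end General

namespace Poly
open MvPolynomial
variable {σ : Type*} {R : Type*} [CommRing R]

lemma mul_monomial_cancel {s : σ →₀ ℕ} {p q : MvPolynomial σ R}
    (h : p * monomial s 1 = q * monomial s 1) : p = q := by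
  ext m
  have := congrArg (coeff (m + s)) h
  simpa [coeff_mul_monomial] using this

lemma mul_X_pow_cancel {i : σ} {n : ℕ} {p q : MvPolynomial σ R}
    (h : p * X i ^ n = q * X i ^ n) : p = q := by
  rw [X_pow_eq_monomial] at h
  exact mul_monomial_cancel h

theorem main [DecidableEq σ] (d : ℕ) (a : σ → MvPolynomial σ R) (k : σ → ℕ)
    (ha : ∀ i, (a i).IsHomogeneous (k i + d))
    (hc : ∀ i j, a i * X j ^ k j = a j * X i ^ k i) (i0 : σ) :
    ∃ p : MvPolynomial σ R, p.IsHomogeneous d ∧ ∀ i, a i = p * X i ^ k i := by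
  -- Step 1
  have h1 : ∀ m : σ →₀ ℕ, coeff m (a i0) ≠ 0 → k i0 ≤ m i0 := by
    intro m hm
    by_contra hlt
    push Not at hlt
    by_cases hj : ∃ j, j ≠ i0
    · obtain ⟨j, hj⟩ := hj
      have h := congrArg (coeff (m + Finsupp.single j (k j))) (hc i0 j)
      rw [X_pow_eq_monomial, X_pow_eq_monomial, coeff_mul_monomial, coeff_mul_monomial',
        if_neg, mul_one] at h
      · exact hm h
      · intro hle
        have := hle i0
        simp [Finsupp.single_eq_of_ne hj.symm] at this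
        omega
    · push Not at hj
      have hm' : m = Finsupp.single i0 (m i0) := by
        ext j
        rw [hj j]
        simp
      have hdeg := ha i0 hm
      rw [hm'] at hdeg
      simp [Finsupp.weight_single] at hdeg
      omega
  -- Step 2
  have h2 : a i0 = (a i0).divMonomial (Finsupp.single i0 (k i0)) * X i0 ^ k i0 := by
    have h := divMonomial_add_modMonomial (a i0) (Finsupp.single i0 (k i0))
    have hmod : (a i0).modMonomial (Finsupp.single i0 (k i0)) = 0 := by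
      ext m
      by_cases hle : Finsupp.single i0 (k i0) ≤ m
      · rw [coeff_modMonomial_of_le _ hle, coeff_zero]
      · rw [coeff_modMonomial_of_not_le _ hle, coeff_zero]
        by_contra hne
        apply hle
        intro j
        by_cases hj : j = i0
        · subst hj
          simpa using h1 m hne
        · simp [Finsupp.single_eq_of_ne hj]
    rw [hmod, add_zero] at h
    rw [X_pow_eq_monomial, mul_comm]
    exact h.symm
  refine ⟨(a i0).divMonomial (Finsupp.single i0 (k i0)), ?_, ?_⟩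
  · intro m hm
    rw [coeff_divMonomial] at hm
    have := ha i0 hm
    rw [map_add, Finsupp.weight_single] at this
    simp at this
    omega
  · intro i
    apply mul_X_pow_cancel (i := i0) (n := k i0)
    rw [hc i i0]
    conv_lhs => rw [h2]
    ring

end Poly

end Groth.Agent.Helper1.ProjGlobal
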