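import Mathlib
import Groth.Prelude.Def_CohB1
import Groth.Agent.Lib.Helper1.ProjGlobal

/-!
# Projective space `P^n_R = Proj R[T_0..T_n]`: basic facts and global functions
-/

universe u
open AlgebraicGeometry CategoryTheory HomogeneousLocalization MvPolynomial

namespace Groth.Agent.Helper1.ProjSpaceLib
open Groth.Agent.Helper1.ProjGlobal

variable (n : ℕ) (R : Type u) [CommRing R]


lemma X_mem (i : Fin (n + 1)) : (X i : MvPolynomial (Fin (n + 1)) R) ∈ CohB1.polyGrading n R 1 :=
  isHomogeneous_X R i

lemma irrelevant_le :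
    (HomogeneousIdeal.irrelevant (CohB1.polyGrading n R)).toIdeal ≤
      Ideal.span (Set.range (X : Fin (n + 1) → MvPolynomial (Fin (n + 1)) R)) := by
  intro x hx
  have hx0 : coeff 0 x = 0 := by
    have h := (HomogeneousIdeal.mem_irrelevant_iff _ _).mp hx
    have h2 : (GradedRing.proj (CohB1.polyGrading n R) 0 x) = homogeneousComponent 0 x := by
      rw [GradedRing.proj_apply]
      exact decomposition.decompose'_apply x 0
    rw [h2] at h
    have := congrArg (coeff 0) h
    simpa [coeff_homogeneousComponent] using this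
  rw [x.as_sum]
  refine Ideal.sum_mem _ fun m hm => ?_
  by_cases hm0 : m = 0
  · subst hm0
    rw [hx0]
    simp
  · obtain ⟨i, hi⟩ : ∃ i, m i ≠ 0 := by
      by_contra hcon
      push Not at hcon
      exact hm0 (Finsupp.ext hcon)
    have hle : Finsupp.single i 1 ≤ m := by
      intro j
      by_cases hj : j = i
      · subst hj
        simp
        omega
      · simp [Finsupp.single_eq_of_ne hj]
    have : monomial m (coeff m x) = monomial (m - Finsupp.single i 1) (coeff m x) * X i := by
      rw [X, monomial_mul, tsub_add_cancel_of_le hle, mul_one]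
    rw [this]
    exact Ideal.mul_mem_left _ _ (Ideal.subset_span ⟨i, rfl⟩)

lemma val_fromZero (f : MvPolynomial (Fin (n + 1)) R) (c : CohB1.polyGrading n R 0) :
    (fromZeroRingHom (CohB1.polyGrading n R) (Submonoid.powers f) c).val =
      Localization.mk (c : MvPolynomial (Fin (n + 1)) R) 1 := rfl

lemma fromZero_injective (i : Fin (n + 1)) :
    Function.Injective (fromZeroRingHom (CohB1.polyGrading n R)
      (Submonoid.powers (X i : MvPolynomial (Fin (n + 1)) R))) := by
  intro c c' h
  have h2 := congrArg HomogeneousLocalization.val h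
  rw [val_fromZero, val_fromZero, Localization.mk_eq_mk_iff, Localization.r_iff_exists] at h2
  obtain ⟨⟨_, N, rfl⟩, hN⟩ := h2
  simp only [OneMemClass.coe_one, one_mul] at hN
  apply Subtype.ext
  apply Poly.mul_X_pow_cancel (i := i) (n := N)
  rw [mul_comm, hN, mul_comm]





lemma glue (q : ∀ i : Fin (n + 1), Away (CohB1.polyGrading n R) (X i : MvPolynomial (Fin (n + 1)) R))
    (hq : ∀ i j, awayMap (CohB1.polyGrading n R) (X_mem n R j)
        (rfl : (X i : MvPolynomial (Fin (n + 1)) R) * X j = X i * X j) (q i) =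
      awayMap (CohB1.polyGrading n R) (X_mem n R i) (mul_comm (X i) (X j)) (q j)) :
    ∃ c : CohB1.polyGrading n R 0, ∀ i, q i = fromZeroRingHom (CohB1.polyGrading n R) _ c := by
  choose k a ha hka using fun i => Away.mk_surjective (CohB1.polyGrading n R) (X_mem n R i) (q i)
  have hc : ∀ i j, a i * X j ^ k j = a j * X i ^ k i := by
    intro i j
    have h := hq i j
    rw [← hka i, ← hka j, awayMap_mk, awayMap_mk] at h
    have h2 := congrArg HomogeneousLocalization.val h
    rw [Away.val_mk, Away.val_mk, Localization.mk_eq_mk_iff, Localization.r_iff_exists] at h2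
    obtain ⟨⟨_, N, rfl⟩, hN⟩ := h2
    simp only at hN
    apply Poly.mul_X_pow_cancel (i := i) (n := N + k j)
    apply Poly.mul_X_pow_cancel (i := j) (n := N + k i)
    calc a i * X j ^ k j * X i ^ (N + k j) * X j ^ (N + k i)
        = (X i * X j) ^ N * ((X i * X j) ^ k j * (a i * X j ^ k i)) := by ring
      _ = (X i * X j) ^ N * ((X i * X j) ^ k i * (a j * X i ^ k j)) := hN
      _ = _ := by ring
  obtain ⟨p, hp, hpa⟩ := Poly.main 0 a k (fun i => by
    have := ha i
    rw [smul_eq_mul, mul_one] at this
    exact (mem_homogeneousSubmodule _ _).mp this) hc 0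
  refine ⟨⟨p, (mem_homogeneousSubmodule _ _).mpr hp⟩, fun i => ?_⟩
  rw [← hka i]
  apply HomogeneousLocalization.val_injective
  rw [Away.val_mk, val_fromZero, Localization.mk_eq_mk_iff, Localization.r_iff_exists]
  refine ⟨1, ?_⟩
  simp only [OneMemClass.coe_one, one_mul]
  rw [hpa i, mul_comm]



lemma algebraMap_bijective :
    Function.Bijective (algebraMap R (CohB1.polyGrading n R 0)) := by
  constructor
  · intro r r' h
    have := congrArg Subtype.val h
    exact C_injective _ _ this
  · rintro ⟨p, hp⟩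
    have hp' : p.IsHomogeneous 0 := (mem_homogeneousSubmodule _ _).mp hp
    have h0 : p.totalDegree = 0 := (totalDegree_zero_iff_isHomogeneous _).mpr hp'
    refine ⟨p.coeff 0, Subtype.ext ?_⟩
    exact ((totalDegree_eq_zero_iff_eq_C).mp h0).symm

theorem isIso_toSpec_appTop (hψ : Function.Bijective (psi (CohB1.polyGrading n R))) :
    IsIso (CohB1.ProjSpace.toSpec n R).appTop := by
  have h1 : IsIso (CommRingCat.ofHom (algebraMap R (CohB1.polyGrading n R 0))) :=
    (ConcreteCategory.isIso_iff_bijective _).mpr (algebraMap_bijective n R)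
  have h2 := isIso_toSpecZero_appTop (CohB1.polyGrading n R) hψ
  change IsIso (Scheme.Hom.appTop (X := Proj (CohB1.polyGrading n R))
    (Proj.toSpecZero (CohB1.polyGrading n R) ≫
      Spec.map (CommRingCat.ofHom (algebraMap R (CohB1.polyGrading n R 0)))))
  rw [Scheme.Hom.comp_appTop]
  have h3 : IsIso (Spec.map (CommRingCat.ofHom (algebraMap R (CohB1.polyGrading n R 0)))) :=
    inferInstance
  have h4 : IsIso (Scheme.Hom.appTop
      (Spec.map (CommRingCat.ofHom (algebraMap R (CohB1.polyGrading n R 0))))) :=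
    inferInstanceAs (IsIso (Scheme.Hom.app
      (Spec.map (CommRingCat.ofHom (algebraMap R (CohB1.polyGrading n R 0)))) ⊤))
  exact IsIso.comp_isIso


theorem psi_bijective : Function.Bijective (psi (CohB1.polyGrading n R)) :=
  ⟨psi_injective _ (X 0) (X_mem n R 0) Nat.one_pos (fromZero_injective n R 0),
   psi_surjective _ (fun i : Fin (n + 1) => (X i : MvPolynomial (Fin (n + 1)) R)) (fun _ => 1)
     (fun _ => Nat.one_pos) (X_mem n R) (irrelevant_le n R) (glue n R)⟩

theorem isIso_toSpec_appTop' : IsIso (CohB1.ProjSpace.toSpec n R).appTop :=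
  isIso_toSpec_appTop n R (psi_bijective n R)

/-- evaluation at the point `(1 : 0 : … : 0)` -/
noncomputable def evalPt : MvPolynomial (Fin (n + 1)) R →+* R :=
  eval₂Hom (RingHom.id R) (fun i => if i = 0 then 1 else 0)

lemma evalPt_X0 : evalPt n R (X 0) = 1 := by simp [evalPt]

lemma evalPt_C (r : R) : evalPt n R (C r) = r := by simp [evalPt]

/-- the retraction `R[T]_(T_0) → R` -/
noncomputable def theta : Away (CohB1.polyGrading n R) (X 0 : MvPolynomial (Fin (n + 1)) R) →+* R :=
  (IsLocalization.Away.lift (S := Localization.Away (X 0 : MvPolynomial (Fin (n + 1)) R))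
    (X 0 : MvPolynomial (Fin (n + 1)) R) (g := evalPt n R)
    (by rw [evalPt_X0]; exact isUnit_one)).comp
    (algebraMap (Away (CohB1.polyGrading n R) (X 0 : MvPolynomial (Fin (n + 1)) R))
      (Localization.Away (X 0 : MvPolynomial (Fin (n + 1)) R)))

lemma theta_fromZero (r : R) :
    theta n R (fromZeroRingHom (CohB1.polyGrading n R) _ (algebraMap R (CohB1.polyGrading n R 0) r)) = r := by
  unfold theta
  rw [RingHom.comp_apply, HomogeneousLocalization.algebraMap_apply, val_fromZero]
  rw [Localization.mk_one_eq_algebraMap, IsLocalization.Away.lift_eq]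
  exact evalPt_C n R r

/-- a section of `P^n_R → Spec R` -/
noncomputable def sec : Spec (CommRingCat.of R) ⟶ Proj (CohB1.polyGrading n R) :=
  Spec.map (CommRingCat.ofHom (theta n R)) ≫
    Proj.awayι (CohB1.polyGrading n R) (X 0) (X_mem n R 0) Nat.one_pos

lemma sec_toSpec : sec n R ≫ (Proj.toSpecZero (CohB1.polyGrading n R) ≫
    Spec.map (CommRingCat.ofHom (algebraMap R (CohB1.polyGrading n R 0)))) = 𝟙 _ := by
  unfold sec
  rw [Category.assoc, Proj.awayι_toSpecZero_assoc]
  rw [← Spec.map_comp, ← Spec.map_comp, ← Spec.map_id]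
  congr 1
  ext r
  exact theta_fromZero n R r

instance surjective_toSpec : Surjective (CohB1.ProjSpace.toSpec n R) := by
  constructor
  intro y
  refine ⟨(sec n R).base y, ?_⟩
  have := congrArg (fun φ => φ.base y) (sec_toSpec n R)
  exact this


instance : Subsingleton (Fin (0 + 1)) := inferInstanceAs (Subsingleton (Fin 1))

lemma basicOpen_X0_eq_top :
    Proj.basicOpen (CohB1.polyGrading 0 R) (X 0 : MvPolynomial (Fin (0 + 1)) R) = ⊤ := by
  have h := Proj.iSup_basicOpen_eq_top (CohB1.polyGrading 0 R)
    (fun i : Fin (0 + 1) => (X i : MvPolynomial (Fin (0 + 1)) R)) (irrelevant_le 0 R)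
  rw [← h]
  apply le_antisymm
  · exact le_iSup (fun i : Fin (0 + 1) => Proj.basicOpen (CohB1.polyGrading 0 R)
      (X i : MvPolynomial (Fin (0 + 1)) R)) 0
  · apply iSup_le
    intro i
    rw [Subsingleton.elim i 0]

lemma fromZero_bijective_zero :
    Function.Bijective (fromZeroRingHom (CohB1.polyGrading 0 R)
      (Submonoid.powers (X 0 : MvPolynomial (Fin (0 + 1)) R))) := by
  refine ⟨fromZero_injective 0 R 0, fun q => ?_⟩
  obtain ⟨c, hc⟩ := glue 0 R (fun i => (Subsingleton.elim 0 i) ▸ q) (by
    intro i j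
    obtain rfl : i = 0 := Subsingleton.elim _ _
    obtain rfl : j = 0 := Subsingleton.elim _ _
    rfl)
  exact ⟨c, (hc 0).symm⟩

theorem isIso_toSpec_zero : IsIso (CohB1.ProjSpace.toSpec 0 R) := by
  have h1 : IsIso (CommRingCat.ofHom (algebraMap R (CohB1.polyGrading 0 R 0))) :=
    (ConcreteCategory.isIso_iff_bijective _).mpr (algebraMap_bijective 0 R)
  have h2 : IsIso (CommRingCat.ofHom (fromZeroRingHom (CohB1.polyGrading 0 R)
      (Submonoid.powers (X 0 : MvPolynomial (Fin (0 + 1)) R)))) :=
    (ConcreteCategory.isIso_iff_bijective _).mpr (fromZero_bijective_zero R)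
  have h3 : IsIso (Proj.awayι (CohB1.polyGrading 0 R) (X 0) (X_mem 0 R 0) Nat.one_pos) := by
    apply isIso_of_isOpenImmersion_of_opensRange_eq_top
    rw [Proj.opensRange_awayι, basicOpen_X0_eq_top]
  have h4 : IsIso (Proj.toSpecZero (CohB1.polyGrading 0 R)) := by
    have h := Proj.awayι_toSpecZero (CohB1.polyGrading 0 R) (X 0) (X_mem 0 R 0) Nat.one_pos
    have h5 : Proj.toSpecZero (CohB1.polyGrading 0 R) =
        inv (Proj.awayι (CohB1.polyGrading 0 R) (X 0) (X_mem 0 R 0) Nat.one_pos) ≫
          Spec.map (CommRingCat.ofHom (fromZeroRingHom (CohB1.polyGrading 0 R) _)) := by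
      rw [IsIso.eq_inv_comp]
      exact h
    rw [h5]
    infer_instance
  change IsIso (X := Proj (CohB1.polyGrading 0 R))
    (Proj.toSpecZero (CohB1.polyGrading 0 R) ≫
      Spec.map (CommRingCat.ofHom (algebraMap R (CohB1.polyGrading 0 R 0))))
  infer_instance

theorem surjective_toBase (r : ℕ) (Y : Scheme.{u}) :
    Surjective (CohB1.ProjSpaceOver.toBase r Y) := by
  have := surjective_toSpec r (ULift.{u} ℤ)
  exact inferInstanceAs (Surjective (Limits.pullback.snd (CohB1.ProjSpace.toSpec r (ULift.{u} ℤ))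
    (specULiftZIsTerminal.from Y)))


end Groth.Agent.Helper1.ProjSpaceLib
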