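import Mathlib
import Groth.Prelude.Def_Coh

/-!
# `H^0(X, M) ≃+ Γ(X, M)`, compatibly with the action of global functions
-/

universe u
open AlgebraicGeometry CategoryTheory Opposite TopologicalSpace

namespace Groth.Agent.Helper1.HH0

variable (X : Scheme.{u}) (M : X.Modules)

/-- `H^0(X, M) ≃+ Γ(X, M)` -/
noncomputable def equiv : Coh.HH X M 0 ≃+ M.val.obj (op ⊤) :=
  Sheaf.H.equiv₀ (Coh.toAb M) (Limits.isTerminalTop (α := Opens X))

theorem equiv_smul (r : Coh.Γtop X) (x : Coh.HH X M 0) :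
    equiv X M (r • x) = r • equiv X M x := by
  have h := Sheaf.H.equiv₀_naturality (Limits.isTerminalTop (α := Opens X)) (Coh.smulAb M r) x
  change equiv X M (Sheaf.H.map (Coh.smulAb M r) 0 x) = _
  refine h.symm.trans ?_
  rw [Coh.smulAb_app]
  congr 1
  change (X.ringCatSheaf.obj.map (𝟙 (op ⊤))).hom r = r
  rw [X.ringCatSheaf.obj.map_id]
  rfl


/-- the `A`-module structure for `X` over `Spec A` -/
theorem equiv_smul_over {A : Type u} [CommRing A] (X : Scheme.{u}) [X.Over (Spec (CommRingCat.of A))]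
    (M : X.Modules) (a : A) (x : Coh.HH X M 0) :
    equiv X M (a • x) = Coh.toGlobal (X ↘ Spec (CommRingCat.of A)) a • equiv X M x :=
  equiv_smul X M _ x

end Groth.Agent.Helper1.HH0
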