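import Mathlib
import Groth.Agent.Lib.Helper1.GrSect
import Groth.Agent.Lib.Helper1.TwistTriv

open DirectSum CategoryTheory AlgebraicGeometry TopologicalSpace Opposite

universe u

namespace Groth.Agent.Helper1.ProjNormal

section
variable {R A : Type u} [CommRing R] [CommRing A] [Algebra R A] (𝒜 : ℕ → Submodule R A)
  [GradedAlgebra 𝒜]

/-- sections of `O(n)` over `D₊(f)` are single fractions -/
theorem twist_sect_eq (n : ℤ) {d : ℕ} (hd : 0 < d) {f : A} (hf : f ∈ 𝒜 d)
    (s : Twist.sectN (𝒜 := 𝒜) n (op (ProjectiveSpectrum.basicOpen 𝒜 f))) :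
    ∃ (k i : ℕ) (m : 𝒜 i), (i : ℤ) = k * d + n ∧
      ∀ x : ProjectiveSpectrum.basicOpen 𝒜 f,
        ((s.1 x : Twist.twistAt 𝒜 n x.1) : Twist.Loc 𝒜 x.1) =
          (Localization.mk m.1 ⟨f ^ k, fun h => (ProjectiveSpectrum.mem_basicOpen 𝒜 f x.1).mp x.2
            (x.1.isPrime.mem_of_pow_mem k h)⟩ : Twist.Loc 𝒜 x.1) :=
  GrSect.main 𝒜 𝒜 n hd hf s

/-- homogeneity of a quotient in a graded domain -/
theorem mem_of_mul_mem [IsDomain A] {e m : ℕ} {c h : A} (hh : h ∈ 𝒜 e) (h0 : h ≠ 0)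
    (hc : c * h ∈ 𝒜 (m + e)) : c ∈ 𝒜 m := by
  classical
  have hj : ∀ j, j ≠ m → (decompose 𝒜 c j : A) = 0 := by
    intro j hj
    have h1 := DirectSum.coe_decompose_mul_add_of_right_mem 𝒜 (i := j) (a := c) hh
    have h2 : (decompose 𝒜 (c * h) (j + e) : A) = 0 :=
      DirectSum.decompose_of_mem_ne 𝒜 hc (by omega)
    rw [h2] at h1
    exact (mul_eq_zero.1 h1.symm).resolve_right h0
  rw [← DirectSum.sum_support_decompose 𝒜 c]
  refine Submodule.sum_mem _ fun j _ => ?_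
  by_cases hjm : j = m
  · subst hjm; exact SetLike.coe_mem _
  · rw [hj j hjm]; exact zero_mem _

theorem le_span_pow (hgen : ∀ i : ℕ, 𝒜 1 * 𝒜 i = 𝒜 (i + 1)) (n : ℕ) :
    ∀ y ∈ 𝒜 n, y ∈ (Ideal.span (𝒜 1 : Set A)) ^ n := by
  induction n with
  | zero => intro y _; simp
  | succ n ih =>
    intro y hy
    rw [← hgen n] at hy
    refine Submodule.mul_induction_on hy ?_ ?_
    · intro a ha b hb
      rw [pow_succ']
      exact Ideal.mul_mem_mul (Ideal.subset_span ha) (ih b hb)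
    · intro a b ha hb
      exact add_mem ha hb

theorem exists_deg_one_notMem (hgen : ∀ i : ℕ, 𝒜 1 * 𝒜 i = 𝒜 (i + 1))
    (x : ProjectiveSpectrum 𝒜) : ∃ g ∈ 𝒜 1, g ∉ x.asHomogeneousIdeal := by
  by_contra hcon
  push Not at hcon
  apply x.not_irrelevant_le
  rw [HomogeneousIdeal.irrelevant_le]
  intro i hi y hy
  have h1 : Ideal.span (𝒜 1 : Set A) ≤ x.asHomogeneousIdeal.toIdeal :=
    Ideal.span_le.2 fun g hg => hcon g hg
  have h2 := le_span_pow 𝒜 hgen i y hy
  exact h1 (Ideal.pow_le_self (by omega) h2)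

theorem exists_of_isIntegral {A : Type*} [CommRing A] [IsDomain A] (hint : IsIntegrallyClosed A)
    (t : FractionRing A) (h : IsIntegral A t) : ∃ c : A, algebraMap A (FractionRing A) c = t := by
  have := hint
  exact IsIntegrallyClosed.algebraMap_eq_of_integral h

set_option maxHeartbeats 1600000 in
theorem main [IsDomain A] [IsNoetherianRing A]
    (hgen : ∀ i : ℕ, 𝒜 1 * 𝒜 i = 𝒜 (i + 1)) (h1 : 𝒜 1 ≠ ⊥) (hint : IsIntegrallyClosed A)
    (d : ℕ) : Function.Bijective (fun a : ↥(𝒜 d) => Twist.globalOf 𝒜 a) := by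
  classical
  -- a nonzero element of degree one
  obtain ⟨f, hf, hf0⟩ : ∃ f ∈ 𝒜 1, f ≠ 0 := by
    by_contra hcon
    push Not at hcon
    exact h1 ((Submodule.eq_bot_iff _).2 hcon)
  -- points where a nonzero positive-degree homogeneous element is invertible
  have hpt : ∀ {e : ℕ} (_ : 0 < e) (g : A), g ∈ 𝒜 e → g ≠ 0 →
      ∃ x : ProjectiveSpectrum 𝒜, g ∉ x.asHomogeneousIdeal := by
    intro e he g hg hg0
    refine ProjTop.exists_notMem_of_not_isNilpotent 𝒜
      (HomogeneousIdeal.mem_irrelevant_of_mem 𝒜 he hg) ?_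
    intro hnil
    exact hg0 hnil.eq_zero
  have h1p : ∀ x : ProjectiveSpectrum 𝒜, (1 : A) ∉ x.asHomogeneousIdeal := fun x h =>
    x.isPrime.ne_top ((Ideal.eq_top_iff_one _).mpr h)
  constructor
  · intro a b hab
    obtain ⟨x, hx⟩ := hpt one_pos f hf hf0
    have h2 : (Localization.mk a.1 ⟨1, h1p x⟩ : Twist.Loc 𝒜 x) = Localization.mk b.1 ⟨1, h1p x⟩ :=
      congrArg (fun s : Twist.sectN (𝒜 := 𝒜) (d : ℤ) (op ⊤) =>
        ((s.1 ⟨x, trivial⟩).1 : Twist.Loc 𝒜 x)) hab
    rw [Localization.mk_eq_mk_iff, Localization.r_iff_exists] at h2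
    obtain ⟨u, hu⟩ := h2
    simp only [one_mul] at hu
    have hu0 : (u : A) ≠ 0 := fun h0 => u.2 (h0 ▸ zero_mem _)
    exact Subtype.ext (mul_left_cancel₀ hu0 hu)
  · intro s
    -- local descriptions over D₊(g), g ∈ 𝒜 1
    have hloc : ∀ g : 𝒜 1, ∃ (k : ℕ) (b : A), b ∈ 𝒜 (k + d) ∧
        ∀ (x : ProjectiveSpectrum 𝒜) (hx : (g : A) ∉ x.asHomogeneousIdeal),
          ((s.1 ⟨x, trivial⟩ : Twist.twistAt 𝒜 d x) : Twist.Loc 𝒜 x) =
            (Localization.mk b ⟨(g : A) ^ k, fun h => hx (x.isPrime.mem_of_pow_mem k h)⟩ :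
              Twist.Loc 𝒜 x) := by
      intro g
      obtain ⟨k, i, m, hi, hm⟩ := twist_sect_eq 𝒜 (d : ℤ) one_pos g.2
        (Twist.resN (d : ℤ) (homOfLE le_top).op s)
      have hik : i = k + d := by push_cast at hi; omega
      subst hik
      exact ⟨k, m.1, m.2, fun x hx => hm ⟨x, hx⟩⟩
    choose k b hb hs using hloc
    -- the fraction t = a / f^k
    obtain ⟨kf, hkf⟩ : ∃ kf : ℕ, kf = k ⟨f, hf⟩ := ⟨_, rfl⟩
    obtain ⟨a, ha⟩ : ∃ a : A, a = b ⟨f, hf⟩ := ⟨_, rfl⟩
    obtain ⟨t, ht⟩ : ∃ t : FractionRing A, t = algebraMap A (FractionRing A) a /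
      algebraMap A (FractionRing A) (f ^ kf) := ⟨_, rfl⟩
    have hfk0 : f ^ kf ≠ 0 := pow_ne_zero _ hf0
    have hfk0' : algebraMap A (FractionRing A) (f ^ kf) ≠ 0 := by
      rwa [Ne, IsFractionRing.to_map_eq_zero_iff]
    -- comparison on overlaps
    have hcmp : ∀ g : 𝒜 1, (g : A) ≠ 0 → (g : A) ^ k g * a = f ^ kf * b g := by
      intro g hg0
      obtain ⟨x, hx⟩ := hpt (e := 2) (by norm_num) (f * g) (SetLike.mul_mem_graded hf g.2)
        (mul_ne_zero hf0 hg0)
      have hxf : f ∉ x.asHomogeneousIdeal := fun h => hx (Ideal.mul_mem_right _ _ h)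
      have hxg : (g : A) ∉ x.asHomogeneousIdeal := fun h => hx (Ideal.mul_mem_left _ _ h)
      have e1 := hs ⟨f, hf⟩ x hxf
      have e2 := hs g x hxg
      rw [← hkf, ← ha] at e1
      rw [e1, Localization.mk_eq_mk_iff, Localization.r_iff_exists] at e2
      obtain ⟨u, hu⟩ := e2
      have hu0 : (u : A) ≠ 0 := fun h0 => u.2 (h0 ▸ zero_mem _)
      exact mul_left_cancel₀ hu0 hu
    have hgt : ∀ g : 𝒜 1, (g : A) ≠ 0 → algebraMap A (FractionRing A) ((g : A) ^ k g) * t =
        algebraMap A (FractionRing A) (b g) := by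
      intro g hg0
      rw [ht, mul_div_assoc', div_eq_iff hfk0', ← map_mul, ← map_mul, hcmp g hg0, mul_comm]
    have hinj : Function.Injective (algebraMap A (FractionRing A)) := IsFractionRing.injective _ _
    have htf : t * algebraMap A (FractionRing A) (f ^ kf) = algebraMap A (FractionRing A) a := by
      rw [ht, div_mul_cancel₀ _ hfk0']
    have hfkmem : f ^ kf ∈ 𝒜 kf := by
      have := SetLike.pow_mem_graded kf hf
      simpa [smul_eq_mul] using this
    have hamem : a ∈ 𝒜 (kf + d) := by rw [ha, hkf]; exact hb _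
    -- conductor ideal
    let 𝔠 : Ideal A := Submodule.comap (LinearMap.toSpanSingleton A (FractionRing A) t)
      (LinearMap.range (Algebra.linearMap A (FractionRing A)))
    have hmem𝔠 : ∀ y : A, y ∈ 𝔠 ↔ ∃ z : A, algebraMap A (FractionRing A) z =
        algebraMap A (FractionRing A) y * t := by
      intro y
      show (∃ z : A, Algebra.linearMap A (FractionRing A) z = y • t) ↔ _
      simp only [Algebra.linearMap_apply, Algebra.smul_def]
    have hrad : Ideal.span (𝒜 1 : Set A) ≤ 𝔠.radical := by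
      refine Ideal.span_le.2 fun g hg => ?_
      by_cases hg0 : g = 0
      · rw [hg0]; exact zero_mem _
      · refine ⟨k ⟨g, hg⟩, (hmem𝔠 _).2 ⟨b ⟨g, hg⟩, ?_⟩⟩
        exact (hgt ⟨g, hg⟩ hg0).symm
    obtain ⟨N₀, hN₀⟩ := Ideal.exists_pow_le_of_le_radical_of_fg hrad
      (IsNoetherian.noetherian _)
    have key : ∀ n : ℕ, N₀ ≤ n → ∀ y ∈ 𝒜 n, ∃ z ∈ 𝒜 (n + d),
        algebraMap A (FractionRing A) z = algebraMap A (FractionRing A) y * t := by
      intro n hn y hy
      have hy𝔠 : y ∈ 𝔠 := hN₀ (Ideal.pow_le_pow_right hn (le_span_pow 𝒜 hgen n y hy))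
      obtain ⟨z, hz⟩ := (hmem𝔠 y).1 hy𝔠
      refine ⟨z, ?_, hz⟩
      have hzf : z * f ^ kf = y * a := by
        apply hinj
        rw [map_mul, map_mul, hz, mul_assoc, htf]
      have hya : y * a ∈ 𝒜 (n + (kf + d)) := SetLike.mul_mem_graded hy hamem
      have e1 : n + (kf + d) = (n + d) + kf := by omega
      rw [e1, ← hzf] at hya
      exact mem_of_mul_mem 𝒜 hfkmem hfk0 hya
    -- integrality
    let G : Set A := {y | ∃ n : ℕ, N₀ ≤ n ∧ y ∈ 𝒜 n}
    let N : Submodule A (FractionRing A) :=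
      Submodule.span A (algebraMap A (FractionRing A) '' G)
    have hNne : N ≠ ⊥ := by
      intro hbot
      have h0 : algebraMap A (FractionRing A) (f ^ N₀) ∈ N := by
        refine Submodule.subset_span ⟨f ^ N₀, ⟨N₀, le_rfl, ?_⟩, rfl⟩
        have := SetLike.pow_mem_graded N₀ hf
        simpa [smul_eq_mul] using this
      rw [hbot, Submodule.mem_bot, IsFractionRing.to_map_eq_zero_iff] at h0
      exact pow_ne_zero _ hf0 h0
    have hNfg : N.FG := by
      have : N = Submodule.map (Algebra.linearMap A (FractionRing A)) (Ideal.span G) := by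
        rw [Ideal.span, Submodule.map_span]
        rfl
      rw [this]
      exact Submodule.FG.map _ (IsNoetherian.noetherian _)
    have hNt : ∀ w ∈ N, t • w ∈ N := by
      intro w hw
      refine Submodule.span_induction (p := fun w _ => t • w ∈ N) ?_ ?_ ?_ ?_ hw
      · rintro _ ⟨y, ⟨n, hn, hy⟩, rfl⟩
        obtain ⟨z, hz, hzt⟩ := key n hn y hy
        rw [smul_eq_mul, mul_comm, ← hzt]
        exact Submodule.subset_span ⟨z, ⟨n + d, by omega, hz⟩, rfl⟩
      · rw [smul_zero]; exact zero_mem _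
      · intro w₁ w₂ _ _ h₁ h₂
        rw [smul_add]; exact add_mem h₁ h₂
      · intro r w _ hw'
        rw [smul_comm]; exact N.smul_mem r hw'
    have hint' : IsIntegral A t := isIntegral_of_smul_mem_submodule N hNne hNfg t hNt
    have hex : ∃ c : A, algebraMap A (FractionRing A) c = t := exists_of_isIntegral hint t hint'
    clear_value 𝔠 G N
    obtain ⟨c, hc⟩ := hex
    have hcf : c * f ^ kf = a := by
      apply hinj
      rw [map_mul, hc, htf]
    have hcmem : c ∈ 𝒜 d := by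
      have e1 : kf + d = d + kf := by omega
      rw [e1, ← hcf] at hamem
      exact mem_of_mul_mem 𝒜 hfkmem hfk0 hamem
    have hfinal : ∀ x : ProjectiveSpectrum 𝒜,
        ((s.1 ⟨x, trivial⟩ : Twist.twistAt 𝒜 d x) : Twist.Loc 𝒜 x) =
          (Localization.mk c ⟨1, h1p x⟩ : Twist.Loc 𝒜 x) := by
      intro x
      obtain ⟨g, hg, hgx⟩ := exists_deg_one_notMem 𝒜 hgen x
      have hg0 : g ≠ 0 := fun h0 => hgx (h0 ▸ zero_mem _)
      have hgc : g ^ k ⟨g, hg⟩ * c = b ⟨g, hg⟩ := by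
        apply hinj
        rw [map_mul, hc]
        exact hgt ⟨g, hg⟩ hg0
      rw [hs ⟨g, hg⟩ x hgx, Localization.mk_eq_mk_iff, Localization.r_iff_exists]
      refine ⟨1, ?_⟩
      simp only [OneMemClass.coe_one, one_mul]
      exact hgc.symm
    refine ⟨⟨c, hcmem⟩, ?_⟩
    apply Subtype.ext
    funext x
    apply Subtype.ext
    exact (hfinal x.1).symm

end
end Groth.Agent.Helper1.ProjNormal
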