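import Mathlib
import Groth.Prelude.Def_Twist2
import Groth.Prelude.Def_Coh
import Groth.Agent.Lib.Helper1.ProjNormal
import Groth.Agent.Lib.Helper1.ProjSpaceLib
import Groth.Agent.Lib.Helper1.GrTildeLib
import Groth.Agent.Lib.Helper1.HH0

/-!
# Global sections of `O(d)` on projective space: `Γ(P^n_R, O(d)) = R[T_0..T_n]_d`
-/

universe u
open AlgebraicGeometry CategoryTheory HomogeneousLocalization MvPolynomial Opposite TopologicalSpace

namespace Groth.Agent.Helper1.ProjSpaceLib
open Groth.Agent.Helper1.ProjGlobal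

section General
variable {R A : Type u} [CommRing R] [CommRing A] [Algebra R A] (𝒜 : ℕ → Submodule R A)
  [GradedAlgebra 𝒜]

theorem exists_pow_mul_eq_zero {d : ℕ} (hd : 0 < d) {f : A} (hf : f ∈ 𝒜 d) {i : ℕ} {e : A}
    (he : e ∈ 𝒜 i)
    (h : ∀ x : ProjectiveSpectrum 𝒜, f ∉ x.asHomogeneousIdeal →
      ∃ u : A, u ∉ x.asHomogeneousIdeal ∧ u * e = 0) :
    ∃ N : ℕ, f ^ N * e = 0 := by
  by_contra hcon
  push Not at hcon
  obtain ⟨x, hxf, hx⟩ := GrTildeLib.exists_point_of_forall_pow_smul_ne 𝒜 𝒜 hd hf he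
    (fun N => by simpa [smul_eq_mul] using hcon N)
  obtain ⟨u, hu, hue⟩ := h x ((ProjectiveSpectrum.mem_basicOpen 𝒜 f x).mp hxf)
  exact hu (hx u (by simpa [smul_eq_mul] using hue))

end General

variable (n : ℕ) (R : Type u) [CommRing R]

theorem globalOf_injective (d : ℕ) :
    Function.Injective (fun a : CohB1.polyGrading n R d => Twist.globalOf (CohB1.polyGrading n R) a) := by
  intro a b hab
  have h1p : ∀ x : ProjectiveSpectrum (CohB1.polyGrading n R),
      (1 : MvPolynomial (Fin (n + 1)) R) ∉ x.asHomogeneousIdeal := fun x h =>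
    x.isPrime.ne_top ((Ideal.eq_top_iff_one _).mpr h)
  obtain ⟨N, hN⟩ := exists_pow_mul_eq_zero (CohB1.polyGrading n R) Nat.one_pos (X_mem n R 0)
    (e := a.1 - b.1) (Submodule.sub_mem _ a.2 b.2) (by
      intro x _
      have h2 : (Localization.mk a.1 ⟨1, h1p x⟩ : Twist.Loc (CohB1.polyGrading n R) x) =
          Localization.mk b.1 ⟨1, h1p x⟩ :=
        congrArg (fun s : Twist.sectN (𝒜 := CohB1.polyGrading n R) (d : ℤ) (op ⊤) =>
          ((s.1 ⟨x, trivial⟩).1 : Twist.Loc (CohB1.polyGrading n R) x)) hab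
      rw [Localization.mk_eq_mk_iff, Localization.r_iff_exists] at h2
      obtain ⟨u, hu⟩ := h2
      simp only [one_mul] at hu
      exact ⟨u.1, u.2, by rw [mul_sub, hu, sub_self]⟩)
  apply Subtype.ext
  rw [← sub_eq_zero]
  apply Poly.mul_X_pow_cancel (i := (0 : Fin (n + 1))) (n := N)
  rw [zero_mul, mul_comm]
  exact hN

lemma exists_X_notMem (x : ProjectiveSpectrum (CohB1.polyGrading n R)) :
    ∃ i : Fin (n + 1), (X i : MvPolynomial (Fin (n + 1)) R) ∉ x.asHomogeneousIdeal := by
  by_contra hcon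
  push Not at hcon
  apply x.not_irrelevant_le
  intro y hy
  have h1 : Ideal.span (Set.range (X : Fin (n + 1) → MvPolynomial (Fin (n + 1)) R)) ≤
      x.asHomogeneousIdeal.toIdeal := by
    rw [Ideal.span_le]
    rintro _ ⟨i, rfl⟩
    exact hcon i
  exact h1 (irrelevant_le n R hy)

set_option maxHeartbeats 800000 in
theorem globalOf_surjective (d : ℕ) :
    Function.Surjective (fun a : CohB1.polyGrading n R d => Twist.globalOf (CohB1.polyGrading n R) a) := by
  intro s
  have h1p : ∀ x : ProjectiveSpectrum (CohB1.polyGrading n R),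
      (1 : MvPolynomial (Fin (n + 1)) R) ∉ x.asHomogeneousIdeal := fun x h =>
    x.isPrime.ne_top ((Ideal.eq_top_iff_one _).mpr h)
  have hloc : ∀ i : Fin (n + 1), ∃ (k : ℕ) (b : MvPolynomial (Fin (n + 1)) R),
      b ∈ CohB1.polyGrading n R (k + d) ∧
        ∀ (x : ProjectiveSpectrum (CohB1.polyGrading n R))
          (hx : (X i : MvPolynomial (Fin (n + 1)) R) ∉ x.asHomogeneousIdeal),
          ((s.1 ⟨x, trivial⟩ : Twist.twistAt (CohB1.polyGrading n R) d x) :
              Twist.Loc (CohB1.polyGrading n R) x) =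
            (Localization.mk b ⟨(X i : MvPolynomial (Fin (n + 1)) R) ^ k,
              fun h => hx (x.isPrime.mem_of_pow_mem k h)⟩ :
              Twist.Loc (CohB1.polyGrading n R) x) := by
    intro i
    obtain ⟨k, j, m, hj, hm⟩ := ProjNormal.twist_sect_eq (CohB1.polyGrading n R) (d : ℤ)
      Nat.one_pos (X_mem n R i) (Twist.resN (d : ℤ) (homOfLE le_top).op s)
    have hjk : j = k + d := by push_cast at hj; omega
    subst hjk
    exact ⟨k, m.1, m.2, fun x hx => hm ⟨x, hx⟩⟩
  choose k b hb hs using hloc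
  have hc : ∀ i j, b i * X j ^ k j = b j * X i ^ k i := by
    intro i j
    have hXi : (X i : MvPolynomial (Fin (n + 1)) R) ^ k i ∈ CohB1.polyGrading n R (k i) := by
      have := SetLike.pow_mem_graded (k i) (X_mem n R i)
      simpa [smul_eq_mul] using this
    have hXj : (X j : MvPolynomial (Fin (n + 1)) R) ^ k j ∈ CohB1.polyGrading n R (k j) := by
      have := SetLike.pow_mem_graded (k j) (X_mem n R j)
      simpa [smul_eq_mul] using this
    have he : b i * X j ^ k j - b j * X i ^ k i ∈ CohB1.polyGrading n R (k i + d + k j) := by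
      refine Submodule.sub_mem _ (SetLike.mul_mem_graded (hb i) hXj) ?_
      have := SetLike.mul_mem_graded (hb j) hXi
      have e1 : k j + d + k i = k i + d + k j := by omega
      rwa [e1] at this
    obtain ⟨N, hN⟩ := exists_pow_mul_eq_zero (CohB1.polyGrading n R) (d := 1 + 1)
      (by norm_num) (SetLike.mul_mem_graded (X_mem n R i) (X_mem n R j)) he (by
        intro x hx
        have hxi : (X i : MvPolynomial (Fin (n + 1)) R) ∉ x.asHomogeneousIdeal :=
          fun h => hx (Ideal.mul_mem_right _ _ h)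
        have hxj : (X j : MvPolynomial (Fin (n + 1)) R) ∉ x.asHomogeneousIdeal :=
          fun h => hx (Ideal.mul_mem_left _ _ h)
        have e1 := hs i x hxi
        have e2 := hs j x hxj
        rw [e1, Localization.mk_eq_mk_iff, Localization.r_iff_exists] at e2
        obtain ⟨u, hu⟩ := e2
        refine ⟨u.1, u.2, ?_⟩
        simp only at hu
        rw [mul_sub, mul_comm (b i), hu]
        ring)
    rw [← sub_eq_zero]
    apply Poly.mul_X_pow_cancel (i := i) (n := N)
    apply Poly.mul_X_pow_cancel (i := j) (n := N)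
    rw [zero_mul, zero_mul, ← hN]
    ring
  obtain ⟨p, hp, hpa⟩ := Poly.main d b k (fun i => (mem_homogeneousSubmodule _ _).mp (hb i)) hc 0
  have hfinal : ∀ x : ProjectiveSpectrum (CohB1.polyGrading n R),
      ((s.1 ⟨x, trivial⟩ : Twist.twistAt (CohB1.polyGrading n R) d x) :
          Twist.Loc (CohB1.polyGrading n R) x) =
        (Localization.mk p ⟨1, h1p x⟩ : Twist.Loc (CohB1.polyGrading n R) x) := by
    intro x
    obtain ⟨i, hi⟩ := exists_X_notMem n R x
    rw [hs i x hi, Localization.mk_eq_mk_iff, Localization.r_iff_exists]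
    refine ⟨1, ?_⟩
    simp only [OneMemClass.coe_one, one_mul]
    rw [hpa i, mul_comm]
  refine ⟨⟨p, (mem_homogeneousSubmodule _ _).mpr hp⟩, ?_⟩
  apply Subtype.ext
  funext x
  apply Subtype.ext
  exact (hfinal x.1).symm

lemma toGlobal_eq (r : R) :
    Coh.toGlobal (CohB1.ProjSpace.toSpec n R) r =
      psi (CohB1.polyGrading n R) (algebraMap R (CohB1.polyGrading n R 0) r) := by
  unfold Coh.toGlobal psi
  change ((Scheme.ΓSpecIso (CommRingCat.of R)).inv ≫ Scheme.Hom.appTop (X := Proj (CohB1.polyGrading n R))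
    (Proj.toSpecZero (CohB1.polyGrading n R) ≫
      Spec.map (CommRingCat.ofHom (algebraMap R (CohB1.polyGrading n R 0))))).hom r = _
  rw [Scheme.Hom.comp_appTop, ← Scheme.ΓSpecIso_inv_naturality_assoc]
  rfl


theorem globalOf_bijective (d : ℕ) :
    Function.Bijective (fun a : CohB1.polyGrading n R d => Twist.globalOf (CohB1.polyGrading n R) a) :=
  ⟨globalOf_injective n R d, globalOf_surjective n R d⟩

end Groth.Agent.Helper1.ProjSpaceLib
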