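import Mathlib

set_option autoImplicit false
universe u v

namespace Groth.Agent.Helper1.ProjUP1

open HomogeneousLocalization

variable {A S : Type u} [CommRing A] [CommRing S] [Algebra A S] (𝒮 : ℕ → Submodule A S)
  [GradedAlgebra 𝒮]
variable {B : Type v} [CommRing B]

/-- the lift of a ring homomorphism `F : S →+* B` to the degree zero part of `S_t`, when `F t`
is a unit -/
noncomputable def awayLift (F : S →+* B) (t : S) (ht : IsUnit (F t)) : Away 𝒮 t →+* B :=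
  (IsLocalization.Away.lift (S := Localization.Away t) t ht).comp
    (algebraMap (Away 𝒮 t) (Localization.Away t))

theorem awayLift_mk (F : S →+* B) {t : S} {d : ℕ} (hd : t ∈ 𝒮 d) (ht : IsUnit (F t)) (n : ℕ)
    (x : S) (hx : x ∈ 𝒮 (n • d)) :
    awayLift 𝒮 F t ht (Away.mk 𝒮 hd n x hx) = F x * ((ht.unit⁻¹ : Bˣ) : B) ^ n := by
  unfold awayLift
  rw [RingHom.comp_apply, HomogeneousLocalization.algebraMap_apply, Away.val_mk,
    Localization.mk_eq_mk']
  have h1 : IsLocalization.mk' (Localization.Away t) x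
      (⟨t ^ n, ⟨n, rfl⟩⟩ : Submonoid.powers t) * algebraMap S _ (t ^ n) = algebraMap S _ x := by
    exact IsLocalization.mk'_spec _ _ _
  have h2 := congrArg (IsLocalization.Away.lift (S := Localization.Away t) t ht) h1
  rw [map_mul, IsLocalization.Away.lift_eq, IsLocalization.Away.lift_eq, map_pow] at h2
  have h3 : F t * ((ht.unit⁻¹ : Bˣ) : B) = 1 := by
    have := ht.unit.mul_inv
    rw [← Units.val_mul] at *
    simpa using congrArg Units.val this
  calc _ = (IsLocalization.Away.lift (S := Localization.Away t) t ht)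
            (IsLocalization.mk' (Localization.Away t) x
              (⟨t ^ n, ⟨n, rfl⟩⟩ : Submonoid.powers t)) * (F t * ((ht.unit⁻¹ : Bˣ) : B)) ^ n := by
        rw [h3, one_pow, mul_one]
    _ = _ := by rw [mul_pow, ← mul_assoc, h2]

theorem awayLift_ext {t : S} {d : ℕ} (hd : t ∈ 𝒮 d) (G G' : Away 𝒮 t →+* B)
    (h : ∀ (n : ℕ) (x : S) (hx : x ∈ 𝒮 (n • d)), G (Away.mk 𝒮 hd n x hx) =
      G' (Away.mk 𝒮 hd n x hx)) : G = G' := by
  ext z
  obtain ⟨n, a, ha, rfl⟩ := Away.mk_surjective 𝒮 hd z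
  exact h n a ha

/-- (a) compatibility with the transition maps -/
theorem awayLift_comp_awayMap (F : S →+* B) {t g x : S} {d e : ℕ} (hd : t ∈ 𝒮 d) (hg : g ∈ 𝒮 e)
    (hx : x = t * g) (ht : IsUnit (F t)) (hxu : IsUnit (F x)) :
    (awayLift 𝒮 F x hxu).comp (awayMap 𝒮 hg hx) = awayLift 𝒮 F t ht := by
  apply awayLift_ext 𝒮 hd
  intro n a ha
  rw [RingHom.comp_apply, awayMap_mk 𝒮 hg hx n hd a ha, awayLift_mk, awayLift_mk, map_mul,
    map_pow]
  have hgu : IsUnit (F g) := by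
    rw [hx, map_mul] at hxu
    exact isUnit_of_mul_isUnit_right hxu
  have h1 : ((hxu.unit⁻¹ : Bˣ) : B) = ((ht.unit⁻¹ : Bˣ) : B) * ((hgu.unit⁻¹ : Bˣ) : B) := by
    rw [← Units.val_mul, ← mul_inv]
    congr 2
    ext
    simp [hx]
  rw [h1, mul_pow]
  have h2 : F g * ((hgu.unit⁻¹ : Bˣ) : B) = 1 := by
    have := hgu.unit.mul_inv
    simpa using congrArg Units.val this
  calc F a * F g ^ n * (((ht.unit⁻¹ : Bˣ) : B) ^ n * ((hgu.unit⁻¹ : Bˣ) : B) ^ n)
      = F a * ((ht.unit⁻¹ : Bˣ) : B) ^ n * (F g * ((hgu.unit⁻¹ : Bˣ) : B)) ^ n := by ring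
    _ = _ := by rw [h2, one_pow, mul_one]

/-- (b) invariance under twisting by a unit -/
theorem awayLift_eq_of_twist (F F' : S →+* B) (u : Bˣ)
    (h : ∀ (k : ℕ) (s : S), s ∈ 𝒮 k → F' s = (u : B) ^ k * F s) {t : S} {d : ℕ} (hd : t ∈ 𝒮 d)
    (ht : IsUnit (F t)) (ht' : IsUnit (F' t)) :
    awayLift 𝒮 F' t ht' = awayLift 𝒮 F t ht := by
  apply awayLift_ext 𝒮 hd
  intro n a ha
  rw [awayLift_mk, awayLift_mk, h _ a ha]
  have h1 : ((ht'.unit⁻¹ : Bˣ) : B) = ((u⁻¹ : Bˣ) : B) ^ d * ((ht.unit⁻¹ : Bˣ) : B) := by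
    rw [← Units.val_pow_eq_pow_val, ← Units.val_mul, inv_pow, ← mul_inv]
    congr 2
    ext
    simp [h d t hd]
  rw [h1, mul_pow, ← pow_mul, smul_eq_mul, mul_comm d n]
  have h2 : (u : B) * ((u⁻¹ : Bˣ) : B) = 1 := by simp
  calc (u : B) ^ (n * d) * F a * ((((u⁻¹ : Bˣ) : B)) ^ (n * d) * ((ht.unit⁻¹ : Bˣ) : B) ^ n)
      = ((u : B) * ((u⁻¹ : Bˣ) : B)) ^ (n * d) * (F a * ((ht.unit⁻¹ : Bˣ) : B) ^ n) := by ring
    _ = _ := by rw [h2, one_pow, one_mul]

/-- (c) compatibility with ring homomorphisms -/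
theorem comp_awayLift {B' : Type v} [CommRing B'] (ρ : B →+* B') (F : S →+* B) {t : S} {d : ℕ}
    (hd : t ∈ 𝒮 d) (ht : IsUnit (F t)) (ht' : IsUnit ((ρ.comp F) t)) :
    ρ.comp (awayLift 𝒮 F t ht) = awayLift 𝒮 (ρ.comp F) t ht' := by
  apply awayLift_ext 𝒮 hd
  intro n a ha
  rw [RingHom.comp_apply, awayLift_mk, awayLift_mk, map_mul, map_pow, RingHom.comp_apply]
  congr 2
  have h1 : ρ (F t) * ρ ((ht.unit⁻¹ : Bˣ) : B) = 1 := by
    rw [← map_mul]
    have := ht.unit.mul_inv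
    have h2 : F t * ((ht.unit⁻¹ : Bˣ) : B) = 1 := by simpa using congrArg Units.val this
    rw [h2, map_one]
  have h3 : ρ (F t) * ((ht'.unit⁻¹ : B'ˣ) : B') = 1 := by
    have := ht'.unit.mul_inv
    simpa using congrArg Units.val this
  have hu : IsUnit (ρ (F t)) := ht'
  exact (hu.mul_right_injective (h1.trans h3.symm))

/-- the value on the degree zero part -/
theorem awayLift_fromZero (F : S →+* B) {t : S} (ht : IsUnit (F t)) (a : 𝒮 0) :
    awayLift 𝒮 F t ht (fromZeroRingHom 𝒮 _ a) = F a := by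
  unfold awayLift
  rw [RingHom.comp_apply, HomogeneousLocalization.algebraMap_apply]
  change (IsLocalization.Away.lift (S := Localization.Away t) t ht)
    (algebraMap S (Localization.Away t) a) = _
  rw [IsLocalization.Away.lift_eq]

end Groth.Agent.Helper1.ProjUP1
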