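import Mathlib
import Groth.Agent.Lib.Helper1.ProjUP1

set_option autoImplicit false
universe u

open CategoryTheory AlgebraicGeometry TopologicalSpace Opposite HomogeneousLocalization

namespace Groth.Agent.Helper1.ProjUP2

open Groth.Agent.Helper1.ProjUP1

variable {A S : Type u} [CommRing A] [CommRing S] [Algebra A S] (𝒮 : ℕ → Submodule A S)
  [GradedAlgebra 𝒮]
variable {X : Scheme.{u}}

/-- maps `U ⟶ Spec R` are determined by the ring maps `R ⟶ Γ(X, U)` -/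
theorem toSpecΓ_SpecMap_injective (U : X.Opens) {R : CommRingCat.{u}} (α β : R ⟶ Γ(X, U))
    (h : U.toSpecΓ ≫ Spec.map α = U.toSpecΓ ≫ Spec.map β) : α = β := by
  have h1 := congrArg (fun f => Scheme.Hom.appTop f) h
  simp only [Scheme.Hom.comp_appTop, Scheme.Opens.toSpecΓ_appTop] at h1
  have h2 : ∀ γ : R ⟶ Γ(X, U), (Spec.map γ).appTop ≫ (Scheme.ΓSpecIso Γ(X, U)).hom =
      (Scheme.ΓSpecIso R).hom ≫ γ := fun γ => Scheme.ΓSpecIso_naturality γ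
  rw [← Category.assoc, ← Category.assoc, h2, h2, Category.assoc, Category.assoc,
    Iso.cancel_iso_hom_left] at h1
  exact (cancel_mono U.topIso.inv).1 h1

/-- the morphism `U ⟶ Proj 𝒮` attached to a ring map `S_(t) ⟶ Γ(X, U)` -/
noncomputable def locMap (U : X.Opens) {t : S} {d : ℕ} (hd : t ∈ 𝒮 d) (hpos : 0 < d)
    (ψ : Away 𝒮 t →+* Γ(X, U)) : (↑U : Scheme.{u}) ⟶ Proj 𝒮 :=
  U.toSpecΓ ≫ Spec.map (CommRingCat.ofHom ψ) ≫ Proj.awayι 𝒮 t hd hpos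

theorem homOfLE_locMap {U V : X.Opens} (h : V ≤ U) {t : S} {d : ℕ} (hd : t ∈ 𝒮 d) (hpos : 0 < d)
    (ψ : Away 𝒮 t →+* Γ(X, U)) :
    X.homOfLE h ≫ locMap 𝒮 U hd hpos ψ =
      locMap 𝒮 V hd hpos ((X.presheaf.map (homOfLE h).op).hom.comp ψ) := by
  unfold locMap
  rw [← Scheme.Opens.toSpecΓ_SpecMap_presheaf_map_assoc, ← Spec.map_comp_assoc]
  rfl

theorem locMap_awayMap (U : X.Opens) {t g x : S} {d e : ℕ} (hd : t ∈ 𝒮 d) (hpos : 0 < d)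
    (hg : g ∈ 𝒮 e) (hx : x = t * g) (Ψ : Away 𝒮 x →+* Γ(X, U)) :
    locMap 𝒮 U hd hpos (Ψ.comp (awayMap 𝒮 hg hx)) =
      locMap 𝒮 U (hx ▸ SetLike.mul_mem_graded hd hg) (hpos.trans_le (Nat.le_add_right d e)) Ψ := by
  unfold locMap
  rw [CommRingCat.ofHom_comp, Spec.map_comp, Category.assoc,
    Proj.SpecMap_awayMap_awayι 𝒮 hd hpos hg hx]

theorem range_locMap_le (U : X.Opens) {t : S} {d : ℕ} (hd : t ∈ 𝒮 d) (hpos : 0 < d)
    (ψ : Away 𝒮 t →+* Γ(X, U)) (x : ↥U) :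
    (locMap 𝒮 U hd hpos ψ) x ∈ Proj.basicOpen 𝒮 t := by
  rw [← Proj.opensRange_awayι 𝒮 t hd hpos]
  unfold locMap
  exact ⟨_, rfl⟩

/-- **the comorphism of a morphism to `Proj` which is locally of the form `locMap`** -/
theorem awayToSection_appLE (U : X.Opens) {t : S} {d : ℕ} (hd : t ∈ 𝒮 d) (hpos : 0 < d)
    (ψ : Away 𝒮 t →+* Γ(X, U)) (r : X ⟶ Proj 𝒮) (hr : U.ι ≫ r = locMap 𝒮 U hd hpos ψ) :
    ∃ h : U ≤ r ⁻¹ᵁ Proj.basicOpen 𝒮 t,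
      Proj.awayToSection 𝒮 t ≫ r.appLE (Proj.basicOpen 𝒮 t) U h = CommRingCat.ofHom ψ := by
  have h : U ≤ r ⁻¹ᵁ Proj.basicOpen 𝒮 t := by
    intro x hx
    have h1 := range_locMap_le 𝒮 U hd hpos ψ ⟨x, hx⟩
    rw [← hr] at h1
    exact h1
  refine ⟨h, ?_⟩
  apply toSpecΓ_SpecMap_injective
  set D := Proj.basicOpen 𝒮 t with hD
  have e1 : r.resLE D U h ≫ D.ι = U.ι ≫ r := Scheme.Hom.resLE_comp_ι r h
  have e2 : r.resLE D U h = U.toSpecΓ ≫ Spec.map (CommRingCat.ofHom ψ) ≫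
      (Proj.basicOpenIsoSpec 𝒮 t hd hpos).inv := by
    rw [← cancel_mono D.ι, e1, hr]
    simp only [locMap, Category.assoc]
    rfl
  have e3 := Scheme.Opens.toSpecΓ_SpecMap_appLE r D U h
  rw [Spec.map_comp, ← Category.assoc, e3, Category.assoc]
  have e4 : D.toSpecΓ ≫ Spec.map (Proj.awayToSection 𝒮 t) =
      (Proj.basicOpenIsoSpec 𝒮 t hd hpos).hom := by
    rw [Proj.basicOpenIsoSpec_hom]
    rfl
  rw [e4, e2, Category.assoc, Category.assoc, Iso.inv_hom_id, Category.comp_id]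

theorem locMap_toSpecZero (U : X.Opens) {t : S} {d : ℕ} (hd : t ∈ 𝒮 d) (hpos : 0 < d)
    (ψ : Away 𝒮 t →+* Γ(X, U)) :
    locMap 𝒮 U hd hpos ψ ≫ Proj.toSpecZero 𝒮 =
      U.toSpecΓ ≫ Spec.map (CommRingCat.ofHom (ψ.comp (fromZeroRingHom 𝒮 _))) := by
  unfold locMap
  rw [Category.assoc, Category.assoc, Proj.awayι_toSpecZero, ← Spec.map_comp]
  rfl

end Groth.Agent.Helper1.ProjUP2
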