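import Mathlib
import Groth.Prelude.Def_ProjUP
import Groth.Agent.Lib.Helper1.AmpleLib2
import Groth.Agent.Lib.Helper1.TwistAmple

set_option autoImplicit false
universe u

open CategoryTheory AlgebraicGeometry TopologicalSpace Opposite HomogeneousLocalization

namespace Groth.Agent.Helper1.ProjUP5

open Groth.Agent.Helper1.QcCech Groth.Agent.Helper1.SubSh Groth.Agent.Helper1.LGen
open Groth.Agent.Helper1 Groth.Agent.Helper1.AmpleLib Groth.Agent.Helper1.TwistTriv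

variable {A S : Type u} [CommRing A] [CommRing S] [Algebra A S] (𝒮 : ℕ → Submodule A S)
  [GradedAlgebra 𝒮]

set_option synthInstance.maxHeartbeats 400000

/-- (P1) `b` generates `O(1)` over `D₊(b)` -/
theorem isGen_globalOf {d : ℕ} (b : 𝒮 d) :
    IsGen (Twist.twist 𝒮 (d : ℤ)) (Proj.basicOpen 𝒮 (b : S))
      (res (Twist.twist 𝒮 (d : ℤ)) (le_top : Proj.basicOpen 𝒮 (b : S) ≤ ⊤) (Twist.globalOf 𝒮 b)) := by
  have h1 : Proj.basicOpen 𝒮 (b : S) ≤ CohB1.genLocus (Twist.twist 𝒮 (d : ℤ))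
      (TwistAmple.homOfSec (Twist.twist 𝒮 (d : ℤ)) (Twist.globalOf 𝒮 b)) :=
    le_sSup (TwistAmple.isIso_restrict_globalOf 𝒮 b)
  have := isGen_secVal (TwistAmple.homOfSec (Twist.twist 𝒮 (d : ℤ)) (Twist.globalOf 𝒮 b)) h1
  rwa [secVal_homOfSec] at this

/-- (P2) on `D₊(b)`, `a = (a/b) • b` in `O(1)` -/
theorem res_globalOf_eq_smul {a b : S} (ha : a ∈ 𝒮 1) (hb : b ∈ 𝒮 1) (ha' : a ∈ 𝒮 (1 • 1)) :
    res (Twist.twist 𝒮 ((1 : ℕ) : ℤ)) (le_top : Proj.basicOpen 𝒮 b ≤ ⊤)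
        (Twist.globalOf 𝒮 ⟨a, ha⟩) =
      ((Proj.awayToSection 𝒮 b).hom (Away.mk 𝒮 hb 1 a ha') : Γ(Proj 𝒮, Proj.basicOpen 𝒮 b)) •
        res (Twist.twist 𝒮 ((1 : ℕ) : ℤ)) (le_top : Proj.basicOpen 𝒮 b ≤ ⊤)
          (Twist.globalOf 𝒮 ⟨b, hb⟩) := by
  apply Subtype.ext
  funext x
  apply Subtype.ext
  have h := smul_sec_val 𝒮 (m := ((1 : ℕ) : ℤ)) (Proj.basicOpen 𝒮 b)
    ((Proj.awayToSection 𝒮 b).hom (Away.mk 𝒮 hb 1 a ha'))
    (res (Twist.twist 𝒮 ((1 : ℕ) : ℤ)) (le_top : Proj.basicOpen 𝒮 b ≤ ⊤)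
      (Twist.globalOf 𝒮 ⟨b, hb⟩)) x
  refine Eq.trans ?_ h.symm
  have hx : b ∉ x.1.asHomogeneousIdeal := (Proj.mem_basicOpen 𝒮 b x.1).1 x.2
  have h1 : (1 : S) ∉ x.1.asHomogeneousIdeal := TwistTens.one_not_mem 𝒮 x.1
  change (Localization.mk a ⟨1, h1⟩ : Twist.Loc 𝒮 x.1) =
    (HomogeneousLocalization.mapId 𝒮 (Submonoid.powers_le.mpr hx) (Away.mk 𝒮 hb 1 a ha')).val *
      (Localization.mk b ⟨1, h1⟩ : Twist.Loc 𝒮 x.1)
  have h2 : (HomogeneousLocalization.mapId 𝒮 (Submonoid.powers_le.mpr hx)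
      (Away.mk 𝒮 hb 1 a ha')).val =
      (Localization.mk a ⟨b ^ 1, by rw [pow_one]; exact hx⟩ : Twist.Loc 𝒮 x.1) := rfl
  rw [h2, Localization.mk_mul, Localization.mk_eq_mk_iff, Localization.r_iff_exists]
  exact ⟨1, by simp only [OneMemClass.coe_one, Submonoid.coe_mul, one_mul, mul_one, pow_one]; ring⟩

end Groth.Agent.Helper1.ProjUP5
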