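import Mathlib
import Groth.Prelude.Def_Coh
import Groth.Prelude.Def_StMod
import Groth.Agent.Lib.Helper1.QcExt

set_option autoImplicit false
universe u
open CategoryTheory CategoryTheory.Limits AlgebraicGeometry TopologicalSpace Opposite

namespace Groth.Agent.Helper1.PullSec

open Groth.Agent.Helper1.QcCech Groth.Agent.Helper1

variable {X Y Z : Scheme.{u}} (f : X ⟶ Y) (g : Y ⟶ Z)

/-- pulling back sections: the unit of the adjunction on sections -/
noncomputable def σ (M : Y.Modules) (W : Y.Opens) (m : Γ(M, W)) :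
    Γ((Scheme.Modules.pullback f).obj M, f ⁻¹ᵁ W) :=
  ((Scheme.Modules.pullbackPushforwardAdjunction f).unit.app M).app W m

theorem σ_add (M : Y.Modules) (W : Y.Opens) (m m' : Γ(M, W)) :
    σ f M W (m + m') = σ f M W m + σ f M W m' := map_add _ _ _

theorem σ_zero (M : Y.Modules) (W : Y.Opens) : σ f M W 0 = 0 := map_zero _

theorem σ_smul (M : Y.Modules) (W : Y.Opens) (r : Γ(Y, W)) (m : Γ(M, W)) :
    σ f M W (r • m) = (f.app W).hom r • σ f M W m := by
  unfold σ
  rw [Scheme.Modules.Hom.app_smul]
  rfl

theorem σ_res (M : Y.Modules) {W V : Y.Opens} (h : V ≤ W) (m : Γ(M, W)) :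
    res _ (show f ⁻¹ᵁ V ≤ f ⁻¹ᵁ W from fun _ hx => h hx) (σ f M W m) = σ f M V (res M h m) := by
  unfold σ
  exact (QcExt.app_res ((Scheme.Modules.pullbackPushforwardAdjunction f).unit.app M) h m).symm

theorem σ_natural {M N : Y.Modules} (φ : M ⟶ N) (W : Y.Opens) (m : Γ(M, W)) :
    ((Scheme.Modules.pullback f).map φ).app (f ⁻¹ᵁ W) (σ f M W m) = σ f N W (φ.app W m) := by
  unfold σ
  have := (Scheme.Modules.pullbackPushforwardAdjunction f).unit.naturality φ
  have h2 := congrArg (fun ψ => Scheme.Modules.Hom.app ψ W m) this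
  exact h2.symm

instance final_opensMap : (Opens.map f.base).Final := StMod.opensMap_final f

set_option backward.isDefEq.respectTransparency false in
instance isIso_unitToUnit : IsIso (SheafOfModules.pullbackObjUnitToUnit f.toRingCatSheafHom) :=
  inferInstance

set_option backward.isDefEq.respectTransparency false in
/-- the pullback of the structure sheaf is the structure sheaf -/
noncomputable def unitIso :
    (Scheme.Modules.pullback f).obj (Coh.structureModule Y) ≅ Coh.structureModule X :=
  @asIso _ _ _ _ (SheafOfModules.pullbackObjUnitToUnit f.toRingCatSheafHom) (isIso_unitToUnit f)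

set_option backward.isDefEq.respectTransparency false in
theorem unitIso_σ (W : Y.Opens) (r : Γ(Y, W)) :
    (unitIso f).hom.app (f ⁻¹ᵁ W) (σ f (Coh.structureModule Y) W
      (show Γ(Coh.structureModule Y, W) from r)) =
      (show Γ(Coh.structureModule X, f ⁻¹ᵁ W) from (f.app W).hom r) := by
  have h1 := SheafOfModules.pullbackPushforwardAdjunction_homEquiv_pullbackObjUnitToUnit
    f.toRingCatSheafHom
  rw [Adjunction.homEquiv_unit] at h1
  have h2 := congrArg (fun ψ => Scheme.Modules.Hom.app ψ W
    (show Γ(Coh.structureModule Y, W) from r)) h1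
  refine Eq.trans ?_ (h2.trans ?_)
  · rfl
  · rfl

set_option backward.isDefEq.respectTransparency false in
/-- pulling back sections along a composite -/
theorem σ_comp (M : Z.Modules) (W : Z.Opens) (m : Γ(M, W)) :
    ((Scheme.Modules.pullbackComp f g).inv.app M).app ((f ≫ g) ⁻¹ᵁ W) (σ (f ≫ g) M W m) =
      σ f ((Scheme.Modules.pullback g).obj M) (g ⁻¹ᵁ W) (σ g M W m) := by
  have h1 := unit_conjugateEquiv
    ((Scheme.Modules.pullbackPushforwardAdjunction g).comp
      (Scheme.Modules.pullbackPushforwardAdjunction f))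
    (Scheme.Modules.pullbackPushforwardAdjunction (f ≫ g)) (Scheme.Modules.pullbackComp f g).inv M
  rw [Scheme.Modules.conjugateEquiv_pullbackComp_inv, Adjunction.comp_unit_app] at h1
  have h2 := congrArg (fun ψ => Scheme.Modules.Hom.app ψ W m) h1
  exact h2.symm

/-- pulling back sections along equal morphisms -/
theorem σ_congr {f f' : X ⟶ Y} (h : f = f') (M : Y.Modules) (W : Y.Opens) (m : Γ(M, W)) :
    ((Scheme.Modules.pullbackCongr h).hom.app M).app (f' ⁻¹ᵁ W)
      (res _ (le_of_eq (by rw [h]) : f' ⁻¹ᵁ W ≤ f ⁻¹ᵁ W) (σ f M W m)) = σ f' M W m := by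
  subst h
  rw [QcCech.res_self]
  simp [Scheme.Modules.pullbackCongr]

theorem σ_congr' {f f' : X ⟶ Y} (h : f = f') (M : Y.Modules) (W : Y.Opens) (m : Γ(M, W)) :
    ((Scheme.Modules.pullbackCongr h).hom.app M).app (f ⁻¹ᵁ W) (σ f M W m) =
      res _ (le_of_eq (by rw [h]) : f ⁻¹ᵁ W ≤ f' ⁻¹ᵁ W) (σ f' M W m) := by
  subst h
  rw [QcCech.res_self]
  simp [Scheme.Modules.pullbackCongr]

/-- restriction along an equality of opens is injective -/
theorem res_injective_of_eq (M : X.Modules) {O O' : X.Opens} (h : O' = O) :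
    Function.Injective (res M (le_of_eq h)) := by
  subst h
  intro x y hxy
  rwa [QcCech.res_self, QcCech.res_self] at hxy

set_option backward.isDefEq.respectTransparency false in
/-- pulling back sections along an open immersion is restriction -/
theorem σ_openImmersion (j : X ⟶ Y) [IsOpenImmersion j] (M : Y.Modules) (W : Y.Opens)
    (m : Γ(M, W)) :
    ((Scheme.Modules.restrictFunctorIsoPullback j).hom.app M).app (j ⁻¹ᵁ W)
      (show Γ(M.restrict j, j ⁻¹ᵁ W) from res M (j.image_preimage_le W) m) = σ j M W m := by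
  have h1 := Adjunction.unit_leftAdjointUniq_hom_app (Scheme.Modules.restrictAdjunction j)
    (Scheme.Modules.pullbackPushforwardAdjunction j) M
  have h2 := congrArg (fun ψ => Scheme.Modules.Hom.app ψ W m) h1
  exact h2

end Groth.Agent.Helper1.PullSec
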