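import Mathlib
import Groth.Agent.Lib.Helper1.PullSec
import Groth.Agent.Lib.Helper1.TwForm4
import Groth.Agent.Lib.Helper1.LGen

set_option autoImplicit false
universe u
open CategoryTheory CategoryTheory.Limits AlgebraicGeometry TopologicalSpace Opposite

namespace Groth.Agent.Helper1.PullGen

open Groth.Agent.Helper1.QcCech Groth.Agent.Helper1.SubSh Groth.Agent.Helper1.LGen
open Groth.Agent.Helper1 Groth.Agent.Helper1.PullSec Groth.Agent.Helper1.TwForm

variable {X : Scheme.{u}}

/-- a trivialization gives a free generator -/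
theorem isGen_of_iso {L : X.Modules} (U : X.Opens)
    (e : L.restrict U.ι ≅ Coh.structureModule (↑U : Scheme.{u})) :
    IsGen L (U.ι ''ᵁ ⊤) (e.inv.app ⊤
      (show Γ(Coh.structureModule (↑U : Scheme.{u}), ⊤) from (1 : Γ(↑U, ⊤)))) := by
  set a : Γ(L, U.ι ''ᵁ ⊤) := e.inv.app ⊤
    (show Γ(Coh.structureModule (↑U : Scheme.{u}), ⊤) from (1 : Γ(↑U, ⊤))) with ha
  intro V hV
  obtain ⟨V', rfl⟩ : ∃ V' : (↑U : Scheme.{u}).Opens, V = U.ι ''ᵁ V' :=
    ⟨U.ι ⁻¹ᵁ V, (image_preimage_eq_of_le U.ι (by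
      rw [← Scheme.Hom.image_top_eq_opensRange]; exact hV)).symm⟩
  have hb : Function.Bijective (e.inv.app V') := by
    have : IsIso (e.inv.app V') := inferInstance
    exact (ConcreteCategory.isIso_iff_bijective _).1 this
  have hb2 : Function.Bijective ((U.ι.appIso V').hom.hom) :=
    (ConcreteCategory.isIso_iff_bijective (U.ι.appIso V').hom).1 inferInstance
  let one' : Γ(Coh.structureModule (↑U : Scheme.{u}), V') := (1 : Γ(↑U, V'))
  have key : ∀ r : Γ(X, U.ι ''ᵁ V'), r • res L hV a =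
      e.inv.app V' (show Γ(Coh.structureModule (↑U : Scheme.{u}), V') from
        (U.ι.appIso V').hom.hom r) := by
    intro r
    have h1 : res L hV a = e.inv.app V' one' := by
      have := QcExt.app_res e.inv (le_top : V' ≤ ⊤)
        (show Γ(Coh.structureModule (↑U : Scheme.{u}), ⊤) from (1 : Γ(↑U, ⊤)))
      change res (L.restrict U.ι) (le_top : V' ≤ ⊤) (e.inv.app ⊤ _) = _
      rw [← this]
      congr 1
      exact map_one (resR (le_top : V' ≤ ⊤))
    have h2 : (show Γ(Coh.structureModule (↑U : Scheme.{u}), V') from (U.ι.appIso V').hom.hom r) =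
        (U.ι.appIso V').hom.hom r • one' := by
      change _ = (U.ι.appIso V').hom.hom r * (1 : Γ(↑U, V'))
      rw [mul_one]
    rw [h2, Scheme.Modules.Hom.app_smul, ← h1, smul_restrict]
    change r • res L hV a = (U.ι.appIso V').inv.hom ((U.ι.appIso V').hom.hom r) • res L hV a
    congr 1
    exact (congr($((U.ι.appIso V').hom_inv_id) r)).symm
  have : (fun r : Γ(X, U.ι ''ᵁ V') => r • res L hV a) =
      (e.inv.app V') ∘ (fun r => (show Γ(Coh.structureModule (↑U : Scheme.{u}), V') from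
        (U.ι.appIso V').hom.hom r)) := by
    funext r
    exact key r
  rw [this]
  exact hb.comp hb2

/-- transport of a generator along an equality of opens -/
theorem isGen_of_eq {L : X.Modules} {W W₁ : X.Opens} (h : W₁ = W) (b : Γ(L, W))
    (hb : IsGen L W₁ (res L (le_of_eq h) b)) : IsGen L W b := by
  subst h
  rwa [QcCech.res_self] at hb

/-- a trivialization of the restriction sending `1` to `b` makes `b` a free generator -/
theorem isGen_of_iso' {L : X.Modules} (U : X.Opens) (b : Γ(L, U))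
    (ψ : Coh.structureModule (↑U : Scheme.{u}) ⟶ L.restrict U.ι) [IsIso ψ]
    (hψ : ψ.app ⊤ (show Γ(Coh.structureModule (↑U : Scheme.{u}), ⊤) from (1 : Γ(↑U, ⊤))) =
      (show Γ(L.restrict U.ι, ⊤) from res L (U.ι_image_le ⊤) b)) : IsGen L U b := by
  have h1 := isGen_of_iso U (asIso ψ).symm
  have htop : U.ι ''ᵁ ⊤ = U := by simp
  apply isGen_of_eq htop
  convert h1 using 1
  exact hψ.symm

/-- a free generator gives a trivialization (the morphism attached to the generator is an iso) -/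
theorem isIso_homOfSec_of_isGen {A : X.Modules} {W : X.Opens} {σ₀ : Γ(A, W)}
    (hσ : IsGen A W σ₀) :
    IsIso (TwistAmple.homOfSec (A.restrict W.ι)
      (show Γ(A.restrict W.ι, ⊤) from QcCech.res A (W.ι_image_le ⊤) σ₀)) := by
  have htop : W.ι ''ᵁ ⊤ ≤ W := W.ι_image_le ⊤
  let σ' : Γ(A.restrict W.ι, ⊤) := QcCech.res A htop σ₀
  let φ := TwistAmple.homOfSec (A.restrict W.ι) σ'
  change IsIso φ
  apply isIso_of_app_bijective
  intro V
  have hV : W.ι ''ᵁ V ≤ W := W.ι_image_le V
  have hb2 : Function.Bijective ((W.ι.appIso V).inv.hom) :=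
    (ConcreteCategory.isIso_iff_bijective (W.ι.appIso V).inv).1 inferInstance
  have key : ∀ r : Γ(↑W, V), φ.app V (show Γ(Coh.structureModule (↑W : Scheme.{u}), V) from r) =
      (show Γ(A.restrict W.ι, V) from ((W.ι.appIso V).inv.hom r • QcCech.res A hV σ₀)) := by
    intro r
    have h1 : φ.app V (show Γ(Coh.structureModule (↑W : Scheme.{u}), V) from r) =
        r • QcCech.res (A.restrict W.ι) (le_top : V ≤ ⊤) σ' :=
      TwistAmple.homOfSec_app (A.restrict W.ι) σ' V r
    rw [h1, smul_restrict, res_restrict]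
    change (show Γ(A.restrict W.ι, V) from ((W.ι.appIso V).inv.hom r •
      QcCech.res A _ (QcCech.res A htop σ₀))) = _
    rw [QcCech.res_res]
    rfl
  have : (fun r => φ.app V r) =
      (fun r' : Γ(X, W.ι ''ᵁ V) => (show Γ(A.restrict W.ι, V) from r' • QcCech.res A hV σ₀)) ∘
        (fun r : Γ(↑W, V) => (W.ι.appIso V).inv.hom r) := by
    funext r
    exact key r
  change Function.Bijective (fun r => φ.app V r)
  rw [this]
  exact (hσ _ hV).comp hb2

theorem iso_inv_hom_app {M N : X.Modules} (e : M ≅ N) (O : X.Opens) (x : Γ(M, O)) :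
    e.inv.app O (e.hom.app O x) = x :=
  congrArg (fun ψ => Scheme.Modules.Hom.app ψ O x) e.hom_inv_id

theorem iso_hom_inv_app {M N : X.Modules} (e : M ≅ N) (O : X.Opens) (x : Γ(N, O)) :
    e.hom.app O (e.inv.app O x) = x :=
  congrArg (fun ψ => Scheme.Modules.Hom.app ψ O x) e.inv_hom_id

section Main

variable {Z S : Scheme.{u}} (u : Z ⟶ S)

set_option maxHeartbeats 800000 in
/-- **the pullback of a free generator is a free generator** -/
theorem isGen_σ {L : S.Modules} {W : S.Opens} {a : Γ(L, W)} (ha : IsGen L W a) :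
    IsGen ((Scheme.Modules.pullback u).obj L) (u ⁻¹ᵁ W) (σ u L W a) := by
  set W' : Z.Opens := u ⁻¹ᵁ W with hW'
  let j := W.ι
  let j' := W'.ι
  let u' : (↑W' : Scheme.{u}) ⟶ ↑W := u ∣_ W
  have hcomm : u' ≫ j = j' ≫ u := morphismRestrict_ι u W
  let a' : Γ(L.restrict j, ⊤) := res L (W.ι_image_le ⊤) a
  let φ := TwistAmple.homOfSec (L.restrict j) a'
  have hφ : IsIso φ := isIso_homOfSec_of_isGen ha
  let L' := (Scheme.Modules.pullback u).obj L
  let b : Γ(L', W') := σ u L W a
  let ψ : Coh.structureModule (↑W' : Scheme.{u}) ⟶ L'.restrict j' :=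
    (unitIso u').inv ≫ (Scheme.Modules.pullback u').map φ ≫
      (Scheme.Modules.pullback u').map ((Scheme.Modules.restrictFunctorIsoPullback j).hom.app L) ≫
      (Scheme.Modules.pullbackComp u' j).hom.app L ≫
      (Scheme.Modules.pullbackCongr hcomm).hom.app L ≫
      (Scheme.Modules.pullbackComp j' u).inv.app L ≫
      (Scheme.Modules.restrictFunctorIsoPullback j').inv.app L'
  have hψ : IsIso ψ := by
    dsimp only [ψ]
    infer_instance
  apply isGen_of_iso' W' b ψ
  let O₁ : (↑W' : Scheme.{u}).Opens := u' ⁻¹ᵁ (j ⁻¹ᵁ W)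
  have hO₁ : O₁ = ⊤ := by
    have : j ⁻¹ᵁ W = ⊤ := W.ι_preimage_self
    change u' ⁻¹ᵁ (j ⁻¹ᵁ W) = ⊤
    rw [this]
    rfl
  apply res_injective_of_eq (L'.restrict j') hO₁
  rw [← QcExt.app_res]
  -- step 0
  have h0 : (unitIso u').inv.app O₁ (show Γ(Coh.structureModule (↑W' : Scheme.{u}), O₁) from
      (1 : Γ(↑W', O₁))) = σ u' (Coh.structureModule (↑W : Scheme.{u})) (j ⁻¹ᵁ W)
        (show Γ(Coh.structureModule (↑W : Scheme.{u}), j ⁻¹ᵁ W) from (1 : Γ(↑W, j ⁻¹ᵁ W))) := by
    have := unitIso_σ u' (j ⁻¹ᵁ W) (1 : Γ(↑W, j ⁻¹ᵁ W))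
    rw [map_one] at this
    rw [← this, iso_inv_hom_app]
  -- step 1
  have h1 : φ.app (j ⁻¹ᵁ W) (show Γ(Coh.structureModule (↑W : Scheme.{u}), j ⁻¹ᵁ W) from
      (1 : Γ(↑W, j ⁻¹ᵁ W))) =
      (show Γ(L.restrict j, j ⁻¹ᵁ W) from res L (j.image_preimage_le W) a) := by
    have h := TwistAmple.homOfSec_app (L.restrict j) a' (j ⁻¹ᵁ W) 1
    rw [one_smul] at h
    refine h.trans ?_
    change res (L.restrict j) (le_top : j ⁻¹ᵁ W ≤ ⊤) a' = _
    rw [res_restrict]
    change res L _ (res L _ a) = _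
    rw [QcCech.res_res]
  -- step 3
  have h3 : ((Scheme.Modules.pullbackComp u' j).hom.app L).app O₁
      (σ u' ((Scheme.Modules.pullback j).obj L) (j ⁻¹ᵁ W) (σ j L W a)) = σ (u' ≫ j) L W a := by
    rw [← σ_comp u' j L W a]
    exact iso_hom_inv_app ((Scheme.Modules.pullbackComp u' j).app L) _ _
  -- step 5
  have hle : O₁ ≤ (j' ≫ u) ⁻¹ᵁ W := le_of_eq (by rw [← hcomm]; rfl)
  have h5 : ((Scheme.Modules.pullbackComp j' u).inv.app L).app O₁
      (res _ hle (σ (j' ≫ u) L W a)) = res _ hle (σ j' L' W' b) := by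
    rw [QcExt.app_res, σ_comp j' u L W a]
    rfl
  -- step 6
  have h6 : ((Scheme.Modules.restrictFunctorIsoPullback j').inv.app L').app O₁
      (res _ hle (σ j' L' W' b)) = res (L'.restrict j') hle
        (show Γ(L'.restrict j', j' ⁻¹ᵁ W') from res L' (j'.image_preimage_le W') b) := by
    rw [QcExt.app_res, ← σ_openImmersion j' L' W' b]
    congr 1
    exact iso_inv_hom_app ((Scheme.Modules.restrictFunctorIsoPullback j').app L') _ _
  have h4 : ((Scheme.Modules.pullbackCongr hcomm).hom.app L).app O₁ (σ (u' ≫ j) L W a) =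
      res _ hle (σ (j' ≫ u) L W a) := σ_congr' hcomm L W a
  -- assemble
  have hψ1 : ψ.app O₁ (show Γ(Coh.structureModule (↑W' : Scheme.{u}), O₁) from
      (1 : Γ(↑W', O₁))) = res (L'.restrict j') hle
        (show Γ(L'.restrict j', j' ⁻¹ᵁ W') from res L' (j'.image_preimage_le W') b) := by
    change ((Scheme.Modules.restrictFunctorIsoPullback j').inv.app L').app O₁
      (((Scheme.Modules.pullbackComp j' u).inv.app L).app O₁
        (((Scheme.Modules.pullbackCongr hcomm).hom.app L).app O₁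
          (((Scheme.Modules.pullbackComp u' j).hom.app L).app O₁
            (((Scheme.Modules.pullback u').map
              ((Scheme.Modules.restrictFunctorIsoPullback j).hom.app L)).app O₁
              (((Scheme.Modules.pullback u').map φ).app O₁
                ((unitIso u').inv.app O₁ _)))))) = _
    rw [h0, σ_natural u' φ, h1, σ_natural u', σ_openImmersion j L W a, h3, h4, h5, h6]
  have hone : res (Coh.structureModule (↑W' : Scheme.{u})) (le_of_eq hO₁ : O₁ ≤ ⊤)
      (show Γ(Coh.structureModule (↑W' : Scheme.{u}), ⊤) from (1 : Γ(↑W', ⊤))) =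
      (show Γ(Coh.structureModule (↑W' : Scheme.{u}), O₁) from (1 : Γ(↑W', O₁))) :=
    map_one (resR (le_of_eq hO₁ : O₁ ≤ ⊤))
  rw [hone, hψ1, res_restrict, res_restrict]
  change res L' _ (res L' _ b) = res L' _ (res L' _ b)
  rw [QcCech.res_res, QcCech.res_res]

end Main

end Groth.Agent.Helper1.PullGen
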