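import Mathlib
import Groth.Agent.Lib.Helper1.PullGen
import Groth.Agent.Lib.Helper1.AmpleLib2

set_option autoImplicit false
universe u
open CategoryTheory CategoryTheory.Limits AlgebraicGeometry TopologicalSpace Opposite

namespace Groth.Agent.Helper1.PullGen

open Groth.Agent.Helper1.QcCech Groth.Agent.Helper1.SubSh Groth.Agent.Helper1.LGen
open Groth.Agent.Helper1 Groth.Agent.Helper1.PullSec Groth.Agent.Helper1.TwForm
open Groth.Agent.Helper1.AmpleLib

variable {Z S : Scheme.{u}} (u : Z ⟶ S)

/-- the pullback of an invertible module is invertible -/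
theorem isInvertible_pullback {L : S.Modules} (hL : PicF.IsInvertible L) :
    PicF.IsInvertible ((Scheme.Modules.pullback u).obj L) := by
  apply isInvertible_of_locGen
  intro z
  obtain ⟨W, a, hxW, ha⟩ := exists_isGen hL (u z)
  exact ⟨u ⁻¹ᵁ W, σ u L W a, hxW, isGen_σ u ha⟩

/-- free generators are transported by isomorphisms -/
theorem isGen_of_iso_app {X : Scheme.{u}} {M N : X.Modules} (e : M ≅ N) {W : X.Opens}
    {a : Γ(M, W)} (ha : IsGen M W a) : IsGen N W (e.hom.app W a) := by
  intro V hV
  have h1 := ha V hV
  have hb : Function.Bijective (e.hom.app V) := by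
    have : IsIso (e.hom.app V) := inferInstance
    exact (ConcreteCategory.isIso_iff_bijective _).1 this
  have : (fun r : Γ(X, V) => r • res N hV (e.hom.app W a)) =
      (e.hom.app V) ∘ (fun r : Γ(X, V) => r • res M hV a) := by
    funext r
    change _ = e.hom.app V (r • res M hV a)
    rw [Scheme.Modules.Hom.app_smul, QcExt.app_res]
  rw [this]
  exact hb.comp h1

/-- **the locus where a pulled back section generates is the preimage** -/
theorem genLocus_pullback {L : S.Modules} (hL : PicF.IsInvertible L)
    (s : Coh.structureModule S ⟶ L)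
    (e : Coh.structureModule Z ≅ (Scheme.Modules.pullback u).obj (Coh.structureModule S)) :
    CohB1.genLocus ((Scheme.Modules.pullback u).obj L)
      (e.hom ≫ (Scheme.Modules.pullback u).map s) = u ⁻¹ᵁ CohB1.genLocus L s := by
  set L' := (Scheme.Modules.pullback u).obj L
  set s' := e.hom ≫ (Scheme.Modules.pullback u).map s
  ext z
  obtain ⟨W, a, hxW, ha⟩ := exists_isGen hL (u z)
  obtain ⟨r, hr⟩ := ha.exists_coeff (secVal s W)
  have h1 := genLocus_inf_eq_basicOpen s ha r hr
  set W' : Z.Opens := u ⁻¹ᵁ W
  have hb := isGen_σ u ha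
  -- the two generators of the pullback of the structure sheaf
  have hc : IsGen ((Scheme.Modules.pullback u).obj (Coh.structureModule S)) W'
      (e.hom.app W' (one' W')) := isGen_of_iso_app e (isGen_one' W')
  have hc' : IsGen ((Scheme.Modules.pullback u).obj (Coh.structureModule S)) W'
      (σ u (Coh.structureModule S) W (one' W)) := isGen_σ u (isGen_one' W)
  obtain ⟨v, hv⟩ := IsGen.exists_unit hc' hc
  have h2 : secVal s' W' = ((v : Γ(Z, W')) * (u.app W).hom r) • σ u L W a := by
    have h3 : secVal s' W' = s'.app W' (one' W') := by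
      have := app_eq_smul s' W' 1
      rw [one_smul] at this
      exact this.symm
    rw [h3]
    change ((Scheme.Modules.pullback u).map s).app W' (e.hom.app W' (one' W')) = _
    rw [hv, Scheme.Modules.Hom.app_smul, σ_natural u s W (one' W)]
    have h4 : s.app W (one' W) = secVal s W := by
      have := app_eq_smul s W 1
      rw [one_smul] at this
      exact this
    rw [h4, ← hr, σ_smul, mul_smul]
  have h5 := genLocus_inf_eq_basicOpen s' hb _ h2.symm
  have h6 : Z.basicOpen ((v : Γ(Z, W')) * (u.app W).hom r) = u ⁻¹ᵁ S.basicOpen r := by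
    rw [Scheme.basicOpen_mul, Scheme.basicOpen_of_isUnit _ v.isUnit, Scheme.preimage_basicOpen]
    apply le_antisymm inf_le_right
    exact le_inf (Scheme.basicOpen_le _ _) le_rfl
  have hzW' : z ∈ W' := hxW
  constructor
  · intro hz
    have : z ∈ CohB1.genLocus L' s' ⊓ W' := ⟨hz, hzW'⟩
    rw [h5, h6, ← h1] at this
    exact this.1
  · intro hz
    have : z ∈ u ⁻¹ᵁ (CohB1.genLocus L s ⊓ W) := ⟨hz, hxW⟩
    rw [h1, ← h6, ← h5] at this
    exact this.1

end Groth.Agent.Helper1.PullGen
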