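import Mathlib
import Groth.Prelude.Def_ProjUP
import Groth.Agent.Lib.Helper1.ProjUP5
import Groth.Agent.Lib.Helper1.ProjUP2
import Groth.Agent.Lib.Helper1.PullGen2
import Groth.Agent.Lib.Helper1.AmpleRestr
import Groth.Agent.Lib.Helper1.ProjGlobal

set_option autoImplicit false
universe u

open CategoryTheory AlgebraicGeometry TopologicalSpace Opposite HomogeneousLocalization

namespace Groth.Agent.Helper1.ProjUP7

open Groth.Agent.Helper1.QcCech Groth.Agent.Helper1.SubSh Groth.Agent.Helper1.LGen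
open Groth.Agent.Helper1 Groth.Agent.Helper1.AmpleLib
open Groth.Agent.Helper1.ProjUP5 Groth.Agent.Helper1.PullSec Groth.Agent.Helper1.PullGen

set_option synthInstance.maxHeartbeats 400000

variable {X : Scheme.{u}}
variable {A S : Type u} [CommRing A] [CommRing S] [Algebra A S] (𝒮 : ℕ → Submodule A S)
  [GradedAlgebra 𝒮] {K : Type*} (t : K → S) (ht : ∀ k, t k ∈ 𝒮 1)

/-- `O(1)` -/
noncomputable abbrev O1 : (Proj 𝒮).Modules := Twist.twist 𝒮 ((1 : ℕ) : ℤ)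

/-- the coordinate sections -/
noncomputable def T (k : K) : Γ(O1 𝒮, ⊤) := Twist.globalOf 𝒮 ⟨t k, ht k⟩

/-- the basic opens -/
noncomputable abbrev D (k : K) : (Proj 𝒮).Opens := Proj.basicOpen 𝒮 (t k)

include ht in
theorem h11 (k : K) : t k ∈ 𝒮 (1 • 1) := by simpa using ht k

/-- the transition functions `t_l / t_k` on `D₊(t_k)` -/
noncomputable def c (k l : K) : Γ(Proj 𝒮, D 𝒮 t k) :=
  (Proj.awayToSection 𝒮 (t k)).hom (Away.mk 𝒮 (ht k) 1 (t l) (h11 𝒮 t ht l))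

theorem res_T (k l : K) :
    res (O1 𝒮) (le_top : D 𝒮 t k ≤ ⊤) (T 𝒮 t ht l) =
      c 𝒮 t ht k l • res (O1 𝒮) (le_top : D 𝒮 t k ≤ ⊤) (T 𝒮 t ht k) :=
  res_globalOf_eq_smul 𝒮 (ht l) (ht k) (h11 𝒮 t ht l)

theorem isGen_T (k : K) : IsGen (O1 𝒮) (D 𝒮 t k) (res (O1 𝒮) (le_top : D 𝒮 t k ≤ ⊤) (T 𝒮 t ht k)) :=
  isGen_globalOf 𝒮 (⟨t k, ht k⟩ : 𝒮 1)

variable (hcov : ∀ x : Proj 𝒮, ∃ k, x ∈ D 𝒮 t k)

include hcov in
theorem genLocus_T (k : K) :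
    CohB1.genLocus (O1 𝒮) (TwistAmple.homOfSec (O1 𝒮) (T 𝒮 t ht k)) = D 𝒮 t k := by
  apply TwistAmple.genLocus_globalOf 𝒮 (⟨t k, ht k⟩ : 𝒮 1)
  intro x
  obtain ⟨l, hl⟩ := hcov x
  exact ⟨⟨t l, ht l⟩, (Proj.mem_basicOpen 𝒮 (t l) x).1 hl⟩

include hcov in
theorem basicOpen_c (k l : K) : (Proj 𝒮).basicOpen (c 𝒮 t ht k l) = D 𝒮 t l ⊓ D 𝒮 t k := by
  have h := genLocus_inf_eq_basicOpen (TwistAmple.homOfSec (O1 𝒮) (T 𝒮 t ht l)) (isGen_T 𝒮 t ht k)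
    (c 𝒮 t ht k l) (by rw [secVal_homOfSec]; exact (res_T 𝒮 t ht k l).symm)
  rw [← h, genLocus_T 𝒮 t ht hcov]

section Morphism

variable (r : X ⟶ Proj 𝒮)

/-- the pulled back coordinate sections -/
noncomputable def pt (k : K) : Γ((Scheme.Modules.pullback r).obj (O1 𝒮), ⊤) :=
  σ r (O1 𝒮) ⊤ (T 𝒮 t ht k)

/-- the generator of `r^* O(1)` over `r⁻¹ D₊(t_k)` -/
noncomputable def g (k : K) : Γ((Scheme.Modules.pullback r).obj (O1 𝒮), r ⁻¹ᵁ D 𝒮 t k) :=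
  σ r (O1 𝒮) (D 𝒮 t k) (res (O1 𝒮) (le_top : D 𝒮 t k ≤ ⊤) (T 𝒮 t ht k))

theorem isGen_g (k : K) : IsGen _ (r ⁻¹ᵁ D 𝒮 t k) (g 𝒮 t ht r k) := isGen_σ r (isGen_T 𝒮 t ht k)

theorem res_pt (k l : K) (h : r ⁻¹ᵁ D 𝒮 t k ≤ (⊤ : X.Opens)) :
    res _ h (pt 𝒮 t ht r l) = (r.app (D 𝒮 t k)).hom (c 𝒮 t ht k l) • g 𝒮 t ht r k := by
  have e1 : res _ h (pt 𝒮 t ht r l) =
      σ r (O1 𝒮) (D 𝒮 t k) (res (O1 𝒮) (le_top : D 𝒮 t k ≤ ⊤) (T 𝒮 t ht l)) :=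
    σ_res r (O1 𝒮) (le_top : D 𝒮 t k ≤ ⊤) (T 𝒮 t ht l)
  rw [e1, res_T, σ_smul]
  rfl

include hcov in
/-- `r⁻¹ D₊(t_k)` is the locus where the pulled back coordinate generates -/
theorem genLocus_pt (k : K) :
    CohB1.genLocus _ (TwistAmple.homOfSec _ (pt 𝒮 t ht r k)) = r ⁻¹ᵁ D 𝒮 t k := by
  apply le_antisymm
  · intro x hx
    obtain ⟨j, hj⟩ := hcov (r x)
    have hφ : (r.app (D 𝒮 t j)).hom (c 𝒮 t ht j k) • g 𝒮 t ht r j =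
        secVal (TwistAmple.homOfSec _ (pt 𝒮 t ht r k)) (r ⁻¹ᵁ D 𝒮 t j) := by
      rw [secVal_homOfSec]
      exact (res_pt 𝒮 t ht r j k _).symm
    have h1 := genLocus_inf_eq_basicOpen (TwistAmple.homOfSec _ (pt 𝒮 t ht r k))
      (isGen_g 𝒮 t ht r j) _ hφ
    have h2 : x ∈ CohB1.genLocus _ (TwistAmple.homOfSec _ (pt 𝒮 t ht r k)) ⊓ r ⁻¹ᵁ D 𝒮 t j :=
      ⟨hx, hj⟩
    rw [h1, ← Scheme.preimage_basicOpen, basicOpen_c 𝒮 t ht hcov] at h2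
    exact h2.1
  · apply le_genLocus_of_isGen
    rw [secVal_homOfSec]
    have e1 : res _ (le_top : r ⁻¹ᵁ D 𝒮 t k ≤ ⊤) (pt 𝒮 t ht r k) = g 𝒮 t ht r k :=
      σ_res r (O1 𝒮) (le_top : D 𝒮 t k ≤ ⊤) (T 𝒮 t ht k)
    rw [e1]
    exact isGen_g 𝒮 t ht r k

end Morphism

section Uniq

include hcov in
/-- **a morphism to `Proj` is determined by the pulled back `O(1)` with its coordinate
sections** -/
theorem hom_ext_of_iso
    (hext' : ∀ (k : K) {B : Type u} [CommRing B] (ρ ρ' : Away 𝒮 (t k) →+* B),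
      (∀ a : 𝒮 0, ρ (fromZeroRingHom 𝒮 _ a) = ρ' (fromZeroRingHom 𝒮 _ a)) →
      (∀ l, ρ (Away.mk 𝒮 (ht k) 1 (t l) (h11 𝒮 t ht l)) =
        ρ' (Away.mk 𝒮 (ht k) 1 (t l) (h11 𝒮 t ht l))) → ρ = ρ')
    (r r' : X ⟶ Proj 𝒮)
    (hbase : ∀ a : 𝒮 0, r.appTop.hom (ProjGlobal.psi 𝒮 a) = r'.appTop.hom (ProjGlobal.psi 𝒮 a))
    (τ : (Scheme.Modules.pullback r).obj (O1 𝒮) ≅ (Scheme.Modules.pullback r').obj (O1 𝒮))
    (hτ : ∀ k, τ.hom.app ⊤ (pt 𝒮 t ht r k) = pt 𝒮 t ht r' k) : r = r' := by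
  -- Step A: the preimages of the basic opens agree
  have hτres : ∀ (k : K) (W : X.Opens) (h : W ≤ ⊤),
      τ.hom.app W (res _ h (pt 𝒮 t ht r k)) = res _ h (pt 𝒮 t ht r' k) := by
    intro k W h
    rw [QcExt.app_res, hτ]
  have hA : ∀ k, r ⁻¹ᵁ D 𝒮 t k = r' ⁻¹ᵁ D 𝒮 t k := by
    intro k
    rw [← genLocus_pt 𝒮 t ht hcov r k, ← genLocus_pt 𝒮 t ht hcov r' k]
    ext x
    change x ∈ CohB1.genLocus _ _ ↔ x ∈ CohB1.genLocus _ _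
    rw [mem_genLocus_iff_isGen, mem_genLocus_iff_isGen]
    constructor
    · rintro ⟨W, hxW, hW⟩
      refine ⟨W, hxW, ?_⟩
      rw [secVal_homOfSec] at hW ⊢
      rw [← hτres k W le_top]
      exact isGen_of_iso_app τ hW
    · rintro ⟨W, hxW, hW⟩
      refine ⟨W, hxW, ?_⟩
      rw [secVal_homOfSec] at hW ⊢
      rw [← hτres k W le_top] at hW
      have := isGen_of_iso_app τ.symm hW
      rwa [Iso.symm_hom, iso_inv_hom_app] at this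
  apply Scheme.hom_ext_of_forall
  intro x
  obtain ⟨k, hk⟩ := hcov (r x)
  set V : X.Opens := r ⁻¹ᵁ D 𝒮 t k with hV
  have hVV' : V ≤ r' ⁻¹ᵁ D 𝒮 t k := (hA k).le
  refine ⟨V, hk, ?_⟩
  -- the two ring maps
  let ρ : Away 𝒮 (t k) →+* Γ(X, V) :=
    (r.appLE (D 𝒮 t k) V le_rfl).hom.comp (Proj.awayToSection 𝒮 (t k)).hom
  let ρ' : Away 𝒮 (t k) →+* Γ(X, V) :=
    (r'.appLE (D 𝒮 t k) V hVV').hom.comp (Proj.awayToSection 𝒮 (t k)).hom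
  have hρ : ρ = ρ' := by
    apply hext' k
    · intro a
      change (r.appLE (D 𝒮 t k) V le_rfl).hom ((Proj.awayToSection 𝒮 (t k)).hom _) =
        (r'.appLE (D 𝒮 t k) V hVV').hom ((Proj.awayToSection 𝒮 (t k)).hom _)
      rw [← ProjGlobal.psi_res 𝒮 (t k) (ht k) one_pos a]
      have e1 : ∀ (f : X ⟶ Proj 𝒮) (e : V ≤ f ⁻¹ᵁ D 𝒮 t k) (z : Γ(Proj 𝒮, ⊤)),
          (f.appLE (D 𝒮 t k) V e).hom
            (((Proj 𝒮).presheaf.map (homOfLE (le_top : D 𝒮 t k ≤ ⊤)).op).hom z) =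
          (X.presheaf.map (homOfLE (le_top : V ≤ ⊤)).op).hom (f.appTop.hom z) := by
        intro f e z
        have := Scheme.Hom.map_appLE f e (homOfLE (le_top : D 𝒮 t k ≤ ⊤)).op
        exact congrArg (fun φ => φ.hom z) this
      rw [e1, e1, hbase a]
    · intro l
      change (r.appLE (D 𝒮 t k) V le_rfl).hom (c 𝒮 t ht k l) =
        (r'.appLE (D 𝒮 t k) V hVV').hom (c 𝒮 t ht k l)
      have hγ : IsGen _ V (res _ hVV' (g 𝒮 t ht r' k)) := (isGen_g 𝒮 t ht r' k).res hVV'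
      apply (TensGen.IsGen.bijective_self hγ).1
      change (r.appLE (D 𝒮 t k) V le_rfl).hom (c 𝒮 t ht k l) • res _ hVV' (g 𝒮 t ht r' k) =
        (r'.appLE (D 𝒮 t k) V hVV').hom (c 𝒮 t ht k l) • res _ hVV' (g 𝒮 t ht r' k)
      -- the generator and the sections on `V`
      have hg : ∀ m : K, res _ hVV' ((r'.app (D 𝒮 t k)).hom (c 𝒮 t ht k m) • g 𝒮 t ht r' k) =
          τ.hom.app V ((r.app (D 𝒮 t k)).hom (c 𝒮 t ht k m) • g 𝒮 t ht r k) := by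
        intro m
        rw [← res_pt 𝒮 t ht r' k m le_top, ← res_pt 𝒮 t ht r k m le_top, res_res, hτres]
      have hgk : res _ hVV' (g 𝒮 t ht r' k) = τ.hom.app V (g 𝒮 t ht r k) := by
        have e1 : ∀ f : X ⟶ Proj 𝒮, res _ (le_top : f ⁻¹ᵁ D 𝒮 t k ≤ ⊤) (pt 𝒮 t ht f k) =
            g 𝒮 t ht f k :=
          fun f => σ_res f (O1 𝒮) (le_top : D 𝒮 t k ≤ ⊤) (T 𝒮 t ht k)
        rw [← e1 r', ← e1 r, res_res, hτres]
      have h3 := hg l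
      rw [res_smul, Scheme.Modules.Hom.app_smul, ← hgk] at h3
      rw [Scheme.Hom.appLE_eq_app]
      exact h3.symm
  -- Step C
  have hC : r.appLE (D 𝒮 t k) V le_rfl = r'.appLE (D 𝒮 t k) V hVV' := by
    have : IsIso (Proj.awayToSection 𝒮 (t k)) :=
      (Proj.basicOpenIsoAway 𝒮 (t k) (ht k) one_pos).isIso_hom
    rw [← cancel_epi (Proj.awayToSection 𝒮 (t k))]
    ext z
    exact congrArg (fun φ => φ z) hρ
  -- Step D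
  have hD : r.resLE (D 𝒮 t k) V le_rfl = r'.resLE (D 𝒮 t k) V hVV' := by
    have haff : IsAffineOpen (D 𝒮 t k) := Proj.isAffineOpen_basicOpen 𝒮 (t k) (ht k) one_pos
    have : IsIso (D 𝒮 t k).toSpecΓ := by
      rw [← haff.isoSpec_hom]
      infer_instance
    rw [← cancel_mono (D 𝒮 t k).toSpecΓ, ← Scheme.Opens.toSpecΓ_SpecMap_appLE,
      ← Scheme.Opens.toSpecΓ_SpecMap_appLE, hC]
  rw [← Scheme.Hom.resLE_comp_ι r (le_rfl : V ≤ r ⁻¹ᵁ D 𝒮 t k),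
    ← Scheme.Hom.resLE_comp_ι r' hVV', hD]

include hcov in
theorem hom_ext_of_iso' 
    (hext' : ∀ (k : K) {B : Type u} [CommRing B] (ρ ρ' : Away 𝒮 (t k) →+* B),
      (∀ a : 𝒮 0, ρ (fromZeroRingHom 𝒮 _ a) = ρ' (fromZeroRingHom 𝒮 _ a)) →
      (∀ l, ρ (Away.mk 𝒮 (ht k) 1 (t l) (h11 𝒮 t ht l)) =
        ρ' (Away.mk 𝒮 (ht k) 1 (t l) (h11 𝒮 t ht l))) → ρ = ρ')
    (r r' : X ⟶ Proj 𝒮) (hbase : r ≫ Proj.toSpecZero 𝒮 = r' ≫ Proj.toSpecZero 𝒮)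
    (τ : (Scheme.Modules.pullback r).obj (O1 𝒮) ≅ (Scheme.Modules.pullback r').obj (O1 𝒮))
    (hτ : ∀ k, τ.hom.app ⊤ (pt 𝒮 t ht r k) = pt 𝒮 t ht r' k) : r = r' := by
  apply hom_ext_of_iso 𝒮 t ht hcov hext' r r' _ τ hτ
  intro a
  have e2 : ∀ f : X ⟶ Proj 𝒮, f.appTop.hom (ProjGlobal.psi 𝒮 a) =
      (f ≫ Proj.toSpecZero 𝒮).appTop.hom
        ((Scheme.ΓSpecIso (CommRingCat.of (𝒮 0))).inv.hom a) := by
    intro f
    rfl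
  rw [e2, e2, hbase]

end Uniq

end Groth.Agent.Helper1.ProjUP7
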