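import Mathlib
import Groth.Prelude.Def_ProjUP
import Groth.Agent.Lib.Helper1.ProjUP7
import Groth.Agent.Lib.Helper1.ProjSpaceTwist
import Groth.Agent.Lib.Helper1.ProjSpaceLib

set_option autoImplicit false
universe u

open CategoryTheory AlgebraicGeometry TopologicalSpace Opposite HomogeneousLocalization

namespace Groth.Agent.Helper1.ProjUP8

open Groth.Agent.Helper1.ProjUP7

variable (n : ℕ) (R : Type u) [CommRing R]

/-- the coordinates -/
noncomputable abbrev tX : Fin (n + 1) → MvPolynomial (Fin (n + 1)) R := MvPolynomial.X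

theorem htX (i : Fin (n + 1)) : tX n R i ∈ CohB1.polyGrading n R 1 :=
  MvPolynomial.isHomogeneous_X R i

theorem hcov (x : Proj (CohB1.polyGrading n R)) : ∃ k, x ∈ D (CohB1.polyGrading n R) (tX n R) k := by
  obtain ⟨i, hi⟩ := ProjSpaceLib.exists_X_notMem n R x
  exact ⟨i, (Proj.mem_basicOpen _ _ x).2 hi⟩

/-- ring maps out of `R[T]_(T_k)` are determined on `R` and the `T_l / T_k` -/
theorem hext (k : Fin (n + 1)) {B : Type u} [CommRing B]
    (ρ ρ' : Away (CohB1.polyGrading n R) (tX n R k) →+* B)
    (h0 : ∀ a : CohB1.polyGrading n R 0, ρ (fromZeroRingHom (CohB1.polyGrading n R) _ a) =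
      ρ' (fromZeroRingHom (CohB1.polyGrading n R) _ a))
    (h1 : ∀ l, ρ (Away.mk (CohB1.polyGrading n R) (htX n R k) 1 (tX n R l)
        (h11 (CohB1.polyGrading n R) (tX n R) (htX n R) l)) =
      ρ' (Away.mk (CohB1.polyGrading n R) (htX n R k) 1 (tX n R l)
        (h11 (CohB1.polyGrading n R) (tX n R) (htX n R) l))) : ρ = ρ' := by
  classical
  ext z
  have hx : Algebra.adjoin (CohB1.polyGrading n R 0)
      (Set.range (tX n R)) = ⊤ := by
    rw [eq_top_iff]
    intro p hp
    clear hp
    have h2 : p ∈ Algebra.adjoin R (Set.range (tX n R)) := by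
      rw [MvPolynomial.adjoin_range_X]; trivial
    induction h2 using Algebra.adjoin_induction with
    | mem x hx => exact Algebra.subset_adjoin hx
    | algebraMap r =>
      exact Subalgebra.algebraMap_mem _ (algebraMap R (CohB1.polyGrading n R 0) r)
    | add x y _ _ hx hy => exact Subalgebra.add_mem _ hx hy
    | mul x y _ _ hx hy => exact Subalgebra.mul_mem _ hx hy
  have hspan := Away.span_mk_prod_pow_eq_top (𝒜 := CohB1.polyGrading n R) (htX n R k) (tX n R) hx
    (fun _ => 1) (htX n R)
  have hz : z ∈ (⊤ : Submodule (CohB1.polyGrading n R 0) _) := trivial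
  rw [← hspan] at hz
  induction hz using Submodule.span_induction with
  | mem y hy =>
    obtain ⟨a, ai, hai, rfl⟩ := hy
    have hprod : Away.mk (CohB1.polyGrading n R) (htX n R k) a (∏ i, tX n R i ^ ai i)
        (hai ▸ SetLike.prod_pow_mem_graded _ _ _ _ fun i _ ↦ htX n R i) =
        ∏ i, (Away.mk (CohB1.polyGrading n R) (htX n R k) 1 (tX n R i)
          (h11 (CohB1.polyGrading n R) (tX n R) (htX n R) i)) ^ ai i := by
      apply HomogeneousLocalization.val_injective
      have hsum : ∑ i, ai i = a := by simpa using hai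
      rw [Away.val_mk]
      have : (∏ i, (Away.mk (CohB1.polyGrading n R) (htX n R k) 1 (tX n R i)
          (h11 (CohB1.polyGrading n R) (tX n R) (htX n R) i)) ^ ai i).val =
          ∏ i, (Localization.mk (tX n R i) ⟨tX n R k ^ 1, ⟨1, rfl⟩⟩ :
            Localization.Away (tX n R k)) ^ ai i := by
        rw [← HomogeneousLocalization.algebraMap_apply, map_prod]
        refine Finset.prod_congr rfl fun i _ => ?_
        rw [map_pow, HomogeneousLocalization.algebraMap_apply, Away.val_mk]
      rw [this]
      simp only [Localization.mk_pow, Localization.mk_prod]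
      congr 1
      apply Subtype.ext
      simp only [SubmonoidClass.coe_finsetProd, SubmonoidClass.coe_pow, pow_one,
        Finset.prod_pow_eq_pow_sum, hsum]
    rw [hprod, map_prod, map_prod]
    refine Finset.prod_congr rfl fun i _ => ?_
    rw [map_pow, map_pow, h1]
  | zero => rw [map_zero, map_zero]
  | add y z _ _ hy hz => rw [map_add, map_add, hy, hz]
  | smul c y _ hy =>
    rw [Algebra.smul_def, map_mul, map_mul, hy, HomogeneousLocalization.algebraMap_eq, h0]

end Groth.Agent.Helper1.ProjUP8
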