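import Mathlib
import Groth.Agent.Lib.Helper1.TwForm2

set_option autoImplicit false
universe u
open CategoryTheory CategoryTheory.Limits AlgebraicGeometry TopologicalSpace Opposite

namespace Groth.Agent.Helper1.CocycleIso

open Groth.Agent.Helper1.QcCech Groth.Agent.Helper1.SubSh Groth.Agent.Helper1.LGen
open Groth.Agent.Helper1 Groth.Agent.Helper1.TwForm Groth.Agent.Helper1.TwistSec
open Groth.Agent.Helper1.TensGen

variable {X : Scheme.{u}} {A B : X.Modules}

/-- the coefficient of a section with respect to a free generator -/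
noncomputable def coeff {W : X.Opens} {a : Γ(A, W)} (ha : IsGen A W a) {V : X.Opens} (hV : V ≤ W)
    (g : Γ(A, V)) : Γ(X, V) :=
  ((ha V hV).2 g).choose

theorem coeff_spec {W : X.Opens} {a : Γ(A, W)} (ha : IsGen A W a) {V : X.Opens} (hV : V ≤ W)
    (g : Γ(A, V)) : coeff ha hV g • res A hV a = g :=
  ((ha V hV).2 g).choose_spec

theorem coeff_eq {W : X.Opens} {a : Γ(A, W)} (ha : IsGen A W a) {V : X.Opens} (hV : V ≤ W)
    (g : Γ(A, V)) (r : Γ(X, V)) (h : r • res A hV a = g) : coeff ha hV g = r :=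
  (ha V hV).1 ((coeff_spec ha hV g).trans h.symm)

theorem coeff_add {W : X.Opens} {a : Γ(A, W)} (ha : IsGen A W a) {V : X.Opens} (hV : V ≤ W)
    (g g' : Γ(A, V)) : coeff ha hV (g + g') = coeff ha hV g + coeff ha hV g' := by
  apply coeff_eq
  rw [add_smul, coeff_spec, coeff_spec]

theorem coeff_smul {W : X.Opens} {a : Γ(A, W)} (ha : IsGen A W a) {V : X.Opens} (hV : V ≤ W)
    (r : Γ(X, V)) (g : Γ(A, V)) : coeff ha hV (r • g) = r * coeff ha hV g := by
  apply coeff_eq
  rw [mul_smul, coeff_spec]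

theorem coeff_res {W : X.Opens} {a : Γ(A, W)} (ha : IsGen A W a) {V V' : X.Opens} (hV : V ≤ W)
    (h : V' ≤ V) (g : Γ(A, V)) :
    coeff ha (h.trans hV) (res A h g) = resR h (coeff ha hV g) := by
  apply coeff_eq
  have := congrArg (res A h) (coeff_spec ha hV g)
  rw [res_smul, res_res] at this
  exact this

/-- a family of matching free generators of two modules -/
structure GenFam (A B : X.Modules) where
  ι : Type u
  W : ι → X.Opens
  a : ∀ i, Γ(A, W i)
  b : ∀ i, Γ(B, W i)
  ha : ∀ i, IsGen A (W i) (a i)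
  hb : ∀ i, IsGen B (W i) (b i)
  cov : ∀ x : X, ∃ i, x ∈ W i
  compat : ∀ i j (v : Γ(X, W i ⊓ W j)),
    res A inf_le_left (a i) = v • res A inf_le_right (a j) →
      res B inf_le_left (b i) = v • res B inf_le_right (b j)

namespace GenFam

variable (F : GenFam A B)

/-- the local comparison map -/
noncomputable def tr (i : F.ι) {V : X.Opens} (hV : V ≤ F.W i) (g : Γ(A, V)) : Γ(B, V) :=
  coeff (F.ha i) hV g • res B hV (F.b i)

theorem tr_add (i : F.ι) {V : X.Opens} (hV : V ≤ F.W i) (g g' : Γ(A, V)) :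
    F.tr i hV (g + g') = F.tr i hV g + F.tr i hV g' := by
  rw [tr, coeff_add, add_smul]; rfl

theorem tr_smul (i : F.ι) {V : X.Opens} (hV : V ≤ F.W i) (r : Γ(X, V)) (g : Γ(A, V)) :
    F.tr i hV (r • g) = r • F.tr i hV g := by
  rw [tr, coeff_smul, mul_smul]; rfl

theorem tr_res (i : F.ι) {V V' : X.Opens} (hV : V ≤ F.W i) (h : V' ≤ V) (g : Γ(A, V)) :
    res B h (F.tr i hV g) = F.tr i (h.trans hV) (res A h g) := by
  rw [tr, tr, res_smul, res_res, coeff_res]

theorem tr_indep (i j : F.ι) {V : X.Opens} (hi : V ≤ F.W i) (hj : V ≤ F.W j) (g : Γ(A, V)) :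
    F.tr i hi g = F.tr j hj g := by
  have hV : V ≤ F.W i ⊓ F.W j := le_inf hi hj
  -- the transition function
  obtain ⟨v, hv⟩ := ((F.ha j).res (inf_le_right : F.W i ⊓ F.W j ≤ F.W j)).exists_coeff
    (res A inf_le_left (F.a i))
  have hb := F.compat i j v hv.symm
  have ha' : res A hi (F.a i) = resR hV v • res A hj (F.a j) := by
    have := congrArg (res A hV) hv
    rw [res_smul, res_res, res_res] at this
    exact this.symm
  have hb' : res B hi (F.b i) = resR hV v • res B hj (F.b j) := by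
    have := congrArg (res B hV) hb
    rw [res_smul, res_res, res_res] at this
    exact this
  have hc : coeff (F.ha j) hj g = coeff (F.ha i) hi g * resR hV v := by
    apply coeff_eq
    rw [mul_smul, ← ha', coeff_spec]
  rw [tr, tr, hc, hb', mul_smul]

theorem tr_self (i : F.ι) : F.tr i le_rfl (F.a i) = F.b i := by
  have : coeff (F.ha i) le_rfl (F.a i) = 1 := by
    apply coeff_eq
    rw [one_smul, res_self]
  rw [tr, this, one_smul, res_self]

theorem exists_glue (U : X.Opens) (g : Γ(A, U)) :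
    ∃ g' : Γ(B, U), ∀ (i : F.ι) (V : X.Opens) (hV : V ≤ U) (hVi : V ≤ F.W i),
      res B hV g' = F.tr i hVi (res A hV g) := by
  obtain ⟨g', hg'⟩ := glue_of_compatible B (fun i : F.ι => U ⊓ F.W i) U (fun _ => inf_le_left)
    (fun x hx => by
      obtain ⟨i, hi⟩ := F.cov x
      exact Opens.mem_iSup.2 ⟨i, ⟨hx, hi⟩⟩)
    (fun i => F.tr i inf_le_right (res A inf_le_left g)) (by
      intro i j
      rw [tr_res, tr_res, res_res, res_res]
      exact F.tr_indep i j _ _ _)
  refine ⟨g', fun i V hV hVi => ?_⟩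
  have hV' : V ≤ U ⊓ F.W i := le_inf hV hVi
  have e1 : res B hV g' = res B hV' (res B (inf_le_left : U ⊓ F.W i ≤ U) g') := by
    rw [res_res]
  rw [e1, hg', tr_res, res_res]

/-- the comparison map on sections -/
noncomputable def Φ (U : X.Opens) (g : Γ(A, U)) : Γ(B, U) := (F.exists_glue U g).choose

theorem Φ_spec (U : X.Opens) (g : Γ(A, U)) (i : F.ι) (V : X.Opens) (hV : V ≤ U)
    (hVi : V ≤ F.W i) : res B hV (F.Φ U g) = F.tr i hVi (res A hV g) :=
  (F.exists_glue U g).choose_spec i V hV hVi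

/-- sections agreeing on the members of the family are equal -/
theorem eq_of_fam (M : X.Modules) {U : X.Opens} (s t : Γ(M, U))
    (h : ∀ (i : F.ι) (V : X.Opens) (hV : V ≤ U), V ≤ F.W i → res M hV s = res M hV t) :
    s = t := by
  apply eq_of_locally
  intro x hx
  obtain ⟨i, hi⟩ := F.cov x
  exact ⟨U ⊓ F.W i, inf_le_left, ⟨hx, hi⟩, h i _ _ inf_le_right⟩

theorem Φ_add (U : X.Opens) (g g' : Γ(A, U)) : F.Φ U (g + g') = F.Φ U g + F.Φ U g' := by
  apply F.eq_of_fam
  intro i V hV hVi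
  rw [map_add, F.Φ_spec U _ i V hV hVi, F.Φ_spec U _ i V hV hVi, F.Φ_spec U _ i V hV hVi,
    map_add, tr_add]

theorem Φ_smul (U : X.Opens) (r : Γ(X, U)) (g : Γ(A, U)) : F.Φ U (r • g) = r • F.Φ U g := by
  apply F.eq_of_fam
  intro i V hV hVi
  rw [res_smul, F.Φ_spec U _ i V hV hVi, F.Φ_spec U _ i V hV hVi, res_smul, tr_smul]

theorem Φ_res (U V : X.Opens) (h : V ≤ U) (g : Γ(A, U)) :
    res B h (F.Φ U g) = F.Φ V (res A h g) := by
  apply F.eq_of_fam
  intro i V' hV' hVi
  rw [res_res, F.Φ_spec U _ i V' (hV'.trans h) hVi, F.Φ_spec V _ i V' hV' hVi, res_res]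

/-- the comparison morphism -/
noncomputable def hom : A ⟶ B := homMk A B F.Φ F.Φ_add F.Φ_smul F.Φ_res

theorem hom_app (U : X.Opens) (g : Γ(A, U)) : F.hom.app U g = F.Φ U g := rfl

theorem hom_a (i : F.ι) : F.hom.app (F.W i) (F.a i) = F.b i := by
  rw [hom_app]
  have := F.Φ_spec (F.W i) (F.a i) i (F.W i) le_rfl le_rfl
  rwa [res_self, res_self, tr_self] at this

/-- the symmetric family -/
def symm : GenFam B A where
  ι := F.ι
  W := F.W
  a := F.b
  b := F.a
  ha := F.hb
  hb := F.ha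
  cov := F.cov
  compat := by
    intro i j v hv
    obtain ⟨v', hv'⟩ := ((F.ha j).res (inf_le_right : F.W i ⊓ F.W j ≤ F.W j)).exists_coeff
      (res A inf_le_left (F.a i))
    have hb := F.compat i j v' hv'.symm
    have : v' = v :=
      (IsGen.bijective_self ((F.hb j).res (inf_le_right : F.W i ⊓ F.W j ≤ F.W j))).1
        (hb.symm.trans hv)
    rw [← this]
    exact hv'.symm

theorem tr_tr (i : F.ι) {V : X.Opens} (hV : V ≤ F.W i) (g : Γ(B, V)) :
    F.tr i hV (F.symm.tr i hV g) = g := by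
  have h1 : coeff (F.ha i) hV (F.symm.tr i hV g) = coeff (F.hb i) hV g := by
    apply coeff_eq
    rfl
  rw [tr, h1]
  exact coeff_spec (F.hb i) hV g

theorem Φ_Φ (U : X.Opens) (g : Γ(B, U)) : F.Φ U (F.symm.Φ U g) = g := by
  apply F.eq_of_fam
  intro i V hV hVi
  rw [F.Φ_spec U _ i V hV hVi, F.symm.Φ_spec U _ i V hV hVi]
  exact F.tr_tr i hVi _

instance : IsIso F.hom := by
  apply isIso_of_app_bijective
  intro U
  refine ⟨fun g g' h => ?_, fun g => ⟨F.symm.Φ U g, F.Φ_Φ U g⟩⟩
  have h' : F.Φ U g = F.Φ U g' := h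
  have := congrArg (F.symm.Φ U) h'
  have e := F.symm.Φ_Φ U
  change ∀ g, F.symm.Φ U (F.Φ U g) = g at e
  rwa [e, e] at this

/-- **two modules with matching families of free generators are isomorphic** -/
noncomputable def iso : A ≅ B := asIso F.hom

theorem iso_hom_a (i : F.ι) : F.iso.hom.app (F.W i) (F.a i) = F.b i := F.hom_a i

end GenFam

end Groth.Agent.Helper1.CocycleIso
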