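import Mathlib

set_option autoImplicit false
universe u v

namespace Groth.Agent.Helper1.ProjUP3

open DirectSum

variable {A S : Type u} [CommRing A] [CommRing S] [Algebra A S] (𝒮 : ℕ → Submodule A S)
  [GradedAlgebra 𝒮]
variable {M : Type u} [AddCommGroup M] [Module A M] {ι : M →ₗ[A] S}
variable {B : Type v} [CommRing B]

/-- ring homomorphisms out of a symmetric algebra are determined on scalars and generators -/
theorem ringHom_ext (hsym : IsSymmetricAlgebra ι) (G G' : S →+* B)
    (h0 : ∀ a : A, G (algebraMap A S a) = G' (algebraMap A S a))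
    (h1 : ∀ m : M, G (ι m) = G' (ι m)) : G = G' := by
  ext s
  induction s using hsym.induction with
  | algebraMap r => exact h0 r
  | ι x => exact h1 x
  | mul a b ha hb => rw [map_mul, map_mul, ha, hb]
  | add a b ha hb => rw [map_add, map_add, ha, hb]

/-- the ring homomorphism out of a symmetric algebra with prescribed values -/
noncomputable def linOf (ρ : A →+* B) (φ : M →+ B)
    (hφ : ∀ (a : A) (m : M), φ (a • m) = ρ a * φ m) :
    letI := ρ.toAlgebra
    M →ₗ[A] B :=
  letI := ρ.toAlgebra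
  { toFun := fun m => φ m
    map_add' := fun x y => φ.map_add x y
    map_smul' := fun a m => (hφ a m) }

noncomputable def liftHom (hsym : IsSymmetricAlgebra ι) (ρ : A →+* B) (φ : M →+ B)
    (hφ : ∀ (a : A) (m : M), φ (a • m) = ρ a * φ m) : S →+* B :=
  letI := ρ.toAlgebra
  (hsym.lift (linOf ρ φ hφ)).toRingHom

theorem liftHom_ι (hsym : IsSymmetricAlgebra ι) (ρ : A →+* B) (φ : M →+ B)
    (hφ : ∀ (a : A) (m : M), φ (a • m) = ρ a * φ m) (m : M) :
    liftHom hsym ρ φ hφ (ι m) = φ m := by
  letI := ρ.toAlgebra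
  exact hsym.lift_eq _ m

theorem liftHom_algebraMap (hsym : IsSymmetricAlgebra ι) (ρ : A →+* B) (φ : M →+ B)
    (hφ : ∀ (a : A) (m : M), φ (a • m) = ρ a * φ m) (a : A) :
    liftHom hsym ρ φ hφ (algebraMap A S a) = ρ a := by
  letI := ρ.toAlgebra
  exact (hsym.lift (linOf ρ φ hφ)).commutes a

/-- the graded twist of a ring homomorphism by an element -/
noncomputable def twistHom (F : S →+* B) (u : B) : S →+* B :=
  (DirectSum.toSemiring (fun k => ((AddMonoidHom.mulLeft (u ^ k)).comp
      ((F : S →+ B).comp (𝒮 k).subtype.toAddMonoidHom)))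
    (by
      change u ^ 0 * F ((1 : S)) = 1
      rw [pow_zero, one_mul, map_one])
    (by
      intro i j ai aj
      change u ^ (i + j) * F ((ai : S) * (aj : S)) = (u ^ i * F ai) * (u ^ j * F aj)
      rw [map_mul, pow_add]
      ring)).comp (DirectSum.decomposeRingEquiv 𝒮).toRingHom

theorem twistHom_of_mem (F : S →+* B) (u : B) {k : ℕ} {s : S} (hs : s ∈ 𝒮 k) :
    twistHom 𝒮 F u s = u ^ k * F s := by
  unfold twistHom
  rw [RingHom.comp_apply]
  change (DirectSum.toSemiring _ _ _) (DirectSum.decompose 𝒮 s) = _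
  rw [DirectSum.decompose_of_mem 𝒮 hs, DirectSum.toSemiring_of]
  rfl

include 𝒮 in
/-- if `F'` and `F` agree on scalars and differ by `u` on the generators (of degree one), then
they differ by `u ^ k` in degree `k` -/
theorem twist_of_gens (hsym : IsSymmetricAlgebra ι) (hι : ∀ m, ι m ∈ 𝒮 1) (F F' : S →+* B) (u : B)
    (h0 : ∀ a : A, F' (algebraMap A S a) = F (algebraMap A S a))
    (h1 : ∀ m : M, F' (ι m) = u * F (ι m)) (k : ℕ) (s : S) (hs : s ∈ 𝒮 k) :
    F' s = u ^ k * F s := by
  have h : F' = twistHom 𝒮 F u := by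
    apply ringHom_ext hsym
    · intro a
      rw [twistHom_of_mem 𝒮 F u (SetLike.algebraMap_mem_graded 𝒮 a), pow_zero, one_mul, h0]
    · intro m
      rw [twistHom_of_mem 𝒮 F u (hι m), pow_one, h1]
  rw [h, twistHom_of_mem 𝒮 F u hs]

end Groth.Agent.Helper1.ProjUP3
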