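import Mathlib
import Groth.Prelude.Def_ProjUP
import Groth.Agent.Lib.Helper1.ProjUP2
import Groth.Agent.Lib.Helper1.ProjUP3
import Groth.Agent.Lib.Helper1.CocycleIso
import Groth.Agent.Lib.Helper1.PullGen
import Groth.Agent.Lib.Helper1.AmpleLib2
import Groth.Agent.Lib.Helper1.TwistAmple

set_option autoImplicit false
universe u

open CategoryTheory AlgebraicGeometry TopologicalSpace Opposite HomogeneousLocalization

namespace Groth.Agent.Helper1.ProjUP4

open Groth.Agent.Helper1.QcCech Groth.Agent.Helper1.SubSh Groth.Agent.Helper1.LGen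
open Groth.Agent.Helper1 Groth.Agent.Helper1.CocycleIso Groth.Agent.Helper1.AmpleLib
open Groth.Agent.Helper1.ProjUP1 Groth.Agent.Helper1.ProjUP2 Groth.Agent.Helper1.ProjUP3

variable {X : Scheme.{u}}

theorem germ_smul' (L : X.Modules) (x : X) (U : X.Opens) (hx : x ∈ U) (r : Γ(X, U))
    (m : Γ(L, U)) :
    (L.presheaf.germ U x hx).hom (r • m) =
      (X.presheaf.germ U x hx).hom r • (L.presheaf.germ U x hx).hom m :=
  PresheafOfModules.germ_smul (R := X.presheaf)
    (show PresheafOfModules (X.presheaf ⋙ forget₂ CommRingCat RingCat) from L.val) x U hx r m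

/-- sections generating an invertible module: at each point one of them is a local generator -/
theorem exists_mem_genLocus_of_generatedBy {L : X.Modules} (hL : PicF.IsInvertible L)
    {ι : Type*} (s : ι → ProjUP.Γm L) (hs : ProjUP.GeneratedBy L s) (x : X) :
    ∃ i, x ∈ CohB1.genLocus L (TwistAmple.homOfSec L (s i)) := by
  obtain ⟨W, a, hxW, ha⟩ := exists_isGen hL x
  by_contra hcon
  push Not at hcon
  -- coefficients
  have hφ : ∀ i, ∃ φ : Γ(X, W), φ • a = res L (le_top : W ≤ ⊤) (s i) := fun i => ha.exists_coeff _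
  choose φ hφ using hφ
  have hnu : ∀ i, ¬ IsUnit ((X.presheaf.germ W x hxW).hom (φ i)) := by
    intro i hu
    apply hcon i
    have h1 := genLocus_inf_eq_basicOpen (TwistAmple.homOfSec L (s i)) ha (φ i)
      (by rw [secVal_homOfSec]; exact hφ i)
    have h2 : x ∈ X.basicOpen (φ i) := (X.mem_basicOpen _ _ hxW).2 hu
    rw [← h1] at h2
    exact h2.1
  set α := (L.presheaf.germ W x hxW).hom a with hα
  -- every element of the span is a multiple of `α` by a non-unit
  have key : ∀ z ∈ Submodule.span (X.presheaf.stalk x)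
      (Set.range fun i => (L.presheaf.germ ⊤ x trivial).hom (s i)),
      ∃ c : X.presheaf.stalk x, ¬ IsUnit c ∧ z = c • α := by
    intro z hz
    induction hz using Submodule.span_induction with
    | mem y hy =>
      obtain ⟨i, rfl⟩ := hy
      refine ⟨(X.presheaf.germ W x hxW).hom (φ i), hnu i, ?_⟩
      rw [hα, ← germ_smul', hφ i]
      exact (TopCat.Presheaf.germ_res_apply L.presheaf (homOfLE (le_top : W ≤ ⊤)) x hxW (s i)).symm
    | zero => exact ⟨0, not_isUnit_zero, (zero_smul _ _).symm⟩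
    | add y z _ _ hy hz =>
      obtain ⟨c, hc, rfl⟩ := hy
      obtain ⟨c', hc', rfl⟩ := hz
      refine ⟨c + c', ?_, (add_smul _ _ _).symm⟩
      exact fun h => (IsLocalRing.isUnit_or_isUnit_of_isUnit_add h).elim hc hc'
    | smul r y _ hy =>
      obtain ⟨c, hc, rfl⟩ := hy
      refine ⟨r * c, fun h => hc (isUnit_of_mul_isUnit_right h), (mul_smul _ _ _).symm⟩
  obtain ⟨c, hc, hcα⟩ := key α (by rw [hs x]; trivial)
  -- represent `c` by a section
  obtain ⟨V, hVW, hxV, c', rfl⟩ := TopCat.Presheaf.exists_le_germ_eq X.presheaf c hxW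
  have h3 : (L.presheaf.germ V x hxV).hom (res L hVW a) =
      (L.presheaf.germ V x hxV).hom (c' • res L hVW a) := by
    have e0 : (L.presheaf.germ V x hxV).hom (res L hVW a) = α :=
      TopCat.Presheaf.germ_res_apply L.presheaf (homOfLE hVW) x hxV a
    rw [germ_smul', e0]
    exact hcα
  obtain ⟨V', hxV', i1, i2, h4⟩ := TopCat.Presheaf.germ_eq L.presheaf x hxV hxV _ _ h3
  have h5 : res L i1.le (res L hVW a) = res L i1.le (c' • res L hVW a) := by
    have : i1 = i2 := Subsingleton.elim _ _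
    subst this
    exact h4
  rw [res_smul, res_res] at h5
  have h6 : (1 : Γ(X, V')) • res L (i1.le.trans hVW) a = resR i1.le c' • res L (i1.le.trans hVW) a := by
    rw [one_smul]; exact h5
  have h7 : (1 : Γ(X, V')) = resR i1.le c' := (ha V' (i1.le.trans hVW)).1 h6
  apply hc
  have h8 : (X.presheaf.germ V x hxV).hom c' = (X.presheaf.germ V' x hxV').hom (resR i1.le c') :=
    (TopCat.Presheaf.germ_res_apply X.presheaf i1 x hxV' c').symm
  rw [h8, ← h7, map_one]
  exact isUnit_one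

section Construction

variable {A S : Type u} [CommRing A] [CommRing S] [Algebra A S] (𝒮 : ℕ → Submodule A S)
  [GradedAlgebra 𝒮] {M : Type u} [AddCommGroup M] [Module A M] {ι : M →ₗ[A] S}
  (hι : ∀ m : M, ι m ∈ 𝒮 1) (hsym : IsSymmetricAlgebra ι)
  (q : X ⟶ Spec (CommRingCat.of A)) {L : X.Modules}
  (v : M →+ ProjUP.Γm L) (hv : ∀ (a : A) (m : M), v (a • m) = ProjUP.toGlobal q a • v m)

/-- the open where `v m` generates -/
noncomputable def U (m : M) : X.Opens := CohB1.genLocus L (TwistAmple.homOfSec L (v m))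

theorem isGen_U (m : M) : IsGen L (U v m) (res L (le_top : U v m ≤ ⊤) (v m)) := by
  have := isGen_secVal (TwistAmple.homOfSec L (v m)) (le_refl (U v m))
  rwa [secVal_homOfSec] at this

/-- the coefficient of `v m'` with respect to the generator `v m` on `U m` -/
noncomputable def φ (m m' : M) : Γ(X, U v m) :=
  coeff (isGen_U v m) le_rfl (res L (le_top : U v m ≤ ⊤) (v m'))

theorem φ_spec (m m' : M) :
    φ v m m' • res L (le_top : U v m ≤ ⊤) (v m) = res L (le_top : U v m ≤ ⊤) (v m') := by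
  have := coeff_spec (isGen_U v m) le_rfl (res L (le_top : U v m ≤ ⊤) (v m'))
  rwa [res_self] at this

theorem φ_eq (m m' : M) (r : Γ(X, U v m))
    (h : r • res L (le_top : U v m ≤ ⊤) (v m) = res L (le_top : U v m ≤ ⊤) (v m')) :
    φ v m m' = r := by
  apply coeff_eq
  rwa [res_self]

theorem φ_self (m : M) : φ v m m = 1 := φ_eq v m m 1 (one_smul _ _)

theorem φ_add (m m' m'' : M) : φ v m (m' + m'') = φ v m m' + φ v m m'' := by
  apply φ_eq
  rw [add_smul, φ_spec, φ_spec, map_add, map_add]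

/-- the ring map `A → Γ(X, U m)` -/
noncomputable def ρ (m : M) : A →+* Γ(X, U v m) :=
  (resR (le_top : U v m ≤ ⊤)).comp (ProjUP.toGlobal q)

include hv in
theorem φ_smul (m : M) (a : A) (m' : M) : φ v m (a • m') = ρ q v m a * φ v m m' := by
  apply φ_eq
  rw [mul_smul, φ_spec, hv, res_smul]
  rfl

noncomputable def φHom (m : M) : M →+ Γ(X, U v m) where
  toFun := φ v m
  map_zero' := by
    have := φ_add v m 0 0
    rw [add_zero] at this
    exact left_eq_add.mp this
  map_add' := φ_add v m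

noncomputable def F (m : M) : S →+* Γ(X, U v m) :=
  liftHom hsym (ρ q v m) (φHom v m) (φ_smul q v hv m)

theorem F_ι (m m' : M) : F hsym q v hv m (ι m') = φ v m m' := liftHom_ι _ _ _ _ _

theorem F_algebraMap (m : M) (a : A) : F hsym q v hv m (algebraMap A S a) = ρ q v m a :=
  liftHom_algebraMap _ _ _ _ _

theorem isUnit_F (m : M) : IsUnit (F hsym q v hv m (ι m)) := by
  rw [F_ι, φ_self]
  exact isUnit_one

noncomputable def ψ (m : M) : Away 𝒮 (ι m) →+* Γ(X, U v m) :=
  awayLift 𝒮 (F hsym q v hv m) (ι m) (isUnit_F hsym q v hv m)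

/-- the local morphism -/
noncomputable def rLoc (m : M) : (↑(U v m) : Scheme.{u}) ⟶ Proj 𝒮 :=
  locMap 𝒮 (U v m) (hι m) one_pos (ψ 𝒮 hsym q v hv m)

theorem φ_trans (m m' m'' : M) :
    resR (inf_le_left : U v m ⊓ U v m' ≤ U v m) (φ v m m'') =
      resR (inf_le_left : U v m ⊓ U v m' ≤ U v m) (φ v m m') *
        resR (inf_le_right : U v m ⊓ U v m' ≤ U v m') (φ v m' m'') := by
  have hg := (isGen_U v m) (U v m ⊓ U v m') inf_le_left
  apply hg.1
  change _ • res L _ (res L _ (v m)) = _ • res L _ (res L _ (v m))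
  have hY : ∀ m₀ : M, res L (inf_le_left : U v m ⊓ U v m' ≤ U v m)
      (res L (le_top : U v m ≤ ⊤) (v m₀)) = res L (le_top : U v m ⊓ U v m' ≤ ⊤) (v m₀) :=
    fun m₀ => res_res _ _ _ _
  have hY' : ∀ m₀ : M, res L (inf_le_right : U v m ⊓ U v m' ≤ U v m')
      (res L (le_top : U v m' ≤ ⊤) (v m₀)) = res L (le_top : U v m ⊓ U v m' ≤ ⊤) (v m₀) :=
    fun m₀ => res_res _ _ _ _
  rw [← res_smul, φ_spec, hY, mul_comm, mul_smul, ← res_smul, φ_spec, hY, ← hY' m', ← res_smul,
    φ_spec, hY']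

theorem rLoc_compat (m m' : M) :
    X.homOfLE (inf_le_left : U v m ⊓ U v m' ≤ U v m) ≫ rLoc 𝒮 hι hsym q v hv m =
      X.homOfLE (inf_le_right : U v m ⊓ U v m' ≤ U v m') ≫ rLoc 𝒮 hι hsym q v hv m' := by
  set Y := U v m ⊓ U v m' with hY
  let F₁ : S →+* Γ(X, Y) := (resR (inf_le_left : Y ≤ U v m)).comp (F hsym q v hv m)
  let F₂ : S →+* Γ(X, Y) := (resR (inf_le_right : Y ≤ U v m')).comp (F hsym q v hv m')
  let u : Γ(X, Y) := resR (inf_le_left : Y ≤ U v m) (φ v m m')
  let u' : Γ(X, Y) := resR (inf_le_right : Y ≤ U v m') (φ v m' m)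
  have huu' : u * u' = 1 := by
    have := φ_trans v m m' m
    rw [φ_self, map_one] at this
    exact this.symm
  let uu : (Γ(X, Y))ˣ := ⟨u, u', huu', by rw [mul_comm]; exact huu'⟩
  have htw : ∀ (k : ℕ) (s : S), s ∈ 𝒮 k → F₁ s = (uu : Γ(X, Y)) ^ k * F₂ s := by
    apply twist_of_gens 𝒮 hsym hι F₂ F₁ u
    · intro a
      change resR _ (F hsym q v hv m _) = resR _ (F hsym q v hv m' _)
      rw [F_algebraMap, F_algebraMap]
      change resR _ (resR _ _) = resR _ (resR _ _)
      rw [resR_resR, resR_resR]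
    · intro m''
      change resR _ (F hsym q v hv m _) = u * resR _ (F hsym q v hv m' _)
      rw [F_ι, F_ι]
      exact φ_trans v m m' m''
  have hF₁m : F₁ (ι m) = 1 := by
    change resR _ (F hsym q v hv m _) = 1
    rw [F_ι, φ_self, map_one]
  have hF₁m' : F₁ (ι m') = u := by
    change resR _ (F hsym q v hv m _) = u
    rw [F_ι]
  have hF₂m' : F₂ (ι m') = 1 := by
    change resR _ (F hsym q v hv m' _) = 1
    rw [F_ι, φ_self, map_one]
  have hF₂m : F₂ (ι m) = u' := by
    change resR _ (F hsym q v hv m' _) = u'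
    rw [F_ι]
  have hu : IsUnit u := uu.isUnit
  have hu' : IsUnit u' := (uu⁻¹).isUnit
  have h1u : IsUnit (F₁ (ι m)) := by rw [hF₁m]; exact isUnit_one
  have h2u : IsUnit (F₂ (ι m')) := by rw [hF₂m']; exact isUnit_one
  have h1x : IsUnit (F₁ (ι m * ι m')) := by rw [map_mul, hF₁m, hF₁m', one_mul]; exact hu
  have h2x : IsUnit (F₂ (ι m * ι m')) := by rw [map_mul, hF₂m, hF₂m', mul_one]; exact hu'
  -- the two restricted ring maps
  have e1 : (resR (inf_le_left : Y ≤ U v m)).comp (ψ 𝒮 hsym q v hv m) =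
      (awayLift 𝒮 F₁ (ι m * ι m') h1x).comp (awayMap 𝒮 (hι m') rfl) := by
    rw [awayLift_comp_awayMap 𝒮 F₁ (hι m) (hι m') rfl h1u h1x]
    exact comp_awayLift 𝒮 _ _ (hι m) _ h1u
  have e2 : (resR (inf_le_right : Y ≤ U v m')).comp (ψ 𝒮 hsym q v hv m') =
      (awayLift 𝒮 F₂ (ι m * ι m') h2x).comp (awayMap 𝒮 (hι m) (mul_comm _ _)) := by
    rw [awayLift_comp_awayMap 𝒮 F₂ (hι m') (hι m) (mul_comm _ _) h2u h2x]
    exact comp_awayLift 𝒮 _ _ (hι m') _ h2u
  have e3 : awayLift 𝒮 F₁ (ι m * ι m') h1x = awayLift 𝒮 F₂ (ι m * ι m') h2x :=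
    awayLift_eq_of_twist 𝒮 F₂ F₁ uu htw (SetLike.mul_mem_graded (hι m) (hι m')) h2x h1x
  unfold rLoc
  rw [homOfLE_locMap, homOfLE_locMap]
  change locMap 𝒮 Y (hι m) one_pos ((resR _).comp _) = locMap 𝒮 Y (hι m') one_pos ((resR _).comp _)
  rw [e1, e2, locMap_awayMap, locMap_awayMap, e3]

section Glue

variable (hL : PicF.IsInvertible L) (hgen : ProjUP.GeneratedBy L v)

include hL hgen in
theorem isOpenCover_U : IsOpenCover (fun m => U v m) := by
  rw [IsOpenCover, eq_top_iff]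
  intro x _
  obtain ⟨m, hm⟩ := exists_mem_genLocus_of_generatedBy hL v hgen x
  exact Opens.mem_iSup.2 ⟨m, hm⟩

/-- the open cover by the `U m` -/
noncomputable abbrev cover : X.OpenCover :=
  X.openCoverOfIsOpenCover (fun m => U v m) (isOpenCover_U v hL hgen)

/-- **the morphism to `Proj`** -/
noncomputable def r : X ⟶ Proj 𝒮 :=
  (cover v hL hgen).glueMorphisms (fun m => rLoc 𝒮 hι hsym q v hv m) (by
    intro (m : M) (m' : M)
    have hpb := isPullback_opens_inf (U v m) (U v m')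
    change Limits.pullback.fst (U v m).ι (U v m').ι ≫ _ =
      Limits.pullback.snd (U v m).ι (U v m').ι ≫ _
    rw [← cancel_epi hpb.isoPullback.hom]
    rw [IsPullback.isoPullback_hom_fst_assoc, IsPullback.isoPullback_hom_snd_assoc]
    exact rLoc_compat 𝒮 hι hsym q v hv m m')

theorem ι_r (m : M) :
    (U v m).ι ≫ r 𝒮 hι hsym q v hv hL hgen = rLoc 𝒮 hι hsym q v hv m :=
  (cover v hL hgen).ι_glueMorphisms _ _ m

theorem toSpecΓ_toGlobal : X.toSpecΓ ≫ Spec.map (CommRingCat.ofHom (ProjUP.toGlobal q)) = q := by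
  have h1 : CommRingCat.ofHom (ProjUP.toGlobal q) =
      (Scheme.ΓSpecIso (CommRingCat.of A)).inv ≫ q.appTop := rfl
  rw [h1, Spec.map_comp, ← Category.assoc, ← Scheme.toSpecΓ_naturality, Category.assoc,
    toSpecΓ_SpecMap_ΓSpecIso_inv, Category.comp_id]

theorem r_toSpec :
    r 𝒮 hι hsym q v hv hL hgen ≫ Proj.toSpecZero 𝒮 ≫
      Spec.map (CommRingCat.ofHom (algebraMap A (𝒮 0))) = q := by
  apply (cover v hL hgen).hom_ext
  intro (m : M)
  change (U v m).ι ≫ r 𝒮 hι hsym q v hv hL hgen ≫ _ = (U v m).ι ≫ q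
  rw [← Category.assoc, ι_r, rLoc, ← Category.assoc, locMap_toSpecZero, Category.assoc,
    ← Spec.map_comp]
  have h1 : CommRingCat.ofHom (algebraMap A (𝒮 0)) ≫
      CommRingCat.ofHom ((ψ 𝒮 hsym q v hv m).comp (fromZeroRingHom 𝒮 _)) =
      CommRingCat.ofHom (ProjUP.toGlobal q) ≫ X.presheaf.map (homOfLE (le_top : U v m ≤ ⊤)).op := by
    ext a
    change ψ 𝒮 hsym q v hv m (fromZeroRingHom 𝒮 _ (algebraMap A (𝒮 0) a)) = ρ q v m a
    rw [ψ, awayLift_fromZero, ← F_algebraMap hsym q v hv m a]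
    rfl
  rw [h1, Spec.map_comp, ← Category.assoc, Scheme.Opens.toSpecΓ_SpecMap_presheaf_map_top,
    Category.assoc, toSpecΓ_toGlobal]

end Glue

end Construction

end Groth.Agent.Helper1.ProjUP4
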