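import Mathlib
import Groth.Prelude.Def_ProjUP
import Groth.Agent.Lib.Helper1.ProjUP4
import Groth.Agent.Lib.Helper1.ProjUP5

set_option autoImplicit false
universe u

open CategoryTheory AlgebraicGeometry TopologicalSpace Opposite HomogeneousLocalization

namespace Groth.Agent.Helper1.ProjUP6

open Groth.Agent.Helper1.QcCech Groth.Agent.Helper1.SubSh Groth.Agent.Helper1.LGen
open Groth.Agent.Helper1 Groth.Agent.Helper1.CocycleIso Groth.Agent.Helper1.AmpleLib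
open Groth.Agent.Helper1.ProjUP1 Groth.Agent.Helper1.ProjUP2 Groth.Agent.Helper1.ProjUP3
open Groth.Agent.Helper1.ProjUP4 Groth.Agent.Helper1.ProjUP5 Groth.Agent.Helper1.PullSec
open Groth.Agent.Helper1.PullGen

set_option synthInstance.maxHeartbeats 400000

variable {X : Scheme.{u}}
variable {A S : Type u} [CommRing A] [CommRing S] [Algebra A S] (𝒮 : ℕ → Submodule A S)
  [GradedAlgebra 𝒮] {M : Type u} [AddCommGroup M] [Module A M] {ι : M →ₗ[A] S}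
  (hι : ∀ m : M, ι m ∈ 𝒮 1) (hsym : IsSymmetricAlgebra ι)
  (q : X ⟶ Spec (CommRingCat.of A)) {L : X.Modules}
  (v : M →+ ProjUP.Γm L) (hv : ∀ (a : A) (m : M), v (a • m) = ProjUP.toGlobal q a • v m)
  (hL : PicF.IsInvertible L) (hgen : ProjUP.GeneratedBy L v)

/-- `O(1)` -/
noncomputable abbrev O1 : (Proj 𝒮).Modules := Twist.twist 𝒮 ((1 : ℕ) : ℤ)

/-- the coordinate sections -/
noncomputable def T (m : M) : Γ(O1 𝒮, ⊤) := Twist.globalOf 𝒮 ⟨ι m, hι m⟩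

theorem le_preimage (m : M) :
    U v m ≤ (r 𝒮 hι hsym q v hv hL hgen) ⁻¹ᵁ Proj.basicOpen 𝒮 (ι m) :=
  (awayToSection_appLE 𝒮 (U v m) (hι m) one_pos (ψ 𝒮 hsym q v hv m)
    (r 𝒮 hι hsym q v hv hL hgen) (ι_r 𝒮 hι hsym q v hv hL hgen m)).choose

theorem appLE_awayToSection (m : M) (z : Away 𝒮 (ι m)) :
    ((r 𝒮 hι hsym q v hv hL hgen).appLE (Proj.basicOpen 𝒮 (ι m)) (U v m)
      (le_preimage 𝒮 hι hsym q v hv hL hgen m)).hom ((Proj.awayToSection 𝒮 (ι m)).hom z) =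
      ψ 𝒮 hsym q v hv m z := by
  have h := (awayToSection_appLE 𝒮 (U v m) (hι m) one_pos (ψ 𝒮 hsym q v hv m)
    (r 𝒮 hι hsym q v hv hL hgen) (ι_r 𝒮 hι hsym q v hv hL hgen m)).choose_spec
  exact congrArg (fun f => f.hom z) h

theorem ψ_mk (m m' : M) (h : ι m' ∈ 𝒮 (1 • 1)) :
    ψ 𝒮 hsym q v hv m (Away.mk 𝒮 (hι m) 1 (ι m') h) = φ v m m' := by
  rw [ψ, awayLift_mk, F_ι, pow_one]
  have h1 : (isUnit_F hsym q v hv m).unit = 1 := by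
    ext
    rw [IsUnit.unit_spec, F_ι, φ_self]
    rfl
  rw [h1, inv_one, Units.val_one, mul_one]

/-- (A') the pulled back coordinate sections on `U m'` -/
theorem res_σ_T (m m' : M)
    (hU : U v m' ≤ (r 𝒮 hι hsym q v hv hL hgen) ⁻¹ᵁ ⊤) :
    res _ hU (σ (r 𝒮 hι hsym q v hv hL hgen) (O1 𝒮) ⊤ (T 𝒮 hι m)) =
      φ v m' m • res _ hU (σ (r 𝒮 hι hsym q v hv hL hgen) (O1 𝒮) ⊤ (T 𝒮 hι m')) := by
  set R := r 𝒮 hι hsym q v hv hL hgen with hR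
  have hle := le_preimage 𝒮 hι hsym q v hv hL hgen m'
  have e1 : ∀ t : Γ(O1 𝒮, ⊤), res _ hU (σ R (O1 𝒮) ⊤ t) =
      res _ hle (σ R (O1 𝒮) (Proj.basicOpen 𝒮 (ι m'))
        (res (O1 𝒮) (le_top : Proj.basicOpen 𝒮 (ι m') ≤ ⊤) t)) := by
    intro t
    rw [← σ_res R (O1 𝒮) (le_top : Proj.basicOpen 𝒮 (ι m') ≤ ⊤), res_res]
  have h11 : ι m ∈ 𝒮 (1 • 1) := by simpa using hι m
  rw [e1, e1, T, T, res_globalOf_eq_smul 𝒮 (hι m) (hι m') h11, σ_smul, res_smul]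
  congr 1
  rw [← ψ_mk 𝒮 hι hsym q v hv m' m h11, ← appLE_awayToSection 𝒮 hι hsym q v hv hL hgen m']
  rfl

theorem le_preimage_top (m : M) : U v m ≤ (r 𝒮 hι hsym q v hv hL hgen) ⁻¹ᵁ ⊤ :=
  fun _ _ => trivial

/-- the family of matching generators of `r^* O(1)` and `L` -/
noncomputable def fam :
    GenFam ((Scheme.Modules.pullback (r 𝒮 hι hsym q v hv hL hgen)).obj (O1 𝒮)) L where
  ι := M
  W := fun m => U v m
  a := fun m => res _ (le_preimage_top 𝒮 hι hsym q v hv hL hgen m)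
    (σ (r 𝒮 hι hsym q v hv hL hgen) (O1 𝒮) ⊤ (T 𝒮 hι m))
  b := fun m => res L (le_top : U v m ≤ ⊤) (v m)
  ha := by
    intro m
    have hle := le_preimage 𝒮 hι hsym q v hv hL hgen m
    have e1 : res _ (le_preimage_top 𝒮 hι hsym q v hv hL hgen m)
        (σ (r 𝒮 hι hsym q v hv hL hgen) (O1 𝒮) ⊤ (T 𝒮 hι m)) =
        res _ hle (σ (r 𝒮 hι hsym q v hv hL hgen) (O1 𝒮) (Proj.basicOpen 𝒮 (ι m))
          (res (O1 𝒮) (le_top : Proj.basicOpen 𝒮 (ι m) ≤ ⊤) (T 𝒮 hι m))) := by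
      rw [← σ_res (r 𝒮 hι hsym q v hv hL hgen) (O1 𝒮) (le_top : Proj.basicOpen 𝒮 (ι m) ≤ ⊤),
        res_res]
    rw [e1]
    exact (isGen_σ (r 𝒮 hι hsym q v hv hL hgen)
      (isGen_globalOf 𝒮 (⟨ι m, hι m⟩ : 𝒮 1))).res hle
  hb := isGen_U v
  cov := by
    intro x
    have h := isOpenCover_U v hL hgen
    have hx : x ∈ (⨆ m, U v m : X.Opens) := by
      rw [show (⨆ m, U v m : X.Opens) = ⊤ from h]; trivial
    exact Opens.mem_iSup.1 hx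
  compat := by
    intro m m' w hw
    have hA : res _ (inf_le_left : U v m ⊓ U v m' ≤ U v m)
        (res _ (le_preimage_top 𝒮 hι hsym q v hv hL hgen m)
          (σ (r 𝒮 hι hsym q v hv hL hgen) (O1 𝒮) ⊤ (T 𝒮 hι m))) =
        resR (inf_le_right : U v m ⊓ U v m' ≤ U v m') (φ v m' m) •
          res _ (inf_le_right : U v m ⊓ U v m' ≤ U v m')
            (res _ (le_preimage_top 𝒮 hι hsym q v hv hL hgen m')
              (σ (r 𝒮 hι hsym q v hv hL hgen) (O1 𝒮) ⊤ (T 𝒮 hι m'))) := by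
      rw [← res_smul, ← res_σ_T 𝒮 hι hsym q v hv hL hgen m m', res_res, res_res]
    rw [hA] at hw
    have hgen' : IsGen _ (U v m') (res _ (le_preimage_top 𝒮 hι hsym q v hv hL hgen m')
        (σ (r 𝒮 hι hsym q v hv hL hgen) (O1 𝒮) ⊤ (T 𝒮 hι m'))) := by
      have hle := le_preimage 𝒮 hι hsym q v hv hL hgen m'
      have e1 : res _ (le_preimage_top 𝒮 hι hsym q v hv hL hgen m')
          (σ (r 𝒮 hι hsym q v hv hL hgen) (O1 𝒮) ⊤ (T 𝒮 hι m')) =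
          res _ hle (σ (r 𝒮 hι hsym q v hv hL hgen) (O1 𝒮) (Proj.basicOpen 𝒮 (ι m'))
            (res (O1 𝒮) (le_top : Proj.basicOpen 𝒮 (ι m') ≤ ⊤) (T 𝒮 hι m'))) := by
        rw [← σ_res (r 𝒮 hι hsym q v hv hL hgen) (O1 𝒮) (le_top : Proj.basicOpen 𝒮 (ι m') ≤ ⊤),
          res_res]
      rw [e1]
      exact (isGen_σ (r 𝒮 hι hsym q v hv hL hgen)
        (isGen_globalOf 𝒮 (⟨ι m', hι m'⟩ : 𝒮 1))).res hle
    have hw' : resR (inf_le_right : U v m ⊓ U v m' ≤ U v m') (φ v m' m) = w :=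
      (hgen' (U v m ⊓ U v m') inf_le_right).1 hw
    rw [← hw', ← res_smul, φ_spec, res_res, res_res]

/-- **the isomorphism `r^* O(1) ≅ L`** -/
noncomputable def τ : (Scheme.Modules.pullback (r 𝒮 hι hsym q v hv hL hgen)).obj (O1 𝒮) ≅ L :=
  (fam 𝒮 hι hsym q v hv hL hgen).iso

theorem τ_σ_T (m : M) :
    (τ 𝒮 hι hsym q v hv hL hgen).hom.app ⊤
      (σ (r 𝒮 hι hsym q v hv hL hgen) (O1 𝒮) ⊤ (T 𝒮 hι m)) = v m := by
  apply (fam 𝒮 hι hsym q v hv hL hgen).eq_of_fam L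
  intro (m' : M) V hV hVm'
  have hVm'' : V ≤ U v m' := hVm'
  have h1 : res L hV ((τ 𝒮 hι hsym q v hv hL hgen).hom.app ⊤
      (σ (r 𝒮 hι hsym q v hv hL hgen) (O1 𝒮) ⊤ (T 𝒮 hι m))) =
      res L hVm'' (res L (le_top : U v m' ≤ ⊤) ((τ 𝒮 hι hsym q v hv hL hgen).hom.app ⊤
        (σ (r 𝒮 hι hsym q v hv hL hgen) (O1 𝒮) ⊤ (T 𝒮 hι m)))) := (res_res _ _ _ _).symm
  have h2 : res L hV (v m) = res L hVm'' (res L (le_top : U v m' ≤ ⊤) (v m)) :=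
    (res_res _ _ _ _).symm
  rw [h1, h2]
  congr 1
  have h3 := QcExt.app_res (τ 𝒮 hι hsym q v hv hL hgen).hom (le_top : U v m' ≤ ⊤)
    (σ (r 𝒮 hι hsym q v hv hL hgen) (O1 𝒮) ⊤ (T 𝒮 hι m))
  rw [← h3]
  have h4 := res_σ_T 𝒮 hι hsym q v hv hL hgen m m' (le_preimage_top 𝒮 hι hsym q v hv hL hgen m')
  have h5 := (fam 𝒮 hι hsym q v hv hL hgen).iso_hom_a m'
  have h6 : res ((Scheme.Modules.pullback (r 𝒮 hι hsym q v hv hL hgen)).obj (O1 𝒮))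
      (le_top : U v m' ≤ ⊤) (σ (r 𝒮 hι hsym q v hv hL hgen) (O1 𝒮) ⊤ (T 𝒮 hι m)) =
      φ v m' m • res ((Scheme.Modules.pullback (r 𝒮 hι hsym q v hv hL hgen)).obj (O1 𝒮))
        (le_top : U v m' ≤ ⊤) (σ (r 𝒮 hι hsym q v hv hL hgen) (O1 𝒮) ⊤ (T 𝒮 hι m')) := h4
  rw [h6, Scheme.Modules.Hom.app_smul]
  have h7 : (τ 𝒮 hι hsym q v hv hL hgen).hom.app (U v m')
      (res ((Scheme.Modules.pullback (r 𝒮 hι hsym q v hv hL hgen)).obj (O1 𝒮))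
        (le_top : U v m' ≤ ⊤) (σ (r 𝒮 hι hsym q v hv hL hgen) (O1 𝒮) ⊤ (T 𝒮 hι m'))) =
      res L (le_top : U v m' ≤ ⊤) (v m') := h5
  rw [h7]
  exact φ_spec v m' m

end Groth.Agent.Helper1.ProjUP6
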