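import Mathlib
import Groth.Prelude.Def_ProjUP
import Groth.Agent.Lib.Helper1.ProjUP8
import Groth.Prelude.Def_LCI2
import Groth.Agent.S3572

set_option autoImplicit false
universe u

open CategoryTheory CategoryTheory.Limits AlgebraicGeometry TopologicalSpace Opposite
  HomogeneousLocalization

namespace Groth.Agent.Helper1.VA1

open Groth.Agent.Helper1.QcCech Groth.Agent.Helper1.SubSh Groth.Agent.Helper1.LGen
open Groth.Agent.Helper1 Groth.Agent.Helper1.AmpleLib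
open Groth.Agent.Helper1.ProjUP5 Groth.Agent.Helper1.PullSec Groth.Agent.Helper1.PullGen
open Groth.Agent.Helper1.ProjUP7

set_option synthInstance.maxHeartbeats 400000

variable {X : Scheme.{u}}

/-- the locus of generation is transported by isomorphisms -/
theorem genLocus_of_iso {M N : X.Modules} (e : M ≅ N) (σ : Γ(M, ⊤)) :
    CohB1.genLocus N (TwistAmple.homOfSec N (e.hom.app ⊤ σ)) =
      CohB1.genLocus M (TwistAmple.homOfSec M σ) := by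
  ext x
  change x ∈ CohB1.genLocus _ _ ↔ x ∈ CohB1.genLocus _ _
  rw [mem_genLocus_iff_isGen, mem_genLocus_iff_isGen]
  constructor
  · rintro ⟨W, hxW, hW⟩
    refine ⟨W, hxW, ?_⟩
    rw [secVal_homOfSec] at hW ⊢
    rw [← QcExt.app_res] at hW
    have := isGen_of_iso_app e.symm hW
    rwa [Iso.symm_hom, iso_inv_hom_app] at this
  · rintro ⟨W, hxW, hW⟩
    refine ⟨W, hxW, ?_⟩
    rw [secVal_homOfSec] at hW ⊢
    rw [← QcExt.app_res]
    exact isGen_of_iso_app e hW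

section Facts

variable {A S : Type u} [CommRing A] [CommRing S] [Algebra A S] (𝒮 : ℕ → Submodule A S)
  [GradedAlgebra 𝒮] {K : Type*} (t : K → S) (ht : ∀ k, t k ∈ 𝒮 1)
  (hcov : ∀ x : Proj 𝒮, ∃ k, x ∈ D 𝒮 t k)
  (r : X ⟶ Proj 𝒮) {G : X.Modules}
  (τ : (Scheme.Modules.pullback r).obj (O1 𝒮) ≅ G) (s : K → Γ(G, ⊤))
  (hτ : ∀ k, τ.hom.app ⊤ (pt 𝒮 t ht r k) = s k)

include hcov hτ in
theorem preimage_D (k : K) :
    r ⁻¹ᵁ D 𝒮 t k = CohB1.genLocus G (TwistAmple.homOfSec G (s k)) := by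
  rw [← hτ k, genLocus_of_iso τ, genLocus_pt 𝒮 t ht hcov r k]

include hτ in
theorem res_s (k l : K) :
    res G (le_top : r ⁻¹ᵁ D 𝒮 t k ≤ ⊤) (s l) =
      (r.app (D 𝒮 t k)).hom (c 𝒮 t ht k l) • res G (le_top : r ⁻¹ᵁ D 𝒮 t k ≤ ⊤) (s k) := by
  have e1 : res _ (le_top : r ⁻¹ᵁ D 𝒮 t k ≤ ⊤) (pt 𝒮 t ht r k) = g 𝒮 t ht r k :=
    σ_res r (O1 𝒮) (le_top : D 𝒮 t k ≤ ⊤) (T 𝒮 t ht k)
  rw [← hτ l, ← hτ k, ← QcExt.app_res, ← QcExt.app_res, res_pt 𝒮 t ht r k l le_top, e1,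
    Scheme.Modules.Hom.app_smul]

include hτ in
theorem isGen_s (k : K) :
    IsGen G (r ⁻¹ᵁ D 𝒮 t k) (res G (le_top : r ⁻¹ᵁ D 𝒮 t k ≤ ⊤) (s k)) := by
  have e1 : res _ (le_top : r ⁻¹ᵁ D 𝒮 t k ≤ ⊤) (pt 𝒮 t ht r k) = g 𝒮 t ht r k :=
    σ_res r (O1 𝒮) (le_top : D 𝒮 t k ≤ ⊤) (T 𝒮 t ht k)
  rw [← hτ k, ← QcExt.app_res, e1]
  exact isGen_of_iso_app τ (isGen_g 𝒮 t ht r k)

include hτ in
theorem res_s_le (k l : K) (U : X.Opens) (hU : U ≤ r ⁻¹ᵁ D 𝒮 t k) :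
    res G (le_top : U ≤ ⊤) (s l) =
      (r.appLE (D 𝒮 t k) U hU).hom (c 𝒮 t ht k l) • res G (le_top : U ≤ ⊤) (s k) := by
  have h := congrArg (res G hU) (res_s 𝒮 t ht r τ s hτ k l)
  rw [res_res, res_smul, res_res] at h
  rw [h]
  rfl

include hτ in
theorem coeff_eq (k l : K) (U : X.Opens) (hU : U ≤ r ⁻¹ᵁ D 𝒮 t k) (ρ : Γ(X, U))
    (hρ : ρ • res G (le_top : U ≤ ⊤) (s k) = res G (le_top : U ≤ ⊤) (s l)) :
    ρ = (r.appLE (D 𝒮 t k) U hU).hom (c 𝒮 t ht k l) := by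
  have hgen : IsGen G U (res G (le_top : U ≤ ⊤) (s k)) := by
    have := (isGen_s 𝒮 t ht r τ s hτ k).res hU
    rwa [res_res] at this
  apply (TensGen.IsGen.bijective_self hgen).1
  change ρ • _ = (r.appLE (D 𝒮 t k) U hU).hom (c 𝒮 t ht k l) • _
  rw [hρ, res_s_le 𝒮 t ht r τ s hτ k l U hU]

end Facts

section Criterion

theorem appTop_restrict_surjective {X Y : Scheme.{u}} (f : X ⟶ Y) (U : Y.Opens)
    (h : Function.Surjective (f.app U).hom) : Function.Surjective ((f ∣_ U).appTop).hom := by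
  rw [morphismRestrict_appTop]
  have key : ∀ (U' : Y.Opens), U' = U → Function.Surjective (f.app U').hom := by
    rintro _ rfl; exact h
  have h1 := key (U.ι ''ᵁ ⊤) (by simp)
  have h2 : Function.Bijective
      (X.presheaf.map (eqToHom (image_morphismRestrict_preimage f U ⊤)).op).hom := by
    have : IsIso (X.presheaf.map (eqToHom (image_morphismRestrict_preimage f U ⊤)).op) :=
      inferInstance
    exact (ConcreteCategory.isIso_iff_bijective _).1 this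
  exact h2.2.comp h1

/-- **immersion criterion**: a morphism which over the members of a family of affine opens
covering its image has affine preimages and is surjective on sections is an immersion -/
theorem isImmersion_of_charts {X P : Scheme.{u}} (i : X ⟶ P) {𝒜 : Type*} (V : 𝒜 → P.Opens)
    (hV : ∀ a, IsAffineOpen (V a)) (hU : ∀ a, IsAffineOpen (i ⁻¹ᵁ V a))
    (hcov : ∀ x : X, ∃ a, i x ∈ V a)
    (hsurj : ∀ a, Function.Surjective (i.app (V a)).hom) : IsImmersion i := by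
  have : MorphismProperty.RespectsRight @IsImmersion @IsOpenImmersion :=
    ⟨fun i hi f hf => by
      have : IsOpenImmersion i := hi
      have : IsImmersion f := hf
      change IsImmersion (f ≫ i)
      infer_instance⟩
  apply IsZariskiLocalAtTarget.of_range_subset_iSup (P := @IsImmersion) V
  · rintro _ ⟨x, rfl⟩
    obtain ⟨a, ha⟩ := hcov x
    exact Opens.mem_iSup.2 ⟨a, ha⟩
  · intro a
    have h1 : IsAffine (↑(V a) : Scheme.{u}) := hV a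
    have h2 : IsAffine (↑(i ⁻¹ᵁ V a) : Scheme.{u}) := hU a
    have : IsClosedImmersion (i ∣_ V a) :=
      IsClosedImmersion.of_surjective_of_isAffine _ (appTop_restrict_surjective i (V a) (hsurj a))
    infer_instance

theorem isAffineOpen_chart {P₀ S B : Scheme.{u}} (p : P₀ ⟶ B) (g : S ⟶ B) [IsAffine B]
    (D : P₀.Opens) (hD : IsAffineOpen D) (S₀ : S.Opens) (hS₀ : IsAffineOpen S₀) :
    IsAffineOpen ((pullback.fst p g) ⁻¹ᵁ D ⊓ (pullback.snd p g) ⁻¹ᵁ S₀) := by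
  have h1 : IsAffine (↑D : Scheme.{u}) := hD
  have h2 : IsAffine (↑S₀ : Scheme.{u}) := hS₀
  let m := pullback.map (D.ι ≫ p) (S₀.ι ≫ g) p g D.ι S₀.ι (𝟙 B) (by simp) (by simp)
  have : IsAffine (pullback (D.ι ≫ p) (S₀.ι ≫ g)) := inferInstance
  have hrange : m.opensRange = (pullback.fst p g) ⁻¹ᵁ D ⊓ (pullback.snd p g) ⁻¹ᵁ S₀ := by
    apply Opens.ext
    have := Scheme.Pullback.range_map (D.ι ≫ p) (S₀.ι ≫ g) p g D.ι S₀.ι (𝟙 B) (by simp) (by simp)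
    change Set.range m = _
    rw [this]
    simp
  rw [← hrange]
  exact isAffineOpen_opensRange m

theorem appLE_mem_range {X P S : Scheme.{u}} (i : X ⟶ P) (p : P ⟶ S) (q : X ⟶ S) (h : i ≫ p = q)
    (W : S.Opens) (V : P.Opens) (hV : V ≤ p ⁻¹ᵁ W) (hU : i ⁻¹ᵁ V ≤ q ⁻¹ᵁ W) (y : Γ(S, W)) :
    (q.appLE W (i ⁻¹ᵁ V) hU).hom y ∈ RingHom.range (i.app V).hom := by
  subst h
  refine ⟨(p.appLE W V hV).hom y, ?_⟩
  have := Scheme.Hom.appLE_comp_appLE i p W V (i ⁻¹ᵁ V) hV le_rfl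
  rw [Scheme.Hom.appLE_eq_app] at this
  exact congrArg (fun φ => φ.hom y) this

end Criterion

section Gen

variable {X : Scheme.{u}}

/-- sections whose loci of generation cover `X` generate -/
theorem generatedBy_of_cover {G : X.Modules} {ι : Type*} (s : ι → Γ(G, ⊤))
    (hcov : ∀ x : X, ∃ k, x ∈ CohB1.genLocus G (TwistAmple.homOfSec G (s k))) :
    ProjUP.GeneratedBy G s := by
  intro x
  obtain ⟨k, hk⟩ := hcov x
  obtain ⟨W, hxW, hW⟩ := (mem_genLocus_iff_isGen _ x).1 hk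
  rw [secVal_homOfSec] at hW
  rw [eq_top_iff]
  intro z _
  obtain ⟨V, hVW, hxV, m, rfl⟩ := TopCat.Presheaf.exists_le_germ_eq G.presheaf z hxW
  obtain ⟨ρ, hρ⟩ := (hW V hVW).2 m
  have hρ' : ρ • res G hVW (res G (le_top : W ≤ ⊤) (s k)) = m := hρ
  rw [res_res] at hρ'
  rw [← hρ', ProjUP4.germ_smul']
  apply Submodule.smul_mem
  apply Submodule.subset_span
  refine ⟨k, ?_⟩
  exact (TopCat.Presheaf.germ_res_apply G.presheaf (homOfLE (le_top : V ≤ ⊤)) x hxV (s k)).symm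

end Gen

section Core

variable {X S : Scheme.{u}} (q : X ⟶ S) {G : X.Modules} (hG : PicF.IsInvertible G) (n : ℕ)
  (s : Fin (n + 1) → Γ(G, ⊤)) (hs : ProjUP.GeneratedBy G s)
  {𝒜 : Type*} (j : 𝒜 → Fin (n + 1)) (S₀ : 𝒜 → S.Opens) (hS₀ : ∀ a, IsAffineOpen (S₀ a))
  (haff : ∀ a, IsAffineOpen (CohB1.genLocus G (TwistAmple.homOfSec G (s (j a)))))
  (hle : ∀ a, CohB1.genLocus G (TwistAmple.homOfSec G (s (j a))) ≤ q ⁻¹ᵁ S₀ a)
  (hcovX : ∀ x : X, ∃ a, x ∈ CohB1.genLocus G (TwistAmple.homOfSec G (s (j a))))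
  (hgen : ∀ (a : 𝒜) (U : X.Opens) (_ : U = CohB1.genLocus G (TwistAmple.homOfSec G (s (j a))))
    (hUS : U ≤ q ⁻¹ᵁ S₀ a) (T : Subring Γ(X, U)),
    (∀ y, (q.appLE (S₀ a) U hUS).hom y ∈ T) →
    (∀ (l : Fin (n + 1)) (ρ : Γ(X, U)),
      ρ • res G (le_top : U ≤ ⊤) (s (j a)) = res G (le_top : U ≤ ⊤) (s l) → ρ ∈ T) → T = ⊤)

include hG hs hS₀ haff hle hcovX hgen in
/-- **core criterion for relative very ampleness** -/
theorem isRelVeryAmplePn_of_charts : RelAmple.IsRelVeryAmplePn q G := by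
  obtain ⟨r, hr, τ, hτ⟩ := Groth.Agent.S3572.result (R := ULift.{u} ℤ) n
    (specULiftZIsTerminal.from X) G hG s hs
  let 𝒮 := CohB1.polyGrading n (ULift.{u} ℤ)
  let pr₁ := pullback.fst (CohB1.ProjSpace.toSpec n (ULift.{u} ℤ)) (specULiftZIsTerminal.from S)
  let pr₂ := pullback.snd (CohB1.ProjSpace.toSpec n (ULift.{u} ℤ)) (specULiftZIsTerminal.from S)
  let i : X ⟶ CohB1.ProjSpaceOver n S := pullback.lift r q (specULiftZIsTerminal.hom_ext _ _)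
  have hi1 : i ≫ pr₁ = r := pullback.lift_fst _ _ _
  have hi2 : i ≫ pr₂ = q := pullback.lift_snd _ _ _
  have hτ' : ∀ k, τ.hom.app ⊤ (pt 𝒮 (ProjUP8.tX n _) (ProjUP8.htX n _) r k) = s k := hτ
  have hpre : ∀ k, r ⁻¹ᵁ D 𝒮 (ProjUP8.tX n _) k =
      CohB1.genLocus G (TwistAmple.homOfSec G (s k)) :=
    preimage_D 𝒮 (ProjUP8.tX n _) (ProjUP8.htX n _) (ProjUP8.hcov n _) r τ s hτ'
  refine ⟨n, i, ?_, hi2, ⟨?_⟩⟩
  · let V : 𝒜 → (CohB1.ProjSpaceOver n S).Opens := fun a =>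
      pr₁ ⁻¹ᵁ D 𝒮 (ProjUP8.tX n _) (j a) ⊓ pr₂ ⁻¹ᵁ S₀ a
    have hiV : ∀ a, i ⁻¹ᵁ V a = CohB1.genLocus G (TwistAmple.homOfSec G (s (j a))) := by
      intro a
      change i ⁻¹ᵁ (pr₁ ⁻¹ᵁ D 𝒮 (ProjUP8.tX n _) (j a)) ⊓ i ⁻¹ᵁ (pr₂ ⁻¹ᵁ S₀ a) = _
      rw [← Scheme.Hom.comp_preimage, ← Scheme.Hom.comp_preimage, hi1, hi2, hpre]
      exact inf_eq_left.2 (hle a)
    apply isImmersion_of_charts i V
    · intro a
      exact isAffineOpen_chart _ _ _
        (Proj.isAffineOpen_basicOpen 𝒮 _ (ProjUP8.htX n _ (j a)) one_pos) _ (hS₀ a)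
    · intro a
      rw [hiV]
      exact haff a
    · intro x
      obtain ⟨a, ha⟩ := hcovX x
      refine ⟨a, ?_⟩
      change x ∈ i ⁻¹ᵁ V a
      rw [hiV]
      exact ha
    · intro a
      have hUS : i ⁻¹ᵁ V a ≤ q ⁻¹ᵁ S₀ a := by rw [hiV]; exact hle a
      have hUD : i ⁻¹ᵁ V a ≤ r ⁻¹ᵁ D 𝒮 (ProjUP8.tX n _) (j a) := by rw [hiV, hpre]
      have hT := hgen a (i ⁻¹ᵁ V a) (hiV a) hUS (RingHom.range (i.app (V a)).hom)
        (fun y => appLE_mem_range i pr₂ q hi2 (S₀ a) (V a) inf_le_right hUS y)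
        (fun l ρ hρ => by
          rw [coeff_eq 𝒮 (ProjUP8.tX n _) (ProjUP8.htX n _) r τ s hτ' (j a) l _ hUD ρ hρ]
          exact appLE_mem_range i pr₁ r hi1 _ (V a) inf_le_left hUD _)
      exact RingHom.range_eq_top.1 hT
  · exact τ.symm ≪≫ (Scheme.Modules.pullbackCongr hi1.symm).app _ ≪≫
      ((Scheme.Modules.pullbackComp i pr₁).app _).symm

end Core

end Groth.Agent.Helper1.VA1
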