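import Mathlib

set_option autoImplicit false
universe u

open HomogeneousLocalization

namespace Groth.Agent.Helper1.ProjVA1

section FinGen
variable {R A : Type*} [CommSemiring R] [Semiring A] [Algebra R A]

theorem exists_finset_of_mem_adjoin {S : Set A} {a : A} (ha : a ∈ Algebra.adjoin R S) :
    ∃ t : Finset A, (t : Set A) ⊆ S ∧ a ∈ Algebra.adjoin R (t : Set A) := by
  classical
  induction ha using Algebra.adjoin_induction with
  | mem x hx =>
    exact ⟨{x}, by simpa using hx, Algebra.subset_adjoin (by simp)⟩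
  | algebraMap r => exact ⟨∅, by simp, Subalgebra.algebraMap_mem _ r⟩
  | add x y _ _ hx hy =>
    obtain ⟨t1, h1, h1'⟩ := hx
    obtain ⟨t2, h2, h2'⟩ := hy
    refine ⟨t1 ∪ t2, by simp [h1, h2], ?_⟩
    exact add_mem (Algebra.adjoin_mono (by simp) h1') (Algebra.adjoin_mono (by simp) h2')
  | mul x y _ _ hx hy =>
    obtain ⟨t1, h1, h1'⟩ := hx
    obtain ⟨t2, h2, h2'⟩ := hy
    refine ⟨t1 ∪ t2, by simp [h1, h2], ?_⟩
    exact mul_mem (Algebra.adjoin_mono (by simp) h1') (Algebra.adjoin_mono (by simp) h2')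

theorem exists_finset_adjoin_eq_top [Algebra.FiniteType R A] {S : Set A}
    (hS : Algebra.adjoin R S = ⊤) :
    ∃ t : Finset A, (t : Set A) ⊆ S ∧ Algebra.adjoin R (t : Set A) = ⊤ := by
  classical
  obtain ⟨u, hu⟩ := (Algebra.FiniteType.out : (⊤ : Subalgebra R A).FG)
  have h : ∀ x : A, ∃ t : Finset A, (t : Set A) ⊆ S ∧ x ∈ Algebra.adjoin R (t : Set A) :=
    fun x => exists_finset_of_mem_adjoin (hS ▸ Algebra.mem_top)
  choose t ht ht' using h
  refine ⟨u.biUnion t, ?_, ?_⟩
  · intro x hx
    simp only [Finset.coe_biUnion, Set.mem_iUnion] at hx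
    obtain ⟨i, _, hx⟩ := hx
    exact ht i hx
  · rw [← top_le_iff, ← hu, Algebra.adjoin_le_iff]
    intro x hx
    refine Algebra.adjoin_mono ?_ (ht' x)
    intro y hy
    simp only [Finset.coe_biUnion, Set.mem_iUnion]
    exact ⟨x, hx, hy⟩

end FinGen

section Away
variable {R A : Type*} [CommRing R] [CommRing A] [Algebra R A] (𝒜 : ℕ → Submodule R A)
  [GradedAlgebra 𝒜]

theorem mk_mul_mk {g : A} (hg : g ∈ 𝒜 1) (m m' : ℕ) (p p' : A) (hp : p ∈ 𝒜 (m • 1))
    (hp' : p' ∈ 𝒜 (m' • 1)) (hpp' : p * p' ∈ 𝒜 ((m + m') • 1)) :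
    Away.mk 𝒜 hg (m + m') (p * p') hpp' = Away.mk 𝒜 hg m p hp * Away.mk 𝒜 hg m' p' hp' := by
  apply HomogeneousLocalization.val_injective
  rw [HomogeneousLocalization.val_mul, Away.val_mk, Away.val_mk, Away.val_mk, Localization.mk_mul]
  congr 1
  ext
  simp [pow_add]

/-- the monomial predicate -/
def Q {g : A} (hg : g ∈ 𝒜 1) (T : Subring (Away 𝒜 g)) (p : A) : Prop :=
  ∃ (m : ℕ) (hp : p ∈ 𝒜 (m • 1)), Away.mk 𝒜 hg m p hp ∈ T

theorem away_subring_eq_top (n : ℕ) (s : Set A) (hgen : Algebra.adjoin R s = ⊤)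
    {g : A} (hg : g ∈ 𝒜 1) (T : Subring (Away 𝒜 g))
    (h0 : ∀ r : R, fromZeroRingHom 𝒜 _ (algebraMap R (𝒜 0) r) ∈ T)
    (h1 : ∀ b ∈ s, ∃ (e : ℕ) (_ : e ≤ n) (_ : b ∈ 𝒜 e) (hb' : b * g ^ (n - e) ∈ 𝒜 (n • 1)),
      Away.mk 𝒜 hg n (b * g ^ (n - e)) hb' ∈ T) : T = ⊤ := by
  classical
  -- monomials
  have hQ : ∀ p ∈ Submonoid.closure s, Q 𝒜 hg T p := by
    intro p hp
    induction hp using Submonoid.closure_induction with
    | mem b hb =>
      obtain ⟨e, he, hbe, hb', hT⟩ := h1 b hb
      refine ⟨e, by simpa using hbe, ?_⟩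
      convert hT using 1
      apply HomogeneousLocalization.val_injective
      rw [Away.val_mk, Away.val_mk, Localization.mk_eq_mk_iff, Localization.r_iff_exists]
      refine ⟨1, ?_⟩
      simp only [OneMemClass.coe_one, one_mul]
      have : g ^ n = g ^ e * g ^ (n - e) := by rw [← pow_add, Nat.add_sub_cancel' he]
      rw [this]; ring
    | one =>
      refine ⟨0, by simpa using SetLike.GradedOne.one_mem, ?_⟩
      convert T.one_mem using 1
      apply HomogeneousLocalization.val_injective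
      rw [Away.val_mk, HomogeneousLocalization.val_one]
      simp
    | mul p p' _ _ hp hp' =>
      obtain ⟨m, hm, hT⟩ := hp
      obtain ⟨m', hm', hT'⟩ := hp'
      have hpp' : p * p' ∈ 𝒜 ((m + m') • 1) := by
        rw [add_smul]; exact SetLike.GradedMul.mul_mem hm hm'
      refine ⟨m + m', hpp', ?_⟩
      rw [mk_mul_mk 𝒜 hg m m' p p' hm hm' hpp']
      exact T.mul_mem hT hT'
  -- all elements
  have hP : ∀ a : A, ∀ k : ℕ, ∀ hk : (DirectSum.decompose 𝒜 a k : A) ∈ 𝒜 (k • 1),
      Away.mk 𝒜 hg k (DirectSum.decompose 𝒜 a k : A) hk ∈ T := by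
    intro a
    have ha : a ∈ Submodule.span R (Submonoid.closure s : Set A) := by
      rw [← Algebra.adjoin_eq_span, hgen]; trivial
    induction ha using Submodule.span_induction with
    | mem p hp =>
      intro k hk
      obtain ⟨m, hm, hT⟩ := hQ p hp
      by_cases hkm : k = m
      · subst hkm
        have hm' : p ∈ 𝒜 k := by simpa using hm
        convert hT using 2
        exact DirectSum.decompose_of_mem_same 𝒜 hm'
      · have hm' : p ∈ 𝒜 m := by simpa using hm
        have h0' : (DirectSum.decompose 𝒜 p k : A) = 0 :=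
          DirectSum.decompose_of_mem_ne 𝒜 hm' (Ne.symm hkm)
        convert T.zero_mem using 1
        apply HomogeneousLocalization.val_injective
        rw [Away.val_mk, HomogeneousLocalization.val_zero, h0', Localization.mk_zero]
    | zero =>
      intro k hk
      convert T.zero_mem using 1
      apply HomogeneousLocalization.val_injective
      rw [Away.val_mk, HomogeneousLocalization.val_zero]
      simp [Localization.mk_zero]
    | add x y _ _ hx hy =>
      intro k hk
      have hxk : (DirectSum.decompose 𝒜 x k : A) ∈ 𝒜 (k • 1) := by simp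
      have hyk : (DirectSum.decompose 𝒜 y k : A) ∈ 𝒜 (k • 1) := by simp
      convert T.add_mem (hx k hxk) (hy k hyk) using 1
      apply HomogeneousLocalization.val_injective
      rw [HomogeneousLocalization.val_add, Away.val_mk, Away.val_mk, Away.val_mk,
        Localization.add_mk_self]
      simp
    | smul r x _ hx =>
      intro k hk
      have hxk : (DirectSum.decompose 𝒜 x k : A) ∈ 𝒜 (k • 1) := by simp
      convert T.mul_mem (h0 r) (hx k hxk) using 1
      apply HomogeneousLocalization.val_injective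
      rw [HomogeneousLocalization.val_mul, Away.val_mk, Away.val_mk]
      have h3 : ((DirectSum.decompose 𝒜 (r • x) k : 𝒜 k) : A) =
          algebraMap R A r * (DirectSum.decompose 𝒜 x k : A) := by
        rw [DirectSum.decompose_smul, DirectSum.smul_apply, Submodule.coe_smul, Algebra.smul_def]
      rw [show (fromZeroRingHom 𝒜 (Submonoid.powers g) (algebraMap R (𝒜 0) r)).val =
        Localization.mk (algebraMap R A r) 1 from rfl, Localization.mk_mul]
      simp only [h3, one_mul]
  -- conclusion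
  rw [eq_top_iff]
  intro x _
  obtain ⟨k, a, ha, rfl⟩ := Away.mk_surjective 𝒜 hg x
  have ha' : a ∈ 𝒜 k := by simpa using ha
  have h := hP a k (by simp)
  convert h using 2
  exact (DirectSum.decompose_of_mem_same 𝒜 ha').symm

theorem exists_of_mem_zero (s : Set A) (hs : ∀ b ∈ s, ∃ e, 0 < e ∧ b ∈ 𝒜 e)
    (hgen : Algebra.adjoin R s = ⊤) (x : A) (hx : x ∈ 𝒜 0) : ∃ r : R, algebraMap R A r = x := by
  classical
  have h : ∀ a : A, GradedRing.projZeroRingHom 𝒜 a ∈ (algebraMap R A).range := by
    intro a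
    have ha : a ∈ Algebra.adjoin R s := hgen ▸ Algebra.mem_top
    induction ha using Algebra.adjoin_induction with
    | mem b hb =>
      obtain ⟨e, he, hbe⟩ := hs b hb
      rw [GradedRing.projZeroRingHom_apply, DirectSum.decompose_of_mem_ne 𝒜 hbe he.ne']
      exact Subring.zero_mem _
    | algebraMap r =>
      rw [GradedRing.projZeroRingHom_apply,
        DirectSum.decompose_of_mem_same 𝒜 (SetLike.algebraMap_mem_graded 𝒜 r)]
      exact ⟨r, rfl⟩
    | add a b _ _ ha hb => rw [map_add]; exact Subring.add_mem _ ha hb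
    | mul a b _ _ ha hb => rw [map_mul]; exact Subring.mul_mem _ ha hb
  obtain ⟨r, hr⟩ := h x
  refine ⟨r, ?_⟩
  rw [hr, GradedRing.projZeroRingHom_apply, DirectSum.decompose_of_mem_same 𝒜 hx]

end Away

end Groth.Agent.Helper1.ProjVA1
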