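import Mathlib
import Groth.Agent.Lib.Helper1.AmpleTransport

set_option autoImplicit false
universe u
open CategoryTheory CategoryTheory.Limits AlgebraicGeometry TopologicalSpace Opposite

namespace Groth.Agent.Helper1.AmpleLib

open Groth.Agent.Helper1.QcCech Groth.Agent.Helper1.SubSh Groth.Agent.Helper1.LGen
open Groth.Agent.Helper1.TmulLib Groth.Agent.Helper1 Groth.Agent.Helper1.TwistSec
open Groth.Agent.Helper1.TensGen Groth.Agent.Helper1.TwForm

variable {X Y : Scheme.{u}} (j : Y ⟶ X) [IsOpenImmersion j]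

theorem isGen_of_smul_unit {L : X.Modules} {W : X.Opens} {a : Γ(L, W)} (u : (Γ(X, W))ˣ)
    (h : IsGen L W ((u : Γ(X, W)) • a)) : IsGen L W a := by
  have := IsGen.smul_unit h u⁻¹
  rwa [smul_smul, ← Units.val_mul, inv_mul_cancel, Units.val_one, one_smul] at this

/-- sections of a restriction versus sections of the module, up to units: the loci of
generation -/
theorem genLocus_restrict_eq_of_unit {A : X.Modules} (s : Coh.structureModule X ⟶ A)
    (s' : Coh.structureModule Y ⟶ A.restrict j)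
    (h : ∀ W' : Y.Opens, ∃ u : (Γ(X, j ''ᵁ W'))ˣ,
      secVal s (j ''ᵁ W') = (u : Γ(X, j ''ᵁ W')) • (show Γ(A, j ''ᵁ W') from secVal s' W')) :
    CohB1.genLocus (A.restrict j) s' = j ⁻¹ᵁ CohB1.genLocus A s := by
  ext y
  change y ∈ CohB1.genLocus (A.restrict j) s' ↔ j y ∈ CohB1.genLocus A s
  rw [mem_genLocus_iff_isGen, mem_genLocus_iff_isGen]
  constructor
  · rintro ⟨W', hyW', hW'⟩
    refine ⟨j ''ᵁ W', ⟨y, hyW', rfl⟩, ?_⟩
    obtain ⟨u, hu⟩ := h W'
    rw [hu]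
    exact IsGen.smul_unit (isGen_image_of_isGen_restrict j A W' _ hW') u
  · rintro ⟨W, hyW, hW⟩
    refine ⟨j ⁻¹ᵁ W, hyW, ?_⟩
    have h1 := hW.res (j.image_preimage_le W)
    obtain ⟨u, hu⟩ := h (j ⁻¹ᵁ W)
    rw [res_secVal, hu] at h1
    exact isGen_restrict_of_isGen_image j A _ _ (isGen_of_smul_unit u h1)

/-- a variant of `quasiSeparatedSpace_of_affine_cover` -/
theorem quasiSeparatedSpace_of_affine_cover'
    (h : ∀ x : X, ∃ U : X.Opens, x ∈ U ∧ IsAffineOpen U ∧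
      ∀ V : X.Opens, IsAffineOpen V → IsAffineOpen (V ⊓ U)) :
    QuasiSeparatedSpace X := by
  rw [quasiSeparatedSpace_iff_forall_affineOpens]
  intro U V
  choose W hxW hWaff hWι using h
  have hU : IsCompact (U.1 : Set X) := U.2.isCompact
  have key : ∀ x : X, IsCompact ((U.1 ⊓ W x : X.Opens) ∩ (V.1 ⊓ W x : X.Opens) : Set X) := by
    intro x
    have hUW : IsAffineOpen (U.1 ⊓ W x) := hWι x U.1 U.2
    have hVW : IsAffineOpen (V.1 ⊓ W x) := hWι x V.1 V.2
    exact (hWaff x).isQuasiSeparated _ _ (fun y hy => hy.2) (U.1 ⊓ W x).isOpen hUW.isCompact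
      (fun y hy => hy.2) (V.1 ⊓ W x).isOpen hVW.isCompact
  obtain ⟨S, hS⟩ := hU.elim_finite_subcover (fun x => ((W x : X.Opens) : Set X))
    (fun x => (W x).isOpen) (fun x _ => Set.mem_iUnion.2 ⟨x, hxW x⟩)
  have : (U.1 : Set X) ∩ (V.1 : Set X) =
      ⋃ x ∈ S, ((U.1 ⊓ W x : X.Opens) ∩ (V.1 ⊓ W x : X.Opens) : Set X) := by
    ext y
    simp only [Set.mem_inter_iff, Set.mem_iUnion, SetLike.mem_coe, Opens.coe_inf, exists_prop]
    constructor
    · rintro ⟨hyU, hyV⟩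
      have := hS hyU
      simp only [Set.mem_iUnion, SetLike.mem_coe, exists_prop] at this
      obtain ⟨x, hxS, hyx⟩ := this
      exact ⟨x, hxS, ⟨hyU, hyx⟩, ⟨hyV, hyx⟩⟩
    · rintro ⟨x, -, ⟨hyU, -⟩, ⟨hyV, -⟩⟩
      exact ⟨hyU, hyV⟩
  rw [this]
  exact S.isCompact_biUnion fun x _ => key x

omit j in
/-- **gluing ampleness over a cover by basic opens of global functions** -/
theorem isAmple_of_basicOpen_cover [CompactSpace X] (L : X.Modules)
    (h : ∀ x : X, ∃ g : Γ(X, ⊤), x ∈ X.basicOpen g ∧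
      CohB1.IsAmple (L.restrict (X.basicOpen g).ι)) :
    CohB1.IsAmple L := by
  -- invertibility
  have hinv : PicF.IsInvertible L := by
    apply isInvertible_of_locGen
    intro x
    obtain ⟨g, hxg, hLg⟩ := h x
    obtain ⟨W', a, hyW', ha⟩ := exists_isGen hLg.1 (⟨x, hxg⟩ : ↥(X.basicOpen g))
    exact ⟨(X.basicOpen g).ι ''ᵁ W', a, ⟨⟨x, hxg⟩, hyW', rfl⟩,
      isGen_image_of_isGen_restrict (X.basicOpen g).ι L W' a ha⟩
  -- quasi-separatedness
  have hqs : QuasiSeparatedSpace X := by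
    apply quasiSeparatedSpace_of_affine_cover'
    intro x
    obtain ⟨g, hxg, hLg⟩ := h x
    obtain ⟨n, s', hy, haff⟩ := hLg.2.2 (⟨x, hxg⟩ : ↥(X.basicOpen g))
    refine ⟨(X.basicOpen g).ι ''ᵁ CohB1.genLocus _ s', ⟨⟨x, hxg⟩, hy, rfl⟩,
      haff.image_of_isOpenImmersion _, fun V hV => ?_⟩
    have h1 : IsAffineOpen ((X.basicOpen g).ι ⁻¹ᵁ V) := hV.preimage (X.basicOpen g).ι
    have h2 := isAffineOpen_genLocus_inf (isInvertible_tensorPow hLg.1 (n + 1)) s' h1
    have h3 := h2.image_of_isOpenImmersion (X.basicOpen g).ι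
    have h4 : (X.basicOpen g).ι ''ᵁ (CohB1.genLocus _ s' ⊓ (X.basicOpen g).ι ⁻¹ᵁ V) =
        V ⊓ (X.basicOpen g).ι ''ᵁ CohB1.genLocus _ s' := by
      ext z
      constructor
      · rintro ⟨y, ⟨hy1, hy2⟩, rfl⟩
        exact ⟨hy2, ⟨y, hy1, rfl⟩⟩
      · rintro ⟨hz1, ⟨y, hy1, rfl⟩⟩
        exact ⟨y, ⟨hy1, hz1⟩, rfl⟩
    rwa [h4] at h3
  refine ⟨hinv, inferInstance, fun x => ?_⟩
  obtain ⟨g, hxg, hLg⟩ := h x
  set j := (X.basicOpen g).ι with hj
  let y : ↥(X.basicOpen g) := ⟨x, hxg⟩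
  obtain ⟨N, s', hy, haff⟩ := hLg.2.2 y
  set A := CohB1.tensorPow L (N + 1) with hAdef
  have hA : PicF.IsInvertible A := isInvertible_tensorPow hinv (N + 1)
  have hAq : A.IsQuasicoherent := InvQc.isQuasicoherent_of_isInvertible _ hA
  let s'' : Coh.structureModule (↑(X.basicOpen g) : Scheme.{u}) ⟶ A.restrict j :=
    s' ≫ (restrictTensorPowIso j hinv (N + 1)).inv
  have hs'' : CohB1.genLocus _ s'' = CohB1.genLocus _ s' :=
    TwistAmple.genLocus_comp_iso s' (restrictTensorPowIso j hinv (N + 1)).symm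
  have e : j ''ᵁ ⊤ = X.basicOpen g := by simp [hj]
  let σ : Γ(A, j ''ᵁ ⊤) := secVal s'' ⊤
  have hle0 : (⊤ ⊓ X.basicOpen g : X.Opens) ≤ j ''ᵁ ⊤ := by rw [e]; exact inf_le_right
  obtain ⟨m, τ, hτ⟩ := QcsLoc.ext_of_isCompact A g ⊤ (IsQuasiSeparated.of_quasiSeparatedSpace _)
    ⊤ isCompact_univ le_rfl le_rfl (QcCech.res A hle0 σ)
  let τ' : Γ(A, ⊤) := g • τ
  set s := TwistAmple.homOfSec A τ' with hs
  have himg : ∀ W' : (↑(X.basicOpen g) : Scheme.{u}).Opens, j ''ᵁ W' ≤ X.basicOpen g := by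
    intro W'
    exact (j.image_mono (le_top : W' ≤ ⊤)).trans e.le
  have hcond : ∀ W' : (↑(X.basicOpen g) : Scheme.{u}).Opens, ∃ u : (Γ(X, j ''ᵁ W'))ˣ,
      secVal s (j ''ᵁ W') =
        (u : Γ(X, j ''ᵁ W')) • (show Γ(A, j ''ᵁ W') from secVal s'' W') := by
    intro W'
    have hu : IsUnit (resR (le_top : j ''ᵁ W' ≤ ⊤) g) :=
      (GenLoc.isUnit_res_iff g _ _).2 (himg W')
    obtain ⟨u, hu'⟩ := hu
    refine ⟨u ^ (m + 1), ?_⟩
    have h1 : QcCech.res A (le_top : j ''ᵁ W' ≤ ⊤) τ =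
        (resR (le_top : j ''ᵁ W' ≤ ⊤) g) ^ m •
          (show Γ(A, j ''ᵁ W') from secVal s'' W') := by
      have hW1 : j ''ᵁ W' ≤ ⊤ ⊓ X.basicOpen g := le_inf le_top (himg W')
      have := congrArg (QcCech.res A hW1) hτ
      rw [QcCech.res_res, QcCech.res_rsmul, QcCech.res_res, QcCech.rsmul, map_pow] at this
      rw [this, ← res_secVal s'' (le_top : W' ≤ ⊤), res_restrict]
    rw [hs, secVal_homOfSec, QcCech.res_smul, h1, smul_smul, ← pow_succ', ← hu',
      Units.val_pow_eq_pow_val]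
  have h1 := genLocus_restrict_eq_of_unit j s s'' hcond
  rw [hs''] at h1
  have hle : CohB1.genLocus A s ≤ X.basicOpen g := by
    intro z hz
    obtain ⟨W, a, hzW, ha⟩ := exists_isGen hA z
    obtain ⟨β, hβ⟩ := ha.exists_coeff (QcCech.res A (le_top : W ≤ ⊤) τ)
    have h2 : (resR (le_top : W ≤ ⊤) g * β) • a = secVal s W := by
      rw [hs, secVal_homOfSec, QcCech.res_smul, ← hβ, mul_smul]
    have h3 := genLocus_inf_eq_basicOpen s ha _ h2
    have h4 : z ∈ X.basicOpen (resR (le_top : W ≤ ⊤) g * β) := by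
      rw [← h3]; exact ⟨hz, hzW⟩
    rw [Scheme.basicOpen_mul] at h4
    have h5 : X.basicOpen (resR (le_top : W ≤ ⊤) g) = W ⊓ X.basicOpen g := by
      rw [resR]
      erw [Scheme.basicOpen_res]
    rw [h5] at h4
    exact h4.1.2
  refine ⟨N, s, ?_, ?_⟩
  · have : y ∈ j ⁻¹ᵁ CohB1.genLocus A s := h1 ▸ hy
    exact this
  · rw [h1] at haff
    have h2 := haff.image_of_isOpenImmersion j
    have h3 : j.opensRange = X.basicOpen g := Scheme.Opens.opensRange_ι _
    rwa [Scheme.Hom.image_preimage_eq_opensRange_inf, h3, inf_eq_right.mpr hle] at h2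

omit j in
/-- restriction to an open of an open -/
theorem isAmple_restrict_restrict_ι_iff (U : X.Opens) (W : (↑U : Scheme.{u}).Opens)
    (L : X.Modules) :
    CohB1.IsAmple ((L.restrict U.ι).restrict W.ι) ↔ CohB1.IsAmple (L.restrict (U.ι ''ᵁ W).ι) := by
  rw [isAmple_restrict_restrict_iff U.ι W.ι L]
  apply isAmple_restrict_iff_of_opensRange_eq
  rw [Scheme.Hom.opensRange_comp, Scheme.Opens.opensRange_ι]

omit j in
theorem isAmple_restrict_ι_congr {U U' : X.Opens} (h : U = U') (L : X.Modules) :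
    CohB1.IsAmple (L.restrict U.ι) ↔ CohB1.IsAmple (L.restrict U'.ι) := by
  subst h
  exact Iff.rfl

omit j in
/-- **relative ampleness is local on the base** (EGA II 4.6.4) -/
theorem isRelAmple_iff_of_openCover {S : Scheme.{u}} (f : X ⟶ S) [QuasiCompact f]
    (L : X.Modules) {ι : Type*} (U : ι → S.Opens) (hU : ⨆ i, U i = ⊤) :
    RelAmple.IsRelAmple f L ↔
      ∀ i, RelAmple.IsRelAmple (f ∣_ (U i)) (L.restrict (f ⁻¹ᵁ (U i)).ι) := by
  constructor
  · intro hL i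
    refine ⟨inferInstance, fun V' => ?_⟩
    rw [isAmple_restrict_restrict_ι_iff, image_morphismRestrict_preimage]
    exact hL.2 ⟨(U i).ι ''ᵁ V'.1, V'.2.image_of_isOpenImmersion _⟩
  · intro h
    refine ⟨inferInstance, fun V => ?_⟩
    set U₀ : X.Opens := f ⁻¹ᵁ V.1 with hU₀
    have hc : CompactSpace (↑U₀ : Scheme.{u}) :=
      isCompact_iff_compactSpace.mp (f.isCompact_preimage V.2.isCompact)
    apply isAmple_of_basicOpen_cover
    intro x'
    have hfx : f x'.1 ∈ V.1 := x'.2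
    obtain ⟨i, hi⟩ : ∃ i, f x'.1 ∈ U i := by
      have : f x'.1 ∈ (⨆ i, U i : S.Opens) := hU ▸ trivial
      exact Opens.mem_iSup.1 this
    obtain ⟨r, hrle, hxr⟩ := V.2.exists_basicOpen_le (V := V.1 ⊓ U i) ⟨f x'.1, ⟨hfx, hi⟩⟩ hfx
    have hrU : S.basicOpen r ≤ U i := hrle.trans inf_le_right
    let g' : Γ(X, U₀) := (f.app V.1).hom r
    have hg' : X.basicOpen g' = f ⁻¹ᵁ S.basicOpen r := (Scheme.preimage_basicOpen f r).symm
    refine ⟨U₀.topIso.inv.hom g', ?_, ?_⟩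
    · have h1 := Scheme.Opens.ι_image_basicOpen_topIso_inv U₀ g'
      have h2 : x'.1 ∈ X.basicOpen g' := by rw [hg']; exact hxr
      rw [← h1] at h2
      obtain ⟨z, hz, hzx⟩ := h2
      have : z = x' := Subtype.ext hzx
      rw [← this]
      exact hz
    · rw [isAmple_restrict_restrict_ι_iff]
      have h1 : U₀.ι ''ᵁ (↑U₀ : Scheme.{u}).basicOpen (U₀.topIso.inv.hom g') =
          f ⁻¹ᵁ S.basicOpen r :=
        (Scheme.Opens.ι_image_basicOpen_topIso_inv U₀ g').trans hg'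
      rw [isAmple_restrict_ι_congr h1]
      -- use the hypothesis on `U i`
      let D' : (↑(U i) : Scheme.{u}).Opens := (U i).ι ⁻¹ᵁ S.basicOpen r
      have hD'img : (U i).ι ''ᵁ D' = S.basicOpen r := by
        rw [Scheme.Hom.image_preimage_eq_opensRange_inf, Scheme.Opens.opensRange_ι,
          inf_eq_right.mpr hrU]
      have hD' : IsAffineOpen D' := by
        apply (Scheme.Hom.isAffineOpen_iff_of_isOpenImmersion (U i).ι).1
        rw [hD'img]
        exact V.2.basicOpen r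
      have h2 := (h i).2 ⟨D', hD'⟩
      rw [isAmple_restrict_restrict_ι_iff, image_morphismRestrict_preimage] at h2
      have h3 : f ⁻¹ᵁ (U i).ι ''ᵁ D' = f ⁻¹ᵁ S.basicOpen r := by rw [hD'img]
      exact (isAmple_restrict_ι_congr h3 L).1 h2

end Groth.Agent.Helper1.AmpleLib
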