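import Mathlib
import Groth.Agent.Lib.Helper1.AmpleGlue

set_option autoImplicit false
universe u
open CategoryTheory CategoryTheory.Limits AlgebraicGeometry TopologicalSpace Opposite

namespace Groth.Agent.Helper1.AmpleLib

open Groth.Agent.Helper1.QcCech Groth.Agent.Helper1.SubSh Groth.Agent.Helper1.LGen
open Groth.Agent.Helper1.TmulLib Groth.Agent.Helper1 Groth.Agent.Helper1.TwistSec
open Groth.Agent.Helper1.TensGen Groth.Agent.Helper1.TwForm

variable {X S : Scheme.{u}}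

/-- ampleness passes to smaller quasi-compact opens -/
theorem isAmple_restrict_of_le (L : X.Modules) {U U' : X.Opens} (hUU' : U' ≤ U)
    (hc : IsCompact (U' : Set X)) (h : CohB1.IsAmple (L.restrict U.ι)) :
    CohB1.IsAmple (L.restrict U'.ι) := by
  let W : (↑U : Scheme.{u}).Opens := U.ι ⁻¹ᵁ U'
  have hW : U.ι ''ᵁ W = U' := by
    rw [Scheme.Hom.image_preimage_eq_opensRange_inf, Scheme.Opens.opensRange_ι,
      inf_eq_right.mpr hUU']
  have hWc : IsCompact ((W : (↑U : Scheme.{u}).Opens) : Set (↑U : Scheme.{u})) := by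
    rw [U.ι.isOpenEmbedding.isEmbedding.isCompact_iff]
    have : (U.ι '' ((W : (↑U : Scheme.{u}).Opens) : Set (↑U : Scheme.{u}))) = (U' : Set X) :=
      congrArg (fun O : X.Opens => (O : Set X)) hW
    rw [this]
    exact hc
  have h1 := isAmple_restrict_of_isCompact h W hWc
  rw [isAmple_restrict_restrict_ι_iff] at h1
  exact (isAmple_restrict_ι_congr hW L).1 h1

/-- local criterion for ampleness over the preimage of an affine open -/
theorem isAmple_restrict_preimage_of_locally (f : X ⟶ S) [QuasiCompact f] (L : X.Modules)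
    (V : S.Opens) (hV : IsAffineOpen V)
    (h : ∀ x : X, f x ∈ V → ∃ r : Γ(S, V), f x ∈ S.basicOpen r ∧
      CohB1.IsAmple (L.restrict (f ⁻¹ᵁ S.basicOpen r).ι)) :
    CohB1.IsAmple (L.restrict (f ⁻¹ᵁ V).ι) := by
  set U₀ : X.Opens := f ⁻¹ᵁ V with hU₀
  have hc : CompactSpace (↑U₀ : Scheme.{u}) :=
    isCompact_iff_compactSpace.mp (f.isCompact_preimage hV.isCompact)
  apply isAmple_of_basicOpen_cover
  intro x'
  have hfx : f x'.1 ∈ V := x'.2
  obtain ⟨r, hxr, hr⟩ := h x'.1 hfx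
  let g' : Γ(X, U₀) := (f.app V).hom r
  have hg' : X.basicOpen g' = f ⁻¹ᵁ S.basicOpen r := (Scheme.preimage_basicOpen f r).symm
  refine ⟨U₀.topIso.inv.hom g', ?_, ?_⟩
  · have h1 := Scheme.Opens.ι_image_basicOpen_topIso_inv U₀ g'
    have h2 : x'.1 ∈ X.basicOpen g' := by rw [hg']; exact hxr
    rw [← h1] at h2
    obtain ⟨z, hz, hzx⟩ := h2
    have : z = x' := Subtype.ext hzx
    rw [← this]
    exact hz
  · rw [isAmple_restrict_restrict_ι_iff]
    have h1 : U₀.ι ''ᵁ (↑U₀ : Scheme.{u}).basicOpen (U₀.topIso.inv.hom g') =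
        f ⁻¹ᵁ S.basicOpen r :=
      (Scheme.Opens.ι_image_basicOpen_topIso_inv U₀ g').trans hg'
    rw [isAmple_restrict_ι_congr h1]
    exact hr

/-- **EGA II 4.6.13 (v)**: a module ample relative to `f ≫ g` is ample relative to `f` -/
theorem isRelAmple_of_comp {Z : Scheme.{u}} (f : X ⟶ S) (g : S ⟶ Z) [QuasiCompact f]
    (L : X.Modules) (hL : RelAmple.IsRelAmple (f ≫ g) L) : RelAmple.IsRelAmple f L := by
  refine ⟨inferInstance, fun V => ?_⟩
  apply isAmple_restrict_preimage_of_locally f L V.1 V.2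
  intro x hfx
  obtain ⟨_, ⟨W, hW, rfl⟩, hxW, -⟩ :=
    Z.isBasis_affineOpens.exists_subset_of_mem_open (Set.mem_univ (g (f x))) isOpen_univ
  have hfx' : f x ∈ g ⁻¹ᵁ W := hxW
  obtain ⟨r, hrle, hxr⟩ := V.2.exists_basicOpen_le (V := V.1 ⊓ g ⁻¹ᵁ W) ⟨f x, ⟨hfx, hfx'⟩⟩ hfx
  refine ⟨r, hxr, ?_⟩
  have h1 := hL.2 ⟨W, hW⟩
  refine isAmple_restrict_of_le L ?_ (f.isCompact_preimage (V.2.basicOpen r).isCompact) h1
  intro z hz
  exact (hrle hz).2

end Groth.Agent.Helper1.AmpleLib
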