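import Mathlib
import Groth.Agent.Lib.Helper1.PullGen2
import Groth.Agent.Lib.Helper1.CocycleIso

set_option autoImplicit false
universe u
open CategoryTheory CategoryTheory.Limits AlgebraicGeometry TopologicalSpace Opposite

namespace Groth.Agent.Helper1.PullPow

open Groth.Agent.Helper1.QcCech Groth.Agent.Helper1.SubSh Groth.Agent.Helper1.LGen
open Groth.Agent.Helper1 Groth.Agent.Helper1.PullSec Groth.Agent.Helper1.TwForm
open Groth.Agent.Helper1.AmpleLib Groth.Agent.Helper1.PullGen Groth.Agent.Helper1.CocycleIso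
open Groth.Agent.Helper1.TwistSec Groth.Agent.Helper1.TensGen

variable {Z S : Scheme.{u}} (u : Z ⟶ S)

theorem compat_aux {L : S.Modules} (n : ℕ) {W₁ W₂ : S.Opens} {a₁ : Γ(L, W₁)} {a₂ : Γ(L, W₂)}
    (h₁ : IsGen L W₁ a₁) (h₂ : IsGen L W₂ a₂) (v : Γ(Z, u ⁻¹ᵁ (W₁ ⊓ W₂)))
    (hl : u ⁻¹ᵁ (W₁ ⊓ W₂) ≤ u ⁻¹ᵁ W₁) (hr : u ⁻¹ᵁ (W₁ ⊓ W₂) ≤ u ⁻¹ᵁ W₂)
    (hv : res _ hl (σ u (CohB1.tensorPow L n) W₁ (gpow a₁ n)) =
      v • res _ hr (σ u (CohB1.tensorPow L n) W₂ (gpow a₂ n))) :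
    res _ hl (gpow (σ u L W₁ a₁) n) = v • res _ hr (gpow (σ u L W₂ a₂) n) := by
  have hle₁ : W₁ ⊓ W₂ ≤ W₁ := inf_le_left
  have hle₂ : W₁ ⊓ W₂ ≤ W₂ := inf_le_right
  obtain ⟨w, hw⟩ := IsGen.exists_unit (h₂.res hle₂) (h₁.res hle₁)
  set w' : Γ(Z, u ⁻¹ᵁ (W₁ ⊓ W₂)) := (u.app (W₁ ⊓ W₂)).hom (w : Γ(S, W₁ ⊓ W₂)) with hw'
  have hg := isGen_σ u (isGen_gpow (h₂.res hle₂) n)
  have e1 : res _ hl (σ u (CohB1.tensorPow L n) W₁ (gpow a₁ n)) =
      w' ^ n • σ u (CohB1.tensorPow L n) (W₁ ⊓ W₂) (gpow (res L hle₂ a₂) n) := by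
    have := σ_res u (CohB1.tensorPow L n) hle₁ (gpow a₁ n)
    rw [res_gpow, hw, gpow_smul, σ_smul, map_pow] at this
    exact this
  have e2 : res _ hr (σ u (CohB1.tensorPow L n) W₂ (gpow a₂ n)) =
      σ u (CohB1.tensorPow L n) (W₁ ⊓ W₂) (gpow (res L hle₂ a₂) n) := by
    have := σ_res u (CohB1.tensorPow L n) hle₂ (gpow a₂ n)
    rw [res_gpow] at this
    exact this
  have hv' : v = w' ^ n := by
    apply (IsGen.bijective_self hg).1
    change v • _ = w' ^ n • _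
    rw [← e1, ← e2]
    exact hv.symm
  have e3 : res _ hl (σ u L W₁ a₁) = w' • σ u L (W₁ ⊓ W₂) (res L hle₂ a₂) := by
    have := σ_res u L hle₁ a₁
    rw [hw, σ_smul] at this
    exact this
  have e4 : res _ hr (σ u L W₂ a₂) = σ u L (W₁ ⊓ W₂) (res L hle₂ a₂) := σ_res u L hle₂ a₂
  rw [res_gpow, res_gpow, e3, e4, gpow_smul, hv']

/-- the family of matching generators of `u^*(L^n)` and `(u^*L)^n` -/
noncomputable def powFam {L : S.Modules} (hL : PicF.IsInvertible L) (n : ℕ) :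
    GenFam ((Scheme.Modules.pullback u).obj (CohB1.tensorPow L n))
      (CohB1.tensorPow ((Scheme.Modules.pullback u).obj L) n) where
  ι := Σ W : S.Opens, {a : Γ(L, W) // IsGen L W a}
  W i := u ⁻¹ᵁ i.1
  a i := σ u (CohB1.tensorPow L n) i.1 (gpow i.2.1 n)
  b i := gpow (σ u L i.1 i.2.1) n
  ha i := isGen_σ u (isGen_gpow i.2.2 n)
  hb i := isGen_gpow (isGen_σ u i.2.2) n
  cov z := by
    obtain ⟨W, a, hxW, ha⟩ := exists_isGen hL (u z)
    exact ⟨⟨W, a, ha⟩, hxW⟩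
  compat := by
    rintro ⟨W₁, a₁, h₁⟩ ⟨W₂, a₂, h₂⟩ v hv
    exact compat_aux u n h₁ h₂ v _ _ hv

/-- **the pullback of a tensor power of an invertible module is the tensor power of the
pullback** -/
noncomputable def powIso {L : S.Modules} (hL : PicF.IsInvertible L) (n : ℕ) :
    (Scheme.Modules.pullback u).obj (CohB1.tensorPow L n) ≅
      CohB1.tensorPow ((Scheme.Modules.pullback u).obj L) n :=
  (powFam u hL n).iso

theorem powIso_hom_σ {L : S.Modules} (hL : PicF.IsInvertible L) (n : ℕ) {W : S.Opens}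
    {a : Γ(L, W)} (ha : IsGen L W a) :
    (powIso u hL n).hom.app (u ⁻¹ᵁ W) (σ u (CohB1.tensorPow L n) W (gpow a n)) =
      gpow (σ u L W a) n :=
  (powFam u hL n).iso_hom_a ⟨W, a, ha⟩

end Groth.Agent.Helper1.PullPow
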