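import Mathlib
import Groth.Agent.Lib.Helper1.PullPow
import Groth.Agent.Lib.Helper1.TwistAmpleOpen
import Groth.Agent.Lib.Helper1.AmpleLib2

set_option autoImplicit false
universe u
open CategoryTheory CategoryTheory.Limits AlgebraicGeometry TopologicalSpace Opposite

namespace Groth.Agent.Helper1.PullAmple

open Groth.Agent.Helper1.QcCech Groth.Agent.Helper1.SubSh Groth.Agent.Helper1.LGen
open Groth.Agent.Helper1 Groth.Agent.Helper1.PullSec Groth.Agent.Helper1.TwForm
open Groth.Agent.Helper1.AmpleLib Groth.Agent.Helper1.PullGen Groth.Agent.Helper1.PullPow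

variable {Z S : Scheme.{u}} (u : Z ⟶ S)

/-- the pullback of a section of a tensor power, as a section of the tensor power of the
pullback -/
noncomputable def pullPowSec {L : S.Modules} (hL : PicF.IsInvertible L) (n : ℕ)
    (s : Coh.structureModule S ⟶ CohB1.tensorPow L n) :
    Coh.structureModule Z ⟶ CohB1.tensorPow ((Scheme.Modules.pullback u).obj L) n :=
  ((unitIso u).inv ≫ (Scheme.Modules.pullback u).map s) ≫ (powIso u hL n).hom

theorem genLocus_pullPowSec {L : S.Modules} (hL : PicF.IsInvertible L) (n : ℕ)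
    (s : Coh.structureModule S ⟶ CohB1.tensorPow L n) :
    CohB1.genLocus _ (pullPowSec u hL n s) = u ⁻¹ᵁ CohB1.genLocus _ s := by
  unfold pullPowSec
  rw [TwistAmple.genLocus_comp_iso]
  exact genLocus_pullback u (isInvertible_tensorPow hL n) s (unitIso u).symm

/-- **the pullback of an ample module along a topological embedding from a quasi-compact scheme
is ample** (EGA II 4.6.13 (i bis) / 5.1.12) -/
theorem isAmple_pullback_of_isEmbedding [CompactSpace Z] (hu : Topology.IsEmbedding u)
    {L : S.Modules} (hL : CohB1.IsAmple L) :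
    CohB1.IsAmple ((Scheme.Modules.pullback u).obj L) := by
  have hL' := isInvertible_pullback u hL.1
  refine ⟨hL', inferInstance, fun z => ?_⟩
  obtain ⟨_, ⟨U', hU', rfl⟩, hzU', -⟩ :=
    Z.isBasis_affineOpens.exists_subset_of_mem_open (Set.mem_univ z) isOpen_univ
  obtain ⟨U, hUo, hUU'⟩ := hu.isOpen_iff.1 U'.isOpen
  let Uo : S.Opens := ⟨U, hUo⟩
  have hzU : u z ∈ Uo := by
    change z ∈ u ⁻¹' U
    rw [hUU']; exact hzU'
  obtain ⟨n, s, hxs, hsU, -⟩ := exists_genLocus_nbhd hL Uo (u z) hzU
  refine ⟨n, pullPowSec u hL.1 (n + 1) s, ?_, ?_⟩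
  · rw [genLocus_pullPowSec]; exact hxs
  · apply isAffineOpen_genLocus_of_le (isInvertible_tensorPow hL' (n + 1)) _ hU'
    rw [genLocus_pullPowSec]
    intro y hy
    have : y ∈ u ⁻¹' U := hsU hy
    rw [hUU'] at this
    exact this

end Groth.Agent.Helper1.PullAmple
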