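import Mathlib
import Groth.Agent.Lib.Helper1.PullAmple
import Groth.Agent.Lib.Helper1.AmpleGlue2

set_option autoImplicit false
universe u
open CategoryTheory CategoryTheory.Limits AlgebraicGeometry TopologicalSpace Opposite

namespace Groth.Agent.Helper1.PullAmple

open Groth.Agent.Helper1.QcCech Groth.Agent.Helper1.SubSh Groth.Agent.Helper1.LGen
open Groth.Agent.Helper1 Groth.Agent.Helper1.PullSec Groth.Agent.Helper1.TwForm
open Groth.Agent.Helper1.AmpleLib Groth.Agent.Helper1.PullGen Groth.Agent.Helper1.PullPow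

variable {Z S : Scheme.{u}} (u : Z ⟶ S)

/-- pullback commutes with restriction to opens -/
noncomputable def restrictPullbackIso (W : S.Opens) (L : S.Modules) :
    ((Scheme.Modules.pullback u).obj L).restrict (u ⁻¹ᵁ W).ι ≅
      (Scheme.Modules.pullback (u ∣_ W)).obj (L.restrict W.ι) :=
  (Scheme.Modules.restrictFunctorIsoPullback (u ⁻¹ᵁ W).ι).app _ ≪≫
    (Scheme.Modules.pullbackComp (u ⁻¹ᵁ W).ι u).app L ≪≫
    (Scheme.Modules.pullbackCongr (morphismRestrict_ι u W).symm).app L ≪≫
    ((Scheme.Modules.pullbackComp (u ∣_ W) W.ι).app L).symm ≪≫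
    (Scheme.Modules.pullback (u ∣_ W)).mapIso
      ((Scheme.Modules.restrictFunctorIsoPullback W.ι).app L).symm

/-- **relative version**: pullback along a quasi-compact topological embedding preserves relative
ampleness -/
theorem isRelAmple_pullback_of_isEmbedding {Y : Scheme.{u}} (f : S ⟶ Y) [QuasiCompact f]
    [QuasiCompact u] (hu : Topology.IsEmbedding u) {L : S.Modules}
    (hL : RelAmple.IsRelAmple f L) :
    RelAmple.IsRelAmple (u ≫ f) ((Scheme.Modules.pullback u).obj L) := by
  refine ⟨inferInstance, fun V => ?_⟩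
  have hLV := hL.2 V
  set U : S.Opens := f ⁻¹ᵁ V.1 with hU
  have hc : CompactSpace (↑(u ⁻¹ᵁ U) : Scheme.{u}) :=
    isCompact_iff_compactSpace.1 ((u ≫ f).isCompact_preimage V.2.isCompact)
  have hemb : Topology.IsEmbedding (u ∣_ U) := by
    rw [morphismRestrict_base]
    exact hu.restrictPreimage _
  have h1 := isAmple_pullback_of_isEmbedding (u ∣_ U) hemb hLV
  exact TwistAmpleOpen.isAmple_of_iso (restrictPullbackIso u U L).symm h1

end Groth.Agent.Helper1.PullAmple
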