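import Mathlib
import Groth.Prelude.Def_Mor2
import Groth.Agent.Lib.Helper1.PullRel

set_option autoImplicit false
universe u
open CategoryTheory CategoryTheory.Limits AlgebraicGeometry TopologicalSpace Opposite

namespace Groth.Agent.Helper1.AmpleLib

open Groth.Agent.Helper1.QcCech Groth.Agent.Helper1.SubSh Groth.Agent.Helper1.LGen
open Groth.Agent.Helper1.TmulLib Groth.Agent.Helper1 Groth.Agent.Helper1.TwistSec
open Groth.Agent.Helper1.TensGen Groth.Agent.Helper1.TwForm

variable {X : Scheme.{u}}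

/-- **basic opens of `X_s` are of the form `X_{s'}`** -/
theorem exists_genLocus_eq_basicOpen [CompactSpace X] [QuasiSeparatedSpace X] {L : X.Modules}
    (hL : PicF.IsInvertible L) (k : ℕ) (s : Coh.structureModule X ⟶ CohB1.tensorPow L (k + 1))
    (g : Γ(X, CohB1.genLocus _ s)) :
    ∃ (N : ℕ) (s' : Coh.structureModule X ⟶ CohB1.tensorPow L (N + 1)),
      CohB1.genLocus _ s' = X.basicOpen g := by
  have hA : PicF.IsInvertible (CohB1.tensorPow L (k + 1)) := isInvertible_tensorPow hL (k + 1)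
  have : (Coh.structureModule X).IsQuasicoherent :=
    InvQc.isQuasicoherent_of_isInvertible _ GenLoc.isInvertible_O
  obtain ⟨n, -, t', ht'⟩ := exists_twist_extends hA s (Coh.structureModule X)
    (show Γ(Coh.structureModule X, CohB1.genLocus _ s) from g)
  let B := CohB1.tensorMod (Coh.structureModule X) (CohB1.tensorPow (CohB1.tensorPow L (k + 1)) n)
  have hB : PicF.IsInvertible B :=
    isInvertible_tensorMod GenLoc.isInvertible_O (isInvertible_tensorPow hA n)
  let τ : Coh.structureModule X ⟶ B := TwistAmple.homOfSec B t'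
  have h1 : CohB1.genLocus _ (SecTwist.tmulHom τ s) = X.basicOpen g := by
    rw [genLocus_tmulHom hB hA]
    have hgen : IsGen B (CohB1.genLocus _ s)
        (tm (Coh.structureModule X) (CohB1.tensorPow (CohB1.tensorPow L (k + 1)) n) _
          (one' _) (gpow (secVal s (CohB1.genLocus _ s)) n)) :=
      isGen_tm (isGen_one' _) (isGen_gpow (isGen_secVal s le_rfl) n)
    refine genLocus_inf_eq_basicOpen τ hgen g ?_
    rw [secVal_homOfSec, ht', twist_eq, ← tm_smul_left, smul_one']
  let S : Tw L L (Coh.structureModule X) ((((k + 1) * n + k : ℕ) : ℤ) + 1) 0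
      (CohB1.tensorMod B (CohB1.tensorPow L (k + 1))) :=
    (((Tw.self L L (Coh.structureModule X)).tensorR (((Tw.fst L L).pow (k + 1)).pow n)).tensorR
      ((Tw.fst L L).pow (k + 1))).cast (by push_cast; ring) (by simp)
  obtain ⟨s', hs'⟩ := exists_section_tensorPow hL ((k + 1) * n + k) S (SecTwist.tmulHom τ s)
  exact ⟨(k + 1) * n + k, s', by rw [hs', h1]⟩

end Groth.Agent.Helper1.AmpleLib

namespace Groth.Agent.Helper1.PullAmple

open Groth.Agent.Helper1.QcCech Groth.Agent.Helper1.SubSh Groth.Agent.Helper1.LGen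
open Groth.Agent.Helper1 Groth.Agent.Helper1.PullSec Groth.Agent.Helper1.TwForm
open Groth.Agent.Helper1.AmpleLib Groth.Agent.Helper1.PullGen Groth.Agent.Helper1.PullPow

variable {Z S : Scheme.{u}} (u : Z ⟶ S)

/-- **ampleness from sections with quasi-affine loci** (EGA II 4.5.2 a'') -/
theorem isAmple_of_quasiAffine_genLocus [CompactSpace Z] [QuasiSeparatedSpace Z] {L : Z.Modules}
    (hL : PicF.IsInvertible L)
    (h : ∀ z : Z, ∃ (k : ℕ) (s : Coh.structureModule Z ⟶ CohB1.tensorPow L (k + 1)),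
      z ∈ CohB1.genLocus _ s ∧ Scheme.IsQuasiAffine (CohB1.genLocus _ s : Scheme.{u})) :
    CohB1.IsAmple L := by
  refine ⟨hL, inferInstance, fun z => ?_⟩
  obtain ⟨k, s, hzs, hqa⟩ := h z
  set W : Z.Opens := CohB1.genLocus _ s with hW
  let zW : (↑W : Scheme.{u}) := ⟨z, hzs⟩
  obtain ⟨_, ⟨_, ⟨r, hr, rfl⟩, rfl⟩, hzr, -⟩ := (Scheme.IsQuasiAffine.isBasis_basicOpen
    (↑W : Scheme.{u})).exists_subset_of_mem_open (Set.mem_univ zW) isOpen_univ
  -- transfer to `Z`
  let r' : Γ(Z, W.ι ''ᵁ ⊤) := (W.ι.appIso ⊤).inv r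
  have himg : W.ι ''ᵁ (↑W : Scheme.{u}).basicOpen r = Z.basicOpen r' :=
    Scheme.image_basicOpen W.ι r
  have htop : W.ι ''ᵁ ⊤ = W := by simp
  let g : Γ(Z, W) := (Z.presheaf.map (eqToHom htop.symm).op).hom r'
  have hg : Z.basicOpen g = Z.basicOpen r' := by
    apply le_antisymm
    · have := Z.basicOpen_res r' (eqToHom htop.symm).op
      rw [this]; exact inf_le_right
    · have := Z.basicOpen_res r' (eqToHom htop.symm).op
      rw [this]
      exact le_inf ((Z.basicOpen_le r').trans (le_of_eq htop)) le_rfl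
  obtain ⟨N, s', hs'⟩ := exists_genLocus_eq_basicOpen hL k s g
  refine ⟨N, s', ?_, ?_⟩
  · rw [hs', hg, ← himg]
    exact ⟨zW, hzr, rfl⟩
  · rw [hs', hg, ← himg]
    exact hr.image_of_isOpenImmersion W.ι

theorem quasiSeparated_of_isQuasiAffine (hu : Mor2.IsQuasiAffine u) : QuasiSeparated u := by
  rw [HasAffineProperty.eq_targetAffineLocally (P := @QuasiSeparated)]
  intro U
  have := hu.2 U.1 U.2
  change QuasiSeparatedSpace (↑(u ⁻¹ᵁ U.1) : Scheme.{u})
  infer_instance

/-- **the pullback of an ample module along a quasi-affine morphism is ample** (EGA II 5.1.12) -/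
theorem isAmple_pullback_of_isQuasiAffine (hu : Mor2.IsQuasiAffine u) {L : S.Modules}
    (hL : CohB1.IsAmple L) : CohB1.IsAmple ((Scheme.Modules.pullback u).obj L) := by
  have : CompactSpace S := hL.2.1
  have : QuasiCompact u := hu.1
  have : CompactSpace Z := QuasiCompact.compactSpace_of_compactSpace u
  have : QuasiSeparatedSpace S := quasiSeparatedSpace_of_isAmple hL
  have : QuasiSeparated u := quasiSeparated_of_isQuasiAffine u hu
  have : QuasiSeparatedSpace Z := quasiSeparatedSpace_of_quasiSeparated u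
  apply isAmple_of_quasiAffine_genLocus (isInvertible_pullback u hL.1)
  intro z
  obtain ⟨n, s, hxs, haff⟩ := hL.2.2 (u z)
  refine ⟨n, pullPowSec u hL.1 (n + 1) s, ?_, ?_⟩
  · rw [genLocus_pullPowSec]; exact hxs
  · rw [genLocus_pullPowSec]; exact hu.2 _ haff

theorem isQuasiAffine_of_iso {A B : Scheme.{u}} (e : A ≅ B) [B.IsQuasiAffine] :
    A.IsQuasiAffine := by
  have : CompactSpace A := e.hom.homeomorph.symm.compactSpace
  exact Scheme.IsQuasiAffine.of_isImmersion e.hom

theorem isQuasiAffine_morphismRestrict (hu : Mor2.IsQuasiAffine u) (U : S.Opens) :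
    Mor2.IsQuasiAffine (u ∣_ U) := by
  have : QuasiCompact u := hu.1
  refine ⟨inferInstance, fun V₁ hV₁ => ?_⟩
  have h1 : IsAffineOpen (U.ι ''ᵁ V₁) := hV₁.image_of_isOpenImmersion U.ι
  have h2 := hu.2 _ h1
  have e := image_morphismRestrict_preimage u U V₁
  exact isQuasiAffine_of_iso (((u ⁻¹ᵁ U).ι.isoImage ((u ∣_ U) ⁻¹ᵁ V₁)) ≪≫ Z.isoOfEq e)

/-- **relative version** (EGA II 5.1.12 / 4.6.13) -/
theorem isRelAmple_pullback_of_isQuasiAffine {Y : Scheme.{u}} (f : S ⟶ Y) [QuasiCompact f]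
    (hu : Mor2.IsQuasiAffine u) {L : S.Modules} (hL : RelAmple.IsRelAmple f L) :
    RelAmple.IsRelAmple (u ≫ f) ((Scheme.Modules.pullback u).obj L) := by
  have : QuasiCompact u := hu.1
  refine ⟨inferInstance, fun V => ?_⟩
  have hLV := hL.2 V
  set U : S.Opens := f ⁻¹ᵁ V.1 with hU
  have h1 := isAmple_pullback_of_isQuasiAffine (u ∣_ U) (isQuasiAffine_morphismRestrict u hu U) hLV
  exact TwistAmpleOpen.isAmple_of_iso (restrictPullbackIso u U L).symm h1

end Groth.Agent.Helper1.PullAmple
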