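import Mathlib
import Groth.Agent.Lib.Helper1.PullQA

set_option autoImplicit false
universe u
open CategoryTheory CategoryTheory.Limits AlgebraicGeometry TopologicalSpace Opposite

namespace Groth.Agent.Helper1.SecOps

open Groth.Agent.Helper1.QcCech Groth.Agent.Helper1.SubSh Groth.Agent.Helper1.LGen
open Groth.Agent.Helper1.TmulLib Groth.Agent.Helper1 Groth.Agent.Helper1.TwistSec
open Groth.Agent.Helper1.TensGen Groth.Agent.Helper1.TwForm Groth.Agent.Helper1.AmpleLib

variable {X : Scheme.{u}} {M : X.Modules}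

theorem secVal_add (s t : Coh.structureModule X ⟶ M) (W : X.Opens) :
    secVal (s + t) W = secVal s W + secVal t W := rfl

theorem secVal_zero (W : X.Opens) :
    secVal (0 : Coh.structureModule X ⟶ M) W = 0 := rfl

/-- membership in the generating locus, through a local generator -/
theorem mem_genLocus_iff_of_isGen (s : Coh.structureModule X ⟶ M) {W : X.Opens} {a : Γ(M, W)}
    (ha : IsGen M W a) (φ : Γ(X, W)) (hφ : φ • a = secVal s W) (x : X) (hx : x ∈ W) :
    x ∈ CohB1.genLocus M s ↔ x ∈ X.basicOpen φ := by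
  rw [← genLocus_inf_eq_basicOpen s ha φ hφ]
  exact ⟨fun h => ⟨h, hx⟩, fun h => h.1⟩

theorem mem_basicOpen_add {W : X.Opens} (φ ψ : Γ(X, W)) (x : X)
    (h1 : x ∈ X.basicOpen φ) (h2 : x ∉ X.basicOpen ψ) : x ∈ X.basicOpen (φ + ψ) := by
  have hxW : x ∈ W := X.basicOpen_le φ h1
  rw [Scheme.mem_basicOpen _ _ _ hxW] at h1 h2 ⊢
  rw [map_add]
  by_contra h3
  have h4 : (X.presheaf.germ W x hxW).hom ψ ∈ nonunits (X.presheaf.stalk x) := h2
  have h5 : (X.presheaf.germ W x hxW).hom φ + (X.presheaf.germ W x hxW).hom ψ ∈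
      nonunits (X.presheaf.stalk x) := h3
  have h6 := IsLocalRing.nonunits_add h5 (show -(X.presheaf.germ W x hxW).hom ψ ∈
    nonunits (X.presheaf.stalk x) by rwa [mem_nonunits_iff, IsUnit.neg_iff])
  rw [add_neg_cancel_right] at h6
  exact h6 h1

theorem mem_basicOpen_add_cases {W : X.Opens} (φ ψ : Γ(X, W)) (x : X)
    (h : x ∈ X.basicOpen (φ + ψ)) : x ∈ X.basicOpen φ ∨ x ∈ X.basicOpen ψ := by
  have hxW : x ∈ W := X.basicOpen_le _ h
  by_contra hcon
  rw [not_or] at hcon
  rw [Scheme.mem_basicOpen _ _ _ hxW] at h hcon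
  rw [Scheme.mem_basicOpen _ _ _ hxW] at hcon
  rw [map_add] at h
  exact IsLocalRing.nonunits_add (show _ ∈ nonunits (X.presheaf.stalk x) from hcon.1)
    (show _ ∈ nonunits (X.presheaf.stalk x) from hcon.2) h

variable (hM : PicF.IsInvertible M)
include hM

/-- (A1) -/
theorem mem_genLocus_add (s t : Coh.structureModule X ⟶ M) (x : X)
    (h1 : x ∈ CohB1.genLocus M s) (h2 : x ∉ CohB1.genLocus M t) :
    x ∈ CohB1.genLocus M (s + t) := by
  obtain ⟨W, a, hxW, ha⟩ := exists_isGen hM x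
  obtain ⟨φ, hφ⟩ := ha.exists_coeff (secVal s W)
  obtain ⟨ψ, hψ⟩ := ha.exists_coeff (secVal t W)
  rw [mem_genLocus_iff_of_isGen s ha φ hφ x hxW] at h1
  rw [mem_genLocus_iff_of_isGen t ha ψ hψ x hxW] at h2
  rw [mem_genLocus_iff_of_isGen (s + t) ha (φ + ψ) (by rw [add_smul, hφ, hψ, secVal_add]) x hxW]
  exact mem_basicOpen_add φ ψ x h1 h2

/-- (A2) -/
theorem genLocus_add_le (s t : Coh.structureModule X ⟶ M) :
    CohB1.genLocus M (s + t) ≤ CohB1.genLocus M s ⊔ CohB1.genLocus M t := by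
  intro x hx
  obtain ⟨W, a, hxW, ha⟩ := exists_isGen hM x
  obtain ⟨φ, hφ⟩ := ha.exists_coeff (secVal s W)
  obtain ⟨ψ, hψ⟩ := ha.exists_coeff (secVal t W)
  rw [mem_genLocus_iff_of_isGen (s + t) ha (φ + ψ) (by rw [add_smul, hφ, hψ, secVal_add]) x hxW] at hx
  rcases mem_basicOpen_add_cases φ ψ x hx with h | h
  · exact Or.inl ((mem_genLocus_iff_of_isGen s ha φ hφ x hxW).2 h)
  · exact Or.inr ((mem_genLocus_iff_of_isGen t ha ψ hψ x hxW).2 h)

theorem genLocus_zero : CohB1.genLocus M (0 : Coh.structureModule X ⟶ M) = ⊥ := by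
  rw [eq_bot_iff]
  intro x hx
  obtain ⟨W, a, hxW, ha⟩ := exists_isGen hM x
  rw [mem_genLocus_iff_of_isGen 0 ha 0 (by rw [zero_smul, secVal_zero]) x hxW,
    Scheme.basicOpen_zero] at hx
  exact hx

omit hM in
/-- intersection of two generating loci, one of them affine, is affine -/
theorem isAffineOpen_genLocus_inf {M' : X.Modules} (hM' : PicF.IsInvertible M')
    (s : Coh.structureModule X ⟶ M) (t : Coh.structureModule X ⟶ M')
    (hs : IsAffineOpen (CohB1.genLocus M s)) :
    IsAffineOpen (CohB1.genLocus M s ⊓ CohB1.genLocus M' t) := by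
  have := GenLoc.isAffineHom_genLocus_ι M' t hM'
  have h1 : IsAffineOpen ((CohB1.genLocus M' t).ι ⁻¹ᵁ CohB1.genLocus M s) :=
    hs.preimage (CohB1.genLocus M' t).ι
  have h2 := h1.image_of_isOpenImmersion (CohB1.genLocus M' t).ι
  rwa [Scheme.Hom.image_preimage_eq_opensRange_inf, Scheme.Opens.opensRange_ι, inf_comm] at h2

/-- (A3) -/
theorem isAffineOpen_genLocus_add (s t : Coh.structureModule X ⟶ M)
    (hs : IsAffineOpen (CohB1.genLocus M s)) (ht : IsAffineOpen (CohB1.genLocus M t)) :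
    IsAffineOpen (CohB1.genLocus M (s + t)) := by
  set V := CohB1.genLocus M (s + t) with hV
  have ha : IsGen M V (secVal (s + t) V) := isGen_secVal (s + t) le_rfl
  obtain ⟨φ, hφ⟩ := ha.exists_coeff (secVal s V)
  obtain ⟨ψ, hψ⟩ := ha.exists_coeff (secVal t V)
  have hsum : φ + ψ = 1 := by
    apply (IsGen.bijective_self ha).1
    change (φ + ψ) • secVal (s + t) V = (1 : Γ(X, V)) • secVal (s + t) V
    rw [add_smul, hφ, hψ, one_smul, secVal_add]
  have h1 : X.basicOpen φ = CohB1.genLocus M s ⊓ V := (genLocus_inf_eq_basicOpen s ha φ hφ).symm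
  have h2 : X.basicOpen ψ = CohB1.genLocus M t ⊓ V := (genLocus_inf_eq_basicOpen t ha ψ hψ).symm
  apply isAffineOpen_of_isAffineOpen_basicOpen V {φ, ψ}
  · rw [Ideal.eq_top_iff_one, ← hsum]
    exact Ideal.add_mem _ (Ideal.subset_span (by simp)) (Ideal.subset_span (by simp))
  · intro i hi
    rcases hi with rfl | rfl
    · rw [h1]; exact isAffineOpen_genLocus_inf hM s (s + t) hs
    · rw [h2]; exact isAffineOpen_genLocus_inf hM t (s + t) ht

end Groth.Agent.Helper1.SecOps

namespace Groth.Agent.Helper1.SecOps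

open Groth.Agent.Helper1.QcCech Groth.Agent.Helper1.SubSh Groth.Agent.Helper1.LGen
open Groth.Agent.Helper1.TmulLib Groth.Agent.Helper1 Groth.Agent.Helper1.TwistSec
open Groth.Agent.Helper1.TensGen Groth.Agent.Helper1.TwForm Groth.Agent.Helper1.AmpleLib

variable {X : Scheme.{u}} {L : X.Modules}

/-- change of exponent along an equality -/
def pcast {a b : ℕ} (h : a = b) (s : Coh.structureModule X ⟶ CohB1.tensorPow L a) :
    Coh.structureModule X ⟶ CohB1.tensorPow L b := h ▸ s

theorem genLocus_pcast {a b : ℕ} (h : a = b) (s : Coh.structureModule X ⟶ CohB1.tensorPow L a) :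
    CohB1.genLocus _ (pcast h s) = CohB1.genLocus _ s := by
  subst h; rfl

variable (hL : PicF.IsInvertible L)

/-- the canonical isomorphism `L^a ⊗ L^b ≅ L^(a+b)` -/
noncomputable def mulIso (a b : ℕ) :
    CohB1.tensorMod (CohB1.tensorPow L a) (CohB1.tensorPow L b) ≅ CohB1.tensorPow L (a + b) :=
  Tw.iso (((Tw.fst L L).pow a).tensorR ((Tw.fst L L).pow b))
    (((Tw.fst L L).pow (a + b)).cast (by push_cast; ring) (by push_cast; ring))
    (locFrame_of_isInvertible hL hL)

/-- the canonical isomorphism `(L^a)^n ≅ L^(a*n)` -/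
noncomputable def powIso' (a n : ℕ) :
    CohB1.tensorPow (CohB1.tensorPow L a) n ≅ CohB1.tensorPow L (a * n) :=
  Tw.iso (((Tw.fst L L).pow a).pow n)
    (((Tw.fst L L).pow (a * n)).cast (by push_cast; ring) (by push_cast; ring))
    (locFrame_of_isInvertible hL hL)

/-- product of sections of powers of `L` -/
noncomputable def pmul {a b : ℕ} (s : Coh.structureModule X ⟶ CohB1.tensorPow L a)
    (t : Coh.structureModule X ⟶ CohB1.tensorPow L b) :
    Coh.structureModule X ⟶ CohB1.tensorPow L (a + b) :=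
  SecTwist.tmulHom s t ≫ (mulIso hL a b).hom

theorem genLocus_pmul {a b : ℕ} (s : Coh.structureModule X ⟶ CohB1.tensorPow L a)
    (t : Coh.structureModule X ⟶ CohB1.tensorPow L b) :
    CohB1.genLocus _ (pmul hL s t) = CohB1.genLocus _ s ⊓ CohB1.genLocus _ t := by
  unfold pmul
  rw [TwistAmple.genLocus_comp_iso,
    genLocus_tmulHom (isInvertible_tensorPow hL a) (isInvertible_tensorPow hL b)]

/-- power of a section of a power of `L` -/
noncomputable def ppow {a : ℕ} (s : Coh.structureModule X ⟶ CohB1.tensorPow L a) (n : ℕ) :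
    Coh.structureModule X ⟶ CohB1.tensorPow L (a * n) :=
  SecTwist.powHom s n ≫ (powIso' hL a n).hom

theorem genLocus_ppow {a : ℕ} (s : Coh.structureModule X ⟶ CohB1.tensorPow L a) (n : ℕ)
    (hn : 0 < n) : CohB1.genLocus _ (ppow hL s n) = CohB1.genLocus _ s := by
  obtain ⟨n', rfl⟩ : ∃ n', n = n' + 1 := ⟨n - 1, by omega⟩
  unfold ppow
  rw [TwistAmple.genLocus_comp_iso, genLocus_powHom (isInvertible_tensorPow hL a)]

/-- the sections we are after: generating locus affine and inside `U` -/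
def Good (U : X.Opens) {d : ℕ} (s : Coh.structureModule X ⟶ CohB1.tensorPow L d) : Prop :=
  CohB1.genLocus _ s ≤ U ∧ IsAffineOpen (CohB1.genLocus _ s)

include hL in
theorem good_add (U : X.Opens) {d : ℕ} (s t : Coh.structureModule X ⟶ CohB1.tensorPow L d)
    (hs : Good U s) (ht : Good U t) : Good U (s + t) :=
  ⟨(genLocus_add_le (isInvertible_tensorPow hL d) s t).trans (sup_le hs.1 ht.1),
    isAffineOpen_genLocus_add (isInvertible_tensorPow hL d) s t hs.2 ht.2⟩

theorem good_pmul (U : X.Opens) {a b : ℕ} (s : Coh.structureModule X ⟶ CohB1.tensorPow L a)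
    (t : Coh.structureModule X ⟶ CohB1.tensorPow L b) (hs : Good U s) :
    Good U (pmul hL s t) := by
  unfold Good
  rw [genLocus_pmul]
  exact ⟨inf_le_left.trans hs.1, isAffineOpen_genLocus_inf (isInvertible_tensorPow hL b) s t hs.2⟩

theorem good_ppow (U : X.Opens) {a : ℕ} (s : Coh.structureModule X ⟶ CohB1.tensorPow L a)
    (n : ℕ) (hn : 0 < n) (hs : Good U s) : Good U (ppow hL s n) := by
  unfold Good
  rw [genLocus_ppow hL s n hn]
  exact hs

theorem good_pcast (U : X.Opens) {a b : ℕ} (h : a = b)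
    (s : Coh.structureModule X ⟶ CohB1.tensorPow L a) (hs : Good U s) : Good U (pcast h s) := by
  subst h; exact hs

include hL in
theorem good_zero (U : X.Opens) (d : ℕ) :
    Good U (0 : Coh.structureModule X ⟶ CohB1.tensorPow L d) := by
  unfold Good
  rw [genLocus_zero (isInvertible_tensorPow hL d)]
  exact ⟨bot_le, isAffineOpen_bot X⟩

include hL in
/-- finite products of good sections -/
theorem exists_prod (U : X.Opens) {ι : Type*} (I : Finset ι) (hI : I.Nonempty) (d : ι → ℕ)
    (hd : ∀ i ∈ I, 0 < d i) (s : ∀ i, Coh.structureModule X ⟶ CohB1.tensorPow L (d i))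
    (hs : ∀ i ∈ I, Good U (s i)) :
    ∃ (D : ℕ) (_ : 0 < D) (p : Coh.structureModule X ⟶ CohB1.tensorPow L D), Good U p ∧
      ∀ x : X, x ∈ CohB1.genLocus _ p ↔ ∀ i ∈ I, x ∈ CohB1.genLocus _ (s i) := by
  classical
  induction hI using Finset.Nonempty.cons_induction with
  | singleton i =>
    refine ⟨d i, hd i (Finset.mem_singleton_self i), s i, hs i (Finset.mem_singleton_self i), ?_⟩
    intro x
    simp
  | cons i I hi hI ih =>
    obtain ⟨D, hD, p, hp, hpx⟩ := ih (fun j hj => hd j (Finset.mem_cons_of_mem hj))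
      (fun j hj => hs j (Finset.mem_cons_of_mem hj))
    refine ⟨D + d i, by omega, pmul hL p (s i), good_pmul hL U p (s i) hp, ?_⟩
    intro x
    rw [genLocus_pmul]
    constructor
    · rintro ⟨h1, h2⟩ j hj
      rcases Finset.mem_cons.1 hj with rfl | hj
      · exact h2
      · exact (hpx x).1 h1 j hj
    · intro h
      exact ⟨(hpx x).2 (fun j hj => h j (Finset.mem_cons_of_mem hj)),
        h i (Finset.mem_cons_self i I)⟩

include hL in
/-- **graded prime avoidance for sections of powers of an invertible module** -/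
theorem prime_avoidance (U : X.Opens) (Z : Finset X)
    (h : ∀ x ∈ Z, ∃ (d : ℕ) (_ : 0 < d) (s : Coh.structureModule X ⟶ CohB1.tensorPow L d),
      Good U s ∧ x ∈ CohB1.genLocus _ s) :
    ∃ (d : ℕ) (_ : 0 < d) (s : Coh.structureModule X ⟶ CohB1.tensorPow L d),
      Good U s ∧ ∀ x ∈ Z, x ∈ CohB1.genLocus _ s := by
  classical
  induction hn : Z.card using Nat.strong_induction_on generalizing Z with
  | _ n ih =>
  rcases Nat.lt_or_ge Z.card 2 with hlt | hge
  · rcases Nat.lt_or_ge Z.card 1 with h0 | h1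
    · have : Z = ∅ := Finset.card_eq_zero.1 (by omega)
      subst this
      exact ⟨1, Nat.one_pos, 0, good_zero hL U 1, by simp⟩
    · obtain ⟨z, rfl⟩ := Finset.card_eq_one.1 (show Z.card = 1 by omega)
      obtain ⟨d, hd, s, hs, hz⟩ := h z (Finset.mem_singleton_self z)
      exact ⟨d, hd, s, hs, by simpa using hz⟩
  · -- sections avoiding one point at a time
    have key : ∀ z ∈ Z, ∃ (d : ℕ) (_ : 0 < d)
        (s : Coh.structureModule X ⟶ CohB1.tensorPow L d),
        Good U s ∧ ∀ x ∈ Z.erase z, x ∈ CohB1.genLocus _ s := by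
      intro z hz
      refine ih (Z.erase z).card ?_ (Z.erase z) (fun x hx => h x (Finset.mem_of_mem_erase hx)) rfl
      rw [Finset.card_erase_of_mem hz]; omega
    by_cases hex : ∃ z ∈ Z, ∃ (d : ℕ) (_ : 0 < d)
        (s : Coh.structureModule X ⟶ CohB1.tensorPow L d),
        (Good U s ∧ ∀ x ∈ Z.erase z, x ∈ CohB1.genLocus _ s) ∧ z ∈ CohB1.genLocus _ s
    · obtain ⟨z, hz, d, hd, s, ⟨hs, hsZ⟩, hzs⟩ := hex
      refine ⟨d, hd, s, hs, fun x hx => ?_⟩
      by_cases hxz : x = z
      · rw [hxz]; exact hzs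
      · exact hsZ x (Finset.mem_erase.2 ⟨hxz, hx⟩)
    · push Not at hex
      choose! d hd s hs using key
      obtain ⟨z₀, hz₀⟩ : Z.Nonempty := Finset.card_pos.1 (by omega)
      have hZ' : (Z.erase z₀).Nonempty := by
        rw [← Finset.card_pos, Finset.card_erase_of_mem hz₀]; omega
      obtain ⟨D, hD, p, hp, hpx⟩ := exists_prod hL U (Z.erase z₀) hZ' d
        (fun i hi => hd i (Finset.mem_of_mem_erase hi)) s
        (fun i hi => (hs i (Finset.mem_of_mem_erase hi)).1)
      -- `p` generates at `z₀` and at no other point of `Z`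
      have hp0 : z₀ ∈ CohB1.genLocus _ p := by
        rw [hpx]
        intro i hi
        exact (hs i (Finset.mem_of_mem_erase hi)).2 z₀
          (Finset.mem_erase.2 ⟨(Finset.ne_of_mem_erase hi).symm, hz₀⟩)
      have hp1 : ∀ z ∈ Z.erase z₀, z ∉ CohB1.genLocus _ p := by
        intro z hz hzp
        have hzZ := Finset.mem_of_mem_erase hz
        exact hex z hzZ (d z) (hd z hzZ) (s z) (hs z hzZ) ((hpx z).1 hzp z hz)
      -- `q = s z₀` generates at all other points and not at `z₀`
      have hq0 : z₀ ∉ CohB1.genLocus _ (s z₀) :=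
        hex z₀ hz₀ (d z₀) (hd z₀ hz₀) (s z₀) (hs z₀ hz₀)
      have hq1 : ∀ z ∈ Z.erase z₀, z ∈ CohB1.genLocus _ (s z₀) := (hs z₀ hz₀).2
      have hd₀ := hd z₀ hz₀
      let P := ppow hL p (d z₀)
      let Q := pcast (Nat.mul_comm (d z₀) D) (ppow hL (s z₀) D)
      have hP : CohB1.genLocus _ P = CohB1.genLocus _ p := genLocus_ppow hL p (d z₀) hd₀
      have hQ : CohB1.genLocus _ Q = CohB1.genLocus _ (s z₀) := by
        rw [genLocus_pcast, genLocus_ppow hL (s z₀) D hD]
      have hinv := isInvertible_tensorPow hL (D * d z₀)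
      refine ⟨D * d z₀, Nat.mul_pos hD hd₀, P + Q,
        good_add hL U P Q (good_ppow hL U p _ hd₀ hp)
          (good_pcast U _ _ (good_ppow hL U (s z₀) D hD (hs z₀ hz₀).1)), fun x hx => ?_⟩
      by_cases hxz : x = z₀
      · rw [hxz]
        apply mem_genLocus_add hinv
        · rw [hP]; exact hp0
        · rw [hQ]; exact hq0
      · have hx' : x ∈ Z.erase z₀ := Finset.mem_erase.2 ⟨hxz, hx⟩
        rw [add_comm]
        apply mem_genLocus_add hinv
        · rw [hQ]; exact hq1 x hx'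
        · rw [hP]; exact hp1 x hx'

/-- **EGA II 4.5.4**: finite sets in an open of a scheme with an ample module are contained in
an affine `X_s` inside the open -/
theorem exists_affine_genLocus_of_finite {L : X.Modules} (hL : CohB1.IsAmple L) (Z : Set X)
    (hZ : Z.Finite) (U : X.Opens) (hZU : Z ⊆ U) :
    ∃ (n : ℕ) (s : Coh.structureModule X ⟶ CohB1.tensorPow L (n + 1)),
      Z ⊆ CohB1.genLocus _ s ∧ CohB1.genLocus _ s ≤ U ∧ IsAffineOpen (CohB1.genLocus _ s) := by
  obtain ⟨d, hd, s, hs, hZs⟩ := prime_avoidance hL.1 U hZ.toFinset (fun x hx => by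
    obtain ⟨N, s, hxs, hsU, haff⟩ := exists_genLocus_nbhd hL U x (hZU (hZ.mem_toFinset.1 hx))
    exact ⟨N + 1, Nat.succ_pos N, s, ⟨hsU, haff⟩, hxs⟩)
  obtain ⟨n, rfl⟩ : ∃ n, d = n + 1 := ⟨d - 1, by omega⟩
  exact ⟨n, s, fun x hx => hZs x (hZ.mem_toFinset.2 hx), hs.1, hs.2⟩

end Groth.Agent.Helper1.SecOps
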