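import Mathlib
import Groth.Agent.Lib.Helper1.SecOps
import Groth.Agent.Lib.Helper1.GlobGen

set_option autoImplicit false
universe u
open CategoryTheory CategoryTheory.Limits AlgebraicGeometry TopologicalSpace Opposite

namespace Groth.Agent.Helper1.SecOps

open Groth.Agent.Helper1.QcCech Groth.Agent.Helper1.SubSh Groth.Agent.Helper1.LGen
open Groth.Agent.Helper1.TmulLib Groth.Agent.Helper1 Groth.Agent.Helper1.TwistSec
open Groth.Agent.Helper1.TensGen Groth.Agent.Helper1.TwForm Groth.Agent.Helper1.AmpleLib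

variable {X : Scheme.{u}} {M : X.Modules}

/-- multiplying a section by a global function -/
noncomputable def smulHom (r : Γ(X, ⊤)) (s : Coh.structureModule X ⟶ M) :
    Coh.structureModule X ⟶ M :=
  TwistAmple.homOfSec M (r • secVal s ⊤)

theorem secVal_smulHom (r : Γ(X, ⊤)) (s : Coh.structureModule X ⟶ M) (W : X.Opens) :
    secVal (smulHom r s) W = resR (le_top : W ≤ ⊤) r • secVal s W := by
  rw [smulHom, secVal_homOfSec, res_smul, res_secVal]

variable (hM : PicF.IsInvertible M)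
include hM

theorem genLocus_smulHom (r : Γ(X, ⊤)) (s : Coh.structureModule X ⟶ M) :
    CohB1.genLocus M (smulHom r s) = X.basicOpen r ⊓ CohB1.genLocus M s := by
  ext x
  obtain ⟨W, a, hxW, ha⟩ := exists_isGen hM x
  obtain ⟨φ, hφ⟩ := ha.exists_coeff (secVal s W)
  have h1 : (resR (le_top : W ≤ ⊤) r * φ) • a = secVal (smulHom r s) W := by
    rw [secVal_smulHom, mul_smul, hφ]
  change x ∈ CohB1.genLocus M (smulHom r s) ↔ x ∈ X.basicOpen r ∧ x ∈ CohB1.genLocus M s
  rw [mem_genLocus_iff_of_isGen _ ha _ h1 x hxW, mem_genLocus_iff_of_isGen s ha φ hφ x hxW,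
    Scheme.basicOpen_mul]
  have h2 : X.basicOpen (resR (le_top : W ≤ ⊤) r) = W ⊓ X.basicOpen r :=
    Scheme.basicOpen_res X r (homOfLE (le_top : W ≤ ⊤)).op
  rw [h2]
  exact ⟨fun h => ⟨h.1.2, h.2⟩, fun h => ⟨⟨hxW, h.1⟩, h.2⟩⟩

theorem not_mem_genLocus_sum {ι : Type*} (I : Finset ι) (s : ι → (Coh.structureModule X ⟶ M))
    (x : X) (h : ∀ i ∈ I, x ∉ CohB1.genLocus M (s i)) :
    x ∉ CohB1.genLocus M (∑ i ∈ I, s i) := by
  classical
  induction I using Finset.induction_on with
  | empty =>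
    rw [Finset.sum_empty, genLocus_zero hM]
    exact fun h => h
  | insert i I hi ih =>
    rw [Finset.sum_insert hi]
    intro hx
    rcases genLocus_add_le hM _ _ hx with h1 | h1
    · exact h i (Finset.mem_insert_self i I) h1
    · exact ih (fun j hj => h j (Finset.mem_insert_of_mem hj)) h1

theorem mem_genLocus_sum {ι : Type*} (I : Finset ι) (s : ι → (Coh.structureModule X ⟶ M))
    (x : X) (i₀ : ι) (hi₀ : i₀ ∈ I) (h0 : x ∈ CohB1.genLocus M (s i₀))
    (h : ∀ i ∈ I, i ≠ i₀ → x ∉ CohB1.genLocus M (s i)) :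
    x ∈ CohB1.genLocus M (∑ i ∈ I, s i) := by
  classical
  rw [← Finset.add_sum_erase I s hi₀]
  apply mem_genLocus_add hM _ _ x h0
  apply not_mem_genLocus_sum hM
  intro i hi
  exact h i (Finset.mem_of_mem_erase hi) (Finset.ne_of_mem_erase hi)

/-- **an invertible module on a quasi-affine scheme has a section generating it at finitely
many given points** -/
theorem exists_section_genLocus_of_finite [X.IsQuasiAffine] (E : Set X) (hE : E.Finite) :
    ∃ s : Coh.structureModule X ⟶ M, E ⊆ CohB1.genLocus M s := by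
  classical
  have hq : M.IsQuasicoherent := InvQc.isQuasicoherent_of_isInvertible M hM
  have hgg := GlobGen.isGloballyGenerated_of_isQuasiAffine M
  -- closed points in the closures
  have hc : ∀ z : X, ∃ c : X, c ∈ closure ({z} : Set X) ∧ IsClosed ({c} : Set X) := fun z =>
    isClosed_closure.exists_closed_singleton ⟨z, subset_closure rfl⟩
  choose c hcz hcc using hc
  let C : Finset X := hE.toFinset.image c
  -- separating functions
  have hr : ∀ p ∈ C, ∃ r : Γ(X, ⊤), p ∈ X.basicOpen r ∧ ∀ q ∈ C, q ≠ p → q ∉ X.basicOpen r := by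
    intro p hp
    have hopen : IsOpen ((↑(C.erase p) : Set X)ᶜ) := by
      rw [isOpen_compl_iff]
      have : (↑(C.erase p) : Set X) = ⋃ q ∈ C.erase p, ({q} : Set X) := by
        ext y; simp [and_comm]
      rw [this]
      refine Set.Finite.isClosed_biUnion (Finset.finite_toSet _) (fun q hq => ?_)
      obtain ⟨z, -, rfl⟩ := Finset.mem_image.1 (Finset.mem_of_mem_erase hq)
      exact hcc z
    have hp' : p ∈ ((↑(C.erase p) : Set X)ᶜ) := by simp
    obtain ⟨_, ⟨_, ⟨r, hr, rfl⟩, rfl⟩, hpr, hrC⟩ :=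
      (Scheme.IsQuasiAffine.isBasis_basicOpen X).exists_subset_of_mem_open hp' hopen
    refine ⟨r, hpr, fun q hq hqp hqr => ?_⟩
    exact hrC hqr (Finset.mem_coe.2 (Finset.mem_erase.2 ⟨hqp, hq⟩))
  choose! r hr1 hr2 using hr
  have ht : ∀ p : X, ∃ t : Coh.structureModule X ⟶ M, p ∈ CohB1.genLocus M t := fun p =>
    exists_section_of_globallyGenerated hM hgg p
  choose t ht using ht
  refine ⟨∑ p ∈ C, smulHom (r p) (t p), fun z hz => ?_⟩
  have hcC : c z ∈ C := Finset.mem_image.2 ⟨z, hE.mem_toFinset.2 hz, rfl⟩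
  have h1 : c z ∈ CohB1.genLocus M (∑ p ∈ C, smulHom (r p) (t p)) := by
    apply mem_genLocus_sum hM C _ (c z) (c z) hcC
    · rw [genLocus_smulHom hM]
      exact ⟨hr1 _ hcC, ht _⟩
    · intro q hq hqc
      rw [genLocus_smulHom hM]
      exact fun h => hr2 q hq (c z) hcC hqc.symm h.1
  have hsp : z ⤳ c z := specializes_iff_mem_closure.2 (hcz z)
  exact hsp.mem_open (CohB1.genLocus M _).isOpen h1

omit hM in
/-- an invertible module is trivial on a neighbourhood of finitely many points contained in an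
affine open -/
theorem exists_trivializing_open_of_affine {L : X.Modules} (hL : PicF.IsInvertible L)
    (V : X.Opens) (hV : IsAffineOpen V) (E : Set X) (hE : E.Finite) (hEV : E ⊆ V) :
    ∃ U : X.Opens, U ≤ V ∧ E ⊆ U ∧ IsAffineOpen U ∧ ∃ a : Γ(L, U), IsGen L U a := by
  have : IsAffine (↑V : Scheme.{u}) := hV
  have hL' : PicF.IsInvertible (L.restrict V.ι) := isInvertible_restrict V.ι hL
  have hE' : (V.ι ⁻¹' E).Finite := hE.preimage (V.ι.isOpenEmbedding.injective.injOn)
  obtain ⟨s', hs'⟩ := exists_section_genLocus_of_finite hL' (V.ι ⁻¹' E) hE'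
  set U' := CohB1.genLocus (L.restrict V.ι) s' with hU'
  have hgen : IsGen (L.restrict V.ι) U' (secVal s' U') := isGen_secVal s' le_rfl
  have hgen' := isGen_image_of_isGen_restrict V.ι L U' _ hgen
  have haff : IsAffineOpen U' := by
    have := GenLoc.isAffineHom_genLocus_ι (L.restrict V.ι) s' hL'
    have h1 : IsAffineOpen (U'.ι ⁻¹ᵁ (⊤ : (↑V : Scheme.{u}).Opens)) :=
      (isAffineOpen_top (↑V : Scheme.{u})).preimage U'.ι
    have h2 := h1.image_of_isOpenImmersion U'.ι
    rwa [Scheme.Hom.image_preimage_eq_opensRange_inf, Scheme.Opens.opensRange_ι, inf_top_eq] at h2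
  refine ⟨V.ι ''ᵁ U', V.ι_image_le U', fun z hz => ?_, haff.image_of_isOpenImmersion V.ι,
    _, hgen'⟩
  exact ⟨⟨z, hEV hz⟩, hs' (show (⟨z, hEV hz⟩ : ↥V) ∈ V.ι ⁻¹' E from hz), rfl⟩

end Groth.Agent.Helper1.SecOps
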