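import Mathlib
import Groth.Agent.Lib.Helper1.SecOps2
import Groth.Agent.Lib.Helper1.AmpleQA2

set_option autoImplicit false
universe u
open CategoryTheory CategoryTheory.Limits AlgebraicGeometry TopologicalSpace Opposite

namespace Groth.Agent.Helper1.SecOps

open Groth.Agent.Helper1.QcCech Groth.Agent.Helper1.SubSh Groth.Agent.Helper1.LGen
open Groth.Agent.Helper1.TmulLib Groth.Agent.Helper1 Groth.Agent.Helper1.TwistSec
open Groth.Agent.Helper1.TensGen Groth.Agent.Helper1.TwForm Groth.Agent.Helper1.AmpleLib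

variable {X : Scheme.{u}}

/-- on a quasi-affine scheme, finite sets in an open lie in an affine basic open inside it -/
theorem exists_basicOpen_of_finite [X.IsQuasiAffine] (W : X.Opens) (E : Set X) (hE : E.Finite)
    (hEW : E ⊆ W) :
    ∃ f : Γ(X, ⊤), IsAffineOpen (X.basicOpen f) ∧ E ⊆ X.basicOpen f ∧ X.basicOpen f ≤ W := by
  obtain ⟨n, t, h1, h2, h3⟩ := exists_affine_genLocus_of_finite
    (GenLoc.isAmple_O_of_isQuasiAffine (X := X)) E hE W hEW
  obtain ⟨e⟩ := GenLoc.nonempty_tensorPow_O_iso (X := X) (n + 1)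
  rw [← TwistAmple.genLocus_comp_iso t e, GenLoc.genLocus_O] at h1 h2 h3
  exact ⟨_, h3, h1, h2⟩

/-- **Stacks-style: on a quasi-affine scheme, an invertible module has a section whose locus
of generation is affine, contains a given finite set and lies in a given open** -/
theorem exists_section_affine_genLocus_of_finite [X.IsQuasiAffine] {L : X.Modules}
    (hL : PicF.IsInvertible L) (W : X.Opens) (E : Set X) (hE : E.Finite) (hEW : E ⊆ W) :
    ∃ s : Coh.structureModule X ⟶ L, IsAffineOpen (CohB1.genLocus L s) ∧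
      E ⊆ CohB1.genLocus L s ∧ CohB1.genLocus L s ≤ W := by
  obtain ⟨f, hf1, hf2, hf3⟩ := exists_basicOpen_of_finite W E hE hEW
  obtain ⟨s₀, hs₀⟩ := exists_section_genLocus_of_finite hL E hE
  refine ⟨smulHom f s₀, ?_, ?_, ?_⟩
  · rw [genLocus_smulHom hL]
    have := GenLoc.isAffineHom_genLocus_ι L s₀ hL
    have h1 : IsAffineOpen ((CohB1.genLocus L s₀).ι ⁻¹ᵁ X.basicOpen f) :=
      hf1.preimage (CohB1.genLocus L s₀).ι
    have h2 := h1.image_of_isOpenImmersion (CohB1.genLocus L s₀).ι
    rwa [Scheme.Hom.image_preimage_eq_opensRange_inf, Scheme.Opens.opensRange_ι, inf_comm] at h2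
  · rw [genLocus_smulHom hL]
    exact fun z hz => ⟨hf2 hz, hs₀ hz⟩
  · rw [genLocus_smulHom hL]
    exact inf_le_left.trans hf3

end Groth.Agent.Helper1.SecOps
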