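import Mathlib
import Groth.Agent.Lib.Helper1.SecOps3
import Groth.Agent.Lib.Helper1.TwistExt2

set_option autoImplicit false
universe u
open CategoryTheory CategoryTheory.Limits AlgebraicGeometry TopologicalSpace Opposite

namespace Groth.Agent.Helper1.SecOps

open Groth.Agent.Helper1.QcCech Groth.Agent.Helper1.SubSh Groth.Agent.Helper1.LGen
open Groth.Agent.Helper1.TmulLib Groth.Agent.Helper1 Groth.Agent.Helper1.TwistSec
open Groth.Agent.Helper1.TensGen Groth.Agent.Helper1.TwForm Groth.Agent.Helper1.AmpleLib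

variable {X : Scheme.{u}}

/-- on an affine open, an invertible module has a section generating it at finitely many
given points -/
theorem exists_section_on_affine {F : X.Modules} (hF : PicF.IsInvertible F)
    (V : X.Opens) (hV : IsAffineOpen V) (E : Set X) (hE : E.Finite) (hEV : E ⊆ V) :
    ∃ (σ : Γ(F, V)) (U : X.Opens) (hUV : U ≤ V), E ⊆ U ∧ IsGen F U (res F hUV σ) := by
  have : IsAffine (↑V : Scheme.{u}) := hV
  have hF' : PicF.IsInvertible (F.restrict V.ι) := isInvertible_restrict V.ι hF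
  have hE' : (V.ι ⁻¹' E).Finite := hE.preimage (V.ι.isOpenEmbedding.injective.injOn)
  obtain ⟨s', hs'⟩ := exists_section_genLocus_of_finite hF' (V.ι ⁻¹' E) hE'
  set U' := CohB1.genLocus (F.restrict V.ι) s' with hU'
  have hgen : IsGen (F.restrict V.ι) U' (secVal s' U') := isGen_secVal s' le_rfl
  have hgen' := isGen_image_of_isGen_restrict V.ι F U' _ hgen
  have htop : V.ι ''ᵁ ⊤ = V := by simp
  let σ' : Γ(F, V.ι ''ᵁ ⊤) := secVal s' ⊤
  refine ⟨res F (le_of_eq htop.symm) σ', V.ι ''ᵁ U', V.ι_image_le U', fun z hz => ?_, ?_⟩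
  · exact ⟨⟨z, hEV hz⟩, hs' (show (⟨z, hEV hz⟩ : ↥V) ∈ V.ι ⁻¹' E from hz), rfl⟩
  · rw [res_res]
    have : secVal s' U' = res (F.restrict V.ι) (le_top : U' ≤ ⊤) (secVal s' ⊤) :=
      (res_secVal s' le_top).symm
    rw [this] at hgen'
    exact hgen'

/-- **sections of all large twists generating at finitely many points** -/
theorem exists_sections_all_large_twists {A L : X.Modules} (hA : CohB1.IsAmple A)
    (hL : PicF.IsInvertible L) (E : Set X) (hE : E.Finite) :
    ∃ N₀ : ℕ, ∀ N : ℕ, N₀ ≤ N →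
      ∃ s : Coh.structureModule X ⟶ CohB1.tensorMod L (CohB1.tensorPow A N),
        E ⊆ CohB1.genLocus _ s := by
  have : CompactSpace X := hA.2.1
  have : QuasiSeparatedSpace X := quasiSeparatedSpace_of_isAmple hA
  obtain ⟨n, t, hEt, -, haff⟩ := exists_affine_genLocus_of_finite hA E hE ⊤ (fun _ _ => trivial)
  have hAd := isInvertible_tensorPow hA.1 (n + 1)
  have hloc := locFrame_of_isInvertible hL hA.1
  -- residue classes
  have key : ∀ r : ℕ, ∃ m₀ : ℕ, ∀ m : ℕ, m₀ ≤ m →
      ∃ s : Coh.structureModule X ⟶ CohB1.tensorMod L (CohB1.tensorPow A (r + (n + 1) * m)),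
        E ⊆ CohB1.genLocus _ s := by
    intro r
    have hF : PicF.IsInvertible (CohB1.tensorMod L (CohB1.tensorPow A r)) :=
      isInvertible_tensorMod hL (isInvertible_tensorPow hA.1 r)
    have : (CohB1.tensorMod L (CohB1.tensorPow A r)).IsQuasicoherent :=
      InvQc.isQuasicoherent_of_isInvertible _ hF
    obtain ⟨σ, U, hUV, hEU, hgen⟩ := exists_section_on_affine hF _ haff E hE hEt
    obtain ⟨m₀, hm₀⟩ := exists_twist_extends_ge hAd t (CohB1.tensorMod L (CohB1.tensorPow A r)) σ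
    refine ⟨m₀, fun m hm => ?_⟩
    obtain ⟨t', ht'⟩ := hm₀ m hm
    let e : CohB1.tensorMod (CohB1.tensorMod L (CohB1.tensorPow A r))
        (CohB1.tensorPow (CohB1.tensorPow A (n + 1)) m) ≅
        CohB1.tensorMod L (CohB1.tensorPow A (r + (n + 1) * m)) :=
      Tw.iso
        (((Tw.fst L A).tensorR ((Tw.snd L A).pow r)).tensorR (((Tw.snd L A).pow (n + 1)).pow m))
        (((Tw.fst L A).tensorR ((Tw.snd L A).pow (r + (n + 1) * m))).cast
          (by push_cast; ring) (by push_cast; ring)) hloc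
    refine ⟨TwistAmple.homOfSec _ (e.hom.app ⊤ t'), fun z hz => ?_⟩
    refine le_genLocus_of_isGen _ (W := U) ?_ (hEU hz)
    rw [secVal_homOfSec, ← QcExt.app_res]
    apply PullGen.isGen_of_iso_app
    have h1 : res _ (le_top : U ≤ ⊤) t' = res _ hUV (res _ (le_top : CohB1.genLocus _ t ≤ ⊤) t') :=
      (res_res _ _ _ _).symm
    rw [h1, ht', res_twist, twist_eq]
    exact isGen_tm hgen (isGen_gpow (isGen_secVal t hUV) m)
  choose m₀ hm₀ using key
  refine ⟨(n + 1) * ((Finset.range (n + 1)).sup m₀ + 1), fun N hN => ?_⟩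
  have hr : N % (n + 1) < n + 1 := Nat.mod_lt _ (Nat.succ_pos n)
  have hm : m₀ (N % (n + 1)) ≤ N / (n + 1) := by
    have h1 : m₀ (N % (n + 1)) ≤ (Finset.range (n + 1)).sup m₀ :=
      Finset.le_sup (f := m₀) (Finset.mem_range.2 hr)
    have h2 : (Finset.range (n + 1)).sup m₀ + 1 ≤ N / (n + 1) :=
      (Nat.le_div_iff_mul_le (Nat.succ_pos n)).2 (by rw [Nat.mul_comm]; exact hN)
    omega
  have hN' : N % (n + 1) + (n + 1) * (N / (n + 1)) = N := Nat.mod_add_div N (n + 1)
  have := hm₀ (N % (n + 1)) (N / (n + 1)) hm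
  rw [hN'] at this
  exact this

end Groth.Agent.Helper1.SecOps
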