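import Mathlib
import Groth.Agent.Lib.Helper1.VA1
import Groth.Agent.Lib.Helper1.SecOps4

set_option autoImplicit false
universe u

open CategoryTheory CategoryTheory.Limits AlgebraicGeometry TopologicalSpace Opposite

namespace Groth.Agent.Helper1.VA2

open Groth.Agent.Helper1.QcCech Groth.Agent.Helper1.SubSh Groth.Agent.Helper1.LGen
open Groth.Agent.Helper1 Groth.Agent.Helper1.AmpleLib Groth.Agent.Helper1.TwForm
open Groth.Agent.Helper1.TmulLib Groth.Agent.Helper1.TwistSec Groth.Agent.Helper1.TensGen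
open Groth.Agent.Helper1.VA1

variable {X S : Scheme.{u}}

theorem exists_gens_of_finiteType {A B : Type*} [CommRing A] [CommRing B] (φ : A →+* B)
    (h : φ.FiniteType) :
    ∃ (k : ℕ) (b : Fin k → B), ∀ T : Subring B, (∀ y, φ y ∈ T) → (∀ i, b i ∈ T) → T = ⊤ := by
  classical
  let _ := φ.toAlgebra
  obtain ⟨s, hs⟩ : ∃ s : Finset B, Algebra.adjoin A (s : Set B) = ⊤ := h.out
  refine ⟨s.card, fun i => (s.equivFin.symm i : B), fun T hT1 hT2 => ?_⟩
  let T' : Subalgebra A B := { T.toSubsemiring with algebraMap_mem' := fun y => hT1 y }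
  have hsT : (s : Set B) ⊆ T' := by
    intro x hx
    have h0 : ((s.equivFin.symm (s.equivFin ⟨x, hx⟩) : s) : B) ∈ T := hT2 (s.equivFin ⟨x, hx⟩)
    rw [Equiv.symm_apply_apply] at h0
    exact h0
  have h1 : Algebra.adjoin A (s : Set B) ≤ T' := Algebra.adjoin_le hsT
  rw [hs] at h1
  rw [eq_top_iff]
  intro x _
  exact h1 (Algebra.mem_top : x ∈ (⊤ : Subalgebra A B))

theorem genLocus_congr {L : X.Modules} (f g : Coh.structureModule X ⟶ L)
    (h : ∀ W, secVal f W = secVal g W) : CohB1.genLocus L f = CohB1.genLocus L g := by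
  ext x
  change x ∈ CohB1.genLocus _ _ ↔ x ∈ CohB1.genLocus _ _
  rw [mem_genLocus_iff_isGen, mem_genLocus_iff_isGen]
  simp only [h]

theorem genLocus_homOfSec_tm {M N : X.Modules} (hM : PicF.IsInvertible M)
    (hN : PicF.IsInvertible N) (u : Γ(M, ⊤)) (t : Coh.structureModule X ⟶ N) :
    CohB1.genLocus (CohB1.tensorMod M N)
      (TwistAmple.homOfSec _ (tm M N ⊤ u (secVal t ⊤))) =
      CohB1.genLocus M (TwistAmple.homOfSec M u) ⊓ CohB1.genLocus N t := by
  rw [← genLocus_tmulHom hM hN]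
  apply genLocus_congr
  intro W
  rw [secVal_homOfSec, secVal_tmulHom, secVal_homOfSec, res_tm, res_secVal]

/-- **the chart lemma**: sections of `L^d ⊗ L'` adapted to an affine chart `X_t` -/
theorem chart (q : X ⟶ S) [LocallyOfFiniteType q] [CompactSpace X] [QuasiSeparatedSpace X]
    {L L' : X.Modules} (hL : PicF.IsInvertible L) (hL' : PicF.IsInvertible L')
    (N : ℕ) (t : Coh.structureModule X ⟶ CohB1.tensorPow L (N + 1))
    (haff : IsAffineOpen (CohB1.genLocus _ t)) (S₀ : S.Opens) (hS₀ : IsAffineOpen S₀)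
    (hle : CohB1.genLocus _ t ≤ q ⁻¹ᵁ S₀)
    (g : Γ(L, CohB1.genLocus _ t)) (hg : IsGen L _ g)
    (g' : Γ(L', CohB1.genLocus _ t)) (hg' : IsGen L' _ g') :
    ∃ (k : ℕ) (d₀ : ℕ), ∀ d : ℕ, d₀ ≤ d →
      ∃ (z : Γ(CohB1.tensorMod (CohB1.tensorPow L d) L', ⊤))
        (c : Fin k → Γ(CohB1.tensorMod (CohB1.tensorPow L d) L', ⊤)),
        CohB1.genLocus _ (TwistAmple.homOfSec _ z) = CohB1.genLocus _ t ∧
        ∀ (U : X.Opens) (_ : U = CohB1.genLocus _ t) (hUS : U ≤ q ⁻¹ᵁ S₀) (T : Subring Γ(X, U)),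
          (∀ y, (q.appLE S₀ U hUS).hom y ∈ T) →
          (∀ (b : Fin k) (ρ : Γ(X, U)),
            ρ • res _ (le_top : U ≤ ⊤) z = res _ (le_top : U ≤ ⊤) (c b) → ρ ∈ T) →
          T = ⊤ := by
  classical
  have hAd := isInvertible_tensorPow hL (N + 1)
  have hloc := locFrame_of_isInvertible hL' hL
  obtain ⟨k, b, hb⟩ := exists_gens_of_finiteType (q.appLE S₀ (CohB1.genLocus _ t) hle).hom
    (HasRingHomProperty.appLE @LocallyOfFiniteType q inferInstance ⟨S₀, hS₀⟩
      ⟨CohB1.genLocus _ t, haff⟩ hle)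
  let β : Option (Fin k) → Γ(X, CohB1.genLocus _ t) := fun o => o.elim 1 b
  have key : ∀ (e : ℕ) (o : Option (Fin k)), ∃ m₀ : ℕ, ∀ m : ℕ, m₀ ≤ m →
      ∃ u : Γ(CohB1.tensorMod (CohB1.tensorMod L' (CohB1.tensorPow L e))
          (CohB1.tensorPow (CohB1.tensorPow L (N + 1)) m), ⊤),
        res _ (le_top : CohB1.genLocus _ t ≤ ⊤) u =
          SecTwist.twist t m (CohB1.tensorMod L' (CohB1.tensorPow L e)) (CohB1.genLocus _ t)
            (β o • tm L' (CohB1.tensorPow L e) _ g' (gpow g e)) := by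
    intro e o
    have hF : PicF.IsInvertible (CohB1.tensorMod L' (CohB1.tensorPow L e)) :=
      isInvertible_tensorMod hL' (isInvertible_tensorPow hL e)
    have : (CohB1.tensorMod L' (CohB1.tensorPow L e)).IsQuasicoherent :=
      InvQc.isQuasicoherent_of_isInvertible _ hF
    exact exists_twist_extends_ge hAd t _ _
  choose m₀ hm₀ using key
  let M₀ : ℕ := (Finset.range (N + 1)).sup (fun e => Finset.univ.sup (fun o => m₀ e o))
  refine ⟨k, (N + 1) * (M₀ + 1), fun d hd => ?_⟩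
  have hNpos : 0 < N + 1 := Nat.succ_pos N
  have he : d % (N + 1) < N + 1 := Nat.mod_lt _ hNpos
  have hq : M₀ + 1 ≤ d / (N + 1) :=
    (Nat.le_div_iff_mul_le hNpos).2 (by rw [Nat.mul_comm]; exact hd)
  obtain ⟨m, hm⟩ : ∃ m, d / (N + 1) = m + 1 := ⟨d / (N + 1) - 1, by omega⟩
  have hmM : M₀ ≤ m := by omega
  have hd' : d % (N + 1) + (N + 1) * m + (N + 1) = d := by
    have := Nat.mod_add_div d (N + 1)
    rw [hm] at this
    calc d % (N + 1) + (N + 1) * m + (N + 1) = d % (N + 1) + (N + 1) * (m + 1) := by ring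
      _ = d := this
  set e := d % (N + 1) with he'
  have hbound : ∀ o, m₀ e o ≤ m := by
    intro o
    have h1 : m₀ e o ≤ Finset.univ.sup (fun o => m₀ e o) :=
      Finset.le_sup (f := fun o => m₀ e o) (Finset.mem_univ o)
    have h2 : Finset.univ.sup (fun o => m₀ e o) ≤ M₀ :=
      Finset.le_sup (f := fun e => Finset.univ.sup (fun o => m₀ e o)) (Finset.mem_range.2 he)
    omega
  choose u hu using fun o => hm₀ e o m (hbound o)
  let v : ∀ o : Option (Fin k), Γ(CohB1.tensorMod (CohB1.tensorMod (CohB1.tensorMod L'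
      (CohB1.tensorPow L e)) (CohB1.tensorPow (CohB1.tensorPow L (N + 1)) m))
      (CohB1.tensorPow L (N + 1)), ⊤) :=
    fun o => tm _ _ ⊤ (u o) (secVal t ⊤)
  let eiso : CohB1.tensorMod (CohB1.tensorMod (CohB1.tensorMod L'
      (CohB1.tensorPow L e)) (CohB1.tensorPow (CohB1.tensorPow L (N + 1)) m))
      (CohB1.tensorPow L (N + 1)) ≅ CohB1.tensorMod (CohB1.tensorPow L d) L' :=
    Tw.iso
      ((((Tw.fst L' L).tensorR ((Tw.snd L' L).pow e)).tensorR
        (((Tw.snd L' L).pow (N + 1)).pow m)).tensorR ((Tw.snd L' L).pow (N + 1)))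
      ((((Tw.snd L' L).pow d).tensorL (Tw.fst L' L)).cast
        (by push_cast; ring) (by rw [← hd']; push_cast; ring)) hloc
  have hF : PicF.IsInvertible (CohB1.tensorMod L' (CohB1.tensorPow L e)) :=
    isInvertible_tensorMod hL' (isInvertible_tensorPow hL e)
  have hFm : PicF.IsInvertible (CohB1.tensorMod (CohB1.tensorMod L' (CohB1.tensorPow L e))
      (CohB1.tensorPow (CohB1.tensorPow L (N + 1)) m)) :=
    isInvertible_tensorMod hF (isInvertible_tensorPow hAd m)
  have hgen0 : IsGen _ (CohB1.genLocus _ t)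
      (tm _ _ _ (tm L' (CohB1.tensorPow L e) _ g' (gpow g e))
        (gpow (secVal t (CohB1.genLocus _ t)) m)) :=
    isGen_tm (isGen_tm hg' (isGen_gpow hg e)) (isGen_gpow (isGen_secVal t le_rfl) m)
  have hres : ∀ o, res _ (le_top : CohB1.genLocus _ t ≤ ⊤) (v o) =
      β o • tm _ _ _ (tm _ _ _ (tm L' (CohB1.tensorPow L e) _ g' (gpow g e))
        (gpow (secVal t (CohB1.genLocus _ t)) m)) (secVal t (CohB1.genLocus _ t)) := by
    intro o
    change res _ _ (tm _ _ ⊤ (u o) (secVal t ⊤)) = _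
    rw [res_tm, hu, twist_eq, res_secVal, tm_smul_left, tm_smul_left]
  refine ⟨eiso.hom.app ⊤ (v none), fun b => eiso.hom.app ⊤ (v (some b)), ?_, ?_⟩
  · rw [genLocus_of_iso, genLocus_homOfSec_tm hFm hAd, inf_eq_right]
    apply le_genLocus_of_isGen (W := CohB1.genLocus _ t)
    rw [secVal_homOfSec, hu none, twist_eq]
    change IsGen _ _ (tm _ _ _ ((1 : Γ(X, CohB1.genLocus _ t)) • _) _)
    rw [one_smul]
    exact hgen0
  · intro U hU hUS T hT1 hT2
    subst hU
    apply hb T hT1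
    intro i
    apply hT2 i (b i)
    rw [← QcExt.app_res, ← QcExt.app_res, ← Scheme.Modules.Hom.app_smul]
    congr 1
    rw [hres, hres]
    change b i • ((1 : Γ(X, CohB1.genLocus _ t)) • _) = b i • _
    rw [one_smul]

end Groth.Agent.Helper1.VA2
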