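import Mathlib
import Groth.Agent.Lib.Helper1.VA2

set_option autoImplicit false
universe u

open CategoryTheory CategoryTheory.Limits AlgebraicGeometry TopologicalSpace Opposite

namespace Groth.Agent.Helper1.VA3

open Groth.Agent.Helper1.QcCech Groth.Agent.Helper1.SubSh Groth.Agent.Helper1.LGen
open Groth.Agent.Helper1 Groth.Agent.Helper1.AmpleLib Groth.Agent.Helper1.TwForm
open Groth.Agent.Helper1.TmulLib Groth.Agent.Helper1.TwistSec Groth.Agent.Helper1.TensGen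
open Groth.Agent.Helper1.VA1 Groth.Agent.Helper1.VA2

variable {X S : Scheme.{u}}

/-- the core criterion with an arbitrary finite index type -/
theorem isRelVeryAmplePn_of_charts' (q : X ⟶ S) {G : X.Modules} (hG : PicF.IsInvertible G)
    {ι : Type*} [Fintype ι] (σ : ι → Γ(G, ⊤))
    {𝒜 : Type*} (j : 𝒜 → ι) (S₀ : 𝒜 → S.Opens) (hS₀ : ∀ a, IsAffineOpen (S₀ a))
    (haff : ∀ a, IsAffineOpen (CohB1.genLocus G (TwistAmple.homOfSec G (σ (j a)))))
    (hle : ∀ a, CohB1.genLocus G (TwistAmple.homOfSec G (σ (j a))) ≤ q ⁻¹ᵁ S₀ a)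
    (hcovX : ∀ x : X, ∃ a, x ∈ CohB1.genLocus G (TwistAmple.homOfSec G (σ (j a))))
    (hgen : ∀ (a : 𝒜) (U : X.Opens) (_ : U = CohB1.genLocus G (TwistAmple.homOfSec G (σ (j a))))
      (hUS : U ≤ q ⁻¹ᵁ S₀ a) (T : Subring Γ(X, U)),
      (∀ y, (q.appLE (S₀ a) U hUS).hom y ∈ T) →
      (∀ (l : ι) (ρ : Γ(X, U)),
        ρ • res G (le_top : U ≤ ⊤) (σ (j a)) = res G (le_top : U ≤ ⊤) (σ l) → ρ ∈ T) → T = ⊤) :
    RelAmple.IsRelVeryAmplePn q G := by
  classical
  let e : Option ι ≃ Fin (Fintype.card ι + 1) :=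
    (Fintype.equivFin (Option ι)).trans (finCongr Fintype.card_option)
  let s : Fin (Fintype.card ι + 1) → Γ(G, ⊤) := fun i => (e.symm i).elim 0 σ
  have hs : ∀ l : ι, s (e (some l)) = σ l := by
    intro l
    change (e.symm (e (some l))).elim 0 σ = σ l
    rw [Equiv.symm_apply_apply]
    rfl
  apply isRelVeryAmplePn_of_charts q hG (Fintype.card ι) s ?_ (fun a => e (some (j a))) S₀ hS₀
  · intro a; rw [hs]; exact haff a
  · intro a; rw [hs]; exact hle a
  · intro x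
    obtain ⟨a, ha⟩ := hcovX x
    exact ⟨a, by rw [hs]; exact ha⟩
  · intro a U hU hUS T hT1 hT2
    rw [hs] at hU
    apply hgen a U hU hUS T hT1
    intro l ρ hρ
    apply hT2 (e (some l)) ρ
    rw [hs, hs]
    exact hρ
  · apply generatedBy_of_cover
    intro x
    obtain ⟨a, ha⟩ := hcovX x
    exact ⟨e (some (j a)), by rw [hs]; exact ha⟩

/-- **ample ⟹ large powers (twisted by an invertible module) are very ample** -/
theorem exists_veryAmple_powers (q : X ⟶ S) [LocallyOfFiniteType q] {L L' : X.Modules}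
    (hL : CohB1.IsAmple L) (hL' : PicF.IsInvertible L') :
    ∃ n₀ : ℕ, ∀ n : ℕ, n₀ ≤ n →
      RelAmple.IsRelVeryAmplePn q (CohB1.tensorMod (CohB1.tensorPow L n) L') := by
  classical
  have : CompactSpace X := hL.2.1
  have : QuasiSeparatedSpace X := quasiSeparatedSpace_of_isAmple hL
  -- chart data at each point
  have hpt : ∀ x : X, ∃ (S₀ : S.Opens) (N : ℕ)
      (t : Coh.structureModule X ⟶ CohB1.tensorPow L (N + 1))
      (g : Γ(L, CohB1.genLocus _ t)) (g' : Γ(L', CohB1.genLocus _ t)),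
      IsAffineOpen S₀ ∧ x ∈ CohB1.genLocus _ t ∧ IsAffineOpen (CohB1.genLocus _ t) ∧
      CohB1.genLocus _ t ≤ q ⁻¹ᵁ S₀ ∧ IsGen L _ g ∧ IsGen L' _ g' := by
    intro x
    obtain ⟨_, ⟨S₀, hS₀, rfl⟩, hxS₀, -⟩ :=
      S.isBasis_affineOpens.exists_subset_of_mem_open (Set.mem_univ (q x)) isOpen_univ
    obtain ⟨W, a, a', hxW, ha, ha'⟩ := exists_isGen₂ hL.1 hL' x
    obtain ⟨N, t, hxt, htle, htaff⟩ := exists_genLocus_nbhd hL (W ⊓ q ⁻¹ᵁ S₀) x ⟨hxW, hxS₀⟩
    exact ⟨S₀, N, t, res L (htle.trans inf_le_left) a, res L' (htle.trans inf_le_left) a', hS₀,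
      hxt, htaff, htle.trans inf_le_right, ha.res _, ha'.res _⟩
  choose S₀ N t g g' hS₀ hxt htaff htle hg hg' using hpt
  -- the chart lemma at each point
  have hch := fun x => chart q hL.1 hL' (N x) (t x) (htaff x) (S₀ x) (hS₀ x) (htle x)
    (g x) (hg x) (g' x) (hg' x)
  choose k d₀ hd₀ using hch
  -- a finite subcover
  obtain ⟨F, hF⟩ := isCompact_univ.elim_finite_subcover
    (fun x => ((CohB1.genLocus _ (t x) : X.Opens) : Set X))
    (fun x => (CohB1.genLocus _ (t x)).isOpen) (fun x _ => Set.mem_iUnion.2 ⟨x, hxt x⟩)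
  refine ⟨F.sup d₀, fun n hn => ?_⟩
  have hnd : ∀ x ∈ F, d₀ x ≤ n := fun x hx => (Finset.le_sup hx).trans hn
  have hG : PicF.IsInvertible (CohB1.tensorMod (CohB1.tensorPow L n) L') :=
    isInvertible_tensorMod (isInvertible_tensorPow hL.1 n) hL'
  choose z c hz hc using fun x : F => hd₀ x.1 n (hnd x.1 x.2)
  let σ : (Σ x : F, Option (Fin (k x.1))) → Γ(CohB1.tensorMod (CohB1.tensorPow L n) L', ⊤) :=
    fun p => p.2.elim (z p.1) (c p.1)
  apply isRelVeryAmplePn_of_charts' q hG σ (fun x : F => ⟨x, none⟩) (fun x => S₀ x.1)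
    (fun x => hS₀ x.1)
  · intro x
    change IsAffineOpen (CohB1.genLocus _ (TwistAmple.homOfSec _ (z x)))
    rw [hz]
    exact htaff x.1
  · intro x
    change CohB1.genLocus _ (TwistAmple.homOfSec _ (z x)) ≤ _
    rw [hz]
    exact htle x.1
  · intro y
    obtain ⟨x, hx⟩ := Set.mem_iUnion.1 (hF (Set.mem_univ y))
    obtain ⟨hxF, hy⟩ := Set.mem_iUnion.1 hx
    refine ⟨⟨x, hxF⟩, ?_⟩
    change y ∈ CohB1.genLocus _ (TwistAmple.homOfSec _ (z ⟨x, hxF⟩))
    rw [hz]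
    exact hy
  · intro x U hU hUS T hT1 hT2
    have hU' : U = CohB1.genLocus _ (t x.1) := hU.trans (hz x)
    apply hc x U hU' hUS T hT1
    intro b ρ hρ
    exact hT2 ⟨x, some b⟩ ρ hρ

end Groth.Agent.Helper1.VA3
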