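import Mathlib
import Groth.Agent.Lib.Helper1.ProjUP5
import Groth.Agent.Lib.Helper1.ProjGlobal
import Groth.Agent.Lib.Helper1.ProjVA1
import Groth.Agent.Lib.Helper1.VA3

set_option autoImplicit false
universe u

open CategoryTheory AlgebraicGeometry TopologicalSpace Opposite HomogeneousLocalization

namespace Groth.Agent.Helper1.ProjVA2

open Groth.Agent.Helper1.QcCech Groth.Agent.Helper1.SubSh Groth.Agent.Helper1.LGen
open Groth.Agent.Helper1 Groth.Agent.Helper1.AmpleLib Groth.Agent.Helper1.TwistTriv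

variable {A S : Type u} [CommRing A] [CommRing S] [Algebra A S] (𝒮 : ℕ → Submodule A S)
  [GradedAlgebra 𝒮]

set_option synthInstance.maxHeartbeats 400000

/-- on `D₊(g)`, `b = (b/g^n) • g^n` in `O(n)` -/
theorem res_globalOf_eq_smul_pow {g b : S} (n : ℕ) (hg : g ∈ 𝒮 1) (hb : b ∈ 𝒮 n)
    (hb' : b ∈ 𝒮 (n • 1)) (hgn : g ^ n ∈ 𝒮 n) :
    res (Twist.twist 𝒮 ((n : ℕ) : ℤ)) (le_top : Proj.basicOpen 𝒮 g ≤ ⊤)
        (Twist.globalOf 𝒮 ⟨b, hb⟩) =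
      ((Proj.awayToSection 𝒮 g).hom (Away.mk 𝒮 hg n b hb') : Γ(Proj 𝒮, Proj.basicOpen 𝒮 g)) •
        res (Twist.twist 𝒮 ((n : ℕ) : ℤ)) (le_top : Proj.basicOpen 𝒮 g ≤ ⊤)
          (Twist.globalOf 𝒮 ⟨g ^ n, hgn⟩) := by
  apply Subtype.ext
  funext x
  apply Subtype.ext
  have h := smul_sec_val 𝒮 (m := ((n : ℕ) : ℤ)) (Proj.basicOpen 𝒮 g)
    ((Proj.awayToSection 𝒮 g).hom (Away.mk 𝒮 hg n b hb'))
    (res (Twist.twist 𝒮 ((n : ℕ) : ℤ)) (le_top : Proj.basicOpen 𝒮 g ≤ ⊤)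
      (Twist.globalOf 𝒮 ⟨g ^ n, hgn⟩)) x
  refine Eq.trans ?_ h.symm
  have hx : g ∉ x.1.asHomogeneousIdeal := (Proj.mem_basicOpen 𝒮 g x.1).1 x.2
  have h1 : (1 : S) ∉ x.1.asHomogeneousIdeal := TwistTens.one_not_mem 𝒮 x.1
  change (Localization.mk b ⟨1, h1⟩ : Twist.Loc 𝒮 x.1) =
    (HomogeneousLocalization.mapId 𝒮 (Submonoid.powers_le.mpr hx) (Away.mk 𝒮 hg n b hb')).val *
      (Localization.mk (g ^ n) ⟨1, h1⟩ : Twist.Loc 𝒮 x.1)
  have hxn : g ^ n ∉ x.1.asHomogeneousIdeal := fun h' =>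
    hx (x.1.isPrime.mem_of_pow_mem n h')
  have h2 : (HomogeneousLocalization.mapId 𝒮 (Submonoid.powers_le.mpr hx)
      (Away.mk 𝒮 hg n b hb')).val =
      (Localization.mk b ⟨g ^ n, hxn⟩ : Twist.Loc 𝒮 x.1) := rfl
  rw [h2, Localization.mk_mul, Localization.mk_eq_mk_iff, Localization.r_iff_exists]
  exact ⟨1, by simp only [OneMemClass.coe_one, Submonoid.coe_mul, one_mul, mul_one]; ring⟩

section Main

variable {R A : Type u} [CommRing R] [CommRing A] [Algebra R A] (𝒜 : ℕ → Submodule R A)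
  [GradedAlgebra 𝒜]

/-- structure morphism of `Proj 𝒜` over `Spec R` -/
noncomputable def q : Proj 𝒜 ⟶ Spec (CommRingCat.of R) :=
  Proj.toSpecZero 𝒜 ≫ Spec.map (CommRingCat.ofHom (algebraMap R (𝒜 0)))

theorem q_appLE {g : A} {m : ℕ} (hg : g ∈ 𝒜 m) (hm : 0 < m)
    (h : Proj.basicOpen 𝒜 g ≤ (q 𝒜) ⁻¹ᵁ ⊤) (y : Γ(Spec (CommRingCat.of R), ⊤)) :
    ((q 𝒜).appLE ⊤ (Proj.basicOpen 𝒜 g) h).hom y =
      (Proj.awayToSection 𝒜 g).hom (fromZeroRingHom 𝒜 _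
        (algebraMap R (𝒜 0) ((Scheme.ΓSpecIso (CommRingCat.of R)).hom.hom y))) := by
  have h1 := ProjGlobal.psi_res 𝒜 g hg hm
    (algebraMap R (𝒜 0) ((Scheme.ΓSpecIso (CommRingCat.of R)).hom.hom y))
  rw [← h1]
  have h2 : (q 𝒜).appLE ⊤ (Proj.basicOpen 𝒜 g) h =
      (q 𝒜).appTop ≫ (Proj 𝒜).presheaf.map (homOfLE (le_top : Proj.basicOpen 𝒜 g ≤ ⊤)).op := by
    rw [Scheme.Hom.appLE]
    rfl
  rw [h2]
  have h3 : (q 𝒜).appTop = (Scheme.ΓSpecIso (CommRingCat.of R)).hom ≫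
      CommRingCat.ofHom (algebraMap R (𝒜 0)) ≫ (Scheme.ΓSpecIso (CommRingCat.of (𝒜 0))).inv ≫
        (Proj.toSpecZero 𝒜).appTop := by
    rw [q, Scheme.Hom.comp_appTop, ← Category.assoc, ← Category.assoc]
    congr 1
    rw [← Scheme.ΓSpecIso_naturality, Category.assoc, Iso.hom_inv_id, Category.comp_id]
  rw [h3]
  rfl

theorem isRelVeryAmplePn_twist (d : ℕ)
    (hgen : Algebra.adjoin R (⋃ i ∈ Finset.Icc 1 d, (𝒜 i : Set A)) = ⊤)
    (hcov : (⨆ g : 𝒜 1, Proj.basicOpen 𝒜 (g : A)) = ⊤) [Algebra.FiniteType R A] (n : ℕ)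
    (hn : d ≤ n) (hn1 : 0 < n) :
    RelAmple.IsRelVeryAmplePn (q 𝒜) (Twist.twist 𝒜 (n : ℤ)) := by
  classical
  haveI : IsScalarTower R (𝒜 0) A := ⟨fun r x a => by
    change ((r • x : 𝒜 0) : A) * a = r • ((x : A) * a)
    rw [Submodule.coe_smul, smul_mul_assoc]⟩
  haveI : Algebra.FiniteType (𝒜 0) A :=
    Algebra.FiniteType.of_restrictScalars_finiteType R (𝒜 0) A
  haveI : CompactSpace (Proj 𝒜) := by
    have : QuasiCompact (Proj.toSpecZero 𝒜) := inferInstance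
    exact (HasAffineProperty.iff_of_isAffine (P := @QuasiCompact)).1 this
  -- covering
  have hcov' : ∀ x : Proj 𝒜, ∃ g : 𝒜 1, x ∈ Proj.basicOpen 𝒜 (g : A) := by
    intro x
    have : x ∈ (⨆ g : 𝒜 1, Proj.basicOpen 𝒜 (g : A)) := hcov ▸ trivial
    simpa [Opens.mem_iSup] using this
  -- finite subcover
  obtain ⟨F, hF⟩ := isCompact_univ.elim_finite_subcover
    (fun g : 𝒜 1 => (Proj.basicOpen 𝒜 (g : A) : Set (Proj 𝒜)))
    (fun g => (Proj.basicOpen 𝒜 (g : A)).2)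
    (by intro x _; obtain ⟨g, hg⟩ := hcov' x; exact Set.mem_iUnion.2 ⟨g, hg⟩)
  -- finite generating set
  obtain ⟨t, ht, htgen⟩ := ProjVA1.exists_finset_adjoin_eq_top hgen
  have hte : ∀ b : t, ∃ e, 1 ≤ e ∧ e ≤ d ∧ (b : A) ∈ 𝒜 e := by
    intro b
    have := ht b.2
    simp only [Set.mem_iUnion, Finset.mem_Icc] at this
    obtain ⟨e, ⟨h1, h2⟩, h3⟩ := this
    exact ⟨e, h1, h2, h3⟩
  choose e he1 hed hbe using hte
  have hunit : ∀ x : ProjectiveSpectrum 𝒜, ∃ g' : 𝒜 n, (g' : A) ∉ x.asHomogeneousIdeal := by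
    intro x
    obtain ⟨g, hg⟩ := hcov' x
    have hgx : (g : A) ∉ x.asHomogeneousIdeal := (Proj.mem_basicOpen 𝒜 _ x).1 hg
    refine ⟨⟨(g : A) ^ n, ?_⟩, fun h' => hgx (x.isPrime.mem_of_pow_mem n h')⟩
    simpa using SetLike.pow_mem_graded n g.2
  have hG := (TwistAmple.isAmple_twist 𝒜 hn1 hunit).1
  -- sections
  have hpow : ∀ g : 𝒜 1, (g : A) ^ n ∈ 𝒜 n := fun g => by
    simpa using SetLike.pow_mem_graded n g.2
  have hsec : ∀ (g : 𝒜 1) (b : t), (b : A) * (g : A) ^ (n - e b) ∈ 𝒜 n := by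
    intro g b
    have h1 := SetLike.GradedMul.mul_mem (hbe b) (SetLike.pow_mem_graded (n - e b) g.2)
    have h2 : e b + (n - e b) • 1 = n := by
      have := hed b
      simp only [smul_eq_mul, mul_one]; omega
    rwa [h2] at h1
  let σ : F × Option t → Γ(Twist.twist 𝒜 (n : ℤ), ⊤) := fun p =>
    match p.2 with
    | none => Twist.globalOf 𝒜 ⟨(p.1.1 : A) ^ n, hpow p.1.1⟩
    | some b => Twist.globalOf 𝒜 ⟨(b : A) * (p.1.1 : A) ^ (n - e b), hsec p.1.1 b⟩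
  have hloc : ∀ a : F, CohB1.genLocus (Twist.twist 𝒜 (n : ℤ))
      (TwistAmple.homOfSec (Twist.twist 𝒜 (n : ℤ)) (σ (a, none))) =
      Proj.basicOpen 𝒜 (a.1 : A) := by
    intro a
    change CohB1.genLocus (Twist.twist 𝒜 (n : ℤ)) (TwistAmple.homOfSec (Twist.twist 𝒜 (n : ℤ))
      (Twist.globalOf 𝒜 ⟨(a.1 : A) ^ n, hpow a.1⟩)) = _
    rw [TwistAmple.genLocus_globalOf 𝒜 _ hunit]
    exact Proj.basicOpen_pow 𝒜 _ n hn1
  apply VA3.isRelVeryAmplePn_of_charts' (q 𝒜) hG σ (fun a : F => (a, none)) (fun _ => ⊤)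
    (fun _ => isAffineOpen_top _)
  · intro a
    rw [hloc]
    exact Proj.isAffineOpen_basicOpen 𝒜 _ a.1.2 one_pos
  · intro a
    exact le_top
  · intro x
    have hx := hF (Set.mem_univ x)
    simp only [Set.mem_iUnion] at hx
    obtain ⟨g, hgF, hxg⟩ := hx
    refine ⟨⟨g, hgF⟩, ?_⟩
    rw [hloc]
    exact hxg
  · intro a U hU hUS T hT1 hT2
    rw [hloc a] at hU
    subst hU
    have hg : (a.1 : A) ∈ 𝒜 1 := a.1.2
    let T' : Subring (Away 𝒜 (a.1 : A)) := T.comap (Proj.awayToSection 𝒜 (a.1 : A)).hom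
    have hT' : T' = ⊤ := by
      apply ProjVA1.away_subring_eq_top 𝒜 n (t : Set A) htgen hg T'
      · intro r
        change (Proj.awayToSection 𝒜 (a.1 : A)).hom _ ∈ T
        have h1 := hT1 ((Scheme.ΓSpecIso (CommRingCat.of R)).inv.hom r)
        rw [q_appLE 𝒜 hg one_pos] at h1
        have h2 : (Scheme.ΓSpecIso (CommRingCat.of R)).hom.hom
            ((Scheme.ΓSpecIso (CommRingCat.of R)).inv.hom r) = r := by
          rw [← CommRingCat.comp_apply, Iso.inv_hom_id]; rfl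
        rwa [h2] at h1
      · intro b hb
        have hb' : (b * (a.1 : A) ^ (n - e ⟨b, hb⟩)) ∈ 𝒜 (n • 1) := by
          simpa using hsec a.1 ⟨b, hb⟩
        refine ⟨e ⟨b, hb⟩, (hed ⟨b, hb⟩).trans hn, hbe ⟨b, hb⟩, hb', ?_⟩
        change (Proj.awayToSection 𝒜 (a.1 : A)).hom _ ∈ T
        apply hT2 (a, some ⟨b, hb⟩)
        exact (res_globalOf_eq_smul_pow 𝒜 n hg (hsec a.1 ⟨b, hb⟩) hb' (hpow a.1)).symm
    rw [eq_top_iff]
    intro x _
    obtain ⟨y, rfl⟩ := ProjGlobal.awayToSection_surjective 𝒜 (a.1 : A) hg one_pos x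
    have : y ∈ T' := hT' ▸ Subring.mem_top y
    exact this

end Main

end Groth.Agent.Helper1.ProjVA2
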