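import Mathlib
import Groth.Agent.Lib.Helper1.VA3

set_option autoImplicit false
universe u

open CategoryTheory CategoryTheory.Limits AlgebraicGeometry TopologicalSpace Opposite

namespace Groth.Agent.Helper1.VA4

open Groth.Agent.Helper1.QcCech Groth.Agent.Helper1.SubSh Groth.Agent.Helper1.LGen
open Groth.Agent.Helper1 Groth.Agent.Helper1.AmpleLib Groth.Agent.Helper1.TwForm
open Groth.Agent.Helper1.VA1 Groth.Agent.Helper1.VA2 Groth.Agent.Helper1.VA3

variable {X S : Scheme.{u}}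

theorem isRelVeryAmplePn_of_iso (q : X ⟶ S) {G G' : X.Modules} (e : G ≅ G')
    (h : RelAmple.IsRelVeryAmplePn q G) : RelAmple.IsRelVeryAmplePn q G' := by
  obtain ⟨n, i, hi, hiq, ⟨τ⟩⟩ := h
  exact ⟨n, i, hi, hiq, ⟨e.symm ≪≫ τ⟩⟩

/-- `L^n ⊗ O ≅ L^n` -/
noncomputable def tensorPowUnitIso {L : X.Modules} (hL : PicF.IsInvertible L) (n : ℕ) :
    CohB1.tensorMod (CohB1.tensorPow L n) (Coh.structureModule X) ≅ CohB1.tensorPow L n :=
  Tw.iso (((Tw.fst L L).pow n).tensorR (Tw.self L L (Coh.structureModule X)))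
    (((Tw.fst L L).pow n).cast (by ring) (by ring)) (locFrame_of_isInvertible hL hL)

/-- ample ⟹ large powers are very ample -/
theorem exists_veryAmple_powers' (q : X ⟶ S) [LocallyOfFiniteType q] {L : X.Modules}
    (hL : CohB1.IsAmple L) :
    ∃ n₀ : ℕ, ∀ n : ℕ, n₀ ≤ n → RelAmple.IsRelVeryAmplePn q (CohB1.tensorPow L n) := by
  obtain ⟨n₀, hn₀⟩ := exists_veryAmple_powers q hL (GenLoc.isInvertible_O (X := X))
  exact ⟨n₀, fun n hn => isRelVeryAmplePn_of_iso q (tensorPowUnitIso hL.1 n) (hn₀ n hn)⟩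

end Groth.Agent.Helper1.VA4
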