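import Mathlib
import Groth.Agent.Lib.Helper1.VA4
import Groth.Agent.Lib.Helper1.PullQA
import Groth.Agent.Lib.Helper1.PullRel

set_option autoImplicit false
universe u

open CategoryTheory CategoryTheory.Limits AlgebraicGeometry TopologicalSpace Opposite

namespace Groth.Agent.Helper1.VA5

open Groth.Agent.Helper1.QcCech Groth.Agent.Helper1.SubSh Groth.Agent.Helper1.LGen
open Groth.Agent.Helper1 Groth.Agent.Helper1.AmpleLib Groth.Agent.Helper1.TwForm
open Groth.Agent.Helper1.VA1 Groth.Agent.Helper1.VA2 Groth.Agent.Helper1.VA3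

section ProjSpace

variable (n : ℕ) (R : Type u) [CommRing R]

instance compactSpace_projSpace : CompactSpace (CohB1.ProjSpace n R) := by
  classical
  apply TwistAmple.compactSpace_of_finite_cover (𝒜 := CohB1.polyGrading n R)
    (Finset.univ.image (MvPolynomial.X : Fin (n + 1) → MvPolynomial (Fin (n + 1)) R))
  · intro f hf
    obtain ⟨i, -, rfl⟩ := Finset.mem_image.1 hf
    exact ⟨1, one_pos, MvPolynomial.isHomogeneous_X R i⟩
  · intro x
    obtain ⟨i, hi⟩ := ProjSpaceLib.exists_X_notMem n R x
    exact ⟨_, Finset.mem_image.2 ⟨i, Finset.mem_univ i, rfl⟩, hi⟩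

/-- `O(1)` is ample on projective space over a ring -/
theorem isAmple_twistProjSpace : CohB1.IsAmple (Twist.twistProjSpace n R 1) := by
  have hc : CompactSpace (Proj (CohB1.polyGrading n R)) := compactSpace_projSpace n R
  have := TwistAmple.isAmple_twist (𝒜 := CohB1.polyGrading n R) (m := 1) one_pos (fun x => by
    obtain ⟨i, hi⟩ := ProjSpaceLib.exists_X_notMem n R x
    exact ⟨⟨MvPolynomial.X i, MvPolynomial.isHomogeneous_X R i⟩, hi⟩)
  exact this

end ProjSpace

theorem isQuasiAffine_of_isAffineHom {Z T : Scheme.{u}} (u : Z ⟶ T) [IsAffineHom u] :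
    Mor2.IsQuasiAffine u := by
  refine ⟨inferInstance, fun V hV => ?_⟩
  have h1 : IsAffineOpen (u ⁻¹ᵁ V) := hV.preimage u
  have : IsAffine (↑(u ⁻¹ᵁ V) : Scheme.{u}) := h1
  infer_instance

section Over

variable (n : ℕ) (V : Scheme.{u})

theorem isAffineHom_chart (W : V.Opens) (hW : IsAffineOpen W) :
    IsAffineHom ((pullback.snd (CohB1.ProjSpace.toSpec n (ULift.{u} ℤ))
      (specULiftZIsTerminal.from V) ⁻¹ᵁ W).ι ≫
        pullback.fst (CohB1.ProjSpace.toSpec n (ULift.{u} ℤ)) (specULiftZIsTerminal.from V)) := by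
  apply isAffineHom_of_forall_exists_isAffineOpen
  intro x
  obtain ⟨k, hk⟩ := ProjUP8.hcov n (ULift.{u} ℤ) x
  have hD : IsAffineOpen (ProjUP7.D (CohB1.polyGrading n (ULift.{u} ℤ)) (ProjUP8.tX n _) k) :=
    Proj.isAffineOpen_basicOpen _ _ (ProjUP8.htX n _ k) one_pos
  refine ⟨_, hk, hD, ?_⟩
  have h1 := isAffineOpen_chart (CohB1.ProjSpace.toSpec n (ULift.{u} ℤ))
    (specULiftZIsTerminal.from V) _ hD W hW
  apply (Scheme.Hom.isAffineOpen_iff_of_isOpenImmersion
    (pullback.snd (CohB1.ProjSpace.toSpec n (ULift.{u} ℤ))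
      (specULiftZIsTerminal.from V) ⁻¹ᵁ W).ι).1
  rw [Scheme.Hom.comp_preimage, Scheme.Hom.image_preimage_eq_opensRange_inf,
    Scheme.Opens.opensRange_ι, inf_comm]
  exact h1

instance quasiCompact_toSpec (R : Type u) [CommRing R] :
    QuasiCompact (CohB1.ProjSpace.toSpec n R) := by
  have : CompactSpace (CohB1.ProjSpace n R) := compactSpace_projSpace n R
  infer_instance

theorem finiteType_polyGrading (R : Type u) [CommRing R] :
    Algebra.FiniteType (CohB1.polyGrading n R 0) (MvPolynomial (Fin (n + 1)) R) := by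
  have : Algebra.FiniteType R (MvPolynomial (Fin (n + 1)) R) := inferInstance
  have : IsScalarTower R (CohB1.polyGrading n R 0) (MvPolynomial (Fin (n + 1)) R) :=
    IsScalarTower.of_algebraMap_eq (R := R) (S := CohB1.polyGrading n R 0)
      (A := MvPolynomial (Fin (n + 1)) R) (fun r => rfl)
  exact Algebra.FiniteType.of_restrictScalars_finiteType R (CohB1.polyGrading n R 0) _

instance locallyOfFiniteType_toSpec (R : Type u) [CommRing R] :
    LocallyOfFiniteType (CohB1.ProjSpace.toSpec n R) := by
  have := finiteType_polyGrading n R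
  unfold CohB1.ProjSpace.toSpec
  have h1 : LocallyOfFiniteType (Proj.toSpecZero (CohB1.polyGrading n R)) := inferInstance
  have hiso : IsIso (CommRingCat.ofHom (algebraMap R (CohB1.polyGrading n R 0))) := by
    rw [ConcreteCategory.isIso_iff_bijective]
    exact ProjSpaceLib.algebraMap_bijective n R
  have h2' : IsIso (Spec.map (CommRingCat.ofHom (algebraMap R (CohB1.polyGrading n R 0)))) :=
    inferInstance
  have h2 : LocallyOfFiniteType
      (Spec.map (CommRingCat.ofHom (algebraMap R (CohB1.polyGrading n R 0)))) :=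
    inferInstance
  exact MorphismProperty.comp_mem _ _ _ h1 h2

instance isProper_toSpec (R : Type u) [CommRing R] :
    IsProper (CohB1.ProjSpace.toSpec n R) := by
  have := finiteType_polyGrading n R
  unfold CohB1.ProjSpace.toSpec
  have h1 : IsProper (Proj.toSpecZero (CohB1.polyGrading n R)) := inferInstance
  have hiso : IsIso (CommRingCat.ofHom (algebraMap R (CohB1.polyGrading n R 0))) := by
    rw [ConcreteCategory.isIso_iff_bijective]
    exact ProjSpaceLib.algebraMap_bijective n R
  have h2' : IsIso (Spec.map (CommRingCat.ofHom (algebraMap R (CohB1.polyGrading n R 0)))) :=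
    inferInstance
  have h2 : IsProper
      (Spec.map (CommRingCat.ofHom (algebraMap R (CohB1.polyGrading n R 0)))) :=
    inferInstance
  exact MorphismProperty.comp_mem _ _ _ h1 h2

instance isSeparated_toSpec (R : Type u) [CommRing R] :
    IsSeparated (CohB1.ProjSpace.toSpec n R) := by
  unfold CohB1.ProjSpace.toSpec
  have hiso : IsIso (CommRingCat.ofHom (algebraMap R (CohB1.polyGrading n R 0))) := by
    rw [ConcreteCategory.isIso_iff_bijective]
    exact ProjSpaceLib.algebraMap_bijective n R
  have h2 : IsIso (Spec.map (CommRingCat.ofHom (algebraMap R (CohB1.polyGrading n R 0)))) :=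
    inferInstance
  have h3 : IsSeparated (Spec.map (CommRingCat.ofHom (algebraMap R (CohB1.polyGrading n R 0)))) :=
    inferInstance
  have h4 : IsSeparated (Proj.toSpecZero (CohB1.polyGrading n R)) := inferInstance
  exact IsSeparated.stableUnderComposition.comp_mem _ _ h4 h3

/-- `O(1)` is relatively ample on projective space over any base -/
theorem isRelAmple_twistOver :
    RelAmple.IsRelAmple (pullback.snd (CohB1.ProjSpace.toSpec n (ULift.{u} ℤ))
      (specULiftZIsTerminal.from V)) (Twist.twistOver n V 1) := by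
  refine ⟨inferInstance, fun W => ?_⟩
  have := isAffineHom_chart n V W.1 W.2
  have h1 := PullAmple.isAmple_pullback_of_isQuasiAffine
    ((pullback.snd (CohB1.ProjSpace.toSpec n (ULift.{u} ℤ))
      (specULiftZIsTerminal.from V) ⁻¹ᵁ W.1).ι ≫
        pullback.fst (CohB1.ProjSpace.toSpec n (ULift.{u} ℤ)) (specULiftZIsTerminal.from V))
    (isQuasiAffine_of_isAffineHom _)
    (isAmple_twistProjSpace n (ULift.{u} ℤ))
  refine TwistAmpleOpen.isAmple_of_iso ?_ h1
  exact ((Scheme.Modules.pullbackComp _ _).app _).symm ≪≫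
    ((Scheme.Modules.restrictFunctorIsoPullback _).app _).symm

end Over

/-- **very ample ⟹ relatively ample** -/
theorem isRelAmple_of_isRelVeryAmplePn {X V : Scheme.{u}} (g : X ⟶ V) [QuasiCompact g]
    {M : X.Modules} (h : RelAmple.IsRelVeryAmplePn g M) : RelAmple.IsRelAmple g M := by
  obtain ⟨n, i, hi, hig, ⟨τ⟩⟩ := h
  have hsep0 : IsSeparated (CohB1.ProjSpace.toSpec n (ULift.{u} ℤ)) := isSeparated_toSpec n _
  have hqc0 : QuasiCompact (CohB1.ProjSpace.toSpec n (ULift.{u} ℤ)) := quasiCompact_toSpec n _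
  have hsep : IsSeparated (pullback.snd (CohB1.ProjSpace.toSpec n (ULift.{u} ℤ))
      (specULiftZIsTerminal.from V)) := inferInstance
  have hqs : QuasiSeparated (CohB1.ProjSpaceOver.toBase n V) := by
    have : QuasiSeparated (pullback.snd (CohB1.ProjSpace.toSpec n (ULift.{u} ℤ))
      (specULiftZIsTerminal.from V)) := inferInstance
    exact this
  have hqc : QuasiCompact (CohB1.ProjSpaceOver.toBase n V) := by
    have : QuasiCompact (pullback.snd (CohB1.ProjSpace.toSpec n (ULift.{u} ℤ))
      (specULiftZIsTerminal.from V)) := inferInstance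
    exact this
  have hig' : i ≫ CohB1.ProjSpaceOver.toBase n V = g := hig
  subst hig'
  have : QuasiCompact i := QuasiCompact.of_comp i (CohB1.ProjSpaceOver.toBase n V)
  have h1 := PullAmple.isRelAmple_pullback_of_isEmbedding i
    (CohB1.ProjSpaceOver.toBase n V) i.isEmbedding (isRelAmple_twistOver n V)
  refine ⟨h1.1, fun W => ?_⟩
  exact TwistAmpleOpen.isAmple_of_iso
    ((Scheme.Modules.restrictFunctor _).mapIso τ.symm) (h1.2 W)

/-- very ample over an affine base ⟹ ample -/
theorem isAmple_of_isRelVeryAmplePn {X V : Scheme.{u}} [IsAffine V] (g : X ⟶ V) [QuasiCompact g]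
    {M : X.Modules} (hM : PicF.IsInvertible M) (h : RelAmple.IsRelVeryAmplePn g M) :
    CohB1.IsAmple M := by
  have h1 := (isRelAmple_of_isRelVeryAmplePn g h).2 ⟨⊤, isAffineOpen_top V⟩
  exact isAmple_of_restrict_top hM _ (by simp) h1

end Groth.Agent.Helper1.VA5
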