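import Mathlib
import Groth.Prelude.Def_GrTwist
import Groth.Agent.Lib.Helper1.GrTwTens

set_option autoImplicit false
universe u

open CategoryTheory AlgebraicGeometry TopologicalSpace Opposite
open scoped HomogeneousIdeal

namespace Groth.Agent.Helper1.ILoc

variable {A σ : Type u} [CommRing A] [SetLike σ A] [AddSubgroupClass σ A] {𝒜 : ℕ → σ} [GradedRing 𝒜]
variable {B τ : Type u} [CommRing B] [SetLike τ B] [AddSubgroupClass τ B] {ℬ : ℕ → τ} [GradedRing ℬ]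
variable (ψ : 𝒜 →+*ᵍ ℬ) (hψ : ℬ₊ ≤ (𝒜₊).map ψ)

/-- `ψ` is the localization at the degree-zero element `c`, in elementary terms -/
structure IsAwayLoc (c : A) : Prop where
  deg0 : c ∈ 𝒜 0
  unit : IsUnit (ψ c)
  surj : ∀ b : B, ∃ (a : A) (k : ℕ), b * ψ c ^ k = ψ a
  ker : ∀ a : A, ψ a = 0 → ∃ k : ℕ, c ^ k * a = 0

variable {ψ} {c : A}

theorem IsAwayLoc.pow_mem (h : IsAwayLoc ψ c) (k : ℕ) : c ^ k ∈ 𝒜 0 := by
  have := SetLike.pow_mem_graded k h.deg0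
  simpa using this

theorem IsAwayLoc.notMem (h : IsAwayLoc ψ c) (y : ProjectiveSpectrum ℬ) (k : ℕ) :
    ψ c ^ k ∉ y.asHomogeneousIdeal := fun hm =>
  y.isPrime.ne_top (Ideal.eq_top_of_isUnit_mem _ hm (h.unit.pow k))

/-- homogeneous lifting -/
theorem IsAwayLoc.lift (h : IsAwayLoc ψ c) {i : ℕ} {b : B} (hb : b ∈ ℬ i) :
    ∃ (a : A) (k : ℕ), a ∈ 𝒜 i ∧ b * ψ c ^ k = ψ a := by
  classical
  obtain ⟨a₀, k, hk⟩ := h.surj b
  refine ⟨(DirectSum.decompose 𝒜 a₀ i : A), k, SetLike.coe_mem _, ?_⟩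
  have hmem : b * ψ c ^ k ∈ ℬ i := by
    have h0 : ψ c ^ k ∈ ℬ 0 := by
      rw [← map_pow]; exact ψ.map_mem (h.pow_mem k)
    simpa only [add_zero] using SetLike.mul_mem_graded (A := ℬ) hb h0
  rw [GradedRingHom.map_directSumDecompose, ← hk, DirectSum.decompose_of_mem_same _ hmem]

/-- the induced map of localizations is injective -/
theorem IsAwayLoc.locMap_injective (h : IsAwayLoc ψ c) (y : ProjectiveSpectrum ℬ) :
    Function.Injective (GrTwist.locMap ψ hψ y) := by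
  rw [injective_iff_map_eq_zero]
  intro q hq
  induction q using Localization.induction_on with
  | H as =>
    obtain ⟨a, s⟩ := as
    rw [GrTwist.locMap_mk, Localization.mk_eq_mk', IsLocalization.mk'_eq_zero_iff] at hq
    obtain ⟨⟨t, ht⟩, hta⟩ := hq
    change t * ψ a = 0 at hta
    obtain ⟨t₀, k, hk⟩ := h.surj t
    have h1 : ψ (t₀ * a) = 0 := by
      rw [map_mul, ← hk, mul_right_comm, hta, zero_mul]
    obtain ⟨m, hm⟩ := h.ker _ h1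
    rw [Localization.mk_eq_mk', IsLocalization.mk'_eq_zero_iff]
    refine ⟨⟨c ^ m * t₀, ?_⟩, by change c ^ m * t₀ * a = 0; rw [mul_assoc]; exact hm⟩
    intro hmem
    change ψ (c ^ m * t₀) ∈ y.asHomogeneousIdeal at hmem
    rw [map_mul, map_pow, ← hk] at hmem
    rcases y.isPrime.mem_or_mem hmem with h2 | h2
    · exact h.notMem y m h2
    · rcases y.isPrime.mem_or_mem h2 with h3 | h3
      · exact ht h3
      · exact h.notMem y k h3

/-- lifting a fraction of `ℬ` to a fraction of `𝒜` -/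
theorem IsAwayLoc.lift_frac (h : IsAwayLoc ψ c) (n : ℤ) {i j : ℕ} (a' : ℬ i) (s' : ℬ j)
    (hij : (i : ℤ) = j + n ∨ (a' : B) = 0) :
    ∃ (a : 𝒜 i) (s : 𝒜 j), ((i : ℤ) = j + n ∨ (a : A) = 0) ∧
      ∀ (y : ProjectiveSpectrum ℬ) (hs' : (s' : B) ∉ y.asHomogeneousIdeal),
        ∃ hs : (s : A) ∉ (ProjectiveSpectrum.comap ψ hψ y).asHomogeneousIdeal,
          GrTwist.locMap ψ hψ y (Localization.mk (a : A) ⟨s, hs⟩) =
            Localization.mk (a' : B) ⟨s', hs'⟩ := by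
  obtain ⟨a₀, k, ha₀, hk⟩ := h.lift a'.2
  obtain ⟨s₀, l, hs₀, hl⟩ := h.lift s'.2
  have hcl : c ^ l ∈ 𝒜 0 := h.pow_mem l
  have hck : c ^ k ∈ 𝒜 0 := h.pow_mem k
  have ha : a₀ * c ^ l ∈ 𝒜 i := by
    simpa only [add_zero] using SetLike.mul_mem_graded (A := 𝒜) ha₀ hcl
  have hs : s₀ * c ^ k ∈ 𝒜 j := by
    simpa only [add_zero] using SetLike.mul_mem_graded (A := 𝒜) hs₀ hck
  rcases hij with hij | hzero
  · refine ⟨⟨_, ha⟩, ⟨_, hs⟩, Or.inl hij, fun y hs' => ?_⟩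
    have hsy : ψ (s₀ * c ^ k) ∉ y.asHomogeneousIdeal := by
      rw [map_mul, ← hl, map_pow]
      intro hmem
      rcases y.isPrime.mem_or_mem hmem with h2 | h2
      · rcases y.isPrime.mem_or_mem h2 with h3 | h3
        · exact hs' h3
        · exact h.notMem y l h3
      · exact h.notMem y k h2
    refine ⟨hsy, ?_⟩
    rw [GrTwist.locMap_mk, Localization.mk_eq_mk_iff, Localization.r_iff_exists]
    refine ⟨1, ?_⟩
    simp only [OneMemClass.coe_one, one_mul, map_mul, map_pow, ← hk, ← hl]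
    ring
  · refine ⟨⟨0, zero_mem _⟩, ⟨_, hs⟩, Or.inr rfl, fun y hs' => ?_⟩
    have hsy : ψ (s₀ * c ^ k) ∉ y.asHomogeneousIdeal := by
      rw [map_mul, ← hl, map_pow]
      intro hmem
      rcases y.isPrime.mem_or_mem hmem with h2 | h2
      · rcases y.isPrime.mem_or_mem h2 with h3 | h3
        · exact hs' h3
        · exact h.notMem y l h3
      · exact h.notMem y k h2
    refine ⟨hsy, ?_⟩
    rw [GrTwist.locMap_mk, hzero]
    simp only [map_zero, Localization.mk_zero]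

theorem IsAwayLoc.comapApp_injective (h : IsAwayLoc ψ c) (n : ℤ)
    (U : Opens (ProjectiveSpectrum.top 𝒜)) (V : Opens (ProjectiveSpectrum.top ℬ))
    (hUV : V.1 ⊆ ProjectiveSpectrum.comap ψ hψ ⁻¹' U.1)
    (hVU : ∀ x ∈ U, ∃ y ∈ V, ProjectiveSpectrum.comap ψ hψ y = x) :
    Function.Injective (GrTwist.comapApp ψ hψ n U V hUV) := by
  intro s t hst
  apply Subtype.ext
  funext x
  apply Subtype.ext
  obtain ⟨y, hyV, hyx⟩ := hVU x.1 x.2
  obtain rfl : x = ⟨ProjectiveSpectrum.comap ψ hψ y, hUV hyV⟩ := Subtype.ext hyx.symm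
  apply h.locMap_injective hψ y
  have := congrArg (fun u : GrTwist.sectN (𝒜 := ℬ) n (op V) =>
    ((u.1 ⟨y, hyV⟩ : GrTwist.twistAt ℬ n y) : GrTwist.Loc ℬ y)) hst
  exact this

theorem mk_mem_twistAt (n : ℤ) (x : ProjectiveSpectrum 𝒜) {i j : ℕ} (a : 𝒜 i) (s : 𝒜 j)
    (hs : (s : A) ∉ x.asHomogeneousIdeal) (hij : (i : ℤ) = j + n ∨ (a : A) = 0) :
    (Localization.mk (a : A) ⟨s, hs⟩ : GrTwist.Loc 𝒜 x) ∈ GrTwist.twistAt 𝒜 n x := by
  rcases hij with hij | h0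
  · exact Submodule.subset_span ⟨i, j, a, s, hs, hij, rfl⟩
  · rw [h0, Localization.mk_zero]
    exact zero_mem _

theorem IsAwayLoc.comapApp_surjective (h : IsAwayLoc ψ c) (n : ℤ)
    (hinj : Function.Injective (ProjectiveSpectrum.comap ψ hψ))
    (hopen : IsOpenMap (ProjectiveSpectrum.comap ψ hψ))
    (U : Opens (ProjectiveSpectrum.top 𝒜)) (V : Opens (ProjectiveSpectrum.top ℬ))
    (hUV : V.1 ⊆ ProjectiveSpectrum.comap ψ hψ ⁻¹' U.1)
    (hVU : ∀ x ∈ U, ∃ y ∈ V, ProjectiveSpectrum.comap ψ hψ y = x) :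
    Function.Surjective (GrTwist.comapApp ψ hψ n U V hUV) := by
  intro t'
  have hpt : ∀ x : U, ∃ (i j : ℕ) (a : 𝒜 i) (s : 𝒜 j) (hs : (s : A) ∉ x.1.asHomogeneousIdeal),
      ((i : ℤ) = j + n ∨ (a : A) = 0) ∧
      ∀ (y : V) (_ : ProjectiveSpectrum.comap ψ hψ y.1 = x.1),
        ∃ hs₂ : (s : A) ∉ (ProjectiveSpectrum.comap ψ hψ y.1).asHomogeneousIdeal,
          GrTwist.locMap ψ hψ y.1 (Localization.mk (a : A) ⟨s, hs₂⟩) =
            ((t'.1 y : GrTwist.twistAt ℬ n y.1) : GrTwist.Loc ℬ y.1) := by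
    rintro ⟨x, hx⟩
    obtain ⟨y, hyV, rfl⟩ := hVU x hx
    obtain ⟨i, j, a', s', hs', hij, hval⟩ := GrTwTens.sec_val_eq ℬ t' ⟨y, hyV⟩
    obtain ⟨a, s, hij', spec⟩ := h.lift_frac hψ n a' s' hij
    obtain ⟨hs, e⟩ := spec y hs'
    refine ⟨i, j, a, s, hs, hij', ?_⟩
    rintro ⟨y₂, hy₂V⟩ hy₂
    obtain rfl : y₂ = y := hinj hy₂
    exact ⟨hs, e.trans hval.symm⟩
  choose i j a s hs hij spec using hpt
  have hlf : (GrTwist.isLocFracN 𝒜 n).pred (fun x : U =>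
      (⟨Localization.mk (a x : A) ⟨s x, hs x⟩, mk_mem_twistAt n x.1 (a x) (s x) (hs x) (hij x)⟩ :
        GrTwist.twistAt 𝒜 n x.1)) := by
    rintro ⟨x₀, hx₀⟩
    obtain ⟨y₀, hy₀V, rfl⟩ := hVU x₀ hx₀
    obtain ⟨N', hy₀N', iN', i', j', a', s', hs', hij', hval⟩ := t'.2 ⟨y₀, hy₀V⟩
    obtain ⟨a₁, s₁, hij₁, spec₁⟩ := h.lift_frac hψ n a' s' hij'
    let N : Opens (ProjectiveSpectrum.top 𝒜) :=
      ⟨ProjectiveSpectrum.comap ψ hψ '' N'.1, hopen _ N'.2⟩ ⊓ U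
    have hs₁ : ∀ x : N, (s₁ : A) ∉ x.1.asHomogeneousIdeal := by
      rintro ⟨x, ⟨z, hz, rfl⟩, hxU⟩
      exact (spec₁ z (hs' ⟨z, hz⟩)).1
    refine ⟨N, ⟨⟨y₀, hy₀N', rfl⟩, hx₀⟩, homOfLE inf_le_right, i', j', a₁, s₁, hs₁, hij₁, ?_⟩
    rintro ⟨x, ⟨z, hz, rfl⟩, hxU⟩
    apply h.locMap_injective hψ z
    obtain ⟨hs₂, e₂⟩ := spec ⟨_, hxU⟩ ⟨z, iN'.le hz⟩ rfl
    obtain ⟨hs₃, e₃⟩ := spec₁ z (hs' ⟨z, hz⟩)
    exact e₂.trans ((hval ⟨z, hz⟩).trans e₃.symm)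
  refine ⟨(⟨fun x : U =>
      (⟨Localization.mk (a x : A) ⟨s x, hs x⟩, mk_mem_twistAt n x.1 (a x) (s x) (hs x) (hij x)⟩ :
        GrTwist.twistAt 𝒜 n x.1), hlf⟩ : GrTwist.sectN (𝒜 := 𝒜) n (op U)), ?_⟩
  apply Subtype.ext
  funext y
  apply Subtype.ext
  obtain ⟨hs₂, e₂⟩ := spec ⟨_, hUV y.2⟩ y rfl
  exact e₂

theorem IsAwayLoc.comapApp_bijective (h : IsAwayLoc ψ c) (n : ℤ)
    (hinj : Function.Injective (ProjectiveSpectrum.comap ψ hψ))
    (hopen : IsOpenMap (ProjectiveSpectrum.comap ψ hψ))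
    (U : Opens (ProjectiveSpectrum.top 𝒜)) (V : Opens (ProjectiveSpectrum.top ℬ))
    (hUV : V.1 ⊆ ProjectiveSpectrum.comap ψ hψ ⁻¹' U.1)
    (hVU : ∀ x ∈ U, ∃ y ∈ V, ProjectiveSpectrum.comap ψ hψ y = x) :
    Function.Bijective (GrTwist.comapApp ψ hψ n U V hUV) :=
  ⟨h.comapApp_injective hψ n U V hUV hVU, h.comapApp_surjective hψ n hinj hopen U V hUV hVU⟩

end Groth.Agent.Helper1.ILoc
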