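import Mathlib
import Groth.Agent.Lib.Helper1.TwistSec
import Groth.Agent.Lib.Helper1.AmpleLib2

set_option autoImplicit false
universe u
open CategoryTheory CategoryTheory.Limits AlgebraicGeometry TopologicalSpace Opposite

namespace Groth.Agent.Helper1.LGenLoc
open Groth.Agent.Helper1.QcCech Groth.Agent.Helper1.LGen Groth.Agent.Helper1.TwistSec

variable {X : Scheme.{u}} {L : X.Modules}

theorem resR_eq_res {O O' : X.Opens} (h : O' ≤ O) (r : Γ(X, O)) :
    resR h r = res (Coh.structureModule X) h (show Γ(Coh.structureModule X, O) from r) := rfl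

theorem isGen_of_locally {W : X.Opens} (a : Γ(L, W))
    (h : ∀ x ∈ W, ∃ (W' : X.Opens) (hW' : W' ≤ W), x ∈ W' ∧ IsGen L W' (res L hW' a)) :
    IsGen L W a := by
  intro V hV
  constructor
  · intro r r' hrr
    have hrr' : r • res L hV a = r' • res L hV a := hrr
    change (show Γ(Coh.structureModule X, V) from r) = (show Γ(Coh.structureModule X, V) from r')
    apply eq_of_locally
    intro x hx
    obtain ⟨W', hW', hxW', hgen⟩ := h x (hV hx)
    refine ⟨V ⊓ W', inf_le_left, ⟨hx, hxW'⟩, ?_⟩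
    have := congrArg (res L (inf_le_left : V ⊓ W' ≤ V)) hrr'
    rw [res_smul, res_smul, res_res] at this
    have h2 := (hgen (V ⊓ W') inf_le_right).1
    apply h2
    simp only [res_res]
    exact this
  · intro t
    -- local coefficients
    have hloc : ∀ x : V, ∃ (W' : X.Opens) (hW' : W' ≤ W), x.1 ∈ W' ∧ IsGen L W' (res L hW' a) :=
      fun x => h x.1 (hV x.2)
    choose W' hW' hxW' hgen using hloc
    have hc : ∀ x : V, ∃ r : Γ(X, V ⊓ W' x),
        r • res L ((inf_le_left : V ⊓ W' x ≤ V).trans hV) a =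
          res L (inf_le_left : V ⊓ W' x ≤ V) t := by
      intro x
      obtain ⟨r, hr⟩ := (hgen x (V ⊓ W' x) inf_le_right).2 (res L inf_le_left t)
      refine ⟨r, ?_⟩
      simp only [res_res] at hr
      exact hr
    choose ρ hρ using hc
    obtain ⟨r, hr⟩ := glue_of_compatible (Coh.structureModule X) (fun x : V => V ⊓ W' x) V
      (fun _ => inf_le_left) (fun y hy => Opens.mem_iSup.2 ⟨⟨y, hy⟩, hy, hxW' ⟨y, hy⟩⟩)
      (fun x => (show Γ(Coh.structureModule X, V ⊓ W' x) from ρ x)) (by
        intro x y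
        change resR _ (ρ x) = resR _ (ρ y)
        have h2 := (hgen x ((V ⊓ W' x) ⊓ (V ⊓ W' y)) (inf_le_left.trans inf_le_right)).1
        apply h2
        simp only [res_res]
        have e1 := congrArg (res L (inf_le_left : (V ⊓ W' x) ⊓ (V ⊓ W' y) ≤ V ⊓ W' x)) (hρ x)
        have e2 := congrArg (res L (inf_le_right : (V ⊓ W' x) ⊓ (V ⊓ W' y) ≤ V ⊓ W' y)) (hρ y)
        rw [res_smul, res_res, res_res] at e1 e2
        exact e1.trans e2.symm)
    refine ⟨r, ?_⟩
    change (show Γ(X, V) from r) • res L hV a = t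
    apply eq_of_locally
    intro x hx
    refine ⟨V ⊓ W' ⟨x, hx⟩, inf_le_left, ⟨hx, hxW' ⟨x, hx⟩⟩, ?_⟩
    rw [res_smul, res_res, ← hρ ⟨x, hx⟩]
    congr 1
    exact hr ⟨x, hx⟩

end Groth.Agent.Helper1.LGenLoc
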