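import Mathlib
import Groth.Agent.Lib.Helper1.RP3

set_option autoImplicit false
universe u

open CategoryTheory CategoryTheory.Limits AlgebraicGeometry TopologicalSpace Opposite
open scoped HomogeneousIdeal

namespace Groth.Agent.Helper1.RP4

open Groth.Agent.Helper1.ProjBC Groth.Agent.Helper1.RP3

variable {Y P : Scheme.{u}} {𝒮 : RelProj.QCGrAlg Y} {p : P ⟶ Y}
  {chart : ∀ (U : Y.Opens) (hU : IsAffineOpen U), ((p ⁻¹ᵁ U : P.Opens) : Scheme.{u}) ≅ Proj (𝒮.deg U hU)}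

/-- restriction of `O_P(n)` along an open immersion factoring through a chart -/
theorem nonempty_restrict_iso_of_range_le {n : ℤ} {L : P.Modules}
    {lam : ∀ (U : Y.Opens) (hU : IsAffineOpen U),
      L ⟶ (Scheme.Modules.pushforward (RelProj.emb p chart U hU)).obj (GrTwist.twist (𝒮.deg U hU) n)}
    (hL : RelProj.IsRelTwist 𝒮 p chart n L lam) (V : Y.Opens) (hV : IsAffineOpen V)
    {Z : Scheme.{u}} (j : Z ⟶ P) [IsOpenImmersion j]
    (hj : j.opensRange ≤ (RelProj.emb p chart V hV).opensRange) :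
    ∃ (j' : Z ⟶ Proj (𝒮.deg V hV)) (_ : IsOpenImmersion j'), j' ≫ RelProj.emb p chart V hV = j ∧
      Nonempty (L.restrict j ≅ (GrTwist.twist (𝒮.deg V hV) n).restrict j') := by
  have hr : Set.range j ⊆ Set.range (RelProj.emb p chart V hV) := hj
  let j' : Z ⟶ Proj (𝒮.deg V hV) := IsOpenImmersion.lift (RelProj.emb p chart V hV) j hr
  have hfac : j' ≫ RelProj.emb p chart V hV = j := IsOpenImmersion.lift_fac _ _ hr
  have hoi : IsOpenImmersion j' := by
    have : IsOpenImmersion (j' ≫ RelProj.emb p chart V hV) := by rw [hfac]; infer_instance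
    exact IsOpenImmersion.of_comp j' (RelProj.emb p chart V hV)
  refine ⟨j', hoi, hfac, ?_⟩
  obtain ⟨e⟩ := nonempty_restrict_emb_iso hL V hV
  exact ⟨(Scheme.Modules.restrictFunctorCongr hfac.symm).app L ≪≫
    (Scheme.Modules.restrictFunctorComp j' (RelProj.emb p chart V hV)).app L ≪≫
    (Scheme.Modules.restrictFunctor j').mapIso e⟩

/-- `O_P(k d)` is trivial on opens inside a chart basic open of degree `d` -/
theorem nonempty_restrict_iso_of_le_basicOpen {k : ℤ} {d : ℕ} {L : P.Modules}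
    {lam : ∀ (U : Y.Opens) (hU : IsAffineOpen U),
      L ⟶ (Scheme.Modules.pushforward (RelProj.emb p chart U hU)).obj
        (GrTwist.twist (𝒮.deg U hU) (k * d))}
    (hL : RelProj.IsRelTwist 𝒮 p chart (k * d) L lam) (V : Y.Opens) (hV : IsAffineOpen V)
    {f : 𝒮.presheaf.obj (op V)} (hf : f ∈ 𝒮.deg V hV d)
    {Z : Scheme.{u}} (j : Z ⟶ P) [IsOpenImmersion j]
    (hj : j.opensRange ≤ RelProj.emb p chart V hV ''ᵁ Proj.basicOpen (𝒮.deg V hV) f) :
    Nonempty (L.restrict j ≅ Coh.structureModule Z) := by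
  obtain ⟨j', hoi, hfac, ⟨e⟩⟩ := nonempty_restrict_iso_of_range_le hL V hV j
    (hj.trans ((RelProj.emb p chart V hV).image_le_opensRange _))
  have hj' : j'.opensRange ≤ Proj.basicOpen (𝒮.deg V hV) f := by
    rintro _ ⟨z, rfl⟩
    have hz : j.base z ∈ RelProj.emb p chart V hV ''ᵁ Proj.basicOpen (𝒮.deg V hV) f :=
      hj ⟨z, rfl⟩
    obtain ⟨w, hw, hwz⟩ := hz
    have : (RelProj.emb p chart V hV).base (j'.base z) = j.base z := by
      rw [← hfac]; rfl
    rw [← this] at hwz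
    have := (RelProj.emb p chart V hV).isOpenEmbedding.injective hwz
    rw [← this]
    exact hw
  obtain ⟨e'⟩ := GrTwTriv.nonempty_twist_restrict_iso_of_le (𝒮.deg V hV) hf k j' hj'
  exact ⟨e ≪≫ e'⟩

/-- every point of a relative `Proj` lies in a chart basic open of positive degree -/
theorem exists_chart_basicOpen (y : P) :
    ∃ (V : Y.Opens) (hV : IsAffineOpen V) (e : ℕ) (f : 𝒮.presheaf.obj (op V)),
      0 < e ∧ f ∈ 𝒮.deg V hV e ∧
        y ∈ RelProj.emb p chart V hV ''ᵁ Proj.basicOpen (𝒮.deg V hV) f := by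
  obtain ⟨_, ⟨V, hV : IsAffineOpen V, rfl⟩, hyV, -⟩ :=
    (Y.isBasis_affineOpens).exists_subset_of_mem_open (Set.mem_univ (p.base y)) isOpen_univ
  have hy : y ∈ (RelProj.emb p chart V hV).opensRange := by
    rw [opensRange_emb]; exact hyV
  obtain ⟨x, rfl⟩ := hy
  obtain ⟨e, he, f, hf, hfx⟩ := ProjTop.exists_homogeneous_notMem (𝒮.deg V hV) x
  exact ⟨V, hV, e, f, he, hf, ⟨x, (Proj.mem_basicOpen _ f x).2 hfx, rfl⟩⟩

/-- the period of a quasi-compact open of a relative `Proj` -/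
theorem exists_period (U : P.Opens) (hU : IsCompact (U : Set P)) :
    ∃ d : ℕ, 0 < d ∧ ∀ y ∈ U, ∃ (V : Y.Opens) (hV : IsAffineOpen V) (e : ℕ)
      (f : 𝒮.presheaf.obj (op V)), 0 < e ∧ e ∣ d ∧ f ∈ 𝒮.deg V hV e ∧
        y ∈ RelProj.emb p chart V hV ''ᵁ Proj.basicOpen (𝒮.deg V hV) f := by
  classical
  choose V hV e f he hf hy using exists_chart_basicOpen (𝒮 := 𝒮) (p := p) (chart := chart)
  obtain ⟨t, ht⟩ := hU.elim_finite_subcover
    (fun y => ((RelProj.emb p chart (V y) (hV y) ''ᵁ Proj.basicOpen (𝒮.deg (V y) (hV y)) (f y) :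
      P.Opens) : Set P))
    (fun y => (RelProj.emb p chart (V y) (hV y) ''ᵁ
      Proj.basicOpen (𝒮.deg (V y) (hV y)) (f y)).isOpen)
    (fun y _ => Set.mem_iUnion.2 ⟨y, hy y⟩)
  refine ⟨∏ y ∈ t, e y, Finset.prod_pos fun y _ => he y, fun y hyU => ?_⟩
  obtain ⟨z, hz⟩ := Set.mem_iUnion.1 (ht hyU)
  obtain ⟨hzt, hz⟩ := Set.mem_iUnion.1 hz
  exact ⟨V z, hV z, e z, f z, he z, Finset.dvd_prod_of_mem e hzt, hf z, hz⟩

/-- `O_P(n)` restricted to a quasi-compact open is invertible for `n` divisible by the period -/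
theorem exists_period_isInvertible (U : P.Opens) (hU : IsCompact (U : Set P)) :
    ∃ d : ℕ, 0 < d ∧ ∀ (n : ℤ), (d : ℤ) ∣ n →
      ∀ (L : P.Modules)
        (lam : ∀ (V : Y.Opens) (hV : IsAffineOpen V),
          L ⟶ (Scheme.Modules.pushforward (RelProj.emb p chart V hV)).obj
            (GrTwist.twist (𝒮.deg V hV) n)),
        RelProj.IsRelTwist 𝒮 p chart n L lam → PicF.IsInvertible (L.restrict U.ι) := by
  obtain ⟨d, hd, hper⟩ := exists_period (𝒮 := 𝒮) (p := p) (chart := chart) U hU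
  refine ⟨d, hd, fun n hn L lam hL => ?_⟩
  apply GrTwTriv.isInvertible_restrict
  intro y hyU
  obtain ⟨V, hV, e, f, he, hed, hf, hy⟩ := hper y hyU
  refine ⟨_, hy, ?_⟩
  intro Z j _ hj
  obtain ⟨k, rfl⟩ : ∃ k : ℤ, n = k * (e : ℤ) := by
    obtain ⟨c, rfl⟩ := hed
    obtain ⟨m, rfl⟩ := hn
    exact ⟨c * m, by push_cast; ring⟩
  exact nonempty_restrict_iso_of_le_basicOpen hL V hV hf j hj

end Groth.Agent.Helper1.RP4
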