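import Mathlib
import Groth.Agent.Lib.Helper1.RP4
import Groth.Agent.Lib.Helper1.RP2
import Groth.Agent.Lib.Helper1.GrTwAmple
import Groth.Agent.Lib.Helper1.AmpleTransport

set_option autoImplicit false
universe u

open CategoryTheory CategoryTheory.Limits AlgebraicGeometry TopologicalSpace Opposite
open scoped HomogeneousIdeal

namespace Groth.Agent.Helper1.RP5

open Groth.Agent.Helper1.ProjBC Groth.Agent.Helper1.RP3

section Alg
variable {A σ : Type u} [CommRing A] [SetLike σ A] [AddSubgroupClass σ A] (𝒜 : ℕ → σ) [GradedRing 𝒜]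

/-- finite type over degree zero: a uniform period -/
theorem exists_period_of_finiteType [Algebra.FiniteType (𝒜 0) A] :
    ∃ d : ℕ, 0 < d ∧ ∀ m : ℕ, d ∣ m → ∀ x : ProjectiveSpectrum 𝒜,
      ∃ g ∈ 𝒜 m, g ∉ x.asHomogeneousIdeal := by
  classical
  obtain ⟨s, hs, hdeg⟩ := GradedAlgebra.exists_finset_adjoin_eq_top_and_homogeneous_ne_zero 𝒜
  choose! n hn0 hn using hdeg
  refine ⟨∏ i ∈ s, n i, Finset.prod_pos fun i hi => Nat.pos_of_ne_zero (hn0 i hi), ?_⟩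
  intro m hm x
  have h0 : Algebra.adjoin (𝒜 0) (Set.range (fun a : s => (a : A))) = ⊤ := by
    have : Set.range (fun a : s => (a : A)) = (s : Set A) := by
      ext z; simp
    rw [this]; exact hs
  obtain ⟨i, hi⟩ := GrTwTens.exists_gen_not_mem 𝒜 (fun a : s => (a : A))
    (fun a => ⟨n a, hn a a.2⟩) h0 x
  have hdvd : n i ∣ m := (Finset.dvd_prod_of_mem n i.2).trans hm
  obtain ⟨c, rfl⟩ := hdvd
  refine ⟨(i : A) ^ c, ?_, fun h => hi (x.isPrime.mem_of_pow_mem _ h)⟩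
  have := SetLike.pow_mem_graded c (hn i i.2)
  rwa [smul_eq_mul, mul_comm] at this

theorem compactSpace_of_finiteType [Algebra.FiniteType (𝒜 0) A] : CompactSpace (Proj 𝒜) :=
  QuasiCompact.compactSpace_of_compactSpace (Proj.toSpecZero 𝒜)

end Alg

section Rel
variable {Y P : Scheme.{u}} {𝒮 : RelProj.QCGrAlg Y} {p : P ⟶ Y}
  {chart : ∀ (U : Y.Opens) (hU : IsAffineOpen U), ((p ⁻¹ᵁ U : P.Opens) : Scheme.{u}) ≅ Proj (𝒮.deg U hU)}

theorem finiteType_zero (U : Y.Opens) (hU : IsAffineOpen U)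
    (hft : (𝒮.str.app (op U)).hom.FiniteType) :
    Algebra.FiniteType (𝒮.deg U hU 0) (𝒮.presheaf.obj (op U)) := by
  letI : Algebra Γ(Y, U) (𝒮.presheaf.obj (op U)) := (𝒮.str.app (op U)).hom.toAlgebra
  letI : Algebra Γ(Y, U) (𝒮.deg U hU 0) := (𝒮.strZero U hU).hom.toAlgebra
  haveI : IsScalarTower Γ(Y, U) (𝒮.deg U hU 0) (𝒮.presheaf.obj (op U)) :=
    IsScalarTower.of_algebraMap_eq (fun _ => rfl)
  haveI : Algebra.FiniteType Γ(Y, U) (𝒮.presheaf.obj (op U)) := hft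
  exact Algebra.FiniteType.of_restrictScalars_finiteType Γ(Y, U) (𝒮.deg U hU 0) _

theorem map_res_emb' (hP : RelProj.IsRelProj 𝒮 p chart) {U' U : Y.AffineZariskiSite} (h : U' ≤ U) :
    Proj.map (𝒮.res U.2 U'.2 (Scheme.AffineZariskiSite.toOpens_mono h)) (RP2.hirr 𝒮 h) ≫
      RelProj.emb p chart U.1 U.2 = RelProj.emb p chart U'.1 U'.2 := by
  obtain ⟨U', hU'⟩ := U'
  obtain ⟨r, hr⟩ := h
  change Y.basicOpen r = U' at hr
  subst hr
  exact RelProj.map_res_emb hP U.1 U.2 r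

theorem exists_common_basicOpen {V V' : Y.Opens} (hV : IsAffineOpen V) (hV' : IsAffineOpen V')
    (z : Y) (hz : z ∈ V ⊓ V') :
    ∃ D : Y.AffineZariskiSite, D ≤ ⟨V, hV⟩ ∧ D ≤ ⟨V', hV'⟩ ∧ z ∈ D.1 := by
  obtain ⟨r, r', e, hzr⟩ := exists_basicOpen_le_affine_inter hV hV' z hz
  exact ⟨⟨Y.basicOpen r, hV.basicOpen r⟩, ⟨r, rfl⟩, ⟨r', e.symm⟩, hzr⟩

theorem exists_lift_notMem {U' U : Y.AffineZariskiSite} (h : U' ≤ U)
    (x' : ProjectiveSpectrum (𝒮.deg U'.1 U'.2)) {m : ℕ} {g' : 𝒮.presheaf.obj (op U'.1)}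
    (hg'm : g' ∈ 𝒮.deg U'.1 U'.2 m) (hg' : g' ∉ x'.asHomogeneousIdeal) :
    ∃ g ∈ 𝒮.deg U.1 U.2 m,
      𝒮.res U.2 U'.2 (Scheme.AffineZariskiSite.toOpens_mono h) g ∉ x'.asHomogeneousIdeal := by
  classical
  obtain ⟨U', hU'⟩ := U'
  obtain ⟨r, hr⟩ := h
  change Y.basicOpen r = U' at hr
  subst hr
  obtain ⟨U, hU⟩ := U
  let ψ := 𝒮.res hU (hU.basicOpen r) (Y.basicOpen_le r)
  let _inst := (𝒮.presheaf.map (homOfLE (Y.basicOpen_le r)).op).hom.toAlgebra
  let c := (𝒮.str.app (op U)).hom r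
  have hloc : IsLocalization.Away c (𝒮.presheaf.obj (op (Y.basicOpen r))) := 𝒮.isQC U hU r
  obtain ⟨⟨a, s, hs⟩, has⟩ := IsLocalization.surj (Submonoid.powers c) g'
  obtain ⟨k, rfl⟩ := (Submonoid.mem_powers_iff _ _).mp hs
  change g' * ψ (c ^ k) = ψ a at has
  have hu : IsUnit (ψ (c ^ k)) :=
    IsLocalization.map_units (M := Submonoid.powers c)
      (𝒮.presheaf.obj (op (Y.basicOpen r))) ⟨c ^ k, k, rfl⟩
  have hc0 : ψ (c ^ k) ∈ 𝒮.deg (Y.basicOpen r) (hU.basicOpen r) 0 := by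
    rw [map_pow]
    exact SetLike.pow_mem_graded _ (ψ.map_mem (𝒮.str_mem U hU r))
  have hgm : g' * ψ (c ^ k) ∈ 𝒮.deg (Y.basicOpen r) (hU.basicOpen r) m := by
    simpa only [add_zero] using
      SetLike.mul_mem_graded (A := 𝒮.deg (Y.basicOpen r) (hU.basicOpen r)) hg'm hc0
  have hxi : ψ (DirectSum.decompose (𝒮.deg U hU) a m : 𝒮.presheaf.obj (op U)) = g' * ψ (c ^ k) := by
    rw [GradedRingHom.map_directSumDecompose, ← has, DirectSum.decompose_of_mem_same _ hgm]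
  refine ⟨_, SetLike.coe_mem (DirectSum.decompose (𝒮.deg U hU) a m), ?_⟩
  change ψ _ ∉ _
  rw [hxi]
  intro hmem
  rcases x'.isPrime.mem_or_mem hmem with h1 | h1
  · exact hg' h1
  · exact x'.isPrime.ne_top (Ideal.eq_top_of_isUnit_mem _ h1 hu)

theorem exists_uniform_unit [CompactSpace Y] (hP : RelProj.IsRelProj 𝒮 p chart)
    (hft : ∀ (U : Y.Opens) (hU : IsAffineOpen U), (𝒮.str.app (op U)).hom.FiniteType) :
    ∃ d : ℕ, 0 < d ∧ ∀ (V : Y.Opens) (hV : IsAffineOpen V)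
      (x : ProjectiveSpectrum (𝒮.deg V hV)), ∃ g ∈ 𝒮.deg V hV d, g ∉ x.asHomogeneousIdeal := by
  classical
  -- affine neighbourhoods
  have hnb : ∀ z : Y, ∃ (V : Y.Opens), IsAffineOpen V ∧ z ∈ V := by
    intro z
    obtain ⟨_, ⟨V, hV : IsAffineOpen V, rfl⟩, hzV, -⟩ :=
      (Y.isBasis_affineOpens).exists_subset_of_mem_open (Set.mem_univ z) isOpen_univ
    exact ⟨V, hV, hzV⟩
  choose V hV hzV using hnb
  have hper : ∀ z : Y, ∃ d : ℕ, 0 < d ∧ ∀ m : ℕ, d ∣ m →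
      ∀ x : ProjectiveSpectrum (𝒮.deg (V z) (hV z)),
        ∃ g ∈ 𝒮.deg (V z) (hV z) m, g ∉ x.asHomogeneousIdeal := by
    intro z
    haveI := finiteType_zero (V z) (hV z) (hft (V z) (hV z))
    exact exists_period_of_finiteType (𝒮.deg (V z) (hV z))
  choose dz hdz hdz' using hper
  obtain ⟨t, ht⟩ := isCompact_univ.elim_finite_subcover (fun z => ((V z : Y.Opens) : Set Y))
    (fun z => (V z).isOpen) (fun z _ => Set.mem_iUnion.2 ⟨z, hzV z⟩)
  refine ⟨∏ z ∈ t, dz z, Finset.prod_pos fun z _ => hdz z, ?_⟩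
  intro W hW x
  -- the point of `P`
  set y : P := (RelProj.emb p chart W hW).base x with hy
  have hyW : p.base y ∈ W := by
    have : y ∈ (RelProj.emb p chart W hW).opensRange := ⟨x, rfl⟩
    rw [opensRange_emb] at this
    exact this
  obtain ⟨z, hz⟩ := Set.mem_iUnion.1 (ht (Set.mem_univ (p.base y)))
  obtain ⟨hzt, hz⟩ := Set.mem_iUnion.1 hz
  obtain ⟨D, hDW, hDV, hyD⟩ := exists_common_basicOpen hW (hV z) (p.base y) ⟨hyW, hz⟩
  have hyD' : y ∈ (RelProj.emb p chart D.1 D.2).opensRange := by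
    rw [opensRange_emb]; exact hyD
  obtain ⟨xD, hxD⟩ := hyD'
  -- `x` is the image of `xD`
  have hx : (Proj.map (𝒮.res hW D.2 (Scheme.AffineZariskiSite.toOpens_mono hDW))
      (RP2.hirr 𝒮 hDW)).base xD = x := by
    apply (RelProj.emb p chart W hW).isOpenEmbedding.injective
    rw [← hy, ← hxD, ← map_res_emb' hP hDW]
    rfl
  -- a unit at the image in `V z`
  obtain ⟨g₁, hg₁, hg₁x⟩ := hdz' z _ (Finset.dvd_prod_of_mem dz hzt)
    ((Proj.map (𝒮.res (hV z) D.2 (Scheme.AffineZariskiSite.toOpens_mono hDV))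
      (RP2.hirr 𝒮 hDV)).base xD)
  have hg₂ : 𝒮.res (hV z) D.2 (Scheme.AffineZariskiSite.toOpens_mono hDV) g₁ ∉
      xD.asHomogeneousIdeal := hg₁x
  obtain ⟨g, hg, hgx⟩ := exists_lift_notMem hDW xD
    ((𝒮.res (hV z) D.2 (Scheme.AffineZariskiSite.toOpens_mono hDV)).map_mem hg₁) hg₂
  refine ⟨g, hg, ?_⟩
  rw [← hx]
  exact hgx

/-- ampleness of `O_P(d)` over an affine open from a uniform unit condition -/
theorem isAmple_restrict_of_unit {d : ℕ} (hd : 0 < d) {L : P.Modules}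
    {lam : ∀ (U : Y.Opens) (hU : IsAffineOpen U),
      L ⟶ (Scheme.Modules.pushforward (RelProj.emb p chart U hU)).obj
        (GrTwist.twist (𝒮.deg U hU) (d : ℤ))}
    (hL : RelProj.IsRelTwist 𝒮 p chart (d : ℤ) L lam) (V : Y.Opens) (hV : IsAffineOpen V)
    [CompactSpace (Proj (𝒮.deg V hV))]
    (hunit : ∀ x : ProjectiveSpectrum (𝒮.deg V hV), ∃ g ∈ 𝒮.deg V hV d, g ∉ x.asHomogeneousIdeal) :
    CohB1.IsAmple (L.restrict (RelProj.emb p chart V hV)) ∧
      CohB1.IsAmple (L.restrict (p ⁻¹ᵁ V).ι) := by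
  have h1 : CohB1.IsAmple (GrTwist.twist (𝒮.deg V hV) (d : ℤ)) :=
    GrTwAmple.isAmple_twist (𝒮.deg V hV) hd (fun x => by
      obtain ⟨g, hg, hgx⟩ := hunit x
      exact ⟨⟨g, hg⟩, hgx⟩)
  obtain ⟨e⟩ := nonempty_restrict_emb_iso hL V hV
  have h2 : CohB1.IsAmple (L.restrict (RelProj.emb p chart V hV)) :=
    GrTwAmpleOpen.isAmple_of_iso e.symm h1
  refine ⟨h2, ?_⟩
  have e2 : L.restrict (RelProj.emb p chart V hV) ≅
      (L.restrict (p ⁻¹ᵁ V).ι).restrict (chart V hV).inv :=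
    (Scheme.Modules.restrictFunctorComp (chart V hV).inv (p ⁻¹ᵁ V).ι).app L
  have h3 := GrTwAmpleOpen.isAmple_of_iso e2 h2
  refine AmpleLib.isAmple_of_restrict_surj (chart V hV).inv ?_ h3
  apply Opens.ext
  exact Set.range_eq_univ.mpr (chart V hV).inv.homeomorph.surjective

theorem main [CompactSpace Y] (hP : RelProj.IsRelProj 𝒮 p chart)
    (hft : ∀ (U : Y.Opens) (hU : IsAffineOpen U), (𝒮.str.app (op U)).hom.FiniteType) :
    ∃ d : ℕ, 0 < d ∧ ∀ (L : P.Modules)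
      (lam : ∀ (U : Y.Opens) (hU : IsAffineOpen U),
        L ⟶ (Scheme.Modules.pushforward (RelProj.emb p chart U hU)).obj
          (GrTwist.twist (𝒮.deg U hU) (d : ℤ))),
      RelProj.IsRelTwist 𝒮 p chart (d : ℤ) L lam →
        PicF.IsInvertible L ∧ RelAmple.IsRelAmple p L := by
  obtain ⟨d, hd, hunit⟩ := exists_uniform_unit hP hft
  refine ⟨d, hd, fun L lam hL => ?_⟩
  have hcomp : ∀ (V : Y.Opens) (hV : IsAffineOpen V), CompactSpace (Proj (𝒮.deg V hV)) := by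
    intro V hV
    haveI := finiteType_zero V hV (hft V hV)
    exact compactSpace_of_finiteType _
  refine ⟨?_, ?_, ?_⟩
  · apply isInvertible_of_restrict_cover
    intro y
    obtain ⟨_, ⟨U, hU : IsAffineOpen U, rfl⟩, hyU, -⟩ :=
      (Y.isBasis_affineOpens).exists_subset_of_mem_open (Set.mem_univ (p.base y)) isOpen_univ
    haveI := hcomp U hU
    refine ⟨_, RelProj.emb p chart U hU, inferInstance, ?_, ?_⟩
    · rw [opensRange_emb]; exact hyU
    · exact (isAmple_restrict_of_unit hd hL U hU (hunit U hU)).1.1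
  · rw [quasiCompact_iff_forall_isAffineOpen]
    intro V hV
    haveI := hcomp V hV
    have : (p ⁻¹ᵁ V : Set P) = Set.range (RelProj.emb p chart V hV).base := by
      rw [← opensRange_emb (p := p) (chart := chart) V hV]; rfl
    rw [this]
    exact isCompact_range (RelProj.emb p chart V hV).continuous
  · intro V
    haveI := hcomp V.1 V.2
    exact (isAmple_restrict_of_unit hd hL V.1 V.2 (hunit V.1 V.2)).2

end Rel

end Groth.Agent.Helper1.RP5
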