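import Mathlib
import Groth.Agent.Lib.Helper1.RP5
import Groth.Agent.Lib.Helper1.TwistSec

set_option autoImplicit false
universe u

open CategoryTheory CategoryTheory.Limits AlgebraicGeometry TopologicalSpace Opposite
open scoped HomogeneousIdeal

namespace Groth.Agent.Helper1.RP6

open Groth.Agent.Helper1.ProjBC Groth.Agent.Helper1.RP3 Groth.Agent.Helper1.QcCech

section Alg
variable {A σ : Type u} [CommRing A] [SetLike σ A] [AddSubgroupClass σ A] {𝒜 : ℕ → σ} [GradedRing 𝒜]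

theorem val_ext {n : ℤ} {V : (Proj 𝒜).Opens} (t t' : Γ(GrTwist.twist 𝒜 n, V))
    (h : ∀ y : V, GrTwist.val t y = GrTwist.val t' y) : t = t' :=
  Subtype.ext (funext fun y => Subtype.ext (h y))

theorem val_res {n : ℤ} {V V' : (Proj 𝒜).Opens} (h : V' ≤ V) (t : Γ(GrTwist.twist 𝒜 n, V)) (y : V') :
    GrTwist.val (res (GrTwist.twist 𝒜 n) h t) y = GrTwist.val t ⟨y.1, h y.2⟩ := rfl

end Alg

variable {Y P : Scheme.{u}} {𝒮 : RelProj.QCGrAlg Y} {p : P ⟶ Y}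
  {chart : ∀ (U : Y.Opens) (hU : IsAffineOpen U), ((p ⁻¹ᵁ U : P.Opens) : Scheme.{u}) ≅ Proj (𝒮.deg U hU)}
  {n : ℤ} {L : P.Modules}
  {lam : ∀ (U : Y.Opens) (hU : IsAffineOpen U),
    L ⟶ (Scheme.Modules.pushforward (RelProj.emb p chart U hU)).obj (GrTwist.twist (𝒮.deg U hU) n)}

/-- value of a section read through a chart -/
noncomputable abbrev rd (lam : ∀ (U : Y.Opens) (hU : IsAffineOpen U),
      L ⟶ (Scheme.Modules.pushforward (RelProj.emb p chart U hU)).obj (GrTwist.twist (𝒮.deg U hU) n))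
    (U : Y.Opens) (hU : IsAffineOpen U) {W : P.Opens} (s : Γ(L, W))
    (y : ProjectiveSpectrum (𝒮.deg U hU)) (hy : (RelProj.emb p chart U hU).base y ∈ W) :
    GrTwist.Loc (𝒮.deg U hU) y :=
  GrTwist.val (V := RelProj.emb p chart U hU ⁻¹ᵁ W) ((lam U hU).app W s) ⟨y, hy⟩

theorem rd_res (U : Y.Opens) (hU : IsAffineOpen U) {W W' : P.Opens} (h : W' ≤ W) (s : Γ(L, W))
    (y : ProjectiveSpectrum (𝒮.deg U hU)) (hy : (RelProj.emb p chart U hU).base y ∈ W') :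
    rd lam U hU (res L h s) y hy = rd lam U hU s y (h hy) := by
  have := congrArg (fun f => f.hom s) ((lam U hU).mapPresheaf.naturality (homOfLE h).op)
  change (lam U hU).app W' (res L h s) = _ at this
  unfold rd
  rw [this]
  rfl

theorem mem_of_mem (hP : RelProj.IsRelProj 𝒮 p chart) {U' U : Y.AffineZariskiSite} (h : U' ≤ U)
    {W : P.Opens} (y : ProjectiveSpectrum (𝒮.deg U'.1 U'.2))
    (hy : (RelProj.emb p chart U'.1 U'.2).base y ∈ W) :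
    (RelProj.emb p chart U.1 U.2).base (ProjectiveSpectrum.comap
      (𝒮.res U.2 U'.2 (Scheme.AffineZariskiSite.toOpens_mono h)) (RP2.hirr 𝒮 h) y) ∈ W := by
  rw [← RP5.map_res_emb' hP h] at hy
  exact hy

theorem compat' (hL : RelProj.IsRelTwist 𝒮 p chart n L lam) {U' U : Y.AffineZariskiSite} (h : U' ≤ U)
    {W : P.Opens} (s : Γ(L, W)) (y : ProjectiveSpectrum (𝒮.deg U'.1 U'.2))
    (hy : (RelProj.emb p chart U'.1 U'.2).base y ∈ W)
    (hy' : (RelProj.emb p chart U.1 U.2).base (ProjectiveSpectrum.comap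
      (𝒮.res U.2 U'.2 (Scheme.AffineZariskiSite.toOpens_mono h)) (RP2.hirr 𝒮 h) y) ∈ W) :
    rd lam U'.1 U'.2 s y hy =
      GrTwist.locMap (𝒮.res U.2 U'.2 (Scheme.AffineZariskiSite.toOpens_mono h)) (RP2.hirr 𝒮 h) y
        (rd lam U.1 U.2 s _ hy') := by
  obtain ⟨U', hU'⟩ := U'
  obtain ⟨r, hr⟩ := h
  change Y.basicOpen r = U' at hr
  subst hr
  exact hL.compat U.1 U.2 r W s y hy hy'

theorem exists_affine_mem (z : Y) : ∃ (U : Y.Opens), IsAffineOpen U ∧ z ∈ U := by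
  obtain ⟨_, ⟨V, hV : IsAffineOpen V, rfl⟩, hzV, -⟩ :=
    (Y.isBasis_affineOpens).exists_subset_of_mem_open (Set.mem_univ z) isOpen_univ
  exact ⟨V, hV, hzV⟩

theorem emb_mem_preimage (U : Y.Opens) (hU : IsAffineOpen U) (y : ProjectiveSpectrum (𝒮.deg U hU)) :
    (RelProj.emb p chart U hU).base y ∈ p ⁻¹ᵁ U := by
  have : (RelProj.emb p chart U hU).base y ∈ (RelProj.emb p chart U hU).opensRange := ⟨y, rfl⟩
  rw [opensRange_emb] at this
  exact this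

/-- sections of `O_P(n)` are determined by their values read through charts covering the open -/
theorem sec_ext (hL : RelProj.IsRelTwist 𝒮 p chart n L lam) {W : P.Opens} (s t : Γ(L, W))
    (h : ∀ x ∈ W, ∃ (U : Y.Opens) (hU : IsAffineOpen U), p.base x ∈ U ∧
      ∀ (y : ProjectiveSpectrum (𝒮.deg U hU)) (hy : (RelProj.emb p chart U hU).base y ∈ W),
        rd lam U hU s y hy = rd lam U hU t y hy) : s = t := by
  apply TwistSec.eq_of_locally
  intro x hx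
  obtain ⟨U, hU, hxU, hval⟩ := h x hx
  refine ⟨W ⊓ p ⁻¹ᵁ U, inf_le_left, ⟨hx, hxU⟩, ?_⟩
  apply (hL.bijective U hU (W ⊓ p ⁻¹ᵁ U) inf_le_right).1
  apply val_ext
  rintro ⟨y, hy⟩
  have h1 := rd_res (lam := lam) U hU (inf_le_left : W ⊓ p ⁻¹ᵁ U ≤ W) s y hy
  have h2 := rd_res (lam := lam) U hU (inf_le_left : W ⊓ p ⁻¹ᵁ U ≤ W) t y hy
  exact h1.trans ((hval y _).trans h2.symm)

/-- gluing a section of `O_P(n)` from compatible chartwise sections -/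
theorem exists_sec (hP : RelProj.IsRelProj 𝒮 p chart) (hL : RelProj.IsRelTwist 𝒮 p chart n L lam)
    (W : P.Opens)
    (τ : ∀ (U : Y.Opens) (hU : IsAffineOpen U),
      Γ(GrTwist.twist (𝒮.deg U hU) n, RelProj.emb p chart U hU ⁻¹ᵁ W))
    (hτ : ∀ {U' U : Y.AffineZariskiSite} (h : U' ≤ U) (y : ProjectiveSpectrum (𝒮.deg U'.1 U'.2))
      (hy : (RelProj.emb p chart U'.1 U'.2).base y ∈ W)
      (hy' : (RelProj.emb p chart U.1 U.2).base (ProjectiveSpectrum.comap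
        (𝒮.res U.2 U'.2 (Scheme.AffineZariskiSite.toOpens_mono h)) (RP2.hirr 𝒮 h) y) ∈ W),
      GrTwist.val (τ U'.1 U'.2) ⟨y, hy⟩ =
        GrTwist.locMap (𝒮.res U.2 U'.2 (Scheme.AffineZariskiSite.toOpens_mono h)) (RP2.hirr 𝒮 h) y
          (GrTwist.val (τ U.1 U.2) ⟨_, hy'⟩)) :
    ∃ s : Γ(L, W), ∀ (U : Y.Opens) (hU : IsAffineOpen U), (lam U hU).app W s = τ U hU := by
  -- local sections
  have hloc : ∀ U : Y.AffineZariskiSite, ∃ s : Γ(L, W ⊓ p ⁻¹ᵁ U.1),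
      (lam U.1 U.2).app (W ⊓ p ⁻¹ᵁ U.1) s =
        res (GrTwist.twist (𝒮.deg U.1 U.2) n)
          ((RelProj.emb p chart U.1 U.2).preimage_mono (inf_le_left : W ⊓ p ⁻¹ᵁ U.1 ≤ W))
          (τ U.1 U.2) := fun U =>
    (hL.bijective U.1 U.2 (W ⊓ p ⁻¹ᵁ U.1) inf_le_right).2 _
  choose σ hσ using hloc
  have hσrd : ∀ (U : Y.AffineZariskiSite) (y : ProjectiveSpectrum (𝒮.deg U.1 U.2))
      (hy : (RelProj.emb p chart U.1 U.2).base y ∈ W ⊓ p ⁻¹ᵁ U.1),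
      rd lam U.1 U.2 (σ U) y hy = GrTwist.val (τ U.1 U.2) ⟨y, hy.1⟩ := by
    intro U y hy
    unfold rd
    rw [hσ U]
    rfl
  -- values through a smaller basic open
  have hσD : ∀ {D U : Y.AffineZariskiSite} (h : D ≤ U) {W' : P.Opens} (hW' : W' ≤ W ⊓ p ⁻¹ᵁ U.1)
      (y : ProjectiveSpectrum (𝒮.deg D.1 D.2))
      (hy : (RelProj.emb p chart D.1 D.2).base y ∈ W'),
      rd lam D.1 D.2 (res L hW' (σ U)) y hy = GrTwist.val (τ D.1 D.2) ⟨y, (hW' hy).1⟩ := by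
    intro D U h W' hW' y hy
    have hy' := mem_of_mem hP h y hy
    rw [compat' hL h _ y hy hy', rd_res, hσrd U _ (hW' hy'), hτ h y (hW' hy).1 (hW' hy').1]
  obtain ⟨s, hs⟩ := TwistSec.glue_of_compatible L (fun U : Y.AffineZariskiSite => W ⊓ p ⁻¹ᵁ U.1) W
    (fun U => inf_le_left) (by
      intro x hx
      obtain ⟨U, hU, hxU⟩ := exists_affine_mem (p.base x)
      exact Opens.mem_iSup.2 ⟨⟨U, hU⟩, hx, hxU⟩) σ (by
      intro U U'
      apply sec_ext hL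
      intro x hx
      obtain ⟨D, hDU, hDU', hxD⟩ : ∃ D : Y.AffineZariskiSite, D ≤ U ∧ D ≤ U' ∧ p.base x ∈ D.1 :=
        RP5.exists_common_basicOpen U.2 U'.2 (p.base x) ⟨hx.1.2, hx.2.2⟩
      refine ⟨D.1, D.2, hxD, fun y hy => ?_⟩
      rw [hσD hDU _ y hy, hσD hDU' _ y hy])
  refine ⟨s, fun U hU => ?_⟩
  apply val_ext
  rintro ⟨y, hy⟩
  have hy2 : (RelProj.emb p chart U hU).base y ∈ W ⊓ p ⁻¹ᵁ U := ⟨hy, emb_mem_preimage U hU y⟩
  have h1 := rd_res (lam := lam) U hU (inf_le_left : W ⊓ p ⁻¹ᵁ U ≤ W) s y hy2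
  rw [hs ⟨U, hU⟩] at h1
  exact h1.symm.trans (hσrd ⟨U, hU⟩ y hy2)

end Groth.Agent.Helper1.RP6
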