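import Mathlib
import Groth.Agent.Lib.Helper1.RP6
import Groth.Agent.Lib.Helper1.LGenLoc

set_option autoImplicit false
universe u

open CategoryTheory CategoryTheory.Limits AlgebraicGeometry TopologicalSpace Opposite
open scoped HomogeneousIdeal

namespace Groth.Agent.Helper1.RP7

open Groth.Agent.Helper1.ProjBC Groth.Agent.Helper1.RP3 Groth.Agent.Helper1.QcCech Groth.Agent.Helper1.RP6
open Groth.Agent.Helper1.LGen

variable {Y P : Scheme.{u}} {𝒮 : RelProj.QCGrAlg Y} {p : P ⟶ Y}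
  {chart : ∀ (U : Y.Opens) (hU : IsAffineOpen U), ((p ⁻¹ᵁ U : P.Opens) : Scheme.{u}) ≅ Proj (𝒮.deg U hU)}
  {n : ℤ} {L : P.Modules}
  {lam : ∀ (U : Y.Opens) (hU : IsAffineOpen U),
    L ⟶ (Scheme.Modules.pushforward (RelProj.emb p chart U hU)).obj (GrTwist.twist (𝒮.deg U hU) n)}

theorem lam_smul (U : Y.Opens) (hU : IsAffineOpen U) (W : P.Opens) (r : Γ(P, W)) (s : Γ(L, W)) :
    (lam U hU).app W (r • s) =
      (show Γ(Proj (𝒮.deg U hU), RelProj.emb p chart U hU ⁻¹ᵁ W) from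
        (RelProj.emb p chart U hU).app W r) •
      (show Γ(GrTwist.twist (𝒮.deg U hU) n, RelProj.emb p chart U hU ⁻¹ᵁ W) from
        (lam U hU).app W s) := by
  rw [Scheme.Modules.Hom.app_smul]
  rfl

theorem emb_app_bijective (U : Y.Opens) (hU : IsAffineOpen U) (W : P.Opens) (hW : W ≤ p ⁻¹ᵁ U) :
    Function.Bijective ((RelProj.emb p chart U hU).app W) := by
  rw [← ConcreteCategory.isIso_iff_bijective]
  apply Scheme.Hom.isIso_app
  rw [opensRange_emb]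
  exact hW

theorem lam_res' (U : Y.Opens) (hU : IsAffineOpen U) {W W' : P.Opens} (h : W' ≤ W) (s : Γ(L, W)) :
    (lam U hU).app W' (res L h s) =
      res (GrTwist.twist (𝒮.deg U hU) n) ((RelProj.emb p chart U hU).preimage_mono h)
        ((lam U hU).app W s) := by
  apply val_ext
  rintro ⟨y, hy⟩
  exact rd_res (lam := lam) U hU h s y hy

/-- transfer of free generators through a chart -/
theorem isGen_of_lam (hL : RelProj.IsRelTwist 𝒮 p chart n L lam) (U : Y.Opens) (hU : IsAffineOpen U)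
    {V₀ : P.Opens} (hV₀ : V₀ ≤ p ⁻¹ᵁ U) (a : Γ(L, V₀))
    (h : ∀ (V : P.Opens) (hV : V ≤ V₀), Function.Bijective
      (fun r' : Γ(Proj (𝒮.deg U hU), RelProj.emb p chart U hU ⁻¹ᵁ V) =>
        r' • (show Γ(GrTwist.twist (𝒮.deg U hU) n, RelProj.emb p chart U hU ⁻¹ᵁ V) from
          res (GrTwist.twist (𝒮.deg U hU) n) ((RelProj.emb p chart U hU).preimage_mono hV)
            ((lam U hU).app V₀ a)))) :
    IsGen L V₀ a := by
  intro V hV
  let g : Γ(L, V) → Γ(GrTwist.twist (𝒮.deg U hU) n, RelProj.emb p chart U hU ⁻¹ᵁ V) :=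
    fun s => (lam U hU).app V s
  have h1 : Function.Bijective g := hL.bijective U hU V (hV.trans hV₀)
  have h2 := (h V hV).comp (emb_app_bijective (p := p) (chart := chart) U hU V (hV.trans hV₀))
  rw [← Function.Bijective.of_comp_iff' h1]
  have h3 : (g ∘ fun r : Γ(P, V) => r • res L hV a) =
      ((fun r' : Γ(Proj (𝒮.deg U hU), RelProj.emb p chart U hU ⁻¹ᵁ V) =>
        r' • (show Γ(GrTwist.twist (𝒮.deg U hU) n, RelProj.emb p chart U hU ⁻¹ᵁ V) from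
          res (GrTwist.twist (𝒮.deg U hU) n) ((RelProj.emb p chart U hU).preimage_mono hV)
            ((lam U hU).app V₀ a))) ∘ ⇑((RelProj.emb p chart U hU).app V).hom) := by
    funext r
    simp only [Function.comp, g]
    rw [lam_smul, lam_res']
  rw [h3]
  exact h2

theorem emb_mem_image_iff (U : Y.Opens) (hU : IsAffineOpen U) (Z : (Proj (𝒮.deg U hU)).Opens)
    (y : ProjectiveSpectrum (𝒮.deg U hU)) :
    (RelProj.emb p chart U hU).base y ∈ (p ⁻¹ᵁ U).ι ''ᵁ ((chart U hU).hom ⁻¹ᵁ Z) ↔ y ∈ Z := by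
  have hy : (chart U hU).hom.base ((chart U hU).inv.base y) = y := by
    rw [← Scheme.Hom.comp_apply, Iso.inv_hom_id]; rfl
  constructor
  · rintro ⟨z, hz, hzy⟩
    have : z = (chart U hU).inv.base y := (p ⁻¹ᵁ U).ι.isOpenEmbedding.injective hzy
    subst this
    change (chart U hU).hom.base ((chart U hU).inv.base y) ∈ Z at hz
    rwa [hy] at hz
  · intro h
    refine ⟨(chart U hU).inv.base y, ?_, rfl⟩
    change (chart U hU).hom.base ((chart U hU).inv.base y) ∈ Z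
    rwa [hy]

theorem emb_mem_iff_of_inf_eq (U : Y.Opens) (hU : IsAffineOpen U) (Z : (Proj (𝒮.deg U hU)).Opens)
    (X' : P.Opens) (h : X' ⊓ p ⁻¹ᵁ U = (p ⁻¹ᵁ U).ι ''ᵁ ((chart U hU).hom ⁻¹ᵁ Z))
    (y : ProjectiveSpectrum (𝒮.deg U hU)) :
    (RelProj.emb p chart U hU).base y ∈ X' ↔ y ∈ Z := by
  rw [← emb_mem_image_iff (p := p) (chart := chart) U hU Z y, ← h]
  exact ⟨fun h' => ⟨h', emb_mem_preimage U hU y⟩, fun h' => h'.1⟩

theorem pow_notMem {A σ : Type u} [CommRing A] [SetLike σ A] [AddSubgroupClass σ A] {𝒜 : ℕ → σ}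
    [GradedRing 𝒜] {f : A} (y : ProjectiveSpectrum 𝒜) (hy : y ∈ Proj.basicOpen 𝒜 f) (k : ℕ) :
    f ^ k ∉ y.asHomogeneousIdeal := fun hk =>
  ((Proj.mem_basicOpen 𝒜 f y).1 hy) (y.isPrime.mem_of_pow_mem k hk)

theorem toNat_smul_eq (n : ℤ) (d : ℕ) :
    ((n.toNat • d : ℕ) : ℤ) = ((-n).toNat • d : ℕ) + n * d := by
  have := Int.toNat_sub_toNat_neg n
  push_cast [smul_eq_mul]
  nlinarith

/-- a global free generator of `O_P(kd)` over `X_f` -/
theorem exists_isGen_basicOpen (hP : RelProj.IsRelProj 𝒮 p chart) {d : ℕ}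
    (f : 𝒮.presheaf.obj (op ⊤))
    (hf : ∀ (U : Y.Opens) (hU : IsAffineOpen U),
      (𝒮.presheaf.map (homOfLE le_top).op).hom f ∈ 𝒮.deg U hU d)
    (Xf : P.Opens)
    (hXf : ∀ (U : Y.Opens) (hU : IsAffineOpen U),
      Xf ⊓ p ⁻¹ᵁ U =
        (p ⁻¹ᵁ U).ι ''ᵁ ((chart U hU).hom ⁻¹ᵁ
          Proj.basicOpen (𝒮.deg U hU) ((𝒮.presheaf.map (homOfLE le_top).op).hom f)))
    (k : ℤ) {L : P.Modules}
    {lam : ∀ (U : Y.Opens) (hU : IsAffineOpen U),
      L ⟶ (Scheme.Modules.pushforward (RelProj.emb p chart U hU)).obj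
        (GrTwist.twist (𝒮.deg U hU) (k * (d : ℤ)))}
    (hL : RelProj.IsRelTwist 𝒮 p chart (k * (d : ℤ)) L lam) :
    ∃ σ : Γ(L, Xf), LGen.IsGen L Xf σ := by
  -- notation
  set fU : ∀ (U : Y.Opens), 𝒮.presheaf.obj (op U) :=
    fun U => (𝒮.presheaf.map (homOfLE (le_top : U ≤ ⊤)).op).hom f with hfU
  have hmem : ∀ (U : Y.Opens) (hU : IsAffineOpen U) (y : ProjectiveSpectrum (𝒮.deg U hU)),
      (RelProj.emb p chart U hU).base y ∈ Xf ↔ y ∈ Proj.basicOpen (𝒮.deg U hU) (fU U) :=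
    fun U hU y => emb_mem_iff_of_inf_eq U hU _ Xf (hXf U hU) y
  have hres : ∀ {U' U : Y.Opens} (hU : IsAffineOpen U) (hU' : IsAffineOpen U') (i : U' ≤ U),
      𝒮.res hU hU' i (fU U) = fU U' := by
    intro U' U hU hU' i
    change ((𝒮.presheaf.map (homOfLE le_top).op) ≫ (𝒮.presheaf.map (homOfLE i).op)).hom f = _
    rw [← Functor.map_comp]
    rfl
  have hp : ∀ (U : Y.Opens) (hU : IsAffineOpen U), fU U ^ k.toNat ∈ 𝒮.deg U hU (k.toNat • d) :=
    fun U hU => SetLike.pow_mem_graded _ (hf U hU)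
  have hq : ∀ (U : Y.Opens) (hU : IsAffineOpen U),
      fU U ^ (-k).toNat ∈ 𝒮.deg U hU ((-k).toNat • d) :=
    fun U hU => SetLike.pow_mem_graded _ (hf U hU)
  have hm := toNat_smul_eq k d
  have hnv : ∀ (U : Y.Opens) (hU : IsAffineOpen U) (V : P.Opens) (hV : V ≤ Xf) (j : ℕ)
      (x : (RelProj.emb p chart U hU ⁻¹ᵁ V : (Proj (𝒮.deg U hU)).Opens)),
      fU U ^ j ∉ x.1.asHomogeneousIdeal :=
    fun U hU V hV j x => pow_notMem x.1 ((hmem U hU x.1).1 (hV x.2)) j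
  obtain ⟨σ, hσ⟩ := exists_sec hP hL Xf
    (fun U hU => GrTwTriv.fracSec (𝒮.deg U hU) (hp U hU) (hq U hU) hm _ (hnv U hU Xf le_rfl _))
    (by
      intro U' U h y hy hy'
      refine Eq.trans ?_ (GrTwist.locMap_mk _ _ _ _ _).symm
      change Localization.mk _ _ = Localization.mk _ _
      congr 1
      · rw [map_pow, hres]
      · apply Subtype.ext
        change _ = (𝒮.res U.2 U'.2 _) (fU U.1 ^ (-k).toNat)
        rw [map_pow, hres])
  have hgen : LGen.IsGen L Xf σ := by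
    apply LGenLoc.isGen_of_locally
    intro x hx
    obtain ⟨U, hU, hxU⟩ := exists_affine_mem (p.base x)
    refine ⟨Xf ⊓ p ⁻¹ᵁ U, inf_le_left, ⟨hx, hxU⟩, ?_⟩
    apply isGen_of_lam hL U hU inf_le_right
    intro V hV
    rw [lam_res', hσ U hU]
    exact GrTwTriv.fracSec_bijective (𝒮.deg U hU) (hp U hU) (hq U hU) hm _
      (hnv U hU V (hV.trans inf_le_left) _) (hnv U hU V (hV.trans inf_le_left) _)
  exact ⟨σ, hgen⟩

/-- S8288 -/
theorem restrict_basicOpen_iso (hP : RelProj.IsRelProj 𝒮 p chart) {d : ℕ}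
    (f : 𝒮.presheaf.obj (op ⊤))
    (hf : ∀ (U : Y.Opens) (hU : IsAffineOpen U),
      (𝒮.presheaf.map (homOfLE le_top).op).hom f ∈ 𝒮.deg U hU d)
    (Xf : P.Opens)
    (hXf : ∀ (U : Y.Opens) (hU : IsAffineOpen U),
      Xf ⊓ p ⁻¹ᵁ U =
        (p ⁻¹ᵁ U).ι ''ᵁ ((chart U hU).hom ⁻¹ᵁ
          Proj.basicOpen (𝒮.deg U hU) ((𝒮.presheaf.map (homOfLE le_top).op).hom f)))
    (k : ℤ) {L : P.Modules}
    {lam : ∀ (U : Y.Opens) (hU : IsAffineOpen U),
      L ⟶ (Scheme.Modules.pushforward (RelProj.emb p chart U hU)).obj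
        (GrTwist.twist (𝒮.deg U hU) (k * (d : ℤ)))}
    (hL : RelProj.IsRelTwist 𝒮 p chart (k * (d : ℤ)) L lam) :
    Nonempty (L.restrict Xf.ι ≅ Coh.structureModule (Xf : Scheme.{u})) := by
  obtain ⟨σ, hgen⟩ := exists_isGen_basicOpen hP f hf Xf hXf k hL
  exact ModTriv.nonempty_restrict_iso_unit L Xf σ hgen

end Groth.Agent.Helper1.RP7
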