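import Mathlib
import Groth.Agent.Lib.Helper1.RP7
import Groth.Agent.Lib.Helper1.GrTwTens

set_option autoImplicit false
universe u

open CategoryTheory CategoryTheory.Limits AlgebraicGeometry TopologicalSpace Opposite
open scoped HomogeneousIdeal

namespace Groth.Agent.Helper1.RP8

open Groth.Agent.Helper1.ProjBC Groth.Agent.Helper1.RP3 Groth.Agent.Helper1.QcCech Groth.Agent.Helper1.RP6
open Groth.Agent.Helper1.LGen Groth.Agent.Helper1.RP7

variable {Y P : Scheme.{u}} {𝒮 : RelProj.QCGrAlg Y} {p : P ⟶ Y}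
  {chart : ∀ (U : Y.Opens) (hU : IsAffineOpen U), ((p ⁻¹ᵁ U : P.Opens) : Scheme.{u}) ≅ Proj (𝒮.deg U hU)}

theorem lam_ext {n : ℤ} {L : P.Modules}
    {lam : ∀ (U : Y.Opens) (hU : IsAffineOpen U),
      L ⟶ (Scheme.Modules.pushforward (RelProj.emb p chart U hU)).obj (GrTwist.twist (𝒮.deg U hU) n)}
    (hL : RelProj.IsRelTwist 𝒮 p chart n L lam) {W : P.Opens} (s t : Γ(L, W))
    (h : ∀ (U : Y.Opens) (hU : IsAffineOpen U), (lam U hU).app W s = (lam U hU).app W t) : s = t := by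
  apply sec_ext hL
  intro x hx
  obtain ⟨U, hU, hxU⟩ := exists_affine_mem (p.base x)
  refine ⟨U, hU, hxU, fun y hy => ?_⟩
  unfold rd
  rw [h U hU]

section Pair
variable {m n k : ℤ} (hk : k = m + n) {L L' L'' : P.Modules}
  {lam : ∀ (U : Y.Opens) (hU : IsAffineOpen U),
    L ⟶ (Scheme.Modules.pushforward (RelProj.emb p chart U hU)).obj (GrTwist.twist (𝒮.deg U hU) m)}
  {lam' : ∀ (U : Y.Opens) (hU : IsAffineOpen U),
    L' ⟶ (Scheme.Modules.pushforward (RelProj.emb p chart U hU)).obj (GrTwist.twist (𝒮.deg U hU) n)}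
  {lam'' : ∀ (U : Y.Opens) (hU : IsAffineOpen U),
    L'' ⟶ (Scheme.Modules.pushforward (RelProj.emb p chart U hU)).obj (GrTwist.twist (𝒮.deg U hU) k)}

/-- chartwise product -/
noncomputable def cmul (lam : ∀ (U : Y.Opens) (hU : IsAffineOpen U),
      L ⟶ (Scheme.Modules.pushforward (RelProj.emb p chart U hU)).obj (GrTwist.twist (𝒮.deg U hU) m))
    (lam' : ∀ (U : Y.Opens) (hU : IsAffineOpen U),
      L' ⟶ (Scheme.Modules.pushforward (RelProj.emb p chart U hU)).obj (GrTwist.twist (𝒮.deg U hU) n))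
    (U : Y.Opens) (hU : IsAffineOpen U) {W : P.Opens} (s : Γ(L, W)) (t : Γ(L', W)) :
    Γ(GrTwist.twist (𝒮.deg U hU) k, RelProj.emb p chart U hU ⁻¹ᵁ W) :=
  GrTwTens.mulSec (𝒮.deg U hU) hk (U := op (RelProj.emb p chart U hU ⁻¹ᵁ W))
    ((lam U hU).app W s) ((lam' U hU).app W t)

theorem exists_mul (hP : RelProj.IsRelProj 𝒮 p chart) (hL : RelProj.IsRelTwist 𝒮 p chart m L lam)
    (hL' : RelProj.IsRelTwist 𝒮 p chart n L' lam') (hL'' : RelProj.IsRelTwist 𝒮 p chart k L'' lam'')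
    {W : P.Opens} (s : Γ(L, W)) (t : Γ(L', W)) :
    ∃ b : Γ(L'', W), ∀ (U : Y.Opens) (hU : IsAffineOpen U),
      (lam'' U hU).app W b = cmul hk lam lam' U hU s t := by
  apply exists_sec hP hL''
  intro U' U h y hy hy'
  change rd lam U'.1 U'.2 s y hy * rd lam' U'.1 U'.2 t y hy = _
  rw [compat' hL h s y hy hy', compat' hL' h t y hy hy', ← map_mul]
  rfl

/-- the relative multiplication pairing on sections -/
noncomputable def mulP (hP : RelProj.IsRelProj 𝒮 p chart) (hL : RelProj.IsRelTwist 𝒮 p chart m L lam)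
    (hL' : RelProj.IsRelTwist 𝒮 p chart n L' lam') (hL'' : RelProj.IsRelTwist 𝒮 p chart k L'' lam'')
    {W : P.Opens} (s : Γ(L, W)) (t : Γ(L', W)) : Γ(L'', W) :=
  (exists_mul hk hP hL hL' hL'' s t).choose

theorem lam_mulP (hP : RelProj.IsRelProj 𝒮 p chart) (hL : RelProj.IsRelTwist 𝒮 p chart m L lam)
    (hL' : RelProj.IsRelTwist 𝒮 p chart n L' lam') (hL'' : RelProj.IsRelTwist 𝒮 p chart k L'' lam'')
    {W : P.Opens} (s : Γ(L, W)) (t : Γ(L', W)) (U : Y.Opens) (hU : IsAffineOpen U) :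
    (lam'' U hU).app W (mulP hk hP hL hL' hL'' s t) = cmul hk lam lam' U hU s t :=
  (exists_mul hk hP hL hL' hL'' s t).choose_spec U hU

section
variable (hP : RelProj.IsRelProj 𝒮 p chart) (hL : RelProj.IsRelTwist 𝒮 p chart m L lam)
    (hL' : RelProj.IsRelTwist 𝒮 p chart n L' lam') (hL'' : RelProj.IsRelTwist 𝒮 p chart k L'' lam'')

theorem mulP_add_left {W : P.Opens} (s₁ s₂ : Γ(L, W)) (t : Γ(L', W)) :
    mulP hk hP hL hL' hL'' (s₁ + s₂) t = mulP hk hP hL hL' hL'' s₁ t + mulP hk hP hL hL' hL'' s₂ t := by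
  apply lam_ext hL''
  intro V hV
  rw [map_add, lam_mulP, lam_mulP, lam_mulP]
  unfold cmul
  rw [map_add]
  exact GrTwTens.mulSec_add_left (𝒮.deg V hV) hk _ _ _

theorem mulP_add_right {W : P.Opens} (s : Γ(L, W)) (t₁ t₂ : Γ(L', W)) :
    mulP hk hP hL hL' hL'' s (t₁ + t₂) = mulP hk hP hL hL' hL'' s t₁ + mulP hk hP hL hL' hL'' s t₂ := by
  apply lam_ext hL''
  intro V hV
  rw [map_add, lam_mulP, lam_mulP, lam_mulP]
  unfold cmul
  rw [map_add]
  exact GrTwTens.mulSec_add_right (𝒮.deg V hV) hk _ _ _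

theorem mulP_smul_left {W : P.Opens} (a : Γ(P, W)) (s : Γ(L, W)) (t : Γ(L', W)) :
    mulP hk hP hL hL' hL'' (a • s) t = a • mulP hk hP hL hL' hL'' s t := by
  apply lam_ext hL''
  intro V hV
  rw [lam_mulP]
  refine Eq.trans ?_ (lam_smul (lam := lam'') V hV W a _).symm
  rw [lam_mulP]
  unfold cmul
  rw [lam_smul]
  exact GrTwTens.mulSec_smul_left (𝒮.deg V hV) hk _ _ _

theorem mulP_smul_right {W : P.Opens} (a : Γ(P, W)) (s : Γ(L, W)) (t : Γ(L', W)) :
    mulP hk hP hL hL' hL'' s (a • t) = a • mulP hk hP hL hL' hL'' s t := by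
  apply lam_ext hL''
  intro V hV
  rw [lam_mulP]
  refine Eq.trans ?_ (lam_smul (lam := lam'') V hV W a _).symm
  rw [lam_mulP]
  unfold cmul
  rw [lam_smul]
  exact GrTwTens.mulSec_smul_right (𝒮.deg V hV) hk _ _ _

theorem mulP_res {W W' : P.Opens} (h : W' ≤ W) (s : Γ(L, W)) (t : Γ(L', W)) :
    res L'' h (mulP hk hP hL hL' hL'' s t) = mulP hk hP hL hL' hL'' (res L h s) (res L' h t) := by
  apply lam_ext hL''
  intro V hV
  rw [lam_res', lam_mulP, lam_mulP]
  unfold cmul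
  rw [lam_res', lam_res']
  rfl

end

noncomputable def pairing (hP : RelProj.IsRelProj 𝒮 p chart)
    (hL : RelProj.IsRelTwist 𝒮 p chart m L lam)
    (hL' : RelProj.IsRelTwist 𝒮 p chart n L' lam') (hL'' : RelProj.IsRelTwist 𝒮 p chart k L'' lam'') :
    TensLib.Pairing L L' L'' where
  β U s t := mulP hk hP hL hL' hL'' (W := U.unop) s t
  add_left U s₁ s₂ t := mulP_add_left hk hP hL hL' hL'' (W := U.unop) s₁ s₂ t
  smul_left U a s t := mulP_smul_left hk hP hL hL' hL'' (W := U.unop) a s t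
  add_right U s t₁ t₂ := mulP_add_right hk hP hL hL' hL'' (W := U.unop) s t₁ t₂
  smul_right U a s t := mulP_smul_right hk hP hL hL' hL'' (W := U.unop) a s t
  nat {U V} f s t := by
    have hle : V.unop ≤ U.unop := f.unop.le
    exact mulP_res hk hP hL hL' hL'' hle s t

end Pair

theorem bijective_smul_of_lam {n : ℤ} {L : P.Modules}
    {lam : ∀ (U : Y.Opens) (hU : IsAffineOpen U),
      L ⟶ (Scheme.Modules.pushforward (RelProj.emb p chart U hU)).obj (GrTwist.twist (𝒮.deg U hU) n)}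
    (hL : RelProj.IsRelTwist 𝒮 p chart n L lam) (U : Y.Opens) (hU : IsAffineOpen U)
    {V : P.Opens} (hV : V ≤ p ⁻¹ᵁ U) (a : Γ(L, V))
    (h : Function.Bijective
      (fun r' : Γ(Proj (𝒮.deg U hU), RelProj.emb p chart U hU ⁻¹ᵁ V) =>
        r' • (show Γ(GrTwist.twist (𝒮.deg U hU) n, RelProj.emb p chart U hU ⁻¹ᵁ V) from
          (lam U hU).app V a))) :
    Function.Bijective (fun r : Γ(P, V) => r • a) := by
  let g : Γ(L, V) → Γ(GrTwist.twist (𝒮.deg U hU) n, RelProj.emb p chart U hU ⁻¹ᵁ V) :=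
    fun s => (lam U hU).app V s
  have h1 : Function.Bijective g := hL.bijective U hU V hV
  have h2 := h.comp (emb_app_bijective (p := p) (chart := chart) U hU V hV)
  rw [← Function.Bijective.of_comp_iff' h1]
  have h3 : (g ∘ fun r : Γ(P, V) => r • a) =
      ((fun r' : Γ(Proj (𝒮.deg U hU), RelProj.emb p chart U hU ⁻¹ᵁ V) =>
        r' • (show Γ(GrTwist.twist (𝒮.deg U hU) n, RelProj.emb p chart U hU ⁻¹ᵁ V) from
            (lam U hU).app V a)) ∘ ⇑((RelProj.emb p chart U hU).app V).hom) := by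
    funext r
    simp only [Function.comp, g]
    rw [lam_smul]
  rw [h3]
  exact h2

section Pair2
variable {m n k : ℤ} (hk : k = m + n) {L L' L'' : P.Modules}
  {lam : ∀ (U : Y.Opens) (hU : IsAffineOpen U),
    L ⟶ (Scheme.Modules.pushforward (RelProj.emb p chart U hU)).obj (GrTwist.twist (𝒮.deg U hU) m)}
  {lam' : ∀ (U : Y.Opens) (hU : IsAffineOpen U),
    L' ⟶ (Scheme.Modules.pushforward (RelProj.emb p chart U hU)).obj (GrTwist.twist (𝒮.deg U hU) n)}
  {lam'' : ∀ (U : Y.Opens) (hU : IsAffineOpen U),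
    L'' ⟶ (Scheme.Modules.pushforward (RelProj.emb p chart U hU)).obj (GrTwist.twist (𝒮.deg U hU) k)}

include hk in
/-- `O_P(m) ⊗ O_P(n) ≅ O_P(m+n)` when `P` is covered by chart opens on which `O(m)` has a
monomial generator -/
theorem nonempty_tensorMod_iso (hP : RelProj.IsRelProj 𝒮 p chart)
    (hL : RelProj.IsRelTwist 𝒮 p chart m L lam)
    (hL' : RelProj.IsRelTwist 𝒮 p chart n L' lam') (hL'' : RelProj.IsRelTwist 𝒮 p chart k L'' lam'')
    (hcov : ∀ x : P, ∃ (U : Y.Opens) (hU : IsAffineOpen U) (i j : ℕ) (a b : 𝒮.presheaf.obj (op U)),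
      a ∈ 𝒮.deg U hU i ∧ b ∈ 𝒮.deg U hU j ∧ (i : ℤ) = j + m ∧
        ∃ y : ProjectiveSpectrum (𝒮.deg U hU), (RelProj.emb p chart U hU).base y = x ∧
          a ∉ y.asHomogeneousIdeal ∧ b ∉ y.asHomogeneousIdeal) :
    Nonempty (CohB1.tensorMod L L' ≅ L'') := by
  refine (pairing hk hP hL hL' hL'').nonempty_tensorMod_iso
    (fun V : P.Opens => ∃ (U : Y.Opens) (hU : IsAffineOpen U) (i j : ℕ)
      (a b : 𝒮.presheaf.obj (op U)), a ∈ 𝒮.deg U hU i ∧ b ∈ 𝒮.deg U hU j ∧ (i : ℤ) = j + m ∧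
        V ≤ p ⁻¹ᵁ U ∧ ∀ y : ProjectiveSpectrum (𝒮.deg U hU), (RelProj.emb p chart U hU).base y ∈ V →
          a ∉ y.asHomogeneousIdeal ∧ b ∉ y.asHomogeneousIdeal) ?_ ?_ ?_
  · intro x
    obtain ⟨U, hU, i, j, a, b, ha, hb, hm, y, rfl, hay, hby⟩ := hcov x
    refine ⟨RelProj.emb p chart U hU ''ᵁ
      (Proj.basicOpen (𝒮.deg U hU) a ⊓ Proj.basicOpen (𝒮.deg U hU) b),
      ⟨U, hU, i, j, a, b, ha, hb, hm, ?_, ?_⟩, ?_⟩
    · rw [← opensRange_emb (p := p) (chart := chart) U hU]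
      exact (RelProj.emb p chart U hU).image_le_opensRange _
    · rintro z ⟨w, hw, hwz⟩
      have : w = z := (RelProj.emb p chart U hU).isOpenEmbedding.injective hwz
      subst this
      exact ⟨(Proj.mem_basicOpen _ a w).1 hw.1, (Proj.mem_basicOpen _ b w).1 hw.2⟩
    · exact ⟨y, ⟨(Proj.mem_basicOpen _ a y).2 hay, (Proj.mem_basicOpen _ b y).2 hby⟩, rfl⟩
  · rintro V V' ⟨U, hU, i, j, a, b, ha, hb, hm, hV, h⟩ hle
    exact ⟨U, hU, i, j, a, b, ha, hb, hm, hle.trans hV, fun y hy => h y (hle hy)⟩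
  · rintro V ⟨U, hU, i, j, a, b, ha, hb, hm, hV, h⟩
    obtain ⟨σ, hσ⟩ := (hL.bijective U hU V hV).2
      (GrTwTriv.fracSec (𝒮.deg U hU) ha hb hm (RelProj.emb p chart U hU ⁻¹ᵁ V)
        (fun x => (h x.1 x.2).2))
    refine ⟨σ, ?_, ?_⟩
    · apply bijective_smul_of_lam hL U hU hV σ
      rw [hσ]
      exact GrTwTriv.fracSec_bijective (𝒮.deg U hU) ha hb hm _ (fun x => (h x.1 x.2).2)
        (fun x => (h x.1 x.2).1)
    · let g' : Γ(L', V) → Γ(GrTwist.twist (𝒮.deg U hU) n, RelProj.emb p chart U hU ⁻¹ᵁ V) :=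
        fun s => (lam' U hU).app V s
      have h1' : Function.Bijective g' := hL'.bijective U hU V hV
      let g'' : Γ(L'', V) → Γ(GrTwist.twist (𝒮.deg U hU) k, RelProj.emb p chart U hU ⁻¹ᵁ V) :=
        fun s => (lam'' U hU).app V s
      have h1'' : Function.Bijective g'' := hL''.bijective U hU V hV
      have h2 := GrTwTens.mulSec_fracSec_bijective (𝒮.deg U hU) ha hb hm hk
        (RelProj.emb p chart U hU ⁻¹ᵁ V) (fun x => (h x.1 x.2).2) (fun x => (h x.1 x.2).1)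
      change Function.Bijective (fun t : Γ(L', V) => mulP hk hP hL hL' hL'' σ t)
      rw [← Function.Bijective.of_comp_iff' h1'']
      have h3 : (g'' ∘ fun t : Γ(L', V) => mulP hk hP hL hL' hL'' σ t) =
          (fun t => GrTwTens.mulSec (𝒮.deg U hU) hk
            (GrTwTriv.fracSec (𝒮.deg U hU) ha hb hm (RelProj.emb p chart U hU ⁻¹ᵁ V)
              (fun x => (h x.1 x.2).2)) t) ∘ g' := by
        funext t
        simp only [Function.comp, g'', g']
        rw [lam_mulP]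
        unfold cmul
        rw [hσ]
      rw [h3]
      exact h2.comp h1'

end Pair2

end Groth.Agent.Helper1.RP8
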