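import Mathlib
import Groth.Agent.Lib.Helper1.RP8
import Groth.Agent.Lib.Helper1.ModGlue
import Groth.Agent.Lib.Helper1.ILoc

set_option autoImplicit false
universe u

open CategoryTheory CategoryTheory.Limits AlgebraicGeometry TopologicalSpace Opposite
open scoped HomogeneousIdeal

namespace Groth.Agent.Helper1.RP9

open Groth.Agent.Helper1.ProjBC Groth.Agent.Helper1.RP3 Groth.Agent.Helper1.QcCech Groth.Agent.Helper1.RP6
open Groth.Agent.Helper1.LGen Groth.Agent.Helper1.RP7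

variable {Y P : Scheme.{u}} {𝒮 : RelProj.QCGrAlg Y} {p : P ⟶ Y}
  {chart : ∀ (U : Y.Opens) (hU : IsAffineOpen U), ((p ⁻¹ᵁ U : P.Opens) : Scheme.{u}) ≅ Proj (𝒮.deg U hU)}

/-- the chartwise module -/
noncomputable abbrev FV (p : P ⟶ Y)
    (chart : ∀ (U : Y.Opens) (hU : IsAffineOpen U),
      ((p ⁻¹ᵁ U : P.Opens) : Scheme.{u}) ≅ Proj (𝒮.deg U hU))
    (n : ℤ) (V : Y.AffineZariskiSite) : P.Modules :=
  (Scheme.Modules.pushforward (RelProj.emb p chart V.1 V.2)).obj (GrTwist.twist (𝒮.deg V.1 V.2) n)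

/-- the transition map -/
noncomputable def cmap (hP : RelProj.IsRelProj 𝒮 p chart) (n : ℤ) {D V : Y.AffineZariskiSite}
    (h : D ≤ V) : FV p chart n V ⟶ FV p chart n D :=
  (Scheme.Modules.pushforward (RelProj.emb p chart V.1 V.2)).map
      (GrTwist.comap (𝒮.res V.2 D.2 (Scheme.AffineZariskiSite.toOpens_mono h)) (RP2.hirr 𝒮 h) n) ≫
    (Scheme.Modules.pushforwardComp
      (Proj.map (𝒮.res V.2 D.2 (Scheme.AffineZariskiSite.toOpens_mono h)) (RP2.hirr 𝒮 h))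
      (RelProj.emb p chart V.1 V.2)).hom.app (GrTwist.twist (𝒮.deg D.1 D.2) n) ≫
    (Scheme.Modules.pushforwardCongr (RP5.map_res_emb' hP h)).hom.app
      (GrTwist.twist (𝒮.deg D.1 D.2) n)

theorem cmap_val (hP : RelProj.IsRelProj 𝒮 p chart) (n : ℤ) {D V : Y.AffineZariskiSite}
    (h : D ≤ V) (W : P.Opens) (τ : Γ(FV p chart n V, W))
    (y : ProjectiveSpectrum (𝒮.deg D.1 D.2)) (hy : (RelProj.emb p chart D.1 D.2).base y ∈ W)
    (hy' : (RelProj.emb p chart V.1 V.2).base (ProjectiveSpectrum.comap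
      (𝒮.res V.2 D.2 (Scheme.AffineZariskiSite.toOpens_mono h)) (RP2.hirr 𝒮 h) y) ∈ W) :
    GrTwist.val (V := RelProj.emb p chart D.1 D.2 ⁻¹ᵁ W) ((cmap hP n h).app W τ) ⟨y, hy⟩ =
      GrTwist.locMap (𝒮.res V.2 D.2 (Scheme.AffineZariskiSite.toOpens_mono h)) (RP2.hirr 𝒮 h) y
        (GrTwist.val (V := RelProj.emb p chart V.1 V.2 ⁻¹ᵁ W) τ ⟨_, hy'⟩) := rfl

section Alg
variable {A σ : Type u} [CommRing A] [SetLike σ A] [AddSubgroupClass σ A] {𝒜 : ℕ → σ} [GradedRing 𝒜]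

/-- local fraction representation of a section of `O(n)` -/
theorem exists_frac {n : ℤ} {V : (Proj 𝒜).Opens} (τ : Γ(GrTwist.twist 𝒜 n, V))
    (z₀ : ProjectiveSpectrum 𝒜) (hz₀ : z₀ ∈ V) :
    ∃ (N : (Proj 𝒜).Opens) (hN : N ≤ V) (_ : z₀ ∈ N) (i j : ℕ) (a : 𝒜 i) (s : 𝒜 j)
      (hs : ∀ z : ProjectiveSpectrum 𝒜, z ∈ N → (s : A) ∉ z.asHomogeneousIdeal),
      ((i : ℤ) = j + n ∨ (a : A) = 0) ∧
      ∀ (z : ProjectiveSpectrum 𝒜) (hz : z ∈ N),
        GrTwist.val τ ⟨z, hN hz⟩ = Localization.mk (a : A) ⟨s, hs z hz⟩ := by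
  obtain ⟨N, hzN, iN, i, j, a, s, hs, hij, hval⟩ :=
    (τ : GrTwist.sectN (𝒜 := 𝒜) n (op V)).2 ⟨z₀, hz₀⟩
  exact ⟨N, iN.le, hzN, i, j, a, s, fun z hz => hs ⟨z, hz⟩, hij, fun z hz => hval ⟨z, hz⟩⟩

end Alg

section Alg2
variable {A σ : Type u} [CommRing A] [SetLike σ A] [AddSubgroupClass σ A] {𝒜 : ℕ → σ} [GradedRing 𝒜]
variable {B τ : Type u} [CommRing B] [SetLike τ B] [AddSubgroupClass τ B] {ℬ : ℕ → τ} [GradedRing ℬ]
variable {C υ : Type u} [CommRing C] [SetLike υ C] [AddSubgroupClass υ C] {𝒞 : ℕ → υ} [GradedRing 𝒞]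

theorem mem_comap_iff (ψ : 𝒜 →+*ᵍ ℬ) (hψ : ℬ₊ ≤ (𝒜₊).map ψ) (y : ProjectiveSpectrum ℬ) (a : A) :
    a ∈ (ProjectiveSpectrum.comap ψ hψ y).asHomogeneousIdeal ↔ ψ a ∈ y.asHomogeneousIdeal :=
  Iff.rfl

theorem comap_id_of_apply (ψ : 𝒜 →+*ᵍ 𝒜) (hψ : 𝒜₊ ≤ (𝒜₊).map ψ) (h : ∀ a, ψ a = a)
    (y : ProjectiveSpectrum 𝒜) : ProjectiveSpectrum.comap ψ hψ y = y := by
  apply ProjectiveSpectrum.ext
  apply HomogeneousIdeal.ext
  ext a
  change ψ a ∈ y.asHomogeneousIdeal ↔ _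
  rw [h]
  rfl

theorem comap_comp_of_apply (ψ : 𝒜 →+*ᵍ ℬ) (hψ : ℬ₊ ≤ (𝒜₊).map ψ)
    (ψ' : ℬ →+*ᵍ 𝒞) (hψ' : 𝒞₊ ≤ (ℬ₊).map ψ') (ψ'' : 𝒜 →+*ᵍ 𝒞) (hψ'' : 𝒞₊ ≤ (𝒜₊).map ψ'')
    (h : ∀ a, ψ'' a = ψ' (ψ a)) (y : ProjectiveSpectrum 𝒞) :
    ProjectiveSpectrum.comap ψ'' hψ'' y =
      ProjectiveSpectrum.comap ψ hψ (ProjectiveSpectrum.comap ψ' hψ' y) := by
  apply ProjectiveSpectrum.ext
  apply HomogeneousIdeal.ext
  ext a
  change ψ'' a ∈ y.asHomogeneousIdeal ↔ ψ' (ψ a) ∈ y.asHomogeneousIdeal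
  rw [h]

end Alg2

theorem res_id_apply (V : Y.AffineZariskiSite) (a : 𝒮.presheaf.obj (op V.1)) :
    𝒮.res V.2 V.2 (Scheme.AffineZariskiSite.toOpens_mono (le_refl V)) a = a := by
  rw [RelProj.QCGrAlg.res_apply]
  have : (homOfLE (Scheme.AffineZariskiSite.toOpens_mono (le_refl V))).op = 𝟙 (op V.1) :=
    Subsingleton.elim _ _
  rw [this, CategoryTheory.Functor.map_id]
  rfl

theorem res_comp_apply {D' D V : Y.AffineZariskiSite} (h' : D' ≤ D) (h : D ≤ V)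
    (a : 𝒮.presheaf.obj (op V.1)) :
    𝒮.res V.2 D'.2 (Scheme.AffineZariskiSite.toOpens_mono (h'.trans h)) a =
      𝒮.res D.2 D'.2 (Scheme.AffineZariskiSite.toOpens_mono h')
        (𝒮.res V.2 D.2 (Scheme.AffineZariskiSite.toOpens_mono h) a) := by
  simp only [RelProj.QCGrAlg.res_apply]
  change _ = ((𝒮.presheaf.map (homOfLE (Scheme.AffineZariskiSite.toOpens_mono h)).op) ≫
    (𝒮.presheaf.map (homOfLE (Scheme.AffineZariskiSite.toOpens_mono h')).op)).hom a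
  rw [← Functor.map_comp]
  rfl

theorem cmap_id (hP : RelProj.IsRelProj 𝒮 p chart) (n : ℤ) (V : Y.AffineZariskiSite) :
    cmap hP n (le_refl V) = 𝟙 (FV p chart n V) := by
  apply Scheme.Modules.hom_ext
  intro W
  ext τ
  apply val_ext
  rintro ⟨y, hy⟩
  have hy' := mem_of_mem hP (le_refl V) y hy
  refine (cmap_val hP n (le_refl V) W τ y hy hy').trans ?_
  have hcy := comap_id_of_apply (𝒮.res V.2 V.2 (Scheme.AffineZariskiSite.toOpens_mono (le_refl V)))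
    (RP2.hirr 𝒮 (le_refl V)) (res_id_apply V) y
  obtain ⟨N, hN, hzN, i, j, a, s, hs, -, hval⟩ := exists_frac
    (show Γ(GrTwist.twist (𝒮.deg V.1 V.2) n, RelProj.emb p chart V.1 V.2 ⁻¹ᵁ W) from τ) _ hy'
  have hyN : y ∈ N := by rw [← hcy]; exact hzN
  rw [hval _ hzN, GrTwist.locMap_mk]
  refine Eq.trans ?_ (hval y hyN).symm
  congr 1
  · exact res_id_apply V _
  · exact Subtype.ext (res_id_apply V _)

theorem cmap_comp (hP : RelProj.IsRelProj 𝒮 p chart) (n : ℤ) {D' D V : Y.AffineZariskiSite}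
    (h' : D' ≤ D) (h : D ≤ V) : cmap hP n h ≫ cmap hP n h' = cmap hP n (h'.trans h) := by
  apply Scheme.Modules.hom_ext
  intro W
  ext τ
  apply val_ext
  rintro ⟨y, hy⟩
  have hy1 := mem_of_mem hP h' y hy
  have hy2 := mem_of_mem hP h _ hy1
  have hy3 := mem_of_mem hP (h'.trans h) y hy
  refine Eq.trans ?_ (cmap_val hP n (h'.trans h) W τ y hy hy3).symm
  refine (cmap_val hP n h' W ((cmap hP n h).app W τ) y hy hy1).trans ?_
  rw [cmap_val hP n h W τ _ hy1 hy2]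
  have hcy := comap_comp_of_apply _ (RP2.hirr 𝒮 h) _ (RP2.hirr 𝒮 h') _ (RP2.hirr 𝒮 (h'.trans h))
    (res_comp_apply h' h) y
  obtain ⟨N, hN, hzN, i, j, a, s, hs, -, hval⟩ := exists_frac
    (show Γ(GrTwist.twist (𝒮.deg V.1 V.2) n, RelProj.emb p chart V.1 V.2 ⁻¹ᵁ W) from τ) _ hy2
  have hyN : ProjectiveSpectrum.comap _ (RP2.hirr 𝒮 (h'.trans h)) y ∈ N := by
    rw [hcy]; exact hzN
  rw [hval _ hzN, hval _ hyN, GrTwist.locMap_mk, GrTwist.locMap_mk, GrTwist.locMap_mk]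
  congr 1
  · exact (res_comp_apply h' h _).symm
  · exact Subtype.ext (res_comp_apply h' h _).symm

/-- the diagram of chartwise twisting sheaves -/
noncomputable def Ffun (hP : RelProj.IsRelProj 𝒮 p chart) (n : ℤ) :
    (Y.AffineZariskiSite)ᵒᵖ ⥤ P.Modules where
  obj V := FV p chart n V.unop
  map {V D} f := cmap hP n f.unop.le
  map_id V := cmap_id hP n V.unop
  map_comp {V D D'} f g := (cmap_comp hP n g.unop.le f.unop.le).symm

theorem isAwayLoc_res {D V : Y.AffineZariskiSite} (h : D ≤ V) :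
    ∃ c, ILoc.IsAwayLoc (𝒮.res V.2 D.2 (Scheme.AffineZariskiSite.toOpens_mono h)) c := by
  obtain ⟨D, hD⟩ := D
  obtain ⟨r, hr⟩ := h
  change Y.basicOpen r = D at hr
  subst hr
  obtain ⟨V, hV⟩ := V
  let ψ := 𝒮.res hV (hV.basicOpen r) (Y.basicOpen_le r)
  let _inst := (𝒮.presheaf.map (homOfLE (Y.basicOpen_le r)).op).hom.toAlgebra
  let c := (𝒮.str.app (op V)).hom r
  have hloc : IsLocalization.Away c (𝒮.presheaf.obj (op (Y.basicOpen r))) := 𝒮.isQC V hV r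
  refine ⟨c, 𝒮.str_mem V hV r, ?_, ?_, ?_⟩
  · exact IsLocalization.map_units (M := Submonoid.powers c)
      (𝒮.presheaf.obj (op (Y.basicOpen r))) ⟨c, 1, pow_one c⟩
  · intro b
    obtain ⟨⟨a, s, hs⟩, has⟩ := IsLocalization.surj (Submonoid.powers c) b
    obtain ⟨k, rfl⟩ := (Submonoid.mem_powers_iff _ _).mp hs
    refine ⟨a, k, ?_⟩
    change b * ψ (c ^ k) = ψ a at has
    rw [← has, map_pow]
  · intro a ha
    have h0 : algebraMap (𝒮.presheaf.obj (op V)) (𝒮.presheaf.obj (op (Y.basicOpen r))) a =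
        algebraMap (𝒮.presheaf.obj (op V)) (𝒮.presheaf.obj (op (Y.basicOpen r))) 0 := by
      rw [map_zero]; exact ha
    obtain ⟨⟨m, hm⟩, hma⟩ := IsLocalization.exists_of_eq (M := Submonoid.powers c) h0
    obtain ⟨k, rfl⟩ := (Submonoid.mem_powers_iff _ _).mp hm
    exact ⟨k, by simpa using hma⟩

theorem isOpenImmersion_map (hP : RelProj.IsRelProj 𝒮 p chart) {D V : Y.AffineZariskiSite}
    (h : D ≤ V) :
    IsOpenImmersion (Proj.map (𝒮.res V.2 D.2 (Scheme.AffineZariskiSite.toOpens_mono h))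
      (RP2.hirr 𝒮 h)) := by
  have : IsOpenImmersion (Proj.map (𝒮.res V.2 D.2 (Scheme.AffineZariskiSite.toOpens_mono h))
      (RP2.hirr 𝒮 h) ≫ RelProj.emb p chart V.1 V.2) := by
    rw [RP5.map_res_emb' hP h]; infer_instance
  exact IsOpenImmersion.of_comp _ (RelProj.emb p chart V.1 V.2)

theorem cmap_app_bijective (hP : RelProj.IsRelProj 𝒮 p chart) (n : ℤ) {D V : Y.AffineZariskiSite}
    (h : D ≤ V) (W : P.Opens) (hW : W ≤ p ⁻¹ᵁ D.1) :
    Function.Bijective ((cmap hP n h).app W) := by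
  obtain ⟨c, hc⟩ := isAwayLoc_res (𝒮 := 𝒮) h
  have := isOpenImmersion_map hP h
  have hemb := (Proj.map (𝒮.res V.2 D.2 (Scheme.AffineZariskiSite.toOpens_mono h))
      (RP2.hirr 𝒮 h)).isOpenEmbedding
  have hUV : (RelProj.emb p chart D.1 D.2 ⁻¹ᵁ W).1 ⊆
      ProjectiveSpectrum.comap (𝒮.res V.2 D.2 (Scheme.AffineZariskiSite.toOpens_mono h))
        (RP2.hirr 𝒮 h) ⁻¹' (RelProj.emb p chart V.1 V.2 ⁻¹ᵁ W).1 :=
    fun y hy => mem_of_mem hP h y hy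
  have hVU : ∀ x ∈ (RelProj.emb p chart V.1 V.2 ⁻¹ᵁ W),
      ∃ y ∈ (RelProj.emb p chart D.1 D.2 ⁻¹ᵁ W),
        ProjectiveSpectrum.comap (𝒮.res V.2 D.2 (Scheme.AffineZariskiSite.toOpens_mono h))
          (RP2.hirr 𝒮 h) y = x := by
    intro x hx
    have hx' : (RelProj.emb p chart V.1 V.2).base x ∈ (RelProj.emb p chart D.1 D.2).opensRange := by
      rw [opensRange_emb]; exact hW hx
    obtain ⟨y, hy⟩ := hx'
    have hy2 : (RelProj.emb p chart V.1 V.2).base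
        (ProjectiveSpectrum.comap (𝒮.res V.2 D.2 (Scheme.AffineZariskiSite.toOpens_mono h))
          (RP2.hirr 𝒮 h) y) = (RelProj.emb p chart V.1 V.2).base x := by
      rw [← hy, ← RP5.map_res_emb' hP h]; rfl
    refine ⟨y, ?_, (RelProj.emb p chart V.1 V.2).isOpenEmbedding.injective hy2⟩
    change (RelProj.emb p chart D.1 D.2).base y ∈ W
    rw [hy]; exact hx
  have hb := hc.comapApp_bijective (RP2.hirr 𝒮 h) n hemb.injective hemb.isOpenMap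
    (RelProj.emb p chart V.1 V.2 ⁻¹ᵁ W) (RelProj.emb p chart D.1 D.2 ⁻¹ᵁ W) hUV hVU
  have heq : ∀ τ : Γ(FV p chart n V, W),
      (show Γ(GrTwist.twist (𝒮.deg D.1 D.2) n, RelProj.emb p chart D.1 D.2 ⁻¹ᵁ W) from
        (cmap hP n h).app W τ) =
      GrTwist.comapApp (𝒮.res V.2 D.2 (Scheme.AffineZariskiSite.toOpens_mono h)) (RP2.hirr 𝒮 h) n
        (RelProj.emb p chart V.1 V.2 ⁻¹ᵁ W) (RelProj.emb p chart D.1 D.2 ⁻¹ᵁ W) hUV τ := by
    intro τ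
    apply val_ext
    rintro ⟨y, hy⟩
    rfl
  constructor
  · intro τ τ' e
    have e' := (heq τ).symm.trans (e.trans (heq τ'))
    exact hb.1 e'
  · intro σ
    obtain ⟨τ, hτ⟩ := hb.2 σ
    exact ⟨τ, (heq τ).trans hτ⟩

theorem res_bijective_of_le {X : Scheme.{u}} (M : X.Modules) {O O' : X.Opens} (h : O' ≤ O)
    (h' : O ≤ O') : Function.Bijective (res M h) := by
  obtain rfl : O' = O := le_antisymm h h'
  have : ⇑(res M h) = id := by
    funext s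
    exact res_self M h s
  rw [this]
  exact Function.bijective_id

theorem FV_res_bijective (n : ℤ) (V : Y.AffineZariskiSite) (W : P.Opens) :
    Function.Bijective (res (FV p chart n V) (inf_le_left : W ⊓ p ⁻¹ᵁ V.1 ≤ W)) := by
  have h1 : RelProj.emb p chart V.1 V.2 ⁻¹ᵁ W ≤ RelProj.emb p chart V.1 V.2 ⁻¹ᵁ (W ⊓ p ⁻¹ᵁ V.1) :=
    fun y hy => ⟨hy, emb_mem_preimage V.1 V.2 y⟩
  exact res_bijective_of_le (GrTwist.twist (𝒮.deg V.1 V.2) n)
    ((RelProj.emb p chart V.1 V.2).preimage_mono (inf_le_left : W ⊓ p ⁻¹ᵁ V.1 ≤ W)) h1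

/-- existence of `O_P(n)` -/
theorem exists_isRelTwist (hP : RelProj.IsRelProj 𝒮 p chart) (n : ℤ) :
    ∃ (L : P.Modules) (lam : ∀ (U : Y.Opens) (hU : IsAffineOpen U),
      L ⟶ (Scheme.Modules.pushforward (RelProj.emb p chart U hU)).obj
        (GrTwist.twist (𝒮.deg U hU) n)),
      RelProj.IsRelTwist 𝒮 p chart n L lam := by
  refine ⟨limit (Ffun hP n), fun U hU => limit.π (Ffun hP n) (op ⟨U, hU⟩), ?_, ?_⟩
  · intro U hU W hW
    exact ModGlue.π_bijective (Ffun hP n) (fun V : Y.AffineZariskiSite => p ⁻¹ᵁ V.1)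
      (fun {k i} h => p.preimage_mono (Scheme.AffineZariskiSite.toOpens_mono h))
      (fun i j x hxi hxj => by
        obtain ⟨D, hDi, hDj, hxD⟩ : ∃ D : Y.AffineZariskiSite, D ≤ i ∧ D ≤ j ∧ p.base x ∈ D.1 :=
          RP5.exists_common_basicOpen i.2 j.2 (p.base x) ⟨hxi, hxj⟩
        exact ⟨D, hDi, hDj, hxD⟩)
      (fun i W => FV_res_bijective n i W)
      (fun {k i} h W hW => cmap_app_bijective hP n h W hW) ⟨U, hU⟩ W hW
  · intro U hU r W s y hy hy'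
    have hle : @LE.le Y.AffineZariskiSite _ ⟨Y.basicOpen r, hU.basicOpen r⟩ ⟨U, hU⟩ := ⟨r, rfl⟩
    have h1 := ModGlue.π_c (Ffun hP n) hle s
    have h2 := cmap_val hP n hle W ((limit.π (Ffun hP n) (op ⟨U, hU⟩)).app W s) y hy hy'
    refine Eq.trans ?_ h2
    exact congrArg (fun t : Γ(GrTwist.twist (𝒮.deg (Y.basicOpen r) (hU.basicOpen r)) n,
      RelProj.emb p chart (Y.basicOpen r) (hU.basicOpen r) ⁻¹ᵁ W) =>
        GrTwist.val t ⟨y, hy⟩) h1.symm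

end Groth.Agent.Helper1.RP9
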