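import Mathlib
import Groth.Agent.Lib.Helper1.RP9

set_option autoImplicit false
universe u

open CategoryTheory CategoryTheory.Limits AlgebraicGeometry TopologicalSpace Opposite
open scoped HomogeneousIdeal

namespace Groth.Agent.Helper1.RP10

open Groth.Agent.Helper1.ProjBC Groth.Agent.Helper1.RP3 Groth.Agent.Helper1.QcCech Groth.Agent.Helper1.RP6
open Groth.Agent.Helper1.LGen Groth.Agent.Helper1.RP7 Groth.Agent.Helper1.RP8

variable {Y P : Scheme.{u}} {𝒮 : RelProj.QCGrAlg Y} {p : P ⟶ Y}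
  {chart : ∀ (U : Y.Opens) (hU : IsAffineOpen U), ((p ⁻¹ᵁ U : P.Opens) : Scheme.{u}) ≅ Proj (𝒮.deg U hU)}

/-- `O_P(0)` has a global free generator -/
theorem exists_isGen_zero (hP : RelProj.IsRelProj 𝒮 p chart) {L : P.Modules}
    {lam : ∀ (U : Y.Opens) (hU : IsAffineOpen U),
      L ⟶ (Scheme.Modules.pushforward (RelProj.emb p chart U hU)).obj
        (GrTwist.twist (𝒮.deg U hU) 0)}
    (hL : RelProj.IsRelTwist 𝒮 p chart 0 L lam) : ∃ σ : Γ(L, ⊤), IsGen L ⊤ σ := by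
  have key : ∀ (m : ℤ) (hm : m = 0 * ((0 : ℕ) : ℤ)) {L : P.Modules}
      {lam : ∀ (U : Y.Opens) (hU : IsAffineOpen U),
        L ⟶ (Scheme.Modules.pushforward (RelProj.emb p chart U hU)).obj
          (GrTwist.twist (𝒮.deg U hU) m)}
      (hL : RelProj.IsRelTwist 𝒮 p chart m L lam), ∃ σ : Γ(L, ⊤), IsGen L ⊤ σ := by
    intro m hm L lam hL
    subst hm
    have h1 : ∀ (U : Y.Opens), (𝒮.presheaf.map (homOfLE (le_top : U ≤ ⊤)).op).hom 1 = 1 :=
      fun U => map_one _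
    refine exists_isGen_basicOpen hP (d := 0) (1 : 𝒮.presheaf.obj (op ⊤)) ?_ ⊤ ?_ 0 hL
    · intro U hU
      rw [h1]
      exact SetLike.GradedOne.one_mem
    · intro U hU
      rw [h1]
      have : Proj.basicOpen (𝒮.deg U hU) 1 = ⊤ := Proj.basicOpen_one _
      rw [this]
      simp
  exact key 0 (by simp) hL

section Restrict
variable {X Z : Scheme.{u}}

/-- restriction of a pairing along an open immersion -/
noncomputable def pairingRestrict {M N T : X.Modules} (π : TensLib.Pairing M N T) (j : Z ⟶ X)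
    [IsOpenImmersion j] : TensLib.Pairing (M.restrict j) (N.restrict j) (T.restrict j) where
  β U s t := π.β (op (j ''ᵁ U.unop)) s t
  add_left U s₁ s₂ t := π.add_left (op (j ''ᵁ U.unop)) s₁ s₂ t
  smul_left U a s t := π.smul_left (op (j ''ᵁ U.unop)) ((j.appIso U.unop).inv a) s t
  add_right U s t₁ t₂ := π.add_right (op (j ''ᵁ U.unop)) s t₁ t₂
  smul_right U a s t := π.smul_right (op (j ''ᵁ U.unop)) ((j.appIso U.unop).inv a) s t
  nat {U V} f s t := π.nat (j.opensFunctor.map f.unop).op s t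

end Restrict

section Pair3
variable {m n k : ℤ} (hk : k = m + n) {L L' L'' : P.Modules}
  {lam : ∀ (U : Y.Opens) (hU : IsAffineOpen U),
    L ⟶ (Scheme.Modules.pushforward (RelProj.emb p chart U hU)).obj (GrTwist.twist (𝒮.deg U hU) m)}
  {lam' : ∀ (U : Y.Opens) (hU : IsAffineOpen U),
    L' ⟶ (Scheme.Modules.pushforward (RelProj.emb p chart U hU)).obj (GrTwist.twist (𝒮.deg U hU) n)}
  {lam'' : ∀ (U : Y.Opens) (hU : IsAffineOpen U),
    L'' ⟶ (Scheme.Modules.pushforward (RelProj.emb p chart U hU)).obj (GrTwist.twist (𝒮.deg U hU) k)}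

/-- opens of `P` on which `O_P(m)` has a monomial generator -/
def Good (𝒮 : RelProj.QCGrAlg Y) (p : P ⟶ Y)
    (chart : ∀ (U : Y.Opens) (hU : IsAffineOpen U),
      ((p ⁻¹ᵁ U : P.Opens) : Scheme.{u}) ≅ Proj (𝒮.deg U hU)) (m : ℤ) (V : P.Opens) : Prop :=
  ∃ (U : Y.Opens) (hU : IsAffineOpen U) (i j : ℕ)
      (a b : 𝒮.presheaf.obj (op U)), a ∈ 𝒮.deg U hU i ∧ b ∈ 𝒮.deg U hU j ∧ (i : ℤ) = j + m ∧
        V ≤ p ⁻¹ᵁ U ∧ ∀ y : ProjectiveSpectrum (𝒮.deg U hU), (RelProj.emb p chart U hU).base y ∈ V →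
          a ∉ y.asHomogeneousIdeal ∧ b ∉ y.asHomogeneousIdeal

theorem Good.mono {V V' : P.Opens} (h : Good 𝒮 p chart m V) (hle : V' ≤ V) :
    Good 𝒮 p chart m V' := by
  obtain ⟨U, hU, i, j, a, b, ha, hb, hm, hV, h⟩ := h
  exact ⟨U, hU, i, j, a, b, ha, hb, hm, hle.trans hV, fun y hy => h y (hle hy)⟩

theorem exists_good (x : P)
    (h : ∃ (U : Y.Opens) (hU : IsAffineOpen U) (i j : ℕ) (a b : 𝒮.presheaf.obj (op U)),
      a ∈ 𝒮.deg U hU i ∧ b ∈ 𝒮.deg U hU j ∧ (i : ℤ) = j + m ∧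
        ∃ y : ProjectiveSpectrum (𝒮.deg U hU), (RelProj.emb p chart U hU).base y = x ∧
          a ∉ y.asHomogeneousIdeal ∧ b ∉ y.asHomogeneousIdeal) :
    ∃ V : P.Opens, Good 𝒮 p chart m V ∧ x ∈ V := by
  obtain ⟨U, hU, i, j, a, b, ha, hb, hm, y, rfl, hay, hby⟩ := h
  refine ⟨RelProj.emb p chart U hU ''ᵁ
    (Proj.basicOpen (𝒮.deg U hU) a ⊓ Proj.basicOpen (𝒮.deg U hU) b),
    ⟨U, hU, i, j, a, b, ha, hb, hm, ?_, ?_⟩, ?_⟩
  · rw [← opensRange_emb (p := p) (chart := chart) U hU]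
    exact (RelProj.emb p chart U hU).image_le_opensRange _
  · rintro z ⟨w, hw, hwz⟩
    have : w = z := (RelProj.emb p chart U hU).isOpenEmbedding.injective hwz
    subst this
    exact ⟨(Proj.mem_basicOpen _ a w).1 hw.1, (Proj.mem_basicOpen _ b w).1 hw.2⟩
  · exact ⟨y, ⟨(Proj.mem_basicOpen _ a y).2 hay, (Proj.mem_basicOpen _ b y).2 hby⟩, rfl⟩

include hk in
theorem Good.exists_gen (hP : RelProj.IsRelProj 𝒮 p chart)
    (hL : RelProj.IsRelTwist 𝒮 p chart m L lam)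
    (hL' : RelProj.IsRelTwist 𝒮 p chart n L' lam') (hL'' : RelProj.IsRelTwist 𝒮 p chart k L'' lam'')
    {V : P.Opens} (hV : Good 𝒮 p chart m V) :
    ∃ σ : Γ(L, V), Function.Bijective (fun r : Γ(P, V) => r • σ) ∧
      Function.Bijective (fun t : Γ(L', V) => mulP hk hP hL hL' hL'' σ t) := by
  obtain ⟨U, hU, i, j, a, b, ha, hb, hm, hV, h⟩ := hV
  obtain ⟨σ, hσ⟩ := (hL.bijective U hU V hV).2
    (GrTwTriv.fracSec (𝒮.deg U hU) ha hb hm (RelProj.emb p chart U hU ⁻¹ᵁ V)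
      (fun x => (h x.1 x.2).2))
  refine ⟨σ, ?_, ?_⟩
  · apply bijective_smul_of_lam hL U hU hV σ
    rw [hσ]
    exact GrTwTriv.fracSec_bijective (𝒮.deg U hU) ha hb hm _ (fun x => (h x.1 x.2).2)
      (fun x => (h x.1 x.2).1)
  · let g' : Γ(L', V) → Γ(GrTwist.twist (𝒮.deg U hU) n, RelProj.emb p chart U hU ⁻¹ᵁ V) :=
      fun s => (lam' U hU).app V s
    have h1' : Function.Bijective g' := hL'.bijective U hU V hV
    let g'' : Γ(L'', V) → Γ(GrTwist.twist (𝒮.deg U hU) k, RelProj.emb p chart U hU ⁻¹ᵁ V) :=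
      fun s => (lam'' U hU).app V s
    have h1'' : Function.Bijective g'' := hL''.bijective U hU V hV
    have h2 := GrTwTens.mulSec_fracSec_bijective (𝒮.deg U hU) ha hb hm hk
      (RelProj.emb p chart U hU ⁻¹ᵁ V) (fun x => (h x.1 x.2).2) (fun x => (h x.1 x.2).1)
    rw [← Function.Bijective.of_comp_iff' h1'']
    have h3 : (g'' ∘ fun t : Γ(L', V) => mulP hk hP hL hL' hL'' σ t) =
        (fun t => GrTwTens.mulSec (𝒮.deg U hU) hk
          (GrTwTriv.fracSec (𝒮.deg U hU) ha hb hm (RelProj.emb p chart U hU ⁻¹ᵁ V)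
            (fun x => (h x.1 x.2).2)) t) ∘ g' := by
      funext t
      simp only [Function.comp, g'', g']
      rw [lam_mulP]
      unfold cmul
      rw [hσ]
    rw [h3]
    exact h2.comp h1'

include hk in
/-- restricted form of the tensor isomorphism -/
theorem nonempty_tensorMod_restrict_iso (hP : RelProj.IsRelProj 𝒮 p chart)
    (hL : RelProj.IsRelTwist 𝒮 p chart m L lam)
    (hL' : RelProj.IsRelTwist 𝒮 p chart n L' lam') (hL'' : RelProj.IsRelTwist 𝒮 p chart k L'' lam'')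
    {Z : Scheme.{u}} (ι : Z ⟶ P) [IsOpenImmersion ι]
    (hcov : ∀ x : P, x ∈ ι.opensRange → ∃ V : P.Opens, Good 𝒮 p chart m V ∧ x ∈ V) :
    Nonempty (CohB1.tensorMod (L.restrict ι) (L'.restrict ι) ≅ L''.restrict ι) := by
  refine (pairingRestrict (pairing hk hP hL hL' hL'') ι).nonempty_tensorMod_iso
    (fun V : Z.Opens => Good 𝒮 p chart m (ι ''ᵁ V)) ?_ ?_ ?_
  · intro z
    obtain ⟨V, hV, hzV⟩ := hcov (ι.base z) ⟨z, rfl⟩
    refine ⟨ι ⁻¹ᵁ V, hV.mono ?_, hzV⟩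
    rintro _ ⟨w, hw, rfl⟩
    exact hw
  · intro V V' hV hle
    exact hV.mono (ι.image_mono hle)
  · intro V hV
    obtain ⟨σ, h1, h2⟩ := Good.exists_gen hk hP hL hL' hL'' hV
    refine ⟨σ, ?_, h2⟩
    have hb : Function.Bijective ((ι.appIso V).inv : Γ(Z, V) → Γ(P, ι ''ᵁ V)) := by
      rw [← ConcreteCategory.isIso_iff_bijective]
      infer_instance
    exact h1.comp hb

end Pair3

/-- `O_P(0)` restricted to any open is trivial -/
theorem nonempty_zero_restrict_iso (hP : RelProj.IsRelProj 𝒮 p chart) {L : P.Modules}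
    {lam : ∀ (U : Y.Opens) (hU : IsAffineOpen U),
      L ⟶ (Scheme.Modules.pushforward (RelProj.emb p chart U hU)).obj
        (GrTwist.twist (𝒮.deg U hU) 0)}
    (hL : RelProj.IsRelTwist 𝒮 p chart 0 L lam) (U : P.Opens) :
    Nonempty (L.restrict U.ι ≅ Coh.structureModule (U : Scheme.{u})) := by
  obtain ⟨σ, hσ⟩ := exists_isGen_zero hP hL
  exact ModTriv.nonempty_restrict_iso_unit L U _ (hσ.res le_top)

/-- S8340 -/
theorem period_tensor_neg (hP : RelProj.IsRelProj 𝒮 p chart) (U : P.Opens)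
    (hU : IsCompact (U : Set P)) :
    ∃ d : ℕ, 0 < d ∧ ∀ (n : ℤ), (d : ℤ) ∣ n →
      ∀ (L : P.Modules)
        (lam : ∀ (V : Y.Opens) (hV : IsAffineOpen V),
          L ⟶ (Scheme.Modules.pushforward (RelProj.emb p chart V hV)).obj
            (GrTwist.twist (𝒮.deg V hV) n)),
        RelProj.IsRelTwist 𝒮 p chart n L lam →
      ∀ (L' : P.Modules)
        (lam' : ∀ (V : Y.Opens) (hV : IsAffineOpen V),
          L' ⟶ (Scheme.Modules.pushforward (RelProj.emb p chart V hV)).obj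
            (GrTwist.twist (𝒮.deg V hV) (-n))),
        RelProj.IsRelTwist 𝒮 p chart (-n) L' lam' →
          Nonempty (CohB1.tensorMod (L.restrict U.ι) (L'.restrict U.ι) ≅
            Coh.structureModule (U : Scheme.{u})) := by
  obtain ⟨d, hd, hper⟩ := RP4.exists_period (𝒮 := 𝒮) (p := p) (chart := chart) U hU
  refine ⟨d, hd, fun n hn L lam hL L' lam' hL' => ?_⟩
  obtain ⟨L0, lam0, hL0⟩ := RP9.exists_isRelTwist hP 0
  have hk : (0 : ℤ) = n + (-n) := by ring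
  obtain ⟨e1⟩ := nonempty_tensorMod_restrict_iso hk hP hL hL' hL0 U.ι (by
    intro x hx
    have hxU : x ∈ U := by
      obtain ⟨z, rfl⟩ := hx
      exact z.2
    obtain ⟨V, hV, e, f, he, hed, hf, y, hy, hyx⟩ := hper x hxU
    obtain ⟨q, rfl⟩ : ∃ q : ℤ, n = q * (e : ℤ) := by
      obtain ⟨c, rfl⟩ := hed
      obtain ⟨m, rfl⟩ := hn
      exact ⟨c * m, by push_cast; ring⟩
    apply exists_good
    refine ⟨V, hV, q.toNat • e, (-q).toNat • e, f ^ q.toNat, f ^ (-q).toNat,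
      SetLike.pow_mem_graded _ hf, SetLike.pow_mem_graded _ hf, toNat_smul_eq q e, y, hyx, ?_, ?_⟩
    · exact pow_notMem y hy _
    · exact pow_notMem y hy _)
  obtain ⟨e2⟩ := nonempty_zero_restrict_iso hP hL0 U
  exact ⟨e1 ≪≫ e2⟩

end Groth.Agent.Helper1.RP10
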