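import Mathlib
import Groth.Agent.Lib.Helper1.RP10
import Groth.Agent.Lib.Helper1.AmpleRestr

set_option autoImplicit false
universe u

open CategoryTheory CategoryTheory.Limits AlgebraicGeometry TopologicalSpace Opposite
open scoped HomogeneousIdeal

namespace Groth.Agent.Helper1.RP11

open Groth.Agent.Helper1.ProjBC Groth.Agent.Helper1.RP3 Groth.Agent.Helper1.QcCech Groth.Agent.Helper1.RP6
open Groth.Agent.Helper1.LGen Groth.Agent.Helper1.RP7 Groth.Agent.Helper1.RP8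

section Gen
variable {X : Scheme.{u}} {N : X.Modules}

theorem secVal_top (t : Coh.structureModule X ⟶ N) :
    secVal t ⊤ = t.app ⊤ (show Γ(Coh.structureModule X, ⊤) from (1 : Γ(X, ⊤))) := by
  have := app_eq_smul t ⊤ 1
  rw [one_smul] at this
  exact this.symm

theorem hom_ext_of_secVal (t t' : Coh.structureModule X ⟶ N) (h : secVal t ⊤ = secVal t' ⊤) :
    t = t' := by
  apply Scheme.Modules.hom_ext
  intro W
  ext r
  have e1 := app_eq_smul t W r
  have e2 := app_eq_smul t' W r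
  rw [← res_secVal t (le_top : W ≤ ⊤), h, res_secVal] at e1
  exact e1.trans e2.symm

end Gen

variable {Y P : Scheme.{u}} {𝒮 : RelProj.QCGrAlg Y} {p : P ⟶ Y}
  {chart : ∀ (U : Y.Opens) (hU : IsAffineOpen U), ((p ⁻¹ᵁ U : P.Opens) : Scheme.{u}) ≅ Proj (𝒮.deg U hU)}
  {n : ℤ} {L : P.Modules}
  {lam : ∀ (U : Y.Opens) (hU : IsAffineOpen U),
    L ⟶ (Scheme.Modules.pushforward (RelProj.emb p chart U hU)).obj (GrTwist.twist (𝒮.deg U hU) n)}

theorem adj_val (U : Y.Opens) (hU : IsAffineOpen U) (V : (Proj (𝒮.deg U hU)).Opens)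
    (σ : Γ(L, RelProj.emb p chart U hU ''ᵁ V)) (y : ProjectiveSpectrum (𝒮.deg U hU)) (hy : y ∈ V) :
    GrTwist.val ((adj lam U hU).app V σ) ⟨y, hy⟩ =
      rd lam U hU σ y ⟨y, hy, rfl⟩ := rfl

/-- S8342 -/
theorem basicOpen_eq_genLocus (hP : RelProj.IsRelProj 𝒮 p chart) (hgen : 𝒮.IsGenDegOne) {d : ℕ}
    (f : 𝒮.presheaf.obj (op ⊤))
    (hf : ∀ (U : Y.Opens) (hU : IsAffineOpen U),
      (𝒮.presheaf.map (homOfLE le_top).op).hom f ∈ 𝒮.deg U hU d)
    (Xf : P.Opens)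
    (hXf : ∀ (U : Y.Opens) (hU : IsAffineOpen U),
      Xf ⊓ p ⁻¹ᵁ U =
        (p ⁻¹ᵁ U).ι ''ᵁ ((chart U hU).hom ⁻¹ᵁ
          Proj.basicOpen (𝒮.deg U hU) ((𝒮.presheaf.map (homOfLE le_top).op).hom f)))
    {L : P.Modules}
    {lam : ∀ (U : Y.Opens) (hU : IsAffineOpen U),
      L ⟶ (Scheme.Modules.pushforward (RelProj.emb p chart U hU)).obj
        (GrTwist.twist (𝒮.deg U hU) (d : ℤ))}
    (hL : RelProj.IsRelTwist 𝒮 p chart (d : ℤ) L lam) (s : Coh.structureModule P ⟶ L)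
    (hs : ∀ (U : Y.Opens) (hU : IsAffineOpen U) (y : Proj (𝒮.deg U hU)),
      GrTwist.val (V := RelProj.emb p chart U hU ⁻¹ᵁ ⊤)
        ((lam U hU).app ⊤ (s.app ⊤ (show Γ(Coh.structureModule P, ⊤) from (1 : Γ(P, ⊤)))))
          ⟨y, Set.mem_univ _⟩ =
        Localization.mk ((𝒮.presheaf.map (homOfLE le_top).op).hom f) 1) :
    Xf = CohB1.genLocus L s := by
  ext x
  obtain ⟨U, hU, hxU⟩ := exists_affine_mem (p.base x)
  have hx : x ∈ (RelProj.emb p chart U hU).opensRange := by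
    rw [opensRange_emb]; exact hxU
  obtain ⟨y, rfl⟩ := hx
  have h1 := emb_mem_iff_of_inf_eq U hU _ Xf (hXf U hU) y
  -- the generation locus through the chart
  have hiso := isIso_adj hL U hU
  have h2 := AmpleLib.genLocus_restrictSec (RelProj.emb p chart U hU) s
  have h3 := GrTwAmple.genLocus_comp_iso (AmpleLib.restrictSec (RelProj.emb p chart U hU) s)
    (asIso (adj lam U hU))
  have hunit : ∀ z : ProjectiveSpectrum (𝒮.deg U hU),
      ∃ g' : 𝒮.deg U hU d, (g' : 𝒮.presheaf.obj (op U)) ∉ z.asHomogeneousIdeal := by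
    intro z
    obtain ⟨g, hg, hgz⟩ := exists_deg_one_notMem _ (hgen U hU) z
    have hgd : g ^ d ∈ 𝒮.deg U hU d := by
      have := SetLike.pow_mem_graded d hg
      simpa using this
    exact ⟨⟨g ^ d, hgd⟩, fun hm => hgz (z.isPrime.mem_of_pow_mem _ hm)⟩
  have h4 := GrTwAmple.genLocus_globalOf (𝒮.deg U hU)
    (⟨(𝒮.presheaf.map (homOfLE le_top).op).hom f, hf U hU⟩ : 𝒮.deg U hU d) hunit
  have h5 : AmpleLib.restrictSec (RelProj.emb p chart U hU) s ≫ (asIso (adj lam U hU)).hom =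
      GrTwAmple.homOfSec (GrTwist.twist (𝒮.deg U hU) (d : ℤ))
        (GrTwist.globalOf (𝒮.deg U hU)
          (⟨(𝒮.presheaf.map (homOfLE le_top).op).hom f, hf U hU⟩ : 𝒮.deg U hU d)) := by
    apply hom_ext_of_secVal
    rw [secVal_top, secVal_top]
    apply val_ext
    rintro ⟨z, hz⟩
    have e1 : (AmpleLib.restrictSec (RelProj.emb p chart U hU) s).app ⊤
        (show Γ(Coh.structureModule (Proj (𝒮.deg U hU)), ⊤) from
          (1 : Γ(Proj (𝒮.deg U hU), ⊤))) =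
        secVal s (RelProj.emb p chart U hU ''ᵁ ⊤) := by
      rw [← secVal_top]
      exact AmpleLib.secVal_restrictSec (RelProj.emb p chart U hU) s ⊤
    change GrTwist.val ((adj lam U hU).app ⊤
      ((AmpleLib.restrictSec (RelProj.emb p chart U hU) s).app ⊤ _)) ⟨z, hz⟩ = _
    rw [e1, adj_val, ← res_secVal s (le_top : RelProj.emb p chart U hU ''ᵁ ⊤ ≤ ⊤), rd_res, secVal_top]
    refine (hs U hU z).trans ?_
    rw [GrTwAmple.homOfSec_app, one_smul]
    rfl
  rw [h5, h4] at h3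
  have h6 : Proj.basicOpen (𝒮.deg U hU) ((𝒮.presheaf.map (homOfLE le_top).op).hom f) =
      RelProj.emb p chart U hU ⁻¹ᵁ CohB1.genLocus L s := h3.trans h2
  refine h1.trans ?_
  rw [h6]
  rfl

end Groth.Agent.Helper1.RP11
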