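import Mathlib
import Groth.Agent.Lib.Helper1.RP11
import Groth.Agent.Lib.Helper1.TwForm1

set_option autoImplicit false
universe u

open CategoryTheory CategoryTheory.Limits AlgebraicGeometry TopologicalSpace Opposite
open scoped HomogeneousIdeal

namespace Groth.Agent.Helper1.RP12

open Groth.Agent.Helper1.ProjBC Groth.Agent.Helper1.RP3 Groth.Agent.Helper1.QcCech Groth.Agent.Helper1.RP6
open Groth.Agent.Helper1.LGen Groth.Agent.Helper1.RP7 Groth.Agent.Helper1.RP8 Groth.Agent.Helper1.RP9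

section Sq
variable {A σ : Type u} [CommRing A] [SetLike σ A] [AddSubgroupClass σ A] {𝒜 : ℕ → σ} [GradedRing 𝒜]
variable {B τ : Type u} [CommRing B] [SetLike τ B] [AddSubgroupClass τ B] {ℬ : ℕ → τ} [GradedRing ℬ]
variable {C υ : Type u} [CommRing C] [SetLike υ C] [AddSubgroupClass υ C] {𝒞 : ℕ → υ} [GradedRing 𝒞]
variable {D ω : Type u} [CommRing D] [SetLike ω D] [AddSubgroupClass ω D] {𝒟 : ℕ → ω} [GradedRing 𝒟]

/-- values of a section of `O(n)` pushed through a commutative square of graded homomorphisms -/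
theorem locMap_square (ψ₁ : 𝒜 →+*ᵍ ℬ) (h₁ : ℬ₊ ≤ (𝒜₊).map ψ₁) (ψ₂ : ℬ →+*ᵍ 𝒟) (h₂ : 𝒟₊ ≤ (ℬ₊).map ψ₂)
    (ψ₃ : 𝒜 →+*ᵍ 𝒞) (h₃ : 𝒞₊ ≤ (𝒜₊).map ψ₃) (ψ₄ : 𝒞 →+*ᵍ 𝒟) (h₄ : 𝒟₊ ≤ (𝒞₊).map ψ₄)
    (hsq : ∀ a, ψ₂ (ψ₁ a) = ψ₄ (ψ₃ a)) {n : ℤ} {V : (Proj 𝒜).Opens}
    (t : Γ(GrTwist.twist 𝒜 n, V)) (y : ProjectiveSpectrum 𝒟)
    (hy₁ : ProjectiveSpectrum.comap ψ₁ h₁ (ProjectiveSpectrum.comap ψ₂ h₂ y) ∈ V)
    (hy₂ : ProjectiveSpectrum.comap ψ₃ h₃ (ProjectiveSpectrum.comap ψ₄ h₄ y) ∈ V) :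
    GrTwist.locMap ψ₂ h₂ y (GrTwist.locMap ψ₁ h₁ _ (GrTwist.val t ⟨_, hy₁⟩)) =
      GrTwist.locMap ψ₄ h₄ y (GrTwist.locMap ψ₃ h₃ _ (GrTwist.val t ⟨_, hy₂⟩)) := by
  have hpt : ProjectiveSpectrum.comap ψ₁ h₁ (ProjectiveSpectrum.comap ψ₂ h₂ y) =
      ProjectiveSpectrum.comap ψ₃ h₃ (ProjectiveSpectrum.comap ψ₄ h₄ y) := by
    apply ProjectiveSpectrum.ext
    apply HomogeneousIdeal.ext
    ext a
    change ψ₂ (ψ₁ a) ∈ y.asHomogeneousIdeal ↔ ψ₄ (ψ₃ a) ∈ y.asHomogeneousIdeal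
    rw [hsq]
  obtain ⟨N, hN, hzN, i, j, a, s, hs, -, hval⟩ := exists_frac t _ hy₁
  have hzN' : ProjectiveSpectrum.comap ψ₃ h₃ (ProjectiveSpectrum.comap ψ₄ h₄ y) ∈ N := by
    rw [← hpt]; exact hzN
  rw [hval _ hzN, hval _ hzN', GrTwist.locMap_mk, GrTwist.locMap_mk, GrTwist.locMap_mk,
    GrTwist.locMap_mk]
  congr 1
  · exact hsq _
  · exact Subtype.ext (hsq _)

end Sq

section Theta
variable {Y PA PB : Scheme.{u}} {𝒜 ℬ : RelProj.QCGrAlg Y}
  {φ : 𝒜.toQCAlg ⟶ ℬ.toQCAlg} {hφ : RelProj.IsGradedHom φ}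
  {hirr : ∀ (U : Y.Opens) (hU : IsAffineOpen U),
    (ℬ.deg U hU)₊ ≤ ((𝒜.deg U hU)₊).map (RelProj.gradedHomAt φ hφ U hU)}
  {pA : PA ⟶ Y} {pB : PB ⟶ Y}
  {chartA : ∀ (U : Y.Opens) (hU : IsAffineOpen U),
    (((pA ⁻¹ᵁ U : PA.Opens) : Scheme.{u}) ≅ Proj (𝒜.deg U hU))}
  {chartB : ∀ (U : Y.Opens) (hU : IsAffineOpen U),
    (((pB ⁻¹ᵁ U : PB.Opens) : Scheme.{u}) ≅ Proj (ℬ.deg U hU))}
  {h : PB ⟶ PA}

theorem emb_comp_h (hh : RelProj.IsRelProjMap φ hφ hirr chartA chartB h)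
    (U : Y.Opens) (hU : IsAffineOpen U) :
    RelProj.emb pB chartB U hU ≫ h =
      Proj.map (RelProj.gradedHomAt φ hφ U hU) (hirr U hU) ≫ RelProj.emb pA chartA U hU := by
  have := hh U hU
  unfold RelProj.emb
  rw [Category.assoc, this, Iso.inv_hom_id_assoc]

theorem gradedHomAt_res {D U : Y.AffineZariskiSite} (hDU : D ≤ U) (a : 𝒜.presheaf.obj (op U.1)) :
    RelProj.gradedHomAt φ hφ D.1 D.2
        (𝒜.res U.2 D.2 (Scheme.AffineZariskiSite.toOpens_mono hDU) a) =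
      ℬ.res U.2 D.2 (Scheme.AffineZariskiSite.toOpens_mono hDU)
        (RelProj.gradedHomAt φ hφ U.1 U.2 a) := by
  have := congrArg (fun f => f.hom a)
    (φ.hom.naturality (homOfLE (Scheme.AffineZariskiSite.toOpens_mono hDU)).op)
  exact this

variable {n : ℤ} {LA : PA.Modules}
  {lamA : ∀ (U : Y.Opens) (hU : IsAffineOpen U),
    LA ⟶ (Scheme.Modules.pushforward (RelProj.emb pA chartA U hU)).obj
      (GrTwist.twist (𝒜.deg U hU) n)}
  {LB : PB.Modules}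
  {lamB : ∀ (U : Y.Opens) (hU : IsAffineOpen U),
    LB ⟶ (Scheme.Modules.pushforward (RelProj.emb pB chartB U hU)).obj
      (GrTwist.twist (ℬ.deg U hU) n)}

/-- the chartwise comparison -/
noncomputable def Θ (hh : RelProj.IsRelProjMap φ hφ hirr chartA chartB h)
    (lamA : ∀ (U : Y.Opens) (hU : IsAffineOpen U),
      LA ⟶ (Scheme.Modules.pushforward (RelProj.emb pA chartA U hU)).obj
        (GrTwist.twist (𝒜.deg U hU) n))
    (U : Y.Opens) (hU : IsAffineOpen U) :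
    LA ⟶ (Scheme.Modules.pushforward h).obj
      ((Scheme.Modules.pushforward (RelProj.emb pB chartB U hU)).obj
        (GrTwist.twist (ℬ.deg U hU) n)) :=
  lamA U hU ≫
    (Scheme.Modules.pushforward (RelProj.emb pA chartA U hU)).map
      (GrTwist.comap (RelProj.gradedHomAt φ hφ U hU) (hirr U hU) n) ≫
    (Scheme.Modules.pushforwardComp (Proj.map (RelProj.gradedHomAt φ hφ U hU) (hirr U hU))
      (RelProj.emb pA chartA U hU)).hom.app (GrTwist.twist (ℬ.deg U hU) n) ≫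
    (Scheme.Modules.pushforwardCongr (emb_comp_h hh U hU).symm).hom.app
      (GrTwist.twist (ℬ.deg U hU) n) ≫
    (Scheme.Modules.pushforwardComp (RelProj.emb pB chartB U hU) h).inv.app
      (GrTwist.twist (ℬ.deg U hU) n)

theorem mem_of_mem_h (hh : RelProj.IsRelProjMap φ hφ hirr chartA chartB h)
    (U : Y.Opens) (hU : IsAffineOpen U) {W : PA.Opens} (y : ProjectiveSpectrum (ℬ.deg U hU))
    (hy : (RelProj.emb pB chartB U hU).base y ∈ h ⁻¹ᵁ W) :
    (RelProj.emb pA chartA U hU).base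
      (ProjectiveSpectrum.comap (RelProj.gradedHomAt φ hφ U hU) (hirr U hU) y) ∈ W := by
  have e : h.base ((RelProj.emb pB chartB U hU).base y) =
      (RelProj.emb pA chartA U hU).base
        (ProjectiveSpectrum.comap (RelProj.gradedHomAt φ hφ U hU) (hirr U hU) y) := by
    rw [← Scheme.Hom.comp_apply, emb_comp_h hh U hU]
    rfl
  rw [← e]
  exact hy

theorem Θ_val (hh : RelProj.IsRelProjMap φ hφ hirr chartA chartB h) (U : Y.Opens)
    (hU : IsAffineOpen U) (W : PA.Opens) (s : Γ(LA, W)) (y : ProjectiveSpectrum (ℬ.deg U hU))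
    (hy : (RelProj.emb pB chartB U hU).base y ∈ h ⁻¹ᵁ W)
    (hy' : (RelProj.emb pA chartA U hU).base
      (ProjectiveSpectrum.comap (RelProj.gradedHomAt φ hφ U hU) (hirr U hU) y) ∈ W) :
    GrTwist.val (V := RelProj.emb pB chartB U hU ⁻¹ᵁ (h ⁻¹ᵁ W)) ((Θ hh lamA U hU).app W s) ⟨y, hy⟩ =
      GrTwist.locMap (RelProj.gradedHomAt φ hφ U hU) (hirr U hU) y
        (rd lamA U hU s _ hy') := rfl

theorem exists_theta_sec (hA : RelProj.IsRelProj 𝒜 pA chartA) (hB : RelProj.IsRelProj ℬ pB chartB)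
    (hh : RelProj.IsRelProjMap φ hφ hirr chartA chartB h)
    (hLA : RelProj.IsRelTwist 𝒜 pA chartA n LA lamA) (hLB : RelProj.IsRelTwist ℬ pB chartB n LB lamB)
    (W : PA.Opens) (s : Γ(LA, W)) :
    ∃ t : Γ(LB, h ⁻¹ᵁ W), ∀ (U : Y.Opens) (hU : IsAffineOpen U),
      (lamB U hU).app (h ⁻¹ᵁ W) t = (Θ hh lamA U hU).app W s := by
  apply exists_sec hB hLB (h ⁻¹ᵁ W) (fun U hU => (Θ hh lamA U hU).app W s)
  intro D U hDU y hy hy'
  have hyA := mem_of_mem_h hh D.1 D.2 y hy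
  have hyA' := mem_of_mem hA hDU _ hyA
  have hyB := mem_of_mem_h hh U.1 U.2 _ hy'
  refine (Θ_val hh D.1 D.2 W s y hy hyA).trans ?_
  rw [compat' hLA hDU s _ hyA hyA']
  refine Eq.trans ?_ (congrArg _ (Θ_val hh U.1 U.2 W s _ hy' hyB).symm)
  exact locMap_square _ _ _ _ _ _ _ _ (gradedHomAt_res hDU)
    (show Γ(GrTwist.twist (𝒜.deg U.1 U.2) n, RelProj.emb pA chartA U.1 U.2 ⁻¹ᵁ W) from
      (lamA U.1 U.2).app W s) y hyA' hyB

/-- the comparison on sections -/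
noncomputable def thetaSec (hA : RelProj.IsRelProj 𝒜 pA chartA) (hB : RelProj.IsRelProj ℬ pB chartB)
    (hh : RelProj.IsRelProjMap φ hφ hirr chartA chartB h)
    (hLA : RelProj.IsRelTwist 𝒜 pA chartA n LA lamA) (hLB : RelProj.IsRelTwist ℬ pB chartB n LB lamB)
    (W : PA.Opens) (s : Γ(LA, W)) : Γ((Scheme.Modules.pushforward h).obj LB, W) :=
  (exists_theta_sec hA hB hh hLA hLB W s).choose

theorem lamB_thetaSec (hA : RelProj.IsRelProj 𝒜 pA chartA) (hB : RelProj.IsRelProj ℬ pB chartB)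
    (hh : RelProj.IsRelProjMap φ hφ hirr chartA chartB h)
    (hLA : RelProj.IsRelTwist 𝒜 pA chartA n LA lamA) (hLB : RelProj.IsRelTwist ℬ pB chartB n LB lamB)
    (W : PA.Opens) (s : Γ(LA, W)) (U : Y.Opens) (hU : IsAffineOpen U) :
    ((Scheme.Modules.pushforward h).map (lamB U hU)).app W (thetaSec hA hB hh hLA hLB W s) =
      (Θ hh lamA U hU).app W s :=
  (exists_theta_sec hA hB hh hLA hLB W s).choose_spec U hU

/-- joint injectivity of the pushed-forward chart maps -/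
theorem pushforward_lam_ext (hLB : RelProj.IsRelTwist ℬ pB chartB n LB lamB) {W : PA.Opens}
    (t t' : Γ((Scheme.Modules.pushforward h).obj LB, W))
    (he : ∀ (U : Y.Opens) (hU : IsAffineOpen U),
      ((Scheme.Modules.pushforward h).map (lamB U hU)).app W t =
        ((Scheme.Modules.pushforward h).map (lamB U hU)).app W t') : t = t' :=
  lam_ext hLB (W := h ⁻¹ᵁ W) t t' he

/-- the comparison morphism `O_{Proj 𝒜}(n) ⟶ h_* O_{Proj ℬ}(n)` -/
noncomputable def theta (hA : RelProj.IsRelProj 𝒜 pA chartA) (hB : RelProj.IsRelProj ℬ pB chartB)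
    (hh : RelProj.IsRelProjMap φ hφ hirr chartA chartB h)
    (hLA : RelProj.IsRelTwist 𝒜 pA chartA n LA lamA) (hLB : RelProj.IsRelTwist ℬ pB chartB n LB lamB) :
    LA ⟶ (Scheme.Modules.pushforward h).obj LB :=
  TwForm.homMk LA ((Scheme.Modules.pushforward h).obj LB) (thetaSec hA hB hh hLA hLB)
    (by
      intro W a b
      apply pushforward_lam_ext hLB
      intro U hU
      rw [map_add, lamB_thetaSec, lamB_thetaSec, lamB_thetaSec, map_add])
    (by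
      intro W r a
      apply pushforward_lam_ext hLB
      intro U hU
      rw [Scheme.Modules.Hom.app_smul, lamB_thetaSec, lamB_thetaSec, Scheme.Modules.Hom.app_smul])
    (by
      intro W W' hW a
      apply pushforward_lam_ext hLB
      intro U hU
      rw [← ModGlue.app_res, lamB_thetaSec, lamB_thetaSec, ModGlue.app_res])

theorem theta_app (hA : RelProj.IsRelProj 𝒜 pA chartA) (hB : RelProj.IsRelProj ℬ pB chartB)
    (hh : RelProj.IsRelProjMap φ hφ hirr chartA chartB h)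
    (hLA : RelProj.IsRelTwist 𝒜 pA chartA n LA lamA) (hLB : RelProj.IsRelTwist ℬ pB chartB n LB lamB)
    (W : PA.Opens) (s : Γ(LA, W)) :
    (theta hA hB hh hLA hLB).app W s = thetaSec hA hB hh hLA hLB W s := rfl

/-- S8343 -/
theorem existsUnique_theta (hA : RelProj.IsRelProj 𝒜 pA chartA) (hB : RelProj.IsRelProj ℬ pB chartB)
    (hh : RelProj.IsRelProjMap φ hφ hirr chartA chartB h)
    (hLA : RelProj.IsRelTwist 𝒜 pA chartA n LA lamA) (hLB : RelProj.IsRelTwist ℬ pB chartB n LB lamB) :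
    ∃! θ : LA ⟶ (Scheme.Modules.pushforward h).obj LB,
      ∀ (U : Y.Opens) (hU : IsAffineOpen U) (W : PA.Opens) (s : Γ(LA, W))
        (y : ProjectiveSpectrum (ℬ.deg U hU))
        (hy : (RelProj.emb pB chartB U hU).base y ∈ h ⁻¹ᵁ W)
        (hy' : (RelProj.emb pA chartA U hU).base
          (ProjectiveSpectrum.comap (RelProj.gradedHomAt φ hφ U hU) (hirr U hU) y) ∈ W),
        GrTwist.val (V := RelProj.emb pB chartB U hU ⁻¹ᵁ (h ⁻¹ᵁ W))
            ((lamB U hU).app (h ⁻¹ᵁ W) (θ.app W s)) ⟨y, hy⟩ =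
          GrTwist.locMap (RelProj.gradedHomAt φ hφ U hU) (hirr U hU) y
            (GrTwist.val (V := RelProj.emb pA chartA U hU ⁻¹ᵁ W) ((lamA U hU).app W s) ⟨_, hy'⟩) := by
  refine ⟨theta hA hB hh hLA hLB, ?_, ?_⟩
  · intro U hU W s y hy hy'
    have e := lamB_thetaSec hA hB hh hLA hLB W s U hU
    refine Eq.trans ?_ (Θ_val hh U hU W s y hy hy')
    exact congrArg (fun t : Γ(GrTwist.twist (ℬ.deg U hU) n,
      RelProj.emb pB chartB U hU ⁻¹ᵁ (h ⁻¹ᵁ W)) => GrTwist.val t ⟨y, hy⟩) e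
  · intro θ' hθ'
    apply Scheme.Modules.hom_ext
    intro W
    ext s
    apply pushforward_lam_ext hLB
    intro U hU
    apply val_ext
    rintro ⟨y, hy⟩
    have hy' := mem_of_mem_h hh U hU y hy
    have e := lamB_thetaSec hA hB hh hLA hLB W s U hU
    refine (hθ' U hU W s y hy hy').trans ?_
    refine Eq.trans (Θ_val hh U hU W s y hy hy').symm ?_
    exact congrArg (fun t : Γ(GrTwist.twist (ℬ.deg U hU) n,
      RelProj.emb pB chartB U hU ⁻¹ᵁ (h ⁻¹ᵁ W)) => GrTwist.val t ⟨y, hy⟩) e.symm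

end Theta

end Groth.Agent.Helper1.RP12
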