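import Mathlib
import Groth.Agent.Lib.Helper1.RP12
import Groth.Agent.Lib.Helper1.PullGen
import Groth.Agent.Lib.Helper1.PF7

set_option autoImplicit false
universe u

open CategoryTheory CategoryTheory.Limits AlgebraicGeometry TopologicalSpace Opposite
open scoped HomogeneousIdeal

namespace Groth.Agent.Helper1.RP13

open Groth.Agent.Helper1.ProjBC Groth.Agent.Helper1.RP3 Groth.Agent.Helper1.QcCech Groth.Agent.Helper1.RP6
open Groth.Agent.Helper1.LGen Groth.Agent.Helper1.RP7 Groth.Agent.Helper1.RP8 Groth.Agent.Helper1.RP9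
open Groth.Agent.Helper1.RP12

section Gen
variable {X Z : Scheme.{u}} (f : Z ⟶ X)

/-- the adjunct of `θ` sends pulled-back sections to the images under `θ` -/
theorem adjunct_σ {M : X.Modules} {N : Z.Modules} (θ : M ⟶ (Scheme.Modules.pushforward f).obj N)
    (W : X.Opens) (m : Γ(M, W)) :
    (((Scheme.Modules.pullbackPushforwardAdjunction f).homEquiv M N).symm θ).app (f ⁻¹ᵁ W)
      (PullSec.σ f M W m) = θ.app W m := by
  rw [Adjunction.homEquiv_counit]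
  change ((Scheme.Modules.pullbackPushforwardAdjunction f).counit.app N).app (f ⁻¹ᵁ W)
    (((Scheme.Modules.pullback f).map θ).app (f ⁻¹ᵁ W) (PullSec.σ f M W m)) = _
  rw [PullSec.σ_natural]
  have h1 := (Scheme.Modules.pullbackPushforwardAdjunction f).right_triangle_components N
  have h2 := congrArg (fun ψ => Scheme.Modules.Hom.app ψ W (θ.app W m)) h1
  exact h2

/-- a morphism sending local free generators to local free generators is an isomorphism -/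
theorem isIso_of_isGen {M N : X.Modules} (ψ : M ⟶ N)
    (h : ∀ x : X, ∃ (V : X.Opens) (b : Γ(M, V)), x ∈ V ∧ IsGen M V b ∧ IsGen N V (ψ.app V b)) :
    IsIso ψ := by
  apply PF7.isIso_of_locally
  · intro U t ht x hx
    obtain ⟨V, b, hxV, hb, hψb⟩ := h x
    refine ⟨U ⊓ V, inf_le_left, ⟨hx, hxV⟩, ?_⟩
    obtain ⟨r, hr⟩ := (hb (U ⊓ V) inf_le_right).2 (res M inf_le_left t)
    have hr' : r • res M (inf_le_right : U ⊓ V ≤ V) b = res M (inf_le_left : U ⊓ V ≤ U) t := hr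
    have h1 : ψ.app (U ⊓ V) (res M (inf_le_left : U ⊓ V ≤ U) t) = 0 := by
      rw [← ModGlue.app_res, ht, map_zero]
    rw [← hr', Scheme.Modules.Hom.app_smul, ← ModGlue.app_res] at h1
    have h2 : r = 0 := by
      apply (hψb (U ⊓ V) inf_le_right).1
      change r • res N _ (ψ.app V b) = (0 : Γ(X, U ⊓ V)) • res N _ (ψ.app V b)
      rw [h1, zero_smul]
    change res M (inf_le_left : U ⊓ V ≤ U) t = 0
    rw [← hr', h2, zero_smul]
  · intro U s x hx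
    obtain ⟨V, b, hxV, hb, hψb⟩ := h x
    refine ⟨U ⊓ V, inf_le_left, ⟨hx, hxV⟩, ?_⟩
    obtain ⟨r, hr⟩ := (hψb (U ⊓ V) inf_le_right).2 (res N inf_le_left s)
    have hr' : r • res N (inf_le_right : U ⊓ V ≤ V) (ψ.app V b) =
        res N (inf_le_left : U ⊓ V ≤ U) s := hr
    refine ⟨r • res M (inf_le_right : U ⊓ V ≤ V) b, ?_⟩
    rw [Scheme.Modules.Hom.app_smul, ← ModGlue.app_res]
    exact hr'

end Gen

section Frac
variable {Y P : Scheme.{u}} {𝒮 : RelProj.QCGrAlg Y} {p : P ⟶ Y}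
  {chart : ∀ (U : Y.Opens) (hU : IsAffineOpen U), ((p ⁻¹ᵁ U : P.Opens) : Scheme.{u}) ≅ Proj (𝒮.deg U hU)}
  {n : ℤ} {L : P.Modules}
  {lam : ∀ (U : Y.Opens) (hU : IsAffineOpen U),
    L ⟶ (Scheme.Modules.pushforward (RelProj.emb p chart U hU)).obj (GrTwist.twist (𝒮.deg U hU) n)}

/-- a section reading as a fraction of units is a free generator -/
theorem isGen_of_lam_eq_frac (hL : RelProj.IsRelTwist 𝒮 p chart n L lam) (U : Y.Opens)
    (hU : IsAffineOpen U) {V₀ : P.Opens} (hV₀ : V₀ ≤ p ⁻¹ᵁ U) (t : Γ(L, V₀))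
    {i j : ℕ} {a b : 𝒮.presheaf.obj (op U)} (ha : a ∈ 𝒮.deg U hU i) (hb : b ∈ 𝒮.deg U hU j)
    (hm : (i : ℤ) = j + n)
    (hnv : ∀ y : ProjectiveSpectrum (𝒮.deg U hU), (RelProj.emb p chart U hU).base y ∈ V₀ →
      a ∉ y.asHomogeneousIdeal ∧ b ∉ y.asHomogeneousIdeal)
    (ht : (lam U hU).app V₀ t = GrTwTriv.fracSec (𝒮.deg U hU) ha hb hm
      (RelProj.emb p chart U hU ⁻¹ᵁ V₀) (fun x => (hnv x.1 x.2).2)) :
    IsGen L V₀ t := by
  apply isGen_of_lam hL U hU hV₀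
  intro V hV
  rw [ht]
  exact GrTwTriv.fracSec_bijective (𝒮.deg U hU) ha hb hm _ (fun x => (hnv x.1 (hV x.2)).2)
    (fun x => (hnv x.1 (hV x.2)).1)

end Frac

section Main
variable {Y PA PB : Scheme.{u}} {𝒜 ℬ : RelProj.QCGrAlg Y}
  {φ : 𝒜.toQCAlg ⟶ ℬ.toQCAlg} {hφ : RelProj.IsGradedHom φ}
  {hirr : ∀ (U : Y.Opens) (hU : IsAffineOpen U),
    (ℬ.deg U hU)₊ ≤ ((𝒜.deg U hU)₊).map (RelProj.gradedHomAt φ hφ U hU)}
  {pA : PA ⟶ Y} {pB : PB ⟶ Y}
  {chartA : ∀ (U : Y.Opens) (hU : IsAffineOpen U),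
    (((pA ⁻¹ᵁ U : PA.Opens) : Scheme.{u}) ≅ Proj (𝒜.deg U hU))}
  {chartB : ∀ (U : Y.Opens) (hU : IsAffineOpen U),
    (((pB ⁻¹ᵁ U : PB.Opens) : Scheme.{u}) ≅ Proj (ℬ.deg U hU))}
  {h : PB ⟶ PA} {n : ℤ} {LA : PA.Modules}
  {lamA : ∀ (U : Y.Opens) (hU : IsAffineOpen U),
    LA ⟶ (Scheme.Modules.pushforward (RelProj.emb pA chartA U hU)).obj
      (GrTwist.twist (𝒜.deg U hU) n)}
  {LB : PB.Modules}
  {lamB : ∀ (U : Y.Opens) (hU : IsAffineOpen U),
    LB ⟶ (Scheme.Modules.pushforward (RelProj.emb pB chartB U hU)).obj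
      (GrTwist.twist (ℬ.deg U hU) n)}

/-- S8287 -/
theorem nonempty_pullback_iso (hgen : 𝒜.IsGenDegOne)
    (hA : RelProj.IsRelProj 𝒜 pA chartA) (hB : RelProj.IsRelProj ℬ pB chartB)
    (hh : RelProj.IsRelProjMap φ hφ hirr chartA chartB h)
    (hLA : RelProj.IsRelTwist 𝒜 pA chartA n LA lamA) (hLB : RelProj.IsRelTwist ℬ pB chartB n LB lamB) :
    Nonempty ((Scheme.Modules.pullback h).obj LA ≅ LB) := by
  set θ := theta hA hB hh hLA hLB with hθ
  set ψ := ((Scheme.Modules.pullbackPushforwardAdjunction h).homEquiv LA LB).symm θ with hψ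
  suffices IsIso ψ from ⟨asIso ψ⟩
  apply isIso_of_isGen
  intro x
  obtain ⟨U, hU, hxU⟩ := exists_affine_mem (pB.base x)
  have hx : x ∈ (RelProj.emb pB chartB U hU).opensRange := by
    rw [opensRange_emb]; exact hxU
  obtain ⟨y, rfl⟩ := hx
  obtain ⟨g, hg, hgy⟩ := exists_deg_one_notMem _ (hgen U hU)
    (ProjectiveSpectrum.comap (RelProj.gradedHomAt φ hφ U hU) (hirr U hU) y)
  have hm : ((n.toNat • 1 : ℕ) : ℤ) = ((-n).toNat • 1 : ℕ) + n := by
    have := toNat_smul_eq n 1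
    simpa using this
  have ha : g ^ n.toNat ∈ 𝒜.deg U hU (n.toNat • 1) := SetLike.pow_mem_graded _ hg
  have hb : g ^ (-n).toNat ∈ 𝒜.deg U hU ((-n).toNat • 1) := SetLike.pow_mem_graded _ hg
  set WA : PA.Opens := RelProj.emb pA chartA U hU ''ᵁ Proj.basicOpen (𝒜.deg U hU) g with hWAdef
  have hWA : WA ≤ pA ⁻¹ᵁ U := by
    rw [← opensRange_emb (p := pA) (chart := chartA) U hU]
    exact (RelProj.emb pA chartA U hU).image_le_opensRange _
  have hmemA : ∀ z : ProjectiveSpectrum (𝒜.deg U hU),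
      (RelProj.emb pA chartA U hU).base z ∈ WA → z ∈ Proj.basicOpen (𝒜.deg U hU) g := by
    rintro z ⟨w, hw, hwz⟩
    have : w = z := (RelProj.emb pA chartA U hU).isOpenEmbedding.injective hwz
    subst this
    exact hw
  have hnvA : ∀ z : ProjectiveSpectrum (𝒜.deg U hU), (RelProj.emb pA chartA U hU).base z ∈ WA →
      g ^ n.toNat ∉ z.asHomogeneousIdeal ∧ g ^ (-n).toNat ∉ z.asHomogeneousIdeal :=
    fun z hz => ⟨pow_notMem z (hmemA z hz) _, pow_notMem z (hmemA z hz) _⟩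
  obtain ⟨t, ht⟩ := (hLA.bijective U hU WA hWA).2
    (GrTwTriv.fracSec (𝒜.deg U hU) ha hb hm (RelProj.emb pA chartA U hU ⁻¹ᵁ WA)
      (fun x => (hnvA x.1 x.2).2))
  have hgenA : IsGen LA WA t := isGen_of_lam_eq_frac hLA U hU hWA t ha hb hm hnvA ht
  have hxWA : (RelProj.emb pB chartB U hU).base y ∈ h ⁻¹ᵁ WA := by
    have e : h.base ((RelProj.emb pB chartB U hU).base y) =
        (RelProj.emb pA chartA U hU).base
          (ProjectiveSpectrum.comap (RelProj.gradedHomAt φ hφ U hU) (hirr U hU) y) := by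
      rw [← Scheme.Hom.comp_apply, emb_comp_h hh U hU]
      rfl
    change h.base _ ∈ WA
    rw [e]
    exact ⟨_, (Proj.mem_basicOpen _ g _).2 hgy, rfl⟩
  refine ⟨h ⁻¹ᵁ WA ⊓ pB ⁻¹ᵁ U, res _ inf_le_left (PullSec.σ h LA WA t), ⟨hxWA, hxU⟩,
    (PullGen.isGen_σ h hgenA).res _, ?_⟩
  rw [← ModGlue.app_res, hψ, adjunct_σ]
  have hnvB : ∀ z : ProjectiveSpectrum (ℬ.deg U hU),
      (RelProj.emb pB chartB U hU).base z ∈ h ⁻¹ᵁ WA ⊓ pB ⁻¹ᵁ U →
      RelProj.gradedHomAt φ hφ U hU (g ^ n.toNat) ∉ z.asHomogeneousIdeal ∧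
        RelProj.gradedHomAt φ hφ U hU (g ^ (-n).toNat) ∉ z.asHomogeneousIdeal := by
    intro z hz
    have hz' := mem_of_mem_h hh U hU z hz.1
    exact hnvA _ hz'
  apply isGen_of_lam_eq_frac hLB U hU inf_le_right _
    ((RelProj.gradedHomAt φ hφ U hU).map_mem ha) ((RelProj.gradedHomAt φ hφ U hU).map_mem hb)
    hm hnvB
  apply val_ext
  rintro ⟨z, hz⟩
  have hz1 : (RelProj.emb pB chartB U hU).base z ∈ h ⁻¹ᵁ WA := hz.1
  have hz' := mem_of_mem_h hh U hU z hz1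
  refine (rd_res (lam := lamB) U hU _ _ z hz).trans ?_
  have e := lamB_thetaSec hA hB hh hLA hLB WA t U hU
  have e2 := congrArg (fun s : Γ(GrTwist.twist (ℬ.deg U hU) n,
      RelProj.emb pB chartB U hU ⁻¹ᵁ (h ⁻¹ᵁ WA)) => GrTwist.val s ⟨z, hz1⟩) e
  refine Eq.trans e2 ?_
  refine (Θ_val hh U hU WA t z hz1 hz').trans ?_
  unfold rd
  rw [ht]
  exact GrTwist.locMap_mk _ _ _ _ _

end Main

end Groth.Agent.Helper1.RP13
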