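import Mathlib
import Groth.Agent.Lib.Helper1.RP13
import Groth.Prelude.Def_RelProj4

set_option autoImplicit false
universe u

open CategoryTheory CategoryTheory.Limits AlgebraicGeometry TopologicalSpace Opposite
open scoped HomogeneousIdeal

namespace Groth.Agent.Helper1.RPQ

open Groth.Agent.Helper1.ProjBC Groth.Agent.Helper1.RP3 Groth.Agent.Helper1.QcCech Groth.Agent.Helper1.RP6
open Groth.Agent.Helper1.LGen Groth.Agent.Helper1.RP7 Groth.Agent.Helper1.RP8 Groth.Agent.Helper1.RP9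
open Groth.Agent.Helper1.RP12

variable {Y Y' P P' : Scheme.{u}} {ψ : Y' ⟶ Y} {𝒮 : RelProj.QCGrAlg Y} {𝒮' : RelProj.QCGrAlg Y'}
  {u : RelProj.QGrHom ψ 𝒮 𝒮'}
  {hirr : ∀ (U : Y.Opens) (hU : IsAffineOpen U) (U' : Y'.Opens) (hU' : IsAffineOpen U')
    (hle : U' ≤ ψ ⁻¹ᵁ U), (𝒮'.deg U' hU')₊ ≤ ((𝒮.deg U hU)₊).map (u.gradedAt U hU U' hU' hle)}
  {p : P ⟶ Y}
  {chart : ∀ (U : Y.Opens) (hU : IsAffineOpen U),
    (((p ⁻¹ᵁ U : P.Opens) : Scheme.{u}) ≅ Proj (𝒮.deg U hU))}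
  {p' : P' ⟶ Y'}
  {chart' : ∀ (U : Y'.Opens) (hU : IsAffineOpen U),
    (((p' ⁻¹ᵁ U : P'.Opens) : Scheme.{u}) ≅ Proj (𝒮'.deg U hU))}
  {g : P' ⟶ P}

/-- the chart condition on `g` -/
def IsChartMap (u : RelProj.QGrHom ψ 𝒮 𝒮')
    (hirr : ∀ (U : Y.Opens) (hU : IsAffineOpen U) (U' : Y'.Opens) (hU' : IsAffineOpen U')
      (hle : U' ≤ ψ ⁻¹ᵁ U), (𝒮'.deg U' hU')₊ ≤ ((𝒮.deg U hU)₊).map (u.gradedAt U hU U' hU' hle))
    (p : P ⟶ Y)
    (chart : ∀ (U : Y.Opens) (hU : IsAffineOpen U),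
      (((p ⁻¹ᵁ U : P.Opens) : Scheme.{u}) ≅ Proj (𝒮.deg U hU)))
    (p' : P' ⟶ Y')
    (chart' : ∀ (U : Y'.Opens) (hU : IsAffineOpen U),
      (((p' ⁻¹ᵁ U : P'.Opens) : Scheme.{u}) ≅ Proj (𝒮'.deg U hU)))
    (g : P' ⟶ P) : Prop :=
  ∀ (U : Y.Opens) (hU : IsAffineOpen U) (U' : Y'.Opens) (hU' : IsAffineOpen U')
    (hle : U' ≤ ψ ⁻¹ᵁ U),
    RelProj.emb p' chart' U' hU' ≫ g =
      Proj.map (u.gradedAt U hU U' hU' hle) (hirr U hU U' hU' hle) ≫ RelProj.emb p chart U hU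

/-- compatibility of the graded maps with restrictions -/
theorem gradedAt_res {D U : Y.AffineZariskiSite} (hDU : D ≤ U) {D' U' : Y'.AffineZariskiSite}
    (hDU' : D' ≤ U') (hD : D'.1 ≤ ψ ⁻¹ᵁ D.1) (hUle : U'.1 ≤ ψ ⁻¹ᵁ U.1)
    (a : 𝒮.presheaf.obj (op U.1)) :
    u.gradedAt D.1 D.2 D'.1 D'.2 hD
        (𝒮.res U.2 D.2 (Scheme.AffineZariskiSite.toOpens_mono hDU) a) =
      𝒮'.res U'.2 D'.2 (Scheme.AffineZariskiSite.toOpens_mono hDU')
        (u.gradedAt U.1 U.2 U'.1 U'.2 hUle a) := by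
  have h1 := ConcreteCategory.congr_hom
    (u.map_appLE (Scheme.AffineZariskiSite.toOpens_mono hDU) hD) a
  have h2 := ConcreteCategory.congr_hom
    (u.appLE_map hUle (Scheme.AffineZariskiSite.toOpens_mono hDU')) a
  exact h1.trans h2.symm

theorem exists_pair_refine (ψ : Y' ⟶ Y) {U₁ U₂ : Y.AffineZariskiSite}
    {U₁' U₂' : Y'.AffineZariskiSite}
    (h₁ : U₁'.1 ≤ ψ ⁻¹ᵁ U₁.1) (h₂ : U₂'.1 ≤ ψ ⁻¹ᵁ U₂.1) (z : Y') (hz : z ∈ U₁'.1 ⊓ U₂'.1) :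
    ∃ (D : Y.AffineZariskiSite) (D' : Y'.AffineZariskiSite), D ≤ U₁ ∧ D ≤ U₂ ∧ D' ≤ U₁' ∧
      D' ≤ U₂' ∧ D'.1 ≤ ψ ⁻¹ᵁ D.1 ∧ z ∈ D'.1 := by
  obtain ⟨D, hD1, hD2, hzD⟩ := RP5.exists_common_basicOpen U₁.2 U₂.2 (ψ.base z)
    ⟨h₁ hz.1, h₂ hz.2⟩
  obtain ⟨D₀, hD01, hD02, hzD0⟩ := RP5.exists_common_basicOpen U₁'.2 U₂'.2 z hz
  obtain ⟨r, hr1, hr2⟩ := D₀.2.exists_basicOpen_le (V := ψ ⁻¹ᵁ D.1) ⟨z, hzD⟩ hzD0
  have hle : @LE.le Y'.AffineZariskiSite _ ⟨Y'.basicOpen r, D₀.2.basicOpen r⟩ D₀ := ⟨r, rfl⟩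
  exact ⟨D, (⟨Y'.basicOpen r, D₀.2.basicOpen r⟩ : Y'.AffineZariskiSite), hD1, hD2,
    le_trans hle hD01, le_trans hle hD02, hr1, hr2⟩

variable {n : ℤ} {L : P.Modules}
  {lam : ∀ (U : Y.Opens) (hU : IsAffineOpen U),
    L ⟶ (Scheme.Modules.pushforward (RelProj.emb p chart U hU)).obj
      (GrTwist.twist (𝒮.deg U hU) n)}
  {L' : P'.Modules}
  {lam' : ∀ (U : Y'.Opens) (hU : IsAffineOpen U),
    L' ⟶ (Scheme.Modules.pushforward (RelProj.emb p' chart' U hU)).obj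
      (GrTwist.twist (𝒮'.deg U hU) n)}

/-- the chartwise comparison -/
noncomputable def Θ (hg : IsChartMap u hirr p chart p' chart' g)
    (lam : ∀ (U : Y.Opens) (hU : IsAffineOpen U),
      L ⟶ (Scheme.Modules.pushforward (RelProj.emb p chart U hU)).obj
        (GrTwist.twist (𝒮.deg U hU) n))
    (U : Y.Opens) (hU : IsAffineOpen U) (U' : Y'.Opens) (hU' : IsAffineOpen U')
    (hle : U' ≤ ψ ⁻¹ᵁ U) :
    L ⟶ (Scheme.Modules.pushforward g).obj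
      ((Scheme.Modules.pushforward (RelProj.emb p' chart' U' hU')).obj
        (GrTwist.twist (𝒮'.deg U' hU') n)) :=
  lam U hU ≫
    (Scheme.Modules.pushforward (RelProj.emb p chart U hU)).map
      (GrTwist.comap (u.gradedAt U hU U' hU' hle) (hirr U hU U' hU' hle) n) ≫
    (Scheme.Modules.pushforwardComp (Proj.map (u.gradedAt U hU U' hU' hle) (hirr U hU U' hU' hle))
      (RelProj.emb p chart U hU)).hom.app (GrTwist.twist (𝒮'.deg U' hU') n) ≫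
    (Scheme.Modules.pushforwardCongr (hg U hU U' hU' hle).symm).hom.app
      (GrTwist.twist (𝒮'.deg U' hU') n) ≫
    (Scheme.Modules.pushforwardComp (RelProj.emb p' chart' U' hU') g).inv.app
      (GrTwist.twist (𝒮'.deg U' hU') n)

theorem mem_of_mem_g (hg : IsChartMap u hirr p chart p' chart' g)
    (U : Y.Opens) (hU : IsAffineOpen U) (U' : Y'.Opens) (hU' : IsAffineOpen U')
    (hle : U' ≤ ψ ⁻¹ᵁ U) {W : P.Opens} (y : ProjectiveSpectrum (𝒮'.deg U' hU'))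
    (hy : (RelProj.emb p' chart' U' hU').base y ∈ g ⁻¹ᵁ W) :
    (RelProj.emb p chart U hU).base
      (ProjectiveSpectrum.comap (u.gradedAt U hU U' hU' hle) (hirr U hU U' hU' hle) y) ∈ W := by
  have e : g.base ((RelProj.emb p' chart' U' hU').base y) =
      (RelProj.emb p chart U hU).base
        (ProjectiveSpectrum.comap (u.gradedAt U hU U' hU' hle) (hirr U hU U' hU' hle) y) := by
    rw [← Scheme.Hom.comp_apply, hg U hU U' hU' hle]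
    rfl
  rw [← e]
  exact hy

theorem Θ_val (hg : IsChartMap u hirr p chart p' chart' g)
    (U : Y.Opens) (hU : IsAffineOpen U) (U' : Y'.Opens) (hU' : IsAffineOpen U')
    (hle : U' ≤ ψ ⁻¹ᵁ U) (W : P.Opens) (s : Γ(L, W)) (y : ProjectiveSpectrum (𝒮'.deg U' hU'))
    (hy : (RelProj.emb p' chart' U' hU').base y ∈ g ⁻¹ᵁ W)
    (hy' : (RelProj.emb p chart U hU).base
      (ProjectiveSpectrum.comap (u.gradedAt U hU U' hU' hle) (hirr U hU U' hU' hle) y) ∈ W) :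
    GrTwist.val (V := RelProj.emb p' chart' U' hU' ⁻¹ᵁ (g ⁻¹ᵁ W))
        ((Θ hg lam U hU U' hU' hle).app W s) ⟨y, hy⟩ =
      GrTwist.locMap (u.gradedAt U hU U' hU' hle) (hirr U hU U' hU' hle) y
        (rd lam U hU s _ hy') := rfl


/-- the index set: affine pairs -/
abbrev Idx (ψ : Y' ⟶ Y) : Type u :=
  {q : Y.AffineZariskiSite × Y'.AffineZariskiSite // q.2.1 ≤ ψ ⁻¹ᵁ q.1.1}

theorem exists_idx (ψ : Y' ⟶ Y) (z : Y') : ∃ q : Idx ψ, z ∈ q.1.2.1 := by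
  obtain ⟨U, hU, hzU⟩ := exists_affine_mem (ψ.base z)
  obtain ⟨_, ⟨U', hU' : IsAffineOpen U', rfl⟩, hzU', hle⟩ :=
    (Y'.isBasis_affineOpens).exists_subset_of_mem_open
      (show z ∈ (ψ ⁻¹ᵁ U : Set Y') from hzU) (ψ ⁻¹ᵁ U).isOpen
  exact ⟨⟨(⟨U, hU⟩, ⟨U', hU'⟩), hle⟩, hzU'⟩

theorem exists_theta_sec (hP : RelProj.IsRelProj 𝒮 p chart) (hP' : RelProj.IsRelProj 𝒮' p' chart')
    (hg : IsChartMap u hirr p chart p' chart' g)
    (hL : RelProj.IsRelTwist 𝒮 p chart n L lam) (hL' : RelProj.IsRelTwist 𝒮' p' chart' n L' lam')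
    (W : P.Opens) (s : Γ(L, W)) :
    ∃ t : Γ(L', g ⁻¹ᵁ W), ∀ (U : Y.Opens) (hU : IsAffineOpen U) (U' : Y'.Opens)
      (hU' : IsAffineOpen U') (hle : U' ≤ ψ ⁻¹ᵁ U),
      (lam' U' hU').app (g ⁻¹ᵁ W) t = (Θ hg lam U hU U' hU' hle).app W s := by
  have hloc : ∀ q : Idx ψ, ∃ σ : Γ(L', g ⁻¹ᵁ W ⊓ p' ⁻¹ᵁ q.1.2.1),
      (lam' q.1.2.1 q.1.2.2).app (g ⁻¹ᵁ W ⊓ p' ⁻¹ᵁ q.1.2.1) σ =
        res (GrTwist.twist (𝒮'.deg q.1.2.1 q.1.2.2) n)
          ((RelProj.emb p' chart' q.1.2.1 q.1.2.2).preimage_mono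
            (inf_le_left : g ⁻¹ᵁ W ⊓ p' ⁻¹ᵁ q.1.2.1 ≤ g ⁻¹ᵁ W))
          ((Θ hg lam q.1.1.1 q.1.1.2 q.1.2.1 q.1.2.2 q.2).app W s) := fun q =>
    (hL'.bijective q.1.2.1 q.1.2.2 (g ⁻¹ᵁ W ⊓ p' ⁻¹ᵁ q.1.2.1) inf_le_right).2 _
  choose σ hσ using hloc
  have hσrd : ∀ (q : Idx ψ) (y : ProjectiveSpectrum (𝒮'.deg q.1.2.1 q.1.2.2))
      (hy : (RelProj.emb p' chart' q.1.2.1 q.1.2.2).base y ∈ g ⁻¹ᵁ W ⊓ p' ⁻¹ᵁ q.1.2.1),
      rd lam' q.1.2.1 q.1.2.2 (σ q) y hy =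
        GrTwist.val (V := RelProj.emb p' chart' q.1.2.1 q.1.2.2 ⁻¹ᵁ (g ⁻¹ᵁ W))
          ((Θ hg lam q.1.1.1 q.1.1.2 q.1.2.1 q.1.2.2 q.2).app W s) ⟨y, hy.1⟩ := by
    intro q y hy
    unfold rd
    rw [hσ q]
    rfl
  have hσD : ∀ (q : Idx ψ) {D : Y.AffineZariskiSite} {D' : Y'.AffineZariskiSite}
      (hDU : D ≤ q.1.1) (hDU' : D' ≤ q.1.2) (hD : D'.1 ≤ ψ ⁻¹ᵁ D.1) {W' : P'.Opens}
      (hW' : W' ≤ g ⁻¹ᵁ W ⊓ p' ⁻¹ᵁ q.1.2.1)
      (y : ProjectiveSpectrum (𝒮'.deg D'.1 D'.2))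
      (hy : (RelProj.emb p' chart' D'.1 D'.2).base y ∈ W')
      (hyD : (RelProj.emb p chart D.1 D.2).base (ProjectiveSpectrum.comap
        (u.gradedAt D.1 D.2 D'.1 D'.2 hD) (hirr D.1 D.2 D'.1 D'.2 hD) y) ∈ W),
      rd lam' D'.1 D'.2 (res L' hW' (σ q)) y hy =
        GrTwist.locMap (u.gradedAt D.1 D.2 D'.1 D'.2 hD) (hirr D.1 D.2 D'.1 D'.2 hD) y
          (rd lam D.1 D.2 s _ hyD) := by
    intro q D D' hDU hDU' hD W' hW' y hy hyD
    have hy' := mem_of_mem hP' hDU' y hy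
    have hyU := mem_of_mem_g hg q.1.1.1 q.1.1.2 q.1.2.1 q.1.2.2 q.2 _ (hW' hy').1
    have hyU2 := mem_of_mem hP hDU _ hyD
    rw [compat' hL' hDU' _ y hy hy', rd_res, hσrd q _ (hW' hy'),
      Θ_val hg q.1.1.1 q.1.1.2 q.1.2.1 q.1.2.2 q.2 W s _ (hW' hy').1 hyU,
      compat' hL hDU s _ hyD hyU2]
    exact locMap_square _ _ _ _ _ _ _ _ (fun a => (gradedAt_res hDU hDU' hD q.2 a).symm)
      (show Γ(GrTwist.twist (𝒮.deg q.1.1.1 q.1.1.2) n,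
        RelProj.emb p chart q.1.1.1 q.1.1.2 ⁻¹ᵁ W) from (lam q.1.1.1 q.1.1.2).app W s) y hyU hyU2
  obtain ⟨t, ht⟩ := TwistSec.glue_of_compatible L'
    (fun q : Idx ψ => g ⁻¹ᵁ W ⊓ p' ⁻¹ᵁ q.1.2.1) (g ⁻¹ᵁ W)
    (fun q => inf_le_left) (by
      intro x hx
      obtain ⟨q, hq⟩ := exists_idx ψ (p'.base x)
      exact Opens.mem_iSup.2 ⟨q, hx, hq⟩) σ (by
      intro q₁ q₂
      apply sec_ext hL'
      intro x hx
      obtain ⟨D, D', hD1, hD2, hD1', hD2', hD, hzD'⟩ :=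
        exists_pair_refine ψ q₁.2 q₂.2 (p'.base x) ⟨hx.1.2, hx.2.2⟩
      refine ⟨D'.1, D'.2, hzD', fun y hy => ?_⟩
      have hyD := mem_of_mem_g hg D.1 D.2 D'.1 D'.2 hD y hy.1.1
      rw [hσD q₁ hD1 hD1' hD _ y hy hyD, hσD q₂ hD2 hD2' hD _ y hy hyD])
  refine ⟨t, fun U hU U' hU' hle => ?_⟩
  apply val_ext
  rintro ⟨y, hy⟩
  have hy2 : (RelProj.emb p' chart' U' hU').base y ∈ g ⁻¹ᵁ W ⊓ p' ⁻¹ᵁ U' :=
    ⟨hy, emb_mem_preimage U' hU' y⟩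
  have h1 := rd_res (lam := lam') U' hU' (inf_le_left : g ⁻¹ᵁ W ⊓ p' ⁻¹ᵁ U' ≤ g ⁻¹ᵁ W) t y hy2
  rw [ht ⟨(⟨U, hU⟩, ⟨U', hU'⟩), hle⟩] at h1
  exact h1.symm.trans (hσrd ⟨(⟨U, hU⟩, ⟨U', hU'⟩), hle⟩ y hy2)


/-- the comparison on sections -/
noncomputable def thetaSec (hP : RelProj.IsRelProj 𝒮 p chart) (hP' : RelProj.IsRelProj 𝒮' p' chart')
    (hg : IsChartMap u hirr p chart p' chart' g)
    (hL : RelProj.IsRelTwist 𝒮 p chart n L lam) (hL' : RelProj.IsRelTwist 𝒮' p' chart' n L' lam')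
    (W : P.Opens) (s : Γ(L, W)) : Γ((Scheme.Modules.pushforward g).obj L', W) :=
  (exists_theta_sec hP hP' hg hL hL' W s).choose

theorem lam_thetaSec (hP : RelProj.IsRelProj 𝒮 p chart) (hP' : RelProj.IsRelProj 𝒮' p' chart')
    (hg : IsChartMap u hirr p chart p' chart' g)
    (hL : RelProj.IsRelTwist 𝒮 p chart n L lam) (hL' : RelProj.IsRelTwist 𝒮' p' chart' n L' lam')
    (W : P.Opens) (s : Γ(L, W)) (U : Y.Opens) (hU : IsAffineOpen U) (U' : Y'.Opens)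
    (hU' : IsAffineOpen U') (hle : U' ≤ ψ ⁻¹ᵁ U) :
    ((Scheme.Modules.pushforward g).map (lam' U' hU')).app W (thetaSec hP hP' hg hL hL' W s) =
      (Θ hg lam U hU U' hU' hle).app W s :=
  (exists_theta_sec hP hP' hg hL hL' W s).choose_spec U hU U' hU' hle

/-- joint injectivity of the chart maps over affine pairs -/
theorem pair_lam_ext (hL' : RelProj.IsRelTwist 𝒮' p' chart' n L' lam') {W : P.Opens}
    (t t' : Γ((Scheme.Modules.pushforward g).obj L', W))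
    (he : ∀ (U : Y.Opens) (hU : IsAffineOpen U) (U' : Y'.Opens) (hU' : IsAffineOpen U')
      (_ : U' ≤ ψ ⁻¹ᵁ U),
      ((Scheme.Modules.pushforward g).map (lam' U' hU')).app W t =
        ((Scheme.Modules.pushforward g).map (lam' U' hU')).app W t') : t = t' := by
  apply sec_ext hL' (W := g ⁻¹ᵁ W)
  intro x hx
  obtain ⟨q, hq⟩ := exists_idx ψ (p'.base x)
  refine ⟨q.1.2.1, q.1.2.2, hq, fun y hy => ?_⟩
  unfold rd
  have := he q.1.1.1 q.1.1.2 q.1.2.1 q.1.2.2 q.2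
  change (lam' q.1.2.1 q.1.2.2).app (g ⁻¹ᵁ W) t = (lam' q.1.2.1 q.1.2.2).app (g ⁻¹ᵁ W) t' at this
  rw [this]

/-- the comparison morphism `O_P(n) ⟶ g_* O_{P'}(n)` -/
noncomputable def theta (hP : RelProj.IsRelProj 𝒮 p chart) (hP' : RelProj.IsRelProj 𝒮' p' chart')
    (hg : IsChartMap u hirr p chart p' chart' g)
    (hL : RelProj.IsRelTwist 𝒮 p chart n L lam) (hL' : RelProj.IsRelTwist 𝒮' p' chart' n L' lam') :
    L ⟶ (Scheme.Modules.pushforward g).obj L' :=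
  TwForm.homMk L ((Scheme.Modules.pushforward g).obj L') (thetaSec hP hP' hg hL hL')
    (by
      intro W a b
      apply pair_lam_ext hL'
      intro U hU U' hU' hle
      have key := fun s => lam_thetaSec hP hP' hg hL hL' W s U hU U' hU' hle
      rw [map_add, key, key, key, map_add])
    (by
      intro W r a
      apply pair_lam_ext hL'
      intro U hU U' hU' hle
      have key := fun s => lam_thetaSec hP hP' hg hL hL' W s U hU U' hU' hle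
      rw [Scheme.Modules.Hom.app_smul, key, key, Scheme.Modules.Hom.app_smul])
    (by
      intro W W' hW a
      apply pair_lam_ext hL'
      intro U hU U' hU' hle
      have key := fun s => lam_thetaSec hP hP' hg hL hL' W s U hU U' hU' hle
      have key' := fun s => lam_thetaSec hP hP' hg hL hL' W' s U hU U' hU' hle
      rw [← ModGlue.app_res, key, key', ModGlue.app_res])

theorem theta_app (hP : RelProj.IsRelProj 𝒮 p chart) (hP' : RelProj.IsRelProj 𝒮' p' chart')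
    (hg : IsChartMap u hirr p chart p' chart' g)
    (hL : RelProj.IsRelTwist 𝒮 p chart n L lam) (hL' : RelProj.IsRelTwist 𝒮' p' chart' n L' lam')
    (W : P.Opens) (s : Γ(L, W)) :
    (theta hP hP' hg hL hL').app W s = thetaSec hP hP' hg hL hL' W s := rfl

/-- base change of the twisting sheaves when the source algebra is generated in degree one -/
theorem nonempty_pullback_iso (hgen : 𝒮.IsGenDegOne)
    (hP : RelProj.IsRelProj 𝒮 p chart) (hP' : RelProj.IsRelProj 𝒮' p' chart')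
    (hg : IsChartMap u hirr p chart p' chart' g)
    (hL : RelProj.IsRelTwist 𝒮 p chart n L lam) (hL' : RelProj.IsRelTwist 𝒮' p' chart' n L' lam') :
    Nonempty ((Scheme.Modules.pullback g).obj L ≅ L') := by
  set θ := theta hP hP' hg hL hL' with hθ
  set ψ' := ((Scheme.Modules.pullbackPushforwardAdjunction g).homEquiv L L').symm θ with hψ
  suffices IsIso ψ' from ⟨asIso ψ'⟩
  apply RP13.isIso_of_isGen
  intro x
  obtain ⟨q, hxU'⟩ := exists_idx ψ (p'.base x)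
  obtain ⟨⟨⟨U, hU⟩, ⟨U', hU'⟩⟩, hle⟩ := q
  change p'.base x ∈ U' at hxU'
  change U' ≤ ψ ⁻¹ᵁ U at hle
  have hx : x ∈ (RelProj.emb p' chart' U' hU').opensRange := by
    rw [opensRange_emb]; exact hxU'
  obtain ⟨y, rfl⟩ := hx
  obtain ⟨f, hf, hfy⟩ := exists_deg_one_notMem _ (hgen U hU)
    (ProjectiveSpectrum.comap (u.gradedAt U hU U' hU' hle) (hirr U hU U' hU' hle) y)
  have hm : ((n.toNat • 1 : ℕ) : ℤ) = ((-n).toNat • 1 : ℕ) + n := by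
    have := toNat_smul_eq n 1
    simpa using this
  have ha : f ^ n.toNat ∈ 𝒮.deg U hU (n.toNat • 1) := SetLike.pow_mem_graded _ hf
  have hb : f ^ (-n).toNat ∈ 𝒮.deg U hU ((-n).toNat • 1) := SetLike.pow_mem_graded _ hf
  set WA : P.Opens := RelProj.emb p chart U hU ''ᵁ Proj.basicOpen (𝒮.deg U hU) f with hWAdef
  have hWA : WA ≤ p ⁻¹ᵁ U := by
    rw [← opensRange_emb (p := p) (chart := chart) U hU]
    exact (RelProj.emb p chart U hU).image_le_opensRange _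
  have hmemA : ∀ z : ProjectiveSpectrum (𝒮.deg U hU),
      (RelProj.emb p chart U hU).base z ∈ WA → z ∈ Proj.basicOpen (𝒮.deg U hU) f := by
    rintro z ⟨w, hw, hwz⟩
    have : w = z := (RelProj.emb p chart U hU).isOpenEmbedding.injective hwz
    subst this
    exact hw
  have hnvA : ∀ z : ProjectiveSpectrum (𝒮.deg U hU), (RelProj.emb p chart U hU).base z ∈ WA →
      f ^ n.toNat ∉ z.asHomogeneousIdeal ∧ f ^ (-n).toNat ∉ z.asHomogeneousIdeal :=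
    fun z hz => ⟨pow_notMem z (hmemA z hz) _, pow_notMem z (hmemA z hz) _⟩
  obtain ⟨t, ht⟩ := (hL.bijective U hU WA hWA).2
    (GrTwTriv.fracSec (𝒮.deg U hU) ha hb hm (RelProj.emb p chart U hU ⁻¹ᵁ WA)
      (fun x => (hnvA x.1 x.2).2))
  have hgenA : IsGen L WA t := RP13.isGen_of_lam_eq_frac hL U hU hWA t ha hb hm hnvA ht
  have hxWA : (RelProj.emb p' chart' U' hU').base y ∈ g ⁻¹ᵁ WA := by
    have e : g.base ((RelProj.emb p' chart' U' hU').base y) =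
        (RelProj.emb p chart U hU).base
          (ProjectiveSpectrum.comap (u.gradedAt U hU U' hU' hle) (hirr U hU U' hU' hle) y) := by
      rw [← Scheme.Hom.comp_apply, hg U hU U' hU' hle]
      rfl
    change g.base _ ∈ WA
    rw [e]
    exact ⟨_, (Proj.mem_basicOpen _ f _).2 hfy, rfl⟩
  refine ⟨g ⁻¹ᵁ WA ⊓ p' ⁻¹ᵁ U', res _ inf_le_left (PullSec.σ g L WA t), ⟨hxWA, hxU'⟩,
    (PullGen.isGen_σ g hgenA).res _, ?_⟩
  rw [← ModGlue.app_res, hψ, RP13.adjunct_σ]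
  have hnvB : ∀ z : ProjectiveSpectrum (𝒮'.deg U' hU'),
      (RelProj.emb p' chart' U' hU').base z ∈ g ⁻¹ᵁ WA ⊓ p' ⁻¹ᵁ U' →
      u.gradedAt U hU U' hU' hle (f ^ n.toNat) ∉ z.asHomogeneousIdeal ∧
        u.gradedAt U hU U' hU' hle (f ^ (-n).toNat) ∉ z.asHomogeneousIdeal := by
    intro z hz
    have hz' := mem_of_mem_g hg U hU U' hU' hle z hz.1
    exact hnvA _ hz'
  apply RP13.isGen_of_lam_eq_frac hL' U' hU' inf_le_right _
    ((u.gradedAt U hU U' hU' hle).map_mem ha) ((u.gradedAt U hU U' hU' hle).map_mem hb)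
    hm hnvB
  apply val_ext
  rintro ⟨z, hz⟩
  have hz1 : (RelProj.emb p' chart' U' hU').base z ∈ g ⁻¹ᵁ WA := hz.1
  have hz' := mem_of_mem_g hg U hU U' hU' hle z hz1
  refine (rd_res (lam := lam') U' hU' _ _ z hz).trans ?_
  have e := lam_thetaSec hP hP' hg hL hL' WA t U hU U' hU' hle
  have e2 := congrArg (fun s : Γ(GrTwist.twist (𝒮'.deg U' hU') n,
      RelProj.emb p' chart' U' hU' ⁻¹ᵁ (g ⁻¹ᵁ WA)) => GrTwist.val s ⟨z, hz1⟩) e
  refine Eq.trans e2 ?_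
  refine (Θ_val hg U hU U' hU' hle WA t z hz1 hz').trans ?_
  unfold rd
  rw [ht]
  exact GrTwist.locMap_mk _ _ _ _ _

end Groth.Agent.Helper1.RPQ
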