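import Mathlib
import Groth.Prelude.Def_RelProj4
import Groth.Agent.Lib.Helper1.ProjBC
import Groth.Agent.Lib.Helper1.ProjQ8

/-!
# Base change of relative Proj, `QGrHom` form (helper1 library)
-/

open CategoryTheory CategoryTheory.Limits AlgebraicGeometry Opposite TopologicalSpace
open HomogeneousLocalization
open scoped HomogeneousIdeal

universe u

namespace Groth.Agent.Helper1.ProjBCQ

open Groth.Agent.Helper1.ProjQ

section Rel
variable {Y Y' P P' : Scheme.{u}} {ψ : Y' ⟶ Y} {𝒮 : RelProj.QCGrAlg Y} {𝒮' : RelProj.QCGrAlg Y'}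
  (u : RelProj.QGrHom ψ 𝒮 𝒮') (hu : RelSpec.IsQBaseChange u.toQHom)
  (p : P ⟶ Y)
  (chart : ∀ (U : Y.Opens) (hU : IsAffineOpen U),
    (((p ⁻¹ᵁ U : P.Opens) : Scheme.{u}) ≅ Proj (𝒮.deg U hU)))
  (p' : P' ⟶ Y')
  (chart' : ∀ (U : Y'.Opens) (hU : IsAffineOpen U),
    (((p' ⁻¹ᵁ U : P'.Opens) : Scheme.{u}) ≅ Proj (𝒮'.deg U hU)))

include hu in
theorem hirr (U : Y.Opens) (hU : IsAffineOpen U) (U' : Y'.Opens) (hU' : IsAffineOpen U')
    (hle : U' ≤ ψ ⁻¹ᵁ U) :
    (𝒮'.deg U' hU')₊ ≤ ((𝒮.deg U hU)₊).map (u.gradedAt U hU U' hU' hle) := by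
  refine HLBaseChange.irrelevant_le_map (𝒮.deg U hU) (𝒮'.deg U' hU') (ψ.appLE U U' hle).hom
    (𝒮.strZero U hU).hom (𝒮'.strZero U' hU').hom (u.gradedAt U hU U' hU' hle) ?_
  exact hu U hU U' hU' hle

include hu in
theorem domQ_eq_top : RelProj.domQ u p' chart' = ⊤ := by
  refine eq_top_iff.mpr fun x _ => ?_
  obtain ⟨V, hV, hxV⟩ : ∃ V : Y.Opens, IsAffineOpen V ∧ ψ.base (p' x) ∈ V := by
    obtain ⟨_, ⟨V, hV : IsAffineOpen V, rfl⟩, hxV, -⟩ :=
      (Y.isBasis_affineOpens).exists_subset_of_mem_open (Set.mem_univ (ψ.base (p' x)))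
        isOpen_univ
    exact ⟨V, hV, hxV⟩
  obtain ⟨_, ⟨U', hU' : IsAffineOpen U', rfl⟩, hxU', hle⟩ :=
    (Y'.isBasis_affineOpens).exists_subset_of_mem_open
      (show p' x ∈ (ψ ⁻¹ᵁ V : Set Y') from hxV) (ψ ⁻¹ᵁ V).isOpen
  have hx' : x ∈ Set.range (RelProj.emb p' chart' U' hU') := by
    rw [RelCone3.range_emb]; exact hxU'
  obtain ⟨x₁, rfl⟩ := hx'
  apply image_le_domQ u p' chart' ⟨V, hV, U', hU', hle⟩
  refine ⟨x₁, ?_, rfl⟩
  rw [domOpen_eq_top_of_irrelevant_le _ (hirr u hu V hV U' hU' hle)]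
  trivial

variable (hP : RelProj.IsRelProj 𝒮 p chart) (hP' : RelProj.IsRelProj 𝒮' p' chart')

include hu hP hP' in
theorem exists_isProjQMap : ∃ h : P' ⟶ P, RelProj.IsProjQMap u p chart p' chart' h := by
  have htop := domQ_eq_top u hu p' chart'
  obtain ⟨v, hv, -⟩ := existsUnique_isProjQMapOn u p chart p' chart' hP hP'
    (RelProj.domQ u p' chart') rfl
  have hiso : IsIso (RelProj.domQ u p' chart').ι := by
    apply isIso_of_isOpenImmersion_of_opensRange_eq_top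
    rw [Scheme.Opens.opensRange_ι]
    exact htop
  refine ⟨inv (RelProj.domQ u p' chart').ι ≫ v, htop, ?_⟩
  intro U hU U' hU' hle d hd f hf
  have hW := RelProj.range_awayEmb_subset_domQ u p' chart' U hU U' hU' hle hd f hf
  rw [← hv U hU U' hU' hle d hd f hf hW, ← Category.assoc]
  congr 1
  rw [IsIso.comp_inv_eq, IsOpenImmersion.lift_fac]

include hu hP hP' in
theorem isPullback (h : P' ⟶ P) (hh : RelProj.IsProjQMap u p chart p' chart' h) :
    IsPullback h p' p ψ := by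
  refine ProjBC.isPullback_of_charts hP hP' h (fun U hU U' hU' hle => u.gradedAt U hU U' hU' hle)
    (fun U hU U' hU' hle => hirr u hu U hU U' hU' hle) ?_ ?_
  · intro U hU U' hU' hle
    exact ProjBC.isPullback_pair U hU U' hU' hle (u.gradedAt U hU U' hU' hle)
      (hirr u hu U hU U' hU' hle) (u.appLE U U' hle) (fun _ => rfl) (hu U hU U' hU' hle)
  · intro U hU U' hU' hle
    refine (Proj.mapAffineOpenCover (u.gradedAt U hU U' hU' hle)
      (hirr u hu U hU U' hU' hle)).openCover.hom_ext _ _ ?_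
    rintro (s : Σ i : PNat, 𝒮.deg U hU i)
    show Proj.awayι (𝒮'.deg U' hU') (u.gradedAt U hU U' hU' hle (s.2 : 𝒮.presheaf.obj (op U)))
        ((u.gradedAt U hU U' hU' hle).map_mem s.2.2) s.1.2 ≫ RelProj.emb p' chart' U' hU' ≫ h =
      Proj.awayι (𝒮'.deg U' hU') (u.gradedAt U hU U' hU' hle (s.2 : 𝒮.presheaf.obj (op U)))
        ((u.gradedAt U hU U' hU' hle).map_mem s.2.2) s.1.2 ≫
        Proj.map (u.gradedAt U hU U' hU' hle) (hirr u hu U hU U' hU' hle) ≫
          RelProj.emb p chart U hU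
    have key := Proj.awayι_comp_map (u.gradedAt U hU U' hU' hle) (hirr u hu U hU U' hU' hle)
      s.1.2 (s.2 : 𝒮.presheaf.obj (op U)) s.2.2
    have := hh.2 U hU U' hU' hle s.1 s.1.2 (s.2 : 𝒮.presheaf.obj (op U)) s.2.2
    rw [RelProj.awayEmb, Category.assoc] at this
    rw [this]
    exact ((Category.assoc _ _ _).symm.trans
      (congrArg (· ≫ RelProj.emb p chart U hU) key.symm)).trans (Category.assoc _ _ _)

end Rel

end Groth.Agent.Helper1.ProjBCQ
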