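import Mathlib
import Groth.Prelude.Def_RelProj4

set_option autoImplicit false
universe u
open CategoryTheory CategoryTheory.Limits AlgebraicGeometry TopologicalSpace Opposite

namespace Groth.Agent.Helper1.QHomAff

variable {S S' : Scheme.{u}} (g : S' ⟶ S) (A : RelSpec.QCAlg S) (B : RelSpec.QCAlg S')

/-- the pushforward presheaf of rings -/
abbrev pushB : TopCat.Presheaf CommRingCat.{u} S.carrier := g.base _* B.presheaf

theorem pushB_isSheaf : (pushB g B).IsSheaf := TopCat.Sheaf.pushforward_sheaf_of_sheaf g.base B.isSheaf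

variable (τ : (Scheme.AffineZariskiSite.toOpensFunctor S).op ⋙ A.presheaf ⟶
  (Scheme.AffineZariskiSite.toOpensFunctor S).op ⋙ pushB g B)

noncomputable def homAux : A.presheaf ⟶ pushB g B :=
  Functor.IsCoverDense.restrictHomEquivHom (G := Scheme.AffineZariskiSite.toOpensFunctor S)
    (K := Opens.grothendieckTopology S) (ℱ := A.presheaf)
    (ℱ' := (⟨pushB g B, pushB_isSheaf g B⟩ : TopCat.Sheaf CommRingCat.{u} S.carrier)) τ

theorem homAux_app (U : S.AffineZariskiSite) : (homAux g A B τ).app (op U.1) = τ.app (op U) :=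
  NatTrans.congr_app ((Functor.IsCoverDense.restrictHomEquivHom
      (G := Scheme.AffineZariskiSite.toOpensFunctor S)
      (K := Opens.grothendieckTopology S) (ℱ := A.presheaf)
      (ℱ' := (⟨pushB g B, pushB_isSheaf g B⟩ :
        TopCat.Sheaf CommRingCat.{u} S.carrier))).symm_apply_apply τ) (op U)

theorem presheafHom_ext {P : TopCat.Presheaf CommRingCat.{u} S.carrier}
    {f f' : P ⟶ pushB g B}
    (h : ∀ U : S.AffineZariskiSite, f.app (op U.1) = f'.app (op U.1)) : f = f' := by
  apply (Functor.IsCoverDense.restrictHomEquivHom (G := Scheme.AffineZariskiSite.toOpensFunctor S)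
    (K := Opens.grothendieckTopology S) (ℱ := P)
    (ℱ' := (⟨pushB g B, pushB_isSheaf g B⟩ :
      TopCat.Sheaf CommRingCat.{u} S.carrier))).symm.injective
  ext U : 2
  exact h U.unop

/-- the structure map of the pushforward -/
noncomputable def strPush : S.presheaf ⟶ pushB g B :=
  g.c ≫ (TopCat.Presheaf.pushforward _ g.base).map B.str

theorem strPush_app (U : S.Opens) :
    (strPush g B).app (op U) = g.app U ≫ B.str.app (op (g ⁻¹ᵁ U)) := rfl

/-- a `g`-morphism of algebras from a natural family on affine opens -/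
noncomputable def qhom
    (hτ : ∀ U : S.AffineZariskiSite,
      A.str.app (op U.1) ≫ τ.app (op U) = g.app U.1 ≫ B.str.app (op (g ⁻¹ᵁ U.1))) :
    RelSpec.QHom g A B where
  app U := (homAux g A B τ).app (op U)
  naturality i := ((homAux g A B τ).naturality (homOfLE i).op).symm
  str_app U := by
    have : A.str ≫ homAux g A B τ = strPush g B := by
      apply presheafHom_ext
      intro V
      rw [NatTrans.comp_app, homAux_app]
      exact hτ V
    exact NatTrans.congr_app this (op U)

theorem qhom_app (hτ : ∀ U : S.AffineZariskiSite,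
      A.str.app (op U.1) ≫ τ.app (op U) = g.app U.1 ≫ B.str.app (op (g ⁻¹ᵁ U.1)))
    (U : S.AffineZariskiSite) : (qhom g A B τ hτ).app U.1 = τ.app (op U) :=
  homAux_app g A B τ U

end Groth.Agent.Helper1.QHomAff
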