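import Mathlib
import Groth.Agent.Lib.Helper1.QCohLib

set_option autoImplicit false
universe u
open CategoryTheory CategoryTheory.Limits AlgebraicGeometry TopologicalSpace Opposite

namespace Groth.Agent.Helper1.QcPullGen

variable {X Y : Scheme.{u}}

instance final_opens_map (f : X ⟶ Y) : (Opens.map f.base).Final := by
  apply Functor.final_of_exists_of_isFiltered
  · intro V
    exact ⟨⊤, ⟨homOfLE le_top⟩⟩
  · intro V U s s'
    exact ⟨U, 𝟙 _, Subsingleton.elim _ _⟩

instance foo2 (f : X ⟶ Y) :
    IsIso (SheafOfModules.pullbackObjUnitToUnit.{u} f.toRingCatSheafHom) :=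
  inferInstance

/-- the pullback of the structure sheaf is the structure sheaf -/
noncomputable def pullbackUnitIso (f : X ⟶ Y) :
    (Scheme.Modules.pullback f).obj (SheafOfModules.unit Y.ringCatSheaf) ≅
      SheafOfModules.unit X.ringCatSheaf :=
  let e := asIso (SheafOfModules.pullbackObjUnitToUnit.{u} f.toRingCatSheafHom)
  e

/-- presentations pull back -/
noncomputable def presentationPullback (f : X ⟶ Y) {M : Y.Modules} (P : M.Presentation) :
    ((Scheme.Modules.pullback f).obj M).Presentation :=
  @SheafOfModules.Presentation.map _ _ _ _ _ _ _ _ _ _ _ _ _ P (Scheme.Modules.pullback.{u} f)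
    (Scheme.Modules.pullbackPushforwardAdjunction f).leftAdjoint_preservesColimits
    (pullbackUnitIso f).symm


/-- **the inverse image of a quasi-coherent module is quasi-coherent** -/
theorem isQuasicoherent_pullback (g : X ⟶ Y) (E : Y.Modules) [E.IsQuasicoherent] :
    ((Scheme.Modules.pullback g).obj E).IsQuasicoherent := by
  obtain ⟨ι, U, pres, hcov, -⟩ := E.exists_isOpenCover_presentation
  refine QCohLib.isQuasicoherent_of_cover _ (fun i => g ⁻¹ᵁ U i) ?_ ?_
  · rw [eq_top_iff]
    intro x _
    have hx : g.base x ∈ (⨆ i, U i : Y.Opens) := by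
      rw [hcov.iSup_eq_top]
      trivial
    rw [Opens.mem_iSup] at hx ⊢
    obtain ⟨i, hi⟩ := hx
    exact ⟨i, hi⟩
  · intro i
    have P := presentationPullback (g ∣_ U i) (pres i)
    let iso : (Scheme.Modules.pullback (g ∣_ U i)).obj (E.restrict (U i).ι) ≅
        ((Scheme.Modules.pullback g).obj E).restrict (g ⁻¹ᵁ U i).ι :=
      (Scheme.Modules.pullback (g ∣_ U i)).mapIso
        ((Scheme.Modules.restrictFunctorIsoPullback (U i).ι).app E) ≪≫
      (Scheme.Modules.pullbackComp (g ∣_ U i) (U i).ι).app E ≪≫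
      (Scheme.Modules.pullbackCongr (morphismRestrict_ι g (U i))).app E ≪≫
      ((Scheme.Modules.pullbackComp (g ⁻¹ᵁ U i).ι g).app E).symm ≪≫
      ((Scheme.Modules.restrictFunctorIsoPullback (g ⁻¹ᵁ U i).ι).app
        ((Scheme.Modules.pullback g).obj E)).symm
    have h : IsIso (C := SheafOfModules.{u} ((g ⁻¹ᵁ U i : X.Opens) : Scheme.{u}).ringCatSheaf)
        iso.hom := Iso.isIso_hom iso
    exact ⟨SheafOfModules.Presentation.ofIsIso.{u, u, u} iso.hom P⟩

end Groth.Agent.Helper1.QcPullGen
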