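import Mathlib
import Groth.Agent.Lib.Helper1.AdjBC2
import Groth.Agent.Lib.Helper1.QcPullGen
import Groth.Agent.Lib.Helper1.QcLoc

set_option autoImplicit false
universe u
open CategoryTheory CategoryTheory.Limits AlgebraicGeometry TopologicalSpace Opposite

namespace Groth.Agent.Helper1.ModBC

open Scheme.Modules

variable {S S' : Scheme.{u}} (g : S' ⟶ S) (E : S.Modules)
  {U : S.Opens} (hU : IsAffineOpen U) {U' : S'.Opens} (hU' : IsAffineOpen U') (hle : U' ≤ g ⁻¹ᵁ U)

/-- the adjunction unit followed by restriction -/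
noncomputable def unitRes : Γ(E, U) →+ Γ((Scheme.Modules.pullback g).obj E, U') :=
  (((Scheme.Modules.pullback g).obj E).presheaf.map (homOfLE hle).op).hom.comp
    (((pullbackPushforwardAdjunction g).unit.app E).app U).hom

theorem map_map (M : S.Modules) {U V W : S.Opens} (h1 : V ≤ U) (h2 : W ≤ V) (x : Γ(M, U)) :
    M.presheaf.map (homOfLE h2).op (M.presheaf.map (homOfLE h1).op x) =
      M.presheaf.map (homOfLE (h2.trans h1)).op x := by
  rw [← ConcreteCategory.comp_apply, ← Functor.map_comp]
  rfl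

theorem map_self (M : S.Modules) {U : S.Opens} (h : U ≤ U) (x : Γ(M, U)) :
    M.presheaf.map (homOfLE h).op x = x := by
  have : (homOfLE h).op = 𝟙 (op U) := Subsingleton.elim _ _
  rw [this, CategoryTheory.Functor.map_id]
  rfl

theorem rmap_map {U V W : S.Opens} (h1 : V ≤ U) (h2 : W ≤ V) (x : Γ(S, U)) :
    (S.presheaf.map (homOfLE h2).op).hom ((S.presheaf.map (homOfLE h1).op).hom x) =
      (S.presheaf.map (homOfLE (h2.trans h1)).op).hom x := by
  rw [← CommRingCat.comp_apply, ← Functor.map_comp]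
  rfl

theorem rmap_self {U : S.Opens} (h : U ≤ U) (x : Γ(S, U)) :
    (S.presheaf.map (homOfLE h).op).hom x = x := by
  have : (homOfLE h).op = 𝟙 (op U) := Subsingleton.elim _ _
  rw [this, CategoryTheory.Functor.map_id]
  rfl

variable [E.IsQuasicoherent]

include hU hU' in
/-- **base change for sections of the inverse image over an affine pair** -/
theorem existsUnique (C : Type u) [AddCommGroup C] [Module Γ(S', U') C] (ℓ : Γ(E, U) →+ C)
    (hℓ : ∀ (r : Γ(S, U)) (e : Γ(E, U)), ℓ (r • e) = (g.appLE U U' hle).hom r • ℓ e) :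
    ∃! ℓ' : Γ((Scheme.Modules.pullback g).obj E, U') →+ C,
      (∀ (r' : Γ(S', U')) (x : Γ((Scheme.Modules.pullback g).obj E, U')),
        ℓ' (r' • x) = r' • ℓ' x) ∧ ∀ e, ℓ' (unitRes g E hle e) = ℓ e := by
  have hq : ((Scheme.Modules.pullback g).obj E).IsQuasicoherent :=
    QcPullGen.isQuasicoherent_pullback g E
  let G := (Scheme.Modules.pullback g).obj E
  have comm : hU'.fromSpec ≫ g = Spec.map (g.appLE U U' hle) ≫ hU.fromSpec :=
    (IsAffineOpen.SpecMap_appLE_fromSpec g hU hU' hle).symm
  have hBC := AdjBC.isBC_unit g (g.appLE U U' hle) hU.fromSpec hU'.fromSpec comm E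
  have e0 := QcLoc.image_top hU
  have e0' := QcLoc.image_top hU'
  let w : Γ(E, hU.fromSpec ''ᵁ ⊤) →+ C := ℓ.comp (E.presheaf.map (homOfLE e0.ge).op).hom
  have hw : ∀ (r : Γ(S, U)) (x : Γ(E.restrict hU.fromSpec, ⊤)),
      w (r • x) = (g.appLE U U' hle).hom r • w x := by
    intro r x
    rw [QcLoc.smul_eq hU E ⊤ r x]
    change ℓ (E.presheaf.map (homOfLE e0.ge).op
      ((S.presheaf.map (homOfLE (QcLoc.image_le hU ⊤)).op).hom r •
        (show Γ(E, hU.fromSpec ''ᵁ ⊤) from x))) = _
    rw [Scheme.Modules.map_smul]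
    change ℓ ((S.presheaf.map (homOfLE e0.ge).op).hom
      ((S.presheaf.map (homOfLE (QcLoc.image_le hU ⊤)).op).hom r) • _) = _
    rw [rmap_map, rmap_self, hℓ]
    rfl
  obtain ⟨b, hb, hbu⟩ := hBC (ModuleCat.of Γ(S', U') C) w hw
  -- the key compatibility
  have hv : ∀ e : Γ(E, U), AdjBC.vmap g (g.appLE U U' hle) hU.fromSpec hU'.fromSpec comm E G
      ((pullbackPushforwardAdjunction g).unit.app E) (E.presheaf.map (homOfLE e0.le).op e) =
      G.presheaf.map (homOfLE e0'.le).op (unitRes g E hle e) := by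
    intro e
    have hnat := congrArg (fun k => k.hom e)
      (((pullbackPushforwardAdjunction g).unit.app E).mapPresheaf.naturality (homOfLE e0.le).op)
    change G.presheaf.map _ (((pullbackPushforwardAdjunction g).unit.app E).app _
      (E.presheaf.map (homOfLE e0.le).op e)) = G.presheaf.map _ (G.presheaf.map _ _)
    refine (congrArg (fun t => G.presheaf.map
      (homOfLE (AdjBC.image_le_preimage g (g.appLE U U' hle) hU.fromSpec hU'.fromSpec comm)).op t)
      hnat).trans ?_
    change (G.presheaf.map _ ≫ G.presheaf.map _) _ = (G.presheaf.map _ ≫ G.presheaf.map _) _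
    rw [← Functor.map_comp, ← Functor.map_comp]
    rfl
  have hsm : ∀ (r' : Γ(S', U')) (x : Γ(G, U')),
      (show Γ(G, hU'.fromSpec ''ᵁ ⊤) from G.presheaf.map (homOfLE e0'.le).op (r' • x)) =
      r' • (show Γ(G.restrict hU'.fromSpec, ⊤) from G.presheaf.map (homOfLE e0'.le).op x) := by
    intro r' x
    rw [QcLoc.smul_eq hU' G ⊤ r', Scheme.Modules.map_smul]
  let ℓ' : Γ(G, U') →+ C :=
    { toFun := fun x => b.hom (show Γ(G.restrict hU'.fromSpec, ⊤) from
        G.presheaf.map (homOfLE e0'.le).op x)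
      map_zero' := by rw [map_zero]; exact map_zero b.hom
      map_add' := fun x y => by rw [map_add]; exact map_add b.hom _ _ }
  refine ⟨ℓ', ⟨?_, ?_⟩, ?_⟩
  · intro r' x
    change b.hom _ = r' • b.hom _
    rw [hsm r' x]
    exact b.hom.map_smul r' _
  · intro e
    change b.hom _ = _
    have := hb (E.presheaf.map (homOfLE e0.le).op e)
    rw [hv e] at this
    refine this.trans ?_
    change ℓ (E.presheaf.map (homOfLE e0.ge).op (E.presheaf.map (homOfLE e0.le).op e)) = _
    rw [map_map, map_self]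
  · rintro ℓ'' ⟨h1, h2⟩
    let lin : Γ(G.restrict hU'.fromSpec, ⊤) →ₗ[Γ(S', U')] C :=
      { toFun := fun y => ℓ'' (G.presheaf.map (homOfLE e0'.ge).op
          (show Γ(G, hU'.fromSpec ''ᵁ ⊤) from y))
        map_add' := fun x y => by
          change ℓ'' (G.presheaf.map _ (_ + _)) = _
          rw [map_add, map_add]
        map_smul' := fun r' y => by
          change ℓ'' (G.presheaf.map (homOfLE e0'.ge).op
            (show Γ(G, hU'.fromSpec ''ᵁ ⊤) from r' • y)) = r' • ℓ'' _
          rw [← h1]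
          congr 1
          rw [QcLoc.smul_eq hU' G ⊤ r' y, Scheme.Modules.map_smul]
          change (S'.presheaf.map (homOfLE e0'.ge).op).hom
            ((S'.presheaf.map (homOfLE (QcLoc.image_le hU' ⊤)).op).hom r') • _ = _
          rw [rmap_map, rmap_self] }
    let b'' : (moduleSpecΓFunctor (R := Γ(S', U'))).obj (G.restrict hU'.fromSpec) ⟶
        ModuleCat.of Γ(S', U') C :=
      (show ModuleCat.of Γ(S', U') Γ(G.restrict hU'.fromSpec, ⊤) ⟶ ModuleCat.of Γ(S', U') C from
        ModuleCat.ofHom lin)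
    have hb'' : b'' = b := by
      apply hbu
      intro x
      have hx : x = E.presheaf.map (homOfLE e0.le).op (E.presheaf.map (homOfLE e0.ge).op x) := by
        rw [map_map, map_self]
      rw [hx, hv]
      change ℓ'' (G.presheaf.map (homOfLE e0'.ge).op (G.presheaf.map (homOfLE e0'.le).op _)) =
        ℓ (E.presheaf.map (homOfLE e0.ge).op (E.presheaf.map (homOfLE e0.le).op _))
      rw [map_map, map_self, map_map, map_self, h2]
    apply AddMonoidHom.ext
    intro x
    change ℓ'' x = b.hom _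
    rw [← hb'']
    change ℓ'' x = ℓ'' (G.presheaf.map (homOfLE e0'.ge).op (G.presheaf.map (homOfLE e0'.le).op x))
    rw [map_map, map_self]

end Groth.Agent.Helper1.ModBC
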