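import Mathlib
import Groth.Agent.Lib.Helper1.ModBC
import Groth.Agent.Lib.Helper1.SymBiprod
import Groth.Agent.Lib.Helper1.SpecBC
import Groth.Prelude.Def_RelProj4

set_option autoImplicit false
universe u
open CategoryTheory CategoryTheory.Limits AlgebraicGeometry TopologicalSpace Opposite

namespace Groth.Agent.Helper1.SymBC

open Groth.Agent.Helper1.SymAlg Scheme.Modules

variable {S S' : Scheme.{u}} (g : S' ⟶ S)
  (E : S.Modules) {A : RelSpec.QCAlg S} {j : E ⟶ A.toModule}
  {B : RelSpec.QCAlg S'} {j' : (Scheme.Modules.pullback g).obj E ⟶ B.toModule}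
  (u : RelSpec.QHom g A B)
  (hu : ∀ (U : S.Opens), IsAffineOpen U → ∀ (x : Γ(E, U)),
    (u.app U).hom ((j.app U) x) =
      (j'.app (g ⁻¹ᵁ U)) (((pullbackPushforwardAdjunction g).unit.app E).app U x))
  {U : S.Opens} {U' : S'.Opens} (hle : U' ≤ g ⁻¹ᵁ U)

include hu in
theorem appLE_j (hU : IsAffineOpen U) (e : Γ(E, U)) :
    (u.appLE U U' hle).hom (show A.presheaf.obj (op U) from j.app U e) =
      (show B.presheaf.obj (op U') from j'.app U' (ModBC.unitRes g E hle e)) := by
  have hnat := congrArg (fun k => k.hom (((pullbackPushforwardAdjunction g).unit.app E).app U e))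
    (j'.mapPresheaf.naturality (homOfLE hle).op)
  change (B.presheaf.map (homOfLE hle).op).hom ((u.app U).hom (j.app U e)) = _
  rw [hu U hU e]
  exact hnat.symm


variable [E.IsQuasicoherent] (hA : RelSpec.IsSymAlg E A j)
  (hB : RelSpec.IsSymAlg ((Scheme.Modules.pullback g).obj E) B j')
  (hU : IsAffineOpen U) (hU' : IsAffineOpen U')

omit [E.IsQuasicoherent] in
/-- semilinearity of `a ∘ j` -/
theorem semilin (C : CommRingCat.{u}) (f : Γ(S', U') ⟶ C) (a : A.presheaf.obj (op U) ⟶ C)
    (w : g.appLE U U' hle ≫ f = A.str.app (op U) ≫ a) (r : Γ(S, U)) (e : Γ(E, U)) :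
    a.hom (show A.presheaf.obj (op U) from j.app U (r • e)) =
      f.hom ((g.appLE U U' hle).hom r) * a.hom (show A.presheaf.obj (op U) from j.app U e) := by
  rw [Scheme.Modules.Hom.app_smul, str_smul']
  change a.hom (_ * _) = _
  rw [map_mul]
  congr 1
  exact (ConcreteCategory.congr_hom w r).symm

include hu hA hB hU hU' in
theorem exists_desc (C : CommRingCat.{u}) (f : Γ(S', U') ⟶ C) (a : A.presheaf.obj (op U) ⟶ C)
    (w : g.appLE U U' hle ≫ f = A.str.app (op U) ≫ a) :
    ∃ m : B.presheaf.obj (op U') ⟶ C, B.str.app (op U') ≫ m = f ∧ u.appLE U U' hle ≫ m = a := by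
  have hq : ((Scheme.Modules.pullback g).obj E).IsQuasicoherent :=
    QcPullGen.isQuasicoherent_pullback g E
  let _ : Module Γ(S', U') C := Module.compHom C f.hom
  let ℓ : Γ(E, U) →+ C :=
    { toFun := fun e => a.hom (show A.presheaf.obj (op U) from j.app U e)
      map_zero' := by
        rw [map_zero]
        exact map_zero a.hom
      map_add' := fun x y => by
        rw [map_add]
        exact map_add a.hom _ _ }
  obtain ⟨ℓ', ⟨h1, h2⟩, -⟩ := ModBC.existsUnique g E hU hU' hle C ℓ
    (fun r e => semilin g E hle C f a w r e)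
  obtain ⟨m, hm1, hm2⟩ := exists_secHom ((Scheme.Modules.pullback g).obj E) hB U' hU' f.hom ℓ'
    (fun r' x => h1 r' x)
  refine ⟨CommRingCat.ofHom m, ?_, ?_⟩
  · apply CommRingCat.hom_ext
    apply RingHom.ext
    intro r'
    exact hm1 r'
  · apply CommRingCat.hom_ext
    apply secHom_ext E hA U hU
    · intro r
      change m ((u.appLE U U' hle).hom ((A.str.app (op U)).hom r)) = a.hom _
      have e1 : (u.appLE U U' hle).hom ((A.str.app (op U)).hom r) =
          (B.str.app (op U')).hom ((g.appLE U U' hle).hom r) :=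
        ConcreteCategory.congr_hom (u.str_appLE U U' hle) r
      rw [e1, hm1]
      exact ConcreteCategory.congr_hom w r
    · intro e
      change m ((u.appLE U U' hle).hom _) = a.hom _
      rw [appLE_j g E u hu hle hU e, hm2, h2]
      rfl

include hu hB hU hU' in
theorem desc_unique (C : CommRingCat.{u}) (m m' : B.presheaf.obj (op U') ⟶ C)
    (h1 : B.str.app (op U') ≫ m = B.str.app (op U') ≫ m')
    (h2 : u.appLE U U' hle ≫ m = u.appLE U U' hle ≫ m') : m = m' := by
  have hq : ((Scheme.Modules.pullback g).obj E).IsQuasicoherent :=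
    QcPullGen.isQuasicoherent_pullback g E
  let _ : Module Γ(S', U') C := Module.compHom C (B.str.app (op U') ≫ m).hom
  have w : g.appLE U U' hle ≫ (B.str.app (op U') ≫ m) = A.str.app (op U) ≫ (u.appLE U U' hle ≫ m) := by
    rw [← Category.assoc, ← Category.assoc, u.str_appLE U U' hle]
  let ℓ : Γ(E, U) →+ C :=
    { toFun := fun e => (u.appLE U U' hle ≫ m).hom (show A.presheaf.obj (op U) from j.app U e)
      map_zero' := by
        rw [map_zero]
        exact map_zero (u.appLE U U' hle ≫ m).hom
      map_add' := fun x y => by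
        rw [map_add]
        exact map_add (u.appLE U U' hle ≫ m).hom _ _ }
  obtain ⟨ℓ', -, huniq⟩ := ModBC.existsUnique g E hU hU' hle C ℓ
    (fun r e => semilin g E hle C _ _ w r e)
  have mk : ∀ (n : B.presheaf.obj (op U') ⟶ C), B.str.app (op U') ≫ n = B.str.app (op U') ≫ m →
      u.appLE U U' hle ≫ n = u.appLE U U' hle ≫ m →
      ∃ ℓn : Γ((Scheme.Modules.pullback g).obj E, U') →+ C,
        (∀ x, ℓn x = n.hom (show B.presheaf.obj (op U') from j'.app U' x)) ∧ ℓn = ℓ' := by
    intro n hn1 hn2
    let ℓn : Γ((Scheme.Modules.pullback g).obj E, U') →+ C :=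
      { toFun := fun x => n.hom (show B.presheaf.obj (op U') from j'.app U' x)
        map_zero' := by
          rw [map_zero]
          exact map_zero n.hom
        map_add' := fun x y => by
          rw [map_add]
          exact map_add n.hom _ _ }
    refine ⟨ℓn, fun x => rfl, huniq ℓn ⟨?_, ?_⟩⟩
    · intro r' x
      change n.hom (show B.presheaf.obj (op U') from j'.app U' (r' • x)) =
        (B.str.app (op U') ≫ m).hom r' * n.hom _
      rw [Scheme.Modules.Hom.app_smul, str_smul', ← hn1]
      change n.hom (_ * _) = _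
      rw [map_mul]
      rfl
    · intro e
      change n.hom (show B.presheaf.obj (op U') from j'.app U' (ModBC.unitRes g E hle e)) =
        (u.appLE U U' hle ≫ m).hom _
      rw [← appLE_j g E u hu hle hU e, ← hn2]
      rfl
  obtain ⟨ℓ1, hℓ1, e1⟩ := mk m rfl rfl
  obtain ⟨ℓ2, hℓ2, e2⟩ := mk m' h1.symm h2.symm
  apply CommRingCat.hom_ext
  apply secHom_ext ((Scheme.Modules.pullback g).obj E) hB U' hU'
  · intro r'
    exact ConcreteCategory.congr_hom h1 r'
  · intro x
    rw [← hℓ1 x, ← hℓ2 x, e1, e2]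

include hu hA hB in
/-- **the symmetric algebra of the inverse image is the inverse image of the symmetric algebra** -/
theorem isQBaseChange : RelSpec.IsQBaseChange u := by
  intro U hU U' hU' hle
  refine ⟨⟨(u.str_appLE U U' hle).symm⟩, ⟨PushoutCocone.IsColimit.mk _
    (fun s => (exists_desc g E u hu hle hA hB hU hU' s.pt s.inl s.inr s.condition).choose)
    (fun s => (exists_desc g E u hu hle hA hB hU hU' s.pt s.inl s.inr s.condition).choose_spec.1)
    (fun s => (exists_desc g E u hu hle hA hB hU hU' s.pt s.inl s.inr s.condition).choose_spec.2)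
    (fun s m h1 h2 => desc_unique g E u hu hle hB hU hU' s.pt _ _
      (h1.trans (exists_desc g E u hu hle hA hB hU hU' s.pt s.inl s.inr
        s.condition).choose_spec.1.symm)
      (h2.trans (exists_desc g E u hu hle hA hB hU hU' s.pt s.inl s.inr
        s.condition).choose_spec.2.symm))⟩⟩

include hu hA hB in
theorem main12164' (h : B.spec ⟶ A.spec) (hh : RelSpec.IsSpecQMap u h) :
    IsPullback h B.π A.π g :=
  SpecBC.isPullback_spec u (isQBaseChange g E u hu hA hB) h hh


theorem main12164 {S S' : Scheme.{u}} (g : S' ⟶ S)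
    (E : S.Modules) [E.IsQuasicoherent] {A : RelSpec.QCAlg S} {j : E ⟶ A.toModule}
    (hA : RelSpec.IsSymAlg E A j)
    {B : RelSpec.QCAlg S'} {j' : (Scheme.Modules.pullback g).obj E ⟶ B.toModule}
    (hB : RelSpec.IsSymAlg ((Scheme.Modules.pullback g).obj E) B j')
    (u : RelSpec.QHom g A B)
    (hu : ∀ (U : S.Opens) (x : Γ(E, U)),
      (u.app U).hom ((j.app U) x) =
        (j'.app (g ⁻¹ᵁ U)) (((pullbackPushforwardAdjunction g).unit.app E).app U x))
    (h : B.spec ⟶ A.spec) (hh : RelSpec.IsSpecQMap u h) :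
    IsPullback h B.π A.π g :=
  main12164' g E u (fun U _ x => hu U x) hA hB h hh

end Groth.Agent.Helper1.SymBC
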