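import Mathlib
import Groth.Agent.Lib.Helper1.SymBC
import Groth.Agent.Lib.Helper1.QHomAff
import Groth.Agent.Lib.Helper1.PushQc

set_option autoImplicit false
universe u
open CategoryTheory CategoryTheory.Limits AlgebraicGeometry TopologicalSpace Opposite

namespace Groth.Agent.Helper1.SymBC

open Groth.Agent.Helper1.SymAlg Scheme.Modules

section Hom

variable {S S' : Scheme.{u}} (g : S' ⟶ S) (E : S.Modules)
  {A : RelSpec.QCAlg S} {j : E ⟶ A.toModule}
  (B : RelSpec.QCAlg S') (j' : (Scheme.Modules.pullback g).obj E ⟶ B.toModule)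

/-- `j' ∘ unit` on sections -/
noncomputable def ellU (U : S.Opens) : Γ(E, U) →+ B.presheaf.obj (op (g ⁻¹ᵁ U)) :=
  { toFun := fun e => (show B.presheaf.obj (op (g ⁻¹ᵁ U)) from
      j'.app (g ⁻¹ᵁ U) (((pullbackPushforwardAdjunction g).unit.app E).app U e))
    map_zero' := by
      rw [map_zero]
      exact map_zero (j'.app (g ⁻¹ᵁ U)).hom
    map_add' := fun x y => by
      rw [map_add]
      exact map_add (j'.app (g ⁻¹ᵁ U)).hom _ _ }

theorem ellU_smul (U : S.Opens) (r : Γ(S, U)) (e : Γ(E, U)) :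
    ellU g E B j' U (r • e) =
      (g.app U ≫ B.str.app (op (g ⁻¹ᵁ U))).hom r * ellU g E B j' U e := by
  change (show B.presheaf.obj (op (g ⁻¹ᵁ U)) from
      j'.app (g ⁻¹ᵁ U) (((pullbackPushforwardAdjunction g).unit.app E).app U (r • e))) = _
  rw [Scheme.Modules.Hom.app_smul, PushQc.push_smul]
  change (show B.presheaf.obj (op (g ⁻¹ᵁ U)) from
      j'.app (g ⁻¹ᵁ U) (((g.app U).hom r : Γ(S', g ⁻¹ᵁ U)) • _)) = _
  rw [Scheme.Modules.Hom.app_smul, str_smul']
  rfl

theorem ellU_res {U V : S.Opens} (h : V ≤ U) (e : Γ(E, U)) :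
    (B.presheaf.map (homOfLE (g.preimage_mono h)).op).hom (ellU g E B j' U e) =
      ellU g E B j' V (E.presheaf.map (homOfLE h).op e) := by
  have n1 := congrArg (fun k => k.hom e)
    (((pullbackPushforwardAdjunction g).unit.app E).mapPresheaf.naturality (homOfLE h).op)
  have n2 := congrArg (fun k => k.hom (((pullbackPushforwardAdjunction g).unit.app E).app U e))
    (j'.mapPresheaf.naturality (homOfLE (g.preimage_mono h)).op)
  exact n2.symm.trans (congrArg (fun t => (j'.app (g ⁻¹ᵁ V)).hom t) n1.symm)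


variable [E.IsQuasicoherent] (hA : RelSpec.IsSymAlg E A j)

/-- the homomorphism on affine opens -/
noncomputable def tauU (U : S.Opens) (hU : IsAffineOpen U) :
    A.presheaf.obj (op U) →+* B.presheaf.obj (op (g ⁻¹ᵁ U)) :=
  (exists_secHom E hA U hU (g.app U ≫ B.str.app (op (g ⁻¹ᵁ U))).hom (ellU g E B j' U)
    (ellU_smul g E B j' U)).choose

theorem tauU_str (U : S.Opens) (hU : IsAffineOpen U) (r : Γ(S, U)) :
    tauU g E B j' hA U hU ((A.str.app (op U)).hom r) =
      (g.app U ≫ B.str.app (op (g ⁻¹ᵁ U))).hom r :=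
  (exists_secHom E hA U hU (g.app U ≫ B.str.app (op (g ⁻¹ᵁ U))).hom (ellU g E B j' U)
    (ellU_smul g E B j' U)).choose_spec.1 r

theorem tauU_j (U : S.Opens) (hU : IsAffineOpen U) (e : Γ(E, U)) :
    tauU g E B j' hA U hU (show A.presheaf.obj (op U) from j.app U e) = ellU g E B j' U e :=
  (exists_secHom E hA U hU (g.app U ≫ B.str.app (op (g ⁻¹ᵁ U))).hom (ellU g E B j' U)
    (ellU_smul g E B j' U)).choose_spec.2 e

theorem tauU_res {U V : S.Opens} (hU : IsAffineOpen U) (hV : IsAffineOpen V) (h : V ≤ U) :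
    (tauU g E B j' hA V hV).comp (A.presheaf.map (homOfLE h).op).hom =
      (B.presheaf.map (homOfLE (g.preimage_mono h)).op).hom.comp (tauU g E B j' hA U hU) := by
  apply secHom_ext E hA U hU
  · intro r
    simp only [RingHom.comp_apply]
    have e1 : (A.presheaf.map (homOfLE h).op).hom ((A.str.app (op U)).hom r) =
        (A.str.app (op V)).hom ((S.presheaf.map (homOfLE h).op).hom r) :=
      (ConcreteCategory.congr_hom (A.str.naturality (homOfLE h).op) r).symm
    rw [e1, tauU_str, tauU_str]
    have e2 : (B.presheaf.map (homOfLE (g.preimage_mono h)).op).hom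
        ((B.str.app (op (g ⁻¹ᵁ U))).hom ((g.app U).hom r)) =
        (B.str.app (op (g ⁻¹ᵁ V))).hom ((S'.presheaf.map (homOfLE (g.preimage_mono h)).op).hom
          ((g.app U).hom r)) :=
      (ConcreteCategory.congr_hom (B.str.naturality (homOfLE (g.preimage_mono h)).op) _).symm
    have e3 : (S'.presheaf.map (homOfLE (g.preimage_mono h)).op).hom ((g.app U).hom r) =
        (g.app V).hom ((S.presheaf.map (homOfLE h).op).hom r) :=
      (ConcreteCategory.congr_hom (g.naturality (homOfLE h).op) r).symm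
    change (B.str.app (op (g ⁻¹ᵁ V))).hom ((g.app V).hom _) =
      (B.presheaf.map (homOfLE (g.preimage_mono h)).op).hom
        ((B.str.app (op (g ⁻¹ᵁ U))).hom ((g.app U).hom r))
    rw [e2, e3]
  · intro e
    simp only [RingHom.comp_apply]
    have e1 : (A.presheaf.map (homOfLE h).op).hom (show A.presheaf.obj (op U) from j.app U e) =
        (show A.presheaf.obj (op V) from j.app V (E.presheaf.map (homOfLE h).op e)) :=
      (congrArg (fun k => k.hom e) (j.mapPresheaf.naturality (homOfLE h).op)).symm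
    rw [e1, tauU_j, tauU_j, ellU_res]

/-- the family as a natural transformation on affine opens -/
noncomputable def tauNat :
    (Scheme.AffineZariskiSite.toOpensFunctor S).op ⋙ A.presheaf ⟶
      (Scheme.AffineZariskiSite.toOpensFunctor S).op ⋙ QHomAff.pushB g B where
  app U := CommRingCat.ofHom (tauU g E B j' hA U.unop.1 U.unop.2)
  naturality U V i := by
    apply CommRingCat.hom_ext
    exact tauU_res g E B j' hA U.unop.2 V.unop.2
      ((Scheme.AffineZariskiSite.toOpensFunctor S).map i.unop).le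

/-- the canonical `g`-morphism `Sym E ⟶ Sym (g^* E)` -/
noncomputable def uHom : RelSpec.QHom g A B :=
  QHomAff.qhom g A B (tauNat g E B j' hA) (by
    intro U
    apply CommRingCat.hom_ext
    apply RingHom.ext
    intro r
    exact tauU_str g E B j' hA U.1 U.2 r)

theorem uHom_app (U : S.Opens) (hU : IsAffineOpen U) (x : A.presheaf.obj (op U)) :
    ((uHom g E B j' hA).app U).hom x = tauU g E B j' hA U hU x :=
  ConcreteCategory.congr_hom (QHomAff.qhom_app g A B (tauNat g E B j' hA) _ ⟨U, hU⟩) x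

theorem uHom_j (U : S.Opens) (hU : IsAffineOpen U) (x : Γ(E, U)) :
    ((uHom g E B j' hA).app U).hom ((j.app U) x) =
      (j'.app (g ⁻¹ᵁ U)) (((pullbackPushforwardAdjunction g).unit.app E).app U x) := by
  rw [uHom_app g E B j' hA U hU]
  exact tauU_j g E B j' hA U hU x

end Hom

end Groth.Agent.Helper1.SymBC
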