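import Mathlib
import Groth.Agent.Lib.Helper1.SymBCHom
import Groth.Agent.Lib.Helper1.SymForced
import Groth.Agent.Lib.Helper1.ProjBCQ

set_option autoImplicit false
universe u
open CategoryTheory CategoryTheory.Limits AlgebraicGeometry TopologicalSpace Opposite

namespace Groth.Agent.Helper1.SymBC

open Groth.Agent.Helper1.SymAlg Scheme.Modules

variable {Y Y' : Scheme.{u}} (ψ : Y' ⟶ Y) (E : Y.Modules) [E.IsQuasicoherent]
  {𝒮 : RelProj.QCGrAlg Y} {j : E ⟶ 𝒮.toModule} (hj : RelProj.IsGrSymAlg E 𝒮 j)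
  {𝒮' : RelProj.QCGrAlg Y'} {j' : (Scheme.Modules.pullback ψ).obj E ⟶ 𝒮'.toModule}
  (hj' : RelProj.IsGrSymAlg ((Scheme.Modules.pullback ψ).obj E) 𝒮' j')

include hj hj' in
theorem map_mem_of (u : RelSpec.QHom ψ 𝒮.toQCAlg 𝒮'.toQCAlg)
    (hu : ∀ (U : Y.Opens), IsAffineOpen U → ∀ (x : Γ(E, U)),
      (u.app U).hom ((j.app U) x) =
        (j'.app (ψ ⁻¹ᵁ U)) (((pullbackPushforwardAdjunction ψ).unit.app E).app U x))
    (U : Y.Opens) (hU : IsAffineOpen U) (U' : Y'.Opens) (hU' : IsAffineOpen U')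
    (hle : U' ≤ ψ ⁻¹ᵁ U) {d : ℕ} {x : 𝒮.presheaf.obj (op U)} (hx : x ∈ 𝒮.deg U hU d) :
    (𝒮'.presheaf.map (homOfLE hle).op).hom ((u.app U).hom x) ∈ 𝒮'.deg U' hU' d := by
  change (u.appLE U U' hle).hom x ∈ 𝒮'.deg U' hU' d
  obtain ⟨c, hc1, hc2, -, hge⟩ := exists_gradedEquiv E hj U hU
  obtain ⟨x₀, hx₀, rfl⟩ := hge d x hx
  clear hx
  induction hx₀ using Submodule.pow_induction_on_left' with
  | algebraMap r =>
    rw [hc1]
    have e1 : (u.appLE U U' hle).hom ((𝒮.str.app (op U)).hom r) =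
        (𝒮'.str.app (op U')).hom ((ψ.appLE U U' hle).hom r) :=
      ConcreteCategory.congr_hom (u.str_appLE U U' hle) r
    rw [e1]
    exact 𝒮'.str_mem U' hU' _
  | add x y i hx hy ihx ihy => rw [map_add, map_add]; exact add_mem ihx ihy
  | mem_mul m hm i x hx ih =>
    obtain ⟨m, rfl⟩ := hm
    rw [map_mul, map_mul, hc2, appLE_j ψ E u hu hle hU m]
    have := SetLike.mul_mem_graded (A := 𝒮'.deg U' hU') (hj'.2 U' hU' (ModBC.unitRes ψ E hle m)) ih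
    rw [add_comm] at this
    exact this

/-- the canonical graded `ψ`-morphism `Sym E ⟶ Sym (ψ^* E)` -/
noncomputable def uGr : RelProj.QGrHom ψ 𝒮 𝒮' where
  toQHom := uHom ψ E 𝒮'.toQCAlg j' hj.1
  map_mem U hU U' hU' hle _ _ hx :=
    map_mem_of ψ E hj hj' (uHom ψ E 𝒮'.toQCAlg j' hj.1)
      (fun V hV x => uHom_j ψ E 𝒮'.toQCAlg j' hj.1 V hV x) U hU U' hU' hle hx

theorem isQBaseChange_uGr : RelSpec.IsQBaseChange (uGr ψ E hj hj').toQHom :=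
  isQBaseChange ψ E (uHom ψ E 𝒮'.toQCAlg j' hj.1)
    (fun V hV x => uHom_j ψ E 𝒮'.toQCAlg j' hj.1 V hV x) hj.1 hj'.1

include hj hj' in
theorem main5731 {P P' : Scheme.{u}} (p : P ⟶ Y)
    (chart : ∀ (U : Y.Opens) (hU : IsAffineOpen U),
      ((p ⁻¹ᵁ U : P.Opens) : Scheme.{u}) ≅ Proj (𝒮.deg U hU))
    (hP : RelProj.IsRelProj 𝒮 p chart) (p' : P' ⟶ Y')
    (chart' : ∀ (U' : Y'.Opens) (hU' : IsAffineOpen U'),
      ((p' ⁻¹ᵁ U' : P'.Opens) : Scheme.{u}) ≅ Proj (𝒮'.deg U' hU'))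
    (hP' : RelProj.IsRelProj 𝒮' p' chart') :
    ∃ g : P' ⟶ P, IsPullback g p' p ψ := by
  obtain ⟨h, hh⟩ := ProjBCQ.exists_isProjQMap (uGr ψ E hj hj') (isQBaseChange_uGr ψ E hj hj')
    p chart p' chart' hP hP'
  exact ⟨h, ProjBCQ.isPullback (uGr ψ E hj hj') (isQBaseChange_uGr ψ E hj hj')
    p chart p' chart' hP hP' h hh⟩

end Groth.Agent.Helper1.SymBC
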