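import Mathlib
import Groth.Agent.Lib.Helper1.RPQ1
import Groth.Agent.Lib.Helper1.SymBCGr
import Groth.Agent.Lib.Helper1.SymFacts
import Groth.Agent.Lib.Helper1.RP9
import Groth.Agent.Lib.Helper1.RP2

set_option autoImplicit false
universe u

open CategoryTheory CategoryTheory.Limits AlgebraicGeometry TopologicalSpace Opposite
open HomogeneousLocalization
open scoped HomogeneousIdeal

namespace Groth.Agent.Helper1.VABC

open Groth.Agent.Helper1.ProjQ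

section Chart
variable {Y Y' P P' : Scheme.{u}} {ψ : Y' ⟶ Y} {𝒮 : RelProj.QCGrAlg Y} {𝒮' : RelProj.QCGrAlg Y'}
  (u : RelProj.QGrHom ψ 𝒮 𝒮') (hu : RelSpec.IsQBaseChange u.toQHom)
  (p : P ⟶ Y)
  (chart : ∀ (U : Y.Opens) (hU : IsAffineOpen U),
    (((p ⁻¹ᵁ U : P.Opens) : Scheme.{u}) ≅ Proj (𝒮.deg U hU)))
  (p' : P' ⟶ Y')
  (chart' : ∀ (U : Y'.Opens) (hU : IsAffineOpen U),
    (((p' ⁻¹ᵁ U : P'.Opens) : Scheme.{u}) ≅ Proj (𝒮'.deg U hU)))

theorem isChartMap (h : P' ⟶ P) (hh : RelProj.IsProjQMap u p chart p' chart' h) :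
    RPQ.IsChartMap u (ProjBCQ.hirr u hu) p chart p' chart' h := by
  intro U hU U' hU' hle
  refine (Proj.mapAffineOpenCover (u.gradedAt U hU U' hU' hle)
    (ProjBCQ.hirr u hu U hU U' hU' hle)).openCover.hom_ext _ _ ?_
  rintro (s : Σ i : PNat, 𝒮.deg U hU i)
  show Proj.awayι (𝒮'.deg U' hU') (u.gradedAt U hU U' hU' hle (s.2 : 𝒮.presheaf.obj (op U)))
      ((u.gradedAt U hU U' hU' hle).map_mem s.2.2) s.1.2 ≫ RelProj.emb p' chart' U' hU' ≫ h =
    Proj.awayι (𝒮'.deg U' hU') (u.gradedAt U hU U' hU' hle (s.2 : 𝒮.presheaf.obj (op U)))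
      ((u.gradedAt U hU U' hU' hle).map_mem s.2.2) s.1.2 ≫
      Proj.map (u.gradedAt U hU U' hU' hle) (ProjBCQ.hirr u hu U hU U' hU' hle) ≫
        RelProj.emb p chart U hU
  have key := Proj.awayι_comp_map (u.gradedAt U hU U' hU' hle) (ProjBCQ.hirr u hu U hU U' hU' hle)
    s.1.2 (s.2 : 𝒮.presheaf.obj (op U)) s.2.2
  have := hh.2 U hU U' hU' hle s.1 s.1.2 (s.2 : 𝒮.presheaf.obj (op U)) s.2.2
  rw [RelProj.awayEmb, Category.assoc] at this
  rw [this]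
  exact ((Category.assoc _ _ _).symm.trans
    (congrArg (· ≫ RelProj.emb p chart U hU) key.symm)).trans (Category.assoc _ _ _)

end Chart

/-- the base-changed projective bundle data -/
theorem exists_bundle_baseChange {Y Y' P : Scheme.{u}} (ψ : Y' ⟶ Y) (E : Y.Modules)
    [E.IsQuasicoherent] (𝒮 : RelProj.QCGrAlg Y) (j : E ⟶ 𝒮.toModule)
    (hj : RelProj.IsGrSymAlg E 𝒮 j) (p : P ⟶ Y)
    (chart : ∀ (U : Y.Opens) (hU : IsAffineOpen U),
      (((p ⁻¹ᵁ U : P.Opens) : Scheme.{u}) ≅ Proj (𝒮.deg U hU)))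
    (hP : RelProj.IsRelProj 𝒮 p chart) (O1 : P.Modules)
    (lam : ∀ (U : Y.Opens) (hU : IsAffineOpen U),
      O1 ⟶ (Scheme.Modules.pushforward (RelProj.emb p chart U hU)).obj
        (GrTwist.twist (𝒮.deg U hU) 1))
    (hO1 : RelProj.IsRelTwist 𝒮 p chart 1 O1 lam) :
    ∃ (𝒮' : RelProj.QCGrAlg Y') (j' : (Scheme.Modules.pullback ψ).obj E ⟶ 𝒮'.toModule)
      (_ : RelProj.IsGrSymAlg ((Scheme.Modules.pullback ψ).obj E) 𝒮' j')
      (P' : Scheme.{u}) (p' : P' ⟶ Y')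
      (chart' : ∀ (U : Y'.Opens) (hU : IsAffineOpen U),
        (((p' ⁻¹ᵁ U : P'.Opens) : Scheme.{u}) ≅ Proj (𝒮'.deg U hU)))
      (_ : RelProj.IsRelProj 𝒮' p' chart') (O1' : P'.Modules)
      (lam' : ∀ (U : Y'.Opens) (hU : IsAffineOpen U),
        O1' ⟶ (Scheme.Modules.pushforward (RelProj.emb p' chart' U hU)).obj
          (GrTwist.twist (𝒮'.deg U hU) 1))
      (_ : RelProj.IsRelTwist 𝒮' p' chart' 1 O1' lam') (h : P' ⟶ P),
      IsPullback h p' p ψ ∧ Nonempty ((Scheme.Modules.pullback h).obj O1 ≅ O1') := by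
  have hq : ((Scheme.Modules.pullback ψ).obj E).IsQuasicoherent :=
    QcPullGen.isQuasicoherent_pullback ψ E
  let 𝒮' := SymAlg.symGr ((Scheme.Modules.pullback ψ).obj E)
  let j' := SymAlg.jGr ((Scheme.Modules.pullback ψ).obj E)
  have hj' : RelProj.IsGrSymAlg ((Scheme.Modules.pullback ψ).obj E) 𝒮' j' :=
    SymAlg.isGrSymAlg ((Scheme.Modules.pullback ψ).obj E)
  obtain ⟨P', p', chart', hP'⟩ := RP2.exists_isRelProj 𝒮'
  obtain ⟨O1', lam', hO1'⟩ := RP9.exists_isRelTwist hP' 1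
  let u := SymBC.uGr ψ E hj hj'
  have hu := SymBC.isQBaseChange_uGr ψ E hj hj'
  obtain ⟨h, hh⟩ := ProjBCQ.exists_isProjQMap u hu p chart p' chart' hP hP'
  have hpb := ProjBCQ.isPullback u hu p chart p' chart' hP hP' h hh
  have hcm := isChartMap u hu p chart p' chart' h hh
  have hiso := RPQ.nonempty_pullback_iso (SymAlg.isGenDegOne_of_isGrSymAlg hj) hP hP' hcm hO1 hO1'
  exact ⟨𝒮', j', hj', P', p', chart', hP', O1', lam', hO1', h, hpb, hiso⟩


/-- general form: a morphism to the base-changed bundle -/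
theorem isRelVeryAmple_of_lift {X X' Y Y' : Scheme.{u}} (f : X ⟶ Y) (ψ : Y' ⟶ Y) (g' : X' ⟶ X)
    (f' : X' ⟶ Y') (w : g' ≫ f = f' ≫ ψ) (L : X.Modules) (hva : RelProj.IsRelVeryAmple f L)
    (himm : ∀ {P P' : Scheme.{u}} (p : P ⟶ Y) (p' : P' ⟶ Y') (h : P' ⟶ P) (hpb : IsPullback h p' p ψ)
      (i : X ⟶ P) (_ : IsImmersion i) (hip : i ≫ p = f),
      IsImmersion (hpb.lift (g' ≫ i) f' (by rw [Category.assoc, hip, w]))) :
    RelProj.IsRelVeryAmple f' ((Scheme.Modules.pullback g').obj L) := by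
  obtain ⟨E, hE, 𝒮, j, hj, P, p, chart, hP, O1, lam, hO1, i, hi, hip, ⟨eL⟩⟩ := hva
  have : E.IsQuasicoherent := hE
  obtain ⟨𝒮', j', hj', P', p', chart', hP', O1', lam', hO1', h, hpb, ⟨eO⟩⟩ :=
    exists_bundle_baseChange ψ E 𝒮 j hj p chart hP O1 lam hO1
  have hcomm : (g' ≫ i) ≫ p = f' ≫ ψ := by rw [Category.assoc, hip, w]
  let i' : X' ⟶ P' := hpb.lift (g' ≫ i) f' hcomm
  have hi'h : i' ≫ h = g' ≫ i := hpb.lift_fst _ _ _
  have hi'p : i' ≫ p' = f' := hpb.lift_snd _ _ _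
  have himm' : IsImmersion i' := himm p p' h hpb i hi hip
  refine ⟨(Scheme.Modules.pullback ψ).obj E, QcPullGen.isQuasicoherent_pullback ψ E, 𝒮', j', hj',
    P', p', chart', hP', O1', lam', hO1', i', himm', hi'p, ⟨?_⟩⟩
  exact (Scheme.Modules.pullback g').mapIso eL ≪≫
    (Scheme.Modules.pullbackComp g' i).app O1 ≪≫
    (Scheme.Modules.pullbackCongr hi'h.symm).app O1 ≪≫
    ((Scheme.Modules.pullbackComp i' h).app O1).symm ≪≫
    (Scheme.Modules.pullback i').mapIso eO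

theorem main12474 {X Y X' Y' : Scheme.{u}} (f : X ⟶ Y) (g : Y' ⟶ Y) (g' : X' ⟶ X) (f' : X' ⟶ Y')
    (hsq : IsPullback g' f' f g) (L : X.Modules) (hva : RelProj.IsRelVeryAmple f L) :
    RelProj.IsRelVeryAmple f' ((Scheme.Modules.pullback g').obj L) := by
  apply isRelVeryAmple_of_lift f g g' f' hsq.w L hva
  intro P P' p p' h hpb i hi hip
  have hbig : IsPullback g' (hpb.lift (g' ≫ i) f' (by rw [Category.assoc, hip, hsq.w]) ≫ p')
      (i ≫ p) g := by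
    rw [hpb.lift_snd, hip]
    exact hsq
  have hleft : IsPullback (hpb.lift (g' ≫ i) f' (by rw [Category.assoc, hip, hsq.w])) g' h i :=
    IsPullback.of_right hbig.flip (hpb.lift_fst _ _ _) hpb.flip
  exact MorphismProperty.of_isPullback hleft.flip hi

theorem main12476 {X Y Z : Scheme.{u}} (f : X ⟶ Y) (g : Y ⟶ Z) (L : X.Modules)
    (hva : RelProj.IsRelVeryAmple (f ≫ g) L) : RelProj.IsRelVeryAmple f L := by
  have h1 := isRelVeryAmple_of_lift (f ≫ g) g (𝟙 X) f (Category.id_comp _) L hva (by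
    intro P P' p p' h hpb i hi hip
    have : IsImmersion (hpb.lift (𝟙 X ≫ i) f (by rw [Category.assoc, hip, Category.id_comp]) ≫ h) := by
      rw [hpb.lift_fst, Category.id_comp]
      exact hi
    exact IsImmersion.of_comp _ h)
  obtain ⟨E, hE, 𝒮, j, hj, P, p, chart, hP, O1, lam, hO1, i, hi, hip, ⟨eL⟩⟩ := h1
  exact ⟨E, hE, 𝒮, j, hj, P, p, chart, hP, O1, lam, hO1, i, hi, hip,
    ⟨((Scheme.Modules.pullbackId X).app L).symm ≪≫ eL⟩⟩

end Groth.Agent.Helper1.VABC
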