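import Mathlib
import Groth.Agent.Lib.Helper1.AmpleRestr
import Groth.Agent.Lib.Helper1.PushQc

set_option autoImplicit false
universe u
open CategoryTheory CategoryTheory.Limits AlgebraicGeometry TopologicalSpace Opposite

namespace Groth.Agent.Helper1.CounitLib

open Groth.Agent.Helper1.QcCech Groth.Agent.Helper1.SubSh Groth.Agent.Helper1

variable {X S : Scheme.{u}} (f : X ⟶ S)

/-- the counit of `f^* ⊣ f_*` at `F` is an epimorphism iff `f_*` detects vanishing of maps out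
of `F` -/
theorem epi_counit_iff (F : X.Modules) :
    Epi ((Scheme.Modules.pullbackPushforwardAdjunction f).counit.app F) ↔
      ∀ (Q : X.Modules) (g : F ⟶ Q), (Scheme.Modules.pushforward f).map g = 0 → g = 0 := by
  let adj := Scheme.Modules.pullbackPushforwardAdjunction f
  constructor
  · intro hepi Q g hg
    have h1 : adj.homEquiv _ _ (adj.counit.app F ≫ g) = adj.homEquiv _ _ (adj.counit.app F ≫ 0) := by
      rw [Adjunction.homEquiv_unit, Adjunction.homEquiv_unit, Functor.map_comp, Functor.map_comp,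
        hg, Functor.map_zero]
    have h2 := (adj.homEquiv _ _).injective h1
    exact (cancel_epi _).1 h2
  · intro h
    apply Preadditive.epi_of_cancel_zero
    intro Q g hg
    apply h
    have h1 : (Scheme.Modules.pushforward f).map g =
        adj.unit.app _ ≫ (Scheme.Modules.pushforward f).map (adj.counit.app F ≫ g) := by
      rw [Functor.map_comp, ← Category.assoc]
      have := adj.right_triangle_components F
      rw [this]
      exact (Category.id_comp _).symm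
    rw [h1, hg, Functor.map_zero, comp_zero]

theorem pushforward_map_eq_zero_iff {F Q : X.Modules} (g : F ⟶ Q) :
    (Scheme.Modules.pushforward f).map g = 0 ↔
      ∀ U : S.Opens, IsAffineOpen U → ∀ t : Γ(F, f ⁻¹ᵁ U), g.app (f ⁻¹ᵁ U) t = 0 := by
  constructor
  · intro hg U _ t
    have := congrArg (fun φ => Scheme.Modules.Hom.app φ U) hg
    change g.app (f ⁻¹ᵁ U) = 0 at this
    rw [this]
    rfl
  · intro h
    apply Scheme.Modules.hom_ext
    intro U
    ext t
    change g.app (f ⁻¹ᵁ U) t = 0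
    apply TwistSec.eq_of_locally Q
    intro x hx
    obtain ⟨_, ⟨V, hV, rfl⟩, hxV, hVU⟩ :=
      S.isBasis_affineOpens.exists_subset_of_mem_open (show f x ∈ U from hx) U.isOpen
    refine ⟨f ⁻¹ᵁ V, f.preimage_mono (show V ≤ U from hVU), hxV, ?_⟩
    rw [← QcExt.app_res, h V hV, map_zero]

/-- criterion for the counit to be an epimorphism, in terms of sections over preimages of affine
opens -/
theorem epi_counit_iff' (F : X.Modules) :
    Epi ((Scheme.Modules.pullbackPushforwardAdjunction f).counit.app F) ↔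
      ∀ (Q : X.Modules) (g : F ⟶ Q),
        (∀ U : S.Opens, IsAffineOpen U → ∀ t : Γ(F, f ⁻¹ᵁ U), g.app (f ⁻¹ᵁ U) t = 0) → g = 0 := by
  rw [epi_counit_iff]
  exact ⟨fun h Q g hg => h Q g ((pushforward_map_eq_zero_iff f g).2 hg),
    fun h Q g hg => h Q g ((pushforward_map_eq_zero_iff f g).1 hg)⟩

/-- the subsheaf of `F` generated by the sections over preimages of affine opens of `S` -/
noncomputable def genPre (F : X.Modules) : PreSub F where
  carrier W := Submodule.span Γ(X, W)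
    {t | ∃ (U : S.Opens) (_ : IsAffineOpen U) (h : W ≤ f ⁻¹ᵁ U) (τ : Γ(F, f ⁻¹ᵁ U)),
      t = QcCech.res F h τ}
  res_mem := by
    intro W V h t ht
    induction ht using Submodule.span_induction with
    | mem x hx =>
      obtain ⟨U, hU, hW, τ, rfl⟩ := hx
      rw [QcCech.res_res]
      exact Submodule.subset_span ⟨U, hU, h.trans hW, τ, rfl⟩
    | zero => rw [map_zero]; exact Submodule.zero_mem _
    | add x y _ _ hx hy => rw [map_add]; exact Submodule.add_mem _ hx hy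
    | smul r x _ hx => rw [QcCech.res_smul]; exact Submodule.smul_mem _ _ hx

/-- if the counit is an epimorphism, every section of `F` is locally a combination of sections
over preimages of affine opens -/
theorem mem_genPre_loc_of_epi (F : X.Modules)
    (hepi : Epi ((Scheme.Modules.pullbackPushforwardAdjunction f).counit.app F))
    {W : X.Opens} (t : Γ(F, W)) : t ∈ (genPre f F).loc.carrier W := by
  let N := (genPre f F).loc
  have h0 : cokernel.π N.ι = 0 := by
    apply (epi_counit_iff' f F).1 hepi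
    intro U hU τ
    have hτ : τ ∈ N.carrier (f ⁻¹ᵁ U) :=
      (genPre f F).le_loc (Submodule.subset_span ⟨U, hU, le_rfl, τ, (QcCech.res_self F _ τ).symm⟩)
    have h1 : (N.ι ≫ cokernel.π N.ι).app (f ⁻¹ᵁ U) (N.mkSec τ hτ) =
        (cokernel.π N.ι).app (f ⁻¹ᵁ U) (N.ι.app (f ⁻¹ᵁ U) (N.mkSec τ hτ)) := rfl
    rw [cokernel.condition] at h1
    rw [LocalSub.ι_app_mkSec] at h1
    rw [← h1]
    rfl
  have : Epi N.ι := Abelian.epi_of_cokernel_π_eq_zero _ h0
  have : IsIso N.ι := isIso_of_mono_of_epi _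
  exact N.mem_of_isIso t

/-- `F` is generated over `V` by its sections over `V` -/
def SpannedBy (F : X.Modules) (V : X.Opens) : Prop :=
  ∀ (O : X.Opens) (hO : O ≤ V) (t : Γ(F, O)) (x : X), x ∈ O →
    ∃ (O' : X.Opens) (hO' : O' ≤ O), x ∈ O' ∧
      QcCech.res F hO' t ∈ Submodule.span Γ(X, O')
        (Set.range fun τ : Γ(F, V) => QcCech.res F (hO'.trans hO) τ)

theorem spannedBy_of_epi_counit' (F : X.Modules)
    [F.IsQuasicoherent]
    (hepi : Epi ((Scheme.Modules.pullbackPushforwardAdjunction f).counit.app F))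
    (U : S.Opens) (hU : IsAffineOpen U) (hc : IsCompact (f ⁻¹ᵁ U : Set X))
    (hqs : IsQuasiSeparated (f ⁻¹ᵁ U : Set X)) : SpannedBy F (f ⁻¹ᵁ U) := by
  intro O hO t x hx
  obtain ⟨W, hWO, hxW, hm⟩ := mem_genPre_loc_of_epi f F hepi t x hx
  have hWV : W ≤ f ⁻¹ᵁ U := hWO.trans hO
  have key : ∀ z ∈ (genPre f F).carrier W, ∃ (W₂ : X.Opens) (hW₂ : W₂ ≤ W), x ∈ W₂ ∧
      QcCech.res F hW₂ z ∈ Submodule.span Γ(X, W₂)
        (Set.range fun τ : Γ(F, f ⁻¹ᵁ U) => QcCech.res F (hW₂.trans hWV) τ) := by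
    intro z hz
    induction hz using Submodule.span_induction with
    | mem z hz =>
      obtain ⟨U', hU', hWU', τ, rfl⟩ := hz
      have hfx : f x ∈ U ⊓ U' := ⟨hWV hxW, hWU' hxW⟩
      obtain ⟨hh, hle, hfx'⟩ := hU.exists_basicOpen_le (V := U ⊓ U') ⟨f x, hfx⟩ hfx.1
      let φ : Γ(X, f ⁻¹ᵁ U) := (f.app U).hom hh
      have hφ : X.basicOpen φ = f ⁻¹ᵁ S.basicOpen hh := (Scheme.preimage_basicOpen f hh).symm
      have hφU' : X.basicOpen φ ≤ f ⁻¹ᵁ U' := by
        rw [hφ]
        exact f.preimage_mono (hle.trans inf_le_right)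
      have hxφ : x ∈ X.basicOpen φ := by
        rw [hφ]; exact hfx'
      obtain ⟨n, τ', hτ'⟩ := QcsLoc.ext_of_isCompact F φ (f ⁻¹ᵁ U) hqs (f ⁻¹ᵁ U) hc le_rfl le_rfl
        (QcCech.res F (inf_le_right.trans hφU') τ)
      refine ⟨W ⊓ X.basicOpen φ, inf_le_left, ⟨hxW, hxφ⟩, ?_⟩
      have hu : IsUnit (resR ((inf_le_left : W ⊓ X.basicOpen φ ≤ W).trans hWV) φ) :=
        (GenLoc.isUnit_res_iff φ _ _).2 inf_le_right
      obtain ⟨u, hu'⟩ := hu
      have h1 := congrArg (QcCech.res F (inf_le_inf_right (X.basicOpen φ) hWV :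
        W ⊓ X.basicOpen φ ≤ f ⁻¹ᵁ U ⊓ X.basicOpen φ)) hτ'
      rw [QcCech.res_res, QcCech.res_rsmul, QcCech.res_res, QcCech.rsmul, map_pow] at h1
      rw [QcCech.res_res]
      have h2 : QcCech.res F ((inf_le_left : W ⊓ X.basicOpen φ ≤ W).trans hWU') τ =
          ((u⁻¹ ^ n : (Γ(X, W ⊓ X.basicOpen φ))ˣ) : Γ(X, W ⊓ X.basicOpen φ)) •
            QcCech.res F ((inf_le_left : W ⊓ X.basicOpen φ ≤ W).trans hWV) τ' := by
        rw [h1, ← hu', smul_smul, ← Units.val_pow_eq_pow_val, ← Units.val_mul, ← mul_pow,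
          inv_mul_cancel, one_pow, Units.val_one, one_smul]
      rw [h2]
      exact Submodule.smul_mem _ _ (Submodule.subset_span ⟨τ', rfl⟩)
    | zero =>
      exact ⟨W, le_rfl, hxW, by rw [map_zero]; exact Submodule.zero_mem _⟩
    | add a b _ _ ha hb =>
      obtain ⟨W₁, hW₁, hx₁, hm₁⟩ := ha
      obtain ⟨W₂, hW₂, hx₂, hm₂⟩ := hb
      refine ⟨W₁ ⊓ W₂, inf_le_left.trans hW₁, ⟨hx₁, hx₂⟩, ?_⟩
      rw [map_add]
      have e1 := AmpleLib.res_mem_span F (inf_le_left : W₁ ⊓ W₂ ≤ W₁) _ _ hm₁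
      have e2 := AmpleLib.res_mem_span F (inf_le_right : W₁ ⊓ W₂ ≤ W₂) _ _ hm₂
      rw [QcCech.res_res] at e1 e2
      refine Submodule.add_mem _ (Submodule.span_mono ?_ e1) (Submodule.span_mono ?_ e2)
      · rintro _ ⟨_, ⟨τ, rfl⟩, rfl⟩
        exact ⟨τ, (QcCech.res_res _ _ _ _).symm⟩
      · rintro _ ⟨_, ⟨τ, rfl⟩, rfl⟩
        exact ⟨τ, (QcCech.res_res _ _ _ _).symm⟩
    | smul r a _ ha =>
      obtain ⟨W₁, hW₁, hx₁, hm₁⟩ := ha
      refine ⟨W₁, hW₁, hx₁, ?_⟩
      rw [QcCech.res_smul]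
      exact Submodule.smul_mem _ _ hm₁
  obtain ⟨W₂, hW₂, hxW₂, hm₂⟩ := key _ hm
  refine ⟨W₂, hW₂.trans hWO, hxW₂, ?_⟩
  rw [QcCech.res_res] at hm₂
  exact hm₂

theorem spannedBy_of_epi_counit [QuasiCompact f] [QuasiSeparated f] (F : X.Modules)
    [F.IsQuasicoherent]
    (hepi : Epi ((Scheme.Modules.pullbackPushforwardAdjunction f).counit.app F))
    (U : S.Opens) (hU : IsAffineOpen U) : SpannedBy F (f ⁻¹ᵁ U) :=
  spannedBy_of_epi_counit' f F hepi U hU (f.isCompact_preimage hU.isCompact)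
    (f.isQuasiSeparated_preimage hU.isQuasiSeparated)

/-- a morphism out of a globally generated module which kills the global sections is zero -/
theorem eq_zero_of_epi_gen {M N : X.Modules} (hM : Epi (GlobGen.gen M)) (h : M ⟶ N)
    (h0 : ∀ t : Γ(M, ⊤), h.app ⊤ t = 0) : h = 0 := by
  have h1 : GlobGen.gen M ≫ h = 0 := by
    apply N.freeHomEquiv.injective
    ext1 i
    rw [SheafOfModules.freeHomEquiv_comp_apply, GlobGen.gen, Equiv.apply_symm_apply]
    apply GlobGen.sections_ext_top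
    rw [GlobGen.sectionsMap_eval, GlobGen.secOfTop_eval_top]
    exact h0 i
  exact (cancel_epi (GlobGen.gen M)).1 (h1.trans comp_zero.symm)

theorem isGloballyGenerated_restrict_of_spannedBy (F : X.Modules) (V : X.Opens)
    (h : SpannedBy F V) : Curv2.IsGloballyGenerated (F.restrict V.ι) := by
  refine ⟨Γ(F.restrict V.ι, ⊤), GlobGen.ofSections (fun t : Γ(F.restrict V.ι, ⊤) => t), ?_⟩
  apply GlobGen.epi_of_mem_loc
  intro O' t' y hy
  have hO : V.ι ''ᵁ O' ≤ V := V.ι_image_le O'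
  obtain ⟨O₂, hO₂, hxO₂, hm⟩ := h (V.ι ''ᵁ O') hO (show Γ(F, V.ι ''ᵁ O') from t') y.1
    ⟨y, hy, rfl⟩
  let W' : (↑V : Scheme.{u}).Opens := V.ι ⁻¹ᵁ O₂
  have hW'O' : W' ≤ O' := by
    have := V.ι.preimage_mono hO₂
    rwa [Scheme.Hom.preimage_image_eq] at this
  have h3 : V.ι ''ᵁ W' ≤ O₂ := V.ι.image_preimage_le O₂
  refine ⟨W', hW'O', hxO₂, ?_⟩
  have hm' := AmpleLib.res_mem_span F h3 _ _ hm
  rw [QcCech.res_res] at hm'
  change (show Γ(F, V.ι ''ᵁ W') from QcCech.res F (V.ι.image_mono hW'O')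
    (show Γ(F, V.ι ''ᵁ O') from t')) ∈ _
  generalize QcCech.res F (V.ι.image_mono hW'O') (show Γ(F, V.ι ''ᵁ O') from t') = z at hm'
  induction hm' using Submodule.span_induction with
  | mem z hz =>
    obtain ⟨_, ⟨τ, rfl⟩, rfl⟩ := hz
    refine Submodule.subset_span ⟨(show Γ(F.restrict V.ι, ⊤) from
      QcCech.res F (V.ι_image_le ⊤) τ), ?_⟩
    change QcCech.res F (V.ι.image_mono (le_top : W' ≤ ⊤)) (QcCech.res F (V.ι_image_le ⊤) τ) =
      QcCech.res F h3 (QcCech.res F _ τ)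
    rw [QcCech.res_res, QcCech.res_res]
  | zero => exact Submodule.zero_mem _
  | add a b _ _ ha hb => exact Submodule.add_mem _ ha hb
  | smul r a _ ha =>
    have : (show Γ(F.restrict V.ι, W') from r • a) =
        (V.ι.appIso W').hom.hom r • (show Γ(F.restrict V.ι, W') from a) := by
      rw [smul_restrict]
      change r • a = (V.ι.appIso W').inv.hom ((V.ι.appIso W').hom.hom r) • a
      congr 1
      exact (congr($((V.ι.appIso W').hom_inv_id) r)).symm
    rw [this]
    exact Submodule.smul_mem _ _ ha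

theorem epi_counit_of_globallyGenerated_restrict (F : X.Modules)
    (h : ∀ U : S.Opens, IsAffineOpen U → Curv2.IsGloballyGenerated (F.restrict (f ⁻¹ᵁ U).ι)) :
    Epi ((Scheme.Modules.pullbackPushforwardAdjunction f).counit.app F) := by
  rw [epi_counit_iff']
  intro Q g hg
  apply Scheme.Modules.hom_ext
  intro W
  ext t
  change g.app W t = 0
  apply TwistSec.eq_of_locally Q
  intro x hx
  obtain ⟨_, ⟨U, hU, rfl⟩, hxU, -⟩ :=
    S.isBasis_affineOpens.exists_subset_of_mem_open (Set.mem_univ (f x)) isOpen_univ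
  let V : X.Opens := f ⁻¹ᵁ U
  have hgg := (GlobGen.isGloballyGenerated_iff (F.restrict V.ι)).1 (h U hU)
  have e : V.ι ''ᵁ ⊤ = V := by simp
  have h0 : (Scheme.Modules.restrictFunctor V.ι).map g = 0 := by
    apply eq_zero_of_epi_gen hgg
    intro τ
    change g.app (V.ι ''ᵁ ⊤) (show Γ(F, V.ι ''ᵁ ⊤) from τ) = 0
    have h1 : (show Γ(F, V.ι ''ᵁ ⊤) from τ) =
        QcCech.res F e.le (QcCech.res F e.ge (show Γ(F, V.ι ''ᵁ ⊤) from τ)) := by
      rw [QcCech.res_res, QcCech.res_self]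
    rw [h1, QcExt.app_res, hg U hU, map_zero]
  let W' : (↑V : Scheme.{u}).Opens := V.ι ⁻¹ᵁ W
  have h3 : V.ι ''ᵁ W' ≤ W := V.ι.image_preimage_le W
  refine ⟨V.ι ''ᵁ W', h3, ⟨⟨x, hxU⟩, hx, rfl⟩, ?_⟩
  rw [← QcExt.app_res, map_zero]
  have := congrArg (fun φ => Scheme.Modules.Hom.app φ W' (show Γ(F.restrict V.ι, W') from
    QcCech.res F h3 t)) h0
  exact this

end Groth.Agent.Helper1.CounitLib
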