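import Mathlib
import Groth.Agent.Lib.Helper1.RP13
import Groth.Agent.Lib.Helper1.ProjGlobal
import Groth.Agent.Lib.Helper1.AffExt

set_option autoImplicit false
universe u

open CategoryTheory CategoryTheory.Limits AlgebraicGeometry TopologicalSpace Opposite
open scoped HomogeneousIdeal

namespace Groth.Agent.Helper1.PhiMap

open Groth.Agent.Helper1.ProjGlobal Groth.Agent.Helper1.RP1 Groth.Agent.Helper1.RP6
  Groth.Agent.Helper1.QcCech

section General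

/-- sections pulled back along a morphism factoring through the spectrum of an affine open -/
theorem app_of_fac {Y Z : Scheme.{u}} {U : Y.Opens} (hU : IsAffineOpen U)
    (k : Z ⟶ Spec Γ(Y, U)) (r : Γ(Y, U)) :
    ((k ≫ hU.fromSpec).app U).hom r =
      (Z.presheaf.map (homOfLE (le_top : (k ≫ hU.fromSpec) ⁻¹ᵁ U ≤ ⊤)).op).hom
        (((Scheme.ΓSpecIso Γ(Y, U)).inv ≫ k.appTop).hom r) := by
  have h1 : (k ≫ hU.fromSpec).app U = hU.fromSpec.app U ≫ k.app (hU.fromSpec ⁻¹ᵁ U) :=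
    Scheme.Hom.comp_app _ _ _
  have h2 := hU.fromSpec_app_self
  have h3 : (Spec Γ(Y, U)).presheaf.map (eqToHom hU.fromSpec_preimage_self).op ≫
      k.app (hU.fromSpec ⁻¹ᵁ U) = k.appTop ≫ Z.presheaf.map
        (homOfLE (le_top : (k ≫ hU.fromSpec) ⁻¹ᵁ U ≤ ⊤)).op := by
    exact k.naturality _
  have h4 : (k ≫ hU.fromSpec).app U = ((Scheme.ΓSpecIso Γ(Y, U)).inv ≫ k.appTop) ≫
      Z.presheaf.map (homOfLE (le_top : (k ≫ hU.fromSpec) ⁻¹ᵁ U ≤ ⊤)).op := by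
    rw [h1, h2, Category.assoc, h3, Category.assoc]
    rfl
  rw [h4]
  rfl


variable {A σ : Type u} [CommRing A] [SetLike σ A] [AddSubgroupClass σ A] (𝒜 : ℕ → σ) [GradedRing 𝒜]

theorem exists_pos_notMem (y : ProjectiveSpectrum 𝒜) :
    ∃ (f : A) (m : ℕ), f ∈ 𝒜 m ∧ 0 < m ∧ f ∉ y.asHomogeneousIdeal := by
  classical
  by_contra! H
  apply y.not_irrelevant_le
  intro x hx
  rw [← DirectSum.sum_support_decompose 𝒜 x]
  refine Ideal.sum_mem _ (fun i _ => ?_)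
  by_cases h0 : i = 0
  · subst h0
    have h1 := (HomogeneousIdeal.mem_irrelevant_iff _ _).mp hx
    rw [GradedRing.proj_apply] at h1
    rw [h1]
    exact zero_mem _
  · exact H _ i (SetLike.coe_mem _) (Nat.pos_of_ne_zero h0)

end General

variable {Y P : Scheme.{u}} {𝒮 : RelProj.QCGrAlg Y} {p : P ⟶ Y}
  {chart : ∀ (U : Y.Opens) (hU : IsAffineOpen U), ((p ⁻¹ᵁ U : P.Opens) : Scheme.{u}) ≅ Proj (𝒮.deg U hU)}

theorem emb_comp (hP : RelProj.IsRelProj 𝒮 p chart) (U : Y.Opens) (hU : IsAffineOpen U) :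
    RelProj.emb p chart U hU ≫ p = chartStr 𝒮 U hU := by
  unfold RelProj.emb chartStr
  rw [Category.assoc, ← hP.chart_over U hU, Iso.inv_hom_id_assoc]

theorem chartStr_app (U : Y.Opens) (hU : IsAffineOpen U) (r : Γ(Y, U)) :
    ((chartStr 𝒮 U hU).app U).hom r =
      ((Proj (𝒮.deg U hU)).presheaf.map (homOfLE (le_top : (chartStr 𝒮 U hU) ⁻¹ᵁ U ≤ ⊤)).op).hom
        (psi (𝒮.deg U hU) ((𝒮.strZero U hU).hom r)) := by
  have h := app_of_fac hU (Proj.toSpecZero (𝒮.deg U hU) ≫ Spec.map (𝒮.strZero U hU)) r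
  have e : (Scheme.ΓSpecIso Γ(Y, U)).inv ≫
      (Proj.toSpecZero (𝒮.deg U hU) ≫ Spec.map (𝒮.strZero U hU)).appTop =
      𝒮.strZero U hU ≫ CommRingCat.ofHom (psi (𝒮.deg U hU)) := by
    rw [Scheme.Hom.comp_appTop, ← Category.assoc, ← Scheme.ΓSpecIso_inv_naturality, Category.assoc]
    rfl
  rw [e] at h
  exact h


theorem emb_p_val (hP : RelProj.IsRelProj 𝒮 p chart) (U : Y.Opens) (hU : IsAffineOpen U)
    (r : Γ(Y, U)) (y : ↥(RelProj.emb p chart U hU ⁻¹ᵁ (p ⁻¹ᵁ U))) :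
    (((show GrTwist.O (𝒜 := 𝒮.deg U hU) (op (RelProj.emb p chart U hU ⁻¹ᵁ (p ⁻¹ᵁ U))) from
      ((RelProj.emb p chart U hU).app (p ⁻¹ᵁ U)).hom ((p.app U).hom r)).1 y).val :
        GrTwist.Loc (𝒮.deg U hU) y.1) =
      Localization.mk ((𝒮.str.app (op U)).hom r) 1 := by
  have h1 : ((RelProj.emb p chart U hU).app (p ⁻¹ᵁ U)).hom ((p.app U).hom r) =
      ((RelProj.emb p chart U hU ≫ p).app U).hom r := by
    rw [Scheme.Hom.comp_app]
    rfl
  have h2 := Scheme.Hom.congr_app (emb_comp hP U hU) U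
  have h3 : ((RelProj.emb p chart U hU ≫ p).app U).hom r =
      ((Proj (𝒮.deg U hU)).presheaf.map (eqToHom (by rw [emb_comp hP U hU])).op).hom
        (((chartStr 𝒮 U hU).app U).hom r) := by
    rw [h2]
    rfl
  obtain ⟨f, m, f_deg, hm, hf⟩ := exists_pos_notMem (𝒮.deg U hU) y.1
  have h4 := psi_val (𝒮.deg U hU) f f_deg hm ((𝒮.strZero U hU).hom r) y.1 hf
  rw [h1, h3, chartStr_app]
  exact h4

end Groth.Agent.Helper1.PhiMap
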