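import Mathlib
import Groth.Agent.Lib.Helper1.PhiMap1
import Groth.Agent.Lib.Helper1.RP7
import Groth.Agent.Lib.Helper1.GrTwTriv
import Groth.Agent.Lib.Helper1.ModGlue

set_option autoImplicit false
universe u

open CategoryTheory CategoryTheory.Limits AlgebraicGeometry TopologicalSpace Opposite
open scoped HomogeneousIdeal

namespace Groth.Agent.Helper1.PhiMap

open Groth.Agent.Helper1.ProjGlobal Groth.Agent.Helper1.RP1 Groth.Agent.Helper1.RP6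
  Groth.Agent.Helper1.QcCech

set_option synthInstance.maxHeartbeats 400000

section Alg
variable {A σ : Type u} [CommRing A] [SetLike σ A] [AddSubgroupClass σ A] (𝒜 : ℕ → σ) [GradedRing 𝒜]

theorem one_notMem (x : ProjectiveSpectrum 𝒜) : (1 : A) ∉ x.asHomogeneousIdeal :=
  fun h => x.isPrime.ne_top ((Ideal.eq_top_iff_one _).mpr h)

/-- the section of `O(1)` over `V` with value `a/1` -/
noncomputable def tgt {a : A} (ha : a ∈ 𝒜 1) (V : (Proj 𝒜).Opens) : Γ(GrTwist.twist 𝒜 1, V) :=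
  GrTwTriv.fracSec 𝒜 ha (SetLike.GradedOne.one_mem : (1 : A) ∈ 𝒜 0)
    (by simp : ((1 : ℕ) : ℤ) = ((0 : ℕ) : ℤ) + 1) V (fun x => one_notMem 𝒜 x.1)

theorem tgt_val {a : A} (ha : a ∈ 𝒜 1) (V : (Proj 𝒜).Opens) (y : V) :
    GrTwist.val (tgt 𝒜 ha V) y = algebraMap A (GrTwist.Loc 𝒜 y.1) a :=
  Localization.mk_one_eq_algebraMap _

end Alg

variable {Y P : Scheme.{u}} {𝒮 : RelProj.QCGrAlg Y} {p : P ⟶ Y}
  {chart : ∀ (U : Y.Opens) (hU : IsAffineOpen U), ((p ⁻¹ᵁ U : P.Opens) : Scheme.{u}) ≅ Proj (𝒮.deg U hU)}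
  {O1 : P.Modules}
  {lam : ∀ (U : Y.Opens) (hU : IsAffineOpen U),
    O1 ⟶ (Scheme.Modules.pushforward (RelProj.emb p chart U hU)).obj (GrTwist.twist (𝒮.deg U hU) 1)}
  {E : Y.Modules} (j : E ⟶ 𝒮.toModule)

/-- a section over `p⁻¹ U` is determined by its values through the chart of `U` -/
theorem sec_ext_chart (hO1 : RelProj.IsRelTwist 𝒮 p chart 1 O1 lam) (U : Y.Opens) (hU : IsAffineOpen U)
    (s t : Γ(O1, p ⁻¹ᵁ U))
    (h : ∀ (y : ProjectiveSpectrum (𝒮.deg U hU)) (hy : (RelProj.emb p chart U hU).base y ∈ p ⁻¹ᵁ U),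
      rd lam U hU s y hy = rd lam U hU t y hy) : s = t := by
  apply (hO1.bijective U hU (p ⁻¹ᵁ U) le_rfl).1
  apply val_ext
  rintro ⟨y, hy⟩
  exact h y hy

theorem exists_f (hO1 : RelProj.IsRelTwist 𝒮 p chart 1 O1 lam)
    (hj1 : ∀ (U : Y.Opens) (hU : IsAffineOpen U) (x : Γ(E, U)), (j.app U) x ∈ 𝒮.deg U hU 1)
    (U : Y.Opens) (hU : IsAffineOpen U) (e : Γ(E, U)) :
    ∃ s : Γ(O1, p ⁻¹ᵁ U), ∀ (y : ProjectiveSpectrum (𝒮.deg U hU))
      (hy : (RelProj.emb p chart U hU).base y ∈ p ⁻¹ᵁ U),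
      rd lam U hU s y hy = algebraMap (𝒮.presheaf.obj (op U)) (GrTwist.Loc (𝒮.deg U hU) y)
        ((j.app U) e : 𝒮.presheaf.obj (op U)) := by
  obtain ⟨s, hs⟩ := (hO1.bijective U hU (p ⁻¹ᵁ U) le_rfl).2
    (tgt (A := 𝒮.presheaf.obj (op U)) (𝒮.deg U hU) (a := ((j.app U) e : 𝒮.presheaf.obj (op U))) (hj1 U hU e)
      (RelProj.emb p chart U hU ⁻¹ᵁ (p ⁻¹ᵁ U)))
  refine ⟨s, fun y hy => ?_⟩
  unfold rd
  rw [hs]
  exact tgt_val (A := 𝒮.presheaf.obj (op U)) (𝒮.deg U hU) (a := ((j.app U) e : 𝒮.presheaf.obj (op U))) (hj1 U hU e)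
    (RelProj.emb p chart U hU ⁻¹ᵁ (p ⁻¹ᵁ U)) ⟨y, hy⟩


section Constr
variable (hP : RelProj.IsRelProj 𝒮 p chart) (hO1 : RelProj.IsRelTwist 𝒮 p chart 1 O1 lam)
  (hj1 : ∀ (U : Y.Opens) (hU : IsAffineOpen U) (x : Γ(E, U)), (j.app U) x ∈ 𝒮.deg U hU 1)

/-- the local value of the canonical map -/
noncomputable def fU (U : Y.Opens) (hU : IsAffineOpen U) (e : Γ(E, U)) : Γ(O1, p ⁻¹ᵁ U) :=
  (exists_f j hO1 hj1 U hU e).choose

theorem fU_spec (U : Y.Opens) (hU : IsAffineOpen U) (e : Γ(E, U))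
    (y : ProjectiveSpectrum (𝒮.deg U hU)) (hy : (RelProj.emb p chart U hU).base y ∈ p ⁻¹ᵁ U) :
    rd lam U hU (fU j hO1 hj1 U hU e) y hy =
      algebraMap (𝒮.presheaf.obj (op U)) (GrTwist.Loc (𝒮.deg U hU) y)
        ((j.app U) e : 𝒮.presheaf.obj (op U)) :=
  (exists_f j hO1 hj1 U hU e).choose_spec y hy

theorem rd_add (U : Y.Opens) (hU : IsAffineOpen U) {W : P.Opens} (s t : Γ(O1, W))
    (y : ProjectiveSpectrum (𝒮.deg U hU)) (hy : (RelProj.emb p chart U hU).base y ∈ W) :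
    rd lam U hU (s + t) y hy = rd lam U hU s y hy + rd lam U hU t y hy := by
  unfold rd
  rw [map_add]
  rfl

theorem fU_add (U : Y.Opens) (hU : IsAffineOpen U) (a b : Γ(E, U)) :
    fU j hO1 hj1 U hU (a + b) = fU j hO1 hj1 U hU a + fU j hO1 hj1 U hU b := by
  apply sec_ext_chart hO1 U hU
  intro y hy
  rw [rd_add, fU_spec, fU_spec, fU_spec, map_add]
  exact map_add (algebraMap (𝒮.presheaf.obj (op U)) (GrTwist.Loc (𝒮.deg U hU) y)) _ _


include hP in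
theorem fU_smul (U : Y.Opens) (hU : IsAffineOpen U) (r : Γ(Y, U)) (e : Γ(E, U)) :
    fU j hO1 hj1 U hU (r • e) =
      (show Γ(P, p ⁻¹ᵁ U) from (p.app U).hom r) • fU j hO1 hj1 U hU e := by
  apply sec_ext_chart hO1 U hU
  intro y hy
  rw [fU_spec]
  have h1 := fU_spec j hO1 hj1 U hU e y hy
  unfold rd at h1 ⊢
  rw [RP7.lam_smul]
  refine Eq.trans ?_ (GrTwTriv.smul_sec_val (𝒮.deg U hU) _ _ _ ⟨y, hy⟩).symm
  have h2 := emb_p_val hP U hU r ⟨y, hy⟩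
  refine Eq.trans ?_ (congrArg₂ (fun a b => a * b) h2 h1).symm
  rw [Scheme.Modules.Hom.app_smul, Localization.mk_one_eq_algebraMap, ← map_mul]
  rfl


include hP in
theorem fU_res (U : Y.Opens) (hU : IsAffineOpen U) (r : Γ(Y, U)) (e : Γ(E, U)) :
    res O1 (p.preimage_mono (Y.basicOpen_le r)) (fU j hO1 hj1 U hU e) =
      fU j hO1 hj1 (Y.basicOpen r) (hU.basicOpen r) (res E (Y.basicOpen_le r) e) := by
  apply sec_ext_chart hO1 _ (hU.basicOpen r)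
  intro y hy
  rw [fU_spec]
  have h : @LE.le Y.AffineZariskiSite _ ⟨Y.basicOpen r, hU.basicOpen r⟩ ⟨U, hU⟩ := ⟨r, rfl⟩
  have hy' := mem_of_mem hP h y hy
  refine (compat' hO1 h _ y hy hy').trans ?_
  rw [rd_res, fU_spec, ← ModGlue.app_res]
  exact Localization.localRingHom_to_map _ _ _ _ _


/-- the family defining the canonical map -/
noncomputable def phiFam : AffExt.Fam E ((Scheme.Modules.pushforward p).obj O1) where
  f U hU e := (show Γ((Scheme.Modules.pushforward p).obj O1, U) from fU j hO1 hj1 U hU e)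
  hadd U hU a b := fU_add j hO1 hj1 U hU a b
  hsmul U hU r a := fU_smul j hP hO1 hj1 U hU r a
  hres U hU r a := fU_res j hP hO1 hj1 U hU r a

/-- the canonical map `E ⟶ p_* O(1)` -/
noncomputable def phi : E ⟶ (Scheme.Modules.pushforward p).obj O1 := (phiFam j hP hO1 hj1).hom

theorem phi_spec (U : Y.Opens) (hU : IsAffineOpen U) (e : Γ(E, U))
    (y : ↥(RelProj.emb p chart U hU ⁻¹ᵁ (p ⁻¹ᵁ U))) :
    GrTwist.val (V := RelProj.emb p chart U hU ⁻¹ᵁ (p ⁻¹ᵁ U))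
        ((lam U hU).app (p ⁻¹ᵁ U) (((phi j hP hO1 hj1).app U) e)) y =
      algebraMap (𝒮.presheaf.obj (op U)) (GrTwist.Loc (𝒮.deg U hU) y.1)
        ((j.app U) e : 𝒮.presheaf.obj (op U)) := by
  have h : (phi j hP hO1 hj1).app U e = fU j hO1 hj1 U hU e :=
    AffExt.Fam.hom_app (phiFam j hP hO1 hj1) U hU e
  rw [h]
  exact fU_spec j hO1 hj1 U hU e y.1 y.2

end Constr

end Groth.Agent.Helper1.PhiMap
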