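import Mathlib

set_option autoImplicit false
universe u v

namespace Groth.Agent.Helper1.GP3

open DirectSum

variable {S σ : Type u} [CommRing S] [SetLike σ S] [AddSubgroupClass σ S] (𝒮 : ℕ → σ)
  [GradedRing 𝒮]
variable {B : Type v} [CommRing B]

/-- the graded twist of a ring homomorphism by an element -/
noncomputable def twistHom (F : S →+* B) (u : B) : S →+* B :=
  (DirectSum.toSemiring (fun k => ((AddMonoidHom.mulLeft (u ^ k)).comp
      ((F : S →+ B).comp (AddSubgroupClass.subtype (𝒮 k)))))
    (by
      change u ^ 0 * F ((1 : S)) = 1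
      rw [pow_zero, one_mul, map_one])
    (by
      intro i j ai aj
      change u ^ (i + j) * F ((ai : S) * (aj : S)) = (u ^ i * F ai) * (u ^ j * F aj)
      rw [map_mul, pow_add]
      ring)).comp (DirectSum.decomposeRingEquiv 𝒮).toRingHom

theorem twistHom_of_mem (F : S →+* B) (u : B) {k : ℕ} {s : S} (hs : s ∈ 𝒮 k) :
    twistHom 𝒮 F u s = u ^ k * F s := by
  unfold twistHom
  rw [RingHom.comp_apply]
  change (DirectSum.toSemiring _ _ _) (DirectSum.decompose 𝒮 s) = _
  rw [DirectSum.decompose_of_mem 𝒮 hs, DirectSum.toSemiring_of]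
  rfl

end Groth.Agent.Helper1.GP3
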