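import Mathlib
import Groth.Prelude.Def_ProjUP
import Groth.Agent.Lib.Helper1.ProjUP7
import Groth.Agent.Lib.Helper1.CocycleIso
import Groth.Agent.Lib.Helper1.QcLoc
import Groth.Agent.Lib.Helper1.QcExt
import Groth.Agent.Lib.Helper1.InvQc
import Groth.Agent.Lib.Helper1.TwForm4
import Groth.Agent.Lib.Helper1.AmpleGlue

set_option autoImplicit false
universe u

open CategoryTheory AlgebraicGeometry TopologicalSpace Opposite

namespace Groth.Agent.Helper1.ProjUP10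

open Groth.Agent.Helper1.QcCech Groth.Agent.Helper1.SubSh Groth.Agent.Helper1.LGen
open Groth.Agent.Helper1 Groth.Agent.Helper1.AmpleLib Groth.Agent.Helper1.TwForm
open Groth.Agent.Helper1.TensGen

variable {X : Scheme.{u}}

/-- if a multiple of `t` is a generator, so is `t` -/
theorem isGen_of_smul {L : X.Modules} {W : X.Opens} {t : Γ(L, W)} (v : Γ(X, W))
    (h : IsGen L W (v • t)) : IsGen L W t := by
  obtain ⟨w, hw⟩ := h.exists_coeff t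
  have h1 : (v * w) • (v • t) = (1 : Γ(X, W)) • (v • t) := by
    rw [mul_smul, hw, one_smul]
  have h2 : v * w = 1 := (TensGen.IsGen.bijective_self h).1 h1
  let u : (Γ(X, W))ˣ := ⟨v, w, h2, by rw [mul_comm]; exact h2⟩
  exact isGen_of_smul_unit u h

variable [IsAffine X] {L₁ L₂ : X.Modules} (hL₁ : PicF.IsInvertible L₁) (hL₂ : PicF.IsInvertible L₂)
  {K : Type} (σ₁ : K → Γ(L₁, ⊤)) (σ₂ : K → Γ(L₂, ⊤))

include hL₁ in
theorem key (hrel : ∀ i k (a b : Γ(X, ⊤)), a • σ₁ i = b • σ₁ k → a • σ₂ i = b • σ₂ k)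
    (f : Γ(X, ⊤)) (U : X.Opens) (hU : U = X.basicOpen f) (i k : K) (v : Γ(X, U))
    (h : res L₁ (le_top : U ≤ ⊤) (σ₁ i) = v • res L₁ (le_top : U ≤ ⊤) (σ₁ k)) :
    res L₂ (le_top : U ≤ ⊤) (σ₂ i) = v • res L₂ (le_top : U ≤ ⊤) (σ₂ k) := by
  subst hU
  have : L₁.IsQuasicoherent := InvQc.isQuasicoherent_of_isInvertible L₁ hL₁
  have hloc := IsAffineOpen.isLocalization_basicOpen (isAffineOpen_top X) f
  obtain ⟨⟨a, ⟨_, N, rfl⟩⟩, hN⟩ := IsLocalization.surj (Submonoid.powers f) v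
  have hN' : v * resR le_top (f ^ N) = resR le_top a := hN
  have h0 : res L₁ (le_top : X.basicOpen f ≤ ⊤) (f ^ N • σ₁ i - a • σ₁ k) = 0 := by
    rw [map_sub, res_smul, res_smul, h, smul_smul, mul_comm, hN', sub_self]
  obtain ⟨M, hM⟩ := QcLoc.exists_kill (isAffineOpen_top X) L₁ f (f ^ N • σ₁ i - a • σ₁ k) h0
  have h1 : (f ^ M * f ^ N) • σ₁ i = (f ^ M * a) • σ₁ k := by
    rw [smul_sub, smul_smul, smul_smul, sub_eq_zero] at hM
    exact hM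
  have h2 := hrel i k _ _ h1
  have h3 := congrArg (res L₂ (le_top : X.basicOpen f ≤ ⊤)) h2
  rw [res_smul, res_smul, map_mul, map_mul, ← hN', mul_smul, mul_smul, mul_comm, mul_smul] at h3
  have hu : IsUnit (resR (le_top : X.basicOpen f ≤ ⊤) f) :=
    X.toRingedSpace.isUnit_res_basicOpen f
  have hu1 : IsUnit (resR (le_top : X.basicOpen f ≤ ⊤) (f ^ M)) := by
    rw [map_pow]; exact hu.pow M
  have hu2 : IsUnit (resR (le_top : X.basicOpen f ≤ ⊤) (f ^ N)) := by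
    rw [map_pow]; exact hu.pow N
  have h4 := hu1.smul_left_cancel.1 h3
  exact hu2.smul_left_cancel.1 h4

variable (hcov₁ : ∀ x : X, ∃ k, x ∈ CohB1.genLocus L₁ (TwistAmple.homOfSec L₁ (σ₁ k)))
  (hcov₂ : ∀ x : X, ∃ k, x ∈ CohB1.genLocus L₂ (TwistAmple.homOfSec L₂ (σ₂ k)))

include hL₁ hcov₂ in
theorem isGen_of_rel (hrel : ∀ i k (a b : Γ(X, ⊤)), a • σ₁ i = b • σ₁ k → a • σ₂ i = b • σ₂ k)
    (f : Γ(X, ⊤)) (U : X.Opens) (hU : U = X.basicOpen f) (k : K)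
    (hk : IsGen L₁ U (res L₁ (le_top : U ≤ ⊤) (σ₁ k))) :
    IsGen L₂ U (res L₂ (le_top : U ≤ ⊤) (σ₂ k)) := by
  have hle : U ≤ CohB1.genLocus L₂ (TwistAmple.homOfSec L₂ (σ₂ k)) := by
    intro y hy
    obtain ⟨i, hi⟩ := hcov₂ y
    obtain ⟨W, hyW, hW⟩ := (mem_genLocus_iff_isGen _ y).1 hi
    rw [secVal_homOfSec] at hW
    obtain ⟨v, hv⟩ := hk.exists_coeff (res L₁ (le_top : U ≤ ⊤) (σ₁ i))
    have h2 := key hL₁ σ₁ σ₂ hrel f U hU i k v hv.symm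
    rw [mem_genLocus_iff_isGen]
    refine ⟨W ⊓ U, ⟨hyW, hy⟩, ?_⟩
    rw [secVal_homOfSec]
    have h3 := hW.res (inf_le_left : W ⊓ U ≤ W)
    rw [res_res] at h3
    have h4 := congrArg (res L₂ (inf_le_right : W ⊓ U ≤ U)) h2
    rw [res_res, res_smul, res_res] at h4
    rw [h4] at h3
    exact isGen_of_smul _ h3
  have := isGen_secVal (TwistAmple.homOfSec L₂ (σ₂ k)) hle
  rwa [secVal_homOfSec] at this

/-- the index type of the comparison family -/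
def Idx : Type u :=
  {p : K × Γ(X, ⊤) // X.basicOpen p.2 ≤ CohB1.genLocus L₁ (TwistAmple.homOfSec L₁ (σ₁ p.1))}

/-- the comparison family -/
noncomputable def fam
    (hrel : ∀ i k (a b : Γ(X, ⊤)), a • σ₁ i = b • σ₁ k → a • σ₂ i = b • σ₂ k) :
    CocycleIso.GenFam L₁ L₂ where
  ι := Idx σ₁
  W p := X.basicOpen p.1.2
  a p := res L₁ le_top (σ₁ p.1.1)
  b p := res L₂ le_top (σ₂ p.1.1)
  ha p := by
    have := isGen_secVal (TwistAmple.homOfSec L₁ (σ₁ p.1.1)) p.2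
    rwa [secVal_homOfSec] at this
  hb p := by
    apply isGen_of_rel hL₁ σ₁ σ₂ hcov₂ hrel p.1.2 _ rfl
    have := isGen_secVal (TwistAmple.homOfSec L₁ (σ₁ p.1.1)) p.2
    rwa [secVal_homOfSec] at this
  cov x := by
    obtain ⟨k, hk⟩ := hcov₁ x
    obtain ⟨V, ⟨_, ⟨f, rfl⟩, rfl⟩, hxV, hV⟩ := (isBasis_basicOpen X).exists_subset_of_mem_open hk
      (CohB1.genLocus L₁ (TwistAmple.homOfSec L₁ (σ₁ k))).isOpen
    exact ⟨⟨(k, f), hV⟩, hxV⟩
  compat p q v h := by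
    rw [res_res, res_res] at h ⊢
    exact key hL₁ σ₁ σ₂ hrel (p.1.2 * q.1.2) _ (X.basicOpen_mul _ _).symm p.1.1 q.1.1 v h

include hL₁ hcov₁ hcov₂ in
theorem exists_iso
    (hrel : ∀ i k (a b : Γ(X, ⊤)), a • σ₁ i = b • σ₁ k → a • σ₂ i = b • σ₂ k) :
    ∃ τ : L₁ ≅ L₂, ∀ k, τ.hom.app ⊤ (σ₁ k) = σ₂ k := by
  let F := fam hL₁ σ₁ σ₂ hcov₁ hcov₂ hrel
  refine ⟨F.iso, fun k => ?_⟩
  apply F.eq_of_fam L₂
  intro p V hV hVp
  have hp : IsGen L₁ (X.basicOpen p.1.2) (res L₁ le_top (σ₁ p.1.1)) := F.ha p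
  obtain ⟨v, hv⟩ := hp.exists_coeff (res L₁ le_top (σ₁ k))
  have h2 := key hL₁ σ₁ σ₂ hrel p.1.2 _ rfl k p.1.1 v hv.symm
  have e1 : res L₂ (le_top : X.basicOpen p.1.2 ≤ ⊤) (F.iso.hom.app ⊤ (σ₁ k)) =
      res L₂ le_top (σ₂ k) := by
    rw [← QcExt.app_res, ← hv, h2]
    change F.Φ _ (v • _) = _
    rw [F.Φ_smul]
    congr 1
    exact F.hom_a p
  have hVp' : V ≤ X.basicOpen p.1.2 := hVp
  have e2 := congrArg (res L₂ hVp') e1
  rw [res_res, res_res] at e2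
  exact e2

end Groth.Agent.Helper1.ProjUP10
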