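import Mathlib
import Groth.Agent.Lib.Helper1.LGenLoc
import Groth.Agent.Lib.Helper1.CocycleIso
import Groth.Agent.Lib.Helper1.ProjUP10

/-!
# Generating loci and ratios of local sections (helper1 library, very ample theory 1)
-/

set_option autoImplicit false
universe u
open CategoryTheory CategoryTheory.Limits AlgebraicGeometry TopologicalSpace Opposite

namespace Groth.Agent.Helper1.VT

open Groth.Agent.Helper1.QcCech Groth.Agent.Helper1.LGen Groth.Agent.Helper1.CocycleIso
open Groth.Agent.Helper1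

variable {X : Scheme.{u}} (L : X.Modules)

/-- the generating locus of a local section -/
def gl {W : X.Opens} (m : Γ(L, W)) : X.Opens :=
  sSup {V | ∃ h : V ≤ W, IsGen L V (res L h m)}

theorem gl_le {W : X.Opens} (m : Γ(L, W)) : gl L m ≤ W :=
  sSup_le (fun _ ⟨h, _⟩ => h)

theorem mem_gl_iff {W : X.Opens} (m : Γ(L, W)) (x : X) :
    x ∈ gl L m ↔ ∃ (V : X.Opens) (h : V ≤ W), x ∈ V ∧ IsGen L V (res L h m) := by
  constructor
  · intro hx
    obtain ⟨V, ⟨h, hg⟩, hxV⟩ := Opens.mem_sSup.1 hx
    exact ⟨V, h, hxV, hg⟩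
  · rintro ⟨V, h, hxV, hg⟩
    exact Opens.mem_sSup.2 ⟨V, ⟨h, hg⟩, hxV⟩

theorem le_gl {W V : X.Opens} (m : Γ(L, W)) (h : V ≤ W) (hg : IsGen L V (res L h m)) :
    V ≤ gl L m := le_sSup ⟨h, hg⟩

theorem isGen_gl {W : X.Opens} (m : Γ(L, W)) : IsGen L (gl L m) (res L (gl_le L m) m) := by
  apply LGenLoc.isGen_of_locally
  intro x hx
  obtain ⟨V, h, hxV, hg⟩ := (mem_gl_iff L m x).1 hx
  refine ⟨V, le_gl L m h hg, hxV, ?_⟩
  rw [res_res]
  exact hg

theorem isGen_of_le_gl {W V : X.Opens} (m : Γ(L, W)) (h : V ≤ gl L m) :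
    IsGen L V (res L (h.trans (gl_le L m)) m) := by
  have := (isGen_gl L m).res h
  rwa [res_res] at this

theorem gl_res {W W' : X.Opens} (h : W' ≤ W) (m : Γ(L, W)) :
    gl L (res L h m) = gl L m ⊓ W' := by
  apply le_antisymm
  · refine le_inf ?_ (gl_le L _)
    apply sSup_le
    rintro V ⟨hV, hg⟩
    rw [res_res] at hg
    exact le_gl L m (hV.trans h) hg
  · apply le_gl L (res L h m) inf_le_right
    rw [res_res]
    exact isGen_of_le_gl L m inf_le_left

theorem gl_congr {W W' : X.Opens} (e : W = W') (m : Γ(L, W)) (m' : Γ(L, W'))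
    (h : res L (le_of_eq e.symm) m = m') : gl L m = gl L m' := by
  subst e
  rw [res_self] at h
  rw [h]

/-- the ratio `m'/m` on the generating locus of `m` -/
noncomputable def ratio {W : X.Opens} (m m' : Γ(L, W)) : Γ(X, gl L m) :=
  coeff (isGen_gl L m) le_rfl (res L (gl_le L m) m')

theorem ratio_spec {W : X.Opens} (m m' : Γ(L, W)) :
    ratio L m m' • res L (gl_le L m) m = res L (gl_le L m) m' := by
  have := coeff_spec (isGen_gl L m) le_rfl (res L (gl_le L m) m')
  rwa [res_self] at this

theorem ratio_eq {W : X.Opens} (m m' : Γ(L, W)) (r : Γ(X, gl L m))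
    (h : r • res L (gl_le L m) m = res L (gl_le L m) m') : ratio L m m' = r := by
  apply coeff_eq
  rwa [res_self]

theorem ratio_self {W : X.Opens} (m : Γ(L, W)) : ratio L m m = 1 :=
  ratio_eq L m m 1 (one_smul _ _)

theorem ratio_add {W : X.Opens} (m m' m'' : Γ(L, W)) :
    ratio L m (m' + m'') = ratio L m m' + ratio L m m'' := by
  apply ratio_eq
  rw [add_smul, ratio_spec, ratio_spec, map_add]

theorem ratio_zero {W : X.Opens} (m : Γ(L, W)) : ratio L m 0 = 0 := by
  apply ratio_eq
  rw [zero_smul, map_zero]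

theorem ratio_smul {W : X.Opens} (m : Γ(L, W)) (r : Γ(X, W)) (m' : Γ(L, W)) :
    ratio L m (r • m') = resR (gl_le L m) r * ratio L m m' := by
  apply ratio_eq
  rw [mul_smul, ratio_spec, res_smul]

/-- the ratio on a smaller open inside the generating locus -/
theorem ratio_spec_le {W V : X.Opens} (m m' : Γ(L, W)) (h : V ≤ gl L m) :
    resR h (ratio L m m') • res L (h.trans (gl_le L m)) m = res L (h.trans (gl_le L m)) m' := by
  have := congrArg (res L h) (ratio_spec L m m')
  rwa [res_smul, res_res, res_res] at this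

theorem ratio_eq_le {W V : X.Opens} (m m' : Γ(L, W)) (h : V ≤ gl L m) (r : Γ(X, V))
    (hr : r • res L (h.trans (gl_le L m)) m = res L (h.trans (gl_le L m)) m') :
    resR h (ratio L m m') = r := by
  apply ((isGen_of_le_gl L m h) V le_rfl).1
  change resR h (ratio L m m') • res L le_rfl _ = r • res L le_rfl _
  rw [res_self, ratio_spec_le, hr]

theorem ratio_res {W W' : X.Opens} (h : W' ≤ W) (m m' : Γ(L, W)) :
    ratio L (res L h m) (res L h m') =
      resR (show gl L (res L h m) ≤ gl L m by rw [gl_res]; exact inf_le_left) (ratio L m m') := by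
  symm
  apply ratio_eq_le
  have := ratio_spec L (res L h m) (res L h m')
  rw [res_res, res_res] at this
  exact this

theorem ratio_trans {W : X.Opens} (m m' m'' : Γ(L, W)) :
    resR (inf_le_left : gl L m ⊓ gl L m' ≤ gl L m) (ratio L m m'') =
      resR (inf_le_left : gl L m ⊓ gl L m' ≤ gl L m) (ratio L m m') *
        resR (inf_le_right : gl L m ⊓ gl L m' ≤ gl L m') (ratio L m' m'') := by
  apply ratio_eq_le
  rw [mul_comm, mul_smul, ratio_spec_le, ratio_spec_le]

theorem ratio_mul_ratio {W : X.Opens} (m m' : Γ(L, W)) :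
    resR (inf_le_left : gl L m ⊓ gl L m' ≤ gl L m) (ratio L m m') *
      resR (inf_le_right : gl L m ⊓ gl L m' ≤ gl L m') (ratio L m' m) = 1 := by
  rw [← ratio_trans, ratio_self, map_one]

/-- the generating locus of `m'` inside that of `m` is the non-vanishing locus of the ratio -/
theorem gl_inf_gl {W : X.Opens} (m m' : Γ(L, W)) :
    gl L m ⊓ gl L m' = X.basicOpen (ratio L m m') := by
  apply le_antisymm
  · have hu : IsUnit (resR (inf_le_left : gl L m ⊓ gl L m' ≤ gl L m) (ratio L m m')) :=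
      IsUnit.of_mul_eq_one _ (ratio_mul_ratio L m m')
    exact (GenLoc.isUnit_res_iff (ratio L m m') _ inf_le_left).1 hu
  · refine le_inf (X.basicOpen_le _) ?_
    have hle : X.basicOpen (ratio L m m') ≤ gl L m := X.basicOpen_le _
    apply le_gl L m' (hle.trans (gl_le L m))
    have hu : IsUnit (resR hle (ratio L m m')) :=
      (GenLoc.isUnit_res_iff (ratio L m m') _ hle).2 le_rfl
    rw [← ratio_spec_le L m m' hle]
    exact TwForm.IsGen.smul_unit (isGen_of_le_gl L m hle) hu.unit

end Groth.Agent.Helper1.VT
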