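import Mathlib
import Groth.Prelude.Def_RelProj2
import Groth.Agent.Lib.Helper1.VT1
import Groth.Agent.Lib.Helper1.GP2
import Groth.Agent.Lib.Helper1.GP3
import Groth.Agent.Lib.Helper1.SymCmp2
import Groth.Agent.Lib.Helper1.PushQc

/-!
# The local morphisms to Proj attached to sections (helper1 library, very ample theory 2)
-/

set_option autoImplicit false
universe u
open CategoryTheory CategoryTheory.Limits AlgebraicGeometry TopologicalSpace Opposite
  HomogeneousLocalization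

namespace Groth.Agent.Helper1.VT

open Groth.Agent.Helper1.QcCech Groth.Agent.Helper1.LGen Groth.Agent.Helper1.CocycleIso
open Groth.Agent.Helper1 Groth.Agent.Helper1.GP1 Groth.Agent.Helper1.GP2 Groth.Agent.Helper1.GP3

variable {X Y : Scheme.{u}} (q : X ⟶ Y) {L : X.Modules} {E : Y.Modules}
  (u : E ⟶ (Scheme.Modules.pushforward q).obj L)

/-- the section of `L` over `q⁻¹ U` attached to a section of `E` over `U` -/
noncomputable def sec (U : Y.Opens) (ε : Γ(E, U)) : Γ(L, q ⁻¹ᵁ U) := u.app U ε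

theorem sec_add (U : Y.Opens) (ε ε' : Γ(E, U)) : sec q u U (ε + ε') = sec q u U ε + sec q u U ε' :=
  map_add _ _ _

theorem sec_zero (U : Y.Opens) : sec q u U 0 = 0 := map_zero _

theorem sec_smul (U : Y.Opens) (r : Γ(Y, U)) (ε : Γ(E, U)) :
    sec q u U (r • ε) = ((q.app U).hom r : Γ(X, q ⁻¹ᵁ U)) • sec q u U ε := by
  unfold sec
  rw [Scheme.Modules.Hom.app_smul]
  rfl

theorem sec_res {U U' : Y.Opens} (h : U' ≤ U) (ε : Γ(E, U)) :
    res L (q.preimage_mono h) (sec q u U ε) = sec q u U' (res E h ε) := by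
  unfold sec
  exact (QcExt.app_res u h ε).symm


section Loc

variable {𝒮 : RelProj.QCGrAlg Y} {j : E ⟶ 𝒮.toModule} (hj : RelProj.IsGrSymAlg E 𝒮 j)
  (U : Y.Opens) (hU : IsAffineOpen U)

/-- the image of a section of `E` in the symmetric algebra -/
noncomputable def jj (j : E ⟶ 𝒮.toModule) (U : Y.Opens) (ε : Γ(E, U)) : 𝒮.presheaf.obj (op U) :=
  j.app U ε

include hj in
theorem jj_mem (ε : Γ(E, U)) : jj j U ε ∈ 𝒮.deg U hU 1 := hj.2 U hU ε

/-- the open of `X` where the section attached to `ε` generates `L` -/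
noncomputable def W (ε : Γ(E, U)) : X.Opens := gl L (sec q u U ε)

theorem W_le (ε : Γ(E, U)) : W q u U ε ≤ q ⁻¹ᵁ U := gl_le _ _

/-- the ratio of the sections attached to `ε'` and `ε` -/
noncomputable def φ (ε ε' : Γ(E, U)) : Γ(X, W q u U ε) := ratio L (sec q u U ε) (sec q u U ε')

/-- the base ring map -/
noncomputable def β (ε : Γ(E, U)) : Γ(Y, U) →+* Γ(X, W q u U ε) :=
  (resR (W_le q u U ε)).comp (q.app U).hom

theorem φ_self (ε : Γ(E, U)) : φ q u U ε ε = 1 := ratio_self _ _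

theorem φ_add (ε ε' ε'' : Γ(E, U)) : φ q u U ε (ε' + ε'') = φ q u U ε ε' + φ q u U ε ε'' := by
  unfold φ
  rw [sec_add, ratio_add]
  rfl

theorem φ_smul (ε : Γ(E, U)) (r : Γ(Y, U)) (ε' : Γ(E, U)) :
    φ q u U ε (r • ε') = β q u U ε r * φ q u U ε ε' := by
  unfold φ
  rw [sec_smul, ratio_smul]
  rfl

/-- the ratio as an additive map -/
noncomputable def φHom (ε : Γ(E, U)) : Γ(E, U) →+ Γ(X, W q u U ε) where
  toFun := φ q u U ε
  map_zero' := by
    unfold φ
    rw [sec_zero, ratio_zero]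
    rfl
  map_add' := φ_add q u U ε

variable [E.IsQuasicoherent]

include hj hU in
theorem exists_F (ε : Γ(E, U)) :
    ∃ F : 𝒮.presheaf.obj (op U) →+* Γ(X, W q u U ε),
      (∀ r : Γ(Y, U), F ((𝒮.str.app (op U)).hom r) = β q u U ε r) ∧
      (∀ ε' : Γ(E, U), F (jj j U ε') = φ q u U ε ε') :=
  SymAlg.exists_secHom E hj.1 U hU (β q u U ε) (φHom q u U ε) (fun r e => φ_smul q u U ε r e)

/-- the ring map from the sections of the symmetric algebra -/
noncomputable def F (ε : Γ(E, U)) : 𝒮.presheaf.obj (op U) →+* Γ(X, W q u U ε) :=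
  (exists_F q u hj U hU ε).choose

theorem F_str (ε : Γ(E, U)) (r : Γ(Y, U)) :
    F q u hj U hU ε ((𝒮.str.app (op U)).hom r) = β q u U ε r :=
  (exists_F q u hj U hU ε).choose_spec.1 r

theorem F_j (ε ε' : Γ(E, U)) : F q u hj U hU ε (jj j U ε') = φ q u U ε ε' :=
  (exists_F q u hj U hU ε).choose_spec.2 ε'

theorem isUnit_F (ε : Γ(E, U)) : IsUnit (F q u hj U hU ε (jj j U ε)) := by
  rw [F_j, φ_self]
  exact isUnit_one

/-- the ring map from the degree zero localization -/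
noncomputable def ψ (ε : Γ(E, U)) : Away (𝒮.deg U hU) (jj j U ε) →+* Γ(X, W q u U ε) :=
  awayLift (𝒮.deg U hU) (F q u hj U hU ε) (jj j U ε) (isUnit_F q u hj U hU ε)

/-- the local morphism to `Proj` -/
noncomputable def ρloc (ε : Γ(E, U)) : (↑(W q u U ε) : Scheme.{u}) ⟶ Proj (𝒮.deg U hU) :=
  locMap (𝒮.deg U hU) (W q u U ε) (jj_mem hj U hU ε) one_pos (ψ q u hj U hU ε)

omit [E.IsQuasicoherent] in
theorem φ_trans (ε ε' ε'' : Γ(E, U)) :
    resR (inf_le_left : W q u U ε ⊓ W q u U ε' ≤ W q u U ε) (φ q u U ε ε'') =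
      resR (inf_le_left : W q u U ε ⊓ W q u U ε' ≤ W q u U ε) (φ q u U ε ε') *
        resR (inf_le_right : W q u U ε ⊓ W q u U ε' ≤ W q u U ε') (φ q u U ε' ε'') :=
  ratio_trans _ _ _ _

include hj hU in
/-- ring maps agreeing on scalars and differing by `v` on the generators differ by `v ^ k` in
degree `k` -/
theorem twist_of_gens {B : Type u} [CommRing B] (G G' : 𝒮.presheaf.obj (op U) →+* B) (v : B)
    (h0 : ∀ r : Γ(Y, U), G' ((𝒮.str.app (op U)).hom r) = G ((𝒮.str.app (op U)).hom r))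
    (h1 : ∀ ε' : Γ(E, U), G' (jj j U ε') = v * G (jj j U ε')) (k : ℕ)
    (s : 𝒮.presheaf.obj (op U)) (hs : s ∈ 𝒮.deg U hU k) : G' s = v ^ k * G s := by
  have h : G' = twistHom (𝒮.deg U hU) G v := by
    apply SymAlg.secHom_ext E hj.1 U hU
    · intro r
      rw [twistHom_of_mem (𝒮.deg U hU) G v (𝒮.str_mem U hU r), pow_zero, one_mul, h0]
    · intro ε'
      have := twistHom_of_mem (𝒮.deg U hU) G v (jj_mem hj U hU ε')
      rw [pow_one] at this
      exact (h1 ε').trans this.symm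
  rw [h, twistHom_of_mem (𝒮.deg U hU) G v hs]

/-- **compatibility of the local morphisms over a fixed affine open of the base** -/
theorem ρloc_compat (ε ε' : Γ(E, U)) :
    X.homOfLE (inf_le_left : W q u U ε ⊓ W q u U ε' ≤ W q u U ε) ≫ ρloc q u hj U hU ε =
      X.homOfLE (inf_le_right : W q u U ε ⊓ W q u U ε' ≤ W q u U ε') ≫ ρloc q u hj U hU ε' := by
  set Z := W q u U ε ⊓ W q u U ε' with hZ
  let F₁ : 𝒮.presheaf.obj (op U) →+* Γ(X, Z) :=
    (resR (inf_le_left : Z ≤ W q u U ε)).comp (F q u hj U hU ε)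
  let F₂ : 𝒮.presheaf.obj (op U) →+* Γ(X, Z) :=
    (resR (inf_le_right : Z ≤ W q u U ε')).comp (F q u hj U hU ε')
  let v : Γ(X, Z) := resR (inf_le_left : Z ≤ W q u U ε) (φ q u U ε ε')
  let v' : Γ(X, Z) := resR (inf_le_right : Z ≤ W q u U ε') (φ q u U ε' ε)
  have hvv' : v * v' = 1 := by
    have := φ_trans q u U ε ε' ε
    rw [φ_self, map_one] at this
    exact this.symm
  let vv : (Γ(X, Z))ˣ := ⟨v, v', hvv', by rw [mul_comm]; exact hvv'⟩
  have htw : ∀ (k : ℕ) (s : 𝒮.presheaf.obj (op U)), s ∈ 𝒮.deg U hU k →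
      F₁ s = (vv : Γ(X, Z)) ^ k * F₂ s := by
    apply twist_of_gens hj U hU F₂ F₁ v
    · intro r
      change resR _ (F q u hj U hU ε _) = resR _ (F q u hj U hU ε' _)
      rw [F_str, F_str]
      change resR _ (resR _ _) = resR _ (resR _ _)
      rw [resR_resR, resR_resR]
    · intro ε''
      change resR _ (F q u hj U hU ε _) = v * resR _ (F q u hj U hU ε' _)
      rw [F_j, F_j]
      exact φ_trans q u U ε ε' ε''
  have hF₁m : F₁ (jj j U ε) = 1 := by
    change resR _ (F q u hj U hU ε _) = 1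
    rw [F_j, φ_self, map_one]
  have hF₁m' : F₁ (jj j U ε') = v := by
    change resR _ (F q u hj U hU ε _) = v
    rw [F_j]
  have hF₂m' : F₂ (jj j U ε') = 1 := by
    change resR _ (F q u hj U hU ε' _) = 1
    rw [F_j, φ_self, map_one]
  have hF₂m : F₂ (jj j U ε) = v' := by
    change resR _ (F q u hj U hU ε' _) = v'
    rw [F_j]
  have hu : IsUnit v := vv.isUnit
  have hu' : IsUnit v' := (vv⁻¹).isUnit
  have h1u : IsUnit (F₁ (jj j U ε)) := by rw [hF₁m]; exact isUnit_one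
  have h2u : IsUnit (F₂ (jj j U ε')) := by rw [hF₂m']; exact isUnit_one
  have h1x : IsUnit (F₁ (jj j U ε * jj j U ε')) := by
    rw [map_mul, hF₁m, hF₁m', one_mul]; exact hu
  have h2x : IsUnit (F₂ (jj j U ε * jj j U ε')) := by
    rw [map_mul, hF₂m, hF₂m', mul_one]; exact hu'
  have hε := jj_mem hj U hU ε
  have hε' := jj_mem hj U hU ε'
  -- the two restricted ring maps
  have e1 : (resR (inf_le_left : Z ≤ W q u U ε)).comp (ψ q u hj U hU ε) =
      (awayLift (𝒮.deg U hU) F₁ (jj j U ε * jj j U ε') h1x).comp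
        (awayMap (𝒮.deg U hU) hε' rfl) := by
    rw [awayLift_comp_awayMap (𝒮.deg U hU) F₁ hε hε' rfl h1u h1x]
    exact comp_awayLift (𝒮.deg U hU) _ _ hε _ h1u
  have e2 : (resR (inf_le_right : Z ≤ W q u U ε')).comp (ψ q u hj U hU ε') =
      (awayLift (𝒮.deg U hU) F₂ (jj j U ε * jj j U ε') h2x).comp
        (awayMap (𝒮.deg U hU) hε (mul_comm _ _)) := by
    rw [awayLift_comp_awayMap (𝒮.deg U hU) F₂ hε' hε (mul_comm _ _) h2u h2x]
    exact comp_awayLift (𝒮.deg U hU) _ _ hε' _ h2u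
  have e3 : awayLift (𝒮.deg U hU) F₁ (jj j U ε * jj j U ε') h1x =
      awayLift (𝒮.deg U hU) F₂ (jj j U ε * jj j U ε') h2x :=
    awayLift_eq_of_twist (𝒮.deg U hU) F₂ F₁ vv htw (SetLike.mul_mem_graded hε hε') h2x h1x
  unfold ρloc
  rw [homOfLE_locMap, homOfLE_locMap]
  change locMap (𝒮.deg U hU) Z hε one_pos ((resR _).comp _) =
    locMap (𝒮.deg U hU) Z hε' one_pos ((resR _).comp _)
  rw [e1, e2, locMap_awayMap, locMap_awayMap, e3]

end Loc

end Groth.Agent.Helper1.VT
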