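import Mathlib
import Groth.Agent.Lib.Helper1.VT2
import Groth.Agent.Lib.Helper1.QCAlgQc
import Groth.Agent.Lib.Helper1.RP5

/-!
# Restriction compatibility of the local morphisms (helper1 library, very ample theory 3)
-/

set_option autoImplicit false
universe u
open CategoryTheory CategoryTheory.Limits AlgebraicGeometry TopologicalSpace Opposite
  HomogeneousLocalization
open scoped HomogeneousIdeal

namespace Groth.Agent.Helper1.VT

open Groth.Agent.Helper1.QcCech Groth.Agent.Helper1.LGen Groth.Agent.Helper1.CocycleIso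
open Groth.Agent.Helper1 Groth.Agent.Helper1.GP1 Groth.Agent.Helper1.GP2 Groth.Agent.Helper1.GP3

section Alg

variable {A σ : Type u} [CommRing A] [SetLike σ A] [AddSubgroupClass σ A] {𝒜 : ℕ → σ} [GradedRing 𝒜]
variable {B τ : Type u} [CommRing B] [SetLike τ B] [AddSubgroupClass τ B] {ℬ : ℕ → τ} [GradedRing ℬ]
variable {X : Scheme.{u}}

/-- composing a local morphism with the morphism of `Proj`s induced by a graded homomorphism -/
theorem locMap_map (f : 𝒜 →+*ᵍ ℬ) (hf : ℬ₊ ≤ (𝒜₊).map f) (W : X.Opens) {s : A} {d : ℕ}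
    (hs : s ∈ 𝒜 d) (hpos : 0 < d) {t' : B} (ht' : t' ∈ ℬ d) (e : f s = t')
    (Ψ : Away ℬ t' →+* Γ(X, W)) (Ψ₀ : Away 𝒜 s →+* Γ(X, W))
    (h : ∀ (n : ℕ) (x : A) (hx : x ∈ 𝒜 (n • d)),
      Ψ₀ (Away.mk 𝒜 hs n x hx) = Ψ (Away.mk ℬ ht' n (f x) (f.map_mem hx))) :
    locMap ℬ W ht' hpos Ψ ≫ Proj.map f hf = locMap 𝒜 W hs hpos Ψ₀ := by
  subst e
  have hΨ : Ψ₀ = Ψ.comp (Away.map f s) := by
    apply awayLift_ext 𝒜 hs
    intro n x hx
    rw [h n x hx, RingHom.comp_apply, Away.map_mk]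
  unfold locMap
  rw [Category.assoc, Category.assoc, Proj.awayι_comp_map f hf hpos s hs, hΨ,
    CommRingCat.ofHom_comp, Spec.map_comp, Category.assoc]

end Alg

section Ratio

variable {X : Scheme.{u}} (L : X.Modules)

theorem ratio_congr {W : X.Opens} {m₁ m₂ m₁' m₂' : Γ(L, W)} (e : m₁ = m₂) (e' : m₁' = m₂')
    {V : X.Opens} (h₁ : V ≤ gl L m₁) (h₂ : V ≤ gl L m₂) :
    resR h₁ (ratio L m₁ m₁') = resR h₂ (ratio L m₂ m₂') := by
  subst e e'
  rfl

end Ratio

section Res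

variable {X Y : Scheme.{u}} (q : X ⟶ Y) {L : X.Modules} {E : Y.Modules}
  (u : E ⟶ (Scheme.Modules.pushforward q).obj L)
  {𝒮 : RelProj.QCGrAlg Y} {j : E ⟶ 𝒮.toModule} (hj : RelProj.IsGrSymAlg E 𝒮 j)
  {U U' : Y.Opens} (hU : IsAffineOpen U) (hU' : IsAffineOpen U') (h : U' ≤ U)

theorem jj_res (ε : Γ(E, U)) :
    (𝒮.presheaf.map (homOfLE h).op).hom (jj j U ε) = jj j U' (res E h ε) := by
  unfold jj
  rw [QcExt.app_res j h ε]
  rfl

theorem W_res (ε : Γ(E, U)) : W q u U' (res E h ε) = W q u U ε ⊓ q ⁻¹ᵁ U' := by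
  unfold W
  rw [← sec_res q u h ε, gl_res]

theorem W_res_le (ε : Γ(E, U)) : W q u U' (res E h ε) ≤ W q u U ε := by
  rw [W_res]; exact inf_le_left

theorem φ_res_le (ε ε' : Γ(E, U)) {V : X.Opens} (hV' : V ≤ W q u U' (res E h ε))
    (hV : V ≤ W q u U ε) :
    resR hV' (φ q u U' (res E h ε) (res E h ε')) = resR hV (φ q u U ε ε') := by
  unfold φ
  have hV'' : V ≤ gl L (res L (q.preimage_mono h) (sec q u U ε)) := by
    rw [sec_res]; exact hV'
  have e1 := ratio_congr L (sec_res q u h ε).symm (sec_res q u h ε').symm hV' hV''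
  refine e1.trans ?_
  rw [ratio_res, resR_resR]
  rfl

theorem φ_res (ε ε' : Γ(E, U)) :
    φ q u U' (res E h ε) (res E h ε') = resR (W_res_le q u h ε) (φ q u U ε ε') := by
  have := φ_res_le q u h ε ε' le_rfl (W_res_le q u h ε)
  rw [← this]
  exact (RingHom.congr_fun (show resR (le_refl _) = RingHom.id _ from by
    ext x; exact (show (X.presheaf.map (𝟙 _)).hom x = x by simp)) _).symm

variable [E.IsQuasicoherent]

theorem F_res (ε : Γ(E, U)) (x : 𝒮.presheaf.obj (op U)) :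
    F q u hj U' hU' (res E h ε) ((𝒮.presheaf.map (homOfLE h).op).hom x) =
      resR (W_res_le q u h ε) (F q u hj U hU ε x) := by
  have key : (F q u hj U' hU' (res E h ε)).comp (𝒮.presheaf.map (homOfLE h).op).hom =
      (resR (W_res_le q u h ε)).comp (F q u hj U hU ε) := by
    apply SymAlg.secHom_ext E hj.1 U hU
    · intro r
      rw [RingHom.comp_apply, RingHom.comp_apply, F_str, ← QCAlgQc.str_res, F_str]
      change resR _ ((q.app U').hom (resR h r)) = resR _ (resR _ ((q.app U).hom r))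
      rw [resR_resR]
      have hn := congrArg (fun ψ => ψ.hom r) (q.naturality (homOfLE h).op)
      change (q.app U').hom (resR h r) = resR (q.preimage_mono h) ((q.app U).hom r) at hn
      rw [hn, resR_resR]
    · intro ε'
      rw [RingHom.comp_apply, RingHom.comp_apply]
      change F q u hj U' hU' (res E h ε) ((𝒮.presheaf.map (homOfLE h).op).hom (jj j U ε')) =
        resR _ (F q u hj U hU ε (jj j U ε'))
      rw [jj_res, F_j, F_j, φ_res]
  exact RingHom.congr_fun key x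

omit [E.IsQuasicoherent] in
theorem awayLift_mk_of_one {S σ : Type u} [CommRing S] [SetLike σ S] [AddSubgroupClass σ S]
    (𝒜 : ℕ → σ) [GradedRing 𝒜] {B : Type u} [CommRing B] (G : S →+* B) {t : S} {d : ℕ}
    (hd : t ∈ 𝒜 d) (ht : IsUnit (G t)) (h1 : G t = 1) (n : ℕ) (x : S) (hx : x ∈ 𝒜 (n • d)) :
    awayLift 𝒜 G t ht (Away.mk 𝒜 hd n x hx) = G x := by
  rw [awayLift_mk]
  have : ht.unit = 1 := Units.ext (by rw [IsUnit.unit_spec, h1]; rfl)
  rw [this, inv_one, Units.val_one, one_pow, mul_one]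

theorem ψ_mk (ε : Γ(E, U)) (n : ℕ) (x : 𝒮.presheaf.obj (op U))
    (hx : x ∈ 𝒮.deg U hU (n • 1)) :
    ψ q u hj U hU ε (Away.mk (𝒮.deg U hU) (jj_mem hj U hU ε) n x hx) = F q u hj U hU ε x := by
  unfold ψ
  apply awayLift_mk_of_one
  rw [F_j, φ_self]

/-- **compatibility of the local morphisms with restriction on the base** -/
theorem ρloc_res (hirr : (𝒮.deg U' hU')₊ ≤ ((𝒮.deg U hU)₊).map (𝒮.res hU hU' h)) (ε : Γ(E, U)) :
    ρloc q u hj U' hU' (res E h ε) ≫ Proj.map (𝒮.res hU hU' h) hirr =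
      X.homOfLE (W_res_le q u h ε) ≫ ρloc q u hj U hU ε := by
  unfold ρloc
  rw [homOfLE_locMap]
  apply locMap_map (𝒮.res hU hU' h) hirr _ (jj_mem hj U hU ε) one_pos
    (jj_mem hj U' hU' (res E h ε)) (jj_res h ε)
  intro n x hx
  rw [RingHom.comp_apply, ψ_mk, ψ_mk]
  exact (F_res q u hj hU hU' h ε x).symm

end Res

end Groth.Agent.Helper1.VT
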