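import Mathlib
import Groth.Agent.Lib.Helper1.VT3
import Groth.Agent.Lib.Helper1.ProjQ1

/-!
# Gluing the local morphisms (helper1 library, very ample theory 4)
-/

set_option autoImplicit false
universe u
open CategoryTheory CategoryTheory.Limits AlgebraicGeometry TopologicalSpace Opposite
  HomogeneousLocalization
open scoped HomogeneousIdeal

namespace Groth.Agent.Helper1.VT

open Groth.Agent.Helper1.QcCech Groth.Agent.Helper1.LGen Groth.Agent.Helper1.CocycleIso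
open Groth.Agent.Helper1 Groth.Agent.Helper1.GP1 Groth.Agent.Helper1.GP2 Groth.Agent.Helper1.GP3

variable {X Y P : Scheme.{u}} (q : X ⟶ Y) {L : X.Modules} {E : Y.Modules}
  (u : E ⟶ (Scheme.Modules.pushforward q).obj L)
  {𝒮 : RelProj.QCGrAlg Y} {j : E ⟶ 𝒮.toModule} (hj : RelProj.IsGrSymAlg E 𝒮 j)
  [E.IsQuasicoherent] {p : P ⟶ Y}
  {chart : ∀ (U : Y.Opens) (hU : IsAffineOpen U), ((p ⁻¹ᵁ U : P.Opens) : Scheme.{u}) ≅ Proj (𝒮.deg U hU)}
  (hP : RelProj.IsRelProj 𝒮 p chart)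

/-- the local morphism to the relative Proj, on an open inside the generating locus -/
noncomputable def ρP (p : P ⟶ Y)
    (chart : ∀ (U : Y.Opens) (hU : IsAffineOpen U),
      ((p ⁻¹ᵁ U : P.Opens) : Scheme.{u}) ≅ Proj (𝒮.deg U hU))
    (U : Y.AffineZariskiSite) (ε : Γ(E, U.1)) (V : X.Opens)
    (hV : V ≤ W q u U.1 ε) : (↑V : Scheme.{u}) ⟶ P :=
  X.homOfLE hV ≫ ρloc q u hj U.1 U.2 ε ≫ RelProj.emb p chart U.1 U.2

theorem ρP_homOfLE (U : Y.AffineZariskiSite) (ε : Γ(E, U.1)) {V V' : X.Opens}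
    (hV : V ≤ W q u U.1 ε) (h : V' ≤ V) :
    X.homOfLE h ≫ ρP q u hj p chart U ε V hV = ρP q u hj p chart U ε V' (h.trans hV) := by
  unfold ρP
  rw [← Category.assoc, Scheme.homOfLE_homOfLE]

include hP in
theorem ρP_res {U' U : Y.AffineZariskiSite} (h : U' ≤ U) (ε : Γ(E, U.1)) (V : X.Opens)
    (hV : V ≤ W q u U'.1 (res E (Scheme.AffineZariskiSite.toOpens_mono h) ε)) :
    ρP q u hj p chart U' (res E (Scheme.AffineZariskiSite.toOpens_mono h) ε) V hV =
      ρP q u hj p chart U ε V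
        (hV.trans (W_res_le q u (Scheme.AffineZariskiSite.toOpens_mono h) ε)) := by
  unfold ρP
  rw [← RP5.map_res_emb' hP h, ← Category.assoc (ρloc _ _ _ _ _ _),
    ρloc_res q u hj U.2 U'.2 (Scheme.AffineZariskiSite.toOpens_mono h) (RP2.hirr 𝒮 h) ε,
    Category.assoc, ← Category.assoc (X.homOfLE hV), Scheme.homOfLE_homOfLE]

theorem ρP_switch (U : Y.AffineZariskiSite) (ε ε' : Γ(E, U.1)) (V : X.Opens)
    (hV : V ≤ W q u U.1 ε) (hV' : V ≤ W q u U.1 ε') :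
    ρP q u hj p chart U ε V hV = ρP q u hj p chart U ε' V hV' := by
  unfold ρP
  have h := ρloc_compat q u hj U.1 U.2 ε ε'
  have h2 := congrArg (fun g => X.homOfLE (le_inf hV hV') ≫ g) h
  simp only [← Category.assoc, Scheme.homOfLE_homOfLE] at h2
  rw [← Category.assoc, ← Category.assoc, h2]

section Glue

variable (B : Y.AffineZariskiSite → Prop)

/-- the index type of the gluing -/
structure Idx where
  U : Y.AffineZariskiSite
  hB : B U
  ε : Γ(E, U.1)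
  V : X.Opens
  hV : V ≤ W q u U.1 ε

variable (hBle : ∀ U, B U → ∀ U', U' ≤ U → B U') (hBcov : ∀ y : Y, ∃ U, B U ∧ y ∈ U.1)
  (hgen : ∀ U, B U → ∀ x : X, q x ∈ U.1 → ∃ ε : Γ(E, U.1), x ∈ W q u U.1 ε)

include hP hBle hBcov hgen in
/-- **the glued morphism to the relative Proj** -/
theorem exists_r :
    ∃ r : X ⟶ P, ∀ (U : Y.AffineZariskiSite) (_ : B U) (ε : Γ(E, U.1)) (V : X.Opens)
      (hV : V ≤ W q u U.1 ε), V.ι ≫ r = ρP q u hj p chart U ε V hV := by
  have hjG : ∀ i : Idx q u B, Set.range i.V.ι.base ⊆ Set.range (⊤ : X.Opens).ι.base := by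
    intro i
    rw [Scheme.Opens.range_ι, Scheme.Opens.range_ι]
    exact Set.subset_univ _
  have hG : ∀ x ∈ (⊤ : X.Opens), ∃ i : Idx q u B, x ∈ Set.range i.V.ι.base := by
    intro x _
    obtain ⟨U, hU, hxU⟩ := hBcov (q x)
    obtain ⟨ε, hε⟩ := hgen U hU x hxU
    exact ⟨⟨U, hU, ε, W q u U.1 ε, le_rfl⟩, by rw [Scheme.Opens.range_ι]; exact hε⟩
  obtain ⟨v, hv, -⟩ := ProjQ.exists_glue (⊤ : X.Opens)
    (fun i : Idx q u B => ((i.V : X.Opens) : Scheme.{u}))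
    (fun i => i.V.ι) hjG hG (fun i => ρP q u hj p chart i.U i.ε i.V i.hV) (by
      intro i i' a a' haa'
      have hx1 : (i.V.ι a) ∈ i.V := a.2
      have hx2 : (i.V.ι a) ∈ i'.V := by rw [haa']; exact a'.2
      have hq1 : q (i.V.ι a) ∈ i.U.1 := W_le q u i.U.1 i.ε (i.hV hx1)
      have hq2 : q (i.V.ι a) ∈ i'.U.1 := W_le q u i'.U.1 i'.ε (i'.hV hx2)
      obtain ⟨D, hD1, hD2, hqD⟩ := RP5.exists_common_basicOpen i.U.2 i'.U.2 _ ⟨hq1, hq2⟩
      have hle1 := Scheme.AffineZariskiSite.toOpens_mono hD1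
      have hle2 := Scheme.AffineZariskiSite.toOpens_mono hD2
      set Vk : X.Opens := (i.V ⊓ i'.V) ⊓ q ⁻¹ᵁ D.1 with hVk
      have hk1 : Vk ≤ W q u D.1 (res E hle1 i.ε) := by
        rw [W_res]
        exact le_inf ((inf_le_left.trans inf_le_left).trans i.hV) inf_le_right
      have hk2 : Vk ≤ W q u D.1 (res E hle2 i'.ε) := by
        rw [W_res]
        exact le_inf ((inf_le_left.trans inf_le_right).trans i'.hV) inf_le_right
      refine ⟨⟨D, hBle _ i.hB _ hD1, res E hle1 i.ε, Vk, hk1⟩, ⟨i.V.ι a, ⟨hx1, hx2⟩, hqD⟩,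
        X.homOfLE (inf_le_left.trans inf_le_left), X.homOfLE (inf_le_left.trans inf_le_right),
        rfl, X.homOfLE_ι _, X.homOfLE_ι _, ?_, ?_⟩
      · change X.homOfLE _ ≫ ρP q u hj p chart i.U i.ε i.V i.hV =
          ρP q u hj p chart D (res E hle1 i.ε) Vk hk1
        rw [ρP_homOfLE, ρP_res q u hj hP hD1]
        rfl
      · change X.homOfLE _ ≫ ρP q u hj p chart i'.U i'.ε i'.V i'.hV =
          ρP q u hj p chart D (res E hle1 i.ε) Vk hk1
        rw [ρP_homOfLE, ρP_switch q u hj D (res E hle1 i.ε) (res E hle2 i'.ε) Vk hk1 hk2,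
          ρP_res q u hj hP hD2]
        rfl)
  refine ⟨(Scheme.topIso X).inv ≫ v, fun U hU ε V hV => ?_⟩
  rw [← hv ⟨U, hU, ε, V, hV⟩, ← Category.assoc]
  congr 1
  rw [Iso.comp_inv_eq, Scheme.topIso_hom, IsOpenImmersion.lift_fac]

end Glue

end Groth.Agent.Helper1.VT
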