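import Mathlib
import Groth.Agent.Lib.Helper1.VT4
import Groth.Agent.Lib.Helper1.PhiMap1

/-!
# Properties of the glued morphism (helper1 library, very ample theory 5)
-/

set_option autoImplicit false
universe u
open CategoryTheory CategoryTheory.Limits AlgebraicGeometry TopologicalSpace Opposite
  HomogeneousLocalization
open scoped HomogeneousIdeal

namespace Groth.Agent.Helper1.VT

open Groth.Agent.Helper1.QcCech Groth.Agent.Helper1.LGen Groth.Agent.Helper1.CocycleIso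
open Groth.Agent.Helper1 Groth.Agent.Helper1.GP1 Groth.Agent.Helper1.GP2 Groth.Agent.Helper1.GP3

variable {X Y P : Scheme.{u}} (q : X ⟶ Y) {L : X.Modules} {E : Y.Modules}
  (u : E ⟶ (Scheme.Modules.pushforward q).obj L)
  {𝒮 : RelProj.QCGrAlg Y} {j : E ⟶ 𝒮.toModule} (hj : RelProj.IsGrSymAlg E 𝒮 j)
  [E.IsQuasicoherent] {p : P ⟶ Y}
  {chart : ∀ (U : Y.Opens) (hU : IsAffineOpen U), ((p ⁻¹ᵁ U : P.Opens) : Scheme.{u}) ≅ Proj (𝒮.deg U hU)}
  (hP : RelProj.IsRelProj 𝒮 p chart)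

theorem ψ_fromZero (U : Y.Opens) (hU : IsAffineOpen U) (ε : Γ(E, U)) :
    𝒮.strZero U hU ≫ CommRingCat.ofHom ((ψ q u hj U hU ε).comp (fromZeroRingHom (𝒮.deg U hU) _)) =
      q.app U ≫ X.presheaf.map (homOfLE (W_le q u U ε)).op := by
  ext r
  change ψ q u hj U hU ε (fromZeroRingHom (𝒮.deg U hU) _ ((𝒮.strZero U hU).hom r)) = β q u U ε r
  unfold ψ
  rw [awayLift_fromZero, ← F_str q u hj U hU ε r]
  rfl

/-- the local morphisms lie over the base -/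
theorem ρloc_chartStr (U : Y.Opens) (hU : IsAffineOpen U) (ε : Γ(E, U)) :
    ρloc q u hj U hU ε ≫ RP1.chartStr 𝒮 U hU = (W q u U ε).ι ≫ q := by
  unfold ρloc RP1.chartStr
  rw [← Category.assoc, locMap_toSpecZero, Category.assoc, ← Spec.map_comp_assoc, ψ_fromZero,
    Spec.map_comp_assoc, Scheme.Opens.toSpecΓ_SpecMap_presheaf_map_assoc,
    Scheme.Opens.toSpecΓ_naturality_assoc, hU.toSpecΓ_fromSpec, morphismRestrict_ι,
    ← Category.assoc, Scheme.homOfLE_ι]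

include hP in
theorem ρP_p (U : Y.AffineZariskiSite) (ε : Γ(E, U.1)) (V : X.Opens) (hV : V ≤ W q u U.1 ε) :
    ρP q u hj p chart U ε V hV ≫ p = V.ι ≫ q := by
  unfold ρP
  rw [Category.assoc, Category.assoc, PhiMap.emb_comp hP, ρloc_chartStr, ← Category.assoc,
    Scheme.homOfLE_ι]

theorem toSpecΓ_preimage_basicOpen' {X : Scheme.{u}} (U : X.Opens) (g : Γ(X, U)) :
    U.toSpecΓ ⁻¹ᵁ PrimeSpectrum.basicOpen g = U.ι ⁻¹ᵁ X.basicOpen g := by
  unfold Scheme.Opens.toSpecΓ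
  rw [Scheme.Hom.comp_preimage]
  have h1 : Spec.map U.topIso.inv ⁻¹ᵁ PrimeSpectrum.basicOpen g =
      PrimeSpectrum.basicOpen (U.topIso.inv.hom g) := by
    ext x
    rfl
  rw [h1, Scheme.toSpecΓ_preimage_basicOpen, Scheme.preimage_basicOpen]
  have h2 := Scheme.basicOpen_res_eq (X := ↑U) (f := U.topIso.inv.hom g)
    (eqToHom (U.ι_preimage_self)).op
  rw [← h2]
  congr 1
  simp only [Scheme.Opens.topIso_inv, Scheme.Opens.ι_app]
  rw [← CommRingCat.comp_apply]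
  erw [← Functor.map_comp]
  rfl

section Glued

variable (B : Y.AffineZariskiSite → Prop)

/-- `r` restricts to the local morphisms -/
def IsGlued (p : P ⟶ Y)
    (chart : ∀ (U : Y.Opens) (hU : IsAffineOpen U),
      ((p ⁻¹ᵁ U : P.Opens) : Scheme.{u}) ≅ Proj (𝒮.deg U hU)) (r : X ⟶ P) : Prop :=
  ∀ (U : Y.AffineZariskiSite) (_ : B U) (ε : Γ(E, U.1)) (V : X.Opens) (hV : V ≤ W q u U.1 ε),
    V.ι ≫ r = ρP q u hj p chart U ε V hV

variable (hBcov : ∀ y : Y, ∃ U, B U ∧ y ∈ U.1)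
  (hgen : ∀ U, B U → ∀ x : X, q x ∈ U.1 → ∃ ε : Γ(E, U.1), x ∈ W q u U.1 ε)
  {r : X ⟶ P} (hr : IsGlued q u hj B p chart r)

include hP hBcov hgen hr in
theorem IsGlued.comp_p : r ≫ p = q := by
  apply RelProjGlue.hom_ext_of_local
  intro x
  obtain ⟨U, hU, hxU⟩ := hBcov (q x)
  obtain ⟨ε, hε⟩ := hgen U hU x hxU
  refine ⟨W q u U.1 ε, hε, ?_⟩
  rw [← Category.assoc, hr U hU ε _ le_rfl, ρP_p q u hj hP]

/-- the open immersion of the chart `D₊(ε)` into `P` -/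
noncomputable def κ (p : P ⟶ Y)
    (chart : ∀ (U : Y.Opens) (hU : IsAffineOpen U),
      ((p ⁻¹ᵁ U : P.Opens) : Scheme.{u}) ≅ Proj (𝒮.deg U hU))
    (U : Y.AffineZariskiSite) (ε : Γ(E, U.1)) :
    Spec (CommRingCat.of (Away (𝒮.deg U.1 U.2) (jj j U.1 ε))) ⟶ P :=
  Proj.awayι (𝒮.deg U.1 U.2) (jj j U.1 ε) (jj_mem hj U.1 U.2 ε) one_pos ≫
    RelProj.emb p chart U.1 U.2

instance (U : Y.AffineZariskiSite) (ε : Γ(E, U.1)) : IsOpenImmersion (κ hj p chart U ε) := by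
  unfold κ; infer_instance

theorem ρP_eq (U : Y.AffineZariskiSite) (ε : Γ(E, U.1)) (V : X.Opens) (hV : V ≤ W q u U.1 ε) :
    ρP q u hj p chart U ε V hV =
      V.toSpecΓ ≫ Spec.map (CommRingCat.ofHom ((resR hV).comp (ψ q u hj U.1 U.2 ε))) ≫
        κ hj p chart U ε := by
  unfold ρP ρloc κ
  rw [← Category.assoc, homOfLE_locMap]
  unfold locMap
  simp only [Category.assoc]
  rfl

theorem ψ_elem (U : Y.AffineZariskiSite) (ε' ε : Γ(E, U.1)) :
    ψ q u hj U.1 U.2 ε' (Away.isLocalizationElem (jj_mem hj U.1 U.2 ε') (jj_mem hj U.1 U.2 ε)) =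
      φ q u U.1 ε' ε := by
  unfold Away.isLocalizationElem
  rw [ψ_mk, pow_one, F_j]

include hr in
/-- the value of `r` at a point of a generating locus -/
theorem IsGlued.apply_eq (U : Y.AffineZariskiSite) (hU : B U) (ε : Γ(E, U.1)) (x : X)
    (hx : x ∈ W q u U.1 ε) :
    r x = κ hj p chart U ε (Spec.map (CommRingCat.ofHom (ψ q u hj U.1 U.2 ε))
      ((W q u U.1 ε).toSpecΓ ⟨x, hx⟩)) := by
  have h1 := hr U hU ε _ le_rfl
  rw [ρP_eq] at h1
  have h2 : r x = ((W q u U.1 ε).ι ≫ r) ⟨x, hx⟩ := rfl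
  rw [h2, h1]
  have h3 : resR (le_refl (W q u U.1 ε)) = RingHom.id _ := by
    ext y
    exact (show (X.presheaf.map (𝟙 _)).hom y = y by simp)
  rw [h3, RingHom.id_comp]
  rfl

include hP hBcov hgen hr in
/-- **the preimage of the chart `D₊(ε)` is the generating locus of `ε`** -/
theorem IsGlued.preimage_κ (U : Y.AffineZariskiSite) (hU : B U) (ε : Γ(E, U.1)) :
    r ⁻¹ᵁ (κ hj p chart U ε).opensRange = W q u U.1 ε := by
  apply le_antisymm
  · intro x hx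
    have hx' : r x ∈ (κ hj p chart U ε).opensRange := hx
    obtain ⟨z, hz⟩ := hx'
    have hqx : q x ∈ U.1 := by
      rw [← hr.comp_p q u hj hP B hBcov hgen]
      change p (r x) ∈ U.1
      rw [← hz]
      unfold κ
      rw [Scheme.Hom.comp_apply]
      have := RP6.emb_mem_preimage (p := p) (chart := chart) U.1 U.2
        (Proj.awayι (𝒮.deg U.1 U.2) (jj j U.1 ε) (jj_mem hj U.1 U.2 ε) one_pos z)
      exact this
    obtain ⟨ε', hε'⟩ := hgen U hU x hqx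
    have h1 := hr.apply_eq q u hj B U hU ε' x hε'
    rw [← hz] at h1
    unfold κ at h1
    rw [Scheme.Hom.comp_apply, Scheme.Hom.comp_apply] at h1
    have h2 := (RelProj.emb p chart U.1 U.2).isOpenEmbedding.injective h1
    set z' := Spec.map (CommRingCat.ofHom (ψ q u hj U.1 U.2 ε'))
      ((W q u U.1 ε').toSpecΓ ⟨x, hε'⟩) with hz'
    have h3 : z' ∈ Proj.awayι (𝒮.deg U.1 U.2) (jj j U.1 ε') (jj_mem hj U.1 U.2 ε') one_pos ⁻¹ᵁ
        Proj.basicOpen (𝒮.deg U.1 U.2) (jj j U.1 ε) := by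
      change Proj.awayι _ _ _ _ z' ∈ Proj.basicOpen (𝒮.deg U.1 U.2) (jj j U.1 ε)
      rw [← h2, ← Proj.opensRange_awayι (𝒮.deg U.1 U.2) (jj j U.1 ε) (jj_mem hj U.1 U.2 ε) one_pos]
      exact ⟨z, rfl⟩
    rw [Proj.awayι_preimage_basicOpen (𝒮.deg U.1 U.2) (jj_mem hj U.1 U.2 ε') one_pos
      (jj_mem hj U.1 U.2 ε) one_pos] at h3
    have h4 : (W q u U.1 ε').toSpecΓ ⟨x, hε'⟩ ∈ PrimeSpectrum.basicOpen
        (ψ q u hj U.1 U.2 ε' (Away.isLocalizationElem (jj_mem hj U.1 U.2 ε')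
          (jj_mem hj U.1 U.2 ε))) := h3
    rw [ψ_elem] at h4
    have h5 : (⟨x, hε'⟩ : ↥(W q u U.1 ε')) ∈ (W q u U.1 ε').toSpecΓ ⁻¹ᵁ
        PrimeSpectrum.basicOpen (φ q u U.1 ε' ε) := h4
    rw [toSpecΓ_preimage_basicOpen'] at h5
    have h6 : x ∈ X.basicOpen (φ q u U.1 ε' ε) := h5
    have h7 := gl_inf_gl L (sec q u U.1 ε') (sec q u U.1 ε)
    have h8 : x ∈ gl L (sec q u U.1 ε') ⊓ gl L (sec q u U.1 ε) := by rw [h7]; exact h6
    exact h8.2
  · intro x hx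
    change r x ∈ (κ hj p chart U ε).opensRange
    rw [hr.apply_eq q u hj B U hU ε x hx]
    exact ⟨_, rfl⟩

end Glued

end Groth.Agent.Helper1.VT
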