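import Mathlib
import Groth.Agent.Lib.Helper1.VT5

/-!
# The immersion criterion (helper1 library, very ample theory 6)
-/

set_option autoImplicit false
universe u
open CategoryTheory CategoryTheory.Limits AlgebraicGeometry TopologicalSpace Opposite
  HomogeneousLocalization
open scoped HomogeneousIdeal

namespace Groth.Agent.Helper1.VT

open Groth.Agent.Helper1.QcCech Groth.Agent.Helper1.LGen Groth.Agent.Helper1.CocycleIso
open Groth.Agent.Helper1 Groth.Agent.Helper1.GP1 Groth.Agent.Helper1.GP2 Groth.Agent.Helper1.GP3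

section General

/-- being an immersion is local on the target, in terms of preimages -/
theorem isImmersion_of_local {X P : Scheme.{u}} (r : X ⟶ P) {𝒜 : Type*} (V : 𝒜 → P.Opens)
    (hcov : ∀ x : X, ∃ a, r x ∈ V a) (h : ∀ a, IsImmersion ((r ⁻¹ᵁ V a).ι ≫ r)) :
    IsImmersion r := by
  have : MorphismProperty.RespectsRight @IsImmersion @IsOpenImmersion :=
    ⟨fun i hi f hf => by
      have : IsOpenImmersion i := hi
      have : IsImmersion f := hf
      change IsImmersion (f ≫ i)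
      infer_instance⟩
  apply IsZariskiLocalAtTarget.of_range_subset_iSup (P := @IsImmersion) V
  · rintro _ ⟨x, rfl⟩
    obtain ⟨a, ha⟩ := hcov x
    exact Opens.mem_iSup.2 ⟨a, ha⟩
  · intro a
    have h1 : IsImmersion ((r ∣_ V a) ≫ (V a).ι) := by
      rw [morphismRestrict_ι]; exact h a
    exact IsImmersion.of_comp (r ∣_ V a) (V a).ι

theorem isImmersion_ι_comp_congr {X P : Scheme.{u}} (r : X ⟶ P) {O O' : X.Opens} (e : O = O')
    (h : IsImmersion (O'.ι ≫ r)) : IsImmersion (O.ι ≫ r) := by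
  subst e; exact h

/-- a morphism from an affine scheme factoring through a ring map which is surjective after
inverting an element, followed by an open immersion, is an immersion -/
theorem isImmersion_of_surjective_away {Z P : Scheme.{u}} {R : Type u} [CommRing R] {C : CommRingCat.{u}}
    (t : Z ⟶ Spec C) [IsIso t] (θ : R →+* C) (b : R) (hu : IsUnit (θ b))
    (hsurj : ∀ f : C, ∃ (n : ℕ) (a : R), f * θ b ^ n = θ a)
    (κ : Spec (CommRingCat.of R) ⟶ P) [IsOpenImmersion κ] :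
    IsImmersion (t ≫ Spec.map (CommRingCat.ofHom θ) ≫ κ) := by
  let lift : Localization.Away b →+* C := IsLocalization.Away.lift b hu
  have hfac : θ = lift.comp (algebraMap R (Localization.Away b)) := by
    ext x
    exact (IsLocalization.Away.lift_eq b hu x).symm
  have hls : Function.Surjective lift := by
    intro f
    obtain ⟨n, a, hna⟩ := hsurj f
    refine ⟨IsLocalization.mk' (Localization.Away b) a (⟨b ^ n, n, rfl⟩ : Submonoid.powers b), ?_⟩
    have h1 : lift (IsLocalization.mk' (Localization.Away b) a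
        (⟨b ^ n, n, rfl⟩ : Submonoid.powers b)) * θ b ^ n = θ a := by
      have h2 := IsLocalization.mk'_spec (Localization.Away b) a
        (⟨b ^ n, n, rfl⟩ : Submonoid.powers b)
      have h3 := congrArg lift h2
      rw [map_mul, IsLocalization.Away.lift_eq, IsLocalization.Away.lift_eq, map_pow] at h3
      exact h3
    have hun : IsUnit (θ b ^ n) := hu.pow n
    exact hun.mul_left_injective (h1.trans hna.symm)
  have hci : IsClosedImmersion (Spec.map (CommRingCat.ofHom lift)) :=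
    IsClosedImmersion.spec_of_surjective _ hls
  have e : Spec.map (CommRingCat.ofHom θ) =
      Spec.map (CommRingCat.ofHom lift) ≫
        Spec.map (CommRingCat.ofHom (algebraMap R (Localization.Away b))) := by
    rw [← Spec.map_comp, ← CommRingCat.ofHom_comp, ← hfac]
  rw [e]
  infer_instance

end General

section Crit

variable {X Y : Scheme.{u}} (q : X ⟶ Y) (L : X.Modules)

/-- the subring of functions on the generating locus of `m` generated by the functions from the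
base and the ratios `m'/m`, `m'` in the given set of sections -/
def TS (U : Y.Opens) (m : Γ(L, q ⁻¹ᵁ U)) (Sg : Set Γ(L, q ⁻¹ᵁ U)) : Subring Γ(X, gl L m) :=
  Subring.closure (Set.range ((resR (gl_le L m)).comp (q.app U).hom) ∪ (ratio L m '' Sg))

theorem TS_mono (U : Y.Opens) (m : Γ(L, q ⁻¹ᵁ U)) {Sg Sg' : Set Γ(L, q ⁻¹ᵁ U)} (h : Sg ⊆ Sg') :
    TS q L U m Sg ≤ TS q L U m Sg' :=
  Subring.closure_mono (Set.union_subset_union_right _ (Set.image_mono h))

/-- the immersion criterion at a point: some basic open (for a function in the subring generated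
by the ratios) of some generating locus is an affine neighbourhood whose functions are
fractions of elements of the subring -/
def CritAt (U : Y.Opens) (Sg : Set Γ(L, q ⁻¹ᵁ U)) (x : X) : Prop :=
  ∃ m ∈ Sg, ∃ b ∈ TS q L U m Sg, x ∈ X.basicOpen b ∧ IsAffineOpen (X.basicOpen b) ∧
    ∀ f : Γ(X, X.basicOpen b), ∃ (n : ℕ) (t : Γ(X, gl L m)), t ∈ TS q L U m Sg ∧
      f * resR (X.basicOpen_le b) b ^ n = resR (X.basicOpen_le b) t

theorem CritAt.mono {U : Y.Opens} {Sg Sg' : Set Γ(L, q ⁻¹ᵁ U)} (h : Sg ⊆ Sg') {x : X}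
    (hc : CritAt q L U Sg x) : CritAt q L U Sg' x := by
  obtain ⟨m, hm, b, hb, hxb, haff, hf⟩ := hc
  refine ⟨m, h hm, b, TS_mono q L U m h hb, hxb, haff, fun f => ?_⟩
  obtain ⟨n, t, ht, hft⟩ := hf f
  exact ⟨n, t, TS_mono q L U m h ht, hft⟩

end Crit

section Range

variable {X Y : Scheme.{u}} (q : X ⟶ Y) {L : X.Modules} {E : Y.Modules}
  (u : E ⟶ (Scheme.Modules.pushforward q).obj L)
  {𝒮 : RelProj.QCGrAlg Y} {j : E ⟶ 𝒮.toModule} (hj : RelProj.IsGrSymAlg E 𝒮 j)
  [E.IsQuasicoherent] (U : Y.Opens) (hU : IsAffineOpen U)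

theorem F_mem_TS (ε : Γ(E, U)) (x : 𝒮.presheaf.obj (op U)) :
    F q u hj U hU ε x ∈ TS q L U (sec q u U ε) (Set.range (sec q u U)) := by
  obtain ⟨c, hc1, hc2⟩ := SymAlg.exists_ringEquiv E hj.1 U hU
  obtain ⟨y, rfl⟩ := c.surjective x
  induction y using SymmetricAlgebra.induction with
  | algebraMap r =>
    rw [hc1, F_str]
    exact Subring.subset_closure (Or.inl ⟨r, rfl⟩)
  | ι e =>
    have : c (SymmetricAlgebra.ι Γ(Y, U) Γ(E, U) e) = jj j U e := hc2 e
    rw [this, F_j]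
    exact Subring.subset_closure (Or.inr ⟨sec q u U e, ⟨e, rfl⟩, rfl⟩)
  | mul a b ha hb =>
    rw [map_mul, map_mul]
    exact Subring.mul_mem _ ha hb
  | add a b ha hb =>
    rw [map_add, map_add]
    exact Subring.add_mem _ ha hb

theorem range_ψ (ε : Γ(E, U)) :
    (ψ q u hj U hU ε).range = TS q L U (sec q u U ε) (Set.range (sec q u U)) := by
  apply le_antisymm
  · rintro _ ⟨z, rfl⟩
    obtain ⟨n, x, hx, rfl⟩ := Away.mk_surjective (𝒮.deg U hU) (jj_mem hj U hU ε) z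
    rw [ψ_mk]
    exact F_mem_TS q u hj U hU ε x
  · apply Subring.closure_le.2
    rintro _ (⟨r, rfl⟩ | ⟨_, ⟨ε', rfl⟩, rfl⟩)
    · refine ⟨Away.mk (𝒮.deg U hU) (jj_mem hj U hU ε) 0 ((𝒮.str.app (op U)).hom r)
        (by rw [zero_smul]; exact 𝒮.str_mem U hU r), ?_⟩
      rw [ψ_mk, F_str]
      rfl
    · refine ⟨Away.mk (𝒮.deg U hU) (jj_mem hj U hU ε) 1 (jj j U ε')
        (by rw [one_smul]; exact jj_mem hj U hU ε'), ?_⟩
      rw [ψ_mk, F_j]
      rfl

end Range

section Imm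

variable {X Y P : Scheme.{u}} (q : X ⟶ Y) {L : X.Modules} {E : Y.Modules}
  (u : E ⟶ (Scheme.Modules.pushforward q).obj L)
  {𝒮 : RelProj.QCGrAlg Y} {j : E ⟶ 𝒮.toModule} (hj : RelProj.IsGrSymAlg E 𝒮 j)
  [E.IsQuasicoherent] {p : P ⟶ Y}
  {chart : ∀ (U : Y.Opens) (hU : IsAffineOpen U), ((p ⁻¹ᵁ U : P.Opens) : Scheme.{u}) ≅ Proj (𝒮.deg U hU)}
  (hP : RelProj.IsRelProj 𝒮 p chart) (B : Y.AffineZariskiSite → Prop)
  (hBcov : ∀ y : Y, ∃ U, B U ∧ y ∈ U.1)
  (hgen : ∀ U, B U → ∀ x : X, q x ∈ U.1 → ∃ ε : Γ(E, U.1), x ∈ W q u U.1 ε)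
  {r : X ⟶ P} (hr : IsGlued q u hj B p chart r)

include hP hBcov hgen hr in
/-- the preimage of a basic open of the chart `D₊(ε)` -/
theorem IsGlued.preimage_κ_basicOpen (U : Y.AffineZariskiSite) (hU : B U) (ε : Γ(E, U.1))
    (bt : Away (𝒮.deg U.1 U.2) (jj j U.1 ε)) :
    r ⁻¹ᵁ (κ hj p chart U ε ''ᵁ PrimeSpectrum.basicOpen bt) =
      X.basicOpen (ψ q u hj U.1 U.2 ε bt) := by
  ext x
  constructor
  · intro hx
    have hx' : r x ∈ κ hj p chart U ε ''ᵁ PrimeSpectrum.basicOpen bt := hx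
    have hxW : x ∈ W q u U.1 ε := by
      rw [← hr.preimage_κ q u hj hP B hBcov hgen U hU ε]
      obtain ⟨z, -, hz⟩ := hx'
      exact ⟨z, hz⟩
    rw [hr.apply_eq q u hj B U hU ε x hxW] at hx'
    obtain ⟨z, hz, hzz⟩ := hx'
    have h2 := (κ hj p chart U ε).isOpenEmbedding.injective hzz
    rw [h2] at hz
    have h5 : (⟨x, hxW⟩ : ↥(W q u U.1 ε)) ∈ (W q u U.1 ε).toSpecΓ ⁻¹ᵁ
        PrimeSpectrum.basicOpen (ψ q u hj U.1 U.2 ε bt) := hz
    rw [toSpecΓ_preimage_basicOpen'] at h5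
    exact h5
  · intro hx
    have hxW : x ∈ W q u U.1 ε := X.basicOpen_le _ hx
    change r x ∈ κ hj p chart U ε ''ᵁ PrimeSpectrum.basicOpen bt
    rw [hr.apply_eq q u hj B U hU ε x hxW]
    refine ⟨_, ?_, rfl⟩
    have h5 : (⟨x, hxW⟩ : ↥(W q u U.1 ε)) ∈ (W q u U.1 ε).ι ⁻¹ᵁ
        X.basicOpen (ψ q u hj U.1 U.2 ε bt) := hx
    rw [← toSpecΓ_preimage_basicOpen'] at h5
    exact h5

include hP hBcov hgen hr in
/-- **the immersion criterion** -/
theorem IsGlued.isImmersion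
    (hcrit : ∀ x : X, ∃ U, B U ∧ q x ∈ U.1 ∧ CritAt q L U.1 (Set.range (sec q u U.1)) x) :
    IsImmersion r := by
  choose U hU hqU hc using hcrit
  have hc' : ∀ x : X, ∃ (ε : Γ(E, (U x).1)) (bt : Away (𝒮.deg (U x).1 (U x).2) (jj j (U x).1 ε)),
      x ∈ X.basicOpen (ψ q u hj (U x).1 (U x).2 ε bt) ∧
      IsAffineOpen (X.basicOpen (ψ q u hj (U x).1 (U x).2 ε bt)) ∧
      ∀ f : Γ(X, X.basicOpen (ψ q u hj (U x).1 (U x).2 ε bt)), ∃ (n : ℕ)
        (a : Away (𝒮.deg (U x).1 (U x).2) (jj j (U x).1 ε)),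
        f * resR (X.basicOpen_le _) (ψ q u hj (U x).1 (U x).2 ε bt) ^ n =
          resR (X.basicOpen_le _) (ψ q u hj (U x).1 (U x).2 ε a) := by
    intro x
    obtain ⟨_, ⟨ε, rfl⟩, b, hb, hxb, haff, hf⟩ := hc x
    rw [← range_ψ q u hj (U x).1 (U x).2 ε] at hb
    obtain ⟨bt, rfl⟩ := hb
    refine ⟨ε, bt, hxb, haff, fun f => ?_⟩
    obtain ⟨n, t, ht, hft⟩ := hf f
    rw [← range_ψ q u hj (U x).1 (U x).2 ε] at ht
    obtain ⟨a, rfl⟩ := ht
    exact ⟨n, a, hft⟩
  choose ε bt hxb haff hf using hc'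
  apply isImmersion_of_local r
    (fun x : X => κ hj p chart (U x) (ε x) ''ᵁ PrimeSpectrum.basicOpen (bt x))
  · intro x
    refine ⟨x, ?_⟩
    change x ∈ r ⁻¹ᵁ (κ hj p chart (U x) (ε x) ''ᵁ PrimeSpectrum.basicOpen (bt x))
    rw [hr.preimage_κ_basicOpen q u hj hP B hBcov hgen (U x) (hU x) (ε x) (bt x)]
    exact hxb x
  · intro x
    apply isImmersion_ι_comp_congr r
      (hr.preimage_κ_basicOpen q u hj hP B hBcov hgen (U x) (hU x) (ε x) (bt x))
    rw [hr (U x) (hU x) (ε x) _ (X.basicOpen_le _), ρP_eq]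
    have : IsIso (X.basicOpen (ψ q u hj (U x).1 (U x).2 (ε x) (bt x))).toSpecΓ := by
      rw [← (haff x).isoSpec_hom]; infer_instance
    apply isImmersion_of_surjective_away _ _ (bt x)
    · exact X.toRingedSpace.isUnit_res_basicOpen _
    · intro f
      obtain ⟨n, a, hna⟩ := hf x f
      exact ⟨n, a, hna⟩

end Imm

end Groth.Agent.Helper1.VT
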