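import Mathlib
import Groth.Agent.Lib.Helper1.VT6

/-!
# The comorphism of the glued morphism (helper1 library, very ample theory 7)
-/

set_option autoImplicit false
universe u
open CategoryTheory CategoryTheory.Limits AlgebraicGeometry TopologicalSpace Opposite
  HomogeneousLocalization
open scoped HomogeneousIdeal

namespace Groth.Agent.Helper1.VT

open Groth.Agent.Helper1.QcCech Groth.Agent.Helper1.LGen Groth.Agent.Helper1.CocycleIso
open Groth.Agent.Helper1 Groth.Agent.Helper1.GP1 Groth.Agent.Helper1.GP2 Groth.Agent.Helper1.GP3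

/-- the comorphism of a morphism which factors locally through an affine chart -/
theorem appLE_of_fac {X P : Scheme.{u}} (r : X ⟶ P) (O : X.Opens) {R : CommRingCat.{u}}
    (κ : Spec R ⟶ P) [IsOpenImmersion κ] (θ : R ⟶ Γ(X, O))
    (hfac : O.ι ≫ r = O.toSpecΓ ≫ Spec.map θ ≫ κ) :
    ∃ h : O ≤ r ⁻¹ᵁ κ.opensRange,
      r.appLE κ.opensRange O h =
        κ.appLE κ.opensRange ⊤ (by rw [Scheme.Hom.preimage_opensRange]) ≫
          (Scheme.ΓSpecIso R).hom ≫ θ := by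
  have h : O ≤ r ⁻¹ᵁ κ.opensRange := by
    intro x hx
    change r x ∈ κ.opensRange
    have h2 : r x = (O.ι ≫ r) ⟨x, hx⟩ := rfl
    rw [h2, hfac]
    exact ⟨_, rfl⟩
  refine ⟨h, ?_⟩
  apply toSpecΓ_SpecMap_injective
  have e1 : r.resLE κ.opensRange O h ≫ κ.opensRange.ι = O.ι ≫ r := Scheme.Hom.resLE_comp_ι r h
  have e2 : r.resLE κ.opensRange O h = O.toSpecΓ ≫ Spec.map θ ≫ κ.isoOpensRange.hom := by
    rw [← cancel_mono κ.opensRange.ι, e1, hfac]
    simp only [Category.assoc, Scheme.Hom.isoOpensRange_hom_ι]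
  have hle : (⊤ : (Spec R).Opens) ≤ κ ⁻¹ᵁ κ.opensRange := by rw [Scheme.Hom.preimage_opensRange]
  have e3 := Scheme.Opens.toSpecΓ_SpecMap_appLE κ κ.opensRange ⊤ hle
  have e4 : (⊤ : (Spec R).Opens).ι ≫ κ.isoOpensRange.hom = κ.resLE κ.opensRange ⊤ hle := by
    rw [← cancel_mono κ.opensRange.ι, Category.assoc, Scheme.Hom.isoOpensRange_hom_ι,
      Scheme.Hom.resLE_comp_ι]
  have : IsIso (⊤ : (Spec R).Opens).ι := by rw [← Scheme.topIso_hom]; infer_instance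
  have e5 : κ.isoOpensRange.hom ≫ κ.opensRange.toSpecΓ =
      Spec.map (Scheme.ΓSpecIso R).hom ≫ Spec.map (κ.appLE κ.opensRange ⊤ hle) := by
    rw [← cancel_epi (⊤ : (Spec R).Opens).ι, ← Category.assoc, e4, ← e3,
      Scheme.Opens.toSpecΓ_top, Category.assoc, SpecMap_ΓSpecIso_hom]
  rw [Scheme.Opens.toSpecΓ_SpecMap_appLE, e2, Category.assoc, Category.assoc, e5,
    Spec.map_comp, Spec.map_comp]
  simp only [Category.assoc]

section ATS

variable {A σ : Type u} [CommRing A] [SetLike σ A] [AddSubgroupClass σ A] (𝒜 : ℕ → σ) [GradedRing 𝒜]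

/-- the comorphism of `awayι` inverts `awayToSection` -/
theorem awayToSection_awayι_appLE {t : A} {d : ℕ} (hd : t ∈ 𝒜 d) (hpos : 0 < d) :
    ∃ h : (⊤ : (Spec (CommRingCat.of (Away 𝒜 t))).Opens) ≤
        Proj.awayι 𝒜 t hd hpos ⁻¹ᵁ Proj.basicOpen 𝒜 t,
      Proj.awayToSection 𝒜 t ≫ (Proj.awayι 𝒜 t hd hpos).appLE (Proj.basicOpen 𝒜 t) ⊤ h ≫
        (Scheme.ΓSpecIso (CommRingCat.of (Away 𝒜 t))).hom = 𝟙 _ := by
  have hr : (⊤ : (Spec (CommRingCat.of (Away 𝒜 t))).Opens).ι ≫ Proj.awayι 𝒜 t hd hpos =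
      locMap 𝒜 ⊤ hd hpos (Scheme.ΓSpecIso (CommRingCat.of (Away 𝒜 t))).inv.hom := by
    unfold locMap
    rw [Scheme.Opens.toSpecΓ_top, Category.assoc, ← Category.assoc (Scheme.toSpecΓ _)]
    have : CommRingCat.ofHom (Scheme.ΓSpecIso (CommRingCat.of (Away 𝒜 t))).inv.hom =
        (Scheme.ΓSpecIso (CommRingCat.of (Away 𝒜 t))).inv := rfl
    rw [this, toSpecΓ_SpecMap_ΓSpecIso_inv, Category.id_comp]
  obtain ⟨h, hh⟩ := awayToSection_appLE 𝒜 ⊤ hd hpos _ _ hr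
  refine ⟨h, ?_⟩
  rw [← Category.assoc, hh]
  exact (Scheme.ΓSpecIso (CommRingCat.of (Away 𝒜 t))).inv_hom_id

end ATS

end Groth.Agent.Helper1.VT
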