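import Mathlib
import Groth.Agent.Lib.Helper1.VT7
import Groth.Agent.Lib.Helper1.PhiMap2
import Groth.Agent.Lib.Helper1.RP13
import Groth.Agent.Lib.Helper1.PullGen

/-!
# The pullback of the fundamental sheaf along the glued morphism (helper1 library, very ample theory 8)
-/

set_option autoImplicit false
universe u
open CategoryTheory CategoryTheory.Limits AlgebraicGeometry TopologicalSpace Opposite
  HomogeneousLocalization
open scoped HomogeneousIdeal

namespace Groth.Agent.Helper1.VT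

open Groth.Agent.Helper1.QcCech Groth.Agent.Helper1.LGen Groth.Agent.Helper1.CocycleIso
open Groth.Agent.Helper1 Groth.Agent.Helper1.GP1 Groth.Agent.Helper1.GP2 Groth.Agent.Helper1.GP3

variable {X Y P : Scheme.{u}} (q : X ⟶ Y) {L : X.Modules} {E : Y.Modules}
  (u : E ⟶ (Scheme.Modules.pushforward q).obj L)
  {𝒮 : RelProj.QCGrAlg Y} {j : E ⟶ 𝒮.toModule} (hj : RelProj.IsGrSymAlg E 𝒮 j)
  {p : P ⟶ Y}
  {chart : ∀ (U : Y.Opens) (hU : IsAffineOpen U), ((p ⁻¹ᵁ U : P.Opens) : Scheme.{u}) ≅ Proj (𝒮.deg U hU)}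
  (hP : RelProj.IsRelProj 𝒮 p chart)
  {O1 : P.Modules}
  {lam : ∀ (U : Y.Opens) (hU : IsAffineOpen U),
    O1 ⟶ (Scheme.Modules.pushforward (RelProj.emb p chart U hU)).obj (GrTwist.twist (𝒮.deg U hU) 1)}
  (hO1 : RelProj.IsRelTwist 𝒮 p chart 1 O1 lam)
  (can : E ⟶ (Scheme.Modules.pushforward p).obj O1)
  (hcan : ∀ (U : Y.Opens) (hU : IsAffineOpen U) (e : Γ(E, U))
      (y : ↥(RelProj.emb p chart U hU ⁻¹ᵁ (p ⁻¹ᵁ U))),
      GrTwist.val (V := RelProj.emb p chart U hU ⁻¹ᵁ (p ⁻¹ᵁ U))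
          ((lam U hU).app (p ⁻¹ᵁ U) ((can.app U) e)) y =
        algebraMap (𝒮.presheaf.obj (op U)) (GrTwist.Loc (𝒮.deg U hU) y.1)
          ((j.app U) e : 𝒮.presheaf.obj (op U)))

/-- the chart open `D₊(ε)` of `P` -/
noncomputable def Dκ (p : P ⟶ Y)
    (chart : ∀ (U : Y.Opens) (hU : IsAffineOpen U),
      ((p ⁻¹ᵁ U : P.Opens) : Scheme.{u}) ≅ Proj (𝒮.deg U hU))
    (U : Y.AffineZariskiSite) (ε : Γ(E, U.1)) : P.Opens :=
  (κ hj p chart U ε).opensRange

theorem Dκ_eq (U : Y.AffineZariskiSite) (ε : Γ(E, U.1)) :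
    Dκ hj p chart U ε =
      RelProj.emb p chart U.1 U.2 ''ᵁ Proj.basicOpen (𝒮.deg U.1 U.2) (jj j U.1 ε) := by
  unfold Dκ κ
  rw [Scheme.Hom.opensRange_comp, Proj.opensRange_awayι]

theorem emb_mem_Dκ_iff (U : Y.AffineZariskiSite) (ε : Γ(E, U.1))
    (y : ProjectiveSpectrum (𝒮.deg U.1 U.2)) :
    (RelProj.emb p chart U.1 U.2).base y ∈ Dκ hj p chart U ε ↔
      jj j U.1 ε ∉ y.asHomogeneousIdeal := by
  rw [Dκ_eq]
  constructor
  · rintro ⟨z, hz, hzy⟩
    have : z = y := (RelProj.emb p chart U.1 U.2).isOpenEmbedding.injective hzy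
    subst this
    exact (Proj.mem_basicOpen _ _ _).1 hz
  · intro h
    exact ⟨y, (Proj.mem_basicOpen _ _ _).2 h, rfl⟩

theorem Dκ_le (U : Y.AffineZariskiSite) (ε : Γ(E, U.1)) : Dκ hj p chart U ε ≤ p ⁻¹ᵁ U.1 := by
  rw [Dκ_eq]
  rintro _ ⟨z, -, rfl⟩
  exact RP6.emb_mem_preimage (p := p) (chart := chart) U.1 U.2 z

theorem preimage_Dκ (U : Y.AffineZariskiSite) (ε : Γ(E, U.1)) :
    RelProj.emb p chart U.1 U.2 ⁻¹ᵁ Dκ hj p chart U ε =
      Proj.basicOpen (𝒮.deg U.1 U.2) (jj j U.1 ε) := by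
  apply le_antisymm
  · intro y hy
    have h1 : (RelProj.emb p chart U.1 U.2).base y ∈ Dκ hj p chart U ε := hy
    have h2 := (emb_mem_Dκ_iff (p := p) (chart := chart) hj U ε y).1 h1
    exact (Proj.mem_basicOpen _ _ _).2 h2
  · intro y hy
    have h2 := (Proj.mem_basicOpen _ _ _).1 hy
    have h1 := (emb_mem_Dκ_iff (p := p) (chart := chart) hj U ε y).2 h2
    exact h1

/-- the canonical section of the fundamental sheaf attached to `ε` -/
noncomputable def θ (U : Y.Opens) (ε : Γ(E, U)) : Γ(O1, p ⁻¹ᵁ U) := can.app U ε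

/-- the canonical section restricted to the chart `D₊(ε')` -/
noncomputable def θD (chart : ∀ (U : Y.Opens) (hU : IsAffineOpen U),
      ((p ⁻¹ᵁ U : P.Opens) : Scheme.{u}) ≅ Proj (𝒮.deg U hU))
    (U : Y.AffineZariskiSite) (ε' ε : Γ(E, U.1)) : Γ(O1, Dκ hj p chart U ε') :=
  res O1 (Dκ_le (p := p) (chart := chart) hj U ε') (θ can U.1 ε)

include hO1 hcan in
/-- the canonical section generates the fundamental sheaf on the chart `D₊(ε)` -/
theorem isGen_θ (U : Y.AffineZariskiSite) (ε : Γ(E, U.1)) :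
    IsGen O1 (Dκ hj p chart U ε) (θD hj can chart U ε ε) := by
  have hnv : ∀ y : ProjectiveSpectrum (𝒮.deg U.1 U.2),
      (RelProj.emb p chart U.1 U.2).base y ∈ Dκ hj p chart U ε →
      jj j U.1 ε ∉ y.asHomogeneousIdeal ∧ (1 : 𝒮.presheaf.obj (op U.1)) ∉ y.asHomogeneousIdeal :=
    fun y hy => ⟨(emb_mem_Dκ_iff hj U ε y).1 hy, PhiMap.one_notMem _ y⟩
  refine RP13.isGen_of_lam_eq_frac hO1 U.1 U.2 (Dκ_le hj U ε) _ (jj_mem hj U.1 U.2 ε)
    (SetLike.GradedOne.one_mem : (1 : 𝒮.presheaf.obj (op U.1)) ∈ 𝒮.deg U.1 U.2 0)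
    (by simp : ((1 : ℕ) : ℤ) = ((0 : ℕ) : ℤ) + 1) hnv ?_
  apply RP6.val_ext
  rintro ⟨y, hy⟩
  unfold θD
  rw [RP7.lam_res', RP6.val_res]
  have h := hcan U.1 U.2 ε ⟨y, Dκ_le hj U ε hy⟩
  unfold θ
  rw [h]
  exact (Localization.mk_one_eq_algebraMap _).symm

theorem loc_eq_of_mul {R : Type u} [CommRing R] {M : Submonoid R} (x : Localization M) (a b : R)
    (ha : a ∈ M) (h : x * Localization.mk a 1 = Localization.mk b 1) :
    x = Localization.mk b ⟨a, ha⟩ := by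
  have h1 : (Localization.mk a 1 : Localization M) * Localization.mk 1 ⟨a, ha⟩ = 1 := by
    rw [Localization.mk_mul, mul_one, one_mul]
    exact Localization.mk_self ⟨a, ha⟩
  calc x = x * (Localization.mk a 1 * Localization.mk 1 ⟨a, ha⟩) := by rw [h1, mul_one]
    _ = Localization.mk b 1 * Localization.mk 1 ⟨a, ha⟩ := by rw [← mul_assoc, h]
    _ = Localization.mk b ⟨a, ha⟩ := by rw [Localization.mk_mul, mul_one, one_mul]

section ATSval

variable {A σ : Type u} [CommRing A] [SetLike σ A] [AddSubgroupClass σ A] (𝒜 : ℕ → σ) [GradedRing 𝒜]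

theorem pow_notMem' {t : A} (y : Proj.basicOpen 𝒜 t) (n : ℕ) :
    t ^ n ∈ y.1.asHomogeneousIdeal.toIdeal.primeCompl :=
  fun h => y.2 (y.1.isPrime.mem_of_pow_mem n h)

theorem aTS_val {t : A} {d : ℕ} (hd : t ∈ 𝒜 d) (n : ℕ) (a : A) (ha : a ∈ 𝒜 (n • d))
    (y : Proj.basicOpen 𝒜 t) :
    (((show GrTwist.O (𝒜 := 𝒜) (op (Proj.basicOpen 𝒜 t)) from
      (Proj.awayToSection 𝒜 t).hom (Away.mk 𝒜 hd n a ha)).1 y).val : GrTwist.Loc 𝒜 y.1) =
      Localization.mk a ⟨t ^ n, pow_notMem' 𝒜 y n⟩ := by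
  change (HomogeneousLocalization.mapId 𝒜 _ (Away.mk 𝒜 hd n a ha)).val = _
  unfold Away.mk
  rw [HomogeneousLocalization.mapId, HomogeneousLocalization.map_mk, HomogeneousLocalization.val_mk]
  rfl

/-- sections of the structure sheaf of `Proj` are determined by their values -/
theorem O_ext {V : (Proj 𝒜).Opens} (s t : Γ(Proj 𝒜, V))
    (h : ∀ y : V, (((show GrTwist.O (𝒜 := 𝒜) (op V) from s).1 y).val : GrTwist.Loc 𝒜 y.1) =
      ((show GrTwist.O (𝒜 := 𝒜) (op V) from t).1 y).val) : s = t :=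
  Subtype.ext (funext fun y => HomogeneousLocalization.val_injective _ (h y))

end ATSval

include hcan in
/-- the value of the coefficient of `θ ε'` relative to `θ ε` on the chart -/
theorem coeff_val (U : Y.AffineZariskiSite) (ε ε' : Γ(E, U.1)) (c : Γ(P, Dκ hj p chart U ε))
    (hc : c • θD hj can chart U ε ε = θD hj can chart U ε ε')
    (y : ↥(RelProj.emb p chart U.1 U.2 ⁻¹ᵁ Dκ hj p chart U ε)) :
    (((show GrTwist.O (𝒜 := 𝒮.deg U.1 U.2)
        (op (RelProj.emb p chart U.1 U.2 ⁻¹ᵁ Dκ hj p chart U ε)) from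
        (RelProj.emb p chart U.1 U.2).app (Dκ hj p chart U ε) c).1 y).val :
          GrTwist.Loc (𝒮.deg U.1 U.2) y.1) =
      Localization.mk (jj j U.1 ε')
        ⟨jj j U.1 ε, (emb_mem_Dκ_iff (p := p) (chart := chart) hj U ε y.1).1 y.2⟩ := by
  have hval : ∀ e : Γ(E, U.1), GrTwist.val
      ((lam U.1 U.2).app (Dκ hj p chart U ε) (θD hj can chart U ε e)) y =
      Localization.mk (jj j U.1 e) 1 := by
    intro e
    unfold θD
    rw [RP7.lam_res', RP6.val_res]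
    have h := hcan U.1 U.2 e ⟨y.1, Dκ_le hj U ε y.2⟩
    unfold θ
    rw [h]
    exact (Localization.mk_one_eq_algebraMap _).symm
  have h1 := congrArg (fun t => GrTwist.val ((lam U.1 U.2).app (Dκ hj p chart U ε) t) y) hc
  simp only at h1
  rw [RP7.lam_smul, hval ε'] at h1
  have h2 := GrTwTriv.smul_sec_val (𝒮.deg U.1 U.2)
    (RelProj.emb p chart U.1 U.2 ⁻¹ᵁ Dκ hj p chart U ε)
    (show GrTwist.O (𝒜 := 𝒮.deg U.1 U.2)
        (op (RelProj.emb p chart U.1 U.2 ⁻¹ᵁ Dκ hj p chart U ε)) from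
        (RelProj.emb p chart U.1 U.2).app (Dκ hj p chart U ε) c)
    ((lam U.1 U.2).app (Dκ hj p chart U ε) (θD hj can chart U ε ε)) y
  have h3 := hval ε
  have h4 := h2.symm.trans h1
  apply loc_eq_of_mul _ _ _ _
  rw [← h3]
  exact h4

include hcan in
/-- the coefficient, read on the chart, is the fraction `ε'/ε` -/
theorem emb_appLE_coeff (U : Y.AffineZariskiSite) (ε ε' : Γ(E, U.1)) (c : Γ(P, Dκ hj p chart U ε))
    (hc : c • θD hj can chart U ε ε = θD hj can chart U ε ε')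
    (h : Proj.basicOpen (𝒮.deg U.1 U.2) (jj j U.1 ε) ≤
      RelProj.emb p chart U.1 U.2 ⁻¹ᵁ Dκ hj p chart U ε) :
    ((RelProj.emb p chart U.1 U.2).appLE (Dκ hj p chart U ε)
        (Proj.basicOpen (𝒮.deg U.1 U.2) (jj j U.1 ε)) h).hom c =
      (Proj.awayToSection (𝒮.deg U.1 U.2) (jj j U.1 ε)).hom
        (Away.mk (𝒮.deg U.1 U.2) (jj_mem hj U.1 U.2 ε) 1 (jj j U.1 ε')
          (jj_mem hj U.1 U.2 ε')) := by
  apply O_ext
  intro y
  rw [aTS_val]
  have h1 := coeff_val hj can hcan U ε ε' c hc ⟨y.1, h y.2⟩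
  simp only [pow_one]
  exact h1

include hcan in
/-- the coefficient read in the coordinate ring of the chart -/
theorem κ_appLE_coeff (U : Y.AffineZariskiSite) (ε ε' : Γ(E, U.1)) (c : Γ(P, Dκ hj p chart U ε))
    (hc : c • θD hj can chart U ε ε = θD hj can chart U ε ε')
    (h : (⊤ : (Spec (CommRingCat.of (Away (𝒮.deg U.1 U.2) (jj j U.1 ε)))).Opens) ≤
      κ hj p chart U ε ⁻¹ᵁ Dκ hj p chart U ε) :
    (Scheme.ΓSpecIso (CommRingCat.of (Away (𝒮.deg U.1 U.2) (jj j U.1 ε)))).hom.hom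
        (((κ hj p chart U ε).appLE (Dκ hj p chart U ε) ⊤ h).hom c) =
      Away.mk (𝒮.deg U.1 U.2) (jj_mem hj U.1 U.2 ε) 1 (jj j U.1 ε') (jj_mem hj U.1 U.2 ε') := by
  obtain ⟨h2, hh2⟩ := awayToSection_awayι_appLE (𝒮.deg U.1 U.2) (jj_mem hj U.1 U.2 ε) one_pos
  have h1 : Proj.basicOpen (𝒮.deg U.1 U.2) (jj j U.1 ε) ≤
      RelProj.emb p chart U.1 U.2 ⁻¹ᵁ Dκ hj p chart U ε := by
    rw [preimage_Dκ]
  have e1 := Scheme.Hom.appLE_comp_appLE
    (Proj.awayι (𝒮.deg U.1 U.2) (jj j U.1 ε) (jj_mem hj U.1 U.2 ε) one_pos)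
    (RelProj.emb p chart U.1 U.2) (Dκ hj p chart U ε) _ _ h1 h2
  have e2 : (κ hj p chart U ε).appLE (Dκ hj p chart U ε) ⊤ h =
      (RelProj.emb p chart U.1 U.2).appLE (Dκ hj p chart U ε) _ h1 ≫
        (Proj.awayι (𝒮.deg U.1 U.2) (jj j U.1 ε) (jj_mem hj U.1 U.2 ε) one_pos).appLE _ ⊤ h2 := by
    rw [e1]
    rfl
  rw [e2, CommRingCat.comp_apply, emb_appLE_coeff hj can hcan U ε ε' c hc h1]
  exact congrArg (fun f => f.hom (Away.mk (𝒮.deg U.1 U.2) (jj_mem hj U.1 U.2 ε) 1 (jj j U.1 ε')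
    (jj_mem hj U.1 U.2 ε'))) hh2

section Glued

variable [E.IsQuasicoherent] (B : Y.AffineZariskiSite → Prop) {r : X ⟶ P}
  (hr : IsGlued q u hj B p chart r)

include hr hcan in
/-- **the comorphism of the glued morphism carries the coefficient to the ratio of sections** -/
theorem r_appLE_coeff (U : Y.AffineZariskiSite) (hU : B U) (ε ε' : Γ(E, U.1))
    (c : Γ(P, Dκ hj p chart U ε))
    (hc : c • θD hj can chart U ε ε = θD hj can chart U ε ε') :
    ∃ h : W q u U.1 ε ≤ r ⁻¹ᵁ Dκ hj p chart U ε,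
      (r.appLE (Dκ hj p chart U ε) (W q u U.1 ε) h).hom c = φ q u U.1 ε ε' := by
  have hfac := hr U hU ε _ le_rfl
  rw [ρP_eq] at hfac
  obtain ⟨h, hh⟩ := appLE_of_fac r (W q u U.1 ε) (κ hj p chart U ε) _ hfac
  refine ⟨h, ?_⟩
  have hk := κ_appLE_coeff hj can hcan U ε ε' c hc
    (by rw [Dκ, Scheme.Hom.preimage_opensRange])
  have e : (r.appLE (Dκ hj p chart U ε) (W q u U.1 ε) h).hom c =
      (resR (le_refl (W q u U.1 ε))) (ψ q u hj U.1 U.2 ε
        ((Scheme.ΓSpecIso (CommRingCat.of (Away (𝒮.deg U.1 U.2) (jj j U.1 ε)))).hom.hom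
          (((κ hj p chart U ε).appLE (Dκ hj p chart U ε) ⊤
            (by rw [Dκ, Scheme.Hom.preimage_opensRange])).hom c))) :=
    congrArg (fun f => f.hom c) hh
  rw [e, hk, ψ_mk, F_j]
  exact (show (X.presheaf.map (𝟙 _)).hom _ = _ by simp)

include hr in
theorem W_le_preimage_Dκ (U : Y.AffineZariskiSite) (hU : B U) (ε : Γ(E, U.1)) :
    W q u U.1 ε ≤ r ⁻¹ᵁ Dκ hj p chart U ε := by
  intro x hx
  change r x ∈ (κ hj p chart U ε).opensRange
  rw [hr.apply_eq q u hj B U hU ε x hx]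
  exact ⟨_, rfl⟩

include hr hcan in
theorem r_appLE_coeff' (U : Y.AffineZariskiSite) (hU : B U) (ε ε' : Γ(E, U.1))
    (c : Γ(P, Dκ hj p chart U ε))
    (hc : c • θD hj can chart U ε ε = θD hj can chart U ε ε') :
    resR (W_le_preimage_Dκ q u hj B hr U hU ε) ((r.app (Dκ hj p chart U ε)).hom c) =
      φ q u U.1 ε ε' := by
  obtain ⟨h, hh⟩ := r_appLE_coeff q u hj can hcan B hr U hU ε ε' c hc
  exact hh

/-- the pulled back canonical section on the generating locus -/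
noncomputable def aSec (U : Y.AffineZariskiSite) (hU : B U) (ε : Γ(E, U.1)) :
    Γ((Scheme.Modules.pullback r).obj O1, W q u U.1 ε) :=
  res _ (W_le_preimage_Dκ q u hj B hr U hU ε)
    (PullSec.σ r O1 (Dκ hj p chart U ε) (θD hj can chart U ε ε))

include hO1 hcan in
theorem isGen_aSec (U : Y.AffineZariskiSite) (hU : B U) (ε : Γ(E, U.1)) :
    IsGen ((Scheme.Modules.pullback r).obj O1) (W q u U.1 ε)
      (aSec q u hj can B hr U hU ε) :=
  (PullGen.isGen_σ r (isGen_θ hj hO1 can hcan U ε)).res _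

omit [E.IsQuasicoherent] in
/-- the pulled back section in terms of the section over `p⁻¹ U` -/
theorem aSec_eq (U : Y.AffineZariskiSite) (ε' ε : Γ(E, U.1)) {V : X.Opens}
    (hV : V ≤ r ⁻¹ᵁ Dκ hj p chart U ε') :
    res _ hV (PullSec.σ r O1 (Dκ hj p chart U ε') (θD hj can chart U ε' ε)) =
      res _ (hV.trans (r.preimage_mono (Dκ_le hj U ε')))
        (PullSec.σ r O1 (p ⁻¹ᵁ U.1) (θ can U.1 ε)) := by
  unfold θD
  rw [← PullSec.σ_res, res_res]

include hO1 hcan in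
/-- **Claim A**: the pulled back canonical sections differ by the ratio of the sections of `L` -/
theorem aSec_switch (U : Y.AffineZariskiSite) (hU : B U) (ε ε' : Γ(E, U.1)) :
    res _ (inf_le_right : W q u U.1 ε ⊓ W q u U.1 ε' ≤ W q u U.1 ε')
        (aSec q u hj can B hr U hU ε') =
      resR (inf_le_left : W q u U.1 ε ⊓ W q u U.1 ε' ≤ W q u U.1 ε) (φ q u U.1 ε ε') •
        res _ (inf_le_left : W q u U.1 ε ⊓ W q u U.1 ε' ≤ W q u U.1 ε)
          (aSec q u hj can B hr U hU ε) := by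
  obtain ⟨c, hc⟩ := ((isGen_θ hj hO1 can hcan U ε) _ le_rfl).2 (θD hj can chart U ε ε')
  simp only [res_self] at hc
  have h1 := r_appLE_coeff' q u hj can hcan B hr U hU ε ε' c hc
  have h2 : PullSec.σ r O1 (Dκ hj p chart U ε) (θD hj can chart U ε ε') =
      (r.app (Dκ hj p chart U ε)).hom c •
        PullSec.σ r O1 (Dκ hj p chart U ε) (θD hj can chart U ε ε) := by
    rw [← PullSec.σ_smul, hc]
  have h3 := congrArg (res _ (W_le_preimage_Dκ q u hj B hr U hU ε)) h2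
  rw [res_smul, h1] at h3
  have h4 := congrArg (res _ (inf_le_left : W q u U.1 ε ⊓ W q u U.1 ε' ≤ W q u U.1 ε)) h3
  rw [res_smul, res_res, res_res] at h4
  unfold aSec
  rw [res_res, res_res, ← h4, aSec_eq, aSec_eq]

omit [E.IsQuasicoherent] in
theorem θ_res {U' U : Y.Opens} (h : U' ≤ U) (ε : Γ(E, U)) :
    θ can U' (res E h ε) = res O1 (p.preimage_mono h) (θ can U ε) := by
  unfold θ
  exact QcExt.app_res can h ε

/-- the pulled back canonical sections restrict to one another along restriction on the base -/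
theorem aSec_res {U' U : Y.AffineZariskiSite} (h : U' ≤ U) (hU : B U) (hU' : B U')
    (ε : Γ(E, U.1)) :
    res _ (W_res_le q u (Scheme.AffineZariskiSite.toOpens_mono h) ε)
        (aSec q u hj can B hr U hU ε) =
      aSec q u hj can B hr U' hU' (res E (Scheme.AffineZariskiSite.toOpens_mono h) ε) := by
  unfold aSec
  rw [res_res, aSec_eq, aSec_eq, θ_res can (Scheme.AffineZariskiSite.toOpens_mono h),
    ← PullSec.σ_res, res_res]

/-- the index type of the family of matching generators -/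
structure TI (E : Y.Modules) (B : Y.AffineZariskiSite → Prop) where
  U : Y.AffineZariskiSite
  hB : B U
  ε : Γ(E, U.1)

variable (hBle : ∀ U, B U → ∀ U', U' ≤ U → B U') (hBcov : ∀ y : Y, ∃ U, B U ∧ y ∈ U.1)
  (hgen : ∀ U, B U → ∀ x : X, q x ∈ U.1 → ∃ ε : Γ(E, U.1), x ∈ W q u U.1 ε)

omit [E.IsQuasicoherent] in
/-- the section of `L` attached to `ε` on its generating locus -/
noncomputable def bSec (U : Y.Opens) (ε : Γ(E, U)) : Γ(L, W q u U ε) :=
  res L (W_le q u U ε) (sec q u U ε)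

include hO1 hcan in
/-- compatibility of the two families of generators over a fixed affine open of the base -/
theorem local_compat (D : Y.AffineZariskiSite) (hBD : B D) (ε₁ ε₂ : Γ(E, D.1)) (V : X.Opens)
    (hk1 : V ≤ W q u D.1 ε₁) (hk2 : V ≤ W q u D.1 ε₂) (v : Γ(X, V))
    (hv : res _ hk1 (aSec q u hj can B hr D hBD ε₁) =
      v • res _ hk2 (aSec q u hj can B hr D hBD ε₂)) :
    res L hk1 (bSec q u D.1 ε₁) = v • res L hk2 (bSec q u D.1 ε₂) := by
  have hsw := congrArg (res _ (le_inf hk1 hk2))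
    (aSec_switch q u hj hO1 can hcan B hr D hBD ε₁ ε₂)
  rw [res_smul, res_res, res_res, resR_resR] at hsw
  rw [hsw, ← mul_smul] at hv
  have hone : (1 : Γ(X, V)) = v * resR hk1 (φ q u D.1 ε₁ ε₂) := by
    apply (((isGen_aSec q u hj hO1 can hcan B hr D hBD ε₁).res hk1) V le_rfl).1
    simp only [res_self, one_smul]
    exact hv
  have hratio := ratio_spec_le L (sec q u D.1 ε₁) (sec q u D.1 ε₂) hk1
  unfold bSec
  rw [res_res, res_res]
  have hb2 : res L (hk2.trans (W_le q u D.1 ε₂)) (sec q u D.1 ε₂) =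
      res L (hk1.trans (W_le q u D.1 ε₁)) (sec q u D.1 ε₂) := rfl
  rw [hb2]
  have hratio' : resR hk1 (φ q u D.1 ε₁ ε₂) • res L (hk1.trans (W_le q u D.1 ε₁)) (sec q u D.1 ε₁) =
      res L (hk1.trans (W_le q u D.1 ε₁)) (sec q u D.1 ε₂) := hratio
  rw [← hratio', ← mul_smul, ← hone, one_smul]

omit [E.IsQuasicoherent] in
theorem bSec_res {U' U : Y.Opens} (h : U' ≤ U) (ε : Γ(E, U)) :
    res L (W_res_le q u h ε) (bSec q u U ε) = bSec q u U' (res E h ε) := by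
  unfold bSec
  rw [res_res, ← sec_res q u h, res_res]

include hO1 hcan hBle in
theorem genFam_compat (i i' : TI E B) (v : Γ(X, W q u i.U.1 i.ε ⊓ W q u i'.U.1 i'.ε))
    (hv : res _ (inf_le_left : W q u i.U.1 i.ε ⊓ W q u i'.U.1 i'.ε ≤ W q u i.U.1 i.ε)
        (aSec q u hj can B hr i.U i.hB i.ε) =
      v • res _ (inf_le_right : W q u i.U.1 i.ε ⊓ W q u i'.U.1 i'.ε ≤ W q u i'.U.1 i'.ε)
        (aSec q u hj can B hr i'.U i'.hB i'.ε)) :
    res L (inf_le_left : W q u i.U.1 i.ε ⊓ W q u i'.U.1 i'.ε ≤ W q u i.U.1 i.ε)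
        (bSec q u i.U.1 i.ε) =
      v • res L (inf_le_right : W q u i.U.1 i.ε ⊓ W q u i'.U.1 i'.ε ≤ W q u i'.U.1 i'.ε)
        (bSec q u i'.U.1 i'.ε) := by
  apply TwistSec.eq_of_locally
  intro x hx
  have hq1 : q x ∈ i.U.1 := W_le q u i.U.1 i.ε hx.1
  have hq2 : q x ∈ i'.U.1 := W_le q u i'.U.1 i'.ε hx.2
  obtain ⟨D, hD1, hD2, hqD⟩ := RP5.exists_common_basicOpen i.U.2 i'.U.2 _ ⟨hq1, hq2⟩
  have hle1 := Scheme.AffineZariskiSite.toOpens_mono hD1
  have hle2 := Scheme.AffineZariskiSite.toOpens_mono hD2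
  have hBD : B D := hBle _ i.hB _ hD1
  have hk1 : (W q u i.U.1 i.ε ⊓ W q u i'.U.1 i'.ε) ⊓ q ⁻¹ᵁ D.1 ≤ W q u D.1 (res E hle1 i.ε) := by
    rw [W_res]
    exact le_inf (inf_le_left.trans inf_le_left) inf_le_right
  have hk2 : (W q u i.U.1 i.ε ⊓ W q u i'.U.1 i'.ε) ⊓ q ⁻¹ᵁ D.1 ≤ W q u D.1 (res E hle2 i'.ε) := by
    rw [W_res]
    exact le_inf (inf_le_left.trans inf_le_right) inf_le_right
  refine ⟨(W q u i.U.1 i.ε ⊓ W q u i'.U.1 i'.ε) ⊓ q ⁻¹ᵁ D.1, inf_le_left, ⟨hx, hqD⟩, ?_⟩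
  have h1 := congrArg (res _ (inf_le_left :
    (W q u i.U.1 i.ε ⊓ W q u i'.U.1 i'.ε) ⊓ q ⁻¹ᵁ D.1 ≤ W q u i.U.1 i.ε ⊓ W q u i'.U.1 i'.ε)) hv
  rw [res_smul, res_res, res_res] at h1
  have ea : res ((Scheme.Modules.pullback r).obj O1)
      ((inf_le_left : (W q u i.U.1 i.ε ⊓ W q u i'.U.1 i'.ε) ⊓ q ⁻¹ᵁ D.1 ≤ _).trans inf_le_left)
      (aSec q u hj can B hr i.U i.hB i.ε) =
      res _ hk1 (aSec q u hj can B hr D hBD (res E hle1 i.ε)) := by
    rw [← aSec_res q u hj can B hr hD1 i.hB hBD, res_res]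
    rfl
  have ea' : res ((Scheme.Modules.pullback r).obj O1)
      ((inf_le_left : (W q u i.U.1 i.ε ⊓ W q u i'.U.1 i'.ε) ⊓ q ⁻¹ᵁ D.1 ≤ _).trans inf_le_right)
      (aSec q u hj can B hr i'.U i'.hB i'.ε) =
      res _ hk2 (aSec q u hj can B hr D hBD (res E hle2 i'.ε)) := by
    rw [← aSec_res q u hj can B hr hD2 i'.hB hBD, res_res]
    rfl
  rw [ea, ea'] at h1
  have h2 := local_compat q u hj hO1 can hcan B hr D hBD _ _ _ hk1 hk2 _ h1
  rw [res_smul, res_res, res_res]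
  rw [← bSec_res q u hle1, ← bSec_res q u hle2, res_res, res_res] at h2
  exact h2

/-- the family of matching generators of `r^* O(1)` and `L` -/
noncomputable def genFam : GenFam ((Scheme.Modules.pullback r).obj O1) L where
  ι := TI E B
  W i := W q u i.U.1 i.ε
  a i := aSec q u hj can B hr i.U i.hB i.ε
  b i := bSec q u i.U.1 i.ε
  ha i := isGen_aSec q u hj hO1 can hcan B hr i.U i.hB i.ε
  hb i := isGen_gl L _
  cov x := by
    obtain ⟨U, hU, hxU⟩ := hBcov (q x)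
    obtain ⟨ε, hε⟩ := hgen U hU x hxU
    exact ⟨⟨U, hU, ε⟩, hε⟩
  compat := genFam_compat q u hj hO1 can hcan B hr hBle

include hO1 hcan hBle hBcov hgen in
/-- **the pullback of the fundamental sheaf along the glued morphism is `L`** -/
theorem exists_τ :
    ∃ τ : (Scheme.Modules.pullback r).obj O1 ≅ L, ∀ (U : Y.AffineZariskiSite) (hU : B U)
      (ε : Γ(E, U.1)), τ.hom.app (W q u U.1 ε) (aSec q u hj can B hr U hU ε) = bSec q u U.1 ε :=
  ⟨(genFam q u hj hO1 can hcan B hr hBle hBcov hgen).iso, fun U hU ε =>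
    (genFam q u hj hO1 can hcan B hr hBle hBcov hgen).iso_hom_a ⟨U, hU, ε⟩⟩

end Glued

end Groth.Agent.Helper1.VT
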