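import Mathlib
import Groth.Agent.Lib.Helper1.VT8
import Groth.Agent.Lib.Helper1.SymFacts
import Groth.Agent.Lib.Helper1.RP3

/-!
# Generation of the fundamental sheaf by the canonical sections (helper1 library, very ample
theory 10)
-/

set_option autoImplicit false
universe u
open CategoryTheory CategoryTheory.Limits AlgebraicGeometry TopologicalSpace Opposite
  HomogeneousLocalization
open scoped HomogeneousIdeal

namespace Groth.Agent.Helper1.VT

open Groth.Agent.Helper1.QcCech Groth.Agent.Helper1.LGen Groth.Agent.Helper1.CocycleIso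
open Groth.Agent.Helper1 Groth.Agent.Helper1.GP1 Groth.Agent.Helper1.GP2 Groth.Agent.Helper1.GP3

variable {X Y P : Scheme.{u}} {E : Y.Modules}
  {𝒮 : RelProj.QCGrAlg Y} {j : E ⟶ 𝒮.toModule} (hj : RelProj.IsGrSymAlg E 𝒮 j)
  {p : P ⟶ Y}
  {chart : ∀ (U : Y.Opens) (hU : IsAffineOpen U), ((p ⁻¹ᵁ U : P.Opens) : Scheme.{u}) ≅ Proj (𝒮.deg U hU)}
  (hP : RelProj.IsRelProj 𝒮 p chart)
  {O1 : P.Modules}
  {lam : ∀ (U : Y.Opens) (hU : IsAffineOpen U),
    O1 ⟶ (Scheme.Modules.pushforward (RelProj.emb p chart U hU)).obj (GrTwist.twist (𝒮.deg U hU) 1)}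
  (hO1 : RelProj.IsRelTwist 𝒮 p chart 1 O1 lam)
  (can : E ⟶ (Scheme.Modules.pushforward p).obj O1)
  (hcan : ∀ (U : Y.Opens) (hU : IsAffineOpen U) (e : Γ(E, U))
      (y : ↥(RelProj.emb p chart U hU ⁻¹ᵁ (p ⁻¹ᵁ U))),
      GrTwist.val (V := RelProj.emb p chart U hU ⁻¹ᵁ (p ⁻¹ᵁ U))
          ((lam U hU).app (p ⁻¹ᵁ U) ((can.app U) e)) y =
        algebraMap (𝒮.presheaf.obj (op U)) (GrTwist.Loc (𝒮.deg U hU) y.1)
          ((j.app U) e : 𝒮.presheaf.obj (op U)))

include hj in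
/-- the charts `D₊(ε)` cover the part of the bundle over an affine open -/
theorem exists_mem_Dκ [E.IsQuasicoherent] (U : Y.AffineZariskiSite) (y : P) (hy : y ∈ p ⁻¹ᵁ U.1) :
    ∃ ε : Γ(E, U.1), y ∈ Dκ hj p chart U ε := by
  have hy' : y ∈ (RelProj.emb p chart U.1 U.2).opensRange := by
    rw [ProjBC.opensRange_emb]; exact hy
  obtain ⟨z, rfl⟩ := hy'
  obtain ⟨g, hg, hgz⟩ := RP3.exists_deg_one_notMem (𝒮.deg U.1 U.2)
    (SymAlg.isGenDegOne_of_isGrSymAlg hj U.1 U.2) z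
  obtain ⟨ε, rfl⟩ := SymAlg.exists_eq_j_of_mem_deg_one hj U.1 U.2 g hg
  exact ⟨ε, (emb_mem_Dκ_iff hj U ε z).2 hgz⟩

section Eval

variable {A σ : Type u} [CommRing A] [SetLike σ A] [AddSubgroupClass σ A] (𝒜 : ℕ → σ) [GradedRing 𝒜]

/-- evaluation of a section of the structure sheaf of `Proj` at a point, in the localization -/
noncomputable def evalLoc (V : (Proj 𝒜).Opens) (z : V) : Γ(Proj 𝒜, V) →+* GrTwist.Loc 𝒜 z.1 where
  toFun s := ((show GrTwist.O (𝒜 := 𝒜) (op V) from s).1 z).val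
  map_one' := HomogeneousLocalization.val_one
  map_mul' _ _ := HomogeneousLocalization.val_mul _ _
  map_zero' := HomogeneousLocalization.val_zero
  map_add' _ _ := HomogeneousLocalization.val_add _ _

end Eval

include hcan in
/-- the non-vanishing locus of the coefficient `ε/ε'` lies in the chart `D₊(ε)` -/
theorem basicOpen_coeff_le (U : Y.AffineZariskiSite) (ε' ε : Γ(E, U.1))
    (c : Γ(P, Dκ hj p chart U ε'))
    (hc : c • θD hj can chart U ε' ε' = θD hj can chart U ε' ε) :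
    P.basicOpen c ≤ Dκ hj p chart U ε := by
  intro y hy
  have hy1 : y ∈ Dκ hj p chart U ε' := P.basicOpen_le c hy
  have hy2 : y ∈ (RelProj.emb p chart U.1 U.2).opensRange := by
    rw [ProjBC.opensRange_emb]; exact Dκ_le hj U ε' hy1
  obtain ⟨z, rfl⟩ := hy2
  apply (emb_mem_Dκ_iff hj U ε z).2
  have hu : IsUnit (resR (P.basicOpen_le c) c) := P.toRingedSpace.isUnit_res_basicOpen c
  have hz : z ∈ RelProj.emb p chart U.1 U.2 ⁻¹ᵁ P.basicOpen c := hy
  have hu2 := (hu.map ((RelProj.emb p chart U.1 U.2).app (P.basicOpen c)).hom).map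
    (evalLoc (𝒮.deg U.1 U.2) _ ⟨z, hz⟩)
  have hval := coeff_val hj can hcan U ε' ε c hc ⟨z, hy1⟩
  have e : evalLoc (𝒮.deg U.1 U.2) _ ⟨z, hz⟩
      (((RelProj.emb p chart U.1 U.2).app (P.basicOpen c)).hom (resR (P.basicOpen_le c) c)) =
      Localization.mk (jj j U.1 ε)
        ⟨jj j U.1 ε', (emb_mem_Dκ_iff (p := p) (chart := chart) hj U ε' z).1 hy1⟩ := by
    rw [← hval]
    have hn := (RelProj.emb p chart U.1 U.2).naturality (homOfLE (P.basicOpen_le c)).op
    have hn2 := congrArg (fun f => f.hom c) hn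
    simp only [CommRingCat.comp_apply] at hn2
    change ((show GrTwist.O (𝒜 := 𝒮.deg U.1 U.2) _ from
      ((RelProj.emb p chart U.1 U.2).app (P.basicOpen c)).hom
        ((P.presheaf.map (homOfLE (P.basicOpen_le c)).op).hom c)).1 ⟨z, hz⟩).val = _
    rw [hn2]
    rfl
  rw [e, Localization.mk_eq_mk', IsLocalization.AtPrime.isUnit_mk'_iff] at hu2
  exact hu2

section Pull

variable (i : X ⟶ P)

/-- the pulled back canonical section over `i⁻¹ p⁻¹ U` -/
noncomputable def mSec (U : Y.Opens) (ε : Γ(E, U)) :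
    Γ((Scheme.Modules.pullback i).obj O1, i ⁻¹ᵁ p ⁻¹ᵁ U) :=
  PullSec.σ i O1 (p ⁻¹ᵁ U) (θ can U ε)

theorem mSec_res (U : Y.AffineZariskiSite) (ε' ε : Γ(E, U.1)) :
    res _ (i.preimage_mono (Dκ_le hj U ε')) (mSec can i U.1 ε) =
      PullSec.σ i O1 (Dκ hj p chart U ε') (θD hj can chart U ε' ε) := by
  unfold mSec θD
  rw [PullSec.σ_res]

include hO1 hcan in
theorem preimage_Dκ_le_gl (U : Y.AffineZariskiSite) (ε : Γ(E, U.1)) :
    i ⁻¹ᵁ Dκ hj p chart U ε ≤ gl ((Scheme.Modules.pullback i).obj O1) (mSec can i U.1 ε) := by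
  apply le_gl _ _ (i.preimage_mono (Dκ_le hj U ε))
  rw [mSec_res]
  exact PullGen.isGen_σ i (isGen_θ hj hO1 can hcan U ε)

include hO1 hcan in
/-- **the generating locus of a pulled back canonical section is the preimage of the chart** -/
theorem gl_mSec [E.IsQuasicoherent] (U : Y.AffineZariskiSite) (ε : Γ(E, U.1)) :
    gl ((Scheme.Modules.pullback i).obj O1) (mSec can i U.1 ε) = i ⁻¹ᵁ Dκ hj p chart U ε := by
  apply le_antisymm _ (preimage_Dκ_le_gl hj hO1 can hcan i U ε)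
  intro x hx
  have hx0' : x ∈ i ⁻¹ᵁ p ⁻¹ᵁ U.1 := gl_le _ _ hx
  have hx0 : i x ∈ p ⁻¹ᵁ U.1 := hx0'
  obtain ⟨ε', hε'⟩ := exists_mem_Dκ hj U (i x) hx0
  have hx' : x ∈ i ⁻¹ᵁ Dκ hj p chart U ε' := hε'
  have hx1 := preimage_Dκ_le_gl hj hO1 can hcan i U ε' hx'
  obtain ⟨c, hc⟩ := ((isGen_θ hj hO1 can hcan U ε') _ le_rfl).2 (θD hj can chart U ε' ε)
  simp only [res_self] at hc
  have hx2 : x ∈ X.basicOpen (ratio _ (mSec can i U.1 ε') (mSec can i U.1 ε)) := by
    rw [← gl_inf_gl]; exact ⟨hx1, hx⟩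
  have hr : resR (preimage_Dκ_le_gl hj hO1 can hcan i U ε')
      (ratio _ (mSec can i U.1 ε') (mSec can i U.1 ε)) = (i.app (Dκ hj p chart U ε')).hom c := by
    apply ratio_eq_le
    have h1 : res ((Scheme.Modules.pullback i).obj O1)
        ((preimage_Dκ_le_gl hj hO1 can hcan i U ε').trans (gl_le _ _)) (mSec can i U.1 ε') =
        PullSec.σ i O1 (Dκ hj p chart U ε') (θD hj can chart U ε' ε') := mSec_res hj can i U ε' ε'
    have h2 : res ((Scheme.Modules.pullback i).obj O1)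
        ((preimage_Dκ_le_gl hj hO1 can hcan i U ε').trans (gl_le _ _)) (mSec can i U.1 ε) =
        PullSec.σ i O1 (Dκ hj p chart U ε') (θD hj can chart U ε' ε) := mSec_res hj can i U ε' ε
    rw [h1, h2, ← hc, PullSec.σ_smul]
  have hx3 : x ∈ X.basicOpen ((i.app (Dκ hj p chart U ε')).hom c) := by
    rw [← hr]
    have := X.basicOpen_res (ratio _ (mSec can i U.1 ε') (mSec can i U.1 ε))
      (homOfLE (preimage_Dκ_le_gl hj hO1 can hcan i U ε')).op
    change x ∈ X.basicOpen ((X.presheaf.map (homOfLE _).op).hom _)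
    rw [this]
    exact ⟨hx', hx2⟩
  rw [← Scheme.preimage_basicOpen] at hx3
  exact basicOpen_coeff_le hj can hcan U ε' ε c hc hx3

end Pull

end Groth.Agent.Helper1.VT
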