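import Mathlib
import Groth.Agent.Lib.Helper1.VT10
import Groth.Agent.Lib.Helper1.SymForced
import Groth.Agent.Lib.Helper1.PullGen2

/-!
# Uniqueness of the morphism to the projective bundle (helper1 library, very ample theory 11)
-/

set_option autoImplicit false
universe u
open CategoryTheory CategoryTheory.Limits AlgebraicGeometry TopologicalSpace Opposite
  HomogeneousLocalization
open scoped HomogeneousIdeal

namespace Groth.Agent.Helper1.VT

open Groth.Agent.Helper1.QcCech Groth.Agent.Helper1.LGen Groth.Agent.Helper1.CocycleIso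
open Groth.Agent.Helper1 Groth.Agent.Helper1.GP1 Groth.Agent.Helper1.GP2 Groth.Agent.Helper1.GP3

section Ind

variable {Y : Scheme.{u}} {E : Y.Modules} [E.IsQuasicoherent]
  {𝒮 : RelProj.QCGrAlg Y} {j : E ⟶ 𝒮.toModule} (hj : RelProj.IsGrSymAlg E 𝒮 j)

include hj in
/-- induction on the homogeneous elements of a graded symmetric algebra -/
theorem homog_induction (U : Y.Opens) (hU : IsAffineOpen U)
    (C : ℕ → 𝒮.presheaf.obj (op U) → Prop)
    (h0 : ∀ r : Γ(Y, U), C 0 ((𝒮.str.app (op U)).hom r))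
    (hadd : ∀ n x y, x ∈ 𝒮.deg U hU n → y ∈ 𝒮.deg U hU n → C n x → C n y → C n (x + y))
    (hmul : ∀ n (e : Γ(E, U)) x, x ∈ 𝒮.deg U hU n → C n x → C (n + 1) (jj j U e * x))
    (n : ℕ) (x : 𝒮.presheaf.obj (op U)) (hx : x ∈ 𝒮.deg U hU n) : C n x := by
  obtain ⟨c, hc1, hc2, hle, hge⟩ := SymAlg.exists_gradedEquiv E hj U hU
  obtain ⟨x', hx', rfl⟩ := hge n x hx
  clear hx
  induction hx' using Submodule.pow_induction_on_left' with
  | algebraMap r => rw [hc1]; exact h0 r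
  | add x y i hx hy ihx ihy => rw [map_add]; exact hadd i _ _ (hle i x hx) (hle i y hy) ihx ihy
  | mem_mul m hm i x hx ih =>
    obtain ⟨e, rfl⟩ := hm
    rw [map_mul, hc2]
    exact hmul i e (c x) (hle i x hx) ih

theorem away_mk_zero {A σ : Type u} [CommRing A] [SetLike σ A] [AddSubgroupClass σ A]
    (𝒜 : ℕ → σ) [GradedRing 𝒜] {t : A} {d : ℕ} (hd : t ∈ 𝒜 d) (x : A) (hx : x ∈ 𝒜 (0 • d))
    (hx0 : x ∈ 𝒜 0) :
    Away.mk 𝒜 hd 0 x hx = fromZeroRingHom 𝒜 _ ⟨x, hx0⟩ := by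
  apply HomogeneousLocalization.val_injective
  rw [Away.val_mk]
  simp only [fromZeroRingHom, RingHom.coe_mk, MonoidHom.coe_mk, OneHom.coe_mk, val_mk, pow_zero]
  rfl

theorem away_mk_mul {A σ : Type u} [CommRing A] [SetLike σ A] [AddSubgroupClass σ A]
    (𝒜 : ℕ → σ) [GradedRing 𝒜] {t : A} {d : ℕ} (hd : t ∈ 𝒜 d) (n m : ℕ) (x y : A)
    (hx : x ∈ 𝒜 (n • d)) (hy : y ∈ 𝒜 (m • d)) (hxy : x * y ∈ 𝒜 ((n + m) • d)) :
    Away.mk 𝒜 hd (n + m) (x * y) hxy = Away.mk 𝒜 hd n x hx * Away.mk 𝒜 hd m y hy := by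
  apply HomogeneousLocalization.val_injective
  rw [HomogeneousLocalization.val_mul, Away.val_mk, Away.val_mk, Away.val_mk, Localization.mk_mul]
  congr 1
  exact Subtype.ext (pow_add t n m)

theorem away_mk_add {A σ : Type u} [CommRing A] [SetLike σ A] [AddSubgroupClass σ A]
    (𝒜 : ℕ → σ) [GradedRing 𝒜] {t : A} {d : ℕ} (hd : t ∈ 𝒜 d) (n : ℕ) (x y : A)
    (hx : x ∈ 𝒜 (n • d)) (hy : y ∈ 𝒜 (n • d)) (hxy : x + y ∈ 𝒜 (n • d)) :
    Away.mk 𝒜 hd n (x + y) hxy = Away.mk 𝒜 hd n x hx + Away.mk 𝒜 hd n y hy := by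
  apply HomogeneousLocalization.val_injective
  rw [HomogeneousLocalization.val_add, Away.val_mk, Away.val_mk, Away.val_mk,
    ← Localization.add_mk_self]

include hj in
/-- ring homomorphisms out of the coordinate ring of a chart are determined by the base
functions and the fractions `ε'/ε` -/
theorem away_hom_ext (U : Y.Opens) (hU : IsAffineOpen U) (ε : Γ(E, U)) {B : Type u} [CommRing B]
    (G G' : Away (𝒮.deg U hU) (jj j U ε) →+* B)
    (h0 : ∀ r : Γ(Y, U), G (fromZeroRingHom (𝒮.deg U hU) _ ((𝒮.strZero U hU).hom r)) =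
      G' (fromZeroRingHom (𝒮.deg U hU) _ ((𝒮.strZero U hU).hom r)))
    (h1 : ∀ ε' : Γ(E, U),
      G (Away.mk (𝒮.deg U hU) (jj_mem hj U hU ε) 1 (jj j U ε') (jj_mem hj U hU ε')) =
      G' (Away.mk (𝒮.deg U hU) (jj_mem hj U hU ε) 1 (jj j U ε') (jj_mem hj U hU ε'))) :
    G = G' := by
  apply awayLift_ext (𝒮.deg U hU) (jj_mem hj U hU ε)
  intro n x hx
  have hx' : x ∈ 𝒮.deg U hU n := by simpa using hx
  revert hx
  refine homog_induction hj U hU
    (fun n x => ∀ hx : x ∈ 𝒮.deg U hU (n • 1),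
      G (Away.mk (𝒮.deg U hU) (jj_mem hj U hU ε) n x hx) =
      G' (Away.mk (𝒮.deg U hU) (jj_mem hj U hU ε) n x hx)) ?_ ?_ ?_ n x hx'
  · intro r hx
    rw [away_mk_zero (𝒮.deg U hU) (jj_mem hj U hU ε) _ hx (𝒮.str_mem U hU r)]
    exact h0 r
  · intro n x y hxm hym hx hy hxy
    have hxm' : x ∈ 𝒮.deg U hU (n • 1) := by simpa using hxm
    have hym' : y ∈ 𝒮.deg U hU (n • 1) := by simpa using hym
    rw [away_mk_add (𝒮.deg U hU) (jj_mem hj U hU ε) n x y hxm' hym' hxy, map_add, map_add,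
      hx hxm', hy hym']
  · intro n e x hxn ih hx
    have hxn' : x ∈ 𝒮.deg U hU (n • 1) := by simpa using hxn
    have e1 : (1 + n) • 1 = (n + 1) • 1 := by ring
    have h2 := away_mk_mul (𝒮.deg U hU) (jj_mem hj U hU ε) 1 n (jj j U e) x
      (jj_mem hj U hU e) hxn' (by rw [e1]; exact hx)
    have h3 : Away.mk (𝒮.deg U hU) (jj_mem hj U hU ε) (n + 1) (jj j U e * x) hx =
        Away.mk (𝒮.deg U hU) (jj_mem hj U hU ε) (1 + n) (jj j U e * x) (by rw [e1]; exact hx) := by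
      apply HomogeneousLocalization.val_injective
      rw [Away.val_mk, Away.val_mk]
      congr 1
      exact Subtype.ext (by rw [add_comm])
    rw [h3, h2, map_mul, map_mul, h1 e, ih hxn']

end Ind

section General

variable {X : Scheme.{u}}

/-- the generating locus is invariant under isomorphisms -/
theorem gl_iso {M N : X.Modules} (e : M ≅ N) {W : X.Opens} (m : Γ(M, W)) :
    gl N (e.hom.app W m) = gl M m := by
  apply le_antisymm
  · apply sSup_le
    rintro V ⟨hV, hg⟩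
    apply le_gl M m hV
    have h1 := PullGen.isGen_of_iso_app e.symm hg
    rw [← QcExt.app_res] at h1
    have h2 : e.symm.hom.app V (e.hom.app V (res M hV m)) = res M hV m :=
      PullGen.iso_inv_hom_app e V _
    rwa [h2] at h1
  · apply sSup_le
    rintro V ⟨hV, hg⟩
    apply le_gl N _ hV
    have h1 := PullGen.isGen_of_iso_app e hg
    rwa [QcExt.app_res] at h1

/-- a morphism landing in an affine chart factors through the spectrum of the sections -/
theorem exists_fac {P : Scheme.{u}} (i : X ⟶ P) (O : X.Opens) {R : CommRingCat.{u}}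
    (κ : Spec R ⟶ P) [IsOpenImmersion κ] (h : O ≤ i ⁻¹ᵁ κ.opensRange) :
    ∃ θ : R ⟶ Γ(X, O), O.ι ≫ i = O.toSpecΓ ≫ Spec.map θ ≫ κ := by
  have hr : Set.range (O.ι ≫ i).base ⊆ Set.range κ.base := by
    rintro _ ⟨x, rfl⟩
    exact h x.2
  let g : (↑O : Scheme.{u}) ⟶ Spec R := IsOpenImmersion.lift κ (O.ι ≫ i) hr
  have hg : g ≫ κ = O.ι ≫ i := IsOpenImmersion.lift_fac _ _ _
  refine ⟨(Scheme.ΓSpecIso R).inv ≫ g.appTop ≫ O.topIso.hom, ?_⟩
  rw [← hg, ← Category.assoc, ← Category.assoc]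
  congr 1
  unfold Scheme.Opens.toSpecΓ
  rw [Spec.map_comp, Spec.map_comp, Category.assoc, ← Spec.map_comp_assoc O.topIso.hom,
    Iso.hom_inv_id]
  simp only [Spec.map_id, Category.id_comp]
  rw [← Scheme.toSpecΓ_naturality_assoc, ← SpecMap_ΓSpecIso_hom, ← Spec.map_comp,
    Iso.inv_hom_id, Spec.map_id, Category.comp_id]

/-- a morphism restricted to an open lying over an affine open, through global sections -/
theorem toSpecΓ_app_fromSpec {Y : Scheme.{u}} (q : X ⟶ Y) {U : Y.Opens} (hU : IsAffineOpen U)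
    (O : X.Opens) (hO : O ≤ q ⁻¹ᵁ U) :
    O.toSpecΓ ≫ Spec.map (q.app U ≫ X.presheaf.map (homOfLE hO).op) ≫ hU.fromSpec = O.ι ≫ q := by
  rw [Spec.map_comp_assoc, Scheme.Opens.toSpecΓ_SpecMap_presheaf_map_assoc,
    Scheme.Opens.toSpecΓ_naturality_assoc, hU.toSpecΓ_fromSpec, morphismRestrict_ι,
    ← Category.assoc, Scheme.homOfLE_ι]

end General

section Uniq

variable {X Y P : Scheme.{u}} {L : X.Modules} {E : Y.Modules}
  {𝒮 : RelProj.QCGrAlg Y} {j : E ⟶ 𝒮.toModule} (hj : RelProj.IsGrSymAlg E 𝒮 j)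
  [E.IsQuasicoherent] {p : P ⟶ Y}
  {chart : ∀ (U : Y.Opens) (hU : IsAffineOpen U), ((p ⁻¹ᵁ U : P.Opens) : Scheme.{u}) ≅ Proj (𝒮.deg U hU)}
  (hP : RelProj.IsRelProj 𝒮 p chart)
  {O1 : P.Modules}
  {lam : ∀ (U : Y.Opens) (hU : IsAffineOpen U),
    O1 ⟶ (Scheme.Modules.pushforward (RelProj.emb p chart U hU)).obj (GrTwist.twist (𝒮.deg U hU) 1)}
  (hO1 : RelProj.IsRelTwist 𝒮 p chart 1 O1 lam)
  (can : E ⟶ (Scheme.Modules.pushforward p).obj O1)
  (hcan : ∀ (U : Y.Opens) (hU : IsAffineOpen U) (e : Γ(E, U))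
      (y : ↥(RelProj.emb p chart U hU ⁻¹ᵁ (p ⁻¹ᵁ U))),
      GrTwist.val (V := RelProj.emb p chart U hU ⁻¹ᵁ (p ⁻¹ᵁ U))
          ((lam U hU).app (p ⁻¹ᵁ U) ((can.app U) e)) y =
        algebraMap (𝒮.presheaf.obj (op U)) (GrTwist.Loc (𝒮.deg U hU) y.1)
          ((j.app U) e : 𝒮.presheaf.obj (op U)))

include hP in
/-- a factorization through a chart is compatible with the functions of the base -/
theorem fac_fromZero (i : X ⟶ P) (U : Y.AffineZariskiSite) (ε : Γ(E, U.1)) (O : X.Opens)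
    (hO : O ≤ (i ≫ p) ⁻¹ᵁ U.1)
    (θ : CommRingCat.of (Away (𝒮.deg U.1 U.2) (jj j U.1 ε)) ⟶ Γ(X, O))
    (hfac : O.ι ≫ i = O.toSpecΓ ≫ Spec.map θ ≫ κ hj p chart U ε) (r : Γ(Y, U.1)) :
    θ.hom (fromZeroRingHom (𝒮.deg U.1 U.2) _ ((𝒮.strZero U.1 U.2).hom r)) =
      resR hO (((i ≫ p).app U.1).hom r) := by
  have h1 : O.ι ≫ (i ≫ p) = O.toSpecΓ ≫ Spec.map (𝒮.strZero U.1 U.2 ≫
      CommRingCat.ofHom (fromZeroRingHom (𝒮.deg U.1 U.2) _) ≫ θ) ≫ U.2.fromSpec := by
    rw [← Category.assoc, hfac]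
    unfold κ
    simp only [Category.assoc]
    rw [PhiMap.emb_comp hP]
    unfold RP1.chartStr
    rw [Proj.awayι_toSpecZero_assoc, Spec.map_comp, Spec.map_comp]
    simp only [Category.assoc]
  rw [← toSpecΓ_app_fromSpec (i ≫ p) U.2 O hO] at h1
  rw [← Category.assoc, ← Category.assoc O.toSpecΓ] at h1
  have h2 := (cancel_mono U.2.fromSpec).1 h1
  have h3 := toSpecΓ_SpecMap_injective O _ _ h2
  exact (congrArg (fun f => f.hom r) h3).symm

include hP hO1 hcan in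
/-- **uniqueness**: a morphism to the bundle over the base whose pullback of the fundamental sheaf is
identified with `L` compatibly with the sections coming from `E` is glued from the local
morphisms -/
theorem isGlued_of_iso (i : X ⟶ P) (u : E ⟶ (Scheme.Modules.pushforward (i ≫ p)).obj L)
    (τ : (Scheme.Modules.pullback i).obj O1 ≅ L) (B : Y.AffineZariskiSite → Prop)
    (hτ : ∀ (U : Y.AffineZariskiSite) (_ : B U) (ε : Γ(E, U.1)),
      τ.hom.app (i ⁻¹ᵁ p ⁻¹ᵁ U.1) (mSec can i U.1 ε) = sec (i ≫ p) u U.1 ε) :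
    IsGlued (i ≫ p) u hj B p chart i := by
  intro U hU ε V hV
  have hW : W (i ≫ p) u U.1 ε = i ⁻¹ᵁ Dκ hj p chart U ε := by
    have h1 : gl L (τ.hom.app (i ⁻¹ᵁ p ⁻¹ᵁ U.1) (mSec can i U.1 ε)) =
        i ⁻¹ᵁ Dκ hj p chart U ε := (gl_iso τ _).trans (gl_mSec hj hO1 can hcan i U ε)
    unfold W
    rw [← hτ U hU ε]
    exact h1
  have hWle : W (i ≫ p) u U.1 ε ≤ i ⁻¹ᵁ (κ hj p chart U ε).opensRange := by
    rw [hW]; exact le_rfl
  obtain ⟨θ', hfac⟩ := exists_fac i (W (i ≫ p) u U.1 ε) (κ hj p chart U ε) hWle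
  obtain ⟨h, hh⟩ := appLE_of_fac i (W (i ≫ p) u U.1 ε) (κ hj p chart U ε) θ' hfac
  have hθ : θ'.hom = ψ (i ≫ p) u hj U.1 U.2 ε := by
    apply away_hom_ext hj U.1 U.2 ε
    · intro r
      rw [fac_fromZero hj hP i U ε _ (W_le (i ≫ p) u U.1 ε) θ' hfac r]
      have := congrArg (fun f => f.hom r) (ψ_fromZero (i ≫ p) u hj U.1 U.2 ε)
      exact this.symm
    · intro ε'
      rw [ψ_mk, F_j]
      obtain ⟨c, hc⟩ := ((isGen_θ hj hO1 can hcan U ε) _ le_rfl).2 (θD hj can chart U ε ε')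
      simp only [res_self] at hc
      have hk := κ_appLE_coeff hj can hcan U ε ε' c hc
        (by rw [Dκ, Scheme.Hom.preimage_opensRange])
      rw [← hk]
      have e1 : (i.appLE (κ hj p chart U ε).opensRange (W (i ≫ p) u U.1 ε) h).hom c =
          θ'.hom ((Scheme.ΓSpecIso _).hom.hom (((κ hj p chart U ε).appLE
            (Dκ hj p chart U ε) ⊤ (by rw [Dκ, Scheme.Hom.preimage_opensRange])).hom c)) :=
        congrArg (fun f => f.hom c) hh
      rw [← e1]
      symm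
      apply ratio_eq
      have hWle' : W (i ≫ p) u U.1 ε ≤ i ⁻¹ᵁ Dκ hj p chart U ε := hWle
      have key : ∀ e : Γ(E, U.1), res L (gl_le L (sec (i ≫ p) u U.1 ε)) (sec (i ≫ p) u U.1 e) =
          τ.hom.app (W (i ≫ p) u U.1 ε) (res _ hWle'
            (PullSec.σ i O1 (Dκ hj p chart U ε) (θD hj can chart U ε e))) := by
        intro e
        rw [← hτ U hU e, ← mSec_res hj can i U ε e, res_res, QcExt.app_res]
        rfl
      rw [key ε, key ε', ← hc, PullSec.σ_smul, res_smul, Scheme.Modules.Hom.app_smul]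
      rfl
  rw [← ρP_homOfLE (i ≫ p) u hj U ε le_rfl hV, ρP_eq, ← hθ, ← X.homOfLE_ι hV, Category.assoc, hfac]
  congr 3
  have h3 : resR (le_refl (W (i ≫ p) u U.1 ε)) = RingHom.id _ := by
    ext y
    exact (show (X.presheaf.map (𝟙 _)).hom y = y by simp)
  rw [h3, RingHom.id_comp]
  rfl

end Uniq

end Groth.Agent.Helper1.VT
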