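import Mathlib
import Groth.Agent.Lib.Helper1.VT11

/-!
# The criterion holds for very ample modules (helper1 library, very ample theory 12)
-/

set_option autoImplicit false
universe u
open CategoryTheory CategoryTheory.Limits AlgebraicGeometry TopologicalSpace Opposite
  HomogeneousLocalization
open scoped HomogeneousIdeal

namespace Groth.Agent.Helper1.VT

open Groth.Agent.Helper1.QcCech Groth.Agent.Helper1.LGen Groth.Agent.Helper1.CocycleIso
open Groth.Agent.Helper1 Groth.Agent.Helper1.GP1 Groth.Agent.Helper1.GP2 Groth.Agent.Helper1.GP3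

/-- an immersion restricted over an affine open inside the coborder of its range has affine source
and is surjective on functions -/
theorem affine_surj_of_le_coborder {X P : Scheme.{u}} (i : X ⟶ P) [IsImmersion i] (D : P.Opens)
    (hD : IsAffineOpen D) (hle : D ≤ i.coborderRange) :
    IsAffineOpen (i ⁻¹ᵁ D) ∧ Function.Surjective (i.app D) := by
  set C := i.coborderRange with hC
  set D' : C.toScheme.Opens := C.ι ⁻¹ᵁ D with hD'
  have h1 : C.ι ''ᵁ D' = D := by
    rw [hD', Scheme.Hom.image_preimage_eq_opensRange_inf, Scheme.Opens.opensRange_ι]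
    exact inf_eq_right.2 hle
  have hD'a : IsAffineOpen D' := by
    rw [← C.ι.isAffineOpen_iff_of_isOpenImmersion, h1]; exact hD
  have h2 : i.liftCoborder ⁻¹ᵁ D' = i ⁻¹ᵁ D := by
    rw [Scheme.Hom.liftCoborder_preimage, h1]
  have h3 : IsAffineOpen (i.liftCoborder ⁻¹ᵁ D') := hD'a.preimage i.liftCoborder
  refine ⟨h2 ▸ h3, ?_⟩
  have h4 := i.liftCoborder.app_surjective D' hD'a
  rw [liftCoborder_app] at h4
  have h5 : ∀ (D₁ : P.Opens) (O : X.Opens) (e : O = i ⁻¹ᵁ D₁),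
      Function.Surjective (i.app D₁ ≫ X.presheaf.map (eqToHom e).op) → D₁ = D →
      Function.Surjective (i.app D) := by
    intro D₁ O e hs hD1
    subst hD1
    subst e
    simpa using hs
  exact h5 _ _ _ h4 h1

/-- surjectivity of the comorphism transported along equalities of opens -/
theorem appLE_surjective_of_eq {X P : Scheme.{u}} (r : X ⟶ P) (D : P.Opens)
    (hs : Function.Surjective (r.app D)) (D₁ : P.Opens) (e : D₁ = D) (O₁ : X.Opens)
    (eO : r ⁻¹ᵁ D = O₁) (h : O₁ ≤ r ⁻¹ᵁ D₁) : Function.Surjective (r.appLE D₁ O₁ h) := by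
  subst e
  subst eO
  simpa [Scheme.Hom.appLE] using hs

section Crit

variable {X Y P : Scheme.{u}} (q : X ⟶ Y) {L : X.Modules} {E : Y.Modules}
  (u : E ⟶ (Scheme.Modules.pushforward q).obj L)
  {𝒮 : RelProj.QCGrAlg Y} {j : E ⟶ 𝒮.toModule} (hj : RelProj.IsGrSymAlg E 𝒮 j)
  [E.IsQuasicoherent] {p : P ⟶ Y}
  {chart : ∀ (U : Y.Opens) (hU : IsAffineOpen U), ((p ⁻¹ᵁ U : P.Opens) : Scheme.{u}) ≅ Proj (𝒮.deg U hU)}
  (hP : RelProj.IsRelProj 𝒮 p chart) (B : Y.AffineZariskiSite → Prop)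
  (hBcov : ∀ y : Y, ∃ U, B U ∧ y ∈ U.1)
  (hgen : ∀ U, B U → ∀ x : X, q x ∈ U.1 → ∃ ε : Γ(E, U.1), x ∈ W q u U.1 ε)
  {r : X ⟶ P} (hr : IsGlued q u hj B p chart r)

include hP hBcov hgen hr in
/-- **the immersion criterion holds for a glued immersion** -/
theorem IsGlued.critAt [IsImmersion r] (U : Y.AffineZariskiSite) (hU : B U) (x : X)
    (hx : q x ∈ U.1) : CritAt q L U.1 (Set.range (sec q u U.1)) x := by
  obtain ⟨ε, hε⟩ := hgen U hU x hx
  set R := Away (𝒮.deg U.1 U.2) (jj j U.1 ε) with hR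
  set z₀ := Spec.map (CommRingCat.ofHom (ψ q u hj U.1 U.2 ε)) ((W q u U.1 ε).toSpecΓ ⟨x, hε⟩)
    with hz₀
  have hrx : r x = κ hj p chart U ε z₀ := hr.apply_eq q u hj B U hU ε x hε
  have hxC : r x ∈ r.coborderRange := subset_coborder ⟨x, rfl⟩
  have hz₀C : z₀ ∈ κ hj p chart U ε ⁻¹ᵁ r.coborderRange := by
    change κ hj p chart U ε z₀ ∈ r.coborderRange
    rw [← hrx]; exact hxC
  obtain ⟨_, ⟨_, ⟨bt, rfl⟩, rfl⟩, hz₀bt, hbtC⟩ :=
    PrimeSpectrum.isBasis_basic_opens.exists_subset_of_mem_open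
      hz₀C (κ hj p chart U ε ⁻¹ᵁ r.coborderRange).2
  set D : P.Opens := κ hj p chart U ε ''ᵁ PrimeSpectrum.basicOpen bt with hD
  have hDC : D ≤ r.coborderRange := by
    rintro _ ⟨z, hz, rfl⟩
    exact hbtC hz
  have hDa : IsAffineOpen D :=
    (IsAffineOpen.Spec_basicOpen (R := CommRingCat.of R) bt).image_of_isOpenImmersion _
  obtain ⟨haff, hsurj⟩ := affine_surj_of_le_coborder r D hDa hDC
  have hpre := hr.preimage_κ_basicOpen q u hj hP B hBcov hgen U hU ε bt
  set O : X.Opens := X.basicOpen (ψ q u hj U.1 U.2 ε bt) with hOdef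
  have hO : O ≤ W q u U.1 ε := X.basicOpen_le _
  have hxO : x ∈ O := by
    rw [← hpre]
    change r x ∈ D
    rw [hrx]
    exact ⟨z₀, hz₀bt, rfl⟩
  have haffO : IsAffineOpen O := by rw [← hpre]; exact haff
  -- the local form of `r` on `O`
  set θ : R →+* Γ(X, O) := (resR hO).comp (ψ q u hj U.1 U.2 ε) with hθ
  have hu : IsUnit (θ bt) := X.toRingedSpace.isUnit_res_basicOpen _
  set θ' : Localization.Away bt →+* Γ(X, O) := IsLocalization.Away.lift bt hu with hθ'
  have hθθ' : θ'.comp (algebraMap R (Localization.Away bt)) = θ :=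
    IsLocalization.Away.lift_comp bt hu
  set κ' : Spec (CommRingCat.of (Localization.Away bt)) ⟶ P :=
    Spec.map (CommRingCat.ofHom (algebraMap R (Localization.Away bt))) ≫ κ hj p chart U ε with hκ'
  have hκ'r : κ'.opensRange = D := by
    change (Spec.map (CommRingCat.ofHom (algebraMap R (Localization.Away bt))) ≫
      κ hj p chart U ε).opensRange = D
    rw [Scheme.Hom.opensRange_comp, hD]
    congr 1
    exact Opens.ext (PrimeSpectrum.localization_away_comap_range (Localization.Away bt) bt)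
  have hfac : O.ι ≫ r = O.toSpecΓ ≫ Spec.map (CommRingCat.ofHom θ') ≫ κ' := by
    rw [hr U hU ε O hO, ρP_eq, hκ', ← Category.assoc (Spec.map _), ← Spec.map_comp,
      ← CommRingCat.ofHom_comp, hθθ']
  obtain ⟨h, hh⟩ := appLE_of_fac r O κ' (CommRingCat.ofHom θ') hfac
  have hs2 := appLE_surjective_of_eq r D hsurj κ'.opensRange hκ'r O hpre h
  rw [hh] at hs2
  have hθ's : Function.Surjective θ' := by
    intro f
    obtain ⟨c, hc⟩ := hs2 f
    exact ⟨_, hc⟩
  refine ⟨sec q u U.1 ε, ⟨ε, rfl⟩, ψ q u hj U.1 U.2 ε bt, ?_, hxO, haffO, fun f => ?_⟩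
  · rw [← range_ψ q u hj U.1 U.2 ε]; exact ⟨bt, rfl⟩
  · obtain ⟨w, rfl⟩ := hθ's f
    obtain ⟨a, ⟨_, n, rfl⟩, rfl⟩ := IsLocalization.exists_mk'_eq (Submonoid.powers bt) w
    refine ⟨n, ψ q u hj U.1 U.2 ε a, ?_, ?_⟩
    · rw [← range_ψ q u hj U.1 U.2 ε]; exact ⟨a, rfl⟩
    · have h1 := IsLocalization.mk'_spec (Localization.Away bt) a
        (⟨bt ^ n, n, rfl⟩ : Submonoid.powers bt)
      have h2 := congrArg θ' h1
      rw [map_mul, IsLocalization.Away.lift_eq, IsLocalization.Away.lift_eq, map_pow] at h2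
      exact h2

end Crit

/-- **a relatively very ample module satisfies the criterion** (for the sections coming from the
quasi-coherent module defining the bundle) -/
theorem exists_crit_of_isRelVeryAmple {X Y : Scheme.{u}} (q : X ⟶ Y) (L : X.Modules)
    (hva : RelProj.IsRelVeryAmple q L) :
    ∃ (E : Y.Modules) (_ : E.IsQuasicoherent) (u : E ⟶ (Scheme.Modules.pushforward q).obj L),
      (∀ (U : Y.AffineZariskiSite) (x : X), q x ∈ U.1 → ∃ ε : Γ(E, U.1), x ∈ W q u U.1 ε) ∧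
      (∀ (U : Y.AffineZariskiSite) (x : X), q x ∈ U.1 →
        CritAt q L U.1 (Set.range (sec q u U.1)) x) := by
  obtain ⟨E, hE, 𝒮, j, hj, P, p, chart, hP, O1, lam, hO1, i, hi, hip, ⟨eL⟩⟩ := hva
  subst hip
  have : E.IsQuasicoherent := hE
  set can := PhiMap.phi j hP hO1 hj.2 with hcandef
  have hcan := PhiMap.phi_spec j hP hO1 hj.2
  let τ : (Scheme.Modules.pullback i).obj O1 ≅ L := eL.symm
  let u : E ⟶ (Scheme.Modules.pushforward (i ≫ p)).obj L :=
    can ≫ (Scheme.Modules.pushforward p).map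
      ((Scheme.Modules.pullbackPushforwardAdjunction i).unit.app O1 ≫
        (Scheme.Modules.pushforward i).map τ.hom) ≫
      (Scheme.Modules.pushforwardComp i p).hom.app L
  have hτ : ∀ (U : Y.AffineZariskiSite) (_ : True) (ε : Γ(E, U.1)),
      τ.hom.app (i ⁻¹ᵁ p ⁻¹ᵁ U.1) (mSec can i U.1 ε) = sec (i ≫ p) u U.1 ε := by
    intro U _ ε
    rfl
  have hBcov : ∀ y : Y, ∃ U : Y.AffineZariskiSite, True ∧ y ∈ U.1 := by
    intro y
    obtain ⟨U, hU, hyU⟩ := RP6.exists_affine_mem y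
    exact ⟨⟨U, hU⟩, trivial, hyU⟩
  have hgen : ∀ U : Y.AffineZariskiSite, True → ∀ x : X, (i ≫ p) x ∈ U.1 →
      ∃ ε : Γ(E, U.1), x ∈ W (i ≫ p) u U.1 ε := by
    intro U _ x hx
    have hx' : i x ∈ p ⁻¹ᵁ U.1 := hx
    obtain ⟨ε, hε⟩ := exists_mem_Dκ hj U (i x) hx'
    refine ⟨ε, ?_⟩
    have h1 : gl L (τ.hom.app (i ⁻¹ᵁ p ⁻¹ᵁ U.1) (mSec can i U.1 ε)) =
        i ⁻¹ᵁ Dκ hj p chart U ε := (gl_iso τ _).trans (gl_mSec hj hO1 can hcan i U ε)
    unfold W
    rw [← hτ U trivial ε]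
    have h2 : x ∈ gl L (τ.hom.app (i ⁻¹ᵁ p ⁻¹ᵁ U.1) (mSec can i U.1 ε)) := by
      rw [h1]; exact hε
    exact h2
  have hr := isGlued_of_iso hj hP hO1 can hcan i u τ (fun _ => True) hτ
  have : IsImmersion i := hi
  refine ⟨E, hE, u, fun U x hx => hgen U trivial x hx, fun U x hx => ?_⟩
  exact hr.critAt (i ≫ p) u hj hP (fun _ => True) hBcov hgen U trivial x hx

end Groth.Agent.Helper1.VT
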