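import Mathlib
import Groth.Agent.Lib.Helper1.VT12
import Groth.Agent.Lib.Helper1.TensLib
import Groth.Agent.Lib.Helper1.TensGen
import Groth.Agent.Lib.Lead.TilT5

/-!
# Tensor products and the very ampleness criterion (helper1 library, very ample theory 13)
-/

set_option autoImplicit false
universe u
open CategoryTheory CategoryTheory.Limits AlgebraicGeometry TopologicalSpace Opposite
  HomogeneousLocalization MonoidalCategory
open scoped HomogeneousIdeal

namespace Groth.Agent.Helper1.VT

open Groth.Agent.Helper1.QcCech Groth.Agent.Helper1.LGen Groth.Agent.Helper1.CocycleIso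
open Groth.Agent.Helper1 Groth.Agent.Helper1.TmulLib Groth.Agent.Helper1.TensLib

section PairingHom

variable {X : Scheme.{u}} {M N K : X.Modules}

/-- the morphism out of the tensor product defined by a bilinear pairing -/
noncomputable def pairingHom (p : Pairing M N K) : CohB1.tensorMod M N ⟶ K :=
  ((PresheafOfModules.sheafificationAdjunction (𝟙 X.ringCatSheaf.obj)).homEquiv
    (show X.PresheafOfModules from CohB1.tensorPre M N) K).symm p.μ₀

theorem pairingHom_tm (p : Pairing M N K) (U : X.Opens) (m : Γ(M, U)) (n : Γ(N, U)) :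
    (pairingHom p).app U (tm M N U m n) = p.β (op U) m n := by
  have h1 := (PresheafOfModules.sheafificationAdjunction (𝟙 X.ringCatSheaf.obj)).homEquiv_unit
    (X := (show X.PresheafOfModules from CohB1.tensorPre M N)) (Y := K) (f := pairingHom p)
  unfold pairingHom at h1
  rw [Equiv.apply_symm_apply] at h1
  have h2 := congrArg (fun f => (f.app (op U)).hom (pure M N U m n)) h1
  exact h2.symm

end PairingHom

section PushPairing

variable {X Y : Scheme.{u}} (q : X ⟶ Y) {L L' : X.Modules} {E E' : Y.Modules}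
  (u : E ⟶ (Scheme.Modules.pushforward q).obj L) (u' : E' ⟶ (Scheme.Modules.pushforward q).obj L')

/-- the pairing `ε, ε' ↦ u ε ⊗ u' ε'` -/
noncomputable def pushPairing :
    Pairing E E' ((Scheme.Modules.pushforward q).obj (CohB1.tensorMod L L')) where
  β U ε ε' := tm L L' (q ⁻¹ᵁ U.unop) (sec q u U.unop ε) (sec q u' U.unop ε')
  add_left U m₁ m₂ n := by
    change tm L L' _ (sec q u U.unop (m₁ + m₂)) _ = _
    erw [sec_add q u U.unop m₁ m₂]
    rw [tm_add_left]
    rfl
  smul_left U a m n := by
    change tm L L' _ (sec q u U.unop (a • m)) _ = _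
    erw [sec_smul q u U.unop a m]
    rw [tm_smul_left]
    rfl
  add_right U m n₁ n₂ := by
    change tm L L' _ _ (sec q u' U.unop (n₁ + n₂)) = _
    erw [sec_add q u' U.unop n₁ n₂]
    rw [tm_add_right]
    rfl
  smul_right U a m n := by
    change tm L L' _ _ (sec q u' U.unop (a • n)) = _
    erw [sec_smul q u' U.unop a n]
    rw [tm_smul_right]
    rfl
  nat {U V} f m n := by
    have h : V.unop ≤ U.unop := f.unop.le
    change res (CohB1.tensorMod L L') (q.preimage_mono h) (tm L L' _ _ _) =
      tm L L' _ (sec q u V.unop (res E h m)) (sec q u' V.unop (res E' h n))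
    rw [res_tm, sec_res, sec_res]

/-- the morphism `E ⊗ E' ⟶ q_*(L ⊗ L')` -/
noncomputable def uTens : CohB1.tensorMod E E' ⟶
    (Scheme.Modules.pushforward q).obj (CohB1.tensorMod L L') :=
  pairingHom (pushPairing q u u')

theorem sec_uTens (U : Y.Opens) (ε : Γ(E, U)) (ε' : Γ(E', U)) :
    sec q (uTens q u u') U (tm E E' U ε ε') =
      tm L L' (q ⁻¹ᵁ U) (sec q u U ε) (sec q u' U ε') :=
  pairingHom_tm (pushPairing q u u') U ε ε'

end PushPairing

section GlTm

variable {X : Scheme.{u}}

/-- if a multiple of a free generator is a free generator, the coefficient is a unit -/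
theorem isUnit_of_isGen_smul {M : X.Modules} {N : X.Opens} {b : Γ(M, N)} {r : Γ(X, N)}
    (hb : IsGen M N b) (hrb : IsGen M N (r • b)) : IsUnit r := by
  obtain ⟨s, hs⟩ := hrb.exists_coeff b
  rw [← mul_smul] at hs
  have h1 : s * r = 1 := by
    apply (hb N le_rfl).1
    simp only [res_self]
    rw [hs, one_smul]
  exact IsUnit.of_mul_eq_one _ (by rw [mul_comm]; exact h1)

/-- **the generating locus of a tensor of sections of invertible modules** -/
theorem gl_tm {L L' : X.Modules} (hL : PicF.IsInvertible L) (hL' : PicF.IsInvertible L')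
    {W : X.Opens} (m : Γ(L, W)) (m' : Γ(L', W)) :
    gl (CohB1.tensorMod L L') (tm L L' W m m') = gl L m ⊓ gl L' m' := by
  apply le_antisymm
  · intro x hx
    obtain ⟨W₀, a, a', hxW₀, ha, ha'⟩ := TensGen.exists_isGen₂ hL hL' x
    set N : X.Opens := W₀ ⊓ gl (CohB1.tensorMod L L') (tm L L' W m m') with hN
    have hNW : N ≤ W := inf_le_right.trans (gl_le _ _)
    have hxN : x ∈ N := ⟨hxW₀, hx⟩
    have haN := ha.res (inf_le_left : N ≤ W₀)
    have ha'N := ha'.res (inf_le_left : N ≤ W₀)
    obtain ⟨r, hr⟩ := haN.exists_coeff (res L hNW m)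
    obtain ⟨r', hr'⟩ := ha'N.exists_coeff (res L' hNW m')
    have hg : IsGen (CohB1.tensorMod L L') N (res _ hNW (tm L L' W m m')) :=
      isGen_of_le_gl _ _ inf_le_right
    rw [res_tm, ← hr, ← hr', tm_smul_left, tm_smul_right, ← mul_smul] at hg
    have hu := isUnit_of_isGen_smul (TensGen.isGen_tm haN ha'N) hg
    have hur : IsUnit r := isUnit_of_mul_isUnit_left hu
    have hur' : IsUnit r' := isUnit_of_mul_isUnit_right hu
    refine ⟨le_gl L m hNW ?_ hxN, le_gl L' m' hNW ?_ hxN⟩
    · rw [← hr]; exact TwForm.IsGen.smul_unit haN hur.unit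
    · rw [← hr']; exact TwForm.IsGen.smul_unit ha'N hur'.unit
  · apply le_gl _ _ (inf_le_left.trans (gl_le L m))
    rw [res_tm]
    exact TensGen.isGen_tm (isGen_of_le_gl L m inf_le_left) (isGen_of_le_gl L' m' inf_le_right)

end GlTm

end Groth.Agent.Helper1.VT
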