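import Mathlib
import Groth.Agent.Lib.Helper1.VT13
import Groth.Agent.Lib.Helper1.CounitLib
import Groth.Agent.Lib.Helper1.QcsLoc

/-!
# Generation by the sections coming from an epimorphism (helper1 library, very ample theory 14)
-/

set_option autoImplicit false
universe u
open CategoryTheory CategoryTheory.Limits AlgebraicGeometry TopologicalSpace Opposite

namespace Groth.Agent.Helper1.VT

open Groth.Agent.Helper1.QcCech Groth.Agent.Helper1.LGen Groth.Agent.Helper1.CocycleIso
open Groth.Agent.Helper1 Groth.Agent.Helper1.SubSh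

section Adj

variable {X Y : Scheme.{u}} (q : X ⟶ Y) {E' : Y.Modules} {L' : X.Modules}
  (φ : (Scheme.Modules.pullback q).obj E' ⟶ L')

/-- the adjunct of a morphism out of a pullback -/
noncomputable def adjU : E' ⟶ (Scheme.Modules.pushforward q).obj L' :=
  (Scheme.Modules.pullbackPushforwardAdjunction q).homEquiv E' L' φ

theorem sec_adjU (U : Y.Opens) (ε : Γ(E', U)) :
    sec q (adjU q φ) U ε = φ.app (q ⁻¹ᵁ U) (PullSec.σ q E' U ε) := by
  unfold sec adjU
  rw [Adjunction.homEquiv_unit]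
  rfl

/-- the sections of `L'` which are combinations of sections coming from the base -/
noncomputable def imgPre (u' : E' ⟶ (Scheme.Modules.pushforward q).obj L') : PreSub L' where
  carrier W := Submodule.span Γ(X, W)
    {t | ∃ (V : Y.Opens) (h : W ≤ q ⁻¹ᵁ V) (ε : Γ(E', V)), t = res L' h (sec q u' V ε)}
  res_mem := by
    intro W W' h t ht
    induction ht using Submodule.span_induction with
    | mem x hx =>
      obtain ⟨V, hW, ε, rfl⟩ := hx
      rw [res_res]
      exact Submodule.subset_span ⟨V, h.trans hW, ε, rfl⟩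
    | zero => rw [map_zero]; exact Submodule.zero_mem _
    | add x y _ _ hx hy => rw [map_add]; exact Submodule.add_mem _ hx hy
    | smul r x _ hx => rw [res_smul]; exact Submodule.smul_mem _ _ hx

/-- if `φ` is an epimorphism, every section of `L'` is locally a combination of sections coming
from the base -/
theorem mem_imgPre_loc_of_epi [Epi φ] {W : X.Opens} (t : Γ(L', W)) :
    t ∈ (imgPre q (adjU q φ)).loc.carrier W := by
  let N := (imgPre q (adjU q φ)).loc
  have h1 : φ ≫ cokernel.π N.ι = 0 := by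
    apply ((Scheme.Modules.pullbackPushforwardAdjunction q).homEquiv E' _).injective
    apply Scheme.Modules.hom_ext
    intro V
    ext ε
    rw [Adjunction.homEquiv_unit, Adjunction.homEquiv_unit]
    change (cokernel.π N.ι).app (q ⁻¹ᵁ V) (φ.app (q ⁻¹ᵁ V) (PullSec.σ q E' V ε)) =
      (0 : L' ⟶ cokernel N.ι).app (q ⁻¹ᵁ V) (φ.app (q ⁻¹ᵁ V) (PullSec.σ q E' V ε))
    rw [← sec_adjU]
    have hτ : sec q (adjU q φ) V ε ∈ N.carrier (q ⁻¹ᵁ V) :=
      (imgPre q (adjU q φ)).le_loc (Submodule.subset_span ⟨V, le_rfl, ε, (res_self L' _ _).symm⟩)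
    have h2 : (N.ι ≫ cokernel.π N.ι).app (q ⁻¹ᵁ V) (N.mkSec _ hτ) =
        (cokernel.π N.ι).app (q ⁻¹ᵁ V) (N.ι.app (q ⁻¹ᵁ V) (N.mkSec _ hτ)) := rfl
    rw [cokernel.condition, LocalSub.ι_app_mkSec] at h2
    rw [← h2]
    rfl
  have h0 : cokernel.π N.ι = 0 := (cancel_epi φ).1 (h1.trans comp_zero.symm)
  have : Epi N.ι := Abelian.epi_of_cokernel_π_eq_zero _ h0
  have : IsIso N.ι := isIso_of_mono_of_epi _
  exact N.mem_of_isIso t

/-- a section locally in the span of the sections from the base which generates at `x` forces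
one of the sections from the base to generate at `x` -/
theorem exists_gl_of_mem_imgPre (u' : E' ⟶ (Scheme.Modules.pushforward q).obj L')
    {W : X.Opens} {a : Γ(L', W)} (ha : IsGen L' W a) (x : X) (t : Γ(L', W))
    (ht : t ∈ (imgPre q u').carrier W) (c : Γ(X, W)) (hc : c • a = t) (hx : x ∈ X.basicOpen c) :
    ∃ (V : Y.Opens) (ε : Γ(E', V)), q x ∈ V ∧ x ∈ gl L' (sec q u' V ε) := by
  induction ht using Submodule.span_induction generalizing c with
  | mem t ht =>
    obtain ⟨V, hW, ε, rfl⟩ := ht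
    have hxW : x ∈ W := X.basicOpen_le c hx
    refine ⟨V, ε, hW hxW, ?_⟩
    have hle : X.basicOpen c ≤ W := X.basicOpen_le c
    apply le_gl L' _ (hle.trans hW) _ hx
    have hu : IsUnit (resR hle c) := (GenLoc.isUnit_res_iff c _ hle).2 le_rfl
    have h1 := congrArg (res L' hle) hc
    rw [res_smul, res_res] at h1
    rw [← h1]
    exact TwForm.IsGen.smul_unit (ha.res hle) hu.unit
  | zero =>
    have h0 : c = 0 := by
      apply (ha W le_rfl).1
      simp only [res_self]
      rw [hc, zero_smul]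
    rw [h0, Scheme.basicOpen_zero] at hx
    exact absurd hx (by simp)
  | add t₁ t₂ _ _ ih₁ ih₂ =>
    obtain ⟨c₁, hc₁⟩ := ha.exists_coeff t₁
    obtain ⟨c₂, hc₂⟩ := ha.exists_coeff t₂
    have h0 : c = c₁ + c₂ := by
      apply (ha W le_rfl).1
      simp only [res_self]
      rw [hc, add_smul, hc₁, hc₂]
    rw [h0] at hx
    rcases X.basicOpen_add_le c₁ c₂ hx with h | h
    · exact ih₁ c₁ hc₁ h
    · exact ih₂ c₂ hc₂ h
  | smul r t₁ _ ih =>
    obtain ⟨c₁, hc₁⟩ := ha.exists_coeff t₁
    have h0 : c = r * c₁ := by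
      apply (ha W le_rfl).1
      simp only [res_self]
      rw [hc, mul_smul, hc₁]
    rw [h0, Scheme.basicOpen_mul] at hx
    exact ih c₁ hc₁ hx.2

/-- generation at a point by a section over an open of the base can be achieved by a section
over any affine open of the base containing the image point -/
theorem exists_gl_affine [E'.IsQuasicoherent] (u' : E' ⟶ (Scheme.Modules.pushforward q).obj L')
    {U : Y.Opens} (hU : IsAffineOpen U) {V : Y.Opens} (ε : Γ(E', V)) (x : X) (hxU : q x ∈ U)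
    (hxV : q x ∈ V) (hx : x ∈ gl L' (sec q u' V ε)) :
    ∃ ε₀ : Γ(E', U), x ∈ gl L' (sec q u' U ε₀) := by
  obtain ⟨h, hle, hqx⟩ := hU.exists_basicOpen_le (V := U ⊓ V) ⟨q x, ⟨hxU, hxV⟩⟩ hxU
  set D : Y.Opens := U ⊓ Y.basicOpen h with hD
  have hDV : D ≤ V := inf_le_right.trans (hle.trans inf_le_right)
  have hxD : q x ∈ D := ⟨hxU, hqx⟩
  have hDU : D ≤ U := inf_le_left
  obtain ⟨n, ε₀, hε₀⟩ := QcsLoc.ext_of_isCompact E' h U hU.isQuasiSeparated U hU.isCompact le_rfl
    le_rfl (res E' hDV ε)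
  refine ⟨ε₀, ?_⟩
  unfold rsmul at hε₀
  set N : X.Opens := gl L' (sec q u' V ε) ⊓ q ⁻¹ᵁ D with hN
  have hNU : N ≤ q ⁻¹ᵁ U := inf_le_right.trans (q.preimage_mono inf_le_left)
  have hND : N ≤ q ⁻¹ᵁ D := inf_le_right
  apply le_gl L' _ hNU _ (show x ∈ N from ⟨hx, hxD⟩)
  have hu0 : IsUnit (resR hDU (h ^ n)) := by
    rw [map_pow]
    exact ((GenLoc.isUnit_res_iff h D inf_le_left).2 inf_le_right).pow n
  have hu1 : IsUnit ((q.app D).hom (resR hDU (h ^ n))) :=
    hu0.map _
  have hu2 : IsUnit (resR hND ((q.app D).hom (resR hDU (h ^ n)))) :=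
    hu1.map _
  have e1 : res L' hNU (sec q u' U ε₀) =
      resR hND ((q.app D).hom (resR hDU (h ^ n))) •
        res L' (inf_le_left.trans (gl_le L' _)) (sec q u' V ε) := by
    have h1 : res L' hNU (sec q u' U ε₀) =
        res L' hND (res L' (q.preimage_mono hDU) (sec q u' U ε₀)) := by
      rw [res_res]
    rw [h1, sec_res q u' hDU, hε₀, sec_smul, res_smul, ← sec_res q u' hDV, res_res]
  rw [e1]
  exact TwForm.IsGen.smul_unit (isGen_of_le_gl L' _ inf_le_left) hu2.unit

/-- **generation from an epimorphism**: if `φ : q^* E' ⟶ L'` is an epimorphism onto an invertible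
module, then over every affine open of the base `L'` is generated at every point by a section
coming from `E'` -/
theorem exists_gl_of_epi [E'.IsQuasicoherent] (hL' : PicF.IsInvertible L') [Epi φ]
    {U : Y.Opens} (hU : IsAffineOpen U) (x : X) (hxU : q x ∈ U) :
    ∃ ε₀ : Γ(E', U), x ∈ W q (adjU q φ) U ε₀ := by
  obtain ⟨W₀, a, hxW₀, ha⟩ := exists_isGen hL' x
  obtain ⟨W₁, hW₁, hxW₁, hm⟩ := mem_imgPre_loc_of_epi q φ a x hxW₀
  have hone : x ∈ X.basicOpen (1 : Γ(X, W₁)) := by
    rw [X.basicOpen_of_isUnit isUnit_one]; exact hxW₁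
  obtain ⟨V, ε, hxV, hx⟩ := exists_gl_of_mem_imgPre q (adjU q φ) (ha.res hW₁) x _ hm 1
    (one_smul _ _) hone
  exact exists_gl_affine q (adjU q φ) hU ε x hxU hxV hx

end Adj

end Groth.Agent.Helper1.VT
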