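import Mathlib
import Groth.Agent.Lib.Helper1.VT8
import Groth.Agent.Lib.Helper1.SymGr
import Groth.Agent.Lib.Helper1.RP9

/-!
# The very ampleness criterion (helper1 library, very ample theory 9)
-/

set_option autoImplicit false
universe u
open CategoryTheory CategoryTheory.Limits AlgebraicGeometry TopologicalSpace Opposite
  HomogeneousLocalization
open scoped HomogeneousIdeal

namespace Groth.Agent.Helper1.VT

open Groth.Agent.Helper1.QcCech Groth.Agent.Helper1.LGen Groth.Agent.Helper1.CocycleIso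
open Groth.Agent.Helper1 Groth.Agent.Helper1.GP1 Groth.Agent.Helper1.GP2 Groth.Agent.Helper1.GP3

/-- **the very ampleness criterion**: sections coming from a quasi-coherent module on the base
which generate `L` and satisfy the immersion criterion make `L` relatively very ample -/
theorem isRelVeryAmple_of_crit {X Y : Scheme.{u}} (q : X ⟶ Y) (L : X.Modules) (E : Y.Modules)
    [E.IsQuasicoherent] (u : E ⟶ (Scheme.Modules.pushforward q).obj L)
    (B : Y.AffineZariskiSite → Prop)
    (hBle : ∀ U, B U → ∀ U', U' ≤ U → B U') (hBcov : ∀ y : Y, ∃ U, B U ∧ y ∈ U.1)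
    (hgen : ∀ U, B U → ∀ x : X, q x ∈ U.1 → ∃ ε : Γ(E, U.1), x ∈ W q u U.1 ε)
    (hcrit : ∀ x : X, ∃ U, B U ∧ q x ∈ U.1 ∧ CritAt q L U.1 (Set.range (sec q u U.1)) x) :
    RelProj.IsRelVeryAmple q L := by
  obtain ⟨P, p, chart, hP⟩ := RP2.exists_isRelProj (SymAlg.symGr E)
  obtain ⟨O1, lam, hO1⟩ := RP9.exists_isRelTwist hP 1
  have hj := SymAlg.isGrSymAlg E
  obtain ⟨r, hr⟩ := exists_r q u hj hP B hBle hBcov hgen
  have hr' : IsGlued q u hj B p chart r := hr
  have hcan := PhiMap.phi_spec (SymAlg.jGr E) hP hO1 hj.2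
  obtain ⟨τ, -⟩ := exists_τ q u hj hO1 (PhiMap.phi (SymAlg.jGr E) hP hO1 hj.2) hcan B hr' hBle
    hBcov hgen
  exact ⟨E, inferInstance, SymAlg.symGr E, SymAlg.jGr E, hj, P, p, chart, hP, O1, lam, hO1, r,
    hr'.isImmersion q u hj hP B hBcov hgen hcrit, hr'.comp_p q u hj hP B hBcov hgen, ⟨τ.symm⟩⟩

end Groth.Agent.Helper1.VT
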