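import Mathlib
import Groth.Agent.Lib.Helper1.VT14
import Groth.Agent.Lib.Helper1.VT9

/-!
# Tensor products of very ample modules (helper1 library, very ample theory 15)
-/

set_option autoImplicit false
universe u
open CategoryTheory CategoryTheory.Limits AlgebraicGeometry TopologicalSpace Opposite

namespace Groth.Agent.Helper1.VT

open Groth.Agent.Helper1.QcCech Groth.Agent.Helper1.LGen Groth.Agent.Helper1.CocycleIso
open Groth.Agent.Helper1 Groth.Agent.Helper1.TmulLib

section Crit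

variable {X Y : Scheme.{u}} (q : X ⟶ Y) (L : X.Modules)

/-- a flexible constructor for the criterion -/
theorem CritAt.mk' {U : Y.Opens} {Sg : Set Γ(L, q ⁻¹ᵁ U)} {x : X} (m : Γ(L, q ⁻¹ᵁ U)) (hm : m ∈ Sg)
    (b : Γ(X, gl L m)) (hb : b ∈ TS q L U m Sg) (O : X.Opens) (hO : X.basicOpen b = O)
    (hxO : x ∈ O) (haff : IsAffineOpen O)
    (hf : ∀ f : Γ(X, O), ∃ (n : ℕ) (t : Γ(X, gl L m)), t ∈ TS q L U m Sg ∧
      f * resR (hO ▸ X.basicOpen_le b : O ≤ gl L m) b ^ n =
        resR (hO ▸ X.basicOpen_le b : O ≤ gl L m) t) :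
    CritAt q L U Sg x := by
  subst hO
  exact ⟨m, hm, b, hb, hxO, haff, hf⟩

end Crit

section Tens

variable {X Y : Scheme.{u}} (q : X ⟶ Y) {L L' : X.Modules} {E E' : Y.Modules}
  (u : E ⟶ (Scheme.Modules.pushforward q).obj L) (u' : E' ⟶ (Scheme.Modules.pushforward q).obj L')
  (hL : PicF.IsInvertible L) (hL' : PicF.IsInvertible L')

include hL hL' in
theorem W_uTens (U : Y.Opens) (ε : Γ(E, U)) (ε' : Γ(E', U)) :
    W q (uTens q u u') U (tm E E' U ε ε') = W q u U ε ⊓ W q u' U ε' := by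
  unfold W
  rw [sec_uTens, gl_tm hL hL']

include hL hL' in
/-- the ring of ratios for `L` restricts into the ring of ratios for `L ⊗ L'` -/
theorem TS_res_mem (U : Y.Opens) (ε : Γ(E, U)) (ε' : Γ(E', U)) (t : Γ(X, gl L (sec q u U ε)))
    (ht : t ∈ TS q L U (sec q u U ε) (Set.range (sec q u U)))
    (h : gl (CohB1.tensorMod L L') (sec q (uTens q u u') U (tm E E' U ε ε')) ≤
      gl L (sec q u U ε)) :
    resR h t ∈ TS q (CohB1.tensorMod L L') U (sec q (uTens q u u') U (tm E E' U ε ε'))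
      (Set.range (sec q (uTens q u u') U)) := by
  have hle : TS q L U (sec q u U ε) (Set.range (sec q u U)) ≤
      (TS q (CohB1.tensorMod L L') U (sec q (uTens q u u') U (tm E E' U ε ε'))
        (Set.range (sec q (uTens q u u') U))).comap (resR h) := by
    apply Subring.closure_le.2
    rintro _ (⟨r, rfl⟩ | ⟨_, ⟨ε₁, rfl⟩, rfl⟩)
    · rw [SetLike.mem_coe, Subring.mem_comap]
      change resR h (resR _ _) ∈ TS q (CohB1.tensorMod L L') U _ _
      rw [resR_resR]
      exact Subring.subset_closure (Or.inl ⟨r, rfl⟩)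
    · rw [SetLike.mem_coe, Subring.mem_comap]
      have e : ratio (CohB1.tensorMod L L') (sec q (uTens q u u') U (tm E E' U ε ε'))
          (sec q (uTens q u u') U (tm E E' U ε₁ ε')) =
          resR h (ratio L (sec q u U ε) (sec q u U ε₁)) := by
        apply ratio_eq
        have h1 := ratio_spec_le L (sec q u U ε) (sec q u U ε₁) h
        have h2 : ∀ e₁ : Γ(E, U), res (CohB1.tensorMod L L') (gl_le _ _)
            (sec q (uTens q u u') U (tm E E' U e₁ ε')) =
            tm L L' _ (res L (h.trans (gl_le L _)) (sec q u U e₁))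
              (res L' (h.trans (gl_le L _)) (sec q u' U ε')) := by
          intro e₁
          exact (congrArg (res (CohB1.tensorMod L L') (gl_le _ _))
            (sec_uTens q u u' U e₁ ε')).trans (res_tm L L' _ _ _)
        rw [h2 ε, h2 ε₁, ← tm_smul_left, h1]
      rw [← e]
      exact Subring.subset_closure (Or.inr ⟨_, ⟨tm E E' U ε₁ ε', rfl⟩, rfl⟩)
  exact hle ht

include hL hL' in
/-- **the criterion for `L` and generation for `L'` give the criterion for `L ⊗ L'`** -/
theorem critAt_tensor (U : Y.Opens) (x : X)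
    (hc : CritAt q L U (Set.range (sec q u U)) x) (ε' : Γ(E', U)) (hx' : x ∈ W q u' U ε') :
    CritAt q (CohB1.tensorMod L L') U (Set.range (sec q (uTens q u u') U)) x := by
  obtain ⟨_, ⟨ε, rfl⟩, b, hb, hxb, haff, hf⟩ := hc
  have hG'' : gl (CohB1.tensorMod L L') (sec q (uTens q u u') U (tm E E' U ε ε')) =
      gl L (sec q u U ε) ⊓ gl L' (sec q u' U ε') := W_uTens q u u' hL hL' U ε ε'
  have hG''le : gl (CohB1.tensorMod L L') (sec q (uTens q u u') U (tm E E' U ε ε')) ≤
      gl L (sec q u U ε) := by rw [hG'']; exact inf_le_left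
  -- shrink the affine neighbourhood into the generating locus of the section of `L'`
  obtain ⟨g, hgle, hxg⟩ := haff.exists_basicOpen_le
    (V := X.basicOpen b ⊓ gl L' (sec q u' U ε')) ⟨x, ⟨hxb, hx'⟩⟩ hxb
  obtain ⟨n, t, ht, hgt⟩ := hf g
  have hOg : X.basicOpen g ≤ X.basicOpen b := X.basicOpen_le g
  have hOm : X.basicOpen b ≤ gl L (sec q u U ε) := X.basicOpen_le b
  have hOgG : X.basicOpen g ≤
      gl (CohB1.tensorMod L L') (sec q (uTens q u u') U (tm E E' U ε ε')) := by
    rw [hG'']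
    exact le_inf (hOg.trans hOm) (hgle.trans inf_le_right)
  have hub : IsUnit (resR hOm b) := X.toRingedSpace.isUnit_res_basicOpen b
  have hbasic : X.basicOpen (resR hG''le (b * t)) = X.basicOpen g := by
    have h1 : X.basicOpen (resR hG''le (b * t)) =
        gl (CohB1.tensorMod L L') (sec q (uTens q u u') U (tm E E' U ε ε')) ⊓
          X.basicOpen (b * t) := by
      rw [resR]
      erw [Scheme.basicOpen_res]
    have h2 : X.basicOpen b ⊓ X.basicOpen t = X.basicOpen (resR hOm t) := by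
      rw [resR]
      erw [Scheme.basicOpen_res]
    have h3 : X.basicOpen (resR hOm t) = X.basicOpen g := by
      have hgt' : g * resR hOm b ^ n = resR hOm t := hgt
      rw [← hgt', Scheme.basicOpen_mul, X.basicOpen_of_isUnit (hub.pow n)]
      exact inf_eq_left.2 hOg
    rw [h1, Scheme.basicOpen_mul, h2, h3]
    exact inf_eq_right.2 hOgG
  refine CritAt.mk' q _ (sec q (uTens q u u') U (tm E E' U ε ε')) ⟨tm E E' U ε ε', rfl⟩
    (resR hG''le (b * t))
    (TS_res_mem q u u' hL hL' U ε ε' _ (Subring.mul_mem _ hb ht) hG''le)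
    (X.basicOpen g) hbasic hxg (haff.basicOpen g) (fun f => ?_)
  -- fractions
  have hloc := haff.isLocalization_basicOpen g
  obtain ⟨⟨f₀, ⟨_, k, rfl⟩⟩, hf₀⟩ := IsLocalization.surj (Submonoid.powers g) f
  obtain ⟨n₀, t₀, ht₀, hft₀⟩ := hf f₀
  refine ⟨k + n₀, resR hG''le (t₀ * b ^ ((n + 1) * k) * t ^ n₀),
    TS_res_mem q u u' hL hL' U ε ε' _
      (Subring.mul_mem _ (Subring.mul_mem _ ht₀ (Subring.pow_mem _ hb _)) (Subring.pow_mem _ ht _))
      hG''le, ?_⟩
  have hOgm : X.basicOpen g ≤ gl L (sec q u U ε) := hOg.trans hOm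
  have R1 : resR hOg g * resR hOgm b ^ n = resR hOgm t := by
    have := congrArg (resR hOg) hgt
    rw [map_mul, map_pow, resR_resR, resR_resR] at this
    exact this
  have R2 : f * resR hOg g ^ k = resR hOg f₀ := by
    have h1 : f * (algebraMap Γ(X, X.basicOpen b) Γ(X, X.basicOpen g)) (g ^ k) =
        (algebraMap Γ(X, X.basicOpen b) Γ(X, X.basicOpen g)) f₀ := hf₀
    rw [map_pow] at h1
    exact h1
  have R3 : resR hOg f₀ * resR hOgm b ^ n₀ = resR hOgm t₀ := by
    have := congrArg (resR hOg) hft₀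
    rw [map_mul, map_pow, resR_resR, resR_resR] at this
    exact this
  have key : f * resR hOgG (resR hG''le (b * t)) ^ (k + n₀) =
      resR hOgG (resR hG''le (t₀ * b ^ ((n + 1) * k) * t ^ n₀)) := by
    rw [resR_resR, resR_resR, map_mul, map_mul, map_mul, map_pow, map_pow]
    have h1 : (resR hOgm b * resR hOgm t) ^ k =
        resR hOg g ^ k * resR hOgm b ^ ((n + 1) * k) := by
      rw [← R1]; ring
    rw [pow_add, h1, mul_pow]
    linear_combination (resR hOgm b ^ ((n + 1) * k) * resR hOgm b ^ n₀ * resR hOgm t ^ n₀) * R2 +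
      (resR hOgm b ^ ((n + 1) * k) * resR hOgm t ^ n₀) * R3
  exact key

end Tens

/-- **the tensor theorem**: if `L` satisfies the criterion for the sections coming from `E` and
`L'` is generated by the sections coming from `E'`, then `L ⊗ L'` is relatively very ample -/
theorem isRelVeryAmple_tensor_of_crit {X Y : Scheme.{u}} (q : X ⟶ Y) (L L' : X.Modules)
    (hL : PicF.IsInvertible L) (hL' : PicF.IsInvertible L')
    (E : Y.Modules) [E.IsQuasicoherent] (u : E ⟶ (Scheme.Modules.pushforward q).obj L)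
    (hcrit : ∀ (U : Y.AffineZariskiSite) (x : X), q x ∈ U.1 →
      CritAt q L U.1 (Set.range (sec q u U.1)) x)
    (E' : Y.Modules) [E'.IsQuasicoherent] (u' : E' ⟶ (Scheme.Modules.pushforward q).obj L')
    (hgen' : ∀ (U : Y.AffineZariskiSite) (x : X), q x ∈ U.1 →
      ∃ ε' : Γ(E', U.1), x ∈ W q u' U.1 ε') :
    RelProj.IsRelVeryAmple q (CohB1.tensorMod L L') := by
  have hBcov : ∀ y : Y, ∃ U : Y.AffineZariskiSite, True ∧ y ∈ U.1 := by
    intro y
    obtain ⟨U, hU, hyU⟩ := RP6.exists_affine_mem y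
    exact ⟨⟨U, hU⟩, trivial, hyU⟩
  refine isRelVeryAmple_of_crit q (CohB1.tensorMod L L') (CohB1.tensorMod E E') (uTens q u u')
    (fun _ => True) (fun _ _ _ _ => trivial) hBcov ?_ ?_
  · intro U _ x hx
    obtain ⟨_, ⟨ε, rfl⟩, b, hb, hxb, -, -⟩ := hcrit U x hx
    obtain ⟨ε', hε'⟩ := hgen' U x hx
    refine ⟨tm E E' U.1 ε ε', ?_⟩
    rw [W_uTens q u u' hL hL']
    exact ⟨X.basicOpen_le b hxb, hε'⟩
  · intro x
    obtain ⟨U, -, hxU⟩ := hBcov (q x)
    obtain ⟨ε', hε'⟩ := hgen' U x hxU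
    exact ⟨U, trivial, hxU, critAt_tensor q u u' hL hL' U.1 x (hcrit U x hxU) ε' hε'⟩

end Groth.Agent.Helper1.VT
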