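import Mathlib
import Groth.Agent.Lib.Helper1.VT15
import Groth.Agent.Lib.Helper1.TwForm3
import Groth.Agent.Lib.Helper1.TwForm4

/-!
# Tensor powers of very ample modules (helper1 library, very ample theory 16)
-/

set_option autoImplicit false
universe u
open CategoryTheory CategoryTheory.Limits AlgebraicGeometry TopologicalSpace Opposite

namespace Groth.Agent.Helper1.VT

open Groth.Agent.Helper1.QcCech Groth.Agent.Helper1.LGen Groth.Agent.Helper1.CocycleIso
open Groth.Agent.Helper1 Groth.Agent.Helper1.TmulLib Groth.Agent.Helper1.TensLib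

theorem isRelVeryAmple_of_iso {X Y : Scheme.{u}} (q : X ⟶ Y) {L M : X.Modules} (e : L ≅ M)
    (h : RelProj.IsRelVeryAmple q L) : RelProj.IsRelVeryAmple q M := by
  obtain ⟨E, hE, 𝒮, j, hj, P, p, chart, hP, O1, lam, hO1, i, hi, hip, ⟨eL⟩⟩ := h
  exact ⟨E, hE, 𝒮, j, hj, P, p, chart, hP, O1, lam, hO1, i, hi, hip, ⟨e.symm ≪≫ eL⟩⟩

/-- the pairing `r, m ↦ r • m` -/
noncomputable def unitPairing {X : Scheme.{u}} (L : X.Modules) :
    Pairing (Coh.structureModule X) L L where
  β U r m := (show (X.sheaf.obj ⋙ forget₂ CommRingCat RingCat.{u}).obj U from r) • m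
  add_left U r₁ r₂ m := add_smul _ _ _
  smul_left U a r m := mul_smul _ _ _
  add_right U r m₁ m₂ := smul_add _ _ _
  smul_right U a r m := smul_comm _ _ _
  nat {U V} f r m := by
    exact (CohB1.toPMod L).map_smul f _ m

theorem nonempty_unit_tensorMod_iso {X : Scheme.{u}} (L : X.Modules) :
    Nonempty (CohB1.tensorMod (Coh.structureModule X) L ≅ L) := by
  refine (unitPairing L).nonempty_tensorMod_iso (fun _ => True) (fun x => ⟨⊤, trivial, trivial⟩)
    (fun _ _ _ _ => trivial) (fun V _ =>
      ⟨(show (CohB1.toPMod (Coh.structureModule X)).obj (op V) from TwForm.one' V), ?_, ?_⟩)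
  · have : (fun r : (X.sheaf.obj ⋙ forget₂ CommRingCat RingCat.{u}).obj (op V) =>
        r • (show (CohB1.toPMod (Coh.structureModule X)).obj (op V) from TwForm.one' V)) = id := by
      funext r
      exact mul_one (show Γ(X, V) from r)
    rw [this]
    exact Function.bijective_id
  · have : (unitPairing L).β (op V) (TwForm.one' V) = id := by
      funext m
      exact one_smul (Γ(X, V)) (show Γ(L, V) from m)
    rw [this]
    exact Function.bijective_id

/-- **tensor products of very ample modules are very ample** -/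
theorem isRelVeryAmple_tensorMod {X Y : Scheme.{u}} (q : X ⟶ Y) (L L' : X.Modules)
    (hL : PicF.IsInvertible L) (hL' : PicF.IsInvertible L')
    (hva : RelProj.IsRelVeryAmple q L) (hva' : RelProj.IsRelVeryAmple q L') :
    RelProj.IsRelVeryAmple q (CohB1.tensorMod L L') := by
  obtain ⟨E, hE, u, -, hcrit⟩ := exists_crit_of_isRelVeryAmple q L hva
  obtain ⟨E', hE', u', hgen', -⟩ := exists_crit_of_isRelVeryAmple q L' hva'
  have : E.IsQuasicoherent := hE
  have : E'.IsQuasicoherent := hE'
  exact isRelVeryAmple_tensor_of_crit q L L' hL hL' E u hcrit E' u' hgen'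

/-- **positive tensor powers of a very ample module are very ample** -/
theorem isRelVeryAmple_tensorPow {X Y : Scheme.{u}} (q : X ⟶ Y) (L : X.Modules)
    (hL : PicF.IsInvertible L) (hva : RelProj.IsRelVeryAmple q L) (n : ℕ) (hn : 0 < n) :
    RelProj.IsRelVeryAmple q (CohB1.tensorPow L n) := by
  induction n with
  | zero => exact absurd hn (lt_irrefl 0)
  | succ k ih =>
    rcases Nat.eq_zero_or_pos k with rfl | hk
    · obtain ⟨e⟩ := nonempty_unit_tensorMod_iso L
      exact isRelVeryAmple_of_iso q e.symm hva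
    · exact isRelVeryAmple_tensorMod q (CohB1.tensorPow L k) L
        (TwForm.isInvertible_tensorPow hL k) hL (ih hk) hva

end Groth.Agent.Helper1.VT
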