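import Mathlib
import Groth.Agent.Lib.Helper1.VT16
import Groth.Agent.Lib.Helper1.TwRestr

/-!
# Transport of the very ampleness criterion along open immersions (helper1 library, VT17)
-/

set_option autoImplicit false
universe u
open CategoryTheory CategoryTheory.Limits AlgebraicGeometry TopologicalSpace Opposite

namespace Groth.Agent.Helper1.VT

open Groth.Agent.Helper1.QcCech Groth.Agent.Helper1.LGen Groth.Agent.Helper1.CocycleIso
open Groth.Agent.Helper1 Groth.Agent.Helper1.SubSh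

section Restr

variable {X X' : Scheme.{u}} (j : X' ⟶ X) [IsOpenImmersion j] (L : X.Modules)

theorem gl_restrict {O' : X'.Opens} (m : Γ(L, j ''ᵁ O')) :
    j ''ᵁ (gl (L.restrict j) (show Γ(L.restrict j, O') from m)) = gl L m := by
  apply le_antisymm
  · apply le_gl L m (j.image_mono (gl_le _ _))
    apply TwForm.isGen_image_of_isGen_restrict j L
    exact isGen_gl (L.restrict j) (show Γ(L.restrict j, O') from m)
  · have h1 : gl L m ≤ j.opensRange := (gl_le L m).trans (j.image_le_opensRange O')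
    have h2 : j ''ᵁ (j ⁻¹ᵁ gl L m) = gl L m := image_preimage_eq_of_le j h1
    rw [← h2]
    apply j.image_mono
    have h3 : j ⁻¹ᵁ gl L m ≤ O' := by
      have := j.preimage_mono (gl_le L m)
      rwa [Scheme.Hom.preimage_image_eq] at this
    apply le_gl (L.restrict j) (show Γ(L.restrict j, O') from m) h3
    apply TwForm.isGen_restrict_of_isGen_image j L
    have h4 := isGen_of_le_gl L m h2.le
    exact h4

theorem appIso_inv_resR {U V : X'.Opens} (h : V ≤ U) (r : Γ(X', U)) :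
    (j.appIso V).inv (resR h r) = resR (j.image_mono h) ((j.appIso U).inv r) := by
  have := j.appIso_inv_naturality (homOfLE h).op
  exact ConcreteCategory.congr_hom this r

theorem appIso_hom_resR' {U V : X'.Opens} (h : V ≤ U) (r : Γ(X, j ''ᵁ U)) :
    (j.appIso V).hom (resR (j.image_mono h) r) = resR h ((j.appIso U).hom r) := by
  have := j.appIso_hom_naturality (homOfLE h).op
  exact ConcreteCategory.congr_hom this r

end Restr

section Local

variable {X : Scheme.{u}} (L : X.Modules)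

/-- generators of the ring of ratios on an open `G` (inside `O`) where `m` generates: functions
from the set `R` and ratios `m'/m` for `m'` in the set `Sg` -/
def gensG (O : X.Opens) (R : Set Γ(X, O)) (Sg : Set Γ(L, O)) (m : Γ(L, O)) (G : X.Opens)
    (hG : G ≤ O) : Set Γ(X, G) :=
  resR hG '' R ∪ {ρ | ∃ m' ∈ Sg, ρ • res L hG m = res L hG m'}

/-- the immersion criterion, in a local form with a flexible open `G` -/
def CritG (O : X.Opens) (R : Set Γ(X, O)) (Sg : Set Γ(L, O)) (m : Γ(L, O)) (G : X.Opens)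
    (hG : G ≤ O) (x : X) : Prop :=
  ∃ b ∈ Subring.closure (gensG L O R Sg m G hG), ∃ (D : X.Opens) (hDG : D ≤ G),
    X.basicOpen b = D ∧ x ∈ D ∧ IsAffineOpen D ∧
    ∀ f : Γ(X, D), ∃ (n : ℕ) (t : Γ(X, G)), t ∈ Subring.closure (gensG L O R Sg m G hG) ∧
      f * resR hDG b ^ n = resR hDG t

variable {L}

theorem gensG_mono {O : X.Opens} {R R₁ : Set Γ(X, O)} {Sg Sg₁ : Set Γ(L, O)} (hR : R ⊆ R₁)
    (hSg : Sg ⊆ Sg₁) (m : Γ(L, O)) (G : X.Opens) (hG : G ≤ O) :
    gensG L O R Sg m G hG ⊆ gensG L O R₁ Sg₁ m G hG := by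
  apply Set.union_subset_union (Set.image_mono hR)
  rintro ρ ⟨m', hm', h⟩
  exact ⟨m', hSg hm', h⟩

theorem CritG.mono {O : X.Opens} {R R₁ : Set Γ(X, O)} {Sg Sg₁ : Set Γ(L, O)} (hR : R ⊆ R₁)
    (hSg : Sg ⊆ Sg₁) {m : Γ(L, O)} {G : X.Opens} {hG : G ≤ O} {x : X}
    (h : CritG L O R Sg m G hG x) : CritG L O R₁ Sg₁ m G hG x := by
  obtain ⟨b, hb, D, hDG, hD, hx, haff, hf⟩ := h
  have hle := Subring.closure_mono (gensG_mono hR hSg m G hG)
  refine ⟨b, hle hb, D, hDG, hD, hx, haff, fun f => ?_⟩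
  obtain ⟨n, t, ht, hft⟩ := hf f
  exact ⟨n, t, hle ht, hft⟩

theorem CritG.congr_G {O : X.Opens} {R : Set Γ(X, O)} {Sg : Set Γ(L, O)} {m : Γ(L, O)}
    {G G₁ : X.Opens} (e : G = G₁) {hG : G ≤ O} {x : X} (h : CritG L O R Sg m G hG x) :
    CritG L O R Sg m G₁ (e ▸ hG) x := by
  subst e
  exact h

theorem resR_self {O : X.Opens} (h : O ≤ O) (r : Γ(X, O)) : resR h r = r := by
  have : (homOfLE h).op = 𝟙 _ := Subsingleton.elim _ _
  change (X.presheaf.map (homOfLE h).op).hom r = r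
  rw [this, CategoryTheory.Functor.map_id]
  rfl

theorem CritG.congr_O {O O₁ : X.Opens} (e : O = O₁) {R : Set Γ(X, O)} {Sg : Set Γ(L, O)}
    {m : Γ(L, O)} {R₁ : Set Γ(X, O₁)} {Sg₁ : Set Γ(L, O₁)} {m₁ : Γ(L, O₁)}
    (hR : ∀ r ∈ R, resR e.ge r ∈ R₁) (hSg : ∀ m' ∈ Sg, res L e.ge m' ∈ Sg₁)
    (hm : res L e.ge m = m₁) {G : X.Opens} {hG : G ≤ O} {x : X}
    (h : CritG L O R Sg m G hG x) : CritG L O₁ R₁ Sg₁ m₁ G (hG.trans e.le) x := by
  subst e
  rw [res_self] at hm
  subst hm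
  apply h.mono
  · intro r hr
    have := hR r hr
    rwa [resR_self] at this
  · intro m' hm'
    have := hSg m' hm'
    rwa [res_self] at this

end Local

section Link

variable {X Y : Scheme.{u}} (q : X ⟶ Y) (L : X.Modules)

theorem gensG_gl (U : Y.Opens) (Sg : Set Γ(L, q ⁻¹ᵁ U)) (m : Γ(L, q ⁻¹ᵁ U)) :
    gensG L (q ⁻¹ᵁ U) (Set.range (q.app U).hom) Sg m (gl L m) (gl_le L m) =
      Set.range ((resR (gl_le L m)).comp (q.app U).hom) ∪ (ratio L m '' Sg) := by
  unfold gensG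
  congr 1
  · rw [RingHom.coe_comp, Set.range_comp]
  · ext ρ
    constructor
    · rintro ⟨m', hm', h⟩
      exact ⟨m', hm', ratio_eq L m m' ρ h⟩
    · rintro ⟨m', hm', rfl⟩
      exact ⟨m', hm', ratio_spec L m m'⟩

theorem critAt_iff_critG (U : Y.Opens) (Sg : Set Γ(L, q ⁻¹ᵁ U)) (x : X) :
    CritAt q L U Sg x ↔ ∃ m ∈ Sg,
      CritG L (q ⁻¹ᵁ U) (Set.range (q.app U).hom) Sg m (gl L m) (gl_le L m) x := by
  constructor
  · rintro ⟨m, hm, b, hb, hxb, haff, hf⟩
    refine ⟨m, hm, b, ?_, X.basicOpen b, X.basicOpen_le b, rfl, hxb, haff, fun f => ?_⟩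
    · rw [gensG_gl]; exact hb
    · obtain ⟨n, t, ht, hft⟩ := hf f
      exact ⟨n, t, by rw [gensG_gl]; exact ht, hft⟩
  · rintro ⟨m, hm, b, hb, D, hDG, hD, hxb, haff, hf⟩
    subst hD
    rw [gensG_gl] at hb
    refine ⟨m, hm, b, hb, hxb, haff, fun f => ?_⟩
    obtain ⟨n, t, ht, hft⟩ := hf f
    rw [gensG_gl] at ht
    exact ⟨n, t, ht, hft⟩

end Link

section Image

variable {X X' : Scheme.{u}} (j : X' ⟶ X) [IsOpenImmersion j] (L : X.Modules)

theorem CritG.image {O' G' : X'.Opens} {hG' : G' ≤ O'} {R' : Set Γ(X', O')}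
    {Sg : Set Γ(L, j ''ᵁ O')} {m : Γ(L, j ''ᵁ O')} {x' : X'}
    (h : CritG (L.restrict j) O' R' (show Set Γ(L.restrict j, O') from Sg)
      (show Γ(L.restrict j, O') from m) G' hG' x') :
    CritG L (j ''ᵁ O') ((j.appIso O').inv.hom '' R') Sg m (j ''ᵁ G') (j.image_mono hG') (j x') := by
  obtain ⟨b', hb', D', hDG', hD', hx, haff, hf⟩ := h
  have hΦ : ∀ t' ∈ Subring.closure (gensG (L.restrict j) O' R'
      (show Set Γ(L.restrict j, O') from Sg) (show Γ(L.restrict j, O') from m) G' hG'),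
      (j.appIso G').inv.hom t' ∈ Subring.closure (gensG L (j ''ᵁ O')
        ((j.appIso O').inv.hom '' R') Sg m (j ''ᵁ G') (j.image_mono hG')) := by
    intro t' ht'
    have h1 : (j.appIso G').inv.hom t' ∈ (Subring.closure (gensG (L.restrict j) O' R'
      (show Set Γ(L.restrict j, O') from Sg) (show Γ(L.restrict j, O') from m) G' hG')).map
        (j.appIso G').inv.hom := Subring.mem_map.2 ⟨t', ht', rfl⟩
    rw [RingHom.map_closure] at h1
    refine Subring.closure_mono ?_ h1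
    rintro _ ⟨ρ', hρ', rfl⟩
    rcases hρ' with ⟨r', hr', rfl⟩ | ⟨m', hm', hρm⟩
    · left
      refine ⟨(j.appIso O').inv.hom r', ⟨r', hr', rfl⟩, ?_⟩
      exact (appIso_inv_resR j hG' r').symm
    · right
      refine ⟨m', hm', ?_⟩
      rw [smul_restrict] at hρm
      exact hρm
  refine ⟨(j.appIso G').inv.hom b', hΦ b' hb', j ''ᵁ D', j.image_mono hDG', ?_, ?_, ?_, fun f => ?_⟩
  · rw [← hD']
    exact (Scheme.image_basicOpen j b').symm
  · exact ⟨x', hx, rfl⟩
  · exact haff.image_of_isOpenImmersion j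
  · obtain ⟨n, t', ht', hft'⟩ := hf ((j.appIso D').hom.hom f)
    refine ⟨n, (j.appIso G').inv.hom t', hΦ t' ht', ?_⟩
    have h2 := congrArg (j.appIso D').inv.hom hft'
    rw [map_mul, map_pow] at h2
    have h3 : (j.appIso D').inv.hom ((j.appIso D').hom.hom f) = f :=
      congr($((j.appIso D').hom_inv_id) f)
    rw [h3] at h2
    have h4 := appIso_inv_resR j hDG' b'
    have h5 := appIso_inv_resR j hDG' t'
    change (j.appIso D').inv.hom (resR hDG' b') = _ at h4
    change (j.appIso D').inv.hom (resR hDG' t') = _ at h5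
    rw [h4, h5] at h2
    exact h2

end Image

section MorRestr

variable {X Y : Scheme.{u}} (q : X ⟶ Y) (L : X.Modules) (W : Y.Opens)

theorem appIso_inv_ι {X : Scheme.{u}} (O : X.Opens) (V : (↑O : Scheme.{u}).Opens) (r : Γ(↑O, V)) :
    (O.ι.appIso V).inv.hom r = (show Γ(X, O.ι ''ᵁ V) from r) := by
  rw [Scheme.Opens.ι_appIso]
  rfl

theorem resR_appIso_inv_morphismRestrict_app (V' : (↑W : Scheme.{u}).Opens) (y' : Γ(↑W, V')) :
    resR (image_morphismRestrict_preimage q W V').ge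
      (((q ⁻¹ᵁ W).ι.appIso ((q ∣_ W) ⁻¹ᵁ V')).inv.hom (((q ∣_ W).app V').hom y')) =
      (q.app (W.ι ''ᵁ V')).hom y' := by
  rw [appIso_inv_ι]
  have h1 := morphismRestrict_app q W V'
  have h2 : ((q ∣_ W).app V').hom y' =
      (X.presheaf.map (eqToHom (image_morphismRestrict_preimage q W V')).op).hom
        ((q.app (W.ι ''ᵁ V')).hom y') := ConcreteCategory.congr_hom h1 y'
  rw [h2]
  change ((X.presheaf.map (eqToHom (image_morphismRestrict_preimage q W V')).op) ≫
    (X.presheaf.map (homOfLE (image_morphismRestrict_preimage q W V').ge).op)).hom _ = _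
  rw [← Functor.map_comp]
  have : (eqToHom (image_morphismRestrict_preimage q W V')).op ≫
      (homOfLE (image_morphismRestrict_preimage q W V').ge).op = 𝟙 _ := Subsingleton.elim _ _
  rw [this, CategoryTheory.Functor.map_id]
  rfl

/-- the criterion for the restriction of `q` over an open `W` of the base gives the criterion
for `q` -/
theorem critAt_of_restrict (V' : (↑W : Scheme.{u}).Opens) (x' : ↑(q ⁻¹ᵁ W))
    (h : CritAt (q ∣_ W) (L.restrict (q ⁻¹ᵁ W).ι) V' Set.univ x') :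
    CritAt q L (W.ι ''ᵁ V') Set.univ ((q ⁻¹ᵁ W).ι x') := by
  rw [critAt_iff_critG] at h ⊢
  obtain ⟨m, -, hm⟩ := h
  have e := image_morphismRestrict_preimage q W V'
  have h1 := CritG.image (q ⁻¹ᵁ W).ι L (Sg := Set.univ) (m := m) hm
  have h2 := h1.congr_G (gl_restrict (q ⁻¹ᵁ W).ι L m)
  have h3 := h2.congr_O e (R₁ := Set.range (q.app (W.ι ''ᵁ V')).hom) (Sg₁ := Set.univ)
    (m₁ := res L e.ge m) (by
      rintro _ ⟨_, ⟨y', rfl⟩, rfl⟩
      exact ⟨y', (resR_appIso_inv_morphismRestrict_app q W V' y').symm⟩)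
    (fun _ _ => trivial) rfl
  refine ⟨res L e.ge m, trivial, ?_⟩
  exact h3.congr_G (gl_congr L e m _ rfl)

/-- generation for the restriction of `q` over an open `W` of the base gives generation for `q` -/
theorem exists_gl_of_restrict (V' : (↑W : Scheme.{u}).Opens) (x' : ↑(q ⁻¹ᵁ W))
    (h : ∃ m' : Γ(L.restrict (q ⁻¹ᵁ W).ι, (q ∣_ W) ⁻¹ᵁ V'), x' ∈ gl (L.restrict (q ⁻¹ᵁ W).ι) m') :
    ∃ m : Γ(L, q ⁻¹ᵁ (W.ι ''ᵁ V')), (q ⁻¹ᵁ W).ι x' ∈ gl L m := by
  obtain ⟨m', hm'⟩ := h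
  have e := image_morphismRestrict_preimage q W V'
  refine ⟨res L e.ge m', ?_⟩
  rw [← gl_congr L e m' _ rfl, ← gl_restrict (q ⁻¹ᵁ W).ι L m']
  exact ⟨x', hm', rfl⟩

end MorRestr

end Groth.Agent.Helper1.VT
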