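import Mathlib
import Groth.Agent.Lib.Helper1.VT17
import Groth.Agent.Lib.Helper1.VABC
import Groth.Agent.Lib.Helper1.InvQc
import Groth.Agent.Lib.Helper1.PushQc

/-!
# Relative very ampleness is local on the base (helper1 library, VT18)
-/

set_option autoImplicit false
universe u
open CategoryTheory CategoryTheory.Limits AlgebraicGeometry TopologicalSpace Opposite

namespace Groth.Agent.Helper1.VT

open Groth.Agent.Helper1.QcCech Groth.Agent.Helper1.LGen Groth.Agent.Helper1.CocycleIso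
open Groth.Agent.Helper1 Groth.Agent.Helper1.SubSh

/-- a relatively very ample module restricts to relatively very ample modules over opens of the
base -/
theorem isRelVeryAmple_restrict {X Y : Scheme.{u}} (q : X ⟶ Y) (L : X.Modules)
    (h : RelProj.IsRelVeryAmple q L) (U : Y.Opens) :
    RelProj.IsRelVeryAmple (q ∣_ U) (L.restrict (q ⁻¹ᵁ U).ι) := by
  have h1 := VABC.main12474 q U.ι (q ⁻¹ᵁ U).ι (q ∣_ U) (isPullback_morphismRestrict q U).flip L h
  exact isRelVeryAmple_of_iso _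
    ((Scheme.Modules.restrictFunctorIsoPullback (q ⁻¹ᵁ U).ι).app L).symm h1

/-- a morphism admitting a relatively very ample module is separated -/
theorem isSeparated_of_isRelVeryAmple {X Y : Scheme.{u}} (q : X ⟶ Y) (L : X.Modules)
    (h : RelProj.IsRelVeryAmple q L) : IsSeparated q := by
  obtain ⟨E, hE, 𝒮, j, hj, P, p, chart, hP, O1, lam, hO1, i, hi, hip, -⟩ := h
  subst hip
  have : IsSeparated p := RP1.isSeparated hP
  have : IsImmersion i := hi
  infer_instance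

theorem exists_gl_congr {X Y : Scheme.{u}} (q : X ⟶ Y) (L : X.Modules) {A B : Y.Opens} (e : A = B)
    (x : X) (h : ∃ m : Γ(L, q ⁻¹ᵁ A), x ∈ gl L m) : ∃ m : Γ(L, q ⁻¹ᵁ B), x ∈ gl L m := by
  subst e
  exact h

theorem critAt_univ_congr {X Y : Scheme.{u}} (q : X ⟶ Y) (L : X.Modules) {A B : Y.Opens} (e : A = B)
    (x : X) (h : CritAt q L A Set.univ x) : CritAt q L B Set.univ x := by
  subst e
  exact h

theorem sec_id {X Y : Scheme.{u}} (q : X ⟶ Y) (L : X.Modules) (U : Y.Opens)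
    (ε : Γ((Scheme.Modules.pushforward q).obj L, U)) :
    sec q (𝟙 ((Scheme.Modules.pushforward q).obj L)) U ε = ε := rfl

/-- **relative very ampleness is local on the base** -/
theorem isRelVeryAmple_of_openCover {X Y : Scheme.{u}} (q : X ⟶ Y) [QuasiCompact q]
    (L : X.Modules) (hL : PicF.IsInvertible L) {ι : Type u} (U : ι → Y.Opens)
    (hU : ⨆ i, U i = ⊤)
    (h : ∀ i, RelProj.IsRelVeryAmple (q ∣_ (U i)) (L.restrict (q ⁻¹ᵁ (U i)).ι)) :
    RelProj.IsRelVeryAmple q L := by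
  have hsep : IsSeparated q := by
    rw [IsZariskiLocalAtTarget.iff_of_iSup_eq_top (P := @IsSeparated) U hU]
    intro i
    exact isSeparated_of_isRelVeryAmple _ _ (h i)
  have : L.IsQuasicoherent := InvQc.isQuasicoherent_of_isInvertible L hL
  have hE : ((Scheme.Modules.pushforward q).obj L).IsQuasicoherent :=
    PushQc.isQuasicoherent_pushforward q L
  -- local data
  have hloc : ∀ (i : ι) (Ua : Y.AffineZariskiSite) (hUa : Ua.1 ≤ U i) (x : X) (hx : q x ∈ Ua.1),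
      (∃ m : Γ(L, q ⁻¹ᵁ Ua.1), x ∈ gl L m) ∧ CritAt q L Ua.1 Set.univ x := by
    intro i Ua hUa x hx
    obtain ⟨Ei, hEi, ui, hgeni, hcriti⟩ := exists_crit_of_isRelVeryAmple _ _ (h i)
    have himg : (U i).ι ''ᵁ ((U i).ι ⁻¹ᵁ Ua.1) = Ua.1 :=
      image_preimage_eq_of_le (U i).ι (by rw [Scheme.Opens.opensRange_ι]; exact hUa)
    have haff : IsAffineOpen ((U i).ι ⁻¹ᵁ Ua.1) := by
      rw [← Scheme.Hom.isAffineOpen_iff_of_isOpenImmersion (U i).ι, himg]
      exact Ua.2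
    let x' : ↑(q ⁻¹ᵁ (U i)) := ⟨x, hUa hx⟩
    have hx' : (q ∣_ (U i)) x' ∈ (U i).ι ⁻¹ᵁ Ua.1 := by
      change ((q ∣_ (U i)) x').1 ∈ Ua.1
      rw [morphismRestrict_base_coe]
      exact hx
    have hxx : (q ⁻¹ᵁ (U i)).ι x' = x := Scheme.Opens.ι_apply _ x'
    constructor
    · apply exists_gl_congr q L himg
      obtain ⟨ε, hε⟩ := hgeni ⟨_, haff⟩ x' hx'
      have := exists_gl_of_restrict q L (U i) ((U i).ι ⁻¹ᵁ Ua.1) x' ⟨_, hε⟩
      rw [hxx] at this
      exact this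
    · apply critAt_univ_congr q L himg
      have h0 := hcriti ⟨(U i).ι ⁻¹ᵁ Ua.1, haff⟩ x' hx'
      have h1 : CritAt (q ∣_ (U i)) (L.restrict (q ⁻¹ᵁ (U i)).ι) ((U i).ι ⁻¹ᵁ Ua.1) Set.univ x' :=
        CritAt.mono (q ∣_ (U i)) (L.restrict (q ⁻¹ᵁ (U i)).ι) (Set.subset_univ _) h0
      have := critAt_of_restrict q L (U i) ((U i).ι ⁻¹ᵁ Ua.1) x' h1
      rw [hxx] at this
      exact this
  apply isRelVeryAmple_of_crit q L ((Scheme.Modules.pushforward q).obj L) (𝟙 _)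
    (fun Ua => ∃ i, Ua.1 ≤ U i)
  · rintro Ua ⟨i, hi⟩ Ua' hle
    exact ⟨i, le_trans (Scheme.AffineZariskiSite.toOpens_mono hle) hi⟩
  · intro y
    have hy : y ∈ ⨆ i, U i := by rw [hU]; trivial
    obtain ⟨i, hi⟩ := Opens.mem_iSup.1 hy
    obtain ⟨_, ⟨V, hV, rfl⟩, hyV, hVU⟩ :=
      Y.isBasis_affineOpens.exists_subset_of_mem_open hi (U i).2
    exact ⟨⟨V, hV⟩, ⟨i, hVU⟩, hyV⟩
  · rintro Ua ⟨i, hi⟩ x hx
    obtain ⟨m, hm⟩ := (hloc i Ua hi x hx).1
    exact ⟨m, hm⟩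
  · intro x
    have hy : q x ∈ ⨆ i, U i := by rw [hU]; trivial
    obtain ⟨i, hi⟩ := Opens.mem_iSup.1 hy
    obtain ⟨_, ⟨V, hV, rfl⟩, hyV, hVU⟩ :=
      Y.isBasis_affineOpens.exists_subset_of_mem_open hi (U i).2
    refine ⟨⟨V, hV⟩, ⟨i, hVU⟩, hyV, ?_⟩
    refine CritAt.mono q L ?_ (hloc i ⟨V, hV⟩ hVU x hyV).2
    intro m _
    exact ⟨m, rfl⟩

end Groth.Agent.Helper1.VT
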