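import Mathlib
import Groth.Agent.Lib.Helper1.VT18
import Groth.Agent.Lib.Helper1.VA5
import Groth.Agent.Lib.Helper1.ProjVA2

/-!
# The projective-space form of very ampleness implies the bundle form (helper1 library)
-/

set_option autoImplicit false
universe u
open CategoryTheory CategoryTheory.Limits AlgebraicGeometry TopologicalSpace Opposite
open HomogeneousLocalization

namespace Groth.Agent.Helper1.PnVA

open Groth.Agent.Helper1.QcCech Groth.Agent.Helper1.LGen Groth.Agent.Helper1.CocycleIso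
open Groth.Agent.Helper1 Groth.Agent.Helper1.SubSh Groth.Agent.Helper1.VT
open Groth.Agent.Helper1.ProjUP7 Groth.Agent.Helper1.AmpleLib

section General

variable {X : Scheme.{u}} (L : X.Modules)

theorem gl_top_eq_genLocus (m : Γ(L, ⊤)) :
    gl L m = CohB1.genLocus L (TwistAmple.homOfSec L m) := by
  ext x
  change x ∈ gl L m ↔ x ∈ CohB1.genLocus L (TwistAmple.homOfSec L m)
  rw [mem_gl_iff, mem_genLocus_iff_isGen]
  constructor
  · rintro ⟨V, h, hxV, hg⟩
    exact ⟨V, hxV, by rw [secVal_homOfSec]; exact hg⟩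
  · rintro ⟨V, hxV, hg⟩
    rw [secVal_homOfSec] at hg
    exact ⟨V, le_top, hxV, hg⟩

end General

section Proj

variable (n : ℕ) (R : Type u) [CommRing R]

local notation "𝒬" => CohB1.polyGrading n R
local notation "tt" => ProjUP8.tX n R
local notation "htt" => ProjUP8.htX n R

theorem gl_T (k : Fin (n + 1)) : gl (O1 𝒬) (T 𝒬 tt htt k) = D 𝒬 tt k := by
  rw [gl_top_eq_genLocus]
  exact genLocus_T 𝒬 tt htt (ProjUP8.hcov n R) k

/-- monomial fractions are products of the coordinate ratios -/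
theorem mk_prod_eq (k : Fin (n + 1)) (a : ℕ) (ai : Fin (n + 1) → ℕ) (hai : ∑ i, ai i • 1 = a • 1) :
    Away.mk 𝒬 (htt k) a (∏ i, tt i ^ ai i)
        (hai ▸ SetLike.prod_pow_mem_graded _ _ _ _ fun i _ ↦ htt i) =
      ∏ i, (Away.mk 𝒬 (htt k) 1 (tt i) (h11 𝒬 tt htt i)) ^ ai i := by
  apply HomogeneousLocalization.val_injective
  have hsum : ∑ i, ai i = a := by simpa using hai
  rw [Away.val_mk]
  have : (∏ i, (Away.mk 𝒬 (htt k) 1 (tt i) (h11 𝒬 tt htt i)) ^ ai i).val =
      ∏ i, (Localization.mk (tt i) ⟨tt k ^ 1, ⟨1, rfl⟩⟩ :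
        Localization.Away (tt k)) ^ ai i := by
    rw [← HomogeneousLocalization.algebraMap_apply, map_prod]
    refine Finset.prod_congr rfl fun i _ => ?_
    rw [map_pow, HomogeneousLocalization.algebraMap_apply, Away.val_mk]
  rw [this]
  simp only [Localization.mk_pow, Localization.mk_prod]
  congr 1
  apply Subtype.ext
  simp only [SubmonoidClass.coe_pow, pow_one,
    Finset.prod_pow_eq_pow_sum, hsum]

/-- a subring of the degree zero localization containing the constants and the coordinate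
ratios is everything -/
theorem away_subring_eq_top (k : Fin (n + 1)) (Tr : Subring (Away 𝒬 (tt k)))
    (h0 : ∀ a : 𝒬 0, fromZeroRingHom 𝒬 _ a ∈ Tr)
    (h1 : ∀ l, Away.mk 𝒬 (htt k) 1 (tt l) (h11 𝒬 tt htt l) ∈ Tr) : Tr = ⊤ := by
  classical
  rw [eq_top_iff]
  rintro z -
  have hx : Algebra.adjoin (𝒬 0) (Set.range tt) = ⊤ := by
    rw [eq_top_iff]
    intro p hp
    clear hp
    have h2 : p ∈ Algebra.adjoin R (Set.range tt) := by
      rw [MvPolynomial.adjoin_range_X]; trivial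
    induction h2 using Algebra.adjoin_induction with
    | mem x hx => exact Algebra.subset_adjoin hx
    | algebraMap r =>
      exact Subalgebra.algebraMap_mem _ (algebraMap R (𝒬 0) r)
    | add x y _ _ hx hy => exact Subalgebra.add_mem _ hx hy
    | mul x y _ _ hx hy => exact Subalgebra.mul_mem _ hx hy
  have hspan := Away.span_mk_prod_pow_eq_top (htt k) tt hx (fun _ => 1) htt
  have hz : z ∈ (⊤ : Submodule (𝒬 0) _) := trivial
  rw [← hspan] at hz
  induction hz using Submodule.span_induction with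
  | mem y hy =>
    obtain ⟨a, ai, hai, rfl⟩ := hy
    rw [mk_prod_eq n R k a ai hai]
    exact Subring.prod_mem _ fun i _ => Subring.pow_mem _ (h1 i) _
  | zero => exact Subring.zero_mem _
  | add x y _ _ hx hy => exact Subring.add_mem _ hx hy
  | smul a x _ hx =>
    rw [Algebra.smul_def]
    exact Subring.mul_mem _ (h0 a) hx

local notation "qq" => ProjVA2.q (CohB1.polyGrading n R)

/-- the coordinate section as a section over the preimage of the whole base -/
noncomputable def Tq (k : Fin (n + 1)) : Γ(O1 𝒬, qq ⁻¹ᵁ ⊤) := T 𝒬 tt htt k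

theorem gl_Tq (k : Fin (n + 1)) : gl (O1 𝒬) (Tq n R k) = D 𝒬 tt k := gl_T n R k

theorem ratio_Tq (k l : Fin (n + 1)) :
    ratio (O1 𝒬) (Tq n R k) (Tq n R l) = resR (gl_Tq n R k).le (c 𝒬 tt htt k l) := by
  apply ratio_eq
  have h := congrArg (res (O1 𝒬) (gl_Tq n R k).le) (res_T 𝒬 tt htt k l)
  rw [res_smul, res_res, res_res] at h
  exact h.symm

theorem mem_TS_projSpace (Sg : Set Γ(O1 𝒬, qq ⁻¹ᵁ ⊤)) (hSg : ∀ l, Tq n R l ∈ Sg)
    (k : Fin (n + 1)) (f : Γ(Proj 𝒬, D 𝒬 tt k)) :
    resR (gl_Tq n R k).le f ∈ TS qq (O1 𝒬) ⊤ (Tq n R k) Sg := by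
  have hiso : IsIso (Proj.awayToSection 𝒬 (tt k)) :=
    (Proj.basicOpenIsoAway 𝒬 (tt k) (htt k) one_pos).isIso_hom
  obtain ⟨z, rfl⟩ : ∃ z, (Proj.awayToSection 𝒬 (tt k)).hom z = f :=
    ((ConcreteCategory.isIso_iff_bijective _).1 hiso).2 f
  have htop : (TS qq (O1 𝒬) ⊤ (Tq n R k) Sg).comap
      ((resR (gl_Tq n R k).le).comp (Proj.awayToSection 𝒬 (tt k)).hom) = ⊤ := by
    apply away_subring_eq_top n R k
    · intro a
      obtain ⟨r, rfl⟩ := (ProjSpaceLib.algebraMap_bijective n R).2 a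
      apply Subring.subset_closure
      left
      refine ⟨(Scheme.ΓSpecIso (CommRingCat.of R)).inv.hom r, ?_⟩
      have hle : D 𝒬 tt k ≤ qq ⁻¹ᵁ ⊤ := le_top
      have h1 := ProjVA2.q_appLE 𝒬 (htt k) one_pos hle
        ((Scheme.ΓSpecIso (CommRingCat.of R)).inv.hom r)
      have h2 : (Scheme.ΓSpecIso (CommRingCat.of R)).hom.hom
          ((Scheme.ΓSpecIso (CommRingCat.of R)).inv.hom r) = r :=
        congr($((Scheme.ΓSpecIso (CommRingCat.of R)).inv_hom_id) r)
      rw [h2] at h1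
      change resR (gl_le _ _) (((ProjVA2.q (CohB1.polyGrading n R)).app ⊤).hom _) =
        resR (gl_Tq n R k).le _
      rw [← h1]
      change _ = resR (gl_Tq n R k).le (resR hle (((ProjVA2.q (CohB1.polyGrading n R)).app ⊤).hom _))
      rw [resR_resR]
    · intro l
      apply Subring.subset_closure
      right
      exact ⟨Tq n R l, hSg l, ratio_Tq n R k l⟩
  have hz : z ∈ (TS qq (O1 𝒬) ⊤ (Tq n R k) Sg).comap
      ((resR (gl_Tq n R k).le).comp (Proj.awayToSection 𝒬 (tt k)).hom) := by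
    rw [htop]; trivial
  exact hz

/-- the immersion criterion on projective space over a ring, for the coordinate sections -/
theorem critAt_projSpace (Sg : Set Γ(O1 𝒬, qq ⁻¹ᵁ ⊤)) (hSg : ∀ l, Tq n R l ∈ Sg)
    (x : Proj 𝒬) : CritAt qq (O1 𝒬) ⊤ Sg x := by
  obtain ⟨k, hk⟩ := ProjUP8.hcov n R x
  have hgl := gl_Tq n R k
  refine CritAt.mk' qq (O1 𝒬) (Tq n R k) (hSg k) 1 (Subring.one_mem _) (D 𝒬 tt k) ?_ hk
    (Proj.isAffineOpen_basicOpen 𝒬 _ (htt k) one_pos) fun f => ?_
  · rw [Scheme.basicOpen_of_isUnit _ isUnit_one]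
    exact hgl
  · refine ⟨0, resR hgl.le f, mem_TS_projSpace n R Sg hSg k f, ?_⟩
    rw [pow_zero, mul_one]
    exact ((resR_resR _ _ f).trans (resR_self _ f)).symm

theorem isInvertible_O1 : PicF.IsInvertible (O1 𝒬) := by
  have hc : CompactSpace (Proj 𝒬) := VA5.compactSpace_projSpace n R
  have := TwistAmple.isAmple_twist (𝒜 := CohB1.polyGrading n R) (m := 1) one_pos (fun x => by
    obtain ⟨i, hi⟩ := ProjSpaceLib.exists_X_notMem n R x
    exact ⟨⟨MvPolynomial.X i, MvPolynomial.isHomogeneous_X R i⟩, hi⟩)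
  exact this.1

/-- `O(1)` on projective space over a ring is relatively very ample -/
theorem isRelVeryAmple_q : RelProj.IsRelVeryAmple qq (O1 𝒬) := by
  have hinv : PicF.IsInvertible (O1 𝒬) := isInvertible_O1 n R
  have : (O1 𝒬).IsQuasicoherent := InvQc.isQuasicoherent_of_isInvertible _ hinv
  have hqc : QuasiCompact qq := VA5.quasiCompact_toSpec n R
  have hsep : IsSeparated qq := VA5.isSeparated_toSpec n R
  have hE : ((Scheme.Modules.pushforward qq).obj (O1 𝒬)).IsQuasicoherent :=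
    PushQc.isQuasicoherent_pushforward qq (O1 𝒬)
  apply isRelVeryAmple_of_crit qq (O1 𝒬) ((Scheme.Modules.pushforward qq).obj (O1 𝒬)) (𝟙 _)
    (fun _ => True)
  · intro _ _ _ _; trivial
  · intro y
    obtain ⟨U, hU, hyU⟩ := RP6.exists_affine_mem y
    exact ⟨⟨U, hU⟩, trivial, hyU⟩
  · intro U _ x hx
    obtain ⟨k, hk⟩ := ProjUP8.hcov n R x
    have hle : qq ⁻¹ᵁ U.1 ≤ qq ⁻¹ᵁ ⊤ := le_top
    refine ⟨res (O1 𝒬) hle (Tq n R k), ?_⟩
    change x ∈ gl (O1 𝒬) (res (O1 𝒬) hle (Tq n R k))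
    rw [gl_res, gl_Tq]
    exact ⟨hk, hx⟩
  · intro x
    refine ⟨⟨⊤, isAffineOpen_top _⟩, trivial, trivial, ?_⟩
    exact critAt_projSpace n R (Set.range (sec qq (𝟙 ((Scheme.Modules.pushforward qq).obj (O1 𝒬))) ⊤))
      (fun l => ⟨Tq n R l, rfl⟩) x

theorem isRelVeryAmple_projSpace :
    RelProj.IsRelVeryAmple (CohB1.ProjSpace.toSpec n R) (Twist.twistProjSpace n R 1) :=
  isRelVeryAmple_q n R

end Proj

section Final

/-- pulling back along an immersion preserves relative very ampleness -/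
theorem isRelVeryAmple_comp_immersion {X P Y : Scheme.{u}} (i : X ⟶ P) [IsImmersion i]
    (p : P ⟶ Y) (M : P.Modules) (h : RelProj.IsRelVeryAmple p M) :
    RelProj.IsRelVeryAmple (i ≫ p) ((Scheme.Modules.pullback i).obj M) := by
  obtain ⟨E, hE, 𝒮, j, hj, P', p', chart, hP, O1, lam, hO1, i', hi', hip', ⟨eL⟩⟩ := h
  have : IsImmersion i' := hi'
  exact ⟨E, hE, 𝒮, j, hj, P', p', chart, hP, O1, lam, hO1, i ≫ i', inferInstance,
    by rw [Category.assoc, hip'],
    ⟨(Scheme.Modules.pullback i).mapIso eL ≪≫ (Scheme.Modules.pullbackComp i i').app O1⟩⟩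

/-- `O(1)` on projective space over any base is relatively very ample -/
theorem isRelVeryAmple_twistOver (n : ℕ) (S : Scheme.{u}) :
    RelProj.IsRelVeryAmple (CohB1.ProjSpaceOver.toBase n S) (Twist.twistOver n S 1) :=
  VABC.main12474 (CohB1.ProjSpace.toSpec n (ULift.{u} ℤ)) (specULiftZIsTerminal.from S)
    (pullback.fst _ _) (pullback.snd _ _) (IsPullback.of_hasPullback _ _)
    (Twist.twistProjSpace n (ULift.{u} ℤ) 1) (isRelVeryAmple_projSpace n (ULift.{u} ℤ))

/-- **the projective space form of relative very ampleness implies the bundle form** -/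
theorem isRelVeryAmple_of_isRelVeryAmplePn {X S : Scheme.{u}} (f : X ⟶ S) (L : X.Modules)
    (h : RelAmple.IsRelVeryAmplePn f L) : RelProj.IsRelVeryAmple f L := by
  obtain ⟨n, i, hi, hif, ⟨e⟩⟩ := h
  subst hif
  have : IsImmersion i := hi
  exact isRelVeryAmple_of_iso _ e.symm
    (isRelVeryAmple_comp_immersion i _ _ (isRelVeryAmple_twistOver n S))

end Final

end Groth.Agent.Helper1.PnVA
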