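import Mathlib
import Groth.Agent.Lib.Helper1.CounitLib

set_option autoImplicit false
universe u
open CategoryTheory CategoryTheory.Limits AlgebraicGeometry TopologicalSpace Opposite

namespace Groth.Agent.Helper1.RelAmpleLib

open Groth.Agent.Helper1.QcCech Groth.Agent.Helper1.SubSh Groth.Agent.Helper1
open Groth.Agent.Helper1.TwForm Groth.Agent.Helper1.AmpleLib Groth.Agent.Helper1.CounitLib

variable {X Y : Scheme.{u}}

/-- restriction to an open subscheme commutes with the tensor product of invertible modules -/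
noncomputable def restrictTensorModIso (j : Y ⟶ X) [IsOpenImmersion j] {L L' : X.Modules}
    (hloc : LocFrame (L.restrict j) (L'.restrict j)) :
    (CohB1.tensorMod L L').restrict j ≅ CohB1.tensorMod (L.restrict j) (L'.restrict j) :=
  Tw.iso ((((Tw.fst L L').tensorR (Tw.snd L L')).restrict j).ofIsoF
      (Scheme.Modules.restrictUnitIso j))
    ((((Tw.fst L L').restrict j).ofIsoF (Scheme.Modules.restrictUnitIso j)).tensorR
      (((Tw.snd L L').restrict j).ofIsoF (Scheme.Modules.restrictUnitIso j))) hloc

/-- a variant of `restrictTensorPowIso` with the invertibility of the restriction only -/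
noncomputable def restrictTensorPowIso' (j : Y ⟶ X) [IsOpenImmersion j] {L : X.Modules}
    (hloc : LocFrame (L.restrict j) (L.restrict j)) (n : ℕ) :
    (CohB1.tensorPow L n).restrict j ≅ CohB1.tensorPow (L.restrict j) n :=
  Tw.iso ((((Tw.fst L L).pow n).restrict j).ofIsoF (Scheme.Modules.restrictUnitIso j))
    (((((Tw.fst L L).restrict j).ofIsoF (Scheme.Modules.restrictUnitIso j)).pow n).cast
      (by ring) (by ring)) hloc

variable {S : Scheme.{u}} (f : X ⟶ S)

/-- **EGA II 4.6.13 (ii bis)**: `L ⊗ L'` is relatively ample when `L` is and a power of `L'` is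
generated by its direct image -/
theorem isRelAmple_tensor (L L' : X.Modules) (hL : RelAmple.IsRelAmple f L)
    (hL' : PicF.IsInvertible L') (n : ℕ) (hn : 0 < n)
    (hepi : Epi ((Scheme.Modules.pullbackPushforwardAdjunction f).counit.app
      (CohB1.tensorPow L' n))) :
    RelAmple.IsRelAmple f (CohB1.tensorMod L L') := by
  obtain ⟨n', rfl⟩ : ∃ n', n = n' + 1 := ⟨n - 1, by omega⟩
  refine ⟨hL.1, fun V => ?_⟩
  have hLU := hL.2 V
  have : QuasiCompact f := hL.1
  set U : X.Opens := f ⁻¹ᵁ V.1 with hU
  have hL'U : PicF.IsInvertible (L'.restrict U.ι) := isInvertible_restrict U.ι hL'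
  have hloc := locFrame_of_isInvertible hLU.1 hL'U
  have hcs : CompactSpace (↑U : Scheme.{u}) := hLU.2.1
  have hqsU : QuasiSeparatedSpace ↥U := quasiSeparatedSpace_of_isAmple hLU
  have hc : IsCompact (U : Set X) := isCompact_iff_compactSpace.mpr hcs
  have hqs : IsQuasiSeparated (U : Set X) :=
    (isQuasiSeparated_iff_quasiSeparatedSpace _ U.isOpen).2 hqsU
  have : (CohB1.tensorPow L' (n' + 1)).IsQuasicoherent :=
    InvQc.isQuasicoherent_of_isInvertible _ (isInvertible_tensorPow hL' (n' + 1))
  have hgg := isGloballyGenerated_restrict_of_spannedBy (CohB1.tensorPow L' (n' + 1)) U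
    (spannedBy_of_epi_counit' f _ hepi V.1 V.2 hc hqs)
  have hgg' := isGloballyGenerated_of_iso (restrictTensorPowIso U.ι hL' (n' + 1)) hgg
  have h1 : CohB1.IsAmple (CohB1.tensorMod (L.restrict U.ι) (L'.restrict U.ι)) := by
    apply isAmple_tensor hLU hL'U
    intro y
    obtain ⟨s', hs'⟩ := exists_section_of_globallyGenerated
      (isInvertible_tensorPow hL'U (n' + 1)) hgg' y
    exact ⟨n', s', hs'⟩
  exact TwistAmpleOpen.isAmple_of_iso (restrictTensorModIso U.ι hloc).symm h1

end Groth.Agent.Helper1.RelAmpleLib
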