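import Mathlib
import Groth.Agent.Lib.Helper1.VA5

set_option autoImplicit false
universe u

open CategoryTheory CategoryTheory.Limits AlgebraicGeometry TopologicalSpace Opposite

namespace Groth.Agent.Helper1.VA6

open Groth.Agent.Helper1.QcCech Groth.Agent.Helper1.SubSh Groth.Agent.Helper1.LGen
open Groth.Agent.Helper1 Groth.Agent.Helper1.AmpleLib Groth.Agent.Helper1.TwForm
open Groth.Agent.Helper1.VA1 Groth.Agent.Helper1.VA2 Groth.Agent.Helper1.VA3
open Groth.Agent.Helper1.VA4 Groth.Agent.Helper1.VA5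

variable {X S : Scheme.{u}}

theorem isRelAmple_of_tensorPow (g : X ⟶ S) {M : X.Modules} (hM : PicF.IsInvertible M) (d : ℕ)
    (hd : 0 < d) (h : RelAmple.IsRelAmple g (CohB1.tensorPow M d)) : RelAmple.IsRelAmple g M := by
  refine ⟨h.1, fun W => ?_⟩
  have h1 := h.2 W
  have h2 := TwistAmpleOpen.isAmple_of_iso (restrictTensorPowIso (g ⁻¹ᵁ W.1).ι hM d) h1
  exact (isAmple_tensorPow_iff (isInvertible_restrict _ hM) d hd).2 h2

theorem isRelAmple_iff_locally_veryAmple (f : X ⟶ S) [LocallyOfFiniteType f] [QuasiCompact f]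
    (L : X.Modules) (hLinv : PicF.IsInvertible L) :
    RelAmple.IsRelAmple f L ↔
      ∃ (ι : Type u) (V : ι → S.Opens), (⨆ j, V j) = ⊤ ∧
        ∀ j, ∃ d : ℕ, 0 < d ∧
          RelAmple.IsRelVeryAmplePn (f ∣_ V j) ((CohB1.tensorPow L d).restrict (f ⁻¹ᵁ V j).ι) := by
  constructor
  · intro hL
    refine ⟨S.affineOpens, fun j => j.1, iSup_affineOpens_eq_top S, fun j => ?_⟩
    obtain ⟨n₀, hn₀⟩ := exists_veryAmple_powers' (f ∣_ j.1) (hL.2 j)
    refine ⟨n₀ + 1, Nat.succ_pos _, ?_⟩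
    exact isRelVeryAmplePn_of_iso _ (restrictTensorPowIso (f ⁻¹ᵁ j.1).ι hLinv (n₀ + 1)).symm
      (hn₀ _ (Nat.le_succ _))
  · rintro ⟨ι, V, hV, h⟩
    rw [isRelAmple_iff_of_openCover f L V hV]
    intro j
    obtain ⟨d, hd, hva⟩ := h j
    have hva' := isRelVeryAmplePn_of_iso _ (restrictTensorPowIso (f ⁻¹ᵁ V j).ι hLinv d) hva
    exact isRelAmple_of_tensorPow _ (isInvertible_restrict _ hLinv) d hd
      (isRelAmple_of_isRelVeryAmplePn _ hva')

end Groth.Agent.Helper1.VA6
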