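import Mathlib
import Groth.Agent.Lib.Helper1.PnVA
import Groth.Agent.Lib.Helper1.VA6
import Groth.Agent.Lib.Helper1.RelAmpleLib
import Groth.Agent.Lib.Helper1.TwistTens

/-!
# Relatively ample modules have relatively very ample powers (helper1 library, VT19)
-/

set_option autoImplicit false
universe u
open CategoryTheory CategoryTheory.Limits AlgebraicGeometry TopologicalSpace Opposite

namespace Groth.Agent.Helper1.VT

open Groth.Agent.Helper1.QcCech Groth.Agent.Helper1.LGen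
open Groth.Agent.Helper1 Groth.Agent.Helper1.SubSh Groth.Agent.Helper1.AmpleLib
open Groth.Agent.Helper1.TwForm

theorem eventually_of_affine_local {Y : Scheme.{u}} [CompactSpace Y] (P : ℕ → Y.Opens → Prop)
    (h : ∀ V : Y.affineOpens, ∃ n₀, ∀ n, n₀ ≤ n → P n V.1) :
    ∃ n₀, ∀ n, n₀ ≤ n → ∃ (ι : Type u) (U : ι → Y.Opens), ⨆ i, U i = ⊤ ∧ ∀ i, P n (U i) := by
  classical
  choose n₀ hn₀ using h
  obtain ⟨t, ht⟩ := isCompact_univ.elim_finite_subcover
    (fun V : Y.affineOpens => (V.1 : Set Y)) (fun V => V.1.2) (by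
      intro y _
      obtain ⟨U, hU, hyU⟩ := RP6.exists_affine_mem y
      exact Set.mem_iUnion.2 ⟨⟨U, hU⟩, hyU⟩)
  refine ⟨t.sup n₀, fun n hn => ⟨{V : Y.affineOpens // V ∈ t}, fun V => V.1.1, ?_,
    fun V => hn₀ V.1 n (le_trans (Finset.le_sup V.2) hn)⟩⟩
  rw [eq_top_iff]
  intro y _
  have := ht (Set.mem_univ y)
  simp only [Set.mem_iUnion] at this
  obtain ⟨V, hVt, hyV⟩ := this
  exact Opens.mem_iSup.2 ⟨⟨V, hVt⟩, hyV⟩

/-- **a relatively ample module on a scheme of finite type over a quasi-compact base has very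
ample twisted powers** -/
theorem eventually_tensorPow_tensor_isRelVeryAmple {X Y : Scheme.{u}} [CompactSpace Y] (f : X ⟶ Y)
    [QuasiCompact f] [LocallyOfFiniteType f] (L L' : X.Modules) (hL : PicF.IsInvertible L)
    (hL' : PicF.IsInvertible L') (h : RelAmple.IsRelAmple f L) :
    ∃ n₀ : ℕ, ∀ n : ℕ, n₀ ≤ n →
      RelProj.IsRelVeryAmple f (CohB1.tensorMod (CohB1.tensorPow L n) L') := by
  obtain ⟨n₀, hn₀⟩ := eventually_of_affine_local
    (fun n V => RelProj.IsRelVeryAmple (f ∣_ V)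
      ((CohB1.tensorMod (CohB1.tensorPow L n) L').restrict (f ⁻¹ᵁ V).ι)) (by
    intro V
    have hV := h.2 V
    have hL'V : PicF.IsInvertible (L'.restrict (f ⁻¹ᵁ V.1).ι) := isInvertible_restrict _ hL'
    obtain ⟨n₀, hn₀⟩ := VA3.exists_veryAmple_powers (f ∣_ V.1) hV hL'V
    refine ⟨n₀, fun n hn => ?_⟩
    have h1 := PnVA.isRelVeryAmple_of_isRelVeryAmplePn _ _ (hn₀ n hn)
    have hloc := locFrame_of_isInvertible
      (isInvertible_restrict (f ⁻¹ᵁ V.1).ι (isInvertible_tensorPow hL n)) hL'V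
    exact isRelVeryAmple_of_iso _
      (RelAmpleLib.restrictTensorModIso (f ⁻¹ᵁ V.1).ι hloc ≪≫
        TwistTens.tensorModCongrLeft (restrictTensorPowIso (f ⁻¹ᵁ V.1).ι hL n) _).symm h1)
  refine ⟨n₀, fun n hn => ?_⟩
  obtain ⟨ι, U, hU, hva⟩ := hn₀ n hn
  exact isRelVeryAmple_of_openCover f _
    (isInvertible_tensorMod (isInvertible_tensorPow hL n) hL') U hU hva

theorem eventually_tensorPow_isRelVeryAmple {X Y : Scheme.{u}} [CompactSpace Y] (f : X ⟶ Y)
    [QuasiCompact f] [LocallyOfFiniteType f] (L : X.Modules) (hL : PicF.IsInvertible L)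
    (h : RelAmple.IsRelAmple f L) :
    ∃ n₀ : ℕ, 0 < n₀ ∧ ∀ n : ℕ, n₀ ≤ n → RelProj.IsRelVeryAmple f (CohB1.tensorPow L n) := by
  obtain ⟨n₀, hn₀⟩ := eventually_of_affine_local
    (fun n V => RelProj.IsRelVeryAmple (f ∣_ V)
      ((CohB1.tensorPow L n).restrict (f ⁻¹ᵁ V).ι)) (by
    intro V
    have hV := h.2 V
    obtain ⟨n₀, hn₀⟩ := VA4.exists_veryAmple_powers' (f ∣_ V.1) hV
    refine ⟨n₀, fun n hn => ?_⟩
    have h1 := PnVA.isRelVeryAmple_of_isRelVeryAmplePn _ _ (hn₀ n hn)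
    exact isRelVeryAmple_of_iso _ (restrictTensorPowIso (f ⁻¹ᵁ V.1).ι hL n).symm h1)
  refine ⟨max n₀ 1, lt_of_lt_of_le one_pos (le_max_right _ _), fun n hn => ?_⟩
  obtain ⟨ι, U, hU, hva⟩ := hn₀ n (le_trans (le_max_left _ _) hn)
  exact isRelVeryAmple_of_openCover f _ (isInvertible_tensorPow hL n) U hU hva

end Groth.Agent.Helper1.VT
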