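import Mathlib
import Groth.Agent.Lib.Helper1.VT19

/-!
# Finitely many sections suffice in the very ampleness criterion, for morphisms of finite type
(helper1 library, VT20)
-/

set_option autoImplicit false
universe u
open CategoryTheory CategoryTheory.Limits AlgebraicGeometry TopologicalSpace Opposite

namespace Groth.Agent.Helper1.VT

open Groth.Agent.Helper1.QcCech Groth.Agent.Helper1.LGen
open Groth.Agent.Helper1 Groth.Agent.Helper1.SubSh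

/-- membership in the subring generated by `A ∪ f '' B` only uses finitely many elements of `B` -/
theorem exists_finset_of_mem_closure {R T : Type*} [Ring R] (A : Set R) (f : T → R) (B : Set T)
    (x : R) (hx : x ∈ Subring.closure (A ∪ f '' B)) :
    ∃ B₀ : Finset T, (↑B₀ : Set T) ⊆ B ∧ x ∈ Subring.closure (A ∪ f '' (↑B₀ : Set T)) := by
  classical
  have hmono : ∀ {B₁ B₂ : Finset T}, B₁ ⊆ B₂ →
      Subring.closure (A ∪ f '' (↑B₁ : Set T)) ≤ Subring.closure (A ∪ f '' (↑B₂ : Set T)) :=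
    fun h => Subring.closure_mono (Set.union_subset_union_right _ (Set.image_mono (by exact_mod_cast h)))
  induction hx using Subring.closure_induction with
  | mem x hx =>
    rcases hx with hx | ⟨b, hb, rfl⟩
    · exact ⟨∅, by simp, Subring.subset_closure (Or.inl hx)⟩
    · exact ⟨{b}, by simpa using hb, Subring.subset_closure (Or.inr ⟨b, by simp, rfl⟩)⟩
  | zero => exact ⟨∅, by simp, Subring.zero_mem _⟩
  | one => exact ⟨∅, by simp, Subring.one_mem _⟩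
  | add x y _ _ hx hy =>
    obtain ⟨B₁, h1, hx⟩ := hx
    obtain ⟨B₂, h2, hy⟩ := hy
    refine ⟨B₁ ∪ B₂, by simpa using ⟨h1, h2⟩, Subring.add_mem _ ?_ ?_⟩
    · exact hmono Finset.subset_union_left hx
    · exact hmono Finset.subset_union_right hy
  | neg x _ hx =>
    obtain ⟨B₁, h1, hx⟩ := hx
    exact ⟨B₁, h1, Subring.neg_mem _ hx⟩
  | mul x y _ _ hx hy =>
    obtain ⟨B₁, h1, hx⟩ := hx
    obtain ⟨B₂, h2, hy⟩ := hy
    refine ⟨B₁ ∪ B₂, by simpa using ⟨h1, h2⟩, Subring.mul_mem _ ?_ ?_⟩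
    · exact hmono Finset.subset_union_left hx
    · exact hmono Finset.subset_union_right hy

section Finite

variable {X Y : Scheme.{u}} (q : X ⟶ Y) (L : X.Modules)

theorem exists_finset_of_mem_TS (U : Y.Opens) (m : Γ(L, q ⁻¹ᵁ U)) (Sg : Set Γ(L, q ⁻¹ᵁ U))
    (t : Γ(X, gl L m)) (ht : t ∈ TS q L U m Sg) :
    ∃ F : Finset Γ(L, q ⁻¹ᵁ U), (↑F : Set Γ(L, q ⁻¹ᵁ U)) ⊆ Sg ∧ t ∈ TS q L U m ↑F :=
  exists_finset_of_mem_closure _ (ratio L m) Sg t ht

theorem CritAt.exists_finset [LocallyOfFiniteType q] (U : Y.Opens) (hU : IsAffineOpen U)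
    (Sg : Set Γ(L, q ⁻¹ᵁ U)) (x : X) (h : CritAt q L U Sg x) :
    ∃ (Sg₀ : Finset Γ(L, q ⁻¹ᵁ U)) (O : X.Opens), (↑Sg₀ : Set Γ(L, q ⁻¹ᵁ U)) ⊆ Sg ∧ x ∈ O ∧
      ∀ x' ∈ O, CritAt q L U (↑Sg₀ : Set Γ(L, q ⁻¹ᵁ U)) x' := by
  classical
  obtain ⟨m, hm, b, hb, hxb, haff, hf⟩ := h
  have hle : X.basicOpen b ≤ q ⁻¹ᵁ U := (X.basicOpen_le b).trans (gl_le L m)
  have hft : RingHom.FiniteType (q.appLE U (X.basicOpen b) hle).hom :=
    HasRingHomProperty.appLE (P := @LocallyOfFiniteType) q inferInstance ⟨U, hU⟩ ⟨_, haff⟩ hle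
  choose n t ht hft' using hf
  obtain ⟨Fb, hFb, hbF⟩ := exists_finset_of_mem_TS q L U m Sg b hb
  have hF : ∀ g, ∃ F : Finset Γ(L, q ⁻¹ᵁ U), (↑F : Set Γ(L, q ⁻¹ᵁ U)) ⊆ Sg ∧
      t g ∈ TS q L U m ↑F := fun g => exists_finset_of_mem_TS q L U m Sg (t g) (ht g)
  choose F hFsub hFmem using hF
  let _ := (q.appLE U (X.basicOpen b) hle).hom.toAlgebra
  have hft2 : Algebra.FiniteType Γ(Y, U) Γ(X, X.basicOpen b) := hft
  obtain ⟨s, hs⟩ := hft2.out
  refine ⟨insert m (Fb ∪ s.biUnion F), X.basicOpen b, ?_, hxb, fun x' hx' => ?_⟩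
  · intro m' hm'
    rw [Finset.coe_insert] at hm'
    rcases hm' with rfl | hm'
    · exact hm
    · rw [Finset.mem_coe, Finset.mem_union] at hm'
      rcases hm' with h1 | h1
      · exact hFb h1
      · obtain ⟨g, -, hg⟩ := Finset.mem_biUnion.1 h1
        exact hFsub g hg
  · have hmono : ∀ F' : Finset Γ(L, q ⁻¹ᵁ U), F' ⊆ insert m (Fb ∪ s.biUnion F) →
        TS q L U m (↑F' : Set Γ(L, q ⁻¹ᵁ U)) ≤
          TS q L U m (↑(insert m (Fb ∪ s.biUnion F)) : Set Γ(L, q ⁻¹ᵁ U)) :=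
      fun F' h => TS_mono q L U m (by exact_mod_cast h)
    have hbmem : b ∈ TS q L U m (↑(insert m (Fb ∪ s.biUnion F)) : Set Γ(L, q ⁻¹ᵁ U)) :=
      hmono Fb (fun a ha => Finset.mem_insert_of_mem (Finset.mem_union_left _ ha)) hbF
    refine ⟨m, by simp, b, hbmem, hx', haff, fun f => ?_⟩
    have hfmem : f ∈ Algebra.adjoin Γ(Y, U) (↑s : Set Γ(X, X.basicOpen b)) := by
      rw [hs]; trivial
    induction hfmem using Algebra.adjoin_induction with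
    | mem g hg =>
      refine ⟨n g, t g, hmono (F g) (fun a ha => Finset.mem_insert_of_mem
        (Finset.mem_union_right _ (Finset.mem_biUnion.2 ⟨g, hg, ha⟩))) (hFmem g), hft' g⟩
    | algebraMap r =>
      refine ⟨0, (resR (gl_le L m)) ((q.app U).hom r),
        Subring.subset_closure (Or.inl ⟨r, rfl⟩), ?_⟩
      rw [pow_zero, mul_one, resR_resR]
      rfl
    | add f g _ _ hf hg =>
      obtain ⟨n₁, t₁, h₁, e₁⟩ := hf
      obtain ⟨n₂, t₂, h₂, e₂⟩ := hg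
      refine ⟨n₁ + n₂, t₁ * b ^ n₂ + t₂ * b ^ n₁,
        Subring.add_mem _ (Subring.mul_mem _ h₁ (Subring.pow_mem _ hbmem _))
          (Subring.mul_mem _ h₂ (Subring.pow_mem _ hbmem _)), ?_⟩
      rw [map_add, map_mul, map_mul, map_pow, map_pow, ← e₁, ← e₂]
      ring
    | mul f g _ _ hf hg =>
      obtain ⟨n₁, t₁, h₁, e₁⟩ := hf
      obtain ⟨n₂, t₂, h₂, e₂⟩ := hg
      refine ⟨n₁ + n₂, t₁ * t₂, Subring.mul_mem _ h₁ h₂, ?_⟩
      rw [map_mul, ← e₁, ← e₂]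
      ring

/-- for a quasi-compact morphism of finite type, the criterion over an affine open of the base
holds with finitely many sections -/
theorem exists_finset_critAt [QuasiCompact q] [LocallyOfFiniteType q] (U : Y.Opens)
    (hU : IsAffineOpen U) (Sg : Set Γ(L, q ⁻¹ᵁ U))
    (hcrit : ∀ x : X, q x ∈ U → CritAt q L U Sg x) :
    ∃ Sg₀ : Finset Γ(L, q ⁻¹ᵁ U), (↑Sg₀ : Set Γ(L, q ⁻¹ᵁ U)) ⊆ Sg ∧
      ∀ x : X, q x ∈ U → CritAt q L U (↑Sg₀ : Set Γ(L, q ⁻¹ᵁ U)) x := by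
  classical
  have hloc : ∀ x : ↥(q ⁻¹ᵁ U), ∃ (Sg₀ : Finset Γ(L, q ⁻¹ᵁ U)) (O : X.Opens),
      (↑Sg₀ : Set Γ(L, q ⁻¹ᵁ U)) ⊆ Sg ∧ x.1 ∈ O ∧
      ∀ x' ∈ O, CritAt q L U (↑Sg₀ : Set Γ(L, q ⁻¹ᵁ U)) x' :=
    fun x => CritAt.exists_finset q L U hU Sg x.1 (hcrit x.1 x.2)
  choose S₀ O hS₀ hxO hO using hloc
  have hc : IsCompact ((q ⁻¹ᵁ U : X.Opens) : Set X) :=
    QuasiCompact.isCompact_preimage (f := q) _ U.2 hU.isCompact
  obtain ⟨t, ht⟩ := hc.elim_finite_subcover (fun x : ↥(q ⁻¹ᵁ U) => ((O x : X.Opens) : Set X))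
    (fun x => (O x).2) (fun x hx => Set.mem_iUnion.2 ⟨⟨x, hx⟩, hxO ⟨x, hx⟩⟩)
  refine ⟨t.biUnion S₀, ?_, fun x hx => ?_⟩
  · intro m hm
    obtain ⟨y, -, hy⟩ := Finset.mem_biUnion.1 (Finset.mem_coe.1 hm)
    exact hS₀ y hy
  · have := ht hx
    simp only [Set.mem_iUnion] at this
    obtain ⟨y, hyt, hxy⟩ := this
    refine CritAt.mono q L ?_ (hO y x hxy)
    intro m hm
    exact Finset.mem_coe.2 (Finset.mem_biUnion.2 ⟨y, hyt, hm⟩)

end Finite

end Groth.Agent.Helper1.VT
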