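import Mathlib
import Groth.Agent.Lib.Helper1.VT20
import Groth.Agent.Lib.Helper1.VA1

/-!
# The immersion criterion into projective space over an affine base (helper1 library, VT21)
-/

set_option autoImplicit false
universe u
open CategoryTheory CategoryTheory.Limits AlgebraicGeometry TopologicalSpace Opposite
  HomogeneousLocalization

namespace Groth.Agent.Helper1.VT

open Groth.Agent.Helper1.QcCech Groth.Agent.Helper1.LGen
open Groth.Agent.Helper1 Groth.Agent.Helper1.SubSh Groth.Agent.Helper1.AmpleLib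
open Groth.Agent.Helper1.ProjUP7 Groth.Agent.Helper1.VA1

set_option synthInstance.maxHeartbeats 400000

theorem appLE_mem_range' {X P S : Scheme.{u}} (i : X ⟶ P) (p : P ⟶ S) (q : X ⟶ S) (h : i ≫ p = q)
    (W : S.Opens) (V : P.Opens) (hV : V ≤ p ⁻¹ᵁ W) (A : X.Opens) (hA : A ≤ i ⁻¹ᵁ V)
    (hAq : A ≤ q ⁻¹ᵁ W) (y : Γ(S, W)) :
    (q.appLE W A hAq).hom y ∈ RingHom.range (i.appLE V A hA).hom := by
  subst h
  refine ⟨(p.appLE W V hV).hom y, ?_⟩
  have := Scheme.Hom.appLE_comp_appLE i p W V A hV hA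
  exact congrArg (fun φ => φ.hom y) this

/-- surjectivity on sections over a basic open from fractions -/
theorem surjective_app_basicOpen {X P : Scheme.{u}} (i : X ⟶ P) (V : P.Opens) (A : X.Opens)
    (hA : A = i ⁻¹ᵁ V) (β : Γ(P, V)) (b : Γ(X, A)) (hβ : (i.appLE V A hA.le).hom β = b)
    (hf : ∀ f : Γ(X, X.basicOpen b), ∃ (n : ℕ) (θ : Γ(P, V)),
      f * resR (X.basicOpen_le b) b ^ n = resR (X.basicOpen_le b) ((i.appLE V A hA.le).hom θ)) :
    i ⁻¹ᵁ P.basicOpen β = X.basicOpen b ∧ Function.Surjective (i.app (P.basicOpen β)).hom := by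
  have e : i ⁻¹ᵁ P.basicOpen β = X.basicOpen b := by
    rw [← hβ, Scheme.basicOpen_appLE]
    apply le_antisymm
    · refine le_inf ?_ le_rfl
      rw [hA]
      exact i.preimage_mono (P.basicOpen_le β)
    · exact inf_le_right
  refine ⟨e, ?_⟩
  have hDV : P.basicOpen β ≤ V := P.basicOpen_le β
  -- the map to sections over `X.basicOpen b`
  have hnat : ∀ θ : Γ(P, V), (i.appLE (P.basicOpen β) (X.basicOpen b) e.ge).hom (resR hDV θ) =
      resR (X.basicOpen_le b) ((i.appLE V A hA.le).hom θ) := by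
    intro θ
    have h1 := Scheme.Hom.map_appLE i (e.ge : X.basicOpen b ≤ i ⁻¹ᵁ P.basicOpen β) (homOfLE hDV).op
    have h2 := Scheme.Hom.appLE_map i hA.le (homOfLE (X.basicOpen_le b)).op
    have h3 : (P.presheaf.map (homOfLE hDV).op ≫
        i.appLE (P.basicOpen β) (X.basicOpen b) e.ge).hom θ =
        (i.appLE V A hA.le ≫ X.presheaf.map (homOfLE (X.basicOpen_le b)).op).hom θ := by
      rw [h1, h2]
    exact h3
  have hnatβ : (i.appLE (P.basicOpen β) (X.basicOpen b) e.ge).hom (resR hDV β) =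
      resR (X.basicOpen_le b) b := by
    rw [hnat β, hβ]
  have hsurj' : Function.Surjective (i.appLE (P.basicOpen β) (X.basicOpen b) e.ge).hom := by
    intro g
    obtain ⟨N, θ, hgθ⟩ := hf g
    have hu : IsUnit (resR hDV β) := P.toRingedSpace.isUnit_res_basicOpen β
    have hub : IsUnit (resR (X.basicOpen_le b) b) := X.toRingedSpace.isUnit_res_basicOpen b
    obtain ⟨βu, hβu⟩ := hu
    refine ⟨resR hDV θ * ((βu⁻¹ : (Γ(P, P.basicOpen β))ˣ) : Γ(P, P.basicOpen β)) ^ N, ?_⟩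
    apply (hub.pow N).mul_left_injective
    change _ * _ = g * _
    rw [hgθ, ← hnat θ, ← hnatβ, ← hβu, ← map_pow, ← map_mul]
    congr 1
    rw [mul_assoc, ← mul_pow, Units.inv_mul, one_pow, mul_one]
  have hcomp : (i.appLE (P.basicOpen β) (X.basicOpen b) e.ge).hom =
      (X.presheaf.map (homOfLE e.ge).op).hom.comp (i.app (P.basicOpen β)).hom := rfl
  have hinj : Function.Injective (X.presheaf.map (homOfLE e.ge).op).hom := by
    have : IsIso (homOfLE e.ge) := ⟨homOfLE e.le, Subsingleton.elim _ _, Subsingleton.elim _ _⟩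
    have : IsIso (X.presheaf.map (homOfLE e.ge).op) := inferInstance
    exact ((ConcreteCategory.isIso_iff_bijective _).1 this).1
  rw [hcomp, RingHom.coe_comp] at hsurj'
  exact Function.Surjective.of_comp_left hsurj' hinj

/-- a global section viewed over the preimage of the whole base -/
def topSec {X S : Scheme.{u}} (q : X ⟶ S) (G : X.Modules) (m : Γ(G, ⊤)) : Γ(G, q ⁻¹ᵁ ⊤) := m

section Core

variable {X S : Scheme.{u}} [IsAffine S] (q : X ⟶ S) {G : X.Modules} (hG : PicF.IsInvertible G)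
  (n : ℕ) (s : Fin (n + 1) → Γ(G, ⊤))
  (hcrit : ∀ x : X, CritAt q G ⊤ (Set.range (fun k => (topSec q G (s k)))) x)

include hG hcrit in
/-- **the immersion criterion into projective space over an affine base** -/
theorem isRelVeryAmplePn_of_crit : RelAmple.IsRelVeryAmplePn q G := by
  have hs : ProjUP.GeneratedBy G s := by
    apply generatedBy_of_cover
    intro x
    obtain ⟨_, ⟨k, rfl⟩, b, hb, hxb, -, -⟩ := hcrit x
    refine ⟨k, ?_⟩
    rw [← PnVA.gl_top_eq_genLocus]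
    exact X.basicOpen_le b hxb
  obtain ⟨r, hr, τ, hτ⟩ := Groth.Agent.S3572.result (R := ULift.{u} ℤ) n
    (specULiftZIsTerminal.from X) G hG s hs
  let 𝒮 := CohB1.polyGrading n (ULift.{u} ℤ)
  let pr₁ := pullback.fst (CohB1.ProjSpace.toSpec n (ULift.{u} ℤ)) (specULiftZIsTerminal.from S)
  let pr₂ := pullback.snd (CohB1.ProjSpace.toSpec n (ULift.{u} ℤ)) (specULiftZIsTerminal.from S)
  let i : X ⟶ CohB1.ProjSpaceOver n S := pullback.lift r q (specULiftZIsTerminal.hom_ext _ _)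
  have hi1 : i ≫ pr₁ = r := pullback.lift_fst _ _ _
  have hi2 : i ≫ pr₂ = q := pullback.lift_snd _ _ _
  have hτ' : ∀ k, τ.hom.app ⊤ (pt 𝒮 (ProjUP8.tX n _) (ProjUP8.htX n _) r k) = s k := hτ
  have hpre : ∀ k, r ⁻¹ᵁ D 𝒮 (ProjUP8.tX n _) k =
      CohB1.genLocus G (TwistAmple.homOfSec G (s k)) :=
    preimage_D 𝒮 (ProjUP8.tX n _) (ProjUP8.htX n _) (ProjUP8.hcov n _) r τ s hτ'
  let V : Fin (n + 1) → (CohB1.ProjSpaceOver n S).Opens := fun k =>
    pr₁ ⁻¹ᵁ D 𝒮 (ProjUP8.tX n _) k ⊓ pr₂ ⁻¹ᵁ ⊤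
  have hVaff : ∀ k, IsAffineOpen (V k) := fun k =>
    isAffineOpen_chart _ _ _
      (Proj.isAffineOpen_basicOpen 𝒮 _ (ProjUP8.htX n _ k) one_pos) _ (isAffineOpen_top S)
  have hA : ∀ k, gl G (topSec q G (s k)) = i ⁻¹ᵁ V k := by
    intro k
    change _ = i ⁻¹ᵁ (pr₁ ⁻¹ᵁ D 𝒮 (ProjUP8.tX n _) k) ⊓ i ⁻¹ᵁ (pr₂ ⁻¹ᵁ ⊤)
    rw [← Scheme.Hom.comp_preimage, ← Scheme.Hom.comp_preimage, hi1, hi2, hpre]
    rw [← PnVA.gl_top_eq_genLocus]
    exact (inf_eq_left.2 le_top).symm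
  -- the ring of ratios lies in the image of the sections of the chart
  have hrange : ∀ k, TS q G ⊤ (topSec q G (s k))
      (Set.range (fun k => (topSec q G (s k)))) ≤
      RingHom.range (i.appLE (V k) (gl G (topSec q G (s k))) (hA k).le).hom := by
    intro k
    apply Subring.closure_le.2
    rintro _ (⟨y, rfl⟩ | ⟨_, ⟨l, rfl⟩, rfl⟩)
    · exact appLE_mem_range' i pr₂ q hi2 ⊤ (V k) inf_le_right _ (hA k).le
        (gl_le G (topSec q G (s k))) y
    · have hU : gl G (topSec q G (s k)) ≤ r ⁻¹ᵁ D 𝒮 (ProjUP8.tX n _) k := by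
        rw [hpre, ← PnVA.gl_top_eq_genLocus]
        exact le_rfl
      have hρ := ratio_spec G (topSec q G (s k)) (topSec q G (s l))
      rw [coeff_eq 𝒮 (ProjUP8.tX n _) (ProjUP8.htX n _) r τ s hτ' k l _ hU _ hρ]
      exact appLE_mem_range' i pr₁ r hi1 _ (V k) inf_le_left _ (hA k).le hU _
  -- pointwise chart data
  have hpt : ∀ x : X, ∃ (k : Fin (n + 1)) (β : Γ(CohB1.ProjSpaceOver n S, V k)),
      x ∈ i ⁻¹ᵁ (CohB1.ProjSpaceOver n S).basicOpen β ∧
      IsAffineOpen (i ⁻¹ᵁ (CohB1.ProjSpaceOver n S).basicOpen β) ∧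
      Function.Surjective (i.app ((CohB1.ProjSpaceOver n S).basicOpen β)).hom := by
    intro x
    obtain ⟨_, ⟨k, rfl⟩, b, hb, hxb, haff, hf⟩ := hcrit x
    obtain ⟨β, hβ⟩ := hrange k hb
    have key := surjective_app_basicOpen i (V k) _ (hA k) β b hβ (fun f => by
      obtain ⟨N, t, ht, hft⟩ := hf f
      obtain ⟨θ, rfl⟩ := hrange k ht
      exact ⟨N, θ, hft⟩)
    refine ⟨k, β, ?_, ?_, key.2⟩
    · rw [key.1]; exact hxb
    · rw [key.1]; exact haff
  choose k β h1 h2 h3 using hpt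
  refine ⟨n, i, ?_, hi2, ⟨?_⟩⟩
  · exact isImmersion_of_charts i (fun x => (CohB1.ProjSpaceOver n S).basicOpen (β x))
      (fun x => (hVaff (k x)).basicOpen (β x)) h2 (fun x => ⟨x, h1 x⟩) h3
  · exact τ.symm ≪≫ (Scheme.Modules.pullbackCongr hi1.symm).app _ ≪≫
      ((Scheme.Modules.pullbackComp i pr₁).app _).symm

end Core

/-- **over an affine base, for a morphism of finite type, the bundle form of relative very
ampleness gives the projective space form** -/
theorem isRelVeryAmplePn_of_isRelVeryAmple {X S : Scheme.{u}} [IsAffine S] (f : X ⟶ S)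
    [LocallyOfFiniteType f] [QuasiCompact f] (L : X.Modules) (hLinv : PicF.IsInvertible L)
    (hL : RelProj.IsRelVeryAmple f L) : RelAmple.IsRelVeryAmplePn f L := by
  classical
  obtain ⟨E, hE, u, -, hcrit⟩ := exists_crit_of_isRelVeryAmple f L hL
  have h1 : ∀ x : X, f x ∈ (⊤ : S.Opens) → CritAt f L ⊤ (Set.range (sec f u ⊤)) x :=
    fun x _ => hcrit ⟨⊤, isAffineOpen_top S⟩ x trivial
  obtain ⟨Sg₀, -, h2⟩ := exists_finset_critAt f L ⊤ (isAffineOpen_top S) _ h1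
  let s : Fin (Sg₀.card + 1) → Γ(L, ⊤) := fun k =>
    if h : k.val < Sg₀.card then ((Sg₀.equivFin.symm ⟨k.val, h⟩).1 : Γ(L, f ⁻¹ᵁ ⊤)) else 0
  apply isRelVeryAmplePn_of_crit f hLinv Sg₀.card s
  intro x
  refine CritAt.mono f L ?_ (h2 x trivial)
  intro m hm
  refine ⟨⟨(Sg₀.equivFin ⟨m, hm⟩).val, Nat.lt_succ_of_lt (Sg₀.equivFin ⟨m, hm⟩).2⟩, ?_⟩
  change s _ = m
  simp only [s]
  rw [dif_pos (Sg₀.equivFin ⟨m, hm⟩).2]
  have : Sg₀.equivFin.symm ⟨(Sg₀.equivFin ⟨m, hm⟩).val, (Sg₀.equivFin ⟨m, hm⟩).2⟩ = ⟨m, hm⟩ :=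
    Sg₀.equivFin.symm_apply_apply _
  rw [this]

end Groth.Agent.Helper1.VT
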