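import Mathlib
import Groth.Agent.Lib.Helper1.VT21
import Groth.Agent.Lib.Helper1.ProjChar

/-!
# The very ampleness criterion with the module exposed; projectivity of proper morphisms with a
very ample module whose direct image is of finite type (helper1 library, VT22)
-/

set_option autoImplicit false
universe u
open CategoryTheory CategoryTheory.Limits AlgebraicGeometry TopologicalSpace Opposite
  HomogeneousLocalization
open scoped HomogeneousIdeal

namespace Groth.Agent.Helper1.VT

open Groth.Agent.Helper1.QcCech Groth.Agent.Helper1.LGen Groth.Agent.Helper1.CocycleIso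
open Groth.Agent.Helper1 Groth.Agent.Helper1.GP1 Groth.Agent.Helper1.GP2 Groth.Agent.Helper1.GP3

/-- the very ampleness criterion, keeping track of the quasi-coherent module -/
theorem exists_immersion_of_crit {X Y : Scheme.{u}} (q : X ⟶ Y) (L : X.Modules) (E : Y.Modules)
    [E.IsQuasicoherent] (u : E ⟶ (Scheme.Modules.pushforward q).obj L)
    (B : Y.AffineZariskiSite → Prop)
    (hBle : ∀ U, B U → ∀ U', U' ≤ U → B U') (hBcov : ∀ y : Y, ∃ U, B U ∧ y ∈ U.1)
    (hgen : ∀ U, B U → ∀ x : X, q x ∈ U.1 → ∃ ε : Γ(E, U.1), x ∈ W q u U.1 ε)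
    (hcrit : ∀ x : X, ∃ U, B U ∧ q x ∈ U.1 ∧ CritAt q L U.1 (Set.range (sec q u U.1)) x) :
    ∃ (P : Scheme.{u}) (p : P ⟶ Y)
      (chart : ∀ (U : Y.Opens) (hU : IsAffineOpen U),
        ((p ⁻¹ᵁ U : P.Opens) : Scheme.{u}) ≅ Proj ((SymAlg.symGr E).deg U hU))
      (_ : RelProj.IsRelProj (SymAlg.symGr E) p chart) (O1 : P.Modules)
      (lam : ∀ (U : Y.Opens) (hU : IsAffineOpen U),
        O1 ⟶ (Scheme.Modules.pushforward (RelProj.emb p chart U hU)).obj
          (GrTwist.twist ((SymAlg.symGr E).deg U hU) 1))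
      (_ : RelProj.IsRelTwist (SymAlg.symGr E) p chart 1 O1 lam) (r : X ⟶ P),
      IsImmersion r ∧ r ≫ p = q ∧ Nonempty (L ≅ (Scheme.Modules.pullback r).obj O1) := by
  obtain ⟨P, p, chart, hP⟩ := RP2.exists_isRelProj (SymAlg.symGr E)
  obtain ⟨O1, lam, hO1⟩ := RP9.exists_isRelTwist hP 1
  have hj := SymAlg.isGrSymAlg E
  obtain ⟨r, hr⟩ := exists_r q u hj hP B hBle hBcov hgen
  have hr' : IsGlued q u hj B p chart r := hr
  have hcan := PhiMap.phi_spec (SymAlg.jGr E) hP hO1 hj.2
  obtain ⟨τ, -⟩ := exists_τ q u hj hO1 (PhiMap.phi (SymAlg.jGr E) hP hO1 hj.2) hcan B hr' hBle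
    hBcov hgen
  exact ⟨P, p, chart, hP, O1, lam, hO1, r,
    hr'.isImmersion q u hj hP B hBcov hgen hcrit, hr'.comp_p q u hj hP B hBcov hgen, ⟨τ.symm⟩⟩

/-- a relatively very ample module for a quasi-compact quasi-separated morphism embeds the
source into the projective bundle of its direct image -/
theorem exists_immersion_pushforward {X Y : Scheme.{u}} (q : X ⟶ Y) [QuasiCompact q]
    (L : X.Modules) (hL : PicF.IsInvertible L) (hva : RelProj.IsRelVeryAmple q L)
    (hE : ((Scheme.Modules.pushforward q).obj L).IsQuasicoherent) :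
    ∃ (P : Scheme.{u}) (p : P ⟶ Y)
      (chart : ∀ (U : Y.Opens) (hU : IsAffineOpen U), ((p ⁻¹ᵁ U : P.Opens) : Scheme.{u}) ≅
        Proj ((SymAlg.symGr ((Scheme.Modules.pushforward q).obj L)).deg U hU))
      (_ : RelProj.IsRelProj (SymAlg.symGr ((Scheme.Modules.pushforward q).obj L)) p chart)
      (O1 : P.Modules)
      (lam : ∀ (U : Y.Opens) (hU : IsAffineOpen U),
        O1 ⟶ (Scheme.Modules.pushforward (RelProj.emb p chart U hU)).obj
          (GrTwist.twist ((SymAlg.symGr ((Scheme.Modules.pushforward q).obj L)).deg U hU) 1))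
      (_ : RelProj.IsRelTwist (SymAlg.symGr ((Scheme.Modules.pushforward q).obj L)) p chart 1 O1
        lam) (r : X ⟶ P),
      IsImmersion r ∧ r ≫ p = q ∧ Nonempty (L ≅ (Scheme.Modules.pullback r).obj O1) := by
  obtain ⟨E', hE', u', hgen', hcrit'⟩ := exists_crit_of_isRelVeryAmple q L hva
  apply exists_immersion_of_crit q L ((Scheme.Modules.pushforward q).obj L) (𝟙 _) (fun _ => True)
  · intro _ _ _ _; trivial
  · intro y
    obtain ⟨U, hU, hyU⟩ := RP6.exists_affine_mem y
    exact ⟨⟨U, hU⟩, trivial, hyU⟩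
  · intro U _ x hx
    obtain ⟨ε, hε⟩ := hgen' U x hx
    exact ⟨sec q u' U.1 ε, hε⟩
  · intro x
    obtain ⟨U, hU, hyU⟩ := RP6.exists_affine_mem (q x)
    refine ⟨⟨U, hU⟩, trivial, hyU, ?_⟩
    refine CritAt.mono q L ?_ (hcrit' ⟨U, hU⟩ x hyU)
    rintro _ ⟨ε, rfl⟩
    exact ⟨sec q u' U ε, rfl⟩

/-- **a proper morphism with a relatively very ample module whose direct image is of finite type is
projective** -/
theorem isProjective_of_isProper_of_isRelVeryAmple {X Y : Scheme.{u}} (f : X ⟶ Y) [IsProper f]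
    (L : X.Modules) (hL : PicF.IsInvertible L) (hva : RelProj.IsRelVeryAmple f L)
    (hft : CohB1.IsFT ((Scheme.Modules.pushforward f).obj L)) : RelProj.IsProjective f := by
  have : L.IsQuasicoherent := InvQc.isQuasicoherent_of_isInvertible L hL
  have hE : ((Scheme.Modules.pushforward f).obj L).IsQuasicoherent :=
    PushQc.isQuasicoherent_pushforward f L
  obtain ⟨P, p, chart, hP, O1, lam, hO1, r, hr, hrp, -⟩ :=
    exists_immersion_pushforward f L hL hva hE
  have : IsImmersion r := hr
  have hsep : IsSeparated p := RP1.isSeparated hP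
  have : IsProper (r ≫ p) := by rw [hrp]; infer_instance
  have : IsProper r := IsProper.of_comp r p
  have : IsClosedImmersion r :=
    IsClosedImmersion.of_isPreimmersion r r.isClosedMap.isClosed_range
  exact ProjChar.isProjective_of_closedImmersion f _ (SymAlg.symGr _) (SymAlg.jGr _) p chart r hE
    hft (SymAlg.isGrSymAlg _) hP hrp

end Groth.Agent.Helper1.VT
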