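import Mathlib
import Groth.Agent.Lib.Helper1.VT22
import Groth.Agent.Lib.Helper1.SubExt9
import Groth.Agent.Lib.Helper1.FinSigma
import Groth.Agent.Lib.Helper1.FinPush

/-!
# For morphisms of finite type over a quasi-compact separated (or noetherian) base, very ample
modules come from projective bundles of modules of finite type (helper1 library, VT23)
-/

set_option autoImplicit false
universe u
open CategoryTheory CategoryTheory.Limits AlgebraicGeometry TopologicalSpace Opposite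

namespace Groth.Agent.Helper1.VT

open Groth.Agent.Helper1.QcCech Groth.Agent.Helper1.LGen
open Groth.Agent.Helper1 Groth.Agent.Helper1.SubSh

section Sigma

variable {X : Scheme.{u}} {k : ℕ} (B : Fin k → X.Modules)

theorem finite_sections_sigma (O : X.Opens)
    (h : ∀ i, Module.Finite Γ(X, O) Γ(B i, O)) : Module.Finite Γ(X, O) Γ(∐ B, O) := by
  classical
  have hS : ∀ i, ∃ S : Finset Γ(B i, O), Submodule.span Γ(X, O) (S : Set Γ(B i, O)) = ⊤ :=
    fun i => (h i).fg_top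
  choose S hS using hS
  refine ⟨⟨Finset.univ.biUnion (fun i => (S i).image (fun s => (Sigma.ι B i).app O s)), ?_⟩⟩
  rw [eq_top_iff]
  rintro m -
  rw [FinSigma.decomp B O m]
  apply Submodule.sum_mem
  intro i _
  have hi : (FinSigma.q B i).app O m ∈ Submodule.span Γ(X, O) (S i : Set Γ(B i, O)) := by
    rw [hS i]; trivial
  generalize (FinSigma.q B i).app O m = z at hi
  induction hi using Submodule.span_induction with
  | mem s hs =>
    apply Submodule.subset_span
    simp only [Finset.coe_biUnion, Finset.coe_univ, Set.mem_univ, Set.iUnion_true,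
      Finset.coe_image, Set.mem_iUnion, Set.mem_image]
    exact ⟨i, s, hs, rfl⟩
  | zero => rw [map_zero]; exact Submodule.zero_mem _
  | add x y _ _ hx hy => rw [map_add]; exact Submodule.add_mem _ hx hy
  | smul r x _ hx =>
    rw [Scheme.Modules.Hom.app_smul]
    exact Submodule.smul_mem _ r hx

theorem finite_restrict_top_of_finite (F : X.Modules) {O : X.Opens} (hO : IsAffineOpen O)
    (hfin : Module.Finite Γ(X, O) Γ(F, O)) :
    Module.Finite Γ(X, O) Γ(F.restrict hO.fromSpec, ⊤) := by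
  have e0 := QcLoc.image_top hO
  let L : Γ(F, O) →ₗ[Γ(X, O)] Γ(F.restrict hO.fromSpec, ⊤) :=
    { toFun := fun x => (show Γ(F, hO.fromSpec ''ᵁ ⊤) from res F e0.le x)
      map_add' := fun x y => map_add (res F e0.le) _ _
      map_smul' := fun r x => by
        rw [RingHom.id_apply, QcLoc.smul_eq hO F ⊤ r]
        change res F e0.le (r • x) = _
        rw [res_smul]
        rfl }
  refine Module.Finite.of_surjective L (fun y => ⟨res F e0.ge
    (show Γ(F, hO.fromSpec ''ᵁ ⊤) from y), ?_⟩)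
  change res F e0.le (res F e0.ge _) = y
  rw [res_res, res_self]

/-- a finite coproduct of quasi-coherent modules of finite type is of finite type -/
theorem isFT_sigma [∀ i, (B i).IsQuasicoherent] (h : ∀ i, CohB1.IsFT (B i)) :
    CohB1.IsFT (∐ B) := by
  have : (∐ B).IsQuasicoherent := FinSigma.isQuasicoherent_sigma B
  apply FtLocal.isFiniteType_of_affineOpens
  intro V hV
  exact finite_restrict_top_of_finite (∐ B) hV (finite_sections_sigma B V
    (fun i => FinPush.finite_sections (B i) ⟨inferInstance, h i⟩ hV))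

end Sigma

section Sub

/-- finitely many sections over an affine open of a quasi-coherent module lie in a quasi-coherent
submodule of finite type -/
theorem exists_qcft_sub' {Y : Scheme.{u}}
    (hY : (CompactSpace Y ∧ QuasiSeparatedSpace Y) ∨ NoetherianSpace Y)
    (F : Y.Modules) [F.IsQuasicoherent] (V : Y.Opens) (hV : IsAffineOpen V)
    (T : Finset Γ(F, V)) :
    ∃ (G : Y.Modules) (ι : G ⟶ F), G.IsQuasicoherent ∧ CohB1.IsFT G ∧
      ∀ t ∈ T, ∃ e : Γ(G, V), ι.app V e = t := by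
  have h0 : (LocalSub.genOn V (↑T : Set Γ(F, V))).IsQcFtOn V :=
    fun _ hx => ⟨V, hx, le_rfl, hV, LocalSub.genOn_extPOn _,
      LocalSub.genOn_fg hV _ T.finite_toSet⟩
  obtain ⟨G', hG', hGV⟩ : ∃ G' : LocalSub F, G'.IsQcFtOn ⊤ ∧
      ∀ W ≤ V, G'.carrier W = (LocalSub.genOn V (↑T : Set Γ(F, V))).carrier W := by
    rcases hY with ⟨hc, hs⟩ | hN
    · exact LocalSub.exists_extension_of_qcqs V hV.isCompact _ h0
    · exact LocalSub.exists_extension_of_locally_noetherian
        (fun x => ⟨⊤, trivial, inferInstance⟩) V _ h0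
  refine ⟨G'.obj, G'.ι, G'.isQuasicoherent_obj hG'.isQcOn, G'.isFiniteType_obj hG',
    fun t ht => ?_⟩
  have hmem : t ∈ G'.carrier V := by
    rw [hGV V le_rfl]
    have := LocalSub.genPre_le_genOn (↑T : Set Γ(F, V))
      (LocalSub.res_mem_genPre _ (le_refl V) (Finset.mem_coe.2 ht))
    rwa [res_self] at this
  exact ⟨G'.mkSec t hmem, rfl⟩

end Sub

section Main

/-- **very ample modules for morphisms of finite type come from modules of finite type** -/
theorem exists_finiteType_immersion' {X Y : Scheme.{u}}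
    (hY : (CompactSpace Y ∧ QuasiSeparatedSpace Y) ∨ NoetherianSpace Y) (q : X ⟶ Y) [QuasiCompact q]
    [LocallyOfFiniteType q] (L : X.Modules) (h : RelProj.IsRelVeryAmple q L) :
    ∃ (E : Y.Modules) (_ : E.IsQuasicoherent) (_ : CohB1.IsFT E) (P : Scheme.{u}) (p : P ⟶ Y)
      (chart : ∀ (U : Y.Opens) (hU : IsAffineOpen U),
        ((p ⁻¹ᵁ U : P.Opens) : Scheme.{u}) ≅ Proj ((SymAlg.symGr E).deg U hU))
      (_ : RelProj.IsRelProj (SymAlg.symGr E) p chart) (O1 : P.Modules)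
      (lam : ∀ (U : Y.Opens) (hU : IsAffineOpen U),
        O1 ⟶ (Scheme.Modules.pushforward (RelProj.emb p chart U hU)).obj
          (GrTwist.twist ((SymAlg.symGr E).deg U hU) 1))
      (_ : RelProj.IsRelTwist (SymAlg.symGr E) p chart 1 O1 lam) (r : X ⟶ P),
      IsImmersion r ∧ r ≫ p = q ∧ Nonempty (L ≅ (Scheme.Modules.pullback r).obj O1) := by
  classical
  obtain ⟨E', hE', u', -, hcrit'⟩ := exists_crit_of_isRelVeryAmple q L h
  have hc : CompactSpace Y := by
    rcases hY with ⟨hc, -⟩ | hN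
    · exact hc
    · infer_instance
  -- finite data over each affine open
  have hV : ∀ V : Y.affineOpens, ∃ (G : Y.Modules) (ι : G ⟶ E'), G.IsQuasicoherent ∧
      CohB1.IsFT G ∧ ∀ x : X, q x ∈ V.1 →
        CritAt q L V.1 (Set.range (fun e : Γ(G, V.1) => sec q u' V.1 (ι.app V.1 e))) x := by
    intro V
    obtain ⟨Sg₀, hsub, hSg₀⟩ := exists_finset_critAt q L V.1 V.2 _
      (fun x hx => hcrit' ⟨V.1, V.2⟩ x hx)
    have hpre : ∀ m : Γ(L, q ⁻¹ᵁ V.1), ∃ ε : Γ(E', V.1), m ∈ Sg₀ → sec q u' V.1 ε = m := by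
      intro m
      by_cases hm : m ∈ Sg₀
      · obtain ⟨ε, hε⟩ := hsub (Finset.mem_coe.2 hm)
        exact ⟨ε, fun _ => hε⟩
      · exact ⟨0, fun h => absurd h hm⟩
    choose ε hε using hpre
    obtain ⟨G, ι, hGq, hGft, hGT⟩ := exists_qcft_sub' hY E' V.1 V.2 (Sg₀.image ε)
    refine ⟨G, ι, hGq, hGft, fun x hx => CritAt.mono q L ?_ (hSg₀ x hx)⟩
    intro m hm
    obtain ⟨e, he⟩ := hGT (ε m) (Finset.mem_image_of_mem ε (Finset.mem_coe.1 hm))
    refine ⟨e, ?_⟩
    change sec q u' V.1 (ι.app V.1 e) = m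
    rw [he]
    exact hε m (Finset.mem_coe.1 hm)
  choose G ι hGq hGft hGcrit using hV
  -- a finite affine cover
  obtain ⟨t, ht⟩ := isCompact_univ.elim_finite_subcover
    (fun V : Y.affineOpens => (V.1 : Set Y)) (fun V => V.1.2) (by
      intro y _
      obtain ⟨U, hU, hyU⟩ := RP6.exists_affine_mem y
      exact Set.mem_iUnion.2 ⟨⟨U, hU⟩, hyU⟩)
  let Vi : Fin t.card → Y.affineOpens := fun i => (t.equivFin.symm i).1
  have hcov : ∀ y : Y, ∃ i, y ∈ (Vi i).1 := by
    intro y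
    have := ht (Set.mem_univ y)
    simp only [Set.mem_iUnion] at this
    obtain ⟨V, hVt, hyV⟩ := this
    refine ⟨t.equivFin ⟨V, hVt⟩, ?_⟩
    change y ∈ ((t.equivFin.symm (t.equivFin ⟨V, hVt⟩)).1).1
    rw [Equiv.symm_apply_apply]
    exact hyV
  let Bm : Fin t.card → Y.Modules := fun i => G (Vi i)
  have hBq : ∀ i, (Bm i).IsQuasicoherent := fun i => hGq (Vi i)
  have hEq : (∐ Bm).IsQuasicoherent := FinSigma.isQuasicoherent_sigma Bm
  have hEft : CohB1.IsFT (∐ Bm) := isFT_sigma Bm (fun i => hGft (Vi i))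
  let u : (∐ Bm) ⟶ (Scheme.Modules.pushforward q).obj L :=
    Sigma.desc (fun i => ι (Vi i) ≫ u')
  have key : ∀ (i : Fin t.card) (e : Γ(G (Vi i), (Vi i).1)),
      sec q u (Vi i).1 ((Sigma.ι Bm i).app (Vi i).1 e) =
        sec q u' (Vi i).1 ((ι (Vi i)).app (Vi i).1 e) := by
    intro i e
    have h1 : Sigma.ι Bm i ≫ u = ι (Vi i) ≫ u' := Sigma.ι_desc _ _
    exact congrArg (fun φ : Bm i ⟶ (Scheme.Modules.pushforward q).obj L => φ.app (Vi i).1 e) h1
  refine ⟨∐ Bm, hEq, hEft, ?_⟩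
  apply exists_immersion_of_crit q L (∐ Bm) u (fun U => ∃ i, U.1 ≤ (Vi i).1)
  · rintro U ⟨i, hi⟩ U' hle
    exact ⟨i, le_trans (Scheme.AffineZariskiSite.toOpens_mono hle) hi⟩
  · intro y
    obtain ⟨i, hi⟩ := hcov y
    exact ⟨⟨(Vi i).1, (Vi i).2⟩, ⟨i, le_rfl⟩, hi⟩
  · rintro U ⟨i, hi⟩ x hx
    obtain ⟨_, ⟨e, rfl⟩, b, hb, hxb, -, -⟩ := hGcrit (Vi i) x (hi hx)
    refine ⟨res (∐ Bm) hi ((Sigma.ι Bm i).app (Vi i).1 e), ?_⟩
    rw [W_res q u hi]
    refine ⟨?_, hx⟩
    change x ∈ gl L (sec q u (Vi i).1 ((Sigma.ι Bm i).app (Vi i).1 e))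
    rw [key]
    exact X.basicOpen_le b hxb
  · intro x
    obtain ⟨i, hi⟩ := hcov (q x)
    refine ⟨⟨(Vi i).1, (Vi i).2⟩, ⟨i, le_rfl⟩, hi, CritAt.mono q L ?_ (hGcrit (Vi i) x hi)⟩
    rintro _ ⟨e, rfl⟩
    exact ⟨(Sigma.ι Bm i).app (Vi i).1 e, key i e⟩

theorem qcqs_or_noeth_of_sep {Y : Scheme.{u}}
    (hY : (CompactSpace Y ∧ Y.IsSeparated) ∨ NoetherianSpace Y) :
    (CompactSpace Y ∧ QuasiSeparatedSpace Y) ∨ NoetherianSpace Y := by
  rcases hY with ⟨hc, hs⟩ | hN
  · exact Or.inl ⟨hc, inferInstance⟩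
  · exact Or.inr hN

theorem exists_finiteType_immersion {X Y : Scheme.{u}}
    (hY : (CompactSpace Y ∧ Y.IsSeparated) ∨ NoetherianSpace Y) (q : X ⟶ Y) [QuasiCompact q]
    [LocallyOfFiniteType q] (L : X.Modules) (h : RelProj.IsRelVeryAmple q L) :
    ∃ (E : Y.Modules) (_ : E.IsQuasicoherent) (_ : CohB1.IsFT E) (P : Scheme.{u}) (p : P ⟶ Y)
      (chart : ∀ (U : Y.Opens) (hU : IsAffineOpen U),
        ((p ⁻¹ᵁ U : P.Opens) : Scheme.{u}) ≅ Proj ((SymAlg.symGr E).deg U hU))
      (_ : RelProj.IsRelProj (SymAlg.symGr E) p chart) (O1 : P.Modules)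
      (lam : ∀ (U : Y.Opens) (hU : IsAffineOpen U),
        O1 ⟶ (Scheme.Modules.pushforward (RelProj.emb p chart U hU)).obj
          (GrTwist.twist ((SymAlg.symGr E).deg U hU) 1))
      (_ : RelProj.IsRelTwist (SymAlg.symGr E) p chart 1 O1 lam) (r : X ⟶ P),
      IsImmersion r ∧ r ≫ p = q ∧ Nonempty (L ≅ (Scheme.Modules.pullback r).obj O1) :=
  exists_finiteType_immersion' (qcqs_or_noeth_of_sep hY) q L h

end Main

end Groth.Agent.Helper1.VT
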