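import Mathlib
import Groth.Agent.Lib.Helper1.Dv10
import Groth.Agent.Lib.Helper1.Dv11
import Groth.Agent.Lib.Helper1.VT23
import Groth.Agent.Lib.Helper1.FinPush
import Groth.Agent.Lib.Helper1.SubExt7
import Groth.Agent.Lib.Helper1.QcIso

/-!
# The core of the dévissage: comparing a coherent module with a witness near a point (helper1)
-/

set_option autoImplicit false
universe u
open CategoryTheory CategoryTheory.Limits AlgebraicGeometry TopologicalSpace Opposite

namespace Groth.Agent.Helper1.Dv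

open Groth.Agent.Helper1.QcCech Groth.Agent.Helper1.QcExt Groth.Agent.Helper1
open Groth.Agent.Helper1.CohACC Groth.Agent.Lead Groth.Agent.Helper1.SubSh

variable {X : Scheme.{u}}

theorem isCoh_coprod (F : X.Modules) (hF : Coh.IsCoh F) (e : ℕ) :
    Coh.IsCoh (∐ fun _ : Fin e => F) := by
  haveI : F.IsQuasicoherent := hF.1
  haveI : ∀ i : Fin e, ((fun _ : Fin e => F) i).IsQuasicoherent := fun _ => hF.1
  exact ⟨FinSigma.isQuasicoherent_sigma (fun _ : Fin e => F),
    VT.isFT_sigma (fun _ : Fin e => F) (fun _ => hF.2)⟩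

/-- a coherent subsheaf of `Q` generated near `ξ` by one section -/
theorem exists_sub_span [IsNoetherian X] (Q : X.Modules) (hQ : Coh.IsCoh Q)
    {W : X.Opens} (hW : IsAffineOpen W) (x : Γ(Q, W)) :
    ∃ (F₁ : X.Modules) (ι₁ : F₁ ⟶ Q), Mono ι₁ ∧ Coh.IsCoh F₁ ∧
      Nonempty (Γ(F₁, W) ≃ₗ[Γ(X, W)] Submodule.span Γ(X, W) {x}) := by
  haveI : Q.IsQuasicoherent := hQ.1
  obtain ⟨N', hN', hcar⟩ := LocalSub.exists_extension_of_qcqs W hW.isCompact
    (LocalSub.genOn W {x}) (LocalSub.genOn_singleton_isQcFtOn hW x)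
  have hcarW : N'.carrier W = Submodule.span Γ(X, W) {x} := by
    rw [hcar W le_rfl, LocalSub.genOn_carrier_of_isAffineOpen _ hW le_rfl]
    change Submodule.span Γ(X, W)
      {t | ∃ (h : W ≤ W) (p : Γ(Q, W)), p ∈ ({x} : Set Γ(Q, W)) ∧ t = res Q h p} = _
    congr 1
    ext t
    constructor
    · rintro ⟨h, p, hp, rfl⟩
      rw [Set.mem_singleton_iff] at hp
      subst hp
      rw [res_self]
      rfl
    · intro ht
      rw [Set.mem_singleton_iff] at ht
      subst ht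
      exact ⟨le_rfl, _, rfl, (res_self Q _ _).symm⟩
  haveI : N'.obj.IsQuasicoherent := LocalSub.isQuasicoherent_obj N' hN'.isQcOn
  refine ⟨N'.obj, N'.ι, inferInstance, ⟨inferInstance, LocalSub.isFiniteType_obj N' hN'⟩, ?_⟩
  exact ⟨(N'.sectionsEquiv W).symm.trans (LinearEquiv.ofEq _ _ hcarW)⟩

end Groth.Agent.Helper1.Dv

namespace Groth.Agent.Helper1.Dv

open Groth.Agent.Helper1.QcCech Groth.Agent.Helper1.QcExt Groth.Agent.Helper1
open Groth.Agent.Helper1.CohACC Groth.Agent.Lead Groth.Agent.Helper1.SubSh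

variable {X : Scheme.{u}}

attribute [local instance] SD.stalkModule

/-- the ideal of the complement of an open -/
noncomputable def complIdeal (W : X.Opens) : X.IdealSheafData :=
  Scheme.IdealSheafData.vanishingIdeal ⟨(W : Set X)ᶜ, W.isOpen.isClosed_compl⟩

lemma complIdeal_support (W : X.Opens) : (W : Set X) = ((complIdeal W).support : Set X)ᶜ := by
  unfold complIdeal
  simp

lemma complIdeal_ideal_eq_top (W : X.Opens) {O : X.Opens} (hO : IsAffineOpen O) (hOW : O ≤ W) :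
    (complIdeal W).ideal ⟨O, hO⟩ = ⊤ := by
  unfold complIdeal
  rw [Scheme.IdealSheafData.vanishingIdeal_ideal]
  rw [eq_top_iff]
  intro a _
  rw [PrimeSpectrum.mem_vanishingIdeal]
  intro z hz
  exfalso
  apply hz
  apply hOW
  have : hO.fromSpec z ∈ Set.range hO.fromSpec := ⟨z, rfl⟩
  rw [hO.range_fromSpec] at this
  exact this

theorem isIso_restrict_idealMulι (W : X.Opens) (n : ℕ) (E : X.Modules) [E.IsQuasicoherent] :
    IsIso ((Scheme.Modules.restrictFunctor W.ι).map (Dual3.idealMulι (complIdeal W ^ n) E)) := by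
  apply QcIso.isIso_of_bijective_cover
  intro y
  obtain ⟨_, ⟨U, hU, rfl⟩, hyU, -⟩ :=
    (W : Scheme.{u}).isBasis_affineOpens.exists_subset_of_mem_open (Set.mem_univ y) isOpen_univ
  refine ⟨U, hU, hyU, ?_⟩
  have hO : IsAffineOpen (W.ι ''ᵁ U) := hU.image_of_isOpenImmersion W.ι
  have hOW : W.ι ''ᵁ U ≤ W := by
    rintro _ ⟨z, _, rfl⟩
    exact z.2
  change Function.Bijective ((Dual3.idealMulι (complIdeal W ^ n) E).app (W.ι ''ᵁ U))
  constructor
  · exact FtLocal.app_injective_of_mono _ _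
  · intro t
    have h1 : sec (Dual3.idealMulι (complIdeal W ^ n) E) (W.ι ''ᵁ U) = ⊤ := by
      rw [sec_idealMulι _ _ hO]
      change ((complIdeal W).ideal ⟨_, hO⟩) ^ n • ⊤ = ⊤
      rw [complIdeal_ideal_eq_top W hO hOW, Ideal.top_pow, Submodule.top_smul]
    have : t ∈ sec (Dual3.idealMulι (complIdeal W ^ n) E) (W.ι ''ᵁ U) := by
      rw [h1]; trivial
    exact this

theorem core [IsNoetherian X] (Q G : X.Modules) (hQ : Coh.IsCoh Q) (hG : Coh.IsCoh G)
    {W : X.Opens} (hW : IsAffineOpen W) (y : W)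
    (x : Γ(Q, W)) (hx : ∀ a : Γ(X, W), a • x = 0 ↔ a ∈ (hW.primeIdealOf y).asIdeal)
    (hGξ : ∀ a ∈ IsLocalRing.maximalIdeal (X.presheaf.stalk y.1),
      ∀ v : G.presheaf.stalk y.1, a • v = 0) :
    ∃ (e : ℕ) (F' : X.Modules) (ι : F' ⟶ Q) (ψ : (∐ fun _ : Fin e => F') ⟶ G),
      Mono ι ∧ Coh.IsCoh F' ∧ Function.Bijective (stalkL ψ y.1) ∧
      (IsSimpleModule (X.presheaf.stalk y.1) (G.presheaf.stalk y.1) → e = 1) ∧
      (e = 0 → Subsingleton (G.presheaf.stalk y.1)) := by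
  classical
  haveI : Q.IsQuasicoherent := hQ.1
  haveI : G.IsQuasicoherent := hG.1
  obtain ⟨F₁, ι₁, hι₁, hF₁, ⟨σ⟩⟩ := exists_sub_span Q hQ hW x
  haveI : F₁.IsQuasicoherent := hF₁.1
  -- the algebra
  haveI : IsNoetherianRing Γ(X, W) := IsLocallyNoetherian.component_noetherian ⟨W, hW⟩
  haveI := hW.isLocalization_stalk y
  haveI := SD.isLocalizedModule_germ G hW y
  haveI : Module.Finite (X.presheaf.stalk y.1) (G.presheaf.stalk y.1) :=
    SD.finite_stalk_of_finite_sections G hW y (FinPush.finite_sections G hG hW)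
  obtain ⟨e, Θ, hΘinj, hΘsurj, hsimple, hzero⟩ :=
    alg_core (hW.primeIdealOf y).asIdeal (B := X.presheaf.stalk y.1)
      (V := G.presheaf.stalk y.1) (SD.germₗ G y) hGξ x hx
  -- the linear map on sections of the coproduct
  let E : X.Modules := ∐ fun _ : Fin e => F₁
  have hE : Coh.IsCoh E := isCoh_coprod F₁ hF₁ e
  haveI : E.IsQuasicoherent := hE.1
  let τ : Γ(E, W) ≃ₗ[Γ(X, W)] (Fin e → Submodule.span Γ(X, W) {x}) :=
    (coprodSec F₁ e W).trans (LinearEquiv.piCongrRight (fun _ => σ))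
  let θ : Γ(E, W) →ₗ[Γ(X, W)] Γ(G, W) := Θ ∘ₗ τ.toLinearMap
  -- extension
  obtain ⟨n, ψ₀, hψ₀⟩ := exists_hom_idealMul hW E G hE hG.1 (complIdeal W) (complIdeal_support W) θ
  let J := complIdeal W ^ n
  haveI := isIso_restrict_idealMulι W n E
  have hincl : Function.Bijective ((Dual3.idealMulι J E).app W) :=
    app_bijective_of_restrict_isIso (Dual3.idealMulι J E) W W le_rfl
  have hEJ : Coh.IsCoh ((Dual3.idealMul J).obj E) := isCoh_idealMul J E hE
  haveI : ((Dual3.idealMul J).obj E).IsQuasicoherent := hEJ.1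
  have hbij₀ : Function.Bijective (stalkL ψ₀ y.1) := by
    apply stalkL_bijective_of_locBij ψ₀ hW y.1 y.2
    · rintro s ⟨t, ht, hts⟩
      refine ⟨1, (Ideal.ne_top_iff_one _).1 (hW.primeIdealOf y).2.ne_top, ?_⟩
      rw [one_smul]
      rw [hψ₀] at hts
      have h1 := hΘinj (τ ((Dual3.idealMulι J E).app W s)) ⟨t, ht, hts⟩
      have h2 : (Dual3.idealMulι J E).app W s = 0 := by
        have := congrArg τ.symm h1
        rwa [LinearEquiv.symm_apply_apply, map_zero] at this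
      exact hincl.1 (h2.trans (map_zero _).symm)
    · intro m
      obtain ⟨t, ht, f, hf⟩ := hΘsurj m
      obtain ⟨s, hs⟩ := hincl.2 (τ.symm f)
      refine ⟨t, ht, s, ?_⟩
      rw [hψ₀, hs]
      change Θ (τ (τ.symm f)) = _
      rw [LinearEquiv.apply_symm_apply, hf]
  -- commute with the coproduct
  let c : (Dual3.idealMul J).obj E ≅ ∐ fun _ : Fin e => (Dual3.idealMul J).obj F₁ :=
    PreservesCoproduct.iso (Dual3.idealMul J) (fun _ : Fin e => F₁)
  refine ⟨e, (Dual3.idealMul J).obj F₁, Dual3.idealMulι J F₁ ≫ ι₁, c.inv ≫ ψ₀, ?_, ?_, ?_, ?_, ?_⟩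
  · exact mono_comp _ _
  · exact isCoh_idealMul J F₁ hF₁
  · rw [stalkL_comp]
    exact hbij₀.comp (stalkL_bijective_of_isIso c.inv y.1)
  · exact hsimple
  · exact hzero

end Groth.Agent.Helper1.Dv
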