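import Mathlib
import Groth.Agent.Lib.Helper1.GlobGenLoc
import Groth.Agent.Lib.Helper7.CohStalk.FiniteAss

set_option autoImplicit false
universe u
open CategoryTheory CategoryTheory.Limits AlgebraicGeometry TopologicalSpace Opposite

namespace Groth.Agent.Helper1.FtGen

open Groth.Agent.Helper1.QcCech Groth.Agent.Helper1 Groth.Agent.Helper1.SubSh
open Groth.Agent.Helper1.GlobGen

variable {X : Scheme.{u}}

/-- concrete local generation from a generating family of the restriction to an open `W` -/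
theorem local_span_of_generatingSections (M : X.Modules) (W : X.Opens)
    (G : (M.restrict W.ι).GeneratingSections) :
    ∃ σ : G.I → Γ(M, W),
      ∀ (O : X.Opens) (hO : O ≤ W) (t : Γ(M, O)) (y : X), y ∈ O →
        ∃ (O' : X.Opens) (hO' : O' ≤ O), y ∈ O' ∧
          res M hO' t ∈ Submodule.span Γ(X, O')
            (Set.range fun j => res M (hO'.trans hO) (σ j)) := by
  let N : (W : Scheme.{u}).Modules := M.restrict W.ι
  have htop : W.ι ''ᵁ ⊤ = W := by simp
  let σ' : G.I → Γ(N, ⊤) := fun j => (G.s j).1 (op ⊤)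
  have hepi : Epi (ofSections (M := N) σ') := by
    have h1 := eq_ofSections (M := N) (N.freeHomEquiv.symm G.s)
    have h2 : (fun i => (N.freeHomEquiv (N.freeHomEquiv.symm G.s) i).1 (op ⊤)) = σ' := by
      funext i
      rw [Equiv.apply_symm_apply]
    rw [h2] at h1
    rw [← h1]
    exact G.epi
  refine ⟨fun j => res M htop.ge (σ' j), ?_⟩
  intro O hO t y hy
  have hle : W.ι ''ᵁ (W.ι ⁻¹ᵁ O) ≤ O := W.ι.image_preimage_le O
  let t' : Γ(N, W.ι ⁻¹ᵁ O) := res M hle t
  have hy' : (⟨y, hO hy⟩ : W) ∈ W.ι ⁻¹ᵁ O := hy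
  obtain ⟨W'', hW'', hyW'', hm⟩ := mem_loc_of_epi (M := N) σ' t' ⟨y, hO hy⟩ hy'
  have hO' : W.ι ''ᵁ W'' ≤ O := (W.ι.image_mono hW'').trans hle
  refine ⟨W.ι ''ᵁ W'', hO', ⟨⟨y, hO hy⟩, hyW'', rfl⟩, ?_⟩
  have e1 : res N hW'' t' = res M hO' t := by
    change res M (W.ι.image_mono hW'') (res M hle t) = _
    rw [res_res]
  have e2 : ∀ j, res N (le_top : W'' ≤ ⊤) (σ' j) =
      res M (hO'.trans hO) (res M htop.ge (σ' j)) := by
    intro j
    rw [res_res]
    rfl
  rw [e1] at hm
  -- transport the span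
  have key : ∀ z : Γ(N, W''), z ∈ (spanPre (M := N) σ').carrier W'' →
      (show Γ(M, W.ι ''ᵁ W'') from z) ∈ Submodule.span Γ(X, W.ι ''ᵁ W'')
        (Set.range fun j => res M (hO'.trans hO) (res M htop.ge (σ' j))) := by
    intro z hz
    induction hz using Submodule.span_induction with
    | mem z hz =>
      obtain ⟨j, rfl⟩ := hz
      exact Submodule.subset_span ⟨j, (e2 j).symm⟩
    | zero => exact Submodule.zero_mem _
    | add a b _ _ ha hb => exact Submodule.add_mem _ ha hb
    | smul r a _ ha =>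
      have : (show Γ(M, W.ι ''ᵁ W'') from r • a) =
          ((W.ι.appIso W'').inv.hom r : Γ(X, W.ι ''ᵁ W'')) • (show Γ(M, W.ι ''ᵁ W'') from a) := rfl
      rw [this]
      exact Submodule.smul_mem _ _ ha
  exact key _ hm

/-- **concrete local generators of a module of finite type** -/
theorem exists_local_generators (M : X.Modules) (hM : SheafOfModules.IsFiniteType.{u, u, u} M)
    (x : X) :
    ∃ (W : X.Opens) (_ : x ∈ W) (ι : Type u) (_ : Finite ι) (σ : ι → Γ(M, W)),
      ∀ (O : X.Opens) (hO : O ≤ W) (t : Γ(M, O)) (y : X), y ∈ O →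
        ∃ (O' : X.Opens) (hO' : O' ≤ O), y ∈ O' ∧
          res M hO' t ∈ Submodule.span Γ(X, O')
            (Set.range fun j => res M (hO'.trans hO) (σ j)) := by
  obtain ⟨W, hxW, hW⟩ := Groth.Agent.Helper7.FinType.exists_generators_of_le M hM x
  obtain ⟨G, hG⟩ := hW W le_rfl
  obtain ⟨σ, hσ⟩ := local_span_of_generatingSections M W G
  exact ⟨W, hxW, G.I, hG.finite, σ, hσ⟩

end Groth.Agent.Helper1.FtGen
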