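import Mathlib
import Groth.Prelude.Def_CohB1
import Groth.Agent.Lib.Helper1.FtGen

set_option autoImplicit false
universe u
open CategoryTheory CategoryTheory.Limits AlgebraicGeometry TopologicalSpace Opposite

namespace Groth.Agent.Helper1.FtGen

open Groth.Agent.Helper1.QcCech Groth.Agent.Helper1

variable {X : Scheme.{u}}

theorem isClosed_support (M : X.Modules) (hM : SheafOfModules.IsFiniteType.{u, u, u} M) :
    IsClosed (CohB1.support M) := by
  rw [← isOpen_compl_iff, isOpen_iff_forall_mem_open]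
  intro x hx
  have hsub : Subsingleton (M.presheaf.stalk x) := not_not.1 hx
  obtain ⟨W, hxW, ι, hfin, σ, hσ⟩ := exists_local_generators M hM x
  have h1 : ∀ j, ∃ V : X.Opens, ∃ hV : V ≤ W, x ∈ V ∧ res M hV (σ j) = 0 := by
    intro j
    have : M.presheaf.germ W x hxW (σ j) = M.presheaf.germ W x hxW 0 := Subsingleton.elim _ _
    obtain ⟨V, hxV, i1, i2, h⟩ := TopCat.Presheaf.germ_eq M.presheaf x hxW hxW _ _ this
    refine ⟨V, leOfHom i1, hxV, ?_⟩
    rw [map_zero] at h
    exact h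
  choose V hV hxV hres using h1
  let V₀ : Set X := (⋂ j, (V j : Set X)) ∩ W
  have hV₀ : IsOpen V₀ := (isOpen_iInter_of_finite fun j => (V j).isOpen).inter W.isOpen
  refine ⟨V₀, ?_, hV₀, ⟨Set.mem_iInter.2 hxV, hxW⟩⟩
  intro y hy
  change ¬ ¬ Subsingleton (M.presheaf.stalk y)
  rw [not_not]
  suffices h : ∀ z : M.presheaf.stalk y, z = 0 by
    exact ⟨fun a b => (h a).trans (h b).symm⟩
  intro z
  obtain ⟨O, hyO, t, rfl⟩ := TopCat.Presheaf.exists_germ_eq M.presheaf z
  let O₁ : X.Opens := O ⊓ ⟨V₀, hV₀⟩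
  have hO₁W : O₁ ≤ W := fun a ha => ha.2.2
  have hyO₁ : y ∈ O₁ := ⟨hyO, hy⟩
  obtain ⟨O', hO', hyO', hm⟩ := hσ O₁ hO₁W (res M inf_le_left t) y hyO₁
  have hz : ∀ j, res M (hO'.trans hO₁W) (σ j) = 0 := by
    intro j
    have hle : O' ≤ V j := fun a ha => Set.mem_iInter.1 (hO' ha).2.1 j
    rw [← res_res M (hV j) hle, hres, map_zero]
  have hspan : Submodule.span Γ(X, O') (Set.range fun j => res M (hO'.trans hO₁W) (σ j)) = ⊥ := by
    rw [Submodule.span_eq_bot]
    rintro _ ⟨j, rfl⟩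
    exact hz j
  rw [hspan, Submodule.mem_bot, res_res] at hm
  have := TopCat.Presheaf.germ_res_apply M.presheaf (homOfLE (hO'.trans inf_le_left)) y hyO' t
  rw [← this]
  change M.presheaf.germ O' y hyO' (res M _ t) = 0
  rw [hm, map_zero]

end Groth.Agent.Helper1.FtGen
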