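import Mathlib
import Groth.Agent.Lib.Helper1.Dv12
import Groth.Agent.Lib.Helper1.FtSupp
import Groth.Agent.Lib.Helper7.CohStalk.Support
import Groth.Agent.Lib.Helper7.CohStalk.AssOpen
import Groth.Agent.Lib.Helper7.CohStalk.Pushforward

/-!
# Translation lemmas for the dévissage (helper1)
-/

set_option autoImplicit false
universe u
open CategoryTheory CategoryTheory.Limits AlgebraicGeometry TopologicalSpace Opposite

namespace Groth.Agent.Helper1.Dv

open Groth.Agent.Helper1.QcCech Groth.Agent.Helper1.QcExt Groth.Agent.Helper1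
open Groth.Agent.Helper1.CohACC Groth.Agent.Lead Groth.Agent.Helper1.SubSh
open Groth.Agent.Helper7.FinType

variable {X : Scheme.{u}}

/-- a coherent module supported in the closure of a point of its support has, over any affine
neighbourhood of the point, a section whose annihilator is the prime of the point -/
theorem exists_assoc_section [IsLocallyNoetherian X] (Q : X.Modules) (hQ : Coh.IsCoh Q) (ξ : X)
    (hξQ : ξ ∈ CohB1.support Q) (hsupp : CohB1.support Q ⊆ closure {ξ})
    {W : X.Opens} (hW : IsAffineOpen W) (hξ : ξ ∈ W) :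
    ∃ x : Γ(Q, W), ∀ a : Γ(X, W), a • x = 0 ↔ a ∈ (hW.primeIdealOf ⟨ξ, hξ⟩).asIdeal := by
  haveI : IsNoetherianRing Γ(X, W) := IsLocallyNoetherian.component_noetherian ⟨W, hW⟩
  haveI : Module.Finite Γ(X, W) Γ(Q, W) := FinPush.finite_sections Q hQ hW
  set p := hW.primeIdealOf ⟨ξ, hξ⟩ with hp
  have h1 : p ∈ Module.support Γ(X, W) Γ(Q, W) :=
    (primeIdealOf_mem_support_iff Q hQ.1 hW ξ hξ).2 hξQ
  have h2 : Module.annihilator Γ(X, W) Γ(Q, W) ≤ p.asIdeal :=
    Module.mem_support_iff_of_finite.1 h1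
  have h3 : p.asIdeal ∈ (Module.annihilator Γ(X, W) Γ(Q, W)).minimalPrimes := by
    refine ⟨⟨p.isPrime, h2⟩, ?_⟩
    rintro q ⟨hq, hIq⟩ hqp
    let q' : PrimeSpectrum Γ(X, W) := ⟨q, hq⟩
    have hq' : q' ∈ Module.support Γ(X, W) Γ(Q, W) := Module.mem_support_iff_of_finite.2 hIq
    have hη : hW.fromSpec q' ∈ W := by
      have : hW.fromSpec q' ∈ Set.range hW.fromSpec := ⟨q', rfl⟩
      rw [hW.range_fromSpec] at this
      exact this
    have e1 : hW.primeIdealOf ⟨hW.fromSpec q', hη⟩ = q' := primeIdealOf_fromSpec hW q' hη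
    have h4 : hW.fromSpec q' ∈ CohB1.support Q := by
      have := (primeIdealOf_mem_support_iff Q hQ.1 hW (hW.fromSpec q') hη).1 (by rw [e1]; exact hq')
      exact this
    have h5 : ξ ⤳ hW.fromSpec q' := specializes_iff_mem_closure.2 (hsupp h4)
    have h6 := (primeIdealOf_le_iff_specializes hW ξ (hW.fromSpec q') hξ hη).2 h5
    rw [e1] at h6
    exact h6
  have h4 : IsAssociatedPrime p.asIdeal Γ(Q, W) :=
    Module.associatedPrimes.minimalPrimes_annihilator_subset_associatedPrimes _ _ h3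
  obtain ⟨-, x, hx⟩ := (isAssociatedPrime_iff.1 h4)
  refine ⟨x, fun a => ?_⟩
  rw [hx, Submodule.mem_colon_singleton, Submodule.mem_bot]

end Groth.Agent.Helper1.Dv

namespace Groth.Agent.Helper1.Dv

open Groth.Agent.Helper1.QcCech Groth.Agent.Helper1.QcExt Groth.Agent.Helper1
open Groth.Agent.Helper1.CohACC Groth.Agent.Lead Groth.Agent.Helper1.SubSh
open Groth.Agent.Lib.Helper5.StalkAdj

variable {X : Scheme.{u}}

theorem isZero_coprod_of_isZero {F : X.Modules} (h : IsZero F) (e : ℕ) :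
    IsZero (∐ fun _ : Fin e => F) := by
  rw [IsZero.iff_id_eq_zero, ← cp_total F e]
  apply Finset.sum_eq_zero
  intro j _
  rw [h.eq_of_tgt (cpπ F e j) 0, zero_comp]

theorem support_coprod_subset (F : X.Modules) (e : ℕ) :
    CohB1.support (∐ fun _ : Fin e => F) ⊆ CohB1.support F := by
  intro y hy
  by_contra h
  rw [← isZero_stalkSh_iff] at h
  apply (isZero_stalkSh_iff _ y).not.2 (not_not.2 hy)
  rw [IsZero.iff_id_eq_zero, ← (stalkSh X y).map_id, ← cp_total F e, Functor.map_sum]
  apply Finset.sum_eq_zero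
  intro j _
  rw [Functor.map_comp, h.eq_of_tgt ((stalkSh X y).map (cpπ F e j)) 0, zero_comp]

/-- in an abelian category, the preimage of a subobject of the quotient -/
theorem exists_ses_pullback {C : Type*} [Category C] [Abelian C] {P F Q F' : C} (i : P ⟶ F)
    (π : F ⟶ Q) (w : i ≫ π = 0) (hS : (ShortComplex.mk i π w).ShortExact) (ι : F' ⟶ Q) [Mono ι] :
    ∃ (P' : C) (p₁ : P' ⟶ F) (k : P ⟶ P') (p₂ : P' ⟶ F') (w' : k ≫ p₂ = 0), Mono p₁ ∧
      k ≫ p₁ = i ∧ p₁ ≫ π = p₂ ≫ ι ∧ (ShortComplex.mk k p₂ w').ShortExact := by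
  haveI : Mono i := hS.mono_f
  haveI : Epi π := hS.epi_g
  let k : P ⟶ pullback π ι := pullback.lift i 0 (by rw [w, zero_comp])
  have hk1 : k ≫ pullback.fst π ι = i := pullback.lift_fst _ _ _
  have hk2 : k ≫ pullback.snd π ι = 0 := pullback.lift_snd _ _ _
  refine ⟨pullback π ι, pullback.fst π ι, k, pullback.snd π ι, hk2, inferInstance, hk1,
    pullback.condition, ?_⟩
  haveI : Mono k := mono_of_mono_fac hk1
  refine ShortComplex.ShortExact.mk' ?_ inferInstance inferInstance
  apply ShortComplex.exact_of_f_is_kernel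
  have hlift : ∀ {T : C} (t : T ⟶ pullback π ι), t ≫ pullback.snd π ι = 0 →
      (t ≫ pullback.fst π ι) ≫ π = 0 := by
    intro T t ht
    rw [Category.assoc, pullback.condition, ← Category.assoc, ht, zero_comp]
  refine KernelFork.IsLimit.ofι k hk2
    (fun {T} t ht => hS.fIsKernel.lift (KernelFork.ofι (t ≫ pullback.fst π ι) (hlift t ht)))
    (fun {T} t ht => ?_) (fun {T} t ht m hm => ?_)
  · have h1 : hS.fIsKernel.lift (KernelFork.ofι (t ≫ pullback.fst π ι) (hlift t ht)) ≫ i =
        t ≫ pullback.fst π ι := hS.fIsKernel.fac _ WalkingParallelPair.zero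
    apply pullback.hom_ext
    · rw [Category.assoc, hk1, h1]
    · rw [Category.assoc, hk2, comp_zero, ht]
  · rw [← cancel_mono k, hm]
    have h1 : hS.fIsKernel.lift (KernelFork.ofι (t ≫ pullback.fst π ι) (hlift t ht)) ≫ i =
        t ≫ pullback.fst π ι := hS.fIsKernel.fac _ WalkingParallelPair.zero
    apply pullback.hom_ext
    · rw [Category.assoc, hk1, h1]
    · rw [Category.assoc, hk2, comp_zero, ht]

end Groth.Agent.Helper1.Dv
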