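import Mathlib
import Groth.Agent.Lib.Helper1.Dv13

/-!
# The inductive step of the dévissage (helper1)
-/

set_option autoImplicit false
universe u
open CategoryTheory CategoryTheory.Limits AlgebraicGeometry TopologicalSpace Opposite

namespace Groth.Agent.Helper1.Dv

open Groth.Agent.Helper1.QcCech Groth.Agent.Helper1.QcExt Groth.Agent.Helper1
open Groth.Agent.Helper1.CohACC Groth.Agent.Lead Groth.Agent.Helper1.SubSh

variable {X : Scheme.{u}}

theorem gen_step [IsNoetherian X] (K : X.Modules → Prop)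
    (hiso : ∀ M N : X.Modules, (M ≅ N) → K M → K N)
    (h0 : ∀ M : X.Modules, IsZero M → K M)
    (Z : Set X) (ξ : X) (hZ : closure {ξ} = Z)
    (ha : ∀ S : ShortComplex X.Modules, S.ShortExact → Coh.IsCoh S.X₁ → Coh.IsCoh S.X₂ →
      Coh.IsCoh S.X₃ → CohB1.support S.X₂ ⊆ Z →
      (K S.X₂ → K S.X₃ → K S.X₁) ∧ (K S.X₁ → K S.X₃ → K S.X₂))
    (IH : ∀ M : X.Modules, Coh.IsCoh M → CohB1.support M ⊆ Z → ξ ∉ CohB1.support M → K M)
    (G : X.Modules) (hG : Coh.IsCoh G) (hKG : K G) (hGZ : CohB1.support G ⊆ Z)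
    (hξG : ξ ∈ CohB1.support G)
    (hGξ : ∀ a ∈ IsLocalRing.maximalIdeal (X.presheaf.stalk ξ),
      ∀ v : G.presheaf.stalk ξ, a • v = 0)
    (hb : ∀ e : ℕ, e ≠ 0 → (IsSimpleModule (X.presheaf.stalk ξ) (G.presheaf.stalk ξ) → e = 1) →
      ∀ F : X.Modules, Coh.IsCoh F → K (∐ fun _ : Fin e => F) → K F)
    (F : X.Modules) (hF : Coh.IsCoh F) (hFZ : CohB1.support F ⊆ Z) : K F := by
  classical
  haveI : F.IsQuasicoherent := hF.1
  haveI : G.IsQuasicoherent := hG.1
  -- the poset of quasi-coherent subobjects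
  let α := {P : Subobject F // ((P : Subobject F) : X.Modules).IsQuasicoherent}
  haveI : WellFoundedGT α := by
    rw [wellFoundedGT_iff_monotone_chain_condition]
    intro a
    obtain ⟨n, hn⟩ := CohACC.acc F hF ⟨fun m => (a m).1, fun i j hij => a.monotone hij⟩
      (fun m => (a m).2)
    exact ⟨n, fun m hm => Subtype.ext (hn m hm).symm⟩
  let S : Set α := {P | K ((P.1 : Subobject F) : X.Modules)}
  have hbot : IsZero (((⊥ : Subobject F) : Subobject F) : X.Modules) :=
    IsZero.of_iso (isZero_zero _) Subobject.botCoeIsoZero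
  have hS : S.Nonempty := ⟨⟨⊥, QcAbel.isQuasicoherent_of_isZero hbot⟩, h0 _ hbot⟩
  obtain ⟨P, hPS, hPmax⟩ := (wellFounded_gt (α := α)).has_min S hS
  haveI : ((P.1 : Subobject F) : X.Modules).IsQuasicoherent := P.2
  let i := P.1.arrow
  have hP : Coh.IsCoh ((P.1 : Subobject F) : X.Modules) := FtLocal.isCoh_of_mono i hF P.2
  let Q := cokernel i
  let π : F ⟶ Q := cokernel.π i
  have hQ : Coh.IsCoh Q := FtLocal.isCoh_cokernel hP hF i
  have hSE : (ShortComplex.mk i π (cokernel.condition i)).ShortExact :=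
    ShortComplex.ShortExact.mk' (ShortComplex.cokernelSequence_exact i)
      (inferInstanceAs (Mono i)) (inferInstanceAs (Epi (cokernel.π i)))
  have hQZ : CohB1.support Q ⊆ Z := (support_epi π).trans hFZ
  by_cases hξQ : ξ ∈ CohB1.support Q
  swap
  · exact ((ha _ hSE hP hF hQ hFZ).2 hPS (IH Q hQ hQZ hξQ))
  exfalso
  -- affine neighbourhood
  obtain ⟨_, ⟨W, hW, rfl⟩, hξW, -⟩ :=
    X.isBasis_affineOpens.exists_subset_of_mem_open (Set.mem_univ ξ) isOpen_univ
  obtain ⟨x, hx⟩ := exists_assoc_section Q hQ ξ hξQ (hZ ▸ hQZ) hW hξW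
  obtain ⟨e, F', ι, ψ, hι, hF', hψ, hsimple, hzero⟩ := core Q G hQ hG hW ⟨ξ, hξW⟩ x hx hGξ
  haveI := hι
  have he : e ≠ 0 := fun h => hξG (hzero h)
  have hE : Coh.IsCoh (∐ fun _ : Fin e => F') := isCoh_coprod F' hF' e
  have hEZ : CohB1.support (∐ fun _ : Fin e => F') ⊆ Z :=
    (support_coprod_subset F' e).trans ((support_mono ι).trans hQZ)
  -- image factorization
  let Im := Abelian.image ψ
  let q : (∐ fun _ : Fin e => F') ⟶ Im := Abelian.factorThruImage ψ
  let j : Im ⟶ G := Abelian.image.ι ψ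
  have hfac : q ≫ j = ψ := Abelian.image.fac ψ
  have hIm : Coh.IsCoh Im :=
    FtLocal.isCoh_kernel hG (FtLocal.isCoh_cokernel hE hG ψ) (cokernel.π ψ)
  have hst : stalkL ψ ξ = (stalkL j ξ).comp (stalkL q ξ) := by rw [← stalkL_comp, hfac]
  have hqinj : Function.Injective (stalkL q ξ) := by
    have : Function.Injective ((stalkL j ξ) ∘ (stalkL q ξ)) := by
      have h1 := hψ.1
      rw [hst] at h1
      exact h1
    exact Function.Injective.of_comp this
  have hjsurj : Function.Surjective (stalkL j ξ) := by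
    have : Function.Surjective ((stalkL j ξ) ∘ (stalkL q ξ)) := by
      have h1 := hψ.2
      rw [hst] at h1
      exact h1
    exact Function.Surjective.of_comp this
  -- K (coker j)
  have hcj : Coh.IsCoh (cokernel j) := FtLocal.isCoh_cokernel hIm hG j
  have hKcj : K (cokernel j) := IH _ hcj ((support_epi (cokernel.π j)).trans hGZ)
    (notMem_support_cokernel' j ξ hjsurj)
  have hSE2 : (ShortComplex.cokernelSequence j).ShortExact :=
    ShortComplex.ShortExact.mk' (ShortComplex.cokernelSequence_exact j)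
      (inferInstanceAs (Mono j)) (inferInstanceAs (Epi (cokernel.π j)))
  have hKIm : K Im := (ha _ hSE2 hIm hG hcj hGZ).1 hKG hKcj
  -- K (ker q)
  have hkq : Coh.IsCoh (kernel q) := FtLocal.isCoh_kernel hE hIm q
  have hKkq : K (kernel q) := IH _ hkq ((support_mono (kernel.ι q)).trans hEZ)
    (notMem_support_kernel' q ξ hqinj)
  have hSE1 : (ShortComplex.kernelSequence q).ShortExact :=
    ShortComplex.ShortExact.mk' (ShortComplex.kernelSequence_exact q)
      (inferInstanceAs (Mono (kernel.ι q))) (inferInstanceAs (Epi q))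
  have hKE : K (∐ fun _ : Fin e => F') := (ha _ hSE1 hkq hE hIm hEZ).2 hKkq hKIm
  have hKF' : K F' := hb e he hsimple F' hF' hKE
  -- F' is nonzero
  have hF'0 : ¬ IsZero F' := by
    intro h
    have h1 := support_isZero (isZero_coprod_of_isZero h e)
    apply hξG
    have h2 : ξ ∉ CohB1.support (∐ fun _ : Fin e => F') := by rw [h1]; exact Set.notMem_empty ξ
    have h3 : Subsingleton ((∐ fun _ : Fin e => F').presheaf.stalk ξ) := not_not.1 h2
    exact hψ.2.subsingleton
  -- the preimage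
  obtain ⟨P', p₁, k, p₂, w', hp₁, hk1, hcomm, hSE3⟩ :=
    exists_ses_pullback i π (cokernel.condition i) hSE ι
  haveI := hp₁
  haveI : F'.IsQuasicoherent := hF'.1
  have hP'q : P'.IsQuasicoherent := QcExt.isQuasicoherent_mid hSE3
  have hP' : Coh.IsCoh P' := FtLocal.isCoh_of_mono p₁ hF hP'q
  have hKP' : K P' := (ha _ hSE3 hP hP' hF' ((support_mono p₁).trans hFZ)).2 hPS hKF'
  let e' := Subobject.underlyingIso p₁
  have hq'' : ((Subobject.mk p₁ : Subobject F) : X.Modules).IsQuasicoherent :=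
    QcAbel.isQuasicoherent_of_iso e'.symm
  have hle : P.1 ≤ Subobject.mk p₁ := Subobject.le_mk_of_comm k hk1
  have hne : P.1 ≠ Subobject.mk p₁ := by
    intro h
    have hge : Subobject.mk p₁ ≤ P.1 := h.ge
    have h1 : Subobject.ofMkLE p₁ P.1 hge ≫ i = p₁ := Subobject.ofMkLE_arrow hge
    have h2 : p₂ ≫ ι = 0 := by
      rw [← hcomm, ← h1, Category.assoc, cokernel.condition, comp_zero]
    have h3 : p₂ = 0 := by rw [← cancel_mono ι, h2, zero_comp]
    haveI : Epi p₂ := hSE3.epi_g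
    exact hF'0 (IsZero.of_epi_eq_zero p₂ h3)
  exact hPmax ⟨Subobject.mk p₁, hq''⟩ (hiso _ _ e'.symm hKP') (lt_of_le_of_ne hle (fun h => hne (congrArg Subtype.val h)))

end Groth.Agent.Helper1.Dv
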