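import Mathlib
import Groth.Agent.Lib.Helper1.Dv14
import Groth.Agent.S0049

/-!
# Noetherian induction for the dévissage (helper1)
-/

set_option autoImplicit false
universe u
open CategoryTheory CategoryTheory.Limits AlgebraicGeometry TopologicalSpace Opposite

namespace Groth.Agent.Helper1.Dv

open Groth.Agent.Helper1.QcCech Groth.Agent.Helper1.QcExt Groth.Agent.Helper1
open Groth.Agent.Helper1.CohACC Groth.Agent.Lead Groth.Agent.Helper1.SubSh
open Groth.Agent.Lib.Helper5.StalkAdj

variable {X : Scheme.{u}}

theorem isZero_of_support_subset_empty (F : X.Modules) (h : CohB1.support F ⊆ ∅) : IsZero F := by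
  apply isZero_of_stalks
  intro x
  rw [isZero_stalkSh_iff]
  exact fun hx => h hx

theorem isCoh_of_iso [IsLocallyNoetherian X] {M N : X.Modules} (e : M ≅ N) (hM : Coh.IsCoh M) :
    Coh.IsCoh N := by
  haveI : M.IsQuasicoherent := hM.1
  have hN : N.IsQuasicoherent := QcAbel.isQuasicoherent_of_iso e
  exact FtLocal.isCoh_of_mono e.inv hM hN

/-- **the Noetherian induction**: to prove that a class `K` closed under extensions contains all
coherent modules supported in a closed set `X'`, it suffices to treat the modules supported in an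
irreducible closed subset `Z ⊆ X'`, knowing the modules supported in smaller closed subsets. -/
theorem noeth_induction [IsNoetherian X] (K : X.Modules → Prop)
    (hiso : ∀ M N : X.Modules, (M ≅ N) → K M → K N)
    (h0 : ∀ M : X.Modules, IsZero M → K M)
    (X' : Set X)
    (ha2 : ∀ S : ShortComplex X.Modules, S.ShortExact → Coh.IsCoh S.X₁ → Coh.IsCoh S.X₂ →
      Coh.IsCoh S.X₃ → CohB1.support S.X₂ ⊆ X' → K S.X₁ → K S.X₃ → K S.X₂)
    (hgen : ∀ Z : Set X, IsClosed Z → IsIrreducible Z → Z ⊆ X' →
      (∀ M : X.Modules, Coh.IsCoh M → ∀ T : Set X, IsClosed T → T ⊆ Z → T ≠ Z →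
        CohB1.support M ⊆ T → K M) →
      ∀ F : X.Modules, Coh.IsCoh F → CohB1.support F ⊆ Z → K F)
    (F : X.Modules) (hF : Coh.IsCoh F) (hsupp : CohB1.support F ⊆ X') : K F := by
  -- induction on the closed set
  have key : ∀ T : Closeds X, (T : Set X) ⊆ X' → ∀ F : X.Modules, Coh.IsCoh F →
      CohB1.support F ⊆ T → K F := by
    intro T
    induction T using WellFoundedLT.induction with
    | ind T IH =>
      intro hTX' F hF hFT
      by_cases hirr : IsIrreducible (T : Set X)
      · refine hgen T T.isClosed hirr hTX' ?_ F hF hFT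
        intro M hM T' hT' hT'T hne hMT'
        refine IH ⟨T', hT'⟩ ?_ (hT'T.trans hTX') M hM hMT'
        exact lt_of_le_of_ne hT'T (fun h => hne (congrArg (fun C : Closeds X => (C : Set X)) h))
      · by_cases hemp : (T : Set X) = ∅
        · exact h0 F (isZero_of_support_subset_empty F (hemp ▸ hFT))
        · have hne : (T : Set X).Nonempty := Set.nonempty_iff_ne_empty.2 hemp
          have hpre : ¬ IsPreirreducible (T : Set X) := fun h => hirr ⟨hne, h⟩
          rw [isPreirreducible_iff_isClosed_union_isClosed] at hpre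
          push_neg at hpre
          obtain ⟨z₁, z₂, hz₁, hz₂, hcov, hn₁, hn₂⟩ := hpre
          have hFc : IsClosed (CohB1.support F) := FtGen.isClosed_support F hF.2
          obtain ⟨S, hS, ⟨e⟩, h1, h3, hs1, hs3⟩ := Groth.Agent.S0049.result X F hF
            (CohB1.support F ∩ z₁) (CohB1.support F ∩ z₂) (hFc.inter hz₁) (hFc.inter hz₂) (by
              rw [← Set.inter_union_distrib_left]
              exact (Set.inter_eq_left.2 (hFT.trans hcov)).symm)
          have h2 : Coh.IsCoh S.X₂ := isCoh_of_iso e.symm hF
          have hlt : ∀ (z : Set X) (hz : IsClosed z), ¬ (T : Set X) ⊆ z →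
              (⟨(T : Set X) ∩ z, T.isClosed.inter hz⟩ : Closeds X) < T := by
            intro z hz hn
            refine lt_of_le_of_ne (fun a ha => ha.1) (fun h => hn ?_)
            intro a ha
            have : a ∈ ((⟨(T : Set X) ∩ z, T.isClosed.inter hz⟩ : Closeds X) : Set X) := by
              rw [h]; exact ha
            exact this.2
          have hK1 : K S.X₁ := IH _ (hlt z₂ hz₂ hn₂) (Set.inter_subset_left.trans hTX') S.X₁ h1
            (hs1.trans (Set.inter_subset_inter_left _ hFT))
          have hK3 : K S.X₃ := IH _ (hlt z₁ hz₁ hn₁) (Set.inter_subset_left.trans hTX') S.X₃ h3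
            (hs3.trans (Set.inter_subset_inter_left _ hFT))
          have hsupp2 : CohB1.support S.X₂ ⊆ X' := by
            rw [support_iso e]
            exact hFT.trans hTX'
          exact hiso _ _ e (ha2 S hS h1 h2 h3 hsupp2 hK1 hK3)
  exact key ⟨CohB1.support F, FtGen.isClosed_support F hF.2⟩ hsupp F hF le_rfl

end Groth.Agent.Helper1.Dv
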