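import Mathlib
import Groth.Agent.Lib.Helper1.Dv15

/-!
# The dévissage theorem, master form (helper1)
-/

set_option autoImplicit false
universe u
open CategoryTheory CategoryTheory.Limits AlgebraicGeometry TopologicalSpace Opposite

namespace Groth.Agent.Helper1.Dv

open Groth.Agent.Helper1.QcCech Groth.Agent.Helper1.QcExt Groth.Agent.Helper1
open Groth.Agent.Helper1.CohACC Groth.Agent.Lead Groth.Agent.Helper1.SubSh

variable {X : Scheme.{u}}

/-- **dévissage, master form** -/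
theorem dev_main [IsNoetherian X] (K : X.Modules → Prop)
    (hiso : ∀ M N : X.Modules, (M ≅ N) → K M → K N)
    (h0 : ∀ M : X.Modules, IsZero M → K M)
    (X' : Set X)
    (ha : ∀ S : ShortComplex X.Modules, S.ShortExact → Coh.IsCoh S.X₁ → Coh.IsCoh S.X₂ →
      Coh.IsCoh S.X₃ → CohB1.support S.X₂ ⊆ X' →
      (K S.X₂ → K S.X₃ → K S.X₁) ∧ (K S.X₁ → K S.X₃ → K S.X₂))
    (hwit : ∀ (Z : Set X), IsClosed Z → IsIrreducible Z → Z ⊆ X' → ∀ ξ : X, closure {ξ} = Z →
      (∀ M : X.Modules, Coh.IsCoh M → CohB1.support M ⊆ Z → ξ ∉ CohB1.support M → K M) →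
      ∃ G : X.Modules, Coh.IsCoh G ∧ K G ∧ CohB1.support G ⊆ Z ∧ ξ ∈ CohB1.support G ∧
        (∀ a ∈ IsLocalRing.maximalIdeal (X.presheaf.stalk ξ),
          ∀ v : G.presheaf.stalk ξ, a • v = 0) ∧
        (∀ e : ℕ, e ≠ 0 → (IsSimpleModule (X.presheaf.stalk ξ) (G.presheaf.stalk ξ) → e = 1) →
          ∀ F : X.Modules, Coh.IsCoh F → K (∐ fun _ : Fin e => F) → K F))
    (F : X.Modules) (hF : Coh.IsCoh F) (hsupp : CohB1.support F ⊆ X') : K F := by
  refine noeth_induction K hiso h0 X' (fun S hS h1 h2 h3 hs => (ha S hS h1 h2 h3 hs).2) ?_ F hF hsupp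
  intro Z hZ hirr hZX' IH F hF hFZ
  obtain ⟨ξ, hξ⟩ := QuasiSober.sober hirr hZ
  have hξZ : closure {ξ} = Z := hξ.def
  have hξmem : ξ ∈ Z := hξZ ▸ subset_closure (Set.mem_singleton ξ)
  have IH' : ∀ M : X.Modules, Coh.IsCoh M → CohB1.support M ⊆ Z → ξ ∉ CohB1.support M → K M := by
    intro M hM hMZ hξM
    refine IH M hM (CohB1.support M) (FtGen.isClosed_support M hM.2) hMZ ?_ le_rfl
    intro h
    exact hξM (h ▸ hξmem)
  obtain ⟨G, hG, hKG, hGZ, hξG, hGξ, hb⟩ := hwit Z hZ hirr hZX' ξ hξZ IH'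
  exact gen_step K hiso h0 Z ξ hξZ
    (fun S hS h1 h2 h3 hs => ha S hS h1 h2 h3 (hs.trans hZX')) IH' G hG hKG hGZ hξG hGξ hb F hF hFZ

/-- the one-fold coproduct is the object itself -/
noncomputable def coprodOneIso (F : X.Modules) : (∐ fun _ : Fin 1 => F) ≅ F where
  hom := Sigma.desc (fun _ => 𝟙 F)
  inv := Sigma.ι (fun _ : Fin 1 => F) 0
  hom_inv_id := by
    apply Sigma.hom_ext
    intro j
    have : j = 0 := Subsingleton.elim _ _
    subst this
    rw [← Category.assoc, Sigma.ι_desc, Category.id_comp, Category.comp_id]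
  inv_hom_id := by rw [Sigma.ι_desc]

end Groth.Agent.Helper1.Dv
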