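import Mathlib
import Groth.Agent.Lib.Helper1.Dv16
import Groth.Prelude.Def_ClSub2

/-!
# Dévissage: the versions with a witness of length one (helper1)
-/

set_option autoImplicit false
universe u
open CategoryTheory CategoryTheory.Limits AlgebraicGeometry TopologicalSpace Opposite

namespace Groth.Agent.Helper1.Dv

open Groth.Agent.Helper1.QcCech Groth.Agent.Helper1.QcExt Groth.Agent.Helper1
open Groth.Agent.Helper1.CohACC Groth.Agent.Lead Groth.Agent.Helper1.SubSh

variable {X : Scheme.{u}}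

theorem smul_eq_zero_of_simple {R M : Type*} [CommRing R] [IsLocalRing R] [AddCommGroup M]
    [Module R M] [IsSimpleModule R M] (a : R) (ha : a ∈ IsLocalRing.maximalIdeal R) (v : M) :
    a • v = 0 := by
  have h1 : (Module.annihilator R M).IsMaximal := IsSimpleModule.annihilator_isMaximal
  have h2 : Module.annihilator R M = IsLocalRing.maximalIdeal R := IsLocalRing.eq_maximalIdeal h1
  rw [← h2] at ha
  exact Module.mem_annihilator.1 ha v

/-- dévissage with witnesses whose stalk at the generic point is simple -/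
theorem dev_simple [IsNoetherian X] (K : X.Modules → Prop)
    (hiso : ∀ M N : X.Modules, (M ≅ N) → K M → K N)
    (h0 : ∀ M : X.Modules, IsZero M → K M)
    (X' : Set X)
    (ha : ∀ S : ShortComplex X.Modules, S.ShortExact → Coh.IsCoh S.X₁ → Coh.IsCoh S.X₂ →
      Coh.IsCoh S.X₃ → CohB1.support S.X₂ ⊆ X' →
      (K S.X₂ → K S.X₃ → K S.X₁) ∧ (K S.X₁ → K S.X₃ → K S.X₂))
    (hwit : ∀ (Z : Set X), IsClosed Z → IsIrreducible Z → Z ⊆ X' → ∀ ξ : X, closure {ξ} = Z →
      (∀ M : X.Modules, Coh.IsCoh M → CohB1.support M ⊆ Z → ξ ∉ CohB1.support M → K M) →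
      ∃ G : X.Modules, Coh.IsCoh G ∧ K G ∧ CohB1.support G ⊆ Z ∧
        IsSimpleModule (X.presheaf.stalk ξ) (G.presheaf.stalk ξ))
    (F : X.Modules) (hF : Coh.IsCoh F) (hsupp : CohB1.support F ⊆ X') : K F := by
  refine dev_main K hiso h0 X' ha ?_ F hF hsupp
  intro Z hZ hirr hZX' ξ hξ IH
  obtain ⟨G, hG, hKG, hGZ, hsimp⟩ := hwit Z hZ hirr hZX' ξ hξ IH
  refine ⟨G, hG, hKG, hGZ, ?_, ?_, ?_⟩
  · intro h
    haveI : Subsingleton (G.presheaf.stalk ξ) := h
    haveI := IsSimpleModule.nontrivial (X.presheaf.stalk ξ) (G.presheaf.stalk ξ)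
    exact not_subsingleton (G.presheaf.stalk ξ) inferInstance
  · intro a ha v
    exact smul_eq_zero_of_simple a ha v
  · intro e _ he1 F hF hKF
    have := he1 hsimp
    subst this
    exact hiso _ _ (coprodOneIso F) hKF

end Groth.Agent.Helper1.Dv
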