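import Mathlib
import Groth.Agent.Lib.Helper1.Dv17

/-!
# Dévissage: witnesses killed by the ideal of the reduced structure (helper1)
-/

set_option autoImplicit false
universe u
open CategoryTheory CategoryTheory.Limits AlgebraicGeometry TopologicalSpace Opposite

namespace Groth.Agent.Helper1.Dv

open Groth.Agent.Helper1.QcCech Groth.Agent.Helper1.QcExt Groth.Agent.Helper1
open Groth.Agent.Helper1.CohACC Groth.Agent.Lead Groth.Agent.Helper1.SubSh
open Groth.Agent.Helper7.FinType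

variable {X : Scheme.{u}}

/-- over an affine open containing the generic point `y` of `Z`, the ideal of `Z` contains the prime
of `y` -/
theorem primeIdealOf_le_vanishingIdeal {Z : Set X} (hZ : IsClosed Z) (y : X)
    (hy : closure {y} = Z) {U : X.Opens} (hU : IsAffineOpen U) (hyU : y ∈ U) :
    (hU.primeIdealOf ⟨y, hyU⟩).asIdeal ≤
      (Scheme.IdealSheafData.vanishingIdeal ⟨Z, hZ⟩).ideal ⟨U, hU⟩ := by
  intro a ha
  rw [Scheme.IdealSheafData.vanishingIdeal_ideal, PrimeSpectrum.mem_vanishingIdeal]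
  intro q hq
  have hqU : hU.fromSpec q ∈ U := by
    have : hU.fromSpec q ∈ Set.range hU.fromSpec := ⟨q, rfl⟩
    rw [hU.range_fromSpec] at this
    exact this
  have hqZ : hU.fromSpec q ∈ closure {y} := by rw [hy]; exact hq
  have h1 : y ⤳ hU.fromSpec q := specializes_iff_mem_closure.2 hqZ
  have h2 := (primeIdealOf_le_iff_specializes hU y (hU.fromSpec q) hyU hqU).2 h1
  rw [primeIdealOf_fromSpec hU q hqU] at h2
  exact h2 ha

theorem killed_stalk_of_killedByIdeal {Z : Set X} (hZ : IsClosed Z) (y : X)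
    (hy : closure {y} = Z) (G : X.Modules)
    (hk : ClSub.KilledByIdeal (Scheme.IdealSheafData.vanishingIdeal ⟨Z, hZ⟩) G)
    (a : X.presheaf.stalk y) (ha : a ∈ IsLocalRing.maximalIdeal (X.presheaf.stalk y))
    (v : G.presheaf.stalk y) : a • v = 0 := by
  obtain ⟨V, hyV, n, rfl⟩ := TopCat.Presheaf.exists_germ_eq G.presheaf v
  obtain ⟨V', hyV', a'', rfl⟩ := TopCat.Presheaf.exists_germ_eq X.presheaf a
  obtain ⟨_, ⟨U, hU, rfl⟩, hyU, hUV⟩ := X.isBasis_affineOpens.exists_subset_of_mem_open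
    (show y ∈ ((V ⊓ V' : X.Opens) : Set X) from ⟨hyV, hyV'⟩) (V ⊓ V').isOpen
  have hUV1 : U ≤ V := fun z hz => (hUV hz).1
  have hUV2 : U ≤ V' := fun z hz => (hUV hz).2
  let a' : Γ(X, U) := X.presheaf.map (homOfLE hUV2).op a''
  let n' : Γ(G, U) := G.presheaf.map (homOfLE hUV1).op n
  have e1 : X.presheaf.germ V' y hyV' a'' = X.presheaf.germ U y hyU a' :=
    (TopCat.Presheaf.germ_res_apply X.presheaf (homOfLE hUV2) y hyU a'').symm
  have e2 : G.presheaf.germ V y hyV n = G.presheaf.germ U y hyU n' :=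
    (TopCat.Presheaf.germ_res_apply G.presheaf (homOfLE hUV1) y hyU n).symm
  rw [e1, e2, ← SD.germ_smul]
  have hp : a' ∈ (hU.primeIdealOf ⟨y, hyU⟩).asIdeal := by
    by_contra hcon
    have hu : IsUnit (X.presheaf.germ U y hyU a') := (SD.isUnit_germ_iff hU ⟨y, hyU⟩ a').2 hcon
    rw [e1] at ha
    exact (IsLocalRing.mem_maximalIdeal _).1 ha hu
  have h0 : a' • n' = 0 := hk ⟨U, hU⟩ a' (primeIdealOf_le_vanishingIdeal hZ y hy hU hyU hp) n'
  rw [h0, map_zero]

end Groth.Agent.Helper1.Dv
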