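import Mathlib
import Groth.Agent.Lib.Helper1.Dv18

/-!
# Dévissage: the integral closed subscheme of an irreducible closed subset (helper1)
-/

set_option autoImplicit false
universe u
open CategoryTheory CategoryTheory.Limits AlgebraicGeometry TopologicalSpace Opposite

namespace Groth.Agent.Helper1.Dv

open Groth.Agent.Helper1.QcCech Groth.Agent.Helper1.QcExt Groth.Agent.Helper1
open Groth.Agent.Helper1.CohACC Groth.Agent.Lead Groth.Agent.Helper1.SubSh

variable {X : Scheme.{u}}

theorem isReduced_vanishingIdeal_subscheme (Z : TopologicalSpace.Closeds X) :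
    IsReduced (Scheme.IdealSheafData.vanishingIdeal Z).subscheme := by
  haveI : ∀ i, IsReduced ((Scheme.IdealSheafData.vanishingIdeal Z).subschemeCover.openCover.X i) := by
    intro U
    change IsReduced (Spec (.of (Γ(X, U.1) ⧸ (Scheme.IdealSheafData.vanishingIdeal Z).ideal U)))
    haveI : _root_.IsReduced (Γ(X, U.1) ⧸ (Scheme.IdealSheafData.vanishingIdeal Z).ideal U) := by
      rw [← Ideal.isRadical_iff_quotient_reduced, Scheme.IdealSheafData.vanishingIdeal_ideal]
      exact PrimeSpectrum.isRadical_vanishingIdeal _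
    infer_instance
  exact IsReduced.of_openCover _ (Scheme.IdealSheafData.vanishingIdeal Z).subschemeCover.openCover

theorem irreducibleSpace_vanishingIdeal_subscheme (Z : TopologicalSpace.Closeds X)
    (hZ : IsIrreducible (Z : Set X)) :
    IrreducibleSpace ↥(Scheme.IdealSheafData.vanishingIdeal Z).subscheme := by
  have h : IsIrreducible ((Scheme.IdealSheafData.vanishingIdeal Z).support : Set X) := by
    rw [Scheme.IdealSheafData.coe_support_vanishingIdeal]
    exact hZ
  exact Subtype.irreducibleSpace h

/-- the reduced induced structure on an irreducible closed subset is an integral closed subscheme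
whose generic point maps to the generic point -/
theorem exists_integral_subscheme (Z : Set X) (hZ : IsClosed Z) (hirr : IsIrreducible Z) (ξ : X)
    (hξ : closure {ξ} = Z) :
    ∃ (Z' : Scheme.{u}) (i : Z' ⟶ X) (_ : IsClosedImmersion i) (_ : IsIntegral Z'),
      Set.range ⇑i = Z ∧ i (genericPoint Z') = ξ := by
  let Zc : TopologicalSpace.Closeds X := ⟨Z, hZ⟩
  haveI : IrreducibleSpace ↥(Scheme.IdealSheafData.vanishingIdeal Zc).subscheme :=
    irreducibleSpace_vanishingIdeal_subscheme Zc hirr
  haveI : IsReduced (Scheme.IdealSheafData.vanishingIdeal Zc).subscheme :=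
    isReduced_vanishingIdeal_subscheme Zc
  haveI : IsIntegral (Scheme.IdealSheafData.vanishingIdeal Zc).subscheme :=
    isIntegral_of_irreducibleSpace_of_isReduced _
  have hr : Set.range (Scheme.IdealSheafData.vanishingIdeal Zc).subschemeι = Z := by
    rw [Scheme.IdealSheafData.range_subschemeι, Scheme.IdealSheafData.coe_support_vanishingIdeal]
    rfl
  refine ⟨_, (Scheme.IdealSheafData.vanishingIdeal Zc).subschemeι, inferInstance, inferInstance,
    hr, ?_⟩
  set i := (Scheme.IdealSheafData.vanishingIdeal Zc).subschemeι with hi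
  set η := genericPoint (Scheme.IdealSheafData.vanishingIdeal Zc).subscheme with hη
  have h1 : closure ({η} : Set _) = Set.univ := (genericPoint_spec _).def
  have h2 : closure {i η} = Z := by
    have hcl : Topology.IsClosedEmbedding i := i.isClosedEmbedding
    rw [← Set.image_singleton, hcl.closure_image_eq, h1, Set.image_univ, hr]
  exact (inseparable_iff_closure_eq.2 (h2.trans hξ.symm)).eq

end Groth.Agent.Helper1.Dv

namespace Groth.Agent.Helper1.Dv

open Groth.Agent.Helper1.QcCech Groth.Agent.Helper1.QcExt Groth.Agent.Helper1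
open Groth.Agent.Helper1.CohACC Groth.Agent.Lead Groth.Agent.Helper1.SubSh

variable {X : Scheme.{u}}

theorem isCoh_of_isZero [IsLocallyNoetherian X] {M : X.Modules} (hM : IsZero M) (G₀ : X.Modules)
    (hG₀ : Coh.IsCoh G₀) : Coh.IsCoh M := by
  haveI : Mono (0 : M ⟶ G₀) := ⟨fun _ _ _ => hM.eq_of_tgt _ _⟩
  exact FtLocal.isCoh_of_mono (0 : M ⟶ G₀) hG₀ (QcAbel.isQuasicoherent_of_isZero hM)

/-- the short exact sequence `0 → G → G → 0 → 0` -/
theorem shortExact_id_zero {C : Type*} [Category C] [Abelian C] (G M : C) (hM : IsZero M) :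
    (ShortComplex.mk (𝟙 G) (0 : G ⟶ M) comp_zero).ShortExact := by
  haveI : Epi (0 : G ⟶ M) := ⟨fun _ _ _ => hM.eq_of_src _ _⟩
  refine ShortComplex.ShortExact.mk' ?_ (inferInstanceAs (Mono (𝟙 G))) (inferInstanceAs (Epi (0 : G ⟶ M)))
  exact (ShortComplex.exact_iff_epi _ rfl).2 (inferInstanceAs (Epi (𝟙 G)))

/-- the short exact sequence `0 → 0 → G → G → 0` -/
theorem shortExact_zero_id {C : Type*} [Category C] [Abelian C] (G M : C) (hM : IsZero M) :
    (ShortComplex.mk (0 : M ⟶ G) (𝟙 G) zero_comp).ShortExact := by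
  haveI : Mono (0 : M ⟶ G) := ⟨fun _ _ _ => hM.eq_of_tgt _ _⟩
  refine ShortComplex.ShortExact.mk' ?_ (inferInstanceAs (Mono (0 : M ⟶ G))) (inferInstanceAs (Epi (𝟙 G)))
  exact (ShortComplex.exact_iff_mono _ rfl).2 (inferInstanceAs (Mono (𝟙 G)))

theorem isSimpleModule_residueField (R : Type*) [CommRing R] [IsLocalRing R] :
    IsSimpleModule R (IsLocalRing.ResidueField R) := by
  rw [isSimpleModule_iff_isSimpleModule_of_algebraMap_surjective
    (S := IsLocalRing.ResidueField R) IsLocalRing.residue_surjective]
  infer_instance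

end Groth.Agent.Helper1.Dv
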