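import Mathlib
import Groth.Agent.Lib.Helper1.Dv19
import Groth.Agent.Lib.Helper1.PushQc
import Groth.Agent.Lib.Helper1.CoprodMod

/-!
# Dévissage: stalks of direct images under closed immersions of integral schemes (helper1)
-/

set_option autoImplicit false
universe u
open CategoryTheory CategoryTheory.Limits AlgebraicGeometry TopologicalSpace Opposite

namespace Groth.Agent.Helper1.Dv

open Groth.Agent.Helper1.QcCech Groth.Agent.Helper1.QcExt Groth.Agent.Helper1
open Groth.Agent.Helper1.CohACC Groth.Agent.Lead Groth.Agent.Helper1.SubSh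

variable {Z' X : Scheme.{u}} (i : Z' ⟶ X) (H : Z'.Modules)

/-- an open of the source of an embedding is the preimage of an open of the target -/
theorem exists_preimage_eq [IsClosedImmersion i] (V : Z'.Opens) :
    ∃ U : X.Opens, i ⁻¹ᵁ U = V := by
  obtain ⟨U, hU, hUV⟩ := (i.isClosedEmbedding.isInducing.isOpen_iff).1 V.isOpen
  exact ⟨⟨U, hU⟩, Opens.ext hUV⟩

theorem support_pushforward_subset [IsClosedImmersion i] :
    CohB1.support ((Scheme.Modules.pushforward i).obj H) ⊆ Set.range ⇑i := by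
  intro y hy
  by_contra hyr
  apply hy
  refine ⟨fun v w => ?_⟩
  suffices h0 : ∀ v : ((Scheme.Modules.pushforward i).obj H).presheaf.stalk y, v = 0 by
    rw [h0 v, h0 w]
  intro v
  obtain ⟨V, hyV, n, rfl⟩ :=
    TopCat.Presheaf.exists_germ_eq ((Scheme.Modules.pushforward i).obj H).presheaf v
  let U : X.Opens := ⟨(Set.range ⇑i)ᶜ, i.isClosedEmbedding.isClosed_range.isOpen_compl⟩
  have hyU : y ∈ U := hyr
  have hbot : i ⁻¹ᵁ (V ⊓ U) = ⊥ := by
    ext z
    simp only [Opens.coe_bot, Set.mem_empty_iff_false, iff_false]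
    intro hz
    exact hz.2 ⟨z, rfl⟩
  haveI : Subsingleton Γ((Scheme.Modules.pushforward i).obj H, V ⊓ U) :=
    CoprodMod.subsingleton_of_eq_bot H hbot
  rw [← TopCat.Presheaf.germ_res_apply ((Scheme.Modules.pushforward i).obj H).presheaf
    (homOfLE (inf_le_left : V ⊓ U ≤ V)) y ⟨hyV, hyU⟩ n]
  rw [Subsingleton.elim (((Scheme.Modules.pushforward i).obj H).presheaf.map
    (homOfLE (inf_le_left : V ⊓ U ≤ V)).op n) 0, map_zero]

end Groth.Agent.Helper1.Dv

namespace Groth.Agent.Helper1.Dv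

open Groth.Agent.Helper1.QcCech Groth.Agent.Helper1.QcExt Groth.Agent.Helper1
open Groth.Agent.Helper1.CohACC Groth.Agent.Lead Groth.Agent.Helper1.SubSh

variable {Z' X : Scheme.{u}} (i : Z' ⟶ X) (H : Z'.Modules)

/-- the stalk of `i_* H` at `i η` is nonzero when the stalk of `H` at `η` is -/
theorem mem_support_pushforward [IsClosedImmersion i] (η : Z')
    (hη : Nontrivial (H.presheaf.stalk η)) :
    i η ∈ CohB1.support ((Scheme.Modules.pushforward i).obj H) := by
  intro hsub
  apply not_subsingleton (H.presheaf.stalk η)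
  refine ⟨fun v w => ?_⟩
  suffices h0 : ∀ v : H.presheaf.stalk η, v = 0 by rw [h0 v, h0 w]
  intro v
  obtain ⟨V, hηV, s, rfl⟩ := TopCat.Presheaf.exists_germ_eq H.presheaf v
  obtain ⟨U, hU⟩ := exists_preimage_eq i V
  subst hU
  -- `s` as a section of the direct image over `U`
  let s' : Γ((Scheme.Modules.pushforward i).obj H, U) := s
  have h1 : ((Scheme.Modules.pushforward i).obj H).presheaf.germ U (i η) hηV s' =
      ((Scheme.Modules.pushforward i).obj H).presheaf.germ U (i η) hηV 0 :=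
    Subsingleton.elim _ _
  obtain ⟨W, hW, iU, iV, e⟩ := TopCat.Presheaf.germ_eq
    ((Scheme.Modules.pushforward i).obj H).presheaf (i η) hηV hηV s' 0 h1
  rw [map_zero] at e
  have hWU : W ≤ U := leOfHom iU
  have e' : H.presheaf.map (homOfLE (i.preimage_mono hWU)).op s = 0 := by
    have : iU = homOfLE hWU := Subsingleton.elim _ _
    rw [this] at e
    exact e
  rw [← TopCat.Presheaf.germ_res_apply H.presheaf (homOfLE (i.preimage_mono hWU)) η hW s, e',
    map_zero]

/-- the maximal ideal at the image of the generic point kills the stalk of a direct image from an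
integral closed subscheme -/
theorem smul_stalk_pushforward_eq_zero [IsClosedImmersion i] (η : Z')
    (hfield : IsField (Z'.presheaf.stalk η))
    (a : X.presheaf.stalk (i η))
    (ha : a ∈ IsLocalRing.maximalIdeal (X.presheaf.stalk (i η)))
    (v : ((Scheme.Modules.pushforward i).obj H).presheaf.stalk (i η)) :
    a • v = 0 := by
  obtain ⟨V, hyV, n, rfl⟩ :=
    TopCat.Presheaf.exists_germ_eq ((Scheme.Modules.pushforward i).obj H).presheaf v
  obtain ⟨V', hyV', a'', rfl⟩ := TopCat.Presheaf.exists_germ_eq X.presheaf a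
  let U : X.Opens := V ⊓ V'
  have hyU : i η ∈ U := ⟨hyV, hyV'⟩
  let a' : Γ(X, U) := X.presheaf.map (homOfLE (inf_le_right : U ≤ V')).op a''
  let n' : Γ((Scheme.Modules.pushforward i).obj H, U) :=
    ((Scheme.Modules.pushforward i).obj H).presheaf.map (homOfLE (inf_le_left : U ≤ V)).op n
  have e1 : X.presheaf.germ V' (i η) hyV' a'' = X.presheaf.germ U (i η) hyU a' :=
    (TopCat.Presheaf.germ_res_apply X.presheaf (homOfLE inf_le_right) (i η) hyU a'').symm
  have e2 : ((Scheme.Modules.pushforward i).obj H).presheaf.germ V (i η) hyV n =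
      ((Scheme.Modules.pushforward i).obj H).presheaf.germ U (i η) hyU n' :=
    (TopCat.Presheaf.germ_res_apply ((Scheme.Modules.pushforward i).obj H).presheaf
      (homOfLE inf_le_left) (i η) hyU n).symm
  rw [e1, e2, ← SD.germ_smul]
  rw [e1] at ha
  -- the function `b = i^# a'` has zero germ at the generic point
  let b : Γ(Z', i ⁻¹ᵁ U) := i.app U a'
  have hb : Z'.presheaf.germ (i ⁻¹ᵁ U) η hyU b = 0 := by
    have h1 : Z'.presheaf.germ (i ⁻¹ᵁ U) η hyU b = i.stalkMap η (X.presheaf.germ U (i η) hyU a') :=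
      (Scheme.Hom.germ_stalkMap_apply i U η hyU a').symm
    have h2 : ¬ IsUnit (Z'.presheaf.germ (i ⁻¹ᵁ U) η hyU b) := by
      intro hu
      rw [h1] at hu
      have := (isUnit_map_iff (i.stalkMap η).hom _).1 hu
      exact (IsLocalRing.mem_maximalIdeal _).1 ha this
    by_contra hne
    obtain ⟨c, hc⟩ := hfield.mul_inv_cancel hne
    exact h2 (IsUnit.of_mul_eq_one c hc)
  have hb0 : Z'.presheaf.germ (i ⁻¹ᵁ U) η hyU b = Z'.presheaf.germ (i ⁻¹ᵁ U) η hyU 0 := by
    rw [hb, map_zero]
  obtain ⟨W, hW, iU, iV, e⟩ := TopCat.Presheaf.germ_eq Z'.presheaf η hyU hyU b 0 hb0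
  rw [map_zero] at e
  obtain ⟨U', hU'⟩ := exists_preimage_eq i W
  subst hU'
  -- restrict to `U ⊓ U'`
  have hyUU' : i η ∈ U ⊓ U' := ⟨hyU, hW⟩
  rw [← TopCat.Presheaf.germ_res_apply ((Scheme.Modules.pushforward i).obj H).presheaf
    (homOfLE (inf_le_left : U ⊓ U' ≤ U)) (i η) hyUU' (a' • n')]
  have h3 : ((Scheme.Modules.pushforward i).obj H).presheaf.map
      (homOfLE (inf_le_left : U ⊓ U' ≤ U)).op (a' • n') = 0 := by
    change H.presheaf.map (homOfLE (i.preimage_mono (inf_le_left : U ⊓ U' ≤ U))).op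
      (show Γ(H, i ⁻¹ᵁ U) from (b • (show Γ(H, i ⁻¹ᵁ U) from n'))) = 0
    erw [Scheme.Modules.map_smul H (homOfLE (i.preimage_mono (inf_le_left : U ⊓ U' ≤ U)))]
    have h4 : Z'.presheaf.map (homOfLE (i.preimage_mono (inf_le_left : U ⊓ U' ≤ U))).op b = 0 := by
      have h5 : (homOfLE (i.preimage_mono (inf_le_left : U ⊓ U' ≤ U))) =
          homOfLE (i.preimage_mono (inf_le_right : U ⊓ U' ≤ U')) ≫ iU := Subsingleton.elim _ _
      rw [h5, op_comp, Functor.map_comp, ConcreteCategory.comp_apply, e, map_zero]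
    rw [h4, zero_smul]
  rw [h3, map_zero]

end Groth.Agent.Helper1.Dv
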