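import Mathlib
import Groth.Agent.Lib.Helper1.Dv20
import Groth.Agent.Lib.Helper7.CohStalk.StructureSheaf
import Groth.Agent.Lib.Lead.CIU4
import Groth.Agent.Lib.Lead.PBQc

/-!
# Dévissage: subobjects of `i_* O_Z` (helper1)
-/

set_option autoImplicit false
universe u
open CategoryTheory CategoryTheory.Limits AlgebraicGeometry TopologicalSpace Opposite

namespace Groth.Agent.Helper1.Dv

open Groth.Agent.Helper1.QcCech Groth.Agent.Helper1.QcExt Groth.Agent.Helper1
open Groth.Agent.Helper1.CohACC Groth.Agent.Lead Groth.Agent.Helper1.SubSh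

theorem isCoh_structureModule (Z : Scheme.{u}) : Coh.IsCoh (Coh.structureModule Z) := by
  have hq : (Coh.structureModule Z).IsQuasicoherent :=
    Groth.Agent.Helper7.FinType.isQuasicoherent_structureModule Z
  refine ⟨hq, FtLocal.isFiniteType_of_affineOpens _ (fun V hV => ?_)⟩
  apply VT.finite_restrict_top_of_finite _ hV
  exact inferInstanceAs (Module.Finite Γ(Z, V) Γ(Z, V))

variable {Z' X : Scheme.{u}} (i : Z' ⟶ X)

/-- the unit section -/
noncomputable def oneSec (U : X.Opens) : Γ((Scheme.Modules.pushforward i).obj (Coh.structureModule Z'), U) :=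
  (1 : Γ(Z', i ⁻¹ᵁ U))

theorem smul_oneSec (U : X.Opens) (a : Γ(X, U)) :
    a • oneSec i U = (show Γ((Scheme.Modules.pushforward i).obj (Coh.structureModule Z'), U) from
      ((i.app U).hom a : Γ(Z', i ⁻¹ᵁ U))) := by
  rw [PushQc.push_smul]
  show (((i.app U).hom a : Γ(Z', i ⁻¹ᵁ U)) * (1 : Γ(Z', i ⁻¹ᵁ U)) : Γ(Z', i ⁻¹ᵁ U)) = _
  rw [mul_one]

theorem smul_oneSec_eq_zero_iff [IsIntegral Z'] {W : X.Opens} (hW : IsAffineOpen W)
    (hξ : i (genericPoint Z') ∈ W) (a : Γ(X, W)) :
    a • oneSec i W = 0 ↔ a ∈ (hW.primeIdealOf ⟨i (genericPoint Z'), hξ⟩).asIdeal := by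
  rw [smul_oneSec]
  change ((i.app W).hom a : Γ(Z', i ⁻¹ᵁ W)) = 0 ↔ _
  set η := genericPoint Z'
  have hfield : IsField (Z'.presheaf.stalk η) := Field.toIsField Z'.functionField
  have h1 : Z'.presheaf.germ (i ⁻¹ᵁ W) η hξ ((i.app W).hom a) =
      i.stalkMap η (X.presheaf.germ W (i η) hξ a) :=
    (Scheme.Hom.germ_stalkMap_apply i W η hξ a).symm
  have hiff := SD.isUnit_germ_iff hW ⟨i η, hξ⟩ a
  constructor
  · intro h0
    by_contra hna
    have hu : IsUnit (X.presheaf.germ W (i η) hξ a) := hiff.2 hna
    have hu2 : IsUnit (i.stalkMap η (X.presheaf.germ W (i η) hξ a)) := hu.map _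
    rw [← h1, h0, map_zero] at hu2
    exact not_isUnit_zero hu2
  · intro ha
    have hnu : ¬ IsUnit (X.presheaf.germ W (i η) hξ a) := fun hu => (hiff.1 hu) ha
    have h2 : ¬ IsUnit (Z'.presheaf.germ (i ⁻¹ᵁ W) η hξ ((i.app W).hom a)) := by
      intro hu
      rw [h1] at hu
      exact hnu ((isUnit_map_iff (i.stalkMap η).hom _).1 hu)
    have h3 : Z'.presheaf.germ (i ⁻¹ᵁ W) η hξ ((i.app W).hom a) = 0 := by
      by_contra hne
      obtain ⟨c, hc⟩ := hfield.mul_inv_cancel hne
      exact h2 (IsUnit.of_mul_eq_one c hc)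
    apply germ_injective_of_isIntegral Z' η hξ
    rw [h3, map_zero]

/-- a morphism to `i_* O_Z` (Z integral) from a module with zero stalk at the image of the generic
point vanishes -/
theorem hom_push_eq_zero [IsIntegral Z'] (T : X.Modules)
    (hT : i (genericPoint Z') ∉ CohB1.support T)
    (g : T ⟶ (Scheme.Modules.pushforward i).obj (Coh.structureModule Z')) : g = 0 := by
  have hsub : Subsingleton (T.presheaf.stalk (i (genericPoint Z'))) := not_not.1 hT
  set η := genericPoint Z'
  apply Scheme.Modules.hom_ext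
  intro V
  ext s
  change g.app V s = 0
  by_cases hV : i η ∈ V
  · have h1 : T.presheaf.germ V (i η) hV s = T.presheaf.germ V (i η) hV 0 :=
      Subsingleton.elim _ _
    obtain ⟨V', hV', iU, iV, e⟩ := TopCat.Presheaf.germ_eq T.presheaf (i η) hV hV s 0 h1
    rw [map_zero] at e
    have hle : V' ≤ V := leOfHom iU
    have e' : T.presheaf.map (homOfLE hle).op s = 0 := by
      have : iU = homOfLE hle := Subsingleton.elim _ _
      rw [this] at e
      exact e
    have h2 := Groth.Agent.Lead.CIU.hom_naturality_apply g hle s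
    rw [e', map_zero] at h2
    -- restriction on Z' is injective
    haveI : Nonempty (i ⁻¹ᵁ V' : Z'.Opens) := ⟨⟨η, hV'⟩⟩
    have hinj := map_injective_of_isIntegral Z' (homOfLE (i.preimage_mono hle))
    apply hinj
    refine Eq.trans ?_ (map_zero _).symm
    exact h2.symm
  · have hbot : i ⁻¹ᵁ V = ⊥ := by
      by_contra hne
      have hne' : (i ⁻¹ᵁ V : Set Z').Nonempty := by
        rw [Set.nonempty_iff_ne_empty]
        intro h
        exact hne (Opens.ext h)
      have := ((genericPoint_spec Z').mem_open_set_iff (i ⁻¹ᵁ V).isOpen).2 (by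
        simpa [Set.inter_univ] using hne')
      exact hV this
    haveI : Subsingleton Γ((Scheme.Modules.pushforward i).obj (Coh.structureModule Z'), V) :=
      CoprodMod.subsingleton_of_eq_bot (Coh.structureModule Z') hbot
    exact Subsingleton.elim _ _

/-- **torsion-freeness**: a subobject of a finite direct sum of subobjects of `i_* O_Z`
(`Z` integral) whose stalk at the image of the generic point vanishes is zero -/
theorem isZero_of_mono_coprod [IsIntegral Z'] (F'' : X.Modules)
    (ι'' : F'' ⟶ (Scheme.Modules.pushforward i).obj (Coh.structureModule Z')) [Mono ι'']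
    (e : ℕ) (T : X.Modules) (k : T ⟶ ∐ fun _ : Fin e => F'') [Mono k]
    (hT : i (genericPoint Z') ∉ CohB1.support T) : IsZero T := by
  have h1 : ∀ j, k ≫ cpπ F'' e j = 0 := fun j => by
    rw [← cancel_mono ι'', Category.assoc, zero_comp]
    exact hom_push_eq_zero i T hT _
  have h2 : k = 0 := by
    rw [← Category.comp_id k, ← cp_total, Preadditive.comp_sum]
    apply Finset.sum_eq_zero
    intro j _
    rw [← Category.assoc, h1, zero_comp]
  exact IsZero.of_mono_eq_zero k h2

theorem pushforward_map_app {A B : Z'.Modules} (g : A ⟶ B) (U : X.Opens) :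
    ((Scheme.Modules.pushforward i).map g).app U = g.app (i ⁻¹ᵁ U) := rfl

instance faithful_pushforward [IsClosedImmersion i] : (Scheme.Modules.pushforward i).Faithful where
  map_injective {A B} g h hgh := by
    apply Scheme.Modules.hom_ext
    intro V
    obtain ⟨U, rfl⟩ := exists_preimage_eq i V
    have := congrArg (fun φ => Scheme.Modules.Hom.app φ U) hgh
    exact this

theorem exists_ideal_of_sub [IsClosedImmersion i] (F'' : X.Modules) (hF'' : Coh.IsCoh F'')
    (ι'' : F'' ⟶ (Scheme.Modules.pushforward i).obj (Coh.structureModule Z')) [Mono ι''] :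
    ∃ (I : Z'.Modules) (ι : I ⟶ Coh.structureModule Z')
      (e : F'' ≅ (Scheme.Modules.pushforward i).obj I), Mono ι ∧ Coh.IsCoh I ∧
        e.hom ≫ (Scheme.Modules.pushforward i).map ι = ι'' := by
  haveI : F''.IsQuasicoherent := hF''.1
  let adj := Scheme.Modules.pullbackPushforwardAdjunction i
  have hk : ∀ (U : X.Opens), IsAffineOpen U → ∀ a ∈ RingHom.ker (i.app U).hom,
      ∀ m : Γ(F'', U), a • m = 0 := by
    intro U _ a ha m
    apply FtLocal.app_injective_of_mono ι'' U
    rw [map_zero, Scheme.Modules.Hom.app_smul, PushQc.push_smul]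
    rw [RingHom.mem_ker] at ha
    rw [ha, zero_smul]
    rfl
  haveI hiso : IsIso (adj.unit.app F'') := CIU.isIso_unit_of_killed_global i F'' hk
  let I : Z'.Modules := (Scheme.Modules.pullback i).obj F''
  let ι : I ⟶ Coh.structureModule Z' :=
    (Scheme.Modules.pullback i).map ι'' ≫ adj.counit.app (Coh.structureModule Z')
  have hcomp : adj.unit.app F'' ≫ (Scheme.Modules.pushforward i).map ι = ι'' := by
    simp only [ι, Functor.map_comp]
    have h1 := adj.unit.naturality ι''
    simp only [Functor.id_obj, Functor.id_map, Functor.comp_obj, Functor.comp_map] at h1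
    rw [← Category.assoc, ← h1, Category.assoc]
    have h2 := adj.right_triangle_components (Coh.structureModule Z')
    rw [h2, Category.comp_id]
  have hmono' : Mono ((Scheme.Modules.pushforward i).map ι) := by
    have : Mono (adj.unit.app F'' ≫ (Scheme.Modules.pushforward i).map ι) := by
      rw [hcomp]; infer_instance
    have e2 : (Scheme.Modules.pushforward i).map ι =
        inv (adj.unit.app F'') ≫ (adj.unit.app F'' ≫ (Scheme.Modules.pushforward i).map ι) := by
      rw [IsIso.inv_hom_id_assoc]
    rw [e2]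
    infer_instance
  have hmono : Mono ι := (Scheme.Modules.pushforward i).mono_of_mono_map hmono'
  have hIq : I.IsQuasicoherent := PB.isQuasicoherent_pullback i F''
  have hIft : CohB1.IsFT I := PB.isFT_pullback i F'' hF''.2
  exact ⟨I, ι, asIso (adj.unit.app F''), hmono, ⟨hIq, hIft⟩, hcomp⟩

end Groth.Agent.Helper1.Dv
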