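import Mathlib
import Groth.Agent.Lib.Helper1.Dv21

/-!
# Dévissage: the local structure lemma (helper1)

A coherent module whose stalk at the generic point `ξ` of an integral closed subscheme `i : Z → X`
is killed by the maximal ideal contains `i_* (I^{⊕ r})`, isomorphically near `ξ`.
-/

set_option autoImplicit false
universe u
open CategoryTheory CategoryTheory.Limits AlgebraicGeometry TopologicalSpace Opposite

namespace Groth.Agent.Helper1.Dv

open Groth.Agent.Helper1.QcCech Groth.Agent.Helper1.QcExt Groth.Agent.Helper1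
open Groth.Agent.Helper1.CohACC Groth.Agent.Lead Groth.Agent.Helper1.SubSh

variable {Z' X : Scheme.{u}} (i : Z' ⟶ X)

theorem lemmaA [IsNoetherian X] [IsClosedImmersion i] [IsIntegral Z'] (F : X.Modules)
    (hF : Coh.IsCoh F)
    (hann : ∀ a ∈ IsLocalRing.maximalIdeal (X.presheaf.stalk (i (genericPoint Z'))),
      ∀ m : F.presheaf.stalk (i (genericPoint Z')), a • m = 0) :
    ∃ (r : ℕ) (I : Z'.Modules) (ι : I ⟶ Coh.structureModule Z')
      (φ : (Scheme.Modules.pushforward i).obj (∐ fun _ : Fin r => I) ⟶ F),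
      Mono ι ∧ Coh.IsCoh I ∧ Mono φ ∧ Function.Bijective (stalkL φ (i (genericPoint Z'))) ∧
      (IsSimpleModule (X.presheaf.stalk (i (genericPoint Z')))
        (F.presheaf.stalk (i (genericPoint Z'))) → r = 1) ∧
      (r = 0 → Subsingleton (F.presheaf.stalk (i (genericPoint Z')))) := by
  set ξ := i (genericPoint Z') with hξdef
  obtain ⟨_, ⟨W, hW, rfl⟩, hξW, -⟩ :=
    X.isBasis_affineOpens.exists_subset_of_mem_open (Set.mem_univ ξ) isOpen_univ
  have hE : Coh.IsCoh ((Scheme.Modules.pushforward i).obj (Coh.structureModule Z')) :=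
    FinPush.isCoh_pushforward i _ (isCoh_structureModule Z')
  obtain ⟨e, F'', ι'', ψ, hι'', hF'', hψ, hsimple, hzero⟩ :=
    core _ F hE hF hW ⟨ξ, hξW⟩ (oneSec i W) (smul_oneSec_eq_zero_iff i hW hξW) hann
  haveI := hι''
  -- ψ is a monomorphism
  have hker : IsZero (kernel ψ) :=
    isZero_of_mono_coprod i F'' ι'' e (kernel ψ) (kernel.ι ψ)
      (notMem_support_kernel' ψ ξ hψ.1)
  have hψmono : Mono ψ := Preadditive.mono_of_kernel_zero (hker.eq_of_src _ _)
  obtain ⟨I, ι, e'', hι, hI, -⟩ := exists_ideal_of_sub i F'' hF'' ι''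
  let c : (Scheme.Modules.pushforward i).obj (∐ fun _ : Fin e => I) ≅ ∐ fun _ : Fin e => F'' :=
    PreservesCoproduct.iso (Scheme.Modules.pushforward i) (fun _ : Fin e => I) ≪≫
      Sigma.mapIso (fun _ => e''.symm)
  refine ⟨e, I, ι, c.hom ≫ ψ, hι, hI, mono_comp _ _, ?_, hsimple, hzero⟩
  rw [stalkL_comp]
  exact hψ.comp (stalkL_bijective_of_isIso c.hom ξ)

end Groth.Agent.Helper1.Dv
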