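import Mathlib
import Groth.Agent.Lib.Helper1.Dv22

/-!
# Dévissage: comparison of the two descriptions of the stalk map (helper1)
-/

set_option autoImplicit false
universe u
open CategoryTheory CategoryTheory.Limits AlgebraicGeometry TopologicalSpace Opposite

namespace Groth.Agent.Helper1.Dv

variable {X : Scheme.{u}}

theorem stalkL_eq_stalkFunctor {E G : X.Modules} (ψ : E ⟶ G) (x : X) :
    ⇑(stalkL ψ x) = ⇑((TopCat.Presheaf.stalkFunctor _ x).map ψ.mapPresheaf).hom := by
  funext v
  obtain ⟨U, hxU, s, rfl⟩ := TopCat.Presheaf.exists_germ_eq E.presheaf v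
  rw [stalkL_germ]
  exact (TopCat.Presheaf.stalkFunctor_map_germ_apply U x hxU ψ.mapPresheaf s).symm

end Groth.Agent.Helper1.Dv
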