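import Mathlib
import Groth.Agent.Lib.Helper1.Dv23

/-!
# Dévissage: every nonzero coherent module contains a nonzero `i_* I` (helper1)
-/

set_option autoImplicit false
universe u
open CategoryTheory CategoryTheory.Limits AlgebraicGeometry TopologicalSpace Opposite

namespace Groth.Agent.Helper1.Dv

section alg

theorem alg_killed {A : Type u} [CommRing A] (p : Ideal A) [p.IsPrime]
    {B : Type u} [CommRing B] [IsLocalRing B] [Algebra A B] [IsLocalization.AtPrime B p]
    {N : Type u} [AddCommGroup N] [Module A N]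
    {V : Type u} [AddCommGroup V] [Module B V] [Module A V] [IsScalarTower A B V]
    (g : N →ₗ[A] V) [IsLocalizedModule p.primeCompl g]
    (hN : ∀ a ∈ p, ∀ n : N, a • n = 0) :
    ∀ b ∈ IsLocalRing.maximalIdeal B, ∀ v : V, b • v = 0 := by
  intro b hb v
  obtain ⟨⟨a', t'⟩, hat⟩ := IsLocalization.surj p.primeCompl b
  obtain ⟨⟨n, t⟩, hnt⟩ := IsLocalizedModule.surj p.primeCompl g v
  simp only at hat hnt
  have ha' : a' ∈ p := by
    rw [← IsLocalization.AtPrime.to_map_mem_maximal_iff B p a', ← hat]
    exact Ideal.mul_mem_right _ _ hb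
  have hu1 : IsUnit (algebraMap A B t'.1) := IsLocalization.map_units B t'
  have hu2 : IsUnit (algebraMap A B t.1) := IsLocalization.map_units B t
  have h1 : (algebraMap A B t'.1 * algebraMap A B t.1) • (b • v) = 0 := by
    have e1 : (algebraMap A B t'.1 * algebraMap A B t.1) • (b • v) =
        (b * algebraMap A B t'.1) • (algebraMap A B t.1 • v) := by
      rw [smul_smul, smul_smul]; ring_nf
    rw [e1, hat, algebraMap_smul, algebraMap_smul]
    have : t.1 • v = g n := hnt
    rw [this, ← map_smul, hN a' ha', map_zero]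
  exact (hu1.mul hu2).smul_eq_zero.1 h1

theorem alg_ne_zero {A : Type u} [CommRing A] (p : Ideal A) [p.IsPrime]
    {N : Type u} [AddCommGroup N] [Module A N]
    {V : Type u} [AddCommGroup V] [Module A V]
    (g : N →ₗ[A] V) [IsLocalizedModule p.primeCompl g]
    (x₀ : N) (hx₀ : ∀ a : A, a • x₀ = 0 → a ∈ p) : g x₀ ≠ 0 := by
  intro h
  have h' : g x₀ = g 0 := by rw [h, map_zero]
  obtain ⟨c, hc⟩ := IsLocalizedModule.exists_of_eq (S := p.primeCompl) h'
  rw [smul_zero] at hc
  exact c.2 (hx₀ c.1 hc)

end alg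

end Groth.Agent.Helper1.Dv
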