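import Mathlib
import Groth.Agent.Lib.Helper1.Dv23
import Groth.Agent.Lib.Helper1.Dv24x

/-!
# Dévissage: every nonzero coherent module contains a nonzero `i_* I` (helper1)
-/

set_option autoImplicit false
universe u
open CategoryTheory CategoryTheory.Limits AlgebraicGeometry TopologicalSpace Opposite

namespace Groth.Agent.Helper1.Dv

open Groth.Agent.Helper1.QcCech Groth.Agent.Helper1.QcExt Groth.Agent.Helper1
open Groth.Agent.Helper1.CohACC Groth.Agent.Lead Groth.Agent.Helper1.SubSh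

variable {X : Scheme.{u}}

attribute [local instance] SD.stalkModule

theorem stalk_of_span (F₁ : X.Modules) [F₁.IsQuasicoherent] {W : X.Opens} (hW : IsAffineOpen W)
    (y : W) {Q : X.Modules} (x : Γ(Q, W))
    (hx : ∀ a : Γ(X, W), a • x = 0 ↔ a ∈ (hW.primeIdealOf y).asIdeal)
    (σ : Γ(F₁, W) ≃ₗ[Γ(X, W)] Submodule.span Γ(X, W) {x}) :
    (∀ a ∈ IsLocalRing.maximalIdeal (X.presheaf.stalk y.1),
      ∀ v : F₁.presheaf.stalk y.1, a • v = 0) ∧ y.1 ∈ CohB1.support F₁ := by
  haveI := hW.isLocalization_stalk y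
  haveI := SD.isLocalizedModule_germ F₁ hW y
  constructor
  · refine alg_killed (hW.primeIdealOf y).asIdeal (B := X.presheaf.stalk y.1)
      (V := F₁.presheaf.stalk y.1) (SD.germₗ F₁ y) ?_
    intro a ha n
    apply σ.injective
    rw [map_smul, map_zero]
    obtain ⟨b, hb⟩ := Submodule.mem_span_singleton.1 (σ n).2
    apply Subtype.ext
    rw [Submodule.coe_smul, ← hb, smul_comm, (hx a).2 ha, smul_zero]
    rfl
  · intro hsub
    have hmem : x ∈ Submodule.span Γ(X, W) {x} := Submodule.mem_span_singleton_self x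
    refine alg_ne_zero (hW.primeIdealOf y).asIdeal (V := F₁.presheaf.stalk y.1) (SD.germₗ F₁ y)
      (σ.symm ⟨x, hmem⟩) ?_ (Subsingleton.elim _ _)
    intro a ha
    have h1 : a • (⟨x, hmem⟩ : Submodule.span Γ(X, W) {x}) = 0 := by
      have := congrArg σ ha
      rw [map_smul, map_zero, LinearEquiv.apply_symm_apply] at this
      exact this
    have h2 := congrArg Subtype.val h1
    exact (hx a).1 h2

/-- a nonzero coherent module has, over some affine open, a section whose annihilator is the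
prime of a point -/
theorem exists_assoc_point [IsLocallyNoetherian X] (Q : X.Modules) (hQ : Coh.IsCoh Q)
    (hQ0 : ¬ IsZero Q) :
    ∃ (W : X.Opens) (hW : IsAffineOpen W) (y : W) (x : Γ(Q, W)),
      ∀ a : Γ(X, W), a • x = 0 ↔ a ∈ (hW.primeIdealOf y).asIdeal := by
  have hne : (CohB1.support Q).Nonempty := by
    rw [Set.nonempty_iff_ne_empty]
    intro h
    exact hQ0 (isZero_of_support_subset_empty Q h.le)
  obtain ⟨x₀, hx₀⟩ := hne
  obtain ⟨_, ⟨W, hW, rfl⟩, hx₀W, -⟩ :=
    X.isBasis_affineOpens.exists_subset_of_mem_open (Set.mem_univ x₀) isOpen_univ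
  haveI : IsNoetherianRing Γ(X, W) := IsLocallyNoetherian.component_noetherian ⟨W, hW⟩
  have h1 : hW.primeIdealOf ⟨x₀, hx₀W⟩ ∈ Module.support Γ(X, W) Γ(Q, W) :=
    (Groth.Agent.Helper7.FinType.primeIdealOf_mem_support_iff Q hQ.1 hW x₀ hx₀W).2 hx₀
  haveI : Nontrivial Γ(Q, W) := by
    by_contra hnt
    rw [not_nontrivial_iff_subsingleton] at hnt
    rw [Module.support_eq_empty] at h1
    exact h1
  obtain ⟨p, hp⟩ := associatedPrimes.nonempty Γ(X, W) Γ(Q, W)
  obtain ⟨hpp, x, hpx⟩ := isAssociatedPrime_iff.1 hp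
  let p' : PrimeSpectrum Γ(X, W) := ⟨p, hpp⟩
  let y : W := hW.isoSpec.inv p'
  have hy : hW.primeIdealOf y = p' := by
    change hW.isoSpec.hom (hW.isoSpec.inv p') = p'
    rw [← Scheme.Hom.comp_apply, Iso.inv_hom_id]
    rfl
  refine ⟨W, hW, y, x, fun a => ?_⟩
  rw [hy]
  change _ ↔ a ∈ p
  rw [hpx, Submodule.mem_colon_singleton, Submodule.mem_bot]

/-- **every nonzero coherent module contains the direct image of a nonzero coherent ideal of an
integral closed subscheme** -/
theorem lemmaB [IsNoetherian X] (Q : X.Modules) (hQ : Coh.IsCoh Q) (hQ0 : ¬ IsZero Q) :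
    ∃ (Z' : Scheme.{u}) (i : Z' ⟶ X) (_ : IsClosedImmersion i) (_ : IsIntegral Z'),
      Set.range ⇑i ⊆ CohB1.support Q ∧
      ∃ (I : Z'.Modules) (ι : I ⟶ Coh.structureModule Z')
        (φ : (Scheme.Modules.pushforward i).obj I ⟶ Q),
        Mono ι ∧ Coh.IsCoh I ∧ ¬ IsZero I ∧ Mono φ := by
  obtain ⟨W, hW, y, x, hx⟩ := exists_assoc_point Q hQ hQ0
  obtain ⟨F₁, ι₁, hι₁, hF₁, ⟨σ⟩⟩ := exists_sub_span Q hQ hW x
  haveI := hι₁
  haveI : F₁.IsQuasicoherent := hF₁.1
  obtain ⟨hkill, hsupp⟩ := stalk_of_span F₁ hW y x hx σ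
  have hξQ : y.1 ∈ CohB1.support Q := support_mono ι₁ hsupp
  obtain ⟨Z', i, hi, hint, hr, hη⟩ := exists_integral_subscheme (closure {y.1}) isClosed_closure
    isIrreducible_singleton.closure y.1 rfl
  haveI := hi
  haveI := hint
  have hcl : closure {y.1} ⊆ CohB1.support Q :=
    (FtGen.isClosed_support Q hQ.2).closure_subset_iff.2 (Set.singleton_subset_iff.2 hξQ)
  rw [← hη] at hkill hsupp
  obtain ⟨r, I, ι, φ, hι, hI, hφ, hbij, -, hzero⟩ := lemmaA i F₁ hF₁ hkill
  have hr0 : r ≠ 0 := fun h => hsupp (hzero h)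
  have hI0 : ¬ IsZero I := by
    intro h
    have h1 : IsZero ((Scheme.Modules.pushforward i).obj (∐ fun _ : Fin r => I)) :=
      (Scheme.Modules.pushforward i).map_isZero (isZero_coprod_of_isZero h r)
    have h2 := support_isZero h1
    have h3 : Subsingleton (((Scheme.Modules.pushforward i).obj
        (∐ fun _ : Fin r => I)).presheaf.stalk (i (genericPoint Z'))) := by
      by_contra hns
      have : i (genericPoint Z') ∈ CohB1.support ((Scheme.Modules.pushforward i).obj
        (∐ fun _ : Fin r => I)) := hns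
      rw [h2] at this
      exact this
    exact hsupp hbij.2.subsingleton
  let j : Fin r := ⟨0, Nat.pos_of_ne_zero hr0⟩
  let s := Sigma.ι (fun _ : Fin r => I) j
  have hs : s ≫ cpπ I r j = 𝟙 I := by rw [ι_cpπ, if_pos rfl]
  haveI : Mono s := mono_of_mono_fac hs
  haveI := hφ
  exact ⟨Z', i, hi, hint, hr.le.trans hcl, I, ι, (Scheme.Modules.pushforward i).map s ≫ φ ≫ ι₁,
    hι, hI, hI0, mono_comp _ _⟩

end Groth.Agent.Helper1.Dv
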