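import Mathlib
import Groth.Agent.Lib.Helper1.Dv25

/-!
# Dévissage: filtrations with quotients `i_* I` (helper1)
-/

set_option autoImplicit false
universe u
open CategoryTheory CategoryTheory.Limits AlgebraicGeometry TopologicalSpace Opposite

namespace Groth.Agent.Helper1.Dv

open Groth.Agent.Helper1.QcCech Groth.Agent.Helper1.QcExt Groth.Agent.Helper1
open Groth.Agent.Helper1.CohACC Groth.Agent.Lead Groth.Agent.Helper1.SubSh

variable {X : Scheme.{u}}

/-- the quotient data: `N` is the direct image of a nonzero coherent ideal of an integral closed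
subscheme contained in `X'` -/
def IsIdealPush (X' : Set X) (N : X.Modules) : Prop :=
  ∃ (Z : Scheme.{u}) (i : Z ⟶ X), IsClosedImmersion i ∧ IsIntegral Z ∧ Set.range ⇑i ⊆ X' ∧
    ∃ (I : Z.Modules) (ι : I ⟶ Coh.structureModule Z), Mono ι ∧ Coh.IsQCoh I ∧ ¬ IsZero I ∧
      Nonempty (N ≅ (Coh.push i).obj I)

/-- `M` has a finite filtration by coherent submodules with quotients of the form `i_* I` -/
def HasFilt (X' : Set X) (M : X.Modules) : Prop :=
  ∃ (m : ℕ) (F : ℕ → X.Modules) (φ : (j : ℕ) → (F j ⟶ F (j + 1))),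
    IsZero (F 0) ∧ Nonempty (F m ≅ M) ∧ (∀ j ≤ m, Coh.IsCoh (F j)) ∧
      ∀ j < m, Mono (φ j) ∧ IsIdealPush X' (cokernel (φ j))

theorem IsIdealPush.of_iso {X' : Set X} {N N' : X.Modules} (e : N ≅ N')
    (h : IsIdealPush X' N) : IsIdealPush X' N' := by
  obtain ⟨Z, i, h1, h2, h3, I, ι, h4, h5, h6, ⟨c⟩⟩ := h
  exact ⟨Z, i, h1, h2, h3, I, ι, h4, h5, h6, ⟨e.symm ≪≫ c⟩⟩

theorem HasFilt.of_iso {X' : Set X} {M M' : X.Modules} (e : M ≅ M') (h : HasFilt X' M) :
    HasFilt X' M' := by
  obtain ⟨m, F, φ, h0, ⟨c⟩, hc, hs⟩ := h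
  exact ⟨m, F, φ, h0, ⟨c ≪≫ e⟩, hc, hs⟩

theorem hasFilt_of_isZero [IsLocallyNoetherian X] (X' : Set X) (M : X.Modules) (hM : IsZero M) :
    HasFilt X' M :=
  ⟨0, fun _ => M, fun _ => 𝟙 M, hM, ⟨Iso.refl _⟩,
    fun _ _ => isCoh_of_isZero hM _ (isCoh_structureModule X), fun j hj => absurd hj (Nat.not_lt_zero j)⟩

theorem step_aux {X' : Set X} {A B : X.Modules} {f g : A ⟶ B} (h : f = g) (hm : Mono g)
    (hq : IsIdealPush X' (cokernel g)) : Mono f ∧ IsIdealPush X' (cokernel f) := by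
  subst h
  exact ⟨hm, hq⟩

theorem HasFilt.step {X' : Set X} {P P' : X.Modules} (h : HasFilt X' P) (p : P ⟶ P') [Mono p]
    (hP' : Coh.IsCoh P') (hc : IsIdealPush X' (cokernel p)) : HasFilt X' P' := by
  classical
  obtain ⟨m, F, φ, h0, ⟨e⟩, hcoh, hs⟩ := h
  let F' : ℕ → X.Modules := Function.update F (m + 1) P'
  have hne : ∀ j, j ≠ m + 1 → F' j = F j := fun j hj => Function.update_of_ne hj _ _
  have heq : F' (m + 1) = P' := Function.update_self _ _ _
  let φ' : (j : ℕ) → (F' j ⟶ F' (j + 1)) := fun j =>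
    if h1 : j = m then
      eqToHom (by rw [h1]; exact hne m (Nat.ne_of_lt (Nat.lt_succ_self m))) ≫ e.hom ≫ p ≫
        eqToHom (by rw [h1]; exact heq.symm)
    else if h2 : j = m + 1 then 0
    else eqToHom (hne j h2) ≫ φ j ≫
      eqToHom (hne (j + 1) (fun h => h1 (Nat.succ_injective h))).symm
  have hφm : φ' m = eqToHom (hne m (Nat.ne_of_lt (Nat.lt_succ_self m))) ≫ e.hom ≫ p ≫
      eqToHom heq.symm := by
    simp only [φ', dif_pos rfl]
  have hφlt : ∀ j (hj : j < m), φ' j = eqToHom (hne j (Nat.ne_of_lt (hj.trans (Nat.lt_succ_self m)))) ≫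
      φ j ≫ eqToHom (hne (j + 1) (Nat.ne_of_lt (Nat.succ_lt_succ hj))).symm := by
    intro j hj
    simp only [φ', dif_neg (Nat.ne_of_lt hj),
      dif_neg (Nat.ne_of_lt (hj.trans (Nat.lt_succ_self m)))]
  refine ⟨m + 1, F', φ', ?_, ⟨eqToIso heq⟩, ?_, ?_⟩
  · rw [hne 0 (Nat.succ_ne_zero m).symm]
    exact h0
  · intro j hj
    rcases Nat.lt_or_ge j (m + 1) with hlt | hge
    · rw [hne j (Nat.ne_of_lt hlt)]
      exact hcoh j (Nat.lt_succ_iff.1 hlt)
    · have : j = m + 1 := le_antisymm hj hge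
      rw [this, heq]
      exact hP'
  · intro j hj
    rcases Nat.lt_or_ge j m with hlt | hge
    · obtain ⟨hm, hq⟩ := hs j hlt
      refine step_aux (hφlt j hlt) (mono_comp _ _) (hq.of_iso ?_)
      exact (cokernelCompIsIso (φ j) _).symm ≪≫ (cokernelEpiComp _ (φ j ≫ _)).symm
    · have : j = m := le_antisymm (Nat.lt_succ_iff.1 hj) hge
      subst this
      refine step_aux hφm (mono_comp _ _) (hc.of_iso ?_)
      exact (cokernelCompIsIso p _).symm ≪≫ (cokernelEpiComp e.hom (p ≫ _)).symm ≪≫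
        (cokernelEpiComp _ (e.hom ≫ p ≫ _)).symm

/-- **existence of filtrations**: a coherent module on a Noetherian scheme has a finite filtration
whose quotients are direct images of nonzero coherent ideals of integral closed subschemes
(contained in any prescribed set containing the support). -/
theorem exists_filtration [IsNoetherian X] (M : X.Modules) (hM : Coh.IsCoh M) (X' : Set X)
    (hsupp : CohB1.support M ⊆ X') : HasFilt X' M := by
  classical
  haveI : M.IsQuasicoherent := hM.1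
  let α := {P : Subobject M // ((P : Subobject M) : X.Modules).IsQuasicoherent}
  haveI : WellFoundedGT α := by
    rw [wellFoundedGT_iff_monotone_chain_condition]
    intro a
    obtain ⟨n, hn⟩ := CohACC.acc M hM ⟨fun m => (a m).1, fun i j hij => a.monotone hij⟩
      (fun m => (a m).2)
    exact ⟨n, fun m hm => Subtype.ext (hn m hm).symm⟩
  let S : Set α := {P | HasFilt X' ((P.1 : Subobject M) : X.Modules)}
  have hbot : IsZero (((⊥ : Subobject M) : Subobject M) : X.Modules) :=
    IsZero.of_iso (isZero_zero _) Subobject.botCoeIsoZero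
  have hS : S.Nonempty :=
    ⟨⟨⊥, QcAbel.isQuasicoherent_of_isZero hbot⟩, hasFilt_of_isZero X' _ hbot⟩
  obtain ⟨P, hPS, hPmax⟩ := (wellFounded_gt (α := α)).has_min S hS
  haveI : ((P.1 : Subobject M) : X.Modules).IsQuasicoherent := P.2
  let i := P.1.arrow
  have hP : Coh.IsCoh ((P.1 : Subobject M) : X.Modules) := FtLocal.isCoh_of_mono i hM P.2
  let Q := cokernel i
  let π : M ⟶ Q := cokernel.π i
  have hQ : Coh.IsCoh Q := FtLocal.isCoh_cokernel hP hM i
  have hSE : (ShortComplex.mk i π (cokernel.condition i)).ShortExact :=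
    ShortComplex.ShortExact.mk' (ShortComplex.cokernelSequence_exact i)
      (inferInstanceAs (Mono i)) (inferInstanceAs (Epi (cokernel.π i)))
  have hQX' : CohB1.support Q ⊆ X' := (support_epi π).trans hsupp
  by_cases hQ0 : IsZero Q
  · -- then `P = M`
    haveI : Epi i := Preadditive.epi_of_cokernel_zero (hQ0.eq_of_tgt _ _)
    haveI : IsIso i := isIso_of_mono_of_epi i
    exact HasFilt.of_iso (asIso i) hPS
  exfalso
  obtain ⟨Z', j, hj, hint, hr, I, ι, φ, hι, hI, hI0, hφ⟩ := lemmaB Q hQ hQ0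
  haveI := hφ
  haveI := hj
  have hF' : Coh.IsCoh ((Scheme.Modules.pushforward j).obj I) := FinPush.isCoh_pushforward j I hI
  obtain ⟨P', p₁, k, p₂, w', hp₁, hk1, hcomm, hSE3⟩ :=
    exists_ses_pullback i π (cokernel.condition i) hSE φ
  haveI := hp₁
  haveI : ((Scheme.Modules.pushforward j).obj I).IsQuasicoherent := hF'.1
  have hP'q : P'.IsQuasicoherent := QcExt.isQuasicoherent_mid hSE3
  have hP' : Coh.IsCoh P' := FtLocal.isCoh_of_mono p₁ hM hP'q
  haveI : Mono k := hSE3.mono_f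
  haveI : Epi p₂ := hSE3.epi_g
  -- the cokernel of `k` is `j_* I`
  have hcok : IsIdealPush X' (cokernel k) := by
    refine ⟨Z', j, hj, hint, hr.trans hQX', I, ι, hι, hI.1, hI0, ⟨?_⟩⟩
    exact IsColimit.coconePointUniqueUpToIso (cokernelIsCokernel k) hSE3.exact.gIsCokernel
  have hKP' : HasFilt X' P' := HasFilt.step hPS k hP' hcok
  let e' := Subobject.underlyingIso p₁
  have hq'' : ((Subobject.mk p₁ : Subobject M) : X.Modules).IsQuasicoherent :=
    QcAbel.isQuasicoherent_of_iso e'.symm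
  have hle : P.1 ≤ Subobject.mk p₁ := Subobject.le_mk_of_comm k hk1
  have hne : P.1 ≠ Subobject.mk p₁ := by
    intro h
    have hge : Subobject.mk p₁ ≤ P.1 := h.ge
    have h1 : Subobject.ofMkLE p₁ P.1 hge ≫ i = p₁ := Subobject.ofMkLE_arrow hge
    have h2 : p₂ ≫ φ = 0 := by
      rw [← hcomm, ← h1, Category.assoc, cokernel.condition, comp_zero]
    have h3 : p₂ = 0 := by rw [← cancel_mono φ, h2, zero_comp]
    have h4 : IsZero ((Scheme.Modules.pushforward j).obj I) := IsZero.of_epi_eq_zero p₂ h3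
    -- `j_*` is faithful, so `I` is zero
    apply hI0
    rw [IsZero.iff_id_eq_zero]
    apply (Scheme.Modules.pushforward j).map_injective
    exact h4.eq_of_src _ _
  exact hPmax ⟨Subobject.mk p₁, hq''⟩ (HasFilt.of_iso e'.symm hKP')
    (lt_of_le_of_ne hle (fun h => hne (congrArg Subtype.val h)))

end Groth.Agent.Helper1.Dv
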