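import Mathlib
import Groth.Agent.Lib.Helper1.Dv26

/-!
# Dévissage via ideal sheaves of integral closed subschemes (helper1)
-/

set_option autoImplicit false
universe u
open CategoryTheory CategoryTheory.Limits AlgebraicGeometry TopologicalSpace Opposite

namespace Groth.Agent.Helper1.Dv

open Groth.Agent.Helper1.QcCech Groth.Agent.Helper1.QcExt Groth.Agent.Helper1
open Groth.Agent.Helper1.CohACC Groth.Agent.Lead Groth.Agent.Helper1.SubSh

variable {X : Scheme.{u}}

/-- a property closed under extensions and holding for the direct images of ideal sheaves of the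
integral closed subschemes contained in the closed set `X'` holds for all coherent modules
supported in `X'` -/
theorem dev_ideal [IsNoetherian X] (P : X.Modules → Prop)
    (hiso : ∀ M N : X.Modules, (M ≅ N) → P M → P N)
    (h0 : ∀ M : X.Modules, IsZero M → P M)
    (X' : Set X)
    (ha2 : ∀ S : ShortComplex X.Modules, S.ShortExact → Coh.IsCoh S.X₁ → Coh.IsCoh S.X₂ →
      Coh.IsCoh S.X₃ → CohB1.support S.X₂ ⊆ X' → P S.X₁ → P S.X₃ → P S.X₂)
    (h2 : ∀ (Z : Scheme.{u}) (i : Z ⟶ X), IsClosedImmersion i → IsIntegral Z →
      Set.range ⇑i ⊆ X' → ∀ (I : Z.Modules) (ι : I ⟶ Coh.structureModule Z), Mono ι →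
        Coh.IsQCoh I → P ((Coh.push i).obj I))
    (M : X.Modules) (hM : Coh.IsCoh M) (hsupp : CohB1.support M ⊆ X') : P M := by
  obtain ⟨m, F, φ, hz, ⟨e⟩, hcoh, hs⟩ := exists_filtration M hM X' hsupp
  -- supports
  have hsup : ∀ d j, j + d = m → CohB1.support (F j) ⊆ CohB1.support M := by
    intro d
    induction d with
    | zero =>
      intro j hj
      rw [Nat.add_zero] at hj
      subst hj
      rw [support_iso e]
    | succ d ih =>
      intro j hj
      have hj' : j + 1 + d = m := by omega
      have hlt : j < m := by omega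
      haveI := (hs j hlt).1
      exact (support_mono (φ j)).trans (ih (j + 1) hj')
  have key : ∀ j, j ≤ m → P (F j) := by
    intro j
    induction j with
    | zero => intro _; exact h0 _ hz
    | succ j ih =>
      intro hj
      have hlt : j < m := hj
      obtain ⟨hmono, Z, i, hi, hint, hr, I, ι, hι, hI, -, ⟨c⟩⟩ := hs j hlt
      haveI := hmono
      have hPc : P (cokernel (φ j)) := hiso _ _ c.symm (h2 Z i hi hint hr I ι hι hI)
      have hSE : (ShortComplex.cokernelSequence (φ j)).ShortExact :=
        ShortComplex.ShortExact.mk' (ShortComplex.cokernelSequence_exact (φ j))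
          (inferInstanceAs (Mono (φ j))) (inferInstanceAs (Epi (cokernel.π (φ j))))
      exact ha2 _ hSE (hcoh j hlt.le) (hcoh (j + 1) hj)
        (FtLocal.isCoh_cokernel (hcoh j hlt.le) (hcoh (j + 1) hj) (φ j))
        ((hsup (m - (j + 1)) (j + 1) (by omega)).trans hsupp) (ih hlt.le) hPc
  exact hiso _ _ e (key m le_rfl)

end Groth.Agent.Helper1.Dv
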