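import Mathlib
import Groth.Agent.Lib.Helper1.Dv27
import Groth.Agent.Lib.Helper1.PushQc

/-!
# Extensions of coherent modules; coherence of direct images by dévissage (helper1)
-/

set_option autoImplicit false
universe u
open CategoryTheory CategoryTheory.Limits AlgebraicGeometry TopologicalSpace Opposite

namespace Groth.Agent.Helper1.Dv

open Groth.Agent.Helper1.QcCech Groth.Agent.Helper1.QcExt Groth.Agent.Helper1
open Groth.Agent.Helper1.CohACC Groth.Agent.Lead Groth.Agent.Helper1.SubSh

variable {X : Scheme.{u}}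

/-- an extension of coherent modules is coherent -/
theorem isCoh_mid [IsLocallyNoetherian X] {S : ShortComplex X.Modules} (hS : S.ShortExact)
    (h1 : Coh.IsCoh S.X₁) (h3 : Coh.IsCoh S.X₃) : Coh.IsCoh S.X₂ := by
  haveI := h1.1
  haveI := h3.1
  have hq : S.X₂.IsQuasicoherent := QcExt.isQuasicoherent_mid hS
  refine ⟨hq, FtLocal.isFiniteType_of_affineOpens _ (fun V hV => ?_)⟩
  apply VT.finite_restrict_top_of_finite _ hV
  haveI f1 : Module.Finite Γ(X, V) Γ(S.X₁, V) := FinPush.finite_sections S.X₁ h1 hV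
  haveI f3 : Module.Finite Γ(X, V) Γ(S.X₃, V) := FinPush.finite_sections S.X₃ h3 hV
  let fL : Γ(S.X₁, V) →ₗ[Γ(X, V)] Γ(S.X₂, V) := CohACC.appL S.f V
  let gL : Γ(S.X₂, V) →ₗ[Γ(X, V)] Γ(S.X₃, V) := CohACC.appL S.g V
  have hsurj : Function.Surjective gL := QcExt.app_surjective hS V hV
  have hker : LinearMap.ker gL = LinearMap.range fL := by
    ext x
    rw [LinearMap.mem_ker, LinearMap.mem_range]
    constructor
    · intro hx
      exact QcExt.app_exact hS V x hx
    · rintro ⟨y, rfl⟩
      exact QcExt.app_zero S V y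
  refine ⟨Submodule.fg_of_fg_map_of_fg_inf_ker gL ?_ ?_⟩
  · rw [Submodule.map_top, LinearMap.range_eq_top.2 hsurj]
    exact f3.1
  · rw [top_inf_eq, hker, LinearMap.range_eq_map]
    exact f1.1.map fL

section push

variable {Y : Scheme.{u}} [IsNoetherian X] (f : X ⟶ Y)

theorem isQuasicoherent_push (F : X.Modules) (hF : Coh.IsCoh F) :
    ((Scheme.Modules.pushforward f).obj F).IsQuasicoherent := by
  haveI := hF.1
  exact PushQc.isQuasicoherent_pushforward f F

variable [IsNoetherian Y]

/-- left: a coherent subobject has coherent direct image when the ambient module does -/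
theorem isCoh_push_of_mono {A B : X.Modules} (a : A ⟶ B) [Mono a] (hA : Coh.IsCoh A)
    (hB : Coh.IsCoh ((Scheme.Modules.pushforward f).obj B)) :
    Coh.IsCoh ((Scheme.Modules.pushforward f).obj A) :=
  FtLocal.isCoh_of_mono ((Scheme.Modules.pushforward f).map a) hB (isQuasicoherent_push f A hA)

/-- middle: direct images of extensions -/
theorem isCoh_push_mid {S : ShortComplex X.Modules} (hS : S.ShortExact)
    (c2 : Coh.IsCoh S.X₂)
    (h1 : Coh.IsCoh ((Scheme.Modules.pushforward f).obj S.X₁))
    (h3 : Coh.IsCoh ((Scheme.Modules.pushforward f).obj S.X₃)) :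
    Coh.IsCoh ((Scheme.Modules.pushforward f).obj S.X₂) := by
  haveI := hS.mono_f
  let Fu := Scheme.Modules.pushforward f
  let b := Fu.map S.g
  have e1 : S.X₁ ≅ kernel S.g :=
    IsLimit.conePointUniqueUpToIso hS.exact.fIsKernel (limit.isLimit (parallelPair S.g 0))
  have e2 : Fu.obj S.X₁ ≅ kernel b := Fu.mapIso e1 ≪≫ PreservesKernel.iso Fu S.g
  have hker : Coh.IsCoh (kernel b) := isCoh_of_iso e2 h1
  haveI : (Fu.obj S.X₂).IsQuasicoherent := isQuasicoherent_push f S.X₂ c2
  haveI : (Fu.obj S.X₃).IsQuasicoherent := h3.1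
  have hImq : (Abelian.image b).IsQuasicoherent := QcAbel.isQuasicoherent_image b
  have hIm : Coh.IsCoh (Abelian.image b) := FtLocal.isCoh_of_mono (Abelian.image.ι b) h3 hImq
  let T : ShortComplex Y.Modules := ShortComplex.mk (kernel.ι b) (Abelian.factorThruImage b) (by
    rw [← cancel_mono (Abelian.image.ι b), Category.assoc, Abelian.image.fac, kernel.condition,
      zero_comp])
  let T' : ShortComplex Y.Modules := ShortComplex.mk (kernel.ι b) b (kernel.condition b)
  have hT' : T'.Exact := ShortComplex.exact_of_f_is_kernel _ (kernelIsKernel b)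
  let α : T ⟶ T' := { τ₁ := 𝟙 _, τ₂ := 𝟙 _, τ₃ := Abelian.image.ι b }
  haveI : Epi α.τ₁ := inferInstanceAs (Epi (𝟙 _))
  haveI : IsIso α.τ₂ := inferInstanceAs (IsIso (𝟙 _))
  haveI : Mono α.τ₃ := inferInstanceAs (Mono (Abelian.image.ι b))
  have hT : T.Exact := (ShortComplex.exact_iff_of_epi_of_isIso_of_mono α).2 hT'
  haveI : Mono T.f := inferInstanceAs (Mono (kernel.ι b))
  haveI : Epi T.g := inferInstanceAs (Epi (Abelian.factorThruImage b))
  have hTE : T.ShortExact := { exact := hT }
  exact isCoh_mid hTE hker hIm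

end push

end Groth.Agent.Helper1.Dv
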