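import Mathlib
import Groth.Agent.Lib.Helper1.Dv28

/-!
# Stalks and supports of direct images from integral schemes along arbitrary morphisms (helper1)
-/

set_option autoImplicit false
universe u
open CategoryTheory CategoryTheory.Limits AlgebraicGeometry TopologicalSpace Opposite

namespace Groth.Agent.Helper1.Dv

open Groth.Agent.Helper1.QcCech Groth.Agent.Helper1.QcExt Groth.Agent.Helper1
open Groth.Agent.Helper1.CohACC Groth.Agent.Lead Groth.Agent.Helper1.SubSh

variable {Z' X : Scheme.{u}} (h : Z' ⟶ X) (H : Z'.Modules)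

/-- the support of a direct image lies in the range when the range is closed -/
theorem support_push_subset_of_isClosed_range (hcl : IsClosed (Set.range ⇑h)) :
    CohB1.support ((Scheme.Modules.pushforward h).obj H) ⊆ Set.range ⇑h := by
  intro y hy
  by_contra hyr
  apply hy
  refine ⟨fun v w => ?_⟩
  suffices h0 : ∀ v : ((Scheme.Modules.pushforward h).obj H).presheaf.stalk y, v = 0 by
    rw [h0 v, h0 w]
  intro v
  obtain ⟨V, hyV, n, rfl⟩ :=
    TopCat.Presheaf.exists_germ_eq ((Scheme.Modules.pushforward h).obj H).presheaf v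
  let U : X.Opens := ⟨(Set.range ⇑h)ᶜ, hcl.isOpen_compl⟩
  have hyU : y ∈ U := hyr
  have hbot : h ⁻¹ᵁ (V ⊓ U) = ⊥ := by
    ext z
    simp only [Opens.coe_bot, Set.mem_empty_iff_false, iff_false]
    intro hz
    exact hz.2 ⟨z, rfl⟩
  haveI : Subsingleton Γ((Scheme.Modules.pushforward h).obj H, V ⊓ U) :=
    CoprodMod.subsingleton_of_eq_bot H hbot
  rw [← TopCat.Presheaf.germ_res_apply ((Scheme.Modules.pushforward h).obj H).presheaf
    (homOfLE (inf_le_left : V ⊓ U ≤ V)) y ⟨hyV, hyU⟩ n]
  rw [Subsingleton.elim (((Scheme.Modules.pushforward h).obj H).presheaf.map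
    (homOfLE (inf_le_left : V ⊓ U ≤ V)).op n) 0, map_zero]

/-- the direct image of the structure sheaf has nonzero stalks on the range -/
theorem range_subset_support_push_structure :
    Set.range ⇑h ⊆ CohB1.support ((Scheme.Modules.pushforward h).obj (Coh.structureModule Z')) := by
  rintro _ ⟨z, rfl⟩ hsub
  let top : X.Opens := ⊤
  have hmem : h z ∈ top := trivial
  have h1 : ((Scheme.Modules.pushforward h).obj (Coh.structureModule Z')).presheaf.germ top (h z)
      hmem (oneSec h top) =
      ((Scheme.Modules.pushforward h).obj (Coh.structureModule Z')).presheaf.germ top (h z)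
      hmem 0 := Subsingleton.elim _ _
  obtain ⟨W, hW, iU, iV, e⟩ := TopCat.Presheaf.germ_eq
    ((Scheme.Modules.pushforward h).obj (Coh.structureModule Z')).presheaf (h z) hmem hmem
    (oneSec h top) 0 h1
  rw [map_zero] at e
  -- `1 = 0` in `Γ(Z', h⁻¹ W)`
  have e' : (1 : Γ(Z', h ⁻¹ᵁ W)) = 0 := by
    have : Z'.presheaf.map (homOfLE (h.preimage_mono (leOfHom iU))).op (1 : Γ(Z', h ⁻¹ᵁ top)) = 0 := e
    rw [map_one] at this
    exact this
  have hz : z ∈ h ⁻¹ᵁ W := hW
  have h2 : Z'.presheaf.germ (h ⁻¹ᵁ W) z hz 1 = Z'.presheaf.germ (h ⁻¹ᵁ W) z hz 0 := by rw [e']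
  rw [map_one, map_zero] at h2
  exact one_ne_zero h2

/-- the maximal ideal at the image of the generic point of an integral scheme kills the stalk of
any direct image -/
theorem smul_stalk_push_eq_zero_aux [IsIntegral Z'] (η : Z')
    (hfield : IsField (Z'.presheaf.stalk η))
    (a : X.presheaf.stalk (h η))
    (ha : a ∈ IsLocalRing.maximalIdeal (X.presheaf.stalk (h η)))
    (v : ((Scheme.Modules.pushforward h).obj H).presheaf.stalk (h η)) :
    a • v = 0 := by
  obtain ⟨V, hyV, n, rfl⟩ :=
    TopCat.Presheaf.exists_germ_eq ((Scheme.Modules.pushforward h).obj H).presheaf v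
  obtain ⟨V', hyV', a'', rfl⟩ := TopCat.Presheaf.exists_germ_eq X.presheaf a
  let U : X.Opens := V ⊓ V'
  have hyU : h η ∈ U := ⟨hyV, hyV'⟩
  let a' : Γ(X, U) := X.presheaf.map (homOfLE (inf_le_right : U ≤ V')).op a''
  let n' : Γ((Scheme.Modules.pushforward h).obj H, U) :=
    ((Scheme.Modules.pushforward h).obj H).presheaf.map (homOfLE (inf_le_left : U ≤ V)).op n
  have e1 : X.presheaf.germ V' (h η) hyV' a'' = X.presheaf.germ U (h η) hyU a' :=
    (TopCat.Presheaf.germ_res_apply X.presheaf (homOfLE inf_le_right) (h η) hyU a'').symm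
  have e2 : ((Scheme.Modules.pushforward h).obj H).presheaf.germ V (h η) hyV n =
      ((Scheme.Modules.pushforward h).obj H).presheaf.germ U (h η) hyU n' :=
    (TopCat.Presheaf.germ_res_apply ((Scheme.Modules.pushforward h).obj H).presheaf
      (homOfLE inf_le_left) (h η) hyU n).symm
  rw [e1, e2, ← SD.germ_smul]
  rw [e1] at ha
  let b : Γ(Z', h ⁻¹ᵁ U) := h.app U a'
  have hb : Z'.presheaf.germ (h ⁻¹ᵁ U) η hyU b = 0 := by
    have h1 : Z'.presheaf.germ (h ⁻¹ᵁ U) η hyU b = h.stalkMap η (X.presheaf.germ U (h η) hyU a') :=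
      (Scheme.Hom.germ_stalkMap_apply h U η hyU a').symm
    have h2 : ¬ IsUnit (Z'.presheaf.germ (h ⁻¹ᵁ U) η hyU b) := by
      intro hu
      rw [h1] at hu
      have := (isUnit_map_iff (h.stalkMap η).hom _).1 hu
      exact (IsLocalRing.mem_maximalIdeal _).1 ha this
    by_contra hne
    obtain ⟨c, hc⟩ := hfield.mul_inv_cancel hne
    exact h2 (IsUnit.of_mul_eq_one c hc)
  have hb0 : b = 0 := by
    apply germ_injective_of_isIntegral Z' η hyU
    rw [hb, map_zero]
  have h3 : a' • n' = 0 := by
    rw [PushQc.push_smul]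
    change (b • (show Γ(H, h ⁻¹ᵁ U) from n')) = 0
    rw [hb0, zero_smul]
  rw [h3, map_zero]

theorem smul_stalk_push_eq_zero [IsIntegral Z']
    (a : X.presheaf.stalk (h (genericPoint Z')))
    (ha : a ∈ IsLocalRing.maximalIdeal (X.presheaf.stalk (h (genericPoint Z'))))
    (v : ((Scheme.Modules.pushforward h).obj H).presheaf.stalk (h (genericPoint Z'))) :
    a • v = 0 :=
  smul_stalk_push_eq_zero_aux h H (genericPoint Z') (Field.toIsField Z'.functionField) a ha v

end Groth.Agent.Helper1.Dv
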