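import Mathlib
import Groth.Agent.Lib.Helper1.Dv29
import Groth.Agent.Lib.Lead.CIU6

/-!
# Dévissage: the restriction of a coherent module to an integral closed subscheme through the
generic point of which it is supported is nonzero there (helper1)
-/

set_option autoImplicit false
universe u
open CategoryTheory CategoryTheory.Limits AlgebraicGeometry TopologicalSpace Opposite

namespace Groth.Agent.Helper1.Dv

section alg

/-- Nakayama in localized form -/
theorem alg_nak {A : Type u} [CommRing A] (p : Ideal A) [p.IsPrime]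
    {B : Type u} [CommRing B] [IsLocalRing B] [Algebra A B] [IsLocalization.AtPrime B p]
    {N : Type u} [AddCommGroup N] [Module A N] [Module.Finite A N]
    {V : Type u} [AddCommGroup V] [Module B V] [Module A V] [IsScalarTower A B V]
    (g : N →ₗ[A] V) [IsLocalizedModule p.primeCompl g]
    (hN : ∀ n : N, ∃ t ∉ p, t • n ∈ p • (⊤ : Submodule A N)) : Subsingleton V := by
  haveI : Module.Finite B V := Module.Finite.of_isLocalizedModule p.primeCompl g
  have hmem : ∀ n : N, n ∈ p • (⊤ : Submodule A N) →
      g n ∈ IsLocalRing.maximalIdeal B • (⊤ : Submodule B V) := by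
    intro n hn
    refine Submodule.smul_induction_on hn ?_ ?_
    · intro a ha m _
      rw [map_smul, ← algebraMap_smul B a (g m)]
      exact Submodule.smul_mem_smul
        ((IsLocalization.AtPrime.to_map_mem_maximal_iff B p a).2 ha) Submodule.mem_top
    · intro x y hx hy
      rw [map_add]; exact Submodule.add_mem _ hx hy
  have htop : (⊤ : Submodule B V) ≤ IsLocalRing.maximalIdeal B • (⊤ : Submodule B V) := by
    intro v _
    obtain ⟨⟨n, s⟩, hns⟩ := IsLocalizedModule.surj p.primeCompl g v
    obtain ⟨t, ht, htn⟩ := hN n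
    have h1 : g (t • n) ∈ IsLocalRing.maximalIdeal B • (⊤ : Submodule B V) := hmem _ htn
    have hs : s.1 • v = g n := hns
    have hu1 : IsUnit (algebraMap A B t) := IsLocalization.map_units B (⟨t, ht⟩ : p.primeCompl)
    have hu2 : IsUnit (algebraMap A B s.1) := IsLocalization.map_units B s
    rw [map_smul, ← hs, ← algebraMap_smul B t, ← algebraMap_smul B s.1, smul_smul] at h1
    obtain ⟨u, hu⟩ := hu1.mul hu2
    have h2 := Submodule.smul_mem _ (↑u⁻¹ : B) h1
    rw [smul_smul, ← hu, Units.inv_mul, one_smul] at h2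
    exact h2
  have hbot := Submodule.eq_bot_of_le_smul_of_le_jacobson_bot (IsLocalRing.maximalIdeal B)
    (⊤ : Submodule B V) Module.Finite.fg_top htop
    (IsLocalRing.maximalIdeal_le_jacobson ⊥)
  refine ⟨fun v w => ?_⟩
  have hv : v ∈ (⊤ : Submodule B V) := Submodule.mem_top
  have hw : w ∈ (⊤ : Submodule B V) := Submodule.mem_top
  rw [hbot, Submodule.mem_bot] at hv hw
  rw [hv, hw]

end alg

open Groth.Agent.Helper1.QcCech Groth.Agent.Helper1.QcExt Groth.Agent.Helper1
open Groth.Agent.Helper1.CohACC Groth.Agent.Lead Groth.Agent.Helper1.SubSh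
open Groth.Agent.Lib.Helper5.StalkAdj

attribute [local instance] SD.stalkModule

theorem stalkL_injective_of_mono {X : Scheme.{u}} {E G : X.Modules} (ψ : E ⟶ G) [Mono ψ] (x : X) :
    Function.Injective (stalkL ψ x) := by
  haveI : Mono ((stalkSh X x).map ψ) := inferInstance
  exact (ModuleCat.mono_iff_injective _).1 this

variable {Z' X : Scheme.{u}} (i : Z' ⟶ X)

theorem isCoh_pushPull [IsClosedImmersion i] (F : X.Modules) (hF : Coh.IsCoh F) :
    Coh.IsCoh ((Scheme.Modules.pushforward i).obj ((Scheme.Modules.pullback i).obj F)) := by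
  haveI := hF.1
  exact FinPush.isCoh_pushforward i _
    ⟨PB.isQuasicoherent_pullback i F, PB.isFT_pullback i F hF.2⟩

theorem mem_support_image_unit_aux [IsLocallyNoetherian X] [IsClosedImmersion i] [IsIntegral Z']
    (F : X.Modules) (hF : Coh.IsCoh F) {W : X.Opens} (hW : IsAffineOpen W) (y : W)
    (hy : y.1 = i (genericPoint Z'))
    (hsub : Subsingleton ((Abelian.image
      ((Scheme.Modules.pullbackPushforwardAdjunction i).unit.app F)).presheaf.stalk y.1)) :
    Subsingleton (F.presheaf.stalk y.1) := by
  haveI : F.IsQuasicoherent := hF.1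
  set u := (Scheme.Modules.pullbackPushforwardAdjunction i).unit.app F with hu
  have hT := isCoh_pushPull i F hF
  have hIm : Coh.IsCoh (Abelian.image u) :=
    FtLocal.isCoh_kernel hT (FtLocal.isCoh_cokernel hF hT u) (cokernel.π u)
  haveI : (Abelian.image u).IsQuasicoherent := hIm.1
  have hξW : i (genericPoint Z') ∈ W := hy ▸ y.2
  haveI := hW.isLocalization_stalk y
  haveI := SD.isLocalizedModule_germ F hW y
  haveI := SD.isLocalizedModule_germ (Abelian.image u) hW y
  haveI : Module.Finite Γ(X, W) Γ(F, W) := FinPush.finite_sections F hF hW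
  refine alg_nak (hW.primeIdealOf y).asIdeal (B := X.presheaf.stalk y.1)
    (V := F.presheaf.stalk y.1) (SD.germₗ F y) ?_
  intro n
  let q := Abelian.factorThruImage u
  have h0 : (SD.germₗ (Abelian.image u) y) (q.app W n) = (SD.germₗ (Abelian.image u) y) 0 :=
    Subsingleton.elim _ _
  obtain ⟨c, hc⟩ := IsLocalizedModule.exists_of_eq
    (S := (hW.primeIdealOf y).asIdeal.primeCompl) h0
  rw [smul_zero] at hc
  refine ⟨c.1, c.2, ?_⟩
  have h1 : q.app W (c.1 • n) = 0 := by
    rw [Scheme.Modules.Hom.app_smul]
    exact hc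
  have h2 : u.app W (c.1 • n) = 0 := by
    have : u = q ≫ Abelian.image.ι u := (Abelian.image.fac u).symm
    rw [this, Scheme.Modules.Hom.comp_app, ConcreteCategory.comp_apply, h1, map_zero]
  have h3 := CIU.mem_smul_top_of_unit_app_eq_zero (F := F) i hW (c.1 • n) h2
  refine Submodule.smul_mono_left ?_ h3
  intro a ha
  rw [RingHom.mem_ker] at ha
  have hyy : y = ⟨i (genericPoint Z'), hξW⟩ := Subtype.ext hy
  rw [hyy]
  refine (smul_oneSec_eq_zero_iff i hW hξW a).1 ?_
  rw [smul_oneSec]
  exact ha

/-- the image of `F → i_* i^* F` has nonzero stalk at the image `ξ` of the generic point when `F`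
does (Nakayama) -/
theorem mem_support_image_unit [IsLocallyNoetherian X] [IsClosedImmersion i] [IsIntegral Z']
    (F : X.Modules) (hF : Coh.IsCoh F) (hξ : i (genericPoint Z') ∈ CohB1.support F) :
    i (genericPoint Z') ∈ CohB1.support
      (Abelian.image ((Scheme.Modules.pullbackPushforwardAdjunction i).unit.app F)) := by
  intro hsub
  apply hξ
  obtain ⟨_, ⟨W, hW, rfl⟩, hξW, -⟩ :=
    X.isBasis_affineOpens.exists_subset_of_mem_open (Set.mem_univ (i (genericPoint Z'))) isOpen_univ
  exact mem_support_image_unit_aux i F hF hW ⟨i (genericPoint Z'), hξW⟩ rfl hsub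

/-- an isomorphism followed by the zero map to a zero object is short exact -/
theorem shortExact_iso_zero {C : Type*} [Category C] [Abelian C] {M N : C} (e : M ≅ N) (Z : C)
    (hZ : IsZero Z) : (ShortComplex.mk e.hom (0 : N ⟶ Z) comp_zero).ShortExact := by
  haveI : Epi (0 : N ⟶ Z) := ⟨fun _ _ _ => hZ.eq_of_src _ _⟩
  refine ShortComplex.ShortExact.mk' ?_ (inferInstanceAs (Mono e.hom))
    (inferInstanceAs (Epi (0 : N ⟶ Z)))
  exact (ShortComplex.exact_iff_epi _ rfl).2 (inferInstanceAs (Epi e.hom))

end Groth.Agent.Helper1.Dv
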