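import Mathlib
import Groth.Agent.Lib.Helper1.Dv29
import Groth.Agent.Lib.Helper1.Dv30
import Groth.Agent.Lib.Helper1.Dv17
import Groth.Prelude.Def_ChowK
import Groth.Prelude.Def_KZero

/-!
# The filtration of `K₀(Coh X)` by dimension of support (helper1)
-/

set_option autoImplicit false
universe u
open CategoryTheory CategoryTheory.Limits AlgebraicGeometry TopologicalSpace Opposite

namespace Groth.Agent.Helper1.Dv

open Groth.Agent.Helper1.QcCech Groth.Agent.Helper1.QcExt Groth.Agent.Helper1
open Groth.Agent.Helper1.CohACC Groth.Agent.Lead Groth.Agent.Helper1.SubSh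

section simple

variable {Z' X : Scheme.{u}} (i : Z' ⟶ X)

/-- the stalk of `i_* O_Z` at the image of the generic point is cyclic -/
theorem stalk_push_structure_cyclic [IsClosedImmersion i] (z : Z') :
    ∀ v : ((Scheme.Modules.pushforward i).obj (Coh.structureModule Z')).presheaf.stalk (i z),
    ∃ a : X.presheaf.stalk (i z), v = a •
      ((Scheme.Modules.pushforward i).obj (Coh.structureModule Z')).presheaf.germ ⊤ (i z)
        (Set.mem_univ _) (oneSec i ⊤) := by
  set G := (Scheme.Modules.pushforward i).obj (Coh.structureModule Z') with hG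
  intro v
  obtain ⟨V, hzV, n, rfl⟩ := TopCat.Presheaf.exists_germ_eq G.presheaf v
  obtain ⟨_, ⟨W, hW, rfl⟩, hzW, hWV⟩ :=
    X.isBasis_affineOpens.exists_subset_of_mem_open hzV V.isOpen
  have hsurj := Scheme.Hom.app_surjective i W hW
  obtain ⟨a, ha⟩ := hsurj (show Γ(Z', i ⁻¹ᵁ W) from (G.presheaf.map (homOfLE hWV).op).hom n)
  refine ⟨X.presheaf.germ W (i z) hzW a, ?_⟩
  have h1 : G.presheaf.germ V (i z) hzV n =
      G.presheaf.germ W (i z) hzW ((G.presheaf.map (homOfLE hWV).op).hom n) :=
    (TopCat.Presheaf.germ_res_apply G.presheaf (homOfLE hWV) (i z) hzW n).symm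
  have h2 : (G.presheaf.map (homOfLE hWV).op).hom n = a • oneSec i W := by
    rw [smul_oneSec]
    exact ha.symm
  have h3 : G.presheaf.germ ⊤ (i z) (Set.mem_univ _) (oneSec i ⊤) =
      G.presheaf.germ W (i z) hzW (oneSec i W) := by
    rw [← TopCat.Presheaf.germ_res_apply G.presheaf (homOfLE (le_top : W ≤ ⊤)) (i z) hzW
      (oneSec i ⊤)]
    congr 1
    exact map_one (Z'.presheaf.map (homOfLE (i.preimage_mono (le_top : W ≤ ⊤))).op).hom
  rw [h1, h2, h3]
  exact SD.germ_smul G (i z) W hzW a (oneSec i W)

/-- the stalk of `i_* O_Z` at the image of the generic point is a simple module -/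
theorem isSimpleModule_stalk_push_structure [IsClosedImmersion i] [IsIntegral Z'] :
    IsSimpleModule (X.presheaf.stalk (i (genericPoint Z')))
      (((Scheme.Modules.pushforward i).obj (Coh.structureModule Z')).presheaf.stalk
        (i (genericPoint Z'))) := by
  set η := genericPoint Z' with hη
  set G := (Scheme.Modules.pushforward i).obj (Coh.structureModule Z') with hG
  set R := X.presheaf.stalk (i η)
  set u := G.presheaf.germ ⊤ (i η) (Set.mem_univ _) (oneSec i ⊤) with hu
  have hfield : IsField (Z'.presheaf.stalk η) := Field.toIsField Z'.functionField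
  have hkill : ∀ a ∈ IsLocalRing.maximalIdeal R, ∀ v : G.presheaf.stalk (i η), a • v = 0 :=
    fun a ha v => smul_stalk_pushforward_eq_zero i _ η hfield a ha v
  have hnt : Nontrivial (G.presheaf.stalk (i η)) := by
    have := range_subset_support_push_structure i ⟨η, rfl⟩
    exact not_subsingleton_iff_nontrivial.1 this
  have hcyc := stalk_push_structure_cyclic i η
  let f : R →ₗ[R] G.presheaf.stalk (i η) := LinearMap.toSpanSingleton R _ u
  have hsurj : Function.Surjective f := by
    intro v
    obtain ⟨a, ha⟩ := hcyc v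
    exact ⟨a, ha.symm⟩
  have hu0 : u ≠ 0 := by
    intro h0
    obtain ⟨v, w, hvw⟩ := hnt
    obtain ⟨a, ha⟩ := hcyc v
    obtain ⟨b, hb⟩ := hcyc w
    rw [← hu, h0, smul_zero] at ha hb
    exact hvw (ha.trans hb.symm)
  have hker : LinearMap.ker f = IsLocalRing.maximalIdeal R := by
    apply le_antisymm
    · intro a ha
      by_contra hna
      have hunit : IsUnit a := by
        by_contra h
        exact hna ((IsLocalRing.mem_maximalIdeal a).2 h)
      have : a • u = 0 := ha
      exact hu0 (hunit.smul_eq_zero.1 this)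
    · intro a ha
      exact hkill a ha u
  have hmax : Ideal.IsMaximal (LinearMap.ker f) := hker ▸ IsLocalRing.maximalIdeal.isMaximal R
  exact isSimpleModule_iff_quot_maximal.2
    ⟨LinearMap.ker f, hmax, ⟨(f.quotKerEquivOfSurjective hsurj).symm⟩⟩

end simple


section K0

variable {X : Scheme.{u}}

/-- the property of being coherent -/
abbrev PC (X : Scheme.{u}) : ObjectProperty X.Modules := fun M => Coh.IsCoh M

theorem clSub_of (M : X.Modules) (h : Coh.IsCoh M) :
    KZero.clSub (PC X) M = QuotientAddGroup.mk (FreeAbelianGroup.of ⟨M, h⟩) := dif_pos h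

theorem clSub_ses (S : ShortComplex X.Modules) (hS : S.ShortExact) (h1 : Coh.IsCoh S.X₁)
    (h2 : Coh.IsCoh S.X₂) (h3 : Coh.IsCoh S.X₃) :
    KZero.clSub (PC X) S.X₂ = KZero.clSub (PC X) S.X₁ + KZero.clSub (PC X) S.X₃ := by
  rw [clSub_of _ h1, clSub_of _ h2, clSub_of _ h3, ← sub_eq_zero, ← sub_sub,
    ← QuotientAddGroup.mk_sub, ← QuotientAddGroup.mk_sub, QuotientAddGroup.eq_zero_iff]
  exact AddSubgroup.subset_closure ⟨S, h1, h2, h3, hS, rfl⟩

theorem clSub_isZero [IsLocallyNoetherian X] (M : X.Modules) (hM : IsZero M) :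
    KZero.clSub (PC X) M = 0 := by
  have hc : Coh.IsCoh M := isCoh_of_isZero hM _ (isCoh_structureModule X)
  have h := clSub_ses _ (shortExact_id_zero M M hM) hc hc hc
  change KZero.clSub (PC X) M = KZero.clSub (PC X) M + KZero.clSub (PC X) M at h
  exact left_eq_add.1 h |>.symm ▸ rfl

theorem clSub_iso [IsLocallyNoetherian X] {M N : X.Modules} (e : M ≅ N) (hM : Coh.IsCoh M) :
    KZero.clSub (PC X) N = KZero.clSub (PC X) M := by
  obtain ⟨O, hO⟩ := HasZeroObject.zero (C := X.Modules)
  have hN : Coh.IsCoh N := isCoh_of_iso e hM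
  have hc : Coh.IsCoh O := isCoh_of_isZero hO _ (isCoh_structureModule X)
  have h := clSub_ses _ (shortExact_iso_zero e O hO) hM hN hc
  change KZero.clSub (PC X) N = KZero.clSub (PC X) M + KZero.clSub (PC X) O at h
  rw [h, clSub_isZero O hO, add_zero]

end K0


section closure

variable {X : Scheme.{u}}

theorem isIntegral_ptIdeal_subscheme (ζ : X) : IsIntegral (IntMult.ptIdeal ζ).subscheme := by
  haveI : IrreducibleSpace ↥(IntMult.ptIdeal ζ).subscheme :=
    irreducibleSpace_vanishingIdeal_subscheme ⟨closure {ζ}, isClosed_closure⟩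
      isIrreducible_singleton.closure
  haveI : IsReduced (IntMult.ptIdeal ζ).subscheme :=
    isReduced_vanishingIdeal_subscheme ⟨closure {ζ}, isClosed_closure⟩
  exact isIntegral_of_irreducibleSpace_of_isReduced _

theorem range_ptIdeal_subschemeι (ζ : X) :
    Set.range (IntMult.ptIdeal ζ).subschemeι = closure {ζ} := by
  unfold IntMult.ptIdeal
  rw [Scheme.IdealSheafData.range_subschemeι, Scheme.IdealSheafData.coe_support_vanishingIdeal]
  rfl

theorem ptIdeal_subschemeι_genericPoint (ζ : X) :
    haveI := isIntegral_ptIdeal_subscheme ζ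
    (IntMult.ptIdeal ζ).subschemeι (genericPoint (IntMult.ptIdeal ζ).subscheme) = ζ := by
  haveI := isIntegral_ptIdeal_subscheme ζ
  set i := (IntMult.ptIdeal ζ).subschemeι with hi
  set η := genericPoint (IntMult.ptIdeal ζ).subscheme with hη
  have h1 : closure ({η} : Set _) = Set.univ := (genericPoint_spec _).def
  have h2 : closure {i η} = closure {ζ} := by
    have hcl : Topology.IsClosedEmbedding i := i.isClosedEmbedding
    rw [← Set.image_singleton, hcl.closure_image_eq, h1, Set.image_univ, range_ptIdeal_subschemeι]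
  exact (inseparable_iff_closure_eq.2 h2).eq

theorem isCoh_closureStructureSheaf (ζ : X) : Coh.IsCoh (Cyc.closureStructureSheaf ζ) :=
  FinPush.isCoh_pushforward _ _ (isCoh_structureModule _)

theorem support_closureStructureSheaf (ζ : X) :
    CohB1.support (Cyc.closureStructureSheaf ζ) ⊆ closure {ζ} := by
  rw [← range_ptIdeal_subschemeι]
  apply support_push_subset_of_isClosed_range
  rw [range_ptIdeal_subschemeι]
  exact isClosed_closure

theorem isSimpleModule_stalk_closureStructureSheaf (ζ : X) :
    IsSimpleModule (X.presheaf.stalk ζ) ((Cyc.closureStructureSheaf ζ).presheaf.stalk ζ) := by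
  haveI := isIntegral_ptIdeal_subscheme ζ
  have h := isSimpleModule_stalk_push_structure (IntMult.ptIdeal ζ).subschemeι
  have hη := ptIdeal_subschemeι_genericPoint ζ
  rw [hη] at h
  exact h

end closure


section main

variable {X : Scheme.{u}}

theorem krullDim_le_of_subset {A B : Set X} (h : A ⊆ B) :
    topologicalKrullDim ↥A ≤ topologicalKrullDim ↥B :=
  (Topology.IsEmbedding.inclusion h).isInducing.topologicalKrullDim_le

/-- the filtration of `K₀(Coh X)` by dimension of support is generated by the classes of the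
structure sheaves of integral closed subschemes -/
theorem k0_filtration [IsNoetherian X] (n : ℕ) :
    AddSubgroup.closure {c : KZero.K0sub (PC X) |
        ∃ G : X.Modules, Coh.IsCoh G ∧ topologicalKrullDim ↥(CohB1.support G) ≤ n ∧
          c = KZero.clSub (PC X) G} =
      AddSubgroup.closure {c : KZero.K0sub (PC X) |
        ∃ x : ↥X, topologicalKrullDim ↥(closure ({x} : Set ↥X)) ≤ n ∧
          c = KZero.clSub (PC X) (Cyc.closureStructureSheaf x)} := by
  apply le_antisymm
  · rw [AddSubgroup.closure_le]
    rintro c ⟨G, hG, hdim, rfl⟩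
    set H := AddSubgroup.closure {c : KZero.K0sub (PC X) |
        ∃ x : ↥X, topologicalKrullDim ↥(closure ({x} : Set ↥X)) ≤ n ∧
          c = KZero.clSub (PC X) (Cyc.closureStructureSheaf x)} with hH
    refine dev_simple (fun M => KZero.clSub (PC X) M ∈ H) ?_ ?_ (CohB1.support G) ?_ ?_ G hG
      subset_rfl
    · intro M N e hK
      by_cases hM : Coh.IsCoh M
      · rw [clSub_iso e hM]
        exact hK
      · have hN : ¬ Coh.IsCoh N := fun hN => hM (isCoh_of_iso e.symm hN)
        have : KZero.clSub (PC X) N = 0 := dif_neg hN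
        rw [this]
        exact H.zero_mem
    · intro M hM
      change KZero.clSub (PC X) M ∈ H
      rw [clSub_isZero M hM]
      exact H.zero_mem
    · intro S hS h1 h2 h3 _
      have h := clSub_ses S hS h1 h2 h3
      refine ⟨fun k2 k3 => ?_, fun k1 k3 => ?_⟩
      · change KZero.clSub (PC X) S.X₁ ∈ H
        have : KZero.clSub (PC X) S.X₁ = KZero.clSub (PC X) S.X₂ - KZero.clSub (PC X) S.X₃ := by
          rw [h, add_sub_cancel_right]
        rw [this]
        exact H.sub_mem k2 k3
      · change KZero.clSub (PC X) S.X₂ ∈ H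
        rw [h]
        exact H.add_mem k1 k3
    · intro Z hZ hirr hZX' ξ hξ _
      refine ⟨Cyc.closureStructureSheaf ξ, isCoh_closureStructureSheaf ξ, ?_, ?_,
        isSimpleModule_stalk_closureStructureSheaf ξ⟩
      · apply AddSubgroup.subset_closure
        refine ⟨ξ, ?_, rfl⟩
        rw [hξ]
        exact (krullDim_le_of_subset hZX').trans hdim
      · rw [← hξ]
        exact support_closureStructureSheaf ξ
  · rw [AddSubgroup.closure_le]
    rintro c ⟨x, hdim, rfl⟩
    apply AddSubgroup.subset_closure
    exact ⟨Cyc.closureStructureSheaf x, isCoh_closureStructureSheaf x,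
      (krullDim_le_of_subset (support_closureStructureSheaf x)).trans hdim, rfl⟩

end main

end Groth.Agent.Helper1.Dv
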