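import Mathlib

/-!
# Finite length of localizations at minimal primes of the support (helper1)
-/

set_option autoImplicit false

namespace Groth.Agent.Helper1.FinLen

/-- a finite module over a noetherian local ring whose annihilator has the maximal ideal as a
minimal prime has finite length -/
theorem isFiniteLength_of_minimalPrimes {R M : Type*} [CommRing R] [IsNoetherianRing R]
    [IsLocalRing R] [AddCommGroup M] [Module R M] [Module.Finite R M]
    (hmin : IsLocalRing.maximalIdeal R ∈ (Module.annihilator R M).minimalPrimes) :
    IsFiniteLength R M := by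
  set I := Module.annihilator R M with hI
  haveI : IsArtinianRing (R ⧸ I) :=
    IsLocalRing.quotient_artinian_of_mem_minimalPrimes_of_isLocalRing I hmin
  letI : Module (R ⧸ I) M := Module.quotientAnnihilator
  haveI : IsScalarTower R (R ⧸ I) M :=
    Module.IsTorsionBySet.isScalarTower (Module.isTorsionBySet_annihilator R M)
  haveI : Module.Finite (R ⧸ I) M := Module.Finite.of_restrictScalars_finite R (R ⧸ I) M
  haveI : IsArtinian (R ⧸ I) M := inferInstance
  haveI : IsArtinian R M :=
    isArtinian_of_surjective_algebraMap (S := R) (R := R ⧸ I) (M := M)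
      Ideal.Quotient.mk_surjective
  exact isFiniteLength_iff_isNoetherian_isArtinian.2 ⟨inferInstance, inferInstance⟩

/-- the localization at a prime `P` of a finite module over a noetherian ring has finite length as
soon as `P` is minimal among the primes containing the annihilator (or does not contain it) -/
theorem isFiniteLength_localized {A : Type*} [CommRing A] [IsNoetherianRing A] (P : Ideal A)
    [P.IsPrime] (R : Type*) [CommRing R] [Algebra A R] [IsLocalization.AtPrime R P]
    {N M : Type*} [AddCommGroup N] [Module A N] [Module.Finite A N] [AddCommGroup M] [Module A M]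
    [Module R M] [IsScalarTower A R M] (f : N →ₗ[A] M) [IsLocalizedModule P.primeCompl f]
    (h : ∀ q : Ideal A, q.IsPrime → Module.annihilator A N ≤ q → q ≤ P → q = P) :
    IsFiniteLength R M := by
  haveI : IsNoetherianRing R := IsLocalization.isNoetherianRing P.primeCompl R inferInstance
  haveI : Module.Finite R M := Module.Finite.of_isLocalizedModule P.primeCompl (Rₚ := R) f
  haveI : IsLocalRing R := IsLocalization.AtPrime.isLocalRing R P
  by_cases hM : Subsingleton M
  · exact IsFiniteLength.of_subsingleton
  rw [not_subsingleton_iff_nontrivial] at hM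
  apply isFiniteLength_of_minimalPrimes
  set I := Module.annihilator R M with hI
  have hIne : I ≠ ⊤ := by
    intro htop
    have h1 : (1 : R) ∈ I := htop ▸ Submodule.mem_top
    obtain ⟨a, b, hab⟩ := hM
    apply hab
    rw [← one_smul R a, ← one_smul R b, Module.mem_annihilator.1 h1 a,
      Module.mem_annihilator.1 h1 b]
  -- elements of the annihilator of `N` kill `M`
  have hann : ∀ a ∈ Module.annihilator A N, algebraMap A R a ∈ I := by
    intro a ha
    rw [Module.mem_annihilator]
    intro m
    obtain ⟨⟨n, s⟩, hs⟩ := IsLocalizedModule.surj P.primeCompl f m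
    have h1 : s • (algebraMap A R a • m) = 0 := by
      rw [algebraMap_smul, smul_comm]
      change a • (s • m) = 0
      rw [hs, ← map_smul, Module.mem_annihilator.1 ha n, map_zero]
    have hu := IsLocalizedModule.map_units f s
    rw [Module.End.isUnit_iff] at hu
    apply hu.1
    rw [map_zero]
    exact h1
  refine ⟨⟨inferInstance, IsLocalRing.le_maximalIdeal hIne⟩, ?_⟩
  rintro q' ⟨hq', hIq'⟩ hle
  have hq : (q'.comap (algebraMap A R)).IsPrime := hq'.comap _
  have h1 : Module.annihilator A N ≤ q'.comap (algebraMap A R) :=
    fun a ha => hIq' (hann a ha)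
  have h2 : q'.comap (algebraMap A R) ≤ P := by
    rw [← IsLocalization.AtPrime.under_maximalIdeal R P]
    exact Ideal.comap_mono hle
  have h3 := h _ hq h1 h2
  rw [← IsLocalization.map_under P.primeCompl R q', show Ideal.under A q' = P from h3,
    IsLocalization.AtPrime.map_eq_maximalIdeal]

end Groth.Agent.Helper1.FinLen
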