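import Mathlib
import Groth.Agent.Lib.Helper1.FinLen1
import Groth.Agent.Lib.Helper1.FinPush
import Groth.Agent.Lib.Lead.SD1
import Groth.Prelude.Def_CohB1

/-!
# Finite length of the stalk of a coherent module at a maximal point of its support (helper1)
-/

set_option autoImplicit false
universe u
open CategoryTheory CategoryTheory.Limits AlgebraicGeometry TopologicalSpace Opposite

namespace Groth.Agent.Helper1.FinLen

open Groth.Agent.Lead

variable {X : Scheme.{u}}

attribute [local instance] SD.stalkModule

theorem isFiniteLength_stalk_aux [IsLocallyNoetherian X] (F : X.Modules) (hF : Coh.IsCoh F)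
    {U : X.Opens} (hU : IsAffineOpen U) (x : U)
    (hx : ∀ y : X, y ∈ CohB1.support F → y ⤳ x.1 → y = x.1) :
    IsFiniteLength (X.presheaf.stalk x.1) (F.presheaf.stalk x.1) := by
  haveI : F.IsQuasicoherent := hF.1
  haveI : IsNoetherianRing Γ(X, U) := IsLocallyNoetherian.component_noetherian ⟨U, hU⟩
  haveI : Module.Finite Γ(X, U) Γ(F, U) := FinPush.finite_sections F hF hU
  haveI := hU.isLocalization_stalk x
  haveI := SD.isLocalizedModule_germ F hU x
  refine isFiniteLength_localized (hU.primeIdealOf x).asIdeal (X.presheaf.stalk x.1)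
    (SD.germₗ F x) ?_
  intro q hq hann hqP
  set Q : PrimeSpectrum Γ(X, U) := ⟨q, hq⟩ with hQ
  have hyU : hU.fromSpec Q ∈ U := by
    have := hU.range_fromSpec
    rw [← SetLike.mem_coe, ← this]
    exact Set.mem_range_self Q
  obtain ⟨y, hy⟩ : ∃ y : U, y.1 = hU.fromSpec Q := ⟨⟨_, hyU⟩, rfl⟩
  have hprime : hU.primeIdealOf y = Q := by
    apply hU.fromSpec.isOpenEmbedding.injective
    rw [hU.fromSpec_primeIdealOf y, hy]
  -- the point lies in the support
  have hsupp : y.1 ∈ CohB1.support F := by
    intro hsub
    haveI hloc := SD.isLocalizedModule_germ F hU y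
    rw [hprime] at hloc
    have h1 : Q ∈ Module.support Γ(X, U) Γ(F, U) := Module.mem_support_iff_of_finite.2 hann
    rw [Module.mem_support_iff] at h1
    have e := IsLocalizedModule.iso Q.asIdeal.primeCompl (SD.germₗ F y)
    haveI : Subsingleton (LocalizedModule Q.asIdeal.primeCompl Γ(F, U)) :=
      e.toEquiv.subsingleton
    exact not_subsingleton (LocalizedModule Q.asIdeal.primeCompl Γ(F, U)) inferInstance
  -- the point is a generalization of `x`
  have hspec : y.1 ⤳ x.1 := by
    have h1 : Q ⤳ hU.primeIdealOf x :=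
      (PrimeSpectrum.le_iff_specializes _ _).1 hqP
    have h2 := h1.map hU.fromSpec.continuous
    rw [hU.fromSpec_primeIdealOf x, ← hy] at h2
    exact h2
  have hyx := hx _ hsupp hspec
  have : Q = hU.primeIdealOf x := by
    rw [← hprime]
    congr 1
    exact Subtype.ext hyx
  rw [← this]

/-- the stalk of a coherent module at a point of its support with no proper generalization in the
support has finite length -/
theorem isFiniteLength_stalk [IsLocallyNoetherian X] (F : X.Modules) (hF : Coh.IsCoh F) (x : X)
    (hx : ∀ y : X, y ∈ CohB1.support F → y ⤳ x → y = x) :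
    IsFiniteLength (X.presheaf.stalk x) (F.presheaf.stalk x) := by
  obtain ⟨_, ⟨U, hU, rfl⟩, hxU, -⟩ :=
    X.isBasis_affineOpens.exists_subset_of_mem_open (Set.mem_univ x) isOpen_univ
  exact isFiniteLength_stalk_aux F hF hU ⟨x, hxU⟩ hx

end Groth.Agent.Helper1.FinLen
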