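import Mathlib
import Groth.Agent.Lib.Helper1.FinLen2
import Groth.Agent.Lib.Helper1.Dv30
import Groth.Prelude.Def_Cyc

/-!
# Additivity of the cycle of a coherent module (helper1)
-/

set_option autoImplicit false
universe u
open CategoryTheory CategoryTheory.Limits AlgebraicGeometry TopologicalSpace Opposite

namespace Groth.Agent.Helper1.FinLen

open Groth.Agent.Lead Groth.Agent.Helper1.Dv Groth.Agent.Lib.Helper5.StalkAdj

variable {X : Scheme.{u}}

/-- the length of stalks is additive in short exact sequences -/
theorem length_stalk_ses (T : ShortComplex X.Modules) (hT : T.ShortExact) (x : X) :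
    Module.length (X.presheaf.stalk x) (T.X₂.presheaf.stalk x) =
      Module.length (X.presheaf.stalk x) (T.X₁.presheaf.stalk x) +
        Module.length (X.presheaf.stalk x) (T.X₃.presheaf.stalk x) := by
  have hS := hT.map_of_exact (stalkSh X x)
  have hinj : Function.Injective (stalkL T.f x) :=
    (ModuleCat.mono_iff_injective _).1 hS.mono_f
  have hsurj : Function.Surjective (stalkL T.g x) :=
    (ModuleCat.epi_iff_surjective _).1 hS.epi_g
  have hex : Function.Exact (stalkL T.f x) (stalkL T.g x) :=
    (ShortComplex.ShortExact.moduleCat_exact_iff_function_exact _).1 hS.exact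
  exact Module.length_eq_add_of_exact (stalkL T.f x) (stalkL T.g x) hinj hsurj hex

/-- a point of the support where the dimension function takes the maximal value is a maximal
point of the support -/
theorem maximal_of_delta_eq (δ : X → ℤ) (hδ : Cyc.IsDimFun X δ) (k : ℤ) (F : X.Modules)
    (hdim : ∀ x : X, Nontrivial (F.presheaf.stalk x) → δ x ≤ k) (x : X) (hx : δ x = k) :
    ∀ y : X, y ∈ CohB1.support F → y ⤳ x → y = x := by
  intro y hy hyx
  by_contra hne
  have h1 := (hδ y x hyx hne).1
  have h2 := hdim y (not_subsingleton_iff_nontrivial.1 hy)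
  omega

/-- the cycle of a coherent module is additive in short exact sequences -/
theorem sheafFun_ses (δ : X → ℤ) (hX : Cyc.IsSetup X δ) (k : ℤ) (T : ShortComplex X.Modules)
    (hT : T.ShortExact) (h₂ : Coh.IsCoh T.X₂)
    (hdim : ∀ x : X, Nontrivial (T.X₂.presheaf.stalk x) → δ x ≤ k) :
    Cyc.sheafFun δ k T.X₂ = Cyc.sheafFun δ k T.X₁ + Cyc.sheafFun δ k T.X₃ := by
  haveI : IsLocallyNoetherian X := hX.1
  funext x
  change Cyc.sheafFun δ k T.X₂ x = Cyc.sheafFun δ k T.X₁ x + Cyc.sheafFun δ k T.X₃ x
  unfold Cyc.sheafFun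
  by_cases hx : δ x = k
  · rw [if_pos hx, if_pos hx, if_pos hx]
    have hfin : Module.length (X.presheaf.stalk x) (T.X₂.presheaf.stalk x) ≠ ⊤ :=
      Module.length_ne_top_iff.2
        (isFiniteLength_stalk T.X₂ h₂ x (maximal_of_delta_eq δ hX.2.2 k T.X₂ hdim x hx))
    have hadd := length_stalk_ses T hT x
    rw [hadd] at hfin
    have h1 : Module.length (X.presheaf.stalk x) (T.X₁.presheaf.stalk x) ≠ ⊤ := by
      intro h
      rw [h, top_add] at hfin
      exact hfin rfl
    have h3 : Module.length (X.presheaf.stalk x) (T.X₃.presheaf.stalk x) ≠ ⊤ := by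
      intro h
      rw [h, add_top] at hfin
      exact hfin rfl
    rw [hadd, ENat.toNat_add h1 h3]
    push_cast
    rfl
  · rw [if_neg hx, if_neg hx, if_neg hx, add_zero]

end Groth.Agent.Helper1.FinLen
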