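import Mathlib

/-!
# Dimension of proper irreducible closed subsets (helper1)
-/

set_option autoImplicit false
open TopologicalSpace Topology Set

namespace Groth.Agent.Helper1.FinLen

/-- a proper irreducible closed subset of an irreducible set has strictly smaller dimension -/
theorem krullDim_add_one_le_of_ssubset {X : Type*} [TopologicalSpace X] {A B : Set X}
    (hAirr : IsIrreducible A) (hA : IsClosed A) (hBirr : IsIrreducible B) (hAB : A ⊂ B) :
    topologicalKrullDim ↥A + 1 ≤ topologicalKrullDim ↥B := by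
  unfold topologicalKrullDim
  haveI : IrreducibleSpace ↥B := (isIrreducible_iff_irreducibleSpace).1 hBirr
  haveI : IrreducibleSpace ↥A := (isIrreducible_iff_irreducibleSpace).1 hAirr
  haveI : Nonempty (IrreducibleCloseds ↥A) :=
    ⟨⟨univ, IrreducibleSpace.isIrreducible_univ _, isClosed_univ⟩⟩
  rw [← Order.krullDim_WithTop]
  let f : ↥A → ↥B := Set.inclusion hAB.subset
  have hf : IsInducing f := (IsEmbedding.inclusion hAB.subset).isInducing
  let top : IrreducibleCloseds ↥B := ⟨univ, IrreducibleSpace.isIrreducible_univ _, isClosed_univ⟩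
  have hlt : ∀ a : IrreducibleCloseds ↥A, IrreducibleCloseds.map f hf.continuous a < top := by
    intro a
    rw [lt_iff_le_and_ne]
    refine ⟨fun _ _ => Set.mem_univ _, ?_⟩
    intro h
    obtain ⟨b, hbB, hbA⟩ := Set.exists_of_ssubset hAB
    have hb : (⟨b, hbB⟩ : ↥B) ∈ (IrreducibleCloseds.map f hf.continuous a : Set ↥B) := by
      rw [h]
      exact Set.mem_univ _
    rw [IrreducibleCloseds.coe_map] at hb
    have hcl : IsClosed (Subtype.val ⁻¹' A : Set ↥B) := hA.preimage continuous_subtype_val
    have hsub : f '' (a : Set ↥A) ⊆ (Subtype.val ⁻¹' A : Set ↥B) := by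
      rintro _ ⟨x, -, rfl⟩
      exact x.2
    exact hbA (closure_minimal hsub hcl hb)
  let ψ : WithTop (IrreducibleCloseds ↥A) → IrreducibleCloseds ↥B := fun a =>
    WithTop.recTopCoe top (IrreducibleCloseds.map f hf.continuous) a
  apply Order.krullDim_le_of_strictMono ψ
  intro a b hab
  induction a with
  | top => exact absurd hab (not_top_lt)
  | coe a =>
    induction b with
    | top => exact hlt a
    | coe b =>
      exact IrreducibleCloseds.map_strictMono_of_isInducing hf (WithTop.coe_lt_coe.1 hab)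

/-- in a noetherian space, a closed subset of dimension `≤ n` contains only finitely many points
whose closure has dimension `n` -/
theorem finite_dim_eq {X : Type*} [TopologicalSpace X] [NoetherianSpace X] [T0Space X]
    (X' : Set X) (hX' : IsClosed X') (n : ℕ) (hdim : topologicalKrullDim ↥X' ≤ n) :
    {x : X | x ∈ X' ∧ topologicalKrullDim ↥(closure ({x} : Set X)) = n}.Finite := by
  classical
  obtain ⟨S, hSirr, hSeq⟩ := NoetherianSpace.exists_finset_irreducible ⟨X', hX'⟩
  have hX'eq : X' = ⋃ t ∈ S, (t : Set X) := by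
    have := congrArg (fun c : Closeds X => (c : Set X)) hSeq
    simp only [Closeds.coe_mk] at this
    rw [this, Closeds.coe_finset_sup, Finset.sup_set_eq_biUnion]
    rfl
  refine Set.Finite.of_injOn (f := fun x : X => (⟨closure {x}, isClosed_closure⟩ : Closeds X))
    (t := (S : Set (Closeds X))) ?_ ?_ S.finite_toSet
  · rintro x ⟨hxX', hxn⟩
    have hirr : IsIrreducible (closure ({x} : Set X)) := isIrreducible_singleton.closure
    have hsub : closure ({x} : Set X) ⊆ X' := closure_minimal (by simpa using hxX') hX'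
    obtain ⟨z, hz, hxz⟩ := (isIrreducible_iff_sUnion_isClosed.1 hirr)
      (S.image (fun t : Closeds X => (t : Set X)))
      (by
        intro z hz
        obtain ⟨t, -, rfl⟩ := Finset.mem_image.1 hz
        exact t.isClosed)
      (by
        intro y hy
        have hy' := hsub hy
        rw [hX'eq] at hy'
        obtain ⟨t, ht⟩ := Set.mem_iUnion.1 hy'
        obtain ⟨htS, hyt⟩ := Set.mem_iUnion.1 ht
        exact Set.mem_sUnion.2 ⟨t, Finset.mem_coe.2 (Finset.mem_image.2 ⟨t, htS, rfl⟩), hyt⟩)
    obtain ⟨t, htS, rfl⟩ := Finset.mem_image.1 hz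
    have heq : closure ({x} : Set X) = (t : Set X) := by
      by_contra hne
      have hss : closure ({x} : Set X) ⊂ (t : Set X) := Set.ssubset_iff_subset_ne.2 ⟨hxz, hne⟩
      have h1 := krullDim_add_one_le_of_ssubset hirr isClosed_closure (hSirr ⟨t, htS⟩) hss
      have htX' : (t : Set X) ⊆ X' := by
        rw [hX'eq]
        intro y hy
        exact Set.mem_iUnion.2 ⟨t, Set.mem_iUnion.2 ⟨htS, hy⟩⟩
      have h2 : topologicalKrullDim ↥(t : Set X) ≤ topologicalKrullDim ↥X' :=
        (IsEmbedding.inclusion htX').isInducing.topologicalKrullDim_le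
      rw [hxn] at h1
      have h3 := h1.trans (h2.trans hdim)
      have h4 : ((n : ℕ∞) : WithBot ℕ∞) + 1 ≤ ((n : ℕ∞) : WithBot ℕ∞) := h3
      have h5 : ((n + 1 : ℕ∞) : WithBot ℕ∞) ≤ ((n : ℕ∞) : WithBot ℕ∞) := by exact_mod_cast h4
      have h6 : (n : ℕ∞) + 1 ≤ (n : ℕ∞) := WithBot.coe_le_coe.1 h5
      have h7 : ((n + 1 : ℕ) : ℕ∞) ≤ (n : ℕ∞) := by exact_mod_cast h6
      have h8 : n + 1 ≤ n := by exact_mod_cast h7
      omega
    change (⟨closure {x}, isClosed_closure⟩ : Closeds X) ∈ (S : Set (Closeds X))
    have : (⟨closure {x}, isClosed_closure⟩ : Closeds X) = t := Closeds.ext heq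
    rw [this]
    exact htS
  · rintro x ⟨-, -⟩ y ⟨-, -⟩ h
    have h' : closure ({x} : Set X) = closure {y} := congrArg (fun c : Closeds X => (c : Set X)) h
    exact (inseparable_iff_closure_eq.2 h').eq

end Groth.Agent.Helper1.FinLen
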