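import Mathlib
import Groth.Agent.Lib.Helper1.Dv39
import Groth.Agent.Lib.Helper1.FinLen3
import Groth.Agent.Lib.Helper1.FinLen6

/-!
# The class of a coherent module modulo lower-dimensional classes (helper1)
-/

set_option autoImplicit false
universe u
open CategoryTheory CategoryTheory.Limits AlgebraicGeometry TopologicalSpace Opposite

namespace Groth.Agent.Helper1.FinLen

open Groth.Agent.Lead Groth.Agent.Helper1.Dv

variable {X : Scheme.{u}}

theorem length_stalk_iso {M N : X.Modules} (e : M ≅ N) (x : X) :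
    Module.length (X.presheaf.stalk x) (M.presheaf.stalk x) =
      Module.length (X.presheaf.stalk x) (N.presheaf.stalk x) :=
  (LinearEquiv.ofBijective (stalkL e.hom x) (stalkL_bijective_of_isIso e.hom x)).length_eq

theorem length_stalk_eq_zero {M : X.Modules} {x : X} (hx : x ∉ CohB1.support M) :
    Module.length (X.presheaf.stalk x) (M.presheaf.stalk x) = 0 :=
  Module.length_eq_zero_iff.2 (not_not.1 hx)

theorem not_coe_add_one_le (n : ℕ) : ¬ ((n : WithBot ℕ∞) + 1 ≤ (n : WithBot ℕ∞)) := by
  intro h4
  have h5 : ((n + 1 : ℕ∞) : WithBot ℕ∞) ≤ ((n : ℕ∞) : WithBot ℕ∞) := by exact_mod_cast h4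
  have h6 : (n : ℕ∞) + 1 ≤ (n : ℕ∞) := WithBot.coe_le_coe.1 h5
  have h7 : ((n + 1 : ℕ) : ℕ∞) ≤ (n : ℕ∞) := by exact_mod_cast h6
  have h8 : n + 1 ≤ n := by exact_mod_cast h7
  omega

/-- a point whose closure has maximal dimension has no proper generalization in `X'` -/
theorem eq_of_specializes_of_dim_eq (X' : Set X) (hX' : IsClosed X') (n : ℕ)
    (hdim : topologicalKrullDim ↥X' ≤ n) (x : X)
    (hx : topologicalKrullDim ↥(closure ({x} : Set X)) = n) (y : X) (hy : y ∈ X') (hyx : y ⤳ x) :
    y = x := by
  by_contra hne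
  have hsub : closure ({x} : Set X) ⊆ closure {y} := specializes_iff_closure_subset.1 hyx
  have hne' : closure ({x} : Set X) ≠ closure {y} := fun h =>
    hne (inseparable_iff_closure_eq.2 h).eq.symm
  have hss : closure ({x} : Set X) ⊂ closure {y} := Set.ssubset_iff_subset_ne.2 ⟨hsub, hne'⟩
  have h1 := krullDim_add_one_le_of_ssubset isIrreducible_singleton.closure isClosed_closure
    isIrreducible_singleton.closure hss
  have hyX' : closure ({y} : Set X) ⊆ X' := closure_minimal (by simpa using hy) hX'
  have h2 := krullDim_le_of_subset hyX'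
  rw [hx] at h1
  exact not_coe_add_one_le n (h1.trans (h2.trans hdim))

/-- the cycle class of a module in dimension `n` -/
noncomputable def cyc (n : ℕ) (M : X.Modules) : KZero.K0sub (PC X) :=
  finsum fun x : ↥X => if topologicalKrullDim ↥(closure ({x} : Set ↥X)) = n then
    (Module.length (X.presheaf.stalk x) (M.presheaf.stalk x)).toNat •
      KZero.clSub (PC X) (Cyc.closureStructureSheaf x) else 0

theorem cyc_support_subset (n : ℕ) (M : X.Modules) :
    Function.support (fun x : ↥X => if topologicalKrullDim ↥(closure ({x} : Set ↥X)) = n then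
      (Module.length (X.presheaf.stalk x) (M.presheaf.stalk x)).toNat •
        KZero.clSub (PC X) (Cyc.closureStructureSheaf x) else 0) ⊆
      {x : X | x ∈ CohB1.support M ∧ topologicalKrullDim ↥(closure ({x} : Set X)) = n} := by
  intro x hx
  rw [Function.mem_support] at hx
  by_cases h : topologicalKrullDim ↥(closure ({x} : Set ↥X)) = n
  · refine ⟨?_, h⟩
    by_contra hns
    apply hx
    rw [if_pos h, length_stalk_eq_zero hns]
    simp
  · exact absurd (if_neg h) hx

theorem cyc_support_finite [IsNoetherian X] (X' : Set X) (hX' : IsClosed X') (n : ℕ)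
    (hdim : topologicalKrullDim ↥X' ≤ n) (M : X.Modules) (hM : CohB1.support M ⊆ X') :
    (Function.support (fun x : ↥X => if topologicalKrullDim ↥(closure ({x} : Set ↥X)) = n then
      (Module.length (X.presheaf.stalk x) (M.presheaf.stalk x)).toNat •
        KZero.clSub (PC X) (Cyc.closureStructureSheaf x) else 0)).Finite := by
  refine (finite_dim_eq X' hX' n hdim).subset ?_
  intro x hx
  obtain ⟨h1, h2⟩ := cyc_support_subset n M hx
  exact ⟨hM h1, h2⟩

theorem length_stalk_ne_top [IsNoetherian X] (X' : Set X) (hX' : IsClosed X') (n : ℕ)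
    (hdim : topologicalKrullDim ↥X' ≤ n) (M : X.Modules) (hc : Coh.IsCoh M)
    (hM : CohB1.support M ⊆ X') (x : X)
    (hx : topologicalKrullDim ↥(closure ({x} : Set X)) = n) :
    Module.length (X.presheaf.stalk x) (M.presheaf.stalk x) ≠ ⊤ :=
  Module.length_ne_top_iff.2 (isFiniteLength_stalk M hc x
    (fun y hy hyx => eq_of_specializes_of_dim_eq X' hX' n hdim x hx y (hM hy) hyx))

theorem cyc_ses [IsNoetherian X] (X' : Set X) (hX' : IsClosed X') (n : ℕ)
    (hdim : topologicalKrullDim ↥X' ≤ n) (T : ShortComplex X.Modules) (hT : T.ShortExact)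
    (h1 : Coh.IsCoh T.X₁) (_h2 : Coh.IsCoh T.X₂) (h3 : Coh.IsCoh T.X₃)
    (hM : CohB1.support T.X₂ ⊆ X') :
    cyc n T.X₂ = cyc n T.X₁ + cyc n T.X₃ := by
  have hs := support_ses T hT
  have hM1 : CohB1.support T.X₁ ⊆ X' := fun x hx => hM (hs ▸ Or.inl hx)
  have hM3 : CohB1.support T.X₃ ⊆ X' := fun x hx => hM (hs ▸ Or.inr hx)
  unfold cyc
  rw [← finsum_add_distrib (cyc_support_finite X' hX' n hdim _ hM1)
    (cyc_support_finite X' hX' n hdim _ hM3)]
  congr 1
  funext x
  by_cases hx : topologicalKrullDim ↥(closure ({x} : Set ↥X)) = n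
  · rw [if_pos hx, if_pos hx, if_pos hx, length_stalk_ses T hT x,
      ENat.toNat_add (length_stalk_ne_top X' hX' n hdim _ h1 hM1 x hx)
        (length_stalk_ne_top X' hX' n hdim _ h3 hM3 x hx), add_smul]
  · rw [if_neg hx, if_neg hx, if_neg hx, add_zero]

theorem cyc_iso (n : ℕ) {M N : X.Modules} (e : M ≅ N) : cyc n M = cyc n N := by
  unfold cyc
  congr 1
  funext x
  rw [length_stalk_iso e x]

theorem cyc_isZero (n : ℕ) {M : X.Modules} (hM : IsZero M) : cyc n M = 0 := by
  unfold cyc
  have : (fun x : ↥X => if topologicalKrullDim ↥(closure ({x} : Set ↥X)) = n then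
      (Module.length (X.presheaf.stalk x) (M.presheaf.stalk x)).toNat •
        KZero.clSub (PC X) (Cyc.closureStructureSheaf x) else 0) = fun _ => 0 := by
    funext x
    have hx : x ∉ CohB1.support M := by
      rw [support_isZero hM]
      exact Set.notMem_empty x
    rw [length_stalk_eq_zero hx]
    simp
  rw [this, finsum_zero]

theorem cyc_closure_of_dim_eq [IsNoetherian X] (n : ℕ) (ξ : X)
    (hξ : topologicalKrullDim ↥(closure ({ξ} : Set X)) = n) :
    cyc n (Cyc.closureStructureSheaf ξ) = KZero.clSub (PC X) (Cyc.closureStructureSheaf ξ) := by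
  unfold cyc
  rw [finsum_eq_single _ ξ]
  · rw [if_pos hξ]
    haveI := isSimpleModule_stalk_closureStructureSheaf ξ
    have h1 : Module.length (X.presheaf.stalk ξ)
        ((Cyc.closureStructureSheaf ξ).presheaf.stalk ξ) = 1 :=
      Module.length_eq_one (X.presheaf.stalk ξ) _
    rw [h1]
    simp
  · intro x hxξ
    by_cases hx : topologicalKrullDim ↥(closure ({x} : Set ↥X)) = n
    · rw [if_pos hx]
      have hns : x ∉ CohB1.support (Cyc.closureStructureSheaf ξ) := by
        intro hxs
        have hxcl : x ∈ closure ({ξ} : Set X) := support_closureStructureSheaf ξ hxs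
        have hsp : ξ ⤳ x := specializes_iff_mem_closure.2 hxcl
        exact hxξ (eq_of_specializes_of_dim_eq (closure {ξ}) isClosed_closure n hξ.le x hx ξ
          (subset_closure rfl) hsp).symm
      rw [length_stalk_eq_zero hns]
      simp
    · rw [if_neg hx]

theorem cyc_closure_of_dim_lt [IsNoetherian X] (n : ℕ) (ξ : X)
    (hξ : topologicalKrullDim ↥(closure ({ξ} : Set X)) < n) :
    cyc n (Cyc.closureStructureSheaf ξ) = 0 := by
  unfold cyc
  have : (fun x : ↥X => if topologicalKrullDim ↥(closure ({x} : Set ↥X)) = n then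
      (Module.length (X.presheaf.stalk x)
        ((Cyc.closureStructureSheaf ξ).presheaf.stalk x)).toNat •
        KZero.clSub (PC X) (Cyc.closureStructureSheaf x) else 0) = fun _ => 0 := by
    funext x
    by_cases hx : topologicalKrullDim ↥(closure ({x} : Set ↥X)) = n
    · rw [if_pos hx]
      have hns : x ∉ CohB1.support (Cyc.closureStructureSheaf ξ) := by
        intro hxs
        have hxcl : x ∈ closure ({ξ} : Set X) := support_closureStructureSheaf ξ hxs
        have hsub : closure ({x} : Set X) ⊆ closure {ξ} :=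
          closure_minimal (by simpa using hxcl) isClosed_closure
        have := krullDim_le_of_subset hsub
        rw [hx] at this
        exact absurd (this.trans_lt hξ) (lt_irrefl _)
      rw [length_stalk_eq_zero hns]
      simp
    · rw [if_neg hx]
  rw [this, finsum_zero]

/-- S5642 -/
theorem k0_cycle_congr [IsNoetherian X] (n : ℕ) (F : X.Modules) (hF : Coh.IsCoh F)
    (hsupp : topologicalKrullDim ↥(CohB1.support F) ≤ n) :
    KZero.clSub (PC X) F - cyc n F ∈
      AddSubgroup.closure {c : KZero.K0sub (PC X) |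
        ∃ G : X.Modules, Coh.IsCoh G ∧ topologicalKrullDim ↥(CohB1.support G) < n ∧
          c = KZero.clSub (PC X) G} := by
  set H := AddSubgroup.closure {c : KZero.K0sub (PC X) |
        ∃ G : X.Modules, Coh.IsCoh G ∧ topologicalKrullDim ↥(CohB1.support G) < n ∧
          c = KZero.clSub (PC X) G} with hH
  have hcl : IsClosed (CohB1.support F) := FtGen.isClosed_support F hF.2
  refine dev_simple (fun M => Coh.IsCoh M → KZero.clSub (PC X) M - cyc n M ∈ H) ?_ ?_
    (CohB1.support F) ?_ ?_ F hF subset_rfl hF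
  · intro M N e hK hN
    have hM : Coh.IsCoh M := isCoh_of_iso e.symm hN
    rw [clSub_iso e hM, ← cyc_iso n e]
    exact hK hM
  · intro M hM _
    change KZero.clSub (PC X) M - cyc n M ∈ H
    rw [clSub_isZero M hM, cyc_isZero n hM, sub_zero]
    exact H.zero_mem
  · intro S hS h1 h2 h3 hsub
    have h := clSub_ses S hS h1 h2 h3
    have hc := cyc_ses (CohB1.support F) hcl n hsupp S hS h1 h2 h3 hsub
    refine ⟨fun k2 k3 _ => ?_, fun k1 k3 _ => ?_⟩
    · change KZero.clSub (PC X) S.X₁ - cyc n S.X₁ ∈ H
      have : KZero.clSub (PC X) S.X₁ - cyc n S.X₁ =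
          (KZero.clSub (PC X) S.X₂ - cyc n S.X₂) - (KZero.clSub (PC X) S.X₃ - cyc n S.X₃) := by
        rw [h, hc]
        abel
      rw [this]
      exact H.sub_mem (k2 h2) (k3 h3)
    · change KZero.clSub (PC X) S.X₂ - cyc n S.X₂ ∈ H
      have : KZero.clSub (PC X) S.X₂ - cyc n S.X₂ =
          (KZero.clSub (PC X) S.X₁ - cyc n S.X₁) + (KZero.clSub (PC X) S.X₃ - cyc n S.X₃) := by
        rw [h, hc]
        abel
      rw [this]
      exact H.add_mem (k1 h1) (k3 h3)
  · intro Z hZ hirr hZX' ξ hξ _
    refine ⟨Cyc.closureStructureSheaf ξ, isCoh_closureStructureSheaf ξ, ?_, ?_,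
      isSimpleModule_stalk_closureStructureSheaf ξ⟩
    · intro _
      change KZero.clSub (PC X) (Cyc.closureStructureSheaf ξ) -
        cyc n (Cyc.closureStructureSheaf ξ) ∈ H
      have hle : topologicalKrullDim ↥(closure ({ξ} : Set X)) ≤ n := by
        rw [hξ]
        exact (krullDim_le_of_subset hZX').trans hsupp
      rcases hle.lt_or_eq with hlt | heq
      · rw [cyc_closure_of_dim_lt n ξ hlt, sub_zero]
        apply AddSubgroup.subset_closure
        exact ⟨Cyc.closureStructureSheaf ξ, isCoh_closureStructureSheaf ξ,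
          (krullDim_le_of_subset (support_closureStructureSheaf ξ)).trans_lt hlt, rfl⟩
      · rw [cyc_closure_of_dim_eq n ξ heq, sub_self]
        exact H.zero_mem
    · rw [← hξ]
      exact support_closureStructureSheaf ξ

end Groth.Agent.Helper1.FinLen
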