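import Mathlib
import Groth.Prelude.Def_ega3

namespace Groth.Agent.Helper1.FlatCxL

universe u

open TensorProduct CategoryTheory Topology

section Theta

variable {A : Type u} [CommRing A] {κ : Type u} [CommRing κ] [Algebra A κ]

/-- auxiliary bilinear map -/
noncomputable def thetaBil (M : ModuleCat.{u} A) :
    (ModuleCat.restrictScalars (algebraMap A κ)).obj (ModuleCat.of κ κ) →ₗ[A] M →ₗ[A] (κ ⊗[A] M) where
  toFun s :=
    { toFun := fun m => (s : κ) ⊗ₜ[A] m
      map_add' := fun m m' => TensorProduct.tmul_add _ _ _
      map_smul' := fun a m => by simp }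
  map_add' s s' := by
    ext m
    exact TensorProduct.add_tmul _ _ _
  map_smul' a s := by
    ext m
    simp only [LinearMap.coe_mk, AddHom.coe_mk, LinearMap.smul_apply, RingHom.id_apply]
    have h : ((a • s : (ModuleCat.restrictScalars (algebraMap A κ)).obj (ModuleCat.of κ κ)) : κ) =
        a • (show κ from s) := by
      rw [ModuleCat.restrictScalars.smul_def (algebraMap A κ) (M := ModuleCat.of κ κ) a s]
      exact (Algebra.smul_def a (show κ from s)).symm
    rw [TensorProduct.smul_tmul']
    exact congrArg (fun t : κ => t ⊗ₜ[A] m) h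

/-- the `A`-linear comparison map -/
noncomputable def thetaA (M : ModuleCat.{u} A) :
    TensorProduct A ((ModuleCat.restrictScalars (algebraMap A κ)).obj (ModuleCat.of κ κ)) M →ₗ[A]
      (κ ⊗[A] M) :=
  TensorProduct.lift (thetaBil M)

theorem thetaA_tmul (M : ModuleCat.{u} A) (s : κ) (m : M) :
    thetaA (κ := κ) M (s ⊗ₜ m) = s ⊗ₜ[A] m := rfl


/-- auxiliary bilinear map for the inverse -/
noncomputable def thetaInvBil (M : ModuleCat.{u} A) :
    κ →ₗ[A] M →ₗ[A]
      TensorProduct A ((ModuleCat.restrictScalars (algebraMap A κ)).obj (ModuleCat.of κ κ)) M where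
  toFun s :=
    { toFun := fun m => (show (ModuleCat.restrictScalars (algebraMap A κ)).obj (ModuleCat.of κ κ)
        from s) ⊗ₜ[A] m
      map_add' := fun m m' => TensorProduct.tmul_add _ _ _
      map_smul' := fun a m => by simp }
  map_add' s s' := by
    ext m
    exact TensorProduct.add_tmul _ _ _
  map_smul' a s := by
    ext m
    simp only [LinearMap.coe_mk, AddHom.coe_mk, LinearMap.smul_apply, RingHom.id_apply]
    have h : (show (ModuleCat.restrictScalars (algebraMap A κ)).obj (ModuleCat.of κ κ) from a • s) =
        a • (show (ModuleCat.restrictScalars (algebraMap A κ)).obj (ModuleCat.of κ κ) from s) := by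
      rw [ModuleCat.restrictScalars.smul_def (algebraMap A κ) (M := ModuleCat.of κ κ) a]
      exact Algebra.smul_def a s
    rw [TensorProduct.smul_tmul']
    exact congrArg (fun t : (ModuleCat.restrictScalars (algebraMap A κ)).obj (ModuleCat.of κ κ) =>
      t ⊗ₜ[A] m) h

/-- the inverse `A`-linear comparison map -/
noncomputable def thetaInvA (M : ModuleCat.{u} A) :
    (κ ⊗[A] M) →ₗ[A]
      TensorProduct A ((ModuleCat.restrictScalars (algebraMap A κ)).obj (ModuleCat.of κ κ)) M :=
  TensorProduct.lift (thetaInvBil M)

theorem thetaInvA_tmul (M : ModuleCat.{u} A) (s : κ) (m : M) :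
    thetaInvA (κ := κ) M (s ⊗ₜ m) = (show (ModuleCat.restrictScalars (algebraMap A κ)).obj
      (ModuleCat.of κ κ) from s) ⊗ₜ[A] m := rfl

theorem thetaInvA_thetaA (M : ModuleCat.{u} A)
    (z : TensorProduct A ((ModuleCat.restrictScalars (algebraMap A κ)).obj (ModuleCat.of κ κ)) M) :
    thetaInvA M (thetaA M z) = z := by
  induction z using TensorProduct.induction_on with
  | zero => simp
  | tmul s m => rfl
  | add z z' hz hz' => rw [map_add, map_add, hz, hz']

theorem thetaA_thetaInvA (M : ModuleCat.{u} A) (z : κ ⊗[A] M) :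
    thetaA M (thetaInvA M z) = z := by
  induction z using TensorProduct.induction_on with
  | zero => simp
  | tmul s m => rfl
  | add z z' hz hz' => rw [map_add, map_add, hz, hz']

set_option backward.isDefEq.respectTransparency false in
/-- The `κ`-linear equivalence `extendScalars ≃ κ ⊗ M`. -/
noncomputable def theta (M : ModuleCat.{u} A) :
    ((ModuleCat.extendScalars (algebraMap A κ)).obj M) ≃ₗ[κ] (κ ⊗[A] M) where
  toFun z := thetaA M z
  invFun z := thetaInvA M z
  left_inv z := thetaInvA_thetaA M z
  right_inv z := thetaA_thetaInvA M z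
  map_add' z z' := (thetaA M).map_add z z'
  map_smul' c z := by
    simp only [RingHom.id_apply]
    induction z using TensorProduct.induction_on with
    | zero =>
      rw [smul_zero]
      change thetaA M 0 = c • thetaA M 0
      rw [map_zero, smul_zero]
    | tmul s m =>
      rw [ModuleCat.ExtendScalars.smul_tmul]
      change (c * (show κ from s)) ⊗ₜ[A] m = c • ((show κ from s) ⊗ₜ[A] m)
      rw [TensorProduct.smul_tmul', smul_eq_mul]
    | add z z' hz hz' =>
      rw [smul_add]
      change thetaA M (c • z + c • z') = c • thetaA M (z + z')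
      rw [map_add, map_add, smul_add]
      exact congrArg₂ (· + ·) hz hz'


set_option backward.isDefEq.respectTransparency false in
/-- naturality -/
theorem theta_naturality {M N : ModuleCat.{u} A} (d : M ⟶ N)
    (z : (ModuleCat.extendScalars (algebraMap A κ)).obj M) :
    theta N (((ModuleCat.extendScalars (algebraMap A κ)).map d).hom z) =
      LinearMap.baseChange κ d.hom (theta M z) := by
  induction z using TensorProduct.induction_on with
  | zero =>
    rw [map_zero, map_zero, map_zero, map_zero]
  | tmul s m => rfl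
  | add z z' hz hz' =>
    rw [map_add, map_add, map_add, map_add, hz, hz']

end Theta

section LinAlg

variable {κ : Type u} [Field κ]

/-- linear algebra: `dim H + dim V₃ = dim coker f + dim coker g` -/
theorem finrank_homology_add_aux {V₁ V₂ V₃ : Type u} [AddCommGroup V₁] [AddCommGroup V₂]
    [AddCommGroup V₃] [Module κ V₁] [Module κ V₂] [Module κ V₃]
    [FiniteDimensional κ V₂] [FiniteDimensional κ V₃]
    (f : V₁ →ₗ[κ] V₂) (g : V₂ →ₗ[κ] V₃) (h : ∀ x, g (f x) = 0) :
    Module.finrank κ (LinearMap.ker g ⧸ LinearMap.range (f.codRestrict (LinearMap.ker g) h)) +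
        Module.finrank κ V₃ =
      Module.finrank κ (V₂ ⧸ LinearMap.range f) + Module.finrank κ (V₃ ⧸ LinearMap.range g) := by
  have h1 := Submodule.finrank_quotient_add_finrank
    (LinearMap.range (f.codRestrict (LinearMap.ker g) h))
  have h2 := Submodule.finrank_quotient_add_finrank (LinearMap.range f)
  have h3 := Submodule.finrank_quotient_add_finrank (LinearMap.range g)
  have h4 := LinearMap.finrank_range_add_finrank_ker g
  have h5 : Module.finrank κ (LinearMap.range (f.codRestrict (LinearMap.ker g) h)) =
      Module.finrank κ (LinearMap.range f) := by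
    have : (LinearMap.range (f.codRestrict (LinearMap.ker g) h)).map (LinearMap.ker g).subtype =
        LinearMap.range f := by
      rw [← LinearMap.range_comp]
      congr 1
    rw [← this]
    exact (Submodule.equivMapOfInjective _ (Submodule.injective_subtype _) _).finrank_eq
  omega

theorem finrank_homology_add (S : ShortComplex (ModuleCat.{u} κ))
    [FiniteDimensional κ S.X₂] [FiniteDimensional κ S.X₃] :
    Module.finrank κ S.homology + Module.finrank κ S.X₃ =
      Module.finrank κ (S.X₂ ⧸ LinearMap.range S.f.hom) +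
        Module.finrank κ (S.X₃ ⧸ LinearMap.range S.g.hom) := by
  rw [← finrank_homology_add_aux S.f.hom S.g.hom S.moduleCat_zero_apply]
  congr 1
  exact S.moduleCatHomologyIso.toLinearEquiv.finrank_eq

end LinAlg

section Coker

variable {A : Type u} [CommRing A] {κ : Type u} [Field κ] [Algebra A κ]

theorem ker_baseChange_mkQ {M N : Type u} [AddCommGroup M] [AddCommGroup N] [Module A M]
    [Module A N] (d : M →ₗ[A] N) :
    LinearMap.ker ((LinearMap.range d).mkQ.baseChange κ) = LinearMap.range (d.baseChange κ) := by
  have hex : Function.Exact d (LinearMap.range d).mkQ := by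
    intro y
    rw [Submodule.mkQ_apply, Submodule.Quotient.mk_eq_zero]
    rfl
  have h := lTensor_exact κ hex (Submodule.mkQ_surjective _)
  ext z
  rw [LinearMap.mem_ker, LinearMap.mem_range]
  have := h z
  rw [Set.mem_range] at this
  exact this

noncomputable def quotRangeBaseChangeEquiv {M N : Type u} [AddCommGroup M] [AddCommGroup N]
    [Module A M] [Module A N] (d : M →ₗ[A] N) :
    ((κ ⊗[A] N) ⧸ LinearMap.range (d.baseChange κ)) ≃ₗ[κ] (κ ⊗[A] (N ⧸ LinearMap.range d)) :=
  (Submodule.quotEquivOfEq _ _ (ker_baseChange_mkQ d).symm).trans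
    (LinearMap.quotKerEquivOfSurjective ((LinearMap.range d).mkQ.baseChange κ)
      (LinearMap.lTensor_surjective κ (Submodule.mkQ_surjective _)))

end Coker

section Ext

variable {A : Type u} [CommRing A] {κ : Type u} [Field κ] [Algebra A κ]

theorem finrank_quot_range_extendScalars {M N : ModuleCat.{u} A} (d : M ⟶ N) :
    Module.finrank κ (↑((ModuleCat.extendScalars (algebraMap A κ)).obj N) ⧸
        LinearMap.range ((ModuleCat.extendScalars (algebraMap A κ)).map d).hom) =
      Module.finrank κ (κ ⊗[A] (N ⧸ LinearMap.range d.hom)) := by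
  have hmap : (LinearMap.range ((ModuleCat.extendScalars (algebraMap A κ)).map d).hom).map
      (theta N).toLinearMap = LinearMap.range (d.hom.baseChange κ) := by
    ext z
    constructor
    · rintro ⟨_, ⟨w, rfl⟩, rfl⟩
      exact ⟨theta M w, (theta_naturality d w).symm⟩
    · rintro ⟨w, rfl⟩
      refine ⟨_, ⟨(theta M).symm w, rfl⟩, ?_⟩
      have := theta_naturality d ((theta M).symm w)
      rw [LinearEquiv.apply_symm_apply] at this
      exact this
  exact ((Submodule.Quotient.equiv _ _ (theta N) hmap).trans
    (quotRangeBaseChangeEquiv d.hom)).finrank_eq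

theorem finrank_extendScalars_obj (N : ModuleCat.{u} A) :
    Module.finrank κ ↑((ModuleCat.extendScalars (algebraMap A κ)).obj N) =
      Module.finrank κ (κ ⊗[A] N) :=
  (theta N).finrank_eq

end Ext

section Fibre

variable {A : Type u} [CommRing A]

theorem ker_baseChange_mkQ' {κ : Type u} [Field κ] [Algebra A κ]
    {M N : Type u} [AddCommGroup M] [AddCommGroup N] [Module A M]
    [Module A N] (d : M →ₗ[A] N) :
    LinearMap.ker ((LinearMap.range d).mkQ.baseChange κ) = LinearMap.range (d.baseChange κ) := by
  have hex : Function.Exact d (LinearMap.range d).mkQ := by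
    intro y
    rw [Submodule.mkQ_apply, Submodule.Quotient.mk_eq_zero]
    rfl
  have h := lTensor_exact κ hex (Submodule.mkQ_surjective _)
  ext z
  rw [LinearMap.mem_ker, LinearMap.mem_range]
  have := h z
  rw [Set.mem_range] at this
  exact this

/-- fibre rank of a module at a point of the spectrum -/
noncomputable def fibreRank (Q : Type u) [AddCommGroup Q] [Module A Q] (x : PrimeSpectrum A) : ℕ :=
  Module.finrank x.asIdeal.ResidueField (x.asIdeal.ResidueField ⊗[A] Q)

/-- If the cokernel of `d : (ι →₀ A) → Q` vanishes after tensoring with the field `κ`,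
then `dim κ ⊗ Q ≤ card ι`. -/
theorem finrank_le_card_of_subsingleton {κ : Type u} [Field κ] [Algebra A κ]
    {Q : Type u} [AddCommGroup Q] [Module A Q] {ι : Type u} [Fintype ι] (q : ι → Q)
    (hC : Subsingleton (κ ⊗[A] (Q ⧸ LinearMap.range (Finsupp.linearCombination A q)))) :
    Module.finrank κ (κ ⊗[A] Q) ≤ Fintype.card ι := by
  classical
  let d := Finsupp.linearCombination A q
  let T : Submodule κ (κ ⊗[A] Q) := Submodule.span κ (Set.range fun v : ι => (1 : κ) ⊗ₜ[A] q v)
  have hT : T = ⊤ := by
    rw [eq_top_iff]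
    intro z _
    have hz : z ∈ LinearMap.ker ((LinearMap.range d).mkQ.baseChange κ) := by
      rw [LinearMap.mem_ker]
      exact Subsingleton.elim _ _
    rw [ker_baseChange_mkQ' d] at hz
    obtain ⟨w, rfl⟩ := hz
    clear ‹_ ∈ (⊤ : Submodule κ (κ ⊗[A] Q))›
    induction w using TensorProduct.induction_on with
    | zero => rw [map_zero]; exact T.zero_mem
    | add w w' hw hw' => rw [map_add]; exact T.add_mem hw hw'
    | tmul s l =>
      rw [LinearMap.baseChange_tmul]
      change s ⊗ₜ[A] (Finsupp.linearCombination A q l) ∈ T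
      rw [Finsupp.linearCombination_apply, Finsupp.sum, TensorProduct.tmul_sum]
      apply T.sum_mem
      intro v _
      have : s ⊗ₜ[A] (l v • q v) = (l v • s) • ((1 : κ) ⊗ₜ[A] q v) := by
        rw [TensorProduct.tmul_smul, TensorProduct.smul_tmul', TensorProduct.smul_tmul',
          smul_eq_mul, mul_one]
      rw [this]
      exact T.smul_mem _ (Submodule.subset_span ⟨v, rfl⟩)
  calc Module.finrank κ (κ ⊗[A] Q) = Module.finrank κ (⊤ : Submodule κ (κ ⊗[A] Q)) :=
        (finrank_top κ (κ ⊗[A] Q)).symm
    _ = Module.finrank κ T := by rw [hT]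
    _ ≤ Fintype.card ι := finrank_range_le_card _

theorem eventually_fibreRank_le (Q : Type u) [AddCommGroup Q] [Module A Q] [Module.Finite A Q]
    (x₀ : PrimeSpectrum A) : ∀ᶠ x in 𝓝 x₀, fibreRank Q x ≤ fibreRank Q x₀ := by
  classical
  let κ₀ := x₀.asIdeal.ResidueField
  let S : Set (κ₀ ⊗[A] Q) := Set.range fun q : Q => (1 : κ₀) ⊗ₜ[A] q
  have hS : Submodule.span κ₀ S = ⊤ := by
    rw [eq_top_iff]
    intro z hz
    clear hz
    induction z using TensorProduct.induction_on with
    | zero => exact Submodule.zero_mem _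
    | add w w' hw hw' => exact Submodule.add_mem _ hw hw'
    | tmul s q =>
      have : s ⊗ₜ[A] q = s • ((1 : κ₀) ⊗ₜ[A] q) := by
        rw [TensorProduct.smul_tmul', smul_eq_mul, mul_one]
      rw [this]
      exact Submodule.smul_mem _ _ (Submodule.subset_span ⟨q, rfl⟩)
  obtain ⟨b, hbS, hbspan, hbli⟩ := exists_linearIndependent κ₀ S
  have hbfin : Finite b := hbli.finite
  have : Fintype b := Fintype.ofFinite b
  have hcard : Fintype.card b ≤ fibreRank Q x₀ := hbli.fintype_card_le_finrank
  have hq : ∀ v : b, ∃ q : Q, (1 : κ₀) ⊗ₜ[A] q = v.1 := fun v => hbS v.2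
  choose q hq using hq
  let d := Finsupp.linearCombination A q
  let C := Q ⧸ LinearMap.range d
  have hC₀ : Subsingleton (κ₀ ⊗[A] C) := by
    let π := (LinearMap.range d).mkQ.baseChange κ₀
    have hπsurj : Function.Surjective π :=
      LinearMap.lTensor_surjective κ₀ (Submodule.mkQ_surjective _)
    have hker : LinearMap.ker π = ⊤ := by
      rw [eq_top_iff, ← hS, ← hbspan, Submodule.span_le]
      intro v hv
      rw [SetLike.mem_coe, LinearMap.mem_ker, show v = (1 : κ₀) ⊗ₜ[A] q ⟨v, hv⟩ from (hq ⟨v, hv⟩).symm,
        LinearMap.baseChange_tmul]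
      have : (LinearMap.range d).mkQ (q ⟨v, hv⟩) = 0 := by
        rw [Submodule.mkQ_apply, Submodule.Quotient.mk_eq_zero]
        exact ⟨Finsupp.single ⟨v, hv⟩ 1, by simp [d]⟩
      rw [this, TensorProduct.tmul_zero]
    constructor
    intro y y'
    obtain ⟨z, rfl⟩ := hπsurj y
    obtain ⟨z', rfl⟩ := hπsurj y'
    have hz : z ∈ LinearMap.ker π := hker ▸ Submodule.mem_top
    have hz' : z' ∈ LinearMap.ker π := hker ▸ Submodule.mem_top
    rw [LinearMap.mem_ker.mp hz, LinearMap.mem_ker.mp hz']
  have hx₀ : x₀ ∉ Module.support A C := by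
    rw [Module.mem_support_iff_nontrivial_residueField_tensorProduct]
    exact not_nontrivial_iff_subsingleton.mpr hC₀
  have hopen : IsOpen (Module.support A C)ᶜ := (Module.isClosed_support (R := A) (M := C)).isOpen_compl
  filter_upwards [hopen.mem_nhds hx₀] with x hx
  have hCx : Subsingleton (x.asIdeal.ResidueField ⊗[A] C) := by
    rw [Set.mem_compl_iff, Module.mem_support_iff_nontrivial_residueField_tensorProduct] at hx
    exact not_nontrivial_iff_subsingleton.mp hx
  exact (finrank_le_card_of_subsingleton q hCx).trans hcard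

end Fibre

section Main

variable {A : Type u} [CommRing A]

theorem dRank_add (P : ChainComplex (ModuleCat.{u} A) ℤ) (hP : ∀ i, Module.Finite A (P.X i))
    (p : ℤ) (x : PrimeSpectrum A) :
    CohIII.dRank P p x + fibreRank (P.X ((ComplexShape.down ℤ).next p)) x =
      fibreRank (P.X p ⧸ LinearMap.range (P.d ((ComplexShape.down ℤ).prev p) p).hom) x +
        fibreRank (P.X ((ComplexShape.down ℤ).next p) ⧸
          LinearMap.range (P.d p ((ComplexShape.down ℤ).next p)).hom) x := by
  let κ := x.asIdeal.ResidueField
  let φ := algebraMap A κ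
  let K := CohIII.bcCx φ P
  have hfin : ∀ i, Module.Finite κ ↑((ModuleCat.extendScalars φ).obj (P.X i)) := fun i => by
    have := hP i
    exact Module.Finite.equiv (theta (κ := κ) (P.X i)).symm
  have h2 : FiniteDimensional κ (K.sc p).X₂ := hfin p
  have h3 : FiniteDimensional κ (K.sc p).X₃ := hfin _
  have key := finrank_homology_add (K.sc p)
  have e1 : Module.finrank κ ((K.sc p).X₂ ⧸ LinearMap.range (K.sc p).f.hom) =
      fibreRank (P.X p ⧸ LinearMap.range (P.d ((ComplexShape.down ℤ).prev p) p).hom) x :=
    finrank_quot_range_extendScalars (κ := κ) (P.d ((ComplexShape.down ℤ).prev p) p)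
  have e2 : Module.finrank κ ((K.sc p).X₃ ⧸ LinearMap.range (K.sc p).g.hom) =
      fibreRank (P.X ((ComplexShape.down ℤ).next p) ⧸
          LinearMap.range (P.d p ((ComplexShape.down ℤ).next p)).hom) x :=
    finrank_quot_range_extendScalars (κ := κ) (P.d p ((ComplexShape.down ℤ).next p))
  have e3 : Module.finrank κ (K.sc p).X₃ = fibreRank (P.X ((ComplexShape.down ℤ).next p)) x :=
    finrank_extendScalars_obj (κ := κ) (P.X ((ComplexShape.down ℤ).next p))
  rw [e1, e2, e3] at key
  exact key

theorem dRank_upperSemicontinuous [IsNoetherianRing A]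
    (P : ChainComplex (ModuleCat.{u} A) ℤ)
    (hP : ∀ i, Module.Finite A (P.X i) ∧ Module.Flat A (P.X i)) (p : ℤ) :
    UpperSemicontinuous (CohIII.dRank P p) := by
  intro x₀ y hy
  have hfin : ∀ i, Module.Finite A (P.X i) := fun i => (hP i).1
  have hflat : ∀ i, Module.Flat A (P.X i) := fun i => (hP i).2
  have := hfin ((ComplexShape.down ℤ).next p)
  have := hflat ((ComplexShape.down ℤ).next p)
  have := hfin p
  have hfp : Module.FinitePresentation A (P.X ((ComplexShape.down ℤ).next p)) :=
    Module.finitePresentation_of_finite A _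
  have hlc : IsLocallyConstant (fibreRank (A := A) (P.X ((ComplexShape.down ℤ).next p))) := by
    have h := Module.isLocallyConstant_rankAtStalk (R := A)
      (M := P.X ((ComplexShape.down ℤ).next p))
    have heq : fibreRank (A := A) (P.X ((ComplexShape.down ℤ).next p)) =
        Module.rankAtStalk (R := A) (P.X ((ComplexShape.down ℤ).next p)) := by
      funext x
      exact (Module.rankAtStalk_eq x).symm
    rw [heq]
    exact h
  have ev1 := eventually_fibreRank_le
    (P.X p ⧸ LinearMap.range (P.d ((ComplexShape.down ℤ).prev p) p).hom) x₀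
  have ev2 := eventually_fibreRank_le (P.X ((ComplexShape.down ℤ).next p) ⧸
          LinearMap.range (P.d p ((ComplexShape.down ℤ).next p)).hom) x₀
  have ev3 := hlc.eventually_eq x₀
  filter_upwards [ev1, ev2, ev3] with x h1 h2 h3
  have k := dRank_add P hfin p x
  have k₀ := dRank_add P hfin p x₀
  omega

end Main

end Groth.Agent.Helper1.FlatCxL
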