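import Mathlib
import Groth.Agent.Lib.Helper1.FinLen7
import Groth.Agent.Lib.Helper5.StalkTen.StalkTenS
import Groth.Agent.Lib.Helper5.Perf.StalkFree
import Groth.Agent.Lib.Helper5.Perf.LocalCoh
import Groth.Agent.Lib.Lead.TilT6

/-!
# Tensoring with a locally free module on the graded pieces of `K'₀` (helper1)
-/

set_option autoImplicit false
universe u
open CategoryTheory CategoryTheory.Limits AlgebraicGeometry TopologicalSpace Opposite
open scoped TensorProduct

namespace Groth.Agent.Helper1.FinLen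

open Groth.Agent.Lead Groth.Agent.Helper1.Dv Groth.Agent.Lib.Helper5.StalkAdj
  Groth.Agent.Lib.Helper5.StalkFree Groth.Agent.Lib.Helper5.StalkTenS

variable {X : Scheme.{u}}

theorem isFinLocFree_of_rank {e : ℕ} {E : X.Modules} (hE : FlatMod.IsFinLocFreeOfRank e E) :
    FlatMod.IsFinLocFree E := fun x => by
  obtain ⟨U, hxU, h⟩ := hE x
  exact ⟨U, e, hxU, h⟩

/-- the stalk of a locally free module of rank `e` is free of rank `e` -/
theorem finrank_stalk_of_rank {e : ℕ} {E : X.Modules} (hE : FlatMod.IsFinLocFreeOfRank e E)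
    (x : X) : Module.finrank (X.presheaf.stalk x) ((stalkSh X x).obj E) = e := by
  obtain ⟨U, hxU, ⟨i⟩⟩ := hE x
  let x' : (U : Scheme.{u}) := ⟨x, hxU⟩
  have e1 := ((stalkSh (U : Scheme.{u}) x').mapIso i ≪≫
    stalkFreeIso (U : Scheme.{u}) x' e).toLinearEquiv
  have e2 : (stalkSh (U : Scheme.{u}) x').obj (E.restrict U.ι) ≅
      (ModuleCat.extendScalars.{u, u, u} (U.ι.stalkMap x').hom).obj
        ((stalkSh X (U.ι x')).obj E) :=
    (stalkSh (U : Scheme.{u}) x').mapIso ((Scheme.Modules.restrictFunctorIsoPullback U.ι).app E) ≪≫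
      (stalkPullbackIso U.ι x').app E
  have hff := free_finite_stalk_of_isFinLocFree E (isFinLocFree_of_rank hE) x
  haveI : Module.Free (X.presheaf.stalk (U.ι x')) ((stalkSh X (U.ι x')).obj E) := hff.1
  haveI : Module.Finite (X.presheaf.stalk (U.ι x')) ((stalkSh X (U.ι x')).obj E) := hff.2
  letI : Algebra (X.presheaf.stalk (U.ι x')) ((U : Scheme.{u}).presheaf.stalk x') :=
    (U.ι.stalkMap x').hom.toAlgebra
  have e3 : ((U : Scheme.{u}).presheaf.stalk x' ⊗[X.presheaf.stalk (U.ι x')]
      ((stalkSh X (U.ι x')).obj E)) ≃ₗ[(U : Scheme.{u}).presheaf.stalk x']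
      (Fin e → (U : Scheme.{u}).presheaf.stalk x') := e2.toLinearEquiv.symm ≪≫ₗ e1
  have h1 := e3.finrank_eq
  rw [Module.finrank_fin_fun, Module.finrank_baseChange] at h1
  exact h1

/-- the length of the stalk of `E ⊗ F` for `E` locally free of rank `e` -/
theorem length_stalk_tensor {e : ℕ} {E : X.Modules} (hE : FlatMod.IsFinLocFreeOfRank e E)
    (F : X.Modules) (x : X) :
    Module.length (X.presheaf.stalk x) ((CohB1.tensorMod E F).presheaf.stalk x) =
      e * Module.length (X.presheaf.stalk x) (F.presheaf.stalk x) := by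
  have hff := free_finite_stalk_of_isFinLocFree E (isFinLocFree_of_rank hE) x
  haveI := hff.1
  haveI := hff.2
  have hr := finrank_stalk_of_rank hE x
  let b := Module.finBasisOfFinrankEq (X.presheaf.stalk x) ((stalkSh X x).obj E) hr
  let eE : ((stalkSh X x).obj E) ≃ₗ[X.presheaf.stalk x] (Fin e → X.presheaf.stalk x) :=
    b.equivFun
  have e0 : ((stalkSh X x).obj (CohB1.tensorMod E F)) ≃ₗ[X.presheaf.stalk x]
      (((stalkSh X x).obj E) ⊗[X.presheaf.stalk x] ((stalkSh X x).obj F)) :=
    (stalkTensorIsoS X x E F).toLinearEquiv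
  have e4 : (((stalkSh X x).obj E) ⊗[X.presheaf.stalk x] ((stalkSh X x).obj F))
      ≃ₗ[X.presheaf.stalk x] (Fin e → (stalkSh X x).obj F) :=
    TensorProduct.congr eE (LinearEquiv.refl _ _) ≪≫ₗ TensorProduct.comm _ _ _ ≪≫ₗ
      TensorProduct.piScalarRight (X.presheaf.stalk x) (X.presheaf.stalk x)
        ((stalkSh X x).obj F) (Fin e)
  have h1 := (e0 ≪≫ₗ e4).length_eq
  rw [Module.length_pi] at h1
  simp only [ENat.card_eq_coe_fintype_card, Fintype.card_fin] at h1
  exact h1

theorem cyc_tensor [IsNoetherian X] {e : ℕ} {E : X.Modules}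
    (hE : FlatMod.IsFinLocFreeOfRank e E) (F : X.Modules) (hF : Coh.IsCoh F) (r : ℕ)
    (hr : topologicalKrullDim ↥(CohB1.support F) ≤ r) :
    cyc r (CohB1.tensorMod E F) = e • cyc r F := by
  unfold cyc
  rw [smul_finsum' e (cyc_support_finite (CohB1.support F) (FtGen.isClosed_support F hF.2) r hr F
    subset_rfl)]
  congr 1
  funext x
  by_cases hx : topologicalKrullDim ↥(closure ({x} : Set ↥X)) = r
  · rw [if_pos hx, if_pos hx, length_stalk_tensor hE F x, ENat.toNat_mul, ENat.toNat_natCast, mul_smul]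
  · rw [if_neg hx, if_neg hx, smul_zero]

/-- S7763 -/
theorem k0_tensor_locFree [IsNoetherian X] (E : X.Modules) (e : ℕ)
    (hE : FlatMod.IsFinLocFreeOfRank e E) (F : X.Modules) (hF : Coh.IsCoh F) (r : ℕ)
    (hr : topologicalKrullDim ↥(CohB1.support F) ≤ r) :
    KZero.clSub (PC X) (CohB1.tensorMod E F) - e • KZero.clSub (PC X) F ∈
      AddSubgroup.closure {c : KZero.K0sub (PC X) |
        ∃ G : X.Modules, Coh.IsCoh G ∧ topologicalKrullDim ↥(CohB1.support G) < r ∧
          c = KZero.clSub (PC X) G} := by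
  set H := AddSubgroup.closure {c : KZero.K0sub (PC X) |
        ∃ G : X.Modules, Coh.IsCoh G ∧ topologicalKrullDim ↥(CohB1.support G) < r ∧
          c = KZero.clSub (PC X) G} with hH
  have hEc : Coh.IsCoh E :=
    Groth.Agent.Lib.Helper5.LocalCoh.isCoh_of_isFinLocFree E (isFinLocFree_of_rank hE)
  haveI : E.IsQuasicoherent := hEc.1
  haveI : F.IsQuasicoherent := hF.1
  have hT : Coh.IsCoh (CohB1.tensorMod E F) :=
    ⟨inferInstance, TilT.isFT_tensorMod E F hEc.2 hF.2⟩
  have hsub : CohB1.support (CohB1.tensorMod E F) ⊆ CohB1.support F := by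
    rw [TilT.support_tensorMod E F hEc.2 hF.2]
    exact Set.inter_subset_right
  have hdim : topologicalKrullDim ↥(CohB1.support (CohB1.tensorMod E F)) ≤ r :=
    (krullDim_le_of_subset hsub).trans hr
  have h1 := k0_cycle_congr r (CohB1.tensorMod E F) hT hdim
  have h2 := k0_cycle_congr r F hF hr
  rw [cyc_tensor hE F hF r hr] at h1
  have : KZero.clSub (PC X) (CohB1.tensorMod E F) - e • KZero.clSub (PC X) F =
      (KZero.clSub (PC X) (CohB1.tensorMod E F) - e • cyc r F) -
        e • (KZero.clSub (PC X) F - cyc r F) := by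
    rw [smul_sub]
    abel
  rw [this]
  exact H.sub_mem h1 (H.nsmul_mem h2 e)

end Groth.Agent.Helper1.FinLen
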