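import Mathlib
import Groth.Prelude
import Groth.Agent.Lib.Helper1.FinLen9
import Groth.Agent.Lib.Helper1.QcExtend1
import Groth.Agent.Lib.Helper1.CohAbel
import Groth.Agent.Lib.Helper1.TildeTens
import Groth.Agent.Lib.Helper1.Dv8
import Groth.Agent.Lib.Helper1.Dv12
import Groth.Agent.Lib.Helper1.Dv15
import Groth.Agent.Lib.Helper1.Dv28
import Groth.Agent.Lib.Helper1.Dv39
import Groth.Agent.Lib.Helper5.Stalk.FlatPull
import Groth.Agent.Lib.Helper5.Stalk.RpushSupp
import Groth.Agent.Lib.Helper5.LTen.Flf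
import Groth.Agent.Lib.Helper5.RestrTen.RestrTenS
import Groth.Agent.Lib.Helper5.Perf.LocalCoh

/-!
# Nilpotence of `[V] ⊗ - − r` on `K₀(Coh W)` for a Noetherian scheme `W` (helper1)

`V` finite locally free of constant rank `r`.  No finiteness of the dimension is assumed: the proof
filters `K₀` by the closed subsets `W ∖ (U₁ ∪ … ∪ U_j)` for a finite trivialising cover, and uses the
graph trick together with the extension of quasi-coherent subsheaves to compare two coherent modules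
which are isomorphic over an open subset.
-/

set_option autoImplicit false
set_option backward.isDefEq.respectTransparency.types false
set_option synthInstance.maxHeartbeats 400000
set_option linter.style.haveILetI false
set_option linter.unusedSectionVars false
set_option linter.unusedVariables false
universe u
open CategoryTheory CategoryTheory.Limits AlgebraicGeometry TopologicalSpace Opposite

namespace Groth.Agent.Helper1.K0Nil

section Abstract

variable {C D : Type*} [Category C] [Category D]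

theorem graph_facts [Preadditive C] [Preadditive D] [HasBinaryBiproducts C]
    (R : C ⥤ D) [R.PreservesZeroMorphisms] {A B : C} (ψ : R.obj A ⟶ R.obj B) :
    (R.map (biprod.inl : A ⟶ A ⊞ B) + ψ ≫ R.map (biprod.inr : B ⟶ A ⊞ B)) ≫
        R.map biprod.fst = 𝟙 _ ∧
      (R.map (biprod.inl : A ⟶ A ⊞ B) + ψ ≫ R.map (biprod.inr : B ⟶ A ⊞ B)) ≫
        R.map biprod.snd = ψ := by
  constructor
  · rw [Preadditive.add_comp, Category.assoc, ← R.map_comp, ← R.map_comp, biprod.inl_fst,
      biprod.inr_fst, R.map_id, R.map_zero, comp_zero, add_zero]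
  · rw [Preadditive.add_comp, Category.assoc, ← R.map_comp, ← R.map_comp, biprod.inl_snd,
      biprod.inr_snd, R.map_id, R.map_zero, zero_add, Category.comp_id]

theorem isIso_proj [Preadditive C] [Preadditive D] [HasBinaryBiproducts C]
    (R : C ⥤ D) [R.PreservesZeroMorphisms] {A B G' : C} (ψ : R.obj A ≅ R.obj B)
    (i' : G' ⟶ A ⊞ B) (e : R.obj G' ≅ R.obj A)
    (he : e.hom ≫ (R.map (biprod.inl : A ⟶ A ⊞ B) + ψ.hom ≫ R.map (biprod.inr : B ⟶ A ⊞ B)) =
      R.map i') :
    IsIso (R.map (i' ≫ biprod.fst)) ∧ IsIso (R.map (i' ≫ biprod.snd)) := by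
  obtain ⟨h1, h2⟩ := graph_facts R ψ.hom
  constructor
  · have : R.map (i' ≫ biprod.fst) = e.hom := by
      rw [R.map_comp, ← he, Category.assoc, h1, Category.comp_id]
    rw [this]; infer_instance
  · have : R.map (i' ≫ biprod.snd) = e.hom ≫ ψ.hom := by
      rw [R.map_comp, ← he, Category.assoc, h2]
    rw [this]; infer_instance

theorem isZero_map_kernel [Abelian C] [Abelian D]
    (R : C ⥤ D) [R.PreservesZeroMorphisms] [PreservesFiniteLimits R] [PreservesFiniteColimits R]
    {G A : C} (p : G ⟶ A) [IsIso (R.map p)] :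
    IsZero (R.obj (kernel p)) ∧ IsZero (R.obj (cokernel p)) :=
  ⟨IsZero.of_iso (isZero_kernel_of_mono (R.map p)) (PreservesKernel.iso R p),
   IsZero.of_iso (isZero_cokernel_of_epi (R.map p)) (PreservesCokernel.iso R p)⟩

theorem nonempty_sigmaSuccIso [Preadditive C] [HasBinaryBiproducts C] [HasFiniteCoproducts C]
    (F : C) (r : ℕ) :
    Nonempty ((∐ fun _ : Fin (r + 1) => F) ≅ F ⊞ (∐ fun _ : Fin r => F)) := by
  let f : Fin (r + 1) → C := fun _ => F
  let c₁ : Cofan (fun i : Fin r => f i.succ) :=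
    Cofan.mk (∐ fun _ : Fin r => F) (Sigma.ι (fun _ : Fin r => F))
  have t₁ : IsColimit c₁ := coproductIsCoproduct (fun _ : Fin r => F)
  let c₂ : BinaryCofan (f 0) c₁.pt :=
    BinaryCofan.mk (coprod.inl : F ⟶ F ⨿ (∐ fun _ : Fin r => F)) coprod.inr
  have t₂ : IsColimit c₂ := coprodIsCoprod F (∐ fun _ : Fin r => F)
  have t := extendCofanIsColimit f t₁ t₂
  have e1 : (∐ fun _ : Fin (r + 1) => F) ≅ F ⨿ (∐ fun _ : Fin r => F) :=
    (coproductIsCoproduct f).coconePointUniqueUpToIso t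
  exact ⟨e1 ≪≫ (biprod.isoCoprod F _).symm⟩

theorem isZero_sigma_fin_zero [HasZeroMorphisms C] [HasFiniteCoproducts C] (F : C) :
    IsZero (∐ fun _ : Fin 0 => F) := by
  rw [IsZero.iff_id_eq_zero]
  apply Sigma.hom_ext
  intro i
  exact i.elim0

end Abstract


open Groth.Agent.Lead Groth.Agent.Helper1.Dv Groth.Agent.Helper1
open Groth.Agent.Lib.Helper5.StalkAdj Groth.Agent.Helper1.FinLen

section K0

variable {X : Scheme.{u}}

/-- the subgroup of `K₀(Coh X)` generated by the classes of coherent modules supported in `Z` -/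
noncomputable def KS (Z : Set X) : AddSubgroup (KZero.K0sub (PC X)) :=
  AddSubgroup.closure {c : KZero.K0sub (PC X) |
    ∃ G : X.Modules, Coh.IsCoh G ∧ CohB1.support G ⊆ Z ∧ c = KZero.clSub (PC X) G}

theorem clSub_mem_KS {Z : Set X} (G : X.Modules) (hG : Coh.IsCoh G) (h : CohB1.support G ⊆ Z) :
    KZero.clSub (PC X) G ∈ KS Z :=
  AddSubgroup.subset_closure ⟨G, hG, h, rfl⟩

theorem KS_mono {Z Z' : Set X} (h : Z ⊆ Z') : KS Z ≤ KS Z' := by
  unfold KS
  apply AddSubgroup.closure_mono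
  rintro c ⟨G, hG, hs, hc⟩
  exact ⟨G, hG, hs.trans h, hc⟩

theorem mem_KS_univ (y : KZero.K0sub (PC X)) : y ∈ KS (Set.univ : Set X) := by
  induction y using QuotientAddGroup.induction_on with
  | H a =>
    induction a using FreeAbelianGroup.induction_on with
    | zero => exact (KS (Set.univ : Set X)).zero_mem
    | of M =>
      have h := clSub_mem_KS (Z := (Set.univ : Set X)) M.1 M.2 (Set.subset_univ _)
      rwa [clSub_of M.1 M.2] at h
    | neg M ih => rw [QuotientAddGroup.mk_neg]; exact (KS _).neg_mem ih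
    | add a b iha ihb => rw [QuotientAddGroup.mk_add]; exact (KS _).add_mem iha ihb

variable [IsNoetherian X]

theorem eq_zero_of_mem_KS (Z : Set X) (hZ : Z ⊆ ∅) {y : KZero.K0sub (PC X)} (hy : y ∈ KS Z) :
    y = 0 := by
  unfold KS at hy
  induction hy using AddSubgroup.closure_induction with
  | mem c hc =>
    obtain ⟨G, hG, hGZ, rfl⟩ := hc
    exact clSub_isZero G (isZero_of_support_subset_empty G (hGZ.trans hZ))
  | zero => rfl
  | add a b _ _ iha ihb => rw [iha, ihb, add_zero]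
  | neg a _ iha => rw [iha, neg_zero]

theorem k0_four {A B : X.Modules} (f : A ⟶ B) (hA : Coh.IsCoh A) (hB : Coh.IsCoh B) :
    KZero.clSub (PC X) A + KZero.clSub (PC X) (cokernel f) =
      KZero.clSub (PC X) (kernel f) + KZero.clSub (PC X) B := by
  have hK : Coh.IsCoh (kernel f) := FtLocal.isCoh_kernel hA hB f
  have hQ : Coh.IsCoh (cokernel f) := FtLocal.isCoh_cokernel hA hB f
  have hCo : Coh.IsCoh (Abelian.coimage f) := FtLocal.isCoh_cokernel hK hA (kernel.ι f)
  have hIm : Coh.IsCoh (Abelian.image f) := FtLocal.isCoh_kernel hB hQ (cokernel.π f)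
  let S₁ : ShortComplex X.Modules := ShortComplex.mk (kernel.ι f) (cokernel.π (kernel.ι f))
    (cokernel.condition _)
  have hS₁ : S₁.Exact := ShortComplex.exact_cokernel (kernel.ι f)
  haveI : Mono S₁.f := inferInstanceAs (Mono (kernel.ι f))
  haveI : Epi S₁.g := inferInstanceAs (Epi (cokernel.π (kernel.ι f)))
  have hSE₁ : S₁.ShortExact := { exact := hS₁ }
  have e1 := clSub_ses S₁ hSE₁ hK hA hCo
  let S₂ : ShortComplex X.Modules := ShortComplex.mk (Abelian.image.ι f) (cokernel.π f)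
    (kernel.condition _)
  have hS₂ : S₂.Exact := ShortComplex.exact_of_f_is_kernel _ (kernelIsKernel (cokernel.π f))
  haveI : Mono S₂.f := inferInstanceAs (Mono (Abelian.image.ι f))
  haveI : Epi S₂.g := inferInstanceAs (Epi (cokernel.π f))
  have hSE₂ : S₂.ShortExact := { exact := hS₂ }
  have e2 := clSub_ses S₂ hSE₂ hIm hB hQ
  have e3 := clSub_iso (Abelian.coimageIsoImage f) hCo
  change KZero.clSub (PC X) A =
    KZero.clSub (PC X) (kernel f) + KZero.clSub (PC X) (Abelian.coimage f) at e1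
  change KZero.clSub (PC X) B =
    KZero.clSub (PC X) (Abelian.image f) + KZero.clSub (PC X) (cokernel f) at e2
  rw [e1, e2, e3]
  abel

theorem biprod_facts {A B : X.Modules} (hA : Coh.IsCoh A) (hB : Coh.IsCoh B) :
    Coh.IsCoh (A ⊞ B) ∧ CohB1.support (A ⊞ B) = CohB1.support A ∪ CohB1.support B ∧
      KZero.clSub (PC X) (A ⊞ B) = KZero.clSub (PC X) A + KZero.clSub (PC X) B := by
  have hS := (ShortComplex.Splitting.ofHasBinaryBiproduct A B).shortExact
  have hc : Coh.IsCoh (A ⊞ B) := isCoh_mid hS hA hB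
  exact ⟨hc, support_ses _ hS, clSub_ses _ hS hA hc hB⟩

theorem coprod_facts (F : X.Modules) (hF : Coh.IsCoh F) (r : ℕ) :
    Coh.IsCoh (∐ fun _ : Fin r => F) ∧
      CohB1.support (∐ fun _ : Fin r => F) ⊆ CohB1.support F ∧
      KZero.clSub (PC X) (∐ fun _ : Fin r => F) = r • KZero.clSub (PC X) F := by
  induction r with
  | zero =>
    have hz : IsZero (∐ fun _ : Fin 0 => F) := isZero_sigma_fin_zero F
    refine ⟨isCoh_coprod F hF 0, ?_, ?_⟩
    · rw [support_isZero hz]; exact Set.empty_subset _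
    · rw [clSub_isZero _ hz, zero_smul]
  | succ r ih =>
    obtain ⟨hc, hs, hk⟩ := ih
    obtain ⟨e⟩ := nonempty_sigmaSuccIso F r
    obtain ⟨hc', hs', hk'⟩ := biprod_facts hF hc
    refine ⟨isCoh_coprod F hF (r + 1), ?_, ?_⟩
    · rw [support_iso e, hs']; exact Set.union_subset subset_rfl hs
    · rw [clSub_iso e.symm hc', hk', hk, succ_nsmul, add_comm]

theorem support_ker_coker_off (U : X.Opens) {G A : X.Modules} (p : G ⟶ A)
    (hp : IsIso ((Scheme.Modules.restrictFunctor U.ι).map p)) :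
    (∀ x ∈ U, x ∉ CohB1.support (kernel p)) ∧ (∀ x ∈ U, x ∉ CohB1.support (cokernel p)) := by
  haveI := hp
  obtain ⟨h1, h2⟩ := isZero_map_kernel (Scheme.Modules.restrictFunctor U.ι) p
  exact ⟨fun x hx hx' => hx'
      (Groth.Agent.Lib.Helper5.RpushSupp.subsingleton_stalk_of_isZero_restrict _ U h1 x hx),
    fun x hx hx' => hx'
      (Groth.Agent.Lib.Helper5.RpushSupp.subsingleton_stalk_of_isZero_restrict _ U h2 x hx)⟩

/-- two coherent modules supported in `Z` which are isomorphic over `U` have the same class modulo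
classes of modules supported in `Z ∖ U` -/
theorem sub_mem_KS_of_iso_on (U : X.Opens) {A B : X.Modules} (hA : Coh.IsCoh A)
    (hB : Coh.IsCoh B)
    (ψ : (Scheme.Modules.restrictFunctor U.ι).obj A ≅ (Scheme.Modules.restrictFunctor U.ι).obj B)
    (Z : Set X) (hAZ : CohB1.support A ⊆ Z) (hBZ : CohB1.support B ⊆ Z) :
    KZero.clSub (PC X) A - KZero.clSub (PC X) B ∈ KS (Z \ (U : Set X)) := by
  obtain ⟨hP, hPs, -⟩ := biprod_facts hA hB
  haveI : (A ⊞ B).IsQuasicoherent := hP.1
  haveI : A.IsQuasicoherent := hA.1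
  obtain ⟨i, hi⟩ : ∃ i : (Scheme.Modules.restrictFunctor U.ι).obj A ⟶ (A ⊞ B).restrict U.ι,
      i = (Scheme.Modules.restrictFunctor U.ι).map (biprod.inl : A ⟶ A ⊞ B) +
        ψ.hom ≫ (Scheme.Modules.restrictFunctor U.ι).map (biprod.inr : B ⟶ A ⊞ B) := ⟨_, rfl⟩
  haveI : Mono i := by
    rw [hi]
    exact mono_of_mono_fac (graph_facts (Scheme.Modules.restrictFunctor U.ι) ψ.hom).1
  obtain ⟨G', i', e, hmono, hqc, he⟩ := SubSh.exists_qcoh_extension (F := A ⊞ B) U
    (fun _ _ => TopologicalSpace.NoetherianSpace.isCompact _)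
    ((Scheme.Modules.restrictFunctor U.ι).obj A) i
  subst hi
  haveI := hmono
  have hG' : Coh.IsCoh G' := FtLocal.isCoh_of_mono i' hP hqc
  obtain ⟨hI1, hI2⟩ := isIso_proj (Scheme.Modules.restrictFunctor U.ι) ψ i' e he
  obtain ⟨k1, q1⟩ := support_ker_coker_off U (i' ≫ biprod.fst) hI1
  obtain ⟨k2, q2⟩ := support_ker_coker_off U (i' ≫ biprod.snd) hI2
  have hG'Z : CohB1.support G' ⊆ Z := by
    intro x hx
    have h := support_mono i' hx
    rw [hPs] at h
    exact h.elim (fun h => hAZ h) (fun h => hBZ h)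
  have f1 := k0_four (i' ≫ biprod.fst) hG' hA
  have f2 := k0_four (i' ≫ biprod.snd) hG' hB
  have m1 : KZero.clSub (PC X) (kernel (i' ≫ (biprod.fst : A ⊞ B ⟶ A))) ∈
      KS (Z \ (U : Set X)) :=
    clSub_mem_KS _ (FtLocal.isCoh_kernel hG' hA _)
      (fun x hx => ⟨hG'Z (support_mono (kernel.ι _) hx), fun hxU => k1 x hxU hx⟩)
  have m2 : KZero.clSub (PC X) (cokernel (i' ≫ (biprod.fst : A ⊞ B ⟶ A))) ∈
      KS (Z \ (U : Set X)) :=
    clSub_mem_KS _ (FtLocal.isCoh_cokernel hG' hA _)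
      (fun x hx => ⟨hAZ (support_epi (cokernel.π _) hx), fun hxU => q1 x hxU hx⟩)
  have m3 : KZero.clSub (PC X) (kernel (i' ≫ (biprod.snd : A ⊞ B ⟶ B))) ∈
      KS (Z \ (U : Set X)) :=
    clSub_mem_KS _ (FtLocal.isCoh_kernel hG' hB _)
      (fun x hx => ⟨hG'Z (support_mono (kernel.ι _) hx), fun hxU => k2 x hxU hx⟩)
  have m4 : KZero.clSub (PC X) (cokernel (i' ≫ (biprod.snd : A ⊞ B ⟶ B))) ∈
      KS (Z \ (U : Set X)) :=
    clSub_mem_KS _ (FtLocal.isCoh_cokernel hG' hB _)
      (fun x hx => ⟨hBZ (support_epi (cokernel.π _) hx), fun hxU => q2 x hxU hx⟩)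
  have hA' : KZero.clSub (PC X) A = KZero.clSub (PC X) G' +
      KZero.clSub (PC X) (cokernel (i' ≫ (biprod.fst : A ⊞ B ⟶ A))) -
      KZero.clSub (PC X) (kernel (i' ≫ (biprod.fst : A ⊞ B ⟶ A))) := by
    rw [f1]; abel
  have hB' : KZero.clSub (PC X) B = KZero.clSub (PC X) G' +
      KZero.clSub (PC X) (cokernel (i' ≫ (biprod.snd : A ⊞ B ⟶ B))) -
      KZero.clSub (PC X) (kernel (i' ≫ (biprod.snd : A ⊞ B ⟶ B))) := by
    rw [f2]; abel
  have hAB : KZero.clSub (PC X) A - KZero.clSub (PC X) B =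
      (KZero.clSub (PC X) (cokernel (i' ≫ (biprod.fst : A ⊞ B ⟶ A))) -
        KZero.clSub (PC X) (kernel (i' ≫ (biprod.fst : A ⊞ B ⟶ A)))) -
      (KZero.clSub (PC X) (cokernel (i' ≫ (biprod.snd : A ⊞ B ⟶ B))) -
        KZero.clSub (PC X) (kernel (i' ≫ (biprod.snd : A ⊞ B ⟶ B)))) := by
    rw [hA', hB']; abel
  rw [hAB]
  exact (KS _).sub_mem ((KS _).sub_mem m2 m1) ((KS _).sub_mem m4 m3)

/-- the key step: over an open `U` trivialising `V`, `[V ⊗ F] - r [F]` is supported off `U` -/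
theorem tensor_sub_mem (V : X.Modules) (r : ℕ) (hVc : Coh.IsCoh V) (U : X.Opens)
    (φ : V.restrict U.ι ≅ FlatMod.freeMod (↑U) r)
    (F : X.Modules) (hF : Coh.IsCoh F) (hT : Coh.IsCoh ((DCoh.tensorBi.obj V).obj F))
    (Z : Set X) (hFZ : CohB1.support F ⊆ Z) :
    KZero.clSub (PC X) ((DCoh.tensorBi.obj V).obj F) - r • KZero.clSub (PC X) F ∈
      KS (Z \ (U : Set X)) := by
  obtain ⟨hc, hs, hk⟩ := coprod_facts F hF r
  rw [← hk]
  haveI : V.IsQuasicoherent := hVc.1
  haveI : F.IsQuasicoherent := hF.1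
  have hsT : CohB1.support ((DCoh.tensorBi.obj V).obj F) ⊆ CohB1.support F := by
    have h := TilT.support_tensorMod V F hVc.2 hF.2
    intro x hx
    have hx' : x ∈ CohB1.support (CohB1.tensorMod V F) := hx
    rw [h] at hx'
    exact hx'.2
  refine sub_mem_KS_of_iso_on U hT hc ?_ Z (hsT.trans hFZ) (hs.trans hFZ)
  have i1 := Groth.Agent.Lib.Helper5.RestrTen.restrictTensorIso U.ι V F
  have c : (DCoh.tensorBi.obj ((Scheme.Modules.restrictFunctor U.ι).obj V)).obj
        ((Scheme.Modules.restrictFunctor U.ι).obj F) ≅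
      (DCoh.tensorBi.obj ((Scheme.Modules.restrictFunctor U.ι).obj F)).obj
        ((Scheme.Modules.restrictFunctor U.ι).obj V) :=
    TildeTens.tensorModComm _ _
  have i2 := ((DCoh.tensorBi (X := (U : Scheme.{u}))).obj
    ((Scheme.Modules.restrictFunctor U.ι).obj F)).mapIso φ
  have e1 := PreservesCoproduct.iso ((DCoh.tensorBi (X := (U : Scheme.{u}))).obj
    ((Scheme.Modules.restrictFunctor U.ι).obj F))
    (fun _ : Fin r => Coh.structureModule (U : Scheme.{u}))
  have e2 : (∐ fun _ : Fin r => (DCoh.tensorBi.obj ((Scheme.Modules.restrictFunctor U.ι).obj F)).obj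
        (Coh.structureModule (U : Scheme.{u}))) ≅
      ∐ fun _ : Fin r => (Scheme.Modules.restrictFunctor U.ι).obj F :=
    Sigma.mapIso (fun _ => Groth.Agent.Lib.Helper5.LTenFlf.tensorUnitIso
      ((Scheme.Modules.restrictFunctor U.ι).obj F))
  have e3 := PreservesCoproduct.iso (Scheme.Modules.restrictFunctor U.ι) (fun _ : Fin r => F)
  exact i1 ≪≫ c ≪≫ i2 ≪≫ e1 ≪≫ e2 ≪≫ e3.symm

end K0

section Main

variable {W : Scheme.{u}} [IsNoetherian W]

theorem mapSub_clSub (Fn : W.Modules ⥤ W.Modules) [Fn.Additive] [PreservesFiniteLimits Fn]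
    [PreservesFiniteColimits Fn]
    (h : ∀ M : W.Modules, Coh.IsCoh M → Coh.IsCoh (Fn.obj M)) (M : W.Modules)
    (hM : Coh.IsCoh M) :
    SGA6.mapSub Fn (fun M : W.Modules => Coh.IsCoh M) (fun M : W.Modules => Coh.IsCoh M) h
      (KZero.clSub (PC W) M) = KZero.clSub (PC W) (Fn.obj M) := by
  rw [clSub_of M hM, clSub_of _ (h M hM)]
  simp [SGA6.mapSub, SGA6.objMap]

theorem main (r : ℕ) (V : W.Modules) (hV : FlatMod.IsFinLocFreeOfRank r V)
    (T : KZero.K0sub (PC W) →+ KZero.K0sub (PC W))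
    (hT : ∀ (M : W.Modules) (hM : Coh.IsCoh M), Coh.IsCoh ((DCoh.tensorBi.obj V).obj M) ∧
      T (KZero.clSub (PC W) M) = KZero.clSub (PC W) ((DCoh.tensorBi.obj V).obj M)) :
    ∃ n : ℕ, ∀ y : KZero.K0sub (PC W),
      (⇑(T - r • AddMonoidHom.id (KZero.K0sub (PC W))))^[n] y = 0 := by
  classical
  have hVc : Coh.IsCoh V :=
    Groth.Agent.Lib.Helper5.LocalCoh.isCoh_of_isFinLocFree V (isFinLocFree_of_rank hV)
  choose U hxU hφ using hV
  have step : ∀ (x : W) (Z : Set W) (y : KZero.K0sub (PC W)), y ∈ KS Z →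
      (T - r • AddMonoidHom.id (KZero.K0sub (PC W))) y ∈ KS (Z \ (U x : Set W)) := by
    intro x Z y hy
    obtain ⟨φ⟩ := hφ x
    unfold KS at hy
    induction hy using AddSubgroup.closure_induction with
    | mem c hc =>
      obtain ⟨G, hG, hGZ, rfl⟩ := hc
      have h := hT G hG
      change T (KZero.clSub (PC W) G) - r • KZero.clSub (PC W) G ∈ _
      rw [h.2]
      exact tensor_sub_mem V r hVc (U x) φ G hG h.1 Z hGZ
    | zero => rw [map_zero]; exact (KS _).zero_mem
    | add a b _ _ iha ihb => rw [map_add]; exact (KS _).add_mem iha ihb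
    | neg a _ iha => rw [map_neg]; exact (KS _).neg_mem iha
  have iter : ∀ (l : List W) (Z : Set W) (y : KZero.K0sub (PC W)), y ∈ KS Z →
      (⇑(T - r • AddMonoidHom.id (KZero.K0sub (PC W))))^[l.length] y ∈
        KS {z | z ∈ Z ∧ ∀ x ∈ l, z ∉ U x} := by
    intro l
    induction l with
    | nil =>
      intro Z y hy
      have hsub : Z ⊆ {z | z ∈ Z ∧ ∀ x ∈ ([] : List W), z ∉ U x} :=
        fun z hz => ⟨hz, fun x hx => absurd hx List.not_mem_nil⟩
      exact KS_mono hsub hy
    | cons a l ih =>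
      intro Z y hy
      rw [List.length_cons, Function.iterate_succ_apply]
      refine KS_mono ?_ (ih (Z \ (U a : Set W)) _ (step a Z y hy))
      rintro z ⟨⟨hzZ, hza⟩, hzl⟩
      refine ⟨hzZ, fun x hx => ?_⟩
      rcases List.mem_cons.1 hx with rfl | hx'
      · exact hza
      · exact hzl x hx'
  obtain ⟨t, ht⟩ := isCompact_univ.elim_finite_subcover
    (fun x : W => ((U x : W.Opens) : Set W)) (fun x => (U x).isOpen)
    (fun z _ => Set.mem_iUnion.2 ⟨z, hxU z⟩)
  refine ⟨t.toList.length, fun y => ?_⟩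
  have h1 := iter t.toList Set.univ y (mem_KS_univ y)
  refine eq_zero_of_mem_KS _ ?_ h1
  rintro z ⟨-, hz⟩
  have hz' := ht (Set.mem_univ z)
  simp only [Set.mem_iUnion] at hz'
  obtain ⟨x, hxt, hzx⟩ := hz'
  exact hz x (Finset.mem_toList.2 hxt) hzx

end Main

end Groth.Agent.Helper1.K0Nil
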