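import Mathlib
import Groth.Prelude.Def_KRR
import Groth.Agent.Lib.Helper5.Stalk.PullAcyc
import Groth.Agent.Lib.Helper5.Stalk.FlatPull
import Groth.Agent.Lib.Helper5.Perf.StalkFree
import Groth.Agent.Lib.Helper5.Perf.Pull

/-!
# The pull-back `f^K` on `K₀` of finite locally free modules (helper1)

The pullback of a short exact sequence of modules with finite locally free cokernel is short
exact (stalkwise: the cokernel has free stalks), so `[E] ↦ [f^*E]` descends to `K₀`.
-/

set_option autoImplicit false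
set_option linter.unusedSectionVars false
set_option linter.unusedVariables false
set_option linter.style.haveILetI false
universe v' u' v w u
open CategoryTheory CategoryTheory.Limits AlgebraicGeometry
open Groth.Agent.Lib.Helper5.StalkAdj

namespace Groth.Agent.Helper1.KPull

section K0
variable {A : Type u'} [Category.{v'} A] [Abelian A] (P : ObjectProperty A)

theorem clSub_of (M : A) (h : P M) :
    KZero.clSub P M = QuotientAddGroup.mk (FreeAbelianGroup.of ⟨M, h⟩) := by
  unfold KZero.clSub
  rw [dif_pos h]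

theorem clSub_ses (S : ShortComplex A) (hS : S.ShortExact) (h₁ : P S.X₁) (h₂ : P S.X₂)
    (h₃ : P S.X₃) : KZero.clSub P S.X₂ = KZero.clSub P S.X₁ + KZero.clSub P S.X₃ := by
  unfold KZero.clSub
  rw [dif_pos h₁, dif_pos h₂, dif_pos h₃]
  rw [← QuotientAddGroup.mk_add, QuotientAddGroup.eq]
  have hmem : FreeAbelianGroup.of (⟨S.X₂, h₂⟩ : Subtype P) - FreeAbelianGroup.of ⟨S.X₁, h₁⟩ -
      FreeAbelianGroup.of ⟨S.X₃, h₃⟩ ∈ KZero.relSub P :=
    AddSubgroup.subset_closure ⟨S, h₁, h₂, h₃, hS, rfl⟩
  have h2 := (KZero.relSub P).neg_mem hmem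
  convert h2 using 1
  abel

theorem k0_hom_ext {G : Type*} [AddCommGroup G] (a b : KZero.K0sub P →+ G)
    (h : ∀ M : A, P M → a (KZero.clSub P M) = b (KZero.clSub P M)) : a = b := by
  apply QuotientAddGroup.addMonoidHom_ext
  apply FreeAbelianGroup.lift_ext
  rintro ⟨M, hM⟩
  have := h M hM
  rw [clSub_of P M hM] at this
  exact this

noncomputable def k0Lift {G : Type*} [AddCommGroup G] (φ : A → G)
    (hφ : ∀ S : ShortComplex A, S.ShortExact → P S.X₁ → P S.X₂ → P S.X₃ →
      φ S.X₂ = φ S.X₁ + φ S.X₃) :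
    KZero.K0sub P →+ G :=
  QuotientAddGroup.lift (KZero.relSub P)
    (FreeAbelianGroup.lift (fun M : Subtype P => φ M.1)) (by
      unfold KZero.relSub
      rw [AddSubgroup.closure_le]
      rintro _ ⟨S, h1, h2, h3, hS, rfl⟩
      change FreeAbelianGroup.lift (fun M : Subtype P => φ M.1) _ = 0
      rw [map_sub, map_sub, FreeAbelianGroup.lift_apply_of, FreeAbelianGroup.lift_apply_of,
        FreeAbelianGroup.lift_apply_of, hφ S hS h1 h2 h3]
      abel)

theorem k0Lift_clSub {G : Type*} [AddCommGroup G] (φ : A → G)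
    (hφ : ∀ S : ShortComplex A, S.ShortExact → P S.X₁ → P S.X₂ → P S.X₃ →
      φ S.X₂ = φ S.X₁ + φ S.X₃) (M : A) (hM : P M) :
    k0Lift P φ hφ (KZero.clSub P M) = φ M := by
  rw [clSub_of P M hM]
  unfold k0Lift
  rw [QuotientAddGroup.lift_mk, FreeAbelianGroup.lift_apply_of]

end K0

variable {X Y : Scheme.{u}} (f : X ⟶ Y)

/-- the pullback of the first map of a short exact sequence with finite locally free cokernel
is a monomorphism -/
theorem mono_pullback_of_flf (S : ShortComplex Y.Modules) (hS : S.ShortExact)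
    (h3 : FlatMod.IsFinLocFree S.X₃) : Mono ((Scheme.Modules.pullback f).map S.f) := by
  apply mono_of_stalks
  intro x
  have hnat : (stalkSh X x).map ((Scheme.Modules.pullback f).map S.f) ≫
      (stalkPullbackIso f x).hom.app S.X₂ = (stalkPullbackIso f x).hom.app S.X₁ ≫
        (ModuleCat.extendScalars.{u, u, u} (f.stalkMap x).hom).map ((stalkSh Y (f x)).map S.f) :=
    (stalkPullbackIso f x).hom.naturality S.f
  have hT := hS.map_of_exact (stalkSh Y (f x))
  obtain ⟨h1, h2⟩ :=
    Groth.Agent.Lib.Helper5.StalkFree.free_finite_stalk_of_isFinLocFree S.X₃ h3 (f x)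
  haveI := h1
  have hfl : Module.Flat (Y.presheaf.stalk (f x)) ((S.map (stalkSh Y (f x))).X₃) :=
    (inferInstance : Module.Flat (Y.presheaf.stalk (f x)) ((stalkSh Y (f x)).obj S.X₃))
  have hm2 : Mono ((ModuleCat.extendScalars.{u, u, u} (f.stalkMap x).hom).map
      ((stalkSh Y (f x)).map S.f)) :=
    mono_extendScalars_of_shortExact (f.stalkMap x).hom (S.map (stalkSh Y (f x))) hT hfl
  have hm3 : Mono ((stalkPullbackIso f x).hom.app S.X₁ ≫
      (ModuleCat.extendScalars.{u, u, u} (f.stalkMap x).hom).map ((stalkSh Y (f x)).map S.f)) :=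
    @mono_comp _ _ _ _ _ _ (IsIso.mono_of_iso _) _ hm2
  rw [← hnat] at hm3
  exact @mono_of_mono _ _ _ _ _ _ _ hm3

/-- the pullback of a short exact sequence with finite locally free cokernel is short exact -/
theorem shortExact_pullback (S : ShortComplex Y.Modules) (hS : S.ShortExact)
    (h3 : FlatMod.IsFinLocFree S.X₃) : (S.map (Scheme.Modules.pullback f)).ShortExact := by
  haveI := hS.epi_g
  haveI := hS.mono_f
  haveI hm : Mono ((Scheme.Modules.pullback f).map S.f) := mono_pullback_of_flf f S hS h3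
  haveI hpres : PreservesFiniteColimits (Scheme.Modules.pullback f) := inferInstance
  haveI he : Epi ((Scheme.Modules.pullback f).map S.g) := inferInstance
  have hex : (S.map (Scheme.Modules.pullback f)).Exact :=
    hS.exact.map_of_epi_of_preservesCokernel (Scheme.Modules.pullback f) inferInstance
      inferInstance
  exact { exact := hex, mono_f := hm, epi_g := he }

/-- the pull-back `f^K : K(Y) → K(X)` on `K₀` of finite locally free modules -/
noncomputable def pullK : SGA6.Kvb Y →+ SGA6.Kvb X :=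
  k0Lift (fun M : Y.Modules => FlatMod.IsFinLocFree M)
    (fun M => KRR.cl X ((Scheme.Modules.pullback f).obj M))
    (fun S hS h1 h2 h3 => by
      have hS' := shortExact_pullback f S hS h3
      exact clSub_ses (fun M : X.Modules => FlatMod.IsFinLocFree M) _ hS'
        (Groth.Agent.Lib.Helper5.PerfPull.isFinLocFree_pullback f _ h1)
        (Groth.Agent.Lib.Helper5.PerfPull.isFinLocFree_pullback f _ h2)
        (Groth.Agent.Lib.Helper5.PerfPull.isFinLocFree_pullback f _ h3))

theorem pullK_cl (E : Y.Modules) (hE : FlatMod.IsFinLocFree E) :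
    pullK f (KRR.cl Y E) = KRR.cl X ((Scheme.Modules.pullback f).obj E) := by
  unfold pullK
  exact k0Lift_clSub (fun M : Y.Modules => FlatMod.IsFinLocFree M) _ _ E hE

section Main
variable {KX : Type v} {KY : Type w} [AddCommGroup KX] [AddCommGroup KY]
  (φX : SGA6.Kvb X →+ KX) (φY : SGA6.Kvb Y →+ KY) (hY : Function.Bijective φY)

noncomputable def gK : KY →+ KX :=
  (φX.comp (pullK f)).comp (AddEquiv.ofBijective φY hY).symm.toAddMonoidHom

theorem gK_spec (E : Y.Modules) (hE : FlatMod.IsFinLocFree E) :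
    gK f φX φY hY (φY (KRR.cl Y E)) = φX (KRR.cl X ((Scheme.Modules.pullback f).obj E)) := by
  change φX (pullK f ((AddEquiv.ofBijective φY hY).symm (φY (KRR.cl Y E)))) = _
  have h1 : (AddEquiv.ofBijective φY hY).symm (φY (KRR.cl Y E)) = KRR.cl Y E :=
    (AddEquiv.ofBijective φY hY).symm_apply_apply (KRR.cl Y E)
  rw [h1, pullK_cl f E hE]

include hY in
theorem main : ∃! g : KY →+ KX, ∀ E : Y.Modules, FlatMod.IsFinLocFree E →
    g (φY (KRR.cl Y E)) = φX (KRR.cl X ((Scheme.Modules.pullback f).obj E)) := by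
  refine ⟨gK f φX φY hY, gK_spec f φX φY hY, ?_⟩
  intro g hg
  have h2 : g.comp φY = (gK f φX φY hY).comp φY := by
    apply k0_hom_ext (fun M : Y.Modules => FlatMod.IsFinLocFree M)
    intro E hE
    change g (φY (KRR.cl Y E)) = gK f φX φY hY (φY (KRR.cl Y E))
    rw [hg E hE, gK_spec f φX φY hY E hE]
  ext y
  obtain ⟨a, rfl⟩ := hY.2 y
  exact DFunLike.congr_fun h2 a

end Main

end Groth.Agent.Helper1.KPull
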