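import Mathlib
import Groth.Agent.Lib.Helper1.SubExt9

set_option autoImplicit false
universe u v
open CategoryTheory CategoryTheory.Limits AlgebraicGeometry TopologicalSpace Opposite

namespace Groth.Agent.Helper1.SubSh

open Groth.Agent.Helper1.QcCech Groth.Agent.Helper1

variable {X : Scheme.{u}}

theorem quasiCompact_ι_of (U : X.Opens)
    (h : ∀ A : Set X, IsOpen A → IsCompact A → IsCompact ((U : Set X) ∩ A)) :
    QuasiCompact U.ι := by
  constructor
  intro A hA hAc
  rw [U.ι.isOpenEmbedding.isEmbedding.isCompact_iff, Set.image_preimage_eq_inter_range,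
    Scheme.Opens.range_ι, Set.inter_comm]
  exact h A hA hAc

/-- from the categorical extension theorem for subsheaves to the extension of modules -/
theorem exists_extension_module_of (U : X.Opens) [QuasiCompact U.ι]
    (hext : ∀ (F : X.Modules) [F.IsQuasicoherent] (G : (U : Scheme.{u}).Modules)
      (i : G ⟶ F.restrict U.ι) [Mono i] [G.IsQuasicoherent]
      (_ : SheafOfModules.IsFiniteType.{u, u, u} G),
      ∃ (G' : X.Modules) (i' : G' ⟶ F) (e : G'.restrict U.ι ≅ G), Mono i' ∧ G'.IsQuasicoherent ∧
        SheafOfModules.IsFiniteType.{u, u, u} G' ∧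
        e.hom ≫ i = (Scheme.Modules.restrictFunctor U.ι).map i')
    (G : (U : Scheme.{u}).Modules) [G.IsQuasicoherent]
    (hG : SheafOfModules.IsFiniteType.{u, u, u} G) :
    ∃ G' : X.Modules, G'.IsQuasicoherent ∧ SheafOfModules.IsFiniteType.{u, u, u} G' ∧
      Nonempty (G'.restrict U.ι ≅ G) := by
  have hq : ((Scheme.Modules.pushforward U.ι).obj G).IsQuasicoherent :=
    PushQc.isQuasicoherent_pushforward U.ι G
  let i : G ⟶ ((Scheme.Modules.pushforward U.ι).obj G).restrict U.ι :=
    ((Scheme.Modules.restrictFunctorAdjCounitIso U.ι).app G).inv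
  have : IsIso i := by dsimp only [i]; infer_instance
  obtain ⟨G', i', e, -, h1, h2, -⟩ := hext ((Scheme.Modules.pushforward U.ι).obj G) G i hG
  exact ⟨G', h1, h2, ⟨e⟩⟩

end Groth.Agent.Helper1.SubSh
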