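import Mathlib
import Groth.Prelude
import Groth.Agent.Lib.Helper1.K0Nil1
import Groth.Agent.Lib.Helper1.KPull1
import Groth.Agent.Lib.Helper1.SubExt10
import Groth.Agent.Lib.Helper1.CohRestr
import Groth.Agent.Lib.Helper1.Dv20

/-!
# The localization sequence `K₀(Coh X') → K₀(Coh X) → K₀(Coh U) → 0` (helper1)

`X` Noetherian, `i : X' → X` a closed immersion and `j : U → X` the open immersion of the
complement.  Surjectivity of `j^*` is the extension of coherent modules; for the exactness in the
middle we build `θ : K₀(Coh U) → K₀(Coh X) / KS(X ∖ U)` sending `[G]` to the class of any coherent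
extension of `G` (well defined by `K0Nil.sub_mem_KS_of_iso_on`, additive by the extension of
subsheaves), and identify `KS(X ∖ U)` with the image of `i_*` by dévissage.
-/

set_option autoImplicit false
set_option backward.isDefEq.respectTransparency.types false
set_option synthInstance.maxHeartbeats 400000
set_option linter.style.haveILetI false
set_option linter.unusedSectionVars false
set_option linter.unusedVariables false
universe v' u' v'' u'' u
open CategoryTheory CategoryTheory.Limits AlgebraicGeometry TopologicalSpace Opposite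

namespace Groth.Agent.Helper1.K0Loc

open Groth.Agent.Lead Groth.Agent.Helper1.Dv Groth.Agent.Helper1

section Generic

variable {A : Type u'} [Category.{v'} A] [Abelian A] {B : Type u''} [Category.{v''} B] [Abelian B]

theorem mapSub_cl (F : A ⥤ B) [F.Additive] [PreservesFiniteLimits F] [PreservesFiniteColimits F]
    (P : ObjectProperty A) (Q : ObjectProperty B) (h : ∀ X, P X → Q (F.obj X)) (M : A)
    (hM : P M) :
    SGA6.mapSub F P Q h (KZero.clSub P M) = KZero.clSub Q (F.obj M) := by
  rw [KPull.clSub_of P M hM, KPull.clSub_of Q _ (h M hM)]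
  simp [SGA6.mapSub, SGA6.objMap]

end Generic

variable {X X' : Scheme.{u}}

/-- the restriction to the complement of a module pushed forward from a closed subscheme is zero -/
theorem isZero_restrict_push (i : X' ⟶ X) [IsClosedImmersion i] (V : X.Opens)
    (hV : (V : Set X) = (Set.range i)ᶜ) (M : X'.Modules) :
    IsZero ((Scheme.Modules.restrictFunctor V.ι).obj ((Scheme.Modules.pushforward i).obj M)) := by
  apply Groth.Agent.Lib.Helper5.RpushSupp.isZero_restrict_of_stalks
  intro x hx
  by_contra hns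
  have h2 : x ∈ Set.range i := support_pushforward_subset i M hns
  have h3 : x ∈ (V : Set X) := hx
  rw [hV] at h3
  exact h3 h2

section Range

variable [IsNoetherian X] (i : X' ⟶ X) [IsClosedImmersion i]
  [(Scheme.Modules.pushforward i).Additive] [PreservesFiniteLimits (Scheme.Modules.pushforward i)]
  [PreservesFiniteColimits (Scheme.Modules.pushforward i)]
  (hi : ∀ M : X'.Modules, Coh.IsCoh M → Coh.IsCoh ((Scheme.Modules.pushforward i).obj M))

include hi in
/-- the structure sheaf of an integral closed subscheme contained in `i(X')` comes from `X'` -/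
theorem cl_closure_mem_range (ξ : X) (hξ : closure ({ξ} : Set X) ⊆ Set.range i) :
    KZero.clSub (PC X) (Cyc.closureStructureSheaf ξ) ∈
      (SGA6.mapSub (Scheme.Modules.pushforward i) (fun M : X'.Modules => Coh.IsCoh M)
        (fun M : X.Modules => Coh.IsCoh M) hi).range := by
  have hker : i.ker ≤ (IntMult.ptIdeal ξ).subschemeι.ker := by
    rw [Scheme.IdealSheafData.ker_subschemeι]
    unfold IntMult.ptIdeal
    rw [← Scheme.IdealSheafData.le_support_iff_le_vanishingIdeal, ← SetLike.coe_subset_coe,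
      Scheme.Hom.support_ker]
    exact fun x hx => subset_closure (hξ hx)
  obtain ⟨g, hfac⟩ : ∃ g : (IntMult.ptIdeal ξ).subscheme ⟶ X',
      g ≫ i = (IntMult.ptIdeal ξ).subschemeι :=
    ⟨IsClosedImmersion.lift i _ hker, IsClosedImmersion.lift_fac i _ hker⟩
  haveI : IsClosedImmersion (g ≫ i) := by rw [hfac]; infer_instance
  haveI : IsClosedImmersion g := IsClosedImmersion.of_comp_isClosedImmersion g i
  have hH : Coh.IsCoh ((Scheme.Modules.pushforward g).obj (Coh.structureModule _)) :=
    FinPush.isCoh_pushforward g _ (isCoh_structureModule _)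
  have e : (Scheme.Modules.pushforward i).obj
      ((Scheme.Modules.pushforward g).obj (Coh.structureModule _)) ≅
      Cyc.closureStructureSheaf ξ :=
    (Scheme.Modules.pushforwardComp g i).app (Coh.structureModule _) ≪≫
      (Scheme.Modules.pushforwardCongr hfac).app (Coh.structureModule _)
  refine ⟨KZero.clSub (PC X') ((Scheme.Modules.pushforward g).obj (Coh.structureModule _)), ?_⟩
  rw [mapSub_cl (Scheme.Modules.pushforward i) (fun M : X'.Modules => Coh.IsCoh M)
    (fun M : X.Modules => Coh.IsCoh M) hi _ hH]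
  exact (clSub_iso e (hi _ hH)).symm

include hi in
/-- classes of coherent modules supported in `i(X')` come from `X'` (dévissage) -/
theorem KS_le_range :
    K0Nil.KS (Set.range i) ≤
      (SGA6.mapSub (Scheme.Modules.pushforward i) (fun M : X'.Modules => Coh.IsCoh M)
        (fun M : X.Modules => Coh.IsCoh M) hi).range := by
  obtain ⟨H, hH⟩ : ∃ H : AddSubgroup (KZero.K0sub (PC X)),
      H = (SGA6.mapSub (Scheme.Modules.pushforward i) (fun M : X'.Modules => Coh.IsCoh M)
        (fun M : X.Modules => Coh.IsCoh M) hi).range := ⟨_, rfl⟩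
  rw [← hH]
  unfold K0Nil.KS
  rw [AddSubgroup.closure_le]
  rintro c ⟨G, hG, hGs, rfl⟩
  refine dev_simple (fun M => KZero.clSub (PC X) M ∈ H) ?_ ?_ (Set.range i) ?_ ?_ G hG hGs
  · intro M N e hK
    by_cases hM : Coh.IsCoh M
    · rw [clSub_iso e hM]
      exact hK
    · have hN : ¬ Coh.IsCoh N := fun hN => hM (isCoh_of_iso e.symm hN)
      have : KZero.clSub (PC X) N = 0 := dif_neg hN
      rw [this]
      exact H.zero_mem
  · intro M hM
    change KZero.clSub (PC X) M ∈ H
    rw [clSub_isZero M hM]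
    exact H.zero_mem
  · intro S hS h1 h2 h3 _
    have h := clSub_ses S hS h1 h2 h3
    refine ⟨fun k2 k3 => ?_, fun k1 k3 => ?_⟩
    · change KZero.clSub (PC X) S.X₁ ∈ H
      have : KZero.clSub (PC X) S.X₁ = KZero.clSub (PC X) S.X₂ - KZero.clSub (PC X) S.X₃ := by
        rw [h, add_sub_cancel_right]
      rw [this]
      exact H.sub_mem k2 k3
    · change KZero.clSub (PC X) S.X₂ ∈ H
      rw [h]
      exact H.add_mem k1 k3
  · intro Z hZ hirr hZX' ξ hξ _
    refine ⟨Cyc.closureStructureSheaf ξ, isCoh_closureStructureSheaf ξ, ?_, ?_,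
      isSimpleModule_stalk_closureStructureSheaf ξ⟩
    · change KZero.clSub (PC X) (Cyc.closureStructureSheaf ξ) ∈ H
      rw [hH]
      exact cl_closure_mem_range i hi ξ (hξ ▸ hZX')
    · rw [← hξ]
      exact support_closureStructureSheaf ξ

end Range

section Opens

variable [IsNoetherian X] (V : X.Opens)

/-- coherent modules on an open subscheme extend -/
theorem exists_coh_extension (G : (V : Scheme.{u}).Modules) (hG : Coh.IsCoh G) :
    ∃ A : X.Modules, Coh.IsCoh A ∧
      Nonempty ((Scheme.Modules.restrictFunctor V.ι).obj A ≅ G) := by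
  haveI : G.IsQuasicoherent := hG.1
  have hX : ∀ x : X, ∃ U : X.Opens, x ∈ U ∧ NoetherianSpace (U : Set X) :=
    fun x => ⟨⊤, trivial, inferInstance⟩
  obtain ⟨A, h1, h2, ⟨e⟩⟩ := SubSh.exists_extension_module_of V
    (fun F hF G i hi hG hft => by
      haveI := hF
      haveI := hi
      haveI := hG
      exact SubSh.exists_extension_cat_noeth hX V G i hft) G hG.2
  exact ⟨A, ⟨h1, h2⟩, ⟨e⟩⟩

/-- two coherent modules with isomorphic restrictions to `V` agree modulo classes supported off
`V` -/
theorem cl_sub_mem_of_restrict_iso {A B : X.Modules} (hA : Coh.IsCoh A) (hB : Coh.IsCoh B)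
    (ψ : (Scheme.Modules.restrictFunctor V.ι).obj A ≅
      (Scheme.Modules.restrictFunctor V.ι).obj B) :
    KZero.clSub (PC X) A - KZero.clSub (PC X) B ∈ K0Nil.KS ((V : Set X)ᶜ) := by
  have h := K0Nil.sub_mem_KS_of_iso_on V hA hB ψ Set.univ (Set.subset_univ _) (Set.subset_univ _)
  rwa [← Set.compl_eq_univ_sdiff] at h

open Classical in
/-- the class of a coherent extension, modulo classes supported off `V` -/
noncomputable def phi (G : (V : Scheme.{u}).Modules) :
    KZero.K0sub (PC X) ⧸ K0Nil.KS ((V : Set X)ᶜ) :=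
  if h : Coh.IsCoh G then
    QuotientAddGroup.mk (KZero.clSub (PC X) (exists_coh_extension V G h).choose)
  else 0

theorem phi_eq (G : (V : Scheme.{u}).Modules) (hG : Coh.IsCoh G) (A : X.Modules)
    (hA : Coh.IsCoh A) (e : (Scheme.Modules.restrictFunctor V.ι).obj A ≅ G) :
    phi V G = QuotientAddGroup.mk (KZero.clSub (PC X) A) := by
  unfold phi
  rw [dif_pos hG]
  obtain ⟨hB, ⟨eB⟩⟩ := (exists_coh_extension V G hG).choose_spec
  rw [QuotientAddGroup.eq, neg_add_eq_sub]
  exact cl_sub_mem_of_restrict_iso V hA hB (e ≪≫ eB.symm)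

theorem phi_add (S : ShortComplex (V : Scheme.{u}).Modules) (hS : S.ShortExact)
    (h1 : Coh.IsCoh S.X₁) (h2 : Coh.IsCoh S.X₂) (h3 : Coh.IsCoh S.X₃) :
    phi V S.X₂ = phi V S.X₁ + phi V S.X₃ := by
  obtain ⟨A₂, hA₂, ⟨a⟩⟩ := exists_coh_extension V S.X₂ h2
  haveI : A₂.IsQuasicoherent := hA₂.1
  haveI := hS.mono_f
  haveI := hS.epi_g
  haveI : S.X₁.IsQuasicoherent := h1.1
  obtain ⟨i₁, hi₁⟩ : ∃ i₁ : S.X₁ ⟶ A₂.restrict V.ι, i₁ = S.f ≫ a.inv := ⟨_, rfl⟩
  haveI : Mono i₁ := by rw [hi₁]; infer_instance
  obtain ⟨A₁, i', e, hmono, hqc, he⟩ := SubSh.exists_qcoh_extension (F := A₂) V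
    (fun _ _ => TopologicalSpace.NoetherianSpace.isCompact _) S.X₁ i₁
  haveI := hmono
  have hA₁ : Coh.IsCoh A₁ := FtLocal.isCoh_of_mono i' hA₂ hqc
  have hA₃ : Coh.IsCoh (cokernel i') := FtLocal.isCoh_cokernel hA₁ hA₂ i'
  have hSE : (ShortComplex.mk i' (cokernel.π i') (cokernel.condition i')).ShortExact := by
    haveI : Mono (ShortComplex.mk i' (cokernel.π i') (cokernel.condition i')).f :=
      inferInstanceAs (Mono i')
    haveI : Epi (ShortComplex.mk i' (cokernel.π i') (cokernel.condition i')).g :=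
      inferInstanceAs (Epi (cokernel.π i'))
    exact { exact := ShortComplex.exact_cokernel i' }
  have hcl := clSub_ses _ hSE hA₁ hA₂ hA₃
  have e₃ : (Scheme.Modules.restrictFunctor V.ι).obj (cokernel i') ≅ S.X₃ := by
    have c1 : (Scheme.Modules.restrictFunctor V.ι).obj (cokernel i') ≅
        cokernel ((Scheme.Modules.restrictFunctor V.ι).map i') :=
      PreservesCokernel.iso (Scheme.Modules.restrictFunctor V.ι) i'
    have w : (Scheme.Modules.restrictFunctor V.ι).map i' ≫ a.hom = e.hom ≫ S.f := by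
      rw [← he, hi₁]
      simp only [Category.assoc, Iso.inv_hom_id, Category.comp_id]
    have c2 : cokernel ((Scheme.Modules.restrictFunctor V.ι).map i') ≅ cokernel S.f :=
      cokernel.mapIso ((Scheme.Modules.restrictFunctor V.ι).map i') S.f e a w
    have c3 : cokernel S.f ≅ S.X₃ :=
      IsColimit.coconePointUniqueUpToIso (cokernelIsCokernel S.f) hS.exact.gIsCokernel
    exact c1 ≪≫ c2 ≪≫ c3
  rw [phi_eq V S.X₂ h2 A₂ hA₂ a, phi_eq V S.X₁ h1 A₁ hA₁ e,
    phi_eq V S.X₃ h3 (cokernel i') hA₃ e₃, ← QuotientAddGroup.mk_add]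
  exact congrArg _ hcl

/-- `θ : K₀(Coh V) → K₀(Coh X) / KS(X ∖ V)` -/
noncomputable def theta :
    KZero.K0sub (PC (V : Scheme.{u})) →+ KZero.K0sub (PC X) ⧸ K0Nil.KS ((V : Set X)ᶜ) :=
  KPull.k0Lift (PC (V : Scheme.{u})) (phi V) (fun S hS h1 h2 h3 => phi_add V S hS h1 h2 h3)

theorem theta_cl (G : (V : Scheme.{u}).Modules) (hG : Coh.IsCoh G) :
    theta V (KZero.clSub (PC (V : Scheme.{u})) G) = phi V G :=
  KPull.k0Lift_clSub (PC (V : Scheme.{u})) (phi V) _ G hG

theorem theta_comp
    (hjV : ∀ M : X.Modules, Coh.IsCoh M →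
      Coh.IsCoh ((Scheme.Modules.restrictFunctor V.ι).obj M))
    (y : KZero.K0sub (PC X)) :
    theta V (SGA6.mapSub (Scheme.Modules.restrictFunctor V.ι) (PC X) (PC (V : Scheme.{u}))
      hjV y) = QuotientAddGroup.mk y := by
  have h : (theta V).comp (SGA6.mapSub (Scheme.Modules.restrictFunctor V.ι) (PC X)
      (PC (V : Scheme.{u})) hjV) = QuotientAddGroup.mk' (K0Nil.KS ((V : Set X)ᶜ)) := by
    apply KPull.k0_hom_ext (PC X)
    intro M hM
    rw [AddMonoidHom.comp_apply, mapSub_cl (Scheme.Modules.restrictFunctor V.ι) (PC X)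
      (PC (V : Scheme.{u})) hjV M hM, theta_cl V _ (hjV M hM), QuotientAddGroup.mk'_apply]
    exact phi_eq V _ (hjV M hM) M hM (Iso.refl _)
  exact DFunLike.congr_fun h y

variable (i : X' ⟶ X) [IsClosedImmersion i]
  [(Scheme.Modules.pushforward i).Additive] [PreservesFiniteLimits (Scheme.Modules.pushforward i)]
  [PreservesFiniteColimits (Scheme.Modules.pushforward i)]

/-- the localization sequence for an open subset `V` -/
theorem loc_opens (hV : (V : Set X) = (Set.range i)ᶜ)
    (hi : ∀ M : X'.Modules, Coh.IsCoh M → Coh.IsCoh ((Scheme.Modules.pushforward i).obj M))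
    (hjV : ∀ M : X.Modules, Coh.IsCoh M →
      Coh.IsCoh ((Scheme.Modules.restrictFunctor V.ι).obj M)) :
    Function.Surjective (SGA6.mapSub (Scheme.Modules.restrictFunctor V.ι) (PC X)
        (PC (V : Scheme.{u})) hjV) ∧
      (SGA6.mapSub (Scheme.Modules.restrictFunctor V.ι) (PC X)
        (PC (V : Scheme.{u})) hjV).ker =
      (SGA6.mapSub (Scheme.Modules.pushforward i) (fun M : X'.Modules => Coh.IsCoh M)
        (fun M : X.Modules => Coh.IsCoh M) hi).range := by
  constructor
  · intro z
    rw [← AddMonoidHom.mem_range]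
    obtain ⟨H, hH⟩ : ∃ H : AddSubgroup (KZero.K0sub (PC (V : Scheme.{u}))),
        H = (SGA6.mapSub (Scheme.Modules.restrictFunctor V.ι) (PC X)
          (PC (V : Scheme.{u})) hjV).range := ⟨_, rfl⟩
    rw [← hH]
    obtain ⟨c, rfl⟩ := QuotientAddGroup.mk_surjective z
    induction c using FreeAbelianGroup.induction_on with
    | zero => exact H.zero_mem
    | of G =>
      obtain ⟨A, hA, ⟨e⟩⟩ := exists_coh_extension V G.1 G.2
      rw [hH]
      refine ⟨KZero.clSub (PC X) A, ?_⟩
      rw [mapSub_cl (Scheme.Modules.restrictFunctor V.ι) (PC X) (PC (V : Scheme.{u})) hjV A hA,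
        ← clSub_of G.1 G.2]
      exact (clSub_iso e (hjV A hA)).symm
    | neg x ih =>
      rw [QuotientAddGroup.mk_neg]
      exact H.neg_mem ih
    | add x y hx hy =>
      rw [QuotientAddGroup.mk_add]
      exact H.add_mem hx hy
  · apply le_antisymm
    · intro y hy
      rw [AddMonoidHom.mem_ker] at hy
      have h1 : (QuotientAddGroup.mk y : KZero.K0sub (PC X) ⧸ K0Nil.KS ((V : Set X)ᶜ)) = 0 := by
        rw [← theta_comp V hjV y, hy, map_zero]
      have h2 : y ∈ K0Nil.KS ((V : Set X)ᶜ) := (QuotientAddGroup.eq_zero_iff y).1 h1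
      rw [hV, compl_compl] at h2
      exact KS_le_range i hi h2
    · rintro _ ⟨x, rfl⟩
      rw [AddMonoidHom.mem_ker]
      have h : (SGA6.mapSub (Scheme.Modules.restrictFunctor V.ι) (PC X)
          (PC (V : Scheme.{u})) hjV).comp
          (SGA6.mapSub (Scheme.Modules.pushforward i) (fun M : X'.Modules => Coh.IsCoh M)
            (fun M : X.Modules => Coh.IsCoh M) hi) = 0 := by
        apply KPull.k0_hom_ext (PC X')
        intro M hM
        rw [AddMonoidHom.comp_apply,
          mapSub_cl (Scheme.Modules.pushforward i) (fun M : X'.Modules => Coh.IsCoh M)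
            (fun M : X.Modules => Coh.IsCoh M) hi M hM,
          mapSub_cl (Scheme.Modules.restrictFunctor V.ι) (PC X) (PC (V : Scheme.{u})) hjV _
            (hi M hM), AddMonoidHom.zero_apply]
        exact clSub_isZero _ (isZero_restrict_push i V hV M)
      exact DFunLike.congr_fun h x

end Opens

section Transport

variable {U V : Scheme.{u}} [IsLocallyNoetherian U] [IsLocallyNoetherian V] (e : U ≅ V)

/-- restriction along an isomorphism of schemes and along its inverse cancel on `K₀` -/
theorem mapSub_iso_cancel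
    (hT : ∀ M : V.Modules, Coh.IsCoh M → Coh.IsCoh ((Scheme.Modules.restrictFunctor e.hom).obj M))
    (hT' : ∀ M : U.Modules, Coh.IsCoh M →
      Coh.IsCoh ((Scheme.Modules.restrictFunctor e.inv).obj M))
    (z : KZero.K0sub (PC U)) :
    SGA6.mapSub (Scheme.Modules.restrictFunctor e.hom) (PC V) (PC U) hT
      (SGA6.mapSub (Scheme.Modules.restrictFunctor e.inv) (PC U) (PC V) hT' z) = z := by
  have h : (SGA6.mapSub (Scheme.Modules.restrictFunctor e.hom) (PC V) (PC U) hT).comp
      (SGA6.mapSub (Scheme.Modules.restrictFunctor e.inv) (PC U) (PC V) hT') =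
      AddMonoidHom.id _ := by
    apply KPull.k0_hom_ext (PC U)
    intro G hG
    rw [AddMonoidHom.comp_apply,
      mapSub_cl (Scheme.Modules.restrictFunctor e.inv) (PC U) (PC V) hT' G hG,
      mapSub_cl (Scheme.Modules.restrictFunctor e.hom) (PC V) (PC U) hT _ (hT' G hG),
      AddMonoidHom.id_apply]
    have β : (Scheme.Modules.restrictFunctor e.hom).obj
        ((Scheme.Modules.restrictFunctor e.inv).obj G) ≅ G :=
      ((Scheme.Modules.restrictFunctorComp e.hom e.inv).symm ≪≫
        Scheme.Modules.restrictFunctorCongr e.hom_inv_id ≪≫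
        Scheme.Modules.restrictFunctorId).app G
    exact (clSub_iso β (hT _ (hT' G hG))).symm
  exact DFunLike.congr_fun h z

end Transport

/-- **the localization sequence** `K₀(Coh X') → K₀(Coh X) → K₀(Coh U) → 0` -/
theorem loc_main {X X' U : Scheme.{u}} [IsNoetherian X] (i : X' ⟶ X) [IsClosedImmersion i]
    (j : U ⟶ X) [IsOpenImmersion j] (hU : Set.range j = (Set.range i)ᶜ)
    [(Scheme.Modules.pushforward i).Additive] [PreservesFiniteLimits (Scheme.Modules.pushforward i)]
    [PreservesFiniteColimits (Scheme.Modules.pushforward i)]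
    [PreservesFiniteLimits (Scheme.Modules.restrictFunctor j)]
    (hi : ∀ M : X'.Modules, Coh.IsCoh M → Coh.IsCoh ((Scheme.Modules.pushforward i).obj M))
    (hj : ∀ M : X.Modules, Coh.IsCoh M → Coh.IsCoh ((Scheme.Modules.restrictFunctor j).obj M)) :
    Function.Surjective (SGA6.mapSub (Scheme.Modules.restrictFunctor j)
        (fun M : X.Modules => Coh.IsCoh M) (fun M : U.Modules => Coh.IsCoh M) hj) ∧
      (SGA6.mapSub (Scheme.Modules.restrictFunctor j)
        (fun M : X.Modules => Coh.IsCoh M) (fun M : U.Modules => Coh.IsCoh M) hj).ker =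
      (SGA6.mapSub (Scheme.Modules.pushforward i) (fun M : X'.Modules => Coh.IsCoh M)
        (fun M : X.Modules => Coh.IsCoh M) hi).range := by
  haveI : IsLocallyNoetherian U := isLocallyNoetherian_of_isOpenImmersion j
  obtain ⟨V, hVdef⟩ : ∃ V : X.Opens, V = j.opensRange := ⟨_, rfl⟩
  obtain ⟨e, he⟩ : ∃ e : U ≅ (V : Scheme.{u}), e.hom ≫ V.ι = j := by
    subst hVdef
    exact ⟨j.isoOpensRange, j.isoOpensRange_hom_ι⟩
  have hV : (V : Set X) = (Set.range i)ᶜ := by
    rw [hVdef, Scheme.Hom.coe_opensRange, hU]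
  have hjV : ∀ M : X.Modules, Coh.IsCoh M →
      Coh.IsCoh ((Scheme.Modules.restrictFunctor V.ι).obj M) :=
    fun M hM => FinPush.isCoh_restrict V.ι M hM
  obtain ⟨hsurj, hker⟩ := loc_opens V i hV hi hjV
  have hT : ∀ M : (V : Scheme.{u}).Modules, Coh.IsCoh M →
      Coh.IsCoh ((Scheme.Modules.restrictFunctor e.hom).obj M) :=
    fun M hM => FinPush.isCoh_restrict e.hom M hM
  have hT' : ∀ M : U.Modules, Coh.IsCoh M →
      Coh.IsCoh ((Scheme.Modules.restrictFunctor e.inv).obj M) :=
    fun M hM => FinPush.isCoh_restrict e.inv M hM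
  have hEE' := mapSub_iso_cancel e hT hT'
  have hE'E := mapSub_iso_cancel e.symm hT' hT
  have hfac : ∀ y : KZero.K0sub (PC X),
      SGA6.mapSub (Scheme.Modules.restrictFunctor j)
        (fun M : X.Modules => Coh.IsCoh M) (fun M : U.Modules => Coh.IsCoh M) hj y =
      SGA6.mapSub (Scheme.Modules.restrictFunctor e.hom) (PC (V : Scheme.{u})) (PC U) hT
        (SGA6.mapSub (Scheme.Modules.restrictFunctor V.ι) (PC X) (PC (V : Scheme.{u})) hjV y) := by
    intro y
    have h : SGA6.mapSub (Scheme.Modules.restrictFunctor j)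
        (fun M : X.Modules => Coh.IsCoh M) (fun M : U.Modules => Coh.IsCoh M) hj =
        (SGA6.mapSub (Scheme.Modules.restrictFunctor e.hom) (PC (V : Scheme.{u})) (PC U) hT).comp
          (SGA6.mapSub (Scheme.Modules.restrictFunctor V.ι) (PC X) (PC (V : Scheme.{u})) hjV) := by
      apply KPull.k0_hom_ext (PC X)
      intro M hM
      rw [AddMonoidHom.comp_apply,
        mapSub_cl (Scheme.Modules.restrictFunctor j) (PC X) (PC U) hj M hM,
        mapSub_cl (Scheme.Modules.restrictFunctor V.ι) (PC X) (PC (V : Scheme.{u})) hjV M hM,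
        mapSub_cl (Scheme.Modules.restrictFunctor e.hom) (PC (V : Scheme.{u})) (PC U) hT _
          (hjV M hM)]
      have α : (Scheme.Modules.restrictFunctor j).obj M ≅
          (Scheme.Modules.restrictFunctor e.hom).obj
            ((Scheme.Modules.restrictFunctor V.ι).obj M) :=
        (Scheme.Modules.restrictFunctorCongr he.symm ≪≫
          Scheme.Modules.restrictFunctorComp e.hom V.ι).app M
      exact (clSub_iso α (hj M hM)).symm
    exact DFunLike.congr_fun h y
  constructor
  · intro z
    obtain ⟨a, ha⟩ := hsurj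
      (SGA6.mapSub (Scheme.Modules.restrictFunctor e.inv) (PC U) (PC (V : Scheme.{u})) hT' z)
    exact ⟨a, by rw [hfac a, ha, hEE' z]⟩
  · rw [← hker]
    ext y
    rw [AddMonoidHom.mem_ker, AddMonoidHom.mem_ker, hfac y]
    constructor
    · intro h
      have h' := congrArg
        (SGA6.mapSub (Scheme.Modules.restrictFunctor e.inv) (PC U) (PC (V : Scheme.{u})) hT') h
      rw [map_zero] at h'
      rw [← h']
      exact (hE'E _).symm
    · intro h
      rw [h, map_zero]

end Groth.Agent.Helper1.K0Loc
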