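import Mathlib
import Groth.Prelude.Def_KZero
import Groth.Prelude.Def_SGA6

/-!
# Dévissage for `K₀` along a "nilpotent" reflective subcategory (helper1)

Abstract engine: `L ⊣ R` an adjunction of abelian categories with `R` exact, unit epi and counit
iso on the relevant objects, and the kernel functor `T M = ker (M → R L M)` nilpotent.  Then
`R` induces a bijection `K₀(Q) → K₀(P)`.  The inverse is `[M] ↦ Σ_j [L (T^j M)]`.
-/

set_option autoImplicit false
set_option backward.isDefEq.respectTransparency.types false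
set_option synthInstance.maxHeartbeats 400000
set_option maxHeartbeats 1000000
set_option linter.style.haveILetI false
set_option linter.unusedSectionVars false
set_option linter.unusedVariables false
universe v₁ u₁ v₂ u₂
open CategoryTheory CategoryTheory.Limits

namespace Groth.Agent.Helper1.NilK0

noncomputable section

section Gen
variable {C : Type u₁} [Category.{v₁} C] [Abelian C] (P : ObjectProperty C)

theorem clSub_of (M : C) (h : P M) :
    KZero.clSub P M = QuotientAddGroup.mk (FreeAbelianGroup.of ⟨M, h⟩) := by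
  unfold KZero.clSub
  rw [dif_pos h]

theorem clSub_ses (S : ShortComplex C) (hS : S.ShortExact) (h₁ : P S.X₁) (h₂ : P S.X₂)
    (h₃ : P S.X₃) : KZero.clSub P S.X₂ = KZero.clSub P S.X₁ + KZero.clSub P S.X₃ := by
  unfold KZero.clSub
  rw [dif_pos h₁, dif_pos h₂, dif_pos h₃]
  rw [← QuotientAddGroup.mk_add, QuotientAddGroup.eq]
  have hmem : FreeAbelianGroup.of (⟨S.X₂, h₂⟩ : Subtype P) - FreeAbelianGroup.of ⟨S.X₁, h₁⟩ -
      FreeAbelianGroup.of ⟨S.X₃, h₃⟩ ∈ KZero.relSub P :=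
    AddSubgroup.subset_closure ⟨S, h₁, h₂, h₃, hS, rfl⟩
  have h2 := (KZero.relSub P).neg_mem hmem
  convert h2 using 1
  abel

theorem k0_hom_ext {G : Type*} [AddCommGroup G] (a b : KZero.K0sub P →+ G)
    (h : ∀ M : C, P M → a (KZero.clSub P M) = b (KZero.clSub P M)) : a = b := by
  apply QuotientAddGroup.addMonoidHom_ext
  apply FreeAbelianGroup.lift_ext
  rintro ⟨M, hM⟩
  have := h M hM
  rw [clSub_of P M hM] at this
  exact this

def k0Lift {G : Type*} [AddCommGroup G] (φ : C → G)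
    (hφ : ∀ S : ShortComplex C, S.ShortExact → P S.X₁ → P S.X₂ → P S.X₃ →
      φ S.X₂ = φ S.X₁ + φ S.X₃) :
    KZero.K0sub P →+ G :=
  QuotientAddGroup.lift (KZero.relSub P)
    (FreeAbelianGroup.lift (fun M : Subtype P => φ M.1)) (by
      unfold KZero.relSub
      rw [AddSubgroup.closure_le]
      rintro _ ⟨S, h1, h2, h3, hS, rfl⟩
      change FreeAbelianGroup.lift (fun M : Subtype P => φ M.1) _ = 0
      rw [map_sub, map_sub, FreeAbelianGroup.lift_apply_of, FreeAbelianGroup.lift_apply_of,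
        FreeAbelianGroup.lift_apply_of, hφ S hS h1 h2 h3]
      abel)

theorem k0Lift_clSub {G : Type*} [AddCommGroup G] (φ : C → G)
    (hφ : ∀ S : ShortComplex C, S.ShortExact → P S.X₁ → P S.X₂ → P S.X₃ →
      φ S.X₂ = φ S.X₁ + φ S.X₃) (M : C) (hM : P M) :
    k0Lift P φ hφ (KZero.clSub P M) = φ M := by
  rw [clSub_of P M hM]
  unfold k0Lift
  rw [QuotientAddGroup.lift_mk, FreeAbelianGroup.lift_apply_of]

theorem shortExact_id_zero (G M : C) (hM : IsZero M) :
    (ShortComplex.mk (𝟙 G) (0 : G ⟶ M) comp_zero).ShortExact := by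
  haveI : Epi (0 : G ⟶ M) := ⟨fun _ _ _ => hM.eq_of_src _ _⟩
  refine ShortComplex.ShortExact.mk' ?_ (inferInstanceAs (Mono (𝟙 G)))
    (inferInstanceAs (Epi (0 : G ⟶ M)))
  exact (ShortComplex.exact_iff_epi _ rfl).2 (inferInstanceAs (Epi (𝟙 G)))

theorem shortExact_iso_zero {M N : C} (e : M ≅ N) (Z : C)
    (hZ : IsZero Z) : (ShortComplex.mk e.hom (0 : N ⟶ Z) comp_zero).ShortExact := by
  haveI : Epi (0 : N ⟶ Z) := ⟨fun _ _ _ => hZ.eq_of_src _ _⟩
  refine ShortComplex.ShortExact.mk' ?_ (inferInstanceAs (Mono e.hom))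
    (inferInstanceAs (Epi (0 : N ⟶ Z)))
  exact (ShortComplex.exact_iff_epi _ rfl).2 (inferInstanceAs (Epi e.hom))

/-- closure properties of an object property making `K0sub` well behaved -/
structure Good (P : ObjectProperty C) : Prop where
  zero : ∀ M : C, IsZero M → P M
  ker : ∀ {M N : C} (f : M ⟶ N), P M → P N → P (kernel f)
  coker : ∀ {M N : C} (f : M ⟶ N), P M → P N → P (cokernel f)

variable {P}

theorem cl_zero (hP : Good P) (M : C) (hM : IsZero M) : KZero.clSub P M = 0 := by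
  have hc := hP.zero M hM
  have h := clSub_ses P _ (shortExact_id_zero M M hM) hc hc hc
  change KZero.clSub P M = KZero.clSub P M + KZero.clSub P M at h
  exact left_eq_add.1 h

theorem cl_iso (hP : Good P) {M N : C} (e : M ≅ N) (hM : P M) (hN : P N) :
    KZero.clSub P M = KZero.clSub P N := by
  obtain ⟨O, hO⟩ := HasZeroObject.zero (C := C)
  have h := clSub_ses P _ (shortExact_iso_zero e O hO) hM hN (hP.zero O hO)
  change KZero.clSub P N = KZero.clSub P M + KZero.clSub P O at h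
  rw [h, cl_zero hP O hO, add_zero]

theorem cl_four (hP : Good P) {A B : C} (f : A ⟶ B) (hA : P A) (hB : P B) :
    KZero.clSub P A + KZero.clSub P (cokernel f) =
      KZero.clSub P (kernel f) + KZero.clSub P B := by
  have hK : P (kernel f) := hP.ker f hA hB
  have hQ : P (cokernel f) := hP.coker f hA hB
  have hCo : P (Abelian.coimage f) := hP.coker (kernel.ι f) hK hA
  have hIm : P (Abelian.image f) := hP.ker (cokernel.π f) hB hQ
  let S₁ : ShortComplex C := ShortComplex.mk (kernel.ι f) (cokernel.π (kernel.ι f))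
    (cokernel.condition _)
  have hS₁ : S₁.Exact := ShortComplex.exact_cokernel (kernel.ι f)
  haveI : Mono S₁.f := inferInstanceAs (Mono (kernel.ι f))
  haveI : Epi S₁.g := inferInstanceAs (Epi (cokernel.π (kernel.ι f)))
  have hSE₁ : S₁.ShortExact := { exact := hS₁ }
  have e1 := clSub_ses P S₁ hSE₁ hK hA hCo
  let S₂ : ShortComplex C := ShortComplex.mk (Abelian.image.ι f) (cokernel.π f)
    (kernel.condition _)
  have hS₂ : S₂.Exact := ShortComplex.exact_of_f_is_kernel _ (kernelIsKernel (cokernel.π f))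
  haveI : Mono S₂.f := inferInstanceAs (Mono (Abelian.image.ι f))
  haveI : Epi S₂.g := inferInstanceAs (Epi (cokernel.π f))
  have hSE₂ : S₂.ShortExact := { exact := hS₂ }
  have e2 := clSub_ses P S₂ hSE₂ hIm hB hQ
  have e3 := cl_iso hP (Abelian.coimageIsoImage f) hCo hIm
  change KZero.clSub P A =
    KZero.clSub P (kernel f) + KZero.clSub P (Abelian.coimage f) at e1
  change KZero.clSub P B =
    KZero.clSub P (Abelian.image f) + KZero.clSub P (cokernel f) at e2
  rw [e1, e2, e3]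
  abel

end Gen

section MapSub
variable {A : Type u₁} [Category.{v₁} A] [Abelian A] {B : Type u₂} [Category.{v₂} B] [Abelian B]

theorem mapSub_cl (F : A ⥤ B) [F.Additive] [PreservesFiniteLimits F] [PreservesFiniteColimits F]
    (P : ObjectProperty A) (Q : ObjectProperty B) (h : ∀ X, P X → Q (F.obj X)) (M : A)
    (hM : P M) :
    SGA6.mapSub F P Q h (KZero.clSub P M) = KZero.clSub Q (F.obj M) := by
  rw [clSub_of P M hM, clSub_of Q _ (h M hM)]
  simp [SGA6.mapSub, SGA6.objMap]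

end MapSub

section Adj
variable {𝒜 : Type u₁} [Category.{v₁} 𝒜] [Abelian 𝒜] {ℬ : Type u₂} [Category.{v₂} ℬ] [Abelian ℬ]

section H
variable (L : 𝒜 ⥤ ℬ) (R : ℬ ⥤ 𝒜) (S : ShortComplex 𝒜)

def Hob : 𝒜 := kernel (R.map (L.map S.f))
def Hι : Hob L R S ⟶ R.obj (L.obj S.X₁) := kernel.ι (R.map (L.map S.f))
instance : Mono (Hι L R S) := inferInstanceAs (Mono (kernel.ι (R.map (L.map S.f))))
@[reassoc]
theorem Hι_RL : Hι L R S ≫ R.map (L.map S.f) = 0 := kernel.condition _
def Hlift {A : 𝒜} (x : A ⟶ R.obj (L.obj S.X₁)) (hx : x ≫ R.map (L.map S.f) = 0) :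
    A ⟶ Hob L R S := kernel.lift (R.map (L.map S.f)) x hx
@[reassoc]
theorem Hlift_ι {A : 𝒜} (x : A ⟶ R.obj (L.obj S.X₁)) (hx : x ≫ R.map (L.map S.f) = 0) :
    Hlift L R S x hx ≫ Hι L R S = x := kernel.lift_ι _ _ _

end H

variable {L : 𝒜 ⥤ ℬ} {R : ℬ ⥤ 𝒜} (adj : L ⊣ R)

def η (M : 𝒜) : M ⟶ R.obj (L.obj M) := adj.unit.app M
def ε (N : ℬ) : L.obj (R.obj N) ⟶ N := adj.counit.app N

@[reassoc]
theorem η_nat {M N : 𝒜} (f : M ⟶ N) : f ≫ η adj N = η adj M ≫ R.map (L.map f) :=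
  adj.unit.naturality f

@[reassoc]
theorem η_R_ε (N : ℬ) : η adj (R.obj N) ≫ R.map (ε adj N) = 𝟙 (R.obj N) :=
  adj.right_triangle_components N

def Tob (M : 𝒜) : 𝒜 := kernel (η adj M)
def Tι (M : 𝒜) : Tob adj M ⟶ M := kernel.ι (η adj M)
instance (M : 𝒜) : Mono (Tι adj M) := inferInstanceAs (Mono (kernel.ι (η adj M)))
@[reassoc]
theorem Tι_unit (M : 𝒜) : Tι adj M ≫ η adj M = 0 := kernel.condition _
def Tlift {A M : 𝒜} (x : A ⟶ M) (hx : x ≫ η adj M = 0) : A ⟶ Tob adj M :=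
  kernel.lift (η adj M) x hx
@[reassoc]
theorem Tlift_ι {A M : 𝒜} (x : A ⟶ M) (hx : x ≫ η adj M = 0) :
    Tlift adj x hx ≫ Tι adj M = x := kernel.lift_ι _ _ _
def Tmap {M N : 𝒜} (f : M ⟶ N) : Tob adj M ⟶ Tob adj N :=
  Tlift adj (Tι adj M ≫ f) (by rw [Category.assoc, η_nat adj f, Tι_unit_assoc, zero_comp])
@[reassoc]
theorem Tmap_ι {M N : 𝒜} (f : M ⟶ N) : Tmap adj f ≫ Tι adj N = Tι adj M ≫ f :=
  Tlift_ι adj _ _

theorem mono_Tmap {M N : 𝒜} (f : M ⟶ N) [Mono f] : Mono (Tmap adj f) := by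
  haveI : Mono (Tmap adj f ≫ Tι adj N) := by rw [Tmap_ι]; infer_instance
  exact mono_of_mono (Tmap adj f) (Tι adj N)

theorem Tmap_id (M : 𝒜) : Tmap adj (𝟙 M) = 𝟙 (Tob adj M) := by
  rw [← cancel_mono (Tι adj M), Tmap_ι, Category.comp_id, Category.id_comp]

theorem Tmap_comp {M N K : 𝒜} (f : M ⟶ N) (g : N ⟶ K) :
    Tmap adj (f ≫ g) = Tmap adj f ≫ Tmap adj g := by
  rw [← cancel_mono (Tι adj K), Tmap_ι, Category.assoc, Tmap_ι, Tmap_ι_assoc]

def Tiso {M N : 𝒜} (e : M ≅ N) : Tob adj M ≅ Tob adj N where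
  hom := Tmap adj e.hom
  inv := Tmap adj e.inv
  hom_inv_id := by rw [← Tmap_comp, e.hom_inv_id, Tmap_id]
  inv_hom_id := by rw [← Tmap_comp, e.inv_hom_id, Tmap_id]

theorem ses_T (M : 𝒜) (h : Epi (η adj M)) :
    (ShortComplex.mk (Tι adj M) (η adj M) (Tι_unit adj M)).ShortExact := by
  refine ShortComplex.ShortExact.mk' ?_ (inferInstanceAs (Mono (Tι adj M))) h
  exact ShortComplex.exact_of_f_is_kernel _ (kernelIsKernel (η adj M))

variable [L.Additive] [R.Additive] [PreservesFiniteColimits L] [PreservesFiniteLimits R]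
  [PreservesFiniteColimits R]

theorem RL_exact {M N : 𝒜} (f : M ⟶ N) [Epi f] :
    (ShortComplex.mk (R.map (L.map (kernel.ι f))) (R.map (L.map f))
      (by rw [← R.map_comp, ← L.map_comp, kernel.condition, L.map_zero, R.map_zero])).Exact := by
  let S : ShortComplex 𝒜 := ShortComplex.mk (kernel.ι f) f (kernel.condition f)
  have hS : S.Exact := ShortComplex.exact_of_f_is_kernel _ (kernelIsKernel f)
  have h1 : (S.map L).Exact :=
    hS.map_of_epi_of_preservesCokernel L (inferInstanceAs (Epi f)) inferInstance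
  exact h1.map R

theorem epi_Tmap {M N : 𝒜} (f : M ⟶ N) [Epi f] (hK : Epi (η adj (kernel f))) :
    Epi (Tmap adj f) := by
  rw [epi_iff_surjective_up_to_refinements]
  intro A y
  obtain ⟨A₁, π₁, hπ₁, m, hm⟩ := surjective_up_to_refinements_of_epi f (y ≫ Tι adj N)
  have h1 : (m ≫ η adj M) ≫ R.map (L.map f) = 0 := by
    rw [Category.assoc, ← η_nat adj f, ← reassoc_of% hm, Tι_unit, comp_zero, comp_zero]
  obtain ⟨A₂, π₂, hπ₂, k', hk'⟩ :=
    (RL_exact (L := L) (R := R) f).exact_up_to_refinements (m ≫ η adj M) h1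
  have hk'' : π₂ ≫ m ≫ η adj M = k' ≫ R.map (L.map (kernel.ι f)) := hk'
  obtain ⟨A₃, π₃, hπ₃, k, hk⟩ := surjective_up_to_refinements_of_epi (η adj (kernel f)) k'
  have h2 : (π₃ ≫ π₂ ≫ m - k ≫ kernel.ι f) ≫ η adj M = 0 := by
    rw [Preadditive.sub_comp]
    simp only [Category.assoc]
    rw [η_nat adj (kernel.ι f), ← reassoc_of% hk, ← hk'', sub_self]
  refine ⟨A₃, π₃ ≫ π₂ ≫ π₁, inferInstance, Tlift adj _ h2, ?_⟩
  rw [← cancel_mono (Tι adj N)]
  simp only [Category.assoc, Tmap_ι, Tlift_ι_assoc, Preadditive.sub_comp, kernel.condition,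
    comp_zero, sub_zero, hm]

section Analysis
variable (S : ShortComplex 𝒜)

@[reassoc]
theorem Tmap_f_g : Tmap adj S.f ≫ Tmap adj S.g = 0 := by
  rw [← cancel_mono (Tι adj S.X₃)]
  simp only [Category.assoc, Tmap_ι, Tmap_ι_assoc, S.zero, comp_zero, zero_comp]

def Kob : 𝒜 := kernel (Tmap adj S.g)
def Kι : Kob adj S ⟶ Tob adj S.X₂ := kernel.ι (Tmap adj S.g)
instance : Mono (Kι adj S) := inferInstanceAs (Mono (kernel.ι (Tmap adj S.g)))
@[reassoc]
theorem Kι_g : Kι adj S ≫ Tmap adj S.g = 0 := kernel.condition _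
def Klift {A : 𝒜} (x : A ⟶ Tob adj S.X₂) (hx : x ≫ Tmap adj S.g = 0) : A ⟶ Kob adj S :=
  kernel.lift (Tmap adj S.g) x hx
@[reassoc]
theorem Klift_ι {A : 𝒜} (x : A ⟶ Tob adj S.X₂) (hx : x ≫ Tmap adj S.g = 0) :
    Klift adj S x hx ≫ Kι adj S = x := kernel.lift_ι _ _ _
def Ka : Tob adj S.X₁ ⟶ Kob adj S := Klift adj S (Tmap adj S.f) (Tmap_f_g adj S)
@[reassoc]
theorem Ka_ι : Ka adj S ≫ Kι adj S = Tmap adj S.f := Klift_ι adj S _ _

variable (hS : S.ShortExact)

def Kk : Kob adj S ⟶ S.X₁ :=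
  haveI := hS.mono_f
  hS.exact.lift (Kι adj S ≫ Tι adj S.X₂)
    (by rw [Category.assoc, ← Tmap_ι, Kι_g_assoc, zero_comp])

@[reassoc]
theorem Kk_f : Kk adj S hS ≫ S.f = Kι adj S ≫ Tι adj S.X₂ := by
  haveI := hS.mono_f
  exact hS.exact.lift_f _ _

def Kb : Kob adj S ⟶ Hob L R S :=
  Hlift L R S (Kk adj S hS ≫ η adj S.X₁)
    (by rw [Category.assoc, ← η_nat adj S.f, Kk_f_assoc, Tι_unit, comp_zero])

@[reassoc]
theorem Kb_ι : Kb adj S hS ≫ Hι L R S = Kk adj S hS ≫ η adj S.X₁ := Hlift_ι L R S _ _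

@[reassoc]
theorem Ka_Kk : Ka adj S ≫ Kk adj S hS = Tι adj S.X₁ := by
  haveI := hS.mono_f
  rw [← cancel_mono S.f, Category.assoc, Kk_f, Ka_ι_assoc, Tmap_ι]

theorem Ka_Kb : Ka adj S ≫ Kb adj S hS = 0 := by
  rw [← cancel_mono (Hι L R S), Category.assoc, Kb_ι, Ka_Kk_assoc, Tι_unit, zero_comp]

theorem ses_i (hepi : Epi (Tmap adj S.g)) :
    (ShortComplex.mk (Kι adj S) (Tmap adj S.g) (Kι_g adj S)).ShortExact := by
  refine ShortComplex.ShortExact.mk' ?_ (inferInstanceAs (Mono (Kι adj S))) hepi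
  exact ShortComplex.exact_of_f_is_kernel _ (kernelIsKernel (Tmap adj S.g))

theorem ses_ii (hη₁ : Epi (η adj S.X₁)) :
    (ShortComplex.mk (Ka adj S) (Kb adj S hS) (Ka_Kb adj S hS)).ShortExact := by
  haveI := hS.mono_f
  haveI : Mono (Tmap adj S.f) := mono_Tmap adj S.f
  have hmono : Mono (Ka adj S) := mono_of_mono_fac (Ka_ι adj S)
  have hepi : Epi (Kb adj S hS) := by
    rw [epi_iff_surjective_up_to_refinements]
    intro A z
    obtain ⟨A', π, hπ, m', hm'⟩ :=
      surjective_up_to_refinements_of_epi (η adj S.X₁) (z ≫ Hι L R S)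
    have h2 : (m' ≫ S.f) ≫ η adj S.X₂ = 0 := by
      rw [Category.assoc, η_nat adj S.f, ← reassoc_of% hm', Hι_RL, comp_zero, comp_zero]
    have h3 : Tlift adj (m' ≫ S.f) h2 ≫ Tmap adj S.g = 0 := by
      rw [← cancel_mono (Tι adj S.X₃), Category.assoc, Tmap_ι, Tlift_ι_assoc, Category.assoc,
        S.zero, comp_zero, zero_comp]
    have h4 : Klift adj S _ h3 ≫ Kk adj S hS = m' := by
      rw [← cancel_mono S.f, Category.assoc, Kk_f, Klift_ι_assoc, Tlift_ι]
    refine ⟨A', π, hπ, Klift adj S _ h3, ?_⟩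
    rw [← cancel_mono (Hι L R S), Category.assoc, Category.assoc, Kb_ι, reassoc_of% h4, hm']
  refine ShortComplex.ShortExact.mk' ?_ hmono hepi
  rw [ShortComplex.exact_iff_exact_up_to_refinements]
  intro A x hx
  have hx' : x ≫ Kb adj S hS = 0 := hx
  have h1 : (x ≫ Kk adj S hS) ≫ η adj S.X₁ = 0 := by
    rw [Category.assoc, ← Kb_ι, reassoc_of% hx', zero_comp]
  refine ⟨A, 𝟙 A, inferInstance, Tlift adj _ h1, ?_⟩
  show 𝟙 A ≫ x = Tlift adj _ h1 ≫ Ka adj S
  rw [Category.id_comp, ← cancel_mono (Kι adj S), ← cancel_mono (Tι adj S.X₂)]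
  simp only [Category.assoc, Ka_ι_assoc, Tmap_ι, Tlift_ι_assoc, Kk_f]

include hS in
theorem cl_iii {Q : ObjectProperty ℬ} (hQ : Good Q) (h1 : Q (L.obj S.X₁)) (h2 : Q (L.obj S.X₂))
    (h3 : Q (L.obj S.X₃)) :
    KZero.clSub Q (L.obj S.X₁) + KZero.clSub Q (L.obj S.X₃) =
      KZero.clSub Q (kernel (L.map S.f)) + KZero.clSub Q (L.obj S.X₂) := by
  have h := cl_four hQ (L.map S.f) h1 h2
  haveI := hS.epi_g
  have e0 : cokernel S.f ≅ S.X₃ :=
    IsColimit.coconePointUniqueUpToIso (cokernelIsCokernel S.f) hS.exact.gIsCokernel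
  have e : cokernel (L.map S.f) ≅ L.obj S.X₃ :=
    (PreservesCokernel.iso L S.f).symm ≪≫ L.mapIso e0
  rw [cl_iso hQ e (hQ.coker _ h1 h2) h3] at h
  exact h

end Analysis

variable (P : ObjectProperty 𝒜) (Q : ObjectProperty ℬ)

/-- the hypotheses of the dévissage engine -/
structure Setup (adj : L ⊣ R) (P : ObjectProperty 𝒜) (Q : ObjectProperty ℬ) : Prop where
  hP : Good P
  hQ : Good Q
  hL : ∀ M, P M → Q (L.obj M)
  hR : ∀ N, Q N → P (R.obj N)
  hη : ∀ M, P M → Epi (η adj M)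
  hε : ∀ N, Q N → IsIso (ε adj N)

def psi : ℕ → 𝒜 → KZero.K0sub Q
  | 0, _ => 0
  | n + 1, M => KZero.clSub Q (L.obj M) + psi n (Tob adj M)

theorem psi_zero (M : 𝒜) : psi adj Q 0 M = 0 := rfl
theorem psi_succ (n : ℕ) (M : 𝒜) :
    psi adj Q (n + 1) M = KZero.clSub Q (L.obj M) + psi adj Q n (Tob adj M) := rfl

def Nil : ℕ → 𝒜 → Prop
  | 0, M => IsZero M
  | n + 1, M => Nil n (Tob adj M)

theorem Nil_zero (M : 𝒜) : Nil adj 0 M ↔ IsZero M := Iff.rfl
theorem Nil_succ (n : ℕ) (M : 𝒜) : Nil adj (n + 1) M ↔ Nil adj n (Tob adj M) := Iff.rfl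

variable {P Q}

theorem P_T (H : Setup adj P Q) {M : 𝒜} (hM : P M) : P (Tob adj M) :=
  H.hP.ker (η adj M) hM (H.hR _ (H.hL M hM))

theorem Nil_of_mono (n : ℕ) : ∀ {N M : 𝒜} (f : N ⟶ M) [Mono f], Nil adj n M → Nil adj n N := by
  induction n with
  | zero =>
    intro N M f _ h
    exact (Nil_zero adj N).2 (IsZero.of_mono f ((Nil_zero adj M).1 h))
  | succ n ih =>
    intro N M f _ h
    haveI := mono_Tmap adj f
    exact (Nil_succ adj n N).2 (ih (Tmap adj f) ((Nil_succ adj n M).1 h))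

theorem Nil_of_epi (H : Setup adj P Q) (n : ℕ) :
    ∀ {M N : 𝒜} (f : M ⟶ N) [Epi f], P M → P N → Nil adj n M → Nil adj n N := by
  induction n with
  | zero =>
    intro M N f _ _ _ h
    exact (Nil_zero adj N).2 (IsZero.of_epi f ((Nil_zero adj M).1 h))
  | succ n ih =>
    intro M N f _ hM hN h
    haveI := epi_Tmap adj f (H.hη _ (H.hP.ker f hM hN))
    exact (Nil_succ adj n N).2 (ih (Tmap adj f) (P_T adj H hM) (P_T adj H hN)
      ((Nil_succ adj n M).1 h))

theorem psi_isZero (H : Setup adj P Q) (n : ℕ) :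
    ∀ (M : 𝒜), IsZero M → psi adj Q n M = 0 := by
  induction n with
  | zero => intro M _; rfl
  | succ n ih =>
    intro M hM
    rw [psi_succ, cl_zero H.hQ _ (L.map_isZero hM), ih _ (IsZero.of_mono (Tι adj M) hM),
      add_zero]

theorem psi_iso (H : Setup adj P Q) (n : ℕ) :
    ∀ {M N : 𝒜} (e : M ≅ N), P M → P N → psi adj Q n M = psi adj Q n N := by
  induction n with
  | zero => intro M N e _ _; rfl
  | succ n ih =>
    intro M N e hM hN
    rw [psi_succ, psi_succ, cl_iso H.hQ (L.mapIso e) (H.hL M hM) (H.hL N hN),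
      ih (Tiso adj e) (P_T adj H hM) (P_T adj H hN)]

theorem psi_R (H : Setup adj P Q) (n : ℕ) (N : ℬ) (hN : Q N) (h : Nil adj n (R.obj N)) :
    psi adj Q n (R.obj N) = KZero.clSub Q N := by
  haveI := H.hε N hN
  have e : L.obj (R.obj N) ≅ N := asIso (ε adj N)
  cases n with
  | zero =>
    have hz : IsZero N := IsZero.of_iso (L.map_isZero ((Nil_zero adj _).1 h)) e.symm
    rw [psi_zero, cl_zero H.hQ N hz]
  | succ n =>
    have hmono : Mono (η adj (R.obj N)) := mono_of_mono_fac (η_R_ε adj N)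
    have hz : IsZero (Tob adj (R.obj N)) := by
      show IsZero (kernel (η adj (R.obj N)))
      exact isZero_kernel_of_mono _
    rw [psi_succ, psi_isZero adj H n _ hz, add_zero,
      cl_iso H.hQ e (H.hL _ (H.hR N hN)) hN]

theorem psi_add (H : Setup adj P Q) (n : ℕ) :
    ∀ (S : ShortComplex 𝒜), S.ShortExact → P S.X₁ → P S.X₂ → P S.X₃ → Nil adj n S.X₂ →
      psi adj Q n S.X₂ = psi adj Q n S.X₁ + psi adj Q n S.X₃ := by
  induction n with
  | zero =>
    intro S _ _ _ _ _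
    rw [psi_zero, psi_zero, psi_zero, add_zero]
  | succ n ih =>
    intro S hS h1 h2 h3 hnil
    haveI := hS.epi_g
    haveI := hS.mono_f
    have hT1 := P_T adj H h1
    have hT2 := P_T adj H h2
    have hT3 := P_T adj H h3
    have hK : P (Kob adj S) := H.hP.ker _ hT2 hT3
    have hRL1 : P (R.obj (L.obj S.X₁)) := H.hR _ (H.hL _ h1)
    have hRL2 : P (R.obj (L.obj S.X₂)) := H.hR _ (H.hL _ h2)
    have hH : P (Hob L R S) := H.hP.ker _ hRL1 hRL2
    have hH₀ : Q (kernel (L.map S.f)) := H.hQ.ker _ (H.hL _ h1) (H.hL _ h2)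
    have hepi : Epi (Tmap adj S.g) := epi_Tmap adj S.g (H.hη _ (H.hP.ker S.g h2 h3))
    have s1 := ses_i adj S hepi
    have s2 := ses_ii adj S hS (H.hη _ h1)
    have nT : Nil adj n (Tob adj S.X₂) := (Nil_succ adj n _).1 hnil
    have nK : Nil adj n (Kob adj S) := Nil_of_mono adj n (Kι adj S) nT
    haveI : Epi (Kb adj S hS) := s2.epi_g
    have nH : Nil adj n (Hob L R S) := Nil_of_epi adj H n (Kb adj S hS) hK hH nK
    have e1 := ih _ s1 hK hT2 hT3 nT
    have e2 := ih _ s2 hT1 hK hH nK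
    have eH : Hob L R S ≅ R.obj (kernel (L.map S.f)) :=
      (PreservesKernel.iso R (L.map S.f)).symm
    have e3 : psi adj Q n (Hob L R S) = KZero.clSub Q (kernel (L.map S.f)) := by
      rw [psi_iso adj H n eH hH (H.hR _ hH₀)]
      exact psi_R adj H n _ hH₀ (Nil_of_mono adj n eH.inv nH)
    have e4 := cl_iii S hS H.hQ (H.hL _ h1) (H.hL _ h2) (H.hL _ h3)
    change psi adj Q n (Tob adj S.X₂) = psi adj Q n (Kob adj S) + psi adj Q n (Tob adj S.X₃)
      at e1
    change psi adj Q n (Kob adj S) = psi adj Q n (Tob adj S.X₁) + psi adj Q n (Hob L R S) at e2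
    rw [psi_succ, psi_succ, psi_succ, e1, e2, e3]
    have e5 : KZero.clSub Q (L.obj S.X₂) +
        (psi adj Q n (Tob adj S.X₁) + KZero.clSub Q (kernel (L.map S.f)) +
          psi adj Q n (Tob adj S.X₃)) =
        (KZero.clSub Q (kernel (L.map S.f)) + KZero.clSub Q (L.obj S.X₂)) +
          (psi adj Q n (Tob adj S.X₁) + psi adj Q n (Tob adj S.X₃)) := by abel
    rw [e5, ← e4]
    abel

theorem mapSub_psi (H : Setup adj P Q) (n : ℕ) :
    ∀ (M : 𝒜), P M → Nil adj n M →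
      SGA6.mapSub R Q P H.hR (psi adj Q n M) = KZero.clSub P M := by
  induction n with
  | zero =>
    intro M hM h
    rw [psi_zero, map_zero, cl_zero H.hP M ((Nil_zero adj M).1 h)]
  | succ n ih =>
    intro M hM h
    rw [psi_succ, map_add, mapSub_cl R Q P H.hR _ (H.hL M hM),
      ih _ (P_T adj H hM) ((Nil_succ adj n M).1 h)]
    have s := ses_T adj M (H.hη M hM)
    have e := clSub_ses P _ s (P_T adj H hM) hM (H.hR _ (H.hL M hM))
    change KZero.clSub P M = KZero.clSub P (Tob adj M) + KZero.clSub P (R.obj (L.obj M)) at e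
    rw [e, add_comm]

/-- **the dévissage engine** -/
theorem main_abstract (H : Setup adj P Q) (n : ℕ) (hnil : ∀ M, P M → Nil adj n M) :
    Function.Bijective (SGA6.mapSub R Q P H.hR) := by
  constructor
  · obtain ⟨Ψ, hΨ⟩ : ∃ Ψ : KZero.K0sub P →+ KZero.K0sub Q,
        ∀ M, P M → Ψ (KZero.clSub P M) = psi adj Q n M :=
      ⟨k0Lift P (psi adj Q n)
        (fun S hS h1 h2 h3 => psi_add adj H n S hS h1 h2 h3 (hnil _ h2)),
        fun M hM => k0Lift_clSub P _ _ M hM⟩
    have hcomp : Ψ.comp (SGA6.mapSub R Q P H.hR) = AddMonoidHom.id _ := by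
      apply k0_hom_ext Q
      intro N hN
      rw [AddMonoidHom.comp_apply, mapSub_cl R Q P H.hR N hN, hΨ _ (H.hR N hN),
        AddMonoidHom.id_apply]
      exact psi_R adj H n N hN (hnil _ (H.hR N hN))
    intro a b hab
    have h := congrArg Ψ hab
    rw [← AddMonoidHom.comp_apply, ← AddMonoidHom.comp_apply, hcomp] at h
    exact h
  · intro y
    obtain ⟨c, rfl⟩ := QuotientAddGroup.mk_surjective y
    induction c using FreeAbelianGroup.induction_on with
    | zero => exact ⟨0, map_zero _⟩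
    | of x =>
      obtain ⟨M, hM⟩ := x
      refine ⟨psi adj Q n M, ?_⟩
      rw [mapSub_psi adj H n M hM (hnil M hM)]
      exact clSub_of P M hM
    | neg x ih =>
      obtain ⟨a, ha⟩ := ih
      refine ⟨-a, ?_⟩
      rw [map_neg, ha, QuotientAddGroup.mk_neg]
    | add x y hx hy =>
      obtain ⟨a, ha⟩ := hx
      obtain ⟨b, hb⟩ := hy
      refine ⟨a + b, ?_⟩
      rw [map_add, ha, hb, QuotientAddGroup.mk_add]

end Adj

end

end Groth.Agent.Helper1.NilK0
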