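import Mathlib

/-!
# Noetherian schemes: ideal sheaves

Helper library of helper1.
-/

set_option autoImplicit false

namespace Groth.Agent.Helper1.SchNoeth

open AlgebraicGeometry CategoryTheory Scheme IdealSheafData TopologicalSpace

universe u

theorem pi_wellFoundedGT {ι : Type*} [Finite ι] (α : ι → Type*) [∀ i, Preorder (α i)]
    [∀ i, WellFoundedGT (α i)] : WellFoundedGT (∀ i, α i) :=
  ⟨(Pi.wellFoundedLT (α := fun i => (α i)ᵒᵈ)).wf⟩

/-- A finite cover of a Noetherian scheme by affine opens. -/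
theorem exists_finite_affine_cover (X : Scheme.{u}) [CompactSpace X] :
    ∃ (ι : Type u) (_ : Finite ι) (U : ι → X.affineOpens), ⨆ i, (U i).1 = ⊤ := by
  refine ⟨X.affineCover.finiteSubcover.I₀, inferInstance,
    fun i => ⟨(X.affineCover.finiteSubcover.f i).opensRange, isAffineOpen_opensRange _⟩, ?_⟩
  exact X.affineCover.finiteSubcover.iSup_opensRange

theorem S4362 (X : Scheme.{u}) [IsNoetherian X] : WellFoundedGT X.IdealSheafData := by
  obtain ⟨ι, _, U, hU⟩ := exists_finite_affine_cover X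
  have : ∀ i, IsNoetherianRing Γ(X, (U i).1) :=
    fun i => IsLocallyNoetherian.component_noetherian (U i)
  have : ∀ i, WellFoundedGT (Ideal Γ(X, (U i).1)) := fun i => inferInstance
  have := pi_wellFoundedGT (fun i => Ideal Γ(X, (U i).1))
  let Φ : X.IdealSheafData → (∀ i, Ideal Γ(X, (U i).1)) := fun I i => I.ideal (U i)
  have hΦ : StrictMono Φ := by
    intro I J hIJ
    have hle : Φ I ≤ Φ J := fun i => hIJ.le (U i)
    refine lt_of_le_of_ne hle ?_
    intro heq
    have : I = J := ext_of_iSup_eq_top U hU (fun i => congrFun heq i)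
    exact hIJ.ne this
  exact hΦ.wellFoundedGT

theorem S2264 (X : Scheme.{u}) [IsNoetherian X] : IsNilpotent X.nilradical := by
  obtain ⟨ι, _, U, hU⟩ := exists_finite_affine_cover X
  have hN : ∀ i, IsNoetherianRing Γ(X, (U i).1) :=
    fun i => IsLocallyNoetherian.component_noetherian (U i)
  have hnil : ∀ i, ∃ n : ℕ, (nilradical Γ(X, (U i).1)) ^ n = ⊥ := fun i =>
    IsNoetherianRing.isNilpotent_nilradical Γ(X, (U i).1)
  choose n hn using hnil
  cases nonempty_fintype ι
  refine ⟨Finset.univ.sup n, ?_⟩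
  show X.nilradical ^ (Finset.univ.sup n) = ⊥
  apply ext_of_iSup_eq_top U hU
  intro i
  rw [ideal_pow, ideal_bot]
  show (X.nilradical.ideal (U i)) ^ (Finset.univ.sup n) = ⊥
  have h1 : X.nilradical.ideal (U i) = nilradical Γ(X, (U i).1) := by
    show ((⊥ : X.IdealSheafData).radical).ideal (U i) = _
    rw [radical_ideal]
    rfl
  rw [h1, ← le_bot_iff, ← hn i]
  exact Ideal.pow_le_pow_right (Finset.le_sup (Finset.mem_univ i))

theorem map_ideal_basicOpen_eq_bot {X : Scheme.{u}} (J : X.IdealSheafData) (U : X.affineOpens)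
    (r : Γ(X, U)) (hr : ∀ n ∈ J.ideal U, r * n = 0) : J.ideal (X.affineBasicOpen r) = ⊥ := by
  refine (J.map_ideal_basicOpen U r).symm.trans ?_
  show (Ideal.map (X.presheaf.map (homOfLE (X.basicOpen_le r)).op).hom (J.ideal U) :
    Ideal Γ(X, X.basicOpen r)) = ⊥
  rw [Ideal.map_eq_bot_iff_le_ker]
  intro n hn
  rw [RingHom.mem_ker]
  have hu : IsUnit ((X.presheaf.map (homOfLE (X.basicOpen_le r)).op).hom r) :=
    X.toRingedSpace.isUnit_res_basicOpen r
  have h0 : (X.presheaf.map (homOfLE (X.basicOpen_le r)).op).hom r *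
      (X.presheaf.map (homOfLE (X.basicOpen_le r)).op).hom n = 0 := by
    rw [← map_mul, hr n hn, map_zero]
  exact hu.mul_right_eq_zero.mp h0

theorem S18386 (X : Scheme.{u}) [IsNoetherian X] [ConnectedSpace X] (I : X.IdealSheafData)
    (hI : I ≠ ⊤) (k : ℕ) (h : I ^ k = I ^ (k + 1)) : I ^ k = ⊥ := by
  let T : Set X := {x | ∃ U : X.affineOpens, x ∈ U.1 ∧ (I ^ k).ideal U = ⊥}
  have hTopen : IsOpen T := by
    rw [isOpen_iff_forall_mem_open]
    rintro x ⟨U, hxU, hU⟩
    exact ⟨U.1, fun y hy => ⟨U, hy, hU⟩, U.1.2, hxU⟩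
  have hT : T = I.support := by
    ext x
    constructor
    · rintro ⟨U, hxU, hU⟩
      by_contra hx
      rw [SetLike.mem_coe, mem_support_iff_of_mem hxU, Scheme.mem_zeroLocus_iff] at hx
      push Not at hx
      obtain ⟨f, hf, hxf⟩ := hx
      have h1 : I.ideal (X.affineBasicOpen f) = ⊤ := by
        rw [← I.map_ideal_basicOpen U f]
        exact Ideal.eq_top_of_isUnit_mem _ (Ideal.mem_map_of_mem _ hf)
          (X.toRingedSpace.isUnit_res_basicOpen f)
      have h2 : (I ^ k).ideal (X.affineBasicOpen f) = ⊤ := by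
        rw [ideal_pow]
        show (I.ideal (X.affineBasicOpen f)) ^ k = ⊤
        rw [h1]
        exact Ideal.top_pow _ k
      have h3 : (I ^ k).ideal (X.affineBasicOpen f) = ⊥ := by
        refine ((I ^ k).map_ideal_basicOpen U f).symm.trans ?_
        show (Ideal.map (X.presheaf.map (homOfLE (X.basicOpen_le f)).op).hom ((I ^ k).ideal U) :
          Ideal Γ(X, X.basicOpen f)) = ⊥
        rw [hU, Ideal.map_bot]
      have h4 : (1 : Γ(X, X.basicOpen f)) = 0 := by
        have h5 : (1 : Γ(X, (X.affineBasicOpen f).1)) ∈ (I ^ k).ideal (X.affineBasicOpen f) := by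
          rw [h2]; exact Submodule.mem_top
        rw [h3] at h5
        exact h5
      have h5 : x ∈ X.basicOpen (1 : Γ(X, X.basicOpen f)) := by
        rw [Scheme.basicOpen_of_isUnit _ isUnit_one]; exact hxf
      rw [h4, Scheme.basicOpen_zero] at h5
      exact h5
    · intro hx
      obtain ⟨_, ⟨U, hU, rfl⟩, hxU, -⟩ :=
        X.isBasis_affineOpens.exists_subset_of_mem_open (Set.mem_univ x) isOpen_univ
      have hN : IsNoetherianRing Γ(X, U) := IsLocallyNoetherian.component_noetherian ⟨U, hU⟩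
      have hle : (I ^ k).ideal ⟨U, hU⟩ ≤ I.ideal ⟨U, hU⟩ • (I ^ k).ideal ⟨U, hU⟩ := by
        have h1 : (I ^ k).ideal ⟨U, hU⟩ = (I ^ (k + 1)).ideal ⟨U, hU⟩ :=
          congrArg (fun K : X.IdealSheafData => K.ideal ⟨U, hU⟩) h
        rw [smul_eq_mul]
        conv_lhs => rw [h1]
        simp only [ideal_pow, Pi.pow_apply]
        rw [pow_succ']
      obtain ⟨r, hr1, hr0⟩ := Submodule.exists_sub_one_mem_and_smul_eq_zero_of_fg_of_le_smul
        (I.ideal ⟨U, hU⟩) ((I ^ k).ideal ⟨U, hU⟩) (IsNoetherian.noetherian _) hle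
      have hxr : x ∈ X.basicOpen r := by
        rw [SetLike.mem_coe, mem_support_iff_of_mem (U := ⟨U, hU⟩) hxU,
          Scheme.mem_zeroLocus_iff] at hx
        have h1 := hx (r - 1) hr1
        rw [Scheme.mem_basicOpen X _ x hxU] at h1 ⊢
        have h2 : IsUnit ((X.presheaf.germ U x hxU).hom r +
            (-(X.presheaf.germ U x hxU).hom (r - 1))) := by
          rw [← map_neg, ← map_add]
          have : r + -(r - 1) = 1 := by ring
          rw [this, map_one]
          exact isUnit_one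
        rcases IsLocalRing.isUnit_or_isUnit_of_isUnit_add h2 with h3 | h3
        · exact h3
        · exact absurd (IsUnit.neg_iff _ |>.mp h3) h1
      exact ⟨X.affineBasicOpen r, hxr,
        map_ideal_basicOpen_eq_bot (I ^ k) ⟨U, hU⟩ r (fun n hn => hr0 n hn)⟩
  have hclopen : IsClopen T := ⟨hT ▸ I.support.isClosed, hTopen⟩
  have hne : T.Nonempty := by
    rw [hT, Set.nonempty_iff_ne_empty]
    intro hemp
    apply hI
    rw [← support_eq_bot_iff]
    exact Closeds.ext hemp
  have huniv : T = Set.univ := hclopen.eq_univ hne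
  have hall : ∀ x : X, ∃ U : X.affineOpens, x ∈ U.1 ∧ (I ^ k).ideal U = ⊥ := fun x =>
    (huniv ▸ Set.mem_univ x : x ∈ T)
  choose U hxU hU using hall
  apply ext_of_iSup_eq_top U
  · rw [eq_top_iff]
    intro x _
    exact Opens.mem_iSup.mpr ⟨x, hxU x⟩
  · intro x
    rw [hU x, ideal_bot]
    rfl

end Groth.Agent.Helper1.SchNoeth
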