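import Mathlib
import Groth.Prelude
import Groth.Agent.Lib.Helper1.NilK0A
import Groth.Agent.Lib.Helper4.ClTr2
import Groth.Agent.Lib.Helper1.CohACC
import Groth.Agent.Lib.Helper1.AffPushEpi
import Groth.Agent.Lib.Helper1.CohAbel
import Groth.Agent.Lib.Helper1.Dv21
import Groth.Agent.Lib.Helper1.PushQc
import Groth.Agent.Lib.Lead.PBQc

/-!
# `K₀(Coh X') ≅ K₀(Coh X)` for a surjective closed immersion `X' → X`, `X` Noetherian (helper1)

Geometric inputs for the dévissage engine `NilK0.main_abstract`: the unit `M → i_* i^* M` is an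
epimorphism on quasi-coherent modules, the counit `i^* i_* N → N` is an isomorphism, and the kernel
of the unit is `I·M`, with `I` nilpotent.
-/

set_option autoImplicit false
set_option backward.isDefEq.respectTransparency.types false
set_option synthInstance.maxHeartbeats 400000
set_option maxHeartbeats 1000000
set_option linter.style.haveILetI false
set_option linter.unusedSectionVars false
set_option linter.unusedVariables false
universe u
open CategoryTheory CategoryTheory.Limits AlgebraicGeometry TopologicalSpace Opposite TensorProduct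
open Groth.Agent.Lead.BCU Groth.Agent.Lib.Helper4.ReesAlg1 Groth.Agent.Lib.Helper4.ClTr2
open Groth.Agent.Helper1

namespace Groth.Agent.Helper1.NilK0G

section Alg
variable {R R' : Type u} [CommRing R] [CommRing R'] (φ : R →+* R') (hφ : Function.Surjective φ)
  {M N : Type u} [AddCommGroup M] [Module R M] [AddCommGroup N] [Module R' N]

include hφ in
theorem surjective_of_isBC (l : M → N) (hl : IsBC φ l) : Function.Surjective l := by
  intro n
  refine isBC_induction hl (fun n => ∃ m, l m = n) ⟨0, isBC_map_zero hl⟩ (fun m => ⟨m, rfl⟩)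
    ?_ ?_ n
  · rintro s _ ⟨m, rfl⟩
    obtain ⟨r, rfl⟩ := hφ s
    exact ⟨r • m, isBC_map_smul hl r m⟩
  · rintro _ _ ⟨m₁, rfl⟩ ⟨m₂, rfl⟩
    exact ⟨m₁ + m₂, isBC_map_add hl m₁ m₂⟩

include hφ in
theorem mem_of_isBC_eq_zero (l : M → N) (hl : IsBC φ l) (m : M) (hm : l m = 0) :
    m ∈ (RingHom.ker φ) • (⊤ : Submodule R M) := by
  letI := φ.toAlgebra
  letI : Module R N := Module.compHom N φ
  haveI : IsScalarTower R R' N := ⟨fun a a' n => by
    change (φ a * a') • n = φ a • a' • n
    exact mul_smul _ _ _⟩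
  obtain ⟨l', hl', hb⟩ := hl
  have hkQ : ∀ r, φ r = 0 → ∀ x : M ⧸ ((RingHom.ker φ) • (⊤ : Submodule R M)), r • x = 0 := by
    intro r hr x
    obtain ⟨y, rfl⟩ := Submodule.mkQ_surjective _ x
    rw [← map_smul, Submodule.mkQ_apply, Submodule.Quotient.mk_eq_zero]
    exact Submodule.smul_mem_smul (RingHom.mem_ker.2 hr) Submodule.mem_top
  have hinj := (bijective_of_isBC φ hφ
    (fun x : M ⧸ ((RingHom.ker φ) • (⊤ : Submodule R M)) => (1 : R') ⊗ₜ[R] x)
    (isBC_tmul φ) hkQ).1
  let g : N →ₗ[R'] R' ⊗[R] (M ⧸ ((RingHom.ker φ) • (⊤ : Submodule R M))) :=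
    hb.lift ((TensorProduct.mk R R' _ 1).comp (Submodule.mkQ _))
  have hg : g (l' m) =
      (1 : R') ⊗ₜ[R] (Submodule.mkQ ((RingHom.ker φ) • (⊤ : Submodule R M)) m) :=
    hb.lift_eq _ m
  rw [hl', hm, map_zero] at hg
  have h0 : Submodule.mkQ ((RingHom.ker φ) • (⊤ : Submodule R M)) m = 0 := by
    apply hinj
    show (1 : R') ⊗ₜ[R] _ = (1 : R') ⊗ₜ[R] (0 : M ⧸ ((RingHom.ker φ) • (⊤ : Submodule R M)))
    rw [← hg, TensorProduct.tmul_zero]
  exact (Submodule.Quotient.mk_eq_zero _).1 h0

end Alg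

section Geom
variable {X X' : Scheme.{u}} (i : X' ⟶ X) [IsClosedImmersion i]

/-- the pullback–pushforward adjunction -/
noncomputable abbrev padj : Scheme.Modules.pullback i ⊣ Scheme.Modules.pushforward i :=
  Scheme.Modules.pullbackPushforwardAdjunction i

theorem unit_app_eq (M : X.Modules) (V : X.Opens) (m : Γ(M, V)) :
    unitRes i M (le_refl (i ⁻¹ᵁ V)) m =
      ((Scheme.Modules.pullbackPushforwardAdjunction i).unit.app M).app V m := by
  unfold unitRes
  exact Groth.Agent.Helper1.QcCech.res_self _ _ _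

theorem isBC_unit (M : X.Modules) [M.IsQuasicoherent] {V : X.Opens} (hV : IsAffineOpen V) :
    IsBC (i.app V).hom (unitRes i M (le_refl (i ⁻¹ᵁ V))) := by
  have hV' : IsAffineOpen (i ⁻¹ᵁ V) := hV.preimage i
  have h1 := isBC_unitRes i M hV hV' (le_refl _)
  have e : (i.appLE V (i ⁻¹ᵁ V) (le_refl _)) = i.app V := (Scheme.Hom.app_eq_appLE _).symm
  rw [e] at h1
  exact h1

theorem unit_surj (M : X.Modules) [M.IsQuasicoherent] {V : X.Opens} (hV : IsAffineOpen V) :
    Function.Surjective
      (((Scheme.Modules.pullbackPushforwardAdjunction i).unit.app M).app V) := by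
  have hs := surjective_of_isBC (i.app V).hom (i.app_surjective V hV) _ (isBC_unit i M hV)
  intro y
  obtain ⟨m, hm⟩ := hs y
  exact ⟨m, (unit_app_eq i M V m).symm.trans hm⟩

theorem unit_ker (M : X.Modules) [M.IsQuasicoherent] {V : X.Opens} (hV : IsAffineOpen V)
    (m : Γ(M, V))
    (hm : ((Scheme.Modules.pullbackPushforwardAdjunction i).unit.app M).app V m = 0) :
    m ∈ (RingHom.ker (i.app V).hom) • (⊤ : Submodule Γ(X, V) Γ(M, V)) :=
  mem_of_isBC_eq_zero (i.app V).hom (i.app_surjective V hV) _ (isBC_unit i M hV) m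
    ((unit_app_eq i M V m).trans hm)

theorem isCoh_pull (M : X.Modules) (hM : Coh.IsCoh M) :
    Coh.IsCoh ((Scheme.Modules.pullback i).obj M) := by
  haveI : M.IsQuasicoherent := hM.1
  exact ⟨Groth.Agent.Lead.PB.isQuasicoherent_pullback i M,
    Groth.Agent.Lead.PB.isFT_pullback i M hM.2⟩

theorem epi_unit (M : X.Modules) (hM : Coh.IsCoh M) : Epi (NilK0.η (padj i) M) := by
  haveI : M.IsQuasicoherent := hM.1
  exact AffPushEpi.epi_of_surjective_on_affine _ (fun U hU => unit_surj i M hU)

theorem isIso_counit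
    (hi : ∀ N : X'.Modules, Coh.IsCoh N → Coh.IsCoh ((Scheme.Modules.pushforward i).obj N))
    (N : X'.Modules) (hN : Coh.IsCoh N) : IsIso (NilK0.ε (padj i) N) := by
  have hRN := hi N hN
  haveI : ((Scheme.Modules.pushforward i).obj N).IsQuasicoherent := hRN.1
  show IsIso ((Scheme.Modules.pullbackPushforwardAdjunction i).counit.app N)
  apply isIso_of_bijective_nhds
  intro U' x' hx'
  obtain ⟨Wo, hWo, hWU⟩ := i.isClosedEmbedding.isInducing.isOpen_iff.1 U'.isOpen
  have hxW : i x' ∈ Wo := by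
    have : x' ∈ i ⁻¹' Wo := by rw [hWU]; exact hx'
    exact this
  obtain ⟨_, ⟨V, hV, rfl⟩, hxV, hVW⟩ :=
    X.isBasis_affineOpens.exists_subset_of_mem_open hxW hWo
  refine ⟨i ⁻¹ᵁ V, ?_, hxV, ?_⟩
  · intro y hy
    have : y ∈ i ⁻¹' Wo := hVW hy
    rw [hWU] at this
    exact this
  · have hk : ∀ r, (i.app V).hom r = 0 →
        ∀ s : Γ((Scheme.Modules.pushforward i).obj N, V), r • s = 0 := by
      intro r hr s
      show ((i.app V).hom r : Γ(X', i ⁻¹ᵁ V)) • (show Γ(N, i ⁻¹ᵁ V) from s) = 0
      rw [hr, zero_smul]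
    have h2 := bijective_of_isBC (i.app V).hom (i.app_surjective V hV) _
      (isBC_unit i ((Scheme.Modules.pushforward i).obj N) hV) hk
    have h3 : (unitRes i ((Scheme.Modules.pushforward i).obj N) (le_refl (i ⁻¹ᵁ V))) =
        fun m => ((Scheme.Modules.pullbackPushforwardAdjunction i).unit.app
          ((Scheme.Modules.pushforward i).obj N)).app V m := funext (unit_app_eq i _ V)
    rw [h3] at h2
    have htri : ∀ s : Γ((Scheme.Modules.pushforward i).obj N, V),
        ((Scheme.Modules.pullbackPushforwardAdjunction i).counit.app N).app (i ⁻¹ᵁ V)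
          (((Scheme.Modules.pullbackPushforwardAdjunction i).unit.app
            ((Scheme.Modules.pushforward i).obj N)).app V s) = s := by
      intro s
      have h := (Scheme.Modules.pullbackPushforwardAdjunction i).right_triangle_components N
      have := congrArg (fun ψ => Scheme.Modules.Hom.app ψ V s) h
      exact this
    constructor
    · intro a b hab
      obtain ⟨a', rfl⟩ := h2.2 a
      obtain ⟨b', rfl⟩ := h2.2 b
      rw [htri, htri] at hab
      rw [hab]
    · intro s
      exact ⟨_, htri s⟩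

theorem coh_T
    (hi : ∀ N : X'.Modules, Coh.IsCoh N → Coh.IsCoh ((Scheme.Modules.pushforward i).obj N))
    [IsLocallyNoetherian X] (M : X.Modules) (hM : Coh.IsCoh M) :
    Coh.IsCoh (NilK0.Tob (padj i) M) := by
  show Coh.IsCoh (kernel (NilK0.η (padj i) M))
  exact FtLocal.isCoh_kernel hM (hi _ (isCoh_pull i M hM)) _

section Kill
variable {ι : Type u} (W : ι → X.affineOpens)

/-- `M` is killed, on the members of the cover, by the `n`-th power of the ideal of `X'` -/
def Kill (n : ℕ) (M : X.Modules) : Prop :=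
  ∀ k, ∀ a ∈ (RingHom.ker (i.app (W k).1).hom) ^ n, ∀ m : Γ(M, (W k).1), a • m = 0

theorem kill_T (M : X.Modules) (hM : Coh.IsCoh M) (n : ℕ) (h : Kill i W (n + 1) M) :
    Kill i W n (NilK0.Tob (padj i) M) := by
  haveI : M.IsQuasicoherent := hM.1
  intro k a ha t
  have hinj := FtLocal.app_injective_of_mono (NilK0.Tι (padj i) M) (W k).1
  apply hinj
  rw [Scheme.Modules.Hom.app_smul, map_zero]
  have h0 : ((Scheme.Modules.pullbackPushforwardAdjunction i).unit.app M).app (W k).1
      ((NilK0.Tι (padj i) M).app (W k).1 t) = 0 := by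
    have := congrArg (fun ψ => Scheme.Modules.Hom.app ψ (W k).1 t) (NilK0.Tι_unit (padj i) M)
    exact this
  have hmem := unit_ker i M (W k).2 _ h0
  refine Submodule.smul_induction_on (p := fun x => a • x = 0) hmem (fun b hb m₀ _ => ?_)
    (fun x y hx hy => ?_)
  · rw [← mul_smul]
    exact h k (a * b) (by rw [pow_succ]; exact Ideal.mul_mem_mul ha hb) m₀
  · rw [smul_add, hx, hy, add_zero]

theorem isZero_of_kill0 (M : X.Modules) [M.IsQuasicoherent] (hW : ⨆ k, (W k).1 = ⊤)
    (h : Kill i W 0 M) : IsZero M := by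
  refine CohACC.isZero_of_affine_cover M (fun k => (W k).1) (fun k => (W k).2) hW (fun k s => ?_)
  have := h k 1 (by rw [pow_zero, Ideal.one_eq_top]; trivial) s
  rwa [one_smul] at this

theorem nil_of_kill
    (hi : ∀ N : X'.Modules, Coh.IsCoh N → Coh.IsCoh ((Scheme.Modules.pushforward i).obj N))
    [IsLocallyNoetherian X] [PreservesFiniteLimits (Scheme.Modules.pushforward i)]
    [PreservesFiniteColimits (Scheme.Modules.pushforward i)]
    (hW : ⨆ k, (W k).1 = ⊤) (n : ℕ) :
    ∀ M : X.Modules, Coh.IsCoh M → Kill i W n M → NilK0.Nil (padj i) n M := by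
  induction n with
  | zero =>
    intro M hM h
    haveI : M.IsQuasicoherent := hM.1
    exact (NilK0.Nil_zero _ M).2 (isZero_of_kill0 i W M hW h)
  | succ n ih =>
    intro M hM h
    exact (NilK0.Nil_succ _ n M).2 (ih _ (coh_T i hi M hM) (kill_T i W M hM n h))

theorem ker_le_nilradical [Surjective i] {V : X.Opens} (hV : IsAffineOpen V) :
    RingHom.ker (i.app V).hom ≤ (⊥ : Ideal Γ(X, V)).radical := by
  intro a ha
  have ha0 : (i.app V) a = 0 := RingHom.mem_ker.1 ha
  have h1 : i ⁻¹ᵁ X.basicOpen a = ⊥ := by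
    rw [Scheme.preimage_basicOpen, ha0, Scheme.basicOpen_zero]
  have h2 : X.basicOpen a = ⊥ := by
    rw [eq_bot_iff]
    intro x hx
    obtain ⟨x', rfl⟩ := i.surjective x
    have hx' : x' ∈ i ⁻¹ᵁ X.basicOpen a := hx
    rw [h1] at hx'
    exact hx'
  obtain ⟨n, hn⟩ := (Scheme.isNilpotent_iff_basicOpen_eq_bot_of_isCompact hV.isCompact a).2 h2
  exact Ideal.mem_radical_iff.2 ⟨n, by rw [hn]; exact Ideal.zero_mem _⟩

theorem exists_pow_ker_le_bot [Surjective i] [IsLocallyNoetherian X] {V : X.Opens}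
    (hV : IsAffineOpen V) : ∃ n : ℕ, (RingHom.ker (i.app V).hom) ^ n ≤ ⊥ := by
  haveI : IsNoetherianRing Γ(X, V) := IsLocallyNoetherian.component_noetherian ⟨V, hV⟩
  exact Ideal.exists_pow_le_of_le_radical_of_fg (ker_le_nilradical i hV)
    (IsNoetherian.noetherian _)

theorem exists_kill [Surjective i] [IsLocallyNoetherian X] [Finite ι] :
    ∃ n : ℕ, ∀ M : X.Modules, Kill i W n M := by
  choose n hn using fun k => exists_pow_ker_le_bot i (W k).2
  obtain ⟨N, hN⟩ := (Set.finite_range n).bddAbove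
  refine ⟨N, fun M k a ha m => ?_⟩
  have h1 : a ∈ (⊥ : Ideal Γ(X, (W k).1)) :=
    hn k (Ideal.pow_le_pow_right (hN (Set.mem_range_self k)) ha)
  rw [Ideal.mem_bot] at h1
  rw [h1, zero_smul]

end Kill

theorem goodCoh (Y : Scheme.{u}) [IsLocallyNoetherian Y] :
    NilK0.Good (fun M : Y.Modules => Coh.IsCoh M) where
  zero := fun M hM => Dv.isCoh_of_isZero hM _ (Dv.isCoh_structureModule Y)
  ker := fun f hM hN => FtLocal.isCoh_kernel hM hN f
  coker := fun f hM hN => FtLocal.isCoh_cokernel hM hN f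

/-- **`K₀(Coh X') → K₀(Coh X)` is bijective for a surjective closed immersion** -/
theorem nil_main [IsNoetherian X] [Surjective i]
    [(Scheme.Modules.pushforward i).Additive]
    [PreservesFiniteLimits (Scheme.Modules.pushforward i)]
    [PreservesFiniteColimits (Scheme.Modules.pushforward i)]
    (hi : ∀ M : X'.Modules, Coh.IsCoh M → Coh.IsCoh ((Scheme.Modules.pushforward i).obj M)) :
    Function.Bijective (SGA6.mapSub (Scheme.Modules.pushforward i)
      (fun M : X'.Modules => Coh.IsCoh M) (fun M : X.Modules => Coh.IsCoh M) hi) := by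
  haveI : IsLocallyNoetherian X' := LocallyOfFiniteType.isLocallyNoetherian i
  obtain ⟨ι, hfin, W, hW⟩ := SchNoeth.exists_finite_affine_cover X
  haveI := hfin
  obtain ⟨n, hn⟩ := exists_kill i W
  have H : NilK0.Setup (padj i) (fun M : X.Modules => Coh.IsCoh M)
      (fun M : X'.Modules => Coh.IsCoh M) :=
    { hP := goodCoh X
      hQ := goodCoh X'
      hL := fun M hM => isCoh_pull i M hM
      hR := hi
      hη := fun M hM => epi_unit i M hM
      hε := fun N hN => isIso_counit i hi N hN }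
  exact NilK0.main_abstract (padj i) H n (fun M hM => nil_of_kill i W hi hW n M hM (hn M))

end Geom

end Groth.Agent.Helper1.NilK0G
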