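import Mathlib
import Groth.Prelude
import Groth.Agent.Lib.Helper1.AffLineB
import Groth.Agent.Lib.Helper1.NilK0B
import Groth.Agent.Lib.Helper1.K0Loc1
import Groth.Agent.Lib.Helper1.FinPush
import Groth.Agent.Lib.Helper5.Misc.ClosedPushMod

/-!
# `K₀(Coh 𝔸¹_X) → K₀(Coh 𝔾_{m,X})` is bijective (helper1)

By the localization sequence it suffices that the push-forward along the zero section
`s₀ : X → 𝔸¹_X` vanishes on `K₀`: for `N` coherent on `X`, multiplication by the coordinate `t` is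
injective on `p^* N` with cokernel `s₀_* s₀^* p^* N ≅ s₀_* N`.
-/

set_option autoImplicit false
set_option backward.isDefEq.respectTransparency.types false
set_option synthInstance.maxHeartbeats 400000
set_option maxHeartbeats 1000000
set_option linter.style.haveILetI false
set_option linter.unusedSectionVars false
set_option linter.unusedVariables false
universe u
open CategoryTheory CategoryTheory.Limits AlgebraicGeometry TopologicalSpace Opposite

namespace Groth.Agent.Helper1.AffLine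

open Groth.Agent.Lead.BCU Groth.Agent.Helper3.ExtReg Groth.Agent.Helper1
  Groth.Agent.Helper1.NilK0G

noncomputable section

theorem isNoetherian_AL (X : Scheme.{u}) [IsNoetherian X] : IsNoetherian (AL X) := by
  haveI : IsLocallyNoetherian (AL X) := LocallyOfFiniteType.isLocallyNoetherian (pp X)
  haveI : CompactSpace (AL X) := QuasiCompact.compactSpace_of_compactSpace (pp X)
  exact { }

section Sec
variable {X : Scheme.{u}} (N : X.Modules) [N.IsQuasicoherent] (W : X.Opens)
  (hW : IsAffineOpen W)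

include hW in
theorem isBC_pull :
    IsBC ((pp X).app W).hom (unitRes (pp X) N (le_refl ((pp X) ⁻¹ᵁ W))) := by
  have hV : IsAffineOpen ((pp X) ⁻¹ᵁ W) := hW.preimage (pp X)
  have h1 := isBC_unitRes (pp X) N hW hV (le_refl _)
  have e : ((pp X).appLE W ((pp X) ⁻¹ᵁ W) (le_refl _)) = (pp X).app W :=
    (Scheme.Hom.app_eq_appLE _).symm
  rw [e] at h1
  exact h1

include hW in
theorem smul_inj (m : Γ((Scheme.Modules.pullback (pp X)).obj N, (pp X) ⁻¹ᵁ W))
    (hm : resTop (tt X) ((pp X) ⁻¹ᵁ W) • m = 0) : m = 0 :=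
  smul_injective_of_isBC ((pp X).app W).hom (resTop (tt X) ((pp X) ⁻¹ᵁ W)) (poly_bij W hW) _
    (isBC_pull N W hW) m hm

end Sec

section K
variable (X : Scheme.{u})

theorem cover_top : (⨆ W : X.affineOpens, (pp X) ⁻¹ᵁ W.1) = ⊤ := by
  rw [eq_top_iff]
  intro y _
  obtain ⟨_, ⟨W, hW, rfl⟩, hyW, -⟩ :=
    X.isBasis_affineOpens.exists_subset_of_mem_open (Set.mem_univ ((pp X) y)) isOpen_univ
  exact Opens.mem_iSup.2 ⟨⟨W, hW⟩, hyW⟩

variable [IsNoetherian X]

theorem cl_push_pull_eq_zero (F : (AL X).Modules) (hF : Coh.IsCoh F)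
    (hinj : ∀ (W : X.Opens), IsAffineOpen W → ∀ m : Γ(F, (pp X) ⁻¹ᵁ W),
      resTop (tt X) ((pp X) ⁻¹ᵁ W) • m = 0 → m = 0) :
    KZero.clSub (fun M : (AL X).Modules => Coh.IsCoh M)
      ((Scheme.Modules.pushforward (s0 X)).obj ((Scheme.Modules.pullback (s0 X)).obj F)) = 0 := by
  haveI := isNoetherian_AL X
  haveI : F.IsQuasicoherent := hF.1
  have hi : ∀ M : X.Modules, Coh.IsCoh M →
      Coh.IsCoh ((Scheme.Modules.pushforward (s0 X)).obj M) :=
    fun M hM => FinPush.isCoh_pushforward (s0 X) M hM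
  have hG : Coh.IsCoh ((Scheme.Modules.pullback (s0 X)).obj F) := isCoh_pull (s0 X) F hF
  have hRG := hi _ hG
  have hkill : smulHom (tt X)
      ((Scheme.Modules.pushforward (s0 X)).obj ((Scheme.Modules.pullback (s0 X)).obj F)) = 0 := by
    refine (kills_iff _ _).2 (fun U m => ?_)
    show (((s0 X).app U).hom (resTop (tt X) U) : Γ(X, (s0 X) ⁻¹ᵁ U)) •
      (show Γ((Scheme.Modules.pullback (s0 X)).obj F, (s0 X) ⁻¹ᵁ U) from m) = 0
    rw [s0_app_resTop X U, zero_smul]
  have h0 : smulHom (tt X) F ≫ NilK0.η (padj (s0 X)) F = 0 := by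
    have hnat : NilK0.η (padj (s0 X)) F ≫ smulHom (tt X)
        ((Scheme.Modules.pushforward (s0 X)).obj ((Scheme.Modules.pullback (s0 X)).obj F)) =
        smulHom (tt X) F ≫ NilK0.η (padj (s0 X)) F :=
      (smulNat (tt X)).naturality (NilK0.η (padj (s0 X)) F)
    rw [← hnat, hkill, comp_zero]
  obtain ⟨lam, hlam⟩ : ∃ lam : F ⟶ NilK0.Tob (padj (s0 X)) F,
      lam ≫ NilK0.Tι (padj (s0 X)) F = smulHom (tt X) F :=
    ⟨NilK0.Tlift (padj (s0 X)) _ h0, NilK0.Tlift_ι _ _ _⟩
  have hK : Coh.IsCoh (NilK0.Tob (padj (s0 X)) F) := coh_T (s0 X) hi F hF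
  haveI : (NilK0.Tob (padj (s0 X)) F).IsQuasicoherent := hK.1
  have hmono_t : Mono (smulHom (tt X) F) := by
    have hK0 : Coh.IsCoh (kernel (smulHom (tt X) F)) := FtLocal.isCoh_kernel hF hF _
    haveI : (kernel (smulHom (tt X) F)).IsQuasicoherent := hK0.1
    have hz : IsZero (kernel (smulHom (tt X) F)) := by
      refine CohACC.isZero_of_affine_cover _ (fun W : X.affineOpens => (pp X) ⁻¹ᵁ W.1)
        (fun W => W.2.preimage (pp X)) (cover_top X) ?_
      intro W s
      apply FtLocal.app_injective_of_mono (kernel.ι (smulHom (tt X) F)) ((pp X) ⁻¹ᵁ W.1)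
      rw [map_zero]
      apply hinj W.1 W.2
      have h := congrArg (fun ψ => Scheme.Modules.Hom.app ψ ((pp X) ⁻¹ᵁ W.1) s)
        (kernel.condition (smulHom (tt X) F))
      exact h
    exact Preadditive.mono_of_kernel_zero (hz.eq_of_src _ _)
  haveI : Mono (smulHom (tt X) F) := hmono_t
  haveI hmono : Mono lam := by
    haveI : Mono (lam ≫ NilK0.Tι (padj (s0 X)) F) := by rw [hlam]; infer_instance
    exact mono_of_mono lam (NilK0.Tι (padj (s0 X)) F)
  haveI hepi : Epi lam := by
    have hQ : Coh.IsCoh (cokernel lam) := FtLocal.isCoh_cokernel hF hK lam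
    haveI : (cokernel lam).IsQuasicoherent := hQ.1
    have hz : IsZero (cokernel lam) := by
      refine CohACC.isZero_of_affine_cover _ (fun W : X.affineOpens => (pp X) ⁻¹ᵁ W.1)
        (fun W => W.2.preimage (pp X)) (cover_top X) ?_
      intro W q
      have hV : IsAffineOpen ((pp X) ⁻¹ᵁ W.1) := W.2.preimage (pp X)
      obtain ⟨k, rfl⟩ := AffPushEpi.app_surjective_of_epi (cokernel.π lam) _ hV q
      have h1 : ((Scheme.Modules.pullbackPushforwardAdjunction (s0 X)).unit.app F).app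
          ((pp X) ⁻¹ᵁ W.1) ((NilK0.Tι (padj (s0 X)) F).app ((pp X) ⁻¹ᵁ W.1) k) = 0 := by
        have := congrArg (fun ψ => Scheme.Modules.Hom.app ψ ((pp X) ⁻¹ᵁ W.1) k)
          (NilK0.Tι_unit (padj (s0 X)) F)
        exact this
      have hmem := unit_ker (s0 X) F hV _ h1
      rw [ker_s0_app W.1 W.2] at hmem
      obtain ⟨m, hm⟩ : ∃ m : Γ(F, (pp X) ⁻¹ᵁ W.1), resTop (tt X) ((pp X) ⁻¹ᵁ W.1) • m =
          (NilK0.Tι (padj (s0 X)) F).app ((pp X) ⁻¹ᵁ W.1) k := by
        refine Submodule.smul_induction_on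
          (p := fun x => ∃ m : Γ(F, (pp X) ⁻¹ᵁ W.1), resTop (tt X) ((pp X) ⁻¹ᵁ W.1) • m = x)
          hmem (fun r hr n _ => ?_) (fun x y hx hy => ?_)
        · obtain ⟨a, rfl⟩ := Ideal.mem_span_singleton'.1 hr
          exact ⟨a • n, by rw [smul_smul, mul_comm]⟩
        · obtain ⟨a, rfl⟩ := hx
          obtain ⟨b, rfl⟩ := hy
          exact ⟨a + b, smul_add _ _ _⟩
      have hk : lam.app ((pp X) ⁻¹ᵁ W.1) m = k := by
        apply FtLocal.app_injective_of_mono (NilK0.Tι (padj (s0 X)) F) ((pp X) ⁻¹ᵁ W.1)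
        rw [← hm]
        have := congrArg (fun ψ => Scheme.Modules.Hom.app ψ ((pp X) ⁻¹ᵁ W.1) m) hlam
        exact this
      rw [← hk]
      have := congrArg (fun ψ => Scheme.Modules.Hom.app ψ ((pp X) ⁻¹ᵁ W.1) m)
        (cokernel.condition lam)
      exact this
    exact Preadditive.epi_of_cokernel_zero (hz.eq_of_tgt _ _)
  haveI : IsIso lam := isIso_of_mono_of_epi lam
  have ses := NilK0.ses_T (padj (s0 X)) F (epi_unit (s0 X) F hF)
  have e1 := NilK0.clSub_ses (fun M : (AL X).Modules => Coh.IsCoh M) _ ses hK hF hRG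
  have e1' : KZero.clSub (fun M : (AL X).Modules => Coh.IsCoh M) F =
      KZero.clSub (fun M : (AL X).Modules => Coh.IsCoh M) (NilK0.Tob (padj (s0 X)) F) +
      KZero.clSub (fun M : (AL X).Modules => Coh.IsCoh M)
        ((Scheme.Modules.pushforward (s0 X)).obj ((Scheme.Modules.pullback (s0 X)).obj F)) := e1
  have e2 := NilK0.cl_iso (goodCoh (AL X)) (asIso lam) hF hK
  rw [← e2] at e1'
  exact left_eq_add.1 e1'

theorem cl_push_s0_eq_zero (N : X.Modules) (hN : Coh.IsCoh N) :
    KZero.clSub (fun M : (AL X).Modules => Coh.IsCoh M)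
      ((Scheme.Modules.pushforward (s0 X)).obj N) = 0 := by
  haveI := isNoetherian_AL X
  haveI : N.IsQuasicoherent := hN.1
  have hi : ∀ M : X.Modules, Coh.IsCoh M →
      Coh.IsCoh ((Scheme.Modules.pushforward (s0 X)).obj M) :=
    fun M hM => FinPush.isCoh_pushforward (s0 X) M hM
  have hF : Coh.IsCoh ((Scheme.Modules.pullback (pp X)).obj N) :=
    ⟨Groth.Agent.Lead.PB.isQuasicoherent_pullback (pp X) N,
      Groth.Agent.Lead.PB.isFT_pullback (pp X) N hN.2⟩
  have h0 := cl_push_pull_eq_zero X _ hF (fun W hW m hm => smul_inj N W hW m hm)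
  have e : (Scheme.Modules.pullback (s0 X)).obj ((Scheme.Modules.pullback (pp X)).obj N) ≅ N :=
    (Scheme.Modules.pullbackComp (s0 X) (pp X)).app N ≪≫
      (Scheme.Modules.pullbackCongr (s0_pp X)).app N ≪≫ (Scheme.Modules.pullbackId X).app N
  have e' := (Scheme.Modules.pushforward (s0 X)).mapIso e
  rw [← NilK0.cl_iso (goodCoh (AL X)) e' (hi _ (isCoh_pull (s0 X) _ hF)) (hi N hN)]
  exact h0

/-- **`K₀(Coh 𝔸¹_X) → K₀(Coh D(t))` is bijective** -/
theorem affLine_main {U : Scheme.{u}} (j : U ⟶ AL X) [IsOpenImmersion j]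
    (hU : Set.range j = (((AL X).basicOpen (tt X) : (AL X).Opens) : Set (AL X)))
    [PreservesFiniteLimits (Scheme.Modules.restrictFunctor j)]
    (hj : ∀ M : (AL X).Modules, Coh.IsCoh M →
      Coh.IsCoh ((Scheme.Modules.restrictFunctor j).obj M)) :
    Function.Bijective (SGA6.mapSub (Scheme.Modules.restrictFunctor j)
      (fun M : (AL X).Modules => Coh.IsCoh M) (fun M : U.Modules => Coh.IsCoh M) hj) := by
  haveI := isNoetherian_AL X
  haveI : PreservesFiniteColimits (Scheme.Modules.pushforward (s0 X)) := by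
    haveI : PreservesColimitsOfSize.{u, u} (Scheme.Modules.pushforward (s0 X)) :=
      Groth.Agent.Lib.Helper5.ClosedPushMod.preservesColimits_pushforward (s0 X)
    exact PreservesColimitsOfSize.preservesFiniteColimits _
  haveI : PreservesFiniteLimits (Scheme.Modules.pushforward (s0 X)) := by
    haveI : PreservesLimitsOfSize.{u, u} (Scheme.Modules.pushforward (s0 X)) :=
      (Scheme.Modules.pullbackPushforwardAdjunction (s0 X)).rightAdjoint_preservesLimits
    exact PreservesLimitsOfSize.preservesFiniteLimits _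
  haveI : (Scheme.Modules.pushforward (s0 X)).Additive :=
    Functor.additive_of_preserves_binary_products _
  have hi : ∀ M : X.Modules, Coh.IsCoh M →
      Coh.IsCoh ((Scheme.Modules.pushforward (s0 X)).obj M) :=
    fun M hM => FinPush.isCoh_pushforward (s0 X) M hM
  have hU' : Set.range j = (Set.range (s0 X))ᶜ := by
    rw [range_s0, compl_compl]; exact hU
  obtain ⟨hsurj, hker⟩ := K0Loc.loc_main (s0 X) j hU' hi hj
  have hzero : SGA6.mapSub (Scheme.Modules.pushforward (s0 X))
      (fun M : X.Modules => Coh.IsCoh M) (fun M : (AL X).Modules => Coh.IsCoh M) hi = 0 := by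
    apply NilK0.k0_hom_ext
    intro N hN
    rw [NilK0.mapSub_cl _ _ _ hi N hN, AddMonoidHom.zero_apply]
    exact cl_push_s0_eq_zero X N hN
  refine ⟨?_, hsurj⟩
  rw [injective_iff_map_eq_zero]
  intro y hy
  have hy' : y ∈ (SGA6.mapSub (Scheme.Modules.restrictFunctor j)
      (fun M : (AL X).Modules => Coh.IsCoh M) (fun M : U.Modules => Coh.IsCoh M) hj).ker := hy
  rw [hker, hzero] at hy'
  obtain ⟨z, hz⟩ := hy'
  rw [← hz, AddMonoidHom.zero_apply]

end K

end

end Groth.Agent.Helper1.AffLine
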