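import Mathlib
import Groth.Prelude
import Groth.Agent.Lib.Lead.PuncAff3

set_option autoImplicit false
set_option backward.isDefEq.respectTransparency.types false
set_option synthInstance.maxHeartbeats 400000
set_option linter.style.haveILetI false
set_option linter.unusedSectionVars false
set_option linter.unusedVariables false

universe u

open CategoryTheory CategoryTheory.Limits AlgebraicGeometry TopologicalSpace

namespace Groth.Agent.Helper1.AffOpenFin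

section Top
variable {X : Type*} [TopologicalSpace X]

/-- maximal points (for generization) of a set -/
structure IsMaxPt (Z : Set X) (ξ : X) : Prop where
  mem : ξ ∈ Z
  max : ∀ y ∈ Z, y ⤳ ξ → y = ξ

theorem finite_maxPts [NoetherianSpace X] [QuasiSober X] [T0Space X] {Z : Set X}
    (hZ : IsClosed Z) : {ξ : X | IsMaxPt Z ξ}.Finite := by
  obtain ⟨T, hTfin, hTcl, hTirr, hZT⟩ :=
    NoetherianSpace.exists_finite_set_isClosed_irreducible hZ
  have hsub : {ξ : X | IsMaxPt Z ξ} ⊆ ⋃ t ∈ T, {ξ | closure {ξ} = t} := by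
    rintro ξ ⟨hξZ, hξmax⟩
    have hξ' : ξ ∈ ⋃₀ T := by rw [← hZT]; exact hξZ
    obtain ⟨t, htT, hξt⟩ := Set.mem_sUnion.mp hξ'
    obtain ⟨η, hη⟩ := QuasiSober.sober (hTirr t htT) (hTcl t htT)
    have h1 : η ⤳ ξ := hη.specializes hξt
    have hηZ : η ∈ Z := by rw [hZT]; exact Set.mem_sUnion.mpr ⟨t, htT, hη.mem⟩
    have h2 : η = ξ := hξmax η hηZ h1
    refine Set.mem_iUnion₂.mpr ⟨t, htT, ?_⟩
    show closure {ξ} = t
    rw [← h2]; exact hη.def
  refine Set.Finite.subset (Set.Finite.biUnion hTfin (fun t _ => Set.Subsingleton.finite ?_)) hsub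
  intro a ha b hb
  have hab : Inseparable a b := by
    rw [inseparable_iff_closure_eq]; exact Eq.trans ha (Eq.symm hb)
  exact hab.eq

theorem exists_maxPt_specializes [NoetherianSpace X] [QuasiSober X] [T0Space X] {Z : Set X}
    (hZ : IsClosed Z) (z : X) (hz : z ∈ Z) : ∃ ξ, IsMaxPt Z ξ ∧ ξ ⤳ z := by
  obtain ⟨T, hTfin, hTcl, hTirr, hZT⟩ :=
    NoetherianSpace.exists_finite_set_isClosed_irreducible hZ
  have hz' : z ∈ ⋃₀ T := by rw [← hZT]; exact hz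
  obtain ⟨t₀, ht₀T, hzt₀⟩ := Set.mem_sUnion.mp hz'
  obtain ⟨t, ht₀t, htmax⟩ := hTfin.exists_le_maximal ht₀T
  obtain ⟨ξ, hξ⟩ := QuasiSober.sober (hTirr t htmax.prop) (hTcl t htmax.prop)
  have hξZ : ξ ∈ Z := by rw [hZT]; exact Set.mem_sUnion.mpr ⟨t, htmax.prop, hξ.mem⟩
  refine ⟨ξ, ⟨hξZ, ?_⟩, hξ.specializes (ht₀t hzt₀)⟩
  intro y hyZ hyξ
  have hy' : y ∈ ⋃₀ T := by rw [← hZT]; exact hyZ
  obtain ⟨t₁, ht₁T, hyt₁⟩ := Set.mem_sUnion.mp hy'
  have hsub : t ⊆ t₁ := by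
    intro w hw
    have hξw : ξ ⤳ w := hξ.specializes hw
    exact (hyξ.trans hξw).mem_closed (hTcl t₁ ht₁T) hyt₁
  have hle : t₁ ⊆ t := htmax.le_of_ge ht₁T hsub
  have hξy : ξ ⤳ y := hξ.specializes (hle hyt₁)
  exact (hyξ.antisymm hξy).eq

theorem mem_of_dense_of_max [NoetherianSpace X] [QuasiSober X] [T0Space X] {U : Set X}
    (hUo : IsOpen U) (hUd : Dense U) (y : X) (hy : ∀ z, z ⤳ y → z = y) : y ∈ U := by
  have hfin := finite_maxPts (isClosed_univ (X := X))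
  have hWo : IsOpen ((⋃ ξ ∈ {ξ : X | IsMaxPt (Set.univ : Set X) ξ} \ {y}, closure {ξ})ᶜ) :=
    (Set.Finite.isClosed_biUnion (hfin.subset Set.sdiff_subset)
      (fun _ _ => isClosed_closure)).isOpen_compl
  have hyW : y ∈ (⋃ ξ ∈ {ξ : X | IsMaxPt (Set.univ : Set X) ξ} \ {y}, closure {ξ})ᶜ := by
    intro hcon
    obtain ⟨ξ, hξ, hyξ⟩ := Set.mem_iUnion₂.mp hcon
    exact hξ.2 (Set.mem_singleton_iff.mpr (hy ξ (specializes_iff_mem_closure.mpr hyξ)))
  obtain ⟨u, huW, huU⟩ := hUd.inter_open_nonempty _ hWo ⟨y, hyW⟩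
  obtain ⟨ξ, hξ, hξu⟩ := exists_maxPt_specializes (isClosed_univ (X := X)) u (Set.mem_univ u)
  have hξy : ξ = y := by
    by_contra hne
    exact huW (Set.mem_iUnion₂.mpr ⟨ξ, (Set.mem_sdiff ξ).mpr
      ⟨hξ, fun h => hne (Set.mem_singleton_iff.mp h)⟩, specializes_iff_mem_closure.mp hξu⟩)
  rw [hξy] at hξu
  exact hξu.mem_open hUo huU

end Top

theorem aux_dim (R : Type u) [CommRing R] (hdim : ringKrullDim R ≤ 1)
    (a b c : PrimeSpectrum R) (h1 : a < b) (h2 : b < c) : False := by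
  rw [ringKrullDim, Order.krullDim_le_one_iff] at hdim
  rcases hdim b with h | h
  · exact not_isMin_of_lt h1 h
  · exact not_isMax_of_lt h2 h

theorem aux_chain (R : Type u) [CommRing R] [IsLocalRing R] (hdim : ringKrullDim R ≤ 1)
    (a b : PrimeSpectrum R) (h1 : a ⤳ b) (hne1 : a ≠ b)
    (hne2 : b ≠ IsLocalRing.closedPoint R) : False :=
  aux_dim R hdim a b (IsLocalRing.closedPoint R)
    (lt_of_le_of_ne ((PrimeSpectrum.le_iff_specializes a b).mpr h1) hne1)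
    (lt_of_le_of_ne (IsLocalRing.le_maximalIdeal b.2.ne_top) hne2)

theorem two_chain_false (X : Scheme.{u}) (z y ξ : X) (hzy : z ⤳ y) (hyξ : y ⤳ ξ)
    (hne1 : z ≠ y) (hne2 : y ≠ ξ) (hdim : ringKrullDim (X.presheaf.stalk ξ) ≤ 1) : False := by
  have hy' : y ∈ Set.range (X.fromSpecStalk ξ) := by
    rw [Scheme.range_fromSpecStalk]; exact hyξ
  have hz' : z ∈ Set.range (X.fromSpecStalk ξ) := by
    rw [Scheme.range_fromSpecStalk]; exact hzy.trans hyξ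
  obtain ⟨𝔮, rfl⟩ := hy'
  obtain ⟨𝔭, rfl⟩ := hz'
  have hemb := (X.fromSpecStalk ξ).isEmbedding
  have h1 : 𝔭 ⤳ 𝔮 := hemb.isInducing.specializes_iff.mp hzy
  refine aux_chain (X.presheaf.stalk ξ) hdim 𝔭 𝔮 h1 (fun h => hne1 (congrArg _ h)) ?_
  intro h'
  apply hne2
  rw [h']
  exact Scheme.fromSpecStalk_closedPoint (X := X) (x := ξ)

theorem affineHom_ι_iff (S : Scheme.{u}) (V : S.Opens) :
    IsAffineHom V.ι ↔ ∀ W : S.Opens, IsAffineOpen W → IsAffineOpen (V ⊓ W) := by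
  have key : ∀ W : S.Opens, IsAffineOpen (V.ι ⁻¹ᵁ W) ↔ IsAffineOpen (V ⊓ W) := by
    intro W
    rw [← Scheme.Hom.isAffineOpen_iff_of_isOpenImmersion V.ι,
      Scheme.Hom.image_preimage_eq_opensRange_inf, Scheme.Opens.opensRange_ι]
  exact ⟨fun h W hW => (key W).mp (h.isAffine_preimage W hW),
    fun h => ⟨fun W hW => (key W).mpr (h W hW)⟩⟩

theorem maxPt_of_maxPt (S : Scheme.{u}) [IsNoetherian S] (U V : S.Opens) (hUV : U ≤ V)
    (hU : Dense (U : Set S)) [IsAffineHom V.ι]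
    (ξ : S) (hξ : IsMaxPt ((V : Set S)ᶜ) ξ) : IsMaxPt ((U : Set S)ᶜ) ξ := by
  obtain ⟨hξV, hξmax⟩ := hξ
  refine ⟨fun h => hξV ((SetLike.coe_subset_coe.mpr hUV) h), ?_⟩
  intro y hyU hyξ
  by_cases hyV : y ∈ V
  · exfalso
    have hne2 : y ≠ ξ := fun h => hξV (h ▸ hyV)
    have hex : ∃ z, z ⤳ y ∧ z ≠ y := by
      by_contra hcon
      push Not at hcon
      exact hyU (mem_of_dense_of_max U.isOpen hU y hcon)
    obtain ⟨z, hzy, hne1⟩ := hex
    have hdim : ringKrullDim (S.presheaf.stalk ξ) ≤ 1 :=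
      Groth.Agent.Lead.PuncAff.S2851_main S V ξ hξV (fun η hη hηξ => hξmax η hη hηξ)
    exact two_chain_false S z y ξ hzy hyξ hne1 hne2 hdim
  · exact hξmax y hyV hyξ

theorem main (S : Scheme.{u}) [IsNoetherian S] (U : S.Opens) (hU : Dense (U : Set S)) :
    Set.Finite {V : S.Opens | U ≤ V ∧ IsAffineHom V.ι} ∧
      ∃ V₀ : S.Opens, (U ≤ V₀ ∧ IsAffineHom V₀.ι) ∧
        ∀ V : S.Opens, U ≤ V → IsAffineHom V.ι → V₀ ≤ V := by
  classical
  have hfin : Set.Finite {V : S.Opens | U ≤ V ∧ IsAffineHom V.ι} := by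
    have hM : {ξ : S | IsMaxPt ((U : Set S)ᶜ) ξ}.Finite :=
      finite_maxPts U.isOpen.isClosed_compl
    have hchar : ∀ V : S.Opens, U ≤ V → IsAffineHom V.ι → ∀ z : S, z ∈ V ↔
        ∀ ξ ∈ {ξ : S | IsMaxPt ((U : Set S)ᶜ) ξ ∧ ξ ∉ V}, ¬ ξ ⤳ z := by
      intro V hUV hV z
      constructor
      · intro hz ξ hξ hξz
        exact hξ.2 (hξz.mem_open V.isOpen hz)
      · intro h
        by_contra hz
        obtain ⟨ξ, hξ, hξz⟩ := exists_maxPt_specializes V.isOpen.isClosed_compl z hz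
        exact h ξ ⟨maxPt_of_maxPt S U V hUV hU ξ hξ, hξ.mem⟩ hξz
    refine Set.Finite.of_finite_image
      (f := fun V : S.Opens => {ξ : S | IsMaxPt ((U : Set S)ᶜ) ξ ∧ ξ ∉ V}) ?_ ?_
    · refine Set.Finite.subset hM.finite_subsets ?_
      rintro _ ⟨V, -, rfl⟩
      exact fun ξ hξ => hξ.1
    · intro V₁ h₁ V₂ h₂ heq
      have heq' : {ξ : S | IsMaxPt ((U : Set S)ᶜ) ξ ∧ ξ ∉ V₁} =
          {ξ : S | IsMaxPt ((U : Set S)ᶜ) ξ ∧ ξ ∉ V₂} := heq
      refine SetLike.ext (fun z => ?_)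
      refine (hchar V₁ h₁.1 h₁.2 z).trans (Iff.trans ?_ (hchar V₂ h₂.1 h₂.2 z).symm)
      rw [heq']
  refine ⟨hfin, hfin.toFinset.inf id, ⟨?_, ?_⟩, ?_⟩
  · exact Finset.le_inf (fun V hV => ((Set.Finite.mem_toFinset (hs := hfin)).mp hV).1)
  · refine Finset.inf_induction (p := fun V : S.Opens => IsAffineHom V.ι) ?_ ?_ ?_
    · exact (affineHom_ι_iff S ⊤).mpr (fun W hW => by rwa [top_inf_eq])
    · intro V₁ h₁ V₂ h₂
      refine (affineHom_ι_iff S _).mpr (fun W hW => ?_)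
      rw [inf_assoc]
      exact (affineHom_ι_iff S V₁).mp h₁ _ ((affineHom_ι_iff S V₂).mp h₂ W hW)
    · intro V hV
      exact ((Set.Finite.mem_toFinset (hs := hfin)).mp hV).2
  · intro V hUV hV
    exact Finset.inf_le (f := id) ((Set.Finite.mem_toFinset (hs := hfin)).mpr ⟨hUV, hV⟩)

end Groth.Agent.Helper1.AffOpenFin
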