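import Mathlib
import Groth.Prelude.Def_RelSpec

set_option autoImplicit false
universe u
open CategoryTheory CategoryTheory.Limits AlgebraicGeometry TopologicalSpace Opposite

/-!
# The relative spectrum of the direct-image algebra of an affine morphism is its source
-/

namespace Groth.Agent.Helper1.AffSpecIso

/-- a morphism which restricts to isomorphisms over an open cover is an isomorphism -/
theorem isIso_of_cover {A X : Scheme.{u}} (g : A ⟶ X) {ι : Type*} (W : ι → X.Opens)
    (hW : iSup W = ⊤) (Z : ι → Scheme.{u}) (j : ∀ i, Z i ⟶ A) [∀ i, IsOpenImmersion (j i)]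
    (hj : ∀ i, (j i).opensRange = g ⁻¹ᵁ W i) (hk : ∀ i, IsOpenImmersion (j i ≫ g))
    (hkr : ∀ i, (j i ≫ g).opensRange = W i) : IsIso g := by
  change MorphismProperty.isomorphisms Scheme.{u} g
  rw [IsZariskiLocalAtTarget.iff_of_iSup_eq_top (P := MorphismProperty.isomorphisms Scheme.{u}) W hW]
  intro i
  have := hk i
  let e1 : Z i ≅ ↑(g ⁻¹ᵁ W i) := IsOpenImmersion.isoOfRangeEq (j i) (g ⁻¹ᵁ W i).ι (by
    rw [Scheme.Opens.range_ι, ← hj i]; rfl)
  let e2 : Z i ≅ ↑(W i) := IsOpenImmersion.isoOfRangeEq (j i ≫ g) (W i).ι (by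
    rw [Scheme.Opens.range_ι, ← hkr i]; rfl)
  have h1 : e1.hom ≫ (g ⁻¹ᵁ W i).ι = j i := IsOpenImmersion.isoOfRangeEq_hom_fac _ _ _
  have h2 : e2.hom ≫ (W i).ι = j i ≫ g := IsOpenImmersion.isoOfRangeEq_hom_fac _ _ _
  have h3 : e1.hom ≫ (g ∣_ W i) = e2.hom := by
    rw [← cancel_mono (W i).ι, Category.assoc, morphismRestrict_ι, reassoc_of% h1, h2]
  have h4 : g ∣_ W i = e1.inv ≫ e2.hom := by rw [← h3, Iso.inv_hom_id_assoc]
  change IsIso (g ∣_ W i)
  rw [h4]
  infer_instance

variable {X Y : Scheme.{u}} (f : X ⟶ Y) [IsAffineHom f]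

/-- the direct-image algebra -/
noncomputable abbrev alg : RelSpec.QCAlg Y := RelSpec.QCAlg.directImage f

/-- the cocone of the charts `Spec Γ(X, f⁻¹U) ⟶ X` -/
noncomputable def cocone : Cocone (alg f).glueData.functor where
  pt := X
  ι :=
    { app := fun U => (U.2.preimage f).fromSpec
      naturality := by
        intro V U i
        simp only [Functor.const_obj_obj, Functor.const_obj_map, Category.comp_id]
        exact IsAffineOpen.map_fromSpec (U.2.preimage f) (V.2.preimage f)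
          (homOfLE (f.preimage_mono (Scheme.AffineZariskiSite.toOpens_mono i.le))).op }


/-- the comparison morphism `Spec(f_* O_X) ⟶ X` -/
noncomputable def g : (alg f).spec ⟶ X := colimit.desc _ (cocone f)

theorem ι_g (U : Y.Opens) (hU : IsAffineOpen U) :
    (alg f).ι U hU ≫ g f = (hU.preimage f).fromSpec :=
  colimit.ι_desc (cocone f) ⟨U, hU⟩

theorem g_f : g f ≫ f = (alg f).π := by
  apply colimit.hom_ext
  intro U
  change (alg f).ι U.1 U.2 ≫ g f ≫ f = (alg f).ι U.1 U.2 ≫ (alg f).π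
  rw [reassoc_of% (ι_g f U.1 U.2), (alg f).ι_π U.1 U.2]
  refine (IsAffineOpen.SpecMap_appLE_fromSpec f U.2 (U.2.preimage f) le_rfl).symm.trans ?_
  congr 2
  exact (Scheme.Hom.app_eq_appLE f).symm

instance isIso_g : IsIso (g f) := by
  refine isIso_of_cover (g f) (fun U : Y.affineOpens => f ⁻¹ᵁ U.1) ?_
    (fun U => Spec ((alg f).presheaf.obj (op U.1))) (fun U => (alg f).ι U.1 U.2) ?_ ?_ ?_
  · rw [eq_top_iff]
    intro x _
    have : f x ∈ (⨆ i : Y.affineOpens, (i : Y.Opens)) := by
      rw [iSup_affineOpens_eq_top]; trivial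
    obtain ⟨U, hU⟩ := Opens.mem_iSup.mp this
    exact Opens.mem_iSup.mpr ⟨U, hU⟩
  · intro U
    rw [← (alg f).π_preimage U.1 U.2, ← g_f f, Scheme.Hom.comp_preimage]
  · intro U
    rw [ι_g]
    exact IsAffineOpen.isOpenImmersion_fromSpec _
  · intro U
    have h := congrArg (fun k => Set.range k.base) (ι_g f U.1 U.2)
    apply Opens.ext
    refine h.trans ?_
    exact IsAffineOpen.range_fromSpec _

/-- **the relative spectrum of `f_* O_X` is `X`**, for `f` affine -/
noncomputable def iso : (alg f).spec ≅ X := asIso (g f)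

theorem iso_hom_f : (iso f).hom ≫ f = (alg f).π := g_f f

theorem iso_inv_π : (iso f).inv ≫ (alg f).π = f := by
  rw [← iso_hom_f, Iso.inv_hom_id_assoc]

end Groth.Agent.Helper1.AffSpecIso
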