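import Mathlib
import Groth.Agent.Lib.Helper1.QcCech

set_option autoImplicit false
universe u
open CategoryTheory CategoryTheory.Limits AlgebraicGeometry TopologicalSpace Opposite

namespace Groth.Agent.Helper1.AffStrat

open Groth.Agent.Helper1.QcCech Groth.Agent.Helper1

variable {X : Scheme.{u}}

/-- sections over affine opens are finitely generated modules -/
def FinSec (M : X.Modules) : Prop :=
  ∀ W : X.Opens, IsAffineOpen W → Module.Finite Γ(X, W) Γ(M, W)

theorem isUnit_resR_basicOpen {W : X.Opens} (f : Γ(X, W)) :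
    IsUnit (resR (X.basicOpen_le f) f) := X.toRingedSpace.isUnit_res_basicOpen f

/-- the annihilator of the restriction contains the restriction of the annihilator -/
theorem ann_map_le (M : X.Modules) [M.IsQuasicoherent] {W : X.Opens} (hW : IsAffineOpen W)
    (f : Γ(X, W)) (r : Γ(X, W)) (hr : r ∈ Module.annihilator Γ(X, W) Γ(M, W)) :
    resR (X.basicOpen_le f) r ∈ Module.annihilator Γ(X, X.basicOpen f) Γ(M, X.basicOpen f) := by
  rw [Module.mem_annihilator]
  intro t
  obtain ⟨n, m, hm⟩ := QcLoc.exists_extend hW M f t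
  have hm' : res M (X.basicOpen_le f) m = (resR (X.basicOpen_le f) f) ^ n • t := hm
  have h1 : (resR (X.basicOpen_le f) f) ^ n • (resR (X.basicOpen_le f) r • t) = 0 := by
    rw [smul_comm, ← hm', ← res_smul, Module.mem_annihilator.1 hr m, map_zero]
  obtain ⟨u, hu⟩ := (isUnit_resR_basicOpen f).pow n
  have h2 := congrArg (fun z => (↑u⁻¹ : Γ(X, X.basicOpen f)) • z) h1
  simp only [smul_zero] at h2
  rwa [← hu, smul_smul, Units.inv_mul, one_smul] at h2

theorem mem_ann_of_gen {R M : Type*} [CommRing R] [AddCommGroup M] [Module R M] (s : Set M)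
    (hs : Submodule.span R s = ⊤) (r : R) (h : ∀ m ∈ s, r • m = 0) :
    r ∈ Module.annihilator R M := by
  rw [Module.mem_annihilator]
  intro m
  have hm : m ∈ Submodule.span R s := by rw [hs]; trivial
  induction hm using Submodule.span_induction with
  | mem x hx => exact h x hx
  | zero => exact smul_zero r
  | add x y _ _ hx hy => rw [smul_add, hx, hy, add_zero]
  | smul a x _ hx => rw [smul_comm, hx, smul_zero]

/-- the annihilator ideal sheaf of a quasi-coherent module with finite sections -/
noncomputable def annI (M : X.Modules) [M.IsQuasicoherent] (hM : FinSec M) : X.IdealSheafData where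
  ideal W := Module.annihilator Γ(X, W.1) Γ(M, W.1)
  map_ideal_basicOpen W f := by
    apply le_antisymm
    · rw [Ideal.map_le_iff_le_comap]
      intro r hr
      exact ann_map_le M W.2 f r hr
    · intro ρ hρ
      have hloc := W.2.isLocalization_basicOpen f
      letI : Algebra Γ(X, W.1) Γ(X, X.basicOpen f) :=
        (X.presheaf.map (homOfLE (X.basicOpen_le f)).op).hom.toAlgebra
      obtain ⟨⟨r, ⟨_, k, rfl⟩⟩, hr⟩ := IsLocalization.surj (Submonoid.powers f) ρ
      replace hr : ρ * resR (X.basicOpen_le f) (f ^ k) = resR (X.basicOpen_le f) r := hr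
      haveI := hM W.1 W.2
      obtain ⟨s, hs⟩ := (Module.finite_def (R := Γ(X, W.1)) (M := Γ(M, W.1))).1 inferInstance
      have hkill : ∀ m ∈ (s : Set Γ(M, W.1)), ∃ e : ℕ, f ^ e • (r • m) = 0 := by
        intro m _
        apply QcLoc.exists_kill W.2 M f (r • m)
        change res M (X.basicOpen_le f) (r • m) = 0
        have hρ2 : ρ ∈ Module.annihilator Γ(X, X.basicOpen f) Γ(M, X.basicOpen f) := hρ
        rw [res_smul, ← hr, mul_comm, mul_smul, Module.mem_annihilator.1 hρ2, smul_zero]
      choose! e he using hkill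
      let E := s.sup e
      have hann : f ^ E * r ∈ Module.annihilator Γ(X, W.1) Γ(M, W.1) := by
        apply mem_ann_of_gen (s : Set Γ(M, W.1)) hs
        intro m hm
        have : f ^ E = f ^ (E - e m) * f ^ (e m) := by
          rw [← pow_add]; congr 1
          have : e m ≤ E := Finset.le_sup hm
          omega
        rw [mul_smul, this, mul_smul, he m hm, smul_zero]
      obtain ⟨u, hu⟩ := (isUnit_resR_basicOpen f).pow (E + k)
      have hρ' : ρ = (↑u⁻¹ : Γ(X, X.basicOpen f)) * resR (X.basicOpen_le f) (f ^ E * r) := by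
        rw [map_mul, ← hr, map_pow, map_pow]
        have : (↑u⁻¹ : Γ(X, X.basicOpen f)) * (resR (X.basicOpen_le f) f ^ E *
            (ρ * resR (X.basicOpen_le f) f ^ k)) =
            (↑u⁻¹ : Γ(X, X.basicOpen f)) * (resR (X.basicOpen_le f) f) ^ (E + k) * ρ := by
          rw [pow_add]; ring
        rw [this, ← hu, Units.inv_mul, one_mul]
      rw [hρ']
      exact Ideal.mul_mem_left _ _ (Ideal.mem_map_of_mem _ hann)

theorem annI_ideal (M : X.Modules) [M.IsQuasicoherent] (hM : FinSec M) (W : X.affineOpens) :
    (annI M hM).ideal W = Module.annihilator Γ(X, W.1) Γ(M, W.1) := rfl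

end Groth.Agent.Helper1.AffStrat
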