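import Mathlib
import Groth.Agent.Lib.Helper1.ModBC
import Groth.Agent.Lib.Helper1.PullSec

set_option autoImplicit false
universe u
open CategoryTheory CategoryTheory.Limits AlgebraicGeometry TopologicalSpace Opposite

namespace Groth.Agent.Helper1.AffStrat

open Scheme.Modules

section Alg

variable {A B : Type u} [CommRing A] [CommRing B] (φ : A →+* B) (hφ : Function.Surjective φ)
  {N T : Type u} [AddCommGroup N] [Module A N] [AddCommGroup T] [Module B T]

include hφ in
/-- a module with the universal property of `B ⊗_A N`, where `A → B` is surjective with kernel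
annihilating `N`, is `N` itself -/
theorem bijective_of_universal
    (σ : N →+ T) (hσ : ∀ a n, σ (a • n) = φ a • σ n)
    (hker : ∀ a, φ a = 0 → ∀ n : N, a • n = 0)
    (huniv : ∀ (C : Type u) [AddCommGroup C] [Module B C] (ℓ : N →+ C),
      (∀ a n, ℓ (a • n) = φ a • ℓ n) →
      ∃! ℓ' : T →+ C, (∀ (b : B) (t : T), ℓ' (b • t) = b • ℓ' t) ∧ ∀ n, ℓ' (σ n) = ℓ n) :
    Function.Bijective σ := by
  letI : SMul B N := ⟨fun b n => Function.surjInv hφ b • n⟩
  have hsmul : ∀ (c : A) (x : N), φ c • x = c • x := by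
    intro c x
    change Function.surjInv hφ (φ c) • x = c • x
    have h0 : φ (Function.surjInv hφ (φ c) - c) = 0 := by
      rw [map_sub, Function.surjInv_eq hφ, sub_self]
    have := hker _ h0 x
    rwa [sub_smul, sub_eq_zero] at this
  letI : Module B N := Function.Surjective.moduleLeft φ hφ hsmul
  obtain ⟨ψ, ⟨hψ1, hψ2⟩, -⟩ := huniv N (AddMonoidHom.id N) (fun a n => (hsmul a n).symm)
  have hinj : Function.Injective σ := by
    intro x y hxy
    have := congrArg ψ hxy
    rwa [hψ2, hψ2] at this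
  refine ⟨hinj, ?_⟩
  obtain ⟨ℓ', -, huniq⟩ := huniv T σ hσ
  have h1 : σ.comp ψ = ℓ' := by
    apply huniq
    refine ⟨fun b t => ?_, fun n => ?_⟩
    · obtain ⟨a, rfl⟩ := hφ b
      change σ (ψ (φ a • t)) = φ a • σ (ψ t)
      rw [hψ1, hsmul, hσ]
    · change σ (ψ (σ n)) = σ n
      rw [hψ2]; rfl
  have h2 : AddMonoidHom.id T = ℓ' := by
    apply huniq
    exact ⟨fun b t => rfl, fun n => rfl⟩
  intro t
  refine ⟨ψ t, ?_⟩
  have := DFunLike.congr_fun (h1.trans h2.symm) t
  exact this

end Alg

variable {X Y : Scheme.{u}} (g : Y ⟶ X) (E : X.Modules) [E.IsQuasicoherent]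

/-- the unit `E → g_* g^* E` is bijective on the sections over an affine open `U` with affine preimage
when `Γ(X, U) → Γ(Y, g⁻¹ U)` is surjective with kernel killing `Γ(E, U)` -/
theorem bijective_unit_app {U : X.Opens} (hU : IsAffineOpen U) (hU' : IsAffineOpen (g ⁻¹ᵁ U))
    (hs : Function.Surjective (g.app U).hom)
    (hk : ∀ r : Γ(X, U), (g.app U).hom r = 0 → ∀ e : Γ(E, U), r • e = 0) :
    Function.Bijective (((pullbackPushforwardAdjunction g).unit.app E).app U) := by
  have happ : (g.appLE U (g ⁻¹ᵁ U) le_rfl) = g.app U := (Scheme.Hom.app_eq_appLE g).symm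
  have hres : ∀ e, ModBC.unitRes g E (U := U) (U' := g ⁻¹ᵁ U) le_rfl e = PullSec.σ g E U e :=
    fun e => ModBC.map_self _ _ _
  have hb : Function.Bijective (ModBC.unitRes g E (U := U) (U' := g ⁻¹ᵁ U) le_rfl) := by
    refine bijective_of_universal (g.app U).hom hs (ModBC.unitRes g E le_rfl) ?_ hk ?_
    · intro a n
      rw [hres, hres, PullSec.σ_smul]
    · intro C _ _ ℓ hℓ
      have := ModBC.existsUnique g E hU hU' le_rfl C ℓ (by
        intro r e
        rw [hℓ, happ])
      exact this
  refine ⟨fun x y hxy => hb.1 ?_, fun t => ?_⟩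
  · rw [hres, hres]; exact hxy
  · obtain ⟨e, he⟩ := hb.2 t
    exact ⟨e, (hres e).symm.trans he⟩

end Groth.Agent.Helper1.AffStrat
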