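import Mathlib
import Groth.Agent.Lib.Helper1.QcCech

set_option autoImplicit false
universe u
open CategoryTheory CategoryTheory.Limits AlgebraicGeometry TopologicalSpace Opposite

namespace Groth.Agent.Helper1.ThickLift

/-- if `ε` is nilpotent and killed by a power of `f`, then high powers of `f + ε` and `f` agree -/
theorem add_pow_eq_of_nilpotent_of_kill {R : Type*} [CommRing R] (f ε : R) (N M : ℕ)
    (hε : ε ^ N = 0) (hk : f ^ M * ε = 0) (p : ℕ) (hp : M + N ≤ p) : (f + ε) ^ p = f ^ p := by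
  rw [add_pow, Finset.sum_eq_single p]
  · simp
  · intro l hl hlp
    have hl' : l < p := by
      have := Finset.mem_range.1 hl
      omega
    by_cases h : N ≤ p - l
    · have h0 : ε ^ (p - l) = 0 := pow_eq_zero_of_le h hε
      rw [h0]; simp
    · have hlM : M ≤ l := by omega
      have h1 : 1 ≤ p - l := by omega
      have e1 : f ^ l * ε ^ (p - l) = f ^ (l - M) * (f ^ M * ε) * ε ^ (p - l - 1) := by
        have a1 : f ^ l = f ^ (l - M) * f ^ M := by rw [← pow_add]; congr 1; omega
        have a2 : ε ^ (p - l) = ε * ε ^ (p - l - 1) := by rw [← pow_succ']; congr 1; omega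
        rw [a1, a2]; ring
      rw [e1, hk]; simp
  · intro h
    exact absurd (Finset.mem_range.2 (Nat.lt_succ_self p)) h

/-- lifting powers through a localization-like map, with nilpotent error term -/
theorem exists_lift_pow {R R' : Type*} [CommRing R] [CommRing R'] (res : R →+* R')
    (φ g : R) (α : R') (e N : ℕ) (hu : IsUnit (res φ)) (hg : g ^ N = 0)
    (hγ : (res φ) ^ e * (α - res φ) = res g) (m : ℕ) (hm : N * (e + 1) ≤ m) :
    ∃ f c : R, res f = α ^ m ∧ f = φ ^ m + g * c := by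
  classical
  set u := res φ with hu_def
  set γ := α - u with hγ_def
  have hγN : γ ^ N = 0 := by
    have h1 : (u ^ e * γ) ^ N = 0 := by rw [hγ, ← map_pow, hg, map_zero]
    rw [mul_pow] at h1
    exact (IsUnit.mul_right_eq_zero ((hu.pow e).pow N)).1 h1
  let c : R := ∑ k ∈ Finset.range m,
    if m - k < N then φ ^ (k - e * (m - k)) * g ^ (m - k - 1) * (m.choose k : R) else 0
  refine ⟨φ ^ m + g * c, c, ?_, rfl⟩
  have hα : α = u + γ := by rw [hγ_def]; ring
  rw [hα, add_pow, Finset.sum_range_succ, map_add, add_comm (res (φ ^ m))]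
  congr 1
  · rw [map_mul, map_sum, Finset.mul_sum]
    apply Finset.sum_congr rfl
    intro k hk
    have hk' : k < m := Finset.mem_range.1 hk
    by_cases h : m - k < N
    · rw [if_pos h]
      have hj : 1 ≤ m - k := by omega
      have hkj : e * (m - k) ≤ k := by
        have h2 : m - k ≤ N - 1 := by omega
        have h3 : e * (m - k) ≤ e * (N - 1) := Nat.mul_le_mul_left e h2
        have h4 : N * (e + 1) = e * (N - 1) + e + N := by
          obtain ⟨N', rfl⟩ : ∃ N', N = N' + 1 := ⟨N - 1, by omega⟩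
          simp; ring
        omega
      rw [map_mul, map_mul, map_pow, map_pow, map_natCast, ← hu_def]
      have e1 : res g * (u ^ (k - e * (m - k)) * res g ^ (m - k - 1) * (m.choose k : R')) =
          u ^ (k - e * (m - k)) * res g ^ (m - k) * (m.choose k : R') := by
        have : res g ^ (m - k) = res g * res g ^ (m - k - 1) := by
          rw [← pow_succ']; congr 1; omega
        rw [this]; ring
      rw [e1, ← hγ, mul_pow, ← pow_mul, ← mul_assoc, ← pow_add]
      congr 3
      omega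
    · rw [if_neg h, map_zero, mul_zero]
      have : γ ^ (m - k) = 0 := pow_eq_zero_of_le (by omega) hγN
      rw [this]; simp
  · simp [hu_def]


variable {Z X : Scheme.{u}} (i : Z ⟶ X)

theorem preimage_injective_of_surjective (hs : Function.Surjective i.base) {U V : X.Opens}
    (h : i ⁻¹ᵁ U = i ⁻¹ᵁ V) : U = V := by
  ext x
  obtain ⟨z, rfl⟩ := hs x
  have h1 : z ∈ i ⁻¹ᵁ U ↔ z ∈ i ⁻¹ᵁ V := by rw [h]
  exact h1

theorem isNilpotent_of_app_eq_zero (hs : Function.Surjective i.base) {V : X.Opens}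
    (hV : IsCompact (V : Set X)) (ε : Γ(X, V)) (h : (i.app V).hom ε = 0) : IsNilpotent ε := by
  rw [Scheme.isNilpotent_iff_basicOpen_eq_bot_of_isCompact hV]
  apply preimage_injective_of_surjective i hs
  rw [Scheme.preimage_basicOpen]
  have : Z.basicOpen ((i.app V).hom ε) = ⊥ := by rw [h, Scheme.basicOpen_zero]
  rw [show i ⁻¹ᵁ (⊥ : X.Opens) = ⊥ from rfl]
  exact this

/-- on a quasi-compact open, two sections that agree modulo the nil ideal and agree on the basic open
of one of them have equal high powers -/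
theorem exists_pow_eq (hs : Function.Surjective i.base) {V : X.Opens}
    (hV : IsCompact (V : Set X)) (f ε : Γ(X, V)) (h1 : (i.app V).hom ε = 0)
    (h2 : ε |_ (X.basicOpen f) = 0) : ∃ p₀ : ℕ, ∀ p, p₀ ≤ p → (f + ε) ^ p = f ^ p := by
  obtain ⟨N, hN⟩ := isNilpotent_of_app_eq_zero i hs hV ε h1
  obtain ⟨M, hM⟩ := exists_pow_mul_eq_zero_of_res_basicOpen_eq_zero_of_isCompact X hV ε f h2
  exact ⟨M + N, fun p hp => add_pow_eq_of_nilpotent_of_kill f ε N M hN hM p hp⟩


open Groth.Agent.Helper1.QcCech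

theorem app_resR {W D : X.Opens} (h : D ≤ W) (r : Γ(X, W)) :
    (i.app D).hom (resR h r) =
      resR (show i ⁻¹ᵁ D ≤ i ⁻¹ᵁ W from fun _ hx => h hx) ((i.app W).hom r) := by
  have := i.naturality (homOfLE h).op
  exact congrArg (fun ψ => ψ.hom r) this

theorem exists_lift_chart [IsClosedImmersion i] (hs : Function.Surjective i.base) {W : X.Opens}
    (hW : IsAffineOpen W) (φ : Γ(X, W)) (α : Γ(X, X.basicOpen φ))
    (h : (i.app (X.basicOpen φ)).hom α =
      (i.app (X.basicOpen φ)).hom (resR (X.basicOpen_le φ) φ)) :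
    ∃ m₀ : ℕ, ∀ m, m₀ ≤ m → ∃ f : Γ(X, W), resR (X.basicOpen_le φ) f = α ^ m ∧
      (i.app W).hom f = ((i.app W).hom φ) ^ m := by
  set γ := α - resR (X.basicOpen_le φ) φ with hγ
  have hγ0 : (i.app (X.basicOpen φ)).hom γ = 0 := by rw [hγ, map_sub, h, sub_self]
  have hloc := hW.isLocalization_basicOpen φ
  letI : Algebra Γ(X, W) Γ(X, X.basicOpen φ) := (X.presheaf.map (homOfLE (X.basicOpen_le φ)).op).hom.toAlgebra
  obtain ⟨⟨g', ⟨_, e, rfl⟩⟩, hg'⟩ := IsLocalization.surj (Submonoid.powers φ) γ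
  replace hg' : γ * resR (X.basicOpen_le φ) (φ ^ e) = resR (X.basicOpen_le φ) g' := hg'
  have hW' : IsAffineOpen (i ⁻¹ᵁ W) := hW.preimage i
  have hle : i ⁻¹ᵁ (X.basicOpen φ) ≤ i ⁻¹ᵁ W := fun _ hx => X.basicOpen_le φ hx
  have h1 : resR hle ((i.app W).hom g') = 0 := by
    rw [← app_resR i (X.basicOpen_le φ) g', ← hg', map_mul, hγ0, zero_mul]
  have heq : Z.basicOpen ((i.app W).hom φ) = i ⁻¹ᵁ (X.basicOpen φ) := (Scheme.preimage_basicOpen i φ).symm
  have h2 : ((i.app W).hom g') |_ (Z.basicOpen ((i.app W).hom φ)) = 0 := by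
    have : ((i.app W).hom g') |_ (Z.basicOpen ((i.app W).hom φ)) =
        resR (le_of_eq heq) (resR hle ((i.app W).hom g')) := by
      rw [resR_resR]; rfl
    rw [this, h1, map_zero]
  obtain ⟨e', he'⟩ := exists_pow_mul_eq_zero_of_res_basicOpen_eq_zero_of_isAffineOpen Z hW'
    ((i.app W).hom g') ((i.app W).hom φ) h2
  set g := φ ^ e' * g' with hg
  have hg0 : (i.app W).hom g = 0 := by rw [hg, map_mul, map_pow, he']
  obtain ⟨N, hN⟩ := isNilpotent_of_app_eq_zero i hs hW.isCompact g hg0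
  have hu : IsUnit (resR (X.basicOpen_le φ) φ) := X.toRingedSpace.isUnit_res_basicOpen φ
  have hrel : (resR (X.basicOpen_le φ) φ) ^ (e + e') * (α - resR (X.basicOpen_le φ) φ) =
      resR (X.basicOpen_le φ) g := by
    rw [hg, map_mul, ← hg', map_pow, map_pow, ← hγ, pow_add]; ring
  refine ⟨N * (e + e' + 1), fun m hm => ?_⟩
  obtain ⟨f, c, hf1, hf2⟩ := exists_lift_pow (resR (X.basicOpen_le φ)) φ g α (e + e') N hu hN hrel m hm
  refine ⟨f, hf1, ?_⟩
  rw [hf2, map_add, map_mul, hg0, zero_mul, add_zero, map_pow]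

end Groth.Agent.Helper1.ThickLift
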