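import Mathlib
import Groth.Agent.Lib.Helper1.ThickLift1
import Groth.Agent.Lib.Helper1.SecOps
import Groth.Agent.Lib.Helper1.PullAmple

set_option autoImplicit false
universe u
open CategoryTheory CategoryTheory.Limits AlgebraicGeometry TopologicalSpace Opposite

namespace Groth.Agent.Helper1.ThickLift

open Groth.Agent.Helper1.QcCech Groth.Agent.Helper1.SubSh Groth.Agent.Helper1.LGen
open Groth.Agent.Helper1.TmulLib Groth.Agent.Helper1 Groth.Agent.Helper1.TwistSec
open Groth.Agent.Helper1.TensGen Groth.Agent.Helper1.TwForm Groth.Agent.Helper1.AmpleLib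
open Groth.Agent.Helper1.PullSec Groth.Agent.Helper1.PullGen

variable {Z X : Scheme.{u}} (i : Z ⟶ X)

theorem IsGen.smul_injective {L : X.Modules} {W : X.Opens} {a : Γ(L, W)} (ha : IsGen L W a)
    {r r' : Γ(X, W)} (h : r • a = r' • a) : r = r' :=
  (IsGen.bijective_self ha).1 h

theorem preimage_mono {V W : X.Opens} (h : V ≤ W) : i ⁻¹ᵁ V ≤ i ⁻¹ᵁ W := fun _ hx => h hx

/-- the value of the pulled back section, in terms of a local generator downstairs -/
theorem secVal_res_eq {M : X.Modules} (t : Coh.structureModule Z ⟶ (Scheme.Modules.pullback i).obj M)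
    {W V : X.Opens} (hVW : V ≤ W) (a : Γ(M, W)) (τ : Γ(Z, i ⁻¹ᵁ W))
    (hτ : τ • σ i M W a = secVal t (i ⁻¹ᵁ W)) :
    resR (preimage_mono i hVW) τ • σ i M V (res M hVW a) = secVal t (i ⁻¹ᵁ V) := by
  rw [← res_secVal t (preimage_mono i hVW), ← hτ, res_smul, σ_res]

/-- transition rule for the coefficients of `t` -/
theorem coeff_transition {M : X.Modules}
    (t : Coh.structureModule Z ⟶ (Scheme.Modules.pullback i).obj M)
    {W W' V : X.Opens} (hVW : V ≤ W) (hVW' : V ≤ W') (a : Γ(M, W)) (a' : Γ(M, W'))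
    (ha' : IsGen M W' a') (τ : Γ(Z, i ⁻¹ᵁ W)) (τ' : Γ(Z, i ⁻¹ᵁ W'))
    (hτ : τ • σ i M W a = secVal t (i ⁻¹ᵁ W)) (hτ' : τ' • σ i M W' a' = secVal t (i ⁻¹ᵁ W'))
    (g : Γ(X, V)) (hg : res M hVW a = g • res M hVW' a') :
    resR (preimage_mono i hVW) τ * (i.app V).hom g = resR (preimage_mono i hVW') τ' := by
  have h1 := secVal_res_eq i t hVW a τ hτ
  have h2 := secVal_res_eq i t hVW' a' τ' hτ'
  rw [hg, σ_smul, ← mul_smul, ← h2] at h1
  exact IsGen.smul_injective (isGen_σ i (ha'.res hVW')) h1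


/-- a trivializing affine chart of `M`, with the coefficient of `t` and a lift of it -/
structure Chart (M : X.Modules)
    (t : Coh.structureModule Z ⟶ (Scheme.Modules.pullback i).obj M) where
  W : X.Opens
  hW : IsAffineOpen W
  a : Γ(M, W)
  ha : IsGen M W a
  τ : Γ(Z, i ⁻¹ᵁ W)
  hτ : τ • σ i M W a = secVal t (i ⁻¹ᵁ W)
  φ : Γ(X, W)
  hφ : (i.app W).hom φ = τ

variable {i}

theorem exists_chart_of_isGen [IsClosedImmersion i] {M : X.Modules}
    (t : Coh.structureModule Z ⟶ (Scheme.Modules.pullback i).obj M) {W : X.Opens}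
    (hW : IsAffineOpen W) (a : Γ(M, W)) (ha : IsGen M W a) :
    ∃ c : Chart i M t, c.W = W := by
  obtain ⟨τ, hτ⟩ := (isGen_σ i ha).exists_coeff (secVal t (i ⁻¹ᵁ W))
  obtain ⟨φ, hφ⟩ := i.app_surjective W hW τ
  exact ⟨⟨W, hW, a, ha, τ, hτ, φ, hφ⟩, rfl⟩

theorem exists_chart [IsClosedImmersion i] {M : X.Modules} (hM : PicF.IsInvertible M)
    (t : Coh.structureModule Z ⟶ (Scheme.Modules.pullback i).obj M) (x : X) :
    ∃ c : Chart i M t, x ∈ c.W := by
  obtain ⟨W', a', hxW', ha'⟩ := exists_isGen hM x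
  obtain ⟨_, ⟨W, hW, rfl⟩, hxW, hWW'⟩ :=
    X.isBasis_affineOpens.exists_subset_of_mem_open hxW' W'.2
  obtain ⟨c, hc⟩ := exists_chart_of_isGen t hW (res M hWW' a') (ha'.res hWW')
  exact ⟨c, hc ▸ hxW⟩

namespace Chart

variable {M : X.Modules} {t : Coh.structureModule Z ⟶ (Scheme.Modules.pullback i).obj M}

theorem preimage_basicOpen (c : Chart i M t) :
    i ⁻¹ᵁ (X.basicOpen c.φ) = CohB1.genLocus _ t ⊓ i ⁻¹ᵁ c.W := by
  rw [Scheme.preimage_basicOpen, genLocus_inf_eq_basicOpen t (isGen_σ i c.ha) c.τ c.hτ, c.hφ]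

end Chart

/-- the open set of `X` corresponding to the generating locus of `t`, with a lift of `t` on it -/
structure Base (i : Z ⟶ X) (M : X.Modules)
    (t : Coh.structureModule Z ⟶ (Scheme.Modules.pullback i).obj M) where
  U : X.Opens
  hU : i ⁻¹ᵁ U = CohB1.genLocus _ t
  A : Γ(M, U)
  hA : σ i M U A = secVal t (i ⁻¹ᵁ U)

namespace Chart

variable {M : X.Modules} {t : Coh.structureModule Z ⟶ (Scheme.Modules.pullback i).obj M}

theorem basicOpen_eq (hs : Function.Surjective i.base) (B : Base i M t) (c : Chart i M t) :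
    X.basicOpen c.φ = B.U ⊓ c.W := by
  apply preimage_injective_of_surjective i hs
  rw [c.preimage_basicOpen, ← B.hU]
  rfl

theorem basicOpen_le_U (hs : Function.Surjective i.base) (B : Base i M t) (c : Chart i M t) :
    X.basicOpen c.φ ≤ B.U := by
  rw [c.basicOpen_eq hs B]; exact inf_le_left

theorem exists_alpha (hs : Function.Surjective i.base) (B : Base i M t) (c : Chart i M t) :
    ∃ α : Γ(X, X.basicOpen c.φ),
      α • res M (X.basicOpen_le c.φ) c.a = res M (c.basicOpen_le_U hs B) B.A ∧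
      (i.app (X.basicOpen c.φ)).hom α =
        (i.app (X.basicOpen c.φ)).hom (resR (X.basicOpen_le c.φ) c.φ) := by
  obtain ⟨α, hα⟩ := (c.ha.res (X.basicOpen_le c.φ)).exists_coeff (res M (c.basicOpen_le_U hs B) B.A)
  refine ⟨α, hα, ?_⟩
  have h1 : (1 : Γ(Z, i ⁻¹ᵁ B.U)) • σ i M B.U B.A = secVal t (i ⁻¹ᵁ B.U) := by
    rw [one_smul, B.hA]
  have h2 := coeff_transition i t (c.basicOpen_le_U hs B) (X.basicOpen_le c.φ) B.A c.a c.ha
    1 c.τ h1 c.hτ α hα.symm
  rw [map_one, one_mul] at h2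
  rw [h2, app_resR, c.hφ]

theorem basicOpen_lift_eq (hs : Function.Surjective i.base) (c : Chart i M t) (m : ℕ) (hm : 0 < m)
    (f : Γ(X, c.W)) (hf : (i.app c.W).hom f = ((i.app c.W).hom c.φ) ^ m) :
    X.basicOpen f = X.basicOpen c.φ := by
  apply preimage_injective_of_surjective i hs
  rw [Scheme.preimage_basicOpen, Scheme.preimage_basicOpen]
  change Z.basicOpen ((i.app c.W).hom f) = Z.basicOpen ((i.app c.W).hom c.φ)
  rw [hf, Scheme.basicOpen_pow _ _ hm]

theorem pair_pow_eq (hs : Function.Surjective i.base) (B : Base i M t) (b c : Chart i M t)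
    (hV : IsCompact ((b.W ⊓ c.W : X.Opens) : Set X))
    (g : Γ(X, b.W ⊓ c.W))
    (hg : res M (inf_le_left : b.W ⊓ c.W ≤ b.W) b.a = g • res M (inf_le_right : b.W ⊓ c.W ≤ c.W) c.a)
    (αb : Γ(X, X.basicOpen b.φ))
    (hαb : αb • res M (X.basicOpen_le b.φ) b.a = res M (b.basicOpen_le_U hs B) B.A)
    (αc : Γ(X, X.basicOpen c.φ))
    (hαc : αc • res M (X.basicOpen_le c.φ) c.a = res M (c.basicOpen_le_U hs B) B.A)
    (m : ℕ) (hm : 0 < m) (fb : Γ(X, b.W)) (hfb1 : resR (X.basicOpen_le b.φ) fb = αb ^ m)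
    (hfb2 : (i.app b.W).hom fb = ((i.app b.W).hom b.φ) ^ m)
    (fc : Γ(X, c.W)) (hfc1 : resR (X.basicOpen_le c.φ) fc = αc ^ m)
    (hfc2 : (i.app c.W).hom fc = ((i.app c.W).hom c.φ) ^ m) :
    ∃ p₀ : ℕ, ∀ p, p₀ ≤ p →
      (resR (inf_le_left : b.W ⊓ c.W ≤ b.W) fb * g ^ m) ^ p =
        (resR (inf_le_right : b.W ⊓ c.W ≤ c.W) fc) ^ p := by
  have hVb : b.W ⊓ c.W ≤ b.W := inf_le_left
  have hVc : b.W ⊓ c.W ≤ c.W := inf_le_right
  set ε : Γ(X, b.W ⊓ c.W) := resR hVb fb * g ^ m - resR hVc fc with hε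
  have hsum : resR hVb fb * g ^ m = resR hVc fc + ε := by rw [hε]; ring
  -- (h1)
  have h1 : (i.app (b.W ⊓ c.W)).hom ε = 0 := by
    have ht := coeff_transition i t hVb hVc b.a c.a c.ha b.τ c.τ b.hτ c.hτ g hg
    rw [hε, map_sub, map_mul, map_pow, app_resR, app_resR, hfb2, hfc2, b.hφ, c.hφ, map_pow, map_pow,
      ← mul_pow, ht, sub_self]
  -- (h2)
  have hV'c : X.basicOpen (resR hVc fc) ≤ X.basicOpen c.φ := by
    rw [← basicOpen_lift_eq hs c m hm fc hfc2]
    have : X.basicOpen (resR hVc fc) = (b.W ⊓ c.W) ⊓ X.basicOpen fc := Scheme.basicOpen_res _ _ _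
    rw [this]; exact inf_le_right
  have hV'V : X.basicOpen (resR hVc fc) ≤ b.W ⊓ c.W := X.basicOpen_le _
  have hV'b : X.basicOpen (resR hVc fc) ≤ X.basicOpen b.φ := by
    rw [b.basicOpen_eq hs B]
    exact le_inf ((hV'c.trans (c.basicOpen_le_U hs B))) (hV'V.trans hVb)
  have h2 : resR hV'V ε = 0 := by
    have e1 : resR hV'V (resR hVb fb) = (resR hV'b αb) ^ m := by
      rw [← map_pow, ← hfb1, resR_resR, resR_resR]
    have e2 : resR hV'V (resR hVc fc) = (resR hV'c αc) ^ m := by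
      rw [← map_pow, ← hfc1, resR_resR, resR_resR]
    have e3 : resR hV'b αb * resR hV'V g = resR hV'c αc := by
      have ha1 := congrArg (res M hV'b) hαb
      have ha2 := congrArg (res M hV'c) hαc
      rw [res_smul, res_res, res_res] at ha1 ha2
      have hg' := congrArg (res M hV'V) hg
      rw [res_smul, res_res, res_res] at hg'
      rw [hg', ← mul_smul, ← ha2] at ha1
      exact IsGen.smul_injective (c.ha.res _) ha1
    rw [hε, map_sub, map_mul, map_pow, e1, e2, ← mul_pow, e3, sub_self]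
  obtain ⟨p₀, hp₀⟩ := exists_pow_eq i hs hV (resR hVc fc) ε h1 h2
  refine ⟨p₀, fun p hp => ?_⟩
  rw [hsum]
  exact hp₀ p hp

end Chart

open Groth.Agent.Helper1.SecOps in
/-- a power of `t` lifts to a global section of a power of `M`, with the expected locus -/
theorem exists_section_of_base [IsClosedImmersion i] (hs : Function.Surjective i.base)
    [CompactSpace X] [QuasiSeparatedSpace X] {M : X.Modules} (hM : PicF.IsInvertible M)
    (t : Coh.structureModule Z ⟶ (Scheme.Modules.pullback i).obj M) (B : Base i M t) :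
    ∃ (n : ℕ) (s : Coh.structureModule X ⟶ CohB1.tensorPow M (n + 1)),
      CohB1.genLocus _ s = B.U := by
  classical
  choose c hc using fun x => exists_chart hM t x
  obtain ⟨S, hS⟩ := isCompact_univ.elim_finite_subcover (fun x => ((c x).W : Set X))
    (fun x => (c x).W.2) (fun x _ => Set.mem_iUnion.2 ⟨x, hc x⟩)
  choose α hα1 hα2 using fun x => (c x).exists_alpha hs B
  choose m₀ hm₀ using fun x => exists_lift_chart i hs (c x).hW (c x).φ (α x) (hα2 x)
  set m := S.sup m₀ + 1 with hm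
  have hmpos : 0 < m := Nat.succ_pos _
  have hf : ∀ x : S, ∃ f : Γ(X, (c x.1).W), resR (X.basicOpen_le (c x.1).φ) f = α x.1 ^ m ∧
      (i.app (c x.1).W).hom f = ((i.app (c x.1).W).hom (c x.1).φ) ^ m := by
    intro x
    exact hm₀ x.1 m ((Finset.le_sup x.2).trans (Nat.le_succ _))
  choose f hf1 hf2 using hf
  have hg : ∀ x y : S, ∃ g : Γ(X, (c x.1).W ⊓ (c y.1).W),
      res M (inf_le_left : (c x.1).W ⊓ (c y.1).W ≤ (c x.1).W) (c x.1).a =
        g • res M (inf_le_right : (c x.1).W ⊓ (c y.1).W ≤ (c y.1).W) (c y.1).a := by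
    intro x y
    obtain ⟨g, hg⟩ := ((c y.1).ha.res (inf_le_right : (c x.1).W ⊓ (c y.1).W ≤ (c y.1).W)).exists_coeff
      (res M (inf_le_left : (c x.1).W ⊓ (c y.1).W ≤ (c x.1).W) (c x.1).a)
    exact ⟨g, hg.symm⟩
  choose g hg using hg
  have hV : ∀ x y : S, IsCompact (((c x.1).W ⊓ (c y.1).W : X.Opens) : Set X) := fun x y =>
    QuasiSeparatedSpace.inter_isCompact _ _ (c x.1).W.2 (c x.1).hW.isCompact (c y.1).W.2
      (c y.1).hW.isCompact
  choose p₀ hp₀ using fun x y : S => Chart.pair_pow_eq hs B (c x.1) (c y.1) (hV x y) (g x y)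
    (hg x y) (α x.1) (hα1 x.1) (α y.1) (hα1 y.1) m hmpos (f x) (hf1 x) (hf2 x) (f y) (hf1 y) (hf2 y)
  set p := (Finset.univ.sup fun xy : S × S => p₀ xy.1 xy.2) + 1 with hp
  have hppos : 0 < p := Nat.succ_pos _
  have hp₀' : ∀ x y : S, p₀ x y ≤ p := fun x y =>
    (Finset.le_sup (f := fun xy : S × S => p₀ xy.1 xy.2) (Finset.mem_univ (x, y))).trans
      (Nat.le_succ _)
  let sf : ∀ x : S, Γ(CohB1.tensorPow M (m * p), (c x.1).W) := fun x =>
    (f x) ^ p • gpow (c x.1).a (m * p)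
  have hcompat : ∀ x y : S,
      res (CohB1.tensorPow M (m * p)) (inf_le_left : (c x.1).W ⊓ (c y.1).W ≤ (c x.1).W) (sf x) =
      res (CohB1.tensorPow M (m * p)) (inf_le_right : (c x.1).W ⊓ (c y.1).W ≤ (c y.1).W) (sf y) := by
    intro x y
    change res _ _ ((f x) ^ p • gpow (c x.1).a (m * p)) = res _ _ ((f y) ^ p • gpow (c y.1).a (m * p))
    rw [res_smul, res_smul, res_gpow, res_gpow, hg x y, gpow_smul, ← mul_smul, map_pow, map_pow,
      pow_mul, ← mul_pow, hp₀ x y p (hp₀' x y)]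
  have hcov : (⊤ : X.Opens) ≤ ⨆ x : S, (c x.1).W := by
    intro y _
    have hy := hS (Set.mem_univ y)
    simp only [Set.mem_iUnion] at hy
    obtain ⟨x, hxS, hyx⟩ := hy
    exact Opens.mem_iSup.2 ⟨⟨x, hxS⟩, hyx⟩
  obtain ⟨s₀, hs₀⟩ := glue_of_compatible (CohB1.tensorPow M (m * p)) (fun x : S => (c x.1).W) ⊤
    (fun _ => le_top) hcov sf hcompat
  let s' : Coh.structureModule X ⟶ CohB1.tensorPow M (m * p) := TwistAmple.homOfSec _ s₀
  have hloc : ∀ x : S, CohB1.genLocus _ s' ⊓ (c x.1).W = B.U ⊓ (c x.1).W := by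
    intro x
    have h1 : (f x) ^ p • gpow (c x.1).a (m * p) = secVal s' (c x.1).W := by
      rw [secVal_homOfSec, hs₀ x]
    rw [genLocus_inf_eq_basicOpen s' (isGen_gpow (c x.1).ha (m * p)) ((f x) ^ p) h1,
      Scheme.basicOpen_pow _ _ hppos, Chart.basicOpen_lift_eq hs (c x.1) m hmpos (f x) (hf2 x),
      (c x.1).basicOpen_eq hs B]
  have hmain : CohB1.genLocus _ s' = B.U := by
    ext y
    obtain ⟨x, hyx⟩ := Opens.mem_iSup.1 (hcov (show y ∈ (⊤ : X.Opens) from trivial))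
    have h1 := hloc x
    constructor
    · intro hy
      have : y ∈ CohB1.genLocus _ s' ⊓ (c x.1).W := ⟨hy, hyx⟩
      rw [h1] at this
      exact this.1
    · intro hy
      have : y ∈ B.U ⊓ (c x.1).W := ⟨hy, hyx⟩
      rw [← h1] at this
      exact this.1
  have hmp : m * p = (m * p - 1) + 1 := by
    have : 0 < m * p := Nat.mul_pos hmpos hppos
    omega
  exact ⟨m * p - 1, pcast hmp s', by rw [genLocus_pcast, hmain]⟩

theorem exists_base [IsClosedImmersion i] {M : X.Modules}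
    (t : Coh.structureModule Z ⟶ (Scheme.Modules.pullback i).obj M) {W₀ : X.Opens}
    (hW₀ : IsAffineOpen W₀) (a₀ : Γ(M, W₀)) (ha₀ : IsGen M W₀ a₀)
    (ht : CohB1.genLocus _ t ≤ i ⁻¹ᵁ W₀) :
    ∃ B : Base i M t, IsAffineOpen B.U := by
  obtain ⟨c, rfl⟩ := exists_chart_of_isGen t hW₀ a₀ ha₀
  have hU : i ⁻¹ᵁ (X.basicOpen c.φ) = CohB1.genLocus _ t := by
    rw [c.preimage_basicOpen]; exact inf_eq_left.2 ht
  refine ⟨⟨X.basicOpen c.φ, hU,
    resR (X.basicOpen_le c.φ) c.φ • res M (X.basicOpen_le c.φ) c.a, ?_⟩, c.hW.basicOpen c.φ⟩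
  rw [σ_smul, app_resR, c.hφ]
  exact secVal_res_eq i t (X.basicOpen_le c.φ) c.a c.τ c.hτ

open Groth.Agent.Helper1.SecOps in
/-- **ampleness lifts along a thickening** -/
theorem isAmple_of_isAmple_pullback [IsClosedImmersion i] (hi : IsHomeomorph i.base)
    {L : X.Modules} (hL : PicF.IsInvertible L)
    (h : CohB1.IsAmple ((Scheme.Modules.pullback i).obj L)) : CohB1.IsAmple L := by
  have : CompactSpace Z := h.2.1
  have : QuasiSeparatedSpace Z := quasiSeparatedSpace_of_isAmple h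
  have : CompactSpace X := (hi.homeomorph).compactSpace
  have : QuasiSeparatedSpace X :=
    (hi.homeomorph).symm.isOpenEmbedding.quasiSeparatedSpace
  have hs : Function.Surjective i.base := hi.surjective
  refine ⟨hL, inferInstance, fun x => ?_⟩
  obtain ⟨z, rfl⟩ := hs x
  obtain ⟨W', a', hxW', ha'⟩ := exists_isGen hL (i.base z)
  obtain ⟨_, ⟨W₀, hW₀, rfl⟩, hxW₀, hWW'⟩ :=
    X.isBasis_affineOpens.exists_subset_of_mem_open hxW' W'.2
  obtain ⟨n, t', hz, hle, -⟩ := exists_affine_genLocus_of_finite h {z} (Set.finite_singleton z)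
    (i ⁻¹ᵁ W₀) (by rintro _ rfl; exact hxW₀)
  have hM := isInvertible_tensorPow hL (n + 1)
  let t : Coh.structureModule Z ⟶ (Scheme.Modules.pullback i).obj (CohB1.tensorPow L (n + 1)) :=
    t' ≫ (PullPow.powIso i hL (n + 1)).inv
  have htt' : CohB1.genLocus _ t = CohB1.genLocus _ t' :=
    TwistAmple.genLocus_comp_iso t' (PullPow.powIso i hL (n + 1)).symm
  obtain ⟨B, hBaff⟩ := exists_base t hW₀ (gpow (res L hWW' a') (n + 1))
    (isGen_gpow (ha'.res hWW') (n + 1)) (by rw [htt']; exact hle)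
  obtain ⟨k, s', hs'⟩ := exists_section_of_base hs hM t B
  have hmp : (n + 1) * (k + 1) = ((n + 1) * (k + 1) - 1) + 1 := by
    have : 0 < (n + 1) * (k + 1) := Nat.mul_pos (Nat.succ_pos _) (Nat.succ_pos _)
    omega
  refine ⟨(n + 1) * (k + 1) - 1, pcast hmp (s' ≫ (powIso' hL (n + 1) (k + 1)).hom), ?_, ?_⟩
  · rw [genLocus_pcast, TwistAmple.genLocus_comp_iso, hs']
    have : z ∈ i ⁻¹ᵁ B.U := by
      rw [B.hU, htt']; exact hz (Set.mem_singleton z)
    exact this
  · rw [genLocus_pcast, TwistAmple.genLocus_comp_iso, hs']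
    exact hBaff

theorem isAmple_pullback_iff [IsClosedImmersion i] (hi : IsHomeomorph i.base)
    {L : X.Modules} (hL : PicF.IsInvertible L) :
    CohB1.IsAmple ((Scheme.Modules.pullback i).obj L) ↔ CohB1.IsAmple L := by
  refine ⟨isAmple_of_isAmple_pullback hi hL, fun h => ?_⟩
  have : CompactSpace X := h.2.1
  have : CompactSpace Z := (hi.homeomorph).symm.compactSpace
  exact PullAmple.isAmple_pullback_of_isEmbedding i hi.isEmbedding h

end Groth.Agent.Helper1.ThickLift
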