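import Mathlib
import Groth.Agent.Lib.Helper1.ThickLift2
import Groth.Agent.Lib.Helper1.PullRel
import Groth.Agent.Lib.Helper1.AmpleRestr
import Groth.Agent.S0440
import Groth.Prelude.Def_LCI2

set_option autoImplicit false
universe u
open CategoryTheory CategoryTheory.Limits AlgebraicGeometry TopologicalSpace Opposite

namespace Groth.Agent.Helper1.ThickLift

variable {Z X : Scheme.{u}} (i : Z ⟶ X)

theorem isHomeomorph_of_surjective [IsClosedImmersion i] (hs : Function.Surjective i.base) :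
    IsHomeomorph i.base :=
  isHomeomorph_iff_isEmbedding_surjective.2 ⟨i.isClosedEmbedding.isEmbedding, hs⟩

theorem surjective_restrict (hs : Function.Surjective i.base) (U : X.Opens) :
    Function.Surjective (i ∣_ U).base := by
  have : Surjective i := ⟨hs⟩
  have : Surjective (i ∣_ U) := IsZariskiLocalAtTarget.restrict ‹_› U
  exact (i ∣_ U).surjective

theorem isAmple_restrict_iff [IsClosedImmersion i] (hs : Function.Surjective i.base)
    {L : X.Modules} (hL : PicF.IsInvertible L) (U : X.Opens) :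
    CohB1.IsAmple (((Scheme.Modules.pullback i).obj L).restrict (i ⁻¹ᵁ U).ι) ↔
      CohB1.IsAmple (L.restrict U.ι) := by
  have e := PullAmple.restrictPullbackIso i U L
  have h := isAmple_pullback_iff (i := i ∣_ U)
    (isHomeomorph_of_surjective _ (surjective_restrict i hs U))
    (AmpleLib.isInvertible_restrict U.ι hL)
  constructor
  · intro h1; exact h.1 (TwistAmpleOpen.isAmple_of_iso e h1)
  · intro h1; exact TwistAmpleOpen.isAmple_of_iso e.symm (h.2 h1)

theorem quasiCompact_of_comp_surjective {A B C : Scheme.{u}} (g : A ⟶ B) (h : B ⟶ C)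
    (hg : Function.Surjective g.base) [QuasiCompact (g ≫ h)] : QuasiCompact h := by
  rw [quasiCompact_iff]
  intro U hU hUc
  have h1 : IsCompact ((g ≫ h).base ⁻¹' U) := QuasiCompact.isCompact_preimage (f := g ≫ h) U hU hUc
  have h2 : h.base ⁻¹' U = g.base '' ((g ≫ h).base ⁻¹' U) := by
    ext y
    constructor
    · intro hy
      obtain ⟨x, rfl⟩ := hg y
      exact ⟨x, hy, rfl⟩
    · rintro ⟨x, hx, rfl⟩
      exact hx
  rw [h2]
  exact h1.image g.continuous

/-- thickenings of affine opens -/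
theorem isAffineOpen_of_preimage [IsClosedImmersion i] (hs : Function.Surjective i.base)
    (V' : X.Opens) (h : IsAffineOpen (i ⁻¹ᵁ V')) : IsAffineOpen V' := by
  have : IsAffine (↑(i ⁻¹ᵁ V') : Scheme.{u}) := h
  exact Groth.Agent.S0440.result (i ∣_ V') (surjective_restrict i hs V')

theorem restrict_congr {L : X.Modules} {U U' : X.Opens} (h : U = U')
    (hA : CohB1.IsAmple (L.restrict U.ι)) : CohB1.IsAmple (L.restrict U'.ι) := by
  subst h; exact hA

theorem isRelAmple_iff {X X' S S' : Scheme.{u}} (iX : X ⟶ X') (iS : S ⟶ S') (f : X ⟶ S)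
    (f' : X' ⟶ S') [IsClosedImmersion iX] [IsClosedImmersion iS]
    (hsX : Function.Surjective iX.base) (hsS : Function.Surjective iS.base)
    (w : iX ≫ f' = f ≫ iS) (L' : X'.Modules) (hL' : PicF.IsInvertible L') :
    RelAmple.IsRelAmple f' L' ↔ RelAmple.IsRelAmple f ((Scheme.Modules.pullback iX).obj L') := by
  have hpre : ∀ V' : S'.Opens, iX ⁻¹ᵁ (f' ⁻¹ᵁ V') = f ⁻¹ᵁ (iS ⁻¹ᵁ V') := by
    intro V'
    change (iX ≫ f') ⁻¹ᵁ V' = (f ≫ iS) ⁻¹ᵁ V'
    rw [w]
  constructor
  · rintro ⟨hqc, hA⟩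
    have : QuasiCompact (f ≫ iS) := by rw [← w]; infer_instance
    refine ⟨QuasiCompact.of_comp f iS, fun V => ?_⟩
    have hiS := isHomeomorph_of_surjective iS hsS
    let V' : S'.Opens := ⟨iS.base '' V.1, hiS.isOpenMap _ V.1.2⟩
    have hV' : iS ⁻¹ᵁ V' = V.1 := by
      ext x
      exact ⟨fun ⟨y, hy, hxy⟩ => hiS.injective hxy ▸ hy, fun hx => ⟨x, hx, rfl⟩⟩
    have hV'aff : IsAffineOpen V' := isAffineOpen_of_preimage iS hsS V' (by rw [hV']; exact V.2)
    have h1 := (isAmple_restrict_iff iX hsX hL' (f' ⁻¹ᵁ V')).2 (hA ⟨V', hV'aff⟩)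
    exact restrict_congr ((hpre V').trans (by rw [hV'])) h1
  · rintro ⟨hqc, hA⟩
    have : QuasiCompact (iX ≫ f') := by rw [w]; infer_instance
    refine ⟨quasiCompact_of_comp_surjective iX f' hsX, fun V' => ?_⟩
    have hVaff : IsAffineOpen (iS ⁻¹ᵁ V'.1) := V'.2.preimage iS
    have h1 := hA ⟨iS ⁻¹ᵁ V'.1, hVaff⟩
    exact (isAmple_restrict_iff iX hsX hL' (f' ⁻¹ᵁ V'.1)).1 (restrict_congr (hpre V'.1).symm h1)

end Groth.Agent.Helper1.ThickLift
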