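import Mathlib
import Groth.Agent.Lib.Helper1.ThickLift3

set_option autoImplicit false
universe u
open CategoryTheory CategoryTheory.Limits AlgebraicGeometry TopologicalSpace Opposite

namespace Groth.Agent.Helper1.AffStrat

variable {X Z : Scheme.{u}}

/-- a closed subscheme of an open neighbourhood of a locally closed affine stratum, which is affine
with affine structure morphism -/
theorem exists_approx (ι : Z ⟶ X) [IsImmersion ι] [IsAffine Z] [IsAffineHom ι] (V : X.Opens)
    (hιV : Set.range ι ⊆ V) (𝒦 : X.IdealSheafData) (h𝒦 : 𝒦 ≤ ι.ker)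
    (hsupp : (𝒦.support : Set X) ∩ V ⊆ Set.range ι) :
    ∃ (Y : Scheme.{u}) (i : Y ⟶ X), IsAffine Y ∧ IsAffineHom i ∧
      ∀ (W : X.Opens) (hW : IsAffineOpen W), W ≤ V →
        Function.Surjective (i.app W).hom ∧
          ∀ r, (i.app W).hom r = 0 → r ∈ 𝒦.ideal ⟨W, hW⟩ := by
  let c := 𝒦.subschemeι
  let V₁ : 𝒦.subscheme.Opens := c ⁻¹ᵁ V
  let i : (V₁ : Scheme.{u}) ⟶ X := V₁.ι ≫ c
  let t₀ : Z ⟶ 𝒦.subscheme := ι.toImage ≫ Scheme.IdealSheafData.inclusion h𝒦
  have ht₀ : t₀ ≫ c = ι := by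
    rw [Category.assoc, Scheme.IdealSheafData.inclusion_subschemeι]
    exact ι.toImage_imageι
  let t : Z ⟶ (V₁ : Scheme.{u}) := IsOpenImmersion.lift V₁.ι t₀ (by
    rw [Scheme.Opens.range_ι]
    rintro _ ⟨z, rfl⟩
    change c (t₀ z) ∈ V
    rw [← Scheme.Hom.comp_apply, ht₀]
    exact hιV ⟨z, rfl⟩)
  have ht : t ≫ i = ι := by
    rw [← Category.assoc, IsOpenImmersion.lift_fac, ht₀]
  haveI : IsImmersion (t ≫ i) := ht ▸ inferInstance
  haveI : IsImmersion t := IsImmersion.of_comp t i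
  have hsurj : Function.Surjective t := by
    intro y
    have hy : i y ∈ Set.range ι := by
      apply hsupp
      refine ⟨?_, ?_⟩
      · rw [← Scheme.IdealSheafData.range_subschemeι]
        exact ⟨V₁.ι y, rfl⟩
      · have hy1 : V₁.ι y ∈ V₁ := y.2
        exact hy1
    obtain ⟨z, hz⟩ := hy
    refine ⟨z, ?_⟩
    apply i.isEmbedding.injective
    rw [← hz, ← Scheme.Hom.comp_apply, ht]
  haveI : IsClosedImmersion t := .of_isPreimmersion t (by
    rw [hsurj.range_eq]; exact isClosed_univ)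
  refine ⟨V₁, i, Groth.Agent.S0440.result t hsurj, ⟨fun W hW => ?_⟩, ?_⟩
  · apply ThickLift.isAffineOpen_of_preimage t hsurj
    rw [← Scheme.Hom.comp_preimage, ht]
    exact hW.preimage ι
  · intro W hW hWV
    have happ : i.app W = c.app W ≫ V₁.ι.app (c ⁻¹ᵁ W) := Scheme.Hom.comp_app _ _ _
    haveI : IsIso (V₁.ι.app (c ⁻¹ᵁ W)) := by
      apply Scheme.Hom.isIso_app
      rw [Scheme.Opens.opensRange_ι]
      exact fun x hx => hWV hx
    have hbij := ConcreteCategory.bijective_of_isIso (V₁.ι.app (c ⁻¹ᵁ W))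
    refine ⟨?_, ?_⟩
    · rw [happ]
      exact hbij.2.comp (𝒦.subschemeι_app_surjective ⟨W, hW⟩)
    · intro r hr
      rw [happ] at hr
      have : (c.app W).hom r = 0 := by
        apply hbij.1
        rw [map_zero]
        exact hr
      rw [← 𝒦.ker_subschemeι_app ⟨W, hW⟩]
      exact this

end Groth.Agent.Helper1.AffStrat
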