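import Mathlib
import Groth.Agent.Lib.Helper1.AffStrat1
import Groth.Agent.Lib.Helper1.AffStrat2
import Groth.Agent.Lib.Helper1.AffStrat3

set_option autoImplicit false
universe u
open CategoryTheory CategoryTheory.Limits AlgebraicGeometry TopologicalSpace Opposite

namespace Groth.Agent.Helper1.AffStrat

open Scheme.Modules

variable {X Z : Scheme.{u}}

theorem not_mem_support_annI (G : X.Modules) [G.IsQuasicoherent] (hfin : FinSec G)
    (W : X.Opens) (hW : IsAffineOpen W) (hs : Subsingleton Γ(G, W)) (x : X) (hx : x ∈ W) :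
    x ∉ (annI G hfin).support := by
  intro hmem
  rw [Scheme.IdealSheafData.mem_support_iff_of_mem (U := ⟨W, hW⟩) hx] at hmem
  rw [Scheme.mem_zeroLocus_iff] at hmem
  have h1 : (1 : Γ(X, W)) ∈ (annI G hfin).ideal ⟨W, hW⟩ := by
    change (1 : Γ(X, W)) ∈ Module.annihilator Γ(X, W) Γ(G, W)
    rw [Module.mem_annihilator]
    intro m
    exact Subsingleton.elim _ _
  apply hmem 1 h1
  rw [Scheme.basicOpen_of_isUnit _ isUnit_one]
  exact hx

/-- **the affine approximation**: for a quasi-coherent module `G` of finite type, which over the open `V`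
is supported on the closed affine stratum `ι : Z → V`, there is an affine morphism `i : Y → X` from an
affine scheme such that `G → i_* i^* G` is bijective on the sections over the affine opens
contained in `V`. -/
theorem exists_affine_approx (ι : Z ⟶ X) [IsImmersion ι] [IsAffine Z] [IsAffineHom ι] (V : X.Opens)
    (hιV : Set.range ι ⊆ V) (hcl : closure (Set.range ι) ∩ V ⊆ Set.range ι)
    (G : X.Modules) [G.IsQuasicoherent] (hfin : FinSec G)
    (hsupp : ∀ W : X.Opens, IsAffineOpen W → W ≤ V → Disjoint (W : Set X) (Set.range ι) →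
      Subsingleton Γ(G, W)) :
    ∃ (Y : Scheme.{u}) (i : Y ⟶ X), IsAffine Y ∧ IsAffineHom i ∧
      ∀ (W : X.Opens), IsAffineOpen W → W ≤ V →
        Function.Bijective (((pullbackPushforwardAdjunction i).unit.app G).app W) := by
  let 𝒦 : X.IdealSheafData := annI G hfin * ι.ker
  have h𝒦 : 𝒦 ≤ ι.ker := by
    rw [Scheme.IdealSheafData.le_def]
    intro U
    exact (Ideal.mul_le_right : (annI G hfin).ideal U * ι.ker.ideal U ≤ ι.ker.ideal U)
  have h𝒦' : 𝒦 ≤ annI G hfin := by
    rw [Scheme.IdealSheafData.le_def]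
    intro U
    exact (Ideal.mul_le_left : (annI G hfin).ideal U * ι.ker.ideal U ≤ (annI G hfin).ideal U)
  have hsuppK : (𝒦.support : Set X) ∩ V ⊆ Set.range ι := by
    rintro x ⟨hx1, hxV⟩
    have hx1' : x ∈ ((annI G hfin).support ⊔ ι.ker.support : Closeds X) := hx1
    rcases hx1' with h | h
    · by_contra hxι
      have hxc : x ∉ closure (Set.range ι) := fun hc => hxι (hcl ⟨hc, hxV⟩)
      let O : X.Opens := V ⊓ ⟨(closure (Set.range ι))ᶜ, isClosed_closure.isOpen_compl⟩
      have hxO : x ∈ O := ⟨hxV, hxc⟩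
      obtain ⟨_, ⟨W, hW, rfl⟩, hxW, hWO⟩ :=
        X.isBasis_affineOpens.exists_subset_of_mem_open hxO O.2
      refine not_mem_support_annI G hfin W hW ?_ x hxW h
      apply hsupp W hW (fun y hy => (hWO hy).1)
      rw [Set.disjoint_left]
      intro y hy hyι
      exact (hWO hy).2 (subset_closure hyι)
    · rw [Scheme.Hom.support_ker] at h
      exact hcl ⟨h, hxV⟩
  obtain ⟨Y, i, hY, hi, hW⟩ := exists_approx ι V hιV 𝒦 h𝒦 hsuppK
  refine ⟨Y, i, hY, hi, fun W hWa hWV => ?_⟩
  obtain ⟨h1, h2⟩ := hW W hWa hWV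
  refine bijective_unit_app i G hWa (hWa.preimage i) h1 ?_
  intro r hr e
  have hr' : r ∈ (annI G hfin).ideal ⟨W, hWa⟩ := h𝒦' _ (h2 r hr)
  exact Module.mem_annihilator.1 hr' e

end Groth.Agent.Helper1.AffStrat
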