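import Mathlib
import Groth.Prelude.Def_Coh
import Groth.Prelude.Def_CohTop
import Groth.Agent.Lib.Helper3.HTerm
import Groth.Agent.Lib.Helper3.H0Iso

set_option autoImplicit false
universe u
open CategoryTheory CategoryTheory.Limits AlgebraicGeometry TopologicalSpace Opposite

namespace Groth.Agent.Helper1.CohUtil

/-- global cohomology is cohomology over the top open -/
noncomputable def HequivHU {T : TopCat.{u}} (F : CohTop.Ab T) (n : ℕ) :
    CohTop.H F n ≃+ CohTop.HU F n ⊤ :=
  Groth.Agent.Helper3.HTerm.HEquiv (Opens.grothendieckTopology T) isTerminalTop F n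

/-- global cohomology of a module is cohomology over the top open -/
noncomputable def HHequivHU {X : Scheme.{u}} (M : X.Modules) (n : ℕ) :
    Coh.HH X M n ≃+ CohTop.HU (Coh.toAb M) n ⊤ :=
  HequivHU (T := X.toTopCat) (Coh.toAb M) n

/-- `H^0(U, F) = F(U)` -/
noncomputable def HU0equiv {T : TopCat.{u}} (F : CohTop.Ab T) (U : Opens T) :
    CohTop.HU F 0 U ≃+ F.obj.obj (op U) :=
  Groth.Agent.Helper3.H0Iso.compEquiv (Opens.grothendieckTopology T) F U

/-- sections of an abelian sheaf over the empty open -/
theorem subsingleton_sections_bot {T : TopCat.{u}} (F : CohTop.Ab T) :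
    Subsingleton (F.obj.obj (op (⊥ : Opens T))) := by
  have hT : IsTerminal (F.obj.obj (op (⊥ : Opens T))) :=
    Sheaf.isTerminalOfBotCover F ⊥ (by
      intro x hx
      exact (hx : x ∈ (∅ : Set T)).elim)
  have hz : IsZero (F.obj.obj (op (⊥ : Opens T))) := IsZero.of_iso (isZero_zero _) (hT.uniqueUpToIso (isZero_zero _).isTerminal)
  exact AddCommGrpCat.subsingleton_of_isZero hz

/-- global cohomology in degree zero is global sections -/
noncomputable def HH0equiv {X : Scheme.{u}} (M : X.Modules) :
    Coh.HH X M 0 ≃+ Γ(M, ⊤) :=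
  (HHequivHU M 0).trans (HU0equiv (T := X.toTopCat) (Coh.toAb M) ⊤)

/-- cohomology of a quasi-coherent... no: of any module on the empty scheme vanishes in degree 0 -/
theorem subsingleton_HH0_of_isEmpty {X : Scheme.{u}} [IsEmpty X] (M : X.Modules) :
    Subsingleton (Coh.HH X M 0) := by
  have h := subsingleton_sections_bot (T := X.toTopCat) (Coh.toAb M)
  have e : (⊤ : Opens X.toTopCat) = ⊥ := by
    ext x
    exact (IsEmpty.false (α := X) x).elim
  rw [← e] at h
  have h' : Subsingleton Γ(M, ⊤) := h
  exact (HH0equiv M).toEquiv.subsingleton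

end Groth.Agent.Helper1.CohUtil
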