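import Mathlib
import Groth.Prelude.Def_Coh
import Groth.Agent.Lib.Helper1.QcExt

set_option autoImplicit false
universe u
open CategoryTheory CategoryTheory.Limits AlgebraicGeometry TopologicalSpace Opposite

namespace Groth.Agent.Helper1.H1Surj

open Groth.Agent.Helper1.QcCech Groth.Agent.Helper1 CategoryTheory.Abelian

variable {X : Scheme.{u}}

/-- **the first piece of the long exact cohomology sequence**: if `H¹` of the kernel vanishes,
the map on global sections is surjective -/
theorem app_top_surjective_of_H1 {S : ShortComplex X.Modules} (hS : S.ShortExact)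
    (h1 : Subsingleton (Coh.HH X S.X₁ 1)) : Function.Surjective (S.g.app ⊤) := by
  have hSab := QcExt.Sab_shortExact hS
  intro t
  let hT := Limits.isTerminalTop (α := Opens X)
  let x₃ : Sheaf.H (Coh.toAb S.X₃) 0 := (Sheaf.H.equiv₀ (Coh.toAb S.X₃) hT).symm t
  obtain ⟨x₂, hx₂⟩ := Ext.covariant_sequence_exact₃ _ hSab x₃ (zero_add 1)
    (Subsingleton.elim (h := h1) _ _)
  refine ⟨Sheaf.H.equiv₀ (Coh.toAb S.X₂) hT x₂, ?_⟩
  have h2 := Sheaf.H.equiv₀_naturality hT ((QcExt.T X).map S.g) x₂
  have h3 : Sheaf.H.map ((QcExt.T X).map S.g) 0 x₂ = x₃ := hx₂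
  refine h2.trans ?_
  rw [h3]
  exact (Sheaf.H.equiv₀ (Coh.toAb S.X₃) hT).apply_symm_apply t

end Groth.Agent.Helper1.H1Surj
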