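import Mathlib
import Groth.Prelude.Def_Coh
import Groth.Prelude.Def_FlatMod2
import Groth.Agent.Lib.Helper1.QcExt
import Groth.Agent.Lib.Helper1.QcAbel
import Groth.Agent.Lib.Helper1.H1Surj
import Groth.Agent.Lib.Helper1.FinSigma
import Groth.Agent.Lib.Helper1.IdealModL

set_option autoImplicit false
universe u
open CategoryTheory CategoryTheory.Limits AlgebraicGeometry TopologicalSpace Opposite

namespace Groth.Agent.Helper1.H1Ext

open Groth.Agent.Helper1.QcCech Groth.Agent.Helper1 CategoryTheory.Abelian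

variable {X : Scheme.{u}}

/-- vanishing of cohomology passes to the middle term of a short exact sequence -/
theorem subsingleton_HH_mid {S : ShortComplex X.Modules} (hS : S.ShortExact) (n : ℕ)
    (h1 : Subsingleton (Coh.HH X S.X₁ n)) (h3 : Subsingleton (Coh.HH X S.X₃ n)) :
    Subsingleton (Coh.HH X S.X₂ n) := by
  have hSab := QcExt.Sab_shortExact hS
  refine subsingleton_of_forall_eq 0 fun x => ?_
  obtain ⟨y, hy⟩ := Ext.covariant_sequence_exact₂ _ hSab x (Subsingleton.elim (h := h3) _ _)
  have hy0 : y = 0 := Subsingleton.elim (h := h1) y 0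
  rw [← hy, hy0, Ext.zero_comp]
  rfl

/-- the canonical short exact sequence `ker φ → M → im φ` -/
noncomputable def kerIm {M N : X.Modules} (φ : M ⟶ N) : ShortComplex X.Modules :=
  ShortComplex.mk (kernel.ι φ) (Abelian.factorThruImage φ) (by
    rw [← cancel_mono (Abelian.image.ι φ), Category.assoc, Abelian.image.fac, kernel.condition,
      zero_comp])

theorem kerIm_shortExact {M N : X.Modules} (φ : M ⟶ N) : (kerIm φ).ShortExact := by
  let S' : ShortComplex X.Modules := ShortComplex.mk (kernel.ι φ) φ (kernel.condition φ)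
  have hS' : S'.Exact := ShortComplex.exact_of_f_is_kernel _ (kernelIsKernel φ)
  let α : kerIm φ ⟶ S' :=
    { τ₁ := 𝟙 _
      τ₂ := 𝟙 _
      τ₃ := Abelian.image.ι φ
      comm₁₂ := by simp [kerIm, S']
      comm₂₃ := by
        change 𝟙 M ≫ φ = Abelian.factorThruImage φ ≫ Abelian.image.ι φ
        rw [Abelian.image.fac, Category.id_comp] }
  have : Epi α.τ₁ := inferInstanceAs (Epi (𝟙 _))
  have : IsIso α.τ₂ := inferInstanceAs (IsIso (𝟙 _))
  have : Mono α.τ₃ := inferInstanceAs (Mono (Abelian.image.ι φ))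
  have hS : (kerIm φ).Exact := (ShortComplex.exact_iff_of_epi_of_isIso_of_mono α).2 hS'
  have : Mono (kerIm φ).f := inferInstanceAs (Mono (kernel.ι φ))
  have : Epi (kerIm φ).g := inferInstanceAs (Epi (Abelian.factorThruImage φ))
  exact { exact := hS }

/-- every quasi-coherent subobject has vanishing `H¹` -/
def SubH1 (G : X.Modules) : Prop :=
  ∀ (F : X.Modules) (i : F ⟶ G), Mono i → F.IsQuasicoherent → Subsingleton (Coh.HH X F 1)

theorem subH1_of_iso {G G' : X.Modules} (e : G ≅ G') (h : SubH1 G) : SubH1 G' := by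
  intro F i hi hF
  exact h F (i ≫ e.inv) (mono_comp _ _) hF

theorem subsingleton_HH_of_isZero {F : X.Modules} (hF : IsZero F) (n : ℕ) :
    Subsingleton (Coh.HH X F n) := by
  have h0 : IsZero (Coh.toAb F) := by
    have := (QcExt.T X).map_isZero hF
    exact this
  refine subsingleton_of_forall_eq 0 fun x => ?_
  have h1 : 𝟙 (Coh.toAb F) = 0 := h0.eq_of_src _ _
  have h2 := Ext.comp_mk₀_id x
  rw [h1, Ext.mk₀_zero, Ext.comp_zero] at h2
  exact h2.symm

theorem subH1_of_isZero {G : X.Modules} (hG : IsZero G) : SubH1 G := by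
  intro F i hi hF
  apply subsingleton_HH_of_isZero
  rw [IsZero.iff_id_eq_zero, ← cancel_mono i]
  exact hG.eq_of_tgt _ _

/-- `SubH1` is closed under extensions of quasi-coherent modules -/
theorem subH1_of_shortExact {S : ShortComplex X.Modules} (hS : S.ShortExact)
    [S.X₃.IsQuasicoherent] (h1 : SubH1 S.X₁) (h3 : SubH1 S.X₃) : SubH1 S.X₂ := by
  intro F i hi hF
  let φ : F ⟶ S.X₃ := i ≫ S.g
  have hK : (kernel φ).IsQuasicoherent := QcAbel.isQuasicoherent_kernel φ
  have hI : (Abelian.image φ).IsQuasicoherent := QcAbel.isQuasicoherent_image φ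
  have hex := kerIm_shortExact φ
  refine subsingleton_HH_mid hex 1 ?_ ?_
  · -- kernel φ embeds into S.X₁
    have hz : (kernel.ι φ ≫ i) ≫ S.g = 0 := by
      rw [Category.assoc]; exact kernel.condition φ
    have := hS.mono_f
    let l : kernel φ ⟶ S.X₁ := hS.exact.lift (kernel.ι φ ≫ i) hz
    have hl : l ≫ S.f = kernel.ι φ ≫ i := hS.exact.lift_f _ hz
    have : Mono (l ≫ S.f) := by rw [hl]; exact mono_comp _ _
    have : Mono l := mono_of_mono l S.f
    exact h1 _ l this hK
  · exact h3 _ (Abelian.image.ι φ) (inferInstanceAs (Mono (kernel.ι _))) hI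

theorem subH1_biprod {G₁ G₂ : X.Modules} [G₂.IsQuasicoherent] (h1 : SubH1 G₁) (h2 : SubH1 G₂) :
    SubH1 (G₁ ⊞ G₂) := by
  have hS := (ShortComplex.Splitting.ofHasBinaryBiproduct G₁ G₂).shortExact
  have : (ShortComplex.mk (biprod.inl : G₁ ⟶ G₁ ⊞ G₂) (biprod.snd : G₁ ⊞ G₂ ⟶ G₂)
    biprod.inl_snd).X₃.IsQuasicoherent := ‹G₂.IsQuasicoherent›
  exact subH1_of_shortExact hS h1 h2

theorem subH1_freeMod (hO : SubH1 (Coh.structureModule X)) (n : ℕ) :
    SubH1 (FlatMod.freeMod X n) := by
  induction n with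
  | zero =>
    apply subH1_of_isZero
    have : IsEmpty (Fin 0) := inferInstance
    have hI : IsInitial (∐ fun _ : Fin 0 => Coh.structureModule X) := by
      refine IsInitial.ofUniqueHom (fun Y => Sigma.desc (fun i => i.elim0)) ?_
      intro Y m
      ext i
      exact i.elim0
    exact (isZero_zero _).of_iso (hI.uniqueUpToIso (isZero_zero _).isInitial)
  | succ n ih =>
    have hq : (FlatMod.freeMod X n).IsQuasicoherent :=
      have := IdealModL.isQuasicoherent_structureModule (X := X)
      FinSigma.isQuasicoherent_sigma (fun _ : Fin n => Coh.structureModule X)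
    have hb := subH1_biprod hO ih
    let e1 := biprod.isoCoprod (Coh.structureModule X) (FlatMod.freeMod X n)
    let e2 := (extendCofanIsColimit (fun _ : Fin (n + 1) => Coh.structureModule X)
      (colimit.isColimit _) (colimit.isColimit _)).coconePointUniqueUpToIso
        (colimit.isColimit (Discrete.functor fun _ : Fin (n + 1) => Coh.structureModule X))
    exact subH1_of_iso (e1 ≪≫ e2) hb

end Groth.Agent.Helper1.H1Ext
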