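import Mathlib
import Groth.Prelude.Def_Coh
import Groth.Prelude.Def_CohTop
import Groth.Agent.S0862
import Groth.Agent.S0800
import Groth.Agent.Lib.Helper3.SpecCov
import Groth.Agent.Lib.Helper1.CohUtil
import Groth.Agent.Lib.Lead.QB1

set_option autoImplicit false
universe u
open CategoryTheory CategoryTheory.Limits AlgebraicGeometry TopologicalSpace Opposite Coherent

namespace Groth.Agent.Helper1.ColimCoh

/-- On a quasi-separated scheme, cohomology over a compact open commutes with filtered colimits of
abelian sheaves. -/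
theorem preservesColimit_HU {X : Scheme.{u}} [QuasiSeparatedSpace X] (U : X.Opens)
    (hU : IsCompact (U : Set X)) (p : ℕ)
    (J : Type u) [SmallCategory J] [IsFiltered J] (F : J ⥤ CohTop.Ab X.toTopCat) :
    PreservesColimit F
      ((Sheaf.cohomologyPresheafFunctor (Opens.grothendieckTopology X) p).flip.obj (op U)) := by
  have hqs : IsQuasiSeparated (Set.univ : Set X) := isQuasiSeparated_univ
  let B : Set (TopologicalSpace.Opens X) := {W | IsCompact (W : Set X)}
  let Cov : ∀ (W : TopologicalSpace.Opens X) (κ : Type u), (κ → Over W) → Prop :=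
    fun W κ Y => Finite κ ∧ (IsCompact (W : Set X)) ∧
      (∀ k, IsCompact ((Y k).left : Set X)) ∧
      Sieve.ofArrows (fun k => (Y k).left) (fun k => (Y k).hom) ∈ Opens.grothendieckTopology X W
  refine Groth.Agent.S0862.result (Opens.grothendieckTopology X) B Cov ?_ ?_ U hU p J F
  · intro W κ Y hc
    obtain ⟨hfin, hW, hY, hcov⟩ := hc
    refine ⟨hfin, hW, hcov, fun q a => ?_⟩
    change IsCompact (((∏ᶜ fun k => Y (a k)).left : TopologicalSpace.Opens X) : Set X)
    rw [Groth.Agent.Helper3.SpecCov.prod_left_eq_iInf Y a]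
    exact Groth.Agent.S0800.isCompact_iInf_fin' _ hqs q _ (fun k => hY (a k))
      (fun k => Set.subset_univ _)
  · intro W hW T hT
    obtain ⟨κ, Y, hfin, hYc, hcov, hYT⟩ :=
      Groth.Agent.Helper3.SpecCov.exists_finite_refinement W hW T hT
    exact ⟨κ, Y, ⟨hfin, hW, hYc, hcov⟩, hYT⟩

/-- a colimit of zero objects is zero -/
theorem isZero_of_isColimit {C : Type*} [Category C] [HasZeroMorphisms C] {J : Type*} [Category J]
    {F : J ⥤ C} {c : Cocone F} (hc : IsColimit c) (h : ∀ j, IsZero (F.obj j)) : IsZero c.pt := by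
  rw [IsZero.iff_id_eq_zero]
  apply hc.hom_ext
  intro j
  exact (h j).eq_of_src _ _

/-- cohomology vanishing passes to filtered colimits of modules on a qcqs scheme -/
theorem subsingleton_HH_of_isColimit {X : Scheme.{u}} [CompactSpace X] [QuasiSeparatedSpace X]
    {J : Type u} [SmallCategory J] [IsFiltered J] (F : J ⥤ X.Modules) (c : Cocone F)
    (hc : IsColimit c) (q : ℕ) (h : ∀ j, Subsingleton (Coh.HH X (F.obj j) q)) :
    Subsingleton (Coh.HH X c.pt q) := by
  let T := SheafOfModules.toSheaf X.ringCatSheaf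
  let G := (Sheaf.cohomologyPresheafFunctor (Opens.grothendieckTopology X) q).flip.obj
    (op (⊤ : X.Opens))
  have h1 : IsColimit (T.mapCocone c) := isColimitOfPreserves T hc
  have hp : PreservesColimit (F ⋙ T) G :=
    preservesColimit_HU (X := X) ⊤ isCompact_univ q J (F ⋙ T)
  have h2 : IsColimit (G.mapCocone (T.mapCocone c)) := (hp.preserves h1).some
  have h3 : IsZero (G.mapCocone (T.mapCocone c)).pt := by
    refine isZero_of_isColimit h2 (fun j => ?_)
    have : Subsingleton (CohTop.HU (Coh.toAb (F.obj j)) q ⊤) :=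
      (CohUtil.HHequivHU (F.obj j) q).symm.toEquiv.subsingleton
    exact @AddCommGrpCat.isZero_of_subsingleton (((F ⋙ T) ⋙ G).obj j) this
  have h4 : Subsingleton (CohTop.HU (Coh.toAb c.pt) q ⊤) :=
    AddCommGrpCat.subsingleton_of_isZero h3
  exact (CohUtil.HHequivHU c.pt q).toEquiv.subsingleton

end Groth.Agent.Helper1.ColimCoh
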