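import Mathlib
import Groth.Prelude.Def_Coh
import Groth.Prelude.Def_CohTop
import Groth.Agent.Lib.Helper1.ColimCoh1

set_option autoImplicit false
universe u
open CategoryTheory CategoryTheory.Limits AlgebraicGeometry TopologicalSpace Opposite Coherent

namespace Groth.Agent.Helper1.ColimCoh

/-- an additive functor killing all summands kills a finite biproduct -/
theorem isZero_map_biproduct {C D : Type*} [Category C] [Category D] [Preadditive C]
    [Preadditive D] (G : C ⥤ D) [G.Additive] {ι : Type*} [Fintype ι] (f : ι → C)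
    [HasBiproduct f] (h : ∀ i, IsZero (G.obj (f i))) : IsZero (G.obj (⨁ f)) := by
  classical
  have ht : ∑ j : ι, biproduct.π f j ≫ biproduct.ι f j = 𝟙 (⨁ f) :=
    IsBilimit.total (biproduct.isBilimit f)
  rw [IsZero.iff_id_eq_zero, ← G.map_id, ← ht, G.map_sum]
  refine Finset.sum_eq_zero (fun i _ => ?_)
  rw [G.map_comp]
  rw [(h i).eq_of_tgt (G.map (biproduct.π f i)) 0, zero_comp]

/-- an additive functor killing all summands kills a finite coproduct -/
theorem isZero_map_sigma_of_finite {C D : Type*} [Category C] [Category D] [Preadditive C]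
    [Preadditive D] (G : C ⥤ D) [G.Additive] {ι : Type*} [Finite ι]
    (f : ι → C) [HasCoproduct f] (h : ∀ i, IsZero (G.obj (f i))) : IsZero (G.obj (∐ f)) := by
  classical
  letI := Fintype.ofFinite ι
  haveI := HasBiproduct.of_hasCoproduct f
  exact (isZero_map_biproduct G f h).of_iso (G.mapIso (biproduct.isoCoproduct f).symm)

/-- the cohomology functor on modules -/
noncomputable abbrev HHfunctor (X : Scheme.{u}) (q : ℕ) : X.Modules ⥤ AddCommGrpCat.{u} :=
  SheafOfModules.toSheaf X.ringCatSheaf ⋙ Sheaf.functorH (Opens.grothendieckTopology X) q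

instance (X : Scheme.{u}) (q : ℕ) : (HHfunctor X q).Additive := by
  constructor
  intro M N f g
  have h1 : (SheafOfModules.toSheaf.{u} X.ringCatSheaf).map (f + g) =
      (SheafOfModules.toSheaf.{u} X.ringCatSheaf).map f +
        (SheafOfModules.toSheaf.{u} X.ringCatSheaf).map g := Functor.map_add _
  ext x
  change Sheaf.H.map ((SheafOfModules.toSheaf.{u} X.ringCatSheaf).map (f + g)) q x =
    Sheaf.H.map ((SheafOfModules.toSheaf.{u} X.ringCatSheaf).map f) q x +
      Sheaf.H.map ((SheafOfModules.toSheaf.{u} X.ringCatSheaf).map g) q x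
  rw [h1, Sheaf.H.map_add_apply]

theorem isZero_HHfunctor_iff {X : Scheme.{u}} (M : X.Modules) (q : ℕ) :
    IsZero ((HHfunctor X q).obj M) ↔ Subsingleton (Coh.HH X M q) := by
  constructor
  · intro h
    exact AddCommGrpCat.subsingleton_of_isZero h
  · intro h
    exact @AddCommGrpCat.isZero_of_subsingleton ((HHfunctor X q).obj M) h

/-- cohomology vanishing passes to finite coproducts -/
theorem subsingleton_HH_sigma_of_finite {X : Scheme.{u}} {ι : Type u} [Finite ι]
    (M : ι → X.Modules) (q : ℕ) (h : ∀ i, Subsingleton (Coh.HH X (M i) q)) :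
    Subsingleton (Coh.HH X (∐ M) q) := by
  rw [← isZero_HHfunctor_iff]
  exact isZero_map_sigma_of_finite (HHfunctor X q) M (fun i => (isZero_HHfunctor_iff _ _).2 (h i))

/-- cohomology vanishing passes to arbitrary coproducts on a qcqs scheme -/
theorem subsingleton_HH_sigma {X : Scheme.{u}} [CompactSpace X] [QuasiSeparatedSpace X]
    {ι : Type u} (M : ι → X.Modules) (q : ℕ) (h : ∀ i, Subsingleton (Coh.HH X (M i) q)) :
    Subsingleton (Coh.HH X (∐ M) q) := by
  have hc := CoproductsFromFiniteFiltered.isColimitFiniteSubproductsCocone M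
  refine subsingleton_HH_of_isColimit _ _ hc q (fun s => ?_)
  exact subsingleton_HH_sigma_of_finite _ q (fun x => h _)

end Groth.Agent.Helper1.ColimCoh
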