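import Mathlib
import Groth.Prelude.Def_Coh
import Groth.Prelude.Def_CohTop
import Groth.Agent.Lib.Helper1.ColimCoh2

set_option autoImplicit false
universe u
open CategoryTheory CategoryTheory.Limits AlgebraicGeometry TopologicalSpace Opposite Coherent

namespace Groth.Agent.Helper1.ColimCoh

attribute [local instance] IsFiltered.isConnected

/-- a filtered colimit of subobjects maps monomorphically (AB5 for modules, via abelian sheaves) -/
theorem mono_colimit_desc {X : Scheme.{u}} {J : Type u} [SmallCategory J] [IsFiltered J]
    (D : J ⥤ X.Modules) (s : Cocone D) (hm : ∀ j, Mono (s.ι.app j)) :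
    Mono (colimit.desc D s) := by
  let T : X.Modules ⥤ CohTop.Ab X.toTopCat := SheafOfModules.toSheaf.{u} X.ringCatSheaf
  haveI : PreservesFiniteLimits T :=
    inferInstanceAs (PreservesFiniteLimits (SheafOfModules.toSheaf.{u} X.ringCatSheaf))
  haveI : T.Faithful := inferInstanceAs (SheafOfModules.toSheaf.{u} X.ringCatSheaf).Faithful
  haveI : PreservesColimitsOfShape J T :=
    inferInstanceAs (PreservesColimitsOfShape J (SheafOfModules.toSheaf.{u} X.ringCatSheaf))
  have h1 : IsColimit (T.mapCocone (colimit.cocone D)) :=
    isColimitOfPreserves T (colimit.isColimit D)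
  let φ : D ⋙ T ⟶ (Functor.const J).obj (T.obj s.pt) :=
    { app := fun j => T.map (s.ι.app j)
      naturality := by
        intro j j' g
        dsimp
        rw [Category.comp_id, ← T.map_comp, s.w] }
  haveI : ∀ j, Mono (φ.app j) := fun j => by
    haveI := hm j
    exact inferInstanceAs (Mono (T.map (s.ι.app j)))
  haveI : Mono φ := NatTrans.mono_of_mono_app φ
  have h2 : Mono (T.map (colimit.desc D s)) := by
    refine colim.map_mono' φ h1 (isColimitConstCocone J (T.obj s.pt)) (T.map (colimit.desc D s)) ?_
    intro j
    change T.map (colimit.ι D j) ≫ T.map (colimit.desc D s) = T.map (s.ι.app j) ≫ 𝟙 _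
    rw [Category.comp_id, ← T.map_comp, colimit.ι_desc]
  exact T.mono_of_mono_map h2

/-- **cohomology and directed unions**: if a module on a qcqs scheme is the filtered union of
submodules with vanishing `H^q`, then its `H^q` vanishes -/
theorem subsingleton_HH_of_union {X : Scheme.{u}} [CompactSpace X] [QuasiSeparatedSpace X]
    {J : Type u} [SmallCategory J] [IsFiltered J] (D : J ⥤ X.Modules) (s : Cocone D)
    (hm : ∀ j, Mono (s.ι.app j)) (he : Epi (colimit.desc D s)) (q : ℕ)
    (h : ∀ j, Subsingleton (Coh.HH X (D.obj j) q)) : Subsingleton (Coh.HH X s.pt q) := by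
  haveI := mono_colimit_desc D s hm
  haveI := he
  haveI : IsIso (colimit.desc D s) := isIso_of_mono_of_epi _
  haveI : IsIso ((colimit.isColimit D).desc s) := ‹IsIso (colimit.desc D s)›
  have hc : IsColimit s := IsColimit.ofPointIso (colimit.isColimit D)
  exact subsingleton_HH_of_isColimit D s hc q h

/-- a functor out of a preorder built from a compatible family of subobjects -/
noncomputable def functorOfMonos {C : Type*} [Category C] {J : Type*} [Preorder J] {I : C}
    (D : J → C) (m : ∀ j, D j ⟶ I) [∀ j, Mono (m j)]
    (h : ∀ j j', j ≤ j' → ∃ g : D j ⟶ D j', g ≫ m j' = m j) : J ⥤ C where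
  obj := D
  map {j j'} f := (h j j' (leOfHom f)).choose
  map_id j := by
    rw [← cancel_mono (m j), (h j j (leOfHom (𝟙 j))).choose_spec, Category.id_comp]
  map_comp {j j' j''} f g := by
    rw [← cancel_mono (m j''), Category.assoc, (h j' j'' (leOfHom g)).choose_spec,
      (h j j' (leOfHom f)).choose_spec, (h j j'' (leOfHom (f ≫ g))).choose_spec]

/-- the cocone of `functorOfMonos` -/
@[reducible] noncomputable def coconeOfMonos {C : Type*} [Category C] {J : Type*} [Preorder J] {I : C}
    (D : J → C) (m : ∀ j, D j ⟶ I) [∀ j, Mono (m j)]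
    (h : ∀ j j', j ≤ j' → ∃ g : D j ⟶ D j', g ≫ m j' = m j) : Cocone (functorOfMonos D m h) where
  pt := I
  ι :=
    { app := m
      naturality := by
        intro j j' f
        dsimp
        rw [Category.comp_id]
        exact (h j j' (leOfHom f)).choose_spec }

end Groth.Agent.Helper1.ColimCoh
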