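import Mathlib
import Groth.Prelude.Def_Coh
import Groth.Agent.Lib.Helper1.SubExt9
import Groth.Agent.Lib.Helper1.AffPushEpi
import Groth.Agent.Lib.Helper1.ColimCoh3
import Groth.Agent.Lib.Helper1.CohAbel
import Groth.Agent.Lib.Helper1.VT23

set_option autoImplicit false
universe u
open CategoryTheory CategoryTheory.Limits AlgebraicGeometry TopologicalSpace Opposite Coherent

namespace Groth.Agent.Helper1.QcSum

open Groth.Agent.Helper1.QcCech Groth.Agent.Helper1 Groth.Agent.Helper1.SubSh

variable {X : Scheme.{u}}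

/-- on a qcqs scheme every quasi-coherent module is a quotient of a coproduct of quasi-coherent
submodules of finite type -/
theorem exists_epi_sigma_ft [CompactSpace X] [QuasiSeparatedSpace X] (F : X.Modules)
    [F.IsQuasicoherent] :
    ∃ (A : Type u) (G : A → X.Modules) (i : ∀ a, G a ⟶ F), (∀ a, Mono (i a)) ∧
      (∀ a, (G a).IsQuasicoherent) ∧ (∀ a, SheafOfModules.IsFiniteType.{u, u, u} (G a)) ∧
      Epi (Sigma.desc i) := by
  let A : Type u := Σ U : X.affineOpens, Γ(F, U.1)
  have hex : ∀ a : A, ∃ G' : LocalSub F, G'.IsQcFtOn ⊤ ∧ a.2 ∈ G'.carrier a.1.1 := by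
    rintro ⟨⟨U, hU⟩, s⟩
    obtain ⟨G', hG', hc⟩ := LocalSub.exists_extension_of_qcqs U hU.isCompact
      (LocalSub.genOn U {s}) (LocalSub.genOn_singleton_isQcFtOn hU s)
    refine ⟨G', hG', ?_⟩
    change s ∈ G'.carrier U
    rw [hc U le_rfl]
    exact LocalSub.mem_genOn_singleton s
  choose N hN hmem using hex
  refine ⟨A, fun a => (N a).obj, fun a => (N a).ι, fun a => inferInstance,
    fun a => (N a).isQuasicoherent_obj (hN a).isQcOn, fun a => (N a).isFiniteType_obj (hN a), ?_⟩
  apply AffPushEpi.epi_of_surjective_on_affine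
  intro U hU t
  let a : A := ⟨⟨U, hU⟩, t⟩
  refine ⟨(Sigma.ι (fun a => (N a).obj) a).app U ((N a).mkSec t (hmem a)), ?_⟩
  have h1 : (Sigma.ι (fun a => (N a).obj) a ≫ Sigma.desc (fun a => (N a).ι)).app U
      ((N a).mkSec t (hmem a)) = t := by
    rw [Sigma.ι_desc]
    exact (N a).ι_app_mkSec t (hmem a)
  exact h1

end Groth.Agent.Helper1.QcSum
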