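import Mathlib
import Groth.Prelude.Def_Coh
import Groth.Agent.Lib.Helper1.QcSum1
import Groth.Agent.Lib.Lead.QB3

set_option autoImplicit false
universe u
open CategoryTheory CategoryTheory.Limits AlgebraicGeometry TopologicalSpace Opposite Coherent

namespace Groth.Agent.Helper1.QcSum

open Groth.Agent.Helper1.QcCech Groth.Agent.Helper1 Groth.Agent.Helper1.SubSh

variable {X : Scheme.{u}}

/-- the image of a finite coproduct of quasi-coherent modules of finite type in a quasi-coherent
module is quasi-coherent of finite type -/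
theorem image_sigma_ft {F : X.Modules} [F.IsQuasicoherent] {A : Type u} (G : A → X.Modules)
    (i : ∀ a, G a ⟶ F) (hq : ∀ a, (G a).IsQuasicoherent)
    (hft : ∀ a, SheafOfModules.IsFiniteType.{u, u, u} (G a)) (S : Finset A) :
    (Abelian.image (Sigma.desc (fun a : S => i a.1))).IsQuasicoherent ∧
      SheafOfModules.IsFiniteType.{u, u, u} (Abelian.image (Sigma.desc (fun a : S => i a.1))) := by
  classical
  let d : (∐ fun a : S => G a.1) ⟶ F := Sigma.desc (fun a : S => i a.1)
  haveI : ∀ a : S, (G a.1).IsQuasicoherent := fun a => hq a.1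
  haveI hE : (∐ fun a : S => G a.1).IsQuasicoherent :=
    Groth.Agent.Lead.QB.isQuasicoherent_sigma (fun a : S => G a.1)
  have hI : (Abelian.image d).IsQuasicoherent := QcAbel.isQuasicoherent_image d
  refine ⟨hI, ?_⟩
  let e : Fin S.card ≃ S := S.equivFin.symm
  let B : Fin S.card → X.Modules := fun k => G (e k).1
  haveI : ∀ k, (B k).IsQuasicoherent := fun k => hq _
  haveI hB : (∐ B).IsQuasicoherent := FinSigma.isQuasicoherent_sigma B
  have hBft : SheafOfModules.IsFiniteType.{u, u, u} (∐ B) := VT.isFT_sigma B (fun k => hft _)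
  let ψ : (∐ B) ⟶ Abelian.image d :=
    Sigma.desc (fun k => Sigma.ι (fun a : S => G a.1) (e k) ≫ Abelian.factorThruImage d)
  haveI : Epi ψ := by
    apply Preadditive.epi_of_cancel_zero
    intro Q g hg
    have h1 : Abelian.factorThruImage d ≫ g = 0 := by
      apply Sigma.hom_ext
      intro a
      obtain ⟨k, rfl⟩ := e.surjective a
      have := congrArg (fun χ => Sigma.ι B k ≫ χ) hg
      simp only [ψ, Sigma.ι_desc_assoc, comp_zero] at this
      rw [comp_zero, ← this, Category.assoc]
    exact (cancel_epi _).1 (h1.trans comp_zero.symm)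
  haveI hK : (kernel ψ).IsQuasicoherent := QcAbel.isQuasicoherent_kernel ψ
  let T : ShortComplex X.Modules := ShortComplex.mk (kernel.ι ψ) ψ (kernel.condition ψ)
  have hT : T.ShortExact :=
    { exact := ShortComplex.exact_kernel ψ
      mono_f := inferInstanceAs (Mono (kernel.ι ψ))
      epi_g := inferInstanceAs (Epi ψ) }
  haveI : T.X₁.IsQuasicoherent := hK
  haveI : T.X₂.IsQuasicoherent := hB
  haveI : T.X₃.IsQuasicoherent := hI
  exact FtLocal.isFiniteType_right hT hBft

/-- **vanishing of cohomology from submodules of finite type**: on a qcqs scheme, if `H^q` vanishes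
on all quasi-coherent submodules of finite type of a quasi-coherent module `F`, then it vanishes
on `F` -/
theorem subsingleton_HH_of_ft_subs [CompactSpace X] [QuasiSeparatedSpace X] (F : X.Modules)
    [F.IsQuasicoherent] (q : ℕ)
    (h : ∀ (G : X.Modules) (i : G ⟶ F), Mono i → G.IsQuasicoherent →
      SheafOfModules.IsFiniteType.{u, u, u} G → Subsingleton (Coh.HH X G q)) :
    Subsingleton (Coh.HH X F q) := by
  classical
  obtain ⟨A, G, i, hm, hq, hft, hepi⟩ := exists_epi_sigma_ft F
  let E : Finset A → X.Modules := fun S => ∐ fun a : S => G a.1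
  let d : ∀ S : Finset A, E S ⟶ F := fun S => Sigma.desc (fun a : S => i a.1)
  let D : Finset A → X.Modules := fun S => Abelian.image (d S)
  let m : ∀ S, D S ⟶ F := fun S => Abelian.image.ι (d S)
  haveI : ∀ S, Mono (m S) := fun S => inferInstanceAs (Mono (Abelian.image.ι (d S)))
  have hfac : ∀ S S' : Finset A, S ≤ S' → ∃ g : D S ⟶ D S', g ≫ m S' = m S := by
    intro S S' hSS'
    let incl : E S ⟶ E S' :=
      Sigma.desc (fun a : S => Sigma.ι (fun a : S' => G a.1) ⟨a.1, hSS' a.2⟩)
    have hincl : incl ≫ d S' = d S := by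
      apply Sigma.hom_ext
      intro a
      simp only [incl, d, Sigma.ι_desc_assoc, Sigma.ι_desc]
    have hz : m S ≫ cokernel.π (d S') = 0 := by
      rw [← cancel_epi (Abelian.factorThruImage (d S)), comp_zero, ← Category.assoc]
      change (Abelian.factorThruImage (d S) ≫ Abelian.image.ι (d S)) ≫ _ = 0
      rw [Abelian.image.fac, ← hincl, Category.assoc, cokernel.condition, comp_zero]
    exact ⟨kernel.lift (cokernel.π (d S')) (m S) hz, kernel.lift_ι _ _ _⟩
  let DF := ColimCoh.functorOfMonos D m hfac
  let s := ColimCoh.coconeOfMonos D m hfac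
  have he : Epi (colimit.desc DF s) := by
    let k : ∀ a, G a ⟶ DF.obj {a} := fun a =>
      Sigma.ι (fun x : ({a} : Finset A) => G x.1) ⟨a, Finset.mem_singleton_self a⟩ ≫
        Abelian.factorThruImage (d {a})
    have hk : Sigma.desc i = Sigma.desc (fun a => k a ≫ colimit.ι DF {a}) ≫ colimit.desc DF s := by
      apply Sigma.hom_ext
      intro a
      rw [Sigma.ι_desc, Sigma.ι_desc_assoc, Category.assoc, colimit.ι_desc]
      change i a = (Sigma.ι (fun x : ({a} : Finset A) => G x.1) ⟨a, Finset.mem_singleton_self a⟩ ≫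
        Abelian.factorThruImage (d {a})) ≫ Abelian.image.ι (d {a})
      rw [Category.assoc, Abelian.image.fac]
      simp only [d, Sigma.ι_desc]
    haveI : Epi (Sigma.desc (fun a => k a ≫ colimit.ι DF {a}) ≫ colimit.desc DF s) := by
      rw [← hk]; exact hepi
    exact epi_of_epi (Sigma.desc (fun a => k a ≫ colimit.ι DF {a})) (colimit.desc DF s)
  refine ColimCoh.subsingleton_HH_of_union DF s (fun S => inferInstanceAs (Mono (m S))) he q ?_
  intro S
  have hS := image_sigma_ft G i hq hft S
  exact h (D S) (m S) inferInstance hS.1 hS.2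

end Groth.Agent.Helper1.QcSum
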