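import Mathlib
import Groth.Prelude.Def_Coh
import Groth.Agent.Lib.Helper1.QcAcyc
import Groth.Agent.S0461
import Groth.Agent.S15233

set_option autoImplicit false
universe u
open CategoryTheory CategoryTheory.Limits AlgebraicGeometry TopologicalSpace Opposite

namespace Groth.Agent.Helper1.RpushZero

/-- higher direct images vanish when the cohomology of preimages of a basis vanishes -/
theorem isZero_of_basis {X Y : TopCat.{u}} (f : X ⟶ Y) (F : CohTop.Ab X) (i : ℕ)
    (B : Set (Opens Y)) (hB : Opens.IsBasis B)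
    (h : ∀ V ∈ B, Subsingleton (CohTop.HU F i ((Opens.map f).obj V))) :
    IsZero ((CohTop.Rpush f i).obj F) := by
  obtain ⟨e⟩ := Groth.Agent.S0461.result f F i
  refine IsZero.of_iso ?_ e
  refine Groth.Agent.S15233.result (Opens.grothendieckTopology Y) (fun V => V ∈ B) ?_ _ ?_
  · intro V S hS
    intro x hx
    obtain ⟨U, g, hg, hxU⟩ := hS x hx
    obtain ⟨_, ⟨U', hU'B, rfl⟩, hxU', hU'U⟩ := hB.exists_subset_of_mem_open hxU U.2
    refine ⟨U', homOfLE hU'U ≫ g, ?_, hxU'⟩
    exact ⟨U', 𝟙 _, homOfLE hU'U ≫ g, ⟨S.downward_closed hg _, hU'B⟩, Category.id_comp _⟩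
  · intro V hV
    have := h V hV
    exact AddCommGrpCat.isZero_of_subsingleton _

end Groth.Agent.Helper1.RpushZero

namespace Groth.Agent.Helper1.RpushZero

/-- higher direct images (of the underlying abelian sheaf) of a quasi-coherent module along an
affine morphism vanish -/
theorem rpushAb_isZero {X S : Scheme.{u}} (f : X ⟶ S) [IsAffineHom f] (M : X.Modules)
    [M.IsQuasicoherent] (q : ℕ) : IsZero ((Coh.RpushAb f (q + 1)).obj (Coh.toAb M)) :=
  isZero_of_basis f.base (Coh.toAb M) (q + 1) S.affineOpens S.isBasis_affineOpens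
    (fun V hV => QcAcyc.subsingleton_HU M (f ⁻¹ᵁ V) (IsAffineOpen.preimage hV f) q)

/-- the underlying abelian sheaf of a pushforward -/
noncomputable def toAbPushIso {X S : Scheme.{u}} (f : X ⟶ S) (M : X.Modules) :
    Coh.toAb ((Coh.push f).obj M) ≅ (Coh.pushAb f).obj (Coh.toAb M) := Iso.refl _

end Groth.Agent.Helper1.RpushZero
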