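import Mathlib
import Groth.Agent.Lib.Helper1.AffStrat4
import Groth.Agent.Lib.Helper1.QcSum2
import Groth.Agent.Lib.Helper1.CohACC
import Groth.Agent.Lib.Helper1.H1Ext
import Groth.Agent.Lib.Helper1.PushQc
import Groth.Agent.Lib.Helper1.QcAbel
import Groth.Agent.Lib.Helper1.QcPullGen
import Groth.Agent.Lib.Helper1.FinPush
import Groth.Agent.Lib.Helper1.FtLocal
import Groth.Agent.Lib.Helper1.CohUtil
import Groth.Agent.S0012

set_option autoImplicit false
universe u
open CategoryTheory CategoryTheory.Limits AlgebraicGeometry TopologicalSpace Opposite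

namespace Groth.Agent.Helper1.AffStrat

open Scheme.Modules Groth.Agent.Helper1.QcCech Groth.Agent.Helper1 CategoryTheory.Abelian

variable {X Z : Scheme.{u}}

/-- the sections over the affine opens disjoint from `C` vanish -/
def SuppIn (G : X.Modules) (C : Set X) : Prop :=
  ∀ W : X.Opens, IsAffineOpen W → Disjoint (W : Set X) C → Subsingleton Γ(G, W)

theorem SuppIn.of_mono {G' G : X.Modules} (j : G' ⟶ G) [Mono j] {C : Set X} (h : SuppIn G C) :
    SuppIn G' C := by
  intro W hW hd
  haveI := h W hW hd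
  exact (FtLocal.app_injective_of_mono j W).subsingleton

theorem isZero_of_suppIn_empty (G : X.Modules) [G.IsQuasicoherent] (h : SuppIn G ∅) : IsZero G := by
  refine CohACC.isZero_of_affine_cover G (fun W : X.affineOpens => W.1) (fun W => W.2) ?_ ?_
  · apply le_antisymm le_top
    intro x _
    obtain ⟨_, ⟨W, hW, rfl⟩, hxW, -⟩ := X.isBasis_affineOpens.exists_subset_of_mem_open
      (Set.mem_univ x) isOpen_univ
    exact Opens.mem_iSup.2 ⟨⟨W, hW⟩, hxW⟩
  · intro W s
    haveI := h W.1 W.2 (Set.disjoint_empty _)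
    exact Subsingleton.elim _ _

/-- vanishing of the cohomology of the subobject in a short exact sequence -/
theorem subsingleton_HH_X₁ {S : ShortComplex X.Modules} (hS : S.ShortExact) (n : ℕ)
    (h3 : Subsingleton (Coh.HH X S.X₃ n)) (h2 : Subsingleton (Coh.HH X S.X₂ (n + 1))) :
    Subsingleton (Coh.HH X S.X₁ (n + 1)) := by
  have hSab := QcExt.Sab_shortExact hS
  refine subsingleton_of_forall_eq 0 fun x => ?_
  obtain ⟨y, hy⟩ := Ext.covariant_sequence_exact₁ _ hSab x
    (Subsingleton.elim (h := h2) _ _) rfl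
  have hy0 : y = 0 := Subsingleton.elim (h := h3) y 0
  rw [← hy, hy0, Ext.zero_comp]
  rfl

theorem subsingleton_HH_of_isAffine (Y : Scheme.{u}) [IsAffine Y] (M : Y.Modules)
    [M.IsQuasicoherent] (p : ℕ) : Subsingleton (Coh.HH Y M (p + 1)) := by
  have h := QcAcyc.subsingleton_HU M ⊤ (isAffineOpen_top Y) p
  exact (CohUtil.HHequivHU M (p + 1)).toEquiv.subsingleton


set_option maxHeartbeats 800000 in
/-- the inductive step, for modules of finite type -/
theorem step_ft (C : Set X) (hC : IsClosed C)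
    (ι : Z ⟶ X) [IsImmersion ι] [IsAffine Z] [IsAffineHom ι]
    (hdisj : Disjoint (Set.range ι) C) (hcl : IsClosed (Set.range ι ∪ C)) (m : ℕ)
    (IH : ∀ (K : X.Modules), K.IsQuasicoherent → SuppIn K C → ∀ p, m ≤ p →
      Subsingleton (Coh.HH X K p))
    (G : X.Modules) [G.IsQuasicoherent] (hft : SheafOfModules.IsFiniteType.{u, u, u} G)
    (hG : SuppIn G (Set.range ι ∪ C)) (p : ℕ) (hp : m + 1 ≤ p) :
    Subsingleton (Coh.HH X G p) := by
  let V : X.Opens := ⟨Cᶜ, hC.isOpen_compl⟩
  have hιV : Set.range ι ⊆ V := fun x hx hxC => (Set.disjoint_left.1 hdisj) hx hxC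
  have hcl' : closure (Set.range ι) ∩ V ⊆ Set.range ι := by
    rintro x ⟨hx1, hx2⟩
    have : x ∈ Set.range ι ∪ C := (closure_minimal Set.subset_union_left hcl) hx1
    rcases this with h | h
    · exact h
    · exact absurd h hx2
  have hfin : FinSec G := fun W hW => FinPush.finite_sections G ⟨‹G.IsQuasicoherent›, hft⟩ hW
  have hsupp : ∀ W : X.Opens, IsAffineOpen W → W ≤ V → Disjoint (W : Set X) (Set.range ι) →
      Subsingleton Γ(G, W) := by
    intro W hW hWV hd
    apply hG W hW
    rw [Set.disjoint_union_right]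
    refine ⟨hd, ?_⟩
    rw [Set.disjoint_left]
    intro x hx hxC
    exact hWV hx hxC
  obtain ⟨Y, i, hY, hi, hbij⟩ := exists_affine_approx ι V hιV hcl' G hfin hsupp
  let P : X.Modules := (Scheme.Modules.pushforward i).obj ((Scheme.Modules.pullback i).obj G)
  let η : G ⟶ P := (pullbackPushforwardAdjunction i).unit.app G
  haveI hq1 : ((Scheme.Modules.pullback i).obj G).IsQuasicoherent := QcPullGen.isQuasicoherent_pullback i G
  haveI hqP : P.IsQuasicoherent := PushQc.isQuasicoherent_pushforward i ((Scheme.Modules.pullback i).obj G)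
  have hP : ∀ q, Subsingleton (Coh.HH X P (q + 1)) := by
    intro q
    obtain ⟨e⟩ := Groth.Agent.S0012.result i ((Scheme.Modules.pullback i).obj G) (q + 1)
    haveI := subsingleton_HH_of_isAffine Y ((Scheme.Modules.pullback i).obj G) q
    exact e.symm.toEquiv.subsingleton
  haveI hqK : (kernel η).IsQuasicoherent := QcAbel.isQuasicoherent_kernel η
  haveI hqI : (Abelian.image η).IsQuasicoherent := QcAbel.isQuasicoherent_image η
  haveI hqQ : (cokernel η).IsQuasicoherent := QcAbel.isQuasicoherent_cokernel η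
  have hWV : ∀ W : X.Opens, Disjoint (W : Set X) C → W ≤ V := by
    intro W hd x hx hxC
    exact (Set.disjoint_left.1 hd) hx hxC
  -- the second short exact sequence
  let S2 : ShortComplex X.Modules := ShortComplex.mk (Abelian.image.ι η) (cokernel.π η)
    (kernel.condition _)
  have hS2 : S2.Exact := ShortComplex.exact_of_f_is_kernel _ (kernelIsKernel (cokernel.π η))
  haveI : Mono S2.f := inferInstanceAs (Mono (Abelian.image.ι η))
  haveI : Epi S2.g := inferInstanceAs (Epi (cokernel.π η))
  have hS2E : S2.ShortExact := { exact := hS2 }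
  haveI : S2.X₁.IsQuasicoherent := hqI
  have hK : SuppIn (kernel η) C := by
    intro W hW hd
    refine subsingleton_of_forall_eq 0 fun k => ?_
    apply FtLocal.app_injective_of_mono (kernel.ι η) W
    apply (hbij W hW (hWV W hd)).1
    let S' : ShortComplex X.Modules := ShortComplex.mk (kernel.ι η) η (kernel.condition η)
    have h0 := QcExt.app_zero S' W k
    rw [map_zero, map_zero]
    exact h0
  have hQ : SuppIn (cokernel η) C := by
    intro W hW hd
    refine subsingleton_of_forall_eq 0 fun q => ?_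
    obtain ⟨x, rfl⟩ := QcExt.app_surjective hS2E W hW q
    obtain ⟨g, rfl⟩ := (hbij W hW (hWV W hd)).2 x
    let S'' : ShortComplex X.Modules := ShortComplex.mk η (cokernel.π η) (cokernel.condition η)
    exact QcExt.app_zero S'' W g
  obtain ⟨p', rfl⟩ : ∃ p', p = p' + 1 := ⟨p - 1, by omega⟩
  have hI : Subsingleton (Coh.HH X (Abelian.image η) (p' + 1)) :=
    subsingleton_HH_X₁ hS2E p' (IH _ hqQ hQ p' (by omega)) (hP p')
  exact H1Ext.subsingleton_HH_mid (H1Ext.kerIm_shortExact η) (p' + 1)
    (IH _ hqK hK (p' + 1) (by omega)) hI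

/-- the inductive step -/
theorem step [CompactSpace X] [QuasiSeparatedSpace X] (C : Set X) (hC : IsClosed C)
    (ι : Z ⟶ X) [IsImmersion ι] [IsAffine Z] [IsAffineHom ι]
    (hdisj : Disjoint (Set.range ι) C) (hcl : IsClosed (Set.range ι ∪ C)) (m : ℕ)
    (IH : ∀ (K : X.Modules), K.IsQuasicoherent → SuppIn K C → ∀ p, m ≤ p →
      Subsingleton (Coh.HH X K p))
    (G : X.Modules) [G.IsQuasicoherent]
    (hG : SuppIn G (Set.range ι ∪ C)) (p : ℕ) (hp : m + 1 ≤ p) :
    Subsingleton (Coh.HH X G p) := by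
  apply QcSum.subsingleton_HH_of_ft_subs G p
  intro G' j hj hq hft
  haveI := hq
  exact step_ft C hC ι hdisj hcl m IH G' hft (hG.of_mono j) p hp

end Groth.Agent.Helper1.AffStrat
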