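import Mathlib
import Groth.Prelude.Def_MoreMor
import Groth.Agent.Lib.Helper1.AffStrat5

set_option autoImplicit false
universe u
open CategoryTheory CategoryTheory.Limits AlgebraicGeometry TopologicalSpace Opposite

namespace Groth.Agent.Helper1.AffStrat

open Scheme.Modules Groth.Agent.Helper1.QcCech Groth.Agent.Helper1

variable {X : Scheme.{u}} {n : ℕ} (s : X → Fin (n + 1))

/-- the strata of an affine stratification -/
def Strata (s : X → Fin (n + 1)) : Prop :=
  ∀ i : Fin (n + 1), ∃ (Z : Scheme.{u}) (ι : Z ⟶ X),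
    IsImmersion ι ∧ IsAffine Z ∧ IsAffineHom ι ∧ Set.range ι = {x : X | s x = i}

variable {s}

theorem compactSpace_of_strata (hstr : Strata s) : CompactSpace X := by
  choose Z ι h1 h2 h3 h4 using hstr
  have : (Set.univ : Set X) = ⋃ i, Set.range (ι i) := by
    ext x
    simp only [Set.mem_univ, Set.mem_iUnion, true_iff]
    refine ⟨s x, ?_⟩
    rw [h4]
    rfl
  refine ⟨?_⟩
  rw [this]
  apply isCompact_iUnion
  intro i
  haveI := h2 i
  exact isCompact_range (ι i).continuous

theorem quasiSeparatedSpace_of_strata (hstr : Strata s) : QuasiSeparatedSpace X := by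
  choose Z ι h1 h2 h3 h4 using hstr
  rw [quasiSeparatedSpace_iff_forall_affineOpens]
  intro U V
  have : (U ∩ V : Set X) = ⋃ i, (ι i) '' ((ι i ⁻¹ᵁ U.1 : Set (Z i)) ∩ (ι i ⁻¹ᵁ V.1 : Set (Z i))) := by
    ext x
    simp only [Set.mem_inter_iff, Set.mem_iUnion, Set.mem_image]
    constructor
    · rintro ⟨hxU, hxV⟩
      have hx : x ∈ Set.range (ι (s x)) := by rw [h4]; rfl
      obtain ⟨z, hz⟩ := hx
      refine ⟨_, z, ⟨?_, ?_⟩, hz⟩
      · change (ι (s x)) z ∈ U.1
        rw [hz]; exact hxU
      · change (ι (s x)) z ∈ V.1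
        rw [hz]; exact hxV
    · rintro ⟨i, z, ⟨hzU, hzV⟩, rfl⟩
      exact ⟨hzU, hzV⟩
  rw [this]
  apply isCompact_iUnion
  intro i
  haveI := h2 i
  haveI := h3 i
  apply IsCompact.image _ (ι i).continuous
  exact QuasiSeparatedSpace.inter_isCompact _ _ (ι i ⁻¹ᵁ U.1).2 (U.2.preimage (ι i)).isCompact
    (ι i ⁻¹ᵁ V.1).2 (V.2.preimage (ι i)).isCompact

theorem vanishing_aux [CompactSpace X] [QuasiSeparatedSpace X]
    (hcl : ∀ i : Fin (n + 1), IsClosed {x : X | s x ≤ i}) (hstr : Strata s) :
    ∀ m : ℕ, m ≤ n + 1 → ∀ (G : X.Modules), G.IsQuasicoherent →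
      SuppIn G {x : X | (s x : ℕ) < m} → ∀ p, m ≤ p → Subsingleton (Coh.HH X G p) := by
  intro m
  induction m with
  | zero =>
    intro _ G hG hsupp p _
    apply H1Ext.subsingleton_HH_of_isZero
    apply isZero_of_suppIn_empty G
    have : {x : X | (s x : ℕ) < 0} = ∅ := by ext x; simp
    rwa [this] at hsupp
  | succ m ih =>
    intro hm G hG hsupp p hp
    let idx : Fin (n + 1) := ⟨m, by omega⟩
    obtain ⟨Z, ι, h1, h2, h3, h4⟩ := hstr idx
    have hC : IsClosed {x : X | (s x : ℕ) < m} := by
      rcases Nat.eq_zero_or_pos m with h0 | h0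
      · have : {x : X | (s x : ℕ) < m} = ∅ := by ext x; simp [h0]
        rw [this]; exact isClosed_empty
      · have : {x : X | (s x : ℕ) < m} = {x : X | s x ≤ (⟨m - 1, by omega⟩ : Fin (n + 1))} := by
          ext x
          simp only [Set.mem_ofPred_eq, Fin.le_def]
          omega
        rw [this]; exact hcl _
    have hunion : Set.range ι ∪ {x : X | (s x : ℕ) < m} = {x : X | (s x : ℕ) < m + 1} := by
      rw [h4]
      ext x
      simp only [Set.mem_union, Set.mem_ofPred_eq, Fin.ext_iff, idx]
      omega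
    have hcl2 : IsClosed (Set.range ι ∪ {x : X | (s x : ℕ) < m}) := by
      rw [hunion]
      have : {x : X | (s x : ℕ) < m + 1} = {x : X | s x ≤ idx} := by
        ext x
        simp only [Set.mem_ofPred_eq, Fin.le_def, idx]
        omega
      rw [this]; exact hcl _
    have hdisj : Disjoint (Set.range ι) {x : X | (s x : ℕ) < m} := by
      rw [h4, Set.disjoint_left]
      intro x hx hx'
      simp only [Set.mem_ofPred_eq] at hx hx'
      rw [hx] at hx'
      simp [idx] at hx'
    rw [← hunion] at hsupp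
    exact step _ hC ι hdisj hcl2 m (fun K hK hKs p hp => ih (by omega) K hK hKs p hp) G hsupp p hp

/-- **vanishing of cohomology above the affine stratification number** -/
theorem vanishing (hX : MoreMor.HasAffineStratification X n) (F : X.Modules)
    (hF : F.IsQuasicoherent) (p : ℕ) (hp : n < p) : Subsingleton (Coh.HH X F p) := by
  obtain ⟨s, hcl, hstr⟩ := hX
  haveI := compactSpace_of_strata (s := s) hstr
  haveI := quasiSeparatedSpace_of_strata (s := s) hstr
  refine vanishing_aux hcl hstr (n + 1) le_rfl F hF ?_ p (by omega)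
  intro W hW hd
  have hbot : W = ⊥ := by
    ext x
    simp only [SetLike.mem_coe, Opens.coe_bot, Set.mem_empty_iff_false, iff_false]
    intro hx
    exact (Set.disjoint_left.1 hd) hx (show ((s x : ℕ) < n + 1) from (s x).2)
  subst hbot
  exact CohUtil.subsingleton_sections_bot (T := X.toTopCat) (Coh.toAb F)

end Groth.Agent.Helper1.AffStrat
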