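import Mathlib
import Groth.Prelude.Def_MoreMor
import Groth.Agent.Lib.Helper1.AffStrat6

/-!
# Construction of affine strata (helper1)
-/

set_option autoImplicit false
universe u
open CategoryTheory CategoryTheory.Limits AlgebraicGeometry TopologicalSpace Opposite

namespace Groth.Agent.Helper1.AffStrat

variable {X : Scheme.{u}}

/-- a subset which is the range of an affine immersion from an affine scheme -/
def IsAffStratum (T : Set X) : Prop :=
  ∃ (Z : Scheme.{u}) (ι : Z ⟶ X), IsImmersion ι ∧ IsAffine Z ∧ IsAffineHom ι ∧ Set.range ι = T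

/-- a closed subset of an affine open, which is contained in or disjoint from each member of an
affine open cover, is an affine stratum -/
theorem isAffStratum_of_closed_inter (D : X.Opens) (hD : IsAffineOpen D) (C : Set X)
    (hC : IsClosed C) {J : Type*} (U : J → X.affineOpens) (hU : ⨆ j, (U j : X.Opens) = ⊤)
    (h : ∀ j, C ∩ D ⊆ ((U j : X.Opens) : Set X) ∨ Disjoint (C ∩ D) ((U j : X.Opens) : Set X)) :
    IsAffStratum (C ∩ (D : Set X)) := by
  haveI : IsAffine (↑D : Scheme.{u}) := hD
  let C' : Closeds (↑D : Scheme.{u}) := ⟨D.ι ⁻¹' C, hC.preimage D.ι.continuous⟩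
  let I := Scheme.IdealSheafData.vanishingIdeal C'
  have hrange0 : Set.range I.subschemeι = D.ι ⁻¹' C := by
    rw [I.range_subschemeι]
    simp [I, C']
  let ι : I.subscheme ⟶ X := I.subschemeι ≫ D.ι
  have hrange : Set.range ι = C ∩ (D : Set X) := by
    change Set.range (I.subschemeι ≫ D.ι) = _
    rw [Scheme.Hom.comp_base, TopCat.coe_comp, Set.range_comp, hrange0,
      Set.image_preimage_eq_inter_range, Scheme.Opens.range_ι]
  haveI hZ : IsAffine I.subscheme := isAffine_of_isAffineHom I.subschemeι
  refine ⟨I.subscheme, ι, inferInstance, hZ, ?_, hrange⟩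
  rw [HasAffineProperty.iff_of_iSup_eq_top (P := @IsAffineHom) U hU]
  intro j
  rcases h j with hj | hj
  · have : ι ⁻¹ᵁ (U j : X.Opens) = ⊤ := by
      ext z
      simp only [Scheme.Hom.mem_preimage, SetLike.mem_coe, Opens.coe_top, Set.mem_univ, iff_true]
      apply hj
      rw [← hrange]
      exact ⟨z, rfl⟩
    rw [this]
    exact isAffineOpen_top _
  · have : ι ⁻¹ᵁ (U j : X.Opens) = ⊥ := by
      ext z
      simp only [Scheme.Hom.mem_preimage, SetLike.mem_coe, Opens.coe_bot, Set.mem_empty_iff_false,
        iff_false]
      intro hz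
      have hz' : ι z ∈ C ∩ (D : Set X) := by
        rw [← hrange]
        exact ⟨z, rfl⟩
      exact Set.disjoint_left.1 hj hz' hz
    rw [this]
    exact isAffineOpen_bot _


theorem isAffStratum_empty : IsAffStratum (∅ : Set X) := by
  have h := isAffStratum_of_closed_inter (X := X) ⊥ (isAffineOpen_bot X) ∅ isClosed_empty
    (fun j : X.affineOpens => j) (by
      rw [eq_top_iff]
      intro x _
      obtain ⟨_, ⟨U, hU, rfl⟩, hxU, -⟩ :=
        X.isBasis_affineOpens.exists_subset_of_mem_open (Set.mem_univ x) isOpen_univ
      exact Opens.mem_iSup.2 ⟨⟨U, hU⟩, hxU⟩)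
    (fun j => Or.inl (by simp))
  simpa using h

/-- a stratification indexed by a finite partial order gives an affine stratification -/
theorem hasAffineStratification_of_poset {P : Type*} [PartialOrder P] [Fintype P] [Nonempty P]
    (t : X → P) (hcl : ∀ p, IsClosed {x | t x ≤ p}) (hstr : ∀ p, IsAffStratum {x | t x = p}) :
    ∃ n, MoreMor.HasAffineStratification X n := by
  classical
  letI : Fintype (LinearExtension P) := ‹Fintype P›
  haveI : Nonempty (LinearExtension P) := ‹Nonempty P›
  have hcard : 0 < Fintype.card (LinearExtension P) := Fintype.card_pos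
  obtain ⟨n, hn⟩ : ∃ n, Fintype.card (LinearExtension P) = n + 1 :=
    ⟨Fintype.card (LinearExtension P) - 1, by omega⟩
  let e : Fin (n + 1) ≃o LinearExtension P := Fintype.orderIsoFinOfCardEq (LinearExtension P) hn
  let E : P → Fin (n + 1) := fun p => e.symm (toLinearExtension p)
  have hE : Monotone E := fun p q hpq => e.symm.monotone (toLinearExtension.monotone hpq)
  have hEinj : Function.Injective E := fun p q hpq => by
    have := e.symm.injective hpq
    exact this
  refine ⟨n, fun x => E (t x), ?_, ?_⟩
  · intro i
    have : {x : X | E (t x) ≤ i} = ⋃ p ∈ (Finset.univ.filter fun p : P => E p ≤ i), {x | t x ≤ p} := by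
      ext x
      simp only [Set.mem_ofPred_eq, Finset.mem_filter, Finset.mem_univ, true_and, Set.mem_iUnion,
        exists_prop]
      constructor
      · intro hx
        exact ⟨t x, hx, le_rfl⟩
      · rintro ⟨p, hp, hxp⟩
        exact (hE hxp).trans hp
    rw [this]
    exact isClosed_biUnion_finset fun p _ => hcl p
  · intro i
    obtain ⟨Z, ι, h1, h2, h3, h4⟩ := hstr (e i)
    refine ⟨Z, ι, h1, h2, h3, ?_⟩
    rw [h4]
    ext x
    simp only [Set.mem_ofPred_eq]
    constructor
    · intro hx
      change e.symm (toLinearExtension (t x)) = i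
      rw [hx]
      exact e.symm_apply_apply i
    · intro hx
      have h5 : e.symm (toLinearExtension (t x)) = i := hx
      have h6 := congrArg e h5
      rw [e.apply_symm_apply] at h6
      exact h6

end Groth.Agent.Helper1.AffStrat
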