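import Mathlib
import Groth.Agent.Lib.Helper1.AffStrat7

/-!
# Affine stratifications of separated schemes (helper1)
-/

set_option autoImplicit false
universe u
open CategoryTheory CategoryTheory.Limits AlgebraicGeometry TopologicalSpace Opposite

namespace Groth.Agent.Helper1.AffStrat

variable {X : Scheme.{u}}

/-- a closed subset of an affine open whose inclusion is affine is an affine stratum -/
theorem isAffStratum_of_closed_inter' (D : X.Opens) (hD : IsAffineOpen D) [IsAffineHom D.ι]
    (C : Set X) (hC : IsClosed C) : IsAffStratum (C ∩ (D : Set X)) := by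
  haveI : IsAffine (↑D : Scheme.{u}) := hD
  let C' : Closeds (↑D : Scheme.{u}) := ⟨D.ι ⁻¹' C, hC.preimage D.ι.continuous⟩
  let I := Scheme.IdealSheafData.vanishingIdeal C'
  have hrange0 : Set.range I.subschemeι = D.ι ⁻¹' C := by
    rw [I.range_subschemeι]
    simp [I, C']
  let ι : I.subscheme ⟶ X := I.subschemeι ≫ D.ι
  have hrange : Set.range ι = C ∩ (D : Set X) := by
    change Set.range (I.subschemeι ≫ D.ι) = _
    rw [Scheme.Hom.comp_base, TopCat.coe_comp, Set.range_comp, hrange0,
      Set.image_preimage_eq_inter_range, Scheme.Opens.range_ι]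
  haveI hZ : IsAffine I.subscheme := isAffine_of_isAffineHom I.subschemeι
  exact ⟨I.subscheme, ι, inferInstance, hZ, inferInstance, hrange⟩

theorem isAffineHom_ι_of_isSeparated [X.IsSeparated] (D : X.Opens) (hD : IsAffineOpen D) :
    IsAffineHom D.ι := by
  haveI : IsAffine (↑D : Scheme.{u}) := hD
  haveI : IsAffineHom (D.ι ≫ terminal.from X) := by
    rw [terminal.comp_from]
    infer_instance
  exact IsAffineHom.of_comp D.ι (terminal.from X)

/-- S1438 -/
theorem hasAffineStratification_of_separated [X.IsSeparated] (n : ℕ) (U : Fin (n + 1) → X.Opens)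
    (hU : ∀ i, IsAffineOpen (U i)) (hcov : ⨆ i, U i = ⊤) :
    MoreMor.HasAffineStratification X n := by
  classical
  have hne : ∀ x : X, (Finset.univ.filter fun k : Fin (n + 1) => x ∈ U k).Nonempty := by
    intro x
    have hx : x ∈ (⨆ i, U i : X.Opens) := by rw [hcov]; trivial
    obtain ⟨k, hk⟩ := Opens.mem_iSup.1 hx
    exact ⟨k, by simp [hk]⟩
  let k : X → Fin (n + 1) := fun x => (Finset.univ.filter fun k : Fin (n + 1) => x ∈ U k).min' (hne x)
  have hk_mem : ∀ x, x ∈ U (k x) := by
    intro x
    have := Finset.min'_mem _ (hne x)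
    simpa using this
  have hk_le : ∀ x l, x ∈ U l → k x ≤ l := by
    intro x l hl
    exact Finset.min'_le _ l (by simp [hl])
  have hk_iff : ∀ x (j : Fin (n + 1)), j ≤ k x ↔ ∀ l, l < j → x ∉ U l := by
    intro x j
    constructor
    · intro h l hl hxl
      exact absurd (hk_le x l hxl) (not_le.2 (lt_of_lt_of_le hl h))
    · intro h
      by_contra hlt
      exact h (k x) (not_le.1 hlt) (hk_mem x)
  let C : Fin (n + 1) → Set X := fun j => ⋂ l ∈ (Finset.univ.filter fun l : Fin (n + 1) => l < j), ((U l : Set X))ᶜ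
  have hCcl : ∀ j, IsClosed (C j) := fun j =>
    isClosed_biInter fun l _ => (U l).isOpen.isClosed_compl
  have hCiff : ∀ x j, x ∈ C j ↔ j ≤ k x := by
    intro x j
    rw [hk_iff]
    simp only [C, Set.mem_iInter, Finset.mem_filter, Finset.mem_univ, true_and, Set.mem_compl_iff,
      SetLike.mem_coe]
  refine ⟨fun x => Fin.rev (k x), ?_, ?_⟩
  · intro i
    have : {x : X | Fin.rev (k x) ≤ i} = C (Fin.rev i) := by
      ext x
      rw [hCiff]
      simp only [Set.mem_ofPred_eq]
      exact Fin.rev_le_iff
    rw [this]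
    exact hCcl _
  · intro i
    haveI := isAffineHom_ι_of_isSeparated (U (Fin.rev i)) (hU _)
    obtain ⟨Z, ι, h1, h2, h3, h4⟩ :=
      isAffStratum_of_closed_inter' (U (Fin.rev i)) (hU _) (C (Fin.rev i)) (hCcl _)
    refine ⟨Z, ι, h1, h2, h3, ?_⟩
    rw [h4]
    ext x
    simp only [Set.mem_inter_iff, Set.mem_ofPred_eq, SetLike.mem_coe]
    rw [hCiff]
    constructor
    · rintro ⟨h5, h6⟩
      have : k x = Fin.rev i := le_antisymm (hk_le x _ h6) h5
      rw [this, Fin.rev_rev]
    · intro h5
      have : k x = Fin.rev i := by rw [← h5, Fin.rev_rev]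
      rw [← this]
      exact ⟨le_rfl, hk_mem x⟩

end Groth.Agent.Helper1.AffStrat
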