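import Mathlib
import Groth.Agent.Lib.Helper1.AffStrat8

/-!
# Affine stratifications of quasi-compact quasi-separated schemes (helper1)
-/

set_option autoImplicit false
universe u
open CategoryTheory CategoryTheory.Limits AlgebraicGeometry TopologicalSpace Opposite

namespace Groth.Agent.Helper1.AffStrat

variable {X : Scheme.{u}}

/-- a quasi-compact open is a finite union of affine opens, indexed by `Fin r` -/
theorem exists_fin_affine_cover (W : X.Opens) (hW : IsCompact (W : Set X)) :
    ∃ (r : ℕ) (D : Fin r → X.Opens), (∀ l, IsAffineOpen (D l)) ∧ (∀ l, D l ≤ W) ∧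
      ∀ x ∈ W, ∃ l, x ∈ D l := by
  obtain ⟨s, hs, e⟩ := isCompact_iff_finite_and_eq_biUnion_affineOpens.1 hW
  obtain ⟨r, f, hf⟩ := hs.fin_embedding
  refine ⟨r, fun l => (f l : X.Opens), fun l => (f l).2, ?_, ?_⟩
  · intro l
    rw [e]
    exact le_iSup₂_of_le (f l) (hf ▸ Set.mem_range_self l) le_rfl
  · intro x hx
    rw [e] at hx
    simp only [Opens.mem_iSup] at hx
    obtain ⟨i, hi, hxi⟩ := hx
    rw [← hf] at hi
    obtain ⟨l, rfl⟩ := hi
    exact ⟨l, hxi⟩

section Main

variable {J : Type u} (U : J → X.affineOpens)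

/-- the set of indices of the members of the cover containing a point -/
noncomputable def idx [Fintype J] (x : X) : Finset J :=
  by classical exact Finset.univ.filter fun j => x ∈ (U j : X.Opens)

theorem mem_idx [Fintype J] (x : X) (j : J) : j ∈ idx U x ↔ x ∈ (U j : X.Opens) := by
  classical
  simp [idx]

/-- the intersection of the members of the cover indexed by `S` -/
def interOpen (S : Finset J) : X.Opens :=
  ⟨⋂ j ∈ S, ((U j : X.Opens) : Set X), isOpen_biInter_finset fun j _ => (U j).1.2⟩

theorem mem_interOpen [Fintype J] (S : Finset J) (x : X) : x ∈ interOpen U S ↔ S ⊆ idx U x := by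
  change x ∈ ⋂ j ∈ S, ((U j : X.Opens) : Set X) ↔ _
  simp only [Set.mem_iInter, SetLike.mem_coe]
  constructor
  · intro h j hj
    exact (mem_idx U x j).2 (h j hj)
  · intro h j hj
    exact (mem_idx U x j).1 (h hj)

theorem isCompact_interOpen [CompactSpace X] [QuasiSeparatedSpace X] (S : Finset J) :
    IsCompact (interOpen U S : Set X) := by
  classical
  induction S using Finset.induction_on with
  | empty =>
    have : (interOpen U (∅ : Finset J) : Set X) = Set.univ := by
      ext x
      simp [interOpen]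
    rw [this]
    exact isCompact_univ
  | insert a S ha ih =>
    have : (interOpen U (insert a S) : Set X) = ((U a : X.Opens) : Set X) ∩ (interOpen U S : Set X) := by
      ext x
      simp [interOpen]
    rw [this]
    exact (U a).2.isCompact.inter_of_isOpen ih (U a).1.2 (interOpen U S).2


end Main

section Min

variable (DN : ℕ → X.Opens)

/-- the least index of a member of a sequence of opens containing a point (or `0`) -/
noncomputable def leastIdx (x : X) : ℕ := by
  classical exact if h : ∃ l, x ∈ DN l then Nat.find h else 0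

theorem leastIdx_spec {x : X} (h : ∃ l, x ∈ DN l) : x ∈ DN (leastIdx DN x) := by
  classical
  unfold leastIdx
  rw [dif_pos h]
  exact Nat.find_spec h

theorem leastIdx_le {x : X} {l : ℕ} (h : x ∈ DN l) : leastIdx DN x ≤ l := by
  classical
  unfold leastIdx
  rw [dif_pos ⟨l, h⟩]
  exact Nat.find_min' _ h

theorem leastIdx_eq_iff {x : X} (h : ∃ l, x ∈ DN l) (k : ℕ) :
    leastIdx DN x = k ↔ x ∈ DN k ∧ ∀ l < k, x ∉ DN l := by
  classical
  unfold leastIdx
  rw [dif_pos h]
  exact Nat.find_eq_iff h

end Min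

theorem exists_hasAffineStratification [CompactSpace X] [QuasiSeparatedSpace X] :
    ∃ n, MoreMor.HasAffineStratification X n := by
  classical
  obtain ⟨s, hs, e⟩ := (isCompact_iff_finite_and_eq_biUnion_affineOpens (U := (⊤ : X.Opens))).1
    (by simpa using isCompact_univ)
  letI : Fintype ↥s := hs.fintype
  let U : ↥s → X.affineOpens := fun j => j.1
  have hUcov : ⨆ j, (U j : X.Opens) = ⊤ := by
    rw [e, iSup_subtype]
  have hdata : ∀ S : Finset ↥s, ∃ (r : ℕ) (D : Fin r → X.Opens), (∀ l, IsAffineOpen (D l)) ∧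
      (∀ l, D l ≤ interOpen U S) ∧ ∀ x ∈ interOpen U S, ∃ l, x ∈ D l :=
    fun S => exists_fin_affine_cover _ (isCompact_interOpen U S)
  choose r D hDaff hDle hDcov using hdata
  let DN : Finset ↥s → ℕ → X.Opens := fun S l => if hl : l < r S then D S ⟨l, hl⟩ else ⊥
  have hDNaff : ∀ S l, IsAffineOpen (DN S l) := by
    intro S l
    by_cases hl : l < r S
    · simp only [DN, dif_pos hl]; exact hDaff S _
    · simp only [DN, dif_neg hl]; exact isAffineOpen_bot X
  have hDNle : ∀ S l, DN S l ≤ interOpen U S := by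
    intro S l
    by_cases hl : l < r S
    · simp only [DN, dif_pos hl]; exact hDle S _
    · simp only [DN, dif_neg hl]; exact bot_le
  have hDNlt : ∀ S l x, x ∈ DN S l → l < r S := by
    intro S l x hx
    by_contra hl
    simp only [DN, dif_neg hl] at hx
    exact hx
  have hDNcov : ∀ S x, x ∈ interOpen U S → ∃ l, x ∈ DN S l := by
    intro S x hx
    obtain ⟨l, hl⟩ := hDcov S x hx
    refine ⟨l.1, ?_⟩
    simp only [DN, dif_pos l.2]
    exact hl
  let R : ℕ := (∑ S : Finset ↥s, r S) + 1
  have hrR : ∀ S, r S < R := fun S =>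
    Nat.lt_succ_of_le (Finset.single_le_sum (f := r) (fun _ _ => Nat.zero_le _) (Finset.mem_univ S))
  have hself : ∀ x : X, x ∈ interOpen U (idx U x) := fun x => (mem_interOpen U _ x).2 subset_rfl
  have hklt : ∀ x : X, leastIdx (DN (idx U x)) x < R := fun x =>
    (hDNlt _ _ x (leastIdx_spec _ (hDNcov _ x (hself x)))).trans (hrR _)
  let k : X → Fin R := fun x => ⟨leastIdx (DN (idx U x)) x, hklt x⟩
  let t : X → Lex (Finset ↥s × (Fin R)ᵒᵈ) := fun x => toLex (idx U x, OrderDual.toDual (k x))
  haveI : Nonempty (Lex (Finset ↥s × (Fin R)ᵒᵈ)) := ⟨toLex (∅, OrderDual.toDual ⟨0, Nat.succ_pos _⟩)⟩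
  refine hasAffineStratification_of_poset t ?_ ?_
  · intro p
    obtain ⟨⟨S₀, k₀'⟩, rfl⟩ := toLex.surjective p
    let k₀ : Fin R := OrderDual.ofDual k₀'
    have hle : ∀ x, t x ≤ toLex (S₀, k₀') ↔ idx U x ⊆ S₀ ∧ (idx U x = S₀ → k₀ ≤ k x) := by
      intro x
      exact Prod.Lex.toLex_le_toLex'
    rw [← isOpen_compl_iff, isOpen_iff_forall_mem_open]
    intro x hx
    have hx' : ¬ (idx U x ⊆ S₀ ∧ (idx U x = S₀ → k₀ ≤ k x)) := fun h => hx ((hle x).2 h)
    by_cases h1 : idx U x ⊆ S₀
    · have h2 : ¬ (idx U x = S₀ → k₀ ≤ k x) := fun h => hx' ⟨h1, h⟩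
      rw [Classical.not_imp] at h2
      obtain ⟨h3, h4⟩ := h2
      refine ⟨DN S₀ (leastIdx (DN S₀) x), ?_, (DN S₀ _).2, ?_⟩
      · intro y hy hty
        obtain ⟨h5, h6⟩ := (hle y).1 hty
        have h7 : S₀ ⊆ idx U y := (mem_interOpen U S₀ y).1 (hDNle S₀ _ hy)
        have h8 : idx U y = S₀ := le_antisymm h5 h7
        have h9 := h6 h8
        have h10 : (k y : ℕ) ≤ leastIdx (DN S₀) x := by
          change leastIdx (DN (idx U y)) y ≤ _
          rw [h8]
          exact leastIdx_le _ hy
        have h11 : (k x : ℕ) = leastIdx (DN S₀) x := by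
          change leastIdx (DN (idx U x)) x = _
          rw [h3]
        have h12 : (k x : ℕ) < k₀ := not_le.1 h4
        have h13 : (k₀ : ℕ) ≤ k y := h9
        omega
      · apply leastIdx_spec
        apply hDNcov
        rw [← h3]
        exact hself x
    · refine ⟨interOpen U (idx U x), ?_, (interOpen U _).2, hself x⟩
      intro y hy hty
      obtain ⟨h5, -⟩ := (hle y).1 hty
      exact h1 (((mem_interOpen U _ y).1 hy).trans h5)
  · intro p
    obtain ⟨⟨S₀, k₀'⟩, rfl⟩ := toLex.surjective p
    let k₀ : Fin R := OrderDual.ofDual k₀'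
    let C : Set X := ((⋃ j ∈ (Finset.univ.filter fun j : ↥s => j ∉ S₀), ((U j : X.Opens) : Set X)) ∪
      ⋃ l ∈ Finset.range (k₀ : ℕ), (DN S₀ l : Set X))ᶜ
    have hC : IsClosed C := by
      apply IsOpen.isClosed_compl
      apply IsOpen.union
      · exact isOpen_biUnion fun j _ => (U j).1.2
      · exact isOpen_biUnion fun l _ => (DN S₀ l).2
    have hmemC : ∀ x, x ∈ C ↔ (∀ j, j ∉ S₀ → x ∉ (U j : X.Opens)) ∧ ∀ l < (k₀ : ℕ), x ∉ DN S₀ l := by
      intro x
      simp only [C, Set.mem_compl_iff, Set.mem_union, Set.mem_iUnion, Finset.mem_filter,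
        Finset.mem_univ, true_and, Finset.mem_range, SetLike.mem_coe, exists_prop, not_or,
        not_exists, not_and]
    have hstr := isAffStratum_of_closed_inter (DN S₀ k₀) (hDNaff S₀ k₀) C hC U hUcov (by
      intro j
      by_cases hj : j ∈ S₀
      · left
        rintro x ⟨-, hx⟩
        have := (mem_interOpen U S₀ x).1 (hDNle S₀ _ hx)
        exact (mem_idx U x j).1 (this hj)
      · right
        rw [Set.disjoint_left]
        rintro x ⟨hx, -⟩ hxj
        exact ((hmemC x).1 hx).1 j hj hxj)
    have heq : {x : X | t x = toLex (S₀, k₀')} = C ∩ (DN S₀ k₀ : Set X) := by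
      ext x
      simp only [Set.mem_ofPred_eq, Set.mem_inter_iff, SetLike.mem_coe]
      rw [hmemC]
      constructor
      · intro hx
        have h1 : idx U x = S₀ := congrArg (fun q => (ofLex q).1) hx
        have h2 : k x = k₀ := congrArg (fun q => OrderDual.ofDual (ofLex q).2) hx
        have h3 : leastIdx (DN S₀) x = (k₀ : ℕ) := by
          rw [← h2]
          change _ = leastIdx (DN (idx U x)) x
          rw [h1]
        have hex : ∃ l, x ∈ DN S₀ l := hDNcov S₀ x (h1 ▸ hself x)
        obtain ⟨h4, h5⟩ := (leastIdx_eq_iff _ hex _).1 h3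
        refine ⟨⟨fun j hj hxj => hj ?_, h5⟩, h4⟩
        rw [← h1]
        exact (mem_idx U x j).2 hxj
      · rintro ⟨⟨h1, h2⟩, h3⟩
        have h4 : S₀ ⊆ idx U x := (mem_interOpen U S₀ x).1 (hDNle S₀ _ h3)
        have h5 : idx U x ⊆ S₀ := by
          intro j hj
          by_contra hj'
          exact h1 j hj' ((mem_idx U x j).1 hj)
        have h6 : idx U x = S₀ := le_antisymm h5 h4
        have h7 : leastIdx (DN S₀) x = (k₀ : ℕ) := (leastIdx_eq_iff _ ⟨_, h3⟩ _).2 ⟨h3, h2⟩
        have h8 : k x = k₀ := by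
          apply Fin.ext
          change leastIdx (DN (idx U x)) x = _
          rw [h6]
          exact h7
        change toLex (idx U x, OrderDual.toDual (k x)) = toLex (S₀, k₀')
        rw [h6, h8]
        rfl
    rw [heq]
    exact hstr


end Groth.Agent.Helper1.AffStrat
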