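import Mathlib
import Groth.Prelude.Def_MoreMor
import Groth.Agent.Lib.Helper1.AffStrat9

set_option autoImplicit false
universe u
open CategoryTheory CategoryTheory.Limits AlgebraicGeometry TopologicalSpace Opposite

namespace Groth.Agent.Helper1.AffStrat

section Top
variable {T : Type*} [TopologicalSpace T]

/-- the open part of an irreducible component, away from the other components -/
def compInt (C : Set T) : Set T := (⋃₀ {C' | C' ∈ irreducibleComponents T ∧ C' ≠ C})ᶜ

theorem isOpen_compInt [NoetherianSpace T] (C : Set T) : IsOpen (compInt C) := by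
  rw [compInt, isOpen_compl_iff]
  rw [Set.sUnion_eq_biUnion]
  apply Set.Finite.isClosed_biUnion
  · exact (NoetherianSpace.finite_irreducibleComponents (α := T)).subset (fun _ h => h.1)
  · intro C' hC'
    exact isClosed_of_mem_irreducibleComponents C' hC'.1

theorem compInt_subset {C : Set T} (hC : C ∈ irreducibleComponents T) : compInt C ⊆ C := by
  intro x hx
  by_contra hxC
  apply hx
  refine ⟨irreducibleComponent x, ⟨irreducibleComponent_mem_irreducibleComponents x, ?_⟩,
    mem_irreducibleComponent⟩
  rintro rfl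
  exact hxC mem_irreducibleComponent

theorem compInt_disjoint {C C' : Set T} (hC : C ∈ irreducibleComponents T)
    (h : C ≠ C') : Disjoint (compInt C) (compInt C') := by
  rw [Set.disjoint_left]
  intro x hx hx'
  exact hx' ⟨C, ⟨hC, h⟩, compInt_subset hC hx⟩

theorem compInt_nonempty [NoetherianSpace T] {C : Set T} (hC : C ∈ irreducibleComponents T) :
    (compInt C).Nonempty := by
  by_contra hne
  rw [Set.not_nonempty_iff_eq_empty, compInt, Set.compl_empty_iff] at hne
  have hfin : {C' | C' ∈ irreducibleComponents T ∧ C' ≠ C}.Finite :=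
    (NoetherianSpace.finite_irreducibleComponents (α := T)).subset (fun _ h => h.1)
  have hirr : IsIrreducible C := hC.1
  obtain ⟨z, hz, hCz⟩ := (isIrreducible_iff_sUnion_isClosed.1 hirr) hfin.toFinset
    (fun z hz => isClosed_of_mem_irreducibleComponents z ((hfin.mem_toFinset.1 hz).1))
    (by rw [hfin.coe_toFinset, hne]; exact Set.subset_univ _)
  rw [hfin.mem_toFinset] at hz
  exact hz.2 (le_antisymm (hC.2 hz.1.1 hCz) hCz)

theorem compInt_isPreirreducible {C : Set T} (hC : C ∈ irreducibleComponents T)
    [NoetherianSpace T] : IsPreirreducible (compInt C) :=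
  hC.1.isPreirreducible.open_subset (isOpen_compInt C) (compInt_subset hC)

theorem krullDim_add_one_le_of_strictMono {α β : Type*} [Preorder α] [Preorder β] (φ : α → β)
    (hφ : StrictMono φ) (h : ∀ a, ∃ b, φ a < b) : Order.krullDim α + 1 ≤ Order.krullDim β := by
  rcases isEmpty_or_nonempty α with hα | hα
  · rw [Order.krullDim_eq_bot]; simp
  · rw [Order.krullDim_eq_iSup_height_of_nonempty]
    have : ((⨆ a : α, Order.height a : ℕ∞) : WithBot ℕ∞) + 1 =
        ((⨆ a : α, (Order.height a + 1) : ℕ∞) : WithBot ℕ∞) := by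
      rw [← ENat.iSup_add]
      rfl
    rw [this]
    have h2 : (⨆ a : α, (Order.height a + 1) : ℕ∞) ≤ ⨆ b : β, Order.height b := by
      apply iSup_le
      intro a
      obtain ⟨b, hb⟩ := h a
      exact le_iSup_of_le b (le_trans
        (by gcongr; exact Order.height_le_height_apply_of_strictMono φ hφ a)
        (Order.height_add_one_le hb))
    haveI : Nonempty β := ⟨φ hα.some⟩
    rw [Order.krullDim_eq_iSup_height_of_nonempty]
    exact WithBot.coe_le_coe.2 h2

theorem topologicalKrullDim_add_one_le {Y : Type*} [TopologicalSpace Y]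
    [NoetherianSpace T] (f : Y → T) (hf : Topology.IsClosedEmbedding f) (U : Set T)
    (hd : Dense U) (hr : Disjoint (Set.range f) U) :
    topologicalKrullDim Y + 1 ≤ topologicalKrullDim T := by
  apply krullDim_add_one_le_of_strictMono (IrreducibleCloseds.map f hf.continuous)
    (IrreducibleCloseds.map_strictMono_of_isInducing hf.isInducing)
  intro Z
  have himg : (IrreducibleCloseds.map f hf.continuous Z : Set T) = f '' (Z : Set Y) := by
    rw [IrreducibleCloseds.coe_map]
    exact (hf.isClosedMap _ Z.isClosed).closure_eq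
  have hirr : IsIrreducible (f '' (Z : Set Y)) := Z.isIrreducible.image f hf.continuous.continuousOn
  obtain ⟨t, ht, hsub, hmax⟩ := exists_preirreducible (f '' (Z : Set Y)) hirr.isPreirreducible
  have htirr : IsIrreducible t := ⟨hirr.nonempty.mono hsub, ht⟩
  have htC : t ∈ irreducibleComponents T := by
    refine ⟨htirr, fun u hu htu => ?_⟩
    exact (hmax u hu.isPreirreducible htu).le
  have htcl : IsClosed t := isClosed_of_mem_irreducibleComponents t htC
  obtain ⟨y, hyI, hyU⟩ := hd.inter_open_nonempty (compInt t) (isOpen_compInt t) (compInt_nonempty htC)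
  refine ⟨⟨t, htirr, htcl⟩, ?_⟩
  rw [lt_iff_le_and_ne]
  refine ⟨?_, ?_⟩
  · change (IrreducibleCloseds.map f hf.continuous Z : Set T) ⊆ t
    rw [himg]; exact hsub
  · intro h
    have h' : (IrreducibleCloseds.map f hf.continuous Z : Set T) = t :=
      congrArg (fun W : IrreducibleCloseds T => (W : Set T)) h
    rw [himg] at h'
    have hyt : y ∈ f '' (Z : Set Y) := h' ▸ compInt_subset htC hyI
    exact Set.disjoint_left.1 hr (Set.image_subset_range _ _ hyt) hyU

end Top

section Sch
variable (X : Scheme.{u}) [IsNoetherian X]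

theorem exists_affine_in_compInt {r : ℕ} (V : Fin r → X.Opens)
    (C : Set X) (hC : C ∈ irreducibleComponents X) :
    ∃ UC : X.Opens, IsAffineOpen UC ∧ (UC : Set X).Nonempty ∧ (UC : Set X) ⊆ compInt C ∧
      ∀ l, UC ≤ V l ∨ Disjoint UC (V l) := by
  classical
  let L : Finset (Fin r) := Finset.univ.filter fun l => ((compInt C) ∩ (V l : Set X)).Nonempty
  have hirr : IsIrreducible (compInt C) := ⟨compInt_nonempty hC, compInt_isPreirreducible hC⟩
  obtain ⟨x, hxC, hxL⟩ := (isIrreducible_iff_sInter.1 hirr)
    (L.image fun l => ((V l : X.Opens) : Set X))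
    (by
      intro u hu
      obtain ⟨l, -, rfl⟩ := Finset.mem_image.1 hu
      exact (V l).isOpen)
    (by
      intro u hu
      obtain ⟨l, hl, rfl⟩ := Finset.mem_image.1 hu
      exact (Finset.mem_filter.1 hl).2)
  let W : X.Opens := ⟨compInt C ∩ ⋂₀ ↑(L.image fun l => ((V l : X.Opens) : Set X)),
    (isOpen_compInt C).inter (Set.Finite.isOpen_sInter (Finset.finite_toSet _) (by
      intro u hu
      obtain ⟨l, -, rfl⟩ := Finset.mem_image.1 hu
      exact (V l).isOpen))⟩
  obtain ⟨_, ⟨UC, hUC, rfl⟩, hxU, hUW⟩ :=
    X.isBasis_affineOpens.exists_subset_of_mem_open (show x ∈ (W : Set X) from ⟨hxC, hxL⟩) W.isOpen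
  refine ⟨UC, hUC, ⟨x, hxU⟩, fun y hy => (hUW hy).1, fun l => ?_⟩
  by_cases hl : l ∈ L
  · left
    intro y hy
    have := (hUW hy).2
    exact this _ (Finset.mem_coe.2 (Finset.mem_image.2 ⟨l, hl, rfl⟩))
  · right
    rw [← Opens.coe_disjoint, Set.disjoint_left]
    intro y hy hyV
    apply hl
    exact Finset.mem_filter.2 ⟨Finset.mem_univ _, ⟨y, (hUW hy).1, hyV⟩⟩

theorem exists_dense_affine_open_affineHom :
    ∃ U : X.Opens, IsAffineOpen U ∧ Dense (U : Set X) ∧ IsAffineHom U.ι := by
  classical
  obtain ⟨r, V, hVaff, -, hVcov⟩ := exists_fin_affine_cover (X := X) ⊤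
    (by simpa using (isCompact_univ : IsCompact (Set.univ : Set X)))
  let ι := ↥(irreducibleComponents X)
  haveI : Finite ι := (NoetherianSpace.finite_irreducibleComponents (α := X)).to_subtype
  choose UC hUCaff hUCne hUCsub hUCV using fun C : ι => exists_affine_in_compInt X V C.1 C.2
  have hdisj : Pairwise (Function.onFun Disjoint UC) := by
    intro C C' hne
    change Disjoint (UC C) (UC C')
    rw [← Opens.coe_disjoint]
    exact (compInt_disjoint C.2 (fun h => hne (Subtype.ext h))).mono (hUCsub C) (hUCsub C')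
  refine ⟨iSup UC, IsAffineOpen.iSup_of_disjoint hUCaff hdisj, ?_, ?_⟩
  · rw [dense_iff_inter_open]
    intro O hO hOne
    obtain ⟨x, hx⟩ := hOne
    let C : ι := ⟨irreducibleComponent x, irreducibleComponent_mem_irreducibleComponents x⟩
    have hC : IsPreirreducible (C.1) := C.2.1.isPreirreducible
    -- O ∩ C and compInt C ∩ C nonempty
    obtain ⟨y, hyC, hyO, hyI⟩ := hC O (compInt C.1) hO (isOpen_compInt _)
      ⟨x, mem_irreducibleComponent, hx⟩
      (by
        obtain ⟨z, hz⟩ := compInt_nonempty C.2
        exact ⟨z, compInt_subset C.2 hz, hz⟩)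
    obtain ⟨z, hzI, hzO, hzU⟩ := (compInt_isPreirreducible C.2) O (UC C : Set X) hO (UC C).isOpen
      ⟨y, hyI, hyO⟩
      (by
        obtain ⟨w, hw⟩ := hUCne C
        exact ⟨w, hUCsub C hw, hw⟩)
    exact ⟨z, hzO, Opens.mem_iSup.2 ⟨C, hzU⟩⟩
  · let Vaff : Fin r → X.affineOpens := fun l => ⟨V l, hVaff l⟩
    have hVtop : ⨆ l, (Vaff l : X.Opens) = ⊤ := by
      rw [eq_top_iff]
      intro x hx
      obtain ⟨l, hl⟩ := hVcov x hx
      exact Opens.mem_iSup.2 ⟨l, hl⟩
    rw [HasAffineProperty.iff_of_iSup_eq_top (P := @IsAffineHom) Vaff hVtop]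
    intro l
    change IsAffineOpen ((iSup UC).ι ⁻¹ᵁ V l)
    rw [← (iSup UC).ι.isAffineOpen_iff_of_isOpenImmersion, Scheme.Hom.image_preimage_eq_opensRange_inf,
      Scheme.Opens.opensRange_ι]
    have : iSup UC ⊓ V l = ⨆ C, (UC C ⊓ V l) := by
      rw [iSup_inf_eq]
    rw [this]
    apply IsAffineOpen.iSup_of_disjoint
    · intro C
      rcases hUCV C l with h | h
      · rw [inf_eq_left.2 h]
        exact hUCaff C
      · rw [disjoint_iff.1 h]
        exact isAffineOpen_bot X
    · intro C C' hne
      exact (hdisj hne).mono inf_le_left inf_le_left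

end Sch

section Main

/-- data: the reduced closed complement of an open, as a scheme -/
theorem exists_closed_complement (X : Scheme.{u}) [IsNoetherian X] (U : X.Opens)
    (hd : Dense (U : Set X)) :
    ∃ (Z : Scheme.{u}) (i : Z ⟶ X), IsClosedImmersion i ∧ Set.range i = (U : Set X)ᶜ ∧
      IsNoetherian Z ∧ topologicalKrullDim Z + 1 ≤ topologicalKrullDim X := by
  let Zc : Closeds X := ⟨(U : Set X)ᶜ, U.isOpen.isClosed_compl⟩
  let I := Scheme.IdealSheafData.vanishingIdeal Zc
  have hrange : Set.range I.subschemeι = (U : Set X)ᶜ := by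
    rw [I.range_subschemeι]
    simp [I, Zc]
  haveI : IsLocallyNoetherian I.subscheme := LocallyOfFiniteType.isLocallyNoetherian I.subschemeι
  haveI : CompactSpace I.subscheme := QuasiCompact.compactSpace_of_compactSpace I.subschemeι
  refine ⟨I.subscheme, I.subschemeι, inferInstance, hrange, {}, ?_⟩
  exact topologicalKrullDim_add_one_le I.subschemeι I.subschemeι.isClosedEmbedding (U : Set X) hd
    (by rw [hrange]; exact disjoint_compl_left)

theorem withBot_le_of_add_one_le {a : WithBot ℕ∞} {d : ℕ} (h : a + 1 ≤ ((d + 1 : ℕ) : WithBot ℕ∞)) :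
    a ≤ (d : WithBot ℕ∞) := by
  induction a using WithBot.recBotCoe with
  | bot => exact bot_le
  | coe n =>
    have h' : ((n + 1 : ℕ∞) : WithBot ℕ∞) ≤ (((d + 1 : ℕ) : ℕ∞) : WithBot ℕ∞) := h
    rw [WithBot.coe_le_coe] at h'
    have h2 : n ≤ (d : ℕ∞) := by
      induction n using ENat.recTopCoe with
      | top => simp at h'
      | coe m =>
        have : ((m + 1 : ℕ) : ℕ∞) ≤ ((d + 1 : ℕ) : ℕ∞) := by simpa using h'
        exact_mod_cast Nat.le_of_succ_le_succ (by exact_mod_cast this)
    exact WithBot.coe_le_coe.2 h2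

theorem hasAffineStratification_of_dim_le : ∀ (d : ℕ) (X : Scheme.{u}) [IsNoetherian X],
    topologicalKrullDim X ≤ (d : WithBot ℕ∞) → MoreMor.HasAffineStratification X d := by
  intro d
  induction d with
  | zero =>
    intro X _ hdim
    obtain ⟨U, hUaff, hUd, hUι⟩ := exists_dense_affine_open_affineHom X
    obtain ⟨Z, i, hi, hrange, hZ, hZdim⟩ := exists_closed_complement X U hUd
    have hZe : IsEmpty Z := by
      by_contra hne
      rw [not_isEmpty_iff] at hne
      have h0 : (0 : WithBot ℕ∞) ≤ topologicalKrullDim Z := by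
        haveI : Nonempty (IrreducibleCloseds Z) := by
          obtain ⟨z⟩ := hne
          exact ⟨⟨closure {z}, isIrreducible_singleton.closure, isClosed_closure⟩⟩
        exact Order.krullDim_nonneg
      have h1 : (1 : WithBot ℕ∞) ≤ topologicalKrullDim Z + 1 := by
        calc (1 : WithBot ℕ∞) = 0 + 1 := by simp
          _ ≤ topologicalKrullDim Z + 1 := by gcongr
      have h2 : (1 : WithBot ℕ∞) ≤ 0 := by
        calc (1 : WithBot ℕ∞) ≤ topologicalKrullDim Z + 1 := h1
          _ ≤ topologicalKrullDim X := hZdim
          _ ≤ ((0 : ℕ) : WithBot ℕ∞) := hdim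
          _ = 0 := by simp
      exact absurd h2 (by decide)
    have hUtop : (U : Set X) = Set.univ := by
      rw [← compl_compl (U : Set X), ← hrange, Set.range_eq_empty, Set.compl_empty]
    refine ⟨fun _ => 0, fun j => ?_, fun j => ?_⟩
    · have : {x : X | (0 : Fin (0 + 1)) ≤ j} = Set.univ := by ext; simp
      rw [this]; exact isClosed_univ
    · refine ⟨U, U.ι, inferInstance, hUaff, hUι, ?_⟩
      rw [Scheme.Opens.range_ι, hUtop]
      ext x
      simp only [Set.mem_univ, Set.mem_ofPred_eq, true_iff]
      exact Subsingleton.elim _ _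
  | succ d ih =>
    intro X _ hdim
    classical
    obtain ⟨U, hUaff, hUd, hUι⟩ := exists_dense_affine_open_affineHom X
    obtain ⟨Z, i, hi, hrange, hZ, hZdim⟩ := exists_closed_complement X U hUd
    have hZd : topologicalKrullDim Z ≤ (d : WithBot ℕ∞) :=
      withBot_le_of_add_one_le (hZdim.trans hdim)
    obtain ⟨sZ, hclZ, hstrZ⟩ := ih Z hZd
    have hex : ∀ x : X, x ∉ U → ∃ z : Z, i z = x := by
      intro x hx
      have : x ∈ Set.range i := by rw [hrange]; exact hx
      exact this
    let s : X → Fin (d + 1 + 1) := fun x =>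
      if h : x ∈ U then Fin.last (d + 1) else Fin.castSucc (sZ (hex x h).choose)
    have hinj : Function.Injective i := i.isClosedEmbedding.injective
    have hsU : ∀ x, x ∈ U → s x = Fin.last (d + 1) := fun x hx => dif_pos hx
    have hsZ : ∀ z : Z, s (i z) = Fin.castSucc (sZ z) := by
      intro z
      have hz : i z ∉ U := by
        have : i z ∈ Set.range i := ⟨z, rfl⟩
        rw [hrange] at this
        exact this
      change (if h : i z ∈ U then Fin.last (d + 1) else Fin.castSucc (sZ (hex (i z) h).choose)) = _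
      rw [dif_neg hz]
      congr 2
      exact hinj (hex (i z) hz).choose_spec
    refine ⟨s, fun j => ?_, fun j => ?_⟩
    · refine Fin.lastCases ?_ (fun j' => ?_) j
      · have : {x : X | s x ≤ Fin.last (d + 1)} = Set.univ := by
          ext x; simp [Fin.le_last]
        rw [this]; exact isClosed_univ
      · have : {x : X | s x ≤ Fin.castSucc j'} = i '' {z : Z | sZ z ≤ j'} := by
          ext x
          constructor
          · intro hx
            by_cases hxU : x ∈ U
            · exfalso
              have hx' : s x ≤ Fin.castSucc j' := hx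
              rw [hsU x hxU] at hx'
              exact absurd (lt_of_le_of_lt hx' (Fin.castSucc_lt_last j')) (lt_irrefl _)
            · obtain ⟨z, rfl⟩ := hex x hxU
              refine ⟨z, ?_, rfl⟩
              have hx' : s (i z) ≤ Fin.castSucc j' := hx
              rw [hsZ z] at hx'
              exact Fin.castSucc_le_castSucc_iff.1 hx'
          · rintro ⟨z, hz, rfl⟩
            change s (i z) ≤ Fin.castSucc j'
            rw [hsZ z]
            exact Fin.castSucc_le_castSucc_iff.2 hz
        rw [this]
        exact i.isClosedEmbedding.isClosedMap _ (hclZ j')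
    · refine Fin.lastCases ?_ (fun j' => ?_) j
      · refine ⟨U, U.ι, inferInstance, hUaff, hUι, ?_⟩
        rw [Scheme.Opens.range_ι]
        ext x
        constructor
        · intro hx; exact hsU x hx
        · intro hx
          by_contra hxU
          obtain ⟨z, rfl⟩ := hex x hxU
          have hx' : s (i z) = Fin.last (d + 1) := hx
          rw [hsZ z] at hx'
          exact absurd hx' (Fin.castSucc_lt_last _).ne
      · obtain ⟨Zj, ιj, hιj, hZj, hιjaff, hrj⟩ := hstrZ j'
        refine ⟨Zj, ιj ≫ i, inferInstance, hZj, inferInstance, ?_⟩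
        rw [Scheme.Hom.comp_base, TopCat.coe_comp, Set.range_comp, hrj]
        ext x
        constructor
        · rintro ⟨z, hz, rfl⟩
          change s (i z) = Fin.castSucc j'
          rw [hsZ z]
          exact congrArg Fin.castSucc hz
        · intro hx
          by_cases hxU : x ∈ U
          · exfalso
            have hx' : s x = Fin.castSucc j' := hx
            rw [hsU x hxU] at hx'
            exact absurd hx'.symm (Fin.castSucc_lt_last _).ne
          · obtain ⟨z, rfl⟩ := hex x hxU
            refine ⟨z, ?_, rfl⟩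
            have hx' : s (i z) = Fin.castSucc j' := hx
            rw [hsZ z] at hx'
            exact Fin.castSucc_injective _ hx'

end Main

end Groth.Agent.Helper1.AffStrat
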