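import Mathlib

set_option autoImplicit false

open scoped TensorProduct IntermediateField.algebraAdjoinAdjoin
open IntermediateField

namespace Groth.Agent.Helper1.AlgClosFG

universe u

theorem linearDisjoint_adjoin_integralClosure {k K : Type*} [Field k] [Field K] [Algebra k K]
    {σ : Type*} (x : σ → K) (hx : AlgebraicIndependent k x) :
    (Algebra.adjoin k (Set.range x)).LinearDisjoint (integralClosure k K) := by
  rw [Subalgebra.linearDisjoint_iff_injective]
  have hxL : AlgebraicIndependent (integralClosure k K) x := hx.extendScalars_of_isIntegral _
  have hinj : Function.Injective (MvPolynomial.aeval x :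
      MvPolynomial σ (integralClosure k K) →ₐ[integralClosure k K] K) :=
    algebraicIndependent_iff_injective_aeval.1 hxL
  have hcomp : ∀ t : MvPolynomial σ k ⊗[k] integralClosure k K,
      (Algebra.adjoin k (Set.range x)).mulMap (integralClosure k K)
        (Algebra.TensorProduct.congr hx.aevalEquiv
          (AlgEquiv.refl : integralClosure k K ≃ₐ[k] integralClosure k K) t) =
      MvPolynomial.aeval x (MvPolynomial.algebraTensorAlgEquiv (σ := σ) k (integralClosure k K)
        (Algebra.TensorProduct.comm k (MvPolynomial σ k) (integralClosure k K) t)) := by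
    intro t
    induction t using TensorProduct.induction_on with
    | zero => simp
    | tmul p l =>
      rw [Algebra.TensorProduct.congr_apply, Algebra.TensorProduct.map_tmul,
        Subalgebra.mulMap_tmul, Algebra.TensorProduct.comm_tmul,
        MvPolynomial.algebraTensorAlgEquiv_tmul, map_smul, MvPolynomial.aeval_map_algebraMap]
      have h1 : ((hx.aevalEquiv p : Algebra.adjoin k (Set.range x)) : K) = MvPolynomial.aeval x p :=
        hx.algebraMap_aevalEquiv p
      show ((hx.aevalEquiv p : Algebra.adjoin k (Set.range x)) : K) * (l : K) =
        l • MvPolynomial.aeval x p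
      rw [h1, Algebra.smul_def, mul_comm]
      rfl
    | add a b ha hb => simp only [map_add, ha, hb]
  intro t₁ t₂ h
  have h1 := hcomp ((Algebra.TensorProduct.congr hx.aevalEquiv
    (AlgEquiv.refl : integralClosure k K ≃ₐ[k] integralClosure k K)).symm t₁)
  have h2 := hcomp ((Algebra.TensorProduct.congr hx.aevalEquiv
    (AlgEquiv.refl : integralClosure k K ≃ₐ[k] integralClosure k K)).symm t₂)
  rw [AlgEquiv.apply_symm_apply] at h1 h2
  rw [h1, h2] at h
  have h3 := (Algebra.TensorProduct.comm k (MvPolynomial σ k) (integralClosure k K)).injective
    ((MvPolynomial.algebraTensorAlgEquiv (σ := σ) k (integralClosure k K)).injective (hinj h))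
  exact (Algebra.TensorProduct.congr hx.aevalEquiv
    (AlgEquiv.refl : integralClosure k K ≃ₐ[k] integralClosure k K)).symm.injective h3

theorem main {k K : Type u} [Field k] [Field K] [Algebra k K]
    (hfg : (⊤ : IntermediateField k K).FG) :
    FiniteDimensional k (algebraicClosure k K) := by
  obtain ⟨t, htfin, ht⟩ := IntermediateField.fg_def.1 hfg
  have halgt : Algebra.IsAlgebraic (Algebra.adjoin k t) K := by
    constructor
    intro y
    have hy : y ∈ IntermediateField.adjoin k t := by rw [ht]; trivial
    have h1 : IsAlgebraic (Algebra.adjoin k t) (⟨y, hy⟩ : IntermediateField.adjoin k t) :=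
      Algebra.IsAlgebraic.isAlgebraic _
    exact h1.algHom (IsScalarTower.toAlgHom (Algebra.adjoin k t) (IntermediateField.adjoin k t) K)
  obtain ⟨s, hst, hs⟩ := exists_isTranscendenceBasis_subset (R := k) t
  have hsfin : s.Finite := htfin.subset hst
  have hrange : Set.range ((↑) : s → K) = s := Subtype.range_coe
  have halg : Algebra.IsAlgebraic (IntermediateField.adjoin k (Set.range ((↑) : s → K))) K :=
    hs.isAlgebraic_field
  have htop : IntermediateField.adjoin (IntermediateField.adjoin k (Set.range ((↑) : s → K))) t =
      ⊤ := by
    rw [eq_top_iff]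
    intro y _
    have h3 := adjoin_adjoin_left k (Set.range ((↑) : s → K)) t
    have h4 : y ∈ IntermediateField.adjoin k (Set.range ((↑) : s → K) ∪ t) := by
      have h5 : IntermediateField.adjoin k t ≤
          IntermediateField.adjoin k (Set.range ((↑) : s → K) ∪ t) :=
        IntermediateField.adjoin.mono k _ _ Set.subset_union_right
      apply h5
      rw [ht]; trivial
    rw [← h3] at h4
    exact h4
  have : Finite t := htfin.to_subtype
  have hfin1 : FiniteDimensional (IntermediateField.adjoin k (Set.range ((↑) : s → K)))
      (IntermediateField.adjoin (IntermediateField.adjoin k (Set.range ((↑) : s → K))) t) :=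
    finiteDimensional_adjoin fun y _ => (halg.isAlgebraic y).isIntegral
  have hfinK : FiniteDimensional (IntermediateField.adjoin k (Set.range ((↑) : s → K))) K := by
    rw [htop] at hfin1
    exact Module.Finite.equiv (IntermediateField.topEquiv
      (F := IntermediateField.adjoin k (Set.range ((↑) : s → K))) (E := K)).toLinearEquiv
  have hLD := linearDisjoint_adjoin_integralClosure ((↑) : s → K) hs.1
  have hrank : Module.rank k (integralClosure k K) ≤
      (Module.finrank (IntermediateField.adjoin k (Set.range ((↑) : s → K))) K : ℕ) := by
    apply rank_le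
    intro S hS
    have h1 : LinearIndependent (Algebra.adjoin k (Set.range ((↑) : s → K)))
        ((integralClosure k K).val ∘ fun i : S => (i : integralClosure k K)) :=
      hLD.linearIndependent_right_of_flat hS
    have h2 : LinearIndependent (IntermediateField.adjoin k (Set.range ((↑) : s → K)))
        ((integralClosure k K).val ∘ fun i : S => (i : integralClosure k K)) :=
      (LinearIndependent.iff_fractionRing (Algebra.adjoin k (Set.range ((↑) : s → K)))
        (IntermediateField.adjoin k (Set.range ((↑) : s → K)))).1 h1
    have h3 := h2.fintype_card_le_finrank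
    rwa [Fintype.card_coe] at h3
  have hfinL : Module.Finite k (integralClosure k K) := by
    rw [← Module.rank_lt_aleph0_iff]
    exact lt_of_le_of_lt hrank Cardinal.natCast_lt_aleph0
  let e : ↥(integralClosure k K) ≃ₗ[k] ↥(algebraicClosure k K) :=
    { toFun := fun y => ⟨y.1, y.2⟩
      invFun := fun y => ⟨y.1, y.2⟩
      map_add' := fun _ _ => rfl
      map_smul' := fun _ _ => rfl
      left_inv := fun _ => rfl
      right_inv := fun _ => rfl }
  exact Module.Finite.equiv e

end Groth.Agent.Helper1.AlgClosFG
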