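import Mathlib
import Groth.Prelude
import Groth.Agent.Lib.Helper6.FppfLocal

set_option autoImplicit false
set_option backward.isDefEq.respectTransparency.types false
set_option synthInstance.maxHeartbeats 400000
set_option linter.style.haveILetI false
set_option linter.unusedSectionVars false
set_option linter.unusedVariables false

universe u

open CategoryTheory CategoryTheory.Limits AlgebraicGeometry TopologicalSpace Opposite Polynomial

namespace Groth.Agent.Helper1.AlgClosedCover

/-! ### Algebra -/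

section Alg
variable (A : Type u) [CommRing A]

/-- product of the algebraic closures of all residue fields -/
abbrev BigProd : Type u := ∀ y : PrimeSpectrum A, AlgebraicClosure (y.asIdeal.ResidueField)

theorem exists_prime_over (y : PrimeSpectrum A) :
    ∃ Q : Ideal (integralClosure A (BigProd A)), Q.IsPrime ∧
      Q.comap (algebraMap A (integralClosure A (BigProd A))) = y.asIdeal := by
  obtain ⟨Q, -, hQ, hQc⟩ := Ideal.exists_ideal_over_prime_of_isIntegral y.asIdeal
    (⊥ : Ideal (integralClosure A (BigProd A))) (by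
      intro a ha
      rw [Ideal.mem_comap, Ideal.mem_bot] at ha
      have h1 : algebraMap A (BigProd A) a = 0 := by
        have := congrArg (algebraMap (integralClosure A (BigProd A)) (BigProd A)) ha
        rw [map_zero, ← IsScalarTower.algebraMap_apply] at this
        exact this
      have h2 := congrFun h1 y
      rw [Pi.algebraMap_apply, Pi.zero_apply] at h2
      have h2' : algebraMap y.asIdeal.ResidueField (AlgebraicClosure y.asIdeal.ResidueField)
          (algebraMap A y.asIdeal.ResidueField a) = 0 := by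
        rw [← IsScalarTower.algebraMap_apply]; exact h2
      have h3 : algebraMap A y.asIdeal.ResidueField a = 0 :=
        (algebraMap y.asIdeal.ResidueField (AlgebraicClosure y.asIdeal.ResidueField)).injective
          (h2'.trans (map_zero _).symm)
      exact Ideal.algebraMap_residueField_eq_zero.mp h3)
  exact ⟨Q, hQ, hQc⟩

theorem exists_root (h : (integralClosure A (BigProd A))[X]) (hm : h.Monic)
    (hd : h.natDegree ≠ 0) : ∃ z : integralClosure A (BigProd A), h.eval z = 0 := by
  have hcomp : ∀ y : PrimeSpectrum A, ∃ b : AlgebraicClosure y.asIdeal.ResidueField,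
      ((h.map (algebraMap (integralClosure A (BigProd A)) (BigProd A))).map
        (Pi.evalRingHom (fun y : PrimeSpectrum A => AlgebraicClosure y.asIdeal.ResidueField)
          y)).eval b = 0 := by
    intro y
    have hnd : ((h.map (algebraMap (integralClosure A (BigProd A)) (BigProd A))).map
        (Pi.evalRingHom (fun y : PrimeSpectrum A => AlgebraicClosure y.asIdeal.ResidueField)
          y)).natDegree = h.natDegree := by
      rw [Polynomial.map_map, hm.natDegree_map]
    exact IsAlgClosed.exists_root _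
      (fun h0 => hd (by rw [← hnd]; exact Polynomial.natDegree_eq_of_degree_eq_some h0))
  choose b hb using hcomp
  have hroot : (h.map (algebraMap (integralClosure A (BigProd A)) (BigProd A))).eval b = 0 := by
    funext y
    have e := hb y
    rw [Polynomial.eval_map] at e
    have e2 := Polynomial.eval₂_at_apply
      (p := h.map (algebraMap (integralClosure A (BigProd A)) (BigProd A)))
      (Pi.evalRingHom (fun y : PrimeSpectrum A => AlgebraicClosure y.asIdeal.ResidueField) y) b
    exact e2.symm.trans e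
  have hbint' : IsIntegral (integralClosure A (BigProd A)) b :=
    (⟨h, hm, (Polynomial.eval_map _ _).symm.trans hroot⟩ :
      ∃ p : (integralClosure A (BigProd A))[X], p.Monic ∧
        p.eval₂ (algebraMap (integralClosure A (BigProd A)) (BigProd A)) b = 0)
  have hbint : IsIntegral A b := isIntegral_trans b hbint'
  refine ⟨⟨b, hbint⟩, ?_⟩
  apply Subtype.ext
  have e3 := Polynomial.eval₂_at_apply (p := h)
    (algebraMap (integralClosure A (BigProd A)) (BigProd A))
    (⟨b, hbint⟩ : integralClosure A (BigProd A))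
  calc ((h.eval (⟨b, hbint⟩ : integralClosure A (BigProd A)) :
        integralClosure A (BigProd A)) : BigProd A)
      = h.eval₂ (algebraMap (integralClosure A (BigProd A)) (BigProd A)) b := e3.symm
    _ = (h.map (algebraMap (integralClosure A (BigProd A)) (BigProd A))).eval b :=
        (Polynomial.eval_map _ _).symm
    _ = 0 := hroot

end Alg

theorem isAlgClosed_residueField_of_roots (R : Type u) [CommRing R]
    (hroot : ∀ F : R[X], F.Monic → F.natDegree ≠ 0 → ∃ a, F.eval a = 0)
    (p : Ideal R) [p.IsPrime] : IsAlgClosed p.ResidueField := by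
  apply IsAlgClosed.of_exists_root
  intro f hf hirr
  obtain ⟨F, b, hFm, hFd, hb, hFmap⟩ := Groth.Agent.Lib.Helper6.FppfLocal.exists_monic_lift p f hf
  have hdegf : f.natDegree ≠ 0 := fun h0 =>
    hirr.not_isUnit (by
      rw [Polynomial.eq_C_of_natDegree_eq_zero h0] at hf ⊢
      have : f.coeff 0 = 1 := by simpa [Polynomial.Monic, Polynomial.leadingCoeff_C] using hf
      rw [this]; exact isUnit_one)
  obtain ⟨a, ha⟩ := hroot F hFm (by rw [hFd]; exact hdegf)
  have h1 : Polynomial.eval (algebraMap R p.ResidueField a)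
      (f.scaleRoots (algebraMap R p.ResidueField b)) = 0 := by
    rw [← hFmap, Polynomial.eval_map, Polynomial.eval₂_at_apply, ha, map_zero]
  refine ⟨(algebraMap R p.ResidueField b)⁻¹ * algebraMap R p.ResidueField a, ?_⟩
  have h2 := Polynomial.scaleRoots_eval_mul f
    ((algebraMap R p.ResidueField b)⁻¹ * algebraMap R p.ResidueField a)
    (algebraMap R p.ResidueField b)
  rw [← mul_assoc, mul_inv_cancel₀ hb, one_mul, h1] at h2
  have h3 := mul_eq_zero.mp h2.symm
  rcases h3 with h3 | h3
  · exact absurd (pow_eq_zero_iff (M₀ := p.ResidueField) hdegf |>.mp h3) hb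
  · exact h3

theorem isIntegralElem_of_square {R A R' A' : Type*} [CommRing R] [CommRing A] [CommRing R']
    [CommRing A'] (φ : R →+* A) (ψ : R →+* R') (φ' : R' →+* A') (χ : A →+* A')
    (hcomm : χ.comp φ = φ'.comp ψ) (a : A) (ha : φ.IsIntegralElem a) :
    φ'.IsIntegralElem (χ a) := by
  obtain ⟨p, hp, hpa⟩ := ha
  refine ⟨p.map ψ, hp.map ψ, ?_⟩
  rw [Polynomial.eval₂_map, ← hcomm, ← Polynomial.hom_eval₂, hpa, map_zero]

/-! ### Schemes -/

theorem frac_repr (X : Scheme.{u}) [IsAffine X] (x : X) (k : X.residueField x) :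
    ∃ a b : Γ(X, ⊤), (X.Γevaluation x).hom b ≠ 0 ∧
      k * (X.Γevaluation x).hom b = (X.Γevaluation x).hom a := by
  obtain ⟨s, rfl⟩ := X.residue_surjective x k
  letI := X.presheaf.algebra_section_stalk (⟨x, trivial⟩ : (⊤ : X.Opens))
  haveI := (isAffineOpen_top X).isLocalization_stalk ⟨x, trivial⟩
  obtain ⟨⟨a, b⟩, hab⟩ := IsLocalization.surj (S := X.presheaf.stalk x)
    ((isAffineOpen_top X).primeIdealOf ⟨x, trivial⟩).asIdeal.primeCompl s
  refine ⟨a, b.1, ?_, ?_⟩
  · have hu : IsUnit (algebraMap Γ(X, ⊤) (X.presheaf.stalk x) b.1) :=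
      IsLocalization.map_units (X.presheaf.stalk x) b
    exact (hu.map (X.residue x).hom).ne_zero
  · have h := congrArg (X.residue x).hom hab
    rw [map_mul] at h
    exact h

theorem residueFieldMap_isIntegral {X' T : Scheme.{u}} [IsAffine X'] [IsAffine T] (f : X' ⟶ T)
    [IsIntegralHom f] (x' : X') : (f.residueFieldMap x').hom.IsIntegral := by
  have hint : f.appTop.hom.IsIntegral := IsIntegralHom.isIntegral_app f ⊤ (isAffineOpen_top T)
  have h1 : ∀ a : Γ(X', ⊤),
      (f.residueFieldMap x').hom.IsIntegralElem ((X'.Γevaluation x').hom a) := by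
    intro a
    refine isIntegralElem_of_square f.appTop.hom (T.Γevaluation (f x')).hom
      (f.residueFieldMap x').hom (X'.Γevaluation x').hom ?_ a (hint a)
    refine RingHom.ext (fun c => ?_)
    exact (Scheme.Γevaluation_naturality_apply f x' c).symm
  intro k
  obtain ⟨a, b, hb, hab⟩ := frac_repr X' x' k
  letI : Algebra (T.residueField (f x')) (X'.residueField x') :=
    (f.residueFieldMap x').hom.toAlgebra
  have ha' : IsIntegral (T.residueField (f x')) ((X'.Γevaluation x').hom a) := h1 a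
  have hb' : IsIntegral (T.residueField (f x')) ((X'.Γevaluation x').hom b) := h1 b
  have hk : k = (X'.Γevaluation x').hom a * ((X'.Γevaluation x').hom b)⁻¹ := by
    rw [← hab, mul_assoc, mul_inv_cancel₀ hb, mul_one]
  have hkint : IsIntegral (T.residueField (f x')) k := by
    rw [hk]; exact ha'.mul hb'.inv
  exact hkint

theorem surjective_SpecMap (A : Type u) [CommRing A] :
    Surjective (Spec.map (CommRingCat.ofHom
      (algebraMap A (integralClosure A (BigProd A))))) := by
  refine ⟨fun y => ?_⟩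
  obtain ⟨Q, hQ, hQc⟩ := exists_prime_over A y
  refine ⟨(⟨Q, hQ⟩ : PrimeSpectrum (integralClosure A (BigProd A))), ?_⟩
  apply PrimeSpectrum.ext
  exact hQc

theorem affine_case (T : Scheme.{u}) [IsAffine T] :
    ∃ (X' : Scheme.{u}) (g : X' ⟶ T), IsAffine X' ∧ Surjective g ∧
      ∀ x' : X', IsAlgClosed (X'.residueField x') ∧ (g.residueFieldMap x').hom.IsIntegral := by
  haveI : IsIntegralHom (Spec.map (CommRingCat.ofHom
      (algebraMap Γ(T, ⊤) (integralClosure Γ(T, ⊤) (BigProd Γ(T, ⊤)))))) :=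
    IsIntegralHom.SpecMap_iff.mpr (algebraMap_isIntegral_iff.mpr inferInstance)
  haveI : Surjective (Spec.map (CommRingCat.ofHom
      (algebraMap Γ(T, ⊤) (integralClosure Γ(T, ⊤) (BigProd Γ(T, ⊤)))))) :=
    surjective_SpecMap Γ(T, ⊤)
  refine ⟨Spec (CommRingCat.of (integralClosure Γ(T, ⊤) (BigProd Γ(T, ⊤)))),
    Spec.map (CommRingCat.ofHom
      (algebraMap Γ(T, ⊤) (integralClosure Γ(T, ⊤) (BigProd Γ(T, ⊤))))) ≫ T.isoSpec.inv,
    inferInstance, inferInstance, fun x' => ⟨?_, ?_⟩⟩
  · haveI : IsAlgClosed x'.asIdeal.ResidueField :=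
      isAlgClosed_residueField_of_roots _ (exists_root Γ(T, ⊤)) x'.asIdeal
    exact IsAlgClosed.of_ringEquiv (k := x'.asIdeal.ResidueField)
      (k' := (Spec (CommRingCat.of (integralClosure Γ(T, ⊤) (BigProd Γ(T, ⊤))))).residueField x')
      (Scheme.Spec.residueFieldIso (CommRingCat.of (integralClosure Γ(T, ⊤) (BigProd Γ(T, ⊤)))) x').commRingCatIsoToRingEquiv.symm
  · exact residueFieldMap_isIntegral _ x'

theorem residueFieldMap_sigmaDesc_isIso_aux {X : Scheme.{u}} (𝒰 : Scheme.OpenCover.{u} X)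
    (i : 𝒰.I₀) (z : 𝒰.X i) :
    IsIso ((Sigma.desc 𝒰.f).residueFieldMap ((Sigma.ι 𝒰.X i) z)) := by
  haveI h1 : IsOpenImmersion (Sigma.ι 𝒰.X i) := (sigmaOpenCover 𝒰.X).map_prop i
  haveI : IsOpenImmersion (Sigma.ι 𝒰.X i ≫ Sigma.desc 𝒰.f) := by
    rw [Sigma.ι_desc]; infer_instance
  have h := Scheme.residueFieldMap_comp (Sigma.ι 𝒰.X i) (Sigma.desc 𝒰.f) z
  have hc : IsIso ((Sigma.ι 𝒰.X i ≫ Sigma.desc 𝒰.f).residueFieldMap z) := inferInstance
  rw [h] at hc
  have h2 : IsIso ((Sigma.ι 𝒰.X i).residueFieldMap z) := inferInstance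
  exact @IsIso.of_isIso_comp_right _ _ _ _ _
    ((Sigma.desc 𝒰.f).residueFieldMap ((Sigma.ι 𝒰.X i) z))
    ((Sigma.ι 𝒰.X i).residueFieldMap z) h2 hc

theorem residueFieldMap_sigmaDesc_isIso {X : Scheme.{u}} (𝒰 : Scheme.OpenCover.{u} X)
    (t : (∐ 𝒰.X : Scheme.{u})) : IsIso ((Sigma.desc 𝒰.f).residueFieldMap t) := by
  obtain ⟨i, z, rfl⟩ := (sigmaOpenCover 𝒰.X).exists_eq t
  exact residueFieldMap_sigmaDesc_isIso_aux 𝒰 i z

theorem qc_of_cover (X : Scheme.{u}) [QuasiSeparatedSpace X] (𝒰 : Scheme.OpenCover.{u} X)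
    [Finite 𝒰.I₀] [∀ i, IsAffine (𝒰.X i)] (X' : Scheme.{u}) [IsAffine X'] (g : X' ⟶ ∐ 𝒰.X) :
    QuasiCompact (g ≫ Sigma.desc 𝒰.f) := by
  infer_instance

theorem surj_of_cover (X : Scheme.{u}) (𝒰 : Scheme.OpenCover.{u} X) [Finite 𝒰.I₀]
    (X' : Scheme.{u}) (g : X' ⟶ ∐ 𝒰.X) [Surjective g] :
    Surjective (g ≫ Sigma.desc 𝒰.f) := by
  haveI : Surjective (Sigma.desc 𝒰.f) :=
    Surjective.sigmaDesc_of_union_range_eq_univ 𝒰.iUnion_range
  infer_instance

theorem integral_comp (X : Scheme.{u}) (𝒰 : Scheme.OpenCover.{u} X) [Finite 𝒰.I₀]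
    (X' : Scheme.{u}) (g : X' ⟶ ∐ 𝒰.X) (x' : X') (hx' : (g.residueFieldMap x').hom.IsIntegral) :
    ((g ≫ Sigma.desc 𝒰.f).residueFieldMap x').hom.IsIntegral := by
  have hcomp := Scheme.residueFieldMap_comp g (Sigma.desc 𝒰.f) x'
  rw [hcomp]
  change ((g.residueFieldMap x').hom.comp
    ((Sigma.desc 𝒰.f).residueFieldMap (g x')).hom).IsIntegral
  haveI hiso : IsIso ((Sigma.desc 𝒰.f).residueFieldMap (g x')) :=
    residueFieldMap_sigmaDesc_isIso 𝒰 (g x')
  refine RingHom.IsIntegral.trans _ _ ?_ hx'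
  exact RingHom.isIntegral_of_surjective _
    (ConcreteCategory.bijective_of_isIso ((Sigma.desc 𝒰.f).residueFieldMap (g x'))).2

theorem main_of_cover (X : Scheme.{u}) [QuasiSeparatedSpace X] (𝒰 : Scheme.OpenCover.{u} X)
    [Finite 𝒰.I₀] [∀ i, IsAffine (𝒰.X i)] :
    ∃ (X' : Scheme.{u}) (f : X' ⟶ X), IsAffine X' ∧ QuasiCompact f ∧ Surjective f ∧
      ∀ x' : X', IsAlgClosed (X'.residueField x') ∧ (f.residueFieldMap x').hom.IsIntegral := by
  obtain ⟨X', g, hX', hg, hx'⟩ := affine_case (∐ 𝒰.X)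
  haveI := hX'
  haveI := hg
  exact ⟨X', g ≫ Sigma.desc 𝒰.f, hX', qc_of_cover X 𝒰 X' g, surj_of_cover X 𝒰 X' g,
    fun x' => ⟨(hx' x').1, integral_comp X 𝒰 X' g x' (hx' x').2⟩⟩

theorem main (X : Scheme.{u}) [CompactSpace X] [QuasiSeparatedSpace X] :
    ∃ (X' : Scheme.{u}) (f : X' ⟶ X), IsAffine X' ∧ QuasiCompact f ∧ Surjective f ∧
      ∀ x' : X', IsAlgClosed (X'.residueField x') ∧ (f.residueFieldMap x').hom.IsIntegral :=
  main_of_cover X X.affineCover.finiteSubcover

end Groth.Agent.Helper1.AlgClosedCover
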