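import Mathlib
import Groth.Prelude.Def_AffAlg
import Groth.Agent.Lib.Helper1.AffAlgLib
import Groth.Agent.Lib.Helper1.ProjQ1

set_option autoImplicit false
universe u
open CategoryTheory CategoryTheory.Limits AlgebraicGeometry TopologicalSpace Opposite

namespace Groth.Agent.Helper1.AlgOf

variable {X Y S : Scheme.{u}} (f : X ⟶ S) (g : Y ⟶ S)

theorem algHom_app' (h : Y ⟶ X) (w : h ≫ f = g) (U : S.Opens) :
    (AffAlg.algHom f g h w).app (op U) =
      h.appLE (f ⁻¹ᵁ U) (g ⁻¹ᵁ U) (by rw [← w]; exact le_rfl) := by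
  subst w
  rw [AffAlgLib.algHom_app]
  exact (Scheme.Hom.appLE_eq_app _).symm

/-- morphisms into a scheme covered by affine opens are determined by their `appLE`s -/
theorem hom_ext_of_appLE {h₁ h₂ : Y ⟶ X} {ι : Type u} (W : ι → X.Opens)
    (hW : ∀ k, IsAffineOpen (W k)) (V : ι → Y.Opens) (hV : ⨆ k, V k = ⊤)
    (e₁ : ∀ k, V k ≤ h₁ ⁻¹ᵁ W k) (e₂ : ∀ k, V k ≤ h₂ ⁻¹ᵁ W k)
    (H : ∀ k, h₁.appLE (W k) (V k) (e₁ k) = h₂.appLE (W k) (V k) (e₂ k)) : h₁ = h₂ := by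
  refine (Y.openCoverOfIsOpenCover V hV).hom_ext _ _ fun k => ?_
  show (V k).ι ≫ h₁ = (V k).ι ≫ h₂
  rw [← Scheme.Hom.resLE_comp_ι h₁ (e₁ k), ← Scheme.Hom.resLE_comp_ι h₂ (e₂ k)]
  congr 1
  have : IsAffine (W k) := hW k
  apply ext_of_isAffine
  show (h₁.resLE (W k) (V k) (e₁ k)).app ⊤ = (h₂.resLE (W k) (V k) (e₂ k)).app ⊤
  rw [Scheme.Hom.resLE_app_top, Scheme.Hom.resLE_app_top, H k]

theorem iSup_preimage_affineOpens : ⨆ U : S.affineOpens, g ⁻¹ᵁ U.1 = ⊤ := by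
  refine eq_top_iff.mpr fun y _ => ?_
  have : g y ∈ (⨆ i : S.affineOpens, (i : S.Opens)) := by
    rw [iSup_affineOpens_eq_top]; trivial
  obtain ⟨U, hU⟩ := Opens.mem_iSup.mp this
  exact Opens.mem_iSup.mpr ⟨U, hU⟩

theorem algOf_injective [IsAffineHom f] : Function.Injective (AffAlg.algOf f g) := by
  rintro ⟨h₁, w₁⟩ ⟨h₂, w₂⟩ heq
  apply Subtype.ext
  have heq' : AffAlg.algHom f g h₁ w₁ = AffAlg.algHom f g h₂ w₂ := congrArg Subtype.val heq
  refine hom_ext_of_appLE (fun U : S.affineOpens => f ⁻¹ᵁ U.1) (fun U => U.2.preimage f)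
    (fun U : S.affineOpens => g ⁻¹ᵁ U.1) (iSup_preimage_affineOpens g)
    (fun U => by rw [← Scheme.Hom.comp_preimage, w₁])
    (fun U => by rw [← Scheme.Hom.comp_preimage, w₂]) fun U => ?_
  rw [← algHom_app' f g h₁ w₁, ← algHom_app' f g h₂ w₂, heq']


section Surj
variable [IsAffineHom f] (ω : AffAlg.algHoms f g)

/-- the local morphism over an affine open of the base -/
noncomputable def loc (U : S.affineOpens) : ((g ⁻¹ᵁ U.1 : Y.Opens) : Scheme.{u}) ⟶ X :=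
  (g ⁻¹ᵁ U.1).toSpecΓ ≫ Spec.map (ω.1.app (op U.1)) ≫ (U.2.preimage f).fromSpec

theorem loc_compat (U'' U : S.affineOpens) (hle : U''.1 ≤ U.1) :
    Y.homOfLE (g.preimage_mono hle) ≫ loc f g ω U = loc f g ω U'' := by
  unfold loc
  rw [← Scheme.Opens.toSpecΓ_SpecMap_presheaf_map_assoc, ← Spec.map_comp_assoc]
  have hnat : ω.1.app (op U.1) ≫ Y.presheaf.map (homOfLE (g.preimage_mono hle)).op =
      X.presheaf.map (homOfLE (f.preimage_mono hle)).op ≫ ω.1.app (op U''.1) :=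
    (ω.1.naturality (homOfLE hle).op).symm
  rw [hnat, Spec.map_comp_assoc,
    (U.2.preimage f).map_fromSpec (U''.2.preimage f) (homOfLE (f.preimage_mono hle)).op]

theorem loc_comp (U : S.affineOpens) : loc f g ω U ≫ f = (g ⁻¹ᵁ U.1).ι ≫ g := by
  unfold loc
  have h1 : (U.2.preimage f).fromSpec ≫ f = Spec.map (f.app U.1) ≫ U.2.fromSpec := by
    rw [← IsAffineOpen.SpecMap_appLE_fromSpec f U.2 (U.2.preimage f) le_rfl,
      Scheme.Hom.appLE_eq_app]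
  have h2 : f.app U.1 ≫ ω.1.app (op U.1) = g.app U.1 := by
    have := congrArg (fun ψ => ψ.app (op U.1)) ω.2
    exact this
  rw [Category.assoc, Category.assoc, h1, ← Spec.map_comp_assoc, h2,
    Scheme.Opens.toSpecΓ_naturality_assoc, U.2.toSpecΓ_fromSpec, morphismRestrict_ι]

end Surj


section Surj2
variable [IsAffineHom f] (ω : AffAlg.algHoms f g)

/-- the glued morphism -/
theorem exists_glued : ∃ h : Y ⟶ X, ∀ U : S.affineOpens, (g ⁻¹ᵁ U.1).ι ≫ h = loc f g ω U := by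
  have hjG : ∀ U : S.affineOpens, Set.range (g ⁻¹ᵁ U.1).ι.base ⊆
      Set.range (⊤ : Y.Opens).ι.base := by
    intro U
    rw [Scheme.Opens.range_ι, Scheme.Opens.range_ι]
    exact Set.subset_univ _
  have hG : ∀ x ∈ (⊤ : Y.Opens), ∃ U : S.affineOpens, x ∈ Set.range (g ⁻¹ᵁ U.1).ι.base := by
    intro x _
    have : x ∈ (⨆ U : S.affineOpens, g ⁻¹ᵁ U.1) := by
      rw [iSup_preimage_affineOpens]; trivial
    obtain ⟨U, hU⟩ := Opens.mem_iSup.mp this
    exact ⟨U, by rw [Scheme.Opens.range_ι]; exact hU⟩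
  obtain ⟨v, hv, -⟩ := ProjQ.exists_glue (⊤ : Y.Opens)
    (fun U : S.affineOpens => ((g ⁻¹ᵁ U.1 : Y.Opens) : Scheme.{u}))
    (fun U => (g ⁻¹ᵁ U.1).ι) hjG hG (loc f g ω) (by
      intro U U' a a' haa'
      have ha : g ((g ⁻¹ᵁ U.1).ι a) ∈ U.1 ⊓ U'.1 := by
        refine ⟨a.2, ?_⟩
        rw [haa']; exact a'.2
      obtain ⟨_, ⟨U'', hU'', rfl⟩, hgU'', hle⟩ :=
        S.isBasis_affineOpens.exists_subset_of_mem_open ha (U.1 ⊓ U'.1).2
      have hle1 : U'' ≤ U.1 := fun z hz => (hle hz).1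
      have hle2 : U'' ≤ U'.1 := fun z hz => (hle hz).2
      refine ⟨⟨U'', hU''⟩, ⟨(g ⁻¹ᵁ U.1).ι a, hgU''⟩, Y.homOfLE (g.preimage_mono hle1),
        Y.homOfLE (g.preimage_mono hle2), rfl, Y.homOfLE_ι _, Y.homOfLE_ι _,
        loc_compat f g ω ⟨U'', hU''⟩ U hle1, loc_compat f g ω ⟨U'', hU''⟩ U' hle2⟩)
  refine ⟨(Scheme.topIso Y).inv ≫ v, fun U => ?_⟩
  rw [← hv U, ← Category.assoc]
  congr 1
  rw [Iso.comp_inv_eq, Scheme.topIso_hom, IsOpenImmersion.lift_fac]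

end Surj2


/-- maps of presheaves of rings into a sheaf agreeing on affine opens are equal -/
theorem presheafHom_ext' {P Q : TopCat.Presheaf CommRingCat.{u} S.carrier} (hQ : Q.IsSheaf)
    {a b : P ⟶ Q}
    (h : ∀ U : S.AffineZariskiSite, a.app (op U.1) = b.app (op U.1)) : a = b := by
  apply (Functor.IsCoverDense.restrictHomEquivHom (G := Scheme.AffineZariskiSite.toOpensFunctor S)
    (K := Opens.grothendieckTopology S) (ℱ := P)
    (ℱ' := (⟨Q, hQ⟩ : TopCat.Sheaf CommRingCat.{u} S.carrier))).symm.injective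
  ext U : 2
  exact h U.unop

section Surj3
variable [IsAffineHom f] (ω : AffAlg.algHoms f g)

theorem algOf_surjective : Function.Surjective (AffAlg.algOf f g) := by
  intro ω
  obtain ⟨h, hh⟩ := exists_glued f g ω
  have w : h ≫ f = g := by
    refine (Y.openCoverOfIsOpenCover (fun U : S.affineOpens => g ⁻¹ᵁ U.1)
      (iSup_preimage_affineOpens g)).hom_ext _ _ fun U => ?_
    show (g ⁻¹ᵁ U.1).ι ≫ h ≫ f = (g ⁻¹ᵁ U.1).ι ≫ g
    rw [← Category.assoc, hh U, loc_comp]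
  refine ⟨⟨h, w⟩, Subtype.ext ?_⟩
  show AffAlg.algHom f g h w = ω.1
  refine presheafHom_ext' (TopCat.Sheaf.pushforward_sheaf_of_sheaf _ Y.sheaf.property) fun U => ?_
  rw [algHom_app' f g h w]
  have hU : IsAffineOpen U.1 := U.2
  set W := f ⁻¹ᵁ U.1 with hWdef
  have hW : IsAffineOpen W := hU.preimage f
  set V := g ⁻¹ᵁ U.1 with hVdef
  have e : V ≤ h ⁻¹ᵁ W := by rw [← Scheme.Hom.comp_preimage, w]
  let ωU : Γ(X, W) ⟶ Γ(Y, V) := ω.1.app (op U.1)
  show h.appLE W V e = ωU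
  have h1 : V.toSpecΓ ≫ Spec.map (h.appLE W V e) ≫ hW.fromSpec =
      V.toSpecΓ ≫ Spec.map ωU ≫ hW.fromSpec := by
    rw [Scheme.Opens.toSpecΓ_SpecMap_appLE_assoc, hW.toSpecΓ_fromSpec, Scheme.Hom.resLE_comp_ι]
    exact hh ⟨U.1, hU⟩
  have h2 : V.toSpecΓ ≫ Spec.map (h.appLE W V e) = V.toSpecΓ ≫ Spec.map ωU := by
    rw [← cancel_mono hW.fromSpec, Category.assoc, Category.assoc, h1]
  have h3 := congrArg (fun ψ => Scheme.Hom.appTop ψ) h2
  simp only [Scheme.Hom.comp_appTop, Scheme.Opens.toSpecΓ_appTop] at h3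
  have n1 := Scheme.ΓSpecIso_naturality (h.appLE W V e)
  have n2 := Scheme.ΓSpecIso_naturality ωU
  rw [reassoc_of% n1, reassoc_of% n2] at h3
  have h4 : h.appLE W V e ≫ V.topIso.inv = ωU ≫ V.topIso.inv :=
    (cancel_epi (Scheme.ΓSpecIso Γ(X, W)).hom).1 h3
  exact (cancel_mono V.topIso.inv).1 h4

/-- **S3569** -/
theorem algOf_bijective : Function.Bijective (AffAlg.algOf f g) :=
  ⟨algOf_injective f g, algOf_surjective f g⟩

end Surj3

end Groth.Agent.Helper1.AlgOf
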