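import Mathlib
import Groth.Prelude.Def_GrMod2
import Groth.Agent.Lib.Helper1.GrAlg

universe u
open DirectSum

namespace Groth.Agent.Helper1.PF11

variable {R A : Type u} [CommRing R] [CommRing A] [Algebra R A] (𝒜 : ℕ → Submodule R A)
  [GradedAlgebra 𝒜]
variable (s : Finset A)

section Alg
variable (hs1 : ∀ f ∈ s, f ∈ 𝒜 1)
  (hs : (HomogeneousIdeal.irrelevant 𝒜).toIdeal = Ideal.span (s : Set A))
include hs1 hs

/-- a homogeneous element of degree `k+1` is a combination of the generators with coefficients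
of degree `k` -/
theorem split1 (k : ℕ) {a : A} (ha : a ∈ 𝒜 (k + 1)) :
    a ∈ AddSubgroup.closure {x : A | ∃ g ∈ s, ∃ b ∈ 𝒜 k, x = b * g} := by
  have h1 : a ∈ (HomogeneousIdeal.irrelevant 𝒜).toIdeal :=
    HomogeneousIdeal.mem_irrelevant_of_mem 𝒜 (Nat.succ_pos k) ha
  rw [hs] at h1
  obtain ⟨t, c, y, hcy, rfl⟩ := GrAlg.exists_sum_of_mem_span 𝒜 𝒜 (s : Set A) (fun _ => 1)
    (fun y hy => hs1 y hy) ha h1
  refine sum_mem fun i _ => ?_
  obtain ⟨hy, hc, _⟩ := hcy i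
  exact AddSubgroup.subset_closure ⟨y i, hy, c i, by simpa using hc, rfl⟩

end Alg

variable {N : Type u} [AddCommGroup N] [Module R N] [Module A N] (𝒩 : ℕ → Submodule R N)

/-- monomials of degree `j` in the generators applied to `m` -/
def Zs (m : N) : ℕ → Set N
  | 0 => {m}
  | j + 1 => {x | ∃ g ∈ s, ∃ z ∈ Zs m j, x = g • z}

theorem Zs_finite (m : N) (j : ℕ) : (Zs s m j).Finite := by
  induction j with
  | zero => exact Set.finite_singleton m
  | succ j ih =>
    have : Zs s m (j + 1) = Set.image2 (fun (g : A) (z : N) => g • z) (s : Set A) (Zs s m j) := by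
      ext x
      simp only [Zs, Set.mem_image2, Finset.mem_coe]
      constructor
      · rintro ⟨g, hg, z, hz, rfl⟩
        exact ⟨g, hg, z, hz, rfl⟩
      · rintro ⟨g, hg, z, hz, rfl⟩
        exact ⟨g, hg, z, hz, rfl⟩
    rw [this]
    exact Set.Finite.image2 _ s.finite_toSet ih

section GS
variable [SetLike.GradedSMul 𝒜 𝒩]

omit [GradedAlgebra 𝒜] in
theorem Zs_mem_deg (hs1 : ∀ f ∈ s, f ∈ 𝒜 1) {m : N} {d : ℕ} (hm : m ∈ 𝒩 d) (j : ℕ) {z : N}
    (hz : z ∈ Zs s m j) : z ∈ 𝒩 (j + d) := by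
  induction j generalizing z with
  | zero =>
    have : z = m := hz
    rw [this, zero_add]
    exact hm
  | succ j ih =>
    obtain ⟨g, hg, z', hz', rfl⟩ := hz
    have := SetLike.GradedSMul.smul_mem (A := 𝒜) (B := 𝒩) (hs1 g hg) (ih hz')
    rw [vadd_eq_add] at this
    have e : 1 + (j + d) = j + 1 + d := by omega
    exact e ▸ this

end GS

section Cl
variable (hs1 : ∀ f ∈ s, f ∈ 𝒜 1)
  (hs : (HomogeneousIdeal.irrelevant 𝒜).toIdeal = Ideal.span (s : Set A))
include hs1 hs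

theorem smul_mem_closure (m : N) (j k : ℕ) {a : A} (ha : a ∈ 𝒜 (j + k)) :
    a • m ∈ AddSubgroup.closure {x : N | ∃ b ∈ 𝒜 k, ∃ z ∈ Zs s m j, x = b • z} := by
  induction j generalizing k a with
  | zero =>
    rw [zero_add] at ha
    exact AddSubgroup.subset_closure ⟨a, ha, m, rfl, rfl⟩
  | succ j ih =>
    have ha' : a ∈ 𝒜 (j + (k + 1)) := by
      have e : j + 1 + k = j + (k + 1) := by omega
      exact e ▸ ha
    have h1 := ih (k + 1) ha'
    refine (AddSubgroup.closure_le _).2 ?_ h1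
    rintro x ⟨b, hb, z, hz, rfl⟩
    have h2 := split1 𝒜 s hs1 hs k hb
    clear hb
    show b • z ∈ AddSubgroup.closure {x : N | ∃ b ∈ 𝒜 k, ∃ z ∈ Zs s m (j + 1), x = b • z}
    induction h2 using AddSubgroup.closure_induction with
    | mem b' hb' =>
      obtain ⟨g, hg, b'', hb'', rfl⟩ := hb'
      rw [mul_smul]
      exact AddSubgroup.subset_closure ⟨b'', hb'', g • z, ⟨g, hg, z, hz, rfl⟩, rfl⟩
    | zero => rw [zero_smul]; exact zero_mem _
    | add x y _ _ hx hy => rw [add_smul]; exact add_mem hx hy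
    | neg x _ hx => rw [neg_smul]; exact neg_mem hx

variable [IsScalarTower R A N] [DirectSum.Decomposition 𝒩] [SetLike.GradedSMul 𝒜 𝒩]

/-- a finitely generated graded module is generated in each large enough degree `n` by a finite
set of elements of degree `n`, in degrees `≥ n` -/
theorem exists_gens [Module.Finite A N] :
    ∃ n₀ : ℕ, ∀ n : ℕ, n₀ ≤ n → ∃ Z : Set N, Z.Finite ∧ (∀ z ∈ Z, z ∈ 𝒩 n) ∧
      ∀ e : ℕ, n ≤ e → ∀ w ∈ 𝒩 e,
        w ∈ AddSubgroup.closure {x : N | ∃ b ∈ 𝒜 (e - n), ∃ z ∈ Z, x = b • z} := by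
  classical
  obtain ⟨S, hS⟩ := (Module.Finite.fg_top : (⊤ : Submodule A N).FG)
  -- homogeneous generators
  let X : Set N := ⋃ y ∈ S, ⋃ i ∈ (DirectSum.decompose 𝒩 y).support,
    {((DirectSum.decompose 𝒩 y i : 𝒩 i) : N)}
  have hXfin : X.Finite := by
    refine Set.Finite.biUnion S.finite_toSet fun y _ => ?_
    exact Set.Finite.biUnion (Finset.finite_toSet _) fun i _ => Set.finite_singleton _
  have hXhom : ∀ y ∈ X, ∃ d : ℕ, y ∈ 𝒩 d := by
    intro y hy
    simp only [X, Set.mem_iUnion, Set.mem_singleton_iff] at hy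
    obtain ⟨y', _, i, _, rfl⟩ := hy
    exact ⟨i, SetLike.coe_mem _⟩
  have hXspan : Submodule.span A X = ⊤ := by
    rw [eq_top_iff, ← hS, Submodule.span_le]
    intro y hy
    rw [← DirectSum.sum_support_decompose 𝒩 y]
    refine Submodule.sum_mem _ fun i hi => Submodule.subset_span ?_
    simp only [X, Set.mem_iUnion, Set.mem_singleton_iff]
    exact ⟨y, hy, i, hi, rfl⟩
  let e : N → ℕ := fun y => if h : ∃ d : ℕ, y ∈ 𝒩 d then h.choose else 0
  have he : ∀ y ∈ X, y ∈ 𝒩 (e y) := by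
    intro y hy
    have h := hXhom y hy
    simp only [e, dif_pos h]
    exact h.choose_spec
  obtain ⟨n₀, hn₀⟩ : ∃ n₀ : ℕ, ∀ y ∈ X, e y ≤ n₀ := by
    obtain ⟨b, hb⟩ := (hXfin.image e).bddAbove
    exact ⟨b, fun y hy => hb ⟨y, hy, rfl⟩⟩
  refine ⟨n₀, fun n hn => ⟨⋃ y ∈ X, Zs s y (n - e y), ?_, ?_, ?_⟩⟩
  · exact Set.Finite.biUnion hXfin fun y _ => Zs_finite s y _
  · intro z hz
    simp only [Set.mem_iUnion] at hz
    obtain ⟨y, hy, hz⟩ := hz
    have := Zs_mem_deg 𝒜 s 𝒩 hs1 (he y hy) (n - e y) hz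
    have e1 : n - e y + e y = n := Nat.sub_add_cancel ((hn₀ y hy).trans hn)
    exact e1 ▸ this
  · intro e' he' w hw
    have hw' : w ∈ Submodule.span A X := by rw [hXspan]; trivial
    obtain ⟨t, c, y, hcy, rfl⟩ := GrAlg.exists_sum_of_mem_span 𝒜 𝒩 X e he hw hw'
    refine sum_mem fun i _ => ?_
    obtain ⟨hy, hc, _⟩ := hcy i
    have hle : e (y i) ≤ n := (hn₀ _ hy).trans hn
    have hc' : c i ∈ 𝒜 ((n - e (y i)) + (e' - n)) := by
      have e1 : e' - e (y i) = (n - e (y i)) + (e' - n) := by omega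
      exact e1 ▸ hc
    have h1 := smul_mem_closure 𝒜 s hs1 hs (y i) (n - e (y i)) (e' - n) hc'
    refine AddSubgroup.closure_mono ?_ h1
    rintro x ⟨b, hb, z, hz, rfl⟩
    refine ⟨b, hb, z, ?_, rfl⟩
    simp only [Set.mem_iUnion]
    exact ⟨y i, hy, hz⟩

end Cl

end Groth.Agent.Helper1.PF11
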