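import Mathlib
import Groth.Prelude.Def_GrMod2
import Groth.Agent.Lib.Helper1.PF11
import Groth.Agent.Lib.Helper1.TildeTens
import Groth.Agent.Lib.Helper1.ModTriv

universe u
open AlgebraicGeometry CategoryTheory Limits TopologicalSpace HomogeneousLocalization Opposite
open DirectSum

namespace Groth.Agent.Helper1.PF12

theorem epi_desc_of_locally {X : Scheme.{u}} {k : ℕ} (L : Fin k → X.Modules) (N : X.Modules)
    (f : ∀ i, L i ⟶ N)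
    (h : ∀ (U : X.Opens) (τ : Γ(N, U)) (x : X), x ∈ U → ∃ (V : X.Opens) (hVU : V ≤ U), x ∈ V ∧
      N.presheaf.map (homOfLE hVU).op τ ∈
        AddSubgroup.closure (⋃ i, Set.range (fun t : Γ(L i, V) => (f i).app V t))) :
    Epi (Sigma.desc f) := by
  refine ⟨fun {Q} g g' hgg' => ?_⟩
  have h1 : ∀ i, f i ≫ g = f i ≫ g' := by
    intro i
    have := congrArg (fun q => Sigma.ι L i ≫ q) hgg'
    simpa using this
  apply Scheme.Modules.hom_ext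
  intro U
  ext τ
  choose V hVU hxV hcl using fun x : U => h U τ x.1 x.2
  refine TopCat.Sheaf.eq_of_locally_eq' (⟨Q.presheaf, Q.isSheaf⟩ : TopCat.Sheaf Ab X) V U
    (fun x => homOfLE (hVU x)) (fun x hx => Opens.mem_iSup.2 ⟨⟨x, hx⟩, hxV ⟨x, hx⟩⟩) _ _ ?_
  intro x
  change Q.presheaf.map (homOfLE (hVU x)).op (g.app U τ) =
    Q.presheaf.map (homOfLE (hVU x)).op (g'.app U τ)
  have n1 := NatTrans.naturality_apply g.mapPresheaf (homOfLE (hVU x)).op τ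
  have n2 := NatTrans.naturality_apply g'.mapPresheaf (homOfLE (hVU x)).op τ
  simp only [Scheme.Modules.mapPresheaf_app] at n1 n2
  erw [← n1, ← n2]
  have hs := hcl x
  generalize (N.presheaf.map (homOfLE (hVU x)).op) τ = w at hs ⊢
  induction hs using AddSubgroup.closure_induction with
  | mem y hy =>
    obtain ⟨i, t, rfl⟩ := Set.mem_iUnion.1 hy
    have := congrArg (fun q : L i ⟶ Q => q.app (V x) t) (h1 i)
    exact this
  | zero => simp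
  | add y z _ _ hy hz => rw [map_add, map_add, hy, hz]
  | neg y _ hy => rw [map_neg, map_neg, hy]


set_option synthInstance.maxHeartbeats 400000

variable {R A : Type u} [CommRing R] [CommRing A] [Algebra R A] (𝒜 : ℕ → Submodule R A)
  [GradedAlgebra 𝒜]
variable {N : Type u} [AddCommGroup N] [Module R N] [Module A N] (𝒩 : ℕ → Submodule R N)
  [SetLike.GradedSMul 𝒜 𝒩]

theorem hk (n : ℕ) : (0 : ℤ) = -(n : ℤ) + n := by omega

/-- the restriction of the global section `z/1` of `N(n)~` -/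
noncomputable def gsec (n : ℕ) (z : 𝒩 n) (U : (Opens (ProjectiveSpectrum.top 𝒜))ᵒᵖ) :
    GrTilde.sect 𝒜 𝒩 (n : ℤ) U :=
  GrTilde.res 𝒜 𝒩 n (homOfLE (le_top : U.unop ≤ ⊤)).op (GrTilde.globalOf 𝒜 𝒩 z)

/-- multiplication by `z ∈ 𝒩 n`, on presheaves of abelian groups -/
noncomputable def φpre (n : ℕ) (z : 𝒩 n) :
    (Twist.twist 𝒜 (-(n : ℤ))).val.presheaf ⟶ (GrTilde.tilde 𝒜 𝒩 0).val.presheaf where
  app U := AddCommGrpCat.ofHom (AddMonoidHom.mk'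
    (fun σ => TildeTens.smulSec 𝒜 𝒩 (hk n) (U := U) σ (gsec 𝒜 𝒩 n z U))
    (fun σ σ' => TildeTens.smulSec_add_left 𝒜 𝒩 (hk n) σ σ' _))
  naturality := by
    intro U V f
    rfl

/-- multiplication by `z ∈ 𝒩 n`, as a morphism `O(-n) ⟶ N~` -/
noncomputable def φ (n : ℕ) (z : 𝒩 n) : Twist.twist 𝒜 (-(n : ℤ)) ⟶ GrTilde.tilde 𝒜 𝒩 0 :=
  (SheafOfModules.Hom.mk (PresheafOfModules.homMk (φpre 𝒜 𝒩 n z)
    (fun U r σ => TildeTens.smulSec_smul_left 𝒜 𝒩 (hk n) (U := U) r σ _)) :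
    SheafOfModules.Hom _ _)

theorem φ_app (n : ℕ) (z : 𝒩 n) (V : (Proj 𝒜).Opens)
    (σ : Twist.sectN (𝒜 := 𝒜) (-(n : ℤ)) (op V)) :
    (φ 𝒜 𝒩 n z).app V σ = TildeTens.smulSec 𝒜 𝒩 (hk n) (U := op V) σ (gsec 𝒜 𝒩 n z (op V)) := rfl


omit [SetLike.GradedSMul 𝒜 𝒩] in
theorem mk_add_same (x : ProjectiveSpectrum 𝒜) (w₁ w₂ : N)
    (c : x.asHomogeneousIdeal.toIdeal.primeCompl) :
    (LocalizedModule.mk w₁ c + LocalizedModule.mk w₂ c : GrTilde.LocMod 𝒜 (M := N) x) =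
      LocalizedModule.mk (w₁ + w₂) c := by
  rw [LocalizedModule.mk_add_mk, LocalizedModule.mk_eq]
  refine ⟨1, ?_⟩
  simp only [one_smul, smul_add, mul_smul]

/-- the key local statement: fractions with numerator in the span of the `z`'s come from
`⊕ O(-n)` -/
theorem exists_sec_of_mem_closure (n j : ℕ) {k : ℕ} (z : Fin k → N) (hz : ∀ i, z i ∈ 𝒩 n)
    (V : (Proj 𝒜).Opens) (c : A) (hc : c ∈ 𝒜 (n + j))
    (hcV : ∀ v : ProjectiveSpectrum 𝒜, v ∈ V → c ∉ v.asHomogeneousIdeal) {w : N}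
    (hw : w ∈ AddSubgroup.closure {x : N | ∃ b ∈ 𝒜 j, ∃ y ∈ Set.range z, x = b • y}) :
    ∃ t : Γ(GrTilde.tilde 𝒜 𝒩 0, V),
      t ∈ AddSubgroup.closure (⋃ i, Set.range
        (fun σ : Γ(Twist.twist 𝒜 (-(n : ℤ)), V) => (φ 𝒜 𝒩 n ⟨z i, hz i⟩).app V σ)) ∧
      ∀ (v : ProjectiveSpectrum 𝒜) (hv : v ∈ V),
        ((((show GrTilde.sect 𝒜 𝒩 0 (op V) from t).1 ⟨v, hv⟩).1 : GrTilde.LocMod 𝒜 (M := N) v)) =
          LocalizedModule.mk w ⟨c, hcV v hv⟩ := by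
  induction hw using AddSubgroup.closure_induction with
  | mem x hx =>
    obtain ⟨b, hb, _, ⟨i, rfl⟩, rfl⟩ := hx
    have hm : ((j : ℕ) : ℤ) = ((n + j : ℕ) : ℤ) + (-(n : ℤ)) := by push_cast; omega
    refine ⟨(φ 𝒜 𝒩 n ⟨z i, hz i⟩).app V
      (TwistTriv.fracSec 𝒜 hb hc hm V (fun v => hcV v.1 v.2)), ?_, ?_⟩
    · exact AddSubgroup.subset_closure (Set.mem_iUnion.2 ⟨i, ⟨_, rfl⟩⟩)
    · intro v hv
      show (Localization.mk b ⟨c, hcV v hv⟩ : Twist.Loc 𝒜 v) •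
        (LocalizedModule.mk (z i) ⟨1, _⟩ : GrTilde.LocMod 𝒜 (M := N) v) = _
      rw [LocalizedModule.mk_smul_mk]
      congr 1
      exact Subtype.ext (mul_one c)
  | zero =>
    refine ⟨0, zero_mem _, fun v hv => ?_⟩
    rw [LocalizedModule.zero_mk]
    rfl
  | add x y _ _ hx hy =>
    obtain ⟨t, ht, htv⟩ := hx
    obtain ⟨t', ht', htv'⟩ := hy
    refine ⟨t + t', add_mem ht ht', fun v hv => ?_⟩
    rw [← mk_add_same, ← htv v hv, ← htv' v hv]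
    rfl
  | neg x _ hx =>
    obtain ⟨t, ht, htv⟩ := hx
    refine ⟨-t, neg_mem ht, fun v hv => ?_⟩
    rw [LocalizedModule.mk_neg, ← htv v hv]
    rfl


theorem span_twists
    (hcov : ∀ x : ProjectiveSpectrum 𝒜, ∃ g : A, g ∈ 𝒜 1 ∧ g ∉ x.asHomogeneousIdeal)
    (n : ℕ) {k : ℕ} (z : Fin k → N) (hz : ∀ i, z i ∈ 𝒩 n)
    (hgen : ∀ e : ℕ, n ≤ e → ∀ w ∈ 𝒩 e,
      w ∈ AddSubgroup.closure {x : N | ∃ b ∈ 𝒜 (e - n), ∃ y ∈ Set.range z, x = b • y})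
    (U : (Proj 𝒜).Opens) (τ : Γ(GrTilde.tilde 𝒜 𝒩 0, U)) (x : ProjectiveSpectrum 𝒜) (hx : x ∈ U) :
    ∃ (V : (Proj 𝒜).Opens) (hVU : V ≤ U), x ∈ V ∧
      (GrTilde.tilde 𝒜 𝒩 0).presheaf.map (homOfLE hVU).op τ ∈
        AddSubgroup.closure (⋃ i, Set.range
          (fun σ : Γ(Twist.twist 𝒜 (-(n : ℤ)), V) => (φ 𝒜 𝒩 n ⟨z i, hz i⟩).app V σ)) := by
  obtain ⟨V₀, hxV₀, iV, i, j, m, c, nin, hij, hw⟩ :=
    (show GrTilde.sect 𝒜 𝒩 0 (op U) from τ).2 ⟨x, hx⟩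
  obtain ⟨m', hm', hmm'⟩ : ∃ m' : N, m' ∈ 𝒩 j ∧ m' = m.1 := by
    rcases hij with hij | hij
    · have : i = j := by omega
      subst this
      exact ⟨m.1, m.2, rfl⟩
    · exact ⟨0, zero_mem _, hij.symm⟩
  obtain ⟨g, hg1, hgx⟩ := hcov x
  obtain ⟨W, hW⟩ : ∃ W : (Proj 𝒜).Opens,
      W = (show (Proj 𝒜).Opens from V₀) ⊓ Proj.basicOpen 𝒜 g := ⟨_, rfl⟩
  have hWV : W ≤ V₀ := hW ▸ inf_le_left
  have hWg : W ≤ Proj.basicOpen 𝒜 g := hW ▸ inf_le_right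
  have hWU : W ≤ U := hWV.trans iV.le
  have hxW : x ∈ W := hW ▸ ⟨hxV₀, (Proj.mem_basicOpen 𝒜 _ x).2 hgx⟩
  have hgn : g ^ n ∈ 𝒜 n := by
    have := SetLike.pow_mem_graded n hg1
    simpa using this
  have hc' : g ^ n * c.1 ∈ 𝒜 (n + j) := SetLike.mul_mem_graded hgn c.2
  have hcV : ∀ v : ProjectiveSpectrum 𝒜, v ∈ W → g ^ n * c.1 ∉ v.asHomogeneousIdeal := by
    intro v hv hmem
    rcases v.isPrime.mem_or_mem hmem with h1 | h1
    · exact (Proj.mem_basicOpen 𝒜 _ v).1 (hWg hv) (v.isPrime.mem_of_pow_mem n h1)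
    · exact nin ⟨v, hWV hv⟩ h1
  have hw' : g ^ n • m' ∈ 𝒩 (n + j) := by
    have := SetLike.GradedSMul.smul_mem (A := 𝒜) (B := 𝒩) hgn hm'
    rwa [vadd_eq_add] at this
  have hcl := hgen (n + j) (Nat.le_add_right n j) _ hw'
  rw [Nat.add_sub_cancel_left] at hcl
  obtain ⟨t, ht, htv⟩ := exists_sec_of_mem_closure 𝒜 𝒩 n j z hz W (g ^ n * c.1) hc' hcV hcl
  refine ⟨W, hWU, hxW, ?_⟩
  have heq : (GrTilde.tilde 𝒜 𝒩 0).presheaf.map (homOfLE hWU).op τ = t := by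
    apply Subtype.ext
    funext v
    apply Subtype.ext
    refine Eq.trans ?_ (htv v.1 v.2).symm
    refine (hw ⟨v.1, hWV v.2⟩).trans ?_
    rw [← hmm', LocalizedModule.mk_eq]
    refine ⟨1, ?_⟩
    simp only [one_smul]
    show (g ^ n * c.1) • m' = c.1 • g ^ n • m'
    rw [smul_smul, mul_comm]
  rw [heq]
  exact ht

variable (s : Finset A) (hs1 : ∀ f ∈ s, f ∈ 𝒜 1)
  (hs : (HomogeneousIdeal.irrelevant 𝒜).toIdeal = Ideal.span (s : Set A))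

include hs1 hs in
theorem hcov_of (x : ProjectiveSpectrum 𝒜) : ∃ g : A, g ∈ 𝒜 1 ∧ g ∉ x.asHomogeneousIdeal := by
  by_contra hcon
  push Not at hcon
  apply x.not_irrelevant_le
  intro a ha
  have h1 : a ∈ Ideal.span (s : Set A) := hs ▸ ha
  exact (Ideal.span_le.2 (fun f hf => hcon f (hs1 f hf))) h1

include hs1 hs in
/-- `N~` is a quotient of a finite direct sum of copies of `O(-n)` for all large `n` -/
theorem epi_twists [IsScalarTower R A N] [DirectSum.Decomposition 𝒩] [Module.Finite A N] :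
    ∃ n₀ : ℕ, ∀ n : ℕ, n₀ ≤ n →
      ∃ (k : ℕ) (p : (∐ fun _ : Fin k => Twist.twist 𝒜 (-(n : ℤ))) ⟶ GrTilde.tilde 𝒜 𝒩 0),
        Epi p := by
  obtain ⟨n₀, hn₀⟩ := PF11.exists_gens 𝒜 s 𝒩 hs1 hs
  refine ⟨n₀, fun n hn => ?_⟩
  obtain ⟨Z, hZfin, hZ, hgen⟩ := hn₀ n hn
  obtain ⟨k, zf, hzf⟩ := hZfin.fin_embedding
  have hz : ∀ i, zf i ∈ 𝒩 n := fun i => hZ _ (hzf ▸ Set.mem_range_self i)
  refine ⟨k, Sigma.desc (fun i => φ 𝒜 𝒩 n ⟨zf i, hz i⟩), ?_⟩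
  apply epi_desc_of_locally
  intro U τ x hx
  exact span_twists 𝒜 𝒩 (hcov_of 𝒜 s hs1 hs) n zf hz (fun e he w hw => hzf ▸ hgen e he w hw)
    U τ x hx

end Groth.Agent.Helper1.PF12
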