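import Mathlib
import Groth.Agent.Lib.Helper1.TwForm3

set_option autoImplicit false
universe u
open CategoryTheory CategoryTheory.Limits AlgebraicGeometry TopologicalSpace Opposite

namespace Groth.Agent.Helper1.TwForm

open Groth.Agent.Helper1.QcCech Groth.Agent.Helper1.SubSh Groth.Agent.Helper1.LGen
open Groth.Agent.Helper1.TmulLib Groth.Agent.Helper1 Groth.Agent.Helper1.TwistSec
open Groth.Agent.Helper1.TensGen

variable {X : Scheme.{u}}

namespace Tw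

variable {L₁ L₂ F F' G G' : X.Modules} {d₁ d₂ : ℤ}

section Inv
variable (T : Tw L₁ L₂ F d₁ d₂ G)

theorem inv_add (W : X.Opens) (f : Frame L₁ L₂ W) (g g' : Γ(G, W)) :
    T.inv W f (g + g') = T.inv W f g + T.inv W f g' := by
  apply T.inv_eq
  rw [T.add, θ_inv, θ_inv]

theorem inv_smul (W : X.Opens) (f : Frame L₁ L₂ W) (r : Γ(X, W)) (g : Γ(G, W)) :
    T.inv W f (r • g) = r • T.inv W f g := by
  apply T.inv_eq
  rw [T.smul, θ_inv]

theorem inv_res (W V : X.Opens) (h : V ≤ W) (f : Frame L₁ L₂ W) (g : Γ(G, W)) :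
    QcCech.res F h (T.inv W f g) = T.inv V (f.res h) (QcCech.res G h g) := by
  symm
  apply T.inv_eq
  rw [← T.res, θ_inv]

theorem inv_unit₁ (W : X.Opens) (f : Frame L₁ L₂ W) (u : (Γ(X, W))ˣ) (g : Γ(G, W)) :
    T.inv W (f.smul₁ u) g = ((u ^ (-d₁) : (Γ(X, W))ˣ) : Γ(X, W)) • T.inv W f g := by
  apply T.inv_eq
  rw [T.unit₁, T.smul, θ_inv, smul_smul, ← Units.val_mul, ← zpow_add, add_neg_cancel, zpow_zero,
    Units.val_one, one_smul]

theorem inv_unit₂ (W : X.Opens) (f : Frame L₁ L₂ W) (u : (Γ(X, W))ˣ) (g : Γ(G, W)) :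
    T.inv W (f.smul₂ u) g = ((u ^ (-d₂) : (Γ(X, W))ˣ) : Γ(X, W)) • T.inv W f g := by
  apply T.inv_eq
  rw [T.unit₂, T.smul, θ_inv, smul_smul, ← Units.val_mul, ← zpow_add, add_neg_cancel, zpow_zero,
    Units.val_one, one_smul]

/-- the inverse form: `F` is a form of `G` twisted by the opposite exponents -/
noncomputable def symm : Tw L₁ L₂ G (-d₁) (-d₂) F where
  θ := T.inv
  bij W f := Function.bijective_iff_has_inverse.2 ⟨T.θ W f, T.θ_inv W f, T.inv_θ W f⟩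
  add := T.inv_add
  smul := T.inv_smul
  res W V h f g := T.inv_res W V h f g
  unit₁ := T.inv_unit₁
  unit₂ := T.inv_unit₂

theorem symm_θ (W : X.Opens) (f : Frame L₁ L₂ W) (g : Γ(G, W)) : T.symm.θ W f g = T.inv W f g := rfl

theorem symm_inv (W : X.Opens) (f : Frame L₁ L₂ W) (m : Γ(F, W)) :
    T.symm.inv W f m = T.θ W f m := by
  apply T.symm.inv_eq
  exact T.inv_θ W f m

end Inv

section Map
variable (T : Tw L₁ L₂ F d₁ d₂ G) (T' : Tw L₁ L₂ F' d₁ d₂ G') (ψ : F ⟶ F')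

/-- the local form of the induced map -/
noncomputable def tmap (W : X.Opens) (f : Frame L₁ L₂ W) (g : Γ(G, W)) : Γ(G', W) :=
  T'.θ W f (ψ.app W (T.inv W f g))

theorem tmap_θ (W : X.Opens) (f : Frame L₁ L₂ W) (m : Γ(F, W)) :
    tmap T T' ψ W f (T.θ W f m) = T'.θ W f (ψ.app W m) := by
  rw [tmap, inv_θ]

theorem tmap_smul₁ (W : X.Opens) (f : Frame L₁ L₂ W) (u : (Γ(X, W))ˣ) (g : Γ(G, W)) :
    tmap T T' ψ W (f.smul₁ u) g = tmap T T' ψ W f g := by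
  rw [tmap, tmap, T.inv_unit₁, Scheme.Modules.Hom.app_smul, T'.smul, T'.unit₁, smul_smul,
    ← Units.val_mul, ← zpow_add, neg_add_cancel, zpow_zero, Units.val_one, one_smul]

theorem tmap_smul₂ (W : X.Opens) (f : Frame L₁ L₂ W) (u : (Γ(X, W))ˣ) (g : Γ(G, W)) :
    tmap T T' ψ W (f.smul₂ u) g = tmap T T' ψ W f g := by
  rw [tmap, tmap, T.inv_unit₂, Scheme.Modules.Hom.app_smul, T'.smul, T'.unit₂, smul_smul,
    ← Units.val_mul, ← zpow_add, neg_add_cancel, zpow_zero, Units.val_one, one_smul]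

theorem tmap_indep (W : X.Opens) (f f' : Frame L₁ L₂ W) (g : Γ(G, W)) :
    tmap T T' ψ W f g = tmap T T' ψ W f' g := by
  obtain ⟨u₁, u₂, rfl⟩ := f.exists_units f'
  rw [tmap_smul₂, tmap_smul₁]

theorem tmap_res (W V : X.Opens) (h : V ≤ W) (f : Frame L₁ L₂ W) (g : Γ(G, W)) :
    QcCech.res G' h (tmap T T' ψ W f g) = tmap T T' ψ V (f.res h) (QcCech.res G h g) := by
  rw [tmap, tmap, T'.res, ← QcExt.app_res, T.inv_res]

theorem tmap_add (W : X.Opens) (f : Frame L₁ L₂ W) (g g' : Γ(G, W)) :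
    tmap T T' ψ W f (g + g') = tmap T T' ψ W f g + tmap T T' ψ W f g' := by
  rw [tmap, tmap, tmap, T.inv_add, map_add, T'.add]

theorem tmap_smul (W : X.Opens) (f : Frame L₁ L₂ W) (r : Γ(X, W)) (g : Γ(G, W)) :
    tmap T T' ψ W f (r • g) = r • tmap T T' ψ W f g := by
  rw [tmap, tmap, T.inv_smul, Scheme.Modules.Hom.app_smul, T'.smul]

theorem exists_glue_map (hloc : LocFrame L₁ L₂) (U : X.Opens) (g : Γ(G, U)) :
    ∃ g' : Γ(G', U), ∀ (W : X.Opens) (hW : W ≤ U) (f : Frame L₁ L₂ W),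
      QcCech.res G' hW g' = tmap T T' ψ W f (QcCech.res G hW g) := by
  have h1 : ∀ x : U, ∃ (W : X.Opens) (_ : W ≤ U), x.1 ∈ W ∧ Nonempty (Frame L₁ L₂ W) := by
    intro x
    obtain ⟨W, hxW, ⟨f⟩⟩ := hloc x.1
    exact ⟨W ⊓ U, inf_le_right, ⟨hxW, x.2⟩, ⟨f.res inf_le_left⟩⟩
  choose W hW hxW hf using h1
  let f := fun x => (hf x).some
  obtain ⟨g', hg'⟩ := glue_of_compatible G' W U hW
    (fun x hx => Opens.mem_iSup.2 ⟨⟨x, hx⟩, hxW ⟨x, hx⟩⟩)
    (fun x => tmap T T' ψ (W x) (f x) (QcCech.res G (hW x) g)) (by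
      intro i j
      rw [tmap_res, tmap_res, QcCech.res_res, QcCech.res_res]
      exact tmap_indep T T' ψ _ _ _ _)
  refine ⟨g', fun W' hW' f' => ?_⟩
  apply eq_of_locally
  intro x hx
  have hxU : x ∈ U := hW' hx
  refine ⟨W' ⊓ W ⟨x, hxU⟩, inf_le_left, ⟨hx, hxW ⟨x, hxU⟩⟩, ?_⟩
  rw [tmap_res, QcCech.res_res, QcCech.res_res]
  have e1 : QcCech.res G' (inf_le_left.trans hW' : W' ⊓ W ⟨x, hxU⟩ ≤ U) g' =
      QcCech.res G' (inf_le_right : W' ⊓ W ⟨x, hxU⟩ ≤ W ⟨x, hxU⟩)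
        (QcCech.res G' (hW ⟨x, hxU⟩) g') := by
    rw [QcCech.res_res]
  rw [e1, hg', tmap_res, QcCech.res_res]
  exact tmap_indep T T' ψ _ _ _ _

/-- the induced map on sections -/
noncomputable def Ψ (hloc : LocFrame L₁ L₂) (U : X.Opens) (g : Γ(G, U)) : Γ(G', U) :=
  (exists_glue_map T T' ψ hloc U g).choose

theorem Ψ_spec (hloc : LocFrame L₁ L₂) (U : X.Opens) (g : Γ(G, U)) (W : X.Opens) (hW : W ≤ U)
    (f : Frame L₁ L₂ W) :
    QcCech.res G' hW (Ψ T T' ψ hloc U g) = tmap T T' ψ W f (QcCech.res G hW g) :=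
  (exists_glue_map T T' ψ hloc U g).choose_spec W hW f

theorem Ψ_add (hloc : LocFrame L₁ L₂) (U : X.Opens) (g g' : Γ(G, U)) :
    Ψ T T' ψ hloc U (g + g') = Ψ T T' ψ hloc U g + Ψ T T' ψ hloc U g' := by
  apply eq_of_framed hloc
  intro W hW f
  rw [map_add, Ψ_spec T T' ψ hloc U _ W hW f, Ψ_spec T T' ψ hloc U _ W hW f,
    Ψ_spec T T' ψ hloc U _ W hW f, map_add, tmap_add]

theorem Ψ_smul (hloc : LocFrame L₁ L₂) (U : X.Opens) (r : Γ(X, U)) (g : Γ(G, U)) :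
    Ψ T T' ψ hloc U (r • g) = r • Ψ T T' ψ hloc U g := by
  apply eq_of_framed hloc
  intro W hW f
  rw [QcCech.res_smul, Ψ_spec T T' ψ hloc U _ W hW f, Ψ_spec T T' ψ hloc U _ W hW f,
    QcCech.res_smul, tmap_smul]

theorem Ψ_res (hloc : LocFrame L₁ L₂) (U V : X.Opens) (h : V ≤ U) (g : Γ(G, U)) :
    QcCech.res G' h (Ψ T T' ψ hloc U g) = Ψ T T' ψ hloc V (QcCech.res G h g) := by
  apply eq_of_framed hloc
  intro W hW f
  rw [QcCech.res_res, Ψ_spec T T' ψ hloc U _ W (hW.trans h) f, Ψ_spec T T' ψ hloc V _ W hW f,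
    QcCech.res_res]

/-- **functoriality of twisted forms** -/
noncomputable def map (hloc : LocFrame L₁ L₂) : G ⟶ G' :=
  homMk G G' (Ψ T T' ψ hloc) (Ψ_add T T' ψ hloc) (Ψ_smul T T' ψ hloc) (Ψ_res T T' ψ hloc)

theorem map_app (hloc : LocFrame L₁ L₂) (W : X.Opens) (f : Frame L₁ L₂ W) (g : Γ(G, W)) :
    (map T T' ψ hloc).app W g = T'.θ W f (ψ.app W (T.inv W f g)) := by
  have := Ψ_spec T T' ψ hloc W g W le_rfl f
  rwa [QcCech.res_self, QcCech.res_self] at this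

theorem map_app_θ (hloc : LocFrame L₁ L₂) (W : X.Opens) (f : Frame L₁ L₂ W) (m : Γ(F, W)) :
    (map T T' ψ hloc).app W (T.θ W f m) = T'.θ W f (ψ.app W m) := by
  rw [map_app T T' ψ hloc W f, inv_θ]

end Map

end Tw

end Groth.Agent.Helper1.TwForm
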