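import Mathlib
import Groth.Agent.Lib.Helper1.TwForm6
import Groth.Agent.Lib.Helper1.TwForm5
import Groth.Agent.Lib.Helper1.GlobGenLoc
import Groth.Agent.Lib.Helper1.PF12
import Groth.Agent.Lib.Helper1.GrTwAmple
import Groth.Agent.Lib.Helper1.AmpleLib3

set_option autoImplicit false
universe u
open CategoryTheory CategoryTheory.Limits AlgebraicGeometry TopologicalSpace Opposite

namespace Groth.Agent.Helper1.AmpleQuot

open Groth.Agent.Helper1.QcCech Groth.Agent.Helper1.SubSh Groth.Agent.Helper1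
open Groth.Agent.Helper1.TwForm Groth.Agent.Helper1.GlobGen

variable {X : Scheme.{u}} {L₁ L₂ K F G : X.Modules} {d₁ d₂ : ℤ}
variable (hloc : LocFrame L₁ L₂) (T : Tw L₁ L₂ F d₁ d₂ G)
  (S : Tw L₁ L₂ K d₁ d₂ (Coh.structureModule X))

/-- the map `K ⟶ F` attached to a global section of `G = F ⊗ (twist)`, `O = K ⊗ (twist)` -/
noncomputable def φ (σ : Γ(G, ⊤)) : K ⟶ F :=
  Tw.map S.symm T.symm (GrTwAmple.homOfSec G σ) hloc

theorem φ_app (σ : Γ(G, ⊤)) (W : X.Opens) (f : Frame L₁ L₂ W) (r : Γ(X, W)) :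
    (φ hloc T S σ).app W (S.inv W f r) = T.inv W f (r • res G (le_top : W ≤ ⊤) σ) :=
  Tw.map_app_θ S.symm T.symm (GrTwAmple.homOfSec G σ) hloc W f r

/-- the images of the maps attached to a family of global sections -/
noncomputable def Im {ι : Type u} (s : ι → Γ(G, ⊤)) (I : Set ι) : PreSub F where
  carrier U := Submodule.span Γ(X, U) (⋃ i ∈ I, Set.range ((φ hloc T S (s i)).app U))
  res_mem := by
    intro U V h t ht
    induction ht using Submodule.span_induction with
    | mem x hx =>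
      obtain ⟨i, hi⟩ := Set.mem_iUnion.1 hx
      obtain ⟨hiI, b, rfl⟩ := Set.mem_iUnion.1 hi
      rw [← QcExt.app_res]
      exact Submodule.subset_span (Set.mem_iUnion.2 ⟨i, Set.mem_iUnion.2 ⟨hiI, _, rfl⟩⟩)
    | zero => rw [map_zero]; exact Submodule.zero_mem _
    | add x y _ _ hx hy => rw [map_add]; exact Submodule.add_mem _ hx hy
    | smul r x _ hx => rw [res_smul]; exact Submodule.smul_mem _ _ hx

theorem Im_mono {ι : Type u} (s : ι → Γ(G, ⊤)) {I J : Set ι} (h : I ⊆ J) (U : X.Opens) :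
    (Im hloc T S s I).carrier U ≤ (Im hloc T S s J).carrier U := by
  apply Submodule.span_mono
  intro x hx
  obtain ⟨i, hi⟩ := Set.mem_iUnion.1 hx
  obtain ⟨hiI, hb⟩ := Set.mem_iUnion.1 hi
  exact Set.mem_iUnion.2 ⟨i, Set.mem_iUnion.2 ⟨h hiI, hb⟩⟩

theorem inv_mem_Im {ι : Type u} (s : ι → Γ(G, ⊤)) (I : Set ι) (W : X.Opens) (f : Frame L₁ L₂ W)
    (g : Γ(G, W))
    (hg : g ∈ Submodule.span Γ(X, W) (Set.range fun i : I => res G (le_top : W ≤ ⊤) (s i))) :
    T.inv W f g ∈ (Im hloc T S s I).carrier W := by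
  induction hg using Submodule.span_induction with
  | mem x hx =>
    obtain ⟨i, rfl⟩ := hx
    have h1 := φ_app hloc T S (s i) W f 1
    rw [one_smul] at h1
    change T.inv W f (res G (le_top : W ≤ ⊤) (s i)) ∈ _
    rw [← h1]
    exact Submodule.subset_span (Set.mem_iUnion.2 ⟨i, Set.mem_iUnion.2 ⟨i.2, _, rfl⟩⟩)
  | zero =>
    have : T.inv W f 0 = 0 := by
      have := T.inv_smul W f 0 0
      rwa [zero_smul, zero_smul] at this
    rw [this]; exact Submodule.zero_mem _
  | add x y _ _ hx hy => rw [T.inv_add]; exact Submodule.add_mem _ hx hy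
  | smul r x _ hx => rw [T.inv_smul]; exact Submodule.smul_mem _ _ hx


theorem exists_local {ι : Type u} (s : ι → Γ(G, ⊤)) [Epi (ofSections s)] (hF : Coh.IsCoh F)
    (x : X) :
    ∃ (V : X.Opens) (I : Finset ι), x ∈ V ∧ ∀ (O : X.Opens) (_ : O ≤ V) (t : Γ(F, O)),
      t ∈ (Im hloc T S s (I : Set ι)).loc.carrier O := by
  classical
  obtain ⟨W₀, hxW₀, ⟨f₀⟩⟩ := hloc x
  obtain ⟨_, ⟨W, hW : IsAffineOpen W, rfl⟩, hxW, hWW₀⟩ :=
    X.isBasis_affineOpens.exists_subset_of_mem_open hxW₀ W₀.isOpen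
  have hWW₀' : W ≤ W₀ := hWW₀
  let f : Frame L₁ L₂ W := f₀.res hWW₀'
  have : F.IsQuasicoherent := hF.1
  have hfin := FinPush.finite_sections F hF hW
  obtain ⟨Sτ, hSτ⟩ := hfin.fg_top
  have h1 : ∀ τ' : Γ(F, W), ∃ (V' : X.Opens) (h : V' ≤ W), x ∈ V' ∧
      ∃ c : ι →₀ Γ(X, V'), (c.sum fun i a => a • res G (le_top : V' ≤ ⊤) (s i)) =
        res G h (T.θ W f τ') := by
    intro τ'
    obtain ⟨V', h, hxV', hm⟩ := mem_loc_of_epi s (T.θ W f τ') x hxW
    refine ⟨V', h, hxV', ?_⟩
    have hm' : res G h (T.θ W f τ') ∈ Submodule.span Γ(X, V')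
        (Set.range fun i => res G (le_top : V' ≤ ⊤) (s i)) := hm
    exact (Finsupp.mem_span_range_iff_exists_finsupp).1 hm'
  choose V' hV' hxV' c hc using h1
  let V : X.Opens := Sτ.inf V' ⊓ W
  let I : Finset ι := Sτ.biUnion fun τ' => (c τ').support
  have hVW : V ≤ W := inf_le_right
  have hVV' : ∀ τ' ∈ Sτ, V ≤ V' τ' := fun τ' hτ' => inf_le_left.trans (Finset.inf_le hτ')
  have hxV : x ∈ V := by
    refine ⟨?_, hxW⟩
    have : ∀ s' : Finset Γ(F, W), x ∈ s'.inf V' := by
      intro s'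
      induction s' using Finset.induction_on with
      | empty => rw [Finset.inf_empty]; trivial
      | insert a s' _ ih => rw [Finset.inf_insert]; exact ⟨hxV' a, ih⟩
    exact this Sτ
  -- generators
  have h2 : ∀ τ' ∈ Sτ, res F hVW τ' ∈ (Im hloc T S s (I : Set ι)).carrier V := by
    intro τ' hτ'
    have e1 : res F hVW τ' = T.inv V (f.res hVW) (res G hVW (T.θ W f τ')) := by
      symm
      apply T.inv_eq
      rw [T.res]
    rw [e1]
    apply inv_mem_Im
    have e2 : res G hVW (T.θ W f τ') = res G (hVV' τ' hτ') (res G (hV' τ') (T.θ W f τ')) := by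
      rw [res_res]
    rw [e2, ← hc τ', Finsupp.sum, map_sum]
    refine Submodule.sum_mem _ fun i hi => ?_
    rw [res_smul, res_res]
    refine Submodule.smul_mem _ _ (Submodule.subset_span ?_)
    have hiI : i ∈ (I : Set ι) := by
      simp only [I, Finset.coe_biUnion, Set.mem_iUnion]
      exact ⟨τ', hτ', hi⟩
    exact ⟨⟨i, hiI⟩, rfl⟩
  have h3 : ∀ h : Γ(F, W), res F hVW h ∈ (Im hloc T S s (I : Set ι)).carrier V := by
    intro h
    have hh : h ∈ Submodule.span Γ(X, W) (Sτ : Set Γ(F, W)) := by rw [hSτ]; trivial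
    induction hh using Submodule.span_induction with
    | mem y hy => exact h2 y hy
    | zero => rw [map_zero]; exact Submodule.zero_mem _
    | add y z _ _ hy hz => rw [map_add]; exact Submodule.add_mem _ hy hz
    | smul r y _ hy => rw [res_smul]; exact Submodule.smul_mem _ _ hy
  refine ⟨V, I, hxV, fun O hO t => ?_⟩
  intro y hy
  obtain ⟨O', hO', hyO', hspan⟩ := AmpleLib.affine_local_span F hW O (hO.trans hVW) t y hy
  refine ⟨O', hO', hyO', ?_⟩
  generalize res F hO' t = w at hspan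
  induction hspan using Submodule.span_induction with
  | mem z hz =>
    obtain ⟨h, rfl⟩ := hz
    have := (Im hloc T S s (I : Set ι)).res_mem (hO'.trans hO) (h3 h)
    rwa [res_res] at this
  | zero => exact Submodule.zero_mem _
  | add y z _ _ hy hz => exact Submodule.add_mem _ hy hz
  | smul r y _ hy => exact Submodule.smul_mem _ _ hy

theorem loc_mono {ι : Type u} (s : ι → Γ(G, ⊤)) {I J : Set ι} (h : I ⊆ J) (U : X.Opens)
    {t : Γ(F, U)} (ht : t ∈ (Im hloc T S s I).loc.carrier U) :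
    t ∈ (Im hloc T S s J).loc.carrier U := by
  intro x hx
  obtain ⟨W, hW, hxW, hm⟩ := ht x hx
  exact ⟨W, hW, hxW, Im_mono hloc T S s h W hm⟩

include hloc T S in
/-- **a coherent module whose twist is globally generated is a quotient of a finite sum of copies
of the inverse twist of the structure sheaf** -/
theorem exists_epi [CompactSpace X] (hF : Coh.IsCoh F) (hG : Curv2.IsGloballyGenerated G) :
    ∃ (r : ℕ) (ψ : (∐ fun _ : Fin r => K) ⟶ F), Epi ψ := by
  classical
  obtain ⟨ι, p, hp⟩ := hG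
  rw [eq_ofSections p] at hp
  set s : ι → Γ(G, ⊤) := fun i => (G.freeHomEquiv p i).1 (op ⊤) with hs
  choose V I hxV hV using fun x => exists_local hloc T S s hF x
  obtain ⟨t, ht⟩ := isCompact_univ.elim_finite_subcover (fun x => ((V x : X.Opens) : Set X))
    (fun x => (V x).isOpen) (fun x _ => Set.mem_iUnion.2 ⟨x, hxV x⟩)
  let J : Finset ι := t.biUnion I
  have hall : ∀ (U : X.Opens) (τ : Γ(F, U)), τ ∈ (Im hloc T S s (J : Set ι)).loc.carrier U := by
    intro U τ
    apply (Im hloc T S s (J : Set ι)).loc.local_mem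
    intro y hy
    obtain ⟨x, hxt, hyx⟩ : ∃ x ∈ t, y ∈ V x := by
      have := ht (Set.mem_univ y)
      simpa using this
    refine ⟨U ⊓ V x, inf_le_left, ⟨hy, hyx⟩, ?_⟩
    refine loc_mono hloc T S s ?_ _ (hV x (U ⊓ V x) inf_le_right _)
    intro i hi
    simp only [J, Finset.coe_biUnion, Set.mem_iUnion]
    exact ⟨x, hxt, hi⟩
  let e := J.equivFin
  refine ⟨J.card, Sigma.desc (fun j => φ hloc T S (s (e.symm j).1)), ?_⟩
  apply PF12.epi_desc_of_locally
  intro U τ x hx
  obtain ⟨W, hW, hxW, hm⟩ := hall U τ x hx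
  refine ⟨W, hW, hxW, ?_⟩
  change res F hW τ ∈ _
  have hsm : ∀ (r : Γ(X, W)) (z : Γ(F, W)),
      z ∈ AddSubgroup.closure (⋃ j : Fin J.card,
        Set.range fun b : Γ(K, W) => (φ hloc T S (s (e.symm j).1)).app W b) →
      r • z ∈ AddSubgroup.closure (⋃ j : Fin J.card,
        Set.range fun b : Γ(K, W) => (φ hloc T S (s (e.symm j).1)).app W b) := by
    intro r z hz
    induction hz using AddSubgroup.closure_induction with
    | mem y hy =>
      obtain ⟨j, b, rfl⟩ := Set.mem_iUnion.1 hy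
      refine AddSubgroup.subset_closure (Set.mem_iUnion.2 ⟨j, r • b, ?_⟩)
      exact Scheme.Modules.Hom.app_smul _ _ _
    | zero => rw [smul_zero]; exact AddSubgroup.zero_mem _
    | add y z _ _ hy hz => rw [smul_add]; exact AddSubgroup.add_mem _ hy hz
    | neg y _ hy => rw [smul_neg]; exact AddSubgroup.neg_mem _ hy
  generalize res F hW τ = w at hm
  induction hm using Submodule.span_induction with
  | mem y hy =>
    obtain ⟨i, hi⟩ := Set.mem_iUnion.1 hy
    obtain ⟨hiJ, b, rfl⟩ := Set.mem_iUnion.1 hi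
    refine AddSubgroup.subset_closure (Set.mem_iUnion.2 ⟨e ⟨i, hiJ⟩, b, ?_⟩)
    simp
  | zero => exact AddSubgroup.zero_mem _
  | add y z _ _ hy hz => exact AddSubgroup.add_mem _ hy hz
  | smul r y _ hy => exact hsm r y hy

end Groth.Agent.Helper1.AmpleQuot
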