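import Mathlib
import Groth.Agent.Lib.Helper1.PushQc
import Groth.Agent.Lib.Helper1.TwForm4
import Groth.Agent.Lib.Helper1.ModGlue

/-!
# Invertible modules from unit cocycles (helper1 library, Cocyc1)
-/
set_option autoImplicit false
universe u
open CategoryTheory CategoryTheory.Limits AlgebraicGeometry TopologicalSpace Opposite

namespace Groth.Agent.Helper1.Cocyc

open Groth.Agent.Helper1.QcCech Groth.Agent.Helper1

variable {X : Scheme.{u}}

/-- the open `V ∩ W`, in the form in which it occurs in sections of pushforwards from `V` -/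
def D (V W : X.Opens) : X.Opens := V.ι ''ᵁ (V.ι ⁻¹ᵁ W)

theorem D_le_left (V W : X.Opens) : D V W ≤ V := by
  rintro _ ⟨x, -, rfl⟩
  exact x.2

theorem D_le_right (V W : X.Opens) : D V W ≤ W := by
  rintro _ ⟨x, hx, rfl⟩
  exact hx

theorem le_D {V W O : X.Opens} (h1 : O ≤ V) (h2 : O ≤ W) : O ≤ D V W := by
  intro x hx
  exact ⟨⟨x, h1 hx⟩, h2 hx, rfl⟩

theorem D_mono {V V' : X.Opens} (h : V' ≤ V) {W W' : X.Opens} (hW : W' ≤ W) : D V' W' ≤ D V W :=
  le_D ((D_le_left _ _).trans h) ((D_le_right _ _).trans hW)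

/-- the structure sheaf of `V` pushed forward to `X` -/
noncomputable def A (V : X.Opens) : X.Modules :=
  (Scheme.Modules.pushforward V.ι).obj (Coh.structureModule ↑V)

/-- a section of `A V` as a function -/
def fn {V W : X.Opens} (f : Γ(A V, W)) : Γ(X, D V W) := f

/-- a function as a section of `A V` -/
def mk {V W : X.Opens} (f : Γ(X, D V W)) : Γ(A V, W) := f

@[simp] theorem fn_mk {V W : X.Opens} (f : Γ(X, D V W)) : fn (mk f : Γ(A V, W)) = f := rfl
@[simp] theorem mk_fn {V W : X.Opens} (f : Γ(A V, W)) : mk (fn f) = f := rfl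

theorem fn_add {V W : X.Opens} (f g : Γ(A V, W)) : fn (f + g) = fn f + fn g := rfl

theorem fn_smul {V W : X.Opens} (r : Γ(X, W)) (f : Γ(A V, W)) :
    fn (r • f) = resR (D_le_right V W) r * fn f := rfl

theorem fn_res {V W W' : X.Opens} (h : W' ≤ W) (f : Γ(A V, W)) :
    fn (res (A V) h f) = resR (D_mono le_rfl h) (fn f) := rfl

theorem fn_injective {V W : X.Opens} : Function.Injective (fn : Γ(A V, W) → Γ(X, D V W)) :=
  fun _ _ h => h


theorem resR_self {O : X.Opens} (h : O ≤ O) (r : Γ(X, O)) : resR h r = r := by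
  have : (homOfLE h).op = 𝟙 (op O) := Subsingleton.elim _ _
  change (X.presheaf.map (homOfLE h).op).hom r = r
  rw [this, CategoryTheory.Functor.map_id]
  rfl

theorem resR_bijective_of_eq {O O' : X.Opens} (h : O' ≤ O) (h' : O ≤ O') :
    Function.Bijective (resR h) := by
  have e : O = O' := le_antisymm h' h
  subst e
  have : resR h = RingHom.id _ := by
    ext r
    exact resR_self _ r
  rw [this]
  exact Function.bijective_id

/-- twisted restriction: restrict from `V` to `V'` and multiply by `e` -/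
noncomputable def T {V V' : X.Opens} (hle : V' ≤ V) (e : Γ(X, V')) : A V ⟶ A V' :=
  TwForm.homMk (A V) (A V')
    (fun W f => mk (resR (D_le_left V' W) e * resR (D_mono hle le_rfl) (fn f)))
    (by
      intro W a b
      apply fn_injective
      change resR (D_le_left V' W) e * resR (D_mono hle le_rfl) (fn a + fn b) =
        resR (D_le_left V' W) e * resR (D_mono hle le_rfl) (fn a) +
          resR (D_le_left V' W) e * resR (D_mono hle le_rfl) (fn b)
      rw [map_add, mul_add])
    (by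
      intro W r a
      apply fn_injective
      change resR (D_le_left V' W) e * resR (D_mono hle le_rfl) (resR (D_le_right V W) r * fn a) =
        resR (D_le_right V' W) r * (resR (D_le_left V' W) e * resR (D_mono hle le_rfl) (fn a))
      rw [map_mul, resR_resR]
      ring)
    (by
      intro W W' h a
      apply fn_injective
      change resR (D_mono le_rfl h) (resR (D_le_left V' W) e * resR (D_mono hle le_rfl) (fn a)) =
        resR (D_le_left V' W') e * resR (D_mono hle le_rfl) (resR (D_mono le_rfl h) (fn a))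
      rw [map_mul, resR_resR, resR_resR, resR_resR])

theorem fn_T {V V' : X.Opens} (hle : V' ≤ V) (e : Γ(X, V')) (W : X.Opens) (f : Γ(A V, W)) :
    fn ((T hle e).app W f) = resR (D_le_left V' W) e * resR (D_mono hle le_rfl) (fn f) := rfl

theorem fn_T_one {V V' : X.Opens} (hle : V' ≤ V) (e : Γ(X, V')) {W W₀ : X.Opens} (hW : W ≤ W₀) :
    fn ((T hle e).app W (res (A V) hW (mk 1))) = resR (D_le_left V' W) e := by
  rw [fn_T, fn_res, fn_mk, map_one, map_one, mul_one]

theorem T_id (V : X.Opens) : T (le_refl V) 1 = 𝟙 (A V) := by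
  apply Scheme.Modules.hom_ext
  intro W
  ext f
  apply fn_injective
  rw [fn_T, map_one, one_mul, resR_self]
  rfl

theorem T_comp {V V' V'' : X.Opens} (hle : V' ≤ V) (hle' : V'' ≤ V') (e : Γ(X, V'))
    (e' : Γ(X, V'')) : T hle e ≫ T hle' e' = T (hle'.trans hle) (resR hle' e * e') := by
  apply Scheme.Modules.hom_ext
  intro W
  ext f
  apply fn_injective
  change fn ((T hle' e').app W ((T hle e).app W f)) = _
  rw [fn_T, fn_T, fn_T, map_mul, map_mul, resR_resR, resR_resR, resR_resR]
  ring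

theorem T_congr {V V' : X.Opens} (hle : V' ≤ V) {e e' : Γ(X, V')} (h : e = e') :
    T hle e = T hle e' := by rw [h]

/-- twisted restriction by a unit is bijective on sections over opens inside the smaller open -/
theorem T_bijective {V V' : X.Opens} (hle : V' ≤ V) (e : Γ(X, V')) (he : IsUnit e) (W : X.Opens)
    (hW : W ≤ V') : Function.Bijective ((T hle e).app W) := by
  have h1 : Function.Bijective (resR (D_mono hle (le_refl W))) :=
    resR_bijective_of_eq _ (le_D ((D_le_right V W).trans hW) (D_le_right V W))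
  have h2 : IsUnit (resR (D_le_left V' W) e) := he.map _
  have h3 : Function.Bijective (fun x : Γ(X, D V' W) => resR (D_le_left V' W) e * x) :=
    ⟨fun a b h => h2.mul_left_cancel h, fun b => by
      obtain ⟨v, hv⟩ := h2
      exact ⟨↑v⁻¹ * b, by simp only; rw [← hv, ← mul_assoc, Units.mul_inv, one_mul]⟩⟩
  exact h3.comp h1

/-- sections of `A V` only depend on the part of the open inside `V` -/
theorem res_A_bijective (V W : X.Opens) :
    Function.Bijective (res (A V) (inf_le_left : W ⊓ V ≤ W)) :=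
  resR_bijective_of_eq (D_mono le_rfl inf_le_left)
    (le_D (D_le_left V W) (le_inf (D_le_right V W) (D_le_left V W)))

section Glue

variable {ι : Type u} (U : ι → X.Opens) (η : ∀ i j : ι, (Γ(X, U i ⊓ U j))ˣ)

/-- the cocycle condition -/
def IsCocycle : Prop :=
  ∀ i j k : ι,
    resR (inf_le_inf_right (U k) inf_le_left : U i ⊓ U j ⊓ U k ≤ U i ⊓ U k)
        (η i k : Γ(X, U i ⊓ U k)) =
      resR (inf_le_left : U i ⊓ U j ⊓ U k ≤ U i ⊓ U j) (η i j : Γ(X, U i ⊓ U j)) *
        resR (inf_le_inf_right (U k) inf_le_right : U i ⊓ U j ⊓ U k ≤ U j ⊓ U k)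
          (η j k : Γ(X, U j ⊓ U k))

/-- the index preorder of the gluing: opens inside a member of the cover, with a chosen member -/
structure J (U : ι → X.Opens) where
  i : ι
  V : X.Opens
  hV : V ≤ U i

instance : Preorder (J U) := Preorder.lift (J.V (U := U))

omit U in
theorem J.le_def {U : ι → X.Opens} {a b : J U} : a ≤ b ↔ a.V ≤ b.V := Iff.rfl

/-- the transition function -/
noncomputable def ηJ (a b : J U) (h : b ≤ a) : Γ(X, b.V) :=
  resR (le_inf (le_trans h a.hV) b.hV) (η a.i b.i : Γ(X, U a.i ⊓ U b.i))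

theorem isUnit_ηJ (a b : J U) (h : b ≤ a) : IsUnit (ηJ U η a b h) :=
  (η a.i b.i).isUnit.map _

variable {U η} (hη : IsCocycle U η)

include hη in
theorem η_self (i : ι) : (η i i : Γ(X, U i ⊓ U i)) = 1 := by
  have h := hη i i i
  have hb : Function.Bijective (resR (inf_le_left : U i ⊓ U i ⊓ U i ≤ U i ⊓ U i)) :=
    resR_bijective_of_eq _ (le_inf le_rfl inf_le_left)
  have hu : IsUnit (resR (inf_le_left : U i ⊓ U i ⊓ U i ≤ U i ⊓ U i) (η i i : Γ(X, U i ⊓ U i))) :=
    (η i i).isUnit.map _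
  have h1 : resR (inf_le_left : U i ⊓ U i ⊓ U i ≤ U i ⊓ U i) (η i i : Γ(X, U i ⊓ U i)) = 1 := by
    have h' : resR (inf_le_left : U i ⊓ U i ⊓ U i ≤ U i ⊓ U i) (η i i : Γ(X, U i ⊓ U i)) =
        resR (inf_le_left : U i ⊓ U i ⊓ U i ≤ U i ⊓ U i) (η i i : Γ(X, U i ⊓ U i)) *
          resR (inf_le_left : U i ⊓ U i ⊓ U i ≤ U i ⊓ U i) (η i i : Γ(X, U i ⊓ U i)) := h
    exact (hu.mul_left_cancel (by rw [mul_one]; exact h')).symm
  apply hb.1
  rw [h1, map_one]

include hη in
theorem ηJ_self (a b : J U) (h : b ≤ a) (hi : a.i = b.i) : ηJ U η a b h = 1 := by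
  obtain ⟨i, V, hV⟩ := a
  obtain ⟨i', V', hV'⟩ := b
  subst hi
  unfold ηJ
  simp only
  rw [η_self hη, map_one]

include hη in
theorem ηJ_comp (a b c : J U) (h : b ≤ a) (h' : c ≤ b) :
    resR (J.le_def.1 h') (ηJ U η a b h) * ηJ U η b c h' = ηJ U η a c (le_trans h' h) := by
  have hc : c.V ≤ U a.i ⊓ U b.i ⊓ U c.i :=
    le_inf (le_inf (le_trans (le_trans h' h) a.hV) (le_trans h' b.hV)) c.hV
  have := congrArg (resR hc) (hη a.i b.i c.i)
  rw [map_mul, resR_resR, resR_resR, resR_resR] at this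
  unfold ηJ
  rw [resR_resR]
  exact this.symm

/-- the diagram of the gluing -/
noncomputable def F (hη : IsCocycle U η) : (J U)ᵒᵖ ⥤ X.Modules where
  obj a := A a.unop.V
  map {a b} f := T (J.le_def.1 f.unop.le) (ηJ U η a.unop b.unop f.unop.le)
  map_id a := by
    rw [ηJ_self hη _ _ _ rfl]
    exact T_id _
  map_comp {a b c} f g := by
    rw [T_comp, ηJ_comp hη]

/-- the glued module -/
noncomputable abbrev L (hη : IsCocycle U η) : X.Modules := limit (F hη)

theorem π_bijective (a : J U) (W : X.Opens) (hW : W ≤ a.V) :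
    Function.Bijective ((limit.π (F hη) (op a)).app W) := by
  refine ModGlue.π_bijective (F hη) (fun a => a.V) (fun h => h) ?_ ?_ ?_ a W hW
  · intro a b x hxa hxb
    exact ⟨⟨a.i, a.V ⊓ b.V, inf_le_left.trans a.hV⟩, J.le_def.2 inf_le_left,
      J.le_def.2 inf_le_right, ⟨hxa, hxb⟩⟩
  · intro a W
    exact res_A_bijective a.V W
  · intro k a h W hW
    exact T_bijective (J.le_def.1 h) _ (isUnit_ηJ U η a k h) W hW

end Glue

section Gen

open Groth.Agent.Helper1.LGen

variable {ι : Type u} {U : ι → X.Opens} {η : ∀ i j : ι, (Γ(X, U i ⊓ U j))ˣ} (hη : IsCocycle U η)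

/-- the index of the member `U i` -/
def top (U : ι → X.Opens) (i : ι) : J U := ⟨i, U i, le_rfl⟩

/-- the generator over `U i` -/
noncomputable def s (i : ι) : Γ(L hη, U i) :=
  ((π_bijective hη (top U i) (U i) le_rfl).2 (mk 1)).choose

theorem π_s (i : ι) : (limit.π (F hη) (op (top U i))).app (U i) (s hη i) = mk 1 :=
  ((π_bijective hη (top U i) (U i) le_rfl).2 (mk 1)).choose_spec

theorem isGen_s (i : ι) : IsGen (L hη) (U i) (s hη i) := by
  intro V hV
  have hπ := π_bijective hη (top U i) V hV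
  rw [← Function.Bijective.of_comp_iff' hπ]
  have hcomp : ((limit.π (F hη) (op (top U i))).app V) ∘
      (fun r : Γ(X, V) => r • res (L hη) hV (s hη i)) =
      fun r : Γ(X, V) => (mk (resR (D_le_right (U i) V) r) : Γ(A (U i), V)) := by
    funext r
    apply fn_injective
    change fn ((limit.π (F hη) (op (top U i))).app V (r • res (L hη) hV (s hη i))) = _
    rw [Scheme.Modules.Hom.app_smul, QcExt.app_res, π_s]
    change resR (D_le_right (U i) V) r * resR (D_mono le_rfl hV) (1 : Γ(X, D (U i) (U i))) =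
      resR (D_le_right (U i) V) r
    rw [map_one, mul_one]
  rw [hcomp]
  exact resR_bijective_of_eq _ (le_D hV le_rfl)

include hη in
theorem η_mul_inv (i j : ι) (O : X.Opens) (hO : O ≤ U i ⊓ U j) (hO' : O ≤ U j ⊓ U i) :
    resR hO (η i j : Γ(X, U i ⊓ U j)) * resR hO' (η j i : Γ(X, U j ⊓ U i)) = 1 := by
  have hO'' : O ≤ U i ⊓ U j ⊓ U i := le_inf hO (hO.trans inf_le_left)
  have := congrArg (resR hO'') (hη i j i)
  rw [map_mul, resR_resR, resR_resR, resR_resR, η_self hη, map_one] at this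
  exact this.symm

theorem π_res_s (i : ι) (k : J U) (hk : k ≤ top U i) (hki : k.i = i) (W : X.Opens)
    (hW : W ≤ U i) :
    fn ((limit.π (F hη) (op k)).app W (res (L hη) hW (s hη i))) = 1 := by
  have h1 := ModGlue.π_c (F hη) hk (res (L hη) hW (s hη i))
  rw [← h1, QcExt.app_res, π_s]
  change fn ((T (V := U i) (V' := k.V) (J.le_def.1 hk) (ηJ U η (top U i) k hk)).app W
    (res (A (U i)) hW (mk 1))) = 1
  rw [fn_T_one, ηJ_self hη _ _ _ hki.symm, map_one]

theorem π_res_s' (i j : ι) (k : J U) (hk : k ≤ top U j) (hki : k.i = i) (W : X.Opens)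
    (hW : W ≤ U j) :
    fn ((limit.π (F hη) (op k)).app W (res (L hη) hW (s hη j))) =
      resR ((D_le_left k.V W).trans (le_inf (J.le_def.1 hk) (hki ▸ k.hV)))
        (η j i : Γ(X, U j ⊓ U i)) := by
  subst hki
  have h1 := ModGlue.π_c (F hη) hk (res (L hη) hW (s hη j))
  rw [← h1, QcExt.app_res, π_s]
  change fn ((T (V := U j) (V' := k.V) (J.le_def.1 hk) (ηJ U η (top U j) k hk)).app W
    (res (A (U j)) hW (mk 1))) = _
  rw [fn_T_one]
  unfold ηJ
  rw [resR_resR]
  rfl

theorem s_trans (i j : ι) :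
    res (L hη) (inf_le_left : U i ⊓ U j ≤ U i) (s hη i) =
      (η i j : Γ(X, U i ⊓ U j)) • res (L hη) (inf_le_right : U i ⊓ U j ≤ U j) (s hη j) := by
  let k : J U := ⟨i, U i ⊓ U j, inf_le_left⟩
  apply (π_bijective hη k (U i ⊓ U j) le_rfl).1
  apply fn_injective (V := k.V) (W := U i ⊓ U j)
  rw [Scheme.Modules.Hom.app_smul]
  refine Eq.trans ?_ (fn_smul (V := k.V) (W := U i ⊓ U j) (η i j : Γ(X, U i ⊓ U j))
    ((limit.π (F hη) (op k)).app (U i ⊓ U j)
      (res (L hη) (inf_le_right : U i ⊓ U j ≤ U j) (s hη j)))).symm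
  rw [π_res_s hη i k (J.le_def.2 inf_le_left) rfl, π_res_s' hη i j k (J.le_def.2 inf_le_right) rfl]
  exact (η_mul_inv hη i j _ _ _).symm

theorem isInvertible_L (hU : iSup U = ⊤) : PicF.IsInvertible (L hη) := by
  apply TwForm.isInvertible_of_locGen
  intro x
  have hx : x ∈ iSup U := by rw [hU]; trivial
  obtain ⟨i, hi⟩ := Opens.mem_iSup.1 hx
  exact ⟨U i, s hη i, hi, isGen_s hη i⟩

include hη in
/-- the packaged result -/
theorem main (hU : iSup U = ⊤) :
    ∃ (L : X.Modules) (s : ∀ i : ι, Γ(L, U i)),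
      PicF.IsInvertible L ∧
      (∀ (i : ι) (V : X.Opens) (h : V ≤ U i),
        Function.Bijective (fun r : Γ(X, V) => r • L.presheaf.map (homOfLE h).op (s i))) ∧
      ∀ i j : ι, L.presheaf.map (homOfLE (inf_le_left : U i ⊓ U j ≤ U i)).op (s i) =
        (η i j : Γ(X, U i ⊓ U j)) • L.presheaf.map (homOfLE (inf_le_right : U i ⊓ U j ≤ U j)).op (s j) :=
  ⟨L hη, s hη, isInvertible_L hη hU, fun i V h => isGen_s hη i V h, fun i j => s_trans hη i j⟩

end Gen

end Groth.Agent.Helper1.Cocyc
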