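import Mathlib
import Groth.Agent.Lib.Helper1.Cocyc1
import Groth.Agent.Lib.Helper1.CocycleIso
import Groth.Agent.Lib.Helper1.TensGen
import Groth.Agent.Lib.Helper1.PullGen2
import Groth.Agent.Lib.Helper1.VT16
import Groth.Agent.Lib.Helper1.VT15

/-!
# Inverse of an invertible module and twisting very ample modules (helper1 library, InvInv)
-/
set_option autoImplicit false
universe u
open CategoryTheory CategoryTheory.Limits AlgebraicGeometry TopologicalSpace Opposite

namespace Groth.Agent.Helper1.InvInv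

open Groth.Agent.Helper1.QcCech Groth.Agent.Helper1 Groth.Agent.Helper1.LGen
  Groth.Agent.Helper1.CocycleIso Groth.Agent.Helper1.TensGen Groth.Agent.Helper1.TmulLib

/-- mutually inverse families of generators of two invertible modules -/
structure InvFam {X : Scheme.{u}} (N N' : X.Modules) where
  ι : Type u
  V : ι → X.Opens
  cov : ∀ x : X, ∃ i, x ∈ V i
  n : ∀ i, Γ(N, V i)
  n' : ∀ i, Γ(N', V i)
  hn : ∀ i, IsGen N (V i) (n i)
  hn' : ∀ i, IsGen N' (V i) (n' i)
  η : ∀ i j, Γ(X, V i ⊓ V j)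
  η' : ∀ i j, Γ(X, V i ⊓ V j)
  hη : ∀ i j, res N inf_le_left (n i) = η i j • res N inf_le_right (n j)
  hη' : ∀ i j, res N' inf_le_left (n' i) = η' i j • res N' inf_le_right (n' j)
  mul : ∀ i j, η i j * η' i j = 1

section A

variable {X : Scheme.{u}} {K : X.Modules} {ι : Type u} {U : ι → X.Opens} {κ : ∀ i, Γ(K, U i)}
  (hκ : ∀ i, IsGen K (U i) (κ i))

/-- transition function of the generators over an open inside both members -/
noncomputable def c (O : X.Opens) (i j : ι) (hi : O ≤ U i) (hj : O ≤ U j) : Γ(X, O) :=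
  coeff (hκ j) hj (res K hi (κ i))

theorem c_spec (O : X.Opens) (i j : ι) (hi : O ≤ U i) (hj : O ≤ U j) :
    c hκ O i j hi hj • res K hj (κ j) = res K hi (κ i) := coeff_spec _ _ _

theorem c_eq (O : X.Opens) (i j : ι) (hi : O ≤ U i) (hj : O ≤ U j) (r : Γ(X, O))
    (h : r • res K hj (κ j) = res K hi (κ i)) : c hκ O i j hi hj = r := coeff_eq _ _ _ _ h

theorem c_res (O O' : X.Opens) (h : O' ≤ O) (i j : ι) (hi : O ≤ U i) (hj : O ≤ U j) :
    resR h (c hκ O i j hi hj) = c hκ O' i j (h.trans hi) (h.trans hj) := by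
  symm
  apply c_eq
  have := congrArg (res K h) (c_spec hκ O i j hi hj)
  rw [res_smul, res_res, res_res] at this
  exact this

theorem c_mul (O : X.Opens) (i j k : ι) (hi : O ≤ U i) (hj : O ≤ U j) (hk : O ≤ U k) :
    c hκ O i k hi hk = c hκ O i j hi hj * c hκ O j k hj hk := by
  apply c_eq
  rw [mul_smul, c_spec, c_spec]

theorem c_self (O : X.Opens) (i : ι) (hi : O ≤ U i) : c hκ O i i hi hi = 1 := by
  apply c_eq
  rw [one_smul]

theorem c_mul_swap (O : X.Opens) (i j : ι) (hi : O ≤ U i) (hj : O ≤ U j) :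
    c hκ O i j hi hj * c hκ O j i hj hi = 1 := by
  rw [← c_mul, c_self]

/-- the inverse unit cocycle -/
noncomputable def η' (i j : ι) : (Γ(X, U i ⊓ U j))ˣ :=
  ⟨c hκ _ j i inf_le_right inf_le_left, c hκ _ i j inf_le_left inf_le_right,
    c_mul_swap hκ _ _ _ _ _, c_mul_swap hκ _ _ _ _ _⟩

theorem isCocycle_η' : Cocyc.IsCocycle U (η' hκ) := by
  intro i j k
  change resR _ (c hκ _ k i _ _) = resR _ (c hκ _ j i _ _) * resR _ (c hκ _ k j _ _)
  rw [c_res, c_res, c_res, mul_comm]
  exact c_mul hκ _ k j i _ _ _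

include hκ in
theorem exists_invFam (hcov : ∀ x : X, ∃ i, x ∈ U i) :
    ∃ K' : X.Modules, PicF.IsInvertible K' ∧ Nonempty (InvFam K K') := by
  have hU : iSup U = ⊤ := by
    rw [eq_top_iff]
    intro x _
    obtain ⟨i, hi⟩ := hcov x
    exact Opens.mem_iSup.2 ⟨i, hi⟩
  obtain ⟨K', s, hK', hs, hss⟩ := Cocyc.main (isCocycle_η' hκ) hU
  refine ⟨K', hK', ⟨{
    ι := ι
    V := U
    cov := hcov
    n := κ
    n' := s
    hn := hκ
    hn' := fun i => hs i
    η := fun i j => c hκ _ i j inf_le_left inf_le_right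
    η' := fun i j => c hκ _ j i inf_le_right inf_le_left
    hη := fun i j => (c_spec hκ _ i j _ _).symm
    hη' := fun i j => hss i j
    mul := fun i j => c_mul_swap hκ _ _ _ _ _ }⟩⟩

end A

theorem exists_invFam_of_isInvertible {X : Scheme.{u}} {K : X.Modules} (hK : PicF.IsInvertible K) :
    ∃ K' : X.Modules, PicF.IsInvertible K' ∧ Nonempty (InvFam K K') := by
  choose U κ hxU hκ using fun x : X => exists_isGen hK x
  exact exists_invFam (ι := X) (U := U) (κ := κ) hκ (fun x => ⟨x, hxU x⟩)

section B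

variable {X Y : Scheme.{u}} (q : X ⟶ Y) {K K' : Y.Modules}

/-- the pullback of a mutually inverse family -/
noncomputable def InvFam.pullback (F : InvFam K K') :
    InvFam ((Scheme.Modules.pullback q).obj K) ((Scheme.Modules.pullback q).obj K') where
  ι := F.ι
  V := fun i => q ⁻¹ᵁ F.V i
  cov := fun x => by
    obtain ⟨i, hi⟩ := F.cov (q.base x)
    exact ⟨i, hi⟩
  n := fun i => PullSec.σ q K (F.V i) (F.n i)
  n' := fun i => PullSec.σ q K' (F.V i) (F.n' i)
  hn := fun i => PullGen.isGen_σ q (F.hn i)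
  hn' := fun i => PullGen.isGen_σ q (F.hn' i)
  η := fun i j => (q.app (F.V i ⊓ F.V j)).hom (F.η i j)
  η' := fun i j => (q.app (F.V i ⊓ F.V j)).hom (F.η' i j)
  hη := fun i j => by
    have h1 := PullSec.σ_res q K (inf_le_left : F.V i ⊓ F.V j ≤ F.V i) (F.n i)
    have h2 := PullSec.σ_res q K (inf_le_right : F.V i ⊓ F.V j ≤ F.V j) (F.n j)
    refine h1.trans ?_
    rw [F.hη i j, PullSec.σ_smul, ← h2]
    rfl
  hη' := fun i j => by
    have h1 := PullSec.σ_res q K' (inf_le_left : F.V i ⊓ F.V j ≤ F.V i) (F.n' i)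
    have h2 := PullSec.σ_res q K' (inf_le_right : F.V i ⊓ F.V j ≤ F.V j) (F.n' j)
    refine h1.trans ?_
    rw [F.hη' i j, PullSec.σ_smul, ← h2]
    rfl
  mul := fun i j => by
    have := congrArg (q.app (F.V i ⊓ F.V j)).hom (F.mul i j)
    rw [map_mul, map_one] at this
    exact this

end B

section C

variable {X : Scheme.{u}} {N N' : X.Modules} (F : InvFam N N') (L : X.Modules)

/-- restriction of the family generators to a smaller open -/
theorem res_n_eq (i j : F.ι) (O : X.Opens) (hi : O ≤ F.V i) (hj : O ≤ F.V j) :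
    res N hi (F.n i) = resR (le_inf hi hj) (F.η i j) • res N hj (F.n j) := by
  have := congrArg (res N (le_inf hi hj)) (F.hη i j)
  rw [res_smul, res_res, res_res] at this
  exact this

theorem res_n'_eq (i j : F.ι) (O : X.Opens) (hi : O ≤ F.V i) (hj : O ≤ F.V j) :
    res N' hi (F.n' i) = resR (le_inf hi hj) (F.η' i j) • res N' hj (F.n' j) := by
  have := congrArg (res N' (le_inf hi hj)) (F.hη' i j)
  rw [res_smul, res_res, res_res] at this
  exact this

/-- the triple tensor of a section of `L` with the two family generators -/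
noncomputable def trip (i : F.ι) (O : X.Opens) (hi : O ≤ F.V i) (l : Γ(L, O)) :
    Γ(CohB1.tensorMod (CohB1.tensorMod L N) N', O) :=
  tm (CohB1.tensorMod L N) N' O (tm L N O l (res N hi (F.n i))) (res N' hi (F.n' i))

theorem trip_smul (i : F.ι) (O : X.Opens) (hi : O ≤ F.V i) (r : Γ(X, O)) (l : Γ(L, O)) :
    trip F L i O hi (r • l) = r • trip F L i O hi l := by
  unfold trip
  rw [tm_smul_left, tm_smul_left]

theorem res_trip (i : F.ι) (O O' : X.Opens) (h : O' ≤ O) (hi : O ≤ F.V i) (l : Γ(L, O)) :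
    res _ h (trip F L i O hi l) = trip F L i O' (h.trans hi) (res L h l) := by
  unfold trip
  rw [res_tm, res_tm, res_res, res_res]

theorem trip_indep (i j : F.ι) (O : X.Opens) (hi : O ≤ F.V i) (hj : O ≤ F.V j) (l : Γ(L, O)) :
    trip F L i O hi l = trip F L j O hj l := by
  unfold trip
  rw [res_n_eq F i j O hi hj, res_n'_eq F i j O hi hj, tm_smul_right, tm_smul_right,
    tm_smul_left, smul_smul, ← map_mul, mul_comm, F.mul, map_one, one_smul]

theorem isGen_trip (i : F.ι) (O : X.Opens) (hi : O ≤ F.V i) {l : Γ(L, O)} (hl : IsGen L O l) :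
    IsGen _ O (trip F L i O hi l) :=
  isGen_tm (isGen_tm hl ((F.hn i).res hi)) ((F.hn' i).res hi)

include F in
theorem nonempty_iso (hL : PicF.IsInvertible L) :
    Nonempty (CohB1.tensorMod (CohB1.tensorMod L N) N' ≅ L) := by
  choose W₀ l₀ hxW₀ hl₀ using fun x : X => exists_isGen hL x
  choose i hi using fun x : X => F.cov x
  let W : X → X.Opens := fun x => W₀ x ⊓ F.V (i x)
  let l : ∀ x, Γ(L, W x) := fun x => res L inf_le_left (l₀ x)
  have hl : ∀ x, IsGen L (W x) (l x) := fun x => (hl₀ x).res inf_le_left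
  let G : GenFam (CohB1.tensorMod (CohB1.tensorMod L N) N') L :=
    { ι := X
      W := W
      a := fun x => trip F L (i x) (W x) inf_le_right (l x)
      b := l
      ha := fun x => isGen_trip F L (i x) (W x) inf_le_right (hl x)
      hb := hl
      cov := fun x => ⟨x, hxW₀ x, hi x⟩
      compat := by
        intro x y v hv
        rw [res_trip, res_trip,
          trip_indep F L (i x) (i y) _ _ (inf_le_right.trans inf_le_right)] at hv
        obtain ⟨r, hr⟩ := ((hl y).res (inf_le_right : W x ⊓ W y ≤ W y)).exists_coeff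
          (res L inf_le_left (l x))
        rw [← hr, trip_smul] at hv
        have hinj := (isGen_trip F L (i y) _ (inf_le_right.trans inf_le_right)
          ((hl y).res (inf_le_right : W x ⊓ W y ≤ W y)) _ le_rfl).1
        have : r = v := by
          apply hinj
          change r • res _ _ _ = v • res _ _ _
          rw [res_self]
          exact hv
        rw [← this, ← hr] }
  exact ⟨G.iso⟩

end C

section Main

variable {X Y : Scheme.{u}} (q : X ⟶ Y)

theorem isRelVeryAmple_tensor_pullback (L : X.Modules) (hL : PicF.IsInvertible L)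
    (hva : RelProj.IsRelVeryAmple q L) (K : Y.Modules) (hK : PicF.IsInvertible K) :
    RelProj.IsRelVeryAmple q (CohB1.tensorMod L ((Scheme.Modules.pullback q).obj K)) := by
  obtain ⟨E, hE, u, -, hcrit⟩ := VT.exists_crit_of_isRelVeryAmple q L hva
  have : E.IsQuasicoherent := hE
  have : K.IsQuasicoherent := InvQc.isQuasicoherent_of_isInvertible K hK
  have hL' : PicF.IsInvertible ((Scheme.Modules.pullback q).obj K) :=
    PullGen.isInvertible_pullback q hK
  exact VT.isRelVeryAmple_tensor_of_crit q L _ hL hL' E u hcrit K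
    (VT.adjU q (𝟙 ((Scheme.Modules.pullback q).obj K)))
    (fun U x hx => VT.exists_gl_of_epi q (𝟙 _) hL' U.2 x hx)

theorem main (L : X.Modules) (hL : PicF.IsInvertible L) (K : Y.Modules)
    (hK : PicF.IsInvertible K) :
    RelProj.IsRelVeryAmple q L ↔
      RelProj.IsRelVeryAmple q (CohB1.tensorMod L ((Scheme.Modules.pullback q).obj K)) := by
  refine ⟨fun h => isRelVeryAmple_tensor_pullback q L hL h K hK, fun h => ?_⟩
  obtain ⟨K', hK', ⟨F⟩⟩ := exists_invFam_of_isInvertible hK
  have hLK : PicF.IsInvertible (CohB1.tensorMod L ((Scheme.Modules.pullback q).obj K)) :=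
    TwForm.isInvertible_tensorMod hL (PullGen.isInvertible_pullback q hK)
  have h2 := isRelVeryAmple_tensor_pullback q _ hLK h K' hK'
  obtain ⟨e⟩ := nonempty_iso (F.pullback q) L hL
  exact VT.isRelVeryAmple_of_iso q e h2

end Main

end Groth.Agent.Helper1.InvInv
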