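import Mathlib
import Groth.Agent.Lib.Helper1.InvInv
import Groth.Agent.Lib.Helper1.TwForm4
import Groth.Agent.Lib.Lead.FLF1

set_option autoImplicit false
universe u
open CategoryTheory CategoryTheory.Limits AlgebraicGeometry TopologicalSpace Opposite

namespace Groth.Agent.Helper1.InvInv2

open Groth.Agent.Helper1.TwForm Groth.Agent.Helper1

variable {X : Scheme.{u}}

/-- an inverse of an invertible module (copy of `AmpleRes.exists_inverse` with light imports) -/
theorem exists_inverse {N : X.Modules} (hN : PicF.IsInvertible N) :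
    ∃ K : X.Modules, PicF.IsInvertible K ∧
      Nonempty (CohB1.tensorMod K N ≅ Coh.structureModule X) := by
  obtain ⟨K, hK, ⟨F⟩⟩ := InvInv.exists_invFam_of_isInvertible hN
  have hO : PicF.IsInvertible (Coh.structureModule X) := isInvertible_tensorPow hN 0
  obtain ⟨φ⟩ := InvInv.nonempty_iso F (Coh.structureModule X) hO
  have hloc := locFrame_of_isInvertible hN hK
  let A₁ := ((Tw.snd N K).tensorR (Tw.fst N K)).cast (d₁' := 1) (d₂' := 1) (by ring) (by ring)
  let A₂ := ((((Tw.self N K (Coh.structureModule X)).tensorR (Tw.fst N K)).tensorR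
    (Tw.snd N K)).ofIso φ).cast (d₁' := 1) (d₂' := 1) (by ring) (by ring)
  exact ⟨K, hK, ⟨Tw.iso A₁ A₂ hloc⟩⟩

/-- an invertible module is finite locally free -/
theorem isFinLocFree_of_isInvertible {K : X.Modules} (hK : PicF.IsInvertible K) :
    FlatMod.IsFinLocFree K := by
  intro x
  obtain ⟨U, hxU, ⟨e⟩⟩ := hK x
  refine ⟨U, 1, hxU, ⟨e ≪≫ ?_⟩⟩
  exact (coproductUniqueIso (fun _ : Fin 1 => Coh.structureModule (↑U))).symm

end Groth.Agent.Helper1.InvInv2
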