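import Mathlib

set_option autoImplicit false
universe u
open CategoryTheory CategoryTheory.Limits AlgebraicGeometry TopologicalSpace Opposite

namespace Groth.Agent.Helper1.CurveFin

section Top
variable {T : Type*} [TopologicalSpace T]

/-- in a space of dimension `≤ 1`, a point of an irreducible closed set `Z` which is not generic
in `Z` is a closed point -/
theorem closure_singleton_of_ne [T0Space T] (hdim : topologicalKrullDim T ≤ 1) {Z : Set T}
    (hZi : IsIrreducible Z) (hZc : IsClosed Z) {x : T} (hx : x ∈ Z) (hne : closure {x} ≠ Z) :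
    closure {x} = {x} := by
  let Zi : IrreducibleCloseds T := ⟨Z, hZi, hZc⟩
  let Cx : IrreducibleCloseds T := ⟨closure {x}, isIrreducible_singleton.closure, isClosed_closure⟩
  have hle : Cx ≤ Zi := by
    show closure {x} ⊆ Z
    exact hZc.closure_subset_iff.2 (Set.singleton_subset_iff.2 hx)
  have hlt : Cx < Zi := lt_of_le_of_ne hle (fun h => hne (congrArg (fun C : IrreducibleCloseds T => (C : Set T)) h))
  have hmin : IsMin Cx := by
    rcases (Order.krullDim_le_one_iff.1 hdim) Cx with h | h
    · exact h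
    · exact absurd hlt (h.not_lt)
  apply Set.Subset.antisymm _ subset_closure
  intro x' hx'
  let Cx' : IrreducibleCloseds T := ⟨closure {x'}, isIrreducible_singleton.closure, isClosed_closure⟩
  have h1 : Cx' ≤ Cx := by
    show closure {x'} ⊆ closure {x}
    exact isClosed_closure.closure_subset_iff.2 (Set.singleton_subset_iff.2 hx')
  have h2 : Cx ≤ Cx' := hmin h1
  have h3 : closure {x} = closure {x'} := Set.Subset.antisymm h2 h1
  have : Inseparable x x' := inseparable_iff_closure_eq.2 h3
  exact this.eq.symm ▸ rfl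

/-- proper closed subsets of an irreducible closed set in a Noetherian sober space of dimension
`≤ 1` are finite -/
theorem finite_of_isClosed_of_ne [T0Space T] [QuasiSober T] [NoetherianSpace T]
    (hdim : topologicalKrullDim T ≤ 1) {Z : Set T}
    (hZi : IsIrreducible Z) (hZc : IsClosed Z) {F : Set T} (hF : IsClosed F) (hFZ : F ⊆ Z)
    (hne : F ≠ Z) : F.Finite := by
  obtain ⟨S, hSf, hSc, hSi, rfl⟩ := NoetherianSpace.exists_finite_set_isClosed_irreducible hF
  refine Set.Finite.sUnion hSf fun t ht => ?_
  have htZ : t ⊆ Z := fun a ha => hFZ ⟨t, ht, ha⟩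
  obtain ⟨x, hx⟩ := QuasiSober.sober (hSi t ht) (hSc t ht)
  have hxt : x ∈ t := hx.mem
  have hcl : closure {x} = t := hx.def
  have hne' : closure {x} ≠ Z := by
    rw [hcl]
    intro h
    apply hne
    apply Set.Subset.antisymm hFZ
    rw [← h]
    exact Set.subset_sUnion_of_mem ht
  have := closure_singleton_of_ne hdim hZi hZc (htZ hxt) hne'
  rw [← hcl, this]
  exact Set.finite_singleton x

theorem finite_preimage_singleton_of_dim_le_one {T' : Type*} [TopologicalSpace T']
    [T0Space T] [QuasiSober T] [NoetherianSpace T]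
    (hdim : topologicalKrullDim T ≤ 1) (f : T → T') (hf : Continuous f) (hcl : IsClosedMap f)
    (h : ∀ Z ∈ irreducibleComponents T, topologicalKrullDim Z = 1 → (f '' Z).Nontrivial) (y : T') :
    (f ⁻¹' {y}).Finite := by
  by_contra hinf
  have hcomp : (irreducibleComponents T).Finite := NoetherianSpace.finite_irreducibleComponents
  have hcov : f ⁻¹' {y} = ⋃ Z ∈ irreducibleComponents T, (f ⁻¹' {y} ∩ Z) := by
    rw [← Set.inter_iUnion₂, ← Set.sUnion_eq_biUnion, sUnion_irreducibleComponents, Set.inter_univ]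
  have : ∃ Z ∈ irreducibleComponents T, (f ⁻¹' {y} ∩ Z).Infinite := by
    by_contra hcon
    push Not at hcon
    apply hinf
    rw [hcov]
    exact hcomp.biUnion fun Z hZ => hcon Z hZ
  obtain ⟨Z, hZ, hZinf⟩ := this
  have hZi : IsIrreducible Z := hZ.1
  have hZc : IsClosed Z := isClosed_of_mem_irreducibleComponents Z hZ
  -- a non-generic point in the fibre
  have hgen : {x : T | closure {x} = Z}.Subsingleton := by
    intro a ha b hb
    exact (inseparable_iff_closure_eq.2 (ha.trans hb.symm)).eq
  obtain ⟨x₀, hx₀, hx₀gen⟩ : ∃ x₀ ∈ f ⁻¹' {y} ∩ Z, closure {x₀} ≠ Z := by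
    by_contra hcon
    push Not at hcon
    exact hZinf ((hgen.finite).subset fun a ha => hcon a ha)
  have hx₀cl : closure {x₀} = {x₀} := closure_singleton_of_ne hdim hZi hZc hx₀.2 hx₀gen
  have hycl : IsClosed ({y} : Set T') := by
    have := hcl {x₀} (hx₀cl ▸ isClosed_closure)
    rw [Set.image_singleton] at this
    have hfx : f x₀ = y := hx₀.1
    rwa [hfx] at this
  have hΦcl : IsClosed (f ⁻¹' {y} ∩ Z) := (hycl.preimage hf).inter hZc
  have hΦZ : f ⁻¹' {y} ∩ Z = Z := by
    by_contra hne
    exact hZinf (finite_of_isClosed_of_ne hdim hZi hZc hΦcl Set.inter_subset_right hne)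
  have hsub : Z ⊆ f ⁻¹' {y} := fun a ha => by
    have : a ∈ f ⁻¹' {y} ∩ Z := by rw [hΦZ]; exact ha
    exact this.1
  -- the dimension of `Z` is one
  have hdimZ : topologicalKrullDim Z = 1 := by
    apply le_antisymm ((topologicalKrullDim_subspace_le T Z).trans hdim)
    rw [topologicalKrullDim, Order.one_le_krullDim_iff]
    haveI : IrreducibleSpace Z := Subtype.irreducibleSpace hZi
    let a : IrreducibleCloseds Z := ⟨closure {⟨x₀, hx₀.2⟩}, isIrreducible_singleton.closure, isClosed_closure⟩
    let b : IrreducibleCloseds Z := ⟨Set.univ, (irreducibleSpace_def _).1 inferInstance, isClosed_univ⟩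
    refine ⟨a, b, lt_of_le_of_ne (fun _ _ => trivial) fun hab => ?_⟩
    have hab' : closure {(⟨x₀, hx₀.2⟩ : Z)} = Set.univ := congrArg (fun C : IrreducibleCloseds Z => (C : Set Z)) hab
    apply hx₀gen
    have h1 : closure {(⟨x₀, hx₀.2⟩ : Z)} = Subtype.val ⁻¹' closure {x₀} := by
      rw [Topology.IsInducing.subtypeVal.closure_eq_preimage_closure_image, Set.image_singleton]
    rw [h1, hx₀cl] at hab'
    apply Set.Subset.antisymm (hZc.closure_subset_iff.2 (Set.singleton_subset_iff.2 hx₀.2))
    intro z hz
    have : (⟨z, hz⟩ : Z) ∈ Subtype.val ⁻¹' {x₀} := hab' ▸ trivial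
    have hz' : z = x₀ := this
    exact hz' ▸ subset_closure rfl
  obtain ⟨_, ⟨a, ha, rfl⟩, _, ⟨b, hb, rfl⟩, hab⟩ := h Z hZ hdimZ
  exact hab ((hsub ha : f a = y).trans (hsub hb : f b = y).symm)

end Top

end Groth.Agent.Helper1.CurveFin

namespace Groth.Agent.Helper1.CurveFin

theorem isFinite_of_curve (k : Type u) [Field k] (X Y : Scheme.{u})
    (p : X ⟶ Spec (CommRingCat.of k)) (q : Y ⟶ Spec (CommRingCat.of k))
    [IsProper p] [IsSeparated q] (f : X ⟶ Y) (hf : f ≫ q = p) (hdim : topologicalKrullDim X ≤ 1)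
    (h : ∀ Z ∈ irreducibleComponents (X : Type u), topologicalKrullDim Z = 1 →
      (f.base '' Z).Nontrivial) :
    IsFinite f := by
  haveI : IsProper (f ≫ q) := hf ▸ inferInstance
  haveI : IsProper f := IsProper.of_comp f q
  haveI : IsLocallyNoetherian X := LocallyOfFiniteType.isLocallyNoetherian p
  haveI : CompactSpace X := QuasiCompact.compactSpace_of_compactSpace p
  haveI : IsNoetherian X := {}
  haveI : LocallyQuasiFinite f := LocallyQuasiFinite.of_finite_preimage_singleton (f := f) fun y =>
    finite_preimage_singleton_of_dim_le_one hdim f f.continuous f.isClosedMap h y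
  exact IsFinite.of_isProper_of_locallyQuasiFinite f

end Groth.Agent.Helper1.CurveFin
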