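import Mathlib
import Groth.Agent.Lib.Helper1.CurveFin1

set_option autoImplicit false
universe u
open CategoryTheory CategoryTheory.Limits AlgebraicGeometry TopologicalSpace Opposite

namespace Groth.Agent.Helper1.CurveFlat

theorem coheight_le_topologicalKrullDim {Y : Scheme.{u}} (y : Y) :
    (Order.coheight y : WithBot ℕ∞) ≤ topologicalKrullDim Y := by
  letI := specializationOrder Y
  have h1 := Order.coheight_orderIso (irreducibleSetEquivPoints (α := Y)).symm y
  have h2 := Order.coheight_le_krullDim ((irreducibleSetEquivPoints (α := Y)).symm y)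
  rw [h1] at h2
  exact h2

/-- stalk maps of a dominant quasi-compact morphism from an integral scheme to a reduced scheme
are injective -/
theorem stalkMap_injective_of_isDominant {X Y : Scheme.{u}} [IsIntegral X] [IsReduced Y]
    (f : X ⟶ Y) [IsDominant f] [QuasiCompact f] (x : X) :
    Function.Injective (f.stalkMap x).hom := by
  haveI : IsSchemeTheoreticallyDominant f := .of_isDominant f
  rw [injective_iff_map_eq_zero]
  intro s hs
  obtain ⟨V, hxV, t, rfl⟩ := Y.presheaf.exists_germ_eq s
  have h1 : X.presheaf.germ (f ⁻¹ᵁ V) x hxV (f.app V t) = 0 := by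
    rw [← Scheme.Hom.germ_stalkMap_apply]
    exact hs
  have h2 : f.app V t = 0 :=
    (injective_iff_map_eq_zero _).1 (germ_injective_of_isIntegral X x hxV) _ h1
  have h3 : t = 0 := (injective_iff_map_eq_zero _).1 (f.app_injective V) _ h2
  rw [h3, map_zero]

/-- in an irreducible sober T0 space of dimension `≤ 1`, a subset with two points is dense
if its closure is irreducible -/
theorem dense_of_nontrivial {T : Type*} [TopologicalSpace T] [T0Space T] [QuasiSober T]
    [IrreducibleSpace T] (hdim : topologicalKrullDim T ≤ 1) {S : Set T} (hS : IsIrreducible S)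
    (hnt : S.Nontrivial) : Dense S := by
  rw [dense_iff_closure_eq]
  by_contra hne
  obtain ⟨c, hc⟩ := QuasiSober.sober hS.closure isClosed_closure
  have hcl : closure {c} = closure S := hc.def
  have := CurveFin.closure_singleton_of_ne hdim (Z := Set.univ) (irreducibleSpace_def T |>.1 inferInstance)
    isClosed_univ (Set.mem_univ c) (hcl ▸ hne)
  rw [this] at hcl
  obtain ⟨a, ha, b, hb, hab⟩ := hnt
  have ha' : a ∈ ({c} : Set T) := hcl ▸ subset_closure ha
  have hb' : b ∈ ({c} : Set T) := hcl ▸ subset_closure hb
  exact hab (ha'.trans hb'.symm)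

theorem flat_of_curves (k : Type u) [Field k] (X Y : Scheme.{u})
    (p : X ⟶ Spec (CommRingCat.of k)) (q : Y ⟶ Spec (CommRingCat.of k))
    [IsIntegral X] [IsIntegral Y] [IsSeparated q] [LocallyOfFiniteType q]
    [QuasiCompact p] (hY : topologicalKrullDim Y = 1)
    (hN : ∀ y : Y, IsDomain (Y.presheaf.stalk y) ∧ IsIntegrallyClosed (Y.presheaf.stalk y))
    (f : X ⟶ Y) (hf : f ≫ q = p) (hnc : (Set.range f.base).Nontrivial) :
    Flat f := by
  haveI : QuasiCompact (f ≫ q) := hf ▸ inferInstance
  haveI : QuasiCompact f := QuasiCompact.of_comp f q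
  haveI : IsDominant f := by
    rw [isDominant_iff]
    exact dense_of_nontrivial hY.le (Set.image_univ ▸ (irreducibleSpace_def X |>.1 inferInstance).image f
      f.continuous.continuousOn) hnc
  haveI : IsLocallyNoetherian Y := LocallyOfFiniteType.isLocallyNoetherian q
  rw [Flat.iff_flat_stalkMap]
  intro x
  have hinj := stalkMap_injective_of_isDominant f x
  haveI := (hN (f x)).1
  haveI := (hN (f x)).2
  haveI : Ring.KrullDimLE 1 (Y.presheaf.stalk (f x)) := by
    apply krullDimLE_of_coheight_le
    have := coheight_le_topologicalKrullDim (f x)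
    rw [hY] at this
    exact_mod_cast this
  haveI : Ring.DimensionLEOne (Y.presheaf.stalk (f x)) :=
    ⟨fun hp hp' => Ring.krullDimLE_one_iff_of_noZeroDivisors.1 inferInstance _ hp hp'⟩
  haveI : IsDedekindDomain (Y.presheaf.stalk (f x)) := {}
  letI := (f.stalkMap x).hom.toAlgebra
  haveI : Module.IsTorsionFree (Y.presheaf.stalk (f x)) (X.presheaf.stalk x) := by
    apply Module.IsTorsionFree.of_smul_eq_zero
    intro r m hrm
    rw [Algebra.smul_def] at hrm
    rcases mul_eq_zero.1 hrm with h | h
    · left
      exact (injective_iff_map_eq_zero _).1 hinj r h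
    · right; exact h
  show Module.Flat (Y.presheaf.stalk (f x)) (X.presheaf.stalk x)
  infer_instance

end Groth.Agent.Helper1.CurveFlat
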