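import Mathlib
import Groth.Prelude.Def_Coh
import Groth.Prelude.Def_FlatMod2
import Groth.Agent.Lib.Helper1.CurveFlat1
import Groth.Agent.Lib.Lead.FLF4
import Groth.Agent.Lib.Lead.FLF6
import Groth.Agent.Lib.Helper1.FtLocal
import Groth.Agent.Lib.Helper1.FinLen9

/-!
# Vector bundles on regular curves: submodules of locally free modules (helper1)
-/

set_option autoImplicit false
universe u
open CategoryTheory CategoryTheory.Limits AlgebraicGeometry TopologicalSpace Opposite
open scoped TensorProduct

namespace Groth.Agent.Helper1.VB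

section Algebra

/-- over a noetherian domain whose localizations at maximal ideals are valuation rings,
a submodule of a finite projective module is finite projective -/
theorem finite_projective_of_injective {A : Type u} [CommRing A] [IsDomain A] [IsNoetherianRing A]
    (hA : ∀ (P : Ideal A), [P.IsMaximal] → ValuationRing (Localization P.primeCompl))
    {M N : Type u} [AddCommGroup M] [Module A M] [AddCommGroup N] [Module A N]
    [Module.Finite A N] [Module.Projective A N] (f : M →ₗ[A] N) (hf : Function.Injective f) :
    Module.Finite A M ∧ Module.Projective A M := by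
  haveI : Module.Finite A M := Module.Finite.of_injective f hf
  refine ⟨inferInstance, ?_⟩
  have hN : Submodule.torsion A N = ⊥ := Module.Flat.torsion_eq_bot
  have hM : Submodule.torsion A M = ⊥ := by
    rw [eq_bot_iff]
    intro x hx
    rw [Submodule.mem_torsion_iff] at hx
    obtain ⟨a, ha⟩ := hx
    have h1 : f x ∈ Submodule.torsion A N := by
      rw [Submodule.mem_torsion_iff]
      refine ⟨a, ?_⟩
      have ha' : (a : A) • x = 0 := ha
      change (a : A) • f x = 0
      rw [← map_smul, ha', map_zero]
    rw [hN, Submodule.mem_bot] at h1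
    rw [Submodule.mem_bot]
    exact hf (h1.trans (map_zero f).symm)
  haveI : Module.Flat A M :=
    (Module.Flat.flat_iff_torsion_eq_bot_of_valuationRing_localization_isMaximal hA).2 hM
  haveI : Module.FinitePresentation A M := Module.finitePresentation_of_finite A M
  exact Module.Flat.projective_of_finitePresentation

/-- valuation rings transfer along ring equivalences -/
theorem valuationRing_of_ringEquiv {R S : Type*} [CommRing R] [IsDomain R] [CommRing S] [IsDomain S]
    [ValuationRing S] (e : R ≃+* S) : ValuationRing R := by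
  refine { cond' := fun a b => ?_ }
  obtain ⟨c, hc⟩ := ValuationRing.cond (e a) (e b)
  refine ⟨e.symm c, ?_⟩
  rcases hc with hc | hc
  · left
    apply e.injective
    rw [map_mul, e.apply_symm_apply, hc]
  · right
    apply e.injective
    rw [map_mul, e.apply_symm_apply, hc]

end Algebra

section Geometry

variable {X : Scheme.{u}}

theorem valuationRing_localization [IsIntegral X]
    (hX : ∀ x : X, ValuationRing (X.presheaf.stalk x)) {U : X.Opens} (hU : IsAffineOpen U)
    [Nonempty U] (P : Ideal Γ(X, U)) [hP : P.IsMaximal] :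
    ValuationRing (Localization P.primeCompl) := by
  let y : PrimeSpectrum Γ(X, U) := ⟨P, hP.isPrime⟩
  have hy : hU.fromSpec y ∈ U := by
    have : hU.fromSpec y ∈ Set.range hU.fromSpec := ⟨y, rfl⟩
    rw [hU.range_fromSpec] at this
    exact this
  letI : Algebra Γ(X, U) (X.presheaf.stalk (hU.fromSpec y)) :=
    TopCat.Presheaf.algebra_section_stalk X.presheaf ⟨hU.fromSpec y, hy⟩
  haveI : IsLocalization.AtPrime (X.presheaf.stalk (hU.fromSpec y)) P :=
    hU.isLocalization_stalk' y hy
  haveI := hX (hU.fromSpec y)
  haveI : IsDomain (Localization P.primeCompl) :=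
    IsLocalization.isDomain_localization P.primeCompl_le_nonZeroDivisors
  exact valuationRing_of_ringEquiv
    (IsLocalization.algEquiv P.primeCompl (Localization P.primeCompl)
      (X.presheaf.stalk (hU.fromSpec y))).toRingEquiv

open Groth.Agent.Lead.FLF in
/-- on an integral locally noetherian scheme whose local rings are valuation rings, a
quasi-coherent submodule of a finite locally free module is finite locally free -/
theorem isFinLocFree_of_mono [IsIntegral X] [IsLocallyNoetherian X]
    (hX : ∀ x : X, ValuationRing (X.presheaf.stalk x)) {G F : X.Modules} [G.IsQuasicoherent]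
    (hF : FlatMod.IsFinLocFree F) (i : G ⟶ F) [Mono i] : FlatMod.IsFinLocFree G := by
  haveI : F.IsQuasicoherent := isQuasicoherent_of_isFinLocFree F hF
  rw [isFinLocFree_iff_affineOpens]
  intro U hU
  obtain ⟨h1, h2⟩ := (isFinLocFree_iff_affineOpens F).1 hF U hU
  by_cases hne : Nonempty U
  · haveI := hne
    haveI : IsNoetherianRing Γ(X, U) := IsLocallyNoetherian.component_noetherian ⟨U, hU⟩
    haveI : Module.Finite Γ(X, U) ↑(F.val.obj (op U)) := h1
    haveI : Module.Projective Γ(X, U) ↑(F.val.obj (op U)) := h2
    have r := finite_projective_of_injective (fun P _ => valuationRing_localization hX hU P)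
      (i.val.app (.op U)).hom (FtLocal.app_injective_of_mono i U)
    exact ⟨r.1, r.2⟩
  · haveI : Subsingleton Γ(X, U) := by
      have hU0 : U = ⊥ := by
        ext x
        simp only [Opens.coe_bot, Set.mem_empty_iff_false, iff_false]
        exact fun hx => hne ⟨⟨x, hx⟩⟩
      subst hU0
      exact CommRingCat.subsingleton_of_isTerminal (X.sheaf.isTerminalOfEqEmpty rfl)
    haveI : Subsingleton Γ(G, U) := Module.subsingleton Γ(X, U) _
    exact ⟨inferInstance, inferInstance⟩

section Rank

open Groth.Agent.Lead Groth.Agent.Helper1.Dv Groth.Agent.Lib.Helper5.StalkAdj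
  Groth.Agent.Lib.Helper5.StalkFree Groth.Agent.Lib.Helper5.StalkTenS Groth.Agent.Helper1.FinLen

/-- the rank of a stalk, read off from a local trivialization -/
theorem finrank_stalk_of_triv (E : X.Modules) (hE : FlatMod.IsFinLocFree E) (U : X.Opens) (n : ℕ)
    (i : E.restrict U.ι ≅ FlatMod.freeMod (↑U) n) (x : X) (hxU : x ∈ U) :
    Module.finrank (X.presheaf.stalk x) ((stalkSh X x).obj E) = n := by
  let x' : (U : Scheme.{u}) := ⟨x, hxU⟩
  have e1 := ((stalkSh (U : Scheme.{u}) x').mapIso i ≪≫
    stalkFreeIso (U : Scheme.{u}) x' n).toLinearEquiv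
  have e2 : (stalkSh (U : Scheme.{u}) x').obj (E.restrict U.ι) ≅
      (ModuleCat.extendScalars.{u, u, u} (U.ι.stalkMap x').hom).obj
        ((stalkSh X (U.ι x')).obj E) :=
    (stalkSh (U : Scheme.{u}) x').mapIso ((Scheme.Modules.restrictFunctorIsoPullback U.ι).app E) ≪≫
      (stalkPullbackIso U.ι x').app E
  have hff := free_finite_stalk_of_isFinLocFree E hE x
  haveI : Module.Free (X.presheaf.stalk (U.ι x')) ((stalkSh X (U.ι x')).obj E) := hff.1
  haveI : Module.Finite (X.presheaf.stalk (U.ι x')) ((stalkSh X (U.ι x')).obj E) := hff.2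
  letI : Algebra (X.presheaf.stalk (U.ι x')) ((U : Scheme.{u}).presheaf.stalk x') :=
    (U.ι.stalkMap x').hom.toAlgebra
  have e3 : ((U : Scheme.{u}).presheaf.stalk x' ⊗[X.presheaf.stalk (U.ι x')]
      ((stalkSh X (U.ι x')).obj E)) ≃ₗ[(U : Scheme.{u}).presheaf.stalk x']
      (Fin n → (U : Scheme.{u}).presheaf.stalk x') := e2.toLinearEquiv.symm ≪≫ₗ e1
  have h1 := e3.finrank_eq
  rw [Module.finrank_fin_fun, Module.finrank_baseChange] at h1
  exact h1

/-- on an irreducible scheme a finite locally free module has constant rank -/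
theorem exists_rank [IrreducibleSpace X] (E : X.Modules) (hE : FlatMod.IsFinLocFree E) :
    ∃ r : ℕ, FlatMod.IsFinLocFreeOfRank r E := by
  refine ⟨Module.finrank (X.presheaf.stalk (genericPoint X)) ((stalkSh X (genericPoint X)).obj E),
    fun x => ?_⟩
  obtain ⟨U, n, hxU, ⟨e⟩⟩ := hE x
  have hη : genericPoint X ∈ U :=
    ((genericPoint_spec X).mem_open_set_iff U.isOpen).2 ⟨x, Set.mem_univ _, hxU⟩
  have h := finrank_stalk_of_triv E hE U n e (genericPoint X) hη
  rw [h]
  exact ⟨U, hxU, ⟨e⟩⟩

end Rank

end Geometry

end Groth.Agent.Helper1.VB
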