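import Mathlib
import Groth.Prelude.Def_KRR
import Groth.Agent.Lib.Helper1.NilK0A
import Groth.Agent.Lib.Helper1.AmpleLib3
import Groth.Agent.Lib.Helper1.AmpleQuot
import Groth.Agent.Lib.Helper1.VB1
import Groth.Agent.Lib.Helper1.Dv15
import Groth.Agent.Lib.Helper5.Perf.StalkFree
import Groth.Agent.Lib.Helper1.InvInv2
import Groth.Agent.Lib.Helper5.Perf.KerFLF
import Groth.Agent.Lib.Helper5.Perf.LocalCoh
import Groth.Agent.Lib.Helper5.LTen.Flf
import Groth.Agent.Lib.Helper5.Perf.RpushOpen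

/-!
# An ample invertible module gives an ample line element of K(X) (helper1, S3743)
-/

set_option backward.isDefEq.respectTransparency.types false
set_option synthInstance.maxHeartbeats 400000
set_option maxHeartbeats 1000000
set_option autoImplicit false
set_option linter.style.haveILetI false
set_option linter.unusedSectionVars false
set_option linter.unusedVariables false

universe v u
open CategoryTheory CategoryTheory.Limits AlgebraicGeometry TopologicalSpace Opposite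
open Groth.Agent.Helper1 Groth.Agent.Lib.Helper5.StalkAdj

namespace Groth.Agent.Helper1.AmpElt

section Abstract
variable {C : Type*} [Category C]

theorem nonempty_sigmaSuccIso [Preadditive C] [HasBinaryBiproducts C] [HasFiniteCoproducts C]
    (F : C) (r : ℕ) :
    Nonempty ((∐ fun _ : Fin (r + 1) => F) ≅ F ⊞ (∐ fun _ : Fin r => F)) := by
  let f : Fin (r + 1) → C := fun _ => F
  let c₁ : Cofan (fun i : Fin r => f i.succ) :=
    Cofan.mk (∐ fun _ : Fin r => F) (Sigma.ι (fun _ : Fin r => F))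
  have t₁ : IsColimit c₁ := coproductIsCoproduct (fun _ : Fin r => F)
  let c₂ : BinaryCofan (f 0) c₁.pt :=
    BinaryCofan.mk (coprod.inl : F ⟶ F ⨿ (∐ fun _ : Fin r => F)) coprod.inr
  have t₂ : IsColimit c₂ := coprodIsCoprod F (∐ fun _ : Fin r => F)
  have t := extendCofanIsColimit f t₁ t₂
  have e1 : (∐ fun _ : Fin (r + 1) => F) ≅ F ⨿ (∐ fun _ : Fin r => F) :=
    (coproductIsCoproduct f).coconePointUniqueUpToIso t
  exact ⟨e1 ≪≫ (biprod.isoCoprod F _).symm⟩

theorem isZero_sigma_fin_zero [HasZeroMorphisms C] [HasFiniteCoproducts C] (F : C) :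
    IsZero (∐ fun _ : Fin 0 => F) := by
  rw [IsZero.iff_id_eq_zero]
  apply Sigma.hom_ext
  intro i
  exact i.elim0

end Abstract

section Lam
variable {K : Type v} [CommRing K] [LambdaRing.LambdaOps K]

/-- the property in the definition of an ample line element -/
def Q (P : LambdaRing.PosStructure K) (u x : K) : Prop :=
  ∃ n₀ : ℕ, ∀ n : ℕ, n₀ ≤ n → ∃ (e : K) (m : ℕ), e ∈ P.pos ∧ u ^ n * x = e - m

theorem one_mem_pos (P : LambdaRing.PosStructure K) : (1 : K) ∈ P.pos := by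
  have h := P.natCast_mem 1 Nat.one_pos
  rwa [Nat.cast_one] at h

theorem Q_zero (P : LambdaRing.PosStructure K) (u : K) : Q P u 0 :=
  ⟨0, fun n _ => ⟨1, 1, one_mem_pos P, by rw [mul_zero, Nat.cast_one, sub_self]⟩⟩

theorem Q_add {P : LambdaRing.PosStructure K} {u x y : K} (hx : Q P u x) (hy : Q P u y) :
    Q P u (x + y) := by
  obtain ⟨n₁, h₁⟩ := hx
  obtain ⟨n₂, h₂⟩ := hy
  refine ⟨max n₁ n₂, fun n hn => ?_⟩
  obtain ⟨e₁, m₁, he₁, h1⟩ := h₁ n (le_trans (le_max_left _ _) hn)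
  obtain ⟨e₂, m₂, he₂, h2⟩ := h₂ n (le_trans (le_max_right _ _) hn)
  refine ⟨e₁ + e₂, m₁ + m₂, P.add_mem _ _ he₁ he₂, ?_⟩
  rw [mul_add, h1, h2]
  push_cast
  ring

end Lam

variable {X : Scheme.{u}}

theorem cl_zero (M : X.Modules) (hM : IsZero M) : KRR.cl X M = 0 := by
  have hc : FlatMod.IsFinLocFree M :=
    Groth.Agent.Lib.Helper5.RpushOpen.isFinLocFree_of_isZero M hM
  have h := NilK0.clSub_ses (KRR.vbP X) _ (NilK0.shortExact_id_zero M M hM) hc hc hc
  change KRR.cl X M = KRR.cl X M + KRR.cl X M at h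
  exact left_eq_add.1 h

theorem cl_iso {M N : X.Modules} (e : M ≅ N) (hM : FlatMod.IsFinLocFree M) :
    KRR.cl X M = KRR.cl X N := by
  have hN : FlatMod.IsFinLocFree N := Groth.Agent.Lead.FLF.isFinLocFree_of_iso e hM
  obtain ⟨O, hO⟩ := HasZeroObject.zero (C := X.Modules)
  have h := NilK0.clSub_ses (KRR.vbP X) _ (NilK0.shortExact_iso_zero e O hO) hM hN
    (Groth.Agent.Lib.Helper5.RpushOpen.isFinLocFree_of_isZero O hO)
  change KRR.cl X N = KRR.cl X M + KRR.cl X O at h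
  rw [h, cl_zero O hO, add_zero]

theorem cl_biprod {A B : X.Modules} (hA : FlatMod.IsFinLocFree A) (hB : FlatMod.IsFinLocFree B) :
    FlatMod.IsFinLocFree (A ⊞ B) ∧ KRR.cl X (A ⊞ B) = KRR.cl X A + KRR.cl X B := by
  have hS := (ShortComplex.Splitting.ofHasBinaryBiproduct A B).shortExact
  have hc : FlatMod.IsFinLocFree (A ⊞ B) :=
    Groth.Agent.Lib.Helper5.ConePerf.isFinLocFree_biprod A B hA hB
  exact ⟨hc, NilK0.clSub_ses (KRR.vbP X) _ hS hA hc hB⟩

theorem cl_coprod (F : X.Modules) (hF : FlatMod.IsFinLocFree F) (r : ℕ) :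
    FlatMod.IsFinLocFree (∐ fun _ : Fin r => F) ∧
      KRR.cl X (∐ fun _ : Fin r => F) = r • KRR.cl X F := by
  induction r with
  | zero =>
    have hz : IsZero (∐ fun _ : Fin 0 => F) := isZero_sigma_fin_zero F
    refine ⟨Groth.Agent.Lib.Helper5.RpushOpen.isFinLocFree_of_isZero _ hz, ?_⟩
    rw [cl_zero _ hz, zero_smul]
  | succ r ih =>
    obtain ⟨hc, hk⟩ := ih
    obtain ⟨e⟩ := nonempty_sigmaSuccIso F r
    obtain ⟨hc', hk'⟩ := cl_biprod hF hc
    have hc'' := Groth.Agent.Lead.FLF.isFinLocFree_of_iso e.symm hc'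
    refine ⟨hc'', ?_⟩
    rw [cl_iso e hc'', hk', hk, succ_nsmul, add_comm]

theorem isFinLocFreeOfRank_one {L : X.Modules} (hL : PicF.IsInvertible L) :
    FlatMod.IsFinLocFreeOfRank 1 L := by
  intro x
  obtain ⟨U, hxU, ⟨e⟩⟩ := hL x
  exact ⟨U, hxU,
    ⟨e ≪≫ (coproductUniqueIso (fun _ : Fin 1 => Coh.structureModule (↑U))).symm⟩⟩

/-- a locally free module of rank zero is zero -/
theorem isZero_of_rank_zero {G : X.Modules} (hG : FlatMod.IsFinLocFreeOfRank 0 G) : IsZero G := by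
  apply Dv.isZero_of_support_subset_empty
  intro x hx
  apply hx
  have hff := Groth.Agent.Lib.Helper5.StalkFree.free_finite_stalk_of_isFinLocFree G
    (FinLen.isFinLocFree_of_rank hG) x
  haveI : Module.Free (X.presheaf.stalk x) (G.presheaf.stalk x) := hff.1
  haveI : Module.Finite (X.presheaf.stalk x) (G.presheaf.stalk x) := hff.2
  have h0 : Module.finrank (X.presheaf.stalk x) (G.presheaf.stalk x) = 0 :=
    FinLen.finrank_stalk_of_rank hG x
  exact (Module.finrank_eq_zero_iff_of_free (X.presheaf.stalk x) _).1 h0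

/-- on a connected scheme a finite locally free module has constant rank -/
theorem exists_rank [ConnectedSpace X] (E : X.Modules) (hE : FlatMod.IsFinLocFree E) :
    ∃ r : ℕ, FlatMod.IsFinLocFreeOfRank r E := by
  obtain ⟨ρ, hρdef⟩ : ∃ ρ : X → ℕ, ρ = fun x =>
      Module.finrank (X.presheaf.stalk x) ((stalkSh X x).obj E) := ⟨_, rfl⟩
  have hρ : ∀ (U : X.Opens) (n : ℕ), (E.restrict U.ι ≅ FlatMod.freeMod (↑U) n) →
      ∀ x ∈ U, ρ x = n := by
    intro U n e x hx
    rw [hρdef]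
    exact VB.finrank_stalk_of_triv E hE U n e x hx
  have hlc : IsLocallyConstant ρ := by
    rw [IsLocallyConstant.iff_exists_open]
    intro x
    obtain ⟨U, n, hxU, ⟨e⟩⟩ := hE x
    exact ⟨(U : Set X), U.isOpen, hxU, fun y hy => by rw [hρ U n e y hy, hρ U n e x hxU]⟩
  obtain ⟨x₀⟩ : Nonempty X := inferInstance
  refine ⟨ρ x₀, fun x => ?_⟩
  obtain ⟨U, n, hxU, ⟨e⟩⟩ := hE x
  have hn : n = ρ x₀ := by
    rw [← hρ U n e x hxU]
    exact hlc.apply_eq_of_preconnectedSpace x x₀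
  subst hn
  exact ⟨U, hxU, ⟨e⟩⟩

section Model
variable {K : Type v} [CommRing K] [LambdaRing.LambdaOps K] {P : LambdaRing.PosStructure K}
  {φ : SGA6.Kvb X →+ K}

theorem map_tensorMod (hK : KRR.IsModel X K P φ) {E F : X.Modules}
    (hE : FlatMod.IsFinLocFree E) (hF : FlatMod.IsFinLocFree F) :
    FlatMod.IsFinLocFree (CohB1.tensorMod E F) ∧
      φ (KRR.cl X (CohB1.tensorMod E F)) = φ (KRR.cl X E) * φ (KRR.cl X F) := by
  have e : CohB1.tensorMod E F ≅ (DCoh.tensorBi.obj E).obj F := Iso.refl _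
  have h1 : FlatMod.IsFinLocFree ((DCoh.tensorBi.obj E).obj F) :=
    Groth.Agent.Lib.Helper5.LTenFlf.isFinLocFree_tensor E F hE hF
  have h2 := Groth.Agent.Lead.FLF.isFinLocFree_of_iso e.symm h1
  exact ⟨h2, by rw [cl_iso e h2, hK.map_mul E F hE hF]⟩

theorem map_tensorPow (hK : KRR.IsModel X K P φ) {L : X.Modules} (hL : PicF.IsInvertible L)
    (n : ℕ) : φ (KRR.cl X (CohB1.tensorPow L n)) = φ (KRR.cl X L) ^ n := by
  induction n with
  | zero =>
    rw [pow_zero]
    exact hK.map_one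
  | succ n ih =>
    have h := (map_tensorMod hK
      (InvInv2.isFinLocFree_of_isInvertible (TwForm.isInvertible_tensorPow hL n))
      (InvInv2.isFinLocFree_of_isInvertible hL)).2
    change φ (KRR.cl X (CohB1.tensorMod (CohB1.tensorPow L n) L)) = _
    rw [h, ih, pow_succ]

theorem pos_or_zero [ConnectedSpace X] (hK : KRR.IsModel X K P φ) (M : X.Modules)
    (hM : FlatMod.IsFinLocFree M) : φ (KRR.cl X M) ∈ P.pos ∨ KRR.cl X M = 0 := by
  obtain ⟨r, hr⟩ := exists_rank M hM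
  rcases Nat.eq_zero_or_pos r with h0 | hpos
  · subst h0
    exact Or.inr (cl_zero M (isZero_of_rank_zero hr))
  · exact Or.inl ((hK.mem_pos_iff _).2 ⟨r, M, hpos, hr, rfl⟩)

theorem exists_pos_sub [ConnectedSpace X] (hK : KRR.IsModel X K P φ) (M : X.Modules)
    (hM : FlatMod.IsFinLocFree M) (m : ℕ) :
    ∃ (e : K) (m' : ℕ), e ∈ P.pos ∧ φ (KRR.cl X M) - (m : K) = e - (m' : K) := by
  rcases pos_or_zero hK M hM with h | h
  · exact ⟨_, m, h, rfl⟩
  · refine ⟨1, m + 1, one_mem_pos P, ?_⟩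
    rw [h, map_zero]
    push_cast
    ring

theorem Q_cl [ConnectedSpace X] (hK : KRR.IsModel X K P φ) {L : X.Modules}
    (hL : PicF.IsInvertible L) (E : X.Modules) (hE : FlatMod.IsFinLocFree E) :
    Q P (φ (KRR.cl X L)) (φ (KRR.cl X E)) := by
  refine ⟨0, fun n _ => ?_⟩
  have hLn := InvInv2.isFinLocFree_of_isInvertible (TwForm.isInvertible_tensorPow hL n)
  obtain ⟨h1, h2⟩ := map_tensorMod hK hE hLn
  obtain ⟨e, m, he, hem⟩ := exists_pos_sub hK _ h1 0
  refine ⟨e, m, he, ?_⟩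
  rw [← hem, ← map_tensorPow hK hL n, mul_comm, ← h2, Nat.cast_zero, sub_zero]

theorem Q_neg_cl [IsNoetherian X] [ConnectedSpace X] (hK : KRR.IsModel X K P φ) {L : X.Modules}
    (hL : CohB1.IsAmple L) (F : X.Modules) (hF : FlatMod.IsFinLocFree F) :
    Q P (φ (KRR.cl X L)) (-φ (KRR.cl X F)) := by
  haveI : CompactSpace X := hL.2.1
  have hFc : Coh.IsCoh F := Groth.Agent.Lib.Helper5.LocalCoh.isCoh_of_isFinLocFree F hF
  obtain ⟨n₀, hn₀⟩ := AmpleLib.eventually_globallyGenerated hL F hFc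
  refine ⟨n₀, fun n hn => ?_⟩
  have hLn := InvInv2.isFinLocFree_of_isInvertible (TwForm.isInvertible_tensorPow hL.1 n)
  obtain ⟨h1, h2⟩ := map_tensorMod hK hF hLn
  have hMc : Coh.IsCoh (CohB1.tensorMod F (CohB1.tensorPow L n)) :=
    Groth.Agent.Lib.Helper5.LocalCoh.isCoh_of_isFinLocFree _ h1
  have hloc := TwForm.locFrame_of_isInvertible hL.1 hL.1
  obtain ⟨r, ψ, hψ⟩ := AmpleQuot.exists_epi hloc
    (TwForm.Tw.self L L (CohB1.tensorMod F (CohB1.tensorPow L n)))
    (TwForm.Tw.self L L (Coh.structureModule X)) hMc (hn₀ n hn)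
  haveI : Epi ψ := hψ
  have hO : FlatMod.IsFinLocFree (Coh.structureModule X) :=
    InvInv2.isFinLocFree_of_isInvertible (TwForm.isInvertible_tensorPow hL.1 0)
  obtain ⟨hfree, hclfree⟩ := cl_coprod (Coh.structureModule X) hO r
  have hker : FlatMod.IsFinLocFree (kernel ψ) :=
    Groth.Agent.Lib.Helper5.KerFLF.isFinLocFree_kernel ψ hfree h1
  have hS : (ShortComplex.mk (kernel.ι ψ) ψ (kernel.condition ψ)).ShortExact :=
    ShortComplex.ShortExact.mk' (ShortComplex.exact_kernel ψ) inferInstance hψ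
  have hcl := NilK0.clSub_ses (KRR.vbP X) _ hS hker hfree h1
  change KRR.cl X (∐ fun _ : Fin r => Coh.structureModule X) =
    KRR.cl X (kernel ψ) + KRR.cl X (CohB1.tensorMod F (CohB1.tensorPow L n)) at hcl
  obtain ⟨e, m, he, hem⟩ := exists_pos_sub hK (kernel ψ) hker r
  refine ⟨e, m, he, ?_⟩
  have h3 : φ (KRR.cl X (∐ fun _ : Fin r => Coh.structureModule X)) = (r : K) := by
    rw [hclfree, map_nsmul, hK.map_one, nsmul_eq_mul, mul_one]
  have h4 := congrArg φ hcl
  rw [map_add, h3] at h4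
  rw [← hem, ← map_tensorPow hK hL.1 n, mul_neg, mul_comm, ← h2]
  linear_combination h4

/-- **S3743** -/
theorem main_ampElt [IsNoetherian X] [ConnectedSpace X] (hK : KRR.IsModel X K P φ)
    (L : X.Modules) (hL : CohB1.IsAmple L) : KRR.IsAmpleElt P (φ (KRR.cl X L)) := by
  have hLr : FlatMod.IsFinLocFreeOfRank 1 L := isFinLocFreeOfRank_one hL.1
  have haug : P.aug (φ (KRR.cl X L)) = 1 := by
    have h := hK.aug_cl 1 L hLr
    rw [h, Nat.cast_one]
  refine ⟨⟨(hK.mem_pos_iff _).2 ⟨1, L, le_rfl, hLr, rfl⟩, haug⟩, ?_⟩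
  intro x
  change Q P (φ (KRR.cl X L)) x
  obtain ⟨z, rfl⟩ := hK.bijective.2 x
  obtain ⟨c, rfl⟩ := QuotientAddGroup.mk_surjective z
  induction c using FreeAbelianGroup.induction_on with
  | zero =>
    rw [QuotientAddGroup.mk_zero, map_zero]
    exact Q_zero P _
  | of M =>
    obtain ⟨M, hM⟩ := M
    rw [← NilK0.clSub_of (KRR.vbP X) M hM]
    exact Q_cl hK hL.1 M hM
  | neg M _ =>
    obtain ⟨M, hM⟩ := M
    rw [QuotientAddGroup.mk_neg, map_neg, ← NilK0.clSub_of (KRR.vbP X) M hM]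
    exact Q_neg_cl hK hL M hM
  | add a b iha ihb =>
    rw [QuotientAddGroup.mk_add, map_add]
    exact Q_add iha ihb

end Model

end Groth.Agent.Helper1.AmpElt
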