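import Mathlib
import Groth.Prelude.Def_KRR
import Groth.Agent.Lib.Helper3.LambdaA

/-!
# In a λ-ring with an ample line element the augmentation ideal is nil (helper1, S8665)

The proof: if `e`, `f` are positive with `e + f = m + m'` (`m = ε e`, `m' = ε f`), then
`λ_t(e) λ_t(f) = (1+t)^(m+m')` with both factors polynomials of degrees `≤ m`, `≤ m'`;
substituting `t = s/(1-s)` and clearing denominators gives polynomials in `s` with product `1`,
so the coefficient `e - m` of `s` is nilpotent.
-/

set_option backward.isDefEq.respectTransparency.types false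
set_option synthInstance.maxHeartbeats 400000
set_option maxHeartbeats 1000000
set_option autoImplicit false
set_option linter.unusedSectionVars false
set_option linter.unusedVariables false

universe u
open LambdaRing
open Groth.Agent.Helper3.LambdaLib

namespace Groth.Agent.Helper1.LamNil

section PS
variable (K : Type u) [CommRing K]

/-- `τ = X/(1-X)` -/
noncomputable def tau : PowerSeries K := PowerSeries.X * PowerSeries.mk 1

theorem one_sub_X_mul_tau : (1 - PowerSeries.X) * tau K = PowerSeries.X := by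
  unfold tau
  rw [mul_comm, mul_assoc, PowerSeries.mk_one_mul_one_sub_eq_one, mul_one]

theorem one_sub_X_mul_one_add_tau : (1 - PowerSeries.X) * (1 + tau K) = 1 := by
  rw [mul_add, mul_one, one_sub_X_mul_tau, sub_add_cancel]

theorem coeff_zero_one_sub_X_pow (k : ℕ) :
    ((1 - Polynomial.X : Polynomial K) ^ k).coeff 0 = 1 := by
  rw [Polynomial.coeff_zero_eq_eval_zero, Polynomial.eval_pow, Polynomial.eval_sub,
    Polynomial.eval_one, Polynomial.eval_X, sub_zero, one_pow]

theorem coeff_one_one_sub_X_pow (k : ℕ) :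
    ((1 - Polynomial.X : Polynomial K) ^ k).coeff 1 = -(k : K) := by
  induction k with
  | zero => simp [Polynomial.coeff_one]
  | succ k ih =>
    have h1 : ((1 - Polynomial.X : Polynomial K) ^ k * Polynomial.X).coeff 1 =
        ((1 - Polynomial.X : Polynomial K) ^ k).coeff 0 := Polynomial.coeff_mul_X _ 0
    rw [pow_succ, mul_sub, mul_one, Polynomial.coeff_sub, h1, ih, coeff_zero_one_sub_X_pow]
    push_cast
    ring

end PS

section Lam
variable {K : Type u} [CommRing K] [LambdaOps K] (P : PosStructure K)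

noncomputable def lamPoly (m : ℕ) (e : K) : Polynomial K :=
  ∑ i ∈ Finset.range (m + 1), Polynomial.C (LambdaOps.lam i e) * Polynomial.X ^ i

noncomputable def gamPoly (m : ℕ) (e : K) : Polynomial K :=
  ∑ i ∈ Finset.range (m + 1),
    Polynomial.C (LambdaOps.lam i e) * Polynomial.X ^ i * (1 - Polynomial.X) ^ (m - i)

theorem one_mem_pos : (1 : K) ∈ P.pos := by
  have h := P.natCast_mem 1 Nat.one_pos
  rwa [Nat.cast_one] at h

include P in
theorem lam_one_eq_zero : ∀ k : ℕ, 2 ≤ k → LambdaOps.lam k (1 : K) = 0 := by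
  intro k hk
  apply P.lam_eq_zero 1 (one_mem_pos P)
  rw [map_one]
  exact_mod_cast hk

theorem coe_lamPoly {e : K} (he : e ∈ P.pos) {m : ℕ} (hm : P.aug e = m) :
    ((lamPoly m e : Polynomial K) : PowerSeries K) = lamSeries e := by
  ext n
  rw [Polynomial.coeff_coe, coeff_lamSeries, lamPoly, Polynomial.finsetSum_coeff]
  simp only [Polynomial.coeff_C_mul_X_pow]
  rw [Finset.sum_ite_eq]
  split_ifs with h
  · rfl
  · rw [Finset.mem_range, not_lt] at h
    symm
    apply P.lam_eq_zero e he
    rw [hm]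
    have h' : m < n := h
    exact_mod_cast h'

theorem lamPoly_mul {e f : K} (he : e ∈ P.pos) (hf : f ∈ P.pos) {m m' : ℕ}
    (hm : P.aug e = m) (hm' : P.aug f = m') (h : e + f = ((m + m' : ℕ) : K)) :
    lamPoly m e * lamPoly m' f = (1 + Polynomial.X) ^ (m + m') := by
  rw [← Polynomial.coe_inj, Polynomial.coe_mul, coe_lamPoly P he hm, coe_lamPoly P hf hm',
    ← lamSeries_add, h, lamSeries_natCast (lam_one_eq_zero P), Polynomial.coe_pow,
    Polynomial.coe_add, Polynomial.coe_one, Polynomial.coe_X]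

theorem eval₂_lamPoly (m : ℕ) (e : K) (t : PowerSeries K) :
    (lamPoly m e).eval₂ (PowerSeries.C : K →+* PowerSeries K) t =
      ∑ i ∈ Finset.range (m + 1), PowerSeries.C (LambdaOps.lam i e) * t ^ i := by
  rw [lamPoly, Polynomial.eval₂_finsetSum]
  refine Finset.sum_congr rfl fun i _ => ?_
  rw [Polynomial.eval₂_mul, Polynomial.eval₂_C, Polynomial.eval₂_X_pow]

theorem coe_gamPoly_eq (m : ℕ) (e : K) :
    ((gamPoly m e : Polynomial K) : PowerSeries K) =
      (1 - PowerSeries.X) ^ m *
        (lamPoly m e).eval₂ (PowerSeries.C : K →+* PowerSeries K) (tau K) := by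
  rw [eval₂_lamPoly, Finset.mul_sum]
  change Polynomial.coeToPowerSeries.ringHom (gamPoly m e) = _
  rw [gamPoly, map_sum]
  refine Finset.sum_congr rfl fun i hi => ?_
  rw [map_mul, map_mul, map_pow, map_pow, map_sub, map_one]
  simp only [Polynomial.coeToPowerSeries.ringHom_apply, Polynomial.coe_C, Polynomial.coe_X]
  obtain ⟨k, hk⟩ : ∃ k, m = i + k := ⟨m - i, by have := Finset.mem_range.1 hi; omega⟩
  subst hk
  have hX : (PowerSeries.X : PowerSeries K) ^ i = (1 - PowerSeries.X) ^ i * tau K ^ i := by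
    rw [← mul_pow, one_sub_X_mul_tau]
  rw [Nat.add_sub_cancel_left, hX, pow_add]
  ring

theorem gamPoly_mul {e f : K} (he : e ∈ P.pos) (hf : f ∈ P.pos) {m m' : ℕ}
    (hm : P.aug e = m) (hm' : P.aug f = m') (h : e + f = ((m + m' : ℕ) : K)) :
    gamPoly m e * gamPoly m' f = 1 := by
  rw [← Polynomial.coe_inj, Polynomial.coe_mul, coe_gamPoly_eq, coe_gamPoly_eq, Polynomial.coe_one]
  have h1 : (lamPoly m e).eval₂ (PowerSeries.C : K →+* PowerSeries K) (tau K) *
      (lamPoly m' f).eval₂ (PowerSeries.C : K →+* PowerSeries K) (tau K) =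
      (1 + tau K) ^ (m + m') := by
    rw [← Polynomial.eval₂_mul, lamPoly_mul P he hf hm hm' h, Polynomial.eval₂_pow,
      Polynomial.eval₂_add, Polynomial.eval₂_one, Polynomial.eval₂_X]
  have key : ∀ a b c d : PowerSeries K, a * c * (b * d) = (a * b) * (c * d) := by
    intros; ring
  rw [key, ← pow_add, h1, ← mul_pow, one_sub_X_mul_one_add_tau, one_pow]

theorem coeff_one_gamPoly {m : ℕ} (hm : 1 ≤ m) (e : K) :
    (gamPoly m e).coeff 1 = e - (m : K) := by
  classical
  rw [gamPoly, Polynomial.finsetSum_coeff]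
  have hterm : ∀ i : ℕ, (Polynomial.C (LambdaOps.lam i e) * Polynomial.X ^ i *
      (1 - Polynomial.X) ^ (m - i)).coeff 1 =
      if i ≤ 1 then LambdaOps.lam i e * ((1 - Polynomial.X : Polynomial K) ^ (m - i)).coeff (1 - i)
      else 0 := by
    intro i
    rw [mul_assoc, Polynomial.coeff_C_mul, Polynomial.coeff_X_pow_mul', mul_ite, mul_zero]
  rw [Finset.sum_congr rfl (fun i _ => hterm i)]
  have hsub : ({0, 1} : Finset ℕ) ⊆ Finset.range (m + 1) := by
    intro i hi
    rw [Finset.mem_insert, Finset.mem_singleton] at hi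
    rw [Finset.mem_range]
    omega
  rw [← Finset.sum_subset hsub (fun i _ hi => by
    rw [Finset.mem_insert, Finset.mem_singleton] at hi
    rw [if_neg (by omega)])]
  rw [Finset.sum_pair (by decide : (0 : ℕ) ≠ 1)]
  rw [if_pos (Nat.zero_le 1), if_pos (le_refl 1)]
  rw [Nat.sub_zero, Nat.sub_zero, Nat.sub_self, coeff_one_one_sub_X_pow,
    coeff_zero_one_sub_X_pow, LambdaOps.lam_zero, LambdaOps.lam_one]
  ring

/-- the key nilpotency statement -/
theorem isNilpotent_pos_sub {e f : K} (he : e ∈ P.pos) (hf : f ∈ P.pos) {m m' : ℕ}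
    (hm : P.aug e = m) (hm' : P.aug f = m') (h : e + f = ((m + m' : ℕ) : K)) :
    IsNilpotent (e - (m : K)) := by
  have hm1 : 1 ≤ m := by
    have := P.aug_pos e he
    rw [hm] at this
    exact_mod_cast this
  have hprod := gamPoly_mul P he hf hm hm' h
  have hu : IsUnit (gamPoly m e) := IsUnit.of_mul_eq_one _ hprod
  have hnil := (Polynomial.isUnit_iff_coeff_isUnit_isNilpotent.1 hu).2 1 one_ne_zero
  rwa [coeff_one_gamPoly hm1] at hnil

/-- **in a λ-ring with an ample line element, elements of augmentation zero are nilpotent** -/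
theorem isNilpotent_of_aug_eq_zero (u : K) (hu : KRR.IsAmpleElt P u) (x : K)
    (hx : P.aug x = 0) : IsNilpotent x := by
  obtain ⟨hul, hamp⟩ := hu
  obtain ⟨n₁, hn₁⟩ := hamp x
  obtain ⟨n₂, hn₂⟩ := hamp (-x)
  obtain ⟨e, m, he, hem⟩ := hn₁ (max n₁ n₂) (le_max_left _ _)
  obtain ⟨f, m', hf, hfm⟩ := hn₂ (max n₁ n₂) (le_max_right _ _)
  have hae : P.aug e = m := by
    have h := congrArg P.aug hem
    rw [map_mul, hx, mul_zero, map_sub, map_natCast] at h
    omega
  have haf : P.aug f = m' := by
    have h := congrArg P.aug hfm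
    rw [map_mul, map_neg, hx, neg_zero, mul_zero, map_sub, map_natCast] at h
    omega
  have hsum : e + f = ((m + m' : ℕ) : K) := by
    have h0 : u ^ (max n₁ n₂) * x + u ^ (max n₁ n₂) * (-x) = 0 := by ring
    rw [hem, hfm] at h0
    push_cast
    linear_combination h0
  have hnil : IsNilpotent (e - (m : K)) := isNilpotent_pos_sub P he hf hae haf hsum
  rw [← hem] at hnil
  have huu : IsUnit u := by
    have h := P.isUnit_lam u hul.1
    rw [hul.2] at h
    simpa [LambdaOps.lam_one] using h
  obtain ⟨N, hN⟩ := hnil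
  refine ⟨N, ?_⟩
  rw [mul_pow] at hN
  exact ((huu.pow _).pow N).mul_right_eq_zero.1 hN

end Lam

end Groth.Agent.Helper1.LamNil
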