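import Mathlib
import Groth.Agent.Lib.Helper1.AmpElt
import Groth.Agent.Lib.Helper1.LamNil

/-!
# Ample line elements without Noetherian hypotheses; S8665 and S8673 (helper1)
-/

set_option backward.isDefEq.respectTransparency.types false
set_option synthInstance.maxHeartbeats 400000
set_option maxHeartbeats 1000000
set_option autoImplicit false
set_option linter.style.haveILetI false
set_option linter.unusedSectionVars false
set_option linter.unusedVariables false

universe v u
open CategoryTheory CategoryTheory.Limits AlgebraicGeometry TopologicalSpace Opposite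
open Groth.Agent.Helper1 Groth.Agent.Helper1.AmpElt
open scoped TensorProduct

namespace Groth.Agent.Helper1.AmpElt2

variable {X : Scheme.{u}}
variable {K : Type v} [CommRing K] [LambdaRing.LambdaOps K] {P : LambdaRing.PosStructure K}
  {φ : SGA6.Kvb X →+ K}

theorem Q_neg_cl' [ConnectedSpace X] (hK : KRR.IsModel X K P φ) {L : X.Modules}
    (hL : CohB1.IsAmple L) (F : X.Modules) (hF : FlatMod.IsFinLocFree F) :
    Q P (φ (KRR.cl X L)) (-φ (KRR.cl X F)) := by
  haveI : CompactSpace X := hL.2.1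
  have hFc : Coh.IsCoh F := Groth.Agent.Lib.Helper5.LocalCoh.isCoh_of_isFinLocFree F hF
  obtain ⟨n₀, hn₀⟩ := AmpleLib.eventually_globallyGenerated hL F hFc
  refine ⟨n₀, fun n hn => ?_⟩
  have hLn := InvInv2.isFinLocFree_of_isInvertible (TwForm.isInvertible_tensorPow hL.1 n)
  obtain ⟨h1, h2⟩ := map_tensorMod hK hF hLn
  have hMc : Coh.IsCoh (CohB1.tensorMod F (CohB1.tensorPow L n)) :=
    Groth.Agent.Lib.Helper5.LocalCoh.isCoh_of_isFinLocFree _ h1
  have hloc := TwForm.locFrame_of_isInvertible hL.1 hL.1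
  obtain ⟨r, ψ, hψ⟩ := AmpleQuot.exists_epi hloc
    (TwForm.Tw.self L L (CohB1.tensorMod F (CohB1.tensorPow L n)))
    (TwForm.Tw.self L L (Coh.structureModule X)) hMc (hn₀ n hn)
  haveI : Epi ψ := hψ
  have hO : FlatMod.IsFinLocFree (Coh.structureModule X) :=
    InvInv2.isFinLocFree_of_isInvertible (TwForm.isInvertible_tensorPow hL.1 0)
  obtain ⟨hfree, hclfree⟩ := cl_coprod (Coh.structureModule X) hO r
  have hker : FlatMod.IsFinLocFree (kernel ψ) :=
    Groth.Agent.Lib.Helper5.KerFLF.isFinLocFree_kernel ψ hfree h1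
  have hS : (ShortComplex.mk (kernel.ι ψ) ψ (kernel.condition ψ)).ShortExact :=
    ShortComplex.ShortExact.mk' (ShortComplex.exact_kernel ψ) inferInstance hψ
  have hcl := NilK0.clSub_ses (KRR.vbP X) _ hS hker hfree h1
  change KRR.cl X (∐ fun _ : Fin r => Coh.structureModule X) =
    KRR.cl X (kernel ψ) + KRR.cl X (CohB1.tensorMod F (CohB1.tensorPow L n)) at hcl
  obtain ⟨e, m, he, hem⟩ := exists_pos_sub hK (kernel ψ) hker r
  refine ⟨e, m, he, ?_⟩
  have h3 : φ (KRR.cl X (∐ fun _ : Fin r => Coh.structureModule X)) = (r : K) := by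
    rw [hclfree, map_nsmul, hK.map_one, nsmul_eq_mul, mul_one]
  have h4 := congrArg φ hcl
  rw [map_add, h3] at h4
  rw [← hem, ← map_tensorPow hK hL.1 n, mul_neg, mul_comm, ← h2]
  linear_combination h4

/-- **S3743 without the Noetherian hypothesis** -/
theorem main_ampElt' [ConnectedSpace X] (hK : KRR.IsModel X K P φ)
    (L : X.Modules) (hL : CohB1.IsAmple L) : KRR.IsAmpleElt P (φ (KRR.cl X L)) := by
  have hLr : FlatMod.IsFinLocFreeOfRank 1 L := isFinLocFreeOfRank_one hL.1
  have haug : P.aug (φ (KRR.cl X L)) = 1 := by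
    have h := hK.aug_cl 1 L hLr
    rw [h, Nat.cast_one]
  refine ⟨⟨(hK.mem_pos_iff _).2 ⟨1, L, le_rfl, hLr, rfl⟩, haug⟩, ?_⟩
  intro x
  change Q P (φ (KRR.cl X L)) x
  obtain ⟨z, rfl⟩ := hK.bijective.2 x
  obtain ⟨c, rfl⟩ := QuotientAddGroup.mk_surjective z
  induction c using FreeAbelianGroup.induction_on with
  | zero =>
    rw [QuotientAddGroup.mk_zero, map_zero]
    exact Q_zero P _
  | of M =>
    obtain ⟨M, hM⟩ := M
    rw [← NilK0.clSub_of (KRR.vbP X) M hM]
    exact Q_cl hK hL.1 M hM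
  | neg M _ =>
    obtain ⟨M, hM⟩ := M
    rw [QuotientAddGroup.mk_neg, map_neg, ← NilK0.clSub_of (KRR.vbP X) M hM]
    exact Q_neg_cl' hK hL M hM
  | add a b iha ihb =>
    rw [QuotientAddGroup.mk_add, map_add]
    exact Q_add iha ihb

/-- **S8665** -/
theorem isNilpotent_of_aug_zero [ConnectedSpace X] (hK : KRR.IsModel X K P φ)
    (L : X.Modules) (hL : CohB1.IsAmple L) (x : K) (hx : P.aug x = 0) : IsNilpotent x :=
  LamNil.isNilpotent_of_aug_eq_zero P _ (main_ampElt' hK L hL) x hx

section Unit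
variable (A : Type v) [CommRing A]

/-- the base change of the augmentation -/
noncomputable def psi (P : LambdaRing.PosStructure K) : A ⊗[ℤ] K →ₐ[ℤ] A ⊗[ℤ] ℤ :=
  Algebra.TensorProduct.map (AlgHom.id ℤ A) P.aug.toIntAlgHom

/-- the section of `psi` -/
noncomputable def sig (K : Type v) [CommRing K] : A ⊗[ℤ] ℤ →ₐ[ℤ] A ⊗[ℤ] K :=
  Algebra.TensorProduct.map (AlgHom.id ℤ A) (Algebra.ofId ℤ K)

theorem psi_sig (w : A ⊗[ℤ] ℤ) : psi A P (sig A K w) = w := by
  induction w using TensorProduct.induction_on with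
  | zero => rw [map_zero, map_zero]
  | tmul a n =>
    change psi A P (sig A K (a ⊗ₜ[ℤ] n)) = _
    unfold psi sig
    rw [Algebra.TensorProduct.map_tmul, Algebra.TensorProduct.map_tmul]
    simp
  | add x y hx hy => rw [map_add, map_add, hx, hy]

theorem isNilpotent_sub_sig_psi (hnil : ∀ x : K, P.aug x = 0 → IsNilpotent x) (t : A ⊗[ℤ] K) :
    IsNilpotent (t - sig A K (psi A P t)) := by
  induction t using TensorProduct.induction_on with
  | zero => rw [map_zero, map_zero, sub_zero]; exact IsNilpotent.zero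
  | tmul a k =>
    have h1 : sig A K (psi A P (a ⊗ₜ[ℤ] k)) = a ⊗ₜ[ℤ] ((P.aug k : ℤ) : K) := by
      unfold psi sig
      rw [Algebra.TensorProduct.map_tmul, Algebra.TensorProduct.map_tmul]
      simp
    rw [h1, ← TensorProduct.tmul_sub]
    have hx : P.aug (k - ((P.aug k : ℤ) : K)) = 0 := by
      rw [map_sub, map_intCast, Int.cast_id, sub_self]
    obtain ⟨N, hN⟩ := hnil _ hx
    refine ⟨N, ?_⟩
    rw [Algebra.TensorProduct.tmul_pow, hN, TensorProduct.tmul_zero]
  | add x y hx hy =>
    have : x + y - sig A K (psi A P (x + y)) =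
        (x - sig A K (psi A P x)) + (y - sig A K (psi A P y)) := by
      rw [map_add, map_add]; ring
    rw [this]
    exact (Commute.all _ _).isNilpotent_add hx hy

/-- **S8673 (abstract form)** -/
theorem isUnit_iff (hnil : ∀ x : K, P.aug x = 0 → IsNilpotent x) (y : A ⊗[ℤ] K) :
    IsUnit y ↔ IsUnit (psi A P y) := by
  constructor
  · intro h
    exact h.map (psi A P)
  · intro h
    obtain ⟨v, hv⟩ := h
    let z : A ⊗[ℤ] K := sig A K (↑v⁻¹ : A ⊗[ℤ] ℤ)
    have h1 : psi A P (y * z - 1) = 0 := by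
      rw [map_sub, map_mul, map_one, psi_sig, ← hv, Units.mul_inv, sub_self]
    have h2 := isNilpotent_sub_sig_psi A hnil (y * z - 1)
    rw [h1, map_zero, sub_zero] at h2
    have h3 : IsUnit (y * z) := by
      have := h2.isUnit_add_one
      rwa [sub_add_cancel] at this
    exact isUnit_of_mul_isUnit_left h3

end Unit

end Groth.Agent.Helper1.AmpElt2
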