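import Mathlib
import Groth.Agent.Lib.Helper1.AmpleRestr

set_option autoImplicit false
universe u
open CategoryTheory CategoryTheory.Limits AlgebraicGeometry TopologicalSpace Opposite

namespace Groth.Agent.Helper1.AmpleLib

open Groth.Agent.Helper1.QcCech Groth.Agent.Helper1.SubSh Groth.Agent.Helper1.LGen
open Groth.Agent.Helper1.TmulLib Groth.Agent.Helper1 Groth.Agent.Helper1.TwistSec
open Groth.Agent.Helper1.TensGen Groth.Agent.Helper1.TwForm

variable {X : Scheme.{u}}

/-- a quasi-coherent module on an affine scheme is globally generated -/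
theorem isGloballyGenerated_of_isAffine [IsAffine X] (M : X.Modules) [M.IsQuasicoherent] :
    Curv2.IsGloballyGenerated M := by
  apply isGloballyGenerated_of_spannedOn
  intro x
  refine ⟨⊤, trivial, ?_⟩
  intro O hO t y hy
  exact affine_local_span M (isAffineOpen_top X) O hO t y hy

/-- every invertible module on an affine scheme is ample -/
theorem isAmple_of_isAffine [IsAffine X] {L : X.Modules} (hL : PicF.IsInvertible L) :
    CohB1.IsAmple L := by
  refine ⟨hL, inferInstance, fun x => ?_⟩
  have hM := isInvertible_tensorPow hL 1
  have : (CohB1.tensorPow L 1).IsQuasicoherent := InvQc.isQuasicoherent_of_isInvertible _ hM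
  obtain ⟨s, hs⟩ := exists_section_of_globallyGenerated hM
    (isGloballyGenerated_of_isAffine (CohB1.tensorPow L 1)) x
  refine ⟨0, s, hs, ?_⟩
  have := isAffineOpen_genLocus_inf hM s (isAffineOpen_top X)
  rwa [inf_top_eq] at this

end Groth.Agent.Helper1.AmpleLib
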