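import Mathlib
import Groth.Agent.Lib.Helper1.AmpleQuot
import Groth.Agent.Lib.Helper1.InvInv
import Groth.Agent.Lib.Lead.FLF1

/-!
# A scheme with an ample invertible module has the resolution property (helper1)
-/

set_option autoImplicit false
universe u
open CategoryTheory CategoryTheory.Limits AlgebraicGeometry TopologicalSpace Opposite

namespace Groth.Agent.Helper1.AmpleRes

open Groth.Agent.Helper1.TwForm Groth.Agent.Helper1

variable {X : Scheme.{u}}

/-- an inverse of an invertible module -/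
theorem exists_inverse {N : X.Modules} (hN : PicF.IsInvertible N) :
    ∃ K : X.Modules, PicF.IsInvertible K ∧
      Nonempty (CohB1.tensorMod K N ≅ Coh.structureModule X) := by
  obtain ⟨K, hK, ⟨F⟩⟩ := InvInv.exists_invFam_of_isInvertible hN
  have hO : PicF.IsInvertible (Coh.structureModule X) := isInvertible_tensorPow hN 0
  obtain ⟨φ⟩ := InvInv.nonempty_iso F (Coh.structureModule X) hO
  have hloc := locFrame_of_isInvertible hN hK
  let A₁ := ((Tw.snd N K).tensorR (Tw.fst N K)).cast (d₁' := 1) (d₂' := 1) (by ring) (by ring)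
  let A₂ := ((((Tw.self N K (Coh.structureModule X)).tensorR (Tw.fst N K)).tensorR
    (Tw.snd N K)).ofIso φ).cast (d₁' := 1) (d₂' := 1) (by ring) (by ring)
  exact ⟨K, hK, ⟨Tw.iso A₁ A₂ hloc⟩⟩

/-- a finite sum of copies of an invertible module is finite locally free -/
theorem isFinLocFree_sigma {K : X.Modules} (hK : PicF.IsInvertible K) (r : ℕ) :
    FlatMod.IsFinLocFree (∐ fun _ : Fin r => K) := by
  intro x
  obtain ⟨U, hxU, ⟨e⟩⟩ := hK x
  refine ⟨U, r, hxU, ⟨?_⟩⟩
  exact PreservesCoproduct.iso (Scheme.Modules.restrictFunctor U.ι) (fun _ : Fin r => K) ≪≫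
    Sigma.mapIso (fun _ => e)

/-- **S1108** -/
theorem exists_epi_finLocFree {L : X.Modules} (hL : CohB1.IsAmple L) (M : X.Modules)
    (hM : Coh.IsCoh M) :
    ∃ (E : X.Modules) (π : E ⟶ M), FlatMod.IsFinLocFree E ∧ Epi π := by
  haveI : CompactSpace X := hL.2.1
  obtain ⟨n₀, hn₀⟩ := AmpleLib.eventually_globallyGenerated hL M hM
  have hN : PicF.IsInvertible (CohB1.tensorPow L n₀) := isInvertible_tensorPow hL.1 n₀
  obtain ⟨K, hK, ⟨e⟩⟩ := exists_inverse hN
  have hloc := locFrame_of_isInvertible hL.1 hL.1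
  let T := (Tw.self L L M).tensorR ((Tw.fst L L).pow n₀)
  let S := ((Tw.self L L K).tensorR ((Tw.fst L L).pow n₀)).ofIso e
  obtain ⟨r, ψ, hψ⟩ := AmpleQuot.exists_epi hloc T S hM (hn₀ n₀ le_rfl)
  exact ⟨∐ fun _ : Fin r => K, ψ, isFinLocFree_sigma hK r, hψ⟩

end Groth.Agent.Helper1.AmpleRes
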