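import Mathlib
import Groth.Prelude.Def_CohTop

set_option autoImplicit false
universe u
open CategoryTheory CategoryTheory.Limits TopologicalSpace Opposite

namespace Groth.Agent.Helper1.MVvan

/-- Mayer–Vietoris vanishing -/
theorem subsingleton_sup {T : TopCat.{u}} (F : CohTop.Ab T) (U V : Opens T) (n : ℕ)
    (h1 : Subsingleton (CohTop.HU F n (U ⊓ V))) (h2 : Subsingleton (CohTop.HU F (n + 1) U))
    (h3 : Subsingleton (CohTop.HU F (n + 1) V)) :
    Subsingleton (CohTop.HU F (n + 1) (U ⊔ V)) := by
  let S := Opens.mayerVietorisSquare U V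
  have hex := S.sequence_exact F n (n + 1) rfl
  have h := (ShortComplex.ab_exact_iff _).1 (hex.exact 2)
  refine ⟨fun x y => ?_⟩
  have key : ∀ z : CohTop.HU F (n + 1) (U ⊔ V), z = 0 := by
    intro z
    have hz : (S.toBiprod F (n + 1)) z = 0 := by
      rw [S.toBiprod_apply]
      have e1 : (F.cohomologyPresheaf (n + 1)).map S.f₂₄.op z = 0 := h2.elim _ _
      have e2 : (F.cohomologyPresheaf (n + 1)).map S.f₃₄.op z = 0 := h3.elim _ _
      rw [e1, e2]
      exact map_zero _
    obtain ⟨w, hw⟩ := h z hz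
    have hw0 : w = 0 := h1.elim _ _
    rw [← hw, hw0]
    exact map_zero _
  rw [key x, key y]

end Groth.Agent.Helper1.MVvan
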