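import Mathlib
import Groth.Prelude.Def_Coh
import Groth.Agent.Lib.Helper1.QcAcyc
import Groth.Agent.Lib.Helper1.MVvan

set_option autoImplicit false
universe u
open CategoryTheory CategoryTheory.Limits AlgebraicGeometry TopologicalSpace Opposite

namespace Groth.Agent.Helper1.CovVan

variable {X : Scheme.{u}}

/-- two affine opens inside a common affine open have affine intersection -/
theorem inf_affine_of_le {U V₁ V₂ : X.Opens} (hU : IsAffineOpen U) (h1 : V₁ ≤ U) (h2 : V₂ ≤ U)
    (hV₁ : IsAffineOpen V₁) (hV₂ : IsAffineOpen V₂) : IsAffineOpen (V₁ ⊓ V₂) := by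
  have : IsAffineHom (pullback.diagonal (𝟙 X)) := inferInstance
  exact isAffineHom_diagonal_iff.mp this U hU V₁ (by simpa using h1) V₂ (by simpa using h2) hV₁ hV₂

/-- vanishing of cohomology of a quasi-coherent module on a union of `t + 1` affine opens taken
from a class of affine opens stable under binary intersections, in degrees `> t` -/
theorem van_of_cover (M : X.Modules) [M.IsQuasicoherent] (𝒜 : Set X.Opens)
    (hA : ∀ V ∈ 𝒜, IsAffineOpen V) (hinf : ∀ V ∈ 𝒜, ∀ V' ∈ 𝒜, V ⊓ V' ∈ 𝒜) :
    ∀ (t : ℕ) (U : Fin (t + 1) → X.Opens), (∀ i, U i ∈ 𝒜) → ∀ n, t + 1 ≤ n →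
      Subsingleton (CohTop.HU (Coh.toAb M) n (⨆ i, U i)) := by
  intro t
  induction t with
  | zero =>
    intro U hU n hn
    obtain ⟨m, rfl⟩ := Nat.exists_eq_succ_of_ne_zero (by omega : n ≠ 0)
    have : ⨆ i, U i = U 0 := by
      apply le_antisymm
      · refine iSup_le fun i => ?_
        rw [Fin.fin_one_eq_zero i]
      · exact le_iSup U 0
    rw [this]
    exact QcAcyc.subsingleton_HU M _ (hA _ (hU 0)) m
  | succ t ih =>
    intro U hU n hn
    obtain ⟨m, rfl⟩ := Nat.exists_eq_succ_of_ne_zero (by omega : n ≠ 0)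
    have hsplit : ⨆ i, U i = (⨆ i : Fin (t + 1), U i.castSucc) ⊔ U (Fin.last (t + 1)) := by
      apply le_antisymm
      · refine iSup_le fun i => ?_
        refine Fin.lastCases ?_ (fun j => ?_) i
        · exact le_sup_right
        · exact (le_iSup (fun i : Fin (t + 1) => U i.castSucc) j).trans le_sup_left
      · exact sup_le (iSup_le fun j => le_iSup U j.castSucc) (le_iSup U _)
    rw [hsplit]
    apply MVvan.subsingleton_sup
    · rw [iSup_inf_eq]
      exact ih (fun i => U i.castSucc ⊓ U (Fin.last (t + 1)))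
        (fun i => hinf _ (hU _) _ (hU _)) m (by omega)
    · exact ih (fun i => U i.castSucc) (fun i => hU _) (m + 1) (by omega)
    · exact QcAcyc.subsingleton_HU M _ (hA _ (hU _)) m

end Groth.Agent.Helper1.CovVan
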