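import Mathlib

open AlgebraicGeometry DirectSum

namespace Groth.Agent.Helper1.ProjNoeth

universe u

section
variable {R A : Type*} [CommRing R] [CommRing A] [Algebra R A] (𝒜 : ℕ → Submodule R A)
  [GradedAlgebra 𝒜]

/-- A Noetherian `ℕ`-graded ring is of finite type over its degree zero part. -/
theorem finiteType_of_isNoetherianRing [IsNoetherianRing A] : Algebra.FiniteType (𝒜 0) A := by
  classical
  obtain ⟨F, hF⟩ : (HomogeneousIdeal.irrelevant 𝒜).toIdeal.FG := IsNoetherian.noetherian _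
  let ι₀ := Σ (x : F), (DirectSum.decompose 𝒜 x.1).support
  let x (i : ι₀) : A := ((DirectSum.decompose 𝒜) i.1.1 i.2.1 : A)
  have hxdeg : ∀ i : ι₀, x i ∈ 𝒜 i.2.1 := fun i => (DirectSum.decompose 𝒜 i.1.1 i.2.1).2
  have hFirr : ∀ g ∈ F, g ∈ (HomogeneousIdeal.irrelevant 𝒜).toIdeal := fun g hg => by
    rw [← hF]; exact Ideal.subset_span hg
  have hpos : ∀ i : ι₀, 0 < (i.2.1 : ℕ) := by
    intro i
    rw [Nat.pos_iff_ne_zero]
    intro h0
    have h1 : GradedRing.proj 𝒜 0 i.1.1 = 0 :=
      (HomogeneousIdeal.mem_irrelevant_iff 𝒜 _).mp (hFirr _ i.1.2)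
    have hne := DFinsupp.mem_support_iff.mp i.2.2
    apply hne
    ext
    rw [h0]
    simpa [GradedRing.proj_apply] using h1
  have hspan : (HomogeneousIdeal.irrelevant 𝒜).toIdeal ≤ Ideal.span (Set.range x) := by
    rw [← hF, Ideal.span_le]
    intro g hg
    rw [SetLike.mem_coe, ← DirectSum.sum_support_decompose 𝒜 g]
    exact Ideal.sum_mem _ fun n hn => Ideal.subset_span ⟨⟨⟨g, hg⟩, ⟨n, hn⟩⟩, rfl⟩
  have key : ∀ n : ℕ, ∀ a ∈ 𝒜 n, a ∈ Algebra.adjoin (𝒜 0) (Set.range x) := by
    intro n
    induction n using Nat.strong_induction_on with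
    | _ n ih =>
      intro a ha
      rcases Nat.eq_zero_or_pos n with rfl | hn
      · exact Subalgebra.algebraMap_mem (Algebra.adjoin (𝒜 0) (Set.range x)) (⟨a, ha⟩ : 𝒜 0)
      · have hairr : a ∈ (HomogeneousIdeal.irrelevant 𝒜).toIdeal :=
          (HomogeneousIdeal.mem_irrelevant_iff 𝒜 a).mpr (by
            rw [GradedRing.proj_apply, DirectSum.decompose_of_mem_ne 𝒜 ha hn.ne'])
        obtain ⟨c, hc⟩ := (Submodule.mem_span_range_iff_exists_fun A).mp (hspan hairr)
        have h1 : GradedRing.proj 𝒜 n a = a := by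
          rw [GradedRing.proj_apply, DirectSum.decompose_of_mem_same 𝒜 ha]
        have ha' : a = ∑ i, GradedRing.proj 𝒜 n (c i * x i) := by
          calc a = GradedRing.proj 𝒜 n a := h1.symm
            _ = GradedRing.proj 𝒜 n (∑ i, c i • x i) := by rw [hc]
            _ = ∑ i, GradedRing.proj 𝒜 n (c i * x i) := by rw [map_sum]; rfl
        rw [ha']
        refine Subalgebra.sum_mem _ fun i _ => ?_
        rw [GradedRing.proj_apply]
        by_cases h : i.2.1 ≤ n
        · rw [DirectSum.coe_decompose_mul_of_right_mem_of_le 𝒜 (hxdeg i) h]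
          have hlt : n - i.2.1 < n := by have := hpos i; omega
          exact Subalgebra.mul_mem _ (ih (n - i.2.1) hlt _ (SetLike.coe_mem _))
            (Algebra.subset_adjoin ⟨i, rfl⟩)
        · rw [DirectSum.coe_decompose_mul_of_right_mem_of_not_le 𝒜 (hxdeg i) h]
          exact Subalgebra.zero_mem _
  refine ⟨⟨Finset.univ.image x, ?_⟩⟩
  rw [Finset.coe_image, Finset.coe_univ, Set.image_univ, eq_top_iff]
  intro a _
  rw [← DirectSum.sum_support_decompose 𝒜 a]
  exact Subalgebra.sum_mem _ fun n _ => key n _ (SetLike.coe_mem _)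

end

set_option backward.isDefEq.respectTransparency.types false in
theorem isNoetherian_proj {R A : Type u} [CommRing R] [CommRing A] [Algebra R A]
    (𝒜 : ℕ → Submodule R A) [GradedAlgebra 𝒜] [IsNoetherianRing A] : IsNoetherian (Proj 𝒜) := by
  have := finiteType_of_isNoetherianRing 𝒜
  have : IsNoetherianRing (𝒜 0) := isNoetherianRing_of_surjective A (𝒜 0)
    (GradedRing.projZeroRingHom' 𝒜) (GradedRing.projZeroRingHom'_surjective 𝒜)
  have : CompactSpace (Proj 𝒜) := QuasiCompact.compactSpace_of_compactSpace (Proj.toSpecZero 𝒜)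
  have : IsLocallyNoetherian (Proj 𝒜) := by
    rw [isLocallyNoetherian_iff_openCover (Proj.affineOpenCover 𝒜).openCover]
    intro i
    have : Algebra.FiniteType (𝒜 0) (HomogeneousLocalization.Away 𝒜 i.2.1) :=
      HomogeneousLocalization.Away.finiteType _ _ i.2.2
    have : IsNoetherianRing (HomogeneousLocalization.Away 𝒜 i.2.1) :=
      Algebra.FiniteType.isNoetherianRing (𝒜 0) _
    exact isLocallyNoetherian_Spec.mpr this
  exact {}

end Groth.Agent.Helper1.ProjNoeth
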