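import Mathlib
import Groth.Prelude.Def_Coh
import Groth.Agent.Lib.Helper1.CovVan
import Groth.Agent.Lib.Helper1.CohUtil

set_option autoImplicit false
universe u
open CategoryTheory CategoryTheory.Limits AlgebraicGeometry TopologicalSpace Opposite

namespace Groth.Agent.Helper1.ProjVan

variable {A S : Type u} [CommRing A] [CommRing S] [Algebra A S]
  (𝒜 : ℕ → Submodule A S) [GradedAlgebra 𝒜]

/-- if homogeneous elements generate `S` as an `A`-algebra, they span the irrelevant ideal -/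
theorem irrelevant_le_span {ι : Type*} (f : ι → S) (hfn : ∀ i, ∃ n, f i ∈ 𝒜 n)
    (hf : Algebra.adjoin A (Set.range f) = ⊤) :
    (HomogeneousIdeal.irrelevant 𝒜).toIdeal ≤ Ideal.span (Set.range f) := by
  intro x hx
  convert_to x - GradedRing.projZeroRingHom 𝒜 x ∈ _
  · rw [GradedRing.projZeroRingHom_apply, ← GradedRing.proj_apply,
      (HomogeneousIdeal.mem_irrelevant_iff _ _).mp hx, sub_zero]
  clear hx
  have := (eq_iff_iff.mp congr(x ∈ $hf)).mpr trivial
  induction this using Algebra.adjoin_induction with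
  | mem x hx =>
    obtain ⟨i, rfl⟩ := hx
    obtain ⟨n, hn⟩ := hfn i
    rw [GradedRing.projZeroRingHom_apply]
    by_cases hn' : n = 0
    · rw [DirectSum.decompose_of_mem_same 𝒜 (hn' ▸ hn), sub_self]
      exact zero_mem _
    · rw [DirectSum.decompose_of_mem_ne 𝒜 hn hn', sub_zero]
      exact Ideal.subset_span ⟨_, rfl⟩
  | algebraMap r =>
    convert! zero_mem (Ideal.span _)
    rw [sub_eq_zero]
    have hr : algebraMap A S r ∈ 𝒜 0 := SetLike.algebraMap_mem_graded 𝒜 r
    rw [GradedRing.projZeroRingHom_apply]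
    exact (DirectSum.decompose_of_mem_same 𝒜 hr).symm
  | add x y hx hy _ _ =>
    rw [map_add, add_sub_add_comm]
    exact add_mem ‹_› ‹_›
  | mul x y hx hy hx' hy' =>
    convert!
      add_mem (Ideal.mul_mem_left _ x hy')
        (Ideal.mul_mem_right (GradedRing.projZeroRingHom 𝒜 y) _ hx') using 1
    rw [map_mul]
    ring

/-- the class of basic opens `D₊(f)`, `f` homogeneous of positive degree -/
def basics : Set (Proj 𝒜).Opens :=
  {V | ∃ (f : S) (m : ℕ), f ∈ 𝒜 m ∧ 0 < m ∧ V = Proj.basicOpen 𝒜 f}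

/-- cohomology of quasi-coherent modules on `Proj` vanishes above the number of positive-degree
homogeneous generators of the irrelevant ideal -/
theorem subsingleton_HH (r : ℕ) (g : Fin (r + 1) → S) (m : Fin (r + 1) → ℕ)
    (hg : ∀ i, g i ∈ 𝒜 (m i)) (hm : ∀ i, 0 < m i)
    (hirr : (HomogeneousIdeal.irrelevant 𝒜).toIdeal ≤ Ideal.span (Set.range g))
    (F : (Proj 𝒜).Modules) [F.IsQuasicoherent] (q : ℕ) (hq : r < q) :
    Subsingleton (Coh.HH (Proj 𝒜) F q) := by
  have h := CovVan.van_of_cover F (basics 𝒜)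
    (by
      rintro V ⟨f, k, hf, hk, rfl⟩
      exact Proj.isAffineOpen_basicOpen 𝒜 f hf hk)
    (by
      rintro V ⟨f, k, hf, hk, rfl⟩ V' ⟨f', k', hf', hk', rfl⟩
      exact ⟨f * f', k + k', SetLike.mul_mem_graded hf hf', by omega, (Proj.basicOpen_mul 𝒜 f f').symm⟩)
    r (fun i => Proj.basicOpen 𝒜 (g i)) (fun i => ⟨g i, m i, hg i, hm i, rfl⟩) q (by omega)
  rw [Proj.iSup_basicOpen_eq_top 𝒜 g hirr] at h
  exact (CohUtil.HHequivHU F q).toEquiv.subsingleton

end Groth.Agent.Helper1.ProjVan
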