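import Mathlib
import Groth.Agent.Lib.Helper1.ProjSpaceTwist

/-!
# `H^0(P^n_R, O(d)) ≃ₗ[R] R[T_0..T_n]_d`
-/

universe u
open AlgebraicGeometry CategoryTheory HomogeneousLocalization MvPolynomial Opposite TopologicalSpace

namespace Groth.Agent.Helper1.ProjSpaceLib
open Groth.Agent.Helper1.ProjGlobal

variable (n : ℕ) (R : Type u) [CommRing R]

set_option synthInstance.maxHeartbeats 400000

/-- `a ↦ a/1` as an additive map -/
noncomputable def globalOfHom (d : ℕ) :
    CohB1.polyGrading n R d →+ Twist.sectN (𝒜 := CohB1.polyGrading n R) (d : ℤ) (op ⊤) where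
  toFun := fun a => Twist.globalOf (CohB1.polyGrading n R) a
  map_zero' := by
    apply Subtype.ext
    funext x
    apply Subtype.ext
    change (Localization.mk (0 : MvPolynomial (Fin (n + 1)) R) _ :
      Twist.Loc (CohB1.polyGrading n R) x.1) = 0
    exact Localization.mk_zero _
  map_add' := by
    intro a b
    apply Subtype.ext
    funext x
    apply Subtype.ext
    change (Localization.mk (a.1 + b.1) _ : Twist.Loc (CohB1.polyGrading n R) x.1) =
      Localization.mk a.1 _ + Localization.mk b.1 _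
    exact (Localization.add_mk_self _ _ _).symm

/-- `a ↦ a/1` as an additive equivalence -/
noncomputable def globalOfEquiv (d : ℕ) :
    CohB1.polyGrading n R d ≃+ Twist.sectN (𝒜 := CohB1.polyGrading n R) (d : ℤ) (op ⊤) :=
  AddEquiv.ofBijective (globalOfHom n R d) (globalOf_bijective n R d)

lemma toGlobal_val (r : R) (x : ProjectiveSpectrum (CohB1.polyGrading n R)) :
    (((show Twist.O (𝒜 := CohB1.polyGrading n R) (op ⊤) from
        Coh.toGlobal (CohB1.ProjSpace.toSpec n R) r)).1 ⟨x, trivial⟩).val =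
      Localization.mk (C r : MvPolynomial (Fin (n + 1)) R) 1 := by
  obtain ⟨i, hi⟩ := exists_X_notMem n R x
  have h := psi_val (CohB1.polyGrading n R) (X i) (X_mem n R i) Nat.one_pos
    (algebraMap R (CohB1.polyGrading n R 0) r) x hi
  rw [← toGlobal_eq] at h
  exact h

lemma smul_val {R A : Type u} [CommRing R] [CommRing A] [Algebra R A] (𝒜 : ℕ → Submodule R A)
    [GradedAlgebra 𝒜] (d : ℤ) (c : Twist.O (𝒜 := 𝒜) (op ⊤)) (g : Twist.sectN (𝒜 := 𝒜) d (op ⊤))
    (x : ProjectiveSpectrum 𝒜) :
    ((((c • g : Twist.sectN (𝒜 := 𝒜) d (op ⊤))).1 ⟨x, trivial⟩ : Twist.twistAt 𝒜 d x) :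
      Twist.Loc 𝒜 x) =
    (c.1 ⟨x, trivial⟩).val * ((g.1 ⟨x, trivial⟩ : Twist.twistAt 𝒜 d x) : Twist.Loc 𝒜 x) := by
  rw [Submodule.coe_smul, Twist.smul_apply, Twist.coe_smul_val]

lemma globalOf_smul_val (d : ℕ) (r : R) (a : CohB1.polyGrading n R d)
    (x : ProjectiveSpectrum (CohB1.polyGrading n R)) :
    (((Twist.globalOf (CohB1.polyGrading n R) (r • a)).1 ⟨x, trivial⟩ :
      Twist.twistAt (CohB1.polyGrading n R) d x) : Twist.Loc (CohB1.polyGrading n R) x) =
    Localization.mk (C r : MvPolynomial (Fin (n + 1)) R) 1 *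
      (((Twist.globalOf (CohB1.polyGrading n R) a).1 ⟨x, trivial⟩ :
      Twist.twistAt (CohB1.polyGrading n R) d x) : Twist.Loc (CohB1.polyGrading n R) x) := by
  change (Localization.mk (r • a.1) _ : Twist.Loc (CohB1.polyGrading n R) x) =
    Localization.mk (C r) 1 * Localization.mk a.1 _
  rw [Localization.mk_mul, one_mul, MvPolynomial.smul_eq_C_mul]

set_option maxHeartbeats 800000 in
lemma globalOfEquiv_smul (d : ℕ) (r : R) (a : CohB1.polyGrading n R d) :
    globalOfEquiv n R d (r • a) =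
      (show Twist.O (𝒜 := CohB1.polyGrading n R) (op ⊤) from
        Coh.toGlobal (CohB1.ProjSpace.toSpec n R) r) •
        globalOfEquiv n R d a := by
  have key : ∀ x : ProjectiveSpectrum (CohB1.polyGrading n R),
      (((Twist.globalOf (CohB1.polyGrading n R) (r • a)).1 ⟨x, trivial⟩ :
        Twist.twistAt (CohB1.polyGrading n R) d x) : Twist.Loc (CohB1.polyGrading n R) x) =
      (((((show Twist.O (𝒜 := CohB1.polyGrading n R) (op ⊤) from
        Coh.toGlobal (CohB1.ProjSpace.toSpec n R) r) •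
        Twist.globalOf (CohB1.polyGrading n R) a :
          Twist.sectN (𝒜 := CohB1.polyGrading n R) (d : ℤ) (op ⊤))).1 ⟨x, trivial⟩ :
            Twist.twistAt (CohB1.polyGrading n R) d x) : Twist.Loc (CohB1.polyGrading n R) x) := by
    intro x
    refine Eq.trans ?_ (smul_val (CohB1.polyGrading n R) (d : ℤ) _ _ x).symm
    refine (globalOf_smul_val n R d r a x).trans ?_
    congr 1
    exact (toGlobal_val n R r x).symm
  apply Subtype.ext
  funext x
  apply Subtype.ext
  exact key x.1

noncomputable def eqv (d : ℕ) : Coh.HH (CohB1.ProjSpace n R) (Twist.twistProjSpace n R (d : ℤ)) 0 ≃+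
      Twist.sectN (𝒜 := CohB1.polyGrading n R) (d : ℤ) (op ⊤) :=
    HH0.equiv (CohB1.ProjSpace n R) (Twist.twistProjSpace n R (d : ℤ))

set_option synthInstance.maxHeartbeats 400000 in
set_option maxHeartbeats 800000 in
lemma eqv_smul (d : ℕ) (r : R)
    (x : Coh.HH (CohB1.ProjSpace n R) (Twist.twistProjSpace n R (d : ℤ)) 0) :
    eqv n R d (r • x) = (show Twist.O (𝒜 := CohB1.polyGrading n R) (op ⊤) from
        Coh.toGlobal (CohB1.ProjSpace.toSpec n R) r) • eqv n R d x :=
  HH0.equiv_smul_over (CohB1.ProjSpace n R) (Twist.twistProjSpace n R (d : ℤ)) r x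


set_option synthInstance.maxHeartbeats 400000 in
set_option maxHeartbeats 800000 in
theorem HH0_twist (d : ℕ) :
    Nonempty (Coh.HH (CohB1.ProjSpace n R) (Twist.twistProjSpace n R (d : ℤ)) 0 ≃ₗ[R]
      ↥(MvPolynomial.homogeneousSubmodule (Fin (n + 1)) R d)) := by
  refine ⟨AddEquiv.toLinearEquiv ((eqv n R d).trans (globalOfEquiv n R d).symm) ?_⟩
  intro r x
  have h1 := eqv_smul n R d r x
  have ha : globalOfEquiv n R d ((globalOfEquiv n R d).symm (eqv n R d x)) = eqv n R d x :=
    (globalOfEquiv n R d).apply_symm_apply (eqv n R d x)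
  have h2 := globalOfEquiv_smul n R d r ((globalOfEquiv n R d).symm (eqv n R d x))
  change (globalOfEquiv n R d).symm (eqv n R d (r • x)) =
    r • (globalOfEquiv n R d).symm (eqv n R d x)
  refine ((globalOfEquiv n R d).symm_apply_eq (x := eqv n R d (r • x))
    (y := r • (globalOfEquiv n R d).symm (eqv n R d x))).mpr ?_
  exact h1.trans ((congrArg (fun y => (show Twist.O (𝒜 := CohB1.polyGrading n R) (op ⊤) from
        Coh.toGlobal (CohB1.ProjSpace.toSpec n R) r) • y) ha.symm).trans h2.symm)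

end Groth.Agent.Helper1.ProjSpaceLib
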