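import Mathlib
import Groth.Prelude.Def_GrMod2
import Groth.Agent.Lib.Helper1.PF7

universe u
open AlgebraicGeometry CategoryTheory Limits TopologicalSpace HomogeneousLocalization Opposite
open DirectSum

namespace Groth.Agent.Helper1.PF8
open Groth.Agent.Helper1.PF1 Groth.Agent.Helper1.PF2 Groth.Agent.Helper1.PF4
  Groth.Agent.Helper1.PF5 Groth.Agent.Helper1.PF6 Groth.Agent.Helper1.PF7

variable {R A : Type u} [CommRing R] [CommRing A] [Algebra R A] (𝒜 : ℕ → Submodule R A)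
  [GradedAlgebra 𝒜]
variable (s : Finset A) (F : (Proj 𝒜).Modules)
attribute [local instance] modΓ modM modRM

theorem hcov_of (hs1 : ∀ f ∈ s, f ∈ 𝒜 1)
    (hs : (HomogeneousIdeal.irrelevant 𝒜).toIdeal = Ideal.span (s : Set A))
    (x : ProjectiveSpectrum 𝒜) : ∃ g : T 𝒜 s, g.1 ∉ x.asHomogeneousIdeal := by
  by_contra hcon
  push Not at hcon
  apply x.not_irrelevant_le
  intro a ha
  have h1 : a ∈ Ideal.span (s : Set A) := hs ▸ ha
  exact (Ideal.span_le.2 (fun f hf => hcon ⟨f, hf, hs1 f hf⟩)) h1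

/-- `Γ_*(F)` satisfies the interface -/
noncomputable def dataM (hF : SheafOfModules.IsQuasicoherent.{u, u, u} F) :
    Data 𝒜 s F (piece 𝒜 s F) where
  ev := evM 𝒜 s F
  lin := evM_smul 𝒜 s F
  compat n y hy := evM_mem 𝒜 s F hy
  surj g t := by
    obtain ⟨n, m, hm⟩ := ext_M 𝒜 s F hF g t
    refine ⟨n, DirectSum.of (fun n => Mn 𝒜 s F n) n m, ⟨m, rfl⟩, ?_⟩
    rw [evM_of]
    exact hm
  inj n y hy g h0 := inj_piece 𝒜 s F hF hy g h0

theorem main (hs1 : ∀ f ∈ s, f ∈ 𝒜 1)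
    (hs : (HomogeneousIdeal.irrelevant 𝒜).toIdeal = Ideal.span (s : Set A))
    (hF : SheafOfModules.IsQuasicoherent.{u, u, u} F) :
    ∃ (M : Type u) (_ : AddCommGroup M) (_ : Module R M) (_ : Module A M) (_ : IsScalarTower R A M)
      (ℳ : ℕ → Submodule R M) (_ : DirectSum.Decomposition ℳ) (_ : SetLike.GradedSMul 𝒜 ℳ),
      Nonempty (GrTilde.tilde 𝒜 ℳ 0 ≅ F) :=
  ⟨M 𝒜 s F, inferInstance, modRM 𝒜 s F, modM 𝒜 s F, towerM 𝒜 s F, piece 𝒜 s F, decompM 𝒜 s F,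
    gradedSMulM 𝒜 s F,
    haveI := towerM 𝒜 s F
    haveI := decompM 𝒜 s F
    PF7.nonempty_iso (dataM 𝒜 s F hF) hF (hcov_of 𝒜 s hs1 hs)⟩

end Groth.Agent.Helper1.PF8
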