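import Mathlib
import Groth.Prelude.Def_GrMod2
import Groth.Agent.Lib.Helper1.PF7

universe u
open AlgebraicGeometry CategoryTheory Limits TopologicalSpace HomogeneousLocalization Opposite
open DirectSum

namespace Groth.Agent.Helper1.PF9
open Groth.Agent.Helper1.PF1 Groth.Agent.Helper1.PF2 Groth.Agent.Helper1.PF4
  Groth.Agent.Helper1.PF5

variable {R A : Type u} [CommRing R] [CommRing A] [Algebra R A] {𝒜 : ℕ → Submodule R A}
  [GradedAlgebra 𝒜]
variable {s : Finset A} {F : (Proj 𝒜).Modules}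
attribute [local instance] modΓ

variable (Q : ℕ → AddSubgroup (P 𝒜 s F)) [SetLike.GradedSMul 𝒜 Q]

/-- the graded module `⨁ₙ Qₙ` attached to a graded family of subgroups of `Π_g Γ(F, D₊(g))` -/
abbrev GM : Type u := ⨁ n, Q n

@[reducible] noncomputable def modGM : Module A (GM Q) := GradedModule.isModule 𝒜 Q

attribute [local instance] modGM

@[reducible] noncomputable def modRGM : Module R (GM Q) := Module.compHom _ (algebraMap R A)

attribute [local instance] modRGM

theorem towerGM : IsScalarTower R A (GM Q) :=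
  ⟨fun r a m => by
    show (r • a) • m = (algebraMap R A r) • (a • m)
    rw [Algebra.smul_def, mul_smul]⟩

theorem of_smul_of' {e n : ℕ} (a : A) (ha : a ∈ 𝒜 e) (m : Q n) :
    a • (DirectSum.of (fun n => Q n) n m) =
      DirectSum.of (fun n => Q n) (e + n)
        ⟨a • m.1, SetLike.GradedSMul.smul_mem (A := 𝒜) (B := Q) ha m.2⟩ := by
  show DirectSum.decompose 𝒜 a • (DirectSum.of (fun n => Q n) n m) = _
  rw [DirectSum.decompose_of_mem 𝒜 ha, DirectSum.Gmodule.of_smul_of]
  rfl

theorem of_mem_range_cast {k n : ℕ} (h : k = n) (m : Q k) :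
    DirectSum.of (fun n => Q n) k m ∈ (DirectSum.of (fun n => Q n) n).range := by
  subst h
  exact ⟨m, rfl⟩

/-- the graded pieces -/
noncomputable def piece (n : ℕ) : Submodule R (GM Q) where
  carrier := (DirectSum.of (fun n => Q n) n).range
  zero_mem' := zero_mem _
  add_mem' := add_mem
  smul_mem' := by
    rintro r _ ⟨m, rfl⟩
    show (algebraMap R A r) • (DirectSum.of (fun n => Q n) n m) ∈ _
    rw [of_smul_of' Q (algebraMap R A r) (SetLike.algebraMap_mem_graded 𝒜 r) m]
    exact of_mem_range_cast Q (zero_add n) _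

theorem mem_piece {n : ℕ} {x : GM Q} :
    x ∈ piece Q n ↔ ∃ m : Q n, DirectSum.of (fun n => Q n) n m = x := Iff.rfl

instance gradedSMulGM : SetLike.GradedSMul 𝒜 (piece Q) where
  smul_mem := by
    rintro e n a _ ha ⟨m, rfl⟩
    rw [of_smul_of' Q a ha m]
    exact ⟨_, rfl⟩

set_option maxHeartbeats 2000000 in
/-- the decomposition -/
@[reducible] noncomputable def decompGM : DirectSum.Decomposition (piece Q) :=
  DirectSum.Decomposition.ofAddHom (piece Q)
    (DirectSum.toAddMonoid fun n =>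
      (DirectSum.of (fun n => piece Q n) n).comp
        ((DirectSum.of (fun n => Q n) n).codRestrict (piece Q n).toAddSubmonoid
          (fun m => ⟨m, rfl⟩)))
    (by
      apply DirectSum.addHom_ext
      intro n m
      rw [AddMonoidHom.comp_apply, DirectSum.toAddMonoid_of, AddMonoidHom.comp_apply,
        DirectSum.coeAddMonoidHom_of]
      rfl)
    (by
      apply DirectSum.addHom_ext
      intro n w
      obtain ⟨m, hm⟩ := (mem_piece Q).1 w.2
      have hw : w = ⟨DirectSum.of (fun n => Q n) n m, ⟨m, rfl⟩⟩ := Subtype.ext hm.symm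
      rw [AddMonoidHom.comp_apply, DirectSum.coeAddMonoidHom_of, hw]
      show DirectSum.toAddMonoid _ (DirectSum.of (fun n => Q n) n m) = _
      rw [DirectSum.toAddMonoid_of]
      rfl)

/-- evaluation `⨁ₙ Qₙ → Π_g Γ(F, D₊(g))` (sum of components) -/
noncomputable def evGM : GM Q →+ P 𝒜 s F :=
  DirectSum.toAddMonoid fun n => (Q n).subtype

theorem evGM_of (n : ℕ) (m : Q n) :
    evGM Q (DirectSum.of (fun n => Q n) n m) = m.1 := by
  rw [evGM, DirectSum.toAddMonoid_of]
  rfl

theorem evGM_smul (a : A) (x : GM Q) : evGM Q (a • x) = a • evGM Q x := by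
  induction x using DirectSum.induction_on with
  | zero => simp
  | of n m =>
    induction a using DirectSum.Decomposition.inductionOn 𝒜 with
    | zero => simp
    | homogeneous a =>
      rw [of_smul_of' Q a.1 a.2 m, evGM_of, evGM_of]
    | add a b ha hb => rw [add_smul, map_add, ha, hb, add_smul]
  | add x y hx hy => rw [smul_add, map_add, hx, hy, map_add, smul_add]

/-- the interface for a graded family of subgroups of `Γ_*(F)` which is large enough -/
noncomputable def dataGM (hF : SheafOfModules.IsQuasicoherent.{u, u, u} F)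
    (hle : ∀ n, Q n ≤ Mn 𝒜 s F n)
    (hsurj : ∀ (g : T 𝒜 s) (t : Γ(F, Proj.basicOpen 𝒜 g.1)), ∃ (n : ℕ) (m : P 𝒜 s F),
      m ∈ Q n ∧ m g = t) :
    Data 𝒜 s F (piece Q) where
  ev := evGM Q
  lin := evGM_smul Q
  compat n y hy := by
    obtain ⟨m, rfl⟩ := (mem_piece Q).1 hy
    rw [evGM_of]
    exact hle n m.2
  surj g t := by
    obtain ⟨n, m, hm, hmt⟩ := hsurj g t
    refine ⟨n, DirectSum.of (fun n => Q n) n ⟨m, hm⟩, ⟨⟨m, hm⟩, rfl⟩, ?_⟩
    rw [evGM_of]
    exact hmt
  inj n y hy g h0 := by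
    obtain ⟨m, rfl⟩ := (mem_piece Q).1 hy
    rw [evGM_of] at h0
    obtain ⟨k, hk⟩ := inj_M 𝒜 s F hF ⟨m.1, hle n m.2⟩ g h0
    refine ⟨k, ?_⟩
    rw [of_smul_of' Q (g.1 ^ k) (pow_mem_deg 𝒜 g.deg k) m]
    have : (⟨g.1 ^ k • m.1, SetLike.GradedSMul.smul_mem (A := 𝒜) (B := Q)
        (pow_mem_deg 𝒜 g.deg k) m.2⟩ : Q (k + n)) = 0 := by
      apply Subtype.ext
      funext g'
      show (g.1 ^ k) • m.1 g' = 0
      rw [pow_smul_P, hk g']
    rw [this, map_zero]

end Groth.Agent.Helper1.PF9
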