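import Mathlib
import Groth.Prelude.Def_GrMod2
import Groth.Agent.Lib.Helper1.PF9
import Groth.Agent.Lib.Helper1.PF8
import Groth.Agent.Lib.Helper1.AffFin

universe u
open AlgebraicGeometry CategoryTheory Limits TopologicalSpace HomogeneousLocalization Opposite
open DirectSum

namespace Groth.Agent.Helper1.PF10
open Groth.Agent.Helper1.PF1 Groth.Agent.Helper1.PF2 Groth.Agent.Helper1.PF4
  Groth.Agent.Helper1.PF5 Groth.Agent.Helper1.PF9 Groth.Agent.Helper1.TildeQC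

variable {R A : Type u} [CommRing R] [CommRing A] [Algebra R A] (𝒜 : ℕ → Submodule R A)
  [GradedAlgebra 𝒜]

section FinGen

theorem finGen_gen {X : Scheme.{u}} (F : X.Modules)
    (hF : SheafOfModules.IsQuasicoherent.{u, u, u} F)
    (hFT : SheafOfModules.IsFiniteType.{u, u, u} F) {R' : CommRingCat.{u}} (j : Spec R' ⟶ X)
    [IsOpenImmersion j] :
    ∃ S : Finset Γ(F.restrict j, ⊤), ∀ (Q : Γ(F.restrict j, ⊤) → Prop), (∀ t ∈ S, Q t) → Q 0 →
      (∀ a b, Q a → Q b → Q (a + b)) → (∀ (r : R') a, Q a → Q (act (F.restrict j) ⊤ r a)) →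
      ∀ τ, Q τ := by
  obtain ⟨S, hS⟩ := (AffFin.finite_restrict F hF hFT j).fg_top
  refine ⟨S, fun Q h1 h2 h3 h4 τ => ?_⟩
  have hτ : τ ∈ Submodule.span R' (S : Set Γ(F.restrict j, ⊤)) := by
    rw [hS]; trivial
  induction hτ using Submodule.span_induction with
  | mem t ht => exact h1 t ht
  | zero => exact h2
  | add a b _ _ ha hb => exact h3 a b ha hb
  | smul r a _ ha => exact h4 r a ha

variable (F : (Proj 𝒜).Modules) (f : A) {d : ℕ} (hf : f ∈ 𝒜 d) (hd : 0 < d)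

theorem finGen_aux (hF : SheafOfModules.IsQuasicoherent.{u, u, u} F)
    (hFT : SheafOfModules.IsFiniteType.{u, u, u} F)
    (W₀ : (Proj 𝒜).Opens) (e₀ : (Proj.awayι 𝒜 f hf hd) ''ᵁ ⊤ = W₀)
    (hW₀ : W₀ ≤ Proj.basicOpen 𝒜 f) :
    ∃ S : Finset Γ(F, W₀), ∀ (Q : Γ(F, W₀) → Prop), (∀ t ∈ S, Q t) → Q 0 →
      (∀ a b, Q a → Q b → Q (a + b)) → (∀ (r : Away 𝒜 f) a, Q a → Q (ρ 𝒜 f hW₀ r • a)) →
      ∀ τ, Q τ := by
  subst e₀
  obtain ⟨S, hS⟩ := finGen_gen F hF hFT (R' := .of (Away 𝒜 f)) (Proj.awayι 𝒜 f hf hd)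
  refine ⟨S, fun Q h1 h2 h3 h4 τ => hS Q h1 h2 h3 (fun r a ha => ?_) τ⟩
  have := h4 r a ha
  rw [PF1.smul_eq 𝒜 F f hf hd ⊤ r a]
  exact this

include hf hd in
theorem finGen (hF : SheafOfModules.IsQuasicoherent.{u, u, u} F)
    (hFT : SheafOfModules.IsFiniteType.{u, u, u} F) :
    ∃ S : Finset Γ(F, Proj.basicOpen 𝒜 f), ∀ (Q : Γ(F, Proj.basicOpen 𝒜 f) → Prop),
      (∀ t ∈ S, Q t) → Q 0 → (∀ a b, Q a → Q b → Q (a + b)) →
      (∀ (r : Away 𝒜 f) a, Q a → Q (ρ 𝒜 f le_rfl r • a)) → ∀ τ, Q τ :=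
  finGen_aux 𝒜 F f hf hd hF hFT _ (image_top 𝒜 f hf hd) le_rfl

end FinGen


section Gen
variable (s : Finset A) (F : (Proj 𝒜).Modules)
attribute [local instance] modΓ

variable {ι : Type u} (deg : ι → ℕ) (m : ι → P 𝒜 s F)

/-- the degree-`n` part of the graded submodule of `Γ_*(F)` generated by the `m i` -/
noncomputable def Qgen (n : ℕ) : AddSubgroup (P 𝒜 s F) :=
  AddSubgroup.closure {y | ∃ (i : ι) (k : ℕ) (a : A), a ∈ 𝒜 k ∧ k + deg i = n ∧ y = a • m i}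

theorem gen_mem (i : ι) : m i ∈ Qgen 𝒜 s F deg m (deg i) :=
  AddSubgroup.subset_closure ⟨i, 0, 1, SetLike.GradedOne.one_mem, zero_add _, (one_smul _ _).symm⟩

theorem smul_gen_mem (i : ι) {k : ℕ} {a : A} (ha : a ∈ 𝒜 k) {n : ℕ} (hn : k + deg i = n) :
    a • m i ∈ Qgen 𝒜 s F deg m n :=
  AddSubgroup.subset_closure ⟨i, k, a, ha, hn, rfl⟩

variable {𝒜 s F deg m} in
theorem Qgen_cast {n n' : ℕ} (h : n = n') {y : P 𝒜 s F} (hy : y ∈ Qgen 𝒜 s F deg m n) :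
    y ∈ Qgen 𝒜 s F deg m n' := h ▸ hy

theorem Qgen_le (hm : ∀ i, m i ∈ Mn 𝒜 s F (deg i)) (n : ℕ) :
    Qgen 𝒜 s F deg m n ≤ Mn 𝒜 s F n := by
  rw [Qgen, AddSubgroup.closure_le]
  rintro _ ⟨i, k, a, ha, rfl, rfl⟩
  exact SetLike.GradedSMul.smul_mem (A := 𝒜) (B := Mn 𝒜 s F) ha (hm i)

instance gradedSMulQ : SetLike.GradedSMul 𝒜 (Qgen 𝒜 s F deg m) where
  smul_mem := by
    intro e n a' y ha' hy
    rw [vadd_eq_add]
    induction hy using AddSubgroup.closure_induction with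
    | mem y hy =>
      obtain ⟨i, k, a, ha, rfl, rfl⟩ := hy
      rw [← mul_smul]
      exact smul_gen_mem 𝒜 s F deg m i (SetLike.mul_mem_graded ha' ha) (add_assoc _ _ _)
    | zero => rw [smul_zero]; exact zero_mem _
    | add x y _ _ hx hy => rw [smul_add]; exact add_mem hx hy
    | neg x _ hx => rw [smul_neg]; exact neg_mem hx

attribute [local instance] modGM modRGM

theorem finite_GM [Finite ι] : Module.Finite A (GM (Qgen 𝒜 s F deg m)) := by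
  rw [Module.finite_def, Submodule.fg_def]
  refine ⟨Set.range (fun i : ι => DirectSum.of (fun n => Qgen 𝒜 s F deg m n) (deg i)
    ⟨m i, gen_mem 𝒜 s F deg m i⟩), Set.finite_range _, ?_⟩
  rw [eq_top_iff]
  rintro x -
  induction x using DirectSum.induction_on with
  | zero => exact zero_mem _
  | add x y hx hy => exact add_mem hx hy
  | of n y =>
    obtain ⟨y, hy⟩ := y
    induction hy using AddSubgroup.closure_induction with
    | mem y hy =>
      obtain ⟨i, k, a, ha, rfl, rfl⟩ := hy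
      have := PF9.of_smul_of' (Qgen 𝒜 s F deg m) a ha ⟨m i, gen_mem 𝒜 s F deg m i⟩
      rw [← this]
      exact Submodule.smul_mem _ _ (Submodule.subset_span ⟨i, rfl⟩)
    | zero =>
      have : (⟨0, zero_mem _⟩ : Qgen 𝒜 s F deg m n) = 0 := rfl
      rw [this, map_zero]
      exact zero_mem _
    | add x y hx hy hx' hy' =>
      have : (⟨x + y, add_mem hx hy⟩ : Qgen 𝒜 s F deg m n) = ⟨x, hx⟩ + ⟨y, hy⟩ := rfl
      rw [this, map_add]
      exact add_mem hx' hy'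
    | neg x hx hx' =>
      have : (⟨-x, neg_mem hx⟩ : Qgen 𝒜 s F deg m n) = -⟨x, hx⟩ := rfl
      rw [this, map_neg]
      exact neg_mem hx'

end Gen

section Main
variable (s : Finset A) (F : (Proj 𝒜).Modules)
attribute [local instance] modΓ modGM modRGM

theorem main (hs1 : ∀ f ∈ s, f ∈ 𝒜 1)
    (hs : (HomogeneousIdeal.irrelevant 𝒜).toIdeal = Ideal.span (s : Set A))
    (hF : SheafOfModules.IsQuasicoherent.{u, u, u} F)
    (hFT : SheafOfModules.IsFiniteType.{u, u, u} F) :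
    ∃ (N : Type u) (_ : AddCommGroup N) (_ : Module R N) (_ : Module A N) (_ : IsScalarTower R A N)
      (𝒩 : ℕ → Submodule R N) (_ : DirectSum.Decomposition 𝒩) (_ : SetLike.GradedSMul 𝒜 𝒩),
      Module.Finite A N ∧ Nonempty (GrTilde.tilde 𝒜 𝒩 0 ≅ F) := by
  classical
  -- finite generating families on the charts
  choose S hS using fun g : T 𝒜 s => finGen 𝒜 F g.1 g.deg one_pos hF hFT
  -- extend the generators to homogeneous elements of `Γ_*(F)`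
  let ι : Type u := Σ g : T 𝒜 s, {t // t ∈ S g}
  have hext : ∀ i : ι, ∃ (n : ℕ) (m : Mn 𝒜 s F n), m.1 i.1 = i.2.1 := fun i =>
    ext_M 𝒜 s F hF i.1 i.2.1
  choose deg m hm using hext
  let Q := Qgen 𝒜 s F deg (fun i => (m i).1)
  have hle : ∀ n, Q n ≤ Mn 𝒜 s F n := Qgen_le 𝒜 s F deg _ (fun i => (m i).2)
  have hsurj : ∀ (g : T 𝒜 s) (t : Γ(F, Proj.basicOpen 𝒜 g.1)), ∃ (n : ℕ) (y : P 𝒜 s F),
      y ∈ Q n ∧ y g = t := by
    intro g t
    refine hS g (fun t => ∃ (n : ℕ) (y : P 𝒜 s F), y ∈ Q n ∧ y g = t) ?_ ?_ ?_ ?_ t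
    · intro t ht
      exact ⟨deg ⟨g, ⟨t, ht⟩⟩, (m ⟨g, ⟨t, ht⟩⟩).1, gen_mem 𝒜 s F deg _ _, hm ⟨g, ⟨t, ht⟩⟩⟩
    · exact ⟨0, 0, zero_mem _, rfl⟩
    · rintro a b ⟨n, y, hy, rfl⟩ ⟨n', y', hy', rfl⟩
      refine ⟨n' + n, g.1 ^ n' • y + g.1 ^ n • y', add_mem ?_ ?_, ?_⟩
      · exact SetLike.GradedSMul.smul_mem (A := 𝒜) (B := Q) (pow_mem_deg 𝒜 g.deg n') hy
      · exact Qgen_cast (add_comm n n')
          (SetLike.GradedSMul.smul_mem (A := 𝒜) (B := Q) (pow_mem_deg 𝒜 g.deg n) hy')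
      · rw [Pi.add_apply, P_smul_apply, P_smul_apply, pow_smul_P, pow_smul_P]
        simp only [c_self, one_pow, one_smul]
    · rintro r a ⟨n, y, hy, rfl⟩
      obtain ⟨k, b, hb, rfl⟩ := HomogeneousLocalization.Away.mk_surjective 𝒜 g.deg r
      have hb' : b ∈ 𝒜 k := by simpa using hb
      refine ⟨k + n, b • y, SetLike.GradedSMul.smul_mem (A := 𝒜) (B := Q) hb' hy, ?_⟩
      rw [P_smul_apply, smul_of_mem 𝒜 s F g hb']
      rfl
  haveI : Finite ι := by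
    haveI : Finite (T 𝒜 s) := finiteT 𝒜 s
    infer_instance
  refine ⟨GM Q, inferInstance, modRGM Q, modGM Q, towerGM Q, piece Q, decompGM Q,
    gradedSMulGM Q, finite_GM 𝒜 s F deg _, ?_⟩
  haveI := towerGM Q
  haveI := decompGM Q
  exact PF7.nonempty_iso (dataGM Q hF hle hsurj) hF (PF8.hcov_of 𝒜 s hs1 hs)

end Main

end Groth.Agent.Helper1.PF10
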