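import Mathlib
import Groth.Agent.Lib.Helper1.AmpleRes1
import Groth.Agent.Lib.Helper1.CovVan
import Groth.Agent.Lib.Helper1.CohUtil
import Groth.Agent.Lib.Helper1.H1Ext
import Groth.Agent.Lib.Helper1.FtLocal
import Groth.Agent.Lib.Helper1.VA5
import Groth.Agent.S9815
import Groth.Agent.Lib.Helper4.SerreFin
import Groth.Agent.Lib.Helper1.Dv12
import Groth.Agent.Lib.Helper1.CohAbel

/-!
# Cohomological dimension of coherent modules is detected on finite locally free modules
(quasi-projective case) (helper1)
-/

set_option autoImplicit false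
universe u
open CategoryTheory CategoryTheory.Limits AlgebraicGeometry TopologicalSpace Opposite

namespace Groth.Agent.Helper1.CohDim

open Groth.Agent.Helper1.QcCech Groth.Agent.Helper1 CategoryTheory.Abelian

variable {X : Scheme.{u}}

/-- vanishing of the cohomology of the quotient in a short exact sequence -/
theorem subsingleton_HH_X₃ {S : ShortComplex X.Modules} (hS : S.ShortExact) (n : ℕ)
    (h2 : Subsingleton (Coh.HH X S.X₂ n)) (h1 : Subsingleton (Coh.HH X S.X₁ (n + 1))) :
    Subsingleton (Coh.HH X S.X₃ n) := by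
  have hSab := QcExt.Sab_shortExact hS
  refine subsingleton_of_forall_eq 0 fun x => ?_
  obtain ⟨y, hy⟩ := Ext.covariant_sequence_exact₃ _ hSab x rfl
    (Subsingleton.elim (h := h1) _ _)
  have hy0 : y = 0 := Subsingleton.elim (h := h2) y 0
  rw [← hy, hy0, Ext.zero_comp]
  rfl

/-- on a quasi-compact separated scheme the cohomology of quasi-coherent modules vanishes in large
degrees -/
theorem exists_bound [CompactSpace X] [X.IsSeparated] :
    ∃ D : ℕ, ∀ (M : X.Modules) [M.IsQuasicoherent] (n : ℕ), D < n → Subsingleton (Coh.HH X M n) := by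
  classical
  obtain ⟨s, hs⟩ := isCompact_univ.elim_finite_subcover
    (fun i : X.affineOpens => (i.1 : Set X)) (fun i => i.1.2) (by
      intro x _
      obtain ⟨_, ⟨W, hW, rfl⟩, hxW, -⟩ := X.isBasis_affineOpens.exists_subset_of_mem_open
        (Set.mem_univ x) isOpen_univ
      exact Set.mem_iUnion.2 ⟨⟨W, hW⟩, hxW⟩)
  haveI : IsAffineHom (pullback.diagonal (terminal.from X)) := by
    haveI : IsSeparated (terminal.from X) := Scheme.IsSeparated.isSeparated_terminal_from
    infer_instance
  let e := s.equivFin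
  let U : Fin (s.card + 1) → X.Opens :=
    Fin.lastCases ⊥ (fun i => (e.symm i).1.1)
  have hUaff : ∀ i, IsAffineOpen (U i) := by
    intro i
    refine Fin.lastCases ?_ (fun j => ?_) i
    · simp only [U, Fin.lastCases_last]
      exact isAffineOpen_bot X
    · simp only [U, Fin.lastCases_castSucc]
      exact (e.symm j).1.2
  have hUtop : ⨆ i, U i = ⊤ := by
    apply le_antisymm le_top
    intro x _
    obtain ⟨i, hi, hxi⟩ := Set.mem_iUnion₂.1 (hs (Set.mem_univ x))
    refine Opens.mem_iSup.2 ⟨Fin.castSucc (e ⟨i, hi⟩), ?_⟩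
    simp only [U, Fin.lastCases_castSucc, Equiv.symm_apply_apply]
    exact hxi
  refine ⟨s.card, fun M _ n hn => ?_⟩
  have h := CovVan.van_of_cover M {V | IsAffineOpen V} (fun V hV => hV)
    (fun V hV V' hV' => IsAffineOpen.inf hV hV') s.card U hUaff n (by omega)
  rw [hUtop] at h
  exact (CohUtil.HHequivHU M n).toEquiv.subsingleton

open Groth.Agent.Helper1.TwForm in
/-- resolution property with a coherent finite locally free cover -/
theorem exists_epi_finLocFree_coh {L : X.Modules} (hL : CohB1.IsAmple L) (M : X.Modules)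
    (hM : Coh.IsCoh M) :
    ∃ (E : X.Modules) (π : E ⟶ M), FlatMod.IsFinLocFree E ∧ Coh.IsCoh E ∧ Epi π := by
  haveI : CompactSpace X := hL.2.1
  obtain ⟨n₀, hn₀⟩ := AmpleLib.eventually_globallyGenerated hL M hM
  have hN : PicF.IsInvertible (CohB1.tensorPow L n₀) := isInvertible_tensorPow hL.1 n₀
  obtain ⟨K, hK, ⟨e⟩⟩ := AmpleRes.exists_inverse hN
  have hloc := locFrame_of_isInvertible hL.1 hL.1
  let T := (Tw.self L L M).tensorR ((Tw.fst L L).pow n₀)
  let S := ((Tw.self L L K).tensorR ((Tw.fst L L).pow n₀)).ofIso e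
  obtain ⟨r, ψ, hψ⟩ := AmpleQuot.exists_epi hloc T S hM (hn₀ n₀ le_rfl)
  exact ⟨∐ fun _ : Fin r => K, ψ, AmpleRes.isFinLocFree_sigma hK r,
    Dv.isCoh_coprod K (InvQc.isCoh_of_isInvertible K hK) r, hψ⟩

/-- if the cohomology of finite locally free modules vanishes above `n`, so does the cohomology
of coherent modules (locally Noetherian separated scheme with an ample invertible module) -/
theorem coh_vanishing_of_locFree {L : X.Modules} (hL : CohB1.IsAmple L) [IsLocallyNoetherian X]
    [X.IsSeparated] (n : ℕ)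
    (h : ∀ E : X.Modules, FlatMod.IsFinLocFree E → ∀ i : ℕ, n < i → Subsingleton (Coh.HH X E i))
    (F : X.Modules) (hF : Coh.IsCoh F) (i : ℕ) (hi : n < i) : Subsingleton (Coh.HH X F i) := by
  haveI : CompactSpace X := hL.2.1
  obtain ⟨D, hD⟩ := exists_bound (X := X)
  have key : ∀ j : ℕ, ∀ i : ℕ, n < i → D < i + j → ∀ F : X.Modules, Coh.IsCoh F →
      Subsingleton (Coh.HH X F i) := by
    intro j
    induction j with
    | zero =>
      intro i _ hDi F hF
      haveI := hF.1
      exact hD F i (by omega)
    | succ j ih =>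
      intro i hi hDi F hF
      obtain ⟨E, π, hE, hEc, hπ⟩ := exists_epi_finLocFree_coh hL F hF
      haveI := hπ
      let S : ShortComplex X.Modules := ShortComplex.mk (kernel.ι π) π (kernel.condition π)
      have hS : S.ShortExact :=
        { exact := ShortComplex.exact_of_f_is_kernel _ (kernelIsKernel π)
          mono_f := inferInstanceAs (Mono (kernel.ι π))
          epi_g := inferInstanceAs (Epi π) }
      have hK : Coh.IsCoh (kernel π) := FtLocal.isCoh_kernel hEc hF π
      exact subsingleton_HH_X₃ (S := S) hS i (h E hE i hi)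
        (ih (i + 1) (by omega) (by omega) (kernel π) hK)
  exact key (D + 1) i hi (by omega) F hF

/-- **S10947** -/
theorem quasiProjective_case (k : Type u) [Field k] (N : ℕ) (ι : X ⟶ CohB1.ProjSpace N k)
    [IsImmersion ι] (n : ℕ)
    (h : ∀ E : X.Modules, FlatMod.IsFinLocFree E → ∀ i : ℕ, n < i → Subsingleton (Coh.HH X E i))
    (F : X.Modules) (hF : Coh.IsCoh F) (i : ℕ) (hi : n < i) : Subsingleton (Coh.HH X F i) := by
  haveI : IsLocallyNoetherian (CohB1.ProjSpace N k) := Groth.Agent.Lib.Helper4.SerreFin.instLN N k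
  haveI : CompactSpace (CohB1.ProjSpace N k) :=
    QuasiCompact.compactSpace_of_compactSpace (CohB1.ProjSpace.toSpec N k)
  haveI : IsNoetherian (CohB1.ProjSpace N k) := {}
  haveI : NoetherianSpace (CohB1.ProjSpace N k) := inferInstance
  haveI : NoetherianSpace X := ι.isEmbedding.noetherianSpace
  haveI : CompactSpace X := inferInstance
  haveI : IsLocallyNoetherian X := LocallyOfFiniteType.isLocallyNoetherian ι
  haveI : X.IsSeparated := by
    haveI : IsSeparated (ι ≫ CohB1.ProjSpace.toSpec N k) := inferInstance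
    exact ⟨by
      rw [← terminal.comp_from (ι ≫ CohB1.ProjSpace.toSpec N k)]
      infer_instance⟩
  have hL : CohB1.IsAmple ((Scheme.Modules.pullback ι).obj (Twist.twistProjSpace N k 1)) :=
    Groth.Agent.S9815.result ι ι.isEmbedding _ (VA5.isAmple_twistProjSpace N k)
  exact coh_vanishing_of_locFree hL n h F hF i hi

end Groth.Agent.Helper1.CohDim
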