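import Mathlib
import Groth.Agent.Lib.Helper1.CohDim1
import Groth.Agent.Lib.Helper1.GenLoc

set_option autoImplicit false
universe u
open CategoryTheory CategoryTheory.Limits AlgebraicGeometry TopologicalSpace Opposite

namespace Groth.Agent.Helper1.CohDim

open Groth.Agent.Helper1.QcCech Groth.Agent.Helper1 CategoryTheory.Abelian

variable {X : Scheme.{u}}

/-- the class of affine opens meeting every affine open in an affine open -/
def AffInt (X : Scheme.{u}) : Set X.Opens :=
  {V | IsAffineOpen V ∧ ∀ W : X.Opens, IsAffineOpen W → IsAffineOpen (V ⊓ W)}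

theorem affInt_inf {V V' : X.Opens} (hV : V ∈ AffInt X) (hV' : V' ∈ AffInt X) :
    V ⊓ V' ∈ AffInt X := by
  refine ⟨hV.2 V' hV'.1, fun W hW => ?_⟩
  rw [inf_assoc]
  exact hV.2 _ (hV'.2 W hW)

theorem mem_affInt_of_isAffineHom {V : X.Opens} (hV : IsAffineOpen V) (h : IsAffineHom V.ι) :
    V ∈ AffInt X := by
  refine ⟨hV, fun W hW => ?_⟩
  have h1 : IsAffineOpen (V.ι ⁻¹ᵁ W) := hW.preimage V.ι
  have h2 : V.ι ''ᵁ (V.ι ⁻¹ᵁ W) = V ⊓ W := by
    rw [Scheme.Hom.image_preimage_eq_opensRange_inf, Scheme.Opens.opensRange_ι]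
  rw [← h2]
  exact h1.image_of_isOpenImmersion V.ι

/-- on a quasi-compact scheme covered by affine opens with affine inclusions, the cohomology of
quasi-coherent modules vanishes in large degrees -/
theorem exists_bound_of_cover [CompactSpace X]
    (hcov : ∀ x : X, ∃ V : X.Opens, x ∈ V ∧ V ∈ AffInt X) :
    ∃ D : ℕ, ∀ (M : X.Modules) [M.IsQuasicoherent] (n : ℕ), D < n → Subsingleton (Coh.HH X M n) := by
  classical
  choose V hxV hV using hcov
  obtain ⟨s, hs⟩ := isCompact_univ.elim_finite_subcover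
    (fun x : X => ((V x : X.Opens) : Set X)) (fun x => (V x).2) (by
      intro x _
      exact Set.mem_iUnion.2 ⟨x, hxV x⟩)
  let e := s.equivFin
  let U : Fin (s.card + 1) → X.Opens :=
    Fin.lastCases ⊥ (fun i => V (e.symm i).1)
  have hbot : (⊥ : X.Opens) ∈ AffInt X := by
    refine ⟨isAffineOpen_bot X, fun W _ => ?_⟩
    rw [bot_inf_eq]
    exact isAffineOpen_bot X
  have hUaff : ∀ i, U i ∈ AffInt X := by
    intro i
    refine Fin.lastCases ?_ (fun j => ?_) i
    · simp only [U, Fin.lastCases_last]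
      exact hbot
    · simp only [U, Fin.lastCases_castSucc]
      exact hV _
  have hUtop : ⨆ i, U i = ⊤ := by
    apply le_antisymm le_top
    intro x _
    obtain ⟨i, hi, hxi⟩ := Set.mem_iUnion₂.1 (hs (Set.mem_univ x))
    refine Opens.mem_iSup.2 ⟨Fin.castSucc (e ⟨i, hi⟩), ?_⟩
    simp only [U, Fin.lastCases_castSucc, Equiv.symm_apply_apply]
    exact hxi
  refine ⟨s.card, fun M _ n hn => ?_⟩
  have h := CovVan.van_of_cover M (AffInt X) (fun V hV => hV.1)
    (fun V hV V' hV' => affInt_inf hV hV') s.card U hUaff n (by omega)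
  rw [hUtop] at h
  exact (CohUtil.HHequivHU M n).toEquiv.subsingleton

/-- a scheme with an ample invertible module has finite cohomological dimension for
quasi-coherent modules -/
theorem exists_bound_of_isAmple {L : X.Modules} (hL : CohB1.IsAmple L) :
    ∃ D : ℕ, ∀ (M : X.Modules) [M.IsQuasicoherent] (n : ℕ), D < n → Subsingleton (Coh.HH X M n) := by
  haveI : CompactSpace X := hL.2.1
  refine exists_bound_of_cover (fun x => ?_)
  obtain ⟨n, s, hxs, hs⟩ := hL.2.2 x
  exact ⟨_, hxs, mem_affInt_of_isAffineHom hs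
    (GenLoc.isAffineHom_genLocus_ι _ s (TwForm.isInvertible_tensorPow hL.1 (n + 1)))⟩

end Groth.Agent.Helper1.CohDim
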