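import Mathlib
import Groth.Prelude.Def_Coh
import Groth.Agent.Lib.Helper1.ColimCoh2
import Groth.Agent.Lib.Helper1.CohDim2
import Groth.Agent.Lib.Lead.QB3

set_option autoImplicit false
universe u
open CategoryTheory CategoryTheory.Limits AlgebraicGeometry TopologicalSpace Opposite Coherent

namespace Groth.Agent.Helper1.QAffAcyc

/-- if every quasi-coherent module is a quotient of a coproduct of quasi-coherent modules from a
class of modules acyclic in positive degrees, and the cohomological dimension is finite, then every
quasi-coherent module is acyclic in positive degrees -/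
theorem acyclic_of_enough {X : Scheme.{u}} [CompactSpace X] [QuasiSeparatedSpace X]
    (hb : ∃ D : ℕ, ∀ (M : X.Modules) [M.IsQuasicoherent] (n : ℕ), D < n →
      Subsingleton (Coh.HH X M n))
    (𝒞 : X.Modules → Prop) (hq : ∀ K, 𝒞 K → K.IsQuasicoherent)
    (hv : ∀ K, 𝒞 K → ∀ p : ℕ, 0 < p → Subsingleton (Coh.HH X K p))
    (hg : ∀ (M : X.Modules) [M.IsQuasicoherent], ∃ (ι : Type u) (K : ι → X.Modules)
      (p : (∐ K) ⟶ M), (∀ i, 𝒞 (K i)) ∧ Epi p)
    (M : X.Modules) [M.IsQuasicoherent] (n : ℕ) (hn : 0 < n) :
    Subsingleton (Coh.HH X M n) := by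
  obtain ⟨D, hD⟩ := hb
  have key : ∀ k n, 0 < n → D < n + k → ∀ (M : X.Modules) [M.IsQuasicoherent],
      Subsingleton (Coh.HH X M n) := by
    intro k
    induction k with
    | zero => intro n _ hn M _; exact hD M n (by omega)
    | succ k ih =>
      intro n hn0 hn M _
      obtain ⟨ι, K, p, hK, hp⟩ := hg M
      haveI : ∀ i, (K i).IsQuasicoherent := fun i => hq _ (hK i)
      have hqF : (∐ K).IsQuasicoherent := Groth.Agent.Lead.QB.isQuasicoherent_sigma K
      have hKer : (kernel p).IsQuasicoherent := QcAbel.isQuasicoherent_kernel p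
      let S : ShortComplex X.Modules := ShortComplex.mk (kernel.ι p) p (kernel.condition p)
      have hS : S.ShortExact :=
        { exact := ShortComplex.exact_kernel p
          mono_f := inferInstanceAs (Mono (kernel.ι p))
          epi_g := hp }
      exact CohDim.subsingleton_HH_X₃ hS n
        (ColimCoh.subsingleton_HH_sigma K n (fun i => hv _ (hK i) n hn0))
        (@ih (n + 1) (by omega) (by omega) (kernel p) hKer)
  exact key D n hn (by omega) M

end Groth.Agent.Helper1.QAffAcyc
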