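import Mathlib
import Groth.Prelude.Def_Coh
import Groth.Agent.Lib.Helper1.AmpleRes1
import Groth.Agent.Lib.Helper1.QcSum1
import Groth.Agent.Lib.Helper1.QAffAcyc2
import Groth.Agent.Lib.Helper1.AmpleLib2
import Groth.Agent.Lib.Helper1.TwistAmpleOpen

set_option autoImplicit false
universe u
open CategoryTheory CategoryTheory.Limits AlgebraicGeometry TopologicalSpace Opposite Coherent

namespace Groth.Agent.Helper1.AmpleAff

open Groth.Agent.Helper1.TwForm Groth.Agent.Helper1

variable {X : Scheme.{u}}

/-- a module with `L ⊗ L' ≅ O` for an invertible `L` is invertible -/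
theorem isInvertible_of_inverse {L L' : X.Modules} (hL : PicF.IsInvertible L)
    (e : CohB1.tensorMod L L' ≅ Coh.structureModule X) : PicF.IsInvertible L' := by
  obtain ⟨K, hK, ⟨e₀⟩⟩ := AmpleRes.exists_inverse hL
  have hloc := locFrame_of_isInvertible hL hK
  let A₁ : Tw L K (Coh.structureModule X) (-1) 0 L' :=
    ((((Tw.fst L K).tensorL (Tw.self L K L')).ofIso e).symm).cast (by ring) (by ring)
  let A₂ : Tw L K (Coh.structureModule X) (-1) 0 K :=
    ((((Tw.self L K K).tensorR (Tw.fst L K)).ofIso e₀).symm).cast (by ring) (by ring)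
  exact TwistAmpleOpen.isInvertible_of_iso (Tw.iso A₂ A₁ hloc) hK

variable {L L' : X.Modules}

/-- `O ⊗ O ≅ O` -/
noncomputable def unitO (hloc : LocFrame L L') :
    CohB1.tensorMod (Coh.structureModule X) (Coh.structureModule X) ≅ Coh.structureModule X :=
  Tw.iso (((Tw.self L L' (Coh.structureModule X)).tensorR
    (Tw.self L L' (Coh.structureModule X))).cast (d₁' := 0) (d₂' := 0) (by ring) (by ring))
    (Tw.self L L' (Coh.structureModule X)) hloc

/-- the twist by `(n, n)` is trivial when `L ⊗ L' ≅ O` -/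
noncomputable def Bpow (hloc : LocFrame L L')
    (e : CohB1.tensorMod L L' ≅ Coh.structureModule X) :
    (n : ℕ) → Tw L L' (Coh.structureModule X) n n (Coh.structureModule X)
  | 0 => (Tw.self L L' (Coh.structureModule X)).cast (by simp) (by simp)
  | n + 1 => (((Bpow hloc e n).tensorR (((Tw.fst L L').tensorR (Tw.snd L L')).ofIso e)).ofIso
      (unitO hloc)).cast (by push_cast; ring) (by push_cast; ring)

/-- `L'^n` twisted by `L^n` is trivial -/
noncomputable def Sn (hloc : LocFrame L L')
    (e : CohB1.tensorMod L L' ≅ Coh.structureModule X) (n : ℕ) :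
    Tw L L' (CohB1.tensorPow L' n) n 0 (Coh.structureModule X) :=
  (((((Tw.snd L L').pow n).symm).tensorR (Bpow hloc e n)).ofIso (unitO hloc)).cast
    (by ring) (by ring)

/-- a coherent module on a scheme with an ample `L` is a quotient of a finite sum of copies of
`L'^n` for arbitrarily large `n`, where `L'` is an inverse of `L` -/
theorem exists_epi_negPow (hL : CohB1.IsAmple L)
    (e : CohB1.tensorMod L L' ≅ Coh.structureModule X) (G : X.Modules) (hG : Coh.IsCoh G)
    (m : ℕ) : ∃ (n : ℕ) (_ : m ≤ n) (r : ℕ) (ψ : (∐ fun _ : Fin r => CohB1.tensorPow L' n) ⟶ G),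
      Epi ψ := by
  haveI : CompactSpace X := hL.2.1
  have hL' := isInvertible_of_inverse hL.1 e
  have hloc := locFrame_of_isInvertible hL.1 hL'
  obtain ⟨n₁, hn₁⟩ := AmpleLib.eventually_globallyGenerated hL G hG
  let n := max n₁ m
  let T : Tw L L' G n 0 (CohB1.tensorMod G (CohB1.tensorPow L n)) :=
    ((Tw.self L L' G).tensorR ((Tw.fst L L').pow n)).cast (by ring) (by ring)
  obtain ⟨r, ψ, hψ⟩ := AmpleQuot.exists_epi hloc T (Sn hloc e n) hG (hn₁ n (le_max_left _ _))
  exact ⟨n, le_max_right _ _, r, ψ, hψ⟩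

end Groth.Agent.Helper1.AmpleAff
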