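import Mathlib
import Groth.Agent.Lib.Helper1.AffPushEpi
import Groth.Agent.Lib.Helper1.IdealModL
import Groth.Agent.Lib.Helper1.PushQc

set_option autoImplicit false
universe u
open CategoryTheory CategoryTheory.Limits AlgebraicGeometry TopologicalSpace Opposite

namespace Groth.Agent.Helper1.SerreCrit

open Groth.Agent.Helper1.QcCech Groth.Agent.Helper1

variable {X : Scheme.{u}}

/-- a morphism of modules which is locally surjective on sections is an epimorphism -/
theorem epi_of_locally_surjective {M N : X.Modules} (φ : M ⟶ N)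
    (h : ∀ (U : X.Opens) (t : Γ(N, U)) (x : X), x ∈ U → ∃ (W : X.Opens) (hW : W ≤ U), x ∈ W ∧
      ∃ m : Γ(M, W), φ.app W m = QcCech.res N hW t) : Epi φ := by
  apply Preadditive.epi_of_cancel_zero
  intro Q g hg
  apply Scheme.Modules.hom_ext
  intro W
  ext t
  change g.app W t = 0
  apply TwistSec.eq_of_locally Q
  intro x hx
  obtain ⟨W', hW', hxW', m, hm⟩ := h W t x hx
  refine ⟨W', hW', hxW', ?_⟩
  rw [← QcExt.app_res, map_zero, ← hm]
  have := congrArg (fun ψ => Scheme.Modules.Hom.app ψ W' m) hg
  exact this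

/-- the radical ideal sheaf of the complement of an open -/
noncomputable def complIdeal (W : X.Opens) : X.IdealSheafData :=
  Scheme.IdealSheafData.vanishingIdeal ⟨(W : Set X)ᶜ, W.isOpen.isClosed_compl⟩

theorem range_subschemeι_complIdeal (W : X.Opens) :
    Set.range (complIdeal W).subschemeι = (W : Set X)ᶜ := by
  rw [(complIdeal W).range_subschemeι]
  simp [complIdeal]

/-- the ideal of the complement of `W` contains `1` over opens inside `W` -/
theorem exists_one (W : X.Opens) (O : X.Opens) (hO : O ≤ W) :
    ∃ y : Γ(ClSub.idealMod (complIdeal W), O),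
      (ClSub.idealModι (complIdeal W)).app O y = (1 : Γ(X, O)) := by
  have hpre : (complIdeal W).subschemeι ⁻¹ᵁ O = ⊥ := by
    ext z
    simp only [Scheme.Hom.mem_preimage, SetLike.mem_coe, Opens.coe_bot, Set.mem_empty_iff_false,
      iff_false]
    intro hz
    have : (complIdeal W).subschemeι z ∈ Set.range (complIdeal W).subschemeι := ⟨z, rfl⟩
    rw [range_subschemeι_complIdeal] at this
    exact this (hO hz)
  have hsub : Subsingleton Γ((complIdeal W).subscheme, (complIdeal W).subschemeι ⁻¹ᵁ O) := by
    rw [hpre]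
    infer_instance
  exact IdealModL.exists_of_app_eq_zero _ O 1 (Subsingleton.elim _ _)

/-- sections of the ideal of the complement of `W` vanish outside `W` -/
theorem basicOpen_le (W : X.Opens) (V : X.Opens)
    (b : Γ(ClSub.idealMod (complIdeal W), V)) :
    X.basicOpen (show Γ(X, V) from (ClSub.idealModι (complIdeal W)).app V b) ≤ W := by
  intro z hz
  by_contra hzW
  have : z ∈ Set.range (complIdeal W).subschemeι := by
    rw [range_subschemeι_complIdeal]; exact hzW
  obtain ⟨z', rfl⟩ := this
  have h0 : ((complIdeal W).subschemeι.app V).hom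
      (show Γ(X, V) from (ClSub.idealModι (complIdeal W)).app V b) = 0 :=
    IdealModL.toSubscheme_ι _ V b
  have h2 : z' ∈ (complIdeal W).subschemeι ⁻¹ᵁ
      X.basicOpen (show Γ(X, V) from (ClSub.idealModι (complIdeal W)).app V b) := hz
  rw [Scheme.preimage_basicOpen, h0, Scheme.basicOpen_zero] at h2
  exact h2

/-- **partition of unity criterion for affineness** -/
theorem isAffineOpen_of_partition (U : X.Opens) {k : ℕ} (W : Fin k → X.Opens)
    (hW : ∀ i, IsAffineOpen (W i)) (hWU : ∀ i, W i ≤ U)
    (c : ∀ i, Γ(ClSub.idealMod (complIdeal (W i)), U))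
    (hc : ∑ i, (show Γ(X, U) from (ClSub.idealModι (complIdeal (W i))).app U (c i)) = 1) :
    IsAffineOpen U := by
  let g : Fin k → Γ(X, U) := fun i => (ClSub.idealModι (complIdeal (W i))).app U (c i)
  apply isAffineOpen_of_isAffineOpen_basicOpen U (Set.range g)
  · rw [Ideal.eq_top_iff_one, ← hc]
    exact Ideal.sum_mem _ fun i _ => Ideal.subset_span ⟨i, rfl⟩
  · rintro _ ⟨i, rfl⟩
    have hle : X.basicOpen (g i) ≤ W i := basicOpen_le (W i) U (c i)
    have e : X.basicOpen (g i) = X.basicOpen (X.presheaf.map (homOfLE (hWU i)).op (g i)) := by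
      rw [Scheme.basicOpen_res]
      exact (inf_eq_right.2 hle).symm
    rw [e]
    exact (hW i).basicOpen _

end Groth.Agent.Helper1.SerreCrit
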