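import Mathlib
import Groth.Prelude.Def_FlatMod2
import Groth.Agent.Lib.Helper1.SerreCrit
import Groth.Agent.Lib.Helper1.FinSigma

set_option autoImplicit false
universe u
open CategoryTheory CategoryTheory.Limits AlgebraicGeometry TopologicalSpace Opposite

namespace Groth.Agent.Helper1.SerreCrit

open Groth.Agent.Helper1.QcCech Groth.Agent.Helper1 Groth.Agent.Helper1.FinSigma

variable {X : Scheme.{u}} {k : ℕ} (W : Fin k → X.Opens)

/-- the ideals of the complements -/
noncomputable abbrev B (i : Fin k) : X.Modules := ClSub.idealMod (complIdeal (W i))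

noncomputable abbrev ιB (i : Fin k) : B W i ⟶ Coh.structureModule X :=
  ClSub.idealModι (complIdeal (W i))

/-- the sum map from the coproduct of the ideals to the structure sheaf -/
noncomputable def sumMap : (∐ B W) ⟶ Coh.structureModule X := Sigma.desc (ιB W)

/-- the inclusion of the coproduct of the ideals into the free module -/
noncomputable def incl : (∐ B W) ⟶ FlatMod.freeMod X k := Limits.Sigma.map (ιB W)

instance : Mono (incl W) := by
  unfold incl
  have h1 : ∀ j, Mono (ιB W j) := fun j => inferInstance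
  have h0 : HasFiniteBiproducts X.Modules := Abelian.hasFiniteBiproducts
  have h2 : HasBiproduct (B W) := inferInstance
  have h3 : HasBiproduct (fun _ : Fin k => Coh.structureModule X) := inferInstance
  exact Limits.Sigma.map_mono (ιB W)

instance : (∐ B W).IsQuasicoherent := isQuasicoherent_sigma (B W)

/-- over the union of the `W i`, the sum map is locally surjective -/
theorem sumMap_locally_surjective (U : X.Opens) (t : Γ(Coh.structureModule X, U)) (x : X)
    (hx : x ∈ U) (i : Fin k) (hxi : x ∈ W i) :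
    ∃ (W' : X.Opens) (hW' : W' ≤ U), x ∈ W' ∧
      ∃ m : Γ(∐ B W, W'), (sumMap W).app W' m = QcCech.res _ hW' t := by
  refine ⟨U ⊓ W i, inf_le_left, ⟨hx, hxi⟩, ?_⟩
  obtain ⟨y, hy⟩ := exists_one (W i) (U ⊓ W i) inf_le_right
  refine ⟨(Sigma.ι (B W) i).app _
    ((show Γ(X, U ⊓ W i) from QcCech.res _ (inf_le_left : U ⊓ W i ≤ U) t) • y), ?_⟩
  have h1 : Sigma.ι (B W) i ≫ sumMap W = ιB W i := Sigma.ι_desc _ _
  change (Sigma.ι (B W) i ≫ sumMap W).app _ _ = _
  rw [h1, Scheme.Modules.Hom.app_smul, hy]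
  exact mul_one (show Γ(X, U ⊓ W i) from QcCech.res _ (inf_le_left : U ⊓ W i ≤ U) t)

theorem epi_sumMap (hcov : ⨆ i, W i = ⊤) : Epi (sumMap W) := by
  apply epi_of_locally_surjective
  intro U t x hx
  obtain ⟨i, hi⟩ : ∃ i, x ∈ W i := by
    have : x ∈ (⨆ i, W i : X.Opens) := hcov ▸ trivial
    exact Opens.mem_iSup.1 this
  exact sumMap_locally_surjective W U t x hx i hi

/-- a section of the coproduct mapping to `1` over `U` makes `U` affine -/
theorem isAffineOpen_of_sumMap_eq_one (U : X.Opens) (hW : ∀ i, IsAffineOpen (W i))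
    (hWU : ∀ i, W i ≤ U) (m : Γ(∐ B W, U)) (hm : (sumMap W).app U m = (1 : Γ(X, U))) :
    IsAffineOpen U := by
  refine isAffineOpen_of_partition U W hW hWU (fun i => (q (B W) i).app U m) ?_
  rw [← hm, sumMap, desc_app]
  rfl

/-- finite affine covers of quasi-compact opens -/
theorem exists_finite_affine_cover (U : X.Opens) (hc : IsCompact (U : Set X)) :
    ∃ (k : ℕ) (W : Fin k → X.Opens), (∀ i, IsAffineOpen (W i)) ∧ (∀ i, W i ≤ U) ∧
      U ≤ ⨆ i, W i := by
  classical
  have h1 : ∀ x : U, ∃ V : X.Opens, IsAffineOpen V ∧ x.1 ∈ V ∧ V ≤ U := by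
    intro x
    obtain ⟨_, ⟨V, hV, rfl⟩, hxV, hVU⟩ :=
      X.isBasis_affineOpens.exists_subset_of_mem_open x.2 U.isOpen
    exact ⟨V, hV, hxV, hVU⟩
  choose V hV hxV hVU using h1
  obtain ⟨S, hS⟩ := hc.elim_finite_subcover (fun x : U => ((V x : X.Opens) : Set X))
    (fun x => (V x).isOpen) (fun x hx => Set.mem_iUnion.2 ⟨⟨x, hx⟩, hxV ⟨x, hx⟩⟩)
  let e := S.equivFin
  refine ⟨S.card, fun i => V (e.symm i).1, fun i => hV _, fun i => hVU _, ?_⟩
  intro x hx
  have := hS hx
  simp only [Set.mem_iUnion, SetLike.mem_coe, exists_prop] at this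
  obtain ⟨y, hyS, hxy⟩ := this
  refine Opens.mem_iSup.2 ⟨e ⟨y, hyS⟩, ?_⟩
  simpa using hxy

/-- **Serre's criterion, non-cohomological form** (EGA II 5.2.1 c') -/
theorem isAffine_of_sections_exact [CompactSpace X]
    (h : ∀ (n : ℕ) (F F'' : X.Modules) (i : F ⟶ FlatMod.freeMod X n) (p : F ⟶ F''),
      Mono i → Epi p → F.IsQuasicoherent → F''.IsQuasicoherent →
        Function.Surjective (p.app ⊤)) :
    IsAffine X := by
  obtain ⟨k, W, hW, -, hcov⟩ := exists_finite_affine_cover (⊤ : X.Opens) isCompact_univ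
  have hcov' : ⨆ i, W i = ⊤ := top_le_iff.1 hcov
  have hepi := epi_sumMap W hcov'
  obtain ⟨m, hm⟩ := h k (∐ B W) (Coh.structureModule X) (incl W) (sumMap W) inferInstance hepi
    inferInstance inferInstance (show Γ(Coh.structureModule X, ⊤) from (1 : Γ(X, ⊤)))
  have haff : IsAffine (↑(⊤ : X.Opens) : Scheme.{u}) :=
    isAffineOpen_of_sumMap_eq_one W ⊤ hW (fun _ => le_top) m hm
  exact IsAffine.of_isIso X.topIso.inv

end Groth.Agent.Helper1.SerreCrit
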