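import Mathlib
import Groth.Prelude.Def_Coh
import Groth.Agent.Lib.Helper1.AmpleAff1
import Groth.Agent.S0009

set_option autoImplicit false
universe u
open CategoryTheory CategoryTheory.Limits AlgebraicGeometry TopologicalSpace Opposite Coherent

namespace Groth.Agent.Helper1.AmpleAff

open Groth.Agent.Helper1.TwForm Groth.Agent.Helper1

variable {X : Scheme.{u}} {L L' : X.Modules}

/-- every quasi-coherent module on a scheme with an ample `L` is a quotient of a sum of large
powers of an inverse `L'` of `L` -/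
theorem exists_epi_sigma_negPow (hL : CohB1.IsAmple L)
    (e : CohB1.tensorMod L L' ≅ Coh.structureModule X) (n₀ : ℕ) (F : X.Modules)
    [F.IsQuasicoherent] :
    ∃ (ι : Type u) (K : ι → X.Modules) (p : (∐ K) ⟶ F),
      (∀ i, ∃ n, n₀ ≤ n ∧ K i = CohB1.tensorPow L' n) ∧ Epi p := by
  haveI : CompactSpace X := hL.2.1
  haveI : QuasiSeparatedSpace X := AmpleLib.quasiSeparatedSpace_of_isAmple hL
  obtain ⟨A, G, i, hm, hq, hft, hepi⟩ := QcSum.exists_epi_sigma_ft F
  choose n hn r ψ hψ using fun a => exists_epi_negPow hL e (G a) ⟨hq a, hft a⟩ n₀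
  let K : (Σ a : A, Fin (r a)) → X.Modules := fun x => CohB1.tensorPow L' (n x.1)
  let p : (∐ K) ⟶ F :=
    Sigma.desc (fun x => Sigma.ι (fun _ : Fin (r x.1) => CohB1.tensorPow L' (n x.1)) x.2 ≫
      ψ x.1 ≫ i x.1)
  refine ⟨Σ a : A, Fin (r a), K, p, fun x => ⟨n x.1, hn x.1, rfl⟩, ?_⟩
  apply Preadditive.epi_of_cancel_zero
  intro Q g hg
  have h1 : ∀ a, i a ≫ g = 0 := by
    intro a
    haveI := hψ a
    rw [← cancel_epi (ψ a), comp_zero]
    apply Sigma.hom_ext
    intro k
    have := congrArg (fun χ => Sigma.ι K ⟨a, k⟩ ≫ χ) hg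
    simp only [p, Sigma.ι_desc_assoc, comp_zero] at this
    rw [comp_zero, ← this]
    simp only [Category.assoc]
  have h2 : Sigma.desc i ≫ g = 0 := by
    apply Sigma.hom_ext
    intro a
    rw [Sigma.ι_desc_assoc, h1, comp_zero]
  exact (cancel_epi (Sigma.desc i)).1 (h2.trans comp_zero.symm)

/-- **S0824**: a scheme with an ample `L` whose inverse has acyclic large powers is affine -/
theorem isAffine_of_acyclic_negPow (hL : CohB1.IsAmple L)
    (e : CohB1.tensorMod L L' ≅ Coh.structureModule X) (n₀ : ℕ)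
    (h : ∀ n : ℕ, n₀ ≤ n → ∀ p : ℕ, 0 < p → Subsingleton (Coh.HH X (CohB1.tensorPow L' n) p)) :
    IsAffine X := by
  haveI : CompactSpace X := hL.2.1
  haveI : QuasiSeparatedSpace X := AmpleLib.quasiSeparatedSpace_of_isAmple hL
  have hL' := isInvertible_of_inverse hL.1 e
  refine Groth.Agent.S0009.result X (fun I i _ hI => ?_)
  haveI : I.IsQuasicoherent := hI
  refine QAffAcyc.acyclic_of_enough (CohDim.exists_bound_of_isAmple hL)
    (fun K => ∃ n, n₀ ≤ n ∧ K = CohB1.tensorPow L' n) ?_ ?_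
    (fun M _ => exists_epi_sigma_negPow hL e n₀ M) I 1 Nat.one_pos
  · rintro K ⟨n, -, rfl⟩
    exact (InvQc.isCoh_of_isInvertible _ (isInvertible_tensorPow hL' n)).1
  · rintro K ⟨n, hn, rfl⟩ p hp
    exact h n hn p hp

end Groth.Agent.Helper1.AmpleAff
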