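import Mathlib
import Groth.Agent.Lib.Helper1.GlobGenQA
import Groth.Agent.Lib.Helper1.SubExt7

set_option autoImplicit false
universe u
open CategoryTheory CategoryTheory.Limits AlgebraicGeometry TopologicalSpace Opposite

namespace Groth.Agent.Helper1.GlobGen

open Groth.Agent.Helper1.QcCech Groth.Agent.Helper1 Groth.Agent.Helper1.SubSh

variable {X : Scheme.{u}}

/-- key step, relative form: if a globally generated module `J` maps to the ideal of the complement
of an affine open `U`, and some section of `J` over `U` maps to `1`, then every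
point of `U` lies in an affine basic open `X_f ≤ U` of a global function -/
theorem exists_basicOpen_of_gg' (U : X.Opens) (hU : IsAffineOpen U) (J : X.Modules)
    (I : X.IdealSheafData) (hrange : Set.range I.subschemeι = (U : Set X)ᶜ)
    (φ : J ⟶ ClSub.idealMod I)
    (hgg : Curv2.IsGloballyGenerated J) (y : Γ(J, U))
    (hy : (ClSub.idealModι I).app U (φ.app U y) = (1 : Γ(X, U)))
    (x : X) (hxU : x ∈ U) :
    ∃ r : Γ(X, ⊤), IsAffineOpen (X.basicOpen r) ∧ x ∈ X.basicOpen r := by
  let j := φ ≫ ClSub.idealModι I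
  have hepi : Epi (ofSections (M := J) id) := (isGloballyGenerated_iff J).1 hgg
  obtain ⟨W, hWU, hxW, hm⟩ := mem_loc_of_epi (M := J) id y x hxU
  -- induction on the span
  have key : ∀ t : Γ(J, W), t ∈ (spanPre (M := J) id).carrier W →
      x ∈ X.basicOpen (show Γ(X, W) from j.app W t) →
      ∃ k : Γ(J, ⊤), x ∈ X.basicOpen (show Γ(X, ⊤) from j.app ⊤ k) := by
    intro t ht
    induction ht using Submodule.span_induction with
    | mem t ht =>
      obtain ⟨k, rfl⟩ := ht
      intro hx
      refine ⟨k, ?_⟩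
      rw [QcExt.app_res] at hx
      change x ∈ X.basicOpen (X.presheaf.map (homOfLE le_top).op (j.app ⊤ k)) at hx
      rw [Scheme.basicOpen_res] at hx
      exact hx.2
    | zero =>
      intro hx
      rw [map_zero] at hx
      change x ∈ X.basicOpen (0 : Γ(X, W)) at hx
      rw [Scheme.basicOpen_zero] at hx
      exact hx.elim
    | add a b _ _ ha hb =>
      intro hx
      rw [map_add] at hx
      have := X.basicOpen_add_le (show Γ(X, W) from j.app W a) (show Γ(X, W) from j.app W b) hx
      rcases this with h1 | h1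
      · exact ha h1
      · exact hb h1
    | smul r a _ ha =>
      intro hx
      rw [Scheme.Modules.Hom.app_smul] at hx
      change x ∈ X.basicOpen (r * (show Γ(X, W) from j.app W a)) at hx
      rw [Scheme.basicOpen_mul] at hx
      exact ha hx.2
  have hy' : j.app U y = (1 : Γ(X, U)) := hy
  have h1 : x ∈ X.basicOpen (show Γ(X, W) from j.app W (res J hWU y)) := by
    rw [QcExt.app_res, hy']
    change x ∈ X.basicOpen (X.presheaf.map (homOfLE hWU).op (1 : Γ(X, U)))
    rw [map_one, Scheme.basicOpen_of_isUnit _ isUnit_one]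
    exact hxW
  obtain ⟨k, hk⟩ := key _ hm h1
  set f : Γ(X, ⊤) := j.app ⊤ k with hf
  refine ⟨f, ?_, hk⟩
  -- `X_f ≤ U`
  have hfU : X.basicOpen f ≤ U := by
    intro z hz
    by_contra hzU
    have : z ∈ Set.range I.subschemeι := by rw [hrange]; exact hzU
    obtain ⟨z', rfl⟩ := this
    have h0 : (I.subschemeι.app ⊤).hom f = 0 := IdealModL.toSubscheme_ι I ⊤ (φ.app ⊤ k)
    have h2 : z' ∈ I.subschemeι ⁻¹ᵁ X.basicOpen f := hz
    rw [Scheme.preimage_basicOpen, h0, Scheme.basicOpen_zero] at h2
    exact h2
  have e : X.basicOpen f = X.basicOpen (X.presheaf.map (homOfLE (le_top : U ≤ ⊤)).op f) := by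
    rw [Scheme.basicOpen_res]
    exact (inf_eq_right.2 hfU).symm
  rw [e]
  exact hU.basicOpen _

/-- **a quasi-compact quasi-separated scheme on which all quasi-coherent ideals of finite type are
globally generated is quasi-affine** -/
theorem isQuasiAffine_of_gg_ft [CompactSpace X] [QuasiSeparatedSpace X]
    (h : ∀ (J : X.Modules) (i : J ⟶ Coh.structureModule X), Mono i → J.IsQuasicoherent →
      SheafOfModules.IsFiniteType.{u, u, u} J → Curv2.IsGloballyGenerated J) :
    X.IsQuasiAffine := by
  refine Scheme.IsQuasiAffine.of_forall_exists_mem_basicOpen X fun x => ?_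
  obtain ⟨_, ⟨U, hU, rfl⟩, hxU, -⟩ :=
    X.isBasis_affineOpens.exists_subset_of_mem_open (Set.mem_univ x) isOpen_univ
  set I := Scheme.IdealSheafData.vanishingIdeal ⟨(U : Set X)ᶜ, U.isOpen.isClosed_compl⟩ with hI
  have hrange : Set.range I.subschemeι = (U : Set X)ᶜ := by
    rw [I.range_subschemeι]
    simp [hI]
  have hpre : I.subschemeι ⁻¹ᵁ U = ⊥ := by
    ext z
    simp only [Scheme.Hom.mem_preimage, SetLike.mem_coe, Opens.coe_bot, Set.mem_empty_iff_false,
      iff_false]
    intro hz
    have : I.subschemeι z ∈ Set.range I.subschemeι := ⟨z, rfl⟩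
    rw [hrange] at this
    exact this hz
  have hsub : Subsingleton Γ(I.subscheme, I.subschemeι ⁻¹ᵁ U) := by
    rw [hpre]
    infer_instance
  obtain ⟨y, hy⟩ := IdealModL.exists_of_app_eq_zero I U 1 (Subsingleton.elim _ _)
  obtain ⟨G', hG', hGU⟩ := LocalSub.exists_extension_of_qcqs (F := ClSub.idealMod I) U hU.isCompact
    (LocalSub.genOn U {y}) (LocalSub.genOn_singleton_isQcFtOn hU _)
  have hs : y ∈ G'.carrier U := by
    rw [hGU U le_rfl]
    exact LocalSub.mem_genOn_singleton _
  have hm : Mono (G'.ι ≫ ClSub.idealModι I) := mono_comp _ _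
  have hgg := h G'.obj (G'.ι ≫ ClSub.idealModι I) hm (G'.isQuasicoherent_obj hG'.isQcOn)
    (G'.isFiniteType_obj hG')
  exact exists_basicOpen_of_gg' U hU G'.obj I hrange G'.ι hgg (G'.mkSec y hs) hy x hxU

end Groth.Agent.Helper1.GlobGen
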