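import Mathlib
import Groth.Agent.Lib.Helper1.TwForm5

set_option autoImplicit false
universe u
open CategoryTheory CategoryTheory.Limits AlgebraicGeometry TopologicalSpace Opposite

namespace Groth.Agent.Helper1.TwForm

open Groth.Agent.Helper1.QcCech Groth.Agent.Helper1.SubSh Groth.Agent.Helper1.LGen
open Groth.Agent.Helper1.TmulLib Groth.Agent.Helper1 Groth.Agent.Helper1.TwistSec
open Groth.Agent.Helper1.TensGen

variable {X : Scheme.{u}}

namespace Tw

variable {L₁ L₂ F F' G G' : X.Modules} {d₁ d₂ : ℤ}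
variable (φ : F ⟶ F') (T : Tw L₁ L₂ F d₁ d₂ G) (T' : Tw L₁ L₂ F' d₁ d₂ G')

/-- the map between two forms of the same type induced by a morphism, over a framed open -/
noncomputable def transOf (W : X.Opens) (f : Frame L₁ L₂ W) (g : Γ(G, W)) : Γ(G', W) :=
  T'.θ W f (φ.app W (T.inv W f g))

theorem transOf_θ (W : X.Opens) (f : Frame L₁ L₂ W) (m : Γ(F, W)) :
    transOf φ T T' W f (T.θ W f m) = T'.θ W f (φ.app W m) := by
  rw [transOf, inv_θ]

theorem transOf_smul₁ (W : X.Opens) (f : Frame L₁ L₂ W) (u : (Γ(X, W))ˣ) (g : Γ(G, W)) :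
    transOf φ T T' W (f.smul₁ u) g = transOf φ T T' W f g := by
  have h1 : T.inv W f g = ((u ^ d₁ : (Γ(X, W))ˣ) : Γ(X, W)) • T.inv W (f.smul₁ u) g := by
    apply T.inv_eq
    rw [T.smul, ← T.unit₁, θ_inv]
  rw [transOf, transOf, h1, Scheme.Modules.Hom.app_smul, T'.smul, T'.unit₁]

theorem transOf_smul₂ (W : X.Opens) (f : Frame L₁ L₂ W) (u : (Γ(X, W))ˣ) (g : Γ(G, W)) :
    transOf φ T T' W (f.smul₂ u) g = transOf φ T T' W f g := by
  have h1 : T.inv W f g = ((u ^ d₂ : (Γ(X, W))ˣ) : Γ(X, W)) • T.inv W (f.smul₂ u) g := by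
    apply T.inv_eq
    rw [T.smul, ← T.unit₂, θ_inv]
  rw [transOf, transOf, h1, Scheme.Modules.Hom.app_smul, T'.smul, T'.unit₂]

theorem transOf_indep (W : X.Opens) (f f' : Frame L₁ L₂ W) (g : Γ(G, W)) :
    transOf φ T T' W f g = transOf φ T T' W f' g := by
  obtain ⟨u₁, u₂, rfl⟩ := f.exists_units f'
  rw [transOf_smul₂, transOf_smul₁]

theorem transOf_res (W V : X.Opens) (h : V ≤ W) (f : Frame L₁ L₂ W) (g : Γ(G, W)) :
    QcCech.res G' h (transOf φ T T' W f g) = transOf φ T T' V (f.res h) (QcCech.res G h g) := by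
  have h1 : QcCech.res G h g = T.θ V (f.res h) (QcCech.res F h (T.inv W f g)) := by
    rw [← T.res, θ_inv]
  rw [h1, transOf_θ, transOf, T'.res, QcExt.app_res]

theorem transOf_add (W : X.Opens) (f : Frame L₁ L₂ W) (g g' : Γ(G, W)) :
    transOf φ T T' W f (g + g') = transOf φ T T' W f g + transOf φ T T' W f g' := by
  have h1 : T.inv W f (g + g') = T.inv W f g + T.inv W f g' := by
    apply T.inv_eq
    rw [T.add, θ_inv, θ_inv]
  rw [transOf, h1, map_add, T'.add]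
  rfl

theorem transOf_smul (W : X.Opens) (f : Frame L₁ L₂ W) (r : Γ(X, W)) (g : Γ(G, W)) :
    transOf φ T T' W f (r • g) = r • transOf φ T T' W f g := by
  have h1 : T.inv W f (r • g) = r • T.inv W f g := by
    apply T.inv_eq
    rw [T.smul, θ_inv]
  rw [transOf, h1, Scheme.Modules.Hom.app_smul, T'.smul]
  rfl

theorem exists_glueOf (hloc : LocFrame L₁ L₂) (U : X.Opens) (g : Γ(G, U)) :
    ∃ g' : Γ(G', U), ∀ (W : X.Opens) (hW : W ≤ U) (f : Frame L₁ L₂ W),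
      QcCech.res G' hW g' = transOf φ T T' W f (QcCech.res G hW g) := by
  have h1 : ∀ x : U, ∃ (W : X.Opens) (_ : W ≤ U), x.1 ∈ W ∧ Nonempty (Frame L₁ L₂ W) := by
    intro x
    obtain ⟨W, hxW, ⟨f⟩⟩ := hloc x.1
    exact ⟨W ⊓ U, inf_le_right, ⟨hxW, x.2⟩, ⟨f.res inf_le_left⟩⟩
  choose W hW hxW hf using h1
  let f := fun x => (hf x).some
  obtain ⟨g', hg'⟩ := glue_of_compatible G' W U hW
    (fun x hx => Opens.mem_iSup.2 ⟨⟨x, hx⟩, hxW ⟨x, hx⟩⟩)
    (fun x => transOf φ T T' (W x) (f x) (QcCech.res G (hW x) g)) (by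
      intro i j
      rw [transOf_res, transOf_res, QcCech.res_res, QcCech.res_res]
      exact transOf_indep φ T T' _ _ _ _)
  refine ⟨g', fun W' hW' f' => ?_⟩
  apply eq_of_locally
  intro x hx
  have hxU : x ∈ U := hW' hx
  refine ⟨W' ⊓ W ⟨x, hxU⟩, inf_le_left, ⟨hx, hxW ⟨x, hxU⟩⟩, ?_⟩
  rw [transOf_res, QcCech.res_res, QcCech.res_res]
  have e1 : QcCech.res G' (inf_le_left.trans hW' : W' ⊓ W ⟨x, hxU⟩ ≤ U) g' =
      QcCech.res G' (inf_le_right : W' ⊓ W ⟨x, hxU⟩ ≤ W ⟨x, hxU⟩)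
        (QcCech.res G' (hW ⟨x, hxU⟩) g') := by
    rw [QcCech.res_res]
  rw [e1, hg', transOf_res, QcCech.res_res]
  exact transOf_indep φ T T' _ _ _ _

/-- the map on sections -/
noncomputable def Ψ (hloc : LocFrame L₁ L₂) (U : X.Opens) (g : Γ(G, U)) : Γ(G', U) :=
  (exists_glueOf φ T T' hloc U g).choose

theorem Ψ_spec (hloc : LocFrame L₁ L₂) (U : X.Opens) (g : Γ(G, U)) (W : X.Opens) (hW : W ≤ U)
    (f : Frame L₁ L₂ W) :
    QcCech.res G' hW (Ψ φ T T' hloc U g) = transOf φ T T' W f (QcCech.res G hW g) :=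
  (exists_glueOf φ T T' hloc U g).choose_spec W hW f

theorem Ψ_add (hloc : LocFrame L₁ L₂) (U : X.Opens) (g g' : Γ(G, U)) :
    Ψ φ T T' hloc U (g + g') = Ψ φ T T' hloc U g + Ψ φ T T' hloc U g' := by
  apply eq_of_framed hloc
  intro W hW f
  rw [map_add, Ψ_spec φ T T' hloc U _ W hW f, Ψ_spec φ T T' hloc U _ W hW f,
    Ψ_spec φ T T' hloc U _ W hW f, map_add, transOf_add]

theorem Ψ_smul (hloc : LocFrame L₁ L₂) (U : X.Opens) (r : Γ(X, U)) (g : Γ(G, U)) :
    Ψ φ T T' hloc U (r • g) = r • Ψ φ T T' hloc U g := by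
  apply eq_of_framed hloc
  intro W hW f
  rw [QcCech.res_smul, Ψ_spec φ T T' hloc U _ W hW f, Ψ_spec φ T T' hloc U _ W hW f,
    QcCech.res_smul, transOf_smul]

theorem Ψ_res (hloc : LocFrame L₁ L₂) (U V : X.Opens) (h : V ≤ U) (g : Γ(G, U)) :
    QcCech.res G' h (Ψ φ T T' hloc U g) = Ψ φ T T' hloc V (QcCech.res G h g) := by
  apply eq_of_framed hloc
  intro W hW f
  rw [QcCech.res_res, Ψ_spec φ T T' hloc U _ W (hW.trans h) f, Ψ_spec φ T T' hloc V _ W hW f,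
    QcCech.res_res]

/-- **the morphism between two forms of the same type induced by a morphism** -/
noncomputable def map (hloc : LocFrame L₁ L₂) : G ⟶ G' :=
  homMk G G' (Ψ φ T T' hloc) (Ψ_add φ T T' hloc) (Ψ_smul φ T T' hloc) (Ψ_res φ T T' hloc)

theorem map_θ (hloc : LocFrame L₁ L₂) (W : X.Opens) (f : Frame L₁ L₂ W) (m : Γ(F, W)) :
    (map φ T T' hloc).app W (T.θ W f m) = T'.θ W f (φ.app W m) := by
  have := Ψ_spec φ T T' hloc W (T.θ W f m) W le_rfl f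
  rwa [QcCech.res_self, QcCech.res_self, transOf_θ] at this

end Tw

end Groth.Agent.Helper1.TwForm
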