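import Mathlib
import Groth.Agent.Lib.Helper1.TwMap
import Groth.Agent.Lib.Helper1.AmpleLib4
import Groth.Agent.Lib.Helper1.QAft
import Groth.Agent.Lib.Helper1.IdealModL

set_option autoImplicit false
universe u
open CategoryTheory CategoryTheory.Limits AlgebraicGeometry TopologicalSpace Opposite

namespace Groth.Agent.Helper1.AmpleLib

open Groth.Agent.Helper1.QcCech Groth.Agent.Helper1.SubSh Groth.Agent.Helper1.LGen
open Groth.Agent.Helper1.TmulLib Groth.Agent.Helper1 Groth.Agent.Helper1.TwistSec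
open Groth.Agent.Helper1.TensGen Groth.Agent.Helper1.TwForm

variable {X : Scheme.{u}}

/-- if `M` is globally generated and `ψ : M ⟶ N` hits a local generator of `N` near `x`, then
some global section of `M` maps to a section of `N` generating at `x` -/
theorem exists_section_of_gg_map {M N : X.Modules} (hg : Curv2.IsGloballyGenerated M)
    (ψ : M ⟶ N) {W : X.Opens} {b : Γ(N, W)} (hb : IsGen N W b) (t₀ : Γ(M, W))
    (ht₀ : ψ.app W t₀ = b) (x : X) (hxW : x ∈ W) :
    ∃ σ : Γ(M, ⊤), x ∈ CohB1.genLocus N (TwistAmple.homOfSec N (ψ.app ⊤ σ)) := by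
  obtain ⟨ι, p, hp⟩ := hg
  let σ : ι → Γ(M, ⊤) := fun i => (M.freeHomEquiv p i).1 (op ⊤)
  have hp' : Epi (GlobGen.ofSections σ) := by
    rw [← GlobGen.eq_ofSections p]
    exact hp
  obtain ⟨O', hO', hxO', hm⟩ := GlobGen.mem_loc_of_epi σ (U := W) t₀ x hxW
  have hb' := hb.res hO'
  choose φ hφ using fun i => hb'.exists_coeff (QcCech.res N (le_top : O' ≤ ⊤) (ψ.app ⊤ (σ i)))
  let I : Ideal Γ(X, O') :=
    Ideal.comap (X.presheaf.germ O' x hxO').hom (IsLocalRing.maximalIdeal _)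
  have hI : ∀ f : Γ(X, O'), f ∈ I ↔ x ∉ X.basicOpen f := by
    intro f
    rw [Scheme.mem_basicOpen _ _ _ hxO']
    exact Iff.rfl
  have key : ∀ z ∈ (GlobGen.spanPre σ).carrier O',
      ∃ c ∈ Ideal.span (Set.range φ), ψ.app O' z = c • QcCech.res N hO' b := by
    intro z hz
    induction hz using Submodule.span_induction with
    | mem z hz =>
      obtain ⟨i, rfl⟩ := hz
      refine ⟨φ i, Ideal.subset_span ⟨i, rfl⟩, ?_⟩
      rw [hφ i, QcExt.app_res]
    | zero => exact ⟨0, Ideal.zero_mem _, by rw [zero_smul, map_zero]⟩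
    | add y z _ _ hy hz =>
      obtain ⟨c, hc, hy⟩ := hy
      obtain ⟨c', hc', hz⟩ := hz
      exact ⟨c + c', Ideal.add_mem _ hc hc', by rw [add_smul, map_add, hy, hz]⟩
    | smul r z _ hz =>
      obtain ⟨c, hc, hz⟩ := hz
      exact ⟨r * c, Ideal.mul_mem_left _ _ hc, by
        rw [mul_smul, Scheme.Modules.Hom.app_smul, hz]⟩
  obtain ⟨c, hc, hcb⟩ := key _ hm
  rw [QcExt.app_res, ht₀] at hcb
  have hc1 : c = 1 := by
    apply (IsGen.bijective_self hb').1
    change c • QcCech.res N hO' b = (1 : Γ(X, O')) • QcCech.res N hO' b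
    rw [one_smul, ← hcb]
  have hex : ∃ i, x ∈ X.basicOpen (φ i) := by
    by_contra hcon
    rw [not_exists] at hcon
    have h1 : Ideal.span (Set.range φ) ≤ I := by
      rw [Ideal.span_le]
      rintro _ ⟨i, rfl⟩
      exact (hI _).2 (hcon i)
    have h2 : (1 : Γ(X, O')) ∈ I := hc1 ▸ h1 hc
    have h3 := (hI 1).1 h2
    apply h3
    rw [Scheme.basicOpen_of_isUnit _ isUnit_one]
    exact hxO'
  obtain ⟨i, hi⟩ := hex
  refine ⟨σ i, ?_⟩
  have h4 := genLocus_inf_eq_basicOpen (TwistAmple.homOfSec N (ψ.app ⊤ (σ i))) hb' (φ i)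
    (by rw [secVal_homOfSec]; exact hφ i)
  have h5 : x ∈ CohB1.genLocus N (TwistAmple.homOfSec N (ψ.app ⊤ (σ i))) ⊓ O' := by
    rw [h4]; exact hi
  exact h5.1

/-- key step of the ampleness criterion: if `J ⊗ L^n` is globally generated, `J` maps to the ideal
of the complement of an affine open `U` trivializing `L`, and some section of `J` over `U` maps to
`1`, then each point of `U` lies in an affine `X_s ≤ U` with `s ∈ Γ(X, L^n)` -/
theorem exists_genLocus_of_gg {L : X.Modules} (hL : PicF.IsInvertible L) (U : X.Opens)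
    (hU : IsAffineOpen U) (a : Γ(L, U)) (ha : IsGen L U a)
    (J : X.Modules) (I : X.IdealSheafData) (hrange : Set.range I.subschemeι = (U : Set X)ᶜ)
    (φ : J ⟶ ClSub.idealMod I) (n : ℕ)
    (hgg : Curv2.IsGloballyGenerated (CohB1.tensorMod J (CohB1.tensorPow L n)))
    (y : Γ(J, U)) (hy : (ClSub.idealModι I).app U (φ.app U y) = (1 : Γ(X, U)))
    (x : X) (hxU : x ∈ U) :
    ∃ s : Coh.structureModule X ⟶ CohB1.tensorPow L n,
      x ∈ CohB1.genLocus _ s ∧ CohB1.genLocus _ s ≤ U ∧ IsAffineOpen (CohB1.genLocus _ s) := by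
  have hloc := locFrame_of_isInvertible hL hL
  let i : J ⟶ Coh.structureModule X := φ ≫ ClSub.idealModι I
  let T := (Tw.self L L J).tensorR ((Tw.fst L L).pow n)
  let T' := ((Tw.fst L L).pow n).cast (zero_add _).symm (zero_add _).symm
  let ψ := Tw.map i T T' hloc
  let fU : Frame L L U := ⟨a, a, ha, ha⟩
  have hψ : ψ.app U (T.θ U fU y) = T'.gen U fU := by
    rw [Tw.map_θ]
    have : i.app U y = one' U := hy
    rw [this]
    rfl
  obtain ⟨σ, hσ⟩ := exists_section_of_gg_map hgg ψ (T'.isGen_gen U fU) (T.θ U fU y) hψ x hxU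
  set s := TwistAmple.homOfSec (CohB1.tensorPow L n) (ψ.app ⊤ σ) with hs
  have hle : CohB1.genLocus _ s ≤ U := by
    intro z hz
    by_contra hzU
    obtain ⟨W, hzW, ⟨f⟩⟩ := hloc z
    obtain ⟨j', hj'⟩ := (T.bij W f).2 (QcCech.res _ (le_top : W ≤ ⊤) σ)
    have h1 : (show Γ(X, W) from i.app W j') • T'.gen W f = secVal s W := by
      rw [hs, secVal_homOfSec, ← QcExt.app_res, ← hj', Tw.map_θ, ← Tw.θ_eq_smul_gen]
    have h2 := genLocus_inf_eq_basicOpen s (T'.isGen_gen W f) _ h1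
    have h3 : z ∈ X.basicOpen (show Γ(X, W) from i.app W j') := by
      rw [← h2]; exact ⟨hz, hzW⟩
    have : z ∈ Set.range I.subschemeι := by rw [hrange]; exact hzU
    obtain ⟨z', rfl⟩ := this
    have h0 : (I.subschemeι.app W).hom (show Γ(X, W) from i.app W j') = 0 :=
      IdealModL.toSubscheme_ι I W (φ.app W j')
    have h4 : z' ∈ I.subschemeι ⁻¹ᵁ X.basicOpen (show Γ(X, W) from i.app W j') := h3
    rw [Scheme.preimage_basicOpen, h0, Scheme.basicOpen_zero] at h4
    exact h4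
  exact ⟨s, hσ, hle, isAffineOpen_genLocus_of_le (isInvertible_tensorPow hL n) s hU hle⟩

/-- **ampleness criterion (EGA II 4.5.5)**: on a quasi-compact quasi-separated scheme, if for each
quasi-coherent ideal `J` of finite type some positive twist `J ⊗ L^n` is globally generated, then
`L` is ample -/
theorem isAmple_of_twisted_ideals [CompactSpace X] [QuasiSeparatedSpace X] {L : X.Modules}
    (hL : PicF.IsInvertible L)
    (h : ∀ (J : X.Modules) (i : J ⟶ Coh.structureModule X), Mono i → J.IsQuasicoherent →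
      SheafOfModules.IsFiniteType.{u, u, u} J →
      ∃ n : ℕ, Curv2.IsGloballyGenerated (CohB1.tensorMod J (CohB1.tensorPow L (n + 1)))) :
    CohB1.IsAmple L := by
  refine ⟨hL, inferInstance, fun x => ?_⟩
  obtain ⟨W, a, hxW, ha⟩ := exists_isGen hL x
  obtain ⟨_, ⟨U, hU, rfl⟩, hxU, hUW⟩ :=
    X.isBasis_affineOpens.exists_subset_of_mem_open hxW W.isOpen
  have hUW' : U ≤ W := hUW
  set I := Scheme.IdealSheafData.vanishingIdeal ⟨(U : Set X)ᶜ, U.isOpen.isClosed_compl⟩ with hI
  have hrange : Set.range I.subschemeι = (U : Set X)ᶜ := by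
    rw [I.range_subschemeι]
    simp [hI]
  have hpre : I.subschemeι ⁻¹ᵁ U = ⊥ := by
    ext z
    simp only [Scheme.Hom.mem_preimage, SetLike.mem_coe, Opens.coe_bot, Set.mem_empty_iff_false,
      iff_false]
    intro hz
    have : I.subschemeι z ∈ Set.range I.subschemeι := ⟨z, rfl⟩
    rw [hrange] at this
    exact this hz
  have hsub : Subsingleton Γ(I.subscheme, I.subschemeι ⁻¹ᵁ U) := by
    rw [hpre]
    infer_instance
  obtain ⟨y, hy⟩ := IdealModL.exists_of_app_eq_zero I U 1 (Subsingleton.elim _ _)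
  obtain ⟨G', hG', hGU⟩ := LocalSub.exists_extension_of_qcqs (F := ClSub.idealMod I) U hU.isCompact
    (LocalSub.genOn U {y}) (LocalSub.genOn_singleton_isQcFtOn hU _)
  have hs : y ∈ G'.carrier U := by
    rw [hGU U le_rfl]
    exact LocalSub.mem_genOn_singleton _
  have hm : Mono (G'.ι ≫ ClSub.idealModι I) := mono_comp _ _
  obtain ⟨n, hgg⟩ := h G'.obj (G'.ι ≫ ClSub.idealModι I) hm (G'.isQuasicoherent_obj hG'.isQcOn)
    (G'.isFiniteType_obj hG')
  obtain ⟨s, hxs, -, haff⟩ := exists_genLocus_of_gg hL U hU (QcCech.res L hUW' a) (ha.res hUW')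
    G'.obj I hrange G'.ι (n + 1) hgg (G'.mkSec y hs) hy x hxU
  exact ⟨n, s, hxs, haff⟩

end Groth.Agent.Helper1.AmpleLib
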