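import Mathlib
import Groth.Agent.Lib.Helper1.AmpleCrit
import Groth.Agent.Lib.Helper1.SerreCrit
import Groth.Agent.Lib.Helper1.H1Surj
import Groth.Agent.Lib.Helper1.SubExt8
import Groth.Agent.Lib.Helper1.FtLocal

set_option autoImplicit false
universe u
open CategoryTheory CategoryTheory.Limits AlgebraicGeometry TopologicalSpace Opposite

namespace Groth.Agent.Helper1.AmpleH1

open Groth.Agent.Helper1.QcCech Groth.Agent.Helper1.SubSh Groth.Agent.Helper1.LGen
open Groth.Agent.Helper1.TmulLib Groth.Agent.Helper1 Groth.Agent.Helper1.TwistSec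
open Groth.Agent.Helper1.TensGen Groth.Agent.Helper1.TwForm Groth.Agent.Helper1.AmpleLib
open Groth.Agent.Helper1.SerreCrit

variable {X : Scheme.{u}}

/-- twisting preserves monomorphisms -/
theorem mono_twMap {L₁ L₂ F F' G G' : X.Modules} {d₁ d₂ : ℤ} (φ : F ⟶ F') [Mono φ]
    (T : Tw L₁ L₂ F d₁ d₂ G) (T' : Tw L₁ L₂ F' d₁ d₂ G') (hloc : LocFrame L₁ L₂) :
    Mono (Tw.map φ T T' hloc) := by
  apply SubSh.mono_of_app_injective
  intro O
  rw [injective_iff_map_eq_zero]
  intro g hg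
  apply Tw.eq_of_framed hloc
  intro W hW f
  obtain ⟨m, hm⟩ := (T.bij W f).2 (res G hW g)
  have h1 : (Tw.map φ T T' hloc).app W (res G hW g) = 0 := by
    rw [QcExt.app_res, hg, map_zero]
  rw [← hm, Tw.map_θ] at h1
  have h2 : φ.app W m = 0 := (T'.bij W f).1 (h1.trans (T'.θ_zero W f).symm)
  have h3 : m = 0 := FtLocal.app_injective_of_mono φ W (h2.trans (map_zero _).symm)
  rw [map_zero, ← hm, h3, T.θ_zero]

/-- the open complement of a closed point -/
def compl (x : X) (hx : IsClosed ({x} : Set X)) : X.Opens := ⟨{x}ᶜ, hx.isOpen_compl⟩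

/-- **key step**: at a closed point `x` of an affine open `U` trivializing `L`, vanishing of
`H¹` of the twisted ideal of `(X ∖ U) ∪ {x}` produces a section `s` with `x ∈ X_s ⊆ U`. -/
theorem exists_genLocus_of_H1 {L : X.Modules} (hL : PicF.IsInvertible L) (U : X.Opens)
    (hU : IsAffineOpen U) (a : Γ(L, U)) (ha : IsGen L U a) (x : X) (hxU : x ∈ U)
    (hx : IsClosed ({x} : Set X)) (n : ℕ)
    (h1 : Subsingleton (Coh.HH X (CohB1.tensorMod
      (ClSub.idealMod (complIdeal (U ⊓ compl x hx))) (CohB1.tensorPow L n)) 1)) :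
    ∃ s : Coh.structureModule X ⟶ CohB1.tensorPow L n,
      x ∈ CohB1.genLocus _ s ∧ CohB1.genLocus _ s ≤ U ∧ IsAffineOpen (CohB1.genLocus _ s) := by
  have hloc := locFrame_of_isInvertible hL hL
  set V₀ : X.Opens := compl x hx with hV₀
  set W' : X.Opens := U ⊓ V₀ with hW'
  set I' := complIdeal W' with hI'
  let J' := ClSub.idealMod I'
  let i : J' ⟶ Coh.structureModule X := ClSub.idealModι I'
  have hi : Mono i := inferInstance
  let T := (Tw.self L L J').tensorR ((Tw.fst L L).pow n)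
  let T' := ((Tw.fst L L).pow n).cast (zero_add _).symm (zero_add _).symm
  let ψ := Tw.map i T T' hloc
  have hψ : Mono ψ := mono_twMap i T T' hloc
  let π := cokernel.π ψ
  let S : ShortComplex X.Modules := ShortComplex.mk ψ π (cokernel.condition ψ)
  have hSx : S.Exact := ShortComplex.exact_of_g_is_cokernel _ (cokernelIsCokernel ψ)
  have : Mono S.f := hψ
  have : Epi S.g := inferInstanceAs (Epi (cokernel.π ψ))
  have hS : S.ShortExact := { exact := hSx }
  have hsurj : Function.Surjective (π.app ⊤) := H1Surj.app_top_surjective_of_H1 hS h1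
  have hxV₀ : x ∉ V₀ := fun h => h rfl
  have hxW' : x ∉ W' := fun h => hxV₀ h.2
  let fU : Frame L L U := ⟨a, a, ha, ha⟩
  let gU := T'.gen U fU
  -- sections of the ideal vanish at `x`
  have hvan : ∀ (V : X.Opens) (b : Γ(J', V)), X.basicOpen (show Γ(X, V) from i.app V b) ≤ W' :=
    fun V b => basicOpen_le W' V b
  -- `ψ` hits the generator over opens inside `W'`
  have hhit : ∀ (V : X.Opens) (hVW : V ≤ W') (f : Frame L L V),
      ∃ t : Γ(CohB1.tensorMod J' (CohB1.tensorPow L n), V), ψ.app V t = T'.gen V f := by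
    intro V hVW f
    obtain ⟨y, hy⟩ := exists_one W' V hVW
    refine ⟨T.θ V f y, ?_⟩
    rw [Tw.map_θ]
    have : i.app V y = one' V := hy
    rw [this]
    rfl
  -- the global section of the cokernel
  let Wc : Bool → X.Opens := fun b => if b then U else V₀
  have hcov : (⊤ : X.Opens) ≤ ⨆ b, Wc b := by
    intro z _
    by_cases hz : z = x
    · exact Opens.mem_iSup.2 ⟨true, by simpa [Wc, hz] using hxU⟩
    · exact Opens.mem_iSup.2 ⟨false, by simpa [Wc, compl, hV₀] using hz⟩
  let sf : ∀ b, Γ(cokernel ψ, Wc b) := fun b =>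
    match b with
    | true => π.app U gU
    | false => 0
  have hzero : res (cokernel ψ) (inf_le_left : U ⊓ V₀ ≤ U) (π.app U gU) = 0 := by
    rw [← QcExt.app_res, Tw.res_gen]
    obtain ⟨t, ht⟩ := hhit (U ⊓ V₀) le_rfl (fU.res inf_le_left)
    rw [← ht]
    exact congrArg (fun χ => Scheme.Modules.Hom.app χ _ t) (cokernel.condition ψ)
  obtain ⟨c, hc⟩ := glue_of_compatible (cokernel ψ) Wc ⊤ (fun _ => le_top) hcov sf (by
    intro b b'
    cases b <;> cases b'
    · rfl
    · change res _ _ (0 : Γ(cokernel ψ, V₀)) = res _ _ (π.app U gU)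
      rw [map_zero]
      have h2 := hzero
      have h3 : res (cokernel ψ) (inf_le_right : V₀ ⊓ U ≤ U) (π.app U gU) =
          res (cokernel ψ) (le_of_eq (inf_comm V₀ U) : V₀ ⊓ U ≤ U ⊓ V₀)
            (res (cokernel ψ) (inf_le_left : U ⊓ V₀ ≤ U) (π.app U gU)) := by
        rw [QcCech.res_res]
      rw [h3, h2, map_zero]
    · change res _ _ (π.app U gU) = res _ _ (0 : Γ(cokernel ψ, V₀))
      rw [map_zero]
      exact hzero
    · rfl)
  have hcU : res (cokernel ψ) (le_top : U ≤ ⊤) c = π.app U gU := hc true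
  have hcV : res (cokernel ψ) (le_top : V₀ ≤ ⊤) c = 0 := hc false
  obtain ⟨s₀, hs₀⟩ := hsurj c
  set s := TwistAmple.homOfSec (CohB1.tensorPow L n) s₀ with hs
  -- `X_s ≤ U`
  have hle : CohB1.genLocus _ s ≤ U := by
    intro z hz
    by_contra hzU
    have hzx : z ≠ x := fun h => hzU (h ▸ hxU)
    have hzV₀ : z ∈ V₀ := hzx
    have h0 : π.app V₀ (res _ (le_top : V₀ ≤ ⊤) s₀) = 0 := by
      rw [QcExt.app_res, hs₀, hcV]
    obtain ⟨σ, hσ⟩ := QcAbel.app_exact' (S := S) hSx V₀ _ h0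
    obtain ⟨W, hzW, ⟨f⟩⟩ := hloc z
    let W₁ := W ⊓ V₀
    let f₁ : Frame L L W₁ := f.res inf_le_left
    obtain ⟨j', hj'⟩ := (T.bij W₁ f₁).2 (res _ (inf_le_right : W₁ ≤ V₀) σ)
    have h1 : (show Γ(X, W₁) from i.app W₁ j') • T'.gen W₁ f₁ = secVal s W₁ := by
      rw [hs, secVal_homOfSec, ← Tw.θ_eq_smul_gen, ← Tw.map_θ (hloc := hloc), hj']
      change ψ.app W₁ _ = _
      rw [QcExt.app_res]
      have : ψ.app V₀ σ = res _ (le_top : V₀ ≤ ⊤) s₀ := hσ
      rw [this, QcCech.res_res]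
    have h2 := genLocus_inf_eq_basicOpen s (T'.isGen_gen W₁ f₁) _ h1
    have h3 : z ∈ X.basicOpen (show Γ(X, W₁) from i.app W₁ j') := by
      rw [← h2]; exact ⟨hz, hzW, hzV₀⟩
    exact hzU (hvan W₁ j' h3).1
  -- `x ∈ X_s`
  have hmem : x ∈ CohB1.genLocus _ s := by
    have h0 : π.app U (res _ (le_top : U ≤ ⊤) s₀ - gU) = 0 := by
      rw [map_sub, QcExt.app_res, hs₀, hcU, sub_self]
    obtain ⟨σ, hσ⟩ := QcAbel.app_exact' (S := S) hSx U _ h0
    obtain ⟨j', hj'⟩ := (T.bij U fU).2 σ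
    have hσ' : ψ.app U σ = res _ (le_top : U ≤ ⊤) s₀ - gU := hσ
    have h1 : ((1 : Γ(X, U)) + (show Γ(X, U) from i.app U j')) • T'.gen U fU = secVal s U := by
      rw [hs, secVal_homOfSec, add_smul, one_smul, ← Tw.θ_eq_smul_gen,
        ← Tw.map_θ (hloc := hloc), hj']
      change _ + ψ.app U σ = _
      rw [hσ']
      abel
    have h2 := genLocus_inf_eq_basicOpen s (T'.isGen_gen U fU) _ h1
    have h3 : x ∈ X.basicOpen ((1 : Γ(X, U)) + (show Γ(X, U) from i.app U j')) := by
      rw [Scheme.mem_basicOpen _ _ _ hxU, map_add, map_one]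
      have h4 : ¬ IsUnit ((X.presheaf.germ U x hxU).hom (show Γ(X, U) from i.app U j')) := by
        rw [← Scheme.mem_basicOpen _ _ _ hxU]
        exact fun h => hxW' (hvan U j' h)
      by_contra h5
      have h6 := IsLocalRing.nonunits_add h5 (show _ ∈ nonunits _ from (by
        rw [mem_nonunits_iff, IsUnit.neg_iff]; exact h4) : -((X.presheaf.germ U x hxU).hom
          (show Γ(X, U) from i.app U j')) ∈ nonunits _)
      rw [add_neg_cancel_right] at h6
      exact h6 isUnit_one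
    have h4 : x ∈ CohB1.genLocus _ s ⊓ U := by rw [h2]; exact h3
    exact h4.1
  exact ⟨s, hmem, hle, isAffineOpen_genLocus_of_le (isInvertible_tensorPow hL n) s hU hle⟩

/-- **cohomological ampleness criterion**: on a quasi-compact scheme, if for every quasi-coherent
ideal `I` some positive twist `I ⊗ L^n` has vanishing `H¹`, then `L` is ample -/
theorem isAmple_of_H1 [CompactSpace X] {L : X.Modules} (hL : PicF.IsInvertible L)
    (h : ∀ (I : X.Modules) (i : I ⟶ Coh.structureModule X), Mono i → Coh.IsQCoh I →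
      ∃ n : ℕ, Subsingleton (Coh.HH X (CohB1.tensorMod I (CohB1.tensorPow L (n + 1))) 1)) :
    CohB1.IsAmple L := by
  refine ⟨hL, inferInstance, ?_⟩
  let good : Set X := {x | ∃ (n : ℕ) (s : Coh.structureModule X ⟶ CohB1.tensorPow L (n + 1)),
    x ∈ CohB1.genLocus _ s ∧ IsAffineOpen (CohB1.genLocus _ s)}
  have hopen : IsOpen good := by
    rw [isOpen_iff_forall_mem_open]
    rintro x ⟨n, s, hxs, haff⟩
    exact ⟨CohB1.genLocus _ s, fun z hz => ⟨n, s, hz, haff⟩, (CohB1.genLocus _ s).isOpen, hxs⟩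
  have hclosed : ∀ x, IsClosed ({x} : Set X) → x ∈ good := by
    intro x hx
    obtain ⟨W, a, hxW, ha⟩ := exists_isGen hL x
    obtain ⟨_, ⟨U, hU, rfl⟩, hxU, hUW⟩ :=
      X.isBasis_affineOpens.exists_subset_of_mem_open hxW W.isOpen
    have haU := ha.res (hUW : U ≤ W)
    obtain ⟨n, hn⟩ := h (ClSub.idealMod (complIdeal (U ⊓ compl x hx))) (ClSub.idealModι _)
      inferInstance inferInstance
    obtain ⟨s, hxs, -, haff⟩ := exists_genLocus_of_H1 hL U hU _ haU x hxU hx (n + 1) hn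
    exact ⟨n, s, hxs, haff⟩
  intro x
  by_contra hx
  have hne : (goodᶜ).Nonempty := ⟨x, hx⟩
  obtain ⟨y, hy, hyc⟩ := IsClosed.exists_closed_singleton hopen.isClosed_compl hne
  exact hy (hclosed y hyc)

end Groth.Agent.Helper1.AmpleH1
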