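import Mathlib
import Groth.Agent.Lib.Helper1.Dv30

/-!
# The Serre subcategory generated by a coherent module (helper1)
-/

set_option autoImplicit false
universe u
open CategoryTheory CategoryTheory.Limits AlgebraicGeometry TopologicalSpace Opposite

namespace Groth.Agent.Helper1.Dv

open Groth.Agent.Helper1.QcCech Groth.Agent.Helper1.QcExt Groth.Agent.Helper1
open Groth.Agent.Helper1.CohACC Groth.Agent.Lead Groth.Agent.Helper1.SubSh

variable {X : Scheme.{u}}

theorem serre_of_support [IsNoetherian X] (F E : X.Modules) (hF : Coh.IsCoh F) (hE : Coh.IsCoh E)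
    (P : ObjectProperty X.Modules) (hPF : P F)
    (hSerre : ∀ S : ShortComplex X.Modules, S.ShortExact → Coh.IsCoh S.X₁ → Coh.IsCoh S.X₂ →
        Coh.IsCoh S.X₃ → (P S.X₂ ↔ P S.X₁ ∧ P S.X₃))
    (hsupp : CohB1.support E ⊆ CohB1.support F) : P E := by
  have h0 : ∀ M : X.Modules, IsZero M → P M := fun M hM =>
    ((hSerre _ (shortExact_id_zero F M hM) hF hF (isCoh_of_isZero hM F hF)).1 hPF).2
  let K : X.Modules → Prop := fun M => Coh.IsCoh M ∧ P M
  have hiso : ∀ M N : X.Modules, (M ≅ N) → K M → K N := by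
    rintro M N e ⟨hM, hPM⟩
    have hN : Coh.IsCoh N := isCoh_of_iso e hM
    obtain ⟨O, hO⟩ := HasZeroObject.zero (C := X.Modules)
    exact ⟨hN, (hSerre _ (shortExact_iso_zero e O hO) hM hN (isCoh_of_isZero hO F hF)).2
      ⟨hPM, h0 O hO⟩⟩
  suffices h : K E from h.2
  refine dev_main K hiso (fun M hM => ⟨isCoh_of_isZero hM F hF, h0 M hM⟩) (CohB1.support F)
    ?_ ?_ E hE hsupp
  · intro S hS c1 c2 c3 _
    exact ⟨fun k2 _ => ⟨c1, ((hSerre S hS c1 c2 c3).1 k2.2).1⟩,
      fun k1 k3 => ⟨c2, (hSerre S hS c1 c2 c3).2 ⟨k1.2, k3.2⟩⟩⟩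
  · intro Z hZ hirr hZF ξ hξ _
    obtain ⟨Z', i, hi, hint, hr, hη⟩ := exists_integral_subscheme Z hZ hirr ξ hξ
    haveI := hi
    haveI := hint
    subst hη
    set u := (Scheme.Modules.pullbackPushforwardAdjunction i).unit.app F with hu
    have hT := isCoh_pushPull i F hF
    have hG : Coh.IsCoh (Abelian.image u) :=
      FtLocal.isCoh_kernel hT (FtLocal.isCoh_cokernel hF hT u) (cokernel.π u)
    let q := Abelian.factorThruImage u
    have hkq : Coh.IsCoh (kernel q) := FtLocal.isCoh_kernel hF hG q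
    have hSE1 : (ShortComplex.kernelSequence q).ShortExact :=
      ShortComplex.ShortExact.mk' (ShortComplex.kernelSequence_exact q)
        (inferInstanceAs (Mono (kernel.ι q))) (inferInstanceAs (Epi q))
    have hPG : P (Abelian.image u) := ((hSerre _ hSE1 hkq hF hG).1 hPF).2
    have hξZ : i (genericPoint Z') ∈ Z := by
      rw [← hξ]; exact subset_closure rfl
    refine ⟨Abelian.image u, hG, ⟨hG, hPG⟩, ?_, ?_, ?_, ?_⟩
    · exact (support_mono (Abelian.image.ι u)).trans
        ((support_pushforward_subset i _).trans hr.le)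
    · exact mem_support_image_unit i F hF (hZF hξZ)
    · intro a ha v
      apply stalkL_injective_of_mono (Abelian.image.ι u) (i (genericPoint Z'))
      rw [map_smul, map_zero]
      exact smul_stalk_pushforward_eq_zero i _ (genericPoint Z')
        (Field.toIsField Z'.functionField) a ha _
    · intro e he _ F' hF' hK
      let j : Fin e := ⟨0, Nat.pos_of_ne_zero he⟩
      let s := Sigma.ι (fun _ : Fin e => F') j
      have hs : s ≫ cpπ F' e j = 𝟙 F' := by rw [ι_cpπ, if_pos rfl]
      haveI : Mono s := mono_of_mono_fac hs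
      have hSE2 : (ShortComplex.cokernelSequence s).ShortExact :=
        ShortComplex.ShortExact.mk' (ShortComplex.cokernelSequence_exact s)
          (inferInstanceAs (Mono s)) (inferInstanceAs (Epi (cokernel.π s)))
      exact ⟨hF', ((hSerre _ hSE2 hF' hK.1 (FtLocal.isCoh_cokernel hF' hK.1 s)).1 hK.2).1⟩

end Groth.Agent.Helper1.Dv
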