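import Mathlib
import Groth.Agent.Lib.Helper1.Dv32x

/-!
# Dévissage: a subobject with full stalk at a point contains `J · G` for an ideal `J` not
vanishing at the point (helper1)
-/

set_option autoImplicit false
universe u
open CategoryTheory CategoryTheory.Limits AlgebraicGeometry TopologicalSpace Opposite

namespace Groth.Agent.Helper1.Dv

open Groth.Agent.Helper1.QcCech Groth.Agent.Helper1.QcExt Groth.Agent.Helper1
open Groth.Agent.Helper1.CohACC Groth.Agent.Lead Groth.Agent.Helper1.SubSh

variable {X : Scheme.{u}}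

theorem exists_idealMul_le [IsNoetherian X] (G Im : X.Modules) (hG : Coh.IsCoh G)
    (hIm : Coh.IsCoh Im) (j : Im ⟶ G) [Mono j] (ξ : X)
    (hξ : ξ ∉ CohB1.support (cokernel j)) :
    ∃ (J : X.IdealSheafData), ξ ∉ (J.support : Set X) ∧
      ∃ f : (Dual3.idealMul J).obj G ⟶ Im, f ≫ j = Dual3.idealMulι J G := by
  set N := cokernel j with hNdef
  let π : G ⟶ N := cokernel.π j
  have hN : Coh.IsCoh N := FtLocal.isCoh_cokernel hIm hG j
  have hcl : IsClosed (CohB1.support N) := FtGen.isClosed_support N hN.2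
  obtain ⟨W, hW, hξW, hWN⟩ : ∃ W : X.Opens, IsAffineOpen W ∧ ξ ∈ W ∧
      (W : Set X) ⊆ (CohB1.support N)ᶜ := by
    obtain ⟨_, ⟨W, hW, rfl⟩, hξW, hWN⟩ :=
      X.isBasis_affineOpens.exists_subset_of_mem_open (show ξ ∈ (CohB1.support N)ᶜ from hξ)
        hcl.isOpen_compl
    exact ⟨W, hW, hξW, hWN⟩
  let I := complIdeal W
  let ψ : (Dual3.idealMul (I ^ 1)).obj G ⟶ N := Dual3.idealMulι (I ^ 1) G ≫ π
  -- sections of `N` over opens inside `W` vanish
  have hzero : ∀ (V : X.Opens), V ≤ W → ∀ s : Γ(N, V), s = 0 := by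
    intro V hV s
    apply Groth.Agent.S0049.eq_zero_of_germ_eq_zero
    intro y hy
    have hyN : y ∉ CohB1.support N := hWN (hV hy)
    have hsub : Subsingleton (N.presheaf.stalk y) := not_not.1 hyN
    exact Subsingleton.elim _ _
  have hψ : (Scheme.Modules.restrictFunctor W.ι).map ψ = 0 := by
    apply Scheme.Modules.hom_ext
    intro V
    ext t
    change ψ.app (W.ι ''ᵁ V) t = 0
    apply hzero
    rintro _ ⟨z, _, rfl⟩
    exact z.2
  obtain ⟨n, ι, h1, h2⟩ := deligne_injective N G hN.1 hG I W (complIdeal_support W) 1 ψ hψ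
  have hfac : Dual3.idealMulι (I ^ n) G ≫ π = 0 := by
    rw [← h1, Category.assoc]
    exact h2
  have hker : IsLimit (KernelFork.ofι j (cokernel.condition j)) :=
    Abelian.monoIsKernelOfCokernel (CokernelCofork.ofπ (cokernel.π j) (cokernel.condition j))
      (cokernelIsCokernel j)
  refine ⟨I ^ n, ?_, hker.lift (KernelFork.ofι _ hfac), hker.fac _ WalkingParallelPair.zero⟩
  rcases Nat.eq_zero_or_pos n with h0 | hpos
  · rw [h0, pow_zero]
    change ξ ∉ ((⊤ : X.IdealSheafData).support : Set X)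
    rw [Scheme.IdealSheafData.support_top]
    exact fun h => h
  · rw [Scheme.IdealSheafData.support_pow _ _ (Nat.pos_iff_ne_zero.1 hpos)]
    intro h
    have : ξ ∈ ((complIdeal W).support : Set X)ᶜ := by
      rw [← complIdeal_support W]; exact hξW
    exact this h

end Groth.Agent.Helper1.Dv
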