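import Mathlib
import Groth.Agent.Lib.Helper1.Dv33
import Groth.Agent.Lib.Helper1.H1Ext

/-!
# Cohomological helper lemmas for Chevalley's theorem (helper1)
-/

set_option autoImplicit false
universe u
open CategoryTheory CategoryTheory.Limits AlgebraicGeometry TopologicalSpace Opposite

namespace Groth.Agent.Helper1.Dv

open Groth.Agent.Helper1.QcCech Groth.Agent.Helper1.QcExt Groth.Agent.Helper1
open Groth.Agent.Helper1.CohACC Groth.Agent.Lead Groth.Agent.Helper1.SubSh

variable {X : Scheme.{u}}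

/-- cohomology of a retract of a module with vanishing cohomology vanishes -/
theorem subsingleton_HH_of_retract {F E : X.Modules} (s : F ⟶ E) (p : E ⟶ F) (h : s ≫ p = 𝟙 F)
    (n : ℕ) (hE : Subsingleton (Coh.HH X E n)) : Subsingleton (Coh.HH X F n) := by
  refine subsingleton_of_forall_eq 0 fun x => ?_
  let x' : Sheaf.H ((QcExt.T X).obj F) n := x
  have hid : (QcExt.T X).map s ≫ (QcExt.T X).map p = 𝟙 _ := by
    rw [← CategoryTheory.Functor.map_comp, h, CategoryTheory.Functor.map_id]
  have h1 : Sheaf.H.map ((QcExt.T X).map p) n (Sheaf.H.map ((QcExt.T X).map s) n x') = x' := by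
    rw [← Sheaf.H.map_comp_apply, hid]
    exact Sheaf.H.map_id_apply x'
  have h2 : Sheaf.H.map ((QcExt.T X).map s) n x' = 0 := Subsingleton.elim (h := hE) _ _
  have h3 : x' = 0 := by
    rw [← h1, h2]
    exact map_zero _
  exact h3

theorem subsingleton_HH_of_iso {F E : X.Modules} (e : F ≅ E) (n : ℕ)
    (hE : Subsingleton (Coh.HH X E n)) : Subsingleton (Coh.HH X F n) :=
  subsingleton_HH_of_retract e.hom e.inv e.hom_inv_id n hE

/-- `J · G → G` is bijective on stalks at points outside the zero locus of `J` -/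
theorem stalkL_idealMulι_bijective (J : X.IdealSheafData) (G : X.Modules) [G.IsQuasicoherent]
    (ξ : X) (hξ : ξ ∉ (J.support : Set X)) :
    Function.Bijective (stalkL (Dual3.idealMulι J G) ξ) := by
  haveI : ((Dual3.idealMul J).obj G).IsQuasicoherent := inferInstance
  obtain ⟨W, hW, hξW, hWJ⟩ : ∃ W : X.Opens, IsAffineOpen W ∧ ξ ∈ W ∧
      (W : Set X) ⊆ (J.support : Set X)ᶜ := by
    obtain ⟨_, ⟨W, hW, rfl⟩, hξW, hWN⟩ :=
      X.isBasis_affineOpens.exists_subset_of_mem_open (show ξ ∈ (J.support : Set X)ᶜ from hξ)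
        J.support.isClosed.isOpen_compl
    exact ⟨W, hW, hξW, hWN⟩
  have htop : J.ideal ⟨W, hW⟩ = ⊤ := by
    have h0 : (J.support : Set X) ∩ W = ∅ := by
      rw [Set.eq_empty_iff_forall_notMem]
      rintro y ⟨hy1, hy2⟩
      exact hWJ hy2 hy1
    have h1 := J.coe_support_inter ⟨W, hW⟩
    rw [h0] at h1
    have h2 := hW.fromSpec_image_zeroLocus (J.ideal ⟨W, hW⟩ : Set Γ(X, W))
    rw [← h1, Set.image_eq_empty] at h2
    exact PrimeSpectrum.zeroLocus_empty_iff_eq_top.1 h2
  have hbij : Function.Bijective ((Dual3.idealMulι J G).app W) := by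
    constructor
    · exact FtLocal.app_injective_of_mono _ _
    · intro t
      have h1 : sec (Dual3.idealMulι J G) W = ⊤ := by
        rw [sec_idealMulι _ _ hW, htop, Submodule.top_smul]
      have : t ∈ sec (Dual3.idealMulι J G) W := by rw [h1]; trivial
      exact this
  apply stalkL_bijective_of_locBij (Dual3.idealMulι J G) hW ξ hξW
  · rintro s ⟨t, ht, hts⟩
    refine ⟨t, ht, ?_⟩
    apply hbij.1
    rw [Scheme.Modules.Hom.app_smul, hts, map_zero]
  · intro n
    obtain ⟨s, hs⟩ := hbij.2 n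
    exact ⟨1, (Ideal.ne_top_iff_one _).1 (hW.primeIdealOf ⟨ξ, hξW⟩).isPrime.ne_top, s, by
      rw [hs, one_smul]⟩

end Groth.Agent.Helper1.Dv
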