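import Mathlib

/-!
# The alternating sum of dimensions along a long exact sequence (helper1)
-/

set_option autoImplicit false
universe u v

namespace Groth.Agent.Helper1.EulerLES

variable {k : Type u} [Field k]
variable {A B C : ℕ → Type v}
  [∀ i, AddCommGroup (A i)] [∀ i, Module k (A i)] [∀ i, FiniteDimensional k (A i)]
  [∀ i, AddCommGroup (B i)] [∀ i, Module k (B i)] [∀ i, FiniteDimensional k (B i)]
  [∀ i, AddCommGroup (C i)] [∀ i, Module k (C i)] [∀ i, FiniteDimensional k (C i)]
  (f : ∀ i, A i →ₗ[k] B i) (g : ∀ i, B i →ₗ[k] C i) (δ : ∀ i, C i →ₗ[k] A (i + 1))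

/-- one step of the long exact sequence -/
theorem step (i : ℕ) (hfg : LinearMap.range (f i) = LinearMap.ker (g i))
    (hgδ : LinearMap.range (g i) = LinearMap.ker (δ i))
    (hδf : LinearMap.range (δ i) = LinearMap.ker (f (i + 1))) :
    (Module.finrank k (A i) : ℤ) - Module.finrank k (B i) + Module.finrank k (C i) =
      Module.finrank k (LinearMap.ker (f i)) + Module.finrank k (LinearMap.ker (f (i + 1))) := by
  have h1 := (f i).finrank_range_add_finrank_ker
  have h2 := (g i).finrank_range_add_finrank_ker
  have h3 := (δ i).finrank_range_add_finrank_ker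
  rw [← hfg] at h2
  rw [← hgδ, hδf] at h3
  omega

/-- the alternating sum of the dimensions along a long exact sequence, truncated at `d` -/
theorem alternating_sum (hfg : ∀ i, LinearMap.range (f i) = LinearMap.ker (g i))
    (hgδ : ∀ i, LinearMap.range (g i) = LinearMap.ker (δ i))
    (hδf : ∀ i, LinearMap.range (δ i) = LinearMap.ker (f (i + 1)))
    (h0 : Function.Injective (f 0)) (d : ℕ) :
    ∑ i ∈ Finset.range d, (-1 : ℤ) ^ i *
        ((Module.finrank k (A i) : ℤ) - Module.finrank k (B i) + Module.finrank k (C i)) =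
      (-1 : ℤ) ^ (d + 1) * Module.finrank k (LinearMap.ker (f d)) := by
  induction d with
  | zero =>
    have : LinearMap.ker (f 0) = ⊥ := LinearMap.ker_eq_bot.2 h0
    rw [this]
    simp
  | succ d ih =>
    rw [Finset.sum_range_succ, ih, step f g δ d (hfg d) (hgδ d) (hδf d)]
    ring

/-- Euler characteristics are additive along a long exact sequence that vanishes from `d` on -/
theorem euler_additive (hfg : ∀ i, LinearMap.range (f i) = LinearMap.ker (g i))
    (hgδ : ∀ i, LinearMap.range (g i) = LinearMap.ker (δ i))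
    (hδf : ∀ i, LinearMap.range (δ i) = LinearMap.ker (f (i + 1)))
    (h0 : Function.Injective (f 0)) (d : ℕ) (hA : Subsingleton (A d)) :
    ∑ i ∈ Finset.range d, (-1 : ℤ) ^ i * (Module.finrank k (B i) : ℤ) =
      ∑ i ∈ Finset.range d, (-1 : ℤ) ^ i * (Module.finrank k (A i) : ℤ) +
        ∑ i ∈ Finset.range d, (-1 : ℤ) ^ i * (Module.finrank k (C i) : ℤ) := by
  have h := alternating_sum f g δ hfg hgδ hδf h0 d
  have hz : Module.finrank k (LinearMap.ker (f d)) = 0 := by
    haveI : Subsingleton (LinearMap.ker (f d)) :=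
      ⟨fun a b => Subtype.ext (Subsingleton.elim _ _)⟩
    exact Module.finrank_zero_of_subsingleton
  rw [hz, Nat.cast_zero, mul_zero] at h
  simp only [mul_add, mul_sub, Finset.sum_add_distrib, Finset.sum_sub_distrib] at h
  linarith

end Groth.Agent.Helper1.EulerLES
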