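import Mathlib
import Groth.Agent.Lib.Helper1.SecOps4
import Groth.Agent.Lib.Helper1.AmpleGlue2
import Groth.Agent.Lib.Helper1.PullRel
import Groth.Agent.Lib.Helper1.PullAmple
import Groth.Agent.Lib.Helper1.TwistTens
import Groth.Agent.Lib.Helper1.RelAmpleLib

set_option autoImplicit false
universe u
open CategoryTheory CategoryTheory.Limits AlgebraicGeometry TopologicalSpace Opposite

namespace Groth.Agent.Helper1.CompAmple

open Groth.Agent.Helper1.QcCech Groth.Agent.Helper1.SubSh Groth.Agent.Helper1.LGen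
open Groth.Agent.Helper1.TmulLib Groth.Agent.Helper1 Groth.Agent.Helper1.TwistSec
open Groth.Agent.Helper1.TensGen Groth.Agent.Helper1.TwForm Groth.Agent.Helper1.AmpleLib
open Groth.Agent.Helper1.SecOps Groth.Agent.Helper1.PullAmple Groth.Agent.Helper1.PullPow
open Groth.Agent.Helper1.PullGen Groth.Agent.Helper1.RelAmpleLib

variable {X : Scheme.{u}}

/-- converse of `isGen_tm` -/
theorem isGen_of_isGen_tm {M N : X.Modules} {W : X.Opens} {τ : Γ(M, W)} {σ : Γ(N, W)}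
    (h : IsGen (CohB1.tensorMod M N) W (tm M N W τ σ)) (hσ : IsGen N W σ) : IsGen M W τ := by
  intro V hV
  have h1 := bijective_tm_of_isGen M (hσ.res hV)
  have h2 := h V hV
  have : (fun r : Γ(X, V) => r • res (CohB1.tensorMod M N) hV (tm M N W τ σ)) =
      (fun m : Γ(M, V) => tm M N V m (res N hV σ)) ∘ (fun r : Γ(X, V) => r • res M hV τ) := by
    funext r
    change _ = tm M N V (r • res M hV τ) (res N hV σ)
    rw [tm_smul_left, res_tm]
  rw [this] at h2
  exact (Function.Bijective.of_comp_iff' h1 _).1 h2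

/-- **Lemma Q**: a section over `X_t` of an invertible module `F`, times a large power of `t`,
extends to a global section whose locus of generation is the one of the given section. -/
theorem exists_section_genLocus_eq [CompactSpace X] [QuasiSeparatedSpace X] {F B : X.Modules}
    (hF : PicF.IsInvertible F) (hB : PicF.IsInvertible B) (t : Coh.structureModule X ⟶ B)
    (U : X.Opens) (hU : U = CohB1.genLocus B t)
    (σ'' : Coh.structureModule (↑U : Scheme.{u}) ⟶ F.restrict U.ι) :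
    ∃ c₀ : ℕ, ∀ c : ℕ, c₀ ≤ c →
      ∃ s : Coh.structureModule X ⟶ CohB1.tensorMod (CohB1.tensorMod F (CohB1.tensorPow B c)) B,
        CohB1.genLocus _ s = U.ι ''ᵁ CohB1.genLocus _ σ'' := by
  have : F.IsQuasicoherent := InvQc.isQuasicoherent_of_isInvertible _ hF
  have hUle : CohB1.genLocus B t ≤ U := hU ▸ le_rfl
  have hUge : U ≤ CohB1.genLocus B t := hU ▸ le_rfl
  have htop : U ≤ U.ι ''ᵁ ⊤ := by
    rw [Scheme.Hom.image_top_eq_opensRange, Scheme.Opens.opensRange_ι]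
  let σ₀ : Γ(F, U.ι ''ᵁ ⊤) := secVal σ'' ⊤
  let σ : Γ(F, CohB1.genLocus B t) := res F (hUle.trans htop) σ₀
  obtain ⟨c₀, hc₀⟩ := exists_twist_extends_ge hB t F σ
  refine ⟨c₀, fun c hc => ?_⟩
  obtain ⟨τ, hτ⟩ := hc₀ c hc
  have hFc : PicF.IsInvertible (CohB1.tensorMod F (CohB1.tensorPow B c)) :=
    isInvertible_tensorMod hF (isInvertible_tensorPow hB c)
  refine ⟨SecTwist.tmulHom (TwistAmple.homOfSec _ τ) t, ?_⟩
  rw [genLocus_tmulHom hFc hB]
  -- pointwise comparison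
  have key : ∀ W : X.Opens, ∀ hW : W ≤ U,
      IsGen (CohB1.tensorMod F (CohB1.tensorPow B c)) W
        (secVal (TwistAmple.homOfSec _ τ) W) ↔ IsGen F W (res F (hW.trans htop) σ₀) := by
    intro W hW
    have h1 : secVal (TwistAmple.homOfSec _ τ) W =
        tm F (CohB1.tensorPow B c) W (res F (hW.trans htop) σ₀) (gpow (secVal t W) c) := by
      rw [secVal_homOfSec]
      have h2 : res _ (le_top : W ≤ ⊤) τ =
          res _ (hW.trans hUge) (res _ (le_top : CohB1.genLocus B t ≤ ⊤) τ) :=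
        (res_res _ _ _ _).symm
      rw [h2, hτ, res_twist, twist_eq, res_res]
    rw [h1]
    have hg : IsGen (CohB1.tensorPow B c) W (gpow (secVal t W) c) :=
      isGen_gpow (isGen_secVal t (hW.trans hUge)) c
    exact ⟨fun h => isGen_of_isGen_tm h hg, fun h => isGen_tm h hg⟩
  -- sections of the restriction
  have key2 : ∀ W' : (↑U : Scheme.{u}).Opens,
      IsGen (F.restrict U.ι) W' (secVal σ'' W') ↔
        IsGen F (U.ι ''ᵁ W') (res F (U.ι.image_mono (le_top : W' ≤ ⊤)) σ₀) := by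
    intro W'
    have h1 : (show Γ(F, U.ι ''ᵁ W') from secVal σ'' W') =
        res F (U.ι.image_mono (le_top : W' ≤ ⊤)) σ₀ := by
      rw [← res_secVal σ'' (le_top : W' ≤ ⊤), res_restrict]
    rw [← h1]
    exact ⟨fun h => isGen_image_of_isGen_restrict U.ι F W' _ h,
      fun h => isGen_restrict_of_isGen_image U.ι F W' _ h⟩
  ext x
  constructor
  · rintro ⟨hx1, hx2⟩
    have hxU : x ∈ U := hUle hx2
    -- a neighbourhood in `U` on which `τ` generates
    obtain ⟨W, hxW, hW⟩ := (mem_genLocus_iff_isGen _ x).1 hx1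
    have hW' := hW.res (inf_le_left : W ⊓ U ≤ W)
    rw [res_secVal] at hW'
    have h3 := (key (W ⊓ U) inf_le_right).1 hW'
    -- transport to the open subscheme
    let W' : (↑U : Scheme.{u}).Opens := U.ι ⁻¹ᵁ (W ⊓ U)
    have hW'img : U.ι ''ᵁ W' = W ⊓ U := by
      rw [Scheme.Hom.image_preimage_eq_opensRange_inf, Scheme.Opens.opensRange_ι,
        inf_eq_right.mpr inf_le_right]
    refine ⟨⟨x, hxU⟩, ?_, rfl⟩
    apply le_genLocus_of_isGen σ'' (W := W') _ (show (⟨x, hxU⟩ : ↥U) ∈ W' from ⟨hxW, hxU⟩)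
    rw [key2]
    have h4 := h3.res (hW'img.le)
    rwa [res_res] at h4
  · rintro ⟨y, hy, rfl⟩
    obtain ⟨W', hyW', hW'⟩ := (mem_genLocus_iff_isGen _ y).1 hy
    rw [key2] at hW'
    have hle : U.ι ''ᵁ W' ≤ U := by
      intro z hz
      obtain ⟨z', -, rfl⟩ := hz
      exact z'.2
    have h5 := (key (U.ι ''ᵁ W') hle).2 hW'
    exact ⟨le_genLocus_of_isGen _ h5 ⟨y, hyW', rfl⟩, hUge y.2⟩

/-- the local step of the absolute case -/
theorem exists_affine_genLocus_twist [CompactSpace X] [QuasiSeparatedSpace X]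
    {L M' : X.Modules} (hL : PicF.IsInvertible L) (hM' : PicF.IsInvertible M') (m : ℕ)
    (t' : Coh.structureModule X ⟶ CohB1.tensorPow M' (m + 1))
    (U : X.Opens) (hU : U = CohB1.genLocus _ t') (hLU : CohB1.IsAmple (L.restrict U.ι))
    (x : X) (hxU : x ∈ U) :
    ∃ (D : X.Opens) (c₀ : ℕ), x ∈ D ∧ IsAffineOpen D ∧ ∀ n : ℕ, c₀ + 1 ≤ n →
      ∃ (N : ℕ) (s : Coh.structureModule X ⟶
        CohB1.tensorPow (CohB1.tensorMod L (CohB1.tensorPow M' n)) (N + 1)),
        CohB1.genLocus _ s = D := by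
  obtain ⟨a, σ', hxσ', haffσ'⟩ := hLU.2.2 ⟨x, hxU⟩
  let σ'₂ := ppow hLU.1 σ' (m + 1)
  have hσ'₂ : CohB1.genLocus _ σ'₂ = CohB1.genLocus _ σ' :=
    genLocus_ppow hLU.1 σ' (m + 1) (Nat.succ_pos m)
  let F := CohB1.tensorPow L ((a + 1) * (m + 1))
  have hF : PicF.IsInvertible F := isInvertible_tensorPow hL _
  let B := CohB1.tensorPow M' (m + 1)
  have hB : PicF.IsInvertible B := isInvertible_tensorPow hM' _
  let σ'' : Coh.structureModule (↑U : Scheme.{u}) ⟶ F.restrict U.ι :=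
    σ'₂ ≫ (restrictTensorPowIso U.ι hL ((a + 1) * (m + 1))).inv
  have hσ'' : CohB1.genLocus _ σ'' = CohB1.genLocus _ σ' := by
    rw [← hσ'₂]
    exact TwistAmple.genLocus_comp_iso σ'₂ (restrictTensorPowIso U.ι hL ((a + 1) * (m + 1))).symm
  obtain ⟨c₀, hc₀⟩ := exists_section_genLocus_eq hF hB t' U hU σ''
  refine ⟨U.ι ''ᵁ CohB1.genLocus _ σ', c₀, ⟨⟨x, hxU⟩, hxσ', rfl⟩,
    haffσ'.image_of_isOpenImmersion U.ι, fun n hn => ?_⟩
  have hn1 : n ≤ n * (a + 1) := Nat.le_mul_of_pos_right n (Nat.succ_pos a)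
  obtain ⟨c, hc⟩ : ∃ c, c + 1 = n * (a + 1) := ⟨n * (a + 1) - 1, by omega⟩
  obtain ⟨s, hs⟩ := hc₀ c (by omega)
  obtain ⟨N, hN⟩ : ∃ N, (a + 1) * (m + 1) = N + 1 :=
    ⟨(a + 1) * (m + 1) - 1, (Nat.succ_pred_eq_of_pos (Nat.mul_pos (Nat.succ_pos a)
      (Nat.succ_pos m))).symm⟩
  have hloc := locFrame_of_isInvertible hL hM'
  have hc' : (c : ℤ) + 1 = (n : ℤ) * ((a : ℤ) + 1) := by exact_mod_cast hc
  let e : CohB1.tensorMod (CohB1.tensorMod F (CohB1.tensorPow B c)) B ≅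
      CohB1.tensorPow (CohB1.tensorMod L (CohB1.tensorPow M' n)) ((a + 1) * (m + 1)) :=
    Tw.iso
      ((((Tw.fst L M').pow ((a + 1) * (m + 1))).tensorR (((Tw.snd L M').pow (m + 1)).pow c)).tensorR
        ((Tw.snd L M').pow (m + 1)))
      ((((Tw.fst L M').tensorR ((Tw.snd L M').pow n)).pow ((a + 1) * (m + 1))).cast
        (by push_cast; ring) (by push_cast; linear_combination (-((m : ℤ) + 1)) * hc')) hloc
  refine ⟨N, pcast hN (s ≫ e.hom), ?_⟩
  rw [genLocus_pcast, TwistAmple.genLocus_comp_iso, hs, hσ'']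

/-- **the absolute case** (EGA II 4.6.13 (ii) over an affine base): if `K` is ample on `Y` and
`L` is `f`-ample, then `L ⊗ f^* K^n` is ample for all large `n`. -/
theorem isAmple_tensor_pullback_pow {X Y : Scheme.{u}} (f : X ⟶ Y) [QuasiCompact f]
    {L : X.Modules} {K : Y.Modules} (hK : CohB1.IsAmple K) (hL : RelAmple.IsRelAmple f L) :
    ∃ n₀ : ℕ, 0 < n₀ ∧ ∀ n, n₀ ≤ n →
      CohB1.IsAmple (CohB1.tensorMod L
        ((Scheme.Modules.pullback f).obj (CohB1.tensorPow K n))) := by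
  have hcY : CompactSpace Y := hK.2.1
  have hcX : CompactSpace X :=
    ⟨by simpa using QuasiCompact.isCompact_preimage (f := f) _ isOpen_univ isCompact_univ⟩
  have hqsY : QuasiSeparatedSpace Y := quasiSeparatedSpace_of_isAmple hK
  choose m t hyt haff using hK.2.2
  let V : Y → Y.affineOpens := fun y => ⟨CohB1.genLocus _ (t y), haff y⟩
  have hLV : ∀ y, CohB1.IsAmple (L.restrict (f ⁻¹ᵁ (V y).1).ι) := fun y => hL.2 (V y)
  -- `X` is quasi-separated
  have hqsf : QuasiSeparated f := by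
    rw [HasAffineProperty.iff_of_iSup_eq_top (P := @QuasiSeparated) V
      (by
        rw [eq_top_iff]
        intro y _
        exact Opens.mem_iSup.2 ⟨y, hyt y⟩)]
    intro y
    exact quasiSeparatedSpace_of_isAmple (hLV y)
  have hqsX : QuasiSeparatedSpace X := quasiSeparatedSpace_of_quasiSeparated f
  -- `L` is invertible
  have hLinv : PicF.IsInvertible L := by
    apply isInvertible_of_locGen
    intro x
    have hx : x ∈ f ⁻¹ᵁ (V (f x)).1 := hyt (f x)
    obtain ⟨W', a, hxW', ha⟩ := exists_isGen (hLV (f x)).1 ⟨x, hx⟩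
    exact ⟨(f ⁻¹ᵁ (V (f x)).1).ι ''ᵁ W', a, ⟨⟨x, hx⟩, hxW', rfl⟩,
      isGen_image_of_isGen_restrict _ L W' a ha⟩
  set M' := (Scheme.Modules.pullback f).obj K with hM'def
  have hM' : PicF.IsInvertible M' := isInvertible_pullback f hK.1
  -- the local step
  have key : ∀ x : X, ∃ (D : X.Opens) (c₀ : ℕ), x ∈ D ∧ IsAffineOpen D ∧ ∀ n : ℕ, c₀ + 1 ≤ n →
      ∃ (N : ℕ) (s : Coh.structureModule X ⟶
        CohB1.tensorPow (CohB1.tensorMod L (CohB1.tensorPow M' n)) (N + 1)),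
        CohB1.genLocus _ s = D := by
    intro x
    exact exists_affine_genLocus_twist hLinv hM' (m (f x))
      (pullPowSec f hK.1 (m (f x) + 1) (t (f x))) (f ⁻¹ᵁ (V (f x)).1)
      (genLocus_pullPowSec f hK.1 _ _).symm (hLV (f x)) x (hyt (f x))
  choose D c₀ hxD hDaff hD using key
  obtain ⟨S, hS⟩ := isCompact_univ.elim_finite_subcover (fun x => ((D x : X.Opens) : Set X))
    (fun x => (D x).isOpen) (fun x _ => Set.mem_iUnion.2 ⟨x, hxD x⟩)
  refine ⟨S.sup c₀ + 1, Nat.succ_pos _, fun n hn => ?_⟩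
  have hamp : CohB1.IsAmple (CohB1.tensorMod L (CohB1.tensorPow M' n)) := by
    refine ⟨isInvertible_tensorMod hLinv (isInvertible_tensorPow hM' n), hcX, fun z => ?_⟩
    obtain ⟨x, hxS, hzx⟩ : ∃ x ∈ S, z ∈ D x := by
      have := hS (Set.mem_univ z)
      simpa using this
    have hcx : c₀ x + 1 ≤ n := by
      have : c₀ x ≤ S.sup c₀ := Finset.le_sup (f := c₀) hxS
      omega
    obtain ⟨N, s, hs⟩ := hD x n hcx
    exact ⟨N, s, hs ▸ hzx, hs ▸ hDaff x⟩
  exact TwistAmpleOpen.isAmple_of_iso (TwistTens.tensorModCongrRight L (powIso f hK.1 n).symm) hamp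

/-- a relatively ample module is invertible -/
theorem isInvertible_of_isRelAmple {X Y : Scheme.{u}} (f : X ⟶ Y) {L : X.Modules}
    (hL : RelAmple.IsRelAmple f L) : PicF.IsInvertible L := by
  apply isInvertible_of_locGen
  intro x
  obtain ⟨_, ⟨V, hV, rfl⟩, hxV, -⟩ :=
    Y.isBasis_affineOpens.exists_subset_of_mem_open (Set.mem_univ (f x)) isOpen_univ
  have hx : x ∈ f ⁻¹ᵁ V := hxV
  obtain ⟨W', a, hxW', ha⟩ := exists_isGen (hL.2 ⟨V, hV⟩).1 ⟨x, hx⟩
  exact ⟨(f ⁻¹ᵁ V).ι ''ᵁ W', a, ⟨⟨x, hx⟩, hxW', rfl⟩,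
    isGen_image_of_isGen_restrict _ L W' a ha⟩

/-- relative ampleness from ampleness over the members of an open cover of the base -/
theorem isRelAmple_of_cover {X Z : Scheme.{u}} (h : X ⟶ Z) [QuasiCompact h] (M : X.Modules)
    {ι : Type*} (U : ι → Z.Opens) (hU : ⨆ i, U i = ⊤)
    (hamp : ∀ i, CohB1.IsAmple (M.restrict (h ⁻¹ᵁ U i).ι)) : RelAmple.IsRelAmple h M := by
  refine ⟨inferInstance, fun V => ?_⟩
  apply isAmple_restrict_preimage_of_locally h M V.1 V.2
  intro x hx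
  obtain ⟨i, hi⟩ : ∃ i, h x ∈ U i := by
    have : h x ∈ (⨆ i, U i : Z.Opens) := hU ▸ trivial
    exact Opens.mem_iSup.1 this
  obtain ⟨r, hrle, hxr⟩ := V.2.exists_basicOpen_le (V := V.1 ⊓ U i) ⟨h x, ⟨hx, hi⟩⟩ hx
  refine ⟨r, hxr, ?_⟩
  refine isAmple_restrict_of_le M ?_ (h.isCompact_preimage (V.2.basicOpen r).isCompact) (hamp i)
  intro z hz
  exact (hrle hz).2

/-- the case of one affine open of the base -/
theorem isAmple_restrict_comp_twist {X Y Z : Scheme.{u}} (f : X ⟶ Y) (g : Y ⟶ Z)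
    [QuasiCompact f] [QuasiCompact g] (L : X.Modules) (K : Y.Modules)
    (hL : RelAmple.IsRelAmple f L) (hK : RelAmple.IsRelAmple g K) (W : Z.affineOpens) :
    ∃ n₀ : ℕ, 0 < n₀ ∧ ∀ n, n₀ ≤ n →
      CohB1.IsAmple ((CohB1.tensorMod L
        ((Scheme.Modules.pullback f).obj (CohB1.tensorPow K n))).restrict
          (f ⁻¹ᵁ (g ⁻¹ᵁ W.1)).ι) := by
  set YW : Y.Opens := g ⁻¹ᵁ W.1 with hYW
  have hKW : CohB1.IsAmple (K.restrict YW.ι) := hK.2 W
  have hLinv := isInvertible_of_isRelAmple f hL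
  have hKinv := isInvertible_of_isRelAmple g hK
  have hLW : RelAmple.IsRelAmple (f ∣_ YW) (L.restrict (f ⁻¹ᵁ YW).ι) := by
    refine ⟨inferInstance, fun V' => ?_⟩
    rw [isAmple_restrict_restrict_ι_iff, image_morphismRestrict_preimage]
    exact hL.2 ⟨YW.ι ''ᵁ V'.1, V'.2.image_of_isOpenImmersion _⟩
  obtain ⟨n₀, hn₀, h⟩ := isAmple_tensor_pullback_pow (f ∣_ YW) hKW hLW
  refine ⟨n₀, hn₀, fun n hn => ?_⟩
  have hA := h n hn
  have hPinv : PicF.IsInvertible ((Scheme.Modules.pullback f).obj (CohB1.tensorPow K n)) :=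
    isInvertible_pullback f (isInvertible_tensorPow hKinv n)
  let e₁ := restrictTensorModIso (f ⁻¹ᵁ YW).ι (L := L)
    (L' := (Scheme.Modules.pullback f).obj (CohB1.tensorPow K n))
    (locFrame_of_isInvertible (isInvertible_restrict _ hLinv) (isInvertible_restrict _ hPinv))
  let e₂ := restrictPullbackIso f YW (CohB1.tensorPow K n)
  let e₃ := (Scheme.Modules.pullback (f ∣_ YW)).mapIso (restrictTensorPowIso YW.ι hKinv n)
  exact TwistAmpleOpen.isAmple_of_iso
    (e₁ ≪≫ TwistTens.tensorModCongrRight _ (e₂ ≪≫ e₃)).symm hA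

/-- **EGA II 4.6.13 (ii)** -/
theorem isRelAmple_comp_twist {X Y Z : Scheme.{u}} [CompactSpace Z] (f : X ⟶ Y) (g : Y ⟶ Z)
    [QuasiCompact f] [QuasiCompact g] (L : X.Modules) (K : Y.Modules)
    (hL : RelAmple.IsRelAmple f L) (hK : RelAmple.IsRelAmple g K) :
    ∃ n₀ : ℕ, 0 < n₀ ∧ ∀ n, n₀ ≤ n →
      RelAmple.IsRelAmple (f ≫ g) (CohB1.tensorMod L
        ((Scheme.Modules.pullback f).obj (CohB1.tensorPow K n))) := by
  have h1 : ∀ z : Z, ∃ W : Z.affineOpens, z ∈ W.1 := by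
    intro z
    obtain ⟨_, ⟨W, hW, rfl⟩, hzW, -⟩ :=
      Z.isBasis_affineOpens.exists_subset_of_mem_open (Set.mem_univ z) isOpen_univ
    exact ⟨⟨W, hW⟩, hzW⟩
  choose W hzW using h1
  obtain ⟨S, hS⟩ := isCompact_univ.elim_finite_subcover (fun z => (((W z).1 : Z.Opens) : Set Z))
    (fun z => (W z).1.isOpen) (fun z _ => Set.mem_iUnion.2 ⟨z, hzW z⟩)
  choose n₀ hn₀ h using fun z => isAmple_restrict_comp_twist f g L K hL hK (W z)
  refine ⟨S.sup n₀ + 1, Nat.succ_pos _, fun n hn => ?_⟩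
  apply isRelAmple_of_cover (f ≫ g) _ (fun z : S => (W z.1).1)
  · rw [eq_top_iff]
    intro z _
    obtain ⟨x, hxS, hzx⟩ : ∃ x ∈ S, z ∈ (W x).1 := by
      have := hS (Set.mem_univ z)
      simpa using this
    exact Opens.mem_iSup.2 ⟨⟨x, hxS⟩, hzx⟩
  · intro z
    have : n₀ z.1 ≤ S.sup n₀ := Finset.le_sup (f := n₀) z.2
    exact h z.1 n (by omega)

end Groth.Agent.Helper1.CompAmple
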