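import Mathlib
import Groth.Prelude.Def_CohB1
import Groth.Agent.Lib.Helper1.VA5

set_option autoImplicit false
universe u
open CategoryTheory CategoryTheory.Limits AlgebraicGeometry

namespace Groth.Agent.Helper1.HProj

/-- the comparison of projective spaces along a base change -/
noncomputable def baseMap (n : ℕ) {S S' : Scheme.{u}} (g : S' ⟶ S) :
    CohB1.ProjSpaceOver n S' ⟶ CohB1.ProjSpaceOver n S :=
  pullback.lift (pullback.fst (CohB1.ProjSpace.toSpec n (ULift.{u} ℤ)) (specULiftZIsTerminal.from S'))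
    (pullback.snd (CohB1.ProjSpace.toSpec n (ULift.{u} ℤ)) (specULiftZIsTerminal.from S') ≫ g)
    (by
      have h := pullback.condition (f := CohB1.ProjSpace.toSpec n (ULift.{u} ℤ))
        (g := specULiftZIsTerminal.from S')
      exact h.trans (specULiftZIsTerminal.hom_ext _ _))

theorem baseMap_fst (n : ℕ) {S S' : Scheme.{u}} (g : S' ⟶ S) :
    baseMap n g ≫ pullback.fst (CohB1.ProjSpace.toSpec n (ULift.{u} ℤ))
      (specULiftZIsTerminal.from S) =
    pullback.fst (CohB1.ProjSpace.toSpec n (ULift.{u} ℤ)) (specULiftZIsTerminal.from S') :=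
  pullback.lift_fst _ _ _

theorem baseMap_toBase (n : ℕ) {S S' : Scheme.{u}} (g : S' ⟶ S) :
    baseMap n g ≫ CohB1.ProjSpaceOver.toBase n S = CohB1.ProjSpaceOver.toBase n S' ≫ g :=
  pullback.lift_snd _ _ _

theorem isPullback_baseMap (n : ℕ) {S S' : Scheme.{u}} (g : S' ⟶ S) :
    IsPullback (baseMap n g) (CohB1.ProjSpaceOver.toBase n S') (CohB1.ProjSpaceOver.toBase n S) g := by
  have hright : IsPullback (pullback.fst (CohB1.ProjSpace.toSpec n (ULift.{u} ℤ))
      (specULiftZIsTerminal.from S)) (CohB1.ProjSpaceOver.toBase n S)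
      (CohB1.ProjSpace.toSpec n (ULift.{u} ℤ)) (specULiftZIsTerminal.from S) :=
    IsPullback.of_hasPullback _ _
  refine IsPullback.of_right ?_ (baseMap_toBase n g) hright
  rw [baseMap_fst]
  have : g ≫ specULiftZIsTerminal.from S = specULiftZIsTerminal.from S' :=
    specULiftZIsTerminal.hom_ext _ _
  rw [this]
  exact IsPullback.of_hasPullback _ _

end Groth.Agent.Helper1.HProj
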