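import Mathlib
import Groth.Prelude.Def_RelProj
import Groth.Agent.Lib.Helper1.HProj
import Groth.Agent.Lib.Helper1.VA6
import Groth.Agent.Lib.Helper1.AmpleGlue
import Groth.Agent.Lib.Helper1.CompAmple

set_option autoImplicit false
universe u
open CategoryTheory CategoryTheory.Limits AlgebraicGeometry

namespace Groth.Agent.Helper1.HProj

theorem isIso_baseMap (n : ℕ) {S S' : Scheme.{u}} (g : S' ⟶ S) [IsIso g] :
    IsIso (baseMap n g) :=
  (isPullback_baseMap n g).isIso_fst_of_isIso

instance isProper_toBase (n : ℕ) (S : Scheme.{u}) : IsProper (CohB1.ProjSpaceOver.toBase n S) := by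
  have h0 : IsProper (CohB1.ProjSpace.toSpec n (ULift.{u} ℤ)) := VA5.isProper_toSpec n _
  have : IsProper (pullback.snd (CohB1.ProjSpace.toSpec n (ULift.{u} ℤ))
    (specULiftZIsTerminal.from S)) := inferInstance
  exact this

/-- H-quasi-projectivity is invariant under isomorphisms of arrows -/
theorem isHQuasiProjective_of_arrowIso {X S X' S' : Scheme.{u}} (f : X ⟶ S) (f' : X' ⟶ S')
    (e : Arrow.mk f ≅ Arrow.mk f') (h : RelProj.IsHQuasiProjective f) :
    RelProj.IsHQuasiProjective f' := by
  obtain ⟨n, i, hi, hqc, hif⟩ := h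
  have hb : IsIso (e.hom.right : S ⟶ S') := inferInstance
  have hl : IsIso (e.inv.left : X' ⟶ X) := inferInstance
  have := isIso_baseMap n (e.hom.right : S ⟶ S')
  refine ⟨n, (e.inv.left : X' ⟶ X) ≫ i ≫ baseMap n (e.hom.right : S ⟶ S'), inferInstance,
    inferInstance, ?_⟩
  rw [Category.assoc, Category.assoc, baseMap_toBase, ← Category.assoc i, hif]
  have hw : (e.hom.left : X ⟶ X') ≫ f' = f ≫ (e.hom.right : S ⟶ S') := e.hom.w
  rw [← hw, ← Category.assoc]
  have : (e.inv.left : X' ⟶ X) ≫ (e.hom.left : X ⟶ X') = 𝟙 X' := by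
    rw [← Arrow.comp_left, e.inv_hom_id]; rfl
  rw [this, Category.id_comp]

/-- H-quasi-projective morphisms are quasi-projective -/
theorem isQuasiProjective_of_isHQuasiProjective {X S : Scheme.{u}} (f : X ⟶ S)
    (h : RelProj.IsHQuasiProjective f) : RelProj.IsQuasiProjective f := by
  obtain ⟨n, i, hi, hqc, hif⟩ := h
  have hlft : LocallyOfFiniteType (CohB1.ProjSpaceOver.toBase n S) := by
    have h0 : LocallyOfFiniteType (CohB1.ProjSpace.toSpec n (ULift.{u} ℤ)) :=
      VA5.locallyOfFiniteType_toSpec n _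
    have : LocallyOfFiniteType (pullback.snd (CohB1.ProjSpace.toSpec n (ULift.{u} ℤ))
      (specULiftZIsTerminal.from S)) := inferInstance
    exact this
  subst hif
  refine ⟨inferInstance, inferInstance, ?_⟩
  have hqc' : QuasiCompact (i ≫ CohB1.ProjSpaceOver.toBase n S) := inferInstance
  exact ⟨_, PullAmple.isRelAmple_pullback_of_isEmbedding i
    (CohB1.ProjSpaceOver.toBase n S) i.isEmbedding (VA5.isRelAmple_twistOver n S)⟩

/-- over an affine base, a relatively ample module is ample -/
theorem isAmple_of_isRelAmple_of_isAffine {X S : Scheme.{u}} [IsAffine S] (f : X ⟶ S)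
    {L : X.Modules} (hL : RelAmple.IsRelAmple f L) : CohB1.IsAmple L := by
  have hinv := CompAmple.isInvertible_of_isRelAmple f hL
  have h := hL.2 ⟨⊤, isAffineOpen_top S⟩
  exact AmpleLib.isAmple_of_restrict_top hinv (f ⁻¹ᵁ ⊤) rfl h

/-- over an affine base, quasi-projective morphisms are H-quasi-projective -/
theorem isHQuasiProjective_of_isQuasiProjective_of_isAffine {X S : Scheme.{u}} [IsAffine S]
    (f : X ⟶ S) (h : RelProj.IsQuasiProjective f) : RelProj.IsHQuasiProjective f := by
  obtain ⟨hlft, hqc, L, hL⟩ := h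
  have hamp := isAmple_of_isRelAmple_of_isAffine f hL
  obtain ⟨n₀, hn₀⟩ := VA4.exists_veryAmple_powers' f hamp
  obtain ⟨n, i, hi, hif, -⟩ := hn₀ n₀ le_rfl
  refine ⟨n, i, hi, ?_, hif⟩
  have hif' : i ≫ CohB1.ProjSpaceOver.toBase n S = f := hif
  have : QuasiCompact (i ≫ CohB1.ProjSpaceOver.toBase n S) := by rw [hif']; exact hqc
  exact QuasiCompact.of_comp i (CohB1.ProjSpaceOver.toBase n S)

/-- quasi-projectivity restricts to opens of the base -/
theorem isQuasiProjective_restrict {X S : Scheme.{u}} (f : X ⟶ S)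
    (h : RelProj.IsQuasiProjective f) (V : S.Opens) : RelProj.IsQuasiProjective (f ∣_ V) := by
  obtain ⟨hlft, hqc, L, hL⟩ := h
  refine ⟨inferInstance, inferInstance, L.restrict (f ⁻¹ᵁ V).ι, ?_⟩
  have h1 := (AmpleLib.isRelAmple_iff_of_openCover f L (fun b : Bool => if b then V else ⊤)
    (by
      rw [eq_top_iff]
      exact le_iSup_of_le false (by simp))).1 hL true
  simpa using h1

end Groth.Agent.Helper1.HProj
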