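import Mathlib
import Groth.Agent.Lib.Helper1.ProjChar
import Groth.Agent.Lib.Helper1.SymBCGr
import Groth.Agent.Lib.Lead.PBQc
import Groth.Prelude.Def_MoreMor

set_option autoImplicit false
universe u

open CategoryTheory CategoryTheory.Limits AlgebraicGeometry TopologicalSpace Opposite
open scoped HomogeneousIdeal

/-!
# Permanence of projective morphisms
-/

namespace Groth.Agent.Helper1.ProjBCh

open Groth.Agent.Helper1 Groth.Agent.Helper1.SymAlg

set_option synthInstance.maxHeartbeats 400000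

/-- general form: a closed immersion into the base-changed bundle -/
theorem isProjective_of_lift {X X' Y Y' : Scheme.{u}} (f : X ⟶ Y) (ψ : Y' ⟶ Y) (g' : X' ⟶ X)
    (f' : X' ⟶ Y') (w : g' ≫ f = f' ≫ ψ) (hf : RelProj.IsProjective f)
    (hci : ∀ {P P' : Scheme.{u}} (p : P ⟶ Y) (p' : P' ⟶ Y') (h : P' ⟶ P)
      (hpb : IsPullback h p' p ψ) (i : X ⟶ P) (_ : IsClosedImmersion i) (hip : i ≫ p = f),
      IsClosedImmersion (hpb.lift (g' ≫ i) f' (by rw [Category.assoc, hip, w]))) :
    RelProj.IsProjective f' := by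
  obtain ⟨E, 𝒯, j, P, p, chart, i, hEq, hEft, hj, hP, hi, hip⟩ :=
    ProjChar.exists_closedImmersion_of_isProjective f hf
  have : E.IsQuasicoherent := hEq
  have hq' : ((Scheme.Modules.pullback ψ).obj E).IsQuasicoherent :=
    Groth.Agent.Lead.PB.isQuasicoherent_pullback ψ E
  have hft' : CohB1.IsFT ((Scheme.Modules.pullback ψ).obj E) :=
    Groth.Agent.Lead.PB.isFT_pullback ψ E hEft
  obtain ⟨P', p', chart', hP'⟩ := RP2.exists_isRelProj (symGr ((Scheme.Modules.pullback ψ).obj E))
  obtain ⟨h, hpb⟩ := SymBC.main5731 ψ E hj (isGrSymAlg ((Scheme.Modules.pullback ψ).obj E))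
    p chart hP p' chart' hP'
  have hcomm : (g' ≫ i) ≫ p = f' ≫ ψ := by rw [Category.assoc, hip, w]
  have hi' : IsClosedImmersion (hpb.lift (g' ≫ i) f' hcomm) := hci p p' h hpb i hi hip
  exact ProjChar.isProjective_of_closedImmersion f' ((Scheme.Modules.pullback ψ).obj E)
    (symGr ((Scheme.Modules.pullback ψ).obj E)) (jGr ((Scheme.Modules.pullback ψ).obj E)) p' chart'
    (hpb.lift (g' ≫ i) f' hcomm) hq' hft' (isGrSymAlg _) hP' (hpb.lift_snd _ _ _)

/-- **S4421**: base change -/
theorem baseChange {X Y Y' : Scheme.{u}} (f : X ⟶ Y) (hf : RelProj.IsProjective f) (g : Y' ⟶ Y) :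
    RelProj.IsProjective (pullback.snd f g) := by
  have hsq : IsPullback (pullback.fst f g) (pullback.snd f g) f g := IsPullback.of_hasPullback f g
  apply isProjective_of_lift f g (pullback.fst f g) (pullback.snd f g) hsq.w hf
  intro P P' p p' h hpb i hi hip
  have hbig : IsPullback (pullback.fst f g)
      (hpb.lift (pullback.fst f g ≫ i) (pullback.snd f g)
        (by rw [Category.assoc, hip, hsq.w]) ≫ p') (i ≫ p) g := by
    rw [hpb.lift_snd, hip]
    exact hsq
  have hleft : IsPullback (hpb.lift (pullback.fst f g ≫ i) (pullback.snd f g)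
      (by rw [Category.assoc, hip, hsq.w])) (pullback.fst f g) h i :=
    IsPullback.of_right hbig.flip (hpb.lift_fst _ _ _) hpb.flip
  exact MorphismProperty.of_isPullback hleft.flip hi

/-- **S4423** -/
theorem of_comp {X Y Z : Scheme.{u}} (f : X ⟶ Y) (g : Y ⟶ Z) [IsSeparated g]
    (h : RelProj.IsProjective (f ≫ g)) : RelProj.IsProjective f := by
  apply isProjective_of_lift (f ≫ g) g (𝟙 X) f (Category.id_comp _) h
  intro P P' p p' h' hpb i hi hip
  have hsep : IsSeparated h' := MorphismProperty.of_isPullback hpb.flip inferInstance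
  have : IsClosedImmersion (hpb.lift (𝟙 X ≫ i) f
      (by rw [Category.assoc, hip, Category.id_comp]) ≫ h') := by
    rw [hpb.lift_fst, Category.id_comp]
    exact hi
  exact IsClosedImmersion.of_comp _ h'

/-- **S4424** -/
theorem reduced {X Y X₀ Y₀ : Scheme.{u}} (f : X ⟶ Y) (hf : RelProj.IsProjective f)
    (j : X₀ ⟶ X) (hj : MoreMor.IsThickening j) (k : Y₀ ⟶ Y) (hk : MoreMor.IsThickening k)
    (f₀ : X₀ ⟶ Y₀) (hcomm : j ≫ f = f₀ ≫ k) : RelProj.IsProjective f₀ := by
  have := hj.1
  have := hk.1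
  apply isProjective_of_lift f k j f₀ hcomm hf
  intro P P' p p' h' hpb i hi hip
  have hcl : IsClosedImmersion h' := MorphismProperty.of_isPullback hpb.flip inferInstance
  have : IsClosedImmersion (hpb.lift (j ≫ i) f₀ (by rw [Category.assoc, hip, hcomm]) ≫ h') := by
    rw [hpb.lift_fst]
    infer_instance
  exact IsClosedImmersion.of_comp _ h'

end Groth.Agent.Helper1.ProjBCh
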