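import Mathlib
import Groth.Agent.Lib.Helper1.ProjBCh

set_option autoImplicit false
universe u

open CategoryTheory CategoryTheory.Limits AlgebraicGeometry TopologicalSpace Opposite

namespace Groth.Agent.Helper1.ProjBCh

/-- base change along an arbitrary cartesian square -/
theorem of_isPullback {X X' Y Y' : Scheme.{u}} (f : X ⟶ Y) (ψ : Y' ⟶ Y) (g' : X' ⟶ X)
    (f' : X' ⟶ Y') (sq : IsPullback g' f' f ψ) (hf : RelProj.IsProjective f) :
    RelProj.IsProjective f' := by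
  apply isProjective_of_lift f ψ g' f' sq.w hf
  intro P P' p p' h hpb i hi hip
  have hbig : IsPullback g' (hpb.lift (g' ≫ i) f' (by rw [Category.assoc, hip, sq.w]) ≫ p')
      (i ≫ p) ψ := by
    rw [hpb.lift_snd, hip]
    exact sq
  have hleft : IsPullback (hpb.lift (g' ≫ i) f' (by rw [Category.assoc, hip, sq.w])) g' h i :=
    IsPullback.of_right hbig.flip (hpb.lift_fst _ _ _) hpb.flip
  exact MorphismProperty.of_isPullback hleft.flip hi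

/-- restriction of a cartesian square over an open of the base -/
theorem isPullback_restrict {X X' Y Y' : Scheme.{u}} (f : X ⟶ Y) (ψ : Y' ⟶ Y) (g' : X' ⟶ X)
    (f' : X' ⟶ Y') (sq : IsPullback g' f' f ψ) (U : Y.Opens) :
    IsPullback (g'.resLE (f ⁻¹ᵁ U) (f' ⁻¹ᵁ (ψ ⁻¹ᵁ U))
        (by rw [← Scheme.Hom.comp_preimage, ← Scheme.Hom.comp_preimage, sq.w]))
      (f' ∣_ (ψ ⁻¹ᵁ U)) (f ∣_ U) (ψ ∣_ U) := by
  have h1 : IsPullback (f' ⁻¹ᵁ (ψ ⁻¹ᵁ U)).ι (f' ∣_ (ψ ⁻¹ᵁ U)) f' (ψ ⁻¹ᵁ U).ι :=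
    (isPullback_morphismRestrict f' (ψ ⁻¹ᵁ U)).flip
  have h2 : IsPullback ((f' ⁻¹ᵁ (ψ ⁻¹ᵁ U)).ι ≫ g') (f' ∣_ (ψ ⁻¹ᵁ U)) f ((ψ ⁻¹ᵁ U).ι ≫ ψ) :=
    h1.paste_horiz sq
  have h3 : IsPullback (f ⁻¹ᵁ U).ι (f ∣_ U) f U.ι := (isPullback_morphismRestrict f U).flip
  have e1 : (ψ ⁻¹ᵁ U).ι ≫ ψ = (ψ ∣_ U) ≫ U.ι := (morphismRestrict_ι ψ U).symm
  rw [e1] at h2
  refine IsPullback.of_right (h₁₂ := (f ⁻¹ᵁ U).ι) (h₂₂ := U.ι) ?_ ?_ h3
  · rw [Scheme.Hom.resLE_comp_ι]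
    exact h2
  · rw [← cancel_mono U.ι, Category.assoc, Category.assoc, morphismRestrict_ι, ← e1,
      ← Category.assoc, Scheme.Hom.resLE_comp_ι, ← Category.assoc, morphismRestrict_ι,
      Category.assoc, Category.assoc, sq.w]

/-- **S9713** -/
theorem locallyProjective_baseChange {X S S' : Scheme.{u}} (f : X ⟶ S)
    (hf : RelProj.IsLocallyProjective f) (g : S' ⟶ S) :
    RelProj.IsLocallyProjective (pullback.snd f g) := by
  intro s'
  obtain ⟨U, hsU, hU⟩ := hf (g s')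
  refine ⟨g ⁻¹ᵁ U, hsU, ?_⟩
  exact of_isPullback (f ∣_ U) (g ∣_ U) _ _
    (isPullback_restrict f g (pullback.fst f g) (pullback.snd f g)
      (IsPullback.of_hasPullback f g) U) hU

end Groth.Agent.Helper1.ProjBCh
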