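import Mathlib
import Groth.Agent.Lib.Helper1.AmpleCrit
import Groth.Agent.Lib.Helper1.RelAmpleLib
import Groth.Agent.Lib.Helper1.SubExt9

set_option autoImplicit false
universe u
open CategoryTheory CategoryTheory.Limits AlgebraicGeometry TopologicalSpace Opposite

namespace Groth.Agent.Helper1.RelAmpleLib

open Groth.Agent.Helper1.QcCech Groth.Agent.Helper1.SubSh Groth.Agent.Helper1
open Groth.Agent.Helper1.TwForm Groth.Agent.Helper1.AmpleLib Groth.Agent.Helper1.CounitLib

variable {X Y : Scheme.{u}}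

/-- restriction commutes with twisting a module by a power of an invertible module -/
noncomputable def restrictTwistIso (j : Y ⟶ X) [IsOpenImmersion j] {L J : X.Modules}
    {J' : Y.Modules} (e : J.restrict j ≅ J')
    (hloc : LocFrame (L.restrict j) (L.restrict j)) (n : ℕ) :
    (CohB1.tensorMod J (CohB1.tensorPow L n)).restrict j ≅
      CohB1.tensorMod J' (CohB1.tensorPow (L.restrict j) n) :=
  Tw.iso ((((Tw.self L L J).tensorR ((Tw.fst L L).pow n)).restrict j).ofIsoF e)
    ((Tw.self (L.restrict j) (L.restrict j) J').tensorR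
      ((Tw.fst (L.restrict j) (L.restrict j)).pow n)) hloc

variable {S : Scheme.{u}} (f : X ⟶ S)

/-- local form of the relative ampleness criterion by twisted ideals -/
theorem isAmple_restrict_of_counit [CompactSpace X] [QuasiSeparatedSpace X] (L : X.Modules)
    (hL : PicF.IsInvertible L) (V : S.Opens) (hV : IsAffineOpen V)
    (hc : IsCompact (f ⁻¹ᵁ V : Set X))
    (h : ∀ (J : X.Modules) (i : J ⟶ Coh.structureModule X), Mono i → J.IsQuasicoherent →
      SheafOfModules.IsFiniteType.{u, u, u} J → ∃ n : ℕ, 0 < n ∧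
        Epi ((Scheme.Modules.pullbackPushforwardAdjunction f).counit.app
          (CohB1.tensorMod J (CohB1.tensorPow L n)))) :
    CohB1.IsAmple (L.restrict (f ⁻¹ᵁ V).ι) := by
  set U : X.Opens := f ⁻¹ᵁ V with hU
  have hcs : CompactSpace (↑U : Scheme.{u}) := isCompact_iff_compactSpace.mp hc
  have hqs : IsQuasiSeparated (U : Set X) :=
    IsQuasiSeparated.of_quasiSeparatedSpace _
  have hqsU : QuasiSeparatedSpace (↑U : Scheme.{u}) :=
    (isQuasiSeparated_iff_quasiSeparatedSpace _ U.isOpen).1 hqs
  have hLU := isInvertible_restrict U.ι hL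
  have hlocU := locFrame_of_isInvertible hLU hLU
  have hloc := locFrame_of_isInvertible hL hL
  apply isAmple_of_twisted_ideals hLU
  intro J' i' hmono hqc hft
  let i'' : J' ⟶ (Coh.structureModule X).restrict U.ι :=
    i' ≫ (Scheme.Modules.restrictUnitIso U.ι).inv
  have : Mono i'' := mono_comp _ _
  obtain ⟨J, i, e, hmonoJ, hqcJ, hftJ, -⟩ :=
    exists_extension_cat_qcqs (F := Coh.structureModule X) U hc J' i'' hft
  obtain ⟨n, hn, hepi⟩ := h J i hmonoJ hqcJ hftJ
  obtain ⟨n', rfl⟩ : ∃ n', n = n' + 1 := ⟨n - 1, by omega⟩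
  have hqcF : (CohB1.tensorMod J (CohB1.tensorPow L (n' + 1))).IsQuasicoherent :=
    ((Tw.self L L J).tensorR ((Tw.fst L L).pow (n' + 1))).isQuasicoherent hloc
  have hgg := isGloballyGenerated_restrict_of_spannedBy _ U
    (spannedBy_of_epi_counit' f _ hepi V hV hc hqs)
  exact ⟨n', isGloballyGenerated_of_iso (restrictTwistIso U.ι e hlocU (n' + 1)) hgg⟩

end Groth.Agent.Helper1.RelAmpleLib
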