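import Mathlib
import Groth.Agent.Lib.Helper1.RelAmpleCrit
import Groth.Agent.Lib.Helper1.CohRestr

set_option autoImplicit false
universe u
open CategoryTheory CategoryTheory.Limits AlgebraicGeometry TopologicalSpace Opposite

namespace Groth.Agent.Helper1.RelAmpleLib

open Groth.Agent.Helper1.QcCech Groth.Agent.Helper1.SubSh Groth.Agent.Helper1
open Groth.Agent.Helper1.TwForm Groth.Agent.Helper1.AmpleLib Groth.Agent.Helper1.CounitLib

variable {X S : Scheme.{u}} (f : X ⟶ S)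

/-- the counit is an epimorphism as soon as `F` is globally generated over the preimages of
enough affine opens -/
theorem epi_counit_of_cover (F : X.Modules)
    (h : ∀ x : X, ∃ U : S.Opens, IsAffineOpen U ∧ f x ∈ U ∧
      Curv2.IsGloballyGenerated (F.restrict (f ⁻¹ᵁ U).ι)) :
    Epi ((Scheme.Modules.pullbackPushforwardAdjunction f).counit.app F) := by
  rw [epi_counit_iff']
  intro Q g hg
  apply Scheme.Modules.hom_ext
  intro W
  ext t
  change g.app W t = 0
  apply TwistSec.eq_of_locally Q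
  intro x hx
  obtain ⟨U, hU, hxU, hGG⟩ := h x
  let V : X.Opens := f ⁻¹ᵁ U
  have hgg := (GlobGen.isGloballyGenerated_iff (F.restrict V.ι)).1 hGG
  have e : V.ι ''ᵁ ⊤ = V := by simp
  have h0 : (Scheme.Modules.restrictFunctor V.ι).map g = 0 := by
    apply eq_zero_of_epi_gen hgg
    intro τ
    change g.app (V.ι ''ᵁ ⊤) (show Γ(F, V.ι ''ᵁ ⊤) from τ) = 0
    have h1 : (show Γ(F, V.ι ''ᵁ ⊤) from τ) =
        QcCech.res F e.le (QcCech.res F e.ge (show Γ(F, V.ι ''ᵁ ⊤) from τ)) := by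
      rw [QcCech.res_res, QcCech.res_self]
    rw [h1, QcExt.app_res, hg U hU, map_zero]
  let W' : (↑V : Scheme.{u}).Opens := V.ι ⁻¹ᵁ W
  have h3 : V.ι ''ᵁ W' ≤ W := V.ι.image_preimage_le W
  refine ⟨V.ι ''ᵁ W', h3, ⟨⟨x, hxU⟩, hx, rfl⟩, ?_⟩
  rw [← QcExt.app_res, map_zero]
  have := congrArg (fun φ => Scheme.Modules.Hom.app φ W' (show Γ(F.restrict V.ι, W') from
    QcCech.res F h3 t)) h0
  exact this

/-- **EGA II 4.6.8**: twists of a quasi-coherent module of finite type by high powers of a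
relatively ample module are generated by their direct images -/
theorem eventually_epi_counit [CompactSpace X] (L : X.Modules) (hL : RelAmple.IsRelAmple f L)
    (F : X.Modules) (hF : Coh.IsCoh F) :
    ∃ n₀ : ℕ, 0 < n₀ ∧ ∀ n, n₀ ≤ n →
      Epi ((Scheme.Modules.pullbackPushforwardAdjunction f).counit.app
        (CohB1.tensorMod F (CohB1.tensorPow L n))) := by
  classical
  have hV : ∀ x : X, ∃ V : S.Opens, IsAffineOpen V ∧ f x ∈ V := by
    intro x
    obtain ⟨_, ⟨V, hV, rfl⟩, hxV, -⟩ :=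
      S.isBasis_affineOpens.exists_subset_of_mem_open (Set.mem_univ (f x)) isOpen_univ
    exact ⟨V, hV, hxV⟩
  choose V hVaff hxV using hV
  have hn : ∀ x : X, ∃ n₀ : ℕ, ∀ n, n₀ ≤ n → Curv2.IsGloballyGenerated
      (CohB1.tensorMod (F.restrict (f ⁻¹ᵁ V x).ι)
        (CohB1.tensorPow (L.restrict (f ⁻¹ᵁ V x).ι) n)) := fun x =>
    eventually_globallyGenerated (hL.2 ⟨V x, hVaff x⟩) _ (FinPush.isCoh_restrict _ F hF)
  choose n₀ hn₀ using hn
  obtain ⟨T, hT⟩ := isCompact_univ.elim_finite_subcover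
    (fun x => ((f ⁻¹ᵁ V x : X.Opens) : Set X)) (fun x => (f ⁻¹ᵁ V x).isOpen)
    (fun x _ => Set.mem_iUnion.2 ⟨x, hxV x⟩)
  refine ⟨T.sup n₀ + 1, Nat.succ_pos _, fun n hn => ?_⟩
  apply epi_counit_of_cover
  intro y
  obtain ⟨x, hxT, hyx⟩ : ∃ x ∈ T, y ∈ f ⁻¹ᵁ V x := by
    have := hT (Set.mem_univ y)
    simpa using this
  refine ⟨V x, hVaff x, hyx, ?_⟩
  have hLU := (hL.2 ⟨V x, hVaff x⟩).1
  have hlocU := locFrame_of_isInvertible hLU hLU
  have h1 := hn₀ x n (((Finset.le_sup hxT).trans (Nat.le_succ _)).trans hn)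
  exact isGloballyGenerated_of_iso
    (restrictTwistIso (f ⁻¹ᵁ V x).ι (Iso.refl _) hlocU n).symm h1

end Groth.Agent.Helper1.RelAmpleLib
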