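import Mathlib
import Groth.Agent.Lib.Helper1.RP9
import Groth.Agent.Lib.Helper1.RP8
import Groth.Agent.Lib.Helper1.RelAmpleCrit2
import Groth.Agent.Lib.Helper1.RelProjFT
import Groth.Agent.Lib.Helper1.GrTwAmpleOpen

set_option autoImplicit false
universe u

open CategoryTheory CategoryTheory.Limits AlgebraicGeometry TopologicalSpace Opposite
open scoped HomogeneousIdeal

namespace Groth.Agent.Helper1.RelTwPow

open Groth.Agent.Helper1.ProjBC Groth.Agent.Helper1.RP3 Groth.Agent.Helper1.QcCech Groth.Agent.Helper1.RP6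
open Groth.Agent.Helper1.LGen Groth.Agent.Helper1.RP7 Groth.Agent.Helper1.RP8

variable {Y P : Scheme.{u}} {𝒮 : RelProj.QCGrAlg Y} {p : P ⟶ Y}
  {chart : ∀ (U : Y.Opens) (hU : IsAffineOpen U), ((p ⁻¹ᵁ U : P.Opens) : Scheme.{u}) ≅ Proj (𝒮.deg U hU)}

section Uniq
variable {n : ℤ} {L L' : P.Modules}
  {lam : ∀ (U : Y.Opens) (hU : IsAffineOpen U),
    L ⟶ (Scheme.Modules.pushforward (RelProj.emb p chart U hU)).obj (GrTwist.twist (𝒮.deg U hU) n)}
  {lam' : ∀ (U : Y.Opens) (hU : IsAffineOpen U),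
    L' ⟶ (Scheme.Modules.pushforward (RelProj.emb p chart U hU)).obj (GrTwist.twist (𝒮.deg U hU) n)}

theorem exists_sec' (hP : RelProj.IsRelProj 𝒮 p chart) (hL : RelProj.IsRelTwist 𝒮 p chart n L lam)
    (hL' : RelProj.IsRelTwist 𝒮 p chart n L' lam') (W : P.Opens) (s : Γ(L, W)) :
    ∃ t : Γ(L', W), ∀ (U : Y.Opens) (hU : IsAffineOpen U), (lam' U hU).app W t = (lam U hU).app W s := by
  apply exists_sec hP hL' W (fun U hU => (lam U hU).app W s)
  intro U' U h y hy hy'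
  exact compat' hL h s y hy hy'

noncomputable def uSec (hP : RelProj.IsRelProj 𝒮 p chart) (hL : RelProj.IsRelTwist 𝒮 p chart n L lam)
    (hL' : RelProj.IsRelTwist 𝒮 p chart n L' lam') (W : P.Opens) (s : Γ(L, W)) : Γ(L', W) :=
  (exists_sec' hP hL hL' W s).choose

theorem lam_uSec (hP : RelProj.IsRelProj 𝒮 p chart) (hL : RelProj.IsRelTwist 𝒮 p chart n L lam)
    (hL' : RelProj.IsRelTwist 𝒮 p chart n L' lam') (W : P.Opens) (s : Γ(L, W))
    (U : Y.Opens) (hU : IsAffineOpen U) :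
    (lam' U hU).app W (uSec hP hL hL' W s) = (lam U hU).app W s :=
  (exists_sec' hP hL hL' W s).choose_spec U hU

noncomputable def uHom (hP : RelProj.IsRelProj 𝒮 p chart) (hL : RelProj.IsRelTwist 𝒮 p chart n L lam)
    (hL' : RelProj.IsRelTwist 𝒮 p chart n L' lam') : L ⟶ L' :=
  TwForm.homMk L L' (uSec hP hL hL')
    (by
      intro W a b
      apply lam_ext hL'
      intro U hU
      rw [map_add, lam_uSec, lam_uSec, lam_uSec, map_add])
    (by
      intro W r a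
      apply lam_ext hL'
      intro U hU
      rw [Scheme.Modules.Hom.app_smul, lam_uSec, lam_uSec, Scheme.Modules.Hom.app_smul])
    (by
      intro W W' hW a
      apply lam_ext hL'
      intro U hU
      rw [← ModGlue.app_res, lam_uSec, lam_uSec, ModGlue.app_res])

theorem uHom_app (hP : RelProj.IsRelProj 𝒮 p chart) (hL : RelProj.IsRelTwist 𝒮 p chart n L lam)
    (hL' : RelProj.IsRelTwist 𝒮 p chart n L' lam') (W : P.Opens) (s : Γ(L, W)) :
    (uHom hP hL hL').app W s = uSec hP hL hL' W s := rfl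

theorem uSec_uSec (hP : RelProj.IsRelProj 𝒮 p chart) (hL : RelProj.IsRelTwist 𝒮 p chart n L lam)
    (hL' : RelProj.IsRelTwist 𝒮 p chart n L' lam') (W : P.Opens) (s : Γ(L, W)) :
    uSec hP hL' hL W (uSec hP hL hL' W s) = s := by
  apply lam_ext hL
  intro U hU
  rw [lam_uSec, lam_uSec]

/-- the twisting sheaf `O_P(n)` is unique up to isomorphism -/
theorem nonempty_iso (hP : RelProj.IsRelProj 𝒮 p chart) (hL : RelProj.IsRelTwist 𝒮 p chart n L lam)
    (hL' : RelProj.IsRelTwist 𝒮 p chart n L' lam') : Nonempty (L ≅ L') := by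
  have : IsIso (uHom hP hL hL') := by
    apply TwForm.isIso_of_app_bijective
    intro W
    refine ⟨fun a b hab => ?_, fun t => ⟨uSec hP hL' hL W t, uSec_uSec hP hL' hL W t⟩⟩
    have hab' : uSec hP hL hL' W a = uSec hP hL hL' W b := hab
    have := congrArg (uSec hP hL' hL W) hab'
    rwa [uSec_uSec, uSec_uSec] at this
  exact ⟨asIso (uHom hP hL hL')⟩

end Uniq


section Ample
variable {L₁ : P.Modules}
  {lam₁ : ∀ (U : Y.Opens) (hU : IsAffineOpen U),
    L₁ ⟶ (Scheme.Modules.pushforward (RelProj.emb p chart U hU)).obj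
      (GrTwist.twist (𝒮.deg U hU) ((1 : ℕ) : ℤ))}

theorem compactSpace_chart (hgen : 𝒮.IsGenDegOne) (hft : 𝒮.IsFTDeg 1) (U : Y.Opens)
    (hU : IsAffineOpen U) : CompactSpace (Proj (𝒮.deg U hU)) := by
  obtain ⟨T, hT, hspan⟩ := hft U hU
  obtain ⟨-, h2⟩ := RelProjFT.proj_finiteType (𝒮.deg U hU) (𝒮.strZero U hU) (hgen U hU) T hT
    (fun x hx => hspan x hx)
  exact QuasiCompact.compactSpace_of_compactSpace (Proj.toSpecZero (𝒮.deg U hU) ≫ Spec.map (𝒮.strZero U hU))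

/-- with generation in degree one, `O_P(1)` is invertible and relatively ample -/
theorem isRelAmple_one (hP : RelProj.IsRelProj 𝒮 p chart) (hgen : 𝒮.IsGenDegOne) (hft : 𝒮.IsFTDeg 1)
    (hL : RelProj.IsRelTwist 𝒮 p chart ((1 : ℕ) : ℤ) L₁ lam₁) :
    PicF.IsInvertible L₁ ∧ RelAmple.IsRelAmple p L₁ := by
  have hunit : ∀ (V : Y.Opens) (hV : IsAffineOpen V) (x : ProjectiveSpectrum (𝒮.deg V hV)),
      ∃ g ∈ 𝒮.deg V hV 1, g ∉ x.asHomogeneousIdeal := fun V hV x =>
    RP3.exists_deg_one_notMem _ (hgen V hV) x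
  have hcomp := compactSpace_chart (𝒮 := 𝒮) hgen hft
  refine ⟨?_, (RelProjFT.finiteType_of_genDegOne 𝒮 p chart hgen hft hP).2, ?_⟩
  · apply isInvertible_of_restrict_cover
    intro y
    obtain ⟨U, hU, hyU⟩ := exists_affine_mem (p.base y)
    have := hcomp U hU
    refine ⟨_, RelProj.emb p chart U hU, inferInstance, ?_, ?_⟩
    · rw [opensRange_emb]; exact hyU
    · exact (RP5.isAmple_restrict_of_unit Nat.one_pos hL U hU (hunit U hU)).1.1
  · intro V
    have := hcomp V.1 V.2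
    exact (RP5.isAmple_restrict_of_unit Nat.one_pos hL V.1 V.2 (hunit V.1 V.2)).2

/-- `O_P(k) ≅ O_P(1)^{⊗ k}` for `k ≥ 1` -/
theorem nonempty_iso_tensorPow (hP : RelProj.IsRelProj 𝒮 p chart) (hgen : 𝒮.IsGenDegOne)
    (hL₁ : RelProj.IsRelTwist 𝒮 p chart ((1 : ℕ) : ℤ) L₁ lam₁) (k : ℕ) :
    ∀ (L : P.Modules) (lam : ∀ (U : Y.Opens) (hU : IsAffineOpen U),
      L ⟶ (Scheme.Modules.pushforward (RelProj.emb p chart U hU)).obj
        (GrTwist.twist (𝒮.deg U hU) ((k + 1 : ℕ) : ℤ))),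
      RelProj.IsRelTwist 𝒮 p chart ((k + 1 : ℕ) : ℤ) L lam →
        Nonempty (L ≅ CohB1.tensorPow L₁ (k + 1)) := by
  induction k with
  | zero =>
    intro L lam hL
    obtain ⟨e⟩ := nonempty_iso hP hL hL₁
    obtain ⟨e'⟩ := GrTwAmpleOpen.nonempty_tensorMod_unit_iso L₁
    exact ⟨e ≪≫ e'.symm⟩
  | succ k ih =>
    intro L lam hL
    obtain ⟨Lk, lamk, hLk⟩ := RP9.exists_isRelTwist hP ((k + 1 : ℕ) : ℤ)
    obtain ⟨e⟩ := ih Lk lamk hLk
    have hk : ((k + 1 + 1 : ℕ) : ℤ) = ((k + 1 : ℕ) : ℤ) + ((1 : ℕ) : ℤ) := by push_cast; ring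
    obtain ⟨e'⟩ := RP8.nonempty_tensorMod_iso hk hP hLk hL₁ hL (by
      intro x
      obtain ⟨U, hU, hxU⟩ := exists_affine_mem (p.base x)
      have hx : x ∈ (RelProj.emb p chart U hU).opensRange := by
        rw [opensRange_emb]; exact hxU
      obtain ⟨y, rfl⟩ := hx
      obtain ⟨g, hg, hgy⟩ := RP3.exists_deg_one_notMem _ (hgen U hU) y
      refine ⟨U, hU, (k + 1) • 1, 0 • 1, g ^ (k + 1), g ^ 0,
        SetLike.pow_mem_graded _ hg, SetLike.pow_mem_graded _ hg, by simp, y, rfl, ?_, ?_⟩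
      · exact fun h => hgy (y.isPrime.mem_of_pow_mem _ h)
      · exact fun h => hgy (y.isPrime.mem_of_pow_mem _ h))
    exact ⟨e'.symm ≪≫ GrTwTens.tensorModCongrLeft e L₁⟩

end Ample

section Counit
variable {X S : Scheme.{u}} (f : X ⟶ S)

theorem epi_counit_of_iso {A B : X.Modules} (e : A ≅ B)
    (h : Epi ((Scheme.Modules.pullbackPushforwardAdjunction f).counit.app A)) :
    Epi ((Scheme.Modules.pullbackPushforwardAdjunction f).counit.app B) := by
  have nat := (Scheme.Modules.pullbackPushforwardAdjunction f).counit.naturality e.hom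
  have h1 : Epi ((Scheme.Modules.pullbackPushforwardAdjunction f).counit.app A ≫ e.hom) :=
    epi_comp _ _
  have h2 : Epi (((Scheme.Modules.pushforward f ⋙ Scheme.Modules.pullback f).map e.hom) ≫
      (Scheme.Modules.pullbackPushforwardAdjunction f).counit.app B) := by
    rw [nat]; exact h1
  exact epi_of_epi ((Scheme.Modules.pushforward f ⋙ Scheme.Modules.pullback f).map e.hom) _

end Counit

/-- **S8333** -/
theorem main (hP : RelProj.IsRelProj 𝒮 p chart) [CompactSpace Y] (hgen : 𝒮.IsGenDegOne)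
    (hft : 𝒮.IsFTDeg 1) (F : P.Modules) (hFq : Coh.IsQCoh F) (hFt : CohB1.IsFT F) :
    ∃ n₀ : ℤ, ∀ (n : ℤ), n₀ ≤ n → ∀ (L : P.Modules)
      (lam : ∀ (U : Y.Opens) (hU : IsAffineOpen U),
      L ⟶ (Scheme.Modules.pushforward (RelProj.emb p chart U hU)).obj (GrTwist.twist (𝒮.deg U hU) n)),
      RelProj.IsRelTwist 𝒮 p chart n L lam →
        Epi ((Scheme.Modules.pullbackPushforwardAdjunction p).counit.app (CohB1.tensorMod F L)) := by
  obtain ⟨L₁, lam₁, hL₁⟩ := RP9.exists_isRelTwist hP ((1 : ℕ) : ℤ)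
  obtain ⟨hinv, hamp⟩ := isRelAmple_one hP hgen hft hL₁
  have : QuasiCompact p := hamp.1
  have : CompactSpace P := QuasiCompact.compactSpace_of_compactSpace p
  obtain ⟨n₀, hn₀, h⟩ := RelAmpleLib.eventually_epi_counit p L₁ hamp F ⟨hFq, hFt⟩
  refine ⟨(n₀ : ℤ), fun n hn L lam hL => ?_⟩
  obtain ⟨k, rfl⟩ : ∃ k : ℕ, n = ((k + 1 : ℕ) : ℤ) := by
    have h0 : (0 : ℤ) < n := lt_of_lt_of_le (by exact_mod_cast hn₀) hn
    refine ⟨(n - 1).toNat, ?_⟩
    push_cast
    rw [Int.toNat_of_nonneg (by omega)]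
    ring
  obtain ⟨e⟩ := nonempty_iso_tensorPow hP hgen hL₁ k L lam hL
  have hk : n₀ ≤ k + 1 := by exact_mod_cast hn
  exact epi_counit_of_iso p (GrTwTens.tensorModCongrRight F e).symm (h (k + 1) hk)

end Groth.Agent.Helper1.RelTwPow
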