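import Mathlib
import Groth.Agent.Lib.Helper1.RelProjFT
import Groth.Agent.Lib.Helper1.RelProjCI
import Groth.Agent.Lib.Helper1.VA5
import Groth.Agent.Lib.Helper1.RelTwPow
import Groth.Agent.Lib.Helper1.PullRel
import Groth.Agent.Lib.Helper1.RP9
import Groth.Agent.Lib.Helper1.ProjSpaceLib

set_option autoImplicit false
universe u

open CategoryTheory CategoryTheory.Limits AlgebraicGeometry TopologicalSpace Opposite
open HomogeneousLocalization
open scoped HomogeneousIdeal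

namespace Groth.Agent.Helper1.ProjProper

section Comm
variable {σ τ A B : Type u} [CommRing A] [SetLike σ A] [AddSubgroupClass σ A] {𝒜 : ℕ → σ}
  [GradedRing 𝒜] [CommRing B] [SetLike τ B] [AddSubgroupClass τ B] {ℬ : ℕ → τ} [GradedRing ℬ]

set_option backward.isDefEq.respectTransparency false in
/-- compatibility of `Proj.map` with the structure morphisms to a common base -/
theorem map_toSpecZero {R : CommRingCat.{u}} (σA : R ⟶ CommRingCat.of (𝒜 0))
    (σB : R ⟶ CommRingCat.of (ℬ 0)) (f : 𝒜 →+*ᵍ ℬ) (hf : (ℬ)₊ ≤ ((𝒜)₊).map f)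
    (hσ : ∀ r, f (σA.hom r : A) = (σB.hom r : B)) :
    Proj.map f hf ≫ Proj.toSpecZero 𝒜 ≫ Spec.map σA = Proj.toSpecZero ℬ ≫ Spec.map σB := by
  refine (Proj.mapAffineOpenCover f hf).openCover.hom_ext _ _ fun s => ?_
  simp only [Scheme.AffineOpenCover.openCover_f, Proj.mapAffineOpenCover_f,
    Proj.awayι_comp_map_assoc f hf s.1.2 _ s.2.2, Proj.awayι_toSpecZero_assoc,
    ← Spec.map_comp]
  congr 1
  ext a
  change (Away.map f s.2.1 (fromZeroRingHom 𝒜 _ (σA.hom a))).val =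
    (fromZeroRingHom ℬ _ (σB.hom a)).val
  have h1 : fromZeroRingHom 𝒜 (Submonoid.powers s.2.1) (σA.hom a) =
      Away.mk 𝒜 s.2.2 0 (σA.hom a : A) (by
        rw [zero_smul]; exact (σA.hom a).2) := by
    apply HomogeneousLocalization.val_injective
    rw [Away.val_mk]
    change Localization.mk (σA.hom a : A) 1 = _
    congr 1
    ext
    simp
  rw [h1, Away.map_mk, Away.val_mk, hσ]
  change _ = Localization.mk (σB.hom a : B) 1
  congr 1
  ext
  simp

end Comm

section Univ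
variable {σ A : Type u} [CommRing A] [SetLike σ A] [AddSubgroupClass σ A] (𝒜 : ℕ → σ)
  [GradedRing 𝒜]

/-- evaluation of polynomials at degree-one elements, as a graded ring homomorphism -/
noncomputable def evHom {R : Type u} [CommRing R] (φ : R →+* 𝒜 0) (n : ℕ) (g : Fin (n + 1) → A)
    (hg : ∀ i, g i ∈ 𝒜 1) : CohB1.polyGrading n R →+*ᵍ 𝒜 where
  toRingHom := MvPolynomial.eval₂Hom ((algebraMap (𝒜 0) A).comp φ) g
  map_mem := by
    intro k p hp
    have hp' : p.IsHomogeneous k := hp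
    show MvPolynomial.eval₂ ((algebraMap (𝒜 0) A).comp φ) g p ∈ 𝒜 k
    rw [MvPolynomial.eval₂_eq]
    refine sum_mem fun d hd => ?_
    have hdeg : ∑ i ∈ d.support, d i • 1 = k := by
      have := hp' (MvPolynomial.mem_support_iff.mp hd)
      rw [← this]
      simp [Finsupp.weight_apply, Finsupp.sum]
    have h1 : ∏ i ∈ d.support, g i ^ d i ∈ 𝒜 (∑ i ∈ d.support, d i • 1) :=
      SetLike.prod_pow_mem_graded 𝒜 (fun _ => 1) g (fun i => d i) fun i _ => hg i
    rw [hdeg] at h1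
    have h0 : ((algebraMap (𝒜 0) A).comp φ) (MvPolynomial.coeff d p) ∈ 𝒜 0 :=
      (φ (MvPolynomial.coeff d p)).2
    have := SetLike.mul_mem_graded h0 h1
    rwa [zero_add] at this

@[simp] lemma evHom_X {R : Type u} [CommRing R] (φ : R →+* 𝒜 0) (n : ℕ) (g : Fin (n + 1) → A)
    (hg : ∀ i, g i ∈ 𝒜 1) (i : Fin (n + 1)) : evHom 𝒜 φ n g hg (MvPolynomial.X i) = g i := by
  show MvPolynomial.eval₂ _ g (MvPolynomial.X i) = _
  simp

@[simp] lemma evHom_C {R : Type u} [CommRing R] (φ : R →+* 𝒜 0) (n : ℕ) (g : Fin (n + 1) → A)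
    (hg : ∀ i, g i ∈ 𝒜 1) (r : R) : evHom 𝒜 φ n g hg (MvPolynomial.C r) = (φ r : A) := by
  show MvPolynomial.eval₂ _ g (MvPolynomial.C r) = _
  simp


set_option backward.isDefEq.respectTransparency.types false in
theorem proj_isProper {R : CommRingCat.{u}} (φ : R ⟶ CommRingCat.of (𝒜 0))
    (hgen : Subring.closure ((𝒜 0 : Set A) ∪ (𝒜 1 : Set A)) = ⊤)
    (T : Finset A) (hT : (↑T : Set A) ⊆ 𝒜 1)
    (hspan : ∀ x ∈ 𝒜 1, ∃ c : A → R, x = ∑ t ∈ T, (φ.hom (c t) : A) * t) :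
    IsProper (Proj.toSpecZero 𝒜 ≫ Spec.map φ) := by
  classical
  let n := T.card
  let g : Fin (n + 1) → A := Fin.cons 0 (fun i => ((T.equivFin.symm i : T) : A))
  have hg : ∀ i, g i ∈ 𝒜 1 := by
    intro i
    refine Fin.cases ?_ ?_ i
    · exact zero_mem _
    · intro j; exact hT (T.equivFin.symm j).2
  let ev := evHom 𝒜 φ.hom n g hg
  have hX : ∀ t (ht : t ∈ T), ev (MvPolynomial.X (Fin.succ (T.equivFin ⟨t, ht⟩))) = t := by
    intro t ht
    show evHom 𝒜 φ.hom n g hg _ = t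
    rw [evHom_X]
    simp [g]
  have hrange1 : ∀ a ∈ 𝒜 1, a ∈ ev.toRingHom.range := by
    intro a ha
    obtain ⟨c, rfl⟩ := hspan a ha
    refine sum_mem fun t ht => mul_mem ⟨MvPolynomial.C (c t), evHom_C 𝒜 φ.hom n g hg _⟩
      ⟨_, hX t ht⟩
  have hsurj : ∀ k, 0 < k → ∀ b ∈ 𝒜 k, ∃ a, ev a = b := by
    intro k hk b hb
    exact RelProjCI.mem_of_genDegOne 𝒜 hgen ev.toRingHom.range hrange1 hk hb
  have hirr : (𝒜)₊ ≤ ((CohB1.polyGrading n R)₊).map ev := by
    change ((𝒜)₊).toIdeal ≤ (((CohB1.polyGrading n R)₊).map ev).toIdeal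
    apply RelProjCI.irrelevant_le_of_genDegOne 𝒜 hgen _ (HomogeneousIdeal.isHomogeneous _)
    intro a ha
    rw [HomogeneousIdeal.toIdeal_map]
    obtain ⟨c, rfl⟩ := hspan a ha
    refine sum_mem fun t ht => Ideal.mul_mem_left _ _ ?_
    rw [← hX t ht]
    exact Ideal.mem_map_of_mem _
      (HomogeneousIdeal.mem_irrelevant_of_mem _ one_pos (ProjSpaceLib.X_mem n R _))
  have hci : IsClosedImmersion (Proj.map ev hirr) := RelProjCI.isClosedImmersion_map' ev hirr hsurj
  have hcomm := map_toSpecZero (𝒜 := CohB1.polyGrading n R) (ℬ := 𝒜)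
    (CommRingCat.ofHom (algebraMap R (CohB1.polyGrading n R 0))) φ ev hirr (by
      intro r
      exact evHom_C 𝒜 φ.hom n g hg r)
  rw [← hcomm]
  have h2 : IsProper (CohB1.ProjSpace.toSpec n R) := VA5.isProper_toSpec n R
  unfold CohB1.ProjSpace.toSpec at h2
  have h1 : IsProper (Proj.map ev hirr) := inferInstance
  exact MorphismProperty.comp_mem _ _ _ h1 h2

end Univ


section Rel
variable {Y P : Scheme.{u}} (𝒮 : RelProj.QCGrAlg Y) (p : P ⟶ Y)
  (chart : ∀ (U : Y.Opens) (hU : IsAffineOpen U),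
    (((p ⁻¹ᵁ U : P.Opens) : Scheme.{u}) ≅ Proj (𝒮.deg U hU)))

set_option backward.isDefEq.respectTransparency.types false in
theorem isProper_of_genDegOne (hgen : 𝒮.IsGenDegOne) (hft : 𝒮.IsFTDeg 1)
    (hP : RelProj.IsRelProj 𝒮 p chart) : IsProper p := by
  have key : ∀ U : Y.affineOpens, IsProper (p ∣_ U.1) := by
    intro U
    have hU : IsAffineOpen U.1 := U.2
    obtain ⟨T, hT, hspan⟩ := hft U.1 hU
    have h1 := proj_isProper (𝒮.deg U.1 hU) (𝒮.strZero U.1 hU) (hgen U.1 hU) T hT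
      (fun x hx => hspan x hx)
    rw [RelProjLoc.restrict_eq 𝒮 p chart hP U.1 hU]
    have e : (chart U.1 hU).hom ≫ Proj.toSpecZero (𝒮.deg U.1 hU) ≫
        Spec.map (𝒮.strZero U.1 hU) ≫ hU.isoSpec.inv =
        (chart U.1 hU).hom ≫ (Proj.toSpecZero (𝒮.deg U.1 hU) ≫
        Spec.map (𝒮.strZero U.1 hU)) ≫ hU.isoSpec.inv := by
      simp only [Category.assoc]
    rw [e]
    infer_instance
  exact IsZariskiLocalAtTarget.of_iSup_eq_top (P := @IsProper)
      (fun U : Y.affineOpens => U.1) (iSup_affineOpens_eq_top Y) fun U => key U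

end Rel


/-- **S4418** -/
theorem main4418 {X Y : Scheme.{u}} (f : X ⟶ Y) (hf : RelProj.IsProjective f) :
    RelProj.IsQuasiProjective f ∧ IsProper f := by
  obtain ⟨𝒮, P, p, chart, e, hgen, hft, hP, rfl⟩ := hf
  have hfin := RelProjFT.finiteType_of_genDegOne 𝒮 p chart hgen hft hP
  have hprop := isProper_of_genDegOne 𝒮 p chart hgen hft hP
  obtain ⟨L, lam, hL⟩ := RP9.exists_isRelTwist hP ((1 : ℕ) : ℤ)
  have hamp := RelTwPow.isRelAmple_one hP hgen hft hL
  have : QuasiCompact p := hfin.2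
  have : LocallyOfFiniteType p := hfin.1
  exact ⟨⟨inferInstance, inferInstance, _,
    PullAmple.isRelAmple_pullback_of_isEmbedding e.hom p e.hom.homeomorph.isEmbedding hamp.2⟩,
    inferInstance⟩

end Groth.Agent.Helper1.ProjProper
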