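import Mathlib
import Groth.Prelude.Def_RelProj
import Groth.Agent.Lib.Helper1.GrGlue
import Groth.Agent.Lib.Helper1.GrTransport

set_option autoImplicit false
universe u
open CategoryTheory CategoryTheory.Limits AlgebraicGeometry TopologicalSpace Opposite
open scoped HomogeneousIdeal

/-!
# The polynomial algebra `𝒜[x_i : i ∈ σ]` over a quasi-coherent algebra, graded by total degree
-/

namespace Groth.Agent.Helper1.PolyAlg

open Groth.Agent.Helper1 MvPolynomial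

variable {S : Scheme.{u}} (𝒜 : RelSpec.QCAlg S) (σ : Type)

/-- restriction map of `𝒜` along an arrow of the affine site -/
noncomputable abbrev resA {U V : S.AffineZariskiSite} (i : V ⟶ U) :
    𝒜.presheaf.obj (op U.1) →+* 𝒜.presheaf.obj (op V.1) :=
  (𝒜.presheaf.map (homOfLE (Scheme.AffineZariskiSite.toOpens_mono i.le)).op).hom

/-- the polynomial presheaf on the affine site -/
noncomputable def F : S.AffineZariskiSiteᵒᵖ ⥤ CommRingCat.{u} where
  obj U := CommRingCat.of (MvPolynomial σ (𝒜.presheaf.obj (op U.unop.1)))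
  map {U V} i := CommRingCat.ofHom (MvPolynomial.map (resA 𝒜 i.unop))
  map_id U := by
    apply CommRingCat.hom_ext
    apply MvPolynomial.ringHom_ext
    · intro a
      change MvPolynomial.map (resA 𝒜 (𝟙 U).unop) (C a) = C a
      rw [MvPolynomial.map_C]
      congr 1
      change (𝒜.presheaf.map (𝟙 _)).hom a = a
      rw [CategoryTheory.Functor.map_id]
      rfl
    · intro i
      change MvPolynomial.map (resA 𝒜 (𝟙 U).unop) (X i) = X i
      rw [MvPolynomial.map_X]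
  map_comp {U V W} i j := by
    apply CommRingCat.hom_ext
    apply MvPolynomial.ringHom_ext
    · intro a
      change MvPolynomial.map (resA 𝒜 (i ≫ j).unop) (C a) =
        MvPolynomial.map (resA 𝒜 j.unop) (MvPolynomial.map (resA 𝒜 i.unop) (C a))
      rw [MvPolynomial.map_C, MvPolynomial.map_C, MvPolynomial.map_C]
      congr 1
      change _ = ((𝒜.presheaf.map _ ≫ 𝒜.presheaf.map _).hom a)
      rw [← Functor.map_comp]
      rfl
    · intro k
      change MvPolynomial.map (resA 𝒜 (i ≫ j).unop) (X k) =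
        MvPolynomial.map (resA 𝒜 j.unop) (MvPolynomial.map (resA 𝒜 i.unop) (X k))
      rw [MvPolynomial.map_X, MvPolynomial.map_X, MvPolynomial.map_X]

theorem F_map_apply {U V : S.AffineZariskiSite} (i : V ⟶ U)
    (p : MvPolynomial σ (𝒜.presheaf.obj (op U.1))) :
    ((F 𝒜 σ).map i.op).hom p = MvPolynomial.map (resA 𝒜 i) p := rfl

/-- constants, as a natural transformation -/
noncomputable def c : (Scheme.AffineZariskiSite.toOpensFunctor S).op ⋙ 𝒜.presheaf ⟶ F 𝒜 σ where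
  app U := CommRingCat.ofHom (C : 𝒜.presheaf.obj (op U.unop.1) →+* MvPolynomial σ _)
  naturality U V i := by
    apply CommRingCat.hom_ext
    ext a
    change C (resA 𝒜 i.unop a) = MvPolynomial.map (resA 𝒜 i.unop) (C a)
    rw [MvPolynomial.map_C]

/-- the structure map -/
noncomputable def α : (Scheme.AffineZariskiSite.toOpensFunctor S).op ⋙ S.presheaf ⟶ F 𝒜 σ :=
  (Scheme.AffineZariskiSite.toOpensFunctor S).op.whiskerLeft 𝒜.str ≫ c 𝒜 σ

theorem α_app (U : S.AffineZariskiSite) (r : Γ(S, U.1)) :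
    ((α 𝒜 σ).app (op U)).hom r = C ((𝒜.str.app (op U.1)).hom r) := rfl

theorem coequifibered : (α 𝒜 σ).Coequifibered := by
  rw [Scheme.AffineZariskiSite.coequifibered_iff_forall_isLocalizationAway]
  intro U r
  let _i : Algebra (𝒜.presheaf.obj (op U.1)) (𝒜.presheaf.obj (op (S.basicOpen r))) :=
    (𝒜.presheaf.map (homOfLE (S.basicOpen_le r)).op).hom.toAlgebra
  have hloc : IsLocalization.Away ((𝒜.str.app (op U.1)).hom r)
      (𝒜.presheaf.obj (op (S.basicOpen r))) := 𝒜.isQC U.1 U.2 r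
  have h := MvPolynomial.isLocalization (σ := σ) (Submonoid.powers ((𝒜.str.app (op U.1)).hom r))
    (𝒜.presheaf.obj (op (S.basicOpen r)))
  rw [Submonoid.map_powers] at h
  exact h


attribute [local instance] MvPolynomial.gradedAlgebra

/-- the gradings by total degree -/
noncomputable def 𝒢 (U : S.AffineZariskiSite) : ℕ → AddSubgroup ((F 𝒜 σ).obj (op U)) :=
  GrTransport.mapPiece (RingEquiv.refl (MvPolynomial σ (𝒜.presheaf.obj (op U.1))))
    (homogeneousSubmodule σ (𝒜.presheaf.obj (op U.1)))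

noncomputable instance (U : S.AffineZariskiSite) : GradedRing (𝒢 𝒜 σ U) :=
  GrTransport.gradedRing (RingEquiv.refl (MvPolynomial σ (𝒜.presheaf.obj (op U.1))))
    (homogeneousSubmodule σ (𝒜.presheaf.obj (op U.1)))

theorem mem_𝒢 {U : S.AffineZariskiSite} {d : ℕ} {x : (F 𝒜 σ).obj (op U)} :
    x ∈ 𝒢 𝒜 σ U d ↔
      MvPolynomial.IsHomogeneous (show MvPolynomial σ (𝒜.presheaf.obj (op U.1)) from x) d :=
  GrTransport.mem_mapPiece_iff _ _

theorem hmap {U V : S.AffineZariskiSite} (i : V ⟶ U) {d : ℕ} {x : (F 𝒜 σ).obj (op U)}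
    (hx : x ∈ 𝒢 𝒜 σ U d) : ((F 𝒜 σ).map i.op).hom x ∈ 𝒢 𝒜 σ V d := by
  have hx' := (mem_𝒢 𝒜 σ).1 hx
  exact (mem_𝒢 𝒜 σ).2 (hx'.map _)

theorem hα (U : S.AffineZariskiSite) (r : Γ(S, U.1)) : ((α 𝒜 σ).app (op U)).hom r ∈ 𝒢 𝒜 σ U 0 := by
  exact (mem_𝒢 𝒜 σ).2 (isHomogeneous_C σ _)

/-- **the polynomial graded algebra** -/
noncomputable def poly : RelProj.QCGrAlg S :=
  GrGlue.grAlg (coequifibered 𝒜 σ) (𝒢 𝒜 σ) (fun i _ _ hx => hmap 𝒜 σ i hx) (hα 𝒜 σ)

/-- the presentation over an affine open -/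
noncomputable def sec (U : S.AffineZariskiSite) :
    MvPolynomial σ (𝒜.presheaf.obj (op U.1)) ≃+* (poly 𝒜 σ).presheaf.obj (op U.1) :=
  GrGlue.secEquiv (coequifibered 𝒜 σ) U

theorem sec_mem_iff (U : S.AffineZariskiSite) (d : ℕ)
    (x : MvPolynomial σ (𝒜.presheaf.obj (op U.1))) :
    sec 𝒜 σ U x ∈ (poly 𝒜 σ).deg U.1 U.2 d ↔ x.IsHomogeneous d := by
  refine Iff.trans (GrGlue.mem_deg_iff (coequifibered 𝒜 σ) (𝒢 𝒜 σ)
    (fun i _ _ hx => hmap 𝒜 σ i hx) (hα 𝒜 σ) (U := U.1) (hU := U.2)) ?_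
  change (GrGlue.secEquiv (coequifibered 𝒜 σ) U).symm (GrGlue.secEquiv (coequifibered 𝒜 σ) U x) ∈
    𝒢 𝒜 σ U d ↔ _
  rw [RingEquiv.symm_apply_apply]
  exact mem_𝒢 𝒜 σ

theorem mem_deg_iff (U : S.AffineZariskiSite) (d : ℕ) (y : (poly 𝒜 σ).presheaf.obj (op U.1)) :
    y ∈ (poly 𝒜 σ).deg U.1 U.2 d ↔ ((sec 𝒜 σ U).symm y).IsHomogeneous d := by
  rw [← sec_mem_iff, RingEquiv.apply_symm_apply]

theorem sec_res {U V : S.AffineZariskiSite} (i : V ⟶ U)
    (x : MvPolynomial σ (𝒜.presheaf.obj (op U.1))) :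
    ((poly 𝒜 σ).presheaf.map (homOfLE (Scheme.AffineZariskiSite.toOpens_mono i.le)).op).hom
      (sec 𝒜 σ U x) = sec 𝒜 σ V (MvPolynomial.map (resA 𝒜 i) x) :=
  GrGlue.secEquiv_res (coequifibered 𝒜 σ) i x

theorem sec_str (U : S.AffineZariskiSite) (r : Γ(S, U.1)) :
    sec 𝒜 σ U (C ((𝒜.str.app (op U.1)).hom r)) = ((poly 𝒜 σ).str.app (op U.1)).hom r :=
  GrGlue.secEquiv_str (coequifibered 𝒜 σ) U r

theorem isGenDegOne : (poly 𝒜 σ).IsGenDegOne := by
  intro U hU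
  rw [eq_top_iff]
  rintro y -
  obtain ⟨x, rfl⟩ := (sec 𝒜 σ ⟨U, hU⟩).surjective y
  induction x using MvPolynomial.induction_on with
  | C a =>
    apply Subring.subset_closure
    left
    exact (sec_mem_iff 𝒜 σ ⟨U, hU⟩ 0 _).2 (isHomogeneous_C σ a)
  | add p q hp hq =>
    rw [map_add]
    exact Subring.add_mem _ hp hq
  | mul_X p i hp =>
    rw [map_mul]
    refine Subring.mul_mem _ hp ?_
    apply Subring.subset_closure
    right
    exact (sec_mem_iff 𝒜 σ ⟨U, hU⟩ 1 _).2 (isHomogeneous_X _ i)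


theorem exists_coeff {α R B : Type*} [CommRing R] [CommRing B] [DecidableEq B] (ρ : R →+* B)
    (T : Finset α) (F : α → B) (c : α → R) :
    ∃ c' : B → R, ∑ t ∈ T, ρ (c t) * F t = ∑ t' ∈ T.image F, ρ (c' t') * t' := by
  classical
  refine ⟨fun t' => ∑ t ∈ T.filter (fun t => F t = t'), c t, ?_⟩
  rw [Finset.sum_image']
  intro t ht
  rw [map_sum, Finset.sum_mul]
  refine Finset.sum_congr rfl fun t₂ ht₂ => ?_
  rw [(Finset.mem_filter.1 ht₂).2]

theorem isFTDeg_one [Finite σ]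
    (hfin : ∀ (U : S.Opens) (_ : IsAffineOpen U), ∃ G : Finset (𝒜.presheaf.obj (op U)),
      ∀ a : 𝒜.presheaf.obj (op U), ∃ c : 𝒜.presheaf.obj (op U) → Γ(S, U),
        a = ∑ g ∈ G, (𝒜.str.app (op U)).hom (c g) * g) : (poly 𝒜 σ).IsFTDeg 1 := by
  classical
  have := Fintype.ofFinite σ
  intro U hU
  obtain ⟨G, hG⟩ := hfin U hU
  let Fn : σ × 𝒜.presheaf.obj (op U) → (poly 𝒜 σ).presheaf.obj (op U) :=
    fun ig => sec 𝒜 σ ⟨U, hU⟩ (C ig.2 * X ig.1)
  refine ⟨((Finset.univ : Finset σ) ×ˢ G).image Fn, ?_, ?_⟩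
  · intro y hy
    obtain ⟨ig, -, rfl⟩ := Finset.mem_image.1 (Finset.mem_coe.1 hy)
    refine (sec_mem_iff 𝒜 σ ⟨U, hU⟩ 1 _).2 ?_
    have := (isHomogeneous_C σ ig.2).mul (isHomogeneous_X (𝒜.presheaf.obj (op U)) ig.1)
    simpa using this
  · intro y hy
    obtain ⟨x, rfl⟩ := (sec 𝒜 σ ⟨U, hU⟩).surjective y
    have hx : x ∈ homogeneousSubmodule σ (𝒜.presheaf.obj (op U)) 1 :=
      (sec_mem_iff 𝒜 σ ⟨U, hU⟩ 1 x).1 hy
    rw [homogeneousSubmodule_one_eq_span_X, Submodule.mem_span_range_iff_exists_fun] at hx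
    obtain ⟨a, rfl⟩ := hx
    choose c hc using fun i => hG (a i)
    obtain ⟨c', hc'⟩ := exists_coeff ((poly 𝒜 σ).str.app (op U)).hom
      ((Finset.univ : Finset σ) ×ˢ G) Fn (fun ig => c ig.1 ig.2)
    refine ⟨c', ?_⟩
    rw [← hc', Finset.sum_product, map_sum]
    refine Finset.sum_congr rfl fun i _ => ?_
    conv_lhs => rw [hc i]
    rw [Finset.sum_smul, map_sum]
    refine Finset.sum_congr rfl fun g _ => ?_
    change sec 𝒜 σ ⟨U, hU⟩ (((𝒜.str.app (op U)).hom (c i g) * g) • X i) = _ * sec 𝒜 σ ⟨U, hU⟩ _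
    rw [← sec_str 𝒜 σ ⟨U, hU⟩, ← map_mul]
    congr 1
    rw [MvPolynomial.smul_eq_C_mul, map_mul, mul_assoc]

end Groth.Agent.Helper1.PolyAlg
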