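import Mathlib
import Groth.Prelude.Def_RelProj
import Groth.Agent.Lib.Helper1.PolyAlg
import Groth.Agent.Lib.Helper1.RP2
import Groth.Agent.Lib.Helper1.ProjProper
import Groth.Agent.Lib.Helper1.ProjClosed
import Groth.Agent.Lib.Helper1.ProjBCh
import Groth.Agent.Lib.Helper1.ProjChar

set_option autoImplicit false
universe u
open CategoryTheory CategoryTheory.Limits AlgebraicGeometry TopologicalSpace Opposite
open scoped HomogeneousIdeal

/-!
# Projective space over a scheme is a relative Proj; H-projective morphisms are projective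
-/

namespace Groth.Agent.Helper1.ProjSpaceRel

open Groth.Agent.Helper1 MvPolynomial

section GradedIso
variable {σ τ A B : Type u} [CommRing A] [SetLike σ A] [AddSubgroupClass σ A] {𝒜 : ℕ → σ}
  [GradedRing 𝒜] [CommRing B] [SetLike τ B] [AddSubgroupClass τ B] {ℬ : ℕ → τ} [GradedRing ℬ]

theorem map_map_eq_id (φ : 𝒜 →+*ᵍ ℬ) (ψ : ℬ →+*ᵍ 𝒜) (hφ : (ℬ)₊ ≤ ((𝒜)₊).map φ)
    (hψ : (𝒜)₊ ≤ ((ℬ)₊).map ψ) (h : ψ.comp φ = GradedRingHom.id 𝒜) :
    Proj.map ψ hψ ≫ Proj.map φ hφ = 𝟙 (Proj 𝒜) := by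
  rw [← Proj.map_comp, RP2.map_congr h _ (by simp), Proj.map_id]

end GradedIso

attribute [local instance] MvPolynomial.gradedAlgebra

variable (n : ℕ) (R : Type u) [CommRing R]

/-- the polynomial algebra on `Spec R` -/
noncomputable abbrev 𝒮 : RelProj.QCGrAlg (Spec (CommRingCat.of R)) :=
  PolyAlg.poly (RelSpec.QCAlg.unit (Spec (CommRingCat.of R))) (Fin (n + 1))

/-- the top affine open -/
noncomputable def topU : (Spec (CommRingCat.of R)).AffineZariskiSite := ⟨⊤, isAffineOpen_top _⟩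

/-- `R ≃ Γ(Spec R, ⊤)` -/
noncomputable def γ : R ≃+* Γ(Spec (CommRingCat.of R), ⊤) :=
  (Scheme.ΓSpecIso (CommRingCat.of R)).symm.commRingCatIsoToRingEquiv

theorem γ_symm_apply (r : Γ(Spec (CommRingCat.of R), ⊤)) :
    (γ R).symm r = (Scheme.ΓSpecIso (CommRingCat.of R)).hom.hom r := rfl

/-- the identification of `R[x]` with the global sections of the polynomial algebra -/
noncomputable def E : MvPolynomial (Fin (n + 1)) R ≃+* (𝒮 n R).presheaf.obj (op ⊤) :=
  (MvPolynomial.mapEquiv (Fin (n + 1)) (γ R)).trans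
    (PolyAlg.sec (RelSpec.QCAlg.unit (Spec (CommRingCat.of R))) (Fin (n + 1)) (topU R))

theorem E_apply (x : MvPolynomial (Fin (n + 1)) R) :
    E n R x = PolyAlg.sec (RelSpec.QCAlg.unit (Spec (CommRingCat.of R))) (Fin (n + 1)) (topU R)
      (MvPolynomial.map ((γ R).toRingHom) x) := rfl

theorem E_symm_apply (y : (𝒮 n R).presheaf.obj (op ⊤)) :
    (E n R).symm y = MvPolynomial.map ((γ R).symm.toRingHom)
      ((PolyAlg.sec (RelSpec.QCAlg.unit (Spec (CommRingCat.of R))) (Fin (n + 1)) (topU R)).symm y) :=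
  rfl

/-- `E` as a graded homomorphism -/
noncomputable def φ : CohB1.polyGrading n R →+*ᵍ (𝒮 n R).deg ⊤ (isAffineOpen_top _) where
  toRingHom := (E n R : _ →+* _)
  map_mem := by
    intro d x hx
    change E n R x ∈ _
    rw [E_apply]
    exact (PolyAlg.sec_mem_iff _ _ (topU R) d _).2 (MvPolynomial.IsHomogeneous.map hx _)

/-- `E⁻¹` as a graded homomorphism -/
noncomputable def ψ : (𝒮 n R).deg ⊤ (isAffineOpen_top _) →+*ᵍ CohB1.polyGrading n R where
  toRingHom := ((E n R).symm : _ →+* _)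
  map_mem := by
    intro d y hy
    change (E n R).symm y ∈ _
    rw [E_symm_apply]
    exact MvPolynomial.IsHomogeneous.map ((PolyAlg.mem_deg_iff _ _ (topU R) d y).1 hy) _

theorem φ_apply (x : MvPolynomial (Fin (n + 1)) R) : φ n R x = E n R x := rfl
theorem ψ_apply (y : (𝒮 n R).presheaf.obj (op ⊤)) : ψ n R y = (E n R).symm y := rfl

theorem ψ_comp_φ : (ψ n R).comp (φ n R) = GradedRingHom.id _ := by
  apply GradedRingHom.ext
  intro x
  rw [GradedRingHom.comp_apply, φ_apply, ψ_apply, RingEquiv.symm_apply_apply,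
    GradedRingHom.id_apply]

theorem φ_comp_ψ : (φ n R).comp (ψ n R) = GradedRingHom.id _ := by
  apply GradedRingHom.ext
  intro x
  rw [GradedRingHom.comp_apply, φ_apply, ψ_apply, RingEquiv.apply_symm_apply,
    GradedRingHom.id_apply]

theorem hφ : ((𝒮 n R).deg ⊤ (isAffineOpen_top _))₊ ≤ ((CohB1.polyGrading n R)₊).map (φ n R) :=
  ProjClosed.irrelevant_le_map_of_surjective _ _ (φ n R) (E n R).surjective

theorem hψ : (CohB1.polyGrading n R)₊ ≤ (((𝒮 n R).deg ⊤ (isAffineOpen_top _))₊).map (ψ n R) :=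
  ProjClosed.irrelevant_le_map_of_surjective _ _ (ψ n R) (E n R).symm.surjective


section Main
variable {P : Scheme.{u}} (p : P ⟶ Spec (CommRingCat.of R))
  (chart : ∀ (U : (Spec (CommRingCat.of R)).Opens) (hU : IsAffineOpen U),
    (((p ⁻¹ᵁ U : P.Opens) : Scheme.{u}) ≅ Proj ((𝒮 n R).deg U hU)))

/-- `Proj R[x] ⟶ P` -/
noncomputable def eHom : Proj (CohB1.polyGrading n R) ⟶ P :=
  Proj.map (ψ n R) (hψ n R) ≫ (chart ⊤ (isAffineOpen_top _)).inv ≫ (p ⁻¹ᵁ ⊤).ι

theorem isIso_projMap_ψ : IsIso (Proj.map (ψ n R) (hψ n R)) :=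
  ⟨Proj.map (φ n R) (hφ n R), map_map_eq_id (φ n R) (ψ n R) (hφ n R) (hψ n R) (ψ_comp_φ n R),
    map_map_eq_id (ψ n R) (φ n R) (hψ n R) (hφ n R) (φ_comp_ψ n R)⟩

instance isIso_eHom : IsIso (eHom n R p chart) := by
  have h1 := isIso_projMap_ψ n R
  have h2 : IsIso (p ⁻¹ᵁ ⊤).ι := by
    apply isIso_of_isOpenImmersion_of_opensRange_eq_top
    rw [Scheme.Opens.opensRange_ι]
    rfl
  have h3 : IsIso ((chart ⊤ (isAffineOpen_top _)).inv ≫ (p ⁻¹ᵁ ⊤).ι) := inferInstance
  unfold eHom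
  exact IsIso.comp_isIso

variable (hP : RelProj.IsRelProj (𝒮 n R) p chart)

include hP in
theorem eHom_p : eHom n R p chart ≫ p = Proj.toSpecZero (CohB1.polyGrading n R) ≫
    Spec.map (CommRingCat.ofHom (algebraMap R (CohB1.polyGrading n R 0))) := by
  unfold eHom
  rw [Category.assoc, Category.assoc, ← hP.chart_over ⊤ (isAffineOpen_top _),
    Iso.inv_hom_id_assoc]
  have h := ProjProper.map_toSpecZero (𝒜 := (𝒮 n R).deg ⊤ (isAffineOpen_top _))
    (ℬ := CohB1.polyGrading n R) ((𝒮 n R).strZero ⊤ (isAffineOpen_top _))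
    ((Scheme.ΓSpecIso (CommRingCat.of R)).hom ≫
      CommRingCat.ofHom (algebraMap R (CohB1.polyGrading n R 0))) (ψ n R) (hψ n R) ?_
  · rw [reassoc_of% h, IsAffineOpen.fromSpec_top, Scheme.isoSpec_Spec_inv, ← Spec.map_comp,
      Iso.inv_hom_id_assoc]
  · intro r
    have h1 := PolyAlg.sec_str (RelSpec.QCAlg.unit (Spec (CommRingCat.of R))) (Fin (n + 1))
      (topU R) r
    change (E n R).symm (((𝒮 n R).str.app (op ⊤)).hom r) = _
    rw [E_symm_apply]
    erw [← h1]
    rw [RingEquiv.symm_apply_apply]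
    exact MvPolynomial.map_C _ _

end Main


/-- projective space over a ring is projective over its spectrum -/
theorem isProjective_toSpec : RelProj.IsProjective (CohB1.ProjSpace.toSpec n R) := by
  obtain ⟨P, p, chart, hP⟩ := RP2.exists_isRelProj (𝒮 n R)
  have hiso : IsIso (eHom n R p chart) := isIso_eHom n R p chart
  refine ⟨𝒮 n R, P, p, chart, @asIso _ _ _ _ (eHom n R p chart) hiso, PolyAlg.isGenDegOne _ _,
    PolyAlg.isFTDeg_one _ _ ?_, hP, eHom_p n R p chart hP⟩
  intro U hU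
  refine ⟨{1}, fun a => ⟨fun _ => a, ?_⟩⟩
  rw [Finset.sum_singleton, mul_one]
  rfl

/-- projective space over a scheme is projective over it -/
theorem isProjective_toBase (S : Scheme.{u}) :
    RelProj.IsProjective (CohB1.ProjSpaceOver.toBase n S) :=
  ProjBCh.baseChange (CohB1.ProjSpace.toSpec n (ULift.{u} ℤ)) (isProjective_toSpec n _)
    (specULiftZIsTerminal.from S)

/-- a closed immersion followed by a projective morphism is projective -/
theorem isProjective_comp_of_closedImmersion {X Y S : Scheme.{u}} (i : X ⟶ Y)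
    [IsClosedImmersion i] (g : Y ⟶ S) (hg : RelProj.IsProjective g) :
    RelProj.IsProjective (i ≫ g) := by
  obtain ⟨E, 𝒯, j, P, p, chart, k, hEq, hEft, hj, hP, hk, hkp⟩ :=
    ProjChar.exists_closedImmersion_of_isProjective g hg
  exact ProjChar.isProjective_of_closedImmersion (i ≫ g) E 𝒯 j p chart (i ≫ k) hEq hEft hj hP
    (by rw [Category.assoc, hkp])

/-- **S9717**: H-projective morphisms are projective -/
theorem isProjective_of_isHProjective {X S : Scheme.{u}} (f : X ⟶ S)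
    (hf : RelProj.IsHProjective f) : RelProj.IsProjective f := by
  obtain ⟨n, i, hi, rfl⟩ := hf
  exact isProjective_comp_of_closedImmersion i _ (isProjective_toBase n S)

end Groth.Agent.Helper1.ProjSpaceRel
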