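import Mathlib
import Groth.Prelude.Def_RelProj
import Groth.Agent.Lib.Helper1.ProjSpaceRel
import Groth.Agent.Lib.Helper1.ProjProper
import Groth.Agent.Lib.Helper1.ProjBC
import Groth.Agent.Lib.Helper1.ProjBCh2
import Groth.Agent.Lib.Helper1.HProj2

set_option autoImplicit false
universe u
open CategoryTheory CategoryTheory.Limits AlgebraicGeometry TopologicalSpace Opposite
open HomogeneousLocalization
open scoped HomogeneousIdeal

/-!
# Projective morphisms over an affine base are H-projective; locally projective morphisms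
-/

namespace Groth.Agent.Helper1.HProjLoc

open Groth.Agent.Helper1

section Univ
variable {σ A : Type u} [CommRing A] [SetLike σ A] [AddSubgroupClass σ A] (𝒜 : ℕ → σ)
  [GradedRing 𝒜]

set_option backward.isDefEq.respectTransparency.types false in
/-- a graded ring generated by finitely many degree-one elements (over degree zero) has its `Proj`
closed in a projective space -/
theorem exists_closedImmersion_projSpace {R : CommRingCat.{u}} (φ : R ⟶ CommRingCat.of (𝒜 0))
    (hgen : Subring.closure ((𝒜 0 : Set A) ∪ (𝒜 1 : Set A)) = ⊤)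
    (T : Finset A) (hT : (↑T : Set A) ⊆ 𝒜 1)
    (hspan : ∀ x ∈ 𝒜 1, ∃ c : A → R, x = ∑ t ∈ T, (φ.hom (c t) : A) * t) :
    ∃ (n : ℕ) (k : Proj 𝒜 ⟶ Proj (CohB1.polyGrading n R)), IsClosedImmersion k ∧
      k ≫ Proj.toSpecZero (CohB1.polyGrading n R) ≫
        Spec.map (CommRingCat.ofHom (algebraMap R (CohB1.polyGrading n R 0))) =
      Proj.toSpecZero 𝒜 ≫ Spec.map φ := by
  classical
  let n := T.card
  let g : Fin (n + 1) → A := Fin.cons 0 (fun i => ((T.equivFin.symm i : T) : A))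
  have hg : ∀ i, g i ∈ 𝒜 1 := by
    intro i
    refine Fin.cases ?_ ?_ i
    · exact zero_mem _
    · intro j; exact hT (T.equivFin.symm j).2
  let ev := ProjProper.evHom 𝒜 φ.hom n g hg
  have hX : ∀ t (ht : t ∈ T), ev (MvPolynomial.X (Fin.succ (T.equivFin ⟨t, ht⟩))) = t := by
    intro t ht
    show ProjProper.evHom 𝒜 φ.hom n g hg _ = t
    rw [ProjProper.evHom_X]
    simp [g]
  have hrange1 : ∀ a ∈ 𝒜 1, a ∈ ev.toRingHom.range := by
    intro a ha
    obtain ⟨c, rfl⟩ := hspan a ha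
    refine sum_mem fun t ht => mul_mem
      ⟨MvPolynomial.C (c t), ProjProper.evHom_C 𝒜 φ.hom n g hg _⟩ ⟨_, hX t ht⟩
  have hsurj : ∀ k, 0 < k → ∀ b ∈ 𝒜 k, ∃ a, ev a = b := by
    intro k hk b hb
    exact RelProjCI.mem_of_genDegOne 𝒜 hgen ev.toRingHom.range hrange1 hk hb
  have hirr : (𝒜)₊ ≤ ((CohB1.polyGrading n R)₊).map ev := by
    change ((𝒜)₊).toIdeal ≤ (((CohB1.polyGrading n R)₊).map ev).toIdeal
    apply RelProjCI.irrelevant_le_of_genDegOne 𝒜 hgen _ (HomogeneousIdeal.isHomogeneous _)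
    intro a ha
    rw [HomogeneousIdeal.toIdeal_map]
    obtain ⟨c, rfl⟩ := hspan a ha
    refine sum_mem fun t ht => Ideal.mul_mem_left _ _ ?_
    rw [← hX t ht]
    exact Ideal.mem_map_of_mem _
      (HomogeneousIdeal.mem_irrelevant_of_mem _ one_pos (ProjSpaceLib.X_mem n R _))
  have hci : IsClosedImmersion (Proj.map ev hirr) := RelProjCI.isClosedImmersion_map' ev hirr hsurj
  have hcomm := ProjProper.map_toSpecZero (𝒜 := CohB1.polyGrading n R) (ℬ := 𝒜)
    (CommRingCat.ofHom (algebraMap R (CohB1.polyGrading n R 0))) φ ev hirr (by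
      intro r
      exact ProjProper.evHom_C 𝒜 φ.hom n g hg r)
  exact ⟨n, Proj.map ev hirr, hci, hcomm⟩

end Univ


section BC
variable (n : ℕ) {R R' : Type u} [CommRing R] [CommRing R'] (ρ : R →+* R')

/-- the coefficientwise map of polynomial rings, as a graded homomorphism -/
noncomputable def polyMap : CohB1.polyGrading n R →+*ᵍ CohB1.polyGrading n R' where
  toRingHom := MvPolynomial.map ρ
  map_mem := fun hx => MvPolynomial.IsHomogeneous.map hx ρ

theorem polyMap_apply (x : MvPolynomial (Fin (n + 1)) R) :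
    polyMap n ρ x = MvPolynomial.map ρ x := rfl

theorem hirr_polyMap :
    (CohB1.polyGrading n R')₊ ≤ ((CohB1.polyGrading n R)₊).map (polyMap n ρ) := by
  change ((CohB1.polyGrading n R')₊).toIdeal ≤ (((CohB1.polyGrading n R)₊).map (polyMap n ρ)).toIdeal
  rw [HomogeneousIdeal.toIdeal_map]
  refine (ProjSpaceLib.irrelevant_le n R').trans (Ideal.span_le.2 ?_)
  rintro _ ⟨i, rfl⟩
  have : (MvPolynomial.X i : MvPolynomial (Fin (n + 1)) R') =
      polyMap n ρ (MvPolynomial.X i) := by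
    rw [polyMap_apply, MvPolynomial.map_X]
  rw [this]
  exact Ideal.mem_map_of_mem _
    (HomogeneousIdeal.mem_irrelevant_of_mem _ one_pos (ProjSpaceLib.X_mem n R i))

attribute [local instance] MvPolynomial.algebraMvPolynomial in
theorem isPushout_poly :
    IsPushout (CommRingCat.ofHom ρ)
      (CommRingCat.ofHom (MvPolynomial.C : R →+* MvPolynomial (Fin (n + 1)) R))
      (CommRingCat.ofHom (MvPolynomial.C : R' →+* MvPolynomial (Fin (n + 1)) R'))
      (CommRingCat.ofHom (MvPolynomial.map ρ :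
        MvPolynomial (Fin (n + 1)) R →+* MvPolynomial (Fin (n + 1)) R')) := by
  let _ : Algebra R R' := ρ.toAlgebra
  exact CommRingCat.isPushout_of_isPushout R R' (MvPolynomial (Fin (n + 1)) R)
    (MvPolynomial (Fin (n + 1)) R')

/-- projective space commutes with base change of rings -/
theorem isPullback_projSpace :
    IsPullback (Proj.map (polyMap n ρ) (hirr_polyMap n ρ)) (CohB1.ProjSpace.toSpec n R')
      (CohB1.ProjSpace.toSpec n R) (Spec.map (CommRingCat.ofHom ρ)) := by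
  unfold CohB1.ProjSpace.toSpec
  exact ProjBC.isPullback_affine (CommRingCat.ofHom ρ)
    (CommRingCat.ofHom (algebraMap R (CohB1.polyGrading n R 0)))
    (CommRingCat.ofHom (algebraMap R' (CohB1.polyGrading n R' 0))) (polyMap n ρ)
    (hirr_polyMap n ρ)
    (CommRingCat.ofHom (MvPolynomial.C : R →+* MvPolynomial (Fin (n + 1)) R))
    (CommRingCat.ofHom (MvPolynomial.C : R' →+* MvPolynomial (Fin (n + 1)) R'))
    (CommRingCat.ofHom (MvPolynomial.map ρ))
    (fun _ => rfl) (fun _ => rfl) (fun _ => rfl) (isPushout_poly n ρ)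

end BC


section Affine

/-- **over an affine base, projective morphisms are H-projective** -/
theorem isHProjective_of_isProjective_of_isAffine {X V : Scheme.{u}} [IsAffine V] (g : X ⟶ V)
    (hg : RelProj.IsProjective g) : RelProj.IsHProjective g := by
  obtain ⟨𝒮, P, p, chart, e, hgen, hft, hP, he⟩ := hg
  have hTop : IsAffineOpen (⊤ : V.Opens) := isAffineOpen_top V
  obtain ⟨T, hT, hspan⟩ := hft ⊤ hTop
  obtain ⟨n, k, hk, hkcomm⟩ := exists_closedImmersion_projSpace (𝒮.deg ⊤ hTop)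
    (𝒮.strZero ⊤ hTop) (hgen ⊤ hTop) T hT hspan
  let ρ : ULift.{u} ℤ →+* Γ(V, ⊤) :=
    (Int.castRingHom Γ(V, ⊤)).comp (ULift.ringEquiv : ULift.{u} ℤ ≃+* ℤ).toRingHom
  have hpb := isPullback_projSpace n ρ
  have hiso : IsIso hTop.fromSpec := by
    rw [IsAffineOpen.fromSpec_top]; infer_instance
  have hpb' : IsPullback (Proj.map (polyMap n ρ) (hirr_polyMap n ρ))
      (CohB1.ProjSpace.toSpec n Γ(V, ⊤) ≫ hTop.fromSpec)
      (CohB1.ProjSpace.toSpec n (ULift.{u} ℤ)) (specULiftZIsTerminal.from V) := by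
    refine IsPullback.of_iso hpb (Iso.refl _) (Iso.refl _) (asIso hTop.fromSpec) (Iso.refl _)
      ?_ ?_ ?_ ?_
    · simp
    · simp
    · simp
    · exact specULiftZIsTerminal.hom_ext _ _
  let c := hpb'.isoPullback
  have hι : IsIso (p ⁻¹ᵁ ⊤).ι := by
    apply isIso_of_isOpenImmersion_of_opensRange_eq_top
    rw [Scheme.Opens.opensRange_ι]
    rfl
  refine ⟨n, e.hom ≫ inv (p ⁻¹ᵁ ⊤).ι ≫ (chart ⊤ hTop).hom ≫ k ≫ c.hom, ?_, ?_⟩
  · infer_instance
  · change (e.hom ≫ inv (p ⁻¹ᵁ ⊤).ι ≫ (chart ⊤ hTop).hom ≫ k ≫ c.hom) ≫ pullback.snd _ _ = g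
    simp only [Category.assoc]
    rw [hpb'.isoPullback_hom_snd]
    have h2 : k ≫ CohB1.ProjSpace.toSpec n Γ(V, ⊤) ≫ hTop.fromSpec =
        Proj.toSpecZero (𝒮.deg ⊤ hTop) ≫ Spec.map (𝒮.strZero ⊤ hTop) ≫ hTop.fromSpec := by
      have h3 : k ≫ CohB1.ProjSpace.toSpec n Γ(V, ⊤) =
          Proj.toSpecZero (𝒮.deg ⊤ hTop) ≫ Spec.map (𝒮.strZero ⊤ hTop) := hkcomm
      rw [← Category.assoc, h3, Category.assoc]
    rw [h2, hP.chart_over ⊤ hTop, IsIso.inv_hom_id_assoc, he]

end Affine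


section Loc

/-- restriction of a projective morphism to a smaller open of the base -/
theorem isProjective_restrict_of_le {X S : Scheme.{u}} (f : X ⟶ S) {U V : S.Opens} (hVU : V ≤ U)
    (h : RelProj.IsProjective (f ∣_ U)) : RelProj.IsProjective (f ∣_ V) := by
  have h1 : IsPullback (f ⁻¹ᵁ V).ι (f ∣_ V) f V.ι := (isPullback_morphismRestrict f V).flip
  have h3 : IsPullback (f ⁻¹ᵁ U).ι (f ∣_ U) f U.ι := (isPullback_morphismRestrict f U).flip
  have sq : IsPullback (X.homOfLE (f.preimage_mono hVU)) (f ∣_ V) (f ∣_ U) (S.homOfLE hVU) := by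
    refine IsPullback.of_right (h₁₂ := (f ⁻¹ᵁ U).ι) (h₂₂ := U.ι) ?_ ?_ h3
    · rw [Scheme.homOfLE_ι, Scheme.homOfLE_ι]
      exact h1
    · rw [← cancel_mono U.ι, Category.assoc, Category.assoc, morphismRestrict_ι,
        Scheme.homOfLE_ι, ← Category.assoc, Scheme.homOfLE_ι, morphismRestrict_ι]
  exact ProjBCh.of_isPullback (f ∣_ U) (S.homOfLE hVU) _ _ sq h

/-- **S9704** -/
theorem isLocallyProjective_iff {X S : Scheme.{u}} (f : X ⟶ S) :
    RelProj.IsLocallyProjective f ↔
      ∀ s : S, ∃ U : S.Opens, s ∈ U ∧ RelProj.IsHProjective (f ∣_ U) := by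
  constructor
  · intro hf s
    obtain ⟨U, hsU, hU⟩ := hf s
    obtain ⟨_, ⟨V, hV : IsAffineOpen V, rfl⟩, hsV, hVU⟩ :=
      (S.isBasis_affineOpens).exists_subset_of_mem_open hsU U.isOpen
    have : IsAffine ↑V := hV
    exact ⟨V, hsV, isHProjective_of_isProjective_of_isAffine (f ∣_ V)
      (isProjective_restrict_of_le f hVU hU)⟩
  · intro h s
    obtain ⟨U, hsU, hU⟩ := h s
    exact ⟨U, hsU, ProjSpaceRel.isProjective_of_isHProjective _ hU⟩

end Loc

end Groth.Agent.Helper1.HProjLoc
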