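import Mathlib

/-!
# Chow's lemma, part A: lifting along scheme-theoretically dominant morphisms (helper1 library)
-/

set_option autoImplicit false
universe u
open CategoryTheory CategoryTheory.Limits AlgebraicGeometry TopologicalSpace Opposite

namespace Groth.Agent.Helper1.Chow

/-- The map to the scheme-theoretic image of a quasi-compact morphism is scheme-theoretically
dominant. -/
theorem isSchemeTheoreticallyDominant_toImage {X Y : Scheme.{u}} (f : X ⟶ Y) [QuasiCompact f] :
    IsSchemeTheoreticallyDominant f.toImage := by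
  constructor
  refine Scheme.IdealSheafData.ext_of_iSup_eq_top
    (fun U : Y.affineOpens ↦ ⟨f.imageι ⁻¹ᵁ U.1, U.2.preimage _⟩)
    (TopologicalSpace.IsOpenCover.comap (iSup_affineOpens_eq_top _) _) fun U ↦ ?_
  rw [Scheme.Hom.ker_apply, Scheme.IdealSheafData.ideal_bot, Pi.bot_apply,
    ← RingHom.injective_iff_ker_eq_bot]
  exact f.toImage_app_injective U

/-- A section of a separated morphism which is scheme-theoretically dominant is an isomorphism. -/
theorem isIso_of_section_of_dominant {X Y : Scheme.{u}} (s : X ⟶ Y) (p : Y ⟶ X) [IsSeparated p]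
    (h : s ≫ p = 𝟙 X) [IsSchemeTheoreticallyDominant s] : IsIso s ∧ IsIso p := by
  have : IsClosedImmersion (s ≫ p) := by rw [h]; infer_instance
  have : IsClosedImmersion s := IsClosedImmersion.of_comp s p
  have hs : IsIso s := IsClosedImmersion.isIso_iff_ker_eq_bot.mpr s.ker_eq_bot
  refine ⟨hs, ?_⟩
  have : p = inv s := by
    rw [← cancel_epi s, h, IsIso.hom_inv_id]
  rw [this]; infer_instance

/-- a subset is closed in an open -/
def ClosedIn {Y : Type*} [TopologicalSpace Y] (T : Set Y) (O : Set Y) : Prop :=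
  T ⊆ O ∧ closure T ∩ O ⊆ T

theorem ClosedIn.preimage {Y Z : Type*} [TopologicalSpace Y] [TopologicalSpace Z] {f : Z → Y}
    (hf : Continuous f) {T O : Set Y} (h : ClosedIn T O) : ClosedIn (f ⁻¹' T) (f ⁻¹' O) := by
  refine ⟨Set.preimage_mono h.1, ?_⟩
  rintro z ⟨hz1, hz2⟩
  apply h.2
  refine ⟨?_, hz2⟩
  have := hf.closure_preimage_subset T hz1
  exact this

/-- an immersion whose range is closed in an open factors through the open as a closed
immersion -/
theorem exists_lift_isClosedImmersion {M Y : Scheme.{u}} (m : M ⟶ Y) [IsImmersion m]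
    (O : Y.Opens) (h : ClosedIn (Set.range m) (O : Set Y)) :
    ∃ m' : M ⟶ (O : Scheme.{u}), IsClosedImmersion m' ∧ m' ≫ O.ι = m := by
  have hr : Set.range m ⊆ Set.range O.ι := by
    rw [Scheme.Opens.range_ι]; exact h.1
  refine ⟨IsOpenImmersion.lift O.ι m hr, ?_, IsOpenImmersion.lift_fac _ _ _⟩
  set m' := IsOpenImmersion.lift O.ι m hr with hm'
  have hfac : m' ≫ O.ι = m := IsOpenImmersion.lift_fac _ _ _
  have : IsImmersion (m' ≫ O.ι) := by rw [hfac]; infer_instance
  have : IsImmersion m' := IsImmersion.of_comp m' O.ι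
  apply IsClosedImmersion.of_isPreimmersion
  -- the range of `m'` is closed
  have hrange : Set.range m' = O.ι ⁻¹' (Set.range m) := by
    ext z
    constructor
    · rintro ⟨a, rfl⟩
      exact ⟨a, by rw [← hfac]; rfl⟩
    · rintro ⟨a, ha⟩
      refine ⟨a, O.ι.isOpenEmbedding.injective ?_⟩
      rw [← ha, ← hfac]; rfl
  rw [hrange]
  have hcl : O.ι ⁻¹' (Set.range m) = O.ι ⁻¹' (closure (Set.range m)) := by
    ext z
    constructor
    · intro hz; exact subset_closure hz
    · intro hz
      apply h.2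
      refine ⟨hz, ?_⟩
      have : O.ι z ∈ Set.range O.ι := ⟨z, rfl⟩
      rw [Scheme.Opens.range_ι] at this
      exact this
  rw [hcl]
  exact isClosed_closure.preimage O.ι.continuous

/-- **the lifting lemma**: let `ι : X' ⟶ Y` be a closed immersion, `d : U ⟶ X'` scheme-theoretically
dominant and quasi-compact, `m : M ⟶ Y` an immersion through which `d ≫ ι` factors, and `O` an
open of `Y` in which the range of `m` is closed.  Then `ι⁻¹(O) ⟶ Y` factors through `m` by a
closed immersion. -/
theorem exists_lift_of_dominant {U X' Y M : Scheme.{u}} (ι : X' ⟶ Y) [IsClosedImmersion ι]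
    (d : U ⟶ X') [IsSchemeTheoreticallyDominant d] [QuasiCompact d]
    (m : M ⟶ Y) [IsImmersion m] (e : U ⟶ M) (he : e ≫ m = d ≫ ι)
    (O : Y.Opens) (hO : ClosedIn (Set.range m) (O : Set Y)) :
    ∃ l : ((ι ⁻¹ᵁ O : X'.Opens) : Scheme.{u}) ⟶ M, IsClosedImmersion l ∧
      l ≫ m = (ι ⁻¹ᵁ O).ι ≫ ι := by
  obtain ⟨mO, hmO, hmOfac⟩ := exists_lift_isClosedImmersion m O hO
  -- the restriction of `d`
  have hdr : Set.range d ⊆ Set.range (ι ⁻¹ᵁ O).ι := by
    rintro _ ⟨a, rfl⟩
    rw [Scheme.Opens.range_ι]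
    change ι (d a) ∈ O
    have : (d ≫ ι) a = (e ≫ m) a := by rw [he]
    change ι (d a) = m (e a) at this
    rw [this]
    exact hO.1 ⟨e a, rfl⟩
  set dO := IsOpenImmersion.lift (ι ⁻¹ᵁ O).ι d hdr with hdO
  have hdOfac : dO ≫ (ι ⁻¹ᵁ O).ι = d := IsOpenImmersion.lift_fac _ _ _
  have hpb : IsPullback dO (𝟙 U) (ι ⁻¹ᵁ O).ι d := IsOpenImmersion.isPullback_lift_id d _ hdr
  have hdOdom : IsSchemeTheoreticallyDominant dO :=
    IsSchemeTheoreticallyDominant.of_isPullback hpb.flip
  set ιO := ι ∣_ O with hιO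
  have hιOcl : IsClosedImmersion ιO := inferInstance
  have hcomm : dO ≫ ιO = e ≫ mO := by
    rw [← cancel_mono O.ι, Category.assoc, Category.assoc, hmOfac, morphismRestrict_ι,
      ← Category.assoc, hdOfac, he]
  have hker : mO.ker ≤ ιO.ker := by
    have h1 : (dO ≫ ιO).ker = ιO.ker := by
      rw [Scheme.Hom.ker_comp, dO.ker_eq_bot, Scheme.IdealSheafData.map_bot]
    rw [← h1, hcomm, Scheme.Hom.ker_comp, ← Scheme.IdealSheafData.map_bot]
    exact Scheme.IdealSheafData.map_mono mO bot_le
  refine ⟨IsClosedImmersion.lift mO ιO hker, ?_, ?_⟩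
  · have : IsClosedImmersion (IsClosedImmersion.lift mO ιO hker ≫ mO) := by
      rw [IsClosedImmersion.lift_fac]; infer_instance
    exact IsClosedImmersion.of_comp _ mO
  · rw [← hmOfac, ← Category.assoc, IsClosedImmersion.lift_fac, morphismRestrict_ι]

end Groth.Agent.Helper1.Chow
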