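import Mathlib
import Groth.Agent.Lib.Helper1.ChowA

/-!
# Chow's lemma, part B: closedness of graph-type morphisms (helper1 library)
-/

set_option autoImplicit false
universe u
open CategoryTheory CategoryTheory.Limits AlgebraicGeometry TopologicalSpace Opposite

namespace Groth.Agent.Helper1.Chow

theorem closedIn_range_coborder {X Y : Scheme.{u}} (g : X ⟶ Y) [IsImmersion g] :
    ClosedIn (Set.range g) (g.coborderRange : Set Y) :=
  ⟨subset_coborder, by
    change closure (Set.range g) ∩ coborder (Set.range g) ⊆ Set.range g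
    rw [closure_inter_coborder]⟩

theorem ClosedIn.mono {Y : Type*} [TopologicalSpace Y] {T O O' : Set Y} (h : ClosedIn T O)
    (h1 : T ⊆ O') (h2 : O' ⊆ O) : ClosedIn T O' :=
  ⟨h1, fun _ hz => h.2 ⟨hz.1, h2 hz.2⟩⟩

/-- the image of a closed set under an embedding whose range is closed in `O` is closed in `O` -/
theorem ClosedIn.image {Y Z : Type*} [TopologicalSpace Y] [TopologicalSpace Z] {j : Z → Y}
    (hj : Topology.IsEmbedding j) {O : Set Y} (h : ClosedIn (Set.range j) O) {T : Set Z}
    (hT : IsClosed T) : ClosedIn (j '' T) O := by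
  refine ⟨(Set.image_subset_range j T).trans h.1, ?_⟩
  rintro z ⟨hz1, hz2⟩
  have hzr : z ∈ Set.range j :=
    h.2 ⟨closure_mono (Set.image_subset_range j T) hz1, hz2⟩
  obtain ⟨z', rfl⟩ := hzr
  refine ⟨z', ?_, rfl⟩
  have := hj.isInducing.closure_eq_preimage_closure_image T
  rw [← hT.closure_eq, this]
  exact hz1

section Graph

variable {X Q S A' : Scheme.{u}} (r : X ⟶ S) (q : Q ⟶ S) (α : A' ⟶ X) (g : A' ⟶ Q)
  (comm : α ≫ r = g ≫ q)

/-- **closedness, second form**: if `g` is an immersion and `r` is separated, the range of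
`(α, g) : A' ⟶ X ×_S Q` is closed in the preimage of the open in which `g` is closed -/
theorem closedIn_range_lift_snd [IsSeparated r] [IsImmersion g] :
    ClosedIn (Set.range (pullback.lift α g comm))
      ((pullback.snd r q ⁻¹ᵁ g.coborderRange : (pullback r q).Opens) : Set _) := by
  -- `j = id × g`
  let j : pullback r (g ≫ q) ⟶ pullback r q :=
    pullback.map r (g ≫ q) r q (𝟙 X) g (𝟙 S) (by simp) (by simp)
  have hj : IsImmersion j :=
    MorphismProperty.pullbackMap (P := @IsImmersion) (f := r) (g := g ≫ q)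
      (f' := r) (g' := q) (i₁ := 𝟙 X) (i₂ := g) inferInstance inferInstance
      (by simp) (by simp)
  have hjrange : Set.range j = pullback.snd r q ⁻¹' Set.range g := by
    have := Scheme.Pullback.range_map r (g ≫ q) r q (𝟙 X) g (𝟙 S) (by simp) (by simp)
    rw [this]
    have h1 : Set.range (𝟙 X : X ⟶ X) = Set.univ := by
      rw [Set.range_eq_univ]; intro x; exact ⟨x, rfl⟩
    rw [h1, Set.preimage_univ, Set.univ_inter]
  -- the graph
  let Γ : A' ⟶ pullback r (g ≫ q) := pullback.lift α (𝟙 A') (by simpa using comm)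
  have hΓ1 : Γ ≫ pullback.snd r (g ≫ q) = 𝟙 A' := pullback.lift_snd _ _ _
  have hΓcl : IsClosedImmersion Γ := by
    have : IsClosedImmersion (Γ ≫ pullback.snd r (g ≫ q)) := by rw [hΓ1]; infer_instance
    exact IsClosedImmersion.of_comp Γ (pullback.snd r (g ≫ q))
  have hk : pullback.lift α g comm = Γ ≫ j := by
    dsimp only [Γ, j]
    apply pullback.hom_ext
    · rw [pullback.lift_fst, Category.assoc, pullback.map, pullback.lift_fst,
        pullback.lift_fst_assoc, Category.comp_id]
    · rw [pullback.lift_snd, Category.assoc, pullback.map, pullback.lift_snd,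
        pullback.lift_snd_assoc, Category.id_comp]
  have hrange : Set.range (pullback.lift α g comm) = j '' Set.range Γ := by
    rw [hk]
    ext z
    constructor
    · rintro ⟨a, rfl⟩; exact ⟨Γ a, ⟨a, rfl⟩, rfl⟩
    · rintro ⟨_, ⟨a, rfl⟩, rfl⟩; exact ⟨a, rfl⟩
  rw [hrange]
  apply ClosedIn.image j.isEmbedding _ Γ.isClosedEmbedding.isClosed_range
  rw [hjrange]
  exact (closedIn_range_coborder g).preimage (pullback.snd r q).continuous

/-- **closedness, first form**: if `α` is an immersion and `q` is separated, the range of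
`(α, g) : A' ⟶ X ×_S Q` is closed in the preimage of the open in which `α` is closed -/
theorem closedIn_range_lift_fst [IsSeparated q] [IsImmersion α] :
    ClosedIn (Set.range (pullback.lift α g comm))
      ((pullback.fst r q ⁻¹ᵁ α.coborderRange : (pullback r q).Opens) : Set _) := by
  let j : pullback (α ≫ r) q ⟶ pullback r q :=
    pullback.map (α ≫ r) q r q α (𝟙 Q) (𝟙 S) (by simp) (by simp)
  have hj : IsImmersion j :=
    MorphismProperty.pullbackMap (P := @IsImmersion) (f := α ≫ r) (g := q)
      (f' := r) (g' := q) (i₁ := α) (i₂ := 𝟙 Q) inferInstance inferInstance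
      (by simp) (by simp)
  have hjrange : Set.range j = pullback.fst r q ⁻¹' Set.range α := by
    have := Scheme.Pullback.range_map (α ≫ r) q r q α (𝟙 Q) (𝟙 S) (by simp) (by simp)
    rw [this]
    have h1 : Set.range (𝟙 Q : Q ⟶ Q) = Set.univ := by
      rw [Set.range_eq_univ]; intro x; exact ⟨x, rfl⟩
    rw [h1, Set.preimage_univ, Set.inter_univ]
  let Γ : A' ⟶ pullback (α ≫ r) q := pullback.lift (𝟙 A') g (by simpa using comm)
  have hΓ1 : Γ ≫ pullback.fst (α ≫ r) q = 𝟙 A' := pullback.lift_fst _ _ _
  have hΓcl : IsClosedImmersion Γ := by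
    have : IsClosedImmersion (Γ ≫ pullback.fst (α ≫ r) q) := by rw [hΓ1]; infer_instance
    exact IsClosedImmersion.of_comp Γ (pullback.fst (α ≫ r) q)
  have hk : pullback.lift α g comm = Γ ≫ j := by
    dsimp only [Γ, j]
    apply pullback.hom_ext
    · rw [pullback.lift_fst, Category.assoc, pullback.map, pullback.lift_fst,
        pullback.lift_fst_assoc, Category.id_comp]
    · rw [pullback.lift_snd, Category.assoc, pullback.map, pullback.lift_snd,
        pullback.lift_snd_assoc, Category.comp_id]
  have hrange : Set.range (pullback.lift α g comm) = j '' Set.range Γ := by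
    rw [hk]
    ext z
    constructor
    · rintro ⟨a, rfl⟩; exact ⟨Γ a, ⟨a, rfl⟩, rfl⟩
    · rintro ⟨_, ⟨a, rfl⟩, rfl⟩; exact ⟨a, rfl⟩
  rw [hrange]
  apply ClosedIn.image j.isEmbedding _ Γ.isClosedEmbedding.isClosed_range
  rw [hjrange]
  exact (closedIn_range_coborder α).preimage (pullback.fst r q).continuous

end Graph

end Groth.Agent.Helper1.Chow
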