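import Mathlib
import Groth.Agent.Lib.Helper1.ChowB

/-!
# Chow's lemma, part C: the two-piece lemma (helper1 library)
-/

set_option autoImplicit false
universe u
open CategoryTheory CategoryTheory.Limits AlgebraicGeometry TopologicalSpace Opposite

namespace Groth.Agent.Helper1.Chow

/-- a Chow piece over the open `A`: a scheme `A'` with a morphism to `X` landing in `A`, an
immersion `g` into a separated `S`-scheme `Q` such that `A' ⟶ X ×_S Q` is closed over `A`, and a
section over the open `U`. -/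
structure Piece {X S : Scheme.{u}} (r : X ⟶ S) (U A : X.Opens) where
  Q : Scheme.{u}
  q : Q ⟶ S
  sep : IsSeparated q
  A' : Scheme.{u}
  α : A' ⟶ X
  g : A' ⟶ Q
  comm : α ≫ r = g ≫ q
  imm : IsImmersion g
  closed : ClosedIn (Set.range (pullback.lift α g comm))
    ((pullback.fst r q ⁻¹ᵁ A : (pullback r q).Opens) : Set _)
  s : (U : Scheme.{u}) ⟶ A'
  hs : s ≫ α = U.ι

namespace Piece

variable {X S : Scheme.{u}} {r : X ⟶ S} {U A B : X.Opens}

theorem α_mem (P : Piece r U A) (a : P.A') : P.α a ∈ A := by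
  have h := P.closed.1 ⟨a, rfl⟩
  have h2 : (pullback.lift P.α P.g P.comm ≫ pullback.fst r P.q) a ∈ A := h
  rwa [pullback.lift_fst] at h2

theorem le (P : Piece r U A) : U ≤ A := by
  intro x hx
  have h := P.α_mem (P.s ⟨x, hx⟩)
  have h2 : (P.s ≫ P.α) ⟨x, hx⟩ ∈ A := h
  rw [P.hs] at h2
  exact h2

end Piece

section Analysis

variable {X S : Scheme.{u}} {r : X ⟶ S} [IsSeparated r] {U T : X.Opens}

set_option maxHeartbeats 1600000 in
/-- **analysis of one piece inside a closure**: let `P` be a piece over `T`, `pr : Q' ⟶ P.Q` a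
morphism of `S`-schemes, `ι : X'' ⟶ X ×_S Q'` a closed immersion and `d : U ⟶ X''` a
scheme-theoretically dominant quasi-compact morphism lifting the section of the piece.  Then the
part of `X''` over `T` is the part of `X''` over the open `pr⁻¹(V)` of `Q'` (with `V` the open in
which the piece is closed), and `X'' ⟶ Q'` restricts to a closed immersion over `pr⁻¹(V)`. -/
theorem Piece.analysis (P : Piece r U T) {Q' X'' : Scheme.{u}} (qQ' : Q' ⟶ S) (pr : Q' ⟶ P.Q)
    (hpr : pr ≫ P.q = qQ') (ι : X'' ⟶ pullback r qQ') [IsClosedImmersion ι]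
    (d : (U : Scheme.{u}) ⟶ X'') [IsSchemeTheoreticallyDominant d] [QuasiCompact d]
    (hd1 : d ≫ ι ≫ pullback.fst r qQ' = U.ι)
    (hd2 : d ≫ ι ≫ pullback.snd r qQ' ≫ pr = P.s ≫ P.g) :
    haveI := P.imm
    (ι ≫ pullback.fst r qQ') ⁻¹ᵁ T = (ι ≫ pullback.snd r qQ') ⁻¹ᵁ (pr ⁻¹ᵁ P.g.coborderRange) ∧
    IsClosedImmersion ((ι ≫ pullback.snd r qQ') ∣_ (pr ⁻¹ᵁ P.g.coborderRange)) := by
  have himm : IsImmersion P.g := P.imm
  have hsep : IsSeparated P.q := P.sep
  let k : P.A' ⟶ pullback r P.q := pullback.lift P.α P.g P.comm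
  have hkimm : IsImmersion k := by
    have : IsImmersion (k ≫ pullback.snd r P.q) := by
      simp only [k]; rw [pullback.lift_snd]; exact himm
    exact IsImmersion.of_comp k (pullback.snd r P.q)
  let fW : pullback r qQ' ⟶ pullback r P.q :=
    pullback.map r qQ' r P.q (𝟙 X) pr (𝟙 S) (by simp) (by simp [hpr])
  have hfW1 : fW ≫ pullback.fst r P.q = pullback.fst r qQ' := by
    simp only [fW, pullback.map]; rw [pullback.lift_fst, Category.comp_id]
  have hfW2 : fW ≫ pullback.snd r P.q = pullback.snd r qQ' ≫ pr := by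
    simp only [fW, pullback.map]; rw [pullback.lift_snd]
  -- the top square is a pullback
  have htop : IsPullback fW (pullback.snd r qQ') (pullback.snd r P.q) pr := by
    have hbig : IsPullback (pullback.fst r qQ') (pullback.snd r qQ') r (pr ≫ P.q) := by
      rw [hpr]; exact IsPullback.of_hasPullback r qQ'
    have hbot : IsPullback (pullback.fst r P.q) (pullback.snd r P.q) r P.q :=
      IsPullback.of_hasPullback r P.q
    rw [← hfW1] at hbig
    exact IsPullback.of_right hbig hfW2 hbot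
  -- the closed piece inside `Y`
  let m : pullback k fW ⟶ pullback r qQ' := pullback.snd k fW
  have hmimm : IsImmersion m := inferInstance
  have hmrange : Set.range m = fW ⁻¹' Set.range k := Scheme.Pullback.range_snd k fW
  have hek : P.s ≫ k = (d ≫ ι) ≫ fW := by
    apply pullback.hom_ext
    · simp only [k, Category.assoc]
      rw [pullback.lift_fst, hfW1, P.hs, hd1]
    · simp only [k, Category.assoc]
      rw [pullback.lift_snd, hfW2, hd2]
  let e : (U : Scheme.{u}) ⟶ pullback k fW := pullback.lift P.s (d ≫ ι) hek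
  have hem : e ≫ m = d ≫ ι := pullback.lift_snd _ _ _
  -- the two opens
  let V : P.Q.Opens := P.g.coborderRange
  let O₁ : (pullback r qQ').Opens := pullback.fst r qQ' ⁻¹ᵁ T
  let O₂ : (pullback r qQ').Opens := pullback.snd r qQ' ⁻¹ᵁ (pr ⁻¹ᵁ V)
  have hO₁ : ClosedIn (Set.range m) (O₁ : Set _) := by
    rw [hmrange]
    have h := P.closed.preimage fW.continuous
    have hset : (O₁ : Set _) =
        fW ⁻¹' ((pullback.fst r P.q ⁻¹ᵁ T : (pullback r P.q).Opens) : Set _) := by
      ext y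
      change pullback.fst r qQ' y ∈ T ↔ pullback.fst r P.q (fW y) ∈ T
      rw [← hfW1]; rfl
    rw [hset]; exact h
  have hO₂ : ClosedIn (Set.range m) (O₂ : Set _) := by
    rw [hmrange]
    have h := (closedIn_range_lift_snd r P.q P.α P.g P.comm).preimage fW.continuous
    have hset : (O₂ : Set _) =
        fW ⁻¹' ((pullback.snd r P.q ⁻¹ᵁ V : (pullback r P.q).Opens) : Set _) := by
      ext y
      change pr (pullback.snd r qQ' y) ∈ V ↔ pullback.snd r P.q (fW y) ∈ V
      have : (pullback.snd r qQ' ≫ pr) y = (fW ≫ pullback.snd r P.q) y := by rw [hfW2]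
      change pr (pullback.snd r qQ' y) = pullback.snd r P.q (fW y) at this
      rw [this]
    rw [hset]; exact h
  obtain ⟨l₁, -, hl₁⟩ := exists_lift_of_dominant ι d m e hem O₁ hO₁
  obtain ⟨l₂, hl₂cl, hl₂⟩ := exists_lift_of_dominant ι d m e hem O₂ hO₂
  have hle12 : ι ⁻¹ᵁ O₁ ≤ ι ⁻¹ᵁ O₂ := by
    intro x hx
    have h1 : (l₁ ≫ m) ⟨x, hx⟩ = ((ι ⁻¹ᵁ O₁).ι ≫ ι) ⟨x, hx⟩ := by rw [hl₁]
    have h2 : ι x = m (l₁ ⟨x, hx⟩) := h1.symm
    change ι x ∈ O₂
    rw [h2]
    exact hO₂.1 ⟨_, rfl⟩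
  have hle21 : ι ⁻¹ᵁ O₂ ≤ ι ⁻¹ᵁ O₁ := by
    intro x hx
    have h1 : (l₂ ≫ m) ⟨x, hx⟩ = ((ι ⁻¹ᵁ O₂).ι ≫ ι) ⟨x, hx⟩ := by rw [hl₂]
    have h2 : ι x = m (l₂ ⟨x, hx⟩) := h1.symm
    change ι x ∈ O₁
    rw [h2]
    exact hO₁.1 ⟨_, rfl⟩
  refine ⟨le_antisymm hle12 hle21, ?_⟩
  -- the map to `Q'` restricted to the closed piece is a base change of `g`
  let n : pullback k fW ⟶ Q' := m ≫ pullback.snd r qQ'
  have hsq : IsPullback (pullback.fst k fW) n P.g pr := by
    have h1 : IsPullback (pullback.fst k fW) (pullback.snd k fW) k fW :=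
      IsPullback.of_hasPullback k fW
    have h2 := h1.paste_vert htop
    have hkg : k ≫ pullback.snd r P.q = P.g := pullback.lift_snd _ _ _
    rw [hkg] at h2
    exact h2
  have hnimm : IsImmersion n :=
    MorphismProperty.of_isPullback (P := @IsImmersion) hsq himm
  have hnrange : Set.range n = pr ⁻¹' Set.range P.g := by
    have h1 : hsq.isoPullback.hom ≫ pullback.snd P.g pr = n := hsq.isoPullback_hom_snd
    rw [← Scheme.Pullback.range_snd P.g pr, ← h1]
    ext z
    constructor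
    · rintro ⟨a, rfl⟩; exact ⟨hsq.isoPullback.hom a, rfl⟩
    · rintro ⟨a, rfl⟩
      refine ⟨hsq.isoPullback.inv a, ?_⟩
      change (hsq.isoPullback.inv ≫ hsq.isoPullback.hom ≫ pullback.snd P.g pr) a = _
      rw [Iso.inv_hom_id_assoc]
  have hnclosed : ClosedIn (Set.range n) ((pr ⁻¹ᵁ V : Q'.Opens) : Set _) := by
    rw [hnrange]
    exact (closedIn_range_coborder P.g).preimage pr.continuous
  obtain ⟨nW, hnWcl, hnW⟩ := exists_lift_isClosedImmersion n (pr ⁻¹ᵁ V) hnclosed
  obtain ⟨l₂', hl₂'cl, hl₂'⟩ : ∃ l₂' : (((ι ≫ pullback.snd r qQ') ⁻¹ᵁ (pr ⁻¹ᵁ V) : X''.Opens) :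
      Scheme.{u}) ⟶ pullback k fW, IsClosedImmersion l₂' ∧
      l₂' ≫ m = ((ι ≫ pullback.snd r qQ') ⁻¹ᵁ (pr ⁻¹ᵁ V)).ι ≫ ι := ⟨l₂, hl₂cl, hl₂⟩
  have hfac : (ι ≫ pullback.snd r qQ') ∣_ (pr ⁻¹ᵁ V) = l₂' ≫ nW := by
    rw [← cancel_mono (pr ⁻¹ᵁ V).ι, morphismRestrict_ι, Category.assoc, hnW]
    simp only [n]
    rw [← Category.assoc l₂', hl₂', Category.assoc]
  rw [hfac]
  infer_instance

end Analysis

section Union

variable {X S : Scheme.{u}} {r : X ⟶ S} [IsSeparated r] {U A B : X.Opens} [QuasiCompact U.ι]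

set_option maxHeartbeats 1600000 in
/-- **the two-piece lemma** -/
theorem Piece.union (PA : Piece r U A) (PB : Piece r U B) :
    ∃ PC : Piece r U (A ⊔ B), IsSchemeTheoreticallyDominant PC.s ∧ QuasiCompact PC.s ∧
      ∃ e : PC.Q ≅ pullback PA.q PB.q, e.hom ≫ pullback.fst PA.q PB.q ≫ PA.q = PC.q := by
  have hsepA : IsSeparated PA.q := PA.sep
  have hsepB : IsSeparated PB.q := PB.sep
  have himmA : IsImmersion PA.g := PA.imm
  have himmB : IsImmersion PB.g := PB.imm
  -- the product of the `Q`s and the product with `X`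
  let qQ : pullback PA.q PB.q ⟶ S := pullback.fst PA.q PB.q ≫ PA.q
  have hqQ' : pullback.snd PA.q PB.q ≫ PB.q = qQ := pullback.condition.symm
  have hsepQ : IsSeparated qQ := inferInstance
  let tA : (U : Scheme.{u}) ⟶ PA.Q := PA.s ≫ PA.g
  let tB : (U : Scheme.{u}) ⟶ PB.Q := PB.s ≫ PB.g
  have htA : tA ≫ PA.q = U.ι ≫ r := by
    simp only [tA, Category.assoc, ← PA.comm]; rw [← Category.assoc, PA.hs]
  have htB : tB ≫ PB.q = U.ι ≫ r := by
    simp only [tB, Category.assoc, ← PB.comm]; rw [← Category.assoc, PB.hs]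
  let t : (U : Scheme.{u}) ⟶ pullback PA.q PB.q := pullback.lift tA tB (htA.trans htB.symm)
  have htq : t ≫ qQ = U.ι ≫ r := by
    simp only [t, qQ]; rw [pullback.lift_fst_assoc, htA]
  let ψ : (U : Scheme.{u}) ⟶ pullback r qQ := pullback.lift U.ι t htq.symm
  have hψ1 : ψ ≫ pullback.fst r qQ = U.ι := pullback.lift_fst _ _ _
  have hψ2 : ψ ≫ pullback.snd r qQ = t := pullback.lift_snd _ _ _
  have hqcψ : QuasiCompact ψ := by
    have : QuasiCompact (ψ ≫ pullback.fst r qQ) := by rw [hψ1]; infer_instance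
    exact QuasiCompact.of_comp ψ (pullback.fst r qQ)
  -- the closure
  let ι := ψ.imageι
  let d := ψ.toImage
  have hdι : d ≫ ι = ψ := ψ.toImage_imageι
  have hddom : IsSchemeTheoreticallyDominant d := isSchemeTheoreticallyDominant_toImage ψ
  have hdqc : QuasiCompact d := inferInstance
  have hιcl : IsClosedImmersion ι := inferInstance
  have hd1 : d ≫ ι ≫ pullback.fst r qQ = U.ι := by rw [← Category.assoc, hdι, hψ1]
  have hd2A : d ≫ ι ≫ pullback.snd r qQ ≫ pullback.fst PA.q PB.q = PA.s ≫ PA.g := by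
    rw [← Category.assoc, hdι, ← Category.assoc, hψ2]; exact pullback.lift_fst _ _ _
  have hd2B : d ≫ ι ≫ pullback.snd r qQ ≫ pullback.snd PA.q PB.q = PB.s ≫ PB.g := by
    rw [← Category.assoc, hdι, ← Category.assoc, hψ2]; exact pullback.lift_snd _ _ _
  obtain ⟨hA1, hA2⟩ := PA.analysis qQ (pullback.fst PA.q PB.q) rfl ι d hd1 hd2A
  obtain ⟨hB1, hB2⟩ := PB.analysis qQ (pullback.snd PA.q PB.q) hqQ' ι d hd1 hd2B
  -- the output piece
  let G : ψ.image ⟶ pullback PA.q PB.q := ι ≫ pullback.snd r qQ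
  let pX : ψ.image ⟶ X := ι ≫ pullback.fst r qQ
  let OC : (ψ.image).Opens := pX ⁻¹ᵁ (A ⊔ B)
  let WA : (pullback PA.q PB.q).Opens := pullback.fst PA.q PB.q ⁻¹ᵁ PA.g.coborderRange
  let WB : (pullback PA.q PB.q).Opens := pullback.snd PA.q PB.q ⁻¹ᵁ PB.g.coborderRange
  have hcomm : (OC.ι ≫ pX) ≫ r = (OC.ι ≫ G) ≫ qQ := by
    simp only [pX, G, Category.assoc]
    rw [pullback.condition]
  -- the immersion
  have himm : IsImmersion (OC.ι ≫ G) := by
    have hR : MorphismProperty.RespectsRight @IsImmersion @IsOpenImmersion :=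
      ⟨fun i hi f hf => by
        have : IsOpenImmersion i := hi
        have : IsImmersion f := hf
        change IsImmersion (f ≫ i)
        infer_instance⟩
    apply IsZariskiLocalAtTarget.of_range_subset_iSup (P := @IsImmersion)
      (fun b : Bool => if b then WA else WB)
    · rintro _ ⟨x, rfl⟩
      have hx : pX (OC.ι x) ∈ A ⊔ B := by
        have := x.2
        exact this
      rcases hx with hx | hx
      · refine Opens.mem_iSup.2 ⟨true, ?_⟩
        have h1 : OC.ι x ∈ pX ⁻¹ᵁ A := hx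
        rw [hA1] at h1
        exact h1
      · refine Opens.mem_iSup.2 ⟨false, ?_⟩
        have h1 : OC.ι x ∈ pX ⁻¹ᵁ B := hx
        rw [hB1] at h1
        exact h1
    · intro b
      rw [morphismRestrict_comp]
      cases b
      · have : IsClosedImmersion (G ∣_ WB) := hB2
        change IsImmersion ((OC.ι ∣_ (G ⁻¹ᵁ WB)) ≫ (G ∣_ WB))
        infer_instance
      · have : IsClosedImmersion (G ∣_ WA) := hA2
        change IsImmersion ((OC.ι ∣_ (G ⁻¹ᵁ WA)) ≫ (G ∣_ WA))
        infer_instance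
  -- closedness
  have hk : pullback.lift (OC.ι ≫ pX) (OC.ι ≫ G) hcomm = OC.ι ≫ ι := by
    apply pullback.hom_ext
    · rw [pullback.lift_fst]; simp only [pX, Category.assoc]
    · rw [pullback.lift_snd]; simp only [G, Category.assoc]
  have hclosed : ClosedIn (Set.range (pullback.lift (OC.ι ≫ pX) (OC.ι ≫ G) hcomm))
      ((pullback.fst r qQ ⁻¹ᵁ (A ⊔ B) : (pullback r qQ).Opens) : Set _) := by
    rw [hk]
    constructor
    · rintro _ ⟨x, rfl⟩
      exact x.2
    · rintro z ⟨hz1, hz2⟩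
      have hz3 : z ∈ Set.range ι := by
        have hcl : IsClosed (Set.range ι) := ι.isClosedEmbedding.isClosed_range
        apply hcl.closure_subset_iff.2 _ hz1
        rintro _ ⟨x, rfl⟩
        exact ⟨OC.ι x, rfl⟩
      obtain ⟨x, rfl⟩ := hz3
      exact ⟨⟨x, hz2⟩, rfl⟩
  -- the section
  have hdr : Set.range d ⊆ Set.range OC.ι := by
    rintro _ ⟨a, rfl⟩
    rw [Scheme.Opens.range_ι]
    change pX (d a) ∈ A ⊔ B
    have h1 : (d ≫ ι ≫ pullback.fst r qQ) a = U.ι a := by rw [hd1]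
    have h2 : pX (d a) = U.ι a := h1
    rw [h2]
    exact Or.inl (PA.le a.2)
  let sO : (U : Scheme.{u}) ⟶ (OC : Scheme.{u}) := IsOpenImmersion.lift OC.ι d hdr
  have hsO : sO ≫ OC.ι = d := IsOpenImmersion.lift_fac _ _ _
  have hpb : IsPullback sO (𝟙 _) OC.ι d := IsOpenImmersion.isPullback_lift_id d _ hdr
  have hsOdom : IsSchemeTheoreticallyDominant sO :=
    IsSchemeTheoreticallyDominant.of_isPullback hpb.flip
  have hsOqc : QuasiCompact sO := by
    have : QuasiCompact (sO ≫ OC.ι) := by rw [hsO]; infer_instance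
    exact QuasiCompact.of_comp sO OC.ι
  refine ⟨{ Q := pullback PA.q PB.q
            q := qQ
            sep := hsepQ
            A' := OC
            α := OC.ι ≫ pX
            g := OC.ι ≫ G
            comm := hcomm
            imm := himm
            closed := hclosed
            s := sO
            hs := by rw [← Category.assoc, hsO]; exact hd1 }, hsOdom, hsOqc, Iso.refl _, ?_⟩
  exact Category.id_comp _

end Union

end Groth.Agent.Helper1.Chow
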