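import Mathlib

set_option autoImplicit false
universe u
open CategoryTheory CategoryTheory.Limits AlgebraicGeometry TopologicalSpace Opposite

namespace Groth.Agent.Helper1.PBaff

/-- in a pushout of commutative rings, a subring containing both images is everything -/
theorem subring_eq_top_of_isPushout {A B C D : CommRingCat.{u}} {f : A ⟶ B} {g : A ⟶ C}
    {inl : B ⟶ D} {inr : C ⟶ D} (h : IsPushout f g inl inr) (T : Subring D)
    (h₁ : ∀ z, inl.hom z ∈ T) (h₂ : ∀ z, inr.hom z ∈ T) : T = ⊤ := by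
  let ιT : CommRingCat.of T ⟶ D := CommRingCat.ofHom T.subtype
  let u₁ : B ⟶ CommRingCat.of T := CommRingCat.ofHom (inl.hom.codRestrict T h₁)
  let u₂ : C ⟶ CommRingCat.of T := CommRingCat.ofHom (inr.hom.codRestrict T h₂)
  have hu₁ : u₁ ≫ ιT = inl := by ext z; rfl
  have hu₂ : u₂ ≫ ιT = inr := by ext z; rfl
  have hinj : Function.Injective ιT.hom := Subtype.val_injective
  have hcomm : f ≫ u₁ = g ≫ u₂ := by
    ext z
    have := congrArg (fun φ => φ.hom z) h.w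
    exact this
  let d : D ⟶ CommRingCat.of T := h.desc u₁ u₂ hcomm
  have hd : d ≫ ιT = 𝟙 D := by
    apply h.hom_ext
    · rw [← Category.assoc, h.inl_desc, hu₁, Category.comp_id]
    · rw [← Category.assoc, h.inr_desc, hu₂, Category.comp_id]
  rw [eq_top_iff]
  intro x _
  have hx : ιT.hom (d.hom x) = x := congrArg (fun φ => φ.hom x) hd
  rw [← hx]
  exact (d.hom x).2

section Chart

variable {P₁ P₂ B : Scheme.{u}} (p₁ : P₁ ⟶ B) (p₂ : P₂ ⟶ B)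
  (D₁ : P₁.Opens) (D₂ : P₂.Opens)

/-- the open immersion of the product of two opens into the product -/
noncomputable def chartMap : pullback (D₁.ι ≫ p₁) (D₂.ι ≫ p₂) ⟶ pullback p₁ p₂ :=
  pullback.map (D₁.ι ≫ p₁) (D₂.ι ≫ p₂) p₁ p₂ D₁.ι D₂.ι (𝟙 B) (by simp) (by simp)

instance : IsOpenImmersion (chartMap p₁ p₂ D₁ D₂) := by
  unfold chartMap; infer_instance

theorem chartMap_fst : chartMap p₁ p₂ D₁ D₂ ≫ pullback.fst p₁ p₂ =
    pullback.fst (D₁.ι ≫ p₁) (D₂.ι ≫ p₂) ≫ D₁.ι :=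
  pullback.lift_fst _ _ _

theorem chartMap_snd : chartMap p₁ p₂ D₁ D₂ ≫ pullback.snd p₁ p₂ =
    pullback.snd (D₁.ι ≫ p₁) (D₂.ι ≫ p₂) ≫ D₂.ι :=
  pullback.lift_snd _ _ _

theorem appLE_congr_hom {X Y : Scheme.{u}} {f g : X ⟶ Y} (h : f = g) (U : Y.Opens)
    (V : X.Opens) (e : V ≤ f ⁻¹ᵁ U) : f.appLE U V e = g.appLE U V (h ▸ e) := by
  subst h; rfl

/-- functions from a factor, seen on the product chart -/
theorem appIso_hom_appLE_fst (U : (pullback p₁ p₂).Opens)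
    (hU : U = (chartMap p₁ p₂ D₁ D₂) ''ᵁ ⊤) (h : U ≤ (pullback.fst p₁ p₂) ⁻¹ᵁ D₁) :
    (pullback.fst p₁ p₂).appLE D₁ U h ≫
      (chartMap p₁ p₂ D₁ D₂).appLE U ⊤ (by rw [hU]; exact (Scheme.Hom.preimage_image_eq _ _).ge) =
    D₁.ι.appLE D₁ ⊤ D₁.ι_preimage_self.ge ≫
      (pullback.fst (D₁.ι ≫ p₁) (D₂.ι ≫ p₂)).appTop := by
  rw [Scheme.Hom.appLE_comp_appLE, appLE_congr_hom (chartMap_fst p₁ p₂ D₁ D₂)]
  rw [← Scheme.Hom.appLE_comp_appLE _ _ D₁ ⊤ ⊤ D₁.ι_preimage_self.ge le_top]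
  congr 1
  exact Scheme.Hom.appLE_eq_app _

theorem appIso_hom_appLE_snd (U : (pullback p₁ p₂).Opens)
    (hU : U = (chartMap p₁ p₂ D₁ D₂) ''ᵁ ⊤) (h : U ≤ (pullback.snd p₁ p₂) ⁻¹ᵁ D₂) :
    (pullback.snd p₁ p₂).appLE D₂ U h ≫
      (chartMap p₁ p₂ D₁ D₂).appLE U ⊤ (by rw [hU]; exact (Scheme.Hom.preimage_image_eq _ _).ge) =
    D₂.ι.appLE D₂ ⊤ D₂.ι_preimage_self.ge ≫
      (pullback.snd (D₁.ι ≫ p₁) (D₂.ι ≫ p₂)).appTop := by
  rw [Scheme.Hom.appLE_comp_appLE, appLE_congr_hom (chartMap_snd p₁ p₂ D₁ D₂)]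
  rw [← Scheme.Hom.appLE_comp_appLE _ _ D₂ ⊤ ⊤ D₂.ι_preimage_self.ge le_top]
  congr 1
  exact Scheme.Hom.appLE_eq_app _

theorem chartMap_image_top : (chartMap p₁ p₂ D₁ D₂) ''ᵁ ⊤ =
    (pullback.fst p₁ p₂) ⁻¹ᵁ D₁ ⊓ (pullback.snd p₁ p₂) ⁻¹ᵁ D₂ := by
  rw [Scheme.Hom.image_top_eq_opensRange]
  apply Opens.ext
  have := Scheme.Pullback.range_map (D₁.ι ≫ p₁) (D₂.ι ≫ p₂) p₁ p₂ D₁.ι D₂.ι (𝟙 B)
    (by simp) (by simp)
  change Set.range (chartMap p₁ p₂ D₁ D₂) = _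
  unfold chartMap
  rw [this]
  simp

variable [IsAffine B]

include p₁ p₂ in
/-- a subring of the sections over a product chart containing the functions from
both factors is everything -/
theorem subring_eq_top (hD₁ : IsAffineOpen D₁) (hD₂ : IsAffineOpen D₂)
    (U : (pullback p₁ p₂).Opens)
    (hU : U = (pullback.fst p₁ p₂) ⁻¹ᵁ D₁ ⊓ (pullback.snd p₁ p₂) ⁻¹ᵁ D₂)
    (T : Subring Γ(pullback p₁ p₂, U))
    (h₁ : ∀ z : Γ(P₁, D₁), ((pullback.fst p₁ p₂).appLE D₁ U (hU ▸ inf_le_left)).hom z ∈ T)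
    (h₂ : ∀ z : Γ(P₂, D₂), ((pullback.snd p₁ p₂).appLE D₂ U (hU ▸ inf_le_right)).hom z ∈ T) :
    T = ⊤ := by
  set m := chartMap p₁ p₂ D₁ D₂ with hm
  obtain rfl : U = m ''ᵁ ⊤ := hU.trans (chartMap_image_top p₁ p₂ D₁ D₂).symm
  have : IsAffine (↑D₁ : Scheme.{u}) := hD₁
  have : IsAffine (↑D₂ : Scheme.{u}) := hD₂
  have hpo := isPushout_appTop_of_isPullback
    (IsPullback.of_hasPullback (D₁.ι ≫ p₁) (D₂.ι ≫ p₂))
  let ψ := (m.appIso ⊤).inv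
  let T' : Subring Γ(pullback (D₁.ι ≫ p₁) (D₂.ι ≫ p₂), ⊤) := T.comap ψ.hom
  have hφψ : ∀ x, ψ.hom ((m.appIso ⊤).hom.hom x) = x := fun x => by
    change ((m.appIso ⊤).hom ≫ (m.appIso ⊤).inv).hom x = x
    rw [Iso.hom_inv_id]; rfl
  have hT' : T' = ⊤ := by
    apply subring_eq_top_of_isPushout hpo T'
    · intro w
      have : IsIso (D₁.ι.appLE D₁ ⊤ D₁.ι_preimage_self.ge) := inferInstance
      obtain ⟨z, rfl⟩ := ((ConcreteCategory.isIso_iff_bijective _).1 this).2 w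
      change ψ.hom _ ∈ T
      have e : (pullback.fst (D₁.ι ≫ p₁) (D₂.ι ≫ p₂)).appTop.hom
          ((D₁.ι.appLE D₁ ⊤ D₁.ι_preimage_self.ge).hom z) =
          (m.appIso ⊤).hom.hom (((pullback.fst p₁ p₂).appLE D₁ (m ''ᵁ ⊤)
            (hU ▸ inf_le_left)).hom z) := by
        rw [Scheme.Hom.appIso_hom']
        have := appIso_hom_appLE_fst p₁ p₂ D₁ D₂ (m ''ᵁ ⊤) rfl (hU ▸ inf_le_left)
        exact (congrArg (fun φ => φ.hom z) this).symm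
      rw [e, hφψ]
      exact h₁ z
    · intro w
      have : IsIso (D₂.ι.appLE D₂ ⊤ D₂.ι_preimage_self.ge) := inferInstance
      obtain ⟨z, rfl⟩ := ((ConcreteCategory.isIso_iff_bijective _).1 this).2 w
      change ψ.hom _ ∈ T
      have e : (pullback.snd (D₁.ι ≫ p₁) (D₂.ι ≫ p₂)).appTop.hom
          ((D₂.ι.appLE D₂ ⊤ D₂.ι_preimage_self.ge).hom z) =
          (m.appIso ⊤).hom.hom (((pullback.snd p₁ p₂).appLE D₂ (m ''ᵁ ⊤)
            (hU ▸ inf_le_right)).hom z) := by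
        rw [Scheme.Hom.appIso_hom']
        have := appIso_hom_appLE_snd p₁ p₂ D₁ D₂ (m ''ᵁ ⊤) rfl (hU ▸ inf_le_right)
        exact (congrArg (fun φ => φ.hom z) this).symm
      rw [e, hφψ]
      exact h₂ z
  rw [eq_top_iff]
  intro x _
  rw [← hφψ x]
  have : (m.appIso ⊤).hom.hom x ∈ T' := hT' ▸ Subring.mem_top _
  exact this

end Chart

end Groth.Agent.Helper1.PBaff
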