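import Mathlib
import Groth.Agent.Lib.Helper1.VA1

set_option autoImplicit false
universe u

open CategoryTheory CategoryTheory.Limits AlgebraicGeometry TopologicalSpace Opposite
  HomogeneousLocalization

namespace Groth.Agent.Helper1.VA7

open Groth.Agent.Helper1.QcCech Groth.Agent.Helper1.SubSh Groth.Agent.Helper1.LGen
open Groth.Agent.Helper1 Groth.Agent.Helper1.AmpleLib
open Groth.Agent.Helper1.ProjUP5 Groth.Agent.Helper1.PullSec Groth.Agent.Helper1.PullGen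
open Groth.Agent.Helper1.ProjUP7 Groth.Agent.Helper1.VA1

set_option synthInstance.maxHeartbeats 400000

section Core

variable {X S : Scheme.{u}} (q : X ⟶ S) {G : X.Modules} (hG : PicF.IsInvertible G) (n : ℕ)
  (s : Fin (n + 1) → Γ(G, ⊤)) (hs : ProjUP.GeneratedBy G s)
  {𝒜 : Type*} (j : 𝒜 → Fin (n + 1)) (S₀ : 𝒜 → S.Opens) (hS₀ : ∀ a, IsAffineOpen (S₀ a))
  (haff : ∀ a, IsAffineOpen (CohB1.genLocus G (TwistAmple.homOfSec G (s (j a)))))
  (hle : ∀ a, CohB1.genLocus G (TwistAmple.homOfSec G (s (j a))) ≤ q ⁻¹ᵁ S₀ a)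
  (hcovX : ∀ x : X, ∃ a, x ∈ CohB1.genLocus G (TwistAmple.homOfSec G (s (j a))))
  (hgen : ∀ (a : 𝒜) (U : X.Opens) (_ : U = CohB1.genLocus G (TwistAmple.homOfSec G (s (j a))))
    (hUS : U ≤ q ⁻¹ᵁ S₀ a) (T : Subring Γ(X, U)),
    (∀ y, (q.appLE (S₀ a) U hUS).hom y ∈ T) →
    (∀ (l : Fin (n + 1)) (ρ : Γ(X, U)),
      ρ • res G (le_top : U ≤ ⊤) (s (j a)) = res G (le_top : U ≤ ⊤) (s l) → ρ ∈ T) → T = ⊤)

include hG hs hS₀ haff hle hcovX hgen in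
/-- **core criterion for relative very ampleness**, with the dimension of the projective
space exposed -/
theorem exists_immersion_of_charts :
    ∃ i : X ⟶ CohB1.ProjSpaceOver n S, IsImmersion i ∧
      i ≫ CohB1.ProjSpaceOver.toBase n S = q ∧
      Nonempty (G ≅ (Scheme.Modules.pullback i).obj (Twist.twistOver n S 1)) := by
  obtain ⟨r, hr, τ, hτ⟩ := Groth.Agent.S3572.result (R := ULift.{u} ℤ) n
    (specULiftZIsTerminal.from X) G hG s hs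
  let 𝒮 := CohB1.polyGrading n (ULift.{u} ℤ)
  let pr₁ := pullback.fst (CohB1.ProjSpace.toSpec n (ULift.{u} ℤ)) (specULiftZIsTerminal.from S)
  let pr₂ := pullback.snd (CohB1.ProjSpace.toSpec n (ULift.{u} ℤ)) (specULiftZIsTerminal.from S)
  let i : X ⟶ CohB1.ProjSpaceOver n S := pullback.lift r q (specULiftZIsTerminal.hom_ext _ _)
  have hi1 : i ≫ pr₁ = r := pullback.lift_fst _ _ _
  have hi2 : i ≫ pr₂ = q := pullback.lift_snd _ _ _
  have hτ' : ∀ k, τ.hom.app ⊤ (pt 𝒮 (ProjUP8.tX n _) (ProjUP8.htX n _) r k) = s k := hτ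
  have hpre : ∀ k, r ⁻¹ᵁ D 𝒮 (ProjUP8.tX n _) k =
      CohB1.genLocus G (TwistAmple.homOfSec G (s k)) :=
    preimage_D 𝒮 (ProjUP8.tX n _) (ProjUP8.htX n _) (ProjUP8.hcov n _) r τ s hτ'
  refine ⟨i, ?_, hi2, ⟨?_⟩⟩
  · let V : 𝒜 → (CohB1.ProjSpaceOver n S).Opens := fun a =>
      pr₁ ⁻¹ᵁ D 𝒮 (ProjUP8.tX n _) (j a) ⊓ pr₂ ⁻¹ᵁ S₀ a
    have hiV : ∀ a, i ⁻¹ᵁ V a = CohB1.genLocus G (TwistAmple.homOfSec G (s (j a))) := by
      intro a
      change i ⁻¹ᵁ (pr₁ ⁻¹ᵁ D 𝒮 (ProjUP8.tX n _) (j a)) ⊓ i ⁻¹ᵁ (pr₂ ⁻¹ᵁ S₀ a) = _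
      rw [← Scheme.Hom.comp_preimage, ← Scheme.Hom.comp_preimage, hi1, hi2, hpre]
      exact inf_eq_left.2 (hle a)
    apply isImmersion_of_charts i V
    · intro a
      exact isAffineOpen_chart _ _ _
        (Proj.isAffineOpen_basicOpen 𝒮 _ (ProjUP8.htX n _ (j a)) one_pos) _ (hS₀ a)
    · intro a
      rw [hiV]
      exact haff a
    · intro x
      obtain ⟨a, ha⟩ := hcovX x
      refine ⟨a, ?_⟩
      change x ∈ i ⁻¹ᵁ V a
      rw [hiV]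
      exact ha
    · intro a
      have hUS : i ⁻¹ᵁ V a ≤ q ⁻¹ᵁ S₀ a := by rw [hiV]; exact hle a
      have hUD : i ⁻¹ᵁ V a ≤ r ⁻¹ᵁ D 𝒮 (ProjUP8.tX n _) (j a) := by rw [hiV, hpre]
      have hT := hgen a (i ⁻¹ᵁ V a) (hiV a) hUS (RingHom.range (i.app (V a)).hom)
        (fun y => appLE_mem_range i pr₂ q hi2 (S₀ a) (V a) inf_le_right hUS y)
        (fun l ρ hρ => by
          rw [coeff_eq 𝒮 (ProjUP8.tX n _) (ProjUP8.htX n _) r τ s hτ' (j a) l _ hUD ρ hρ]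
          exact appLE_mem_range i pr₁ r hi1 _ (V a) inf_le_left hUD _)
      exact RingHom.range_eq_top.1 hT
  · exact τ.symm ≪≫ (Scheme.Modules.pullbackCongr hi1.symm).app _ ≪≫
      ((Scheme.Modules.pullbackComp i pr₁).app _).symm

end Core

end Groth.Agent.Helper1.VA7
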