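import Mathlib
import Groth.Agent.Lib.Helper1.VA7
import Groth.Agent.Lib.Helper1.VA5
import Groth.Agent.Lib.Helper1.VA2
import Groth.Agent.Lib.Helper1.PBaff
import Groth.Agent.Lib.Helper1.ProjVA2

set_option autoImplicit false
universe u

open CategoryTheory CategoryTheory.Limits AlgebraicGeometry TopologicalSpace Opposite
  HomogeneousLocalization

namespace Groth.Agent.Helper1.Segre

open Groth.Agent.Helper1.QcCech Groth.Agent.Helper1.SubSh Groth.Agent.Helper1.LGen
open Groth.Agent.Helper1 Groth.Agent.Helper1.AmpleLib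
open Groth.Agent.Helper1.ProjUP5 Groth.Agent.Helper1.PullSec Groth.Agent.Helper1.PullGen
open Groth.Agent.Helper1.ProjUP7 Groth.Agent.Helper1.VA1 Groth.Agent.Helper1.TwForm
open Groth.Agent.Helper1.TmulLib Groth.Agent.Helper1.TensGen

set_option synthInstance.maxHeartbeats 400000

section General

variable {X : Scheme.{u}} {A S : Type u} [CommRing A] [CommRing S] [Algebra A S]
  (𝒮 : ℕ → Submodule A S) [GradedAlgebra 𝒮] {K : Type*} (t : K → S) (ht : ∀ k, t k ∈ 𝒮 1)
  (r : X ⟶ Proj 𝒮)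

/-- the pulled back coordinates on a small open -/
theorem res_pt_le (k l : K) (U : X.Opens) (hU : U ≤ r ⁻¹ᵁ D 𝒮 t k) :
    res _ (le_top : U ≤ ⊤) (pt 𝒮 t ht r l) =
      (r.appLE (D 𝒮 t k) U hU).hom (c 𝒮 t ht k l) • res _ (le_top : U ≤ ⊤) (pt 𝒮 t ht r k) :=
  res_s_le 𝒮 t ht r (Iso.refl _) (pt 𝒮 t ht r) (fun _ => rfl) k l U hU

end General

section Main

variable (n m : ℕ) (R : Type u) [CommRing R]

/-- the product of two projective spaces over `R` -/
noncomputable abbrev X₀ : Scheme.{u} :=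
  pullback (CohB1.ProjSpace.toSpec n R) (CohB1.ProjSpace.toSpec m R)

noncomputable abbrev pa : X₀ n m R ⟶ CohB1.ProjSpace n R :=
  pullback.fst (CohB1.ProjSpace.toSpec n R) (CohB1.ProjSpace.toSpec m R)

noncomputable abbrev pb : X₀ n m R ⟶ CohB1.ProjSpace m R :=
  pullback.snd (CohB1.ProjSpace.toSpec n R) (CohB1.ProjSpace.toSpec m R)

noncomputable abbrev q₀ : X₀ n m R ⟶ Spec (CommRingCat.of R) :=
  pa n m R ≫ CohB1.ProjSpace.toSpec n R

noncomputable abbrev La : (X₀ n m R).Modules :=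
  (Scheme.Modules.pullback (pa n m R)).obj (O1 (CohB1.polyGrading n R))

noncomputable abbrev Lb : (X₀ n m R).Modules :=
  (Scheme.Modules.pullback (pb n m R)).obj (O1 (CohB1.polyGrading m R))

noncomputable abbrev G : (X₀ n m R).Modules := CohB1.tensorMod (La n m R) (Lb n m R)

noncomputable abbrev sa (k : Fin (n + 1)) : Γ(La n m R, ⊤) :=
  pt (CohB1.polyGrading n R) (ProjUP8.tX n R) (ProjUP8.htX n R) (pa n m R) k

noncomputable abbrev sb (l : Fin (m + 1)) : Γ(Lb n m R, ⊤) :=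
  pt (CohB1.polyGrading m R) (ProjUP8.tX m R) (ProjUP8.htX m R) (pb n m R) l

/-- the Segre sections -/
noncomputable def σ (k : Fin (n + 1)) (l : Fin (m + 1)) : Γ(G n m R, ⊤) :=
  tm (La n m R) (Lb n m R) ⊤ (sa n m R k) (sb n m R l)

noncomputable abbrev Da (k : Fin (n + 1)) : (CohB1.ProjSpace n R).Opens :=
  D (CohB1.polyGrading n R) (ProjUP8.tX n R) k

noncomputable abbrev Db (l : Fin (m + 1)) : (CohB1.ProjSpace m R).Opens :=
  D (CohB1.polyGrading m R) (ProjUP8.tX m R) l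

theorem isInvertible_La : PicF.IsInvertible (La n m R) :=
  PullGen.isInvertible_pullback _ (VA5.isAmple_twistProjSpace n R).1

theorem isInvertible_Lb : PicF.IsInvertible (Lb n m R) :=
  PullGen.isInvertible_pullback _ (VA5.isAmple_twistProjSpace m R).1

theorem isInvertible_G : PicF.IsInvertible (G n m R) :=
  isInvertible_tensorMod (isInvertible_La n m R) (isInvertible_Lb n m R)

theorem genLocus_σ (k : Fin (n + 1)) (l : Fin (m + 1)) :
    CohB1.genLocus (G n m R) (TwistAmple.homOfSec (G n m R) (σ n m R k l)) =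
      (pa n m R) ⁻¹ᵁ Da n R k ⊓ (pb n m R) ⁻¹ᵁ Db m R l := by
  have h := VA2.genLocus_homOfSec_tm (isInvertible_La n m R) (isInvertible_Lb n m R)
    (sa n m R k) (TwistAmple.homOfSec (Lb n m R) (sb n m R l))
  rw [secVal_homOfSec, QcCech.res_self] at h
  rw [σ, h]
  have h1 := genLocus_pt (CohB1.polyGrading n R) (ProjUP8.tX n R) (ProjUP8.htX n R)
    (ProjUP8.hcov n R) (pa n m R) k
  have h2 := genLocus_pt (CohB1.polyGrading m R) (ProjUP8.tX m R) (ProjUP8.htX m R)
    (ProjUP8.hcov m R) (pb n m R) l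
  exact congrArg₂ (· ⊓ ·) h1 h2

theorem mk_mul_pow_zero {k k' : Fin (n + 1)}
    (hb' : ProjUP8.tX n R k' * ProjUP8.tX n R k ^ (1 - 1) ∈ CohB1.polyGrading n R (1 • 1)) :
    Away.mk (CohB1.polyGrading n R) (ProjUP8.htX n R k) 1
      (ProjUP8.tX n R k' * ProjUP8.tX n R k ^ (1 - 1)) hb' =
    Away.mk (CohB1.polyGrading n R) (ProjUP8.htX n R k) 1 (ProjUP8.tX n R k')
      (h11 (CohB1.polyGrading n R) (ProjUP8.tX n R) (ProjUP8.htX n R) k') := by
  apply HomogeneousLocalization.val_injective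
  rw [Away.val_mk, Away.val_mk]
  simp

/-- functions pulled back from a chart of projective space lie in a subring containing
the base and the ratios of coordinates -/
theorem mem_of_ratios {X : Scheme.{u}} (r : X ⟶ CohB1.ProjSpace n R) (k : Fin (n + 1))
    (U : X.Opens) (hUa : U ≤ r ⁻¹ᵁ Da n R k) (T : Subring Γ(X, U))
    (hT1 : ∀ y, ((r ≫ CohB1.ProjSpace.toSpec n R).appLE ⊤ U le_top).hom y ∈ T)
    (hT2 : ∀ k' : Fin (n + 1),
      (r.appLE (Da n R k) U hUa).hom
        (c (CohB1.polyGrading n R) (ProjUP8.tX n R) (ProjUP8.htX n R) k k') ∈ T)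
    (z : Γ(CohB1.ProjSpace n R, Da n R k)) :
    (r.appLE (Da n R k) U hUa).hom z ∈ T := by
  obtain ⟨y, rfl⟩ := ProjGlobal.awayToSection_surjective (CohB1.polyGrading n R)
    (ProjUP8.tX n R k) (ProjUP8.htX n R k) one_pos z
  let Ta : Subring (Away (CohB1.polyGrading n R) (ProjUP8.tX n R k)) :=
    T.comap ((r.appLE (Da n R k) U hUa).hom.comp
      (Proj.awayToSection (CohB1.polyGrading n R) (ProjUP8.tX n R k)).hom)
  have hTa : Ta = ⊤ := by
    apply ProjVA1.away_subring_eq_top (CohB1.polyGrading n R) 1 (Set.range (ProjUP8.tX n R))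
      (MvPolynomial.adjoin_range_X) (ProjUP8.htX n R k) Ta
    · intro a
      change (r.appLE (Da n R k) U hUa).hom
        ((Proj.awayToSection (CohB1.polyGrading n R) (ProjUP8.tX n R k)).hom _) ∈ T
      have h1 := ProjVA2.q_appLE (CohB1.polyGrading n R) (ProjUP8.htX n R k) one_pos le_top
        ((Scheme.ΓSpecIso (CommRingCat.of R)).inv.hom a)
      have h2 : (Scheme.ΓSpecIso (CommRingCat.of R)).hom.hom
          ((Scheme.ΓSpecIso (CommRingCat.of R)).inv.hom a) = a := by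
        rw [← CommRingCat.comp_apply, Iso.inv_hom_id]; rfl
      rw [h2] at h1
      rw [← h1]
      have h3 := Scheme.Hom.appLE_comp_appLE r (ProjVA2.q (CohB1.polyGrading n R)) ⊤
        (Da n R k) U le_top hUa
      have h4 := congrArg (fun φ => φ.hom ((Scheme.ΓSpecIso (CommRingCat.of R)).inv.hom a)) h3
      refine (congrArg (· ∈ T) h4).mpr ?_
      exact hT1 _
    · rintro b ⟨k', rfl⟩
      have hb' : ProjUP8.tX n R k' * ProjUP8.tX n R k ^ (1 - 1) ∈
          CohB1.polyGrading n R (1 • 1) := by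
        simpa using ProjUP8.htX n R k'
      refine ⟨1, le_rfl, ProjUP8.htX n R k', hb', ?_⟩
      rw [mk_mul_pow_zero]
      exact hT2 k'
  have : y ∈ Ta := hTa ▸ Subring.mem_top y
  exact this

theorem res_σ_left (k k' : Fin (n + 1)) (l : Fin (m + 1)) (U : (X₀ n m R).Opens)
    (hUa : U ≤ (pa n m R) ⁻¹ᵁ Da n R k) :
    res (G n m R) (le_top : U ≤ ⊤) (σ n m R k' l) =
      ((pa n m R).appLE (Da n R k) U hUa).hom
        (c (CohB1.polyGrading n R) (ProjUP8.tX n R) (ProjUP8.htX n R) k k') •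
        res (G n m R) (le_top : U ≤ ⊤) (σ n m R k l) := by
  have h1 : res (La n m R) (le_top : U ≤ ⊤) (sa n m R k') =
      ((pa n m R).appLE (Da n R k) U hUa).hom
        (c (CohB1.polyGrading n R) (ProjUP8.tX n R) (ProjUP8.htX n R) k k') •
        res (La n m R) (le_top : U ≤ ⊤) (sa n m R k) :=
    res_pt_le (CohB1.polyGrading n R) (ProjUP8.tX n R)
      (ProjUP8.htX n R) (pa n m R) k k' U hUa
  rw [σ, σ, res_tm, res_tm, h1, tm_smul_left]

theorem res_σ_right (k : Fin (n + 1)) (l l' : Fin (m + 1)) (U : (X₀ n m R).Opens)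
    (hUb : U ≤ (pb n m R) ⁻¹ᵁ Db m R l) :
    res (G n m R) (le_top : U ≤ ⊤) (σ n m R k l') =
      ((pb n m R).appLE (Db m R l) U hUb).hom
        (c (CohB1.polyGrading m R) (ProjUP8.tX m R) (ProjUP8.htX m R) l l') •
        res (G n m R) (le_top : U ≤ ⊤) (σ n m R k l) := by
  have h1 : res (Lb n m R) (le_top : U ≤ ⊤) (sb n m R l') =
      ((pb n m R).appLE (Db m R l) U hUb).hom
        (c (CohB1.polyGrading m R) (ProjUP8.tX m R) (ProjUP8.htX m R) l l') •
        res (Lb n m R) (le_top : U ≤ ⊤) (sb n m R l) :=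
    res_pt_le (CohB1.polyGrading m R) (ProjUP8.tX m R)
      (ProjUP8.htX m R) (pb n m R) l l' U hUb
  rw [σ, σ, res_tm, res_tm, h1, tm_smul_right]

/-- the generation hypothesis on the Segre charts -/
theorem hgen_chart (k : Fin (n + 1)) (l : Fin (m + 1)) (U : (X₀ n m R).Opens)
    (hU : U = (pa n m R) ⁻¹ᵁ Da n R k ⊓ (pb n m R) ⁻¹ᵁ Db m R l)
    (T : Subring Γ(X₀ n m R, U))
    (hT1 : ∀ y, ((q₀ n m R).appLE ⊤ U le_top).hom y ∈ T)
    (hT2 : ∀ (k' : Fin (n + 1)) (l' : Fin (m + 1)) (ρ : Γ(X₀ n m R, U)),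
      ρ • res (G n m R) (le_top : U ≤ ⊤) (σ n m R k l) =
        res (G n m R) (le_top : U ≤ ⊤) (σ n m R k' l') → ρ ∈ T) : T = ⊤ := by
  have hUa : U ≤ (pa n m R) ⁻¹ᵁ Da n R k := hU ▸ inf_le_left
  have hUb : U ≤ (pb n m R) ⁻¹ᵁ Db m R l := hU ▸ inf_le_right
  apply PBaff.subring_eq_top (CohB1.ProjSpace.toSpec n R) (CohB1.ProjSpace.toSpec m R)
    (Da n R k) (Db m R l)
    (Proj.isAffineOpen_basicOpen _ _ (ProjUP8.htX n R k) one_pos)
    (Proj.isAffineOpen_basicOpen _ _ (ProjUP8.htX m R l) one_pos) U hU T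
  · intro z
    apply mem_of_ratios n R (pa n m R) k U hUa T hT1
    intro k'
    apply hT2 k' l
    exact (res_σ_left n m R k k' l U hUa).symm
  · intro z
    apply mem_of_ratios m R (pb n m R) l U hUb T
    · intro y
      have h := PBaff.appLE_congr_hom (pullback.condition (f := CohB1.ProjSpace.toSpec n R)
        (g := CohB1.ProjSpace.toSpec m R)) ⊤ U le_top
      have := hT1 y
      rw [q₀] at this
      rw [h] at this
      exact this
    · intro l'
      apply hT2 k l'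
      exact (res_σ_right n m R k l l' U hUb).symm

/-- the index bijection -/
def idx : Fin (n * m + n + m + 1) ≃ Fin (n + 1) × Fin (m + 1) :=
  (finCongr (by ring)).trans finProdFinEquiv.symm

/-- **the Segre immersion** over an affine base, with its `O(1)` -/
theorem exists_segre :
    ∃ i : X₀ n m R ⟶ CohB1.ProjSpaceOver (n * m + n + m) (Spec (CommRingCat.of R)),
      IsImmersion i ∧
      i ≫ CohB1.ProjSpaceOver.toBase (n * m + n + m) (Spec (CommRingCat.of R)) = q₀ n m R ∧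
      Nonempty (G n m R ≅ (Scheme.Modules.pullback i).obj
        (Twist.twistOver (n * m + n + m) (Spec (CommRingCat.of R)) 1)) := by
  let s : Fin (n * m + n + m + 1) → Γ(G n m R, ⊤) :=
    fun i => σ n m R (idx n m i).1 (idx n m i).2
  let j : Fin (n + 1) × Fin (m + 1) → Fin (n * m + n + m + 1) := (idx n m).symm
  have hsj : ∀ a : Fin (n + 1) × Fin (m + 1), s (j a) = σ n m R a.1 a.2 := by
    intro a
    change σ n m R (idx n m ((idx n m).symm a)).1 (idx n m ((idx n m).symm a)).2 = _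
    rw [Equiv.apply_symm_apply]
  have hloc : ∀ a : Fin (n + 1) × Fin (m + 1),
      CohB1.genLocus (G n m R) (TwistAmple.homOfSec (G n m R) (s (j a))) =
        (pa n m R) ⁻¹ᵁ Da n R a.1 ⊓ (pb n m R) ⁻¹ᵁ Db m R a.2 := by
    intro a
    rw [hsj, genLocus_σ]
  have hcovX : ∀ x : X₀ n m R, ∃ a, x ∈ CohB1.genLocus (G n m R)
      (TwistAmple.homOfSec (G n m R) (s (j a))) := by
    intro x
    obtain ⟨k, hk⟩ := ProjUP8.hcov n R (pa n m R x)
    obtain ⟨l, hl⟩ := ProjUP8.hcov m R (pb n m R x)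
    refine ⟨(k, l), ?_⟩
    rw [hloc]
    exact ⟨hk, hl⟩
  have hs : ProjUP.GeneratedBy (G n m R) s := by
    apply generatedBy_of_cover
    intro x
    obtain ⟨a, ha⟩ := hcovX x
    exact ⟨j a, ha⟩
  apply VA7.exists_immersion_of_charts (q₀ n m R) (isInvertible_G n m R) (n * m + n + m) s hs j
    (fun _ => ⊤) (fun _ => isAffineOpen_top _)
  · intro a
    rw [hloc]
    exact isAffineOpen_chart _ _ _
      (Proj.isAffineOpen_basicOpen _ _ (ProjUP8.htX n R a.1) one_pos) _
      (Proj.isAffineOpen_basicOpen _ _ (ProjUP8.htX m R a.2) one_pos)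
  · intro a
    exact le_top
  · exact hcovX
  · intro a U hU hUS T hT1 hT2
    apply hgen_chart n m R a.1 a.2 U (hU.trans (hloc a)) T hT1
    intro k' l' ρ hρ
    apply hT2 (j (k', l')) ρ
    rw [hsj, hsj]
    exact hρ

end Main

end Groth.Agent.Helper1.Segre
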