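import Mathlib
import Groth.Agent.Lib.Helper1.Segre
import Groth.Agent.Lib.Helper1.HProj

set_option autoImplicit false
universe u

open CategoryTheory CategoryTheory.Limits AlgebraicGeometry TopologicalSpace Opposite

namespace Groth.Agent.Helper1.Segre

section Closed

variable (n m : ℕ)

/-- the Segre embedding over `Spec ℤ` is a closed immersion -/
theorem exists_segre_closed :
    ∃ i : X₀ n m (ULift.{u} ℤ) ⟶
        CohB1.ProjSpaceOver (n * m + n + m) (Spec (CommRingCat.of (ULift.{u} ℤ))),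
      IsClosedImmersion i ∧
      i ≫ CohB1.ProjSpaceOver.toBase (n * m + n + m) (Spec (CommRingCat.of (ULift.{u} ℤ))) =
        q₀ n m (ULift.{u} ℤ) := by
  obtain ⟨i, hi, hiq, -⟩ := exists_segre n m (ULift.{u} ℤ)
  refine ⟨i, ?_, hiq⟩
  have hn : IsProper (CohB1.ProjSpace.toSpec n (ULift.{u} ℤ)) := VA5.isProper_toSpec n _
  have hm : IsProper (CohB1.ProjSpace.toSpec m (ULift.{u} ℤ)) := VA5.isProper_toSpec m _
  have hq : IsProper (q₀ n m (ULift.{u} ℤ)) := by
    have : IsProper (pa n m (ULift.{u} ℤ)) := by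
      unfold pa; infer_instance
    unfold q₀; infer_instance
  have hbase : IsProper (CohB1.ProjSpaceOver.toBase (n * m + n + m)
      (Spec (CommRingCat.of (ULift.{u} ℤ)))) := by
    have h0 : IsProper (CohB1.ProjSpace.toSpec (n * m + n + m) (ULift.{u} ℤ)) :=
      VA5.isProper_toSpec _ _
    have : IsProper (pullback.snd (CohB1.ProjSpace.toSpec (n * m + n + m) (ULift.{u} ℤ))
      (specULiftZIsTerminal.from (Spec (CommRingCat.of (ULift.{u} ℤ))))) := inferInstance
    exact this
  have hsep : IsSeparated (CohB1.ProjSpaceOver.toBase (n * m + n + m)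
      (Spec (CommRingCat.of (ULift.{u} ℤ)))) := inferInstance
  have hcomp : IsProper (i ≫ CohB1.ProjSpaceOver.toBase (n * m + n + m)
      (Spec (CommRingCat.of (ULift.{u} ℤ)))) := by rw [hiq]; exact hq
  have : IsProper i := IsProper.of_comp i (CohB1.ProjSpaceOver.toBase (n * m + n + m)
    (Spec (CommRingCat.of (ULift.{u} ℤ))))
  exact IsClosedImmersion.of_isPreimmersion i i.isClosedMap.isClosed_range

end Closed

section BaseChange

variable (n m : ℕ) (S : Scheme.{u})


/-- the product of projective spaces over `S` -/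
noncomputable abbrev XS : Scheme.{u} :=
  pullback (CohB1.ProjSpaceOver.toBase n S) (CohB1.ProjSpaceOver.toBase m S)

noncomputable abbrev fstn : CohB1.ProjSpaceOver n S ⟶ CohB1.ProjSpace n (ULift.{u} ℤ) :=
  pullback.fst (CohB1.ProjSpace.toSpec n (ULift.{u} ℤ)) (specULiftZIsTerminal.from S)

/-- the comparison with the product over `ℤ` -/
noncomputable def ψ : XS n m S ⟶ X₀ n m (ULift.{u} ℤ) :=
  pullback.lift
    (pullback.fst (CohB1.ProjSpaceOver.toBase n S) (CohB1.ProjSpaceOver.toBase m S) ≫ fstn n S)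
    (pullback.snd (CohB1.ProjSpaceOver.toBase n S) (CohB1.ProjSpaceOver.toBase m S) ≫ fstn m S)
    (specULiftZIsTerminal.hom_ext _ _)

theorem ψ_fst : ψ n m S ≫ pa n m (ULift.{u} ℤ) =
    pullback.fst (CohB1.ProjSpaceOver.toBase n S) (CohB1.ProjSpaceOver.toBase m S) ≫ fstn n S :=
  pullback.lift_fst _ _ _

theorem ψ_snd : ψ n m S ≫ pb n m (ULift.{u} ℤ) =
    pullback.snd (CohB1.ProjSpaceOver.toBase n S) (CohB1.ProjSpaceOver.toBase m S) ≫ fstn m S :=
  pullback.lift_snd _ _ _

/-- the product over `S` is the base change of the product over `ℤ` -/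
theorem isPullback_ψ :
    IsPullback (ψ n m S)
      (pullback.snd (CohB1.ProjSpaceOver.toBase n S) (CohB1.ProjSpaceOver.toBase m S) ≫
        CohB1.ProjSpaceOver.toBase m S)
      (pb n m (ULift.{u} ℤ) ≫ CohB1.ProjSpace.toSpec m (ULift.{u} ℤ)) (specULiftZIsTerminal.from S) := by
  have hA : IsPullback
      (pullback.fst (CohB1.ProjSpaceOver.toBase n S) (CohB1.ProjSpaceOver.toBase m S))
      (pullback.snd (CohB1.ProjSpaceOver.toBase n S) (CohB1.ProjSpaceOver.toBase m S))
      (CohB1.ProjSpaceOver.toBase n S) (CohB1.ProjSpaceOver.toBase m S) :=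
    IsPullback.of_hasPullback _ _
  have hBn : IsPullback (fstn n S) (CohB1.ProjSpaceOver.toBase n S)
      (CohB1.ProjSpace.toSpec n (ULift.{u} ℤ)) (specULiftZIsTerminal.from S) :=
    IsPullback.of_hasPullback _ _
  have hBm : IsPullback (fstn m S) (CohB1.ProjSpaceOver.toBase m S)
      (CohB1.ProjSpace.toSpec m (ULift.{u} ℤ)) (specULiftZIsTerminal.from S) :=
    IsPullback.of_hasPullback _ _
  have h1 := hA.paste_horiz hBn
  have hX₀ : IsPullback (pa n m (ULift.{u} ℤ)) (pb n m (ULift.{u} ℤ)) (CohB1.ProjSpace.toSpec n (ULift.{u} ℤ))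
      (CohB1.ProjSpace.toSpec m (ULift.{u} ℤ)) := IsPullback.of_hasPullback _ _
  have h2 : IsPullback (ψ n m S)
      (pullback.snd (CohB1.ProjSpaceOver.toBase n S) (CohB1.ProjSpaceOver.toBase m S))
      (pb n m (ULift.{u} ℤ)) (fstn m S) := by
    refine IsPullback.of_right ?_ (ψ_snd n m S) hX₀
    rw [ψ_fst]
    have e : fstn m S ≫ CohB1.ProjSpace.toSpec m (ULift.{u} ℤ) =
        CohB1.ProjSpaceOver.toBase m S ≫ specULiftZIsTerminal.from S :=
      specULiftZIsTerminal.hom_ext _ _
    rw [e]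
    exact h1
  exact h2.paste_vert hBm

/-- **Segre embedding** over an arbitrary base -/
theorem exists_segre_over :
    ∃ φ : XS n m S ⟶ CohB1.ProjSpaceOver (n * m + n + m) S,
      IsClosedImmersion φ ∧ φ ≫ CohB1.ProjSpaceOver.toBase (n * m + n + m) S =
        pullback.fst (CohB1.ProjSpaceOver.toBase n S) (CohB1.ProjSpaceOver.toBase m S) ≫
          CohB1.ProjSpaceOver.toBase n S := by
  obtain ⟨i₀, hi₀, hi₀q⟩ := exists_segre_closed.{u} n m
  have hP := HProj.isPullback_baseMap (n * m + n + m) (specULiftZIsTerminal.from S)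
  let φ : XS n m S ⟶ CohB1.ProjSpaceOver (n * m + n + m) S :=
    hP.lift (ψ n m S ≫ i₀)
      (pullback.fst (CohB1.ProjSpaceOver.toBase n S) (CohB1.ProjSpaceOver.toBase m S) ≫
        CohB1.ProjSpaceOver.toBase n S) (specULiftZIsTerminal.hom_ext _ _)
  have h1 : φ ≫ HProj.baseMap (n * m + n + m) (specULiftZIsTerminal.from S) = ψ n m S ≫ i₀ :=
    hP.lift_fst _ _ _
  have h2 : φ ≫ CohB1.ProjSpaceOver.toBase (n * m + n + m) S =
      pullback.fst (CohB1.ProjSpaceOver.toBase n S) (CohB1.ProjSpaceOver.toBase m S) ≫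
        CohB1.ProjSpaceOver.toBase n S := hP.lift_snd _ _ _
  refine ⟨φ, ?_, h2⟩
  have hsq : IsPullback φ (ψ n m S)
      (HProj.baseMap (n * m + n + m) (specULiftZIsTerminal.from S)) i₀ := by
    refine IsPullback.of_right ?_ h1 hP.flip
    rw [h2, hi₀q]
    have e1 : pullback.fst (CohB1.ProjSpaceOver.toBase n S) (CohB1.ProjSpaceOver.toBase m S) ≫
        CohB1.ProjSpaceOver.toBase n S =
        pullback.snd (CohB1.ProjSpaceOver.toBase n S) (CohB1.ProjSpaceOver.toBase m S) ≫
          CohB1.ProjSpaceOver.toBase m S := pullback.condition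
    have e2 : q₀ n m (ULift.{u} ℤ) = pb n m (ULift.{u} ℤ) ≫ CohB1.ProjSpace.toSpec m (ULift.{u} ℤ) :=
      pullback.condition
    rw [e1, e2]
    exact (isPullback_ψ n m S).flip
  exact MorphismProperty.of_isPullback hsq.flip hi₀

end BaseChange

end Groth.Agent.Helper1.Segre
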