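import Mathlib
import Groth.Agent.Lib.Helper1.ChowC
import Groth.Agent.Lib.Helper1.Segre2
import Groth.Agent.Lib.Helper1.HProj2
import Groth.Agent.Lib.Helper1.AmpleAff
import Groth.Agent.Lib.Helper1.AmpleRestr
import Groth.Agent.Lib.Helper1.AmpleQA

/-!
# Chow's lemma, part D: H-projectivity of products, base pieces (helper1 library)
-/

set_option autoImplicit false
universe u
open CategoryTheory CategoryTheory.Limits AlgebraicGeometry TopologicalSpace Opposite

namespace Groth.Agent.Helper1.Chow

/-- the fibre product of two H-projective `S`-schemes is H-projective (Segre). -/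
theorem isHProjective_prod {QA QB S : Scheme.{u}} (qA : QA ⟶ S) (qB : QB ⟶ S)
    (hA : RelProj.IsHProjective qA) (hB : RelProj.IsHProjective qB) :
    RelProj.IsHProjective (pullback.fst qA qB ≫ qA) := by
  obtain ⟨n, iA, hiA, rfl⟩ := hA
  obtain ⟨m, iB, hiB, rfl⟩ := hB
  obtain ⟨φ, hφ, hφq⟩ := Segre.exists_segre_over n m S
  have hmap := MorphismProperty.pullbackMap (P := @IsClosedImmersion)
    (f := iA ≫ CohB1.ProjSpaceOver.toBase n S) (g := iB ≫ CohB1.ProjSpaceOver.toBase m S)
    (f' := CohB1.ProjSpaceOver.toBase n S) (g' := CohB1.ProjSpaceOver.toBase m S)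
    (i₁ := iA) (i₂ := iB) hiA hiB rfl rfl
  have : IsClosedImmersion φ := hφ
  set μ := pullback.map (iA ≫ CohB1.ProjSpaceOver.toBase n S) (iB ≫ CohB1.ProjSpaceOver.toBase m S)
      (CohB1.ProjSpaceOver.toBase n S) (CohB1.ProjSpaceOver.toBase m S) iA iB (𝟙 S)
      ((Category.comp_id _).trans rfl) ((Category.comp_id _).trans rfl) with hμ
  have hμ1 : μ ≫ pullback.fst _ _ = pullback.fst _ _ ≫ iA := by
    simp only [hμ, pullback.map]; rw [pullback.lift_fst]
  refine ⟨n * m + n + m, μ ≫ φ, ?_, ?_⟩
  · have : IsClosedImmersion μ := hmap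
    infer_instance
  · rw [Category.assoc, hφq, ← Category.assoc, hμ1, Category.assoc]

/-- a morphism locally of finite type between affine schemes is quasi-projective -/
theorem isQuasiProjective_of_isAffine {W V : Scheme.{u}} [IsAffine W] [IsAffine V] (f : W ⟶ V)
    [LocallyOfFiniteType f] : RelProj.IsQuasiProjective f := by
  have hqc : QuasiCompact f := inferInstance
  refine ⟨inferInstance, hqc, Coh.structureModule W, hqc, fun V' => ?_⟩
  have : IsAffine ((f ⁻¹ᵁ V'.1 : W.Opens) : Scheme.{u}) := V'.2.preimage f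
  exact AmpleLib.isAmple_of_isAffine (AmpleLib.isInvertible_restrict _ GenLoc.isInvertible_O)

/-- **the base piece**: an affine open `W` of `X` lying over an affine open `V` of `S` -/
theorem exists_basePiece {X S : Scheme.{u}} (r : X ⟶ S) [LocallyOfFiniteType r]
    (U W : X.Opens) (hUW : U ≤ W) (hW : IsAffineOpen W) (V : S.Opens) (hV : IsAffineOpen V)
    (hWV : W ≤ r ⁻¹ᵁ V) :
    ∃ P : Piece r U W, RelProj.IsHProjective P.q := by
  have hrange : Set.range (W.ι ≫ r) ⊆ Set.range V.ι := by
    rintro _ ⟨x, rfl⟩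
    rw [Scheme.Opens.range_ι]
    exact hWV x.2
  let fW : (W : Scheme.{u}) ⟶ (V : Scheme.{u}) := IsOpenImmersion.lift V.ι (W.ι ≫ r) hrange
  have hfW : fW ≫ V.ι = W.ι ≫ r := IsOpenImmersion.lift_fac _ _ _
  have : IsAffine (W : Scheme.{u}) := hW
  have : IsAffine (V : Scheme.{u}) := hV
  have hlft : LocallyOfFiniteType fW := by
    have : LocallyOfFiniteType (fW ≫ V.ι) := by rw [hfW]; infer_instance
    exact locallyOfFiniteType_of_comp fW V.ι
  obtain ⟨n, i, hi, hiqc, hif⟩ := HProj.isHQuasiProjective_of_isQuasiProjective_of_isAffine fW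
    (isQuasiProjective_of_isAffine fW)
  have hbo : IsOpenImmersion (HProj.baseMap n V.ι) :=
    MorphismProperty.of_isPullback (P := @IsOpenImmersion) (HProj.isPullback_baseMap n V.ι).flip
      inferInstance
  have himm : IsImmersion (i ≫ HProj.baseMap n V.ι) := inferInstance
  have hcomm : W.ι ≫ r = (i ≫ HProj.baseMap n V.ι) ≫ CohB1.ProjSpaceOver.toBase n S := by
    rw [Category.assoc, HProj.baseMap_toBase, ← Category.assoc, hif, hfW]
  have hcl := closedIn_range_lift_fst r (CohB1.ProjSpaceOver.toBase n S) W.ι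
    (i ≫ HProj.baseMap n V.ι) hcomm
  refine ⟨{ Q := CohB1.ProjSpaceOver n S
            q := CohB1.ProjSpaceOver.toBase n S
            sep := inferInstance
            A' := W
            α := W.ι
            g := i ≫ HProj.baseMap n V.ι
            comm := hcomm
            imm := himm
            closed := ?_
            s := X.homOfLE hUW
            hs := X.homOfLE_ι hUW }, ⟨n, 𝟙 _, inferInstance, Category.id_comp _⟩⟩
  refine hcl.mono ?_ ?_
  · rintro _ ⟨x, rfl⟩
    change (pullback.lift W.ι (i ≫ HProj.baseMap n V.ι) hcomm ≫ pullback.fst r _) x ∈ W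
    rw [pullback.lift_fst]
    exact x.2
  · intro z hz
    have hz' : pullback.fst r (CohB1.ProjSpaceOver.toBase n S) z ∈ W := hz
    change pullback.fst r (CohB1.ProjSpaceOver.toBase n S) z ∈ coborder (Set.range W.ι)
    apply subset_coborder
    rw [Scheme.Opens.range_ι]
    exact hz'

end Groth.Agent.Helper1.Chow
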