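import Mathlib
import Groth.Agent.Lib.Helper1.ChowD

/-!
# Chow's lemma, part E: induction over a finite cover and the master theorem (helper1 library)
-/

set_option autoImplicit false
universe u
open CategoryTheory CategoryTheory.Limits AlgebraicGeometry TopologicalSpace Opposite

namespace Groth.Agent.Helper1.Chow

variable {X S : Scheme.{u}} {r : X ⟶ S}

/-- a good piece: H-projective ambient scheme, and the section is scheme-theoretically dominant and
quasi-compact -/
def Piece.Good {U A : X.Opens} (P : Piece r U A) : Prop :=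
  RelProj.IsHProjective P.q ∧ IsSchemeTheoreticallyDominant P.s ∧ QuasiCompact P.s

theorem exists_good_congr {U A B : X.Opens} (h : A = B)
    (hA : ∃ P : Piece r U A, P.Good) : ∃ P : Piece r U B, P.Good := by
  subst h; exact hA

theorem isHProjective_of_iso {Q Q' : Scheme.{u}} (q : Q ⟶ S) (q' : Q' ⟶ S) (e : Q' ≅ Q)
    (he : e.hom ≫ q = q') (h : RelProj.IsHProjective q) : RelProj.IsHProjective q' := by
  obtain ⟨n, i, hi, hiq⟩ := h
  exact ⟨n, e.hom ≫ i, inferInstance, by rw [Category.assoc, hiq, he]⟩

theorem exists_good_union [IsSeparated r] {U A B : X.Opens} [QuasiCompact U.ι]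
    (PA : Piece r U A) (hA : RelProj.IsHProjective PA.q)
    (PB : Piece r U B) (hB : RelProj.IsHProjective PB.q) :
    ∃ P : Piece r U (A ⊔ B), P.Good := by
  obtain ⟨PC, h1, h2, e, he⟩ := PA.union PB
  exact ⟨PC, isHProjective_of_iso _ _ e he (isHProjective_prod PA.q PB.q hA hB), h1, h2⟩

/-- induction over a finite nonempty family of pieces -/
theorem exists_good_sup [IsSeparated r] {U : X.Opens} [QuasiCompact U.ι] {ι : Type*}
    (t : Finset ι) (ht : t.Nonempty) (A : ι → X.Opens)
    (hA : ∀ a ∈ t, ∃ P : Piece r U (A a), RelProj.IsHProjective P.q) :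
    ∃ P : Piece r U (t.sup A), P.Good := by
  induction ht using Finset.Nonempty.cons_induction with
  | singleton a =>
    obtain ⟨P, hP⟩ := hA a (Finset.mem_singleton_self a)
    refine exists_good_congr ?_ (exists_good_union P hP P hP)
    rw [Finset.sup_singleton, sup_idem]
  | cons a s has hs ih =>
    obtain ⟨P, hP⟩ := hA a (Finset.mem_cons_self a s)
    obtain ⟨P', hP', -, -⟩ := ih (fun b hb => hA b (Finset.mem_cons_of_mem hb))
    refine exists_good_congr ?_ (exists_good_union P hP P' hP')
    rw [Finset.sup_cons]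

/-- the conclusion of Chow's lemma for the morphism `r`, with respect to the open `U` -/
def Conclusion (r : X ⟶ S) (U : X.Opens) : Prop :=
  ∃ (n : ℕ) (X' : Scheme.{u}) (π : X' ⟶ X) (j : X' ⟶ CohB1.ProjSpaceOver n S),
    IsImmersion j ∧ j ≫ CohB1.ProjSpaceOver.toBase n S = π ≫ r ∧ IsProper π ∧ Surjective π ∧
    IsIso (π ∣_ U) ∧ Dense ((π ⁻¹ᵁ U : X'.Opens) : Set X') ∧
    (IsReduced X → IsReduced X') ∧ (IrreducibleSpace X → IrreducibleSpace X')

set_option maxHeartbeats 800000 in
/-- **from a good piece over the whole of `X` to the conclusion of Chow's lemma** -/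
theorem conclusion_of_good [IsSeparated r] {U : X.Opens} (hU : Dense (U : Set X))
    (P : Piece r U ⊤) (hP : P.Good) : Conclusion r U := by
  obtain ⟨⟨n, c, hc, hcq⟩, hdom, hqc⟩ := hP
  have himm : IsImmersion P.g := P.imm
  have hsep : IsSeparated P.q := P.sep
  have hqprop : IsProper P.q := by rw [← hcq]; infer_instance
  let k : P.A' ⟶ pullback r P.q := pullback.lift P.α P.g P.comm
  have hk1 : k ≫ pullback.fst r P.q = P.α := pullback.lift_fst _ _ _
  have hk2 : k ≫ pullback.snd r P.q = P.g := pullback.lift_snd _ _ _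
  have hkimm : IsImmersion k := by
    have : IsImmersion (k ≫ pullback.snd r P.q) := by rw [hk2]; exact himm
    exact IsImmersion.of_comp k (pullback.snd r P.q)
  have hkcl : IsClosed (Set.range k) := by
    have h := P.closed.2
    rw [← closure_subset_iff_isClosed]
    intro z hz
    exact h ⟨hz, trivial⟩
  have hkci : IsClosedImmersion k := IsClosedImmersion.of_isPreimmersion k hkcl
  have hπ : IsProper P.α := by rw [← hk1]; infer_instance
  have hsurj : Surjective P.α := by
    rw [surjective_iff, ← Set.range_eq_univ]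
    have hcl : IsClosed (Set.range P.α) := P.α.isClosedMap.isClosed_range
    have hsub : (U : Set X) ⊆ Set.range P.α := by
      intro x hx
      refine ⟨P.s ⟨x, hx⟩, ?_⟩
      have : (P.s ≫ P.α) ⟨x, hx⟩ = U.ι ⟨x, hx⟩ := by rw [P.hs]
      exact this
    exact Set.eq_univ_of_univ_subset (hU.closure_eq ▸ hcl.closure_subset_iff.2 hsub)
  -- the section over `U`
  have hsr : Set.range P.s ⊆ Set.range (P.α ⁻¹ᵁ U).ι := by
    rintro _ ⟨a, rfl⟩
    rw [Scheme.Opens.range_ι]
    change P.α (P.s a) ∈ U
    have : (P.s ≫ P.α) a = U.ι a := by rw [P.hs]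
    have h2 : P.α (P.s a) = U.ι a := this
    rw [h2]; exact a.2
  let s' : (U : Scheme.{u}) ⟶ ((P.α ⁻¹ᵁ U : P.A'.Opens) : Scheme.{u}) :=
    IsOpenImmersion.lift (P.α ⁻¹ᵁ U).ι P.s hsr
  have hs' : s' ≫ (P.α ⁻¹ᵁ U).ι = P.s := IsOpenImmersion.lift_fac _ _ _
  have hpb : IsPullback s' (𝟙 _) (P.α ⁻¹ᵁ U).ι P.s := IsOpenImmersion.isPullback_lift_id P.s _ hsr
  have hs'dom : IsSchemeTheoreticallyDominant s' :=
    IsSchemeTheoreticallyDominant.of_isPullback hpb.flip
  have hsec : s' ≫ (P.α ∣_ U) = 𝟙 _ := by
    rw [← cancel_mono U.ι, Category.assoc, morphismRestrict_ι, ← Category.assoc, hs', P.hs,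
      Category.id_comp]
  have hiso : IsIso (P.α ∣_ U) := (isIso_of_section_of_dominant s' (P.α ∣_ U) hsec).2
  have hdomin : IsDominant P.s := inferInstance
  have hdense : Dense ((P.α ⁻¹ᵁ U : P.A'.Opens) : Set P.A') := by
    have h1 : DenseRange P.s := P.s.denseRange
    refine h1.mono ?_
    rintro _ ⟨a, rfl⟩
    have h0 := hsr ⟨a, rfl⟩
    rw [Scheme.Opens.range_ι] at h0
    exact h0
  refine ⟨n, P.A', P.α, P.g ≫ c, inferInstance, ?_, hπ, hsurj, hiso, hdense, ?_, ?_⟩
  · rw [Category.assoc, hcq, P.comm]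
  · intro hred
    exact IsSchemeTheoreticallyDominant.isReduced P.s
  · intro hirr
    have hUirr : IrreducibleSpace (U : Scheme.{u}) := by
      have hne : Nonempty U := by
        obtain ⟨x, hx⟩ := hU.nonempty
        exact ⟨⟨x, hx⟩⟩
      have : IsIrreducible (U : Set X) :=
        ⟨hU.nonempty, (IrreducibleSpace.isIrreducible_univ X).2.open_subset U.2 (Set.subset_univ _)⟩
      have h3 : PreirreducibleSpace U := (Subtype.preirreducibleSpace this.2)
      exact { toPreirreducibleSpace := h3, toNonempty := hne }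
    have hirrU : IsIrreducible (Set.univ : Set (U : Scheme.{u})) :=
      IrreducibleSpace.isIrreducible_univ _
    have h4 : IsIrreducible (Set.range P.s) := by
      rw [← Set.image_univ]
      exact hirrU.image _ P.s.continuous.continuousOn
    have h5 : IsIrreducible (closure (Set.range P.s)) := h4.closure
    rw [P.s.denseRange.closure_eq] at h5
    exact irreducibleSpace_def _ |>.2 h5

/-- **Chow's lemma from a finite cover by pieces** -/
theorem conclusion_of_cover [IsSeparated r] {U : X.Opens} [QuasiCompact U.ι]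
    (hU : Dense (U : Set X)) {ι : Type*} (t : Finset ι) (ht : t.Nonempty) (A : ι → X.Opens)
    (hcov : t.sup A = ⊤)
    (hA : ∀ a ∈ t, ∃ P : Piece r U (A a), RelProj.IsHProjective P.q) : Conclusion r U := by
  obtain ⟨P, hP⟩ := exists_good_congr hcov (exists_good_sup t ht A hA)
  exact conclusion_of_good hU P hP

end Groth.Agent.Helper1.Chow
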