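import Mathlib
import Groth.Agent.Lib.Helper1.ChowE

/-!
# Chow's lemma, part F: coordinate sections of projective space (helper1 library)
-/

set_option autoImplicit false
universe u
open CategoryTheory CategoryTheory.Limits AlgebraicGeometry TopologicalSpace Opposite
  HomogeneousLocalization

namespace Groth.Agent.Helper1.Chow

section Points

variable (n : ℕ)

/-- the coefficient ring -/
abbrev R0 : Type u := ULift.{u} ℤ

noncomputable abbrev gr : ℕ → Submodule R0.{u} (MvPolynomial (Fin (n + 1)) R0.{u}) :=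
  CohB1.polyGrading n R0

noncomputable abbrev Tv (i : Fin (n + 1)) : MvPolynomial (Fin (n + 1)) R0.{u} := MvPolynomial.X i

theorem Tv_mem (i : Fin (n + 1)) : Tv.{u} n i ∈ gr.{u} n 1 :=
  (MvPolynomial.mem_homogeneousSubmodule 1 _).mpr (MvPolynomial.isHomogeneous_X R0 i)

/-- evaluation at the `i`-th coordinate point -/
noncomputable def evalAway (i : Fin (n + 1)) :
    HomogeneousLocalization.Away (gr.{u} n) (Tv n i) →+* R0.{u} :=
  (IsLocalization.Away.lift (S := Localization.Away (Tv.{u} n i)) (Tv.{u} n i)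
      (g := (MvPolynomial.aeval (Pi.single i (1 : R0.{u}) : Fin (n + 1) → R0)).toRingHom)
      (by simp)).comp
    (algebraMap (HomogeneousLocalization.Away (gr n) (Tv n i)) (Localization.Away (Tv.{u} n i)))

/-- the `i`-th coordinate point of `P^n_ℤ` -/
noncomputable def point (i : Fin (n + 1)) :
    Spec (CommRingCat.of R0.{u}) ⟶ CohB1.ProjSpace n R0.{u} :=
  Spec.map (CommRingCat.ofHom (evalAway n i)) ≫ Proj.awayι (gr n) (Tv n i) (Tv_mem n i) one_pos

theorem point_mem (i : Fin (n + 1)) (z : Spec (CommRingCat.of R0.{u})) :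
    point n i z ∈ Proj.basicOpen (gr.{u} n) (Tv n i) := by
  rw [← Proj.opensRange_awayι (gr n) (Tv n i) (Tv_mem n i) one_pos]
  exact ⟨_, rfl⟩

theorem evalAway_elem {i j : Fin (n + 1)} (hij : i ≠ j) :
    evalAway.{u} n i (Away.isLocalizationElem (Tv_mem n i) (Tv_mem n j)) = 0 := by
  unfold evalAway
  rw [RingHom.comp_apply, HomogeneousLocalization.algebraMap_apply]
  simp only [Away.isLocalizationElem, Away.mk, HomogeneousLocalization.val_mk]
  rw [Localization.mk_eq_mk', IsLocalization.Away.lift, IsLocalization.lift_mk']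
  simp [Pi.single_apply, hij.symm]

theorem point_not_mem {i j : Fin (n + 1)} (hij : i ≠ j) (z : Spec (CommRingCat.of R0.{u})) :
    point n i z ∉ Proj.basicOpen (gr.{u} n) (Tv n j) := by
  intro h
  have h1 : Spec.map (CommRingCat.ofHom (evalAway.{u} n i)) z ∈
      Proj.awayι (gr n) (Tv n i) (Tv_mem n i) one_pos ⁻¹ᵁ Proj.basicOpen (gr.{u} n) (Tv n j) := h
  rw [Proj.awayι_preimage_basicOpen (gr n) (Tv_mem n i) one_pos (Tv_mem n j) one_pos] at h1
  have h2 : Away.isLocalizationElem (Tv_mem n i) (Tv_mem n j) ∉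
      (Spec.map (CommRingCat.ofHom (evalAway.{u} n i)) z).asIdeal := h1
  apply h2
  change evalAway.{u} n i (Away.isLocalizationElem (Tv_mem n i) (Tv_mem n j)) ∈ z.asIdeal
  rw [evalAway_elem n hij]
  exact zero_mem _

end Points

section Sections

variable (n : ℕ) (S : Scheme.{u})

/-- the `i`-th coordinate section of `P^n_S ⟶ S` -/
noncomputable def sec (i : Fin (n + 1)) : S ⟶ CohB1.ProjSpaceOver n S :=
  pullback.lift (specULiftZIsTerminal.from S ≫ point n i) (𝟙 S)
    (specULiftZIsTerminal.hom_ext _ _)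

@[reassoc]
theorem sec_toBase (i : Fin (n + 1)) : sec n S i ≫ CohB1.ProjSpaceOver.toBase n S = 𝟙 S :=
  pullback.lift_snd _ _ _

theorem sec_fst (i : Fin (n + 1)) :
    sec n S i ≫ pullback.fst (CohB1.ProjSpace.toSpec n R0.{u}) (specULiftZIsTerminal.from S) =
      specULiftZIsTerminal.from S ≫ point n i :=
  pullback.lift_fst _ _ _

instance isClosedImmersion_sec (i : Fin (n + 1)) : IsClosedImmersion (sec n S i) := by
  have : IsClosedImmersion (sec n S i ≫ CohB1.ProjSpaceOver.toBase n S) := by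
    rw [sec_toBase]; infer_instance
  exact IsClosedImmersion.of_comp (sec n S i) (CohB1.ProjSpaceOver.toBase n S)

theorem sec_ne {i j : Fin (n + 1)} (hij : i ≠ j) (x y : S) : sec n S i x ≠ sec n S j y := by
  intro h
  have h1 := congrArg (pullback.fst (CohB1.ProjSpace.toSpec n R0.{u})
      (specULiftZIsTerminal.from S)) h
  have h1' : (sec n S i ≫ pullback.fst (CohB1.ProjSpace.toSpec n R0.{u})
      (specULiftZIsTerminal.from S)) x = (sec n S j ≫ pullback.fst
      (CohB1.ProjSpace.toSpec n R0.{u}) (specULiftZIsTerminal.from S)) y := h1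
  rw [sec_fst, sec_fst] at h1'
  have h2 : point n i (specULiftZIsTerminal.from S x) = point n j (specULiftZIsTerminal.from S y) :=
    h1'
  exact point_not_mem n hij _ (h2 ▸ point_mem n j _)

end Sections

section CoverImm

/-- a morphism from a scheme covered by two opens, which is an immersion on each of them with
the two images separated by opens of the target, is an immersion -/
theorem isImmersion_of_two {X₁ X₂ T Y : Scheme.{u}} (i₁ : X₁ ⟶ T) (i₂ : X₂ ⟶ T)
    [IsOpenImmersion i₁] [IsOpenImmersion i₂] (hcov : Set.range i₁ ∪ Set.range i₂ = Set.univ)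
    (G : T ⟶ Y) [IsImmersion (i₁ ≫ G)] [IsImmersion (i₂ ≫ G)] (O₁ O₂ : Y.Opens)
    (h11 : ∀ x, G (i₁ x) ∈ O₁) (h22 : ∀ x, G (i₂ x) ∈ O₂)
    (h12 : ∀ x, G (i₁ x) ∉ O₂) (h21 : ∀ x, G (i₂ x) ∉ O₁) : IsImmersion G := by
  have key : ∀ {X₁ X₂ : Scheme.{u}} (i₁ : X₁ ⟶ T) (i₂ : X₂ ⟶ T) [IsOpenImmersion i₁]
      [IsOpenImmersion i₂] (_ : Set.range i₁ ∪ Set.range i₂ = Set.univ) [IsImmersion (i₁ ≫ G)]
      (O₁ : Y.Opens) (_ : ∀ x, G (i₁ x) ∈ O₁) (_ : ∀ x, G (i₂ x) ∉ O₁),
      IsImmersion (G ∣_ O₁) := by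
    intro X₁ X₂ i₁ i₂ _ _ hcov _ O₁ h11 h21
    have hrange : Set.range i₁ = Set.range (G ⁻¹ᵁ O₁).ι := by
      rw [Scheme.Opens.range_ι]
      apply Set.Subset.antisymm
      · rintro _ ⟨x, rfl⟩
        exact h11 x
      · intro t ht
        have : t ∈ Set.range i₁ ∪ Set.range i₂ := hcov ▸ Set.mem_univ t
        rcases this with h | ⟨x, rfl⟩
        · exact h
        · exact absurd ht (h21 x)
    let e : X₁ ≅ ((G ⁻¹ᵁ O₁ : T.Opens) : Scheme.{u}) :=
      IsOpenImmersion.isoOfRangeEq i₁ (G ⁻¹ᵁ O₁).ι hrange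
    have he : e.hom ≫ (G ⁻¹ᵁ O₁).ι = i₁ := IsOpenImmersion.isoOfRangeEq_hom_fac _ _ _
    have h1 : IsImmersion ((e.hom ≫ (G ∣_ O₁)) ≫ O₁.ι) := by
      rw [Category.assoc, morphismRestrict_ι, ← Category.assoc, he]
      infer_instance
    have h2 : IsImmersion (e.hom ≫ (G ∣_ O₁)) := IsImmersion.of_comp _ O₁.ι
    have h3 : G ∣_ O₁ = e.inv ≫ (e.hom ≫ (G ∣_ O₁)) := by rw [Iso.inv_hom_id_assoc]
    rw [h3]
    infer_instance
  have hR : MorphismProperty.RespectsRight @IsImmersion @IsOpenImmersion :=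
    ⟨fun i hi f hf => by
      have : IsOpenImmersion i := hi
      have : IsImmersion f := hf
      change IsImmersion (f ≫ i)
      infer_instance⟩
  apply IsZariskiLocalAtTarget.of_range_subset_iSup (P := @IsImmersion)
    (fun b : Bool => if b then O₁ else O₂)
  · rintro _ ⟨t, rfl⟩
    have : t ∈ Set.range i₁ ∪ Set.range i₂ := hcov ▸ Set.mem_univ t
    rcases this with ⟨x, rfl⟩ | ⟨x, rfl⟩
    · exact Opens.mem_iSup.2 ⟨true, h11 x⟩
    · exact Opens.mem_iSup.2 ⟨false, h22 x⟩
  · intro b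
    cases b
    · exact key i₂ i₁ (by rw [Set.union_comm]; exact hcov) O₂ h22 h12
    · exact key i₁ i₂ hcov O₁ h11 h21

end CoverImm

end Groth.Agent.Helper1.Chow
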