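import Mathlib
import Groth.Agent.Lib.Helper1.ChowF

/-!
# Chow's lemma, part G: opens embedded in projective space (helper1 library)
-/

set_option autoImplicit false
universe u
open CategoryTheory CategoryTheory.Limits AlgebraicGeometry TopologicalSpace Opposite

namespace Groth.Agent.Helper1.Chow

variable {X S : Scheme.{u}} {r : X ⟶ S}

/-- the open subscheme `A` of `X` admits an immersion into some `P^n_S` over `S` -/
def HasEmb (r : X ⟶ S) (A : X.Opens) : Prop :=
  ∃ (n : ℕ) (g : (A : Scheme.{u}) ⟶ CohB1.ProjSpaceOver n S),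
    IsImmersion g ∧ g ≫ CohB1.ProjSpaceOver.toBase n S = A.ι ≫ r

/-- an affine open lying over an affine open of the base -/
theorem hasEmb_of_affine [LocallyOfFiniteType r] (W : X.Opens) (hW : IsAffineOpen W)
    (V : S.Opens) (hV : IsAffineOpen V) (hWV : W ≤ r ⁻¹ᵁ V) : HasEmb r W := by
  have hrange : Set.range (W.ι ≫ r) ⊆ Set.range V.ι := by
    rintro _ ⟨x, rfl⟩
    rw [Scheme.Opens.range_ι]
    exact hWV x.2
  let fW : (W : Scheme.{u}) ⟶ (V : Scheme.{u}) := IsOpenImmersion.lift V.ι (W.ι ≫ r) hrange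
  have hfW : fW ≫ V.ι = W.ι ≫ r := IsOpenImmersion.lift_fac _ _ _
  have : IsAffine (W : Scheme.{u}) := hW
  have : IsAffine (V : Scheme.{u}) := hV
  have hlft : LocallyOfFiniteType fW := by
    have : LocallyOfFiniteType (fW ≫ V.ι) := by rw [hfW]; infer_instance
    exact locallyOfFiniteType_of_comp fW V.ι
  obtain ⟨n, i, hi, hiqc, hif⟩ := HProj.isHQuasiProjective_of_isQuasiProjective_of_isAffine fW
    (isQuasiProjective_of_isAffine fW)
  have hbo : IsOpenImmersion (HProj.baseMap n V.ι) :=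
    MorphismProperty.of_isPullback (P := @IsOpenImmersion) (HProj.isPullback_baseMap n V.ι).flip
      inferInstance
  refine ⟨n, i ≫ HProj.baseMap n V.ι, inferInstance, ?_⟩
  rw [Category.assoc, HProj.baseMap_toBase, ← Category.assoc, hif, hfW]

/-- from an embedded open to a piece -/
theorem HasEmb.piece {A : X.Opens} (h : HasEmb r A) {U : X.Opens} (hUA : U ≤ A) :
    ∃ P : Piece r U A, RelProj.IsHProjective P.q := by
  obtain ⟨n, g, hg, hgq⟩ := h
  have hcl := closedIn_range_lift_fst r (CohB1.ProjSpaceOver.toBase n S) A.ι g hgq.symm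
  refine ⟨{ Q := CohB1.ProjSpaceOver n S
            q := CohB1.ProjSpaceOver.toBase n S
            sep := inferInstance
            A' := A
            α := A.ι
            g := g
            comm := hgq.symm
            imm := hg
            closed := ?_
            s := X.homOfLE hUA
            hs := X.homOfLE_ι hUA }, ⟨n, 𝟙 _, inferInstance, Category.id_comp _⟩⟩
  refine hcl.mono ?_ ?_
  · rintro _ ⟨x, rfl⟩
    change (pullback.lift A.ι g hgq.symm ≫ pullback.fst r _) x ∈ A
    rw [pullback.lift_fst]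
    exact x.2
  · intro z hz
    have hz' : pullback.fst r (CohB1.ProjSpaceOver.toBase n S) z ∈ A := hz
    change pullback.fst r (CohB1.ProjSpaceOver.toBase n S) z ∈ coborder (Set.range A.ι)
    apply subset_coborder
    rw [Scheme.Opens.range_ι]
    exact hz'

theorem hasEmb_bot : HasEmb r (⊥ : X.Opens) := by
  have hemp : IsEmpty ((⊥ : X.Opens) : Scheme.{u}) := by
    constructor
    rintro ⟨x, hx⟩
    exact hx
  refine ⟨0, (isInitialOfIsEmpty : IsInitial ((⊥ : X.Opens) : Scheme.{u})).to _, ?_, ?_⟩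
  · have : IsOpenImmersion ((isInitialOfIsEmpty : IsInitial ((⊥ : X.Opens) : Scheme.{u})).to
        (CohB1.ProjSpaceOver 0 S)) := inferInstance
    infer_instance
  · exact (isInitialOfIsEmpty : IsInitial ((⊥ : X.Opens) : Scheme.{u})).hom_ext _ _

theorem isHProjective_toBase (n : ℕ) (S : Scheme.{u}) :
    RelProj.IsHProjective (CohB1.ProjSpaceOver.toBase n S) :=
  ⟨n, 𝟙 _, inferInstance, Category.id_comp _⟩

set_option maxHeartbeats 1600000 in
/-- **disjoint unions of embedded opens are embedded** -/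
theorem HasEmb.sup_of_disjoint {A B : X.Opens} (hA : HasEmb r A) (hB : HasEmb r B)
    (hdisj : Disjoint A B) : HasEmb r (A ⊔ B) := by
  obtain ⟨a, gA, hgA, hgAq⟩ := hA
  obtain ⟨b, gB, hgB, hgBq⟩ := hB
  let iA : (A : Scheme.{u}) ⟶ ((A ⊔ B : X.Opens) : Scheme.{u}) := X.homOfLE le_sup_left
  let iB : (B : Scheme.{u}) ⟶ ((A ⊔ B : X.Opens) : Scheme.{u}) := X.homOfLE le_sup_right
  have hiA : iA ≫ (A ⊔ B).ι = A.ι := X.homOfLE_ι _
  have hiB : iB ≫ (A ⊔ B).ι = B.ι := X.homOfLE_ι _
  have hcompl : IsCompl iA.opensRange iB.opensRange := by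
    simp only [iA, iB]
    rw [Scheme.opensRange_homOfLE, Scheme.opensRange_homOfLE]
    constructor
    · rw [disjoint_iff]
      apply Opens.ext
      ext t
      simp only [Opens.coe_inf, Set.mem_inter_iff, Opens.coe_bot,
        Set.mem_empty_iff_false, iff_false, not_and]
      intro h1 h2
      have h3 : (A ⊔ B).ι t ∈ A ⊓ B := ⟨h1, h2⟩
      rw [disjoint_iff.1 hdisj] at h3
      exact h3
    · rw [codisjoint_iff]
      apply Opens.ext
      ext t
      simp only [Opens.coe_sup, Set.mem_union, Opens.coe_top, Set.mem_univ, iff_true]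
      have h3 : (A ⊔ B).ι t ∈ A ⊔ B := t.2
      exact h3
  obtain ⟨hc⟩ := nonempty_isColimit_binaryCofanMk_of_isCompl iA iB hcompl
  have hcov : Set.range iA ∪ Set.range iB = Set.univ := by
    have := hcompl.2
    rw [codisjoint_iff] at this
    exact congrArg (fun O => O.carrier) this
  -- the ambient scheme
  let tb := CohB1.ProjSpaceOver.toBase b S
  let t1 := CohB1.ProjSpaceOver.toBase 1 S
  let ta := CohB1.ProjSpaceOver.toBase a S
  let q2 : pullback tb t1 ⟶ S := pullback.fst tb t1 ≫ tb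
  let qQ : pullback ta q2 ⟶ S := pullback.fst ta q2 ≫ ta
  have hq2 : RelProj.IsHProjective q2 :=
    isHProjective_prod tb t1 (isHProjective_toBase b S) (isHProjective_toBase 1 S)
  obtain ⟨N, c, hc1, hc2⟩ := isHProjective_prod ta q2 (isHProjective_toBase a S) hq2
  have : IsClosedImmersion c := hc1
  let pA : (A : Scheme.{u}) ⟶ S := A.ι ≫ r
  let pB : (B : Scheme.{u}) ⟶ S := B.ι ≫ r
  let h₁' : (A : Scheme.{u}) ⟶ pullback tb t1 :=
    pullback.lift (pA ≫ sec b S 0) (pA ≫ sec 1 S 0)
      (by simp only [Category.assoc, tb, t1, sec_toBase])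
  have h₁'q : h₁' ≫ q2 = pA := by
    simp only [h₁', q2]
    rw [pullback.lift_fst_assoc, Category.assoc, sec_toBase, Category.comp_id]
  let h₁ : (A : Scheme.{u}) ⟶ pullback ta q2 := pullback.lift gA h₁' (by rw [h₁'q]; exact hgAq)
  let h₂' : (B : Scheme.{u}) ⟶ pullback tb t1 :=
    pullback.lift gB (pB ≫ sec 1 S 1)
      (by simp only [Category.assoc, tb, t1, sec_toBase]; rw [Category.comp_id]; exact hgBq)
  have h₂'q : h₂' ≫ q2 = pB := by
    simp only [h₂', q2]
    rw [pullback.lift_fst_assoc]; exact hgBq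
  let h₂ : (B : Scheme.{u}) ⟶ pullback ta q2 := pullback.lift (pB ≫ sec a S 0) h₂'
    (by rw [h₂'q, Category.assoc, sec_toBase, Category.comp_id])
  obtain ⟨G, hG1, hG2⟩ := BinaryCofan.IsColimit.desc' hc h₁ h₂
  have hG1' : iA ≫ G = h₁ := hG1
  have hG2' : iB ≫ G = h₂ := hG2
  have himm1 : IsImmersion (iA ≫ G) := by
    rw [hG1']
    have : IsImmersion (h₁ ≫ pullback.fst ta q2) := by
      simp only [h₁]; rw [pullback.lift_fst]; exact hgA
    exact IsImmersion.of_comp h₁ (pullback.fst ta q2)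
  have himm2 : IsImmersion (iB ≫ G) := by
    rw [hG2']
    have : IsImmersion (h₂ ≫ (pullback.snd ta q2 ≫ pullback.fst tb t1)) := by
      simp only [h₂, h₂']; rw [pullback.lift_snd_assoc, pullback.lift_fst]; exact hgB
    exact IsImmersion.of_comp h₂ (pullback.snd ta q2 ≫ pullback.fst tb t1)
  -- the separating opens
  let pr1 : pullback ta q2 ⟶ CohB1.ProjSpaceOver 1 S := pullback.snd ta q2 ≫ pullback.snd tb t1
  have hpr1 : h₁ ≫ pr1 = pA ≫ sec 1 S 0 := by
    simp only [h₁, h₁', pr1]; rw [pullback.lift_snd_assoc, pullback.lift_snd]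
  have hpr2 : h₂ ≫ pr1 = pB ≫ sec 1 S 1 := by
    simp only [h₂, h₂', pr1]; rw [pullback.lift_snd_assoc, pullback.lift_snd]
  let Z : Fin 2 → (CohB1.ProjSpaceOver 1 S).Opens := fun i =>
    ⟨(Set.range (sec 1 S i))ᶜ, (sec 1 S i).isClosedEmbedding.isClosed_range.isOpen_compl⟩
  have hGA : ∀ x, pr1 (G (iA x)) = sec 1 S 0 (pA x) := by
    intro x
    have : (iA ≫ G ≫ pr1) x = (pA ≫ sec 1 S 0) x := by
      rw [← Category.assoc, hG1', hpr1]
    exact this
  have hGB : ∀ x, pr1 (G (iB x)) = sec 1 S 1 (pB x) := by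
    intro x
    have : (iB ≫ G ≫ pr1) x = (pB ≫ sec 1 S 1) x := by
      rw [← Category.assoc, hG2', hpr2]
    exact this
  have h01 : (0 : Fin 2) ≠ 1 := by decide
  have hGimm : IsImmersion G := by
    refine isImmersion_of_two iA iB hcov G (pr1 ⁻¹ᵁ Z 1) (pr1 ⁻¹ᵁ Z 0) ?_ ?_ ?_ ?_
    · intro x
      change pr1 (G (iA x)) ∈ (Set.range (sec 1 S 1))ᶜ
      rw [hGA]
      rintro ⟨y, hy⟩
      exact sec_ne 1 S h01 _ _ hy.symm
    · intro x
      change pr1 (G (iB x)) ∈ (Set.range (sec 1 S 0))ᶜ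
      rw [hGB]
      rintro ⟨y, hy⟩
      exact sec_ne 1 S h01 _ _ hy
    · intro x hx
      have hx' : pr1 (G (iA x)) ∈ (Set.range (sec 1 S 0))ᶜ := hx
      rw [hGA] at hx'
      exact hx' ⟨_, rfl⟩
    · intro x hx
      have hx' : pr1 (G (iB x)) ∈ (Set.range (sec 1 S 1))ᶜ := hx
      rw [hGB] at hx'
      exact hx' ⟨_, rfl⟩
  have hcimm : IsImmersion c := inferInstance
  have hGc : IsImmersion (G ≫ c) := inferInstance
  refine ⟨N, G ≫ c, hGc, ?_⟩
  rw [Category.assoc, hc2]
  apply BinaryCofan.IsColimit.hom_ext hc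
  · change iA ≫ G ≫ pullback.fst ta q2 ≫ ta = iA ≫ (A ⊔ B).ι ≫ r
    rw [← Category.assoc, hG1', ← Category.assoc iA, hiA]
    simp only [h₁]; rw [pullback.lift_fst_assoc]; exact hgAq
  · change iB ≫ G ≫ pullback.fst ta q2 ≫ ta = iB ≫ (A ⊔ B).ι ≫ r
    rw [← Category.assoc, hG2', ← Category.assoc iB, hiB]
    simp only [h₂]; rw [pullback.lift_fst_assoc, Category.assoc, sec_toBase, Category.comp_id]

theorem HasEmb.finset_sup {ι : Type*} (t : Finset ι) (A : ι → X.Opens)
    (hdisj : (t : Set ι).PairwiseDisjoint A) (h : ∀ a ∈ t, HasEmb r (A a)) :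
    HasEmb r (t.sup A) := by
  induction t using Finset.cons_induction with
  | empty => rw [Finset.sup_empty]; exact hasEmb_bot
  | cons a s has ih =>
    rw [Finset.sup_cons]
    refine HasEmb.sup_of_disjoint (h a (Finset.mem_cons_self a s)) (ih ?_ ?_) ?_
    · intro x hx y hy hxy
      exact hdisj (Finset.mem_cons_of_mem hx) (Finset.mem_cons_of_mem hy) hxy
    · intro b hb
      exact h b (Finset.mem_cons_of_mem hb)
    · rw [Finset.disjoint_sup_right]
      intro b hb
      refine hdisj (Finset.mem_cons_self a s) (Finset.mem_cons_of_mem hb) ?_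
      rintro rfl
      exact has hb

end Groth.Agent.Helper1.Chow
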