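import Mathlib
import Groth.Agent.Lib.Helper1.ChowG

/-!
# Chow's lemma, part H: the general (reducible) case (helper1 library)
-/

set_option autoImplicit false
universe u
open CategoryTheory CategoryTheory.Limits AlgebraicGeometry TopologicalSpace Opposite

namespace Groth.Agent.Helper1.Chow

theorem quasiCompact_ι_of' {X : Scheme.{u}} (U : X.Opens)
    (h : ∀ A : Set X, IsOpen A → IsCompact A → IsCompact ((U : Set X) ∩ A)) :
    QuasiCompact U.ι := by
  constructor
  intro A hA hAc
  rw [U.ι.isOpenEmbedding.isEmbedding.isCompact_iff, Set.image_preimage_eq_inter_range,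
    Scheme.Opens.range_ι, Set.inter_comm]
  exact h A hA hAc

set_option maxHeartbeats 1600000 in
/-- **Chow's lemma**, general form: for `r : X ⟶ S` separated of finite type with `S`
quasi-compact and quasi-separated and `X` having finitely many irreducible components, there is
a dense open `U` of `X` satisfying the conclusion of Chow's lemma. -/
theorem exists_dense_conclusion {X S : Scheme.{u}} (r : X ⟶ S) [IsSeparated r]
    [LocallyOfFiniteType r] [QuasiCompact r] [CompactSpace S] [QuasiSeparatedSpace S]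
    (hirr : (irreducibleComponents X).Finite) :
    ∃ U : X.Opens, Dense (U : Set X) ∧ Conclusion r U := by
  classical
  have hXc : CompactSpace X := QuasiCompact.compactSpace_of_compactSpace r
  have hXqs : QuasiSeparatedSpace X := quasiSeparatedSpace_of_quasiSeparated r
  -- the affine cover
  have hcoverx : ∀ x : X, ∃ W : X.Opens, x ∈ W ∧ IsAffineOpen W ∧
      ∃ V : S.Opens, IsAffineOpen V ∧ W ≤ r ⁻¹ᵁ V := by
    intro x
    obtain ⟨V, hV, hxV, -⟩ := Opens.isBasis_iff_nbhd.mp S.isBasis_affineOpens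
      (show r x ∈ (⊤ : S.Opens) from trivial)
    obtain ⟨W, hW, hxW, hWV⟩ := Opens.isBasis_iff_nbhd.mp X.isBasis_affineOpens
      (show x ∈ r ⁻¹ᵁ V from hxV)
    exact ⟨W, hxW, hW, V, hV, hWV⟩
  choose W hxW hWaff V hVaff hWV using hcoverx
  obtain ⟨t, ht⟩ := isCompact_univ.elim_finite_subcover (fun x => (W x : Set X))
    (fun x => (W x).2) (fun x _ => Set.mem_iUnion.2 ⟨x, hxW x⟩)
  -- the components
  have : Fintype (irreducibleComponents X) := hirr.fintype
  let ι := ↥(irreducibleComponents X)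
  have hCirr : ∀ C : ι, IsIrreducible C.1 := fun C => C.2.1
  have hCcl : ∀ C : ι, IsClosed C.1 := fun C => isClosed_of_mem_irreducibleComponents C.1 C.2
  let η : ι → X := fun C => (hCirr C).genericPoint
  have hη : ∀ C : ι, IsGenericPoint (η C) C.1 := fun C =>
    (hCirr C).isGenericPoint_genericPoint (hCcl C)
  have hηnot : ∀ C C' : ι, C' ≠ C → η C ∉ C'.1 := by
    intro C C' hne hmem
    have h1 : C.1 ⊆ C'.1 := ((hη C).mem_closed_set_iff (hCcl C')).1 hmem
    have h2 : C'.1 ⊆ C.1 := C.2.2 C'.2.1 h1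
    exact hne (Subtype.ext (Set.Subset.antisymm h2 h1))
  have hW' : ∀ C : ι, ∃ W' : X.Opens, IsAffineOpen W' ∧ η C ∈ W' ∧
      (∀ C' : ι, C' ≠ C → ∀ y ∈ W', y ∉ C'.1) ∧
      (∀ x ∈ t, η C ∈ W x → W' ≤ W x) := by
    intro C
    let N : Set X := (⋃ C' ∈ {C' : ι | C' ≠ C}, C'.1)ᶜ ∩ ⋂ x ∈ {x : X | x ∈ t ∧ η C ∈ W x}, (W x : Set X)
    have hNo : IsOpen N := by
      apply IsOpen.inter
      · rw [isOpen_compl_iff]
        exact (Set.toFinite _).isClosed_biUnion (fun C' _ => hCcl C')
      · exact (t.finite_toSet.subset (fun x hx => hx.1)).isOpen_biInter (fun x _ => (W x).2)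
    have hηN : η C ∈ N := by
      refine ⟨?_, ?_⟩
      · simp only [Set.mem_compl_iff, Set.mem_iUnion, not_exists]
        intro C' hC' hmem
        exact hηnot C C' hC' hmem
      · simp only [Set.mem_iInter]
        intro x hx
        exact hx.2
    obtain ⟨W', hW'aff, hηW', hW'N⟩ := Opens.isBasis_iff_nbhd.mp X.isBasis_affineOpens
      (show η C ∈ (⟨N, hNo⟩ : X.Opens) from hηN)
    refine ⟨W', hW'aff, hηW', ?_, ?_⟩
    · intro C' hne y hy hyC'
      have := (hW'N hy).1
      apply this
      simp only [Set.mem_iUnion]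
      exact ⟨C', hne, hyC'⟩
    · intro x hxt hηx y hy
      have := (hW'N hy).2
      simp only [Set.mem_iInter] at this
      exact this x ⟨hxt, hηx⟩
  choose W' hW'aff hηW' hW'not hW'le using hW'
  have hW'sub : ∀ C : ι, ∀ y ∈ W' C, y ∈ C.1 := by
    intro C y hy
    have hy' : y ∈ ⋃₀ irreducibleComponents X := by
      rw [sUnion_irreducibleComponents]; trivial
    obtain ⟨C₀, hC₀, hyC₀⟩ := hy'
    by_cases h : (⟨C₀, hC₀⟩ : ι) = C
    · rw [← h]; exact hyC₀
    · exact absurd hyC₀ (hW'not C ⟨C₀, hC₀⟩ h y hy)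
  have hW'disjW : ∀ C : ι, ∀ x : X, η C ∉ W x → Disjoint (W' C) (W x) := by
    intro C x hηx
    rw [disjoint_iff]
    apply Opens.ext
    ext y
    simp only [Opens.coe_inf, Set.mem_inter_iff, Opens.coe_bot, Set.mem_empty_iff_false, iff_false,
      not_and]
    intro hy hyx
    exact hηx (((hη C).mem_open_set_iff (W x).2).2 ⟨y, hW'sub C y hy, hyx⟩)
  have hW'disj : ∀ C C' : ι, C ≠ C' → Disjoint (W' C) (W' C') := by
    intro C C' hne
    rw [disjoint_iff]
    apply Opens.ext
    ext y
    simp only [Opens.coe_inf, Set.mem_inter_iff, Opens.coe_bot, Set.mem_empty_iff_false, iff_false,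
      not_and]
    intro hy hy'
    exact hW'not C C' hne.symm y hy (hW'sub C' y hy')
  -- every `W' C` lies over an affine open of `S`
  have hW'emb : ∀ C : ι, HasEmb r (W' C) := by
    intro C
    have h1 : η C ∈ ⋃ x ∈ t, (W x : Set X) := ht (Set.mem_univ _)
    simp only [Set.mem_iUnion] at h1
    obtain ⟨x, hxt, hηx⟩ := h1
    exact hasEmb_of_affine (W' C) (hW'aff C) (V x) (hVaff x)
      ((hW'le C x hxt hηx).trans (hWV x))
  -- the dense open
  let U : X.Opens := Finset.univ.sup W'
  have hUemb : HasEmb r U :=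
    HasEmb.finset_sup Finset.univ W' (fun C _ C' _ hne => hW'disj C C' hne) (fun C _ => hW'emb C)
  have hUdense : Dense (U : Set X) := by
    rw [dense_iff_closure_eq, Set.eq_univ_iff_forall]
    intro y
    have hy' : y ∈ ⋃₀ irreducibleComponents X := by
      rw [sUnion_irreducibleComponents]; trivial
    obtain ⟨C₀, hC₀, hyC₀⟩ := hy'
    have h1 : η ⟨C₀, hC₀⟩ ∈ (U : Set X) :=
      (Finset.le_sup (f := W') (Finset.mem_univ (⟨C₀, hC₀⟩ : ι))) (hηW' ⟨C₀, hC₀⟩)
    have h2 : closure {η ⟨C₀, hC₀⟩} ⊆ closure (U : Set X) :=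
      closure_mono (Set.singleton_subset_iff.2 h1)
    have h3 : closure {η ⟨C₀, hC₀⟩} = C₀ := (hη ⟨C₀, hC₀⟩).def
    rw [h3] at h2
    exact h2 hyC₀
  have hUc : IsCompact (U : Set X) := by
    have : (U : Set X) = ⋃ C ∈ (Finset.univ : Finset ι), (W' C : Set X) := by
      simp only [U]
      rw [Opens.coe_finset_sup]
      simp
    rw [this]
    exact Finset.isCompact_biUnion _ (fun C _ => (hW'aff C).isCompact)
  have hUqc : QuasiCompact U.ι :=
    quasiCompact_ι_of' U (fun A hA hAc =>
      QuasiSeparatedSpace.inter_isCompact _ _ U.2 hUc hA hAc)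
  -- the pieces
  let A : X → X.Opens := fun x => W x ⊔ (Finset.univ.filter (fun C : ι => η C ∉ W x)).sup W'
  have hAemb : ∀ x, HasEmb r (A x) := by
    intro x
    refine HasEmb.sup_of_disjoint (hasEmb_of_affine (W x) (hWaff x) (V x) (hVaff x) (hWV x))
      (HasEmb.finset_sup _ W' (fun C _ C' _ hne => hW'disj C C' hne) (fun C _ => hW'emb C)) ?_
    rw [Finset.disjoint_sup_right]
    intro C hC
    exact (hW'disjW C x (Finset.mem_filter.1 hC).2).symm
  have hUA : ∀ x ∈ t, U ≤ A x := by
    intro x hxt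
    apply Finset.sup_le
    intro C _
    by_cases h : η C ∈ W x
    · exact (hW'le C x hxt h).trans le_sup_left
    · exact (Finset.le_sup (f := W') (Finset.mem_filter.2 ⟨Finset.mem_univ C, h⟩)).trans
        le_sup_right
  let T : Finset X.Opens := insert U (t.image A)
  have hT : ∀ O ∈ T, ∃ P : Piece r U O, RelProj.IsHProjective P.q := by
    intro O hO
    rcases Finset.mem_insert.1 hO with rfl | hO
    · exact hUemb.piece le_rfl
    · obtain ⟨x, hxt, rfl⟩ := Finset.mem_image.1 hO
      exact (hAemb x).piece (hUA x hxt)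
  have hcov : T.sup id = ⊤ := by
    rw [eq_top_iff]
    intro y _
    have h1 : y ∈ ⋃ x ∈ t, (W x : Set X) := ht (Set.mem_univ _)
    simp only [Set.mem_iUnion] at h1
    obtain ⟨x, hxt, hyx⟩ := h1
    have h2 : A x ≤ T.sup id :=
      Finset.le_sup (f := id) (Finset.mem_insert_of_mem (Finset.mem_image_of_mem A hxt))
    exact h2 (Or.inl hyx)
  exact ⟨U, hUdense, conclusion_of_cover hUdense T ⟨U, Finset.mem_insert_self _ _⟩ id hcov hT⟩

end Groth.Agent.Helper1.Chow
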