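import Mathlib

set_option autoImplicit false
universe u
namespace Groth.Agent.Helper1.GrAlgG

open DirectSum

section KM
variable {A σ M τ : Type*} [CommRing A] [SetLike σ A] [AddSubgroupClass σ A]
  (𝒜 : ℕ → σ) [GradedRing 𝒜]
  [AddCommGroup M] [Module A M] [SetLike τ M] [AddSubgroupClass τ M]
  (ℳ : ℕ → τ) [DirectSum.Decomposition ℳ] [SetLike.GradedSMul 𝒜 ℳ]

/-- projection onto the `n`-th graded piece, as an additive map `M → M`. -/
noncomputable def pr (n : ℕ) : M →+ M :=
  AddMonoidHom.mk' (fun x => ((DirectSum.decompose ℳ x) n : M)) (by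
    intro a b
    rw [DirectSum.decompose_add, DirectSum.add_apply]; rfl)

theorem pr_apply (n : ℕ) (x : M) : pr ℳ n x = ((DirectSum.decompose ℳ x) n : M) := rfl

theorem pr_of_mem_same {n : ℕ} {x : M} (hx : x ∈ ℳ n) : pr ℳ n x = x :=
  DirectSum.decompose_of_mem_same ℳ hx

theorem pr_of_mem_ne {i n : ℕ} {x : M} (hx : x ∈ ℳ i) (h : i ≠ n) : pr ℳ n x = 0 :=
  DirectSum.decompose_of_mem_ne ℳ hx h

theorem pr_smul (a : A) {y : M} {e : ℕ} (hy : y ∈ ℳ e) (n : ℕ) :
    pr ℳ n (a • y) = if e ≤ n then ((DirectSum.decompose 𝒜 a (n - e) : A)) • y else 0 := by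
  classical
  have ha : a • y = ∑ i ∈ (DirectSum.decompose 𝒜 a).support,
      (DirectSum.decompose 𝒜 a i : A) • y := by
    rw [← Finset.sum_smul, DirectSum.sum_support_decompose]
  have hterm : ∀ i, pr ℳ n ((DirectSum.decompose 𝒜 a i : A) • y) =
      if i + e = n then (DirectSum.decompose 𝒜 a i : A) • y else 0 := by
    intro i
    have hmem : (DirectSum.decompose 𝒜 a i : A) • y ∈ ℳ (i + e) := by
      have := SetLike.GradedSMul.smul_mem (A := 𝒜) (B := ℳ) (DirectSum.decompose 𝒜 a i).2 hy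
      simpa [vadd_eq_add] using this
    split_ifs with h
    · exact pr_of_mem_same ℳ (h ▸ hmem)
    · exact pr_of_mem_ne ℳ hmem h
  rw [ha, map_sum]
  simp_rw [hterm]
  split_ifs with hen
  · rw [Finset.sum_eq_single (n - e)]
    · rw [if_pos (Nat.sub_add_cancel hen)]
    · intro i _ hi
      rw [if_neg]
      omega
    · intro hns
      rw [DFinsupp.notMem_support_iff] at hns
      rw [if_pos (Nat.sub_add_cancel hen), hns]
      simp
  · apply Finset.sum_eq_zero
    intro i _
    rw [if_neg]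
    omega

end KM

end Groth.Agent.Helper1.GrAlgG
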