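import Mathlib
import Groth.Prelude.Def_GrMod3
import Groth.Agent.Lib.Helper1.GrAlgG
import Groth.Agent.Lib.Helper1.ProjTop
import Groth.Agent.Lib.Helper7.CohStalk.Zero

/-!
# Facts on `M~` over `Proj` (helper1 library)
-/

open DirectSum CategoryTheory AlgebraicGeometry TopologicalSpace Opposite

universe u

namespace Groth.Agent.Helper1.GrModLibN

section
variable {A σ : Type u} [CommRing A] [SetLike σ A] [AddSubgroupClass σ A] (𝒜 : ℕ → σ)
  [GradedRing 𝒜] {M τ : Type u} [AddCommGroup M] [Module A M] [SetLike τ M] [AddSubgroupClass τ M]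
  (ℳ : ℕ → τ) [DirectSum.Decomposition ℳ] [SetLike.GradedSMul 𝒜 ℳ]

/-- if `t • m = 0` with `m` homogeneous then every homogeneous component of `t` kills `m` -/
theorem comp_smul_eq_zero {i : ℕ} {m : M} (hm : m ∈ ℳ i) {t : A} (ht : t • m = 0) (j : ℕ) :
    (decompose 𝒜 t j : A) • m = 0 := by
  have h := GrAlgG.pr_smul 𝒜 ℳ t hm (j + i)
  rw [ht, map_zero, if_pos (Nat.le_add_left i j), Nat.add_sub_cancel] at h
  exact h.symm

/-- a homogeneous prime avoiding `f` and containing all homogeneous annihilators of `m`, if no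
power of `f` kills `m` -/
theorem exists_point_of_forall_pow_smul_ne {d : ℕ} (hd : 0 < d) {f : A} (hf : f ∈ 𝒜 d)
    {i : ℕ} {m : M} (hm : m ∈ ℳ i) (hne : ∀ N : ℕ, f ^ N • m ≠ 0) :
    ∃ x : ProjectiveSpectrum 𝒜, x ∈ ProjectiveSpectrum.basicOpen 𝒜 f ∧
      ∀ t : A, t • m = 0 → t ∈ x.asHomogeneousIdeal := by
  classical
  let G : Set A := {t | SetLike.IsHomogeneousElem 𝒜 t ∧ t • m = 0}
  let I : Ideal A := Ideal.span G
  have hIhom : I.IsHomogeneous 𝒜 := Ideal.homogeneous_span 𝒜 G fun t ht => ht.1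
  have hIann : ∀ t ∈ I, t • m = 0 := by
    intro t ht
    refine Submodule.span_induction (p := fun t _ => t • m = 0) ?_ ?_ ?_ ?_ ht
    · intro t ht
      exact ht.2
    · exact zero_smul _ _
    · intro a b _ _ ha hb
      rw [add_smul, ha, hb, add_zero]
    · intro a b _ hb
      rw [smul_eq_mul, mul_smul, hb, smul_zero]
  have hdisj : Disjoint (I : Set A) (Submonoid.powers f) := by
    rw [Set.disjoint_right]
    rintro _ ⟨N, rfl⟩ hmem
    exact hne N (hIann _ hmem)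
  obtain ⟨P, hP, hIP, hPf⟩ := Ideal.exists_le_prime_disjoint I (Submonoid.powers f) hdisj
  have hfP : f ∉ P := fun h => Set.disjoint_right.mp hPf ⟨1, pow_one f⟩ h
  have hcore : (Ideal.homogeneousCore 𝒜 P).toIdeal.IsPrime := hP.homogeneousCore
  have hfcore : f ∉ (Ideal.homogeneousCore 𝒜 P).toIdeal := fun h =>
    hfP (Ideal.toIdeal_homogeneousCore_le 𝒜 P h)
  have hIcore : I ≤ (Ideal.homogeneousCore 𝒜 P).toIdeal := by
    have h1 := Ideal.homogeneousCore_mono 𝒜 hIP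
    have h2 : (Ideal.homogeneousCore 𝒜 I).toIdeal = I :=
      hIhom.toIdeal_homogeneousCore_eq_self
    rw [← h2]
    exact h1
  let x : ProjectiveSpectrum 𝒜 :=
    { asHomogeneousIdeal := Ideal.homogeneousCore 𝒜 P
      isPrime := hcore
      not_irrelevant_le := fun hle =>
        hfcore (hle (HomogeneousIdeal.mem_irrelevant_of_mem 𝒜 hd hf)) }
  refine ⟨x, hfcore, fun t ht => ?_⟩
  have hx : x.asHomogeneousIdeal.toIdeal.IsHomogeneous 𝒜 := x.asHomogeneousIdeal.isHomogeneous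
  rw [← DirectSum.sum_support_decompose 𝒜 t]
  refine Ideal.sum_mem _ fun j _ => ?_
  apply hIcore
  exact Ideal.subset_span ⟨⟨j, SetLike.coe_mem _⟩, comp_smul_eq_zero 𝒜 ℳ hm ht j⟩

theorem S3587 {d : ℕ} (hd : 0 < d) {f : A} (hf : f ∈ 𝒜 d) (k i : ℕ) (m : ℳ i)
    (h : ∀ x : ProjectiveSpectrum.basicOpen 𝒜 f,
      (LocalizedModule.mk m.1 ⟨f ^ k, fun h => (ProjectiveSpectrum.mem_basicOpen 𝒜 f x.1).mp x.2
        (x.1.isPrime.mem_of_pow_mem k h)⟩ : GrMod.LocMod 𝒜 (M := M) x.1) = 0) :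
    ∃ N : ℕ, f ^ N • m.1 = 0 := by
  by_contra hcon
  push Not at hcon
  obtain ⟨x, hxf, hx⟩ := exists_point_of_forall_pow_smul_ne 𝒜 ℳ hd hf m.2 hcon
  have h0 := h ⟨x, hxf⟩
  rw [← LocalizedModule.zero_mk (1 : x.asHomogeneousIdeal.toIdeal.primeCompl),
    LocalizedModule.mk_eq] at h0
  obtain ⟨u, hu⟩ := h0
  rw [smul_zero, smul_zero, one_smul] at hu
  exact u.2 (hx u.1 hu)


theorem subsingleton_locMod (h : ∀ (z : M) (d : ℕ) (f : A), 0 < d → f ∈ 𝒜 d → ∃ k : ℕ, f ^ k • z = 0)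
    (x : ProjectiveSpectrum 𝒜) : Subsingleton (GrMod.LocMod 𝒜 (M := M) x) := by
  obtain ⟨d, hd, g, hg, hgx⟩ := ProjTop.exists_homogeneous_notMem 𝒜 x
  refine ⟨fun a b => ?_⟩
  suffices h0 : ∀ a : GrMod.LocMod 𝒜 (M := M) x, a = 0 by rw [h0 a, h0 b]
  intro a
  induction a using LocalizedModule.induction_on with
  | h z s =>
    obtain ⟨k, hk⟩ := h z d g hd hg
    rw [← LocalizedModule.zero_mk s, LocalizedModule.mk_eq]
    refine ⟨⟨g ^ k, fun hmem => hgx (x.isPrime.mem_of_pow_mem k hmem)⟩, ?_⟩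
    rw [smul_zero, smul_zero]
    show g ^ k • s • z = 0
    rw [smul_comm, hk, smul_zero]


theorem isZero_tilde (h : ∀ (z : M) (d : ℕ) (f : A), 0 < d → f ∈ 𝒜 d → ∃ k : ℕ, f ^ k • z = 0)
    (n : ℤ) : Limits.IsZero (GrMod.tilde 𝒜 ℳ n) := by
  apply Groth.Agent.Helper7.FinType.isZero_of_forall_subsingleton
  intro U
  show Subsingleton (GrMod.sect 𝒜 ℳ n (op U))
  refine ⟨fun a b => ?_⟩
  apply Subtype.ext
  funext x
  apply Subtype.ext
  have := subsingleton_locMod 𝒜 h x.1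
  exact Subsingleton.elim _ _


/-- the section `z / g^i` of `M~` over `D₊(g)`, for `z ∈ ℳ i`, `g ∈ 𝒜 1` -/
noncomputable def fracSect {i : ℕ} {z : M} (hz : z ∈ ℳ i) {g : A} (hg : g ∈ 𝒜 1) :
    GrMod.sect 𝒜 ℳ 0 (op (ProjectiveSpectrum.basicOpen 𝒜 g)) :=
  have hgi : g ^ i ∈ 𝒜 i := by
    have := SetLike.pow_mem_graded i hg
    rwa [smul_eq_mul, mul_one] at this
  have hnin : ∀ y : ProjectiveSpectrum.basicOpen 𝒜 g, g ^ i ∉ y.1.asHomogeneousIdeal := fun y hmem =>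
    y.2 (y.1.isPrime.mem_of_pow_mem i hmem)
  have hmem : ∀ y : ProjectiveSpectrum.basicOpen 𝒜 g,
      (LocalizedModule.mk z ⟨g ^ i, hnin y⟩ : GrMod.LocMod 𝒜 (M := M) y.1) ∈
        GrMod.tildeAt 𝒜 ℳ 0 y.1 := fun y =>
    Submodule.subset_span ⟨i, i, ⟨z, hz⟩, ⟨g ^ i, hgi⟩, hnin y, by simp, rfl⟩
  ⟨fun y => ⟨LocalizedModule.mk z ⟨g ^ i, hnin y⟩, hmem y⟩,
    fun y => ⟨ProjectiveSpectrum.basicOpen 𝒜 g, y.2, 𝟙 _, i, i, ⟨z, hz⟩, ⟨g ^ i, hgi⟩, hnin,
      Or.inl (by simp), fun _ => rfl⟩⟩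

theorem exists_pow_smul_eq_zero_of_isZero
    (hgen : (HomogeneousIdeal.irrelevant 𝒜).toIdeal = Ideal.span (𝒜 1 : Set A))
    (h : Limits.IsZero (GrMod.tilde 𝒜 ℳ 0)) (z : M) (d : ℕ) (f : A) (hd : 0 < d)
    (hf : f ∈ 𝒜 d) : ∃ k : ℕ, f ^ k • z = 0 := by
  classical
  have hhom : ∀ (i : ℕ) (w : M), w ∈ ℳ i → ∃ N : ℕ, f ^ N • w = 0 := by
    intro i w hw
    by_contra hcon
    push Not at hcon
    obtain ⟨x, hxf, hx⟩ := exists_point_of_forall_pow_smul_ne 𝒜 ℳ hd hf hw hcon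
    -- a degree one element outside x
    obtain ⟨g, hg, hgx⟩ : ∃ g ∈ 𝒜 1, g ∉ x.asHomogeneousIdeal := by
      by_contra hno
      push Not at hno
      apply x.not_irrelevant_le
      intro a ha
      have ha' : a ∈ (HomogeneousIdeal.irrelevant 𝒜).toIdeal := ha
      rw [hgen] at ha'
      have : Ideal.span (𝒜 1 : Set A) ≤ x.asHomogeneousIdeal.toIdeal :=
        Ideal.span_le.mpr fun g hg => hno g hg
      exact this ha'
    have hsub := Groth.Agent.Helper7.FinType.subsingleton_sections_of_isZero _ h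
      (ProjectiveSpectrum.basicOpen 𝒜 g)
    have hsub' : Subsingleton (GrMod.sect 𝒜 ℳ 0 (op (ProjectiveSpectrum.basicOpen 𝒜 g))) := hsub
    have h0 : fracSect 𝒜 ℳ hw hg = 0 := Subsingleton.elim _ _
    have h1 := congr((($h0).1 ⟨x, hgx⟩).1)
    have h2 : (LocalizedModule.mk w ⟨g ^ i, fun hmem => hgx (x.isPrime.mem_of_pow_mem i hmem)⟩ :
        GrMod.LocMod 𝒜 (M := M) x) = 0 := h1
    rw [← LocalizedModule.zero_mk (1 : x.asHomogeneousIdeal.toIdeal.primeCompl),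
      LocalizedModule.mk_eq] at h2
    obtain ⟨u, hu⟩ := h2
    rw [smul_zero, smul_zero, one_smul] at hu
    exact u.2 (hx u.1 hu)
  choose N hN using hhom
  obtain ⟨K, hK⟩ : ∃ K : ℕ, ∀ i ∈ (DirectSum.decompose ℳ z).support,
      N i (decompose ℳ z i) (SetLike.coe_mem _) ≤ K :=
    ⟨(DirectSum.decompose ℳ z).support.sup fun i => N i (decompose ℳ z i) (SetLike.coe_mem _),
      fun i hi => Finset.le_sup (f := fun i => N i (decompose ℳ z i) (SetLike.coe_mem _)) hi⟩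
  refine ⟨K, ?_⟩
  rw [← DirectSum.sum_support_decompose ℳ z, Finset.smul_sum]
  refine Finset.sum_eq_zero fun i hi => ?_
  obtain ⟨r, hr⟩ := Nat.exists_eq_add_of_le (hK i hi)
  rw [hr, add_comm, pow_add, mul_smul, hN, smul_zero]


end

end Groth.Agent.Helper1.GrModLibN
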