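import Mathlib
import Groth.Agent.Lib.Helper1.GrModLibN

open DirectSum CategoryTheory AlgebraicGeometry TopologicalSpace Opposite

universe u

namespace Groth.Agent.Helper1.GrModSect

section
variable {A σ : Type u} [CommRing A] [SetLike σ A] [AddSubgroupClass σ A] (𝒜 : ℕ → σ)
  [GradedRing 𝒜] {M τ : Type u} [AddCommGroup M] [Module A M] [SetLike τ M] [AddSubgroupClass τ M]
  (ℳ : ℕ → τ) [DirectSum.Decomposition ℳ] [SetLike.GradedSMul 𝒜 ℳ]

theorem exists_pow_mem_span {d : ℕ} (hd : 0 < d) {f : A} (hf : f ∈ 𝒜 d) {ι : Type*} (g : ι → A)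
    (hg : ∀ a, SetLike.IsHomogeneousElem 𝒜 (g a))
    (hcov : ∀ y : ProjectiveSpectrum 𝒜, f ∉ y.asHomogeneousIdeal →
      ∃ a, g a ∉ y.asHomogeneousIdeal) :
    ∃ K : ℕ, f ^ K ∈ Ideal.span (Set.range g) := by
  classical
  by_contra hcon
  push Not at hcon
  let I : Ideal A := Ideal.span (Set.range g)
  have hIhom : I.IsHomogeneous 𝒜 := Ideal.homogeneous_span 𝒜 _ (by rintro _ ⟨a, rfl⟩; exact hg a)
  have hdisj : Disjoint (I : Set A) (Submonoid.powers f) := by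
    rw [Set.disjoint_right]
    rintro _ ⟨N, rfl⟩ hmem
    exact hcon N hmem
  obtain ⟨P, hP, hIP, hPf⟩ := Ideal.exists_le_prime_disjoint I (Submonoid.powers f) hdisj
  have hfP : f ∉ P := fun h => Set.disjoint_right.mp hPf ⟨1, pow_one f⟩ h
  have hcore : (Ideal.homogeneousCore 𝒜 P).toIdeal.IsPrime := hP.homogeneousCore
  have hfcore : f ∉ (Ideal.homogeneousCore 𝒜 P).toIdeal := fun h =>
    hfP (Ideal.toIdeal_homogeneousCore_le 𝒜 P h)
  have hIcore : I ≤ (Ideal.homogeneousCore 𝒜 P).toIdeal := by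
    have h1 := Ideal.homogeneousCore_mono 𝒜 hIP
    have h2 : (Ideal.homogeneousCore 𝒜 I).toIdeal = I :=
      hIhom.toIdeal_homogeneousCore_eq_self
    rw [← h2]
    exact h1
  let x : ProjectiveSpectrum 𝒜 :=
    { asHomogeneousIdeal := Ideal.homogeneousCore 𝒜 P
      isPrime := hcore
      not_irrelevant_le := fun hle =>
        hfcore (hle (HomogeneousIdeal.mem_irrelevant_of_mem 𝒜 hd hf)) }
  obtain ⟨a, ha⟩ := hcov x hfcore
  exact ha (hIcore (Ideal.subset_span ⟨a, rfl⟩))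

theorem pr_smul_left {e : ℕ} {h : A} (hh : h ∈ 𝒜 e) (I : ℕ) (z : M) :
    GrAlgG.pr ℳ (e + I) (h • z) = h • GrAlgG.pr ℳ I z := by
  classical
  induction z using DirectSum.Decomposition.inductionOn ℳ with
  | zero => simp
  | @homogeneous j z =>
    have hmem : h • (z : M) ∈ ℳ (e + j) := SetLike.GradedSMul.smul_mem hh z.2
    by_cases hj : j = I
    · subst hj
      rw [GrAlgG.pr_of_mem_same ℳ hmem, GrAlgG.pr_of_mem_same ℳ z.2]
    · rw [GrAlgG.pr_of_mem_ne ℳ hmem (by omega), GrAlgG.pr_of_mem_ne ℳ z.2 hj, smul_zero]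
  | add a b ha hb => rw [smul_add, map_add, map_add, smul_add, ha, hb]

/-- local description of a section near a point of `D₊(f)` by a fraction `m / h`
with `D₊(h)` a neighbourhood -/
theorem local_data (n : ℤ) {d : ℕ} (hd : 0 < d) {f : A} (hf : f ∈ 𝒜 d)
    (s : GrMod.sect 𝒜 ℳ n (op (ProjectiveSpectrum.basicOpen 𝒜 f)))
    (x : ProjectiveSpectrum.basicOpen 𝒜 f) :
    ∃ (e : ℕ) (h : A) (i : ℕ) (m : M), 0 < e ∧ h ∈ 𝒜 e ∧ m ∈ ℳ i ∧ (i : ℤ) = e + n ∧
      h ∉ x.1.asHomogeneousIdeal ∧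
      (∀ y : ProjectiveSpectrum 𝒜, h ∉ y.asHomogeneousIdeal → f ∉ y.asHomogeneousIdeal) ∧
      ∀ (y : ProjectiveSpectrum.basicOpen 𝒜 f) (hy : h ∉ y.1.asHomogeneousIdeal),
        ((s.1 y : GrMod.tildeAt 𝒜 ℳ n y.1) : GrMod.LocMod 𝒜 (M := M) y.1) =
          LocalizedModule.mk m ⟨h, hy⟩ := by
  classical
  obtain ⟨V, hxV, ι, i', j', m, t, t_nin, hdeg, hw⟩ := s.2 x
  obtain ⟨_, ⟨r, rfl⟩, hxr, hrV⟩ :=
    (ProjectiveSpectrum.isTopologicalBasis_basic_opens 𝒜).exists_subset_of_mem_open hxV V.isOpen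
  -- a homogeneous component of r not in x
  obtain ⟨c, hc⟩ : ∃ c : ℕ, (decompose 𝒜 r c : A) ∉ x.1.asHomogeneousIdeal := by
    by_contra hcon
    push Not at hcon
    apply hxr
    show r ∈ x.1.asHomogeneousIdeal
    rw [← DirectSum.sum_support_decompose 𝒜 r]
    exact Ideal.sum_mem _ fun i _ => hcon i
  set g : A := (decompose 𝒜 r c : A) with hgdef
  have hg : g ∈ 𝒜 c := SetLike.coe_mem _
  have hgV : ∀ y : ProjectiveSpectrum 𝒜, g ∉ y.asHomogeneousIdeal → y ∈ V := by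
    intro y hy
    apply hrV
    show r ∉ y.asHomogeneousIdeal
    intro hr
    exact hy (y.asHomogeneousIdeal.isHomogeneous c hr)
  set N : ℕ := 1 + n.natAbs with hN
  have hfN : f ^ N ∈ 𝒜 (N * d) := by
    have := SetLike.pow_mem_graded N hf
    simpa [smul_eq_mul] using this
  have hfx : f ∉ x.1.asHomogeneousIdeal := x.2
  set h : A := f ^ N * g * t.1 with hh
  have hhmem : h ∈ 𝒜 (N * d + c + j') :=
    SetLike.mul_mem_graded (SetLike.mul_mem_graded hfN hg) t.2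
  have hhx : h ∉ x.1.asHomogeneousIdeal := by
    intro hmem
    rcases x.1.isPrime.mem_or_mem hmem with h1 | h1
    · rcases x.1.isPrime.mem_or_mem h1 with h2 | h2
      · exact hfx (x.1.isPrime.mem_of_pow_mem N h2)
      · exact hc h2
    · exact t_nin ⟨x.1, hxV⟩ h1
  have hgy : ∀ y : ProjectiveSpectrum 𝒜, h ∉ y.asHomogeneousIdeal → g ∉ y.asHomogeneousIdeal := by
    intro y hy hgy
    apply hy
    rw [hh]
    exact Ideal.mul_mem_right _ _ (Ideal.mul_mem_left _ _ hgy)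
  have key : ∀ (y : ProjectiveSpectrum.basicOpen 𝒜 f) (hy : h ∉ y.1.asHomogeneousIdeal),
      ((s.1 y : GrMod.tildeAt 𝒜 ℳ n y.1) : GrMod.LocMod 𝒜 (M := M) y.1) =
        LocalizedModule.mk ((f ^ N * g) • m.1) ⟨h, hy⟩ := by
    intro y hy
    have hyV : y.1 ∈ V := hgV y.1 (hgy y.1 hy)
    have h1 : ((s.1 y : GrMod.tildeAt 𝒜 ℳ n y.1) : GrMod.LocMod 𝒜 (M := M) y.1) =
        LocalizedModule.mk m.1 ⟨t.1, t_nin ⟨y.1, hyV⟩⟩ := hw ⟨y.1, hyV⟩
    rw [h1, LocalizedModule.mk_eq]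
    refine ⟨1, ?_⟩
    simp only [one_smul]
    show h • m.1 = t.1 • (f ^ N * g) • m.1
    rw [hh, smul_smul]
    congr 1
    ring
  have hfy : ∀ y : ProjectiveSpectrum 𝒜, h ∉ y.asHomogeneousIdeal → f ∉ y.asHomogeneousIdeal := by
    intro y hy hfy
    apply hy
    rw [hh]
    refine Ideal.mul_mem_right _ _ (Ideal.mul_mem_right _ _ ?_)
    exact Ideal.pow_mem_of_mem _ hfy N (by omega)
  have hNd : N ≤ N * d := Nat.le_mul_of_pos_right N hd
  have hepos : 0 < N * d + c + j' := by omega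
  rcases hdeg with hdeg | hm0
  · exact ⟨N * d + c + j', h, N * d + c + i', (f ^ N * g) • m.1, hepos, hhmem,
      SetLike.GradedSMul.smul_mem (SetLike.mul_mem_graded hfN hg) m.2, by push_cast; omega,
      hhx, hfy, key⟩
  · refine ⟨N * d + c + j', h, (((N * d + c + j' : ℕ) : ℤ) + n).toNat, 0, hepos, hhmem,
      zero_mem _, ?_, hhx, hfy, ?_⟩
    · rw [Int.toNat_of_nonneg]
      push_cast
      omega
    · intro y hy
      rw [key y hy, hm0, smul_zero]

theorem main (n : ℤ) {d : ℕ} (hd : 0 < d) {f : A} (hf : f ∈ 𝒜 d)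
    (s : GrMod.sect 𝒜 ℳ n (op (ProjectiveSpectrum.basicOpen 𝒜 f))) :
    ∃ (k i : ℕ) (m : ℳ i), (i : ℤ) = k * d + n ∧
      ∀ x : ProjectiveSpectrum.basicOpen 𝒜 f,
        ((s.1 x : GrMod.tildeAt 𝒜 ℳ n x.1) : GrMod.LocMod 𝒜 (M := M) x.1) =
          (LocalizedModule.mk m.1 ⟨f ^ k, fun h => (ProjectiveSpectrum.mem_basicOpen 𝒜 f x.1).mp x.2
            (x.1.isPrime.mem_of_pow_mem k h)⟩ : GrMod.LocMod 𝒜 (M := M) x.1) := by
  classical
  choose e h i m hepos hhmem hmmem hdeg hhx hhf hloc using local_data 𝒜 ℳ n hd hf s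
  -- finite subcover
  obtain ⟨K₀, hK₀⟩ := exists_pow_mem_span 𝒜 hd hf h (fun a => ⟨e a, hhmem a⟩)
    (fun y hy => ⟨⟨y, hy⟩, hhx ⟨y, hy⟩⟩)
  obtain ⟨c₀, hc₀⟩ := (Finsupp.mem_ideal_span_range_iff_exists_finsupp).1 hK₀
  set T : Finset (ProjectiveSpectrum.basicOpen 𝒜 f) := c₀.support with hT
  have hcovT : ∀ y : ProjectiveSpectrum 𝒜, f ∉ y.asHomogeneousIdeal →
      ∃ a ∈ T, h a ∉ y.asHomogeneousIdeal := by
    intro y hy
    by_contra hcon
    push Not at hcon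
    apply hy
    apply y.isPrime.mem_of_pow_mem K₀
    rw [← hc₀]
    exact Ideal.sum_mem _ fun a ha => Ideal.mul_mem_left _ _ (hcon a ha)
  -- gluing exponents
  have hpair : ∀ a b : ProjectiveSpectrum.basicOpen 𝒜 f,
      ∃ N : ℕ, (h a * h b) ^ N • (h b • m a - h a • m b) = 0 := by
    intro a b
    have hab : h a * h b ∈ 𝒜 (e a + e b) := SetLike.mul_mem_graded (hhmem a) (hhmem b)
    have h1 : h b • m a ∈ ℳ (e b + i a) := SetLike.GradedSMul.smul_mem (hhmem b) (hmmem a)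
    have h2 : h a • m b ∈ ℳ (e b + i a) := by
      have : h a • m b ∈ ℳ (e a + i b) := SetLike.GradedSMul.smul_mem (hhmem a) (hmmem b)
      have e1 : e a + i b = e b + i a := by
        have := hdeg a
        have := hdeg b
        omega
      rwa [e1] at this
    have key := GrModLibN.S3587 𝒜 ℳ (d := e a + e b) (by have := hepos a; omega) hab 1
      (e b + i a) ⟨h b • m a - h a • m b, sub_mem h1 h2⟩ ?_
    · exact key
    · intro x
      have hxa : h a ∉ x.1.asHomogeneousIdeal := fun hmem =>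
        x.2 (Ideal.mul_mem_right _ _ hmem)
      have hxb : h b ∉ x.1.asHomogeneousIdeal := fun hmem =>
        x.2 (Ideal.mul_mem_left _ _ hmem)
      have hxf : f ∉ x.1.asHomogeneousIdeal := hhf a x.1 hxa
      have ea := hloc a ⟨x.1, hxf⟩ hxa
      have eb := hloc b ⟨x.1, hxf⟩ hxb
      rw [ea, LocalizedModule.mk_eq] at eb
      obtain ⟨u, hu⟩ := eb
      rw [← LocalizedModule.zero_mk (1 : x.1.asHomogeneousIdeal.toIdeal.primeCompl),
        LocalizedModule.mk_eq]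
      refine ⟨u, ?_⟩
      rw [smul_zero, smul_zero, one_smul]
      show u • (h b • m a - h a • m b) = 0
      rw [smul_sub]
      exact sub_eq_zero.2 hu
  choose Nab hNab using hpair
  set N : ℕ := T.sup (fun a => T.sup (fun b => Nab a b)) with hNdef
  have hN : ∀ a ∈ T, ∀ b ∈ T, (h a * h b) ^ N • (h b • m a - h a • m b) = 0 := by
    intro a ha b hb
    have hle : Nab a b ≤ N :=
      (Finset.le_sup (f := fun b => Nab a b) hb).trans
        (Finset.le_sup (f := fun a => T.sup (fun b => Nab a b)) ha)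
    obtain ⟨k, hk⟩ := Nat.exists_eq_add_of_le hle
    rw [hk, pow_add, mul_comm, mul_smul, hNab, smul_zero]
  have hcross : ∀ a ∈ T, ∀ b ∈ T,
      h b ^ (N + 1) • h a ^ N • m a = h a ^ (N + 1) • h b ^ N • m b := by
    intro a ha b hb
    have := hN a ha b hb
    rw [smul_sub, sub_eq_zero] at this
    calc h b ^ (N + 1) • h a ^ N • m a = (h a * h b) ^ N • h b • m a := by
          rw [smul_smul, smul_smul]; congr 1; ring
      _ = (h a * h b) ^ N • h a • m b := this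
      _ = h a ^ (N + 1) • h b ^ N • m b := by
          rw [smul_smul, smul_smul]; congr 1; ring
  -- second cover
  obtain ⟨K₁, hK₁⟩ := exists_pow_mem_span 𝒜 hd hf (fun a : T => h a.1 ^ (N + 1))
    (fun a => ⟨(N + 1) • e a.1, SetLike.pow_mem_graded _ (hhmem a.1)⟩)
    (fun y hy => by
      obtain ⟨a, ha, hay⟩ := hcovT y hy
      exact ⟨⟨a, ha⟩, fun hmem => hay (y.isPrime.mem_of_pow_mem _ hmem)⟩)
  obtain ⟨c, hc⟩ := (Ideal.mem_span_range_iff_exists_fun).1 hK₁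
  set K : ℕ := K₁ + n.natAbs with hKdef
  set C : T → A := fun a => f ^ n.natAbs * c a with hCdef
  have hC : ∑ a : T, C a * h a.1 ^ (N + 1) = f ^ K := by
    rw [hKdef, pow_add, ← hc, Finset.sum_mul, Finset.sum_congr rfl]
    intro a _
    rw [hCdef]
    ring
  set I : ℕ := ((K * d : ℕ) + n).toNat with hIdef
  have hKd : K ≤ K * d := Nat.le_mul_of_pos_right K hd
  have hI : (I : ℤ) = K * d + n := by
    rw [hIdef, Int.toNat_of_nonneg]
    · push_cast; rfl
    · push_cast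
      omega
  set z : M := ∑ a : T, C a • h a.1 ^ N • m a.1 with hzdef
  have hfin : ∀ b : T, h b.1 ^ (N + 1) • GrAlgG.pr ℳ I z = f ^ K • h b.1 ^ N • m b.1 := by
    intro b
    have hb1 : h b.1 ^ (N + 1) ∈ 𝒜 ((N + 1) * e b.1) := by
      have := SetLike.pow_mem_graded (N + 1) (hhmem b.1)
      simpa [smul_eq_mul] using this
    rw [← pr_smul_left 𝒜 ℳ hb1 I z]
    have hz : h b.1 ^ (N + 1) • z = f ^ K • h b.1 ^ N • m b.1 := by
      rw [hzdef, Finset.smul_sum, ← hC, Finset.sum_smul]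
      refine Finset.sum_congr rfl fun a _ => ?_
      rw [smul_comm, hcross a.1 a.2 b.1 b.2, smul_smul]
    rw [hz]
    apply GrAlgG.pr_of_mem_same
    have hfK : f ^ K ∈ 𝒜 (K * d) := by
      have := SetLike.pow_mem_graded K hf
      simpa [smul_eq_mul] using this
    have hbN : h b.1 ^ N ∈ 𝒜 (N * e b.1) := by
      have := SetLike.pow_mem_graded N (hhmem b.1)
      simpa [smul_eq_mul] using this
    have hmem : f ^ K • h b.1 ^ N • m b.1 ∈ ℳ (K * d + (N * e b.1 + i b.1)) :=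
      SetLike.GradedSMul.smul_mem hfK (SetLike.GradedSMul.smul_mem hbN (hmmem b.1))
    have e1 : K * d + (N * e b.1 + i b.1) = (N + 1) * e b.1 + I := by
      have := hdeg b.1
      zify
      rw [hI, this]
      ring
    rwa [e1] at hmem
  refine ⟨K, I, ⟨GrAlgG.pr ℳ I z, SetLike.coe_mem _⟩, hI, fun x => ?_⟩
  obtain ⟨b, hbT, hbx⟩ := hcovT x.1 x.2
  rw [hloc b x hbx, LocalizedModule.mk_eq]
  refine ⟨⟨h b ^ N, fun hmem => hbx (x.1.isPrime.mem_of_pow_mem _ hmem)⟩, ?_⟩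
  show h b ^ N • f ^ K • m b = h b ^ N • h b • GrAlgG.pr ℳ I z
  rw [smul_smul (h b ^ N) (h b), ← pow_succ, hfin ⟨b, hbT⟩, smul_comm]

end
end Groth.Agent.Helper1.GrModSect
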