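import Mathlib
import Groth.Agent.Lib.Helper1.RP13
import Groth.Agent.Lib.Helper1.GrModQC

set_option autoImplicit false
universe u

open CategoryTheory CategoryTheory.Limits AlgebraicGeometry TopologicalSpace Opposite
open scoped HomogeneousIdeal

namespace Groth.Agent.Helper1.RP14

open Groth.Agent.Helper1.ProjBC Groth.Agent.Helper1.RP3 Groth.Agent.Helper1.QcCech Groth.Agent.Helper1.RP6

variable {Y P : Scheme.{u}} {𝒮 : RelProj.QCGrAlg Y} {p : P ⟶ Y}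
  {chart : ∀ (U : Y.Opens) (hU : IsAffineOpen U), ((p ⁻¹ᵁ U : P.Opens) : Scheme.{u}) ≅ Proj (𝒮.deg U hU)}
  {n : ℤ} {L : P.Modules}
  {lam : ∀ (U : Y.Opens) (hU : IsAffineOpen U),
    L ⟶ (Scheme.Modules.pushforward (RelProj.emb p chart U hU)).obj (GrTwist.twist (𝒮.deg U hU) n)}

theorem isIso_fromTildeΓ_of_iso {R : CommRingCat.{u}} {M N : (Spec R).Modules} (e : M ≅ N)
    (h : IsIso M.fromTildeΓ) : IsIso N.fromTildeΓ := by
  rw [isIso_fromTildeΓ_iff] at h ⊢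
  exact Functor.essImage.ofIso e h

/-- S8285 -/
theorem isQCoh (hL : RelProj.IsRelTwist 𝒮 p chart n L lam) : Coh.IsQCoh L := by
  let I : Type u := (U : Y.AffineZariskiSite) × (d : ℕ) ×
    {f : 𝒮.presheaf.obj (op U.1) // 0 < d ∧ f ∈ 𝒮.deg U.1 U.2 d}
  refine QCohLib.isQuasicoherent_of_affine_charts L (I := I)
    (fun i => CommRingCat.of (HomogeneousLocalization.Away (𝒮.deg i.1.1 i.1.2) i.2.2.1))
    (fun i => Proj.awayι (𝒮.deg i.1.1 i.1.2) i.2.2.1 i.2.2.2.2 i.2.2.2.1 ≫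
      RelProj.emb p chart i.1.1 i.1.2) ?_ ?_
  · rw [eq_top_iff]
    intro x _
    obtain ⟨V, hV, e, f, he, hf, y, hy, hyx⟩ :=
      RP4.exists_chart_basicOpen (𝒮 := 𝒮) (p := p) (chart := chart) x
    rw [Opens.mem_iSup]
    refine ⟨⟨⟨V, hV⟩, e, f, he, hf⟩, ?_⟩
    have hy' : y ∈ (Proj.awayι (𝒮.deg V hV) f hf he).opensRange := by
      rw [Proj.opensRange_awayι]; exact hy
    obtain ⟨z, hz⟩ := hy'
    refine ⟨z, ?_⟩
    rw [← hyx, ← hz]
    rfl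
  · intro i
    obtain ⟨e⟩ := nonempty_restrict_emb_iso hL i.1.1 i.1.2
    have e2 := (Scheme.Modules.restrictFunctorComp
      (Proj.awayι (𝒮.deg i.1.1 i.1.2) i.2.2.1 i.2.2.2.2 i.2.2.2.1)
      (RelProj.emb p chart i.1.1 i.1.2)).app L ≪≫
      (Scheme.Modules.restrictFunctor
        (Proj.awayι (𝒮.deg i.1.1 i.1.2) i.2.2.1 i.2.2.2.2 i.2.2.2.1)).mapIso e
    exact isIso_fromTildeΓ_of_iso e2.symm
      (GrModQC.isIso_fromTildeΓ_restrict (𝒮.deg i.1.1 i.1.2) (𝒮.deg i.1.1 i.1.2) n i.2.2.1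
        i.2.2.2.2 i.2.2.2.1)

end Groth.Agent.Helper1.RP14
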