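import Mathlib
import Groth.Prelude.Def_RelProj3
import Groth.Agent.Lib.Helper1.ILoc
import Groth.Agent.Lib.Helper1.GrAlgG

set_option autoImplicit false
universe u

open CategoryTheory AlgebraicGeometry TopologicalSpace Opposite
open scoped HomogeneousIdeal

namespace Groth.Agent.Helper1.ILocM

open Groth.Agent.Helper1.ILoc

variable {A σ : Type u} [CommRing A] [SetLike σ A] [AddSubgroupClass σ A] {𝒜 : ℕ → σ} [GradedRing 𝒜]
variable {M τ : Type u} [AddCommGroup M] [Module A M] [SetLike τ M] [AddSubgroupClass τ M] {ℳ : ℕ → τ}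
  [SetLike.GradedSMul 𝒜 ℳ]
variable {B σ' : Type u} [CommRing B] [SetLike σ' B] [AddSubgroupClass σ' B] {ℬ : ℕ → σ'} [GradedRing ℬ]
variable {N τ' : Type u} [AddCommGroup N] [Module B N] [SetLike τ' N] [AddSubgroupClass τ' N] {𝒩 : ℕ → τ'}
  [SetLike.GradedSMul ℬ 𝒩]
variable (ψ : 𝒜 →+*ᵍ ℬ) (hψ : ℬ₊ ≤ (𝒜₊).map ψ) (v : M →ₛₗ[ψ.toRingHom] N)
  (hv : ∀ (i : ℕ) (m : M), m ∈ ℳ i → v m ∈ 𝒩 i)

/-- `v` is the localization of `M` at the degree-zero element `c`, in elementary terms -/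
structure IsAwayLocMod (c : A) : Prop where
  surj : ∀ n : N, ∃ (m : M) (k : ℕ), ψ c ^ k • n = v m
  ker : ∀ m : M, v m = 0 → ∃ k : ℕ, c ^ k • m = 0

variable {ψ v} {c : A}

include hv in
theorem map_decompose [DecidableEq ℕ] [DirectSum.Decomposition ℳ] [DirectSum.Decomposition 𝒩] (m : M) (i : ℕ) :
    v (DirectSum.decompose ℳ m i : M) = (DirectSum.decompose 𝒩 (v m) i : N) := by
  classical
  induction m using DirectSum.Decomposition.inductionOn ℳ with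
  | zero => simp
  | @homogeneous j m =>
    by_cases h : j = i
    · subst h
      rw [DirectSum.decompose_of_mem_same ℳ m.2, DirectSum.decompose_of_mem_same 𝒩 (hv _ _ m.2)]
    · rw [DirectSum.decompose_of_mem_ne ℳ m.2 h, DirectSum.decompose_of_mem_ne 𝒩 (hv _ _ m.2) h, map_zero]
  | add m m' h h' =>
    simp only [DirectSum.decompose_add, DirectSum.add_apply, AddMemClass.coe_add, map_add, h, h']

include hv in
/-- homogeneous lifting for the module -/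
theorem IsAwayLocMod.lift [DirectSum.Decomposition ℳ] [DirectSum.Decomposition 𝒩]
    (h : IsAwayLoc ψ c) (hM : IsAwayLocMod ψ v c) {i : ℕ} {b : N} (hb : b ∈ 𝒩 i) :
    ∃ (a : M) (k : ℕ), a ∈ ℳ i ∧ ψ c ^ k • b = v a := by
  classical
  obtain ⟨a₀, k, hk⟩ := hM.surj b
  refine ⟨(DirectSum.decompose ℳ a₀ i : M), k, SetLike.coe_mem _, ?_⟩
  have hmem : ψ c ^ k • b ∈ 𝒩 i := by
    have h0 : ψ c ^ k ∈ ℬ 0 := by
      rw [← map_pow]; exact ψ.map_mem (h.pow_mem k)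
    have := SetLike.GradedSMul.smul_mem (A := ℬ) (B := 𝒩) h0 hb
    simpa only [zero_vadd, vadd_eq_add, zero_add] using this
  rw [map_decompose hv, ← hk, DirectSum.decompose_of_mem_same _ hmem]

omit [AddSubgroupClass τ M] [SetLike.GradedSMul 𝒜 ℳ] in
theorem mk_eq_zero_iff (x : ProjectiveSpectrum 𝒜) (m : M)
    (s : x.asHomogeneousIdeal.toIdeal.primeCompl) :
    (LocalizedModule.mk m s : GrMod.LocMod 𝒜 (M := M) x) = 0 ↔
      ∃ u : x.asHomogeneousIdeal.toIdeal.primeCompl, u • m = 0 := by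
  rw [← LocalizedModule.zero_mk (1 : x.asHomogeneousIdeal.toIdeal.primeCompl),
    LocalizedModule.mk_eq]
  constructor
  · rintro ⟨u, hu⟩
    rw [smul_zero, smul_zero, one_smul] at hu
    exact ⟨u, hu⟩
  · rintro ⟨u, hu⟩
    refine ⟨u, ?_⟩
    rw [smul_zero, smul_zero, one_smul]
    exact hu

theorem IsAwayLocMod.locModMap_injective (h : IsAwayLoc ψ c) (hM : IsAwayLocMod ψ v c)
    (y : ProjectiveSpectrum ℬ) : Function.Injective (GrMod.locModMap ψ hψ v y) := by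
  rw [injective_iff_map_eq_zero]
  intro q hq
  induction q using LocalizedModule.induction_on with
  | h m s =>
    rw [GrMod.locModMap_mk, mk_eq_zero_iff] at hq
    obtain ⟨⟨t, ht⟩, hta⟩ := hq
    change t • v m = 0 at hta
    obtain ⟨t₀, k, hk⟩ := h.surj t
    have h1 : v (t₀ • m) = 0 := by
      rw [LinearMap.map_smulₛₗ]
      change ψ t₀ • v m = 0
      rw [← hk, mul_comm, mul_smul, hta, smul_zero]
    obtain ⟨l, hl⟩ := hM.ker _ h1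
    rw [mk_eq_zero_iff]
    refine ⟨⟨c ^ l * t₀, ?_⟩, by change (c ^ l * t₀) • m = 0; rw [mul_smul]; exact hl⟩
    intro hmem
    change ψ (c ^ l * t₀) ∈ y.asHomogeneousIdeal at hmem
    rw [map_mul, map_pow, ← hk] at hmem
    rcases y.isPrime.mem_or_mem hmem with h2 | h2
    · exact h.notMem y l h2
    · rcases y.isPrime.mem_or_mem h2 with h3 | h3
      · exact ht h3
      · exact h.notMem y k h3

include hv in
/-- lifting a fraction -/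
theorem IsAwayLocMod.lift_frac [DirectSum.Decomposition ℳ] [DirectSum.Decomposition 𝒩]
    (h : IsAwayLoc ψ c) (hM : IsAwayLocMod ψ v c) (n : ℤ) {i j : ℕ} (a' : 𝒩 i) (s' : ℬ j)
    (hij : (i : ℤ) = j + n ∨ (a' : N) = 0) :
    ∃ (a : ℳ i) (s : 𝒜 j), ((i : ℤ) = j + n ∨ (a : M) = 0) ∧
      ∀ (y : ProjectiveSpectrum ℬ) (hs' : (s' : B) ∉ y.asHomogeneousIdeal),
        ∃ hs : (s : A) ∉ (ProjectiveSpectrum.comap ψ hψ y).asHomogeneousIdeal,
          GrMod.locModMap ψ hψ v y (LocalizedModule.mk (a : M) ⟨(s : A), hs⟩) =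
            LocalizedModule.mk (a' : N) ⟨(s' : B), hs'⟩ := by
  obtain ⟨a₀, k, ha₀, hk⟩ := hM.lift hv h a'.2
  obtain ⟨s₀, l, hs₀, hl⟩ := h.lift s'.2
  have hcl : c ^ l ∈ 𝒜 0 := h.pow_mem l
  have hck : c ^ k ∈ 𝒜 0 := h.pow_mem k
  have ha : c ^ l • a₀ ∈ ℳ i := by
    have := SetLike.GradedSMul.smul_mem (A := 𝒜) (B := ℳ) hcl ha₀
    simpa only [zero_vadd, vadd_eq_add, zero_add] using this
  have hs : s₀ * c ^ k ∈ 𝒜 j := by
    simpa only [add_zero] using SetLike.mul_mem_graded (A := 𝒜) hs₀ hck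
  have hsy : ∀ (y : ProjectiveSpectrum ℬ) (hs' : (s' : B) ∉ y.asHomogeneousIdeal),
      ψ (s₀ * c ^ k) ∉ y.asHomogeneousIdeal := by
    intro y hs'
    rw [map_mul, ← hl, map_pow]
    intro hmem
    rcases y.isPrime.mem_or_mem hmem with h2 | h2
    · rcases y.isPrime.mem_or_mem h2 with h3 | h3
      · exact hs' h3
      · exact h.notMem y l h3
    · exact h.notMem y k h2
  rcases hij with hij | hzero
  · refine ⟨⟨_, ha⟩, ⟨_, hs⟩, Or.inl hij, fun y hs' => ⟨hsy y hs', ?_⟩⟩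
    rw [GrMod.locModMap_mk, LocalizedModule.mk_eq]
    refine ⟨1, ?_⟩
    simp only [one_smul, Submonoid.smul_def, LinearMap.map_smulₛₗ]
    change (s' : B) • (ψ (c ^ l)) • v a₀ = ψ (s₀ * c ^ k) • (a' : N)
    rw [← hk, map_mul, ← hl, map_pow, map_pow, mul_smul, mul_smul]
  · refine ⟨⟨0, zero_mem _⟩, ⟨_, hs⟩, Or.inr rfl, fun y hs' => ⟨hsy y hs', ?_⟩⟩
    rw [GrMod.locModMap_mk, hzero]
    simp only [map_zero, LocalizedModule.zero_mk]

theorem IsAwayLocMod.comapApp_injective (h : IsAwayLoc ψ c) (hM : IsAwayLocMod ψ v c) (n : ℤ)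
    (U : Opens (ProjectiveSpectrum.top 𝒜)) (V : Opens (ProjectiveSpectrum.top ℬ))
    (hUV : V.1 ⊆ ProjectiveSpectrum.comap ψ hψ ⁻¹' U.1)
    (hVU : ∀ x ∈ U, ∃ y ∈ V, ProjectiveSpectrum.comap ψ hψ y = x) :
    Function.Injective (GrMod.comapApp ψ hψ v hv n U V hUV) := by
  intro s t hst
  apply Subtype.ext
  funext x
  apply Subtype.ext
  obtain ⟨y, hyV, hyx⟩ := hVU x.1 x.2
  obtain rfl : x = ⟨ProjectiveSpectrum.comap ψ hψ y, hUV hyV⟩ := Subtype.ext hyx.symm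
  apply hM.locModMap_injective hψ h y
  have := congrArg (fun u : GrMod.sect ℬ 𝒩 n (op V) =>
    ((u.1 ⟨y, hyV⟩ : GrMod.tildeAt ℬ 𝒩 n y) : GrMod.LocMod ℬ (M := N) y)) hst
  exact this

theorem mk_mem_tildeAt (n : ℤ) (x : ProjectiveSpectrum 𝒜) {i j : ℕ} (a : ℳ i) (s : 𝒜 j)
    (hs : (s : A) ∉ x.asHomogeneousIdeal) (hij : (i : ℤ) = j + n ∨ (a : M) = 0) :
    (LocalizedModule.mk (a : M) ⟨(s : A), hs⟩ : GrMod.LocMod 𝒜 (M := M) x) ∈ GrMod.tildeAt 𝒜 ℳ n x := by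
  rcases hij with hij | h0
  · exact Submodule.subset_span ⟨i, j, a, s, hs, hij, rfl⟩
  · rw [h0, LocalizedModule.zero_mk]
    exact zero_mem _

/-- pointwise fraction representation -/
theorem sec_val_eq {n : ℤ} {V : Opens (ProjectiveSpectrum.top 𝒜)} (t : GrMod.sect 𝒜 ℳ n (op V)) (y : V) :
    ∃ (i j : ℕ) (a : ℳ i) (s : 𝒜 j) (hs : (s : A) ∉ y.1.asHomogeneousIdeal),
      ((i : ℤ) = j + n ∨ (a : M) = 0) ∧
      ((t.1 y : GrMod.tildeAt 𝒜 ℳ n y.1) : GrMod.LocMod 𝒜 (M := M) y.1) =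
        LocalizedModule.mk (a : M) ⟨(s : A), hs⟩ := by
  obtain ⟨W, hyW, iW, i, j, a, s, hs, hij, hval⟩ := t.2 y
  exact ⟨i, j, a, s, hs ⟨y.1, hyW⟩, hij, hval ⟨y.1, hyW⟩⟩

theorem IsAwayLocMod.comapApp_surjective [DirectSum.Decomposition ℳ] [DirectSum.Decomposition 𝒩]
    (h : IsAwayLoc ψ c) (hM : IsAwayLocMod ψ v c) (n : ℤ)
    (hinj : Function.Injective (ProjectiveSpectrum.comap ψ hψ))
    (hopen : IsOpenMap (ProjectiveSpectrum.comap ψ hψ))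
    (U : Opens (ProjectiveSpectrum.top 𝒜)) (V : Opens (ProjectiveSpectrum.top ℬ))
    (hUV : V.1 ⊆ ProjectiveSpectrum.comap ψ hψ ⁻¹' U.1)
    (hVU : ∀ x ∈ U, ∃ y ∈ V, ProjectiveSpectrum.comap ψ hψ y = x) :
    Function.Surjective (GrMod.comapApp ψ hψ v hv n U V hUV) := by
  intro t'
  have hpt : ∀ x : U, ∃ (i j : ℕ) (a : ℳ i) (s : 𝒜 j) (hs : (s : A) ∉ x.1.asHomogeneousIdeal),
      ((i : ℤ) = j + n ∨ (a : M) = 0) ∧
      ∀ (y : V) (_ : ProjectiveSpectrum.comap ψ hψ y.1 = x.1),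
        ∃ hs₂ : (s : A) ∉ (ProjectiveSpectrum.comap ψ hψ y.1).asHomogeneousIdeal,
          GrMod.locModMap ψ hψ v y.1 (LocalizedModule.mk (a : M) ⟨(s : A), hs₂⟩) =
            ((t'.1 y : GrMod.tildeAt ℬ 𝒩 n y.1) : GrMod.LocMod ℬ (M := N) y.1) := by
    rintro ⟨x, hx⟩
    obtain ⟨y, hyV, rfl⟩ := hVU x hx
    obtain ⟨i, j, a', s', hs', hij, hval⟩ := sec_val_eq t' ⟨y, hyV⟩
    obtain ⟨a, s, hij', spec⟩ := hM.lift_frac hψ hv h n a' s' hij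
    obtain ⟨hs, e⟩ := spec y hs'
    refine ⟨i, j, a, s, hs, hij', ?_⟩
    rintro ⟨y₂, hy₂V⟩ hy₂
    obtain rfl : y₂ = y := hinj hy₂
    exact ⟨hs, e.trans hval.symm⟩
  choose i j a s hs hij spec using hpt
  have hlf : (GrMod.isLocFrac 𝒜 ℳ n).pred (fun x : U =>
      (⟨LocalizedModule.mk (a x : M) ⟨(s x : A), hs x⟩, mk_mem_tildeAt n x.1 (a x) (s x) (hs x) (hij x)⟩ :
        GrMod.tildeAt 𝒜 ℳ n x.1)) := by
    rintro ⟨x₀, hx₀⟩
    obtain ⟨y₀, hy₀V, rfl⟩ := hVU x₀ hx₀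
    obtain ⟨N', hy₀N', iN', i', j', a', s', hs', hij', hval⟩ := t'.2 ⟨y₀, hy₀V⟩
    obtain ⟨a₁, s₁, hij₁, spec₁⟩ := hM.lift_frac hψ hv h n a' s' hij'
    let N₀ : Opens (ProjectiveSpectrum.top 𝒜) :=
      ⟨ProjectiveSpectrum.comap ψ hψ '' N'.1, hopen _ N'.2⟩ ⊓ U
    have hs₁ : ∀ x : N₀, (s₁ : A) ∉ x.1.asHomogeneousIdeal := by
      rintro ⟨x, ⟨z, hz, rfl⟩, hxU⟩
      exact (spec₁ z (hs' ⟨z, hz⟩)).1
    refine ⟨N₀, ⟨⟨y₀, hy₀N', rfl⟩, hx₀⟩, homOfLE inf_le_right, i', j', a₁, s₁, hs₁, hij₁, ?_⟩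
    rintro ⟨x, ⟨z, hz, rfl⟩, hxU⟩
    apply hM.locModMap_injective hψ h z
    obtain ⟨hs₂, e₂⟩ := spec ⟨_, hxU⟩ ⟨z, iN'.le hz⟩ rfl
    obtain ⟨hs₃, e₃⟩ := spec₁ z (hs' ⟨z, hz⟩)
    exact e₂.trans ((hval ⟨z, hz⟩).trans e₃.symm)
  refine ⟨(⟨fun x : U =>
      (⟨LocalizedModule.mk (a x : M) ⟨(s x : A), hs x⟩, mk_mem_tildeAt n x.1 (a x) (s x) (hs x) (hij x)⟩ :
        GrMod.tildeAt 𝒜 ℳ n x.1), hlf⟩ : GrMod.sect 𝒜 ℳ n (op U)), ?_⟩
  apply Subtype.ext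
  funext y
  apply Subtype.ext
  obtain ⟨hs₂, e₂⟩ := spec ⟨_, hUV y.2⟩ y rfl
  exact e₂

theorem IsAwayLocMod.comapApp_bijective [DirectSum.Decomposition ℳ] [DirectSum.Decomposition 𝒩]
    (h : IsAwayLoc ψ c) (hM : IsAwayLocMod ψ v c) (n : ℤ)
    (hinj : Function.Injective (ProjectiveSpectrum.comap ψ hψ))
    (hopen : IsOpenMap (ProjectiveSpectrum.comap ψ hψ))
    (U : Opens (ProjectiveSpectrum.top 𝒜)) (V : Opens (ProjectiveSpectrum.top ℬ))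
    (hUV : V.1 ⊆ ProjectiveSpectrum.comap ψ hψ ⁻¹' U.1)
    (hVU : ∀ x ∈ U, ∃ y ∈ V, ProjectiveSpectrum.comap ψ hψ y = x) :
    Function.Bijective (GrMod.comapApp ψ hψ v hv n U V hUV) :=
  ⟨hM.comapApp_injective hψ hv h n U V hUV hVU,
    hM.comapApp_surjective hψ hv h n hinj hopen U V hUV hVU⟩

end Groth.Agent.Helper1.ILocM
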