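import Mathlib
import Groth.Agent.Lib.Helper1.RT9
import Groth.Agent.Lib.Helper1.RP14

set_option autoImplicit false
universe u

open CategoryTheory CategoryTheory.Limits AlgebraicGeometry TopologicalSpace Opposite
open scoped HomogeneousIdeal

namespace Groth.Agent.Helper1.RT10

open Groth.Agent.Helper1.ProjBC Groth.Agent.Helper1.RP3 Groth.Agent.Helper1.QcCech Groth.Agent.Helper1.RT6

variable {Y P : Scheme.{u}} {𝒮 : RelProj.QCGrAlg Y} {p : P ⟶ Y}
  {chart : ∀ (U : Y.Opens) (hU : IsAffineOpen U), ((p ⁻¹ᵁ U : P.Opens) : Scheme.{u}) ≅ Proj (𝒮.deg U hU)}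
  {ℳ : RelProj.GrModule 𝒮} {n : ℤ} {F : P.Modules}
  {lam : ∀ (U : Y.Opens) (hU : IsAffineOpen U),
    F ⟶ (Scheme.Modules.pushforward (RelProj.emb p chart U hU)).obj
      (GrMod.tilde (𝒮.deg U hU) (ℳ.deg U hU) n)}

/-- the adjunct of `lam U` -/
noncomputable def adj (lam : ∀ (U : Y.Opens) (hU : IsAffineOpen U),
      F ⟶ (Scheme.Modules.pushforward (RelProj.emb p chart U hU)).obj
        (GrMod.tilde (𝒮.deg U hU) (ℳ.deg U hU) n))
    (U : Y.Opens) (hU : IsAffineOpen U) :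
    F.restrict (RelProj.emb p chart U hU) ⟶ GrMod.tilde (𝒮.deg U hU) (ℳ.deg U hU) n :=
  (Scheme.Modules.restrictFunctor (RelProj.emb p chart U hU)).map (lam U hU) ≫
    (Scheme.Modules.restrictAdjunction (RelProj.emb p chart U hU)).counit.app _

theorem isIso_adj (hF : RelProj.IsRelTilde 𝒮 p chart ℳ n F lam) (U : Y.Opens) (hU : IsAffineOpen U) :
    IsIso (adj lam U hU) := by
  rw [Scheme.Modules.Hom.isIso_iff_isIso_app]
  intro V
  rw [ConcreteCategory.isIso_iff_bijective]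
  have hle : RelProj.emb p chart U hU ''ᵁ V ≤ p ⁻¹ᵁ U := by
    rw [← opensRange_emb (p := p) (chart := chart) U hU]
    exact (RelProj.emb p chart U hU).image_le_opensRange V
  have h1 := hF.bijective U hU _ hle
  have h2 : Function.Bijective ((GrMod.tilde (𝒮.deg U hU) (ℳ.deg U hU) n).presheaf.map
      (eqToHom ((RelProj.emb p chart U hU).preimage_image_eq V).symm).op) := by
    rw [← ConcreteCategory.isIso_iff_bijective]
    infer_instance
  exact h2.comp h1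

/-- chartwise identification -/
theorem nonempty_restrict_emb_iso (hF : RelProj.IsRelTilde 𝒮 p chart ℳ n F lam)
    (U : Y.Opens) (hU : IsAffineOpen U) :
    Nonempty (F.restrict (RelProj.emb p chart U hU) ≅ GrMod.tilde (𝒮.deg U hU) (ℳ.deg U hU) n) :=
  have := isIso_adj hF U hU
  ⟨asIso (adj lam U hU)⟩

/-- S8322 -/
theorem isQCoh (hF : RelProj.IsRelTilde 𝒮 p chart ℳ n F lam) : Coh.IsQCoh F := by
  let I : Type u := (U : Y.AffineZariskiSite) × (d : ℕ) ×
    {f : 𝒮.presheaf.obj (op U.1) // 0 < d ∧ f ∈ 𝒮.deg U.1 U.2 d}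
  refine QCohLib.isQuasicoherent_of_affine_charts F (I := I)
    (fun i => CommRingCat.of (HomogeneousLocalization.Away (𝒮.deg i.1.1 i.1.2) i.2.2.1))
    (fun i => Proj.awayι (𝒮.deg i.1.1 i.1.2) i.2.2.1 i.2.2.2.2 i.2.2.2.1 ≫
      RelProj.emb p chart i.1.1 i.1.2) ?_ ?_
  · rw [eq_top_iff]
    intro x _
    obtain ⟨V, hV, e, f, he, hf, y, hy, hyx⟩ :=
      RP4.exists_chart_basicOpen (𝒮 := 𝒮) (p := p) (chart := chart) x
    rw [Opens.mem_iSup]
    refine ⟨⟨⟨V, hV⟩, e, f, he, hf⟩, ?_⟩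
    have hy' : y ∈ (Proj.awayι (𝒮.deg V hV) f hf he).opensRange := by
      rw [Proj.opensRange_awayι]; exact hy
    obtain ⟨z, hz⟩ := hy'
    refine ⟨z, ?_⟩
    rw [← hyx, ← hz]
    rfl
  · intro i
    obtain ⟨e⟩ := nonempty_restrict_emb_iso hF i.1.1 i.1.2
    have e2 := (Scheme.Modules.restrictFunctorComp
      (Proj.awayι (𝒮.deg i.1.1 i.1.2) i.2.2.1 i.2.2.2.2 i.2.2.2.1)
      (RelProj.emb p chart i.1.1 i.1.2)).app F ≪≫
      (Scheme.Modules.restrictFunctor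
        (Proj.awayι (𝒮.deg i.1.1 i.1.2) i.2.2.1 i.2.2.2.2 i.2.2.2.1)).mapIso e
    exact RP14.isIso_fromTildeΓ_of_iso e2.symm
      (GrModQC.isIso_fromTildeΓ_restrict (𝒮.deg i.1.1 i.1.2) (ℳ.deg i.1.1 i.1.2) n i.2.2.1
        i.2.2.2.2 i.2.2.2.1)

end Groth.Agent.Helper1.RT10
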