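import Mathlib
import Groth.Agent.Lib.Helper1.RT10
import Groth.Agent.Lib.Helper1.TwForm1

set_option autoImplicit false
universe u

open CategoryTheory CategoryTheory.Limits AlgebraicGeometry TopologicalSpace Opposite
open scoped HomogeneousIdeal

namespace Groth.Agent.Helper1.RT11

open Groth.Agent.Helper1.ProjBC Groth.Agent.Helper1.RP3 Groth.Agent.Helper1.QcCech Groth.Agent.Helper1.RT6

variable {Y P : Scheme.{u}} {𝒮 : RelProj.QCGrAlg Y} {p : P ⟶ Y}
  {chart : ∀ (U : Y.Opens) (hU : IsAffineOpen U), ((p ⁻¹ᵁ U : P.Opens) : Scheme.{u}) ≅ Proj (𝒮.deg U hU)}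
  {ℳ : RelProj.GrModule 𝒮} {n : ℤ} {F : P.Modules}
  {lam : ∀ (U : Y.Opens) (hU : IsAffineOpen U),
    F ⟶ (Scheme.Modules.pushforward (RelProj.emb p chart U hU)).obj
      (GrMod.tilde (𝒮.deg U hU) (ℳ.deg U hU) n)}

theorem lam_ext (hF : RelProj.IsRelTilde 𝒮 p chart ℳ n F lam) {W : P.Opens} (s t : Γ(F, W))
    (h : ∀ (U : Y.Opens) (hU : IsAffineOpen U), (lam U hU).app W s = (lam U hU).app W t) : s = t := by
  apply sec_ext hF
  intro x hx
  obtain ⟨U, hU, hxU⟩ := exists_affine_mem (p.base x)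
  refine ⟨U, hU, hxU, fun y hy => ?_⟩
  unfold rd
  rw [h U hU]

/-- compatibility condition on a cone of chartwise maps -/
def IsCompat (ℳ : RelProj.GrModule 𝒮) (n : ℤ) (E : P.Modules)
    (Θ : ∀ (U : Y.Opens) (hU : IsAffineOpen U),
      E ⟶ (Scheme.Modules.pushforward (RelProj.emb p chart U hU)).obj
        (GrMod.tilde (𝒮.deg U hU) (ℳ.deg U hU) n)) : Prop :=
  ∀ {U' U : Y.AffineZariskiSite} (h : U' ≤ U) (W : P.Opens) (s : Γ(E, W))
    (y : ProjectiveSpectrum (𝒮.deg U'.1 U'.2))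
    (hy : (RelProj.emb p chart U'.1 U'.2).base y ∈ W)
    (hy' : (RelProj.emb p chart U.1 U.2).base (ProjectiveSpectrum.comap
      (𝒮.res U.2 U'.2 (Scheme.AffineZariskiSite.toOpens_mono h)) (RP2.hirr 𝒮 h) y) ∈ W),
    GrMod.val (V := RelProj.emb p chart U'.1 U'.2 ⁻¹ᵁ W) ((Θ U'.1 U'.2).app W s) ⟨y, hy⟩ =
      GrMod.locModMap (𝒮.res U.2 U'.2 (Scheme.AffineZariskiSite.toOpens_mono h)) (RP2.hirr 𝒮 h)
        (ℳ.res U.2 U'.2 (Scheme.AffineZariskiSite.toOpens_mono h)) y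
        (GrMod.val (V := RelProj.emb p chart U.1 U.2 ⁻¹ᵁ W) ((Θ U.1 U.2).app W s) ⟨_, hy'⟩)

theorem isCompat_lam (hF : RelProj.IsRelTilde 𝒮 p chart ℳ n F lam) : IsCompat ℳ n F lam :=
  fun h _ s y hy hy' => compat' hF h s y hy hy'

section UP
variable {E : P.Modules}
  {Θ : ∀ (U : Y.Opens) (hU : IsAffineOpen U),
    E ⟶ (Scheme.Modules.pushforward (RelProj.emb p chart U hU)).obj
      (GrMod.tilde (𝒮.deg U hU) (ℳ.deg U hU) n)}

theorem exists_homSec (hP : RelProj.IsRelProj 𝒮 p chart) (hF : RelProj.IsRelTilde 𝒮 p chart ℳ n F lam)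
    (hΘ : IsCompat ℳ n E Θ) (W : P.Opens) (s : Γ(E, W)) :
    ∃ t : Γ(F, W), ∀ (U : Y.Opens) (hU : IsAffineOpen U), (lam U hU).app W t = (Θ U hU).app W s :=
  exists_sec hP hF W (fun U hU => (Θ U hU).app W s) (fun h y hy hy' => hΘ h W s y hy hy')

noncomputable def homSec (hP : RelProj.IsRelProj 𝒮 p chart) (hF : RelProj.IsRelTilde 𝒮 p chart ℳ n F lam)
    (hΘ : IsCompat ℳ n E Θ) (W : P.Opens) (s : Γ(E, W)) : Γ(F, W) :=
  (exists_homSec hP hF hΘ W s).choose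

theorem lam_homSec (hP : RelProj.IsRelProj 𝒮 p chart) (hF : RelProj.IsRelTilde 𝒮 p chart ℳ n F lam)
    (hΘ : IsCompat ℳ n E Θ) (W : P.Opens) (s : Γ(E, W)) (U : Y.Opens) (hU : IsAffineOpen U) :
    (lam U hU).app W (homSec hP hF hΘ W s) = (Θ U hU).app W s :=
  (exists_homSec hP hF hΘ W s).choose_spec U hU

/-- the morphism into `(ℳ(n))~` induced by a compatible cone -/
noncomputable def lift (hP : RelProj.IsRelProj 𝒮 p chart) (hF : RelProj.IsRelTilde 𝒮 p chart ℳ n F lam)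
    (hΘ : IsCompat ℳ n E Θ) : E ⟶ F :=
  TwForm.homMk E F (homSec hP hF hΘ)
    (by
      intro W a b
      apply lam_ext hF
      intro U hU
      rw [map_add, lam_homSec, lam_homSec, lam_homSec, map_add])
    (by
      intro W r a
      apply lam_ext hF
      intro U hU
      rw [Scheme.Modules.Hom.app_smul, lam_homSec, lam_homSec, Scheme.Modules.Hom.app_smul])
    (by
      intro W W' hW a
      apply lam_ext hF
      intro U hU
      rw [← ModGlue.app_res, lam_homSec, lam_homSec, ModGlue.app_res])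

theorem lift_comp (hP : RelProj.IsRelProj 𝒮 p chart) (hF : RelProj.IsRelTilde 𝒮 p chart ℳ n F lam)
    (hΘ : IsCompat ℳ n E Θ) (U : Y.Opens) (hU : IsAffineOpen U) :
    lift hP hF hΘ ≫ lam U hU = Θ U hU := by
  apply Scheme.Modules.hom_ext
  intro W
  ext s
  exact lam_homSec hP hF hΘ W s U hU

theorem hom_ext (hF : RelProj.IsRelTilde 𝒮 p chart ℳ n F lam) (φ φ' : E ⟶ F)
    (h : ∀ (U : Y.Opens) (hU : IsAffineOpen U), φ ≫ lam U hU = φ' ≫ lam U hU) : φ = φ' := by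
  apply Scheme.Modules.hom_ext
  intro W
  ext s
  apply lam_ext hF
  intro U hU
  have := congrArg (fun χ => χ.app W s) (h U hU)
  exact this

/-- universal property of `(ℳ(n))~` -/
theorem existsUnique_lift (hP : RelProj.IsRelProj 𝒮 p chart) (hF : RelProj.IsRelTilde 𝒮 p chart ℳ n F lam)
    (hΘ : IsCompat ℳ n E Θ) :
    ∃! φ : E ⟶ F, ∀ (U : Y.Opens) (hU : IsAffineOpen U), φ ≫ lam U hU = Θ U hU :=
  ⟨lift hP hF hΘ, lift_comp hP hF hΘ, fun φ hφ =>
    hom_ext hF _ _ fun U hU => (hφ U hU).trans (lift_comp hP hF hΘ U hU).symm⟩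

end UP

/-- S8323 -/
theorem unique_iso (hP : RelProj.IsRelProj 𝒮 p chart) (hF : RelProj.IsRelTilde 𝒮 p chart ℳ n F lam)
    {F' : P.Modules}
    {lam' : ∀ (U : Y.Opens) (hU : IsAffineOpen U),
      F' ⟶ (Scheme.Modules.pushforward (RelProj.emb p chart U hU)).obj
        (GrMod.tilde (𝒮.deg U hU) (ℳ.deg U hU) n)}
    (hF' : RelProj.IsRelTilde 𝒮 p chart ℳ n F' lam') :
    (∃! φ : F ⟶ F', ∀ (U : Y.Opens) (hU : IsAffineOpen U), φ ≫ lam' U hU = lam U hU) ∧
      ∀ φ : F ⟶ F', (∀ (U : Y.Opens) (hU : IsAffineOpen U), φ ≫ lam' U hU = lam U hU) → IsIso φ := by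
  refine ⟨existsUnique_lift hP hF' (isCompat_lam hF), fun φ hφ => ?_⟩
  refine ⟨lift hP hF (isCompat_lam hF'), ?_, ?_⟩
  · apply hom_ext hF
    intro U hU
    rw [Category.assoc, lift_comp, hφ, Category.id_comp]
  · apply hom_ext hF'
    intro U hU
    rw [Category.assoc, hφ, lift_comp, Category.id_comp]

end Groth.Agent.Helper1.RT11
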