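import Mathlib
import Groth.Agent.Lib.Helper1.RT11

set_option autoImplicit false
universe u

open CategoryTheory CategoryTheory.Limits AlgebraicGeometry TopologicalSpace Opposite
open scoped HomogeneousIdeal

namespace Groth.Agent.Helper1.RT12

open Groth.Agent.Helper1.ProjBC Groth.Agent.Helper1.RP3 Groth.Agent.Helper1.QcCech Groth.Agent.Helper1.RT6
open Groth.Agent.Helper1.RT11

variable {Y P : Scheme.{u}} {𝒮 : RelProj.QCGrAlg Y} {p : P ⟶ Y}
  {chart : ∀ (U : Y.Opens) (hU : IsAffineOpen U), ((p ⁻¹ᵁ U : P.Opens) : Scheme.{u}) ≅ Proj (𝒮.deg U hU)}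
  {ℳ 𝒩 : RelProj.GrModule 𝒮} {n : ℤ} {F : P.Modules}
  {lam : ∀ (U : Y.Opens) (hU : IsAffineOpen U),
    F ⟶ (Scheme.Modules.pushforward (RelProj.emb p chart U hU)).obj
      (GrMod.tilde (𝒮.deg U hU) (ℳ.deg U hU) n)}

/-- the component of `u` over an affine open as a linear map -/
noncomputable abbrev uAt (u : ℳ.mod ⟶ 𝒩.mod) (U : Y.Opens) :
    ℳ.mod.val.obj (op U) →ₗ[𝒮.presheaf.obj (op U)] 𝒩.mod.val.obj (op U) :=
  (u.val.app (op U)).hom

theorem uAt_res (u : ℳ.mod ⟶ 𝒩.mod) {U V : Y.Opens} (hU : IsAffineOpen U) (hV : IsAffineOpen V)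
    (i : V ≤ U) (m : ℳ.mod.val.obj (op U)) :
    𝒩.res hU hV i (uAt u U m) = uAt u V (ℳ.res hU hV i m) := by
  have := congrArg (fun f => f.hom m) (u.val.naturality (homOfLE i).op)
  exact this.symm

/-- the cone of chartwise maps induced by `u` -/
noncomputable def mapΘ (u : ℳ.mod ⟶ 𝒩.mod) (hu : RelProj.IsGrModHom u)
    (lam : ∀ (U : Y.Opens) (hU : IsAffineOpen U),
      F ⟶ (Scheme.Modules.pushforward (RelProj.emb p chart U hU)).obj
        (GrMod.tilde (𝒮.deg U hU) (ℳ.deg U hU) n))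
    (U : Y.Opens) (hU : IsAffineOpen U) :
    F ⟶ (Scheme.Modules.pushforward (RelProj.emb p chart U hU)).obj
      (GrMod.tilde (𝒮.deg U hU) (𝒩.deg U hU) n) :=
  lam U hU ≫ (Scheme.Modules.pushforward (RelProj.emb p chart U hU)).map
    (GrMod.map (𝒮.deg U hU) (uAt u U) (hu U hU) n)

theorem mapΘ_val (u : ℳ.mod ⟶ 𝒩.mod) (hu : RelProj.IsGrModHom u) (U : Y.Opens) (hU : IsAffineOpen U)
    (W : P.Opens) (s : Γ(F, W)) (y : ProjectiveSpectrum (𝒮.deg U hU))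
    (hy : (RelProj.emb p chart U hU).base y ∈ W) :
    GrMod.val (V := RelProj.emb p chart U hU ⁻¹ᵁ W) ((mapΘ u hu lam U hU).app W s) ⟨y, hy⟩ =
      GrMod.locMap (𝒜 := 𝒮.deg U hU) (uAt u U) y (rd lam U hU s y hy) := rfl

theorem locMap_square (u : ℳ.mod ⟶ 𝒩.mod) {D U : Y.AffineZariskiSite} (h : D ≤ U)
    (y : ProjectiveSpectrum (𝒮.deg D.1 D.2))
    (q : GrMod.LocMod (𝒮.deg U.1 U.2) (M := ℳ.mod.val.obj (op U.1))
      (ProjectiveSpectrum.comap (𝒮.res U.2 D.2 (Scheme.AffineZariskiSite.toOpens_mono h)) (RP2.hirr 𝒮 h) y)) :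
    GrMod.locModMap (𝒮.res U.2 D.2 (Scheme.AffineZariskiSite.toOpens_mono h)) (RP2.hirr 𝒮 h)
        (𝒩.res U.2 D.2 (Scheme.AffineZariskiSite.toOpens_mono h)) y
        (GrMod.locMap (𝒜 := 𝒮.deg U.1 U.2) (uAt u U.1) _ q) =
      GrMod.locMap (𝒜 := 𝒮.deg D.1 D.2) (uAt u D.1) y
        (GrMod.locModMap (𝒮.res U.2 D.2 (Scheme.AffineZariskiSite.toOpens_mono h)) (RP2.hirr 𝒮 h)
          (ℳ.res U.2 D.2 (Scheme.AffineZariskiSite.toOpens_mono h)) y q) := by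
  induction q using LocalizedModule.induction_on with
  | h m s =>
    rw [GrMod.locMap_mk, GrMod.locModMap_mk, GrMod.locModMap_mk, GrMod.locMap_mk, uAt_res]

theorem isCompat_mapΘ (hF : RelProj.IsRelTilde 𝒮 p chart ℳ n F lam) (u : ℳ.mod ⟶ 𝒩.mod)
    (hu : RelProj.IsGrModHom u) : IsCompat 𝒩 n F (mapΘ u hu lam) := by
  intro D U h W s y hy hy'
  rw [mapΘ_val, mapΘ_val, compat' hF h s y hy hy']
  exact (locMap_square u h y _).symm

/-- S8329 -/
theorem existsUnique_map (hP : RelProj.IsRelProj 𝒮 p chart) (hF : RelProj.IsRelTilde 𝒮 p chart ℳ n F lam)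
    {G : P.Modules}
    {lam' : ∀ (U : Y.Opens) (hU : IsAffineOpen U),
      G ⟶ (Scheme.Modules.pushforward (RelProj.emb p chart U hU)).obj
        (GrMod.tilde (𝒮.deg U hU) (𝒩.deg U hU) n)}
    (hG : RelProj.IsRelTilde 𝒮 p chart 𝒩 n G lam') (u : ℳ.mod ⟶ 𝒩.mod) (hu : RelProj.IsGrModHom u) :
    ∃! ut : F ⟶ G, ∀ (U : Y.Opens) (hU : IsAffineOpen U),
      ut ≫ lam' U hU =
        lam U hU ≫ (Scheme.Modules.pushforward (RelProj.emb p chart U hU)).map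
          (GrMod.map (𝒮.deg U hU)
            (show ℳ.mod.val.obj (op U) →ₗ[𝒮.presheaf.obj (op U)] 𝒩.mod.val.obj (op U) from (u.val.app (op U)).hom)
            (hu U hU) n) :=
  existsUnique_lift hP hG (isCompat_mapΘ hF u hu)

end Groth.Agent.Helper1.RT12
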