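import Mathlib
import Groth.Agent.Lib.Helper1.RT12
import Groth.Agent.Lib.Helper1.GrModLibN

set_option autoImplicit false
universe u

open CategoryTheory CategoryTheory.Limits AlgebraicGeometry TopologicalSpace Opposite
open scoped HomogeneousIdeal

namespace Groth.Agent.Helper1.RT13

open Groth.Agent.Helper1.ProjBC Groth.Agent.Helper1.RP3 Groth.Agent.Helper1.QcCech Groth.Agent.Helper1.RT6
open Groth.Agent.Helper1.RT11

section Alg
variable {A σ : Type u} [CommRing A] [SetLike σ A] [AddSubgroupClass σ A] (𝒜 : ℕ → σ)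
  [GradedRing 𝒜] {M τ : Type u} [AddCommGroup M] [Module A M] [SetLike τ M] [AddSubgroupClass τ M]
  (ℳ : ℕ → τ) [DirectSum.Decomposition ℳ] [SetLike.GradedSMul 𝒜 ℳ]

theorem pow_smul_eq_zero_of_TN (n₀ : ℕ) (hTN : ∀ k : ℕ, n₀ ≤ k → ∀ m ∈ ℳ k, m = 0)
    (z : M) (d : ℕ) (f : A) (hd : 0 < d) (hf : f ∈ 𝒜 d) : f ^ n₀ • z = 0 := by
  classical
  have hfp : f ^ n₀ ∈ 𝒜 (n₀ • d) := SetLike.pow_mem_graded n₀ hf
  induction z using DirectSum.Decomposition.inductionOn ℳ with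
  | zero => rw [smul_zero]
  | @homogeneous i m =>
    have hmem : f ^ n₀ • (m : M) ∈ ℳ (n₀ • d + i) :=
      SetLike.GradedSMul.smul_mem (A := 𝒜) (B := ℳ) hfp m.2
    apply hTN _ _ _ hmem
    have : n₀ ≤ n₀ • d := by
      rw [smul_eq_mul]
      exact Nat.le_mul_of_pos_right n₀ hd
    exact le_trans this (Nat.le_add_right _ _)
  | add m m' h h' => rw [smul_add, h, h', add_zero]

end Alg

variable {Y P : Scheme.{u}} {𝒮 : RelProj.QCGrAlg Y} {p : P ⟶ Y}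
  {chart : ∀ (U : Y.Opens) (hU : IsAffineOpen U), ((p ⁻¹ᵁ U : P.Opens) : Scheme.{u}) ≅ Proj (𝒮.deg U hU)}
  {ℳ : RelProj.GrModule 𝒮} {n : ℤ} {F : P.Modules}
  {lam : ∀ (U : Y.Opens) (hU : IsAffineOpen U),
    F ⟶ (Scheme.Modules.pushforward (RelProj.emb p chart U hU)).obj
      (GrMod.tilde (𝒮.deg U hU) (ℳ.deg U hU) n)}

/-- S8324 -/
theorem isZero_of_TN (hF : RelProj.IsRelTilde 𝒮 p chart ℳ n F lam) (hTN : ℳ.IsTN) : IsZero F := by
  obtain ⟨n₀, hn₀⟩ := hTN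
  apply Groth.Agent.Helper7.FinType.isZero_of_forall_subsingleton
  intro W
  refine ⟨fun s t => ?_⟩
  apply lam_ext hF
  intro U hU
  apply val_ext
  rintro ⟨y, hy⟩
  have := GrModLibN.subsingleton_locMod (𝒮.deg U hU) (M := ℳ.mod.val.obj (op U))
    (fun z d f hd hf => ⟨n₀, pow_smul_eq_zero_of_TN (𝒮.deg U hU) (ℳ.deg U hU) n₀ (hn₀ U hU) z d f hd hf⟩) y
  exact Subsingleton.elim _ _

end Groth.Agent.Helper1.RT13
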