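import Mathlib
import Groth.Agent.Lib.Helper1.RT13
import Groth.Agent.Lib.Helper1.SerreCrit
import Groth.Agent.Lib.Helper1.FtLocal
import Groth.Agent.Lib.Helper1.SubExt8

set_option autoImplicit false
universe u

open CategoryTheory CategoryTheory.Limits AlgebraicGeometry TopologicalSpace Opposite
open scoped HomogeneousIdeal

namespace Groth.Agent.Helper1.RT14

section Alg
variable {A σ : Type u} [CommRing A] [SetLike σ A] [AddSubgroupClass σ A] (𝒜 : ℕ → σ)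
  [GradedRing 𝒜] {M τ : Type u} [AddCommGroup M] [Module A M] [SetLike τ M] [AddSubgroupClass τ M]
  (ℳ : ℕ → τ) [DirectSum.Decomposition ℳ] [SetLike.GradedSMul 𝒜 ℳ]
  {N τ' : Type u} [AddCommGroup N] [Module A N] [SetLike τ' N] [AddSubgroupClass τ' N]
  (𝒩 : ℕ → τ') [DirectSum.Decomposition 𝒩] [SetLike.GradedSMul 𝒜 𝒩]

omit [SetLike.GradedSMul 𝒜 ℳ] [SetLike.GradedSMul 𝒜 𝒩] in
theorem map_decompose_add (u : M →+ N) (hu : ∀ (i : ℕ) (m : M), m ∈ ℳ i → u m ∈ 𝒩 i) (m : M) (i : ℕ) :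
    u (DirectSum.decompose ℳ m i : M) = (DirectSum.decompose 𝒩 (u m) i : N) := by
  classical
  induction m using DirectSum.Decomposition.inductionOn ℳ with
  | zero => simp
  | @homogeneous j m =>
    by_cases h : j = i
    · subst h
      rw [DirectSum.decompose_of_mem_same ℳ m.2, DirectSum.decompose_of_mem_same 𝒩 (hu _ _ m.2)]
    · rw [DirectSum.decompose_of_mem_ne ℳ m.2 h, DirectSum.decompose_of_mem_ne 𝒩 (hu _ _ m.2) h, map_zero]
  | add m m' h h' =>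
    simp only [DirectSum.decompose_add, DirectSum.add_apply, AddMemClass.coe_add, map_add, h, h']

/-- a homogeneous element killed in the localization is killed by a homogeneous element outside the prime -/
theorem exists_homog_smul_eq_zero (x : ProjectiveSpectrum 𝒜) {i : ℕ} {m : M} (hm : m ∈ ℳ i)
    (s : x.asHomogeneousIdeal.toIdeal.primeCompl)
    (h0 : (LocalizedModule.mk m s : GrMod.LocMod 𝒜 (M := M) x) = 0) :
    ∃ (k : ℕ) (t : A), t ∈ 𝒜 k ∧ t ∉ x.asHomogeneousIdeal ∧ t • m = 0 := by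
  classical
  rw [ILocM.mk_eq_zero_iff] at h0
  obtain ⟨⟨t, ht⟩, htm⟩ := h0
  change t • m = 0 at htm
  have hex : ∃ k, (DirectSum.decompose 𝒜 t k : A) ∉ x.asHomogeneousIdeal := by
    by_contra hcon
    push Not at hcon
    apply ht
    rw [← DirectSum.sum_support_decompose 𝒜 t]
    exact Ideal.sum_mem _ fun k _ => hcon k
  obtain ⟨k, hk⟩ := hex
  exact ⟨k, _, SetLike.coe_mem _, hk, GrModLibN.comp_smul_eq_zero 𝒜 ℳ hm htm k⟩

theorem exists_deg_ge_notMem (x : ProjectiveSpectrum 𝒜) (n₀ : ℕ) :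
    ∃ (d : ℕ) (g : A), n₀ ≤ d ∧ 0 < d ∧ g ∈ 𝒜 d ∧ g ∉ x.asHomogeneousIdeal := by
  obtain ⟨d, hd, g, hg, hgx⟩ := ProjTop.exists_homogeneous_notMem 𝒜 x
  refine ⟨(n₀ + 1) • d, g ^ (n₀ + 1), ?_, ?_, SetLike.pow_mem_graded _ hg,
    fun h => hgx (x.isPrime.mem_of_pow_mem _ h)⟩
  · rw [smul_eq_mul]
    exact le_trans (Nat.le_succ n₀) (Nat.le_mul_of_pos_right _ hd)
  · rw [smul_eq_mul]
    exact Nat.mul_pos (Nat.succ_pos _) hd

variable {ℳ 𝒩}

/-- (TN)-injectivity gives injectivity on homogeneous fractions -/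
theorem mk_eq_zero_of_locMap (u : M →ₗ[A] N) (hu : ∀ (i : ℕ) (m : M), m ∈ ℳ i → u m ∈ 𝒩 i)
    (n₀ : ℕ) (hinj : ∀ k : ℕ, n₀ ≤ k → ∀ m ∈ ℳ k, u m = 0 → m = 0)
    (x : ProjectiveSpectrum 𝒜) {i : ℕ} {m : M} (hm : m ∈ ℳ i)
    (s : x.asHomogeneousIdeal.toIdeal.primeCompl)
    (h0 : GrMod.locMap (𝒜 := 𝒜) u x (LocalizedModule.mk m s) = 0) :
    (LocalizedModule.mk m s : GrMod.LocMod 𝒜 (M := M) x) = 0 := by
  rw [GrMod.locMap_mk] at h0
  obtain ⟨k, t, htk, htx, htm⟩ := exists_homog_smul_eq_zero 𝒜 𝒩 x (hu i m hm) s h0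
  obtain ⟨d, g, hd, -, hg, hgx⟩ := exists_deg_ge_notMem 𝒜 x n₀
  rw [ILocM.mk_eq_zero_iff]
  have hgt : g * t ∉ x.asHomogeneousIdeal := fun h =>
    (x.isPrime.mem_or_mem h).elim hgx htx
  refine ⟨⟨g * t, hgt⟩, ?_⟩
  change (g * t) • m = 0
  have hmem : (g * t) • m ∈ ℳ (d + k + i) :=
    SetLike.GradedSMul.smul_mem (A := 𝒜) (B := ℳ) (SetLike.mul_mem_graded hg htk) hm
  apply hinj _ (by omega) _ hmem
  rw [map_smul, mul_smul, htm, smul_zero]

/-- (TN)-surjectivity: lifting a numerator after multiplication by a homogeneous element -/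
theorem exists_lift_num (u : M →ₗ[A] N)
    (n₀ : ℕ) (hsurj : ∀ k : ℕ, n₀ ≤ k → ∀ m' ∈ 𝒩 k, ∃ m ∈ ℳ k, u m = m')
    (x : ProjectiveSpectrum 𝒜) {i : ℕ} {a' : N} (ha' : a' ∈ 𝒩 i) :
    ∃ (d : ℕ) (g : A) (m : M), g ∈ 𝒜 d ∧ g ∉ x.asHomogeneousIdeal ∧ m ∈ ℳ (d + i) ∧ u m = g • a' := by
  obtain ⟨d, g, hd, -, hg, hgx⟩ := exists_deg_ge_notMem 𝒜 x n₀
  have hmem : g • a' ∈ 𝒩 (d + i) := SetLike.GradedSMul.smul_mem (A := 𝒜) (B := 𝒩) hg ha'
  obtain ⟨m, hm, hum⟩ := hsurj (d + i) (by omega) _ hmem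
  exact ⟨d, g, m, hg, hgx, hm, hum⟩

variable {M₃ τ₃ : Type u} [AddCommGroup M₃] [Module A M₃] [SetLike τ₃ M₃] [AddSubgroupClass τ₃ M₃]
  {ℳ₃ : ℕ → τ₃} [DirectSum.Decomposition ℳ₃] [SetLike.GradedSMul 𝒜 ℳ₃]

/-- exactness: lifting a numerator killed by `v` after multiplication by a homogeneous element -/
theorem exists_lift_ker (u : M →ₗ[A] N) (hu : ∀ (i : ℕ) (m : M), m ∈ ℳ i → u m ∈ 𝒩 i)
    (v : N →ₗ[A] M₃) (hv : ∀ (i : ℕ) (m : N), m ∈ 𝒩 i → v m ∈ ℳ₃ i) (hex : Function.Exact u v)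
    (x : ProjectiveSpectrum 𝒜) {i : ℕ} {a : N} (ha : a ∈ 𝒩 i)
    (s : x.asHomogeneousIdeal.toIdeal.primeCompl)
    (h0 : GrMod.locMap (𝒜 := 𝒜) v x (LocalizedModule.mk a s) = 0) :
    ∃ (k : ℕ) (t : A) (m : M), t ∈ 𝒜 k ∧ t ∉ x.asHomogeneousIdeal ∧ m ∈ ℳ (k + i) ∧ u m = t • a := by
  classical
  rw [GrMod.locMap_mk] at h0
  obtain ⟨k, t, htk, htx, htm⟩ := exists_homog_smul_eq_zero 𝒜 ℳ₃ x (hv i a ha) s h0
  have hmem : t • a ∈ 𝒩 (k + i) := SetLike.GradedSMul.smul_mem (A := 𝒜) (B := 𝒩) htk ha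
  have hv0 : v (t • a) = 0 := by rw [map_smul, htm]
  obtain ⟨m₀, hm₀⟩ := (hex (t • a)).1 hv0
  refine ⟨k, t, (DirectSum.decompose ℳ m₀ (k + i) : M), htk, htx, SetLike.coe_mem _, ?_⟩
  have := map_decompose_add ℳ 𝒩 u.toAddMonoidHom hu m₀ (k + i)
  change u _ = _ at this
  rw [this]
  change (DirectSum.decompose 𝒩 (u m₀) (k + i) : N) = _
  rw [hm₀, DirectSum.decompose_of_mem_same 𝒩 hmem]

end Alg


section Geo
open Groth.Agent.Helper1.ProjBC Groth.Agent.Helper1.RP3 Groth.Agent.Helper1.QcCech Groth.Agent.Helper1.RT6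
open Groth.Agent.Helper1.RT11 Groth.Agent.Helper1.RT12

variable {Y P : Scheme.{u}} {𝒮 : RelProj.QCGrAlg Y} {p : P ⟶ Y}
  {chart : ∀ (U : Y.Opens) (hU : IsAffineOpen U), ((p ⁻¹ᵁ U : P.Opens) : Scheme.{u}) ≅ Proj (𝒮.deg U hU)}
  {ℳ 𝒩 : RelProj.GrModule 𝒮} {n : ℤ} {F : P.Modules}
  {lam : ∀ (U : Y.Opens) (hU : IsAffineOpen U),
    F ⟶ (Scheme.Modules.pushforward (RelProj.emb p chart U hU)).obj
      (GrMod.tilde (𝒮.deg U hU) (ℳ.deg U hU) n)}
  {G : P.Modules}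
  {lam' : ∀ (U : Y.Opens) (hU : IsAffineOpen U),
    G ⟶ (Scheme.Modules.pushforward (RelProj.emb p chart U hU)).obj
      (GrMod.tilde (𝒮.deg U hU) (𝒩.deg U hU) n)}

theorem exists_pt (x : P) (U : Y.Opens) (hU : IsAffineOpen U) (hx : p.base x ∈ U) :
    ∃ y : ProjectiveSpectrum (𝒮.deg U hU), (RelProj.emb p chart U hU).base y = x := by
  have : x ∈ (RelProj.emb p chart U hU).opensRange := by
    rw [opensRange_emb]; exact hx
  exact this

theorem image_le_preimage (U : Y.Opens) (hU : IsAffineOpen U) (N' : (Proj (𝒮.deg U hU)).Opens) :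
    RelProj.emb p chart U hU ''ᵁ N' ≤ p ⁻¹ᵁ U := by
  rw [← opensRange_emb (p := p) (chart := chart) U hU]
  exact (RelProj.emb p chart U hU).image_le_opensRange N'

theorem mem_of_emb_mem_image (U : Y.Opens) (hU : IsAffineOpen U) (N' : (Proj (𝒮.deg U hU)).Opens)
    (z : ProjectiveSpectrum (𝒮.deg U hU))
    (hz : (RelProj.emb p chart U hU).base z ∈ RelProj.emb p chart U hU ''ᵁ N') : z ∈ N' := by
  obtain ⟨z', hz', e⟩ := hz
  obtain rfl := (RelProj.emb p chart U hU).isOpenEmbedding.injective e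
  exact hz'

/-- a section of `F` with prescribed fraction values near a point of a chart -/
theorem exists_sec_of_frac (hF : RelProj.IsRelTilde 𝒮 p chart ℳ n F lam) (U : Y.Opens)
    (hU : IsAffineOpen U) (N' : (Proj (𝒮.deg U hU)).Opens) {i j : ℕ} (a : ℳ.deg U hU i)
    (f : 𝒮.deg U hU j) (hdeg : (i : ℤ) = j + n)
    (hf : ∀ z : ProjectiveSpectrum (𝒮.deg U hU), z ∈ N' → (f : 𝒮.presheaf.obj (op U)) ∉ z.asHomogeneousIdeal) :
    ∃ s : Γ(F, RelProj.emb p chart U hU ''ᵁ N'),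
      ∀ (z : ProjectiveSpectrum (𝒮.deg U hU))
        (hz : (RelProj.emb p chart U hU).base z ∈ RelProj.emb p chart U hU ''ᵁ N'),
        rd lam U hU s z hz = LocalizedModule.mk (a : ℳ.mod.val.obj (op U))
          ⟨(f : 𝒮.presheaf.obj (op U)), hf z (mem_of_emb_mem_image U hU N' z hz)⟩ := by
  have hτ : ∀ (z : ProjectiveSpectrum (𝒮.deg U hU)),
      (RelProj.emb p chart U hU).base z ∈ RelProj.emb p chart U hU ''ᵁ N' →
      (f : 𝒮.presheaf.obj (op U)) ∉ z.asHomogeneousIdeal :=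
    fun z hz => hf z (mem_of_emb_mem_image U hU N' z hz)
  let W' : Opens (ProjectiveSpectrum.top (𝒮.deg U hU)) :=
    (RelProj.emb p chart U hU ⁻¹ᵁ (RelProj.emb p chart U hU ''ᵁ N'))
  have hτ' : ∀ x : W', (f : 𝒮.presheaf.obj (op U)) ∉ x.1.asHomogeneousIdeal :=
    fun x => hτ x.1 x.2
  obtain ⟨s, hs⟩ := (hF.bijective U hU _ (image_le_preimage U hU N')).2
    (GrModQC.fracS (𝒮.deg U hU) (ℳ.deg U hU) n W' a f hdeg hτ')
  refine ⟨s, fun z hz => ?_⟩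
  unfold rd
  rw [hs]
  rfl

/-- local fraction representation of a section of `F` read through a chart -/
theorem exists_frac_rd (U : Y.Opens) (hU : IsAffineOpen U) {W : P.Opens} (s : Γ(F, W))
    (y : ProjectiveSpectrum (𝒮.deg U hU)) (hy : (RelProj.emb p chart U hU).base y ∈ W) :
    ∃ (N' : (Proj (𝒮.deg U hU)).Opens) (hN : N' ≤ RelProj.emb p chart U hU ⁻¹ᵁ W) (_ : y ∈ N')
      (i j : ℕ) (a : ℳ.deg U hU i) (f : 𝒮.deg U hU j)
      (hf : ∀ z : ProjectiveSpectrum (𝒮.deg U hU), z ∈ N' →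
        (f : 𝒮.presheaf.obj (op U)) ∉ z.asHomogeneousIdeal),
      ((i : ℤ) = j + n ∨ (a : ℳ.mod.val.obj (op U)) = 0) ∧
      ∀ (z : ProjectiveSpectrum (𝒮.deg U hU)) (hz : z ∈ N'),
        rd lam U hU s z (hN hz) = LocalizedModule.mk (a : ℳ.mod.val.obj (op U))
          ⟨(f : 𝒮.presheaf.obj (op U)), hf z hz⟩ :=
  RT9.exists_frac (show Γ(GrMod.tilde (𝒮.deg U hU) (ℳ.deg U hU) n,
    RelProj.emb p chart U hU ⁻¹ᵁ W) from (lam U hU).app W s) y hy

/-- values of the image under a pinned map -/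
theorem rd_map {u : ℳ.mod ⟶ 𝒩.mod} {hu : RelProj.IsGrModHom u} {ut : F ⟶ G}
    (hut : ∀ (U : Y.Opens) (hU : IsAffineOpen U),
      ut ≫ lam' U hU =
        lam U hU ≫ (Scheme.Modules.pushforward (RelProj.emb p chart U hU)).map
          (GrMod.map (𝒮.deg U hU)
            (show ℳ.mod.val.obj (op U) →ₗ[𝒮.presheaf.obj (op U)] 𝒩.mod.val.obj (op U) from (u.val.app (op U)).hom)
            (hu U hU) n))
    (U : Y.Opens) (hU : IsAffineOpen U) {W : P.Opens} (s : Γ(F, W))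
    (y : ProjectiveSpectrum (𝒮.deg U hU)) (hy : (RelProj.emb p chart U hU).base y ∈ W) :
    rd lam' U hU (ut.app W s) y hy =
      GrMod.locMap (𝒜 := 𝒮.deg U hU) (uAt u U) y (rd lam U hU s y hy) := by
  have h := congrArg (fun χ => χ.app W s) (hut U hU)
  change (lam' U hU).app W (ut.app W s) = (mapΘ u hu lam U hU).app W s at h
  unfold rd
  rw [h]
  rfl

end Geo


section Crit
open Groth.Agent.Helper1.QcCech
variable {X : Scheme.{u}}

/-- exactness criterion: local lifting of sections killed by `g` -/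
theorem exact_of_locally (S : ShortComplex X.Modules)
    (h : ∀ (U : X.Opens) (s : Γ(S.X₂, U)), S.g.app U s = 0 → ∀ x ∈ U,
      ∃ (W : X.Opens) (hW : W ≤ U), x ∈ W ∧ ∃ m : Γ(S.X₁, W), S.f.app W m = res S.X₂ hW s) :
    S.Exact := by
  rw [S.exact_iff_epi_toCycles]
  apply SerreCrit.epi_of_locally_surjective
  intro U t x hx
  have h0 : S.g.app U (S.iCycles.app U t) = 0 := by
    have := congrArg (fun χ => χ.app U t) S.iCycles_g
    exact this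
  obtain ⟨W, hW, hxW, m, hm⟩ := h U (S.iCycles.app U t) h0 x hx
  refine ⟨W, hW, hxW, m, ?_⟩
  apply FtLocal.app_injective_of_mono S.iCycles W
  have h1 : S.iCycles.app W (S.toCycles.app W m) = S.f.app W m := by
    have := congrArg (fun χ => χ.app W m) S.toCycles_i
    exact this
  rw [h1, hm, ModGlue.app_res]

end Crit


section Main
open Groth.Agent.Helper1.ProjBC Groth.Agent.Helper1.RP3 Groth.Agent.Helper1.QcCech Groth.Agent.Helper1.RT6
open Groth.Agent.Helper1.RT11 Groth.Agent.Helper1.RT12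

variable {Y P : Scheme.{u}} {𝒮 : RelProj.QCGrAlg Y} {p : P ⟶ Y}
  {chart : ∀ (U : Y.Opens) (hU : IsAffineOpen U), ((p ⁻¹ᵁ U : P.Opens) : Scheme.{u}) ≅ Proj (𝒮.deg U hU)}
  {ℳ 𝒩 : RelProj.GrModule 𝒮} {n : ℤ} {F : P.Modules}
  {lam : ∀ (U : Y.Opens) (hU : IsAffineOpen U),
    F ⟶ (Scheme.Modules.pushforward (RelProj.emb p chart U hU)).obj
      (GrMod.tilde (𝒮.deg U hU) (ℳ.deg U hU) n)}
  {G : P.Modules}
  {lam' : ∀ (U : Y.Opens) (hU : IsAffineOpen U),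
    G ⟶ (Scheme.Modules.pushforward (RelProj.emb p chart U hU)).obj
      (GrMod.tilde (𝒮.deg U hU) (𝒩.deg U hU) n)}

theorem rd_zero (U : Y.Opens) (hU : IsAffineOpen U) {W : P.Opens}
    (y : ProjectiveSpectrum (𝒮.deg U hU)) (hy : (RelProj.emb p chart U hU).base y ∈ W) :
    rd lam U hU (0 : Γ(F, W)) y hy = 0 := by
  unfold rd
  rw [map_zero]
  rfl

variable {u : ℳ.mod ⟶ 𝒩.mod} {hu : RelProj.IsGrModHom u} {ut : F ⟶ G}

/-- local lifting of a section through a pinned map, given an algebraic lift of numerators -/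
theorem exists_local_lift (hF : RelProj.IsRelTilde 𝒮 p chart ℳ n F lam)
    (hG : RelProj.IsRelTilde 𝒮 p chart 𝒩 n G lam')
    (hut : ∀ (U : Y.Opens) (hU : IsAffineOpen U),
      ut ≫ lam' U hU =
        lam U hU ≫ (Scheme.Modules.pushforward (RelProj.emb p chart U hU)).map
          (GrMod.map (𝒮.deg U hU)
            (show ℳ.mod.val.obj (op U) →ₗ[𝒮.presheaf.obj (op U)] 𝒩.mod.val.obj (op U) from (u.val.app (op U)).hom)
            (hu U hU) n))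
    {W : P.Opens} (t : Γ(G, W)) (U : Y.Opens) (hU : IsAffineOpen U)
    (y : ProjectiveSpectrum (𝒮.deg U hU)) (hy : (RelProj.emb p chart U hU).base y ∈ W)
    (hlift : ∀ {i : ℕ} (a' : 𝒩.mod.val.obj (op U)) (_ : a' ∈ 𝒩.deg U hU i)
      (f : y.asHomogeneousIdeal.toIdeal.primeCompl),
      rd lam' U hU t y hy = LocalizedModule.mk a' f →
      ∃ (d : ℕ) (g : 𝒮.presheaf.obj (op U)) (m : ℳ.mod.val.obj (op U)), g ∈ 𝒮.deg U hU d ∧
        g ∉ y.asHomogeneousIdeal ∧ m ∈ ℳ.deg U hU (d + i) ∧ uAt u U m = g • a') :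
    ∃ (W' : P.Opens) (hW' : W' ≤ W), (RelProj.emb p chart U hU).base y ∈ W' ∧
      ∃ s : Γ(F, W'), ut.app W' s = res G hW' t := by
  obtain ⟨N', hN, hyN, i, j, a', f, hf, hij, hval⟩ := exists_frac_rd (lam := lam') U hU t y hy
  have hle : ∀ N'' : (Proj (𝒮.deg U hU)).Opens, N'' ≤ N' → RelProj.emb p chart U hU ''ᵁ N'' ≤ W := by
    intro N'' hN'' x hx
    obtain ⟨z, hz, rfl⟩ := hx
    exact hN (hN'' hz)
  rcases hij with hij | h0
  · obtain ⟨d, g, m, hg, hgy, hm, hum⟩ := hlift (a' : 𝒩.mod.val.obj (op U)) a'.2 ⟨f, hf y hyN⟩ (hval y hyN)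
    obtain ⟨N'', hN''le, hyN'', hgN''⟩ : ∃ N'' : (Proj (𝒮.deg U hU)).Opens, N'' ≤ N' ∧ y ∈ N'' ∧
        ∀ z : ProjectiveSpectrum (𝒮.deg U hU), z ∈ N'' → g ∉ z.asHomogeneousIdeal :=
      ⟨N' ⊓ ProjectiveSpectrum.basicOpen (𝒮.deg U hU) g, inf_le_left, ⟨hyN, hgy⟩, fun z hz => hz.2⟩
    have hgf : g * (f : 𝒮.presheaf.obj (op U)) ∈ 𝒮.deg U hU (d + j) := SetLike.mul_mem_graded hg f.2
    have hdeg : ((d + i : ℕ) : ℤ) = ((d + j : ℕ) : ℤ) + n := by push_cast; omega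
    have hnm : ∀ z : ProjectiveSpectrum (𝒮.deg U hU), z ∈ N'' →
        g * (f : 𝒮.presheaf.obj (op U)) ∉ z.asHomogeneousIdeal := by
      intro z hz hmem
      rcases z.isPrime.mem_or_mem hmem with h1 | h1
      · exact hgN'' z hz h1
      · exact hf z (hN''le hz) h1
    obtain ⟨s, hs⟩ := exists_sec_of_frac hF U hU N'' ⟨m, hm⟩ ⟨g * f, hgf⟩ hdeg hnm
    refine ⟨RelProj.emb p chart U hU ''ᵁ N'', hle N'' hN''le, ⟨y, hyN'', rfl⟩, s, ?_⟩
    apply (hG.bijective U hU _ (image_le_preimage U hU N'')).1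
    apply val_ext
    rintro ⟨z, hz⟩
    have hzN := mem_of_emb_mem_image (p := p) (chart := chart) U hU N'' z hz
    change rd lam' U hU (ut.app _ s) z hz = rd lam' U hU (res G _ t) z hz
    rw [rd_map hut, hs z hz, GrMod.locMap_mk, rd_res, hval z (hN''le hzN), LocalizedModule.mk_eq]
    refine ⟨1, ?_⟩
    simp only [one_smul, Submonoid.smul_def]
    change (f : 𝒮.presheaf.obj (op U)) • uAt u U m = (g * (f : 𝒮.presheaf.obj (op U))) • (a' : 𝒩.mod.val.obj (op U))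
    rw [hum, smul_smul, mul_comm]
  · refine ⟨RelProj.emb p chart U hU ''ᵁ N', hle N' le_rfl, ⟨y, hyN, rfl⟩, 0, ?_⟩
    rw [map_zero]
    symm
    apply (hG.bijective U hU _ (image_le_preimage U hU N')).1
    apply val_ext
    rintro ⟨z, hz⟩
    have hzN := mem_of_emb_mem_image (p := p) (chart := chart) U hU N' z hz
    change rd lam' U hU (res G _ t) z hz = rd lam' U hU 0 z hz
    rw [rd_res, hval z hzN, rd_zero, h0, LocalizedModule.zero_mk]

/-- S8331 -/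
theorem mono_of_TNinj (hF : RelProj.IsRelTilde 𝒮 p chart ℳ n F lam)
    (hinj : ∃ n₀ : ℕ, ∀ (U : Y.Opens) (hU : IsAffineOpen U) (k : ℕ), n₀ ≤ k →
      ∀ m ∈ ℳ.deg U hU k, (u.val.app (op U)).hom m = 0 → m = 0)
    (hut : ∀ (U : Y.Opens) (hU : IsAffineOpen U),
      ut ≫ lam' U hU =
        lam U hU ≫ (Scheme.Modules.pushforward (RelProj.emb p chart U hU)).map
          (GrMod.map (𝒮.deg U hU)
            (show ℳ.mod.val.obj (op U) →ₗ[𝒮.presheaf.obj (op U)] 𝒩.mod.val.obj (op U) from (u.val.app (op U)).hom)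
            (hu U hU) n)) : Mono ut := by
  obtain ⟨n₀, hn₀⟩ := hinj
  apply SubSh.mono_of_app_injective
  intro W
  rw [injective_iff_map_eq_zero]
  intro s hs
  apply lam_ext hF
  intro U hU
  apply val_ext
  rintro ⟨y, hy⟩
  change rd lam U hU s y hy = rd lam U hU 0 y hy
  rw [rd_zero]
  obtain ⟨N', hN, hyN, i, j, a, f, hf, hij, hval⟩ := exists_frac_rd (lam := lam) U hU s y hy
  rw [hval y hyN]
  apply mk_eq_zero_of_locMap (𝒮.deg U hU) (uAt u U) (hu U hU) n₀ (hn₀ U hU) y a.2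
  rw [← hval y hyN, ← rd_map hut U hU s y hy, hs, rd_zero]

/-- S8332 -/
theorem epi_of_TNsurj (hF : RelProj.IsRelTilde 𝒮 p chart ℳ n F lam)
    (hG : RelProj.IsRelTilde 𝒮 p chart 𝒩 n G lam')
    (hsurj : ∃ n₀ : ℕ, ∀ (U : Y.Opens) (hU : IsAffineOpen U) (k : ℕ), n₀ ≤ k →
      ∀ m' ∈ 𝒩.deg U hU k, ∃ m ∈ ℳ.deg U hU k, (u.val.app (op U)).hom m = m')
    (hut : ∀ (U : Y.Opens) (hU : IsAffineOpen U),
      ut ≫ lam' U hU =
        lam U hU ≫ (Scheme.Modules.pushforward (RelProj.emb p chart U hU)).map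
          (GrMod.map (𝒮.deg U hU)
            (show ℳ.mod.val.obj (op U) →ₗ[𝒮.presheaf.obj (op U)] 𝒩.mod.val.obj (op U) from (u.val.app (op U)).hom)
            (hu U hU) n)) : Epi ut := by
  obtain ⟨n₀, hn₀⟩ := hsurj
  apply SerreCrit.epi_of_locally_surjective
  intro W t x hx
  obtain ⟨U, hU, hxU⟩ := exists_affine_mem (p.base x)
  obtain ⟨y, rfl⟩ := exists_pt (chart := chart) x U hU hxU
  obtain ⟨W', hW', hyW', s, hs⟩ := exists_local_lift hF hG hut t U hU y hx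
    (fun a' ha' f _ => exists_lift_num (𝒮.deg U hU) (uAt u U) n₀ (hn₀ U hU) y ha')
  exact ⟨W', hW', hyW', s, hs⟩

end Main


section Ex
open Groth.Agent.Helper1.ProjBC Groth.Agent.Helper1.RP3 Groth.Agent.Helper1.QcCech Groth.Agent.Helper1.RT6
open Groth.Agent.Helper1.RT11 Groth.Agent.Helper1.RT12

variable {Y P : Scheme.{u}} {𝒮 : RelProj.QCGrAlg Y} {p : P ⟶ Y}
  {chart : ∀ (U : Y.Opens) (hU : IsAffineOpen U), ((p ⁻¹ᵁ U : P.Opens) : Scheme.{u}) ≅ Proj (𝒮.deg U hU)}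

/-- S8330 -/
theorem exact_of_exact (ℳ₁ ℳ₂ ℳ₃ : RelProj.GrModule 𝒮)
    (u : ℳ₁.mod ⟶ ℳ₂.mod) (hu : RelProj.IsGrModHom u) (v : ℳ₂.mod ⟶ ℳ₃.mod) (hv : RelProj.IsGrModHom v)
    (hex : ∀ (U : Y.Opens) (hU : IsAffineOpen U), Function.Exact (u.val.app (op U)).hom (v.val.app (op U)).hom)
    (n : ℤ) (F₁ F₂ F₃ : P.Modules)
    (lam₁ : ∀ (U : Y.Opens) (hU : IsAffineOpen U),
      F₁ ⟶ (Scheme.Modules.pushforward (RelProj.emb p chart U hU)).obj (GrMod.tilde (𝒮.deg U hU) (ℳ₁.deg U hU) n))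
    (hF₁ : RelProj.IsRelTilde 𝒮 p chart ℳ₁ n F₁ lam₁)
    (lam₂ : ∀ (U : Y.Opens) (hU : IsAffineOpen U),
      F₂ ⟶ (Scheme.Modules.pushforward (RelProj.emb p chart U hU)).obj (GrMod.tilde (𝒮.deg U hU) (ℳ₂.deg U hU) n))
    (hF₂ : RelProj.IsRelTilde 𝒮 p chart ℳ₂ n F₂ lam₂)
    (lam₃ : ∀ (U : Y.Opens) (hU : IsAffineOpen U),
      F₃ ⟶ (Scheme.Modules.pushforward (RelProj.emb p chart U hU)).obj (GrMod.tilde (𝒮.deg U hU) (ℳ₃.deg U hU) n))
    (ut : F₁ ⟶ F₂)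
    (hut : ∀ (U : Y.Opens) (hU : IsAffineOpen U),
      ut ≫ lam₂ U hU =
        lam₁ U hU ≫ (Scheme.Modules.pushforward (RelProj.emb p chart U hU)).map
          (GrMod.map (𝒮.deg U hU)
            (show ℳ₁.mod.val.obj (op U) →ₗ[𝒮.presheaf.obj (op U)] ℳ₂.mod.val.obj (op U) from (u.val.app (op U)).hom)
            (hu U hU) n))
    (vt : F₂ ⟶ F₃)
    (hvt : ∀ (U : Y.Opens) (hU : IsAffineOpen U),
      vt ≫ lam₃ U hU =
        lam₂ U hU ≫ (Scheme.Modules.pushforward (RelProj.emb p chart U hU)).map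
          (GrMod.map (𝒮.deg U hU)
            (show ℳ₂.mod.val.obj (op U) →ₗ[𝒮.presheaf.obj (op U)] ℳ₃.mod.val.obj (op U) from (v.val.app (op U)).hom)
            (hv U hU) n))
    (w : ut ≫ vt = 0) : (ShortComplex.mk ut vt w).Exact := by
  apply exact_of_locally
  intro W s hs x hx
  change vt.app W s = 0 at hs
  obtain ⟨U, hU, hxU⟩ := exists_affine_mem (p.base x)
  obtain ⟨y, rfl⟩ := exists_pt (chart := chart) x U hU hxU
  obtain ⟨W', hW', hyW', s₁, hs₁⟩ := exists_local_lift hF₁ hF₂ hut s U hU y hx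
    (fun {i} a' ha' f hval => by
      refine exists_lift_ker (𝒮.deg U hU) (uAt u U) (hu U hU) (uAt v U) (hv U hU) (hex U hU) y ha' f ?_
      rw [← hval, ← rd_map hvt U hU s y hx, hs, rd_zero])
  exact ⟨W', hW', hyW', s₁, hs₁⟩

end Ex

end Groth.Agent.Helper1.RT14
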