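import Mathlib
import Groth.Prelude.Def_RelProj3
import Groth.Agent.Lib.Helper1.GrModQC

set_option autoImplicit false
universe u

open CategoryTheory AlgebraicGeometry TopologicalSpace Opposite HomogeneousLocalization
open scoped HomogeneousIdeal

namespace Groth.Agent.Helper1.Dehom

section ring
variable {A σ : Type u} [CommRing A] [SetLike σ A] [AddSubgroupClass σ A] (𝒜 : ℕ → σ) [GradedRing 𝒜]
variable {g : A} (hg : g ∈ 𝒜 1)

/-- `a ↦ a / g^e` on the degree-`e` piece -/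
noncomputable def epsPiece (e : ℕ) : 𝒜 e →+ Away 𝒜 g where
  toFun a := Away.mk 𝒜 hg e a.1 (by simp)
  map_zero' := by
    apply HomogeneousLocalization.val_injective
    rw [Away.val_mk, HomogeneousLocalization.val_zero]
    exact Localization.mk_zero _
  map_add' a b := by
    apply HomogeneousLocalization.val_injective
    rw [HomogeneousLocalization.val_add, Away.val_mk, Away.val_mk, Away.val_mk,
      Localization.add_mk_self]
    rfl

/-- dehomogenization `A → A_(g)`, `a ↦ Σ a_e / g^e`, for `g` of degree one -/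
noncomputable def eps : A →+* Away 𝒜 g :=
  (DirectSum.toSemiring (epsPiece 𝒜 hg)
    (by
      apply HomogeneousLocalization.val_injective
      change (Away.mk 𝒜 hg 0 (1 : A) _).val = _
      rw [Away.val_mk, HomogeneousLocalization.val_one]
      simp)
    (by
      intro i j ai aj
      apply HomogeneousLocalization.val_injective
      change (Away.mk 𝒜 hg (i + j) (ai.1 * aj.1) _).val =
        ((Away.mk 𝒜 hg i ai.1 _) * (Away.mk 𝒜 hg j aj.1 _)).val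
      rw [HomogeneousLocalization.val_mul, Away.val_mk, Away.val_mk, Away.val_mk,
        Localization.mk_mul]
      congr 1
      exact Subtype.ext (pow_add g i j))).comp
  (DirectSum.decomposeRingEquiv 𝒜).toRingHom

theorem eps_of_mem {e : ℕ} {a : A} (ha : a ∈ 𝒜 e) :
    eps 𝒜 hg a = Away.mk 𝒜 hg e a (by simpa using ha) := by
  unfold eps
  rw [RingHom.comp_apply]
  change DirectSum.toSemiring _ _ _ (DirectSum.decompose 𝒜 a) = _
  rw [DirectSum.decompose_of_mem 𝒜 ha]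
  exact DirectSum.toSemiring_of _ _ _ _ _

theorem eps_self : eps 𝒜 hg g = 1 := by
  rw [eps_of_mem 𝒜 hg hg]
  apply HomogeneousLocalization.val_injective
  rw [Away.val_mk, HomogeneousLocalization.val_one]
  have : (⟨g ^ 1, ⟨1, rfl⟩⟩ : Submonoid.powers g) = ⟨g, ⟨1, pow_one g⟩⟩ := Subtype.ext (pow_one g)
  rw [this]
  exact Localization.mk_self (⟨g, ⟨1, pow_one g⟩⟩ : Submonoid.powers g)

theorem eps_surjective : Function.Surjective (eps 𝒜 hg) := by
  intro r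
  obtain ⟨k, a, ha, rfl⟩ := Away.mk_surjective 𝒜 hg r
  exact ⟨a, eps_of_mem 𝒜 hg (by simpa using ha)⟩

end ring


/-! ## abstract base change along a surjection -/

section abs
variable {A R : Type u} [CommRing A] [CommRing R] (ε : A →+* R)
  {M S : Type u} [AddCommGroup M] [Module A M] [AddCommGroup S] [Module R S] (π : M →+ S)

/-- `π : M → S` exhibits `S` as the base change of `M` along the surjection `ε` -/
structure IsQuotBC : Prop where
  semi : ∀ (a : A) (m : M), π (a • m) = ε a • π m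
  surjε : Function.Surjective ε
  surjπ : Function.Surjective π
  ker : ∀ (Q : Type u) [AddCommGroup Q] [Module R Q] (w₀ : M →+ Q),
    (∀ (a : A) (m : M), w₀ (a • m) = ε a • w₀ m) → ∀ m, π m = 0 → w₀ m = 0

variable {ε π}

theorem IsQuotBC.desc (h : IsQuotBC ε π) (Q : Type u) [AddCommGroup Q] [Module R Q] (w₀ : M →+ Q)
    (hw₀ : ∀ (a : A) (m : M), w₀ (a • m) = ε a • w₀ m) :
    ∃! w : S →ₗ[R] Q, ∀ m, w (π m) = w₀ m := by
  classical
  have hwd : ∀ m m', π m = π m' → w₀ m = w₀ m' := by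
    intro m m' hmm
    have := h.ker Q w₀ hw₀ (m - m') (by rw [map_sub, hmm, sub_self])
    rwa [map_sub, sub_eq_zero] at this
  let wf : S → Q := fun s => w₀ (h.surjπ s).choose
  have hwf : ∀ m, wf (π m) = w₀ m := fun m => hwd _ _ (h.surjπ (π m)).choose_spec
  refine ⟨{ toFun := wf, map_add' := ?_, map_smul' := ?_ }, hwf, ?_⟩
  · intro s s'
    obtain ⟨m, rfl⟩ := h.surjπ s
    obtain ⟨m', rfl⟩ := h.surjπ s'
    rw [← map_add, hwf, hwf, hwf, map_add]
  · intro r s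
    obtain ⟨m, rfl⟩ := h.surjπ s
    obtain ⟨a, rfl⟩ := h.surjε r
    rw [← h.semi, hwf, hwf, hw₀, RingHom.id_apply]
  · intro w' hw'
    apply LinearMap.ext
    intro s
    obtain ⟨m, rfl⟩ := h.surjπ s
    change w' (π m) = wf (π m)
    rw [hw', hwf]

end abs

section trans
variable {A B R R' : Type u} [CommRing A] [CommRing B] [CommRing R] [CommRing R']
  {ψ : A →+* B} {εA : A →+* R} {εB : B →+* R'} {θ : R →+* R'}
  {M N S T : Type u} [AddCommGroup M] [Module A M] [AddCommGroup N] [Module B N]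
  [AddCommGroup S] [Module R S] [AddCommGroup T] [Module R' T]
  {v : M →ₛₗ[ψ] N} {πM : M →+ S} {πN : N →+ T} {vbar : S →+ T}

theorem bc_trans (hcomm : ∀ a, θ (εA a) = εB (ψ a)) (hsq : ∀ m, vbar (πM m) = πN (v m))
    (hM : IsQuotBC εA πM) (hN : IsQuotBC εB πN)
    (hbc : ∀ (Q : Type u) [AddCommGroup Q] [Module B Q] (w : M →ₛₗ[ψ] Q),
      ∃! g : N →ₗ[B] Q, ∀ m : M, g (v m) = w m)
    (Q : Type u) [AddCommGroup Q] [Module R' Q] (w : S →+ Q)
    (hw : ∀ (r : R) (x : S), w (r • x) = θ r • w x) :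
    ∃! b : T →ₗ[R'] Q, ∀ x, b (vbar x) = w x := by
  letI instB : Module B Q := Module.compHom Q εB
  have hBsmul : ∀ (b : B) (q : Q), b • q = εB b • q := fun _ _ => rfl
  -- the semilinear map `M → Q`
  let w' : M →ₛₗ[ψ] Q :=
    { toFun := fun m => w (πM m)
      map_add' := fun m m' => by rw [map_add, map_add]
      map_smul' := fun a m => by
        rw [hM.semi, hw, hcomm]
        rfl }
  obtain ⟨g₀, hg₀, hg₀u⟩ := hbc Q w'
  -- descend `g₀` to `T`
  obtain ⟨b, hb, hbu⟩ := hN.desc Q g₀.toAddMonoidHom (fun c x => by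
    change g₀ (c • x) = εB c • g₀ x
    rw [g₀.map_smul]
    rfl)
  have hb' : ∀ x, b (πN x) = g₀ x := hb
  -- uniqueness on `S`
  letI instR : Module R Q := Module.compHom Q θ
  have key : ∀ (b' : T →ₗ[R'] Q), (∀ m, b' (vbar (πM m)) = w (πM m)) → ∀ x, b' (vbar x) = w x := by
    intro b' hb'' x
    obtain ⟨m, rfl⟩ := hM.surjπ x
    exact hb'' m
  refine ⟨b, ?_, ?_⟩
  · apply key
    intro m
    rw [hsq, hb', hg₀]
    rfl
  · intro b' hb''
    apply hbu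
    intro x
    change b' (πN x) = g₀ x
    have h1 : (b'.toAddMonoidHom.comp πN : N →+ Q) = g₀.toAddMonoidHom := by
      let g₁ : N →ₗ[B] Q :=
        { toFun := fun x => b' (πN x)
          map_add' := fun x y => by rw [map_add, map_add]
          map_smul' := fun c x => by
            rw [hN.semi, b'.map_smul]
            rfl }
      have : g₁ = g₀ := hg₀u g₁ (fun m => by
        change b' (πN (v m)) = w (πM m)
        rw [← hsq, hb''])
      rw [← this]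
      rfl
    exact DFunLike.congr_fun h1 x

end trans


/-! ## sections of `M(n)~` over `D₊(g)`, `g` of degree one -/

section sect
open Groth.Agent.Helper1.GrModQC
variable {A σ : Type u} [CommRing A] [SetLike σ A] [AddSubgroupClass σ A] (𝒜 : ℕ → σ) [GradedRing 𝒜]
variable {M τ : Type u} [AddCommGroup M] [Module A M] [SetLike τ M] [AddSubgroupClass τ M]
  (ℳ : ℕ → τ) [DirectSum.Decomposition ℳ] [SetLike.GradedSMul 𝒜 ℳ] (n : ℤ)
variable {g : A} (hg : g ∈ 𝒜 1)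

/-- the chart `D₊(g)` as the image of `Spec A_(g)` -/
noncomputable abbrev W : (Proj 𝒜).Opens := (Proj.awayι 𝒜 g hg Nat.one_pos) ''ᵁ ⊤

/-- the sections over the chart -/
abbrev Sec : Type u := Γ((GrMod.tilde 𝒜 ℳ n).restrict (Proj.awayι 𝒜 g hg Nat.one_pos), ⊤)

noncomputable instance instModSec : Module (Away 𝒜 g) (Sec 𝒜 ℳ n hg) :=
  Scheme.Modules.instModuleCarrierCarrierObjOppositeOpensCarrierCarrierCommRingCatSpecAbPresheafOp
    (R := CommRingCat.of (Away 𝒜 g))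

theorem W_eq : W 𝒜 hg = Proj.basicOpen 𝒜 g :=
  (Scheme.Hom.image_top_eq_opensRange _).trans (Proj.opensRange_awayι 𝒜 g hg Nat.one_pos)

theorem not_mem (x : W 𝒜 hg) : g ∉ x.1.asHomogeneousIdeal :=
  image_le 𝒜 g hg Nat.one_pos ⊤ x.2

theorem pow_not_mem (k : ℕ) (x : W 𝒜 hg) : g ^ k ∉ x.1.asHomogeneousIdeal :=
  fun h => not_mem 𝒜 hg x (x.1.isPrime.mem_of_pow_mem k h)

include hg in
omit [DirectSum.Decomposition ℳ] in
theorem pow_smul_mem (a : ℕ) {e : ℕ} {m : M} (hm : m ∈ ℳ e) : g ^ a • m ∈ ℳ (a + e) := by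
  have h1 : g ^ a ∈ 𝒜 a := by simpa using SetLike.pow_mem_graded a hg
  exact SetLike.GradedSMul.smul_mem h1 hm

include hg in
theorem pow_mem' (b : ℕ) : g ^ b ∈ 𝒜 b := by simpa using SetLike.pow_mem_graded b hg

/-- the section `m / g^(e-n)` for `m` of degree `e` -/
noncomputable def sec (e : ℕ) (m : ℳ e) : Sec 𝒜 ℳ n hg :=
  fracS 𝒜 ℳ n (W 𝒜 hg) (⟨g ^ (n - e).toNat • m.1, pow_smul_mem 𝒜 ℳ hg _ m.2⟩ : ℳ ((n - e).toNat + e))
    (⟨g ^ (e - n).toNat, pow_mem' 𝒜 hg _⟩ : 𝒜 ((e - n).toNat)) (by push_cast; omega)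
    (fun x => pow_not_mem 𝒜 hg _ x)

omit [DirectSum.Decomposition ℳ] in
theorem sec_val (e : ℕ) (m : ℳ e) (x : W 𝒜 hg) :
    ((((show GrMod.sect 𝒜 ℳ n (op (W 𝒜 hg)) from sec 𝒜 ℳ n hg e m)).1 x :
      GrMod.tildeAt 𝒜 ℳ n x.1) : GrMod.LocMod 𝒜 (M := M) x.1) =
    LocalizedModule.mk (g ^ (n - e).toNat • m.1) ⟨g ^ (e - n).toNat, pow_not_mem 𝒜 hg _ x⟩ := rfl

omit [DirectSum.Decomposition ℳ] in
/-- sections are determined by their values -/
theorem sec_ext {s t : Sec 𝒜 ℳ n hg}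
    (h : ∀ x : W 𝒜 hg, ((((show GrMod.sect 𝒜 ℳ n (op (W 𝒜 hg)) from s)).1 x :
      GrMod.tildeAt 𝒜 ℳ n x.1) : GrMod.LocMod 𝒜 (M := M) x.1) =
      ((((show GrMod.sect 𝒜 ℳ n (op (W 𝒜 hg)) from t)).1 x :
      GrMod.tildeAt 𝒜 ℳ n x.1) : GrMod.LocMod 𝒜 (M := M) x.1)) : s = t :=
  Subtype.ext (funext fun x => Subtype.ext (h x))


omit [DirectSum.Decomposition ℳ] in
theorem zero_val (x : W 𝒜 hg) :
    ((((show GrMod.sect 𝒜 ℳ n (op (W 𝒜 hg)) from (0 : Sec 𝒜 ℳ n hg))).1 x :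
      GrMod.tildeAt 𝒜 ℳ n x.1) : GrMod.LocMod 𝒜 (M := M) x.1) = 0 := rfl

omit [DirectSum.Decomposition ℳ] in
theorem add_val (s t : Sec 𝒜 ℳ n hg) (x : W 𝒜 hg) :
    ((((show GrMod.sect 𝒜 ℳ n (op (W 𝒜 hg)) from (s + t : Sec 𝒜 ℳ n hg))).1 x :
      GrMod.tildeAt 𝒜 ℳ n x.1) : GrMod.LocMod 𝒜 (M := M) x.1) =
    ((((show GrMod.sect 𝒜 ℳ n (op (W 𝒜 hg)) from s)).1 x :
      GrMod.tildeAt 𝒜 ℳ n x.1) : GrMod.LocMod 𝒜 (M := M) x.1) +
    ((((show GrMod.sect 𝒜 ℳ n (op (W 𝒜 hg)) from t)).1 x :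
      GrMod.tildeAt 𝒜 ℳ n x.1) : GrMod.LocMod 𝒜 (M := M) x.1) := rfl

theorem mk_add_same {R₀ M₀ : Type*} [CommRing R₀] [AddCommGroup M₀] [Module R₀ M₀] {S₀ : Submonoid R₀}
    (m m' : M₀) (s : S₀) :
    (LocalizedModule.mk (m + m') s : LocalizedModule S₀ M₀) =
      LocalizedModule.mk m s + LocalizedModule.mk m' s := by
  rw [LocalizedModule.mk_add_mk, LocalizedModule.mk_eq]
  refine ⟨1, ?_⟩
  simp only [one_smul, smul_add, mul_smul]

/-- `sec` as an additive map -/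
noncomputable def secHom (e : ℕ) : ℳ e →+ Sec 𝒜 ℳ n hg where
  toFun := sec 𝒜 ℳ n hg e
  map_zero' := by
    apply sec_ext
    intro x
    rw [sec_val, zero_val]
    simp
  map_add' m m' := by
    apply sec_ext
    intro x
    rw [add_val, sec_val, sec_val, sec_val]
    rw [AddMemClass.coe_add, smul_add]
    exact mk_add_same _ _ _

/-- dehomogenization of the module -/
noncomputable def dehom : M →+ Sec 𝒜 ℳ n hg :=
  (DirectSum.toAddMonoid (secHom 𝒜 ℳ n hg)).comp (DirectSum.decomposeAddEquiv ℳ).toAddMonoidHom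

theorem dehom_of_mem {e : ℕ} {m : M} (hm : m ∈ ℳ e) :
    dehom 𝒜 ℳ n hg m = sec 𝒜 ℳ n hg e ⟨m, hm⟩ := by
  unfold dehom
  rw [AddMonoidHom.comp_apply]
  change DirectSum.toAddMonoid _ (DirectSum.decompose ℳ m) = _
  rw [DirectSum.decompose_of_mem ℳ hm]
  exact DirectSum.toAddMonoid_of _ _ _


omit [DirectSum.Decomposition ℳ] in
theorem smul_val (r : Away 𝒜 g) (s : Sec 𝒜 ℳ n hg) (x : W 𝒜 hg) :
    ((((show GrMod.sect 𝒜 ℳ n (op (W 𝒜 hg)) from (r • s : Sec 𝒜 ℳ n hg))).1 x :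
      GrMod.tildeAt 𝒜 ℳ n x.1) : GrMod.LocMod 𝒜 (M := M) x.1) =
    (HomogeneousLocalization.mapId 𝒜 (show Submonoid.powers g ≤
      x.1.asHomogeneousIdeal.toIdeal.primeCompl from Submonoid.powers_le.mpr (not_mem 𝒜 hg x)) r).val •
    ((((show GrMod.sect 𝒜 ℳ n (op (W 𝒜 hg)) from s)).1 x :
      GrMod.tildeAt 𝒜 ℳ n x.1) : GrMod.LocMod 𝒜 (M := M) x.1) :=
  act_val 𝒜 ℳ n g hg Nat.one_pos ⊤ r s x.1 x.2 (not_mem 𝒜 hg x)

omit [DirectSum.Decomposition ℳ] in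
theorem mapId_mk_val (x : W 𝒜 hg) {d : ℕ} {a : A} (ha : a ∈ 𝒜 (d • 1)) :
    (HomogeneousLocalization.mapId 𝒜 (show Submonoid.powers g ≤
      x.1.asHomogeneousIdeal.toIdeal.primeCompl from Submonoid.powers_le.mpr (not_mem 𝒜 hg x))
        (Away.mk 𝒜 hg d a ha)).val =
    Localization.mk a (⟨g ^ d, pow_not_mem 𝒜 hg d x⟩ :
      x.1.asHomogeneousIdeal.toIdeal.primeCompl) := rfl

omit [DirectSum.Decomposition ℳ] in
theorem sec_smul {d e : ℕ} {a : A} (ha : a ∈ 𝒜 d) (m : ℳ e) :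
    sec 𝒜 ℳ n hg (d + e) ⟨a • m.1, SetLike.GradedSMul.smul_mem ha m.2⟩ =
      eps 𝒜 hg a • sec 𝒜 ℳ n hg e m := by
  apply sec_ext
  intro x
  rw [smul_val, eps_of_mem 𝒜 hg ha, mapId_mk_val, sec_val, sec_val, mk_smul_mk',
    LocalizedModule.mk_eq]
  refine ⟨1, ?_⟩
  simp only [one_smul, Submonoid.smul_def, Submonoid.coe_mul, smul_smul]
  congr 1
  have h1 : ((d + e : ℕ) - n : ℤ).toNat + (n - e).toNat = d + ((e : ℤ) - n).toNat + (n - (d + e : ℕ)).toNat := by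
    push_cast
    omega
  calc g ^ d * g ^ ((e : ℤ) - n).toNat * (g ^ (n - (d + e : ℕ)).toNat * a)
      = g ^ (d + ((e : ℤ) - n).toNat + (n - (d + e : ℕ)).toNat) * a := by rw [pow_add, pow_add]; ring
    _ = g ^ (((d + e : ℕ) - n : ℤ).toNat + (n - e).toNat) * a := by rw [h1]
    _ = g ^ ((d + e : ℕ) - n : ℤ).toNat * (a * g ^ (n - e).toNat) := by rw [pow_add]; ring


theorem dehom_smul (a : A) (m : M) :
    dehom 𝒜 ℳ n hg (a • m) = eps 𝒜 hg a • dehom 𝒜 ℳ n hg m := by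
  classical
  induction a using DirectSum.Decomposition.inductionOn 𝒜 with
  | zero => simp
  | @homogeneous d a =>
    induction m using DirectSum.Decomposition.inductionOn ℳ with
    | zero => simp
    | @homogeneous e m =>
      rw [dehom_of_mem 𝒜 ℳ n hg (SetLike.GradedSMul.smul_mem a.2 m.2), dehom_of_mem 𝒜 ℳ n hg m.2]
      exact sec_smul 𝒜 ℳ n hg a.2 m
    | add m m' h h' => rw [smul_add, map_add, h, h', map_add, smul_add]
  | add a a' h h' => rw [add_smul, map_add, h, h', map_add, add_smul]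

theorem dehom_pow_smul (k : ℕ) (m : M) :
    dehom 𝒜 ℳ n hg (g ^ k • m) = dehom 𝒜 ℳ n hg m := by
  rw [dehom_smul, map_pow, eps_self, one_pow, one_smul]

/-- every section over the chart is the dehomogenization of a homogeneous element -/
theorem dehom_surjective : Function.Surjective (dehom 𝒜 ℳ n hg) := by
  intro s
  obtain ⟨k, i, m, hi, hval⟩ := main' 𝒜 ℳ n (W 𝒜 hg) Nat.one_pos hg (W_eq 𝒜 hg)
    (show GrMod.sect 𝒜 ℳ n (op (W 𝒜 hg)) from s)
  refine ⟨m.1, ?_⟩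
  rw [dehom_of_mem 𝒜 ℳ n hg m.2]
  apply sec_ext
  intro x
  rw [sec_val]
  refine Eq.trans ?_ (hval x.1 x.2 (not_mem 𝒜 hg x)).symm
  rw [LocalizedModule.mk_eq]
  refine ⟨1, ?_⟩
  simp only [one_smul, Submonoid.smul_def, smul_smul]
  have h1 : ((i : ℤ) - n).toNat = k := by omega
  have h2 : (n - (i : ℤ)).toNat = 0 := by omega
  rw [h1, h2, pow_zero, mul_one]

include hg in
/-- homogenizing an element to a single degree -/
theorem exists_homog (m : M) : ∃ (L : ℕ) (z : M), z ∈ ℳ L ∧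
    ∀ {R₀ Q : Type u} [CommRing R₀] [AddCommGroup Q] [Module R₀ Q] (ε₀ : A →+* R₀) (w₀ : M →+ Q),
      ε₀ g = 1 → (∀ (a : A) (m : M), w₀ (a • m) = ε₀ a • w₀ m) → w₀ z = w₀ m := by
  classical
  let supp := (DirectSum.decompose ℳ m).support
  let L := supp.sup id
  refine ⟨L, ∑ e ∈ supp, g ^ (L - e) • (DirectSum.decompose ℳ m e : M), ?_, ?_⟩
  · refine sum_mem fun e he => ?_
    have hle : e ≤ L := Finset.le_sup (f := id) he
    have := pow_smul_mem 𝒜 ℳ hg (L - e) (SetLike.coe_mem (DirectSum.decompose ℳ m e))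
    rwa [Nat.sub_add_cancel hle] at this
  · intro R₀ Q _ _ _ ε₀ w₀ hε hw
    rw [map_sum]
    conv_rhs => rw [← DirectSum.sum_support_decompose ℳ m, map_sum]
    refine Finset.sum_congr rfl fun e _ => ?_
    rw [hw, map_pow, hε, one_pow, one_smul]

/-- the kernel condition -/
theorem dehom_ker (Q : Type u) [AddCommGroup Q] [Module (Away 𝒜 g) Q] (w₀ : M →+ Q)
    (hw : ∀ (a : A) (m : M), w₀ (a • m) = eps 𝒜 hg a • w₀ m) (m : M)
    (hm : dehom 𝒜 ℳ n hg m = 0) : w₀ m = 0 := by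
  obtain ⟨L, z, hz, hzw⟩ := exists_homog 𝒜 ℳ hg m
  have h1 : dehom 𝒜 ℳ n hg z = 0 := by
    rw [hzw (eps 𝒜 hg) (dehom 𝒜 ℳ n hg) (eps_self 𝒜 hg) (dehom_smul 𝒜 ℳ n hg), hm]
  rw [← hzw (eps 𝒜 hg) w₀ (eps_self 𝒜 hg) hw]
  rw [dehom_of_mem 𝒜 ℳ n hg hz] at h1
  obtain ⟨N, hN⟩ := vanish' 𝒜 ℳ (W 𝒜 hg) Nat.one_pos hg (W_eq 𝒜 hg) 0 L ⟨z, hz⟩ (by
    intro x hx hgx
    have h2 := congrArg (fun s : Sec 𝒜 ℳ n hg =>
      ((((show GrMod.sect 𝒜 ℳ n (op (W 𝒜 hg)) from s)).1 ⟨x, hx⟩ :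
        GrMod.tildeAt 𝒜 ℳ n x) : GrMod.LocMod 𝒜 (M := M) x)) h1
    simp only at h2
    rw [sec_val, zero_val, mk_eq_zero_iff'] at h2
    obtain ⟨u, hu⟩ := h2
    rw [mk_eq_zero_iff']
    refine ⟨u * ⟨g ^ (n - (L : ℤ)).toNat, pow_not_mem 𝒜 hg _ ⟨x, hx⟩⟩, ?_⟩
    rw [mul_smul]
    exact hu)
  have : w₀ (g ^ N • z) = w₀ z := by
    rw [hw, map_pow, eps_self, one_pow, one_smul]
  rw [← this, hN, map_zero]

theorem isQuotBC_dehom : IsQuotBC (eps 𝒜 hg) (dehom 𝒜 ℳ n hg) where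
  semi := dehom_smul 𝒜 ℳ n hg
  surjε := eps_surjective 𝒜 hg
  surjπ := dehom_surjective 𝒜 ℳ n hg
  ker := fun Q _ _ w₀ hw m hm => dehom_ker 𝒜 ℳ n hg Q w₀ hw m hm

end sect

end Groth.Agent.Helper1.Dehom
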