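import Mathlib
import Groth.Agent.Lib.Helper1.GrAlgG
import Groth.Agent.Lib.Helper1.GrModSect
import Groth.Agent.Lib.Helper1.ILocM

set_option autoImplicit false
universe u

open HomogeneousLocalization

namespace Groth.Agent.Helper1.FracBC

section defs
variable {A σ : Type u} [CommRing A] [SetLike σ A] [AddSubgroupClass σ A] (𝒜 : ℕ → σ) [GradedRing 𝒜]
variable {M τ : Type u} [AddCommGroup M] [Module A M] [SetLike τ M] [AddSubgroupClass τ M]
  (ℳ : ℕ → τ) [SetLike.GradedSMul 𝒜 ℳ] (n : ℤ) {f : A} {d : ℕ} (hf : f ∈ 𝒜 d)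

/-- an abstract description of the module of sections of `M(n)~` over `D₊(f)` by fractions -/
structure FracSys (S : Type u) [AddCommGroup S] [Module (Away 𝒜 f) S] where
  frac : ∀ (k i : ℕ), (i : ℤ) = k * d + n → ℳ i →+ S
  surj : ∀ s : S, ∃ (k i : ℕ) (h : (i : ℤ) = k * d + n) (m : ℳ i), frac k i h m = s
  frac_succ : ∀ (k i : ℕ) (h : (i : ℤ) = k * d + n) (h' : ((d + i : ℕ) : ℤ) = (k + 1 : ℕ) * d + n)
    (m : ℳ i), frac (k + 1) (d + i) h' ⟨f • m.1, SetLike.GradedSMul.smul_mem hf m.2⟩ = frac k i h m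
  eq_zero : ∀ (k i : ℕ) (h : (i : ℤ) = k * d + n) (m : ℳ i), frac k i h m = 0 →
    ∃ N : ℕ, f ^ N • m.1 = 0
  smul : ∀ (l : ℕ) (c : A) (hc : c ∈ 𝒜 (l • d)) (k i : ℕ) (h : (i : ℤ) = k * d + n)
    (h' : ((l • d + i : ℕ) : ℤ) = (l + k : ℕ) * d + n) (m : ℳ i),
    Away.mk 𝒜 hf l c hc • frac k i h m =
      frac (l + k) (l • d + i) h' ⟨c • m.1, SetLike.GradedSMul.smul_mem hc m.2⟩

variable {𝒜 ℳ n hf} {S : Type u} [AddCommGroup S] [Module (Away 𝒜 f) S]

theorem FracSys.frac_congr (F : FracSys 𝒜 ℳ n hf S) {k k' i i' : ℕ} (hk : k = k') (hi : i = i')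
    (h : (i : ℤ) = k * d + n) (h' : (i' : ℤ) = k' * d + n) (m : ℳ i) (m' : ℳ i')
    (hm : m.1 = m'.1) : F.frac k i h m = F.frac k' i' h' m' := by
  subst hk hi
  have : m = m' := Subtype.ext hm
  rw [this]

theorem FracSys.frac_pow (F : FracSys 𝒜 ℳ n hf S) (N k i : ℕ) (h : (i : ℤ) = k * d + n)
    (h' : ((N * d + i : ℕ) : ℤ) = (k + N : ℕ) * d + n) (m : ℳ i) (hm : f ^ N • m.1 ∈ ℳ (N * d + i)) :
    F.frac (k + N) (N * d + i) h' ⟨f ^ N • m.1, hm⟩ = F.frac k i h m := by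
  induction N with
  | zero =>
    exact F.frac_congr (by simp) (by simp) _ _ _ _ (by simp)
  | succ N ih =>
    have hN : ((N * d + i : ℕ) : ℤ) = (k + N : ℕ) * d + n := by push_cast at h' ⊢; linarith
    have hmN : f ^ N • m.1 ∈ ℳ (N * d + i) := by
      have h1 : f ^ N ∈ 𝒜 (N • d) := SetLike.pow_mem_graded N hf
      have := SetLike.GradedSMul.smul_mem h1 m.2
      simpa [smul_eq_mul] using this
    rw [← ih hN hmN]
    have h'' : ((d + (N * d + i) : ℕ) : ℤ) = ((k + N) + 1 : ℕ) * d + n := by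
      push_cast at h' ⊢; linarith
    rw [← F.frac_succ (k + N) (N * d + i) hN h'' ⟨f ^ N • m.1, hmN⟩]
    exact F.frac_congr (by ring) (by ring) _ _ _ _ (by
      change f ^ (N + 1) • m.1 = f • f ^ N • m.1
      rw [pow_succ, mul_comm, mul_smul])


include hf in
theorem FracSys.pow_smul_mem (k : ℕ) {i : ℕ} {m : M} (hm : m ∈ ℳ i) : f ^ k • m ∈ ℳ (k * d + i) := by
  have h1 : f ^ k ∈ 𝒜 (k • d) := SetLike.pow_mem_graded k hf
  have := SetLike.GradedSMul.smul_mem h1 hm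
  simpa [smul_eq_mul] using this

theorem FracSys.exists_common (F : FracSys 𝒜 ℳ n hf S) (k i : ℕ) (h : (i : ℤ) = k * d + n) (m : ℳ i)
    (k' i' : ℕ) (h' : (i' : ℤ) = k' * d + n) (m' : ℳ i') :
    ∃ (hI : ((k' * d + i : ℕ) : ℤ) = (k + k' : ℕ) * d + n) (hII : k' * d + i = k * d + i')
      (z z' : ℳ (k' * d + i)),
      F.frac (k + k') (k' * d + i) hI z = F.frac k i h m ∧
      F.frac (k + k') (k' * d + i) hI z' = F.frac k' i' h' m' ∧
      z.1 = f ^ k' • m.1 ∧ z'.1 = f ^ k • m'.1 := by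
  have hI : ((k' * d + i : ℕ) : ℤ) = (k + k' : ℕ) * d + n := by push_cast; rw [h]; ring
  have hII : k' * d + i = k * d + i' := by
    have : ((k' * d + i : ℕ) : ℤ) = ((k * d + i' : ℕ) : ℤ) := by push_cast; rw [h, h']; ring
    exact_mod_cast this
  have hz : f ^ k' • m.1 ∈ ℳ (k' * d + i) := FracSys.pow_smul_mem (hf := hf) k' m.2
  have hz' : f ^ k • m'.1 ∈ ℳ (k' * d + i) := by
    rw [hII]; exact FracSys.pow_smul_mem (hf := hf) k m'.2
  refine ⟨hI, hII, ⟨_, hz⟩, ⟨_, hz'⟩, ?_, ?_, rfl, rfl⟩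
  · exact F.frac_pow k' k i h hI m hz
  · have hI' : ((k * d + i' : ℕ) : ℤ) = (k' + k : ℕ) * d + n := by push_cast; rw [h']; ring
    rw [← F.frac_pow k k' i' h' hI' m' (FracSys.pow_smul_mem (hf := hf) k m'.2)]
    exact F.frac_congr (add_comm k k') hII _ _ _ _ rfl

end defs


section proj
variable {A σ : Type u} [CommRing A] [SetLike σ A] [AddSubgroupClass σ A] (𝒜 : ℕ → σ) [GradedRing 𝒜]
variable {M τ : Type u} [AddCommGroup M] [Module A M] [SetLike τ M] [AddSubgroupClass τ M]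
  (ℳ : ℕ → τ) [DirectSum.Decomposition ℳ] [SetLike.GradedSMul 𝒜 ℳ]

/-- projection to the degree `i` piece -/
noncomputable def prS (i : ℕ) : M →+ ℳ i :=
  AddMonoidHom.mk' (fun x => ⟨GrAlgG.pr ℳ i x, SetLike.coe_mem _⟩) (by
    intro a b
    apply Subtype.ext
    change GrAlgG.pr ℳ i (a + b) = GrAlgG.pr ℳ i a + GrAlgG.pr ℳ i b
    exact map_add _ a b)

theorem prS_coe (i : ℕ) (x : M) : ((prS ℳ i x : ℳ i) : M) = GrAlgG.pr ℳ i x := rfl

theorem prS_of_mem {i : ℕ} {x : M} (hx : x ∈ ℳ i) : prS ℳ i x = ⟨x, hx⟩ :=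
  Subtype.ext (GrAlgG.pr_of_mem_same ℳ hx)

theorem prS_smul {e : ℕ} {c : A} (hc : c ∈ 𝒜 e) (i : ℕ) (x : M) :
    ((prS ℳ (e + i) (c • x) : ℳ (e + i)) : M) = c • ((prS ℳ i x : ℳ i) : M) :=
  GrModSect.pr_smul_left 𝒜 ℳ hc i x

theorem prS_smul_zero {c : A} (hc : c ∈ 𝒜 0) (i : ℕ) (x : M) :
    ((prS ℳ i (c • x) : ℳ i) : M) = c • ((prS ℳ i x : ℳ i) : M) := by
  have := GrModSect.pr_smul_left 𝒜 ℳ hc i x
  rw [zero_add] at this
  exact this

end proj


section main
variable {R' R : Type u} [CommRing R'] [CommRing R] (ρ : R' →+* R)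
variable {B σ' : Type u} [CommRing B] [SetLike σ' B] [AddSubgroupClass σ' B] {ℬ : ℕ → σ'} [GradedRing ℬ]
variable {A σ : Type u} [CommRing A] [SetLike σ A] [AddSubgroupClass σ A] {𝒜 : ℕ → σ} [GradedRing 𝒜]
variable (φ : ℬ →+*ᵍ 𝒜) (σB : R' →+* B) (σA : R →+* A)
  (hσB : ∀ r', σB r' ∈ ℬ 0) (hσA : ∀ r, σA r ∈ 𝒜 0) (hcomm : ∀ r', φ (σB r') = σA (ρ r'))
variable {M τ : Type u} [AddCommGroup M] [Module B M] [SetLike τ M] [AddSubgroupClass τ M]
  {ℳ : ℕ → τ} [DirectSum.Decomposition ℳ] [SetLike.GradedSMul ℬ ℳ]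
variable {N τ' : Type u} [AddCommGroup N] [Module A N] [SetLike τ' N] [AddSubgroupClass τ' N]
  {𝒩 : ℕ → τ'} [DirectSum.Decomposition 𝒩] [SetLike.GradedSMul 𝒜 𝒩]
variable (v : M →ₛₗ[φ.toRingHom] N) (hv : ∀ (i : ℕ) (m : M), m ∈ ℳ i → v m ∈ 𝒩 i)
variable {n : ℤ} {f : B} {d : ℕ} (hf : f ∈ ℬ d)

/-- the structure map `R → A_(f)` -/
noncomputable def iota {A σ : Type u} [CommRing A] [SetLike σ A] [AddSubgroupClass σ A] {𝒜 : ℕ → σ}
    [GradedRing 𝒜] {R : Type u} [CommRing R] (σA : R →+* A) (hσA : ∀ r, σA r ∈ 𝒜 0) (f : A) :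
    R →+* Away 𝒜 f :=
  (fromZeroRingHom 𝒜 (Submonoid.powers f)).comp
    (σA.codRestrict (SetLike.GradeZero.subring 𝒜) hσA)

theorem iota_eq {A σ : Type u} [CommRing A] [SetLike σ A] [AddSubgroupClass σ A] {𝒜 : ℕ → σ}
    [GradedRing 𝒜] {R : Type u} [CommRing R] (σA : R →+* A) (hσA : ∀ r, σA r ∈ 𝒜 0) {f : A} {d : ℕ}
    (hf : f ∈ 𝒜 d) (r : R) :
    iota σA hσA f r = Away.mk 𝒜 hf 0 (σA r) (by simpa using hσA r) := by
  apply HomogeneousLocalization.val_injective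
  rw [Away.val_mk]
  change Localization.mk (σA r) 1 = _
  congr 1
  exact Subtype.ext (pow_zero f).symm

include hcomm hf in
theorem map_iota (r' : R') :
    Away.map φ f (iota σB hσB f r') = iota σA hσA (φ f) (ρ r') := by
  rw [iota_eq σB hσB hf, Away.map_mk]
  refine Eq.trans ?_ (iota_eq σA hσA (φ.map_mem hf) (ρ r')).symm
  congr 1
  exact hcomm r'


include hcomm hv hσA hσB in
set_option maxHeartbeats 1600000 in
theorem isBC_of_baseChange
    {S T : Type u} [AddCommGroup S] [Module (Away ℬ f) S] [AddCommGroup T] [Module (Away 𝒜 (φ f)) T]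
    (FS : FracSys ℬ ℳ n hf S) (FT : FracSys 𝒜 𝒩 n (φ.map_mem hf) T)
    (vbar : S →+ T)
    (hvbar : ∀ (k i : ℕ) (h : (i : ℤ) = k * d + n) (m : ℳ i),
      vbar (FS.frac k i h m) = FT.frac k i h ⟨v m.1, hv i _ m.2⟩)
    (hBCmod : ∀ (Q' : Type u) [AddCommGroup Q'] [Module R Q'] (g : M →+ Q'),
      (∀ (r' : R') (m : M), g (σB r' • m) = ρ r' • g m) →
      ∃! gt : N →+ Q', (∀ (r : R) (y : N), gt (σA r • y) = r • gt y) ∧ ∀ m, gt (v m) = g m)
    (hgen : ∀ (j : ℕ) (c : A), c ∈ 𝒜 j →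
      c ∈ AddSubgroup.closure {c' : A | ∃ (r : R) (x : B), x ∈ ℬ j ∧ c' = σA r * φ x})
    (Q : Type u) [AddCommGroup Q] [Module (Away 𝒜 (φ f)) Q] (w : S →+ Q)
    (hw : ∀ (r : Away ℬ f) (s : S), w (r • s) = Away.map φ f r • w s) :
    ∃! b : T →ₗ[Away 𝒜 (φ f)] Q, ∀ s, b (vbar s) = w s := by
  classical
  letI instRQ : Module R Q := Module.compHom Q (iota σA hσA (φ f))
  have hRQ : ∀ (r : R) (q : Q), r • q = iota σA hσA (φ f) r • q := fun _ _ => rfl
  have hφf : φ f ∈ 𝒜 d := φ.map_mem hf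
  -- the maps `G k i`
  let G : ℕ → ℕ → (M →+ Q) := fun k i =>
    if h : (i : ℤ) = k * d + n then w.comp ((FS.frac k i h).comp (prS ℳ i)) else 0
  have hG : ∀ (k i : ℕ) (h : (i : ℤ) = k * d + n) (m : M),
      G k i m = w (FS.frac k i h (prS ℳ i m)) := by
    intro k i h m
    simp only [G, dif_pos h]
    rfl
  have hG0 : ∀ (k i : ℕ) (_ : ¬ (i : ℤ) = k * d + n) (m : M), G k i m = 0 := by
    intro k i h m
    simp only [G, dif_neg h]
    rfl
  -- scalars from the base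
  have hFSι : ∀ (k i : ℕ) (h : (i : ℤ) = k * d + n) (r' : R') (m : ℳ i)
      (hm : σB r' • m.1 ∈ ℳ i),
      FS.frac k i h ⟨σB r' • m.1, hm⟩ = iota σB hσB f r' • FS.frac k i h m := by
    intro k i h r' m hm
    rw [iota_eq σB hσB hf]
    rw [FS.smul 0 (σB r') (by simpa using hσB r') k i h (by simpa using h) m]
    exact FS.frac_congr (by simp) (by simp) _ _ _ _ rfl
  have hFTι : ∀ (k i : ℕ) (h : (i : ℤ) = k * d + n) (r : R) (y : 𝒩 i)
      (hy : σA r • y.1 ∈ 𝒩 i),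
      FT.frac k i h ⟨σA r • y.1, hy⟩ = iota σA hσA (φ f) r • FT.frac k i h y := by
    intro k i h r y hy
    rw [iota_eq σA hσA hφf]
    rw [FT.smul 0 (σA r) (by simpa using hσA r) k i h (by simpa using h) y]
    exact FT.frac_congr (by simp) (by simp) _ _ _ _ rfl
  have hGlin : ∀ (k i : ℕ) (r' : R') (m : M), G k i (σB r' • m) = ρ r' • G k i m := by
    intro k i r' m
    by_cases h : (i : ℤ) = k * d + n
    · rw [hG k i h, hG k i h]
      have hmem : σB r' • (prS ℳ i m).1 ∈ ℳ i := by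
        have := SetLike.GradedSMul.smul_mem (hσB r') (prS ℳ i m).2
        simpa using this
      have : prS ℳ i (σB r' • m) = ⟨σB r' • (prS ℳ i m).1, hmem⟩ :=
        Subtype.ext (prS_smul_zero ℬ ℳ (hσB r') i m)
      rw [this, hFSι k i h r' _ hmem, hw, map_iota ρ φ σB σA hσB hσA hcomm hf, hRQ]
    · rw [hG0 k i h, hG0 k i h, smul_zero]
  choose Gt hGt using fun k i => hBCmod Q (G k i) (hGlin k i)
  have hGtlin : ∀ (k i : ℕ) (r : R) (y : N), Gt k i (σA r • y) = r • Gt k i y :=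
    fun k i => (hGt k i).1.1
  have hGtv : ∀ (k i : ℕ) (m : M), Gt k i (v m) = G k i m := fun k i => (hGt k i).1.2
  -- uniqueness principle
  have huniq : ∀ (g : M →+ Q) (hg : ∀ (r' : R') (m : M), g (σB r' • m) = ρ r' • g m)
      (g₁ g₂ : N →+ Q), (∀ (r : R) (y : N), g₁ (σA r • y) = r • g₁ y) → (∀ m, g₁ (v m) = g m) →
      (∀ (r : R) (y : N), g₂ (σA r • y) = r • g₂ y) → (∀ m, g₂ (v m) = g m) → g₁ = g₂ := by
    intro g hg g₁ g₂ h1 h1' h2 h2'
    exact (hBCmod Q g hg).unique ⟨h1, h1'⟩ ⟨h2, h2'⟩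
  -- Lemma B
  have hB : ∀ (k i : ℕ) (_ : (i : ℤ) = k * d + n) (y : N),
      Gt (k + 1) (d + i) (φ f • y) = Gt k i y := by
    intro k i h y
    have h' : ((d + i : ℕ) : ℤ) = (k + 1 : ℕ) * d + n := by push_cast; rw [h]; ring
    let g₁ : N →+ Q := (Gt (k + 1) (d + i)).comp (DistribSMul.toAddMonoidHom N (φ f))
    have : g₁ = Gt k i := by
      refine huniq (G k i) (hGlin k i) g₁ (Gt k i) ?_ ?_ (hGtlin k i) (hGtv k i)
      · intro r y
        change Gt (k + 1) (d + i) (φ f • σA r • y) = r • Gt (k + 1) (d + i) (φ f • y)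
        rw [smul_comm, hGtlin]
      · intro m
        change Gt (k + 1) (d + i) (φ f • v m) = G k i m
        have e1 : φ f • v m = v (f • m) := (v.map_smulₛₗ f m).symm
        rw [e1, hGtv, hG (k + 1) (d + i) h', hG k i h]
        congr 1
        have hmem : f • (prS ℳ i m).1 ∈ ℳ (d + i) := SetLike.GradedSMul.smul_mem hf (prS ℳ i m).2
        have : prS ℳ (d + i) (f • m) = ⟨f • (prS ℳ i m).1, hmem⟩ :=
          Subtype.ext (prS_smul ℬ ℳ hf i m)
        rw [this]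
        exact FS.frac_succ k i h h' (prS ℳ i m)
    exact DFunLike.congr_fun this y
  have hB' : ∀ (K k i : ℕ) (_ : (i : ℤ) = k * d + n) (y : N),
      Gt (k + K) (K * d + i) (φ f ^ K • y) = Gt k i y := by
    intro K
    induction K with
    | zero =>
      intro k i h y
      simp only [Nat.zero_mul, zero_add, add_zero, pow_zero, one_smul]
    | succ K ih =>
      intro k i h y
      have hK : ((K * d + i : ℕ) : ℤ) = (k + K : ℕ) * d + n := by push_cast; rw [h]; ring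
      rw [← ih k i h y, ← hB (k + K) (K * d + i) hK (φ f ^ K • y)]
      have e1 : k + (K + 1) = k + K + 1 := by ring
      have e2 : (K + 1) * d + i = d + (K * d + i) := by ring
      rw [e1, e2, pow_succ, mul_smul, smul_comm]
  -- Lemma C
  have hC : ∀ (k i : ℕ) (h : (i : ℤ) = k * d + n) (y : 𝒩 i), FT.frac k i h y = 0 → Gt k i y.1 = 0 := by
    intro k i h y hy
    obtain ⟨K, hK⟩ := FT.eq_zero k i h y hy
    have hK' : φ f ^ K • y.1 = 0 := hK
    rw [← hB' K k i h y.1, hK', map_zero]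
  -- Lemma D: well-definedness
  have hD : ∀ (k i : ℕ) (h : (i : ℤ) = k * d + n) (y : 𝒩 i) (k' i' : ℕ) (h' : (i' : ℤ) = k' * d + n)
      (y' : 𝒩 i'), FT.frac k i h y = FT.frac k' i' h' y' → Gt k i y.1 = Gt k' i' y'.1 := by
    intro k i h y k' i' h' y' heq
    obtain ⟨hI, hII, z, z', hz, hz', hz1, hz1'⟩ := FT.exists_common k i h y k' i' h' y'
    have h0 : FT.frac (k + k') (k' * d + i) hI (z - z') = 0 := by
      rw [map_sub, hz, hz', heq, sub_self]
    have h1 := hC (k + k') (k' * d + i) hI (z - z') h0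
    rw [AddSubgroupClass.coe_sub, map_sub, sub_eq_zero] at h1
    have e1 : Gt (k + k') (k' * d + i) z.1 = Gt k i y.1 := by
      have hz1'' : z.1 = φ f ^ k' • y.1 := hz1
      rw [hz1'']
      exact hB' k' k i h y.1
    have e2 : Gt (k + k') (k' * d + i) z'.1 = Gt k' i' y'.1 := by
      have hz1'' : z'.1 = φ f ^ k • y'.1 := hz1'
      rw [hz1'', hII, add_comm k k']
      exact hB' k k' i' h' y'.1
    rw [← e1, ← e2, h1]
  -- the map `b`
  let bf : T → Q := fun t => Gt (FT.surj t).choose (FT.surj t).choose_spec.choose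
    (FT.surj t).choose_spec.choose_spec.choose_spec.choose.1
  have hbf : ∀ (k i : ℕ) (h : (i : ℤ) = k * d + n) (y : 𝒩 i), bf (FT.frac k i h y) = Gt k i y.1 := by
    intro k i h y
    exact hD _ _ (FT.surj (FT.frac k i h y)).choose_spec.choose_spec.choose _ k i h y
      (FT.surj (FT.frac k i h y)).choose_spec.choose_spec.choose_spec.choose_spec
  have hbf_add : ∀ t t' : T, bf (t + t') = bf t + bf t' := by
    intro t t'
    obtain ⟨k, i, h, y, rfl⟩ := FT.surj t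
    obtain ⟨k', i', h', y', rfl⟩ := FT.surj t'
    obtain ⟨hI, hII, z, z', hz, hz', -, -⟩ := FT.exists_common k i h y k' i' h' y'
    rw [← hz, ← hz', ← map_add, hbf, hbf, hbf, AddMemClass.coe_add, map_add]
  -- Lemma E: compatibility with the `Away`-action
  have hE1 : ∀ (l : ℕ) (x : B) (hx : x ∈ ℬ (l • d)) (k i : ℕ) (_ : (i : ℤ) = k * d + n) (y : N),
      Gt (l + k) (l • d + i) (φ x • y) = Away.mk 𝒜 hφf l (φ x) (φ.map_mem hx) • Gt k i y := by
    intro l x hx k i h y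
    have h' : ((l • d + i : ℕ) : ℤ) = (l + k : ℕ) * d + n := by
      rw [smul_eq_mul]; push_cast; rw [h]; ring
    let g : M →+ Q := (DistribSMul.toAddMonoidHom Q (Away.mk 𝒜 hφf l (φ x) (φ.map_mem hx))).comp (G k i)
    have hg : ∀ (r' : R') (m : M), g (σB r' • m) = ρ r' • g m := by
      intro r' m
      change Away.mk 𝒜 hφf l (φ x) (φ.map_mem hx) • G k i (σB r' • m) =
        ρ r' • Away.mk 𝒜 hφf l (φ x) (φ.map_mem hx) • G k i m
      rw [hGlin, hRQ, hRQ, smul_comm]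
    let g₁ : N →+ Q := (Gt (l + k) (l • d + i)).comp (DistribSMul.toAddMonoidHom N (φ x))
    let g₂ : N →+ Q :=
      (DistribSMul.toAddMonoidHom Q (Away.mk 𝒜 hφf l (φ x) (φ.map_mem hx))).comp (Gt k i)
    have : g₁ = g₂ := by
      refine huniq g hg g₁ g₂ ?_ ?_ ?_ ?_
      · intro r y
        change Gt (l + k) (l • d + i) (φ x • σA r • y) = r • Gt (l + k) (l • d + i) (φ x • y)
        rw [smul_comm, hGtlin]
      · intro m
        change Gt (l + k) (l • d + i) (φ x • v m) = Away.mk 𝒜 hφf l (φ x) (φ.map_mem hx) • G k i m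
        have e1 : φ x • v m = v (x • m) := (v.map_smulₛₗ x m).symm
        rw [e1, hGtv, hG (l + k) (l • d + i) h', hG k i h]
        have hmem : x • (prS ℳ i m).1 ∈ ℳ (l • d + i) := SetLike.GradedSMul.smul_mem hx (prS ℳ i m).2
        have e2 : prS ℳ (l • d + i) (x • m) = ⟨x • (prS ℳ i m).1, hmem⟩ :=
          Subtype.ext (prS_smul ℬ ℳ hx i m)
        rw [e2, ← FS.smul l x hx k i h h' (prS ℳ i m), hw, Away.map_mk]
      · intro r y
        change Away.mk 𝒜 hφf l (φ x) (φ.map_mem hx) • Gt k i (σA r • y) =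
          r • Away.mk 𝒜 hφf l (φ x) (φ.map_mem hx) • Gt k i y
        rw [hGtlin, hRQ, hRQ, smul_comm]
      · intro m
        change Away.mk 𝒜 hφf l (φ x) (φ.map_mem hx) • Gt k i (v m) = _
        rw [hGtv]
        rfl
    exact DFunLike.congr_fun this y
  have hE : ∀ (l : ℕ) (c : A) (hc : c ∈ 𝒜 (l • d)) (k i : ℕ) (_ : (i : ℤ) = k * d + n) (y : N),
      Gt (l + k) (l • d + i) (c • y) = Away.mk 𝒜 hφf l c hc • Gt k i y := by
    intro l c hc k i h y
    have hP : ∃ hc' : c ∈ 𝒜 (l • d),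
        Gt (l + k) (l • d + i) (c • y) = Away.mk 𝒜 hφf l c hc' • Gt k i y := by
      refine AddSubgroup.closure_induction (p := fun c _ => ∃ hc' : c ∈ 𝒜 (l • d),
        Gt (l + k) (l • d + i) (c • y) = Away.mk 𝒜 hφf l c hc' • Gt k i y) ?_ ?_ ?_ ?_
        (hgen (l • d) c hc)
      · rintro _ ⟨r, x, hx, rfl⟩
        have hmem : σA r * φ x ∈ 𝒜 (l • d) := by
          have := SetLike.mul_mem_graded (hσA r) (φ.map_mem hx)
          simpa using this
        refine ⟨hmem, ?_⟩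
        rw [mul_smul, hGtlin, hE1 l x hx k i h y, hRQ, ← mul_smul]
        congr 1
        rw [iota_eq σA hσA hφf]
        apply HomogeneousLocalization.val_injective
        rw [HomogeneousLocalization.val_mul, Away.val_mk, Away.val_mk, Away.val_mk,
          Localization.mk_mul]
        congr 1
        exact Subtype.ext (by simp)
      · refine ⟨zero_mem _, ?_⟩
        have : Away.mk 𝒜 hφf l 0 (zero_mem _) = 0 := by
          apply HomogeneousLocalization.val_injective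
          rw [Away.val_mk, HomogeneousLocalization.val_zero, Localization.mk_zero]
        rw [this, zero_smul, zero_smul, map_zero]
      · rintro c₁ c₂ _ _ ⟨h1, e1⟩ ⟨h2, e2⟩
        refine ⟨add_mem h1 h2, ?_⟩
        have : Away.mk 𝒜 hφf l (c₁ + c₂) (add_mem h1 h2) =
            Away.mk 𝒜 hφf l c₁ h1 + Away.mk 𝒜 hφf l c₂ h2 := by
          apply HomogeneousLocalization.val_injective
          rw [HomogeneousLocalization.val_add, Away.val_mk, Away.val_mk, Away.val_mk,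
            Localization.add_mk_self]
        rw [this, add_smul, add_smul, map_add, e1, e2]
      · rintro c₁ _ ⟨h1, e1⟩
        refine ⟨neg_mem h1, ?_⟩
        have : Away.mk 𝒜 hφf l (-c₁) (neg_mem h1) = - Away.mk 𝒜 hφf l c₁ h1 := by
          apply HomogeneousLocalization.val_injective
          rw [HomogeneousLocalization.val_neg, Away.val_mk, Away.val_mk, Localization.neg_mk]
        rw [this, neg_smul, neg_smul, map_neg, e1]
    obtain ⟨_, e⟩ := hP
    exact e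
  have hbf_smul : ∀ (r : Away 𝒜 (φ f)) (t : T), bf (r • t) = r • bf t := by
    intro r t
    obtain ⟨l, c, hc, rfl⟩ := Away.mk_surjective 𝒜 hφf r
    obtain ⟨k, i, h, y, rfl⟩ := FT.surj t
    have h' : ((l • d + i : ℕ) : ℤ) = (l + k : ℕ) * d + n := by
      rw [smul_eq_mul]; push_cast; rw [h]; ring
    rw [FT.smul l c hc k i h h' y, hbf, hbf]
    exact hE l c hc k i h y.1
  let b : T →ₗ[Away 𝒜 (φ f)] Q :=
    { toFun := bf
      map_add' := hbf_add
      map_smul' := hbf_smul }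
  have hb : ∀ (k i : ℕ) (h : (i : ℤ) = k * d + n) (y : 𝒩 i), b (FT.frac k i h y) = Gt k i y.1 := hbf
  refine ⟨b, ?_, ?_⟩
  · intro s
    obtain ⟨k, i, h, m, rfl⟩ := FS.surj s
    rw [hvbar, hb, hGtv, hG k i h, prS_of_mem ℳ m.2]
  · intro b' hb'
    apply LinearMap.ext
    intro t
    obtain ⟨k, i, h, y, rfl⟩ := FT.surj t
    rw [hb]
    let g' : N →+ Q := (b'.toAddMonoidHom.comp (FT.frac k i h)).comp (prS 𝒩 i)
    have : g' = Gt k i := by
      refine huniq (G k i) (hGlin k i) g' (Gt k i) ?_ ?_ (hGtlin k i) (hGtv k i)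
      · intro r y'
        change b' (FT.frac k i h (prS 𝒩 i (σA r • y'))) = r • b' (FT.frac k i h (prS 𝒩 i y'))
        have hmem : σA r • (prS 𝒩 i y').1 ∈ 𝒩 i := by
          have := SetLike.GradedSMul.smul_mem (hσA r) (prS 𝒩 i y').2
          simpa using this
        have : prS 𝒩 i (σA r • y') = ⟨σA r • (prS 𝒩 i y').1, hmem⟩ :=
          Subtype.ext (prS_smul_zero 𝒜 𝒩 (hσA r) i y')
        rw [this, hFTι k i h r _ hmem, b'.map_smul, hRQ]
      · intro m
        change b' (FT.frac k i h (prS 𝒩 i (v m))) = G k i m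
        have : prS 𝒩 i (v m) = ⟨v (prS ℳ i m).1, hv i _ (prS ℳ i m).2⟩ := by
          apply Subtype.ext
          change GrAlgG.pr 𝒩 i (v m) = v (GrAlgG.pr ℳ i m)
          exact (ILocM.map_decompose hv m i).symm
        rw [this, ← hvbar, hb', hG k i h]
    have e := DFunLike.congr_fun this y.1
    change b' (FT.frac k i h (prS 𝒩 i y.1)) = Gt k i y.1 at e
    rw [prS_of_mem 𝒩 y.2] at e
    exact e

end main

end Groth.Agent.Helper1.FracBC
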