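import Mathlib
import Groth.Prelude.Def_RelProj3
import Groth.Agent.Lib.Helper1.GrModQC
import Groth.Agent.Lib.Helper1.FracBC
import Groth.Agent.Lib.Helper1.Dehom

set_option autoImplicit false
universe u

open CategoryTheory AlgebraicGeometry TopologicalSpace Opposite HomogeneousLocalization
open scoped HomogeneousIdeal

namespace Groth.Agent.Helper1.FracSec

open Groth.Agent.Helper1.GrModQC Groth.Agent.Helper1.FracBC

variable {A σ : Type u} [CommRing A] [SetLike σ A] [AddSubgroupClass σ A] (𝒜 : ℕ → σ) [GradedRing 𝒜]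
variable {M τ : Type u} [AddCommGroup M] [Module A M] [SetLike τ M] [AddSubgroupClass τ M]
  (ℳ : ℕ → τ) [DirectSum.Decomposition ℳ] [SetLike.GradedSMul 𝒜 ℳ] (n : ℤ)
variable {f : A} {d : ℕ} (hf : f ∈ 𝒜 d) (hd : 0 < d)

/-- the chart `D₊(f)` as the image of `Spec A_(f)` -/
noncomputable abbrev W : (Proj 𝒜).Opens := (Proj.awayι 𝒜 f hf hd) ''ᵁ ⊤

/-- the sections over the chart -/
abbrev Sec : Type u := Γ((GrMod.tilde 𝒜 ℳ n).restrict (Proj.awayι 𝒜 f hf hd), ⊤)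

noncomputable instance instModSec : Module (Away 𝒜 f) (Sec 𝒜 ℳ n hf hd) :=
  Scheme.Modules.instModuleCarrierCarrierObjOppositeOpensCarrierCarrierCommRingCatSpecAbPresheafOp
    (R := CommRingCat.of (Away 𝒜 f))

theorem W_eq : W 𝒜 hf hd = Proj.basicOpen 𝒜 f :=
  (Scheme.Hom.image_top_eq_opensRange _).trans (Proj.opensRange_awayι 𝒜 f hf hd)

theorem not_mem (x : W 𝒜 hf hd) : f ∉ x.1.asHomogeneousIdeal :=
  image_le 𝒜 f hf hd ⊤ x.2

theorem pow_not_mem (k : ℕ) (x : W 𝒜 hf hd) : f ^ k ∉ x.1.asHomogeneousIdeal :=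
  fun h => not_mem 𝒜 hf hd x (x.1.isPrime.mem_of_pow_mem k h)

/-- the section `m / f^k` -/
noncomputable def fracFun (k i : ℕ) (h : (i : ℤ) = k * d + n) (m : ℳ i) : Sec 𝒜 ℳ n hf hd :=
  fracS 𝒜 ℳ n (W 𝒜 hf hd) m (⟨f ^ k, SetLike.pow_mem_graded k hf⟩ : 𝒜 (k • d))
    (by rw [h, smul_eq_mul]; push_cast; ring) (fun x => pow_not_mem 𝒜 hf hd k x)

omit [DirectSum.Decomposition ℳ] in
theorem fracFun_val (k i : ℕ) (h : (i : ℤ) = k * d + n) (m : ℳ i) (x : W 𝒜 hf hd) :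
    ((((show GrMod.sect 𝒜 ℳ n (op (W 𝒜 hf hd)) from fracFun 𝒜 ℳ n hf hd k i h m)).1 x :
      GrMod.tildeAt 𝒜 ℳ n x.1) : GrMod.LocMod 𝒜 (M := M) x.1) =
    LocalizedModule.mk m.1 ⟨f ^ k, pow_not_mem 𝒜 hf hd k x⟩ := rfl

omit [DirectSum.Decomposition ℳ] in
theorem sec_ext {s t : Sec 𝒜 ℳ n hf hd}
    (h : ∀ x : W 𝒜 hf hd, ((((show GrMod.sect 𝒜 ℳ n (op (W 𝒜 hf hd)) from s)).1 x :
      GrMod.tildeAt 𝒜 ℳ n x.1) : GrMod.LocMod 𝒜 (M := M) x.1) =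
      ((((show GrMod.sect 𝒜 ℳ n (op (W 𝒜 hf hd)) from t)).1 x :
      GrMod.tildeAt 𝒜 ℳ n x.1) : GrMod.LocMod 𝒜 (M := M) x.1)) : s = t :=
  Subtype.ext (funext fun x => Subtype.ext (h x))

omit [DirectSum.Decomposition ℳ] in
theorem zero_val (x : W 𝒜 hf hd) :
    ((((show GrMod.sect 𝒜 ℳ n (op (W 𝒜 hf hd)) from (0 : Sec 𝒜 ℳ n hf hd))).1 x :
      GrMod.tildeAt 𝒜 ℳ n x.1) : GrMod.LocMod 𝒜 (M := M) x.1) = 0 := rfl

omit [DirectSum.Decomposition ℳ] in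
theorem add_val (s t : Sec 𝒜 ℳ n hf hd) (x : W 𝒜 hf hd) :
    ((((show GrMod.sect 𝒜 ℳ n (op (W 𝒜 hf hd)) from (s + t : Sec 𝒜 ℳ n hf hd))).1 x :
      GrMod.tildeAt 𝒜 ℳ n x.1) : GrMod.LocMod 𝒜 (M := M) x.1) =
    ((((show GrMod.sect 𝒜 ℳ n (op (W 𝒜 hf hd)) from s)).1 x :
      GrMod.tildeAt 𝒜 ℳ n x.1) : GrMod.LocMod 𝒜 (M := M) x.1) +
    ((((show GrMod.sect 𝒜 ℳ n (op (W 𝒜 hf hd)) from t)).1 x :
      GrMod.tildeAt 𝒜 ℳ n x.1) : GrMod.LocMod 𝒜 (M := M) x.1) := rfl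

omit [DirectSum.Decomposition ℳ] in
theorem smul_val (r : Away 𝒜 f) (s : Sec 𝒜 ℳ n hf hd) (x : W 𝒜 hf hd) :
    ((((show GrMod.sect 𝒜 ℳ n (op (W 𝒜 hf hd)) from (r • s : Sec 𝒜 ℳ n hf hd))).1 x :
      GrMod.tildeAt 𝒜 ℳ n x.1) : GrMod.LocMod 𝒜 (M := M) x.1) =
    (HomogeneousLocalization.mapId 𝒜 (show Submonoid.powers f ≤
      x.1.asHomogeneousIdeal.toIdeal.primeCompl from Submonoid.powers_le.mpr (not_mem 𝒜 hf hd x)) r).val •
    ((((show GrMod.sect 𝒜 ℳ n (op (W 𝒜 hf hd)) from s)).1 x :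
      GrMod.tildeAt 𝒜 ℳ n x.1) : GrMod.LocMod 𝒜 (M := M) x.1) :=
  act_val 𝒜 ℳ n f hf hd ⊤ r s x.1 x.2 (not_mem 𝒜 hf hd x)

omit [DirectSum.Decomposition ℳ] in
theorem mapId_mk_val (x : W 𝒜 hf hd) {l : ℕ} {a : A} (ha : a ∈ 𝒜 (l • d)) :
    (HomogeneousLocalization.mapId 𝒜 (show Submonoid.powers f ≤
      x.1.asHomogeneousIdeal.toIdeal.primeCompl from Submonoid.powers_le.mpr (not_mem 𝒜 hf hd x))
        (Away.mk 𝒜 hf l a ha)).val =
    Localization.mk a (⟨f ^ l, pow_not_mem 𝒜 hf hd l x⟩ :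
      x.1.asHomogeneousIdeal.toIdeal.primeCompl) := rfl

/-- `fracFun` as an additive map -/
noncomputable def fracHom (k i : ℕ) (h : (i : ℤ) = k * d + n) : ℳ i →+ Sec 𝒜 ℳ n hf hd where
  toFun := fracFun 𝒜 ℳ n hf hd k i h
  map_zero' := by
    apply sec_ext
    intro x
    rw [fracFun_val, zero_val]
    simp
  map_add' m m' := by
    apply sec_ext
    intro x
    rw [add_val, fracFun_val, fracFun_val, fracFun_val, AddMemClass.coe_add]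
    exact Dehom.mk_add_same _ _ _

/-- the sections over `D₊(f)` form a fraction system -/
noncomputable def fracSys : FracSys 𝒜 ℳ n hf (Sec 𝒜 ℳ n hf hd) where
  frac := fracHom 𝒜 ℳ n hf hd
  surj := by
    intro s
    obtain ⟨k, i, m, hi, hval⟩ := main' 𝒜 ℳ n (W 𝒜 hf hd) hd hf (W_eq 𝒜 hf hd)
      (show GrMod.sect 𝒜 ℳ n (op (W 𝒜 hf hd)) from s)
    refine ⟨k, i, hi, m, ?_⟩
    apply sec_ext
    intro x
    exact (hval x.1 x.2 (not_mem 𝒜 hf hd x)).symm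
  frac_succ := by
    intro k i h h' m
    apply sec_ext
    intro x
    change LocalizedModule.mk (f • m.1) ⟨f ^ (k + 1), _⟩ = LocalizedModule.mk m.1 ⟨f ^ k, _⟩
    rw [LocalizedModule.mk_eq]
    refine ⟨1, ?_⟩
    simp only [one_smul, Submonoid.smul_def, smul_smul]
    congr 1
    rw [pow_succ]
  eq_zero := by
    intro k i h m hm
    refine vanish' 𝒜 ℳ (W 𝒜 hf hd) hd hf (W_eq 𝒜 hf hd) k i m ?_
    intro x hx hfx
    have h2 := congrArg (fun s : Sec 𝒜 ℳ n hf hd =>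
      ((((show GrMod.sect 𝒜 ℳ n (op (W 𝒜 hf hd)) from s)).1 ⟨x, hx⟩ :
        GrMod.tildeAt 𝒜 ℳ n x) : GrMod.LocMod 𝒜 (M := M) x)) hm
    exact h2
  smul := by
    intro l c hc k i h h' m
    apply sec_ext
    intro x
    rw [smul_val, mapId_mk_val]
    change Localization.mk c _ • LocalizedModule.mk m.1 ⟨f ^ k, _⟩ =
      LocalizedModule.mk (c • m.1) ⟨f ^ (l + k), _⟩
    rw [mk_smul_mk', LocalizedModule.mk_eq]
    refine ⟨1, ?_⟩
    simp only [one_smul, Submonoid.smul_def, Submonoid.coe_mul, smul_smul]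
    congr 1
    rw [pow_add]

end Groth.Agent.Helper1.FracSec
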