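import Mathlib
import Groth.Prelude.Def_RelProj3
import Groth.Prelude.Def_Twist2
import Groth.Agent.Lib.Helper1.AdjBC
import Groth.Agent.Lib.Helper1.FracSec

set_option autoImplicit false
universe u

open CategoryTheory AlgebraicGeometry TopologicalSpace Opposite HomogeneousLocalization
open scoped HomogeneousIdeal

namespace Groth.Agent.Helper1.TwBC

open Groth.Agent.Helper1.AdjBC Groth.Agent.Helper1.FracBC Groth.Agent.Helper1.FracSec
  Groth.Agent.Helper1.GrModQC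

section general
variable {B σ' : Type u} [CommRing B] [SetLike σ' B] [AddSubgroupClass σ' B] {ℬ : ℕ → σ'} [GradedRing ℬ]
variable {A σ : Type u} [CommRing A] [SetLike σ A] [AddSubgroupClass σ A] {𝒜 : ℕ → σ} [GradedRing 𝒜]
variable (φ : ℬ →+*ᵍ 𝒜) (hφ : 𝒜₊ ≤ (ℬ₊).map φ)
variable {M τ : Type u} [AddCommGroup M] [Module B M] [SetLike τ M] [AddSubgroupClass τ M]
  (ℳ : ℕ → τ) [DirectSum.Decomposition ℳ] [SetLike.GradedSMul ℬ ℳ]
variable {N τ' : Type u} [AddCommGroup N] [Module A N] [SetLike τ' N] [AddSubgroupClass τ' N]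
  (𝒩 : ℕ → τ') [DirectSum.Decomposition 𝒩] [SetLike.GradedSMul 𝒜 𝒩]
variable (v : M →ₛₗ[φ.toRingHom] N) (hv : ∀ (i : ℕ) (m : M), m ∈ ℳ i → v m ∈ 𝒩 i)
variable (n : ℤ) {f : B} {d : ℕ} (hf : f ∈ ℬ d) (hd : 0 < d)

/-- the comparison map on chart sections, general degree -/
noncomputable abbrev vbar : Sec ℬ ℳ n hf hd →+ Sec 𝒜 𝒩 n (φ.map_mem hf) hd :=
  vmap (Proj.map φ hφ) (CommRingCat.ofHom (Away.map φ f))
    (Proj.awayι ℬ f hf hd) (Proj.awayι 𝒜 (φ f) (φ.map_mem hf) hd)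
    (Proj.awayι_comp_map φ hφ hd f hf)
    (GrMod.tilde ℬ ℳ n) (GrMod.tilde 𝒜 𝒩 n) (GrMod.comap φ hφ v hv n)

omit [DirectSum.Decomposition ℳ] [DirectSum.Decomposition 𝒩] in
theorem vbar_frac (k i : ℕ) (h : (i : ℤ) = k * d + n) (m : ℳ i) :
    vbar φ hφ ℳ 𝒩 v hv n hf hd (fracFun ℬ ℳ n hf hd k i h m) =
      fracFun 𝒜 𝒩 n (φ.map_mem hf) hd k i h ⟨v m.1, hv i _ m.2⟩ := by
  apply FracSec.sec_ext
  intro y
  rw [fracFun_val]
  have hyU : (ProjectiveSpectrum.comap φ hφ y.1) ∈ W ℬ hf hd := by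
    rw [W_eq]
    have := FracSec.not_mem 𝒜 (φ.map_mem hf) hd y
    exact this
  have h1 : ((((show GrMod.sect 𝒜 𝒩 n (op (W 𝒜 (φ.map_mem hf) hd)) from
      vbar φ hφ ℳ 𝒩 v hv n hf hd (fracFun ℬ ℳ n hf hd k i h m))).1 y :
      GrMod.tildeAt 𝒜 𝒩 n y.1) : GrMod.LocMod 𝒜 (M := N) y.1) =
      GrMod.locModMap φ hφ v y.1
        ((((show GrMod.sect ℬ ℳ n (op (W ℬ hf hd)) from fracFun ℬ ℳ n hf hd k i h m)).1
          ⟨ProjectiveSpectrum.comap φ hφ y.1, hyU⟩ :
          GrMod.tildeAt ℬ ℳ n _) : GrMod.LocMod ℬ (M := M) _) := rfl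
  rw [h1, fracFun_val, GrMod.locModMap_mk]
  congr 1
  exact Subtype.ext (map_pow φ f k)

instance isIso_fromTildeΓ_chart : IsIso (Scheme.Modules.fromTildeΓ (R := CommRingCat.of (Away ℬ f))
    ((GrMod.tilde ℬ ℳ n).restrict (Proj.awayι ℬ f hf hd))) :=
  isIso_fromTildeΓ_restrict ℬ ℳ n f hf hd

omit [DirectSum.Decomposition ℳ] [DirectSum.Decomposition 𝒩] in
include hφ in
/-- the charts `D₊(φ f)` cover -/
theorem exists_chart (y : ProjectiveSpectrum 𝒜) :
    ∃ (d : ℕ) (_ : 0 < d) (f : B), f ∈ ℬ d ∧ φ f ∉ y.asHomogeneousIdeal := by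
  by_contra hcon
  push Not at hcon
  apply y.not_irrelevant_le
  refine hφ.trans ?_
  change Ideal.map φ (ℬ₊).toIdeal ≤ y.asHomogeneousIdeal.toIdeal
  rw [Ideal.map_le_iff_le_comap]
  refine (HomogeneousIdeal.toIdeal_irrelevant_le _).mpr ?_
  intro i hi x hx
  exact hcon i hi x hx


variable {R' R : Type u} [CommRing R'] [CommRing R] (ρ : R' →+* R) (σB : R' →+* B) (σA : R →+* A)
  (hσB : ∀ r', σB r' ∈ ℬ 0) (hσA : ∀ r, σA r ∈ 𝒜 0) (hcomm : ∀ r', φ (σB r') = σA (ρ r'))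

include hcomm hσA hσB in
theorem isBC_chart
    (hBCmod : ∀ (Q' : Type u) [AddCommGroup Q'] [Module R Q'] (g : M →+ Q'),
      (∀ (r' : R') (m : M), g (σB r' • m) = ρ r' • g m) →
      ∃! gt : N →+ Q', (∀ (r : R) (y : N), gt (σA r • y) = r • gt y) ∧ ∀ m, gt (v m) = g m)
    (hgen : ∀ (j : ℕ) (c : A), c ∈ 𝒜 j →
      c ∈ AddSubgroup.closure {c' : A | ∃ (r : R) (x : B), x ∈ ℬ j ∧ c' = σA r * φ x}) :
    haveI := isIso_fromTildeΓ_chart ℳ n hf hd
    haveI := isIso_fromTildeΓ_chart 𝒩 n (φ.map_mem hf) hd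
    IsBC (Proj.map φ hφ) (CommRingCat.ofHom (Away.map φ f))
      (Proj.awayι ℬ f hf hd) (Proj.awayι 𝒜 (φ f) (φ.map_mem hf) hd)
      (Proj.awayι_comp_map φ hφ hd f hf)
      (GrMod.tilde ℬ ℳ n) (GrMod.tilde 𝒜 𝒩 n) (GrMod.comap φ hφ v hv n) := by
  intro Q w hw
  have key := isBC_of_baseChange ρ φ σB σA hσB hσA hcomm v hv hf
    (fracSys ℬ ℳ n hf hd) (fracSys 𝒜 𝒩 n (φ.map_mem hf) hd)
    (vbar φ hφ ℳ 𝒩 v hv n hf hd) (vbar_frac φ hφ ℳ 𝒩 v hv n hf hd) hBCmod hgen Q w hw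
  obtain ⟨b, hb, hbu⟩ := key
  refine ⟨ModuleCat.ofHom (R := Away 𝒜 (φ f)) (X := Sec 𝒜 𝒩 n (φ.map_mem hf) hd) (Y := Q) b, hb, ?_⟩
  intro b' hb'
  have := hbu b'.hom hb'
  apply ModuleCat.hom_ext
  exact this

include hcomm hσA hσB in
theorem isIso_adjunct
    (hBCmod : ∀ (Q' : Type u) [AddCommGroup Q'] [Module R Q'] (g : M →+ Q'),
      (∀ (r' : R') (m : M), g (σB r' • m) = ρ r' • g m) →
      ∃! gt : N →+ Q', (∀ (r : R) (y : N), gt (σA r • y) = r • gt y) ∧ ∀ m, gt (v m) = g m)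
    (hgen : ∀ (j : ℕ) (c : A), c ∈ 𝒜 j →
      c ∈ AddSubgroup.closure {c' : A | ∃ (r : R) (x : B), x ∈ ℬ j ∧ c' = σA r * φ x}) :
    IsIso (((Scheme.Modules.pullbackPushforwardAdjunction (Proj.map φ hφ)).homEquiv _ _).symm
      (GrMod.comap φ hφ v hv n)) := by
  apply isIso_of_restrict
  intro y
  obtain ⟨d, hd, f, hf, hfy⟩ := exists_chart φ hφ y
  refine ⟨_, Proj.awayι 𝒜 (φ f) (φ.map_mem hf) hd, inferInstance, ?_, ?_⟩
  · rw [Proj.opensRange_awayι]
    exact hfy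
  · haveI := isIso_fromTildeΓ_chart ℳ n hf hd
    haveI := isIso_fromTildeΓ_chart 𝒩 n (φ.map_mem hf) hd
    exact isIso_restrict_adjunct (Proj.map φ hφ) (CommRingCat.ofHom (Away.map φ f))
      (Proj.awayι ℬ f hf hd) (Proj.awayι 𝒜 (φ f) (φ.map_mem hf) hd)
      (Proj.awayι_comp_map φ hφ hd f hf)
      (GrMod.tilde ℬ ℳ n) (GrMod.tilde 𝒜 𝒩 n) (GrMod.comap φ hφ v hv n)
      (isBC_chart φ hφ ℳ 𝒩 v hv n hf hd ρ σB σA hσB hσA hcomm hBCmod hgen)

end general


section pushout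
variable {R R' A B : Type u} [CommRing R'] [CommRing R] [Algebra R' R]
    [CommRing B] [Algebra R' B] (ℬ : ℕ → Submodule R' B) [GradedAlgebra ℬ]
    [CommRing A] [Algebra R A] [Algebra R' A] [IsScalarTower R' R A] (𝒜 : ℕ → Submodule R A) [GradedAlgebra 𝒜]
    [Algebra B A] [IsScalarTower R' B A] [Algebra.IsPushout R' R B A]
    (φ : ℬ →+*ᵍ 𝒜) (hφA : ∀ b : B, φ b = algebraMap B A b)
    (hφ : HomogeneousIdeal.irrelevant 𝒜 ≤ (HomogeneousIdeal.irrelevant ℬ).map φ) (n : ℤ)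

/-- `φ` as a semilinear map -/
def vφ : B →ₛₗ[φ.toRingHom] A where
  toFun := φ
  map_add' := map_add φ
  map_smul' := fun b x => by
    change φ (b * x) = φ b * φ x
    exact map_mul φ b x

include hφA in
theorem twist_baseChange :
    Nonempty ((Scheme.Modules.pullback (Proj.map φ hφ)).obj (Twist.twist ℬ n) ≅ Twist.twist 𝒜 n) := by
  change Nonempty ((Scheme.Modules.pullback (Proj.map φ hφ)).obj (GrMod.tilde ℬ ℬ n) ≅
    GrMod.tilde 𝒜 𝒜 n)
  have hbase : IsBaseChange R (IsScalarTower.toAlgHom R' B A).toLinearMap :=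
    Algebra.IsPushout.out
  have hv : ∀ (i : ℕ) (m : B), m ∈ ℬ i → vφ ℬ 𝒜 φ m ∈ 𝒜 i := fun i m hm => φ.map_mem hm
  have hiso := isIso_adjunct φ hφ ℬ 𝒜 (vφ ℬ 𝒜 φ) hv n (algebraMap R' R) (algebraMap R' B)
    (algebraMap R A)
    (fun r' => SetLike.algebraMap_mem_graded ℬ r') (fun r => SetLike.algebraMap_mem_graded 𝒜 r)
    (fun r' => by
      rw [hφA, ← IsScalarTower.algebraMap_apply, ← IsScalarTower.algebraMap_apply])
    ?_ ?_
  · exact ⟨@asIso _ _ _ _ _ hiso⟩
  · -- hBCmod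
    intro Q' _ _ g hg
    letI : Module R' Q' := Module.compHom Q' (algebraMap R' R)
    haveI : IsScalarTower R' R Q' := IsScalarTower.of_algebraMap_smul fun _ _ => rfl
    let gl : B →ₗ[R'] Q' :=
      { toFun := g
        map_add' := map_add g
        map_smul' := fun r' m => by
          have := hg r' m
          rw [smul_eq_mul, ← Algebra.smul_def] at this
          exact this }
    refine ⟨(hbase.lift gl).toAddMonoidHom, ⟨?_, ?_⟩, ?_⟩
    · intro r y
      change hbase.lift gl (algebraMap R A r • y) = r • hbase.lift gl y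
      rw [smul_eq_mul, ← Algebra.smul_def, map_smul]
    · intro m
      change hbase.lift gl (φ m) = g m
      rw [hφA]
      exact hbase.lift_eq gl m
    · rintro gt ⟨h1, h2⟩
      let gtl : A →ₗ[R] Q' :=
        { toFun := gt
          map_add' := map_add gt
          map_smul' := fun r y => by
            have := h1 r y
            rw [smul_eq_mul, ← Algebra.smul_def] at this
            exact this }
      have : gtl = hbase.lift gl := by
        apply hbase.algHom_ext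
        intro x
        rw [hbase.lift_eq]
        change gt (algebraMap B A x) = g x
        rw [← hφA]
        exact h2 x
      ext y
      exact LinearMap.congr_fun this y
  · -- hgen
    intro j c hc
    have hP : ∀ c : A, (GradedAlgebra.proj 𝒜 j c) ∈
        AddSubgroup.closure {c' : A | ∃ (r : R) (x : B), x ∈ ℬ j ∧ c' = algebraMap R A r * φ x} := by
      intro c
      refine hbase.inductionOn c _ ?_ ?_ ?_ ?_
      · rw [map_zero]; exact zero_mem _
      · intro b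
        apply AddSubgroup.subset_closure
        refine ⟨1, GradedAlgebra.proj ℬ j b, ?_, ?_⟩
        · exact SetLike.coe_mem _
        · rw [map_one, one_mul]
          change GradedAlgebra.proj 𝒜 j (algebraMap B A b) = φ (GradedAlgebra.proj ℬ j b)
          rw [← hφA]
          rw [GradedAlgebra.proj_apply, GradedAlgebra.proj_apply]
          rw [GradedRingHom.map_directSumDecompose]
      · intro r y hy
        rw [map_smul]
        refine AddSubgroup.closure_induction (p := fun z _ => r • z ∈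
          AddSubgroup.closure {c' : A | ∃ (r : R) (x : B), x ∈ ℬ j ∧ c' = algebraMap R A r * φ x})
          ?_ ?_ ?_ ?_ hy
        · rintro _ ⟨r₀, x, hx, rfl⟩
          apply AddSubgroup.subset_closure
          refine ⟨r * r₀, x, hx, ?_⟩
          rw [Algebra.smul_def, map_mul, mul_assoc]
        · rw [smul_zero]; exact zero_mem _
        · intro a b _ _ ha hb
          rw [smul_add]; exact add_mem ha hb
        · intro a _ ha
          rw [smul_neg]; exact neg_mem ha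
      · intro a b ha hb
        rw [map_add]; exact add_mem ha hb
    have := hP c
    rw [GradedAlgebra.proj_apply, DirectSum.decompose_of_mem_same 𝒜 hc] at this
    exact this

end pushout

end Groth.Agent.Helper1.TwBC
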