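import Mathlib
import Groth.Prelude.Def_Coh
import Groth.Agent.Lib.Helper1.CovVan

set_option autoImplicit false
universe u
open CategoryTheory CategoryTheory.Limits AlgebraicGeometry TopologicalSpace Opposite

namespace Groth.Agent.Helper1.QcsVan

variable {X : Scheme.{u}}

/-- uniform vanishing bound for quasi-compact opens inside an affine open -/
theorem exists_bound_of_le_affine {U : X.Opens} (hU : IsAffineOpen U) (W : X.Opens) (hWU : W ≤ U)
    (hW : IsCompact (W : Set X)) :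
    ∃ d : ℕ, ∀ (M : X.Modules) [M.IsQuasicoherent] (n : ℕ), d ≤ n →
      Subsingleton (CohTop.HU (Coh.toAb M) n W) := by
  obtain ⟨s, hs, rfl⟩ := isCompact_iff_finite_and_eq_biUnion_affineOpens.mp hW
  have : Finite ↥s := hs.to_subtype
  obtain ⟨k, ⟨e⟩⟩ := Finite.exists_equiv_fin ↥s
  let U' : Fin (k + 1) → X.Opens := Fin.lastCases ⊥ (fun i => ((e.symm i).1 : X.affineOpens).1)
  have hU' : ⨆ i, U' i = ⨆ i ∈ s, (i : X.Opens) := by
    apply le_antisymm
    · refine iSup_le fun i => ?_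
      refine Fin.lastCases ?_ (fun j => ?_) i
      · simp [U']
      · simp only [U', Fin.lastCases_castSucc]
        exact le_iSup₂ (f := fun (i : X.affineOpens) (_ : i ∈ s) => (i : X.Opens)) (e.symm j).1 (e.symm j).2
    · refine iSup₂_le fun i hi => ?_
      have : U' (Fin.castSucc (e ⟨i, hi⟩)) = i.1 := by
        simp [U']
      rw [← this]
      exact le_iSup U' _
  refine ⟨k + 1, fun M _ n hn => ?_⟩
  rw [← hU']
  refine CovVan.van_of_cover M {V | IsAffineOpen V ∧ V ≤ U} (fun V hV => hV.1)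
    (fun V hV V' hV' => ⟨CovVan.inf_affine_of_le hU hV.2 hV'.2 hV.1 hV'.1, inf_le_left.trans hV.2⟩)
    k U' (fun i => ?_) n hn
  refine Fin.lastCases ?_ (fun j => ?_) i
  · simp only [U', Fin.lastCases_last]
    exact ⟨isAffineOpen_bot X, bot_le⟩
  · simp only [U', Fin.lastCases_castSucc]
    exact ⟨(e.symm j).1.2, (le_iSup₂ (f := fun (i : X.affineOpens) (_ : i ∈ s) => (i : X.Opens))
      (e.symm j).1 (e.symm j).2).trans hWU⟩

/-- uniform vanishing bound for quasi-compact opens of a quasi-separated scheme -/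
theorem exists_bound [QuasiSeparatedSpace X] (W : X.Opens) (hW : IsCompact (W : Set X)) :
    ∃ d : ℕ, ∀ (M : X.Modules) [M.IsQuasicoherent] (n : ℕ), d ≤ n →
      Subsingleton (CohTop.HU (Coh.toAb M) n W) := by
  refine compact_open_induction_on (P := fun W => ∃ d : ℕ, ∀ (M : X.Modules) [M.IsQuasicoherent]
    (n : ℕ), d ≤ n → Subsingleton (CohTop.HU (Coh.toAb M) n W)) W hW ?_ ?_
  · refine ⟨1, fun M _ n hn => ?_⟩
    obtain ⟨m, rfl⟩ : ∃ m, n = m + 1 := ⟨n - 1, by omega⟩
    exact QcAcyc.subsingleton_HU M ⊥ (isAffineOpen_bot X) m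
  · rintro S hS U ⟨d, hd⟩
    have hSU : IsCompact ((S ⊓ U.1 : X.Opens) : Set X) :=
      QuasiSeparatedSpace.inter_isCompact _ _ S.2 hS U.1.2 U.2.isCompact
    obtain ⟨d', hd'⟩ := exists_bound_of_le_affine U.2 (S ⊓ U.1) inf_le_right hSU
    refine ⟨max d (d' + 1) + 1, fun M _ n hn => ?_⟩
    obtain ⟨m, rfl⟩ : ∃ m, n = m + 1 := ⟨n - 1, by omega⟩
    exact MVvan.subsingleton_sup _ S U.1 m (hd' M m (by omega)) (hd M (m + 1) (by omega))
      (QcAcyc.subsingleton_HU M U.1 U.2 m)

end Groth.Agent.Helper1.QcsVan
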