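import Mathlib
import Groth.Agent.Lib.Helper1.EulerLES
import Groth.Agent.Lib.Helper4.T2Main1
import Groth.Agent.S0016
import Groth.Prelude.Def_CurvBase

/-!
# Additivity of the Euler characteristic on proper schemes over a field (helper1)
-/

set_option autoImplicit false
universe u
open CategoryTheory CategoryTheory.Limits AlgebraicGeometry TopologicalSpace Opposite

namespace Groth.Agent.Helper1.Euler

open Groth.Agent.Lib.Helper4

variable (k : Type u) [Field k] (X : Scheme.{u}) [X.Over (Spec (CommRingCat.of k))]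
  [IsProper (X ↘ (Spec (CommRingCat.of k)))]

include k in
/-- uniform vanishing of quasi-coherent cohomology -/
theorem exists_vanishing_bound :
    ∃ d : ℕ, ∀ (M : X.Modules), Coh.IsQCoh M → ∀ p : ℕ, d ≤ p → Subsingleton (Coh.HH X M p) := by
  haveI : CompactSpace X :=
    QuasiCompact.compactSpace_of_compactSpace (X ↘ Spec (CommRingCat.of k))
  haveI : QuasiSeparatedSpace X :=
    quasiSeparatedSpace_of_quasiSeparated (X ↘ Spec (CommRingCat.of k))
  exact Groth.Agent.S0016.result X

omit [IsProper (X ↘ (Spec (CommRingCat.of k)))] in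
/-- the Euler characteristic as a finite sum -/
theorem euler_eq_sum (d : ℕ) (F : X.Modules)
    (hd : ∀ p : ℕ, d ≤ p → Subsingleton (Coh.HH X F p)) :
    Curv2.euler k X F =
      ∑ i ∈ Finset.range d, (-1 : ℤ) ^ i * (Module.finrank k (Coh.HH X F i) : ℤ) := by
  unfold Curv2.euler
  apply finsum_eq_sum_of_support_subset
  intro i hi
  rw [Function.mem_support] at hi
  rw [Finset.coe_range, Set.mem_Iio]
  by_contra hle
  rw [not_lt] at hle
  haveI := hd i hle
  apply hi
  rw [Module.finrank_zero_of_subsingleton, Nat.cast_zero, mul_zero]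

/-- S1524: additivity of the Euler characteristic -/
theorem euler_additive (S : ShortComplex X.Modules) (hS : S.ShortExact)
    (h₁ : Coh.IsCoh S.X₁) (h₂ : Coh.IsCoh S.X₂) (h₃ : Coh.IsCoh S.X₃) :
    Curv2.euler k X S.X₂ = Curv2.euler k X S.X₁ + Curv2.euler k X S.X₃ := by
  obtain ⟨d, hd⟩ := exists_vanishing_bound k X
  rw [euler_eq_sum k X d S.X₁ (hd _ h₁.1), euler_eq_sum k X d S.X₂ (hd _ h₂.1),
    euler_eq_sum k X d S.X₃ (hd _ h₃.1)]
  haveI : ∀ i, FiniteDimensional k (Coh.HH X S.X₁ i) := fun i => T2Main1.t2 k X S.X₁ h₁ i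
  haveI : ∀ i, FiniteDimensional k (Coh.HH X S.X₂ i) := fun i => T2Main1.t2 k X S.X₂ h₂ i
  haveI : ∀ i, FiniteDimensional k (Coh.HH X S.X₃ i) := fun i => T2Main1.t2 k X S.X₃ h₃ i
  refine EulerLES.euler_additive (k := k) (A := fun i => Coh.HH X S.X₁ i)
    (B := fun i => Coh.HH X S.X₂ i) (C := fun i => Coh.HH X S.X₃ i)
    (fun i => Canon.HHlin k S.f i) (fun i => Canon.HHlin k S.g i)
    (fun i => HHFin2.deltaLin k hS i) ?_ ?_ ?_ (HHFin3.HHlin_f_zero_injective k hS) d
    (hd _ h₁.1 d le_rfl)
  · intro i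
    apply le_antisymm
    · rintro _ ⟨y, rfl⟩
      exact HHFin2.g_f k i y
    · intro x hx
      exact HHFin2.exact_f_g k hS i x hx
  · intro i
    apply le_antisymm
    · rintro _ ⟨y, rfl⟩
      exact HHFin2.delta_g k hS i y
    · intro x hx
      exact HHFin2.exact_g_delta k hS i x hx
  · intro i
    apply le_antisymm
    · rintro _ ⟨y, rfl⟩
      exact HHFin3.f_delta k hS i y
    · intro x hx
      exact HHFin3.exact_delta_f k hS i x hx

end Groth.Agent.Helper1.Euler
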