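import Mathlib
import Groth.Agent.Lib.Helper1.Euler1
import Groth.Agent.Lib.Helper1.FinLen9
import Groth.Agent.Lib.Helper1.TildeTens

/-!
# Euler characteristics and `K₀` of coherent modules (helper1)
-/

set_option autoImplicit false
universe u
open CategoryTheory CategoryTheory.Limits AlgebraicGeometry TopologicalSpace Opposite

namespace Groth.Agent.Helper1.Euler

open Groth.Agent.Lib.Helper4 Groth.Agent.Helper1.Dv Groth.Agent.Helper1.FinLen

section K0
variable {X : Scheme.{u}} {G : Type*} [AddCommGroup G]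

/-- the homomorphism out of `K₀(Coh X)` induced by an additive function -/
noncomputable def k0Lift (φ : X.Modules → G)
    (hφ : ∀ S : ShortComplex X.Modules, S.ShortExact → Coh.IsCoh S.X₁ → Coh.IsCoh S.X₂ →
      Coh.IsCoh S.X₃ → φ S.X₂ = φ S.X₁ + φ S.X₃) :
    KZero.K0sub (PC X) →+ G :=
  QuotientAddGroup.lift (KZero.relSub (PC X))
    (FreeAbelianGroup.lift (fun M : Subtype (PC X) => φ M.1)) (by
      unfold KZero.relSub
      rw [AddSubgroup.closure_le]
      rintro _ ⟨S, h1, h2, h3, hS, rfl⟩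
      change FreeAbelianGroup.lift (fun M : Subtype (PC X) => φ M.1) _ = 0
      rw [map_sub, map_sub, FreeAbelianGroup.lift_apply_of, FreeAbelianGroup.lift_apply_of,
        FreeAbelianGroup.lift_apply_of, hφ S hS h1 h2 h3]
      abel)

theorem k0Lift_clSub (φ : X.Modules → G)
    (hφ : ∀ S : ShortComplex X.Modules, S.ShortExact → Coh.IsCoh S.X₁ → Coh.IsCoh S.X₂ →
      Coh.IsCoh S.X₃ → φ S.X₂ = φ S.X₁ + φ S.X₃) (M : X.Modules) (hM : Coh.IsCoh M) :
    k0Lift φ hφ (KZero.clSub (PC X) M) = φ M := by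
  rw [clSub_of M hM]
  unfold k0Lift
  rw [QuotientAddGroup.lift_mk, FreeAbelianGroup.lift_apply_of]

end K0

variable (k : Type u) [Field k] (X : Scheme.{u}) [X.Over (Spec (CommRingCat.of k))]

theorem euler_iso {M N : X.Modules} (e : M ≅ N) : Curv2.euler k X M = Curv2.euler k X N := by
  unfold Curv2.euler
  congr 1
  funext i
  rw [(HHFin1.HHequiv k e i).finrank_eq]

variable [IsProper (X ↘ (Spec (CommRingCat.of k)))]

include k in
theorem isNoetherian_of_proper : IsNoetherian X := by
  haveI : IsLocallyNoetherian X :=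
    LocallyOfFiniteType.isLocallyNoetherian (X ↘ Spec (CommRingCat.of k))
  haveI : CompactSpace X :=
    QuasiCompact.compactSpace_of_compactSpace (X ↘ Spec (CommRingCat.of k))
  exact {}

/-- the Euler characteristic as a homomorphism on `K₀(Coh X)` -/
noncomputable def eulerHom : KZero.K0sub (PC X) →+ ℤ :=
  k0Lift (Curv2.euler k X) (fun S hS h1 h2 h3 => euler_additive k X S hS h1 h2 h3)

theorem eulerHom_clSub (M : X.Modules) (hM : Coh.IsCoh M) :
    eulerHom k X (KZero.clSub (PC X) M) = Curv2.euler k X M :=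
  k0Lift_clSub _ _ M hM

/-- the subgroup of `K₀` generated by modules with empty support is trivial -/
theorem closure_dim_lt_zero_eq_bot [IsLocallyNoetherian X] :
    AddSubgroup.closure {c : KZero.K0sub (PC X) |
        ∃ G : X.Modules, Coh.IsCoh G ∧ topologicalKrullDim ↥(CohB1.support G) < ((0 : ℕ) : WithBot ℕ∞) ∧
          c = KZero.clSub (PC X) G} = ⊥ := by
  rw [eq_bot_iff, AddSubgroup.closure_le]
  rintro _ ⟨G, hG, hdim, rfl⟩
  change KZero.clSub (PC X) G = 0
  apply clSub_isZero
  apply isZero_of_support_subset_empty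
  intro x hx
  exfalso
  haveI : Nonempty (IrreducibleCloseds ↥(CohB1.support G)) :=
    ⟨⟨closure {⟨x, hx⟩}, isIrreducible_singleton.closure, isClosed_closure⟩⟩
  have h0 : (0 : WithBot ℕ∞) ≤ topologicalKrullDim ↥(CohB1.support G) := Order.krullDim_nonneg
  have : topologicalKrullDim ↥(CohB1.support G) < 0 := by simpa using hdim
  exact absurd (lt_of_le_of_lt h0 this) (lt_irrefl _)

/-- S1558 -/
theorem euler_tensor_of_dim_zero (F : X.Modules) (hF : Coh.IsCoh F)
    (hsupp : topologicalKrullDim ↥(CohB1.support F) ≤ 0)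
    (n : ℕ) (E : X.Modules) (hE : FlatMod.IsFinLocFreeOfRank n E) :
    Curv2.euler k X (CohB1.tensorMod F E) = n * Curv2.euler k X F := by
  haveI := isNoetherian_of_proper k X
  have h := k0_tensor_locFree E n hE F hF 0 (by simpa using hsupp)
  rw [closure_dim_lt_zero_eq_bot, AddSubgroup.mem_bot, sub_eq_zero] at h
  have hEc : Coh.IsCoh E :=
    Groth.Agent.Lib.Helper5.LocalCoh.isCoh_of_isFinLocFree E (isFinLocFree_of_rank hE)
  haveI : E.IsQuasicoherent := hEc.1
  haveI : F.IsQuasicoherent := hF.1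
  have hT : Coh.IsCoh (CohB1.tensorMod E F) :=
    ⟨inferInstance, Groth.Agent.Lead.TilT.isFT_tensorMod E F hEc.2 hF.2⟩
  have h2 := congrArg (eulerHom k X) h
  rw [map_nsmul, eulerHom_clSub k X _ hT, eulerHom_clSub k X _ hF, nsmul_eq_mul] at h2
  rw [euler_iso k X (TildeTens.tensorModComm F E)]
  exact h2

end Groth.Agent.Helper1.Euler
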