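import Mathlib
import Groth.Agent.Lib.Helper1.Euler2
import Groth.Agent.Lib.Helper5.LTen.Flf
import Groth.Agent.Lib.Helper5.Misc.TensorSES
import Groth.Agent.Lib.Helper5.Misc.StalkFlatSch

/-!
# Euler characteristic of `E ⊗ F` on a curve (helper1)
-/

set_option autoImplicit false
universe u
open CategoryTheory CategoryTheory.Limits AlgebraicGeometry TopologicalSpace Opposite

namespace Groth.Agent.Helper1.Euler

open Groth.Agent.Lib.Helper4 Groth.Agent.Helper1.Dv Groth.Agent.Helper1.FinLen

section Exact
variable {X : Scheme.{u}}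

/-- tensoring with a finite locally free module is exact -/
theorem shortExact_tensor (E : X.Modules) (hE : FlatMod.IsFinLocFree E)
    (S : ShortComplex X.Modules) (hS : S.ShortExact) :
    (S.map (DCoh.tensorBi.obj E)).ShortExact := by
  have hfl : ModSite.IsFlat (O := X.sheaf) E :=
    Groth.Agent.Lib.Helper5.Misc.StalkFlatSch.isFlat_of_flatMod E
      (Groth.Agent.Lib.Helper5.StalkAdj.flatMod_of_isFinLocFree E hE)
  haveI : PreservesFiniteLimits (DCoh.tensorBi.obj E) :=
    (Groth.Agent.Lib.Helper5.TensorSES.isFlat_iff' (O := X.sheaf) E).1 hfl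
  haveI : PreservesFiniteColimits (DCoh.tensorBi.obj E) :=
    (inferInstance : PreservesFiniteColimits ((ModSite.tensorBi X.sheaf).obj E))
  exact hS.map_of_exact (DCoh.tensorBi.obj E)

end Exact

section Top

variable (X : Scheme.{u})

/-- on an integral curve, the generic point is the only point whose closure has dimension one -/
theorem eq_genericPoint_of_dim_closure [IsIntegral X] (hdim : topologicalKrullDim X = 1) (x : X)
    (hx : topologicalKrullDim ↥(closure ({x} : Set X)) = ((1 : ℕ) : WithBot ℕ∞)) :
    x = genericPoint X := by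
  have h1 : topologicalKrullDim ↥(Set.univ : Set X) ≤ ((1 : ℕ) : WithBot ℕ∞) := by
    have := topologicalKrullDim_subspace_le X (Set.univ : Set X)
    rw [hdim] at this
    simpa using this
  exact (eq_of_specializes_of_dim_eq Set.univ isClosed_univ 1 h1 x hx (genericPoint X)
    (Set.mem_univ _) (genericPoint_specializes x)).symm

theorem dim_closure_genericPoint [IsIntegral X] (hdim : topologicalKrullDim X = 1) :
    topologicalKrullDim ↥(closure ({genericPoint X} : Set X)) = ((1 : ℕ) : WithBot ℕ∞) := by
  rw [genericPoint_closure]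
  have := IsHomeomorph.topologicalKrullDim_eq _ (Homeomorph.Set.univ X).isHomeomorph
  rw [this, hdim]
  simp

theorem cyc_one_curve [IsIntegral X] (hdim : topologicalKrullDim X = 1) (M : X.Modules) :
    cyc 1 M = (Module.length (X.presheaf.stalk (genericPoint X))
        (M.presheaf.stalk (genericPoint X))).toNat •
      KZero.clSub (PC X) (Cyc.closureStructureSheaf (genericPoint X)) := by
  unfold cyc
  rw [finsum_eq_single _ (genericPoint X)]
  · rw [if_pos (dim_closure_genericPoint X hdim)]
  · intro x hx
    rw [if_neg]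
    intro h
    exact hx (eq_genericPoint_of_dim_closure X hdim x h)

theorem toNat_length_eq_finrank [IsIntegral X] (M : X.Modules) :
    (Module.length (X.presheaf.stalk (genericPoint X))
        (M.presheaf.stalk (genericPoint X))).toNat =
      Module.finrank (X.presheaf.stalk (genericPoint X)) (M.presheaf.stalk (genericPoint X)) := by
  letI : Field (X.presheaf.stalk (genericPoint X)) := inferInstanceAs (Field X.functionField)
  have h := Module.length_eq_rank (X.presheaf.stalk (genericPoint X))
    (M.presheaf.stalk (genericPoint X))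
  rw [h, Cardinal.toNat_toENat]
  rfl

theorem length_stalk_structureModule [IsIntegral X] :
    Module.length (X.presheaf.stalk (genericPoint X))
        ((Coh.structureModule X).presheaf.stalk (genericPoint X)) = 1 := by
  letI : Field (X.presheaf.stalk (genericPoint X)) := inferInstanceAs (Field X.functionField)
  have e := (Groth.Agent.Lib.Helper5.StalkAdj.stalkUnitIso X (genericPoint X)).toLinearEquiv
  have h := e.length_eq
  have h1 : Module.length (X.presheaf.stalk (genericPoint X))
      (X.presheaf.stalk (genericPoint X)) = 1 :=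
    Module.length_eq_one _ _
  exact h.symm.trans h1

end Top

section Curve

variable (k : Type u) [Field k] (X : Scheme.{u}) [X.Over (Spec (CommRingCat.of k))]
  [IsProper (X ↘ (Spec (CommRingCat.of k)))]

theorem isCoh_tensor {X : Scheme.{u}} (E M : X.Modules) (hE : Coh.IsCoh E) (hM : Coh.IsCoh M) :
    Coh.IsCoh (CohB1.tensorMod E M) := by
  haveI : E.IsQuasicoherent := hE.1
  haveI : M.IsQuasicoherent := hM.1
  exact ⟨inferInstance, Groth.Agent.Lead.TilT.isFT_tensorMod E M hE.2 hM.2⟩

/-- `ψ(M) = χ(E ⊗ M) - n χ(M)` -/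
noncomputable def psi (n : ℕ) (E M : X.Modules) : ℤ :=
  Curv2.euler k X (CohB1.tensorMod E M) - n * Curv2.euler k X M

theorem psi_additive (n : ℕ) (E : X.Modules) (hE : FlatMod.IsFinLocFreeOfRank n E)
    (S : ShortComplex X.Modules) (hS : S.ShortExact) (h1 : Coh.IsCoh S.X₁) (h2 : Coh.IsCoh S.X₂)
    (h3 : Coh.IsCoh S.X₃) : psi k X n E S.X₂ = psi k X n E S.X₁ + psi k X n E S.X₃ := by
  have hEc : Coh.IsCoh E :=
    Groth.Agent.Lib.Helper5.LocalCoh.isCoh_of_isFinLocFree E (isFinLocFree_of_rank hE)
  have hS' := shortExact_tensor E (isFinLocFree_of_rank hE) S hS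
  have e1 := euler_additive k X (S.map (DCoh.tensorBi.obj E)) hS' (isCoh_tensor E _ hEc h1)
    (isCoh_tensor E _ hEc h2) (isCoh_tensor E _ hEc h3)
  have e2 := euler_additive k X S hS h1 h2 h3
  change Curv2.euler k X (CohB1.tensorMod E S.X₂) =
    Curv2.euler k X (CohB1.tensorMod E S.X₁) + Curv2.euler k X (CohB1.tensorMod E S.X₃) at e1
  unfold psi
  rw [e1, e2]
  ring

/-- `ψ` as a homomorphism on `K₀` -/
noncomputable def psiHom (n : ℕ) (E : X.Modules) (hE : FlatMod.IsFinLocFreeOfRank n E) :
    KZero.K0sub (PC X) →+ ℤ :=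
  k0Lift (psi k X n E) (fun S hS h1 h2 h3 => psi_additive k X n E hE S hS h1 h2 h3)

theorem psiHom_clSub (n : ℕ) (E : X.Modules) (hE : FlatMod.IsFinLocFreeOfRank n E)
    (M : X.Modules) (hM : Coh.IsCoh M) :
    psiHom k X n E hE (KZero.clSub (PC X) M) = psi k X n E M :=
  k0Lift_clSub _ _ M hM

theorem le_zero_of_lt_one (x : WithBot ℕ∞) (h : x < ((1 : ℕ) : WithBot ℕ∞)) : x ≤ 0 := by
  induction x with
  | bot => exact bot_le
  | coe m =>
    have h' : (m : WithBot ℕ∞) < ((1 : ℕ∞) : WithBot ℕ∞) := by exact_mod_cast h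
    have h2 : m < 1 := WithBot.coe_lt_coe.1 h'
    have h3 : m = 0 := Order.lt_one_iff.1 h2
    rw [h3]
    rfl

theorem psi_eq_zero_of_dim_lt_one (n : ℕ) (E : X.Modules) (hE : FlatMod.IsFinLocFreeOfRank n E)
    (G : X.Modules) (hG : Coh.IsCoh G)
    (hdim : topologicalKrullDim ↥(CohB1.support G) < ((1 : ℕ) : WithBot ℕ∞)) :
    psi k X n E G = 0 := by
  unfold psi
  rw [euler_iso k X (TildeTens.tensorModComm E G),
    euler_tensor_of_dim_zero k X G hG (le_zero_of_lt_one _ hdim) n E hE, sub_self]

/-- the key formula: `ψ(M) = length(M_ξ) · ψ(O_{Z(ξ)})` -/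
theorem psi_eq [IsIntegral X] (hdim : topologicalKrullDim X = 1) (n : ℕ) (E : X.Modules)
    (hE : FlatMod.IsFinLocFreeOfRank n E) (M : X.Modules) (hM : Coh.IsCoh M) :
    psi k X n E M = (Module.length (X.presheaf.stalk (genericPoint X))
        (M.presheaf.stalk (genericPoint X))).toNat *
      psiHom k X n E hE (KZero.clSub (PC X) (Cyc.closureStructureSheaf (genericPoint X))) := by
  haveI := isNoetherian_of_proper k X
  have hdimM : topologicalKrullDim ↥(CohB1.support M) ≤ ((1 : ℕ) : WithBot ℕ∞) := by
    have := topologicalKrullDim_subspace_le X (CohB1.support M)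
    rw [hdim] at this
    simpa using this
  have h := k0_cycle_congr 1 M hM hdimM
  have hker : AddSubgroup.closure {c : KZero.K0sub (PC X) |
        ∃ G : X.Modules, Coh.IsCoh G ∧
          topologicalKrullDim ↥(CohB1.support G) < ((1 : ℕ) : WithBot ℕ∞) ∧
          c = KZero.clSub (PC X) G} ≤ (psiHom k X n E hE).ker := by
    rw [AddSubgroup.closure_le]
    rintro _ ⟨G, hG, hd, rfl⟩
    change psiHom k X n E hE (KZero.clSub (PC X) G) = 0
    rw [psiHom_clSub k X n E hE G hG]
    exact psi_eq_zero_of_dim_lt_one k X n E hE G hG hd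
  have h0 : psiHom k X n E hE (KZero.clSub (PC X) M - cyc 1 M) = 0 := hker h
  rw [map_sub, sub_eq_zero, psiHom_clSub k X n E hE M hM, cyc_one_curve X hdim M,
    map_nsmul, nsmul_eq_mul] at h0
  exact h0

/-- S1557 -/
theorem euler_tensor_curve [IsIntegral X] (hdim : topologicalKrullDim X = 1) (n : ℕ)
    (E : X.Modules) (hE : FlatMod.IsFinLocFreeOfRank n E) (F : X.Modules) (hF : Coh.IsCoh F) :
    Curv2.euler k X (CohB1.tensorMod E F) =
      (Module.finrank (X.presheaf.stalk (genericPoint X))
        (F.presheaf.stalk (genericPoint X)) : ℤ) * Curv2.deg k X E n + n * Curv2.euler k X F := by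
  haveI : IsLocallyNoetherian X := (isNoetherian_of_proper k X).toIsLocallyNoetherian
  have hO := psi_eq k X hdim n E hE (Coh.structureModule X) (isCoh_structureModule X)
  rw [length_stalk_structureModule X] at hO
  have hdeg : psi k X n E (Coh.structureModule X) = Curv2.deg k X E n := by
    unfold psi Curv2.deg
    have e0 : Curv2.euler k X (CohB1.tensorMod E (Coh.structureModule X)) = Curv2.euler k X E :=
      euler_iso k X (Groth.Agent.Lib.Helper5.LTenFlf.tensorUnitIso E)
    rw [e0]
  have hF' := psi_eq k X hdim n E hE F hF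
  rw [toNat_length_eq_finrank X F] at hF'
  rw [hdeg] at hO
  simp only [ENat.toNat_one, Nat.cast_one, one_mul] at hO
  rw [← hO] at hF'
  unfold psi at hF'
  linarith

end Curve



end Groth.Agent.Helper1.Euler
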