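import Mathlib
import Groth.Agent.Lib.Helper1.Euler3
import Groth.Agent.Lib.Helper1.Dv27
import Groth.Agent.Lib.Helper1.Dv34
import Groth.Agent.Lib.Helper1.H1Ext
import Groth.Agent.S0012
import Groth.Agent.S0007

/-!
# Coherent modules with zero-dimensional support (helper1)
-/

set_option autoImplicit false
universe u
open CategoryTheory CategoryTheory.Limits AlgebraicGeometry TopologicalSpace Opposite

namespace Groth.Agent.Helper1.Euler

open Groth.Agent.Lib.Helper4 Groth.Agent.Helper1.Dv Groth.Agent.Helper1.FinLen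

section ZeroDim

variable {X : Scheme.{u}}

/-- no proper specializations inside a closed set of dimension `≤ 0` -/
theorem eq_of_specializes_of_dim_le_zero (X' : Set X) (hX' : IsClosed X')
    (hdim : topologicalKrullDim ↥X' ≤ 0) (x y : X) (hx : x ∈ X') (hy : y ∈ X') (hyx : y ⤳ x) :
    y = x := by
  have hdim' : topologicalKrullDim ↥X' ≤ ((0 : ℕ) : WithBot ℕ∞) := by simpa using hdim
  have hxX' : closure ({x} : Set X) ⊆ X' := closure_minimal (by simpa using hx) hX'
  have h1 : topologicalKrullDim ↥(closure ({x} : Set X)) ≤ ((0 : ℕ) : WithBot ℕ∞) :=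
    (krullDim_le_of_subset hxX').trans hdim'
  haveI : Nonempty (IrreducibleCloseds ↥(closure ({x} : Set X))) :=
    ⟨⟨Set.univ, (isIrreducible_iff_irreducibleSpace.1 isIrreducible_singleton.closure).isIrreducible_univ,
      isClosed_univ⟩⟩
  have h0 : (0 : WithBot ℕ∞) ≤ topologicalKrullDim ↥(closure ({x} : Set X)) := Order.krullDim_nonneg
  have h2 : topologicalKrullDim ↥(closure ({x} : Set X)) = ((0 : ℕ) : WithBot ℕ∞) :=
    le_antisymm h1 (by simpa using h0)
  exact eq_of_specializes_of_dim_eq X' hX' 0 hdim' x h2 y hy hyx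

/-- an integral closed subscheme contained in a closed set of dimension `≤ 0` is affine -/
theorem isAffine_of_dim_le_zero (X' : Set X) (hX' : IsClosed X')
    (hdim : topologicalKrullDim ↥X' ≤ 0) {Z : Scheme.{u}} (i : Z ⟶ X) [IsClosedImmersion i]
    [IsIntegral Z] (hi : Set.range ⇑i ⊆ X') : IsAffine Z := by
  have hpt : ∀ z : Z, z = genericPoint Z := by
    intro z
    have h1 : genericPoint Z ⤳ z := genericPoint_specializes z
    have h2 : i (genericPoint Z) ⤳ i z := h1.map i.continuous
    have h3 := eq_of_specializes_of_dim_le_zero X' hX' hdim (i z) (i (genericPoint Z))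
      (hi ⟨z, rfl⟩) (hi ⟨_, rfl⟩) h2
    exact (i.isClosedEmbedding.injective h3).symm
  obtain ⟨_, ⟨U, hU, rfl⟩, hxU, -⟩ :=
    Z.isBasis_affineOpens.exists_subset_of_mem_open (Set.mem_univ (genericPoint Z)) isOpen_univ
  have hUtop : U = ⊤ := by
    ext z
    simp only [SetLike.mem_coe, Opens.coe_top, Set.mem_univ, iff_true]
    rw [hpt z]
    exact hxU
  subst hUtop
  haveI : IsAffine (↑(⊤ : Z.Opens)) := hU
  exact IsAffine.of_isIso Z.topIso.inv

/-- higher cohomology of a coherent module with zero-dimensional support vanishes -/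
theorem subsingleton_HH_of_dim_le_zero [IsNoetherian X] (M : X.Modules) (hM : Coh.IsCoh M)
    (hdim : topologicalKrullDim ↥(CohB1.support M) ≤ 0) (j : ℕ) (hj : 0 < j) :
    Subsingleton (Coh.HH X M j) := by
  have hcl : IsClosed (CohB1.support M) := FtGen.isClosed_support M hM.2
  refine dev_ideal (fun N => Subsingleton (Coh.HH X N j)) ?_ ?_ (CohB1.support M) ?_ ?_ M hM
    subset_rfl
  · intro N N' e h
    exact subsingleton_HH_of_iso e.symm j h
  · intro N hN
    exact H1Ext.subsingleton_HH_of_isZero hN j
  · intro S hS _ _ _ _ h1 h3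
    exact H1Ext.subsingleton_HH_mid hS j h1 h3
  · intro Z i hi hZ hr I ι _ hI
    haveI := hi
    haveI := hZ
    haveI : IsAffine Z := isAffine_of_dim_le_zero (CohB1.support M) hcl hdim i hr
    haveI : Coh.IsQCoh I := hI
    obtain ⟨e⟩ := Groth.Agent.S0012.result i I j
    haveI := Groth.Agent.S0007.result Z I j hj
    exact e.symm.toEquiv.subsingleton

end ZeroDim


section ZeroDimK

variable (k : Type u) [Field k] (X : Scheme.{u}) [X.Over (Spec (CommRingCat.of k))]

include k in
/-- a coherent module with zero-dimensional support and no global sections vanishes -/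
theorem isZero_of_subsingleton_HH0 [IsNoetherian X] (M : X.Modules) (hM : Coh.IsCoh M)
    (hdim : topologicalKrullDim ↥(CohB1.support M) ≤ 0) (h0 : Subsingleton (Coh.HH X M 0)) :
    IsZero M := by
  have hcl : IsClosed (CohB1.support M) := FtGen.isClosed_support M hM.2
  refine dev_ideal (fun N => Subsingleton (Coh.HH X N 0) → IsZero N) ?_ ?_ (CohB1.support M) ?_ ?_
    M hM subset_rfl h0
  · intro N N' e h h'
    exact (h (subsingleton_HH_of_iso e 0 h')).of_iso e.symm
  · intro N hN _
    exact hN
  · intro S hS _ _ _ _ h1 h3 h2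
    have hinj := HHFin3.HHlin_f_zero_injective k hS
    have hX1 : IsZero S.X₁ := h1 ⟨fun a b => hinj (Subsingleton.elim (h := h2) _ _)⟩
    have hH1 : Subsingleton (Coh.HH X S.X₁ 1) := H1Ext.subsingleton_HH_of_isZero hX1 1
    have hX3 : IsZero S.X₃ := by
      apply h3
      refine subsingleton_of_forall_eq 0 fun y => ?_
      obtain ⟨x, hx⟩ := HHFin2.exact_g_delta k hS 0 y (Subsingleton.elim (h := hH1) _ _)
      rw [← hx, Subsingleton.elim (h := h2) x 0, map_zero]
    exact (isZero_mid_iff S hS).2 ⟨hX1, hX3⟩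
  · intro Z i hi hZ hr I ι _ hI hsub
    haveI := hi
    haveI := hZ
    haveI : IsAffine Z := isAffine_of_dim_le_zero (CohB1.support M) hcl hdim i hr
    haveI : Coh.IsQCoh I := hI
    obtain ⟨e⟩ := Groth.Agent.S0012.result i I 0
    haveI : Subsingleton (Coh.HH Z I 0) := e.toEquiv.subsingleton
    haveI : Subsingleton Γ(I, ⊤) := (CohUtil.HH0equiv I).symm.toEquiv.subsingleton
    have hI0 : IsZero I := by
      haveI : I.IsQuasicoherent := hI
      exact CohACC.isZero_of_affine_cover I (fun _ : Unit => (⊤ : Z.Opens))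
        (fun _ => isAffineOpen_top Z) (by simp) (fun _ s => Subsingleton.elim _ _)
    exact (Coh.push i).map_isZero hI0

variable [IsProper (X ↘ (Spec (CommRingCat.of k)))]

/-- the Euler characteristic of a module with zero-dimensional support is `h⁰` -/
theorem euler_eq_finrank_of_dim_le_zero (M : X.Modules) (hM : Coh.IsCoh M)
    (hdim : topologicalKrullDim ↥(CohB1.support M) ≤ 0) :
    Curv2.euler k X M = (Module.finrank k (Coh.HH X M 0) : ℤ) := by
  haveI := isNoetherian_of_proper k X
  unfold Curv2.euler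
  rw [finsum_eq_single _ 0]
  · rw [pow_zero, one_mul]
  · intro i hi
    haveI := subsingleton_HH_of_dim_le_zero M hM hdim i (Nat.pos_of_ne_zero hi)
    rw [Module.finrank_zero_of_subsingleton, Nat.cast_zero, mul_zero]

theorem euler_nonneg_of_dim_le_zero (M : X.Modules) (hM : Coh.IsCoh M)
    (hdim : topologicalKrullDim ↥(CohB1.support M) ≤ 0) : 0 ≤ Curv2.euler k X M := by
  rw [euler_eq_finrank_of_dim_le_zero k X M hM hdim]
  exact Int.natCast_nonneg _

/-- a module with zero-dimensional support and vanishing Euler characteristic is zero -/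
theorem isZero_of_euler_eq_zero (M : X.Modules) (hM : Coh.IsCoh M)
    (hdim : topologicalKrullDim ↥(CohB1.support M) ≤ 0) (h : Curv2.euler k X M ≤ 0) :
    IsZero M := by
  haveI := isNoetherian_of_proper k X
  rw [euler_eq_finrank_of_dim_le_zero k X M hM hdim] at h
  have h0 : Module.finrank k (Coh.HH X M 0) = 0 := by omega
  haveI : Module.Finite k (Coh.HH X M 0) := T2Main1.t2 k X M hM 0
  have hsub : Subsingleton (Coh.HH X M 0) := Module.finrank_zero_iff.1 h0
  exact isZero_of_subsingleton_HH0 k X M hM hdim hsub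

end ZeroDimK

end Groth.Agent.Helper1.Euler
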