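import Mathlib
import Groth.Agent.Lib.Helper1.Euler4
import Groth.Agent.Lib.Helper1.LGen
import Groth.Agent.Lib.Helper1.FtLocal
import Groth.Agent.Lib.Helper1.CohAbel
import Groth.Agent.Lib.Helper1.SubExt8
import Groth.Agent.Lib.Helper1.TwistSec
import Groth.Agent.Lib.Helper1.AmpleQA
import Groth.Agent.Lib.Helper1.InvFt

/-!
# Maps between invertible modules on integral schemes (helper1)
-/

set_option autoImplicit false
universe u
open CategoryTheory CategoryTheory.Limits AlgebraicGeometry TopologicalSpace Opposite

namespace Groth.Agent.Helper1.Curve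

open Groth.Agent.Lib.Helper4 Groth.Agent.Helper1.Dv Groth.Agent.Helper1.FinLen
  Groth.Agent.Helper1.LGen Groth.Agent.Helper1.QcCech Groth.Agent.Lib.Helper5.StalkAdj

variable {X : Scheme.{u}}

theorem genericPoint_mem_of_nonempty [IsIntegral X] (W : X.Opens) (x : X) (hx : x ∈ W) :
    genericPoint X ∈ W :=
  ((genericPoint_spec X).mem_open_set_iff W.isOpen).2 ⟨x, Set.mem_univ _, hx⟩

/-- a section of an invertible module on an integral scheme vanishing near the generic point
vanishes -/
theorem eq_zero_of_res_eq_zero [IsIntegral X] {L : X.Modules} (hL : PicF.IsInvertible L)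
    {V V' : X.Opens} (hV' : V' ≤ V) (hne : genericPoint X ∈ V') (t : Γ(L, V))
    (ht : res L hV' t = 0) : t = 0 := by
  apply TwistSec.eq_of_locally
  intro x hx
  obtain ⟨W₀, b₀, hxW₀, hb₀⟩ := exists_isGen hL x
  have hW : W₀ ⊓ V ≤ V := inf_le_right
  refine ⟨W₀ ⊓ V, hW, ⟨hxW₀, hx⟩, ?_⟩
  rw [map_zero]
  have hb := hb₀.res (inf_le_left : W₀ ⊓ V ≤ W₀)
  obtain ⟨r, hr⟩ := hb.exists_coeff (res L hW t)
  have hW' : W₀ ⊓ V ⊓ V' ≤ W₀ ⊓ V := inf_le_left
  have h0 : res L hW' (res L hW t) = 0 := by
    rw [res_res]
    have : res L (hW'.trans hW) t = res L (inf_le_right : W₀ ⊓ V ⊓ V' ≤ V') (res L hV' t) := by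
      rw [res_res]
    rw [this, ht, map_zero]
  rw [← hr, res_smul] at h0
  have hinj := (hb (W₀ ⊓ V ⊓ V') hW').1
  have hr0 : resR hW' r = 0 := by
    apply hinj
    change resR hW' r • res L hW' (res L inf_le_left b₀) = (0 : Γ(X, W₀ ⊓ V ⊓ V')) • _
    rw [zero_smul]
    exact h0
  have hξW : genericPoint X ∈ W₀ ⊓ V := genericPoint_mem_of_nonempty _ x ⟨hxW₀, hx⟩
  haveI : Nonempty (↑(W₀ ⊓ V ⊓ V') : Scheme.{u}) := ⟨⟨genericPoint X, ⟨hξW, hne⟩⟩⟩
  have hr' : r = 0 := by
    apply map_injective_of_isIntegral X (homOfLE hW')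
    rw [map_zero]
    exact hr0
  rw [← hr, hr', zero_smul]

/-- the germ at the generic point is injective on sections of an invertible module -/
theorem germ_genericPoint_injective [IsIntegral X] {L : X.Modules} (hL : PicF.IsInvertible L)
    (V : X.Opens) (hV : genericPoint X ∈ V) (t : Γ(L, V))
    (ht : L.presheaf.germ V (genericPoint X) hV t = 0) : t = 0 := by
  have h1 : L.presheaf.germ V (genericPoint X) hV t = L.presheaf.germ V (genericPoint X) hV 0 := by
    rw [ht, map_zero]
  obtain ⟨V', hV', iU, iV, e⟩ := TopCat.Presheaf.germ_eq L.presheaf (genericPoint X) hV hV _ _ h1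
  have e' : res L (leOfHom iU) t = 0 := by
    have h2 : L.presheaf.map iV.op (0 : Γ(L, V)) = 0 := map_zero _
    rw [h2] at e
    exact e
  exact eq_zero_of_res_eq_zero hL (leOfHom iU) hV' t e'

theorem isFinLocFreeOfRank_one {L : X.Modules} (hL : PicF.IsInvertible L) :
    FlatMod.IsFinLocFreeOfRank 1 L := fun x => by
  obtain ⟨U, hxU, ⟨e⟩⟩ := hL x
  exact ⟨U, hxU, ⟨e ≪≫ (coprodOneIso (Coh.structureModule (↑U : Scheme.{u}))).symm⟩⟩

/-- a map of invertible modules on an integral scheme which vanishes at the generic point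
vanishes -/
theorem eq_zero_of_stalkL_eq_zero [IsIntegral X] {N L : X.Modules} (hL : PicF.IsInvertible L)
    (φ : N ⟶ L) (h : stalkL φ (genericPoint X) = 0) : φ = 0 := by
  apply Scheme.Modules.hom_ext
  intro V
  ext t
  change φ.app V t = 0
  by_cases hV : genericPoint X ∈ V
  · apply germ_genericPoint_injective hL V hV
    rw [← stalkL_germ, h]
    rfl
  · apply TwistSec.eq_of_locally
    intro x hx
    exact absurd (genericPoint_mem_of_nonempty V x hx) hV

/-- a nonzero map of invertible modules on an integral scheme is bijective at the generic point -/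
theorem stalkL_bijective_of_ne_zero [IsIntegral X] {N L : X.Modules} (hN : PicF.IsInvertible N)
    (hL : PicF.IsInvertible L) (φ : N ⟶ L) (hφ : φ ≠ 0) :
    Function.Bijective (stalkL φ (genericPoint X)) := by
  letI : Field (X.presheaf.stalk (genericPoint X)) := inferInstanceAs (Field X.functionField)
  have hN1 := finrank_stalk_of_rank (isFinLocFreeOfRank_one hN) (genericPoint X)
  have hL1 := finrank_stalk_of_rank (isFinLocFreeOfRank_one hL) (genericPoint X)
  have hNf := (Groth.Agent.Lib.Helper5.StalkFree.free_finite_stalk_of_isFinLocFree N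
    (isFinLocFree_of_rank (isFinLocFreeOfRank_one hN)) (genericPoint X)).2
  have hLf := (Groth.Agent.Lib.Helper5.StalkFree.free_finite_stalk_of_isFinLocFree L
    (isFinLocFree_of_rank (isFinLocFreeOfRank_one hL)) (genericPoint X)).2
  haveI : Module.Finite (X.presheaf.stalk (genericPoint X)) (N.presheaf.stalk (genericPoint X)) :=
    hNf
  haveI : Module.Finite (X.presheaf.stalk (genericPoint X)) (L.presheaf.stalk (genericPoint X)) :=
    hLf
  set f := stalkL φ (genericPoint X) with hf
  have hne : f ≠ 0 := fun h => hφ (eq_zero_of_stalkL_eq_zero hL φ h)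
  have hrk := f.finrank_range_add_finrank_ker
  have hrange : 0 < Module.finrank (X.presheaf.stalk (genericPoint X)) (LinearMap.range f) := by
    rw [Module.finrank_pos_iff]
    by_contra hsub
    rw [not_nontrivial_iff_subsingleton] at hsub
    apply hne
    ext v
    have : (⟨f v, v, rfl⟩ : LinearMap.range f) = 0 := Subsingleton.elim _ _
    exact congrArg Subtype.val this
  have hle : Module.finrank (X.presheaf.stalk (genericPoint X)) (LinearMap.range f) ≤ 1 := by
    have := Submodule.finrank_le (LinearMap.range f)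
    rw [show Module.finrank (X.presheaf.stalk (genericPoint X))
      (L.presheaf.stalk (genericPoint X)) = 1 from hL1] at this
    exact this
  have hN1' : Module.finrank (X.presheaf.stalk (genericPoint X))
      (N.presheaf.stalk (genericPoint X)) = 1 := hN1
  rw [hN1'] at hrk
  have hker : Module.finrank (X.presheaf.stalk (genericPoint X)) (LinearMap.ker f) = 0 := by omega
  have hrange1 : Module.finrank (X.presheaf.stalk (genericPoint X)) (LinearMap.range f) = 1 := by
    omega
  constructor
  · rw [← LinearMap.ker_eq_bot]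
    exact Submodule.finrank_eq_zero.1 hker
  · rw [← LinearMap.range_eq_top]
    apply Submodule.eq_top_of_finrank_eq
    rw [hrange1]
    exact hL1.symm

/-- a nonzero map of invertible modules on an integral scheme is a monomorphism -/
theorem mono_of_ne_zero [IsIntegral X] {N L : X.Modules} (hN : PicF.IsInvertible N)
    (hL : PicF.IsInvertible L) (φ : N ⟶ L) (hφ : φ ≠ 0) : Mono φ := by
  have hbij := stalkL_bijective_of_ne_zero hN hL φ hφ
  have hker : genericPoint X ∉ CohB1.support (kernel φ) :=
    notMem_support_kernel' φ (genericPoint X) hbij.1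
  have hsub : Subsingleton ((kernel φ).presheaf.stalk (genericPoint X)) := not_not.1 hker
  have hz : IsZero (kernel φ) := by
    apply CohACC.isZero_of_sections
    intro V t
    by_cases hV : genericPoint X ∈ V
    · apply FtLocal.app_injective_of_mono (kernel.ι φ) V
      rw [map_zero]
      apply germ_genericPoint_injective hN V hV
      rw [← stalkL_germ, Subsingleton.elim ((kernel φ).presheaf.germ V (genericPoint X) hV t) 0,
        map_zero]
    · apply TwistSec.eq_of_locally
      intro x hx
      exact absurd (genericPoint_mem_of_nonempty V x hx) hV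
  exact Preadditive.mono_of_kernel_zero (hz.eq_of_src _ _)

theorem genericPoint_notMem_support_cokernel [IsIntegral X] {N L : X.Modules}
    (hN : PicF.IsInvertible N) (hL : PicF.IsInvertible L) (φ : N ⟶ L) (hφ : φ ≠ 0) :
    genericPoint X ∉ CohB1.support (cokernel φ) :=
  notMem_support_cokernel' φ (genericPoint X) (stalkL_bijective_of_ne_zero hN hL φ hφ).2

/-- a proper closed subset of an irreducible space has smaller dimension -/
theorem krullDim_add_one_le_of_ne_univ {T : Type*} [TopologicalSpace T] [IrreducibleSpace T]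
    {A : Set T} (hA : IsClosed A) (hne : A ≠ Set.univ) :
    topologicalKrullDim ↥A + 1 ≤ topologicalKrullDim T := by
  unfold topologicalKrullDim
  by_cases hemp : Nonempty (IrreducibleCloseds ↥A)
  · rw [← Order.krullDim_WithTop]
    have hf : Topology.IsInducing (Subtype.val : ↥A → T) := Topology.IsInducing.subtypeVal
    let top : IrreducibleCloseds T :=
      ⟨Set.univ, IrreducibleSpace.isIrreducible_univ _, isClosed_univ⟩
    have hlt : ∀ a : IrreducibleCloseds ↥A,
        IrreducibleCloseds.map Subtype.val hf.continuous a < top := by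
      intro a
      rw [lt_iff_le_and_ne]
      refine ⟨fun _ _ => Set.mem_univ _, ?_⟩
      intro h
      apply hne
      rw [Set.eq_univ_iff_forall]
      intro x
      have hx : x ∈ (IrreducibleCloseds.map Subtype.val hf.continuous a : Set T) := by
        rw [h]
        exact Set.mem_univ _
      rw [IrreducibleCloseds.coe_map] at hx
      have hsub : Subtype.val '' (a : Set ↥A) ⊆ A := by
        rintro _ ⟨y, -, rfl⟩
        exact y.2
      exact closure_minimal hsub hA hx
    let ψ : WithTop (IrreducibleCloseds ↥A) → IrreducibleCloseds T := fun a =>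
      WithTop.recTopCoe top (IrreducibleCloseds.map Subtype.val hf.continuous) a
    apply Order.krullDim_le_of_strictMono ψ
    intro a b hab
    induction a with
    | top => exact absurd hab (not_top_lt)
    | coe a =>
      induction b with
      | top => exact hlt a
      | coe b =>
        exact IrreducibleCloseds.map_strictMono_of_isInducing hf (WithTop.coe_lt_coe.1 hab)
  · rw [not_nonempty_iff] at hemp
    rw [Order.krullDim_eq_bot, WithBot.bot_add]
    exact bot_le

theorem le_zero_of_add_one_le_one (x : WithBot ℕ∞) (h : x + 1 ≤ 1) : x ≤ 0 := by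
  induction x with
  | bot => exact bot_le
  | coe m =>
    induction m with
    | top =>
      exfalso
      have : ((⊤ : ℕ∞) : WithBot ℕ∞) + 1 = ((⊤ : ℕ∞) : WithBot ℕ∞) := by
        rw [← WithBot.coe_one, ← WithBot.coe_add, top_add]
      rw [this] at h
      have h' : (⊤ : ℕ∞) ≤ 1 := by exact_mod_cast h
      simp at h'
    | coe n =>
      have h' : ((n + 1 : ℕ) : WithBot ℕ∞) ≤ ((1 : ℕ) : WithBot ℕ∞) := by exact_mod_cast h
      have h'' : n + 1 ≤ 1 := by exact_mod_cast h'
      have : n = 0 := by omega
      subst this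
      rfl

/-- on an integral curve, a coherent module whose support misses the generic point has
zero-dimensional support -/
theorem dim_support_le_zero [IsIntegral X] (hdim : topologicalKrullDim X = 1) (Q : X.Modules)
    (hQ : Coh.IsCoh Q) (h : genericPoint X ∉ CohB1.support Q) :
    topologicalKrullDim ↥(CohB1.support Q) ≤ 0 := by
  have hcl : IsClosed (CohB1.support Q) := FtGen.isClosed_support Q hQ.2
  have hne : CohB1.support Q ≠ Set.univ := fun he => h (he ▸ Set.mem_univ _)
  have h1 := krullDim_add_one_le_of_ne_univ hcl hne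
  rw [hdim] at h1
  exact le_zero_of_add_one_le_one _ h1

section Deg

open Groth.Agent.Helper1.Euler

variable (k : Type u) [Field k] (X : Scheme.{u}) [X.Over (Spec (CommRingCat.of k))]
  [IsIntegral X] [IsProper (X ↘ (Spec (CommRingCat.of k)))]

/-- the cokernel sequence of a nonzero map of invertible modules on a proper integral curve -/
theorem cokernel_package (hdim : topologicalKrullDim X = 1) {N L : X.Modules}
    (hN : PicF.IsInvertible N) (hL : PicF.IsInvertible L) (φ : N ⟶ L) (hφ : φ ≠ 0) :
    Mono φ ∧ Coh.IsCoh (cokernel φ) ∧ topologicalKrullDim ↥(CohB1.support (cokernel φ)) ≤ 0 ∧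
      Curv2.euler k X L = Curv2.euler k X N + Curv2.euler k X (cokernel φ) := by
  have hNc := InvQc.isCoh_of_isInvertible N hN
  have hLc := InvQc.isCoh_of_isInvertible L hL
  have hmono := mono_of_ne_zero hN hL φ hφ
  have hQc : Coh.IsCoh (cokernel φ) := FtLocal.isCoh_cokernel hNc hLc φ
  have hQd := dim_support_le_zero hdim (cokernel φ) hQc
    (genericPoint_notMem_support_cokernel hN hL φ hφ)
  refine ⟨hmono, hQc, hQd, ?_⟩
  let S : ShortComplex X.Modules := ShortComplex.mk φ (cokernel.π φ) (cokernel.condition φ)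
  have hS : S.Exact := ShortComplex.exact_cokernel φ
  haveI : Mono S.f := hmono
  haveI : Epi S.g := inferInstanceAs (Epi (cokernel.π φ))
  have hSE : S.ShortExact := { exact := hS }
  exact euler_additive k X S hSE hNc hLc hQc

theorem deg_sub_deg (hdim : topologicalKrullDim X = 1) {N L : X.Modules}
    (hN : PicF.IsInvertible N) (hL : PicF.IsInvertible L) (φ : N ⟶ L) (hφ : φ ≠ 0) :
    Curv2.deg k X L 1 - Curv2.deg k X N 1 = Curv2.euler k X (cokernel φ) := by
  obtain ⟨-, -, -, h⟩ := cokernel_package k X hdim hN hL φ hφ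
  unfold Curv2.deg
  rw [h]
  ring

theorem isIso_of_euler_cokernel_le_zero (hdim : topologicalKrullDim X = 1) {N L : X.Modules}
    (hN : PicF.IsInvertible N) (hL : PicF.IsInvertible L) (φ : N ⟶ L) (hφ : φ ≠ 0)
    (h : Curv2.euler k X (cokernel φ) ≤ 0) : IsIso φ := by
  obtain ⟨hmono, hQc, hQd, -⟩ := cokernel_package k X hdim hN hL φ hφ
  have hz := isZero_of_euler_eq_zero k X (cokernel φ) hQc hQd h
  haveI : Epi φ := Preadditive.epi_of_cokernel_zero (hz.eq_of_tgt _ _)
  exact isIso_of_mono_of_epi φ

/-- S1521 -/
theorem deg_le_of_hom (hdim : topologicalKrullDim X = 1) {N L : X.Modules}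
    (hN : PicF.IsInvertible N) (hL : PicF.IsInvertible L) (φ : N ⟶ L) (hφ : φ ≠ 0) :
    Curv2.deg k X N 1 ≤ Curv2.deg k X L 1 ∧
      (Curv2.deg k X N 1 = Curv2.deg k X L 1 → IsIso φ) := by
  obtain ⟨-, hQc, hQd, -⟩ := cokernel_package k X hdim hN hL φ hφ
  have h1 := deg_sub_deg k X hdim hN hL φ hφ
  have h2 := euler_nonneg_of_dim_le_zero k X (cokernel φ) hQc hQd
  refine ⟨by linarith, fun he => ?_⟩
  apply isIso_of_euler_cokernel_le_zero k X hdim hN hL φ hφ
  linarith

theorem deg_structureModule : Curv2.deg k X (Coh.structureModule X) 1 = 0 := by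
  unfold Curv2.deg
  simp

/-- S1518 -/
theorem deg_nonneg_of_section (hdim : topologicalKrullDim X = 1) {L : X.Modules}
    (hL : PicF.IsInvertible L) (s : Coh.structureModule X ⟶ L) (hs : s ≠ 0) :
    0 ≤ Curv2.deg k X L 1 := by
  have h := (deg_le_of_hom k X hdim GenLoc.isInvertible_O hL s hs).1
  rwa [deg_structureModule] at h

/-- S1520 -/
theorem iso_of_deg_nonpos_of_section (hdim : topologicalKrullDim X = 1) {L : X.Modules}
    (hL : PicF.IsInvertible L) (s : Coh.structureModule X ⟶ L) (hs : s ≠ 0)
    (hdeg : Curv2.deg k X L 1 ≤ 0) : Nonempty (L ≅ Coh.structureModule X) := by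
  have h0 := deg_nonneg_of_section k X hdim hL s hs
  have h := (deg_le_of_hom k X hdim GenLoc.isInvertible_O hL s hs).2
  rw [deg_structureModule] at h
  haveI := h (by omega)
  exact ⟨(asIso s).symm⟩

/-- S1519 -/
theorem deg_pos_of_section_vanishing (hdim : topologicalKrullDim X = 1) {L : X.Modules}
    (hL : PicF.IsInvertible L) (s : Coh.structureModule X ⟶ L) (hs : s ≠ 0)
    (x : X) (hx : x ∉ CohB1.genLocus L s) : 0 < Curv2.deg k X L 1 := by
  have h0 := deg_nonneg_of_section k X hdim hL s hs
  have h := (deg_le_of_hom k X hdim GenLoc.isInvertible_O hL s hs).2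
  rw [deg_structureModule] at h
  by_contra hle
  haveI : IsIso s := h (by omega)
  apply hx
  have : (⊤ : X.Opens) ≤ CohB1.genLocus L s := by
    apply le_sSup
    change IsIso ((Scheme.Modules.restrictFunctor (⊤ : X.Opens).ι).map s)
    infer_instance
  exact this trivial

end Deg

end Groth.Agent.Helper1.Curve
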