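import Mathlib
import Groth.Prelude.Def_Coh
import Groth.Agent.Lib.Helper1.QcsVan
import Groth.Agent.Lib.Helper1.CohUtil
import Groth.Agent.Lib.Helper1.FinLen6

/-!
# Grothendieck vanishing for noetherian separated schemes of dimension `≤ 1` (helper1)
-/

set_option autoImplicit false
universe u
open CategoryTheory CategoryTheory.Limits AlgebraicGeometry TopologicalSpace Opposite

namespace Groth.Agent.Helper1.GV1

open Groth.Agent.Helper1.FinLen

variable {X : Scheme.{u}}

/-- acyclic opens -/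
def Acyc (W : X.Opens) : Prop :=
  ∀ (M : X.Modules) [M.IsQuasicoherent] (n : ℕ), Subsingleton (CohTop.HU (Coh.toAb M) (n + 1) W)

/-- opens of cohomological dimension `≤ 1` -/
def Van2 (W : X.Opens) : Prop :=
  ∀ (M : X.Modules) [M.IsQuasicoherent] (n : ℕ), Subsingleton (CohTop.HU (Coh.toAb M) (n + 2) W)

theorem acyc_of_affine {W : X.Opens} (hW : IsAffineOpen W) : Acyc W :=
  fun M _ n => QcAcyc.subsingleton_HU M W hW n

theorem subsingleton_HU_bot (M : X.Modules) [M.IsQuasicoherent] (n : ℕ) :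
    Subsingleton (CohTop.HU (Coh.toAb M) n ⊥) := by
  cases n with
  | zero =>
    haveI := CohUtil.subsingleton_sections_bot (Coh.toAb M)
    exact (CohUtil.HU0equiv (Coh.toAb M) ⊥).toEquiv.subsingleton
  | succ m => exact QcAcyc.subsingleton_HU M ⊥ (isAffineOpen_bot X) m

theorem acyc_sup {U V : X.Opens} (hU : Acyc U) (hV : Acyc V) (hUV : U ⊓ V = ⊥) :
    Acyc (U ⊔ V) := by
  intro M _ n
  refine MVvan.subsingleton_sup _ U V n ?_ (hU M n) (hV M n)
  rw [hUV]
  exact subsingleton_HU_bot M n

theorem van2_sup {S V : X.Opens} (hS : Van2 S) (hV : Acyc V) (hSV : Acyc (S ⊓ V)) :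
    Van2 (S ⊔ V) := by
  intro M _ n
  exact MVvan.subsingleton_sup _ S V (n + 1) (hSV M n) (hS M n) (hV M (n + 1))

theorem acyc_finset_sup {ι : Type*} (T : Finset ι) (W : ι → X.Opens)
    (hW : ∀ i ∈ T, Acyc (W i))
    (hdisj : ∀ i ∈ T, ∀ j ∈ T, i ≠ j → W i ⊓ W j = ⊥) : Acyc (T.sup W) := by
  classical
  induction T using Finset.induction_on with
  | empty =>
    rw [Finset.sup_empty]
    exact acyc_of_affine (isAffineOpen_bot X)
  | insert a T ha ih =>
    rw [Finset.sup_insert]
    refine acyc_sup (hW a (Finset.mem_insert_self _ _))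
      (ih (fun i hi => hW i (Finset.mem_insert_of_mem hi))
        (fun i hi j hj hij => hdisj i (Finset.mem_insert_of_mem hi) j
          (Finset.mem_insert_of_mem hj) hij)) ?_
    rw [Finset.sup_inf_distrib_left, Finset.sup_eq_bot_iff]
    intro i hi
    exact hdisj a (Finset.mem_insert_self _ _) i (Finset.mem_insert_of_mem hi)
      (fun h => ha (h ▸ hi))

theorem van2_of_cover (U : X.Opens) (hU : Acyc U) {ι : Type*} (T : Finset ι) (V : ι → X.Opens)
    (hV : ∀ i ∈ T, Acyc (V i)) (hUV : ∀ i ∈ T, Acyc (U ⊓ V i))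
    (hpair : ∀ i ∈ T, ∀ j ∈ T, i ≠ j → V i ⊓ V j ≤ U) : Van2 (U ⊔ T.sup V) := by
  classical
  induction T using Finset.induction_on with
  | empty =>
    rw [Finset.sup_empty, sup_bot_eq]
    exact fun M _ n => hU M (n + 1)
  | insert a T ha ih =>
    have h1 : U ⊔ (insert a T).sup V = (U ⊔ T.sup V) ⊔ V a := by
      rw [Finset.sup_insert, sup_comm (V a), sup_assoc]
    rw [h1]
    refine van2_sup (ih (fun i hi => hV i (Finset.mem_insert_of_mem hi))
      (fun i hi => hUV i (Finset.mem_insert_of_mem hi))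
      (fun i hi j hj hij => hpair i (Finset.mem_insert_of_mem hi) j
          (Finset.mem_insert_of_mem hj) hij)) (hV a (Finset.mem_insert_self _ _)) ?_
    have h2 : (U ⊔ T.sup V) ⊓ V a = U ⊓ V a := by
      rw [inf_sup_right]
      apply le_antisymm
      · refine sup_le le_rfl ?_
        rw [Finset.sup_inf_distrib_right]
        refine Finset.sup_le fun i hi => ?_
        refine le_inf ?_ inf_le_right
        exact hpair i (Finset.mem_insert_of_mem hi) a (Finset.mem_insert_self _ _)
          (fun h => ha (h ▸ hi))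
      · exact le_sup_left
    rw [h2]
    exact hUV a (Finset.mem_insert_self _ _)


section Topology

private theorem le_zero_aux (x : WithBot ℕ∞) (h : x + 1 ≤ 1) : x ≤ 0 := by
  induction x with
  | bot => exact bot_le
  | coe m =>
    induction m with
    | top =>
      exfalso
      have : ((⊤ : ℕ∞) : WithBot ℕ∞) + 1 = ((⊤ : ℕ∞) : WithBot ℕ∞) := by
        rw [← WithBot.coe_one, ← WithBot.coe_add, top_add]
      rw [this] at h
      have h' : (⊤ : ℕ∞) ≤ 1 := by exact_mod_cast h
      simp at h'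
    | coe n =>
      have h' : ((n + 1 : ℕ) : WithBot ℕ∞) ≤ ((1 : ℕ) : WithBot ℕ∞) := by exact_mod_cast h
      have h'' : n + 1 ≤ 1 := by exact_mod_cast h'
      have : n = 0 := by omega
      subst this
      rfl

/-- in a space of dimension `≤ 1`, a non-generic point of an irreducible closed set is closed -/
theorem isClosed_singleton_of_dim_le_one {T : Type*} [TopologicalSpace T] [T0Space T]
    (hdim : topologicalKrullDim T ≤ 1) (z η : T) (C : Set T)
    (hC : IsClosed C) (hη : IsGenericPoint η C) (hz : z ∈ C) (hne : z ≠ η) :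
    IsClosed ({z} : Set T) := by
  rw [← closure_subset_iff_isClosed]
  intro w hw
  by_contra hwz
  have hwz' : w ≠ z := hwz
  have hAB : closure ({w} : Set T) ⊂ closure ({z} : Set T) := by
    refine Set.ssubset_iff_subset_ne.2 ⟨closure_minimal (Set.singleton_subset_iff.2 hw)
      isClosed_closure, fun h => hwz' (inseparable_iff_closure_eq.2 h).eq⟩
  have hBC : closure ({z} : Set T) ⊂ C := by
    refine Set.ssubset_iff_subset_ne.2 ⟨closure_minimal (Set.singleton_subset_iff.2 hz) hC,
      fun h => hne ?_⟩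
    rw [← hη.def] at h
    exact (inseparable_iff_closure_eq.2 h).eq
  have h1 := krullDim_add_one_le_of_ssubset isIrreducible_singleton.closure isClosed_closure
    isIrreducible_singleton.closure hAB
  have h2 := krullDim_add_one_le_of_ssubset isIrreducible_singleton.closure isClosed_closure
    hη.isIrreducible hBC
  have h3 : topologicalKrullDim ↥C ≤ topologicalKrullDim T :=
    Topology.IsInducing.subtypeVal.topologicalKrullDim_le
  haveI : Nonempty (IrreducibleCloseds ↥(closure ({w} : Set T))) :=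
    ⟨⟨Set.univ, (isIrreducible_iff_irreducibleSpace.1
      isIrreducible_singleton.closure).isIrreducible_univ, isClosed_univ⟩⟩
  have h0 : (0 : WithBot ℕ∞) ≤ topologicalKrullDim ↥(closure ({w} : Set T)) :=
    Order.krullDim_nonneg
  have h4 : topologicalKrullDim ↥(closure ({z} : Set T)) ≤ 0 :=
    le_zero_aux _ (h2.trans (h3.trans hdim))
  have h5 : (0 : WithBot ℕ∞) + 1 ≤ 0 := (add_le_add_left h0 1).trans (h1.trans h4)
  have h6 : ((0 : ℕ) : WithBot ℕ∞) + 1 ≤ ((0 : ℕ) : WithBot ℕ∞) := by simpa using h5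
  have h7 : ((0 + 1 : ℕ) : WithBot ℕ∞) ≤ ((0 : ℕ) : WithBot ℕ∞) := by exact_mod_cast h6
  have h8 : 0 + 1 ≤ 0 := by exact_mod_cast h7
  omega

/-- a closed subset of a noetherian quasi-sober space all of whose points are closed is finite -/
theorem finite_of_forall_isClosed_singleton {T : Type*} [TopologicalSpace T] [NoetherianSpace T]
    [QuasiSober T] (Z : Set T) (hZ : IsClosed Z) (h : ∀ z ∈ Z, IsClosed ({z} : Set T)) :
    Z.Finite := by
  classical
  obtain ⟨S, hSirr, hSeq⟩ := NoetherianSpace.exists_finset_irreducible ⟨Z, hZ⟩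
  have hZeq : Z = ⋃ t ∈ S, (t : Set T) := by
    have := congrArg (fun c : Closeds T => (c : Set T)) hSeq
    simp only [Closeds.coe_mk] at this
    rw [this, Closeds.coe_finset_sup, Finset.sup_set_eq_biUnion]
    rfl
  rw [hZeq]
  refine Set.Finite.biUnion S.finite_toSet (fun t ht => ?_)
  obtain ⟨g, hg⟩ := QuasiSober.sober (hSirr ⟨t, ht⟩) t.isClosed
  have hgZ : g ∈ Z := by
    rw [hZeq]
    exact Set.mem_biUnion ht hg.mem
  have : (t : Set T) = {g} := by rw [← hg.def, (h g hgZ).closure_eq]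
  rw [this]
  exact Set.finite_singleton g

end Topology

theorem exists_dense_affines [IsNoetherian X] :
    ∃ (T : Finset (Set X)) (W : Set X → X.Opens),
      (∀ C ∈ T, IsAffineOpen (W C)) ∧ (∀ C ∈ T, ∀ C' ∈ T, C ≠ C' → W C ⊓ W C' = ⊥) ∧
      (∀ z : X, ∃ C ∈ T, ∃ η : X, IsClosed C ∧ IsGenericPoint η C ∧ z ∈ C ∧ η ∈ W C) := by
  classical
  have hfin : (irreducibleComponents X).Finite := NoetherianSpace.finite_irreducibleComponents
  have key : ∀ C : Set X, C ∈ irreducibleComponents X → ∃ (η : X) (U : X.Opens),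
      IsGenericPoint η C ∧ IsAffineOpen U ∧ η ∈ U ∧
      ∀ p ∈ U, ∀ C' ∈ irreducibleComponents X, p ∈ C' → C' = C := by
    intro C hC
    have hCcl : IsClosed C := isClosed_of_mem_irreducibleComponents C hC
    obtain ⟨η, hη⟩ := QuasiSober.sober hC.1 hCcl
    have hO : IsOpen (⋃₀ (irreducibleComponents X \ {C}))ᶜ := by
      rw [Set.sUnion_eq_biUnion, isOpen_compl_iff]
      exact hfin.sdiff.isClosed_biUnion fun W hW ↦ isClosed_of_mem_irreducibleComponents W hW.1
    have hηO : η ∈ (⋃₀ (irreducibleComponents X \ {C}))ᶜ := by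
      rintro ⟨C', ⟨hC', hne⟩, hηC'⟩
      have hsub : C ⊆ C' := by
        rw [← hη.def]
        exact closure_minimal (Set.singleton_subset_iff.2 hηC')
          (isClosed_of_mem_irreducibleComponents C' hC')
      exact hne (hC.eq_of_subset hC'.1 hsub).symm
    obtain ⟨_, ⟨U, hU, rfl⟩, hηU, hUO⟩ :=
      X.isBasis_affineOpens.exists_subset_of_mem_open hηO hO
    refine ⟨η, U, hη, hU, hηU, fun p hp C' hC' hpC' => ?_⟩
    by_contra hne
    exact hUO hp ⟨C', ⟨hC', hne⟩, hpC'⟩
  choose! η U hη hU hηU hUC using key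
  refine ⟨hfin.toFinset, U, fun C hC => hU C (hfin.mem_toFinset.1 hC), ?_, ?_⟩
  · intro C hC C' hC' hne
    rw [hfin.mem_toFinset] at hC hC'
    refine le_bot_iff.1 (fun p hp => ?_)
    exfalso
    have h1 := hUC C hC p hp.1 (irreducibleComponent p)
      (irreducibleComponent_mem_irreducibleComponents p) mem_irreducibleComponent
    have h2 := hUC C' hC' p hp.2 (irreducibleComponent p)
      (irreducibleComponent_mem_irreducibleComponents p) mem_irreducibleComponent
    exact hne (h1.symm.trans h2)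
  · intro z
    have hz := irreducibleComponent_mem_irreducibleComponents z
    exact ⟨irreducibleComponent z, hfin.mem_toFinset.2 hz, η _ hz, isClosed_irreducibleComponent,
      hη _ hz, mem_irreducibleComponent, hηU _ hz⟩

theorem van2_top [IsNoetherian X] [X.IsSeparated] (hdim : topologicalKrullDim X ≤ 1) :
    Van2 (⊤ : X.Opens) := by
  classical
  obtain ⟨T, W, hWaff, hWdisj, hcov⟩ := exists_dense_affines (X := X)
  set U : X.Opens := T.sup W with hUdef
  have hUacyc : Acyc U := acyc_finset_sup T W (fun C hC => acyc_of_affine (hWaff C hC)) hWdisj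
  have hUinf : ∀ V : X.Opens, IsAffineOpen V → Acyc (U ⊓ V) := by
    intro V hV
    rw [hUdef, Finset.sup_inf_distrib_right]
    refine acyc_finset_sup T _ (fun C hC => acyc_of_affine ((hWaff C hC).inf hV)) ?_
    intro C hC C' hC' hne
    have := hWdisj C hC C' hC' hne
    apply le_bot_iff.1
    calc (W C ⊓ V) ⊓ (W C' ⊓ V) ≤ W C ⊓ W C' :=
          le_inf (inf_le_left.trans inf_le_left) (inf_le_right.trans inf_le_left)
      _ = ⊥ := this
  let Z : Set X := (U : Set X)ᶜ
  have hZcl : IsClosed Z := U.isOpen.isClosed_compl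
  have hZpt : ∀ z ∈ Z, IsClosed ({z} : Set X) := by
    intro z hz
    obtain ⟨C, hCT, η, hCcl, hη, hzC, hηW⟩ := hcov z
    refine isClosed_singleton_of_dim_le_one hdim z η C hCcl hη hzC ?_
    rintro rfl
    exact hz (Finset.le_sup (f := W) hCT hηW)
  have hZfin : Z.Finite := finite_of_forall_isClosed_singleton Z hZcl hZpt
  have key : ∀ z ∈ Z, ∃ V : X.Opens, IsAffineOpen V ∧ z ∈ V ∧ ∀ p ∈ V, p ∈ Z → p = z := by
    intro z hz
    have hO : IsOpen ((Z \ {z})ᶜ : Set X) := by
      rw [isOpen_compl_iff]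
      have : Z \ {z} = ⋃ p ∈ Z \ {z}, {p} := (Set.biUnion_of_singleton _).symm
      rw [this]
      exact (hZfin.subset Set.sdiff_subset).isClosed_biUnion (fun p hp => hZpt p hp.1)
    have hz' : z ∈ (Z \ {z})ᶜ := fun h => h.2 rfl
    obtain ⟨_, ⟨V, hV, rfl⟩, hzV, hVO⟩ :=
      X.isBasis_affineOpens.exists_subset_of_mem_open hz' hO
    refine ⟨V, hV, hzV, fun p hp hpZ => ?_⟩
    by_contra hne
    exact hVO hp ⟨hpZ, hne⟩
  choose! V hVaff hzV hVZ using key
  have htop : (⊤ : X.Opens) = U ⊔ hZfin.toFinset.sup V := by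
    refine le_antisymm (fun p _ => ?_) le_top
    by_cases hp : p ∈ U
    · exact (le_sup_left : U ≤ U ⊔ hZfin.toFinset.sup V) hp
    · have hpZ : p ∈ Z := hp
      exact (le_sup_right : _ ≤ U ⊔ hZfin.toFinset.sup V)
        (Finset.le_sup (f := V) (hZfin.mem_toFinset.2 hpZ) (hzV p hpZ))
  rw [htop]
  refine van2_of_cover U hUacyc _ V
    (fun z hz => acyc_of_affine (hVaff z (hZfin.mem_toFinset.1 hz)))
    (fun z hz => hUinf _ (hVaff z (hZfin.mem_toFinset.1 hz))) ?_
  intro z hz z' hz' hne p hp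
  rw [hZfin.mem_toFinset] at hz hz'
  by_contra hpU
  have hpZ : p ∈ Z := hpU
  have e1 := hVZ z hz p hp.1 hpZ
  have e2 := hVZ z' hz' p hp.2 hpZ
  exact hne (e1.symm.trans e2)

/-- **Grothendieck vanishing in dimension `≤ 1`**: on a noetherian separated scheme of dimension
`≤ 1`, quasi-coherent modules have no cohomology in degrees `≥ 2`. -/
theorem subsingleton_HH_of_dim_le_one [IsNoetherian X] [X.IsSeparated]
    (hdim : topologicalKrullDim X ≤ 1) (M : X.Modules) (hM : Coh.IsQCoh M) (n : ℕ) (hn : 2 ≤ n) :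
    Subsingleton (Coh.HH X M n) := by
  haveI : M.IsQuasicoherent := hM
  obtain ⟨m, rfl⟩ : ∃ m, n = m + 2 := ⟨n - 2, by omega⟩
  haveI := van2_top hdim M m
  exact (CohUtil.HHequivHU M (m + 2)).toEquiv.subsingleton

end Groth.Agent.Helper1.GV1
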