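import Mathlib
import Groth.Agent.Lib.Helper1.Curve1
import Groth.Agent.Lib.Helper1.GV1
import Groth.Agent.Lib.Helper1.ModTriv
import Groth.Agent.Lib.Helper1.HH0

/-!
# Curves: consequences of Grothendieck vanishing in dimension one (helper1)
-/

set_option autoImplicit false
universe u
open CategoryTheory CategoryTheory.Limits AlgebraicGeometry TopologicalSpace Opposite

namespace Groth.Agent.Helper1.Curve

open Groth.Agent.Lib.Helper4 Groth.Agent.Helper1.Dv Groth.Agent.Helper1.FinLen
  Groth.Agent.Helper1.Euler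

section General

variable {X : Scheme.{u}}

/-- a nonzero class in `H^0` gives a nonzero section -/
theorem exists_section_of_HH0_ne (L : X.Modules) (x : Coh.HH X L 0) (hx : x ≠ 0) :
    ∃ s : Coh.structureModule X ⟶ L, s ≠ 0 := by
  let t := HH0.equiv X L x
  have ht : t ≠ 0 := fun h => hx ((HH0.equiv X L).injective (h.trans (map_zero _).symm))
  refine ⟨(SheafOfModules.unitHomEquiv L).symm (ModTriv.secOfTop L t), fun h => ht ?_⟩
  have h1 : ModTriv.secOfTop L t = SheafOfModules.unitHomEquiv L 0 :=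
    ((SheafOfModules.unitHomEquiv L).symm_apply_eq).1 h
  have h2 := congrArg (fun q : SheafOfModules.sections L => q.val (op ⊤)) h1
  have h3 : (ModTriv.secOfTop L t).val (op ⊤) = t := by
    change (L.presheaf.map (𝟙 (op ⊤))) t = t
    rw [L.presheaf.map_id]
    rfl
  have h4 : (SheafOfModules.unitHomEquiv L 0).val (op ⊤) = 0 := by
    rw [SheafOfModules.unitHomEquiv_apply_coe]
    rfl
  exact h3.symm.trans (h2.trans h4)

/-- ranks are monotone along monomorphisms of locally free modules -/
theorem rank_le_of_mono (x : X) {F E : X.Modules} {r' r : ℕ}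
    (hF : FlatMod.IsFinLocFreeOfRank r' F) (hE : FlatMod.IsFinLocFreeOfRank r E)
    (i : F ⟶ E) [Mono i] : r' ≤ r := by
  let S : ShortComplex X.Modules := ShortComplex.mk i (cokernel.π i) (cokernel.condition i)
  have hS : S.Exact := ShortComplex.exact_cokernel i
  haveI : Mono S.f := inferInstanceAs (Mono i)
  haveI : Epi S.g := inferInstanceAs (Epi (cokernel.π i))
  have hSE : S.ShortExact := { exact := hS }
  have hT := hSE.map_of_exact (Groth.Agent.Lib.Helper5.StalkAdj.stalkSh X x)
  have hinj : Function.Injective (stalkL S.f x) :=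
    (ModuleCat.mono_iff_injective _).1 hT.mono_f
  have f2 := Groth.Agent.Lib.Helper5.StalkFree.free_finite_stalk_of_isFinLocFree E
    (isFinLocFree_of_rank hE) x
  haveI : Module.Finite (X.presheaf.stalk x) (E.presheaf.stalk x) := f2.2
  have h := LinearMap.finrank_le_finrank_of_injective (f := stalkL S.f x) hinj
  have r1 : Module.finrank (X.presheaf.stalk x) (F.presheaf.stalk x) = r' :=
    finrank_stalk_of_rank hF x
  have r2 : Module.finrank (X.presheaf.stalk x) (E.presheaf.stalk x) = r :=
    finrank_stalk_of_rank hE x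
  rw [r1, r2] at h
  exact h

end General

section Deg

variable (k : Type u) [Field k] (X : Scheme.{u}) [X.Over (Spec (CommRingCat.of k))]
  [IsProper (X ↘ (Spec (CommRingCat.of k)))]

include k in
theorem isSeparated_of_proper : X.IsSeparated := by
  haveI : IsSeparated (X ↘ Spec (CommRingCat.of k)) := inferInstance
  rw [Scheme.isSeparated_iff, ← terminal.comp_from (X ↘ Spec (CommRingCat.of k))]
  infer_instance

/-- on a proper scheme of dimension `≤ 1`, `χ = h⁰ - h¹` -/
theorem euler_eq_h0_sub_h1 (hdim : topologicalKrullDim X ≤ 1) (F : X.Modules)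
    (hF : Coh.IsQCoh F) :
    Curv2.euler k X F = (Module.finrank k (Coh.HH X F 0) : ℤ) - Module.finrank k (Coh.HH X F 1) := by
  haveI := isNoetherian_of_proper k X
  haveI := isSeparated_of_proper k X
  rw [euler_eq_sum k X 2 F (fun p hp => GV1.subsingleton_HH_of_dim_le_one hdim F hF p hp)]
  simp [Finset.sum_range_succ]
  ring

/-- S6540 -/
theorem iso_of_genus_zero_of_deg_zero [IsIntegral X] (hdim : topologicalKrullDim X = 1)
    (h0 : Module.finrank k (Coh.HH X (Coh.structureModule X) 0) = 1) (hg : Curv2.genus k X = 0)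
    (L : X.Modules) (hL : PicF.IsInvertible L) (hdeg : Curv2.deg k X L 1 = 0) :
    Nonempty (L ≅ Coh.structureModule X) := by
  have hLc := InvQc.isCoh_of_isInvertible L hL
  have hOc := InvQc.isCoh_of_isInvertible _ (GenLoc.isInvertible_O (X := X))
  have e1 := euler_eq_h0_sub_h1 k X hdim.le L hLc.1
  have e2 := euler_eq_h0_sub_h1 k X hdim.le _ hOc.1
  unfold Curv2.genus at hg
  unfold Curv2.deg at hdeg
  rw [h0, hg] at e2
  have h1 : 0 < Module.finrank k (Coh.HH X L 0) := by
    have : (0 : ℤ) < (Module.finrank k (Coh.HH X L 0) : ℤ) := by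
      have : (0 : ℤ) ≤ (Module.finrank k (Coh.HH X L 1) : ℤ) := Int.natCast_nonneg _
      push_cast at e2 hdeg
      linarith
    exact_mod_cast this
  have hnt : ¬ Subsingleton (Coh.HH X L 0) := fun h => by
    rw [Module.finrank_zero_of_subsingleton] at h1
    exact lt_irrefl _ h1
  rw [not_subsingleton_iff_nontrivial] at hnt
  obtain ⟨x, hx⟩ := exists_ne (0 : Coh.HH X L 0)
  obtain ⟨s, hs⟩ := exists_section_of_HH0_ne L x hx
  exact iso_of_deg_nonpos_of_section k X hdim hL s hs (by rw [Curv2.deg]; omega)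

/-- S1635 -/
theorem h0_h1_of_genus_zero_deg_pos [IsIntegral X] (hdim : topologicalKrullDim X = 1)
    (h0 : Module.finrank k (Coh.HH X (Coh.structureModule X) 0) = 1) (hg : Curv2.genus k X = 0)
    (L : X.Modules) (hL : PicF.IsInvertible L) (d : ℕ) (hd : 0 < d)
    (hdeg : Curv2.deg k X L 1 = d) :
    Module.finrank k (Coh.HH X L 0) = d + 1 ∧ Subsingleton (Coh.HH X L 1) := by
  haveI := isNoetherian_of_proper k X
  have hLc := InvQc.isCoh_of_isInvertible L hL
  have hOc := InvQc.isCoh_of_isInvertible _ (GenLoc.isInvertible_O (X := X))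
  have e1 := euler_eq_h0_sub_h1 k X hdim.le L hLc.1
  have e2 := euler_eq_h0_sub_h1 k X hdim.le _ hOc.1
  unfold Curv2.genus at hg
  unfold Curv2.deg at hdeg
  rw [h0, hg] at e2
  push_cast at e2 hdeg
  have h1 : 0 < Module.finrank k (Coh.HH X L 0) := by
    have : (0 : ℤ) < (Module.finrank k (Coh.HH X L 0) : ℤ) := by
      have : (0 : ℤ) ≤ (Module.finrank k (Coh.HH X L 1) : ℤ) := Int.natCast_nonneg _
      have : (0 : ℤ) < (d : ℤ) := by exact_mod_cast hd
      linarith
    exact_mod_cast this
  have hnt : ¬ Subsingleton (Coh.HH X L 0) := fun h => by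
    rw [Module.finrank_zero_of_subsingleton] at h1
    exact lt_irrefl _ h1
  rw [not_subsingleton_iff_nontrivial] at hnt
  obtain ⟨x, hx⟩ := exists_ne (0 : Coh.HH X L 0)
  obtain ⟨s, hs⟩ := exists_section_of_HH0_ne L x hx
  obtain ⟨hmono, hQc, hQd, -⟩ := cokernel_package k X hdim GenLoc.isInvertible_O hL s hs
  let S : ShortComplex X.Modules := ShortComplex.mk s (cokernel.π s) (cokernel.condition s)
  have hS : S.Exact := ShortComplex.exact_cokernel s
  haveI : Mono S.f := hmono
  haveI : Epi S.g := inferInstanceAs (Epi (cokernel.π s))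
  have hSE : S.ShortExact := { exact := hS }
  haveI : FiniteDimensional k (Coh.HH X (Coh.structureModule X) 1) :=
    T2Main1.t2 k X _ hOc 1
  have hO1 : Subsingleton (Coh.HH X (Coh.structureModule X) 1) :=
    (Module.finrank_zero_iff (R := k)).1 hg
  have hQ1 : Subsingleton (Coh.HH X (cokernel s) 1) :=
    subsingleton_HH_of_dim_le_zero (cokernel s) hQc hQd 1 Nat.one_pos
  have hL1 : Subsingleton (Coh.HH X L 1) := H1Ext.subsingleton_HH_mid hSE 1 hO1 hQ1
  refine ⟨?_, hL1⟩
  rw [Module.finrank_zero_of_subsingleton (M := Coh.HH X L 1)] at e1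
  have : (Module.finrank k (Coh.HH X L 0) : ℤ) = d + 1 := by
    push_cast at e1
    linarith
  exact_mod_cast this

/-- `h⁰` is monotone along monomorphisms -/
theorem finrank_HH0_le_of_mono {F E : X.Modules} (hE : Coh.IsCoh E)
    (i : F ⟶ E) [Mono i] :
    Module.finrank k (Coh.HH X F 0) ≤ Module.finrank k (Coh.HH X E 0) := by
  let S : ShortComplex X.Modules := ShortComplex.mk i (cokernel.π i) (cokernel.condition i)
  have hS : S.Exact := ShortComplex.exact_cokernel i
  haveI : Mono S.f := inferInstanceAs (Mono i)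
  haveI : Epi S.g := inferInstanceAs (Epi (cokernel.π i))
  have hSE : S.ShortExact := { exact := hS }
  haveI : FiniteDimensional k (Coh.HH X E 0) := T2Main1.t2 k X E hE 0
  exact LinearMap.finrank_le_finrank_of_injective (f := Canon.HHlin k S.f 0)
    (HHFin3.HHlin_f_zero_injective k hSE)

/-- the degree of a coherent submodule is bounded by the sections of the ambient module -/
theorem deg_le_of_mono (hdim : topologicalKrullDim X ≤ 1) {F E : X.Modules} (hF : Coh.IsCoh F)
    (hE : Coh.IsCoh E) (i : F ⟶ E) [Mono i] (r' : ℕ) :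
    Curv2.deg k X F r' ≤ (Module.finrank k (Coh.HH X E 0) : ℤ) -
      r' * Curv2.euler k X (Coh.structureModule X) := by
  unfold Curv2.deg
  rw [euler_eq_h0_sub_h1 k X hdim F hF.1]
  have h1 := finrank_HH0_le_of_mono k X hE i
  have h2 : (Module.finrank k (Coh.HH X F 0) : ℤ) ≤ (Module.finrank k (Coh.HH X E 0) : ℤ) := by
    exact_mod_cast h1
  have h3 : (0 : ℤ) ≤ (Module.finrank k (Coh.HH X F 1) : ℤ) := Int.natCast_nonneg _
  linarith

/-- S11826 / S15331: degrees of locally free submodules are bounded above -/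
theorem bddAbove_deg_sub (hdim : topologicalKrullDim X ≤ 1) (x : X) (r : ℕ) (E : X.Modules)
    (hE : FlatMod.IsFinLocFreeOfRank r E) :
    ∃ N : ℤ, ∀ (F : X.Modules) (r' : ℕ) (i : F ⟶ E), Mono i → FlatMod.IsFinLocFreeOfRank r' F →
      Curv2.deg k X F r' ≤ N := by
  have hEc := Groth.Agent.Lib.Helper5.LocalCoh.isCoh_of_isFinLocFree _ (isFinLocFree_of_rank hE)
  refine ⟨(Module.finrank k (Coh.HH X E 0) : ℤ) +
    r * |Curv2.euler k X (Coh.structureModule X)|, fun F r' i hi hF => ?_⟩
  have hFc := Groth.Agent.Lib.Helper5.LocalCoh.isCoh_of_isFinLocFree _ (isFinLocFree_of_rank hF)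
  have h1 := deg_le_of_mono k X hdim hFc hEc i r'
  have h2 : r' ≤ r := rank_le_of_mono x hF hE i
  have h3 : (r' : ℤ) ≤ (r : ℤ) := by exact_mod_cast h2
  have h4 : -(r' * Curv2.euler k X (Coh.structureModule X)) ≤
      r * |Curv2.euler k X (Coh.structureModule X)| := by
    have h5 : -(Curv2.euler k X (Coh.structureModule X)) ≤
        |Curv2.euler k X (Coh.structureModule X)| := neg_le_abs _
    have h6 : (0 : ℤ) ≤ |Curv2.euler k X (Coh.structureModule X)| := abs_nonneg _
    have h7 : (0 : ℤ) ≤ (r' : ℤ) := Int.natCast_nonneg _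
    nlinarith
  linarith

/-- S18774 -/
theorem deg_sub_le_rank_mul (hdim : topologicalKrullDim X ≤ 1) [Nonempty X] (E : X.Modules)
    (hE : FlatMod.IsFinLocFree E) (F : X.Modules) (r' : ℕ) (hr' : 0 < r')
    (hF : FlatMod.IsFinLocFreeOfRank r' F) (i : F ⟶ E) [Mono i] :
    Curv2.deg k X F r' ≤ (r' : ℤ) * ((Module.finrank k (Coh.HH X E 0) : ℤ) +
      (Curv2.genus k X : ℤ) - 1) := by
  have hEc := Groth.Agent.Lib.Helper5.LocalCoh.isCoh_of_isFinLocFree _ hE
  have hFc := Groth.Agent.Lib.Helper5.LocalCoh.isCoh_of_isFinLocFree _ (isFinLocFree_of_rank hF)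
  have hOc := InvQc.isCoh_of_isInvertible _ (GenLoc.isInvertible_O (X := X))
  have h1 := deg_le_of_mono k X hdim hFc hEc i r'
  rw [euler_eq_h0_sub_h1 k X hdim _ hOc.1] at h1
  unfold Curv2.genus
  have ha : 1 ≤ Module.finrank k (Coh.HH X (Coh.structureModule X) 0) := by
    haveI : FiniteDimensional k (Coh.HH X (Coh.structureModule X) 0) := T2Main1.t2 k X _ hOc 0
    rw [Nat.succ_le_iff, Module.finrank_pos_iff (R := k)]
    haveI : Nonempty (⊤ : X.Opens) := ⟨⟨Classical.arbitrary X, trivial⟩⟩
    haveI : Nontrivial ((Coh.structureModule X).val.obj (op ⊤)) :=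
      inferInstanceAs (Nontrivial Γ(X, ⊤))
    exact (HH0.equiv X (Coh.structureModule X)).toEquiv.nontrivial
  have ha' : (1 : ℤ) ≤ (Module.finrank k (Coh.HH X (Coh.structureModule X) 0) : ℤ) := by
    exact_mod_cast ha
  have hr : (1 : ℤ) ≤ (r' : ℤ) := by exact_mod_cast hr'
  have hE0 : (0 : ℤ) ≤ (Module.finrank k (Coh.HH X E 0) : ℤ) := Int.natCast_nonneg _
  nlinarith

/-- S15028 -/
theorem deg_le_of_mono_generic_iso [IsIntegral X] (hdim : topologicalKrullDim X = 1)
    (E F : X.Modules) (hEc : Coh.IsCoh E) (hFc : Coh.IsCoh F) (n : ℕ) (f : E ⟶ F) [Mono f]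
    (hgen : Subsingleton ((cokernel f).presheaf.stalk (genericPoint X))) :
    Curv2.deg k X E n ≤ Curv2.deg k X F n ∧ (Curv2.deg k X E n = Curv2.deg k X F n ↔ IsIso f) := by
  haveI := isNoetherian_of_proper k X
  have hQc : Coh.IsCoh (cokernel f) := FtLocal.isCoh_cokernel hEc hFc f
  have hQd := dim_support_le_zero hdim (cokernel f) hQc (fun h => h hgen)
  let S : ShortComplex X.Modules := ShortComplex.mk f (cokernel.π f) (cokernel.condition f)
  have hS : S.Exact := ShortComplex.exact_cokernel f
  haveI : Mono S.f := inferInstanceAs (Mono f)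
  haveI : Epi S.g := inferInstanceAs (Epi (cokernel.π f))
  have hSE : S.ShortExact := { exact := hS }
  have hadd : Curv2.euler k X F = Curv2.euler k X E + Curv2.euler k X (cokernel f) :=
    euler_additive k X S hSE hEc hFc hQc
  have hnn := euler_nonneg_of_dim_le_zero k X (cokernel f) hQc hQd
  unfold Curv2.deg
  refine ⟨by linarith, ⟨fun he => ?_, fun hiso => ?_⟩⟩
  · have hz := isZero_of_euler_eq_zero k X (cokernel f) hQc hQd (by linarith)
    haveI : Epi f := Preadditive.epi_of_cokernel_zero (hz.eq_of_tgt _ _)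
    exact isIso_of_mono_of_epi f
  · have hz : IsZero (cokernel f) := by
      haveI := hiso
      exact isZero_cokernel_of_epi f
    have h0 : Curv2.euler k X (cokernel f) = 0 := by
      unfold Curv2.euler
      have : ∀ i : ℕ, (-1 : ℤ) ^ i * (Module.finrank k (Coh.HH X (cokernel f) i) : ℤ) = 0 := by
        intro i
        haveI := H1Ext.subsingleton_HH_of_isZero hz i
        rw [Module.finrank_zero_of_subsingleton]
        simp
      simp only [this, finsum_zero]
    linarith

end Deg

end Groth.Agent.Helper1.Curve
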