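import Mathlib
import Groth.Agent.Lib.Helper1.Curve2
import Groth.Agent.Lib.Helper1.FinPush
import Groth.Agent.Lib.Helper1.AffPushEpi
import Groth.Agent.Lib.Helper4.LinBridge1

/-!
# Genus under finite birational morphisms (helper1)
-/

set_option autoImplicit false
universe u
open CategoryTheory CategoryTheory.Limits AlgebraicGeometry TopologicalSpace Opposite

namespace Groth.Agent.Helper1.Curve

open Groth.Agent.Lib.Helper4 Groth.Agent.Helper1.Dv Groth.Agent.Helper1.FinLen
  Groth.Agent.Helper1.Euler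

section Topology

/-- a closed subset all of whose points are closed has dimension `≤ 0` -/
theorem krullDim_le_zero_of_forall_isClosed_singleton {T : Type*} [TopologicalSpace T]
    [QuasiSober T] (Z : Set T) (hZ : IsClosed Z) (h : ∀ z ∈ Z, IsClosed ({z} : Set T)) :
    topologicalKrullDim ↥Z ≤ 0 := by
  unfold topologicalKrullDim
  rw [Order.krullDim_nonpos_iff_forall_isMax]
  intro a b hab
  haveI : QuasiSober ↥Z := hZ.isClosedEmbedding_subtypeVal.quasiSober
  obtain ⟨g, hg⟩ := QuasiSober.sober a.isIrreducible a.isClosed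
  obtain ⟨g', hg'⟩ := QuasiSober.sober b.isIrreducible b.isClosed
  have hcl : ∀ z : ↥Z, IsClosed ({z} : Set ↥Z) := fun z => by
    have h1 : IsClosed ((Subtype.val : ↥Z → T) ⁻¹' ({z.1} : Set T)) :=
      (h z.1 z.2).preimage continuous_subtype_val
    have h2 : ((Subtype.val : ↥Z → T) ⁻¹' ({z.1} : Set T)) = {z} := by
      ext y
      simp [Subtype.ext_iff]
    rw [← h2]
    exact h1
  have ha : (a : Set ↥Z) = {g} := by rw [← hg.def, (hcl g).closure_eq]
  have hb : (b : Set ↥Z) = {g'} := by rw [← hg'.def, (hcl g').closure_eq]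
  have hgg : g = g' := by
    have h1 : g ∈ (a : Set ↥Z) := by rw [ha]; rfl
    have h2 : g ∈ (b : Set ↥Z) := hab h1
    rw [hb] at h2
    exact h2
  intro y hy
  have hy' : y ∈ (b : Set ↥Z) := hy
  rw [hb, ← hgg] at hy'
  change y ∈ (a : Set ↥Z)
  rw [ha]
  exact hy'

variable {X : Scheme.{u}}

/-- the complement of a dense open in a noetherian scheme of dimension `≤ 1` has dimension `≤ 0` -/
theorem dim_compl_le_zero [IsNoetherian X] (hdim : topologicalKrullDim X ≤ 1) (U : X.Opens)
    (hU : Dense (U : Set X)) : topologicalKrullDim ↥((U : Set X)ᶜ) ≤ 0 := by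
  refine krullDim_le_zero_of_forall_isClosed_singleton _ U.isOpen.isClosed_compl fun z hz => ?_
  have hfin : (irreducibleComponents X).Finite := NoetherianSpace.finite_irreducibleComponents
  have hC := irreducibleComponent_mem_irreducibleComponents z
  obtain ⟨η, hη⟩ := QuasiSober.sober hC.1 isClosed_irreducibleComponent
  have hcl := closure_sUnion_irreducibleComponents_sdiff_singleton hfin _ hC
  have hO : IsOpen (⋃₀ (irreducibleComponents X \ {irreducibleComponent z}))ᶜ := by
    rw [Set.sUnion_eq_biUnion, isOpen_compl_iff]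
    exact hfin.sdiff.isClosed_biUnion fun W hW ↦ isClosed_of_mem_irreducibleComponents W hW.1
  have hne : ((⋃₀ (irreducibleComponents X \ {irreducibleComponent z}))ᶜ).Nonempty := by
    by_contra hemp
    rw [Set.not_nonempty_iff_eq_empty] at hemp
    rw [hemp, closure_empty] at hcl
    exact (hcl ▸ mem_irreducibleComponent : z ∈ (∅ : Set X))
  obtain ⟨p, hpO, hpU⟩ := hU.inter_open_nonempty _ hO hne
  have hpC : p ∈ irreducibleComponent z := hcl ▸ subset_closure hpO
  have hsp : η ⤳ p := by
    rw [specializes_iff_mem_closure, hη.def]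
    exact hpC
  have hηU : η ∈ (U : Set X) := hsp.mem_open U.isOpen hpU
  refine GV1.isClosed_singleton_of_dim_le_one hdim z η _ isClosed_irreducibleComponent hη
    mem_irreducibleComponent ?_
  rintro rfl
  exact hz hηU

end Topology

section Unit

variable {X Y : Scheme.{u}} (f : Y ⟶ X)

/-- the direct image of the structure sheaf -/
noncomputable abbrev pushO : X.Modules := (Scheme.Modules.pushforward f).obj (Coh.structureModule Y)

/-- the unit section of `f_* O_Y` -/
noncomputable def oneSec : Γ(pushO f, ⊤) := (1 : Γ(Y, f ⁻¹ᵁ ⊤))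

/-- the canonical map `O_X ⟶ f_* O_Y` -/
noncomputable def unitMap : Coh.structureModule X ⟶ pushO f :=
  (SheafOfModules.unitHomEquiv (pushO f)).symm (ModTriv.secOfTop (pushO f) (oneSec f))

theorem unitMap_app (V : X.Opens) (r : Γ(X, V)) :
    (unitMap f).app V r = (f.app V r : Γ(Y, f ⁻¹ᵁ V)) := by
  have h1 : (unitMap f).app V r = r • (pushO f).presheaf.map (homOfLE (le_top : V ≤ ⊤)).op (oneSec f) := rfl
  rw [h1]
  change (f.app V r : Γ(Y, f ⁻¹ᵁ V)) *
    (Y.presheaf.map (homOfLE (show f ⁻¹ᵁ V ≤ f ⁻¹ᵁ ⊤ from le_top)).op (1 : Γ(Y, f ⁻¹ᵁ ⊤))) = _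
  rw [map_one, mul_one]

variable [IsAffineHom f]

instance : (pushO f).IsQuasicoherent := by
  haveI : (Coh.structureModule Y).IsQuasicoherent :=
    (InvQc.isCoh_of_isInvertible _ (GenLoc.isInvertible_O (X := Y))).1
  exact PushQc.isQuasicoherent_pushforward f (Coh.structureModule Y)

theorem subsingleton_sections_cokernel (W : X.Opens) (hW : IsAffineOpen W)
    (hs : Function.Surjective (f.app W)) :
    Subsingleton Γ(cokernel (unitMap f), W) := by
  haveI : (Coh.structureModule X).IsQuasicoherent :=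
    (InvQc.isCoh_of_isInvertible _ (GenLoc.isInvertible_O (X := X))).1
  haveI : (cokernel (unitMap f)).IsQuasicoherent := QcAbel.isQuasicoherent_cokernel (unitMap f)
  refine subsingleton_of_forall_eq 0 fun q => ?_
  obtain ⟨a, rfl⟩ := AffPushEpi.app_surjective_of_epi (cokernel.π (unitMap f)) W hW q
  obtain ⟨r, hr⟩ := hs a
  have h1 : (unitMap f).app W r = a := (unitMap_app f W r).trans hr
  rw [← h1]
  have h2 := congrArg (fun ψ : Coh.structureModule X ⟶ cokernel (unitMap f) =>
    Scheme.Modules.Hom.app ψ W r) (cokernel.condition (unitMap f))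
  exact h2

theorem support_cokernel_subset (U : X.Opens) [IsClosedImmersion (f ∣_ U)] :
    CohB1.support (cokernel (unitMap f)) ⊆ (U : Set X)ᶜ := by
  intro x hx hxU
  apply hx
  refine subsingleton_of_forall_eq 0 fun v => ?_
  obtain ⟨V, hxV, n, rfl⟩ := TopCat.Presheaf.exists_germ_eq (cokernel (unitMap f)).presheaf v
  -- an affine open of `U` around `x` inside `V`
  let x' : (U : Scheme.{u}) := ⟨x, hxU⟩
  obtain ⟨_, ⟨V', hV', rfl⟩, hxV', hV'V⟩ :=
    (U : Scheme.{u}).isBasis_affineOpens.exists_subset_of_mem_open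
      (show x' ∈ ((U.ι ⁻¹ᵁ V : (U : Scheme.{u}).Opens) : Set (U : Scheme.{u})) from hxV)
      (U.ι ⁻¹ᵁ V).isOpen
  have hW : IsAffineOpen (U.ι ''ᵁ V') := hV'.image_of_isOpenImmersion U.ι
  have hWV : U.ι ''ᵁ V' ≤ V := by
    rintro _ ⟨y, hy, rfl⟩
    exact hV'V hy
  have hxW : x ∈ U.ι ''ᵁ V' := ⟨x', hxV', rfl⟩
  have hs : Function.Surjective (f.app (U.ι ''ᵁ V')) := by
    have h1 := (f ∣_ U).app_surjective V' hV'
    rw [morphismRestrict_app] at h1
    intro b
    obtain ⟨a, ha⟩ := h1 ((Y.presheaf.map (eqToHom (image_morphismRestrict_preimage f U V')).op) b)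
    refine ⟨a, ?_⟩
    have hinj : Function.Injective (Y.presheaf.map
        (eqToHom (image_morphismRestrict_preimage f U V')).op) :=
      ((ConcreteCategory.isIso_iff_bijective _).1 inferInstance).1
    exact hinj ha
  haveI := subsingleton_sections_cokernel f (U.ι ''ᵁ V') hW hs
  rw [← TopCat.Presheaf.germ_res_apply (cokernel (unitMap f)).presheaf (homOfLE hWV) x hxW n]
  have : (cokernel (unitMap f)).presheaf.map (homOfLE hWV).op n = 0 := Subsingleton.elim _ _
  rw [this, map_zero]

end Unit

section Genus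

variable (k : Type u) [Field k] (X Y : Scheme.{u}) [X.Over (Spec (CommRingCat.of k))]
  [Y.Over (Spec (CommRingCat.of k))] [IsProper (X ↘ (Spec (CommRingCat.of k)))]

/-- S1566 -/
theorem genus_le_of_finite_birational (hdim : topologicalKrullDim X ≤ 1) (f : Y ⟶ X) [IsFinite f]
    (hf : f ≫ (X ↘ (Spec (CommRingCat.of k))) = Y ↘ (Spec (CommRingCat.of k)))
    (U : X.Opens) (hU : Dense (U : Set X)) (hfU : IsClosedImmersion (f ∣_ U)) :
    Curv2.genus k Y ≤ Curv2.genus k X := by
  haveI := isNoetherian_of_proper k X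
  haveI := isSeparated_of_proper k X
  have hOX : Coh.IsCoh (Coh.structureModule X) :=
    InvQc.isCoh_of_isInvertible _ (GenLoc.isInvertible_O (X := X))
  have hOY : Coh.IsCoh (Coh.structureModule Y) :=
    InvQc.isCoh_of_isInvertible _ (GenLoc.isInvertible_O (X := Y))
  have hA : Coh.IsCoh (pushO f) := FinPush.isCoh_pushforward f _ hOY
  have hQc : Coh.IsCoh (cokernel (unitMap f)) := FtLocal.isCoh_cokernel hOX hA (unitMap f)
  haveI : (Coh.structureModule X).IsQuasicoherent := hOX.1
  have hIc : Coh.IsCoh (Abelian.image (unitMap f)) :=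
    FtLocal.isCoh_of_mono (Abelian.image.ι (unitMap f)) hA
      (QcAbel.isQuasicoherent_image (unitMap f))
  have hKc : Coh.IsCoh (kernel (unitMap f)) := FtLocal.isCoh_kernel hOX hA (unitMap f)
  -- the cokernel has zero-dimensional support
  have hQd : topologicalKrullDim ↥(CohB1.support (cokernel (unitMap f))) ≤ 0 :=
    ((Topology.IsEmbedding.inclusion (support_cokernel_subset f U)).isInducing.topologicalKrullDim_le).trans
      (dim_compl_le_zero hdim U hU)
  have hQ1 : Subsingleton (Coh.HH X (cokernel (unitMap f)) 1) :=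
    subsingleton_HH_of_dim_le_zero _ hQc hQd 1 Nat.one_pos
  have hK2 : Subsingleton (Coh.HH X (kernel (unitMap f)) 2) :=
    GV1.subsingleton_HH_of_dim_le_one hdim _ hKc.1 2 le_rfl
  -- the two short exact sequences
  let S₂ : ShortComplex X.Modules := ShortComplex.mk (Abelian.image.ι (unitMap f))
    (cokernel.π (unitMap f)) (kernel.condition _)
  have hS₂ : S₂.Exact :=
    ShortComplex.exact_of_f_is_kernel _ (kernelIsKernel (cokernel.π (unitMap f)))
  haveI : Mono S₂.f := inferInstanceAs (Mono (Abelian.image.ι (unitMap f)))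
  haveI : Epi S₂.g := inferInstanceAs (Epi (cokernel.π (unitMap f)))
  have hSE₂ : S₂.ShortExact := { exact := hS₂ }
  have hSE₁ := H1Ext.kerIm_shortExact (unitMap f)
  haveI : ∀ i, FiniteDimensional k (Coh.HH X (Coh.structureModule X) i) :=
    fun i => T2Main1.t2 k X _ hOX i
  haveI : ∀ i, FiniteDimensional k (Coh.HH X (Abelian.image (unitMap f)) i) :=
    fun i => T2Main1.t2 k X _ hIc i
  -- surjections on `H¹`
  have s₂ : Function.Surjective (Canon.HHlin k S₂.f 1) := by
    intro x
    exact HHFin2.exact_f_g k hSE₂ 1 x (Subsingleton.elim _ _)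
  have hK2' : Subsingleton (Coh.HH X (H1Ext.kerIm (unitMap f)).X₁ (1 + 1)) := hK2
  have s₁ : Function.Surjective (Canon.HHlin k (H1Ext.kerIm (unitMap f)).g 1) := by
    intro x
    exact HHFin2.exact_g_delta k hSE₁ 1 x (Subsingleton.elim (h := hK2') _ _)
  haveI : FiniteDimensional k (Coh.HH X (H1Ext.kerIm (unitMap f)).X₂ 1) :=
    T2Main1.t2 k X _ hOX 1
  haveI : FiniteDimensional k (Coh.HH X S₂.X₁ 1) := T2Main1.t2 k X _ hIc 1
  have e₂ := LinearMap.finrank_le_finrank_of_surjective s₂
  have e₁ := LinearMap.finrank_le_finrank_of_surjective s₁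
  have e₃ := (LinBridge1.lerayEquiv f (Coh.structureModule Y) k hf 1).finrank_eq
  unfold Curv2.genus
  exact e₃.symm.le.trans (e₂.trans e₁)

end Genus

end Groth.Agent.Helper1.Curve
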