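import Mathlib
import Groth.Agent.Lib.Helper1.TwMap
import Groth.Agent.Lib.Helper1.HH0
import Groth.Agent.Lib.Helper4.TwExact
import Groth.Agent.Lib.Helper4.HHFin3
import Groth.Agent.Lib.Helper1.Dv8b

/-!
# Multiplication by a global section of `M` as a morphism `F ⟶ F ⊗ M` (helper1)
-/

set_option autoImplicit false
universe u
open CategoryTheory CategoryTheory.Limits AlgebraicGeometry TopologicalSpace Opposite

namespace Groth.Agent.Helper1.CurveAmp

open Groth.Agent.Helper1.QcCech Groth.Agent.Helper1.SubSh Groth.Agent.Helper1.LGen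
open Groth.Agent.Helper1.TmulLib Groth.Agent.Helper1 Groth.Agent.Helper1.TwForm
open Groth.Agent.Helper1.TensGen Groth.Agent.Lib.Helper4.TwExact Groth.Agent.Helper1.Dv

variable {X : Scheme.{u}}

/-- multiplication by a global section `σ` of `M`, as a morphism `F ⟶ F ⊗ M` -/
noncomputable def mulΓ (F M : X.Modules) (σ : Γ(M, ⊤)) : F ⟶ CohB1.tensorMod F M :=
  homMk F (CohB1.tensorMod F M) (fun U m => tm F M U m (res M (le_top : U ≤ ⊤) σ))
    (fun U a b => tm_add_left F M U a b _)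
    (fun U r a => tm_smul_left F M U r a _)
    (fun U V h a => by rw [res_tm, res_res])

theorem mulΓ_app (F M : X.Modules) (σ : Γ(M, ⊤)) (U : X.Opens) (m : Γ(F, U)) :
    (mulΓ F M σ).app U m = tm F M U m (res M (le_top : U ≤ ⊤) σ) := rfl

theorem mulΓ_add (F M : X.Modules) (σ τ : Γ(M, ⊤)) :
    mulΓ F M (σ + τ) = mulΓ F M σ + mulΓ F M τ := by
  apply Scheme.Modules.hom_ext
  intro U
  ext m
  change (mulΓ F M (σ + τ)).app U m = (mulΓ F M σ).app U m + (mulΓ F M τ).app U m
  rw [mulΓ_app, mulΓ_app, mulΓ_app, map_add, tm_add_right]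

theorem mulΓ_naturality {F F' : X.Modules} (φ : F ⟶ F') (M : X.Modules) (σ : Γ(M, ⊤)) :
    mulΓ F M σ ≫ (TL M).map φ = φ ≫ mulΓ F' M σ := by
  apply Scheme.Modules.hom_ext
  intro U
  ext m
  change ((TL M).map φ).app U ((mulΓ F M σ).app U m) = (mulΓ F' M σ).app U (φ.app U m)
  rw [mulΓ_app, mulΓ_app, TL_map_tm]

/-- `mulΓ` is bijective on sections over opens where `σ` generates `M` -/
theorem mulΓ_app_bijective (F M : X.Modules) (σ : Γ(M, ⊤)) {V : X.Opens}
    (hV : IsGen M V (res M (le_top : V ≤ ⊤) σ)) : Function.Bijective ((mulΓ F M σ).app V) :=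
  bijective_tm_of_isGen F hV

/-- `mulΓ` is bijective on stalks at points where `σ` generates `M` -/
theorem stalkL_mulΓ_bijective (F M : X.Modules) (σ : Γ(M, ⊤)) {V : X.Opens}
    (hV : IsGen M V (res M (le_top : V ≤ ⊤) σ)) (x : X) (hx : x ∈ V) :
    Function.Bijective (stalkL (mulΓ F M σ) x) := by
  have hbij : ∀ V' : X.Opens, V' ≤ V → Function.Bijective ((mulΓ F M σ).app V') := by
    intro V' h
    apply mulΓ_app_bijective
    have := hV.res h
    rwa [res_res] at this
  constructor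
  · rw [injective_iff_map_eq_zero]
    intro z hz
    obtain ⟨U, hxU, s, rfl⟩ := TopCat.Presheaf.exists_germ_eq F.presheaf z
    rw [stalkL_germ] at hz
    have hz' : (CohB1.tensorMod F M).presheaf.germ U x hxU ((mulΓ F M σ).app U s) =
        (CohB1.tensorMod F M).presheaf.germ U x hxU 0 := hz.trans (map_zero _).symm
    obtain ⟨W, hxW, iWU, iWU', hW⟩ :=
      TopCat.Presheaf.germ_eq (CohB1.tensorMod F M).presheaf x hxU hxU _ _ hz'
    have hW'U : W ⊓ V ≤ U := inf_le_left.trans iWU.le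
    have h1 : (mulΓ F M σ).app (W ⊓ V) (res F hW'U s) = 0 := by
      rw [QcExt.app_res]
      have h2 : res (CohB1.tensorMod F M) iWU.le ((mulΓ F M σ).app U s) = 0 := by
        refine hW.trans ?_
        exact map_zero _
      have h3 := congrArg (res (CohB1.tensorMod F M) (inf_le_left : W ⊓ V ≤ W)) h2
      rwa [res_res, map_zero] at h3
    have h4 : res F hW'U s = 0 := (hbij (W ⊓ V) inf_le_right).1 (h1.trans (map_zero _).symm)
    have h5 := TopCat.Presheaf.germ_res_apply F.presheaf (homOfLE hW'U) x ⟨hxW, hx⟩ s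
    rw [← h5]
    change F.presheaf.germ (W ⊓ V) x _ (res F hW'U s) = 0
    rw [h4, map_zero]
  · intro z
    obtain ⟨U, hxU, g, rfl⟩ := TopCat.Presheaf.exists_germ_eq (CohB1.tensorMod F M).presheaf z
    obtain ⟨m, hm⟩ := (hbij (U ⊓ V) inf_le_right).2
      (res (CohB1.tensorMod F M) (inf_le_left : U ⊓ V ≤ U) g)
    refine ⟨F.presheaf.germ (U ⊓ V) x ⟨hxU, hx⟩ m, ?_⟩
    rw [stalkL_germ, hm]
    exact TopCat.Presheaf.germ_res_apply (CohB1.tensorMod F M).presheaf
      (homOfLE (inf_le_left : U ⊓ V ≤ U)) x ⟨hxU, hx⟩ g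

/-- `mulΓ` and multiplication by a global function -/
theorem toSheaf_mulΓ_smul (F M : X.Modules) (r : Γ(X, ⊤)) (σ : Γ(M, ⊤)) :
    (SheafOfModules.toSheaf X.ringCatSheaf).map (mulΓ F M (r • σ)) =
      (SheafOfModules.toSheaf X.ringCatSheaf).map (mulΓ F M σ) ≫
        Coh.smulAb (CohB1.tensorMod F M) r := by
  ext U m
  change (mulΓ F M (r • σ)).app U.unop m =
    (Coh.smulAb (CohB1.tensorMod F M) r).hom.app U ((mulΓ F M σ).app U.unop m)
  rw [Coh.smulAb_app, mulΓ_app, mulΓ_app, res_smul, tm_smul_right]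
  rfl

section Lin

open Groth.Agent.Lib.Helper4

variable (A : Type u) [CommRing A] [X.Over (Spec (CommRingCat.of A))]

/-- multiplication `H⁰(M) → Hⁱ(F ⊗ M)` against a fixed class in `Hⁱ(F)` -/
noncomputable def mulH (F M : X.Modules) (i : ℕ) (v : Coh.HH X F i) :
    Coh.HH X M 0 →ₗ[A] Coh.HH X (CohB1.tensorMod F M) i where
  toFun x := Canon.HHlin A (mulΓ F M (HH0.equiv X M x)) i v
  map_add' x y := by
    have h1 : HH0.equiv X M (x + y) = HH0.equiv X M x + HH0.equiv X M y := map_add _ _ _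
    have h2 := mulΓ_add F M (HH0.equiv X M x) (HH0.equiv X M y)
    exact (congrArg (fun φ => Canon.HHlin A φ i v) ((congrArg (mulΓ F M) h1).trans h2)).trans
      (HHFin1.HHlin_add A _ _ i v)
  map_smul' a x := by
    have h1 := HH0.equiv_smul_over X M a x
    have h2 := toSheaf_mulΓ_smul F M (Coh.toGlobal (X ↘ Spec (CommRingCat.of A)) a)
      (HH0.equiv X M x)
    have h3 : (SheafOfModules.toSheaf X.ringCatSheaf).map (mulΓ F M (HH0.equiv X M (a • x))) =
        (SheafOfModules.toSheaf X.ringCatSheaf).map (mulΓ F M (HH0.equiv X M x)) ≫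
          Coh.smulAb (CohB1.tensorMod F M) (Coh.toGlobal (X ↘ Spec (CommRingCat.of A)) a) :=
      (congrArg (fun τ => (SheafOfModules.toSheaf X.ringCatSheaf).map (mulΓ F M τ)) h1).trans h2
    change Sheaf.H.map ((SheafOfModules.toSheaf X.ringCatSheaf).map
      (mulΓ F M (HH0.equiv X M (a • x)))) i v = _
    rw [h3, Sheaf.H.map_comp_apply]
    rfl

theorem mulH_apply (F M : X.Modules) (i : ℕ) (v : Coh.HH X F i) (x : Coh.HH X M 0) :
    mulH A F M i v x = Canon.HHlin A (mulΓ F M (HH0.equiv X M x)) i v := rfl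

end Lin

end Groth.Agent.Helper1.CurveAmp
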