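import Mathlib
import Groth.Agent.Lib.Helper1.CurveAmp1
import Groth.Agent.Lib.Helper1.Curve3

/-!
# Multiplication by a nonzero section is surjective on `H¹` of a proper integral curve (helper1)
-/

set_option autoImplicit false
universe u
open CategoryTheory CategoryTheory.Limits AlgebraicGeometry TopologicalSpace Opposite

namespace Groth.Agent.Helper1.CurveAmp

open Groth.Agent.Helper1.QcCech Groth.Agent.Helper1.SubSh Groth.Agent.Helper1.LGen
open Groth.Agent.Helper1.TmulLib Groth.Agent.Helper1 Groth.Agent.Helper1.TwForm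
open Groth.Agent.Helper1.TensGen Groth.Agent.Lib.Helper4.TwExact Groth.Agent.Helper1.Dv
open Groth.Agent.Lib.Helper4 Groth.Agent.Helper1.FinLen Groth.Agent.Helper1.Euler
open Groth.Agent.Helper1.Curve

variable {X : Scheme.{u}}

/-- a nonzero global section of an invertible module on an integral scheme generates it near the
generic point -/
theorem exists_isGen_genericPoint [IsIntegral X] {M : X.Modules} (hM : PicF.IsInvertible M)
    (σ : Γ(M, ⊤)) (hσ : σ ≠ 0) :
    ∃ V : X.Opens, genericPoint X ∈ V ∧ IsGen M V (res M (le_top : V ≤ ⊤) σ) := by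
  obtain ⟨W, a, hηW, ha⟩ := exists_isGen hM (genericPoint X)
  obtain ⟨φ, hφ⟩ := ha.exists_coeff (res M (le_top : W ≤ ⊤) σ)
  have hφ0 : φ ≠ 0 := by
    intro h0
    rw [h0, zero_smul] at hφ
    exact hσ (eq_zero_of_res_eq_zero hM (le_top : W ≤ ⊤) hηW σ hφ.symm)
  have hne : X.basicOpen φ ≠ ⊥ := fun h => hφ0 ((AlgebraicGeometry.basicOpen_eq_bot_iff φ).1 h)
  obtain ⟨x, hx⟩ : ∃ x, x ∈ X.basicOpen φ := by
    by_contra hcon
    exact hne (by ext y; simpa using fun hy => hcon ⟨y, hy⟩)
  refine ⟨X.basicOpen φ, genericPoint_mem_of_nonempty _ x hx, ?_⟩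
  have hle : X.basicOpen φ ≤ W := X.basicOpen_le φ
  have hu : IsUnit (resR hle φ) := X.toRingedSpace.isUnit_res_basicOpen φ
  have h1 : res M (le_top : X.basicOpen φ ≤ ⊤) σ = resR hle φ • res M hle a := by
    rw [← res_smul, hφ, res_res]
  rw [h1]
  exact TwForm.IsGen.smul_unit (ha.res hle) hu.unit

section Curve

variable (k : Type u) [Field k] (X) [X.Over (Spec (CommRingCat.of k))]
  [IsIntegral X] [IsProper (X ↘ (Spec (CommRingCat.of k)))]

/-- on a proper integral curve, multiplication by a nonzero section of an invertible module is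
surjective on `H¹` of any coherent module -/
theorem surjective_HHlin_mulΓ (hdim : topologicalKrullDim X = 1) (F M : X.Modules)
    (hF : Coh.IsCoh F) (hM : PicF.IsInvertible M) (σ : Γ(M, ⊤)) (hσ : σ ≠ 0) :
    Function.Surjective (Canon.HHlin k (mulΓ F M σ) 1) := by
  haveI := isNoetherian_of_proper k X
  haveI := isSeparated_of_proper k X
  haveI : IsLocallyNoetherian X := (isNoetherian_of_proper k X).toIsLocallyNoetherian
  have hdim' : topologicalKrullDim X ≤ 1 := hdim.le
  have hMc : Coh.IsCoh M := InvQc.isCoh_of_isInvertible _ hM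
  have hG : Coh.IsCoh (CohB1.tensorMod F M) := isCoh_tensor F M hF hMc
  set φ := mulΓ F M σ with hφdef
  have hQc : Coh.IsCoh (cokernel φ) := FtLocal.isCoh_cokernel hF hG φ
  haveI : F.IsQuasicoherent := hF.1
  haveI : (CohB1.tensorMod F M).IsQuasicoherent := hG.1
  have hIc : Coh.IsCoh (Abelian.image φ) :=
    FtLocal.isCoh_of_mono (Abelian.image.ι φ) hG (QcAbel.isQuasicoherent_image φ)
  have hKc : Coh.IsCoh (kernel φ) := FtLocal.isCoh_kernel hF hG φ
  obtain ⟨V, hηV, hV⟩ := exists_isGen_genericPoint hM σ hσ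
  have hbij := stalkL_mulΓ_bijective F M σ hV (genericPoint X) hηV
  have hQη : genericPoint X ∉ CohB1.support (cokernel φ) :=
    notMem_support_cokernel' φ (genericPoint X) hbij.2
  have hQd : topologicalKrullDim ↥(CohB1.support (cokernel φ)) ≤ 0 :=
    dim_support_le_zero hdim _ hQc hQη
  have hQ1 : Subsingleton (Coh.HH X (cokernel φ) 1) :=
    subsingleton_HH_of_dim_le_zero _ hQc hQd 1 Nat.one_pos
  have hK2 : Subsingleton (Coh.HH X (kernel φ) 2) :=
    GV1.subsingleton_HH_of_dim_le_one hdim' _ hKc.1 2 le_rfl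
  let S₂ : ShortComplex X.Modules := ShortComplex.mk (Abelian.image.ι φ)
    (cokernel.π φ) (kernel.condition _)
  have hS₂ : S₂.Exact :=
    ShortComplex.exact_of_f_is_kernel _ (kernelIsKernel (cokernel.π φ))
  haveI : Mono S₂.f := inferInstanceAs (Mono (Abelian.image.ι φ))
  haveI : Epi S₂.g := inferInstanceAs (Epi (cokernel.π φ))
  have hSE₂ : S₂.ShortExact := { exact := hS₂ }
  have hSE₁ := H1Ext.kerIm_shortExact φ
  have s₂ : Function.Surjective (Canon.HHlin k S₂.f 1) := by
    intro x
    exact HHFin2.exact_f_g k hSE₂ 1 x (Subsingleton.elim (h := hQ1) _ _)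
  have hK2' : Subsingleton (Coh.HH X (H1Ext.kerIm φ).X₁ (1 + 1)) := hK2
  have s₁ : Function.Surjective (Canon.HHlin k (H1Ext.kerIm φ).g 1) := by
    intro x
    exact HHFin2.exact_g_delta k hSE₁ 1 x (Subsingleton.elim (h := hK2') _ _)
  intro y
  obtain ⟨z, hz⟩ := s₂ y
  obtain ⟨w, hw⟩ := s₁ z
  refine ⟨w, ?_⟩
  have hfac : φ = Abelian.factorThruImage φ ≫ Abelian.image.ι φ := (Abelian.image.fac φ).symm
  have h1 : Canon.HHlin k φ 1 w =
      Canon.HHlin k (Abelian.image.ι φ) 1 (Canon.HHlin k (Abelian.factorThruImage φ) 1 w) := by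
    have := HHFin1.HHlin_comp k (Abelian.factorThruImage φ) (Abelian.image.ι φ) 1 w
    rw [← hfac] at this
    exact this
  rw [h1]
  have hw' : Canon.HHlin k (Abelian.factorThruImage φ) 1 w = z := hw
  rw [hw']
  exact hz

end Curve

end Groth.Agent.Helper1.CurveAmp
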