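import Mathlib
import Groth.Agent.Lib.Helper1.Euler3
import Groth.Agent.Lib.Helper1.H1Ext

/-!
# Degrees of locally free modules on proper schemes of dimension at most one (helper1)
-/

set_option autoImplicit false
universe u
open CategoryTheory CategoryTheory.Limits AlgebraicGeometry TopologicalSpace Opposite

namespace Groth.Agent.Helper1.Euler

open Groth.Agent.Lib.Helper4 Groth.Agent.Helper1.Dv Groth.Agent.Helper1.FinLen

/-- ranks are additive in short exact sequences of finite free modules -/
theorem finrank_eq_add_of_exact {R : Type*} [CommRing R] [Nontrivial R] {A B C : Type*}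
    [AddCommGroup A] [AddCommGroup B] [AddCommGroup C] [Module R A] [Module R B] [Module R C]
    [Module.Free R A] [Module.Finite R A] [Module.Free R C] [Module.Finite R C]
    (f : A →ₗ[R] B) (g : B →ₗ[R] C) (hf : Function.Injective f) (hg : Function.Surjective g)
    (hex : Function.Exact f g) :
    Module.finrank R B = Module.finrank R A + Module.finrank R C := by
  obtain ⟨l, hl⟩ := Module.projective_lifting_property g LinearMap.id hg
  have e := (hex.splitSurjectiveEquiv hf ⟨l, hl⟩).1
  rw [e.finrank_eq, Module.finrank_prod]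

variable (k : Type u) [Field k] (X : Scheme.{u}) [X.Over (Spec (CommRingCat.of k))]
  [IsProper (X ↘ (Spec (CommRingCat.of k)))]

/-- `χ(E ⊗ V) = n χ(V) + m (χ(E) - n χ(O))` on a proper scheme of dimension at most one -/
theorem euler_tensor_locFree (hdim : topologicalKrullDim X ≤ 1) (n m : ℕ) (E V : X.Modules)
    (hE : FlatMod.IsFinLocFreeOfRank n E) (hV : FlatMod.IsFinLocFreeOfRank m V) :
    Curv2.euler k X (CohB1.tensorMod E V) = n * Curv2.euler k X V + m * Curv2.deg k X E n := by
  haveI := isNoetherian_of_proper k X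
  haveI : IsLocallyNoetherian X := (isNoetherian_of_proper k X).toIsLocallyNoetherian
  have hO := isCoh_structureModule X
  have hVc : Coh.IsCoh V :=
    Groth.Agent.Lib.Helper5.LocalCoh.isCoh_of_isFinLocFree V (isFinLocFree_of_rank hV)
  have hdimO : topologicalKrullDim ↥(CohB1.support (Coh.structureModule X)) ≤
      ((1 : ℕ) : WithBot ℕ∞) := by
    have := (topologicalKrullDim_subspace_le X (CohB1.support (Coh.structureModule X))).trans hdim
    simpa using this
  have h := k0_tensor_locFree V m hV (Coh.structureModule X) hO 1 hdimO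
  have hker : AddSubgroup.closure {c : KZero.K0sub (PC X) |
        ∃ G : X.Modules, Coh.IsCoh G ∧
          topologicalKrullDim ↥(CohB1.support G) < ((1 : ℕ) : WithBot ℕ∞) ∧
          c = KZero.clSub (PC X) G} ≤ (psiHom k X n E hE).ker := by
    rw [AddSubgroup.closure_le]
    rintro _ ⟨G, hG, hd, rfl⟩
    change psiHom k X n E hE (KZero.clSub (PC X) G) = 0
    rw [psiHom_clSub k X n E hE G hG]
    exact psi_eq_zero_of_dim_lt_one k X n E hE G hG hd
  have h0 : psiHom k X n E hE (KZero.clSub (PC X) (CohB1.tensorMod V (Coh.structureModule X)) -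
      m • KZero.clSub (PC X) (Coh.structureModule X)) = 0 := hker h
  have e1 : KZero.clSub (PC X) (CohB1.tensorMod V (Coh.structureModule X)) =
      KZero.clSub (PC X) V :=
    clSub_iso (Groth.Agent.Lib.Helper5.LTenFlf.tensorUnitIso V).symm hVc
  rw [e1, map_sub, map_nsmul, psiHom_clSub k X n E hE V hVc, psiHom_clSub k X n E hE _ hO,
    sub_eq_zero, nsmul_eq_mul] at h0
  have hdeg : psi k X n E (Coh.structureModule X) = Curv2.deg k X E n := by
    unfold psi Curv2.deg
    have e0 : Curv2.euler k X (CohB1.tensorMod E (Coh.structureModule X)) = Curv2.euler k X E :=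
      euler_iso k X (Groth.Agent.Lib.Helper5.LTenFlf.tensorUnitIso E)
    rw [e0]
  rw [hdeg] at h0
  unfold psi at h0
  linarith

/-- S7637 -/
theorem deg_tensor_locFree (hdim : topologicalKrullDim X ≤ 1) (n m : ℕ) (E V : X.Modules)
    (hE : FlatMod.IsFinLocFreeOfRank n E) (hV : FlatMod.IsFinLocFreeOfRank m V) :
    Curv2.deg k X (CohB1.tensorMod E V) (n * m) =
      n * Curv2.deg k X V m + m * Curv2.deg k X E n := by
  have h := euler_tensor_locFree k X hdim n m E V hE hV
  unfold Curv2.deg at h ⊢
  rw [h]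
  push_cast
  ring

/-- ranks are additive in short exact sequences of locally free modules on a nonempty scheme -/
theorem rank_add_of_shortExact {X : Scheme.{u}} (x : X) (S : ShortComplex X.Modules)
    (hS : S.ShortExact) (n₁ n₂ n₃ : ℕ) (h₁ : FlatMod.IsFinLocFreeOfRank n₁ S.X₁)
    (h₂ : FlatMod.IsFinLocFreeOfRank n₂ S.X₂) (h₃ : FlatMod.IsFinLocFreeOfRank n₃ S.X₃) :
    n₂ = n₁ + n₃ := by
  have hT := hS.map_of_exact (Groth.Agent.Lib.Helper5.StalkAdj.stalkSh X x)
  have hinj : Function.Injective (stalkL S.f x) :=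
    (ModuleCat.mono_iff_injective _).1 hT.mono_f
  have hsurj : Function.Surjective (stalkL S.g x) :=
    (ModuleCat.epi_iff_surjective _).1 hT.epi_g
  have hex : Function.Exact (stalkL S.f x) (stalkL S.g x) :=
    (ShortComplex.ShortExact.moduleCat_exact_iff_function_exact _).1 hT.exact
  have f1 := Groth.Agent.Lib.Helper5.StalkFree.free_finite_stalk_of_isFinLocFree S.X₁
    (isFinLocFree_of_rank h₁) x
  have f3 := Groth.Agent.Lib.Helper5.StalkFree.free_finite_stalk_of_isFinLocFree S.X₃
    (isFinLocFree_of_rank h₃) x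
  haveI : Module.Free (X.presheaf.stalk x) (S.X₁.presheaf.stalk x) := f1.1
  haveI : Module.Finite (X.presheaf.stalk x) (S.X₁.presheaf.stalk x) := f1.2
  haveI : Module.Free (X.presheaf.stalk x) (S.X₃.presheaf.stalk x) := f3.1
  haveI : Module.Finite (X.presheaf.stalk x) (S.X₃.presheaf.stalk x) := f3.2
  have h := finrank_eq_add_of_exact (stalkL S.f x) (stalkL S.g x) hinj hsurj hex
  have r1 : Module.finrank (X.presheaf.stalk x) (S.X₁.presheaf.stalk x) = n₁ :=
    finrank_stalk_of_rank h₁ x
  have r2 : Module.finrank (X.presheaf.stalk x) (S.X₂.presheaf.stalk x) = n₂ :=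
    finrank_stalk_of_rank h₂ x
  have r3 : Module.finrank (X.presheaf.stalk x) (S.X₃.presheaf.stalk x) = n₃ :=
    finrank_stalk_of_rank h₃ x
  rw [r1, r2, r3] at h
  exact h

/-- S7643 -/
theorem deg_additive (S : ShortComplex X.Modules) (hS : S.ShortExact)
    (n₁ n₂ n₃ : ℕ) (h₁ : FlatMod.IsFinLocFreeOfRank n₁ S.X₁)
    (h₂ : FlatMod.IsFinLocFreeOfRank n₂ S.X₂) (h₃ : FlatMod.IsFinLocFreeOfRank n₃ S.X₃) :
    Curv2.deg k X S.X₂ n₂ = Curv2.deg k X S.X₁ n₁ + Curv2.deg k X S.X₃ n₃ := by
  have c1 := Groth.Agent.Lib.Helper5.LocalCoh.isCoh_of_isFinLocFree _ (isFinLocFree_of_rank h₁)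
  have c2 := Groth.Agent.Lib.Helper5.LocalCoh.isCoh_of_isFinLocFree _ (isFinLocFree_of_rank h₂)
  have c3 := Groth.Agent.Lib.Helper5.LocalCoh.isCoh_of_isFinLocFree _ (isFinLocFree_of_rank h₃)
  have hadd := euler_additive k X S hS c1 c2 c3
  unfold Curv2.deg
  rw [hadd]
  by_cases hX : Nonempty X
  · obtain ⟨x⟩ := hX
    have hr := rank_add_of_shortExact x S hS n₁ n₂ n₃ h₁ h₂ h₃
    rw [hr]
    push_cast
    ring
  · rw [not_nonempty_iff] at hX
    have hO : Curv2.euler k X (Coh.structureModule X) = 0 := by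
      unfold Curv2.euler
      have : (fun i : ℕ => (-1 : ℤ) ^ i *
          (Module.finrank k (Coh.HH X (Coh.structureModule X) i) : ℤ)) = fun _ => 0 := by
        funext i
        haveI : Subsingleton (Coh.HH X (Coh.structureModule X) i) := by
          apply H1Ext.subsingleton_HH_of_isZero
          apply isZero_of_support_subset_empty
          intro y _
          exact (hX.false y).elim
        rw [Module.finrank_zero_of_subsingleton, Nat.cast_zero, mul_zero]
      rw [this, finsum_zero]
    rw [hO]
    ring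

end Groth.Agent.Helper1.Euler
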