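import Mathlib
import Groth.Agent.Lib.Helper1.CurveAmp2
import Groth.Agent.Lib.Helper1.Euler5
import Groth.Agent.Lib.Helper1.AmpleH1
import Groth.Agent.Lib.Helper4.IntegralDim

/-!
# Vanishing of `H¹` of high twists by a positive degree invertible module on a proper curve (helper1)
-/

set_option autoImplicit false
universe u
open CategoryTheory CategoryTheory.Limits AlgebraicGeometry TopologicalSpace Opposite

namespace Groth.Agent.Helper1.CurveAmp

open Groth.Agent.Helper1.QcCech Groth.Agent.Helper1.SubSh Groth.Agent.Helper1.LGen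
open Groth.Agent.Helper1.TmulLib Groth.Agent.Helper1 Groth.Agent.Helper1.TwForm
open Groth.Agent.Helper1.TensGen Groth.Agent.Lib.Helper4.TwExact Groth.Agent.Helper1.Dv
open Groth.Agent.Lib.Helper4 Groth.Agent.Helper1.FinLen Groth.Agent.Helper1.Euler
open Groth.Agent.Helper1.Curve

section Assoc

variable {X : Scheme.{u}} {L : X.Modules} (hL : PicF.IsInvertible L)

/-- `(F ⊗ L^a) ⊗ L^b ≅ F ⊗ L^(a+b)` -/
noncomputable def assocIso (F : X.Modules) (a b : ℕ) :
    CohB1.tensorMod (CohB1.tensorMod F (CohB1.tensorPow L a)) (CohB1.tensorPow L b) ≅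
      CohB1.tensorMod F (CohB1.tensorPow L (a + b)) :=
  Tw.iso (((Tw.self L L F).tensorR ((Tw.fst L L).pow a)).tensorR ((Tw.fst L L).pow b))
    (((Tw.self L L F).tensorR ((Tw.fst L L).pow (a + b))).cast (by push_cast; ring)
      (by push_cast; ring))
    (locFrame_of_isInvertible hL hL)

end Assoc

variable (k : Type u) [Field k] (X : Scheme.{u}) [X.Over (Spec (CommRingCat.of k))]
  [IsProper (X ↘ (Spec (CommRingCat.of k)))]

/-- the degree of a tensor power -/
theorem deg_tensorPow (hdim : topologicalKrullDim X ≤ 1) {L : X.Modules}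
    (hL : PicF.IsInvertible L) (n : ℕ) :
    Curv2.deg k X (CohB1.tensorPow L n) 1 = n * Curv2.deg k X L 1 := by
  induction n with
  | zero =>
    rw [Nat.cast_zero, zero_mul]
    change Curv2.deg k X (Coh.structureModule X) 1 = 0
    unfold Curv2.deg
    simp
  | succ n ih =>
    have h := deg_tensor_locFree k X hdim 1 1 (CohB1.tensorPow L n) L
      (isFinLocFreeOfRank_one (isInvertible_tensorPow hL n)) (isFinLocFreeOfRank_one hL)
    have h' : Curv2.deg k X (CohB1.tensorPow L (n + 1)) 1 =
        Curv2.deg k X L 1 + Curv2.deg k X (CohB1.tensorPow L n) 1 := by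
      have e : (1 * 1 : ℕ) = 1 := rfl
      rw [e] at h
      change Curv2.deg k X (CohB1.tensorMod (CohB1.tensorPow L n) L) 1 = _
      simpa using h
    rw [h', ih]
    push_cast
    ring

/-- Riemann–Roch lower bound for the sections of a tensor power -/
theorem h0_tensorPow_ge (hdim : topologicalKrullDim X ≤ 1) {L : X.Modules}
    (hL : PicF.IsInvertible L) (n : ℕ) :
    (n : ℤ) * Curv2.deg k X L 1 + Curv2.euler k X (Coh.structureModule X) ≤
      (Module.finrank k (Coh.HH X (CohB1.tensorPow L n) 0) : ℤ) := by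
  have hc : Coh.IsCoh (CohB1.tensorPow L n) :=
    InvQc.isCoh_of_isInvertible _ (isInvertible_tensorPow hL n)
  have h1 := euler_eq_h0_sub_h1 k X hdim (CohB1.tensorPow L n) hc.1
  have h2 := deg_tensorPow k X hdim hL n
  unfold Curv2.deg at h2
  have h3 : (0 : ℤ) ≤ (Module.finrank k (Coh.HH X (CohB1.tensorPow L n) 1) : ℤ) :=
    Int.natCast_nonneg _
  unfold Curv2.deg
  push_cast at h2 ⊢
  linarith

section Main

/-- linear algebra: if every nonzero section acts injectively and there are more sections than the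
dimension of the target, the source vanishes -/
theorem subsingleton_of_forall_injective (G M : X.Modules)
    [Module.Finite k (Coh.HH X M 0)] [Module.Finite k (Coh.HH X (CohB1.tensorMod G M) 1)]
    (hlt : Module.finrank k (Coh.HH X (CohB1.tensorMod G M) 1) <
      Module.finrank k (Coh.HH X M 0))
    (hinj : ∀ σ : Γ(M, ⊤), σ ≠ 0 → Function.Injective (Canon.HHlin k (mulΓ G M σ) 1)) :
    Subsingleton (Coh.HH X G 1) := by
  by_contra hns
  rw [not_subsingleton_iff_nontrivial] at hns
  obtain ⟨v, hv⟩ := exists_ne (0 : Coh.HH X G 1)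
  have hker := LinearMap.ker_ne_bot_of_finrank_lt (f := mulH k G M 1 v) hlt
  obtain ⟨x, hxk, hx0⟩ := Submodule.exists_mem_ne_zero_of_ne_bot hker
  have hσ : HH0.equiv X M x ≠ 0 := fun h =>
    hx0 ((HH0.equiv X M).injective (h.trans (map_zero _).symm))
  have h0 : Canon.HHlin k (mulΓ G M (HH0.equiv X M x)) 1 v = 0 := hxk
  exact hv (hinj _ hσ (h0.trans (map_zero _).symm))

/-- there are arbitrarily many sections of high powers of a positive degree module -/
theorem exists_h0_gt (hdim : topologicalKrullDim X ≤ 1) {L : X.Modules}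
    (hL : PicF.IsInvertible L) (hdeg : 0 < Curv2.deg k X L 1) (c : ℕ) :
    ∃ m : ℕ, c < Module.finrank k (Coh.HH X (CohB1.tensorPow L m) 0) := by
  set χ := Curv2.euler k X (Coh.structureModule X) with hχ
  refine ⟨c + 1 + (-χ).toNat, ?_⟩
  have h1 := h0_tensorPow_ge k X hdim hL (c + 1 + (-χ).toNat)
  have h3 : -χ ≤ ((-χ).toNat : ℤ) := Int.self_le_toNat _
  have h2 : ((c + 1 + (-χ).toNat : ℕ) : ℤ) ≤
      ((c + 1 + (-χ).toNat : ℕ) : ℤ) * Curv2.deg k X L 1 := by
    have : (0 : ℤ) ≤ ((c + 1 + (-χ).toNat : ℕ) : ℤ) := Int.natCast_nonneg _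
    nlinarith
  have h4 : ((c + 1 + (-χ).toNat : ℕ) : ℤ) = c + 1 + ((-χ).toNat : ℤ) := by
    push_cast
    ring
  have h5 : (c : ℤ) < (Module.finrank k (Coh.HH X (CohB1.tensorPow L (c + 1 + (-χ).toNat)) 0) : ℤ) := by
    linarith
  exact_mod_cast h5

variable [IsIntegral X]

/-- one step: for `G` coherent whose `h¹` is minimal among its twists by `M`, `H¹(G) = 0` -/
theorem subsingleton_H1_of_minimal (hdim : topologicalKrullDim X = 1) (G M : X.Modules)
    (hGc : Coh.IsCoh G) (hM : PicF.IsInvertible M)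
    (hge : Module.finrank k (Coh.HH X G 1) ≤
      Module.finrank k (Coh.HH X (CohB1.tensorMod G M) 1))
    (hm : Module.finrank k (Coh.HH X G 1) < Module.finrank k (Coh.HH X M 0)) :
    Subsingleton (Coh.HH X G 1) := by
  haveI := isNoetherian_of_proper k X
  haveI : IsLocallyNoetherian X := (isNoetherian_of_proper k X).toIsLocallyNoetherian
  have hMc : Coh.IsCoh M := InvQc.isCoh_of_isInvertible _ hM
  have hGMc : Coh.IsCoh (CohB1.tensorMod G M) := isCoh_tensor G M hGc hMc
  haveI : Module.Finite k (Coh.HH X G 1) := T2Main1.t2 k X G hGc 1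
  haveI : Module.Finite k (Coh.HH X (CohB1.tensorMod G M) 1) := T2Main1.t2 k X _ hGMc 1
  haveI : Module.Finite k (Coh.HH X M 0) := T2Main1.t2 k X M hMc 0
  have hsurj : ∀ σ : Γ(M, ⊤), σ ≠ 0 → Function.Surjective (Canon.HHlin k (mulΓ G M σ) 1) :=
    fun σ hσ => surjective_HHlin_mulΓ X k hdim G M hGc hM σ hσ
  have hle : ∀ σ : Γ(M, ⊤), σ ≠ 0 → Module.finrank k (Coh.HH X (CohB1.tensorMod G M) 1) ≤
      Module.finrank k (Coh.HH X G 1) := fun σ hσ =>
    LinearMap.finrank_le_finrank_of_surjective (hsurj σ hσ)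
  have hinj : ∀ σ : Γ(M, ⊤), σ ≠ 0 → Function.Injective (Canon.HHlin k (mulΓ G M σ) 1) := by
    intro σ hσ
    have heq : Module.finrank k (Coh.HH X G 1) =
        Module.finrank k (Coh.HH X (CohB1.tensorMod G M) 1) := le_antisymm hge (hle σ hσ)
    exact (LinearMap.injective_iff_surjective_of_finrank_eq_finrank heq).2 (hsurj σ hσ)
  have hpos : 0 < Module.finrank k (Coh.HH X M 0) := lt_of_le_of_lt (Nat.zero_le _) hm
  haveI : Nontrivial (Coh.HH X M 0) := Module.finrank_pos_iff.1 hpos
  obtain ⟨x, hx⟩ := exists_ne (0 : Coh.HH X M 0)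
  have hσ : HH0.equiv X M x ≠ 0 := fun h =>
    hx ((HH0.equiv X M).injective (h.trans (map_zero _).symm))
  exact subsingleton_of_forall_injective k X G M (lt_of_le_of_lt (hle _ hσ) hm) hinj

/-- **vanishing of `H¹` of some positive twist**: on a proper integral curve, for `L` of positive
degree and `F` coherent, `H¹(F ⊗ L^(n+1)) = 0` for some `n` -/
theorem exists_H1_vanishing (hdim : topologicalKrullDim X = 1) {L : X.Modules}
    (hL : PicF.IsInvertible L) (hdeg : 0 < Curv2.deg k X L 1) (F : X.Modules)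
    (hF : Coh.IsCoh F) :
    ∃ n : ℕ, Subsingleton (Coh.HH X (CohB1.tensorMod F (CohB1.tensorPow L (n + 1))) 1) := by
  haveI := isNoetherian_of_proper k X
  haveI : IsLocallyNoetherian X := (isNoetherian_of_proper k X).toIsLocallyNoetherian
  have hcoh : ∀ N, Coh.IsCoh (CohB1.tensorMod F (CohB1.tensorPow L N)) := fun N =>
    isCoh_tensor F _ hF (InvQc.isCoh_of_isInvertible _ (isInvertible_tensorPow hL N))
  obtain ⟨n₁, hn₁⟩ : ∃ n₁ : ℕ, ∀ n : ℕ,
      Module.finrank k (Coh.HH X (CohB1.tensorMod F (CohB1.tensorPow L (n₁ + 1))) 1) ≤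
      Module.finrank k (Coh.HH X (CohB1.tensorMod F (CohB1.tensorPow L (n + 1))) 1) :=
    ⟨Function.argmin (fun n : ℕ =>
      Module.finrank k (Coh.HH X (CohB1.tensorMod F (CohB1.tensorPow L (n + 1))) 1)),
      fun n => Function.argmin_le (fun n : ℕ =>
      Module.finrank k (Coh.HH X (CohB1.tensorMod F (CohB1.tensorPow L (n + 1))) 1)) n⟩
  refine ⟨n₁, ?_⟩
  obtain ⟨m, hm⟩ := exists_h0_gt k X hdim.le hL hdeg
    (Module.finrank k (Coh.HH X (CohB1.tensorMod F (CohB1.tensorPow L (n₁ + 1))) 1))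
  refine subsingleton_H1_of_minimal k X hdim _ (CohB1.tensorPow L m) (hcoh _)
    (isInvertible_tensorPow hL m) ?_ hm
  have e2 : n₁ + m + 1 = n₁ + 1 + m := by omega
  have h1 := hn₁ (n₁ + m)
  rw [e2] at h1
  exact h1.trans (HHFin1.HHequiv k (assocIso hL F (n₁ + 1) m) 1).finrank_eq.ge

/-- a positive degree invertible module on a proper integral curve is ample -/
theorem isAmple_of_deg_pos (hdim : topologicalKrullDim X = 1) {L : X.Modules}
    (hL : PicF.IsInvertible L) (hdeg : 0 < Curv2.deg k X L 1) : CohB1.IsAmple L := by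
  haveI := isNoetherian_of_proper k X
  haveI : IsLocallyNoetherian X := (isNoetherian_of_proper k X).toIsLocallyNoetherian
  refine AmpleH1.isAmple_of_H1 hL (fun I i hi hqc => ?_)
  have hO : Coh.IsCoh (Coh.structureModule X) :=
    InvQc.isCoh_of_isInvertible _ (GenLoc.isInvertible_O (X := X))
  haveI := hi
  have hIc : Coh.IsCoh I := FtLocal.isCoh_of_mono i hO hqc
  exact exists_H1_vanishing k X hdim hL hdeg I hIc

omit [IsIntegral X] in
/-- a proper scheme of dimension one over a field is not affine -/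
theorem not_isAffine_of_dim_one (hdim : topologicalKrullDim X = 1)
    (hp : IsProper (X ↘ (Spec (CommRingCat.of k)))) : ¬ IsAffine X := by
  intro haff
  haveI : IsAffineHom (X ↘ (Spec (CommRingCat.of k))) := inferInstance
  haveI : IsFinite (X ↘ (Spec (CommRingCat.of k))) :=
    IsFinite.iff_isProper_and_isAffineHom.2 ⟨hp, inferInstance⟩
  have h1 := (Groth.Agent.Lib.Helper4.IntegralDim.S9683_main (X ↘ (Spec (CommRingCat.of k)))).1
  have h2 : topologicalKrullDim ↥(Spec (CommRingCat.of k)) = 0 := by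
    have := PrimeSpectrum.topologicalKrullDim_eq_ringKrullDim k
    exact this.trans (ringKrullDim_eq_zero_of_field k)
  rw [hdim, h2] at h1
  exact absurd h1 (by decide)

/-- an ample invertible module on a proper integral curve has positive degree -/
theorem deg_pos_of_isAmple (hdim : topologicalKrullDim X = 1) {L : X.Modules}
    (h : CohB1.IsAmple L) : 0 < Curv2.deg k X L 1 := by
  obtain ⟨hL, -, hamp⟩ := h
  obtain ⟨n, s, hxs, haff⟩ := hamp (genericPoint X)
  have hLn := isInvertible_tensorPow hL (n + 1)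
  have hs : s ≠ 0 := by
    intro h0
    rw [h0, SecOps.genLocus_zero hLn] at hxs
    exact hxs
  have hne : ∃ y : X, y ∉ CohB1.genLocus _ s := by
    by_contra hcon
    push Not at hcon
    have htop : CohB1.genLocus _ s = ⊤ := by
      ext y
      simpa using hcon y
    rw [htop] at haff
    haveI : IsAffine (↑(⊤ : X.Opens) : Scheme.{u}) := haff
    exact not_isAffine_of_dim_one k X hdim inferInstance (IsAffine.of_isIso (X.topIso).inv)
  obtain ⟨y, hy⟩ := hne
  have h1 := deg_pos_of_section_vanishing k X hdim hLn s hs y hy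
  rw [deg_tensorPow k X hdim.le hL (n + 1)] at h1
  have h2 : (0 : ℤ) < ((n + 1 : ℕ) : ℤ) := by exact_mod_cast Nat.succ_pos n
  exact (mul_pos_iff_of_pos_left h2).1 h1

/-- **S1530**: ample iff positive degree -/
theorem isAmple_iff_deg_pos (hdim : topologicalKrullDim X = 1) {L : X.Modules}
    (hL : PicF.IsInvertible L) : CohB1.IsAmple L ↔ 0 < Curv2.deg k X L 1 :=
  ⟨deg_pos_of_isAmple k X hdim, isAmple_of_deg_pos k X hdim hL⟩

end Main

end Groth.Agent.Helper1.CurveAmp
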