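import Mathlib
import Groth.Agent.Lib.Helper1.TwistSec
import Groth.Agent.Lib.Helper1.Dv8b

/-!
# Sections of modules with finite discrete support (helper1)
-/

set_option autoImplicit false
universe u
open CategoryTheory CategoryTheory.Limits AlgebraicGeometry TopologicalSpace Opposite

namespace Groth.Agent.Helper1.FinSupp

open Groth.Agent.Helper1.QcCech Groth.Agent.Helper1 Groth.Agent.Helper1.Dv

variable {X : Scheme.{u}}

/-- two sections with the same germs are equal -/
theorem eq_of_germ_eq (Q : X.Modules) (W : X.Opens) (a b : Γ(Q, W))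
    (h : ∀ x (hx : x ∈ W), Q.presheaf.germ W x hx a = Q.presheaf.germ W x hx b) : a = b := by
  let FM : TopCat.Sheaf Ab X := ⟨Q.presheaf, Q.isSheaf⟩
  exact TopCat.Presheaf.section_ext FM W a b h

/-- sections over an open set on which all stalks vanish are unique -/
theorem subsingleton_sections (Q : X.Modules) (W : X.Opens)
    (h : ∀ x ∈ W, Subsingleton (Q.presheaf.stalk x)) : Subsingleton Γ(Q, W) := by
  constructor
  intro a b
  apply eq_of_germ_eq
  intro x hx
  exact Subsingleton.elim (h := h x hx) _ _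

/-- **gluing germs**: a module whose stalks vanish outside a finite set `Z` of closed points has a
global section with prescribed germs at the points of `Z` -/
theorem exists_section_of_germs (Q : X.Modules) (Z : Set X) (hZf : Z.Finite)
    (hZc : ∀ z ∈ Z, IsClosed ({z} : Set X))
    (hQ : ∀ x, x ∉ Z → Subsingleton (Q.presheaf.stalk x))
    (q : ∀ z : Z, Q.presheaf.stalk z.1) :
    ∃ g : Γ(Q, ⊤), ∀ z : Z, Q.presheaf.germ ⊤ z.1 trivial g = q z := by
  classical
  have h1 : ∀ z : Z, ∃ (U : X.Opens) (hz : z.1 ∈ U) (s : Γ(Q, U)),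
      Q.presheaf.germ U z.1 hz s = q z := fun z => by
    obtain ⟨U, hz, s, hs⟩ := TopCat.Presheaf.exists_germ_eq Q.presheaf (q z)
    exact ⟨U, hz, s, hs⟩
  choose U hzU s hs using h1
  have hcl : ∀ T : Set X, T ⊆ Z → IsClosed T := by
    intro T hT
    have : T = ⋃ w ∈ T, ({w} : Set X) := (Set.biUnion_of_singleton T).symm
    rw [this]
    exact (hZf.subset hT).isClosed_biUnion (fun w hw => hZc w (hT hw))
  let C : Z → X.Opens := fun z => ⟨(Z \ {z.1})ᶜ, (hcl _ Set.sdiff_subset).isOpen_compl⟩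
  let Vinf : X.Opens := ⟨Zᶜ, (hcl Z subset_rfl).isOpen_compl⟩
  let W : Option Z → X.Opens := fun o => Option.rec Vinf (fun z => U z ⊓ C z) o
  let sf : ∀ o : Option Z, Γ(Q, W o) := fun o =>
    Option.rec (motive := fun o => Γ(Q, W o)) (0 : Γ(Q, Vinf))
      (fun z => res Q (inf_le_left : U z ⊓ C z ≤ U z) (s z)) o
  have hWZ : ∀ (i j : Option Z), i ≠ j → ∀ x ∈ W i ⊓ W j, x ∉ Z := by
    intro i j hij x hx hxZ
    rcases i with _ | z
    · exact hx.1 hxZ
    · rcases j with _ | z'
      · exact hx.2 hxZ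
      · apply hij
        have e1 : x = z.1 := by
          by_contra hne
          exact hx.1.2 ⟨hxZ, hne⟩
        have e2 : x = z'.1 := by
          by_contra hne
          exact hx.2.2 ⟨hxZ, hne⟩
        exact congrArg some (Subtype.ext (e1.symm.trans e2))
  have hc : ∀ i j, res Q (inf_le_left : W i ⊓ W j ≤ W i) (sf i) =
      res Q (inf_le_right : W i ⊓ W j ≤ W j) (sf j) := by
    intro i j
    by_cases hij : i = j
    · subst hij
      rfl
    · haveI := subsingleton_sections Q (W i ⊓ W j) (fun x hx => hQ x (hWZ i j hij x hx))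
      exact Subsingleton.elim _ _
  have hcov : (⊤ : X.Opens) ≤ ⨆ o, W o := by
    intro x _
    by_cases hx : x ∈ Z
    · refine Opens.mem_iSup.2 ⟨some ⟨x, hx⟩, ?_⟩
      refine ⟨hzU ⟨x, hx⟩, ?_⟩
      intro hmem
      exact hmem.2 rfl
    · exact Opens.mem_iSup.2 ⟨none, hx⟩
  obtain ⟨g, hg⟩ := TwistSec.glue_of_compatible Q W ⊤ (fun _ => le_top) hcov sf hc
  refine ⟨g, fun z => ?_⟩
  have hzW : z.1 ∈ W (some z) := by
    refine ⟨hzU z, ?_⟩
    intro hmem
    exact hmem.2 rfl
  have e1 := TopCat.Presheaf.germ_res_apply Q.presheaf (homOfLE (le_top : W (some z) ≤ ⊤)) z.1 hzW g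
  have e2 := TopCat.Presheaf.germ_res_apply Q.presheaf
    (homOfLE (inf_le_left : U z ⊓ C z ≤ U z)) z.1 hzW (s z)
  rw [← hs z, ← e1, ← e2]
  exact congrArg (Q.presheaf.germ (W (some z)) z.1 hzW) (hg (some z))

end Groth.Agent.Helper1.FinSupp
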