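import Mathlib
import Groth.Agent.Lib.Helper1.CurveAmp3
import Groth.Agent.Lib.Helper1.FinSupp1

/-!
# Multiplication by two sections of an invertible module: the step `A(F) ⇒ A(F ⊗ L)` (helper1)
-/

set_option autoImplicit false
universe u
open CategoryTheory CategoryTheory.Limits AlgebraicGeometry TopologicalSpace Opposite

namespace Groth.Agent.Helper1.CurveLin

open Groth.Agent.Helper1.QcCech Groth.Agent.Helper1.SubSh Groth.Agent.Helper1.LGen
open Groth.Agent.Helper1.TmulLib Groth.Agent.Helper1 Groth.Agent.Helper1.TwForm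
open Groth.Agent.Helper1.TensGen Groth.Agent.Lib.Helper4.TwExact Groth.Agent.Helper1.Dv
open Groth.Agent.Lib.Helper4 Groth.Agent.Helper1.CurveAmp Groth.Agent.Helper1.FinSupp
open Groth.Agent.Lib.Helper5.StalkAdj

variable {X : Scheme.{u}}

/-- `σ` generates `L` near `x` -/
def GenAt (L : X.Modules) (σ : Γ(L, ⊤)) (x : X) : Prop :=
  ∃ V : X.Opens, x ∈ V ∧ IsGen L V (res L (le_top : V ≤ ⊤) σ)

/-- multiplications by two global sections of an invertible module commute -/
theorem mulΓ_comm {L : X.Modules} (hL : PicF.IsInvertible L) (F : X.Modules) (σ t : Γ(L, ⊤)) :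
    mulΓ F L t ≫ mulΓ (CohB1.tensorMod F L) L σ =
      mulΓ F L σ ≫ mulΓ (CohB1.tensorMod F L) L t := by
  apply Scheme.Modules.hom_ext
  intro U
  ext m
  change (mulΓ (CohB1.tensorMod F L) L σ).app U ((mulΓ F L t).app U m) =
    (mulΓ (CohB1.tensorMod F L) L t).app U ((mulΓ F L σ).app U m)
  rw [mulΓ_app, mulΓ_app, mulΓ_app, mulΓ_app]
  apply TwistSec.eq_of_locally
  intro x hx
  obtain ⟨W, a, hxW, ha⟩ := exists_isGen hL x
  have hWU : W ⊓ U ≤ U := inf_le_right
  have hW' : W ⊓ U ≤ W := inf_le_left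
  refine ⟨W ⊓ U, hWU, ⟨hxW, hx⟩, ?_⟩
  obtain ⟨f, hf⟩ := (ha.res hW').exists_coeff (res L (le_top : W ⊓ U ≤ ⊤) t)
  obtain ⟨g, hg⟩ := (ha.res hW').exists_coeff (res L (le_top : W ⊓ U ≤ ⊤) σ)
  rw [res_tm, res_tm, res_tm, res_tm, res_res, res_res, ← hf, ← hg]
  rw [tm_smul_right, tm_smul_right, tm_smul_left, tm_smul_right, tm_smul_right, tm_smul_left,
    smul_smul, smul_smul, mul_comm]

theorem notMem_support_cokernel_of_genAt (F L : X.Modules) (σ : Γ(L, ⊤)) (x : X)
    (h : GenAt L σ x) : x ∉ CohB1.support (cokernel (mulΓ F L σ)) := by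
  obtain ⟨V, hxV, hV⟩ := h
  exact notMem_support_cokernel' _ x (stalkL_mulΓ_bijective F L σ hV x hxV).2

theorem stalkL_surjective_of_notMem_support {E G : X.Modules} (ψ : E ⟶ G) (x : X)
    (h : x ∉ CohB1.support (cokernel ψ)) : Function.Surjective (stalkL ψ x) := by
  rw [← isZero_stalkSh_iff] at h
  have h2 : IsZero (cokernel ((stalkSh X x).map ψ)) :=
    IsZero.of_iso h (PreservesCokernel.iso (stalkSh X x) ψ).symm
  haveI : Epi ((stalkSh X x).map ψ) := Preadditive.epi_of_isZero_cokernel _ h2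
  exact (ModuleCat.epi_iff_surjective _).1 this

theorem stalkL_surjective_of_epi {E G : X.Modules} (ψ : E ⟶ G) [Epi ψ] (x : X) :
    Function.Surjective (stalkL ψ x) := by
  apply stalkL_surjective_of_notMem_support
  rw [support_isZero (isZero_cokernel_of_epi ψ)]
  exact Set.notMem_empty x

/-- exactness of the cokernel sequence on stalks -/
theorem exists_stalkL_eq {E G : X.Modules} (ψ : E ⟶ G) (x : X) (y : G.presheaf.stalk x)
    (hy : stalkL (cokernel.π ψ) x y = 0) : ∃ w, stalkL ψ x w = y := by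
  let S : ShortComplex X.Modules := ShortComplex.mk ψ (cokernel.π ψ) (cokernel.condition ψ)
  have hS : S.Exact := ShortComplex.exact_cokernel ψ
  have hS' : (S.map (stalkSh X x)).Exact := hS.map (stalkSh X x)
  exact (ShortComplex.moduleCat_exact_iff _).1 hS' y hy


/-- if the cokernel of multiplication by `σ` on `O` vanishes at `x`, then `σ` generates near `x` -/
theorem genAt_of_notMem_support {L : X.Modules} (hL : PicF.IsInvertible L) (σ : Γ(L, ⊤)) (x : X)
    (h : x ∉ CohB1.support (cokernel (mulΓ (Coh.structureModule X) L σ))) : GenAt L σ x := by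
  have hsurj := stalkL_surjective_of_notMem_support _ x h
  obtain ⟨W, a, hxW, ha⟩ := exists_isGen hL x
  obtain ⟨y, hy⟩ := hsurj ((CohB1.tensorMod (Coh.structureModule X) L).presheaf.germ W x hxW
    (tm (Coh.structureModule X) L W (one' W) a))
  obtain ⟨W₁, hxW₁, c, rfl⟩ := TopCat.Presheaf.exists_germ_eq (Coh.structureModule X).presheaf y
  rw [stalkL_germ] at hy
  obtain ⟨V, hxV, i1, i2, hV⟩ :=
    TopCat.Presheaf.germ_eq (CohB1.tensorMod (Coh.structureModule X) L).presheaf x hxW₁ hxW _ _ hy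
  have hV' : res (CohB1.tensorMod (Coh.structureModule X) L) i1.le
      ((mulΓ (Coh.structureModule X) L σ).app W₁ c) =
      res (CohB1.tensorMod (Coh.structureModule X) L) i2.le
        (tm (Coh.structureModule X) L W (one' W) a) := hV
  rw [← QcExt.app_res, mulΓ_app, res_tm, res_one'] at hV'
  have ha₂ : IsGen L V (res L i2.le a) := ha.res i2.le
  have hb₂ : IsGen (CohB1.tensorMod (Coh.structureModule X) L) V
      (tm (Coh.structureModule X) L V (one' V) (res L i2.le a)) := isGen_tm (AmpleLib.isGen_one' V) ha₂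
  obtain ⟨m, hm⟩ := ha₂.exists_coeff (res L (le_top : V ≤ ⊤) σ)
  have hc : res (Coh.structureModule X) i1.le c =
      (show Γ(X, V) from res (Coh.structureModule X) i1.le c) • one' V := (smul_one' V _).symm
  rw [hc, ← hm, tm_smul_left, tm_smul_right, smul_smul] at hV'
  have h1 : ((show Γ(X, V) from res (Coh.structureModule X) i1.le c) * m) •
      tm (Coh.structureModule X) L V (one' V) (res L i2.le a) =
      (1 : Γ(X, V)) • tm (Coh.structureModule X) L V (one' V) (res L i2.le a) := by
    rw [one_smul]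
    exact hV'
  have h2 := (IsGen.bijective_self hb₂).1 h1
  refine ⟨V, hxV, ?_⟩
  rw [← hm]
  exact IsGen.smul_unit ha₂ ⟨m, _, by rw [mul_comm]; exact h2, h2⟩


theorem isUnit_one_add_of_not_isUnit {R : Type*} [CommRing R] [IsLocalRing R] (a b : R)
    (hb : ¬ IsUnit b) : IsUnit (1 + a * b) := by
  have h1 : IsUnit ((1 + a * b) + (-(a * b))) := by
    rw [add_neg_cancel_right]
    exact isUnit_one
  rcases IsLocalRing.isUnit_or_isUnit_of_isUnit_add h1 with h | h
  · exact h
  · exfalso
    apply hb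
    have h2 : IsUnit (a * b) := by
      have := h.neg
      rwa [neg_neg] at this
    exact isUnit_of_mul_isUnit_right h2

/-- Nakayama step: a global section of `O ⊗ L` which agrees at `z`, modulo the image of `σ`, with a
local generator, generates near `z` when `σ` does not -/
theorem genAt_of_germ_eq {L : X.Modules} (σ : Γ(L, ⊤))
    (t' : Γ(CohB1.tensorMod (Coh.structureModule X) L, ⊤)) (z : X) (hz : ¬ GenAt L σ z)
    (W : X.Opens) (hzW : z ∈ W) (a : Γ(L, W)) (ha : IsGen L W a)
    (h : stalkL (cokernel.π (mulΓ (Coh.structureModule X) L σ)) z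
        ((CohB1.tensorMod (Coh.structureModule X) L).presheaf.germ ⊤ z trivial t') =
      stalkL (cokernel.π (mulΓ (Coh.structureModule X) L σ)) z
        ((CohB1.tensorMod (Coh.structureModule X) L).presheaf.germ W z hzW
          (tm (Coh.structureModule X) L W (one' W) a))) :
    GenAt (CohB1.tensorMod (Coh.structureModule X) L) t' z := by
  have h0 : stalkL (cokernel.π (mulΓ (Coh.structureModule X) L σ)) z ((CohB1.tensorMod (Coh.structureModule X) L).presheaf.germ ⊤ z trivial t' -
      (CohB1.tensorMod (Coh.structureModule X) L).presheaf.germ W z hzW (tm (Coh.structureModule X) L W (one' W) a)) = 0 := by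
    rw [map_sub, h, sub_self]
  obtain ⟨y, hy⟩ := exists_stalkL_eq (mulΓ (Coh.structureModule X) L σ) z _ h0
  obtain ⟨W₁, hzW₁, c, rfl⟩ := TopCat.Presheaf.exists_germ_eq (Coh.structureModule X).presheaf y
  rw [stalkL_germ] at hy
  have e1 : (CohB1.tensorMod (Coh.structureModule X) L).presheaf.germ ⊤ z trivial t' =
      (CohB1.tensorMod (Coh.structureModule X) L).presheaf.germ W z hzW (res (CohB1.tensorMod (Coh.structureModule X) L) (le_top : W ≤ ⊤) t') :=
    (TopCat.Presheaf.germ_res_apply (CohB1.tensorMod (Coh.structureModule X) L).presheaf (homOfLE (le_top : W ≤ ⊤)) z hzW t').symm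
  rw [e1, ← map_sub] at hy
  obtain ⟨V, hzV, i1, i2, hV⟩ := TopCat.Presheaf.germ_eq (CohB1.tensorMod (Coh.structureModule X) L).presheaf z hzW₁ hzW _ _ hy
  have hV' : res (CohB1.tensorMod (Coh.structureModule X) L) i1.le ((mulΓ (Coh.structureModule X) L σ).app W₁ c) = res (CohB1.tensorMod (Coh.structureModule X) L) i2.le (res (CohB1.tensorMod (Coh.structureModule X) L) (le_top : W ≤ ⊤) t' -
      tm (Coh.structureModule X) L W (one' W) a) := hV
  rw [← QcExt.app_res, mulΓ_app, map_sub, res_res, res_tm, res_one'] at hV'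
  have ha₂ : IsGen L V (res L i2.le a) := ha.res i2.le
  have hb₂ : IsGen (CohB1.tensorMod (Coh.structureModule X) L) V (tm (Coh.structureModule X) L V (one' V) (res L i2.le a)) :=
    isGen_tm (AmpleLib.isGen_one' V) ha₂
  obtain ⟨m, hm⟩ := ha₂.exists_coeff (res L (le_top : V ≤ ⊤) σ)
  obtain ⟨ρ, hρ⟩ := hb₂.exists_coeff (res (CohB1.tensorMod (Coh.structureModule X) L) (le_top : V ≤ ⊤) t')
  have hc : res (Coh.structureModule X) i1.le c =
      (show Γ(X, V) from res (Coh.structureModule X) i1.le c) • one' V := (smul_one' V _).symm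
  rw [hc, ← hm, tm_smul_left, tm_smul_right, smul_smul, ← hρ] at hV'
  have h1 : ρ • tm (Coh.structureModule X) L V (one' V) (res L i2.le a) =
      (1 + (show Γ(X, V) from res (Coh.structureModule X) i1.le c) * m) •
        tm (Coh.structureModule X) L V (one' V) (res L i2.le a) := by
    rw [add_smul, one_smul, hV']
    abel
  have h2 := (IsGen.bijective_self hb₂).1 h1
  have hm' : z ∉ X.basicOpen m := by
    intro hzm
    apply hz
    refine ⟨X.basicOpen m, hzm, ?_⟩
    have hle : X.basicOpen m ≤ V := X.basicOpen_le m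
    have hu : IsUnit (resR hle m) := X.toRingedSpace.isUnit_res_basicOpen m
    have e : res L (le_top : X.basicOpen m ≤ ⊤) σ = resR hle m • res L hle (res L i2.le a) := by
      rw [← res_smul, hm, res_res]
    rw [e]
    exact IsGen.smul_unit (ha₂.res hle) hu.unit
  have hρz : z ∈ X.basicOpen ρ := by
    rw [Scheme.mem_basicOpen _ _ _ hzV] at hm' ⊢
    rw [h2, map_add, map_one, map_mul]
    exact isUnit_one_add_of_not_isUnit _ _ hm'
  refine ⟨X.basicOpen ρ, hρz, ?_⟩
  have hle : X.basicOpen ρ ≤ V := X.basicOpen_le ρ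
  have hu : IsUnit (resR hle ρ) := X.toRingedSpace.isUnit_res_basicOpen ρ
  have e : res (CohB1.tensorMod (Coh.structureModule X) L) (le_top : X.basicOpen ρ ≤ ⊤) t' = resR hle ρ •
      res (CohB1.tensorMod (Coh.structureModule X) L) hle (tm (Coh.structureModule X) L V (one' V) (res L i2.le a)) := by
    rw [← res_smul, hρ, res_res]
  rw [e]
  exact IsGen.smul_unit (hb₂.res hle) hu.unit


section Step

variable {L : X.Modules} (hL : PicF.IsInvertible L) (F : X.Modules) (σ t : Γ(L, ⊤))

/-- multiplication by `t` on the cokernels of multiplication by `σ` -/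
noncomputable def tbar : cokernel (mulΓ F L σ) ⟶ cokernel (mulΓ (CohB1.tensorMod F L) L σ) :=
  cokernel.map (mulΓ F L σ) (mulΓ (CohB1.tensorMod F L) L σ) (mulΓ F L t)
    (mulΓ (CohB1.tensorMod F L) L t) (mulΓ_comm hL F σ t).symm

theorem π_tbar : cokernel.π (mulΓ F L σ) ≫ tbar hL F σ t =
    mulΓ (CohB1.tensorMod F L) L t ≫ cokernel.π (mulΓ (CohB1.tensorMod F L) L σ) := by
  unfold tbar
  simp

theorem stalkL_tbar_surjective (x : X) (hx : GenAt L t x) :
    Function.Surjective (stalkL (tbar hL F σ t) x) := by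
  obtain ⟨V, hxV, hV⟩ := hx
  intro y
  obtain ⟨y₁, hy₁⟩ := stalkL_surjective_of_epi (cokernel.π (mulΓ (CohB1.tensorMod F L) L σ)) x y
  obtain ⟨y₂, hy₂⟩ := (stalkL_mulΓ_bijective (CohB1.tensorMod F L) L t hV x hxV).2 y₁
  refine ⟨stalkL (cokernel.π (mulΓ F L σ)) x y₂, ?_⟩
  have h := congrArg (fun ψ => stalkL ψ x y₂) (π_tbar hL F σ t)
  simp only [stalkL_comp, LinearMap.comp_apply] at h
  rw [h, hy₂, hy₁]

include hL in
/-- **the step**: surjectivity on global sections onto the cokernel of `σ` propagates from `F` to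
`F ⊗ L`, when `t` generates `L` at the finitely many closed points where `σ` does not -/
theorem step (Z : Set X) (hZf : Z.Finite) (hZc : ∀ z ∈ Z, IsClosed ({z} : Set X))
    (hσ : ∀ x, x ∉ Z → GenAt L σ x) (ht : ∀ z ∈ Z, GenAt L t z)
    (hF : Function.Surjective ((cokernel.π (mulΓ F L σ)).app ⊤)) :
    Function.Surjective ((cokernel.π (mulΓ (CohB1.tensorMod F L) L σ)).app ⊤) := by
  intro q'
  have h1 : ∀ z : Z, ∃ p : (cokernel (mulΓ F L σ)).presheaf.stalk z.1,
      stalkL (tbar hL F σ t) z.1 p =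
        (cokernel (mulΓ (CohB1.tensorMod F L) L σ)).presheaf.germ ⊤ z.1 trivial q' :=
    fun z => stalkL_tbar_surjective hL F σ t z.1 (ht z.1 z.2) _
  choose p hp using h1
  obtain ⟨g, hg⟩ := exists_section_of_germs (cokernel (mulΓ F L σ)) Z hZf hZc
    (fun x hx => not_not.1 (notMem_support_cokernel_of_genAt F L σ x (hσ x hx))) p
  obtain ⟨y, hy⟩ := hF g
  refine ⟨(mulΓ (CohB1.tensorMod F L) L t).app ⊤ y, ?_⟩
  apply eq_of_germ_eq
  intro x hxT
  by_cases hx : x ∈ Z
  · have e1 : (cokernel.π (mulΓ (CohB1.tensorMod F L) L σ)).app ⊤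
        ((mulΓ (CohB1.tensorMod F L) L t).app ⊤ y) =
        (tbar hL F σ t).app ⊤ ((cokernel.π (mulΓ F L σ)).app ⊤ y) := by
      have h := congrArg (fun ψ => (Scheme.Modules.Hom.app ψ ⊤) y) (π_tbar hL F σ t)
      exact h.symm
    rw [e1, hy, ← stalkL_germ]
    have := hg ⟨x, hx⟩
    rw [this]
    exact hp ⟨x, hx⟩
  · haveI : Subsingleton ((cokernel (mulΓ (CohB1.tensorMod F L) L σ)).presheaf.stalk x) :=
      not_not.1 (notMem_support_cokernel_of_genAt (CohB1.tensorMod F L) L σ x (hσ x hx))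
    exact Subsingleton.elim _ _

include hL in
/-- surjectivity onto the cokernel of `σ` for all tensor powers -/
theorem surjective_tensorPow (Z : Set X) (hZf : Z.Finite)
    (hZc : ∀ z ∈ Z, IsClosed ({z} : Set X))
    (hσ : ∀ x, x ∉ Z → GenAt L σ x) (ht : ∀ z ∈ Z, GenAt L t z)
    (h0 : Function.Surjective ((cokernel.π (mulΓ (Coh.structureModule X) L σ)).app ⊤)) (n : ℕ) :
    Function.Surjective ((cokernel.π (mulΓ (CohB1.tensorPow L n) L σ)).app ⊤) := by
  induction n with
  | zero => exact h0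
  | succ n ih => exact step hL (CohB1.tensorPow L n) σ t Z hZf hZc hσ ht ih

end Step

end Groth.Agent.Helper1.CurveLin
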