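import Mathlib
import Groth.Agent.Lib.Helper1.Euler2
import Groth.Agent.Lib.Helper1.FtLocal

/-!
# Dimension bounds from the long exact cohomology sequence (helper1)
-/

set_option autoImplicit false
universe u
open CategoryTheory CategoryTheory.Limits AlgebraicGeometry TopologicalSpace Opposite

namespace Groth.Agent.Helper1.LesBound

open Groth.Agent.Lib.Helper4

section LinAlg

variable {k A B C : Type*} [Field k] [AddCommGroup A] [AddCommGroup B] [AddCommGroup C]
  [Module k A] [Module k B] [Module k C]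
  [FiniteDimensional k A] [FiniteDimensional k B] [FiniteDimensional k C]

theorem finrank_le_add_of_exact (f : A →ₗ[k] B) (g : B →ₗ[k] C)
    (h : ∀ x, g x = 0 → ∃ y, f y = x) :
    Module.finrank k B ≤ Module.finrank k A + Module.finrank k C := by
  have h1 := LinearMap.finrank_range_add_finrank_ker g
  have h2 : Module.finrank k (LinearMap.range g) ≤ Module.finrank k C := Submodule.finrank_le _
  have h3 : Module.finrank k (LinearMap.ker g) ≤ Module.finrank k (LinearMap.range f) := by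
    apply Submodule.finrank_mono
    intro x hx
    exact h x hx
  have h4 : Module.finrank k (LinearMap.range f) ≤ Module.finrank k A :=
    LinearMap.finrank_range_le f
  omega

end LinAlg

section SES

variable (k : Type u) [Field k] (X : Scheme.{u}) [X.Over (Spec (CommRingCat.of k))]
  [IsProper (X ↘ (Spec (CommRingCat.of k)))]
  (S : ShortComplex X.Modules) (hS : S.ShortExact)
  (h₁ : Coh.IsCoh S.X₁) (h₂ : Coh.IsCoh S.X₂) (h₃ : Coh.IsCoh S.X₃)

include hS h₁ h₂ h₃

theorem finrank_X₂_le (i : ℕ) :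
    Module.finrank k (Coh.HH X S.X₂ i) ≤
      Module.finrank k (Coh.HH X S.X₁ i) + Module.finrank k (Coh.HH X S.X₃ i) := by
  haveI : ∀ i, FiniteDimensional k (Coh.HH X S.X₁ i) := fun i => T2Main1.t2 k X S.X₁ h₁ i
  haveI : ∀ i, FiniteDimensional k (Coh.HH X S.X₂ i) := fun i => T2Main1.t2 k X S.X₂ h₂ i
  haveI : ∀ i, FiniteDimensional k (Coh.HH X S.X₃ i) := fun i => T2Main1.t2 k X S.X₃ h₃ i
  exact finrank_le_add_of_exact (Canon.HHlin k S.f i) (Canon.HHlin k S.g i)
    (fun x hx => HHFin2.exact_f_g k hS i x hx)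

theorem finrank_X₁_zero_le :
    Module.finrank k (Coh.HH X S.X₁ 0) ≤ Module.finrank k (Coh.HH X S.X₂ 0) := by
  haveI : ∀ i, FiniteDimensional k (Coh.HH X S.X₂ i) := fun i => T2Main1.t2 k X S.X₂ h₂ i
  exact LinearMap.finrank_le_finrank_of_injective (HHFin3.HHlin_f_zero_injective k hS)

theorem finrank_X₁_succ_le (i : ℕ) :
    Module.finrank k (Coh.HH X S.X₁ (i + 1)) ≤
      Module.finrank k (Coh.HH X S.X₃ i) + Module.finrank k (Coh.HH X S.X₂ (i + 1)) := by
  haveI : ∀ i, FiniteDimensional k (Coh.HH X S.X₁ i) := fun i => T2Main1.t2 k X S.X₁ h₁ i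
  haveI : ∀ i, FiniteDimensional k (Coh.HH X S.X₂ i) := fun i => T2Main1.t2 k X S.X₂ h₂ i
  haveI : ∀ i, FiniteDimensional k (Coh.HH X S.X₃ i) := fun i => T2Main1.t2 k X S.X₃ h₃ i
  exact finrank_le_add_of_exact (HHFin2.deltaLin k hS i) (Canon.HHlin k S.f (i + 1))
    (fun x hx => HHFin3.exact_delta_f k hS i x hx)

end SES

section Chain

variable {X : Scheme.{u}}
  (C : ℕ → X.Modules) (hC : ∀ j, Coh.IsCoh (C j)) (d : ∀ j, C j ⟶ C (j + 1))
  (hd : ∀ j, d j ≫ d (j + 1) = 0)
  (hex : ∀ j, (ShortComplex.mk (d j) (d (j + 1)) (hd j)).Exact)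

/-- the cycles `Z j = ker (d (j+1)) ⊆ C (j+1)` -/
noncomputable abbrev Z (j : ℕ) : X.Modules := kernel (d (j + 1))

/-- the map `C j ⟶ Z j` -/
noncomputable abbrev π (j : ℕ) : C j ⟶ Z C d j := kernel.lift (d (j + 1)) (d j) (hd j)

include hex in
theorem epi_π (j : ℕ) : Epi (π C d hd j) :=
  (hex j).epi_kernelLift

include hC in
theorem isCoh_Z [IsLocallyNoetherian X] (j : ℕ) : Coh.IsCoh (Z C d j) :=
  FtLocal.isCoh_kernel (hC (j + 1)) (hC (j + 2)) (d (j + 1))

/-- the short complex `0 → Z m → C (m+1) → Z (m+1) → 0` -/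
noncomputable abbrev SB (m : ℕ) : ShortComplex X.Modules :=
  ShortComplex.mk (kernel.ι (d (m + 1))) (π C d hd (m + 1)) (by
    rw [← cancel_mono (kernel.ι (d (m + 2))), Category.assoc, kernel.lift_ι, kernel.condition,
      zero_comp])

include hex in
theorem SB_shortExact (m : ℕ) : (SB C d hd m).ShortExact := by
  haveI : Mono (SB C d hd m).f := inferInstanceAs (Mono (kernel.ι (d (m + 1))))
  haveI : Epi (SB C d hd m).g := epi_π C d hd hex (m + 1)
  refine { exact := ?_ }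
  let S₂ : ShortComplex X.Modules :=
    ShortComplex.mk (kernel.ι (d (m + 1))) (d (m + 1)) (kernel.condition _)
  have hS₂ : S₂.Exact := ShortComplex.exact_of_f_is_kernel _ (kernelIsKernel (d (m + 1)))
  let φ : SB C d hd m ⟶ S₂ :=
    { τ₁ := 𝟙 _
      τ₂ := 𝟙 _
      τ₃ := kernel.ι (d (m + 2))
      comm₁₂ := by simp [S₂]
      comm₂₃ := by simp [S₂] }
  haveI : Epi φ.τ₁ := inferInstanceAs (Epi (𝟙 _))
  haveI : IsIso φ.τ₂ := inferInstanceAs (IsIso (𝟙 _))
  haveI : Mono φ.τ₃ := inferInstanceAs (Mono (kernel.ι (d (m + 2))))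
  exact (ShortComplex.exact_iff_of_epi_of_isIso_of_mono φ).mpr hS₂

/-- the short complex `0 → C 0 → C 1 → Z 1 → 0` -/
noncomputable abbrev SA : ShortComplex X.Modules :=
  ShortComplex.mk (d 0) (π C d hd 1) (by
    rw [← cancel_mono (kernel.ι (d 2)), Category.assoc, kernel.lift_ι, hd 0, zero_comp])

include hex in
theorem SA_shortExact [Mono (d 0)] : (SA C d hd).ShortExact := by
  haveI : Mono (SA C d hd).f := inferInstanceAs (Mono (d 0))
  haveI : Epi (SA C d hd).g := epi_π C d hd hex 1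
  refine { exact := ?_ }
  let φ : SA C d hd ⟶ ShortComplex.mk (d 0) (d 1) (hd 0) :=
    { τ₁ := 𝟙 _
      τ₂ := 𝟙 _
      τ₃ := kernel.ι (d 2)
      comm₁₂ := by simp
      comm₂₃ := by simp }
  haveI : Epi φ.τ₁ := inferInstanceAs (Epi (𝟙 _))
  haveI : IsIso φ.τ₂ := inferInstanceAs (IsIso (𝟙 _))
  haveI : Mono φ.τ₃ := inferInstanceAs (Mono (kernel.ι (d 2)))
  exact (ShortComplex.exact_iff_of_epi_of_isIso_of_mono φ).mpr (hex 0)

end Chain

section Bound

variable (k : Type u) [Field k] (X : Scheme.{u}) [X.Over (Spec (CommRingCat.of k))]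
  [IsProper (X ↘ (Spec (CommRingCat.of k)))]
  (C : ℕ → X.Modules) (hC : ∀ j, Coh.IsCoh (C j)) (d : ∀ j, C j ⟶ C (j + 1))
  (hd : ∀ j, d j ≫ d (j + 1) = 0)
  (hex : ∀ j, (ShortComplex.mk (d j) (d (j + 1)) (hd j)).Exact)

/-- `dim H^p(C j)` -/
noncomputable def cc (j p : ℕ) : ℕ := Module.finrank k (Coh.HH X (C j) p)

/-- `dim H^p(Z m)` -/
noncomputable def zz (m p : ℕ) : ℕ := Module.finrank k (Coh.HH X (Z C d m) p)

include hC hex in
theorem zz_le (p : ℕ) : ∀ m, zz k X C d m p ≤ ∑ t ∈ Finset.range (p + 1), cc k X C (m + 1 + t) (p - t) := by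
  haveI : IsLocallyNoetherian X := (Euler.isNoetherian_of_proper k X).toIsLocallyNoetherian
  induction p with
  | zero =>
    intro m
    rw [Finset.sum_range_one]
    exact finrank_X₁_zero_le k X (SB C d hd m) (SB_shortExact C d hd hex m)
      (isCoh_Z C hC d m) (hC (m + 1)) (isCoh_Z C hC d (m + 1))
  | succ p ih =>
    intro m
    have h1 : zz k X C d m (p + 1) ≤ zz k X C d (m + 1) p + cc k X C (m + 1) (p + 1) :=
      finrank_X₁_succ_le k X (SB C d hd m) (SB_shortExact C d hd hex m)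
        (isCoh_Z C hC d m) (hC (m + 1)) (isCoh_Z C hC d (m + 1)) p
    have h2 := ih (m + 1)
    rw [Finset.sum_range_succ']
    have h3 : ∑ t ∈ Finset.range (p + 1), cc k X C (m + 1 + (t + 1)) (p + 1 - (t + 1)) =
        ∑ t ∈ Finset.range (p + 1), cc k X C (m + 1 + 1 + t) (p - t) := by
      refine Finset.sum_congr rfl fun t _ => ?_
      congr 1 <;> omega
    rw [h3]
    have h4 : cc k X C (m + 1 + 0) (p + 1 - 0) = cc k X C (m + 1) (p + 1) := rfl
    rw [h4]
    omega

include hC hex in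
theorem main [Mono (d 0)] (i : ℕ) :
    |(Module.finrank k (Coh.HH X (C 0) i) : ℤ) - (Module.finrank k (Coh.HH X (C 1) i) : ℤ)| ≤
      (Finset.Icc 1 (i + 1)).sum (fun j => ((Module.finrank k (Coh.HH X (C (j + 1)) (i + 1 - j))) : ℤ)) +
        (Finset.Icc 1 i).sum (fun j => ((Module.finrank k (Coh.HH X (C (j + 1)) (i - j))) : ℤ)) := by
  haveI : IsLocallyNoetherian X := (Euler.isNoetherian_of_proper k X).toIsLocallyNoetherian
  have hSA := SA_shortExact C d hd hex
  have hZ1 := isCoh_Z C hC d 1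
  -- the two sums
  have hs1 : (Finset.Icc 1 (i + 1)).sum (fun j => ((Module.finrank k (Coh.HH X (C (j + 1)) (i + 1 - j))) : ℤ)) =
      ((∑ t ∈ Finset.range (i + 1), cc k X C (1 + 1 + t) (i - t) : ℕ) : ℤ) := by
    rw [Nat.cast_sum]
    have : Finset.Icc 1 (i + 1) = Finset.Ico 1 (i + 2) := by
      ext x; simp only [Finset.mem_Icc, Finset.mem_Ico]; omega
    rw [this, Finset.sum_Ico_eq_sum_range]
    refine Finset.sum_congr (by congr 1) fun t _ => ?_
    change ((cc k X C (1 + t + 1) (i + 1 - (1 + t)) : ℕ) : ℤ) = _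
    congr 2 <;> omega
  have hs2 : ∀ i' : ℕ, i = i' + 1 →
      (Finset.Icc 1 i).sum (fun j => ((Module.finrank k (Coh.HH X (C (j + 1)) (i - j))) : ℤ)) =
      ((∑ t ∈ Finset.range (i' + 1), cc k X C (1 + 1 + t) (i' - t) : ℕ) : ℤ) := by
    intro i' hi
    subst hi
    rw [Nat.cast_sum]
    have : Finset.Icc 1 (i' + 1) = Finset.Ico 1 (i' + 2) := by
      ext x; simp only [Finset.mem_Icc, Finset.mem_Ico]; omega
    rw [this, Finset.sum_Ico_eq_sum_range]
    refine Finset.sum_congr (by congr 1) fun t _ => ?_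
    change ((cc k X C (1 + t + 1) (i' + 1 - (1 + t)) : ℕ) : ℤ) = _
    congr 2 <;> omega
  have hz1 := zz_le k X C hC d hd hex i 1
  have hB : cc k X C 1 i ≤ cc k X C 0 i + zz k X C d 1 i :=
    finrank_X₂_le k X (SA C d hd) hSA (hC 0) (hC 1) hZ1 i
  change |((cc k X C 0 i : ℕ) : ℤ) - ((cc k X C 1 i : ℕ) : ℤ)| ≤ _
  rw [hs1]
  cases i with
  | zero =>
    have hA : cc k X C 0 0 ≤ cc k X C 1 0 :=
      finrank_X₁_zero_le k X (SA C d hd) hSA (hC 0) (hC 1) hZ1
    have h0 : (Finset.Icc 1 0).sum (fun j => ((Module.finrank k (Coh.HH X (C (j + 1)) (0 - j))) : ℤ)) = 0 := by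
      rw [Finset.Icc_eq_empty (by norm_num), Finset.sum_empty]
    rw [h0, add_zero, abs_le]
    constructor <;> omega
  | succ i' =>
    have hA : cc k X C 0 (i' + 1) ≤ zz k X C d 1 i' + cc k X C 1 (i' + 1) :=
      finrank_X₁_succ_le k X (SA C d hd) hSA (hC 0) (hC 1) hZ1 i'
    have hz2 := zz_le k X C hC d hd hex i' 1
    rw [hs2 i' rfl, abs_le]
    constructor <;> omega

end Bound

end Groth.Agent.Helper1.LesBound
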