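import Mathlib
import Groth.Agent.Lib.Helper1.CurveLin1
import Groth.Agent.Lib.Helper1.TwistAmpleOpen
import Groth.Agent.Lib.Helper1.LesBound1

/-!
# Linear series on a proper curve: `r ≤ d`, with equality only in genus zero (helper1)
-/

set_option autoImplicit false
universe u
open CategoryTheory CategoryTheory.Limits AlgebraicGeometry TopologicalSpace Opposite

namespace Groth.Agent.Helper1.CurveLin

open Groth.Agent.Helper1.QcCech Groth.Agent.Helper1.SubSh Groth.Agent.Helper1.LGen
open Groth.Agent.Helper1.TmulLib Groth.Agent.Helper1 Groth.Agent.Helper1.TwForm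
open Groth.Agent.Helper1.TensGen Groth.Agent.Lib.Helper4.TwExact Groth.Agent.Helper1.Dv
open Groth.Agent.Lib.Helper4 Groth.Agent.Helper1.CurveAmp Groth.Agent.Helper1.FinSupp
open Groth.Agent.Helper1.Euler Groth.Agent.Helper1.Curve

section LinAlg

variable {k A B C : Type*} [Field k] [AddCommGroup A] [AddCommGroup B] [AddCommGroup C]
  [Module k A] [Module k B] [Module k C]
  [FiniteDimensional k A] [FiniteDimensional k B] [FiniteDimensional k C]

theorem surjective_of_finrank (f : A →ₗ[k] B) (g : B →ₗ[k] C)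
    (hex : ∀ x, g x = 0 → ∃ y, f y = x)
    (h : Module.finrank k B = Module.finrank k A + Module.finrank k C) :
    Function.Surjective g := by
  have h1 := LinearMap.finrank_range_add_finrank_ker g
  have h3 : Module.finrank k (LinearMap.ker g) ≤ Module.finrank k (LinearMap.range f) := by
    apply Submodule.finrank_mono
    intro x hx
    exact hex x hx
  have h4 : Module.finrank k (LinearMap.range f) ≤ Module.finrank k A :=
    LinearMap.finrank_range_le f
  have h2 : Module.finrank k (LinearMap.range g) ≤ Module.finrank k C := Submodule.finrank_le _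
  have h5 : Module.finrank k (LinearMap.range g) = Module.finrank k C := by omega
  rw [← LinearMap.range_eq_top]
  exact Submodule.eq_top_of_finrank_eq h5

end LinAlg

section General

variable {X : Scheme.{u}}

theorem one_ne_zero_sections (V : X.Opens) (x : X) (hx : x ∈ V) : (1 : Γ(X, V)) ≠ 0 := by
  intro h
  have h1 := congrArg (X.presheaf.germ V x hx) h
  rw [map_one, map_zero] at h1
  exact one_ne_zero h1

/-- isomorphisms preserve generators -/
theorem IsGen.of_iso {M N : X.Modules} (e : M ≅ N) {V : X.Opens} {b : Γ(M, V)}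
    (hb : IsGen M V b) : IsGen N V (e.hom.app V b) := by
  intro V' hV'
  have h1 := hb V' hV'
  have hiso : IsIso (e.hom.app V') := by
    have : IsIso e.hom := inferInstance
    rw [Scheme.Modules.Hom.isIso_iff_isIso_app] at this
    exact this V'
  have h2 : Function.Bijective (e.hom.app V') := (ConcreteCategory.isIso_iff_bijective _).1 hiso
  have : (fun r : Γ(X, V') => r • res N hV' (e.hom.app V b)) =
      (e.hom.app V') ∘ (fun r : Γ(X, V') => r • res M hV' b) := by
    funext r
    change _ = e.hom.app V' (r • res M hV' b)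
    rw [← QcExt.app_res]
    exact (Scheme.Modules.Hom.app_smul e.hom r (res M hV' b)).symm
  rw [this]
  exact h2.comp h1

theorem genAt_of_iso {M N : X.Modules} (e : M ≅ N) (s : Γ(M, ⊤)) (x : X) (h : GenAt M s x) :
    GenAt N (e.hom.app ⊤ s) x := by
  obtain ⟨V, hxV, hV⟩ := h
  refine ⟨V, hxV, ?_⟩
  rw [← QcExt.app_res]
  exact IsGen.of_iso e hV

/-- multiplication by a nonzero section is nonzero on invertible modules over an integral scheme -/
theorem mulΓ_ne_zero [IsIntegral X] {F L : X.Modules} (hF : PicF.IsInvertible F)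
    (hL : PicF.IsInvertible L) (σ : Γ(L, ⊤)) (hσ : σ ≠ 0) : mulΓ F L σ ≠ 0 := by
  intro h
  obtain ⟨V, hηV, hV⟩ := exists_isGen_genericPoint hL σ hσ
  obtain ⟨W, b, hηW, hb⟩ := exists_isGen hF (genericPoint X)
  have hV' : IsGen L (V ⊓ W) (res L (le_top : V ⊓ W ≤ ⊤) σ) := by
    have := hV.res (inf_le_left : V ⊓ W ≤ V)
    rwa [res_res] at this
  have hbij := mulΓ_app_bijective F L σ hV'
  have hb' : IsGen F (V ⊓ W) (res F (inf_le_right : V ⊓ W ≤ W) b) := hb.res _
  have h1 : (mulΓ F L σ).app (V ⊓ W) (res F (inf_le_right : V ⊓ W ≤ W) b) =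
      (mulΓ F L σ).app (V ⊓ W) 0 := by
    rw [h]
    rfl
  have h2 := hbij.1 h1
  have h3 : (1 : Γ(X, V ⊓ W)) • res F (inf_le_right : V ⊓ W ≤ W) b =
      (0 : Γ(X, V ⊓ W)) • res F (inf_le_right : V ⊓ W ≤ W) b := by
    rw [one_smul, zero_smul, h2]
  exact one_ne_zero_sections (V ⊓ W) (genericPoint X) ⟨hηV, hηW⟩ ((IsGen.bijective_self hb').1 h3)

variable (A : Type u) [CommRing A] [X.Over (Spec (CommRingCat.of A))]

theorem equiv_HHlin {M N : X.Modules} (φ : M ⟶ N) (x : Coh.HH X M 0) :
    HH0.equiv X N (Canon.HHlin A φ 0 x) = φ.app ⊤ (HH0.equiv X M x) := by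
  have h := Sheaf.H.equiv₀_naturality (Limits.isTerminalTop (α := Opens X))
    ((SheafOfModules.toSheaf X.ringCatSheaf).map φ) x
  exact h.symm

theorem HHlin_one_injective {S : ShortComplex X.Modules} (hS : S.ShortExact)
    (h : Function.Surjective (S.g.app ⊤)) : Function.Injective (Canon.HHlin A S.f 1) := by
  rw [injective_iff_map_eq_zero]
  intro x hx
  obtain ⟨y, rfl⟩ := HHFin3.exact_delta_f A hS 0 x hx
  obtain ⟨w, hw⟩ := h (HH0.equiv X S.X₃ y)
  have hy : y = Canon.HHlin A S.g 0 ((HH0.equiv X S.X₂).symm w) := by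
    apply (HH0.equiv X S.X₃).injective
    rw [equiv_HHlin, AddEquiv.apply_symm_apply, hw]
  rw [hy]
  exact HHFin2.delta_g A hS 0 _

end General


section Support

variable {X : Scheme.{u}}

theorem isClosed_singleton_of_mem_support (Q : X.Modules) (hQ : Coh.IsCoh Q)
    (hQd : topologicalKrullDim ↥(CohB1.support Q) ≤ 0) (z : X) (hz : z ∈ CohB1.support Q) :
    IsClosed ({z} : Set X) := by
  have hZcl : IsClosed (CohB1.support Q) := FtGen.isClosed_support _ hQ.2
  rw [← closure_subset_iff_isClosed]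
  intro w hw
  have hwZ : w ∈ CohB1.support Q :=
    (closure_minimal (Set.singleton_subset_iff.2 hz) hZcl) hw
  have hzw : z ⤳ w := specializes_iff_mem_closure.2 hw
  have := eq_of_specializes_of_dim_le_zero _ hZcl hQd w z hwZ hz hzw
  rw [this]
  exact Set.mem_singleton w

theorem finite_support [IsNoetherian X] (Q : X.Modules) (hQ : Coh.IsCoh Q)
    (hQd : topologicalKrullDim ↥(CohB1.support Q) ≤ 0) : (CohB1.support Q).Finite :=
  GV1.finite_of_forall_isClosed_singleton _ (FtGen.isClosed_support _ hQ.2)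
    (isClosed_singleton_of_mem_support Q hQ hQd)

/-- a global section of `L` generating at all the zeros of `σ` -/
theorem exists_genAt_section {L : X.Modules} (hL : PicF.IsInvertible L) (σ : Γ(L, ⊤))
    (hZf : (CohB1.support (cokernel (mulΓ (Coh.structureModule X) L σ))).Finite)
    (hZc : ∀ z ∈ CohB1.support (cokernel (mulΓ (Coh.structureModule X) L σ)),
      IsClosed ({z} : Set X))
    (hsurj0 : Function.Surjective ((cokernel.π (mulΓ (Coh.structureModule X) L σ)).app ⊤)) :
    ∃ t : Γ(L, ⊤), ∀ z ∈ CohB1.support (cokernel (mulΓ (Coh.structureModule X) L σ)),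
      GenAt L t z := by
  obtain ⟨e⟩ := TwistAmpleOpen.nonempty_tensorMod_unit_iso L
  have hgen : ∀ z : CohB1.support (cokernel (mulΓ (Coh.structureModule X) L σ)),
      ∃ (W : X.Opens) (a : Γ(L, W)), z.1 ∈ W ∧ IsGen L W a := fun z => exists_isGen hL z.1
  choose W a hzW ha using hgen
  obtain ⟨g, hg⟩ := exists_section_of_germs (cokernel (mulΓ (Coh.structureModule X) L σ))
    _ hZf hZc (fun x hx => not_not.1 hx)
    (fun z => stalkL (cokernel.π (mulΓ (Coh.structureModule X) L σ)) z.1
      ((CohB1.tensorMod (Coh.structureModule X) L).presheaf.germ (W z) z.1 (hzW z)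
        (tm (Coh.structureModule X) L (W z) (one' (W z)) (a z))))
  obtain ⟨t', ht'⟩ := hsurj0 g
  refine ⟨e.hom.app ⊤ t', fun z hz => genAt_of_iso e t' z ?_⟩
  refine genAt_of_germ_eq σ t' z
    (fun hgz => notMem_support_cokernel_of_genAt (Coh.structureModule X) L σ z hgz hz)
    (W ⟨z, hz⟩) (hzW ⟨z, hz⟩) (a ⟨z, hz⟩) (ha ⟨z, hz⟩) ?_
  rw [stalkL_germ, ht']
  exact hg ⟨z, hz⟩

end Support

section Curve

variable (k : Type u) [Field k] (X : Scheme.{u}) [X.Over (Spec (CommRingCat.of k))]
  [IsIntegral X] [IsProper (X ↘ (Spec (CommRingCat.of k)))]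

omit [IsIntegral X] [IsProper (X ↘ (Spec (CommRingCat.of k)))] in
/-- the short exact sequence of multiplication by a nonzero section -/
theorem shortExact_mulΓ [IsIntegral X] [IsProper (X ↘ (Spec (CommRingCat.of k)))] (hdim : topologicalKrullDim X = 1) {F L : X.Modules}
    (hF : PicF.IsInvertible F) (hL : PicF.IsInvertible L) (σ : Γ(L, ⊤)) (hσ : σ ≠ 0) :
    (ShortComplex.mk (mulΓ F L σ) (cokernel.π (mulΓ F L σ))
      (cokernel.condition (mulΓ F L σ))).ShortExact := by
  obtain ⟨hmono, -, -, -⟩ := cokernel_package k X hdim hF (isInvertible_tensorMod hF hL)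
    (mulΓ F L σ) (mulΓ_ne_zero hF hL σ hσ)
  let S : ShortComplex X.Modules := ShortComplex.mk (mulΓ F L σ) (cokernel.π (mulΓ F L σ))
    (cokernel.condition (mulΓ F L σ))
  have hS : S.Exact := ShortComplex.exact_cokernel (mulΓ F L σ)
  haveI : Mono S.f := hmono
  haveI : Epi S.g := inferInstanceAs (Epi (cokernel.π (mulΓ F L σ)))
  exact { exact := hS }

omit [IsIntegral X] in
theorem surjective_HHlin_g_zero (S : ShortComplex X.Modules) (hS : S.ShortExact)
    (h₁ : Coh.IsCoh S.X₁) (h₂ : Coh.IsCoh S.X₂) (h₃ : Coh.IsCoh S.X₃)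
    (h : Module.finrank k (Coh.HH X S.X₂ 0) =
      Module.finrank k (Coh.HH X S.X₁ 0) + Module.finrank k (Coh.HH X S.X₃ 0)) :
    Function.Surjective (Canon.HHlin k S.g 0) := by
  haveI : ∀ i, FiniteDimensional k (Coh.HH X S.X₁ i) := fun i => T2Main1.t2 k X S.X₁ h₁ i
  haveI : ∀ i, FiniteDimensional k (Coh.HH X S.X₂ i) := fun i => T2Main1.t2 k X S.X₂ h₂ i
  haveI : ∀ i, FiniteDimensional k (Coh.HH X S.X₃ i) := fun i => T2Main1.t2 k X S.X₃ h₃ i
  exact surjective_of_finrank (Canon.HHlin k S.f 0) (Canon.HHlin k S.g 0)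
    (fun y hy => HHFin2.exact_f_g k hS 0 y hy) h

omit [IsIntegral X] [IsProper (X ↘ (Spec (CommRingCat.of k)))] in
theorem app_top_surjective_of_HHlin {M N : X.Modules} (φ : M ⟶ N)
    (h : Function.Surjective (Canon.HHlin k φ 0)) : Function.Surjective (φ.app ⊤) := by
  intro q
  obtain ⟨w, hw⟩ := h ((HH0.equiv X N).symm q)
  refine ⟨HH0.equiv X M w, ?_⟩
  rw [← equiv_HHlin k, hw, AddEquiv.apply_symm_apply]

end Curve

end Groth.Agent.Helper1.CurveLin
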