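import Mathlib
import Groth.Agent.Lib.Helper1.CurveLin2

/-!
# A duality-free bound: `H¹(G ⊗ M) ≠ 0 ⇒ h⁰(M) ≤ h¹(G)` on a proper integral curve (helper1)
-/

set_option autoImplicit false
universe u
open CategoryTheory CategoryTheory.Limits AlgebraicGeometry TopologicalSpace Opposite

namespace Groth.Agent.Helper1.CurveDual

open Groth.Agent.Helper1.QcCech Groth.Agent.Helper1.SubSh Groth.Agent.Helper1.LGen
open Groth.Agent.Helper1.TmulLib Groth.Agent.Helper1 Groth.Agent.Helper1.TwForm
open Groth.Agent.Helper1.TensGen Groth.Agent.Lib.Helper4.TwExact Groth.Agent.Helper1.Dv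
open Groth.Agent.Lib.Helper4 Groth.Agent.Helper1.CurveAmp Groth.Agent.Helper1.FinSupp
open Groth.Agent.Helper1.Euler Groth.Agent.Helper1.Curve Groth.Agent.Helper1.CurveLin

variable (k : Type u) [Field k] (X : Scheme.{u}) [X.Over (Spec (CommRingCat.of k))]
  [IsIntegral X] [IsProper (X ↘ (Spec (CommRingCat.of k)))]

/-- if `H¹(G ⊗ M) ≠ 0` then the sections of `M` embed into the dual of `H¹(G)` -/
theorem h0_le_h1_of_nontrivial (hdim : topologicalKrullDim X = 1) (G M : X.Modules)
    (hG : Coh.IsCoh G) (hM : PicF.IsInvertible M)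
    (h : Nontrivial (Coh.HH X (CohB1.tensorMod G M) 1)) :
    Module.finrank k (Coh.HH X M 0) ≤ Module.finrank k (Coh.HH X G 1) := by
  have hMc := InvQc.isCoh_of_isInvertible _ hM
  haveI : FiniteDimensional k (Coh.HH X M 0) := T2Main1.t2 k X M hMc 0
  haveI : FiniteDimensional k (Coh.HH X G 1) := T2Main1.t2 k X G hG 1
  obtain ⟨w, hw⟩ := exists_ne (0 : Coh.HH X (CohB1.tensorMod G M) 1)
  haveI : Module.Free k (Coh.HH X (CohB1.tensorMod G M) 1) := Module.Free.of_divisionRing k _
  haveI : Module.Projective k (Coh.HH X (CohB1.tensorMod G M) 1) := Module.Projective.of_free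
  obtain ⟨ℓ, hℓ⟩ := Module.Projective.exists_dual_ne_zero k hw
  let Φ : Coh.HH X M 0 →ₗ[k] Module.Dual k (Coh.HH X G 1) :=
    LinearMap.mk₂ k (fun x v => ℓ (mulH k G M 1 v x))
      (fun x x' v => by rw [map_add, map_add])
      (fun c x v => by rw [map_smul, map_smul])
      (fun x v v' => by rw [mulH_apply, mulH_apply, mulH_apply, map_add, map_add])
      (fun c x v => by rw [mulH_apply, mulH_apply, map_smul, map_smul])
  have hinj : Function.Injective Φ := by
    rw [injective_iff_map_eq_zero]
    intro x hx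
    by_contra hx0
    have hσ : HH0.equiv X M x ≠ 0 := fun h0 =>
      hx0 ((HH0.equiv X M).injective (h0.trans (map_zero _).symm))
    have hsurj := surjective_HHlin_mulΓ X k hdim G M hG hM _ hσ
    obtain ⟨v, hv⟩ := hsurj w
    have h1 : Φ x v = 0 := by rw [hx]; rfl
    apply hℓ
    rw [← hv]
    exact h1
  calc Module.finrank k (Coh.HH X M 0)
      ≤ Module.finrank k (Module.Dual k (Coh.HH X G 1)) :=
        LinearMap.finrank_le_finrank_of_injective hinj
    _ = Module.finrank k (Coh.HH X G 1) := Subspace.dual_finrank_eq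

/-- S11823-type: more than `g` sections forces `H¹ = 0` -/
theorem subsingleton_H1_of_genus_lt_h0 (hdim : topologicalKrullDim X = 1)
    (L : X.Modules) (hL : PicF.IsInvertible L)
    (h0 : Curv2.genus k X < Module.finrank k (Coh.HH X L 0)) :
    Subsingleton (Coh.HH X L 1) := by
  by_contra hns
  rw [not_subsingleton_iff_nontrivial] at hns
  obtain ⟨e⟩ := TwistAmpleOpen.nonempty_tensorMod_unit_iso L
  have hOc : Coh.IsCoh (Coh.structureModule X) :=
    InvQc.isCoh_of_isInvertible _ GenLoc.isInvertible_O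
  have hnt : Nontrivial (Coh.HH X (CohB1.tensorMod (Coh.structureModule X) L) 1) :=
    (HHFin1.HHequiv k e 1).symm.injective.nontrivial
  have := h0_le_h1_of_nontrivial k X hdim (Coh.structureModule X) L hOc hL hnt
  unfold Curv2.genus at h0
  omega

/-- S1522-type: degree at least `2g - 1` forces `H¹ = 0` -/
theorem subsingleton_H1_of_deg_ge (hdim : topologicalKrullDim X = 1)
    (L : X.Modules) (hL : PicF.IsInvertible L)
    (hdeg : 2 * (Curv2.genus k X : ℤ) - 1 ≤ Curv2.deg k X L 1) :
    Subsingleton (Coh.HH X L 1) := by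
  by_contra hns
  rw [not_subsingleton_iff_nontrivial] at hns
  have hOc : Coh.IsCoh (Coh.structureModule X) :=
    InvQc.isCoh_of_isInvertible _ GenLoc.isInvertible_O
  have hLc : Coh.IsCoh L := InvQc.isCoh_of_isInvertible _ hL
  haveI : FiniteDimensional k (Coh.HH X L 1) := T2Main1.t2 k X L hLc 1
  haveI : FiniteDimensional k (Coh.HH X (Coh.structureModule X) 0) := T2Main1.t2 k X _ hOc 0
  have hle : Module.finrank k (Coh.HH X L 0) ≤ Curv2.genus k X := by
    by_contra hlt
    exact (not_subsingleton_iff_nontrivial.2 hns)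
      (subsingleton_H1_of_genus_lt_h0 k X hdim L hL (by omega))
  have hRR := euler_eq_h0_sub_h1 k X hdim.le L hLc.1
  have hRRO := euler_eq_h0_sub_h1 k X hdim.le (Coh.structureModule X) hOc.1
  have h1pos : 0 < Module.finrank k (Coh.HH X L 1) := Module.finrank_pos
  haveI : Nontrivial (Coh.HH X (Coh.structureModule X) 0) := by
    refine ⟨(HH0.equiv X (Coh.structureModule X)).symm (one' ⊤), 0, fun h => ?_⟩
    have h2 := congrArg (HH0.equiv X (Coh.structureModule X)) h
    rw [AddEquiv.apply_symm_apply, map_zero] at h2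
    exact one_ne_zero_sections (⊤ : X.Opens) (genericPoint X) trivial h2
  have h0pos : 0 < Module.finrank k (Coh.HH X (Coh.structureModule X) 0) := Module.finrank_pos
  unfold Curv2.deg at hdeg
  unfold Curv2.genus at hdeg hle hRRO
  push_cast at hdeg
  omega

end Groth.Agent.Helper1.CurveDual
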