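import Mathlib

/-!
# Pure ideals, closed generalization-stable subsets, finite flat ⟹ projective
-/

universe u

namespace Groth.Agent.Helper1.PureId

open PrimeSpectrum

section A

variable {R : Type*} [CommRing R]

/-- (5) ⟹ pure -/
theorem pure_of_forall_exists_eq_mul (I : Ideal R) (h : ∀ x ∈ I, ∃ y ∈ I, x = x * y) :
    I.Pure := by
  apply Ideal.Pure.of_inf_eq_mul
  intro J _
  apply le_antisymm
  · rintro x ⟨hxI, hxJ⟩
    obtain ⟨y, hy, hxy⟩ := h x hxI
    rw [hxy, mul_comm x y]
    exact Ideal.mul_mem_mul hy hxJ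
  · exact Ideal.mul_le_inf

theorem stableUnderGeneralization_of_pure (I : Ideal R) (hI : I.Pure) :
    StableUnderGeneralization (zeroLocus (I : Set R)) := by
  intro p q hqp hp
  rw [← le_iff_specializes] at hqp
  rw [mem_zeroLocus] at hp ⊢
  intro x hx
  have := hI
  obtain ⟨y, hy, hxy⟩ := Ideal.exists_eq_mul_of_pure hx
  have h1 : x * (1 - y) = 0 := by rw [mul_sub, mul_one, ← hxy, sub_self]
  have h2 : (1 - y) ∉ q.asIdeal := by
    intro h
    have h3 : (1 - y) ∈ p.asIdeal := hqp h
    have hy' : y ∈ p.asIdeal := hp hy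
    exact p.2.one_notMem (by simpa using Ideal.add_mem _ h3 hy')
  have h3 : x * (1 - y) ∈ q.asIdeal := by rw [h1]; exact zero_mem _
  exact (q.2.mem_or_mem h3).resolve_right h2

/-- the ideal `{x | ∃ f ∈ J, x = x * f}` -/
def pureCore (J : Ideal R) : Ideal R where
  carrier := {x | ∃ f ∈ J, x = x * f}
  add_mem' := by
    rintro x y ⟨f, hf, hxf⟩ ⟨g, hg, hyg⟩
    refine ⟨f + g - f * g, ?_, ?_⟩
    · exact J.sub_mem (J.add_mem hf hg) (J.mul_mem_left _ hg)
    · linear_combination (1 - g) * hxf + (1 - f) * hyg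
  zero_mem' := ⟨0, J.zero_mem, by simp⟩
  smul_mem' := by
    rintro c x ⟨f, hf, hxf⟩
    refine ⟨f, hf, ?_⟩
    simp only [smul_eq_mul]
    linear_combination c * hxf

theorem mem_pureCore {J : Ideal R} {x : R} : x ∈ pureCore J ↔ ∃ f ∈ J, x = x * f := Iff.rfl

theorem zeroLocus_pureCore (J : Ideal R)
    (hZ : StableUnderGeneralization (zeroLocus (J : Set R))) :
    zeroLocus (pureCore J : Set R) = zeroLocus (J : Set R) := by
  apply Set.Subset.antisymm
  · intro p hp
    by_contra hpJ
    let T : Submonoid R :=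
      { carrier := {t | ∃ g ∈ J, ∃ x, x ∉ p.asIdeal ∧ t = (1 + g) * x}
        one_mem' := ⟨0, J.zero_mem, 1, p.2.one_notMem, by simp⟩
        mul_mem' := by
          rintro a b ⟨g, hg, x, hx, rfl⟩ ⟨g', hg', x', hx', rfl⟩
          refine ⟨g + g' + g * g', J.add_mem (J.add_mem hg hg') (J.mul_mem_left _ hg'),
            x * x', ?_, by ring⟩
          intro h
          rcases p.2.mem_or_mem h with h | h
          · exact hx h
          · exact hx' h }
    have hdis : Disjoint ((⊥ : Ideal R) : Set R) (T : Set R) := by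
      rw [Set.disjoint_left]
      rintro t ht ⟨g, hg, x, hx, rfl⟩
      have h0 : (1 + g) * x = 0 := by simpa using ht
      have hxI : x ∈ pureCore J := ⟨-g, J.neg_mem hg, by linear_combination h0⟩
      exact hx ((mem_zeroLocus _ _).mp hp hxI)
    obtain ⟨q, hq, -, hqT⟩ := Ideal.exists_le_prime_disjoint (⊥ : Ideal R) T hdis
    have hqp : q ≤ p.asIdeal := by
      intro x hx
      by_contra hxp
      exact Set.disjoint_left.mp hqT hx ⟨0, J.zero_mem, x, hxp, by simp⟩
    have hqJ : q ⊔ J ≠ ⊤ := by
      intro h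
      have h1 : (1 : R) ∈ q ⊔ J := by rw [h]; trivial
      obtain ⟨a, ha, b, hb, hab⟩ := Submodule.mem_sup.mp h1
      exact Set.disjoint_left.mp hqT ha
        ⟨-b, J.neg_mem hb, 1, p.2.one_notMem, by linear_combination hab⟩
    obtain ⟨m, hm, hle⟩ := Ideal.exists_le_maximal _ hqJ
    let mP : PrimeSpectrum R := ⟨m, hm.isPrime⟩
    let qP : PrimeSpectrum R := ⟨q, hq⟩
    have hmZ : mP ∈ zeroLocus (J : Set R) := by
      rw [mem_zeroLocus]; exact fun x hx => hle (Ideal.mem_sup_right hx)
    have hqm : qP ⤳ mP :=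
      (le_iff_specializes qP mP).mp (fun x hx => hle (Ideal.mem_sup_left hx))
    have hqZ : qP ∈ zeroLocus (J : Set R) := hZ hqm hmZ
    apply hpJ
    rw [mem_zeroLocus] at hqZ ⊢
    exact fun x hx => hqp (hqZ hx)
  · apply zeroLocus_anti_mono
    rintro x ⟨f, hf, hxf⟩
    show x ∈ J
    rw [hxf]; exact J.mul_mem_left _ hf

theorem pure_pureCore (J : Ideal R)
    (hZ : StableUnderGeneralization (zeroLocus (J : Set R))) : (pureCore J).Pure := by
  apply pure_of_forall_exists_eq_mul
  rintro x ⟨f, hf, hxf⟩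
  set A : Ideal R := LinearMap.ker (LinearMap.toSpanSingleton R R x) with hA
  have hA' : ∀ a, a ∈ A ↔ a * x = 0 := fun a => by
    simp [hA, LinearMap.mem_ker, LinearMap.toSpanSingleton_apply]
  have htop : A ⊔ pureCore J = ⊤ := by
    by_contra hne
    obtain ⟨m, hm, hle⟩ := Ideal.exists_le_maximal _ hne
    let mP : PrimeSpectrum R := ⟨m, hm.isPrime⟩
    have h1 : mP ∈ zeroLocus (pureCore J : Set R) := by
      rw [mem_zeroLocus]; exact fun y hy => hle (Ideal.mem_sup_right hy)
    rw [zeroLocus_pureCore J hZ, mem_zeroLocus] at h1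
    have hfm : f ∈ m := h1 hf
    have h1f : 1 - f ∈ m :=
      hle (Ideal.mem_sup_left ((hA' _).mpr (by linear_combination hxf)))
    exact hm.ne_top ((Ideal.eq_top_iff_one _).mpr (by simpa using m.add_mem h1f hfm))
  have h1 : (1 : R) ∈ A ⊔ pureCore J := by rw [htop]; trivial
  obtain ⟨a, ha, y, hy, hay⟩ := Submodule.mem_sup.mp h1
  refine ⟨y, hy, ?_⟩
  have h2 := (hA' a).mp ha
  linear_combination h2 - x * hay

theorem S6353 (R : Type u) [CommRing R] :
    (∀ I : Ideal R, I.Pure → StableUnderGeneralization (zeroLocus (I : Set R))) ∧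
      ∀ Z : Set (PrimeSpectrum R), IsClosed Z → StableUnderGeneralization Z →
        ∃ I : Ideal R, I.Pure ∧ zeroLocus (I : Set R) = Z := by
  refine ⟨fun I hI => stableUnderGeneralization_of_pure I hI, fun Z hZc hZg => ?_⟩
  obtain ⟨J, rfl⟩ := (isClosed_iff_zeroLocus_ideal Z).mp hZc
  exact ⟨pureCore J, pure_pureCore J hZg, zeroLocus_pureCore J hZg⟩

end A

section B

variable {R : Type*} [CommRing R]

theorem pure_span_idem {e : R} (he : IsIdempotentElem e) : (Ideal.span {e}).Pure := by
  have hfg : (Ideal.span {e}).FG := ⟨{e}, by simp⟩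
  exact Ideal.Pure.of_isIdempotentElem hfg
    ((Ideal.isIdempotentElem_iff_of_fg _ hfg).mpr ⟨e, he, rfl⟩)

theorem projective_quot_span_idem {e : R} (he : IsIdempotentElem e) :
    Module.Projective R (R ⧸ Ideal.span {e}) := by
  have hle : Ideal.span {e} ≤ LinearMap.ker (LinearMap.toSpanSingleton R R (1 - e)) := by
    rw [Ideal.span_le]
    rintro x rfl
    simp only [SetLike.mem_coe, LinearMap.mem_ker, LinearMap.toSpanSingleton_apply, smul_eq_mul]
    rw [mul_sub, mul_one, he.eq, sub_self]
  let i : (R ⧸ Ideal.span {e}) →ₗ[R] R :=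
    Submodule.liftQ (Ideal.span {e}) (LinearMap.toSpanSingleton R R (1 - e)) hle
  refine Module.Projective.of_split i (Submodule.mkQ (Ideal.span {e})) ?_
  apply LinearMap.ext
  intro y
  obtain ⟨x, rfl⟩ := Submodule.mkQ_surjective _ y
  simp only [LinearMap.comp_apply, LinearMap.id_apply, i, Submodule.mkQ_apply,
    Submodule.liftQ_apply, LinearMap.toSpanSingleton_apply, smul_eq_mul]
  rw [Submodule.Quotient.eq]
  have : x * (1 - e) - x = -x * e := by ring
  rw [this]
  exact Ideal.mul_mem_left _ _ (Ideal.subset_span rfl)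

theorem fg_of_projective_quot (I : Ideal R) (h : Module.Projective R (R ⧸ I)) : I.FG := by
  obtain ⟨σ, hσ⟩ := Module.projective_lifting_property (Submodule.mkQ I)
    (LinearMap.id : (R ⧸ I) →ₗ[R] (R ⧸ I)) (Submodule.mkQ_surjective I)
  let φ : R →ₗ[R] R := LinearMap.id - σ ∘ₗ Submodule.mkQ I
  have hI : (I : Submodule R R) = Submodule.map φ ⊤ := by
    apply le_antisymm
    · intro x hx
      refine ⟨x, trivial, ?_⟩
      have h0 : Submodule.mkQ I x = 0 := by
        rw [Submodule.mkQ_apply]; exact (Submodule.Quotient.mk_eq_zero I).mpr hx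
      simp only [φ, LinearMap.sub_apply, LinearMap.id_apply, LinearMap.comp_apply, h0, map_zero,
        sub_zero]
    · rintro _ ⟨x, -, rfl⟩
      have h1 : Submodule.mkQ I (φ x) = 0 := by
        simp only [φ, LinearMap.sub_apply, LinearMap.id_apply, LinearMap.comp_apply, map_sub]
        have := LinearMap.congr_fun hσ (Submodule.mkQ I x)
        simp only [LinearMap.comp_apply, LinearMap.id_apply] at this
        rw [this, sub_self]
      rw [Submodule.mkQ_apply] at h1
      exact (Submodule.Quotient.mk_eq_zero I).mp h1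
  show Submodule.FG (I : Submodule R R)
  rw [hI]
  exact Submodule.FG.map φ Module.Finite.fg_top

theorem S6354 (R : Type u) [CommRing R] (I : Ideal R) :
    List.TFAE [I.Pure ∧ I.FG, ∃ e : R, IsIdempotentElem e ∧ I = Ideal.span {e},
      I.Pure ∧ IsOpen (zeroLocus (I : Set R)), Module.Projective R (R ⧸ I)] := by
  tfae_have 1 → 2 := by
    rintro ⟨hp, hfg⟩
    have := hp
    exact (Ideal.isIdempotentElem_iff_of_fg I hfg).mp (Ideal.isIdempotentElem_of_pure I)
  tfae_have 2 → 3 := by
    rintro ⟨e, he, rfl⟩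
    refine ⟨pure_span_idem he, ?_⟩
    rw [zeroLocus_span]
    exact (isClopen_iff_zeroLocus.mpr ⟨e, he, rfl⟩).isOpen
  tfae_have 3 → 2 := by
    rintro ⟨hp, ho⟩
    obtain ⟨e, he, hZ⟩ := isClopen_iff_zeroLocus.mp ⟨isClosed_zeroLocus _, ho⟩
    refine ⟨e, he, ?_⟩
    have := hp
    have := pure_span_idem he
    apply Ideal.zeroLocus_inj_of_pure.mp
    rw [hZ, zeroLocus_span]
  tfae_have 2 → 4 := by
    rintro ⟨e, he, rfl⟩
    exact projective_quot_span_idem he
  tfae_have 4 → 1 := by
    intro h
    have := h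
    exact ⟨inferInstanceAs (Module.Flat R (R ⧸ I)), fg_of_projective_quot I h⟩
  tfae_finish

end B

section C

open Module

attribute [local instance] Module.free_of_flat_of_isLocalRing

theorem exists_surj_away {R : Type u} [CommRing R] (M : Type u) [AddCommGroup M] [Module R M]
    [Module.Finite R M] [Module.Flat R M] (p : Ideal R) [p.IsPrime] :
    ∃ a ∉ p, ∃ φ : (Fin (rankAtStalk M ⟨p, inferInstance⟩) →₀ R) →ₗ[R] M,
      Function.Surjective (LocalizedModule.map (Submonoid.powers a) φ) := by
  have : Nontrivial R := by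
    by_contra hn
    rw [not_nontrivial_iff_subsingleton] at hn
    exact Ideal.IsPrime.ne_top ‹_› (Subsingleton.elim _ _)
  let Rₚ := Localization.AtPrime p
  let n := rankAtStalk M ⟨p, inferInstance⟩
  let f : (Fin n →₀ R) →ₗ[R] Fin n →₀ Rₚ := Finsupp.mapRange.linearMap (Algebra.linearMap R Rₚ)
  let g : M →ₗ[R] LocalizedModule.AtPrime p M := LocalizedModule.mkLinearMap p.primeCompl M
  obtain ⟨φ, -, -, hφps⟩ := exists_localizedMap_surjective_of_surjective p.primeCompl f g
    ((finBasis Rₚ (LocalizedModule.AtPrime p M)).repr.restrictScalars R).symm.surjective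
  obtain ⟨a, hap, hφas⟩ := by
    refine exists_localizedMap_away_surjective_of_localizedMap_atPrime_surjective p φ ?_
    simpa [LocalizedModule.coe_map_eq f g]
  exact ⟨a, hap, φ, hφas⟩

theorem rank_le_of_surj {R : Type u} [CommRing R] (M : Type u) [AddCommGroup M] [Module R M]
    [Module.Finite R M] [Module.Flat R M] {n : ℕ} (φ : (Fin n →₀ R) →ₗ[R] M) (a : R)
    (hφ : Function.Surjective (LocalizedModule.map (Submonoid.powers a) φ))
    (q : PrimeSpectrum R) (haq : a ∉ q.asIdeal) : rankAtStalk M q ≤ n := by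
  have hs : Function.Surjective (LocalizedModule.map q.asIdeal.primeCompl φ) := by
    rw [LinearMap.localizedMap_surjective_iff_subsingleton_localized_coker] at hφ ⊢
    rw [LocalizedModule.subsingleton_iff] at hφ ⊢
    intro m
    obtain ⟨r, ⟨k, rfl⟩, hr⟩ := hφ m
    exact ⟨a ^ k, fun h => haq (q.2.mem_of_pow_mem _ h), hr⟩
  have h1 := LinearMap.finrank_le_finrank_of_surjective hs
  have h2 : Module.finrank (Localization.AtPrime q.asIdeal)
      (LocalizedModule q.asIdeal.primeCompl (Fin n →₀ R)) = Module.finrank R (Fin n →₀ R) :=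
    Module.finrank_of_isLocalizedModule_of_free (M := Fin n →₀ R)
      (Mₛ := LocalizedModule q.asIdeal.primeCompl (Fin n →₀ R)) (Localization.AtPrime q.asIdeal)
      q.asIdeal.primeCompl (LocalizedModule.mkLinearMap q.asIdeal.primeCompl (Fin n →₀ R))
  have : Nontrivial R := by
    by_contra hn
    rw [not_nontrivial_iff_subsingleton] at hn
    exact q.2.ne_top (Subsingleton.elim _ _)
  rw [h2, Module.finrank_finsupp_self, Fintype.card_fin] at h1
  exact h1

theorem exists_basicOpen_rank_const {R : Type u} [CommRing R]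
    (h1 : ∀ Z : Set (PrimeSpectrum R), IsClosed Z → StableUnderGeneralization Z → IsOpen Z)
    (M : Type u) [AddCommGroup M] [Module R M] [Module.Finite R M] [Module.Flat R M]
    (p : PrimeSpectrum R) :
    ∃ g ∉ p.asIdeal, ∀ q : PrimeSpectrum R, g ∉ q.asIdeal →
      rankAtStalk M q = rankAtStalk M p := by
  set n := rankAtStalk M p with hn
  let Z : Set (PrimeSpectrum R) := {q | n ≤ rankAtStalk M q}
  have hZc : IsClosed Z := by
    rw [← isOpen_compl_iff, isOpen_iff_forall_mem_open]
    intro q hq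
    obtain ⟨a, haq, φ, hφ⟩ := exists_surj_away M q.asIdeal
    refine ⟨basicOpen a, ?_, (basicOpen a).isOpen, haq⟩
    intro q' hq'
    have h2 := rank_le_of_surj M φ a hφ q' hq'
    simp only [Z, Set.mem_compl_iff, Set.mem_ofPred_eq, not_le] at hq ⊢
    exact lt_of_le_of_lt h2 hq
  have hZg : StableUnderGeneralization Z := by
    intro x y hyx hx
    have h2 := rankAtStalk_eq_of_le_of_finite_of_flat M ((le_iff_specializes y x).mpr hyx)
    simp only [Z, Set.mem_ofPred_eq] at hx ⊢
    rw [h2]; exact hx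
  have hZo := h1 Z hZc hZg
  have hpZ : p ∈ Z := by
    show n ≤ rankAtStalk M p
    exact le_of_eq hn
  obtain ⟨_, ⟨_, ⟨g, rfl⟩, rfl⟩, hpg, hgZ⟩ := isBasis_basic_opens.exists_subset_of_mem_open hpZ hZo
  obtain ⟨a, hap, φ, hφ⟩ := exists_surj_away M p.asIdeal
  refine ⟨g * a, ?_, fun q hq => ?_⟩
  · intro h
    rcases p.2.mem_or_mem h with h | h
    exacts [hpg h, hap h]
  · have hgq : g ∉ q.asIdeal := fun h => hq (Ideal.mul_mem_right _ _ h)
    have haq : a ∉ q.asIdeal := fun h => hq (Ideal.mul_mem_left _ _ h)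
    exact le_antisymm (rank_le_of_surj M φ a hφ q haq) (hgZ hgq)

theorem fp_away_of_rank_const {R : Type u} [CommRing R]
    (M : Type u) [AddCommGroup M] [Module R M] [Module.Finite R M] [Module.Flat R M] (g : R)
    (hg : ∀ q q' : PrimeSpectrum R, g ∉ q.asIdeal → g ∉ q'.asIdeal →
      rankAtStalk M q = rankAtStalk M q') :
    Module.FinitePresentation (Localization.Away g) (LocalizedModule.Away g M) := by
  have hgn : ∀ P : PrimeSpectrum (Localization.Away g),
      g ∉ (PrimeSpectrum.comap (algebraMap R (Localization.Away g)) P).asIdeal := by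
    intro P h
    have h2 : algebraMap R (Localization.Away g) g ∈ P.asIdeal := h
    exact P.2.ne_top (Ideal.eq_top_of_isUnit_mem _ h2 (IsLocalization.Away.algebraMap_isUnit g))
  have hfree : ∀ P : PrimeSpectrum (Localization.Away g), ∃ a ∉ P.asIdeal,
      Module.Free (Localization.Away a) (LocalizedModule.Away a (LocalizedModule.Away g M)) := by
    intro P
    have := P.2
    apply Module.Free.away_of_finite_of_flat_of_rankAtStalk_constant
      (LocalizedModule.Away g M) P.asIdeal
    intro m hm
    rw [rankAtStalk_isBaseChange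
        (LocalizedModule.isBaseChange (Submonoid.powers g) M),
      rankAtStalk_isBaseChange
        (LocalizedModule.isBaseChange (Submonoid.powers g) M)]
    exact hg _ _ (hgn _) (hgn _)
  choose a ha hfa using hfree
  apply Module.FinitePresentation.of_localizationSpan (Set.range a)
  · by_contra hne
    obtain ⟨m, hm, hle⟩ := Ideal.exists_le_maximal _ hne
    exact ha ⟨m, hm.isPrime⟩ (hle (Ideal.subset_span ⟨_, rfl⟩))
  · rintro ⟨_, P, rfl⟩
    have := hfa P
    exact Module.finitePresentation_of_projective _ _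

theorem projective_of_finite_flat {R : Type u} [CommRing R]
    (h1 : ∀ Z : Set (PrimeSpectrum R), IsClosed Z → StableUnderGeneralization Z → IsOpen Z)
    (M : Type u) [AddCommGroup M] [Module R M] [Module.Finite R M] [Module.Flat R M] :
    Module.Projective R M := by
  have hA := exists_basicOpen_rank_const h1 M
  choose g hg hgr using hA
  have : Module.FinitePresentation R M := by
    apply Module.FinitePresentation.of_localizationSpan (Set.range g)
    · by_contra hne
      obtain ⟨m, hm, hle⟩ := Ideal.exists_le_maximal _ hne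
      exact hg ⟨m, hm.isPrime⟩ (hle (Ideal.subset_span ⟨_, rfl⟩))
    · rintro ⟨_, p, rfl⟩
      exact fp_away_of_rank_const M (g p)
        (fun q q' hq hq' => (hgr p q hq).trans (hgr p q' hq').symm)
  exact Module.Flat.projective_of_finitePresentation

theorem S6355 (R : Type u) [CommRing R] :
    (∀ Z : Set (PrimeSpectrum R), IsClosed Z → StableUnderGeneralization Z → IsOpen Z) ↔
      ∀ (M : Type u) [AddCommGroup M] [Module R M], Module.Finite R M → Module.Flat R M →
        Module.Projective R M := by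
  constructor
  · intro h1 M _ _ hfin hflat
    exact projective_of_finite_flat h1 M
  · intro h2 Z hZc hZg
    obtain ⟨I, hI, rfl⟩ := (S6353 R).2 Z hZc hZg
    have hproj : Module.Projective R (R ⧸ I) := h2 (R ⧸ I) inferInstance hI
    have h3 : Module.Projective R (R ⧸ I) → I.Pure ∧ IsOpen (zeroLocus (I : Set R)) :=
      ((S6354 R I).out 3 2).mp
    exact (h3 hproj).2

end C

end Groth.Agent.Helper1.PureId
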