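import Mathlib
import Groth.Agent.Lib.Helper1.CurveDual1
import Groth.Agent.Lib.Helper3.FlatFLF3

/-!
# Ideal sheaves of finite subschemes of a proper integral curve, twisted by an invertible module
(helper1)
-/

set_option autoImplicit false
universe u
open CategoryTheory CategoryTheory.Limits AlgebraicGeometry TopologicalSpace Opposite

namespace Groth.Agent.Helper1.CurveDual

open Groth.Agent.Helper1.QcCech Groth.Agent.Helper1.SubSh Groth.Agent.Helper1.LGen
open Groth.Agent.Helper1.TmulLib Groth.Agent.Helper1 Groth.Agent.Helper1.TwForm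
open Groth.Agent.Helper1.TensGen Groth.Agent.Lib.Helper4.TwExact Groth.Agent.Helper1.Dv
open Groth.Agent.Lib.Helper4 Groth.Agent.Helper1.CurveAmp Groth.Agent.Helper1.FinSupp
open Groth.Agent.Helper1.Euler Groth.Agent.Helper1.Curve Groth.Agent.Helper1.CurveLin

section Ideal

variable {X : Scheme.{u}} (Z : X.IdealSheafData)

instance epi_toSubscheme : Epi (ClSub.toSubscheme Z) := by
  apply SerreCrit.epi_of_locally_surjective
  intro U t x hx
  obtain ⟨_, ⟨W, hW, rfl⟩, hxW, hWU⟩ :=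
    X.isBasis_affineOpens.exists_subset_of_mem_open hx U.isOpen
  refine ⟨W, hWU, hxW, ?_⟩
  obtain ⟨r, hr⟩ := Groth.Agent.Helper3.FlatFLF.quotLin_surjective Z ⟨W, hW⟩
    (res (ClSub.quotMod Z) hWU t)
  exact ⟨r, hr⟩

theorem shortExact_S : (IdealModL.S Z).ShortExact := by
  haveI : Epi (IdealModL.S Z).g := epi_toSubscheme Z
  exact { exact := IdealModL.S_exact Z }

theorem isCoh_quotMod : Coh.IsCoh (ClSub.quotMod Z) :=
  ⟨IdealModL.isQuasicoherent_quotMod Z, Groth.Agent.Helper3.FlatFLF.isFT_quotMod Z⟩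

theorem isCoh_idealMod [IsLocallyNoetherian X] : Coh.IsCoh (ClSub.idealMod Z) :=
  FtLocal.isCoh_of_mono (ClSub.idealModι Z)
    (InvQc.isCoh_of_isInvertible _ GenLoc.isInvertible_O) (IdealModL.isQuasicoherent_idealMod Z)

theorem support_quotMod_subset : CohB1.support (ClSub.quotMod Z) ⊆ (Z.support : Set X) := by
  intro x hx
  by_contra hxZ
  apply hx
  -- the open complement of the support
  let U : X.Opens := ⟨(Z.support : Set X)ᶜ, Z.support.isClosed.isOpen_compl⟩
  have hxU : x ∈ U := hxZ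
  have hsub : ∀ V : X.Opens, V ≤ U → Subsingleton Γ(ClSub.quotMod Z, V) := by
    intro V hV
    have hbot : Z.subschemeι ⁻¹ᵁ V = ⊥ := by
      ext z
      simp only [Opens.coe_bot, Set.mem_empty_iff_false, iff_false]
      intro hz
      have h1 : Z.subschemeι z ∈ (Z.support : Set X) := by
        rw [← Scheme.IdealSheafData.range_subschemeι]
        exact ⟨z, rfl⟩
      exact hV hz h1
    change Subsingleton Γ(Z.subscheme, Z.subschemeι ⁻¹ᵁ V)
    rw [hbot]
    infer_instance
  constructor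
  intro a b
  obtain ⟨V₁, hx₁, s, rfl⟩ := TopCat.Presheaf.exists_germ_eq (ClSub.quotMod Z).presheaf a
  obtain ⟨V₂, hx₂, s', rfl⟩ := TopCat.Presheaf.exists_germ_eq (ClSub.quotMod Z).presheaf b
  have e1 := TopCat.Presheaf.germ_res_apply (ClSub.quotMod Z).presheaf
    (homOfLE (inf_le_left : (V₁ ⊓ V₂) ⊓ U ≤ V₁ ⊓ V₂) ≫ homOfLE (inf_le_left : V₁ ⊓ V₂ ≤ V₁)) x
    ⟨⟨hx₁, hx₂⟩, hxU⟩ s
  have e2 := TopCat.Presheaf.germ_res_apply (ClSub.quotMod Z).presheaf
    (homOfLE (inf_le_left : (V₁ ⊓ V₂) ⊓ U ≤ V₁ ⊓ V₂) ≫ homOfLE (inf_le_right : V₁ ⊓ V₂ ≤ V₂)) x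
    ⟨⟨hx₁, hx₂⟩, hxU⟩ s'
  rw [← e1, ← e2]
  haveI := hsub ((V₁ ⊓ V₂) ⊓ U) inf_le_right
  congr 1
  exact Subsingleton.elim _ _

end Ideal


section Generic

variable {X : Scheme.{u}} (Z : X.IdealSheafData)

/-- away from the support, the ideal sheaf is generated by a section mapping to `1` -/
theorem exists_isGen_idealMod (U : X.Opens) (hU : ∀ x ∈ U, x ∉ (Z.support : Set X)) :
    ∃ e : Γ(ClSub.idealMod Z, U), IsGen (ClSub.idealMod Z) U e := by
  have hsub : ∀ V : X.Opens, V ≤ U → Subsingleton Γ(Z.subscheme, Z.subschemeι ⁻¹ᵁ V) := by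
    intro V hV
    have hbot : Z.subschemeι ⁻¹ᵁ V = ⊥ := by
      ext z
      simp only [Opens.coe_bot, Set.mem_empty_iff_false, iff_false]
      intro hz
      have h1 : Z.subschemeι z ∈ (Z.support : Set X) := by
        rw [← Scheme.IdealSheafData.range_subschemeι]
        exact ⟨z, rfl⟩
      exact hU _ (hV hz) h1
    rw [hbot]
    infer_instance
  have hex : ∀ (V : X.Opens) (_ : V ≤ U) (r : Γ(X, V)),
      ∃ y : Γ(ClSub.idealMod Z, V), (ClSub.idealModι Z).app V y = r := by
    intro V hV r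
    haveI := hsub V hV
    exact IdealModL.exists_of_app_eq_zero Z V r (Subsingleton.elim _ _)
  obtain ⟨e, he⟩ := hex U le_rfl 1
  refine ⟨e, ?_⟩
  intro V hV
  have hres : (ClSub.idealModι Z).app V (res (ClSub.idealMod Z) hV e) = one' V := by
    rw [QcExt.app_res, he]
    exact res_one' hV
  constructor
  · intro r r' hrr
    have h1 := congrArg ((ClSub.idealModι Z).app V) hrr
    rw [Scheme.Modules.Hom.app_smul, Scheme.Modules.Hom.app_smul, hres, smul_one', smul_one'] at h1
    exact h1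
  · intro y
    refine ⟨(show Γ(X, V) from (ClSub.idealModι Z).app V y), ?_⟩
    apply IdealModL.ι_injective Z V
    change (ClSub.idealModι Z).app V
      ((show Γ(X, V) from (ClSub.idealModι Z).app V y) • res (ClSub.idealMod Z) hV e) = _
    rw [Scheme.Modules.Hom.app_smul, hres, smul_one']

variable [IsIntegral X] {L : X.Modules}

/-- a nonzero global section of `I ⊗ L` generates it near the generic point -/
theorem exists_isGen_genericPoint_ideal (hL : PicF.IsInvertible L)
    (hη : genericPoint X ∉ (Z.support : Set X))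
    (τ : Γ(CohB1.tensorMod (ClSub.idealMod Z) L, ⊤)) (hτ : τ ≠ 0) :
    ∃ V : X.Opens, genericPoint X ∈ V ∧
      IsGen (CohB1.tensorMod (ClSub.idealMod Z) L) V
        (res (CohB1.tensorMod (ClSub.idealMod Z) L) (le_top : V ≤ ⊤) τ) := by
  let U : X.Opens := ⟨(Z.support : Set X)ᶜ, Z.support.isClosed.isOpen_compl⟩
  have hηU : genericPoint X ∈ U := hη
  obtain ⟨e, he⟩ := exists_isGen_idealMod Z U (fun x hx => hx)
  obtain ⟨W, a, hηW, ha⟩ := exists_isGen hL (genericPoint X)
  have hb : IsGen (CohB1.tensorMod (ClSub.idealMod Z) L) (U ⊓ W)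
      (tm (ClSub.idealMod Z) L (U ⊓ W) (res (ClSub.idealMod Z) inf_le_left e)
        (res L inf_le_right a)) :=
    isGen_tm (he.res inf_le_left) (ha.res inf_le_right)
  obtain ⟨r, hr⟩ := hb.exists_coeff
    (res (CohB1.tensorMod (ClSub.idealMod Z) L) (le_top : U ⊓ W ≤ ⊤) τ)
  have hr0 : r ≠ 0 := by
    intro h0
    rw [h0, zero_smul] at hr
    apply hτ
    obtain ⟨j, hj⟩ : ∃ j : CohB1.tensorMod (ClSub.idealMod Z) L ⟶
        CohB1.tensorMod (Coh.structureModule X) L, Mono j :=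
      ⟨(TL L).map (ClSub.idealModι Z), mono_map (locGen_of_isInvertible L hL) (ClSub.idealModι Z)⟩
    have h2 : res (CohB1.tensorMod (ClSub.idealMod Z) L) (le_top : U ⊓ W ≤ ⊤) τ = 0 := hr.symm
    have hj0 : j.app ⊤ τ = 0 := by
      apply eq_zero_of_res_eq_zero (isInvertible_tensorMod GenLoc.isInvertible_O hL)
        (le_top : U ⊓ W ≤ ⊤) ⟨hηU, hηW⟩
      exact (QcExt.app_res j (le_top : U ⊓ W ≤ ⊤) τ).symm.trans
        ((congrArg (j.app (U ⊓ W)) h2).trans (map_zero _))
    exact FtLocal.app_injective_of_mono j ⊤ (hj0.trans (map_zero _).symm)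
  have hne : X.basicOpen r ≠ ⊥ := fun h => hr0 ((AlgebraicGeometry.basicOpen_eq_bot_iff r).1 h)
  obtain ⟨x, hx⟩ : ∃ x, x ∈ X.basicOpen r := by
    by_contra hcon
    exact hne (by ext y; simpa using fun hy => hcon ⟨y, hy⟩)
  refine ⟨X.basicOpen r, genericPoint_mem_of_nonempty _ x hx, ?_⟩
  have hle : X.basicOpen r ≤ U ⊓ W := X.basicOpen_le r
  have hu : IsUnit (resR hle r) := X.toRingedSpace.isUnit_res_basicOpen r
  have h1 : res (CohB1.tensorMod (ClSub.idealMod Z) L) (le_top : X.basicOpen r ≤ ⊤) τ =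
      resR hle r • res (CohB1.tensorMod (ClSub.idealMod Z) L) hle
        (tm (ClSub.idealMod Z) L (U ⊓ W) (res (ClSub.idealMod Z) inf_le_left e)
          (res L inf_le_right a)) := by
    rw [← res_smul, hr, res_res]
  rw [h1]
  exact TwForm.IsGen.smul_unit (hb.res hle) hu.unit

end Generic

end Groth.Agent.Helper1.CurveDual
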