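import Mathlib
import Groth.Agent.Lib.Helper1.CurveDual2

/-!
# The duality-free bound for generically invertible coherent modules, and `H¹(I ⊗ L) ≠ 0 ⇒
deg L ≤ 2g - 2 + deg Z` (helper1)
-/

set_option autoImplicit false
universe u
open CategoryTheory CategoryTheory.Limits AlgebraicGeometry TopologicalSpace Opposite

namespace Groth.Agent.Helper1.CurveDual

open Groth.Agent.Helper1.QcCech Groth.Agent.Helper1.SubSh Groth.Agent.Helper1.LGen
open Groth.Agent.Helper1.TmulLib Groth.Agent.Helper1 Groth.Agent.Helper1.TwForm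
open Groth.Agent.Helper1.TensGen Groth.Agent.Lib.Helper4.TwExact Groth.Agent.Helper1.Dv
open Groth.Agent.Lib.Helper4 Groth.Agent.Helper1.CurveAmp Groth.Agent.Helper1.FinSupp
open Groth.Agent.Helper1.Euler Groth.Agent.Helper1.Curve Groth.Agent.Helper1.CurveLin
open Groth.Agent.Helper1.FinLen

variable (k : Type u) [Field k] (X : Scheme.{u}) [X.Over (Spec (CommRingCat.of k))]
  [IsIntegral X] [IsProper (X ↘ (Spec (CommRingCat.of k)))]

/-- multiplication by a section generating `M` near the generic point is surjective on `H¹` -/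
theorem surjective_HHlin_mulΓ' (hdim : topologicalKrullDim X = 1) (F M : X.Modules)
    (hF : Coh.IsCoh F) (hMc : Coh.IsCoh M) (σ : Γ(M, ⊤))
    (hgen : ∃ V : X.Opens, genericPoint X ∈ V ∧ IsGen M V (res M (le_top : V ≤ ⊤) σ)) :
    Function.Surjective (Canon.HHlin k (mulΓ F M σ) 1) := by
  haveI := isNoetherian_of_proper k X
  haveI := isSeparated_of_proper k X
  haveI : IsLocallyNoetherian X := (isNoetherian_of_proper k X).toIsLocallyNoetherian
  have hdim' : topologicalKrullDim X ≤ 1 := hdim.le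
  have hG : Coh.IsCoh (CohB1.tensorMod F M) := isCoh_tensor F M hF hMc
  set φ := mulΓ F M σ with hφdef
  have hQc : Coh.IsCoh (cokernel φ) := FtLocal.isCoh_cokernel hF hG φ
  haveI : F.IsQuasicoherent := hF.1
  haveI : (CohB1.tensorMod F M).IsQuasicoherent := hG.1
  have hIc : Coh.IsCoh (Abelian.image φ) :=
    FtLocal.isCoh_of_mono (Abelian.image.ι φ) hG (QcAbel.isQuasicoherent_image φ)
  have hKc : Coh.IsCoh (kernel φ) := FtLocal.isCoh_kernel hF hG φ
  obtain ⟨V, hηV, hV⟩ := hgen
  have hbij := stalkL_mulΓ_bijective F M σ hV (genericPoint X) hηV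
  have hQη : genericPoint X ∉ CohB1.support (cokernel φ) :=
    notMem_support_cokernel' φ (genericPoint X) hbij.2
  have hQd : topologicalKrullDim ↥(CohB1.support (cokernel φ)) ≤ 0 :=
    dim_support_le_zero hdim _ hQc hQη
  have hQ1 : Subsingleton (Coh.HH X (cokernel φ) 1) :=
    subsingleton_HH_of_dim_le_zero _ hQc hQd 1 Nat.one_pos
  have hK2 : Subsingleton (Coh.HH X (kernel φ) 2) :=
    GV1.subsingleton_HH_of_dim_le_one hdim' _ hKc.1 2 le_rfl
  let S₂ : ShortComplex X.Modules := ShortComplex.mk (Abelian.image.ι φ)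
    (cokernel.π φ) (kernel.condition _)
  have hS₂ : S₂.Exact :=
    ShortComplex.exact_of_f_is_kernel _ (kernelIsKernel (cokernel.π φ))
  haveI : Mono S₂.f := inferInstanceAs (Mono (Abelian.image.ι φ))
  haveI : Epi S₂.g := inferInstanceAs (Epi (cokernel.π φ))
  have hSE₂ : S₂.ShortExact := { exact := hS₂ }
  have hSE₁ := H1Ext.kerIm_shortExact φ
  have s₂ : Function.Surjective (Canon.HHlin k S₂.f 1) := by
    intro x
    exact HHFin2.exact_f_g k hSE₂ 1 x (Subsingleton.elim (h := hQ1) _ _)
  have hK2' : Subsingleton (Coh.HH X (H1Ext.kerIm φ).X₁ (1 + 1)) := hK2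
  have s₁ : Function.Surjective (Canon.HHlin k (H1Ext.kerIm φ).g 1) := by
    intro x
    exact HHFin2.exact_g_delta k hSE₁ 1 x (Subsingleton.elim (h := hK2') _ _)
  intro y
  obtain ⟨z, hz⟩ := s₂ y
  obtain ⟨w, hw⟩ := s₁ z
  refine ⟨w, ?_⟩
  have hfac : φ = Abelian.factorThruImage φ ≫ Abelian.image.ι φ := (Abelian.image.fac φ).symm
  have h1 : Canon.HHlin k φ 1 w =
      Canon.HHlin k (Abelian.image.ι φ) 1 (Canon.HHlin k (Abelian.factorThruImage φ) 1 w) := by
    have := HHFin1.HHlin_comp k (Abelian.factorThruImage φ) (Abelian.image.ι φ) 1 w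
    rw [← hfac] at this
    exact this
  rw [h1]
  have hw' : Canon.HHlin k (Abelian.factorThruImage φ) 1 w = z := hw
  rw [hw']
  exact hz

/-- if `H¹(G ⊗ M) ≠ 0` then the sections of `M` embed into the dual of `H¹(G)`, for `M` coherent
all of whose nonzero global sections generate it near the generic point -/
theorem h0_le_h1_of_nontrivial' (hdim : topologicalKrullDim X = 1) (G M : X.Modules)
    (hG : Coh.IsCoh G) (hMc : Coh.IsCoh M)
    (hgen : ∀ σ : Γ(M, ⊤), σ ≠ 0 →
      ∃ V : X.Opens, genericPoint X ∈ V ∧ IsGen M V (res M (le_top : V ≤ ⊤) σ))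
    (h : Nontrivial (Coh.HH X (CohB1.tensorMod G M) 1)) :
    Module.finrank k (Coh.HH X M 0) ≤ Module.finrank k (Coh.HH X G 1) := by
  haveI : FiniteDimensional k (Coh.HH X M 0) := T2Main1.t2 k X M hMc 0
  haveI : FiniteDimensional k (Coh.HH X G 1) := T2Main1.t2 k X G hG 1
  obtain ⟨w, hw⟩ := exists_ne (0 : Coh.HH X (CohB1.tensorMod G M) 1)
  haveI : Module.Free k (Coh.HH X (CohB1.tensorMod G M) 1) := Module.Free.of_divisionRing k _
  haveI : Module.Projective k (Coh.HH X (CohB1.tensorMod G M) 1) := Module.Projective.of_free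
  obtain ⟨ℓ, hℓ⟩ := Module.Projective.exists_dual_ne_zero k hw
  let Φ : Coh.HH X M 0 →ₗ[k] Module.Dual k (Coh.HH X G 1) :=
    LinearMap.mk₂ k (fun x v => ℓ (mulH k G M 1 v x))
      (fun x x' v => by rw [map_add, map_add])
      (fun c x v => by rw [map_smul, map_smul])
      (fun x v v' => by rw [mulH_apply, mulH_apply, mulH_apply, map_add, map_add])
      (fun c x v => by rw [mulH_apply, mulH_apply, map_smul, map_smul])
  have hinj : Function.Injective Φ := by
    rw [injective_iff_map_eq_zero]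
    intro x hx
    by_contra hx0
    have hσ : HH0.equiv X M x ≠ 0 := fun h0 =>
      hx0 ((HH0.equiv X M).injective (h0.trans (map_zero _).symm))
    have hsurj := surjective_HHlin_mulΓ' k X hdim G M hG hMc _ (hgen _ hσ)
    obtain ⟨v, hv⟩ := hsurj w
    have h1 : Φ x v = 0 := by rw [hx]; rfl
    apply hℓ
    rw [← hv]
    exact h1
  calc Module.finrank k (Coh.HH X M 0)
      ≤ Module.finrank k (Module.Dual k (Coh.HH X G 1)) :=
        LinearMap.finrank_le_finrank_of_injective hinj
    _ = Module.finrank k (Coh.HH X G 1) := Subspace.dual_finrank_eq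


omit [IsProper (X ↘ (Spec (CommRingCat.of k)))] [X.Over (Spec (CommRingCat.of k))] in
/-- the generic point of a curve is not in a closed set of dimension `≤ 0` -/
theorem genericPoint_notMem_of_dim_le_zero (hdim : topologicalKrullDim X = 1) (C : Set X)
    (hC : IsClosed C) (hCd : topologicalKrullDim ↥C ≤ 0) : genericPoint X ∉ C := by
  intro h
  have hall : ∀ x : X, x ∈ C := by
    intro x
    have h1 : closure ({genericPoint X} : Set X) ⊆ C :=
      closure_minimal (Set.singleton_subset_iff.2 h) hC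
    apply h1
    rw [(genericPoint_spec X).def]
    exact Set.mem_univ x
  let f : X → ↥C := fun x => ⟨x, hall x⟩
  have hf : Topology.IsInducing f :=
    Topology.IsInducing.of_comp (continuous_id.subtype_mk hall) continuous_subtype_val
      Topology.IsInducing.id
  have h2 := hf.topologicalKrullDim_le
  rw [hdim] at h2
  have h3 : (1 : WithBot ℕ∞) ≤ 0 := h2.trans hCd
  exact absurd h3 (by decide)

/-- **S1531**: if `H¹(I ⊗ L) ≠ 0` then `deg L ≤ 2g - 2 + deg Z` -/
theorem deg_le_of_H1_ideal_nontrivial (hdim : topologicalKrullDim X = 1)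
    (h0 : Module.finrank k (Coh.HH X (Coh.structureModule X) 0) = 1)
    (L : X.Modules) (hL : PicF.IsInvertible L) (Z : X.IdealSheafData)
    (hZ : topologicalKrullDim (Z.support : Set X) ≤ 0)
    (h1 : Nontrivial (Coh.HH X (CohB1.tensorMod (ClSub.idealMod Z) L) 1)) :
    Curv2.deg k X L 1 ≤ 2 * (Curv2.genus k X : ℤ) - 2 +
      Module.finrank k (Coh.HH X (ClSub.quotMod Z) 0) := by
  haveI := isNoetherian_of_proper k X
  haveI : IsLocallyNoetherian X := (isNoetherian_of_proper k X).toIsLocallyNoetherian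
  have hη : genericPoint X ∉ (Z.support : Set X) :=
    genericPoint_notMem_of_dim_le_zero X hdim _ Z.support.isClosed hZ
  have hOc : Coh.IsCoh (Coh.structureModule X) :=
    InvQc.isCoh_of_isInvertible _ GenLoc.isInvertible_O
  have hLc : Coh.IsCoh L := InvQc.isCoh_of_isInvertible _ hL
  have hIc : Coh.IsCoh (ClSub.idealMod Z) := isCoh_idealMod Z
  have hQc : Coh.IsCoh (ClSub.quotMod Z) := isCoh_quotMod Z
  have hMc : Coh.IsCoh (CohB1.tensorMod (ClSub.idealMod Z) L) := isCoh_tensor _ _ hIc hLc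
  have hOLc : Coh.IsCoh (CohB1.tensorMod (Coh.structureModule X) L) := isCoh_tensor _ _ hOc hLc
  have hQLc : Coh.IsCoh (CohB1.tensorMod (ClSub.quotMod Z) L) := isCoh_tensor _ _ hQc hLc
  have hQd : topologicalKrullDim ↥(CohB1.support (ClSub.quotMod Z)) ≤ 0 :=
    (Groth.Agent.Helper1.Dv.krullDim_le_of_subset (support_quotMod_subset Z)).trans hZ
  -- the bound on sections
  obtain ⟨e⟩ := TwistAmpleOpen.nonempty_tensorMod_unit_iso
    (CohB1.tensorMod (ClSub.idealMod Z) L)
  have hnt : Nontrivial (Coh.HH X (CohB1.tensorMod (Coh.structureModule X)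
      (CohB1.tensorMod (ClSub.idealMod Z) L)) 1) :=
    (HHFin1.HHequiv k e 1).symm.injective.nontrivial
  have hle := h0_le_h1_of_nontrivial' k X hdim (Coh.structureModule X)
    (CohB1.tensorMod (ClSub.idealMod Z) L) hOc hMc
    (exists_isGen_genericPoint_ideal Z hL hη) hnt
  -- Euler characteristics
  have hSE := shortExact_map (locGen_of_isInvertible L hL) (shortExact_S Z)
  have hadd := euler_additive k X _ hSE hMc hOLc hQLc
  change Curv2.euler k X (CohB1.tensorMod (Coh.structureModule X) L) =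
    Curv2.euler k X (CohB1.tensorMod (ClSub.idealMod Z) L) +
      Curv2.euler k X (CohB1.tensorMod (ClSub.quotMod Z) L) at hadd
  obtain ⟨e'⟩ := TwistAmpleOpen.nonempty_tensorMod_unit_iso L
  have e2 := euler_iso k X e'
  have e3 := euler_tensor_of_dim_zero k X (ClSub.quotMod Z) hQc hQd 1 L
    (isFinLocFreeOfRank_one hL)
  have e4 := euler_eq_finrank_of_dim_le_zero k X (ClSub.quotMod Z) hQc hQd
  have e5 := euler_eq_h0_sub_h1 k X hdim.le (CohB1.tensorMod (ClSub.idealMod Z) L) hMc.1
  have e6 := euler_eq_h0_sub_h1 k X hdim.le (Coh.structureModule X) hOc.1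
  haveI : FiniteDimensional k (Coh.HH X (CohB1.tensorMod (ClSub.idealMod Z) L) 1) :=
    T2Main1.t2 k X _ hMc 1
  have h1pos : 0 < Module.finrank k (Coh.HH X (CohB1.tensorMod (ClSub.idealMod Z) L) 1) :=
    Module.finrank_pos
  unfold Curv2.deg
  unfold Curv2.genus
  rw [h0] at e6
  push_cast at e3 e6 ⊢
  have hle' : (Module.finrank k (Coh.HH X (CohB1.tensorMod (ClSub.idealMod Z) L) 0) : ℤ) ≤
      (Module.finrank k (Coh.HH X (Coh.structureModule X) 1) : ℤ) := by exact_mod_cast hle
  have h1pos' : (0 : ℤ) <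
      (Module.finrank k (Coh.HH X (CohB1.tensorMod (ClSub.idealMod Z) L) 1) : ℤ) := by
    exact_mod_cast h1pos
  linarith

end Groth.Agent.Helper1.CurveDual
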