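import Mathlib
import Groth.Agent.Lib.Helper1.CurveDual3
import Groth.Agent.Lib.Helper1.Dv18
import Groth.Agent.Lib.Lead.IdM2
import Groth.Agent.Lib.Helper1.AmpleLib3

/-!
# Global generation of invertible modules of degree `≥ 2g` on a proper integral curve (helper1)
-/

set_option autoImplicit false
universe u
open CategoryTheory CategoryTheory.Limits AlgebraicGeometry TopologicalSpace Opposite

namespace Groth.Agent.Helper1.CurveDual

open Groth.Agent.Helper1.QcCech Groth.Agent.Helper1.SubSh Groth.Agent.Helper1.LGen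
open Groth.Agent.Helper1.TmulLib Groth.Agent.Helper1 Groth.Agent.Helper1.TwForm
open Groth.Agent.Helper1.TensGen Groth.Agent.Lib.Helper4.TwExact Groth.Agent.Helper1.Dv
open Groth.Agent.Lib.Helper4 Groth.Agent.Helper1.CurveAmp Groth.Agent.Helper1.FinSupp
open Groth.Agent.Helper1.Euler Groth.Agent.Helper1.Curve Groth.Agent.Helper1.CurveLin

section Point

variable {X : Scheme.{u}}

/-- the ideal sheaf of a closed point -/
noncomputable def ptIdeal (x₀ : X) (hx₀ : IsClosed ({x₀} : Set X)) : X.IdealSheafData :=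
  Scheme.IdealSheafData.vanishingIdeal ⟨{x₀}, hx₀⟩

theorem ptIdeal_support (x₀ : X) (hx₀ : IsClosed ({x₀} : Set X)) :
    ((ptIdeal x₀ hx₀).support : Set X) = {x₀} := by
  unfold ptIdeal
  simp

/-- a function vanishing at a closed point lies in the ideal of the point -/
theorem exists_ideal_section_of_notMem_basicOpen (x₀ : X) (hx₀ : IsClosed ({x₀} : Set X))
    {W : X.Opens} (hW : IsAffineOpen W) (hxW : x₀ ∈ W) (r : Γ(X, W))
    (hr : x₀ ∉ X.basicOpen r) :
    ∃ y : Γ(ClSub.idealMod (ptIdeal x₀ hx₀), W),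
      (ClSub.idealModι (ptIdeal x₀ hx₀)).app W y = (show Γ(Coh.structureModule X, W) from r) := by
  have h1 : r ∈ (hW.primeIdealOf ⟨x₀, hxW⟩).asIdeal := by
    by_contra hnot
    apply hr
    have h3 : hW.primeIdealOf ⟨x₀, hxW⟩ ∈ hW.fromSpec ⁻¹ᵁ X.basicOpen r := by
      rw [hW.fromSpec_preimage_basicOpen]
      exact hnot
    have h4 : hW.fromSpec (hW.primeIdealOf ⟨x₀, hxW⟩) = x₀ := hW.fromSpec_primeIdealOf ⟨x₀, hxW⟩
    have h5 : hW.fromSpec (hW.primeIdealOf ⟨x₀, hxW⟩) ∈ X.basicOpen r := h3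
    rwa [h4] at h5
  have h2 := Groth.Agent.Helper1.Dv.primeIdealOf_le_vanishingIdeal hx₀ x₀ hx₀.closure_eq hW hxW h1
  have h3 : r ∈ LinearMap.range (Groth.Agent.Lead.IdM.ιL (ptIdeal x₀ hx₀) W) := by
    rw [Groth.Agent.Lead.IdM.range_ιL (ptIdeal x₀ hx₀) ⟨W, hW⟩]
    exact h2
  obtain ⟨y, hy⟩ := h3
  exact ⟨y, hy⟩

/-- sections of `O_Z ⊗ L` away from the support of `Z` vanish -/
theorem subsingleton_sections_tensor_quotMod (Z : X.IdealSheafData) {L : X.Modules}
    (V : X.Opens) (hV : ∀ x ∈ V, x ∉ (Z.support : Set X)) (a : Γ(L, V)) (ha : IsGen L V a) :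
    Subsingleton Γ(CohB1.tensorMod (ClSub.quotMod Z) L, V) := by
  have hbot : Z.subschemeι ⁻¹ᵁ V = ⊥ := by
    ext z
    simp only [Opens.coe_bot, Set.mem_empty_iff_false, iff_false]
    intro hz
    have h1 : Z.subschemeι z ∈ (Z.support : Set X) := by
      rw [← Scheme.IdealSheafData.range_subschemeι]
      exact ⟨z, rfl⟩
    exact hV _ hz h1
  haveI : Subsingleton Γ(ClSub.quotMod Z, V) := by
    change Subsingleton Γ(Z.subscheme, Z.subschemeι ⁻¹ᵁ V)
    rw [hbot]
    infer_instance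
  have hb := bijective_tm_of_isGen (ClSub.quotMod Z) ha
  constructor
  intro s t
  obtain ⟨m, rfl⟩ := hb.2 s
  obtain ⟨m', rfl⟩ := hb.2 t
  rw [Subsingleton.elim m m']

end Point


section PointGen

variable {X : Scheme.{u}} {L : X.Modules}

/-- a global section of `O ⊗ L` whose image in `O_{x₀} ⊗ L` is nonzero generates near the closed
point `x₀` -/
theorem genAt_of_image_ne_zero (hL : PicF.IsInvertible L) (x₀ : X)
    (hx₀ : IsClosed ({x₀} : Set X))
    (s' : Γ(CohB1.tensorMod (Coh.structureModule X) L, ⊤))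
    (hs' : ((TL L).map (ClSub.toSubscheme (ptIdeal x₀ hx₀))).app ⊤ s' ≠ 0) :
    GenAt (CohB1.tensorMod (Coh.structureModule X) L) s' x₀ := by
  by_contra hgen
  apply hs'
  obtain ⟨W₀, a₀, hxW₀, ha₀⟩ := exists_isGen hL x₀
  obtain ⟨_, ⟨W, hW, rfl⟩, hxW, hWW₀⟩ :=
    X.isBasis_affineOpens.exists_subset_of_mem_open hxW₀ W₀.isOpen
  have hWW₀' : W ≤ W₀ := hWW₀
  have ha : IsGen L W (res L hWW₀' a₀) := ha₀.res hWW₀'
  have hb : IsGen (CohB1.tensorMod (Coh.structureModule X) L) W
      (tm (Coh.structureModule X) L W (one' W) (res L hWW₀' a₀)) :=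
    isGen_tm (AmpleLib.isGen_one' W) ha
  obtain ⟨r, hr⟩ := hb.exists_coeff
    (res (CohB1.tensorMod (Coh.structureModule X) L) (le_top : W ≤ ⊤) s')
  have hrx : x₀ ∉ X.basicOpen r := by
    intro hmem
    apply hgen
    refine ⟨X.basicOpen r, hmem, ?_⟩
    have hle : X.basicOpen r ≤ W := X.basicOpen_le r
    have hu : IsUnit (resR hle r) := X.toRingedSpace.isUnit_res_basicOpen r
    have e : res (CohB1.tensorMod (Coh.structureModule X) L) (le_top : X.basicOpen r ≤ ⊤) s' =
        resR hle r • res (CohB1.tensorMod (Coh.structureModule X) L) hle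
          (tm (Coh.structureModule X) L W (one' W) (res L hWW₀' a₀)) := by
      rw [← res_smul, hr, res_res]
    rw [e]
    exact TwForm.IsGen.smul_unit (hb.res hle) hu.unit
  obtain ⟨y, hy⟩ := exists_ideal_section_of_notMem_basicOpen x₀ hx₀ hW hxW r hrx
  -- the restriction of `s'` to `W` comes from `I ⊗ L`
  have h1 : res (CohB1.tensorMod (Coh.structureModule X) L) (le_top : W ≤ ⊤) s' =
      ((TL L).map (ClSub.idealModι (ptIdeal x₀ hx₀))).app W
        (tm (ClSub.idealMod (ptIdeal x₀ hx₀)) L W y (res L hWW₀' a₀)) := by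
    have e1 : (ClSub.idealModι (ptIdeal x₀ hx₀)).app W y = r • one' W :=
      hy.trans (smul_one' W r).symm
    rw [TL_map_tm, e1, tm_smul_left, hr]
  have hzero : (TL L).map (ClSub.idealModι (ptIdeal x₀ hx₀)) ≫
      (TL L).map (ClSub.toSubscheme (ptIdeal x₀ hx₀)) = 0 := by
    rw [← Functor.map_comp]
    have : ClSub.idealModι (ptIdeal x₀ hx₀) ≫ ClSub.toSubscheme (ptIdeal x₀ hx₀) = 0 :=
      kernel.condition _
    rw [this]
    exact Functor.map_zero _ _ _
  have h2 : res (CohB1.tensorMod (ClSub.quotMod (ptIdeal x₀ hx₀)) L) (le_top : W ≤ ⊤)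
      (((TL L).map (ClSub.toSubscheme (ptIdeal x₀ hx₀))).app ⊤ s') = 0 := by
    have h3 := QcExt.app_res ((TL L).map (ClSub.toSubscheme (ptIdeal x₀ hx₀)))
      (le_top : W ≤ ⊤) s'
    refine h3.symm.trans ?_
    have h4 := congrArg (((TL L).map (ClSub.toSubscheme (ptIdeal x₀ hx₀))).app W) h1
    refine h4.trans ?_
    have h5 := congrArg (fun ψ => (Scheme.Modules.Hom.app ψ W)
      (tm (ClSub.idealMod (ptIdeal x₀ hx₀)) L W y (res L hWW₀' a₀))) hzero
    exact h5
  apply TwistSec.eq_of_locally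
  intro x _
  by_cases hx : x = x₀
  · subst hx
    exact ⟨W, le_top, hxW, h2.trans (map_zero _).symm⟩
  · obtain ⟨W₁, a₁, hxW₁, ha₁⟩ := exists_isGen hL x
    let V : X.Opens := W₁ ⊓ ⟨({x₀} : Set X)ᶜ, hx₀.isOpen_compl⟩
    have hxV : x ∈ V := ⟨hxW₁, hx⟩
    have hVW₁ : V ≤ W₁ := inf_le_left
    have hsub := subsingleton_sections_tensor_quotMod (ptIdeal x₀ hx₀) V (by
      intro z hz hzs
      rw [ptIdeal_support] at hzs
      exact hz.2 hzs) (res L hVW₁ a₁) (ha₁.res hVW₁)
    exact ⟨V, le_top, hxV, @Subsingleton.elim _ hsub _ _⟩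

end PointGen


section Main

variable (k : Type u) [Field k] (X : Scheme.{u}) [X.Over (Spec (CommRingCat.of k))]
  [IsIntegral X] [IsProper (X ↘ (Spec (CommRingCat.of k)))]

/-- for `deg L ≥ 2g`, at each closed point some global section generates `L` -/
theorem exists_genAt_closedPoint (hdim : topologicalKrullDim X = 1)
    (h0 : Module.finrank k (Coh.HH X (Coh.structureModule X) 0) = 1)
    (L : X.Modules) (hL : PicF.IsInvertible L)
    (hdeg : 2 * (Curv2.genus k X : ℤ) ≤ Curv2.deg k X L 1)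
    (x₀ : X) (hx₀ : IsClosed ({x₀} : Set X)) : ∃ s : Γ(L, ⊤), GenAt L s x₀ := by
  haveI := isNoetherian_of_proper k X
  haveI : IsLocallyNoetherian X := (isNoetherian_of_proper k X).toIsLocallyNoetherian
  have hZ : topologicalKrullDim ((ptIdeal x₀ hx₀).support : Set X) ≤ 0 := by
    rw [ptIdeal_support]
    haveI : Nonempty ↥({x₀} : Set X) := ⟨⟨x₀, rfl⟩⟩
    exact topologicalKrullDim_zero_of_discreteTopology ↥({x₀} : Set X)
  have hη : genericPoint X ∉ ((ptIdeal x₀ hx₀).support : Set X) :=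
    genericPoint_notMem_of_dim_le_zero X hdim _ (ptIdeal x₀ hx₀).support.isClosed hZ
  have hOc : Coh.IsCoh (Coh.structureModule X) :=
    InvQc.isCoh_of_isInvertible _ GenLoc.isInvertible_O
  have hLc : Coh.IsCoh L := InvQc.isCoh_of_isInvertible _ hL
  have hIc : Coh.IsCoh (ClSub.idealMod (ptIdeal x₀ hx₀)) := isCoh_idealMod _
  have hQc : Coh.IsCoh (ClSub.quotMod (ptIdeal x₀ hx₀)) := isCoh_quotMod _
  have hMc : Coh.IsCoh (CohB1.tensorMod (ClSub.idealMod (ptIdeal x₀ hx₀)) L) :=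
    isCoh_tensor _ _ hIc hLc
  have hOLc : Coh.IsCoh (CohB1.tensorMod (Coh.structureModule X) L) := isCoh_tensor _ _ hOc hLc
  have hQLc : Coh.IsCoh (CohB1.tensorMod (ClSub.quotMod (ptIdeal x₀ hx₀)) L) :=
    isCoh_tensor _ _ hQc hLc
  have hQd : topologicalKrullDim ↥(CohB1.support (ClSub.quotMod (ptIdeal x₀ hx₀))) ≤ 0 :=
    (Groth.Agent.Helper1.Dv.krullDim_le_of_subset (support_quotMod_subset _)).trans hZ
  have hSE := shortExact_map (locGen_of_isInvertible L hL) (shortExact_S (ptIdeal x₀ hx₀))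
  have hadd := euler_additive k X _ hSE hMc hOLc hQLc
  change Curv2.euler k X (CohB1.tensorMod (Coh.structureModule X) L) =
    Curv2.euler k X (CohB1.tensorMod (ClSub.idealMod (ptIdeal x₀ hx₀)) L) +
      Curv2.euler k X (CohB1.tensorMod (ClSub.quotMod (ptIdeal x₀ hx₀)) L) at hadd
  obtain ⟨e'⟩ := TwistAmpleOpen.nonempty_tensorMod_unit_iso L
  have e2 := euler_iso k X e'
  have e3 := euler_tensor_of_dim_zero k X (ClSub.quotMod (ptIdeal x₀ hx₀)) hQc hQd 1 L
    (isFinLocFreeOfRank_one hL)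
  have e4 := euler_eq_finrank_of_dim_le_zero k X (ClSub.quotMod (ptIdeal x₀ hx₀)) hQc hQd
  have e5 := euler_eq_h0_sub_h1 k X hdim.le
    (CohB1.tensorMod (ClSub.idealMod (ptIdeal x₀ hx₀)) L) hMc.1
  have e6 := euler_eq_h0_sub_h1 k X hdim.le (Coh.structureModule X) hOc.1
  have e7 := euler_eq_h0_sub_h1 k X hdim.le (CohB1.tensorMod (Coh.structureModule X) L) hOLc.1
  haveI : FiniteDimensional k (Coh.HH X (CohB1.tensorMod (ClSub.idealMod (ptIdeal x₀ hx₀)) L) 1) :=
    T2Main1.t2 k X _ hMc 1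
  haveI : FiniteDimensional k (Coh.HH X (CohB1.tensorMod (ClSub.idealMod (ptIdeal x₀ hx₀)) L) 0) :=
    T2Main1.t2 k X _ hMc 0
  haveI : FiniteDimensional k (Coh.HH X (CohB1.tensorMod (Coh.structureModule X) L) 0) :=
    T2Main1.t2 k X _ hOLc 0
  haveI : FiniteDimensional k (Coh.HH X (ClSub.quotMod (ptIdeal x₀ hx₀)) 0) :=
    T2Main1.t2 k X _ hQc 0
  -- `O_Z` has a nonzero global section
  haveI : Nontrivial (Coh.HH X (ClSub.quotMod (ptIdeal x₀ hx₀)) 0) := by
    have h1 : x₀ ∈ Set.range (ptIdeal x₀ hx₀).subschemeι := by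
      rw [Scheme.IdealSheafData.range_subschemeι, ptIdeal_support]
      exact Set.mem_singleton x₀
    obtain ⟨z, -⟩ := h1
    haveI : Nonempty ↥((ptIdeal x₀ hx₀).subschemeι ⁻¹ᵁ (⊤ : X.Opens)) := ⟨⟨z, trivial⟩⟩
    have hNT : Nontrivial Γ(ClSub.quotMod (ptIdeal x₀ hx₀), ⊤) := by
      change Nontrivial Γ((ptIdeal x₀ hx₀).subscheme, (ptIdeal x₀ hx₀).subschemeι ⁻¹ᵁ ⊤)
      infer_instance
    exact @Function.Injective.nontrivial _ _ hNT _
      (HH0.equiv X (ClSub.quotMod (ptIdeal x₀ hx₀))).symm.injective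
  have hzpos : 0 < Module.finrank k (Coh.HH X (ClSub.quotMod (ptIdeal x₀ hx₀)) 0) :=
    Module.finrank_pos
  -- the dimension count
  have hlt : Module.finrank k (Coh.HH X (CohB1.tensorMod (ClSub.idealMod (ptIdeal x₀ hx₀)) L) 0) <
      Module.finrank k (Coh.HH X (CohB1.tensorMod (Coh.structureModule X) L) 0) := by
    unfold Curv2.deg at hdeg
    unfold Curv2.genus at hdeg
    rw [h0] at e6
    push_cast at e3 e6 hdeg
    by_cases hM1 : Subsingleton
        (Coh.HH X (CohB1.tensorMod (ClSub.idealMod (ptIdeal x₀ hx₀)) L) 1)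
    · have hb0 : Module.finrank k
          (Coh.HH X (CohB1.tensorMod (ClSub.idealMod (ptIdeal x₀ hx₀)) L) 1) = 0 :=
        Module.finrank_zero_of_subsingleton
      rw [hb0] at e5
      push_cast at e5
      have hz' : (0 : ℤ) <
          (Module.finrank k (Coh.HH X (ClSub.quotMod (ptIdeal x₀ hx₀)) 0) : ℤ) := by
        exact_mod_cast hzpos
      have hd : (0 : ℤ) ≤
          (Module.finrank k (Coh.HH X (CohB1.tensorMod (Coh.structureModule X) L) 1) : ℤ) :=
        Int.natCast_nonneg _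
      have : (Module.finrank k
          (Coh.HH X (CohB1.tensorMod (ClSub.idealMod (ptIdeal x₀ hx₀)) L) 0) : ℤ) <
          (Module.finrank k (Coh.HH X (CohB1.tensorMod (Coh.structureModule X) L) 0) : ℤ) := by
        linarith
      exact_mod_cast this
    · rw [not_subsingleton_iff_nontrivial] at hM1
      obtain ⟨e⟩ := TwistAmpleOpen.nonempty_tensorMod_unit_iso
        (CohB1.tensorMod (ClSub.idealMod (ptIdeal x₀ hx₀)) L)
      have hnt : Nontrivial (Coh.HH X (CohB1.tensorMod (Coh.structureModule X)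
          (CohB1.tensorMod (ClSub.idealMod (ptIdeal x₀ hx₀)) L)) 1) :=
        (HHFin1.HHequiv k e 1).symm.injective.nontrivial
      have hle := h0_le_h1_of_nontrivial' k X hdim (Coh.structureModule X)
        (CohB1.tensorMod (ClSub.idealMod (ptIdeal x₀ hx₀)) L) hOc hMc
        (exists_isGen_genericPoint_ideal (ptIdeal x₀ hx₀) hL hη) hnt
      have hle' : (Module.finrank k
          (Coh.HH X (CohB1.tensorMod (ClSub.idealMod (ptIdeal x₀ hx₀)) L) 0) : ℤ) ≤
          (Module.finrank k (Coh.HH X (Coh.structureModule X) 1) : ℤ) := by exact_mod_cast hle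
      have hd : (0 : ℤ) ≤
          (Module.finrank k (Coh.HH X (CohB1.tensorMod (Coh.structureModule X) L) 1) : ℤ) :=
        Int.natCast_nonneg _
      have : (Module.finrank k
          (Coh.HH X (CohB1.tensorMod (ClSub.idealMod (ptIdeal x₀ hx₀)) L) 0) : ℤ) <
          (Module.finrank k (Coh.HH X (CohB1.tensorMod (Coh.structureModule X) L) 0) : ℤ) := by
        linarith
      exact_mod_cast this
  -- a section not coming from `I ⊗ L`
  have hex : ∃ s'' : Coh.HH X (CohB1.tensorMod (Coh.structureModule X) L) 0,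
      Canon.HHlin k ((IdealModL.S (ptIdeal x₀ hx₀)).map (TL L)).g 0 s'' ≠ 0 := by
    by_contra hall
    push Not at hall
    have hsurj : Function.Surjective
        (Canon.HHlin k ((IdealModL.S (ptIdeal x₀ hx₀)).map (TL L)).f 0) := by
      intro s''
      exact HHFin2.exact_f_g k hSE 0 s'' (hall s'')
    haveI : Module.Finite k (Coh.HH X ((IdealModL.S (ptIdeal x₀ hx₀)).map (TL L)).X₁ 0) :=
      T2Main1.t2 k X _ hMc 0
    haveI : Module.Finite k (Coh.HH X ((IdealModL.S (ptIdeal x₀ hx₀)).map (TL L)).X₂ 0) :=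
      T2Main1.t2 k X _ hOLc 0
    have := LinearMap.finrank_le_finrank_of_surjective
      (f := Canon.HHlin k ((IdealModL.S (ptIdeal x₀ hx₀)).map (TL L)).f 0) hsurj
    change Module.finrank k (Coh.HH X (CohB1.tensorMod (Coh.structureModule X) L) 0) ≤
      Module.finrank k (Coh.HH X (CohB1.tensorMod (ClSub.idealMod (ptIdeal x₀ hx₀)) L) 0) at this
    omega
  obtain ⟨s'', hs''⟩ := hex
  have hs' : ((TL L).map (ClSub.toSubscheme (ptIdeal x₀ hx₀))).app ⊤
      (HH0.equiv X (CohB1.tensorMod (Coh.structureModule X) L) s'') ≠ 0 := by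
    intro h
    apply hs''
    apply (HH0.equiv X _).injective
    rw [map_zero]
    exact (equiv_HHlin k _ s'').trans h
  have hgen' := genAt_of_image_ne_zero hL x₀ hx₀ _ hs'
  exact ⟨e'.hom.app ⊤ _, genAt_of_iso e' _ x₀ hgen'⟩

/-- **S1533**: an invertible module of degree `≥ 2g` is globally generated -/
theorem isGloballyGenerated_of_deg_ge (hdim : topologicalKrullDim X = 1)
    (h0 : Module.finrank k (Coh.HH X (Coh.structureModule X) 0) = 1)
    (L : X.Modules) (hL : PicF.IsInvertible L)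
    (hdeg : 2 * (Curv2.genus k X : ℤ) ≤ Curv2.deg k X L 1) :
    Curv2.IsGloballyGenerated L := by
  haveI := isNoetherian_of_proper k X
  apply AmpleLib.isGloballyGenerated_of_spannedOn
  intro x
  obtain ⟨x₀, hx₀mem, hx₀⟩ := IsClosed.exists_closed_singleton
    (isClosed_closure : IsClosed (closure ({x} : Set X))) ⟨x, subset_closure rfl⟩
  obtain ⟨s, V, hxV, hV⟩ := exists_genAt_closedPoint k X hdim h0 L hL hdeg x₀ hx₀
  have hxV' : x ∈ V := (specializes_iff_mem_closure.2 hx₀mem).mem_open V.isOpen hxV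
  refine ⟨V, hxV', ?_⟩
  intro O hO t y hy
  refine ⟨O, le_rfl, hy, ?_⟩
  obtain ⟨r, hr⟩ := (hV.res hO).exists_coeff t
  rw [res_self, ← hr]
  apply Submodule.smul_mem
  apply Submodule.subset_span
  exact ⟨s, by rw [res_res]⟩

end Main

end Groth.Agent.Helper1.CurveDual
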