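import Mathlib
import Groth.Agent.Lib.Helper1.CurveDual4
import Groth.Agent.Lib.Helper1.Curve3
import Groth.Agent.Lib.Helper1.Euler5
import Groth.Agent.Lib.Helper4.EffCartier
import Groth.Agent.Lib.Helper4.ZeroDim

/-!
# Degree of `O(D)` for an effective Cartier divisor on a proper scheme of dimension `≤ 1` (helper1)
-/

set_option autoImplicit false
universe u
open CategoryTheory CategoryTheory.Limits AlgebraicGeometry TopologicalSpace Opposite

namespace Groth.Agent.Helper1.CurveCart

open Groth.Agent.Helper1.QcCech Groth.Agent.Helper1.SubSh Groth.Agent.Helper1.LGen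
open Groth.Agent.Helper1.TmulLib Groth.Agent.Helper1 Groth.Agent.Helper1.TwForm
open Groth.Agent.Helper1.TensGen Groth.Agent.Lib.Helper4.TwExact Groth.Agent.Helper1.Dv
open Groth.Agent.Lib.Helper4 Groth.Agent.Helper1.CurveAmp Groth.Agent.Helper1.FinSupp
open Groth.Agent.Helper1.Euler Groth.Agent.Helper1.Curve Groth.Agent.Helper1.CurveLin
open Groth.Agent.Helper1.CurveDual

section Dim

variable {X : Scheme.{u}}

/-- an effective Cartier divisor on a noetherian scheme of dimension `≤ 1` has dimension `≤ 0` -/
theorem dim_support_le_zero_of_effCartier [IsNoetherian X] (hdim : topologicalKrullDim X ≤ 1)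
    (D : X.IdealSheafData) (hD : BlowUp.IsEffCartierIdeal D) :
    topologicalKrullDim ((D.support : Set X)) ≤ 0 := by
  let W : X.Opens := ⟨(D.support : Set X)ᶜ, D.support.isClosed.isOpen_compl⟩
  haveI : IsSchemeTheoreticallyDominant W.ι :=
    Groth.Agent.Helper4.EffCartier.dominant_of_compl_le hD W (fun x hx => hx)
  haveI : QuasiCompact W.ι := inferInstance
  have hdom : IsDominant W.ι := inferInstance
  have hW : Dense (W : Set X) := by
    have h1 := hdom.denseRange
    have h2 : Set.range W.ι = (W : Set X) := Scheme.Opens.range_ι W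
    rw [DenseRange, h2] at h1
    exact h1
  have h1 := Groth.Agent.Helper1.Curve.dim_compl_le_zero hdim W hW
  have h2 : ((W : Set X)ᶜ) = (D.support : Set X) := compl_compl _
  rw [h2] at h1
  exact h1

/-- a module with `M ⊗ L ≅ O` for an invertible `L` is invertible -/
theorem isInvertible_left_of_tensor_iso {M L : X.Modules} (hL : PicF.IsInvertible L)
    (e : CohB1.tensorMod M L ≅ Coh.structureModule X) : PicF.IsInvertible M := by
  apply isInvertible_of_locGen
  intro x
  obtain ⟨W, a, hxW, ha⟩ := exists_isGen hL x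
  obtain ⟨b, hb⟩ := (bijective_tm_of_isGen M ha).2 (e.inv.app W (one' W))
  have hb' : tm M L W b a = e.inv.app W (one' W) := hb
  refine ⟨W, b, hxW, ?_⟩
  intro V hV
  have hebij : Function.Bijective (e.hom.app V) := by
    refine ⟨fun s t h => ?_, fun t => ⟨e.inv.app V t, ?_⟩⟩
    · have h1 := congrArg (e.inv.app V) h
      have h2 : ∀ s, e.inv.app V (e.hom.app V s) = s := fun s =>
        congrArg (fun ψ => (Scheme.Modules.Hom.app ψ V) s) e.hom_inv_id
      rwa [h2, h2] at h1
    · exact congrArg (fun ψ => (Scheme.Modules.Hom.app ψ V) t) e.inv_hom_id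
  have hbij : Function.Bijective
      (fun m : Γ(M, V) => e.hom.app V (tm M L V m (res L hV a))) :=
    hebij.comp (bijective_tm_of_isGen M (ha.res hV))
  have hcomp : ∀ r : Γ(X, V),
      e.hom.app V (tm M L V (r • res M hV b) (res L hV a)) =
        (show Γ(Coh.structureModule X, V) from r) := by
    intro r
    rw [tm_smul_left, ← res_tm, hb']
    have h1 := Scheme.Modules.Hom.app_smul e.hom r
      (res (CohB1.tensorMod M L) hV (e.inv.app W (one' W)))
    refine h1.trans ?_
    rw [QcExt.app_res]
    have h2 : e.hom.app W (e.inv.app W (one' W)) = one' W :=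
      congrArg (fun ψ => (Scheme.Modules.Hom.app ψ W) (one' W)) e.inv_hom_id
    rw [h2, res_one', smul_one']
  have hid : Function.Bijective ((fun m : Γ(M, V) => e.hom.app V (tm M L V m (res L hV a))) ∘
      (fun r : Γ(X, V) => r • res M hV b)) := by
    have : ((fun m : Γ(M, V) => e.hom.app V (tm M L V m (res L hV a))) ∘
      (fun r : Γ(X, V) => r • res M hV b)) = fun r => (show Γ(Coh.structureModule X, V) from r) := by
      funext r
      exact hcomp r
    rw [this]
    exact Function.bijective_id
  exact (Function.Bijective.of_comp_iff' hbij _).1 hid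

/-- the closed subscheme cut out by an ideal sheaf has the dimension of its support -/
theorem dim_subscheme_le (D : X.IdealSheafData) :
    topologicalKrullDim D.subscheme ≤ topologicalKrullDim ((D.support : Set X)) := by
  have hmem : ∀ z : D.subscheme, D.subschemeι z ∈ (D.support : Set X) := by
    intro z
    rw [← Scheme.IdealSheafData.range_subschemeι]
    exact ⟨z, rfl⟩
  have hind : Topology.IsInducing (Set.codRestrict (fun z : D.subscheme => D.subschemeι z)
      (D.support : Set X) hmem) :=
    (D.subschemeι.isEmbedding.isInducing).codRestrict hmem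
  exact hind.topologicalKrullDim_le

end Dim

section Main

variable (k : Type u) [Field k] (X : Scheme.{u}) [X.Over (Spec (CommRingCat.of k))]
  [IsProper (X ↘ (Spec (CommRingCat.of k)))]

/-- an effective Cartier divisor on a proper scheme of dimension `≤ 1` is finite over the base -/
theorem isFinite_effCartier (hdim : topologicalKrullDim X ≤ 1)
    (D : X.IdealSheafData) (hD : BlowUp.IsEffCartierIdeal D) :
    IsFinite (D.subschemeι ≫ (X ↘ (Spec (CommRingCat.of k)))) := by
  haveI := isNoetherian_of_proper k X
  have h1 := (dim_subscheme_le D).trans (dim_support_le_zero_of_effCartier hdim D hD)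
  exact (Groth.Agent.Lib.Helper4.ZeroDim.finite_of_dim_le_zero
    (D.subschemeι ≫ (X ↘ (Spec (CommRingCat.of k)))) h1).2.1

/-- **S1604**: `deg (E ⊗ O(D)) = n · h⁰(O_D) + deg E` -/
theorem deg_tensor_effCartier (hdim : topologicalKrullDim X ≤ 1)
    (D : X.IdealSheafData) (hD : BlowUp.IsEffCartierIdeal D)
    (L : X.Modules) (hL : PicF.IsInvertible L) (hLD : ClSub.IsInverseOf L (ClSub.idealMod D))
    (n : ℕ) (E : X.Modules) (hE : FlatMod.IsFinLocFreeOfRank n E) :
    Curv2.deg k X (CohB1.tensorMod E L) n =
      n * Module.finrank k (Coh.HH X (ClSub.quotMod D) 0) + Curv2.deg k X E n := by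
  haveI := isNoetherian_of_proper k X
  haveI : IsLocallyNoetherian X := (isNoetherian_of_proper k X).toIsLocallyNoetherian
  obtain ⟨e⟩ := hLD
  have hI : PicF.IsInvertible (ClSub.idealMod D) :=
    isInvertible_left_of_tensor_iso hL (TildeTens.tensorModComm (ClSub.idealMod D) L ≪≫ e)
  have hZ := dim_support_le_zero_of_effCartier hdim D hD
  have hOc : Coh.IsCoh (Coh.structureModule X) :=
    InvQc.isCoh_of_isInvertible _ GenLoc.isInvertible_O
  have hIc : Coh.IsCoh (ClSub.idealMod D) := isCoh_idealMod _
  have hQc : Coh.IsCoh (ClSub.quotMod D) := isCoh_quotMod _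
  have hQd : topologicalKrullDim ↥(CohB1.support (ClSub.quotMod D)) ≤ 0 :=
    (Groth.Agent.Helper1.Dv.krullDim_le_of_subset (support_quotMod_subset _)).trans hZ
  have hadd := euler_additive k X _ (shortExact_S D) hIc hOc hQc
  change Curv2.euler k X (Coh.structureModule X) =
    Curv2.euler k X (ClSub.idealMod D) + Curv2.euler k X (ClSub.quotMod D) at hadd
  have e4 := euler_eq_finrank_of_dim_le_zero k X (ClSub.quotMod D) hQc hQd
  have h1 := deg_tensor_locFree k X hdim 1 1 L (ClSub.idealMod D) (isFinLocFreeOfRank_one hL)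
    (isFinLocFreeOfRank_one hI)
  have h2 := deg_tensor_locFree k X hdim n 1 E L hE (isFinLocFreeOfRank_one hL)
  have e2 := euler_iso k X e
  unfold Curv2.deg at h1 h2 ⊢
  push_cast at h1 h2 ⊢
  have hdL : Curv2.euler k X L - 1 * Curv2.euler k X (Coh.structureModule X) =
      (Module.finrank k (Coh.HH X (ClSub.quotMod D) 0) : ℤ) := by linarith
  rw [hdL] at h2
  linarith

end Main

end Groth.Agent.Helper1.CurveCart
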