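import Mathlib
import Groth.Agent.Lib.Helper1.CurveLin2

/-!
# Linear series on a proper curve: the main theorem (helper1)
-/

set_option autoImplicit false
universe u
open CategoryTheory CategoryTheory.Limits AlgebraicGeometry TopologicalSpace Opposite

namespace Groth.Agent.Helper1.CurveLin

open Groth.Agent.Helper1.QcCech Groth.Agent.Helper1.SubSh Groth.Agent.Helper1.LGen
open Groth.Agent.Helper1.TmulLib Groth.Agent.Helper1 Groth.Agent.Helper1.TwForm
open Groth.Agent.Helper1.TensGen Groth.Agent.Lib.Helper4.TwExact Groth.Agent.Helper1.Dv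
open Groth.Agent.Lib.Helper4 Groth.Agent.Helper1.CurveAmp Groth.Agent.Helper1.FinSupp
open Groth.Agent.Helper1.Euler Groth.Agent.Helper1.Curve

section Curve

variable (k : Type u) [Field k] (X : Scheme.{u}) [X.Over (Spec (CommRingCat.of k))]
  [IsIntegral X] [IsProper (X ↘ (Spec (CommRingCat.of k)))]

/-- genus zero from surjectivity on global sections -/
theorem genus_zero_of_surjective (hdim : topologicalKrullDim X = 1)
    (L : X.Modules) (hL : PicF.IsInvertible L) (σ : Γ(L, ⊤)) (hσ : σ ≠ 0)
    (hpos : 0 < Curv2.deg k X L 1)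
    (hsurj0 : Function.Surjective ((cokernel.π (mulΓ (Coh.structureModule X) L σ)).app ⊤)) :
    Curv2.genus k X = 0 := by
  haveI := isNoetherian_of_proper k X
  have hO : PicF.IsInvertible (Coh.structureModule X) := GenLoc.isInvertible_O
  have hOc : Coh.IsCoh (Coh.structureModule X) := InvQc.isCoh_of_isInvertible _ hO
  have hL₁ : PicF.IsInvertible (CohB1.tensorPow L 1) := isInvertible_tensorPow hL 1
  obtain ⟨-, hQc, hQd, -⟩ := cokernel_package k X hdim hO hL₁
    (mulΓ (Coh.structureModule X) L σ) (mulΓ_ne_zero hO hL σ hσ)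
  have hZc := isClosed_singleton_of_mem_support _ hQc hQd
  have hZf := finite_support _ hQc hQd
  have hσZ : ∀ x, x ∉ CohB1.support (cokernel (mulΓ (Coh.structureModule X) L σ)) →
      GenAt L σ x := fun x hx => genAt_of_notMem_support hL σ x hx
  obtain ⟨t, htgen⟩ := exists_genAt_section hL σ hZf hZc hsurj0
  have hall := surjective_tensorPow hL σ t _ hZf hZc hσZ htgen hsurj0
  have hinj : ∀ n, Function.Injective
      (Canon.HHlin k (mulΓ (CohB1.tensorPow L n) L σ) 1) := by
    intro n
    have hSE := shortExact_mulΓ k X hdim (isInvertible_tensorPow hL n) hL σ hσ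
    have h1 := HHlin_one_injective k hSE
    exact h1 (hall n)
  obtain ⟨N, hN⟩ := exists_H1_vanishing k X hdim hL hpos (Coh.structureModule X) hOc
  obtain ⟨e'⟩ := TwistAmpleOpen.nonempty_tensorMod_unit_iso (CohB1.tensorPow L (N + 1))
  have hN' : Subsingleton (Coh.HH X (CohB1.tensorPow L (N + 1)) 1) :=
    (HHFin1.HHequiv k e' 1).symm.injective.subsingleton
  have hdown : ∀ m, Subsingleton (Coh.HH X (CohB1.tensorPow L m) 1) →
      Subsingleton (Coh.HH X (CohB1.tensorPow L 0) 1) := by
    intro m
    induction m with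
    | zero => exact id
    | succ m ih =>
      intro h
      haveI : Subsingleton (Coh.HH X (CohB1.tensorMod (CohB1.tensorPow L m) L) 1) := h
      exact ih ((hinj m).subsingleton)
  haveI : Subsingleton (Coh.HH X (Coh.structureModule X) 1) := hdown _ hN'
  unfold Curv2.genus
  exact Module.finrank_zero_of_subsingleton

/-- **linear series**: `h⁰(L) ≤ deg L + 1`, with equality (for `deg L > 0`) only in genus zero -/
theorem main (hdim : topologicalKrullDim X = 1)
    (h0 : Module.finrank k (Coh.HH X (Coh.structureModule X) 0) = 1)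
    (L : X.Modules) (hL : PicF.IsInvertible L) (hs : Nontrivial (Coh.HH X L 0)) :
    (Module.finrank k (Coh.HH X L 0) : ℤ) ≤ Curv2.deg k X L 1 + 1 ∧
      ((Module.finrank k (Coh.HH X L 0) : ℤ) = Curv2.deg k X L 1 + 1 → 0 < Curv2.deg k X L 1 →
        Curv2.genus k X = 0) := by
  haveI := isNoetherian_of_proper k X
  obtain ⟨x, hx⟩ := exists_ne (0 : Coh.HH X L 0)
  obtain ⟨σ, hσ⟩ : ∃ σ : Γ(L, ⊤), σ ≠ 0 := ⟨HH0.equiv X L x, fun h =>
    hx ((HH0.equiv X L).injective (h.trans (map_zero _).symm))⟩
  have hO : PicF.IsInvertible (Coh.structureModule X) := GenLoc.isInvertible_O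
  have hOc : Coh.IsCoh (Coh.structureModule X) := InvQc.isCoh_of_isInvertible _ hO
  have hL₁ : PicF.IsInvertible (CohB1.tensorPow L 1) := isInvertible_tensorPow hL 1
  have hL₁c : Coh.IsCoh (CohB1.tensorPow L 1) := InvQc.isCoh_of_isInvertible _ hL₁
  have hφ : mulΓ (Coh.structureModule X) L σ ≠ 0 := mulΓ_ne_zero hO hL σ hσ
  obtain ⟨hmono, hQc, hQd, hχ⟩ := cokernel_package k X hdim hO hL₁
    (mulΓ (Coh.structureModule X) L σ) hφ
  obtain ⟨e⟩ := TwistAmpleOpen.nonempty_tensorMod_unit_iso L
  have hfr : Module.finrank k (Coh.HH X (CohB1.tensorPow L 1) 0) =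
      Module.finrank k (Coh.HH X L 0) := (HHFin1.HHequiv k e 0).finrank_eq
  have hSE := shortExact_mulΓ k X hdim hO hL σ hσ
  have hQ0 : (Module.finrank k (Coh.HH X (cokernel (mulΓ (Coh.structureModule X) L σ)) 0) : ℤ) =
      Curv2.deg k X L 1 := by
    have e1 := euler_eq_finrank_of_dim_le_zero k X _ hQc hQd
    have e2 := deg_sub_deg k X hdim hO hL₁ (mulΓ (Coh.structureModule X) L σ) hφ
    have e3 := deg_structureModule k X
    have e4 := deg_tensorPow k X hdim.le hL 1
    rw [e3, e4] at e2
    exact e1.symm.trans (e2.symm.trans (by simp))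
  have hle := LesBound.finrank_X₂_le k X _ hSE hOc hL₁c hQc 0
  change Module.finrank k (Coh.HH X (CohB1.tensorPow L 1) 0) ≤
    Module.finrank k (Coh.HH X (Coh.structureModule X) 0) +
      Module.finrank k (Coh.HH X (cokernel (mulΓ (Coh.structureModule X) L σ)) 0) at hle
  rw [hfr, h0] at hle
  refine ⟨by rw [← hQ0]; exact_mod_cast (by omega), ?_⟩
  intro heq hpos
  have hfin : Module.finrank k (Coh.HH X (CohB1.tensorPow L 1) 0) =
      Module.finrank k (Coh.HH X (Coh.structureModule X) 0) +
        Module.finrank k (Coh.HH X (cokernel (mulΓ (Coh.structureModule X) L σ)) 0) := by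
    rw [hfr, h0]
    have : (Module.finrank k (Coh.HH X L 0) : ℤ) =
        (Module.finrank k (Coh.HH X (cokernel (mulΓ (Coh.structureModule X) L σ)) 0) : ℤ) + 1 := by
      rw [hQ0]
      exact heq
    omega
  have hsurjH := surjective_HHlin_g_zero k X _ hSE hOc hL₁c hQc hfin
  have hsurj0 := app_top_surjective_of_HHlin k X _ hsurjH
  exact genus_zero_of_surjective k X hdim L hL σ hσ hpos hsurj0

end Curve

end Groth.Agent.Helper1.CurveLin
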