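import Mathlib

/-!
# Connected + Noetherian + domain stalks ⇒ integral (helper1)
-/

set_option autoImplicit false
universe u

namespace Groth.Agent.Helper1.Conn1

open CategoryTheory AlgebraicGeometry TopologicalSpace

/-- If `y` has a domain as stalk, any two points specializing to `y` have a common generization. -/
lemma exists_common_generization {Y : Scheme.{u}} (y : Y) [IsDomain (Y.presheaf.stalk y)]
    {g₁ g₂ : Y} (h₁ : g₁ ⤳ y) (h₂ : g₂ ⤳ y) : ∃ g₀ : Y, g₀ ⤳ g₁ ∧ g₀ ⤳ g₂ := by
  have hr := Scheme.range_fromSpecStalk (X := Y) (x := y)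
  obtain ⟨p₁, hp₁⟩ : g₁ ∈ Set.range (Y.fromSpecStalk y) := by rw [hr]; exact h₁
  obtain ⟨p₂, hp₂⟩ : g₂ ∈ Set.range (Y.fromSpecStalk y) := by rw [hr]; exact h₂
  have : IrreducibleSpace (Spec (Y.presheaf.stalk y)) :=
    inferInstanceAs (IrreducibleSpace (PrimeSpectrum (Y.presheaf.stalk y)))
  let ξ := genericPoint (Spec (Y.presheaf.stalk y))
  refine ⟨Y.fromSpecStalk y ξ, ?_, ?_⟩
  · rw [← hp₁]
    exact (genericPoint_specializes p₁).map (Y.fromSpecStalk y).continuous
  · rw [← hp₂]
    exact (genericPoint_specializes p₂).map (Y.fromSpecStalk y).continuous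

theorem irreducibleSpace_of_connected (X : Scheme.{u}) [IsNoetherian X] [ConnectedSpace X]
    (hdom : ∀ x : X, IsDomain (X.presheaf.stalk x)) : IrreducibleSpace X := by
  have hfin : (irreducibleComponents X).Finite := NoetherianSpace.finite_irreducibleComponents
  -- distinct components are disjoint
  have hdisj : ∀ Z₁ ∈ irreducibleComponents X, ∀ Z₂ ∈ irreducibleComponents X,
      (Z₁ ∩ Z₂).Nonempty → Z₁ = Z₂ := by
    intro Z₁ h₁ Z₂ h₂ ⟨y, hy₁, hy₂⟩
    have hc₁ : IsClosed Z₁ := isClosed_of_mem_irreducibleComponents Z₁ h₁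
    have hc₂ : IsClosed Z₂ := isClosed_of_mem_irreducibleComponents Z₂ h₂
    obtain ⟨g₁, hg₁⟩ := QuasiSober.sober h₁.1 hc₁
    obtain ⟨g₂, hg₂⟩ := QuasiSober.sober h₂.1 hc₂
    have s₁ : g₁ ⤳ y := by
      rw [specializes_iff_mem_closure, hg₁.def]; exact hy₁
    have s₂ : g₂ ⤳ y := by
      rw [specializes_iff_mem_closure, hg₂.def]; exact hy₂
    haveI := hdom y
    obtain ⟨g₀, h01, h02⟩ := exists_common_generization y s₁ s₂
    have hirr : IsIrreducible (closure ({g₀} : Set X)) := isIrreducible_singleton.closure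
    have hsub₁ : Z₁ ⊆ closure {g₀} := by
      rw [← hg₁.def]
      exact closure_minimal (Set.singleton_subset_iff.2 (specializes_iff_mem_closure.1 h01))
        isClosed_closure
    have hsub₂ : Z₂ ⊆ closure {g₀} := by
      rw [← hg₂.def]
      exact closure_minimal (Set.singleton_subset_iff.2 (specializes_iff_mem_closure.1 h02))
        isClosed_closure
    have e₁ : closure {g₀} ⊆ Z₁ := h₁.2 hirr hsub₁
    have e₂ : closure {g₀} ⊆ Z₂ := h₂.2 hirr hsub₂
    exact (hsub₁.trans e₂).antisymm (hsub₂.trans e₁)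
  -- pick a component
  obtain ⟨x⟩ : Nonempty X := inferInstance
  obtain ⟨Z, hZ, hxZ⟩ : ∃ Z ∈ irreducibleComponents X, x ∈ Z :=
    ⟨irreducibleComponent x, irreducibleComponent_mem_irreducibleComponents x,
      mem_irreducibleComponent⟩
  have hclopen : IsClopen Z := by
    refine ⟨isClosed_of_mem_irreducibleComponents Z hZ, ?_⟩
    have hcl : IsClosed (⋃ W ∈ irreducibleComponents X \ {Z}, W) :=
      (hfin.subset Set.sdiff_subset).isClosed_biUnion fun W hW =>
        isClosed_of_mem_irreducibleComponents W hW.1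
    have : Z = (⋃ W ∈ irreducibleComponents X \ {Z}, W)ᶜ := by
      ext y
      simp only [Set.mem_compl_iff, Set.mem_iUnion, not_exists]
      constructor
      · intro hy W hW hyW
        exact hW.2 ((hdisj Z hZ W hW.1 ⟨y, hy, hyW⟩).symm)
      · intro hy
        by_contra hyZ
        exact hy (irreducibleComponent y)
          ⟨irreducibleComponent_mem_irreducibleComponents y, fun h => hyZ (h ▸ mem_irreducibleComponent)⟩
          mem_irreducibleComponent
    rw [this]
    exact hcl.isOpen_compl
  have huniv : Z = Set.univ := (isClopen_iff.1 hclopen).resolve_left (Set.nonempty_iff_ne_empty.1 ⟨x, hxZ⟩)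
  have : IsIrreducible (Set.univ : Set X) := huniv ▸ hZ.1
  haveI : PreirreducibleSpace X := ⟨this.2⟩
  exact { toNonempty := ⟨x⟩ }

theorem isIntegral_of_connected (X : Scheme.{u}) [IsNoetherian X] [ConnectedSpace X]
    (hdom : ∀ x : X, IsDomain (X.presheaf.stalk x)) : IsIntegral X := by
  haveI : IsReduced X := by
    have : ∀ y : X, _root_.IsReduced (X.presheaf.stalk y) := fun y => by
      have := hdom y; infer_instance
    exact isReduced_of_isReduced_stalk X
  haveI := irreducibleSpace_of_connected X hdom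
  exact isIntegral_of_irreducibleSpace_of_isReduced X

end Groth.Agent.Helper1.Conn1
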