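import Groth.Agent.Lib.Helper1.TorL

namespace Groth.Agent.Helper1.FlatQuot

open TensorProduct

variable {R : Type*} [CommRing R] {L G X : Type*} [AddCommGroup L] [Module R L]
  [AddCommGroup G] [Module R G] [AddCommGroup X] [Module R X]

theorem aux [Module.Flat R X] {K F Y : Type*} [AddCommGroup K] [Module R K]
    [AddCommGroup F] [Module R F] [AddCommGroup Y] [Module R Y] [Module.Flat R F]
    (j : K →ₗ[R] F) (q : F →ₗ[R] Y) (hj : Function.Injective j) (hq : Function.Surjective q)
    (hjq : Function.Exact j q)
    (i : L →ₗ[R] G) (p : G →ₗ[R] X) (hi : Function.Injective i) (hp : Function.Surjective p)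
    (hip : Function.Exact i p) : Function.Injective (i.lTensor Y) := by
  refine Groth.Agent.Helper1.TorL.injective_of_three_by_three
    (A1 := K ⊗[R] L) (A2 := F ⊗[R] L) (A3 := Y ⊗[R] L)
    (B1 := K ⊗[R] G) (B2 := F ⊗[R] G) (B3 := Y ⊗[R] G)
    (C1 := K ⊗[R] X) (C2 := F ⊗[R] X)
    (j.rTensor L) (q.rTensor L) (j.rTensor G) (q.rTensor G) (j.rTensor X)
    (i.lTensor K) (p.lTensor K) (i.lTensor F)
    (p.lTensor F) (i.lTensor Y)
    (LinearMap.rTensor_surjective L hq) (rTensor_exact G hjq hq) ?_
    (lTensor_exact K hip hp)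
    (Module.Flat.lTensor_preserves_injective_linearMap (M := F) i hi) ?_ ?_ ?_ ?_
    (Module.Flat.rTensor_preserves_injective_linearMap (M := X) j hj)
  · intro x
    rw [← LinearMap.comp_apply, ← LinearMap.lTensor_comp, hip.linearMap_comp_eq_zero,
      LinearMap.lTensor_zero, LinearMap.zero_apply]
  · intro x
    rw [← LinearMap.comp_apply, ← LinearMap.rTensor_comp, hjq.linearMap_comp_eq_zero,
      LinearMap.rTensor_zero, LinearMap.zero_apply]
  · intro x
    rw [← LinearMap.comp_apply, ← LinearMap.comp_apply, LinearMap.lTensor_comp_rTensor,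
      LinearMap.rTensor_comp_lTensor]
  · intro x
    rw [← LinearMap.comp_apply, ← LinearMap.comp_apply, LinearMap.lTensor_comp_rTensor,
      LinearMap.rTensor_comp_lTensor]
  · intro x
    rw [← LinearMap.comp_apply, ← LinearMap.comp_apply, LinearMap.lTensor_comp_rTensor,
      LinearMap.rTensor_comp_lTensor]

/-- If `0 → L → G → X → 0` is exact with `X` flat, then `Y ⊗ L → Y ⊗ G` is injective for all `Y`. -/
theorem lTensor_injective_of_flat_coker [Module.Flat R X] (Y : Type*) [AddCommGroup Y] [Module R Y]
    (i : L →ₗ[R] G) (p : G →ₗ[R] X) (hi : Function.Injective i) (hp : Function.Surjective p)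
    (hip : Function.Exact i p) : Function.Injective (i.lTensor Y) :=
  aux (K := LinearMap.ker (Finsupp.linearCombination R (id : Y → Y))) (F := Y →₀ R)
    (j := (LinearMap.ker (Finsupp.linearCombination R (id : Y → Y))).subtype)
    (q := Finsupp.linearCombination R (id : Y → Y)) (Submodule.subtype_injective _)
    (Finsupp.linearCombination_id_surjective R Y)
    (LinearMap.exact_subtype_ker_map (Finsupp.linearCombination R (id : Y → Y))) i p hi hp hip

/-- `rTensor` version. -/
theorem rTensor_injective_of_flat_coker [Module.Flat R X] (Y : Type*) [AddCommGroup Y] [Module R Y]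
    (i : L →ₗ[R] G) (p : G →ₗ[R] X) (hi : Function.Injective i) (hp : Function.Surjective p)
    (hip : Function.Exact i p) : Function.Injective (i.rTensor Y) :=
  (LinearMap.lTensor_inj_iff_rTensor_inj Y i).mp
    (lTensor_injective_of_flat_coker Y i p hi hp hip)

/-- An extension of flat modules is flat. -/
theorem flat_of_exact {M1 M2 M3 : Type*} [AddCommGroup M1] [Module R M1] [AddCommGroup M2]
    [Module R M2] [AddCommGroup M3] [Module R M3] [Module.Flat R M1] [Module.Flat R M3]
    (f : M1 →ₗ[R] M2) (g : M2 →ₗ[R] M3) (hf : Function.Injective f) (hg : Function.Surjective g)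
    (hfg : Function.Exact f g) : Module.Flat R M2 := by
  rw [Module.Flat.iff_lTensor_injectiveₛ]
  intro P _ _ N
  let _ : AddCommGroup P := Module.addCommMonoidToAddCommGroup R
  rw [← LinearMap.ker_eq_bot, LinearMap.ker_eq_bot']
  intro x hx
  have h3 : (N.subtype.lTensor M3) ((g.rTensor N) x) = 0 := by
    rw [← LinearMap.comp_apply, LinearMap.lTensor_comp_rTensor, ← LinearMap.rTensor_comp_lTensor,
      LinearMap.comp_apply, hx, map_zero]
  have h3' : (g.rTensor N) x = 0 :=
    Module.Flat.lTensor_preserves_injective_linearMap (M := M3) N.subtype N.injective_subtype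
      (h3.trans (map_zero _).symm)
  obtain ⟨y, rfl⟩ := (rTensor_exact N hfg hg x).mp h3'
  have h1 : (f.rTensor P) ((N.subtype.lTensor M1) y) = 0 := by
    rw [← LinearMap.comp_apply, LinearMap.rTensor_comp_lTensor, ← LinearMap.lTensor_comp_rTensor,
      LinearMap.comp_apply, hx]
  have hinj : Function.Injective (f.rTensor P) :=
    rTensor_injective_of_flat_coker P f g hf hg hfg
  have h1' := hinj (h1.trans (map_zero _).symm)
  have : y = 0 :=
    Module.Flat.lTensor_preserves_injective_linearMap (M := M1) N.subtype N.injective_subtype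
      (h1'.trans (map_zero _).symm)
  rw [this, map_zero]

end Groth.Agent.Helper1.FlatQuot
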