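import Mathlib

/-!
# Local criterion of flatness (Tor-free approach)

Helper library of helper1: infinitesimal and local criteria of flatness, proved by diagram
chases with right-exactness of the tensor product (no `Tor`).
-/

set_option autoImplicit false

namespace Groth.Agent.Helper1.LocalCrit

open TensorProduct

universe u v w

section Chase

variable {R : Type*} [CommRing R] (M : Type*) [AddCommGroup M] [Module R M]

/-- If `f ⊗ M` is injective then so is `(ι →₀ f) ⊗ M`. -/
theorem rTensor_mapRange_injective {A B : Type*} [AddCommGroup A] [Module R A]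
    [AddCommGroup B] [Module R B] (ι : Type*) (f : A →ₗ[R] B)
    (hf : Function.Injective (f.rTensor M)) :
    Function.Injective ((Finsupp.mapRange.linearMap (α := ι) f).rTensor M) := by
  classical
  rw [injective_iff_map_eq_zero]
  intro t ht
  apply (TensorProduct.finsuppLeft R R A M ι).injective
  rw [map_zero]
  ext i
  rw [TensorProduct.finsuppLeft_apply, Finsupp.zero_apply]
  apply hf
  rw [map_zero, ← LinearMap.rTensor_comp_apply]
  have : f ∘ₗ Finsupp.lapply i = Finsupp.lapply i ∘ₗ Finsupp.mapRange.linearMap f :=
    LinearMap.ext fun x => by simp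
  rw [this, LinearMap.rTensor_comp_apply, ht, map_zero]

/-- If `f ⊗ M` is injective then so is `(ι →₀ f) ⊗ M`, `lTensor` version. -/
theorem lTensor_mapRange_injective {A B : Type*} [AddCommGroup A] [Module R A]
    [AddCommGroup B] [Module R B] (ι : Type*) (f : A →ₗ[R] B)
    (hf : Function.Injective (f.lTensor M)) :
    Function.Injective ((Finsupp.mapRange.linearMap (α := ι) f).lTensor M) := by
  rw [LinearMap.lTensor_inj_iff_rTensor_inj] at hf ⊢
  exact rTensor_mapRange_injective M ι f hf

variable {K L G Q P Z F : Type*} [AddCommGroup K] [Module R K] [AddCommGroup L] [Module R L]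
  [AddCommGroup G] [Module R G] [AddCommGroup Q] [Module R Q] [AddCommGroup P] [Module R P]
  [AddCommGroup Z] [Module R Z] [AddCommGroup F] [Module R F]

/-- First diagram chase. -/
theorem rTensor_injective_of_chase
    (i : K →ₗ[R] L) (l : L →ₗ[R] G) (pL : L →ₗ[R] Q) (q : Q →ₗ[R] P) (p : G →ₗ[R] P)
    (hex : Function.Exact i pL) (hsurj : Function.Surjective pL)
    (hcomm : q ∘ₗ pL = p ∘ₗ l)
    (h1 : Function.Injective ((l ∘ₗ i).rTensor M)) (h2 : Function.Injective (q.rTensor M)) :
    Function.Injective (l.rTensor M) := by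
  rw [injective_iff_map_eq_zero]
  intro x hx
  have hex' := rTensor_exact M hex hsurj
  have : pL.rTensor M x = 0 := by
    apply h2
    rw [map_zero, ← LinearMap.rTensor_comp_apply, hcomm, LinearMap.rTensor_comp_apply, hx,
      map_zero]
  obtain ⟨z, rfl⟩ := (hex' x).mp this
  have hz : z = 0 := by
    apply h1
    rw [map_zero, LinearMap.rTensor_comp_apply, hx]
  rw [hz, map_zero]

/-- Second diagram chase. -/
theorem rTensor_injective_of_chase'
    (a : Z →ₗ[R] L) (l : L →ₗ[R] G) (πL : L →ₗ[R] K) (k : K →ₗ[R] F) (π : G →ₗ[R] F)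
    (hsL : Function.Surjective πL) (hzero : πL ∘ₗ a = 0)
    (hex : Function.Exact (l ∘ₗ a) π) (hs : Function.Surjective π)
    (hcomm : k ∘ₗ πL = π ∘ₗ l)
    (h : Function.Injective (l.rTensor M)) : Function.Injective (k.rTensor M) := by
  rw [injective_iff_map_eq_zero]
  intro x hx
  obtain ⟨y, rfl⟩ := LinearMap.rTensor_surjective M hsL x
  have hex' := rTensor_exact M hex hs
  have h1 : π.rTensor M (l.rTensor M y) = 0 := by
    rw [← LinearMap.rTensor_comp_apply, ← hcomm, LinearMap.rTensor_comp_apply, hx]
  obtain ⟨z, hz⟩ := (hex' _).mp h1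
  rw [LinearMap.rTensor_comp_apply] at hz
  have := h hz
  rw [← this, ← LinearMap.rTensor_comp_apply, hzero, LinearMap.rTensor_zero, LinearMap.zero_apply]

end Chase

section Base

variable {R : Type*} [CommRing R] (A : Type*) [CommRing A] [Algebra R A]
  (M : Type*) [AddCommGroup M] [Module R M]

/-- If `A ⊗[R] M` is `A`-flat, then `- ⊗[R] M` preserves injections of `A`-modules. -/
theorem rTensor_restrictScalars_injective [Module.Flat A (A ⊗[R] M)]
    {N' N : Type*} [AddCommGroup N'] [Module R N'] [Module A N'] [IsScalarTower R A N']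
    [AddCommGroup N] [Module R N] [Module A N] [IsScalarTower R A N]
    (f : N' →ₗ[A] N) (hf : Function.Injective f) :
    Function.Injective ((f.restrictScalars R).rTensor M) := by
  have h1 := Module.Flat.rTensor_preserves_injective_linearMap (M := A ⊗[R] M) f hf
  have key : ∀ x, (f.restrictScalars R).rTensor M
      (AlgebraTensorModule.cancelBaseChange R A A N' M x) =
      AlgebraTensorModule.cancelBaseChange R A A N M (f.rTensor (A ⊗[R] M) x) := by
    intro x
    induction x using TensorProduct.induction_on with
    | zero => simp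
    | tmul n y =>
      induction y using TensorProduct.induction_on with
      | zero => simp
      | tmul a m => simp
      | add y z hy hz => simp only [tmul_add, map_add, hy, hz]
    | add x y hx hy => simp only [map_add, hx, hy]
  intro x y hxy
  obtain ⟨x', rfl⟩ := (AlgebraTensorModule.cancelBaseChange R A A N' M).surjective x
  obtain ⟨y', rfl⟩ := (AlgebraTensorModule.cancelBaseChange R A A N' M).surjective y
  rw [key, key] at hxy
  rw [h1 ((AlgebraTensorModule.cancelBaseChange R A A N M).injective hxy)]

/-- Submodule version when `R → A` is surjective. -/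
theorem rTensor_subtype_injective_of_surjective [Module.Flat A (A ⊗[R] M)]
    (hA : Function.Surjective (algebraMap R A))
    {P : Type*} [AddCommGroup P] [Module R P] [Module A P] [IsScalarTower R A P]
    (Q : Submodule R P) : Function.Injective (Q.subtype.rTensor M) := by
  let Q' : Submodule A P :=
    { carrier := Q
      add_mem' := Q.add_mem
      zero_mem' := Q.zero_mem
      smul_mem' := by
        intro c x hx
        obtain ⟨r, rfl⟩ := hA c
        have : algebraMap R A r • x = r • x := algebraMap_smul A r x
        rw [this]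
        exact Q.smul_mem r hx }
  have h := rTensor_restrictScalars_injective (R := R) A M Q'.subtype Q'.subtype_injective
  exact h

end Base

section Aux

variable {R : Type*} [CommRing R] (M : Type*) [AddCommGroup M] [Module R M]
  {K₀ G P F : Type*} [AddCommGroup K₀] [Module R K₀] [AddCommGroup G] [Module R G]
  [AddCommGroup P] [Module R P] [AddCommGroup F] [Module R F]

theorem rTensor_subtype_injective_aux (j : K₀ →ₗ[R] G) (p : G →ₗ[R] P)
    (hker : LinearMap.ker p = LinearMap.range j) (L : Submodule R G)
    (hL : LinearMap.range j ≤ L) (hj : Function.Injective (j.rTensor M))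
    (hP : ∀ Q : Submodule R P, Function.Injective (Q.subtype.rTensor M)) :
    Function.Injective (L.subtype.rTensor M) := by
  have hjL : ∀ z, j z ∈ L := fun z => hL ⟨z, rfl⟩
  let i : K₀ →ₗ[R] L := j.codRestrict L hjL
  let φ : L →ₗ[R] P := p ∘ₗ L.subtype
  have hsurj : Function.Surjective φ.rangeRestrict := LinearMap.surjective_rangeRestrict φ
  have hex : Function.Exact i φ.rangeRestrict := by
    intro y
    constructor
    · intro hy
      have : (y : G) ∈ LinearMap.ker p := by
        have := congrArg Subtype.val hy
        exact this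
      rw [hker] at this
      obtain ⟨z, hz⟩ := this
      exact ⟨z, Subtype.ext hz⟩
    · rintro ⟨z, rfl⟩
      apply Subtype.ext
      have : j z ∈ LinearMap.ker p := by rw [hker]; exact ⟨z, rfl⟩
      exact this
  have hcomm : (LinearMap.range φ).subtype ∘ₗ φ.rangeRestrict = p ∘ₗ L.subtype :=
    LinearMap.ext fun x => rfl
  have hji : L.subtype ∘ₗ i = j := LinearMap.ext fun x => rfl
  have hinj1 : Function.Injective ((L.subtype ∘ₗ i).rTensor M) := by
    rw [hji]
    exact hj
  exact rTensor_injective_of_chase M i L.subtype φ.rangeRestrict (LinearMap.range φ).subtype p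
    hex hsurj hcomm hinj1 (hP _)

theorem rTensor_subtype_injective_aux' (π : G →ₗ[R] F) (hπ : Function.Surjective π)
    (K : Submodule R F) (h : Function.Injective ((K.comap π).subtype.rTensor M)) :
    Function.Injective (K.subtype.rTensor M) := by
  have hkerL : LinearMap.ker π ≤ K.comap π := by
    intro z hz
    show π z ∈ K
    rw [LinearMap.mem_ker.mp hz]
    exact K.zero_mem
  let πL : K.comap π →ₗ[R] K := π.restrict (fun x hx => hx)
  refine rTensor_injective_of_chase' (R := R) M (a := Submodule.inclusion hkerL)
    (l := (K.comap π).subtype) (πL := πL) (k := K.subtype) (π := π) ?_ ?_ ?_ hπ ?_ h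
  · rintro ⟨y, hy⟩
    obtain ⟨g, rfl⟩ := hπ y
    exact ⟨⟨g, hy⟩, rfl⟩
  · ext z
    exact LinearMap.mem_ker.mp z.2
  · exact LinearMap.exact_subtype_ker_map π
  · rfl

end Aux

section Inf

variable {R : Type*} [CommRing R] (I : Ideal R) (A : Type*) [CommRing A] [Algebra R A]
  (M : Type*) [AddCommGroup M] [Module R M]

theorem range_mapRange_subtype_le (ι : Type*) :
    LinearMap.range (Finsupp.mapRange.linearMap (α := ι) I.subtype) ≤
      I • (⊤ : Submodule R (ι →₀ R)) := by
  rintro _ ⟨z, rfl⟩
  induction z using Finsupp.induction_linear with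
  | zero => simp
  | add f g hf hg => rw [map_add]; exact add_mem hf hg
  | single i a =>
    have : Finsupp.mapRange.linearMap (α := ι) I.subtype (Finsupp.single i a) =
        (a : R) • Finsupp.single i (1 : R) := by
      simp
    rw [this]
    exact Submodule.smul_mem_smul a.2 Submodule.mem_top

/-- Free case. -/
theorem rTensor_subtype_injective_free
    (hA : Function.Surjective (algebraMap R A)) (hker : RingHom.ker (algebraMap R A) = I)
    (h1 : Function.Injective (I.subtype.rTensor M))
    [Module.Flat A (A ⊗[R] M)] (ι : Type*) (L : Submodule R (ι →₀ R))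
    (hL : I • (⊤ : Submodule R (ι →₀ R)) ≤ L) : Function.Injective (L.subtype.rTensor M) := by
  have hkerA : LinearMap.ker (Algebra.linearMap R A) = I := by
    ext x
    rw [← hker, RingHom.mem_ker, LinearMap.mem_ker, Algebra.linearMap_apply]
  have hker : LinearMap.ker (Finsupp.mapRange.linearMap (α := ι) (Algebra.linearMap R A)) =
      LinearMap.range (Finsupp.mapRange.linearMap (α := ι) I.subtype) := by
    rw [Finsupp.ker_mapRange, Finsupp.range_mapRange_linearMap _ (Submodule.ker_subtype I),
      hkerA, Submodule.range_subtype]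
  exact rTensor_subtype_injective_aux M (Finsupp.mapRange.linearMap (α := ι) I.subtype)
    (Finsupp.mapRange.linearMap (α := ι) (Algebra.linearMap R A)) hker L
    ((range_mapRange_subtype_le I ι).trans hL) (rTensor_mapRange_injective M ι _ h1)
    (fun Q => rTensor_subtype_injective_of_surjective A M hA Q)

/-- General case, submodule version. -/
theorem rTensor_subtype_injective_of_smul_le
    (hA : Function.Surjective (algebraMap R A)) (hker : RingHom.ker (algebraMap R A) = I)
    (h1 : Function.Injective (I.subtype.rTensor M))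
    [Module.Flat A (A ⊗[R] M)] {F : Type*} [AddCommGroup F] [Module R F]
    (K : Submodule R F)
    (hK : I • (⊤ : Submodule R F) ≤ K) : Function.Injective (K.subtype.rTensor M) := by
  have hπ : Function.Surjective (Finsupp.linearCombination R (id : F → F)) :=
    Finsupp.linearCombination_id_surjective R F
  refine rTensor_subtype_injective_aux' M (Finsupp.linearCombination R (id : F → F)) hπ K ?_
  apply rTensor_subtype_injective_free I A M hA hker h1 F
  rw [Submodule.smul_le]
  intro r hr g _
  show Finsupp.linearCombination R (id : F → F) (r • g) ∈ K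
  rw [map_smul]
  exact hK (Submodule.smul_mem_smul hr Submodule.mem_top)

end Inf

section T

variable {R : Type*} [CommRing R] (M : Type*) [AddCommGroup M] [Module R M]

theorem rTensor_injective_of_range {K F : Type*} [AddCommGroup K] [Module R K]
    [AddCommGroup F] [Module R F] (f : K →ₗ[R] F) (hf : Function.Injective f)
    (h : Function.Injective ((LinearMap.range f).subtype.rTensor M)) :
    Function.Injective (f.rTensor M) := by
  have hfe : f = (LinearMap.range f).subtype ∘ₗ (LinearEquiv.ofInjective f hf).toLinearMap :=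
    LinearMap.ext fun x => rfl
  rw [hfe, LinearMap.rTensor_comp]
  exact h.comp ((LinearEquiv.ofInjective f hf).rTensor M).injective

variable (I : Ideal R) (A : Type*) [CommRing A] [Algebra R A]

/-- Infinitesimal criterion: `K ⊗ M → F ⊗ M` is injective as soon as `Iⁿ F ≤ K`. -/
theorem rTensor_subtype_injective_of_pow_smul_le
    (hA : Function.Surjective (algebraMap R A)) (hker : RingHom.ker (algebraMap R A) = I)
    (h1 : Function.Injective (I.subtype.rTensor M))
    [Module.Flat A (A ⊗[R] M)] (n : ℕ) {F : Type w} [AddCommGroup F] [Module R F]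
    (K : Submodule R F)
    (hK : I ^ n • (⊤ : Submodule R F) ≤ K) : Function.Injective (K.subtype.rTensor M) := by
  induction n generalizing F with
  | zero =>
    have hK' : K = ⊤ := by
      rw [eq_top_iff]
      refine le_trans ?_ hK
      rw [pow_zero, Ideal.one_eq_top, Submodule.top_smul]
    have : K.subtype = (LinearEquiv.ofTop K hK').toLinearMap := LinearMap.ext fun x => rfl
    rw [this]
    exact ((LinearEquiv.ofTop K hK').rTensor M).injective
  | succ n ih =>
    let K' : Submodule R F := K ⊔ I ^ n • ⊤
    have h2 : Function.Injective (K'.subtype.rTensor M) := ih K' le_sup_right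
    have hle : K ≤ K' := le_sup_left
    have h3 : Function.Injective ((Submodule.inclusion hle).rTensor M) := by
      apply rTensor_injective_of_range M _ (Submodule.inclusion_injective hle)
      apply rTensor_subtype_injective_of_smul_le I A M hA hker h1
      rw [Submodule.smul_le]
      rintro r hr ⟨x, hx⟩ -
      rw [Submodule.range_inclusion]
      show r • x ∈ K
      obtain ⟨k, hk, y, hy, rfl⟩ := Submodule.mem_sup.mp hx
      rw [smul_add]
      refine K.add_mem (K.smul_mem r hk) (hK ?_)
      rw [pow_succ', ← smul_smul]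
      exact Submodule.smul_mem_smul hr hy
    have : K.subtype = K'.subtype ∘ₗ Submodule.inclusion hle := LinearMap.ext fun x => rfl
    rw [this, LinearMap.rTensor_comp]
    exact h2.comp h3

end T

section Core

variable {R : Type u} [CommRing R] (M : Type v) [AddCommGroup M] [Module R M]

/-- Elements of `N ⊗ M` with `N ≤ 𝔟 E` map into `𝔟 (E ⊗ M)`. -/
theorem range_rTensor_subtype_le_smul_top {E : Type*} [AddCommGroup E] [Module R E]
    (𝔟 : Ideal R) (N : Submodule R E) (hN : N ≤ 𝔟 • (⊤ : Submodule R E)) :
    LinearMap.range (N.subtype.rTensor M) ≤ 𝔟 • (⊤ : Submodule R (E ⊗[R] M)) := by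
  rintro _ ⟨w, rfl⟩
  induction w using TensorProduct.induction_on with
  | zero => simp
  | tmul y m =>
    rw [LinearMap.rTensor_tmul]
    have hy : (N.subtype y) ∈ 𝔟 • (⊤ : Submodule R E) := hN y.2
    refine Submodule.smul_induction_on (p := fun e => e ⊗ₜ[R] m ∈ 𝔟 • (⊤ : Submodule R (E ⊗[R] M)))
      hy (fun r hr e _ => ?_) (fun a b ha hb => ?_)
    · rw [← smul_tmul']
      exact Submodule.smul_mem_smul hr Submodule.mem_top
    · rw [add_tmul]
      exact add_mem ha hb
  | add a b ha hb => rw [map_add]; exact add_mem ha hb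

/-- Abstract form of the key step. -/
theorem mem_range_rTensor_ker {F : Type*} [AddCommGroup F] [Module R F] (π : R →ₗ[R] F)
    (hF : ∀ Q : Submodule R F, Function.Injective (Q.subtype.rTensor M))
    (J : Ideal R) (x : J ⊗[R] M) (hx : J.subtype.rTensor M x = 0) :
    x ∈ LinearMap.range ((LinearMap.ker (π ∘ₗ J.subtype)).subtype.rTensor M) := by
  let φ : J →ₗ[R] F := π ∘ₗ J.subtype
  have hsurj : Function.Surjective φ.rangeRestrict := LinearMap.surjective_rangeRestrict φ
  have hex : Function.Exact (LinearMap.ker φ).subtype φ.rangeRestrict := by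
    intro y
    constructor
    · intro h
      exact ⟨⟨y, congrArg Subtype.val h⟩, rfl⟩
    · rintro ⟨z, rfl⟩
      exact Subtype.ext z.2
  have hex' := rTensor_exact M hex hsurj
  have hcomm : (LinearMap.range φ).subtype ∘ₗ φ.rangeRestrict = π ∘ₗ J.subtype :=
    LinearMap.ext fun x => rfl
  have h0 : φ.rangeRestrict.rTensor M x = 0 := by
    apply hF (LinearMap.range φ)
    rw [map_zero, ← LinearMap.rTensor_comp_apply, hcomm, LinearMap.rTensor_comp_apply, hx,
      map_zero]
  exact (hex' x).mp h0

variable [IsNoetherianRing R] (I : Ideal R)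

/-- Core lemma: Artin–Rees step. -/
theorem mem_pow_smul_top_of_rTensor_eq_zero
    (hc : ∀ n : ℕ, 0 < n → ∀ Q : Submodule R (R ⧸ I ^ n), Function.Injective (Q.subtype.rTensor M))
    (J : Ideal R) (x : J ⊗[R] M) (hx : J.subtype.rTensor M x = 0) (n : ℕ) :
    x ∈ I ^ n • (⊤ : Submodule R (J ⊗[R] M)) := by
  obtain ⟨k, hk⟩ := Ideal.exists_pow_inf_eq_pow_smul I (J : Submodule R R)
  have hmem := mem_range_rTensor_ker M (Submodule.mkQ (I ^ (n + k + 1)))
    (hc (n + k + 1) (Nat.succ_pos _)) J x hx
  refine range_rTensor_subtype_le_smul_top M (I ^ n) _ ?_ hmem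
  intro y hy
  have hy' : (y : R) ∈ I ^ (n + k + 1) := by
    have := LinearMap.mem_ker.mp hy
    rw [LinearMap.comp_apply, Submodule.mkQ_apply, Submodule.Quotient.mk_eq_zero] at this
    exact this
  have h1 : (y : R) ∈ I ^ (n + k + 1) • (⊤ : Submodule R R) ⊓ J := by
    refine ⟨?_, y.2⟩
    rw [smul_eq_mul, Ideal.mul_top]
    exact hy'
  rw [hk (n + k + 1) (by omega)] at h1
  have h2 : (y : R) ∈ I ^ n • (J : Submodule R R) := by
    have hle : I ^ (n + k + 1 - k) • (I ^ k • (⊤ : Submodule R R) ⊓ J) ≤ I ^ n • J := by
      have : n + k + 1 - k = n + 1 := by omega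
      rw [this]
      refine le_trans (Submodule.smul_mono (Ideal.pow_le_pow_right (Nat.le_succ n)) inf_le_right)
        le_rfl
    exact hle h1
  have h3 : I ^ n • (J : Submodule R R) =
      Submodule.map J.subtype (I ^ n • (⊤ : Submodule R J)) := by
    rw [Submodule.map_smul'', Submodule.map_subtype_top]
  rw [h3] at h2
  obtain ⟨y', hy', hyy'⟩ := h2
  have : y' = y := Subtype.ext hyy'
  rw [← this]
  exact hy'

end Core

section Krull

variable {R S : Type*} [CommRing R] [CommRing S] [Algebra R S]

/-- The tensor product of a finite `S`-module with a finite `R`-module is finite over `S`. -/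
theorem finite_tensorProduct (M N : Type*) [AddCommGroup M] [Module R M] [Module S M]
    [IsScalarTower R S M] [Module.Finite S M] [AddCommGroup N] [Module R N] [Module.Finite R N] :
    Module.Finite S (M ⊗[R] N) :=
  Module.Finite.equiv (AlgebraTensorModule.cancelBaseChange R S S M N)

theorem pow_smul_top_restrictScalars (I : Ideal R) (N : Type*) [AddCommGroup N] [Module R N]
    [Module S N] [IsScalarTower R S N] (n : ℕ) :
    ((I.map (algebraMap R S)) ^ n • (⊤ : Submodule S N)).restrictScalars R =
      I ^ n • (⊤ : Submodule R N) := by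
  rw [← Ideal.map_pow, Ideal.smul_restrictScalars, Submodule.restrictScalars_top]

/-- Krull intersection theorem for an ideal of `R` acting on a finite module over a Noetherian
local `R`-algebra. -/
theorem iInf_pow_smul_top_eq_bot [IsNoetherianRing S] [IsLocalRing S] (I : Ideal R)
    (hI : I.map (algebraMap R S) ≠ ⊤) (N : Type*) [AddCommGroup N] [Module R N]
    [Module S N] [IsScalarTower R S N] [Module.Finite S N] (x : N)
    (hx : ∀ n : ℕ, x ∈ I ^ n • (⊤ : Submodule R N)) : x = 0 := by
  have h := Ideal.iInf_pow_smul_eq_bot_of_isLocalRing (I.map (algebraMap R S)) (M := N) hI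
  have : x ∈ (⨅ i : ℕ, (I.map (algebraMap R S)) ^ i • ⊤ : Submodule S N) := by
    rw [Submodule.mem_iInf]
    intro n
    have := hx n
    rw [← pow_smul_top_restrictScalars (S := S)] at this
    exact this
  rw [h] at this
  exact this

theorem map_ne_top_of_isLocalHom [IsLocalRing R] [IsLocalRing S] [IsLocalHom (algebraMap R S)]
    (I : Ideal R) (hI : I ≠ ⊤) : I.map (algebraMap R S) ≠ ⊤ := by
  have h1 : I ≤ IsLocalRing.maximalIdeal R := IsLocalRing.le_maximalIdeal hI
  have h2 := IsLocalRing.map_maximalIdeal_le (algebraMap R S)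
  intro h
  have h3 : (⊤ : Ideal S) ≤ IsLocalRing.maximalIdeal S := by
    rw [← h]
    exact (Ideal.map_mono h1).trans h2
  exact (IsLocalRing.maximalIdeal.isMaximal S).ne_top (top_le_iff.mp h3)

end Krull

section Main

theorem pow_smul_top_quotient_le {R : Type*} [CommRing R] (𝔞 : Ideal R)
    (Q : Submodule R (R ⧸ 𝔞)) : 𝔞 • (⊤ : Submodule R (R ⧸ 𝔞)) ≤ Q := by
  rw [Submodule.smul_le]
  intro r hr y _
  obtain ⟨y, rfl⟩ := Submodule.mkQ_surjective _ y
  have : r • Submodule.mkQ 𝔞 y = 0 := by
    rw [← map_smul, Submodule.mkQ_apply, Submodule.Quotient.mk_eq_zero, smul_eq_mul]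
    exact 𝔞.mul_mem_right y hr
  rw [this]
  exact Q.zero_mem

/-- Local criterion of flatness (variant), general form. -/
theorem flat_of_rTensor_injective_of_flat_quotient {R : Type u} {S : Type v} {M : Type w}
    [CommRing R] [CommRing S] [IsNoetherianRing R] [IsNoetherianRing S] [IsLocalRing S]
    [Algebra R S] [AddCommGroup M] [Module R M] [Module S M] [IsScalarTower R S M]
    [Module.Finite S M] (I : Ideal R) (hI : I.map (algebraMap R S) ≠ ⊤)
    (h1 : Function.Injective (LinearMap.rTensor M (Submodule.subtype I)))
    [h2 : Module.Flat (R ⧸ I) ((R ⧸ I) ⊗[R] M)] : Module.Flat R M := by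
  rw [Module.Flat.iff_rTensor_injective']
  intro J
  rw [injective_iff_map_eq_zero]
  intro x hx
  have hc : ∀ n : ℕ, 0 < n → ∀ Q : Submodule R (R ⧸ I ^ n),
      Function.Injective (Q.subtype.rTensor M) := by
    intro n _ Q
    exact rTensor_subtype_injective_of_pow_smul_le M I (R ⧸ I) Ideal.Quotient.mk_surjective
      Ideal.mk_ker h1 n Q (pow_smul_top_quotient_le (I ^ n) Q)
  have hmem := mem_pow_smul_top_of_rTensor_eq_zero M I hc J x hx
  have : Module.Finite R J := Module.Finite.of_fg (IsNoetherian.noetherian J)
  have := finite_tensorProduct (R := R) (S := S) M J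
  have : TensorProduct.comm R J M x = 0 := by
    apply iInf_pow_smul_top_eq_bot (S := S) I hI (M ⊗[R] J)
    intro n
    have h3 : Submodule.map (TensorProduct.comm R J M).toLinearMap
        (I ^ n • (⊤ : Submodule R (J ⊗[R] M))) = I ^ n • ⊤ := by
      rw [Submodule.map_smul'', Submodule.map_top, LinearEquiv.range]
    rw [← h3]
    exact Submodule.mem_map_of_mem (hmem n)
  exact (TensorProduct.comm R J M).injective (by rw [this, map_zero])

end Main

section P

variable {R : Type*} [CommRing R] {N M : Type*} [AddCommGroup N] [Module R N]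
  [AddCommGroup M] [Module R M] (u : N →ₗ[R] M)

/-- If `A ⊗ u` is injective and `P` is a flat `A`-module then `P ⊗ u` is injective. -/
theorem lTensor_injective_of_flat_of_baseChange (A : Type*) [CommRing A] [Algebra R A]
    (hu : Function.Injective (u.lTensor A))
    (P : Type*) [AddCommGroup P] [Module R P] [Module A P] [IsScalarTower R A P]
    [Module.Flat A P] : Function.Injective (u.lTensor P) := by
  have h1 : Function.Injective (AlgebraTensorModule.lTensor A A u) := hu
  have h2 := Module.Flat.lTensor_preserves_injective_linearMap (M := P) _ h1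
  have key := AlgebraTensorModule.lTensor_comp_cancelBaseChange (R := R) (A := A) (B := A)
    (M := P) u
  intro x y hxy
  obtain ⟨x', rfl⟩ := (AlgebraTensorModule.cancelBaseChange R A A P N).surjective x
  obtain ⟨y', rfl⟩ := (AlgebraTensorModule.cancelBaseChange R A A P N).surjective y
  have hx := LinearMap.congr_fun key x'
  have hy := LinearMap.congr_fun key y'
  simp only [LinearMap.coe_comp, Function.comp_apply, LinearEquiv.coe_coe] at hx hy
  have hx' : u.lTensor P (AlgebraTensorModule.cancelBaseChange R A A P N x') =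
      AlgebraTensorModule.cancelBaseChange R A A P M
        ((AlgebraTensorModule.lTensor A A u).lTensor P x') := hx
  have hy' : u.lTensor P (AlgebraTensorModule.cancelBaseChange R A A P N y') =
      AlgebraTensorModule.cancelBaseChange R A A P M
        ((AlgebraTensorModule.lTensor A A u).lTensor P y') := hy
  rw [hx', hy'] at hxy
  rw [h2 ((AlgebraTensorModule.cancelBaseChange R A A P M).injective hxy)]

/-- Third diagram chase (for `lTensor`). -/
theorem lTensor_injective_of_chase {P' P P'' : Type*} [AddCommGroup P'] [Module R P']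
    [AddCommGroup P] [Module R P] [AddCommGroup P''] [Module R P'']
    (i : P' →ₗ[R] P) (q : P →ₗ[R] P'') (hex : Function.Exact i q) (hq : Function.Surjective q)
    (hi : Function.Injective (i.rTensor M))
    (h' : Function.Injective (u.lTensor P')) (h'' : Function.Injective (u.lTensor P'')) :
    Function.Injective (u.lTensor P) := by
  rw [injective_iff_map_eq_zero]
  intro x hx
  have hex' := rTensor_exact N hex hq
  have h0 : q.rTensor N x = 0 := by
    apply h''
    rw [map_zero, ← LinearMap.comp_apply, LinearMap.lTensor_comp_rTensor,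
      ← LinearMap.rTensor_comp_lTensor, LinearMap.comp_apply, hx, map_zero]
  obtain ⟨z, rfl⟩ := (hex' x).mp h0
  have hz : z = 0 := by
    apply h'
    apply hi
    rw [map_zero, map_zero, ← LinearMap.comp_apply, LinearMap.rTensor_comp_lTensor,
      ← LinearMap.lTensor_comp_rTensor, LinearMap.comp_apply, hx]
  rw [hz, map_zero]

end P

section P2

variable {R : Type*} [CommRing R] {N M : Type*} [AddCommGroup N] [Module R N]
  [AddCommGroup M] [Module R M] (u : N →ₗ[R] M)

theorem lTensor_injective_of_pow_smul_eq_bot (m : Ideal R) [Module.Flat R M]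
    (h1 : ∀ (P : Type w) [AddCommGroup P] [Module R P], m • (⊤ : Submodule R P) = ⊥ →
      Function.Injective (u.lTensor P))
    (n : ℕ) (P : Type w) [AddCommGroup P] [Module R P] (hP : m ^ n • (⊤ : Submodule R P) = ⊥) :
    Function.Injective (u.lTensor P) := by
  induction n generalizing P with
  | zero =>
    rw [pow_zero, Ideal.one_eq_top, Submodule.top_smul] at hP
    have h1 : Subsingleton (Submodule R P) := subsingleton_of_bot_eq_top hP.symm
    have h2 : Subsingleton P := (Submodule.subsingleton_iff R).mp h1
    exact Function.injective_of_subsingleton _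
  | succ n ih =>
    let P' : Submodule R P := m • ⊤
    have hP' : m ^ n • (⊤ : Submodule R P') = ⊥ := by
      apply Submodule.map_injective_of_injective P'.subtype_injective
      rw [Submodule.map_smul'', Submodule.map_subtype_top, Submodule.map_bot]
      show m ^ n • (m • (⊤ : Submodule R P)) = ⊥
      rw [← hP, pow_succ, mul_smul]
    have hP'' : m • (⊤ : Submodule R (P ⧸ P')) = ⊥ := by
      have : (⊤ : Submodule R (P ⧸ P')) = Submodule.map P'.mkQ ⊤ := by
        rw [Submodule.map_top, Submodule.range_mkQ]
      rw [this, ← Submodule.map_smul'', ← LinearMap.le_ker_iff_map, Submodule.ker_mkQ]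
    exact lTensor_injective_of_chase u P'.subtype P'.mkQ (LinearMap.exact_subtype_mkQ P')
      (Submodule.mkQ_surjective P')
      (Module.Flat.rTensor_preserves_injective_linearMap _ P'.subtype_injective)
      (ih P' hP') (h1 (P ⧸ P') hP'')

end P2

section P3

variable {R : Type*} [CommRing R] {N M : Type*} [AddCommGroup N] [Module R N]
  [AddCommGroup M] [Module R M] (u : N →ₗ[R] M)

theorem lTensor_injective_of_residueField [IsLocalRing R]
    (h : Function.Injective (u.lTensor (IsLocalRing.ResidueField R)))
    (P : Type*) [AddCommGroup P] [Module R P]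
    (hP : IsLocalRing.maximalIdeal R • (⊤ : Submodule R P) = ⊥) :
    Function.Injective (u.lTensor P) := by
  have hT : Module.IsTorsionBySet R P (IsLocalRing.maximalIdeal R : Set R) := by
    intro x a
    have : (a : R) • x ∈ IsLocalRing.maximalIdeal R • (⊤ : Submodule R P) :=
      Submodule.smul_mem_smul a.2 Submodule.mem_top
    rw [hP] at this
    exact (Submodule.mem_bot R).mp this
  let _ : Module (IsLocalRing.ResidueField R) P := hT.module
  have : IsScalarTower R (IsLocalRing.ResidueField R) P :=
    IsScalarTower.of_algebraMap_smul (fun r x => rfl)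
  exact lTensor_injective_of_flat_of_baseChange u (IsLocalRing.ResidueField R) h P

end P3

section Q

variable {R : Type*} [CommRing R] {N M : Type*} [AddCommGroup N] [Module R N]
  [AddCommGroup M] [Module R M] (u : N →ₗ[R] M)

theorem mem_smul_top_of_map_mem (𝔞 : Ideal R)
    (h : Function.Injective (u.lTensor (R ⧸ 𝔞))) (x : N) (hx : u x ∈ 𝔞 • (⊤ : Submodule R M)) :
    x ∈ 𝔞 • (⊤ : Submodule R N) := by
  have h1 : (1 : R ⧸ 𝔞) ⊗ₜ[R] (u x) = 0 := by
    apply (quotTensorEquivQuotSMul M 𝔞).injective
    rw [quotTensorEquivQuotSMul_mk_one_tmul, map_zero, Submodule.Quotient.mk_eq_zero]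
    exact hx
  have h2 : (1 : R ⧸ 𝔞) ⊗ₜ[R] x = 0 := by
    apply h
    rw [LinearMap.lTensor_tmul, h1, map_zero]
  have h3 := congrArg (quotTensorEquivQuotSMul N 𝔞) h2
  rw [quotTensorEquivQuotSMul_mk_one_tmul, map_zero, Submodule.Quotient.mk_eq_zero] at h3
  exact h3

/-- Krull's intersection theorem modulo `J`. -/
theorem mem_smul_top_of_forall_mem_sup_pow {S : Type*} [CommRing S] [Algebra R S]
    [IsNoetherianRing S] [IsLocalRing S] (m : Ideal R) (hm : m.map (algebraMap R S) ≠ ⊤)
    [Module S N] [IsScalarTower R S N] [Module.Finite S N] (J : Ideal R) (x : N)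
    (hx : ∀ n : ℕ, x ∈ (J ⊔ m ^ n) • (⊤ : Submodule R N)) : x ∈ J • (⊤ : Submodule R N) := by
  let N' : Submodule S N := (J.map (algebraMap R S)) • ⊤
  have hN' : N'.restrictScalars R = J • (⊤ : Submodule R N) := by
    rw [Ideal.smul_restrictScalars, Submodule.restrictScalars_top]
  let q : N →ₗ[R] (N ⧸ N') := N'.mkQ.restrictScalars R
  have hq : q x = 0 := by
    apply iInf_pow_smul_top_eq_bot (S := S) m hm (N ⧸ N')
    intro n
    have h1 := hx n
    rw [Submodule.sup_smul] at h1
    obtain ⟨a, ha, b, hb, rfl⟩ := Submodule.mem_sup.mp h1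
    have ha' : q a = 0 := by
      rw [← hN'] at ha
      exact (Submodule.Quotient.mk_eq_zero N').mpr ha
    rw [map_add, ha', zero_add]
    have : Submodule.map q (m ^ n • (⊤ : Submodule R N)) ≤ m ^ n • ⊤ := by
      rw [Submodule.map_smul'']
      exact Submodule.smul_mono le_rfl le_top
    exact this (Submodule.mem_map_of_mem hb)
  rw [← hN']
  exact (Submodule.Quotient.mk_eq_zero N').mp hq

end Q

section Main2

variable {R : Type u} [CommRing R] {N M : Type*} [AddCommGroup N] [Module R N]
  [AddCommGroup M] [Module R M] (u : N →ₗ[R] M)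

theorem lid_rTensor_subtype_mem (J : Ideal R) (y : J ⊗[R] M) :
    TensorProduct.lid R M (J.subtype.rTensor M y) ∈ J • (⊤ : Submodule R M) := by
  induction y using TensorProduct.induction_on with
  | zero => simp
  | tmul j m =>
    rw [LinearMap.rTensor_tmul, TensorProduct.lid_tmul]
    exact Submodule.smul_mem_smul j.2 Submodule.mem_top
  | add a b ha hb => rw [map_add, map_add]; exact add_mem ha hb

theorem exists_lid_rTensor_subtype_eq (J : Ideal R) (n : M) (hn : n ∈ J • (⊤ : Submodule R M)) :
    ∃ z : J ⊗[R] M, TensorProduct.lid R M (J.subtype.rTensor M z) = n := by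
  refine Submodule.smul_induction_on hn (fun r hr m _ => ⟨(⟨r, hr⟩ : J) ⊗ₜ[R] m, ?_⟩) ?_
  · rw [LinearMap.rTensor_tmul, TensorProduct.lid_tmul]
    rfl
  · rintro a b ⟨za, rfl⟩ ⟨zb, rfl⟩
    exact ⟨za + zb, by rw [map_add, map_add]⟩

variable [IsLocalRing R] [Module.Flat R M] {S : Type v} [CommRing S] [Algebra R S]
  [IsNoetherianRing S] [IsLocalRing S] [IsLocalHom (algebraMap R S)]
  [Module S N] [IsScalarTower R S N] [Module.Finite S N]

include S in
theorem mem_smul_top_of_map_mem_of_residueField
    (h : Function.Injective (u.lTensor (IsLocalRing.ResidueField R))) (J : Ideal R) (x : N)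
    (hx : u x ∈ J • (⊤ : Submodule R M)) : x ∈ J • (⊤ : Submodule R N) := by
  apply mem_smul_top_of_forall_mem_sup_pow (S := S) (IsLocalRing.maximalIdeal R)
    (map_ne_top_of_isLocalHom _ (IsLocalRing.maximalIdeal.isMaximal R).ne_top) J x
  intro n
  apply mem_smul_top_of_map_mem u (J ⊔ IsLocalRing.maximalIdeal R ^ n) ?_ x
    (Submodule.smul_mono le_sup_left le_rfl hx)
  apply lTensor_injective_of_pow_smul_eq_bot u (IsLocalRing.maximalIdeal R)
    (fun P _ _ hP => lTensor_injective_of_residueField u h P hP) n
  rw [eq_bot_iff]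
  exact (Submodule.smul_mono le_sup_right le_rfl).trans (pow_smul_top_quotient_le _ ⊥)

include S in
theorem injective_of_lTensor_residueField_injective
    (h : Function.Injective (u.lTensor (IsLocalRing.ResidueField R))) :
    Function.Injective u := by
  rw [injective_iff_map_eq_zero]
  intro x hx
  have := mem_smul_top_of_map_mem_of_residueField (S := S) u h ⊥ x (by rw [hx]; exact zero_mem _)
  rw [Submodule.bot_smul] at this
  exact (Submodule.mem_bot R).mp this

include S in
theorem flat_quotient_range_of_lTensor_residueField_injective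
    (h : Function.Injective (u.lTensor (IsLocalRing.ResidueField R))) :
    Module.Flat R (M ⧸ LinearMap.range u) := by
  rw [Module.Flat.iff_rTensor_injective']
  intro J
  rw [injective_iff_map_eq_zero]
  intro x hx
  let π := (LinearMap.range u).mkQ
  have hπ : Function.Surjective π := Submodule.mkQ_surjective _
  have hex : Function.Exact u π := LinearMap.exact_map_mkQ_range u
  obtain ⟨y, rfl⟩ := LinearMap.lTensor_surjective J hπ x
  have h1 : π.lTensor R (J.subtype.rTensor M y) = 0 := by
    rw [← LinearMap.comp_apply, LinearMap.lTensor_comp_rTensor, ← LinearMap.rTensor_comp_lTensor,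
      LinearMap.comp_apply, hx]
  obtain ⟨w, hw⟩ := (lTensor_exact R hex hπ _).mp h1
  have hnat : ∀ w : R ⊗[R] N, u (TensorProduct.lid R N w) =
      TensorProduct.lid R M (u.lTensor R w) := by
    intro w
    induction w using TensorProduct.induction_on with
    | zero => simp
    | tmul r n => simp
    | add a b ha hb => simp only [map_add, ha, hb]
  have h2 : u (TensorProduct.lid R N w) = TensorProduct.lid R M (J.subtype.rTensor M y) := by
    rw [← hw, hnat]
  have h3 := mem_smul_top_of_map_mem_of_residueField (S := S) u h J (TensorProduct.lid R N w)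
    (by rw [h2]; exact lid_rTensor_subtype_mem J y)
  obtain ⟨z, hz⟩ := exists_lid_rTensor_subtype_eq J _ h3
  have hz' : J.subtype.rTensor N z = w := (TensorProduct.lid R N).injective hz
  have h4 : J.subtype.rTensor M (u.lTensor J z) = J.subtype.rTensor M y := by
    rw [← LinearMap.comp_apply, LinearMap.rTensor_comp_lTensor, ← LinearMap.lTensor_comp_rTensor,
      LinearMap.comp_apply, hz', hw]
  have h5 : u.lTensor J z = y :=
    Module.Flat.rTensor_preserves_injective_linearMap _ J.subtype_injective h4
  rw [← h5, ← LinearMap.comp_apply, ← LinearMap.lTensor_comp]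
  have : π ∘ₗ u = 0 := LinearMap.range_mkQ_comp u
  rw [this, LinearMap.lTensor_zero, LinearMap.zero_apply]

end Main2

section R

variable {R : Type*} [CommRing R] {N M : Type*} [AddCommGroup N] [Module R N]
  [AddCommGroup M] [Module R M] (u : N →ₗ[R] M)

theorem lTensor_quotient_injective_iff (𝔞 : Ideal R) :
    Function.Injective (u.lTensor (R ⧸ 𝔞)) ↔
      ∀ x : N, u x ∈ 𝔞 • (⊤ : Submodule R M) → x ∈ 𝔞 • (⊤ : Submodule R N) := by
  constructor
  · intro h x hx
    exact mem_smul_top_of_map_mem u 𝔞 h x hx
  · intro h
    rw [injective_iff_map_eq_zero]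
    intro t ht
    obtain ⟨s, hs⟩ := Submodule.Quotient.mk_surjective _ (quotTensorEquivQuotSMul N 𝔞 t)
    have ht' : t = (1 : R ⧸ 𝔞) ⊗ₜ[R] s := by
      apply (quotTensorEquivQuotSMul N 𝔞).injective
      rw [← hs]
      exact (quotTensorEquivQuotSMul_mk_one_tmul _ s).symm
    rw [ht'] at ht ⊢
    rw [LinearMap.lTensor_tmul] at ht
    have h1 := congrArg (quotTensorEquivQuotSMul M 𝔞) ht
    rw [quotTensorEquivQuotSMul_mk_one_tmul, map_zero, Submodule.Quotient.mk_eq_zero] at h1
    apply (quotTensorEquivQuotSMul N 𝔞).injective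
    rw [quotTensorEquivQuotSMul_mk_one_tmul, map_zero, Submodule.Quotient.mk_eq_zero]
    exact h _ h1

theorem lTensor_residueField_injective_iff [IsLocalRing R] :
    Function.Injective (u.lTensor (IsLocalRing.ResidueField R)) ↔
      ∀ x : N, u x ∈ IsLocalRing.maximalIdeal R • (⊤ : Submodule R M) →
        x ∈ IsLocalRing.maximalIdeal R • (⊤ : Submodule R N) :=
  lTensor_quotient_injective_iff u (IsLocalRing.maximalIdeal R)

end R

section BC

variable {R S : Type*} [CommRing R] [CommRing S] [Algebra R S] (I : Ideal R)
  (M : Type*) [AddCommGroup M] [Module R M] [Module S M] [IsScalarTower R S M]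

/-- The canonical map `I ⊗[R] M → IS ⊗[S] M`. -/
noncomputable def idealMapTensor : I ⊗[R] M →ₗ[R] (I.map (algebraMap R S)) ⊗[S] M :=
  (TensorProduct.mapOfCompatibleSMul S R R (I.map (algebraMap R S)) M) ∘ₗ
    (TensorProduct.map (Algebra.idealMap S I) LinearMap.id)

theorem idealMapTensor_tmul (r : I) (x : M) :
    idealMapTensor I M (r ⊗ₜ[R] x) = (Algebra.idealMap S I r) ⊗ₜ[S] x := rfl

theorem idealMapTensor_surjective : Function.Surjective (idealMapTensor (S := S) I M) := by
  intro t
  induction t using TensorProduct.induction_on with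
  | zero => exact ⟨0, map_zero _⟩
  | add a b ha hb =>
    obtain ⟨a', rfl⟩ := ha
    obtain ⟨b', rfl⟩ := hb
    exact ⟨a' + b', map_add _ _ _⟩
  | tmul n x =>
    obtain ⟨n, hn⟩ := n
    have key : ∀ (n : S) (hn : n ∈ I.map (algebraMap R S)) (x : M),
        ∃ t, idealMapTensor I M t = (⟨n, hn⟩ : I.map (algebraMap R S)) ⊗ₜ[S] x := by
      intro n hn
      refine Submodule.span_induction (p := fun n hn => ∀ x : M,
        ∃ t, idealMapTensor I M t = (⟨n, hn⟩ : I.map (algebraMap R S)) ⊗ₜ[S] x)
        ?_ ?_ ?_ ?_ hn
      · rintro _ ⟨r, hr, rfl⟩ x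
        exact ⟨(⟨r, hr⟩ : I) ⊗ₜ[R] x, rfl⟩
      · intro x
        refine ⟨0, ?_⟩
        rw [map_zero]
        exact (zero_tmul _ _).symm
      · intro a b ha hb iha ihb x
        obtain ⟨ta, hta⟩ := iha x
        obtain ⟨tb, htb⟩ := ihb x
        refine ⟨ta + tb, ?_⟩
        rw [map_add, hta, htb, ← add_tmul]
        rfl
      · intro s a ha iha x
        obtain ⟨t, ht⟩ := iha (s • x)
        refine ⟨t, ?_⟩
        rw [ht, ← smul_tmul]
        rfl
    exact key n hn x

theorem lid_rTensor_idealMapTensor (t : I ⊗[R] M) :
    TensorProduct.lid S M ((I.map (algebraMap R S)).subtype.rTensor M (idealMapTensor I M t)) =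
      TensorProduct.lid R M (I.subtype.rTensor M t) := by
  induction t using TensorProduct.induction_on with
  | zero => simp
  | tmul r x =>
    rw [idealMapTensor_tmul, LinearMap.rTensor_tmul, LinearMap.rTensor_tmul, lid_tmul, lid_tmul]
    exact algebraMap_smul S (r : R) x
  | add a b ha hb => simp only [map_add, ha, hb]

/-- Vanishing of `Tor₁(R/I, M)` passes to `Tor₁(S/IS, M)`. -/
theorem rTensor_map_subtype_injective (h : Function.Injective (I.subtype.rTensor M)) :
    Function.Injective ((I.map (algebraMap R S)).subtype.rTensor M) := by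
  rw [injective_iff_map_eq_zero]
  intro t ht
  obtain ⟨t', rfl⟩ := idealMapTensor_surjective (S := S) I M t
  have h1 := lid_rTensor_idealMapTensor (S := S) I M t'
  rw [ht, map_zero] at h1
  have h2 : I.subtype.rTensor M t' = 0 :=
    (TensorProduct.lid R M).injective (by rw [← h1, map_zero])
  have h3 : t' = 0 := h (by rw [h2, map_zero])
  rw [h3, map_zero]

end BC

section FF

variable {R S : Type*} [CommRing R] [CommRing S] [Algebra R S]
  (M : Type*) [AddCommGroup M] [Module R M] [Module S M] [IsScalarTower R S M]

include M in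
/-- If some faithfully flat `S`-module is flat over `R`, then `S` is flat over `R`. -/
theorem flat_of_faithfullyFlat_of_flat [Module.FaithfullyFlat S M] [Module.Flat R M] :
    Module.Flat R S := by
  rw [Module.Flat.iff_lTensor_injective']
  intro J
  let g : S ⊗[R] J →ₗ[S] S ⊗[R] R := AlgebraTensorModule.lTensor S S J.subtype
  show Function.Injective g
  rw [← Module.FaithfullyFlat.lTensor_injective_iff_injective S M g]
  have key := AlgebraTensorModule.lTensor_comp_cancelBaseChange (R := R) (A := S) (B := S)
    (M := M) J.subtype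
  have hflat : Function.Injective (J.subtype.lTensor M) :=
    Module.Flat.lTensor_preserves_injective_linearMap _ J.subtype_injective
  intro x y hxy
  apply (AlgebraTensorModule.cancelBaseChange R S S M J).injective
  apply hflat
  have hx := LinearMap.congr_fun key x
  have hy := LinearMap.congr_fun key y
  simp only [LinearMap.coe_comp, Function.comp_apply, LinearEquiv.coe_coe] at hx hy
  have hx' : J.subtype.lTensor M (AlgebraTensorModule.cancelBaseChange R S S M J x) =
      AlgebraTensorModule.cancelBaseChange R S S M R (g.lTensor M x) := hx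
  have hy' : J.subtype.lTensor M (AlgebraTensorModule.cancelBaseChange R S S M J y) =
      AlgebraTensorModule.cancelBaseChange R S S M R (g.lTensor M y) := hy
  rw [hx', hy', hxy]

end FF

section FF2

variable {S S' : Type*} [CommRing S] [CommRing S'] [Algebra S S'] [IsLocalRing S] [IsLocalRing S']
  [IsLocalHom (algebraMap S S')]
  (M : Type*) [AddCommGroup M] [Module S M] [Module S' M] [IsScalarTower S S' M]

include S' in
theorem faithfullyFlat_of_flat_of_finite_of_isLocalHom [Module.Finite S' M] [Nontrivial M]
    [Module.Flat S M] : Module.FaithfullyFlat S M := by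
  refine ⟨fun m hm htop => ?_⟩
  have hm' : m = IsLocalRing.maximalIdeal S := IsLocalRing.eq_maximalIdeal hm
  have h1 : (m.map (algebraMap S S')) • (⊤ : Submodule S' M) = ⊤ := by
    apply Submodule.restrictScalars_injective S
    rw [Ideal.smul_restrictScalars, Submodule.restrictScalars_top, htop]
  have h2 : m.map (algebraMap S S') ≤ Ideal.jacobson ⊥ := by
    rw [hm']
    exact (IsLocalRing.map_maximalIdeal_le (algebraMap S S')).trans
      (IsLocalRing.maximalIdeal_le_jacobson ⊥)
  have h3 := Submodule.eq_bot_of_le_smul_of_le_jacobson_bot (m.map (algebraMap S S'))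
    (⊤ : Submodule S' M) (Module.finite_def.mp inferInstance) h1.ge h2
  have : Subsingleton M := by
    rw [← Submodule.subsingleton_iff S']
    exact subsingleton_of_bot_eq_top h3.symm
  exact not_subsingleton M this

end FF2

section Nil

theorem eq_top_of_sup_smul_top_of_pow_eq_bot {R M : Type*} [CommRing R] [AddCommGroup M]
    [Module R M] (I : Ideal R) (n : ℕ) (hI : I ^ n = ⊥) (N : Submodule R M)
    (h : ⊤ ≤ N ⊔ I • (⊤ : Submodule R M)) : N = ⊤ := by
  have key : ∀ k : ℕ, ⊤ ≤ N ⊔ I ^ k • (⊤ : Submodule R M) := by
    intro k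
    induction k with
    | zero => rw [pow_zero, Ideal.one_eq_top, Submodule.top_smul]; exact le_sup_right
    | succ k ih =>
      calc (⊤ : Submodule R M) ≤ N ⊔ I ^ k • (⊤ : Submodule R M) := ih
        _ ≤ N ⊔ I ^ k • (N ⊔ I • (⊤ : Submodule R M)) :=
          sup_le_sup_left (Submodule.smul_mono le_rfl h) _
        _ = N ⊔ (I ^ k • N ⊔ I ^ k • I • (⊤ : Submodule R M)) := by rw [Submodule.smul_sup]
        _ ≤ N ⊔ I ^ (k + 1) • (⊤ : Submodule R M) := by
          rw [← sup_assoc]
          refine sup_le_sup (sup_le le_rfl Submodule.smul_le_right) ?_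
          rw [← mul_smul, ← pow_succ]
  have := key n
  rw [hI, Submodule.bot_smul, sup_bot_eq] at this
  exact top_le_iff.mp this

variable {R : Type u} [CommRing R] [IsLocalRing R]

local notation "𝔪" => IsLocalRing.maximalIdeal R

/-- Over a local ring with nilpotent maximal ideal, flat modules are free. -/
theorem free_of_flat_of_isNilpotent_maximalIdeal {M : Type v}
    (hR : IsNilpotent (IsLocalRing.maximalIdeal R))
    [AddCommGroup M] [Module R M] [Module.Flat R M] : Module.Free R M := by
  classical
  obtain ⟨n, hn⟩ := hR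
  let _ : Field (R ⧸ 𝔪) := Ideal.Quotient.field _
  let b := Module.Free.chooseBasis (R ⧸ 𝔪) ((R ⧸ 𝔪) ⊗[R] M)
  have hzero : ∀ m : M, (1 : R ⧸ 𝔪) ⊗ₜ[R] m = 0 ↔ m ∈ 𝔪 • (⊤ : Submodule R M) := by
    intro m
    rw [← (quotTensorEquivQuotSMul M 𝔪).map_eq_zero_iff, quotTensorEquivQuotSMul_mk_one_tmul,
      Submodule.Quotient.mk_eq_zero]
  have hsurj : ∀ z : (R ⧸ 𝔪) ⊗[R] M, ∃ m : M, (1 : R ⧸ 𝔪) ⊗ₜ[R] m = z := by
    intro z
    obtain ⟨m, hm⟩ := Submodule.Quotient.mk_surjective _ (quotTensorEquivQuotSMul M 𝔪 z)
    refine ⟨m, ?_⟩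
    apply (quotTensorEquivQuotSMul M 𝔪).injective
    rw [quotTensorEquivQuotSMul_mk_one_tmul, hm]
  choose x hx using fun i => hsurj (b i)
  let u := Finsupp.linearCombination R x
  have key : ∀ y, (1 : R ⧸ 𝔪) ⊗ₜ[R] (u y) =
      Finsupp.linearCombination (R ⧸ 𝔪) b
        (Finsupp.mapRange (Ideal.Quotient.mk 𝔪) (map_zero _) y) := by
    intro y
    induction y using Finsupp.induction_linear with
    | zero => simp
    | add f g hf hg => rw [map_add, tmul_add, hf, hg, Finsupp.mapRange_add (map_add _), map_add]
    | single i r =>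
      rw [Finsupp.mapRange_single, Finsupp.linearCombination_single,
        Finsupp.linearCombination_single, tmul_smul, hx i]
      rfl
  have hsurjU : Function.Surjective u := by
    rw [← LinearMap.range_eq_top]
    apply eq_top_of_sup_smul_top_of_pow_eq_bot 𝔪 n hn
    intro m _
    obtain ⟨c, hc⟩ := Finsupp.mapRange_surjective (Ideal.Quotient.mk 𝔪) (map_zero _)
      Ideal.Quotient.mk_surjective (b.repr ((1 : R ⧸ 𝔪) ⊗ₜ[R] m))
    have h0 : (1 : R ⧸ 𝔪) ⊗ₜ[R] (m - u c) = 0 := by
      rw [tmul_sub, key, hc, Module.Basis.linearCombination_repr, sub_self]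
    rw [hzero] at h0
    have hm : m = u c + (m - u c) := by abel
    rw [hm]
    exact Submodule.add_mem_sup (LinearMap.mem_range_self _ _) h0
  have hκ : Function.Injective (u.lTensor (R ⧸ 𝔪)) := by
    rw [lTensor_quotient_injective_iff]
    intro y hy
    have h0 := (hzero (u y)).mpr hy
    rw [key] at h0
    have hli := linearIndependent_iff.mp b.linearIndependent _ h0
    have hyi : ∀ i, y i ∈ 𝔪 := by
      intro i
      have := DFunLike.congr_fun hli i
      rw [Finsupp.mapRange_apply, Finsupp.zero_apply] at this
      exact Ideal.Quotient.eq_zero_iff_mem.mp this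
    rw [← Finsupp.sum_single y]
    refine Submodule.sum_mem _ (fun i _ => ?_)
    have : Finsupp.single i (y i) = (y i) • Finsupp.single i (1 : R) := by
      rw [Finsupp.smul_single, smul_eq_mul, mul_one]
    rw [this]
    exact Submodule.smul_mem_smul (hyi i) Submodule.mem_top
  have hR' : Function.Injective (u.lTensor R) := by
    apply lTensor_injective_of_pow_smul_eq_bot u 𝔪
      (fun P _ _ hP => lTensor_injective_of_residueField u hκ P hP) n R
    rw [hn]
    exact Submodule.bot_smul _
  have hinj : Function.Injective u := by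
    intro a a' haa'
    apply (TensorProduct.lid R _).symm.injective
    apply hR'
    show (1 : R) ⊗ₜ[R] u a = (1 : R) ⊗ₜ[R] u a'
    rw [haa']
  exact Module.Free.of_equiv (LinearEquiv.ofBijective u ⟨hinj, hsurjU⟩)

end Nil

section U

variable {R : Type u} [CommRing R] [IsLocalRing R]

local notation "𝔪" => IsLocalRing.maximalIdeal R

/-- Lifting a basis of the fibre: a map from a free module which is an isomorphism modulo the
maximal ideal. -/
theorem exists_linearCombination_lTensor_injective (M : Type v) [AddCommGroup M] [Module R M] :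
    ∃ (ι : Type (max u v)) (x : ι → M),
      Function.Injective ((Finsupp.linearCombination R x).lTensor (R ⧸ 𝔪)) ∧
      ⊤ ≤ LinearMap.range (Finsupp.linearCombination R x) ⊔ 𝔪 • (⊤ : Submodule R M) := by
  classical
  let _ : Field (R ⧸ 𝔪) := Ideal.Quotient.field _
  let b := Module.Free.chooseBasis (R ⧸ 𝔪) ((R ⧸ 𝔪) ⊗[R] M)
  have hzero : ∀ m : M, (1 : R ⧸ 𝔪) ⊗ₜ[R] m = 0 ↔ m ∈ 𝔪 • (⊤ : Submodule R M) := by
    intro m
    rw [← (quotTensorEquivQuotSMul M 𝔪).map_eq_zero_iff, quotTensorEquivQuotSMul_mk_one_tmul,
      Submodule.Quotient.mk_eq_zero]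
  have hsurj : ∀ z : (R ⧸ 𝔪) ⊗[R] M, ∃ m : M, (1 : R ⧸ 𝔪) ⊗ₜ[R] m = z := by
    intro z
    obtain ⟨m, hm⟩ := Submodule.Quotient.mk_surjective _ (quotTensorEquivQuotSMul M 𝔪 z)
    refine ⟨m, ?_⟩
    apply (quotTensorEquivQuotSMul M 𝔪).injective
    rw [quotTensorEquivQuotSMul_mk_one_tmul, hm]
  choose x hx using fun i => hsurj (b i)
  let u := Finsupp.linearCombination R x
  have key : ∀ y, (1 : R ⧸ 𝔪) ⊗ₜ[R] (u y) =
      Finsupp.linearCombination (R ⧸ 𝔪) b
        (Finsupp.mapRange (Ideal.Quotient.mk 𝔪) (map_zero _) y) := by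
    intro y
    induction y using Finsupp.induction_linear with
    | zero => simp
    | add f g hf hg => rw [map_add, tmul_add, hf, hg, Finsupp.mapRange_add (map_add _), map_add]
    | single i r =>
      rw [Finsupp.mapRange_single, Finsupp.linearCombination_single,
        Finsupp.linearCombination_single, tmul_smul, hx i]
      rfl
  refine ⟨_, x, ?_, ?_⟩
  · rw [lTensor_quotient_injective_iff]
    intro y hy
    have h0 := (hzero (u y)).mpr hy
    rw [key] at h0
    have hli := linearIndependent_iff.mp b.linearIndependent _ h0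
    have hyi : ∀ i, y i ∈ 𝔪 := by
      intro i
      have := DFunLike.congr_fun hli i
      rw [Finsupp.mapRange_apply, Finsupp.zero_apply] at this
      exact Ideal.Quotient.eq_zero_iff_mem.mp this
    rw [← Finsupp.sum_single y]
    refine Submodule.sum_mem _ (fun i _ => ?_)
    have : Finsupp.single i (y i) = (y i) • Finsupp.single i (1 : R) := by
      rw [Finsupp.smul_single, smul_eq_mul, mul_one]
    rw [this]
    exact Submodule.smul_mem_smul (hyi i) Submodule.mem_top
  · intro m _
    obtain ⟨c, hc⟩ := Finsupp.mapRange_surjective (Ideal.Quotient.mk 𝔪) (map_zero _)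
      Ideal.Quotient.mk_surjective (b.repr ((1 : R ⧸ 𝔪) ⊗ₜ[R] m))
    have h0 : (1 : R ⧸ 𝔪) ⊗ₜ[R] (m - u c) = 0 := by
      rw [tmul_sub, key, hc, Module.Basis.linearCombination_repr, sub_self]
    rw [hzero] at h0
    have hm : m = u c + (m - u c) := by abel
    rw [hm]
    exact Submodule.add_mem_sup (LinearMap.mem_range_self _ _) h0

end U

section L

theorem lTensor_baseChange_injective_iff {R : Type*} [CommRing R] {N M : Type*} [AddCommGroup N]
    [Module R N] [AddCommGroup M] [Module R M] (u : N →ₗ[R] M) (A : Type*) [CommRing A]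
    [Algebra R A] (P : Type*) [AddCommGroup P] [Module R P] [Module A P] [IsScalarTower R A P] :
    Function.Injective ((u.baseChange A).lTensor P) ↔ Function.Injective (u.lTensor P) := by
  have key := AlgebraTensorModule.lTensor_comp_cancelBaseChange (R := R) (A := A) (B := A)
    (M := P) u
  have key' : ∀ x, u.lTensor P (AlgebraTensorModule.cancelBaseChange R A A P N x) =
      AlgebraTensorModule.cancelBaseChange R A A P M ((u.baseChange A).lTensor P x) := by
    intro x
    exact LinearMap.congr_fun key x
  constructor
  · intro h x y hxy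
    obtain ⟨x', rfl⟩ := (AlgebraTensorModule.cancelBaseChange R A A P N).surjective x
    obtain ⟨y', rfl⟩ := (AlgebraTensorModule.cancelBaseChange R A A P N).surjective y
    rw [key', key'] at hxy
    rw [h ((AlgebraTensorModule.cancelBaseChange R A A P M).injective hxy)]
  · intro h x y hxy
    apply (AlgebraTensorModule.cancelBaseChange R A A P N).injective
    apply h
    rw [key', key', hxy]

variable {R : Type u} [CommRing R] [IsLocalRing R]

local notation "𝔪" => IsLocalRing.maximalIdeal R

/-- Over a local ring with nilpotent maximal ideal, a module which becomes flat after an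
injective base change is free. -/
theorem free_of_flat_baseChange_of_isNilpotent_maximalIdeal
    (hR : IsNilpotent 𝔪) (S : Type w) [CommRing S] [Algebra R S]
    (hinj : Function.Injective (algebraMap R S))
    (M : Type v) [AddCommGroup M] [Module R M] [Module.Flat S (S ⊗[R] M)] : Module.Free R M := by
  obtain ⟨n, hn⟩ := hR
  obtain ⟨ι, x, hκ, hsup⟩ := exists_linearCombination_lTensor_injective (R := R) M
  have hsurjU : Function.Surjective (Finsupp.linearCombination R x) := by
    rw [← LinearMap.range_eq_top]
    exact eq_top_of_sup_smul_top_of_pow_eq_bot 𝔪 n hn _ hsup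
  have h𝔫 : (Ideal.map (algebraMap R S) 𝔪) ^ n = ⊥ := by
    rw [← Ideal.map_pow, hn, Ideal.zero_eq_bot, Ideal.map_bot]
  have h1 : ∀ (P : Type w) [AddCommGroup P] [Module S P],
      (Ideal.map (algebraMap R S) 𝔪) • (⊤ : Submodule S P) = ⊥ →
      Function.Injective (((Finsupp.linearCombination R x).baseChange S).lTensor P) := by
    intro P _ _ hP
    let _ : Module R P := Module.compHom P (algebraMap R S)
    have : IsScalarTower R S P := IsScalarTower.of_algebraMap_smul (fun r x => rfl)
    have hP' : 𝔪 • (⊤ : Submodule R P) = ⊥ := by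
      have := Ideal.smul_restrictScalars 𝔪 (⊤ : Submodule S P)
      rw [hP, Submodule.restrictScalars_top, Submodule.restrictScalars_bot] at this
      exact this.symm
    rw [lTensor_baseChange_injective_iff]
    exact lTensor_injective_of_residueField _ hκ P hP'
  have hS : Function.Injective (((Finsupp.linearCombination R x).baseChange S).lTensor S) :=
    lTensor_injective_of_pow_smul_eq_bot _ (Ideal.map (algebraMap R S) 𝔪) h1 n S
      (by rw [h𝔫]; exact Submodule.bot_smul _)
  have huS : Function.Injective ((Finsupp.linearCombination R x).baseChange S) := by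
    intro a a' h
    apply (TensorProduct.lid S _).symm.injective
    apply hS
    show (1 : S) ⊗ₜ[S] ((Finsupp.linearCombination R x).baseChange S a) =
      (1 : S) ⊗ₜ[S] ((Finsupp.linearCombination R x).baseChange S a')
    rw [h]
  have hinjU : Function.Injective (Finsupp.linearCombination R x) := by
    rw [injective_iff_map_eq_zero]
    intro k hk
    have h0 : (1 : S) ⊗ₜ[R] k = 0 := by
      apply huS
      rw [map_zero, LinearMap.baseChange_tmul, hk, tmul_zero]
    have : FaithfulSMul R S := (faithfulSMul_iff_algebraMap_injective R S).mpr hinj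
    have h2 : Function.Injective (TensorProduct.mk R S (ι →₀ R) 1) :=
      Module.Flat.tensorProduct_mk_injective ..
    apply h2
    rw [map_zero]
    exact h0
  exact Module.Free.of_equiv (LinearEquiv.ofBijective _ ⟨hinjU, hsurjU⟩)

end L

section G

/-- Flatness descends along an injective ring map out of an Artinian ring. -/
theorem flat_of_flat_baseChange_of_injective_of_isArtinianRing {R S M : Type u} [CommRing R]
    [CommRing S] [IsArtinianRing R] [Algebra R S] (hinj : Function.Injective (algebraMap R S))
    [AddCommGroup M] [Module R M] [Module.Flat S (S ⊗[R] M)] : Module.Flat R M := by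
  apply Module.flat_of_localized_maximal
  intro P hP
  let _ : Algebra S (Localization.AtPrime P ⊗[R] S) := Algebra.TensorProduct.rightAlgebra
  let e1 : (Localization.AtPrime P ⊗[R] S) ⊗[S] (S ⊗[R] M) ≃ₗ[Localization.AtPrime P ⊗[R] S]
      (Localization.AtPrime P ⊗[R] S) ⊗[R] M :=
    AlgebraTensorModule.cancelBaseChange R S (Localization.AtPrime P ⊗[R] S)
      (Localization.AtPrime P ⊗[R] S) M
  let e2 : (Localization.AtPrime P ⊗[R] S) ⊗[Localization.AtPrime P] (Localization.AtPrime P ⊗[R] M)
      ≃ₗ[Localization.AtPrime P ⊗[R] S] (Localization.AtPrime P ⊗[R] S) ⊗[R] M :=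
    AlgebraTensorModule.cancelBaseChange R (Localization.AtPrime P) (Localization.AtPrime P ⊗[R] S)
      (Localization.AtPrime P ⊗[R] S) M
  have hfl : Module.Flat (Localization.AtPrime P ⊗[R] S)
      ((Localization.AtPrime P ⊗[R] S) ⊗[Localization.AtPrime P] (Localization.AtPrime P ⊗[R] M)) :=
    Module.Flat.of_linearEquiv (e2.trans e1.symm)
  have hnil : IsNilpotent (IsLocalRing.maximalIdeal (Localization.AtPrime P)) := by
    have := IsArtinianRing.isNilpotent_jacobson_bot (R := Localization.AtPrime P)
    rwa [IsLocalRing.jacobson_eq_maximalIdeal ⊥ bot_ne_top] at this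
  have hinj' : Function.Injective
      (algebraMap (Localization.AtPrime P) (Localization.AtPrime P ⊗[R] S)) :=
    Algebra.TensorProduct.includeLeft_injective (R := R) (S := Localization.AtPrime P)
      (A := Localization.AtPrime P) (B := S) hinj
  have hfree : Module.Free (Localization.AtPrime P) (Localization.AtPrime P ⊗[R] M) :=
    free_of_flat_baseChange_of_isNilpotent_maximalIdeal hnil (Localization.AtPrime P ⊗[R] S) hinj'
      (Localization.AtPrime P ⊗[R] M)
  have hfl2 : Module.Flat R (Localization.AtPrime P ⊗[R] M) :=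
    Module.Flat.trans R (Localization.AtPrime P) _
  have hb := IsLocalizedModule.isBaseChange P.primeCompl (Localization.AtPrime P)
    (LocalizedModule.mkLinearMap P.primeCompl M)
  exact Module.Flat.of_linearEquiv (hb.equiv.restrictScalars R).symm

end G

section Loc

theorem flat_localizedModule_of_forall_mem_pow_smul_top {R S M : Type*} [CommRing R]
    [CommRing S] [IsNoetherianRing S] [Algebra R S]
    [AddCommGroup M] [Module R M] [Module S M] [IsScalarTower R S M] [Module.Finite S M]
    (I : Ideal R)
    (hcore : ∀ (J : Ideal R) (x : J ⊗[R] M), J.subtype.rTensor M x = 0 →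
      ∀ n : ℕ, x ∈ I ^ n • (⊤ : Submodule R (J ⊗[R] M)))
    (hJfin : ∀ J : Ideal R, Module.Finite R J)
    (q : Ideal S) [q.IsPrime] (hq : I.map (algebraMap R S) ≤ q) :
    Module.Flat R (LocalizedModule q.primeCompl M) := by
  rw [Module.Flat.iff_lTensor_injective']
  intro J
  rw [injective_iff_map_eq_zero]
  intro y hy
  let f := LocalizedModule.mkLinearMap q.primeCompl M
  let F := AlgebraTensorModule.rTensor R J f
  let F₁ := AlgebraTensorModule.rTensor R R f
  obtain ⟨⟨z, s⟩, hzs⟩ := IsLocalizedModule.surj q.primeCompl F y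
  have hcomm : ∀ z, J.subtype.lTensor (LocalizedModule q.primeCompl M) (F z) =
      F₁ (J.subtype.lTensor M z) := by
    intro z
    induction z using TensorProduct.induction_on with
    | zero => simp
    | tmul m j => rfl
    | add a b ha hb => simp only [map_add, ha, hb]
  have h1 : F₁ (J.subtype.lTensor M z) = 0 := by
    rw [← hcomm, ← hzs]
    have := (AlgebraTensorModule.lTensor S (LocalizedModule q.primeCompl M) J.subtype).map_smul
      (s : S) y
    rw [Submonoid.smul_def]
    refine this.trans ?_
    rw [AlgebraTensorModule.coe_lTensor, hy, smul_zero]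
  obtain ⟨t, ht⟩ := (IsLocalizedModule.eq_zero_iff q.primeCompl F₁).mp h1
  have h2 : J.subtype.lTensor M ((t : S) • z) = 0 := by
    have := (AlgebraTensorModule.lTensor S M J.subtype).map_smul (t : S) z
    refine this.trans ?_
    rw [AlgebraTensorModule.coe_lTensor, ← Submonoid.smul_def]
    exact ht
  have h3 : ∀ n : ℕ, ((t : S) • z) ∈ I ^ n • (⊤ : Submodule R (M ⊗[R] J)) := by
    intro n
    have h30 : J.subtype.rTensor M (TensorProduct.comm R M J ((t : S) • z)) = 0 := by
      have : J.subtype.rTensor M (TensorProduct.comm R M J ((t : S) • z)) =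
          TensorProduct.comm R M R (J.subtype.lTensor M ((t : S) • z)) := by
        generalize (t : S) • z = w
        induction w using TensorProduct.induction_on with
        | zero => simp
        | tmul m j => rfl
        | add a b ha hb => simp only [map_add, ha, hb]
      rw [this, h2, map_zero]
    have h31 := hcore J _ h30 n
    have h32 : Submodule.map (TensorProduct.comm R M J).symm.toLinearMap
        (I ^ n • (⊤ : Submodule R (J ⊗[R] M))) = I ^ n • ⊤ := by
      rw [Submodule.map_smul'', Submodule.map_top, LinearEquiv.range]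
    rw [← h32]
    refine ⟨_, h31, ?_⟩
    exact (TensorProduct.comm R M J).symm_apply_apply _
  have := hJfin J
  have := finite_tensorProduct (R := R) (S := S) M J
  have h4 : ((t : S) • z) ∈
      (⨅ i : ℕ, (I.map (algebraMap R S)) ^ i • ⊤ : Submodule S (M ⊗[R] J)) := by
    rw [Submodule.mem_iInf]
    intro n
    have := h3 n
    rw [← pow_smul_top_restrictScalars (S := S)] at this
    exact this
  obtain ⟨r, hr⟩ := (Ideal.mem_iInf_smul_pow_eq_bot_iff (I.map (algebraMap R S)) _).mp h4
  have hr1 : (1 - (r : S)) ∈ q.primeCompl := by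
    intro h
    have : (1 : S) ∈ q := by
      have := q.add_mem h (hq r.2)
      simpa using this
    exact (Ideal.ne_top_iff_one q).mp (Ideal.IsPrime.ne_top inferInstance) this
  have h5 : F z = 0 := by
    rw [IsLocalizedModule.eq_zero_iff q.primeCompl F]
    refine ⟨⟨1 - (r : S), hr1⟩ * t, ?_⟩
    rw [Submonoid.smul_def, Submonoid.coe_mul, mul_smul, sub_smul, one_smul, hr, sub_self]
  have h6 : s • y = 0 := by rw [hzs, h5]
  apply IsLocalizedModule.smul_injective F s
  show s • y = s • 0
  rw [h6, smul_zero]

end Loc

section NZD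

variable {A : Type u} {M : Type v} [CommRing A] [AddCommGroup M] [Module A M] (f : A)

theorem rTensor_span_singleton_subtype_injective (hM : IsSMulRegular M f) :
    Function.Injective ((Ideal.span {f}).subtype.rTensor M) := by
  have hf : f ∈ Ideal.span {f} := Ideal.mem_span_singleton_self f
  have hsurj : ∀ x : (Ideal.span {f} : Ideal A) ⊗[A] M, ∃ m : M,
      (⟨f, hf⟩ : (Ideal.span {f} : Ideal A)) ⊗ₜ[A] m = x := by
    intro x
    induction x using TensorProduct.induction_on with
    | zero => exact ⟨0, tmul_zero _ _⟩
    | tmul a m =>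
      obtain ⟨a, ha⟩ := a
      obtain ⟨c, rfl⟩ := Ideal.mem_span_singleton'.mp ha
      refine ⟨c • m, ?_⟩
      rw [← smul_tmul]
      rfl
    | add x y hx hy =>
      obtain ⟨m, rfl⟩ := hx
      obtain ⟨m', rfl⟩ := hy
      exact ⟨m + m', tmul_add _ _ _⟩
  rw [injective_iff_map_eq_zero]
  intro x hx
  obtain ⟨m, rfl⟩ := hsurj x
  have h1 := congrArg (TensorProduct.lid A M) hx
  rw [LinearMap.rTensor_tmul, lid_tmul, map_zero] at h1
  have h2 : f • m = 0 := h1
  have h3 : m = 0 := hM (by show f • m = f • 0; rw [h2, smul_zero])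
  rw [h3, tmul_zero]

theorem smul_injective_tensor_of_flat_quotient (hA : f ∈ nonZeroDivisors A)
    (hM : IsSMulRegular M f)
    [Module.Flat (A ⧸ Ideal.span {f}) ((A ⧸ Ideal.span {f}) ⊗[A] M)] (J : Ideal A) :
    Function.Injective (fun x : J ⊗[A] M => f • x) := by
  have hinj : Function.Injective (LinearMap.lsmul A J f) := by
    intro a b hab
    have : f * (a : A) = f * (b : A) := congrArg Subtype.val hab
    apply Subtype.ext
    have h0 : ((a : A) - (b : A)) * f = 0 := by rw [sub_mul, mul_comm, this, mul_comm, sub_self]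
    exact sub_eq_zero.mp ((mem_nonZeroDivisors_iff.mp hA).2 _ h0)
  let K : Submodule A J := LinearMap.range (LinearMap.lsmul A J f)
  have hK : (Ideal.span {f}) • (⊤ : Submodule A J) ≤ K := by
    rw [Submodule.smul_le]
    intro r hr a _
    obtain ⟨c, rfl⟩ := Ideal.mem_span_singleton'.mp hr
    refine ⟨c • a, ?_⟩
    rw [LinearMap.lsmul_apply, smul_smul, mul_comm]
  have h1 : Function.Injective (K.subtype.rTensor M) :=
    rTensor_subtype_injective_of_smul_le (Ideal.span {f}) (A ⧸ Ideal.span {f}) M
      Ideal.Quotient.mk_surjective Ideal.mk_ker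
      (rTensor_span_singleton_subtype_injective f hM) K hK
  let e : J ≃ₗ[A] K := LinearEquiv.ofInjective (LinearMap.lsmul A J f) hinj
  have h2 : K.subtype ∘ₗ e.toLinearMap = LinearMap.lsmul A J f := LinearMap.ext fun x => rfl
  have h3 : ∀ x : J ⊗[A] M, f • x = (K.subtype.rTensor M) ((e.rTensor M) x) := by
    intro x
    have : (LinearMap.lsmul A J f).rTensor M x = f • x := by
      induction x using TensorProduct.induction_on with
      | zero => simp
      | tmul a m => rw [LinearMap.rTensor_tmul, LinearMap.lsmul_apply, smul_tmul']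
      | add a b ha hb => rw [map_add, ha, hb, smul_add]
    rw [← this, ← h2, LinearMap.rTensor_comp]
    rfl
  intro x y hxy
  simp only [h3] at hxy
  exact (e.rTensor M).injective (h1 hxy)

end NZD

section NZD2

theorem flat_of_flat_away_of_flat_quotient {A : Type u} {M : Type v} [CommRing A]
    [AddCommGroup M] [Module A M] (f : A) (hA : f ∈ nonZeroDivisors A) (hM : IsSMulRegular M f)
    [Module.Flat (Localization.Away f) (LocalizedModule (Submonoid.powers f) M)]
    [Module.Flat (A ⧸ Ideal.span {f}) ((A ⧸ Ideal.span {f}) ⊗[A] M)] : Module.Flat A M := by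
  rw [Module.Flat.iff_rTensor_injective']
  intro J
  rw [injective_iff_map_eq_zero]
  intro x hx
  have hfl : Module.Flat A (LocalizedModule (Submonoid.powers f) M) :=
    Module.Flat.trans A (Localization.Away f) _
  let g := LocalizedModule.mkLinearMap (Submonoid.powers f) M
  let G := AlgebraTensorModule.rTensor A J g
  let G₁ := AlgebraTensorModule.rTensor A A g
  have hcomm : ∀ z, J.subtype.lTensor (LocalizedModule (Submonoid.powers f) M) (G z) =
      G₁ (J.subtype.lTensor M z) := by
    intro z
    induction z using TensorProduct.induction_on with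
    | zero => simp
    | tmul m j => rfl
    | add a b ha hb => simp only [map_add, ha, hb]
  have h0 : J.subtype.lTensor M (TensorProduct.comm A J M x) = 0 := by
    have : ∀ w : J ⊗[A] M, J.subtype.lTensor M (TensorProduct.comm A J M w) =
        TensorProduct.comm A A M (J.subtype.rTensor M w) := by
      intro w
      induction w using TensorProduct.induction_on with
      | zero => simp
      | tmul j m => rfl
      | add a b ha hb => simp only [map_add, ha, hb]
    rw [this, hx, map_zero]
  have h1 : G (TensorProduct.comm A J M x) = 0 := by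
    apply Module.Flat.lTensor_preserves_injective_linearMap
      (M := LocalizedModule (Submonoid.powers f) M) J.subtype J.subtype_injective
    rw [hcomm, h0, map_zero, map_zero]
  obtain ⟨⟨s, n, rfl⟩, hs⟩ := (IsLocalizedModule.eq_zero_iff (Submonoid.powers f) G).mp h1
  have h2 : f ^ n • x = 0 := by
    apply (TensorProduct.comm A J M).injective
    rw [map_smul, map_zero]
    exact hs
  have hinj := smul_injective_tensor_of_flat_quotient f hA hM J
  have key : ∀ k : ℕ, ∀ y : J ⊗[A] M, f ^ k • y = 0 → y = 0 := by
    intro k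
    induction k with
    | zero => intro y hy; simpa using hy
    | succ k ih =>
      intro y hy
      apply ih
      apply hinj
      show f • (f ^ k • y) = f • 0
      rw [smul_zero, smul_smul, ← pow_succ']
      exact hy
  exact key n x h2

end NZD2

section TF

/-- If `M` is `R`-flat and `T` is `S`-flat then `T ⊗[S] M` is `R`-flat. -/
theorem flat_tensorProduct_of_flat {R S : Type*} [CommRing R] [CommRing S] [Algebra R S]
    (T M : Type*) [AddCommGroup T] [Module R T] [Module S T] [IsScalarTower R S T]
    [AddCommGroup M] [Module R M] [Module S M] [IsScalarTower R S M]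
    [Module.Flat S T] [Module.Flat R M] : Module.Flat R (T ⊗[S] M) := by
  rw [Module.Flat.iff_lTensor_injective']
  intro I
  let φ : M ⊗[R] I →ₗ[S] M ⊗[R] R := AlgebraTensorModule.lTensor S M I.subtype
  have hφ : Function.Injective φ :=
    Module.Flat.lTensor_preserves_injective_linearMap (M := M) I.subtype I.subtype_injective
  have hTφ : Function.Injective (φ.lTensor T) :=
    Module.Flat.lTensor_preserves_injective_linearMap (M := T) φ hφ
  have key : ∀ x : (T ⊗[S] M) ⊗[R] I,
      AlgebraTensorModule.assoc R S S T M R (I.subtype.lTensor (T ⊗[S] M) x) =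
        φ.lTensor T (AlgebraTensorModule.assoc R S S T M I x) := by
    intro x
    induction x using TensorProduct.induction_on with
    | zero => simp
    | tmul y i =>
      induction y using TensorProduct.induction_on with
      | zero => simp
      | tmul t m => rfl
      | add a b ha hb => simp only [add_tmul, map_add, ha, hb]
    | add a b ha hb => simp only [map_add, ha, hb]
  intro x y hxy
  apply (AlgebraTensorModule.assoc R S S T M I).injective
  apply hTφ
  rw [← key, ← key, hxy]

end TF

section TF2

theorem assoc_lTensor_subtype {R S : Type*} [CommRing R] [CommRing S] [Algebra R S]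
    (T M : Type*) [AddCommGroup T] [Module R T] [Module S T] [IsScalarTower R S T]
    [AddCommGroup M] [Module R M] [Module S M] [IsScalarTower R S M] (I : Ideal R)
    (x : (T ⊗[S] M) ⊗[R] I) :
    AlgebraTensorModule.assoc R S S T M R (I.subtype.lTensor (T ⊗[S] M) x) =
      (AlgebraTensorModule.lTensor S M I.subtype).lTensor T
        (AlgebraTensorModule.assoc R S S T M I x) := by
  induction x using TensorProduct.induction_on with
  | zero => simp
  | tmul y i =>
    induction y using TensorProduct.induction_on with
    | zero => simp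
    | tmul t m => rfl
    | add a b ha hb => simp only [add_tmul, map_add, ha, hb]
  | add a b ha hb => simp only [map_add, ha, hb]

/-- Flatness over `R` descends along a faithfully flat `S`-module. -/
theorem flat_of_flat_tensorProduct_of_faithfullyFlat {R S : Type*} [CommRing R] [CommRing S]
    [Algebra R S]
    (T M : Type*) [AddCommGroup T] [Module R T] [Module S T] [IsScalarTower R S T]
    [AddCommGroup M] [Module R M] [Module S M] [IsScalarTower R S M]
    [Module.FaithfullyFlat S T] [Module.Flat R (T ⊗[S] M)] : Module.Flat R M := by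
  rw [Module.Flat.iff_lTensor_injective']
  intro I
  show Function.Injective (AlgebraTensorModule.lTensor S M I.subtype)
  rw [← Module.FaithfullyFlat.lTensor_injective_iff_injective S T]
  have h := Module.Flat.lTensor_preserves_injective_linearMap (M := T ⊗[S] M) I.subtype
    I.subtype_injective
  intro x y hxy
  apply (AlgebraTensorModule.assoc R S S T M I).symm.injective
  apply h
  apply (AlgebraTensorModule.assoc R S S T M R).injective
  rw [assoc_lTensor_subtype, assoc_lTensor_subtype, LinearEquiv.apply_symm_apply,
    LinearEquiv.apply_symm_apply, hxy]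

end TF2

section BCiff

variable {R : Type*} [CommRing R] (A : Type*) [CommRing A] [Algebra R A]
  (M : Type*) [AddCommGroup M] [Module R M]

theorem cancelBaseChange_rTensor {N' N : Type*} [AddCommGroup N'] [Module R N'] [Module A N']
    [IsScalarTower R A N'] [AddCommGroup N] [Module R N] [Module A N] [IsScalarTower R A N]
    (f : N' →ₗ[A] N) (x : N' ⊗[A] (A ⊗[R] M)) :
    (f.restrictScalars R).rTensor M (AlgebraTensorModule.cancelBaseChange R A A N' M x) =
      AlgebraTensorModule.cancelBaseChange R A A N M (f.rTensor (A ⊗[R] M) x) := by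
  induction x using TensorProduct.induction_on with
  | zero => simp
  | tmul n y =>
    induction y using TensorProduct.induction_on with
    | zero => simp
    | tmul a m => simp
    | add y z hy hz => simp only [tmul_add, map_add, hy, hz]
  | add x y hx hy => simp only [map_add, hx, hy]

theorem rTensor_baseChange_injective_iff {N' N : Type*} [AddCommGroup N'] [Module R N']
    [Module A N'] [IsScalarTower R A N'] [AddCommGroup N] [Module R N] [Module A N]
    [IsScalarTower R A N] (f : N' →ₗ[A] N) :
    Function.Injective (f.rTensor (A ⊗[R] M)) ↔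
      Function.Injective ((f.restrictScalars R).rTensor M) := by
  constructor
  · intro h x y hxy
    obtain ⟨x', rfl⟩ := (AlgebraTensorModule.cancelBaseChange R A A N' M).surjective x
    obtain ⟨y', rfl⟩ := (AlgebraTensorModule.cancelBaseChange R A A N' M).surjective y
    rw [cancelBaseChange_rTensor, cancelBaseChange_rTensor] at hxy
    rw [h ((AlgebraTensorModule.cancelBaseChange R A A N M).injective hxy)]
  · intro h x y hxy
    apply (AlgebraTensorModule.cancelBaseChange R A A N' M).injective
    apply h
    rw [cancelBaseChange_rTensor, cancelBaseChange_rTensor, hxy]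

/-- `A ⊗[R] M` is `A`-flat as soon as `- ⊗[R] M` preserves the inclusions of ideals of `A`. -/
theorem flat_baseChange_of_forall_ideal
    (h : ∀ 𝔞 : Ideal A, Function.Injective ((𝔞.restrictScalars R).subtype.rTensor M)) :
    Module.Flat A (A ⊗[R] M) := by
  rw [Module.Flat.iff_rTensor_injective']
  intro 𝔞
  rw [rTensor_baseChange_injective_iff]
  exact h 𝔞

/-- Infinitesimal criterion: `M/IⁿM` is flat over `R/Iⁿ`. -/
theorem flat_quotient_pow_of_rTensor_injective_of_flat_quotient (I : Ideal R)
    [Module.Flat (R ⧸ I) ((R ⧸ I) ⊗[R] M)]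
    (h1 : Function.Injective (I.subtype.rTensor M)) (n : ℕ) :
    Module.Flat (R ⧸ I ^ n) ((R ⧸ I ^ n) ⊗[R] M) := by
  apply flat_baseChange_of_forall_ideal
  intro 𝔞
  exact rTensor_subtype_injective_of_pow_smul_le M I (R ⧸ I) Ideal.Quotient.mk_surjective
    Ideal.mk_ker h1 n _ (pow_smul_top_quotient_le (I ^ n) _)

end BCiff

section NilBasis

variable {R : Type u} [CommRing R] (I : Ideal R) (M : Type v) [AddCommGroup M] [Module R M]

/-- Infinitesimal criterion for a nilpotent ideal. -/
theorem flat_of_rTensor_injective_of_flat_quotient_of_pow_eq_bot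
    [Module.Flat (R ⧸ I) ((R ⧸ I) ⊗[R] M)]
    (h1 : Function.Injective (I.subtype.rTensor M)) (n : ℕ) (hn : I ^ n = ⊥) :
    Module.Flat R M := by
  rw [Module.Flat.iff_rTensor_injective']
  intro J
  apply rTensor_subtype_injective_of_pow_smul_le M I (R ⧸ I) Ideal.Quotient.mk_surjective
    Ideal.mk_ker h1 n J
  rw [hn, Submodule.bot_smul]
  exact bot_le

theorem one_tmul_eq_zero_iff (m : M) :
    (1 : R ⧸ I) ⊗ₜ[R] m = 0 ↔ m ∈ I • (⊤ : Submodule R M) := by
  rw [← (quotTensorEquivQuotSMul M I).map_eq_zero_iff, quotTensorEquivQuotSMul_mk_one_tmul,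
    Submodule.Quotient.mk_eq_zero]

theorem exists_one_tmul_eq (z : (R ⧸ I) ⊗[R] M) : ∃ m : M, (1 : R ⧸ I) ⊗ₜ[R] m = z := by
  obtain ⟨m, hm⟩ := Submodule.Quotient.mk_surjective _ (quotTensorEquivQuotSMul M I z)
  refine ⟨m, ?_⟩
  apply (quotTensorEquivQuotSMul M I).injective
  rw [quotTensorEquivQuotSMul_mk_one_tmul, hm]

variable {M}

/-- A family lifting a basis modulo a nilpotent ideal `I` with `Tor₁(R/I, M) = 0` is a basis. -/
theorem linearCombination_bijective_of_basis_quotient_of_pow_eq_bot
    (h1 : Function.Injective (I.subtype.rTensor M)) (n : ℕ) (hn : I ^ n = ⊥)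
    {A : Type w} (x : A → M)
    (hli : LinearIndependent (R ⧸ I) (fun a => (1 : R ⧸ I) ⊗ₜ[R] x a))
    (hsp : Submodule.span (R ⧸ I) (Set.range fun a => (1 : R ⧸ I) ⊗ₜ[R] x a) = ⊤) :
    Function.Bijective (Finsupp.linearCombination R x) := by
  classical
  let b' : Module.Basis A (R ⧸ I) ((R ⧸ I) ⊗[R] M) := Module.Basis.mk hli hsp.ge
  have hfree : Module.Free (R ⧸ I) ((R ⧸ I) ⊗[R] M) := Module.Free.of_basis b'
  have hflat : Module.Flat R M :=
    flat_of_rTensor_injective_of_flat_quotient_of_pow_eq_bot I M h1 n hn
  let b₀ : Module.Basis A (R ⧸ I) ((R ⧸ I) ⊗[R] (A →₀ R)) :=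
    (Finsupp.basisSingleOne (R := R) (ι := A)).baseChange (R ⧸ I)
  have hub : ((Finsupp.linearCombination R x).baseChange (R ⧸ I)) =
      (b₀.equiv b' (Equiv.refl A)).toLinearMap := by
    apply b₀.ext
    intro a
    rw [LinearEquiv.coe_coe, Module.Basis.equiv_apply]
    simp [b₀, b']
  have hbij : Function.Bijective ((Finsupp.linearCombination R x).baseChange (R ⧸ I)) := by
    rw [hub]
    exact (b₀.equiv b' (Equiv.refl A)).bijective
  constructor
  · -- injective
    have h1' : ∀ (P : Type u) [AddCommGroup P] [Module R P],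
        I • (⊤ : Submodule R P) = ⊥ →
        Function.Injective ((Finsupp.linearCombination R x).lTensor P) := by
      intro P _ _ hP
      have hT : Module.IsTorsionBySet R P (I : Set R) := by
        intro p a
        have : (a : R) • p ∈ I • (⊤ : Submodule R P) :=
          Submodule.smul_mem_smul a.2 Submodule.mem_top
        rw [hP] at this
        exact (Submodule.mem_bot R).mp this
      let _ : Module (R ⧸ I) P := hT.module
      have : IsScalarTower R (R ⧸ I) P := IsScalarTower.of_algebraMap_smul (fun r p => rfl)
      rw [← lTensor_baseChange_injective_iff _ (R ⧸ I)]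
      exact ((LinearEquiv.ofBijective _ hbij).lTensor P).injective
    have hR : Function.Injective ((Finsupp.linearCombination R x).lTensor R) :=
      lTensor_injective_of_pow_smul_eq_bot _ I h1' n R (by rw [hn]; exact Submodule.bot_smul _)
    intro a a' haa'
    apply (TensorProduct.lid R _).symm.injective
    apply hR
    show (1 : R) ⊗ₜ[R] (Finsupp.linearCombination R x a) =
      (1 : R) ⊗ₜ[R] (Finsupp.linearCombination R x a')
    rw [haa']
  · -- surjective
    rw [← LinearMap.range_eq_top]
    apply eq_top_of_sup_smul_top_of_pow_eq_bot I n hn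
    intro m _
    obtain ⟨t, ht⟩ := hbij.2 ((1 : R ⧸ I) ⊗ₜ[R] m)
    obtain ⟨f, rfl⟩ := exists_one_tmul_eq I _ t
    rw [LinearMap.baseChange_tmul, ← sub_eq_zero, ← tmul_sub, one_tmul_eq_zero_iff] at ht
    have hm : m = Finsupp.linearCombination R x f - (Finsupp.linearCombination R x f - m) := by
      abel
    rw [hm]
    exact Submodule.sub_mem _ (Submodule.mem_sup_left (LinearMap.mem_range_self _ _))
      (Submodule.mem_sup_right ht)

end NilBasis

section Adic

variable {A B : Type*} [CommRing A] [CommRing B] [Algebra A B]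
  (M : Type*) [AddCommGroup M] [Module A M] [Module B M] [IsScalarTower A B M]

theorem range_rTensor_restrictScalars_subtype_le (𝔟 : Ideal B) (J : Type*) [AddCommGroup J]
    [Module A J] (x : ((𝔟 • (⊤ : Submodule B M)).restrictScalars A) ⊗[A] J) :
    (((𝔟 • (⊤ : Submodule B M)).restrictScalars A).subtype.rTensor J x) ∈
      𝔟 • (⊤ : Submodule B (M ⊗[A] J)) := by
  induction x using TensorProduct.induction_on with
  | zero => simp
  | tmul m j =>
    rw [LinearMap.rTensor_tmul]
    have hm : (m : M) ∈ 𝔟 • (⊤ : Submodule B M) := m.2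
    rw [Submodule.subtype_apply]
    refine Submodule.smul_induction_on
      (p := fun e => e ⊗ₜ[A] j ∈ 𝔟 • (⊤ : Submodule B (M ⊗[A] J))) hm
      (fun r hr e _ => ?_) (fun a b ha hb => ?_)
    · rw [← smul_tmul']
      exact Submodule.smul_mem_smul hr Submodule.mem_top
    · rw [add_tmul]
      exact add_mem ha hb
  | add a b ha hb => rw [map_add]; exact add_mem ha hb

/-- If all `M / Iⁿ⁺¹ M` are `A`-flat, for a proper ideal `I` of the Noetherian local ring `B` and
a finite `B`-module `M`, then `M` is `A`-flat. -/
theorem flat_of_flat_adic_quotients [IsNoetherianRing B] [IsLocalRing B] [Module.Finite B M]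
    (I : Ideal B) (hI : I ≠ ⊤)
    (h : ∀ n : ℕ, Module.Flat A (M ⧸ (I ^ (n + 1) • (⊤ : Submodule B M)))) :
    Module.Flat A M := by
  rw [Module.Flat.iff_lTensor_injective]
  intro J hJ
  rw [injective_iff_map_eq_zero]
  intro x hx
  have : Module.Finite A J := Module.Finite.of_fg hJ
  have := finite_tensorProduct (R := A) (S := B) M J
  have hmem : ∀ k : ℕ, x ∈ I ^ k • (⊤ : Submodule B (M ⊗[A] J)) := by
    intro k
    rcases k with _ | n
    · rw [pow_zero, Ideal.one_eq_top, Submodule.top_smul]; trivial
    · have := h n
      let N : Submodule B M := I ^ (n + 1) • ⊤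
      let q : M →ₗ[A] (M ⧸ N) := N.mkQ.restrictScalars A
      have hq : Function.Surjective q := Submodule.mkQ_surjective N
      have hex : Function.Exact (N.restrictScalars A).subtype q := by
        intro m
        constructor
        · intro hm
          exact ⟨⟨m, (Submodule.Quotient.mk_eq_zero N).mp hm⟩, rfl⟩
        · rintro ⟨z, rfl⟩
          exact (Submodule.Quotient.mk_eq_zero N).mpr z.2
      have h0 : q.rTensor J x = 0 := by
        apply Module.Flat.lTensor_preserves_injective_linearMap (M := M ⧸ N) J.subtype
          J.subtype_injective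
        rw [map_zero, ← LinearMap.comp_apply, LinearMap.lTensor_comp_rTensor,
          ← LinearMap.rTensor_comp_lTensor, LinearMap.comp_apply, hx, map_zero]
      obtain ⟨y, rfl⟩ := (rTensor_exact J hex hq x).mp h0
      exact range_rTensor_restrictScalars_subtype_le M (I ^ (n + 1)) J y
  have hK := Ideal.iInf_pow_smul_eq_bot_of_isLocalRing I (M := M ⊗[A] J) hI
  have : x ∈ (⨅ i : ℕ, I ^ i • ⊤ : Submodule B (M ⊗[A] J)) := by
    rw [Submodule.mem_iInf]; exact hmem
  rw [hK] at this
  exact this

end Adic

section Reg

variable {A B : Type*} [CommRing A] [CommRing B] [Algebra A B]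
  (M : Type*) [AddCommGroup M] [Module A M] [Module B M] [IsScalarTower A B M]

/-- If `f` lies in the radical of the Noetherian ring `B`, is a nonzerodivisor on the finite
`B`-module `M`, and `M/fM` is `A`-flat, then `M` is `A`-flat. -/
theorem flat_of_flat_quotient_regular [IsNoetherianRing B] [Module.Finite B M] (f : B)
    (hf : f ∈ Ideal.jacobson (⊥ : Ideal B)) (hreg : IsSMulRegular M f)
    [hflat : Module.Flat A (M ⧸ (Ideal.span {f} • (⊤ : Submodule B M)))] :
    Module.Flat A M := by
  rw [Module.Flat.iff_lTensor_injective]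
  intro J hJ
  have : Module.Finite A J := Module.Finite.of_fg hJ
  have := finite_tensorProduct (R := A) (S := B) M J
  let L : M ⊗[A] J →ₗ[B] M ⊗[A] A := AlgebraTensorModule.lTensor B M J.subtype
  have hT : LinearMap.ker L = ⊥ := by
    apply Submodule.eq_bot_of_le_smul_of_le_jacobson_bot (Ideal.span {f}) (LinearMap.ker L)
      (IsNoetherian.noetherian _) ?_ ((Ideal.span_singleton_le_iff_mem _).mpr hf)
    intro x hx
    let N : Submodule B M := Ideal.span {f} • ⊤
    let q : M →ₗ[A] (M ⧸ N) := N.mkQ.restrictScalars A
    have hq : Function.Surjective q := Submodule.mkQ_surjective N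
    have hex : Function.Exact (N.restrictScalars A).subtype q := by
      intro m
      constructor
      · intro hm
        exact ⟨⟨m, (Submodule.Quotient.mk_eq_zero N).mp hm⟩, rfl⟩
      · rintro ⟨z, rfl⟩
        exact (Submodule.Quotient.mk_eq_zero N).mpr z.2
    have hx' : J.subtype.lTensor M x = 0 := hx
    have h0 : q.rTensor J x = 0 := by
      apply Module.Flat.lTensor_preserves_injective_linearMap (M := M ⧸ N) J.subtype
        J.subtype_injective
      rw [map_zero, ← LinearMap.comp_apply, LinearMap.lTensor_comp_rTensor,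
        ← LinearMap.rTensor_comp_lTensor, LinearMap.comp_apply, hx', map_zero]
    obtain ⟨y, rfl⟩ := (rTensor_exact J hex hq x).mp h0
    have h1 := range_rTensor_restrictScalars_subtype_le M (Ideal.span {f}) J y
    rw [Submodule.ideal_span_singleton_smul] at h1
    obtain ⟨z, -, hz⟩ := Submodule.mem_smul_pointwise_iff_exists _ _ _ |>.mp h1
    rw [← hz] at hx ⊢
    have hz' : z ∈ LinearMap.ker L := by
      rw [LinearMap.mem_ker] at hx ⊢
      rw [map_smul] at hx
      have hreg' : IsSMulRegular (M ⊗[A] A) f := by
        intro a b hab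
        apply (TensorProduct.rid A M).injective
        apply hreg
        have h2 : ∀ w : M ⊗[A] A, TensorProduct.rid A M (f • w) = f • TensorProduct.rid A M w := by
          intro w
          induction w using TensorProduct.induction_on with
          | zero => simp
          | tmul m a =>
            rw [smul_tmul', TensorProduct.rid_tmul, TensorProduct.rid_tmul, smul_comm]
          | add a b ha hb => simp only [smul_add, map_add, ha, hb]
        show f • TensorProduct.rid A M a = f • TensorProduct.rid A M b
        rw [← h2, ← h2]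
        exact congrArg _ hab
      exact hreg' (by show f • L z = f • 0; rw [hx, smul_zero])
    rw [Submodule.ideal_span_singleton_smul]
    exact Submodule.smul_mem_pointwise_smul z f _ hz'
  intro x y hxy
  have : x - y ∈ LinearMap.ker L := by
    rw [LinearMap.mem_ker, map_sub]
    exact sub_eq_zero.mpr hxy
  rw [hT] at this
  exact sub_eq_zero.mp ((Submodule.mem_bot B).mp this)

end Reg

end Groth.Agent.Helper1.LocalCrit
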