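import Mathlib

universe u v

namespace Groth.Agent.Helper1.NilNak

/-- nilpotent Nakayama for submodules -/
lemma le_of_le_sup_smul {R : Type*} [CommRing R] {M : Type*} [AddCommGroup M] [Module R M]
    (I : Ideal R) (hI : IsNilpotent I) (N K : Submodule R M) (h : K ≤ N ⊔ I • K) : K ≤ N := by
  obtain ⟨j, hj⟩ := hI
  have key : ∀ i : ℕ, K ≤ N ⊔ I ^ i • K := by
    intro i
    induction i with
    | zero => rw [pow_zero, Ideal.one_eq_top, Submodule.top_smul]; exact le_sup_right
    | succ i ih =>
      refine ih.trans (sup_le le_sup_left ?_)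
      calc I ^ i • K ≤ I ^ i • (N ⊔ I • K) := Submodule.smul_mono le_rfl h
        _ = I ^ i • N ⊔ I ^ i • (I • K) := Submodule.smul_sup _ _ _
        _ ≤ N ⊔ I ^ (i + 1) • K := by
          refine sup_le_sup Submodule.smul_le_right ?_
          rw [← Submodule.mul_smul, ← pow_succ]
  have := key j
  rwa [hj, Ideal.zero_eq_bot, Submodule.bot_smul, sup_bot_eq] at this

end Groth.Agent.Helper1.NilNak
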