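import Mathlib
import Groth.Agent.Lib.Helper1.NilNak

universe u v w
open TensorProduct

namespace Groth.Agent.Helper1.RegLift

section V
variable {A : Type u} [CommRing A] [IsLocalRing A]
  {M : Type v} [AddCommGroup M] [Module A M] (φ : M →ₗ[A] M)

local notation "𝔪" => IsLocalRing.maximalIdeal A

lemma tmul_eq_zero_of_mem {N : Type w} [AddCommGroup N] [Module A N]
    (hN : ∀ a ∈ 𝔪, ∀ n : N, a • n = 0) (n : N) {x : M} (hx : x ∈ 𝔪 • (⊤ : Submodule A M)) :
    n ⊗ₜ[A] x = 0 := by
  refine Submodule.smul_induction_on hx ?_ ?_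
  · intro a ha m _
    rw [← TensorProduct.smul_tmul, hN a ha, TensorProduct.zero_tmul]
  · intro x y hx hy
    rw [TensorProduct.tmul_add, hx, hy, add_zero]

/-- vector space case -/
lemma lTensor_injective_of_torsion (hφ : ∀ m : M, φ m ∈ 𝔪 • (⊤ : Submodule A M) → m ∈ 𝔪 • (⊤ : Submodule A M))
    {N : Type w} [AddCommGroup N] [Module A N] (hN : ∀ a ∈ 𝔪, ∀ n : N, a • n = 0) :
    Function.Injective (φ.lTensor N) := by
  let P : Submodule A M := 𝔪 • ⊤
  have hle : P ≤ P.comap φ := Submodule.smul_top_le_comap_smul_top 𝔪 φ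
  let f : (M ⧸ P) →ₗ[A] (M ⧸ P) := P.mapQ P φ hle
  have hf : Function.Injective f := by
    rw [injective_iff_map_eq_zero]
    intro x hx
    obtain ⟨m, rfl⟩ := P.mkQ_surjective x
    have : P.mkQ (φ m) = 0 := hx
    rw [Submodule.mkQ_apply, Submodule.Quotient.mk_eq_zero] at this
    rw [Submodule.mkQ_apply, Submodule.Quotient.mk_eq_zero]
    exact hφ m this
  let f' : (M ⧸ P) →ₗ[A ⧸ 𝔪] (M ⧸ P) :=
    LinearMap.extendScalarsOfSurjective (Ideal.Quotient.mk_surjective (I := 𝔪)) f
  letI : Field (A ⧸ 𝔪) := Ideal.Quotient.field 𝔪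
  obtain ⟨g', hg'⟩ := f'.exists_leftInverse_of_injective (LinearMap.ker_eq_bot.mpr hf)
  let g : (M ⧸ P) →ₗ[A] (M ⧸ P) := g'.restrictScalars A
  have hgf : g ∘ₗ f = LinearMap.id := by
    ext x
    exact LinearMap.congr_fun hg' (P.mkQ x)
  rw [injective_iff_map_eq_zero]
  intro z hz
  have h1 : (f.lTensor N) (P.mkQ.lTensor N z) = 0 := by
    have : f ∘ₗ P.mkQ = P.mkQ ∘ₗ φ := by ext; rfl
    rw [← LinearMap.comp_apply, ← LinearMap.lTensor_comp, this, LinearMap.lTensor_comp,
      LinearMap.comp_apply, hz, map_zero]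
  have h2 : P.mkQ.lTensor N z = 0 := by
    have := congrArg (g.lTensor N) h1
    rw [← LinearMap.comp_apply, ← LinearMap.lTensor_comp, hgf, LinearMap.lTensor_id, map_zero]
      at this
    exact this
  have hex := lTensor_exact N (LinearMap.exact_subtype_mkQ P) P.mkQ_surjective
  obtain ⟨w, rfl⟩ := (hex z).mp h2
  clear hz h1 h2
  induction w using TensorProduct.induction_on with
  | zero => simp
  | tmul n x =>
    rw [LinearMap.lTensor_tmul]
    exact tmul_eq_zero_of_mem hN n x.2
  | add x y hx hy => rw [map_add, hx, hy, add_zero]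


lemma lTensor_injective_of_pow [Module.Flat A M]
    (hφ : ∀ m : M, φ m ∈ 𝔪 • (⊤ : Submodule A M) → m ∈ 𝔪 • (⊤ : Submodule A M)) (j : ℕ) :
    ∀ (N : Type w) [AddCommGroup N] [Module A N], (𝔪 ^ j • (⊤ : Submodule A N) = ⊥) →
      Function.Injective (φ.lTensor N) := by
  induction j with
  | zero =>
    intro N _ _ h
    rw [pow_zero, Ideal.one_eq_top, Submodule.top_smul] at h
    have : Subsingleton N := by
      rw [← Submodule.subsingleton_iff A (M := N)]
      exact subsingleton_of_bot_eq_top h.symm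
    exact Function.injective_of_subsingleton _
  | succ j ih =>
    intro N _ _ h
    let N' : Submodule A N := 𝔪 • ⊤
    have h' : 𝔪 ^ j • (⊤ : Submodule A N') = ⊥ := by
      apply Submodule.map_injective_of_injective N'.injective_subtype
      rw [Submodule.map_smul'', Submodule.map_subtype_top, Submodule.map_bot]
      show 𝔪 ^ j • (𝔪 • (⊤ : Submodule A N)) = ⊥
      rw [← Submodule.mul_smul, ← pow_succ, h]
    have h'' : ∀ a ∈ 𝔪, ∀ n : N ⧸ N', a • n = 0 := by
      intro a ha n
      obtain ⟨x, rfl⟩ := N'.mkQ_surjective n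
      rw [← map_smul, Submodule.mkQ_apply, Submodule.Quotient.mk_eq_zero]
      exact Submodule.smul_mem_smul ha Submodule.mem_top
    have hV := lTensor_injective_of_torsion φ hφ h''
    have hI := ih N' h'
    have hex := rTensor_exact M (LinearMap.exact_subtype_mkQ N') N'.mkQ_surjective
    have hflat := Module.Flat.rTensor_preserves_injective_linearMap (M := M) N'.subtype
      N'.injective_subtype
    rw [injective_iff_map_eq_zero]
    intro z hz
    have h1 : N'.mkQ.rTensor M z = 0 := by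
      apply hV
      rw [map_zero, ← LinearMap.comp_apply, LinearMap.lTensor_comp_rTensor,
        ← LinearMap.rTensor_comp_lTensor, LinearMap.comp_apply, hz, map_zero]
    obtain ⟨z', rfl⟩ := (hex z).mp h1
    have h2 : φ.lTensor N' z' = 0 := by
      apply hflat
      rw [map_zero, ← LinearMap.comp_apply, LinearMap.rTensor_comp_lTensor,
        ← LinearMap.lTensor_comp_rTensor, LinearMap.comp_apply, hz]
    rw [hI (h2.trans (map_zero _).symm), map_zero]

/-- `N ⊗ φ` is injective for every `N`, when `𝔪` is nilpotent. -/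
lemma lTensor_injective [Module.Flat A M] (hnil : IsNilpotent 𝔪)
    (hφ : ∀ m : M, φ m ∈ 𝔪 • (⊤ : Submodule A M) → m ∈ 𝔪 • (⊤ : Submodule A M))
    (N : Type w) [AddCommGroup N] [Module A N] : Function.Injective (φ.lTensor N) := by
  obtain ⟨j, hj⟩ := hnil
  refine lTensor_injective_of_pow φ hφ j N ?_
  rw [hj, Ideal.zero_eq_bot, Submodule.bot_smul]



lemma mem_smul_top_iff_tmul_eq_zero (I : Ideal A) (m : M) :
    m ∈ I • (⊤ : Submodule A M) ↔ (1 : A ⧸ I) ⊗ₜ[A] m = 0 := by
  rw [← (TensorProduct.quotTensorEquivQuotSMul M I).map_eq_zero_iff,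
    TensorProduct.quotTensorEquivQuotSMul_mk_one_tmul, Submodule.Quotient.mk_eq_zero]

/-- regularity modulo `𝔪` implies regularity modulo every ideal -/
lemma mem_of_map_mem [Module.Flat A M] (hnil : IsNilpotent 𝔪)
    (hφ : ∀ m : M, φ m ∈ 𝔪 • (⊤ : Submodule A M) → m ∈ 𝔪 • (⊤ : Submodule A M))
    (I : Ideal A) {m : M} (hm : φ m ∈ I • (⊤ : Submodule A M)) :
    m ∈ I • (⊤ : Submodule A M) := by
  rw [mem_smul_top_iff_tmul_eq_zero] at hm ⊢
  apply lTensor_injective φ hnil hφ (A ⧸ I)
  rw [LinearMap.lTensor_tmul, hm, map_zero]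

lemma injective_of_mod [Module.Flat A M] (hnil : IsNilpotent 𝔪)
    (hφ : ∀ m : M, φ m ∈ 𝔪 • (⊤ : Submodule A M) → m ∈ 𝔪 • (⊤ : Submodule A M)) :
    Function.Injective φ := by
  rw [injective_iff_map_eq_zero]
  intro m hm
  have := mem_of_map_mem φ hnil hφ ⊥ (m := m) (by rw [hm]; exact Submodule.zero_mem _)
  rwa [Submodule.bot_smul, Submodule.mem_bot] at this

/-- the cokernel is flat -/
lemma flat_coker [Module.Flat A M] (hnil : IsNilpotent 𝔪)
    (hφ : ∀ m : M, φ m ∈ 𝔪 • (⊤ : Submodule A M) → m ∈ 𝔪 • (⊤ : Submodule A M))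
    {C : Type v} [AddCommGroup C] [Module A C] (p : M →ₗ[A] C) (hp : Function.Surjective p)
    (hex : Function.Exact φ p) : Module.Flat A C := by
  rw [Module.Flat.iff_rTensor_injective']
  intro I
  rw [injective_iff_map_eq_zero]
  intro c hc
  obtain ⟨m', rfl⟩ := LinearMap.lTensor_surjective I hp c
  have hexA := lTensor_exact A hex hp
  have h1 : p.lTensor A (I.subtype.rTensor M m') = 0 := by
    rw [← LinearMap.comp_apply, LinearMap.lTensor_comp_rTensor, ← LinearMap.rTensor_comp_lTensor,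
      LinearMap.comp_apply, hc]
  obtain ⟨m₁, hm₁⟩ := (hexA _).mp h1
  have hexI := rTensor_exact M (LinearMap.exact_subtype_mkQ I) I.mkQ_surjective
  have h2 : I.mkQ.rTensor M m₁ = 0 := by
    apply lTensor_injective φ hnil hφ (A ⧸ I)
    rw [map_zero, ← LinearMap.comp_apply, LinearMap.lTensor_comp_rTensor,
      ← LinearMap.rTensor_comp_lTensor, LinearMap.comp_apply, hm₁, ← LinearMap.comp_apply,
      ← LinearMap.rTensor_comp]
    have : I.mkQ ∘ₗ I.subtype = 0 := by
      ext x
      exact Ideal.Quotient.eq_zero_iff_mem.mpr x.2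
    rw [this, LinearMap.rTensor_zero, LinearMap.zero_apply]
  obtain ⟨m₁', rfl⟩ := (hexI _).mp h2
  have hflat := Module.Flat.rTensor_preserves_injective_linearMap (M := M) I.subtype
    I.injective_subtype
  have h3 : φ.lTensor I m₁' = m' := by
    apply hflat
    rw [← hm₁, ← LinearMap.comp_apply, LinearMap.rTensor_comp_lTensor,
      ← LinearMap.lTensor_comp_rTensor, LinearMap.comp_apply]
  rw [← h3, ← LinearMap.comp_apply, ← LinearMap.lTensor_comp]
  have : p ∘ₗ φ = 0 := by
    ext x
    exact hex.apply_apply_eq_zero x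
  rw [this, LinearMap.lTensor_zero, LinearMap.zero_apply]



/-- existence of a socle element modulo a proper ideal -/
lemma exists_socle (hnil : IsNilpotent 𝔪) (I : Ideal A) (hI : I ≠ ⊤) :
    ∃ t : A, t ∉ I ∧ ∀ a ∈ 𝔪, a * t ∈ I := by
  classical
  obtain ⟨j, hj⟩ := hnil
  have hex : ∃ i, 𝔪 ^ i ≤ I := ⟨j, by rw [hj]; exact bot_le⟩
  have h0 : Nat.find hex ≠ 0 := by
    intro h
    have := Nat.find_spec hex
    rw [h, pow_zero, Ideal.one_eq_top, top_le_iff] at this
    exact hI this
  obtain ⟨i, hi⟩ := Nat.exists_eq_succ_of_ne_zero h0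
  have h1 : ¬ 𝔪 ^ i ≤ I := Nat.find_min hex (by omega)
  obtain ⟨t, ht, htI⟩ := Set.not_subset.mp h1
  refine ⟨t, htI, fun a ha => ?_⟩
  have h2 := Nat.find_spec hex
  rw [hi, pow_succ'] at h2
  exact h2 (Ideal.mul_mem_mul ha ht)

/-- socle argument: regularity modulo a proper ideal implies regularity modulo `𝔪` -/
lemma mem_max_of_map_mem [Module.Flat A M] (hnil : IsNilpotent 𝔪) (I : Ideal A) (hI : I ≠ ⊤)
    (hφ : ∀ m : M, φ m ∈ I • (⊤ : Submodule A M) → m ∈ I • (⊤ : Submodule A M))
    {m : M} (hm : φ m ∈ 𝔪 • (⊤ : Submodule A M)) : m ∈ 𝔪 • (⊤ : Submodule A M) := by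
  obtain ⟨t, htI, ht⟩ := exists_socle hnil I hI
  -- `τ : A/𝔪 → A/I`, multiplication by `t`
  let τ₀ : A →ₗ[A] A ⧸ I := I.mkQ ∘ₗ LinearMap.mulLeft A t
  have hτ₀ : 𝔪 ≤ LinearMap.ker τ₀ := by
    intro a ha
    show Ideal.Quotient.mk I (t * a) = 0
    rw [Ideal.Quotient.eq_zero_iff_mem, mul_comm]
    exact ht a ha
  let τ : (A ⧸ 𝔪) →ₗ[A] A ⧸ I := Submodule.liftQ 𝔪 τ₀ hτ₀
  have hτ : Function.Injective τ := by
    rw [injective_iff_map_eq_zero]
    intro x hx
    obtain ⟨a, rfl⟩ := Ideal.Quotient.mk_surjective x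
    have h1 : Ideal.Quotient.mk I (t * a) = 0 := hx
    rw [Ideal.Quotient.eq_zero_iff_mem] at h1
    rw [Ideal.Quotient.eq_zero_iff_mem]
    by_contra hne
    have hu : IsUnit a := by
      by_contra hnu
      exact hne ((IsLocalRing.mem_maximalIdeal a).mpr hnu)
    obtain ⟨u, rfl⟩ := hu
    apply htI
    have := I.mul_mem_right (↑u⁻¹ : A) h1
    rwa [mul_assoc, Units.mul_inv, mul_one] at this
  have hτM := Module.Flat.rTensor_preserves_injective_linearMap (M := M) τ hτ
  -- `t • φ m ∈ I M`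
  have h1 : ∀ x ∈ 𝔪 • (⊤ : Submodule A M), t • x ∈ I • (⊤ : Submodule A M) := by
    intro x hx
    refine Submodule.smul_induction_on hx ?_ ?_
    · intro a ha y _
      rw [smul_smul, mul_comm]
      exact Submodule.smul_mem_smul (ht a ha) Submodule.mem_top
    · intro x y hx hy
      rw [smul_add]; exact Submodule.add_mem _ hx hy
  have h2 : t • m ∈ I • (⊤ : Submodule A M) := by
    apply hφ
    rw [map_smul]
    exact h1 _ hm
  rw [mem_smul_top_iff_tmul_eq_zero] at h2 ⊢
  apply hτM
  rw [map_zero, LinearMap.rTensor_tmul]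
  have : τ 1 = t • (1 : A ⧸ I) := by
    show Ideal.Quotient.mk I (t * 1) = _
    rw [mul_one, Algebra.smul_def, mul_one]; rfl
  rw [this, TensorProduct.smul_tmul, h2]


end V


section seq
open RingTheory.Sequence Pointwise
variable {A : Type u} [CommRing A] [IsLocalRing A]
  {S : Type v} [CommRing S] [Algebra A S]

local notation "𝔪" => IsLocalRing.maximalIdeal A

section
variable {M : Type w} [AddCommGroup M] [Module S M] [Module A M] [IsScalarTower A S M]

lemma mem_map_smul_top_iff (I : Ideal A) (x : M) :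
    x ∈ (I.map (algebraMap A S) • (⊤ : Submodule S M)) ↔ x ∈ I • (⊤ : Submodule A M) := by
  constructor
  · intro hx
    refine Submodule.smul_induction_on hx ?_ ?_
    · intro r hr
      refine Submodule.span_induction ?_ ?_ ?_ ?_ hr
      · rintro _ ⟨a, ha, rfl⟩ m _
        rw [algebraMap_smul]
        exact Submodule.smul_mem_smul ha Submodule.mem_top
      · intro m _
        rw [zero_smul]; exact Submodule.zero_mem _
      · intro x y _ _ hx hy m hm
        rw [add_smul]; exact Submodule.add_mem _ (hx m hm) (hy m hm)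
      · intro s x _ hx m hm
        rw [smul_eq_mul, mul_comm, mul_smul]
        exact hx (s • m) Submodule.mem_top
    · intro x y hx hy
      exact Submodule.add_mem _ hx hy
  · intro hx
    refine Submodule.smul_induction_on hx ?_ ?_
    · intro a ha m _
      rw [← algebraMap_smul S a m]
      exact Submodule.smul_mem_smul (Ideal.mem_map_of_mem _ ha) Submodule.mem_top
    · intro x y hx hy
      exact Submodule.add_mem _ hx hy

/-- multiplication by `r` as an `A`-linear map -/
def mulA (r : S) : M →ₗ[A] M := (LinearMap.lsmul S M r).restrictScalars A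

@[simp] lemma mulA_apply (r : S) (m : M) : mulA (A := A) r m = r • m := rfl

lemma step [Module.Flat A M] (hnil : IsNilpotent 𝔪) (I : Ideal A) (hI : I ≠ ⊤) (r : S) :
    (IsSMulRegular (M ⧸ (I.map (algebraMap A S) • (⊤ : Submodule S M))) r ↔ IsSMulRegular M r) ∧
    (IsSMulRegular M r → Module.Flat A (QuotSMulTop r M)) := by
  have hbot : (⊥ : Ideal A) ≠ ⊤ := bot_ne_top
  have key : IsSMulRegular M r →
      ∀ m : M, mulA (A := A) r m ∈ 𝔪 • (⊤ : Submodule A M) → m ∈ 𝔪 • (⊤ : Submodule A M) := by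
    intro h m hm
    refine mem_max_of_map_mem (mulA (A := A) r) hnil ⊥ hbot ?_ hm
    intro m' hm'
    rw [Submodule.bot_smul, Submodule.mem_bot] at hm' ⊢
    exact h (by simpa using hm')
  have key2 : (∀ m : M, mulA (A := A) r m ∈ 𝔪 • (⊤ : Submodule A M) →
      m ∈ 𝔪 • (⊤ : Submodule A M)) → IsSMulRegular M r := by
    intro h
    exact injective_of_mod (mulA (A := A) r) hnil h
  refine ⟨⟨fun h => ?_, fun h => ?_⟩, fun h => ?_⟩
  · apply key2
    intro m hm
    refine mem_max_of_map_mem (mulA (A := A) r) hnil I hI ?_ hm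
    intro m' hm'
    rw [isSMulRegular_quotient_iff_mem_of_smul_mem] at h
    rw [← mem_map_smul_top_iff (S := S)] at hm' ⊢
    exact h m' hm'
  · rw [isSMulRegular_quotient_iff_mem_of_smul_mem]
    intro m hm
    rw [mem_map_smul_top_iff] at hm ⊢
    exact mem_of_map_mem (mulA (A := A) r) hnil (key h) I hm
  · let p : M →ₗ[A] QuotSMulTop r M :=
      (Submodule.mkQ (r • (⊤ : Submodule S M))).restrictScalars A
    have hp : Function.Surjective p := Submodule.mkQ_surjective (r • (⊤ : Submodule S M))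
    refine flat_coker (C := QuotSMulTop r M) (mulA (A := A) r) hnil (key h) p hp ?_
    intro x
    show Submodule.Quotient.mk (p := r • (⊤ : Submodule S M)) x = 0 ↔ _
    rw [Submodule.Quotient.mk_eq_zero, Submodule.mem_smul_pointwise_iff_exists]
    constructor
    · rintro ⟨y, _, rfl⟩
      exact ⟨y, rfl⟩
    · rintro ⟨y, rfl⟩
      exact ⟨y, Submodule.mem_top, rfl⟩

end


section iso
variable {S : Type v} [CommRing S] (M : Type w) [AddCommGroup M] [Module S M]

/-- `(M/JM)/r ≃ (M/r)/J(M/r)` -/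
noncomputable def quotSwap (J : Ideal S) (r : S) :
    QuotSMulTop r (M ⧸ (J • (⊤ : Submodule S M))) ≃ₗ[S]
      (QuotSMulTop r M) ⧸ (J • (⊤ : Submodule S (QuotSMulTop r M))) :=
  Submodule.quotEquivOfEq _ _
      (by rw [Submodule.map_pointwise_smul, Submodule.map_top, Submodule.range_mkQ] :
        (r • (⊤ : Submodule S (M ⧸ (J • (⊤ : Submodule S M))))) =
          (r • (⊤ : Submodule S M)).map (J • (⊤ : Submodule S M)).mkQ) ≪≫ₗ
    Submodule.quotientQuotientEquivQuotientSup (J • (⊤ : Submodule S M)) (r • (⊤ : Submodule S M)) ≪≫ₗ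
    Submodule.quotEquivOfEq _ _ (sup_comm _ _) ≪≫ₗ
    (Submodule.quotientQuotientEquivQuotientSup (r • (⊤ : Submodule S M))
      (J • (⊤ : Submodule S M))).symm ≪≫ₗ
    Submodule.quotEquivOfEq _ _
      (by rw [Submodule.map_smul'', Submodule.map_top, Submodule.range_mkQ] :
        (J • (⊤ : Submodule S M)).map (r • (⊤ : Submodule S M)).mkQ =
          (J • (⊤ : Submodule S (QuotSMulTop r M))))

end iso

theorem main (hnil : IsNilpotent 𝔪) (I : Ideal A) (hI : I ≠ ⊤) (rs : List S) :
    ∀ (M : Type w) [AddCommGroup M] [Module S M] [Module A M] [IsScalarTower A S M]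
      [Module.Flat A M],
      (IsWeaklyRegular (M ⧸ (I.map (algebraMap A S) • (⊤ : Submodule S M))) rs ↔
        IsWeaklyRegular M rs) ∧
      (IsWeaklyRegular M rs → Module.Flat A (M ⧸ (Ideal.ofList rs • (⊤ : Submodule S M)))) := by
  induction rs with
  | nil =>
    intro M _ _ _ _ _
    refine ⟨⟨fun _ => IsWeaklyRegular.nil S M, fun _ => IsWeaklyRegular.nil S _⟩, fun _ => ?_⟩
    have h0 : (Ideal.ofList ([] : List S) • (⊤ : Submodule S M)) = ⊥ := by
      rw [Ideal.ofList_nil, Submodule.bot_smul]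
    exact Module.Flat.of_linearEquiv
      ((Submodule.quotEquivOfEqBot _ h0).restrictScalars A)
  | cons r rs ih =>
    intro M _ _ _ _ _
    obtain ⟨h1, h2⟩ := step (M := M) hnil I hI r
    rw [isWeaklyRegular_cons_iff, isWeaklyRegular_cons_iff, h1]
    refine ⟨?_, ?_⟩
    · refine and_congr_right fun hr => ?_
      have := h2 hr
      rw [(quotSwap M (I.map (algebraMap A S)) r).isWeaklyRegular_congr rs]
      exact (ih (QuotSMulTop r M)).1
    · rintro ⟨hr, hrs⟩
      have := h2 hr
      have := (ih (QuotSMulTop r M)).2 hrs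
      exact Module.Flat.of_linearEquiv
        ((Submodule.quotOfListConsSMulTopEquivQuotSMulTopInner M r rs).restrictScalars A)


end seq

end Groth.Agent.Helper1.RegLift
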