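import Mathlib
import Groth.Agent.Lib.Helper2.Sch.SmoothFieldRegular
import Groth.Agent.Lib.Helper4.RegularLocalCopy
import Groth.Agent.Lib.Helper1.Conn1

/-!
# Stalks of smooth curves over a field are valuation rings; smooth + connected ⇒ integral (helper1)
-/

set_option autoImplicit false
universe u

namespace Groth.Agent.Helper1.VB5

open CategoryTheory CategoryTheory.Limits AlgebraicGeometry TopologicalSpace IsLocalRing

theorem coheight_le_topologicalKrullDim {Y : Scheme.{u}} (y : Y) :
    (Order.coheight y : WithBot ℕ∞) ≤ topologicalKrullDim Y := by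
  letI := specializationOrder Y
  have h1 := Order.coheight_orderIso (irreducibleSetEquivPoints (α := Y)).symm y
  have h2 := Order.coheight_le_krullDim ((irreducibleSetEquivPoints (α := Y)).symm y)
  rw [h1] at h2
  exact h2

theorem valuationRing_of_regular (R : Type u) [CommRing R] [IsDomain R] [IsRegularLocalRing R]
    (h : ringKrullDim R ≤ 1) : ValuationRing R := by
  have h1 : (Module.finrank (ResidueField R) (CotangentSpace R) : WithBot ℕ∞) = ringKrullDim R :=
    (IsRegularLocalRing.iff_finrank_cotangentSpace R).1 inferInstance
  have h2 : Module.finrank (ResidueField R) (CotangentSpace R) ≤ 1 := by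
    have : (Module.finrank (ResidueField R) (CotangentSpace R) : WithBot ℕ∞) ≤ 1 := h1 ▸ h
    exact_mod_cast this
  exact ((tfae_of_isNoetherianRing_of_isLocalRing_of_isDomain (R := R)).out 5 1).1 h2

theorem ringKrullDim_stalk_le {X : Scheme.{u}} (hdim : topologicalKrullDim X ≤ 1) (x : X) :
    ringKrullDim (X.presheaf.stalk x) ≤ 1 := by
  rw [ringKrullDim_stalk_eq_coheight x]
  exact (coheight_le_topologicalKrullDim x).trans hdim

theorem isDomain_stalk_of_smooth (k : Type u) [Field k] {X : Scheme.{u}}
    (f : X ⟶ Spec (CommRingCat.of k)) [Smooth f] (x : X) : IsDomain (X.presheaf.stalk x) := by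
  haveI := Groth.Agent.Helper2.SmoothFieldRegular.S1535_main k f x
  exact Groth.Agent.Lib.Helper4.RegularLocalCopy.isDomain _

theorem valuationRing_stalk_of_smooth (k : Type u) [Field k] {X : Scheme.{u}} [IsIntegral X]
    (f : X ⟶ Spec (CommRingCat.of k)) [Smooth f] (hdim : topologicalKrullDim X ≤ 1) (x : X) :
    ValuationRing (X.presheaf.stalk x) := by
  haveI := Groth.Agent.Helper2.SmoothFieldRegular.S1535_main k f x
  exact valuationRing_of_regular _ (ringKrullDim_stalk_le hdim x)

theorem isNoetherian_of_proper (k : Type u) [Field k] {X : Scheme.{u}}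
    (f : X ⟶ Spec (CommRingCat.of k)) [LocallyOfFiniteType f] [QuasiCompact f] :
    IsNoetherian X := by
  haveI : IsLocallyNoetherian X := LocallyOfFiniteType.isLocallyNoetherian f
  haveI : CompactSpace X := by
    have := QuasiCompact.compactSpace_of_compactSpace f
    exact this
  exact { }

theorem isIntegral_of_smooth_connected (k : Type u) [Field k] {X : Scheme.{u}}
    (f : X ⟶ Spec (CommRingCat.of k)) [Smooth f] [QuasiCompact f] [GeometricallyConnected f] :
    IsIntegral X := by
  haveI : IsNoetherian X := isNoetherian_of_proper k f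
  haveI : ConnectedSpace X := by
    haveI : Subsingleton ↥(Spec (CommRingCat.of k)) :=
      inferInstanceAs (Subsingleton (PrimeSpectrum k))
    haveI : Nonempty ↥(Spec (CommRingCat.of k)) :=
      inferInstanceAs (Nonempty (PrimeSpectrum k))
    exact GeometricallyConnected.connectedSpace_of_subsingleton (f := f)
  exact Groth.Agent.Helper1.Conn1.isIntegral_of_connected X
    (fun x => isDomain_stalk_of_smooth k f x)

end Groth.Agent.Helper1.VB5
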