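import Mathlib
import Groth.Agent.Lib.Helper1.CurveLin3
import Groth.Agent.Lib.Helper1.VB5

/-!
# `h⁰(L) ≤ deg L` on smooth proper curves of positive genus over an algebraically closed field
(helper1)
-/

set_option autoImplicit false
universe u
open CategoryTheory CategoryTheory.Limits AlgebraicGeometry TopologicalSpace Opposite

namespace Groth.Agent.Helper1.CurveLin

open Groth.Agent.Lib.Helper4

/-- the structure map `k → Γ(X, ⊤)` -/
noncomputable def toΓ' (k : Type u) [Field k] (X : Scheme.{u}) (f : X ⟶ Spec (CommRingCat.of k)) :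
    k →+* Γ(X, ⊤) :=
  (f.appTop).hom.comp (Scheme.ΓSpecIso (CommRingCat.of k)).inv.hom

/-- `H^0(X, O_X)` is `k`-linearly isomorphic to the ring of global sections -/
theorem nonempty_HH_zero_linearEquiv' (k : Type u) [Field k] (X : Scheme.{u})
    [X.Over (Spec (CommRingCat.of k))] :
    letI := (toΓ' k X (X ↘ Spec (CommRingCat.of k))).toAlgebra
    Nonempty (Coh.HH X (Coh.structureModule X) 0 ≃ₗ[k] Γ(X, ⊤)) := by
  letI a1 : Algebra k Γ(X, ⊤) := (toΓ' k X (X ↘ Spec (CommRingCat.of k))).toAlgebra
  let E := Groth.Agent.Helper1.HH0.equiv X (Coh.structureModule X)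
  let toG : ↑((Coh.structureModule X).val.obj (op ⊤)) → Γ(X, ⊤) := fun m => m
  let ofG : Γ(X, ⊤) → ↑((Coh.structureModule X).val.obj (op ⊤)) := fun m => m
  exact ⟨{ toFun := fun x => toG (E x)
           invFun := fun s => E.symm (ofG s)
           map_add' := fun x y => by
             show toG (E (x + y)) = toG (E x) + toG (E y)
             rw [map_add]; rfl
           map_smul' := fun a x => by
             show toG (E (a • x)) = toΓ' k X (X ↘ Spec (CommRingCat.of k)) a * toG (E x)
             rw [Groth.Agent.Helper1.HH0.equiv_smul_over]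
             rfl
           left_inv := fun x => E.left_inv x
           right_inv := fun s => E.right_inv (ofG s) }⟩

/-- global functions on a proper integral scheme over an algebraically closed field are constant -/
theorem finrank_HH_zero_eq_one_of_isAlgClosed (k : Type u) [Field k] [IsAlgClosed k]
    (X : Scheme.{u}) [X.Over (Spec (CommRingCat.of k))]
    [IsProper (X ↘ Spec (CommRingCat.of k))] [IsIntegral X] :
    Module.finrank k (Coh.HH X (Coh.structureModule X) 0) = 1 := by
  letI a1 : Algebra k Γ(X, ⊤) := (toΓ' k X (X ↘ Spec (CommRingCat.of k))).toAlgebra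
  obtain ⟨L⟩ := nonempty_HH_zero_linearEquiv' k X
  have hOc : Coh.IsCoh (Coh.structureModule X) :=
    InvQc.isCoh_of_isInvertible _ GenLoc.isInvertible_O
  haveI : Module.Finite k (Coh.HH X (Coh.structureModule X) 0) := T2Main1.t2 k X _ hOc 0
  haveI : Module.Finite k Γ(X, ⊤) := Module.Finite.equiv L
  rw [L.finrank_eq]
  haveI : IsDomain Γ(X, ⊤) := inferInstance
  haveI : Algebra.IsIntegral k Γ(X, ⊤) := Algebra.IsIntegral.of_finite k _
  have hb := IsAlgClosed.algebraMap_bijective_of_isIntegral (k := k) (K := Γ(X, ⊤))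
  let e : k ≃ₗ[k] Γ(X, ⊤) := LinearEquiv.ofBijective (Algebra.linearMap k Γ(X, ⊤)) hb
  rw [← e.finrank_eq, Module.finrank_self]

theorem h0_le_deg (k : Type u) [Field k] [IsAlgClosed k]
    (X : Scheme.{u}) [X.Over (Spec (CommRingCat.of k))]
    [IsProper (X ↘ Spec (CommRingCat.of k))] [Smooth (X ↘ Spec (CommRingCat.of k))]
    [ConnectedSpace ↥X]
    (hX : topologicalKrullDim ↥X = 1) (hg : 1 ≤ Curv2.genus k X)
    (L : X.Modules) (hL : PicF.IsInvertible L) (hdeg : 0 < Curv2.deg k X L 1) :
    (Module.finrank k (Coh.HH X L 0) : ℤ) ≤ Curv2.deg k X L 1 := by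
  haveI : IsNoetherian X := VB5.isNoetherian_of_proper k (X ↘ Spec (CommRingCat.of k))
  haveI : IsIntegral X := Groth.Agent.Helper1.Conn1.isIntegral_of_connected X
    (fun x => VB5.isDomain_stalk_of_smooth k (X ↘ Spec (CommRingCat.of k)) x)
  have h0 := finrank_HH_zero_eq_one_of_isAlgClosed k X
  by_cases hs : Nontrivial (Coh.HH X L 0)
  · obtain ⟨h1, h2⟩ := main k X hX h0 L hL hs
    by_contra hlt
    have heq : (Module.finrank k (Coh.HH X L 0) : ℤ) = Curv2.deg k X L 1 + 1 := by omega
    have := h2 heq hdeg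
    omega
  · rw [not_nontrivial_iff_subsingleton] at hs
    rw [Module.finrank_zero_of_subsingleton]
    exact_mod_cast hdeg.le

end Groth.Agent.Helper1.CurveLin
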