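import Mathlib
import Groth.Agent.Lib.Helper1.CurveLin4

/-!
# Global functions on a proper reduced connected scheme form a field `κ`, and `[κ : k]` divides all
degrees (helper1)
-/

set_option autoImplicit false
universe u
open CategoryTheory CategoryTheory.Limits AlgebraicGeometry TopologicalSpace Opposite

namespace Groth.Agent.Helper1.GlobField

open Groth.Agent.Lib.Helper4 Groth.Agent.Helper1.CurveLin

section Alg

/-- a reduced artinian ring whose only idempotents are `0` and `1` is a field -/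
theorem isField_of_trivial_idempotents (A : Type*) [CommRing A] [IsArtinianRing A] [IsReduced A]
    [Nontrivial A] (h : ∀ e : A, IsIdempotentElem e → e = 0 ∨ e = 1) : IsField A := by
  refine ⟨Nontrivial.exists_pair_ne, mul_comm, fun {x} hx => ?_⟩
  obtain ⟨n, y, hy⟩ := IsArtinian.exists_pow_succ_smul_dvd x (1 : A)
  have hy' : x ^ n = x ^ n * (x * y) := by
    have : x ^ (n + 1) * y = x ^ n * 1 := hy
    rw [mul_one] at this
    calc x ^ n = x ^ (n + 1) * y := this.symm
      _ = x ^ n * (x * y) := by ring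
  have hpow : ∀ m : ℕ, x ^ n = x ^ n * (x * y) ^ m := by
    intro m
    induction m with
    | zero => rw [pow_zero, mul_one]
    | succ m ih =>
      rw [pow_succ, ← mul_assoc, ← ih, ← hy']
  have hid : IsIdempotentElem ((x * y) ^ n) := by
    change (x * y) ^ n * (x * y) ^ n = (x * y) ^ n
    have h1 := hpow n
    calc (x * y) ^ n * (x * y) ^ n = (x ^ n * (x * y) ^ n) * y ^ n := by rw [mul_pow]; ring
      _ = x ^ n * y ^ n := by rw [← h1]
      _ = (x * y) ^ n := by rw [mul_pow]
  rcases h _ hid with h0 | h1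
  · exfalso
    apply hx
    have : x ^ n = 0 := by rw [hpow n, h0, mul_zero]
    exact IsReduced.eq_zero x ⟨n, this⟩
  · rcases Nat.eq_zero_or_pos n with hn | hn
    · subst hn
      refine ⟨y, ?_⟩
      have : x ^ (0 + 1) * y = x ^ 0 * 1 := hy
      simpa using this
    · refine ⟨y * (x * y) ^ (n - 1), ?_⟩
      calc x * (y * (x * y) ^ (n - 1)) = (x * y) ^ (n - 1 + 1) := by rw [pow_succ]; ring
        _ = (x * y) ^ n := by rw [Nat.sub_add_cancel hn]
        _ = 1 := h1

end Alg

section Idem

variable {X : Scheme.{u}}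

/-- global idempotents on a reduced connected scheme are trivial -/
theorem idempotent_trivial [IsReduced X] [ConnectedSpace X] (e : Γ(X, ⊤))
    (he : IsIdempotentElem e) : e = 0 ∨ e = 1 := by
  have hdisj : X.basicOpen e ⊓ X.basicOpen (1 - e) = ⊥ := by
    rw [← Scheme.basicOpen_mul]
    have : e * (1 - e) = 0 := by
      rw [mul_sub, mul_one, he.eq, sub_self]
    rw [this, Scheme.basicOpen_zero]
  have hcov : ∀ x : X, x ∈ X.basicOpen e ∨ x ∈ X.basicOpen (1 - e) := by
    intro x
    rw [Scheme.mem_basicOpen _ _ _ (show x ∈ (⊤ : X.Opens) from trivial),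
      Scheme.mem_basicOpen _ _ _ (show x ∈ (⊤ : X.Opens) from trivial)]
    rw [map_sub, map_one]
    exact IsLocalRing.isUnit_or_isUnit_one_sub_self _
  have hcl : IsClopen (X.basicOpen e : Set X) := by
    refine ⟨?_, (X.basicOpen e).isOpen⟩
    have : (X.basicOpen e : Set X) = ((X.basicOpen (1 - e) : Set X))ᶜ := by
      ext x
      constructor
      · intro hx hx'
        have : x ∈ X.basicOpen e ⊓ X.basicOpen (1 - e) := ⟨hx, hx'⟩
        rw [hdisj] at this
        exact this
      · intro hx
        exact (hcov x).resolve_right hx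
    rw [this]
    exact (X.basicOpen (1 - e)).isOpen.isClosed_compl
  rcases isClopen_iff.1 hcl with h | h
  · left
    have : X.basicOpen e = ⊥ := by
      apply SetLike.coe_injective
      exact h
    exact (basicOpen_eq_bot_iff e).1 this
  · right
    have h2 : X.basicOpen (1 - e) = ⊥ := by
      rw [eq_bot_iff]
      intro x hx
      have hx' : x ∈ (X.basicOpen e : Set X) := by rw [h]; trivial
      have : x ∈ X.basicOpen e ⊓ X.basicOpen (1 - e) := ⟨hx', hx⟩
      rw [hdisj] at this
      exact this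
    have := (basicOpen_eq_bot_iff (1 - e)).1 h2
    exact (sub_eq_zero.1 this).symm

end Idem

section Main

variable (k : Type u) [Field k] (X : Scheme.{u}) [X.Over (Spec (CommRingCat.of k))]

/-- the tower law for cohomology over the field of global functions -/
theorem finrank_HH_dvd (hF : IsField Γ(X, ⊤)) (M : X.Modules) (i : ℕ) :
    letI : Algebra k Γ(X, ⊤) := (toΓ' k X (X ↘ Spec (CommRingCat.of k))).toAlgebra
    Module.finrank k Γ(X, ⊤) ∣ Module.finrank k (Coh.HH X M i) := by
  letI : Algebra k Γ(X, ⊤) := (toΓ' k X (X ↘ Spec (CommRingCat.of k))).toAlgebra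
  letI : Field Γ(X, ⊤) := hF.toField
  letI : Module Γ(X, ⊤) (Coh.HH X M i) := Coh.moduleΓtop M i
  haveI : IsScalarTower k Γ(X, ⊤) (Coh.HH X M i) := by
    refine ⟨fun c a m => ?_⟩
    change (toΓ' k X (X ↘ Spec (CommRingCat.of k)) c * a) • m =
      toΓ' k X (X ↘ Spec (CommRingCat.of k)) c • (a • m)
    rw [mul_smul]
  have := Module.finrank_mul_finrank k Γ(X, ⊤) (Coh.HH X M i)
  exact Dvd.intro _ this

/-- `w` divides every Euler characteristic -/
theorem dvd_euler (hF : IsField Γ(X, ⊤)) (M : X.Modules) :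
    letI : Algebra k Γ(X, ⊤) := (toΓ' k X (X ↘ Spec (CommRingCat.of k))).toAlgebra
    (Module.finrank k Γ(X, ⊤) : ℤ) ∣ Curv2.euler k X M := by
  letI : Algebra k Γ(X, ⊤) := (toΓ' k X (X ↘ Spec (CommRingCat.of k))).toAlgebra
  unfold Curv2.euler
  by_cases hfin : (Function.support fun i : ℕ =>
      (-1 : ℤ) ^ i * (Module.finrank k (Coh.HH X M i) : ℤ)).Finite
  · rw [finsum_eq_sum _ hfin]
    apply Finset.dvd_sum
    intro i _
    apply Dvd.dvd.mul_left
    exact Int.natCast_dvd_natCast.2 (finrank_HH_dvd k X hF M i)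
  · rw [finsum_of_infinite_support hfin]
    exact dvd_zero _

attribute [local instance] Curv2.resAlgebra

theorem main [IsProper (X ↘ (Spec (CommRingCat.of k)))] [IsReduced X] [ConnectedSpace X] :
    letI : Algebra k Γ(X, ⊤) := ((X ↘ (Spec (CommRingCat.of k))).appTop.hom.comp
      (Scheme.ΓSpecIso (CommRingCat.of k)).inv.hom).toAlgebra
    IsField Γ(X, ⊤) ∧ Module.Finite k Γ(X, ⊤) ∧
      (∀ (n : ℕ) (E : X.Modules), FlatMod.IsFinLocFreeOfRank n E →
        (Module.finrank k Γ(X, ⊤) : ℤ) ∣ Curv2.deg k X E n) ∧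
      (∀ x : X, IsClosed ({x} : Set X) →
        Module.finrank k Γ(X, ⊤) ∣ Module.finrank k (X.residueField x)) ∧
      (∀ D : X.IdealSheafData, topologicalKrullDim D.subscheme ≤ 0 →
        Module.finrank k Γ(X, ⊤) ∣ Module.finrank k (Coh.HH X (ClSub.quotMod D) 0)) := by
  letI a1 : Algebra k Γ(X, ⊤) := (toΓ' k X (X ↘ Spec (CommRingCat.of k))).toAlgebra
  obtain ⟨Le⟩ := nonempty_HH_zero_linearEquiv' k X
  have hOc : Coh.IsCoh (Coh.structureModule X) :=
    InvQc.isCoh_of_isInvertible _ GenLoc.isInvertible_O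
  haveI : Module.Finite k (Coh.HH X (Coh.structureModule X) 0) := T2Main1.t2 k X _ hOc 0
  haveI hfin : Module.Finite k Γ(X, ⊤) := Module.Finite.equiv Le
  haveI : IsArtinianRing Γ(X, ⊤) := IsArtinianRing.of_finite k _
  haveI : Nonempty X := ConnectedSpace.toNonempty
  haveI : Nonempty ↥(⊤ : X.Opens) := ⟨⟨Classical.arbitrary X, trivial⟩⟩
  haveI : Nontrivial Γ(X, ⊤) := inferInstance
  have hF : IsField Γ(X, ⊤) :=
    isField_of_trivial_idempotents _ (fun e he => idempotent_trivial e he)
  refine ⟨hF, hfin, ?_, ?_, ?_⟩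
  · intro n E _
    unfold Curv2.deg
    apply dvd_sub (dvd_euler k X hF E)
    exact Dvd.dvd.mul_left (dvd_euler k X hF _) _
  · intro x _
    letI : Field Γ(X, ⊤) := hF.toField
    let ρ : Γ(X, ⊤) →+* X.residueField x :=
      (X.residue x).hom.comp (X.presheaf.germ ⊤ x trivial).hom
    letI : Algebra Γ(X, ⊤) (X.residueField x) := ρ.toAlgebra
    haveI : IsScalarTower k Γ(X, ⊤) (X.residueField x) :=
      IsScalarTower.of_algebraMap_eq (fun c => rfl)
    have := Module.finrank_mul_finrank k Γ(X, ⊤) (X.residueField x)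
    exact Dvd.intro _ this
  · intro D _
    exact finrank_HH_dvd k X hF _ 0

end Main

end Groth.Agent.Helper1.GlobField
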