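import Mathlib
import Groth.Agent.Lib.Helper1.CurveDual4
import Groth.Agent.Lib.Helper1.Curve3
import Groth.Agent.Lib.Helper1.CurveLin4

/-!
# Finite subschemes impose independent conditions on invertible modules of large degree (helper1)
-/

set_option autoImplicit false
universe u
open CategoryTheory CategoryTheory.Limits AlgebraicGeometry TopologicalSpace Opposite

namespace Groth.Agent.Helper1.CurveDual

open Groth.Agent.Helper1.QcCech Groth.Agent.Helper1.SubSh Groth.Agent.Helper1.LGen
open Groth.Agent.Helper1.TmulLib Groth.Agent.Helper1 Groth.Agent.Helper1.TwForm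
open Groth.Agent.Helper1.TensGen Groth.Agent.Lib.Helper4.TwExact Groth.Agent.Helper1.Dv
open Groth.Agent.Lib.Helper4 Groth.Agent.Helper1.CurveAmp Groth.Agent.Helper1.FinSupp
open Groth.Agent.Helper1.Euler Groth.Agent.Helper1.Curve Groth.Agent.Helper1.CurveLin

section Bot

variable {X : Scheme.{u}}

/-- the ideal module of the zero ideal sheaf is zero -/
theorem idealModι_bot_eq_zero : ClSub.idealModι (⊥ : X.IdealSheafData) = 0 := by
  apply Scheme.Modules.hom_ext
  intro U
  ext m
  change (ClSub.idealModι (⊥ : X.IdealSheafData)).app U m = 0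
  apply TwistSec.eq_of_locally
  intro x hx
  obtain ⟨_, ⟨W, hW, rfl⟩, hxW, hWU⟩ :=
    X.isBasis_affineOpens.exists_subset_of_mem_open hx U.isOpen
  refine ⟨W, hWU, hxW, ?_⟩
  rw [map_zero]
  have h1 := QcExt.app_res (ClSub.idealModι (⊥ : X.IdealSheafData)) hWU m
  rw [← h1]
  have h2 : Groth.Agent.Lead.IdM.ιL (⊥ : X.IdealSheafData) W
      (res (ClSub.idealMod (⊥ : X.IdealSheafData)) hWU m) ∈
      LinearMap.range (Groth.Agent.Lead.IdM.ιL (⊥ : X.IdealSheafData) W) := ⟨_, rfl⟩
  rw [Groth.Agent.Lead.IdM.range_ιL (⊥ : X.IdealSheafData) ⟨W, hW⟩] at h2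
  exact h2

instance isIso_toSubscheme_bot : IsIso (ClSub.toSubscheme (⊥ : X.IdealSheafData)) := by
  haveI : Mono (ClSub.toSubscheme (⊥ : X.IdealSheafData)) :=
    Preadditive.mono_of_kernel_zero idealModι_bot_eq_zero
  exact isIso_of_mono_of_epi _

end Bot

section Main

variable (k : Type u) [Field k] (X : Scheme.{u}) [X.Over (Spec (CommRingCat.of k))]
  [IsIntegral X] [IsProper (X ↘ (Spec (CommRingCat.of k)))]

include k in
/-- a nonzero ideal sheaf on an integral curve has zero-dimensional support -/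
theorem dim_support_le_zero_of_ne_bot (hdim : topologicalKrullDim X = 1) (I : X.IdealSheafData)
    (hI : I ≠ ⊥) : topologicalKrullDim ((I.support : Set X)) ≤ 0 := by
  have hk : Nonempty k := ⟨0⟩
  haveI := isNoetherian_of_proper k X
  let U : X.Opens := ⟨(I.support : Set X)ᶜ, I.support.isClosed.isOpen_compl⟩
  have hne : (U : Set X).Nonempty := by
    by_contra hemp
    rw [Set.not_nonempty_iff_eq_empty] at hemp
    apply hI
    rw [← Scheme.IdealSheafData.support_eq_top_iff]
    apply SetLike.coe_injective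
    have : (I.support : Set X)ᶜ = ∅ := hemp
    rw [Set.compl_empty_iff] at this
    exact this
  have hU : Dense (U : Set X) := U.isOpen.dense hne
  have h1 := Groth.Agent.Helper1.Curve.dim_compl_le_zero hdim.le U hU
  have h2 : ((U : Set X)ᶜ) = (I.support : Set X) := compl_compl _
  rw [h2] at h1
  exact h1

omit [IsIntegral X] [IsProper (X ↘ (Spec (CommRingCat.of k)))] in
/-- `O/0` has a one-dimensional space of sections -/
theorem finrank_quotMod_bot (h0 : Module.finrank k (Coh.HH X (Coh.structureModule X) 0) = 1) :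
    Module.finrank k (Coh.HH X (ClSub.quotMod (⊥ : X.IdealSheafData)) 0) = 1 := by
  rw [← h0]
  exact (LinearEquiv.finrank_eq
    (HHFin1.HHequiv k (asIso (ClSub.toSubscheme (⊥ : X.IdealSheafData))) 0)).symm

/-- a finite subscheme of colength `< deg L - (2g - 2)` imposes independent conditions on `L` -/
theorem h0_tensor_ideal_add (hdim : topologicalKrullDim X = 1)
    (h0 : Module.finrank k (Coh.HH X (Coh.structureModule X) 0) = 1)
    (L : X.Modules) (hL : PicF.IsInvertible L) (I : X.IdealSheafData) (hI : I ≠ ⊥)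
    (hdeg : 2 * (Curv2.genus k X : ℤ) - 2 + Module.finrank k (Coh.HH X (ClSub.quotMod I) 0) <
      Curv2.deg k X L 1) :
    Module.finrank k (Coh.HH X (CohB1.tensorMod L (ClSub.idealMod I)) 0) +
      Module.finrank k (Coh.HH X (ClSub.quotMod I) 0) = Module.finrank k (Coh.HH X L 0) := by
  haveI := isNoetherian_of_proper k X
  haveI : IsLocallyNoetherian X := (isNoetherian_of_proper k X).toIsLocallyNoetherian
  have hZ := dim_support_le_zero_of_ne_bot k X hdim I hI
  have hOc : Coh.IsCoh (Coh.structureModule X) :=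
    InvQc.isCoh_of_isInvertible _ GenLoc.isInvertible_O
  have hLc : Coh.IsCoh L := InvQc.isCoh_of_isInvertible _ hL
  have hIc : Coh.IsCoh (ClSub.idealMod I) := isCoh_idealMod _
  have hQc : Coh.IsCoh (ClSub.quotMod I) := isCoh_quotMod _
  have hMc : Coh.IsCoh (CohB1.tensorMod (ClSub.idealMod I) L) := isCoh_tensor _ _ hIc hLc
  have hOLc : Coh.IsCoh (CohB1.tensorMod (Coh.structureModule X) L) := isCoh_tensor _ _ hOc hLc
  have hQLc : Coh.IsCoh (CohB1.tensorMod (ClSub.quotMod I) L) := isCoh_tensor _ _ hQc hLc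
  have hQd : topologicalKrullDim ↥(CohB1.support (ClSub.quotMod I)) ≤ 0 :=
    (Groth.Agent.Helper1.Dv.krullDim_le_of_subset (support_quotMod_subset _)).trans hZ
  have hSE := shortExact_map (locGen_of_isInvertible L hL) (shortExact_S I)
  have hadd := euler_additive k X _ hSE hMc hOLc hQLc
  change Curv2.euler k X (CohB1.tensorMod (Coh.structureModule X) L) =
    Curv2.euler k X (CohB1.tensorMod (ClSub.idealMod I) L) +
      Curv2.euler k X (CohB1.tensorMod (ClSub.quotMod I) L) at hadd
  obtain ⟨e'⟩ := TwistAmpleOpen.nonempty_tensorMod_unit_iso L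
  have e2 := euler_iso k X e'
  have e3 := euler_tensor_of_dim_zero k X (ClSub.quotMod I) hQc hQd 1 L
    (isFinLocFreeOfRank_one hL)
  have e4 := euler_eq_finrank_of_dim_le_zero k X (ClSub.quotMod I) hQc hQd
  have e5 := euler_eq_h0_sub_h1 k X hdim.le (CohB1.tensorMod (ClSub.idealMod I) L) hMc.1
  have e7 := euler_eq_h0_sub_h1 k X hdim.le L hLc.1
  have hM1 : Subsingleton (Coh.HH X (CohB1.tensorMod (ClSub.idealMod I) L) 1) := by
    by_contra hns
    rw [not_subsingleton_iff_nontrivial] at hns
    have := deg_le_of_H1_ideal_nontrivial k X hdim h0 L hL I hZ hns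
    linarith
  have hL1 : Subsingleton (Coh.HH X L 1) := by
    apply subsingleton_H1_of_deg_ge k X hdim L hL
    have : (0 : ℤ) ≤ (Module.finrank k (Coh.HH X (ClSub.quotMod I) 0) : ℤ) :=
      Int.natCast_nonneg _
    linarith
  have hb0 : Module.finrank k (Coh.HH X (CohB1.tensorMod (ClSub.idealMod I) L) 1) = 0 :=
    Module.finrank_zero_of_subsingleton
  have hb1 : Module.finrank k (Coh.HH X L 1) = 0 := Module.finrank_zero_of_subsingleton
  have hcomm := LinearEquiv.finrank_eq
    (HHFin1.HHequiv k (TildeTens.tensorModComm L (ClSub.idealMod I)) 0)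
  rw [hb0] at e5
  rw [hb1] at e7
  push_cast at e3 e5 e7
  rw [hcomm]
  have : (Module.finrank k (Coh.HH X (CohB1.tensorMod (ClSub.idealMod I) L) 0) : ℤ) +
      (Module.finrank k (Coh.HH X (ClSub.quotMod I) 0) : ℤ) =
      (Module.finrank k (Coh.HH X L 0) : ℤ) := by
    linarith
  exact_mod_cast this

/-- **S1532** -/
theorem h1_ideal_subsingleton_and_genus_zero (hdim : topologicalKrullDim X = 1)
    (h0 : Module.finrank k (Coh.HH X (Coh.structureModule X) 0) = 1)
    (L : X.Modules) (hL : PicF.IsInvertible L) (Z : X.IdealSheafData)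
    (hZ : topologicalKrullDim (Z.support : Set X) ≤ 0)
    (hdeg : 2 * (Curv2.genus k X : ℤ) - 2 + Module.finrank k (Coh.HH X (ClSub.quotMod Z) 0) <
      Curv2.deg k X L 1) :
    Subsingleton (Coh.HH X (CohB1.tensorMod (ClSub.idealMod Z) L) 1) ∧
      (Subsingleton (Coh.HH X (CohB1.tensorMod (ClSub.idealMod Z) L) 0) →
        Curv2.genus k X = 0 ∧
          Curv2.deg k X L 1 = Module.finrank k (Coh.HH X (ClSub.quotMod Z) 0) - 1) := by
  haveI := isNoetherian_of_proper k X
  haveI : IsLocallyNoetherian X := (isNoetherian_of_proper k X).toIsLocallyNoetherian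
  have hM1 : Subsingleton (Coh.HH X (CohB1.tensorMod (ClSub.idealMod Z) L) 1) := by
    by_contra hns
    rw [not_subsingleton_iff_nontrivial] at hns
    have := deg_le_of_H1_ideal_nontrivial k X hdim h0 L hL Z hZ hns
    linarith
  refine ⟨hM1, fun hM0 => ?_⟩
  have hOc : Coh.IsCoh (Coh.structureModule X) :=
    InvQc.isCoh_of_isInvertible _ GenLoc.isInvertible_O
  have hLc : Coh.IsCoh L := InvQc.isCoh_of_isInvertible _ hL
  have hIc : Coh.IsCoh (ClSub.idealMod Z) := isCoh_idealMod _
  have hQc : Coh.IsCoh (ClSub.quotMod Z) := isCoh_quotMod _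
  have hMc : Coh.IsCoh (CohB1.tensorMod (ClSub.idealMod Z) L) := isCoh_tensor _ _ hIc hLc
  have hOLc : Coh.IsCoh (CohB1.tensorMod (Coh.structureModule X) L) := isCoh_tensor _ _ hOc hLc
  have hQLc : Coh.IsCoh (CohB1.tensorMod (ClSub.quotMod Z) L) := isCoh_tensor _ _ hQc hLc
  have hQd : topologicalKrullDim ↥(CohB1.support (ClSub.quotMod Z)) ≤ 0 :=
    (Groth.Agent.Helper1.Dv.krullDim_le_of_subset (support_quotMod_subset _)).trans hZ
  have hSE := shortExact_map (locGen_of_isInvertible L hL) (shortExact_S Z)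
  have hadd := euler_additive k X _ hSE hMc hOLc hQLc
  change Curv2.euler k X (CohB1.tensorMod (Coh.structureModule X) L) =
    Curv2.euler k X (CohB1.tensorMod (ClSub.idealMod Z) L) +
      Curv2.euler k X (CohB1.tensorMod (ClSub.quotMod Z) L) at hadd
  obtain ⟨e'⟩ := TwistAmpleOpen.nonempty_tensorMod_unit_iso L
  have e2 := euler_iso k X e'
  have e3 := euler_tensor_of_dim_zero k X (ClSub.quotMod Z) hQc hQd 1 L
    (isFinLocFreeOfRank_one hL)
  have e4 := euler_eq_finrank_of_dim_le_zero k X (ClSub.quotMod Z) hQc hQd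
  have e5 := euler_eq_h0_sub_h1 k X hdim.le (CohB1.tensorMod (ClSub.idealMod Z) L) hMc.1
  have e6 := euler_eq_h0_sub_h1 k X hdim.le (Coh.structureModule X) hOc.1
  have hb0 : Module.finrank k (Coh.HH X (CohB1.tensorMod (ClSub.idealMod Z) L) 1) = 0 :=
    Module.finrank_zero_of_subsingleton
  have hb1 : Module.finrank k (Coh.HH X (CohB1.tensorMod (ClSub.idealMod Z) L) 0) = 0 :=
    Module.finrank_zero_of_subsingleton
  rw [hb0, hb1] at e5
  rw [h0] at e6
  unfold Curv2.deg at hdeg ⊢
  unfold Curv2.genus at hdeg ⊢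
  push_cast at e3 e5 e6 hdeg ⊢
  have hg : (0 : ℤ) ≤ (Module.finrank k (Coh.HH X (Coh.structureModule X) 1) : ℤ) :=
    Int.natCast_nonneg _
  constructor
  · have : (Module.finrank k (Coh.HH X (Coh.structureModule X) 1) : ℤ) = 0 := by linarith
    exact_mod_cast this
  · linarith

end Main

end Groth.Agent.Helper1.CurveDual
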