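import Mathlib
import Groth.Agent.Lib.Helper1.CurveDual5
import Groth.Agent.Lib.Helper1.AmpleCrit
import Groth.Agent.Lib.Helper1.AmpleRestr

/-!
# Closed points on a proper curve over an algebraically closed field: global generation
via `h⁰(L ⊗ I_P) = h⁰(L) - 1` (helper1)
-/

set_option autoImplicit false
universe u
open CategoryTheory CategoryTheory.Limits AlgebraicGeometry TopologicalSpace Opposite

namespace Groth.Agent.Helper1.CurvePt

open Groth.Agent.Helper1.QcCech Groth.Agent.Helper1.SubSh Groth.Agent.Helper1.LGen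
open Groth.Agent.Helper1.TmulLib Groth.Agent.Helper1 Groth.Agent.Helper1.TwForm
open Groth.Agent.Helper1.TensGen Groth.Agent.Lib.Helper4.TwExact Groth.Agent.Helper1.Dv
open Groth.Agent.Lib.Helper4 Groth.Agent.Helper1.CurveAmp Groth.Agent.Helper1.FinSupp
open Groth.Agent.Helper1.Euler Groth.Agent.Helper1.Curve Groth.Agent.Helper1.CurveLin
open Groth.Agent.Helper1.CurveDual

section Stalk

variable {X : Scheme.{u}}

/-- the stalk vanishes if sections vanish near the point -/
theorem subsingleton_stalk_of_local (M : X.Modules) (x : X) (U : X.Opens) (hxU : x ∈ U)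
    (hsub : ∀ V : X.Opens, V ≤ U → Subsingleton Γ(M, V)) :
    Subsingleton (M.presheaf.stalk x) := by
  constructor
  intro a b
  obtain ⟨V₁, hx₁, s, rfl⟩ := TopCat.Presheaf.exists_germ_eq M.presheaf a
  obtain ⟨V₂, hx₂, s', rfl⟩ := TopCat.Presheaf.exists_germ_eq M.presheaf b
  have e1 := TopCat.Presheaf.germ_res_apply M.presheaf
    (homOfLE (inf_le_left : (V₁ ⊓ V₂) ⊓ U ≤ V₁ ⊓ V₂) ≫ homOfLE (inf_le_left : V₁ ⊓ V₂ ≤ V₁)) x
    ⟨⟨hx₁, hx₂⟩, hxU⟩ s
  have e2 := TopCat.Presheaf.germ_res_apply M.presheaf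
    (homOfLE (inf_le_left : (V₁ ⊓ V₂) ⊓ U ≤ V₁ ⊓ V₂) ≫ homOfLE (inf_le_right : V₁ ⊓ V₂ ≤ V₂)) x
    ⟨⟨hx₁, hx₂⟩, hxU⟩ s'
  rw [← e1, ← e2]
  haveI := hsub ((V₁ ⊓ V₂) ⊓ U) inf_le_right
  congr 1
  exact Subsingleton.elim _ _

/-- the support of `O_Z ⊗ L` lies in `Z` -/
theorem support_tensor_quotMod_subset (Z : X.IdealSheafData) {L : X.Modules}
    (hL : PicF.IsInvertible L) :
    CohB1.support (CohB1.tensorMod (ClSub.quotMod Z) L) ⊆ (Z.support : Set X) := by
  intro x hx
  by_contra hxZ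
  apply hx
  obtain ⟨W₁, a₁, hxW₁, ha₁⟩ := exists_isGen hL x
  let U : X.Opens := W₁ ⊓ ⟨(Z.support : Set X)ᶜ, Z.support.isClosed.isOpen_compl⟩
  refine subsingleton_stalk_of_local _ x U ⟨hxW₁, hxZ⟩ ?_
  intro V hV
  have hVW : V ≤ W₁ := hV.trans inf_le_left
  exact subsingleton_sections_tensor_quotMod Z V (fun z hz => (hV hz).2)
    (res L hVW a₁) (ha₁.res hVW)

theorem isReduced_vanishingIdeal_subscheme (Z : TopologicalSpace.Closeds X) :
    IsReduced (Scheme.IdealSheafData.vanishingIdeal Z).subscheme := by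
  haveI : ∀ i, IsReduced
      ((Scheme.IdealSheafData.vanishingIdeal Z).subschemeCover.openCover.X i) := by
    intro U
    change IsReduced (Spec (.of (Γ(X, U.1) ⧸ (Scheme.IdealSheafData.vanishingIdeal Z).ideal U)))
    haveI : _root_.IsReduced (Γ(X, U.1) ⧸ (Scheme.IdealSheafData.vanishingIdeal Z).ideal U) := by
      rw [← Ideal.isRadical_iff_quotient_reduced, Scheme.IdealSheafData.vanishingIdeal_ideal]
      exact PrimeSpectrum.isRadical_vanishingIdeal _
    infer_instance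
  exact IsReduced.of_openCover _ (Scheme.IdealSheafData.vanishingIdeal Z).subschemeCover.openCover

theorem isIntegral_pt (x₀ : X) (hx₀ : IsClosed ({x₀} : Set X)) :
    IsIntegral (ptIdeal x₀ hx₀).subscheme := by
  haveI : IsReduced (ptIdeal x₀ hx₀).subscheme := isReduced_vanishingIdeal_subscheme ⟨{x₀}, hx₀⟩
  haveI : IrreducibleSpace ↥(ptIdeal x₀ hx₀).subscheme := by
    have h : IsIrreducible ((ptIdeal x₀ hx₀).support : Set X) := by
      rw [ptIdeal_support]
      exact isIrreducible_singleton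
    exact Subtype.irreducibleSpace h
  exact isIntegral_of_irreducibleSpace_of_isReduced _

end Stalk

section Lin

variable (k : Type u) [Field k] (X : Scheme.{u}) [X.Over (Spec (CommRingCat.of k))]

/-- `H^0(X, O_X / I)` is `k`-linearly isomorphic to the ring of global functions of the closed
subscheme -/
theorem nonempty_HH_quotMod_linearEquiv (I : X.IdealSheafData) :
    letI := (toΓ' k I.subscheme (I.subschemeι ≫ (X ↘ Spec (CommRingCat.of k)))).toAlgebra
    Nonempty (Coh.HH X (ClSub.quotMod I) 0 ≃ₗ[k] Γ(I.subscheme, ⊤)) := by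
  letI a1 : Algebra k Γ(I.subscheme, ⊤) :=
    (toΓ' k I.subscheme (I.subschemeι ≫ (X ↘ Spec (CommRingCat.of k)))).toAlgebra
  let E := Groth.Agent.Helper1.HH0.equiv X (ClSub.quotMod I)
  let toG : ↑((ClSub.quotMod I).val.obj (op ⊤)) → Γ(I.subscheme, ⊤) := fun m => m
  let ofG : Γ(I.subscheme, ⊤) → ↑((ClSub.quotMod I).val.obj (op ⊤)) := fun m => m
  exact ⟨{ toFun := fun x => toG (E x)
           invFun := fun s => E.symm (ofG s)
           map_add' := fun x y => by
             show toG (E (x + y)) = toG (E x) + toG (E y)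
             rw [map_add]; rfl
           map_smul' := fun a x => by
             show toG (E (a • x)) =
               toΓ' k I.subscheme (I.subschemeι ≫ (X ↘ Spec (CommRingCat.of k))) a * toG (E x)
             rw [Groth.Agent.Helper1.HH0.equiv_smul_over]
             rfl
           left_inv := fun x => E.left_inv x
           right_inv := fun s => E.right_inv (ofG s) }⟩

end Lin

section Pt

variable (k : Type u) [Field k] [IsAlgClosed k] (X : Scheme.{u}) [X.Over (Spec (CommRingCat.of k))]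
  [IsProper (X ↘ (Spec (CommRingCat.of k)))]

/-- over an algebraically closed field, the residue ring of a closed point is `k` -/
theorem finrank_quotMod_pt (x₀ : X) (hx₀ : IsClosed ({x₀} : Set X)) :
    Module.finrank k (Coh.HH X (ClSub.quotMod (ptIdeal x₀ hx₀)) 0) = 1 := by
  haveI := isNoetherian_of_proper k X
  letI a1 : Algebra k Γ((ptIdeal x₀ hx₀).subscheme, ⊤) :=
    (toΓ' k (ptIdeal x₀ hx₀).subscheme
      ((ptIdeal x₀ hx₀).subschemeι ≫ (X ↘ Spec (CommRingCat.of k)))).toAlgebra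
  obtain ⟨E⟩ := nonempty_HH_quotMod_linearEquiv k X (ptIdeal x₀ hx₀)
  haveI : Module.Finite k (Coh.HH X (ClSub.quotMod (ptIdeal x₀ hx₀)) 0) :=
    T2Main1.t2 k X _ (isCoh_quotMod _) 0
  haveI : Module.Finite k Γ((ptIdeal x₀ hx₀).subscheme, ⊤) := Module.Finite.equiv E
  rw [E.finrank_eq]
  haveI := isIntegral_pt x₀ hx₀
  haveI : IsDomain Γ((ptIdeal x₀ hx₀).subscheme, ⊤) := inferInstance
  haveI : Algebra.IsIntegral k Γ((ptIdeal x₀ hx₀).subscheme, ⊤) := Algebra.IsIntegral.of_finite k _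
  have hb := IsAlgClosed.algebraMap_bijective_of_isIntegral (k := k)
    (K := Γ((ptIdeal x₀ hx₀).subscheme, ⊤))
  let e : k ≃ₗ[k] Γ((ptIdeal x₀ hx₀).subscheme, ⊤) :=
    LinearEquiv.ofBijective (Algebra.linearMap k Γ((ptIdeal x₀ hx₀).subscheme, ⊤)) hb
  rw [← e.finrank_eq, Module.finrank_self]

end Pt

section Gen

variable {X : Scheme.{u}} {L : X.Modules}

/-- a global section of `O ⊗ L` generating near the closed point `x₀` has nonzero image in
`O_{x₀} ⊗ L` -/
theorem image_ne_zero_of_genAt (hL : PicF.IsInvertible L) (x₀ : X)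
    (hx₀ : IsClosed ({x₀} : Set X))
    (s' : Γ(CohB1.tensorMod (Coh.structureModule X) L, ⊤))
    (hgen : GenAt (CohB1.tensorMod (Coh.structureModule X) L) s' x₀) :
    ((TL L).map (ClSub.toSubscheme (ptIdeal x₀ hx₀))).app ⊤ s' ≠ 0 := by
  intro h0
  obtain ⟨V, hxV, hV⟩ := hgen
  obtain ⟨W₀, a₀, hxW₀, ha₀⟩ := exists_isGen hL x₀
  let W : X.Opens := V ⊓ W₀
  have hWV : W ≤ V := inf_le_left
  have hWW₀ : W ≤ W₀ := inf_le_right
  have hxW : x₀ ∈ W := ⟨hxV, hxW₀⟩
  have ha : IsGen L W (res L hWW₀ a₀) := ha₀.res hWW₀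
  have hs : IsGen (CohB1.tensorMod (Coh.structureModule X) L) W
      (res (CohB1.tensorMod (Coh.structureModule X) L) (le_top : W ≤ ⊤) s') := by
    have := hV.res hWV
    rwa [res_res] at this
  obtain ⟨r', hr'⟩ := hs.exists_coeff (tm (Coh.structureModule X) L W (one' W) (res L hWW₀ a₀))
  have h1 : ((TL L).map (ClSub.toSubscheme (ptIdeal x₀ hx₀))).app W
      (tm (Coh.structureModule X) L W (one' W) (res L hWW₀ a₀)) = 0 := by
    have e1 := congrArg (fun t => ((TL L).map (ClSub.toSubscheme (ptIdeal x₀ hx₀))).app W t) hr'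
    have e2 : ((TL L).map (ClSub.toSubscheme (ptIdeal x₀ hx₀))).app W
        (r' • res (CohB1.tensorMod (Coh.structureModule X) L) (le_top : W ≤ ⊤) s') =
        r' • ((TL L).map (ClSub.toSubscheme (ptIdeal x₀ hx₀))).app W
          (res (CohB1.tensorMod (Coh.structureModule X) L) (le_top : W ≤ ⊤) s') :=
      Scheme.Modules.Hom.app_smul _ _ _
    have e3 : ((TL L).map (ClSub.toSubscheme (ptIdeal x₀ hx₀))).app W
          (res (CohB1.tensorMod (Coh.structureModule X) L) (le_top : W ≤ ⊤) s') = 0 := by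
      refine (QcExt.app_res ((TL L).map (ClSub.toSubscheme (ptIdeal x₀ hx₀)))
        (le_top : W ≤ ⊤) s').trans ?_
      exact (congrArg (fun t => res (CohB1.tensorMod (ClSub.quotMod (ptIdeal x₀ hx₀)) L)
        (le_top : W ≤ ⊤) t) h0).trans (map_zero _)
    refine e1.symm.trans (e2.trans ?_)
    rw [e3, smul_zero]
  rw [TL_map_tm] at h1
  have hb := bijective_tm_of_isGen (ClSub.quotMod (ptIdeal x₀ hx₀)) ha
  have h2 : (ClSub.toSubscheme (ptIdeal x₀ hx₀)).app W (one' W) = 0 := by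
    apply hb.1
    show tm _ L W _ _ = tm _ L W 0 _
    exact h1.trans (tm_zero_left (ClSub.quotMod (ptIdeal x₀ hx₀)) L W (res L hWW₀ a₀)).symm
  have h3 : x₀ ∈ Set.range (ptIdeal x₀ hx₀).subschemeι := by
    rw [Scheme.IdealSheafData.range_subschemeι, ptIdeal_support]
    exact Set.mem_singleton x₀
  obtain ⟨z, hz⟩ := h3
  haveI : Nonempty ↥((ptIdeal x₀ hx₀).subschemeι ⁻¹ᵁ W) := ⟨⟨z, by
    show (ptIdeal x₀ hx₀).subschemeι z ∈ W
    rw [hz]; exact hxW⟩⟩
  have hNT : Nontrivial Γ((ptIdeal x₀ hx₀).subscheme, (ptIdeal x₀ hx₀).subschemeι ⁻¹ᵁ W) :=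
    inferInstance
  have h4 : ((ptIdeal x₀ hx₀).subschemeι.app W).hom (1 : Γ(X, W)) = 0 := h2
  rw [map_one] at h4
  exact one_ne_zero h4

end Gen

section Main

variable (k : Type u) [Field k] (X : Scheme.{u}) [X.Over (Spec (CommRingCat.of k))]
  [IsProper (X ↘ (Spec (CommRingCat.of k)))]

/-- if `h⁰(I ⊗ L) < h⁰(O ⊗ L)` then some global section generates `L` at the closed point -/
theorem exists_genAt_of_lt (L : X.Modules) (hL : PicF.IsInvertible L)
    (x₀ : X) (hx₀ : IsClosed ({x₀} : Set X))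
    (hlt : Module.finrank k (Coh.HH X (CohB1.tensorMod (ClSub.idealMod (ptIdeal x₀ hx₀)) L) 0) <
      Module.finrank k (Coh.HH X (CohB1.tensorMod (Coh.structureModule X) L) 0)) :
    ∃ s : Γ(L, ⊤), GenAt L s x₀ := by
  haveI := isNoetherian_of_proper k X
  haveI : IsLocallyNoetherian X := (isNoetherian_of_proper k X).toIsLocallyNoetherian
  have hOc : Coh.IsCoh (Coh.structureModule X) :=
    InvQc.isCoh_of_isInvertible _ GenLoc.isInvertible_O
  have hLc : Coh.IsCoh L := InvQc.isCoh_of_isInvertible _ hL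
  have hIc : Coh.IsCoh (ClSub.idealMod (ptIdeal x₀ hx₀)) := isCoh_idealMod _
  have hMc : Coh.IsCoh (CohB1.tensorMod (ClSub.idealMod (ptIdeal x₀ hx₀)) L) :=
    isCoh_tensor _ _ hIc hLc
  have hOLc : Coh.IsCoh (CohB1.tensorMod (Coh.structureModule X) L) := isCoh_tensor _ _ hOc hLc
  have hSE := shortExact_map (locGen_of_isInvertible L hL) (shortExact_S (ptIdeal x₀ hx₀))
  obtain ⟨e'⟩ := TwistAmpleOpen.nonempty_tensorMod_unit_iso L
  have hex : ∃ s'' : Coh.HH X (CohB1.tensorMod (Coh.structureModule X) L) 0,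
      Canon.HHlin k ((IdealModL.S (ptIdeal x₀ hx₀)).map (TL L)).g 0 s'' ≠ 0 := by
    by_contra hall
    push Not at hall
    have hsurj : Function.Surjective
        (Canon.HHlin k ((IdealModL.S (ptIdeal x₀ hx₀)).map (TL L)).f 0) := by
      intro s''
      exact HHFin2.exact_f_g k hSE 0 s'' (hall s'')
    haveI : Module.Finite k (Coh.HH X ((IdealModL.S (ptIdeal x₀ hx₀)).map (TL L)).X₁ 0) :=
      T2Main1.t2 k X _ hMc 0
    haveI : Module.Finite k (Coh.HH X ((IdealModL.S (ptIdeal x₀ hx₀)).map (TL L)).X₂ 0) :=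
      T2Main1.t2 k X _ hOLc 0
    have := LinearMap.finrank_le_finrank_of_surjective
      (f := Canon.HHlin k ((IdealModL.S (ptIdeal x₀ hx₀)).map (TL L)).f 0) hsurj
    change Module.finrank k (Coh.HH X (CohB1.tensorMod (Coh.structureModule X) L) 0) ≤
      Module.finrank k (Coh.HH X (CohB1.tensorMod (ClSub.idealMod (ptIdeal x₀ hx₀)) L) 0) at this
    omega
  obtain ⟨s'', hs''⟩ := hex
  have hs' : ((TL L).map (ClSub.toSubscheme (ptIdeal x₀ hx₀))).app ⊤
      (HH0.equiv X (CohB1.tensorMod (Coh.structureModule X) L) s'') ≠ 0 := by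
    intro h
    apply hs''
    apply (HH0.equiv X _).injective
    rw [map_zero]
    exact (equiv_HHlin k _ s'').trans h
  have hgen' := genAt_of_image_ne_zero hL x₀ hx₀ _ hs'
  exact ⟨e'.hom.app ⊤ _, genAt_of_iso e' _ x₀ hgen'⟩

/-- a globally generated invertible module has a global section generating at a given point -/
theorem exists_genAt_of_gg (L : X.Modules) (hL : PicF.IsInvertible L)
    (hgg : Curv2.IsGloballyGenerated L) (x : X) : ∃ s : Γ(L, ⊤), GenAt L s x := by
  obtain ⟨W₀, a₀, hxW₀, ha₀⟩ := exists_isGen hL x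
  obtain ⟨σ, hσ⟩ := AmpleLib.exists_section_of_gg_map hgg (𝟙 L) ha₀ a₀ rfl x hxW₀
  rw [AmpleLib.mem_genLocus_iff_isGen] at hσ
  obtain ⟨W, hxW, hW⟩ := hσ
  refine ⟨σ, W, hxW, ?_⟩
  rw [AmpleLib.secVal_homOfSec] at hW
  exact hW

end Main

section Main2

variable (k : Type u) [Field k] [IsAlgClosed k] (X : Scheme.{u}) [X.Over (Spec (CommRingCat.of k))]
  [IsProper (X ↘ (Spec (CommRingCat.of k)))]

/-- for a globally generated invertible module, `h⁰(I_P ⊗ L) + 1 = h⁰(O ⊗ L)` -/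
theorem finrank_add_one_of_gg (L : X.Modules) (hL : PicF.IsInvertible L)
    (hgg : Curv2.IsGloballyGenerated L) (x₀ : X) (hx₀ : IsClosed ({x₀} : Set X)) :
    Module.finrank k (Coh.HH X (CohB1.tensorMod (ClSub.idealMod (ptIdeal x₀ hx₀)) L) 0) + 1 =
      Module.finrank k (Coh.HH X (CohB1.tensorMod (Coh.structureModule X) L) 0) := by
  haveI := isNoetherian_of_proper k X
  haveI : IsLocallyNoetherian X := (isNoetherian_of_proper k X).toIsLocallyNoetherian
  have hZ : topologicalKrullDim ((ptIdeal x₀ hx₀).support : Set X) ≤ 0 := by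
    rw [ptIdeal_support]
    haveI : Nonempty ↥({x₀} : Set X) := ⟨⟨x₀, rfl⟩⟩
    exact topologicalKrullDim_zero_of_discreteTopology ↥({x₀} : Set X)
  have hOc : Coh.IsCoh (Coh.structureModule X) :=
    InvQc.isCoh_of_isInvertible _ GenLoc.isInvertible_O
  have hLc : Coh.IsCoh L := InvQc.isCoh_of_isInvertible _ hL
  have hIc : Coh.IsCoh (ClSub.idealMod (ptIdeal x₀ hx₀)) := isCoh_idealMod _
  have hQc : Coh.IsCoh (ClSub.quotMod (ptIdeal x₀ hx₀)) := isCoh_quotMod _
  have hMc : Coh.IsCoh (CohB1.tensorMod (ClSub.idealMod (ptIdeal x₀ hx₀)) L) :=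
    isCoh_tensor _ _ hIc hLc
  have hOLc : Coh.IsCoh (CohB1.tensorMod (Coh.structureModule X) L) := isCoh_tensor _ _ hOc hLc
  have hQLc : Coh.IsCoh (CohB1.tensorMod (ClSub.quotMod (ptIdeal x₀ hx₀)) L) :=
    isCoh_tensor _ _ hQc hLc
  have hQd : topologicalKrullDim ↥(CohB1.support (ClSub.quotMod (ptIdeal x₀ hx₀))) ≤ 0 :=
    (Groth.Agent.Helper1.Dv.krullDim_le_of_subset (support_quotMod_subset _)).trans hZ
  have hQLd : topologicalKrullDim
      ↥(CohB1.support (CohB1.tensorMod (ClSub.quotMod (ptIdeal x₀ hx₀)) L)) ≤ 0 :=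
    (Groth.Agent.Helper1.Dv.krullDim_le_of_subset (support_tensor_quotMod_subset _ hL)).trans hZ
  have hSE := shortExact_map (locGen_of_isInvertible L hL) (shortExact_S (ptIdeal x₀ hx₀))
  obtain ⟨e'⟩ := TwistAmpleOpen.nonempty_tensorMod_unit_iso L
  have e3 := euler_tensor_of_dim_zero k X (ClSub.quotMod (ptIdeal x₀ hx₀)) hQc hQd 1 L
    (isFinLocFreeOfRank_one hL)
  have e4 := euler_eq_finrank_of_dim_le_zero k X (ClSub.quotMod (ptIdeal x₀ hx₀)) hQc hQd
  have e5 := euler_eq_finrank_of_dim_le_zero k X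
    (CohB1.tensorMod (ClSub.quotMod (ptIdeal x₀ hx₀)) L) hQLc hQLd
  have e6 := finrank_quotMod_pt k X x₀ hx₀
  have hQL1 : Module.finrank k
      (Coh.HH X (CohB1.tensorMod (ClSub.quotMod (ptIdeal x₀ hx₀)) L) 0) = 1 := by
    rw [e6] at e4
    rw [e4, e5] at e3
    push_cast at e3
    have : (Module.finrank k
      (Coh.HH X (CohB1.tensorMod (ClSub.quotMod (ptIdeal x₀ hx₀)) L) 0) : ℤ) = 1 := by linarith
    exact_mod_cast this
  haveI : Module.Finite k (Coh.HH X ((IdealModL.S (ptIdeal x₀ hx₀)).map (TL L)).X₁ 0) :=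
    T2Main1.t2 k X _ hMc 0
  haveI : Module.Finite k (Coh.HH X ((IdealModL.S (ptIdeal x₀ hx₀)).map (TL L)).X₂ 0) :=
    T2Main1.t2 k X _ hOLc 0
  haveI : Module.Finite k (Coh.HH X ((IdealModL.S (ptIdeal x₀ hx₀)).map (TL L)).X₃ 0) :=
    T2Main1.t2 k X _ hQLc 0
  set f₀ := Canon.HHlin k ((IdealModL.S (ptIdeal x₀ hx₀)).map (TL L)).f 0 with hf₀
  set g₀ := Canon.HHlin k ((IdealModL.S (ptIdeal x₀ hx₀)).map (TL L)).g 0 with hg₀
  have hinj : Function.Injective f₀ := HHFin3.HHlin_f_zero_injective k hSE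
  have hker : LinearMap.ker g₀ = LinearMap.range f₀ := by
    ext s
    constructor
    · intro hs
      obtain ⟨y, hy⟩ := HHFin2.exact_f_g k hSE 0 s hs
      exact ⟨y, hy⟩
    · rintro ⟨y, rfl⟩
      exact HHFin2.g_f k 0 y
  have hrn := LinearMap.finrank_range_add_finrank_ker g₀
  rw [hker, LinearMap.finrank_range_of_inj hinj] at hrn
  have hle : Module.finrank k (LinearMap.range g₀) ≤ 1 := by
    have := Submodule.finrank_le (LinearMap.range g₀)
    rw [← hQL1]
    exact this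
  have hge : 1 ≤ Module.finrank k (LinearMap.range g₀) := by
    obtain ⟨σ, hσ⟩ := exists_genAt_of_gg X L hL hgg x₀
    have hgen' : GenAt (CohB1.tensorMod (Coh.structureModule X) L) (e'.inv.app ⊤ σ) x₀ :=
      genAt_of_iso e'.symm σ x₀ hσ
    have hne := image_ne_zero_of_genAt hL x₀ hx₀ _ hgen'
    have hg : g₀ ((HH0.equiv X (CohB1.tensorMod (Coh.structureModule X) L)).symm
        (e'.inv.app ⊤ σ)) ≠ 0 := by
      intro h
      apply hne
      have h2 := equiv_HHlin k ((IdealModL.S (ptIdeal x₀ hx₀)).map (TL L)).g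
        ((HH0.equiv X (CohB1.tensorMod (Coh.structureModule X) L)).symm (e'.inv.app ⊤ σ))
      have h3 : HH0.equiv X (CohB1.tensorMod (Coh.structureModule X) L)
          ((HH0.equiv X (CohB1.tensorMod (Coh.structureModule X) L)).symm (e'.inv.app ⊤ σ)) =
          e'.inv.app ⊤ σ := (HH0.equiv X _).apply_symm_apply _
      refine (congrArg (fun t => ((TL L).map (ClSub.toSubscheme (ptIdeal x₀ hx₀))).app ⊤ t)
        h3).symm.trans (h2.symm.trans ?_)
      exact (congrArg (fun t => HH0.equiv X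
        (CohB1.tensorMod (ClSub.quotMod (ptIdeal x₀ hx₀)) L) t) h).trans (map_zero _)
    have hpos : 0 < Module.finrank k (LinearMap.range g₀) := by
      rw [Module.finrank_pos_iff_exists_ne_zero]
      exact ⟨⟨_, LinearMap.mem_range_self g₀ _⟩, fun h => hg (congrArg Subtype.val h)⟩
    exact hpos
  change Module.finrank k (LinearMap.range g₀) +
    Module.finrank k (Coh.HH X (CohB1.tensorMod (ClSub.idealMod (ptIdeal x₀ hx₀)) L) 0) =
    Module.finrank k (Coh.HH X (CohB1.tensorMod (Coh.structureModule X) L) 0) at hrn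
  omega

/-- **S11330** -/
theorem gg_iff (L : X.Modules) (hL : PicF.IsInvertible L) :
    Curv2.IsGloballyGenerated L ↔
      ∀ (P : X) (hP : IsClosed ({P} : Set X)),
        Module.finrank k (Coh.HH X (CohB1.tensorMod L (ClSub.idealMod
          (Scheme.IdealSheafData.vanishingIdeal ⟨{P}, hP⟩))) 0) + 1 =
          Module.finrank k (Coh.HH X L 0) := by
  haveI := isNoetherian_of_proper k X
  obtain ⟨e'⟩ := TwistAmpleOpen.nonempty_tensorMod_unit_iso L
  have hOL := LinearEquiv.finrank_eq (HHFin1.HHequiv k e' 0)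
  have hcomm : ∀ (P : X) (hP : IsClosed ({P} : Set X)),
      Module.finrank k (Coh.HH X (CohB1.tensorMod L (ClSub.idealMod
          (Scheme.IdealSheafData.vanishingIdeal ⟨{P}, hP⟩))) 0) =
      Module.finrank k (Coh.HH X (CohB1.tensorMod (ClSub.idealMod (ptIdeal P hP)) L) 0) :=
    fun P hP => LinearEquiv.finrank_eq
      (HHFin1.HHequiv k (TildeTens.tensorModComm L (ClSub.idealMod (ptIdeal P hP))) 0)
  constructor
  · intro hgg P hP
    rw [hcomm P hP, ← hOL]
    exact finrank_add_one_of_gg k X L hL hgg P hP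
  · intro h
    apply AmpleLib.isGloballyGenerated_of_spannedOn
    intro x
    obtain ⟨x₀, hx₀mem, hx₀⟩ := IsClosed.exists_closed_singleton
      (isClosed_closure : IsClosed (closure ({x} : Set X))) ⟨x, subset_closure rfl⟩
    have hlt : Module.finrank k
        (Coh.HH X (CohB1.tensorMod (ClSub.idealMod (ptIdeal x₀ hx₀)) L) 0) <
        Module.finrank k (Coh.HH X (CohB1.tensorMod (Coh.structureModule X) L) 0) := by
      have := h x₀ hx₀
      rw [hcomm x₀ hx₀, ← hOL] at this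
      omega
    obtain ⟨s, V, hxV, hV⟩ := exists_genAt_of_lt k X L hL x₀ hx₀ hlt
    have hxV' : x ∈ V := (specializes_iff_mem_closure.2 hx₀mem).mem_open V.isOpen hxV
    refine ⟨V, hxV', ?_⟩
    intro O hO t y hy
    refine ⟨O, le_rfl, hy, ?_⟩
    obtain ⟨r, hr⟩ := (hV.res hO).exists_coeff t
    rw [res_self, ← hr]
    apply Submodule.smul_mem
    apply Submodule.subset_span
    exact ⟨s, by rw [res_res]⟩

end Main2

end Groth.Agent.Helper1.CurvePt
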