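import Mathlib
import Groth.Agent.Lib.Helper1.CurvePt1
import Groth.Agent.S1570
import Groth.Agent.S8914
import Groth.Agent.Lib.Helper1.VB5

/-!
# The ideal sheaf of a closed point with principal maximal ideal is invertible (helper1)
-/

set_option autoImplicit false
universe u
open CategoryTheory CategoryTheory.Limits AlgebraicGeometry TopologicalSpace Opposite

namespace Groth.Agent.Helper1.PtInv

open Groth.Agent.Helper1.CurveDual

variable {X : Scheme.{u}}

/-- the ideal of a closed point on an affine open containing it is the prime ideal of the point -/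
theorem ptIdeal_ideal (P : X) (hP : IsClosed ({P} : Set X)) (U : X.affineOpens) (hPU : P ∈ U.1) :
    (ptIdeal P hP).ideal U = (U.2.primeIdealOf ⟨P, hPU⟩).asIdeal := by
  unfold ptIdeal
  rw [Scheme.IdealSheafData.vanishingIdeal_ideal]
  have h : U.2.fromSpec ⁻¹' ((⟨{P}, hP⟩ : TopologicalSpace.Closeds X) : Set X) =
      {U.2.primeIdealOf ⟨P, hPU⟩} := by
    ext q
    simp only [Set.mem_preimage, TopologicalSpace.Closeds.coe_mk, Set.mem_singleton_iff]
    constructor
    · intro h
      apply U.2.fromSpec.isOpenEmbedding.injective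
      rw [h]
      exact (U.2.fromSpec_primeIdealOf ⟨P, hPU⟩).symm
    · rintro rfl
      exact U.2.fromSpec_primeIdealOf ⟨P, hPU⟩
  exact (congrArg PrimeSpectrum.vanishingIdeal h).trans (PrimeSpectrum.vanishingIdeal_singleton _)

/-- the ideal of a closed point generates the maximal ideal of the local ring -/
theorem ptIdeal_map_germ (P : X) (hP : IsClosed ({P} : Set X)) (U : X.affineOpens)
    (hPU : P ∈ U.1) :
    ((ptIdeal P hP).ideal U).map (X.presheaf.germ U.1 P hPU).hom =
      IsLocalRing.maximalIdeal (X.presheaf.stalk P) := by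
  rw [ptIdeal_ideal P hP U hPU]
  letI := TopCat.Presheaf.algebra_section_stalk X.presheaf (⟨P, hPU⟩ : U.1)
  haveI := U.2.isLocalization_stalk ⟨P, hPU⟩
  exact IsLocalization.AtPrime.map_eq_maximalIdeal (U.2.primeIdealOf ⟨P, hPU⟩).asIdeal
    (X.presheaf.stalk P)

/-- a closed point whose local ring is a domain with nonzero principal maximal ideal is an
effective Cartier divisor -/
theorem isEffCartier_ptIdeal [IsLocallyNoetherian X] (P : X) (hP : IsClosed ({P} : Set X))
    [IsDomain (X.presheaf.stalk P)]
    (hpr : (IsLocalRing.maximalIdeal (X.presheaf.stalk P)).IsPrincipal)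
    (hne : IsLocalRing.maximalIdeal (X.presheaf.stalk P) ≠ ⊥) :
    BlowUp.IsEffCartierIdeal (ptIdeal P hP) := by
  apply Groth.Agent.S1570.result
  intro x hx U hxU
  have hxP : x = P := by
    have : x ∈ ((ptIdeal P hP).support : Set X) := hx
    rw [ptIdeal_support] at this
    exact this
  subst hxP
  obtain ⟨g, hg⟩ := hpr
  refine ⟨g, ?_, ?_⟩
  · apply mem_nonZeroDivisors_of_ne_zero
    rintro rfl
    apply hne
    rw [hg]
    simp
  · rw [ptIdeal_map_germ x hP U hxU, hg]

theorem isInvertible_ptIdeal [IsLocallyNoetherian X] (P : X) (hP : IsClosed ({P} : Set X))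
    [IsDomain (X.presheaf.stalk P)]
    (hpr : (IsLocalRing.maximalIdeal (X.presheaf.stalk P)).IsPrincipal)
    (hne : IsLocalRing.maximalIdeal (X.presheaf.stalk P) ≠ ⊥) :
    PicF.IsInvertible (ClSub.idealMod (ptIdeal P hP)) :=
  Groth.Agent.S8914.backward _ (isEffCartier_ptIdeal P hP hpr hne)

end Groth.Agent.Helper1.PtInv
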