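import Mathlib
import Groth.Agent.Lib.Helper1.PtInv1
import Groth.Agent.Lib.Helper1.PF7
import Groth.Agent.Lib.Helper1.InvInv2
import Groth.Agent.Lib.Helper1.CurveAmp3

/-!
# Removing points from invertible modules on a smooth proper curve (helper1)
-/

set_option autoImplicit false
universe u
open CategoryTheory CategoryTheory.Limits AlgebraicGeometry TopologicalSpace Opposite

namespace Groth.Agent.Helper1.PtInv

open Groth.Agent.Helper1.QcCech Groth.Agent.Helper1.SubSh Groth.Agent.Helper1.LGen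
open Groth.Agent.Helper1.TmulLib Groth.Agent.Helper1 Groth.Agent.Helper1.TwForm
open Groth.Agent.Helper1.TensGen Groth.Agent.Lib.Helper4.TwExact Groth.Agent.Helper1.Dv
open Groth.Agent.Lib.Helper4 Groth.Agent.Helper1.CurveAmp Groth.Agent.Helper1.FinSupp
open Groth.Agent.Helper1.Euler Groth.Agent.Helper1.Curve Groth.Agent.Helper1.CurveLin
open Groth.Agent.Helper1.CurveDual Groth.Agent.Helper1.CurvePt

section Smooth

variable (k : Type u) [Field k] (X : Scheme.{u}) [X.Over (Spec (CommRingCat.of k))]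
  [IsIntegral X]

/-- a closed point of an integral scheme of dimension one is not the generic point -/
theorem maximalIdeal_ne_bot (hdim : topologicalKrullDim X = 1) (P : X)
    (hP : IsClosed ({P} : Set X)) : IsLocalRing.maximalIdeal (X.presheaf.stalk P) ≠ ⊥ := by
  intro hbot
  have hfield : IsField (X.presheaf.stalk P) := by
    rw [IsLocalRing.isField_iff_maximalIdeal_eq]
    exact hbot
  letI := hfield.toField
  have h0 : ringKrullDim (X.presheaf.stalk P) = 0 := ringKrullDim_eq_zero_of_field _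
  rw [ringKrullDim_stalk_eq_coheight] at h0
  have h1 : Order.coheight P = 0 := by exact_mod_cast h0
  rw [Order.coheight_eq_zero] at h1
  have h2 : genericPoint X ⤳ P := genericPoint_specializes P
  have h3 : P ≤ genericPoint X := h2
  have h4 : genericPoint X ≤ P := h1 h3
  have h5 : P ⤳ genericPoint X := h4
  have h6 : genericPoint X ∈ closure ({P} : Set X) := h5.mem_closure
  rw [hP.closure_eq] at h6
  have h7 : genericPoint X = P := h6
  have h8 : (Set.univ : Set X) = {P} := by
    rw [← (genericPoint_spec X : closure {genericPoint X} = Set.univ), h7, hP.closure_eq]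
  have h9 : Subsingleton X := by
    constructor
    intro a b
    have ha : a ∈ ({P} : Set X) := h8 ▸ Set.mem_univ a
    have hb : b ∈ ({P} : Set X) := h8 ▸ Set.mem_univ b
    rw [Set.mem_singleton_iff] at ha hb
    rw [ha, hb]
  haveI : Nonempty X := ⟨P⟩
  haveI : DiscreteTopology X := inferInstance
  have h10 := topologicalKrullDim_zero_of_discreteTopology X
  rw [hdim] at h10
  exact absurd h10 (by norm_num)

include k in
/-- on a smooth integral curve the ideal sheaf of a closed point is invertible -/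
theorem isInvertible_ptIdeal_of_smooth [Smooth (X ↘ (Spec (CommRingCat.of k)))]
    [IsLocallyNoetherian X] (hdim : topologicalKrullDim X = 1)
    (P : X) (hP : IsClosed ({P} : Set X)) :
    PicF.IsInvertible (ClSub.idealMod (ptIdeal P hP)) := by
  haveI : IsDomain (X.presheaf.stalk P) :=
    VB5.isDomain_stalk_of_smooth k (X ↘ (Spec (CommRingCat.of k))) P
  haveI : ValuationRing (X.presheaf.stalk P) :=
    VB5.valuationRing_stalk_of_smooth k (X ↘ (Spec (CommRingCat.of k))) hdim.le P
  haveI : IsNoetherianRing (X.presheaf.stalk P) := inferInstance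
  have hpr : (IsLocalRing.maximalIdeal (X.presheaf.stalk P)).IsPrincipal :=
    ((tfae_of_isNoetherianRing_of_isLocalRing_of_isDomain
      (R := X.presheaf.stalk P)).out 1 4).1 (inferInstance : ValuationRing (X.presheaf.stalk P))
  exact isInvertible_ptIdeal P hP hpr (maximalIdeal_ne_bot X hdim P hP)

end Smooth

section Deg

variable (k : Type u) [Field k] [IsAlgClosed k] (X : Scheme.{u}) [X.Over (Spec (CommRingCat.of k))]
  [IsProper (X ↘ (Spec (CommRingCat.of k)))]

/-- the ideal sheaf of a closed point has degree `-1` -/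
theorem deg_ptIdeal (P : X) (hP : IsClosed ({P} : Set X)) :
    Curv2.deg k X (ClSub.idealMod (ptIdeal P hP)) 1 = -1 := by
  haveI := isNoetherian_of_proper k X
  haveI : IsLocallyNoetherian X := (isNoetherian_of_proper k X).toIsLocallyNoetherian
  have hSE := shortExact_S (ptIdeal P hP)
  have hZ : topologicalKrullDim ((ptIdeal P hP).support : Set X) ≤ 0 := by
    rw [ptIdeal_support]
    haveI : Nonempty ↥({P} : Set X) := ⟨⟨P, rfl⟩⟩
    exact topologicalKrullDim_zero_of_discreteTopology ↥({P} : Set X)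
  have hOc : Coh.IsCoh (Coh.structureModule X) :=
    InvQc.isCoh_of_isInvertible _ GenLoc.isInvertible_O
  have hIc : Coh.IsCoh (ClSub.idealMod (ptIdeal P hP)) := isCoh_idealMod _
  have hQc : Coh.IsCoh (ClSub.quotMod (ptIdeal P hP)) := isCoh_quotMod _
  have hQd : topologicalKrullDim ↥(CohB1.support (ClSub.quotMod (ptIdeal P hP))) ≤ 0 :=
    (Groth.Agent.Helper1.Dv.krullDim_le_of_subset (support_quotMod_subset _)).trans hZ
  have hadd := euler_additive k X _ hSE hIc hOc hQc
  change Curv2.euler k X (Coh.structureModule X) =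
    Curv2.euler k X (ClSub.idealMod (ptIdeal P hP)) +
      Curv2.euler k X (ClSub.quotMod (ptIdeal P hP)) at hadd
  have e4 := euler_eq_finrank_of_dim_le_zero k X (ClSub.quotMod (ptIdeal P hP)) hQc hQd
  have e6 := finrank_quotMod_pt k X P hP
  rw [e6] at e4
  unfold Curv2.deg
  push_cast at e4 ⊢
  linarith

/-- twisting by the ideal of a closed point lowers the degree by one -/
theorem deg_tensor_ptIdeal (hdim : topologicalKrullDim X ≤ 1) (P : X) (hP : IsClosed ({P} : Set X))
    (hI : PicF.IsInvertible (ClSub.idealMod (ptIdeal P hP))) (M : X.Modules)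
    (hM : PicF.IsInvertible M) :
    Curv2.deg k X (CohB1.tensorMod (ClSub.idealMod (ptIdeal P hP)) M) 1 =
      Curv2.deg k X M 1 - 1 := by
  have h := deg_tensor_locFree k X hdim 1 1 _ M (isFinLocFreeOfRank_one hI)
    (isFinLocFreeOfRank_one hM)
  rw [deg_ptIdeal k X P hP] at h
  simp only [mul_one, Nat.cast_one, one_mul] at h
  linarith

/-- if some global section generates at `P` then `h⁰(I_P ⊗ L) + 1 = h⁰(O ⊗ L)` -/
theorem finrank_add_one_of_genAt (L : X.Modules) (hL : PicF.IsInvertible L)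
    (x₀ : X) (hx₀ : IsClosed ({x₀} : Set X)) (hgen : ∃ σ : Γ(L, ⊤), GenAt L σ x₀) :
    Module.finrank k (Coh.HH X (CohB1.tensorMod (ClSub.idealMod (ptIdeal x₀ hx₀)) L) 0) + 1 =
      Module.finrank k (Coh.HH X (CohB1.tensorMod (Coh.structureModule X) L) 0) := by
  haveI := isNoetherian_of_proper k X
  haveI : IsLocallyNoetherian X := (isNoetherian_of_proper k X).toIsLocallyNoetherian
  have hZ : topologicalKrullDim ((ptIdeal x₀ hx₀).support : Set X) ≤ 0 := by
    rw [ptIdeal_support]
    haveI : Nonempty ↥({x₀} : Set X) := ⟨⟨x₀, rfl⟩⟩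
    exact topologicalKrullDim_zero_of_discreteTopology ↥({x₀} : Set X)
  have hOc : Coh.IsCoh (Coh.structureModule X) :=
    InvQc.isCoh_of_isInvertible _ GenLoc.isInvertible_O
  have hLc : Coh.IsCoh L := InvQc.isCoh_of_isInvertible _ hL
  have hIc : Coh.IsCoh (ClSub.idealMod (ptIdeal x₀ hx₀)) := isCoh_idealMod _
  have hQc : Coh.IsCoh (ClSub.quotMod (ptIdeal x₀ hx₀)) := isCoh_quotMod _
  have hMc : Coh.IsCoh (CohB1.tensorMod (ClSub.idealMod (ptIdeal x₀ hx₀)) L) :=
    isCoh_tensor _ _ hIc hLc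
  have hOLc : Coh.IsCoh (CohB1.tensorMod (Coh.structureModule X) L) := isCoh_tensor _ _ hOc hLc
  have hQLc : Coh.IsCoh (CohB1.tensorMod (ClSub.quotMod (ptIdeal x₀ hx₀)) L) :=
    isCoh_tensor _ _ hQc hLc
  have hQd : topologicalKrullDim ↥(CohB1.support (ClSub.quotMod (ptIdeal x₀ hx₀))) ≤ 0 :=
    (Groth.Agent.Helper1.Dv.krullDim_le_of_subset (support_quotMod_subset _)).trans hZ
  have hQLd : topologicalKrullDim
      ↥(CohB1.support (CohB1.tensorMod (ClSub.quotMod (ptIdeal x₀ hx₀)) L)) ≤ 0 :=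
    (Groth.Agent.Helper1.Dv.krullDim_le_of_subset (support_tensor_quotMod_subset _ hL)).trans hZ
  have hSE := shortExact_map (locGen_of_isInvertible L hL) (shortExact_S (ptIdeal x₀ hx₀))
  obtain ⟨e'⟩ := TwistAmpleOpen.nonempty_tensorMod_unit_iso L
  have e3 := euler_tensor_of_dim_zero k X (ClSub.quotMod (ptIdeal x₀ hx₀)) hQc hQd 1 L
    (isFinLocFreeOfRank_one hL)
  have e4 := euler_eq_finrank_of_dim_le_zero k X (ClSub.quotMod (ptIdeal x₀ hx₀)) hQc hQd
  have e5 := euler_eq_finrank_of_dim_le_zero k X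
    (CohB1.tensorMod (ClSub.quotMod (ptIdeal x₀ hx₀)) L) hQLc hQLd
  have e6 := finrank_quotMod_pt k X x₀ hx₀
  have hQL1 : Module.finrank k
      (Coh.HH X (CohB1.tensorMod (ClSub.quotMod (ptIdeal x₀ hx₀)) L) 0) = 1 := by
    rw [e6] at e4
    rw [e4, e5] at e3
    push_cast at e3
    have : (Module.finrank k
      (Coh.HH X (CohB1.tensorMod (ClSub.quotMod (ptIdeal x₀ hx₀)) L) 0) : ℤ) = 1 := by linarith
    exact_mod_cast this
  haveI : Module.Finite k (Coh.HH X ((IdealModL.S (ptIdeal x₀ hx₀)).map (TL L)).X₁ 0) :=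
    T2Main1.t2 k X _ hMc 0
  haveI : Module.Finite k (Coh.HH X ((IdealModL.S (ptIdeal x₀ hx₀)).map (TL L)).X₂ 0) :=
    T2Main1.t2 k X _ hOLc 0
  haveI : Module.Finite k (Coh.HH X ((IdealModL.S (ptIdeal x₀ hx₀)).map (TL L)).X₃ 0) :=
    T2Main1.t2 k X _ hQLc 0
  set f₀ := Canon.HHlin k ((IdealModL.S (ptIdeal x₀ hx₀)).map (TL L)).f 0 with hf₀
  set g₀ := Canon.HHlin k ((IdealModL.S (ptIdeal x₀ hx₀)).map (TL L)).g 0 with hg₀
  have hinj : Function.Injective f₀ := HHFin3.HHlin_f_zero_injective k hSE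
  have hker : LinearMap.ker g₀ = LinearMap.range f₀ := by
    ext s
    constructor
    · intro hs
      obtain ⟨y, hy⟩ := HHFin2.exact_f_g k hSE 0 s hs
      exact ⟨y, hy⟩
    · rintro ⟨y, rfl⟩
      exact HHFin2.g_f k 0 y
  have hrn := LinearMap.finrank_range_add_finrank_ker g₀
  rw [hker, LinearMap.finrank_range_of_inj hinj] at hrn
  have hle : Module.finrank k (LinearMap.range g₀) ≤ 1 := by
    have := Submodule.finrank_le (LinearMap.range g₀)
    rw [← hQL1]
    exact this
  have hge : 1 ≤ Module.finrank k (LinearMap.range g₀) := by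
    obtain ⟨σ, hσ⟩ := hgen
    have hgen' : GenAt (CohB1.tensorMod (Coh.structureModule X) L) (e'.inv.app ⊤ σ) x₀ :=
      genAt_of_iso e'.symm σ x₀ hσ
    have hne := image_ne_zero_of_genAt hL x₀ hx₀ _ hgen'
    have hg : g₀ ((HH0.equiv X (CohB1.tensorMod (Coh.structureModule X) L)).symm
        (e'.inv.app ⊤ σ)) ≠ 0 := by
      intro h
      apply hne
      have h2 := equiv_HHlin k ((IdealModL.S (ptIdeal x₀ hx₀)).map (TL L)).g
        ((HH0.equiv X (CohB1.tensorMod (Coh.structureModule X) L)).symm (e'.inv.app ⊤ σ))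
      have h3 : HH0.equiv X (CohB1.tensorMod (Coh.structureModule X) L)
          ((HH0.equiv X (CohB1.tensorMod (Coh.structureModule X) L)).symm (e'.inv.app ⊤ σ)) =
          e'.inv.app ⊤ σ := (HH0.equiv X _).apply_symm_apply _
      refine (congrArg (fun t => ((TL L).map (ClSub.toSubscheme (ptIdeal x₀ hx₀))).app ⊤ t)
        h3).symm.trans (h2.symm.trans ?_)
      exact (congrArg (fun t => HH0.equiv X
        (CohB1.tensorMod (ClSub.quotMod (ptIdeal x₀ hx₀)) L) t) h).trans (map_zero _)
    have hpos : 0 < Module.finrank k (LinearMap.range g₀) := by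
      rw [Module.finrank_pos_iff_exists_ne_zero]
      exact ⟨⟨_, LinearMap.mem_range_self g₀ _⟩, fun h => hg (congrArg Subtype.val h)⟩
    exact hpos
  change Module.finrank k (LinearMap.range g₀) +
    Module.finrank k (Coh.HH X (CohB1.tensorMod (ClSub.idealMod (ptIdeal x₀ hx₀)) L) 0) =
    Module.finrank k (Coh.HH X (CohB1.tensorMod (Coh.structureModule X) L) 0) at hrn
  omega


/-- if no global section generates at `P` then `h⁰(I_P ⊗ L) = h⁰(O ⊗ L)` -/
theorem finrank_eq_of_not_genAt (L : X.Modules) (hL : PicF.IsInvertible L)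
    (x₀ : X) (hx₀ : IsClosed ({x₀} : Set X)) (hgen : ∀ σ : Γ(L, ⊤), ¬ GenAt L σ x₀) :
    Module.finrank k (Coh.HH X (CohB1.tensorMod (ClSub.idealMod (ptIdeal x₀ hx₀)) L) 0) =
      Module.finrank k (Coh.HH X (CohB1.tensorMod (Coh.structureModule X) L) 0) := by
  haveI := isNoetherian_of_proper k X
  haveI : IsLocallyNoetherian X := (isNoetherian_of_proper k X).toIsLocallyNoetherian
  have hOc : Coh.IsCoh (Coh.structureModule X) :=
    InvQc.isCoh_of_isInvertible _ GenLoc.isInvertible_O
  have hLc : Coh.IsCoh L := InvQc.isCoh_of_isInvertible _ hL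
  have hIc : Coh.IsCoh (ClSub.idealMod (ptIdeal x₀ hx₀)) := isCoh_idealMod _
  have hMc : Coh.IsCoh (CohB1.tensorMod (ClSub.idealMod (ptIdeal x₀ hx₀)) L) :=
    isCoh_tensor _ _ hIc hLc
  have hOLc : Coh.IsCoh (CohB1.tensorMod (Coh.structureModule X) L) := isCoh_tensor _ _ hOc hLc
  have hSE := shortExact_map (locGen_of_isInvertible L hL) (shortExact_S (ptIdeal x₀ hx₀))
  haveI : Module.Finite k (Coh.HH X ((IdealModL.S (ptIdeal x₀ hx₀)).map (TL L)).X₁ 0) :=
    T2Main1.t2 k X _ hMc 0
  haveI : Module.Finite k (Coh.HH X ((IdealModL.S (ptIdeal x₀ hx₀)).map (TL L)).X₂ 0) :=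
    T2Main1.t2 k X _ hOLc 0
  have hinj : Function.Injective
      (Canon.HHlin k ((IdealModL.S (ptIdeal x₀ hx₀)).map (TL L)).f 0) :=
    HHFin3.HHlin_f_zero_injective k hSE
  have hle := LinearMap.finrank_le_finrank_of_injective hinj
  change Module.finrank k (Coh.HH X (CohB1.tensorMod (ClSub.idealMod (ptIdeal x₀ hx₀)) L) 0) ≤
    Module.finrank k (Coh.HH X (CohB1.tensorMod (Coh.structureModule X) L) 0) at hle
  by_contra hne
  have hlt : Module.finrank k
      (Coh.HH X (CohB1.tensorMod (ClSub.idealMod (ptIdeal x₀ hx₀)) L) 0) <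
      Module.finrank k (Coh.HH X (CohB1.tensorMod (Coh.structureModule X) L) 0) := by omega
  obtain ⟨s, hs⟩ := exists_genAt_of_lt k X L hL x₀ hx₀ hlt
  exact hgen s hs

end Deg

section Points

variable {X : Scheme.{u}}

/-- a nonzero global section of an invertible module on an integral scheme generates at the
generic point -/
theorem genAt_genericPoint_of_ne_zero [IsIntegral X] {M : X.Modules} (hM : PicF.IsInvertible M)
    (σ : Γ(M, ⊤)) (hσ : σ ≠ 0) : GenAt M σ (genericPoint X) := by
  obtain ⟨W, a, hηW, ha⟩ := exists_isGen hM (genericPoint X)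
  obtain ⟨r, hr⟩ := ha.exists_coeff (res M (le_top : W ≤ ⊤) σ)
  have hr0 : r ≠ 0 := by
    rintro rfl
    rw [zero_smul] at hr
    exact hσ (eq_zero_of_res_eq_zero hM (le_top : W ≤ ⊤) hηW σ hr.symm)
  have hne : X.basicOpen r ≠ ⊥ := by
    intro hbot
    exact hr0 ((AlgebraicGeometry.basicOpen_eq_bot_iff r).1 hbot)
  obtain ⟨y, hy⟩ : ∃ y : X, y ∈ X.basicOpen r := by
    by_contra hcon
    push Not at hcon
    apply hne
    ext z
    simp only [Opens.coe_bot, Set.mem_empty_iff_false, iff_false]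
    exact hcon z
  have hη : genericPoint X ∈ X.basicOpen r := genericPoint_mem_of_nonempty _ y hy
  refine ⟨X.basicOpen r, hη, ?_⟩
  have hle : X.basicOpen r ≤ W := X.basicOpen_le r
  have hu : IsUnit (resR hle r) := X.toRingedSpace.isUnit_res_basicOpen r
  have e : res M (le_top : X.basicOpen r ≤ ⊤) σ = resR hle r • res M hle a := by
    rw [← res_smul, hr, res_res]
  rw [e]
  exact TwForm.IsGen.smul_unit (ha.res hle) hu.unit

/-- nonempty opens of a scheme locally of finite type over a field contain closed points -/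
theorem exists_closedPoint_mem (k : Type u) [Field k] (f : X ⟶ Spec (CommRingCat.of k))
    [LocallyOfFiniteType f] (U : X.Opens) (x : X) (hx : x ∈ U) :
    ∃ P ∈ U, IsClosed ({P} : Set X) := by
  haveI : JacobsonSpace X := LocallyOfFiniteType.jacobsonSpace f
  obtain ⟨P, hPU, hP⟩ := nonempty_inter_closedPoints (X := X) (Z := (U : Set X)) ⟨x, hx⟩
    U.isOpen.isLocallyClosed
  exact ⟨P, hPU, hP⟩

/-- a global section generating everywhere trivialises the module -/
theorem isIso_homOfSec_of_forall_genAt {M : X.Modules} (σ : Γ(M, ⊤))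
    (h : ∀ x : X, GenAt M σ x) : IsIso (TwistAmple.homOfSec M σ) := by
  apply Groth.Agent.Helper1.PF7.isIso_of_locally
  · intro U t ht x hx
    obtain ⟨V, hxV, hV⟩ := h x
    refine ⟨U ⊓ V, inf_le_left, ⟨hx, hxV⟩, ?_⟩
    have hUV : U ⊓ V ≤ V := inf_le_right
    have hg := hV.res hUV
    rw [res_res] at hg
    have h1 := TwistAmple.homOfSec_app M σ (U ⊓ V)
      (resR (inf_le_left : U ⊓ V ≤ U) t)
    have h2 : (TwistAmple.homOfSec M σ).app (U ⊓ V)
        (res (Coh.structureModule X) (inf_le_left : U ⊓ V ≤ U) t) = 0 := by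
      rw [QcExt.app_res, ht, map_zero]
    have h3 : resR (inf_le_left : U ⊓ V ≤ U) t • res M (le_top : U ⊓ V ≤ ⊤) σ = 0 :=
      h1.symm.trans h2
    have h4 := (hg (U ⊓ V) le_rfl).1
    have h5 : resR (inf_le_left : U ⊓ V ≤ U) t = 0 := by
      apply h4
      show _ • res M le_rfl _ = _ • res M le_rfl _
      rw [res_self, zero_smul]
      exact h3
    exact h5
  · intro U m x hx
    obtain ⟨V, hxV, hV⟩ := h x
    refine ⟨U ⊓ V, inf_le_left, ⟨hx, hxV⟩, ?_⟩
    have hUV : U ⊓ V ≤ V := inf_le_right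
    have hg := hV.res hUV
    rw [res_res] at hg
    obtain ⟨r, hr⟩ := hg.exists_coeff (res M (inf_le_left : U ⊓ V ≤ U) m)
    exact ⟨r, (TwistAmple.homOfSec_app M σ (U ⊓ V) r).trans hr⟩

end Points

section Down

variable (k : Type u) [Field k] [IsAlgClosed k] (X : Scheme.{u}) [X.Over (Spec (CommRingCat.of k))]
  [IsIntegral X] [IsProper (X ↘ (Spec (CommRingCat.of k)))]

include k in
/-- every point specialises to a closed point, and generation spreads to generisations -/
theorem forall_genAt_of_closed {M : X.Modules} (σ : Γ(M, ⊤))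
    (h : ∀ (Q : X), IsClosed ({Q} : Set X) → GenAt M σ Q) (x : X) : GenAt M σ x := by
  haveI := isNoetherian_of_proper k X
  obtain ⟨x₀, hx₀mem, hx₀⟩ := IsClosed.exists_closed_singleton
    (isClosed_closure : IsClosed (closure ({x} : Set X))) ⟨x, subset_closure rfl⟩
  obtain ⟨V, hxV, hV⟩ := h x₀ hx₀
  exact ⟨V, (specializes_iff_mem_closure.2 hx₀mem).mem_open V.isOpen hxV, hV⟩

/-- removing a point which is not a base point -/
theorem down_nonbase (hdim : topologicalKrullDim X = 1)
    (hpt : ∀ (P : X) (hP : IsClosed ({P} : Set X)),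
      PicF.IsInvertible (ClSub.idealMod (ptIdeal P hP)))
    (M : X.Modules) (hM : PicF.IsInvertible M) (hpos : 0 < Module.finrank k (Coh.HH X M 0)) :
    ∃ M' : X.Modules, PicF.IsInvertible M' ∧ Curv2.deg k X M' 1 = Curv2.deg k X M 1 - 1 ∧
      Module.finrank k (Coh.HH X M' 0) + 1 = Module.finrank k (Coh.HH X M 0) := by
  haveI := isNoetherian_of_proper k X
  have hMc : Coh.IsCoh M := InvQc.isCoh_of_isInvertible _ hM
  haveI : Module.Finite k (Coh.HH X M 0) := T2Main1.t2 k X _ hMc 0
  obtain ⟨x, hx⟩ := (Module.finrank_pos_iff_exists_ne_zero (R := k)).1 hpos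
  have hσ : HH0.equiv X M x ≠ 0 := fun h =>
    hx ((HH0.equiv X M).injective (h.trans (map_zero _).symm))
  obtain ⟨V, hηV, hV⟩ := genAt_genericPoint_of_ne_zero hM _ hσ
  obtain ⟨P, hPV, hP⟩ := exists_closedPoint_mem k (X ↘ (Spec (CommRingCat.of k))) V _ hηV
  refine ⟨CohB1.tensorMod (ClSub.idealMod (ptIdeal P hP)) M,
    isInvertible_tensorMod (hpt P hP) hM,
    deg_tensor_ptIdeal k X hdim.le P hP (hpt P hP) M hM, ?_⟩
  obtain ⟨e'⟩ := TwistAmpleOpen.nonempty_tensorMod_unit_iso M
  rw [← LinearEquiv.finrank_eq (HHFin1.HHequiv k e' 0)]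
  exact finrank_add_one_of_genAt k X M hM P hP ⟨_, V, hPV, hV⟩

/-- removing a base point of a module with a single section -/
theorem down_base (hdim : topologicalKrullDim X = 1)
    (hpt : ∀ (P : X) (hP : IsClosed ({P} : Set X)),
      PicF.IsInvertible (ClSub.idealMod (ptIdeal P hP)))
    (M : X.Modules) (hM : PicF.IsInvertible M) (h1 : Module.finrank k (Coh.HH X M 0) = 1)
    (hdeg : 0 < Curv2.deg k X M 1) :
    ∃ M' : X.Modules, PicF.IsInvertible M' ∧ Curv2.deg k X M' 1 = Curv2.deg k X M 1 - 1 ∧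
      Module.finrank k (Coh.HH X M' 0) = 1 := by
  haveI := isNoetherian_of_proper k X
  haveI : IsLocallyNoetherian X := (isNoetherian_of_proper k X).toIsLocallyNoetherian
  have hMc : Coh.IsCoh M := InvQc.isCoh_of_isInvertible _ hM
  haveI : Module.Finite k (Coh.HH X M 0) := T2Main1.t2 k X _ hMc 0
  obtain ⟨x, hx⟩ := (Module.finrank_pos_iff_exists_ne_zero (R := k)).1
    (by rw [h1]; exact Nat.one_pos)
  have hσ : HH0.equiv X M x ≠ 0 := fun h =>
    hx ((HH0.equiv X M).injective (h.trans (map_zero _).symm))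
  -- a closed point where the section does not generate
  obtain ⟨Q, hQ, hnot⟩ : ∃ (Q : X) (_ : IsClosed ({Q} : Set X)),
      ¬ GenAt M (HH0.equiv X M x) Q := by
    by_contra hcon
    push Not at hcon
    have hall := forall_genAt_of_closed k X (HH0.equiv X M x) hcon
    haveI := isIso_homOfSec_of_forall_genAt _ hall
    have e := asIso (TwistAmple.homOfSec M (HH0.equiv X M x))
    have h2 : Curv2.deg k X M 1 = Curv2.deg k X (Coh.structureModule X) 1 := by
      unfold Curv2.deg
      rw [euler_iso k X e]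
    rw [h2, deg_structureModule] at hdeg
    exact lt_irrefl _ hdeg
  refine ⟨CohB1.tensorMod (ClSub.idealMod (ptIdeal Q hQ)) M,
    isInvertible_tensorMod (hpt Q hQ) hM,
    deg_tensor_ptIdeal k X hdim.le Q hQ (hpt Q hQ) M hM, ?_⟩
  obtain ⟨e'⟩ := TwistAmpleOpen.nonempty_tensorMod_unit_iso M
  have hOL := LinearEquiv.finrank_eq (HHFin1.HHequiv k e' 0)
  have hOc : Coh.IsCoh (Coh.structureModule X) :=
    InvQc.isCoh_of_isInvertible _ GenLoc.isInvertible_O
  have hIc : Coh.IsCoh (ClSub.idealMod (ptIdeal Q hQ)) := isCoh_idealMod _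
  have hIMc : Coh.IsCoh (CohB1.tensorMod (ClSub.idealMod (ptIdeal Q hQ)) M) :=
    isCoh_tensor _ _ hIc hMc
  have hOMc : Coh.IsCoh (CohB1.tensorMod (Coh.structureModule X) M) := isCoh_tensor _ _ hOc hMc
  have hSE := shortExact_map (locGen_of_isInvertible M hM) (shortExact_S (ptIdeal Q hQ))
  haveI : Module.Finite k (Coh.HH X ((IdealModL.S (ptIdeal Q hQ)).map (TL M)).X₁ 0) :=
    T2Main1.t2 k X _ hIMc 0
  haveI : Module.Finite k (Coh.HH X ((IdealModL.S (ptIdeal Q hQ)).map (TL M)).X₂ 0) :=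
    T2Main1.t2 k X _ hOMc 0
  have hinj : Function.Injective
      (Canon.HHlin k ((IdealModL.S (ptIdeal Q hQ)).map (TL M)).f 0) :=
    HHFin3.HHlin_f_zero_injective k hSE
  have hle := LinearMap.finrank_le_finrank_of_injective hinj
  change Module.finrank k (Coh.HH X (CohB1.tensorMod (ClSub.idealMod (ptIdeal Q hQ)) M) 0) ≤
    Module.finrank k (Coh.HH X (CohB1.tensorMod (Coh.structureModule X) M) 0) at hle
  rw [hOL, h1] at hle
  -- the section comes from `I_Q ⊗ M`
  set s' := e'.inv.app ⊤ (HH0.equiv X M x) with hs'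
  have hback : e'.hom.app ⊤ s' = HH0.equiv X M x := by
    rw [hs']
    have := congrArg (fun ψ => (Scheme.Modules.Hom.app ψ ⊤) (HH0.equiv X M x)) e'.inv_hom_id
    exact this
  have hnot' : ¬ GenAt (CohB1.tensorMod (Coh.structureModule X) M) s' Q := by
    intro hg
    apply hnot
    rw [← hback]
    exact genAt_of_iso e' s' Q hg
  have himg : ((TL M).map (ClSub.toSubscheme (ptIdeal Q hQ))).app ⊤ s' = 0 := by
    by_contra hne
    exact hnot' (genAt_of_image_ne_zero hM Q hQ s' hne)
  have hs'0 : s' ≠ 0 := by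
    intro h0
    apply hσ
    exact hback.symm.trans ((congrArg (fun t => e'.hom.app ⊤ t) h0).trans (map_zero _))
  set x' := (HH0.equiv X (CohB1.tensorMod (Coh.structureModule X) M)).symm s' with hx'
  have hx'0 : x' ≠ 0 := by
    intro h0
    apply hs'0
    have : HH0.equiv X (CohB1.tensorMod (Coh.structureModule X) M) x' = s' :=
      (HH0.equiv X _).apply_symm_apply _
    exact this.symm.trans ((congrArg (fun t =>
      HH0.equiv X (CohB1.tensorMod (Coh.structureModule X) M) t) h0).trans (map_zero _))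
  have hg0 : Canon.HHlin k ((IdealModL.S (ptIdeal Q hQ)).map (TL M)).g 0 x' = 0 := by
    apply (HH0.equiv X _).injective
    rw [map_zero]
    have h2 := equiv_HHlin k ((IdealModL.S (ptIdeal Q hQ)).map (TL M)).g x'
    have h3 : HH0.equiv X (CohB1.tensorMod (Coh.structureModule X) M) x' = s' :=
      (HH0.equiv X _).apply_symm_apply _
    refine h2.trans ?_
    exact (congrArg (fun t => ((TL M).map (ClSub.toSubscheme (ptIdeal Q hQ))).app ⊤ t)
      h3).trans himg
  obtain ⟨y, hy⟩ := HHFin2.exact_f_g k hSE 0 x' hg0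
  have hy0 : y ≠ 0 := by
    rintro rfl
    rw [map_zero] at hy
    exact hx'0 hy.symm
  haveI : Module.Finite k (Coh.HH X (CohB1.tensorMod (ClSub.idealMod (ptIdeal Q hQ)) M) 0) :=
    T2Main1.t2 k X _ hIMc 0
  have hpos : 0 < Module.finrank k
      (Coh.HH X (CohB1.tensorMod (ClSub.idealMod (ptIdeal Q hQ)) M) 0) :=
    (Module.finrank_pos_iff_exists_ne_zero (R := k)).2 ⟨y, hy0⟩
  omega

end Down

section MainThm

variable (k : Type u) [Field k] [IsAlgClosed k] (X : Scheme.{u}) [X.Over (Spec (CommRingCat.of k))]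
  [IsIntegral X] [IsProper (X ↘ (Spec (CommRingCat.of k)))]

/-- an invertible module of degree `2g` with `g + 1` sections -/
theorem exists_start (hdim : topologicalKrullDim X = 1)
    (hpt : ∀ (P : X) (hP : IsClosed ({P} : Set X)),
      PicF.IsInvertible (ClSub.idealMod (ptIdeal P hP))) :
    ∃ N : X.Modules, PicF.IsInvertible N ∧ Curv2.deg k X N 1 = 2 * (Curv2.genus k X : ℤ) ∧
      Module.finrank k (Coh.HH X N 0) = Curv2.genus k X + 1 := by
  haveI := isNoetherian_of_proper k X
  obtain ⟨P, -, hP⟩ := exists_closedPoint_mem k (X ↘ (Spec (CommRingCat.of k))) ⊤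
    (genericPoint X) trivial
  obtain ⟨J, hJ, ⟨e⟩⟩ := InvInv2.exists_inverse (hpt P hP)
  have hdJ : Curv2.deg k X J 1 = 1 := by
    have h := deg_tensor_locFree k X hdim.le 1 1 J _ (isFinLocFreeOfRank_one hJ)
      (isFinLocFreeOfRank_one (hpt P hP))
    have h2 : Curv2.deg k X (CohB1.tensorMod J (ClSub.idealMod (ptIdeal P hP))) 1 =
        Curv2.deg k X (Coh.structureModule X) 1 := by
      unfold Curv2.deg
      rw [euler_iso k X e]
    rw [deg_structureModule] at h2
    rw [deg_ptIdeal k X P hP] at h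
    simp only [mul_one, Nat.cast_one, one_mul] at h
    linarith
  have hN := isInvertible_tensorPow hJ (2 * Curv2.genus k X)
  have hdN : Curv2.deg k X (CohB1.tensorPow J (2 * Curv2.genus k X)) 1 =
      2 * (Curv2.genus k X : ℤ) := by
    rw [deg_tensorPow k X hdim.le hJ, hdJ]
    push_cast
    ring
  refine ⟨CohB1.tensorPow J (2 * Curv2.genus k X), hN, hdN, ?_⟩
  haveI hH1 : Subsingleton (Coh.HH X (CohB1.tensorPow J (2 * Curv2.genus k X)) 1) :=
    subsingleton_H1_of_deg_ge k X hdim _ hN (by rw [hdN]; linarith)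
  have h0 := finrank_HH_zero_eq_one_of_isAlgClosed k X
  have hOc : Coh.IsCoh (Coh.structureModule X) :=
    InvQc.isCoh_of_isInvertible _ GenLoc.isInvertible_O
  have hNc : Coh.IsCoh (CohB1.tensorPow J (2 * Curv2.genus k X)) :=
    InvQc.isCoh_of_isInvertible _ hN
  have eN := euler_eq_h0_sub_h1 k X hdim.le _ hNc.1
  have eO := euler_eq_h0_sub_h1 k X hdim.le _ hOc.1
  have hb1 : Module.finrank k (Coh.HH X (CohB1.tensorPow J (2 * Curv2.genus k X)) 1) = 0 :=
    Module.finrank_zero_of_subsingleton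
  have hg : (Module.finrank k (Coh.HH X (Coh.structureModule X) 1) : ℤ) =
      (Curv2.genus k X : ℤ) := rfl
  rw [hb1] at eN
  rw [h0, hg] at eO
  unfold Curv2.deg at hdN
  push_cast at eN eO hdN
  have : (Module.finrank k (Coh.HH X (CohB1.tensorPow J (2 * Curv2.genus k X)) 0) : ℤ) =
      (Curv2.genus k X : ℤ) + 1 := by
    linarith
  exact_mod_cast this

/-- removing `m ≤ g` general points -/
theorem exists_deg_sub (hdim : topologicalKrullDim X = 1)
    (hpt : ∀ (P : X) (hP : IsClosed ({P} : Set X)),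
      PicF.IsInvertible (ClSub.idealMod (ptIdeal P hP))) (m : ℕ) (hm : m ≤ Curv2.genus k X) :
    ∃ M : X.Modules, PicF.IsInvertible M ∧
      Curv2.deg k X M 1 = 2 * (Curv2.genus k X : ℤ) - m ∧
      Module.finrank k (Coh.HH X M 0) + m = Curv2.genus k X + 1 := by
  induction m with
  | zero =>
    obtain ⟨N, hN, hd, hf⟩ := exists_start k X hdim hpt
    exact ⟨N, hN, by rw [hd]; simp, by rw [hf]⟩
  | succ m ih =>
    obtain ⟨M, hM, hd, hf⟩ := ih (by omega)
    obtain ⟨M', hM', hd', hf'⟩ := down_nonbase k X hdim hpt M hM (by omega)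
    refine ⟨M', hM', ?_, by omega⟩
    rw [hd', hd]
    push_cast
    ring

/-- degree `g - j` with exactly one section -/
theorem exists_deg_h0_one (hdim : topologicalKrullDim X = 1)
    (hpt : ∀ (P : X) (hP : IsClosed ({P} : Set X)),
      PicF.IsInvertible (ClSub.idealMod (ptIdeal P hP))) (j : ℕ) (hj : j ≤ Curv2.genus k X) :
    ∃ M : X.Modules, PicF.IsInvertible M ∧
      Curv2.deg k X M 1 = (Curv2.genus k X : ℤ) - j ∧
      Module.finrank k (Coh.HH X M 0) = 1 := by
  induction j with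
  | zero =>
    obtain ⟨M, hM, hd, hf⟩ := exists_deg_sub k X hdim hpt (Curv2.genus k X) le_rfl
    refine ⟨M, hM, ?_, by omega⟩
    rw [hd]
    push_cast
    ring
  | succ j ih =>
    obtain ⟨M, hM, hd, hf⟩ := ih (by omega)
    have hpos : 0 < Curv2.deg k X M 1 := by
      rw [hd]
      have : ((j : ℕ) : ℤ) < (Curv2.genus k X : ℤ) := by exact_mod_cast hj
      linarith
    obtain ⟨M', hM', hd', hf'⟩ := down_base k X hdim hpt M hM hf hpos
    refine ⟨M', hM', ?_, hf'⟩
    rw [hd', hd]
    push_cast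
    ring

/-- **S14152** -/
theorem exists_deg_h0_one' (hdim : topologicalKrullDim X = 1)
    (hpt : ∀ (P : X) (hP : IsClosed ({P} : Set X)),
      PicF.IsInvertible (ClSub.idealMod (ptIdeal P hP))) (r : ℕ) (hr : r ≤ Curv2.genus k X) :
    ∃ L : X.Modules, PicF.IsInvertible L ∧ Curv2.deg k X L 1 = (r : ℤ) ∧
      Module.finrank k (Coh.HH X L 0) = 1 := by
  obtain ⟨M, hM, hd, hf⟩ := exists_deg_h0_one k X hdim hpt (Curv2.genus k X - r) (by omega)
  refine ⟨M, hM, ?_, hf⟩
  rw [hd]
  have : ((Curv2.genus k X - r : ℕ) : ℤ) = (Curv2.genus k X : ℤ) - r := by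
    rw [Nat.cast_sub hr]
  rw [this]
  ring

/-- **S11828** -/
theorem exists_deg_genus_sub_one (hdim : topologicalKrullDim X = 1)
    (hpt : ∀ (P : X) (hP : IsClosed ({P} : Set X)),
      PicF.IsInvertible (ClSub.idealMod (ptIdeal P hP))) :
    ∃ L : X.Modules, PicF.IsInvertible L ∧
      Curv2.deg k X L 1 = (Curv2.genus k X : ℤ) - 1 ∧ Subsingleton (Coh.HH X L 1) := by
  haveI := isNoetherian_of_proper k X
  obtain ⟨M, hM, hd, hf⟩ := exists_deg_h0_one k X hdim hpt 0 (Nat.zero_le _)
  obtain ⟨M', hM', hd', hf'⟩ := down_nonbase k X hdim hpt M hM (by omega)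
  have hd'' : Curv2.deg k X M' 1 = (Curv2.genus k X : ℤ) - 1 := by
    rw [hd', hd]
    push_cast
    ring
  refine ⟨M', hM', hd'', ?_⟩
  have h0 := finrank_HH_zero_eq_one_of_isAlgClosed k X
  have hOc : Coh.IsCoh (Coh.structureModule X) :=
    InvQc.isCoh_of_isInvertible _ GenLoc.isInvertible_O
  have hMc : Coh.IsCoh M' := InvQc.isCoh_of_isInvertible _ hM'
  have eN := euler_eq_h0_sub_h1 k X hdim.le _ hMc.1
  have eO := euler_eq_h0_sub_h1 k X hdim.le _ hOc.1
  have hz : Module.finrank k (Coh.HH X M' 0) = 0 := by omega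
  have hg : (Module.finrank k (Coh.HH X (Coh.structureModule X) 1) : ℤ) =
      (Curv2.genus k X : ℤ) := rfl
  rw [hz] at eN
  rw [h0, hg] at eO
  unfold Curv2.deg at hd''
  push_cast at eN eO hd''
  have h1 : (Module.finrank k (Coh.HH X M' 1) : ℤ) = 0 := by linarith
  have h1' : Module.finrank k (Coh.HH X M' 1) = 0 := by exact_mod_cast h1
  haveI : Module.Finite k (Coh.HH X M' 1) := T2Main1.t2 k X _ hMc 1
  exact Module.finrank_zero_iff.1 h1'

end MainThm

end Groth.Agent.Helper1.PtInv
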