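import Mathlib
import Groth.Agent.Lib.Helper1.VA3
import Groth.Agent.Lib.Helper1.VA4
import Groth.Agent.Lib.Helper1.VA5

set_option autoImplicit false
universe u

open CategoryTheory CategoryTheory.Limits AlgebraicGeometry TopologicalSpace Opposite
  HomogeneousLocalization

namespace Groth.Agent.Helper1.VA8

open Groth.Agent.Helper1.QcCech Groth.Agent.Helper1.SubSh Groth.Agent.Helper1.LGen
open Groth.Agent.Helper1 Groth.Agent.Helper1.AmpleLib Groth.Agent.Helper1.TwForm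
open Groth.Agent.Helper1.TmulLib Groth.Agent.Helper1.TwistSec Groth.Agent.Helper1.TensGen
open Groth.Agent.Helper1.VA1 Groth.Agent.Helper1.VA2
open Groth.Agent.Helper1.ProjUP5 Groth.Agent.Helper1.PullSec Groth.Agent.Helper1.PullGen
open Groth.Agent.Helper1.ProjUP7

set_option synthInstance.maxHeartbeats 400000

section Core

variable {R : Type u} [CommRing R] {X : Scheme.{u}} (q : X ⟶ Spec (CommRingCat.of R))
  {G : X.Modules} (hG : PicF.IsInvertible G) (n : ℕ)
  (s : Fin (n + 1) → Γ(G, ⊤)) (hs : ProjUP.GeneratedBy G s)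
  {𝒜 : Type*} (j : 𝒜 → Fin (n + 1))
  (haff : ∀ a, IsAffineOpen (CohB1.genLocus G (TwistAmple.homOfSec G (s (j a)))))
  (hcovX : ∀ x : X, ∃ a, x ∈ CohB1.genLocus G (TwistAmple.homOfSec G (s (j a))))
  (hgen : ∀ (a : 𝒜) (U : X.Opens) (_ : U = CohB1.genLocus G (TwistAmple.homOfSec G (s (j a))))
    (T : Subring Γ(X, U)),
    (∀ y, (q.appLE ⊤ U le_top).hom y ∈ T) →
    (∀ (l : Fin (n + 1)) (ρ : Γ(X, U)),
      ρ • res G (le_top : U ≤ ⊤) (s (j a)) = res G (le_top : U ≤ ⊤) (s l) → ρ ∈ T) → T = ⊤)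

include hG hs haff hcovX hgen in
/-- chart criterion for an immersion into `Proj R[T₀,…,Tₙ]` -/
theorem exists_immersion_projSpace_of_charts :
    ∃ r : X ⟶ CohB1.ProjSpace n R, IsImmersion r ∧ r ≫ CohB1.ProjSpace.toSpec n R = q ∧
      Nonempty (G ≅ (Scheme.Modules.pullback r).obj (Twist.twistProjSpace n R 1)) := by
  obtain ⟨r, hr, τ, hτ⟩ := Groth.Agent.S3572.result (R := R) n q G hG s hs
  let 𝒮 := CohB1.polyGrading n R
  have hτ' : ∀ k, τ.hom.app ⊤ (pt 𝒮 (ProjUP8.tX n _) (ProjUP8.htX n _) r k) = s k := hτ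
  have hpre : ∀ k, r ⁻¹ᵁ D 𝒮 (ProjUP8.tX n _) k =
      CohB1.genLocus G (TwistAmple.homOfSec G (s k)) :=
    preimage_D 𝒮 (ProjUP8.tX n _) (ProjUP8.htX n _) (ProjUP8.hcov n _) r τ s hτ'
  refine ⟨r, ?_, hr, ⟨τ.symm⟩⟩
  apply isImmersion_of_charts r (fun a : 𝒜 => D 𝒮 (ProjUP8.tX n _) (j a))
  · intro a
    exact Proj.isAffineOpen_basicOpen 𝒮 _ (ProjUP8.htX n _ (j a)) one_pos
  · intro a
    rw [hpre]
    exact haff a
  · intro x
    obtain ⟨a, ha⟩ := hcovX x
    refine ⟨a, ?_⟩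
    change x ∈ r ⁻¹ᵁ D 𝒮 (ProjUP8.tX n _) (j a)
    rw [hpre]
    exact ha
  · intro a
    have hT := hgen a (r ⁻¹ᵁ D 𝒮 (ProjUP8.tX n _) (j a)) (hpre (j a))
      (RingHom.range (r.app (D 𝒮 (ProjUP8.tX n _) (j a))).hom)
      (fun y => appLE_mem_range r (CohB1.ProjSpace.toSpec n R) q hr ⊤
        (D 𝒮 (ProjUP8.tX n _) (j a)) le_top le_top y)
      (fun l ρ hρ => by
        rw [coeff_eq 𝒮 (ProjUP8.tX n _) (ProjUP8.htX n _) r τ s hτ' (j a) l _ le_rfl ρ hρ]
        rw [Scheme.Hom.appLE_eq_app]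
        exact ⟨_, rfl⟩)
    exact RingHom.range_eq_top.1 hT

end Core

section Fintype

variable {R : Type u} [CommRing R] {X : Scheme.{u}}

/-- the chart criterion with an arbitrary finite index type -/
theorem exists_immersion_projSpace_of_charts' (q : X ⟶ Spec (CommRingCat.of R))
    {G : X.Modules} (hG : PicF.IsInvertible G)
    {ι : Type*} [Fintype ι] (σ : ι → Γ(G, ⊤))
    {𝒜 : Type*} (j : 𝒜 → ι)
    (haff : ∀ a, IsAffineOpen (CohB1.genLocus G (TwistAmple.homOfSec G (σ (j a)))))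
    (hcovX : ∀ x : X, ∃ a, x ∈ CohB1.genLocus G (TwistAmple.homOfSec G (σ (j a))))
    (hgen : ∀ (a : 𝒜) (U : X.Opens) (_ : U = CohB1.genLocus G (TwistAmple.homOfSec G (σ (j a))))
      (T : Subring Γ(X, U)),
      (∀ y, (q.appLE ⊤ U le_top).hom y ∈ T) →
      (∀ (l : ι) (ρ : Γ(X, U)),
        ρ • res G (le_top : U ≤ ⊤) (σ (j a)) = res G (le_top : U ≤ ⊤) (σ l) → ρ ∈ T) → T = ⊤) :
    ∃ (n : ℕ) (r : X ⟶ CohB1.ProjSpace n R), IsImmersion r ∧
      r ≫ CohB1.ProjSpace.toSpec n R = q ∧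
      Nonempty (G ≅ (Scheme.Modules.pullback r).obj (Twist.twistProjSpace n R 1)) := by
  classical
  let e : Option ι ≃ Fin (Fintype.card ι + 1) :=
    (Fintype.equivFin (Option ι)).trans (finCongr Fintype.card_option)
  let s : Fin (Fintype.card ι + 1) → Γ(G, ⊤) := fun i => (e.symm i).elim 0 σ
  have hs : ∀ l : ι, s (e (some l)) = σ l := by
    intro l
    change (e.symm (e (some l))).elim 0 σ = σ l
    rw [Equiv.symm_apply_apply]
    rfl
  refine ⟨Fintype.card ι, ?_⟩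
  apply exists_immersion_projSpace_of_charts q hG (Fintype.card ι) s ?_
    (fun a => e (some (j a)))
  · intro a; rw [hs]; exact haff a
  · intro x
    obtain ⟨a, ha⟩ := hcovX x
    exact ⟨a, by rw [hs]; exact ha⟩
  · intro a U hU T hT1 hT2
    rw [hs] at hU
    apply hgen a U hU T hT1
    intro l ρ hρ
    apply hT2 (e (some l)) ρ
    rw [hs, hs]
    exact hρ
  · apply generatedBy_of_cover
    intro x
    obtain ⟨a, ha⟩ := hcovX x
    exact ⟨e (some (j a)), by rw [hs]; exact ha⟩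

/-- **ample ⟹ large powers embed into projective space over the affine base** -/
theorem exists_immersion_projSpace_powers (q : X ⟶ Spec (CommRingCat.of R))
    [LocallyOfFiniteType q] {L L' : X.Modules}
    (hL : CohB1.IsAmple L) (hL' : PicF.IsInvertible L') :
    ∃ n₀ : ℕ, ∀ n : ℕ, n₀ ≤ n →
      ∃ (N : ℕ) (r : X ⟶ CohB1.ProjSpace N R), IsImmersion r ∧
        r ≫ CohB1.ProjSpace.toSpec N R = q ∧
        Nonempty (CohB1.tensorMod (CohB1.tensorPow L n) L' ≅
          (Scheme.Modules.pullback r).obj (Twist.twistProjSpace N R 1)) := by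
  classical
  have : CompactSpace X := hL.2.1
  have : QuasiSeparatedSpace X := quasiSeparatedSpace_of_isAmple hL
  -- chart data at each point
  have hpt : ∀ x : X, ∃ (N : ℕ)
      (t : Coh.structureModule X ⟶ CohB1.tensorPow L (N + 1))
      (g : Γ(L, CohB1.genLocus _ t)) (g' : Γ(L', CohB1.genLocus _ t)),
      x ∈ CohB1.genLocus _ t ∧ IsAffineOpen (CohB1.genLocus _ t) ∧
      IsGen L _ g ∧ IsGen L' _ g' := by
    intro x
    obtain ⟨W, a, a', hxW, ha, ha'⟩ := exists_isGen₂ hL.1 hL' x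
    obtain ⟨N, t, hxt, htle, htaff⟩ := exists_genLocus_nbhd hL W x hxW
    exact ⟨N, t, res L htle a, res L' htle a', hxt, htaff, ha.res _, ha'.res _⟩
  choose N t g g' hxt htaff hg hg' using hpt
  -- the chart lemma at each point
  have hch := fun x => chart q hL.1 hL' (N x) (t x) (htaff x) ⊤ (isAffineOpen_top _) le_top
    (g x) (hg x) (g' x) (hg' x)
  choose k d₀ hd₀ using hch
  -- a finite subcover
  obtain ⟨F, hF⟩ := isCompact_univ.elim_finite_subcover
    (fun x => ((CohB1.genLocus _ (t x) : X.Opens) : Set X))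
    (fun x => (CohB1.genLocus _ (t x)).isOpen) (fun x _ => Set.mem_iUnion.2 ⟨x, hxt x⟩)
  refine ⟨F.sup d₀, fun n hn => ?_⟩
  have hnd : ∀ x ∈ F, d₀ x ≤ n := fun x hx => (Finset.le_sup hx).trans hn
  have hG : PicF.IsInvertible (CohB1.tensorMod (CohB1.tensorPow L n) L') :=
    isInvertible_tensorMod (isInvertible_tensorPow hL.1 n) hL'
  choose z c hz hc using fun x : F => hd₀ x.1 n (hnd x.1 x.2)
  let σ : (Σ x : F, Option (Fin (k x.1))) → Γ(CohB1.tensorMod (CohB1.tensorPow L n) L', ⊤) :=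
    fun p => p.2.elim (z p.1) (c p.1)
  apply exists_immersion_projSpace_of_charts' q hG σ (fun x : F => ⟨x, none⟩)
  · intro x
    change IsAffineOpen (CohB1.genLocus _ (TwistAmple.homOfSec _ (z x)))
    rw [hz]
    exact htaff x.1
  · intro y
    obtain ⟨x, hx⟩ := Set.mem_iUnion.1 (hF (Set.mem_univ y))
    obtain ⟨hxF, hy⟩ := Set.mem_iUnion.1 hx
    refine ⟨⟨x, hxF⟩, ?_⟩
    change y ∈ CohB1.genLocus _ (TwistAmple.homOfSec _ (z ⟨x, hxF⟩))
    rw [hz]
    exact hy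
  · intro x U hU T hT1 hT2
    have hU' : U = CohB1.genLocus _ (t x.1) := hU.trans (hz x)
    apply hc x U hU' le_top T hT1
    intro b ρ hρ
    exact hT2 ⟨x, some b⟩ ρ hρ

end Fintype

end Groth.Agent.Helper1.VA8
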