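import Mathlib
import Groth.Agent.Lib.Helper1.PtInv2
import Groth.Agent.Lib.Helper4.CurveTop1
import Groth.Agent.Lib.Helper1.VA8

/-!
# Morphisms from a proper integral curve to a separated scheme: finiteness (helper1)
-/

set_option autoImplicit false
universe u
open CategoryTheory CategoryTheory.Limits AlgebraicGeometry TopologicalSpace Opposite

namespace Groth.Agent.Helper1.P1Iso

open Groth.Agent.Helper1.QcCech Groth.Agent.Helper1.LGen Groth.Agent.Helper1
open Groth.Agent.Helper1.TwForm Groth.Agent.Helper1.CurveLin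

theorem withBot_le_zero_of_lt_one (x : WithBot ℕ∞) (h : x < 1) : x ≤ 0 := by
  induction x using WithBot.recBotCoe with
  | bot => exact bot_le
  | coe n =>
    have h' : n < 1 := by exact_mod_cast h
    have : n = 0 := Order.lt_one_iff.1 h'
    rw [this]
    rfl

section Top

variable (X : Scheme.{u}) [IsIntegral X]

/-- closed points of an integral locally noetherian scheme of dimension one have local rings of
dimension one -/
theorem ringKrullDim_stalk_eq_one (hdim : topologicalKrullDim X = 1) (x : X)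
    (hx : IsClosed ({x} : Set X)) : ringKrullDim (X.presheaf.stalk x) = 1 := by
  have h1 : ringKrullDim (X.presheaf.stalk x) ≤ 1 := VB5.ringKrullDim_stalk_le hdim.le x
  by_contra hne
  have h2 : ringKrullDim (X.presheaf.stalk x) < 1 := lt_of_le_of_ne h1 hne
  have h3 := withBot_le_zero_of_lt_one _ h2
  haveI : Ring.KrullDimLE 0 (X.presheaf.stalk x) := (Ring.krullDimLE_iff).2 h3
  have hf : IsField (X.presheaf.stalk x) := Ring.KrullDimLE.isField_of_isDomain
  apply PtInv.maximalIdeal_ne_bot X hdim x hx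
  exact (IsLocalRing.isField_iff_maximalIdeal_eq).1 hf

end Top

section Fin

variable (k : Type u) [Field k] (X : Scheme.{u}) [X.Over (Spec (CommRingCat.of k))]
  [IsIntegral X] [IsProper (X ↘ (Spec (CommRingCat.of k)))]

/-- a non-constant morphism from a proper integral curve to a separated `k`-scheme is finite -/
theorem isFinite_of_nonconstant (hdim : topologicalKrullDim X = 1) {P : Scheme.{u}}
    (pP : P ⟶ Spec (CommRingCat.of k)) [IsSeparated pP]
    (r : X ⟶ P) (hr : r ≫ pP = X ↘ (Spec (CommRingCat.of k))) (x₁ : X)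
    (hx₁ : r x₁ ≠ r (genericPoint X)) : IsFinite r := by
  haveI : IsProper (r ≫ pP) := by rw [hr]; infer_instance
  haveI : IsProper r := IsProper.of_comp r pP
  haveI : LocallyQuasiFinite r := by
    apply LocallyQuasiFinite.of_finite_preimage_singleton
    intro y
    obtain ⟨hgen, hfin⟩ := Groth.Agent.Lib.Helper4.CurveTop1.S4443_main' k X
      (fun x hx => ringKrullDim_stalk_eq_one X hdim x hx)
    by_cases hy : y = r (genericPoint X)
    · subst hy
      apply Set.Finite.subset (Set.finite_singleton (genericPoint X))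
      intro x hx
      by_contra hne
      have hxc : IsClosed ({x} : Set X) := by
        by_contra h
        exact hne (hgen x h)
      have hrc : IsClosed ({r x} : Set P) := by
        have := r.isClosedMap _ hxc
        simpa [Set.image_singleton] using this
      have hx' : r x = r (genericPoint X) := hx
      have hsp : r (genericPoint X) ⤳ r x₁ := (genericPoint_specializes x₁).map r.continuous
      have hmem : r x₁ ∈ closure ({r (genericPoint X)} : Set P) := hsp.mem_closure
      rw [← hx', hrc.closure_eq] at hmem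
      exact hx₁ ((Set.mem_singleton_iff.1 hmem).trans hx')
    · by_cases hemp : (r ⁻¹' {y}) = ∅
      · rw [hemp]
        exact Set.finite_empty
      obtain ⟨x, hx⟩ := Set.nonempty_iff_ne_empty.2 hemp
      have hF : IsClosed (r ⁻¹' closure ({y} : Set P)) := isClosed_closure.preimage r.continuous
      have hne : r ⁻¹' closure ({y} : Set P) ≠ Set.univ := by
        intro huniv
        have hη : r (genericPoint X) ∈ closure ({y} : Set P) := by
          have : genericPoint X ∈ r ⁻¹' closure ({y} : Set P) := huniv ▸ Set.mem_univ _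
          exact this
        have h1 : y ⤳ r (genericPoint X) := specializes_iff_mem_closure.2 hη
        have hx' : r x = y := hx
        have h2 : r (genericPoint X) ⤳ y :=
          hx' ▸ (genericPoint_specializes x).map r.continuous
        exact hy (h1.antisymm h2).eq
      exact ((hfin _ hF).1 hne).1.subset (Set.preimage_mono subset_closure)
  exact IsFinite.of_isProper_of_locallyQuasiFinite r

end Fin

section Gen

variable {X : Scheme.{u}} {L : X.Modules}

theorem genAt_of_coeff {x : X} {V : X.Opens} (hxV : x ∈ V) {g : Γ(L, V)} (hg : IsGen L V g)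
    (σ : Γ(L, ⊤)) (a : Γ(X, V)) (ha : a • g = res L (le_top : V ≤ ⊤) σ)
    (hax : x ∈ X.basicOpen a) : GenAt L σ x := by
  refine ⟨X.basicOpen a, hax, ?_⟩
  have hle : X.basicOpen a ≤ V := X.basicOpen_le a
  have hu : IsUnit (resR hle a) := X.toRingedSpace.isUnit_res_basicOpen a
  have e : res L (le_top : X.basicOpen a ≤ ⊤) σ = resR hle a • res L hle g := by
    rw [← res_smul, ha, res_res]
  rw [e]
  exact TwForm.IsGen.smul_unit (hg.res hle) hu.unit

/-- if a sum of two sections generates at a point then one of them does -/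
theorem genAt_add (σ τ : Γ(L, ⊤)) (x : X) (h : GenAt L (σ + τ) x) :
    GenAt L σ x ∨ GenAt L τ x := by
  obtain ⟨V, hxV, hV⟩ := h
  obtain ⟨a, ha⟩ := hV.exists_coeff (res L (le_top : V ≤ ⊤) σ)
  obtain ⟨b, hb⟩ := hV.exists_coeff (res L (le_top : V ≤ ⊤) τ)
  have hab : a + b = 1 := by
    apply (hV V le_rfl).1
    show (a + b) • res L le_rfl _ = (1 : Γ(X, V)) • res L le_rfl _
    rw [res_self, add_smul, ha, hb, one_smul, ← map_add]
  have hu : IsUnit (X.presheaf.germ V x hxV (a + b)) := by
    rw [hab, map_one]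
    exact isUnit_one
  rw [map_add] at hu
  rcases IsLocalRing.isUnit_or_isUnit_of_isUnit_add hu with h1 | h1
  · left
    exact genAt_of_coeff hxV hV σ a ha ((Scheme.mem_basicOpen _ _ _ hxV).2 h1)
  · right
    exact genAt_of_coeff hxV hV τ b hb ((Scheme.mem_basicOpen _ _ _ hxV).2 h1)

/-- if a multiple of a section generates at a point then so does the section -/
theorem genAt_of_smul (c : Γ(X, ⊤)) (σ : Γ(L, ⊤)) (x : X) (h : GenAt L (c • σ) x) :
    GenAt L σ x := by
  obtain ⟨V, hxV, hV⟩ := h
  obtain ⟨a, ha⟩ := hV.exists_coeff (res L (le_top : V ≤ ⊤) σ)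
  have hca : resR (le_top : V ≤ ⊤) c * a = 1 := by
    apply (hV V le_rfl).1
    show (resR (le_top : V ≤ ⊤) c * a) • res L le_rfl _ = (1 : Γ(X, V)) • res L le_rfl _
    rw [res_self, one_smul, mul_smul, ha, ← res_smul]
  have hau : IsUnit a := IsUnit.of_mul_eq_one _ (by rw [mul_comm]; exact hca)
  refine ⟨V, hxV, ?_⟩
  rw [← ha]
  exact TwForm.IsGen.smul_unit hV hau.unit

end Gen

section Setup

open Groth.Agent.Helper1.Euler Groth.Agent.Helper1.Curve Groth.Agent.Helper1.CurveDual
open Groth.Agent.Helper1.CurvePt Groth.Agent.Lib.Helper4 Groth.Agent.Helper1.AmpleLib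
open Groth.Agent.Helper1.ProjUP7

variable (k : Type u) [Field k] (X : Scheme.{u}) [X.Over (Spec (CommRingCat.of k))]
  [IsIntegral X] [IsProper (X ↘ (Spec (CommRingCat.of k)))]

/-- on a curve of genus zero with `H⁰(O) = k`, an invertible module of degree one defines a
finite morphism to the projective line -/
theorem exists_finite_to_P1 (hdim : topologicalKrullDim X = 1)
    (h0 : Module.finrank k (Coh.HH X (Coh.structureModule X) 0) = 1)
    (h1 : Subsingleton (Coh.HH X (Coh.structureModule X) 1))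
    (L : X.Modules) (hL : PicF.IsInvertible L) (hdeg : Curv2.deg k X L 1 = 1) :
    ∃ (r : X ⟶ CohB1.ProjSpace 1 k)
      (_ : r ≫ CohB1.ProjSpace.toSpec 1 k = X ↘ (Spec (CommRingCat.of k)))
      (_ : (Scheme.Modules.pullback r).obj (Twist.twistProjSpace 1 k 1) ≅ L),
      IsFinite r ∧ ∃ x₁ : X, r x₁ ≠ r (genericPoint X) := by
  haveI := isNoetherian_of_proper k X
  have hg : Curv2.genus k X = 0 := by
    unfold Curv2.genus
    exact Module.finrank_zero_of_subsingleton
  have hOc : Coh.IsCoh (Coh.structureModule X) :=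
    InvQc.isCoh_of_isInvertible _ GenLoc.isInvertible_O
  have hLc : Coh.IsCoh L := InvQc.isCoh_of_isInvertible _ hL
  haveI hH1 : Subsingleton (Coh.HH X L 1) :=
    subsingleton_H1_of_deg_ge k X hdim L hL (by rw [hg, hdeg]; norm_num)
  have eL := euler_eq_h0_sub_h1 k X hdim.le L hLc.1
  have eO := euler_eq_h0_sub_h1 k X hdim.le _ hOc.1
  have hb1 : Module.finrank k (Coh.HH X L 1) = 0 := Module.finrank_zero_of_subsingleton
  have hb2 : Module.finrank k (Coh.HH X (Coh.structureModule X) 1) = 0 :=
    Module.finrank_zero_of_subsingleton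
  rw [hb1] at eL
  rw [h0, hb2] at eO
  have hh0 : Module.finrank k (Coh.HH X L 0) = 2 := by
    unfold Curv2.deg at hdeg
    push_cast at eL eO hdeg
    have : (Module.finrank k (Coh.HH X L 0) : ℤ) = 2 := by linarith
    exact_mod_cast this
  have hgg : Curv2.IsGloballyGenerated L :=
    isGloballyGenerated_of_deg_ge k X hdim h0 L hL (by rw [hg, hdeg]; norm_num)
  haveI : Module.Finite k (Coh.HH X L 0) := T2Main1.t2 k X _ hLc 0
  let b : Module.Basis (Fin (1 + 1)) k (Coh.HH X L 0) := Module.finBasisOfFinrankEq k _ hh0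
  let s : Fin (1 + 1) → Γ(L, ⊤) := fun i => HH0.equiv X L (b i)
  -- every section is a combination of the two basis sections
  have hspan : ∀ σ : Γ(L, ⊤), ∃ c₀ c₁ : Γ(X, ⊤), σ = c₀ • s 0 + c₁ • s 1 := by
    intro σ
    have hrep := b.sum_repr ((HH0.equiv X L).symm σ)
    rw [Fin.sum_univ_two] at hrep
    refine ⟨Coh.toGlobal (X ↘ Spec (CommRingCat.of k)) (b.repr ((HH0.equiv X L).symm σ) 0),
      Coh.toGlobal (X ↘ Spec (CommRingCat.of k)) (b.repr ((HH0.equiv X L).symm σ) 1), ?_⟩
    have h2 := congrArg (fun t => HH0.equiv X L t) hrep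
    simp only [map_add, AddEquiv.apply_symm_apply] at h2
    rw [HH0.equiv_smul_over, HH0.equiv_smul_over] at h2
    exact h2.symm
  have hcov : ∀ x : X, ∃ i, x ∈ CohB1.genLocus L (TwistAmple.homOfSec L (s i)) := by
    intro x
    obtain ⟨σ, hσ⟩ := exists_genAt_of_gg X L hL hgg x
    obtain ⟨c₀, c₁, hc⟩ := hspan σ
    rw [hc] at hσ
    have hmem : ∀ i, GenAt L (s i) x → x ∈ CohB1.genLocus L (TwistAmple.homOfSec L (s i)) := by
      intro i ⟨V, hxV, hV⟩
      rw [mem_genLocus_iff_isGen]
      exact ⟨V, hxV, by rw [secVal_homOfSec]; exact hV⟩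
    rcases genAt_add _ _ x hσ with h | h
    · exact ⟨0, hmem 0 (genAt_of_smul c₀ (s 0) x h)⟩
    · exact ⟨1, hmem 1 (genAt_of_smul c₁ (s 1) x h)⟩
  have hs : ProjUP.GeneratedBy L s := VA1.generatedBy_of_cover s hcov
  obtain ⟨r, hr, τ, hτ⟩ := Groth.Agent.S3572.result (R := k) 1
    (X ↘ (Spec (CommRingCat.of k))) L hL s hs
  refine ⟨r, hr, τ, ?_⟩
  have hτ' : ∀ i, τ.hom.app ⊤ (pt (CohB1.polyGrading 1 k) (ProjUP8.tX 1 _) (ProjUP8.htX 1 _) r i)
      = s i := hτ
  have hpre : ∀ i, r ⁻¹ᵁ D (CohB1.polyGrading 1 k) (ProjUP8.tX 1 _) i =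
      CohB1.genLocus L (TwistAmple.homOfSec L (s i)) :=
    VA1.preimage_D (CohB1.polyGrading 1 k) (ProjUP8.tX 1 _) (ProjUP8.htX 1 _)
      (ProjUP8.hcov 1 _) r τ s hτ'
  -- the section `s 0` is nonzero, so generates at the generic point
  have hs0 : s 0 ≠ 0 := by
    intro h
    have : b 0 = 0 := (HH0.equiv X L).injective (h.trans (map_zero _).symm)
    exact b.ne_zero 0 this
  have hη : genericPoint X ∈ r ⁻¹ᵁ D (CohB1.polyGrading 1 k) (ProjUP8.tX 1 _) 0 := by
    rw [hpre]
    obtain ⟨V, hxV, hV⟩ := PtInv.genAt_genericPoint_of_ne_zero hL (s 0) hs0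
    rw [mem_genLocus_iff_isGen]
    exact ⟨V, hxV, by rw [secVal_homOfSec]; exact hV⟩
  -- but it does not generate everywhere
  obtain ⟨x₁, hx₁⟩ : ∃ x₁ : X, ¬ GenAt L (s 0) x₁ := by
    by_contra hcon
    push Not at hcon
    haveI := PtInv.isIso_homOfSec_of_forall_genAt _ hcon
    have e := asIso (TwistAmple.homOfSec L (s 0))
    have h2 : Curv2.deg k X L 1 = Curv2.deg k X (Coh.structureModule X) 1 := by
      unfold Curv2.deg
      rw [euler_iso k X e]
    rw [h2, deg_structureModule] at hdeg
    exact zero_ne_one hdeg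
  have hx₁' : x₁ ∉ r ⁻¹ᵁ D (CohB1.polyGrading 1 k) (ProjUP8.tX 1 _) 0 := by
    rw [hpre]
    intro hmem
    apply hx₁
    obtain ⟨V, hxV, hV⟩ := (mem_genLocus_iff_isGen _ x₁).1 hmem
    rw [secVal_homOfSec] at hV
    exact ⟨V, hxV, hV⟩
  haveI : IsSeparated (CohB1.ProjSpace.toSpec 1 k) := VA5.isSeparated_toSpec 1 k
  have hne : r x₁ ≠ r (genericPoint X) := by
    intro heq
    apply hx₁'
    show r x₁ ∈ D (CohB1.polyGrading 1 k) (ProjUP8.tX 1 _) 0
    rw [heq]
    exact hη
  exact ⟨isFinite_of_nonconstant k X hdim (CohB1.ProjSpace.toSpec 1 k) r hr x₁ hne, x₁, hne⟩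

end Setup

end Groth.Agent.Helper1.P1Iso
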