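import Mathlib
import Groth.Agent.Lib.Helper1.CurvePt1

/-!
# The residue field of a closed point and the functions on the reduced point (helper1)
-/

set_option autoImplicit false
universe u
open CategoryTheory CategoryTheory.Limits AlgebraicGeometry TopologicalSpace Opposite

namespace Groth.Agent.Helper1.PtDeg

open Groth.Agent.Helper1.CurveDual Groth.Agent.Helper1.CurvePt Groth.Agent.Helper1.CurveLin

section Pt

variable {X : Scheme.{u}}

theorem exists_point_subscheme (x : X) (hx : IsClosed ({x} : Set X)) :
    ∃ z : (ptIdeal x hx).subscheme, (ptIdeal x hx).subschemeι z = x := by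
  have h : x ∈ Set.range (ptIdeal x hx).subschemeι := by
    rw [Scheme.IdealSheafData.range_subschemeι, ptIdeal_support]
    rfl
  exact h

theorem subsingleton_subscheme (x : X) (hx : IsClosed ({x} : Set X)) :
    Subsingleton (ptIdeal x hx).subscheme := by
  refine ⟨fun a b => ?_⟩
  have ha : (ptIdeal x hx).subschemeι a ∈ Set.range (ptIdeal x hx).subschemeι := ⟨a, rfl⟩
  have hb : (ptIdeal x hx).subschemeι b ∈ Set.range (ptIdeal x hx).subschemeι := ⟨b, rfl⟩
  rw [Scheme.IdealSheafData.range_subschemeι, ptIdeal_support] at ha hb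
  have hinj : Function.Injective (ptIdeal x hx).subschemeι :=
    (ptIdeal x hx).subschemeι.isEmbedding.injective
  exact hinj ((Set.mem_singleton_iff.1 ha).trans (Set.mem_singleton_iff.1 hb).symm)

/-- on a reduced one-point scheme, evaluation at the point is bijective on global functions -/
theorem evaluation_bijective_of_subsingleton (Z : Scheme.{u}) [IsReduced Z] [Subsingleton Z]
    (z : Z) : Function.Bijective (Z.evaluation ⊤ z trivial) := by
  constructor
  · rw [injective_iff_map_eq_zero]
    intro s hs
    rw [Scheme.evaluation_eq_zero_iff_notMem_basicOpen] at hs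
    have hbot : Z.basicOpen s = ⊥ := by
      rw [eq_bot_iff]
      intro y hy
      exact absurd (Subsingleton.elim y z ▸ hy) hs
    exact (basicOpen_eq_bot_iff s).1 hbot
  · intro t
    obtain ⟨t', rfl⟩ := Z.residue_surjective z t
    obtain ⟨U, hzU, s, rfl⟩ := Z.presheaf.exists_germ_eq (x := z) t'
    have hU : U = ⊤ := by
      ext y
      simp only [Opens.coe_top, Set.mem_univ, iff_true, SetLike.mem_coe]
      exact Subsingleton.elim z y ▸ hzU
    subst hU
    exact ⟨s, rfl⟩

/-- the residue field map of a closed immersion is bijective -/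
theorem residueFieldMap_bijective {Z : Scheme.{u}} (ι : Z ⟶ X) [IsClosedImmersion ι] (z : Z) :
    Function.Bijective (ι.residueFieldMap z) := by
  refine ⟨(ι.residueFieldMap z).hom.injective, ?_⟩
  intro t
  obtain ⟨t', rfl⟩ := Z.residue_surjective z t
  obtain ⟨a, rfl⟩ := ι.stalkMap_surjective z t'
  refine ⟨X.residue (ι z) a, ?_⟩
  have h := Scheme.residue_residueFieldMap ι z
  exact congrArg (fun φ => φ.hom a) h

end Pt

section LinEq

variable (k : Type u) [Field k] (X : Scheme.{u}) [X.Over (Spec (CommRingCat.of k))]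

attribute [local instance] Curv2.resAlgebra

theorem resMap_congr {x y : X} (h : x = y) (c : k) :
    (X.residueFieldCongr h).hom (Curv2.resMap k X x c) = Curv2.resMap k X y c := by
  subst h
  rfl

/-- the ring of functions on the reduced closed point is the residue field, `k`-linearly -/
theorem nonempty_linearEquiv_residueField (x : X) (hx : IsClosed ({x} : Set X)) :
    letI := (toΓ' k (ptIdeal x hx).subscheme
      ((ptIdeal x hx).subschemeι ≫ (X ↘ Spec (CommRingCat.of k)))).toAlgebra
    Nonempty (Γ((ptIdeal x hx).subscheme, ⊤) ≃ₗ[k] X.residueField x) := by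
  letI a1 : Algebra k Γ((ptIdeal x hx).subscheme, ⊤) := (toΓ' k (ptIdeal x hx).subscheme
      ((ptIdeal x hx).subschemeι ≫ (X ↘ Spec (CommRingCat.of k)))).toAlgebra
  obtain ⟨z, hz⟩ := exists_point_subscheme x hx
  haveI := subsingleton_subscheme x hx
  haveI : IsReduced (ptIdeal x hx).subscheme := isReduced_vanishingIdeal_subscheme ⟨{x}, hx⟩
  let ψ := RingEquiv.ofBijective ((ptIdeal x hx).subscheme.evaluation ⊤ z trivial).hom
    (evaluation_bijective_of_subsingleton _ z)
  let φ := RingEquiv.ofBijective ((ptIdeal x hx).subschemeι.residueFieldMap z).hom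
    (residueFieldMap_bijective _ z)
  let c := (X.residueFieldCongr hz).commRingCatIsoToRingEquiv
  let Θ : Γ((ptIdeal x hx).subscheme, ⊤) ≃+* X.residueField x := ψ.trans (φ.symm.trans c)
  have hΘ : ∀ r : k, Θ (algebraMap k _ r) = algebraMap k (X.residueField x) r := by
    intro r
    show c (φ.symm (ψ (toΓ' k (ptIdeal x hx).subscheme
      ((ptIdeal x hx).subschemeι ≫ (X ↘ Spec (CommRingCat.of k))) r))) = Curv2.resMap k X x r
    have h1 : ψ (toΓ' k (ptIdeal x hx).subscheme
        ((ptIdeal x hx).subschemeι ≫ (X ↘ Spec (CommRingCat.of k))) r) =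
        φ (Curv2.resMap k X ((ptIdeal x hx).subschemeι z) r) := by
      have h2 := Scheme.Γevaluation_naturality_apply (ptIdeal x hx).subschemeι z
        (Coh.toGlobal (X ↘ Spec (CommRingCat.of k)) r)
      rw [RingEquiv.ofBijective_apply, RingEquiv.ofBijective_apply]
      refine Eq.trans ?_ h2.symm
      unfold toΓ' Coh.toGlobal
      simp only [Scheme.Hom.comp_appTop, CommRingCat.hom_comp, RingHom.coe_comp,
        Function.comp_apply]
      rfl
    rw [h1, RingEquiv.symm_apply_apply]
    exact resMap_congr k X hz r
  exact ⟨(AlgEquiv.ofRingEquiv hΘ).toLinearEquiv⟩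

end LinEq

end Groth.Agent.Helper1.PtDeg
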