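import Mathlib
import Groth.Agent.Lib.Helper1.PtDeg1
import Groth.Agent.Lib.Helper1.P1Iso1
import Groth.Agent.Lib.Helper4.IntSection1

/-!
# Degree of the ideal sheaf of a closed point; normal and rational points (helper1)
-/

set_option autoImplicit false
universe u
open CategoryTheory CategoryTheory.Limits AlgebraicGeometry TopologicalSpace Opposite

namespace Groth.Agent.Helper1.PtDeg

open Groth.Agent.Helper1.CurveDual Groth.Agent.Helper1.CurvePt Groth.Agent.Helper1.CurveLin
open Groth.Agent.Helper1.Euler Groth.Agent.Helper1.Curve Groth.Agent.Helper1.PtInv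
open Groth.Agent.Helper1

section Deg

variable (k : Type u) [Field k] (X : Scheme.{u}) [X.Over (Spec (CommRingCat.of k))]

attribute [local instance] Curv2.resAlgebra

/-- `h⁰(O/I_x) = [κ(x) : k]` -/
theorem finrank_quotMod_pt' (x : X) (hx : IsClosed ({x} : Set X)) :
    Module.finrank k (Coh.HH X (ClSub.quotMod (ptIdeal x hx)) 0) =
      Module.finrank k (X.residueField x) := by
  letI a1 : Algebra k Γ((ptIdeal x hx).subscheme, ⊤) :=
    (toΓ' k (ptIdeal x hx).subscheme
      ((ptIdeal x hx).subschemeι ≫ (X ↘ Spec (CommRingCat.of k)))).toAlgebra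
  obtain ⟨E⟩ := nonempty_HH_quotMod_linearEquiv k X (ptIdeal x hx)
  obtain ⟨E'⟩ := nonempty_linearEquiv_residueField k X x hx
  rw [E.finrank_eq, E'.finrank_eq]

variable [IsProper (X ↘ (Spec (CommRingCat.of k)))]

/-- the ideal sheaf of a closed point has degree `-[κ(x) : k]` -/
theorem deg_ptIdeal' (P : X) (hP : IsClosed ({P} : Set X)) :
    Curv2.deg k X (ClSub.idealMod (ptIdeal P hP)) 1 = -(Module.finrank k (X.residueField P) : ℤ) := by
  haveI := isNoetherian_of_proper k X
  haveI : IsLocallyNoetherian X := (isNoetherian_of_proper k X).toIsLocallyNoetherian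
  have hSE := shortExact_S (ptIdeal P hP)
  have hZ : topologicalKrullDim ((ptIdeal P hP).support : Set X) ≤ 0 := by
    rw [ptIdeal_support]
    haveI : Nonempty ↥({P} : Set X) := ⟨⟨P, rfl⟩⟩
    exact topologicalKrullDim_zero_of_discreteTopology ↥({P} : Set X)
  have hOc : Coh.IsCoh (Coh.structureModule X) :=
    InvQc.isCoh_of_isInvertible _ GenLoc.isInvertible_O
  have hIc : Coh.IsCoh (ClSub.idealMod (ptIdeal P hP)) := isCoh_idealMod _
  have hQc : Coh.IsCoh (ClSub.quotMod (ptIdeal P hP)) := isCoh_quotMod _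
  have hQd : topologicalKrullDim ↥(CohB1.support (ClSub.quotMod (ptIdeal P hP))) ≤ 0 :=
    (Groth.Agent.Helper1.Dv.krullDim_le_of_subset (support_quotMod_subset _)).trans hZ
  have hadd := euler_additive k X _ hSE hIc hOc hQc
  change Curv2.euler k X (Coh.structureModule X) =
    Curv2.euler k X (ClSub.idealMod (ptIdeal P hP)) +
      Curv2.euler k X (ClSub.quotMod (ptIdeal P hP)) at hadd
  have e4 := euler_eq_finrank_of_dim_le_zero k X (ClSub.quotMod (ptIdeal P hP)) hQc hQd
  have e6 := finrank_quotMod_pt' k X P hP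
  rw [e6] at e4
  unfold Curv2.deg
  push_cast at e4 ⊢
  linarith

end Deg

section Normal

variable (X : Scheme.{u}) [IsIntegral X] [IsLocallyNoetherian X]

/-- on an integral curve the ideal sheaf of a closed point with integrally closed local ring is
invertible -/
theorem isInvertible_ptIdeal_of_isIntegrallyClosed (hdim : topologicalKrullDim X = 1) (P : X)
    (hP : IsClosed ({P} : Set X)) (hn : IsIntegrallyClosed (X.presheaf.stalk P)) :
    PicF.IsInvertible (ClSub.idealMod (ptIdeal P hP)) := by
  haveI : IsDomain (X.presheaf.stalk P) := inferInstance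
  haveI : IsNoetherianRing (X.presheaf.stalk P) := inferInstance
  have hd : ringKrullDim (X.presheaf.stalk P) = 1 := P1Iso.ringKrullDim_stalk_eq_one X hdim P hP
  haveI hk : Ring.KrullDimLE 1 (X.presheaf.stalk P) := by
    rw [Ring.krullDimLE_iff]
    exact hd.le
  have h3 : IsIntegrallyClosed (X.presheaf.stalk P) ∧ ∀ Q : Ideal (X.presheaf.stalk P), Q ≠ ⊥ →
      Q.IsPrime → Q = IsLocalRing.maximalIdeal (X.presheaf.stalk P) := by
    refine ⟨hn, fun Q hQ hQp => ?_⟩
    have hmax := Ring.krullDimLE_one_iff_of_noZeroDivisors.1 hk Q hQ hQp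
    exact IsLocalRing.eq_maximalIdeal hmax
  have hpr : (IsLocalRing.maximalIdeal (X.presheaf.stalk P)).IsPrincipal :=
    ((tfae_of_isNoetherianRing_of_isLocalRing_of_isDomain
      (R := X.presheaf.stalk P)).out 3 4).1 h3
  exact isInvertible_ptIdeal P hP hpr (maximalIdeal_ne_bot X hdim P hP)

end Normal

section Rational

variable (k : Type u) [Field k] (X : Scheme.{u}) [X.Over (Spec (CommRingCat.of k))]

attribute [local instance] Curv2.resAlgebra

variable {X} (s : Spec (CommRingCat.of k) ⟶ X)
  (hs : s ≫ (X ↘ Spec (CommRingCat.of k)) = 𝟙 _)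

include hs in
theorem isClosedImmersion_of_section : IsClosedImmersion s :=
  isClosedImmersion_of_comp_eq_id (X ↘ Spec (CommRingCat.of k)) s hs

omit [X.Over (Spec (CommRingCat.of k))] in
theorem range_eq_singleton (pt : Spec (CommRingCat.of k)) : Set.range s = {s pt} := by
  ext y
  constructor
  · rintro ⟨q, rfl⟩
    rw [Subsingleton.elim q pt]
    rfl
  · intro hy
    exact ⟨pt, (Set.mem_singleton_iff.1 hy).symm⟩

include hs in
theorem isClosed_of_section (pt : Spec (CommRingCat.of k)) : IsClosed ({s pt} : Set X) := by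
  haveI := isClosedImmersion_of_section k s hs
  rw [← range_eq_singleton k s pt]
  exact s.isClosedEmbedding.isClosed_range

omit [X.Over (Spec (CommRingCat.of k))] in
theorem ptIdeal_congr {x y : X} (h : x = y) (hx : IsClosed ({x} : Set X))
    (hy : IsClosed ({y} : Set X)) : ptIdeal x hx = ptIdeal y hy := by
  subst h
  rfl

omit [X.Over (Spec (CommRingCat.of k))] in
theorem ker_eq_ptIdeal (pt : Spec (CommRingCat.of k)) (h : IsClosed ({s pt} : Set X)) :
    s.ker = ptIdeal (s pt) h := by
  rw [Groth.Agent.Lib.Helper4.IntSection1.ker_eq_vanishingIdeal_of_isReduced s]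
  unfold ptIdeal
  congr 1
  apply TopologicalSpace.Closeds.ext
  rw [TopologicalSpace.Closeds.coe_closure]
  have : (s '' ((⊤ : TopologicalSpace.Closeds (Spec (CommRingCat.of k))) : Set _)) = {s pt} := by
    rw [TopologicalSpace.Closeds.coe_top, Set.image_univ]
    exact range_eq_singleton k s pt
  rw [this]
  exact h.closure_eq

include hs in
/-- the residue field of a rational point is the base field -/
theorem resMap_bijective_of_section (pt : Spec (CommRingCat.of k)) :
    Function.Bijective (Curv2.resMap k X (s pt)) := by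
  refine ⟨(Curv2.resMap k X (s pt)).injective, ?_⟩
  have hev := evaluation_bijective_of_subsingleton (Spec (CommRingCat.of k)) pt
  have hcomp : ∀ c : k, (s.residueFieldMap pt) (Curv2.resMap k X (s pt) c) =
      (Spec (CommRingCat.of k)).evaluation ⊤ pt trivial
        ((Scheme.ΓSpecIso (CommRingCat.of k)).inv c) := by
    intro c
    have h2 := Scheme.Γevaluation_naturality_apply s pt
      (Coh.toGlobal (X ↘ Spec (CommRingCat.of k)) c)
    refine Eq.trans h2 ?_
    congr 1
    unfold Coh.toGlobal
    have h3 := congrArg Scheme.Hom.appTop hs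
    rw [Scheme.Hom.comp_appTop] at h3
    have h4 := congrArg (fun φ => φ.hom ((Scheme.ΓSpecIso (CommRingCat.of k)).inv c)) h3
    simp only [CommRingCat.hom_comp, Scheme.Hom.id_appTop, CommRingCat.hom_id, RingHom.id_apply,
      RingHom.coe_comp, Function.comp_apply] at h4
    exact h4
  intro t
  obtain ⟨b, hb⟩ := hev.2 (s.residueFieldMap pt t)
  refine ⟨(Scheme.ΓSpecIso (CommRingCat.of k)).hom b, ?_⟩
  apply (s.residueFieldMap pt).hom.injective
  refine (hcomp _).trans ?_
  rw [← hb]
  congr 1
  exact congrArg (fun φ => φ.hom b) (Scheme.ΓSpecIso (CommRingCat.of k)).hom_inv_id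

include hs in
theorem finrank_residueField_of_section (pt : Spec (CommRingCat.of k)) :
    Module.finrank k (X.residueField (s pt)) = 1 := by
  let e : k ≃ₗ[k] X.residueField (s pt) :=
    LinearEquiv.ofBijective (Algebra.linearMap k (X.residueField (s pt)))
      (resMap_bijective_of_section k s hs pt)
  rw [← e.finrank_eq, Module.finrank_self]

include hs in
/-- two rational points with the same underlying point coincide -/
theorem eq_of_section_of_apply_eq (t : Spec (CommRingCat.of k) ⟶ X)
    (ht : t ≫ (X ↘ Spec (CommRingCat.of k)) = 𝟙 _) (pt : Spec (CommRingCat.of k))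
    (h : s pt = t pt) : s = t := by
  have hcl := isClosed_of_section k s hs pt
  have hcl' := isClosed_of_section k t ht pt
  haveI := isClosedImmersion_of_section k s hs
  haveI := isClosedImmersion_of_section k t ht
  have hks : s.ker = ptIdeal (s pt) hcl := ker_eq_ptIdeal k s pt hcl
  have hkt : t.ker = ptIdeal (s pt) hcl :=
    (ker_eq_ptIdeal k t pt hcl').trans (ptIdeal_congr h.symm hcl' hcl)
  have hι : (ptIdeal (s pt) hcl).subschemeι.ker = ptIdeal (s pt) hcl :=
    Scheme.IdealSheafData.ker_subschemeι _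
  let s' := IsClosedImmersion.lift (ptIdeal (s pt) hcl).subschemeι s (by rw [hι, hks])
  let t' := IsClosedImmersion.lift (ptIdeal (s pt) hcl).subschemeι t (by rw [hι, hkt])
  have hs' : s' ≫ (ptIdeal (s pt) hcl).subschemeι = s := IsClosedImmersion.lift_fac _ _ _
  have ht' : t' ≫ (ptIdeal (s pt) hcl).subschemeι = t := IsClosedImmersion.lift_fac _ _ _
  haveI : IsClosedImmersion (s' ≫ (ptIdeal (s pt) hcl).subschemeι) := by rw [hs']; infer_instance
  haveI : IsClosedImmersion s' := IsClosedImmersion.of_comp s' (ptIdeal (s pt) hcl).subschemeι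
  haveI := subsingleton_subscheme (s pt) hcl
  haveI : IsReduced (ptIdeal (s pt) hcl).subscheme := isReduced_vanishingIdeal_subscheme ⟨{s pt}, hcl⟩
  haveI : Surjective s' := ⟨fun z => ⟨pt, Subsingleton.elim _ _⟩⟩
  haveI : IsIso s' := isIso_of_isClosedImmersion_of_surjective s'
  have e1 : s' ≫ ((ptIdeal (s pt) hcl).subschemeι ≫ (X ↘ Spec (CommRingCat.of k))) = 𝟙 _ := by
    rw [← Category.assoc, hs', hs]
  have e2 : t' ≫ ((ptIdeal (s pt) hcl).subschemeι ≫ (X ↘ Spec (CommRingCat.of k))) = 𝟙 _ := by
    rw [← Category.assoc, ht', ht]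
  have e3 : (ptIdeal (s pt) hcl).subschemeι ≫ (X ↘ Spec (CommRingCat.of k)) = inv s' := by
    rw [← cancel_epi s', e1, IsIso.hom_inv_id]
  rw [e3] at e2
  have e4 : t' = s' := by
    have := congrArg (fun φ => φ ≫ s') e2
    simpa using this
  rw [← hs', ← ht', e4]

end Rational

end Groth.Agent.Helper1.PtDeg
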