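import Mathlib
import Groth.Agent.Lib.Helper1.PtDeg2
import Groth.Agent.Lib.Helper1.RP11
import Groth.Agent.Lib.Helper1.SecOps2
import Groth.Agent.Lib.Helper5.QC.RpushBound

/-!
# Two linearly equivalent distinct points give a pencil (helper1)
-/

set_option autoImplicit false
universe u
open CategoryTheory CategoryTheory.Limits AlgebraicGeometry TopologicalSpace Opposite

namespace Groth.Agent.Helper1.PtDeg

open Groth.Agent.Helper1.CurveDual Groth.Agent.Helper1.CurvePt Groth.Agent.Helper1.CurveLin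
open Groth.Agent.Helper1.Euler Groth.Agent.Helper1.Curve Groth.Agent.Helper1.PtInv
open Groth.Agent.Helper1 Groth.Agent.Helper1.LGen
open Groth.Agent.Lib.Helper4.TwExact

section G

variable {X : Scheme.{u}}

/-- the section of `K = I⁻¹` attached to the inclusion `I ⊂ O`: it is a monomorphism whose
cokernel is supported on `V(I)` -/
theorem mono_and_support_twistSec (I : X.IdealSheafData) {K : X.Modules}
    (hK : PicF.IsInvertible K)
    (θ : Coh.structureModule X ≅ (TL K).obj (ClSub.idealMod I))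
    (u : (TL K).obj (Coh.structureModule X) ≅ K) :
    Mono (θ.hom ≫ (TL K).map (ClSub.idealModι I) ≫ u.hom) ∧
      CohB1.support (cokernel (θ.hom ≫ (TL K).map (ClSub.idealModι I) ≫ u.hom)) ⊆
        (I.support : Set X) := by
  have hSE := shortExact_map (locGen_of_isInvertible _ hK) (shortExact_S I)
  haveI : Mono ((TL K).map (ClSub.idealModι I)) := hSE.mono_f
  haveI : Epi ((IdealModL.S I).map (TL K)).g := hSE.epi_g
  constructor
  · haveI : Mono ((TL K).map (ClSub.idealModι I) ≫ u.hom) := mono_comp _ _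
    exact mono_comp _ _
  · have e1 : cokernel (θ.hom ≫ (TL K).map (ClSub.idealModι I) ≫ u.hom) ≅
        cokernel ((TL K).map (ClSub.idealModι I) ≫ u.hom) := cokernelEpiComp _ _
    have e2 : cokernel ((TL K).map (ClSub.idealModι I) ≫ u.hom) ≅
        cokernel ((TL K).map (ClSub.idealModι I)) := cokernelCompIsIso _ _
    have e3 : cokernel ((TL K).map (ClSub.idealModι I)) ≅
        CohB1.tensorMod (ClSub.quotMod I) K :=
      IsColimit.coconePointUniqueUpToIso (colimit.isColimit _) hSE.exact.gIsCokernel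
    rw [Dv.support_iso (e1 ≪≫ e2 ≪≫ e3)]
    exact support_tensor_quotMod_subset I hK

end G

section Sec

variable {X : Scheme.{u}} {N : X.Modules}

theorem secVal_homOfSec_comp (a : Γ(X, ⊤)) (σ : Coh.structureModule X ⟶ N) :
    secVal (TwistAmple.homOfSec (Coh.structureModule X) a ≫ σ) ⊤ = a • secVal σ ⊤ := by
  rw [RP11.secVal_top]
  have h1 : (TwistAmple.homOfSec (Coh.structureModule X) a).app ⊤
      (show Γ(Coh.structureModule X, ⊤) from (1 : Γ(X, ⊤))) =
      (show Γ(Coh.structureModule X, ⊤) from a) := by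
    have h2 := TwistAmple.homOfSec_app (Coh.structureModule X) a ⊤ 1
    rw [one_smul] at h2
    refine h2.trans ?_
    exact QcCech.res_self _ _ _
  have h3 := app_eq_smul σ ⊤ a
  have e : (TwistAmple.homOfSec (Coh.structureModule X) a ≫ σ).app ⊤
      (show Γ(Coh.structureModule X, ⊤) from (1 : Γ(X, ⊤))) =
      σ.app ⊤ ((TwistAmple.homOfSec (Coh.structureModule X) a).app ⊤
        (show Γ(Coh.structureModule X, ⊤) from (1 : Γ(X, ⊤)))) := by
    rw [Scheme.Modules.Hom.comp_app]
    rfl
  rw [e, h1]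
  exact h3

theorem isIso_homOfSec_of_isUnit (a : Γ(X, ⊤)) (ha : IsUnit a) :
    IsIso (TwistAmple.homOfSec (Coh.structureModule X) a) := by
  obtain ⟨b, hb⟩ := ha.exists_right_inv
  have hb' : b * a = 1 := by rw [mul_comm]; exact hb
  have key : ∀ c d : Γ(X, ⊤), c * d = 1 →
      TwistAmple.homOfSec (Coh.structureModule X) c ≫
        TwistAmple.homOfSec (Coh.structureModule X) d = 𝟙 _ := by
    intro c d hcd
    apply RP11.hom_ext_of_secVal
    rw [secVal_homOfSec_comp, AmpleLib.secVal_homOfSec, RP11.secVal_top]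
    rw [QcCech.res_self]
    exact hcd
  exact ⟨⟨TwistAmple.homOfSec (Coh.structureModule X) b, key a b hb, key b a hb'⟩⟩

end Sec

section Main

variable (k : Type u) [Field k] (X : Scheme.{u}) [X.Over (Spec (CommRingCat.of k))]
  [IsIntegral X] [IsProper (X ↘ (Spec (CommRingCat.of k)))]

omit [IsProper (X ↘ (Spec (CommRingCat.of k)))] [X.Over (Spec (CommRingCat.of k))] in
theorem not_isZero_structureModule : ¬ IsZero (Coh.structureModule X) := by
  intro hz
  haveI : Nonempty ↥(⊤ : X.Opens) := ⟨⟨Classical.arbitrary X, trivial⟩⟩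
  haveI : Nontrivial Γ(X, ⊤) := inferInstance
  have h1 : (𝟙 (Coh.structureModule X) : _ ⟶ _) = 0 := (IsZero.iff_id_eq_zero _).1 hz
  have h2 : (𝟙 (Coh.structureModule X) : _ ⟶ _).app ⊤
      (show Γ(Coh.structureModule X, ⊤) from (1 : Γ(X, ⊤))) =
      (0 : Coh.structureModule X ⟶ _).app ⊤
      (show Γ(Coh.structureModule X, ⊤) from (1 : Γ(X, ⊤))) := by rw [h1]
  have h3 : (1 : Γ(X, ⊤)) = 0 := h2
  exact one_ne_zero h3

set_option maxHeartbeats 1000000 in
/-- two sections of an invertible module of nonzero degree with cokernels supported at distinct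
points are linearly independent -/
theorem two_le_finrank_of_sections (P Q : X) (hPQ : P ≠ Q)
    (K : X.Modules) (hK : PicF.IsInvertible K) (hK0 : Curv2.deg k X K 1 ≠ 0)
    (σP σQ : Coh.structureModule X ⟶ K) (hmP : Mono σP) (hmQ : Mono σQ)
    (hsP : CohB1.support (cokernel σP) ⊆ {P}) (hsQ : CohB1.support (cokernel σQ) ⊆ {Q}) :
    2 ≤ Module.finrank k (Coh.HH X K 0) := by
  haveI := isNoetherian_of_proper k X
  by_contra hlt
  push Not at hlt
  have hne : ∀ (σ : Coh.structureModule X ⟶ K), Mono σ → secVal σ ⊤ ≠ 0 := by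
    intro σ hσ h0
    have h : σ = 0 := RP11.hom_ext_of_secVal σ 0 (h0.trans (SecOps.secVal_zero ⊤).symm)
    subst h
    exact not_isZero_structureModule X (IsZero.of_mono_zero _ K)
  have hKc : Coh.IsCoh K := InvQc.isCoh_of_isInvertible _ hK
  haveI : Module.Finite k (Coh.HH X K 0) := Groth.Agent.Lib.Helper4.T2Main1.t2 k X _ hKc 0
  have hvP : (HH0.equiv X K).symm (secVal σP ⊤) ≠ 0 := by
    intro h
    apply hne σP hmP
    have := congrArg (HH0.equiv X K) h
    rw [AddEquiv.apply_symm_apply, map_zero] at this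
    exact this
  have hfr : Module.finrank k (Coh.HH X K 0) = 1 := by
    have hpos : 0 < Module.finrank k (Coh.HH X K 0) :=
      Module.finrank_pos_iff_exists_ne_zero.2 ⟨_, hvP⟩
    omega
  obtain ⟨c, hc⟩ := (finrank_eq_one_iff_of_nonzero' _ hvP).1 hfr
    ((HH0.equiv X K).symm (secVal σQ ⊤))
  have hc' : secVal σQ ⊤ =
      (show Γ(X, ⊤) from Coh.toGlobal (X ↘ Spec (CommRingCat.of k)) c) • secVal σP ⊤ := by
    have := congrArg (HH0.equiv X K) hc
    rw [HH0.equiv_smul_over, AddEquiv.apply_symm_apply, AddEquiv.apply_symm_apply] at this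
    exact this.symm
  have hc0 : c ≠ 0 := by
    rintro rfl
    rw [zero_smul] at hc
    apply hne σQ hmQ
    have := congrArg (HH0.equiv X K) hc.symm
    rw [AddEquiv.apply_symm_apply, map_zero] at this
    exact this
  haveI hm : IsIso (TwistAmple.homOfSec (Coh.structureModule X)
      (Coh.toGlobal (X ↘ Spec (CommRingCat.of k)) c)) :=
    isIso_homOfSec_of_isUnit _ ((isUnit_iff_ne_zero.2 hc0).map _)
  have hσ : σQ = TwistAmple.homOfSec (Coh.structureModule X)
      (Coh.toGlobal (X ↘ Spec (CommRingCat.of k)) c) ≫ σP := by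
    apply RP11.hom_ext_of_secVal
    rw [secVal_homOfSec_comp]
    exact hc'
  have eC : cokernel σQ ≅ cokernel σP := cokernelIsoOfEq hσ ≪≫ cokernelEpiComp _ _
  rw [Dv.support_iso eC] at hsQ
  have hz : IsZero (cokernel σP) := by
    apply Groth.Agent.Lib.Helper5.QC.isZero_of_stalks
    intro x
    by_contra hx
    have h1 : x = P := hsP hx
    have h2 : x = Q := hsQ hx
    exact hPQ (h1.symm.trans h2)
  haveI : Epi σP := Preadditive.epi_of_cokernel_zero (hz.eq_of_tgt _ _)
  haveI : IsIso σP := isIso_of_mono_of_epi _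
  apply hK0
  rw [← deg_structureModule k X]
  unfold Curv2.deg
  rw [euler_iso k X (asIso σP)]

/-- if the ideal sheaves of two distinct closed points are isomorphic, the inverse `K` of one of
them (assumed not of degree zero) has at least two independent sections -/
theorem two_le_finrank_of_iso_ptIdeal
    (P Q : X) (hP : IsClosed ({P} : Set X)) (hQ : IsClosed ({Q} : Set X)) (hPQ : P ≠ Q)
    (φ : ClSub.idealMod (ptIdeal P hP) ≅ ClSub.idealMod (ptIdeal Q hQ))
    (K : X.Modules) (hK : PicF.IsInvertible K)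
    (e : CohB1.tensorMod K (ClSub.idealMod (ptIdeal P hP)) ≅ Coh.structureModule X)
    (hK0 : Curv2.deg k X K 1 ≠ 0) :
    2 ≤ Module.finrank k (Coh.HH X K 0) := by
  obtain ⟨u⟩ := TwistAmpleOpen.nonempty_tensorMod_unit_iso K
  let θP : Coh.structureModule X ≅ (TL K).obj (ClSub.idealMod (ptIdeal P hP)) :=
    e.symm ≪≫ TildeTens.tensorModComm K _
  let θQ : Coh.structureModule X ≅ (TL K).obj (ClSub.idealMod (ptIdeal Q hQ)) :=
    θP ≪≫ PicGrp.tensorModIso φ (Iso.refl K)
  let u' : (TL K).obj (Coh.structureModule X) ≅ K := u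
  obtain ⟨hmP, hsP⟩ := mono_and_support_twistSec (ptIdeal P hP) hK θP u'
  obtain ⟨hmQ, hsQ⟩ := mono_and_support_twistSec (ptIdeal Q hQ) hK θQ u'
  rw [ptIdeal_support] at hsP hsQ
  exact two_le_finrank_of_sections k X P Q hPQ K hK hK0 _ _ hmP hmQ hsP hsQ

end Main

end Groth.Agent.Helper1.PtDeg
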