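import Mathlib
import Groth.Agent.Lib.Helper1.GV1

/-!
# Finiteness of proper morphisms with finite fibres; closed nowhere dense subsets of curves (helper1)
-/

set_option autoImplicit false
universe u
open CategoryTheory CategoryTheory.Limits AlgebraicGeometry TopologicalSpace Opposite

namespace Groth.Agent.Helper1.FinCurve

/-- points outside a dense open of a Noetherian scheme of dimension `≤ 1` are closed -/
theorem isClosed_singleton_of_notMem_dense {X : Scheme.{u}} [IsNoetherian X]
    (hdim : topologicalKrullDim X ≤ 1) (U : Set X) (hUo : IsOpen U) (hU : Dense U) (z : X)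
    (hz : z ∉ U) : IsClosed ({z} : Set X) := by
  have hfin : (irreducibleComponents X).Finite := NoetherianSpace.finite_irreducibleComponents
  have hC := irreducibleComponent_mem_irreducibleComponents z
  obtain ⟨η, hη⟩ := QuasiSober.sober hC.1 isClosed_irreducibleComponent
  have hcl := closure_sUnion_irreducibleComponents_sdiff_singleton hfin _ hC
  have hO : IsOpen (⋃₀ (irreducibleComponents X \ {irreducibleComponent z}))ᶜ := by
    rw [Set.sUnion_eq_biUnion, isOpen_compl_iff]
    exact hfin.sdiff.isClosed_biUnion fun W hW ↦ isClosed_of_mem_irreducibleComponents W hW.1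
  have hne : ((⋃₀ (irreducibleComponents X \ {irreducibleComponent z}))ᶜ).Nonempty := by
    by_contra hemp
    rw [Set.not_nonempty_iff_eq_empty] at hemp
    rw [hemp, closure_empty] at hcl
    exact (hcl ▸ mem_irreducibleComponent : z ∈ (∅ : Set X))
  obtain ⟨p, hpO, hpU⟩ := hU.inter_open_nonempty _ hO hne
  have hpC : p ∈ irreducibleComponent z := hcl ▸ subset_closure hpO
  have hsp : η ⤳ p := by
    rw [specializes_iff_mem_closure, hη.def]
    exact hpC
  have hηU : η ∈ U := hsp.mem_open hUo hpU
  refine GV1.isClosed_singleton_of_dim_le_one hdim z η _ isClosed_irreducibleComponent hη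
    mem_irreducibleComponent ?_
  rintro rfl
  exact hz hηU

/-- a closed subset with dense complement of a Noetherian scheme of dimension `≤ 1` is finite -/
theorem finite_of_isClosed_of_dense_compl {X : Scheme.{u}} [IsNoetherian X]
    (hdim : topologicalKrullDim X ≤ 1) (T : Set X) (hT : IsClosed T) (hd : Dense Tᶜ) :
    T.Finite :=
  GV1.finite_of_forall_isClosed_singleton T hT fun z hz =>
    isClosed_singleton_of_notMem_dense hdim Tᶜ hT.isOpen_compl hd z (fun h => h hz)

/-- a proper morphism with finite fibres is finite -/
theorem isFinite_of_finite_fibres {X Y : Scheme.{u}} (f : X ⟶ Y) [IsProper f]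
    (h : ∀ y : Y, (f ⁻¹' {y}).Finite) : IsFinite f := by
  haveI : LocallyQuasiFinite f := LocallyQuasiFinite.of_finite_preimage_singleton f h
  exact IsFinite.of_isProper_of_locallyQuasiFinite f

/-- a proper morphism to a scheme, which is an isomorphism over a dense open `U` with dense
preimage, from a Noetherian scheme of dimension `≤ 1`, is finite -/
theorem isFinite_of_isIso_over_dense {X X' : Scheme.{u}} [IsNoetherian X']
    (hdim' : topologicalKrullDim X' ≤ 1) (f : X' ⟶ X) [IsProper f] (U : X.Opens)
    (hU' : Dense ((f ⁻¹ᵁ U : X'.Opens) : Set X')) (hfU : IsIso (f ∣_ U))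
    (hcl : ∀ x : X, x ∉ U → IsClosed ({x} : Set X)) : IsFinite f := by
  refine isFinite_of_finite_fibres f fun x => ?_
  by_cases hx : x ∈ U
  · -- the fibre is a singleton
    have hinj : Function.Injective (f ∣_ U) :=
      ((TopCat.homeoOfIso (asIso (f ∣_ U).base)).injective)
    refine Set.Subsingleton.finite ?_
    intro a ha b hb
    have ha' : f a = x := ha
    have hb' : f b = x := hb
    have haU : a ∈ f ⁻¹ᵁ U := by change f a ∈ U; rw [ha']; exact hx
    have hbU : b ∈ f ⁻¹ᵁ U := by change f b ∈ U; rw [hb']; exact hx
    have h1 : (f ∣_ U) ⟨a, haU⟩ = (f ∣_ U) ⟨b, hbU⟩ := by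
      apply Subtype.ext
      rw [morphismRestrict_base_coe f U ⟨a, haU⟩, morphismRestrict_base_coe f U ⟨b, hbU⟩]
      exact ha'.trans hb'.symm
    exact congrArg Subtype.val (hinj h1)
  · have hT : IsClosed (f ⁻¹' {x}) := (hcl x hx).preimage f.continuous
    refine finite_of_isClosed_of_dense_compl hdim' _ hT ?_
    refine hU'.mono ?_
    intro a ha hax
    have : f a = x := hax
    exact hx (this ▸ ha)

end Groth.Agent.Helper1.FinCurve
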