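import Mathlib
import Groth.Agent.Lib.Helper4.DimFT1
import Groth.Agent.Lib.Helper1.FinCurve1

/-!
# Points outside a dense open of dimension `≤ 1` of a scheme of finite type over a field are closed
(helper1)
-/

set_option autoImplicit false
universe u
open CategoryTheory CategoryTheory.Limits AlgebraicGeometry TopologicalSpace Opposite

namespace Groth.Agent.Helper1.FinCurve

open Groth.Agent.Lib.Helper4.DimFT1

/-- generic points of irreducible components lie in every dense open -/
theorem mem_of_dense_of_isGenericPoint {T : Type*} [TopologicalSpace T] [NoetherianSpace T]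
    (W : Set T) (hWo : IsOpen W) (hWd : Dense W) (z η : T)
    (hη : IsGenericPoint η (irreducibleComponent z)) : η ∈ W := by
  have hfin : (irreducibleComponents T).Finite := NoetherianSpace.finite_irreducibleComponents
  have hC := irreducibleComponent_mem_irreducibleComponents z
  have hcl := closure_sUnion_irreducibleComponents_sdiff_singleton hfin _ hC
  have hO : IsOpen (⋃₀ (irreducibleComponents T \ {irreducibleComponent z}))ᶜ := by
    rw [Set.sUnion_eq_biUnion, isOpen_compl_iff]
    exact hfin.sdiff.isClosed_biUnion fun W hW ↦ isClosed_of_mem_irreducibleComponents W hW.1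
  have hne : ((⋃₀ (irreducibleComponents T \ {irreducibleComponent z}))ᶜ).Nonempty := by
    by_contra hemp
    rw [Set.not_nonempty_iff_eq_empty] at hemp
    rw [hemp, closure_empty] at hcl
    exact (hcl ▸ mem_irreducibleComponent : z ∈ (∅ : Set T))
  obtain ⟨p, hpO, hpU⟩ := hWd.inter_open_nonempty _ hO hne
  have hpC : p ∈ irreducibleComponent z := hcl ▸ subset_closure hpO
  have hsp : η ⤳ p := by
    rw [specializes_iff_mem_closure, hη.def]
    exact hpC
  exact hsp.mem_open hWo hpU

/-- inverting a nonzero element of a domain of finite type over a field does not change the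
dimension -/
theorem ringKrullDim_away_eq (k B : Type u) [Field k] [CommRing B] [IsDomain B] [Algebra k B]
    [Algebra.FiniteType k B] (g : B) (hg : g ≠ 0) :
    ringKrullDim (Localization.Away g) = ringKrullDim B := by
  have hle : Submonoid.powers g ≤ nonZeroDivisors B :=
    powers_le_nonZeroDivisors_of_noZeroDivisors hg
  haveI : IsDomain (Localization.Away g) := IsLocalization.isDomain_localization hle
  haveI : Algebra.FiniteType B (Localization.Away g) := IsLocalization.finiteType_of_monoid_fg
    (Submonoid.powers g) _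
  haveI : Algebra.FiniteType k (Localization.Away g) :=
    Algebra.FiniteType.trans (inferInstance : Algebra.FiniteType k B) inferInstance
  obtain ⟨n, hn1, hn2⟩ := exists_dim_eq_trdeg k B
  obtain ⟨m, hm1, hm2⟩ := exists_dim_eq_trdeg k (Localization.Away g)
  have htr : Algebra.trdeg k (Localization.Away g) = Algebra.trdeg k B := by
    haveI : FaithfulSMul k B := inferInstance
    haveI : FaithfulSMul B (Localization.Away g) :=
      (faithfulSMul_iff_algebraMap_injective _ _).mpr (IsLocalization.injective _ hle)
    haveI : Algebra.IsAlgebraic B (Localization.Away g) :=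
      IsLocalization.isAlgebraic _ (Submonoid.powers g)
    have h := trdeg_add_eq k B (A := Localization.Away g)
    rw [trdeg_eq_zero (R := B) (A := Localization.Away g), add_zero] at h
    exact h.symm
  rw [hn1, hm1] at htr
  have : m = n := by exact_mod_cast htr
  rw [hn2, hm2, this]

/-- in the spectrum of an algebra of finite type over a field, points outside a dense open of
dimension `≤ 1` are closed -/
theorem isMaximal_of_notMem_dense_open (k A : Type u) [Field k] [CommRing A] [Algebra k A]
    [Algebra.FiniteType k A] (W : Set (PrimeSpectrum A)) (hWo : IsOpen W) (hWd : Dense W)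
    (hdim : topologicalKrullDim ↥W ≤ 1) (p : PrimeSpectrum A) (hp : p ∉ W) :
    p.asIdeal.IsMaximal := by
  haveI : IsNoetherianRing A := Algebra.FiniteType.isNoetherianRing k A
  obtain ⟨η, hη⟩ := QuasiSober.sober (irreducibleComponent_mem_irreducibleComponents p).1
    isClosed_irreducibleComponent
  have hηW : η ∈ W := mem_of_dense_of_isGenericPoint W hWo hWd p η hη
  have hηp : η ⤳ p := by
    rw [specializes_iff_mem_closure, hη.def]
    exact mem_irreducibleComponent
  have hle : η.asIdeal ≤ p.asIdeal := (PrimeSpectrum.le_iff_specializes η p).2 hηp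
  have hne : η ≠ p := fun h => hp (h ▸ hηW)
  -- the quotient domain
  let P : Ideal A := η.asIdeal
  haveI : P.IsPrime := η.isPrime
  let B := A ⧸ P
  let π : A →+* B := Ideal.Quotient.mk P
  have hπ : Function.Surjective π := Ideal.Quotient.mk_surjective
  haveI : Algebra.FiniteType k B :=
    Algebra.FiniteType.of_surjective (Ideal.Quotient.mkₐ k P) (Ideal.Quotient.mkₐ_surjective k P)
  let c : PrimeSpectrum B → PrimeSpectrum A := PrimeSpectrum.comap π
  have hc : Topology.IsClosedEmbedding c := PrimeSpectrum.isClosedEmbedding_comap_of_surjective _ π hπ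
  let b0 : PrimeSpectrum B := ⟨⊥, Ideal.isPrime_bot⟩
  have hcb0 : c b0 = η := by
    apply PrimeSpectrum.ext
    change Ideal.comap π ⊥ = η.asIdeal
    rw [← RingHom.ker_eq_comap_bot, Ideal.mk_ker]
  have hb0 : b0 ∈ c ⁻¹' W := by
    change c b0 ∈ W
    rw [hcb0]; exact hηW
  obtain ⟨_, ⟨g, rfl⟩, hg1, hg2⟩ := PrimeSpectrum.isTopologicalBasis_basic_opens.exists_subset_of_mem_open
    hb0 (hWo.preimage hc.continuous)
  have hg0 : g ≠ 0 := by
    intro h0
    apply hg1
    change g ∈ (⊥ : Ideal B)
    rw [h0]; exact Ideal.zero_mem _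
  -- the localisation
  let j : PrimeSpectrum (Localization.Away g) → PrimeSpectrum B :=
    PrimeSpectrum.comap (algebraMap B (Localization.Away g))
  have hj : Topology.IsOpenEmbedding j := PrimeSpectrum.localization_away_isOpenEmbedding _ g
  have hjr : Set.range j = PrimeSpectrum.basicOpen g :=
    PrimeSpectrum.localization_away_comap_range _ g
  have hmem : ∀ q, c (j q) ∈ W := by
    intro q
    have : j q ∈ (PrimeSpectrum.basicOpen g : Set (PrimeSpectrum B)) := by
      rw [← hjr]; exact ⟨q, rfl⟩
    exact hg2 this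
  have hind : Topology.IsInducing (Set.codRestrict (c ∘ j) W hmem) :=
    (hc.isInducing.comp hj.isInducing).codRestrict hmem
  have h1 : ringKrullDim (Localization.Away g) ≤ 1 := by
    rw [← PrimeSpectrum.topologicalKrullDim_eq_ringKrullDim]
    exact hind.topologicalKrullDim_le.trans hdim
  rw [ringKrullDim_away_eq k B g hg0] at h1
  haveI : Ring.KrullDimLE 1 B := (Ring.krullDimLE_iff).2 h1
  -- the image of `p` in `B`
  have hker : RingHom.ker π ≤ p.asIdeal := by rw [Ideal.mk_ker]; exact hle
  haveI hp' : (p.asIdeal.map π).IsPrime := Ideal.map_isPrime_of_surjective hπ hker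
  have hcm : (p.asIdeal.map π).comap π = p.asIdeal := by
    rw [Ideal.comap_map_of_surjective _ hπ, ← RingHom.ker_eq_comap_bot, sup_eq_left.mpr hker]
  have hne' : p.asIdeal.map π ≠ ⊥ := by
    intro h0
    apply hne
    apply PrimeSpectrum.ext
    have : p.asIdeal = η.asIdeal := by
      rw [← hcm, h0, ← RingHom.ker_eq_comap_bot, Ideal.mk_ker]
    exact this.symm
  haveI : (p.asIdeal.map π).IsMaximal := hp'.isMaximal_of_ne_bot hne'
  rw [← hcm]
  exact Ideal.comap_isMaximal_of_surjective π hπ

end Groth.Agent.Helper1.FinCurve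

namespace Groth.Agent.Helper1.FinCurve

/-- in a scheme locally of finite type over a field, points outside a dense open of dimension
`≤ 1` are closed -/
theorem isClosed_singleton_of_notMem_dense_of_finiteType (k : Type u) [Field k] {X : Scheme.{u}}
    (q : X ⟶ Spec (CommRingCat.of k)) [LocallyOfFiniteType q] (W : X.Opens)
    (hWd : Dense (W : Set X)) (hdim : topologicalKrullDim ↥(W : Set X) ≤ 1) (z : X)
    (hz : z ∉ W) : IsClosed ({z} : Set X) := by
  rw [(IsOpenCover.mk (iSup_affineOpens_eq_top X)).isClosed_iff_coe_preimage]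
  intro V
  by_cases hzV : z ∈ (V : X.Opens)
  · have hV : IsAffineOpen (V : X.Opens) := V.2
    let φ : k →+* Γ(X, (V : X.Opens)) :=
      (q.appLE ⊤ V le_top).hom.comp (Scheme.ΓSpecIso (CommRingCat.of k)).inv.hom
    letI : Algebra k Γ(X, (V : X.Opens)) := φ.toAlgebra
    haveI : Algebra.FiniteType k Γ(X, (V : X.Opens)) := by
      have h1 : (q.appLE ⊤ V le_top).hom.FiniteType :=
        LocallyOfFiniteType.finiteType_appLE q (isAffineOpen_top _) hV le_top
      have h2 : ((Scheme.ΓSpecIso (CommRingCat.of k)).inv.hom).FiniteType :=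
        RingHom.FiniteType.of_surjective _
          ((ConcreteCategory.bijective_of_isIso (Scheme.ΓSpecIso (CommRingCat.of k)).inv).2)
      exact h1.comp h2
    let h : ↥(V : X.Opens) ≃ₜ PrimeSpectrum Γ(X, (V : X.Opens)) := (hV.isoSpec.hom).homeomorph
    let W' : Set (PrimeSpectrum Γ(X, (V : X.Opens))) :=
      h '' ((Subtype.val : ↥(V : X.Opens) → X) ⁻¹' (W : Set X))
    have hW'o : IsOpen W' := h.isOpenMap _ (W.isOpen.preimage continuous_subtype_val)
    have hW'd : Dense W' :=
      h.surjective.denseRange.dense_image h.continuous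
        (hWd.preimage (V : X.Opens).isOpen.isOpenMap_subtype_val)
    have hmem : ∀ x : W', ((h.symm x.1 : ↥(V : X.Opens)) : X) ∈ (W : Set X) := by
      rintro ⟨_, y, hy, rfl⟩
      rw [h.symm_apply_apply]
      exact hy
    have hind : Topology.IsInducing (fun x : W' => (⟨((h.symm x.1 : ↥(V : X.Opens)) : X), hmem x⟩ :
        ↥(W : Set X))) := by
      have h1 : Topology.IsInducing (fun x : W' => ((h.symm x.1 : ↥(V : X.Opens)) : X)) :=
        (Topology.IsInducing.subtypeVal.comp h.symm.isInducing).comp Topology.IsInducing.subtypeVal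
      exact h1.codRestrict hmem
    have hdim' : topologicalKrullDim ↥W' ≤ 1 := hind.topologicalKrullDim_le.trans hdim
    have hp : h ⟨z, hzV⟩ ∉ W' := by
      rintro ⟨y, hy, hyz⟩
      have : y = ⟨z, hzV⟩ := h.injective hyz
      subst this
      exact hz hy
    have hmax := isMaximal_of_notMem_dense_open k Γ(X, (V : X.Opens)) W' hW'o hW'd hdim'
      (h ⟨z, hzV⟩) hp
    have hcl : IsClosed ({h ⟨z, hzV⟩} : Set (PrimeSpectrum Γ(X, (V : X.Opens)))) :=
      (PrimeSpectrum.isClosed_singleton_iff_isMaximal _).2 hmax
    have heq : ((Subtype.val : ↥(V : X.Opens) → X) ⁻¹' {z}) = h ⁻¹' {h ⟨z, hzV⟩} := by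
      ext y
      simp only [Set.mem_preimage, Set.mem_singleton_iff]
      constructor
      · intro hy
        have : y = ⟨z, hzV⟩ := Subtype.ext hy
        rw [this]
      · intro hy
        have : y = ⟨z, hzV⟩ := h.injective hy
        rw [this]
    rw [heq]
    exact hcl.preimage h.continuous
  · have : ((Subtype.val : ↥(V : X.Opens) → X) ⁻¹' {z}) = ∅ := by
      ext y
      simp only [Set.mem_preimage, Set.mem_singleton_iff, Set.mem_empty_iff_false, iff_false]
      intro hy
      exact hzV (hy ▸ y.2)
    rw [this]
    exact isClosed_empty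

/-- a proper morphism `f : X' ⟶ X` of schemes of finite type over a field, which is an isomorphism
over a dense open `U` of `X` of dimension `≤ 1` with dense preimage, is finite -/
theorem isFinite_of_isIso_over_dense_of_finiteType (k : Type u) [Field k] {X X' : Scheme.{u}}
    (q : X ⟶ Spec (CommRingCat.of k)) [LocallyOfFiniteType q] [QuasiCompact q]
    (hdim : topologicalKrullDim X ≤ 1) (f : X' ⟶ X) [IsProper f] (U : X.Opens)
    (hU : Dense (U : Set X)) (hU' : Dense ((f ⁻¹ᵁ U : X'.Opens) : Set X'))
    (hfU : IsIso (f ∣_ U)) : IsFinite f := by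
  haveI : IsLocallyNoetherian X := LocallyOfFiniteType.isLocallyNoetherian q
  haveI : CompactSpace X := QuasiCompact.compactSpace_of_compactSpace q
  haveI : IsNoetherian X := { }
  haveI : LocallyOfFiniteType (f ≫ q) := inferInstance
  haveI : IsLocallyNoetherian X' := LocallyOfFiniteType.isLocallyNoetherian (f ≫ q)
  haveI : CompactSpace X' := QuasiCompact.compactSpace_of_compactSpace (f ≫ q)
  haveI : IsNoetherian X' := { }
  -- dimension of the preimage of `U`
  have hdimU : topologicalKrullDim ↥((f ⁻¹ᵁ U : X'.Opens) : Set X') ≤ 1 := by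
    have h1 : topologicalKrullDim ↥((f ⁻¹ᵁ U : X'.Opens) : Set X') =
        topologicalKrullDim ↥(U : Set X) :=
      ((f ∣_ U).homeomorph).isHomeomorph.topologicalKrullDim_eq
    rw [h1]
    exact (topologicalKrullDim_subspace_le X (U : Set X)).trans hdim
  have hcl' : ∀ z : X', z ∉ (f ⁻¹ᵁ U : X'.Opens) → IsClosed ({z} : Set X') := fun z hz =>
    isClosed_singleton_of_notMem_dense_of_finiteType k (f ≫ q) (f ⁻¹ᵁ U) hU' hdimU z hz
  refine isFinite_of_finite_fibres f fun x => ?_
  by_cases hx : x ∈ U
  · have hinj : Function.Injective (f ∣_ U) := (f ∣_ U).homeomorph.injective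
    refine Set.Subsingleton.finite ?_
    intro a ha b hb
    have ha' : f a = x := ha
    have hb' : f b = x := hb
    have haU : a ∈ f ⁻¹ᵁ U := by change f a ∈ U; rw [ha']; exact hx
    have hbU : b ∈ f ⁻¹ᵁ U := by change f b ∈ U; rw [hb']; exact hx
    have h1 : (f ∣_ U) ⟨a, haU⟩ = (f ∣_ U) ⟨b, hbU⟩ := by
      apply Subtype.ext
      rw [morphismRestrict_base_coe f U ⟨a, haU⟩, morphismRestrict_base_coe f U ⟨b, hbU⟩]
      exact ha'.trans hb'.symm
    exact congrArg Subtype.val (hinj h1)
  · have hxcl : IsClosed ({x} : Set X) :=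
      isClosed_singleton_of_notMem_dense hdim U U.isOpen hU x hx
    have hT : IsClosed (f ⁻¹' {x}) := hxcl.preimage f.continuous
    refine GV1.finite_of_forall_isClosed_singleton _ hT fun z hz => hcl' z ?_
    intro hzU
    have : f z = x := hz
    exact hx (this ▸ hzU)

end Groth.Agent.Helper1.FinCurve
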