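import Mathlib
import Groth.Agent.Lib.Helper1.Curve3
import Groth.Agent.Lib.Helper1.FinCurve2
import Groth.Agent.Lib.Helper1.SubExt8
import Groth.Agent.Lib.Helper1.HH0
import Groth.Agent.Lib.Helper4.HHFin3

/-!
# Proper birational morphisms of curves with equal genus are isomorphisms (helper1)
-/

set_option autoImplicit false
universe u
open CategoryTheory CategoryTheory.Limits AlgebraicGeometry TopologicalSpace Opposite

namespace Groth.Agent.Helper1.Curve

open Groth.Agent.Lib.Helper4 Groth.Agent.Helper1.Dv Groth.Agent.Helper1.FinLen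
  Groth.Agent.Helper1.Euler

section Unit2

variable {X Y : Scheme.{u}} (f : Y ⟶ X)

theorem app_injective_of_isIso_restrict (U : X.Opens) [IsIso (f ∣_ U)]
    (V' : (U : Scheme.{u}).Opens) : Function.Injective (f.app (U.ι ''ᵁ V')) := by
  have h1 : Function.Bijective ((f ∣_ U).app V') :=
    (ConcreteCategory.isIso_iff_bijective _).1 inferInstance
  rw [morphismRestrict_app] at h1
  intro a b hab
  apply h1.1
  change (Y.presheaf.map (eqToHom (image_morphismRestrict_preimage f U V')).op)
    (f.app (U.ι ''ᵁ V') a) = (Y.presheaf.map (eqToHom (image_morphismRestrict_preimage f U V')).op)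
    (f.app (U.ι ''ᵁ V') b)
  rw [hab]

theorem app_eq_zero_imp [IsReduced X] (U : X.Opens) (hU : Dense (U : Set X)) [IsIso (f ∣_ U)]
    (V : X.Opens) (r : Γ(X, V)) (hr : f.app V r = 0) : r = 0 := by
  by_contra hne
  have hb : X.basicOpen r ≠ ⊥ := fun h => hne ((basicOpen_eq_bot_iff r).1 h)
  obtain ⟨x, hx⟩ := (Opens.ne_bot_iff_nonempty _).1 hb
  obtain ⟨y, hy1, hy2⟩ := hU.inter_open_nonempty _ (X.basicOpen r).isOpen ⟨x, hx⟩
  let V' : (U : Scheme.{u}).Opens := U.ι ⁻¹ᵁ (X.basicOpen r)
  have hWV : U.ι ''ᵁ V' ≤ V := by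
    rintro _ ⟨z, hz, rfl⟩
    exact X.basicOpen_le r hz
  have hyW : y ∈ U.ι ''ᵁ V' := ⟨⟨y, hy2⟩, hy1, rfl⟩
  have h0 : f.app (U.ι ''ᵁ V') (X.presheaf.map (homOfLE hWV).op r) = 0 := by
    have h := congrArg (fun φ => (ConcreteCategory.hom φ) r) (f.naturality (homOfLE hWV).op)
    change f.app (U.ι ''ᵁ V') (X.presheaf.map (homOfLE hWV).op r) =
      (Y.presheaf.map ((Opens.map f.base).op.map (homOfLE hWV).op)) (f.app V r) at h
    rw [h, hr, map_zero]
  have hr' : X.presheaf.map (homOfLE hWV).op r = 0 :=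
    app_injective_of_isIso_restrict f U V' (h0.trans (map_zero _).symm)
  have hunit : IsUnit (X.presheaf.germ V y (hWV hyW) r) :=
    (X.mem_basicOpen r y (hWV hyW)).1 hy1
  have hg : X.presheaf.germ V y (hWV hyW) r =
      X.presheaf.germ (U.ι ''ᵁ V') y hyW (X.presheaf.map (homOfLE hWV).op r) :=
    (TopCat.Presheaf.germ_res_apply X.presheaf (homOfLE hWV) y hyW r).symm
  rw [hg, hr', map_zero] at hunit
  exact not_isUnit_zero hunit

theorem mono_unitMap [IsReduced X] (U : X.Opens) (hU : Dense (U : Set X)) [IsIso (f ∣_ U)] :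
    Mono (unitMap f) := by
  apply Groth.Agent.Helper1.SubSh.mono_of_app_injective
  intro V a b hab
  have h1 : (unitMap f).app V (a - b) = 0 := by
    rw [map_sub, hab, sub_self]
  have h2 : f.app V (show Γ(X, V) from a - b) = 0 := (unitMap_app f V _).symm.trans h1
  have h3 := app_eq_zero_imp f U hU V _ h2
  exact sub_eq_zero.1 h3

/-- an affine morphism which is bijective on sections over all opens is an isomorphism -/
theorem isIso_of_app_bijective [IsAffineHom f] (h : ∀ V : X.Opens, Function.Bijective (f.app V)) :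
    IsIso f := by
  rw [← MorphismProperty.isomorphisms.iff,
    HasAffineProperty.iff_of_iSup_eq_top (P := MorphismProperty.isomorphisms Scheme)
      (fun i : X.affineOpens => i) (iSup_affineOpens_eq_top X)]
  intro V
  refine ⟨IsAffineHom.isAffine_preimage _ V.2, ?_⟩
  rw [morphismRestrict_appTop]
  have h1 : IsIso (f.app ((V : X.Opens).ι ''ᵁ ⊤)) :=
    (ConcreteCategory.isIso_iff_bijective _).2 (h _)
  have h2 : IsIso (Y.presheaf.map
      (eqToHom (image_morphismRestrict_preimage f (V : X.Opens) ⊤)).op) := inferInstance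
  exact @IsIso.comp_isIso _ _ _ _ _ _ _ h1 h2

end Unit2

section Genus2

variable (k : Type u) [Field k] (X Y : Scheme.{u}) [X.Over (Spec (CommRingCat.of k))]
  [Y.Over (Spec (CommRingCat.of k))] [IsProper (X ↘ (Spec (CommRingCat.of k)))]

/-- S1603 -/
theorem isIso_of_proper_birational_genus_eq [IsReduced X] (hdim : topologicalKrullDim X ≤ 1)
    (f : Y ⟶ X) [IsProper f]
    (hf : f ≫ (X ↘ (Spec (CommRingCat.of k))) = Y ↘ (Spec (CommRingCat.of k)))
    (U : X.Opens) (hU : Dense (U : Set X)) (hU' : Dense ((f ⁻¹ᵁ U : Y.Opens) : Set Y))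
    (hfU : IsIso (f ∣_ U)) (h0 : Function.Surjective (f.app ⊤).hom)
    (h1 : Curv2.genus k Y = Curv2.genus k X) : IsIso f := by
  haveI : IsFinite f :=
    FinCurve.isFinite_of_isIso_over_dense_of_finiteType k (X ↘ (Spec (CommRingCat.of k))) hdim
      f U hU hU' hfU
  haveI := hfU
  haveI := isNoetherian_of_proper k X
  haveI := isSeparated_of_proper k X
  have hOX : Coh.IsCoh (Coh.structureModule X) :=
    InvQc.isCoh_of_isInvertible _ (GenLoc.isInvertible_O (X := X))
  have hOY : Coh.IsCoh (Coh.structureModule Y) :=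
    InvQc.isCoh_of_isInvertible _ (GenLoc.isInvertible_O (X := Y))
  have hA : Coh.IsCoh (pushO f) := FinPush.isCoh_pushforward f _ hOY
  have hQc : Coh.IsCoh (cokernel (unitMap f)) := FtLocal.isCoh_cokernel hOX hA (unitMap f)
  have hQd : topologicalKrullDim ↥(CohB1.support (cokernel (unitMap f))) ≤ 0 :=
    ((Topology.IsEmbedding.inclusion (support_cokernel_subset f U)).isInducing.topologicalKrullDim_le).trans
      (dim_compl_le_zero hdim U hU)
  have hQ1 : Subsingleton (Coh.HH X (cokernel (unitMap f)) 1) :=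
    subsingleton_HH_of_dim_le_zero _ hQc hQd 1 Nat.one_pos
  haveI : Mono (unitMap f) := mono_unitMap f U hU
  -- the short exact sequence
  let S : ShortComplex X.Modules := ShortComplex.mk (unitMap f) (cokernel.π (unitMap f))
    (cokernel.condition _)
  have hSex : S.Exact := ShortComplex.exact_of_g_is_cokernel _ (cokernelIsCokernel (unitMap f))
  haveI : Mono S.f := inferInstanceAs (Mono (unitMap f))
  haveI : Epi S.g := inferInstanceAs (Epi (cokernel.π (unitMap f)))
  have hS : S.ShortExact := { exact := hSex }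
  -- surjectivity on `H⁰`
  have sa₀ : Function.Surjective (Canon.HHlin k S.f 0) := by
    intro y
    obtain ⟨r, hr⟩ := h0 (HH0.equiv X (pushO f) y)
    refine ⟨(HH0.equiv X (Coh.structureModule X)).symm r, ?_⟩
    apply (HH0.equiv X (pushO f)).injective
    have hn := Sheaf.H.equiv₀_naturality (Limits.isTerminalTop (α := Opens X))
      ((SheafOfModules.toSheaf X.ringCatSheaf).map (unitMap f))
      ((HH0.equiv X (Coh.structureModule X)).symm r)
    change (unitMap f).app ⊤ (HH0.equiv X (Coh.structureModule X)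
      ((HH0.equiv X (Coh.structureModule X)).symm r)) = HH0.equiv X (pushO f) _ at hn
    rw [AddEquiv.apply_symm_apply] at hn
    rw [← hr]
    exact hn.symm.trans (unitMap_app f ⊤ r)
  -- `δ` is injective
  have hδinj : Function.Injective (HHFin2.deltaLin k hS 0) := by
    rw [← LinearMap.ker_eq_bot, LinearMap.ker_eq_bot']
    intro x hx
    obtain ⟨y, rfl⟩ := HHFin2.exact_g_delta k hS 0 x hx
    obtain ⟨z, rfl⟩ := sa₀ y
    exact HHFin2.g_f k 0 z
  -- `a₁` is surjective, hence injective
  haveI : FiniteDimensional k (Coh.HH X S.X₁ 1) := T2Main1.t2 k X _ hOX 1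
  haveI : FiniteDimensional k (Coh.HH X S.X₂ 1) := T2Main1.t2 k X _ hA 1
  have sa₁ : Function.Surjective (Canon.HHlin k S.f 1) := by
    intro y
    exact HHFin2.exact_f_g k hS 1 y (Subsingleton.elim (h := hQ1) _ _)
  have e₃ := (LinBridge1.lerayEquiv f (Coh.structureModule Y) k hf 1).finrank_eq
  have hfr : Module.finrank k (Coh.HH X S.X₁ 1) = Module.finrank k (Coh.HH X S.X₂ 1) := by
    unfold Curv2.genus at h1
    exact h1.symm.trans e₃.symm
  have ia₁ : Function.Injective (Canon.HHlin k S.f 1) :=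
    (LinearMap.injective_iff_surjective_of_finrank_eq_finrank hfr).2 sa₁
  -- `H⁰` of the cokernel vanishes
  have hQ0 : Subsingleton (Coh.HH X (cokernel (unitMap f)) 0) := by
    refine subsingleton_of_forall_eq 0 fun x => ?_
    apply hδinj
    apply ia₁
    rw [map_zero, map_zero]
    exact HHFin3.f_delta k hS 0 x
  have hQz : IsZero (cokernel (unitMap f)) := isZero_of_subsingleton_HH0 k X _ hQc hQd hQ0
  haveI : Epi (unitMap f) := Preadditive.epi_of_isZero_cokernel _ hQz
  haveI : IsIso (unitMap f) := isIso_of_mono_of_epi _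
  apply isIso_of_app_bijective f
  intro V
  have hb : Function.Bijective ((unitMap f).app V) := by
    have : IsIso ((unitMap f).app V) := inferInstance
    exact (ConcreteCategory.isIso_iff_bijective _).1 this
  refine ⟨fun a b hab => hb.1 ?_, fun c => ?_⟩
  · exact (unitMap_app f V a).trans (hab.trans (unitMap_app f V b).symm)
  · obtain ⟨a, ha⟩ := hb.2 c
    exact ⟨a, (unitMap_app f V a).symm.trans ha⟩

end Genus2

end Groth.Agent.Helper1.Curve
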