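import Mathlib
import Groth.Agent.Lib.Helper1.TensLib
import Groth.Agent.Lib.Helper1.TensGen

/-!
# Local bases of modules and tensor products (helper1)
-/

set_option autoImplicit false
universe u
open CategoryTheory CategoryTheory.Limits AlgebraicGeometry TopologicalSpace Opposite TensorProduct
  MonoidalCategory

namespace Groth.Agent.Helper1.PFrame

open Groth.Agent.Helper1.QcCech Groth.Agent.Helper1.SubSh Groth.Agent.Helper1.LGen
open Groth.Agent.Helper1.TmulLib Groth.Agent.Helper1 Groth.Agent.Helper1.TwistSec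
open Groth.Agent.Helper1.TensLib Groth.Agent.Helper1.TensGen

section Alg

variable {R : Type*} [CommRing R]

/-- tensoring with a module with a finite basis -/
theorem bijective_sum_tmul_of_basis {A B : Type*} [AddCommGroup A] [Module R A]
    [AddCommGroup B] [Module R B] {n : ℕ} (b : Fin n → B)
    (hb : Function.Bijective (fun r : Fin n → R => ∑ i, r i • b i)) :
    Function.Bijective (fun a : Fin n → A => ∑ i, a i ⊗ₜ[R] b i) := by
  classical
  let e : (Fin n → R) ≃ₗ[R] B := LinearEquiv.ofBijective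
    { toFun := fun r => ∑ i, r i • b i
      map_add' := fun r s => by
        simp only [Pi.add_apply, add_smul, Finset.sum_add_distrib]
      map_smul' := fun c r => by
        simp only [Pi.smul_apply, smul_eq_mul, mul_smul, RingHom.id_apply, Finset.smul_sum] } hb
  have he : ∀ i, e (Pi.single i 1) = b i := by
    intro i
    change ∑ j, (Pi.single i (1 : R) : Fin n → R) j • b j = b i
    rw [Finset.sum_eq_single i]
    · rw [Pi.single_eq_same, one_smul]
    · intro j _ hji
      rw [Pi.single_eq_of_ne hji, zero_smul]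
    · intro h; exact absurd (Finset.mem_univ i) h
  -- coordinate functionals
  let c : Fin n → (B →ₗ[R] R) := fun j => (LinearMap.proj j).comp e.symm.toLinearMap
  have hc : ∀ i j, c j (b i) = if i = j then 1 else 0 := by
    intro i j
    change (e.symm (b i)) j = _
    rw [← he i, e.symm_apply_apply]
    by_cases hij : i = j
    · subst hij; rw [Pi.single_eq_same, if_pos rfl]
    · rw [Pi.single_eq_of_ne (Ne.symm hij), if_neg hij]
  let T : Fin n → (A ⊗[R] B →ₗ[R] A) := fun j =>
    (TensorProduct.rid R A).toLinearMap.comp (LinearMap.lTensor A (c j))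
  have hT : ∀ (j : Fin n) (a : Fin n → A), T j (∑ i, a i ⊗ₜ[R] b i) = a j := by
    intro j a
    rw [map_sum, Finset.sum_eq_single j]
    · change (TensorProduct.rid R A) (a j ⊗ₜ[R] c j (b j)) = a j
      rw [hc, if_pos rfl, TensorProduct.rid_tmul, one_smul]
    · intro i _ hij
      change (TensorProduct.rid R A) (a i ⊗ₜ[R] c j (b i)) = 0
      rw [hc, if_neg hij, TensorProduct.tmul_zero, map_zero]
    · intro h; exact absurd (Finset.mem_univ j) h
  constructor
  · intro a a' h
    funext j
    have := congrArg (T j) h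
    simpa only [hT] using this
  · intro t
    induction t using TensorProduct.induction_on with
    | zero => exact ⟨0, by simp⟩
    | tmul x y =>
      obtain ⟨r, rfl⟩ := hb.2 y
      refine ⟨fun i => r i • x, ?_⟩
      change ∑ i, (r i • x) ⊗ₜ[R] b i = x ⊗ₜ[R] ∑ i, r i • b i
      rw [TensorProduct.tmul_sum]
      refine Finset.sum_congr rfl fun i _ => ?_
      rw [TensorProduct.smul_tmul]
    | add s t hs ht =>
      obtain ⟨a, ha⟩ := hs
      obtain ⟨a', ha'⟩ := ht
      refine ⟨a + a', ?_⟩
      change ∑ i, (a i + a' i) ⊗ₜ[R] b i = s + t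
      simp only [TensorProduct.add_tmul, Finset.sum_add_distrib]
      rw [← ha, ← ha']

/-- a bilinear map which is "perfect on a basis" induces a bijection on the tensor product -/
theorem lift_bijective_of_basis {M N L : Type*} [AddCommGroup M] [Module R M]
    [AddCommGroup N] [Module R N] [AddCommGroup L] [Module R L] {n : ℕ}
    (β : M →ₗ[R] N →ₗ[R] L) (σ : Fin n → M)
    (hσ : Function.Bijective (fun r : Fin n → R => ∑ i, r i • σ i))
    (hβ : Function.Bijective (fun ν : Fin n → N => ∑ i, β (σ i) (ν i))) :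
    Function.Bijective (TensorProduct.lift β) := by
  -- swap the factors
  have h1 : Function.Bijective (fun ν : Fin n → N => ∑ i, ν i ⊗ₜ[R] σ i) :=
    bijective_sum_tmul_of_basis σ hσ
  have h2 : Function.Bijective (fun ν : Fin n → N => ∑ i, σ i ⊗ₜ[R] ν i) := by
    have : (fun ν : Fin n → N => ∑ i, σ i ⊗ₜ[R] ν i) =
        (TensorProduct.comm R N M) ∘ (fun ν : Fin n → N => ∑ i, ν i ⊗ₜ[R] σ i) := by
      funext ν
      simp only [Function.comp_apply, map_sum, TensorProduct.comm_tmul]
    rw [this]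
    exact (TensorProduct.comm R N M).bijective.comp h1
  have h3 : (TensorProduct.lift β) ∘ (fun ν : Fin n → N => ∑ i, σ i ⊗ₜ[R] ν i) =
      fun ν : Fin n → N => ∑ i, β (σ i) (ν i) := by
    funext ν
    simp only [Function.comp_apply, map_sum, TensorProduct.lift.tmul]
  refine (Function.Bijective.of_comp_iff (TensorProduct.lift β) h2).1 ?_
  rw [h3]
  exact hβ

end Alg

section Basis

variable {X : Scheme.{u}}

/-- `b` is a basis of `N` on `W` (and on every smaller open) -/
def IsBasisOn {n : ℕ} (N : X.Modules) (W : X.Opens) (b : Fin n → Γ(N, W)) : Prop :=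
  ∀ (V : X.Opens) (h : V ≤ W),
    Function.Bijective (fun r : Fin n → Γ(X, V) => ∑ i, r i • res N h (b i))

theorem IsBasisOn.res {n : ℕ} {N : X.Modules} {W : X.Opens} {b : Fin n → Γ(N, W)}
    (hb : IsBasisOn N W b) {W' : X.Opens} (h : W' ≤ W) :
    IsBasisOn N W' (fun i => QcCech.res N h (b i)) := by
  intro V hV
  have := hb V (hV.trans h)
  simpa only [res_res] using this

theorem IsBasisOn.bijective_self {n : ℕ} {N : X.Modules} {W : X.Opens} {b : Fin n → Γ(N, W)}
    (hb : IsBasisOn N W b) : Function.Bijective (fun r : Fin n → Γ(X, W) => ∑ i, r i • b i) := by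
  have := hb W le_rfl
  simpa only [res_self] using this

variable (M : X.Modules) {N : X.Modules}

theorem bijective_sum_pure {n : ℕ} (W : X.Opens) (b : Fin n → Γ(N, W))
    (hb : Function.Bijective (fun r : Fin n → Γ(X, W) => ∑ i, r i • b i)) :
    Function.Bijective (fun m : Fin n → Γ(M, W) => ∑ i, pure M N W (m i) (b i)) :=
  bijective_sum_tmul_of_basis (R := (X.sheaf.obj ⋙ forget₂ CommRingCat RingCat.{u}).obj (op W))
    (A := (CohB1.toPMod M).obj (op W)) (B := (CohB1.toPMod N).obj (op W)) b hb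

theorem toT_sum_pure {n : ℕ} (W : X.Opens) (m : Fin n → Γ(M, W)) (b : Fin n → Γ(N, W)) :
    toT M N W (∑ i, pure M N W (m i) (b i)) = ∑ i, tm M N W (m i) (b i) := by
  unfold toT
  rw [map_sum]
  rfl

theorem resP_sum_pure {n : ℕ} {W V : X.Opens} (h : V ≤ W) (m : Fin n → Γ(M, W))
    (b : Fin n → Γ(N, W)) :
    resP M N h (∑ i, pure M N W (m i) (b i)) =
      ∑ i, pure M N V (QcCech.res M h (m i)) (QcCech.res N h (b i)) := by
  unfold resP
  rw [map_sum]
  rfl

theorem res_sum_tm {n : ℕ} {W V : X.Opens} (h : V ≤ W) (m : Fin n → Γ(M, W))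
    (b : Fin n → Γ(N, W)) :
    QcCech.res (CohB1.tensorMod M N) h (∑ i, tm M N W (m i) (b i)) =
      ∑ i, tm M N V (QcCech.res M h (m i)) (QcCech.res N h (b i)) := by
  rw [map_sum]
  exact Finset.sum_congr rfl fun i _ => res_tm M N h _ _

theorem injective_sum_tm_of_isBasisOn {n : ℕ} {W : X.Opens} {b : Fin n → Γ(N, W)}
    (hb : IsBasisOn N W b) :
    Function.Injective (fun m : Fin n → Γ(M, W) => ∑ i, tm M N W (m i) (b i)) := by
  intro m m' h
  funext i
  apply eq_of_locally M
  intro x hx
  have h' : toT M N W (∑ i, pure M N W (m i) (b i)) = toT M N W (∑ i, pure M N W (m' i) (b i)) := by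
    rw [toT_sum_pure, toT_sum_pure]
    exact h
  obtain ⟨V, hV, hxV, hp⟩ := toT_locally_injective M N W _ _ h' x hx
  refine ⟨V, hV, hxV, ?_⟩
  rw [resP_sum_pure, resP_sum_pure] at hp
  have := (bijective_sum_pure M V (fun i => QcCech.res N hV (b i))
    (IsBasisOn.bijective_self (hb.res hV))).1 hp
  exact congrFun this i

theorem bijective_sum_tm_of_isBasisOn {n : ℕ} {W : X.Opens} {b : Fin n → Γ(N, W)}
    (hb : IsBasisOn N W b) :
    Function.Bijective (fun m : Fin n → Γ(M, W) => ∑ i, tm M N W (m i) (b i)) := by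
  refine ⟨injective_sum_tm_of_isBasisOn M hb, fun t => ?_⟩
  have h1 : ∀ x : W, ∃ (V : X.Opens) (hV : V ≤ W) (m : Fin n → Γ(M, V)), x.1 ∈ V ∧
      ∑ i, tm M N V (m i) (QcCech.res N hV (b i)) = QcCech.res (CohB1.tensorMod M N) hV t := by
    intro x
    obtain ⟨V, hV, p, hxV, hp⟩ := toT_locally_surjective M N W t x.1 x.2
    obtain ⟨m, hm⟩ := (bijective_sum_pure M V (fun i => QcCech.res N hV (b i))
      (IsBasisOn.bijective_self (hb.res hV))).2 p
    refine ⟨V, hV, m, hxV, ?_⟩
    rw [← hp, ← hm, toT_sum_pure]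
  choose V hV m hxV hm using h1
  have hglue : ∀ i : Fin n, ∃ m₀ : Γ(M, W), ∀ x : W, QcCech.res M (hV x) m₀ = m x i := by
    intro i
    refine glue_of_compatible M V W hV
      (fun x hx => Opens.mem_iSup.2 ⟨⟨x, hx⟩, hxV ⟨x, hx⟩⟩) (fun x => m x i) ?_
    intro x y
    have hxy : V x ⊓ V y ≤ W := inf_le_left.trans (hV x)
    have hinj := injective_sum_tm_of_isBasisOn M (hb.res hxy)
    have key : (fun j => QcCech.res M (inf_le_left : V x ⊓ V y ≤ V x) (m x j)) =
        (fun j => QcCech.res M (inf_le_right : V x ⊓ V y ≤ V y) (m y j)) := by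
      apply hinj
      change ∑ j, tm M N _ (QcCech.res M _ (m x j)) (QcCech.res N hxy (b j)) =
        ∑ j, tm M N _ (QcCech.res M _ (m y j)) (QcCech.res N hxy (b j))
      have e1 : ∀ j, QcCech.res N hxy (b j) =
          QcCech.res N (inf_le_left : V x ⊓ V y ≤ V x) (QcCech.res N (hV x) (b j)) := by
        intro j; rw [res_res]
      have e2 : ∀ j, QcCech.res N hxy (b j) =
          QcCech.res N (inf_le_right : V x ⊓ V y ≤ V y) (QcCech.res N (hV y) (b j)) := by
        intro j; rw [res_res]
      calc ∑ j, tm M N _ (QcCech.res M _ (m x j)) (QcCech.res N hxy (b j))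
          = ∑ j, tm M N _ (QcCech.res M (inf_le_left : V x ⊓ V y ≤ V x) (m x j))
              (QcCech.res N (inf_le_left : V x ⊓ V y ≤ V x) (QcCech.res N (hV x) (b j))) := by
            refine Finset.sum_congr rfl fun j _ => ?_
            rw [← e1 j]
        _ = QcCech.res (CohB1.tensorMod M N) (inf_le_left : V x ⊓ V y ≤ V x)
              (∑ j, tm M N _ (m x j) (QcCech.res N (hV x) (b j))) := (res_sum_tm M _ _ _).symm
        _ = QcCech.res (CohB1.tensorMod M N) (inf_le_right : V x ⊓ V y ≤ V y)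
              (∑ j, tm M N _ (m y j) (QcCech.res N (hV y) (b j))) := by
            rw [hm, hm, res_res, res_res]
        _ = ∑ j, tm M N _ (QcCech.res M (inf_le_right : V x ⊓ V y ≤ V y) (m y j))
              (QcCech.res N (inf_le_right : V x ⊓ V y ≤ V y) (QcCech.res N (hV y) (b j))) :=
            res_sum_tm M _ _ _
        _ = ∑ j, tm M N _ (QcCech.res M _ (m y j)) (QcCech.res N hxy (b j)) := by
            refine Finset.sum_congr rfl fun j _ => ?_
            rw [← e2 j]
    exact congrFun key i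
  choose m₀ hm₀ using hglue
  refine ⟨m₀, ?_⟩
  apply eq_of_locally
  intro x hx
  refine ⟨V ⟨x, hx⟩, hV ⟨x, hx⟩, hxV ⟨x, hx⟩, ?_⟩
  change QcCech.res _ _ (∑ i, tm M N W (m₀ i) (b i)) = _
  rw [res_sum_tm, ← hm ⟨x, hx⟩]
  refine Finset.sum_congr rfl fun i _ => ?_
  rw [hm₀ i ⟨x, hx⟩]

end Basis

section Pairing

variable {X : Scheme.{u}}

theorem Pairing.nonempty_tensorMod_iso_of_basis {M N L : X.Modules} (p : Pairing M N L)
    (good : X.Opens → Prop) (hcov : ∀ x : X, ∃ V, good V ∧ x ∈ V)
    (hle : ∀ V V', good V → V' ≤ V → good V')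
    (hσ : ∀ V, good V → ∃ (n : ℕ) (σ : Fin n → (CohB1.toPMod M).obj (op V)),
      Function.Bijective (fun r : Fin n → (X.sheaf.obj ⋙ forget₂ CommRingCat RingCat.{u}).obj (op V) =>
        ∑ i, r i • σ i) ∧
      Function.Bijective (fun ν : Fin n → (CohB1.toPMod N).obj (op V) =>
        ∑ i, p.β (op V) (σ i) (ν i))) :
    Nonempty (CohB1.tensorMod M N ≅ L) := by
  refine nonempty_sheafify_iso (show X.PresheafOfModules from CohB1.tensorPre M N) L p.μ₀
    good hcov hle ?_
  intro V hV
  obtain ⟨n, σ, hσ1, hσ2⟩ := hσ V hV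
  exact lift_bijective_of_basis (LinearMap.mk₂ _ (p.β (op V)) (p.add_left _) (p.smul_left _)
    (p.add_right _) (p.smul_right _)) σ hσ1 hσ2

end Pairing

end Groth.Agent.Helper1.PFrame
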