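import Mathlib
import Groth.Agent.Lib.Helper1.PFrame1
import Groth.Agent.Lib.Helper1.PullGen
import Groth.Prelude.Def_FlatMod2

/-!
# Frames of locally free modules and their pullbacks (helper1)
-/

set_option autoImplicit false
universe u
open CategoryTheory CategoryTheory.Limits AlgebraicGeometry TopologicalSpace Opposite

namespace Groth.Agent.Helper1.PFrame

open Groth.Agent.Helper1.QcCech Groth.Agent.Helper1.SubSh Groth.Agent.Helper1.LGen
open Groth.Agent.Helper1 Groth.Agent.Helper1.PullSec Groth.Agent.Helper1.TwForm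
open Groth.Agent.Helper1.PullGen

section Unit

variable {X : Scheme.{u}}

/-- morphisms out of the structure sheaf are determined by the image of `1` -/
theorem app_eq_smul {M : X.Modules} (φ : Coh.structureModule X ⟶ M) (V : X.Opens)
    (r : Γ(X, V)) :
    φ.app V (show Γ(Coh.structureModule X, V) from r) =
      r • res M (le_top : V ≤ ⊤)
        (φ.app ⊤ (show Γ(Coh.structureModule X, ⊤) from (1 : Γ(X, ⊤)))) := by
  have h1 : (show Γ(Coh.structureModule X, V) from r) =
      r • (show Γ(Coh.structureModule X, V) from (1 : Γ(X, V))) := by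
    change r = r * 1
    rw [mul_one]
  rw [h1, Scheme.Modules.Hom.app_smul]
  congr 1
  have := QcExt.app_res φ (le_top : V ≤ ⊤)
    (show Γ(Coh.structureModule X, ⊤) from (1 : Γ(X, ⊤)))
  rw [← this]
  congr 1
  exact (map_one (resR (le_top : V ≤ ⊤))).symm

theorem hom_ext_one {M : X.Modules} (φ ψ : Coh.structureModule X ⟶ M)
    (h : φ.app ⊤ (show Γ(Coh.structureModule X, ⊤) from (1 : Γ(X, ⊤))) =
      ψ.app ⊤ (show Γ(Coh.structureModule X, ⊤) from (1 : Γ(X, ⊤)))) : φ = ψ := by
  apply Scheme.Modules.hom_ext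
  intro V
  ext r
  exact (app_eq_smul φ V (show Γ(X, V) from r)).trans
    ((congrArg (fun t => (show Γ(X, V) from r) • res M (le_top : V ≤ ⊤) t) h).trans
    (app_eq_smul ψ V (show Γ(X, V) from r)).symm)

theorem homOfSec_app_one (M : X.Modules) (s : Γ(M, ⊤)) :
    (TwistAmple.homOfSec M s).app ⊤ (show Γ(Coh.structureModule X, ⊤) from (1 : Γ(X, ⊤))) = s := by
  have h := TwistAmple.homOfSec_app M s ⊤ 1
  rw [one_smul] at h
  refine h.trans ?_
  exact res_self M le_rfl s

theorem eq_homOfSec {M : X.Modules} (φ : Coh.structureModule X ⟶ M) :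
    φ = TwistAmple.homOfSec M
      (φ.app ⊤ (show Γ(Coh.structureModule X, ⊤) from (1 : Γ(X, ⊤)))) :=
  hom_ext_one _ _ (homOfSec_app_one M _).symm

end Unit

section Frame

variable {X : Scheme.{u}}

/-- the section of the restriction corresponding to a section on `W` -/
noncomputable abbrev rsec (N : X.Modules) (W : X.Opens) (b : Γ(N, W)) : Γ(N.restrict W.ι, ⊤) :=
  res N (W.ι_image_le ⊤) b

/-- `b` is a frame of `N` over `W`: the associated map `O_W^n ⟶ N|_W` is split by coordinate
morphisms -/
def IsFrame {n : ℕ} (N : X.Modules) (W : X.Opens) (b : Fin n → Γ(N, W)) : Prop :=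
  ∃ γ : Fin n → (N.restrict W.ι ⟶ Coh.structureModule (↑W : Scheme.{u})),
    (∀ i j, TwistAmple.homOfSec (N.restrict W.ι) (rsec N W (b i)) ≫ γ j =
      if i = j then 𝟙 _ else 0) ∧
    ∑ i, γ i ≫ TwistAmple.homOfSec (N.restrict W.ι) (rsec N W (b i)) = 𝟙 _

theorem image_preimage_of_le {W V : X.Opens} (h : V ≤ W) : W.ι ''ᵁ (W.ι ⁻¹ᵁ V) = V := by
  apply le_antisymm
  · rintro _ ⟨y, hy, rfl⟩
    exact hy
  · intro x hx
    exact ⟨⟨x, h hx⟩, hx, rfl⟩

theorem IsFrame.isBasisOn {n : ℕ} {N : X.Modules} {W : X.Opens} {b : Fin n → Γ(N, W)}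
    (hb : IsFrame N W b) : IsBasisOn N W b := by
  classical
  obtain ⟨γ, h1, h2⟩ := hb
  intro V hV
  obtain ⟨V', rfl⟩ : ∃ V' : (↑W : Scheme.{u}).Opens, V = W.ι ''ᵁ V' :=
    ⟨W.ι ⁻¹ᵁ V, (image_preimage_of_le hV).symm⟩
  let φ : Fin n → (Coh.structureModule (↑W : Scheme.{u}) ⟶ N.restrict W.ι) := fun i =>
    TwistAmple.homOfSec (N.restrict W.ι) (rsec N W (b i))
  have hb2 : Function.Bijective ((W.ι.appIso V').hom.hom) :=
    (ConcreteCategory.isIso_iff_bijective (W.ι.appIso V').hom).1 inferInstance
  -- the formula for `φ i` on sections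
  have key : ∀ (i : Fin n) (s : Γ(↑W, V')),
      (φ i).app V' (show Γ(Coh.structureModule (↑W : Scheme.{u}), V') from s) =
      (show Γ(N.restrict W.ι, V') from ((W.ι.appIso V').inv.hom s • res N hV (b i))) := by
    intro i s
    have e1 : (φ i).app V' (show Γ(Coh.structureModule (↑W : Scheme.{u}), V') from s) =
        s • res (N.restrict W.ι) (le_top : V' ≤ ⊤) (rsec N W (b i)) :=
      TwistAmple.homOfSec_app (N.restrict W.ι) (rsec N W (b i)) V' s
    rw [e1, smul_restrict, res_restrict]
    change (show Γ(N.restrict W.ι, V') from ((W.ι.appIso V').inv.hom s •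
      res N _ (res N (W.ι_image_le ⊤) (b i)))) = _
    rw [res_res]
    rfl
  have key' : ∀ (i : Fin n) (r : Γ(X, W.ι ''ᵁ V')),
      (show Γ(N.restrict W.ι, V') from (r • res N hV (b i))) =
      (φ i).app V' (show Γ(Coh.structureModule (↑W : Scheme.{u}), V') from
        (W.ι.appIso V').hom.hom r) := by
    intro i r
    rw [key]
    have : (W.ι.appIso V').inv.hom ((W.ι.appIso V').hom.hom r) = r :=
      congr($((W.ι.appIso V').hom_inv_id) r)
    rw [this]
  -- relations on sections
  have r1 : ∀ (i j : Fin n) (s : Γ(↑W, V')),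
      (γ j).app V' ((φ i).app V' (show Γ(Coh.structureModule (↑W : Scheme.{u}), V') from s)) =
        if i = j then (show Γ(Coh.structureModule (↑W : Scheme.{u}), V') from s) else 0 := by
    intro i j s
    have := congrArg (fun ψ : Coh.structureModule (↑W : Scheme.{u}) ⟶
      Coh.structureModule (↑W : Scheme.{u}) => ψ.app V'
        (show Γ(Coh.structureModule (↑W : Scheme.{u}), V') from s)) (h1 i j)
    by_cases hij : i = j
    · rw [if_pos hij] at this ⊢
      exact this
    · rw [if_neg hij] at this ⊢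
      exact this
  have r2 : ∀ e : Γ(N.restrict W.ι, V'), ∑ i, (φ i).app V' ((γ i).app V' e) = e := by
    intro e
    have := congrArg (fun ψ : N.restrict W.ι ⟶ N.restrict W.ι => ψ.app V' e) h2
    simp only at this
    refine Eq.trans ?_ this
    have hsum : ∀ (s : Finset (Fin n)),
        (∑ i ∈ s, γ i ≫ φ i).app V' e = ∑ i ∈ s, (φ i).app V' ((γ i).app V' e) := by
      intro s
      induction s using Finset.induction_on with
      | empty => simp
      | insert a s ha ih =>
        rw [Finset.sum_insert ha, Finset.sum_insert ha, ← ih]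
        rfl
    exact (hsum Finset.univ).symm
  constructor
  · intro r r' hrr
    funext j
    apply hb2.1
    have hrr' : (show Γ(N.restrict W.ι, V') from ∑ i, r i • res N hV (b i)) =
        (show Γ(N.restrict W.ι, V') from ∑ i, r' i • res N hV (b i)) := hrr
    have e1 : ∀ ρ : Fin n → Γ(X, W.ι ''ᵁ V'),
        (γ j).app V' (show Γ(N.restrict W.ι, V') from ∑ i, ρ i • res N hV (b i)) =
        (show Γ(Coh.structureModule (↑W : Scheme.{u}), V') from (W.ι.appIso V').hom.hom (ρ j)) := by
      intro ρ
      have : (show Γ(N.restrict W.ι, V') from ∑ i, ρ i • res N hV (b i)) =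
          ∑ i, (φ i).app V' (show Γ(Coh.structureModule (↑W : Scheme.{u}), V') from
            (W.ι.appIso V').hom.hom (ρ i)) := by
        refine Finset.sum_congr rfl fun i _ => ?_
        exact key' i (ρ i)
      rw [this, map_sum, Finset.sum_eq_single j]
      · rw [r1, if_pos rfl]
      · intro i _ hij
        rw [r1, if_neg hij]
      · intro h; exact absurd (Finset.mem_univ j) h
    have := congrArg ((γ j).app V') hrr'
    rw [e1 r, e1 r'] at this
    exact this
  · intro e
    refine ⟨fun i => (W.ι.appIso V').inv.hom ((γ i).app V' (show Γ(N.restrict W.ι, V') from e)), ?_⟩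
    have := r2 (show Γ(N.restrict W.ι, V') from e)
    refine Eq.trans ?_ this
    refine Finset.sum_congr rfl fun i _ => ?_
    exact (key i _).symm

end Frame

end Groth.Agent.Helper1.PFrame
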