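import Mathlib
import Groth.Agent.Lib.Helper1.PFrame2

/-!
# Existence of frames for locally free modules; pullback of frames (helper1)
-/

set_option autoImplicit false
universe u
open CategoryTheory CategoryTheory.Limits AlgebraicGeometry TopologicalSpace Opposite

namespace Groth.Agent.Helper1.PFrame

open Groth.Agent.Helper1.QcCech Groth.Agent.Helper1.SubSh Groth.Agent.Helper1.LGen
open Groth.Agent.Helper1 Groth.Agent.Helper1.PullSec Groth.Agent.Helper1.TwForm
open Groth.Agent.Helper1.PullGen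

section Coprod

variable {Z : Scheme.{u}}

/-- the `j`-th projection from a finite coproduct of copies of `F` -/
noncomputable def cpπ' (F : Z.Modules) (n : ℕ) (j : Fin n) : (∐ fun _ : Fin n => F) ⟶ F :=
  Sigma.desc (fun k => if k = j then 𝟙 F else 0)

lemma ι_cpπ' (F : Z.Modules) (n : ℕ) (j k : Fin n) :
    Sigma.ι (fun _ : Fin n => F) k ≫ cpπ' F n j = if k = j then 𝟙 F else 0 := by
  unfold cpπ'
  rw [Sigma.ι_desc]

lemma cp_total' (F : Z.Modules) (n : ℕ) :
    ∑ j : Fin n, cpπ' F n j ≫ Sigma.ι (fun _ : Fin n => F) j = 𝟙 _ := by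
  apply Sigma.hom_ext
  intro k
  rw [Preadditive.comp_sum, Category.comp_id]
  rw [Finset.sum_eq_single k]
  · rw [← Category.assoc, ι_cpπ', if_pos rfl, Category.id_comp]
  · intro j _ hjk
    rw [← Category.assoc, ι_cpπ', if_neg (Ne.symm hjk), zero_comp]
  · intro h
    exact absurd (Finset.mem_univ k) h

end Coprod

section Exists

variable {X : Scheme.{u}}

theorem image_top_eq (U : X.Opens) : U.ι ''ᵁ ⊤ = U := by simp

/-- a trivialisation gives a frame -/
theorem exists_isFrame_of_iso {n : ℕ} (E : X.Modules) (U : X.Opens)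
    (e : E.restrict U.ι ≅ FlatMod.freeMod (↑U : Scheme.{u}) n) :
    ∃ b : Fin n → Γ(E, U), IsFrame E U b := by
  let α : Fin n → (Coh.structureModule (↑U : Scheme.{u}) ⟶ E.restrict U.ι) := fun i =>
    Sigma.ι (fun _ : Fin n => Coh.structureModule (↑U : Scheme.{u})) i ≫ e.inv
  let s : Fin n → Γ(E.restrict U.ι, ⊤) := fun i =>
    (α i).app ⊤ (show Γ(Coh.structureModule (↑U : Scheme.{u}), ⊤) from (1 : Γ(↑U, ⊤)))
  have htop : U ≤ U.ι ''ᵁ ⊤ := le_of_eq (image_top_eq U).symm
  let b : Fin n → Γ(E, U) := fun i => res E htop (show Γ(E, U.ι ''ᵁ ⊤) from s i)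
  have hb : ∀ i, rsec E U (b i) = s i := by
    intro i
    change res E (U.ι_image_le ⊤) (res E htop (show Γ(E, U.ι ''ᵁ ⊤) from s i)) = s i
    rw [res_res]
    exact res_self E _ _
  have hα : ∀ i, TwistAmple.homOfSec (E.restrict U.ι) (rsec E U (b i)) = α i := by
    intro i
    rw [hb i]
    exact (eq_homOfSec (α i)).symm
  refine ⟨b, fun j => e.hom ≫ cpπ' _ n j, ?_, ?_⟩
  · intro i j
    rw [hα i]
    change (Sigma.ι _ i ≫ e.inv) ≫ e.hom ≫ cpπ' _ n j = _
    rw [Category.assoc, Iso.inv_hom_id_assoc, ι_cpπ']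
  · have : ∀ i, (e.hom ≫ cpπ' _ n i) ≫ TwistAmple.homOfSec (E.restrict U.ι) (rsec E U (b i)) =
        e.hom ≫ (cpπ' _ n i ≫ Sigma.ι (fun _ : Fin n => Coh.structureModule (↑U : Scheme.{u})) i)
          ≫ e.inv := by
      intro i
      rw [hα i]
      simp only [α, Category.assoc]
    rw [Finset.sum_congr rfl fun i _ => this i, ← Preadditive.comp_sum, ← Preadditive.sum_comp,
      cp_total', Category.id_comp, Iso.hom_inv_id]

/-- finite locally free modules have local frames -/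
theorem exists_isFrame {E : X.Modules} (hE : FlatMod.IsFinLocFree E) (x : X) :
    ∃ (W : X.Opens) (n : ℕ) (b : Fin n → Γ(E, W)), x ∈ W ∧ IsFrame E W b := by
  obtain ⟨U, n, hxU, ⟨e⟩⟩ := hE x
  obtain ⟨b, hb⟩ := exists_isFrame_of_iso E U e
  exact ⟨U, n, b, hxU, hb⟩

end Exists

section Main

variable {Z S : Scheme.{u}} (u : Z ⟶ S)

/-- the comparison morphism between the pullback of a restriction and the restriction of the
pullback -/
noncomputable def thetaHom (L : S.Modules) (W : S.Opens) :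
    (Scheme.Modules.pullback (u ∣_ W)).obj (L.restrict W.ι) ⟶
      ((Scheme.Modules.pullback u).obj L).restrict (u ⁻¹ᵁ W).ι :=
  (Scheme.Modules.pullback (u ∣_ W)).map ((Scheme.Modules.restrictFunctorIsoPullback W.ι).hom.app L) ≫
    (Scheme.Modules.pullbackComp (u ∣_ W) W.ι).hom.app L ≫
    (Scheme.Modules.pullbackCongr (morphismRestrict_ι u W)).hom.app L ≫
    (Scheme.Modules.pullbackComp (u ⁻¹ᵁ W).ι u).inv.app L ≫
    (Scheme.Modules.restrictFunctorIsoPullback (u ⁻¹ᵁ W).ι).inv.app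
      ((Scheme.Modules.pullback u).obj L)

instance (L : S.Modules) (W : S.Opens) : IsIso (thetaHom u L W) := by
  unfold thetaHom
  infer_instance

set_option maxHeartbeats 800000 in
/-- **the pullback of the morphism attached to a section is the morphism attached to the pulled
back section** -/
theorem pull_homOfSec {L : S.Modules} {W : S.Opens} (a : Γ(L, W)) :
    ((unitIso (u ∣_ W)).inv ≫ (Scheme.Modules.pullback (u ∣_ W)).map
        (TwistAmple.homOfSec (L.restrict W.ι) (rsec L W a)) ≫ thetaHom u L W).app ⊤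
      (show Γ(Coh.structureModule (↑(u ⁻¹ᵁ W) : Scheme.{u}), ⊤) from (1 : Γ(↑(u ⁻¹ᵁ W), ⊤))) =
      rsec ((Scheme.Modules.pullback u).obj L) (u ⁻¹ᵁ W) (σ u L W a) := by
  set W' : Z.Opens := u ⁻¹ᵁ W with hW'
  let j := W.ι
  let j' := W'.ι
  let u' : (↑W' : Scheme.{u}) ⟶ ↑W := u ∣_ W
  have hcomm : u' ≫ j = j' ≫ u := morphismRestrict_ι u W
  let a' : Γ(L.restrict j, ⊤) := res L (W.ι_image_le ⊤) a
  let φ := TwistAmple.homOfSec (L.restrict j) a'
  let L' := (Scheme.Modules.pullback u).obj L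
  let b : Γ(L', W') := σ u L W a
  let ψ : Coh.structureModule (↑W' : Scheme.{u}) ⟶ L'.restrict j' :=
    (unitIso u').inv ≫ (Scheme.Modules.pullback u').map φ ≫
      (Scheme.Modules.pullback u').map ((Scheme.Modules.restrictFunctorIsoPullback j).hom.app L) ≫
      (Scheme.Modules.pullbackComp u' j).hom.app L ≫
      (Scheme.Modules.pullbackCongr hcomm).hom.app L ≫
      (Scheme.Modules.pullbackComp j' u).inv.app L ≫
      (Scheme.Modules.restrictFunctorIsoPullback j').inv.app L'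
  change ψ.app ⊤ (show Γ(Coh.structureModule (↑W' : Scheme.{u}), ⊤) from (1 : Γ(↑W', ⊤))) =
    (show Γ(L'.restrict j', ⊤) from res L' (W'.ι_image_le ⊤) b)
  let O₁ : (↑W' : Scheme.{u}).Opens := u' ⁻¹ᵁ (j ⁻¹ᵁ W)
  have hO₁ : O₁ = ⊤ := by
    have : j ⁻¹ᵁ W = ⊤ := W.ι_preimage_self
    change u' ⁻¹ᵁ (j ⁻¹ᵁ W) = ⊤
    rw [this]
    rfl
  apply res_injective_of_eq (L'.restrict j') hO₁
  rw [← QcExt.app_res]
  -- step 0
  have h0 : (unitIso u').inv.app O₁ (show Γ(Coh.structureModule (↑W' : Scheme.{u}), O₁) from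
      (1 : Γ(↑W', O₁))) = σ u' (Coh.structureModule (↑W : Scheme.{u})) (j ⁻¹ᵁ W)
        (show Γ(Coh.structureModule (↑W : Scheme.{u}), j ⁻¹ᵁ W) from (1 : Γ(↑W, j ⁻¹ᵁ W))) := by
    have := unitIso_σ u' (j ⁻¹ᵁ W) (1 : Γ(↑W, j ⁻¹ᵁ W))
    rw [map_one] at this
    rw [← this, iso_inv_hom_app]
  -- step 1
  have h1 : φ.app (j ⁻¹ᵁ W) (show Γ(Coh.structureModule (↑W : Scheme.{u}), j ⁻¹ᵁ W) from
      (1 : Γ(↑W, j ⁻¹ᵁ W))) =
      (show Γ(L.restrict j, j ⁻¹ᵁ W) from res L (j.image_preimage_le W) a) := by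
    have h := TwistAmple.homOfSec_app (L.restrict j) a' (j ⁻¹ᵁ W) 1
    rw [one_smul] at h
    refine h.trans ?_
    change res (L.restrict j) (le_top : j ⁻¹ᵁ W ≤ ⊤) a' = _
    rw [res_restrict]
    change res L _ (res L _ a) = _
    rw [QcCech.res_res]
  -- step 3
  have h3 : ((Scheme.Modules.pullbackComp u' j).hom.app L).app O₁
      (σ u' ((Scheme.Modules.pullback j).obj L) (j ⁻¹ᵁ W) (σ j L W a)) = σ (u' ≫ j) L W a := by
    rw [← σ_comp u' j L W a]
    exact iso_hom_inv_app ((Scheme.Modules.pullbackComp u' j).app L) _ _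
  -- step 5
  have hle : O₁ ≤ (j' ≫ u) ⁻¹ᵁ W := le_of_eq (by rw [← hcomm]; rfl)
  have h5 : ((Scheme.Modules.pullbackComp j' u).inv.app L).app O₁
      (res _ hle (σ (j' ≫ u) L W a)) = res _ hle (σ j' L' W' b) := by
    rw [QcExt.app_res, σ_comp j' u L W a]
    rfl
  -- step 6
  have h6 : ((Scheme.Modules.restrictFunctorIsoPullback j').inv.app L').app O₁
      (res _ hle (σ j' L' W' b)) = res (L'.restrict j') hle
        (show Γ(L'.restrict j', j' ⁻¹ᵁ W') from res L' (j'.image_preimage_le W') b) := by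
    rw [QcExt.app_res, ← σ_openImmersion j' L' W' b]
    congr 1
    exact iso_inv_hom_app ((Scheme.Modules.restrictFunctorIsoPullback j').app L') _ _
  have h4 : ((Scheme.Modules.pullbackCongr hcomm).hom.app L).app O₁ (σ (u' ≫ j) L W a) =
      res _ hle (σ (j' ≫ u) L W a) := σ_congr' hcomm L W a
  -- assemble
  have hψ1 : ψ.app O₁ (show Γ(Coh.structureModule (↑W' : Scheme.{u}), O₁) from
      (1 : Γ(↑W', O₁))) = res (L'.restrict j') hle
        (show Γ(L'.restrict j', j' ⁻¹ᵁ W') from res L' (j'.image_preimage_le W') b) := by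
    change ((Scheme.Modules.restrictFunctorIsoPullback j').inv.app L').app O₁
      (((Scheme.Modules.pullbackComp j' u).inv.app L).app O₁
        (((Scheme.Modules.pullbackCongr hcomm).hom.app L).app O₁
          (((Scheme.Modules.pullbackComp u' j).hom.app L).app O₁
            (((Scheme.Modules.pullback u').map
              ((Scheme.Modules.restrictFunctorIsoPullback j).hom.app L)).app O₁
              (((Scheme.Modules.pullback u').map φ).app O₁
                ((unitIso u').inv.app O₁ _)))))) = _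
    rw [h0, σ_natural u' φ, h1, σ_natural u', σ_openImmersion j L W a, h3, h4, h5, h6]
  have hone : res (Coh.structureModule (↑W' : Scheme.{u})) (le_of_eq hO₁ : O₁ ≤ ⊤)
      (show Γ(Coh.structureModule (↑W' : Scheme.{u}), ⊤) from (1 : Γ(↑W', ⊤))) =
      (show Γ(Coh.structureModule (↑W' : Scheme.{u}), O₁) from (1 : Γ(↑W', O₁))) :=
    map_one (resR (le_of_eq hO₁ : O₁ ≤ ⊤))
  rw [hone, hψ1, res_restrict, res_restrict]
  change res L' _ (res L' _ b) = res L' _ (res L' _ b)
  rw [QcCech.res_res, QcCech.res_res]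

/-- **the pullback of a frame is a frame** -/
theorem IsFrame.pullback {n : ℕ} {L : S.Modules} {W : S.Opens} {a : Fin n → Γ(L, W)}
    (ha : IsFrame L W a) :
    IsFrame ((Scheme.Modules.pullback u).obj L) (u ⁻¹ᵁ W) (fun i => σ u L W (a i)) := by
  obtain ⟨γ, h1, h2⟩ := ha
  let G := Scheme.Modules.pullback (u ∣_ W)
  let φ : Fin n → (Coh.structureModule (↑W : Scheme.{u}) ⟶ L.restrict W.ι) := fun i =>
    TwistAmple.homOfSec (L.restrict W.ι) (rsec L W (a i))
  let ψ : Fin n → (Coh.structureModule (↑(u ⁻¹ᵁ W) : Scheme.{u}) ⟶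
      ((Scheme.Modules.pullback u).obj L).restrict (u ⁻¹ᵁ W).ι) := fun i =>
    (unitIso (u ∣_ W)).inv ≫ G.map (φ i) ≫ thetaHom u L W
  have hψ : ∀ i, TwistAmple.homOfSec (((Scheme.Modules.pullback u).obj L).restrict (u ⁻¹ᵁ W).ι)
      (rsec ((Scheme.Modules.pullback u).obj L) (u ⁻¹ᵁ W) (σ u L W (a i))) = ψ i := by
    intro i
    rw [eq_homOfSec (ψ i)]
    congr 1
    exact (pull_homOfSec u (a i)).symm
  refine ⟨fun j => inv (thetaHom u L W) ≫ G.map (γ j) ≫ (unitIso (u ∣_ W)).hom, ?_, ?_⟩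
  · intro i j
    rw [hψ i]
    change ((unitIso (u ∣_ W)).inv ≫ G.map (φ i) ≫ thetaHom u L W) ≫
      inv (thetaHom u L W) ≫ G.map (γ j) ≫ (unitIso (u ∣_ W)).hom = _
    simp only [Category.assoc, IsIso.hom_inv_id_assoc]
    rw [← G.map_comp_assoc, h1 i j]
    by_cases hij : i = j
    · rw [if_pos hij, if_pos hij, G.map_id, Category.id_comp, Iso.inv_hom_id]
    · rw [if_neg hij, if_neg hij, G.map_zero, zero_comp, comp_zero]
  · have : ∀ i, (inv (thetaHom u L W) ≫ G.map (γ i) ≫ (unitIso (u ∣_ W)).hom) ≫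
        TwistAmple.homOfSec (((Scheme.Modules.pullback u).obj L).restrict (u ⁻¹ᵁ W).ι)
          (rsec ((Scheme.Modules.pullback u).obj L) (u ⁻¹ᵁ W) (σ u L W (a i))) =
        inv (thetaHom u L W) ≫ G.map (γ i ≫ φ i) ≫ thetaHom u L W := by
      intro i
      rw [hψ i]
      change (inv (thetaHom u L W) ≫ G.map (γ i) ≫ (unitIso (u ∣_ W)).hom) ≫
        (unitIso (u ∣_ W)).inv ≫ G.map (φ i) ≫ thetaHom u L W = _
      simp only [Category.assoc, Iso.hom_inv_id_assoc, G.map_comp]
    rw [Finset.sum_congr rfl fun i _ => this i, ← Preadditive.comp_sum, ← Preadditive.sum_comp,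
      ← G.map_sum, h2, G.map_id, Category.id_comp, IsIso.inv_hom_id]

end Main

end Groth.Agent.Helper1.PFrame
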