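import Mathlib
import Groth.Agent.Lib.Helper1.PFrame3

/-!
# The projection formula for finite locally free modules (helper1)
-/

set_option autoImplicit false
universe u
open CategoryTheory CategoryTheory.Limits AlgebraicGeometry TopologicalSpace Opposite

namespace Groth.Agent.Helper1.PFrame

open Groth.Agent.Helper1.QcCech Groth.Agent.Helper1.SubSh Groth.Agent.Helper1.LGen
open Groth.Agent.Helper1 Groth.Agent.Helper1.PullSec Groth.Agent.Helper1.TwForm
open Groth.Agent.Helper1.PullGen Groth.Agent.Helper1.TmulLib Groth.Agent.Helper1.TensLib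

variable {X Y : Scheme.{u}} (q : X ⟶ Y) (F : X.Modules) (E : Y.Modules)

/-- the projection-formula pairing `E × q_*F → q_*(F ⊗ q^*E)` -/
noncomputable def projPairing : Pairing E ((Scheme.Modules.pushforward q).obj F)
    ((Scheme.Modules.pushforward q).obj (CohB1.tensorMod F ((Scheme.Modules.pullback q).obj E))) where
  β U e φ := tm F ((Scheme.Modules.pullback q).obj E) (q ⁻¹ᵁ U.unop)
    (show Γ(F, q ⁻¹ᵁ U.unop) from φ) (σ q E U.unop e)
  add_left U m₁ m₂ n := by
    change tm F _ _ _ (σ q E U.unop (m₁ + m₂)) = _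
    erw [σ_add q E U.unop m₁ m₂]
    rw [tm_add_right]
    rfl
  smul_left U a m n := by
    change tm F _ _ _ (σ q E U.unop (a • m)) = _
    erw [σ_smul q E U.unop a m]
    rw [tm_smul_right]
    rfl
  add_right U m n₁ n₂ := by
    change tm F _ _ (show Γ(F, q ⁻¹ᵁ U.unop) from n₁ + n₂) _ = _
    erw [tm_add_left]
    rfl
  smul_right U a m n := by
    change tm F _ _ (show Γ(F, q ⁻¹ᵁ U.unop) from ((q.app U.unop).hom a : Γ(X, q ⁻¹ᵁ U.unop)) •
      (show Γ(F, q ⁻¹ᵁ U.unop) from n)) _ = _
    rw [tm_smul_left]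
    rfl
  nat {U V} f m n := by
    have h : V.unop ≤ U.unop := f.unop.le
    change res (CohB1.tensorMod F ((Scheme.Modules.pullback q).obj E)) (q.preimage_mono h)
      (tm F _ _ _ _) = tm F _ _ (res F (q.preimage_mono h) (show Γ(F, q ⁻¹ᵁ U.unop) from n))
        (σ q E V.unop (res E h m))
    rw [res_tm, σ_res]

/-- **the projection formula for finite locally free modules** -/
theorem nonempty_projFormula_locFree (hE : FlatMod.IsFinLocFree E) :
    Nonempty (CohB1.tensorMod E ((Scheme.Modules.pushforward q).obj F) ≅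
      (Scheme.Modules.pushforward q).obj
        (CohB1.tensorMod F ((Scheme.Modules.pullback q).obj E))) := by
  refine Pairing.nonempty_tensorMod_iso_of_basis (projPairing q F E)
    (fun V => ∃ (W : Y.Opens) (n : ℕ) (a : Fin n → Γ(E, W)), V ≤ W ∧ IsFrame E W a) ?_ ?_ ?_
  · intro x
    obtain ⟨W, n, b, hxW, hb⟩ := exists_isFrame hE x
    exact ⟨W, ⟨W, n, b, le_rfl, hb⟩, hxW⟩
  · rintro V V' ⟨W, n, a, hVW, ha⟩ h
    exact ⟨W, n, a, h.trans hVW, ha⟩
  · rintro V ⟨W, n, a, hVW, ha⟩
    refine ⟨n, fun i => res E hVW (a i), IsBasisOn.bijective_self (ha.isBasisOn.res hVW), ?_⟩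
    have hpull : IsBasisOn ((Scheme.Modules.pullback q).obj E) (q ⁻¹ᵁ V)
        (fun i => res _ (q.preimage_mono hVW) (σ q E W (a i))) :=
      ((ha.pullback q).isBasisOn).res (q.preimage_mono hVW)
    have hbij := bijective_sum_tm_of_isBasisOn F hpull
    have heq : (fun ν : Fin n → (CohB1.toPMod ((Scheme.Modules.pushforward q).obj F)).obj (op V) =>
        ∑ i, (projPairing q F E).β (op V) (res E hVW (a i)) (ν i)) =
        fun ν : Fin n → Γ(F, q ⁻¹ᵁ V) => ∑ i, tm F ((Scheme.Modules.pullback q).obj E) (q ⁻¹ᵁ V)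
          (ν i) (res _ (q.preimage_mono hVW) (σ q E W (a i))) := by
      funext ν
      refine Finset.sum_congr rfl fun i _ => ?_
      change tm F _ _ _ (σ q E V (res E hVW (a i))) = _
      rw [← σ_res]
    rw [heq]
    exact hbij

end Groth.Agent.Helper1.PFrame
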