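import Mathlib
import Groth.Agent.Lib.Helper1.Curve4
import Groth.Agent.Lib.Helper1.PFrame4
import Groth.Agent.Lib.Helper1.QcPullGen
import Groth.Agent.Lib.Lead.FLF6

/-!
# Degree of the pullback of a locally free module along a birational morphism of curves (helper1)
-/

set_option autoImplicit false
universe u
open CategoryTheory CategoryTheory.Limits AlgebraicGeometry TopologicalSpace Opposite

namespace Groth.Agent.Helper1.Curve

open Groth.Agent.Lib.Helper4 Groth.Agent.Helper1.Dv Groth.Agent.Helper1.FinLen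
  Groth.Agent.Helper1.Euler

section Push

variable (k : Type u) [Field k] (X Y : Scheme.{u}) [X.Over (Spec (CommRingCat.of k))]
  [Y.Over (Spec (CommRingCat.of k))]

/-- Euler characteristics are invariant under affine push-forward -/
theorem euler_push (f : Y ⟶ X) [IsAffineHom f]
    (hf : f ≫ (X ↘ (Spec (CommRingCat.of k))) = Y ↘ (Spec (CommRingCat.of k)))
    (M : Y.Modules) [M.IsQuasicoherent] :
    Curv2.euler k X ((Scheme.Modules.pushforward f).obj M) = Curv2.euler k Y M := by
  unfold Curv2.euler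
  refine finsum_congr fun i => ?_
  rw [(LinBridge1.lerayEquiv f M k hf i).finrank_eq]

/-- `χ(Y, f^* E) = χ(X, E ⊗ f_* O_Y)` for affine `f` and finite locally free `E` -/
theorem euler_pullback_eq (f : Y ⟶ X) [IsAffineHom f]
    (hf : f ≫ (X ↘ (Spec (CommRingCat.of k))) = Y ↘ (Spec (CommRingCat.of k)))
    (E : X.Modules) (hE : FlatMod.IsFinLocFree E) :
    Curv2.euler k Y ((Scheme.Modules.pullback f).obj E) =
      Curv2.euler k X (CohB1.tensorMod E (pushO f)) := by
  haveI : E.IsQuasicoherent := Groth.Agent.Lead.FLF.isQuasicoherent_of_isFinLocFree E hE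
  haveI : ((Scheme.Modules.pullback f).obj E).IsQuasicoherent :=
    QcPullGen.isQuasicoherent_pullback f E
  obtain ⟨e⟩ := PFrame.nonempty_projFormula_locFree f (Coh.structureModule Y) E hE
  let e' : (Scheme.Modules.pullback f).obj E ≅
      CohB1.tensorMod (Coh.structureModule Y) ((Scheme.Modules.pullback f).obj E) :=
    (Groth.Agent.Lib.Helper5.LTenFlf.tensorUnitIso ((Scheme.Modules.pullback f).obj E)).symm ≪≫
      TildeTens.tensorModComm _ _
  rw [← euler_push k X Y f hf, euler_iso k X e,
    euler_iso k X ((Scheme.Modules.pushforward f).mapIso e')]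

end Push

section Ker

variable {X Y : Scheme.{u}} (f : Y ⟶ X)

theorem support_kernel_subset (U : X.Opens) [IsIso (f ∣_ U)] :
    CohB1.support (kernel (unitMap f)) ⊆ (U : Set X)ᶜ := by
  intro x hx hxU
  apply hx
  refine subsingleton_of_forall_eq 0 fun v => ?_
  obtain ⟨V, hxV, n, rfl⟩ := TopCat.Presheaf.exists_germ_eq (kernel (unitMap f)).presheaf v
  let V' : (U : Scheme.{u}).Opens := U.ι ⁻¹ᵁ V
  have hWV : U.ι ''ᵁ V' ≤ V := by
    rintro _ ⟨y, hy, rfl⟩
    exact hy
  have hxW : x ∈ U.ι ''ᵁ V' := ⟨⟨x, hxU⟩, hxV, rfl⟩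
  rw [← TopCat.Presheaf.germ_res_apply (kernel (unitMap f)).presheaf (homOfLE hWV) x hxW n]
  have h0 : (kernel (unitMap f)).presheaf.map (homOfLE hWV).op n = 0 := by
    apply FtLocal.app_injective_of_mono (kernel.ι (unitMap f)) (U.ι ''ᵁ V')
    rw [map_zero]
    set m := (kernel (unitMap f)).presheaf.map (homOfLE hWV).op n with hm
    have h2 := congrArg (fun ψ : kernel (unitMap f) ⟶ pushO f =>
      Scheme.Modules.Hom.app ψ (U.ι ''ᵁ V') m) (kernel.condition (unitMap f))
    have h3 : (unitMap f).app (U.ι ''ᵁ V') ((kernel.ι (unitMap f)).app (U.ι ''ᵁ V') m) = 0 := h2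
    have h4 : f.app (U.ι ''ᵁ V')
        (show Γ(X, U.ι ''ᵁ V') from (kernel.ι (unitMap f)).app (U.ι ''ᵁ V') m) = 0 :=
      (unitMap_app f _ _).symm.trans h3
    exact app_injective_of_isIso_restrict f U V' (h4.trans (map_zero _).symm)
  rw [h0, map_zero]

end Ker

section Deg

variable (k : Type u) [Field k] (X Y : Scheme.{u}) [X.Over (Spec (CommRingCat.of k))]
  [Y.Over (Spec (CommRingCat.of k))] [IsProper (X ↘ (Spec (CommRingCat.of k)))]

/-- S1666 -/
theorem deg_pullback_birational (hdim : topologicalKrullDim X ≤ 1) (f : Y ⟶ X) [IsFinite f]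
    (hf : f ≫ (X ↘ (Spec (CommRingCat.of k))) = Y ↘ (Spec (CommRingCat.of k)))
    (U : X.Opens) (hU : Dense (U : Set X)) (hfU : IsIso (f ∣_ U))
    (n : ℕ) (E : X.Modules) (hE : FlatMod.IsFinLocFreeOfRank n E) :
    Curv2.deg k Y ((Scheme.Modules.pullback f).obj E) n = Curv2.deg k X E n := by
  haveI := hfU
  haveI := isNoetherian_of_proper k X
  haveI : IsLocallyNoetherian X := (isNoetherian_of_proper k X).toIsLocallyNoetherian
  have hOX : Coh.IsCoh (Coh.structureModule X) :=
    InvQc.isCoh_of_isInvertible _ (GenLoc.isInvertible_O (X := X))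
  have hOY : Coh.IsCoh (Coh.structureModule Y) :=
    InvQc.isCoh_of_isInvertible _ (GenLoc.isInvertible_O (X := Y))
  haveI : (Coh.structureModule Y).IsQuasicoherent := hOY.1
  have hA : Coh.IsCoh (pushO f) := FinPush.isCoh_pushforward f _ hOY
  have hQc : Coh.IsCoh (cokernel (unitMap f)) := FtLocal.isCoh_cokernel hOX hA (unitMap f)
  haveI : (Coh.structureModule X).IsQuasicoherent := hOX.1
  have hIc : Coh.IsCoh (Abelian.image (unitMap f)) :=
    FtLocal.isCoh_of_mono (Abelian.image.ι (unitMap f)) hA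
      (QcAbel.isQuasicoherent_image (unitMap f))
  have hKc : Coh.IsCoh (kernel (unitMap f)) := FtLocal.isCoh_kernel hOX hA (unitMap f)
  have hQd : topologicalKrullDim ↥(CohB1.support (cokernel (unitMap f))) ≤ 0 :=
    ((Topology.IsEmbedding.inclusion (support_cokernel_subset f U)).isInducing.topologicalKrullDim_le).trans
      (dim_compl_le_zero hdim U hU)
  have hKd : topologicalKrullDim ↥(CohB1.support (kernel (unitMap f))) ≤ 0 :=
    ((Topology.IsEmbedding.inclusion (support_kernel_subset f U)).isInducing.topologicalKrullDim_le).trans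
      (dim_compl_le_zero hdim U hU)
  have h01 : (0 : WithBot ℕ∞) < ((1 : ℕ) : WithBot ℕ∞) := by norm_num
  have hψQ : psi k X n E (cokernel (unitMap f)) = 0 :=
    psi_eq_zero_of_dim_lt_one k X n E hE _ hQc (lt_of_le_of_lt hQd h01)
  have hψK : psi k X n E (kernel (unitMap f)) = 0 :=
    psi_eq_zero_of_dim_lt_one k X n E hE _ hKc (lt_of_le_of_lt hKd h01)
  -- the two short exact sequences
  let S₂ : ShortComplex X.Modules := ShortComplex.mk (Abelian.image.ι (unitMap f))
    (cokernel.π (unitMap f)) (kernel.condition _)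
  have hS₂ : S₂.Exact :=
    ShortComplex.exact_of_f_is_kernel _ (kernelIsKernel (cokernel.π (unitMap f)))
  haveI : Mono S₂.f := inferInstanceAs (Mono (Abelian.image.ι (unitMap f)))
  haveI : Epi S₂.g := inferInstanceAs (Epi (cokernel.π (unitMap f)))
  have hSE₂ : S₂.ShortExact := { exact := hS₂ }
  have hSE₁ := H1Ext.kerIm_shortExact (unitMap f)
  have a₂ := psi_additive k X n E hE S₂ hSE₂ hIc hA hQc
  have a₁ := psi_additive k X n E hE (H1Ext.kerIm (unitMap f)) hSE₁ hKc hOX hIc
  change psi k X n E (pushO f) = psi k X n E (Abelian.image (unitMap f)) +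
    psi k X n E (cokernel (unitMap f)) at a₂
  change psi k X n E (Coh.structureModule X) = psi k X n E (kernel (unitMap f)) +
    psi k X n E (Abelian.image (unitMap f)) at a₁
  have hψA : psi k X n E (pushO f) = psi k X n E (Coh.structureModule X) := by
    rw [a₂, a₁, hψQ, hψK, add_zero, zero_add]
  have hdeg : psi k X n E (Coh.structureModule X) = Curv2.deg k X E n := by
    unfold psi Curv2.deg
    have e0 : Curv2.euler k X (CohB1.tensorMod E (Coh.structureModule X)) = Curv2.euler k X E :=
      euler_iso k X (Groth.Agent.Lib.Helper5.LTenFlf.tensorUnitIso E)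
    rw [e0]
  rw [← hdeg, ← hψA]
  unfold psi Curv2.deg
  rw [euler_pullback_eq k X Y f hf E (isFinLocFree_of_rank hE),
    euler_push k X Y f hf (Coh.structureModule Y)]

end Deg

end Groth.Agent.Helper1.Curve
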