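import Mathlib
import Groth.Agent.Lib.Helper1.ChowH
import Groth.Agent.Lib.Helper1.ProjSpaceRel

/-!
# Chow's lemma, part I: the EGA forms (helper1 library)
-/

set_option autoImplicit false
universe u
open CategoryTheory CategoryTheory.Limits AlgebraicGeometry TopologicalSpace Opposite

namespace Groth.Agent.Helper1.Chow

theorem isClosedImmersion_of_isProper_comp {X' P S : Scheme.{u}} (j : X' ⟶ P) (p : P ⟶ S)
    [IsImmersion j] [IsSeparated p] [IsProper (j ≫ p)] : IsClosedImmersion j := by
  have : IsProper j := IsProper.of_comp j p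
  exact IsClosedImmersion.of_isPreimmersion j j.isClosedMap.isClosed_range

/-- the hypotheses of the EGA form of Chow's lemma -/
theorem hyp_cases {X S : Scheme.{u}} (r : X ⟶ S) [LocallyOfFiniteType r] [QuasiCompact r]
    (h : IsNoetherian S ∨ (CompactSpace S ∧ S.IsSeparated ∧ (irreducibleComponents X).Finite)) :
    CompactSpace S ∧ QuasiSeparatedSpace S ∧ (irreducibleComponents X).Finite := by
  rcases h with h | ⟨h1, h2, h3⟩
  · have hXln : IsLocallyNoetherian X := LocallyOfFiniteType.isLocallyNoetherian r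
    have hXc : CompactSpace X := QuasiCompact.compactSpace_of_compactSpace r
    have hXn : IsNoetherian X := { }
    exact ⟨inferInstance, inferInstance, finite_irreducibleComponents_of_isNoetherian⟩
  · exact ⟨h1, inferInstance, h3⟩

/-- the EGA form -/
theorem exists_chow_ega {X S : Scheme.{u}} (r : X ⟶ S) [IsSeparated r] [LocallyOfFiniteType r]
    [QuasiCompact r]
    (h : IsNoetherian S ∨ (CompactSpace S ∧ S.IsSeparated ∧ (irreducibleComponents X).Finite)) :
    ∃ (X' : Scheme.{u}) (f : X' ⟶ X),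
      RelProj.IsHQuasiProjective (f ≫ r) ∧ RelProj.IsHProjective f ∧ IsProper f ∧ Surjective f ∧
      (IsProper r → RelProj.IsHProjective (f ≫ r)) ∧
      (∃ U : X.Opens, Dense (U : Set X) ∧ Dense ((f ⁻¹ᵁ U : X'.Opens) : Set X') ∧
        IsIso (f ∣_ U)) ∧
      (IsReduced X → IsReduced X') ∧ (IrreducibleSpace X → IrreducibleSpace X') := by
  obtain ⟨h1, h2, h3⟩ := hyp_cases r h
  obtain ⟨U, hUd, n, X', π, j, hj, hjq, hπ, hsurj, hiso, hdense, hred, hirr⟩ :=
    exists_dense_conclusion r h3
  refine ⟨X', π, ?_, ?_, hπ, hsurj, ?_, ⟨U, hUd, hdense, hiso⟩, hred, hirr⟩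
  · have : QuasiCompact (j ≫ CohB1.ProjSpaceOver.toBase n S) := by rw [hjq]; infer_instance
    exact ⟨n, j, hj, QuasiCompact.of_comp j (CohB1.ProjSpaceOver.toBase n S), hjq⟩
  · have hpb := HProj.isPullback_baseMap n r
    let k' : X' ⟶ CohB1.ProjSpaceOver n X := hpb.lift j π hjq
    have hk1 : k' ≫ HProj.baseMap n r = j := hpb.lift_fst _ _ _
    have hk2 : k' ≫ CohB1.ProjSpaceOver.toBase n X = π := hpb.lift_snd _ _ _
    have : IsImmersion k' := by
      have : IsImmersion (k' ≫ HProj.baseMap n r) := by rw [hk1]; exact hj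
      exact IsImmersion.of_comp k' (HProj.baseMap n r)
    have : IsProper (k' ≫ CohB1.ProjSpaceOver.toBase n X) := by rw [hk2]; exact hπ
    exact ⟨n, k', isClosedImmersion_of_isProper_comp k' (CohB1.ProjSpaceOver.toBase n X), hk2⟩
  · intro hr
    have : IsProper (j ≫ CohB1.ProjSpaceOver.toBase n S) := by rw [hjq]; infer_instance
    exact ⟨n, j, isClosedImmersion_of_isProper_comp j (CohB1.ProjSpaceOver.toBase n S), hjq⟩

end Groth.Agent.Helper1.Chow
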