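import Mathlib
import Groth.Agent.Lib.Helper1.VA8
import Groth.Agent.Lib.Helper1.ChowI
import Groth.Agent.Lib.Helper1.TwistTens
import Groth.Agent.Lib.Helper1.PullPow
import Groth.Agent.Lib.Helper1.AmpleH1
import Groth.Agent.Lib.Helper4.ClBridge2

/-!
# Serre vanishing for an ample invertible module on a scheme proper over a Noetherian ring
(helper1 library)
-/

set_option autoImplicit false
universe u
open CategoryTheory CategoryTheory.Limits AlgebraicGeometry TopologicalSpace Opposite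

namespace Groth.Agent.Helper1.SerreAmple

open Groth.Agent.Helper1.TwForm Groth.Agent.Helper1

variable {X : Scheme.{u}}

section Alg
variable {R A : Type u} [CommRing R] [CommRing A] [Algebra R A] (𝒜 : ℕ → Submodule R A)
  [GradedAlgebra 𝒜]

set_option synthInstance.maxHeartbeats 400000

/-- `O(d)^{⊗ k} ≅ O(kd)` when every point has a non-vanishing element of degree `d` -/
theorem nonempty_tensorPow_iso {d : ℕ}
    (hunit : ∀ x : ProjectiveSpectrum 𝒜, ∃ g ∈ 𝒜 d, g ∉ x.asHomogeneousIdeal) (k : ℕ) :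
    Nonempty (CohB1.tensorPow (Twist.twist 𝒜 (d : ℤ)) k ≅ Twist.twist 𝒜 ((k * d : ℕ) : ℤ)) := by
  induction k with
  | zero =>
    obtain ⟨e⟩ := TwistTens.nonempty_twist_zero_iso 𝒜
    refine ⟨?_⟩
    have h0 : ((0 * d : ℕ) : ℤ) = 0 := by simp
    rw [h0]
    exact e.symm
  | succ k ih =>
    obtain ⟨e⟩ := ih
    have hk : (((k + 1) * d : ℕ) : ℤ) = ((k * d : ℕ) : ℤ) + (d : ℤ) := by push_cast; ring
    obtain ⟨e'⟩ := TwistTens.nonempty_tensor_twist_iso 𝒜 hk (by
      intro x
      obtain ⟨g, hg, hgx⟩ := hunit x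
      refine ⟨k • d, 0, g ^ k, 1, SetLike.pow_mem_graded k hg, SetLike.GradedOne.one_mem,
        by simp, fun h => hgx (x.isPrime.mem_of_pow_mem _ h), TwistTens.one_not_mem 𝒜 x⟩)
    exact ⟨TwistTens.tensorModCongrLeft e _ ≪≫ e'⟩

end Alg

/-- `O(1)^{⊗ d} ≅ O(d)` on projective space -/
theorem nonempty_twist_pow_iso (N : ℕ) (R : Type u) [CommRing R] (d : ℕ) :
    Nonempty (CohB1.tensorPow (Twist.twistProjSpace N R 1) d ≅ Twist.twistProjSpace N R (d : ℤ)) := by
  have h := nonempty_tensorPow_iso (CohB1.polyGrading N R) (d := 1)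
    (Groth.Agent.Lib.Helper4.SerreFin.hcov1 N R) d
  rw [Nat.mul_one, Nat.cast_one] at h
  exact h

theorem isCoh_tensor (E M : X.Modules) (hE : Coh.IsCoh E) (hM : Coh.IsCoh M) :
    Coh.IsCoh (CohB1.tensorMod E M) := by
  haveI : E.IsQuasicoherent := hE.1
  haveI : M.IsQuasicoherent := hM.1
  exact ⟨Groth.Agent.Lead.TilT.isQuasicoherent_tensorMod E M,
    Groth.Agent.Lead.TilT.isFT_tensorMod E M hE.2 hM.2⟩

/-- **Serre vanishing** for an ample invertible module on a scheme proper over a Noetherian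
ring -/
theorem serre_vanishing (R : Type u) [CommRing R] [IsNoetherianRing R]
    (f : X ⟶ Spec (CommRingCat.of R)) [IsProper f] {L : X.Modules} (hL : CohB1.IsAmple L)
    (M : X.Modules) (hM : Coh.IsCoh M) :
    ∃ n₀ : ℕ, ∀ n : ℕ, n₀ ≤ n → ∀ p : ℕ, 0 < p →
      Subsingleton (Coh.HH X (CohB1.tensorMod M (CohB1.tensorPow L n)) p) := by
  classical
  have hO : PicF.IsInvertible (Coh.structureModule X) := isInvertible_tensorPow hL.1 0
  obtain ⟨n₁, hn₁⟩ := VA8.exists_immersion_projSpace_powers f hL hO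
  obtain ⟨N, r, hr, hrf, ⟨e⟩⟩ := hn₁ (n₁ + 1) (Nat.le_succ _)
  set m := n₁ + 1 with hm
  haveI : IsImmersion r := hr
  haveI : IsProper (r ≫ CohB1.ProjSpace.toSpec N R) := by rw [hrf]; infer_instance
  haveI : IsClosedImmersion r :=
    Chow.isClosedImmersion_of_isProper_comp r (CohB1.ProjSpace.toSpec N R)
  have hloc := locFrame_of_isInvertible hL.1 hL.1
  have hO1 : PicF.IsInvertible (Twist.twistProjSpace N R 1) :=
    Groth.Agent.Lib.Helper4.ClBridge2.isInvertible_twist N R 1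
  -- `r^*O(1)` as a form of `O` with exponents `(m, 0)`
  let S₁ : Tw L L (Coh.structureModule X) (m : ℤ) 0
      ((Scheme.Modules.pullback r).obj (Twist.twistProjSpace N R 1)) :=
    ((((Tw.fst L L).pow m).tensorR (Tw.self L L (Coh.structureModule X))).ofIso e).cast
      (by ring) (by ring)
  -- `r^*O(d)` as a form of `O` with exponents `(m d, 0)`
  have hS : ∀ d : ℕ, Nonempty (Tw L L (Coh.structureModule X) ((m : ℤ) * d) 0
      ((Scheme.Modules.pullback r).obj (Twist.twistProjSpace N R (d : ℤ)))) := by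
    intro d
    obtain ⟨ed⟩ := nonempty_twist_pow_iso N R d
    exact ⟨(((S₁.pow d).ofIso ((PullPow.powIso r hO1 d).symm ≪≫
      (Scheme.Modules.pullback r).mapIso ed))).cast rfl (by simp)⟩
  -- the coherent modules `M ⊗ L^s`
  have hcoh : ∀ s : ℕ, Coh.IsCoh (CohB1.tensorMod M (CohB1.tensorPow L s)) := fun s =>
    isCoh_tensor M _ hM (InvQc.isCoh_of_isInvertible _ (isInvertible_tensorPow hL.1 s))
  have hsv := fun s : ℕ => Groth.Agent.Lib.Helper4.ClBridge2.serre_vanishing_closed N R r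
    (CohB1.tensorMod M (CohB1.tensorPow L s)) (hcoh s)
  choose D hD using hsv
  let D₀ : ℕ := (Finset.range m).sup fun s => (D s).toNat
  refine ⟨m * (D₀ + 1), fun n hn p hp => ?_⟩
  have hmpos : 0 < m := Nat.succ_pos _
  set d := n / m with hd
  set s := n % m with hs
  have hsm : s < m := Nat.mod_lt _ hmpos
  have hnd : n = s + m * d := (Nat.mod_add_div n m).symm
  have hdge : D₀ + 1 ≤ d := by
    rw [hd, Nat.le_div_iff_mul_le hmpos]
    calc (D₀ + 1) * m = m * (D₀ + 1) := Nat.mul_comm _ _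
      _ ≤ n := hn
  have hDs : D s ≤ (d : ℤ) := by
    have h1 : (D s).toNat ≤ D₀ := Finset.le_sup (f := fun s => (D s).toNat) (Finset.mem_range.2 hsm)
    have h2 : D s ≤ ((D s).toNat : ℤ) := Int.self_le_toNat _
    have h3 : ((D s).toNat : ℤ) ≤ (d : ℤ) := by exact_mod_cast (h1.trans (Nat.le_of_succ_le hdge))
    exact h2.trans h3
  have hvan := hD s (d : ℤ) hDs p hp
  obtain ⟨Sd⟩ := hS d
  -- the comparison isomorphism
  let T₁ := (Tw.self L L M).tensorR ((Tw.fst L L).pow n)
  let T₂ := ((Tw.self L L M).tensorR ((Tw.fst L L).pow s)).tensorR Sd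
  have hn' : (n : ℤ) = s + m * d := by exact_mod_cast hnd
  have φ := Tw.iso T₂ (T₁.cast (by rw [hn']; ring) (by ring)) hloc
  exact Groth.Agent.Lib.Helper4.ClBridge2.subsingleton_HH_of_iso φ p hvan

end Groth.Agent.Helper1.SerreAmple
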