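import Mathlib
import Groth.Agent.Lib.Helper1.P1Iso1
import Groth.Agent.Lib.Helper1.Curve5
import Groth.Agent.Lib.Helper1.SerreAmple1
import Groth.Agent.Lib.Helper1.ProjTop
import Groth.Agent.Lib.Helper4.PullTens1
import Groth.Agent.Lib.Helper4.PnX1
import Groth.Agent.Lib.Helper4.P1Curve1
import Groth.Agent.Lib.Helper4.RegRes1
import Groth.Agent.Lib.Helper7.CohStalk.Zero
import Groth.Agent.S10829

set_option autoImplicit false
universe u
open CategoryTheory CategoryTheory.Limits AlgebraicGeometry TopologicalSpace Opposite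

namespace Groth.Agent.Helper1.P1Iso

open Groth.Agent.Helper1.QcCech Groth.Agent.Helper1.LGen Groth.Agent.Helper1
open Groth.Agent.Helper1.TwForm Groth.Agent.Helper1.CurveLin Groth.Agent.Helper1.TensGen
open Groth.Agent.Helper1.Euler Groth.Agent.Helper1.Curve

section General

variable {X Y : Scheme.{u}}

/-- pullback commutes with tensor powers of an invertible module -/
theorem nonempty_pullback_tensorPow_iso (u : X ⟶ Y) {M : Y.Modules}
    (hM : PicF.IsInvertible M) (n : ℕ) :
    Nonempty ((Scheme.Modules.pullback u).obj (CohB1.tensorPow M n) ≅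
      CohB1.tensorPow ((Scheme.Modules.pullback u).obj M) n) := by
  induction n with
  | zero => exact ⟨PullSec.unitIso u⟩
  | succ n ih =>
    obtain ⟨e⟩ := ih
    exact ⟨Groth.Agent.Lib.Helper4.PullTens1.pullTensIso u (isInvertible_tensorPow hM n) hM ≪≫
      PicGrp.tensorModIso e (Iso.refl _)⟩

/-- a globally generated module without global sections vanishes -/
theorem isZero_of_gg_of_subsingleton_top (N : X.Modules)
    (hgg : Curv2.IsGloballyGenerated N) (h : Subsingleton Γ(N, ⊤)) : IsZero N := by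
  haveI : Epi (0 : N ⟶ N) := Groth.Agent.Lib.Helper4.RegRes1.epi_of_surj_top hgg 0
    (fun y => ⟨0, Subsingleton.elim _ _⟩)
  rw [IsZero.iff_id_eq_zero, ← cancel_epi (0 : N ⟶ N)]
  simp

/-- tensoring with an invertible module reflects vanishing -/
theorem isZero_of_isZero_tensor (C E : X.Modules) (hE : PicF.IsInvertible E)
    (h : IsZero (CohB1.tensorMod C E)) : IsZero C := by
  apply Groth.Agent.Helper7.FinType.isZero_of_forall_subsingleton
  intro U
  refine ⟨fun s t => ?_⟩
  apply TwistSec.eq_of_locally C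
  intro x hx
  obtain ⟨W, a, hxW, ha⟩ := exists_isGen hE x
  have ha' := ha.res (inf_le_left : W ⊓ U ≤ W)
  have hb := bijective_tm_of_isGen C ha'
  haveI : Subsingleton Γ(CohB1.tensorMod C E, W ⊓ U) := by
    refine ⟨fun p q => ?_⟩
    have h1 : (𝟙 (CohB1.tensorMod C E) : _ ⟶ _) = 0 := (IsZero.iff_id_eq_zero _).1 h
    have h2 : (𝟙 (CohB1.tensorMod C E) : _ ⟶ _).app (W ⊓ U) p = (0 : CohB1.tensorMod C E ⟶ _).app (W ⊓ U) p := by
      rw [h1]
    have h3 : (𝟙 (CohB1.tensorMod C E) : _ ⟶ _).app (W ⊓ U) q = (0 : CohB1.tensorMod C E ⟶ _).app (W ⊓ U) q := by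
      rw [h1]
    have hp : p = 0 := h2
    have hq : q = 0 := h3
    rw [hp, hq]
  exact ⟨W ⊓ U, inf_le_right, ⟨hxW, hx⟩, hb.1 (Subsingleton.elim _ _)⟩

end General

section Mono

variable {X P : Scheme.{u}} [IsIntegral X] [IsIntegral P]

theorem stalkMap_injective_of_generic (r : X ⟶ P)
    (h : r (genericPoint X) = genericPoint P) :
    Function.Injective (r.stalkMap (genericPoint X)) := by
  have hF : IsField (P.presheaf.stalk (r (genericPoint X))) := by
    rw [h]
    exact Field.toIsField P.functionField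
  rw [injective_iff_map_eq_zero]
  intro a ha
  by_contra hne
  obtain ⟨b, hb⟩ := hF.mul_inv_cancel hne
  have h1 := congrArg (r.stalkMap (genericPoint X)) hb
  rw [map_mul, ha, zero_mul, map_one] at h1
  exact zero_ne_one h1

/-- for a dominant morphism of integral schemes `O_P → r_* O_X` is a monomorphism -/
theorem mono_unitMap_of_dominant (r : X ⟶ P)
    (h : r (genericPoint X) = genericPoint P) : Mono (Curve.unitMap r) := by
  apply SubSh.mono_of_app_injective
  intro V s t hst
  rw [Curve.unitMap_app, Curve.unitMap_app] at hst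
  by_cases hV : genericPoint P ∈ V
  · have hξ : r (genericPoint X) ∈ V := by rw [h]; exact hV
    have h1 := r.germ_stalkMap_apply V (genericPoint X) hξ s
    have h2 := r.germ_stalkMap_apply V (genericPoint X) hξ t
    rw [hst] at h1
    have h3 := stalkMap_injective_of_generic r h (h1.trans h2.symm)
    exact germ_injective_of_isIntegral P _ hξ h3
  · have hbot : V = ⊥ := by
      by_contra hne
      apply hV
      have hne' : (V : Set P).Nonempty := by
        rw [Set.nonempty_iff_ne_empty]
        intro he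
        apply hne
        ext x
        simp [he]
      exact ((genericPoint_spec P).mem_open_set_iff V.2).2 (by simpa [Set.inter_comm] using hne')
    subst hbot
    haveI : Subsingleton Γ(P, ⊥) := inferInstance
    exact Subsingleton.elim (α := Γ(P, ⊥)) s t

end Mono

section PLine

variable (k : Type u) [Field k]

instance isIntegral_P1 : IsIntegral (CohB1.ProjSpace 1 k) :=
  Groth.Agent.Lib.Helper4.P1Curve1.isIntegral_P1 k

instance isProper_P1 : IsProper ((CohB1.ProjSpace 1 k) ↘ (Spec (CommRingCat.of k))) :=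
  VA5.isProper_toSpec 1 k

theorem dim_P1 : topologicalKrullDim (CohB1.ProjSpace 1 k) = 1 := by
  have := Groth.Agent.S10829.result k 1
  simpa using this

/-- a point of the projective line other than the generic point is closed -/
theorem isClosed_of_ne_genericPoint (y : CohB1.ProjSpace 1 k)
    (hy : y ≠ genericPoint (CohB1.ProjSpace 1 k)) : IsClosed ({y} : Set (CohB1.ProjSpace 1 k)) := by
  obtain ⟨hgen, -⟩ := Groth.Agent.Lib.Helper4.CurveTop1.S4443_main' k (CohB1.ProjSpace 1 k)
    (fun x hx => Groth.Agent.Lib.Helper4.P1Curve1.dim_stalk_P1 k x hx)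
  by_contra h
  exact hy (hgen y h)

/-- the Euler characteristic of `O(1)^{⊗ n}` on the projective line -/
theorem euler_tensorPow_P1 (n : ℕ) :
    Curv2.euler k (CohB1.ProjSpace 1 k) (CohB1.tensorPow (Twist.twistProjSpace 1 k 1) n) = n + 1 := by
  obtain ⟨e⟩ := SerreAmple.nonempty_twist_pow_iso 1 k n
  rw [euler_iso k _ e]
  have hc : Coh.IsCoh (Twist.twistProjSpace 1 k (n : ℤ)) :=
    InvQc.isCoh_of_isInvertible _ (Groth.Agent.Lib.Helper4.ClBridge2.isInvertible_twist 1 k _)
  rw [euler_eq_h0_sub_h1 k _ (dim_P1 k).le _ hc.1]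
  rw [Groth.Agent.Lib.Helper4.PnX1.fr_H0 k 1 n,
    Groth.Agent.Lib.Helper4.PnX1.fr_zero k 1 (n : ℤ) 1 (by omega) (by omega)]
  simp

end PLine

section TP
variable {X : Scheme.{u}}
/-- tensor powers respect isomorphisms -/
theorem nonempty_tensorPow_iso_of_iso {M N : X.Modules} (e : M ≅ N) (n : ℕ) :
    Nonempty (CohB1.tensorPow M n ≅ CohB1.tensorPow N n) := by
  induction n with
  | zero => exact ⟨Iso.refl _⟩
  | succ n ih =>
    obtain ⟨e'⟩ := ih
    exact ⟨PicGrp.tensorModIso e' e⟩
end TP

section Main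

variable (k : Type u) [Field k] (X : Scheme.{u}) [X.Over (Spec (CommRingCat.of k))]
  [IsIntegral X] [IsProper (X ↘ (Spec (CommRingCat.of k)))]

omit [IsIntegral X] in
/-- Euler characteristic of the tensor powers of a degree one invertible module on a curve with
`χ(O) = 1` -/
theorem euler_tensorPow_of_deg_one (hdim : topologicalKrullDim X = 1)
    (h0 : Module.finrank k (Coh.HH X (Coh.structureModule X) 0) = 1)
    (h1 : Subsingleton (Coh.HH X (Coh.structureModule X) 1))
    (L : X.Modules) (hL : PicF.IsInvertible L) (hdeg : Curv2.deg k X L 1 = 1) (n : ℕ) :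
    Curv2.euler k X (CohB1.tensorPow L n) = n + 1 := by
  haveI := isNoetherian_of_proper k X
  have hOc : Coh.IsCoh (Coh.structureModule X) :=
    InvQc.isCoh_of_isInvertible _ GenLoc.isInvertible_O
  have eO := euler_eq_h0_sub_h1 k X hdim.le _ hOc.1
  have hb2 : Module.finrank k (Coh.HH X (Coh.structureModule X) 1) = 0 :=
    Module.finrank_zero_of_subsingleton
  rw [h0, hb2] at eO
  have h2 := CurveAmp.deg_tensorPow k X hdim.le hL n
  rw [hdeg] at h2
  unfold Curv2.deg at h2
  rw [eO] at h2
  push_cast at h2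
  linarith

set_option maxHeartbeats 1600000 in
/-- a finite non-constant morphism to the projective line pulling `O(1)` back to a module of
degree one, from a curve with `h⁰(O) = 1`, `h¹(O) = 0`, is an isomorphism -/
theorem isIso_of_finite_of_deg_one (hdim : topologicalKrullDim X = 1)
    (h0 : Module.finrank k (Coh.HH X (Coh.structureModule X) 0) = 1)
    (h1 : Subsingleton (Coh.HH X (Coh.structureModule X) 1))
    (L : X.Modules) (hL : PicF.IsInvertible L) (hdeg : Curv2.deg k X L 1 = 1)
    (r : X ⟶ CohB1.ProjSpace 1 k)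
    (hr : r ≫ CohB1.ProjSpace.toSpec 1 k = X ↘ (Spec (CommRingCat.of k)))
    (τ : (Scheme.Modules.pullback r).obj (Twist.twistProjSpace 1 k 1) ≅ L) [IsFinite r]
    (x₁ : X) (hx₁ : r x₁ ≠ r (genericPoint X)) : IsIso r := by
  haveI := isNoetherian_of_proper k X
  haveI : IsNoetherian (CohB1.ProjSpace 1 k) := isNoetherian_of_proper k (CohB1.ProjSpace 1 k)
  -- dominance
  have hdom : r (genericPoint X) = genericPoint (CohB1.ProjSpace 1 k) := by
    by_contra hne
    have hcl := isClosed_of_ne_genericPoint k _ hne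
    have hsp : r (genericPoint X) ⤳ r x₁ := (genericPoint_specializes x₁).map r.continuous
    have hmem : r x₁ ∈ closure ({r (genericPoint X)} : Set (CohB1.ProjSpace 1 k)) := hsp.mem_closure
    rw [hcl.closure_eq] at hmem
    exact hx₁ (Set.mem_singleton_iff.1 hmem)
  haveI hmono := mono_unitMap_of_dominant r hdom
  have hOX : Coh.IsCoh (Coh.structureModule X) :=
    InvQc.isCoh_of_isInvertible _ GenLoc.isInvertible_O
  have hOP : Coh.IsCoh (Coh.structureModule (CohB1.ProjSpace 1 k)) :=
    InvQc.isCoh_of_isInvertible _ GenLoc.isInvertible_O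
  have hA : Coh.IsCoh (Curve.pushO r) := FinPush.isCoh_pushforward r _ hOX
  have hC : Coh.IsCoh (cokernel (Curve.unitMap r)) := FtLocal.isCoh_cokernel hOP hA _
  let S : ShortComplex (CohB1.ProjSpace 1 k).Modules :=
    ShortComplex.mk (Curve.unitMap r) (cokernel.π _) (cokernel.condition _)
  have hS : S.ShortExact :=
    { exact := ShortComplex.exact_cokernel _
      mono_f := hmono
      epi_g := inferInstanceAs (Epi (cokernel.π (Curve.unitMap r))) }
  have hO1 : PicF.IsInvertible (Twist.twistProjSpace 1 k 1) :=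
    Groth.Agent.Lib.Helper4.ClBridge2.isInvertible_twist 1 k 1
  have hample : CohB1.IsAmple (Twist.twistProjSpace 1 k 1) := VA5.isAmple_twistProjSpace 1 k
  -- the Euler characteristics of the twists of the cokernel vanish
  have hχ : ∀ n : ℕ, Curv2.euler k (CohB1.ProjSpace 1 k) (CohB1.tensorMod (cokernel (Curve.unitMap r))
      (CohB1.tensorPow (Twist.twistProjSpace 1 k 1) n)) = 0 := by
    intro n
    have hEinv : PicF.IsInvertible (CohB1.tensorPow (Twist.twistProjSpace 1 k 1) n) :=
      isInvertible_tensorPow hO1 n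
    have hEc : Coh.IsCoh (CohB1.tensorPow (Twist.twistProjSpace 1 k 1) n) :=
      InvQc.isCoh_of_isInvertible _ hEinv
    have hSE := Groth.Agent.Lib.Helper4.TwExact.shortExact_map
      (Groth.Agent.Lib.Helper4.TwExact.locGen_of_isInvertible _ hEinv) hS
    have hadd := euler_additive k (CohB1.ProjSpace 1 k) _ hSE
      (show Coh.IsCoh (CohB1.tensorMod (Coh.structureModule (CohB1.ProjSpace 1 k)) _) from
        Euler.isCoh_tensor _ _ hOP hEc)
      (show Coh.IsCoh (CohB1.tensorMod (Curve.pushO r) _) from Euler.isCoh_tensor _ _ hA hEc)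
      (show Coh.IsCoh (CohB1.tensorMod (cokernel (Curve.unitMap r)) _) from
        Euler.isCoh_tensor _ _ hC hEc)
    have hadd' : Curv2.euler k (CohB1.ProjSpace 1 k) (CohB1.tensorMod (Curve.pushO r)
          (CohB1.tensorPow (Twist.twistProjSpace 1 k 1) n)) =
        Curv2.euler k (CohB1.ProjSpace 1 k) (CohB1.tensorMod (Coh.structureModule _)
          (CohB1.tensorPow (Twist.twistProjSpace 1 k 1) n)) +
        Curv2.euler k (CohB1.ProjSpace 1 k) (CohB1.tensorMod (cokernel (Curve.unitMap r))
          (CohB1.tensorPow (Twist.twistProjSpace 1 k 1) n)) := hadd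
    -- first term
    obtain ⟨e1⟩ := TwistAmpleOpen.nonempty_tensorMod_unit_iso
      (CohB1.tensorPow (Twist.twistProjSpace 1 k 1) n)
    rw [euler_iso k _ e1, euler_tensorPow_P1] at hadd'
    -- middle term
    have e2 := TildeTens.tensorModComm (Curve.pushO r) (CohB1.tensorPow (Twist.twistProjSpace 1 k 1) n)
    rw [euler_iso k _ e2, ← euler_pullback_eq k (CohB1.ProjSpace 1 k) X r hr _ (InvInv2.isFinLocFree_of_isInvertible hEinv)]
      at hadd'
    obtain ⟨e3⟩ := nonempty_pullback_tensorPow_iso r hO1 n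
    obtain ⟨e4⟩ := nonempty_tensorPow_iso_of_iso τ n
    rw [euler_iso k _ (e3 ≪≫ e4), euler_tensorPow_of_deg_one k X hdim h0 h1 L hL hdeg n] at hadd'
    linarith
  -- vanishing and global generation for large twists
  obtain ⟨n₀, hn₀⟩ := SerreAmple.serre_vanishing k (CohB1.ProjSpace.toSpec 1 k) hample _ hC
  obtain ⟨n₁, hn₁⟩ := AmpleLib.eventually_globallyGenerated hample _ hC
  have hgg := hn₁ (max n₀ n₁) (le_max_right _ _)
  haveI hv := hn₀ (max n₀ n₁) (le_max_left _ _) 1 one_pos
  have hEinv : PicF.IsInvertible (CohB1.tensorPow (Twist.twistProjSpace 1 k 1) (max n₀ n₁)) :=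
    isInvertible_tensorPow hO1 _
  have hTc : Coh.IsCoh (CohB1.tensorMod (cokernel (Curve.unitMap r))
      (CohB1.tensorPow (Twist.twistProjSpace 1 k 1) (max n₀ n₁))) :=
    Euler.isCoh_tensor _ _ hC (InvQc.isCoh_of_isInvertible _ hEinv)
  have he := euler_eq_h0_sub_h1 k (CohB1.ProjSpace 1 k) (dim_P1 k).le _ hTc.1
  rw [hχ, Module.finrank_zero_of_subsingleton (M := Coh.HH _ _ 1)] at he
  haveI : Module.Finite k (Coh.HH (CohB1.ProjSpace 1 k) (CohB1.tensorMod (cokernel (Curve.unitMap r))
      (CohB1.tensorPow (Twist.twistProjSpace 1 k 1) (max n₀ n₁))) 0) := Groth.Agent.Lib.Helper4.T2Main1.t2 k _ _ hTc 0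
  have hfr : Module.finrank k (Coh.HH (CohB1.ProjSpace 1 k) (CohB1.tensorMod
      (cokernel (Curve.unitMap r)) (CohB1.tensorPow (Twist.twistProjSpace 1 k 1) (max n₀ n₁))) 0) = 0 := by
    have : (Module.finrank k (Coh.HH (CohB1.ProjSpace 1 k) (CohB1.tensorMod
      (cokernel (Curve.unitMap r)) (CohB1.tensorPow (Twist.twistProjSpace 1 k 1) (max n₀ n₁))) 0) : ℤ) = 0 := by
      push_cast at he
      linarith
    exact_mod_cast this
  haveI hsub : Subsingleton (Coh.HH (CohB1.ProjSpace 1 k) (CohB1.tensorMod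
      (cokernel (Curve.unitMap r)) (CohB1.tensorPow (Twist.twistProjSpace 1 k 1) (max n₀ n₁))) 0) :=
    Module.finrank_zero_iff.1 hfr
  have hsubΓ : Subsingleton Γ(CohB1.tensorMod (cokernel (Curve.unitMap r))
      (CohB1.tensorPow (Twist.twistProjSpace 1 k 1) (max n₀ n₁)), ⊤) :=
    (HH0.equiv _ _).symm.injective.subsingleton
  have hz1 := isZero_of_gg_of_subsingleton_top _ hgg hsubΓ
  have hz : IsZero (cokernel (Curve.unitMap r)) := isZero_of_isZero_tensor _ _ hEinv hz1
  haveI : Epi (Curve.unitMap r) := by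
    apply Preadditive.epi_of_cokernel_zero
    exact hz.eq_of_tgt _ _
  haveI : IsIso (Curve.unitMap r) := isIso_of_mono_of_epi _
  haveI : IsAffineHom r := inferInstance
  apply Curve.isIso_of_app_bijective
  intro V
  have hb : Function.Bijective ((Curve.unitMap r).app V) := by
    have := (Scheme.Modules.Hom.isIso_iff_isIso_app (φ := Curve.unitMap r)).1 inferInstance V
    exact (ConcreteCategory.isIso_iff_bijective _).1 this
  refine ⟨fun a b hab => hb.1 ?_, fun y => ?_⟩
  · rw [Curve.unitMap_app, Curve.unitMap_app]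
    exact hab
  · obtain ⟨a, ha⟩ := hb.2 y
    exact ⟨a, by rw [← ha, Curve.unitMap_app]⟩

end Main



section Final

variable (k : Type u) [Field k] (X : Scheme.{u}) [X.Over (Spec (CommRingCat.of k))]
  [IsIntegral X] [IsProper (X ↘ (Spec (CommRingCat.of k)))]

/-- a curve with `h⁰(O) = 1`, `h¹(O) = 0` carrying an invertible module of degree one is the
projective line -/
theorem exists_iso_P1 (hdim : topologicalKrullDim X = 1)
    (h0 : Module.finrank k (Coh.HH X (Coh.structureModule X) 0) = 1)
    (h1 : Subsingleton (Coh.HH X (Coh.structureModule X) 1))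
    (L : X.Modules) (hL : PicF.IsInvertible L) (hdeg : Curv2.deg k X L 1 = 1) :
    ∃ (r : X ⟶ CohB1.ProjSpace 1 k)
      (_ : r ≫ CohB1.ProjSpace.toSpec 1 k = X ↘ (Spec (CommRingCat.of k)))
      (_ : (Scheme.Modules.pullback r).obj (Twist.twistProjSpace 1 k 1) ≅ L), IsIso r := by
  obtain ⟨r, hr, τ, hfin, x₁, hx₁⟩ := exists_finite_to_P1 k X hdim h0 h1 L hL hdeg
  exact ⟨r, hr, τ, isIso_of_finite_of_deg_one k X hdim h0 h1 L hL hdeg r hr τ x₁ hx₁⟩

end Final

end Groth.Agent.Helper1.P1Iso
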