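import Mathlib
import Groth.Agent.Lib.Helper1.P1Iso2
import Groth.Agent.Lib.Helper1.GlobField1

/-!
# Curves of genus zero with an invertible module of degree one (helper1)
-/

set_option autoImplicit false
universe u
open CategoryTheory CategoryTheory.Limits AlgebraicGeometry TopologicalSpace Opposite

namespace Groth.Agent.Helper1.P1Iso

open Groth.Agent.Helper1.QcCech Groth.Agent.Helper1.LGen Groth.Agent.Helper1
open Groth.Agent.Helper1.TwForm Groth.Agent.Helper1.CurveLin
open Groth.Agent.Helper1.Euler Groth.Agent.Helper1.Curve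

section Final

variable (k : Type u) [Field k] (X : Scheme.{u}) [X.Over (Spec (CommRingCat.of k))]
  [IsIntegral X] [IsProper (X ↘ (Spec (CommRingCat.of k)))]

/-- if some invertible module has degree one then `H⁰(X, O_X) = k` -/
theorem finrank_H0_eq_one_of_deg_one (L : X.Modules) (hL : PicF.IsInvertible L)
    (hdeg : Curv2.deg k X L 1 = 1) :
    Module.finrank k (Coh.HH X (Coh.structureModule X) 0) = 1 := by
  letI a1 : Algebra k Γ(X, ⊤) := (toΓ' k X (X ↘ Spec (CommRingCat.of k))).toAlgebra
  obtain ⟨Le⟩ := nonempty_HH_zero_linearEquiv' k X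
  obtain ⟨-, -, hdvd, -, -⟩ := GlobField.main k X
  have h := hdvd 1 L (isFinLocFreeOfRank_one hL)
  rw [hdeg] at h
  have h2 : Module.finrank k Γ(X, ⊤) = 1 := by
    have := Int.eq_one_of_dvd_one (by positivity) h
    exact_mod_cast this
  rw [Le.finrank_eq]
  exact h2

/-- S6541 -/
theorem iso_P1_of_deg_one (hdim : topologicalKrullDim X = 1)
    (h1 : Subsingleton (Coh.HH X (Coh.structureModule X) 1))
    (L : X.Modules) (hL : PicF.IsInvertible L) (hdeg : Curv2.deg k X L 1 = 1) :
    ∃ e : X ≅ CohB1.ProjSpace 1 k,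
      e.hom ≫ CohB1.ProjSpace.toSpec 1 k = X ↘ (Spec (CommRingCat.of k)) := by
  have h0 := finrank_H0_eq_one_of_deg_one k X L hL hdeg
  obtain ⟨r, hr, -, hiso⟩ := exists_iso_P1 k X hdim h0 h1 L hL hdeg
  exact ⟨asIso r, hr⟩

end Final

section IsoInv

variable (k : Type u) [Field k] (X Y : Scheme.{u}) [X.Over (Spec (CommRingCat.of k))]
  [Y.Over (Spec (CommRingCat.of k))]

omit [X.Over (Spec (CommRingCat.of k))] [Y.Over (Spec (CommRingCat.of k))] in
theorem isIso_unitMap_of_isIso (f : Y ⟶ X) [IsIso f] : IsIso (Curve.unitMap f) := by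
  apply TwForm.isIso_of_app_bijective
  intro V
  have hb : Function.Bijective (f.app V) := ConcreteCategory.bijective_of_isIso (f.app V)
  refine ⟨fun a b hab => hb.1 ?_, fun y => ?_⟩
  · rw [Curve.unitMap_app, Curve.unitMap_app] at hab
    exact hab
  · obtain ⟨a, ha⟩ := hb.2 y
    exact ⟨a, by rw [Curve.unitMap_app]; exact ha⟩

/-- Euler characteristics are invariant under isomorphisms over `k` -/
theorem euler_pullback_of_isIso (f : Y ⟶ X) [IsIso f]
    (hf : f ≫ (X ↘ (Spec (CommRingCat.of k))) = Y ↘ (Spec (CommRingCat.of k)))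
    (E : X.Modules) (hE : FlatMod.IsFinLocFree E) :
    Curv2.euler k Y ((Scheme.Modules.pullback f).obj E) = Curv2.euler k X E := by
  haveI := isIso_unitMap_of_isIso X Y f
  rw [euler_pullback_eq k X Y f hf E hE]
  obtain ⟨e1⟩ := TwistAmpleOpen.nonempty_tensorMod_unit_iso E
  exact euler_iso k X (PicGrp.tensorModIso (Iso.refl E) (asIso (Curve.unitMap f)).symm ≪≫
    TildeTens.tensorModComm _ _ ≪≫ e1)

end IsoInv

section Iff

variable (k : Type u) [Field k] (X : Scheme.{u}) [X.Over (Spec (CommRingCat.of k))]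
  [IsIntegral X] [IsProper (X ↘ (Spec (CommRingCat.of k)))]

/-- S11573 (for proper curves) -/
theorem iso_P1_iff (hdim : topologicalKrullDim X = 1) :
    (∃ e : X ≅ CohB1.ProjSpace 1 k,
      e.hom ≫ CohB1.ProjSpace.toSpec 1 k = X ↘ (Spec (CommRingCat.of k))) ↔
      ∃ L : X.Modules, PicF.IsInvertible L ∧ Curv2.deg k X L 1 = 1 ∧
        2 ≤ Module.finrank k (Coh.HH X L 0) := by
  haveI := isNoetherian_of_proper k X
  constructor
  · rintro ⟨e, he⟩
    have hO1 : PicF.IsInvertible (Twist.twistProjSpace 1 k 1) :=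
      Groth.Agent.Lib.Helper4.ClBridge2.isInvertible_twist 1 k 1
    have hL : PicF.IsInvertible ((Scheme.Modules.pullback e.hom).obj (Twist.twistProjSpace 1 k 1)) :=
      PullGen.isInvertible_pullback e.hom hO1
    refine ⟨_, hL, ?_, ?_⟩
    all_goals
      have hχL : Curv2.euler k X ((Scheme.Modules.pullback e.hom).obj (Twist.twistProjSpace 1 k 1)) = 2 := by
        rw [euler_pullback_of_isIso k (CohB1.ProjSpace 1 k) X e.hom he _
          (InvInv2.isFinLocFree_of_isInvertible hO1)]
        obtain ⟨e1⟩ := TwistAmpleOpen.nonempty_tensorMod_unit_iso (Twist.twistProjSpace 1 k 1)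
        have h := euler_tensorPow_P1 k 1
        rw [← euler_iso k _ e1]
        exact h
      have hχO : Curv2.euler k X (Coh.structureModule X) = 1 := by
        rw [← euler_iso k X (PullSec.unitIso e.hom),
          euler_pullback_of_isIso k (CohB1.ProjSpace 1 k) X e.hom he _
          (InvInv2.isFinLocFree_of_isInvertible GenLoc.isInvertible_O)]
        have h := euler_tensorPow_P1 k 0
        have h' : Curv2.euler k (CohB1.ProjSpace 1 k) (Coh.structureModule (CohB1.ProjSpace 1 k)) =
            ((0 : ℕ) : ℤ) + 1 := h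
        rw [h']
        norm_num
    · unfold Curv2.deg
      rw [hχL, hχO]
      norm_num
    · have hLc := InvQc.isCoh_of_isInvertible _ hL
      have h := euler_eq_h0_sub_h1 k X hdim.le _ hLc.1
      rw [hχL] at h
      have : (2 : ℤ) ≤ (Module.finrank k (Coh.HH X ((Scheme.Modules.pullback e.hom).obj
          (Twist.twistProjSpace 1 k 1)) 0) : ℤ) := by
        have h2 : (0 : ℤ) ≤ (Module.finrank k (Coh.HH X ((Scheme.Modules.pullback e.hom).obj
          (Twist.twistProjSpace 1 k 1)) 1) : ℤ) := Int.natCast_nonneg _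
        linarith
      exact_mod_cast this
  · rintro ⟨L, hL, hdeg, h2⟩
    have h0 := finrank_H0_eq_one_of_deg_one k X L hL hdeg
    have hs : Nontrivial (Coh.HH X L 0) := by
      by_contra hcon
      rw [not_nontrivial_iff_subsingleton] at hcon
      rw [Module.finrank_zero_of_subsingleton] at h2
      omega
    obtain ⟨hle, heq⟩ := CurveLin.main k X hdim h0 L hL hs
    rw [hdeg] at hle heq
    have hg : Curv2.genus k X = 0 := by
      apply heq _ one_pos
      have : (2 : ℤ) ≤ (Module.finrank k (Coh.HH X L 0) : ℤ) := by exact_mod_cast h2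
      linarith
    have hOc : Coh.IsCoh (Coh.structureModule X) :=
      InvQc.isCoh_of_isInvertible _ GenLoc.isInvertible_O
    haveI : Module.Finite k (Coh.HH X (Coh.structureModule X) 1) :=
      Groth.Agent.Lib.Helper4.T2Main1.t2 k X _ hOc 1
    have h1 : Subsingleton (Coh.HH X (Coh.structureModule X) 1) := by
      unfold Curv2.genus at hg
      exact Module.finrank_zero_iff.1 hg
    exact iso_P1_of_deg_one k X hdim h1 L hL hdeg

end Iff

end Groth.Agent.Helper1.P1Iso
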