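import Mathlib
import Groth.Agent.Lib.Helper1.PtDeg2
import Groth.Agent.Lib.Helper1.P1Iso3

/-!
# Degrees of invertible modules form a subgroup; curves of genus zero with points of coprime
degrees (helper1)
-/

set_option autoImplicit false
universe u
open CategoryTheory CategoryTheory.Limits AlgebraicGeometry TopologicalSpace Opposite

namespace Groth.Agent.Helper1.PtDeg

open Groth.Agent.Helper1.CurveDual Groth.Agent.Helper1.CurvePt Groth.Agent.Helper1.CurveLin
open Groth.Agent.Helper1.Euler Groth.Agent.Helper1.Curve Groth.Agent.Helper1.PtInv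
open Groth.Agent.Helper1 Groth.Agent.Helper1.LGen Groth.Agent.Helper1.TwForm

attribute [local instance] Curv2.resAlgebra

section DegGroup

variable (k : Type u) [Field k] (X : Scheme.{u}) [X.Over (Spec (CommRingCat.of k))]
  [IsIntegral X] [IsProper (X ↘ (Spec (CommRingCat.of k)))]

/-- the degrees of invertible modules on a proper curve form a subgroup of `ℤ` -/
noncomputable def degGroup (hdim : topologicalKrullDim X ≤ 1) : AddSubgroup ℤ where
  carrier := {d | ∃ L : X.Modules, PicF.IsInvertible L ∧ Curv2.deg k X L 1 = d}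
  zero_mem' := ⟨Coh.structureModule X, GenLoc.isInvertible_O, deg_structureModule k X⟩
  add_mem' := by
    rintro a b ⟨L, hL, rfl⟩ ⟨M, hM, rfl⟩
    refine ⟨CohB1.tensorMod L M, isInvertible_tensorMod hL hM, ?_⟩
    have h := deg_tensor_locFree k X hdim 1 1 L M (isFinLocFreeOfRank_one hL)
      (isFinLocFreeOfRank_one hM)
    simp only [mul_one, Nat.cast_one, one_mul] at h
    rw [h]
    ring
  neg_mem' := by
    rintro a ⟨L, hL, rfl⟩
    obtain ⟨K, hK, ⟨e⟩⟩ := InvInv2.exists_inverse hL
    refine ⟨K, hK, ?_⟩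
    have h := deg_tensor_locFree k X hdim 1 1 K L (isFinLocFreeOfRank_one hK)
      (isFinLocFreeOfRank_one hL)
    have h0 : Curv2.deg k X (CohB1.tensorMod K L) (1 * 1) = 0 := by
      rw [← deg_structureModule k X]
      unfold Curv2.deg
      rw [euler_iso k X e]
    rw [h0] at h
    push_cast at h
    linarith

theorem mem_degGroup_iff (hdim : topologicalKrullDim X ≤ 1) (d : ℤ) :
    d ∈ degGroup k X hdim ↔ ∃ L : X.Modules, PicF.IsInvertible L ∧ Curv2.deg k X L 1 = d :=
  Iff.rfl

/-- if the subgroup of degrees contains integers with greatest common divisor one, there is an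
invertible module of degree one -/
theorem exists_deg_one_of_gcd (hdim : topologicalKrullDim X ≤ 1) {ι : Type*} (s : Finset ι)
    (f : ι → ℕ) (hf : ∀ i ∈ s, (f i : ℤ) ∈ degGroup k X hdim) (hgcd : s.gcd f = 1) :
    ∃ L : X.Modules, PicF.IsInvertible L ∧ Curv2.deg k X L 1 = 1 := by
  rw [← mem_degGroup_iff k X hdim]
  obtain ⟨a, ha⟩ := Int.subgroup_cyclic (degGroup k X hdim)
  rw [← AddSubgroup.zmultiples_eq_closure] at ha
  have hdvd : ∀ i ∈ s, a.natAbs ∣ f i := by
    intro i hi
    have h1 := hf i hi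
    rw [ha, Int.mem_zmultiples_iff] at h1
    exact Int.natAbs_dvd_natAbs.2 h1
  have h1 : a.natAbs ∣ s.gcd f := Finset.dvd_gcd hdvd
  rw [hgcd, Nat.dvd_one] at h1
  have ha_mem : a ∈ degGroup k X hdim := by
    rw [ha]
    exact AddSubgroup.mem_zmultiples a
  rcases Int.natAbs_eq a with h | h
  · rw [h1] at h
    rw [h] at ha_mem
    exact_mod_cast ha_mem
  · rw [h1] at h
    have := (degGroup k X hdim).neg_mem ha_mem
    rw [h] at this
    simpa using this

end DegGroup

section Coprime

variable (k : Type u) [Field k] (X : Scheme.{u}) [X.Over (Spec (CommRingCat.of k))]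
  [IsIntegral X] [IsProper (X ↘ (Spec (CommRingCat.of k)))]

/-- S6542 -/
theorem iso_P1_of_coprime_points (hdim : topologicalKrullDim X = 1)
    (h1 : Subsingleton (Coh.HH X (Coh.structureModule X) 1))
    (s : Finset X) (hcl : ∀ x ∈ s, IsClosed ({x} : Set X))
    (hn : ∀ x ∈ s, IsIntegrallyClosed (X.presheaf.stalk x))
    (hgcd : s.gcd (fun x => Module.finrank k (X.residueField x)) = 1) :
    ∃ e : X ≅ CohB1.ProjSpace 1 k,
      e.hom ≫ CohB1.ProjSpace.toSpec 1 k = X ↘ (Spec (CommRingCat.of k)) := by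
  haveI := isNoetherian_of_proper k X
  have hf : ∀ x ∈ s, ((Module.finrank k (X.residueField x) : ℕ) : ℤ) ∈ degGroup k X hdim.le := by
    intro x hx
    have hI := isInvertible_ptIdeal_of_isIntegrallyClosed X hdim x (hcl x hx) (hn x hx)
    have hmem : -((Module.finrank k (X.residueField x) : ℕ) : ℤ) ∈ degGroup k X hdim.le :=
      ⟨_, hI, deg_ptIdeal' k X x (hcl x hx)⟩
    have := (degGroup k X hdim.le).neg_mem hmem
    simpa using this
  obtain ⟨L, hL, hdeg⟩ := exists_deg_one_of_gcd k X hdim.le s _ hf hgcd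
  exact P1Iso.iso_P1_of_deg_one k X hdim h1 L hL hdeg

end Coprime

end Groth.Agent.Helper1.PtDeg
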