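import Mathlib
import Groth.Agent.Lib.Helper1.P1Iso1

/-!
# Sections of invertible modules at rational points (helper1)

At a point with residue field `k`, the sections of an invertible module which do not generate at
the point form a subspace of codimension at most one.
-/

set_option autoImplicit false
universe u
open CategoryTheory CategoryTheory.Limits AlgebraicGeometry TopologicalSpace Opposite

namespace Groth.Agent.Helper1.RatPt

open Groth.Agent.Helper1.QcCech Groth.Agent.Helper1.LGen Groth.Agent.Helper1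
open Groth.Agent.Helper1.TwForm Groth.Agent.Helper1.CurveLin Groth.Agent.Helper1.P1Iso

section Gen

variable {X : Scheme.{u}} {L : X.Modules}

/-- a section whose coefficient with respect to a local generator vanishes at `x` does not
generate at `x` -/
theorem not_genAt_of_coeff {x : X} {V : X.Opens} (hxV : x ∈ V) {g : Γ(L, V)} (hg : IsGen L V g)
    (σ : Γ(L, ⊤)) (a : Γ(X, V)) (ha : a • g = res L (le_top : V ≤ ⊤) σ)
    (hax : x ∉ X.basicOpen a) : ¬ GenAt L σ x := by
  rintro ⟨V', hxV', hV'⟩
  apply hax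
  have hT1 : V ⊓ V' ≤ V := inf_le_left
  have hT2 : V ⊓ V' ≤ V' := inf_le_right
  have hgT : IsGen L (V ⊓ V') (res L hT1 g) := hg.res hT1
  have hσT : IsGen L (V ⊓ V') (res L hT2 (res L (le_top : V' ≤ ⊤) σ)) := hV'.res hT2
  obtain ⟨b, hb⟩ := hσT.exists_coeff (res L hT1 g)
  have hσ' : res L hT2 (res L (le_top : V' ≤ ⊤) σ) = resR hT1 a • res L hT1 g := by
    rw [← res_smul, ha, res_res, res_res]
  have hba : b * resR hT1 a = 1 := by
    apply (hgT (V ⊓ V') le_rfl).1
    show (b * resR hT1 a) • res L le_rfl _ = (1 : Γ(X, V ⊓ V')) • res L le_rfl _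
    rw [res_self, one_smul, mul_smul, ← hσ', hb]
  have hu : IsUnit (resR hT1 a) := IsUnit.of_mul_eq_one _ (by rw [mul_comm]; exact hba)
  have hmem : x ∈ X.basicOpen (resR hT1 a) := by
    rw [X.basicOpen_of_isUnit hu]
    exact ⟨hxV, hxV'⟩
  have hres : X.basicOpen (resR hT1 a) = (V ⊓ V') ⊓ X.basicOpen a :=
    Scheme.basicOpen_res X a (homOfLE hT1).op
  rw [hres] at hmem
  exact hmem.2

/-- a sum of sections none of which generates at `x` does not generate at `x` -/
theorem not_genAt_sum {ι : Type*} (s : Finset ι) (c : ι → Γ(X, ⊤)) (τ : ι → Γ(L, ⊤)) (x : X)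
    (h : ∀ i ∈ s, ¬ GenAt L (τ i) x) (hne : ¬ GenAt L (0 : Γ(L, ⊤)) x) :
    ¬ GenAt L (∑ i ∈ s, c i • τ i) x := by
  classical
  induction s using Finset.induction_on with
  | empty => simpa using hne
  | insert a s ha ih =>
    rw [Finset.sum_insert ha]
    intro hg
    rcases genAt_add _ _ x hg with h1 | h1
    · exact h a (Finset.mem_insert_self a s) (genAt_of_smul _ _ x h1)
    · exact ih (fun i hi => h i (Finset.mem_insert_of_mem hi)) h1

end Gen

section Rat

variable (k : Type u) [Field k] (X : Scheme.{u}) [X.Over (Spec (CommRingCat.of k))]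

/-- at a point with residue field `k` every function differs from a constant by a function
vanishing at the point -/
theorem exists_sub_const_notMem_basicOpen (x : X)
    (hx : Function.Surjective (Curv2.resMap k X x)) {V : X.Opens} (hxV : x ∈ V) (a : Γ(X, V)) :
    ∃ c : k, x ∉ X.basicOpen
      (a - resR (le_top : V ≤ ⊤) (Coh.toGlobal (X ↘ Spec (CommRingCat.of k)) c)) := by
  obtain ⟨c, hc⟩ := hx ((X.residue x).hom (X.presheaf.germ V x hxV a))
  refine ⟨c, ?_⟩
  rw [Scheme.mem_basicOpen _ _ _ hxV]
  intro hu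
  have h1 : (X.residue x).hom (X.presheaf.germ V x hxV
      (a - resR (le_top : V ≤ ⊤) (Coh.toGlobal (X ↘ Spec (CommRingCat.of k)) c))) = 0 := by
    rw [map_sub, map_sub, sub_eq_zero, ← hc]
    show (X.residue x).hom ((X.presheaf.germ ⊤ x trivial).hom
      (Coh.toGlobal (X ↘ Spec (CommRingCat.of k)) c)) = _
    congr 1
    exact (TopCat.Presheaf.germ_res_apply X.presheaf (homOfLE (le_top : V ≤ ⊤)) x hxV _).symm
  have h2 := hu.map (X.residue x).hom
  rw [h1] at h2
  exact not_isUnit_zero h2

variable {X}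

/-- **codimension one**: at a rational point where `σ` generates, every section is congruent to a
constant multiple of `σ` modulo sections that do not generate at the point -/
theorem exists_sub_smul_not_genAt {L : X.Modules} (x : X)
    (hx : Function.Surjective (Curv2.resMap k X x)) (σ τ : Γ(L, ⊤)) (hσ : GenAt L σ x) :
    ∃ c : k, ¬ GenAt L
      (τ - (show Γ(X, ⊤) from Coh.toGlobal (X ↘ Spec (CommRingCat.of k)) c) • σ) x := by
  obtain ⟨V, hxV, hV⟩ := hσ
  obtain ⟨a, ha⟩ := hV.exists_coeff (res L (le_top : V ≤ ⊤) τ)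
  obtain ⟨c, hc⟩ := exists_sub_const_notMem_basicOpen k X x hx hxV a
  refine ⟨c, not_genAt_of_coeff hxV hV _ _ ?_ hc⟩
  rw [sub_smul, ha, map_sub, res_smul]

/-- the zero section generates nowhere -/
theorem not_genAt_zero {L : X.Modules} (x : X) : ¬ GenAt L (0 : Γ(L, ⊤)) x := by
  rintro ⟨V, hxV, hV⟩
  have h10 : (1 : Γ(X, V)) = 0 := by
    apply (hV V le_rfl).1
    show (1 : Γ(X, V)) • res L le_rfl _ = (0 : Γ(X, V)) • res L le_rfl _
    rw [map_zero, map_zero, smul_zero, smul_zero]
  have h := congrArg (X.presheaf.germ V x hxV).hom h10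
  rw [map_one, map_zero] at h
  exact one_ne_zero h

/-- one rational point imposes at most one linear condition -/
theorem exists_condition {L : X.Modules} (x : X)
    (hx : Function.Surjective (Curv2.resMap k X x)) {m : ℕ} (t : Fin m → Γ(L, ⊤)) :
    ∃ cc : Fin m → k, ∀ c : Fin m → k, ∑ j, c j * cc j = 0 →
      ¬ GenAt L (∑ j, (show Γ(X, ⊤) from Coh.toGlobal (X ↘ Spec (CommRingCat.of k)) (c j)) • t j)
        x := by
  classical
  by_cases hex : ∃ j₀, GenAt L (t j₀) x
  · obtain ⟨j₀, hj₀⟩ := hex
    have hch : ∀ j, ∃ c : k, ¬ GenAt L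
        (t j - (show Γ(X, ⊤) from Coh.toGlobal (X ↘ Spec (CommRingCat.of k)) c) • t j₀) x :=
      fun j => exists_sub_smul_not_genAt k x hx (t j₀) (t j) hj₀
    choose cc hcc using hch
    refine ⟨cc, fun c hc => ?_⟩
    have hsum : ∑ j, (show Γ(X, ⊤) from Coh.toGlobal (X ↘ Spec (CommRingCat.of k)) (c j)) • t j =
        ∑ j, (show Γ(X, ⊤) from Coh.toGlobal (X ↘ Spec (CommRingCat.of k)) (c j)) •
          (t j - (show Γ(X, ⊤) from Coh.toGlobal (X ↘ Spec (CommRingCat.of k)) (cc j)) • t j₀) := by
      have h2 : ∑ j, (show Γ(X, ⊤) from Coh.toGlobal (X ↘ Spec (CommRingCat.of k)) (c j)) •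
          ((show Γ(X, ⊤) from Coh.toGlobal (X ↘ Spec (CommRingCat.of k)) (cc j)) • t j₀) = 0 := by
        simp only [smul_smul]
        rw [← Finset.sum_smul]
        have h3 : ∑ j, (show Γ(X, ⊤) from Coh.toGlobal (X ↘ Spec (CommRingCat.of k)) (c j)) *
            (show Γ(X, ⊤) from Coh.toGlobal (X ↘ Spec (CommRingCat.of k)) (cc j)) = 0 := by
          have := congrArg (Coh.toGlobal (X ↘ Spec (CommRingCat.of k))) hc
          rw [map_sum, map_zero] at this
          simp only [map_mul] at this
          exact this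
        rw [h3, zero_smul]
      simp only [smul_sub, Finset.sum_sub_distrib]
      rw [h2, sub_zero]
    rw [hsum]
    exact not_genAt_sum Finset.univ _ _ x (fun j _ => hcc j) (not_genAt_zero x)
  · push Not at hex
    exact ⟨0, fun c _ => not_genAt_sum Finset.univ _ _ x (fun j _ => hex j) (not_genAt_zero x)⟩

/-- **`n` rational points impose at most `n` conditions**: among `n + 1` sections some nontrivial
combination generates at none of `n` given rational points -/
theorem exists_ne_zero_not_genAt {L : X.Modules} (n : ℕ) (P : Fin n → X)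
    (hP : ∀ i, Function.Surjective (Curv2.resMap k X (P i))) (t : Fin (n + 1) → Γ(L, ⊤)) :
    ∃ c : Fin (n + 1) → k, c ≠ 0 ∧ ∀ i, ¬ GenAt L
      (∑ j, (show Γ(X, ⊤) from Coh.toGlobal (X ↘ Spec (CommRingCat.of k)) (c j)) • t j) (P i) := by
  classical
  have hch := fun i => exists_condition k (P i) (hP i) t
  choose cc hcc using hch
  let Φ : (Fin (n + 1) → k) →ₗ[k] (Fin n → k) :=
    { toFun := fun c i => ∑ j, c j * cc i j
      map_add' := fun c c' => by
        funext i
        simp only [Pi.add_apply, add_mul, Finset.sum_add_distrib]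
      map_smul' := fun r c => by
        funext i
        simp only [Pi.smul_apply, smul_eq_mul, RingHom.id_apply, mul_assoc, Finset.mul_sum] }
  have hker : LinearMap.ker Φ ≠ ⊥ := by
    apply LinearMap.ker_ne_bot_of_finrank_lt
    rw [Module.finrank_fin_fun, Module.finrank_fin_fun]
    omega
  obtain ⟨c, hcmem, hc0⟩ := Submodule.exists_mem_ne_zero_of_ne_bot hker
  refine ⟨c, hc0, fun i => hcc i c ?_⟩
  exact congrFun (LinearMap.mem_ker.1 hcmem) i

end Rat

end Groth.Agent.Helper1.RatPt
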