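import Mathlib
import Groth.Agent.Lib.Helper1.PtDeg5
import Groth.Agent.Lib.Helper1.PtDeg3
import Groth.Agent.Lib.Helper1.GlobField1
import Groth.Agent.Lib.Helper1.RatPt1

/-!
# Curves of genus one with a rational point: `P ↦ O(P - O)` (helper1)
-/

set_option autoImplicit false
universe u
open CategoryTheory CategoryTheory.Limits AlgebraicGeometry TopologicalSpace Opposite

namespace Groth.Agent.Helper1.GenusOne

open Groth.Agent.Helper1.CurveDual Groth.Agent.Helper1.CurvePt Groth.Agent.Helper1.CurveLin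
open Groth.Agent.Helper1.Euler Groth.Agent.Helper1.Curve Groth.Agent.Helper1.PtInv
open Groth.Agent.Helper1 Groth.Agent.Helper1.LGen Groth.Agent.Helper1.TwForm
open Groth.Agent.Helper1.QcCech Groth.Agent.Helper1.PtDeg Groth.Agent.Helper1.P1Iso
open Groth.Agent.Lib.Helper4 Groth.Agent.Lib.Helper4.TwExact Groth.Agent.Helper1.CurveAmp

attribute [local instance] Curv2.resAlgebra

section Assoc

variable {X : Scheme.{u}}

/-- associativity of the tensor product when the second and third factors are invertible -/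
noncomputable def assocIso (A : X.Modules) {B C : X.Modules} (hB : PicF.IsInvertible B)
    (hC : PicF.IsInvertible C) :
    CohB1.tensorMod (CohB1.tensorMod A B) C ≅ CohB1.tensorMod A (CohB1.tensorMod B C) :=
  Tw.iso ((((Tw.self B C A).tensorR (Tw.fst B C)).tensorR (Tw.snd B C)).cast
      (d₁' := 1) (d₂' := 1) (by ring) (by ring))
    (((Tw.self B C A).tensorR ((Tw.fst B C).tensorR (Tw.snd B C))).cast
      (d₁' := 1) (d₂' := 1) (by ring) (by ring))
    (locFrame_of_isInvertible hB hC)

end Assoc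

section Gen

variable (k : Type u) [Field k] (X : Scheme.{u}) [X.Over (Spec (CommRingCat.of k))]
  [IsProper (X ↘ (Spec (CommRingCat.of k)))]

/-- if no global section generates at `P` then `h⁰(I_P ⊗ L) = h⁰(O ⊗ L)` (any base field) -/
theorem finrank_eq_of_not_genAt' (L : X.Modules) (hL : PicF.IsInvertible L)
    (x₀ : X) (hx₀ : IsClosed ({x₀} : Set X)) (hgen : ∀ σ : Γ(L, ⊤), ¬ GenAt L σ x₀) :
    Module.finrank k (Coh.HH X (CohB1.tensorMod (ClSub.idealMod (ptIdeal x₀ hx₀)) L) 0) =
      Module.finrank k (Coh.HH X (CohB1.tensorMod (Coh.structureModule X) L) 0) := by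
  haveI := isNoetherian_of_proper k X
  haveI : IsLocallyNoetherian X := (isNoetherian_of_proper k X).toIsLocallyNoetherian
  have hOc : Coh.IsCoh (Coh.structureModule X) :=
    InvQc.isCoh_of_isInvertible _ GenLoc.isInvertible_O
  have hLc : Coh.IsCoh L := InvQc.isCoh_of_isInvertible _ hL
  have hIc : Coh.IsCoh (ClSub.idealMod (ptIdeal x₀ hx₀)) := isCoh_idealMod _
  have hMc : Coh.IsCoh (CohB1.tensorMod (ClSub.idealMod (ptIdeal x₀ hx₀)) L) :=
    isCoh_tensor _ _ hIc hLc
  have hOLc : Coh.IsCoh (CohB1.tensorMod (Coh.structureModule X) L) := isCoh_tensor _ _ hOc hLc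
  have hSE := shortExact_map (locGen_of_isInvertible L hL) (shortExact_S (ptIdeal x₀ hx₀))
  haveI : Module.Finite k (Coh.HH X ((IdealModL.S (ptIdeal x₀ hx₀)).map (TL L)).X₁ 0) :=
    T2Main1.t2 k X _ hMc 0
  haveI : Module.Finite k (Coh.HH X ((IdealModL.S (ptIdeal x₀ hx₀)).map (TL L)).X₂ 0) :=
    T2Main1.t2 k X _ hOLc 0
  have hinj : Function.Injective
      (Canon.HHlin k ((IdealModL.S (ptIdeal x₀ hx₀)).map (TL L)).f 0) :=
    HHFin3.HHlin_f_zero_injective k hSE
  have hle := LinearMap.finrank_le_finrank_of_injective hinj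
  change Module.finrank k (Coh.HH X (CohB1.tensorMod (ClSub.idealMod (ptIdeal x₀ hx₀)) L) 0) ≤
    Module.finrank k (Coh.HH X (CohB1.tensorMod (Coh.structureModule X) L) 0) at hle
  by_contra hne
  have hlt : Module.finrank k
      (Coh.HH X (CohB1.tensorMod (ClSub.idealMod (ptIdeal x₀ hx₀)) L) 0) <
      Module.finrank k (Coh.HH X (CohB1.tensorMod (Coh.structureModule X) L) 0) := by omega
  obtain ⟨s, hs⟩ := exists_genAt_of_lt k X L hL x₀ hx₀ hlt
  exact hgen s hs

/-- the residue field of a closed point is finite over the base field -/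
theorem finite_residueField (x : X) (hx : IsClosed ({x} : Set X)) :
    Module.Finite k (X.residueField x) := by
  haveI := isNoetherian_of_proper k X
  letI a1 : Algebra k Γ((ptIdeal x hx).subscheme, ⊤) :=
    (toΓ' k (ptIdeal x hx).subscheme
      ((ptIdeal x hx).subschemeι ≫ (X ↘ Spec (CommRingCat.of k)))).toAlgebra
  obtain ⟨E⟩ := nonempty_HH_quotMod_linearEquiv k X (ptIdeal x hx)
  obtain ⟨E'⟩ := nonempty_linearEquiv_residueField k X x hx
  haveI : Module.Finite k (Coh.HH X (ClSub.quotMod (ptIdeal x hx)) 0) :=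
    T2Main1.t2 k X _ (isCoh_quotMod _) 0
  exact Module.Finite.equiv (E.trans E')

theorem finrank_residueField_pos (x : X) (hx : IsClosed ({x} : Set X)) :
    0 < Module.finrank k (X.residueField x) := by
  haveI := finite_residueField k X x hx
  exact Module.finrank_pos

/-- a closed point is rational iff its residue field has degree one -/
theorem resMap_bijective_iff (x : X) :
    Function.Bijective (Curv2.resMap k X x) ↔ Module.finrank k (X.residueField x) = 1 := by
  constructor
  · intro h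
    let e : k ≃ₗ[k] X.residueField x :=
      LinearEquiv.ofBijective (Algebra.linearMap k (X.residueField x)) h
    rw [← e.finrank_eq, Module.finrank_self]
  · intro h
    refine ⟨(Curv2.resMap k X x).injective, ?_⟩
    have h1 := Subalgebra.bot_eq_top_of_finrank_eq_one h
    exact Algebra.surjective_algebraMap_iff.2 h1.symm

end Gen

section Curve

variable (k : Type u) [Field k] (X : Scheme.{u}) [X.Over (Spec (CommRingCat.of k))]
  [IsIntegral X] [IsProper (X ↘ (Spec (CommRingCat.of k)))]

/-- a proper integral scheme with a rational point has `h⁰(O) = 1` -/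
theorem finrank_H0_eq_one_of_rational (x : X) (hx : IsClosed ({x} : Set X))
    (h1 : Module.finrank k (X.residueField x) = 1) :
    Module.finrank k (Coh.HH X (Coh.structureModule X) 0) = 1 := by
  letI : Algebra k Γ(X, ⊤) := ((X ↘ (Spec (CommRingCat.of k))).appTop.hom.comp
    (Scheme.ΓSpecIso (CommRingCat.of k)).inv.hom).toAlgebra
  obtain ⟨-, -, -, h4, -⟩ := GlobField.main k X
  obtain ⟨E⟩ := CurveLin.nonempty_HH_zero_linearEquiv' k X
  rw [E.finrank_eq]
  have := h4 x hx
  rw [h1] at this
  exact Nat.dvd_one.1 this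

/-- a nonzero map of invertible modules which does not raise the Euler characteristic is an
isomorphism -/
theorem isIso_of_euler_le (hdim : topologicalKrullDim X = 1) {N L : X.Modules}
    (hN : PicF.IsInvertible N) (hL : PicF.IsInvertible L) (φ : N ⟶ L) (hφ : φ ≠ 0)
    (he : Curv2.euler k X L ≤ Curv2.euler k X N) : IsIso φ := by
  obtain ⟨hmono, hcoh, hsupp, heul⟩ := Curve.cokernel_package k X hdim hN hL φ hφ
  have hz : IsZero (cokernel φ) :=
    Euler.isZero_of_euler_eq_zero k X _ hcoh hsupp (by linarith)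
  haveI : Epi φ := Preadditive.epi_of_isZero_cokernel φ hz
  exact isIso_of_mono_of_epi φ

theorem deg_tensor_inv (hdim : topologicalKrullDim X = 1) {A B : X.Modules}
    (hA : PicF.IsInvertible A) (hB : PicF.IsInvertible B) :
    Curv2.deg k X (CohB1.tensorMod A B) 1 = Curv2.deg k X A 1 + Curv2.deg k X B 1 := by
  have h := deg_tensor_locFree k X hdim.le 1 1 A B (isFinLocFreeOfRank_one hA)
    (isFinLocFreeOfRank_one hB)
  simp only [mul_one, Nat.cast_one, one_mul] at h
  rw [h]
  ring

theorem deg_iso {A B : X.Modules} (e : A ≅ B) (n : ℕ) :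
    Curv2.deg k X A n = Curv2.deg k X B n := by
  unfold Curv2.deg
  rw [euler_iso k X e]

/-- the degree of an inverse -/
theorem deg_of_inverse (hdim : topologicalKrullDim X = 1) {A B : X.Modules}
    (hA : PicF.IsInvertible A) (hB : PicF.IsInvertible B)
    (e : CohB1.tensorMod A B ≅ Coh.structureModule X) :
    Curv2.deg k X A 1 = - Curv2.deg k X B 1 := by
  have h1 := deg_tensor_inv k X hdim hA hB
  rw [deg_iso k X e, deg_structureModule] at h1
  linarith

end Curve

section Main

variable (k : Type u) [Field k] (X : Scheme.{u}) [X.Over (Spec (CommRingCat.of k))]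
  [IsIntegral X] [IsProper (X ↘ (Spec (CommRingCat.of k)))]

/-- on a curve of genus one with `h⁰(O) = 1` the Euler characteristic of `O` vanishes -/
theorem euler_O_eq_zero (hdim : topologicalKrullDim X = 1) (hg : Curv2.genus k X = 1)
    (h0 : Module.finrank k (Coh.HH X (Coh.structureModule X) 0) = 1) :
    Curv2.euler k X (Coh.structureModule X) = 0 := by
  haveI := isNoetherian_of_proper k X
  have hOc : Coh.IsCoh (Coh.structureModule X) :=
    InvQc.isCoh_of_isInvertible _ GenLoc.isInvertible_O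
  have eO := euler_eq_h0_sub_h1 k X hdim.le _ hOc.1
  have hg' : (Module.finrank k (Coh.HH X (Coh.structureModule X) 1) : ℤ) =
      (Curv2.genus k X : ℤ) := rfl
  rw [h0, hg', hg] at eO
  rw [eO]
  norm_num

/-- on a curve of genus one with `h⁰(O) = 1`, an invertible module of degree one has exactly one
section up to scalars -/
theorem h0_eq_one_of_deg_one (hdim : topologicalKrullDim X = 1) (hg : Curv2.genus k X = 1)
    (h0 : Module.finrank k (Coh.HH X (Coh.structureModule X) 0) = 1)
    (N : X.Modules) (hN : PicF.IsInvertible N) (hd : Curv2.deg k X N 1 = 1) :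
    Module.finrank k (Coh.HH X N 0) = 1 := by
  haveI := isNoetherian_of_proper k X
  haveI hH1 : Subsingleton (Coh.HH X N 1) :=
    subsingleton_H1_of_deg_ge k X hdim _ hN (by rw [hd, hg]; norm_num)
  have hNc : Coh.IsCoh N := InvQc.isCoh_of_isInvertible _ hN
  have eN := euler_eq_h0_sub_h1 k X hdim.le _ hNc.1
  have eO := euler_O_eq_zero k X hdim hg h0
  have hb1 : Module.finrank k (Coh.HH X N 1) = 0 := Module.finrank_zero_of_subsingleton
  rw [hb1] at eN
  unfold Curv2.deg at hd
  rw [eO] at hd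
  push_cast at eN hd
  have : (Module.finrank k (Coh.HH X N 0) : ℤ) = 1 := by linarith
  exact_mod_cast this

/-- existence of the point `P` with `L ≅ O(P - O)` -/
theorem exists_point (hdim : topologicalKrullDim X = 1) (hg : Curv2.genus k X = 1)
    (hI : ∀ (P : X) (hP : IsClosed ({P} : Set X)),
      PicF.IsInvertible (ClSub.idealMod (ptIdeal P hP)))
    (O : X) (hOc : IsClosed ({O} : Set X)) (hO : Module.finrank k (X.residueField O) = 1)
    (L : X.Modules) (hL : PicF.IsInvertible L) (hdeg : Curv2.deg k X L 1 = 0) :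
    ∃ (P : X) (hP : IsClosed ({P} : Set X)), Module.finrank k (X.residueField P) = 1 ∧
      Nonempty (CohB1.tensorMod L (ClSub.idealMod (ptIdeal P hP)) ≅
        ClSub.idealMod (ptIdeal O hOc)) := by
  haveI := isNoetherian_of_proper k X
  have h0 := finrank_H0_eq_one_of_rational k X O hOc hO
  have eO := euler_O_eq_zero k X hdim hg h0
  have hIO := hI O hOc
  obtain ⟨J, hJ, ⟨eJ⟩⟩ := InvInv2.exists_inverse hIO
  have hdJ : Curv2.deg k X J 1 = 1 := by
    rw [deg_of_inverse k X hdim hJ hIO eJ, deg_ptIdeal' k X O hOc, hO]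
    norm_num
  have hN : PicF.IsInvertible (CohB1.tensorMod L J) := isInvertible_tensorMod hL hJ
  have hdN : Curv2.deg k X (CohB1.tensorMod L J) 1 = 1 := by
    rw [deg_tensor_inv k X hdim hL hJ, hdeg, hdJ]
    norm_num
  have hN0 := h0_eq_one_of_deg_one k X hdim hg h0 _ hN hdN
  have hNc : Coh.IsCoh (CohB1.tensorMod L J) := InvQc.isCoh_of_isInvertible _ hN
  haveI : Module.Finite k (Coh.HH X (CohB1.tensorMod L J) 0) := T2Main1.t2 k X _ hNc 0
  obtain ⟨s, hs⟩ := (Module.finrank_pos_iff_exists_ne_zero (R := k)).1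
    (show 0 < Module.finrank k (Coh.HH X (CohB1.tensorMod L J) 0) by rw [hN0]; norm_num)
  have hσ : HH0.equiv X (CohB1.tensorMod L J) s ≠ 0 := fun h =>
    hs ((HH0.equiv X _).injective (h.trans (map_zero _).symm))
  -- a point where the section does not generate
  have hex : ∃ x, ¬ GenAt (CohB1.tensorMod L J) (HH0.equiv X (CohB1.tensorMod L J) s) x := by
    by_contra hcon
    push Not at hcon
    haveI := isIso_homOfSec_of_forall_genAt _ hcon
    have e : Coh.structureModule X ≅ CohB1.tensorMod L J :=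
      asIso (TwistAmple.homOfSec _ (HH0.equiv X (CohB1.tensorMod L J) s))
    have := deg_iso k X e 1
    rw [deg_structureModule, hdN] at this
    norm_num at this
  obtain ⟨P, hP, hPgen⟩ : ∃ P, IsClosed ({P} : Set X) ∧
      ¬ GenAt (CohB1.tensorMod L J) (HH0.equiv X (CohB1.tensorMod L J) s) P := by
    obtain ⟨x, hx⟩ := hex
    have hcl : IsClosed {y | ¬ GenAt (CohB1.tensorMod L J)
        (HH0.equiv X (CohB1.tensorMod L J) s) y} := by
      rw [← isOpen_compl_iff, isOpen_iff_forall_mem_open]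
      intro y hy
      simp only [Set.mem_compl_iff, Set.mem_setOf_eq, not_not] at hy
      obtain ⟨V, hyV, hV⟩ := hy
      refine ⟨V, fun z hz => ?_, V.isOpen, hyV⟩
      simp only [Set.mem_compl_iff, Set.mem_setOf_eq, not_not]
      exact ⟨V, hz, hV⟩
    obtain ⟨P, hPmem, hPc⟩ := hcl.exists_closed_singleton ⟨x, hx⟩
    exact ⟨P, hPc, hPmem⟩
  have hall : ∀ τ : Γ(CohB1.tensorMod L J, ⊤), ¬ GenAt (CohB1.tensorMod L J) τ P := by
    intro τ hτ
    obtain ⟨c, hc⟩ := (finrank_eq_one_iff_of_nonzero' s hs).1 hN0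
      ((HH0.equiv X (CohB1.tensorMod L J)).symm τ)
    have h1 : τ = (Coh.toGlobal (X ↘ Spec (CommRingCat.of k))) c •
        HH0.equiv X (CohB1.tensorMod L J) s := by
      rw [← HH0.equiv_smul_over, hc, AddEquiv.apply_symm_apply]
    rw [h1] at hτ
    exact hPgen (genAt_of_smul _ _ _ hτ)
  have hfr := finrank_eq_of_not_genAt' k X _ hN P hP hall
  obtain ⟨eON⟩ := TwistAmpleOpen.nonempty_tensorMod_unit_iso (CohB1.tensorMod L J)
  rw [LinearEquiv.finrank_eq (HHFin1.HHequiv k eON 0), hN0] at hfr
  have hIP := hI P hP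
  have hM' : PicF.IsInvertible
      (CohB1.tensorMod (ClSub.idealMod (ptIdeal P hP)) (CohB1.tensorMod L J)) :=
    isInvertible_tensorMod hIP hN
  have hM'c := InvQc.isCoh_of_isInvertible _ hM'
  haveI : Module.Finite k (Coh.HH X
      (CohB1.tensorMod (ClSub.idealMod (ptIdeal P hP)) (CohB1.tensorMod L J)) 0) :=
    T2Main1.t2 k X _ hM'c 0
  have hposM : 0 < Module.finrank k (Coh.HH X
      (CohB1.tensorMod (ClSub.idealMod (ptIdeal P hP)) (CohB1.tensorMod L J)) 0) := by
    rw [hfr]; norm_num
  haveI : Nontrivial (Coh.HH X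
      (CohB1.tensorMod (ClSub.idealMod (ptIdeal P hP)) (CohB1.tensorMod L J)) 0) :=
    Module.nontrivial_of_finrank_pos hposM
  obtain ⟨hle, -⟩ := CurveLin.main k X hdim h0 _ hM' inferInstance
  have hdM' : Curv2.deg k X
      (CohB1.tensorMod (ClSub.idealMod (ptIdeal P hP)) (CohB1.tensorMod L J)) 1 =
      - (Module.finrank k (X.residueField P) : ℤ) + 1 := by
    rw [deg_tensor_inv k X hdim hIP hN, deg_ptIdeal' k X P hP, hdN]
  have hpos := finrank_residueField_pos k X P hP
  have hP1 : Module.finrank k (X.residueField P) = 1 := by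
    rw [hfr, hdM'] at hle
    push_cast at hle
    omega
  have hdM'0 : Curv2.deg k X
      (CohB1.tensorMod (ClSub.idealMod (ptIdeal P hP)) (CohB1.tensorMod L J)) 1 = 0 := by
    rw [hdM', hP1]
    norm_num
  obtain ⟨s', hs'⟩ := (Module.finrank_pos_iff_exists_ne_zero (R := k)).1 hposM
  have hσ' : HH0.equiv X _ s' ≠ 0 := fun h =>
    hs' ((HH0.equiv X _).injective (h.trans (map_zero _).symm))
  have hφ : TwistAmple.homOfSec _ (HH0.equiv X _ s') ≠ 0 := by
    intro h
    apply hσ'
    have h2 := PFrame.homOfSec_app_one _ (HH0.equiv X _ s')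
    rw [h] at h2
    exact h2.symm
  haveI := isIso_of_euler_le k X hdim GenLoc.isInvertible_O hM' _ hφ (by
    unfold Curv2.deg at hdM'0
    push_cast at hdM'0
    linarith)
  have e1 : Coh.structureModule X ≅
      CohB1.tensorMod (ClSub.idealMod (ptIdeal P hP)) (CohB1.tensorMod L J) :=
    asIso (TwistAmple.homOfSec _ (HH0.equiv X _ s'))
  refine ⟨P, hP, hP1, ?_⟩
  obtain ⟨a2⟩ := TwistAmpleOpen.nonempty_tensorMod_unit_iso (ClSub.idealMod (ptIdeal O hOc))
  have a1 := TwistTens.tensorModCongrLeft e1.symm (ClSub.idealMod (ptIdeal O hOc))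
  have b1 := assocIso (ClSub.idealMod (ptIdeal P hP)) hN hIO
  have b2 := assocIso L hJ hIO
  have b3 := TwistTens.tensorModCongrRight L eJ
  have b4 := SecTwist.unitorR L
  have b5 := TwistTens.tensorModCongrRight (ClSub.idealMod (ptIdeal P hP)) (b2 ≪≫ b3 ≪≫ b4)
  have b6 := TildeTens.tensorModComm (ClSub.idealMod (ptIdeal P hP)) L
  exact ⟨b6.symm ≪≫ b5.symm ≪≫ b1.symm ≪≫ a1 ≪≫ a2⟩

/-- uniqueness of the point -/
theorem point_unique (hdim : topologicalKrullDim X = 1) (hg : Curv2.genus k X = 1)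
    (hI : ∀ (P : X) (hP : IsClosed ({P} : Set X)),
      PicF.IsInvertible (ClSub.idealMod (ptIdeal P hP)))
    (h0 : Module.finrank k (Coh.HH X (Coh.structureModule X) 0) = 1)
    (L : X.Modules) (hL : PicF.IsInvertible L) (A : X.Modules)
    (P Q : X) (hP : IsClosed ({P} : Set X)) (hQ : IsClosed ({Q} : Set X))
    (hP1 : Module.finrank k (X.residueField P) = 1)
    (eP : CohB1.tensorMod L (ClSub.idealMod (ptIdeal P hP)) ≅ A)
    (eQ : CohB1.tensorMod L (ClSub.idealMod (ptIdeal Q hQ)) ≅ A) : P = Q := by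
  by_contra hPQ
  have hIP := hI P hP
  have hIQ := hI Q hQ
  obtain ⟨L', hL', ⟨eL'⟩⟩ := InvInv2.exists_inverse hL
  have key : ∀ (R : X) (hR : IsClosed ({R} : Set X))
      (_ : PicF.IsInvertible (ClSub.idealMod (ptIdeal R hR)))
      (_ : CohB1.tensorMod L (ClSub.idealMod (ptIdeal R hR)) ≅ A),
      Nonempty (ClSub.idealMod (ptIdeal R hR) ≅ CohB1.tensorMod L' A) := by
    intro R hR hIR eR
    obtain ⟨u⟩ := TwistAmpleOpen.nonempty_tensorMod_unit_iso (ClSub.idealMod (ptIdeal R hR))
    have c1 := TwistTens.tensorModCongrLeft eL'.symm (ClSub.idealMod (ptIdeal R hR))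
    have c2 := assocIso L' hL hIR
    have c3 := TwistTens.tensorModCongrRight L' eR
    exact ⟨u.symm ≪≫ c1 ≪≫ c2 ≪≫ c3⟩
  obtain ⟨cP⟩ := key P hP hIP eP
  obtain ⟨cQ⟩ := key Q hQ hIQ eQ
  obtain ⟨K, hK, ⟨eK⟩⟩ := InvInv2.exists_inverse hIP
  have hdK : Curv2.deg k X K 1 = 1 := by
    rw [deg_of_inverse k X hdim hK hIP eK, deg_ptIdeal' k X P hP, hP1]
    norm_num
  have h2 := two_le_finrank_of_iso_ptIdeal k X P Q hP hQ hPQ (cP ≪≫ cQ.symm) K hK eK
    (by rw [hdK]; norm_num)
  have h1 := h0_eq_one_of_deg_one k X hdim hg h0 K hK hdK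
  omega

end Main

end Groth.Agent.Helper1.GenusOne
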