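import Mathlib

/-!
# Numerical polynomials: algebra for Snapper's theorem (helper1)
-/

set_option autoImplicit false
open MvPolynomial Finset

namespace Groth.Agent.Helper1.SnapAlg

variable {σ : Type*}

/-- the binomial coefficient `C(x_j, i)` as a polynomial -/
noncomputable def binomPoly (j : σ) (i : ℕ) : MvPolynomial σ ℚ :=
  C ((i.factorial : ℚ)⁻¹) * Polynomial.aeval (X j : MvPolynomial σ ℚ) (descPochhammer ℚ i)

theorem eval_polyAeval (x : σ → ℚ) (j : σ) (p : Polynomial ℚ) :
    eval x (Polynomial.aeval (X j : MvPolynomial σ ℚ) p) = p.eval (x j) := by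
  have h := Polynomial.aeval_algHom_apply (MvPolynomial.aeval x : MvPolynomial σ ℚ →ₐ[ℚ] ℚ)
    (X j) p
  rw [MvPolynomial.aeval_X] at h
  rw [← MvPolynomial.coe_aeval_eq_eval]
  change (MvPolynomial.aeval x) ((Polynomial.aeval (X j)) p) = _
  rw [← h, Polynomial.coe_aeval_eq_eval]

theorem eval_binomPoly (j : σ) (i : ℕ) (n : σ → ℕ) :
    eval (fun s => (n s : ℚ)) (binomPoly j i) = ((n j).choose i : ℚ) := by
  unfold binomPoly
  rw [map_mul, eval_C, eval_polyAeval, descPochhammer_eval_eq_descFactorial,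
    Nat.descFactorial_eq_factorial_mul_choose]
  have : (i.factorial : ℚ) ≠ 0 := Nat.cast_ne_zero.2 (Nat.factorial_ne_zero i)
  push_cast
  field_simp

theorem totalDegree_polyAeval_le (j : σ) (p : Polynomial ℚ) :
    (Polynomial.aeval (X j : MvPolynomial σ ℚ) p).totalDegree ≤ p.natDegree := by
  rw [Polynomial.aeval_eq_sum_range]
  apply totalDegree_finsetSum_le
  intro k hk
  refine (totalDegree_smul_le _ _).trans ?_
  rw [totalDegree_X_pow]
  exact Nat.lt_succ_iff.1 (Finset.mem_range.1 hk)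

theorem totalDegree_binomPoly_le (j : σ) (i : ℕ) : (binomPoly j i).totalDegree ≤ i := by
  unfold binomPoly
  refine (totalDegree_mul _ _).trans ?_
  rw [totalDegree_C, zero_add]
  refine (totalDegree_polyAeval_le j _).trans ?_
  rw [descPochhammer_natDegree]

theorem sum_choose_eq (m d : ℕ) (c : ℕ → ℚ) (hc : ∀ i, d < i → c i = 0) :
    ∑ i ∈ range (m + 1), (m.choose i : ℚ) * c i = ∑ i ∈ range (d + 1), (m.choose i : ℚ) * c i := by
  have h1 : ∑ i ∈ range (m + 1), (m.choose i : ℚ) * c i =
      ∑ i ∈ range (m + d + 1), (m.choose i : ℚ) * c i := by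
    apply Finset.sum_subset (Finset.range_subset_range.2 (by omega))
    intro i _ hi
    rw [Finset.mem_range, not_lt] at hi
    rw [Nat.choose_eq_zero_of_lt (by omega), Nat.cast_zero, zero_mul]
  have h2 : ∑ i ∈ range (d + 1), (m.choose i : ℚ) * c i =
      ∑ i ∈ range (m + d + 1), (m.choose i : ℚ) * c i := by
    apply Finset.sum_subset (Finset.range_subset_range.2 (by omega))
    intro i _ hi
    rw [Finset.mem_range, not_lt] at hi
    rw [hc i (by omega), mul_zero]
  rw [h1, h2]

/-- the inductive step of Snapper's theorem on the level of polynomials -/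
theorem exists_poly_step (r d : ℕ) (g : ℕ → (Fin r → ℕ) → ℚ)
    (hg : ∀ i, ∃ P : MvPolynomial (Fin r) ℚ, P.totalDegree ≤ d - i ∧
      ∀ n, g i n = eval (fun s => (n s : ℚ)) P)
    (hg0 : ∀ i, d < i → ∀ n, g i n = 0)
    (f : (Fin (r + 1) → ℕ) → ℚ)
    (hf : ∀ n, f n = ∑ i ∈ range (n (Fin.last r) + 1),
      ((n (Fin.last r)).choose i : ℚ) * g i (fun s => n s.castSucc)) :
    ∃ P : MvPolynomial (Fin (r + 1)) ℚ, P.totalDegree ≤ d ∧
      ∀ n, f n = eval (fun s => (n s : ℚ)) P := by
  choose Q hQd hQ using hg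
  refine ⟨∑ i ∈ range (d + 1), binomPoly (Fin.last r) i * rename Fin.castSucc (Q i), ?_, ?_⟩
  · apply totalDegree_finsetSum_le
    intro i hi
    have hi' : i ≤ d := Nat.lt_succ_iff.1 (Finset.mem_range.1 hi)
    refine (totalDegree_mul _ _).trans ?_
    have h1 := totalDegree_binomPoly_le (Fin.last r) i
    have h2 := (totalDegree_rename_le Fin.castSucc (Q i)).trans (hQd i)
    omega
  · intro n
    rw [hf n, sum_choose_eq _ d (fun i => g i (fun s => n s.castSucc))
      (fun i hi => hg0 i hi _), map_sum]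
    refine Finset.sum_congr rfl fun i _ => ?_
    rw [map_mul, eval_binomPoly, eval_rename, hQ i]
    rfl

end Groth.Agent.Helper1.SnapAlg
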