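import Mathlib
import Groth.Agent.Lib.Helper1.Euler5
import Groth.Agent.Lib.Helper1.GenusOne1
import Groth.Agent.Lib.Helper1.SnapAlg1

/-!
# Twisting operators on `K₀(Coh X)` and Snapper's theorem (helper1)
-/

set_option autoImplicit false
universe u
open CategoryTheory CategoryTheory.Limits AlgebraicGeometry TopologicalSpace Opposite

namespace Groth.Agent.Helper1.Snap

open Groth.Agent.Helper1 Groth.Agent.Helper1.Euler Groth.Agent.Helper1.Dv
open Groth.Agent.Helper1.FinLen Groth.Agent.Helper1.TwForm Groth.Agent.Helper1.Curve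

variable {X : Scheme.{u}}

/-- the filtration of `K₀` by dimension of support -/
noncomputable def FilLT (X : Scheme.{u}) (d : ℕ) : AddSubgroup (KZero.K0sub (PC X)) :=
  AddSubgroup.closure {c : KZero.K0sub (PC X) |
    ∃ G : X.Modules, Coh.IsCoh G ∧ topologicalKrullDim ↥(CohB1.support G) < ((d : ℕ) : WithBot ℕ∞) ∧
      c = KZero.clSub (PC X) G}

theorem lt_succ_iff_le (x : WithBot ℕ∞) (d : ℕ) :
    x < ((d + 1 : ℕ) : WithBot ℕ∞) ↔ x ≤ ((d : ℕ) : WithBot ℕ∞) := by
  induction x with
  | bot => simp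
  | coe m =>
    induction m with
    | top =>
      constructor
      · intro h
        have h' : ((⊤ : ℕ∞) : WithBot ℕ∞) < (((d + 1 : ℕ) : ℕ∞) : WithBot ℕ∞) := by exact_mod_cast h
        exact absurd (WithBot.coe_lt_coe.1 h') (by simp)
      · intro h
        have h' : ((⊤ : ℕ∞) : WithBot ℕ∞) ≤ (((d : ℕ) : ℕ∞) : WithBot ℕ∞) := by exact_mod_cast h
        exact absurd (WithBot.coe_le_coe.1 h') (by simp)
    | coe m =>
      constructor
      · intro h
        have h' : (((m : ℕ) : ℕ∞) : WithBot ℕ∞) < (((d + 1 : ℕ) : ℕ∞) : WithBot ℕ∞) := by exact_mod_cast h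
        have h2 : ((m : ℕ) : ℕ∞) < ((d + 1 : ℕ) : ℕ∞) := WithBot.coe_lt_coe.1 h'
        have h3 : m < d + 1 := by exact_mod_cast h2
        have h4 : m ≤ d := by omega
        exact_mod_cast h4
      · intro h
        have h' : (((m : ℕ) : ℕ∞) : WithBot ℕ∞) ≤ (((d : ℕ) : ℕ∞) : WithBot ℕ∞) := by exact_mod_cast h
        have h2 : ((m : ℕ) : ℕ∞) ≤ ((d : ℕ) : ℕ∞) := WithBot.coe_le_coe.1 h'
        have h3 : m ≤ d := by exact_mod_cast h2
        have h4 : m < d + 1 := by omega
        exact_mod_cast h4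

theorem clSub_mem_FilLT (d : ℕ) (G : X.Modules) (hG : Coh.IsCoh G)
    (hd : topologicalKrullDim ↥(CohB1.support G) ≤ ((d : ℕ) : WithBot ℕ∞)) :
    KZero.clSub (PC X) G ∈ FilLT X (d + 1) :=
  AddSubgroup.subset_closure ⟨G, hG, (lt_succ_iff_le _ d).2 hd, rfl⟩

theorem FilLT_zero [IsLocallyNoetherian X] : FilLT X 0 = ⊥ := closure_dim_lt_zero_eq_bot X

theorem k0_hom_ext {G : Type*} [AddCommGroup G] (f g : KZero.K0sub (PC X) →+ G)
    (h : ∀ (M : X.Modules) (_ : Coh.IsCoh M),
      f (KZero.clSub (PC X) M) = g (KZero.clSub (PC X) M)) : f = g := by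
  apply AddMonoidHom.ext
  intro x
  induction x using QuotientAddGroup.induction_on with
  | H a =>
    induction a using FreeAbelianGroup.induction_on with
    | zero => simp
    | of M =>
      have := h M.1 M.2
      rwa [clSub_of M.1 M.2] at this
    | neg M ih => rw [QuotientAddGroup.mk_neg, map_neg, map_neg, ih]
    | add a b iha ihb => rw [QuotientAddGroup.mk_add, map_add, map_add, iha, ihb]

section Op
variable [IsNoetherian X]

/-- twisting by an invertible module, on `K₀` -/
noncomputable def T (L : X.Modules) (hL : PicF.IsInvertible L) :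
    AddMonoid.End (KZero.K0sub (PC X)) :=
  k0Lift (fun M => KZero.clSub (PC X) (CohB1.tensorMod L M)) (by
    intro S hS h1 h2 h3
    have hLf := isFinLocFree_of_rank (isFinLocFreeOfRank_one hL)
    have hLc : Coh.IsCoh L := InvQc.isCoh_of_isInvertible _ hL
    have hS' := shortExact_tensor L hLf S hS
    exact clSub_ses (S.map (DCoh.tensorBi.obj L)) hS' (isCoh_tensor L _ hLc h1)
      (isCoh_tensor L _ hLc h2) (isCoh_tensor L _ hLc h3))

theorem T_clSub (L : X.Modules) (hL : PicF.IsInvertible L) (M : X.Modules) (hM : Coh.IsCoh M) :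
    T L hL (KZero.clSub (PC X) M) = KZero.clSub (PC X) (CohB1.tensorMod L M) :=
  k0Lift_clSub _ _ M hM

theorem T_clSub' (L : X.Modules) (hL : PicF.IsInvertible L) (M : X.Modules) (hM : Coh.IsCoh M) :
    T L hL (KZero.clSub (PC X) M) = KZero.clSub (PC X) (CohB1.tensorMod M L) := by
  have hLc : Coh.IsCoh L := InvQc.isCoh_of_isInvertible _ hL
  rw [T_clSub L hL M hM]
  exact clSub_iso (TildeTens.tensorModComm M L) (isCoh_tensor M L hM hLc)

theorem T_comm (A B : X.Modules) (hA : PicF.IsInvertible A) (hB : PicF.IsInvertible B) :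
    Commute (T A hA) (T B hB) := by
  have hAc : Coh.IsCoh A := InvQc.isCoh_of_isInvertible _ hA
  have hBc : Coh.IsCoh B := InvQc.isCoh_of_isInvertible _ hB
  apply k0_hom_ext
  intro M hM
  change T A hA (T B hB (KZero.clSub (PC X) M)) = T B hB (T A hA (KZero.clSub (PC X) M))
  rw [T_clSub' B hB M hM, T_clSub' A hA M hM, T_clSub' A hA _ (isCoh_tensor M B hM hBc),
    T_clSub' B hB _ (isCoh_tensor M A hM hAc)]
  have e : CohB1.tensorMod (CohB1.tensorMod M A) B ≅ CohB1.tensorMod (CohB1.tensorMod M B) A :=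
    GenusOne.assocIso M hA hB ≪≫
      Groth.Agent.Lead.TilT.tensorModCongr (Iso.refl M) (TildeTens.tensorModComm A B) ≪≫
      (GenusOne.assocIso M hB hA).symm
  exact clSub_iso e (isCoh_tensor _ B (isCoh_tensor M A hM hAc) hBc)

theorem T_sub_mem (L : X.Modules) (hL : PicF.IsInvertible L) (d : ℕ)
    (x : KZero.K0sub (PC X)) (hx : x ∈ FilLT X (d + 1)) : T L hL x - x ∈ FilLT X d := by
  unfold FilLT at hx
  induction hx using AddSubgroup.closure_induction with
  | mem c hc =>
    obtain ⟨G, hG, hd, rfl⟩ := hc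
    rw [T_clSub L hL G hG]
    have := k0_tensor_locFree L 1 (isFinLocFreeOfRank_one hL) G hG d ((lt_succ_iff_le _ d).1 hd)
    rwa [one_smul] at this
  | zero => rw [map_zero, sub_zero]; exact (FilLT X d).zero_mem
  | add a b _ _ iha ihb =>
    have : T L hL (a + b) - (a + b) = (T L hL a - a) + (T L hL b - b) := by
      rw [map_add]; abel
    rw [this]
    exact (FilLT X d).add_mem iha ihb
  | neg a _ iha =>
    have : T L hL (-a) - (-a) = -(T L hL a - a) := by
      rw [map_neg]; abel
    rw [this]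
    exact (FilLT X d).neg_mem iha

theorem pow_sub_one_mem (L : X.Modules) (hL : PicF.IsInvertible L) (D : ℕ)
    (x : KZero.K0sub (PC X)) (hx : x ∈ FilLT X D) (i : ℕ) :
    ((T L hL - 1) ^ i) x ∈ FilLT X (D - i) := by
  induction i with
  | zero => simpa using hx
  | succ i ih =>
    rw [pow_succ']
    change (T L hL - 1) (((T L hL - 1) ^ i) x) ∈ _
    rcases Nat.eq_zero_or_pos (D - i) with h0 | hpos
    · rw [h0, FilLT_zero, AddSubgroup.mem_bot] at ih
      rw [ih, map_zero]
      exact (FilLT X _).zero_mem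
    · obtain ⟨e, he⟩ : ∃ e, D - i = e + 1 := ⟨D - i - 1, by omega⟩
      rw [he] at ih
      have h1 := T_sub_mem L hL e _ ih
      have h2 : D - (i + 1) = e := by omega
      rw [h2]
      exact h1

theorem end_sum_apply {A : Type*} [AddCommGroup A] {ι : Type*} (s : Finset ι)
    (f : ι → AddMonoid.End A) (y : A) : (∑ i ∈ s, f i) y = ∑ i ∈ s, (f i) y := by
  classical
  induction s using Finset.induction_on with
  | empty => simp
  | insert a s ha ih =>
    rw [Finset.sum_insert ha, Finset.sum_insert ha, ← ih]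
    rfl

theorem pow_apply_eq_sum (T₀ : AddMonoid.End (KZero.K0sub (PC X))) (m : ℕ)
    (y : KZero.K0sub (PC X)) :
    (T₀ ^ m) y = ∑ i ∈ Finset.range (m + 1), (m.choose i) • (((T₀ - 1) ^ i) y) := by
  have h : T₀ = (T₀ - 1) + 1 := (sub_add_cancel T₀ 1).symm
  conv_lhs => rw [h, (Commute.one_right (T₀ - 1)).add_pow m]
  rw [end_sum_apply]
  refine Finset.sum_congr rfl fun i _ => ?_
  rw [one_pow, mul_one]
  change ((T₀ - 1) ^ i) ((↑(m.choose i) : AddMonoid.End (KZero.K0sub (PC X))) y) = _
  rw [AddMonoid.End.natCast_apply, map_nsmul]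

end Op

end Groth.Agent.Helper1.Snap
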