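import Mathlib
import Groth.Agent.Lib.Helper1.SnapK1

/-!
# Snapper's theorem (helper1)
-/

set_option autoImplicit false
universe u
open CategoryTheory CategoryTheory.Limits AlgebraicGeometry TopologicalSpace Opposite

namespace Groth.Agent.Helper1.Snap

open Groth.Agent.Helper1 Groth.Agent.Helper1.Euler Groth.Agent.Helper1.Dv
open Groth.Agent.Helper1.FinLen Groth.Agent.Helper1.TwForm Groth.Agent.Helper1.Curve

variable {X : Scheme.{u}} [IsNoetherian X]

/-- iterated twisting operator -/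
noncomputable def Tn : (r : ℕ) → (L : Fin r → X.Modules) → (∀ i, PicF.IsInvertible (L i)) →
    (Fin r → ℕ) → AddMonoid.End (KZero.K0sub (PC X))
  | 0, _, _, _ => 1
  | r + 1, L, hL, n => (T (L (Fin.last r)) (hL (Fin.last r))) ^ (n (Fin.last r)) *
      Tn r (fun i => L i.castSucc) (fun i => hL i.castSucc) (fun i => n i.castSucc)

omit [AlgebraicGeometry.IsNoetherian X] in
theorem isCoh_tensorPows (F : X.Modules) (hF : Coh.IsCoh F) :
    ∀ (r : ℕ) (L : Fin r → X.Modules) (_ : ∀ i, PicF.IsInvertible (L i)) (n : Fin r → ℕ),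
      Coh.IsCoh (Curv2.tensorPows F r L n)
  | 0, _, _, _ => hF
  | r + 1, L, hL, n =>
    isCoh_tensor _ _ (isCoh_tensorPows F hF r _ (fun i => hL i.castSucc) _)
      (InvQc.isCoh_of_isInvertible _ (isInvertible_tensorPow (hL (Fin.last r)) _))

theorem clSub_tensor_tensorPow (L : X.Modules) (hL : PicF.IsInvertible L) (M : X.Modules)
    (hM : Coh.IsCoh M) (m : ℕ) :
    KZero.clSub (PC X) (CohB1.tensorMod M (CohB1.tensorPow L m)) =
      ((T L hL) ^ m) (KZero.clSub (PC X) M) := by
  induction m with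
  | zero =>
    rw [pow_zero]
    change KZero.clSub (PC X) (CohB1.tensorMod M (Coh.structureModule X)) = KZero.clSub (PC X) M
    exact clSub_iso (Groth.Agent.Lib.Helper5.LTenFlf.tensorUnitIso M).symm hM
  | succ m ih =>
    have hLm := isInvertible_tensorPow hL m
    have hc1 : Coh.IsCoh (CohB1.tensorMod M (CohB1.tensorPow L m)) :=
      isCoh_tensor _ _ hM (InvQc.isCoh_of_isInvertible _ hLm)
    have hc2 : Coh.IsCoh (CohB1.tensorMod (CohB1.tensorMod M (CohB1.tensorPow L m)) L) :=
      isCoh_tensor _ _ hc1 (InvQc.isCoh_of_isInvertible _ hL)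
    rw [pow_succ']
    change KZero.clSub (PC X) (CohB1.tensorMod M (CohB1.tensorMod (CohB1.tensorPow L m) L)) =
      T L hL (((T L hL) ^ m) (KZero.clSub (PC X) M))
    rw [← ih, T_clSub' L hL _ hc1]
    exact clSub_iso (GenusOne.assocIso M hLm hL) hc2

theorem clSub_tensorPows (F : X.Modules) (hF : Coh.IsCoh F) :
    ∀ (r : ℕ) (L : Fin r → X.Modules) (hL : ∀ i, PicF.IsInvertible (L i)) (n : Fin r → ℕ),
      KZero.clSub (PC X) (Curv2.tensorPows F r L n) = Tn r L hL n (KZero.clSub (PC X) F)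
  | 0, _, _, _ => rfl
  | r + 1, L, hL, n => by
    change KZero.clSub (PC X) (CohB1.tensorMod
      (Curv2.tensorPows F r (fun i => L i.castSucc) (fun i => n i.castSucc))
      (CohB1.tensorPow (L (Fin.last r)) (n (Fin.last r)))) =
      ((T (L (Fin.last r)) (hL (Fin.last r))) ^ (n (Fin.last r)))
        (Tn r (fun i => L i.castSucc) (fun i => hL i.castSucc) (fun i => n i.castSucc)
          (KZero.clSub (PC X) F))
    rw [clSub_tensor_tensorPow _ (hL (Fin.last r)) _
      (isCoh_tensorPows F hF r _ (fun i => hL i.castSucc) _),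
      clSub_tensorPows F hF r _ (fun i => hL i.castSucc)]

theorem T_commute_Tn (A : X.Modules) (hA : PicF.IsInvertible A) :
    ∀ (r : ℕ) (L : Fin r → X.Modules) (hL : ∀ i, PicF.IsInvertible (L i)) (n : Fin r → ℕ),
      Commute (T A hA) (Tn r L hL n)
  | 0, _, _, _ => Commute.one_right _
  | r + 1, L, hL, n =>
    Commute.mul_right ((T_comm A _ hA (hL (Fin.last r))).pow_right _)
      (T_commute_Tn A hA r _ (fun i => hL i.castSucc) _)

section Main

variable (k : Type u) [Field k] (X : Scheme.{u}) [X.Over (Spec (CommRingCat.of k))]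
  [IsProper (X ↘ (Spec (CommRingCat.of k)))] [IsNoetherian X]

/-- **Snapper's theorem on `K₀`** -/
theorem snapper_k0 : ∀ (r : ℕ) (L : Fin r → X.Modules) (hL : ∀ i, PicF.IsInvertible (L i))
    (d : ℕ) (x : KZero.K0sub (PC X)) (_ : x ∈ FilLT X (d + 1)),
    ∃ P : MvPolynomial (Fin r) ℚ, P.totalDegree ≤ d ∧ ∀ n : Fin r → ℕ,
      ((eulerHom k X (Tn r L hL n x) : ℤ) : ℚ) = MvPolynomial.eval (fun i => (n i : ℚ)) P := by
  intro r
  induction r with
  | zero =>
    intro L hL d x _
    refine ⟨MvPolynomial.C ((eulerHom k X x : ℤ) : ℚ), by rw [MvPolynomial.totalDegree_C]; exact Nat.zero_le _, ?_⟩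
    intro n
    rw [MvPolynomial.eval_C]
    rfl
  | succ r ih =>
    intro L hL d x hx
    set A := L (Fin.last r) with hA_def
    have hA : PicF.IsInvertible A := hL (Fin.last r)
    set L' : Fin r → X.Modules := fun i => L i.castSucc with hL'_def
    have hL' : ∀ i, PicF.IsInvertible (L' i) := fun i => hL i.castSucc
    set Dp : AddMonoid.End (KZero.K0sub (PC X)) := T A hA - 1 with hDp
    have hmem : ∀ i, (Dp ^ i) x ∈ FilLT X (d + 1 - i) := fun i => pow_sub_one_mem A hA (d + 1) x hx i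
    have hzero : ∀ i, d < i → (Dp ^ i) x = 0 := by
      intro i hi
      have h := hmem i
      rw [show d + 1 - i = 0 by omega, FilLT_zero, AddSubgroup.mem_bot] at h
      exact h
    let g : ℕ → (Fin r → ℕ) → ℚ := fun i n' => ((eulerHom k X (Tn r L' hL' n' ((Dp ^ i) x)) : ℤ) : ℚ)
    have hg0 : ∀ i, d < i → ∀ n', g i n' = 0 := by
      intro i hi n'
      change ((eulerHom k X (Tn r L' hL' n' ((Dp ^ i) x)) : ℤ) : ℚ) = 0
      rw [hzero i hi, map_zero, map_zero, Int.cast_zero]
    have hg : ∀ i, ∃ P : MvPolynomial (Fin r) ℚ, P.totalDegree ≤ d - i ∧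
        ∀ n', g i n' = MvPolynomial.eval (fun s => (n' s : ℚ)) P := by
      intro i
      by_cases hi : i ≤ d
      · have h := hmem i
        rw [show d + 1 - i = (d - i) + 1 by omega] at h
        exact ih L' hL' (d - i) _ h
      · refine ⟨0, by simp, fun n' => ?_⟩
        rw [hg0 i (by omega) n', map_zero]
    refine SnapAlg.exists_poly_step r d g hg hg0
      (fun n => ((eulerHom k X (Tn (r + 1) L hL n x) : ℤ) : ℚ)) ?_
    intro n
    change ((eulerHom k X (((T A hA) ^ (n (Fin.last r))) (Tn r L' hL' (fun s => n s.castSucc) x)) : ℤ) : ℚ) = _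
    rw [pow_apply_eq_sum, map_sum, Int.cast_sum]
    refine Finset.sum_congr rfl fun i _ => ?_
    have hc : Commute (Dp ^ i) (Tn r L' hL' (fun s => n s.castSucc)) :=
      ((T_commute_Tn A hA r L' hL' _).sub_left (Commute.one_left _)).pow_left i
    have hc' : (Dp ^ i) (Tn r L' hL' (fun s => n s.castSucc) x) =
        Tn r L' hL' (fun s => n s.castSucc) ((Dp ^ i) x) := DFunLike.congr_fun hc.eq x
    rw [map_nsmul, hc']
    change _ = ((n (Fin.last r)).choose i : ℚ) *
      ((eulerHom k X (Tn r L' hL' (fun s => n s.castSucc) ((Dp ^ i) x)) : ℤ) : ℚ)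
    rw [nsmul_eq_mul]
    push_cast
    rfl

/-- **Snapper's theorem** (S1528) -/
theorem snapper (F : X.Modules) (hF : Coh.IsCoh F) (d : ℕ)
    (hsupp : topologicalKrullDim (CohB1.support F) ≤ d)
    (r : ℕ) (L : Fin r → X.Modules) (hL : ∀ i, PicF.IsInvertible (L i)) :
    ∃ P : MvPolynomial (Fin r) ℚ, P.totalDegree ≤ d ∧
      ∀ n : Fin r → ℕ, (Curv2.euler k X (Curv2.tensorPows F r L n) : ℚ) =
        MvPolynomial.eval (fun i => (n i : ℚ)) P := by
  obtain ⟨P, hP, h⟩ := snapper_k0 k X r L hL d (KZero.clSub (PC X) F)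
    (clSub_mem_FilLT d F hF hsupp)
  refine ⟨P, hP, fun n => ?_⟩
  rw [← h n, ← clSub_tensorPows F hF r L hL n,
    eulerHom_clSub k X _ (isCoh_tensorPows F hF r L hL n)]

end Main

end Groth.Agent.Helper1.Snap
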