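import Mathlib

/-!
# Top multilinear coefficients of numerical polynomials (helper1)
-/

set_option autoImplicit false
open MvPolynomial Finset

namespace Groth.Agent.Helper1.SnapAlg

/-- the multi-index `(1, …, 1)` -/
noncomputable abbrev ones (d : ℕ) : Fin d →₀ ℕ := Finsupp.equivFunOnFinite.symm fun _ : Fin d => 1

theorem ones_degree (d : ℕ) : ∑ i ∈ (ones d).support, (ones d) i = d := by
  have h : (ones d).support = Finset.univ := by
    ext i
    simp [ones]
  rw [h]
  simp [ones]

theorem cons_ones (e : ℕ) : (ones e).cons 1 = ones (e + 1) := by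
  refine Finsupp.ext fun i => ?_
  refine Fin.cases ?_ (fun j => ?_) i
  · simp [ones]
  · simp [ones]

theorem cons_degree (e i : ℕ) :
    ∑ j ∈ ((ones e).cons i).support, ((ones e).cons i) j = i + e := by
  have h : ∑ j ∈ ((ones e).cons i).support, ((ones e).cons i) j =
      ∑ j : Fin (e + 1), ((ones e).cons i) j := by
    apply Finset.sum_subset (Finset.subset_univ _)
    intro j _ hj
    simpa using hj
  rw [h, Fin.sum_univ_succ]
  simp [ones]

/-- polynomials agreeing on natural points are equal -/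
theorem eq_of_eval_nat_eq {σ : Type*} (P Q : MvPolynomial σ ℚ)
    (h : ∀ n : σ → ℕ, eval (fun i => (n i : ℚ)) P = eval (fun i => (n i : ℚ)) Q) : P = Q := by
  apply MvPolynomial.funext_set (fun _ => Set.range (Nat.cast : ℕ → ℚ))
    (fun _ => Set.infinite_range_of_injective Nat.cast_injective)
  intro x hx
  have hx' : ∀ i, ∃ n : ℕ, (n : ℚ) = x i := fun i => hx i (Set.mem_univ i)
  choose n hn using hx'
  have : x = fun i => (n i : ℚ) := funext fun i => (hn i).symm
  rw [this]
  exact h n

/-- the partial difference in the first variable and the top multilinear coefficient -/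
theorem topCoeff_diff (e : ℕ) (P : MvPolynomial (Fin (e + 1)) ℚ) (hP : P.totalDegree ≤ e + 1) :
    ∃ Q : MvPolynomial (Fin e) ℚ, Q.totalDegree ≤ e ∧
      (∀ s : Fin e → ℚ, eval s Q = eval (Fin.cons 1 s : Fin (e + 1) → ℚ) P -
        eval (Fin.cons 0 s : Fin (e + 1) → ℚ) P) ∧
      coeff (ones e) Q = coeff (ones (e + 1)) P := by
  set F := finSuccEquiv ℚ e P with hF
  set N := F.natDegree with hN
  refine ⟨∑ i ∈ Finset.Ico 1 (N + 1), F.coeff i, ?_, ?_, ?_⟩
  · apply totalDegree_finsetSum_le
    intro i hi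
    have hi1 : 1 ≤ i := (Finset.mem_Ico.1 hi).1
    by_cases h0 : F.coeff i = 0
    · rw [h0, totalDegree_zero]; exact Nat.zero_le _
    · have := totalDegree_coeff_finSuccEquiv_add_le P i h0
      change (F.coeff i).totalDegree + i ≤ P.totalDegree at this
      omega
  · intro s
    have hdeg : (Polynomial.map (eval s) F).natDegree < N + 1 :=
      Nat.lt_succ_of_le (Polynomial.natDegree_map_le)
    rw [eval_eq_eval_mv_eval', eval_eq_eval_mv_eval', Polynomial.eval_eq_sum_range' hdeg,
      ← Polynomial.coeff_zero_eq_eval_zero, map_sum]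
    simp only [one_pow, mul_one, Polynomial.coeff_map]
    rw [Finset.range_eq_Ico, Finset.sum_eq_sum_Ico_succ_bot (Nat.succ_pos N)]
    ring
  · rw [coeff_sum]
    have hterm : ∀ i, coeff (ones e) (F.coeff i) = coeff ((ones e).cons i) P := fun i =>
      finSuccEquiv_coeff_coeff (ones e) P i
    simp only [hterm]
    rw [Finset.sum_eq_single 1]
    · rw [cons_ones]
    · intro i hi hne
      have hi1 : 1 ≤ i := (Finset.mem_Ico.1 hi).1
      apply coeff_eq_zero_of_totalDegree_lt
      rw [cons_degree]
      omega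
    · intro h1
      have hN0 : N < 1 := by
        by_contra hcon
        exact h1 (Finset.mem_Ico.2 ⟨le_rfl, by omega⟩)
      rw [← hterm 1, Polynomial.coeff_eq_zero_of_natDegree_lt hN0, coeff_zero]

theorem cons_cast {d : ℕ} (a : ℕ) (n : Fin d → ℕ) :
    (Fin.cons (a : ℚ) (fun i => (n i : ℚ)) : Fin (d + 1) → ℚ) =
      fun i => ((Fin.cons a n : Fin (d + 1) → ℕ) i : ℚ) := by
  funext i
  refine Fin.cases ?_ (fun j => ?_) i <;> simp

/-- the top multilinear coefficient of an integer valued polynomial of degree at most the number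
of variables is an integer -/
theorem topCoeff_int : ∀ (d : ℕ) (P : MvPolynomial (Fin d) ℚ), P.totalDegree ≤ d →
    (∀ n : Fin d → ℕ, ∃ z : ℤ, eval (fun i => (n i : ℚ)) P = z) →
    ∃ z : ℤ, coeff (ones d) P = z := by
  intro d
  induction d with
  | zero =>
    intro P _ hint
    obtain ⟨z, hz⟩ := hint (fun _ => 0)
    refine ⟨z, ?_⟩
    have h0 : ones 0 = 0 := Finsupp.ext fun i => i.elim0
    rw [h0, ← hz]
    conv_rhs => rw [P.eq_C_of_isEmpty, eval_C]
  | succ d ih =>
    intro P hP hint
    obtain ⟨Q, hQd, hQe, hQc⟩ := topCoeff_diff d P hP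
    rw [← hQc]
    apply ih Q hQd
    intro n
    obtain ⟨z1, hz1⟩ := hint (Fin.cons 1 n)
    obtain ⟨z0, hz0⟩ := hint (Fin.cons 0 n)
    refine ⟨z1 - z0, ?_⟩
    rw [hQe]
    have h1 := cons_cast 1 n
    have h0 := cons_cast 0 n
    rw [Nat.cast_one] at h1
    rw [Nat.cast_zero] at h0
    rw [h1, h0, hz1, hz0]
    push_cast
    rfl

end Groth.Agent.Helper1.SnapAlg
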