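import Mathlib
import Groth.Agent.Lib.Helper1.VB1
import Groth.Agent.Lib.Helper1.Curve2
import Groth.Agent.Lib.Helper1.Euler5

/-!
# Kernels and images of maps of vector bundles on regular curves (helper1)
-/

set_option autoImplicit false
universe u
open CategoryTheory CategoryTheory.Limits AlgebraicGeometry TopologicalSpace Opposite

namespace Groth.Agent.Helper1.VB

open Groth.Agent.Lib.Helper4 Groth.Agent.Helper1.Dv Groth.Agent.Helper1.FinLen
  Groth.Agent.Helper1.Euler Groth.Agent.Helper1.Curve Groth.Agent.Lib.Helper5.StalkAdj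

section General

variable {X : Scheme.{u}}

/-- a locally free module of rank zero is zero -/
theorem isZero_of_rank_zero {G : X.Modules} (hG : FlatMod.IsFinLocFreeOfRank 0 G) : IsZero G := by
  apply Dv.isZero_of_support_subset_empty
  intro x hx
  apply hx
  have hff := Groth.Agent.Lib.Helper5.StalkFree.free_finite_stalk_of_isFinLocFree G
    (isFinLocFree_of_rank hG) x
  haveI : Module.Free (X.presheaf.stalk x) (G.presheaf.stalk x) := hff.1
  haveI : Module.Finite (X.presheaf.stalk x) (G.presheaf.stalk x) := hff.2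
  have h0 : Module.finrank (X.presheaf.stalk x) (G.presheaf.stalk x) = 0 :=
    finrank_stalk_of_rank hG x
  exact (Module.finrank_eq_zero_iff_of_free (X.presheaf.stalk x) _).1 h0

/-- a full-rank locally free submodule is generically everything -/
theorem subsingleton_stalk_cokernel_of_rank_eq [IsIntegral X] {G F : X.Modules} {r : ℕ}
    (hG : FlatMod.IsFinLocFreeOfRank r G) (hF : FlatMod.IsFinLocFreeOfRank r F)
    (i : G ⟶ F) [Mono i] :
    Subsingleton ((cokernel i).presheaf.stalk (genericPoint X)) := by
  let S : ShortComplex X.Modules := ShortComplex.mk i (cokernel.π i) (cokernel.condition i)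
  have hS : S.Exact := ShortComplex.exact_cokernel i
  haveI : Mono S.f := inferInstanceAs (Mono i)
  haveI : Epi S.g := inferInstanceAs (Epi (cokernel.π i))
  have hSE : S.ShortExact := { exact := hS }
  have hT := hSE.map_of_exact (stalkSh X (genericPoint X))
  have hinj : Function.Injective (stalkL S.f (genericPoint X)) :=
    (ModuleCat.mono_iff_injective _).1 hT.mono_f
  have hsurj : Function.Surjective (stalkL S.g (genericPoint X)) :=
    (ModuleCat.epi_iff_surjective _).1 hT.epi_g
  have hex : Function.Exact (stalkL S.f (genericPoint X)) (stalkL S.g (genericPoint X)) :=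
    (ShortComplex.ShortExact.moduleCat_exact_iff_function_exact _).1 hT.exact
  letI : Field (X.presheaf.stalk (genericPoint X)) := inferInstanceAs (Field X.functionField)
  have fG := Groth.Agent.Lib.Helper5.StalkFree.free_finite_stalk_of_isFinLocFree G
    (isFinLocFree_of_rank hG) (genericPoint X)
  have fF := Groth.Agent.Lib.Helper5.StalkFree.free_finite_stalk_of_isFinLocFree F
    (isFinLocFree_of_rank hF) (genericPoint X)
  haveI : Module.Finite (X.presheaf.stalk (genericPoint X))
    (G.presheaf.stalk (genericPoint X)) := fG.2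
  haveI : Module.Finite (X.presheaf.stalk (genericPoint X))
    (F.presheaf.stalk (genericPoint X)) := fF.2
  have r1 : Module.finrank (X.presheaf.stalk (genericPoint X))
      (G.presheaf.stalk (genericPoint X)) = r := finrank_stalk_of_rank hG _
  have r2 : Module.finrank (X.presheaf.stalk (genericPoint X))
      (F.presheaf.stalk (genericPoint X)) = r := finrank_stalk_of_rank hF _
  have hsurj' : Function.Surjective (stalkL S.f (genericPoint X)) :=
    (LinearMap.injective_iff_surjective_of_finrank_eq_finrank (r1.trans r2.symm)).1 hinj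
  refine subsingleton_of_forall_eq 0 fun q => ?_
  obtain ⟨b, rfl⟩ := hsurj q
  obtain ⟨a, rfl⟩ := hsurj' b
  exact hex.apply_apply_eq_zero a

end General

section Curve

variable (k : Type u) [Field k] (X : Scheme.{u}) [X.Over (Spec (CommRingCat.of k))]
  [IsProper (X ↘ (Spec (CommRingCat.of k)))] [IsIntegral X]

omit [IsProper (X ↘ (Spec (CommRingCat.of k)))] [IsIntegral X] in
theorem euler_of_isZero {G : X.Modules} (hG : IsZero G) : Curv2.euler k X G = 0 := by
  unfold Curv2.euler
  have : ∀ i : ℕ, (-1 : ℤ) ^ i * (Module.finrank k (Coh.HH X G i) : ℤ) = 0 := by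
    intro i
    haveI := H1Ext.subsingleton_HH_of_isZero hG i
    rw [Module.finrank_zero_of_subsingleton]
    simp
  simp only [this, finsum_zero]

include k in
/-- a quasi-coherent submodule of a vector bundle on a regular curve is a vector bundle -/
theorem sub_locFree (hX : ∀ x : X, ValuationRing (X.presheaf.stalk x)) {G F : X.Modules}
    [G.IsQuasicoherent] {s : ℕ} (hF : FlatMod.IsFinLocFreeOfRank s F) (i : G ⟶ F) [Mono i] :
    ∃ r' : ℕ, FlatMod.IsFinLocFreeOfRank r' G ∧ r' ≤ s := by
  haveI := isNoetherian_of_proper k X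
  have h1 := isFinLocFree_of_mono hX (isFinLocFree_of_rank hF) i
  obtain ⟨r', hr'⟩ := exists_rank G h1
  exact ⟨r', hr', rank_le_of_mono (genericPoint X) hr' hF i⟩

/-- kernel and image of a map of vector bundles on a regular curve -/
theorem ker_im (hX : ∀ x : X, ValuationRing (X.presheaf.stalk x)) {E F : X.Modules} {r s : ℕ}
    (hE : FlatMod.IsFinLocFreeOfRank r E) (hF : FlatMod.IsFinLocFreeOfRank s F) (f : E ⟶ F) :
    ∃ rK rI : ℕ, FlatMod.IsFinLocFreeOfRank rK (kernel f) ∧
      FlatMod.IsFinLocFreeOfRank rI (Abelian.image f) ∧ r = rK + rI ∧ rI ≤ s ∧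
      Curv2.deg k X E r = Curv2.deg k X (kernel f) rK + Curv2.deg k X (Abelian.image f) rI ∧
      (f ≠ 0 → 0 < rI) := by
  haveI : E.IsQuasicoherent :=
    (Groth.Agent.Lib.Helper5.LocalCoh.isCoh_of_isFinLocFree _ (isFinLocFree_of_rank hE)).1
  haveI : F.IsQuasicoherent :=
    (Groth.Agent.Lib.Helper5.LocalCoh.isCoh_of_isFinLocFree _ (isFinLocFree_of_rank hF)).1
  haveI : (kernel f).IsQuasicoherent := QcAbel.isQuasicoherent_kernel f
  haveI : (Abelian.image f).IsQuasicoherent := QcAbel.isQuasicoherent_image f
  obtain ⟨rK, hK, -⟩ := sub_locFree k X hX hE (kernel.ι f)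
  obtain ⟨rI, hI, hIs⟩ := sub_locFree k X hX hF (Abelian.image.ι f)
  have hSE := H1Ext.kerIm_shortExact f
  have hr : r = rK + rI :=
    rank_add_of_shortExact (genericPoint X) (H1Ext.kerIm f) hSE rK r rI hK hE hI
  have hd := deg_additive k X (H1Ext.kerIm f) hSE rK r rI hK hE hI
  refine ⟨rK, rI, hK, hI, hr, hIs, hd, fun hf => ?_⟩
  by_contra h0
  have h0' : rI = 0 := by omega
  subst h0'
  have hz := isZero_of_rank_zero hI
  apply hf
  rw [← Abelian.image.fac f, hz.eq_of_src (Abelian.image.ι f) 0, comp_zero]

end Curve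

end Groth.Agent.Helper1.VB
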