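import Mathlib
import Groth.Agent.S8914
import Groth.Agent.Lib.Helper1.CocycleIso
import Groth.Agent.Lib.Helper1.TensGen
import Groth.Agent.Lib.Helper4.EffCartier

/-!
# The ideal sheaf of a product of invertible ideals is the tensor product (helper1)
-/

set_option autoImplicit false
universe u
open CategoryTheory CategoryTheory.Limits AlgebraicGeometry TopologicalSpace Opposite

namespace Groth.Agent.Helper1.IdealMul

open Groth.Agent.Lead.IdM Groth.Agent.Helper1.QcCech Groth.Agent.Helper1.LGen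
open Groth.Agent.Helper1.TensGen Groth.Agent.Helper1.CocycleIso Groth.Agent.Helper1
open Groth.Agent.Helper1.TmulLib

variable {X : Scheme.{u}} (I J : X.IdealSheafData)

theorem ιL_res' {U V : X.Opens} (h : V ≤ U) (m : Γ(ClSub.idealMod I, U)) :
    ιL I V (res (ClSub.idealMod I) h m) = resR h (ιL I U m) :=
  ιL_res I h m

/-- on an affine open, the ideal is generated by the image of a free generator -/
theorem ideal_eq_span_of_isGen (W : X.affineOpens) {g : Γ(ClSub.idealMod I, W.1)}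
    (hg : IsGen (ClSub.idealMod I) W.1 g) : I.ideal W = Ideal.span {ιL I W.1 g} := by
  rw [← range_ιL I W]
  ext r
  constructor
  · rintro ⟨m, rfl⟩
    obtain ⟨c, rfl⟩ := hg.exists_coeff m
    rw [map_smul, smul_eq_mul]
    exact Ideal.mem_span_singleton'.2 ⟨c, rfl⟩
  · intro hr
    obtain ⟨c, rfl⟩ := Ideal.mem_span_singleton'.1 hr
    exact ⟨c • g, by rw [map_smul, smul_eq_mul]⟩

/-- matching generators of `I`, `J` and `I * J` -/
structure Idx where
  W : X.Opens
  g : Γ(ClSub.idealMod I, W)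
  h : Γ(ClSub.idealMod J, W)
  b : Γ(ClSub.idealMod (I * J), W)
  hg : IsGen (ClSub.idealMod I) W g
  hh : IsGen (ClSub.idealMod J) W h
  hb : IsGen (ClSub.idealMod (I * J)) W b
  eq : ιL (I * J) W b = ιL I W g * ιL J W h

variable {I J}

theorem exists_idx (hI : PicF.IsInvertible (ClSub.idealMod I))
    (hJ : PicF.IsInvertible (ClSub.idealMod J)) (x : X) : ∃ i : Idx I J, x ∈ i.W := by
  have hIJ : PicF.IsInvertible (ClSub.idealMod (I * J)) :=
    Groth.Agent.S8914.backward _ (Groth.Agent.Helper4.EffCartier.mul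
      (Groth.Agent.S8914.forward _ hI) (Groth.Agent.S8914.forward _ hJ))
  obtain ⟨W₁, g₁, hx₁, hg₁⟩ := exists_isGen hI x
  obtain ⟨W₂, h₂, hx₂, hh₂⟩ := exists_isGen hJ x
  obtain ⟨W₃, b₃, hx₃, hb₃⟩ := exists_isGen hIJ x
  obtain ⟨_, ⟨W, hW, rfl⟩, hxW, hWle⟩ := X.isBasis_affineOpens.exists_subset_of_mem_open
    (show x ∈ ((W₁ ⊓ W₂ ⊓ W₃ : X.Opens) : Set X) from ⟨⟨hx₁, hx₂⟩, hx₃⟩) (W₁ ⊓ W₂ ⊓ W₃).2
  have hle₁ : W ≤ W₁ := fun y hy => (hWle hy).1.1
  have hle₂ : W ≤ W₂ := fun y hy => (hWle hy).1.2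
  have hle₃ : W ≤ W₃ := fun y hy => (hWle hy).2
  have hg := hg₁.res hle₁
  have hh := hh₂.res hle₂
  have hb₀ := hb₃.res hle₃
  set g := res (ClSub.idealMod I) hle₁ g₁
  set h := res (ClSub.idealMod J) hle₂ h₂
  set b₀ := res (ClSub.idealMod (I * J)) hle₃ b₃
  have e1 := ideal_eq_span_of_isGen I ⟨W, hW⟩ hg
  have e2 := ideal_eq_span_of_isGen J ⟨W, hW⟩ hh
  have e3 : (I * J).ideal ⟨W, hW⟩ = Ideal.span {ιL I W g * ιL J W h} := by
    rw [Scheme.IdealSheafData.ideal_mul, Pi.mul_apply, e1, e2,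
      Ideal.span_singleton_mul_span_singleton]
  -- a section with the product as image
  obtain ⟨b, hbeq⟩ : ∃ b, ιL (I * J) W b = ιL I W g * ιL J W h := by
    have : ιL I W g * ιL J W h ∈ LinearMap.range (ιL (I * J) W) := by
      rw [range_ιL (I * J) ⟨W, hW⟩, e3]
      exact Ideal.mem_span_singleton_self _
    exact this
  obtain ⟨c, hc⟩ := hb₀.exists_coeff b
  have hb₀mem : ιL (I * J) W b₀ ∈ (I * J).ideal ⟨W, hW⟩ := by
    rw [← range_ιL (I * J) ⟨W, hW⟩]
    exact ⟨b₀, rfl⟩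
  rw [e3] at hb₀mem
  obtain ⟨d, hd⟩ := Ideal.mem_span_singleton'.1 hb₀mem
  have h1 : b₀ = (d * c) • b₀ := by
    apply ιL_injective (I * J) W
    rw [mul_smul, hc, map_smul, smul_eq_mul, hbeq, hd]
  have h2 : d * c = 1 := by
    apply (IsGen.bijective_self hb₀).1
    show (d * c) • b₀ = (1 : Γ(X, W)) • b₀
    rw [one_smul, ← h1]
  have hcu : IsUnit c := IsUnit.of_mul_eq_one _ (by rw [mul_comm]; exact h2)
  have hb : IsGen (ClSub.idealMod (I * J)) W b := by
    rw [← hc]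
    exact TwForm.IsGen.smul_unit hb₀ hcu.unit
  exact ⟨⟨W, g, h, b, hg, hh, hb, hbeq⟩, hxW⟩

/-- the matching family -/
noncomputable def genFam (hI : PicF.IsInvertible (ClSub.idealMod I))
    (hJ : PicF.IsInvertible (ClSub.idealMod J)) :
    GenFam (CohB1.tensorMod (ClSub.idealMod I) (ClSub.idealMod J)) (ClSub.idealMod (I * J)) where
  ι := Idx I J
  W := fun i => i.W
  a := fun i => tm _ _ i.W i.g i.h
  b := fun i => i.b
  ha := fun i => isGen_tm i.hg i.hh
  hb := fun i => i.hb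
  cov := exists_idx hI hJ
  compat := by
    intro i j v hv
    have hgj := j.hg.res (inf_le_right : i.W ⊓ j.W ≤ j.W)
    have hhj := j.hh.res (inf_le_right : i.W ⊓ j.W ≤ j.W)
    obtain ⟨r, hr⟩ := hgj.exists_coeff (res _ (inf_le_left : i.W ⊓ j.W ≤ i.W) i.g)
    obtain ⟨s, hs⟩ := hhj.exists_coeff (res _ (inf_le_left : i.W ⊓ j.W ≤ i.W) i.h)
    rw [res_tm, res_tm, ← hr, ← hs, tm_smul_left, tm_smul_right, smul_smul] at hv
    have hvr : r * s = v := (IsGen.bijective_self (isGen_tm hgj hhj)).1 hv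
    apply ιL_injective (I * J) (i.W ⊓ j.W)
    rw [map_smul, smul_eq_mul, ιL_res', ιL_res', i.eq, j.eq, map_mul, map_mul,
      ← ιL_res', ← ιL_res', ← ιL_res', ← ιL_res', ← hr, ← hs, map_smul, map_smul,
      smul_eq_mul, smul_eq_mul, ← hvr]
    ring

/-- **`I ⊗ J ≅ I J` for invertible ideal sheaves** -/
noncomputable def iso (hI : PicF.IsInvertible (ClSub.idealMod I))
    (hJ : PicF.IsInvertible (ClSub.idealMod J)) :
    CohB1.tensorMod (ClSub.idealMod I) (ClSub.idealMod J) ≅ ClSub.idealMod (I * J) :=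
  (genFam hI hJ).iso

theorem isInvertible_mul (hI : PicF.IsInvertible (ClSub.idealMod I))
    (hJ : PicF.IsInvertible (ClSub.idealMod J)) : PicF.IsInvertible (ClSub.idealMod (I * J)) :=
  Groth.Agent.S8914.backward _ (Groth.Agent.Helper4.EffCartier.mul
    (Groth.Agent.S8914.forward _ hI) (Groth.Agent.S8914.forward _ hJ))

theorem isInvertible_pow (hI : PicF.IsInvertible (ClSub.idealMod I)) (n : ℕ) :
    PicF.IsInvertible (ClSub.idealMod (I ^ (n + 1))) := by
  induction n with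
  | zero => rw [zero_add, pow_one]; exact hI
  | succ n ih => rw [pow_succ]; exact isInvertible_mul ih hI

end Groth.Agent.Helper1.IdealMul
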