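import Mathlib
import Groth.Agent.Lib.Helper1.GenusOne1
import Groth.Agent.Lib.Helper1.IdealMul1

/-!
# Curves of arithmetic genus one: the modules `O(np)` (helper1)
-/

set_option autoImplicit false
universe u
open CategoryTheory CategoryTheory.Limits AlgebraicGeometry TopologicalSpace Opposite

namespace Groth.Agent.Helper1.GenusOne

open Groth.Agent.Helper1.CurveDual Groth.Agent.Helper1.CurvePt Groth.Agent.Helper1.CurveLin
open Groth.Agent.Helper1.Euler Groth.Agent.Helper1.Curve Groth.Agent.Helper1.PtInv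
open Groth.Agent.Helper1 Groth.Agent.Helper1.LGen Groth.Agent.Helper1.TwForm
open Groth.Agent.Helper1.QcCech Groth.Agent.Helper1.PtDeg Groth.Agent.Helper1.P1Iso
open Groth.Agent.Lib.Helper4 Groth.Agent.Lib.Helper4.TwExact Groth.Agent.Helper1.CurveAmp

attribute [local instance] Curv2.resAlgebra

section Pow

variable (k : Type u) [Field k] (X : Scheme.{u}) [X.Over (Spec (CommRingCat.of k))]
  [IsIntegral X] [IsProper (X ↘ (Spec (CommRingCat.of k)))]

/-- the degree of a power of an invertible ideal sheaf -/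
theorem deg_idealMod_pow (hdim : topologicalKrullDim X = 1) (I : X.IdealSheafData)
    (hI : PicF.IsInvertible (ClSub.idealMod I)) (n : ℕ) :
    Curv2.deg k X (ClSub.idealMod (I ^ (n + 1))) 1 =
      ((n : ℤ) + 1) * Curv2.deg k X (ClSub.idealMod I) 1 := by
  induction n with
  | zero => simp [pow_one]
  | succ n ih =>
    rw [pow_succ, ← deg_iso k X (IdealMul.iso (IdealMul.isInvertible_pow hI n) hI) 1,
      deg_tensor_inv k X hdim (IdealMul.isInvertible_pow hI n) hI, ih]
    push_cast
    ring

include k in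
/-- the ideal sheaf of a regular closed point of an integral curve is invertible -/
theorem isInvertible_ptIdeal_of_regular (hdim : topologicalKrullDim X = 1) (P : X)
    (hP : IsClosed ({P} : Set X)) (hreg : IsRegularLocalRing (X.presheaf.stalk P)) :
    PicF.IsInvertible (ClSub.idealMod (ptIdeal P hP)) := by
  haveI := isNoetherian_of_proper k X
  haveI : IsLocallyNoetherian X := (isNoetherian_of_proper k X).toIsLocallyNoetherian
  haveI := hreg
  haveI : IsDomain (X.presheaf.stalk P) := inferInstance
  haveI : ValuationRing (X.presheaf.stalk P) :=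
    VB5.valuationRing_of_regular _ (VB5.ringKrullDim_stalk_le hdim.le P)
  have hpr : (IsLocalRing.maximalIdeal (X.presheaf.stalk P)).IsPrincipal :=
    ((tfae_of_isNoetherianRing_of_isLocalRing_of_isDomain
      (R := X.presheaf.stalk P)).out 1 4).1 (inferInstance : ValuationRing (X.presheaf.stalk P))
  exact isInvertible_ptIdeal P hP hpr (maximalIdeal_ne_bot X hdim P hP)

/-- a module with an invertible tensor-inverse is invertible, of opposite degree -/
theorem isInvertible_of_isInverseOf (hdim : topologicalKrullDim X = 1) {L M : X.Modules}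
    (hM : PicF.IsInvertible M) (e : CohB1.tensorMod L M ≅ Coh.structureModule X) :
    PicF.IsInvertible L ∧ Curv2.deg k X L 1 = - Curv2.deg k X M 1 := by
  obtain ⟨K, hK, ⟨eK⟩⟩ := InvInv2.exists_inverse hM
  obtain ⟨u⟩ := TwistAmpleOpen.nonempty_tensorMod_unit_iso K
  have c1 := (SecTwist.unitorR L).symm
  have c2 := TwistTens.tensorModCongrRight L ((TildeTens.tensorModComm M K) ≪≫ eK).symm
  have c3 := (assocIso L hM hK).symm
  have c4 := TwistTens.tensorModCongrLeft e K
  have eLK : L ≅ K := c1 ≪≫ c2 ≪≫ c3 ≪≫ c4 ≪≫ u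
  refine ⟨TwistAmpleOpen.isInvertible_of_iso eLK.symm hK, ?_⟩
  rw [deg_iso k X eLK 1]
  exact deg_of_inverse k X hdim hK hM eK

/-- **S7933**: the modules `O(np)` on a curve of arithmetic genus one -/
theorem genus_one_np (hdim : topologicalKrullDim X = 1)
    (hpa : Curv2.euler k X (Coh.structureModule X) = 0)
    (p : X) (hp : IsClosed ({p} : Set X)) (hrat : Module.finrank k (X.residueField p) = 1)
    (hreg : IsRegularLocalRing (X.presheaf.stalk p))
    (n : ℕ) (L : X.Modules)
    (hL : ClSub.IsInverseOf L (ClSub.idealMod ((ptIdeal p hp) ^ n))) :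
    Module.finrank k (Coh.HH X (Coh.structureModule X) 0) = 1 ∧
      Module.finrank k (Coh.HH X (Coh.structureModule X) 1) = 1 ∧
      (n = 1 → Module.finrank k (Coh.HH X L 0) = 1) ∧
      (2 ≤ n → Module.finrank k (Coh.HH X L 0) = n) ∧
      (1 ≤ n → Subsingleton (Coh.HH X L 1)) ∧
      (2 ≤ n → Curv2.IsGloballyGenerated L) := by
  haveI := isNoetherian_of_proper k X
  have h0 := finrank_H0_eq_one_of_rational k X p hp hrat
  have hOc : Coh.IsCoh (Coh.structureModule X) :=
    InvQc.isCoh_of_isInvertible _ GenLoc.isInvertible_O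
  have eO := euler_eq_h0_sub_h1 k X hdim.le _ hOc.1
  rw [hpa, h0] at eO
  have h1 : Module.finrank k (Coh.HH X (Coh.structureModule X) 1) = 1 := by
    push_cast at eO
    have : (Module.finrank k (Coh.HH X (Coh.structureModule X) 1) : ℤ) = 1 := by linarith
    exact_mod_cast this
  have hg : Curv2.genus k X = 1 := h1
  refine ⟨h0, h1, ?_⟩
  rcases Nat.eq_zero_or_pos n with hn0 | hnpos
  · subst hn0
    exact ⟨fun h => absurd h (by norm_num), fun h => absurd h (by norm_num),
      fun h => absurd h (by norm_num), fun h => absurd h (by norm_num)⟩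
  obtain ⟨m, rfl⟩ : ∃ m, n = m + 1 := ⟨n - 1, by omega⟩
  have hIp := isInvertible_ptIdeal_of_regular k X hdim p hp hreg
  have hM := IdealMul.isInvertible_pow hIp m
  have hdM := deg_idealMod_pow k X hdim _ hIp m
  rw [deg_ptIdeal' k X p hp, hrat] at hdM
  obtain ⟨e⟩ := hL
  obtain ⟨hLi, hdL⟩ := isInvertible_of_isInverseOf k X hdim hM e
  rw [hdM] at hdL
  have hdL' : Curv2.deg k X L 1 = (m : ℤ) + 1 := by
    rw [hdL]
    push_cast
    ring
  haveI hH1 : Subsingleton (Coh.HH X L 1) :=
    subsingleton_H1_of_deg_ge k X hdim _ hLi (by rw [hdL', hg]; push_cast; linarith)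
  have hLc : Coh.IsCoh L := InvQc.isCoh_of_isInvertible _ hLi
  have eL := euler_eq_h0_sub_h1 k X hdim.le _ hLc.1
  have hb1 : Module.finrank k (Coh.HH X L 1) = 0 := Module.finrank_zero_of_subsingleton
  rw [hb1] at eL
  have hdL'' := hdL'
  unfold Curv2.deg at hdL''
  rw [hpa] at hdL''
  push_cast at eL hdL''
  have hh0 : Module.finrank k (Coh.HH X L 0) = m + 1 := by
    have : (Module.finrank k (Coh.HH X L 0) : ℤ) = (m : ℤ) + 1 := by linarith
    exact_mod_cast this
  refine ⟨fun h => ?_, fun _ => hh0, fun _ => hH1, fun h => ?_⟩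
  · rw [hh0, h]
  · exact isGloballyGenerated_of_deg_ge k X hdim h0 L hLi (by
      rw [hdL', hg]
      push_cast
      have : (2 : ℤ) ≤ (m : ℤ) + 1 := by exact_mod_cast h
      linarith)

end Pow

end Groth.Agent.Helper1.GenusOne
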