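import Mathlib
import Groth.Agent.Lib.Helper4.P1Curve1
import Groth.Prelude.Def_CohB1

/-!
# The projective line over a field is smooth (helper1)
-/

set_option autoImplicit false
universe u
open CategoryTheory CategoryTheory.Limits AlgebraicGeometry TopologicalSpace Opposite

namespace Groth.Agent.Helper1.P1Smooth

open Groth.Agent.Lib.Helper4.P1Curve1

variable (k : Type u) [Field k]

theorem smooth_chartC (i : Fin (1 + 1)) : (chartC k i).Smooth := by
  obtain ⟨j, hij⟩ : ∃ j : Fin (1 + 1), j ≠ i := by
    fin_cases i
    · exact ⟨1, by decide⟩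
    · exact ⟨0, by decide⟩
  letI : Algebra k (Chart k i) := (chartC k i).toAlgebra
  show Algebra.Smooth k (Chart k i)
  let e : Polynomial k ≃ₐ[k] Chart k i :=
    (AlgEquiv.ofRingEquiv (f := chartEquiv k i j hij) (fun c => chartEquiv_chartC k i j hij c)).symm
  haveI : Algebra.FormallySmooth k (Polynomial k) := inferInstance
  haveI : Algebra.FinitePresentation k (Polynomial k) := Algebra.FinitePresentation.polynomial k k
  haveI : Algebra.Smooth k (Polynomial k) := ⟨inferInstance, inferInstance⟩
  exact Algebra.Smooth.of_equiv e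

theorem smooth_P1_toSpec : Smooth (P1.toSpec k) := by
  apply IsZariskiLocalAtSource.of_iSup_eq_top (P := @Smooth)
    (fun i : Fin (1 + 1) => (chartι k i).opensRange)
  · rw [eq_top_iff]
    rintro x -
    obtain ⟨i, p, hp⟩ := exists_chart k x
    exact TopologicalSpace.Opens.mem_iSup.2 ⟨i, p, hp⟩
  · intro i
    have h1 : Smooth (chartι k i ≫ P1.toSpec k) := by
      rw [chartι_toSpec]
      exact (HasRingHomProperty.Spec_iff (P := @Smooth)).2 (smooth_chartC k i)
    rw [← IsOpenImmersion.isoOfRangeEq_inv_fac (chartι k i) (Scheme.Opens.ι _)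
      (congr_arg Opens.carrier (chartι k i).opensRange.opensRange_ι.symm), Category.assoc]
    infer_instance

theorem smooth_projSpace_one : Smooth (CohB1.ProjSpace.toSpec 1 k) :=
  smooth_P1_toSpec k

end Groth.Agent.Helper1.P1Smooth
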