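import Mathlib
import Groth.Agent.Lib.Helper1.GenusOne2
import Groth.Agent.Lib.Helper1.P1Iso3
import Groth.Agent.Lib.Helper1.P1Smooth
import Groth.Agent.Lib.Helper4.RegMisc1
import Groth.Agent.Lib.Helper4.PnX1

/-!
# The projective line: cohomology of `O(d)`, the Picard group, ideals of closed points (helper1)
-/

set_option autoImplicit false
universe u
open CategoryTheory CategoryTheory.Limits AlgebraicGeometry TopologicalSpace Opposite

namespace Groth.Agent.Helper1.VBP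

open Groth.Agent.Helper1.CurveDual Groth.Agent.Helper1.CurvePt Groth.Agent.Helper1.CurveLin
open Groth.Agent.Helper1.Euler Groth.Agent.Helper1.Curve Groth.Agent.Helper1.PtInv
open Groth.Agent.Helper1 Groth.Agent.Helper1.LGen Groth.Agent.Helper1.TwForm
open Groth.Agent.Helper1.QcCech Groth.Agent.Helper1.PtDeg Groth.Agent.Helper1.P1Iso
open Groth.Agent.Lib.Helper4 Groth.Agent.Lib.Helper4.TwExact Groth.Agent.Helper1.CurveAmp
open Groth.Agent.Helper1.GenusOne

variable (k : Type u) [Field k]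

theorem isInvertible_twist (d : ℤ) : PicF.IsInvertible (Twist.twistProjSpace 1 k d) :=
  Groth.Agent.Lib.Helper4.ClBridge2.isInvertible_twist 1 k d

theorem isCoh_twist (d : ℤ) : Coh.IsCoh (Twist.twistProjSpace 1 k d) :=
  InvQc.isCoh_of_isInvertible _ (isInvertible_twist k d)

theorem finrank_H0_twist (d : ℤ) :
    Module.finrank k (Coh.HH (CohB1.ProjSpace 1 k) (Twist.twistProjSpace 1 k d) 0) =
      (d + 1).toNat := by
  by_cases h0 : 0 ≤ d
  · obtain ⟨m, rfl⟩ := Int.eq_ofNat_of_zero_le h0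
    rw [Groth.Agent.Lib.Helper4.PnX1.fr_H0 k 1 m, Nat.choose_one_right]
    omega
  · rw [Groth.Agent.Lib.Helper4.PnX1.fr_zero k 1 d 0 (fun h => h0 h.2) (fun h => by omega)]
    omega

theorem finrank_H1_twist (d : ℤ) :
    Module.finrank k (Coh.HH (CohB1.ProjSpace 1 k) (Twist.twistProjSpace 1 k d) 1) =
      (-d - 1).toNat := by
  by_cases h1 : d ≤ -2
  · obtain ⟨m, hm⟩ : ∃ m : ℕ, d = -(((1 : ℕ) : ℤ) + 1 + m) := ⟨(-d - 2).toNat, by omega⟩
    subst hm
    rw [Groth.Agent.Lib.Helper4.PnX1.fr_Hr k 1 m, Nat.choose_one_right]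
    omega
  · rw [Groth.Agent.Lib.Helper4.PnX1.fr_zero k 1 d 1 (fun h => by omega) (fun h => by omega)]
    omega

theorem euler_twist (d : ℤ) :
    Curv2.euler k (CohB1.ProjSpace 1 k) (Twist.twistProjSpace 1 k d) = d + 1 := by
  rw [euler_eq_h0_sub_h1 k _ (dim_P1 k).le _ (isCoh_twist k d).1, finrank_H0_twist,
    finrank_H1_twist]
  omega

theorem euler_O :
    Curv2.euler k (CohB1.ProjSpace 1 k) (Coh.structureModule (CohB1.ProjSpace 1 k)) = 1 := by
  obtain ⟨e0⟩ := TwistTens.nonempty_twist_zero_iso (CohB1.polyGrading 1 k)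
  have e0' : Twist.twistProjSpace 1 k 0 ≅ Coh.structureModule (CohB1.ProjSpace 1 k) := e0
  have h := euler_twist k 0
  rw [euler_iso k _ e0'] at h
  simpa using h

theorem deg_twist (d : ℤ) :
    Curv2.deg k (CohB1.ProjSpace 1 k) (Twist.twistProjSpace 1 k d) 1 = d := by
  unfold Curv2.deg
  rw [euler_twist, euler_O]
  push_cast
  ring

theorem finrank_H0_O :
    Module.finrank k (Coh.HH (CohB1.ProjSpace 1 k)
      (Coh.structureModule (CohB1.ProjSpace 1 k)) 0) = 1 := by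
  obtain ⟨e0⟩ := TwistTens.nonempty_twist_zero_iso (CohB1.polyGrading 1 k)
  have e0' : Twist.twistProjSpace 1 k 0 ≅ Coh.structureModule (CohB1.ProjSpace 1 k) := e0
  rw [← (HHFin1.HHequiv k e0' 0).finrank_eq, finrank_H0_twist]
  rfl

/-- **the Picard group of the projective line** -/
theorem nonempty_iso_twist (L : (CohB1.ProjSpace 1 k).Modules) (hL : PicF.IsInvertible L) :
    Nonempty (L ≅ Twist.twistProjSpace 1 k (Curv2.deg k (CohB1.ProjSpace 1 k) L 1)) := by
  haveI := isNoetherian_of_proper k (CohB1.ProjSpace 1 k)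
  set d := Curv2.deg k (CohB1.ProjSpace 1 k) L 1 with hd
  have hdim := dim_P1 k
  have hO := isInvertible_twist k (-d)
  have hN : PicF.IsInvertible (CohB1.tensorMod L (Twist.twistProjSpace 1 k (-d))) :=
    isInvertible_tensorMod hL hO
  have hdN : Curv2.deg k (CohB1.ProjSpace 1 k)
      (CohB1.tensorMod L (Twist.twistProjSpace 1 k (-d))) 1 = 0 := by
    rw [deg_tensor_inv k _ hdim hL hO, deg_twist, ← hd]
    ring
  have hNc := InvQc.isCoh_of_isInvertible _ hN
  have eN := euler_eq_h0_sub_h1 k _ hdim.le _ hNc.1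
  have hχ : Curv2.euler k (CohB1.ProjSpace 1 k)
      (CohB1.tensorMod L (Twist.twistProjSpace 1 k (-d))) = 1 := by
    unfold Curv2.deg at hdN
    rw [euler_O] at hdN
    push_cast at hdN
    linarith
  haveI : Module.Finite k (Coh.HH (CohB1.ProjSpace 1 k)
      (CohB1.tensorMod L (Twist.twistProjSpace 1 k (-d))) 0) := T2Main1.t2 k _ _ hNc 0
  have hpos : 0 < Module.finrank k (Coh.HH (CohB1.ProjSpace 1 k)
      (CohB1.tensorMod L (Twist.twistProjSpace 1 k (-d))) 0) := by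
    rw [hχ] at eN
    omega
  obtain ⟨s', hs'⟩ := (Module.finrank_pos_iff_exists_ne_zero (R := k)).1 hpos
  have hσ' : HH0.equiv (CohB1.ProjSpace 1 k) _ s' ≠ 0 := fun h =>
    hs' ((HH0.equiv _ _).injective (h.trans (map_zero _).symm))
  have hφ : TwistAmple.homOfSec _ (HH0.equiv (CohB1.ProjSpace 1 k) _ s') ≠ 0 := by
    intro h
    apply hσ'
    have h2 := PFrame.homOfSec_app_one _ (HH0.equiv (CohB1.ProjSpace 1 k) _ s')
    rw [h] at h2
    exact h2.symm
  haveI := isIso_of_euler_le k _ hdim GenLoc.isInvertible_O hN _ hφ (by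
    rw [hχ, euler_O])
  have e1 : Coh.structureModule (CohB1.ProjSpace 1 k) ≅
      CohB1.tensorMod L (Twist.twistProjSpace 1 k (-d)) :=
    asIso (TwistAmple.homOfSec _ (HH0.equiv (CohB1.ProjSpace 1 k) _ s'))
  -- `L ≅ L ⊗ O ≅ L ⊗ (O(-d) ⊗ O(d)) ≅ (L ⊗ O(-d)) ⊗ O(d) ≅ O ⊗ O(d) ≅ O(d)`
  obtain ⟨e2⟩ := Groth.Agent.Lib.Helper4.RegRes1.nonempty_Tw_neg_iso 1 k d
  have e2' : CohB1.tensorMod (Twist.twistProjSpace 1 k (-d)) (Twist.twistProjSpace 1 k d) ≅
      Coh.structureModule (CohB1.ProjSpace 1 k) := e2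
  have b1 := assocIso L hO (isInvertible_twist k d)
  have b2 := TwistTens.tensorModCongrRight L e2'
  have b3 := SecTwist.unitorR L
  have a1 := TwistTens.tensorModCongrLeft e1.symm (Twist.twistProjSpace 1 k d)
  obtain ⟨a2⟩ := TwistAmpleOpen.nonempty_tensorMod_unit_iso (Twist.twistProjSpace 1 k d)
  exact ⟨b3.symm ≪≫ b2.symm ≪≫ b1.symm ≪≫ a1 ≪≫ a2⟩

instance : Smooth ((CohB1.ProjSpace 1 k) ↘ (Spec (CommRingCat.of k))) :=
  Groth.Agent.Helper1.P1Smooth.smooth_projSpace_one k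

/-- the ideal of a closed point of the projective line is `O(-m)` with `m ≥ 1` -/
theorem exists_ptIdeal_iso (x : CohB1.ProjSpace 1 k) (hx : IsClosed ({x} : Set (CohB1.ProjSpace 1 k))) :
    ∃ m : ℕ, 0 < m ∧
      Nonempty (ClSub.idealMod (ptIdeal x hx) ≅ Twist.twistProjSpace 1 k (-(m : ℤ))) := by
  haveI := isNoetherian_of_proper k (CohB1.ProjSpace 1 k)
  haveI : IsLocallyNoetherian (CohB1.ProjSpace 1 k) :=
    (isNoetherian_of_proper k (CohB1.ProjSpace 1 k)).toIsLocallyNoetherian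
  have hI := isInvertible_ptIdeal_of_smooth k (CohB1.ProjSpace 1 k) (dim_P1 k) x hx
  obtain ⟨e⟩ := nonempty_iso_twist k _ hI
  rw [deg_ptIdeal' k _ x hx] at e
  exact ⟨_, finrank_residueField_pos k _ x hx, ⟨e⟩⟩

end Groth.Agent.Helper1.VBP
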