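import Mathlib

/-!
# A bilinear map without zero divisors over an algebraically closed field (helper1)

`dim V + dim W ≤ dim U + 1` for a bilinear map `V × W → U` admitting enough "multiplicative"
functionals with values in a domain.
-/

set_option autoImplicit false

namespace Groth.Agent.Helper1.BilinHopf

open Module

section Core

variable {k : Type*} [Field k] {V W U : Type*} [AddCommGroup V] [Module k V] [AddCommGroup W]
  [Module k W] [AddCommGroup U] [Module k U] [FiniteDimensional k V]
  [FiniteDimensional k U]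

/-- the core induction, with `k`-valued functionals -/
theorem core (μ : V →ₗ[k] W →ₗ[k] U) {ι : Type*} (a : ι → V →ₗ[k] k) (b : ι → W →ₗ[k] k)
    (c : ι → U →ₗ[k] k) (hc : ∀ i v w, c i (μ v w) = a i v * b i w)
    (H : ∀ v w, v ≠ 0 → w ≠ 0 → ∃ i, a i v ≠ 0 ∧ b i w ≠ 0) [Nontrivial W] :
    ∀ (n : ℕ) (V' : Submodule k V) (U' : Submodule k U), finrank k V' = n → V' ≠ ⊥ →
      (∀ v ∈ V', ∀ w, μ v w ∈ U') → finrank k V' + finrank k W ≤ finrank k U' + 1 := by
  intro n
  induction n using Nat.strong_induction_on with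
  | _ n ih =>
    intro V' U' hn hV' hμ
    obtain ⟨v₀, hv₀, hv₀0⟩ := Submodule.exists_mem_ne_zero_of_ne_bot hV'
    obtain ⟨w₀, hw₀⟩ := exists_ne (0 : W)
    obtain ⟨i, hai, hbi⟩ := H v₀ w₀ hv₀0 hw₀
    have hμ'' : ∀ v ∈ V' ⊓ LinearMap.ker (a i), ∀ w, μ v w ∈ U' ⊓ LinearMap.ker (c i) := by
      intro v hv w
      refine ⟨hμ v hv.1 w, ?_⟩
      show c i (μ v w) = 0
      rw [hc, LinearMap.mem_ker.1 hv.2, zero_mul]
    have hUlt : finrank k ↥(U' ⊓ LinearMap.ker (c i)) < finrank k U' := by
      apply Submodule.finrank_lt_finrank_of_lt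
      refine lt_of_le_of_ne inf_le_left ?_
      intro heq
      have hmem : μ v₀ w₀ ∈ U' ⊓ LinearMap.ker (c i) := by rw [heq]; exact hμ v₀ hv₀ w₀
      have := LinearMap.mem_ker.1 hmem.2
      rw [hc] at this
      exact mul_ne_zero hai hbi this
    have hVlt : finrank k ↥(V' ⊓ LinearMap.ker (a i)) < finrank k V' := by
      apply Submodule.finrank_lt_finrank_of_lt
      refine lt_of_le_of_ne inf_le_left ?_
      intro heq
      have hmem : v₀ ∈ V' ⊓ LinearMap.ker (a i) := by rw [heq]; exact hv₀
      exact hai (LinearMap.mem_ker.1 hmem.2)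
    have hVge : finrank k V' ≤ finrank k ↥(V' ⊓ LinearMap.ker (a i)) + 1 := by
      have h1 := Submodule.finrank_sup_add_finrank_inf_eq V' (LinearMap.ker (a i))
      have h2 := LinearMap.finrank_range_add_finrank_ker (a i)
      have h3 : finrank k (LinearMap.range (a i)) ≤ 1 := by
        calc finrank k (LinearMap.range (a i)) ≤ finrank k k := Submodule.finrank_le _
          _ = 1 := finrank_self k
      have h4 : finrank k ↥(V' ⊔ LinearMap.ker (a i)) ≤ finrank k V := Submodule.finrank_le _
      omega
    by_cases hbot : V' ⊓ LinearMap.ker (a i) = ⊥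
    · have h0 : finrank k ↥(V' ⊓ LinearMap.ker (a i)) = 0 := by rw [hbot]; exact finrank_bot k V
      have hinj : Function.Injective (μ v₀) := by
        rw [← LinearMap.ker_eq_bot, LinearMap.ker_eq_bot']
        intro w hw
        by_contra hw0
        obtain ⟨j, haj, hbj⟩ := H v₀ w hv₀0 hw0
        have := hc j v₀ w
        rw [hw, map_zero] at this
        exact mul_ne_zero haj hbj this.symm
      have hle : finrank k W ≤ finrank k U' := by
        let f : W →ₗ[k] U' := (μ v₀).codRestrict U' (fun w => hμ v₀ hv₀ w)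
        have hf : Function.Injective f := fun x y hxy =>
          hinj (by simpa [f] using congrArg Subtype.val hxy)
        exact LinearMap.finrank_le_finrank_of_injective hf
      omega
    · have := ih (finrank k ↥(V' ⊓ LinearMap.ker (a i))) (by omega) _ _ rfl hbot hμ''
      omega

end Core

section Null

/-- weak Nullstellensatz: a nonzero element of a finitely generated domain over an algebraically
closed field is nonzero at some `k`-point -/
theorem exists_algHom_ne_zero {k : Type*} [Field k] [IsAlgClosed k] {A : Type*} [CommRing A]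
    [IsDomain A] [Algebra k A] [Algebra.FiniteType k A] (f : A) (hf : f ≠ 0) :
    ∃ χ : A →ₐ[k] k, χ f ≠ 0 := by
  haveI : IsJacobsonRing A := isJacobsonRing_of_finiteType (A := k)
  have hjac : Ideal.jacobson (⊥ : Ideal A) = ⊥ :=
    IsJacobsonRing.out inferInstance Ideal.isRadical_bot
  have hnot : f ∉ Ideal.jacobson (⊥ : Ideal A) := by rw [hjac]; simpa using hf
  rw [Ideal.jacobson, Submodule.mem_sInf] at hnot
  push Not at hnot
  obtain ⟨m, ⟨-, hm⟩, hfm⟩ := hnot
  haveI := hm
  letI : Field (A ⧸ m) := Ideal.Quotient.field m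
  haveI : Algebra.FiniteType k (A ⧸ m) :=
    Algebra.FiniteType.of_surjective (Ideal.Quotient.mkₐ k m) (Ideal.Quotient.mkₐ_surjective k m)
  haveI : Module.Finite k (A ⧸ m) := finite_of_finite_type_of_isJacobsonRing k (A ⧸ m)
  haveI : Algebra.IsIntegral k (A ⧸ m) := Algebra.IsIntegral.of_finite k _
  have hbij := IsAlgClosed.algebraMap_bijective_of_isIntegral (k := k) (K := A ⧸ m)
  let e : k ≃ₐ[k] (A ⧸ m) := AlgEquiv.ofBijective (Algebra.ofId k (A ⧸ m)) hbij
  refine ⟨(e.symm : (A ⧸ m) →ₐ[k] k).comp (Ideal.Quotient.mkₐ k m), ?_⟩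
  intro h0
  apply hfm
  have h1 : e.symm (Ideal.Quotient.mk m f) = 0 := h0
  have h2 : Ideal.Quotient.mk m f = 0 := by
    have := congrArg e h1
    rwa [AlgEquiv.apply_symm_apply, map_zero] at this
  exact Ideal.Quotient.eq_zero_iff_mem.1 h2

end Null

section Main

variable {k : Type*} [Field k] [IsAlgClosed k] {K : Type*} [CommRing K] [IsDomain K] [Algebra k K]
  {V W U : Type*} [AddCommGroup V] [Module k V] [AddCommGroup W]
  [Module k W] [AddCommGroup U] [Module k U] [FiniteDimensional k V] [FiniteDimensional k W]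
  [FiniteDimensional k U]

omit [IsAlgClosed k] [IsDomain K] in
theorem fg_range {X : Type*} [AddCommGroup X] [Module k X] [FiniteDimensional k X]
    (f : X →ₗ[k] K) : (LinearMap.range f).FG := by
  rw [LinearMap.range_eq_map]
  exact Module.Finite.fg_top.map f

/-- **the bilinear lemma**: a bilinear map `V × W → U` of finite-dimensional vector spaces over an
algebraically closed field, with jointly injective families of linear maps to a domain `K`
multiplicative with respect to the bilinear map, satisfies `dim V + dim W ≤ dim U + 1`. -/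
theorem main (μ : V →ₗ[k] W →ₗ[k] U) {I J : Type*} [Finite I] [Finite J]
    (a : I → V →ₗ[k] K) (b : J → W →ₗ[k] K) (c : I → J → U →ₗ[k] K)
    (hc : ∀ i j v w, c i j (μ v w) = a i v * b j w)
    (ha : ∀ v, (∀ i, a i v = 0) → v = 0) (hb : ∀ w, (∀ j, b j w = 0) → w = 0)
    [Nontrivial V] [Nontrivial W] : finrank k V + finrank k W ≤ finrank k U + 1 := by
  classical
  -- the finitely generated submodule containing all values
  let M : Submodule k K := (⨆ i, LinearMap.range (a i)) ⊔ (⨆ j, LinearMap.range (b j)) ⊔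
    (⨆ i, ⨆ j, LinearMap.range (c i j))
  have hMfg : M.FG := by
    refine Submodule.FG.sup (Submodule.FG.sup ?_ ?_) ?_
    · exact Submodule.fg_iSup _ fun i => fg_range (a i)
    · exact Submodule.fg_iSup _ fun j => fg_range (b j)
    · exact Submodule.fg_iSup _ fun i => Submodule.fg_iSup _ fun j => fg_range (c i j)
  let A : Subalgebra k K := Algebra.adjoin k (M : Set K)
  have hAfg : A.FG := by
    obtain ⟨s, hs⟩ := hMfg
    refine ⟨s, ?_⟩
    show Algebra.adjoin k (s : Set K) = Algebra.adjoin k (M : Set K)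
    rw [← hs, Algebra.adjoin_span]
  haveI : Algebra.FiniteType k A := (Subalgebra.fg_iff_finiteType A).1 hAfg
  have hMA : ∀ x ∈ M, x ∈ A := fun x hx => Algebra.subset_adjoin hx
  have haM : ∀ i v, a i v ∈ A := fun i v => hMA _ <|
    Submodule.mem_sup_left (Submodule.mem_sup_left
      (Submodule.mem_iSup_of_mem i (LinearMap.mem_range_self _ v)))
  have hbM : ∀ j w, b j w ∈ A := fun j w => hMA _ <|
    Submodule.mem_sup_left (Submodule.mem_sup_right
      (Submodule.mem_iSup_of_mem j (LinearMap.mem_range_self _ w)))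
  have hcM : ∀ i j u, c i j u ∈ A := fun i j u => hMA _ <|
    Submodule.mem_sup_right
      (Submodule.mem_iSup_of_mem i (Submodule.mem_iSup_of_mem j (LinearMap.mem_range_self _ u)))
  let a' : I → V →ₗ[k] A := fun i => (a i).codRestrict (Subalgebra.toSubmodule A) (haM i)
  let b' : J → W →ₗ[k] A := fun j => (b j).codRestrict (Subalgebra.toSubmodule A) (hbM j)
  let c' : I → J → U →ₗ[k] A := fun i j =>
    (c i j).codRestrict (Subalgebra.toSubmodule A) (hcM i j)
  have hc' : ∀ i j v w, c' i j (μ v w) = a' i v * b' j w := by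
    intro i j v w
    apply Subtype.ext
    exact hc i j v w
  -- apply the core lemma with index type `(A →ₐ[k] k) × I × J`
  have key := core (k := k) μ (ι := (A →ₐ[k] k) × I × J)
    (fun p => p.1.toLinearMap ∘ₗ a' p.2.1) (fun p => p.1.toLinearMap ∘ₗ b' p.2.2)
    (fun p => p.1.toLinearMap ∘ₗ c' p.2.1 p.2.2)
    (by
      rintro ⟨χ, i, j⟩ v w
      show χ (c' i j (μ v w)) = χ (a' i v) * χ (b' j w)
      rw [hc', map_mul])
    (by
      intro v w hv hw
      obtain ⟨i, hi⟩ : ∃ i, a i v ≠ 0 := by
        by_contra hcon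
        push Not at hcon
        exact hv (ha v hcon)
      obtain ⟨j, hj⟩ : ∃ j, b j w ≠ 0 := by
        by_contra hcon
        push Not at hcon
        exact hw (hb w hcon)
      have hi' : a' i v ≠ 0 := fun h => hi (congrArg Subtype.val h)
      have hj' : b' j w ≠ 0 := fun h => hj (congrArg Subtype.val h)
      obtain ⟨χ, hχ⟩ := exists_algHom_ne_zero (k := k) (a' i v * b' j w) (mul_ne_zero hi' hj')
      rw [map_mul] at hχ
      exact ⟨⟨χ, i, j⟩, left_ne_zero_of_mul hχ, right_ne_zero_of_mul hχ⟩)
    (finrank k V) ⊤ ⊤ (finrank_top k V) top_ne_bot (fun _ _ _ => Submodule.mem_top)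
  rwa [finrank_top, finrank_top] at key

end Main

end Groth.Agent.Helper1.BilinHopf
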