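import Mathlib
import Groth.Agent.Lib.Helper1.BilinHopf1
import Groth.Agent.Lib.Helper1.PFrame3
import Groth.Agent.Lib.Helper1.Euler3
import Groth.Agent.Lib.Helper1.HH0
import Groth.Agent.Lib.Helper4.T2Main1

/-!
# Sections of tensor products of vector bundles (helper1)

`h⁰(E₁) + h⁰(E₂) ≤ h⁰(E₁ ⊗ E₂) + 1` on an integral proper scheme over an algebraically closed
field.
-/

set_option autoImplicit false
universe u
open CategoryTheory CategoryTheory.Limits AlgebraicGeometry TopologicalSpace Opposite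

namespace Groth.Agent.Helper1.BilinHopf

open Groth.Agent.Helper1.QcCech Groth.Agent.Helper1.TmulLib Groth.Agent.Helper1.TensLib
  Groth.Agent.Helper1.TensGen Groth.Agent.Helper1.PFrame Groth.Agent.Helper1

section Coord

variable {X : Scheme.{u}}

/-- coordinates with respect to a local basis -/
noncomputable def coord {n : ℕ} {N : X.Modules} {W : X.Opens} {b : Fin n → Γ(N, W)}
    (hb : IsBasisOn N W b) (m : Γ(N, W)) : Fin n → Γ(X, W) :=
  (Equiv.ofBijective _ hb.bijective_self).symm m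

theorem sum_coord {n : ℕ} {N : X.Modules} {W : X.Opens} {b : Fin n → Γ(N, W)}
    (hb : IsBasisOn N W b) (m : Γ(N, W)) : ∑ i, coord hb m i • b i = m :=
  (Equiv.ofBijective _ hb.bijective_self).apply_symm_apply m

theorem coord_unique {n : ℕ} {N : X.Modules} {W : X.Opens} {b : Fin n → Γ(N, W)}
    (hb : IsBasisOn N W b) (m : Γ(N, W)) (r : Fin n → Γ(X, W)) (h : ∑ i, r i • b i = m) :
    coord hb m = r :=
  hb.bijective_self.1 ((sum_coord hb m).trans h.symm)

theorem coord_add {n : ℕ} {N : X.Modules} {W : X.Opens} {b : Fin n → Γ(N, W)}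
    (hb : IsBasisOn N W b) (m m' : Γ(N, W)) : coord hb (m + m') = coord hb m + coord hb m' := by
  apply coord_unique
  simp only [Pi.add_apply, add_smul, Finset.sum_add_distrib, sum_coord]

theorem coord_smul {n : ℕ} {N : X.Modules} {W : X.Opens} {b : Fin n → Γ(N, W)}
    (hb : IsBasisOn N W b) (r : Γ(X, W)) (m : Γ(N, W)) : coord hb (r • m) = r • coord hb m := by
  apply coord_unique
  simp only [Pi.smul_apply, smul_eq_mul, mul_smul, ← Finset.smul_sum, sum_coord]

theorem eq_zero_of_coord_eq_zero {n : ℕ} {N : X.Modules} {W : X.Opens} {b : Fin n → Γ(N, W)}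
    (hb : IsBasisOn N W b) (m : Γ(N, W)) (h : ∀ i, coord hb m i = 0) : m = 0 := by
  rw [← sum_coord hb m]
  exact Finset.sum_eq_zero fun i _ => by rw [h i, zero_smul]

variable (M : X.Modules)

/-- tensor coordinates with respect to a local basis of the second factor -/
noncomputable def tcoord {n : ℕ} {N : X.Modules} {W : X.Opens} {b : Fin n → Γ(N, W)}
    (hb : IsBasisOn N W b) (t : Γ(CohB1.tensorMod M N, W)) : Fin n → Γ(M, W) :=
  (Equiv.ofBijective _ (bijective_sum_tm_of_isBasisOn M hb)).symm t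

theorem sum_tcoord {n : ℕ} {N : X.Modules} {W : X.Opens} {b : Fin n → Γ(N, W)}
    (hb : IsBasisOn N W b) (t : Γ(CohB1.tensorMod M N, W)) :
    ∑ i, tm M N W (tcoord M hb t i) (b i) = t :=
  (Equiv.ofBijective _ (bijective_sum_tm_of_isBasisOn M hb)).apply_symm_apply t

theorem tcoord_unique {n : ℕ} {N : X.Modules} {W : X.Opens} {b : Fin n → Γ(N, W)}
    (hb : IsBasisOn N W b) (t : Γ(CohB1.tensorMod M N, W)) (m : Fin n → Γ(M, W))
    (h : ∑ i, tm M N W (m i) (b i) = t) : tcoord M hb t = m :=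
  (bijective_sum_tm_of_isBasisOn M hb).1 ((sum_tcoord M hb t).trans h.symm)

theorem tcoord_add {n : ℕ} {N : X.Modules} {W : X.Opens} {b : Fin n → Γ(N, W)}
    (hb : IsBasisOn N W b) (t t' : Γ(CohB1.tensorMod M N, W)) :
    tcoord M hb (t + t') = tcoord M hb t + tcoord M hb t' := by
  apply tcoord_unique
  simp only [Pi.add_apply, tm_add_left, Finset.sum_add_distrib, sum_tcoord]

theorem tcoord_smul {n : ℕ} {N : X.Modules} {W : X.Opens} {b : Fin n → Γ(N, W)}
    (hb : IsBasisOn N W b) (r : Γ(X, W)) (t : Γ(CohB1.tensorMod M N, W)) :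
    tcoord M hb (r • t) = r • tcoord M hb t := by
  apply tcoord_unique
  simp only [Pi.smul_apply, tm_smul_left, ← Finset.smul_sum, sum_tcoord]

theorem tm_sum_right {N : X.Modules} {W : X.Opens} {ι : Type*} (s : Finset ι) (m : Γ(M, W))
    (f : ι → Γ(N, W)) : tm M N W m (∑ i ∈ s, f i) = ∑ i ∈ s, tm M N W m (f i) := by
  classical
  induction s using Finset.induction_on with
  | empty => simp [tm_zero_right]
  | insert a s ha ih => rw [Finset.sum_insert ha, Finset.sum_insert ha, tm_add_right, ih]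

theorem tcoord_tm {n : ℕ} {N : X.Modules} {W : X.Opens} {b : Fin n → Γ(N, W)}
    (hb : IsBasisOn N W b) (v : Γ(M, W)) (w : Γ(N, W)) :
    tcoord M hb (tm M N W v w) = fun i => coord hb w i • v := by
  apply tcoord_unique
  conv_rhs => rw [← sum_coord hb w]
  rw [tm_sum_right]
  exact Finset.sum_congr rfl fun i _ => by rw [tm_smul_left, tm_smul_right]

end Coord

section Inj

variable {X : Scheme.{u}} [IsIntegral X]

/-- restriction of sections of a finite locally free module on an integral scheme to a nonempty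
open is injective -/
theorem res_injective_of_isFinLocFree {E : X.Modules} (hE : FlatMod.IsFinLocFree E)
    {W U : X.Opens} (h : W ≤ U) (hW : (W : Set X).Nonempty) :
    Function.Injective (res E h) := by
  rw [injective_iff_map_eq_zero]
  intro m hm
  apply TwistSec.eq_of_locally E
  intro x hx
  obtain ⟨Wx, n, b, hxW, hb⟩ := exists_isFrame hE x
  have hB : IsBasisOn E (Wx ⊓ U) (fun i => res E inf_le_left (b i)) := hb.isBasisOn.res inf_le_left
  refine ⟨Wx ⊓ U, inf_le_right, ⟨hxW, hx⟩, ?_⟩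
  rw [map_zero]
  -- the nonempty intersection
  have hne : ((Wx ⊓ U ⊓ W : X.Opens) : Set X).Nonempty := by
    have := (PreirreducibleSpace.isPreirreducible_univ (X := X)) (Wx ⊓ U : X.Opens) W
      (Wx ⊓ U : X.Opens).isOpen W.isOpen ⟨x, trivial, ⟨hxW, hx⟩⟩
      (by obtain ⟨y, hy⟩ := hW; exact ⟨y, trivial, hy⟩)
    obtain ⟨y, -, hy1, hy2⟩ := this
    exact ⟨y, hy1, hy2⟩
  obtain ⟨y, hy⟩ := hne
  apply eq_zero_of_coord_eq_zero hB
  intro i
  have hT : (Wx ⊓ U ⊓ W : X.Opens) ≤ Wx ⊓ U := inf_le_left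
  have hinjR : Function.Injective (resR hT) :=
    AlgebraicGeometry.map_injective_of_isIntegral X (homOfLE hT) (H := ⟨⟨y, hy⟩⟩)
  apply hinjR
  rw [map_zero]
  -- coordinates of the restriction vanish
  have h1 : res E hT (res E (inf_le_right : Wx ⊓ U ≤ U) m) = 0 := by
    rw [res_res]
    have : res E ((inf_le_right : Wx ⊓ U ⊓ W ≤ W).trans h) m =
        res E (inf_le_right : Wx ⊓ U ⊓ W ≤ W) (res E h m) := (res_res E _ _ m).symm
    rw [this, hm, map_zero]
  have h2 := congrArg (res E hT) (sum_coord hB (res E (inf_le_right : Wx ⊓ U ≤ U) m))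
  rw [h1, map_sum] at h2
  simp only [res_smul] at h2
  have h3 := (hB _ hT).1 (a₁ := fun i => resR hT (coord hB (res E inf_le_right m) i))
    (a₂ := fun _ => 0) (by simpa using h2)
  exact congrFun h3 i

end Inj

section Main

variable (k : Type u) [Field k] (X : Scheme.{u}) [X.Over (Spec (CommRingCat.of k))]

/-- `H⁰` as global sections -/
noncomputable def hsec (E : X.Modules) : Coh.HH X E 0 ≃+ Γ(E, ⊤) := HH0.equiv X E

theorem hsec_smul (E : X.Modules) (c : k) (v : Coh.HH X E 0) :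
    hsec X E (c • v) =
      (show Γ(X, ⊤) from Coh.toGlobal (X ↘ Spec (CommRingCat.of k)) c) • hsec X E v :=
  HH0.equiv_smul_over X E c v

/-- restriction of global sections to an open, from `H⁰` -/
noncomputable def hres (E : X.Modules) (W : X.Opens) : Coh.HH X E 0 →+ Γ(E, W) :=
  (res E (le_top : W ≤ ⊤)).comp (hsec X E).toAddMonoidHom

theorem hres_apply (E : X.Modules) (W : X.Opens) (v : Coh.HH X E 0) :
    hres X E W v = res E (le_top : W ≤ ⊤) (hsec X E v) := rfl

theorem hres_smul (E : X.Modules) (W : X.Opens) (c : k) (v : Coh.HH X E 0) :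
    hres X E W (c • v) =
      resR (le_top : W ≤ ⊤) (Coh.toGlobal (X ↘ Spec (CommRingCat.of k)) c) • hres X E W v := by
  rw [hres_apply, hsec_smul, res_smul]
  rfl

variable [IsAlgClosed k] [IsIntegral X] [IsProper (X ↘ (Spec (CommRingCat.of k)))]

set_option maxHeartbeats 1600000 in
/-- **`h⁰(E₁) + h⁰(E₂) ≤ h⁰(E₁ ⊗ E₂) + 1`** for finite locally free modules with nonzero sections
on an integral proper scheme over an algebraically closed field -/
theorem finrank_add_le_tensor (E₁ E₂ : X.Modules) (h₁ : FlatMod.IsFinLocFree E₁)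
    (h₂ : FlatMod.IsFinLocFree E₂)
    [Nontrivial (Coh.HH X E₁ 0)] [Nontrivial (Coh.HH X E₂ 0)] :
    Module.finrank k (Coh.HH X E₁ 0) + Module.finrank k (Coh.HH X E₂ 0) ≤
      Module.finrank k (Coh.HH X (CohB1.tensorMod E₁ E₂) 0) + 1 := by
  classical
  have c₁ : Coh.IsCoh E₁ := Groth.Agent.Lib.Helper5.LocalCoh.isCoh_of_isFinLocFree _ h₁
  have c₂ : Coh.IsCoh E₂ := Groth.Agent.Lib.Helper5.LocalCoh.isCoh_of_isFinLocFree _ h₂
  have c₁₂ : Coh.IsCoh (CohB1.tensorMod E₁ E₂) := Euler.isCoh_tensor _ _ c₁ c₂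
  haveI : Module.Finite k (Coh.HH X E₁ 0) := Groth.Agent.Lib.Helper4.T2Main1.t2 k X _ c₁ 0
  haveI : Module.Finite k (Coh.HH X E₂ 0) := Groth.Agent.Lib.Helper4.T2Main1.t2 k X _ c₂ 0
  haveI : Module.Finite k (Coh.HH X (CohB1.tensorMod E₁ E₂) 0) :=
    Groth.Agent.Lib.Helper4.T2Main1.t2 k X _ c₁₂ 0
  obtain ⟨W₁, n₁, b₁, hξ₁, hb₁⟩ := exists_isFrame h₁ (genericPoint X)
  obtain ⟨W₂, n₂, b₂, hξ₂, hb₂⟩ := exists_isFrame h₂ (genericPoint X)
  obtain ⟨W, hW⟩ : ∃ W : X.Opens, W = W₁ ⊓ W₂ := ⟨_, rfl⟩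
  have hW₁ : W ≤ W₁ := hW ▸ inf_le_left
  have hW₂ : W ≤ W₂ := hW ▸ inf_le_right
  have hB₁ : IsBasisOn E₁ W (fun i => res E₁ hW₁ (b₁ i)) := hb₁.isBasisOn.res hW₁
  have hB₂ : IsBasisOn E₂ W (fun i => res E₂ hW₂ (b₂ i)) := hb₂.isBasisOn.res hW₂
  have hξ : genericPoint X ∈ W := hW ▸ ⟨hξ₁, hξ₂⟩
  have hne : ((W : X.Opens) : Set X).Nonempty := ⟨genericPoint X, hξ⟩
  haveI : IsDomain Γ(X, W) := by
    apply +allowSynthFailures IsIntegral.component_integral
    exact ⟨⟨_, hξ⟩⟩
  let tg : k →+* Γ(X, ⊤) := Coh.toGlobal (X ↘ Spec (CommRingCat.of k))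
  letI alg : Algebra k Γ(X, W) := ((resR (le_top : W ≤ ⊤)).comp tg).toAlgebra
  have halg : ∀ (c : k) (x : Γ(X, W)), c • x = resR (le_top : W ≤ ⊤) (tg c) * x :=
    fun c x => Algebra.smul_def c x
  -- the functionals
  let a : Fin n₁ → Coh.HH X E₁ 0 →ₗ[k] Γ(X, W) := fun α =>
    { toFun := fun v => coord hB₁ (hres X E₁ W v) α
      map_add' := fun v v' => by rw [map_add, coord_add]; rfl
      map_smul' := fun c v => by
        rw [hres_smul, coord_smul, RingHom.id_apply, halg]; rfl }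
  let b : Fin n₂ → Coh.HH X E₂ 0 →ₗ[k] Γ(X, W) := fun β =>
    { toFun := fun w => coord hB₂ (hres X E₂ W w) β
      map_add' := fun w w' => by rw [map_add, coord_add]; rfl
      map_smul' := fun c w => by
        rw [hres_smul, coord_smul, RingHom.id_apply, halg]; rfl }
  let c : Fin n₁ → Fin n₂ → Coh.HH X (CohB1.tensorMod E₁ E₂) 0 →ₗ[k] Γ(X, W) := fun α β =>
    { toFun := fun t => coord hB₁ (tcoord E₁ hB₂ (hres X _ W t) β) α
      map_add' := fun t t' => by rw [map_add, tcoord_add, Pi.add_apply, coord_add]; rfl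
      map_smul' := fun r t => by
        rw [hres_smul, tcoord_smul, Pi.smul_apply, coord_smul, RingHom.id_apply, halg]; rfl }
  -- the bilinear map
  let μ : Coh.HH X E₁ 0 →ₗ[k] Coh.HH X E₂ 0 →ₗ[k] Coh.HH X (CohB1.tensorMod E₁ E₂) 0 :=
    LinearMap.mk₂ k (fun v w => (hsec X _).symm (tm E₁ E₂ ⊤ (hsec X E₁ v) (hsec X E₂ w)))
      (fun v v' w => by rw [map_add, tm_add_left, map_add])
      (fun r v w => by
        apply (hsec X _).injective
        rw [AddEquiv.apply_symm_apply, hsec_smul k X E₁, hsec_smul k X (CohB1.tensorMod E₁ E₂),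
          AddEquiv.apply_symm_apply, tm_smul_left])
      (fun v w w' => by rw [map_add, tm_add_right, map_add])
      (fun r v w => by
        apply (hsec X _).injective
        rw [AddEquiv.apply_symm_apply, hsec_smul k X E₂, hsec_smul k X (CohB1.tensorMod E₁ E₂),
          AddEquiv.apply_symm_apply, tm_smul_right])
  refine main (k := k) (K := Γ(X, W)) μ a b c ?_ ?_ ?_
  · intro α β v w
    show coord hB₁ (tcoord E₁ hB₂ (hres X _ W ((hsec X _).symm
        (tm E₁ E₂ ⊤ (hsec X E₁ v) (hsec X E₂ w)))) β) α =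
      coord hB₁ (hres X E₁ W v) α * coord hB₂ (hres X E₂ W w) β
    rw [hres_apply, AddEquiv.apply_symm_apply, res_tm, tcoord_tm, coord_smul, Pi.smul_apply,
      smul_eq_mul, mul_comm]
    rfl
  · intro v hv
    apply (hsec X E₁).injective
    rw [map_zero]
    apply res_injective_of_isFinLocFree h₁ (le_top : W ≤ ⊤) hne
    rw [map_zero]
    exact eq_zero_of_coord_eq_zero hB₁ _ hv
  · intro w hw
    apply (hsec X E₂).injective
    rw [map_zero]
    apply res_injective_of_isFinLocFree h₂ (le_top : W ≤ ⊤) hne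
    rw [map_zero]
    exact eq_zero_of_coord_eq_zero hB₂ _ hw

end Main

end Groth.Agent.Helper1.BilinHopf
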