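import Mathlib
import Groth.Agent.Lib.Helper1.Curve5
import Groth.Agent.Lib.Helper1.FinCurve1

/-!
# Non-constant morphisms of integral proper curves are finite (helper1)
-/

set_option autoImplicit false
universe u
open CategoryTheory CategoryTheory.Limits AlgebraicGeometry TopologicalSpace Opposite

namespace Groth.Agent.Helper1.DegFin
open Groth.Agent.Helper1.Curve

section Top

variable {X Y : Scheme.{u}} [IsIntegral X] [IsIntegral Y]

/-- a non-generic point of an integral scheme of dimension `≤ 1` is closed -/
theorem isClosed_singleton_of_ne_genericPoint (hX : topologicalKrullDim X ≤ 1) (x : X)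
    (hx : x ≠ genericPoint X) : IsClosed ({x} : Set X) :=
  GV1.isClosed_singleton_of_dim_le_one hX x (genericPoint X) Set.univ isClosed_univ
    (genericPoint_spec X) (Set.mem_univ _) hx

/-- the generic point of an integral scheme of dimension one is not closed -/
theorem not_isClosed_genericPoint (hY : topologicalKrullDim Y = 1) :
    ¬ IsClosed ({genericPoint Y} : Set Y) := by
  intro hcl
  have h1 : (Set.univ : Set Y) = {genericPoint Y} := by
    rw [← (genericPoint_spec Y).def, hcl.closure_eq]
  haveI : Subsingleton Y := by
    refine ⟨fun a b => ?_⟩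
    have ha : a ∈ ({genericPoint Y} : Set Y) := h1 ▸ Set.mem_univ a
    have hb : b ∈ ({genericPoint Y} : Set Y) := h1 ▸ Set.mem_univ b
    rw [Set.mem_singleton_iff] at ha hb
    rw [ha, hb]
  have h0 : topologicalKrullDim Y ≤ 0 := topologicalKrullDim_zero_of_discreteTopology Y
  rw [hY] at h0
  exact absurd h0 (by norm_num)

variable (f : X ⟶ Y)

/-- the fibre over the generic point is the generic point -/
theorem eq_genericPoint_of_map_eq [IsProper f] (hX : topologicalKrullDim X ≤ 1)
    (hY : topologicalKrullDim Y = 1) (x : X) (hx : f.base x = genericPoint Y) :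
    x = genericPoint X := by
  by_contra hne
  have hcl := isClosed_singleton_of_ne_genericPoint hX x hne
  have hcm : IsClosedMap f.base := f.isClosedMap
  have := hcm _ hcl
  rw [Set.image_singleton, hx] at this
  exact not_isClosed_genericPoint hY this

theorem isFinite_of_nonconstant [IsProper f] [IsNoetherian X] (hX : topologicalKrullDim X ≤ 1)
    (hY : topologicalKrullDim Y = 1) (hξ : f.base (genericPoint X) = genericPoint Y) :
    IsFinite f := by
  refine FinCurve.isFinite_of_finite_fibres f fun y => ?_
  by_cases hy : y = genericPoint Y
  · subst hy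
    refine (Set.finite_singleton (genericPoint X)).subset fun x hx => ?_
    exact eq_genericPoint_of_map_eq f hX hY x hx
  · have hcl : IsClosed ({y} : Set Y) :=
      isClosed_singleton_of_ne_genericPoint (hY.le) y hy
    have hT : IsClosed (f.base ⁻¹' {y}) := hcl.preimage f.continuous
    refine FinCurve.finite_of_isClosed_of_dense_compl hX _ hT ?_
    have hopen : IsOpen (f.base ⁻¹' {y})ᶜ := hT.isOpen_compl
    have hmem : genericPoint X ∈ (f.base ⁻¹' {y})ᶜ := by
      intro h
      rw [Set.mem_preimage, hξ, Set.mem_singleton_iff] at h
      exact hy h.symm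
    exact hopen.dense ⟨_, hmem⟩

end Top

end Groth.Agent.Helper1.DegFin
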