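import Mathlib
import Groth.Agent.Lib.Helper1.PFrame4
import Groth.Agent.Lib.Helper1.TwForm1

/-!
# Tensor functors on modules (helper1)
-/

set_option autoImplicit false
universe u
open CategoryTheory CategoryTheory.Limits AlgebraicGeometry TopologicalSpace Opposite
  MonoidalCategory

namespace Groth.Agent.Helper1.ProjF

open Groth.Agent.Helper1.QcCech Groth.Agent.Helper1.TmulLib Groth.Agent.Helper1.TensLib
  Groth.Agent.Helper1.TensGen

variable {X : Scheme.{u}}

/-- the sheafification adjunction -/
noncomputable abbrev adj (X : Scheme.{u}) :=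
  PresheafOfModules.sheafificationAdjunction (𝟙 X.ringCatSheaf.obj)

/-- morphisms out of a tensor product are determined by their values on pure tensors -/
theorem hom_ext_tm {M N Q : X.Modules} (α β : CohB1.tensorMod M N ⟶ Q)
    (h : ∀ (U : X.Opens) (m : Γ(M, U)) (n : Γ(N, U)),
      α.app U (tm M N U m n) = β.app U (tm M N U m n)) : α = β := by
  apply ((adj X).homEquiv (show X.PresheafOfModules from CohB1.tensorPre M N) Q).injective
  rw [Adjunction.homEquiv_unit, Adjunction.homEquiv_unit]
  apply PresheafOfModules.hom_ext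
  intro U
  apply ModuleCat.MonoidalCategory.tensor_ext
  intro m n
  exact h U.unop m n


/-- whiskering a morphism of modules with a module on the right, on sectionwise tensor products -/
noncomputable def whiskR (L : X.Modules) {M M' : X.Modules} (φ : M ⟶ M') :
    (show X.PresheafOfModules from CohB1.tensorPre M L) ⟶
      (show X.PresheafOfModules from CohB1.tensorPre M' L) :=
  (show CohB1.toPMod M ⟶ CohB1.toPMod M' from (SheafOfModules.forget X.ringCatSheaf).map φ) ▷
    (CohB1.toPMod L)

theorem whiskR_pure (L : X.Modules) {M M' : X.Modules} (φ : M ⟶ M') (U : X.Opens)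
    (m : Γ(M, U)) (l : Γ(L, U)) :
    ((whiskR L φ).app (op U)).hom (pure M L U m l) = pure M' L U (φ.app U m) l := rfl

/-- the functor `- ⊗ L` on modules -/
noncomputable def tensR (L : X.Modules) : X.Modules ⥤ X.Modules where
  obj M := CohB1.tensorMod M L
  map φ := (CohB1.sheafifyMod X).map (whiskR L φ)
  map_id M := by
    have : whiskR L (𝟙 M) = 𝟙 _ := by
      apply PresheafOfModules.hom_ext
      intro U
      apply ModuleCat.MonoidalCategory.tensor_ext
      intro m n
      rfl
    rw [this]
    exact (CohB1.sheafifyMod X).map_id _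
  map_comp φ ψ := by
    have : whiskR L (φ ≫ ψ) = whiskR L φ ≫ whiskR L ψ := by
      apply PresheafOfModules.hom_ext
      intro U
      apply ModuleCat.MonoidalCategory.tensor_ext
      intro m n
      rfl
    rw [this]
    exact (CohB1.sheafifyMod X).map_comp _ _

theorem tensR_obj (L M : X.Modules) : (tensR L).obj M = CohB1.tensorMod M L := rfl

/-- the action of `- ⊗ L` on pure tensors -/
theorem tensR_map_tm (L : X.Modules) {M M' : X.Modules} (φ : M ⟶ M') (U : X.Opens)
    (m : Γ(M, U)) (l : Γ(L, U)) :
    ((tensR L).map φ).app U (tm M L U m l) = tm M' L U (φ.app U m) l := by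
  have h := (adj X).unit.naturality (whiskR L φ)
  have h2 := congrArg (fun χ => (χ.app (op U)).hom (pure M L U m l)) h
  exact h2.symm


instance (L : X.Modules) : (tensR L).Additive where
  map_add {M M' φ ψ} := by
    have key : ∀ (U : X.Opens) (m : Γ(M, U)) (l : Γ(L, U)),
        ((tensR L).map (φ + ψ)).app U (tm M L U m l) =
          ((tensR L).map φ + (tensR L).map ψ).app U (tm M L U m l) := by
      intro U m l
      rw [tensR_map_tm, Scheme.Modules.Hom.add_app, Scheme.Modules.Hom.add_app]
      change tm M' L U (φ.app U m + ψ.app U m) l =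
        ((tensR L).map φ).app U (tm M L U m l) + ((tensR L).map ψ).app U (tm M L U m l)
      rw [tensR_map_tm, tensR_map_tm, tm_add_left]
      rfl
    exact hom_ext_tm _ _ key


section Desc

variable {M N L : X.Modules}

/-- the morphism out of the tensor product induced by a bilinear pairing -/
noncomputable def descP (p : Pairing M N L) : CohB1.tensorMod M N ⟶ L :=
  ((adj X).homEquiv (show X.PresheafOfModules from CohB1.tensorPre M N) L).symm p.μ₀

theorem descP_tm (p : Pairing M N L) (U : X.Opens) (m : Γ(M, U)) (n : Γ(N, U)) :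
    (descP p).app U (tm M N U m n) = p.β (op U) m n := by
  have h : (adj X).unit.app (show X.PresheafOfModules from CohB1.tensorPre M N) ≫
      (SheafOfModules.forget X.ringCatSheaf ⋙
        PresheafOfModules.restrictScalars (𝟙 X.ringCatSheaf.obj)).map (descP p) = p.μ₀ :=
    (Adjunction.homEquiv_unit (adj X) _ _ _).symm.trans (Equiv.apply_symm_apply _ _)
  have h2 := congrArg (fun χ => (χ.app (op U)).hom (pure M N U m n)) h
  exact h2

theorem isIso_descP (p : Pairing M N L)
    (good : X.Opens → Prop) (hcov : ∀ x : X, ∃ V, good V ∧ x ∈ V)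
    (hle : ∀ V V', good V → V' ≤ V → good V')
    (hbij : ∀ V, good V → Function.Bijective (p.μ₀.app (op V))) : IsIso (descP p) := by
  have hinj : Presheaf.IsLocallyInjective (Opens.grothendieckTopology X)
      ((PresheafOfModules.toPresheaf _).map p.μ₀) := by
    constructor
    intro U x y h
    rw [Opens.mem_grothendieckTopology]
    intro q hq
    obtain ⟨V, hV, hpV⟩ := hcov q
    refine ⟨V ⊓ U.unop, homOfLE inf_le_right, ?_, ⟨hpV, hq⟩⟩
    have hg : good (V ⊓ U.unop) := hle V _ hV inf_le_left
    apply (hbij _ hg).1
    have h1 := NatTrans.naturality_apply ((PresheafOfModules.toPresheaf _).map p.μ₀)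
      (homOfLE (inf_le_right : V ⊓ U.unop ≤ U.unop)).op x
    have h2 := NatTrans.naturality_apply ((PresheafOfModules.toPresheaf _).map p.μ₀)
      (homOfLE (inf_le_right : V ⊓ U.unop ≤ U.unop)).op y
    rw [h] at h1
    exact h1.trans h2.symm
  have hsurj : Presheaf.IsLocallySurjective (Opens.grothendieckTopology X)
      ((PresheafOfModules.toPresheaf _).map p.μ₀) := by
    constructor
    intro U s
    rw [Opens.mem_grothendieckTopology]
    intro q hq
    obtain ⟨V, hV, hpV⟩ := hcov q
    refine ⟨V ⊓ U, homOfLE inf_le_right, ?_, ⟨hpV, hq⟩⟩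
    have hg : good (V ⊓ U) := hle V _ hV inf_le_left
    exact (hbij _ hg).2 _
  exact isIso_of_locallyBijective_abs (𝟙 X.ringCatSheaf.obj)
    (show X.PresheafOfModules from CohB1.tensorPre M N) L p.μ₀ hinj hsurj

/-- bijectivity of the map induced by a pairing, from a basis of the second factor -/
theorem bijective_μ₀_of_basis₂ (p : Pairing M N L) (V : X.Opens) {n : ℕ}
    (b : Fin n → (CohB1.toPMod N).obj (op V))
    (hb : Function.Bijective
      (fun r : Fin n → (X.sheaf.obj ⋙ forget₂ CommRingCat RingCat.{u}).obj (op V) =>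
        ∑ i, r i • b i))
    (hβ : Function.Bijective (fun μ : Fin n → (CohB1.toPMod M).obj (op V) =>
        ∑ i, p.β (op V) (μ i) (b i))) :
    Function.Bijective (p.μ₀.app (op V)) := by
  have h1 := PFrame.bijective_sum_tmul_of_basis
    (R := (X.sheaf.obj ⋙ forget₂ CommRingCat RingCat.{u}).obj (op V))
    (A := (CohB1.toPMod M).obj (op V)) (B := (CohB1.toPMod N).obj (op V)) b hb
  have h3 : (p.μ₀.app (op V)) ∘ (fun μ : Fin n → (CohB1.toPMod M).obj (op V) =>
      ∑ i, TensorProduct.tmul _ (μ i) (b i)) =
      fun μ : Fin n → (CohB1.toPMod M).obj (op V) => ∑ i, p.β (op V) (μ i) (b i) := by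
    funext μ
    simp only [Function.comp_apply, map_sum]
    rfl
  refine (Function.Bijective.of_comp_iff (p.μ₀.app (op V)) h1).1 ?_
  exact (congrArg Function.Bijective h3).mpr hβ

end Desc

end Groth.Agent.Helper1.ProjF
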