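import Mathlib
import Groth.Agent.Lib.Helper1.ProjF1
import Groth.Agent.Lib.Helper1.RT14
import Groth.Agent.Lib.Helper5.Perf.LocLift

/-!
# Exactness of tensoring with a module with local bases (helper1)
-/

set_option autoImplicit false
universe u
open CategoryTheory CategoryTheory.Limits AlgebraicGeometry TopologicalSpace Opposite
  MonoidalCategory

namespace Groth.Agent.Helper1.ProjF

open Groth.Agent.Helper1.QcCech Groth.Agent.Helper1.TmulLib Groth.Agent.Helper1.TensLib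
  Groth.Agent.Helper1.TensGen Groth.Agent.Helper1.PFrame

variable {X : Scheme.{u}}

/-- `L` has local bases -/
def HasBases (L : X.Modules) : Prop :=
  ∀ x : X, ∃ (W : X.Opens) (n : ℕ) (b : Fin n → Γ(L, W)), x ∈ W ∧ IsBasisOn L W b

theorem hasBases_of_isFinLocFree {E : X.Modules} (hE : FlatMod.IsFinLocFree E) : HasBases E := by
  intro x
  obtain ⟨W, n, b, hxW, hb⟩ := exists_isFrame hE x
  exact ⟨W, n, b, hxW, hb.isBasisOn⟩

theorem HasBases.exists_le {L : X.Modules} (hL : HasBases L) (U : X.Opens) (x : X) (hx : x ∈ U) :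
    ∃ (V : X.Opens) (_ : V ≤ U) (n : ℕ) (b : Fin n → Γ(L, V)), x ∈ V ∧ IsBasisOn L V b := by
  obtain ⟨W, n, b, hxW, hb⟩ := hL x
  exact ⟨W ⊓ U, inf_le_right, n, fun i => res L inf_le_left (b i), ⟨hxW, hx⟩, hb.res inf_le_left⟩

theorem tensR_map_sum_tm (L : X.Modules) {M M' : X.Modules} (φ : M ⟶ M') (U : X.Opens) {n : ℕ}
    (m : Fin n → Γ(M, U)) (b : Fin n → Γ(L, U)) :
    ((tensR L).map φ).app U (∑ i, tm M L U (m i) (b i)) =
      ∑ i, tm M' L U (φ.app U (m i)) (b i) := by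
  rw [map_sum]
  exact Finset.sum_congr rfl fun i _ => tensR_map_tm L φ U (m i) (b i)


section Local

variable {L : X.Modules} (hL : HasBases L) {M M' : X.Modules} (φ : M ⟶ M')
  (Φ : CohB1.tensorMod M L ⟶ CohB1.tensorMod M' L)
  (hΦ : ∀ (U : X.Opens) (m : Γ(M, U)) (l : Γ(L, U)),
    Φ.app U (tm M L U m l) = tm M' L U (φ.app U m) l)

include hΦ in
theorem map_sum_tm (U : X.Opens) {n : ℕ} (m : Fin n → Γ(M, U)) (b : Fin n → Γ(L, U)) :
    Φ.app U (∑ i, tm M L U (m i) (b i)) = ∑ i, tm M' L U (φ.app U (m i)) (b i) := by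
  rw [map_sum]
  exact Finset.sum_congr rfl fun i _ => hΦ U (m i) (b i)

include hL hΦ in
theorem injective_of_injective (hφ : ∀ U : X.Opens, Function.Injective (φ.app U)) (O : X.Opens) :
    Function.Injective (Φ.app O) := by
  intro t t' h
  apply TwistSec.eq_of_locally (CohB1.tensorMod M L)
  intro x hx
  obtain ⟨V, hV, n, b, hxV, hb⟩ := hL.exists_le O x hx
  refine ⟨V, hV, hxV, ?_⟩
  obtain ⟨m, hm⟩ := (bijective_sum_tm_of_isBasisOn M hb).2 (res (CohB1.tensorMod M L) hV t)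
  obtain ⟨m', hm'⟩ := (bijective_sum_tm_of_isBasisOn M hb).2 (res (CohB1.tensorMod M L) hV t')
  have h1 : Φ.app V (res (CohB1.tensorMod M L) hV t) =
      Φ.app V (res (CohB1.tensorMod M L) hV t') := by
    rw [QcExt.app_res, QcExt.app_res, h]
  rw [← hm, ← hm'] at h1 ⊢
  dsimp only at h1 ⊢
  rw [map_sum_tm φ Φ hΦ, map_sum_tm φ Φ hΦ] at h1
  have h2 := (bijective_sum_tm_of_isBasisOn M' hb).1 h1
  have h3 : m = m' := by
    funext i
    exact hφ V (congrFun h2 i)
  rw [h3]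

variable {M'' : X.Modules} (ψ : M' ⟶ M'')
  (Ψ : CohB1.tensorMod M' L ⟶ CohB1.tensorMod M'' L)
  (hΨ : ∀ (U : X.Opens) (m : Γ(M', U)) (l : Γ(L, U)),
    Ψ.app U (tm M' L U m l) = tm M'' L U (ψ.app U m) l)

include hL hΦ hΨ in
theorem exact_of_exact
    (hex : ∀ (U : X.Opens) (s : Γ(M', U)), ψ.app U s = 0 → ∃ m : Γ(M, U), φ.app U m = s)
    (U : X.Opens) (s : Γ(CohB1.tensorMod M' L, U)) (hs : Ψ.app U s = 0) (x : X) (hx : x ∈ U) :
    ∃ (W : X.Opens) (hW : W ≤ U), x ∈ W ∧ ∃ m : Γ(CohB1.tensorMod M L, W),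
      Φ.app W m = res (CohB1.tensorMod M' L) hW s := by
  obtain ⟨V, hV, n, b, hxV, hb⟩ := hL.exists_le U x hx
  refine ⟨V, hV, hxV, ?_⟩
  obtain ⟨m, hm⟩ := (bijective_sum_tm_of_isBasisOn M' hb).2 (res (CohB1.tensorMod M' L) hV s)
  have h1 : Ψ.app V (res (CohB1.tensorMod M' L) hV s) = 0 := by
    rw [QcExt.app_res, hs, map_zero]
  rw [← hm] at h1 ⊢
  dsimp only at h1 ⊢
  rw [map_sum_tm ψ Ψ hΨ] at h1
  have h0 : (∑ i, tm M'' L V ((0 : Fin n → Γ(M'', V)) i) (b i)) = 0 := by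
    apply Finset.sum_eq_zero
    intro i _
    exact tm_zero_left M'' L V (b i)
  have h2 := (bijective_sum_tm_of_isBasisOn M'' hb).1 (h1.trans h0.symm)
  have h3 : ∀ i, ∃ a : Γ(M, V), φ.app V a = m i := fun i => hex V (m i) (congrFun h2 i)
  choose a ha using h3
  refine ⟨∑ i, tm M L V (a i) (b i), ?_⟩
  rw [map_sum_tm φ Φ hΦ]
  exact Finset.sum_congr rfl fun i _ => by rw [ha i]


/-- finitely many neighbourhoods have a common smaller neighbourhood -/
theorem exists_common_nbhd {n : ℕ} (V : X.Opens) (x : X) (hx : x ∈ V) (W : Fin n → X.Opens)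
    (hW : ∀ i, x ∈ W i) : ∃ V' : X.Opens, V' ≤ V ∧ x ∈ V' ∧ ∀ i, V' ≤ W i := by
  refine ⟨⟨(V : Set X) ∩ ⋂ i, (W i : Set X),
    V.2.inter (isOpen_iInter_of_finite fun i => (W i).2)⟩, ?_, ?_, ?_⟩
  · intro y hy
    exact hy.1
  · exact ⟨hx, Set.mem_iInter.2 hW⟩
  · intro i y hy
    exact Set.mem_iInter.1 hy.2 i

include hL hΨ in
theorem locally_surjective_of_locally_surjective
    (hsurj : ∀ (U : X.Opens) (t : Γ(M'', U)) (x : X), x ∈ U → ∃ (W : X.Opens) (hW : W ≤ U), x ∈ W ∧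
      ∃ m : Γ(M', W), ψ.app W m = res M'' hW t)
    (U : X.Opens) (t : Γ(CohB1.tensorMod M'' L, U)) (x : X) (hx : x ∈ U) :
    ∃ (W : X.Opens) (hW : W ≤ U), x ∈ W ∧ ∃ m : Γ(CohB1.tensorMod M' L, W),
      Ψ.app W m = res (CohB1.tensorMod M'' L) hW t := by
  obtain ⟨V, hV, n, b, hxV, hb⟩ := hL.exists_le U x hx
  obtain ⟨c, hc⟩ := (bijective_sum_tm_of_isBasisOn M'' hb).2 (res (CohB1.tensorMod M'' L) hV t)
  have h1 : ∀ i, ∃ (W : X.Opens) (hW : W ≤ V), x ∈ W ∧
      ∃ m : Γ(M', W), ψ.app W m = res M'' hW (c i) := fun i => hsurj V (c i) x hxV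
  choose W hWV hxW a ha using h1
  obtain ⟨V', hV'V, hxV', hV'W⟩ := exists_common_nbhd V x hxV W hxW
  refine ⟨V', hV'V.trans hV, hxV', ?_⟩
  refine ⟨∑ i, tm M' L V' (res M' (hV'W i) (a i)) (res L hV'V (b i)), ?_⟩
  rw [map_sum_tm ψ Ψ hΨ, ← res_res (CohB1.tensorMod M'' L) hV hV'V, ← hc]
  dsimp only
  rw [res_sum_tm]
  refine Finset.sum_congr rfl fun i _ => ?_
  rw [QcExt.app_res, ha i, res_res]

end Local

section Exact

variable {L : X.Modules} (hL : HasBases L)
include hL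

theorem shortExact_map_tensR (S : ShortComplex X.Modules) (hS : S.ShortExact) :
    (S.map (tensR L)).ShortExact := by
  have hΦ : ∀ (U : X.Opens) (m : Γ(S.X₁, U)) (l : Γ(L, U)),
      ((tensR L).map S.f).app U (tm S.X₁ L U m l) = tm S.X₂ L U (S.f.app U m) l :=
    fun U m l => tensR_map_tm L S.f U m l
  have hΨ : ∀ (U : X.Opens) (m : Γ(S.X₂, U)) (l : Γ(L, U)),
      ((tensR L).map S.g).app U (tm S.X₂ L U m l) = tm S.X₃ L U (S.g.app U m) l :=
    fun U m l => tensR_map_tm L S.g U m l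
  have hmono : Mono ((tensR L).map S.f) :=
    SubSh.mono_of_app_injective _
      (injective_of_injective hL S.f ((tensR L).map S.f) hΦ (QcExt.app_injective hS))
  have hepi : Epi ((tensR L).map S.g) := by
    haveI := hS.epi_g
    apply SerreCrit.epi_of_locally_surjective
    exact locally_surjective_of_locally_surjective hL S.g ((tensR L).map S.g) hΨ
      (fun U t x hx => by
        obtain ⟨V, hVU, m, hxV, hm⟩ :=
          Groth.Agent.Lib.Helper5.LocLift.exists_local_lift S.g U t x hx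
        exact ⟨V, hVU, hxV, m, hm⟩)
  have hex : (S.map (tensR L)).Exact := by
    apply RT14.exact_of_locally
    intro U s hs x hx
    exact exact_of_exact hL S.f ((tensR L).map S.f) hΦ S.g ((tensR L).map S.g) hΨ
      (fun U s hs => QcExt.app_exact hS U s hs) U s hs x hx
  exact { exact := hex, mono_f := hmono, epi_g := hepi }

theorem preserves_tensR :
    PreservesFiniteLimits (tensR L) ∧ PreservesFiniteColimits (tensR L) := by
  have h := ((tensR L).exact_tfae.out 0 3 rfl rfl).1 (shortExact_map_tensR hL)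
  exact h

theorem preservesFiniteLimits_tensR : PreservesFiniteLimits (tensR L) :=
  (preserves_tensR hL).1

theorem preservesFiniteColimits_tensR : PreservesFiniteColimits (tensR L) :=
  (preserves_tensR hL).2

end Exact

end Groth.Agent.Helper1.ProjF
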