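import Mathlib
import Groth.Agent.Lib.Helper1.ProjF2

/-!
# The projection formula as a natural isomorphism (helper1)
-/

set_option autoImplicit false
universe u
open CategoryTheory CategoryTheory.Limits AlgebraicGeometry TopologicalSpace Opposite
  MonoidalCategory

namespace Groth.Agent.Helper1.ProjF

open Groth.Agent.Helper1.QcCech Groth.Agent.Helper1.TmulLib Groth.Agent.Helper1.TensLib
  Groth.Agent.Helper1.TensGen Groth.Agent.Helper1.PFrame Groth.Agent.Helper1.PullSec

section Swap
variable {X : Scheme.{u}} {M N L : X.Modules}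

/-- swapping the arguments of a pairing -/
def swapP (p : Pairing M N L) : Pairing N M L where
  β U n m := p.β U m n
  add_left U n₁ n₂ m := p.add_right U m n₁ n₂
  smul_left U a n m := p.smul_right U a m n
  add_right U n m₁ m₂ := p.add_left U m₁ m₂ n
  smul_right U a n m := p.smul_left U a m n
  nat f n m := p.nat f m n

end Swap

variable {X Y : Scheme.{u}} (f : X ⟶ Y) (E : Y.Modules)

/-- the projection formula morphism -/
noncomputable def projHom (M : X.Modules) :
    CohB1.tensorMod ((Scheme.Modules.pushforward f).obj M) E ⟶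
      (Scheme.Modules.pushforward f).obj (CohB1.tensorMod M ((Scheme.Modules.pullback f).obj E)) :=
  descP (swapP (projPairing f M E))

theorem projHom_tm (M : X.Modules) (U : Y.Opens) (m : Γ(M, f ⁻¹ᵁ U)) (e : Γ(E, U)) :
    (projHom f E M).app U (tm ((Scheme.Modules.pushforward f).obj M) E U
      (show Γ((Scheme.Modules.pushforward f).obj M, U) from m) e) =
      (show Γ((Scheme.Modules.pushforward f).obj
        (CohB1.tensorMod M ((Scheme.Modules.pullback f).obj E)), U) from
        tm M ((Scheme.Modules.pullback f).obj E) (f ⁻¹ᵁ U) m (σ f E U e)) :=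
  descP_tm (swapP (projPairing f M E)) U _ e

theorem isIso_projHom (hE : FlatMod.IsFinLocFree E) (M : X.Modules) : IsIso (projHom f E M) := by
  refine isIso_descP (swapP (projPairing f M E))
    (fun V => ∃ (W : Y.Opens) (n : ℕ) (a : Fin n → Γ(E, W)), V ≤ W ∧ IsFrame E W a) ?_ ?_ ?_
  · intro x
    obtain ⟨W, n, b, hxW, hb⟩ := exists_isFrame hE x
    exact ⟨W, ⟨W, n, b, le_rfl, hb⟩, hxW⟩
  · rintro V V' ⟨W, n, a, hVW, ha⟩ h
    exact ⟨W, n, a, h.trans hVW, ha⟩
  · rintro V ⟨W, n, a, hVW, ha⟩
    refine bijective_μ₀_of_basis₂ (swapP (projPairing f M E)) V (fun i => res E hVW (a i))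
      (IsBasisOn.bijective_self (ha.isBasisOn.res hVW)) ?_
    have hpull : IsBasisOn ((Scheme.Modules.pullback f).obj E) (f ⁻¹ᵁ V)
        (fun i => res _ (f.preimage_mono hVW) (σ f E W (a i))) :=
      ((ha.pullback f).isBasisOn).res (f.preimage_mono hVW)
    have hbij := bijective_sum_tm_of_isBasisOn M hpull
    have heq : (fun μ : Fin n → (CohB1.toPMod ((Scheme.Modules.pushforward f).obj M)).obj (op V) =>
        ∑ i, (swapP (projPairing f M E)).β (op V) (μ i) (res E hVW (a i))) =
        fun ν : Fin n → Γ(M, f ⁻¹ᵁ V) => ∑ i, tm M ((Scheme.Modules.pullback f).obj E) (f ⁻¹ᵁ V)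
          (ν i) (res _ (f.preimage_mono hVW) (σ f E W (a i))) := by
      funext ν
      refine Finset.sum_congr rfl fun i _ => ?_
      change tm M _ _ _ (σ f E V (res E hVW (a i))) = _
      rw [← σ_res]
    rw [heq]
    exact hbij


theorem projHom_natural {M M' : X.Modules} (φ : M ⟶ M') :
    (tensR E).map ((Scheme.Modules.pushforward f).map φ) ≫ projHom f E M' =
      projHom f E M ≫ (Scheme.Modules.pushforward f).map
        ((tensR ((Scheme.Modules.pullback f).obj E)).map φ) := by
  have key : ∀ (U : Y.Opens) (m : Γ((Scheme.Modules.pushforward f).obj M, U)) (e : Γ(E, U)),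
      ((tensR E).map ((Scheme.Modules.pushforward f).map φ) ≫ projHom f E M').app U
        (tm ((Scheme.Modules.pushforward f).obj M) E U m e) =
      (projHom f E M ≫ (Scheme.Modules.pushforward f).map
        ((tensR ((Scheme.Modules.pullback f).obj E)).map φ)).app U
        (tm ((Scheme.Modules.pushforward f).obj M) E U m e) := by
    intro U m e
    change (projHom f E M').app U (((tensR E).map ((Scheme.Modules.pushforward f).map φ)).app U
        (tm ((Scheme.Modules.pushforward f).obj M) E U m e)) =
      ((tensR ((Scheme.Modules.pullback f).obj E)).map φ).app (f ⁻¹ᵁ U)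
        ((projHom f E M).app U (tm ((Scheme.Modules.pushforward f).obj M) E U m e))
    rw [tensR_map_tm]
    have h1 := projHom_tm f E M' U (φ.app (f ⁻¹ᵁ U) (show Γ(M, f ⁻¹ᵁ U) from m)) e
    have h2 := projHom_tm f E M U (show Γ(M, f ⁻¹ᵁ U) from m) e
    refine h1.trans ?_
    rw [h2]
    exact (tensR_map_tm ((Scheme.Modules.pullback f).obj E) φ (f ⁻¹ᵁ U)
      (show Γ(M, f ⁻¹ᵁ U) from m) (σ f E U e)).symm
  exact hom_ext_tm _ _ key

/-- **the projection formula as a natural isomorphism** -/
noncomputable def projIso (hE : FlatMod.IsFinLocFree E) :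
    Scheme.Modules.pushforward f ⋙ tensR E ≅
      tensR ((Scheme.Modules.pullback f).obj E) ⋙ Scheme.Modules.pushforward f :=
  NatIso.ofComponents
    (fun M => @asIso _ _ _ _ (projHom f E M) (isIso_projHom f E hE M))
    (fun φ => projHom_natural f E φ)

end Groth.Agent.Helper1.ProjF
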