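import Mathlib
import Groth.Prelude.Def_DeltaF
import Groth.Prelude.Def_RDerDelta
import Groth.Agent.S16463
import Groth.Agent.S6773
import Groth.Agent.S6774

set_option autoImplicit false
universe v v' v'' u u' u''
open CategoryTheory CategoryTheory.Limits

namespace Groth.Agent.Helper1.DeltaComp

variable {A : Type u} [Category.{v} A] [Abelian A]
  {B : Type u'} [Category.{v'} B] [Abelian B]
  {D : Type u''} [Category.{v''} D] [Abelian D]

/-- a category with injective resolutions has enough injectives -/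
theorem enoughInjectives_of_hasInjectiveResolutions [HasInjectiveResolutions A] :
    EnoughInjectives A := by
  constructor
  intro X
  have hm : Mono ((injectiveResolution X).ι.f 0) := inferInstance
  exact ⟨⟨(injectiveResolution X).cocomplex.X 0, (injectiveResolution X).injective 0,
    (injectiveResolution X).ι.f 0, hm⟩⟩

/-- postcomposition of the derived delta-functor with an exact functor -/
noncomputable def post [HasInjectiveResolutions A] {F : A ⥤ B} [F.Additive] (Δ : RDer.DerivedLES F) (E : B ⥤ D) [E.Additive]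
    [PreservesFiniteLimits E] [PreservesFiniteColimits E] : DeltaF.CohDeltaFunctor A D ℕ where
  F n := F.rightDerived n ⋙ E
  additive _ := inferInstance
  δ S hS n₀ n₁ h := E.map (Δ.δ S hS n₀ n₁ h)
  δ_natural hS hS' φ n₀ n₁ h := by
    dsimp
    rw [← E.map_comp, ← E.map_comp, Δ.δ_natural hS hS' φ n₀ n₁ h]
  exact₂ S hS n := (Δ.exact₂ S hS n).map E
  comp_δ S hS n₀ n₁ h := by
    dsimp
    rw [← E.map_comp, Δ.comp_δ S hS n₀ n₁ h, E.map_zero]
  exact₃ S hS n₀ n₁ h := (Δ.exact₃ S hS n₀ n₁ h).map E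
  δ_comp S hS n₀ n₁ h := by
    dsimp
    rw [← E.map_comp, Δ.δ_comp S hS n₀ n₁ h, E.map_zero]
  exact₁ S hS n₀ n₁ h := (Δ.exact₁ S hS n₀ n₁ h).map E

/-- precomposition of the derived delta-functor with an exact functor -/
noncomputable def pre (G : A ⥤ B) [G.Additive] [PreservesFiniteLimits G] [PreservesFiniteColimits G]
    [HasInjectiveResolutions B] {Φ : B ⥤ D} [Φ.Additive] (Δ : RDer.DerivedLES Φ) : DeltaF.CohDeltaFunctor A D ℕ where
  F n := G ⋙ Φ.rightDerived n
  additive _ := inferInstance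
  δ S hS n₀ n₁ h := Δ.δ (S.map G) (hS.map_of_exact G) n₀ n₁ h
  δ_natural hS hS' φ n₀ n₁ h :=
    Δ.δ_natural (hS.map_of_exact G) (hS'.map_of_exact G) (G.mapShortComplex.map φ) n₀ n₁ h
  exact₂ S hS n := Δ.exact₂ (S.map G) (hS.map_of_exact G) n
  comp_δ S hS n₀ n₁ h := Δ.comp_δ (S.map G) (hS.map_of_exact G) n₀ n₁ h
  exact₃ S hS n₀ n₁ h := Δ.exact₃ (S.map G) (hS.map_of_exact G) n₀ n₁ h
  δ_comp S hS n₀ n₁ h := Δ.δ_comp (S.map G) (hS.map_of_exact G) n₀ n₁ h
  exact₁ S hS n₀ n₁ h := Δ.exact₁ (S.map G) (hS.map_of_exact G) n₀ n₁ h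

/-- components of an isomorphism of delta-functors are isomorphisms -/
noncomputable def appIso {T T' : DeltaF.CohDeltaFunctor A D ℕ} (φ : T ≅ T') (n : ℕ) :
    T.F n ≅ T'.F n where
  hom := φ.hom.app n
  inv := φ.inv.app n
  hom_inv_id := by
    rw [← DeltaF.CohDeltaFunctor.comp_app, φ.hom_inv_id, DeltaF.CohDeltaFunctor.id_app]
  inv_hom_id := by
    rw [← DeltaF.CohDeltaFunctor.comp_app, φ.inv_hom_id, DeltaF.CohDeltaFunctor.id_app]

section Compare

variable {A' : Type u'} [Category.{v'} A'] [Abelian A']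
  {B' : Type u''} [Category.{v''} B'] [Abelian B']

/-- **comparison of derived functors through exact functors**: if `G` and `E` are exact, `F ⋙ E ≅
G ⋙ Φ` and `G` sends injectives to `Φ`-acyclic objects, then `E ∘ RⁿF ≅ RⁿΦ ∘ G`. -/
theorem nonempty_iso {B : Type u} [Category.{v} B] [Abelian B]
    [HasInjectiveResolutions A] [HasInjectiveResolutions B]
    (F : A ⥤ A') [F.Additive] [PreservesFiniteLimits F]
    (Φ : B ⥤ B') [Φ.Additive] [PreservesFiniteLimits Φ]
    (G : A ⥤ B) [G.Additive] [PreservesFiniteLimits G] [PreservesFiniteColimits G]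
    (E : A' ⥤ B') [E.Additive] [PreservesFiniteLimits E] [PreservesFiniteColimits E]
    (e : F ⋙ E ≅ G ⋙ Φ)
    (hacyc : ∀ (I : A), Injective I → ∀ n : ℕ, IsZero ((Φ.rightDerived (n + 1)).obj (G.obj I)))
    (M : A) (n : ℕ) :
    Nonempty (E.obj ((F.rightDerived n).obj M) ≅ (Φ.rightDerived n).obj (G.obj M)) := by
  have : EnoughInjectives A := enoughInjectives_of_hasInjectiveResolutions
  have : EnoughInjectives B := enoughInjectives_of_hasInjectiveResolutions
  obtain ⟨ΔF⟩ := Groth.Agent.S16463.result F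
  obtain ⟨ΔΦ⟩ := Groth.Agent.S16463.result Φ
  let T₁ := post ΔF E
  let T₂ := pre G ΔΦ
  have h₁ : T₁.IsEffaceable := by
    intro n X
    refine ⟨Injective.under X, Injective.ι X, inferInstance, ?_⟩
    have hz : IsZero ((F.rightDerived (n + 1)).obj (Injective.under X)) :=
      Functor.isZero_rightDerived_obj_injective_succ F n _
    have hz' : IsZero (E.obj ((F.rightDerived (n + 1)).obj (Injective.under X))) :=
      Functor.map_isZero E hz
    exact hz'.eq_of_tgt _ _
  have h₂ : T₂.IsEffaceable := by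
    intro n X
    refine ⟨Injective.under X, Injective.ι X, inferInstance, ?_⟩
    exact (hacyc (Injective.under X) inferInstance n).eq_of_tgt _ _
  have hU₁ := Groth.Agent.S6773.result T₁ h₁
  have hU₂ := Groth.Agent.S6773.result T₂ h₂
  let e0 : T₁.F 0 ≅ T₂.F 0 :=
    Functor.isoWhiskerRight F.rightDerivedZeroIsoSelf E ≪≫ e ≪≫
      Functor.isoWhiskerLeft G Φ.rightDerivedZeroIsoSelf.symm
  obtain ⟨φ, -, -⟩ := Groth.Agent.S6774.result T₁ T₂ hU₁ hU₂ e0
  exact ⟨(appIso φ n).app M⟩

end Compare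

end Groth.Agent.Helper1.DeltaComp
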