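import Mathlib
import Groth.Prelude.Def_Coh
import Groth.Agent.Lib.Helper1.DeltaComp
import Groth.Agent.Lib.Helper1.QcExt
import Groth.Agent.Lib.Helper5.Misc.InjTotAcyc
import Groth.Agent.S0865
import Groth.Agent.S0462

set_option autoImplicit false
universe u
open CategoryTheory CategoryTheory.Limits AlgebraicGeometry TopologicalSpace Opposite

namespace Groth.Agent.Helper1.RpushComp

open Groth.Agent.Helper1.QcExt

variable {X Y : Scheme.{u}} (f : X ⟶ Y)

/-- the forgetful functors commute with direct images -/
noncomputable def pushIso : Scheme.Modules.pushforward f ⋙ T Y ≅ T X ⋙ Coh.pushAb f :=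
  NatIso.ofComponents (fun _ => Iso.refl _) (by
    intro M N φ
    exact (Category.comp_id _).trans (Eq.trans rfl (Category.id_comp _).symm))

instance : PreservesFiniteLimits (Scheme.Modules.pushforward f) :=
  ⟨fun _ _ _ => (Scheme.Modules.pullbackPushforwardAdjunction f).rightAdjoint_preservesLimits.preservesLimitsOfShape⟩

theorem isZero_rpushAb_injective (I : X.Modules) [Injective I] (n : ℕ) :
    IsZero ((Coh.RpushAb f (n + 1)).obj ((T X).obj I)) := by
  have hI : Injective (C := SheafOfModules.{u} X.ringCatSheaf) I := ‹Injective I›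
  have h : CohCx.IsTotallyAcyclic ((T X).obj I) :=
    Groth.Agent.Lib.Helper5.Misc.InjTotAcyc.isTotallyAcyclic_of_injective (R := X.ringCatSheaf) I
  exact Groth.Agent.S0865.result (Opens.grothendieckTopology X) (Opens.grothendieckTopology Y)
    (Opens.map f.base) ((T X).obj I) h n

theorem nonempty_iso [HasInjectiveResolutions X.Modules] (M : X.Modules) (n : ℕ) :
    Nonempty (Coh.toAb ((Coh.Rpush f n).obj M) ≅ (Coh.RpushAb f n).obj (Coh.toAb M)) :=
  DeltaComp.nonempty_iso (A := X.Modules) (B := CohTop.Ab X.toTopCat) (A' := Y.Modules)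
    (B' := CohTop.Ab Y.toTopCat) (Scheme.Modules.pushforward f) (Coh.pushAb f) (T X) (T Y) (pushIso f)
    (fun I hI n => isZero_rpushAb_injective f I n) M n

end Groth.Agent.Helper1.RpushComp

namespace Groth.Agent.Helper1.RpushComp

open Groth.Agent.Helper1.QcExt

/-- a module whose underlying abelian sheaf is zero is zero -/
theorem isZero_of_toAb {X : Scheme.{u}} (N : X.Modules) (h : IsZero (Coh.toAb N)) : IsZero N := by
  rw [IsZero.iff_id_eq_zero]
  have hf : (T X).Faithful :=
    inferInstanceAs (SheafOfModules.toSheaf.{u} X.ringCatSheaf).Faithful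
  apply (T X).map_injective
  exact h.eq_of_src _ _

end Groth.Agent.Helper1.RpushComp
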