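import Mathlib
import Groth.Agent.Lib.Helper1.ProjF3
import Groth.Agent.Lib.Helper1.ColimCoh2
import Groth.Agent.Lib.Helper1.RpushComp
import Groth.Agent.Lib.Helper1.RpushZero
import Groth.Agent.Lib.Helper4.HUon1
import Groth.Agent.Lib.Helper5.Misc.FreeShYoneda

/-!
# Acyclicity of `I ⊗ L` for `I` injective and `L` locally free (helper1)
-/

set_option autoImplicit false
universe u
open CategoryTheory CategoryTheory.Limits AlgebraicGeometry TopologicalSpace Opposite
  MonoidalCategory

namespace Groth.Agent.Helper1.ProjF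

open Groth.Agent.Helper1.QcCech Groth.Agent.Helper1.TmulLib Groth.Agent.Helper1.TensLib
  Groth.Agent.Helper1.TensGen Groth.Agent.Helper1.PFrame Groth.Agent.Helper1.PullSec
  Groth.Agent.Helper1.TwForm

section Summand

variable {Z : Scheme.{u}} {A B : Z.Modules} {k : ℕ} (ψ : Fin k → (A ⟶ B))
  (hψ : ∀ V : Z.Opens, Function.Bijective (fun a : Fin k → Γ(A, V) => ∑ i, (ψ i).app V (a i)))

/-- the additive equivalence given by a "basis" of morphisms -/
noncomputable def sumHom (V : Z.Opens) : (Fin k → Γ(A, V)) →+ Γ(B, V) where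
  toFun := fun a => ∑ i, (ψ i).app V (a i)
  map_zero' := by simp
  map_add' := fun a a' => by
    simp only [Pi.add_apply, map_add, Finset.sum_add_distrib]

/-- the additive equivalence given by a "basis" of morphisms -/
noncomputable def sumEquiv (V : Z.Opens) : (Fin k → Γ(A, V)) ≃+ Γ(B, V) :=
  AddEquiv.ofBijective (sumHom ψ V) (hψ V)

theorem sumEquiv_apply (V : Z.Opens) (a : Fin k → Γ(A, V)) :
    sumEquiv ψ hψ V a = ∑ i, (ψ i).app V (a i) := rfl

/-- the coordinate morphisms -/
noncomputable def coord (j : Fin k) : B ⟶ A :=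
  homMk B A (fun V t => (sumEquiv ψ hψ V).symm t j)
    (fun V t t' => by rw [map_add]; rfl)
    (fun V r t => by
      have : (sumEquiv ψ hψ V).symm (r • t) = r • (sumEquiv ψ hψ V).symm t := by
        apply (sumEquiv ψ hψ V).injective
        rw [AddEquiv.apply_symm_apply, sumEquiv_apply]
        simp only [Pi.smul_apply, Scheme.Modules.Hom.app_smul]
        rw [← Finset.smul_sum, ← sumEquiv_apply ψ hψ, AddEquiv.apply_symm_apply]
      rw [this]
      rfl)
    (fun U V h t => by
      have : (sumEquiv ψ hψ V).symm (res B h t) =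
          fun i => res A h ((sumEquiv ψ hψ U).symm t i) := by
        apply (sumEquiv ψ hψ V).injective
        rw [AddEquiv.apply_symm_apply, sumEquiv_apply]
        simp only [QcExt.app_res]
        rw [← map_sum, ← sumEquiv_apply ψ hψ, AddEquiv.apply_symm_apply]
      rw [this])

theorem coord_app (j : Fin k) (V : Z.Opens) (t : Γ(B, V)) :
    (coord ψ hψ j).app V t = (sumEquiv ψ hψ V).symm t j := rfl

theorem sum_coord_comp : ∑ j, coord ψ hψ j ≫ ψ j = 𝟙 B := by
  apply Scheme.Modules.hom_ext
  intro V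
  ext t
  have hsum : ∀ (s : Finset (Fin k)),
      (∑ i ∈ s, coord ψ hψ i ≫ ψ i).app V t = ∑ i ∈ s, (ψ i).app V ((coord ψ hψ i).app V t) := by
    intro s
    classical
    induction s using Finset.induction_on with
    | empty => simp
    | insert a s ha ih =>
      rw [Finset.sum_insert ha, Finset.sum_insert ha, ← ih]
      rfl
  refine (hsum Finset.univ).trans ?_
  simp only [coord_app]
  rw [← sumEquiv_apply ψ hψ, AddEquiv.apply_symm_apply]
  rfl

include hψ in
/-- an additive functor killing `A` kills `B` -/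
theorem isZero_of_sumBasis {D : Type*} [Category D] [Preadditive D] (G : Z.Modules ⥤ D)
    [G.Additive] (h : IsZero (G.obj A)) : IsZero (G.obj B) := by
  rw [IsZero.iff_id_eq_zero, ← G.map_id, ← sum_coord_comp ψ hψ, G.map_sum]
  refine Finset.sum_eq_zero (fun i _ => ?_)
  rw [G.map_comp, h.eq_of_tgt (G.map (coord ψ hψ i)) 0, zero_comp]

end Summand


section Restr

variable {X : Scheme.{u}} (I L : X.Modules) (U : X.Opens)

/-- tensoring with a section of `L` over `U`, as a morphism of modules on `U` -/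
noncomputable def tmHom (b : Γ(L, U)) :
    I.restrict U.ι ⟶ (CohB1.tensorMod I L).restrict U.ι :=
  homMk (I.restrict U.ι) ((CohB1.tensorMod I L).restrict U.ι)
    (fun V m => (show Γ((CohB1.tensorMod I L).restrict U.ι, V) from
      tm I L (U.ι ''ᵁ V) (show Γ(I, U.ι ''ᵁ V) from m) (res L (U.ι_image_le V) b)))
    (fun V m m' => tm_add_left I L (U.ι ''ᵁ V) m m' (res L (U.ι_image_le V) b))
    (fun V r m => tm_smul_left I L (U.ι ''ᵁ V) ((U.ι.appIso V).inv r) m (res L (U.ι_image_le V) b))
    (fun V V' h m => by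
      refine (res_tm I L (U.ι.image_mono h) (show Γ(I, U.ι ''ᵁ V) from m)
        (res L (U.ι_image_le V) b)).trans ?_
      rw [res_res]
      rfl)

theorem tmHom_app (b : Γ(L, U)) (V : (↑U : Scheme.{u}).Opens) (m : Γ(I, U.ι ''ᵁ V)) :
    (tmHom I L U b).app V (show Γ(I.restrict U.ι, V) from m) =
      (show Γ((CohB1.tensorMod I L).restrict U.ι, V) from
        tm I L (U.ι ''ᵁ V) m (res L (U.ι_image_le V) b)) := rfl

/-- cohomology of `I ⊗ L` over an open where `L` has a basis -/
theorem subsingleton_HHon_tensor {k : ℕ} (b : Fin k → Γ(L, U)) (hb : IsBasisOn L U b) (q : ℕ)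
    (h : Subsingleton (Coh.HHon X I U q)) :
    Subsingleton (Coh.HHon X (CohB1.tensorMod I L) U q) := by
  have hψ : ∀ V : (↑U : Scheme.{u}).Opens, Function.Bijective
      (fun a : Fin k → Γ(I.restrict U.ι, V) => ∑ i, (tmHom I L U (b i)).app V (a i)) := by
    intro V
    exact bijective_sum_tm_of_isBasisOn I (hb.res (U.ι_image_le V))
  have h0 : IsZero ((ColimCoh.HHfunctor (↑U : Scheme.{u}) q).obj (I.restrict U.ι)) :=
    (ColimCoh.isZero_HHfunctor_iff _ q).2 h
  have h1 := isZero_of_sumBasis (fun i => tmHom I L U (b i)) hψ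
    (ColimCoh.HHfunctor (↑U : Scheme.{u}) q) h0
  exact (ColimCoh.isZero_HHfunctor_iff _ q).1 h1

end Restr


section Acyc

variable {X Y : Scheme.{u}} (f : X ⟶ Y) (E : Y.Modules)

theorem subsingleton_HHon_injective (I : X.Modules) [Injective I] (U : X.Opens) (n : ℕ) :
    Subsingleton (Coh.HHon X I U (n + 1)) := by
  have hI : Injective (C := SheafOfModules.{u} X.ringCatSheaf) I := ‹Injective I›
  have h : CohCx.IsTotallyAcyclic (Coh.toAb I) :=
    Groth.Agent.Lib.Helper5.Misc.InjTotAcyc.isTotallyAcyclic_of_injective (R := X.ringCatSheaf) I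
  have h1 : Subsingleton (CohTop.HU (Coh.toAb I) (n + 1) U) :=
    Groth.Agent.Lib.Helper5.Misc.ShriekAb.subsingleton_HU_of_isTotallyAcyclic
      (Opens.grothendieckTopology X) (Coh.toAb I) h U n
  obtain ⟨e⟩ := Groth.Agent.Lib.Helper4.HUon1.nonempty_HU_equiv_HHon I U (n + 1)
  exact e.symm.toEquiv.subsingleton

/-- `I ⊗ f^*E` is acyclic for `f_*` when `I` is injective and `E` is finite locally free -/
theorem isZero_rpushAb_tensor (hE : FlatMod.IsFinLocFree E) (I : X.Modules) [Injective I] (n : ℕ) :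
    IsZero ((Coh.RpushAb f (n + 1)).obj
      (Coh.toAb (CohB1.tensorMod I ((Scheme.Modules.pullback f).obj E)))) := by
  refine RpushZero.isZero_of_basis f.base _ (n + 1)
    {V : Y.Opens | ∃ (W : Y.Opens) (k : ℕ) (a : Fin k → Γ(E, W)), V ≤ W ∧ IsFrame E W a} ?_ ?_
  · rw [Opens.isBasis_iff_nbhd]
    intro U x hx
    obtain ⟨W, k, a, hxW, ha⟩ := exists_isFrame hE x
    exact ⟨W ⊓ U, ⟨W, k, a, inf_le_left, ha⟩, ⟨hxW, hx⟩, inf_le_right⟩
  · rintro V ⟨W, k, a, hVW, ha⟩
    have hpull : IsBasisOn ((Scheme.Modules.pullback f).obj E) (f ⁻¹ᵁ V)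
        (fun i => res _ (f.preimage_mono hVW) (σ f E W (a i))) :=
      ((ha.pullback f).isBasisOn).res (f.preimage_mono hVW)
    have h1 := subsingleton_HHon_tensor I ((Scheme.Modules.pullback f).obj E) (f ⁻¹ᵁ V) _ hpull
      (n + 1) (subsingleton_HHon_injective I (f ⁻¹ᵁ V) n)
    obtain ⟨e⟩ := Groth.Agent.Lib.Helper4.HUon1.nonempty_HU_equiv_HHon
      (CohB1.tensorMod I ((Scheme.Modules.pullback f).obj E)) (f ⁻¹ᵁ V) (n + 1)
    exact e.toEquiv.subsingleton

theorem isZero_rpush_tensR [HasInjectiveResolutions X.Modules] (hE : FlatMod.IsFinLocFree E)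
    (I : X.Modules) [Injective I] (n : ℕ) :
    IsZero (((Scheme.Modules.pushforward f).rightDerived (n + 1)).obj
      ((tensR ((Scheme.Modules.pullback f).obj E)).obj I)) := by
  apply RpushComp.isZero_of_toAb
  obtain ⟨e⟩ := RpushComp.nonempty_iso f
    (CohB1.tensorMod I ((Scheme.Modules.pullback f).obj E)) (n + 1)
  exact (isZero_rpushAb_tensor f E hE I n).of_iso e

/-- **the projection formula for higher direct images**, with the locally free module on the
right -/
theorem nonempty_projFormula_right [HasInjectiveResolutions X.Modules]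
    (hE : FlatMod.IsFinLocFree E) (F : X.Modules) (q : ℕ) :
    Nonempty (CohB1.tensorMod ((Coh.Rpush f q).obj F) E ≅
      (Coh.Rpush f q).obj (CohB1.tensorMod F ((Scheme.Modules.pullback f).obj E))) := by
  haveI := preservesFiniteLimits_tensR (hasBases_of_isFinLocFree hE)
  haveI := preservesFiniteColimits_tensR (hasBases_of_isFinLocFree hE)
  have hE' : HasBases ((Scheme.Modules.pullback f).obj E) := by
    intro x
    obtain ⟨W, k, a, hxW, ha⟩ := exists_isFrame hE (f.base x)
    exact ⟨f ⁻¹ᵁ W, k, _, hxW, (ha.pullback f).isBasisOn⟩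
  haveI := preservesFiniteLimits_tensR hE'
  haveI := preservesFiniteColimits_tensR hE'
  exact DeltaComp.nonempty_iso (A := X.Modules) (B := X.Modules) (A' := Y.Modules)
    (B' := Y.Modules) (Scheme.Modules.pushforward f) (Scheme.Modules.pushforward f)
    (tensR ((Scheme.Modules.pullback f).obj E)) (tensR E) (projIso f E hE)
    (fun I hI n => isZero_rpush_tensR f E hE I n) F q

end Acyc

end Groth.Agent.Helper1.ProjF
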