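import Mathlib
import Groth.Agent.Lib.Helper1.ProjF4
import Groth.Agent.Lib.Helper1.AmpleRestr
import Groth.Agent.Lib.Helper1.RP11

/-!
# Quotient of a locally free module by a section which is part of a local basis (helper1)
-/

set_option autoImplicit false
universe u
open CategoryTheory CategoryTheory.Limits AlgebraicGeometry TopologicalSpace Opposite

namespace Groth.Agent.Helper1.VBQ

open Groth.Agent.Helper1.QcCech Groth.Agent.Helper1.SubSh Groth.Agent.Helper1.LGen
open Groth.Agent.Helper1 Groth.Agent.Helper1.PullSec Groth.Agent.Helper1.TwForm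
open Groth.Agent.Helper1.PullGen Groth.Agent.Helper1.PFrame Groth.Agent.Helper1.ProjF

section Basis

variable {X : Scheme.{u}} {N : X.Modules} {W : X.Opens} {n : ℕ}

/-- the morphisms `O_W ⟶ N|_W` attached to sections over `W` -/
noncomputable def psi (b : Fin n → Γ(N, W)) (i : Fin n) :
    Coh.structureModule (↑W : Scheme.{u}) ⟶ N.restrict W.ι :=
  TwistAmple.homOfSec (N.restrict W.ι) (rsec N W (b i))

theorem psi_app (b : Fin n → Γ(N, W)) (i : Fin n) (V' : (↑W : Scheme.{u}).Opens)
    (s : Γ(↑W, V')) :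
    (psi b i).app V' (show Γ(Coh.structureModule (↑W : Scheme.{u}), V') from s) =
      (show Γ(N.restrict W.ι, V') from
        ((W.ι.appIso V').inv.hom s • res N (W.ι_image_le V') (b i))) := by
  have e1 : (psi b i).app V' (show Γ(Coh.structureModule (↑W : Scheme.{u}), V') from s) =
      s • res (N.restrict W.ι) (le_top : V' ≤ ⊤) (rsec N W (b i)) :=
    TwistAmple.homOfSec_app (N.restrict W.ι) (rsec N W (b i)) V' s
  rw [e1, smul_restrict, res_restrict]
  change (show Γ(N.restrict W.ι, V') from ((W.ι.appIso V').inv.hom s •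
    res N _ (res N (W.ι_image_le ⊤) (b i)))) = _
  rw [res_res]
  rfl

/-- a basis of sections gives a basis of morphisms -/
theorem bijective_psi {b : Fin n → Γ(N, W)} (hb : IsBasisOn N W b)
    (V' : (↑W : Scheme.{u}).Opens) :
    Function.Bijective (fun a : Fin n → Γ(Coh.structureModule (↑W : Scheme.{u}), V') =>
      ∑ i, (psi b i).app V' (a i)) := by
  have hb2 : Function.Bijective ((W.ι.appIso V').inv.hom) :=
    (ConcreteCategory.isIso_iff_bijective (W.ι.appIso V').inv).1 inferInstance
  have h1 := hb (W.ι ''ᵁ V') (W.ι_image_le V')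
  let Θ : (Fin n → Γ(↑W, V')) → (Fin n → Γ(X, W.ι ''ᵁ V')) :=
    fun a i => (W.ι.appIso V').inv.hom (a i)
  have hΘ : Function.Bijective Θ := by
    constructor
    · intro a a' h
      funext i
      exact hb2.1 (congrFun h i)
    · intro r
      refine ⟨fun i => (hb2.2 (r i)).choose, ?_⟩
      funext i
      exact (hb2.2 (r i)).choose_spec
  have : (fun a : Fin n → Γ(Coh.structureModule (↑W : Scheme.{u}), V') =>
      ∑ i, (psi b i).app V' (a i)) =
      (fun r : Fin n → Γ(X, W.ι ''ᵁ V') => ∑ i, r i • res N (W.ι_image_le V') (b i)) ∘ Θ := by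
    funext a
    simp only [Function.comp_apply]
    refine Finset.sum_congr rfl fun i _ => ?_
    exact psi_app b i V' (a i)
  rw [this]
  exact h1.comp hΘ

end Basis

section Cat

variable {C : Type*} [Category C] [Abelian C]

/-- in an abelian category, if `N` is decomposed as a direct sum of `n + 1` copies of `O` by
`ψ i : O ⟶ N`, `γ i : N ⟶ O`, the cokernel of `ψ 0` is the direct sum of `n` copies of `O` -/
theorem nonempty_cokernel_iso_sigma {O N : C} {n : ℕ}
    (ψ : Fin (n + 1) → (O ⟶ N)) (γ : Fin (n + 1) → (N ⟶ O))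
    (h1 : ∀ i j, ψ i ≫ γ j = if i = j then 𝟙 O else 0) (h2 : ∑ i, γ i ≫ ψ i = 𝟙 N) :
    Nonempty (cokernel (ψ 0) ≅ ∐ fun _ : Fin n => O) := by
  classical
  let q : N ⟶ ∐ fun _ : Fin n => O := ∑ j : Fin n, γ j.succ ≫ Sigma.ι (fun _ : Fin n => O) j
  have hz : ψ 0 ≫ q = 0 := by
    simp only [q, Preadditive.comp_sum]
    refine Finset.sum_eq_zero fun j _ => ?_
    rw [← Category.assoc, h1 0 j.succ, if_neg (Fin.succ_ne_zero j).symm, zero_comp]
  let S : ShortComplex C := ShortComplex.mk (ψ 0) q hz
  let sec : (∐ fun _ : Fin n => O) ⟶ N := Sigma.desc (fun j : Fin n => ψ j.succ)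
  have hsec : sec ≫ q = 𝟙 _ := by
    apply Sigma.hom_ext
    intro j
    simp only [sec, q, Sigma.ι_desc_assoc, Preadditive.comp_sum, Category.comp_id]
    rw [Finset.sum_eq_single j]
    · rw [← Category.assoc, h1 j.succ j.succ, if_pos rfl, Category.id_comp]
    · intro l _ hl
      rw [← Category.assoc, h1 j.succ l.succ, if_neg (fun h => hl (Fin.succ_injective _ h).symm),
        zero_comp]
    · intro h
      exact absurd (Finset.mem_univ j) h
  have hid : γ 0 ≫ ψ 0 + q ≫ sec = 𝟙 N := by
    rw [← h2, Fin.sum_univ_succ]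
    congr 1
    simp only [q, sec, Preadditive.sum_comp, Category.assoc, Sigma.ι_desc]
  let sp : S.Splitting :=
    { r := γ 0
      s := sec
      f_r := by
        change ψ 0 ≫ γ 0 = 𝟙 _
        rw [h1 0 0, if_pos rfl]
      s_g := hsec
      id := hid }
  exact ⟨(cokernelIsCokernel (ψ 0)).coconePointUniqueUpToIso sp.gIsCokernel⟩

end Cat

section Coord

variable {X : Scheme.{u}} {N : X.Modules} {W : X.Opens} {n : ℕ}

theorem psi_comp_coord {b : Fin n → Γ(N, W)} (hb : IsBasisOn N W b) (i j : Fin n) :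
    psi b i ≫ ProjF.coord (psi b) (bijective_psi hb) j =
      if i = j then 𝟙 (Coh.structureModule (↑W : Scheme.{u})) else 0 := by
  classical
  apply PFrame.hom_ext_one
  have h1 : (psi b i ≫ ProjF.coord (psi b) (bijective_psi hb) j).app ⊤
      (show Γ(Coh.structureModule (↑W : Scheme.{u}), ⊤) from (1 : Γ(↑W, ⊤))) =
      (ProjF.sumEquiv (psi b) (bijective_psi hb) ⊤).symm
        ((psi b i).app ⊤ (show Γ(Coh.structureModule (↑W : Scheme.{u}), ⊤) from
          (1 : Γ(↑W, ⊤)))) j := rfl
  have h2 : (psi b i).app ⊤ (show Γ(Coh.structureModule (↑W : Scheme.{u}), ⊤) from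
      (1 : Γ(↑W, ⊤))) =
      ProjF.sumEquiv (psi b) (bijective_psi hb) ⊤
        (Pi.single i (show Γ(Coh.structureModule (↑W : Scheme.{u}), ⊤) from
          (1 : Γ(↑W, ⊤)))) := by
    rw [ProjF.sumEquiv_apply, Finset.sum_eq_single i]
    · rw [Pi.single_eq_same]
    · intro l _ hl
      rw [Pi.single_eq_of_ne hl, map_zero]
    · intro h
      exact absurd (Finset.mem_univ i) h
  rw [h1, h2, AddEquiv.symm_apply_apply]
  by_cases hij : i = j
  · subst hij
    rw [if_pos rfl, Pi.single_eq_same]
    rfl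
  · rw [if_neg hij, Pi.single_eq_of_ne (Ne.symm hij)]
    rfl

end Coord

section Quot

variable {X : Scheme.{u}} {F : X.Modules}

/-- the restriction of a morphism `O ⟶ F` to an open, as the morphism attached to a section -/
theorem restrictSec_eq_psi (s : Coh.structureModule X ⟶ F) (V : X.Opens) {n : ℕ}
    (b : Fin n → Γ(F, V)) :
    AmpleLib.restrictSec V.ι s = psi (Fin.cons (secVal s V) b : Fin (n + 1) → Γ(F, V)) 0 := by
  apply RP11.hom_ext_of_secVal
  have h1 := AmpleLib.secVal_restrictSec V.ι s ⊤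
  have h2 : secVal (psi (Fin.cons (secVal s V) b : Fin (n + 1) → Γ(F, V)) 0) ⊤ =
      rsec F V (secVal s V) := by
    unfold psi
    rw [AmpleLib.secVal_homOfSec]
    exact res_self _ _ _
  rw [h2]
  refine h1.trans ?_
  exact (res_secVal s (V.ι_image_le ⊤)).symm

/-- **the quotient by a section which is part of a basis over `V` is free over `V`** -/
theorem nonempty_cokernel_restrict_iso (s : Coh.structureModule X ⟶ F) (V : X.Opens) {n : ℕ}
    (b : Fin n → Γ(F, V)) (hB : IsBasisOn F V (Fin.cons (secVal s V) b)) :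
    Nonempty ((cokernel s).restrict V.ι ≅ FlatMod.freeMod (↑V : Scheme.{u}) n) := by
  classical
  obtain ⟨e1⟩ := nonempty_cokernel_iso_sigma (psi (Fin.cons (secVal s V) b))
    (ProjF.coord (psi (Fin.cons (secVal s V) b)) (bijective_psi hB))
    (psi_comp_coord hB) (ProjF.sum_coord_comp _ _)
  rw [← restrictSec_eq_psi s V b] at e1
  let R := Scheme.Modules.restrictFunctor V.ι
  have e2 : R.obj (cokernel s) ≅ cokernel (R.map s) := PreservesCokernel.iso R s
  have e3 : cokernel (AmpleLib.restrictSec V.ι s) ≅ cokernel (R.map s) :=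
    cokernelEpiComp (Scheme.Modules.restrictUnitIso V.ι).inv (R.map s)
  exact ⟨e2 ≪≫ e3.symm ≪≫ e1⟩

end Quot

section Main

variable {X : Scheme.{u}} {F : X.Modules}

/-- `s` extends to a local basis with `n` further elements near every point -/
def Extends (s : Coh.structureModule X ⟶ F) (n : ℕ) : Prop :=
  ∀ x : X, ∃ (V : X.Opens) (b : Fin n → Γ(F, V)), x ∈ V ∧
    IsBasisOn F V (Fin.cons (secVal s V) b)

theorem isFinLocFreeOfRank_cokernel (s : Coh.structureModule X ⟶ F) (n : ℕ)
    (h : Extends s n) : FlatMod.IsFinLocFreeOfRank n (cokernel s) := fun x => by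
  obtain ⟨V, b, hxV, hB⟩ := h x
  exact ⟨V, hxV, nonempty_cokernel_restrict_iso s V b hB⟩

theorem mono_of_extends (s : Coh.structureModule X ⟶ F) (n : ℕ) (h : Extends s n) : Mono s := by
  apply SubSh.mono_of_app_injective
  intro U
  rw [injective_iff_map_eq_zero]
  intro r hr
  change Γ(X, U) at r
  have hr' : r • secVal s U = 0 := (LGen.app_eq_smul s U r).symm.trans hr
  have : (show Γ(Coh.structureModule X, U) from r) =
      (show Γ(Coh.structureModule X, U) from (0 : Γ(X, U))) := by
    apply TwistSec.eq_of_locally (Coh.structureModule X)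
    intro x hx
    obtain ⟨V, b, hxV, hB⟩ := h x
    refine ⟨U ⊓ V, inf_le_left, ⟨hx, hxV⟩, ?_⟩
    have hB' := hB (U ⊓ V) (inf_le_right : U ⊓ V ≤ V)
    have h0 : resR (inf_le_left : U ⊓ V ≤ U) r • secVal s (U ⊓ V) = 0 := by
      rw [← res_secVal s (inf_le_left : U ⊓ V ≤ U), ← res_smul, hr', map_zero]
    have h1 : (fun r : Fin (n + 1) → Γ(X, U ⊓ V) => ∑ i, r i • res F (inf_le_right : U ⊓ V ≤ V)
        ((Fin.cons (secVal s V) b : Fin (n + 1) → Γ(F, V)) i))
        (Fin.cons (resR (inf_le_left : U ⊓ V ≤ U) r) 0) =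
        (fun r : Fin (n + 1) → Γ(X, U ⊓ V) => ∑ i, r i • res F (inf_le_right : U ⊓ V ≤ V)
        ((Fin.cons (secVal s V) b : Fin (n + 1) → Γ(F, V)) i)) 0 := by
      simp only [Fin.sum_univ_succ, Fin.cons_zero, Fin.cons_succ, Pi.zero_apply, zero_smul,
        Finset.sum_const_zero, add_zero]
      rw [res_secVal]
      exact h0
    have h2 := congrFun (hB'.1 h1) 0
    simp only [Fin.cons_zero, Pi.zero_apply] at h2
    change resR _ r = resR _ 0
    rw [h2, map_zero]
  exact this

/-- replacing a basis element by a section whose coefficient is a unit -/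
theorem isBasisOn_cons_of_unit {n : ℕ} {V : X.Opens} {b' : Fin (n + 1) → Γ(F, V)}
    (hb' : IsBasisOn F V b') (t : Γ(F, V)) (c : Fin (n + 1) → Γ(X, V))
    (hc : t = ∑ i, c i • b' i) (i₀ : Fin (n + 1)) (hu : IsUnit (c i₀)) :
    IsBasisOn F V (Fin.cons t (fun j => b' (i₀.succAbove j))) := by
  intro V' hV'
  have hold := hb' V' hV'
  set c' : Fin (n + 1) → Γ(X, V') := fun i => resR hV' (c i) with hc'
  set bb : Fin (n + 1) → Γ(F, V') := fun i => res F hV' (b' i) with hbb
  have hu' : IsUnit (c' i₀) := hu.map (resR hV')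
  obtain ⟨u, hu''⟩ := hu'
  have ht : res F hV' t = ∑ i, c' i • bb i := by
    rw [hc, map_sum]
    refine Finset.sum_congr rfl fun i _ => ?_
    exact res_smul F hV' (c i) (b' i)
  let Φ : (Fin (n + 1) → Γ(X, V')) → (Fin (n + 1) → Γ(X, V')) := fun r =>
    Fin.insertNth i₀ (r 0 * c' i₀) (fun j => r 0 * c' (i₀.succAbove j) + r j.succ)
  have hΦ : Function.Bijective Φ := by
    constructor
    · intro r r' h
      have h0 := congrFun h i₀
      simp only [Φ, Fin.insertNth_apply_same] at h0
      have h00 : r 0 = r' 0 := by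
        rw [← hu''] at h0
        exact u.isUnit.mul_left_injective h0
      funext i
      refine Fin.cases h00 (fun j => ?_) i
      have hj := congrFun h (i₀.succAbove j)
      simp only [Φ, Fin.insertNth_apply_succAbove] at hj
      rw [h00] at hj
      exact add_left_cancel hj
    · intro y
      refine ⟨Fin.cons (y i₀ * ((u⁻¹ : (Γ(X, V'))ˣ) : Γ(X, V')))
        (fun j => y (i₀.succAbove j) - y i₀ * ((u⁻¹ : (Γ(X, V'))ˣ) : Γ(X, V')) *
          c' (i₀.succAbove j)), ?_⟩
      rw [Fin.insertNth_eq_iff]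
      constructor
      · simp only [Fin.cons_zero]
        rw [← hu'', mul_assoc, Units.inv_mul, mul_one]
      · funext j
        simp only [Fin.cons_zero, Fin.cons_succ, Fin.removeNth_apply]
        ring
  have : (fun r : Fin (n + 1) → Γ(X, V') => ∑ i, r i • res F hV'
      ((Fin.cons t (fun j => b' (i₀.succAbove j)) : Fin (n + 1) → Γ(F, V)) i)) =
      (fun r : Fin (n + 1) → Γ(X, V') => ∑ i, r i • res F hV' (b' i)) ∘ Φ := by
    funext r
    simp only [Function.comp_apply]
    rw [Fin.sum_univ_succ, Fin.sum_univ_succAbove _ i₀]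
    simp only [Fin.cons_zero, Fin.cons_succ, Φ, Fin.insertNth_apply_same,
      Fin.insertNth_apply_succAbove]
    rw [ht, Fin.sum_univ_succAbove _ i₀, smul_add, Finset.smul_sum]
    simp only [add_smul, mul_smul, Finset.sum_add_distrib]
    rw [add_assoc]
  rw [this]
  exact hold.comp hΦ

end Main

end Groth.Agent.Helper1.VBQ
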