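import Mathlib
import Groth.Agent.Lib.Helper1.GenusOne2
import Groth.Agent.Lib.Helper1.VBQ1
import Groth.Agent.Lib.Helper1.BilinHopf2
import Groth.Agent.Lib.Helper1.DegFin1
import Groth.Agent.Lib.Lead.SD1

/-!
# Sections of locally free modules on curves not vanishing anywhere (helper1)
-/

set_option autoImplicit false
universe u
open CategoryTheory CategoryTheory.Limits AlgebraicGeometry TopologicalSpace Opposite

namespace Groth.Agent.Helper1.VBQ

open Groth.Agent.Helper1.QcCech Groth.Agent.Helper1.SubSh Groth.Agent.Helper1.LGen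
open Groth.Agent.Helper1 Groth.Agent.Helper1.PullSec Groth.Agent.Helper1.TwForm
open Groth.Agent.Helper1.PullGen Groth.Agent.Helper1.PFrame Groth.Agent.Helper1.ProjF
open Groth.Agent.Helper1.CurveDual Groth.Agent.Helper1.CurvePt Groth.Agent.Helper1.CurveLin
open Groth.Agent.Helper1.TmulLib Groth.Agent.Lib.Helper4 Groth.Agent.Lead.IdM

section Local

variable {X : Scheme.{u}} {F : X.Modules}

/-- if some coordinate of `s` with respect to a local basis is a unit at `x`, then `s` extends to
a basis near `x` -/
theorem exists_extends_of_mem_basicOpen (s : Coh.structureModule X ⟶ F) {n : ℕ} {V : X.Opens}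
    {b' : Fin (n + 1) → Γ(F, V)} (hb' : IsBasisOn F V b') (c : Fin (n + 1) → Γ(X, V))
    (hc : secVal s V = ∑ i, c i • b' i) (x : X) (i₀ : Fin (n + 1))
    (hx : x ∈ X.basicOpen (c i₀)) :
    ∃ (V' : X.Opens) (b : Fin n → Γ(F, V')), x ∈ V' ∧
      IsBasisOn F V' (Fin.cons (secVal s V') b) := by
  have hle : X.basicOpen (c i₀) ≤ V := X.basicOpen_le _
  have hu : IsUnit (resR hle (c i₀)) := X.toRingedSpace.isUnit_res_basicOpen (c i₀)
  have hB := hb'.res hle
  have hc' : secVal s (X.basicOpen (c i₀)) =
      ∑ i, resR hle (c i) • res F hle (b' i) := by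
    rw [← res_secVal s hle, hc, map_sum]
    refine Finset.sum_congr rfl fun i _ => ?_
    exact res_smul F hle (c i) (b' i)
  exact ⟨X.basicOpen (c i₀), _, hx,
    isBasisOn_cons_of_unit hB _ (fun i => resR hle (c i)) hc' i₀ hu⟩

/-- the image of `1 ⊗ s` in `(O/I_x) ⊗ F` vanishes if all coordinates of `s` vanish at `x` -/
theorem tensR_map_eq_zero (s : Coh.structureModule X ⟶ F) (x : X) (hx : IsClosed ({x} : Set X))
    {n : ℕ} {V : X.Opens} (hV : IsAffineOpen V) (hxV : x ∈ V)
    {b' : Fin n → Γ(F, V)} (c : Fin n → Γ(X, V))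
    (hc : secVal s V = ∑ i, c i • b' i) (hcx : ∀ i, x ∉ X.basicOpen (c i)) :
    ((tensR F).map (ClSub.toSubscheme (ptIdeal x hx))).app ⊤
      (tm (Coh.structureModule X) F ⊤ (one' ⊤) (secVal s ⊤)) = 0 := by
  rw [tensR_map_tm]
  show tm (ClSub.quotMod (ptIdeal x hx)) F ⊤
    ((ClSub.toSubscheme (ptIdeal x hx)).app ⊤ (one' ⊤)) (secVal s ⊤) =
    (0 : Γ(CohB1.tensorMod (ClSub.quotMod (ptIdeal x hx)) F, ⊤))
  apply TwistSec.eq_of_locally
  intro y _
  by_cases hyx : y = x
  · subst hyx
    refine ⟨V, le_top, hxV, ?_⟩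
    rw [map_zero, res_tm, res_secVal, hc]
    rw [← QcExt.app_res, res_one']
    have hsum : tm (ClSub.quotMod (ptIdeal y hx)) F V
        ((ClSub.toSubscheme (ptIdeal y hx)).app V (one' V)) (∑ i, c i • b' i) =
        ∑ i, tm (ClSub.quotMod (ptIdeal y hx)) F V
          ((ClSub.toSubscheme (ptIdeal y hx)).app V (one' V)) (c i • b' i) := by
      classical
      induction (Finset.univ : Finset (Fin n)) using Finset.induction_on with
      | empty => simp [tm_zero_right]
      | insert a t ha ih => rw [Finset.sum_insert ha, Finset.sum_insert ha, tm_add_right, ih]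
    rw [hsum]
    refine Finset.sum_eq_zero fun i _ => ?_
    rw [tm_smul_right, ← tm_smul_left, ← Scheme.Modules.Hom.app_smul, smul_one']
    -- `c i` lies in the ideal of the point
    have hmem : c i ∈ (ptIdeal y hx).ideal ⟨V, hV⟩ := by
      rw [PtInv.ptIdeal_ideal y hx ⟨V, hV⟩ hxV]
      by_contra hnot
      exact hcx i ((Groth.Agent.Lead.SD.mem_basicOpen_iff hV ⟨y, hxV⟩ (c i)).2 hnot)
    rw [← range_ιL (ptIdeal y hx) ⟨V, hV⟩] at hmem
    obtain ⟨m, hm⟩ := hmem
    have h0 : (ClSub.toSubscheme (ptIdeal y hx)).app V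
        (show Γ(Coh.structureModule X, V) from c i) = 0 := by
      rw [← hm]
      exact IdealModL.toSubscheme_ι (ptIdeal y hx) V m
    rw [h0, tm_zero_left]
  · have hopen : IsOpen (({x} : Set X)ᶜ) := hx.isOpen_compl
    let W : X.Opens := ⟨({x} : Set X)ᶜ, hopen⟩
    refine ⟨W, le_top, hyx, ?_⟩
    rw [map_zero, res_tm, ← QcExt.app_res]
    have hsub : Subsingleton Γ(ClSub.quotMod (ptIdeal x hx), W) := by
      have hempty : (ptIdeal x hx).subschemeι ⁻¹ᵁ W = ⊥ := by
        ext z
        simp only [Opens.coe_bot, Set.mem_empty_iff_false, iff_false]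
        intro hz
        have h1 : (ptIdeal x hx).subschemeι z ∈ Set.range (ptIdeal x hx).subschemeι := ⟨z, rfl⟩
        rw [Scheme.IdealSheafData.range_subschemeι, ptIdeal_support] at h1
        exact hz h1
      change Subsingleton Γ((ptIdeal x hx).subscheme, (ptIdeal x hx).subschemeι ⁻¹ᵁ W)
      rw [hempty]
      infer_instance
    rw [Subsingleton.elim ((ClSub.toSubscheme (ptIdeal x hx)).app W _) 0, tm_zero_left]

end Local

section Global

variable {X : Scheme.{u}}

/-- `τ ↦ 1 ⊗ τ` is injective on global sections of a module with local bases -/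
theorem eq_zero_of_tm_one_eq_zero {F : X.Modules} (hF : HasBases F) (τ : Γ(F, ⊤))
    (h : tm (Coh.structureModule X) F ⊤ (one' ⊤) τ = 0) : τ = 0 := by
  apply TwistSec.eq_of_locally
  intro y _
  obtain ⟨W, m, b, hyW, hb⟩ := hF y
  refine ⟨W, le_top, hyW, ?_⟩
  rw [map_zero]
  have h1 := congrArg (res (CohB1.tensorMod (Coh.structureModule X) F) (le_top : W ≤ ⊤)) h
  rw [map_zero, res_tm, res_one'] at h1
  set a := BilinHopf.coord hb (res F (le_top : W ≤ ⊤) τ) with ha
  have hsum := BilinHopf.sum_coord hb (res F (le_top : W ≤ ⊤) τ)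
  rw [← hsum] at h1
  have h2 : tm (Coh.structureModule X) F W (one' W) (∑ i, a i • b i) =
      ∑ i, tm (Coh.structureModule X) F W (show Γ(Coh.structureModule X, W) from a i) (b i) := by
    have hs : ∀ (t : Finset (Fin m)), tm (Coh.structureModule X) F W (one' W)
        (∑ i ∈ t, a i • b i) =
        ∑ i ∈ t, tm (Coh.structureModule X) F W
          (show Γ(Coh.structureModule X, W) from a i) (b i) := by
      intro t
      classical
      induction t using Finset.induction_on with
      | empty => simp [tm_zero_right]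
      | insert j t hj ih =>
        rw [Finset.sum_insert hj, Finset.sum_insert hj, tm_add_right, ih, tm_smul_right,
          ← tm_smul_left, smul_one']
    exact hs Finset.univ
  rw [h2] at h1
  have h3 : (fun m' : Fin m → Γ(Coh.structureModule X, W) =>
      ∑ i, tm (Coh.structureModule X) F W (m' i) (b i))
      (fun i => (show Γ(Coh.structureModule X, W) from a i)) =
      (fun m' : Fin m → Γ(Coh.structureModule X, W) =>
      ∑ i, tm (Coh.structureModule X) F W (m' i) (b i)) 0 := by
    simp only [Pi.zero_apply, tm_zero_left, Finset.sum_const_zero]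
    exact h1
  have h4 := (bijective_sum_tm_of_isBasisOn (Coh.structureModule X) hb).1 h3
  rw [← hsum]
  refine Finset.sum_eq_zero fun i _ => ?_
  have h5 : a i = 0 := congrFun h4 i
  rw [← ha, h5, zero_smul]

variable (k : Type u) [Field k] (X) [X.Over (Spec (CommRingCat.of k))] [IsIntegral X]

include k in
/-- **a nonzero section of a locally free module on an integral curve such that no twist by the
ideal of a closed point has sections extends to a local basis everywhere** -/
theorem extends_of_subsingleton (hdim : topologicalKrullDim X = 1)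
    (F : X.Modules) (n : ℕ) (hF : FlatMod.IsFinLocFreeOfRank (n + 1) F)
    (s : Coh.structureModule X ⟶ F) (hs : s ≠ 0)
    (h : ∀ (x : X) (hx : IsClosed ({x} : Set X)),
      Subsingleton (Coh.HH X (CohB1.tensorMod (ClSub.idealMod (ptIdeal x hx)) F) 0)) :
    Extends s n := by
  intro x
  have hFlf := FinLen.isFinLocFree_of_rank hF
  have hFB := hasBases_of_isFinLocFree hFlf
  obtain ⟨U, hxU, ⟨e⟩⟩ := hF x
  obtain ⟨b₀, hb₀⟩ := exists_isFrame_of_iso F U e
  have hB₀ := hb₀.isBasisOn
  obtain ⟨_, ⟨V, hV, rfl⟩, hxV, hVU⟩ :=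
    X.isBasis_affineOpens.exists_subset_of_mem_open hxU U.2
  have hVU' : V ≤ U := hVU
  have hB := hB₀.res hVU'
  set c := BilinHopf.coord hB (secVal s V) with hcdef
  have hc : secVal s V = ∑ i, c i • res F hVU' (b₀ i) := (BilinHopf.sum_coord hB (secVal s V)).symm
  by_cases hex : ∃ i, x ∈ X.basicOpen (c i)
  · obtain ⟨i₀, hi₀⟩ := hex
    exact exists_extends_of_mem_basicOpen s hB c hc x i₀ hi₀
  · push Not at hex
    exfalso
    have hstop : secVal s ⊤ ≠ 0 := by
      intro h0
      exact hs (RP11.hom_ext_of_secVal s 0 (h0.trans (SecOps.secVal_zero ⊤).symm))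
    have hxcl : IsClosed ({x} : Set X) := by
      by_contra hncl
      have hxη : x = genericPoint X := by
        by_contra hne
        exact hncl (DegFin.isClosed_singleton_of_ne_genericPoint hdim.le x hne)
      have hc0 : ∀ i, c i = 0 := by
        intro i
        by_contra hne
        have hne' : X.basicOpen (c i) ≠ ⊥ := by
          intro hb
          exact hne ((AlgebraicGeometry.basicOpen_eq_bot_iff (c i)).1 hb)
        obtain ⟨y, hy⟩ : ∃ y, y ∈ X.basicOpen (c i) := by
          by_contra hcon
          push Not at hcon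
          apply hne'
          ext z
          simp only [Opens.coe_bot, Set.mem_empty_iff_false, iff_false]
          exact hcon z
        exact hex i (hxη ▸ Curve.genericPoint_mem_of_nonempty _ y hy)
      have hsV : secVal s V = 0 := by
        rw [hc]
        refine Finset.sum_eq_zero fun i _ => ?_
        rw [hc0 i, zero_smul]
      have h1 : res F (le_top : V ≤ ⊤) (secVal s ⊤) = res F (le_top : V ≤ ⊤) 0 := by
        rw [res_secVal, hsV, map_zero]
      exact hstop (BilinHopf.res_injective_of_isFinLocFree hFlf (le_top : V ≤ ⊤) ⟨x, hxV⟩ h1)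
    have hSE := shortExact_map_tensR hFB (IdealModL.S (ptIdeal x hxcl)) (shortExact_S _)
    have h0 := tensR_map_eq_zero s x hxcl hV hxV c hc hex
    have hg : Canon.HHlin k ((IdealModL.S (ptIdeal x hxcl)).map (tensR F)).g 0
        ((HH0.equiv X _).symm (tm (Coh.structureModule X) F ⊤ (one' ⊤) (secVal s ⊤))) = 0 := by
      apply (HH0.equiv X _).injective
      rw [equiv_HHlin, map_zero, AddEquiv.apply_symm_apply]
      exact h0
    obtain ⟨a, ha⟩ := HHFin2.exact_f_g k hSE 0 _ hg
    haveI hsub : Subsingleton (Coh.HH X ((IdealModL.S (ptIdeal x hxcl)).map (tensR F)).X₁ 0) :=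
      h x hxcl
    have ha0 : a = 0 := Subsingleton.elim _ _
    rw [ha0, map_zero] at ha
    have h2 : tm (Coh.structureModule X) F ⊤ (one' ⊤) (secVal s ⊤) = 0 := by
      have := congrArg (HH0.equiv X _) ha
      rw [map_zero, AddEquiv.apply_symm_apply] at this
      exact this.symm
    exact hstop (eq_zero_of_tm_one_eq_zero hFB _ h2)

end Global

end Groth.Agent.Helper1.VBQ
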