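import Mathlib
import Groth.Agent.Lib.Helper1.VBQ2
import Groth.Agent.Lib.Helper1.TensGen
import Groth.Agent.Lib.Helper1.Curve1

/-!
# Bases and trivialisations; tensoring a locally free module with an invertible one (helper1)
-/

set_option autoImplicit false
universe u
open CategoryTheory CategoryTheory.Limits AlgebraicGeometry TopologicalSpace Opposite

namespace Groth.Agent.Helper1.VBQ

open Groth.Agent.Helper1.QcCech Groth.Agent.Helper1.SubSh Groth.Agent.Helper1.LGen
open Groth.Agent.Helper1 Groth.Agent.Helper1.PullSec Groth.Agent.Helper1.TwForm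
open Groth.Agent.Helper1.PullGen Groth.Agent.Helper1.PFrame Groth.Agent.Helper1.ProjF
open Groth.Agent.Helper1.TensGen Groth.Agent.Helper1.TmulLib

section Triv

variable {X : Scheme.{u}} {N : X.Modules} {W : X.Opens} {n : ℕ}

/-- a basis over `W` trivialises the restriction to `W` -/
theorem nonempty_restrict_iso_freeMod {b : Fin n → Γ(N, W)} (hb : IsBasisOn N W b) :
    Nonempty (N.restrict W.ι ≅ FlatMod.freeMod (↑W : Scheme.{u}) n) := by
  classical
  refine ⟨{ hom := ∑ j, ProjF.coord (psi b) (bijective_psi hb) j ≫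
              Sigma.ι (fun _ : Fin n => Coh.structureModule (↑W : Scheme.{u})) j
            inv := Sigma.desc (psi b)
            hom_inv_id := ?_
            inv_hom_id := ?_ }⟩
  · rw [Preadditive.sum_comp]
    simp only [Category.assoc, Sigma.ι_desc]
    exact ProjF.sum_coord_comp _ _
  · apply Sigma.hom_ext
    intro i
    rw [Sigma.ι_desc_assoc, Preadditive.comp_sum, Category.comp_id]
    rw [Finset.sum_eq_single i]
    · rw [← Category.assoc, psi_comp_coord hb, if_pos rfl, Category.id_comp]
    · intro j _ hj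
      rw [← Category.assoc, psi_comp_coord hb, if_neg (Ne.symm hj), zero_comp]
    · intro h
      exact absurd (Finset.mem_univ i) h

end Triv

section Tens

variable {X : Scheme.{u}} {E L : X.Modules} {W : X.Opens} {n : ℕ}

/-- a basis of `E` and a generator of `L` give a basis of `E ⊗ L` -/
theorem isBasisOn_tm {b : Fin n → Γ(E, W)} (hb : IsBasisOn E W b) {g : Γ(L, W)}
    (hg : IsGen L W g) :
    IsBasisOn (CohB1.tensorMod E L) W (fun i => tm E L W (b i) g) := by
  intro V hV
  have h1 := bijective_tm_of_isGen E (hg.res hV)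
  have h2 := hb V hV
  have : (fun r : Fin n → Γ(X, V) => ∑ i, r i • res (CohB1.tensorMod E L) hV (tm E L W (b i) g)) =
      (fun m : Γ(E, V) => tm E L V m (res L hV g)) ∘
        (fun r : Fin n → Γ(X, V) => ∑ i, r i • res E hV (b i)) := by
    funext r
    simp only [Function.comp_apply]
    have hs : ∀ (t : Finset (Fin n)), tm E L V (∑ i ∈ t, r i • res E hV (b i)) (res L hV g) =
        ∑ i ∈ t, r i • res (CohB1.tensorMod E L) hV (tm E L W (b i) g) := by
      intro t
      classical
      induction t using Finset.induction_on with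
      | empty => simp [tm_zero_left]
      | insert j t hj ih =>
        rw [Finset.sum_insert hj, Finset.sum_insert hj, tm_add_left, ih, tm_smul_left, res_tm]
    exact (hs Finset.univ).symm
  rw [this]
  exact h1.comp h2

/-- **tensoring with an invertible module preserves the rank** -/
theorem isFinLocFreeOfRank_tensor_invertible (hE : FlatMod.IsFinLocFreeOfRank n E)
    (hL : PicF.IsInvertible L) : FlatMod.IsFinLocFreeOfRank n (CohB1.tensorMod E L) := by
  intro x
  obtain ⟨U, hxU, ⟨e⟩⟩ := hE x
  obtain ⟨b₀, hb₀⟩ := exists_isFrame_of_iso E U e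
  obtain ⟨W₂, g, hx₂, hg⟩ := exists_isGen hL x
  have hB := hb₀.isBasisOn.res (inf_le_left : U ⊓ W₂ ≤ U)
  have hG := hg.res (inf_le_right : U ⊓ W₂ ≤ W₂)
  exact ⟨U ⊓ W₂, ⟨hxU, hx₂⟩, nonempty_restrict_iso_freeMod (isBasisOn_tm hB hG)⟩

end Tens

end Groth.Agent.Helper1.VBQ
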