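import Mathlib
import Groth.Agent.Lib.Helper1.BilinHopf2
import Groth.Agent.Lib.Helper4.HHFin1

/-!
# Cohomology of finite coproducts; sections of tensor products over a general field (helper1)
-/

set_option autoImplicit false
universe u
open CategoryTheory CategoryTheory.Limits AlgebraicGeometry TopologicalSpace Opposite

namespace Groth.Agent.Helper1.VBQ

open Groth.Agent.Helper1.QcCech Groth.Agent.Helper1.TmulLib Groth.Agent.Helper1.TensLib
  Groth.Agent.Helper1.TensGen Groth.Agent.Helper1.PFrame Groth.Agent.Helper1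
  Groth.Agent.Helper1.BilinHopf Groth.Agent.Lib.Helper4.HHFin1

section Sigma

variable (A : Type u) [CommRing A] {X : Scheme.{u}} [X.Over (Spec (CommRingCat.of A))]

noncomputable def sigmaTo {n : ℕ} (B : Fin n → X.Modules) (i : ℕ) :
    Coh.HH X (∐ B) i →ₗ[A] (∀ j, Coh.HH X (B j) i) :=
  LinearMap.pi fun j => Canon.HHlin A (FinSigma.q B j) i

theorem sigmaTo_apply {n : ℕ} (B : Fin n → X.Modules) (i : ℕ) (x : Coh.HH X (∐ B) i) (j : Fin n) :
    sigmaTo A B i x j = Canon.HHlin A (FinSigma.q B j) i x := rfl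

noncomputable def sigmaFrom {n : ℕ} (B : Fin n → X.Modules) (i : ℕ) :
    (∀ j, Coh.HH X (B j) i) →ₗ[A] Coh.HH X (∐ B) i :=
  ∑ j, (Canon.HHlin A (Sigma.ι B j) i).comp (LinearMap.proj j)

theorem sigmaFrom_apply {n : ℕ} (B : Fin n → X.Modules) (i : ℕ) (y : ∀ j, Coh.HH X (B j) i) :
    sigmaFrom A B i y = ∑ j, Canon.HHlin A (Sigma.ι B j) i (y j) := by
  unfold sigmaFrom
  rw [LinearMap.sum_apply]
  rfl

theorem sigmaTo_sigmaFrom {n : ℕ} (B : Fin n → X.Modules) (i : ℕ) (y : ∀ j, Coh.HH X (B j) i) :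
    sigmaTo A B i (sigmaFrom A B i y) = y := by
  classical
  funext l
  rw [sigmaTo_apply, sigmaFrom_apply, map_sum, Finset.sum_eq_single l]
  · rw [← HHlin_comp, FinSigma.ι_q_self, HHlin_id]
  · intro j _ hj
    rw [← HHlin_comp, FinSigma.ι_q_ne _ hj, HHlin_zero]
  · intro h
    exact absurd (Finset.mem_univ l) h

theorem sigmaFrom_sigmaTo {n : ℕ} (B : Fin n → X.Modules) (i : ℕ) (x : Coh.HH X (∐ B) i) :
    sigmaFrom A B i (sigmaTo A B i x) = x := by
  rw [sigmaFrom_apply]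
  have h2 := HHlin_sum A Finset.univ (fun j => FinSigma.q B j ≫ Sigma.ι B j) i x
  rw [FinSigma.sum_q_ι, HHlin_id] at h2
  refine Eq.trans ?_ h2.symm
  refine Finset.sum_congr rfl fun j _ => ?_
  rw [sigmaTo_apply, HHlin_comp]

/-- cohomology of a finite coproduct is the product of the cohomologies -/
noncomputable def HHsigmaEquiv {n : ℕ} (B : Fin n → X.Modules) (i : ℕ) :
    Coh.HH X (∐ B) i ≃ₗ[A] (∀ j, Coh.HH X (B j) i) :=
  LinearEquiv.ofLinear (sigmaTo A B i) (sigmaFrom A B i)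
    (LinearMap.ext fun y => sigmaTo_sigmaFrom A B i y)
    (LinearMap.ext fun x => sigmaFrom_sigmaTo A B i x)

end Sigma

section Field

variable (k : Type u) [Field k] {X : Scheme.{u}} [X.Over (Spec (CommRingCat.of k))]

theorem finrank_HH_sigma {n : ℕ} (B : Fin n → X.Modules) (i : ℕ)
    (h : ∀ j, Module.Finite k (Coh.HH X (B j) i)) :
    Module.finrank k (Coh.HH X (∐ B) i) = ∑ j, Module.finrank k (Coh.HH X (B j) i) := by
  rw [(HHsigmaEquiv k B i).finrank_eq, Module.finrank_pi_fintype]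

end Field

section Inj

variable (k : Type u) [Field k] (X : Scheme.{u}) [X.Over (Spec (CommRingCat.of k))]
  [IsIntegral X] [IsProper (X ↘ (Spec (CommRingCat.of k)))]

set_option maxHeartbeats 1600000 in
/-- **`h⁰(E₂) ≤ h⁰(E₁ ⊗ E₂)`** for finite locally free modules on an integral proper scheme over
a field, if `E₁` has a nonzero section -/
theorem finrank_le_tensor (E₁ E₂ : X.Modules) (h₁ : FlatMod.IsFinLocFree E₁)
    (h₂ : FlatMod.IsFinLocFree E₂) [Nontrivial (Coh.HH X E₁ 0)] :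
    Module.finrank k (Coh.HH X E₂ 0) ≤
      Module.finrank k (Coh.HH X (CohB1.tensorMod E₁ E₂) 0) := by
  classical
  have c₁ : Coh.IsCoh E₁ := Groth.Agent.Lib.Helper5.LocalCoh.isCoh_of_isFinLocFree _ h₁
  have c₂ : Coh.IsCoh E₂ := Groth.Agent.Lib.Helper5.LocalCoh.isCoh_of_isFinLocFree _ h₂
  have c₁₂ : Coh.IsCoh (CohB1.tensorMod E₁ E₂) := Euler.isCoh_tensor _ _ c₁ c₂
  haveI : Module.Finite k (Coh.HH X E₁ 0) := Groth.Agent.Lib.Helper4.T2Main1.t2 k X _ c₁ 0
  haveI : Module.Finite k (Coh.HH X E₂ 0) := Groth.Agent.Lib.Helper4.T2Main1.t2 k X _ c₂ 0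
  haveI : Module.Finite k (Coh.HH X (CohB1.tensorMod E₁ E₂) 0) :=
    Groth.Agent.Lib.Helper4.T2Main1.t2 k X _ c₁₂ 0
  obtain ⟨W₁, n₁, b₁, hξ₁, hb₁⟩ := exists_isFrame h₁ (genericPoint X)
  obtain ⟨W₂, n₂, b₂, hξ₂, hb₂⟩ := exists_isFrame h₂ (genericPoint X)
  obtain ⟨W, hW⟩ : ∃ W : X.Opens, W = W₁ ⊓ W₂ := ⟨_, rfl⟩
  have hW₁ : W ≤ W₁ := hW ▸ inf_le_left
  have hW₂ : W ≤ W₂ := hW ▸ inf_le_right
  have hB₁ : IsBasisOn E₁ W (fun i => res E₁ hW₁ (b₁ i)) := hb₁.isBasisOn.res hW₁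
  have hB₂ : IsBasisOn E₂ W (fun i => res E₂ hW₂ (b₂ i)) := hb₂.isBasisOn.res hW₂
  have hξ : genericPoint X ∈ W := hW ▸ ⟨hξ₁, hξ₂⟩
  have hne : ((W : X.Opens) : Set X).Nonempty := ⟨genericPoint X, hξ⟩
  haveI : IsDomain Γ(X, W) := by
    apply +allowSynthFailures IsIntegral.component_integral
    exact ⟨⟨_, hξ⟩⟩
  obtain ⟨v, hv⟩ := exists_ne (0 : Coh.HH X E₁ 0)
  -- the linear map `w ↦ v ⊗ w`
  let μ : Coh.HH X E₂ 0 →ₗ[k] Coh.HH X (CohB1.tensorMod E₁ E₂) 0 :=
    { toFun := fun w => (hsec X _).symm (tm E₁ E₂ ⊤ (hsec X E₁ v) (hsec X E₂ w))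
      map_add' := fun w w' => by rw [map_add, tm_add_right, map_add]
      map_smul' := fun r w => by
        apply (hsec X _).injective
        rw [AddEquiv.apply_symm_apply, hsec_smul k X E₂, RingHom.id_apply,
          hsec_smul k X (CohB1.tensorMod E₁ E₂), AddEquiv.apply_symm_apply, tm_smul_right] }
  refine LinearMap.finrank_le_finrank_of_injective (f := μ) ?_
  rw [injective_iff_map_eq_zero]
  intro w hw
  have hw' : tm E₁ E₂ ⊤ (hsec X E₁ v) (hsec X E₂ w) = 0 := by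
    have := congrArg (hsec X _) hw
    rw [map_zero] at this
    change hsec X _ ((hsec X _).symm _) = 0 at this
    rwa [AddEquiv.apply_symm_apply] at this
  -- restrict to `W`
  have hres0 : tm E₁ E₂ W (hres X E₁ W v) (hres X E₂ W w) = 0 := by
    rw [hres_apply, hres_apply, ← res_tm, hw', map_zero]
  have hprod : ∀ α β, coord hB₁ (hres X E₁ W v) α * coord hB₂ (hres X E₂ W w) β = 0 := by
    intro α β
    have h1 := tcoord_tm E₁ hB₂ (hres X E₁ W v) (hres X E₂ W w)
    rw [hres0] at h1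
    have h0 : tcoord E₁ hB₂ (0 : Γ(CohB1.tensorMod E₁ E₂, W)) = 0 := by
      apply tcoord_unique
      simp [tm_zero_left]
    rw [h0] at h1
    have h2 := congrFun h1 β
    have h3 := congrArg (fun m => coord hB₁ m α) h2
    simp only [Pi.zero_apply] at h3
    rw [coord_smul, Pi.smul_apply, smul_eq_mul] at h3
    have h4 : coord hB₁ (0 : Γ(E₁, W)) = 0 := by
      apply coord_unique
      simp
    rw [h4, Pi.zero_apply] at h3
    rw [mul_comm]
    exact h3.symm
  -- some coordinate of `v` is nonzero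
  have hα : ∃ α, coord hB₁ (hres X E₁ W v) α ≠ 0 := by
    by_contra hcon
    push Not at hcon
    apply hv
    apply (hsec X E₁).injective
    rw [map_zero]
    apply res_injective_of_isFinLocFree h₁ (le_top : W ≤ ⊤) hne
    rw [map_zero]
    exact eq_zero_of_coord_eq_zero hB₁ _ hcon
  obtain ⟨α, hα⟩ := hα
  apply (hsec X E₂).injective
  rw [map_zero]
  apply res_injective_of_isFinLocFree h₂ (le_top : W ≤ ⊤) hne
  rw [map_zero]
  apply eq_zero_of_coord_eq_zero hB₂
  intro β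
  rcases mul_eq_zero.1 (hprod α β) with h | h
  · exact absurd h hα
  · exact h

end Inj

end Groth.Agent.Helper1.VBQ
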