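import Mathlib
import Groth.Agent.Lib.Helper1.VBP1
import Groth.Agent.Lib.Helper1.VBQ3
import Groth.Agent.Lib.Helper1.VBQ4

/-!
# Vector bundles on the projective line: lifting and splitting (helper1)
-/

set_option backward.isDefEq.respectTransparency.types false
set_option synthInstance.maxHeartbeats 400000
set_option autoImplicit false
universe u
open CategoryTheory CategoryTheory.Limits AlgebraicGeometry TopologicalSpace Opposite

namespace Groth.Agent.Helper1.VBP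

open Groth.Agent.Helper1
open Groth.Agent.Lib.Helper4.KosC1
open Groth.Agent.Lib.Helper4.KosC4
open Groth.Agent.Lib.Helper4.SerreVan
open Groth.Agent.Lib.Helper4.RegRes1
open Groth.Agent.Lib.Helper4.SplitO1
open Groth.Agent.Lib.Helper4

variable (k : Type u) [Field k]

/-- lifting a morphism from `O(b)` along an epimorphism with kernel `O(a)`, `a - b ≥ -1` -/
theorem exists_lift (a b : ℤ) (hab : -1 ≤ a - b)
    (S : ShortComplex (CohB1.ProjSpace 1 k).Modules) (hS : S.ShortExact)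
    (ea : S.X₁ ≅ Twist.twistProjSpace 1 k a) (φ : Twist.twistProjSpace 1 k b ⟶ S.X₃) :
    ∃ ψ : Twist.twistProjSpace 1 k b ⟶ S.X₂, ψ ≫ S.g = φ := by
  have hp := TwistTens.twist_package (CohB1.polyGrading 1 k) (SerreFin.hcov1 1 k)
  haveI : (Tw 1 k (-b)).IsEquivalence := DuF3.isEquivalence_TL_of_isInvertible (hp.1 (-b))
  let T := Tw 1 k (-b)
  have hT := TwExact.shortExact_map (SerreVan.locGen_twist 1 k (-b)) hS
  obtain ⟨e0⟩ := nonempty_Tw_neg_iso 1 k (-b)
  have e3 : T.obj (Twist.twistProjSpace 1 k b) ≅ Coh.structureModule (CohB1.ProjSpace 1 k) :=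
    (eqToIso (by rw [neg_neg]) : T.obj (Twist.twistProjSpace 1 k b) ≅
      (Tw 1 k (-b)).obj (Twist.twistProjSpace 1 k (-(-b)))) ≪≫ e0
  have h1 : Subsingleton (Coh.HH (CohB1.ProjSpace 1 k) (S.map T).X₁ 1) := by
    have := subsingleton_Tw_twist' 1 k a (-b) 1 (by omega) (by omega)
    exact subsingleton_of_iso k (X := CohB1.ProjSpace 1 k) (T.mapIso ea).symm 1 this
  obtain ⟨t, ht⟩ := surj_top_of_H1 k hT h1
    ((e3.inv ≫ T.map φ).app ⊤ (1 : (CohB1.ProjSpace 1 k).ringCatSheaf.obj.obj (op ⊤)))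
  refine ⟨T.preimage (e3.hom ≫ ofSec _ t), ?_⟩
  apply T.map_injective
  rw [T.map_comp, T.map_preimage]
  change (e3.hom ≫ ofSec _ t) ≫ (S.map T).g = _
  rw [Category.assoc, ofSec_comp, ht]
  have h2 : ofSec _ ((e3.inv ≫ T.map φ).app ⊤
      (1 : (CohB1.ProjSpace 1 k).ringCatSheaf.obj.obj (op ⊤))) = e3.inv ≫ T.map φ := by
    rw [← ofSec_comp, ofSec_one, Category.id_comp]
  exact (congrArg (fun z => e3.hom ≫ z) h2).trans (Iso.hom_inv_id_assoc e3 _)

/-- an extension of a sum of `O(e j)` by `O(a)` splits if `e j ≤ a + 1` for all `j` -/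
theorem nonempty_splitting (a : ℤ) {n : ℕ} (e : Fin n → ℤ) (he : ∀ j, e j ≤ a + 1)
    (S : ShortComplex (CohB1.ProjSpace 1 k).Modules) (hS : S.ShortExact)
    (ea : S.X₁ ≅ Twist.twistProjSpace 1 k a)
    (eQ : S.X₃ ≅ ∐ fun j : Fin n => Twist.twistProjSpace 1 k (e j)) :
    Nonempty S.Splitting := by
  have hl : ∀ j, ∃ ψ : Twist.twistProjSpace 1 k (e j) ⟶ S.X₂,
      ψ ≫ S.g = Sigma.ι (fun j : Fin n => Twist.twistProjSpace 1 k (e j)) j ≫ eQ.inv := fun j =>
    exists_lift k a (e j) (by have := he j; omega) S hS ea _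
  choose ψ hψ using hl
  let σ : S.X₃ ⟶ S.X₂ := eQ.hom ≫ Sigma.desc ψ
  have hσ : σ ≫ S.g = 𝟙 _ := by
    change (eQ.hom ≫ Sigma.desc ψ) ≫ S.g = 𝟙 _
    rw [Category.assoc, ← cancel_epi eQ.inv, Iso.inv_hom_id_assoc, Category.comp_id]
    apply Sigma.hom_ext
    intro j
    rw [Sigma.ι_desc_assoc, hψ]
  haveI := hS.mono_f
  exact ⟨ShortComplex.Splitting.ofExactOfSection S hS.exact σ hσ hS.mono_f⟩

end Groth.Agent.Helper1.VBP
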