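import Mathlib
import Groth.Agent.Lib.Helper1.VBP2

/-!
# Vector bundles on the projective line: the maximal twist with a section (helper1)
-/

set_option backward.isDefEq.respectTransparency.types false
set_option synthInstance.maxHeartbeats 400000
set_option autoImplicit false
universe u
open CategoryTheory CategoryTheory.Limits AlgebraicGeometry TopologicalSpace Opposite

namespace Groth.Agent.Helper1.VBP

open Groth.Agent.Helper1
open Groth.Agent.Lib.Helper4.KosC1
open Groth.Agent.Lib.Helper4.KosC4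
open Groth.Agent.Lib.Helper4.SerreVan
open Groth.Agent.Lib.Helper4.RegRes1
open Groth.Agent.Lib.Helper4.SplitO1
open Groth.Agent.Lib.Helper4
open Groth.Agent.Helper1.CurveDual Groth.Agent.Helper1.CurvePt Groth.Agent.Helper1.CurveLin
open Groth.Agent.Helper1.Euler Groth.Agent.Helper1.Curve Groth.Agent.Helper1.P1Iso

variable (k : Type u) [Field k]

theorem nonempty_twist_twist (F : (CohB1.ProjSpace 1 k).Modules) (a b c : ℤ) (h : a + b = c) :
    Nonempty (CohB1.tensorMod (CohB1.tensorMod F (Twist.twistProjSpace 1 k a))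
      (Twist.twistProjSpace 1 k b) ≅ CohB1.tensorMod F (Twist.twistProjSpace 1 k c)) := by
  subst h
  exact KosC3.nonempty_twist_twist_iso 1 k F a b

theorem nonempty_twist_zero (F : (CohB1.ProjSpace 1 k).Modules) :
    Nonempty (CohB1.tensorMod F (Twist.twistProjSpace 1 k 0) ≅ F) := by
  obtain ⟨e0⟩ := TwistTens.nonempty_twist_zero_iso (CohB1.polyGrading 1 k)
  have e0' : Twist.twistProjSpace 1 k 0 ≅ Coh.structureModule (CohB1.ProjSpace 1 k) := e0
  exact ⟨TwistTens.tensorModCongrRight F e0' ≪≫ SecTwist.unitorR F⟩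

theorem nonempty_untwist (F : (CohB1.ProjSpace 1 k).Modules) (a b : ℤ) (h : a + b = 0) :
    Nonempty (CohB1.tensorMod (CohB1.tensorMod F (Twist.twistProjSpace 1 k a))
      (Twist.twistProjSpace 1 k b) ≅ F) := by
  obtain ⟨e1⟩ := nonempty_twist_twist k F a b 0 h
  obtain ⟨e2⟩ := nonempty_twist_zero k F
  exact ⟨e1 ≪≫ e2⟩

theorem isFinLocFreeOfRank_twist {n : ℕ} {E : (CohB1.ProjSpace 1 k).Modules}
    (hE : FlatMod.IsFinLocFreeOfRank n E) (m : ℤ) :
    FlatMod.IsFinLocFreeOfRank n (CohB1.tensorMod E (Twist.twistProjSpace 1 k m)) :=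
  VBQ.isFinLocFreeOfRank_tensor_invertible hE (isInvertible_twist k m)

theorem isCoh_of_rank {n : ℕ} {E : (CohB1.ProjSpace 1 k).Modules}
    (hE : FlatMod.IsFinLocFreeOfRank n E) : Coh.IsCoh E := by
  haveI := isNoetherian_of_proper k (CohB1.ProjSpace 1 k)
  haveI : IsLocallyNoetherian (CohB1.ProjSpace 1 k) :=
    (isNoetherian_of_proper k (CohB1.ProjSpace 1 k)).toIsLocallyNoetherian
  exact Groth.Agent.Lib.Helper5.LocalCoh.isCoh_of_isFinLocFree _ (FinLen.isFinLocFree_of_rank hE)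

theorem finite_HH {n : ℕ} {E : (CohB1.ProjSpace 1 k).Modules}
    (hE : FlatMod.IsFinLocFreeOfRank n E) (i : ℕ) :
    Module.Finite k (Coh.HH (CohB1.ProjSpace 1 k) E i) :=
  T2Main1.t2 k _ _ (isCoh_of_rank k hE) i

/-- some twist has a nonzero section -/
theorem exists_nontrivial_twist {n : ℕ} (E : (CohB1.ProjSpace 1 k).Modules)
    (hE : FlatMod.IsFinLocFreeOfRank (n + 1) E) :
    ∃ m : ℤ, Nontrivial (Coh.HH (CohB1.ProjSpace 1 k)
      (CohB1.tensorMod E (Twist.twistProjSpace 1 k m)) 0) := by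
  have hdim := dim_P1 k
  obtain ⟨δ, hδ⟩ : ∃ δ : ℤ, δ = Curv2.deg k (CohB1.ProjSpace 1 k) E (n + 1) := ⟨_, rfl⟩
  refine ⟨|δ|, ?_⟩
  have hV := isFinLocFreeOfRank_one (isInvertible_twist k |δ|)
  have hχ := euler_tensor_locFree k (CohB1.ProjSpace 1 k) hdim.le (n + 1) 1 E
    (Twist.twistProjSpace 1 k |δ|) hE hV
  rw [euler_twist, ← hδ] at hχ
  have hT := isFinLocFreeOfRank_twist k hE |δ|
  have hc := isCoh_of_rank k hT
  have eN := euler_eq_h0_sub_h1 k _ hdim.le _ hc.1
  haveI := finite_HH k hT 0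
  have hpos : 0 < Module.finrank k (Coh.HH (CohB1.ProjSpace 1 k)
      (CohB1.tensorMod E (Twist.twistProjSpace 1 k |δ|)) 0) := by
    rw [hχ] at eN
    push_cast at eN
    have h1 := abs_nonneg δ
    have h2 := neg_abs_le δ
    have h3 : (0 : ℤ) ≤ (n : ℤ) * (|δ| + 1) := by positivity
    have : (0 : ℤ) < Module.finrank k (Coh.HH (CohB1.ProjSpace 1 k)
        (CohB1.tensorMod E (Twist.twistProjSpace 1 k |δ|)) 0) := by
      nlinarith
    exact_mod_cast this
  exact Module.nontrivial_of_finrank_pos hpos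

/-- twists with sections are bounded -/
theorem le_of_nontrivial_twist {n : ℕ} (E : (CohB1.ProjSpace 1 k).Modules)
    (hE : FlatMod.IsFinLocFreeOfRank n E) (z : ℤ) (hz : 0 ≤ z)
    (h : Nontrivial (Coh.HH (CohB1.ProjSpace 1 k)
      (CohB1.tensorMod E (Twist.twistProjSpace 1 k (-z))) 0)) :
    z + 1 ≤ Module.finrank k (Coh.HH (CohB1.ProjSpace 1 k) E 0) := by
  have hT := isFinLocFreeOfRank_twist k hE (-z)
  have hV := isFinLocFreeOfRank_one (isInvertible_twist k z)
  have h1 := VBQ.finrank_le_tensor k (CohB1.ProjSpace 1 k)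
    (CohB1.tensorMod E (Twist.twistProjSpace 1 k (-z))) (Twist.twistProjSpace 1 k z)
    (FinLen.isFinLocFree_of_rank hT) (FinLen.isFinLocFree_of_rank hV)
  obtain ⟨e⟩ := nonempty_untwist k E (-z) z (by ring)
  rw [(HHFin1.HHequiv k e 0).finrank_eq, finrank_H0_twist] at h1
  have : ((z + 1).toNat : ℤ) = z + 1 := Int.toNat_of_nonneg (by omega)
  omega

/-- **the maximal twist with a section** -/
theorem exists_max_twist {n : ℕ} (E : (CohB1.ProjSpace 1 k).Modules)
    (hE : FlatMod.IsFinLocFreeOfRank (n + 1) E) :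
    ∃ d₀ : ℤ, Nontrivial (Coh.HH (CohB1.ProjSpace 1 k)
        (CohB1.tensorMod E (Twist.twistProjSpace 1 k (-d₀))) 0) ∧
      ∀ z : ℤ, d₀ < z → Subsingleton (Coh.HH (CohB1.ProjSpace 1 k)
        (CohB1.tensorMod E (Twist.twistProjSpace 1 k (-z))) 0) := by
  have hb : ∃ b : ℤ, ∀ z : ℤ, Nontrivial (Coh.HH (CohB1.ProjSpace 1 k)
      (CohB1.tensorMod E (Twist.twistProjSpace 1 k (-z))) 0) → z ≤ b := by
    refine ⟨Module.finrank k (Coh.HH (CohB1.ProjSpace 1 k) E 0), fun z hz => ?_⟩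
    by_cases h0 : 0 ≤ z
    · have := le_of_nontrivial_twist k E hE z h0 hz
      omega
    · omega
  have hi : ∃ z : ℤ, Nontrivial (Coh.HH (CohB1.ProjSpace 1 k)
      (CohB1.tensorMod E (Twist.twistProjSpace 1 k (-z))) 0) := by
    obtain ⟨m, hm⟩ := exists_nontrivial_twist k E hE
    refine ⟨-m, ?_⟩
    rw [neg_neg]
    exact hm
  obtain ⟨d₀, h1, h2⟩ := Int.exists_greatest_of_bdd hb hi
  refine ⟨d₀, h1, fun z hz => ?_⟩
  by_contra hcon
  rw [not_subsingleton_iff_nontrivial] at hcon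
  have := h2 z hcon
  omega

end Groth.Agent.Helper1.VBP
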