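import Mathlib
import Groth.Agent.Lib.Helper1.VBP3

/-!
# Vector bundles on the projective line: existence of the splitting (helper1)
-/

set_option backward.isDefEq.respectTransparency.types false
set_option synthInstance.maxHeartbeats 400000
set_option autoImplicit false
universe u
open CategoryTheory CategoryTheory.Limits AlgebraicGeometry TopologicalSpace Opposite

namespace Groth.Agent.Helper1.VBP

open Groth.Agent.Helper1
open Groth.Agent.Lib.Helper4.KosC1
open Groth.Agent.Lib.Helper4.KosC4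
open Groth.Agent.Lib.Helper4.SerreVan
open Groth.Agent.Lib.Helper4.RegRes1
open Groth.Agent.Lib.Helper4.SplitO1
open Groth.Agent.Lib.Helper4
open Groth.Agent.Helper1.CurveDual Groth.Agent.Helper1.CurvePt Groth.Agent.Helper1.CurveLin
open Groth.Agent.Helper1.Euler Groth.Agent.Helper1.Curve Groth.Agent.Helper1.P1Iso

section Cat

variable {C : Type*} [Category C] [Preadditive C] [HasBinaryBiproducts C] [HasFiniteCoproducts C]

theorem nonempty_biprod_sigma_iso {n : ℕ} (f : Fin (n + 1) → C) :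
    Nonempty ((f 0) ⊞ (∐ fun i : Fin n => f i.succ) ≅ ∐ f) := by
  have hc := extendCofanIsColimit f (coproductIsCoproduct (fun i : Fin n => f i.succ))
    (coprodIsCoprod (f 0) (∐ fun i : Fin n => f i.succ))
  let e : ∐ f ≅ f 0 ⨿ ∐ (fun i : Fin n => f i.succ) :=
    (coproductIsCoproduct f).coconePointUniqueUpToIso hc
  exact ⟨(e ≪≫ (biprod.isoCoprod _ _).symm).symm⟩

end Cat

variable (k : Type u) [Field k]

/-- twisting a sum of line bundles -/
theorem nonempty_twist_sigma {n : ℕ} (e : Fin n → ℤ) (m : ℤ) :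
    Nonempty (CohB1.tensorMod (∐ fun j => Twist.twistProjSpace 1 k (e j))
      (Twist.twistProjSpace 1 k m) ≅ ∐ fun j => Twist.twistProjSpace 1 k (e j + m)) := by
  have hp := TwistTens.twist_package (CohB1.polyGrading 1 k) (SerreFin.hcov1 1 k)
  haveI : (Tw 1 k m).IsEquivalence := DuF3.isEquivalence_TL_of_isInvertible (hp.1 m)
  have e1 := PreservesCoproduct.iso (Tw 1 k m) (fun j => Twist.twistProjSpace 1 k (e j))
  have e2 : (∐ fun j => (Tw 1 k m).obj (Twist.twistProjSpace 1 k (e j))) ≅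
      ∐ fun j => Twist.twistProjSpace 1 k (e j + m) :=
    Sigma.mapIso (fun j => (hp.2.1 (e j) m).some)
  exact ⟨e1 ≪≫ e2⟩

theorem finrank_H0_sigma {n : ℕ} (e : Fin n → ℤ) :
    Module.finrank k (Coh.HH (CohB1.ProjSpace 1 k)
      (∐ fun j => Twist.twistProjSpace 1 k (e j)) 0) = ∑ j, (e j + 1).toNat := by
  rw [VBQ.finrank_HH_sigma k (fun j => Twist.twistProjSpace 1 k (e j)) 0
    (fun j => T2Main1.t2 k _ _ (isCoh_twist k (e j)) 0)]
  exact Finset.sum_congr rfl fun j _ => finrank_H0_twist k (e j)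

/-- the third term of a short exact sequence has no sections if the middle one has none and
`H¹` of the first vanishes -/
theorem subsingleton_H0_X₃ {S : ShortComplex (CohB1.ProjSpace 1 k).Modules} (hS : S.ShortExact)
    (h2 : Subsingleton (Coh.HH (CohB1.ProjSpace 1 k) S.X₂ 0))
    (h1 : Subsingleton (Coh.HH (CohB1.ProjSpace 1 k) S.X₁ 1)) :
    Subsingleton (Coh.HH (CohB1.ProjSpace 1 k) S.X₃ 0) := by
  refine subsingleton_of_forall_eq 0 fun x => ?_
  obtain ⟨y, hy⟩ := HHFin2.exact_g_delta k hS 0 x (Subsingleton.elim (h := h1) _ _)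
  rw [← hy, Subsingleton.elim (h := h2) y 0, map_zero]

/-- the summands of the quotient have nonpositive degree -/
theorem le_zero_of_subsingleton {n : ℕ} (e : Fin n → ℤ)
    (S : ShortComplex (CohB1.ProjSpace 1 k).Modules) (hS : S.ShortExact)
    (ea : S.X₁ ≅ Coh.structureModule (CohB1.ProjSpace 1 k))
    (eQ : S.X₃ ≅ ∐ fun j : Fin n => Twist.twistProjSpace 1 k (e j))
    (h : Subsingleton (Coh.HH (CohB1.ProjSpace 1 k)
      (CohB1.tensorMod S.X₂ (Twist.twistProjSpace 1 k (-1))) 0)) : ∀ j, e j ≤ 0 := by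
  let T := Tw 1 k (-1)
  have hT := TwExact.shortExact_map (SerreVan.locGen_twist 1 k (-1)) hS
  have h1 : Subsingleton (Coh.HH (CohB1.ProjSpace 1 k) (S.map T).X₁ 1) := by
    obtain ⟨e1⟩ := TwistAmpleOpen.nonempty_tensorMod_unit_iso (Twist.twistProjSpace 1 k (-1))
    have e2 : (S.map T).X₁ ≅ Twist.twistProjSpace 1 k (-1) := T.mapIso ea ≪≫ e1
    have := Groth.Agent.S0844.result k 1 (-1) 1 (by omega) (by omega)
    exact subsingleton_of_iso k (X := CohB1.ProjSpace 1 k) e2.symm 1 this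
  have h3 : Subsingleton (Coh.HH (CohB1.ProjSpace 1 k) (S.map T).X₃ 0) :=
    subsingleton_H0_X₃ k hT h h1
  obtain ⟨e3⟩ := nonempty_twist_sigma k e (-1)
  have e4 : (S.map T).X₃ ≅ ∐ fun j => Twist.twistProjSpace 1 k (e j + -1) :=
    T.mapIso eQ ≪≫ e3
  have h4 : Subsingleton (Coh.HH (CohB1.ProjSpace 1 k)
      (∐ fun j => Twist.twistProjSpace 1 k (e j + -1)) 0) :=
    subsingleton_of_iso k (X := CohB1.ProjSpace 1 k) e4 0 h3
  have h5 := finrank_H0_sigma k (fun j => e j + -1)
  rw [Module.finrank_zero_of_subsingleton] at h5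
  intro j
  have h6 := (Finset.sum_eq_zero_iff.1 h5.symm) j (Finset.mem_univ j)
  omega

/-- no sections after twisting by the ideal of a closed point -/
theorem subsingleton_ptIdeal_tensor (F : (CohB1.ProjSpace 1 k).Modules)
    (h : ∀ m : ℕ, 0 < m → Subsingleton (Coh.HH (CohB1.ProjSpace 1 k)
      (CohB1.tensorMod F (Twist.twistProjSpace 1 k (-(m : ℤ)))) 0))
    (x : CohB1.ProjSpace 1 k) (hx : IsClosed ({x} : Set (CohB1.ProjSpace 1 k))) :
    Subsingleton (Coh.HH (CohB1.ProjSpace 1 k)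
      (CohB1.tensorMod (ClSub.idealMod (ptIdeal x hx)) F) 0) := by
  obtain ⟨m, hm, ⟨e⟩⟩ := exists_ptIdeal_iso k x hx
  have e1 := TwistTens.tensorModCongrLeft e F
  have e2 := TildeTens.tensorModComm (Twist.twistProjSpace 1 k (-(m : ℤ))) F
  exact subsingleton_of_iso k (X := CohB1.ProjSpace 1 k) (e1 ≪≫ e2).symm 0 (h m hm)

end Groth.Agent.Helper1.VBP
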