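import Mathlib
import Groth.Agent.Lib.Helper1.VBP4
import Groth.Agent.Lib.Helper1.VB2

/-!
# Vector bundles on the projective line: existence of the splitting (helper1)
-/

set_option backward.isDefEq.respectTransparency.types false
set_option synthInstance.maxHeartbeats 400000
set_option autoImplicit false
universe u
open CategoryTheory CategoryTheory.Limits AlgebraicGeometry TopologicalSpace Opposite

namespace Groth.Agent.Helper1.VBP

open Groth.Agent.Helper1
open Groth.Agent.Lib.Helper4.KosC1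
open Groth.Agent.Lib.Helper4.KosC4
open Groth.Agent.Lib.Helper4.SerreVan
open Groth.Agent.Lib.Helper4.RegRes1
open Groth.Agent.Lib.Helper4.SplitO1
open Groth.Agent.Lib.Helper4
open Groth.Agent.Helper1.CurveDual Groth.Agent.Helper1.CurvePt Groth.Agent.Helper1.CurveLin
open Groth.Agent.Helper1.Euler Groth.Agent.Helper1.Curve Groth.Agent.Helper1.P1Iso

variable (k : Type u) [Field k]

theorem antitone_cons_zero {n : ℕ} (e : Fin n → ℤ) (he : Antitone e) (hle : ∀ j, e j ≤ 0) :
    Antitone (Fin.cons 0 e : Fin (n + 1) → ℤ) := by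
  intro i j hij
  induction i using Fin.cases with
  | zero =>
    induction j using Fin.cases with
    | zero => exact le_rfl
    | succ j' =>
      simp only [Fin.cons_zero, Fin.cons_succ]
      exact hle j'
  | succ i' =>
    induction j using Fin.cases with
    | zero => exact absurd hij (by simp)
    | succ j' =>
      simp only [Fin.cons_succ]
      exact he (Fin.succ_le_succ_iff.1 hij)

/-- **existence of the splitting** -/
theorem exists_splitting : ∀ (n : ℕ) (E : (CohB1.ProjSpace 1 k).Modules),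
    FlatMod.IsFinLocFreeOfRank n E →
    ∃ d : Fin n → ℤ, Antitone d ∧
      Nonempty (E ≅ ∐ fun i : Fin n => Twist.twistProjSpace 1 k (d i))
  | 0, E, hE => by
      have hz := VB.isZero_of_rank_zero hE
      refine ⟨fun i => i.elim0, fun i => i.elim0, ⟨hz.iso ?_⟩⟩
      exact Groth.Agent.Lib.Helper5.LTenFlf.isZero_sigma _ (fun i => i.elim0)
  | n + 1, E, hE => by
      obtain ⟨d₀, hnt, hmax⟩ := exists_max_twist k E hE
      obtain ⟨F, hFdef⟩ : ∃ F : (CohB1.ProjSpace 1 k).Modules,
        F = CohB1.tensorMod E (Twist.twistProjSpace 1 k (-d₀)) := ⟨_, rfl⟩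
      have hF : FlatMod.IsFinLocFreeOfRank (n + 1) F := hFdef ▸ isFinLocFreeOfRank_twist k hE (-d₀)
      haveI : Nontrivial (Coh.HH (CohB1.ProjSpace 1 k) F 0) := hFdef ▸ hnt
      obtain ⟨v, hv⟩ := exists_ne (0 : Coh.HH (CohB1.ProjSpace 1 k) F 0)
      have hσ : HH0.equiv (CohB1.ProjSpace 1 k) F v ≠ 0 := fun h =>
        hv ((HH0.equiv _ _).injective (h.trans (map_zero _).symm))
      have hs : TwistAmple.homOfSec F (HH0.equiv (CohB1.ProjSpace 1 k) F v) ≠ 0 := by
        intro h
        apply hσ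
        have h2 := PFrame.homOfSec_app_one F (HH0.equiv (CohB1.ProjSpace 1 k) F v)
        rw [h] at h2
        exact h2.symm
      obtain ⟨s, hsdef⟩ : ∃ s : Coh.structureModule (CohB1.ProjSpace 1 k) ⟶ F,
        s = TwistAmple.homOfSec F (HH0.equiv (CohB1.ProjSpace 1 k) F v) := ⟨_, rfl⟩
      rw [← hsdef] at hs
      have htw : ∀ m : ℕ, 0 < m → Subsingleton (Coh.HH (CohB1.ProjSpace 1 k)
          (CohB1.tensorMod F (Twist.twistProjSpace 1 k (-(m : ℤ)))) 0) := by
        intro m hm
        obtain ⟨e⟩ := nonempty_twist_twist k E (-d₀) (-(m : ℤ)) (-(d₀ + m)) (by ring)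
        rw [hFdef]
        exact subsingleton_of_iso k (X := CohB1.ProjSpace 1 k) e.symm 0
          (hmax (d₀ + m) (by omega))
      have hext := VBQ.extends_of_subsingleton (CohB1.ProjSpace 1 k) k (dim_P1 k) F n hF s hs
        (fun x hx => subsingleton_ptIdeal_tensor k F htw x hx)
      have hQ := VBQ.isFinLocFreeOfRank_cokernel s n hext
      haveI := VBQ.mono_of_extends s n hext
      obtain ⟨e, he, ⟨eQ⟩⟩ := exists_splitting n (cokernel s) hQ
      obtain ⟨S, hSdef⟩ : ∃ S : ShortComplex (CohB1.ProjSpace 1 k).Modules,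
        S = ShortComplex.mk s (cokernel.π s) (cokernel.condition s) := ⟨_, rfl⟩
      have hS : S.ShortExact := by
        rw [hSdef]
        exact ShortComplex.ShortExact.mk' (ShortComplex.exact_cokernel s) inferInstance
          inferInstance
      have h1tw : Subsingleton (Coh.HH (CohB1.ProjSpace 1 k)
          (CohB1.tensorMod S.X₂ (Twist.twistProjSpace 1 k (-1))) 0) := by
        have := htw 1 one_pos
        rw [Nat.cast_one] at this
        rw [hSdef]
        exact this
      have eQ' : S.X₃ ≅ ∐ fun j : Fin n => Twist.twistProjSpace 1 k (e j) := by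
        rw [hSdef]
        exact eQ
      have ea : S.X₁ ≅ Coh.structureModule (CohB1.ProjSpace 1 k) := by
        rw [hSdef]
      have hle := le_zero_of_subsingleton k e S hS ea eQ' h1tw
      obtain ⟨e0⟩ := TwistTens.nonempty_twist_zero_iso (CohB1.polyGrading 1 k)
      have e0' : Twist.twistProjSpace 1 k 0 ≅ Coh.structureModule (CohB1.ProjSpace 1 k) := e0
      obtain ⟨sp⟩ := nonempty_splitting k 0 e (fun j => by have := hle j; omega) S hS
        (ea ≪≫ e0'.symm) eQ'
      have hc := antitone_cons_zero e he hle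
      have i1 : S.X₂ ≅ S.X₁ ⊞ S.X₃ := sp.isoBinaryBiproduct
      have i2 : S.X₁ ⊞ S.X₃ ≅ Twist.twistProjSpace 1 k ((Fin.cons 0 e : Fin (n + 1) → ℤ) 0) ⊞
          ∐ fun i : Fin n => Twist.twistProjSpace 1 k ((Fin.cons 0 e : Fin (n + 1) → ℤ) i.succ) :=
        biprod.mapIso (ea ≪≫ e0'.symm) eQ'
      obtain ⟨i3⟩ := nonempty_biprod_sigma_iso
        (fun i => Twist.twistProjSpace 1 k ((Fin.cons 0 e : Fin (n + 1) → ℤ) i))
      have hX2 : S.X₂ = F := by rw [hSdef]
      obtain ⟨u1⟩ := nonempty_untwist k E (-d₀) d₀ (by ring)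
      have u2 : CohB1.tensorMod F (Twist.twistProjSpace 1 k d₀) ≅
          CohB1.tensorMod (∐ fun i => Twist.twistProjSpace 1 k ((Fin.cons 0 e : Fin (n + 1) → ℤ) i))
            (Twist.twistProjSpace 1 k d₀) :=
        TwistTens.tensorModCongrLeft (eqToIso hX2.symm ≪≫ i1 ≪≫ i2 ≪≫ i3) _
      obtain ⟨u3⟩ := nonempty_twist_sigma k (Fin.cons 0 e : Fin (n + 1) → ℤ) d₀
      refine ⟨fun i => (Fin.cons 0 e : Fin (n + 1) → ℤ) i + d₀, ?_, ?_⟩
      · intro i j hij
        have := hc hij
        simp only [add_le_add_iff_right]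
        exact this
      · rw [hFdef] at u2
        exact ⟨u1.symm ≪≫ u2 ≪≫ u3⟩

end Groth.Agent.Helper1.VBP
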