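import Mathlib
import Groth.Agent.Lib.Helper1.VBP5

/-!
# Vector bundles on the projective line: uniqueness of the splitting type (helper1)
-/

set_option backward.isDefEq.respectTransparency.types false
set_option synthInstance.maxHeartbeats 400000
set_option autoImplicit false
universe u
open CategoryTheory CategoryTheory.Limits AlgebraicGeometry TopologicalSpace Opposite

namespace Groth.Agent.Helper1.VBP

open Groth.Agent.Helper1
open Groth.Agent.Lib.Helper4.SerreVan
open Groth.Agent.Lib.Helper4

section Comb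

theorem mem_iff_lt_card_of_lower {n : ℕ} (S : Finset (Fin n))
    (hS : ∀ i j : Fin n, i ≤ j → j ∈ S → i ∈ S) (i : Fin n) : i ∈ S ↔ (i : ℕ) < S.card := by
  constructor
  · intro hi
    have hsub : Finset.Iic i ⊆ S := fun j hj => hS j i (Finset.mem_Iic.1 hj) hi
    have := Finset.card_le_card hsub
    rw [Fin.card_Iic] at this
    omega
  · intro hlt
    by_contra hi
    have hsub : S ⊆ Finset.Iio i := by
      intro j hj
      rw [Finset.mem_Iio]
      by_contra hji
      exact hi (hS i j (not_lt.1 hji) hj)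
    have := Finset.card_le_card hsub
    rw [Fin.card_Iio] at this
    omega

theorem antitone_eq_of_card_eq {n : ℕ} (d d' : Fin n → ℤ) (hd : Antitone d) (hd' : Antitone d')
    (h : ∀ m : ℤ, (Finset.univ.filter fun i => m ≤ d i).card =
      (Finset.univ.filter fun i => m ≤ d' i).card) : d = d' := by
  have key : ∀ (m : ℤ) (i : Fin n), m ≤ d i ↔ m ≤ d' i := by
    intro m i
    have h1 := mem_iff_lt_card_of_lower (Finset.univ.filter fun i => m ≤ d i)
      (fun a b hab hb => by
        rw [Finset.mem_filter] at hb ⊢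
        exact ⟨Finset.mem_univ _, hb.2.trans (hd hab)⟩) i
    have h2 := mem_iff_lt_card_of_lower (Finset.univ.filter fun i => m ≤ d' i)
      (fun a b hab hb => by
        rw [Finset.mem_filter] at hb ⊢
        exact ⟨Finset.mem_univ _, hb.2.trans (hd' hab)⟩) i
    rw [Finset.mem_filter] at h1 h2
    simp only [Finset.mem_univ, true_and] at h1 h2
    rw [h1, h2, h m]
  funext i
  exact le_antisymm ((key (d i) i).1 le_rfl) ((key (d' i) i).2 le_rfl)

end Comb

variable (k : Type u) [Field k]

/-- sections of the twists of a sum of line bundles -/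
theorem finrank_H0_twist_of_iso {n : ℕ} (d : Fin n → ℤ) (E : (CohB1.ProjSpace 1 k).Modules)
    (e : E ≅ ∐ fun i : Fin n => Twist.twistProjSpace 1 k (d i)) (z : ℤ) :
    Module.finrank k (Coh.HH (CohB1.ProjSpace 1 k)
      (CohB1.tensorMod E (Twist.twistProjSpace 1 k z)) 0) = ∑ i, (d i + z + 1).toNat := by
  have e1 := TwistTens.tensorModCongrLeft e (Twist.twistProjSpace 1 k z)
  obtain ⟨e2⟩ := nonempty_twist_sigma k d z
  rw [(HHFin1.HHequiv k (e1 ≪≫ e2) 0).finrank_eq, finrank_H0_sigma]

/-- the number of summands of degree at least `m` is determined by the module -/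
theorem card_ge_eq {n : ℕ} (d : Fin n → ℤ) (E : (CohB1.ProjSpace 1 k).Modules)
    (e : E ≅ ∐ fun i : Fin n => Twist.twistProjSpace 1 k (d i)) (m : ℤ) :
    ((Finset.univ.filter fun i => m ≤ d i).card : ℤ) =
      (Module.finrank k (Coh.HH (CohB1.ProjSpace 1 k)
        (CohB1.tensorMod E (Twist.twistProjSpace 1 k (-m))) 0) : ℤ) -
      (Module.finrank k (Coh.HH (CohB1.ProjSpace 1 k)
        (CohB1.tensorMod E (Twist.twistProjSpace 1 k (-m - 1))) 0) : ℤ) := by
  rw [finrank_H0_twist_of_iso k d E e (-m), finrank_H0_twist_of_iso k d E e (-m - 1)]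
  push_cast
  rw [← Finset.sum_sub_distrib, Finset.card_filter]
  push_cast
  refine Finset.sum_congr rfl fun i _ => ?_
  split_ifs with h <;> omega

/-- **uniqueness of the splitting type** -/
theorem splitting_unique {n : ℕ} (d d' : Fin n → ℤ) (hd : Antitone d) (hd' : Antitone d')
    (E : (CohB1.ProjSpace 1 k).Modules)
    (e : E ≅ ∐ fun i : Fin n => Twist.twistProjSpace 1 k (d i))
    (e' : E ≅ ∐ fun i : Fin n => Twist.twistProjSpace 1 k (d' i)) : d = d' := by
  apply antitone_eq_of_card_eq d d' hd hd'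
  intro m
  have h1 := card_ge_eq k d E e m
  have h2 := card_ge_eq k d' E e' m
  rw [← h2] at h1
  exact_mod_cast h1

/-- **Grothendieck's splitting theorem on the projective line** -/
theorem main (r : ℕ) (E : (CohB1.ProjSpace 1 k).Modules)
    (hE : FlatMod.IsFinLocFreeOfRank r E) :
    ∃! d : Fin r → ℤ, Antitone d ∧
      Nonempty (E ≅ ∐ fun i : Fin r => Twist.twistProjSpace 1 k (d i)) := by
  obtain ⟨d, hd, ⟨e⟩⟩ := exists_splitting k r E hE
  refine ⟨d, ⟨hd, ⟨e⟩⟩, ?_⟩
  rintro d' ⟨hd', ⟨e'⟩⟩
  exact splitting_unique k d' d hd' hd E e' e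

end Groth.Agent.Helper1.VBP
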