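import Mathlib
import Groth.Agent.Lib.Helper1.VBP6
import Groth.Agent.Lib.Helper1.Curve5
import Groth.Agent.Lib.Helper1.PFrame4
import Groth.Agent.Lib.Helper1.CurveDual1

/-!
# Cohomology of pullbacks along affine morphisms; invertible modules on genus one curves (helper1)
-/

set_option backward.isDefEq.respectTransparency.types false
set_option synthInstance.maxHeartbeats 400000
set_option autoImplicit false
universe u
open CategoryTheory CategoryTheory.Limits AlgebraicGeometry TopologicalSpace Opposite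

namespace Groth.Agent.Helper1.VBP

open Groth.Agent.Helper1
open Groth.Agent.Lib.Helper4.SerreVan
open Groth.Agent.Lib.Helper4
open Groth.Agent.Helper1.P1Iso Groth.Agent.Helper1.Euler Groth.Agent.Helper1.Curve
open Groth.Agent.Helper1.CurveDual Groth.Agent.Helper1.TwForm Groth.Agent.Helper1.QcCech

variable (k : Type u) [Field k]

section Push

variable {X Y : Scheme.{u}} [X.Over (Spec (CommRingCat.of k))] [Y.Over (Spec (CommRingCat.of k))]

/-- `H^i(X, M ⊗ q^* N) ≃ H^i(Y, q_* M ⊗ N)` for an affine morphism `q` and invertible `M`, `N` -/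
theorem nonempty_HH_equiv_push (q : X ⟶ Y) [IsAffineHom q]
    (hq : q ≫ (Y ↘ Spec (CommRingCat.of k)) = X ↘ Spec (CommRingCat.of k))
    {M : X.Modules} (hM : PicF.IsInvertible M) {N : Y.Modules} (hN : PicF.IsInvertible N)
    (i : ℕ) :
    Nonempty (Coh.HH X (CohB1.tensorMod M ((Scheme.Modules.pullback q).obj N)) i ≃ₗ[k]
      Coh.HH Y (CohB1.tensorMod ((Scheme.Modules.pushforward q).obj M) N) i) := by
  have hNf := FinLen.isFinLocFree_of_rank (isFinLocFreeOfRank_one hN)
  obtain ⟨pf⟩ := PFrame.nonempty_projFormula_locFree q M N hNf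
  have cm := TildeTens.tensorModComm ((Scheme.Modules.pushforward q).obj M) N
  haveI : (CohB1.tensorMod M ((Scheme.Modules.pullback q).obj N)).IsQuasicoherent :=
    InvQc.isQuasicoherent_of_isInvertible _
      (isInvertible_tensorMod hM (PullGen.isInvertible_pullback q hN))
  have l := LinBridge1.lerayEquiv q (CohB1.tensorMod M ((Scheme.Modules.pullback q).obj N)) k hq i
  exact ⟨l.symm.trans (HHFin1.HHequiv k (cm ≪≫ pf) i).symm⟩

theorem euler_push_tensor (q : X ⟶ Y) [IsAffineHom q]
    (hq : q ≫ (Y ↘ Spec (CommRingCat.of k)) = X ↘ Spec (CommRingCat.of k))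
    {M : X.Modules} (hM : PicF.IsInvertible M) {N : Y.Modules} (hN : PicF.IsInvertible N) :
    Curv2.euler k X (CohB1.tensorMod M ((Scheme.Modules.pullback q).obj N)) =
      Curv2.euler k Y (CohB1.tensorMod ((Scheme.Modules.pushforward q).obj M) N) := by
  unfold Curv2.euler
  refine finsum_congr fun i => ?_
  rw [(nonempty_HH_equiv_push k q hq hM hN i).some.finrank_eq]

end Push

section GenusOne

variable (X : Scheme.{u}) [X.Over (Spec (CommRingCat.of k))]
  [IsIntegral X] [IsProper (X ↘ (Spec (CommRingCat.of k)))]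

/-- sections of invertible modules on a curve of genus one with `h⁰(O) = 1` -/
theorem h0_genus_one (hdim : topologicalKrullDim X = 1) (hg : Curv2.genus k X = 1)
    (h0 : Module.finrank k (Coh.HH X (Coh.structureModule X) 0) = 1)
    (M : X.Modules) (hM : PicF.IsInvertible M) :
    (0 < Curv2.deg k X M 1 → (Module.finrank k (Coh.HH X M 0) : ℤ) = Curv2.deg k X M 1) ∧
    (Curv2.deg k X M 1 < 0 → Module.finrank k (Coh.HH X M 0) = 0) ∧
    (Curv2.deg k X M 1 = 0 → Nonempty (M ≅ Coh.structureModule X) →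
      Module.finrank k (Coh.HH X M 0) = 1) ∧
    (Curv2.deg k X M 1 = 0 → IsEmpty (M ≅ Coh.structureModule X) →
      Module.finrank k (Coh.HH X M 0) = 0) := by
  haveI := isNoetherian_of_proper k X
  have hMc : Coh.IsCoh M := InvQc.isCoh_of_isInvertible _ hM
  haveI : Module.Finite k (Coh.HH X M 0) := T2Main1.t2 k X _ hMc 0
  have eO := GenusOne.euler_O_eq_zero k X hdim hg h0
  have eM := euler_eq_h0_sub_h1 k X hdim.le _ hMc.1
  -- a nonzero section
  have hsec : 0 < Module.finrank k (Coh.HH X M 0) →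
      ∃ s : Coh.structureModule X ⟶ M, s ≠ 0 := by
    intro hpos
    obtain ⟨v, hv⟩ := (Module.finrank_pos_iff_exists_ne_zero (R := k)).1 hpos
    have hσ : HH0.equiv X M v ≠ 0 := fun h =>
      hv ((HH0.equiv _ _).injective (h.trans (map_zero _).symm))
    refine ⟨TwistAmple.homOfSec M (HH0.equiv X M v), fun h => hσ ?_⟩
    have h2 := PFrame.homOfSec_app_one M (HH0.equiv X M v)
    rw [h] at h2
    exact h2.symm
  refine ⟨fun hpos => ?_, fun hneg => ?_, fun _ hiso => ?_, fun hz hniso => ?_⟩
  · haveI := subsingleton_H1_of_deg_ge k X hdim M hM (by rw [hg]; omega)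
    rw [Module.finrank_zero_of_subsingleton (M := Coh.HH X M 1)] at eM
    unfold Curv2.deg
    rw [eO, eM]
    simp
  · by_contra hne
    obtain ⟨s, hs⟩ := hsec (Nat.pos_of_ne_zero hne)
    have := deg_nonneg_of_section k X hdim hM s hs
    omega
  · obtain ⟨e⟩ := hiso
    rw [(HHFin1.HHequiv k e 0).finrank_eq, h0]
  · by_contra hne
    obtain ⟨s, hs⟩ := hsec (Nat.pos_of_ne_zero hne)
    obtain ⟨e⟩ := iso_of_deg_nonpos_of_section k X hdim hM s hs hz.le
    exact hniso.false e

end GenusOne

end Groth.Agent.Helper1.VBP
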