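import Mathlib
import Groth.Agent.Lib.Helper1.SnapK2
import Groth.Agent.Lib.Helper1.VBP11
import Groth.Agent.Lib.Helper1.P1Iso2

/-!
# Iterated twists and closed subschemes (helper1)
-/

set_option autoImplicit false
universe u
open CategoryTheory CategoryTheory.Limits AlgebraicGeometry TopologicalSpace Opposite

namespace Groth.Agent.Helper1.Snap

open Groth.Agent.Helper1 Groth.Agent.Helper1.Euler Groth.Agent.Helper1.Dv
open Groth.Agent.Helper1.FinLen Groth.Agent.Helper1.TwForm Groth.Agent.Helper1.Curve

section Iso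
variable {X : Scheme.{u}}

theorem isInvertible_tensorPows :
    ∀ (r : ℕ) (L : Fin r → X.Modules) (_ : ∀ i, PicF.IsInvertible (L i)) (n : Fin r → ℕ),
      PicF.IsInvertible (Curv2.tensorPows (Coh.structureModule X) r L n)
  | 0, _, _, _ => GenLoc.isInvertible_O
  | r + 1, L, hL, n =>
    isInvertible_tensorMod (isInvertible_tensorPows r _ (fun i => hL i.castSucc) _)
      (isInvertible_tensorPow (hL (Fin.last r)) _)

/-- `M ⊗ L^n ≅ M ⊗ (O ⊗ L^n)` -/
theorem nonempty_tensorPows_iso (M : X.Modules) :
    ∀ (r : ℕ) (L : Fin r → X.Modules) (_ : ∀ i, PicF.IsInvertible (L i)) (n : Fin r → ℕ),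
      Nonempty (Curv2.tensorPows M r L n ≅
        CohB1.tensorMod M (Curv2.tensorPows (Coh.structureModule X) r L n))
  | 0, _, _, _ => ⟨(Groth.Agent.Lib.Helper5.LTenFlf.tensorUnitIso M).symm⟩
  | r + 1, L, hL, n => by
    obtain ⟨e⟩ := nonempty_tensorPows_iso M r (fun i => L i.castSucc) (fun i => hL i.castSucc)
      (fun i => n i.castSucc)
    exact ⟨Groth.Agent.Lead.TilT.tensorModCongr e (Iso.refl _) ≪≫
      GenusOne.assocIso M (isInvertible_tensorPows r _ (fun i => hL i.castSucc) _)
        (isInvertible_tensorPow (hL (Fin.last r)) _)⟩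

/-- pullback commutes with iterated twists of the structure sheaf -/
theorem nonempty_pullback_tensorPows_iso {Z : Scheme.{u}} (u : Z ⟶ X) :
    ∀ (r : ℕ) (L : Fin r → X.Modules) (_ : ∀ i, PicF.IsInvertible (L i)) (n : Fin r → ℕ),
      Nonempty ((Scheme.Modules.pullback u).obj (Curv2.tensorPows (Coh.structureModule X) r L n) ≅
        Curv2.tensorPows (Coh.structureModule Z) r (fun i => (Scheme.Modules.pullback u).obj (L i)) n)
  | 0, _, _, _ => ⟨PullSec.unitIso u⟩
  | r + 1, L, hL, n => by
    obtain ⟨e⟩ := nonempty_pullback_tensorPows_iso u r (fun i => L i.castSucc)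
      (fun i => hL i.castSucc) (fun i => n i.castSucc)
    obtain ⟨e'⟩ := P1Iso.nonempty_pullback_tensorPow_iso u (hL (Fin.last r)) (n (Fin.last r))
    exact ⟨Groth.Agent.Lib.Helper4.PullTens1.pullTensIso u
      (isInvertible_tensorPows r _ (fun i => hL i.castSucc) _)
      (isInvertible_tensorPow (hL (Fin.last r)) _) ≪≫
      Groth.Agent.Lead.TilT.tensorModCongr e e'⟩

end Iso

section Euler

variable (k : Type u) [Field k] (X : Scheme.{u}) [X.Over (Spec (CommRingCat.of k))]
  [IsProper (X ↘ (Spec (CommRingCat.of k)))]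

/-- Euler characteristics of iterated twists on a closed subscheme, computed on the ambient
scheme -/
theorem euler_tensorPows_subscheme (I : X.IdealSheafData) (r : ℕ) (L : Fin r → X.Modules)
    (hL : ∀ i, PicF.IsInvertible (L i)) (n : Fin r → ℕ) :
    @Curv2.euler k _ I.subscheme ⟨I.subschemeι ≫ (X ↘ (Spec (CommRingCat.of k)))⟩
      (Curv2.tensorPows (Coh.structureModule I.subscheme) r
        (fun i => (Scheme.Modules.pullback I.subschemeι).obj (L i)) n) =
      Curv2.euler k X (Curv2.tensorPows (ClSub.quotMod I) r L n) := by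
  let ι := I.subschemeι
  letI : I.subscheme.Over (Spec (CommRingCat.of k)) := ⟨ι ≫ (X ↘ Spec (CommRingCat.of k))⟩
  haveI : IsProper (I.subscheme ↘ Spec (CommRingCat.of k)) := by
    change IsProper (ι ≫ (X ↘ Spec (CommRingCat.of k))); infer_instance
  set N := Curv2.tensorPows (Coh.structureModule X) r L n with hN
  have hNinv : PicF.IsInvertible N := isInvertible_tensorPows r L hL n
  obtain ⟨e1⟩ := nonempty_tensorPows_iso (ClSub.quotMod I) r L hL n
  obtain ⟨e2⟩ := nonempty_pullback_tensorPows_iso ι r L hL n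
  have h1 := VBP.euler_push_tensor k ι rfl (M := Coh.structureModule I.subscheme)
    GenLoc.isInvertible_O (N := N) hNinv
  have e3 : CohB1.tensorMod (Coh.structureModule I.subscheme)
      ((Scheme.Modules.pullback ι).obj N) ≅
      Curv2.tensorPows (Coh.structureModule I.subscheme) r
        (fun i => (Scheme.Modules.pullback ι).obj (L i)) n :=
    TildeTens.tensorModComm _ _ ≪≫ Groth.Agent.Lib.Helper5.LTenFlf.tensorUnitIso _ ≪≫ e2
  rw [← Euler.euler_iso k I.subscheme e3, h1, Euler.euler_iso k X e1]

end Euler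

end Groth.Agent.Helper1.Snap
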