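import Mathlib
import Groth.Agent.Lib.Helper1.SnapPush1

/-!
# Euler characteristics of twists modulo lower dimensional terms (helper1)
-/

set_option autoImplicit false
universe u
open CategoryTheory CategoryTheory.Limits AlgebraicGeometry TopologicalSpace Opposite

namespace Groth.Agent.Helper1.Snap

open Groth.Agent.Helper1 Groth.Agent.Helper1.Euler Groth.Agent.Helper1.Dv
open Groth.Agent.Helper1.FinLen Groth.Agent.Helper1.TwForm Groth.Agent.Helper1.Curve

variable (k : Type u) [Field k] (X : Scheme.{u}) [X.Over (Spec (CommRingCat.of k))]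
  [IsProper (X ↘ (Spec (CommRingCat.of k)))] [IsNoetherian X]

/-- elements of the `d`-th step of the filtration have Snapper polynomials of degree `< d` -/
theorem poly_of_mem_FilLT (r : ℕ) (L : Fin r → X.Modules) (hL : ∀ i, PicF.IsInvertible (L i))
    (d : ℕ) (y : KZero.K0sub (PC X)) (hy : y ∈ FilLT X d) :
    ∃ R : MvPolynomial (Fin r) ℚ, (∀ m ∈ R.support, (m.sum fun _ e => e) < d) ∧
      ∀ n : Fin r → ℕ, ((eulerHom k X (Tn r L hL n y) : ℤ) : ℚ) =
        MvPolynomial.eval (fun i => (n i : ℚ)) R := by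
  rcases Nat.eq_zero_or_pos d with h0 | hpos
  · subst h0
    rw [FilLT_zero, AddSubgroup.mem_bot] at hy
    refine ⟨0, by simp, fun n => ?_⟩
    rw [hy, map_zero, map_zero, Int.cast_zero, map_zero]
  · obtain ⟨d', rfl⟩ : ∃ d', d = d' + 1 := ⟨d - 1, by omega⟩
    obtain ⟨R, hR, h⟩ := snapper_k0 k X r L hL d' y hy
    refine ⟨R, fun m hm => ?_, h⟩
    exact Nat.lt_succ_of_le ((MvPolynomial.le_totalDegree hm).trans hR)

/-- **Euler characteristics of twists are determined, up to lower order terms, by the cycle** -/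
theorem cycle_poly (F : X.Modules) (hF : Coh.IsCoh F) (d : ℕ)
    (hd : topologicalKrullDim ↥(CohB1.support F) ≤ d)
    (r : ℕ) (L : Fin r → X.Modules) (hL : ∀ i, PicF.IsInvertible (L i)) :
    ∃ R : MvPolynomial (Fin r) ℚ, (∀ m ∈ R.support, (m.sum fun _ e => e) < d) ∧
      ∀ n : Fin r → ℕ,
        (Curv2.euler k X (Curv2.tensorPows F r L n) : ℚ) -
          ∑ᶠ ξ : X, (if topologicalKrullDim (closure ({ξ} : Set X)) = (d : WithBot ℕ∞) then
            ((Module.length (X.presheaf.stalk ξ) (F.presheaf.stalk ξ)).toNat : ℚ) *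
              (Curv2.euler k X (Curv2.tensorPows (Cyc.closureStructureSheaf ξ) r L n) : ℚ)
            else 0) = MvPolynomial.eval (fun i => (n i : ℚ)) R := by
  have hy : KZero.clSub (PC X) F - cyc d F ∈ FilLT X d := k0_cycle_congr d F hF hd
  obtain ⟨R, hR, h⟩ := poly_of_mem_FilLT k X r L hL d _ hy
  refine ⟨R, hR, fun n => ?_⟩
  rw [← h n]
  let φ : KZero.K0sub (PC X) →+ ℚ :=
    (Int.castAddHom ℚ).comp ((eulerHom k X).comp (Tn r L hL n : KZero.K0sub (PC X) →+ _))
  change _ = φ (KZero.clSub (PC X) F - cyc d F)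
  rw [map_sub]
  have h1 : φ (KZero.clSub (PC X) F) = (Curv2.euler k X (Curv2.tensorPows F r L n) : ℚ) := by
    change ((eulerHom k X (Tn r L hL n (KZero.clSub (PC X) F)) : ℤ) : ℚ) = _
    rw [← clSub_tensorPows F hF r L hL n, eulerHom_clSub k X _ (isCoh_tensorPows F hF r L hL n)]
  have hfin := cyc_support_finite (CohB1.support F) (FtGen.isClosed_support F hF.2) d hd F
    subset_rfl
  have h2 : φ (cyc d F) = ∑ᶠ ξ : X, (if topologicalKrullDim (closure ({ξ} : Set X)) =
      (d : WithBot ℕ∞) then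
        ((Module.length (X.presheaf.stalk ξ) (F.presheaf.stalk ξ)).toNat : ℚ) *
          (Curv2.euler k X (Curv2.tensorPows (Cyc.closureStructureSheaf ξ) r L n) : ℚ)
        else 0) := by
    unfold cyc
    rw [AddMonoidHom.map_finsum φ hfin]
    refine finsum_congr fun ξ => ?_
    by_cases hξ : topologicalKrullDim (closure ({ξ} : Set X)) = (d : WithBot ℕ∞)
    · rw [if_pos hξ, if_pos hξ, map_nsmul, nsmul_eq_mul]
      congr 1
      change ((eulerHom k X (Tn r L hL n (KZero.clSub (PC X) (Cyc.closureStructureSheaf ξ))) : ℤ) : ℚ) = _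
      rw [← clSub_tensorPows _ (isCoh_closureStructureSheaf ξ) r L hL n,
        eulerHom_clSub k X _ (isCoh_tensorPows _ (isCoh_closureStructureSheaf ξ) r L hL n)]
    · rw [if_neg hξ, if_neg hξ, map_zero]
  rw [h1, h2]

end Groth.Agent.Helper1.Snap
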