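import Mathlib
import Groth.Agent.Lib.Helper1.SnapCyc1
import Groth.Agent.Lib.Helper1.SnapAlg2

/-!
# Intersection numbers and multiplicities of components (helper1)
-/

set_option autoImplicit false
universe u
open CategoryTheory CategoryTheory.Limits AlgebraicGeometry TopologicalSpace Opposite

namespace Groth.Agent.Helper1.Snap

open Groth.Agent.Helper1 Groth.Agent.Helper1.Euler Groth.Agent.Helper1.Dv
open Groth.Agent.Helper1.FinLen Groth.Agent.Helper1.TwForm Groth.Agent.Helper1.Curve
open Groth.Agent.Helper1.SnapAlg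

variable (k : Type u) [Field k] (X : Scheme.{u}) [X.Over (Spec (CommRingCat.of k))]
  [IsProper (X ↘ (Spec (CommRingCat.of k)))] [IsNoetherian X]

theorem coeff_eq_finsum (F : X.Modules) (hF : Coh.IsCoh F) (d : ℕ)
    (hd : topologicalKrullDim ↥(CohB1.support F) ≤ d)
    (L : Fin d → X.Modules) (hL : ∀ i, PicF.IsInvertible (L i)) (P : MvPolynomial (Fin d) ℚ)
    (hP : ∀ n : Fin d → ℕ, (Curv2.euler k X (Curv2.tensorPows F d L n) : ℚ) =
      MvPolynomial.eval (fun i => (n i : ℚ)) P)
    (Q : X → MvPolynomial (Fin d) ℚ)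
    (hQ : ∀ ξ : X, topologicalKrullDim (closure ({ξ} : Set X)) = (d : WithBot ℕ∞) →
      ∀ n : Fin d → ℕ, (Curv2.euler k X (Curv2.tensorPows (Cyc.closureStructureSheaf ξ) d L n) : ℚ) =
        MvPolynomial.eval (fun i => (n i : ℚ)) (Q ξ)) :
    MvPolynomial.coeff (ones d) P =
      ∑ᶠ ξ : X, (if topologicalKrullDim (closure ({ξ} : Set X)) = (d : WithBot ℕ∞) then
        ((Module.length (X.presheaf.stalk ξ) (F.presheaf.stalk ξ)).toNat : ℚ) *
          MvPolynomial.coeff (ones d) (Q ξ) else 0) := by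
  classical
  obtain ⟨R, hR, h⟩ := cycle_poly k X F hF d hd d L hL
  have hfin := finite_dim_eq (CohB1.support F) (FtGen.isClosed_support F hF.2) d hd
  set S : Finset X := hfin.toFinset with hS
  set c : X → ℚ := fun ξ => ((Module.length (X.presheaf.stalk ξ) (F.presheaf.stalk ξ)).toNat : ℚ)
    with hc
  have hcond : ∀ ξ ∈ S, topologicalKrullDim (closure ({ξ} : Set X)) = (d : WithBot ℕ∞) := by
    intro ξ hξ
    exact ((Set.Finite.mem_toFinset hfin).1 hξ).2
  -- reduction of finite sums over all points to sums over `S`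
  have hsum : ∀ g : X → ℚ, (∑ᶠ ξ : X, (if topologicalKrullDim (closure ({ξ} : Set X)) =
      (d : WithBot ℕ∞) then c ξ * g ξ else 0)) = ∑ ξ ∈ S, c ξ * g ξ := by
    intro g
    rw [finsum_eq_sum_of_support_subset]
    · refine Finset.sum_congr rfl fun ξ hξ => ?_
      rw [if_pos (hcond ξ hξ)]
    · intro ξ hξ
      rw [Function.mem_support] at hξ
      by_cases hξd : topologicalKrullDim (closure ({ξ} : Set X)) = (d : WithBot ℕ∞)
      · rw [if_pos hξd] at hξ
        have hcne : c ξ ≠ 0 := left_ne_zero_of_mul hξ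
        have hmem : ξ ∈ CohB1.support F := by
          by_contra hns
          apply hcne
          change ((Module.length (X.presheaf.stalk ξ) (F.presheaf.stalk ξ)).toNat : ℚ) = 0
          rw [length_stalk_eq_zero hns]
          simp
        exact Finset.mem_coe.2 ((Set.Finite.mem_toFinset hfin).2 ⟨hmem, hξd⟩)
      · rw [if_neg hξd] at hξ
        exact absurd rfl hξ
  -- the polynomial identity
  have hpoly : P - ∑ ξ ∈ S, MvPolynomial.C (c ξ) * Q ξ = R := by
    apply eq_of_eval_nat_eq
    intro n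
    rw [← h n, map_sub, map_sum, ← hP n]
    congr 1
    rw [hsum (fun ξ => (Curv2.euler k X (Curv2.tensorPows (Cyc.closureStructureSheaf ξ) d L n) : ℚ))]
    refine Finset.sum_congr rfl fun ξ hξ => ?_
    rw [map_mul, MvPolynomial.eval_C, hQ ξ (hcond ξ hξ) n]
  have hRc : MvPolynomial.coeff (ones d) R = 0 := by
    rw [← MvPolynomial.notMem_support_iff]
    intro hmem
    have := hR _ hmem
    have h2 : ((ones d).sum fun _ e => e) = d := ones_degree d
    omega
  have hcoef := congrArg (MvPolynomial.coeff (ones d)) hpoly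
  rw [hRc, MvPolynomial.coeff_sub, MvPolynomial.coeff_sum, sub_eq_zero] at hcoef
  rw [hcoef, hsum (fun ξ => MvPolynomial.coeff (ones d) (Q ξ))]
  refine Finset.sum_congr rfl fun ξ _ => ?_
  rw [MvPolynomial.coeff_C_mul]

end Groth.Agent.Helper1.Snap
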