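import Mathlib
import Groth.Agent.Lib.Helper1.SnapCyc2

/-!
# Leading coefficients of Snapper polynomials on `K₀` (helper1)
-/

set_option autoImplicit false
universe u
open CategoryTheory CategoryTheory.Limits AlgebraicGeometry TopologicalSpace Opposite

namespace Groth.Agent.Helper1.SnapPos

open Groth.Agent.Helper1 Groth.Agent.Helper1.Euler Groth.Agent.Helper1.Dv
open Groth.Agent.Helper1.FinLen Groth.Agent.Helper1.Snap

section Alg

variable {X : Scheme.{u}} [IsNoetherian X]

/-- twisting fixes the classes with zero-dimensional support -/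
theorem T_fix (L : X.Modules) (hL : PicF.IsInvertible L) (y : KZero.K0sub (PC X))
    (hy : y ∈ FilLT X 1) : T L hL y = y := by
  have h := T_sub_mem L hL 0 y hy
  rw [FilLT_zero, AddSubgroup.mem_bot] at h
  exact sub_eq_zero.1 h

theorem T_pow_fix (L : X.Modules) (hL : PicF.IsInvertible L) (y : KZero.K0sub (PC X))
    (hy : y ∈ FilLT X 1) (j : ℕ) : ((T L hL) ^ j) y = y := by
  induction j with
  | zero => rfl
  | succ j ih =>
    rw [pow_succ]
    change ((T L hL) ^ j) (T L hL y) = y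
    rw [T_fix L hL y hy, ih]

theorem pow_sub_one_eq_zero (L : X.Modules) (hL : PicF.IsInvertible L) (d : ℕ)
    (x : KZero.K0sub (PC X)) (hx : x ∈ FilLT X d) : ((T L hL - 1) ^ d) x = 0 := by
  have h := pow_sub_one_mem L hL d x hx d
  rw [Nat.sub_self, FilLT_zero, AddSubgroup.mem_bot] at h
  exact h

/-- `(T - 1)^e (T^m - 1) x = m • (T - 1)^(e+1) x` for `x` of dimension at most `e + 1` -/
theorem pow_mul_geom (L : X.Modules) (hL : PicF.IsInvertible L) (e m : ℕ)
    (x : KZero.K0sub (PC X)) (hx : x ∈ FilLT X (e + 2)) :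
    ((T L hL - 1) ^ e) (((T L hL) ^ m - 1) x) = m • (((T L hL - 1) ^ (e + 1)) x) := by
  set T₀ := T L hL with hT₀
  set y := ((T₀ - 1) ^ (e + 1)) x with hy
  have hymem : y ∈ FilLT X 1 := by
    have := pow_sub_one_mem L hL (e + 2) x hx (e + 1)
    rwa [show e + 2 - (e + 1) = 1 by omega] at this
  have hgeom : (∑ i ∈ Finset.range m, T₀ ^ i) * (T₀ - 1) = T₀ ^ m - 1 := geom_sum_mul T₀ m
  have hc1 : Commute (T₀ - 1) T₀ := (Commute.refl T₀).sub_left (Commute.one_left T₀)
  have hc2 : Commute ((T₀ - 1) ^ e) (∑ i ∈ Finset.range m, T₀ ^ i) :=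
    Commute.sum_right _ _ _ (fun i _ => (hc1.pow_right i).pow_left e)
  have hring : (T₀ - 1) ^ e * (T₀ ^ m - 1) = (∑ i ∈ Finset.range m, T₀ ^ i) * (T₀ - 1) ^ (e + 1) := by
    rw [← hgeom, ← mul_assoc, hc2.eq, mul_assoc, ← pow_succ]
  have h1 : ((T₀ - 1) ^ e) ((T₀ ^ m - 1) x) = ((T₀ - 1) ^ e * (T₀ ^ m - 1)) x := rfl
  rw [h1, hring]
  change (∑ i ∈ Finset.range m, T₀ ^ i) y = m • y
  rw [end_sum_apply]
  rw [Finset.sum_congr rfl (fun i _ => T_pow_fix L hL y hymem i)]
  rw [Finset.sum_const, Finset.card_range]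

end Alg

section Lam

variable (k : Type u) [Field k] (X : Scheme.{u}) [X.Over (Spec (CommRingCat.of k))]
  [IsProper (X ↘ (Spec (CommRingCat.of k)))] [IsNoetherian X]

/-- the leading coefficient functional -/
noncomputable def lam (L : X.Modules) (hL : PicF.IsInvertible L) (d : ℕ) :
    KZero.K0sub (PC X) →+ ℤ :=
  (eulerHom k X).comp (((T L hL - 1) ^ d : AddMonoid.End (KZero.K0sub (PC X))) :
    KZero.K0sub (PC X) →+ KZero.K0sub (PC X))

omit [AlgebraicGeometry.IsNoetherian X] in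
theorem lam_apply (L : X.Modules) (hL : PicF.IsInvertible L) (d : ℕ) (x : KZero.K0sub (PC X)) :
    lam k X L hL d x = eulerHom k X (((T L hL - 1) ^ d) x) := rfl

theorem lam_eq_zero (L : X.Modules) (hL : PicF.IsInvertible L) (d : ℕ) (x : KZero.K0sub (PC X))
    (hx : x ∈ FilLT X d) : lam k X L hL d x = 0 := by
  rw [lam_apply, pow_sub_one_eq_zero L hL d x hx, map_zero]

theorem lam_geom (L : X.Modules) (hL : PicF.IsInvertible L) (e m : ℕ)
    (x : KZero.K0sub (PC X)) (hx : x ∈ FilLT X (e + 2)) :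
    lam k X L hL e (((T L hL) ^ m - 1) x) = m * lam k X L hL (e + 1) x := by
  rw [lam_apply, lam_apply, pow_mul_geom L hL e m x hx, map_nsmul, nsmul_eq_mul]

/-- the leading coefficient is computed by the cycle -/
theorem lam_cycle (L : X.Modules) (hL : PicF.IsInvertible L) (F : X.Modules) (hF : Coh.IsCoh F)
    (d : ℕ) (hd : topologicalKrullDim ↥(CohB1.support F) ≤ d) :
    lam k X L hL d (KZero.clSub (PC X) F) =
      ∑ᶠ ξ : X, (if topologicalKrullDim (closure ({ξ} : Set X)) = (d : WithBot ℕ∞) then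
        ((Module.length (X.presheaf.stalk ξ) (F.presheaf.stalk ξ)).toNat : ℤ) *
          lam k X L hL d (KZero.clSub (PC X) (Cyc.closureStructureSheaf ξ)) else 0) := by
  have hy : KZero.clSub (PC X) F - cyc d F ∈ FilLT X d := k0_cycle_congr d F hF hd
  have h0 := lam_eq_zero k X L hL d _ hy
  rw [map_sub, sub_eq_zero] at h0
  rw [h0]
  have hfin := cyc_support_finite (CohB1.support F) (FtGen.isClosed_support F hF.2) d hd F
    subset_rfl
  unfold cyc
  rw [AddMonoidHom.map_finsum (lam k X L hL d) hfin]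
  refine finsum_congr fun ξ => ?_
  by_cases hξ : topologicalKrullDim (closure ({ξ} : Set X)) = (d : WithBot ℕ∞)
  · rw [if_pos hξ, if_pos hξ, map_nsmul, nsmul_eq_mul]
  · rw [if_neg hξ, if_neg hξ, map_zero]

/-- positivity of the leading coefficient from positivity on the components -/
theorem lam_pos_of_cycle (L : X.Modules) (hL : PicF.IsInvertible L) (F : X.Modules)
    (hF : Coh.IsCoh F) (d : ℕ) (hd : topologicalKrullDim ↥(CohB1.support F) ≤ d)
    (hpos : ∀ ξ : X, topologicalKrullDim (closure ({ξ} : Set X)) = (d : WithBot ℕ∞) →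
      0 < lam k X L hL d (KZero.clSub (PC X) (Cyc.closureStructureSheaf ξ)))
    (ξ₀ : X) (hξ₀ : ξ₀ ∈ CohB1.support F)
    (hξ₀d : topologicalKrullDim (closure ({ξ₀} : Set X)) = (d : WithBot ℕ∞)) :
    0 < lam k X L hL d (KZero.clSub (PC X) F) := by
  classical
  rw [lam_cycle k X L hL F hF d hd]
  have hfin := finite_dim_eq (CohB1.support F) (FtGen.isClosed_support F hF.2) d hd
  set c : X → ℤ := fun ξ => ((Module.length (X.presheaf.stalk ξ) (F.presheaf.stalk ξ)).toNat : ℤ)
    with hc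
  set g : X → ℤ := fun ξ => lam k X L hL d (KZero.clSub (PC X) (Cyc.closureStructureSheaf ξ))
    with hg
  have hsupp : (Function.support fun ξ : X =>
      if topologicalKrullDim (closure ({ξ} : Set X)) = (d : WithBot ℕ∞) then c ξ * g ξ else 0) ⊆
      hfin.toFinset := by
    intro ξ hξ
    rw [Function.mem_support] at hξ
    rw [Finset.mem_coe, Set.Finite.mem_toFinset]
    by_cases h : topologicalKrullDim (closure ({ξ} : Set X)) = (d : WithBot ℕ∞)
    · refine ⟨?_, h⟩
      by_contra hns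
      apply hξ
      rw [if_pos h]
      change ((Module.length (X.presheaf.stalk ξ) (F.presheaf.stalk ξ)).toNat : ℤ) * g ξ = 0
      rw [length_stalk_eq_zero hns]
      simp
    · exact absurd (if_neg h) hξ
  rw [finsum_eq_sum_of_support_subset _ hsupp]
  have hnonneg : ∀ ξ ∈ hfin.toFinset, 0 ≤ (if topologicalKrullDim (closure ({ξ} : Set X)) =
      (d : WithBot ℕ∞) then c ξ * g ξ else 0) := by
    intro ξ _
    by_cases h : topologicalKrullDim (closure ({ξ} : Set X)) = (d : WithBot ℕ∞)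
    · rw [if_pos h]
      exact mul_nonneg (Int.natCast_nonneg _) (hpos ξ h).le
    · rw [if_neg h]
  have hmem : ξ₀ ∈ hfin.toFinset := (Set.Finite.mem_toFinset hfin).2 ⟨hξ₀, hξ₀d⟩
  refine lt_of_lt_of_le ?_ (Finset.single_le_sum hnonneg hmem)
  rw [if_pos hξ₀d]
  refine mul_pos ?_ (hpos ξ₀ hξ₀d)
  have hne : Module.length (X.presheaf.stalk ξ₀) (F.presheaf.stalk ξ₀) ≠ ⊤ :=
    length_stalk_ne_top (CohB1.support F) (FtGen.isClosed_support F hF.2) d hd F hF subset_rfl ξ₀
      hξ₀d
  have hne0 : Module.length (X.presheaf.stalk ξ₀) (F.presheaf.stalk ξ₀) ≠ 0 := by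
    intro h0
    rw [Module.length_eq_zero_iff] at h0
    exact hξ₀ h0
  have : 0 < (Module.length (X.presheaf.stalk ξ₀) (F.presheaf.stalk ξ₀)).toNat := by
    rw [Nat.pos_iff_ne_zero]
    intro h
    rcases (ENat.toNat_eq_zero.1 h) with h | h
    · exact hne0 h
    · exact hne h
  change (0 : ℤ) < ((Module.length (X.presheaf.stalk ξ₀) (F.presheaf.stalk ξ₀)).toNat : ℤ)
  exact_mod_cast this

end Lam

end Groth.Agent.Helper1.SnapPos
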