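import Mathlib
import Groth.Agent.Lib.Helper1.SnapK2
import Groth.Agent.Lib.Helper1.SnapPos1
import Groth.Agent.Lib.Helper1.FinLen7
import Groth.Agent.S0458

/-!
# `FGA.intNum` through twisting operators on `K₀` (helper1)
-/

set_option autoImplicit false
universe u
open CategoryTheory CategoryTheory.Limits AlgebraicGeometry TopologicalSpace Opposite

namespace Groth.Agent.Helper1.FGAInt

open Groth.Agent.Helper1 Groth.Agent.Helper1.Euler Groth.Agent.Helper1.Dv
open Groth.Agent.Helper1.FinLen Groth.Agent.Helper1.TwForm Groth.Agent.Helper1.Curve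
open Groth.Agent.Helper1.Snap

section Alg

/-- expansion of an ordered product `∏ (1 - f i)` in a (possibly noncommutative) ring -/
theorem sum_powerset_sort_prod {R ι : Type*} [Ring R] [LinearOrder ι] (f : ι → R)
    (s : Finset ι) :
    ∑ I ∈ s.powerset, (-1 : R) ^ I.card * ((I.sort (· ≤ ·)).map f).prod =
      ((s.sort (· ≤ ·)).map fun i => 1 - f i).prod := by
  induction s using Finset.induction_on_min with
  | empty => simp
  | insert a s ha ih =>
    have has : a ∉ s := fun h => lt_irrefl a (ha a h)
    rw [Finset.sum_powerset_insert has,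
      Finset.sort_insert (· ≤ ·) (fun b hb => (ha b hb).le) has, List.map_cons, List.prod_cons,
      ← ih, sub_mul, one_mul, Finset.mul_sum, sub_eq_add_neg, ← Finset.sum_neg_distrib]
    congr 1
    apply Finset.sum_congr rfl
    intro I hI
    have hIs : I ⊆ s := Finset.mem_powerset.1 hI
    have haI : a ∉ I := fun h => has (hIs h)
    rw [Finset.card_insert_of_notMem haI,
      Finset.sort_insert (· ≤ ·) (fun b hb => (ha b (hIs hb)).le) haI, List.map_cons,
      List.prod_cons, pow_succ]
    rcases neg_one_pow_eq_or R I.card with h | h <;> rw [h] <;> noncomm_ring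

theorem neg_one_pow_mul_apply {A : Type*} [AddCommGroup A] (n : ℕ) (P : AddMonoid.End A)
    (y : A) : ((-1 : AddMonoid.End A) ^ n * P) y = (-1 : ℤ) ^ n • P y := by
  rcases Nat.even_or_odd n with h | h
  · rw [h.neg_one_pow, h.neg_one_pow, one_mul, one_smul]
  · rw [h.neg_one_pow, h.neg_one_pow, neg_one_mul, neg_smul, one_smul]
    rfl

end Alg

section Bridge

variable (k : Type u) [Field k] (X : Scheme.{u}) [X.Over (Spec (CommRingCat.of k))]

/-- Grothendieck vanishing for the cohomology of modules on a noetherian scheme -/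
theorem subsingleton_HH_of_dim_lt [IsNoetherian X] (d : ℕ) (hd : topologicalKrullDim X ≤ d)
    (M : X.Modules) (p : ℕ) (hp : d < p) : Subsingleton (Coh.HH X M p) := by
  haveI : NoetherianSpace ↑(X.toTopCat) := (inferInstance : NoetherianSpace X)
  exact Groth.Agent.S0458.result (X := X.toTopCat) d hd (Coh.toAb M) p hp

/-- the truncated Euler characteristic is the Euler characteristic -/
theorem eulerCharLE_eq_euler [IsNoetherian X] (d : ℕ) (hd : topologicalKrullDim X ≤ d)
    (F : X.Modules) : FGA.eulerCharLE k X F d = Curv2.euler k X F := by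
  rw [Euler.euler_eq_sum k X (d + 1) F
    (fun p hp => subsingleton_HH_of_dim_lt X d hd F p (by omega))]
  rfl

end Bridge

section Ops

variable {X : Scheme.{u}} [IsNoetherian X]

/-- `T` only depends on the isomorphism class -/
theorem T_iso {L L' : X.Modules} (e : L ≅ L') (hL : PicF.IsInvertible L)
    (hL' : PicF.IsInvertible L') : T L hL = T L' hL' := by
  apply k0_hom_ext
  intro M hM
  change T L hL (KZero.clSub (PC X) M) = T L' hL' (KZero.clSub (PC X) M)
  rw [T_clSub L hL M hM, T_clSub L' hL' M hM]
  exact (clSub_iso (Groth.Agent.Lead.TilT.tensorModCongr e (Iso.refl M))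
    (isCoh_tensor L M (InvQc.isCoh_of_isInvertible _ hL) hM)).symm

/-- twisting by `O` is the identity -/
theorem T_unit (h : PicF.IsInvertible (Coh.structureModule X)) :
    T (Coh.structureModule X) h = 1 := by
  apply k0_hom_ext
  intro M hM
  change T (Coh.structureModule X) h (KZero.clSub (PC X) M) = KZero.clSub (PC X) M
  rw [T_clSub' _ h M hM]
  exact clSub_iso (Groth.Agent.Lib.Helper5.LTenFlf.tensorUnitIso M).symm hM

/-- twisting by a tensor product -/
theorem T_tensor {A B : X.Modules} (hA : PicF.IsInvertible A) (hB : PicF.IsInvertible B)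
    (hAB : PicF.IsInvertible (CohB1.tensorMod A B)) :
    T (CohB1.tensorMod A B) hAB = T A hA * T B hB := by
  have hAc : Coh.IsCoh A := InvQc.isCoh_of_isInvertible _ hA
  have hBc : Coh.IsCoh B := InvQc.isCoh_of_isInvertible _ hB
  apply k0_hom_ext
  intro M hM
  change T (CohB1.tensorMod A B) hAB (KZero.clSub (PC X) M) =
    T A hA (T B hB (KZero.clSub (PC X) M))
  rw [T_clSub' _ hAB M hM, T_clSub' B hB M hM, T_clSub' A hA _ (isCoh_tensor M B hM hBc)]
  have e : CohB1.tensorMod (CohB1.tensorMod M B) A ≅ CohB1.tensorMod M (CohB1.tensorMod A B) :=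
    GenusOne.assocIso M hB hA ≪≫
      Groth.Agent.Lead.TilT.tensorModCongr (Iso.refl M) (TildeTens.tensorModComm B A)
  exact clSub_iso e (isCoh_tensor _ A (isCoh_tensor M B hM hBc) hAc)

/-- twisting by a tensor power -/
theorem T_tensorPow {L : X.Modules} (hL : PicF.IsInvertible L) (m : ℕ)
    (h : PicF.IsInvertible (CohB1.tensorPow L m)) :
    T (CohB1.tensorPow L m) h = (T L hL) ^ m := by
  apply k0_hom_ext
  intro M hM
  change T (CohB1.tensorPow L m) h (KZero.clSub (PC X) M) =
    ((T L hL) ^ m) (KZero.clSub (PC X) M)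
  rw [T_clSub' _ h M hM, clSub_tensor_tensorPow L hL M hM m]

/-- inverse modules give inverse operators -/
theorem T_mul_of_inverse {L M : X.Modules} (hL : PicF.IsInvertible L) (hM : PicF.IsInvertible M)
    (i : CohB1.tensorMod L M ≅ Coh.structureModule X) : T L hL * T M hM = 1 := by
  rw [← T_tensor hL hM (isInvertible_tensorMod hL hM),
    T_iso i (isInvertible_tensorMod hL hM) GenLoc.isInvertible_O, T_unit]

/-- `1 - T` lowers the filtration -/
theorem one_sub_T_mem (L : X.Modules) (hL : PicF.IsInvertible L) (D : ℕ)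
    (x : KZero.K0sub (PC X)) (hx : x ∈ FilLT X D) : (1 - T L hL) x ∈ FilLT X (D - 1) := by
  have h := pow_sub_one_mem L hL D x hx 1
  rw [pow_one] at h
  have h2 : (1 - T L hL) x = -((T L hL - 1) x) := by
    change x - T L hL x = -(T L hL x - x)
    abel
  rw [h2]
  exact (FilLT X (D - 1)).neg_mem h

/-- a product of operators `1 - T` lowers the filtration by its length -/
theorem prod_one_sub_T_mem {ι : Type*} (M : ι → X.Modules) (hM : ∀ i, PicF.IsInvertible (M i))
    (l : List ι) (D : ℕ) (x : KZero.K0sub (PC X)) (hx : x ∈ FilLT X D) :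
    ((l.map fun i => 1 - T (M i) (hM i)).prod) x ∈ FilLT X (D - l.length) := by
  induction l with
  | nil => simpa using hx
  | cons i l ih =>
    rw [List.map_cons, List.prod_cons]
    change (1 - T (M i) (hM i)) (((l.map fun i => 1 - T (M i) (hM i)).prod) x) ∈ _
    have h := one_sub_T_mem (M i) (hM i) _ _ ih
    have e : D - (i :: l).length = D - l.length - 1 := by
      rw [List.length_cons]
      omega
    rw [e]
    exact h

/-- operators `1 - T` commute with operators `T` -/
theorem commute_prod_one_sub_T {ι : Type*} (M : ι → X.Modules)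
    (hM : ∀ i, PicF.IsInvertible (M i)) (l : List ι) (A : X.Modules) (hA : PicF.IsInvertible A) :
    Commute (T A hA) ((l.map fun i => 1 - T (M i) (hM i)).prod) := by
  induction l with
  | nil => exact Commute.one_right _
  | cons i l ih =>
    rw [List.map_cons, List.prod_cons]
    exact Commute.mul_right ((Commute.one_right _).sub_right (T_comm A (M i) hA (hM i))) ih

end Ops

section Lists

variable {X : Scheme.{u}} [IsNoetherian X]

omit [AlgebraicGeometry.IsNoetherian X] in
theorem isInvertible_tensorList {ι : Type*} (M : ι → X.Modules)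
    (hM : ∀ i, PicF.IsInvertible (M i)) :
    ∀ l : List ι, PicF.IsInvertible (FGA.tensorList (l.map M))
  | [] => GenLoc.isInvertible_O
  | i :: l => isInvertible_tensorMod (hM i) (isInvertible_tensorList M hM l)

/-- the class of `(⊗_{i ∈ l} M_i) ⊗ F` -/
theorem clSub_tensorList {ι : Type*} (M : ι → X.Modules) (hM : ∀ i, PicF.IsInvertible (M i))
    (F : X.Modules) (hF : Coh.IsCoh F) :
    ∀ l : List ι, KZero.clSub (PC X) (CohB1.tensorMod (FGA.tensorList (l.map M)) F) =
      ((l.map fun i => T (M i) (hM i)).prod) (KZero.clSub (PC X) F)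
  | [] => by
    change KZero.clSub (PC X) (CohB1.tensorMod (Coh.structureModule X) F) =
      (1 : AddMonoid.End _) (KZero.clSub (PC X) F)
    exact clSub_iso ((TildeTens.tensorModComm (Coh.structureModule X) F ≪≫
      Groth.Agent.Lib.Helper5.LTenFlf.tensorUnitIso F).symm) hF
  | i :: l => by
    have hB := isInvertible_tensorList M hM l
    have hBc : Coh.IsCoh (FGA.tensorList (l.map M)) := InvQc.isCoh_of_isInvertible _ hB
    have hAc : Coh.IsCoh (M i) := InvQc.isCoh_of_isInvertible _ (hM i)
    have hBF : Coh.IsCoh (CohB1.tensorMod (FGA.tensorList (l.map M)) F) :=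
      isCoh_tensor _ _ hBc hF
    change KZero.clSub (PC X)
      (CohB1.tensorMod (CohB1.tensorMod (M i) (FGA.tensorList (l.map M))) F) =
      T (M i) (hM i) (((l.map fun i => T (M i) (hM i)).prod) (KZero.clSub (PC X) F))
    rw [← clSub_tensorList M hM F hF l, T_clSub' (M i) (hM i) _ hBF]
    -- `(A ⊗ B) ⊗ F ≅ (B ⊗ F) ⊗ A`
    have e : CohB1.tensorMod (CohB1.tensorMod (FGA.tensorList (l.map M)) F) (M i) ≅
        CohB1.tensorMod (CohB1.tensorMod (M i) (FGA.tensorList (l.map M))) F :=
      Groth.Agent.Lead.TilT.tensorModCongr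
          (TildeTens.tensorModComm (FGA.tensorList (l.map M)) F) (Iso.refl (M i)) ≪≫
        GenusOne.assocIso F hB (hM i) ≪≫
        Groth.Agent.Lead.TilT.tensorModCongr (Iso.refl F)
          (TildeTens.tensorModComm (FGA.tensorList (l.map M)) (M i)) ≪≫
        TildeTens.tensorModComm F (CohB1.tensorMod (M i) (FGA.tensorList (l.map M)))
    exact clSub_iso e (isCoh_tensor _ _ hBF hAc)

end Lists

section Formula

variable (k : Type u) [Field k] (X : Scheme.{u}) [X.Over (Spec (CommRingCat.of k))]
  [IsProper (X ↘ (Spec (CommRingCat.of k)))] [IsNoetherian X]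

/-- the operator `∏ (1 - T_{M_i})` -/
noncomputable def opM {r : ℕ} (M : Fin r → X.Modules) (hM : ∀ i, PicF.IsInvertible (M i)) :
    AddMonoid.End (KZero.K0sub (PC X)) :=
  ((List.finRange r).map fun i => 1 - T (M i) (hM i)).prod

/-- **the intersection symbol through `K₀`** -/
theorem intNum_eq (d : ℕ) (hd : topologicalKrullDim X ≤ d) {r : ℕ} (M : Fin r → X.Modules)
    (hM : ∀ i, PicF.IsInvertible (M i)) (F : X.Modules) (hF : Coh.IsCoh F) :
    FGA.intNum k X d M F = eulerHom k X (opM X M hM (KZero.clSub (PC X) F)) := by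
  have h1 : ∀ I : Finset (Fin r),
      FGA.eulerCharLE k X (CohB1.tensorMod (FGA.tensorList ((I.sort (· ≤ ·)).map M)) F) d =
        eulerHom k X ((((I.sort (· ≤ ·)).map fun i => T (M i) (hM i)).prod)
          (KZero.clSub (PC X) F)) := by
    intro I
    rw [eulerCharLE_eq_euler k X d hd, ← clSub_tensorList M hM F hF,
      eulerHom_clSub k X _ (isCoh_tensor _ _
        (InvQc.isCoh_of_isInvertible _ (isInvertible_tensorList M hM _)) hF)]
  unfold FGA.intNum
  simp_rw [h1]
  rw [opM, ← Fin.sort_univ, ← sum_powerset_sort_prod, Finset.powerset_univ, end_sum_apply,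
    map_sum]
  refine Finset.sum_congr rfl fun I _ => ?_
  rw [neg_one_pow_mul_apply, map_zsmul, smul_eq_mul]

end Formula

end Groth.Agent.Helper1.FGAInt
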