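import Mathlib
import Groth.Agent.Lib.Helper1.FGAInt1
import Groth.Agent.Lib.Helper1.CurveCart1

/-!
# First properties of `FGA.intNum` (helper1)
-/

set_option autoImplicit false
universe u
open CategoryTheory CategoryTheory.Limits AlgebraicGeometry TopologicalSpace Opposite

namespace Groth.Agent.Helper1.FGAInt

open Groth.Agent.Helper1 Groth.Agent.Helper1.Euler Groth.Agent.Helper1.Dv
open Groth.Agent.Helper1.FinLen Groth.Agent.Helper1.TwForm Groth.Agent.Helper1.Curve
open Groth.Agent.Helper1.Snap

section Main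

variable (k : Type u) [Field k] (X : Scheme.{u}) [X.Over (Spec (CommRingCat.of k))]
  [IsProper (X ↘ (Spec (CommRingCat.of k)))] [IsNoetherian X]

omit [X.Over (Spec (CommRingCat.of k))] in
theorem opM_cons {r : ℕ} (A : X.Modules) (hA : PicF.IsInvertible A) (M : Fin r → X.Modules)
    (hM : ∀ i, PicF.IsInvertible (M i))
    (hAM : ∀ i, PicF.IsInvertible ((Fin.cons A M : Fin (r + 1) → X.Modules) i)) :
    opM X (Fin.cons A M : Fin (r + 1) → X.Modules) hAM = (1 - T A hA) * opM X M hM := by
  unfold opM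
  rw [List.finRange_succ, List.map_cons, List.map_map, List.prod_cons]
  rfl

omit [X.Over (Spec (CommRingCat.of k))] in
theorem opM_mem {r : ℕ} (M : Fin r → X.Modules) (hM : ∀ i, PicF.IsInvertible (M i)) (D : ℕ)
    (x : KZero.K0sub (PC X)) (hx : x ∈ FilLT X D) : opM X M hM x ∈ FilLT X (D - r) := by
  have h := prod_one_sub_T_mem M hM (List.finRange r) D x hx
  rwa [List.length_finRange] at h

/-- **S3231**: the intersection symbol vanishes when the support is too small -/
theorem intNum_eq_zero_of_dim_lt (d : ℕ) (hd : topologicalKrullDim X ≤ d) {r : ℕ}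
    (M : Fin r → X.Modules) (hM : ∀ i, PicF.IsInvertible (M i)) (F : X.Modules)
    (hF : Coh.IsCoh F) (hr : topologicalKrullDim (CohB1.support F) < r) :
    FGA.intNum k X d M F = 0 := by
  rw [intNum_eq k X d hd M hM F hF]
  have hy : KZero.clSub (PC X) F ∈ FilLT X r := AddSubgroup.subset_closure ⟨F, hF, hr, rfl⟩
  have h := opM_mem X M hM r _ hy
  rw [Nat.sub_self, FilLT_zero, AddSubgroup.mem_bot] at h
  rw [h, map_zero]

/-- **S3232**: additivity of the intersection symbol in the first entry -/
theorem intNum_cons_tensor (d : ℕ) (hd : topologicalKrullDim X ≤ d) {r : ℕ}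
    (M : Fin r → X.Modules) (hM : ∀ i, PicF.IsInvertible (M i)) (A B : X.Modules)
    (hA : PicF.IsInvertible A) (hB : PicF.IsInvertible B) (F : X.Modules) (hF : Coh.IsCoh F)
    (hr : topologicalKrullDim (CohB1.support F) ≤ (r + 1 : ℕ)) :
    FGA.intNum k X d (Fin.cons (CohB1.tensorMod A B) M) F =
      FGA.intNum k X d (Fin.cons A M) F + FGA.intNum k X d (Fin.cons B M) F := by
  have hAB := isInvertible_tensorMod hA hB
  have h1 : ∀ (C : X.Modules) (_ : PicF.IsInvertible C) (i : Fin (r + 1)),
      PicF.IsInvertible ((Fin.cons C M : Fin (r + 1) → X.Modules) i) := fun C hC i =>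
    Fin.cases (motive := fun i => PicF.IsInvertible ((Fin.cons C M : Fin (r + 1) → X.Modules) i))
      hC hM i
  rw [intNum_eq k X d hd _ (h1 _ hAB) F hF, intNum_eq k X d hd _ (h1 _ hA) F hF,
    intNum_eq k X d hd _ (h1 _ hB) F hF, opM_cons X _ hAB M hM, opM_cons X _ hA M hM,
    opM_cons X _ hB M hM, T_tensor hA hB hAB]
  have hy : KZero.clSub (PC X) F ∈ FilLT X (r + 2) := clSub_mem_FilLT (r + 1) F hF hr
  have hPy : opM X M hM (KZero.clSub (PC X) F) ∈ FilLT X 2 := by
    have h := opM_mem X M hM (r + 2) _ hy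
    rwa [show r + 2 - r = 2 by omega] at h
  have hz : (1 - T A hA) ((1 - T B hB) (opM X M hM (KZero.clSub (PC X) F))) = 0 := by
    have h2 := one_sub_T_mem B hB 2 _ hPy
    have h3 := one_sub_T_mem A hA 1 _ h2
    rwa [FilLT_zero, AddSubgroup.mem_bot] at h3
  have hid : (1 - T A hA * T B hB) =
      (1 - T A hA) + (1 - T B hB) - (1 - T A hA) * (1 - T B hB) := by
    simp only [sub_mul, mul_sub, one_mul, mul_one]
    abel
  rw [hid]
  change eulerHom k X ((1 - T A hA) (opM X M hM (KZero.clSub (PC X) F)) +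
    (1 - T B hB) (opM X M hM (KZero.clSub (PC X) F)) -
    (1 - T A hA) ((1 - T B hB) (opM X M hM (KZero.clSub (PC X) F)))) = _
  rw [hz, sub_zero, map_add]
  rfl

omit [X.Over (Spec (CommRingCat.of k))] in
theorem prod_T_tensorPow_eq_Tn : ∀ (r : ℕ) (L : Fin r → X.Modules)
    (hL : ∀ i, PicF.IsInvertible (L i)) (m : Fin r → ℕ),
    ((List.finRange r).map fun i => T (CohB1.tensorPow (L i) (m i))
      (isInvertible_tensorPow (hL i) (m i))).prod = Tn r L hL m
  | 0, _, _, _ => rfl
  | r + 1, L, hL, m => by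
    have ih := prod_T_tensorPow_eq_Tn r (fun i => L i.castSucc) (fun i => hL i.castSucc)
      (fun i => m i.castSucc)
    rw [List.finRange_succ_last, List.map_append, List.prod_append, List.map_map,
      List.map_cons, List.map_nil, List.prod_singleton,
      T_tensorPow (hL (Fin.last r)) (m (Fin.last r))]
    change ((List.finRange r).map fun i => T (CohB1.tensorPow (L i.castSucc) (m i.castSucc))
      (isInvertible_tensorPow (hL i.castSucc) (m i.castSucc))).prod *
        (T (L (Fin.last r)) (hL (Fin.last r))) ^ (m (Fin.last r)) =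
      (T (L (Fin.last r)) (hL (Fin.last r))) ^ (m (Fin.last r)) *
        Tn r (fun i => L i.castSucc) (fun i => hL i.castSucc) (fun i => m i.castSucc)
    rw [ih]
    exact ((T_commute_Tn (L (Fin.last r)) (hL (Fin.last r)) r _ _ _).pow_left _).eq.symm

/-- **S3230**: Snapper's theorem for `FGA.multiTwist` -/
theorem snapper_multiTwist (d : ℕ) (hd : topologicalKrullDim X ≤ d) {n : ℕ}
    (L : Fin n → X.Modules) (hL : ∀ i, PicF.IsInvertible (L i)) (F : X.Modules)
    (hF : Coh.IsCoh F) (r : ℕ) (hr : topologicalKrullDim (CohB1.support F) ≤ r) :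
    ∃ P : MvPolynomial (Fin n) ℚ, P.totalDegree ≤ r ∧
      ∀ m : Fin n → ℕ, (FGA.eulerCharLE k X (CohB1.tensorMod (FGA.multiTwist L m) F) d : ℚ) =
        MvPolynomial.eval (fun i => (m i : ℚ)) P := by
  obtain ⟨P, hP, h⟩ := snapper_k0 k X n L hL r (KZero.clSub (PC X) F)
    (clSub_mem_FilLT r F hF hr)
  refine ⟨P, hP, fun m => ?_⟩
  rw [← h m, eulerCharLE_eq_euler k X d hd]
  have h2 := clSub_tensorList (fun i => CohB1.tensorPow (L i) (m i))
    (fun i => isInvertible_tensorPow (hL i) (m i)) F hF (List.finRange n)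
  rw [prod_T_tensorPow_eq_Tn X n L hL m] at h2
  rw [← h2, eulerHom_clSub k X _ (isCoh_tensor _ _
    (InvQc.isCoh_of_isInvertible _ (isInvertible_tensorList _
      (fun i => isInvertible_tensorPow (hL i) (m i)) _)) hF)]
  rfl

end Main

section Binom

/-- the negative binomial expansion, abstractly -/
theorem negBinom_step {A : Type*} [AddCommGroup A] (f : ℕ → A) (r : ℕ) (hf : f (r + 1) = 0)
    (c : ℕ → ℕ → ℕ) (m : ℕ) (hc0 : c (m + 1) 0 = c m 0)
    (hc : ∀ j, c (m + 1) (j + 1) = c (m + 1) j + c m (j + 1)) :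
    (∑ j ∈ Finset.range (r + 1), (c (m + 1) j : ℤ) • f j) -
      (∑ j ∈ Finset.range (r + 1), (c (m + 1) j : ℤ) • f (j + 1)) =
      ∑ j ∈ Finset.range (r + 1), (c m j : ℤ) • f j := by
  rw [Finset.sum_range_succ (fun j => (c (m + 1) j : ℤ) • f (j + 1)), hf, smul_zero, add_zero,
    Finset.sum_range_succ' (fun j => (c (m + 1) j : ℤ) • f j),
    Finset.sum_range_succ' (fun j => (c m j : ℤ) • f j), hc0, add_sub_right_comm,
    ← Finset.sum_sub_distrib]
  congr 1
  refine Finset.sum_congr rfl fun j _ => ?_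
  rw [hc j]
  push_cast
  rw [add_smul, add_sub_cancel_left]

end Binom

section Expansion

variable (k : Type u) [Field k] (X : Scheme.{u}) [X.Over (Spec (CommRingCat.of k))]
  [IsProper (X ↘ (Spec (CommRingCat.of k)))] [IsNoetherian X]

omit [X.Over (Spec (CommRingCat.of k))] in
theorem opM_const (M : X.Modules) (hM : PicF.IsInvertible M) (j : ℕ) :
    opM X (fun _ : Fin j => M) (fun _ => hM) = (1 - T M hM) ^ j := by
  unfold opM
  rw [List.map_const', List.length_finRange, List.prod_replicate]

/-- **S11753**: `χ(L^m ⊗ F) = Σ_i C(m+i-1, i) ∫ c_1(L)^i F` -/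
theorem euler_tensorPow_eq_sum_intNum (d : ℕ) (hd : topologicalKrullDim X ≤ d)
    (L M : X.Modules) (hL : PicF.IsInvertible L)
    (i : CohB1.tensorMod L M ≅ Coh.structureModule X) (F : X.Modules) (hF : Coh.IsCoh F)
    (r : ℕ) (hr : topologicalKrullDim (CohB1.support F) ≤ r) (m : ℕ) :
    FGA.eulerCharLE k X (CohB1.tensorMod (CohB1.tensorPow L m) F) d =
      (Finset.range (r + 1)).sum (fun j => ((m + j - 1).choose j : ℤ) *
        FGA.intNum k X d (fun _ : Fin j => M) F) := by
  have hM : PicF.IsInvertible M :=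
    CurveCart.isInvertible_left_of_tensor_iso hL (TildeTens.tensorModComm M L ≪≫ i)
  have hab : T L hL * T M hM = 1 := T_mul_of_inverse hL hM i
  set y := KZero.clSub (PC X) F with hy
  have hymem : y ∈ FilLT X (r + 1) := clSub_mem_FilLT r F hF hr
  set u : AddMonoid.End (KZero.K0sub (PC X)) := 1 - T M hM with hu
  let f : ℕ → KZero.K0sub (PC X) := fun j => (u ^ j) y
  have hf : f (r + 1) = 0 := by
    have h := opM_mem X (fun _ : Fin (r + 1) => M) (fun _ => hM) (r + 1) y hymem
    rw [opM_const, Nat.sub_self, FilLT_zero, AddSubgroup.mem_bot] at h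
    exact h
  have hfs : ∀ j, u (f j) = f (j + 1) := fun j => by
    change u ((u ^ j) y) = (u ^ (j + 1)) y
    rw [pow_succ']
    rfl
  -- the expansion of `T_L^m y`
  have key : ∀ m : ℕ, ((T L hL) ^ m) y =
      ∑ j ∈ Finset.range (r + 1), (((m + j - 1).choose j : ℕ) : ℤ) • f j := by
    intro m
    induction m with
    | zero =>
      rw [pow_zero, Finset.sum_range_succ']
      have h0 : ∀ j ∈ Finset.range r,
          ((((0 + (j + 1) - 1).choose (j + 1) : ℕ) : ℤ)) • f (j + 1) = 0 := by
        intro j _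
        rw [show 0 + (j + 1) - 1 = j by omega, Nat.choose_succ_self, Nat.cast_zero, zero_smul]
      rw [Finset.sum_eq_zero h0, zero_add]
      simp only [add_zero, Nat.zero_sub, Nat.choose_self, Nat.cast_one, one_smul]
      rfl
    | succ m ih =>
      have hstep := negBinom_step f r hf (fun m j => (m + j - 1).choose j) m
        (by simp) (fun j => by
          change (m + 1 + (j + 1) - 1).choose (j + 1) =
            (m + 1 + j - 1).choose j + (m + (j + 1) - 1).choose (j + 1)
          rw [show m + 1 + (j + 1) - 1 = (m + j) + 1 by omega,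
            show m + 1 + j - 1 = m + j by omega, show m + (j + 1) - 1 = m + j by omega,
            Nat.choose_succ_succ])
      beta_reduce at hstep
      have hT : T M hM = 1 - u := by rw [hu]; abel
      -- `S (m+1) - u S(m+1) = S m`
      have hb : (T M hM) (∑ j ∈ Finset.range (r + 1),
          (((m + 1 + j - 1).choose j : ℕ) : ℤ) • f j) =
          ∑ j ∈ Finset.range (r + 1), (((m + j - 1).choose j : ℕ) : ℤ) • f j := by
        rw [← hstep, hT]
        change (∑ j ∈ Finset.range (r + 1), (((m + 1 + j - 1).choose j : ℕ) : ℤ) • f j) -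
          u (∑ j ∈ Finset.range (r + 1), (((m + 1 + j - 1).choose j : ℕ) : ℤ) • f j) = _
        rw [map_sum u]
        congr 1
        refine Finset.sum_congr rfl fun j _ => ?_
        rw [map_zsmul, hfs]
      rw [pow_succ']
      change T L hL (((T L hL) ^ m) y) = _
      rw [ih, ← hb]
      change (T L hL * T M hM) _ = _
      rw [hab]
      rfl
  -- conclude
  have hLm := isInvertible_tensorPow hL m
  rw [eulerCharLE_eq_euler k X d hd, ← eulerHom_clSub k X _ (isCoh_tensor _ _
    (InvQc.isCoh_of_isInvertible _ hLm) hF), ← T_clSub _ hLm F hF, T_tensorPow hL m hLm,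
    key m, map_sum]
  refine Finset.sum_congr rfl fun j _ => ?_
  rw [map_zsmul, smul_eq_mul, intNum_eq k X d hd _ (fun _ => hM) F hF, opM_const]

end Expansion

end Groth.Agent.Helper1.FGAInt
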