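import Mathlib
import Groth.Agent.Lib.Helper1.FGAInt2
import Groth.Agent.Lib.Helper1.CurveDual2

/-!
# `FGA.intNum` through the cycle of a coherent module (helper1)
-/

set_option autoImplicit false
universe u
open CategoryTheory CategoryTheory.Limits AlgebraicGeometry TopologicalSpace Opposite

namespace Groth.Agent.Helper1.FGAInt

open Groth.Agent.Helper1 Groth.Agent.Helper1.Euler Groth.Agent.Helper1.Dv
open Groth.Agent.Helper1.FinLen Groth.Agent.Helper1.TwForm Groth.Agent.Helper1.Curve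
open Groth.Agent.Helper1.Snap

section Cycle

variable {X : Scheme.{u}} [IsNoetherian X]

/-- a homomorphism out of `K₀` killing the classes of small support is computed on the cycle -/
theorem hom_cycle {A : Type*} [AddCommGroup A] (φ : KZero.K0sub (PC X) →+ A) (r : ℕ)
    (hφ : ∀ x ∈ FilLT X r, φ x = 0) (F : X.Modules) (hF : Coh.IsCoh F)
    (hsupp : topologicalKrullDim ↥(CohB1.support F) ≤ r) (s : Finset X)
    (hs : ∀ ξ : X, ξ ∈ s ↔
      ξ ∈ CohB1.support F ∧ topologicalKrullDim ↥(closure ({ξ} : Set X)) = r) :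
    φ (KZero.clSub (PC X) F) =
      ∑ ξ ∈ s, (Module.length (X.presheaf.stalk ξ) (F.presheaf.stalk ξ)).toNat •
        φ (KZero.clSub (PC X) (Cyc.closureStructureSheaf ξ)) := by
  classical
  have hy : KZero.clSub (PC X) F - cyc r F ∈ FilLT X r := k0_cycle_congr r F hF hsupp
  have h0 := hφ _ hy
  rw [map_sub, sub_eq_zero] at h0
  rw [h0]
  have hcyc : cyc r F = ∑ ξ ∈ s,
      (Module.length (X.presheaf.stalk ξ) (F.presheaf.stalk ξ)).toNat •
        KZero.clSub (PC X) (Cyc.closureStructureSheaf ξ) := by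
    unfold cyc
    rw [finsum_eq_sum_of_support_subset (s := s)]
    · refine Finset.sum_congr rfl fun ξ hξ => ?_
      rw [if_pos ((hs ξ).1 hξ).2]
    · intro ξ hξ
      obtain ⟨h1, h2⟩ := cyc_support_subset r F hξ
      exact Finset.mem_coe.2 ((hs ξ).2 ⟨h1, h2⟩)
  rw [hcyc, map_sum]
  refine Finset.sum_congr rfl fun ξ _ => ?_
  rw [map_nsmul]

end Cycle

section Main

variable (k : Type u) [Field k] (X : Scheme.{u}) [X.Over (Spec (CommRingCat.of k))]
  [IsProper (X ↘ (Spec (CommRingCat.of k)))] [IsNoetherian X]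

omit [X.Over (Spec (CommRingCat.of k))] in
theorem opM_eq_zero_of_mem {r : ℕ} (M : Fin r → X.Modules) (hM : ∀ i, PicF.IsInvertible (M i))
    (x : KZero.K0sub (PC X)) (hx : x ∈ FilLT X r) : opM X M hM x = 0 := by
  have h := opM_mem X M hM r x hx
  rwa [Nat.sub_self, FilLT_zero, AddSubgroup.mem_bot] at h

/-- **S14521**: the intersection symbol is computed on the top-dimensional cycle -/
theorem intNum_cycle (d : ℕ) (hd : topologicalKrullDim X ≤ d) {r : ℕ} (M : Fin r → X.Modules)
    (hM : ∀ i, PicF.IsInvertible (M i)) (F : X.Modules) (hF : Coh.IsCoh F)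
    (hsupp : topologicalKrullDim ↥(CohB1.support F) ≤ r) (s : Finset X)
    (hs : ∀ ξ : X, ξ ∈ s ↔
      ξ ∈ CohB1.support F ∧ topologicalKrullDim ↥(closure ({ξ} : Set X)) = r) :
    FGA.intNum k X d M F =
      ∑ ξ ∈ s, ((Module.length (X.presheaf.stalk ξ) (F.presheaf.stalk ξ)).toNat : ℤ) *
        FGA.intNum k X d M (ClSub.quotMod
          (Scheme.IdealSheafData.vanishingIdeal ⟨closure ({ξ} : Set X), isClosed_closure⟩)) := by
  have hcohξ : ∀ ξ : X, Coh.IsCoh (ClSub.quotMod
      (Scheme.IdealSheafData.vanishingIdeal ⟨closure ({ξ} : Set X), isClosed_closure⟩)) :=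
    fun ξ => CurveDual.isCoh_quotMod _
  rw [intNum_eq k X d hd M hM F hF]
  have h := hom_cycle ((eulerHom k X).comp
    ((opM X M hM : AddMonoid.End (KZero.K0sub (PC X))) :
      KZero.K0sub (PC X) →+ KZero.K0sub (PC X))) r
    (fun x hx => by
      change eulerHom k X (opM X M hM x) = 0
      rw [opM_eq_zero_of_mem X M hM x hx, map_zero]) F hF hsupp s hs
  change eulerHom k X (opM X M hM (KZero.clSub (PC X) F)) = _ at h
  rw [h]
  refine Finset.sum_congr rfl fun ξ _ => ?_
  rw [nsmul_eq_mul, intNum_eq k X d hd M hM _ (hcohξ ξ)]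
  rfl

end Main

end Groth.Agent.Helper1.FGAInt
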