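import Mathlib
import Groth.Agent.Lib.Helper1.PullAmple
import Groth.Agent.Lib.Helper1.AmpleTransport
import Groth.Agent.Lib.Helper1.GrTwAmpleOpen

set_option autoImplicit false
universe u
open CategoryTheory CategoryTheory.Limits AlgebraicGeometry TopologicalSpace Opposite

namespace Groth.Agent.Helper1.HasBase

open Groth.Agent.Helper1.QcCech Groth.Agent.Helper1.SubSh Groth.Agent.Helper1.LGen
open Groth.Agent.Helper1 Groth.Agent.Helper1.PullSec Groth.Agent.Helper1.TwForm
open Groth.Agent.Helper1.AmpleLib Groth.Agent.Helper1.PullGen Groth.Agent.Helper1.PullPow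
open Groth.Agent.Helper1.PullAmple

section General
variable {X : Scheme.{u}}

/-- `L` is invertible and the opens `X_s`, for `s` a section of a positive tensor power of `L`,
form a base of the topology -/
def HasBase (L : X.Modules) : Prop :=
  PicF.IsInvertible L ∧ ∀ (U : X.Opens) (x : X), x ∈ U →
    ∃ (N : ℕ) (s : Coh.structureModule X ⟶ CohB1.tensorPow L (N + 1)),
      x ∈ CohB1.genLocus _ s ∧ CohB1.genLocus _ s ≤ U

theorem hasBase_of_iso {L L' : X.Modules} (e : L ≅ L') (h : HasBase L) : HasBase L' := by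
  refine ⟨GrTwAmpleOpen.isInvertible_of_iso e h.1, fun U x hx => ?_⟩
  obtain ⟨N, s, hxs, hsU⟩ := h.2 U x hx
  refine ⟨N, s ≫ (GrTwAmpleOpen.tensorPowCongr e (N + 1)).hom, ?_, ?_⟩
  · rw [TwistAmple.genLocus_comp_iso]; exact hxs
  · rw [TwistAmple.genLocus_comp_iso]; exact hsU

theorem hasBase_of_isAmple {L : X.Modules} (h : CohB1.IsAmple L) : HasBase L := by
  refine ⟨h.1, fun U x hx => ?_⟩
  obtain ⟨N, s, hxs, hsU, -⟩ := exists_genLocus_nbhd h U x hx
  exact ⟨N, s, hxs, hsU⟩

end General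

section Restr
variable {X Y : Scheme.{u}} (j : Y ⟶ X) [IsOpenImmersion j]

/-- the base property for the restriction along a surjective open immersion gives it for the
module -/
theorem hasBase_of_restrict_surj {L : X.Modules} (hj : j.opensRange = ⊤)
    (h : HasBase (L.restrict j)) : HasBase L := by
  have hinv : PicF.IsInvertible L := isInvertible_of_restrict_surj j hj h.1
  refine ⟨hinv, fun U x hxU => ?_⟩
  have hx : x ∈ j.opensRange := hj ▸ trivial
  obtain ⟨y, rfl⟩ := hx
  obtain ⟨n, s', hy, hle⟩ := h.2 (j ⁻¹ᵁ U) y hxU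
  let A := CohB1.tensorPow L (n + 1)
  let s'' : Coh.structureModule Y ⟶ A.restrict j :=
    s' ≫ (restrictTensorPowIso j hinv (n + 1)).inv
  have hs'' : CohB1.genLocus _ s'' = CohB1.genLocus _ s' :=
    TwistAmple.genLocus_comp_iso s' (restrictTensorPowIso j hinv (n + 1)).symm
  have htop : (⊤ : X.Opens) ≤ j ''ᵁ ⊤ := by
    rw [Scheme.Hom.image_top_eq_opensRange, hj]
  let σ : Γ(A, j ''ᵁ ⊤) := secVal s'' ⊤
  let s : Coh.structureModule X ⟶ A := TwistAmple.homOfSec A (QcCech.res A htop σ)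
  have hcond : ∀ W' : Y.Opens,
      (show Γ(A, j ''ᵁ W') from secVal s'' W') = secVal s (j ''ᵁ W') := by
    intro W'
    rw [secVal_homOfSec, QcCech.res_res, ← res_secVal s'' (le_top : W' ≤ ⊤), res_restrict]
  have h1 := genLocus_restrict_eq j s s'' hcond
  rw [hs''] at h1
  refine ⟨n, s, ?_, ?_⟩
  · have : y ∈ j ⁻¹ᵁ CohB1.genLocus A s := h1 ▸ hy
    exact this
  · intro z hz
    have hz' : z ∈ j.opensRange := hj ▸ trivial
    obtain ⟨w, rfl⟩ := hz'
    have : w ∈ j ⁻¹ᵁ CohB1.genLocus A s := hz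
    rw [← h1] at this
    exact hle this

end Restr

section Pull
variable {Z S : Scheme.{u}} (u : Z ⟶ S)

/-- **pullback along a topological embedding from a quasi-compact scheme of a module with the
base property is ample** -/
theorem isAmple_pullback_of_hasBase [CompactSpace Z] (hu : Topology.IsEmbedding u)
    {L : S.Modules} (hL : HasBase L) :
    CohB1.IsAmple ((Scheme.Modules.pullback u).obj L) := by
  have hL' := isInvertible_pullback u hL.1
  refine ⟨hL', inferInstance, fun z => ?_⟩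
  obtain ⟨_, ⟨U', hU', rfl⟩, hzU', -⟩ :=
    Z.isBasis_affineOpens.exists_subset_of_mem_open (Set.mem_univ z) isOpen_univ
  obtain ⟨U, hUo, hUU'⟩ := hu.isOpen_iff.1 U'.isOpen
  let Uo : S.Opens := ⟨U, hUo⟩
  have hzU : u z ∈ Uo := by
    change z ∈ u ⁻¹' U
    rw [hUU']; exact hzU'
  obtain ⟨n, s, hxs, hsU⟩ := hL.2 Uo (u z) hzU
  refine ⟨n, pullPowSec u hL.1 (n + 1) s, ?_, ?_⟩
  · rw [genLocus_pullPowSec]; exact hxs
  · apply isAffineOpen_genLocus_of_le (isInvertible_tensorPow hL' (n + 1)) _ hU'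
    rw [genLocus_pullPowSec]
    intro w hw
    have : u w ∈ U := hsU hw
    change w ∈ (U' : Set Z)
    rw [← hUU']
    exact this

end Pull

end Groth.Agent.Helper1.HasBase
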