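import Mathlib
import Groth.Agent.Lib.Helper1.HasBase
import Groth.Agent.Lib.Helper1.PullRel
import Groth.Agent.Lib.Helper1.RP5
import Groth.Agent.Lib.Helper1.RP6

set_option autoImplicit false
universe u
open CategoryTheory CategoryTheory.Limits AlgebraicGeometry TopologicalSpace Opposite
open scoped HomogeneousIdeal

namespace Groth.Agent.Helper1.VeryAmple

open Groth.Agent.Helper1.HasBase Groth.Agent.Helper1 Groth.Agent.Helper1.AmpleLib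
open Groth.Agent.Helper1.GrTwTens Groth.Agent.Helper1.GrTwTriv

section Alg
variable {A σ : Type u} [CommRing A] [SetLike σ A] [AddSubgroupClass σ A] (𝒜 : ℕ → σ) [GradedRing 𝒜]

set_option synthInstance.maxHeartbeats 400000

/-- `O(1)^{⊗ k} ≅ O(k)` when every point has a non-vanishing element of degree one -/
theorem nonempty_tensorPow_iso
    (hunit : ∀ x : ProjectiveSpectrum 𝒜, ∃ g ∈ 𝒜 1, g ∉ x.asHomogeneousIdeal) (k : ℕ) :
    Nonempty (CohB1.tensorPow (GrTwist.twist 𝒜 ((1 : ℕ) : ℤ)) k ≅ GrTwist.twist 𝒜 ((k : ℕ) : ℤ)) := by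
  induction k with
  | zero =>
    obtain ⟨e⟩ := GrTwTens.nonempty_twist_zero_iso 𝒜
    refine ⟨?_⟩
    have h0 : ((0 : ℕ) : ℤ) = 0 := by simp
    rw [h0]
    exact e.symm
  | succ k ih =>
    obtain ⟨e⟩ := ih
    have hk : (((k + 1 : ℕ)) : ℤ) = ((k : ℕ) : ℤ) + ((1 : ℕ) : ℤ) := by push_cast; ring
    obtain ⟨e'⟩ := GrTwTens.nonempty_tensor_twist_iso 𝒜 hk (by
      intro x
      obtain ⟨g, hg, hgx⟩ := hunit x
      refine ⟨k • 1, 0, g ^ k, 1, SetLike.pow_mem_graded k hg, SetLike.GradedOne.one_mem,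
        by simp, fun h => hgx (x.isPrime.mem_of_pow_mem _ h), GrTwTens.one_not_mem 𝒜 x⟩)
    exact ⟨GrTwTens.tensorModCongrLeft e _ ≪≫ e'⟩

/-- with generation in degree one, `O(1)` on `Proj` has the base property -/
theorem hasBase_twist_one
    (hunit : ∀ x : ProjectiveSpectrum 𝒜, ∃ g ∈ 𝒜 1, g ∉ x.asHomogeneousIdeal) :
    HasBase (GrTwist.twist 𝒜 ((1 : ℕ) : ℤ)) := by
  have h1 : (1 : A) ∈ 𝒜 0 := SetLike.GradedOne.one_mem
  have hm0 : ((1 : ℕ) : ℤ) = (0 : ℕ) + ((1 : ℕ) : ℤ) := by simp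
  refine ⟨?_, fun U x hx => ?_⟩
  · intro y
    obtain ⟨g, hg, hgy⟩ := hunit y
    refine ⟨Proj.basicOpen 𝒜 g, (Proj.mem_basicOpen 𝒜 g y).2 hgy, ?_⟩
    refine nonempty_twist_restrict_iso 𝒜 hg h1 hm0 (Proj.basicOpen 𝒜 g).ι
      (fun x _ => GrTwTens.one_not_mem 𝒜 x) (fun x hx => ?_)
    rw [Scheme.Opens.opensRange_ι] at hx
    exact (Proj.mem_basicOpen 𝒜 g x).1 hx
  · obtain ⟨e, he, a, ha, hax, haU⟩ := GrTwAmpleOpen.exists_basicOpen_le 𝒜 U x hx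
    obtain ⟨N, rfl⟩ : ∃ N, e = N + 1 := ⟨e - 1, by omega⟩
    obtain ⟨E⟩ := nonempty_tensorPow_iso 𝒜 hunit (N + 1)
    have hunit' : ∀ y : ProjectiveSpectrum 𝒜, ∃ g' : 𝒜 (N + 1), (g' : A) ∉ y.asHomogeneousIdeal := by
      intro y
      obtain ⟨g, hg, hgy⟩ := hunit y
      have : g ^ (N + 1) ∈ 𝒜 (N + 1) := by
        have := SetLike.pow_mem_graded (N + 1) hg
        simpa using this
      exact ⟨⟨g ^ (N + 1), this⟩, fun h => hgy (y.isPrime.mem_of_pow_mem _ h)⟩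
    have hgl := GrTwAmple.genLocus_globalOf 𝒜 (⟨a, ha⟩ : 𝒜 (N + 1)) hunit'
    have hgl' : CohB1.genLocus _ (GrTwAmple.homOfSec (GrTwist.twist 𝒜 ((N + 1 : ℕ) : ℤ))
        (GrTwist.globalOf 𝒜 (⟨a, ha⟩ : 𝒜 (N + 1))) ≫ E.inv) = Proj.basicOpen 𝒜 a :=
      (GrTwAmple.genLocus_comp_iso _ E.symm).trans hgl
    refine ⟨N, GrTwAmple.homOfSec (GrTwist.twist 𝒜 ((N + 1 : ℕ) : ℤ))
      (GrTwist.globalOf 𝒜 (⟨a, ha⟩ : 𝒜 (N + 1))) ≫ E.inv, ?_, ?_⟩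
    · rw [hgl']
      exact (Proj.mem_basicOpen 𝒜 a x).2 hax
    · rw [hgl']
      exact haU

end Alg

end Groth.Agent.Helper1.VeryAmple
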