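import Mathlib
import Groth.Prelude.Def_RelProj2
import Groth.Agent.Lib.Helper1.VeryAmple1
import Groth.Agent.Lib.Helper1.SymCmp2

set_option autoImplicit false
universe u
open CategoryTheory CategoryTheory.Limits AlgebraicGeometry TopologicalSpace Opposite
open scoped HomogeneousIdeal

namespace Groth.Agent.Helper1.VeryAmple

open Groth.Agent.Helper1.HasBase Groth.Agent.Helper1 Groth.Agent.Helper1.AmpleLib
open Groth.Agent.Helper1.SymAlg

section Alg

/-- every element of a symmetric algebra is a scalar modulo the ideal generated by the module -/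
theorem exists_scalar_sub_mem (R M : Type*) [CommRing R] [AddCommGroup M] [Module R M]
    (t : SymmetricAlgebra R M) :
    ∃ r : R, t - algebraMap R _ r ∈ Ideal.span (Set.range (SymmetricAlgebra.ι R M)) := by
  induction t using SymmetricAlgebra.induction with
  | algebraMap r => exact ⟨r, by rw [sub_self]; exact Ideal.zero_mem _⟩
  | ι m => exact ⟨0, by rw [map_zero, sub_zero]; exact Ideal.subset_span ⟨m, rfl⟩⟩
  | mul a b ha hb =>
    obtain ⟨r, hr⟩ := ha
    obtain ⟨r', hr'⟩ := hb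
    refine ⟨r * r', ?_⟩
    have : a * b - algebraMap R _ (r * r') =
        (a - algebraMap R _ r) * b + algebraMap R _ r * (b - algebraMap R _ r') := by
      rw [map_mul]; ring
    rw [this]
    exact Ideal.add_mem _ (Ideal.mul_mem_right _ _ hr) (Ideal.mul_mem_left _ _ hr')
  | add a b ha hb =>
    obtain ⟨r, hr⟩ := ha
    obtain ⟨r', hr'⟩ := hb
    refine ⟨r + r', ?_⟩
    have : a + b - algebraMap R _ (r + r') =
        (a - algebraMap R _ r) + (b - algebraMap R _ r') := by
      rw [map_add]; ring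
    rw [this]
    exact Ideal.add_mem _ hr hr'

end Alg

section Rel
variable {Y : Scheme.{u}} {E : Y.Modules} {𝒮 : RelProj.QCGrAlg Y} {j : E ⟶ 𝒮.toModule}

/-- for the graded symmetric algebra, every point of `Proj 𝒮(U)` misses some `j(e)` -/
theorem exists_j_notMem [E.IsQuasicoherent] (hj : RelProj.IsGrSymAlg E 𝒮 j) (U : Y.Opens)
    (hU : IsAffineOpen U) (x : ProjectiveSpectrum (𝒮.deg U hU)) :
    ∃ e : Γ(E, U), (show 𝒮.presheaf.obj (op U) from j.app U e) ∉ x.asHomogeneousIdeal := by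
  classical
  by_contra hcon
  push Not at hcon
  obtain ⟨c, hc1, hc2⟩ := exists_ringEquiv E hj.1 U hU
  apply x.not_irrelevant_le
  rw [HomogeneousIdeal.irrelevant_le]
  intro i hi b hb
  obtain ⟨t, rfl⟩ := c.surjective b
  obtain ⟨r, hr⟩ := exists_scalar_sub_mem _ _ t
  -- the image of the ideal lies in `x`
  have hI : ∀ s ∈ Ideal.span (Set.range (SymmetricAlgebra.ι Γ(Y, U) Γ(E, U))),
      c s ∈ x.asHomogeneousIdeal.toIdeal := by
    intro s hs
    induction hs using Submodule.span_induction with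
    | mem y hy =>
      obtain ⟨e, rfl⟩ := hy
      rw [hc2]
      exact hcon e
    | zero => rw [map_zero]; exact Ideal.zero_mem _
    | add a b _ _ ha hb => rw [map_add]; exact Ideal.add_mem _ ha hb
    | smul a b _ hb => rw [smul_eq_mul, map_mul]; exact Ideal.mul_mem_left _ _ hb
  have h1 := hI _ hr
  rw [map_sub, hc1] at h1
  -- take the component of degree `i`
  have hb' : c t ∈ 𝒮.deg U hU i := hb
  have h2 := x.asHomogeneousIdeal.isHomogeneous i h1
  rw [DirectSum.decompose_sub, DirectSum.sub_apply, AddSubgroupClass.coe_sub,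
    DirectSum.decompose_of_mem_same _ hb',
    DirectSum.decompose_of_mem_ne _ (𝒮.str_mem U hU r) (Nat.pos_iff_ne_zero.1 hi).symm, sub_zero]
    at h2
  exact h2

theorem hunit_of_isGrSymAlg [E.IsQuasicoherent] (hj : RelProj.IsGrSymAlg E 𝒮 j) (U : Y.Opens)
    (hU : IsAffineOpen U) (x : ProjectiveSpectrum (𝒮.deg U hU)) :
    ∃ g ∈ 𝒮.deg U hU 1, g ∉ x.asHomogeneousIdeal := by
  obtain ⟨e, he⟩ := exists_j_notMem hj U hU x
  exact ⟨_, hj.2 U hU e, he⟩

section Twist
variable {P : Scheme.{u}} {p : P ⟶ Y}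
  {chart : ∀ (U : Y.Opens) (hU : IsAffineOpen U), ((p ⁻¹ᵁ U : P.Opens) : Scheme.{u}) ≅ Proj (𝒮.deg U hU)}

/-- the fundamental sheaf of a projective bundle has the base property over affine opens -/
theorem hasBase_restrict [E.IsQuasicoherent] (hj : RelProj.IsGrSymAlg E 𝒮 j) {O1 : P.Modules}
    {lam : ∀ (U : Y.Opens) (hU : IsAffineOpen U),
      O1 ⟶ (Scheme.Modules.pushforward (RelProj.emb p chart U hU)).obj
        (GrTwist.twist (𝒮.deg U hU) 1)}
    (hO1 : RelProj.IsRelTwist 𝒮 p chart 1 O1 lam) (V : Y.Opens) (hV : IsAffineOpen V) :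
    HasBase (O1.restrict (p ⁻¹ᵁ V).ι) := by
  have h1 : HasBase (GrTwist.twist (𝒮.deg V hV) ((1 : ℕ) : ℤ)) :=
    hasBase_twist_one (𝒮.deg V hV) (hunit_of_isGrSymAlg hj V hV)
  rw [Nat.cast_one] at h1
  obtain ⟨e⟩ := RP3.nonempty_restrict_emb_iso hO1 V hV
  have h2 : HasBase (O1.restrict (RelProj.emb p chart V hV)) := hasBase_of_iso e.symm h1
  have e2 : O1.restrict (RelProj.emb p chart V hV) ≅
      (O1.restrict (p ⁻¹ᵁ V).ι).restrict (chart V hV).inv :=
    (Scheme.Modules.restrictFunctorComp (chart V hV).inv (p ⁻¹ᵁ V).ι).app O1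
  have h3 := hasBase_of_iso e2 h2
  refine hasBase_of_restrict_surj (chart V hV).inv ?_ h3
  apply Opens.ext
  exact Set.range_eq_univ.mpr (chart V hV).inv.homeomorph.surjective

/-- **S5722** -/
theorem main5722 {X : Scheme.{u}} (f : X ⟶ Y) [QuasiCompact f] [E.IsQuasicoherent]
    (hj : RelProj.IsGrSymAlg E 𝒮 j) {O1 : P.Modules}
    {lam : ∀ (U : Y.Opens) (hU : IsAffineOpen U),
      O1 ⟶ (Scheme.Modules.pushforward (RelProj.emb p chart U hU)).obj
        (GrTwist.twist (𝒮.deg U hU) 1)}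
    (hO1 : RelProj.IsRelTwist 𝒮 p chart 1 O1 lam)
    (g : X ⟶ P) (hg : g ≫ p = f) (hemb : Topology.IsEmbedding g.base) :
    RelAmple.IsRelAmple f ((Scheme.Modules.pullback g).obj O1) := by
  subst hg
  refine ⟨inferInstance, fun V => ?_⟩
  set W : P.Opens := p ⁻¹ᵁ V.1 with hW
  have hc : CompactSpace (↑(g ⁻¹ᵁ W) : Scheme.{u}) :=
    isCompact_iff_compactSpace.1 ((g ≫ p).isCompact_preimage V.2.isCompact)
  have hemb' : Topology.IsEmbedding (g ∣_ W) := by
    rw [morphismRestrict_base]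
    exact hemb.restrictPreimage _
  have h1 := isAmple_pullback_of_hasBase (g ∣_ W) hemb' (hasBase_restrict hj hO1 V.1 V.2)
  exact TwistAmpleOpen.isAmple_of_iso (PullAmple.restrictPullbackIso g W O1).symm h1

end Twist

end Rel

end Groth.Agent.Helper1.VeryAmple
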