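import Mathlib
import Groth.Agent.Lib.Helper1.HasBase
import Groth.Agent.Lib.Helper1.VeryAmple2
import Groth.Agent.Lib.Helper1.AmpleLib3
import Groth.Agent.Lib.Helper1.RelAmpleCrit2

set_option autoImplicit false
universe u
open CategoryTheory CategoryTheory.Limits AlgebraicGeometry TopologicalSpace Opposite
open scoped HomogeneousIdeal

namespace Groth.Agent.Helper1.GenCover

open Groth.Agent.Helper1.QcCech Groth.Agent.Helper1.SubSh Groth.Agent.Helper1.LGen
open Groth.Agent.Helper1 Groth.Agent.Helper1.PullSec Groth.Agent.Helper1.TwForm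
open Groth.Agent.Helper1.AmpleLib Groth.Agent.Helper1.PullGen Groth.Agent.Helper1.PullPow
open Groth.Agent.Helper1.PullAmple

section General
variable {X : Scheme.{u}}

/-- `L` is invertible and generated by its global sections -/
def GenCover (L : X.Modules) : Prop :=
  PicF.IsInvertible L ∧ ∀ x : X, ∃ s : Coh.structureModule X ⟶ L, x ∈ CohB1.genLocus L s

theorem genCover_of_iso {L L' : X.Modules} (e : L ≅ L') (h : GenCover L) : GenCover L' := by
  refine ⟨GrTwAmpleOpen.isInvertible_of_iso e h.1, fun x => ?_⟩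
  obtain ⟨s, hxs⟩ := h.2 x
  refine ⟨s ≫ e.hom, ?_⟩
  rw [TwistAmple.genLocus_comp_iso]; exact hxs

/-- a module generated by global sections in the sense of `GenCover` is globally generated -/
theorem isGloballyGenerated {L : X.Modules} (h : GenCover L) : Curv2.IsGloballyGenerated L := by
  apply isGloballyGenerated_of_spannedOn
  intro x
  obtain ⟨s, hxs⟩ := h.2 x
  refine ⟨CohB1.genLocus L s, hxs, ?_⟩
  intro O hO t y hy
  refine ⟨O, le_rfl, hy, ?_⟩
  rw [QcCech.res_self]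
  have hg : IsGen L O (secVal s O) := isGen_secVal s hO
  obtain ⟨r, hr⟩ := hg.exists_coeff t
  rw [← hr]
  refine Submodule.smul_mem _ _ (Submodule.subset_span ⟨secVal s ⊤, ?_⟩)
  exact res_secVal s le_top

end General

section Restr
variable {X Y : Scheme.{u}} (j : Y ⟶ X) [IsOpenImmersion j]

theorem genCover_of_restrict_surj {L : X.Modules} (hj : j.opensRange = ⊤)
    (h : GenCover (L.restrict j)) : GenCover L := by
  have hinv : PicF.IsInvertible L := isInvertible_of_restrict_surj j hj h.1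
  refine ⟨hinv, fun x => ?_⟩
  have hx : x ∈ j.opensRange := hj ▸ trivial
  obtain ⟨y, rfl⟩ := hx
  obtain ⟨s', hy⟩ := h.2 y
  have htop : (⊤ : X.Opens) ≤ j ''ᵁ ⊤ := by
    rw [Scheme.Hom.image_top_eq_opensRange, hj]
  let σ : Γ(L, j ''ᵁ ⊤) := secVal s' ⊤
  let s : Coh.structureModule X ⟶ L := TwistAmple.homOfSec L (QcCech.res L htop σ)
  have hcond : ∀ W' : Y.Opens,
      (show Γ(L, j ''ᵁ W') from secVal s' W') = secVal s (j ''ᵁ W') := by
    intro W'
    rw [secVal_homOfSec, QcCech.res_res, ← res_secVal s' (le_top : W' ≤ ⊤), res_restrict]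
  have h1 := genLocus_restrict_eq j s s' hcond
  refine ⟨s, ?_⟩
  have : y ∈ j ⁻¹ᵁ CohB1.genLocus L s := h1 ▸ hy
  exact this

end Restr

section Pull
variable {Z S : Scheme.{u}} (u : Z ⟶ S)

theorem genCover_pullback {L : S.Modules} (h : GenCover L) :
    GenCover ((Scheme.Modules.pullback u).obj L) := by
  refine ⟨isInvertible_pullback u h.1, fun z => ?_⟩
  obtain ⟨s, hs⟩ := h.2 (u z)
  refine ⟨(unitIso u).symm.hom ≫ (Scheme.Modules.pullback u).map s, ?_⟩
  rw [genLocus_pullback u h.1 s (unitIso u).symm]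
  exact hs

end Pull

section Alg
variable {A σ : Type u} [CommRing A] [SetLike σ A] [AddSubgroupClass σ A] (𝒜 : ℕ → σ) [GradedRing 𝒜]

set_option synthInstance.maxHeartbeats 400000 in
/-- with generation in degree one, `O(1)` on `Proj` is generated by its global sections -/
theorem genCover_twist_one
    (hunit : ∀ x : ProjectiveSpectrum 𝒜, ∃ g ∈ 𝒜 1, g ∉ x.asHomogeneousIdeal) :
    GenCover (GrTwist.twist 𝒜 ((1 : ℕ) : ℤ)) := by
  refine ⟨(VeryAmple.hasBase_twist_one 𝒜 hunit).1, fun x => ?_⟩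
  obtain ⟨a, ha, hax⟩ := hunit x
  have hunit' : ∀ y : ProjectiveSpectrum 𝒜, ∃ g' : 𝒜 1, (g' : A) ∉ y.asHomogeneousIdeal := by
    intro y
    obtain ⟨g, hg, hgy⟩ := hunit y
    exact ⟨⟨g, hg⟩, hgy⟩
  have hgl := GrTwAmple.genLocus_globalOf 𝒜 (⟨a, ha⟩ : 𝒜 1) hunit'
  refine ⟨GrTwAmple.homOfSec (GrTwist.twist 𝒜 ((1 : ℕ) : ℤ))
      (GrTwist.globalOf 𝒜 (⟨a, ha⟩ : 𝒜 1)), ?_⟩
  rw [hgl]
  exact (Proj.mem_basicOpen 𝒜 a x).2 hax

end Alg

section Rel
variable {Y : Scheme.{u}} {E : Y.Modules} {𝒮 : RelProj.QCGrAlg Y} {j : E ⟶ 𝒮.toModule}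
  {P : Scheme.{u}} {p : P ⟶ Y}
  {chart : ∀ (U : Y.Opens) (hU : IsAffineOpen U), ((p ⁻¹ᵁ U : P.Opens) : Scheme.{u}) ≅ Proj (𝒮.deg U hU)}

/-- the fundamental sheaf of a projective bundle is generated by global sections over affine
opens of the base -/
theorem genCover_restrict [E.IsQuasicoherent] (hj : RelProj.IsGrSymAlg E 𝒮 j) {O1 : P.Modules}
    {lam : ∀ (U : Y.Opens) (hU : IsAffineOpen U),
      O1 ⟶ (Scheme.Modules.pushforward (RelProj.emb p chart U hU)).obj
        (GrTwist.twist (𝒮.deg U hU) 1)}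
    (hO1 : RelProj.IsRelTwist 𝒮 p chart 1 O1 lam) (V : Y.Opens) (hV : IsAffineOpen V) :
    GenCover (O1.restrict (p ⁻¹ᵁ V).ι) := by
  have h1 : GenCover (GrTwist.twist (𝒮.deg V hV) ((1 : ℕ) : ℤ)) :=
    genCover_twist_one (𝒮.deg V hV) (VeryAmple.hunit_of_isGrSymAlg hj V hV)
  rw [Nat.cast_one] at h1
  obtain ⟨e⟩ := RP3.nonempty_restrict_emb_iso hO1 V hV
  have h2 : GenCover (O1.restrict (RelProj.emb p chart V hV)) := genCover_of_iso e.symm h1
  have e2 : O1.restrict (RelProj.emb p chart V hV) ≅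
      (O1.restrict (p ⁻¹ᵁ V).ι).restrict (chart V hV).inv :=
    (Scheme.Modules.restrictFunctorComp (chart V hV).inv (p ⁻¹ᵁ V).ι).app O1
  have h3 := genCover_of_iso e2 h2
  refine genCover_of_restrict_surj (chart V hV).inv ?_ h3
  apply Opens.ext
  exact Set.range_eq_univ.mpr (chart V hV).inv.homeomorph.surjective

/-- **S5725** -/
theorem main5725 {X : Scheme.{u}} (q : X ⟶ Y) (L : X.Modules)
    (h : RelProj.IsRelVeryAmple q L) :
    Epi ((Scheme.Modules.pullbackPushforwardAdjunction q).counit.app L) := by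
  obtain ⟨E, hE, 𝒮, j, hj, P, p, chart, hP, O1, lam, hO1, i, hi, hip, ⟨e⟩⟩ := h
  have : E.IsQuasicoherent := hE
  subst hip
  apply RelAmpleLib.epi_counit_of_cover
  intro x
  obtain ⟨_, ⟨V, hV, rfl⟩, hxV, -⟩ :=
    Y.isBasis_affineOpens.exists_subset_of_mem_open (Set.mem_univ ((i ≫ p) x)) isOpen_univ
  refine ⟨V, hV, hxV, ?_⟩
  set W : P.Opens := p ⁻¹ᵁ V with hW
  have h1 := genCover_pullback (i ∣_ W) (genCover_restrict hj hO1 V hV)
  have h2 := genCover_of_iso (PullAmple.restrictPullbackIso i W O1).symm h1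
  have h3 : GenCover (L.restrict (i ⁻¹ᵁ W).ι) :=
    genCover_of_iso ((Scheme.Modules.restrictFunctor (i ⁻¹ᵁ W).ι).mapIso e.symm) h2
  exact isGloballyGenerated h3

end Rel

end Groth.Agent.Helper1.GenCover
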