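import Mathlib
import Groth.Agent.Lib.Helper4.HHFin3
import Groth.Agent.Lib.Helper4.T2Main1

/-!
# Dimension counts in the long exact cohomology sequence (helper1)
-/

set_option autoImplicit false
universe u

open CategoryTheory CategoryTheory.Limits AlgebraicGeometry TopologicalSpace Opposite

namespace Groth.Agent.Helper1.NM

open Groth.Agent.Lib.Helper4

section Seq

/-- an eventually non-increasing sequence of natural numbers is eventually constant -/
theorem eventually_const_of_antitone (a : ℕ → ℕ) :
    ∀ (v n₁ : ℕ), a n₁ = v → (∀ n, n₁ ≤ n → a (n + 1) ≤ a n) →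
      ∃ n₂, n₁ ≤ n₂ ∧ ∀ n, n₂ ≤ n → a (n + 1) = a n := by
  intro v
  induction v using Nat.strong_induction_on with
  | _ v ih =>
    intro n₁ hv h
    by_cases hc : ∀ n, n₁ ≤ n → a (n + 1) = a n
    · exact ⟨n₁, le_rfl, hc⟩
    · push Not at hc
      obtain ⟨n, hn, hne⟩ := hc
      have hlt : a (n + 1) < a n := lt_of_le_of_ne (h n hn) hne
      have hmono : ∀ m, n₁ ≤ m → a m ≤ a n₁ := by
        intro m hm
        induction m, hm using Nat.le_induction with
        | base => exact le_rfl
        | succ m hm ih' => exact (h m hm).trans ih'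
      obtain ⟨n₂, hn₂, hc₂⟩ := ih (a (n + 1))
        (by rw [← hv]; exact lt_of_lt_of_le hlt (hmono n hn)) (n + 1) rfl
        (fun m hm => h m (by omega))
      exact ⟨n₂, by omega, hc₂⟩

end Seq

section LES

variable (k : Type u) [Field k] {X : Scheme.{u}} [X.Over (Spec (CommRingCat.of k))]
  {S : ShortComplex X.Modules} (hS : S.ShortExact)

include hS in
/-- vanishing of `H^q` and `H^{q+1}` of the quotient gives an isomorphism on `H^{q+1}` -/
theorem finrank_eq_of_subsingleton (q : ℕ) (h0 : Subsingleton (Coh.HH X S.X₃ q))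
    (h1 : Subsingleton (Coh.HH X S.X₃ (q + 1))) :
    Module.finrank k (Coh.HH X S.X₁ (q + 1)) = Module.finrank k (Coh.HH X S.X₂ (q + 1)) := by
  have hinj : Function.Injective (Canon.HHlin k S.f (q + 1)) := by
    refine (injective_iff_map_eq_zero _).2 fun x hx => ?_
    obtain ⟨y, rfl⟩ := HHFin3.exact_delta_f k hS q x hx
    rw [Subsingleton.elim y 0, map_zero]
  have hsurj : Function.Surjective (Canon.HHlin k S.f (q + 1)) := fun x =>
    HHFin2.exact_f_g k hS (q + 1) x (Subsingleton.elim _ _)
  exact (LinearEquiv.ofBijective (Canon.HHlin k S.f (q + 1)) ⟨hinj, hsurj⟩).finrank_eq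

include hS in
/-- vanishing of `H^q` of the quotient bounds `H^q` of the middle term -/
theorem finrank_le_of_subsingleton (q : ℕ) (h1 : Subsingleton (Coh.HH X S.X₃ q))
    [Module.Finite k (Coh.HH X S.X₁ q)] :
    Module.finrank k (Coh.HH X S.X₂ q) ≤ Module.finrank k (Coh.HH X S.X₁ q) := by
  have hsurj : Function.Surjective (Canon.HHlin k S.f q) := fun x =>
    HHFin2.exact_f_g k hS q x (Subsingleton.elim _ _)
  exact LinearMap.finrank_le_finrank_of_surjective hsurj

include hS in
/-- if `H^1` of the quotient vanishes and `H^1` of the sub and of the middle term have the same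
dimension, then global sections of the quotient lift -/
theorem surjective_g_zero (h1 : Subsingleton (Coh.HH X S.X₃ 1))
    [Module.Finite k (Coh.HH X S.X₁ 1)] [Module.Finite k (Coh.HH X S.X₂ 1)]
    (heq : Module.finrank k (Coh.HH X S.X₁ 1) = Module.finrank k (Coh.HH X S.X₂ 1)) :
    Function.Surjective (Canon.HHlin k S.g 0) := by
  have hsurj : Function.Surjective (Canon.HHlin k S.f 1) := fun x =>
    HHFin2.exact_f_g k hS 1 x (Subsingleton.elim _ _)
  have hinj : Function.Injective (Canon.HHlin k S.f 1) :=
    (LinearMap.injective_iff_surjective_of_finrank_eq_finrank heq).2 hsurj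
  intro x
  apply HHFin2.exact_g_delta k hS 0 x
  apply hinj
  rw [map_zero]
  exact HHFin3.f_delta k hS 0 x

end LES

end Groth.Agent.Helper1.NM
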