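import Mathlib
import Groth.Agent.Lib.Helper1.NM5
import Groth.Agent.Lib.Helper1.SecOps
import Groth.Agent.Lib.Helper1.GlobGenLoc
import Groth.Agent.Lib.Helper1.GenCover
import Groth.Agent.Lib.Helper5.Perf.LocLift
import Groth.Agent.Lib.Helper1.FinLen9
import Groth.Agent.Lib.Helper1.Dv8
import Groth.Agent.Lib.Helper1.Curve1

set_option autoImplicit false
universe u

open CategoryTheory CategoryTheory.Limits AlgebraicGeometry TopologicalSpace Opposite

namespace Groth.Agent.Helper1.NM

open Groth.Agent.Helper1.QcCech Groth.Agent.Helper1 Groth.Agent.Helper1.TwForm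
open Groth.Agent.Helper1.LGen Groth.Agent.Helper1.SecOps Groth.Agent.Helper1.AmpleLib

section NAK

variable {X : Scheme.{u}}

/-- a section that is a multiple of itself by a function vanishing at `x` vanishes near `x` -/
theorem res_eq_zero_of_eq_smul {M : X.Modules} {W : X.Opens} (b : Γ(M, W)) (g : Γ(X, W)) (x : X)
    (hxW : x ∈ W) (hg : x ∉ X.basicOpen g) (hb : b = g • b) :
    ∃ (W' : X.Opens) (h : W' ≤ W), x ∈ W' ∧ res M h b = 0 := by
  have hx1 : x ∈ X.basicOpen (1 - g) := by
    by_contra hcon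
    have h1 : x ∉ X.basicOpen ((1 - g) + g) := fun h =>
      (mem_basicOpen_add_cases (1 - g) g x h).elim hcon hg
    rw [sub_add_cancel, Scheme.basicOpen_one] at h1
    exact h1 hxW
  refine ⟨X.basicOpen (1 - g), X.basicOpen_le _, hx1, ?_⟩
  have hu : IsUnit (resR (X.basicOpen_le (1 - g)) (1 - g)) :=
    (GenLoc.isUnit_res_iff (1 - g) _ (X.basicOpen_le _)).2 le_rfl
  have h0 : (1 - g) • b = 0 := by
    rw [sub_smul, one_smul, ← hb, sub_self]
  have h1 : resR (X.basicOpen_le (1 - g)) (1 - g) • res M (X.basicOpen_le (1 - g)) b = 0 := by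
    rw [← res_smul, h0, map_zero]
  obtain ⟨v, hv⟩ := hu
  have h2 : (↑v⁻¹ : Γ(X, X.basicOpen (1 - g))) • (resR (X.basicOpen_le (1 - g)) (1 - g) •
      res M (X.basicOpen_le (1 - g)) b) = 0 := by
    rw [h1, smul_zero]
  rwa [← hv, smul_smul, Units.inv_mul, one_smul] at h2

/-- Nakayama: if global sections of an invertible module surject onto the global sections of a
globally generated quotient, then some global section generates at each point of the support of
the quotient -/
theorem exists_section_gen {M₂ M₃ : X.Modules} (hM₂ : PicF.IsInvertible M₂) (ψ : M₂ ⟶ M₃)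
    [Epi ψ] (hgg : Curv2.IsGloballyGenerated M₃)
    (hsurj : ∀ σ : Γ(M₃, ⊤), ∃ t : Γ(M₂, ⊤), ψ.app ⊤ t = σ)
    (x : X) (hx : x ∈ CohB1.support M₃) :
    ∃ t : Γ(M₂, ⊤), x ∈ CohB1.genLocus M₂ (TwistAmple.homOfSec M₂ t) := by
  by_contra hcon
  rw [not_exists] at hcon
  obtain ⟨W, a, hxW, ha⟩ := exists_isGen hM₂ x
  obtain ⟨I, p, hp⟩ := hgg
  set σ : I → Γ(M₃, ⊤) := fun i => (M₃.freeHomEquiv p i).1 (op ⊤) with hσ
  haveI : Epi (GlobGen.ofSections σ) := by
    rw [← GlobGen.eq_ofSections p]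
    exact hp
  set b : Γ(M₃, W) := ψ.app W a with hb
  obtain ⟨W', hW', hxW', hm⟩ := GlobGen.mem_loc_of_epi σ b x hxW
  have key : ∀ m : Γ(M₃, W'), m ∈ (GlobGen.spanPre σ).carrier W' →
      ∃ g : Γ(X, W'), x ∉ X.basicOpen g ∧ m = g • res M₃ hW' b := by
    intro m hm
    induction hm using Submodule.span_induction with
    | mem m hm =>
      obtain ⟨i, rfl⟩ := hm
      obtain ⟨t, ht⟩ := hsurj (σ i)
      obtain ⟨φ, hφ⟩ := ha.exists_coeff (res M₂ (le_top : W ≤ ⊤) t)
      have hφ' : φ • a = secVal (TwistAmple.homOfSec M₂ t) W := by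
        rw [secVal_homOfSec]
        exact hφ
      have hxφ : x ∉ X.basicOpen φ := fun h =>
        hcon t ((mem_genLocus_iff_of_isGen _ ha φ hφ' x hxW).2 h)
      refine ⟨resR hW' φ, ?_, ?_⟩
      · intro h
        have h2 : X.basicOpen (resR hW' φ) = W' ⊓ X.basicOpen φ :=
          Scheme.basicOpen_res X φ (homOfLE hW').op
        rw [h2] at h
        exact hxφ h.2
      · change res M₃ (le_top : W' ≤ ⊤) (σ i) = _
        rw [← ht, ← QcExt.app_res, ← res_res M₂ (le_top : W ≤ ⊤) hW' t, ← hφ, res_smul,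
          Scheme.Modules.Hom.app_smul, QcExt.app_res]
    | zero =>
      refine ⟨0, ?_, by rw [zero_smul]⟩
      rw [Scheme.basicOpen_zero]
      exact fun h => h
    | add m₁ m₂ _ _ h₁ h₂ =>
      obtain ⟨g₁, hg₁, e₁⟩ := h₁
      obtain ⟨g₂, hg₂, e₂⟩ := h₂
      refine ⟨g₁ + g₂, fun h => ?_, by rw [add_smul, ← e₁, ← e₂]⟩
      exact (mem_basicOpen_add_cases g₁ g₂ x h).elim hg₁ hg₂
    | smul r m _ h₁ =>
      obtain ⟨g₁, hg₁, e₁⟩ := h₁
      refine ⟨r * g₁, fun h => ?_, by rw [mul_smul, ← e₁]⟩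
      rw [Scheme.basicOpen_mul] at h
      exact hg₁ h.2
  obtain ⟨g, hg, hm'⟩ := key _ hm
  obtain ⟨W'', hW'', hxW'', hzero⟩ := res_eq_zero_of_eq_smul (res M₃ hW' b) g x hxW' hg hm'
  rw [res_res] at hzero
  apply hx
  constructor
  intro z₁ z₂
  have hz : ∀ z : ↑(M₃.presheaf.stalk x), z = 0 := by
    intro z
    obtain ⟨V, hxV, n, rfl⟩ := TopCat.Presheaf.exists_germ_eq M₃.presheaf z
    obtain ⟨V', hV', n', hxV', hn'⟩ :=
      Groth.Agent.Lib.Helper5.LocLift.exists_local_lift ψ (V ⊓ W'')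
        (res M₃ (inf_le_left : V ⊓ W'' ≤ V) n) x ⟨hxV, hxW''⟩
    have hV'W : V' ≤ W := (hV'.trans inf_le_right).trans (hW''.trans hW')
    obtain ⟨r, hr⟩ := (ha.res hV'W).exists_coeff n'
    have h1 : ψ.app V' n' = 0 := by
      rw [← hr, Scheme.Modules.Hom.app_smul, QcExt.app_res]
      have : res M₃ hV'W b = res M₃ (hV'.trans inf_le_right) (res M₃ (hW''.trans hW') b) := by
        rw [res_res]
      rw [this, hzero, map_zero, smul_zero]
    have h2 : res M₃ (hV'.trans inf_le_left) n = 0 := by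
      rw [← res_res M₃ (inf_le_left : V ⊓ W'' ≤ V) hV' n]
      exact hn'.symm.trans h1
    have e1 := TopCat.Presheaf.germ_res_apply M₃.presheaf (homOfLE (hV'.trans inf_le_left)) x
      hxV' n
    rw [← e1]
    change (M₃.presheaf.germ V' x hxV') (res M₃ (hV'.trans inf_le_left) n) = 0
    rw [h2, map_zero]
  rw [hz z₁, hz z₂]

end NAK

section Supp

variable {X : Scheme.{u}}

/-- tensoring with an invertible module does not shrink the support -/
theorem mem_support_tensor {C N : X.Modules} (hN : PicF.IsInvertible N) (x : X)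
    (hx : x ∈ CohB1.support C) : x ∈ CohB1.support (CohB1.tensorMod C N) := by
  rw [Dv.support_iso (TildeTens.tensorModComm C N)]
  intro hsub
  have hlen := FinLen.length_stalk_tensor (Curve.isFinLocFreeOfRank_one hN) C x
  rw [Module.length_eq_zero_iff.2 hsub, Nat.cast_one, one_mul] at hlen
  exact hx (Module.length_eq_zero_iff.1 hlen.symm)

/-- away from the support of its cokernel, a section of an invertible module generates -/
theorem mem_genLocus_of_notMem_support_cokernel {G : X.Modules} (hG : PicF.IsInvertible G)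
    (s : Coh.structureModule X ⟶ G) [Mono s] (x : X)
    (hx : x ∉ CohB1.support (cokernel s)) : x ∈ CohB1.genLocus G s := by
  obtain ⟨W, a, hxW, ha⟩ := exists_isGen hG x
  obtain ⟨φ, hφ⟩ := ha.exists_coeff (secVal s W)
  rw [mem_genLocus_iff_of_isGen s ha φ hφ x hxW]
  have hsub : Subsingleton ↑((cokernel s).presheaf.stalk x) := not_not.1 hx
  set c : Γ(cokernel s, W) := (cokernel.π s).app W a with hc
  have h1 : (cokernel s).presheaf.germ W x hxW c = (cokernel s).presheaf.germ W x hxW 0 :=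
    Subsingleton.elim _ _
  obtain ⟨W', hxW', iU, iV, e⟩ :=
    TopCat.Presheaf.germ_eq (cokernel s).presheaf x hxW hxW _ _ h1
  have hW'W : W' ≤ W := leOfHom iU
  have e' : res (cokernel s) hW'W c = 0 := by
    have h2 : (cokernel s).presheaf.map iV.op (0 : Γ(cokernel s, W)) = 0 := map_zero _
    rw [h2] at e
    exact e
  let S : ShortComplex X.Modules := ShortComplex.mk s (cokernel.π s) (cokernel.condition s)
  have hS : S.Exact := ShortComplex.exact_cokernel s
  haveI : Mono S.f := inferInstanceAs (Mono s)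
  obtain ⟨y, hy⟩ := QcAbel.app_exact' hS W' (res G hW'W a) (by
    change (cokernel.π s).app W' (res G hW'W a) = 0
    rw [QcExt.app_res]
    exact e')
  let y' : Γ(X, W') := y
  have hy' : s.app W' y = y' • secVal s W' := app_eq_smul s W' y'
  have h3 : (y' * resR hW'W φ) • res G hW'W a = (1 : Γ(X, W')) • res G hW'W a := by
    rw [one_smul, mul_smul, ← res_smul, hφ, res_secVal, ← hy']
    exact hy
  have h4 : y' * resR hW'W φ = 1 := (ha W' hW'W).1 h3
  have hu : IsUnit (resR hW'W φ) := IsUnit.of_mul_eq_one_right _ h4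
  exact (GenLoc.isUnit_res_iff φ W' hW'W).1 hu hxW'

end Supp

end Groth.Agent.Helper1.NM
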