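import Mathlib
import Groth.Agent.Lib.Helper1.NM7
import Groth.Agent.Lib.Helper1.FinSupp1
import Groth.Agent.S1705
import Groth.Agent.S1576

/-!
# Vanishing of `H⁰` of very negative twists: preliminaries (helper1)
-/

set_option autoImplicit false
universe u

open CategoryTheory CategoryTheory.Limits AlgebraicGeometry TopologicalSpace Opposite
open scoped TensorProduct

namespace Groth.Agent.Helper1.NegVan

open Groth.Agent.Helper1.QcCech Groth.Agent.Helper1 Groth.Agent.Helper1.TwForm
open Groth.Agent.Helper1.LGen Groth.Agent.Helper1.SecOps Groth.Agent.Helper1.AmpleLib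
open Groth.Agent.Lead Groth.Agent.Helper1.Dv
  Groth.Agent.Lib.Helper5.StalkAdj Groth.Agent.Lib.Helper5.StalkFree Groth.Agent.Lib.Helper5.StalkTenS

section Ass

variable {X : Scheme.{u}}

/-- associated points are invariant under isomorphisms -/
theorem isAssPoint_iso {M N : X.Modules} (e : M ≅ N) (x : X) :
    Curv2.IsAssPoint M x ↔ Curv2.IsAssPoint N x :=
  LinearEquiv.isAssociatedPrime_iff
    (LinearEquiv.ofBijective (stalkL e.hom x) (stalkL_bijective_of_isIso e.hom x))

/-- tensoring with a locally free module of rank one on the left does not change the associated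
points -/
theorem isAssPoint_tensor_left {N : X.Modules} (hN : FlatMod.IsFinLocFreeOfRank 1 N)
    (F : X.Modules) (x : X) :
    Curv2.IsAssPoint (CohB1.tensorMod N F) x ↔ Curv2.IsAssPoint F x := by
  have hff := free_finite_stalk_of_isFinLocFree N (FinLen.isFinLocFree_of_rank hN) x
  haveI := hff.1
  haveI := hff.2
  have hr := FinLen.finrank_stalk_of_rank hN x
  let b := Module.finBasisOfFinrankEq (X.presheaf.stalk x) ((stalkSh X x).obj N) hr
  let eE : ((stalkSh X x).obj N) ≃ₗ[X.presheaf.stalk x] (Fin 1 → X.presheaf.stalk x) :=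
    b.equivFun
  have e0 : ((stalkSh X x).obj (CohB1.tensorMod N F)) ≃ₗ[X.presheaf.stalk x]
      (((stalkSh X x).obj N) ⊗[X.presheaf.stalk x] ((stalkSh X x).obj F)) :=
    (stalkTensorIsoS X x N F).toLinearEquiv
  have e4 : (((stalkSh X x).obj N) ⊗[X.presheaf.stalk x] ((stalkSh X x).obj F))
      ≃ₗ[X.presheaf.stalk x] (Fin 1 → (stalkSh X x).obj F) :=
    TensorProduct.congr eE (LinearEquiv.refl _ _) ≪≫ₗ TensorProduct.comm _ _ _ ≪≫ₗ
      TensorProduct.piScalarRight (X.presheaf.stalk x) (X.presheaf.stalk x)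
        ((stalkSh X x).obj F) (Fin 1)
  have e5 : (Fin 1 → (stalkSh X x).obj F) ≃ₗ[X.presheaf.stalk x] (stalkSh X x).obj F :=
    LinearEquiv.funUnique (Fin 1) (X.presheaf.stalk x) _
  exact LinearEquiv.isAssociatedPrime_iff (e0 ≪≫ₗ e4 ≪≫ₗ e5)

/-- tensoring with an invertible module does not change the associated points -/
theorem isAssPoint_tensor_right {N : X.Modules} (hN : PicF.IsInvertible N) (F : X.Modules)
    (x : X) : Curv2.IsAssPoint (CohB1.tensorMod F N) x ↔ Curv2.IsAssPoint F x :=
  (isAssPoint_iso (TildeTens.tensorModComm F N) x).trans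
    (isAssPoint_tensor_left (Curve.isFinLocFreeOfRank_one hN) F x)

/-- a nonzero global section of a quasi-coherent module on a locally noetherian scheme has a
nonzero germ at some associated point -/
theorem exists_assPoint_germ_ne_zero [IsLocallyNoetherian X] (G : X.Modules)
    (hG : Coh.IsQCoh G) (t : Γ(G, ⊤)) (ht : t ≠ 0) :
    ∃ x : X, Curv2.IsAssPoint G x ∧ G.presheaf.germ ⊤ x trivial t ≠ 0 := by
  by_contra hcon0
  have hcon : ∀ x : X, Curv2.IsAssPoint G x → G.presheaf.germ ⊤ x trivial t = 0 := fun x hx => by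
    by_contra h
    exact hcon0 ⟨x, hx, h⟩
  have hopen : IsOpen {x : X | G.presheaf.germ ⊤ x trivial t = 0} := by
    rw [isOpen_iff_forall_mem_open]
    intro x hx
    have h1 : G.presheaf.germ ⊤ x trivial t = G.presheaf.germ ⊤ x trivial 0 :=
      (show G.presheaf.germ ⊤ x trivial t = 0 from hx).trans (map_zero _).symm
    obtain ⟨W, hxW, iU, iV, e⟩ := TopCat.Presheaf.germ_eq G.presheaf x (show x ∈ (⊤ : X.Opens) from trivial)
      (show x ∈ (⊤ : X.Opens) from trivial) _ _ h1
    refine ⟨W, ?_, W.isOpen, hxW⟩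
    intro y hy
    have e' : res G iU.le t = 0 := by
      refine e.trans ?_
      exact map_zero _
    have h3 := TopCat.Presheaf.germ_res_apply G.presheaf (homOfLE iU.le) y hy t
    change G.presheaf.germ ⊤ y trivial t = 0
    rw [← h3]
    change G.presheaf.germ W y hy (res G iU.le t) = 0
    rw [e', map_zero]
  let V : X.Opens := ⟨{x : X | G.presheaf.germ ⊤ x trivial t = 0}, hopen⟩
  have hinj := Groth.Agent.S1705.result X G hG V (fun x hx => hcon x hx)
  apply ht
  apply hinj
  have h0 : (G.presheaf.map (homOfLE (le_top : V ≤ ⊤)).op) (0 : Γ(G, ⊤)) = 0 := map_zero _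
  rw [h0]
  apply FinSupp.eq_of_germ_eq G V
  intro x hx
  have h3 := TopCat.Presheaf.germ_res_apply G.presheaf (homOfLE (le_top : V ≤ ⊤)) x hx t
  rw [map_zero]
  exact h3.trans hx

end Ass

section Jac

/-- in a Jacobson space, the closure of a non-closed point contains infinitely many closed points -/
theorem infinite_closedPoints_closure {X : Type*} [TopologicalSpace X] [JacobsonSpace X] (ξ : X)
    (hξ : ¬ IsClosed ({ξ} : Set X)) : (closure ({ξ} : Set X) ∩ closedPoints X).Infinite := by
  intro hfin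
  have h1 := JacobsonSpace.closure_inter_closedPoints (X := X)
    (isClosed_closure : IsClosed (closure ({ξ} : Set X)))
  have h2 : IsClosed (closure ({ξ} : Set X) ∩ closedPoints X) := by
    rw [← Set.biUnion_of_singleton (closure ({ξ} : Set X) ∩ closedPoints X)]
    exact hfin.isClosed_biUnion (fun x hx => hx.2)
  rw [h2.closure_eq] at h1
  have h3 : ξ ∈ closure ({ξ} : Set X) ∩ closedPoints X := by
    rw [h1]
    exact subset_closure rfl
  exact hξ h3.2

theorem exists_closedPoints {X : Type*} [TopologicalSpace X] [JacobsonSpace X] (ξ : X)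
    (hξ : ¬ IsClosed ({ξ} : Set X)) (m : ℕ) :
    ∃ p : Fin m → X, Function.Injective p ∧
      ∀ j, IsClosed ({p j} : Set X) ∧ p j ∈ closure ({ξ} : Set X) := by
  have hinf := infinite_closedPoints_closure ξ hξ
  let emb := hinf.natEmbedding _
  refine ⟨fun j => (emb j).1, ?_, fun j => ⟨(emb j).2.2, (emb j).2.1⟩⟩
  intro a b hab
  have h1 : emb (a : ℕ) = emb (b : ℕ) := Subtype.ext hab
  exact Fin.ext (emb.injective h1)

end Jac

section Secs

variable {X : Scheme.{u}}

/-- tensoring with an invertible module does not enlarge the support -/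
theorem support_tensor_subset {C N : X.Modules} (hN : PicF.IsInvertible N) (x : X)
    (hx : x ∈ CohB1.support (CohB1.tensorMod C N)) : x ∈ CohB1.support C := by
  rw [Dv.support_iso (TildeTens.tensorModComm C N)] at hx
  intro hsub
  apply hx
  have hlen := FinLen.length_stalk_tensor (Curve.isFinLocFreeOfRank_one hN) C x
  rw [Module.length_eq_zero_iff.2 hsub, mul_zero] at hlen
  exact Module.length_eq_zero_iff.1 hlen

/-- naturality of `homOfSec` -/
theorem homOfSec_comp {M N : X.Modules} (φ : M ⟶ N) (s : Γ(M, ⊤)) :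
    TwistAmple.homOfSec M s ≫ φ = TwistAmple.homOfSec N (φ.app ⊤ s) := by
  apply Scheme.Modules.hom_ext
  intro U
  ext r
  have h1 := TwistAmple.homOfSec_app M s U r
  have h2 := TwistAmple.homOfSec_app N (φ.app ⊤ s) U r
  change φ.app U ((TwistAmple.homOfSec M s).app U r) = (TwistAmple.homOfSec N (φ.app ⊤ s)).app U r
  rw [h1, h2, Scheme.Modules.Hom.app_smul]
  congr 1
  exact QcExt.app_res φ (le_top : U ≤ ⊤) s

/-- the image of a span of global sections -/
theorem app_mem_spanPre {M N : X.Modules} (φ : M ⟶ N) {ι : Type*} (s : ι → Γ(M, ⊤))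
    (U : X.Opens) (m : Γ(M, U)) (hm : m ∈ (GlobGen.spanPre s).carrier U) :
    φ.app U m ∈ (GlobGen.spanPre (fun i => φ.app ⊤ (s i))).carrier U := by
  induction hm using Submodule.span_induction with
  | mem m hm =>
    obtain ⟨i, rfl⟩ := hm
    apply Submodule.subset_span
    refine ⟨i, ?_⟩
    change res N (le_top : U ≤ ⊤) (φ.app ⊤ (s i)) = φ.app U (res M (le_top : U ≤ ⊤) (s i))
    rw [QcExt.app_res]
  | zero =>
    rw [map_zero]
    exact Submodule.zero_mem _
  | add m₁ m₂ _ _ h₁ h₂ =>
    rw [map_add]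
    exact Submodule.add_mem _ h₁ h₂
  | smul r m _ h₁ =>
    rw [Scheme.Modules.Hom.app_smul]
    exact Submodule.smul_mem _ r h₁

theorem notMem_basicOpen_sum {ι : Type*} [DecidableEq ι] {W : X.Opens} (s : Finset ι)
    (f : ι → Γ(X, W)) (x : X) (h : ∀ j ∈ s, x ∉ X.basicOpen (f j)) :
    x ∉ X.basicOpen (∑ j ∈ s, f j) := by
  induction s using Finset.induction_on with
  | empty =>
    rw [Finset.sum_empty, Scheme.basicOpen_zero]
    exact fun h => h
  | insert j s hj ih =>
    rw [Finset.sum_insert hj]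
    intro hx
    rcases mem_basicOpen_add_cases _ _ x hx with h' | h'
    · exact h j (Finset.mem_insert_self j s) h'
    · exact ih (fun j' hj' => h j' (Finset.mem_insert_of_mem hj')) h'

/-- a linear combination of sections, one of which generates at `x` with invertible coefficient
while the others vanish at `x`, generates at `x` -/
theorem mem_genLocus_sum {N : X.Modules} (hN : PicF.IsInvertible N) {ι : Type*} [Fintype ι]
    [DecidableEq ι] (σ : ι → (Coh.structureModule X ⟶ N)) (r : ι → Γ(X, ⊤)) (j₀ : ι)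
    (hr : IsUnit (r j₀)) (x : X) (h1 : x ∈ CohB1.genLocus N (σ j₀))
    (h2 : ∀ j, j ≠ j₀ → x ∉ CohB1.genLocus N (σ j)) :
    x ∈ CohB1.genLocus N (TwistAmple.homOfSec N (∑ j, r j • secVal (σ j) ⊤)) := by
  obtain ⟨W, a, hxW, ha⟩ := exists_isGen hN x
  choose φ hφ using fun j => ha.exists_coeff (secVal (σ j) W)
  have hψa : (∑ j, resR (le_top : W ≤ ⊤) (r j) * φ j) • a =
      secVal (TwistAmple.homOfSec N (∑ j, r j • secVal (σ j) ⊤)) W := by
    rw [secVal_homOfSec, map_sum, Finset.sum_smul]
    refine Finset.sum_congr rfl fun j _ => ?_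
    rw [res_smul, res_secVal, mul_smul, hφ]
  rw [mem_genLocus_iff_of_isGen _ ha _ hψa x hxW]
  have hj₀ : x ∈ X.basicOpen (resR (le_top : W ≤ ⊤) (r j₀) * φ j₀) := by
    rw [Scheme.basicOpen_mul]
    refine ⟨?_, (mem_genLocus_iff_of_isGen (σ j₀) ha (φ j₀) (hφ j₀) x hxW).1 h1⟩
    rw [Scheme.basicOpen_of_isUnit _ (hr.map (resR (le_top : W ≤ ⊤)))]
    exact hxW
  have hrest : x ∉ X.basicOpen
      (∑ j ∈ Finset.univ.erase j₀, resR (le_top : W ≤ ⊤) (r j) * φ j) := by
    apply notMem_basicOpen_sum
    intro j hj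
    rw [Scheme.basicOpen_mul]
    intro h
    exact h2 j (Finset.ne_of_mem_erase hj)
      ((mem_genLocus_iff_of_isGen (σ j) ha (φ j) (hφ j) x hxW).2 h.2)
  rw [← Finset.add_sum_erase Finset.univ _ (Finset.mem_univ j₀)]
  exact mem_basicOpen_add _ _ x hj₀ hrest

end Secs

end Groth.Agent.Helper1.NegVan
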