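import Mathlib
import Groth.Agent.Lib.Helper1.SnapCyc2

/-!
# Intersection with an effective Cartier divisor (helper1)
-/

set_option autoImplicit false
universe u
open CategoryTheory CategoryTheory.Limits AlgebraicGeometry TopologicalSpace Opposite

namespace Groth.Agent.Helper1.Snap

open Groth.Agent.Helper1 Groth.Agent.Helper1.Euler Groth.Agent.Helper1.Dv
open Groth.Agent.Helper1.FinLen Groth.Agent.Helper1.TwForm Groth.Agent.Helper1.Curve
open Groth.Agent.Helper1.SnapAlg

section Cons
variable {X : Scheme.{u}}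

theorem tensorPows_cons (F : X.Modules) :
    ∀ (r : ℕ) (L : Fin (r + 1) → X.Modules) (n : Fin (r + 1) → ℕ),
      Curv2.tensorPows F (r + 1) L n =
        Curv2.tensorPows (CohB1.tensorMod F (CohB1.tensorPow (L 0) (n 0))) r
          (fun i => L i.succ) (fun i => n i.succ)
  | 0, _, _ => rfl
  | r + 1, L, n => by
    change CohB1.tensorMod
      (Curv2.tensorPows F (r + 1) (fun i => L i.castSucc) (fun i => n i.castSucc))
      (CohB1.tensorPow (L (Fin.last (r + 1))) (n (Fin.last (r + 1)))) = _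
    rw [tensorPows_cons F r (fun i => L i.castSucc) (fun i => n i.castSucc)]
    rfl

end Cons

variable (k : Type u) [Field k] (X : Scheme.{u}) [X.Over (Spec (CommRingCat.of k))]
  [IsProper (X ↘ (Spec (CommRingCat.of k)))] [IsNoetherian X]

theorem euler_tensorPows_cons (e : ℕ) (L : Fin (e + 1) → X.Modules)
    (hL : ∀ j, PicF.IsInvertible (L j)) (m : ℕ) (n' : Fin e → ℕ) :
    Curv2.euler k X (Curv2.tensorPows (Coh.structureModule X) (e + 1) L (Fin.cons m n')) =
      eulerHom k X (Tn e (fun i => L i.succ) (fun i => hL i.succ) n'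
        (((T (L 0) (hL 0)) ^ m) (KZero.clSub (PC X) (Coh.structureModule X)))) := by
  have hOc := isCoh_structureModule X
  have hcoh : Coh.IsCoh (CohB1.tensorMod (Coh.structureModule X) (CohB1.tensorPow (L 0) m)) :=
    isCoh_tensor _ _ hOc (InvQc.isCoh_of_isInvertible _ (isInvertible_tensorPow (hL 0) m))
  rw [tensorPows_cons]
  change Curv2.euler k X (Curv2.tensorPows
    (CohB1.tensorMod (Coh.structureModule X) (CohB1.tensorPow (L 0) m)) e
    (fun i => L i.succ) n') = _
  rw [← eulerHom_clSub k X _ (isCoh_tensorPows _ hcoh e _ (fun i => hL i.succ) n'),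
    clSub_tensorPows _ hcoh e _ (fun i => hL i.succ) n',
    clSub_tensor_tensorPow (L 0) (hL 0) _ hOc m]

theorem effCartier_main (e : ℕ) (hX : topologicalKrullDim X = e + 1) (D : X.IdealSheafData)
    (L : Fin (e + 1) → X.Modules) (hL : ∀ j, PicF.IsInvertible (L j))
    (hLD : ClSub.IsInverseOf (L 0) (ClSub.idealMod D))
    (P : MvPolynomial (Fin (e + 1)) ℚ) (Q : MvPolynomial (Fin e) ℚ)
    (hP : ∀ n : Fin (e + 1) → ℕ, (Curv2.euler k X (Curv2.tensorPows (Coh.structureModule X) (e + 1) L n) : ℚ) = MvPolynomial.eval (fun i => (n i : ℚ)) P)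
    (hQ : ∀ n : Fin e → ℕ, (Curv2.euler k X (Curv2.tensorPows (ClSub.quotMod D) e (fun j => L j.succ) n) : ℚ) = MvPolynomial.eval (fun i => (n i : ℚ)) Q) :
    MvPolynomial.coeff (ones (e + 1)) P = MvPolynomial.coeff (ones e) Q := by
  classical
  have hL' : ∀ i : Fin e, PicF.IsInvertible (L i.succ) := fun i => hL i.succ
  set T0 := T (L 0) (hL 0) with hT0
  have hOc := isCoh_structureModule X
  have hIc : Coh.IsCoh (ClSub.idealMod D) := CurveDual.isCoh_idealMod D
  have hQc := CurveDual.isCoh_quotMod D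
  set o := KZero.clSub (PC X) (Coh.structureModule X) with ho
  set x := KZero.clSub (PC X) (ClSub.idealMod D) with hx
  set q := KZero.clSub (PC X) (ClSub.quotMod D) with hq
  have hrel : o = x + q := clSub_ses (IdealModL.S D) (CurveDual.shortExact_S D) hIc hOc hQc
  have hT0x : T0 x = o := by
    obtain ⟨i⟩ := hLD
    rw [hT0, hx, T_clSub (L 0) (hL 0) _ hIc]
    exact clSub_iso i.symm hOc
  have hdimX : ∀ S : Set X, topologicalKrullDim ↥S ≤ ((e + 1 : ℕ) : WithBot ℕ∞) := by
    intro S
    refine (topologicalKrullDim_subspace_le X S).trans ?_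
    rw [hX]
    push_cast
    rfl
  obtain ⟨P', hP'd, hP'⟩ := snapper k X _ hOc (e + 1) (hdimX _) (e + 1) L hL
  have hPP' : P = P' := eq_of_eval_nat_eq P P' (fun n => (hP n).symm.trans (hP' n))
  have hPd : P.totalDegree ≤ e + 1 := hPP' ▸ hP'd
  obtain ⟨Q', -, hQ'e, hQ'c⟩ := topCoeff_diff e P hPd
  have hxmem : x ∈ FilLT X (e + 1 + 1) := clSub_mem_FilLT (e + 1) _ hIc (hdimX _)
  set D0 : AddMonoid.End (KZero.K0sub (PC X)) := T0 - 1 with hD0
  have hy : (D0 ^ 2) x ∈ FilLT X e := by
    have := pow_sub_one_mem (L 0) (hL 0) (e + 1 + 1) x hxmem 2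
    simpa using this
  have hyx : (D0 ^ 2) x = T0 o - o - q := by
    rw [pow_two]
    change D0 (D0 x) = _
    have hsub : ∀ z, D0 z = T0 z - z := fun z => rfl
    rw [hsub, hsub, map_sub, hT0x, hrel]
    abel
  obtain ⟨R, hR, hRe⟩ := poly_of_mem_FilLT k X e (fun i => L i.succ) hL' e _ hy
  have hpoly : Q' - Q = R := by
    apply eq_of_eval_nat_eq
    intro n'
    have h1 := cons_cast 1 n'
    have h0 := cons_cast 0 n'
    rw [Nat.cast_one] at h1
    rw [Nat.cast_zero] at h0
    rw [← hRe n', map_sub, hQ'e, h1, h0, ← hP, ← hP, ← hQ n', hyx, map_sub, map_sub, map_sub,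
      map_sub, euler_tensorPows_cons k X e L hL 1 n', euler_tensorPows_cons k X e L hL 0 n',
      pow_one, pow_zero,
      ← eulerHom_clSub k X _ (isCoh_tensorPows _ hQc e _ hL' n'),
      clSub_tensorPows _ hQc e _ hL' n']
    push_cast
    rfl
  have hRc : MvPolynomial.coeff (ones e) R = 0 := by
    rw [← MvPolynomial.notMem_support_iff]
    intro hmem
    have := hR _ hmem
    have h2 : ((ones e).sum fun _ e => e) = e := ones_degree e
    omega
  have hcoef := congrArg (MvPolynomial.coeff (ones e)) hpoly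
  rw [hRc, MvPolynomial.coeff_sub, sub_eq_zero] at hcoef
  rw [← hQ'c, hcoef]

end Groth.Agent.Helper1.Snap
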