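import Mathlib
import Groth.Agent.Lib.Helper1.FGAInt3
import Groth.Agent.Lib.Helper1.SnapCart1
import Groth.Agent.Lib.Helper1.NegVan1
import Groth.Agent.Lib.Helper1.CurveLin1
import Groth.Agent.Lib.Helper1.CurveDual2
import Groth.Agent.Lib.Helper5.StalkTen.StalkTenS
import Groth.Agent.S1704
import Groth.Agent.S8914

/-!
# Intersection symbol with an effective Cartier divisor, general coherent module (helper1)
-/

set_option autoImplicit false
universe u
open CategoryTheory CategoryTheory.Limits AlgebraicGeometry TopologicalSpace Opposite MonoidalCategory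

namespace Groth.Agent.Helper1.SnapCart2

open Groth.Agent.Helper1 Groth.Agent.Helper1.Euler Groth.Agent.Helper1.Dv
open Groth.Agent.Helper1.FinLen Groth.Agent.Helper1.TwForm Groth.Agent.Helper1.Curve
open Groth.Agent.Helper1.Snap Groth.Agent.Helper1.FGAInt Groth.Agent.Helper1.NegVan
open Groth.Agent.Lib.Helper5.StalkAdj Groth.Agent.Lib.Helper5.StalkTenS

section Mono

variable {X : Scheme.{u}}

/-- the map `F ⊗ I_D → F ⊗ O` -/
noncomputable abbrev tι (D : X.IdealSheafData) (F : X.Modules) :
    CohB1.tensorMod F (ClSub.idealMod D) ⟶ CohB1.tensorMod F (Coh.structureModule X) :=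
  (DCoh.tensorBi.obj F).map (ClSub.idealModι D)

theorem stalkL_idealModι_bijective (D : X.IdealSheafData) (x : X)
    (hx : x ∉ (D.support : Set X)) :
    Function.Bijective (stalkL (ClSub.idealModι D) x) := by
  constructor
  · exact stalkL_injective_of_mono _ x
  · have h0 : IsZero ((stalkSh X x).obj (ClSub.quotMod D)) := by
      rw [isZero_stalkSh_iff]
      exact fun h => hx (CurveDual.support_quotMod_subset D h)
    have hS' : ((IdealModL.S D).map (stalkSh X x)).Exact :=
      (IdealModL.S_exact D).map (stalkSh X x)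
    intro y
    haveI : Subsingleton ↑((IdealModL.S D).map (stalkSh X x)).X₃ :=
      ModuleCat.subsingleton_of_isZero h0
    exact (ShortComplex.moduleCat_exact_iff _).1 hS' y (Subsingleton.elim _ _)

theorem stalkL_tι_injective_of_notMem (D : X.IdealSheafData) (F : X.Modules) (x : X)
    (hx : x ∉ (D.support : Set X)) : Function.Injective (stalkL (tι D F) x) := by
  have hb := stalkL_idealModι_bijective D x hx
  haveI : IsIso ((stalkSh X x).map (ClSub.idealModι D)) :=
    (ConcreteCategory.isIso_iff_bijective _).2 hb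
  have hnat := stalkTensorIsoS_naturality_right (x := x) F (ClSub.idealModι D)
  have heq : (stalkSh X x).map ((DCoh.tensorBi.obj F).map (ClSub.idealModι D)) =
      (stalkTensorIsoS X x F _).hom ≫
        ((stalkSh X x).obj F ◁ (stalkSh X x).map (ClSub.idealModι D)) ≫
          (stalkTensorIsoS X x F _).inv := by
    rw [← Category.assoc, ← hnat, Category.assoc, Iso.hom_inv_id, Category.comp_id]
  haveI : IsIso ((stalkSh X x).map (tι D F)) := by
    change IsIso ((stalkSh X x).map ((DCoh.tensorBi.obj F).map (ClSub.idealModι D)))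
    rw [heq]; infer_instance
  haveI : Mono ((stalkSh X x).map (tι D F)) := inferInstance
  exact (ModuleCat.mono_iff_injective ((stalkSh X x).map (tι D F))).1 inferInstance

/-- if no associated point of `F` lies on `D`, then `F ⊗ I_D → F ⊗ O` is a monomorphism -/
theorem mono_tι [IsLocallyNoetherian X] (D : X.IdealSheafData)
    (hDinv : PicF.IsInvertible (ClSub.idealMod D)) (F : X.Modules) (hF : Coh.IsCoh F)
    (hass : ∀ x ∈ (D.support : Set X), ¬ Curv2.IsAssPoint F x) : Mono (tι D F) := by
  have hIc : Coh.IsCoh (ClSub.idealMod D) := CurveDual.isCoh_idealMod D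
  have hFI := isCoh_tensor _ _ hF hIc
  have hFO := isCoh_tensor _ _ hF (isCoh_structureModule X)
  haveI := hFI.1
  haveI := hFO.1
  apply Preadditive.mono_of_isZero_kernel
  have hKq : Coh.IsQCoh (kernel (tι D F)) := QcAbel.isQuasicoherent_kernel (tι D F)
  rw [Groth.Agent.S1704.result X _ hKq]
  intro x hxK
  have hinjK := stalkL_injective_of_mono (kernel.ι (tι D F)) x
  have ha : Curv2.IsAssPoint (CohB1.tensorMod F (ClSub.idealMod D)) x :=
    IsAssociatedPrime.map_of_injective (f := stalkL (kernel.ι (tι D F)) x) hxK hinjK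
  have hb : Curv2.IsAssPoint F x := (isAssPoint_tensor_right hDinv F x).1 ha
  by_cases hxD : x ∈ (D.support : Set X)
  · exact hass x hxD hb
  · have hinj := stalkL_tι_injective_of_notMem D F x hxD
    have hzero : ∀ v, stalkL (kernel.ι (tι D F)) x v = 0 := by
      intro v
      apply hinj
      rw [map_zero, ← LinearMap.comp_apply, ← stalkL_comp, kernel.condition]
      change ((stalkSh X x).map (0 : kernel (tι D F) ⟶ _)).hom v = 0
      rw [Functor.map_zero]
      rfl
    haveI : Subsingleton ((kernel (tι D F)).presheaf.stalk x) :=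
      subsingleton_of_forall_eq 0 fun v => hinjK ((hzero v).trans (map_zero _).symm)
    have hempty := associatedPrimes.eq_empty_of_subsingleton
      (R := X.presheaf.stalk x) (M := (kernel (tι D F)).presheaf.stalk x)
    have : IsLocalRing.maximalIdeal (X.presheaf.stalk x) ∈
        associatedPrimes (X.presheaf.stalk x) ((kernel (tι D F)).presheaf.stalk x) := hxK
    rw [hempty] at this
    exact this

end Mono

section Main

variable (k : Type u) [Field k] (X : Scheme.{u}) [X.Over (Spec (CommRingCat.of k))]
  [IsProper (X ↘ (Spec (CommRingCat.of k)))] [IsNoetherian X]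

omit [X.Over (Spec (CommRingCat.of k))] [IsProper (X ↘ (Spec (CommRingCat.of k)))] in
theorem T_congr {L L' : X.Modules} (h : L = L') (hL : PicF.IsInvertible L)
    (hL' : PicF.IsInvertible L') : T L hL = T L' hL' := by
  subst h; rfl

omit [X.Over (Spec (CommRingCat.of k))] [IsProper (X ↘ (Spec (CommRingCat.of k)))] in
theorem opM_snoc {r : ℕ} (M : Fin r → X.Modules) (hM : ∀ i, PicF.IsInvertible (M i))
    (A : X.Modules) (hA : PicF.IsInvertible A)
    (hMA : ∀ i, PicF.IsInvertible ((Fin.snoc M A : Fin (r + 1) → X.Modules) i)) :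
    opM X (Fin.snoc M A : Fin (r + 1) → X.Modules) hMA = opM X M hM * (1 - T A hA) := by
  unfold opM
  rw [List.finRange_succ_last, List.map_append, List.prod_append, List.map_map,
    List.map_singleton, List.prod_singleton]
  congr 1
  · congr 1
    apply List.map_congr_left
    intro i _
    have e : (Fin.snoc M A : Fin (r + 1) → X.Modules) i.castSucc = M i := by simp
    change 1 - T ((Fin.snoc M A : Fin (r + 1) → X.Modules) i.castSucc) (hMA i.castSucc) =
      1 - T (M i) (hM i)
    rw [T_congr X e (hMA i.castSucc) (hM i)]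
  · have e : (Fin.snoc M A : Fin (r + 1) → X.Modules) (Fin.last r) = A := by simp
    rw [T_congr X e (hMA (Fin.last r)) hA]

/-- **the intersection symbol with the ideal of a divisor in the last slot** -/
theorem intNum_snoc_idealMod (d : ℕ) (hd : topologicalKrullDim X ≤ d) {r : ℕ}
    (M : Fin r → X.Modules) (hM : ∀ i, PicF.IsInvertible (M i)) (D : X.IdealSheafData)
    (hDinv : PicF.IsInvertible (ClSub.idealMod D)) (F : X.Modules) (hF : Coh.IsCoh F)
    (hmono : Mono (tι D F)) :
    FGA.intNum k X d (Fin.snoc M (ClSub.idealMod D)) F =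
      FGA.intNum k X d M (CohB1.tensorMod F (ClSub.quotMod D)) := by
  have hQc : Coh.IsCoh (ClSub.quotMod D) := CurveDual.isCoh_quotMod D
  have hIc : Coh.IsCoh (ClSub.idealMod D) := CurveDual.isCoh_idealMod D
  have hFQ : Coh.IsCoh (CohB1.tensorMod F (ClSub.quotMod D)) := isCoh_tensor _ _ hF hQc
  have hFI : Coh.IsCoh (CohB1.tensorMod F (ClSub.idealMod D)) := isCoh_tensor _ _ hF hIc
  have hFO : Coh.IsCoh (CohB1.tensorMod F (Coh.structureModule X)) :=
    isCoh_tensor _ _ hF (isCoh_structureModule X)
  have hMA : ∀ i, PicF.IsInvertible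
      ((Fin.snoc M (ClSub.idealMod D) : Fin (r + 1) → X.Modules) i) := by
    intro i
    refine Fin.lastCases ?_ (fun j => ?_) i
    · have e : (Fin.snoc M (ClSub.idealMod D) : Fin (r + 1) → X.Modules) (Fin.last r) =
          ClSub.idealMod D := by simp
      rw [e]; exact hDinv
    · have e : (Fin.snoc M (ClSub.idealMod D) : Fin (r + 1) → X.Modules) j.castSucc = M j := by
        simp
      rw [e]; exact hM j
  rw [intNum_eq k X d hd _ hMA F hF, intNum_eq k X d hd M hM _ hFQ,
    opM_snoc X M hM _ hDinv hMA]
  congr 1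
  change opM X M hM ((1 - T _ hDinv) (KZero.clSub (PC X) F)) = _
  congr 1
  change KZero.clSub (PC X) F - T _ hDinv (KZero.clSub (PC X) F) = _
  rw [T_clSub' _ hDinv F hF]
  -- the tensored short exact sequence
  have hS' : ((IdealModL.S D).map (DCoh.tensorBi.obj F)).ShortExact := by
    haveI : PreservesFiniteColimits (DCoh.tensorBi.obj F) :=
      (inferInstance : PreservesFiniteColimits ((ModSite.tensorBi X.sheaf).obj F))
    haveI : Mono ((IdealModL.S D).map (DCoh.tensorBi.obj F)).f := hmono
    haveI : Epi (IdealModL.S D).g := CurveDual.epi_toSubscheme D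
    haveI : Epi ((IdealModL.S D).map (DCoh.tensorBi.obj F)).g :=
      (inferInstance : Epi ((DCoh.tensorBi.obj F).map (IdealModL.S D).g))
    have hex : ((IdealModL.S D).map (DCoh.tensorBi.obj F)).Exact :=
      ShortComplex.Exact.map_of_epi_of_preservesCokernel (IdealModL.S_exact D)
        (DCoh.tensorBi.obj F) inferInstance inferInstance
    exact ShortComplex.ShortExact.mk hex
  have hrel := clSub_ses _ hS' hFI hFO hFQ
  have hunit : KZero.clSub (PC X) F = KZero.clSub (PC X) (CohB1.tensorMod F (Coh.structureModule X)) :=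
    clSub_iso (Groth.Agent.Lib.Helper5.LTenFlf.tensorUnitIso F) hFO
  rw [hunit]
  change KZero.clSub (PC X) ((IdealModL.S D).map (DCoh.tensorBi.obj F)).X₂ -
    KZero.clSub (PC X) ((IdealModL.S D).map (DCoh.tensorBi.obj F)).X₁ =
    KZero.clSub (PC X) ((IdealModL.S D).map (DCoh.tensorBi.obj F)).X₃
  rw [hrel]
  abel

/-- the same with the hypothesis on associated points -/
theorem intNum_snoc_idealMod_of_ass (d : ℕ) (hd : topologicalKrullDim X ≤ d) {r : ℕ}
    (M : Fin r → X.Modules) (hM : ∀ i, PicF.IsInvertible (M i)) (D : X.IdealSheafData)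
    (hD : BlowUp.IsEffCartierIdeal D) (F : X.Modules) (hF : Coh.IsCoh F)
    (hass : ∀ x ∈ (D.support : Set X), ¬ Curv2.IsAssPoint F x) :
    FGA.intNum k X d (Fin.snoc M (ClSub.idealMod D)) F =
      FGA.intNum k X d M (CohB1.tensorMod F (ClSub.quotMod D)) := by
  have hDinv : PicF.IsInvertible (ClSub.idealMod D) := (Groth.Agent.S8914.result D).2 hD
  haveI : IsLocallyNoetherian X := inferInstance
  exact intNum_snoc_idealMod k X d hd M hM D hDinv F hF (mono_tι D hDinv F hF hass)

end Main

end Groth.Agent.Helper1.SnapCart2
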