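import Mathlib
import Groth.Agent.Lib.Helper1.SerreAmple1
import Groth.Agent.Lib.Helper4.TwExact
import Groth.Agent.Lib.Helper1.H1Ext
import Groth.Agent.Lib.Helper1.Dv34
import Groth.Agent.S0012
import Groth.Agent.S0051
import Groth.Agent.Lib.Helper1.PullGen2

/-!
# The Serre vanishing property `SV L M` and its permanence (helper1)
-/

set_option autoImplicit false
universe u
open CategoryTheory CategoryTheory.Limits AlgebraicGeometry TopologicalSpace Opposite

namespace Groth.Agent.Helper1.AmpleDev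

open Groth.Agent.Helper1.TwForm Groth.Agent.Helper1 Groth.Agent.Lib.Helper4.TwExact

variable {X : Scheme.{u}}

/-- the Serre vanishing property of `M` with respect to `L` -/
def SV (L M : X.Modules) : Prop :=
  ∃ n₀ : ℕ, ∀ n : ℕ, n₀ ≤ n → ∀ p : ℕ, 0 < p →
    Subsingleton (Coh.HH X (CohB1.tensorMod M (CohB1.tensorPow L n)) p)

theorem tensorMod_eq (L M : X.Modules) : CohB1.tensorMod M L = (TL L).obj M := rfl

theorem SV.of_iso {L M N : X.Modules} (e : M ≅ N) (h : SV L M) : SV L N := by
  obtain ⟨n₀, hn₀⟩ := h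
  refine ⟨n₀, fun n hn p hp => ?_⟩
  exact Groth.Agent.Lib.Helper4.ClBridge2.subsingleton_HH_of_iso
    ((TL (CohB1.tensorPow L n)).mapIso e) p (hn₀ n hn p hp)

theorem SV.of_isZero {L M : X.Modules} (h : IsZero M) : SV L M := by
  refine ⟨0, fun n _ p _ => ?_⟩
  exact H1Ext.subsingleton_HH_of_isZero ((TL (CohB1.tensorPow L n)).map_isZero h) p

theorem SV.ext {L : X.Modules} (hL : PicF.IsInvertible L) {S : ShortComplex X.Modules}
    (hS : S.ShortExact) (h1 : SV L S.X₁) (h3 : SV L S.X₃) : SV L S.X₂ := by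
  obtain ⟨n₁, hn₁⟩ := h1
  obtain ⟨n₃, hn₃⟩ := h3
  refine ⟨max n₁ n₃, fun n hn p hp => ?_⟩
  have hLn : LocGen (CohB1.tensorPow L n) :=
    locGen_of_isInvertible _ (isInvertible_tensorPow hL n)
  exact H1Ext.subsingleton_HH_mid (shortExact_map hLn hS) p
    (hn₁ n ((le_max_left _ _).trans hn) p hp) (hn₃ n ((le_max_right _ _).trans hn) p hp)

theorem SV.retract {L F E : X.Modules} (s : F ⟶ E) (q : E ⟶ F) (h : s ≫ q = 𝟙 F)
    (hE : SV L E) : SV L F := by
  obtain ⟨n₀, hn₀⟩ := hE
  refine ⟨n₀, fun n hn p hp => ?_⟩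
  refine Dv.subsingleton_HH_of_retract ((TL (CohB1.tensorPow L n)).map s)
    ((TL (CohB1.tensorPow L n)).map q) ?_ p (hn₀ n hn p hp)
  rw [← CategoryTheory.Functor.map_comp, h, CategoryTheory.Functor.map_id]

/-- pushforwards of coherent modules along an affine morphism `f` from a scheme proper over a
Noetherian ring on which `f^*L` is ample have the Serre vanishing property -/
theorem SV.push (R : Type u) [CommRing R] [IsNoetherianRing R] {Y : Scheme.{u}}
    (g : Y ⟶ Spec (CommRingCat.of R)) [IsProper g] (f : Y ⟶ X) [IsAffineHom f]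
    {L : X.Modules} (hL : PicF.IsInvertible L)
    (hamp : CohB1.IsAmple ((Scheme.Modules.pullback f).obj L))
    (G : Y.Modules) (hG : Coh.IsCoh G) : SV L ((Scheme.Modules.pushforward f).obj G) := by
  obtain ⟨n₀, hn₀⟩ := SerreAmple.serre_vanishing R g hamp G hG
  refine ⟨n₀, fun n hn p hp => ?_⟩
  obtain ⟨e⟩ := Groth.Agent.Lib.Helper4.ClBridge2.nonempty_projFormula f G
    (CohB1.tensorPow L n) (isInvertible_tensorPow hL n)
  refine Groth.Agent.Lib.Helper4.ClBridge2.subsingleton_HH_of_iso e.symm p ?_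
  let e2 : CohB1.tensorMod G ((Scheme.Modules.pullback f).obj (CohB1.tensorPow L n)) ≅
      CohB1.tensorMod G (CohB1.tensorPow ((Scheme.Modules.pullback f).obj L) n) :=
    TwistTens.tensorModCongrRight G (PullPow.powIso f hL n)
  haveI : (CohB1.tensorMod G ((Scheme.Modules.pullback f).obj (CohB1.tensorPow L n))).IsQuasicoherent :=
    (SerreAmple.isCoh_tensor G _ hG (InvQc.isCoh_of_isInvertible _
      (PullGen.isInvertible_pullback f (isInvertible_tensorPow hL n)))).1
  obtain ⟨e3⟩ := Groth.Agent.S0012.result f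
    (CohB1.tensorMod G ((Scheme.Modules.pullback f).obj (CohB1.tensorPow L n))) p
  haveI := Groth.Agent.Lib.Helper4.ClBridge2.subsingleton_HH_of_iso e2.symm p (hn₀ n hn p hp)
  exact e3.symm.toEquiv.subsingleton

end Groth.Agent.Helper1.AmpleDev
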