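import Mathlib
import Groth.Agent.Lib.Helper1.AmpleDev1
import Groth.Agent.Lib.Helper1.Dv5
import Groth.Agent.Lib.Helper1.FtLocal
import Groth.Agent.S0786

/-!
# Ampleness from ampleness on two closed subschemes `V(I)`, `V(J)` with `I J = 0` (helper1)
-/

set_option autoImplicit false
universe u
open CategoryTheory CategoryTheory.Limits AlgebraicGeometry TopologicalSpace Opposite

namespace Groth.Agent.Helper1.AmpleDev

open Groth.Agent.Helper1.TwForm Groth.Agent.Helper1 Groth.Agent.Helper1.Dv
open Groth.Agent.Helper1.QcCech Groth.Agent.Helper1.QcExt Groth.Agent.Helper1.CohACC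

variable {X : Scheme.{u}}

/-- `M / I M` is killed by `I` -/
theorem killedByIdeal_cokernel_idealMulι (I : X.IdealSheafData) (M : X.Modules)
    [M.IsQuasicoherent] : ClSub.KilledByIdeal I (cokernel (Dual3.idealMulι I M)) := by
  intro U a ha q
  let S : ShortComplex X.Modules := ShortComplex.mk (Dual3.idealMulι I M)
    (cokernel.π (Dual3.idealMulι I M)) (cokernel.condition _)
  have hS : S.ShortExact :=
    { exact := ShortComplex.exact_of_g_is_cokernel _ (cokernelIsCokernel _)
      mono_f := inferInstanceAs (Mono (Dual3.idealMulι I M))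
      epi_g := inferInstanceAs (Epi (cokernel.π (Dual3.idealMulι I M))) }
  haveI : S.X₁.IsQuasicoherent :=
    inferInstanceAs ((Dual3.idealMul I).obj M).IsQuasicoherent
  obtain ⟨m, rfl⟩ := QcExt.app_surjective hS U.1 U.2 q
  have h1 : a • m ∈ sec (Dual3.idealMulι I M) U.1 := by
    rw [sec_idealMulι I M U.2]
    exact Submodule.smul_mem_smul ha Submodule.mem_top
  obtain ⟨y, hy⟩ := h1
  have h2 : S.g.app U.1 (a • m) = a • S.g.app U.1 m := Scheme.Modules.Hom.app_smul _ _ _
  have h3 : S.g.app U.1 (S.f.app U.1 y) = 0 := QcExt.app_zero S U.1 y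
  have h4 : S.f.app U.1 y = a • m := hy
  have h5 : S.g.app U.1 (a • m) = 0 := by rw [← h4]; exact h3
  exact h2.symm.trans h5

/-- `I M` is killed by `J` when `I J = 0` -/
theorem killedByIdeal_idealMul_of_mul_eq_bot (I J : X.IdealSheafData) (hIJ : I * J = ⊥)
    (M : X.Modules) [M.IsQuasicoherent] :
    ClSub.KilledByIdeal J ((Dual3.idealMul I).obj M) := by
  intro U a ha m
  apply FtLocal.app_injective_of_mono (Dual3.idealMulι I M) U.1
  have h2 : (Dual3.idealMulι I M).app U.1 (a • m) = a • (Dual3.idealMulι I M).app U.1 m :=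
    Scheme.Modules.Hom.app_smul _ _ _
  have h1 : (Dual3.idealMulι I M).app U.1 m ∈ sec (Dual3.idealMulι I M) U.1 := ⟨m, rfl⟩
  rw [sec_idealMulι I M U.2] at h1
  have h3 : a • (Dual3.idealMulι I M).app U.1 m ∈
      (J.ideal U * I.ideal U) • (⊤ : Submodule Γ(X, U.1) Γ(M, U.1)) := by
    rw [Submodule.mul_smul]
    exact Submodule.smul_mem_smul ha h1
  have h4 : J.ideal U * I.ideal U = ⊥ := by
    rw [mul_comm]
    have := congrArg (fun K : X.IdealSheafData => K.ideal U) hIJ
    simpa using this
  rw [h4, Submodule.bot_smul] at h3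
  have h5 : (Dual3.idealMulι I M).app U.1 (a • m) = 0 := h2.trans h3
  exact h5.trans (map_zero _).symm

/-- a coherent module killed by `I` has the Serre vanishing property if `L|_{V(I)}` is ample -/
theorem SV.of_killed (A : Type u) [CommRing A] [IsNoetherianRing A]
    (g : X ⟶ Spec (CommRingCat.of A)) [IsProper g] {L : X.Modules} (hL : PicF.IsInvertible L)
    (I : X.IdealSheafData)
    (hI : CohB1.IsAmple ((Scheme.Modules.pullback I.subschemeι).obj L))
    (M : X.Modules) (hM : Coh.IsCoh M) (hk : ClSub.KilledByIdeal I M) : SV L M := by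
  haveI : IsLocallyNoetherian X := LocallyOfFiniteType.isLocallyNoetherian g
  obtain ⟨G, hG, ⟨e⟩⟩ := Groth.Agent.S0786.result I.subschemeι M hM
    (by rw [I.ker_subschemeι]; exact hk)
  exact SV.of_iso e (SV.push A (I.subschemeι ≫ g) I.subschemeι hL hI G hG)

/-- Serre vanishing from ampleness on `V(I)` and `V(J)` with `I J = 0` -/
theorem sv_of_mul_eq_bot (A : Type u) [CommRing A] [IsNoetherianRing A]
    (g : X ⟶ Spec (CommRingCat.of A)) [IsProper g] {L : X.Modules} (hL : PicF.IsInvertible L)
    (I J : X.IdealSheafData) (hIJ : I * J = ⊥)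
    (hI : CohB1.IsAmple ((Scheme.Modules.pullback I.subschemeι).obj L))
    (hJ : CohB1.IsAmple ((Scheme.Modules.pullback J.subschemeι).obj L))
    (M : X.Modules) (hM : Coh.IsCoh M) : SV L M := by
  haveI : IsLocallyNoetherian X := LocallyOfFiniteType.isLocallyNoetherian g
  haveI : M.IsQuasicoherent := hM.1
  let S : ShortComplex X.Modules := ShortComplex.mk (Dual3.idealMulι I M)
    (cokernel.π (Dual3.idealMulι I M)) (cokernel.condition _)
  have hS : S.ShortExact :=
    { exact := ShortComplex.exact_of_g_is_cokernel _ (cokernelIsCokernel _)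
      mono_f := inferInstanceAs (Mono (Dual3.idealMulι I M))
      epi_g := inferInstanceAs (Epi (cokernel.π (Dual3.idealMulι I M))) }
  have hIM : Coh.IsCoh ((Dual3.idealMul I).obj M) := isCoh_idealMul I M hM
  have hQ : Coh.IsCoh (cokernel (Dual3.idealMulι I M)) := FtLocal.isCoh_cokernel hIM hM _
  have h1 : SV L ((Dual3.idealMul I).obj M) := SV.of_killed A g hL J hJ _ hIM
    (killedByIdeal_idealMul_of_mul_eq_bot I J hIJ M)
  have h3 : SV L (cokernel (Dual3.idealMulι I M)) :=
    SV.of_killed A g hL I hI _ hQ (killedByIdeal_cokernel_idealMulι I M)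
  exact SV.ext (S := S) hL hS h1 h3

/-- **S11562** -/
theorem isAmple_of_mul_eq_bot (A : Type u) [CommRing A] [IsNoetherianRing A]
    (g : X ⟶ Spec (CommRingCat.of A)) [IsProper g] {L : X.Modules} (hL : PicF.IsInvertible L)
    (I J : X.IdealSheafData) (hIJ : I * J = ⊥)
    (hI : CohB1.IsAmple ((Scheme.Modules.pullback I.subschemeι).obj L))
    (hJ : CohB1.IsAmple ((Scheme.Modules.pullback J.subschemeι).obj L)) : CohB1.IsAmple L :=
  (Groth.Agent.S0051.result A X g L hL).2 fun M hM => sv_of_mul_eq_bot A g hL I J hIJ hI hJ M hM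

end Groth.Agent.Helper1.AmpleDev
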