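import Mathlib
import Groth.Prelude.Def_Coh
import Groth.Prelude.Def_Dual3
import Groth.Agent.Lib.Helper1.Dv3
import Groth.Agent.Lib.Helper4.IdealComap

/-!
# `I·f_*F = f_*((f⁻¹I)·F)` for affine `f` (helper1, dévissage cluster)
-/

set_option autoImplicit false
universe u
open CategoryTheory AlgebraicGeometry TopologicalSpace Opposite

namespace Groth.Agent.Helper1.Dv

open Groth.Agent.Helper1.QcCech Groth.Agent.Helper1.QcExt Groth.Agent.Helper1
open Groth.Agent.Helper1.CohACC Scheme.Modules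

variable {X Y : Scheme.{u}}

/-- `(I.map φ) • ⊤ ⊆ I • ⊤` for a module over `S` viewed over `R` through `φ : R →+* S` -/
theorem map_smul_top_le {R S M M' : Type*} [CommRing R] [CommRing S] [AddCommGroup M]
    [Module S M] [AddCommGroup M'] [Module R M'] (φ : R →+* S) (e : M ≃+ M')
    (hφ : ∀ (r : R) (m : M), e (φ r • m) = r • e m) (I : Ideal R)
    (m : M) (hm : m ∈ (I.map φ) • (⊤ : Submodule S M)) : e m ∈ I • (⊤ : Submodule R M') := by
  refine Submodule.smul_induction_on hm ?_ ?_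
  · intro b hb x _
    suffices key : ∀ x : M, e (b • x) ∈ I • (⊤ : Submodule R M') from key x

    refine Submodule.span_induction ?_ ?_ ?_ ?_ hb
    · rintro _ ⟨a, ha, rfl⟩ x
      rw [hφ]
      exact Submodule.smul_mem_smul ha trivial
    · intro x; rw [zero_smul, map_zero]; exact Submodule.zero_mem _
    · intro b c _ _ hb hc x; rw [add_smul, map_add]; exact Submodule.add_mem _ (hb x) (hc x)
    · intro r b _ hb x; rw [smul_eq_mul, mul_comm, mul_smul]; exact hb (r • x)
  · intro x y hx hy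
    rw [map_add]
    exact Submodule.add_mem _ hx hy

theorem sec_pushforward_idealMulι (f : Y ⟶ X) [IsAffineHom f] (F : Y.Modules)
    [F.IsQuasicoherent] (I : X.IdealSheafData) {U : X.Opens} (hU : IsAffineOpen U) :
    sec ((pushforward f).map (Dual3.idealMulι (I.comap f) F)) U =
      I.ideal ⟨U, hU⟩ • (⊤ : Submodule Γ(X, U) Γ((pushforward f).obj F, U)) := by
  have hV : IsAffineOpen (f ⁻¹ᵁ U) := hU.preimage f
  have hJ : (I.comap f).ideal ⟨f ⁻¹ᵁ U, hV⟩ = (I.ideal ⟨U, hU⟩).map (f.app U).hom := by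
    rw [Groth.Agent.Helper4.IdealComap.ideal_comap_eq_map f I ⟨f ⁻¹ᵁ U, hV⟩ ⟨U, hU⟩ le_rfl,
      ← Scheme.Hom.app_eq_appLE]
  have hs := sec_idealMulι (I.comap f) F hV
  apply le_antisymm
  · rintro _ ⟨y, rfl⟩
    have h1 : (Dual3.idealMulι (I.comap f) F).app (f ⁻¹ᵁ U) y ∈
        sec (Dual3.idealMulι (I.comap f) F) (f ⁻¹ᵁ U) := ⟨y, rfl⟩
    rw [hs, hJ] at h1
    exact map_smul_top_le (M := Γ(F, f ⁻¹ᵁ U)) (M' := Γ((pushforward f).obj F, U))
      (f.app U).hom (AddEquiv.refl _) (fun r x => rfl) _ _ h1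
  · rw [Submodule.smul_le]
    intro a ha x _
    have h1 : (f.app U).hom a • (show Γ(F, f ⁻¹ᵁ U) from x) ∈
        sec (Dual3.idealMulι (I.comap f) F) (f ⁻¹ᵁ U) := by
      rw [hs, hJ]
      exact Submodule.smul_mem_smul (Ideal.mem_map_of_mem _ ha) trivial
    obtain ⟨y, hy⟩ := h1
    exact ⟨y, hy⟩

/-- **`I·f_*F ≅ f_*((f⁻¹I)·F)` for an affine morphism** (S9523) -/
theorem idealMul_pushforward (f : Y ⟶ X) [IsAffineHom f]
    (F : Y.Modules) (hF : Coh.IsQCoh F) (I : X.IdealSheafData) :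
    ∃ e : (Dual3.idealMul I).obj ((pushforward f).obj F) ≅
        (pushforward f).obj ((Dual3.idealMul (I.comap f)).obj F),
      e.hom ≫ (pushforward f).map (Dual3.idealMulι (I.comap f) F) =
        Dual3.idealMulι I ((pushforward f).obj F) := by
  haveI : F.IsQuasicoherent := hF
  haveI : ((pushforward f).obj F).IsQuasicoherent := PushQc.isQuasicoherent_pushforward f F
  haveI : ((pushforward f).obj ((Dual3.idealMul (I.comap f)).obj F)).IsQuasicoherent :=
    PushQc.isQuasicoherent_pushforward f _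
  haveI : Mono ((pushforward f).map (Dual3.idealMulι (I.comap f) F)) := inferInstance
  have h : Subobject.mk (Dual3.idealMulι I ((pushforward f).obj F)) =
      Subobject.mk ((pushforward f).map (Dual3.idealMulι (I.comap f) F)) := by
    refine mk_eq_mk_of_sec_eq _ _ (fun U : X.affineOpens => U.1) (fun U => U.2) ?_ fun U => ?_
    · apply le_antisymm le_top
      intro x _
      obtain ⟨_, ⟨W, hW, rfl⟩, hxW, -⟩ := X.isBasis_affineOpens.exists_subset_of_mem_open
        (Set.mem_univ x) isOpen_univ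
      exact Opens.mem_iSup.2 ⟨⟨W, hW⟩, hxW⟩
    · rw [sec_idealMulι _ _ U.2, sec_pushforward_idealMulι f F I U.2]
  exact ⟨Subobject.isoOfMkEqMk _ _ h, Subobject.ofMkLEMk_comp _⟩

end Groth.Agent.Helper1.Dv
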