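import Mathlib
import Groth.Agent.Lib.Helper1.Dv34
import Groth.Agent.Lib.Helper1.Dv4
import Groth.Agent.S0009
import Groth.Agent.S0012
import Groth.Agent.S0007
import Groth.Agent.S0820
import Groth.Agent.S9522

/-!
# Chevalley's theorem: the target of a finite surjective morphism from an affine scheme to a
Noetherian scheme is affine (helper1)
-/

set_option autoImplicit false
universe u
open CategoryTheory CategoryTheory.Limits AlgebraicGeometry TopologicalSpace Opposite

namespace Groth.Agent.Helper1.Dv

open Groth.Agent.Helper1.QcCech Groth.Agent.Helper1.QcExt Groth.Agent.Helper1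
open Groth.Agent.Helper1.CohACC Groth.Agent.Lead Groth.Agent.Helper1.SubSh

variable {Y X : Scheme.{u}}

/-- all coherent modules have vanishing `H¹` on the target of a finite surjective morphism from an
affine scheme -/
theorem h1_vanishing_of_finite_surjective (f : Y ⟶ X) [IsFinite f] [Surjective f] [IsAffine Y]
    [IsNoetherian X] (F : X.Modules) (hF : Coh.IsCoh F) : Subsingleton (Coh.HH X F 1) := by
  let P : X.Modules → Prop := fun M => Subsingleton (Coh.HH X M 1)
  have hiso : ∀ M N : X.Modules, (M ≅ N) → P M → P N := fun M N e h =>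
    subsingleton_HH_of_iso e.symm 1 h
  have h0 : ∀ M : X.Modules, IsZero M → P M := fun M hM => H1Ext.subsingleton_HH_of_isZero hM 1
  have hext : ∀ S : ShortComplex X.Modules, S.ShortExact → Coh.IsCoh S.X₁ → Coh.IsCoh S.X₂ →
      Coh.IsCoh S.X₃ → P S.X₁ → P S.X₃ → P S.X₂ := fun S hS _ _ _ p1 p3 =>
    H1Ext.subsingleton_HH_mid hS 1 p1 p3
  refine noeth_induction P hiso h0 Set.univ (fun S hS c1 c2 c3 _ p1 p3 => hext S hS c1 c2 c3 p1 p3)
    ?_ F hF (Set.subset_univ _)
  intro Z hZ hirr _ IH F' hF' hF'Z
  obtain ⟨ξ, hξ⟩ := QuasiSober.sober hirr hZ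
  have hξZ : closure {ξ} = Z := hξ.def
  have hξmem : ξ ∈ Z := hξZ ▸ subset_closure (Set.mem_singleton ξ)
  obtain ⟨Z', i, hi, hint, hr, hη⟩ := exists_integral_subscheme Z hZ hirr ξ hξZ
  haveI := hi
  haveI := hint
  obtain ⟨F₀, hF₀, hsupp₀, hann₀⟩ := Groth.Agent.S0820.result f Z' i
  haveI : F₀.IsQuasicoherent := hF₀.1
  refine Groth.Agent.S9522.result X Z hZ hirr ξ ⟨hξmem, hξZ⟩ P
    (fun M N ⟨e⟩ h => hiso M N e h) h0 hext ?_ ?_ ?_ F' hF' hF'Z
  · intro F'' r hF'' hr1 hK
    let j : Fin r := ⟨0, hr1⟩
    have hs : Sigma.ι (fun _ : Fin r => F'') j ≫ cpπ F'' r j = 𝟙 F'' := by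
      rw [ι_cpπ, if_pos rfl]
    exact subsingleton_HH_of_retract _ _ hs 1 hK
  · intro Z'' i'' hi'' hint'' hsub hne I ι hι hI
    haveI := hi''
    haveI := hint''
    -- `i''_* I` is coherent and supported in the proper closed subset `range i''`
    haveI : I.IsQuasicoherent := hI
    haveI := hι
    have hIc : Coh.IsCoh ((Scheme.Modules.pushforward i'').obj I) :=
      FtLocal.isCoh_of_mono ((Scheme.Modules.pushforward i'').map ι)
        (FinPush.isCoh_pushforward i'' _ (isCoh_structureModule Z''))
        (PushQc.isQuasicoherent_pushforward i'' I)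
    refine IH _ hIc (Set.range ⇑i'')
      i''.isClosedEmbedding.isClosed_range hsub hne (support_pushforward_subset i'' I)
  · refine ⟨(Scheme.Modules.pushforward f).obj F₀, FinPush.isCoh_pushforward f F₀ hF₀,
      hsupp₀.trans hr, ?_, ?_⟩
    · rw [← hη]; exact hann₀
    · intro J hJ
      haveI : ((Scheme.Modules.pushforward f).obj F₀).IsQuasicoherent :=
        PushQc.isQuasicoherent_pushforward f F₀
      refine ⟨(Dual3.idealMul J).obj ((Scheme.Modules.pushforward f).obj F₀), 𝟙 _, inferInstance,
        inferInstance, ?_, ?_⟩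
      · rw [Category.id_comp]
        have hb := stalkL_idealMulι_bijective J ((Scheme.Modules.pushforward f).obj F₀) ξ hJ
        rw [stalkL_eq_stalkFunctor] at hb
        exact (ConcreteCategory.isIso_iff_bijective _).2 hb
      · obtain ⟨e, -⟩ := idealMul_pushforward f F₀ hF₀.1 J
        apply subsingleton_HH_of_iso e 1
        haveI : ((Dual3.idealMul (J.comap f)).obj F₀).IsQuasicoherent := inferInstance
        obtain ⟨eq⟩ := Groth.Agent.S0012.result f ((Dual3.idealMul (J.comap f)).obj F₀) 1
        haveI : Subsingleton (Coh.HH Y ((Dual3.idealMul (J.comap f)).obj F₀) 1) :=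
          Groth.Agent.S0007.result Y _ 1 Nat.one_pos
        exact eq.symm.injective.subsingleton

/-- **Chevalley's theorem** -/
theorem isAffine_of_finite_surjective (f : Y ⟶ X) [IsFinite f] [Surjective f] [IsAffine Y]
    [IsNoetherian X] : IsAffine X := by
  refine Groth.Agent.S0009.result X fun I i hi hq => ?_
  haveI := hi
  exact h1_vanishing_of_finite_surjective f I
    (FtLocal.isCoh_of_mono i (isCoh_structureModule X) hq)

end Groth.Agent.Helper1.Dv
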