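import Mathlib
import Groth.Agent.Lib.Helper1.AmpleDev1
import Groth.Agent.Lib.Helper1.Dv35

/-!
# Ampleness descends along finite surjective morphisms (proper over a Noetherian ring) (helper1)
-/

set_option autoImplicit false
universe u
open CategoryTheory CategoryTheory.Limits AlgebraicGeometry TopologicalSpace Opposite

namespace Groth.Agent.Helper1.AmpleDev

open Groth.Agent.Helper1.QcCech Groth.Agent.Helper1.QcExt Groth.Agent.Helper1
open Groth.Agent.Helper1.CohACC Groth.Agent.Lead Groth.Agent.Helper1.SubSh Groth.Agent.Helper1.Dv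

variable {Y X : Scheme.{u}}

set_option maxHeartbeats 800000 in
/-- all coherent modules have the Serre vanishing property for `L` if `f^*L` is ample, `f` finite
surjective -/
theorem sv_of_finite_surjective (R : Type u) [CommRing R] [IsNoetherianRing R]
    (gX : X ⟶ Spec (CommRingCat.of R)) [IsProper gX]
    (gY : Y ⟶ Spec (CommRingCat.of R)) [IsProper gY]
    (f : Y ⟶ X) [IsFinite f] [Surjective f] {L : X.Modules} (hL : PicF.IsInvertible L)
    (hamp : CohB1.IsAmple ((Scheme.Modules.pullback f).obj L))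
    (F : X.Modules) (hF : Coh.IsCoh F) : SV L F := by
  haveI : CompactSpace X := QuasiCompact.compactSpace_of_compactSpace gX
  haveI : IsLocallyNoetherian X := LocallyOfFiniteType.isLocallyNoetherian gX
  haveI : IsNoetherian X := {}
  haveI : IsLocallyNoetherian Y := LocallyOfFiniteType.isLocallyNoetherian gY
  let P : X.Modules → Prop := fun M => SV L M
  have hiso : ∀ M N : X.Modules, (M ≅ N) → P M → P N := fun M N e h => SV.of_iso e h
  have h0 : ∀ M : X.Modules, IsZero M → P M := fun M hM => SV.of_isZero hM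
  have hext : ∀ S : ShortComplex X.Modules, S.ShortExact → Coh.IsCoh S.X₁ → Coh.IsCoh S.X₂ →
      Coh.IsCoh S.X₃ → P S.X₁ → P S.X₃ → P S.X₂ := fun S hS _ _ _ p1 p3 =>
    SV.ext hL hS p1 p3
  refine noeth_induction P hiso h0 Set.univ (fun S hS c1 c2 c3 _ p1 p3 => hext S hS c1 c2 c3 p1 p3)
    ?_ F hF (Set.subset_univ _)
  intro Z hZ hirr _ IH F' hF' hF'Z
  obtain ⟨ξ, hξ⟩ := QuasiSober.sober hirr hZ
  have hξZ : closure {ξ} = Z := hξ.def
  have hξmem : ξ ∈ Z := hξZ ▸ subset_closure (Set.mem_singleton ξ)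
  obtain ⟨Z', i, hi, hint, hr, hη⟩ := exists_integral_subscheme Z hZ hirr ξ hξZ
  haveI := hi
  haveI := hint
  obtain ⟨F₀, hF₀, hsupp₀, hann₀⟩ := Groth.Agent.S0820.result f Z' i
  haveI : F₀.IsQuasicoherent := hF₀.1
  refine Groth.Agent.S9522.result X Z hZ hirr ξ ⟨hξmem, hξZ⟩ P
    (fun M N ⟨e⟩ h => hiso M N e h) h0 hext ?_ ?_ ?_ F' hF' hF'Z
  · intro F'' r hF'' hr1 hK
    let j : Fin r := ⟨0, hr1⟩
    have hs : Sigma.ι (fun _ : Fin r => F'') j ≫ cpπ F'' r j = 𝟙 F'' := by
      rw [ι_cpπ, if_pos rfl]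
    exact SV.retract _ _ hs hK
  · intro Z'' i'' hi'' hint'' hsub hne I ι hι hI
    haveI := hi''
    haveI := hint''
    haveI : I.IsQuasicoherent := hI
    haveI := hι
    have hIc : Coh.IsCoh ((Scheme.Modules.pushforward i'').obj I) :=
      FtLocal.isCoh_of_mono ((Scheme.Modules.pushforward i'').map ι)
        (FinPush.isCoh_pushforward i'' _ (isCoh_structureModule Z''))
        (PushQc.isQuasicoherent_pushforward i'' I)
    refine IH _ hIc (Set.range ⇑i'')
      i''.isClosedEmbedding.isClosed_range hsub hne (support_pushforward_subset i'' I)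
  · refine ⟨(Scheme.Modules.pushforward f).obj F₀, FinPush.isCoh_pushforward f F₀ hF₀,
      hsupp₀.trans hr, ?_, ?_⟩
    · rw [← hη]; exact hann₀
    · intro J hJ
      haveI : ((Scheme.Modules.pushforward f).obj F₀).IsQuasicoherent :=
        PushQc.isQuasicoherent_pushforward f F₀
      refine ⟨(Dual3.idealMul J).obj ((Scheme.Modules.pushforward f).obj F₀), 𝟙 _, inferInstance,
        inferInstance, ?_, ?_⟩
      · rw [Category.id_comp]
        have hb := stalkL_idealMulι_bijective J ((Scheme.Modules.pushforward f).obj F₀) ξ hJ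
        rw [stalkL_eq_stalkFunctor] at hb
        exact (ConcreteCategory.isIso_iff_bijective _).2 hb
      · obtain ⟨e, -⟩ := idealMul_pushforward f F₀ hF₀.1 J
        exact SV.of_iso e.symm (SV.push R gY f hL hamp _ (isCoh_idealMul (J.comap f) F₀ hF₀))

/-- **S0052** -/
theorem isAmple_iff_pullback_finite_surjective (R : Type u) [CommRing R] [IsNoetherianRing R]
    (gX : X ⟶ Spec (CommRingCat.of R)) [IsProper gX]
    (gY : Y ⟶ Spec (CommRingCat.of R)) [IsProper gY]
    (f : Y ⟶ X) [IsFinite f] [Surjective f] {L : X.Modules} (hL : PicF.IsInvertible L) :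
    CohB1.IsAmple L ↔ CohB1.IsAmple ((Scheme.Modules.pullback f).obj L) := by
  haveI : IsLocallyNoetherian X := LocallyOfFiniteType.isLocallyNoetherian gX
  constructor
  · intro hamp
    refine (Groth.Agent.S0051.result R Y gY _ (PullGen.isInvertible_pullback f hL)).2 ?_
    intro M hM
    obtain ⟨n₀, hn₀⟩ := (Groth.Agent.S0051.result R X gX L hL).1 hamp
      ((Scheme.Modules.pushforward f).obj M) (FinPush.isCoh_pushforward f M hM)
    refine ⟨n₀, fun n hn p hp => ?_⟩
    obtain ⟨e⟩ := Groth.Agent.Lib.Helper4.ClBridge2.nonempty_projFormula f M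
      (CohB1.tensorPow L n) (TwForm.isInvertible_tensorPow hL n)
    have h1 := Groth.Agent.Lib.Helper4.ClBridge2.subsingleton_HH_of_iso e p (hn₀ n hn p hp)
    let e2 : CohB1.tensorMod M ((Scheme.Modules.pullback f).obj (CohB1.tensorPow L n)) ≅
        CohB1.tensorMod M (CohB1.tensorPow ((Scheme.Modules.pullback f).obj L) n) :=
      TwistTens.tensorModCongrRight M (PullPow.powIso f hL n)
    haveI : (CohB1.tensorMod M
        ((Scheme.Modules.pullback f).obj (CohB1.tensorPow L n))).IsQuasicoherent :=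
      (SerreAmple.isCoh_tensor M _ hM (InvQc.isCoh_of_isInvertible _
        (PullGen.isInvertible_pullback f (TwForm.isInvertible_tensorPow hL n)))).1
    obtain ⟨e3⟩ := Groth.Agent.S0012.result f
      (CohB1.tensorMod M ((Scheme.Modules.pullback f).obj (CohB1.tensorPow L n))) p
    haveI := h1
    have h2 : Subsingleton (Coh.HH Y (CohB1.tensorMod M
        ((Scheme.Modules.pullback f).obj (CohB1.tensorPow L n))) p) := e3.toEquiv.subsingleton
    exact Groth.Agent.Lib.Helper4.ClBridge2.subsingleton_HH_of_iso e2 p h2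
  · intro hamp
    exact (Groth.Agent.S0051.result R X gX L hL).2 fun M hM =>
      sv_of_finite_surjective R gX gY f hL hamp M hM

end Groth.Agent.Helper1.AmpleDev
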