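import Mathlib
import Groth.Agent.Lib.Helper1.AmpleDev2
import Groth.Agent.Lib.Helper1.AmpleDev3

/-!
# Ampleness can be tested on the irreducible components (proper over a Noetherian ring) (helper1)
-/

set_option autoImplicit false
universe u
open CategoryTheory CategoryTheory.Limits AlgebraicGeometry TopologicalSpace Opposite

namespace Groth.Agent.Helper1.AmpleDev

open Groth.Agent.Helper1.TwForm Groth.Agent.Helper1 Groth.Agent.Helper1.Dv
open Groth.Agent.Helper1.QcCech Groth.Agent.Helper1.QcExt Groth.Agent.Helper1.CohACC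

variable {X : Scheme.{u}}

/-- a quasi-coherent module killed by the unit ideal is zero -/
theorem isZero_of_killedByIdeal_top (M : X.Modules) [M.IsQuasicoherent]
    (h : ClSub.KilledByIdeal (⊤ : X.IdealSheafData) M) : IsZero M := by
  refine isZero_of_affine_cover M (fun U : X.affineOpens => U.1) (fun U => U.2) ?_ ?_
  · apply le_antisymm le_top
    intro x _
    obtain ⟨_, ⟨W, hW, rfl⟩, hxW, -⟩ := X.isBasis_affineOpens.exists_subset_of_mem_open
      (Set.mem_univ x) isOpen_univ
    exact Opens.mem_iSup.2 ⟨⟨W, hW⟩, hxW⟩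
  · intro U s
    have h1 := h U 1 (by simp) s
    have h2 : (1 : Γ(X, U.1)) • s = s := one_smul _ _
    exact h2.symm.trans h1

/-- `J M` is killed by `K` when `M` is killed by `J K` -/
theorem killedByIdeal_idealMul_of_killed_mul (J K : X.IdealSheafData)
    (M : X.Modules) [M.IsQuasicoherent] (h : ClSub.KilledByIdeal (J * K) M) :
    ClSub.KilledByIdeal K ((Dual3.idealMul J).obj M) := by
  intro U a ha m
  apply FtLocal.app_injective_of_mono (Dual3.idealMulι J M) U.1
  have h2 : (Dual3.idealMulι J M).app U.1 (a • m) = a • (Dual3.idealMulι J M).app U.1 m :=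
    Scheme.Modules.Hom.app_smul _ _ _
  have h1 : (Dual3.idealMulι J M).app U.1 m ∈ sec (Dual3.idealMulι J M) U.1 := ⟨m, rfl⟩
  rw [sec_idealMulι J M U.2] at h1
  have h3 : a • (Dual3.idealMulι J M).app U.1 m = 0 := by
    refine Submodule.smul_induction_on h1 ?_ ?_
    · intro b hb x _
      rw [smul_smul]
      exact h U (a * b) (by
        rw [Scheme.IdealSheafData.ideal_mul, Pi.mul_apply, mul_comm]
        exact Ideal.mul_mem_mul ha hb) x
    · intro x y hx hy
      rw [smul_add, hx, hy, add_zero]
  have h5 : (Dual3.idealMulι J M).app U.1 (a • m) = 0 := h2.trans h3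
  exact h5.trans (map_zero _).symm

/-- the class of ideals all of whose killed coherent modules have the Serre vanishing property -/
def SVIdeal (L : X.Modules) (K : X.IdealSheafData) : Prop :=
  ∀ M : X.Modules, Coh.IsCoh M → ClSub.KilledByIdeal K M → SV L M

theorem SVIdeal.top (L : X.Modules) : SVIdeal L (⊤ : X.IdealSheafData) := by
  intro M hM hk
  haveI := hM.1
  exact SV.of_isZero (isZero_of_killedByIdeal_top M hk)

theorem SVIdeal.mul [IsLocallyNoetherian X] {L : X.Modules} (hL : PicF.IsInvertible L)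
    {J K : X.IdealSheafData} (hJ : SVIdeal L J) (hK : SVIdeal L K) : SVIdeal L (J * K) := by
  intro M hM hk
  haveI : M.IsQuasicoherent := hM.1
  let S : ShortComplex X.Modules := ShortComplex.mk (Dual3.idealMulι J M)
    (cokernel.π (Dual3.idealMulι J M)) (cokernel.condition _)
  have hS : S.ShortExact :=
    { exact := ShortComplex.exact_of_g_is_cokernel _ (cokernelIsCokernel _)
      mono_f := inferInstanceAs (Mono (Dual3.idealMulι J M))
      epi_g := inferInstanceAs (Epi (cokernel.π (Dual3.idealMulι J M))) }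
  have hIM : Coh.IsCoh ((Dual3.idealMul J).obj M) := isCoh_idealMul J M hM
  have hQ : Coh.IsCoh (cokernel (Dual3.idealMulι J M)) := FtLocal.isCoh_cokernel hIM hM _
  have h1 : SV L ((Dual3.idealMul J).obj M) :=
    hK _ hIM (killedByIdeal_idealMul_of_killed_mul J K M hk)
  have h3 : SV L (cokernel (Dual3.idealMulι J M)) :=
    hJ _ hQ (killedByIdeal_cokernel_idealMulι J M)
  exact SV.ext (S := S) hL hS h1 h3

theorem SVIdeal.finset_prod [IsLocallyNoetherian X] {L : X.Modules} (hL : PicF.IsInvertible L)
    {ι : Type*} (s : Finset ι) (K : ι → X.IdealSheafData) (h : ∀ i ∈ s, SVIdeal L (K i)) :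
    SVIdeal L (∏ i ∈ s, K i) := by
  classical
  induction s using Finset.induction_on with
  | empty =>
    rw [Finset.prod_empty, Scheme.IdealSheafData.one_eq_top]
    exact SVIdeal.top L
  | insert a s ha ih =>
    rw [Finset.prod_insert ha]
    exact SVIdeal.mul hL (h a (Finset.mem_insert_self a s))
      (ih fun i hi => h i (Finset.mem_insert_of_mem hi))

theorem SVIdeal.pow [IsLocallyNoetherian X] {L : X.Modules} (hL : PicF.IsInvertible L)
    {K : X.IdealSheafData} (h : SVIdeal L K) (n : ℕ) : SVIdeal L (K ^ n) := by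
  induction n with
  | zero =>
    rw [pow_zero, Scheme.IdealSheafData.one_eq_top]
    exact SVIdeal.top L
  | succ n ih =>
    rw [pow_succ]
    exact SVIdeal.mul hL ih h

/-- the nilradical of a Noetherian scheme is nilpotent -/
theorem exists_nilradical_pow_eq_bot [IsNoetherian X] : ∃ k : ℕ, X.nilradical ^ k = ⊥ := by
  classical
  obtain ⟨s, hs⟩ := isCompact_univ.elim_finite_subcover
    (fun i : X.affineOpens => (i.1 : Set X)) (fun i => i.1.2) (by
      intro x _
      obtain ⟨_, ⟨W, hW, rfl⟩, hxW, -⟩ := X.isBasis_affineOpens.exists_subset_of_mem_open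
        (Set.mem_univ x) isOpen_univ
      exact Set.mem_iUnion.2 ⟨⟨W, hW⟩, hxW⟩)
  have hnil : ∀ U : X.affineOpens, ∃ k : ℕ, (X.nilradical.ideal U) ^ k = ⊥ := by
    intro U
    haveI : IsNoetherianRing Γ(X, U.1) := IsLocallyNoetherian.component_noetherian U
    have h1 : X.nilradical.ideal U = nilradical Γ(X, U.1) := by
      change ((⊥ : X.IdealSheafData).radical).ideal U = _
      rw [Scheme.IdealSheafData.radical_ideal]
      rfl
    rw [h1]
    exact IsNoetherianRing.isNilpotent_nilradical _
  choose c hc using hnil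
  refine ⟨s.sup c, ?_⟩
  refine Scheme.IdealSheafData.ext_of_iSup_eq_top (fun i : s => i.1) ?_ ?_
  · apply le_antisymm le_top
    intro x _
    obtain ⟨i, hi, hxi⟩ := Set.mem_iUnion₂.1 (hs (Set.mem_univ x))
    exact Opens.mem_iSup.2 ⟨⟨i, hi⟩, hxi⟩
  · intro i
    rw [Scheme.IdealSheafData.ideal_pow, Scheme.IdealSheafData.ideal_bot]
    change (X.nilradical.ideal i.1) ^ (s.sup c) = ⊥
    have hle : c i.1 ≤ s.sup c := Finset.le_sup i.2
    rw [← Nat.sub_add_cancel hle, pow_add, hc, Ideal.mul_bot]

theorem mul_le_inf' (I J : X.IdealSheafData) : I * J ≤ I ⊓ J := by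
  intro U
  rw [Scheme.IdealSheafData.ideal_mul, Scheme.IdealSheafData.ideal_inf]
  exact Ideal.mul_le_inf

theorem prod_vanishingIdeal_le (T : Finset (Closeds X)) :
    ∏ Z ∈ T, Scheme.IdealSheafData.vanishingIdeal Z ≤
      Scheme.IdealSheafData.vanishingIdeal (T.sup id) := by
  classical
  induction T using Finset.induction_on with
  | empty =>
    rw [Finset.prod_empty, Finset.sup_empty, Scheme.IdealSheafData.vanishingIdeal_bot,
      Scheme.IdealSheafData.one_eq_top]
  | insert a s ha ih =>
    rw [Finset.prod_insert ha, Finset.sup_insert, Scheme.IdealSheafData.vanishingIdeal_sup]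
    exact (mul_le_inf' _ _).trans (inf_le_inf le_rfl ih)

theorem killedByIdeal_bot (M : X.Modules) : ClSub.KilledByIdeal (⊥ : X.IdealSheafData) M := by
  intro U a ha m
  rw [Scheme.IdealSheafData.ideal_bot] at ha
  have h0 : a = 0 := ha
  rw [h0]
  exact zero_smul _ _

/-- Serre vanishing from ampleness on the irreducible components -/
theorem sv_of_components (A : Type u) [CommRing A] [IsNoetherianRing A]
    (g : X ⟶ Spec (CommRingCat.of A)) [IsProper g] {L : X.Modules} (hL : PicF.IsInvertible L)
    (h : ∀ Z : Closeds ↥X, (Z : Set ↥X) ∈ irreducibleComponents ↥X →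
        CohB1.IsAmple ((Scheme.Modules.pullback
          (Scheme.IdealSheafData.vanishingIdeal Z).subschemeι).obj L))
    (M : X.Modules) (hM : Coh.IsCoh M) : SV L M := by
  classical
  haveI : CompactSpace X := QuasiCompact.compactSpace_of_compactSpace g
  haveI : IsLocallyNoetherian X := LocallyOfFiniteType.isLocallyNoetherian g
  haveI : IsNoetherian X := {}
  have hfin : (irreducibleComponents ↥X).Finite :=
    TopologicalSpace.NoetherianSpace.finite_irreducibleComponents
  have hs : {Z : Closeds ↥X | (Z : Set ↥X) ∈ irreducibleComponents ↥X}.Finite :=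
    Set.Finite.preimage (SetLike.coe_injective.injOn) hfin
  let T : Finset (Closeds ↥X) := hs.toFinset
  have h1 : ∀ Z ∈ T, SVIdeal L (Scheme.IdealSheafData.vanishingIdeal Z) := by
    intro Z hZ M' hM' hk
    exact SV.of_killed A g hL _ (h Z (hs.mem_toFinset.1 hZ)) M' hM' hk
  have h2 := SVIdeal.finset_prod hL T Scheme.IdealSheafData.vanishingIdeal h1
  obtain ⟨k, hk⟩ := exists_nilradical_pow_eq_bot (X := X)
  have h3 := SVIdeal.pow hL h2 k
  have hsup : T.sup id = ⊤ := by
    apply le_antisymm le_top
    intro x _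
    have hx : x ∈ ⋃₀ irreducibleComponents ↥X := by rw [sUnion_irreducibleComponents]; trivial
    obtain ⟨Z, hZ, hxZ⟩ := hx
    let Z' : Closeds ↥X := ⟨Z, isClosed_of_mem_irreducibleComponents Z hZ⟩
    have hZ'T : Z' ∈ T := hs.mem_toFinset.2 hZ
    have hle : Z' ≤ T.sup id := Finset.le_sup (f := id) hZ'T
    exact hle hxZ
  have h4 : (∏ Z ∈ T, Scheme.IdealSheafData.vanishingIdeal Z) ^ k = ⊥ := by
    apply le_antisymm _ bot_le
    rw [← hk]
    have h5 := prod_vanishingIdeal_le T
    rw [hsup, Scheme.IdealSheafData.vanishingIdeal_top] at h5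
    exact pow_le_pow_left' h5 k
  rw [h4] at h3
  exact h3 M hM (killedByIdeal_bot M)

/-- the pullback of an ample module along a finite morphism is ample (proper over a Noetherian
ring) -/
theorem isAmple_pullback_of_isFinite {Y : Scheme.{u}} (R : Type u) [CommRing R]
    [IsNoetherianRing R]
    (gX : X ⟶ Spec (CommRingCat.of R)) [IsProper gX]
    (gY : Y ⟶ Spec (CommRingCat.of R)) [IsProper gY]
    (f : Y ⟶ X) [IsFinite f] {L : X.Modules} (hL : PicF.IsInvertible L)
    (hamp : CohB1.IsAmple L) : CohB1.IsAmple ((Scheme.Modules.pullback f).obj L) := by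
  haveI : IsLocallyNoetherian X := LocallyOfFiniteType.isLocallyNoetherian gX
  refine (Groth.Agent.S0051.result R Y gY _ (PullGen.isInvertible_pullback f hL)).2 ?_
  intro M hM
  obtain ⟨n₀, hn₀⟩ := (Groth.Agent.S0051.result R X gX L hL).1 hamp
    ((Scheme.Modules.pushforward f).obj M) (FinPush.isCoh_pushforward f M hM)
  refine ⟨n₀, fun n hn p hp => ?_⟩
  obtain ⟨e⟩ := Groth.Agent.Lib.Helper4.ClBridge2.nonempty_projFormula f M
    (CohB1.tensorPow L n) (TwForm.isInvertible_tensorPow hL n)
  have h1 := Groth.Agent.Lib.Helper4.ClBridge2.subsingleton_HH_of_iso e p (hn₀ n hn p hp)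
  let e2 : CohB1.tensorMod M ((Scheme.Modules.pullback f).obj (CohB1.tensorPow L n)) ≅
      CohB1.tensorMod M (CohB1.tensorPow ((Scheme.Modules.pullback f).obj L) n) :=
    TwistTens.tensorModCongrRight M (PullPow.powIso f hL n)
  haveI : (CohB1.tensorMod M
      ((Scheme.Modules.pullback f).obj (CohB1.tensorPow L n))).IsQuasicoherent :=
    (SerreAmple.isCoh_tensor M _ hM (InvQc.isCoh_of_isInvertible _
      (PullGen.isInvertible_pullback f (TwForm.isInvertible_tensorPow hL n)))).1
  obtain ⟨e3⟩ := Groth.Agent.S0012.result f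
    (CohB1.tensorMod M ((Scheme.Modules.pullback f).obj (CohB1.tensorPow L n))) p
  haveI := h1
  have h2 : Subsingleton (Coh.HH Y (CohB1.tensorMod M
      ((Scheme.Modules.pullback f).obj (CohB1.tensorPow L n))) p) := e3.toEquiv.subsingleton
  exact Groth.Agent.Lib.Helper4.ClBridge2.subsingleton_HH_of_iso e2 p h2

/-- **S11559** -/
theorem isAmple_iff_components (A : Type u) [CommRing A] [IsNoetherianRing A]
    (g : X ⟶ Spec (CommRingCat.of A)) [IsProper g] {L : X.Modules} (hL : PicF.IsInvertible L) :
    CohB1.IsAmple L ↔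
      ∀ Z : Closeds ↥X, (Z : Set ↥X) ∈ irreducibleComponents ↥X →
        CohB1.IsAmple ((Scheme.Modules.pullback
          (Scheme.IdealSheafData.vanishingIdeal Z).subschemeι).obj L) := by
  constructor
  · intro hamp Z _
    exact isAmple_pullback_of_isFinite A g
      ((Scheme.IdealSheafData.vanishingIdeal Z).subschemeι ≫ g)
      (Scheme.IdealSheafData.vanishingIdeal Z).subschemeι hL hamp
  · intro h
    exact (Groth.Agent.S0051.result A X g L hL).2 fun M hM => sv_of_components A g hL h M hM

end Groth.Agent.Helper1.AmpleDev
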