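import Mathlib
import Groth.Agent.Lib.Helper1.Flq4
import Groth.Agent.Lib.Helper3.LerayCol3

set_option autoImplicit false
set_option linter.unusedSectionVars false
set_option linter.unusedVariables false
universe v v' v'' u u' u''
open CategoryTheory CategoryTheory.Limits

namespace Groth.Agent.Helper1.Uni

section Exact

variable {C : Type u} [Category.{v} C] [Abelian C] [EnoughInjectives C]
  {D : Type u'} [Category.{v'} D] [Abelian D] (F : C ⥤ D) [F.Additive] [PreservesFiniteLimits F]
  [F.PreservesEpimorphisms]

/-- the higher right derived functors of an exact functor vanish -/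
theorem rightDerived_isZero_of_exact (n : ℕ) (M : C) : IsZero ((F.rightDerived (n + 1)).obj M) :=
  Groth.Agent.Helper1.Flq.rightDerived_isZero F (fun _ => True)
    (fun S hS _ _ => ⟨trivial, by haveI := hS.epi_g; infer_instance⟩) n M trivial

end Exact

section Comp

variable {C : Type u} [Category.{v} C] [Abelian C] [HasInjectiveResolutions C]
  {C' : Type u'} [Category.{v'} C'] [Abelian C'] [HasInjectiveResolutions C'] [EnoughInjectives C']
  {C'' : Type u''} [Category.{v''} C''] [Abelian C'']
  (T : C ⥤ C') [T.Additive] (S : C' ⥤ C'') [S.Additive] [PreservesFiniteLimits S]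
  [S.PreservesEpimorphisms]

open Groth.Agent.Helper3 in
/-- right derived functors commute with post-composition by an exact functor -/
theorem rightDerived_comp_exact (A : C) (n : ℕ) :
    Nonempty (((T ⋙ S).rightDerived n).obj A ≅ S.obj ((T.rightDerived n).obj A)) :=
  LerayCol3.nonempty_iso_col T S
    (fun Q hQ q hq => by
      obtain ⟨m, rfl⟩ : ∃ m, q = m + 1 := ⟨q - 1, by omega⟩
      exact rightDerived_isZero_of_exact S m _) A
    (fun q p hp => by
      obtain ⟨m, rfl⟩ : ∃ m, p = m + 1 := ⟨p - 1, by omega⟩
      exact rightDerived_isZero_of_exact S m _) n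

end Comp

end Groth.Agent.Helper1.Uni
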