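import Mathlib
import Groth.Prelude.Def_Coh
import Groth.Prelude.Def_CohB1
import Groth.Agent.Lib.Helper1.FtLocal

set_option autoImplicit false
universe u
open CategoryTheory CategoryTheory.Limits AlgebraicGeometry TopologicalSpace Opposite

namespace Groth.Agent.Helper1.FpLocal

variable {X : Scheme.{u}}

theorem presentationOver_isFinite (F : X.Modules) (U : X.Opens)
    (P : (F.restrict U.ι).Presentation) [hP : P.IsFinite] :
    (QCohLib.presentationOver F U P).IsFinite := by
  have h1 : Finite P.generators.I := hP.isFiniteType_generators.finite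
  have h2 : Finite P.relations.I := hP.isFiniteType_relations.finite
  constructor
  · constructor
    exact h1
  · constructor
    exact h2

set_option backward.isDefEq.respectTransparency false in
theorem exists_finite_presentation_restrict_opensRange (F : X.Modules) {R : CommRingCat.{u}}
    (j : Spec R ⟶ X) [IsOpenImmersion j] (P : (F.restrict j).Presentation) [hP : P.IsFinite] :
    ∃ P' : (F.restrict j.opensRange.ι).Presentation, P'.IsFinite := by
  have h1 : Finite P.generators.I := hP.isFiniteType_generators.finite
  have h2 : Finite P.relations.I := hP.isFiniteType_relations.finite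
  let e := j.isoOpensRange
  have he : e.inv ≫ j = j.opensRange.ι := by
    rw [Iso.inv_comp_eq]
    exact (Scheme.Hom.isoOpensRange_hom_ι j).symm
  let P1 := Scheme.Modules.presentationRestrict e.inv P
  let iso : (F.restrict j).restrict e.inv ≅ F.restrict j.opensRange.ι :=
    ((Scheme.Modules.restrictFunctorComp e.inv j).app F).symm ≪≫
      (Scheme.Modules.restrictFunctorCongr he).app F
  have h : IsIso (C := SheafOfModules.{u} (j.opensRange : Scheme.{u}).ringCatSheaf) iso.hom :=
    Iso.isIso_hom iso
  refine ⟨SheafOfModules.Presentation.ofIsIso.{u, u, u} iso.hom P1, ?_⟩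
  constructor
  · constructor
    exact h1
  · constructor
    exact h2

theorem exists_finite_presentation_of_finite {R : CommRingCat.{u}} [IsNoetherianRing R]
    (N : (Spec R).Modules) [N.IsQuasicoherent] (h : Module.Finite R Γ(N, ⊤)) :
    ∃ P : SheafOfModules.Presentation N, P.IsFinite := by
  classical
  let G : ModuleCat.{u} R := (modulesSpecToSheaf.obj N).presheaf.obj (.op ⊤)
  have hG : Module.Finite R G := h
  obtain ⟨s, hs⟩ := hG.fg_top
  let s' : Set G := (s : Set G)
  have hfin : Finite s' := s.finite_toSet.to_subtype
  have hker : (LinearMap.ker (Finsupp.linearCombination R (Subtype.val : s' → G))).FG :=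
    IsNoetherian.noetherian _
  obtain ⟨t, ht⟩ := hker
  let P0 := presentationTilde G s' hs (t : Set (s' →₀ R)) ht
  have h1 : Finite P0.generators.I := hfin
  have h2 : Finite P0.relations.I := t.finite_toSet.to_subtype
  have hiso : IsIso (C := SheafOfModules.{u} (Spec R).ringCatSheaf) N.fromTildeΓ :=
    inferInstanceAs (IsIso N.fromTildeΓ)
  refine ⟨SheafOfModules.Presentation.ofIsIso.{u, u, u} N.fromTildeΓ P0, ?_⟩
  constructor
  · constructor
    exact h1
  · constructor
    exact h2

theorem isFP_of_isCoh [IsLocallyNoetherian X] (M : X.Modules) (hM : Coh.IsCoh M) :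
    CohB1.IsFP M := by
  have : M.IsQuasicoherent := hM.1
  have key : ∀ V : X.affineOpens,
      ∃ P : (M.restrict (V.2.fromSpec).opensRange.ι).Presentation, P.IsFinite := by
    intro V
    have : IsNoetherianRing Γ(X, V.1) := IsLocallyNoetherian.component_noetherian V
    have hfin := AffFin.finite_restrict M hM.1 hM.2 V.2.fromSpec
    have : (M.restrict V.2.fromSpec).IsQuasicoherent := inferInstance
    obtain ⟨P, hP⟩ := exists_finite_presentation_of_finite (M.restrict V.2.fromSpec) hfin
    exact exists_finite_presentation_restrict_opensRange M V.2.fromSpec P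
  choose P hP using key
  have hcov : ⨆ V : X.affineOpens, (V.2.fromSpec).opensRange = ⊤ := by
    apply le_antisymm le_top
    intro y _
    obtain ⟨_, ⟨W, hW, rfl⟩, hyW, -⟩ := X.isBasis_affineOpens.exists_subset_of_mem_open
      (Set.mem_univ y) isOpen_univ
    refine Opens.mem_iSup.2 ⟨⟨W, hW⟩, ?_⟩
    rw [IsAffineOpen.opensRange_fromSpec]
    exact hyW
  let σ : SheafOfModules.QuasicoherentData.{u} (R := X.ringCatSheaf) M :=
    { I := X.affineOpens
      X := fun V => (V.2.fromSpec).opensRange
      coversTop := (Opens.coversTop_iff (T := X) _).mpr hcov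
      presentation := fun V => QCohLib.presentationOver M _ (P V) }
  have hσ : σ.IsFinitePresentation := by
    constructor
    intro V
    exact presentationOver_isFinite M _ (P V)
  constructor
  exact ⟨σ, hσ⟩

theorem isCoh_iff_isFP [IsLocallyNoetherian X] (M : X.Modules) : Coh.IsCoh M ↔ CohB1.IsFP M := by
  constructor
  · exact isFP_of_isCoh M
  · intro h
    have : SheafOfModules.IsFinitePresentation (R := X.ringCatSheaf) M := h
    exact ⟨inferInstance, inferInstance⟩

end Groth.Agent.Helper1.FpLocal
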