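import Mathlib

/-!
# Open subschemes of the spectrum of a Noetherian local ring of dimension at most one are affine
(helper1)
-/

set_option autoImplicit false
universe u
open CategoryTheory CategoryTheory.Limits AlgebraicGeometry TopologicalSpace Opposite

namespace Groth.Agent.Helper1.DimOneAff

variable (A' : Type u) [CommRing A'] [IsLocalRing A'] [IsNoetherianRing A']

omit [IsNoetherianRing A'] in
theorem mem_minimalPrimes_of_ne_closedPoint (hd : ringKrullDim A' ≤ 1) (q : PrimeSpectrum A')
    (hq : q ≠ IsLocalRing.closedPoint A') : q.asIdeal ∈ minimalPrimes A' := by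
  haveI : Ring.KrullDimLE 1 A' := (Ring.krullDimLE_iff).mpr hd
  rcases Ring.krullDimLE_one_iff.mp ‹_› q.asIdeal q.isPrime with h | h
  · exact h
  · exfalso
    apply hq
    ext1
    exact (IsLocalRing.eq_maximalIdeal h)

theorem isAffine_of_isOpenImmersion (hd : ringKrullDim A' ≤ 1) {Y : Scheme.{u}}
    (j : Y ⟶ Spec (CommRingCat.of A')) [IsOpenImmersion j] : IsAffine Y := by
  by_cases hc : IsLocalRing.closedPoint A' ∈ Set.range j.base
  · -- the range is everything
    have hsurj : Function.Surjective j.base := by
      intro y
      have hy : y ⤳ IsLocalRing.closedPoint A' := IsLocalRing.specializes_closedPoint y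
      exact hy.mem_open j.isOpenEmbedding.isOpen_range hc
    haveI : Surjective j := ⟨hsurj⟩
    haveI : IsIso j := (isIso_iff_isOpenImmersion_and_epi_base j).mpr
      ⟨inferInstance, (TopCat.epi_iff_surjective _).mpr hsurj⟩
    exact IsAffine.of_isIso j
  · have hinj : Function.Injective j.base := j.isOpenEmbedding.injective
    have hmin : ∀ y : Y, (j.base y).asIdeal ∈ minimalPrimes A' := fun y =>
      mem_minimalPrimes_of_ne_closedPoint A' hd _ (fun h => hc ⟨y, h⟩)
    haveI : Finite Y := by
      have hfin : (minimalPrimes A').Finite := minimalPrimes.finite_of_isNoetherianRing A'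
      haveI := hfin.to_subtype
      refine Finite.of_injective (fun y : Y => (⟨(j.base y).asIdeal, hmin y⟩ : minimalPrimes A')) ?_
      intro a b hab
      apply hinj
      exact PrimeSpectrum.ext (congrArg Subtype.val hab)
    haveI : T1Space Y := by
      rw [t1Space_iff_specializes_imp_eq]
      intro a b hab
      have h1 : j.base a ⤳ j.base b := hab.map j.base.hom.2
      have h2 : (j.base a).asIdeal ≤ (j.base b).asIdeal :=
        (PrimeSpectrum.le_iff_specializes _ _).mpr h1
      apply hinj
      exact PrimeSpectrum.ext (le_antisymm h2 ((hmin b).2 ⟨(j.base a).isPrime, bot_le⟩ h2))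
    infer_instance

end Groth.Agent.Helper1.DimOneAff
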