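import Mathlib
import Groth.Agent.Lib.Lead.BCU1

/-!
# Flat base change of the homology of a complex of modules (helper1)
-/

set_option autoImplicit false
universe u
open TensorProduct CategoryTheory

namespace Groth.Agent.Helper1.FBC

open Groth.Agent.Lead.BCU

section Basic

variable {A A' : Type u} [CommRing A] [CommRing A'] (φ : A →+* A')
  {M N : Type u} [AddCommGroup M] [Module A M] [AddCommGroup N] [Module A' N]

/-- an honest base change gives `IsBC` -/
theorem isBC_of_isBaseChange (inst : Module A N) (hs : ∀ (a : A) (n : N), a • n = φ a • n)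
    (l : M →ₗ[A] N)
    (h : letI := φ.toAlgebra
      haveI : IsScalarTower A A' N := ⟨fun a a' n => by
        rw [hs]
        change (φ a * a') • n = φ a • a' • n
        exact mul_smul _ _ _⟩
      IsBaseChange A' l) : IsBC φ (l : M → N) := by
  have e : inst = Module.compHom N φ := by
    apply Module.ext'
    intro a n
    exact hs a n
  subst e
  exact ⟨l, fun _ => rfl, h⟩

end Basic

section Fields

variable {k k' : Type u} [Field k] [Field k'] (φ : k →+* k')
  {M N : Type u} [AddCommGroup M] [Module k M] [AddCommGroup N] [Module k' N]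

theorem IsBC.finrank_eq {l : M → N} (h : IsBC φ l) :
    Module.finrank k' N = Module.finrank k M := by
  letI := φ.toAlgebra
  letI : Module k N := Module.compHom N φ
  haveI : IsScalarTower k k' N := ⟨fun a a' n => by
    change (φ a * a') • n = φ a • a' • n
    exact mul_smul _ _ _⟩
  obtain ⟨l', _, hb⟩ := h
  rw [← hb.equiv.finrank_eq]
  exact Module.finrank_baseChange

theorem IsBC.subsingleton_iff {l : M → N} (h : IsBC φ l) :
    Subsingleton N ↔ Subsingleton M := by
  letI := φ.toAlgebra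
  letI : Module k N := Module.compHom N φ
  haveI : IsScalarTower k k' N := ⟨fun a a' n => by
    change (φ a * a') • n = φ a • a' • n
    exact mul_smul _ _ _⟩
  obtain ⟨l', _, hb⟩ := h
  rw [← hb.equiv.toEquiv.subsingleton_congr]
  rw [← rank_zero_iff (R := k'), ← rank_zero_iff (R := k), Module.rank_baseChange]
  simp

theorem IsBC.finite {A A' : Type u} [CommRing A] [CommRing A'] (φ : A →+* A')
    {M N : Type u} [AddCommGroup M] [Module A M] [AddCommGroup N] [Module A' N]
    {l : M → N} (h : IsBC φ l) [Module.Finite A M] : Module.Finite A' N := by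
  letI := φ.toAlgebra
  letI : Module A N := Module.compHom N φ
  haveI : IsScalarTower A A' N := ⟨fun a a' n => by
    change (φ a * a') • n = φ a • a' • n
    exact mul_smul _ _ _⟩
  obtain ⟨l', _, hb⟩ := h
  exact Module.Finite.equiv hb.equiv

end Fields

section Hom

variable {A A' : Type u} [CommRing A] [CommRing A'] (φ : A →+* A')

/-- flat base change of the homology of a short complex of modules -/
theorem exists_isBC_moduleCatHomology (hfl : φ.Flat)
    (S : ShortComplex (ModuleCat.{u} A)) (S' : ShortComplex (ModuleCat.{u} A'))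
    (h₁ : S.X₁ → S'.X₁) (h₂ : S.X₂ → S'.X₂) (h₃ : S.X₃ → S'.X₃)
    (b₁ : IsBC φ h₁) (b₂ : IsBC φ h₂) (b₃ : IsBC φ h₃)
    (c₁ : ∀ x, h₂ (S.f x) = S'.f (h₁ x)) (c₂ : ∀ x, h₃ (S.g x) = S'.g (h₂ x)) :
    ∃ l : S.moduleCatLeftHomologyData.H → S'.moduleCatLeftHomologyData.H, IsBC φ l := by
  letI := φ.toAlgebra
  haveI : Module.Flat A A' := hfl
  letI m₁ : Module A S'.X₁ := Module.compHom _ φ
  letI m₂ : Module A S'.X₂ := Module.compHom _ φ
  letI m₃ : Module A S'.X₃ := Module.compHom _ φ
  haveI t₁ : IsScalarTower A A' S'.X₁ := ⟨fun a a' n => by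
    change (φ a * a') • n = φ a • a' • n
    exact mul_smul _ _ _⟩
  haveI t₂ : IsScalarTower A A' S'.X₂ := ⟨fun a a' n => by
    change (φ a * a') • n = φ a • a' • n
    exact mul_smul _ _ _⟩
  haveI t₃ : IsScalarTower A A' S'.X₃ := ⟨fun a a' n => by
    change (φ a * a') • n = φ a • a' • n
    exact mul_smul _ _ _⟩
  obtain ⟨l₁, hl₁, B₁⟩ := b₁
  obtain ⟨l₂, hl₂, B₂⟩ := b₂
  obtain ⟨l₃, hl₃, B₃⟩ := b₃
  -- the map on kernels
  have hk : ∀ x ∈ LinearMap.ker S.g.hom, l₂ x ∈ LinearMap.ker S'.g.hom := by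
    intro x hx
    rw [LinearMap.mem_ker] at hx ⊢
    rw [hl₂]
    have := c₂ x
    change h₃ (S.g.hom x) = S'.g.hom (h₂ x) at this
    rw [← this, hx, ← hl₃, map_zero]
  let lk : LinearMap.ker S.g.hom →ₗ[A] LinearMap.ker S'.g.hom :=
    { toFun := fun x => ⟨l₂ x.1, hk x.1 x.2⟩
      map_add' := fun x y => by
        apply Subtype.ext
        change l₂ (x.1 + y.1) = l₂ x.1 + l₂ y.1
        exact map_add _ _ _
      map_smul' := fun a x => by
        apply Subtype.ext
        change l₂ (a • x.1) = a • l₂ x.1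
        exact map_smul _ _ _ }
  have Bk : IsBaseChange A' lk := by
    refine IsBaseChange.of_left_exact A' lk l₂ l₃
      (f := (LinearMap.ker S.g.hom).subtype) (g := S.g.hom)
      (f' := (LinearMap.ker S'.g.hom).subtype) (g' := S'.g.hom) ?_ ?_ B₂ B₃
      (LinearMap.exact_subtype_ker_map _) (Submodule.injective_subtype _)
      (LinearMap.exact_subtype_ker_map _) (Submodule.injective_subtype _)
    · ext x
      rfl
    · ext x
      change l₃ (S.g.hom x) = S'.g.hom (l₂ x)
      rw [hl₃, hl₂]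
      exact c₂ x
  -- the map on homology
  have hq : LinearMap.range S.moduleCatToCycles ≤
      LinearMap.ker (((LinearMap.range S'.moduleCatToCycles).mkQ.restrictScalars A).comp lk) := by
    rintro _ ⟨x, rfl⟩
    rw [LinearMap.mem_ker]
    change (LinearMap.range S'.moduleCatToCycles).mkQ (lk (S.moduleCatToCycles x)) = 0
    rw [Submodule.mkQ_apply, Submodule.Quotient.mk_eq_zero]
    refine ⟨l₁ x, ?_⟩
    apply Subtype.ext
    change S'.f.hom (l₁ x) = l₂ (S.f.hom x)
    rw [hl₁, hl₂]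
    exact (c₁ x).symm
  let lh : (LinearMap.ker S.g.hom ⧸ LinearMap.range S.moduleCatToCycles) →ₗ[A]
      (LinearMap.ker S'.g.hom ⧸ LinearMap.range S'.moduleCatToCycles) :=
    (LinearMap.range S.moduleCatToCycles).liftQ _ hq
  have Bh : IsBaseChange A' lh := by
    refine IsBaseChange.of_right_exact A' l₁ lk lh
      (f := S.moduleCatToCycles) (g := (LinearMap.range S.moduleCatToCycles).mkQ)
      (f' := S'.moduleCatToCycles) (g' := (LinearMap.range S'.moduleCatToCycles).mkQ)
      ?_ ?_ B₁ Bk ?_ (Submodule.mkQ_surjective _) ?_ (Submodule.mkQ_surjective _)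
    · ext x
      change l₂ (S.f.hom x) = S'.f.hom (l₁ x)
      rw [hl₁, hl₂]
      exact c₁ x
    · ext x
      rfl
    · exact LinearMap.exact_map_mkQ_range _
    · exact LinearMap.exact_map_mkQ_range _
  refine ⟨lh, ?_⟩
  exact ⟨lh, fun _ => rfl, Bh⟩

theorem exists_isBC_shortComplex_homology (hfl : φ.Flat)
    (S : ShortComplex (ModuleCat.{u} A)) (S' : ShortComplex (ModuleCat.{u} A'))
    (h₁ : S.X₁ → S'.X₁) (h₂ : S.X₂ → S'.X₂) (h₃ : S.X₃ → S'.X₃)
    (b₁ : IsBC φ h₁) (b₂ : IsBC φ h₂) (b₃ : IsBC φ h₃)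
    (c₁ : ∀ x, h₂ (S.f x) = S'.f (h₁ x)) (c₂ : ∀ x, h₃ (S.g x) = S'.g (h₂ x)) :
    ∃ l : S.homology → S'.homology, IsBC φ l := by
  obtain ⟨l₀, hl₀⟩ := exists_isBC_moduleCatHomology φ hfl S S' h₁ h₂ h₃ b₁ b₂ b₃ c₁ c₂
  let μ := S.moduleCatHomologyIso.toLinearEquiv
  let ν := S'.moduleCatHomologyIso.toLinearEquiv
  refine ⟨fun x => ν.symm (l₀ (μ x)), ?_⟩
  refine IsBC.of_equiv μ ν ?_ hl₀
  intro m
  exact ν.apply_symm_apply _

theorem exists_isBC_homology (hfl : φ.Flat) {ι : Type*} {c : ComplexShape ι}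
    (K : HomologicalComplex (ModuleCat.{u} A) c) (K' : HomologicalComplex (ModuleCat.{u} A') c)
    (θ : ∀ n, K.X n → K'.X n) (hθ : ∀ n, IsBC φ (θ n))
    (comm : ∀ i j x, θ j (K.d i j x) = K'.d i j (θ i x)) (p : ι) :
    ∃ l : K.homology p → K'.homology p, IsBC φ l :=
  exists_isBC_shortComplex_homology φ hfl (K.sc p) (K'.sc p) (θ _) (θ _) (θ _) (hθ _) (hθ _) (hθ _)
    (comm _ _) (comm _ _)

end Hom

end Groth.Agent.Helper1.FBC
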