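import Mathlib
import Groth.Agent.Lib.Lead.BCU1

set_option autoImplicit false
universe u
open TensorProduct CategoryTheory

namespace Groth.Agent.Helper1.FBC

open Groth.Agent.Lead.BCU

section Basic2

variable {A A' : Type u} [CommRing A] [CommRing A'] {φ : A →+* A'}
  {M N : Type u} [AddCommGroup M] [Module A M] [AddCommGroup N] [Module A' N]

theorem IsBC.map_add' {l : M → N} (h : IsBC φ l) (x y : M) : l (x + y) = l x + l y := by
  letI : Module A N := Module.compHom N φ
  obtain ⟨l', hl, _⟩ := h
  rw [← hl, ← hl, ← hl]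
  exact l'.map_add x y

theorem IsBC.map_zero' {l : M → N} (h : IsBC φ l) : l 0 = 0 := by
  letI : Module A N := Module.compHom N φ
  obtain ⟨l', hl, _⟩ := h
  rw [← hl]
  exact l'.map_zero

theorem IsBC.map_smul' {l : M → N} (h : IsBC φ l) (a : A) (x : M) : l (a • x) = φ a • l x := by
  letI : Module A N := Module.compHom N φ
  obtain ⟨l', hl, _⟩ := h
  rw [← hl, ← hl]
  exact l'.map_smul a x

/-- the additive map underlying a base change -/
def IsBC.toAddMonoidHom {l : M → N} (h : IsBC φ l) : M →+ N where
  toFun := l
  map_zero' := IsBC.map_zero' h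
  map_add' := IsBC.map_add' h

theorem IsBC.toAddMonoidHom_apply {l : M → N} (h : IsBC φ l) (x : M) :
    IsBC.toAddMonoidHom h x = l x := rfl

end Basic2

section Pushout

variable {R R' B B' : Type u} [CommRing R] [CommRing R'] [CommRing B] [CommRing B']
  (φR : R →+* R') (φB : B →+* B') (α : R →+* B) (α' : R' →+* B')

/-- a base change along the right side of a pushout square of rings is a base change along the
left side -/
theorem isBC_of_pushout
    (hpo : IsPushout (CommRingCat.ofHom φR) (CommRingCat.ofHom α) (CommRingCat.ofHom α')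
      (CommRingCat.ofHom φB))
    {M N : Type u} [AddCommGroup M] [Module R M] [Module B M]
    (hM : ∀ (r : R) (m : M), r • m = α r • m)
    [AddCommGroup N] [Module R' N] [Module B' N]
    (hN : ∀ (r : R') (n : N), r • n = α' r • n)
    {l : M → N} (h : IsBC φB l) : IsBC φR l := by
  have comm : α'.comp φR = φB.comp α := by
    have := hpo.w
    exact congrArg CommRingCat.Hom.hom this
  letI : Algebra R R' := φR.toAlgebra
  letI : Algebra R B := α.toAlgebra
  letI : Algebra B B' := φB.toAlgebra
  letI : Algebra R' B' := α'.toAlgebra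
  letI : Algebra R B' := (φB.comp α).toAlgebra
  haveI : IsScalarTower R B B' := IsScalarTower.of_algebraMap_eq' rfl
  haveI : IsScalarTower R R' B' := IsScalarTower.of_algebraMap_eq' comm.symm
  haveI : IsScalarTower R B M := ⟨fun r b m => by
    change (α r * b) • m = r • b • m
    rw [mul_smul, hM]⟩
  haveI hP : Algebra.IsPushout R R' B B' := CommRingCat.isPushout_iff_isPushout.1 hpo
  letI : Module B N := Module.compHom N φB
  haveI : IsScalarTower B B' N := ⟨fun a a' n => by
    change (φB a * a') • n = φB a • a' • n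
    exact mul_smul _ _ _⟩
  haveI : IsScalarTower R' B' N := ⟨fun a a' n => by
    change (α' a * a') • n = a • a' • n
    rw [mul_smul, hN]⟩
  letI : Module R N := Module.compHom N φR
  haveI : IsScalarTower R R' N := ⟨fun a a' n => by
    change (φR a * a') • n = φR a • a' • n
    exact mul_smul _ _ _⟩
  obtain ⟨l2', hl2, hb2⟩ := h
  let e2 : B' ⊗[B] M ≃ₗ[B'] N := hb2.equiv
  let c : B' ⊗[B] M ≃ₗ[R'] R' ⊗[R] M := Algebra.IsPushout.cancelBaseChange R R' B B' M
  let e : R' ⊗[R] M ≃ₗ[R'] N := c.symm ≪≫ₗ (e2.restrictScalars R')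
  let lR : M →ₗ[R] N :=
    { toFun := l
      map_add' := fun x y => by
        rw [← hl2, ← hl2, ← hl2]
        exact l2'.map_add x y
      map_smul' := fun r m => by
        rw [hM, ← hl2, ← hl2, l2'.map_smul]
        change φB (α r) • l2' m = φR r • l2' m
        rw [hN]
        have := congrArg (fun ψ => ψ r) comm
        change α' (φR r) = φB (α r) at this
        rw [this] }
  refine ⟨lR, fun _ => rfl, IsBaseChange.of_equiv e (fun x => ?_)⟩
  change e2 (c.symm (1 ⊗ₜ x)) = l x
  rw [Algebra.IsPushout.cancelBaseChange_symm_tmul, map_one, IsBaseChange.equiv_tmul, one_smul, hl2]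

end Pushout

end Groth.Agent.Helper1.FBC
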