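import Mathlib
import Groth.Prelude.Def_Coh
import Groth.Agent.Lib.Lead.BCU4
import Groth.Agent.Lib.Helper4.CechTen3
import Groth.Agent.Lib.Helper1.FBC1
import Groth.Agent.Lib.Helper1.FBC2

/-!
# Flat base change: sections over affine opens (helper1)
-/

set_option backward.isDefEq.respectTransparency.types false
set_option synthInstance.maxHeartbeats 400000
set_option autoImplicit false
set_option linter.unusedSectionVars false
set_option linter.style.haveILetI false
set_option linter.unusedSimpArgs false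
universe u
open CategoryTheory CategoryTheory.Limits AlgebraicGeometry TopologicalSpace Opposite TensorProduct

namespace Groth.Agent.Helper1.FBC

open Groth.Agent.Lead.BCU
open Groth.Agent.Lib.Helper4.BaseChgRing1
open Groth.Agent.Lib.Helper4.TenSec2

section Geo

variable (A A' : Type u) [CommRing A] [CommRing A'] (φ : A →+* A')
  {X X' : Scheme.{u}} [X.Over (Spec (CommRingCat.of A))] [X'.Over (Spec (CommRingCat.of A'))]
  (g : X' ⟶ X)

theorem isPushout_alphaRing
    (hpb : IsPullback g (X' ↘ Spec (CommRingCat.of A')) (X ↘ Spec (CommRingCat.of A))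
      (Spec.map (CommRingCat.ofHom φ)))
    {W : X.Opens} (hW : IsAffineOpen W) {W' : X'.Opens} (hW' : W' = g ⁻¹ᵁ W) :
    IsPushout (CommRingCat.ofHom φ) (CommRingCat.ofHom (alphaRing A X W))
      (CommRingCat.ofHom (alphaRing A' X' W')) (g.appLE W W' (le_of_eq hW')) := by
  have hUY : W' = g ⁻¹ᵁ W ⊓ (X' ↘ Spec (CommRingCat.of A')) ⁻¹ᵁ ⊤ := by
    rw [hW']
    ext x
    simp
  have hUST : (⊤ : (Spec (CommRingCat.of A')).Opens) ≤
      (Spec.map (CommRingCat.ofHom φ)) ⁻¹ᵁ ⊤ := fun _ _ => trivial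
  have hUSX : W ≤ (X ↘ Spec (CommRingCat.of A)) ⁻¹ᵁ ⊤ := fun _ _ => trivial
  have h1 := (isIso_pushoutSection_iff hpb hUST hUSX hUY).1
    (isIso_pushoutSection_of_isAffineOpen hpb hUST hUSX hUY (isAffineOpen_top _)
      (isAffineOpen_top _) hW)
  refine h1.flip.of_iso (Scheme.ΓSpecIso (CommRingCat.of A)) (Scheme.ΓSpecIso (CommRingCat.of A'))
    (Iso.refl _) (Iso.refl _) ?_ ?_ ?_ ?_
  · exact Scheme.ΓSpecIso_naturality (CommRingCat.ofHom φ)
  · rw [Iso.refl_hom, Category.comp_id]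
    change _ = (Scheme.ΓSpecIso (CommRingCat.of A)).hom ≫
      ((Scheme.ΓSpecIso (CommRingCat.of A)).inv ≫ (X ↘ Spec (CommRingCat.of A)).appLE ⊤ W le_top)
    rw [Iso.hom_inv_id_assoc]
  · rw [Iso.refl_hom, Category.comp_id]
    change _ = (Scheme.ΓSpecIso (CommRingCat.of A')).hom ≫
      ((Scheme.ΓSpecIso (CommRingCat.of A')).inv ≫
        (X' ↘ Spec (CommRingCat.of A')).appLE ⊤ W' le_top)
    rw [Iso.hom_inv_id_assoc]
  · rw [Iso.refl_hom, Category.comp_id, Iso.refl_hom, Category.id_comp]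

variable (F : X.Modules)

attribute [local instance] secMod

theorem isBC_unitRes_base [F.IsQuasicoherent]
    (hpb : IsPullback g (X' ↘ Spec (CommRingCat.of A')) (X ↘ Spec (CommRingCat.of A))
      (Spec.map (CommRingCat.ofHom φ)))
    {W : X.Opens} (hW : IsAffineOpen W) {W' : X'.Opens} (hW'a : IsAffineOpen W')
    (hW' : W' = g ⁻¹ᵁ W) :
    IsBC φ (unitRes g F (le_of_eq hW')) := by
  have hpo := isPushout_alphaRing A A' φ g hpb hW hW'
  have h2 := isBC_unitRes g F hW hW'a (le_of_eq hW')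
  exact isBC_of_pushout φ (g.appLE W W' (le_of_eq hW')).hom (alphaRing A X W)
    (alphaRing A' X' W') hpo (fun r m => rfl) (fun r n => rfl) h2

/-- `unitRes` commutes with restrictions -/
theorem unitRes_res {W₁ W₂ : X.Opens} {W₁' W₂' : X'.Opens} (e₁ : W₁' ≤ g ⁻¹ᵁ W₁)
    (e₂ : W₂' ≤ g ⁻¹ᵁ W₂) (h : W₂ ≤ W₁) (h' : W₂' ≤ W₁') (m : Γ(F, W₁)) :
    res ((Scheme.Modules.pullback g).obj F) h' (unitRes g F e₁ m) =
      unitRes g F e₂ (res F h m) := by
  unfold unitRes
  have h1 := app_res ((Scheme.Modules.pullbackPushforwardAdjunction g).unit.app F) h m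
  rw [res_res]
  refine Eq.trans ?_ (congrArg (res ((Scheme.Modules.pullback g).obj F) e₂) h1).symm
  exact (res_res ((Scheme.Modules.pullback g).obj F) (g.preimage_mono h) e₂ _).symm

end Geo

end Groth.Agent.Helper1.FBC
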