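import Mathlib
import Groth.Prelude.Def_Coh
import Groth.Agent.Lib.Lead.BCU4
import Groth.Agent.Lib.Lead.PB1
import Groth.Agent.Lib.Helper4.CechTen3
import Groth.Agent.Lib.Helper4.SepCover1
import Groth.Agent.Lib.Helper1.FBC1
import Groth.Agent.Lib.Helper1.FBC2
import Groth.Agent.Lib.Helper1.FBC3

/-!
# Flat base change of the cohomology of quasi-coherent modules (helper1)
-/

set_option backward.isDefEq.respectTransparency.types false
set_option synthInstance.maxHeartbeats 400000
set_option autoImplicit false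
set_option linter.unusedSectionVars false
set_option linter.style.haveILetI false
set_option linter.unusedSimpArgs false
universe u
open CategoryTheory CategoryTheory.Limits AlgebraicGeometry TopologicalSpace Opposite TensorProduct

namespace Groth.Agent.Helper1.FBC

open Groth.Agent.Lead.BCU
open Groth.Agent.Helper1
open Groth.Agent.Helper1.QcCech
open Groth.Agent.Lib.Helper4.BaseChgRing1
open Groth.Agent.Lib.Helper4.TenSec2
open Groth.Agent.Lib.Helper4.LocCech1
open Groth.Agent.Lib.Helper4.CechTen1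
open Groth.Agent.Lib.Helper4.CechTen3

section Cx

variable (A A' : Type u) [CommRing A] [CommRing A'] (φ : A →+* A')
  {X X' : Scheme.{u}} [X.Over (Spec (CommRingCat.of A))] [X'.Over (Spec (CommRingCat.of A'))]
  (g : X' ⟶ X) (F : X.Modules) {ι : Type u} (U : ι → X.Opens)

theorem W_preimage {n : ℕ} (a : Fin (n + 1) → ι) :
    TCx.W (fun i => g ⁻¹ᵁ U i) a = g ⁻¹ᵁ TCx.W U a := by
  rw [TCx.W_eq_iInf, TCx.W_eq_iInf]
  apply Opens.ext
  rw [Opens.coe_iInf]
  change _ = g.base ⁻¹' ((⨅ k, U (a k) : Opens X) : Set X)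
  rw [Opens.coe_iInf, Set.preimage_iInter]
  rfl

/-- the comparison of Čech cochains -/
noncomputable def thetaN (n : ℕ) (y : Co F U n) :
    Co ((Scheme.Modules.pullback g).obj F) (fun i => g ⁻¹ᵁ U i) n :=
  fun a => unitRes g F (le_of_eq (W_preimage g U a)) (y a)

attribute [local instance] secMod

variable [F.IsQuasicoherent]
  (hpb : IsPullback g (X' ↘ Spec (CommRingCat.of A')) (X ↘ Spec (CommRingCat.of A))
      (Spec.map (CommRingCat.ofHom φ)))
  (haff : ∀ (n : ℕ) (a : Fin (n + 1) → ι), IsAffineOpen (TCx.W U a))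

include hpb in
theorem isAffineHom_of_isPullback : IsAffineHom g :=
  MorphismProperty.of_isPullback (P := @IsAffineHom) hpb.flip inferInstance

include hpb haff in
theorem haff' (n : ℕ) (a : Fin (n + 1) → ι) : IsAffineOpen (TCx.W (fun i => g ⁻¹ᵁ U i) a) := by
  haveI := isAffineHom_of_isPullback A A' φ g hpb
  rw [W_preimage]
  exact (haff n a).preimage g

include hpb haff in
theorem isBC_comp (n : ℕ) (a : Fin (n + 1) → ι) :
    IsBC φ (unitRes g F (le_of_eq (W_preimage g U a))) :=
  isBC_unitRes_base A A' φ g F hpb (haff n a) (haff' A A' φ g U hpb haff n a) (W_preimage g U a)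

include hpb haff in
theorem isBC_thetaN [Finite ι] (n : ℕ) : IsBC φ (thetaN g F U n) := by
  letI := φ.toAlgebra
  letI mA : ∀ a : Fin (n + 1) → ι,
      Module A Γ((Scheme.Modules.pullback g).obj F, TCx.W (fun i => g ⁻¹ᵁ U i) a) :=
    fun a => Module.compHom _ φ
  haveI tA : ∀ a : Fin (n + 1) → ι, IsScalarTower A A'
      Γ((Scheme.Modules.pullback g).obj F, TCx.W (fun i => g ⁻¹ᵁ U i) a) := fun a =>
    ⟨fun r r' m => by
      change (φ r * r') • m = φ r • r' • m
      exact mul_smul _ _ _⟩
  have hb := fun a : Fin (n + 1) → ι => isBC_comp A A' φ g F U hpb haff n a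
  choose l hl hB using hb
  have h1 := IsBaseChange.pi (R := A) (S := A') (fun a => l a) hB
  have h2 := isBC_of_isBaseChange φ
    (N := Co ((Scheme.Modules.pullback g).obj F) (fun i => g ⁻¹ᵁ U i) n)
    (inferInstance) (fun r m => rfl) _ h1
  refine IsBC.congr h2 ?_
  intro y
  funext a
  exact hl a (y a)

include hpb haff in
theorem thetaN_Dd (n : ℕ) (y : Co F U n) :
    thetaN g F U (n + 1) (Dd F U n y) =
      Dd ((Scheme.Modules.pullback g).obj F) (fun i => g ⁻¹ᵁ U i) n (thetaN g F U n y) := by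
  funext a
  rw [Dd_apply]
  change unitRes g F (le_of_eq (W_preimage g U a)) (Dd F U n y a) = _
  rw [Dd_apply]
  have hb := isBC_comp A A' φ g F U hpb haff (n + 1) a
  have e1 : unitRes g F (le_of_eq (W_preimage g U a))
      (∑ i : Fin (n + 2), (-1 : ℤ) ^ (i : ℕ) •
        QcCech.res F (TCx.W_face_le U a i) (y (fun k => a (i.succAbove k)))) =
      ∑ i : Fin (n + 2), (-1 : ℤ) ^ (i : ℕ) •
        unitRes g F (le_of_eq (W_preimage g U a))
          (QcCech.res F (TCx.W_face_le U a i) (y (fun k => a (i.succAbove k)))) := by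
    rw [← IsBC.toAddMonoidHom_apply hb, map_sum]
    refine Finset.sum_congr rfl fun i _ => ?_
    rw [map_zsmul]
    rfl
  rw [e1]
  refine Finset.sum_congr rfl fun i _ => ?_
  congr 1
  exact (unitRes_res g F (le_of_eq (W_preimage g U (fun k => a (i.succAbove k))))
    (le_of_eq (W_preimage g U a)) (TCx.W_face_le U a i)
    (TCx.W_face_le (fun i => g ⁻¹ᵁ U i) a i) (y (fun k => a (i.succAbove k)))).symm

variable [Finite ι]

include hpb haff in
theorem exists_isBC_CAN (hfl : φ.Flat) (p : ℕ) :
    ∃ l : (CAN A F U).homology p →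
        (CAN A' ((Scheme.Modules.pullback g).obj F) (fun i => g ⁻¹ᵁ U i)).homology p,
      IsBC φ l := by
  refine exists_isBC_homology φ hfl (CAN A F U)
    (CAN A' ((Scheme.Modules.pullback g).obj F) (fun i => g ⁻¹ᵁ U i))
    (fun n => thetaN g F U n) (fun n => isBC_thetaN A A' φ g F U hpb haff n) ?_ p
  intro i j x
  by_cases h : i + 1 = j
  · subst h
    rw [CAN_d, CAN_d]
    change thetaN g F U (i + 1) (DdA A F U i x) =
      DdA A' ((Scheme.Modules.pullback g).obj F) (fun i => g ⁻¹ᵁ U i) i (thetaN g F U i x)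
    rw [DdA_apply, DdA_apply]
    exact thetaN_Dd A A' φ g F U hpb haff i x
  · rw [(CAN A F U).shape i j h,
      (CAN A' ((Scheme.Modules.pullback g).obj F) (fun i => g ⁻¹ᵁ U i)).shape i j h]
    exact IsBC.map_zero' (isBC_thetaN A A' φ g F U hpb haff j)

end Cx

section Main

variable (A A' : Type u) [CommRing A] [CommRing A'] (φ : A →+* A')
  {X X' : Scheme.{u}} [X.Over (Spec (CommRingCat.of A))] [X'.Over (Spec (CommRingCat.of A'))]
  (g : X' ⟶ X) (F : X.Modules) [F.IsQuasicoherent]

/-- **flat base change** for the cohomology of a quasi-coherent module on a quasi-compact scheme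
separated over an affine base -/
theorem exists_isBC_HH
    (hpb : IsPullback g (X' ↘ Spec (CommRingCat.of A')) (X ↘ Spec (CommRingCat.of A))
      (Spec.map (CommRingCat.ofHom φ)))
    (hfl : φ.Flat) [IsSeparated (X ↘ Spec (CommRingCat.of A))] [CompactSpace X] (p : ℕ) :
    ∃ l : Coh.HH X F p → Coh.HH X' ((Scheme.Modules.pullback g).obj F) p, IsBC φ l := by
  obtain ⟨ι, hfin, U, hcov, haff⟩ :=
    Groth.Agent.Lib.Helper4.SepCover1.exists_cover (X ↘ Spec (CommRingCat.of A))
  haveI := hfin
  haveI : ((Scheme.Modules.pullback g).obj F).IsQuasicoherent :=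
    Groth.Agent.Lead.PB.isQuasicoherent_pullback _ _
  have haff2 := haff' A A' φ g U hpb haff
  have hcov2 : iSup (fun i => g ⁻¹ᵁ U i) = ⊤ := by
    rw [eq_top_iff]
    intro x _
    have hx : g x ∈ iSup U := by rw [hcov]; trivial
    rw [Opens.mem_iSup] at hx ⊢
    exact hx
  obtain ⟨l₀, hl₀⟩ := exists_isBC_CAN A A' φ g F U hpb haff hfl p
  let μ := linHH A F U haff hcov p
  let ν := linHH A' ((Scheme.Modules.pullback g).obj F) (fun i => g ⁻¹ᵁ U i) haff2 hcov2 p
  refine ⟨fun x => ν (l₀ (μ.symm x)), ?_⟩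
  refine IsBC.of_equiv μ.symm ν.symm ?_ hl₀
  intro m
  exact ν.symm_apply_apply _

end Main

end Groth.Agent.Helper1.FBC
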