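import Mathlib
import Groth.Agent.Lib.Helper1.FBC4
import Groth.Agent.Lib.Helper1.RpushZero
import Groth.Agent.Lib.Helper4.HUon1

/-!
# Vanishing of higher direct images from vanishing of cohomology over an affine cover (helper1)
-/

set_option backward.isDefEq.respectTransparency.types false
set_option synthInstance.maxHeartbeats 400000
set_option autoImplicit false
set_option linter.unusedSectionVars false
set_option linter.style.haveILetI false
set_option linter.unusedSimpArgs false
universe u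
open CategoryTheory CategoryTheory.Limits AlgebraicGeometry TopologicalSpace Opposite TensorProduct

namespace Groth.Agent.Helper1.RpushLoc

open Groth.Agent.Lead.BCU Groth.Agent.Helper1.FBC

section Alg

variable {A A' : Type u} [CommRing A] [CommRing A'] (φ : A →+* A')
  {M N : Type u} [AddCommGroup M] [Module A M] [AddCommGroup N] [Module A' N]

theorem IsBC.subsingleton {l : M → N} (h : IsBC φ l) [Subsingleton M] : Subsingleton N := by
  letI := φ.toAlgebra
  letI : Module A N := Module.compHom N φ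
  haveI : IsScalarTower A A' N := ⟨fun a a' n => by
    change (φ a * a') • n = φ a • a' • n
    exact mul_smul _ _ _⟩
  obtain ⟨l', _, hb⟩ := h
  exact hb.equiv.symm.toEquiv.subsingleton

end Alg

variable {X S : Scheme.{u}} (f : X ⟶ S)

/-- restriction maps between affine opens are flat -/
theorem flat_res {V W : S.Opens} (hV : IsAffineOpen V) (hW : IsAffineOpen W) (hle : W ≤ V) :
    (S.presheaf.map (homOfLE hle).op).hom.Flat := by
  have h := Flat.flat_appLE (𝟙 S) hV hW (show W ≤ (𝟙 S) ⁻¹ᵁ V from hle)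
  have e : (𝟙 S : S ⟶ S).appLE V W (show W ≤ (𝟙 S) ⁻¹ᵁ V from hle) =
      S.presheaf.map (homOfLE hle).op := by
    simp only [Scheme.Hom.appLE, Scheme.Hom.id_app]
    exact Category.id_comp _
  rw [e] at h
  exact h

/-- the structure map of a preimage of an affine open -/
noncomputable def strMap {V : S.Opens} (hV : IsAffineOpen V) :
    (↑(f ⁻¹ᵁ V) : Scheme.{u}) ⟶ Spec (CommRingCat.of Γ(S, V)) :=
  (f ∣_ V) ≫ hV.isoSpec.hom

theorem homOfLE_isoSpec {V W : S.Opens} (hV : IsAffineOpen V) (hW : IsAffineOpen W) (hle : W ≤ V) :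
    S.homOfLE hle ≫ hV.isoSpec.hom =
      hW.isoSpec.hom ≫ Spec.map (S.presheaf.map (homOfLE hle).op) := by
  rw [← cancel_mono hV.isoSpec.inv, ← cancel_mono V.ι]
  simp only [Category.assoc, Iso.hom_inv_id_assoc, Iso.hom_inv_id, Category.comp_id,
    IsAffineOpen.isoSpec_inv_ι, Scheme.homOfLE_ι]
  rw [IsAffineOpen.map_fromSpec hV hW, ← IsAffineOpen.isoSpec_inv_ι, Iso.hom_inv_id_assoc]

theorem homOfLE_morphismRestrict {V W : S.Opens} (hle : W ≤ V) :
    X.homOfLE (f.preimage_mono hle) ≫ (f ∣_ V) = (f ∣_ W) ≫ S.homOfLE hle := by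
  rw [← cancel_mono V.ι]
  simp only [Category.assoc, morphismRestrict_ι, Scheme.homOfLE_ι, Scheme.homOfLE_ι_assoc]

theorem isPullback_strMap {V W : S.Opens} (hV : IsAffineOpen V) (hW : IsAffineOpen W)
    (hle : W ≤ V) :
    IsPullback (X.homOfLE (f.preimage_mono hle)) (strMap f hW) (strMap f hV)
      (Spec.map (CommRingCat.ofHom (S.presheaf.map (homOfLE hle).op).hom)) := by
  have h1 : IsPullback (X.homOfLE (f.preimage_mono hle)) (f ∣_ W) (f ∣_ V) (S.homOfLE hle) := by
    refine IsPullback.of_right ?_ (homOfLE_morphismRestrict f hle)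
      (isPullback_morphismRestrict f V).flip
    rw [Scheme.homOfLE_ι, Scheme.homOfLE_ι]
    exact (isPullback_morphismRestrict f W).flip
  have h2 : IsPullback (S.homOfLE hle) hW.isoSpec.hom hV.isoSpec.hom
      (Spec.map (S.presheaf.map (homOfLE hle).op)) :=
    IsPullback.of_vert_isIso ⟨homOfLE_isoSpec hV hW hle⟩
  exact h1.paste_vert h2

/-- transfer of vanishing along an isomorphism of modules -/
theorem subsingleton_HH_of_iso {Y : Scheme.{u}} {F G : Y.Modules} (e : F ≅ G) (i : ℕ)
    (h : Subsingleton (Coh.HH Y F i)) : Subsingleton (Coh.HH Y G i) := by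
  let T := SheafOfModules.toSheaf Y.ringCatSheaf
  refine subsingleton_of_forall_eq 0 fun x => ?_
  have h1 : Sheaf.H.map (T.map e.hom) i (Sheaf.H.map (T.map e.inv) i x) = x := by
    have e1 : T.map e.inv ≫ T.map e.hom = 𝟙 _ :=
      (Functor.map_comp _ _ _).symm.trans ((congrArg (fun f => T.map f) e.inv_hom_id).trans
        (CategoryTheory.Functor.map_id _ _))
    exact (Sheaf.H.map_comp_apply _ _ _).symm.trans
      ((congrArg (fun f => Sheaf.H.map f i x) e1).trans (Sheaf.H.map_id_apply _))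
  have h2 : Sheaf.H.map (T.map e.inv) i x = (0 : Coh.HH Y F i) := Subsingleton.elim _ _
  rw [← h1, h2, map_zero]

/-- vanishing of cohomology over the preimage of an affine open passes to smaller affine opens -/
theorem subsingleton_HHon_of_le [IsSeparated f] [QuasiCompact f] (G : X.Modules)
    [G.IsQuasicoherent] (p : ℕ) {V W : S.Opens} (hV : IsAffineOpen V) (hW : IsAffineOpen W)
    (hle : W ≤ V) (h : Subsingleton (Coh.HHon X G (f ⁻¹ᵁ V) p)) :
    Subsingleton (Coh.HHon X G (f ⁻¹ᵁ W) p) := by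
  letI : (↑(f ⁻¹ᵁ V) : Scheme.{u}).Over (Spec (CommRingCat.of Γ(S, V))) := ⟨strMap f hV⟩
  letI : (↑(f ⁻¹ᵁ W) : Scheme.{u}).Over (Spec (CommRingCat.of Γ(S, W))) := ⟨strMap f hW⟩
  haveI : IsSeparated ((↑(f ⁻¹ᵁ V) : Scheme.{u}) ↘ Spec (CommRingCat.of Γ(S, V))) := by
    change IsSeparated (strMap f hV)
    unfold strMap
    infer_instance
  haveI : CompactSpace (↑(f ⁻¹ᵁ V) : Scheme.{u}) :=
    isCompact_iff_compactSpace.mp (QuasiCompact.isCompact_preimage (f := f) _ V.2 hV.isCompact)
  haveI : (G.restrict (f ⁻¹ᵁ V).ι).IsQuasicoherent := inferInstance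
  obtain ⟨l, hl⟩ := exists_isBC_HH Γ(S, V) Γ(S, W) (S.presheaf.map (homOfLE hle).op).hom
    (X.homOfLE (f.preimage_mono hle)) (G.restrict (f ⁻¹ᵁ V).ι)
    (isPullback_strMap f hV hW hle) (flat_res hV hW hle) p
  haveI := h
  have h1 := IsBC.subsingleton _ hl
  let e : (Scheme.Modules.pullback (X.homOfLE (f.preimage_mono hle))).obj
      (G.restrict (f ⁻¹ᵁ V).ι) ≅ G.restrict (f ⁻¹ᵁ W).ι :=
    (Scheme.Modules.restrictFunctorIsoPullback _).symm.app _ ≪≫
      (Scheme.Modules.restrictFunctorComp _ _).symm.app G ≪≫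
      (Scheme.Modules.restrictFunctorCongr (X.homOfLE_ι (f.preimage_mono hle))).app G
  exact subsingleton_HH_of_iso e p h1

/-- **vanishing of a higher direct image from vanishing of cohomology over the preimages of an
affine open cover** -/
theorem isZero_rpushAb_of_cover [IsSeparated f] [QuasiCompact f] (G : X.Modules)
    [G.IsQuasicoherent] (p : ℕ) {ι : Type*} (V : ι → S.Opens) (hV : ∀ i, IsAffineOpen (V i))
    (hcov : ∀ x : S, ∃ i, x ∈ V i)
    (h : ∀ i, Subsingleton (Coh.HHon X G (f ⁻¹ᵁ V i) p)) :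
    IsZero ((Coh.RpushAb f p).obj (Coh.toAb G)) := by
  refine RpushZero.isZero_of_basis f.base (Coh.toAb G) p
    {W : S.Opens | IsAffineOpen W ∧ ∃ i, W ≤ V i} ?_ ?_
  · rw [Opens.isBasis_iff_nbhd]
    intro U x hx
    obtain ⟨i, hi⟩ := hcov x
    have hxUV : x ∈ U ⊓ V i := ⟨hx, hi⟩
    obtain ⟨W, hW, hxW, hWle⟩ := (Opens.isBasis_iff_nbhd.mp S.isBasis_affineOpens) hxUV
    exact ⟨W, ⟨hW, i, hWle.trans inf_le_right⟩, hxW, hWle.trans inf_le_left⟩
  · rintro W ⟨hW, i, hle⟩
    obtain ⟨e⟩ := Groth.Agent.Lib.Helper4.HUon1.nonempty_HU_equiv_HHon G (f ⁻¹ᵁ W) p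
    haveI := subsingleton_HHon_of_le f G p (hV i) hW hle (h i)
    exact e.toEquiv.subsingleton

end Groth.Agent.Helper1.RpushLoc
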