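import Mathlib
import Groth.Agent.S0009
import Groth.Agent.Lib.Helper1.FBC4
import Groth.Agent.Lib.Helper1.QcAcyc
import Groth.Agent.Lib.Helper1.CohUtil
import Groth.Agent.Lib.Helper1.RpushLoc1
import Groth.Agent.Lib.Helper1.DimOneAff1

/-!
# Quasi-compact opens of an affine scheme with local rings of dimension at most one are affine
(helper1)
-/

set_option backward.isDefEq.respectTransparency.types false
set_option synthInstance.maxHeartbeats 400000
set_option autoImplicit false
set_option linter.unusedSectionVars false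
set_option linter.style.haveILetI false
set_option linter.unusedSimpArgs false
universe u
open CategoryTheory CategoryTheory.Limits AlgebraicGeometry TopologicalSpace Opposite TensorProduct

namespace Groth.Agent.Helper1.DimOneAff

open Groth.Agent.Lead.BCU Groth.Agent.Helper1.FBC

section Alg

variable {A A' : Type u} [CommRing A] [CommRing A'] (φ : A →+* A') (S : Submonoid A)
  {M N : Type u} [AddCommGroup M] {mM : Module A M} [AddCommGroup N] [Module A' N]

/-- base change along a localization: if the target vanishes, the source is torsion -/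
theorem IsBC.torsion_of_subsingleton
    (hloc : letI := φ.toAlgebra; IsLocalization S A') {l : M → N} (h : IsBC φ l)
    [Subsingleton N] (m : M) : ∃ s ∈ S, s • m = 0 := by
  letI := φ.toAlgebra
  letI : Module A N := Module.compHom N φ
  haveI : IsScalarTower A A' N := ⟨fun a a' n => by
    change (φ a * a') • n = φ a • a' • n
    exact mul_smul _ _ _⟩
  haveI : IsLocalization S A' := hloc
  obtain ⟨l', hl', hb⟩ := h
  haveI hL : IsLocalizedModule S l' :=
    (isLocalizedModule_iff_isBaseChange S A' l').mpr hb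
  have h1 : l' m = l' 0 := Subsingleton.elim _ _
  obtain ⟨c, hc⟩ := IsLocalizedModule.exists_of_eq (S := S) (f := l') h1
  rw [smul_zero] at hc
  exact ⟨c.1, c.2, hc⟩

end Alg

/-- vanishing of higher cohomology of quasi-coherent modules on affine schemes -/
theorem subsingleton_HH_of_isAffine (Y : Scheme.{u}) [IsAffine Y] (M : Y.Modules)
    [M.IsQuasicoherent] (p : ℕ) : Subsingleton (Coh.HH Y M (p + 1)) := by
  have h := QcAcyc.subsingleton_HU M ⊤ (isAffineOpen_top Y) p
  exact (CohUtil.HHequivHU M (p + 1)).toEquiv.subsingleton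

section Main

variable (X : Scheme.{u}) [IsAffine X]

set_option maxHeartbeats 800000 in
/-- the key vanishing -/
theorem subsingleton_HH_of_dimOne
    (hX : ∀ x : X, IsNoetherianRing (X.presheaf.stalk x) ∧ ringKrullDim (X.presheaf.stalk x) ≤ 1)
    (U : X.Opens) (hU : IsCompact (U : Set X)) (I : (↑U : Scheme.{u}).Modules)
    [I.IsQuasicoherent] (p : ℕ) : Subsingleton (Coh.HH (↑U : Scheme.{u}) I (p + 1)) := by
  classical
  letI oU : (↑U : Scheme.{u}).Over (Spec (CommRingCat.of Γ(X, ⊤))) := ⟨U.ι ≫ X.toSpecΓ⟩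
  haveI : IsSeparated ((↑U : Scheme.{u}) ↘ Spec (CommRingCat.of Γ(X, ⊤))) := by
    change IsSeparated (U.ι ≫ X.toSpecΓ)
    infer_instance
  haveI : CompactSpace (↑U : Scheme.{u}) := isCompact_iff_compactSpace.mp hU
  refine subsingleton_of_forall_eq 0 fun h => ?_
  by_contra hne
  -- the annihilator of `h`
  let Ann : Ideal Γ(X, ⊤) := LinearMap.ker (LinearMap.toSpanSingleton Γ(X, ⊤) _ h)
  have hAnn : Ann ≠ ⊤ := by
    intro htop
    have h1 : (1 : Γ(X, ⊤)) ∈ Ann := htop ▸ Submodule.mem_top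
    have h2 : (1 : Γ(X, ⊤)) • h = 0 := h1
    rw [one_smul] at h2
    exact hne h2
  obtain ⟨𝔪, h𝔪, hle⟩ := Ideal.exists_le_maximal Ann hAnn
  let y : PrimeSpectrum Γ(X, ⊤) := ⟨𝔪, h𝔪.isPrime⟩
  set x : X := (isAffineOpen_top X).fromSpec y with hx
  letI algS : Algebra Γ(X, ⊤) (X.presheaf.stalk x) :=
    TopCat.Presheaf.algebra_section_stalk X.presheaf (U := (⊤ : X.Opens)) ⟨x, trivial⟩
  have hlocS : IsLocalization.AtPrime (X.presheaf.stalk x) y.asIdeal :=
    (isAffineOpen_top X).isLocalization_stalk' y trivial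
  haveI : IsNoetherianRing (X.presheaf.stalk x) := (hX x).1
  let φ : Γ(X, ⊤) →+* X.presheaf.stalk x := algebraMap Γ(X, ⊤) (X.presheaf.stalk x)
  have hfl : φ.Flat := RingHom.flat_algebraMap_iff.mpr (IsLocalization.flat _ y.asIdeal.primeCompl)
  -- the base change
  let X' : Scheme.{u} := pullback (U.ι ≫ X.toSpecΓ) (Spec.map (CommRingCat.ofHom φ))
  letI oX' : X'.Over (Spec (CommRingCat.of (X.presheaf.stalk x))) :=
    ⟨pullback.snd (U.ι ≫ X.toSpecΓ) (Spec.map (CommRingCat.ofHom φ))⟩
  have hpb : IsPullback (pullback.fst (U.ι ≫ X.toSpecΓ) (Spec.map (CommRingCat.ofHom φ)))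
      (X' ↘ Spec (CommRingCat.of (X.presheaf.stalk x)))
      ((↑U : Scheme.{u}) ↘ Spec (CommRingCat.of Γ(X, ⊤))) (Spec.map (CommRingCat.ofHom φ)) :=
    IsPullback.of_hasPullback _ _
  obtain ⟨l, hl⟩ := exists_isBC_HH Γ(X, ⊤) (X.presheaf.stalk x) φ
    (pullback.fst (U.ι ≫ X.toSpecΓ) (Spec.map (CommRingCat.ofHom φ))) I hpb hfl (p + 1)
  haveI : IsAffine X' :=
    isAffine_of_isOpenImmersion (X.presheaf.stalk x) (hX x).2
      (pullback.snd (U.ι ≫ X.toSpecΓ) (Spec.map (CommRingCat.ofHom φ)))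
  haveI : ((Scheme.Modules.pullback
      (pullback.fst (U.ι ≫ X.toSpecΓ) (Spec.map (CommRingCat.ofHom φ)))).obj I).IsQuasicoherent :=
    Groth.Agent.Lead.PB.isQuasicoherent_pullback _ _
  haveI := subsingleton_HH_of_isAffine X' ((Scheme.Modules.pullback
      (pullback.fst (U.ι ≫ X.toSpecΓ) (Spec.map (CommRingCat.ofHom φ)))).obj I) p
  have hloc' : @IsLocalization Γ(X, ⊤) _ y.asIdeal.primeCompl (X.presheaf.stalk x) _
      φ.toAlgebra := by
    have h0 : φ.toAlgebra = algS := Algebra.algebra_ext _ _ (fun _ => rfl)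
    rw [h0]
    exact hlocS
  obtain ⟨s, hs, hsh⟩ := IsBC.torsion_of_subsingleton φ y.asIdeal.primeCompl hloc' hl h
  exact hs (hle hsh)

end Main

end Groth.Agent.Helper1.DimOneAff
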