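import Mathlib
import Groth.Prelude.Def_Wider

set_option autoImplicit false
universe u v w

namespace Groth.Agent.Helper1.InjHullL

open InjHull

section Basic

variable {R : Type u} [CommRing R] {E : Type v} [AddCommGroup E] [Module R E]

/-- `A` is essential in `B` (both submodules of `E`). -/
def EssIn (A B : Submodule R E) : Prop :=
  A ≤ B ∧ ∀ x ∈ B, x ≠ 0 → ∃ r : R, r • x ≠ 0 ∧ r • x ∈ A

theorem EssIn.refl (A : Submodule R E) : EssIn A A :=
  ⟨le_rfl, fun x hx hx0 => ⟨1, by simpa using hx0, by simpa using hx⟩⟩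

theorem EssIn.trans {A B C : Submodule R E} (h1 : EssIn A B) (h2 : EssIn B C) : EssIn A C := by
  refine ⟨h1.1.trans h2.1, fun x hx hx0 => ?_⟩
  obtain ⟨r, hr0, hr⟩ := h2.2 x hx hx0
  obtain ⟨s, hs0, hs⟩ := h1.2 _ hr hr0
  exact ⟨s * r, by rwa [mul_smul], by rwa [mul_smul]⟩

theorem EssIn.of_le {A A' B : Submodule R E} (h1 : EssIn A B) (h : A ≤ A') (h' : A' ≤ B) :
    EssIn A' B :=
  ⟨h', fun x hx hx0 => let ⟨r, hr0, hr⟩ := h1.2 x hx hx0; ⟨r, hr0, h hr⟩⟩

theorem EssIn.of_le_right {A B B' : Submodule R E} (h1 : EssIn A B) (h : A ≤ B') (h' : B' ≤ B) :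
    EssIn A B' :=
  ⟨h, fun x hx hx0 => h1.2 x (h' hx) hx0⟩

theorem EssIn.inf_ne_bot {A B N : Submodule R E} (h : EssIn A B) (hN : N ≤ B) (hN0 : N ≠ ⊥) :
    N ⊓ A ≠ ⊥ := by
  obtain ⟨x, hx, hx0⟩ := (Submodule.ne_bot_iff _).mp hN0
  obtain ⟨r, hr0, hr⟩ := h.2 x (hN hx) hx0
  exact (Submodule.ne_bot_iff _).mpr ⟨r • x, ⟨N.smul_mem r hx, hr⟩, hr0⟩

theorem essIn_of_forall_inf_ne_bot {A B : Submodule R E} (hAB : A ≤ B)
    (h : ∀ N : Submodule R E, N ≤ B → N ≠ ⊥ → N ⊓ A ≠ ⊥) : EssIn A B := by
  refine ⟨hAB, fun x hx hx0 => ?_⟩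
  have h1 : Submodule.span R {x} ≠ ⊥ := by
    simpa [Submodule.span_singleton_eq_bot] using hx0
  obtain ⟨y, hy, hy0⟩ := (Submodule.ne_bot_iff _).mp
    (h _ ((Submodule.span_singleton_le_iff_mem x B).mpr hx) h1)
  obtain ⟨r, rfl⟩ := Submodule.mem_span_singleton.mp hy.1
  exact ⟨r, hy0, hy.2⟩

/-- Union of a nonempty chain of essential extensions is essential. -/
theorem EssIn.sSup_chain {A : Submodule R E} {c : Set (Submodule R E)} (hc : IsChain (· ≤ ·) c)
    (hne : c.Nonempty) (h : ∀ B ∈ c, EssIn A B) : EssIn A (sSup c) := by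
  obtain ⟨B0, hB0⟩ := hne
  refine ⟨(h B0 hB0).1.trans (le_sSup hB0), fun x hx hx0 => ?_⟩
  rw [Submodule.mem_sSup_of_directed ⟨B0, hB0⟩ hc.directedOn] at hx
  obtain ⟨B, hB, hxB⟩ := hx
  exact (h B hB).2 x hxB hx0

/-- Existence of a maximal essential extension inside an ambient module. -/
theorem exists_maximal_essIn (A : Submodule R E) :
    ∃ B : Submodule R E, EssIn A B ∧ ∀ C : Submodule R E, EssIn A C → B ≤ C → C = B := by
  obtain ⟨B, hAB, hB⟩ := zorn_le_nonempty₀ {B : Submodule R E | EssIn A B}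
    (fun c hcs hc y hy => ⟨sSup c, EssIn.sSup_chain hc ⟨y, hy⟩ (fun B hB => hcs hB),
      fun z hz => le_sSup hz⟩) A (EssIn.refl A)
  exact ⟨B, hB.prop, fun C hC hBC => le_antisymm (hB.le_of_ge hC hBC) hBC⟩

/-- Existence of a maximal submodule disjoint from a given one. -/
theorem exists_maximal_disjoint (B : Submodule R E) :
    ∃ N : Submodule R E, N ⊓ B = ⊥ ∧ ∀ N' : Submodule R E, N' ⊓ B = ⊥ → N ≤ N' → N' = N := by
  obtain ⟨N, -, hN⟩ := zorn_le_nonempty₀ {N : Submodule R E | N ⊓ B = ⊥}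
    (fun c hcs hc y hy => ⟨sSup c, by
      show sSup c ⊓ B = ⊥
      rw [eq_bot_iff]
      rintro x ⟨hx1, hx2⟩
      rw [SetLike.mem_coe, Submodule.mem_sSup_of_directed ⟨y, hy⟩ hc.directedOn] at hx1
      obtain ⟨N, hN, hxN⟩ := hx1
      have h0 : N ⊓ B = ⊥ := hcs hN
      rw [eq_bot_iff] at h0
      exact h0 ⟨hxN, hx2⟩, fun z hz => le_sSup hz⟩) ⊥ (by simp)
  exact ⟨N, hN.prop, fun N' hN' hle => le_antisymm (hN.le_of_ge hN' hle) hle⟩

end Basic

section Inj

variable {R : Type u} [CommRing R] {I : Type u} [AddCommGroup I] [Module R I]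

/-- A retract of an injective module is injective. -/
theorem injective_of_retract {B : Type u} [AddCommGroup B] [Module R B] [Module.Injective R I]
    (s : B →ₗ[R] I) (r : I →ₗ[R] B) (h : r ∘ₗ s = LinearMap.id) : Module.Injective R B := by
  refine ⟨fun X Y _ _ _ _ f hf g => ?_⟩
  obtain ⟨k, hk⟩ := Module.Injective.out (R := R) (Q := I) f hf (s ∘ₗ g)
  refine ⟨r ∘ₗ k, fun x => ?_⟩
  simp only [LinearMap.comp_apply, hk]
  exact LinearMap.congr_fun h (g x)

theorem injective_of_isCompl [Module.Injective R I] {B N : Submodule R I} (h : IsCompl B N) :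
    Module.Injective R B :=
  injective_of_retract B.subtype (Submodule.projectionOnto B N h)
    (Submodule.projectionOnto_comp_subtype h)

/-- A maximal essential extension of `A` inside an injective module `I` is a direct summand. -/
theorem exists_isCompl_of_maximal_essIn [Module.Injective R I] {A B : Submodule R I}
    (hAB : EssIn A B) (hmax : ∀ C : Submodule R I, EssIn A C → B ≤ C → C = B) :
    ∃ N : Submodule R I, IsCompl B N := by
  obtain ⟨N, hNB, hNmax⟩ := exists_maximal_disjoint B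
  refine ⟨N, ?_⟩
  -- the map `B × N → I`
  let j : (B × N) →ₗ[R] I := B.subtype.coprod N.subtype
  have hj : Function.Injective j := by
    rw [← LinearMap.ker_eq_bot, LinearMap.ker_eq_bot']
    rintro ⟨b, n⟩ h
    simp only [j, LinearMap.coprod_apply, Submodule.subtype_apply] at h
    have hb : (b : I) ∈ N ⊓ B := ⟨by
      have : (b : I) = -(n : I) := eq_neg_of_add_eq_zero_left h
      rw [this]; exact N.neg_mem n.2, b.2⟩
    rw [hNB] at hb
    have hb0 : (b : I) = 0 := by simpa using hb
    have hn0 : (n : I) = 0 := by simpa [hb0] using h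
    ext <;> simp [hb0, hn0]
  let g : (B × N) →ₗ[R] I := B.subtype ∘ₗ LinearMap.fst R B N
  obtain ⟨φ, hφ⟩ := Module.Injective.extension_property R I (B × N) I j hj g
  have hφB : ∀ b ∈ B, φ b = b := fun b hb => by
    have := LinearMap.congr_fun hφ (⟨b, hb⟩, 0)
    simpa [j, g] using this
  have hφN : ∀ n ∈ N, φ n = 0 := fun n hn => by
    have := LinearMap.congr_fun hφ (0, ⟨n, hn⟩)
    simpa [j, g] using this
  have hker : LinearMap.ker φ = N := by
    refine hNmax _ ?_ (fun n hn => hφN n hn)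
    rw [eq_bot_iff]
    rintro x ⟨hx1, hx2⟩
    have : φ x = x := hφB x hx2
    rw [LinearMap.mem_ker.mp hx1] at this
    simpa using this.symm
  have hess : EssIn B (LinearMap.range φ) := by
    refine ⟨fun b hb => ⟨b, hφB b hb⟩, ?_⟩
    rintro _ ⟨x, rfl⟩ hx0
    have hxN : x ∉ N := fun h => hx0 (hφN x h)
    have hne : (N ⊔ Submodule.span R {x}) ⊓ B ≠ ⊥ := by
      intro h0
      have := hNmax _ h0 le_sup_left
      exact hxN (this ▸ (Submodule.mem_sup_right (Submodule.mem_span_singleton_self x)))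
    obtain ⟨b, ⟨hb1, hb2⟩, hb0⟩ := (Submodule.ne_bot_iff _).mp hne
    obtain ⟨n, hn, y, hy, rfl⟩ := Submodule.mem_sup.mp hb1
    obtain ⟨r, rfl⟩ := Submodule.mem_span_singleton.mp hy
    have h1 : φ (n + r • x) = n + r • x := hφB _ hb2
    rw [map_add, hφN n hn, zero_add, map_smul] at h1
    exact ⟨r, by rw [h1]; exact hb0, by rw [h1]; exact hb2⟩
  have hrange : LinearMap.range φ = B := hmax _ (hAB.trans hess) hess.1
  have hφmem : ∀ x, φ x ∈ B := fun x => hrange ▸ LinearMap.mem_range_self φ x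
  constructor
  · rw [disjoint_iff, inf_comm]; exact hNB
  · rw [codisjoint_iff, eq_top_iff]
    intro x _
    have : x = φ x + (x - φ x) := by abel
    rw [this]
    refine Submodule.add_mem_sup (hφmem x) ?_
    rw [← hker, LinearMap.mem_ker, map_sub, hφB _ (hφmem x), sub_self]

end Inj

section Hull

variable {R : Type u} [CommRing R] {M : Type v} {E : Type v} [AddCommGroup M] [Module R M]
  [AddCommGroup E] [Module R E]

theorem isEssentialInj_iff (f : M →ₗ[R] E) :
    IsEssentialInj f ↔ Function.Injective f ∧ EssIn (LinearMap.range f) ⊤ := by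
  constructor
  · rintro ⟨h1, h2⟩
    exact ⟨h1, essIn_of_forall_inf_ne_bot le_top (fun N _ hN => h2 N hN)⟩
  · rintro ⟨h1, h2⟩
    exact ⟨h1, fun N hN => h2.inf_ne_bot le_top hN⟩

theorem essInj_exists_smul_mem {f : M →ₗ[R] E} (h : IsEssentialInj f) {x : E}
    (hx : x ≠ 0) : ∃ (r : R) (m : M), r • x ≠ 0 ∧ f m = r • x := by
  obtain ⟨r, hr0, m, hm⟩ := ((isEssentialInj_iff f).mp h).2.2 x trivial hx
  exact ⟨r, m, hr0, hm⟩

/-- If `f` is an essential injection and `φ ∘ f` is injective then `φ` is injective. -/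
theorem essInj_injective_of_comp {f : M →ₗ[R] E} (h : IsEssentialInj f)
    {X : Type*} [AddCommGroup X] [Module R X] (φ : E →ₗ[R] X)
    (hφ : Function.Injective (φ ∘ₗ f)) : Function.Injective φ := by
  rw [← LinearMap.ker_eq_bot, LinearMap.ker_eq_bot']
  intro x hx
  by_contra hx0
  obtain ⟨r, m, hr0, hm⟩ := essInj_exists_smul_mem h hx0
  have : (φ ∘ₗ f) m = 0 := by
    rw [LinearMap.comp_apply, hm, map_smul, hx, smul_zero]
  have hm0 : m = 0 := hφ (by rw [this, map_zero])
  rw [hm0, map_zero] at hm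
  exact hr0 hm.symm

/-- Essentiality only depends on the range. -/
theorem essInj_of_range_le {f : M →ₗ[R] E} (h : IsEssentialInj f)
    {M' : Type v} [AddCommGroup M'] [Module R M'] {g : M' →ₗ[R] E} (hg : Function.Injective g)
    (hle : LinearMap.range f ≤ LinearMap.range g) : IsEssentialInj g := by
  rw [isEssentialInj_iff] at h ⊢
  exact ⟨hg, h.2.of_le hle le_top⟩

theorem isEssentialInj_comp {M' : Type v} [AddCommGroup M'] [Module R M'] {f : M →ₗ[R] M'}
    {g : M' →ₗ[R] E} (hf : IsEssentialInj f) (hg : IsEssentialInj g) : IsEssentialInj (g ∘ₗ f) := by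
  refine ⟨hg.1.comp hf.1, fun N hN => ?_⟩
  obtain ⟨x, hxN, hx0⟩ := (Submodule.ne_bot_iff _).mp hN
  obtain ⟨r, m', hr0, hm'⟩ := essInj_exists_smul_mem hg hx0
  have hm'0 : m' ≠ 0 := fun h => hr0 (by rw [← hm', h, map_zero])
  obtain ⟨s, m, hs0, hm⟩ := essInj_exists_smul_mem hf hm'0
  refine (Submodule.ne_bot_iff _).mpr ⟨(s * r) • x, ⟨N.smul_mem _ hxN, m, ?_⟩, ?_⟩
  · rw [LinearMap.comp_apply, hm, map_smul, hm', mul_smul]
  · rw [mul_smul, ← hm', ← map_smul]
    intro h0
    exact hs0 (hg.1 (by rw [h0, map_zero]))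

end Hull

section Hull2

variable {R : Type u} [CommRing R]

/-- An injective linear map from an injective module has a retraction. -/
theorem exists_retraction {E I : Type u} [AddCommGroup E] [Module R E] [AddCommGroup I] [Module R I]
    [Module.Injective R E] (α : E →ₗ[R] I) (hα : Function.Injective α) :
    ∃ ρ : I →ₗ[R] E, ρ ∘ₗ α = LinearMap.id :=
  Module.Injective.extension_property R E E I α hα LinearMap.id

theorem isCompl_range_ker {E I : Type*} [AddCommGroup E] [Module R E] [AddCommGroup I] [Module R I]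
    (α : E →ₗ[R] I) (ρ : I →ₗ[R] E) (h : ρ ∘ₗ α = LinearMap.id) :
    IsCompl (LinearMap.range α) (LinearMap.ker ρ) := by
  have h' : ∀ x, ρ (α x) = x := fun x => LinearMap.congr_fun h x
  constructor
  · rw [disjoint_iff, eq_bot_iff]
    rintro _ ⟨⟨x, rfl⟩, hx⟩
    have : ρ (α x) = 0 := hx
    rw [h'] at this
    simp [this]
  · rw [codisjoint_iff, eq_top_iff]
    intro x _
    have : x = α (ρ x) + (x - α (ρ x)) := by abel
    rw [this]
    refine Submodule.add_mem_sup ⟨_, rfl⟩ ?_
    rw [LinearMap.mem_ker, map_sub, h', sub_self]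

/-- **Existence of injective hulls** inside a given injective module. -/
theorem exists_hull_in {M I : Type u} [AddCommGroup M] [Module R M] [AddCommGroup I] [Module R I]
    [Module.Injective R I] (i : M →ₗ[R] I) (hi : Function.Injective i) :
    ∃ (B : Submodule R I) (f : M →ₗ[R] B), B.subtype ∘ₗ f = i ∧ IsInjectiveHull f ∧
      ∃ N : Submodule R I, IsCompl B N := by
  obtain ⟨B, hAB, hmax⟩ := exists_maximal_essIn (LinearMap.range i)
  obtain ⟨N, hN⟩ := exists_isCompl_of_maximal_essIn hAB hmax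
  have hmem : ∀ m, i m ∈ B := fun m => hAB.1 ⟨m, rfl⟩
  refine ⟨B, i.codRestrict B hmem, by ext; simp, ⟨⟨?_, ?_⟩, injective_of_isCompl hN⟩, N, hN⟩
  · intro a b hab
    apply hi
    simpa using congrArg Subtype.val hab
  · intro N' hN'
    obtain ⟨x, hxN, hx0⟩ := (Submodule.ne_bot_iff _).mp hN'
    have hx0' : (x : I) ≠ 0 := fun h => hx0 (Subtype.ext h)
    obtain ⟨r, hr0, m, hm⟩ := hAB.2 x x.2 hx0'
    refine (Submodule.ne_bot_iff _).mpr ⟨r • x, ⟨N'.smul_mem r hxN, m, ?_⟩, ?_⟩
    · ext; simpa using hm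
    · intro h; exact hr0 (by simpa using congrArg Subtype.val h)

/-- Every module embeds in an injective module (same universe). -/
theorem exists_injective_embedding (M : Type u) [AddCommGroup M] [Module R M] :
    ∃ (I : Type u) (_ : AddCommGroup I) (_ : Module R I) (_ : Module.Injective R I)
      (i : M →ₗ[R] I), Function.Injective i := by
  have := CategoryTheory.EnoughInjectives.presentation (ModuleCat.of R M)
  obtain ⟨⟨J, hJ, f, hf⟩⟩ := this
  refine ⟨J, inferInstance, inferInstance, Module.injective_module_of_injective_object R J,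
    f.hom, (ModuleCat.mono_iff_injective f).mp hf⟩

/-- **Existence of injective hulls.** -/
theorem exists_injectiveHull (M : Type u) [AddCommGroup M] [Module R M] :
    ∃ (E : Type u) (_ : AddCommGroup E) (_ : Module R E) (f : M →ₗ[R] E), IsInjectiveHull f := by
  obtain ⟨I, _, _, _, i, hi⟩ := exists_injective_embedding (R := R) M
  obtain ⟨B, f, -, hf, -⟩ := exists_hull_in i hi
  exact ⟨B, inferInstance, inferInstance, f, hf⟩

/-- Comparison map from an injective hull into an injective module containing `M`. -/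
theorem exists_embedding_of_hull {M E I : Type u} [AddCommGroup M] [Module R M] [AddCommGroup E]
    [Module R E] [AddCommGroup I] [Module R I] (f : M →ₗ[R] E) (hf : IsInjectiveHull f)
    (i : M →ₗ[R] I) (hi : Function.Injective i) (hI : Module.Injective R I) :
    ∃ α : E →ₗ[R] I, Function.Injective α ∧ α ∘ₗ f = i ∧
      ∃ ρ : I →ₗ[R] E, ρ ∘ₗ α = LinearMap.id := by
  obtain ⟨α, hα⟩ := Module.Injective.extension_property R I M E f hf.injective i
  have hαinj : Function.Injective α :=
    essInj_injective_of_comp hf.toIsEssentialInj α (by rw [hα]; exact hi)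
  have := hf.isInjective
  obtain ⟨ρ, hρ⟩ := exists_retraction α hαinj
  exact ⟨α, hαinj, hα, ρ, hρ⟩

/-- **Uniqueness of injective hulls.** -/
theorem injectiveHull_unique {M E E' : Type u} [AddCommGroup M] [Module R M] [AddCommGroup E]
    [Module R E] [AddCommGroup E'] [Module R E'] (f : M →ₗ[R] E) (hf : IsInjectiveHull f)
    (g : M →ₗ[R] E') (hg : IsInjectiveHull g) :
    ∃ e : E ≃ₗ[R] E', e.toLinearMap ∘ₗ f = g := by
  obtain ⟨α, hαinj, hα, ρ, hρ⟩ := exists_embedding_of_hull f hf g hg.injective hg.isInjective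
  have hc := isCompl_range_ker α ρ hρ
  have hker : LinearMap.ker ρ = ⊥ := by
    by_contra hne
    apply hg.essential _ hne
    rw [eq_bot_iff]
    rintro x ⟨hx1, m, rfl⟩
    have : g m ∈ LinearMap.range α ⊓ LinearMap.ker ρ :=
      ⟨⟨f m, by rw [← hα]; rfl⟩, hx1⟩
    rw [hc.inf_eq_bot] at this
    exact this
  have hrange : LinearMap.range α = ⊤ := by
    have := hc.sup_eq_top
    rwa [hker, sup_bot_eq] at this
  exact ⟨LinearEquiv.ofBijective α ⟨hαinj, LinearMap.range_eq_top.mp hrange⟩, by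
    ext m; exact LinearMap.congr_fun hα m⟩

/-- In an indecomposable injective module every nonzero submodule is essential. -/
theorem essIn_top_of_indecomposable {E : Type u} [AddCommGroup E] [Module R E]
    (hE : IsIndecomposable R E) (hinj : Module.Injective R E) {N : Submodule R E} (hN : N ≠ ⊥) :
    EssIn N ⊤ := by
  obtain ⟨B, hNB, hmax⟩ := exists_maximal_essIn N
  obtain ⟨C, hC⟩ := exists_isCompl_of_maximal_essIn hNB hmax
  rcases hE.2 B C hC with h | h
  · exact absurd (le_bot_iff.mp (h ▸ hNB.1)) hN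
  · have : B = ⊤ := by
      have := hC.sup_eq_top
      rwa [h, sup_bot_eq] at this
    exact this ▸ hNB

end Hull2

section Prime

variable {R : Type u} [CommRing R]

/-- Extending an injective hull along an essential injection gives an injective hull. -/
theorem exists_hull_of_essInj {M M' E : Type u} [AddCommGroup M] [Module R M] [AddCommGroup M']
    [Module R M'] [AddCommGroup E] [Module R E] (f : M →ₗ[R] E) (hf : IsInjectiveHull f)
    (i : M →ₗ[R] M') (hi : IsEssentialInj i) :
    ∃ g : M' →ₗ[R] E, g ∘ₗ i = f ∧ IsInjectiveHull g := by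
  have := hf.isInjective
  obtain ⟨g, hg⟩ := Module.Injective.extension_property R E M M' i hi.injective f
  have hginj : Function.Injective g :=
    essInj_injective_of_comp hi g (by rw [hg]; exact hf.injective)
  refine ⟨g, hg, ⟨essInj_of_range_le hf.toIsEssentialInj hginj ?_, hf.isInjective⟩⟩
  rw [← hg, LinearMap.range_comp]
  exact LinearMap.map_le_range

/-- A hull of a nontrivial "uniform" module is indecomposable. -/
theorem indecomposable_of_hull {M E : Type u} [AddCommGroup M] [Module R M] [Nontrivial M]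
    [AddCommGroup E] [Module R E] (f : M →ₗ[R] E) (hf : IsEssentialInj f)
    (hM : ∀ N N' : Submodule R M, N ≠ ⊥ → N' ≠ ⊥ → N ⊓ N' ≠ ⊥) : IsIndecomposable R E := by
  refine ⟨hf.injective.nontrivial, fun N N' hc => ?_⟩
  by_contra hcon
  push Not at hcon
  have h1 := hf.essential N hcon.1
  have h2 := hf.essential N' hcon.2
  have key : ∀ K : Submodule R E, K ⊓ LinearMap.range f ≠ ⊥ → Submodule.comap f K ≠ ⊥ := by
    intro K hK
    obtain ⟨x, ⟨hxK, m, rfl⟩, hx0⟩ := (Submodule.ne_bot_iff _).mp hK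
    exact (Submodule.ne_bot_iff _).mpr ⟨m, hxK, fun h => hx0 (by rw [h, map_zero])⟩
  obtain ⟨m, ⟨hm1, hm2⟩, hm0⟩ := (Submodule.ne_bot_iff _).mp (hM _ _ (key N h1) (key N' h2))
  have : f m ∈ N ⊓ N' := ⟨hm1, hm2⟩
  rw [hc.inf_eq_bot] at this
  exact hm0 (hf.injective (by rw [map_zero]; exact this))

theorem quotient_prime_uniform (p : Ideal R) [p.IsPrime] (N N' : Submodule R (R ⧸ p))
    (hN : N ≠ ⊥) (hN' : N' ≠ ⊥) : N ⊓ N' ≠ ⊥ := by
  obtain ⟨x, hx, hx0⟩ := (Submodule.ne_bot_iff _).mp hN
  obtain ⟨y, hy, hy0⟩ := (Submodule.ne_bot_iff _).mp hN'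
  obtain ⟨r, rfl⟩ := Ideal.Quotient.mk_surjective x
  obtain ⟨s, rfl⟩ := Ideal.Quotient.mk_surjective y
  refine (Submodule.ne_bot_iff _).mpr ⟨Ideal.Quotient.mk p r * Ideal.Quotient.mk p s, ⟨?_, ?_⟩,
    mul_ne_zero hx0 hy0⟩
  · have : Ideal.Quotient.mk p r * Ideal.Quotient.mk p s = s • Ideal.Quotient.mk p r := by
      rw [mul_comm]; rfl
    rw [this]; exact N.smul_mem s hx
  · have : Ideal.Quotient.mk p r * Ideal.Quotient.mk p s = r • Ideal.Quotient.mk p s := rfl
    rw [this]; exact N'.smul_mem r hy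

/-- The `R`-linear map `R ⧸ p → κ(p)`. -/
noncomputable def quotToResidueField (p : Ideal R) [p.IsPrime] : (R ⧸ p) →ₗ[R] p.ResidueField :=
  (IsScalarTower.toAlgHom R (R ⧸ p) p.ResidueField).toLinearMap

theorem quotToResidueField_apply (p : Ideal R) [p.IsPrime] (x : R ⧸ p) :
    quotToResidueField p x = algebraMap (R ⧸ p) p.ResidueField x := rfl

theorem quotToResidueField_essential (p : Ideal R) [p.IsPrime] :
    IsEssentialInj (quotToResidueField p) := by
  rw [isEssentialInj_iff]
  refine ⟨p.injective_algebraMap_quotient_residueField, le_top, fun x _ hx0 => ?_⟩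
  obtain ⟨⟨a, s⟩, h⟩ := IsLocalization.surj (nonZeroDivisors (R ⧸ p)) x
  obtain ⟨r, hr⟩ := Ideal.Quotient.mk_surjective (s : R ⧸ p)
  have hs0 : algebraMap (R ⧸ p) p.ResidueField (s : R ⧸ p) ≠ 0 := by
    intro h0
    have := p.injective_algebraMap_quotient_residueField (h0.trans (map_zero _).symm)
    exact nonZeroDivisors.ne_zero s.2 this
  have hrx : r • x = algebraMap (R ⧸ p) p.ResidueField a := by
    rw [← h, Algebra.smul_def, mul_comm, IsScalarTower.algebraMap_apply R (R ⧸ p) p.ResidueField,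
      Ideal.Quotient.algebraMap_eq, hr]
  refine ⟨r, ?_, a, hrx.symm⟩
  rw [hrx, ← h]
  exact mul_ne_zero hx0 hs0

/-- **S0305** -/
theorem hull_quotient_prime (p : Ideal R) [p.IsPrime] {E : Type u} [AddCommGroup E] [Module R E]
    (f : (R ⧸ p) →ₗ[R] E) (hf : IsInjectiveHull f) :
    IsIndecomposable R E ∧ ∃ g : p.ResidueField →ₗ[R] E, IsInjectiveHull g := by
  refine ⟨indecomposable_of_hull f hf.toIsEssentialInj (quotient_prime_uniform p), ?_⟩
  obtain ⟨g, -, hg⟩ := exists_hull_of_essInj f hf _ (quotToResidueField_essential p)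
  exact ⟨g, hg⟩

/-- **S0306** -/
theorem indecomposable_injective_noetherian [IsNoetherianRing R] {E : Type u} [AddCommGroup E]
    [Module R E] (hE : IsIndecomposable R E) (hinj : Module.Injective R E) :
    ∃ (p : Ideal R) (_ : p.IsPrime) (g : p.ResidueField →ₗ[R] E), IsInjectiveHull g := by
  have := hE.1
  obtain ⟨p, hp⟩ := associatedPrimes.nonempty R E
  obtain ⟨hpp, f, hf⟩ := (isAssociatedPrime_iff_exists_injective_linearMap p E).mp hp
  have hrange : LinearMap.range f ≠ ⊥ := by
    rw [Ne, LinearMap.range_eq_bot]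
    intro h0
    have h1 : (1 : R ⧸ p) = 0 := hf (by rw [h0]; simp)
    exact one_ne_zero h1
  have hess : IsEssentialInj f :=
    (isEssentialInj_iff f).mpr ⟨hf, essIn_top_of_indecomposable hE hinj hrange⟩
  obtain ⟨-, g, hg⟩ := hull_quotient_prime p f ⟨hess, hinj⟩
  exact ⟨p, hpp, g, hg⟩

end Prime

section DirectSumInj

variable {R : Type u} [CommRing R]

open DirectSum in
/-- Truncation `Π E i → ⨁ E i` to a finite set of indices. -/
noncomputable def truncPi {ι : Type w} [DecidableEq ι] (E : ι → Type v) [∀ i, AddCommGroup (E i)]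
    [∀ i, Module R (E i)] (s : Finset ι) : (∀ i, E i) →ₗ[R] (⨁ i, E i) :=
  ∑ i ∈ s, (DirectSum.lof R ι E i) ∘ₗ (LinearMap.proj i)

open DirectSum in
theorem truncPi_apply_of_support {ι : Type w} [DecidableEq ι] (E : ι → Type v)
    [∀ i, AddCommGroup (E i)] [∀ i, Module R (E i)] (s : Finset ι) (y : ⨁ i, E i)
    (hy : ∀ i, i ∉ s → y i = 0) : truncPi (R := R) E s (DirectSum.coeFnLinearMap R y) = y := by
  refine DFinsupp.ext fun j => ?_
  simp only [truncPi, LinearMap.sum_apply, LinearMap.comp_apply, LinearMap.proj_apply,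
    DirectSum.coeFnLinearMap_apply]
  rw [DFinsupp.finsetSum_apply]
  by_cases hj : j ∈ s
  · rw [Finset.sum_eq_single j]
    · exact DirectSum.lof_apply R j (y j)
    · intro i _ hij
      exact DFinsupp.single_eq_of_ne hij.symm
    · intro h; exact absurd hj h
  · rw [hy j hj]
    apply Finset.sum_eq_zero
    intro i hi
    have : i ≠ j := fun h => hj (h ▸ hi)
    exact DFinsupp.single_eq_of_ne this.symm

open DirectSum in
/-- **Bass**: over a Noetherian ring, direct sums of injective modules are injective. -/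
theorem injective_directSum [IsNoetherianRing R] {ι : Type v} (E : ι → Type v)
    [∀ i, AddCommGroup (E i)] [∀ i, Module R (E i)] [Small.{v} R]
    (hE : ∀ i, Module.Injective R (E i)) : Module.Injective R (⨁ i, E i) := by
  classical
  refine Module.Baer.injective fun I g => ?_
  obtain ⟨S, hS⟩ := (isNoetherianRing_iff_ideal_fg R).mp inferInstance I
  -- finite set of indices supporting all `g x`
  have hsupp : ∃ s : Finset ι, ∀ (x : I) (i : ι), i ∉ s → g x i = 0 := by
    have hgen : ∀ x ∈ S, x ∈ I := fun x hx => hS ▸ Ideal.subset_span hx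
    let s : Finset ι := S.attach.biUnion (fun x => (g ⟨x.1, hgen x.1 x.2⟩).support)
    refine ⟨s, fun x i hi => ?_⟩
    have hx : (x : R) ∈ Ideal.span (S : Set R) := hS ▸ x.2
    have key : ∀ y (hy : y ∈ Ideal.span (S : Set R)), g ⟨y, hS ▸ hy⟩ i = 0 := by
      intro y hy
      induction hy using Submodule.span_induction with
      | mem y hyS =>
        by_contra hne
        apply hi
        rw [Finset.mem_biUnion]
        exact ⟨⟨y, hyS⟩, Finset.mem_attach _ _, DFinsupp.mem_support_iff.mpr hne⟩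
      | zero =>
        have : (⟨0, hS ▸ (Ideal.span (S : Set R)).zero_mem⟩ : I) = 0 := rfl
        rw [this, map_zero]; rfl
      | add y z hy hz ihy ihz =>
        have : (⟨y + z, hS ▸ (Ideal.span (S : Set R)).add_mem hy hz⟩ : I) =
          ⟨y, hS ▸ hy⟩ + ⟨z, hS ▸ hz⟩ := rfl
        rw [this, map_add, DirectSum.add_apply, ihy, ihz, add_zero]
      | smul a y hy ihy =>
        have : (⟨a • y, hS ▸ (Ideal.span (S : Set R)).smul_mem a hy⟩ : I) =
          a • ⟨y, hS ▸ hy⟩ := rfl
        rw [this, map_smul, DirectSum.smul_apply, ihy, smul_zero]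
    exact key x hx
  obtain ⟨s, hs⟩ := hsupp
  have hpi : Module.Injective R (∀ i, E i) := inferInstance
  obtain ⟨h, hh⟩ := (Module.Baer.of_injective hpi) I ((DirectSum.coeFnLinearMap R) ∘ₗ g)
  refine ⟨truncPi E s ∘ₗ h, fun x hx => ?_⟩
  rw [LinearMap.comp_apply, hh x hx, LinearMap.comp_apply]
  exact truncPi_apply_of_support E s _ (hs ⟨x, hx⟩)

end DirectSumInj

section PowerTorsion

variable {R : Type u} [CommRing R]

/-- The `J`-power torsion submodule. -/
def powTorsion (J : Ideal R) (M : Type v) [AddCommGroup M] [Module R M] : Submodule R M :=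
  ⨆ n : ℕ, Submodule.torsionBySet R M ((J ^ n : Ideal R) : Set R)

theorem torsionBySet_pow_mono (J : Ideal R) (M : Type v) [AddCommGroup M] [Module R M] :
    Monotone (fun n : ℕ => Submodule.torsionBySet R M ((J ^ n : Ideal R) : Set R)) := by
  intro n m hnm x hx
  rw [Submodule.mem_torsionBySet_iff] at hx ⊢
  intro a
  exact hx ⟨a.1, Ideal.pow_le_pow_right hnm a.2⟩

theorem mem_powTorsion_iff (J : Ideal R) {M : Type v} [AddCommGroup M] [Module R M] (x : M) :
    x ∈ powTorsion J M ↔ ∃ n : ℕ, ∀ a ∈ J ^ n, a • x = 0 := by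
  rw [powTorsion, Submodule.mem_iSup_of_directed _ (torsionBySet_pow_mono J M).directed_le]
  refine exists_congr fun n => ?_
  rw [Submodule.mem_torsionBySet_iff]
  exact ⟨fun h a ha => h ⟨a, ha⟩, fun h a => h a.1 a.2⟩

/-- Uniform annihilation on a Noetherian module mapping to the power torsion. -/
theorem exists_pow_uniform (J : Ideal R) {M : Type v} [AddCommGroup M] [Module R M]
    {A : Type w} [AddCommGroup A] [Module R A] [IsNoetherian R A] (g : A →ₗ[R] M)
    (hg : ∀ x, g x ∈ powTorsion J M) : ∃ n : ℕ, ∀ (x : A), ∀ a ∈ J ^ n, a • g x = 0 := by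
  let T : ℕ →o Submodule R A :=
    ⟨fun n => Submodule.comap g (Submodule.torsionBySet R M ((J ^ n : Ideal R) : Set R)),
      fun n m hnm => Submodule.comap_mono (torsionBySet_pow_mono J M hnm)⟩
  obtain ⟨n, hn⟩ := monotone_stabilizes_iff_noetherian.mpr inferInstance T
  refine ⟨n, fun x a ha => ?_⟩
  obtain ⟨m, hm⟩ := (mem_powTorsion_iff J (g x)).mp (hg x)
  have hxm : x ∈ T m := by
    show g x ∈ Submodule.torsionBySet R M _
    rw [Submodule.mem_torsionBySet_iff]
    exact fun a => hm a.1 a.2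
  have hxn : x ∈ T n := by
    rcases le_total m n with h | h
    · exact T.monotone h hxm
    · rw [hn m h]; exact hxm
  have : g x ∈ Submodule.torsionBySet R M ((J ^ n : Ideal R) : Set R) := hxn
  rw [Submodule.mem_torsionBySet_iff] at this
  exact this ⟨a, ha⟩

/-- **S0301**: over a Noetherian ring the `J`-power torsion of an injective module is injective. -/
theorem injective_powTorsion [IsNoetherianRing R] (J : Ideal R) {I : Type u} [AddCommGroup I]
    [Module R I] (hI : Module.Injective R I) : Module.Injective R (powTorsion J I) := by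
  refine Module.Baer.injective fun 𝔞 g => ?_
  -- Step 1: uniform exponent
  obtain ⟨n, hn⟩ := exists_pow_uniform J ((powTorsion J I).subtype ∘ₗ g) (fun x => (g x).2)
  -- Step 2: Artin–Rees
  obtain ⟨k, hk⟩ := Ideal.exists_pow_inf_eq_pow_smul J (𝔞 : Submodule R R)
  have hAR : ∀ x : R, x ∈ 𝔞 → x ∈ J ^ (n + k) → x ∈ J ^ n • (𝔞 : Submodule R R) := by
    intro x hx𝔞 hxJ
    have h1 : x ∈ J ^ (n + k) • (⊤ : Submodule R R) ⊓ 𝔞 :=
      ⟨by rw [smul_eq_mul, Ideal.mul_top]; exact hxJ, hx𝔞⟩
    rw [hk (n + k) (Nat.le_add_left k n), Nat.add_sub_cancel] at h1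
    exact Submodule.smul_mono le_rfl inf_le_right h1
  have hkill : ∀ x : 𝔞, (x : R) ∈ J ^ (n + k) → (g x : I) = 0 := by
    intro x hx
    have h1 := hAR x x.2 hx
    have key : ∀ y ∈ J ^ n • (𝔞 : Submodule R R), ∃ hy : y ∈ 𝔞, (g ⟨y, hy⟩ : I) = 0 := by
      intro y hy
      refine Submodule.smul_induction_on hy ?_ ?_
      · intro a ha z hz
        refine ⟨𝔞.smul_mem a hz, ?_⟩
        have : (⟨a • z, 𝔞.smul_mem a hz⟩ : 𝔞) = a • ⟨z, hz⟩ := rfl
        rw [this, map_smul]
        exact hn ⟨z, hz⟩ a ha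
      · rintro y z ⟨hy1, hy2⟩ ⟨hz1, hz2⟩
        refine ⟨𝔞.add_mem hy1 hz1, ?_⟩
        have : (⟨y + z, 𝔞.add_mem hy1 hz1⟩ : 𝔞) = ⟨y, hy1⟩ + ⟨z, hz1⟩ := rfl
        rw [this, map_add, Submodule.coe_add, hy2, hz2, add_zero]
    obtain ⟨_, h2⟩ := key x h1
    exact h2
  -- Step 3: quotient maps
  let m := n + k
  let K : Submodule R 𝔞 := Submodule.comap 𝔞.subtype (J ^ m : Ideal R)
  let h : 𝔞 →ₗ[R] I := (powTorsion J I).subtype ∘ₗ g
  have hK : K ≤ LinearMap.ker h := fun x hx => hkill x hx
  let hbar : (𝔞 ⧸ K) →ₗ[R] I := K.liftQ h hK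
  let ι : (𝔞 ⧸ K) →ₗ[R] (R ⧸ (J ^ m : Ideal R)) := K.mapQ (J ^ m : Ideal R) 𝔞.subtype le_rfl
  have hι : Function.Injective ι := by
    rw [← LinearMap.ker_eq_bot, LinearMap.ker_eq_bot']
    intro x hx
    induction x using Submodule.Quotient.induction_on with
    | H x =>
      rw [Submodule.mapQ_apply, Submodule.Quotient.mk_eq_zero] at hx
      exact (Submodule.Quotient.mk_eq_zero _).mpr hx
  obtain ⟨ψ, hψ⟩ := Module.Injective.extension_property R I _ _ ι hι hbar
  have hmem : ∀ r : R, ψ (Submodule.Quotient.mk r) ∈ powTorsion J I := by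
    intro r
    rw [mem_powTorsion_iff]
    refine ⟨m, fun a ha => ?_⟩
    rw [← map_smul, ← Submodule.Quotient.mk_smul]
    have : (Submodule.Quotient.mk (a • r) : R ⧸ (J ^ m : Ideal R)) = 0 := by
      rw [Submodule.Quotient.mk_eq_zero]
      exact Ideal.mul_mem_right _ _ ha
    rw [this, map_zero]
  refine ⟨(ψ ∘ₗ (J ^ m : Ideal R).mkQ).codRestrict (powTorsion J I) hmem, fun x hx => ?_⟩
  apply Subtype.ext
  rw [LinearMap.codRestrict_apply, LinearMap.comp_apply, Submodule.mkQ_apply]
  have h1 : (Submodule.Quotient.mk x : R ⧸ (J ^ m : Ideal R)) =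
      ι (Submodule.Quotient.mk ⟨x, hx⟩) := by
    rw [Submodule.mapQ_apply]; rfl
  rw [h1, ← LinearMap.comp_apply, hψ]
  rfl

end PowerTorsion

section Decomp

variable {R : Type u} [CommRing R]

theorem sSupIndep_insert {α : Type*} [CompleteLattice α] [IsModularLattice α] {S : Set α} {b : α}
    (hS : sSupIndep S) (hb : Disjoint b (sSup S)) : sSupIndep (insert b S) := by
  intro a ha
  rcases Set.mem_insert_iff.mp ha with rfl | haS
  · refine hb.mono_right (sSup_le_sSup ?_)
    rintro x ⟨hx1, hx2⟩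
    rcases Set.mem_insert_iff.mp hx1 with rfl | h
    · exact absurd rfl hx2
    · exact h
  · by_cases hab : a = b
    · subst hab
      refine hb.mono_right (sSup_le_sSup ?_)
      rintro x ⟨hx1, hx2⟩
      rcases Set.mem_insert_iff.mp hx1 with rfl | h
      · exact absurd rfl hx2
      · exact h
    · have h1 : Disjoint a (sSup (S \ {a})) := hS haS
      have h2 : Disjoint (a ⊔ sSup (S \ {a})) b := by
        refine hb.symm.mono_left (sup_le (le_sSup haS) (sSup_le_sSup Set.sdiff_subset))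
      have h3 := h1.disjoint_sup_right_of_disjoint_sup_left h2
      refine h3.mono_right (sSup_le ?_)
      rintro x ⟨hx1, hx2⟩
      rcases Set.mem_insert_iff.mp hx1 with rfl | h
      · exact le_sup_right
      · exact le_sup_of_le_left (le_sSup ⟨h, hx2⟩)

/-- Transport of injectivity along a linear equivalence. -/
theorem injective_of_linearEquiv {A B : Type u} [AddCommGroup A] [Module R A] [AddCommGroup B]
    [Module R B] (e : A ≃ₗ[R] B) (hA : Module.Injective R A) : Module.Injective R B :=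
  injective_of_retract e.symm.toLinearMap e.toLinearMap (by ext; simp)

/-- **Matlis decomposition** (S0307). -/
theorem exists_decomposition [IsNoetherianRing R] {I : Type u} [AddCommGroup I] [Module R I]
    (hI : Module.Injective R I) :
    ∃ (ι : Type u) (E : ι → Submodule R I), iSupIndep E ∧ iSup E = ⊤ ∧
      ∀ i, IsIndecomposable R ↥(E i) ∧ Module.Injective R ↥(E i) := by
  classical
  obtain ⟨S, hSmax⟩ := zorn_subset
    {S : Set (Submodule R I) | sSupIndep S ∧
      ∀ B ∈ S, IsIndecomposable R ↥B ∧ Module.Injective R ↥B}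
    (fun c hc1 hc2 => ⟨⋃₀ c,
      ⟨iSupIndep_sUnion_of_directed hc2.directedOn fun s hs => (hc1 hs).1,
        fun B ⟨s, hs, hB⟩ => (hc1 hs).2 B hB⟩, fun _ => Set.subset_sUnion_of_mem⟩)
  obtain ⟨hSind, hSprop⟩ := hSmax.prop
  let E : S → Submodule R I := fun i => i.1
  have hEind : iSupIndep E := (sSupIndep_iff S).mp hSind
  have hEinj : ∀ i, Module.Injective R (E i) := fun i => (hSprop i.1 i.2).2
  refine ⟨S, E, hEind, ?_, fun i => hSprop i.1 i.2⟩
  -- the sum is injective, hence a direct summand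
  let α : (DirectSum S fun i => E i) →ₗ[R] I := DirectSum.coeLinearMap E
  have hα : Function.Injective α := hEind.dfinsupp_lsum_injective
  have hDS : Module.Injective R (DirectSum S fun i => E i) :=
    injective_directSum (fun i : S => E i) hEinj
  obtain ⟨ρ, hρ⟩ := exists_retraction α hα
  have hc := isCompl_range_ker α ρ hρ
  have hrange : LinearMap.range α = ⨆ i, E i := DirectSum.range_coeLinearMap
  by_contra htop
  have hC : LinearMap.ker ρ ≠ ⊥ := by
    intro h0
    apply htop
    have := hc.sup_eq_top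
    rwa [h0, sup_bot_eq, hrange] at this
  -- an associated prime of the complement
  have : Nontrivial (LinearMap.ker ρ) := Submodule.nontrivial_iff_ne_bot.mpr hC
  obtain ⟨p, hp⟩ := associatedPrimes.nonempty R (LinearMap.ker ρ)
  obtain ⟨hpp, f0, hf0⟩ := (isAssociatedPrime_iff_exists_injective_linearMap p _).mp hp
  let i0 : (R ⧸ p) →ₗ[R] I := (LinearMap.ker ρ).subtype ∘ₗ f0
  have hi0 : Function.Injective i0 := (LinearMap.ker ρ).injective_subtype.comp hf0
  obtain ⟨B, f, hfB, hf, N, hBN⟩ := exists_hull_in i0 hi0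
  have hBinj : Module.Injective R B := hf.isInjective
  have hBind : IsIndecomposable R B := (hull_quotient_prime p f hf).1
  have hBne : B ≠ ⊥ := by
    have := hBind.1
    exact Submodule.nontrivial_iff_ne_bot.mp this
  -- `B` is disjoint from the sum
  have hBdisj : Disjoint B (sSup S) := by
    rw [disjoint_iff]
    by_contra hne
    -- pull back to a submodule of `B`
    have hne' : Submodule.comap B.subtype (sSup S) ≠ ⊥ := by
      obtain ⟨x, ⟨hx1, hx2⟩, hx0⟩ := (Submodule.ne_bot_iff _).mp hne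
      exact (Submodule.ne_bot_iff _).mpr ⟨⟨x, hx1⟩, hx2, fun h => hx0 (congrArg Subtype.val h)⟩
    obtain ⟨y, ⟨hy1, m, hm⟩, hy0⟩ := (Submodule.ne_bot_iff _).mp (hf.essential _ hne')
    have h1 : (y : I) ∈ LinearMap.ker ρ := by
      rw [← hm]
      have : ((f m : B) : I) = i0 m := LinearMap.congr_fun hfB m
      rw [this]
      exact (f0 m).2
    have h2 : (y : I) ∈ LinearMap.range α := by
      rw [hrange, ← sSup_range]
      have : Set.range E = S := by
        ext x; simp [E]
      rw [this]; exact hy1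
    have h3 : (y : I) ∈ LinearMap.range α ⊓ LinearMap.ker ρ := ⟨h2, h1⟩
    rw [hc.inf_eq_bot] at h3
    exact hy0 (Subtype.ext h3)
  have hmem : insert B S ∈ {S : Set (Submodule R I) | sSupIndep S ∧
      ∀ B ∈ S, IsIndecomposable R ↥B ∧ Module.Injective R ↥B} := by
    refine ⟨sSupIndep_insert hSind hBdisj, fun B' hB' => ?_⟩
    rcases Set.mem_insert_iff.mp hB' with rfl | h
    · exact ⟨hBind, hBinj⟩
    · exact hSprop B' h
  have hBS : B ∈ S := hSmax.le_of_ge hmem (Set.subset_insert B S) (Set.mem_insert B S)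
  exact hBne (le_bot_iff.mp (hBdisj le_rfl (le_sSup hBS)))

end Decomp

end Groth.Agent.Helper1.InjHullL
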