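import Mathlib
import Groth.Agent.Lib.Helper1.InjHullL

set_option autoImplicit false
universe u v w

namespace Groth.Agent.Helper1.MatlisL

open InjHull IsLocalRing Groth.Agent.Helper1.InjHullL TensorProduct

section Dual

variable {R : Type u} [CommRing R] {E : Type v} [AddCommGroup E] [Module R E]

/-- `Hom(-, E)` is left exact: the kernel of restriction to `N` is `Hom(M/N, E)`. -/
theorem exact_lcomp_mkQ_subtype {M : Type w} [AddCommGroup M] [Module R M] (N : Submodule R M) :
    Function.Exact (LinearMap.lcomp R E N.mkQ) (LinearMap.lcomp R E N.subtype) := by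
  intro φ
  constructor
  · intro h
    have hN : N ≤ LinearMap.ker φ := by
      intro x hx
      have := LinearMap.congr_fun h ⟨x, hx⟩
      simpa using this
    exact ⟨N.liftQ φ hN, by ext x; simp⟩
  · rintro ⟨ψ, rfl⟩
    ext x
    show ψ (N.mkQ x) = 0
    rw [Submodule.mkQ_apply, (Submodule.Quotient.mk_eq_zero N).mpr x.2, map_zero]

theorem lcomp_mkQ_injective {M : Type w} [AddCommGroup M] [Module R M] (N : Submodule R M) :
    Function.Injective (LinearMap.lcomp R E N.mkQ) := by
  intro φ ψ h
  ext x
  exact LinearMap.congr_fun h x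

theorem lcomp_surjective_of_injective {R : Type u} [CommRing R] {E : Type u} [AddCommGroup E]
    [Module R E] [Module.Injective R E] {M N : Type u} [AddCommGroup M] [Module R M]
    [AddCommGroup N] [Module R N] (i : N →ₗ[R] M) (hi : Function.Injective i) :
    Function.Surjective (LinearMap.lcomp R E i) := by
  intro g
  obtain ⟨h, hh⟩ := Module.Injective.extension_property R E N M i hi g
  exact ⟨h, hh⟩

end Dual

section Local

variable {R : Type u} [CommRing R] [IsLocalRing R] {E : Type u} [AddCommGroup E] [Module R E]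
  (f : ResidueField R →ₗ[R] E)

theorem smul_hull_eq_zero (c : ResidueField R) {a : R} (ha : a ∈ maximalIdeal R) :
    a • f c = 0 := by
  rw [← map_smul]
  have : a • c = 0 := by
    rw [Algebra.smul_def]
    have : algebraMap R (ResidueField R) a = 0 := (residue_eq_zero_iff a).mpr ha
    rw [this, zero_mul]
  rw [this, map_zero]

/-- The socle of `E(k)` is the image of `k`. -/
theorem mem_range_hull_iff (hf : IsEssentialInj f) (x : E) :
    x ∈ LinearMap.range f ↔ ∀ a ∈ maximalIdeal R, a • x = 0 := by
  constructor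
  · rintro ⟨c, rfl⟩ a ha
    exact smul_hull_eq_zero f c ha
  · intro h
    by_cases hx0 : x = 0
    · rw [hx0]; exact Submodule.zero_mem _
    obtain ⟨r, c, hr0, hc⟩ := essInj_exists_smul_mem hf hx0
    have hr : IsUnit r := by
      by_contra hr
      exact hr0 (h r ((mem_maximalIdeal r).mpr hr))
    obtain ⟨u, rfl⟩ := hr
    have : x = (↑u⁻¹ : R) • f c := by
      rw [hc, ← mul_smul, Units.inv_mul, one_smul]
    rw [this]
    exact Submodule.smul_mem _ _ ⟨c, rfl⟩

/-- Evaluation at `1` identifies `Hom(k, E)` with the image of `k`. -/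
theorem length_dual_residueField (hf : IsEssentialInj f) :
    Module.length R (ResidueField R →ₗ[R] E) = 1 := by
  let ev : (ResidueField R →ₗ[R] E) →ₗ[R] E := LinearMap.applyₗ (1 : ResidueField R)
  have hev : Function.Injective ev := by
    intro φ ψ h
    ext c
    obtain ⟨r, rfl⟩ := residue_surjective c
    have h1 : residue R r = r • (1 : ResidueField R) := by
      rw [Algebra.smul_def, mul_one]; rfl
    rw [h1, map_smul, map_smul]
    exact congrArg (r • ·) h
  have hrange : LinearMap.range ev = LinearMap.range f := by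
    apply le_antisymm
    · rintro _ ⟨φ, rfl⟩
      rw [mem_range_hull_iff f hf]
      intro a ha
      show a • φ 1 = 0
      rw [← map_smul]
      have : a • (1 : ResidueField R) = 0 := by
        rw [Algebra.smul_def, mul_one]
        exact (residue_eq_zero_iff a).mpr ha
      rw [this, map_zero]
    · rintro _ ⟨c, rfl⟩
      refine ⟨f ∘ₗ LinearMap.mulLeft R c, ?_⟩
      show f (c * 1) = f c
      rw [mul_one]
  have e1 : (ResidueField R →ₗ[R] E) ≃ₗ[R] LinearMap.range ev := LinearEquiv.ofInjective ev hev
  have e2 : ResidueField R ≃ₗ[R] LinearMap.range f := LinearEquiv.ofInjective f hf.injective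
  rw [e1.length_eq, hrange, ← e2.length_eq]
  have : IsSimpleModule R (R ⧸ maximalIdeal R) :=
    isSimpleModule_iff_isCoatom.mpr (Ideal.isMaximal_def.mp inferInstance)
  exact Module.length_eq_one R (R ⧸ maximalIdeal R)

theorem length_dual_simple (hf : IsEssentialInj f) (S : Type u) [AddCommGroup S] [Module R S]
    [IsSimpleModule R S] : Module.length R (S →ₗ[R] E) = 1 := by
  obtain ⟨m, hm, ⟨e⟩⟩ := isSimpleModule_iff_quot_maximal.mp (inferInstance : IsSimpleModule R S)
  rw [eq_maximalIdeal hm] at e
  have e' : S ≃ₗ[R] ResidueField R := e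
  rw [(LinearEquiv.arrowCongr e' (LinearEquiv.refl R E)).length_eq]
  exact length_dual_residueField f hf

/-- **Matlis duality preserves length** (generalisation of S0308). -/
theorem length_dual (hf : IsInjectiveHull f) (M : Type u) [AddCommGroup M] [Module R M]
    (hM : IsFiniteLength R M) : Module.length R (M →ₗ[R] E) = Module.length R M := by
  have := hf.isInjective
  induction hM with
  | of_subsingleton =>
    rw [Module.length_eq_zero, Module.length_eq_zero]
  | @of_simple_quotient M _ _ N _ hN ih =>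
    rw [Module.length_eq_add_of_exact (LinearMap.lcomp R E N.mkQ) (LinearMap.lcomp R E N.subtype)
      (lcomp_mkQ_injective N) (lcomp_surjective_of_injective _ N.injective_subtype)
      (exact_lcomp_mkQ_subtype N), ih, length_dual_simple f hf.toIsEssentialInj,
      Module.length_eq_add_of_exact N.subtype N.mkQ N.injective_subtype N.mkQ_surjective
      (LinearMap.exact_subtype_mkQ N), Module.length_eq_one R (M ⧸ N), add_comm]

end Local

section Cogen

variable {R : Type u} [CommRing R] [IsLocalRing R] {E : Type u} [AddCommGroup E] [Module R E]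
  (f : ResidueField R →ₗ[R] E)

/-- `E(k)` is a cogenerator: every nonzero element is detected by a map to `E`. -/
theorem exists_dual_ne_zero (hf : IsInjectiveHull f) {M : Type u} [AddCommGroup M] [Module R M]
    {x : M} (hx : x ≠ 0) : ∃ φ : M →ₗ[R] E, φ x ≠ 0 := by
  have := hf.isInjective
  let 𝔞 : Ideal R := LinearMap.ker (LinearMap.toSpanSingleton R M x)
  have h𝔞 : 𝔞 ≤ maximalIdeal R := by
    apply le_maximalIdeal
    intro htop
    have : (1 : R) ∈ 𝔞 := htop ▸ Submodule.mem_top
    rw [LinearMap.mem_ker, LinearMap.toSpanSingleton_apply, one_smul] at this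
    exact hx this
  let j : (R ⧸ 𝔞) →ₗ[R] M := Submodule.liftQ 𝔞 (LinearMap.toSpanSingleton R M x) le_rfl
  have hj : Function.Injective j := by
    rw [← LinearMap.ker_eq_bot]
    exact Submodule.ker_liftQ_eq_bot' _ _ rfl
  let q : R →ₗ[R] E := f ∘ₗ (Algebra.linearMap R (ResidueField R))
  have hq : 𝔞 ≤ LinearMap.ker q := by
    intro a ha
    rw [LinearMap.mem_ker, LinearMap.comp_apply, Algebra.linearMap_apply]
    have : algebraMap R (ResidueField R) a = 0 := (residue_eq_zero_iff a).mpr (h𝔞 ha)
    rw [this, map_zero]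
  let g : (R ⧸ 𝔞) →ₗ[R] E := Submodule.liftQ 𝔞 q hq
  obtain ⟨φ, hφ⟩ := Module.Injective.extension_property R E _ _ j hj g
  refine ⟨φ, ?_⟩
  have h1 : j (Submodule.Quotient.mk 1) = x := by
    show (LinearMap.toSpanSingleton R M x) 1 = x
    rw [LinearMap.toSpanSingleton_apply, one_smul]
  have h2 : φ x = f 1 := by
    rw [← h1, ← LinearMap.comp_apply, hφ]
    show q 1 = f 1
    rw [LinearMap.comp_apply, Algebra.linearMap_apply, map_one]
  rw [h2]
  intro h0
  exact one_ne_zero (hf.injective (h0.trans (map_zero f).symm))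

theorem applyₗ_injective (hf : IsInjectiveHull f) (M : Type u) [AddCommGroup M] [Module R M] :
    Function.Injective (LinearMap.applyₗ : M →ₗ[R] (M →ₗ[R] E) →ₗ[R] E) := by
  rw [← LinearMap.ker_eq_bot, LinearMap.ker_eq_bot']
  intro x hx
  by_contra hx0
  obtain ⟨φ, hφ⟩ := exists_dual_ne_zero f hf hx0
  exact hφ (LinearMap.congr_fun hx φ)

omit [IsLocalRing R] in
/-- An injective map into a module of no greater finite length is surjective. -/
theorem surjective_of_injective_of_length_le {M P : Type*} [AddCommGroup M] [Module R M]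
    [AddCommGroup P] [Module R P] (g : M →ₗ[R] P) (hg : Function.Injective g)
    (hfin : Module.length R M ≠ ⊤) (hle : Module.length R P ≤ Module.length R M) :
    Function.Surjective g := by
  have h1 := Module.length_eq_add_of_exact g (LinearMap.range g).mkQ hg
    (Submodule.mkQ_surjective _) (LinearMap.exact_map_mkQ_range g)
  rw [h1] at hle
  have h2 : Module.length R (P ⧸ LinearMap.range g) = 0 := by
    by_contra hne
    have hpos : 0 < Module.length R (P ⧸ LinearMap.range g) := pos_iff_ne_zero.mpr hne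
    have := ENat.add_lt_add_iff_left hfin |>.mpr hpos
    rw [add_zero] at this
    exact absurd hle (not_le.mpr this)
  rw [Module.length_eq_zero_iff] at h2
  rw [← LinearMap.range_eq_top]
  exact Submodule.Quotient.subsingleton_iff.mp h2

/-- **Matlis duality for finite length modules** (generalisation of S0309). -/
theorem applyₗ_bijective_of_isFiniteLength (hf : IsInjectiveHull f) (M : Type u) [AddCommGroup M]
    [Module R M] (hM : IsFiniteLength R M) :
    Function.Bijective (LinearMap.applyₗ : M →ₗ[R] (M →ₗ[R] E) →ₗ[R] E) := by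
  refine ⟨applyₗ_injective f hf M, ?_⟩
  have h1 := length_dual f hf M hM
  have hM' : IsFiniteLength R (M →ₗ[R] E) := by
    rw [← Module.length_ne_top_iff, h1, Module.length_ne_top_iff]; exact hM
  have h2 := length_dual f hf (M →ₗ[R] E) hM'
  apply surjective_of_injective_of_length_le _ (applyₗ_injective f hf M)
    (Module.length_ne_top_iff.mpr hM)
  rw [h2, h1]

end Cogen

section PowTors

variable {R : Type u} [CommRing R] [IsLocalRing R] {E : Type u} [AddCommGroup E] [Module R E]
  (f : ResidueField R →ₗ[R] E)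

/-- **S0311**: `E(k)` is `𝔪`-power torsion over a Noetherian local ring. -/
theorem powTorsion_hull_eq_top [IsNoetherianRing R] (hf : IsInjectiveHull f) :
    powTorsion (maximalIdeal R) E = ⊤ := by
  have hΓ : Module.Injective R (powTorsion (maximalIdeal R) E) :=
    injective_powTorsion _ hf.isInjective
  obtain ⟨ρ, hρ⟩ := exists_retraction (powTorsion (maximalIdeal R) E).subtype
    (Submodule.injective_subtype _)
  have hc := isCompl_range_ker _ ρ hρ
  rw [Submodule.range_subtype] at hc
  have hle : LinearMap.range f ≤ powTorsion (maximalIdeal R) E := by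
    rintro _ ⟨c, rfl⟩
    rw [mem_powTorsion_iff]
    exact ⟨1, fun a ha => smul_hull_eq_zero f c (by simpa using ha)⟩
  have hker : LinearMap.ker ρ = ⊥ := by
    by_contra hne
    apply hf.essential _ hne
    rw [eq_bot_iff]
    intro x hx
    have : x ∈ powTorsion (maximalIdeal R) E ⊓ LinearMap.ker ρ := ⟨hle hx.2, hx.1⟩
    rwa [hc.inf_eq_bot] at this
  have := hc.sup_eq_top
  rwa [hker, sup_bot_eq] at this

theorem hull_isPowerTorsion [IsNoetherianRing R] (hf : IsInjectiveHull f) :
    LocCoh.IsPowerTorsion (maximalIdeal R) E := by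
  intro x
  have : x ∈ powTorsion (maximalIdeal R) E := by
    rw [powTorsion_hull_eq_top f hf]; trivial
  exact (mem_powTorsion_iff _ x).mp this

end PowTors

section Socle

variable {R : Type u} [CommRing R]

/-- In a power-torsion module the `I`-torsion is essential. -/
theorem exists_smul_mem_torsionBy {I : Ideal R} {M : Type v} [AddCommGroup M] [Module R M]
    (hM : LocCoh.IsPowerTorsion I M) {x : M} (hx : x ≠ 0) :
    ∃ a : R, a • x ≠ 0 ∧ a • x ∈ LocCoh.torsionBy I M := by
  classical
  have hex := hM x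
  let n := Nat.find hex
  have hn : ∀ a ∈ I ^ n, a • x = 0 := Nat.find_spec hex
  have hn0 : n ≠ 0 := by
    intro h0
    have := hn 1 (by rw [h0, pow_zero, Ideal.one_eq_top]; exact Submodule.mem_top (R := R) (M := R))
    rw [one_smul] at this
    exact hx this
  obtain ⟨m, hm⟩ := Nat.exists_eq_succ_of_ne_zero hn0
  have hmin : ¬ ∀ a ∈ I ^ m, a • x = 0 := Nat.find_min hex (by omega)
  push Not at hmin
  obtain ⟨a, ha, hax⟩ := hmin
  refine ⟨a, hax, ?_⟩
  rw [Submodule.mem_torsionBySet_iff]
  rintro ⟨b, hb⟩
  show b • a • x = 0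
  rw [← mul_smul]
  apply hn
  rw [hm, pow_succ']
  exact Ideal.mul_mem_mul hb ha

/-- A linear map out of a power-torsion module which is injective on the socle is injective. -/
theorem injective_of_injective_on_torsionBy {I : Ideal R} {M : Type v} [AddCommGroup M]
    [Module R M] (hM : LocCoh.IsPowerTorsion I M) {P : Type w} [AddCommGroup P] [Module R P]
    (g : M →ₗ[R] P) (hg : ∀ x ∈ LocCoh.torsionBy I M, g x = 0 → x = 0) :
    Function.Injective g := by
  rw [← LinearMap.ker_eq_bot, LinearMap.ker_eq_bot']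
  intro x hx
  by_contra hx0
  obtain ⟨a, hax, hmem⟩ := exists_smul_mem_torsionBy hM hx0
  exact hax (hg _ hmem (by rw [map_smul, hx, smul_zero]))

end Socle

section Embed

variable {R : Type u} [CommRing R] [IsLocalRing R] {E : Type u} [AddCommGroup E] [Module R E]
  (f : ResidueField R →ₗ[R] E)

/-- **S0310** -/
theorem exists_embedding_pi (hf : IsInjectiveHull f) (M : Type u) [AddCommGroup M] [Module R M]
    (hM : LocCoh.IsPowerTorsion (maximalIdeal R) M) (n : ℕ)
    [Module.Finite (R ⧸ maximalIdeal R) ↥(LocCoh.torsionBy (maximalIdeal R) M)]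
    (hn : Module.finrank (R ⧸ maximalIdeal R) ↥(LocCoh.torsionBy (maximalIdeal R) M) = n) :
    ∃ g : M →ₗ[R] (Fin n → E), Function.Injective g := by
  have hinj := hf.isInjective
  let _ : Field (R ⧸ maximalIdeal R) := Ideal.Quotient.field _
  let V := LocCoh.torsionBy (maximalIdeal R) M
  let b : Module.Basis (Fin n) (R ⧸ maximalIdeal R) V := Module.finBasisOfFinrankEq _ _ hn
  let h₀ : V →ₗ[R] (Fin n → E) :=
    LinearMap.pi (fun i => f ∘ₗ ((Finsupp.lapply i ∘ₗ b.repr.toLinearMap).restrictScalars R))
  have hh₀ : ∀ v : V, h₀ v = 0 → v = 0 := by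
    intro v hv
    apply b.repr.injective
    rw [map_zero]
    ext i
    have : f (b.repr v i) = 0 := congrFun hv i
    exact hf.injective (this.trans (map_zero f).symm)
  obtain ⟨g, hg⟩ := Module.Injective.extension_property R (Fin n → E) V M V.subtype
    V.injective_subtype h₀
  refine ⟨g, injective_of_injective_on_torsionBy hM g (fun x hx hgx => ?_)⟩
  have : h₀ ⟨x, hx⟩ = 0 := by
    rw [← hg]; exact hgx
  exact congrArg Subtype.val (hh₀ _ this)

end Embed

section DualHilbert

variable {R : Type u} [CommRing R] {M : Type v} [AddCommGroup M] [Module R M]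

/-- "Leading coefficient" submodules for the dual Hilbert basis theorem. -/
def lead (x : R) (N : Submodule R M) (i : ℕ) : Submodule R M :=
  (N ⊓ Submodule.torsionBy R M (x ^ (i + 1))).map (LinearMap.lsmul R M (x ^ i))

theorem mem_lead {x : R} {N : Submodule R M} {i : ℕ} {y : M} :
    y ∈ lead x N i ↔ ∃ n ∈ N, x ^ (i + 1) • n = 0 ∧ x ^ i • n = y := by
  simp only [lead, Submodule.mem_map, Submodule.mem_inf, Submodule.mem_torsionBy_iff,
    LinearMap.lsmul_apply, and_assoc]

theorem lead_le_torsionBy (x : R) (N : Submodule R M) (i : ℕ) :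
    lead x N i ≤ Submodule.torsionBy R M x := by
  intro y hy
  obtain ⟨n, -, h1, rfl⟩ := mem_lead.mp hy
  rw [Submodule.mem_torsionBy_iff, ← mul_smul, ← pow_succ']
  exact h1

theorem lead_succ_le (x : R) (N : Submodule R M) (i : ℕ) : lead x N (i + 1) ≤ lead x N i := by
  intro y hy
  obtain ⟨n, hn, h1, rfl⟩ := mem_lead.mp hy
  refine mem_lead.mpr ⟨x • n, N.smul_mem x hn, ?_, ?_⟩
  · rw [← mul_smul, ← pow_succ]; exact h1
  · rw [← mul_smul, ← pow_succ]

theorem lead_antitone (x : R) (N : Submodule R M) {i j : ℕ} (h : i ≤ j) :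
    lead x N j ≤ lead x N i := by
  induction h with
  | refl => exact le_rfl
  | step _ ih => exact (lead_succ_le x N _).trans ih

theorem lead_mono (x : R) {N N' : Submodule R M} (h : N ≤ N') (i : ℕ) :
    lead x N i ≤ lead x N' i :=
  Submodule.map_mono (inf_le_inf_right _ h)

theorem le_of_lead_le (x : R) (hM : ∀ m : M, ∃ j : ℕ, x ^ j • m = 0) {N N' : Submodule R M}
    (hle : N' ≤ N) (h : ∀ i, lead x N i ≤ lead x N' i) : N ≤ N' := by
  have key : ∀ j : ℕ, ∀ n ∈ N, x ^ j • n = 0 → n ∈ N' := by
    intro j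
    induction j with
    | zero =>
      intro n _ hn0
      rw [pow_zero, one_smul] at hn0
      rw [hn0]; exact N'.zero_mem
    | succ j ih =>
      intro n hn hn0
      have h1 : x ^ j • n ∈ lead x N j := mem_lead.mpr ⟨n, hn, hn0, rfl⟩
      obtain ⟨n', hn', -, h3⟩ := mem_lead.mp (h j h1)
      have h4 : n - n' ∈ N' :=
        ih (n - n') (N.sub_mem hn (hle hn')) (by rw [smul_sub, h3, sub_self])
      have : n = (n - n') + n' := by abel
      rw [this]
      exact N'.add_mem h4 hn'
  intro n hn
  obtain ⟨j, hj⟩ := hM n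
  exact key j n hn hj

/-- **Dual Hilbert basis theorem**: if `M` is `x`-power torsion and `M[x]` is Artinian, then
`M` is Artinian. -/
theorem isArtinian_of_torsionBy (x : R) (hM : ∀ m : M, ∃ j : ℕ, x ^ j • m = 0)
    [hT : IsArtinian R (Submodule.torsionBy R M x)] : IsArtinian R M := by
  rw [← monotone_stabilizes_iff_artinian]
  intro N
  -- antitone sequence of submodules
  have hN : ∀ a b, a ≤ b → OrderDual.ofDual (N b) ≤ OrderDual.ofDual (N a) := fun a b h => N.monotone h
  let T := Submodule.torsionBy R M x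
  -- leading submodules viewed inside `T`
  let L : ℕ → ℕ → Submodule R T := fun a i => (lead x (OrderDual.ofDual (N a)) i).comap T.subtype
  have hL_eq : ∀ a b i, L a i = L b i →
      lead x (OrderDual.ofDual (N a)) i = lead x (OrderDual.ofDual (N b)) i := by
    intro a b i h
    have h1 : ∀ c, (L c i).map T.subtype = lead x (OrderDual.ofDual (N c)) i := fun c => by
      rw [Submodule.map_comap_subtype]
      exact inf_eq_right.mpr (lead_le_torsionBy x _ i)
    rw [← h1 a, ← h1 b, h]
  have hL_mono_a : ∀ a b i, a ≤ b → L b i ≤ L a i := fun a b i h =>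
    Submodule.comap_mono (lead_mono x (hN a b h) i)
  have hL_mono_i : ∀ a i j, i ≤ j → L a j ≤ L a i := fun a i j h =>
    Submodule.comap_mono (lead_antitone x _ h)
  -- minimal element
  obtain ⟨L0, ⟨⟨a0, i0⟩, rfl⟩, hmin⟩ := IsArtinian.set_has_minimal
    (Set.range fun p : ℕ × ℕ => L p.1 p.2) ⟨L 0 0, ⟨(0, 0), rfl⟩⟩
  have hbig : ∀ a i, a0 ≤ a → i0 ≤ i → L a i = L a0 i0 := by
    intro a i ha hi
    have hle : L a i ≤ L a0 i0 := (hL_mono_i a i0 i hi).trans (hL_mono_a a0 a i0 ha)
    by_contra hne
    exact hmin (L a i) ⟨(a, i), rfl⟩ (lt_of_le_of_ne hle hne)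
  -- stabilization for each fixed `i`
  have hstab : ∀ i, ∃ a, ∀ b, a ≤ b → L a i = L b i := by
    intro i
    exact IsArtinian.monotone_stabilizes
      (⟨fun a => OrderDual.toDual (L a i), fun a b h => hL_mono_a a b i h⟩ : ℕ →o (Submodule R T)ᵒᵈ)
  choose s hs using hstab
  let A := max a0 ((Finset.range i0).sup s)
  refine ⟨A, fun b hb => ?_⟩
  have hAb : OrderDual.ofDual (N b) ≤ OrderDual.ofDual (N A) := hN A b hb
  have hfinal : OrderDual.ofDual (N A) ≤ OrderDual.ofDual (N b) := by
    apply le_of_lead_le x hM hAb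
    intro i
    apply le_of_eq
    apply hL_eq
    by_cases hi : i0 ≤ i
    · rw [hbig A i (le_max_left _ _) hi, hbig b i ((le_max_left _ _).trans hb) hi]
    · have hi' : i ∈ Finset.range i0 := Finset.mem_range.mpr (not_le.mp hi)
      have hsA : s i ≤ A := (Finset.le_sup hi').trans (le_max_right _ _)
      rw [← hs i A hsA, ← hs i b (hsA.trans hb)]
  exact le_antisymm hAb hfinal |> fun h => by
    apply OrderDual.ofDual.injective
    exact le_antisymm hfinal hAb

end DualHilbert

section ArtinianCrit

variable {R : Type u} [CommRing R]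

theorem isArtinian_of_torsionBySet_finset (s : Finset R) :
    ∀ (M : Type v) [AddCommGroup M] [Module R M],
      (∀ x ∈ s, ∀ m : M, ∃ j : ℕ, x ^ j • m = 0) →
      IsArtinian R (Submodule.torsionBySet R M (s : Set R)) → IsArtinian R M := by
  classical
  induction s using Finset.induction_on with
  | empty =>
    intro M _ _ _ hT
    have htop : Submodule.torsionBySet R M ((∅ : Finset R) : Set R) = ⊤ := by
      rw [eq_top_iff]
      intro m _
      rw [Submodule.mem_torsionBySet_iff]
      rintro ⟨a, ha⟩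
      simp at ha
    rw [htop] at hT
    exact isArtinian_of_linearEquiv (Submodule.topEquiv (R := R) (M := M))
  | insert x s hx ih =>
    intro M _ _ hM hT
    have hM' : IsArtinian R (Submodule.torsionBy R M x) := by
      apply ih (Submodule.torsionBy R M x)
      · intro y hy m
        obtain ⟨j, hj⟩ := hM y (Finset.mem_insert_of_mem hy) m.1
        exact ⟨j, Subtype.ext hj⟩
      · let g : Submodule.torsionBySet R (Submodule.torsionBy R M x) (s : Set R) →ₗ[R]
            Submodule.torsionBySet R M ((insert x s : Finset R) : Set R) :=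
          LinearMap.codRestrict _ ((Submodule.torsionBy R M x).subtype ∘ₗ
            (Submodule.torsionBySet R (Submodule.torsionBy R M x) (s : Set R)).subtype) (by
            intro m
            rw [Submodule.mem_torsionBySet_iff]
            rintro ⟨a, ha⟩
            rw [Finset.coe_insert, Set.mem_insert_iff] at ha
            rcases ha with rfl | ha
            · exact (Submodule.mem_torsionBy_iff _ _).mp m.1.2
            · have := (Submodule.mem_torsionBySet_iff _ _).mp m.2 ⟨a, ha⟩
              exact congrArg Subtype.val this)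
        have hg : Function.Injective g := by
          intro a b hab
          apply Subtype.ext
          apply Subtype.ext
          have := congrArg Subtype.val hab
          exact this
        exact isArtinian_of_injective g hg
    exact isArtinian_of_torsionBy x (hM x (Finset.mem_insert_self x s))

variable [IsLocalRing R]

/-- Power torsion with Artinian socle implies Artinian (`𝔪` finitely generated). -/
theorem isArtinian_of_powerTorsion (hfg : (maximalIdeal R).FG) (M : Type v) [AddCommGroup M]
    [Module R M] (hM : LocCoh.IsPowerTorsion (maximalIdeal R) M)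
    [hV : IsArtinian R (LocCoh.torsionBy (maximalIdeal R) M)] : IsArtinian R M := by
  obtain ⟨s, hs⟩ := hfg
  apply isArtinian_of_torsionBySet_finset s M
  · intro x hx m
    obtain ⟨n, hn⟩ := hM m
    refine ⟨n, hn _ (Ideal.pow_mem_pow ?_ n)⟩
    rw [← hs]; exact Ideal.subset_span hx
  · have : Submodule.torsionBySet R M (s : Set R) = LocCoh.torsionBy (maximalIdeal R) M := by
      rw [Submodule.torsionBySet_eq_torsionBySet_span, ← hs]
    rw [this]; exact hV

/-- A module finite over the residue field is Artinian over `R`. -/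
theorem isArtinian_of_finite_residueField (V : Type v) [AddCommGroup V] [Module R V]
    [Module (R ⧸ maximalIdeal R) V] [IsScalarTower R (R ⧸ maximalIdeal R) V]
    [Module.Finite (R ⧸ maximalIdeal R) V] : IsArtinian R V := by
  let _ : Field (R ⧸ maximalIdeal R) := Ideal.Quotient.field _
  have : IsArtinian (R ⧸ maximalIdeal R) V := inferInstance
  exact isArtinian_of_surjective_algebraMap (R := R ⧸ maximalIdeal R) (S := R)
    Ideal.Quotient.mk_surjective

/-- An Artinian module over a local ring with f.g. maximal ideal is power torsion. -/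
theorem isPowerTorsion_of_isArtinian [IsNoetherianRing R] (M : Type v) [AddCommGroup M]
    [Module R M] [IsArtinian R M] : LocCoh.IsPowerTorsion (maximalIdeal R) M := by
  intro x
  let F : ℕ →o (Submodule R M)ᵒᵈ :=
    ⟨fun n => OrderDual.toDual ((maximalIdeal R) ^ n • Submodule.span R {x}), fun a b h =>
      Submodule.smul_mono_left (Ideal.pow_le_pow_right h)⟩
  obtain ⟨n, hn⟩ := IsArtinian.monotone_stabilizes F
  have h1 : (maximalIdeal R) ^ n • Submodule.span R {x} =
      (maximalIdeal R) ^ (n + 1) • Submodule.span R {x} :=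
    congrArg OrderDual.ofDual (hn (n + 1) (Nat.le_succ n))
  have hfg : ((maximalIdeal R) ^ n • Submodule.span R {x}).FG :=
    Submodule.FG.smul (IsNoetherian.noetherian _) (Submodule.fg_span_singleton x)
  have h2 : (maximalIdeal R) ^ n • Submodule.span R {x} = ⊥ := by
    apply Submodule.eq_bot_of_le_smul_of_le_jacobson_bot (maximalIdeal R) _ hfg
    · conv_lhs => rw [h1, pow_succ', mul_smul]
    · exact maximalIdeal_le_jacobson ⊥
  refine ⟨n, fun a ha => ?_⟩
  have : a • x ∈ (maximalIdeal R) ^ n • Submodule.span R {x} :=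
    Submodule.smul_mem_smul ha (Submodule.mem_span_singleton_self x)
  rw [h2] at this
  exact this

/-- **S0315** -/
theorem isArtinian_iff [IsNoetherianRing R] (M : Type v) [AddCommGroup M] [Module R M] :
    IsArtinian R M ↔ (LocCoh.IsPowerTorsion (maximalIdeal R) M ∧
      Module.Finite (R ⧸ maximalIdeal R) ↥(LocCoh.torsionBy (maximalIdeal R) M)) := by
  constructor
  · intro hA
    refine ⟨isPowerTorsion_of_isArtinian M, ?_⟩
    let _ : Field (R ⧸ maximalIdeal R) := Ideal.Quotient.field _
    have h1 : IsArtinian R ↥(LocCoh.torsionBy (maximalIdeal R) M) := inferInstance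
    have h2 : IsArtinian (R ⧸ maximalIdeal R) ↥(LocCoh.torsionBy (maximalIdeal R) M) :=
      isArtinian_of_tower R h1
    exact (IsSemisimpleModule.finite_tfae.out 0 2).mpr h2
  · rintro ⟨h1, h2⟩
    have := isArtinian_of_finite_residueField (R := R) ↥(LocCoh.torsionBy (maximalIdeal R) M)
    exact isArtinian_of_powerTorsion (IsNoetherian.noetherian _) M h1

end ArtinianCrit

section HullArtinian

variable {R : Type u} [CommRing R] [IsLocalRing R] {E : Type u} [AddCommGroup E] [Module R E]
  (f : ResidueField R →ₗ[R] E)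

theorem torsionBy_hull_eq_range (hf : IsEssentialInj f) :
    LocCoh.torsionBy (maximalIdeal R) E = LinearMap.range f := by
  ext x
  rw [mem_range_hull_iff f hf, Submodule.mem_torsionBySet_iff]
  exact ⟨fun h a ha => h ⟨a, ha⟩, fun h a => h a.1 a.2⟩

theorem isArtinian_torsionBy_hull (hf : IsEssentialInj f) :
    IsArtinian R (LocCoh.torsionBy (maximalIdeal R) E) := by
  rw [torsionBy_hull_eq_range f hf]
  have : IsArtinian R (ResidueField R) :=
    isArtinian_of_finite_residueField (R := R) (R ⧸ maximalIdeal R)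
  exact isArtinian_of_linearEquiv (LinearEquiv.ofInjective f hf.injective)

/-- **S0314** -/
theorem isArtinian_hull [IsNoetherianRing R] (hf : IsInjectiveHull f) : IsArtinian R E := by
  have := isArtinian_torsionBy_hull f hf.toIsEssentialInj
  exact isArtinian_of_powerTorsion (IsNoetherian.noetherian _) E (hull_isPowerTorsion f hf)

end HullArtinian

section FinLenQuot

variable {R : Type u} [CommRing R] [IsLocalRing R] [IsNoetherianRing R]

theorem isFiniteLength_quotient_of_pow_le (I : Ideal R) (n : ℕ) (h : maximalIdeal R ^ n ≤ I) :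
    IsFiniteLength R (R ⧸ I) := by
  by_cases hI : I = ⊤
  · have : Subsingleton (R ⧸ I) := Submodule.Quotient.subsingleton_iff.mpr hI
    exact IsFiniteLength.of_subsingleton
  have : Nontrivial (R ⧸ I) := Ideal.Quotient.nontrivial_iff.mpr hI
  have := IsLocalRing.of_surjective' (Ideal.Quotient.mk I) Ideal.Quotient.mk_surjective
  have := IsLocalHom.of_surjective (Ideal.Quotient.mk I) Ideal.Quotient.mk_surjective
  have hmax : (maximalIdeal R).map (Ideal.Quotient.mk I) = maximalIdeal (R ⧸ I) := by
    ext x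
    obtain ⟨x, rfl⟩ := Ideal.Quotient.mk_surjective x
    simp [sup_eq_left.mpr (le_maximalIdeal hI)]
  have hnil : IsNilpotent (maximalIdeal (R ⧸ I)) := by
    refine ⟨n, ?_⟩
    rw [← hmax, ← Ideal.map_pow, Ideal.zero_eq_bot, Ideal.map_eq_bot_iff_le_ker, Ideal.mk_ker]
    exact h
  have hart : IsArtinianRing (R ⧸ I) :=
    (isArtinianRing_iff_isNilpotent_maximalIdeal (R ⧸ I)).mpr hnil
  rw [isFiniteLength_iff_isNoetherian_isArtinian]
  exact ⟨isNoetherian_quotient I,
    isArtinian_of_surjective_algebraMap (Ideal.Quotient.mk_surjective (I := I))⟩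

end FinLenQuot

section EndHull

variable {R : Type u} [CommRing R] [IsLocalRing R] {E : Type u} [AddCommGroup E] [Module R E]

/-- The action of `R ⧸ 𝔪ⁿ` on an element killed by `𝔪ⁿ`. -/
def actQ (n : ℕ) (e : E) (he : ∀ a ∈ maximalIdeal R ^ n, a • e = 0) :
    (R ⧸ (maximalIdeal R ^ n • ⊤ : Submodule R R)) →ₗ[R] E :=
  Submodule.liftQ _ (LinearMap.toSpanSingleton R E e) (by
    intro a ha
    rw [smul_eq_mul, Ideal.mul_top] at ha
    rw [LinearMap.mem_ker, LinearMap.toSpanSingleton_apply]
    exact he a ha)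

theorem actQ_mk (n : ℕ) (e : E) (he : ∀ a ∈ maximalIdeal R ^ n, a • e = 0) (r : R) :
    actQ n e he (Submodule.Quotient.mk r) = r • e := rfl

theorem mk_eq_zero_of_mem_pow {n : ℕ} {a : R} (ha : a ∈ maximalIdeal R ^ n) :
    (Submodule.Quotient.mk a : R ⧸ (maximalIdeal R ^ n • ⊤ : Submodule R R)) = 0 := by
  rw [Submodule.Quotient.mk_eq_zero, smul_eq_mul, Ideal.mul_top]
  exact ha

variable [IsNoetherianRing R] (f : ResidueField R →ₗ[R] E)

omit [IsNoetherianRing R] in
/-- (K1) an element of `R ⧸ 𝔪ⁿ` acting trivially on `E[𝔪ⁿ]` is zero. -/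
theorem eq_zero_of_forall_smul_eq_zero (hf : IsInjectiveHull f) (n : ℕ) (r : R)
    (h : ∀ e : E, (∀ a ∈ maximalIdeal R ^ n, a • e = 0) → r • e = 0) :
    (Submodule.Quotient.mk r : R ⧸ (maximalIdeal R ^ n • ⊤ : Submodule R R)) = 0 := by
  apply applyₗ_injective f hf (R ⧸ (maximalIdeal R ^ n • ⊤ : Submodule R R))
  rw [map_zero]
  ext ψ
  show ψ (Submodule.Quotient.mk r) = 0
  have h0 : ∀ a : R, (Submodule.Quotient.mk a : R ⧸ (maximalIdeal R ^ n • ⊤ : Submodule R R)) =
      a • Submodule.Quotient.mk 1 := by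
    intro a
    rw [← Submodule.Quotient.mk_smul]
    exact congrArg _ (by simp)
  rw [h0 r, map_smul]
  apply h
  intro a ha
  rw [← map_smul, ← h0 a, mk_eq_zero_of_mem_pow ha, map_zero]

/-- (K2) every endomorphism of `E` acts on `E[𝔪ⁿ]` as a scalar. -/
theorem exists_smul_eq_on_torsion (hf : IsInjectiveHull f) (n : ℕ) (φ : E →ₗ[R] E) :
    ∃ r : R, ∀ e : E, (∀ a ∈ maximalIdeal R ^ n, a • e = 0) → φ e = r • e := by
  let Q := R ⧸ (maximalIdeal R ^ n • ⊤ : Submodule R R)
  have hQ : IsFiniteLength R Q :=
    isFiniteLength_quotient_of_pow_le _ n (by rw [smul_eq_mul, Ideal.mul_top])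
  let Ξ : (Q →ₗ[R] E) →ₗ[R] E := φ ∘ₗ LinearMap.applyₗ (Submodule.Quotient.mk 1 : Q)
  obtain ⟨c, hc⟩ := (applyₗ_bijective_of_isFiniteLength f hf Q hQ).2 Ξ
  obtain ⟨r, rfl⟩ := Submodule.Quotient.mk_surjective _ c
  refine ⟨r, fun e he => ?_⟩
  have := LinearMap.congr_fun hc (actQ n e he)
  simp only [LinearMap.applyₗ_apply_apply, Ξ, LinearMap.comp_apply] at this
  rw [actQ_mk, actQ_mk, one_smul] at this
  exact this.symm

end EndHull

section ComplAct

variable {R : Type u} [CommRing R] [IsLocalRing R] {E : Type u} [AddCommGroup E] [Module R E]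
  (hE : LocCoh.IsPowerTorsion (maximalIdeal R) E)

/-- The exponent killing `e`. -/
noncomputable def expOf (e : E) : ℕ := Classical.choose (hE e)

theorem expOf_spec (e : E) : ∀ a ∈ maximalIdeal R ^ expOf hE e, a • e = 0 :=
  Classical.choose_spec (hE e)

/-- The action of the completion on a power torsion module (as a function). -/
noncomputable def complActFun (x : AdicCompletion (maximalIdeal R) R) (e : E) : E :=
  actQ (expOf hE e) e (expOf_spec hE e) (x.val (expOf hE e))

theorem val_eq_mk_of_le (x : AdicCompletion (maximalIdeal R) R) {m n : ℕ} (hmn : m ≤ n) (s : R)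
    (hs : Submodule.Quotient.mk s = x.val n) : Submodule.Quotient.mk s = x.val m := by
  rw [← x.property hmn, ← hs]
  rfl

theorem complActFun_eq (x : AdicCompletion (maximalIdeal R) R) (e : E) (n : ℕ)
    (he : ∀ a ∈ maximalIdeal R ^ n, a • e = 0) (r : R)
    (hr : Submodule.Quotient.mk r = x.val n) : complActFun hE x e = r • e := by
  let m := expOf hE e
  obtain ⟨s, hs⟩ := Submodule.Quotient.mk_surjective _ (x.val (max m n))
  have hsm := val_eq_mk_of_le x (le_max_left m n) s hs
  have hsn := val_eq_mk_of_le x (le_max_right m n) s hs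
  have h1 : complActFun hE x e = s • e := by
    show actQ m e (expOf_spec hE e) (x.val m) = s • e
    rw [← hsm, actQ_mk]
  rw [h1]
  have h2 : (Submodule.Quotient.mk (s - r) :
      R ⧸ (maximalIdeal R ^ n • ⊤ : Submodule R R)) = 0 := by
    rw [Submodule.Quotient.mk_sub, hsn, hr, sub_self]
  rw [Submodule.Quotient.mk_eq_zero, smul_eq_mul, Ideal.mul_top] at h2
  have h3 := he _ h2
  rw [sub_smul, sub_eq_zero] at h3
  exact h3

include hE in
theorem exists_common (x : AdicCompletion (maximalIdeal R) R) (e₁ e₂ : E) :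
    ∃ (n : ℕ) (r : R), Submodule.Quotient.mk r = x.val n ∧
      (∀ a ∈ maximalIdeal R ^ n, a • e₁ = 0) ∧ (∀ a ∈ maximalIdeal R ^ n, a • e₂ = 0) := by
  obtain ⟨r, hr⟩ := Submodule.Quotient.mk_surjective _ (x.val (max (expOf hE e₁) (expOf hE e₂)))
  exact ⟨_, r, hr,
    fun a ha => expOf_spec hE e₁ a (Ideal.pow_le_pow_right (le_max_left _ _) ha),
    fun a ha => expOf_spec hE e₂ a (Ideal.pow_le_pow_right (le_max_right _ _) ha)⟩

/-- The action of the completion on a power torsion module, as an endomorphism. -/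
noncomputable def complAct (x : AdicCompletion (maximalIdeal R) R) : E →ₗ[R] E where
  toFun := complActFun hE x
  map_add' e₁ e₂ := by
    obtain ⟨n, r, hr, h1, h2⟩ := exists_common hE x e₁ e₂
    rw [complActFun_eq hE x e₁ n h1 r hr, complActFun_eq hE x e₂ n h2 r hr,
      complActFun_eq hE x (e₁ + e₂) n (fun a ha => by rw [smul_add, h1 a ha, h2 a ha, add_zero])
        r hr, smul_add]
  map_smul' c e := by
    obtain ⟨n, r, hr, h1, -⟩ := exists_common hE x e e
    rw [complActFun_eq hE x e n h1 r hr,
      complActFun_eq hE x (c • e) n (fun a ha => by rw [smul_comm, h1 a ha, smul_zero]) r hr,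
      RingHom.id_apply, smul_comm]

theorem complAct_apply (x : AdicCompletion (maximalIdeal R) R) (e : E) (n : ℕ)
    (he : ∀ a ∈ maximalIdeal R ^ n, a • e = 0) (r : R)
    (hr : Submodule.Quotient.mk r = x.val n) : complAct hE x e = r • e :=
  complActFun_eq hE x e n he r hr

/-- The algebra homomorphism `R̂ → End(E)`. -/
noncomputable def complActAlgHom :
    AdicCompletion (maximalIdeal R) R →ₐ[R] Module.End R E where
  toFun := complAct hE
  map_one' := by
    ext e
    rw [complAct_apply hE 1 e _ (expOf_spec hE e) 1 rfl, one_smul]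
    rfl
  map_mul' x y := by
    ext e
    obtain ⟨n, r, hr, h1, -⟩ := exists_common hE x e e
    obtain ⟨s, hs⟩ := Submodule.Quotient.mk_surjective _ (y.val n)
    have hrs : Submodule.Quotient.mk (r * s) = (x * y).val n := by
      rw [AdicCompletion.val_mul, ← hr, ← hs]; rfl
    rw [complAct_apply hE (x * y) e n h1 (r * s) hrs, Module.End.mul_apply,
      complAct_apply hE y e n h1 s hs,
      complAct_apply hE x (s • e) n (fun a ha => by rw [smul_comm, h1 a ha, smul_zero]) r hr,
      mul_smul]
  map_zero' := by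
    ext e
    rw [complAct_apply hE 0 e _ (expOf_spec hE e) 0 rfl, zero_smul]
    rfl
  map_add' x y := by
    ext e
    obtain ⟨n, r, hr, h1, -⟩ := exists_common hE x e e
    obtain ⟨s, hs⟩ := Submodule.Quotient.mk_surjective _ (y.val n)
    have hrs : Submodule.Quotient.mk (r + s) = (x + y).val n := by
      rw [AdicCompletion.val_add_apply, ← hr, ← hs]; rfl
    rw [complAct_apply hE (x + y) e n h1 (r + s) hrs, LinearMap.add_apply,
      complAct_apply hE y e n h1 s hs, complAct_apply hE x e n h1 r hr, add_smul]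
  commutes' c := by
    ext e
    have hc : Submodule.Quotient.mk c =
        (algebraMap R (AdicCompletion (maximalIdeal R) R) c).val (expOf hE e) := rfl
    rw [complAct_apply hE _ e _ (expOf_spec hE e) c hc]
    rfl

end ComplAct

section EndIso

variable {R : Type u} [CommRing R] [IsLocalRing R] [IsNoetherianRing R] {E : Type u}
  [AddCommGroup E] [Module R E] (f : ResidueField R →ₗ[R] E)

theorem complActAlgHom_bijective (hf : IsInjectiveHull f) :
    Function.Bijective (complActAlgHom (hull_isPowerTorsion f hf)) := by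
  have hE := hull_isPowerTorsion f hf
  constructor
  · rw [injective_iff_map_eq_zero]
    intro x hx
    apply AdicCompletion.ext
    intro n
    obtain ⟨r, hr⟩ := Submodule.Quotient.mk_surjective _ (x.val n)
    rw [AdicCompletion.val_zero_apply, ← hr]
    apply eq_zero_of_forall_smul_eq_zero f hf n r
    intro e he
    have h1 : complAct hE x e = r • e := complAct_apply hE x e n he r hr
    have h2 : complAct hE x = 0 := hx
    rw [← h1, h2, LinearMap.zero_apply]
  · intro φ
    choose r hr using fun n => exists_smul_eq_on_torsion f hf n φ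
    let x : AdicCompletion (maximalIdeal R) R :=
      ⟨fun n => Submodule.Quotient.mk (r n), by
        intro m n hmn
        show Submodule.Quotient.mk (r n) = Submodule.Quotient.mk (r m)
        rw [← sub_eq_zero, ← Submodule.Quotient.mk_sub]
        apply eq_zero_of_forall_smul_eq_zero f hf m
        intro e he
        rw [sub_smul, ← hr m e he,
          ← hr n e (fun a ha => he a (Ideal.pow_le_pow_right hmn ha)), sub_self]⟩
    refine ⟨x, ?_⟩
    ext e
    show complAct hE x e = φ e
    rw [complAct_apply hE x e _ (expOf_spec hE e) (r _) rfl, hr _ e (expOf_spec hE e)]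

/-- **S0313**: `End(E(k)) ≅ R̂`. -/
theorem nonempty_end_algEquiv_adicCompletion (hf : IsInjectiveHull f) :
    Nonempty (Module.End R E ≃ₐ[R] AdicCompletion (maximalIdeal R) R) :=
  ⟨(AlgEquiv.ofBijective _ (complActAlgHom_bijective f hf)).symm⟩

end EndIso

section Complete

variable {R : Type u} [CommRing R] [IsLocalRing R] [IsNoetherianRing R]
  [IsAdicComplete (maximalIdeal R) R] {E : Type u}
  [AddCommGroup E] [Module R E] (f : ResidueField R →ₗ[R] E)

/-- Over a complete local ring every endomorphism of `E(k)` is a scalar. -/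
theorem exists_end_eq_smul (hf : IsInjectiveHull f) (φ : E →ₗ[R] E) :
    ∃ c : R, ∀ e : E, φ e = c • e := by
  have hE := hull_isPowerTorsion f hf
  obtain ⟨x, hx⟩ := (complActAlgHom_bijective f hf).2 φ
  obtain ⟨c, rfl⟩ := AdicCompletion.of_surjective (maximalIdeal R) R x
  refine ⟨c, fun e => ?_⟩
  rw [← hx]
  exact complAct_apply hE _ e _ (expOf_spec hE e) c rfl

end Complete

section EvSurj

variable {R : Type u} [CommRing R] {E : Type u} [AddCommGroup E] [Module R E]

/-- Surjectivity of the evaluation map into the double dual. -/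
def EvSurj (R : Type u) [CommRing R] (E : Type u) [AddCommGroup E] [Module R E]
    (M : Type u) [AddCommGroup M] [Module R M] : Prop :=
  Function.Surjective (LinearMap.applyₗ : M →ₗ[R] (M →ₗ[R] E) →ₗ[R] E)

theorem evSurj_iff {M : Type u} [AddCommGroup M] [Module R M] :
    EvSurj R E M ↔ ∀ ξ : (M →ₗ[R] E) →ₗ[R] E, ∃ m : M, ∀ ψ : M →ₗ[R] E, ξ ψ = ψ m := by
  constructor
  · intro h ξ
    obtain ⟨m, hm⟩ := h ξ
    exact ⟨m, fun ψ => by rw [← hm]; rfl⟩
  · intro h ξ
    obtain ⟨m, hm⟩ := h ξ
    exact ⟨m, by ext ψ; exact (hm ψ).symm⟩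

theorem evSurj_of_subsingleton {M : Type u} [AddCommGroup M] [Module R M] [Subsingleton M] :
    EvSurj R E M := by
  rw [evSurj_iff]
  intro ξ
  refine ⟨0, fun ψ => ?_⟩
  have : ψ = 0 := Subsingleton.elim _ _
  rw [this, map_zero, LinearMap.zero_apply]

theorem evSurj_of_surjective [Module.Injective R E] {P M : Type u} [AddCommGroup P] [Module R P]
    [AddCommGroup M] [Module R M] (π : P →ₗ[R] M) (hπ : Function.Surjective π)
    (hP : EvSurj R E P) : EvSurj R E M := by
  rw [evSurj_iff] at hP ⊢
  intro ξ
  have hinj : Function.Injective (LinearMap.lcomp R E π) := by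
    intro a b hab
    ext m
    obtain ⟨p, rfl⟩ := hπ m
    exact LinearMap.congr_fun hab p
  obtain ⟨ξ', hξ'⟩ := Module.Injective.extension_property R E _ _ (LinearMap.lcomp R E π) hinj ξ
  obtain ⟨p, hp⟩ := hP ξ'
  refine ⟨π p, fun ψ => ?_⟩
  rw [← hξ', LinearMap.comp_apply, hp]
  rfl

theorem evSurj_prod {P₁ P₂ : Type u} [AddCommGroup P₁] [Module R P₁]
    [AddCommGroup P₂] [Module R P₂] (h₁ : EvSurj R E P₁) (h₂ : EvSurj R E P₂) :
    EvSurj R E (P₁ × P₂) := by
  rw [evSurj_iff] at h₁ h₂ ⊢
  intro ξ
  obtain ⟨p₁, hp₁⟩ := h₁ (ξ ∘ₗ LinearMap.lcomp R E (LinearMap.fst R P₁ P₂))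
  obtain ⟨p₂, hp₂⟩ := h₂ (ξ ∘ₗ LinearMap.lcomp R E (LinearMap.snd R P₁ P₂))
  refine ⟨(p₁, p₂), fun ψ => ?_⟩
  have hψ : ψ = (ψ ∘ₗ LinearMap.inl R P₁ P₂) ∘ₗ LinearMap.fst R P₁ P₂ +
      (ψ ∘ₗ LinearMap.inr R P₁ P₂) ∘ₗ LinearMap.snd R P₁ P₂ := by
    apply LinearMap.ext
    rintro ⟨a, b⟩
    simp only [LinearMap.add_apply, LinearMap.comp_apply, LinearMap.fst_apply,
      LinearMap.snd_apply, LinearMap.inl_apply, LinearMap.inr_apply, ← map_add, Prod.mk_add_mk,
      add_zero, zero_add]
  have h1 := hp₁ (ψ ∘ₗ LinearMap.inl R P₁ P₂)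
  have h2 := hp₂ (ψ ∘ₗ LinearMap.inr R P₁ P₂)
  simp only [LinearMap.comp_apply, LinearMap.lcomp_apply'] at h1 h2
  conv_lhs => rw [hψ, map_add, h1, h2]
  simp only [LinearMap.inl_apply, LinearMap.inr_apply, ← map_add, Prod.mk_add_mk, add_zero,
    zero_add]

theorem evSurj_pi_fin {P : Type u} [AddCommGroup P] [Module R P] (hP : EvSurj R E P) (n : ℕ)
    [Module.Injective R E] : EvSurj R E (Fin n → P) := by
  induction n with
  | zero => exact evSurj_of_subsingleton
  | succ n ih =>
    exact evSurj_of_surjective (Fin.consLinearEquiv R (fun _ : Fin (n + 1) => P)).toLinearMap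
      (LinearEquiv.surjective _) (evSurj_prod hP ih)

end EvSurj

section Duality

variable {R : Type u} [CommRing R] [IsLocalRing R] [IsNoetherianRing R]
  [IsAdicComplete (maximalIdeal R) R] {E : Type u}
  [AddCommGroup E] [Module R E] (f : ResidueField R →ₗ[R] E)

theorem evSurj_self (hf : IsInjectiveHull f) : EvSurj R E R := by
  rw [evSurj_iff]
  intro ξ
  let φ : E →ₗ[R] E := ξ ∘ₗ (LinearMap.lsmul R E).flip
  obtain ⟨c, hc⟩ := exists_end_eq_smul f hf φ
  refine ⟨c, fun ψ => ?_⟩
  have h1 : ψ = (LinearMap.lsmul R E).flip (ψ 1) := by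
    ext
    simp
  have h2 : ξ ψ = φ (ψ 1) := by
    conv_lhs => rw [h1]
    rfl
  rw [h2, hc, ← map_smul, smul_eq_mul, mul_one]

theorem evSurj_hull (hf : IsInjectiveHull f) : EvSurj R E E := by
  rw [evSurj_iff]
  intro ξ
  refine ⟨ξ LinearMap.id, fun ψ => ?_⟩
  obtain ⟨c, hc⟩ := exists_end_eq_smul f hf ψ
  have : ψ = c • LinearMap.id := by
    ext e; rw [hc]; rfl
  rw [this, map_smul, LinearMap.smul_apply, LinearMap.id_apply]

/-- **S0316** -/
theorem duality_finite (hf : IsInjectiveHull f) (M : Type u) [AddCommGroup M] [Module R M]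
    [Module.Finite R M] : IsArtinian R (M →ₗ[R] E) ∧
      Function.Bijective (LinearMap.applyₗ : M →ₗ[R] (M →ₗ[R] E) →ₗ[R] E) := by
  have hinj := hf.isInjective
  obtain ⟨n, s, hs⟩ := Module.Finite.exists_fin (R := R) (M := M)
  refine ⟨?_, applyₗ_injective f hf M, ?_⟩
  · have hA : IsArtinian R E := isArtinian_hull f hf
    let D : (M →ₗ[R] E) →ₗ[R] (Fin n → E) := LinearMap.pi (fun i => LinearMap.applyₗ (s i))
    have hD : Function.Injective D := by
      intro a b hab
      apply LinearMap.ext_on_range hs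
      intro i
      exact congrFun hab i
    exact isArtinian_of_injective D hD
  · let π : (Fin n → R) →ₗ[R] M := Fintype.linearCombination R s
    have hπ : Function.Surjective π := by
      rw [← LinearMap.range_eq_top, Fintype.range_linearCombination, hs]
    exact evSurj_of_surjective π hπ (evSurj_pi_fin (evSurj_self f hf) n)

omit [IsNoetherianRing R] [IsAdicComplete (maximalIdeal R) R] in
/-- Sub-closure of `EvSurj` (uses that `E` is an injective cogenerator). -/
theorem evSurj_of_injective (hf : IsInjectiveHull f) {M P : Type u} [AddCommGroup M] [Module R M]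
    [AddCommGroup P] [Module R P] (g : M →ₗ[R] P) (hg : Function.Injective g)
    (hP : EvSurj R E P) : EvSurj R E M := by
  have hinj := hf.isInjective
  rw [evSurj_iff] at hP ⊢
  intro ξ
  obtain ⟨p, hp⟩ := hP (ξ ∘ₗ LinearMap.lcomp R E g)
  have hpmem : p ∈ LinearMap.range g := by
    by_contra hnot
    have hne : (LinearMap.range g).mkQ p ≠ 0 := by
      rw [Ne, Submodule.mkQ_apply, Submodule.Quotient.mk_eq_zero]; exact hnot
    obtain ⟨χ, hχ⟩ := exists_dual_ne_zero f hf hne
    have h1 := hp (χ ∘ₗ (LinearMap.range g).mkQ)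
    have h2 : (χ ∘ₗ (LinearMap.range g).mkQ) ∘ₗ g = 0 := by
      ext m
      simp only [LinearMap.comp_apply, LinearMap.zero_apply, Submodule.mkQ_apply]
      rw [(Submodule.Quotient.mk_eq_zero (LinearMap.range g)).mpr (LinearMap.mem_range_self g m),
        map_zero]
    rw [LinearMap.comp_apply, LinearMap.lcomp_apply', h2, map_zero] at h1
    exact hχ h1.symm
  obtain ⟨m, rfl⟩ := hpmem
  refine ⟨m, fun θ => ?_⟩
  obtain ⟨ψ, hψ⟩ := Module.Injective.extension_property R E M P g hg θ
  have := hp ψ
  rw [LinearMap.comp_apply, LinearMap.lcomp_apply', hψ] at this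
  rw [this, ← hψ]
  rfl

/-- **S0317** -/
theorem duality_artinian (hf : IsInjectiveHull f) (M : Type u) [AddCommGroup M] [Module R M]
    [IsArtinian R M] : Module.Finite R (M →ₗ[R] E) ∧
      Function.Bijective (LinearMap.applyₗ : M →ₗ[R] (M →ₗ[R] E) →ₗ[R] E) := by
  have hinj := hf.isInjective
  obtain ⟨hpt, hfin⟩ := (isArtinian_iff (R := R) M).mp inferInstance
  obtain ⟨n, hn⟩ : ∃ n, Module.finrank (R ⧸ maximalIdeal R)
      ↥(LocCoh.torsionBy (maximalIdeal R) M) = n := ⟨_, rfl⟩
  obtain ⟨g, hg⟩ := exists_embedding_pi f hf M hpt n hn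
  refine ⟨?_, applyₗ_injective f hf M, evSurj_of_injective f hf g hg
    (evSurj_pi_fin (evSurj_hull f hf) n)⟩
  -- finiteness
  let Λ : (Fin n → R) →ₗ[R] (M →ₗ[R] E) :=
    Fintype.linearCombination R (fun i => (LinearMap.proj i : (Fin n → E) →ₗ[R] E) ∘ₗ g)
  have hΛ : Function.Surjective Λ := by
    intro ψ
    obtain ⟨ξ, hξ⟩ := Module.Injective.extension_property R E M (Fin n → E) g hg ψ
    choose c hc using fun i => exists_end_eq_smul f hf (ξ ∘ₗ LinearMap.single R (fun _ => E) i)
    refine ⟨c, ?_⟩
    ext m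
    rw [← hξ, LinearMap.comp_apply]
    have h1 : g m = ∑ i, LinearMap.single R (fun _ => E) i (g m i) := by
      ext j
      simp [Finset.sum_apply, Pi.single_apply]
    conv_rhs => rw [h1, map_sum]
    simp only [Λ, Fintype.linearCombination_apply, LinearMap.sum_apply, LinearMap.smul_apply,
      LinearMap.comp_apply, LinearMap.proj_apply]
    refine Finset.sum_congr rfl (fun i _ => ?_)
    exact (hc i (g m i)).symm
  exact Module.Finite.of_surjective Λ hΛ

end Duality

section InjCrit

variable {B : Type u} [CommRing B] [IsLocalRing B] [IsNoetherianRing B]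

/-- Over a Noetherian local ring, a power torsion module satisfying Baer's criterion for the
maximal ideal is injective. -/
theorem injective_of_powerTorsion_of_baer {N : Type u} [AddCommGroup N] [Module B N]
    (hN : LocCoh.IsPowerTorsion (maximalIdeal B) N)
    (hbaer : ∀ g : maximalIdeal B →ₗ[B] N, ∃ y : N, ∀ x : maximalIdeal B, g x = (x : B) • y) :
    Module.Injective B N := by
  obtain ⟨E', _, _, i, hi⟩ := exists_injectiveHull (R := B) N
  have hinj := hi.isInjective
  -- E' is power torsion
  have hE' : powTorsion (maximalIdeal B) E' = ⊤ := by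
    have hΓ : Module.Injective B (powTorsion (maximalIdeal B) E') :=
      injective_powTorsion _ hinj
    obtain ⟨ρ, hρ⟩ := exists_retraction (powTorsion (maximalIdeal B) E').subtype
      (Submodule.injective_subtype _)
    have hc := isCompl_range_ker _ ρ hρ
    rw [Submodule.range_subtype] at hc
    have hle : LinearMap.range i ≤ powTorsion (maximalIdeal B) E' := by
      rintro _ ⟨n, rfl⟩
      rw [mem_powTorsion_iff]
      obtain ⟨k, hk⟩ := hN n
      exact ⟨k, fun a ha => by rw [← map_smul, hk a ha, map_zero]⟩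
    have hker : LinearMap.ker ρ = ⊥ := by
      by_contra hne
      apply hi.essential _ hne
      rw [eq_bot_iff]
      intro x hx
      have : x ∈ powTorsion (maximalIdeal B) E' ⊓ LinearMap.ker ρ := ⟨hle hx.2, hx.1⟩
      rwa [hc.inf_eq_bot] at this
    have := hc.sup_eq_top
    rwa [hker, sup_bot_eq] at this
  have hE'pt : LocCoh.IsPowerTorsion (maximalIdeal B) E' := by
    intro x
    have : x ∈ powTorsion (maximalIdeal B) E' := by rw [hE']; trivial
    exact (mem_powTorsion_iff _ x).mp this
  -- `i` is surjective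
  have hsurj : Function.Surjective i := by
    rw [← LinearMap.range_eq_top]
    by_contra hne
    have hCpt : LocCoh.IsPowerTorsion (maximalIdeal B) (E' ⧸ LinearMap.range i) := by
      intro c
      obtain ⟨x, rfl⟩ := Submodule.Quotient.mk_surjective _ c
      obtain ⟨k, hk⟩ := hE'pt x
      exact ⟨k, fun a ha => by rw [← Submodule.Quotient.mk_smul, hk a ha]; rfl⟩
    have hCnt : Nontrivial (E' ⧸ LinearMap.range i) := Submodule.Quotient.nontrivial_iff.mpr hne
    obtain ⟨c, hc0⟩ := exists_ne (0 : E' ⧸ LinearMap.range i)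
    obtain ⟨a₀, hac, hmem⟩ := exists_smul_mem_torsionBy hCpt hc0
    obtain ⟨x, hx⟩ := Submodule.Quotient.mk_surjective _ (a₀ • c)
    have hxnot : x ∉ LinearMap.range i := by
      intro h
      rw [← Submodule.Quotient.mk_eq_zero, hx] at h
      exact hac h
    have hmx : ∀ a ∈ maximalIdeal B, a • x ∈ LinearMap.range i := by
      intro a ha
      rw [← Submodule.Quotient.mk_eq_zero, Submodule.Quotient.mk_smul, hx]
      exact (Submodule.mem_torsionBySet_iff _ _).mp hmem ⟨a, ha⟩
    let h : maximalIdeal B →ₗ[B] LinearMap.range i :=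
      ((LinearMap.toSpanSingleton B E' x) ∘ₗ (maximalIdeal B).subtype).codRestrict _
        (fun a => by
          rw [LinearMap.comp_apply, LinearMap.toSpanSingleton_apply]
          exact hmx a.1 a.2)
    let g : maximalIdeal B →ₗ[B] N := (LinearEquiv.ofInjective i hi.injective).symm.toLinearMap ∘ₗ h
    obtain ⟨y, hy⟩ := hbaer g
    have hgi : ∀ a : maximalIdeal B, i (g a) = (a : B) • x := by
      intro a
      have : (LinearEquiv.ofInjective i hi.injective) (g a) = h a := by
        simp only [g, LinearMap.comp_apply, LinearEquiv.coe_coe, LinearEquiv.apply_symm_apply]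
      have h2 := congrArg Subtype.val this
      rw [LinearEquiv.ofInjective_apply] at h2
      exact h2
    have hz : ∀ a ∈ maximalIdeal B, a • (x - i y) = 0 := by
      intro a ha
      rw [smul_sub, ← hgi ⟨a, ha⟩, hy ⟨a, ha⟩, map_smul, sub_self]
    by_cases hz0 : x - i y = 0
    · exact hxnot ⟨y, (sub_eq_zero.mp hz0).symm⟩
    · obtain ⟨b, n, hb0, hn⟩ := essInj_exists_smul_mem hi.toIsEssentialInj hz0
      have hb : IsUnit b := by
        by_contra hb
        exact hb0 (hz b ((mem_maximalIdeal b).mpr hb))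
      obtain ⟨ub, rfl⟩ := hb
      have hz' : x - i y ∈ LinearMap.range i := by
        have : x - i y = (↑ub⁻¹ : B) • i n := by
          rw [hn, ← mul_smul, Units.inv_mul, one_smul]
        rw [this]
        exact Submodule.smul_mem _ _ ⟨n, rfl⟩
      have : x = (x - i y) + i y := by abel
      exact hxnot (this ▸ Submodule.add_mem _ hz' ⟨y, rfl⟩)
  exact injective_of_linearEquiv (LinearEquiv.ofBijective i ⟨hi.injective, hsurj⟩).symm hinj

end InjCrit

section BaseChange

variable {A : Type u} [CommRing A] {B : Type u} [CommRing B] [Algebra A B]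
  {E : Type u} [AddCommGroup E] [Module A E]

/-- An element of `I B` kills `b ⊗ e` if `I` kills `e`. -/
theorem map_smul_tmul_eq_zero (I : Ideal A) (e : E) (he : ∀ a ∈ I, a • e = 0) (b : B) {c : B}
    (hc : c ∈ I.map (algebraMap A B)) : c • (b ⊗ₜ[A] e) = 0 := by
  let J : Ideal B := LinearMap.ker (LinearMap.toSpanSingleton B (B ⊗[A] E) (b ⊗ₜ[A] e))
  have hle : I.map (algebraMap A B) ≤ J := by
    rw [Ideal.map_le_iff_le_comap]
    intro a ha
    show algebraMap A B a • (b ⊗ₜ[A] e) = 0
    rw [TensorProduct.smul_tmul', smul_eq_mul, ← Algebra.smul_def, TensorProduct.smul_tmul,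
      he a ha, tmul_zero]
  exact hle hc

variable [IsLocalRing A] [IsLocalRing B]
  (hm : (maximalIdeal A).map (algebraMap A B) = maximalIdeal B)

include hm in
theorem isPowerTorsion_baseChange (hE : LocCoh.IsPowerTorsion (maximalIdeal A) E) :
    LocCoh.IsPowerTorsion (maximalIdeal B) (B ⊗[A] E) := by
  intro x
  induction x using TensorProduct.induction_on with
  | zero => exact ⟨0, fun a _ => smul_zero a⟩
  | tmul b e =>
    obtain ⟨n, hn⟩ := hE e
    refine ⟨n, fun c hc => ?_⟩
    rw [← hm, ← Ideal.map_pow] at hc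
    exact map_smul_tmul_eq_zero _ e hn b hc
  | add x y hx hy =>
    obtain ⟨n, hn⟩ := hx
    obtain ⟨m, hm'⟩ := hy
    refine ⟨max n m, fun c hc => ?_⟩
    rw [smul_add, hn c (Ideal.pow_le_pow_right (le_max_left n m) hc),
      hm' c (Ideal.pow_le_pow_right (le_max_right n m) hc), add_zero]

/-- The multiplication map `B ⊗ 𝔪_A → B`. -/
noncomputable def kap (A : Type u) [CommRing A] (B : Type u) [CommRing B] [Algebra A B]
    [IsLocalRing A] : B ⊗[A] (maximalIdeal A) →ₗ[B] B :=
  (AlgebraTensorModule.rid A B B).toLinearMap ∘ₗ (LinearMap.baseChange B (maximalIdeal A).subtype)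

omit [IsLocalRing B] in
theorem kap_tmul (b : B) (a : maximalIdeal A) : kap A B (b ⊗ₜ[A] a) = (a : A) • b := by
  simp [kap]

omit [IsLocalRing B] in
theorem kap_injective [Module.Flat A B] : Function.Injective (kap A B) := by
  have h1 : Function.Injective (LinearMap.baseChange B (maximalIdeal A).subtype) := by
    rw [LinearMap.baseChange_eq_ltensor]
    exact Module.Flat.lTensor_preserves_injective_linearMap _ (Submodule.injective_subtype _)
  exact (AlgebraTensorModule.rid A B B).injective.comp h1

include hm in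
theorem kap_mem (t : B ⊗[A] (maximalIdeal A)) : kap A B t ∈ maximalIdeal B := by
  rw [← hm]
  induction t using TensorProduct.induction_on with
  | zero => rw [map_zero]; exact Submodule.zero_mem _
  | tmul b a =>
    rw [kap_tmul, Algebra.smul_def]
    exact Ideal.mul_mem_right _ _ (Ideal.mem_map_of_mem _ a.2)
  | add x y hx hy => rw [map_add]; exact Submodule.add_mem _ hx hy

include hm in
theorem exists_kap_eq (x : B) (hx : x ∈ maximalIdeal B) : ∃ t, kap A B t = x := by
  rw [← hm] at hx
  refine Submodule.span_induction ?_ ?_ ?_ ?_ hx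
  · rintro _ ⟨a, ha, rfl⟩
    exact ⟨1 ⊗ₜ[A] ⟨a, ha⟩, by rw [kap_tmul, Algebra.smul_def, mul_one]⟩
  · exact ⟨0, map_zero _⟩
  · rintro x y _ _ ⟨t, rfl⟩ ⟨s, rfl⟩
    exact ⟨t + s, map_add _ _ _⟩
  · rintro c x _ ⟨t, rfl⟩
    exact ⟨c • t, map_smul _ _ _⟩

include hm in
/-- Baer's criterion for the maximal ideal of `B` holds for `B ⊗ E`. -/
theorem baer_maximalIdeal_baseChange [IsNoetherianRing A] [Module.Flat A B]
    (hinjE : Module.Injective A E) (g : maximalIdeal B →ₗ[B] B ⊗[A] E) :
    ∃ y : B ⊗[A] E, ∀ x : maximalIdeal B, g x = (x : B) • y := by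
  let g' : B ⊗[A] (maximalIdeal A) →ₗ[B] B ⊗[A] E :=
    g ∘ₗ ((kap A B).codRestrict (maximalIdeal B) (kap_mem hm))
  have hfp : Module.FinitePresentation A (maximalIdeal A) :=
    Module.finitePresentation_of_finite A _
  have hbc : IsBaseChange B (LinearMap.baseChangeHom A B (maximalIdeal A) E) :=
    Module.FinitePresentation.isBaseChange_map A (maximalIdeal A) E B
  have key : ∃ y : B ⊗[A] E, ∀ t, g' t = kap A B t • y := by
    refine hbc.inductionOn g' (fun G => ∃ y : B ⊗[A] E, ∀ t, G t = kap A B t • y) ?_ ?_ ?_ ?_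
    · exact ⟨0, fun t => by rw [smul_zero]; rfl⟩
    · intro φ
      obtain ⟨φ', hφ'⟩ := (Module.Baer.of_injective hinjE) (maximalIdeal A) φ
      refine ⟨1 ⊗ₜ[A] φ' 1, fun t => ?_⟩
      induction t using TensorProduct.induction_on with
      | zero => rw [map_zero, map_zero, zero_smul]
      | tmul b a =>
        show (LinearMap.baseChange B φ) (b ⊗ₜ[A] a) = _
        rw [LinearMap.baseChange_tmul, kap_tmul, TensorProduct.smul_tmul', smul_eq_mul, mul_one,
          TensorProduct.smul_tmul, ← map_smul, smul_eq_mul, mul_one, hφ' a.1 a.2]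
      | add x y hx hy => rw [map_add, map_add, add_smul, hx, hy]
    · rintro s G ⟨y, hy⟩
      exact ⟨s • y, fun t => by rw [LinearMap.smul_apply, hy, smul_comm]⟩
    · rintro G₁ G₂ ⟨y₁, hy₁⟩ ⟨y₂, hy₂⟩
      exact ⟨y₁ + y₂, fun t => by rw [LinearMap.add_apply, hy₁, hy₂, smul_add]⟩
  obtain ⟨y, hy⟩ := key
  refine ⟨y, fun x => ?_⟩
  obtain ⟨t, ht⟩ := exists_kap_eq hm x.1 x.2
  have : g' t = g x := by
    show g ((kap A B).codRestrict (maximalIdeal B) (kap_mem hm) t) = g x
    congr 1
    exact Subtype.ext ht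
  rw [← this, hy, ht]

end BaseChange

section BaseChangeHull

variable {A : Type u} [CommRing A] [IsLocalRing A] [IsNoetherianRing A]
  {B : Type u} [CommRing B] [IsLocalRing B] [IsNoetherianRing B] [Algebra A B]
  [IsLocalHom (algebraMap A B)] [Module.Flat A B]
  (hm : (maximalIdeal A).map (algebraMap A B) = maximalIdeal B)
  {E : Type u} [AddCommGroup E] [Module A E] (f : ResidueField A →ₗ[A] E)

omit [IsLocalRing B] [IsNoetherianRing B] [IsLocalHom (algebraMap A B)] in
/-- Elements of `B ⊗ E` killed by `𝔪_A` come from `B ⊗ k_A`. -/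
theorem mem_range_lTensor_of_smul_eq_zero (hf : IsEssentialInj f) (x : B ⊗[A] E)
    (hx : ∀ a ∈ maximalIdeal A, a • x = 0) : x ∈ LinearMap.range (LinearMap.lTensor B f) := by
  classical
  obtain ⟨s, hs⟩ := (isNoetherianRing_iff_ideal_fg A).mp inferInstance (maximalIdeal A)
  let ρ : E →ₗ[A] (s → E) := LinearMap.pi (fun i => LinearMap.lsmul A E (i : A))
  have hex : Function.Exact f ρ := by
    intro e
    rw [Set.mem_range, ← LinearMap.mem_range, mem_range_hull_iff f hf]
    constructor
    · intro h a ha
      rw [← hs] at ha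
      refine Submodule.span_induction ?_ ?_ ?_ ?_ ha
      · intro a has
        exact congrFun h ⟨a, has⟩
      · exact zero_smul _ _
      · intro a b _ _ h1 h2; rw [add_smul, h1, h2, add_zero]
      · intro c a _ h1; rw [smul_eq_mul, mul_smul, h1, smul_zero]
    · intro h
      ext i
      exact h i (hs ▸ Ideal.subset_span i.2)
  have hex' := Module.Flat.lTensor_exact B hex
  rw [LinearMap.mem_range]
  refine (hex' x).mp ?_
  apply (TensorProduct.piRight A A B (fun _ : s => E)).injective
  rw [map_zero]
  ext i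
  have key : ∀ y : B ⊗[A] E,
      TensorProduct.piRight A A B (fun _ : s => E) (LinearMap.lTensor B ρ y) i = (i : A) • y := by
    intro y
    induction y using TensorProduct.induction_on with
    | zero => simp
    | tmul b e => simp [ρ]
    | add y z hy hz => simp only [map_add, Pi.add_apply, hy, hz, smul_add]
  rw [key, Pi.zero_apply]
  exact hx i (hs ▸ Ideal.subset_span i.2)

omit [IsNoetherianRing A] [IsLocalRing B] [IsNoetherianRing B] [IsLocalHom (algebraMap A B)]
  [Module.Flat A B] in
/-- `B ⊗ k_A` is generated by `1 ⊗ 1`. -/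
theorem exists_smul_one_tmul_one (z : B ⊗[A] ResidueField A) :
    ∃ b : B, z = b • ((1 : B) ⊗ₜ[A] (1 : ResidueField A)) := by
  induction z using TensorProduct.induction_on with
  | zero => exact ⟨0, (zero_smul _ _).symm⟩
  | tmul b c =>
    obtain ⟨a, rfl⟩ := residue_surjective c
    refine ⟨a • b, ?_⟩
    rw [TensorProduct.smul_tmul', smul_eq_mul, mul_one, TensorProduct.smul_tmul]
    congr 1
    rw [Algebra.smul_def, mul_one]; rfl
  | add x y hx hy =>
    obtain ⟨b, rfl⟩ := hx
    obtain ⟨c, rfl⟩ := hy
    exact ⟨b + c, (add_smul _ _ _).symm⟩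

include hm in
/-- **S0312**: base change of the injective hull of the residue field along a flat local
homomorphism with `𝔪_A B = 𝔪_B`. -/
theorem exists_hull_baseChange (hf : IsInjectiveHull f) :
    ∃ g : ResidueField B →ₗ[B] B ⊗[A] E, IsInjectiveHull g := by
  have hE := hull_isPowerTorsion f hf
  have hN := isPowerTorsion_baseChange hm hE
  have hinjN : Module.Injective B (B ⊗[A] E) :=
    injective_of_powerTorsion_of_baer hN (baer_maximalIdeal_baseChange hm hf.isInjective)
  have hff : Module.FaithfullyFlat A B := Module.FaithfullyFlat.of_flat_of_isLocalHom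
  let y₀ : B ⊗[A] E := (1 : B) ⊗ₜ[A] f 1
  have hy₀ : y₀ ≠ 0 := by
    intro h0
    have := (Module.FaithfullyFlat.one_tmul_eq_zero_iff A E (A := B) (f 1)).mp h0
    exact one_ne_zero (hf.injective (this.trans (map_zero f).symm))
  have hkill : maximalIdeal B ≤ LinearMap.ker (LinearMap.toSpanSingleton B (B ⊗[A] E) y₀) := by
    intro c hc
    rw [← hm] at hc
    exact map_smul_tmul_eq_zero (maximalIdeal A) (f 1)
      (fun a ha => smul_hull_eq_zero f 1 ha) 1 hc
  let g : ResidueField B →ₗ[B] B ⊗[A] E :=
    Submodule.liftQ (maximalIdeal B) (LinearMap.toSpanSingleton B (B ⊗[A] E) y₀) hkill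
  have hg1 : ∀ b : B, g (residue B b) = b • y₀ := fun b => rfl
  refine ⟨g, ⟨?_, ?_⟩, hinjN⟩
  · -- injective
    rw [← LinearMap.ker_eq_bot, LinearMap.ker_eq_bot']
    intro c hc
    obtain ⟨b, rfl⟩ := residue_surjective c
    by_contra hne
    have hb : IsUnit b := by
      by_contra hb
      exact hne ((residue_eq_zero_iff b).mpr ((mem_maximalIdeal b).mpr hb))
    obtain ⟨ub, rfl⟩ := hb
    rw [hg1] at hc
    apply hy₀
    have : y₀ = (↑ub⁻¹ : B) • ((ub : B) • y₀) := by rw [← mul_smul, Units.inv_mul, one_smul]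
    rw [this, hc, smul_zero]
  · -- essential
    have hess : EssIn (LinearMap.range g) ⊤ := by
      refine ⟨le_top, fun x _ hx0 => ?_⟩
      obtain ⟨b, hbx, hmem⟩ := exists_smul_mem_torsionBy hN hx0
      refine ⟨b, hbx, ?_⟩
      have h1 : ∀ a ∈ maximalIdeal A, a • (b • x) = 0 := by
        intro a ha
        rw [← algebraMap_smul B a (b • x)]
        exact (Submodule.mem_torsionBySet_iff _ _).mp hmem
          ⟨algebraMap A B a, hm ▸ Ideal.mem_map_of_mem _ ha⟩
      obtain ⟨z, hz⟩ := mem_range_lTensor_of_smul_eq_zero f hf.toIsEssentialInj _ h1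
      obtain ⟨b', rfl⟩ := exists_smul_one_tmul_one (A := A) (B := B) z
      refine ⟨residue B b', ?_⟩
      rw [hg1, ← hz]
      have : (LinearMap.lTensor B f) (b' • ((1 : B) ⊗ₜ[A] (1 : ResidueField A))) =
          (LinearMap.baseChange B f) (b' • ((1 : B) ⊗ₜ[A] (1 : ResidueField A))) := by
        rw [LinearMap.baseChange_eq_ltensor]
      rw [this, map_smul, LinearMap.baseChange_tmul]
    exact fun N hN' => hess.inf_ne_bot le_top hN'

end BaseChangeHull

end Groth.Agent.Helper1.MatlisL
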