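import Mathlib
import Groth.Prelude.Def_Wider
import Groth.Agent.Lib.Helper1.InjHullL
import Groth.Agent.Lib.Helper1.MatlisL

universe u v w

namespace Groth.Agent.Helper1.MatlisL2

open InjHull IsLocalRing Groth.Agent.Helper1.InjHullL Groth.Agent.Helper1.MatlisL TensorProduct

section More
variable {R : Type u} [CommRing R] [IsNoetherianRing R] [IsLocalRing R] {E : Type u} [AddCommGroup E] [Module R E]
  (f : ResidueField R →ₗ[R] E)

omit [IsNoetherianRing R] in
theorem annihilator_dual (hf : IsInjectiveHull f) (G : Type u) [AddCommGroup G] [Module R G] :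
    Module.annihilator R G = Module.annihilator R (G →ₗ[R] E) := by
  apply le_antisymm
  · intro r hr
    rw [Module.mem_annihilator] at hr ⊢
    intro φ
    ext g
    simp [← map_smul, hr g]
  · intro r hr
    rw [Module.mem_annihilator] at hr ⊢
    intro g
    apply applyₗ_injective f hf G
    ext φ
    have := LinearMap.congr_fun (hr φ) g
    simpa using this

theorem isArtinian_dual_of_finite (hf : IsInjectiveHull f) (N : Type u) [AddCommGroup N] [Module R N]
    [Module.Finite R N] : IsArtinian R (N →ₗ[R] E) := by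
  have := isArtinian_hull f hf
  obtain ⟨n, s, hs⟩ := Module.Finite.exists_fin (R := R) (M := N)
  let ψ : (N →ₗ[R] E) →ₗ[R] (Fin n → E) := LinearMap.pi (fun i => LinearMap.applyₗ (s i))
  apply isArtinian_of_injective ψ
  intro φ₁ φ₂ h
  apply LinearMap.ext_on_range hs
  intro i
  exact congrFun h i

end More

section MaxHull
variable {R : Type u} [CommRing R] (m : Ideal R) [m.IsMaximal] {E : Type u} [AddCommGroup E] [Module R E]
  (f : (R ⧸ m) →ₗ[R] E)

omit [m.IsMaximal] in
theorem smul_hullMax_eq_zero (c : R ⧸ m) {a : R} (ha : a ∈ m) : a • f c = 0 := by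
  rw [← map_smul]
  have : a • c = 0 := by
    obtain ⟨c, rfl⟩ := Ideal.Quotient.mk_surjective c
    rw [← Ideal.Quotient.mk_eq_mk, ← Submodule.Quotient.mk_smul]
    rw [Ideal.Quotient.mk_eq_mk, Ideal.Quotient.eq_zero_iff_mem]
    exact m.mul_mem_right _ ha
  rw [this, map_zero]

theorem mem_range_hullMax_iff (hf : IsEssentialInj f) (x : E) :
    x ∈ LinearMap.range f ↔ ∀ a ∈ m, a • x = 0 := by
  constructor
  · rintro ⟨c, rfl⟩ a ha
    exact smul_hullMax_eq_zero m f c ha
  · intro h
    by_cases hx0 : x = 0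
    · rw [hx0]; exact Submodule.zero_mem _
    obtain ⟨r, c, hr0, hc⟩ := essInj_exists_smul_mem hf hx0
    have hr : r ∉ m := fun hr => hr0 (h r hr)
    obtain ⟨s, t, ht, hst⟩ := Ideal.IsMaximal.exists_inv ‹m.IsMaximal› hr
    have : x = s • f c := by
      rw [hc, ← mul_smul]
      have h1 : (s * r + t) • x = x := by rw [hst, one_smul]
      rw [add_smul, h t ht, add_zero] at h1
      exact h1.symm
    rw [this]
    exact Submodule.smul_mem _ _ ⟨c, rfl⟩

omit [m.IsMaximal] in
theorem powTorsion_hullMax_eq_top [IsNoetherianRing R] (hf : IsInjectiveHull f) :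
    powTorsion m E = ⊤ := by
  have hΓ : Module.Injective R (powTorsion m E) :=
    injective_powTorsion _ hf.isInjective
  obtain ⟨ρ, hρ⟩ := exists_retraction (powTorsion m E).subtype
    (Submodule.injective_subtype _)
  have hc := isCompl_range_ker _ ρ hρ
  rw [Submodule.range_subtype] at hc
  have hle : LinearMap.range f ≤ powTorsion m E := by
    rintro _ ⟨c, rfl⟩
    rw [mem_powTorsion_iff]
    exact ⟨1, fun a ha => smul_hullMax_eq_zero m f c (by simpa using ha)⟩
  have hker : LinearMap.ker ρ = ⊥ := by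
    by_contra hne
    apply hf.essential _ hne
    rw [eq_bot_iff]
    intro x hx
    have : x ∈ powTorsion m E ⊓ LinearMap.ker ρ := ⟨hle hx.2, hx.1⟩
    rwa [hc.inf_eq_bot] at this
  have := hc.sup_eq_top
  rwa [hker, sup_bot_eq] at this

omit [m.IsMaximal] in
theorem hullMax_isPowerTorsion [IsNoetherianRing R] (hf : IsInjectiveHull f) :
    LocCoh.IsPowerTorsion m E := by
  intro x
  have : x ∈ powTorsion m E := by
    rw [powTorsion_hullMax_eq_top m f hf]; trivial
  exact (mem_powTorsion_iff _ x).mp this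

theorem torsionBy_hullMax_eq_range (hf : IsEssentialInj f) :
    LocCoh.torsionBy m E = LinearMap.range f := by
  ext x
  rw [mem_range_hullMax_iff m f hf, Submodule.mem_torsionBySet_iff]
  exact ⟨fun h a ha => h ⟨a, ha⟩, fun h a => h a.1 a.2⟩

/-- **S11663** -/
theorem isArtinian_hullMax [IsNoetherianRing R] (hf : IsInjectiveHull f) : IsArtinian R E := by
  have h1 : IsArtinian R (LocCoh.torsionBy m E) := by
    rw [torsionBy_hullMax_eq_range m f hf.toIsEssentialInj]
    let _ : Field (R ⧸ m) := Ideal.Quotient.field _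
    have : IsArtinian R (R ⧸ m) :=
      isArtinian_of_surjective_algebraMap (R := R ⧸ m) (S := R) Ideal.Quotient.mk_surjective
    exact isArtinian_of_linearEquiv (LinearEquiv.ofInjective f hf.injective)
  obtain ⟨s, hs⟩ := (IsNoetherian.noetherian m : m.FG)
  apply isArtinian_of_torsionBySet_finset s E
  · intro x hx e
    obtain ⟨n, hn⟩ := hullMax_isPowerTorsion m f hf e
    refine ⟨n, hn _ (Ideal.pow_mem_pow ?_ n)⟩
    rw [← hs]; exact Ideal.subset_span hx
  · have : Submodule.torsionBySet R E (s : Set R) = LocCoh.torsionBy m E := by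
      rw [Submodule.torsionBySet_eq_torsionBySet_span, ← hs]
    rw [this]; exact h1

end MaxHull

section Charact
variable {R : Type u} [CommRing R] [IsLocalRing R] {E : Type u} [AddCommGroup E] [Module R E]

/-- The map `k → E`, `c ↦ c • y` for `y` killed by `𝔪`. -/
noncomputable def socleMap (y : E) (hy : ∀ a ∈ maximalIdeal R, a • y = 0) :
    ResidueField R →ₗ[R] E :=
  Submodule.liftQ (maximalIdeal R) (LinearMap.toSpanSingleton R E y) (by
    intro a ha
    rw [LinearMap.mem_ker, LinearMap.toSpanSingleton_apply]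
    exact hy a ha)

theorem socleMap_residue (y : E) (hy : ∀ a ∈ maximalIdeal R, a • y = 0) (r : R) :
    socleMap y hy (residue R r) = r • y := by
  show Submodule.liftQ (maximalIdeal R) (LinearMap.toSpanSingleton R E y) _
    (Submodule.Quotient.mk r) = _
  rw [Submodule.liftQ_apply, LinearMap.toSpanSingleton_apply]

theorem socleMap_one (y : E) (hy : ∀ a ∈ maximalIdeal R, a • y = 0) :
    socleMap y hy 1 = y := by
  have := socleMap_residue y hy 1
  rwa [map_one, one_smul] at this

theorem residueField_isSimpleModule : IsSimpleModule R (ResidueField R) := by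
  have : IsSimpleModule R (R ⧸ maximalIdeal R) :=
    isSimpleModule_iff_isCoatom.mpr (Ideal.isMaximal_def.mp inferInstance)
  exact this

/-- An injective, power-torsion module with simple socle-Hom is a hull of `k`. -/
theorem isEssentialInj_of_simple_hom (hE : LocCoh.IsPowerTorsion (maximalIdeal R) E)
    (hS : IsSimpleModule R (ResidueField R →ₗ[R] E)) (f : ResidueField R →ₗ[R] E) (hf0 : f ≠ 0) :
    IsEssentialInj f := by
  have hk : IsSimpleModule R (ResidueField R) := residueField_isSimpleModule
  refine ⟨?_, ?_⟩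
  · rw [← LinearMap.ker_eq_bot]
    rcases eq_bot_or_eq_top (LinearMap.ker f) with h | h
    · exact h
    · exact absurd (LinearMap.ker_eq_top.mp h) hf0
  · intro N hN
    obtain ⟨x, hxN, hx0⟩ := Submodule.exists_mem_ne_zero_of_ne_bot hN
    obtain ⟨a, hax, hmem⟩ := exists_smul_mem_torsionBy hE hx0
    have hy : ∀ b ∈ maximalIdeal R, b • (a • x) = 0 := by
      intro b hb
      exact (Submodule.mem_torsionBySet_iff _ _).mp hmem ⟨b, hb⟩
    -- g = c • f
    have hspan : Submodule.span R {f} = ⊤ := by
      rcases eq_bot_or_eq_top (Submodule.span R {f}) with h | h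
      · exact absurd (Submodule.span_singleton_eq_bot.mp h) hf0
      · exact h
    have hg : socleMap (a • x) hy ∈ Submodule.span R {f} := by rw [hspan]; trivial
    obtain ⟨c, hc⟩ := Submodule.mem_span_singleton.mp hg
    intro hbot
    apply hax
    have hmem2 : a • x ∈ N ⊓ LinearMap.range f := by
      refine ⟨N.smul_mem a hxN, ?_⟩
      rw [← socleMap_one (a • x) hy, ← hc]
      exact ⟨c • 1, by simp⟩
    rw [hbot] at hmem2
    exact hmem2

theorem isInjectiveHull_iff [IsNoetherianRing R] :
    (∃ f : ResidueField R →ₗ[R] E, IsInjectiveHull f) ↔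
      (Module.Injective R E ∧ LocCoh.IsPowerTorsion (maximalIdeal R) E ∧
        IsSimpleModule R (ResidueField R →ₗ[R] E)) := by
  constructor
  · rintro ⟨f, hf⟩
    exact ⟨hf.isInjective, hull_isPowerTorsion f hf,
      Module.length_eq_one_iff.mp (length_dual_residueField f hf.toIsEssentialInj)⟩
  · rintro ⟨hI, hT, hS⟩
    have := IsSimpleModule.nontrivial R (ResidueField R →ₗ[R] E)
    obtain ⟨f, hf0⟩ := exists_ne (0 : ResidueField R →ₗ[R] E)
    exact ⟨f, ⟨isEssentialInj_of_simple_hom hT hS f hf0, hI⟩⟩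

end Charact

section MinGen
variable {R : Type u} [CommRing R] [IsLocalRing R]

theorem length_eq_finrank_residue (V : Type v) [AddCommGroup V] [Module R V]
    [Module (R ⧸ maximalIdeal R) V] [IsScalarTower R (R ⧸ maximalIdeal R) V] [Module.Finite R V] :
    Module.length R V = (Module.finrank (R ⧸ maximalIdeal R) V : ℕ∞) := by
  let _ : Field (R ⧸ maximalIdeal R) := Ideal.Quotient.field _
  have : Module.Finite (R ⧸ maximalIdeal R) V := Module.Finite.of_restrictScalars_finite R _ _
  rw [Module.length_eq_of_surjective (S := R) (R := R ⧸ maximalIdeal R)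
    Ideal.Quotient.mk_surjective, Module.length_eq_finrank]

theorem spanFinrank_eq_length_quotient {M : Type v} [AddCommGroup M] [Module R M]
    (N : Submodule R M) (fg : N.FG) :
    (N.spanFinrank : ℕ∞) = Module.length R (N ⧸ (maximalIdeal R) • (⊤ : Submodule R N)) := by
  have : Module.Finite R N := Module.Finite.iff_fg.mpr fg
  rw [IsLocalRing.spanFinrank_eq_finrank_quotient N fg, length_eq_finrank_residue]

theorem spanFinrank_top_eq_length_quotient (M : Type v) [AddCommGroup M] [Module R M]
    [Module.Finite R M] :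
    ((⊤ : Submodule R M).spanFinrank : ℕ∞) =
      Module.length R (M ⧸ (maximalIdeal R) • (⊤ : Submodule R M)) := by
  rw [spanFinrank_eq_length_quotient ⊤ Module.Finite.fg_top]
  apply LinearEquiv.length_eq
  refine Submodule.Quotient.equiv _ _ (Submodule.topEquiv) ?_
  rw [Submodule.map_smul'', Submodule.map_top, LinearEquiv.range]

omit [IsLocalRing R] in
/-- The socle of the dual is the dual of the cosocle. -/
theorem range_lcomp_mkQ_smul_top (I : Ideal R) (M : Type v) [AddCommGroup M] [Module R M]
    (E : Type w) [AddCommGroup E] [Module R E] :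
    LinearMap.range (LinearMap.lcomp R E (I • (⊤ : Submodule R M)).mkQ) =
      LocCoh.torsionBy I (M →ₗ[R] E) := by
  ext φ
  rw [LinearMap.mem_range, Submodule.mem_torsionBySet_iff]
  have hex := (exact_lcomp_mkQ_subtype (E := E) (I • (⊤ : Submodule R M))) φ
  rw [Set.mem_range] at hex
  rw [← hex]
  constructor
  · rintro h ⟨a, ha⟩
    ext m
    have := LinearMap.congr_fun h ⟨a • m, Submodule.smul_mem_smul ha Submodule.mem_top⟩
    simpa using this
  · intro h
    ext ⟨x, hx⟩
    show φ x = 0
    refine Submodule.smul_induction_on hx ?_ ?_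
    · intro a ha m _
      have := LinearMap.congr_fun (h ⟨a, ha⟩) m
      simpa using this
    · intro x y hx hy
      rw [map_add, hx, hy, add_zero]

/-- **S17756** -/
theorem spanFinrank_eq_length_socle_dual [IsNoetherianRing R] {E : Type u} [AddCommGroup E]
    [Module R E] (f : ResidueField R →ₗ[R] E) (hf : IsInjectiveHull f)
    (M : Type u) [AddCommGroup M] [Module R M] [Module.Finite R M] :
    ((⊤ : Submodule R M).spanFinrank : ℕ∞) =
      Module.length R (LocCoh.torsionBy (maximalIdeal R) (M →ₗ[R] E)) := by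
  rw [spanFinrank_top_eq_length_quotient, ← range_lcomp_mkQ_smul_top]
  have hfl : IsFiniteLength R (M ⧸ (maximalIdeal R) • (⊤ : Submodule R M)) := by
    rw [← Module.length_ne_top_iff, length_eq_finrank_residue]
    exact ENat.natCast_ne_top _
  rw [← length_dual f hf _ hfl]
  exact LinearEquiv.length_eq (LinearEquiv.ofInjective _ (lcomp_mkQ_injective _))

end MinGen

section Restrict

/-- Restriction of scalars along a flat ring map preserves injective modules. -/
theorem injective_of_flat {R S : Type u} [CommRing R] [CommRing S] [Algebra R S] [Module.Flat R S]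
    (E : Type u) [AddCommGroup E] [Module S E] [Module R E] [IsScalarTower R S E]
    [Module.Injective S E] : Module.Injective R E := by
  refine ⟨fun X Y _ _ _ _ i hi g => ?_⟩
  let i' : S ⊗[R] X →ₗ[S] S ⊗[R] Y := i.baseChange S
  have hi' : Function.Injective i' :=
    Module.Flat.lTensor_preserves_injective_linearMap i hi
  let g' : S ⊗[R] X →ₗ[S] E := g.liftBaseChange S
  obtain ⟨h, hh⟩ := Module.Injective.extension_property S E _ _ i' hi' g'
  refine ⟨(h.restrictScalars R) ∘ₗ (TensorProduct.mk R S Y 1), fun x => ?_⟩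
  have := LinearMap.congr_fun hh ((1 : S) ⊗ₜ[R] x)
  simpa [i', g'] using this

variable {R S : Type u} [CommRing R] [CommRing S] [IsLocalRing R] [IsLocalRing S]
  [IsNoetherianRing R] [IsNoetherianRing S] [Algebra R S] [IsLocalHom (algebraMap R S)]
  [Module.Flat R S]

omit [IsNoetherianRing R] in
/-- **S1750** -/
theorem exists_hull_restrictScalars
    (hm : (maximalIdeal R).map (algebraMap R S) = maximalIdeal S)
    (hk : Function.Surjective (ResidueField.map (algebraMap R S)))
    (E : Type u) [AddCommGroup E] [Module S E] [Module R E] [IsScalarTower R S E]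
    (f : ResidueField S →ₗ[S] E) (hf : IsInjectiveHull f) :
    ∃ g : ResidueField R →ₗ[R] E, IsInjectiveHull g := by
  have hinjS := hf.isInjective
  have hinj : Module.Injective R E := injective_of_flat (R := R) (S := S) E
  have hTS := hull_isPowerTorsion f hf
  have hT : LocCoh.IsPowerTorsion (maximalIdeal R) E := by
    intro x
    obtain ⟨n, hn⟩ := hTS x
    refine ⟨n, fun a ha => ?_⟩
    rw [← algebraMap_smul S a x]
    apply hn
    rw [← hm, ← Ideal.map_pow]
    exact Ideal.mem_map_of_mem _ ha
  have hf1 : ∀ a ∈ maximalIdeal R, a • f 1 = 0 := by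
    intro a ha
    rw [← algebraMap_smul S a (f 1)]
    apply smul_hull_eq_zero f
    rw [← hm]
    exact Ideal.mem_map_of_mem _ ha
  refine ⟨socleMap (f 1) hf1, ⟨?_, hinj⟩⟩
  have hk' : IsSimpleModule R (ResidueField R) := residueField_isSimpleModule
  have hne : f 1 ≠ 0 := by
    intro h
    have := hf.injective (h.trans (map_zero f).symm)
    exact one_ne_zero this
  refine ⟨?_, ?_⟩
  · rw [← LinearMap.ker_eq_bot]
    rcases eq_bot_or_eq_top (LinearMap.ker (socleMap (f 1) hf1)) with h | h
    · exact h
    · exfalso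
      apply hne
      have := LinearMap.congr_fun (LinearMap.ker_eq_top.mp h) 1
      rwa [socleMap_one] at this
  · intro N hN
    obtain ⟨x, hxN, hx0⟩ := Submodule.exists_mem_ne_zero_of_ne_bot hN
    obtain ⟨a, hax, hmem⟩ := exists_smul_mem_torsionBy hT hx0
    have hy : ∀ b ∈ maximalIdeal R, b • (a • x) = 0 := by
      intro b hb
      exact (Submodule.mem_torsionBySet_iff _ _).mp hmem ⟨b, hb⟩
    -- `a • x` is killed by `𝔪_S`
    have hyS : ∀ s ∈ maximalIdeal S, s • (a • x) = 0 := by
      intro s hs
      rw [← hm] at hs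
      refine Submodule.span_induction ?_ ?_ ?_ ?_ hs
      · rintro _ ⟨b, hb, rfl⟩
        rw [algebraMap_smul]
        exact hy b hb
      · rw [zero_smul]
      · intro s t _ _ hs ht
        rw [add_smul, hs, ht, add_zero]
      · intro c s _ hs
        rw [smul_eq_mul, mul_smul, hs, smul_zero]
    obtain ⟨c, hc⟩ := (mem_range_hull_iff f hf.toIsEssentialInj (a • x)).mpr hyS
    obtain ⟨r, hr⟩ := hk c
    obtain ⟨r, rfl⟩ := residue_surjective r
    intro hbot
    apply hax
    have hmem2 : a • x ∈ N ⊓ LinearMap.range (socleMap (f 1) hf1) := by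
      refine ⟨N.smul_mem a hxN, ⟨residue R r, ?_⟩⟩
      rw [socleMap_residue, ← hc, ← hr, ResidueField.map_residue, ← algebraMap_smul S r (f 1),
        ← map_smul]
      congr 1
      rw [Algebra.smul_def, mul_one]
      rfl
    rw [hbot] at hmem2
    exact hmem2

end Restrict

section LenCrit
variable {A : Type u} [CommRing A] [IsLocalRing A] [IsNoetherianRing A]

/-- **S11174** -/
theorem exists_hull_of_length (I : Type u) [AddCommGroup I] [Module A I]
    (ha : LocCoh.IsPowerTorsion (maximalIdeal A) I)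
    (hb : Nonempty ((ResidueField A →ₗ[A] I) ≃ₗ[A] ResidueField A))
    (a : ℕ → Ideal A)
    (hcof : ∀ n : ℕ, ∃ N : ℕ, maximalIdeal A ^ N ≤ a n)
    (hcof' : ∀ N : ℕ, ∃ n : ℕ, a n ≤ maximalIdeal A ^ N)
    (hlen : ∀ n : ℕ, Module.length A (A ⧸ a n) = Module.length A ((A ⧸ a n) →ₗ[A] I)) :
    ∃ f : ResidueField A →ₗ[A] I, IsInjectiveHull f := by
  obtain ⟨e₀⟩ := hb
  have hk : IsSimpleModule A (ResidueField A) := residueField_isSimpleModule
  have hS : IsSimpleModule A (ResidueField A →ₗ[A] I) :=
    IsSimpleModule.congr e₀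
  have := IsSimpleModule.nontrivial A (ResidueField A →ₗ[A] I)
  obtain ⟨f₀, hf₀⟩ := exists_ne (0 : ResidueField A →ₗ[A] I)
  have hess := isEssentialInj_of_simple_hom ha hS f₀ hf₀
  obtain ⟨E, _, _, e, he⟩ := exists_injectiveHull (R := A) (ResidueField A)
  have := he.isInjective
  obtain ⟨ι, hι⟩ := Module.Injective.extension_property A E _ _ f₀ hess.injective e
  have hιinj : Function.Injective ι := essInj_injective_of_comp hess ι (by rw [hι]; exact he.injective)
  have hιsurj : Function.Surjective ι := by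
    intro x
    obtain ⟨N, hN⟩ := hull_isPowerTorsion e he x
    obtain ⟨n, hn⟩ := hcof' N
    obtain ⟨N', hN'⟩ := hcof n
    have hfl : IsFiniteLength A (A ⧸ a n) := isFiniteLength_quotient_of_pow_le (a n) N' hN'
    -- the map `Hom(A/aₙ, I) → Hom(A/aₙ, E)`
    let Φ : ((A ⧸ a n) →ₗ[A] I) →ₗ[A] ((A ⧸ a n) →ₗ[A] E) := LinearMap.llcomp A _ _ _ ι
    have hΦinj : Function.Injective Φ := by
      intro φ ψ h
      apply LinearMap.ext
      intro y
      apply hιinj
      exact LinearMap.congr_fun h y
    have hΦsurj : Function.Surjective Φ := by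
      apply surjective_of_injective_of_length_le Φ hΦinj
      · rw [← hlen n, Module.length_ne_top_iff]; exact hfl
      · rw [length_dual e he _ hfl, hlen n]
    -- the map `A/aₙ → E`, `1 ↦ x`
    let χ : (A ⧸ a n) →ₗ[A] E := Submodule.liftQ (a n) (LinearMap.toSpanSingleton A E x) (by
      intro r hr
      rw [LinearMap.mem_ker, LinearMap.toSpanSingleton_apply]
      exact hN r (hn hr))
    obtain ⟨ψ, hψ⟩ := hΦsurj χ
    refine ⟨ψ (Submodule.Quotient.mk 1), ?_⟩
    have := LinearMap.congr_fun hψ (Submodule.Quotient.mk 1)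
    simp only [Φ, LinearMap.llcomp_apply] at this
    rw [this]
    show Submodule.liftQ (a n) (LinearMap.toSpanSingleton A E x) _ (Submodule.Quotient.mk 1) = x
    rw [Submodule.liftQ_apply, LinearMap.toSpanSingleton_apply, one_smul]
  refine ⟨f₀, ⟨hess, ?_⟩⟩
  exact injective_of_linearEquiv (LinearEquiv.ofBijective ι ⟨hιinj, hιsurj⟩).symm he.isInjective

end LenCrit

section QuotHull

/-- A nonzero map `k → M` into a power-torsion module whose image contains the socle is an
essential injection. -/
theorem isEssentialInj_of_socle_le {R : Type u} [CommRing R] [IsLocalRing R] {M : Type u}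
    [AddCommGroup M] [Module R M] (hM : LocCoh.IsPowerTorsion (maximalIdeal R) M)
    (f : ResidueField R →ₗ[R] M) (hf0 : f ≠ 0)
    (hsoc : ∀ z : M, (∀ a ∈ maximalIdeal R, a • z = 0) → z ∈ LinearMap.range f) :
    IsEssentialInj f := by
  have hk : IsSimpleModule R (ResidueField R) := residueField_isSimpleModule
  refine ⟨?_, ?_⟩
  · rw [← LinearMap.ker_eq_bot]
    rcases eq_bot_or_eq_top (LinearMap.ker f) with h | h
    · exact h
    · exact absurd (LinearMap.ker_eq_top.mp h) hf0
  · intro N hN
    obtain ⟨x, hxN, hx0⟩ := Submodule.exists_mem_ne_zero_of_ne_bot hN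
    obtain ⟨a, hax, hmem⟩ := exists_smul_mem_torsionBy hM hx0
    have hy : ∀ b ∈ maximalIdeal R, b • (a • x) = 0 := by
      intro b hb
      exact (Submodule.mem_torsionBySet_iff _ _).mp hmem ⟨b, hb⟩
    intro hbot
    apply hax
    have hmem2 : a • x ∈ N ⊓ LinearMap.range f := ⟨N.smul_mem a hxN, hsoc _ hy⟩
    rw [hbot] at hmem2
    exact hmem2

/-- `E[I]` is an injective `R/I`-module when `E` is an injective `R`-module. -/
theorem injective_torsionBySet {R : Type u} [CommRing R] (I : Ideal R) (E : Type u)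
    [AddCommGroup E] [Module R E] [Module.Injective R E] :
    Module.Injective (R ⧸ I) (Submodule.torsionBySet R E (I : Set R)) := by
  refine Module.Baer.injective fun J g => ?_
  let J' : Ideal R := J.comap (Ideal.Quotient.mk I)
  let g' : J' →ₗ[R] E :=
    { toFun := fun x => (g ⟨Ideal.Quotient.mk I x.1, x.2⟩ : Submodule.torsionBySet R E (I : Set R)).1
      map_add' := by
        intro x y
        have : (⟨Ideal.Quotient.mk I (x + y : J').1, (x + y).2⟩ : J) =
            ⟨Ideal.Quotient.mk I x.1, x.2⟩ + ⟨Ideal.Quotient.mk I y.1, y.2⟩ := by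
          apply Subtype.ext; simp
        rw [this, map_add]; rfl
      map_smul' := by
        intro r x
        have : (⟨Ideal.Quotient.mk I (r • x : J').1, (r • x).2⟩ : J) =
            Ideal.Quotient.mk I r • ⟨Ideal.Quotient.mk I x.1, x.2⟩ := by
          apply Subtype.ext; simp
        rw [this, map_smul]; rfl }
  obtain ⟨h, hh⟩ := Module.Baer.of_injective (inferInstance : Module.Injective R E) J' g'
  have hy : h 1 ∈ Submodule.torsionBySet R E (I : Set R) := by
    rw [Submodule.mem_torsionBySet_iff]
    rintro ⟨b, hb⟩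
    have hbJ : b ∈ J' := by
      show Ideal.Quotient.mk I b ∈ J
      rw [Ideal.Quotient.eq_zero_iff_mem.mpr hb]; exact J.zero_mem
    show b • h 1 = 0
    rw [← map_smul, smul_eq_mul, mul_one, hh b hbJ]
    show (g ⟨Ideal.Quotient.mk I b, _⟩ : Submodule.torsionBySet R E (I : Set R)).1 = 0
    have : (⟨Ideal.Quotient.mk I b, hbJ⟩ : J) = 0 := by
      apply Subtype.ext; exact Ideal.Quotient.eq_zero_iff_mem.mpr hb
    rw [this, map_zero]; rfl
  refine ⟨LinearMap.toSpanSingleton (R ⧸ I) _ ⟨h 1, hy⟩, ?_⟩
  intro x mem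
  obtain ⟨x, rfl⟩ := Ideal.Quotient.mk_surjective x
  rw [LinearMap.toSpanSingleton_apply]
  apply Subtype.ext
  show x • h 1 = _
  rw [← map_smul, smul_eq_mul, mul_one, hh x mem]
  rfl

theorem map_mk_maximalIdeal {A : Type u} [CommRing A] [IsLocalRing A] (a : Ideal A)
    [IsLocalRing (A ⧸ a)] :
    (maximalIdeal A).map (Ideal.Quotient.mk a) = maximalIdeal (A ⧸ a) := by
  have hI : a ≠ ⊤ := by
    intro h
    have : Subsingleton (A ⧸ a) := Submodule.Quotient.subsingleton_iff.mpr h
    exact not_subsingleton (A ⧸ a) this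
  ext x
  obtain ⟨x, rfl⟩ := Ideal.Quotient.mk_surjective x
  have := IsLocalHom.of_surjective (Ideal.Quotient.mk a) Ideal.Quotient.mk_surjective
  simp [sup_eq_left.mpr (le_maximalIdeal hI)]

variable {A : Type u} [CommRing A] [IsLocalRing A] [IsNoetherianRing A]

/-- **S5157** -/
theorem exists_hull_torsionBy (a : Ideal A) [IsLocalRing (A ⧸ a)]
    (E : Type u) [AddCommGroup E] [Module A E] (f : ResidueField A →ₗ[A] E)
    (hf : IsInjectiveHull f) :
    ∃ g : ResidueField (A ⧸ a) →ₗ[A ⧸ a] (LocCoh.torsionBy a E), IsInjectiveHull g := by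
  have := hf.isInjective
  have hI : a ≠ ⊤ := by
    intro h
    have : Subsingleton (A ⧸ a) := Submodule.Quotient.subsingleton_iff.mpr h
    exact not_subsingleton (A ⧸ a) this
  have hmax := map_mk_maximalIdeal a
  have hmem : ∀ b : A, Ideal.Quotient.mk a b ∈ maximalIdeal (A ⧸ a) → b ∈ maximalIdeal A := by
    intro b hb
    rw [← hmax, Ideal.mem_map_iff_of_surjective _ Ideal.Quotient.mk_surjective] at hb
    obtain ⟨c, hc, hcb⟩ := hb
    have : b - c ∈ a := by
      rw [← Ideal.Quotient.eq_zero_iff_mem, map_sub, hcb, sub_self]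
    have hb' : b = c + (b - c) := by ring
    rw [hb']
    exact Ideal.add_mem _ hc (le_maximalIdeal hI this)
  have hinj : Module.Injective (A ⧸ a) (LocCoh.torsionBy a E) := injective_torsionBySet a E
  -- power torsion
  have hT : LocCoh.IsPowerTorsion (maximalIdeal (A ⧸ a)) (LocCoh.torsionBy a E) := by
    intro z
    obtain ⟨n, hn⟩ := hull_isPowerTorsion f hf z.1
    refine ⟨n, fun b hb => ?_⟩
    rw [← hmax, ← Ideal.map_pow, Ideal.mem_map_iff_of_surjective _ Ideal.Quotient.mk_surjective] at hb
    obtain ⟨c, hc, rfl⟩ := hb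
    apply Subtype.ext
    show c • z.1 = 0
    exact hn c hc
  -- the element `f 1`
  have hf1 : f 1 ∈ LocCoh.torsionBy a E := by
    rw [Submodule.mem_torsionBySet_iff]
    rintro ⟨b, hb⟩
    exact smul_hull_eq_zero f 1 (le_maximalIdeal hI hb)
  have hf1' : ∀ b ∈ maximalIdeal (A ⧸ a), b • (⟨f 1, hf1⟩ : LocCoh.torsionBy a E) = 0 := by
    intro b hb
    obtain ⟨b, rfl⟩ := Ideal.Quotient.mk_surjective b
    apply Subtype.ext
    show b • f 1 = 0
    exact smul_hull_eq_zero f 1 (hmem b hb)
  have hne : f 1 ≠ 0 := by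
    intro h
    have := hf.injective (h.trans (map_zero f).symm)
    exact one_ne_zero this
  refine ⟨socleMap _ hf1', ⟨?_, hinj⟩⟩
  apply isEssentialInj_of_socle_le hT
  · intro h
    have := LinearMap.congr_fun h 1
    rw [socleMap_one] at this
    exact hne (congrArg Subtype.val this)
  · intro z hz
    have hz' : ∀ b ∈ maximalIdeal A, b • z.1 = 0 := by
      intro b hb
      have := hz (Ideal.Quotient.mk a b) (by rw [← hmax]; exact Ideal.mem_map_of_mem _ hb)
      exact congrArg Subtype.val this
    obtain ⟨c, hc⟩ := (mem_range_hull_iff f hf.toIsEssentialInj z.1).mpr hz'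
    obtain ⟨r, rfl⟩ := residue_surjective c
    refine ⟨residue (A ⧸ a) (Ideal.Quotient.mk a r), ?_⟩
    rw [socleMap_residue]
    apply Subtype.ext
    show r • f 1 = z.1
    rw [← hc, ← map_smul]
    congr 1
    rw [Algebra.smul_def, mul_one]
    rfl

end QuotHull

section LocSurj
variable {A : Type u} [CommRing A] [IsNoetherianRing A]

/-- In an injective module over a Noetherian ring, `f ^ N • x` is divisible by `f ^ (n + N)`
for `N` large. -/
theorem exists_pow_smul_eq_pow_smul (I : Type u) [AddCommGroup I] [Module A I]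
    [Module.Injective A I] (f : A) (x : I) (n : ℕ) :
    ∃ (N : ℕ) (y : I), f ^ (n + N) • y = f ^ N • x := by
  let K : ℕ →o Submodule A A :=
    ⟨fun k => LinearMap.ker (LinearMap.mulLeft A (f ^ k)), fun k l hkl a ha => by
      rw [LinearMap.mem_ker, LinearMap.mulLeft_apply] at ha ⊢
      obtain ⟨d, rfl⟩ := Nat.exists_eq_add_of_le hkl
      rw [pow_add, mul_comm (f ^ k), mul_assoc, ha, mul_zero]⟩
  obtain ⟨N, hN⟩ := monotone_stabilizes_iff_noetherian.mpr inferInstance K
  let μ : A →ₗ[A] A := LinearMap.mulLeft A (f ^ (n + N))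
  let i : (A ⧸ LinearMap.ker μ) →ₗ[A] A := (LinearMap.ker μ).liftQ μ le_rfl
  have hi : Function.Injective i := by
    rw [← LinearMap.ker_eq_bot]
    exact Submodule.ker_liftQ_eq_bot _ _ _ le_rfl
  let φ : (A ⧸ LinearMap.ker μ) →ₗ[A] I :=
    (LinearMap.ker μ).liftQ ((LinearMap.toSpanSingleton A I x) ∘ₗ (LinearMap.mulLeft A (f ^ N))) (by
      intro a ha
      have h1 : a ∈ K (n + N) := ha
      have h2 : a ∈ K N := by
        have := hN (n + N) (Nat.le_add_left N n)
        rw [this]; exact h1
      have h3 : f ^ N * a = 0 := h2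
      rw [LinearMap.mem_ker, LinearMap.comp_apply, LinearMap.mulLeft_apply, h3, map_zero])
  obtain ⟨h, hh⟩ := Module.Injective.extension_property A I _ _ i hi φ
  refine ⟨N, h 1, ?_⟩
  have := LinearMap.congr_fun hh (Submodule.Quotient.mk 1)
  simp only [LinearMap.comp_apply, i, φ, μ, Submodule.liftQ_apply, LinearMap.mulLeft_apply,
    mul_one, LinearMap.toSpanSingleton_apply] at this
  rw [← this, ← map_smul, smul_eq_mul, mul_one]

/-- **S11313** -/
theorem mkLinearMap_surjective_of_injective (I : Type u) [AddCommGroup I] [Module A I]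
    [Module.Injective A I] (f : A) :
    Function.Surjective (LocalizedModule.mkLinearMap (Submonoid.powers f) I) := by
  intro z
  induction z using LocalizedModule.induction_on with
  | h x s =>
    obtain ⟨s, n, rfl⟩ := s
    obtain ⟨N, y, hy⟩ := exists_pow_smul_eq_pow_smul I f x n
    refine ⟨y, ?_⟩
    rw [LocalizedModule.mkLinearMap_apply, LocalizedModule.mk_eq]
    refine ⟨⟨f ^ N, N, rfl⟩, ?_⟩
    simp only [Submonoid.smul_def, one_smul]
    rw [← hy, pow_add, mul_smul, smul_comm]

end LocSurj

section TorsBC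
variable {A : Type u} [CommRing A] [IsLocalRing A]
  {B : Type v} [CommRing B] [IsLocalRing B] [Algebra A B] [IsLocalHom (algebraMap A B)]

theorem tmul_mem_range_mk_of_pow_smul_eq_zero
    (hm : (maximalIdeal A).map (algebraMap A B) = maximalIdeal B)
    (hk : Function.Surjective (ResidueField.map (algebraMap A B)))
    {I : Type w} [AddCommGroup I] [Module A I] (n : ℕ) :
    ∀ (x : I), (∀ a ∈ maximalIdeal A ^ n, a • x = 0) → ∀ b : B,
      b ⊗ₜ[A] x ∈ LinearMap.range (TensorProduct.mk A B I 1) := by
  induction n with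
  | zero =>
    intro x hx b
    have : x = 0 := by
      have := hx 1 (by rw [pow_zero, Ideal.one_eq_top]; trivial)
      rwa [one_smul] at this
    rw [this, tmul_zero]; exact Submodule.zero_mem _
  | succ n ih =>
    intro x hx b
    obtain ⟨c, hc⟩ := hk (residue B b)
    obtain ⟨a, rfl⟩ := residue_surjective c
    rw [ResidueField.map_residue] at hc
    have hmem : b - algebraMap A B a ∈ maximalIdeal B := by
      rw [← residue_eq_zero_iff, map_sub, hc, sub_self]
    have hb : b = algebraMap A B a + (b - algebraMap A B a) := by ring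
    rw [hb, add_tmul]
    apply Submodule.add_mem
    · refine ⟨a • x, ?_⟩
      rw [TensorProduct.mk_apply, Algebra.algebraMap_eq_smul_one, ← TensorProduct.smul_tmul]
    · rw [← hm] at hmem
      generalize b - algebraMap A B a = c at hmem
      have key : ∀ b' : B, (b' * c) ⊗ₜ[A] x ∈ LinearMap.range (TensorProduct.mk A B I 1) := by
        refine Submodule.span_induction ?_ ?_ ?_ ?_ hmem
        · rintro _ ⟨a', ha', rfl⟩ b'
          rw [mul_comm, ← Algebra.smul_def, TensorProduct.smul_tmul]
          apply ih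
          intro a'' ha''
          rw [← mul_smul]
          apply hx
          rw [pow_succ]
          exact Ideal.mul_mem_mul ha'' ha'
        · intro b'
          rw [mul_zero, zero_tmul]; exact Submodule.zero_mem _
        · intro c d _ _ hc hd b'
          rw [mul_add, add_tmul]; exact Submodule.add_mem _ (hc b') (hd b')
        · intro c d _ hd' b'
          rw [smul_eq_mul, ← mul_assoc]
          exact hd' (b' * c)
      have := key 1
      rwa [one_mul] at this

theorem mk_one_surjective_of_powerTorsion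
    (hm : (maximalIdeal A).map (algebraMap A B) = maximalIdeal B)
    (hk : Function.Surjective (ResidueField.map (algebraMap A B)))
    {I : Type w} [AddCommGroup I] [Module A I]
    (hI : LocCoh.IsPowerTorsion (maximalIdeal A) I) :
    Function.Surjective (TensorProduct.mk A B I 1) := by
  intro z
  rw [← LinearMap.mem_range]
  induction z using TensorProduct.induction_on with
  | zero => exact Submodule.zero_mem _
  | tmul b x =>
    obtain ⟨n, hn⟩ := hI x
    exact tmul_mem_range_mk_of_pow_smul_eq_zero hm hk n x hn b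
  | add x y hx hy => exact Submodule.add_mem _ hx hy

theorem mk_one_bijective_of_powerTorsion [Module.Flat A B]
    (hm : (maximalIdeal A).map (algebraMap A B) = maximalIdeal B)
    (hk : Function.Surjective (ResidueField.map (algebraMap A B)))
    {I : Type w} [AddCommGroup I] [Module A I]
    (hI : LocCoh.IsPowerTorsion (maximalIdeal A) I) :
    Function.Bijective (TensorProduct.mk A B I 1) := by
  refine ⟨?_, mk_one_surjective_of_powerTorsion hm hk hI⟩
  have hff : Module.FaithfullyFlat A B := Module.FaithfullyFlat.of_flat_of_isLocalHom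
  rw [← LinearMap.ker_eq_bot, LinearMap.ker_eq_bot']
  intro x hx
  exact (Module.FaithfullyFlat.one_tmul_eq_zero_iff A I (A := B) x).mp hx

/-- **S5158** -/
theorem mk_one_bijective_adicCompletion [IsNoetherianRing A]
    {I : Type w} [AddCommGroup I] [Module A I]
    (hI : LocCoh.IsPowerTorsion (maximalIdeal A) I) :
    Function.Bijective (TensorProduct.mk A (AdicCompletion (maximalIdeal A) A) I 1) := by
  apply mk_one_bijective_of_powerTorsion _ _ hI
  · exact (AdicCompletion.maximalIdeal_eq_map (R := A)).symm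
  · exact (AdicCompletion.residueField_map_bijective (R := A)).2

end TorsBC

section InjCritJ
variable {R : Type u} [CommRing R] [IsNoetherianRing R]

/-- A `J`-power torsion module is injective as soon as maps from submodules of `R ⧸ J ^ m`
extend. -/
theorem injective_of_extension_on_quotients (J : Ideal R) {H : Type v} [AddCommGroup H]
    [Module R H] (hH : LocCoh.IsPowerTorsion J H)
    (hext : ∀ (m : ℕ) (N : Submodule R (R ⧸ (J ^ m : Ideal R))) (g : N →ₗ[R] H),
      ∃ g' : (R ⧸ (J ^ m : Ideal R)) →ₗ[R] H, g'.comp N.subtype = g) :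
    Module.Injective R H := by
  refine Module.Baer.injective fun 𝔞 g => ?_
  -- Step 1: uniform exponent
  obtain ⟨n, hn⟩ := exists_pow_uniform J g
    (fun x => (mem_powTorsion_iff J (g x)).mpr (hH (g x)))
  -- Step 2: Artin–Rees
  obtain ⟨k, hk⟩ := Ideal.exists_pow_inf_eq_pow_smul J (𝔞 : Submodule R R)
  have hAR : ∀ x : R, x ∈ 𝔞 → x ∈ J ^ (n + k) → x ∈ J ^ n • (𝔞 : Submodule R R) := by
    intro x hx𝔞 hxJ
    have h1 : x ∈ J ^ (n + k) • (⊤ : Submodule R R) ⊓ 𝔞 :=
      ⟨by rw [smul_eq_mul, Ideal.mul_top]; exact hxJ, hx𝔞⟩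
    rw [hk (n + k) (Nat.le_add_left k n), Nat.add_sub_cancel] at h1
    exact Submodule.smul_mono le_rfl inf_le_right h1
  have hkill : ∀ x : 𝔞, (x : R) ∈ J ^ (n + k) → g x = 0 := by
    intro x hx
    have h1 := hAR x x.2 hx
    have key : ∀ y ∈ J ^ n • (𝔞 : Submodule R R), ∃ hy : y ∈ 𝔞, g ⟨y, hy⟩ = 0 := by
      intro y hy
      refine Submodule.smul_induction_on hy ?_ ?_
      · intro a ha z hz
        refine ⟨𝔞.smul_mem a hz, ?_⟩
        have : (⟨a • z, 𝔞.smul_mem a hz⟩ : 𝔞) = a • ⟨z, hz⟩ := rfl
        rw [this, map_smul]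
        exact hn ⟨z, hz⟩ a ha
      · rintro y z ⟨hy1, hy2⟩ ⟨hz1, hz2⟩
        refine ⟨𝔞.add_mem hy1 hz1, ?_⟩
        have : (⟨y + z, 𝔞.add_mem hy1 hz1⟩ : 𝔞) = ⟨y, hy1⟩ + ⟨z, hz1⟩ := rfl
        rw [this, map_add, hy2, hz2, add_zero]
    obtain ⟨_, h2⟩ := key x h1
    exact h2
  -- Step 3: quotient maps
  let m := n + k
  let K : Submodule R 𝔞 := Submodule.comap 𝔞.subtype (J ^ m : Ideal R)
  have hK : K ≤ LinearMap.ker g := fun x hx => hkill x hx
  let hbar : (𝔞 ⧸ K) →ₗ[R] H := K.liftQ g hK
  let ι : (𝔞 ⧸ K) →ₗ[R] (R ⧸ (J ^ m : Ideal R)) := K.mapQ (J ^ m : Ideal R) 𝔞.subtype le_rfl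
  have hι : Function.Injective ι := by
    rw [← LinearMap.ker_eq_bot, LinearMap.ker_eq_bot']
    intro x hx
    induction x using Submodule.Quotient.induction_on with
    | H x =>
      rw [Submodule.mapQ_apply, Submodule.Quotient.mk_eq_zero] at hx
      exact (Submodule.Quotient.mk_eq_zero _).mpr hx
  let e : (𝔞 ⧸ K) ≃ₗ[R] LinearMap.range ι := LinearEquiv.ofInjective ι hι
  obtain ⟨ψ, hψ⟩ := hext m (LinearMap.range ι) (hbar ∘ₗ e.symm.toLinearMap)
  refine ⟨ψ ∘ₗ (J ^ m : Ideal R).mkQ, fun x hx => ?_⟩
  rw [LinearMap.comp_apply, Submodule.mkQ_apply]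
  have h1 : (Submodule.Quotient.mk x : R ⧸ (J ^ m : Ideal R)) =
      (LinearMap.range ι).subtype (e (Submodule.Quotient.mk ⟨x, hx⟩)) := by
    rw [Submodule.subtype_apply, LinearEquiv.ofInjective_apply, Submodule.mapQ_apply]; rfl
  rw [h1, ← LinearMap.comp_apply, hψ, LinearMap.comp_apply, LinearEquiv.coe_coe,
    LinearEquiv.symm_apply_apply]
  rfl

/-- **S5168** -/
theorem injective_iff_extension_finite (J : Ideal R) (H : Type u) [AddCommGroup H] [Module R H]
    (hH : LocCoh.IsPowerTorsion J H) :
    Module.Injective R H ↔ ∀ (M : Type u) [AddCommGroup M] [Module R M], Module.Finite R M →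
      (∃ k : ℕ, (J ^ k) • (⊤ : Submodule R M) = ⊥) → ∀ (N : Submodule R M) (g : N →ₗ[R] H),
        ∃ g' : M →ₗ[R] H, g'.comp N.subtype = g := by
  constructor
  · intro hinj M _ _ _ _ N g
    exact Module.Injective.extension_property R H _ _ N.subtype N.injective_subtype g
  · intro h
    apply injective_of_extension_on_quotients J hH
    intro m N g
    apply h (R ⧸ (J ^ m : Ideal R)) inferInstance ⟨m, ?_⟩ N g
    rw [eq_bot_iff]
    intro x hx
    refine Submodule.smul_induction_on hx ?_ ?_
    · intro a ha y _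
      obtain ⟨y, rfl⟩ := Submodule.Quotient.mk_surjective _ y
      rw [Submodule.mem_bot, ← Submodule.Quotient.mk_smul, Submodule.Quotient.mk_eq_zero]
      exact Ideal.mul_mem_right _ _ ha
    · intro y z hy hz
      exact Submodule.add_mem _ hy hz

end InjCritJ

end Groth.Agent.Helper1.MatlisL2
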