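import Mathlib
import Groth.Agent.Lib.Helper1.SerreAmple1
import Groth.Agent.Lib.Helper1.RpushLoc1
import Groth.Agent.Lib.Helper1.RelAmpleCrit
import Groth.Agent.Lib.Helper1.CohRestr

/-!
# Relative Serre vanishing (helper1)
-/

set_option backward.isDefEq.respectTransparency.types false
set_option synthInstance.maxHeartbeats 400000
set_option autoImplicit false
set_option linter.unusedSectionVars false
set_option linter.style.haveILetI false
set_option linter.unusedSimpArgs false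
universe u
open CategoryTheory CategoryTheory.Limits AlgebraicGeometry TopologicalSpace Opposite

namespace Groth.Agent.Helper1.RelSerre

open Groth.Agent.Helper1.TwForm Groth.Agent.Helper1

variable {X S : Scheme.{u}} (f : X ⟶ S)

/-- **relative Serre vanishing** -/
theorem rel_serre_vanishing [IsProper f] [IsNoetherian S] (L : X.Modules)
    (hL : PicF.IsInvertible L)
    (ha : ∀ W : S.Opens, IsAffineOpen W → CohB1.IsAmple (L.restrict (f ⁻¹ᵁ W).ι))
    (M : X.Modules) (hM : Coh.IsCoh M) :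
    ∃ n₀ : ℕ, ∀ n : ℕ, n₀ ≤ n → ∀ p : ℕ, 0 < p →
      IsZero ((Coh.RpushAb f p).obj (Coh.toAb (CohB1.tensorMod M (CohB1.tensorPow L n)))) := by
  classical
  obtain ⟨s, hs⟩ := isCompact_univ.elim_finite_subcover
    (fun i : S.affineOpens => (i.1 : Set S)) (fun i => i.1.2) (by
      intro x _
      obtain ⟨W, hW, hxW, -⟩ := (Opens.isBasis_iff_nbhd.mp S.isBasis_affineOpens)
        (show x ∈ (⊤ : S.Opens) from trivial)
      exact Set.mem_iUnion.2 ⟨⟨W, hW⟩, hxW⟩)
  have key : ∀ V : S.affineOpens, ∃ n₀ : ℕ, ∀ n : ℕ, n₀ ≤ n → ∀ p : ℕ, 0 < p →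
      Subsingleton (Coh.HHon X (CohB1.tensorMod M (CohB1.tensorPow L n)) (f ⁻¹ᵁ V.1) p) := by
    intro V
    haveI : IsNoetherianRing Γ(S, V.1) := IsLocallyNoetherian.component_noetherian V
    haveI : IsProper (RpushLoc.strMap f V.2) := by
      unfold RpushLoc.strMap
      infer_instance
    obtain ⟨n₀, hn₀⟩ := SerreAmple.serre_vanishing Γ(S, V.1) (RpushLoc.strMap f V.2)
      (ha V.1 V.2) (M.restrict (f ⁻¹ᵁ V.1).ι) (FinPush.isCoh_restrict _ M hM)
    refine ⟨n₀, fun n hn p hp => ?_⟩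
    have hloc := locFrame_of_isInvertible (ha V.1 V.2).1 (ha V.1 V.2).1
    let e := RelAmpleLib.restrictTwistIso (f ⁻¹ᵁ V.1).ι (Iso.refl (M.restrict (f ⁻¹ᵁ V.1).ι))
      hloc n
    exact RpushLoc.subsingleton_HH_of_iso e.symm p (hn₀ n hn p hp)
  choose N hN using key
  refine ⟨s.sup N, fun n hn p hp => ?_⟩
  haveI : M.IsQuasicoherent := hM.1
  haveI : (CohB1.tensorPow L n).IsQuasicoherent :=
    InvQc.isQuasicoherent_of_isInvertible _ (isInvertible_tensorPow hL n)
  haveI : (CohB1.tensorMod M (CohB1.tensorPow L n)).IsQuasicoherent :=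
    Groth.Agent.Lead.TilT.isQuasicoherent_tensorMod _ _
  refine RpushLoc.isZero_rpushAb_of_cover f _ p (fun i : s => i.1.1) (fun i => i.1.2) ?_
    (fun i => hN i.1 n (le_trans (Finset.le_sup i.2) hn) p hp)
  intro x
  have hx := hs (Set.mem_univ x)
  simp only [Set.mem_iUnion] at hx
  obtain ⟨i, hi, hxi⟩ := hx
  exact ⟨⟨i, hi⟩, hxi⟩

end Groth.Agent.Helper1.RelSerre
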