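import Mathlib
import Groth.Prelude.Def_Coh
import Groth.Prelude.Def_CechOX
import Groth.Agent.Lib.Helper1.QcProd
import Groth.Agent.Lib.Helper1.PushQc
import Groth.Agent.S0012
import Groth.Agent.S0007

set_option autoImplicit false
universe u
open CategoryTheory CategoryTheory.Limits AlgebraicGeometry TopologicalSpace Opposite

namespace Groth.Agent.Helper1.MonoAcyc

open Groth.Agent.Helper1.QcCech Groth.Agent.Helper1.QcExt

variable {X : Scheme.{u}}

/-- the inclusion of an affine open is an affine morphism, when affine opens have affine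
intersections -/
theorem isAffineHom_ι (hd : ∀ V W : X.Opens, IsAffineOpen V → IsAffineOpen W → IsAffineOpen (V ⊓ W))
    (W : X.Opens) (hW : IsAffineOpen W) : IsAffineHom W.ι := by
  constructor
  intro V hV
  rw [← Scheme.Hom.isAffineOpen_iff_of_isOpenImmersion W.ι,
    Scheme.Hom.image_preimage_eq_opensRange_inf, Scheme.Opens.opensRange_ι]
  exact hd W V hW hV

variable (M : X.Modules)

theorem restrict_map_app {K N : X.Modules} (φ : K ⟶ N) (W : X.Opens) (V : W.toScheme.Opens) :
    ((Scheme.Modules.restrictFunctor W.ι).map φ).app V = φ.app (W.ι ''ᵁ V) := rfl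

/-- the map to the product of the `(j_W)_*(M|_W)` is a monomorphism for a covering family -/
theorem mono_lift {ι : Type u} (U : ι → X.Opens) (hcov : ⨆ i, U i = ⊤) :
    Mono (Pi.lift fun i : ι => (Scheme.Modules.restrictAdjunction (U i).ι).unit.app M :
      M ⟶ ∏ᶜ fun i => (CechOX.pushRestr (U i)).obj M) := by
  set i := (Pi.lift fun i : ι => (Scheme.Modules.restrictAdjunction (U i).ι).unit.app M :
      M ⟶ ∏ᶜ fun i => (CechOX.pushRestr (U i)).obj M) with hi
  apply Preadditive.mono_of_kernel_zero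
  have h1 : ∀ k, (Scheme.Modules.restrictFunctor (U k).ι).map (kernel.ι i) = 0 := by
    intro k
    apply ((Scheme.Modules.restrictAdjunction (U k).ι).homEquiv _ _).injective
    rw [Adjunction.homEquiv_unit, Adjunction.homEquiv_unit, Functor.map_zero, comp_zero]
    have := (Scheme.Modules.restrictAdjunction (U k).ι).unit.naturality (kernel.ι i)
    simp only [Functor.id_obj, Functor.id_map, Functor.comp_obj, Functor.comp_map] at this
    rw [← this]
    have h2 : (Scheme.Modules.restrictAdjunction (U k).ι).unit.app M =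
        i ≫ Pi.π (fun i => (CechOX.pushRestr (U i)).obj M) k := by
      rw [hi, Pi.lift_π]
    rw [h2, ← Category.assoc, kernel.condition, zero_comp]
  apply Scheme.Modules.hom_ext
  intro V
  ext s
  change (kernel.ι i).app V s = 0
  apply TopCat.Sheaf.eq_of_locally_eq' (⟨M.presheaf, M.isSheaf⟩ : TopCat.Sheaf Ab X)
    (fun k => (U k).ι ''ᵁ ((U k).ι ⁻¹ᵁ V)) V
    (fun k => homOfLE (by
      rw [Scheme.Hom.image_preimage_eq_opensRange_inf]
      exact inf_le_right))
  · intro x hx
    have : x ∈ (⨆ k, U k : X.Opens) := by rw [hcov]; trivial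
    obtain ⟨k, hk⟩ := Opens.mem_iSup.1 this
    refine Opens.mem_iSup.2 ⟨k, ?_⟩
    rw [Scheme.Hom.image_preimage_eq_opensRange_inf, Scheme.Opens.opensRange_ι]
    exact ⟨hk, hx⟩
  · intro k
    have h3 := app_res (kernel.ι i) (O := V) (O' := (U k).ι ''ᵁ ((U k).ι ⁻¹ᵁ V)) (by
      rw [Scheme.Hom.image_preimage_eq_opensRange_inf]
      exact inf_le_right) s
    change res M _ ((kernel.ι i).app V s) = res M _ 0
    rw [← h3, map_zero, ← restrict_map_app, h1 k]
    rfl

theorem subsingleton_HH_pushRestr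
    (hd : ∀ V W : X.Opens, IsAffineOpen V → IsAffineOpen W → IsAffineOpen (V ⊓ W))
    (W : X.Opens) (hW : IsAffineOpen W) [M.IsQuasicoherent] (p : ℕ) (hp : 0 < p) :
    Subsingleton (Coh.HH X ((CechOX.pushRestr W).obj M) p) := by
  have := isAffineHom_ι hd W hW
  have : IsAffine W.toScheme := hW
  have : (M.restrict W.ι).IsQuasicoherent := inferInstance
  obtain ⟨e⟩ := Groth.Agent.S0012.result W.ι (M.restrict W.ι) p
  have := Groth.Agent.S0007.result W.toScheme (M.restrict W.ι) p hp
  exact e.symm.injective.subsingleton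

theorem isQuasicoherent_pushRestr
    (hd : ∀ V W : X.Opens, IsAffineOpen V → IsAffineOpen W → IsAffineOpen (V ⊓ W))
    (W : X.Opens) (hW : IsAffineOpen W) [M.IsQuasicoherent] :
    ((CechOX.pushRestr W).obj M).IsQuasicoherent := by
  have := isAffineHom_ι hd W hW
  have : (M.restrict W.ι).IsQuasicoherent := inferInstance
  exact PushQc.isQuasicoherent_pushforward W.ι (M.restrict W.ι)

theorem isZero_pi {C : Type*} [Category C] [HasZeroMorphisms C] {ι : Type*} (f : ι → C)
    [HasProduct f] (h : ∀ k, IsZero (f k)) : IsZero (∏ᶜ f) :=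
  (IsZero.iff_id_eq_zero _).2 (Pi.hom_ext _ _ fun k => (h k).eq_of_tgt _ _)

theorem subsingleton_HH_pi {ι : Type u} [Finite ι] (N : ι → X.Modules) (p : ℕ)
    (h : ∀ k, Subsingleton (Coh.HH X (N k) p)) : Subsingleton (Coh.HH X (∏ᶜ N) p) := by
  let Φ : X.Modules ⥤ AddCommGrpCat.{u} := T X ⋙ Sheaf.functorH.{u} _ p
  have hadd : Φ.Additive := inferInstance
  have := Fintype.ofFinite ι
  have hpres : PreservesLimit (Discrete.functor N) Φ := inferInstance
  let e : Φ.obj (∏ᶜ N) ≅ ∏ᶜ fun k => Φ.obj (N k) := PreservesProduct.iso Φ N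
  have hz : IsZero (∏ᶜ fun k => Φ.obj (N k)) := isZero_pi _ fun k => by
    have : Subsingleton (Φ.obj (N k)) := h k
    exact AddCommGrpCat.isZero_of_subsingleton _
  have hz' : IsZero (Φ.obj (∏ᶜ N)) := hz.of_iso e
  exact AddCommGrpCat.subsingleton_of_isZero hz'

/-- **every quasi-coherent module embeds into an acyclic quasi-coherent module** -/
theorem exists_mono_acyclic [CompactSpace X]
    (hd : ∀ V W : X.Opens, IsAffineOpen V → IsAffineOpen W → IsAffineOpen (V ⊓ W))
    [M.IsQuasicoherent] :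
    ∃ (M' : X.Modules) (i : M ⟶ M'), Mono i ∧ M'.IsQuasicoherent ∧
      ∀ p : ℕ, 0 < p → Subsingleton (Coh.HH X M' p) := by
  obtain ⟨s, hs⟩ := isCompact_univ.elim_finite_subcover
    (fun i : X.affineOpens => (i.1 : Set X)) (fun i => i.1.2) (by
      intro x _
      obtain ⟨_, ⟨W, hW, rfl⟩, hxW, -⟩ := X.isBasis_affineOpens.exists_subset_of_mem_open
        (Set.mem_univ x) isOpen_univ
      exact Set.mem_iUnion.2 ⟨⟨W, hW⟩, hxW⟩)
  let ι : Type u := {i : X.affineOpens // i ∈ s}
  let U : ι → X.Opens := fun i => i.1.1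
  have hcov : ⨆ i, U i = ⊤ := by
    apply le_antisymm le_top
    intro x _
    obtain ⟨i, hi⟩ := Set.mem_iUnion.1 (hs (Set.mem_univ x))
    obtain ⟨his, hxi⟩ := Set.mem_iUnion.1 hi
    exact Opens.mem_iSup.2 ⟨⟨i, his⟩, hxi⟩
  have hU : ∀ i, IsAffineOpen (U i) := fun i => i.1.2
  have hq : ∀ i, ((CechOX.pushRestr (U i)).obj M).IsQuasicoherent := fun i =>
    isQuasicoherent_pushRestr M hd (U i) (hU i)
  refine ⟨∏ᶜ fun i => (CechOX.pushRestr (U i)).obj M,
    Pi.lift fun i : ι => (Scheme.Modules.restrictAdjunction (U i).ι).unit.app M,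
    mono_lift M U hcov, QcAbel.isQuasicoherent_pi _, fun p hp => ?_⟩
  exact subsingleton_HH_pi _ p fun k => subsingleton_HH_pushRestr M hd (U k) (hU k) p hp

end Groth.Agent.Helper1.MonoAcyc
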