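import Mathlib
import Groth.Agent.Lib.Helper1.ProjF4
import Groth.Agent.Lib.Helper1.TildeTens
import Groth.Agent.Lib.Helper1.TwistAmpleOpen
import Groth.Agent.Lib.Helper1.InvInv2
import Groth.Agent.S0927

/-!
# Consequences of the projection formula (helper1)
-/

set_option autoImplicit false
universe u
open CategoryTheory CategoryTheory.Limits AlgebraicGeometry TopologicalSpace Opposite
  MonoidalCategory

namespace Groth.Agent.Helper1.ProjF

open Groth.Agent.Helper1.TildeTens Groth.Agent.Helper1.TwistTens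

section Gen
variable {X : Scheme.{u}}

/-- tensoring with a zero module -/
theorem isZero_tensorMod_right (E Z : X.Modules) (hZ : IsZero Z) :
    IsZero (CohB1.tensorMod E Z) :=
  ((tensR E).map_isZero hZ).of_iso (tensorModComm E Z)

theorem nonempty_tensorMod_unit_right (L : X.Modules) :
    Nonempty (CohB1.tensorMod L (Coh.structureModule X) ≅ L) := by
  obtain ⟨e⟩ := TwistAmpleOpen.nonempty_tensorMod_unit_iso L
  exact ⟨tensorModComm _ _ ≪≫ e⟩

/-- cohomology of isomorphic modules -/
theorem nonempty_HH_addEquiv_of_iso {M N : X.Modules} (e : M ≅ N) (p : ℕ) :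
    Nonempty (Coh.HH X M p ≃+ Coh.HH X N p) :=
  ⟨((ColimCoh.HHfunctor X p).mapIso e).addCommGroupIsoToAddEquiv⟩

end Gen

variable {X Y : Scheme.{u}} (f : X ⟶ Y) [HasInjectiveResolutions X.Modules]

/-- higher direct images of a pullback of a finite locally free module -/
theorem nonempty_rpush_pullback_iso (E : Y.Modules) (hE : FlatMod.IsFinLocFree E) (q : ℕ) :
    Nonempty ((Coh.Rpush f q).obj ((Scheme.Modules.pullback f).obj E) ≅
      CohB1.tensorMod E ((Coh.Rpush f q).obj (Coh.structureModule X))) := by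
  obtain ⟨e⟩ := Groth.Agent.S0927.result f (Coh.structureModule X) E hE q
  obtain ⟨u⟩ := nonempty_tensorMod_unit_right ((Scheme.Modules.pullback f).obj E)
  exact ⟨(Coh.Rpush f q).mapIso u.symm ≪≫ e.symm⟩


/-- cohomology of a pullback of a finite locally free module along a morphism with
`f_* O_X = O_Y` and vanishing higher direct images of the structure sheaf -/
theorem nonempty_HH_pullback_addEquiv
    (hR : ∀ i : ℕ, IsZero ((Coh.Rpush f (i + 1)).obj (Coh.structureModule X)))
    (h0 : Nonempty ((Coh.push f).obj (Coh.structureModule X) ≅ Coh.structureModule Y))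
    (E : Y.Modules) (hE : FlatMod.IsFinLocFree E) (p : ℕ) :
    Nonempty (Coh.HH X ((Scheme.Modules.pullback f).obj E) p ≃+ Coh.HH Y E p) := by
  set N := (Scheme.Modules.pullback f).obj E with hN
  -- vanishing of the higher direct images
  have hz : ∀ q : ℕ, IsZero ((Coh.RpushAb f (q + 1)).obj (Coh.toAb N)) := by
    intro q
    obtain ⟨e⟩ := nonempty_rpush_pullback_iso f E hE (q + 1)
    have h1 : IsZero ((Coh.Rpush f (q + 1)).obj N) :=
      (isZero_tensorMod_right E _ (hR q)).of_iso e
    obtain ⟨e'⟩ := RpushComp.nonempty_iso f N (q + 1)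
    exact (Functor.map_isZero (QcExt.T Y) h1).of_iso e'.symm
  -- the direct image
  obtain ⟨e0⟩ := nonempty_rpush_pullback_iso f E hE 0
  obtain ⟨u0⟩ := h0
  obtain ⟨u1⟩ := nonempty_tensorMod_unit_right E
  have i0 : (Coh.push f).obj N ≅ E :=
    ((Scheme.Modules.pushforward f).rightDerivedZeroIsoSelf.app N).symm ≪≫ e0 ≪≫
      tensorModCongrRight E
        ((Scheme.Modules.pushforward f).rightDerivedZeroIsoSelf.app (Coh.structureModule X) ≪≫ u0)
      ≪≫ u1
  obtain ⟨a⟩ := Groth.Agent.S0462.result f.base (Coh.toAb N) hz p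
  obtain ⟨b⟩ := nonempty_HH_addEquiv_of_iso i0 p
  exact ⟨a.trans b⟩

end Groth.Agent.Helper1.ProjF
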