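import Mathlib
import Groth.Agent.Lib.Helper1.AffStrat2
import Groth.Agent.Lib.Helper1.CohACC
import Groth.Agent.Lib.Helper1.QcAbel
import Groth.Agent.Lib.Helper1.QcPullGen
import Groth.Agent.Lib.Helper1.PushQc
import Groth.Agent.Lib.Helper1.Dv34
import Groth.Agent.S0012

set_option autoImplicit false
universe u
open CategoryTheory CategoryTheory.Limits AlgebraicGeometry TopologicalSpace Opposite

namespace Groth.Agent.Helper1.RpTw

open Scheme.Modules Groth.Agent.Helper1.QcCech Groth.Agent.Helper1

variable {X : Scheme.{u}}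

/-- a morphism of quasi-coherent modules which is bijective on the sections over all affine opens is an
isomorphism -/
theorem isIso_of_bijective_on_affines {M N : X.Modules} [M.IsQuasicoherent] [N.IsQuasicoherent]
    (φ : M ⟶ N) (h : ∀ W : X.Opens, IsAffineOpen W → Function.Bijective (φ.app W)) : IsIso φ := by
  have hcov : ⨆ W : X.affineOpens, (W.1 : X.Opens) = ⊤ := by
    apply le_antisymm le_top
    intro x _
    obtain ⟨_, ⟨W, hW, rfl⟩, hxW, -⟩ := X.isBasis_affineOpens.exists_subset_of_mem_open
      (Set.mem_univ x) isOpen_univ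
    exact Opens.mem_iSup.2 ⟨⟨W, hW⟩, hxW⟩
  haveI hqK : (kernel φ).IsQuasicoherent := QcAbel.isQuasicoherent_kernel φ
  have hK : IsZero (kernel φ) := by
    refine CohACC.isZero_of_affine_cover (kernel φ) (fun W : X.affineOpens => W.1) (fun W => W.2)
      hcov ?_
    intro W k
    apply FtLocal.app_injective_of_mono (kernel.ι φ) W.1
    apply (h W.1 W.2).1
    let S' : ShortComplex X.Modules := ShortComplex.mk (kernel.ι φ) φ (kernel.condition φ)
    have h0 := QcExt.app_zero S' W.1 k
    rw [map_zero, map_zero]
    exact h0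
  haveI : Mono φ := Preadditive.mono_of_kernel_zero (hK.eq_of_src _ _)
  exact CohACC.isIso_of_surjective_on_cover φ (fun W : X.affineOpens => W.1) (fun W => W.2) hcov
    (fun W => (h W.1 W.2).2)

/-- invariance of cohomology under isomorphisms of schemes -/
theorem subsingleton_HH_pullback_of_iso {X' : Scheme.{u}} (e : X' ≅ X) (M : X.Modules)
    [M.IsQuasicoherent] (i : ℕ) (h : Subsingleton (Coh.HH X M i)) :
    Subsingleton (Coh.HH X' ((Scheme.Modules.pullback e.hom).obj M) i) := by
  haveI hq1 : ((Scheme.Modules.pullback e.hom).obj M).IsQuasicoherent :=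
    QcPullGen.isQuasicoherent_pullback e.hom M
  obtain ⟨ε⟩ := Groth.Agent.S0012.result e.hom ((Scheme.Modules.pullback e.hom).obj M) i
  let P : X.Modules := (Scheme.Modules.pushforward e.hom).obj ((Scheme.Modules.pullback e.hom).obj M)
  haveI hqP : P.IsQuasicoherent :=
    PushQc.isQuasicoherent_pushforward e.hom ((Scheme.Modules.pullback e.hom).obj M)
  let η : M ⟶ P := (pullbackPushforwardAdjunction e.hom).unit.app M
  haveI : IsIso η := by
    apply isIso_of_bijective_on_affines
    intro W hW
    have hb := ConcreteCategory.bijective_of_isIso (e.hom.app W)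
    refine AffStrat.bijective_unit_app e.hom M hW (hW.preimage e.hom) hb.2 ?_
    intro r hr m
    have : r = 0 := hb.1 (by rw [map_zero]; exact hr)
    rw [this, zero_smul]
  haveI : Subsingleton (Coh.HH X P i) := Dv.subsingleton_HH_of_iso (asIso η).symm i h
  exact ε.toEquiv.subsingleton

end Groth.Agent.Helper1.RpTw
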