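import Mathlib
import Groth.Prelude.Def_Twist2
import Groth.Agent.Lib.Helper1.RpTw1
import Groth.Agent.Lib.Helper1.RpushLoc1
import Groth.Agent.Lib.Helper1.HProjLoc
import Groth.Agent.Lib.Helper1.VA5
import Groth.Agent.Lib.Helper4.TwistBC1
import Groth.Agent.Lib.Helper4.ClBridge2
import Groth.Agent.S0844

set_option autoImplicit false
universe u
open CategoryTheory CategoryTheory.Limits AlgebraicGeometry TopologicalSpace Opposite

namespace Groth.Agent.Helper1.RpTw

open Scheme.Modules Groth.Agent.Helper1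

variable (n : ℕ) (Y : Scheme.{u})

/-- the unique ring homomorphism from the integers (lifted) -/
noncomputable def ρZ (R : Type u) [CommRing R] : ULift.{u} ℤ →+* R :=
  (Int.castRingHom R).comp (ULift.ringEquiv : ULift.{u} ℤ ≃+* ℤ).toRingHom

/-- the preimage of an affine open of the base in projective space over the base is projective space
over its coordinate ring -/
theorem exists_iso_chart (W : Y.Opens) (hW : IsAffineOpen W) :
    ∃ e : (↑((CohB1.ProjSpaceOver.toBase n Y) ⁻¹ᵁ W) : Scheme.{u}) ≅ CohB1.ProjSpace n Γ(Y, W),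
      e.hom ≫ Proj.map (HProjLoc.polyMap n (ρZ Γ(Y, W))) (HProjLoc.hirr_polyMap n (ρZ Γ(Y, W))) =
        ((CohB1.ProjSpaceOver.toBase n Y) ⁻¹ᵁ W).ι ≫
          pullback.fst (CohB1.ProjSpace.toSpec n (ULift.{u} ℤ)) (specULiftZIsTerminal.from Y) := by
  let f := CohB1.ProjSpaceOver.toBase n Y
  let pr₁ := pullback.fst (CohB1.ProjSpace.toSpec n (ULift.{u} ℤ)) (specULiftZIsTerminal.from Y)
  have sq1 : IsPullback (f ⁻¹ᵁ W).ι (f ∣_ W) f W.ι := (isPullback_morphismRestrict f W).flip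
  have sq2 : IsPullback pr₁ f (CohB1.ProjSpace.toSpec n (ULift.{u} ℤ))
      (specULiftZIsTerminal.from Y) := IsPullback.of_hasPullback _ _
  have sq3 := sq1.paste_horiz sq2
  have sq4 : IsPullback (W.ι ≫ specULiftZIsTerminal.from Y) hW.isoSpec.hom
      (𝟙 (Spec (CommRingCat.of (ULift.{u} ℤ))))
      (Spec.map (CommRingCat.ofHom (ρZ Γ(Y, W)))) :=
    IsPullback.of_vert_isIso ⟨specULiftZIsTerminal.hom_ext _ _⟩
  have sq5 := sq3.paste_vert sq4
  rw [Category.comp_id] at sq5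
  have sq6 := HProjLoc.isPullback_projSpace n (ρZ Γ(Y, W))
  exact ⟨sq5.isoIsPullback _ _ sq6, sq5.isoIsPullback_hom_fst _ _ sq6⟩


/-- the cohomology of `O(d)` over the preimage of an affine open of the base -/
theorem subsingleton_HHon_chart (d : ℤ) (W : Y.Opens) (hW : IsAffineOpen W) (i : ℕ)
    (h₀ : ¬ (i = 0 ∧ 0 ≤ d)) (hn : ¬ (i = n ∧ d ≤ -((n : ℤ) + 1))) :
    Subsingleton (Coh.HHon (CohB1.ProjSpaceOver n Y) (Twist.twistOver n Y d)
      ((CohB1.ProjSpaceOver.toBase n Y) ⁻¹ᵁ W) i) := by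
  obtain ⟨e, he⟩ := exists_iso_chart n Y W hW
  obtain ⟨τ⟩ := Groth.Agent.Lib.Helper4.TwistBC1.twist_bc n (ρZ Γ(Y, W)) d
  have h0 := Groth.Agent.S0844.result Γ(Y, W) n d i h₀ hn
  haveI : (Twist.twistProjSpace n Γ(Y, W) d).IsQuasicoherent :=
    InvQc.isQuasicoherent_of_isInvertible _
      (Groth.Agent.Lib.Helper4.ClBridge2.isInvertible_twist n Γ(Y, W) d)
  have h1 := subsingleton_HH_pullback_of_iso e (Twist.twistProjSpace n Γ(Y, W) d) i h0
  let U := (CohB1.ProjSpaceOver.toBase n Y) ⁻¹ᵁ W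
  let pr₁ := pullback.fst (CohB1.ProjSpace.toSpec n (ULift.{u} ℤ)) (specULiftZIsTerminal.from Y)
  let O := Twist.twistProjSpace n (ULift.{u} ℤ) d
  let pm := Proj.map (HProjLoc.polyMap n (ρZ Γ(Y, W))) (HProjLoc.hirr_polyMap n (ρZ Γ(Y, W)))
  let ι1 : (Twist.twistOver n Y d).restrict U.ι ≅
      (Scheme.Modules.pullback e.hom).obj (Twist.twistProjSpace n Γ(Y, W) d) :=
    (Scheme.Modules.restrictFunctorIsoPullback U.ι).app (Twist.twistOver n Y d) ≪≫
      (Scheme.Modules.pullbackComp U.ι pr₁).app O ≪≫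
      (Scheme.Modules.pullbackCongr he.symm).app O ≪≫
      ((Scheme.Modules.pullbackComp e.hom pm).app O).symm ≪≫
      (Scheme.Modules.pullback e.hom).mapIso τ
  exact Dv.subsingleton_HH_of_iso ι1 i h1

/-- **vanishing of the higher direct images of the twisting sheaves on projective space over a
base** -/
theorem isZero_rpushAb_twistOver (i : ℕ) (d : ℤ)
    (h : ¬ ((i = 0 ∧ 0 ≤ d) ∨ (i = n ∧ d ≤ -((n : ℤ) + 1)))) :
    IsZero ((Coh.RpushAb (CohB1.ProjSpaceOver.toBase n Y) i).obj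
      (Coh.toAb (Twist.twistOver n Y d))) := by
  have hsep0 : IsSeparated (CohB1.ProjSpace.toSpec n (ULift.{u} ℤ)) := VA5.isSeparated_toSpec n _
  have hqc0 : QuasiCompact (CohB1.ProjSpace.toSpec n (ULift.{u} ℤ)) := VA5.quasiCompact_toSpec n _
  haveI hsep : IsSeparated (CohB1.ProjSpaceOver.toBase n Y) := by
    have : IsSeparated (pullback.snd (CohB1.ProjSpace.toSpec n (ULift.{u} ℤ))
      (specULiftZIsTerminal.from Y)) := inferInstance
    exact this
  haveI hqc : QuasiCompact (CohB1.ProjSpaceOver.toBase n Y) := by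
    have : QuasiCompact (pullback.snd (CohB1.ProjSpace.toSpec n (ULift.{u} ℤ))
      (specULiftZIsTerminal.from Y)) := inferInstance
    exact this
  haveI : (Twist.twistProjSpace n (ULift.{u} ℤ) d).IsQuasicoherent :=
    InvQc.isQuasicoherent_of_isInvertible _
      (Groth.Agent.Lib.Helper4.ClBridge2.isInvertible_twist n (ULift.{u} ℤ) d)
  haveI : (Twist.twistOver n Y d).IsQuasicoherent :=
    QcPullGen.isQuasicoherent_pullback _ _
  rw [not_or] at h
  refine RpushLoc.isZero_rpushAb_of_cover (CohB1.ProjSpaceOver.toBase n Y) (Twist.twistOver n Y d) i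
    (fun W : Y.affineOpens => W.1) (fun W => W.2) ?_ ?_
  · intro x
    obtain ⟨_, ⟨W, hW, rfl⟩, hxW, -⟩ := Y.isBasis_affineOpens.exists_subset_of_mem_open
      (Set.mem_univ x) isOpen_univ
    exact ⟨⟨W, hW⟩, hxW⟩
  · intro W
    exact subsingleton_HHon_chart n Y d W.1 W.2 i h.1 h.2

end Groth.Agent.Helper1.RpTw
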