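import Mathlib
import Groth.Agent.Lib.Helper1.SecOps2
import Groth.Agent.Lib.Helper1.TwistExt2
import Groth.Agent.Lib.Helper1.SnapCart2
import Groth.Agent.Lib.Helper1.AmpleQA2
import Groth.Agent.Lib.Helper2.Dual.ZeroPull
import Groth.Agent.Lib.Lead.PicCalc
import Groth.Agent.S1576

/-!
# Regular sections of twists generating at finitely many points (helper1)

On a Noetherian scheme with an ample invertible module, every invertible module is a difference
of effective Cartier divisors missing a given finite set of points.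
-/

set_option autoImplicit false
universe u
open CategoryTheory CategoryTheory.Limits AlgebraicGeometry TopologicalSpace Opposite

namespace Groth.Agent.Helper1.AmpleAvoid

open Groth.Agent.Helper1.QcCech Groth.Agent.Helper1.SubSh Groth.Agent.Helper1.LGen
open Groth.Agent.Helper1.TmulLib Groth.Agent.Helper1 Groth.Agent.Helper1.TwistSec
open Groth.Agent.Helper1.TensGen Groth.Agent.Helper1.TwForm Groth.Agent.Helper1.AmpleLib
open Groth.Agent.Helper1.SecOps Groth.Agent.Helper1.Dv Groth.Agent.Lead.PicCalc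

variable {X : Scheme.{u}}

section Stalk

/-- a section is injective on stalks at the points where it generates -/
theorem stalkL_injective_of_mem_genLocus {B : X.Modules} (τ : Coh.structureModule X ⟶ B) (x : X)
    (hx : x ∈ CohB1.genLocus B τ) : Function.Injective (stalkL τ x) := by
  have hbij : ∀ V' : X.Opens, V' ≤ CohB1.genLocus B τ → Function.Bijective (τ.app V') :=
    fun V' h => good_of_le_genLocus τ V' h
  rw [injective_iff_map_eq_zero]
  intro z hz
  obtain ⟨U, hxU, s, rfl⟩ := TopCat.Presheaf.exists_germ_eq (Coh.structureModule X).presheaf z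
  rw [stalkL_germ] at hz
  have hz' : B.presheaf.germ U x hxU (τ.app U s) = B.presheaf.germ U x hxU 0 :=
    hz.trans (map_zero _).symm
  obtain ⟨W, hxW, iWU, iWU', hW⟩ := TopCat.Presheaf.germ_eq B.presheaf x hxU hxU _ _ hz'
  have hW'U : W ⊓ CohB1.genLocus B τ ≤ U := inf_le_left.trans iWU.le
  have h1 : τ.app (W ⊓ CohB1.genLocus B τ) (res (Coh.structureModule X) hW'U s) = 0 := by
    rw [QcExt.app_res]
    have h2 : res B iWU.le (τ.app U s) = 0 := by
      refine hW.trans ?_
      exact map_zero _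
    have h3 := congrArg (res B (inf_le_left : W ⊓ CohB1.genLocus B τ ≤ W)) h2
    rwa [res_res, map_zero] at h3
  have h4 : res (Coh.structureModule X) hW'U s = 0 :=
    (hbij (W ⊓ CohB1.genLocus B τ) inf_le_right).1 (h1.trans (map_zero _).symm)
  have h5 := TopCat.Presheaf.germ_res_apply (Coh.structureModule X).presheaf (homOfLE hW'U) x
    ⟨hxW, hx⟩ s
  rw [← h5]
  change (Coh.structureModule X).presheaf.germ (W ⊓ CohB1.genLocus B τ) x _
    (res (Coh.structureModule X) hW'U s) = 0
  rw [h4, map_zero]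

/-- a section of an invertible module which generates at all associated points is regular -/
theorem mono_of_assPoints_le_genLocus [IsLocallyNoetherian X] {B : X.Modules}
    (hB : PicF.IsInvertible B) (τ : Coh.structureModule X ⟶ B)
    (h : ∀ x : X, Curv2.IsAssPoint (Coh.structureModule X) x → x ∈ CohB1.genLocus B τ) :
    Mono τ := by
  haveI : (Coh.structureModule X).IsQuasicoherent :=
    InvQc.isQuasicoherent_of_isInvertible _ GenLoc.isInvertible_O
  haveI : B.IsQuasicoherent := InvQc.isQuasicoherent_of_isInvertible _ hB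
  apply Preadditive.mono_of_isZero_kernel
  have hKq : Coh.IsQCoh (kernel τ) := QcAbel.isQuasicoherent_kernel τ
  rw [Groth.Agent.S1704.result X _ hKq]
  intro x hxK
  have hinjK := stalkL_injective_of_mono (kernel.ι τ) x
  have ha : Curv2.IsAssPoint (Coh.structureModule X) x :=
    IsAssociatedPrime.map_of_injective (f := stalkL (kernel.ι τ) x) hxK hinjK
  have hinj : Function.Injective (stalkL τ x) := stalkL_injective_of_mem_genLocus τ x (h x ha)
  have hzero : ∀ v, stalkL (kernel.ι τ) x v = 0 := by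
    intro v
    apply hinj
    rw [map_zero, ← LinearMap.comp_apply, ← stalkL_comp, kernel.condition]
    change ((Groth.Agent.Lib.Helper5.StalkAdj.stalkSh X x).map (0 : kernel τ ⟶ _)).hom v = 0
    rw [Functor.map_zero]
    rfl
  haveI : Subsingleton ((kernel τ).presheaf.stalk x) :=
    subsingleton_of_forall_eq 0 fun v => hinjK ((hzero v).trans (map_zero _).symm)
  have hempty := associatedPrimes.eq_empty_of_subsingleton
    (R := X.presheaf.stalk x) (M := (kernel τ).presheaf.stalk x)
  have : IsLocalRing.maximalIdeal (X.presheaf.stalk x) ∈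
      associatedPrimes (X.presheaf.stalk x) ((kernel τ).presheaf.stalk x) := hxK
  rw [hempty] at this
  exact this

end Stalk

section Twist

/-- a local generator of `M` over `X_s` extends, after twisting by a high power of `s`, to a regular
global section generating over `X_s` -/
theorem exists_regular_twist [CompactSpace X] [QuasiSeparatedSpace X] [IsLocallyNoetherian X]
    {K : X.Modules} (hK : PicF.IsInvertible K) (s : Coh.structureModule X ⟶ K)
    {M : X.Modules} (hM : PicF.IsInvertible M) (a : Γ(M, CohB1.genLocus K s))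
    (ha : IsGen M (CohB1.genLocus K s) a)
    (hass : ∀ x : X, Curv2.IsAssPoint (Coh.structureModule X) x → x ∈ CohB1.genLocus K s) :
    ∃ m₀ : ℕ, ∀ m : ℕ, m₀ ≤ m →
      ∃ τ : Coh.structureModule X ⟶ CohB1.tensorMod M (CohB1.tensorPow K m),
        Mono τ ∧ CohB1.genLocus K s ≤ CohB1.genLocus _ τ := by
  haveI : M.IsQuasicoherent := InvQc.isQuasicoherent_of_isInvertible _ hM
  obtain ⟨m₀, hm₀⟩ := exists_twist_extends_ge hK s M a
  refine ⟨m₀, fun m hm => ?_⟩
  obtain ⟨t', ht'⟩ := hm₀ m hm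
  have hB : PicF.IsInvertible (CohB1.tensorMod M (CohB1.tensorPow K m)) :=
    isInvertible_tensorMod hM (isInvertible_tensorPow hK m)
  have hle : CohB1.genLocus K s ≤
      CohB1.genLocus _ (TwistAmple.homOfSec (CohB1.tensorMod M (CohB1.tensorPow K m)) t') := by
    apply le_genLocus_of_isGen
    rw [secVal_homOfSec, ht', twist_eq]
    exact isGen_tm ha (isGen_gpow (isGen_secVal s le_rfl) m)
  exact ⟨TwistAmple.homOfSec _ t', mono_of_assPoints_le_genLocus hB _ (fun x hx => hle (hass x hx)),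
    hle⟩

/-- **core**: simultaneous regular sections of `K^m` and `M ⊗ K^m` generating at a finite set -/
theorem core [IsNoetherian X] {L : X.Modules} (hL : CohB1.IsAmple L) {M : X.Modules}
    (hM : PicF.IsInvertible M) (E : Set X) (hE : E.Finite) :
    ∃ (K : X.Modules) (_ : PicF.IsInvertible K) (m : ℕ)
      (τ₁ : Coh.structureModule X ⟶
        CohB1.tensorMod (Coh.structureModule X) (CohB1.tensorPow K m))
      (τ₂ : Coh.structureModule X ⟶ CohB1.tensorMod M (CohB1.tensorPow K m)),
      Mono τ₁ ∧ Mono τ₂ ∧ E ⊆ CohB1.genLocus _ τ₁ ∧ E ⊆ CohB1.genLocus _ τ₂ ∧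
        ∃ n : ℕ, K = CohB1.tensorPow L n := by
  classical
  haveI : QuasiSeparatedSpace X := quasiSeparatedSpace_of_isAmple hL
  have hAss : {x : X | x ∈ (⊤ : X.Opens) ∧
      Curv2.IsAssPoint (Coh.structureModule X) x}.Finite :=
    Groth.Agent.S1576.result X _ (isCoh_structureModule X) ⊤ (by simpa using isCompact_univ)
  have hSfin : (E ∪ {x : X | x ∈ (⊤ : X.Opens) ∧
      Curv2.IsAssPoint (Coh.structureModule X) x}).Finite := hE.union hAss
  obtain ⟨n₀, s₀, hS₀, -, haff₀⟩ :=
    exists_affine_genLocus_of_finite hL _ hSfin ⊤ (fun _ _ => trivial)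
  obtain ⟨U, -, hSU, -, a, ha⟩ := exists_trivializing_open_of_affine hM _ haff₀ _ hSfin hS₀
  obtain ⟨n₁, s₁, hS₁, hs₁U, -⟩ := exists_affine_genLocus_of_finite hL _ hSfin U hSU
  have hK : PicF.IsInvertible (CohB1.tensorPow L (n₁ + 1)) := isInvertible_tensorPow hL.1 (n₁ + 1)
  have hass : ∀ x : X, Curv2.IsAssPoint (Coh.structureModule X) x →
      x ∈ CohB1.genLocus (CohB1.tensorPow L (n₁ + 1)) s₁ :=
    fun x hx => hS₁ (Or.inr ⟨trivial, hx⟩)
  obtain ⟨m₁, hm₁⟩ := exists_regular_twist hK s₁ GenLoc.isInvertible_O (one' _) (isGen_one' _) hass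
  obtain ⟨m₂, hm₂⟩ := exists_regular_twist hK s₁ hM (res M hs₁U a) (ha.res hs₁U) hass
  obtain ⟨τ₁, hτ₁, hle₁⟩ := hm₁ (max m₁ m₂) (le_max_left _ _)
  obtain ⟨τ₂, hτ₂, hle₂⟩ := hm₂ (max m₁ m₂) (le_max_right _ _)
  exact ⟨_, hK, max m₁ m₂, τ₁, τ₂, hτ₁, hτ₂, fun x hx => hle₁ (hS₁ (Or.inl hx)),
    fun x hx => hle₂ (hS₁ (Or.inl hx)), n₁ + 1, rfl⟩

end Twist

section Zero

/-- the zero scheme of a regular section of an invertible module is an effective Cartier divisor -/
theorem isEffCartier_zeroScheme {B : X.Modules} (hB : PicF.IsInvertible B)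
    (τ : Coh.structureModule X ⟶ B) [Mono τ] :
    BlowUp.IsEffCartierIdeal (PicF2.zeroScheme B τ) := by
  rw [← Groth.Agent.S8914.result]
  obtain ⟨e⟩ := Groth.Agent.Helper2.ZeroConn.isInverseOf_idealMod_zeroScheme hB τ
  exact CurveCart.isInvertible_left_of_tensor_iso hB (commIso _ _ ≪≫ e)

/-- the zero scheme misses the points where the section generates -/
theorem not_mem_support_zeroScheme {B : X.Modules} (hB : PicF.IsInvertible B)
    (τ : Coh.structureModule X ⟶ B) [Mono τ] (x : X) (hx : x ∈ CohB1.genLocus B τ) :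
    x ∉ (PicF2.zeroScheme B τ).support := by
  obtain ⟨W, a, hxW, ha⟩ := exists_isGen hB x
  obtain ⟨U, hU, hxU, hUW⟩ := exists_isAffineOpen_mem_and_subset (U := W) (x := x) hxW
  have he : IsGen B U (res B hUW a) := ha.res hUW
  obtain ⟨c, hc⟩ := he.exists_coeff (secVal τ U)
  rw [Groth.Agent.Helper2.ZeroPull.mem_support_zeroScheme_iff hB τ ⟨U, hU⟩ he c hc.symm x hxU,
    not_not]
  exact (mem_genLocus_iff_of_isGen τ he c hc x hxU).1 hx

end Zero

section Main

theorem pic_aux {G : Type*} [CommMonoid G] (n n' k i₁ i₂ : G) (h1 : n' * n = 1)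
    (h2 : 1 * k * i₁ = 1) (h3 : n' * k * i₂ = 1) : n * i₁ = i₂ := by
  calc n * i₁ = (n * i₁) * (n' * k * i₂) := by rw [h3, mul_one]
    _ = (n' * n) * (k * i₁) * i₂ := by ac_rfl
    _ = i₂ := by rw [one_mul] at h2; rw [h1, h2, one_mul, one_mul]

/-- **every invertible module is a difference of effective Cartier divisors missing a given finite
set**, on a Noetherian scheme with an ample module -/
theorem main_diff (X : Scheme.{u}) [IsNoetherian X] (L : X.Modules) (hL : CohB1.IsAmple L)
    (N : X.Modules) (hN : PicF.IsInvertible N) (E : Set X) (hE : E.Finite) :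
    ∃ D D' : X.IdealSheafData, BlowUp.IsEffCartierIdeal D ∧ BlowUp.IsEffCartierIdeal D' ∧
      Disjoint E (D.support : Set X) ∧ Disjoint E (D'.support : Set X) ∧
      Nonempty (CohB1.tensorMod N (ClSub.idealMod D) ≅ ClSub.idealMod D') := by
  obtain ⟨N', hN', ⟨eN⟩⟩ := InvInv2.exists_inverse hN
  obtain ⟨K, hK, m, τ₁, τ₂, hτ₁, hτ₂, hE₁, hE₂, -⟩ := core hL hN' E hE
  haveI := hτ₁
  haveI := hτ₂
  have hB₁ : PicF.IsInvertible (CohB1.tensorMod (Coh.structureModule X) (CohB1.tensorPow K m)) :=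
    isInvertible_tensorMod GenLoc.isInvertible_O (isInvertible_tensorPow hK m)
  have hB₂ : PicF.IsInvertible (CohB1.tensorMod N' (CohB1.tensorPow K m)) :=
    isInvertible_tensorMod hN' (isInvertible_tensorPow hK m)
  refine ⟨PicF2.zeroScheme _ τ₁, PicF2.zeroScheme _ τ₂, isEffCartier_zeroScheme hB₁ τ₁,
    isEffCartier_zeroScheme hB₂ τ₂, ?_, ?_, ?_⟩
  · rw [Set.disjoint_left]
    intro x hx
    exact not_mem_support_zeroScheme hB₁ τ₁ x (hE₁ hx)
  · rw [Set.disjoint_left]
    intro x hx
    exact not_mem_support_zeroScheme hB₂ τ₂ x (hE₂ hx)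
  · obtain ⟨e₁⟩ := Groth.Agent.Helper2.ZeroConn.isInverseOf_idealMod_zeroScheme hB₁ τ₁
    obtain ⟨e₂⟩ := Groth.Agent.Helper2.ZeroConn.isInverseOf_idealMod_zeroScheme hB₂ τ₂
    apply nonempty_iso_of_cl_eq
    have h1 : PicF.cl N' * PicF.cl N = 1 := cl_eq_of_iso eN
    have h2 : (1 : PicF.Cl X) * PicF.cl (CohB1.tensorPow K m) *
        PicF.cl (ClSub.idealMod (PicF2.zeroScheme _ τ₁)) = 1 := cl_eq_of_iso e₁
    have h3 : PicF.cl N' * PicF.cl (CohB1.tensorPow K m) *
        PicF.cl (ClSub.idealMod (PicF2.zeroScheme _ τ₂)) = 1 := cl_eq_of_iso e₂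
    exact pic_aux _ _ _ _ _ h1 h2 h3

theorem cl_tensorPow' (M : X.Modules) (n : ℕ) :
    PicF.cl (CohB1.tensorPow M n) = PicF.cl M ^ n := by
  induction n with
  | zero =>
    rw [pow_zero]
    rfl
  | succ n ih =>
    show PicF.cl (CohB1.tensorMod (CohB1.tensorPow M n) M) = _
    rw [cl_tensor, ih, pow_succ]

/-- regular sections of invertible modules on quasi-affine Noetherian schemes generating at a
finite set of points -/
theorem main_qaff (X : Scheme.{u}) [IsNoetherian X] [X.IsQuasiAffine] (E : Set X) (hE : E.Finite)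
    (L : X.Modules) (hL : PicF.IsInvertible L) :
    ∃ φ : Coh.structureModule X ⟶ L, Mono φ ∧
      ∀ x ∈ E, ∃ W : X.Opens, x ∈ W ∧ IsIso ((Scheme.Modules.restrictFunctor W.ι).map φ) := by
  have hO : CohB1.IsAmple (Coh.structureModule X) := GenLoc.isAmple_O_of_isQuasiAffine
  obtain ⟨K, hK, m, τ₁, τ₂, -, hτ₂, -, hE₂, n, hKn⟩ := core hO hL E hE
  have hcl : PicF.cl (CohB1.tensorMod L (CohB1.tensorPow K m)) = PicF.cl L := by
    rw [cl_tensor, cl_tensorPow', hKn, cl_tensorPow', cl_one, one_pow, one_pow, mul_one]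
  obtain ⟨e⟩ := nonempty_iso_of_cl_eq hcl
  haveI := hτ₂
  refine ⟨τ₂ ≫ e.hom, mono_comp _ _, fun x hx => ?_⟩
  have hx' : x ∈ CohB1.genLocus _ τ₂ := hE₂ hx
  obtain ⟨W, hW, hxW⟩ : ∃ W : X.Opens,
      IsIso ((Scheme.Modules.restrictFunctor W.ι).map τ₂) ∧ x ∈ W := by
    rw [CohB1.genLocus, Opens.mem_sSup] at hx'
    exact hx'
  refine ⟨W, hxW, ?_⟩
  haveI : IsIso ((Scheme.Modules.restrictFunctor W.ι).map τ₂) := hW
  rw [Functor.map_comp]
  infer_instance

end Main

end Groth.Agent.Helper1.AmpleAvoid
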