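import Mathlib
import Groth.Prelude.Def_BlowUp2
import Groth.Agent.Lib.Helper1.AmpleCrit
import Groth.Agent.Lib.Helper1.CohRestr

set_option autoImplicit false
universe u
open CategoryTheory CategoryTheory.Limits AlgebraicGeometry TopologicalSpace Opposite

namespace Groth.Agent.Helper1.AmpleLib

open Groth.Agent.Helper1.QcCech Groth.Agent.Helper1.SubSh Groth.Agent.Helper1.LGen
open Groth.Agent.Helper1.TmulLib Groth.Agent.Helper1 Groth.Agent.Helper1.TwistSec
open Groth.Agent.Helper1.TensGen Groth.Agent.Helper1.TwForm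

variable {X : Scheme.{u}}

/-- key step of the ampleness criterion, for a general morphism `J ⟶ O` whose sections vanish
outside `U` -/
theorem exists_genLocus_of_gg_hom {L : X.Modules} (hL : PicF.IsInvertible L) (U : X.Opens)
    (hU : IsAffineOpen U) (a : Γ(L, U)) (ha : IsGen L U a)
    (J : X.Modules) (i : J ⟶ Coh.structureModule X)
    (hvan : ∀ (W : X.Opens) (j' : Γ(J, W)) (z : X),
      z ∈ X.basicOpen (show Γ(X, W) from i.app W j') → z ∈ U) (n : ℕ)
    (hgg : Curv2.IsGloballyGenerated (CohB1.tensorMod J (CohB1.tensorPow L n)))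
    (y : Γ(J, U)) (hy : i.app U y = (1 : Γ(X, U)))
    (x : X) (hxU : x ∈ U) :
    ∃ s : Coh.structureModule X ⟶ CohB1.tensorPow L n,
      x ∈ CohB1.genLocus _ s ∧ CohB1.genLocus _ s ≤ U ∧ IsAffineOpen (CohB1.genLocus _ s) := by
  have hloc := locFrame_of_isInvertible hL hL
  let T := (Tw.self L L J).tensorR ((Tw.fst L L).pow n)
  let T' := ((Tw.fst L L).pow n).cast (zero_add _).symm (zero_add _).symm
  let ψ := Tw.map i T T' hloc
  let fU : Frame L L U := ⟨a, a, ha, ha⟩
  have hψ : ψ.app U (T.θ U fU y) = T'.gen U fU := by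
    rw [Tw.map_θ]
    have : i.app U y = one' U := hy
    rw [this]
    rfl
  obtain ⟨σ, hσ⟩ := exists_section_of_gg_map hgg ψ (T'.isGen_gen U fU) (T.θ U fU y) hψ x hxU
  set s := TwistAmple.homOfSec (CohB1.tensorPow L n) (ψ.app ⊤ σ) with hs
  have hle : CohB1.genLocus _ s ≤ U := by
    intro z hz
    obtain ⟨W, hzW, ⟨f⟩⟩ := hloc z
    obtain ⟨j', hj'⟩ := (T.bij W f).2 (QcCech.res _ (le_top : W ≤ ⊤) σ)
    have h1 : (show Γ(X, W) from i.app W j') • T'.gen W f = secVal s W := by
      rw [hs, secVal_homOfSec, ← QcExt.app_res, ← hj', Tw.map_θ, ← Tw.θ_eq_smul_gen]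
    have h2 := genLocus_inf_eq_basicOpen s (T'.isGen_gen W f) _ h1
    have h3 : z ∈ X.basicOpen (show Γ(X, W) from i.app W j') := by
      rw [← h2]; exact ⟨hz, hzW⟩
    exact hvan W j' z h3
  exact ⟨s, hσ, hle, isAffineOpen_genLocus_of_le (isInvertible_tensorPow hL n) s hU hle⟩

/-- the image of `J(V) ⟶ O(V)` as an ideal -/
def imgIdeal {J : X.Modules} (i : J ⟶ Coh.structureModule X) (V : X.Opens) : Ideal Γ(X, V) where
  carrier := {r | ∃ j : Γ(J, V), (show Γ(X, V) from i.app V j) = r}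
  add_mem' := by
    rintro _ _ ⟨j, rfl⟩ ⟨j', rfl⟩
    exact ⟨j + j', map_add _ _ _⟩
  zero_mem' := ⟨0, map_zero _⟩
  smul_mem' := by
    rintro c _ ⟨j, rfl⟩
    exact ⟨c • j, Scheme.Modules.Hom.app_smul i c j⟩

theorem mem_imgIdeal {J : X.Modules} (i : J ⟶ Coh.structureModule X) (V : X.Opens)
    (r : Γ(X, V)) : r ∈ imgIdeal i V ↔ ∃ j : Γ(J, V), (show Γ(X, V) from i.app V j) = r :=
  Iff.rfl

/-- the ideal sheaf which is the image of a morphism from a quasi-coherent module to `O` -/
noncomputable def imageIdeal (J : X.Modules) [J.IsQuasicoherent]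
    (i : J ⟶ Coh.structureModule X) : X.IdealSheafData where
  ideal V := imgIdeal i V.1
  map_ideal_basicOpen := by
    intro V f
    apply le_antisymm
    · rw [Ideal.map_le_iff_le_comap]
      rintro _ ⟨j, rfl⟩
      exact ⟨QcCech.res J (X.basicOpen_le f) j, QcExt.app_res i (X.basicOpen_le f) j⟩
    · rintro _ ⟨j', rfl⟩
      obtain ⟨n, t, ht⟩ := QcAbel.extP_of_isQuasicoherent J V.1 V.2 f (X.basicOpen f) rfl j'
      have hu : IsUnit (resR (X.basicOpen_le f) f) :=
        (GenLoc.isUnit_res_iff f (X.basicOpen f) (X.basicOpen_le f)).2 le_rfl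
      obtain ⟨u, hu'⟩ := hu
      have h1 : j' = ((u⁻¹ ^ n : (Γ(X, X.basicOpen f))ˣ) : Γ(X, X.basicOpen f)) •
          QcCech.res J (X.basicOpen_le f) t := by
        rw [ht, ← hu', smul_smul, ← Units.val_pow_eq_pow_val, ← Units.val_mul, ← mul_pow,
          inv_mul_cancel, one_pow, Units.val_one, one_smul]
      have h2 : (show Γ(X, X.basicOpen f) from i.app (X.basicOpen f) j') =
          ((u⁻¹ ^ n : (Γ(X, X.basicOpen f))ˣ) : Γ(X, X.basicOpen f)) *
            (X.presheaf.map (homOfLE (X.basicOpen_le f)).op).hom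
              (show Γ(X, V.1) from i.app V.1 t) := by
        rw [h1, Scheme.Modules.Hom.app_smul, QcExt.app_res]
        rfl
      change (show Γ(X, X.basicOpen f) from i.app (X.basicOpen f) j') ∈ _
      rw [h2]
      exact Ideal.mul_mem_left _ _ (Ideal.mem_map_of_mem _ ⟨t, rfl⟩)

theorem imageIdeal_ideal (J : X.Modules) [J.IsQuasicoherent]
    (i : J ⟶ Coh.structureModule X) (V : X.affineOpens) :
    (imageIdeal J i).ideal V = imgIdeal i V.1 := rfl

/-- the image ideal of a coherent module is of finite type -/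
theorem isFiniteTypeIdeal_imageIdeal (J : X.Modules) [J.IsQuasicoherent]
    (hJ : SheafOfModules.IsFiniteType.{u, u, u} J) (i : J ⟶ Coh.structureModule X) :
    BlowUp.IsFiniteTypeIdeal (imageIdeal J i) := by
  classical
  intro V
  have hfin := FinPush.finite_sections J ⟨inferInstance, hJ⟩ V.2
  obtain ⟨S, hS⟩ := hfin.fg_top
  refine ⟨S.image (fun j => (show Γ(X, V.1) from i.app V.1 j)), ?_⟩
  apply le_antisymm
  · rw [Ideal.span_le]
    intro r hr
    rw [Finset.coe_image] at hr
    obtain ⟨j, -, rfl⟩ := hr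
    exact ⟨j, rfl⟩
  · rintro _ ⟨j, rfl⟩
    have hj : j ∈ Submodule.span Γ(X, V.1) (S : Set Γ(J, V.1)) := by rw [hS]; trivial
    induction hj using Submodule.span_induction with
    | mem j hj =>
      apply Ideal.subset_span
      rw [Finset.coe_image]
      exact ⟨j, hj, rfl⟩
    | zero => rw [map_zero]; exact Ideal.zero_mem _
    | add a b _ _ ha hb => rw [map_add]; exact Ideal.add_mem _ ha hb
    | smul r a _ ha =>
      rw [Scheme.Modules.Hom.app_smul]
      exact Ideal.mul_mem_left _ _ ha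

/-- **ampleness criterion (EGA II 4.5.5), ideal sheaf form**: on a quasi-compact quasi-separated
scheme, if for each ideal sheaf `I` of finite type some positive twist `I ⊗ L^n` is globally
generated, then `L` is ample -/
theorem isAmple_of_twisted_idealSheafData [CompactSpace X] [QuasiSeparatedSpace X] {L : X.Modules}
    (hL : PicF.IsInvertible L)
    (h : ∀ I : X.IdealSheafData, BlowUp.IsFiniteTypeIdeal I →
      ∃ n : ℕ, Curv2.IsGloballyGenerated
        (CohB1.tensorMod (ClSub.idealMod I) (CohB1.tensorPow L (n + 1)))) :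
    CohB1.IsAmple L := by
  refine ⟨hL, inferInstance, fun x => ?_⟩
  obtain ⟨W, a, hxW, ha⟩ := exists_isGen hL x
  obtain ⟨_, ⟨U, hU, rfl⟩, hxU, hUW⟩ :=
    X.isBasis_affineOpens.exists_subset_of_mem_open hxW W.isOpen
  have hUW' : U ≤ W := hUW
  set I := Scheme.IdealSheafData.vanishingIdeal ⟨(U : Set X)ᶜ, U.isOpen.isClosed_compl⟩ with hI
  have hrange : Set.range I.subschemeι = (U : Set X)ᶜ := by
    rw [I.range_subschemeι]
    simp [hI]
  have hpre : I.subschemeι ⁻¹ᵁ U = ⊥ := by
    ext z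
    simp only [Scheme.Hom.mem_preimage, SetLike.mem_coe, Opens.coe_bot, Set.mem_empty_iff_false,
      iff_false]
    intro hz
    have : I.subschemeι z ∈ Set.range I.subschemeι := ⟨z, rfl⟩
    rw [hrange] at this
    exact this hz
  have hsub : Subsingleton Γ(I.subscheme, I.subschemeι ⁻¹ᵁ U) := by
    rw [hpre]
    infer_instance
  obtain ⟨y, hy⟩ := IdealModL.exists_of_app_eq_zero I U 1 (Subsingleton.elim _ _)
  obtain ⟨G', hG', hGU⟩ := LocalSub.exists_extension_of_qcqs (F := ClSub.idealMod I) U hU.isCompact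
    (LocalSub.genOn U {y}) (LocalSub.genOn_singleton_isQcFtOn hU _)
  have hs : y ∈ G'.carrier U := by
    rw [hGU U le_rfl]
    exact LocalSub.mem_genOn_singleton _
  have hqcJ : G'.obj.IsQuasicoherent := G'.isQuasicoherent_obj hG'.isQcOn
  let i : G'.obj ⟶ Coh.structureModule X := G'.ι ≫ ClSub.idealModι I
  have hi1 : (show Γ(X, U) from i.app U (G'.mkSec y hs)) = 1 := hy
  -- sections in the image of `i` vanish outside `U`
  have hvan0 : ∀ (V : X.Opens) (j : Γ(G'.obj, V)) (z : X),
      z ∈ X.basicOpen (show Γ(X, V) from i.app V j) → z ∈ U := by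
    intro V j z hz
    by_contra hzU
    have : z ∈ Set.range I.subschemeι := by rw [hrange]; exact hzU
    obtain ⟨z', rfl⟩ := this
    have h0 : (I.subschemeι.app V).hom (show Γ(X, V) from i.app V j) = 0 :=
      IdealModL.toSubscheme_ι I V (G'.ι.app V j)
    have h4 : z' ∈ I.subschemeι ⁻¹ᵁ X.basicOpen (show Γ(X, V) from i.app V j) := hz
    rw [Scheme.preimage_basicOpen, h0, Scheme.basicOpen_zero] at h4
    exact h4
  set I₁ := imageIdeal G'.obj i with hI₁
  obtain ⟨n, hgg⟩ := h I₁ (isFiniteTypeIdeal_imageIdeal G'.obj (G'.isFiniteType_obj hG') i)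
  have hsupp : ∀ z : X, z ∉ U → z ∈ I₁.support := by
    intro z hzU
    rw [Scheme.IdealSheafData.mem_support_iff]
    intro V
    rw [Scheme.mem_zeroLocus_iff]
    rintro _ ⟨j, rfl⟩ hz
    exact hzU (hvan0 V.1 j z hz)
  have hsuppU : ∀ z : X, z ∈ U → z ∉ I₁.support := by
    intro z hzU hz
    rw [Scheme.IdealSheafData.mem_support_iff_of_mem (U := ⟨U, hU⟩) hzU,
      Scheme.mem_zeroLocus_iff] at hz
    refine hz 1 ⟨G'.mkSec y hs, hi1⟩ ?_
    rw [Scheme.basicOpen_of_isUnit _ isUnit_one]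
    exact hzU
  have hrange₁ : ∀ z' : I₁.subscheme, (I₁.subschemeι z' ∈ U) → False := by
    intro z' hz'
    have : I₁.subschemeι z' ∈ Set.range I₁.subschemeι := ⟨z', rfl⟩
    rw [I₁.range_subschemeι] at this
    exact hsuppU _ hz' this
  have hvan₁ : ∀ (V : X.Opens) (j' : Γ(ClSub.idealMod I₁, V)) (z : X),
      z ∈ X.basicOpen (show Γ(X, V) from (ClSub.idealModι I₁).app V j') → z ∈ U := by
    intro V j' z hz
    by_contra hzU
    have : z ∈ Set.range I₁.subschemeι := by
      rw [I₁.range_subschemeι]; exact hsupp z hzU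
    obtain ⟨z', rfl⟩ := this
    have h0 : (I₁.subschemeι.app V).hom
        (show Γ(X, V) from (ClSub.idealModι I₁).app V j') = 0 :=
      IdealModL.toSubscheme_ι I₁ V j'
    have h4 : z' ∈ I₁.subschemeι ⁻¹ᵁ
        X.basicOpen (show Γ(X, V) from (ClSub.idealModι I₁).app V j') := hz
    rw [Scheme.preimage_basicOpen, h0, Scheme.basicOpen_zero] at h4
    exact h4
  have hpre₁ : I₁.subschemeι ⁻¹ᵁ U = ⊥ := by
    ext z
    simp only [Scheme.Hom.mem_preimage, SetLike.mem_coe, Opens.coe_bot, Set.mem_empty_iff_false,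
      iff_false]
    exact hrange₁ z
  have hsub₁ : Subsingleton Γ(I₁.subscheme, I₁.subschemeι ⁻¹ᵁ U) := by
    rw [hpre₁]
    infer_instance
  obtain ⟨y₁, hy₁⟩ := IdealModL.exists_of_app_eq_zero I₁ U 1 (Subsingleton.elim _ _)
  obtain ⟨s, hxs, -, haff⟩ := exists_genLocus_of_gg_hom hL U hU (QcCech.res L hUW' a)
    (ha.res hUW') (ClSub.idealMod I₁) (ClSub.idealModι I₁) hvan₁ (n + 1) hgg y₁ hy₁ x hxU
  exact ⟨n, s, hxs, haff⟩

/-- an epimorphism from a finite free module exhibits global generation -/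
theorem isGloballyGenerated_of_epi_freeMod {M : X.Modules} {k : ℕ}
    (p : FlatMod.freeMod X k ⟶ M) [Epi p] : Curv2.IsGloballyGenerated M := by
  let q : (SheafOfModules.free (ULift.{u} (Fin k)) : X.Modules) ⟶ M :=
    Sigma.desc (fun i => Sigma.ι (fun _ : Fin k => Coh.structureModule X) i.down ≫ p)
  let r : FlatMod.freeMod X k ⟶ (SheafOfModules.free (ULift.{u} (Fin k)) : X.Modules) :=
    Sigma.desc (fun i => Sigma.ι (fun _ : ULift.{u} (Fin k) => Coh.structureModule X) ⟨i⟩)
  have hrq : r ≫ q = p := by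
    apply Sigma.hom_ext
    intro i
    change Sigma.ι (fun _ : Fin k => Coh.structureModule X) i ≫ (r ≫ q) = _
    rw [← Category.assoc]
    have h1 : Sigma.ι (fun _ : Fin k => Coh.structureModule X) i ≫ r =
        Sigma.ι (fun _ : ULift.{u} (Fin k) => Coh.structureModule X) ⟨i⟩ :=
      Sigma.ι_desc _ _
    rw [h1]
    exact Sigma.ι_desc (f := fun _ : ULift.{u} (Fin k) => Coh.structureModule X)
      (fun j => Sigma.ι (fun _ : Fin k => Coh.structureModule X) j.down ≫ p) ⟨i⟩
  have : Epi (r ≫ q) := by rw [hrq]; infer_instance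
  exact ⟨ULift.{u} (Fin k), q, epi_of_epi r q⟩

end Groth.Agent.Helper1.AmpleLib
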