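import Mathlib
import Groth.Agent.Lib.Helper1.CompAmple
import Groth.Prelude.Def_MoreMor

/-!
# Ample families of invertible modules (helper1)
-/

set_option autoImplicit false
universe u
open CategoryTheory CategoryTheory.Limits AlgebraicGeometry TopologicalSpace Opposite

namespace Groth.Agent.Helper1.AmpleFam

open Groth.Agent.Helper1.QcCech Groth.Agent.Helper1.SubSh Groth.Agent.Helper1.LGen
open Groth.Agent.Helper1.TmulLib Groth.Agent.Helper1 Groth.Agent.Helper1.TwistSec
open Groth.Agent.Helper1.TensGen Groth.Agent.Helper1.TwForm Groth.Agent.Helper1.AmpleLib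
open Groth.Agent.Helper1.SecOps Groth.Agent.Helper1.PullAmple Groth.Agent.Helper1.PullPow
open Groth.Agent.Helper1.PullGen Groth.Agent.Helper1.RelAmpleLib Groth.Agent.Helper1.CompAmple

variable {X Y : Scheme.{u}}

/-- a scheme with an ample family is quasi-separated -/
theorem quasiSeparatedSpace_of_hasAmpleFamily (hY : MoreMor.HasAmpleFamily Y) :
    QuasiSeparatedSpace Y := by
  apply quasiSeparatedSpace_of_affine_cover
  intro y
  obtain ⟨K, n, t, hK, hn, hy, haff⟩ := hY.2 y
  exact ⟨_, hy, haff, GenLoc.isAffineHom_genLocus_ι _ t (isInvertible_tensorPow hK n)⟩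

/-- **S1499** -/
theorem hasAmpleFamily_of_isRelAmple (f : X ⟶ Y) (hY : MoreMor.HasAmpleFamily Y) (L : X.Modules)
    (hL : RelAmple.IsRelAmple f L) : MoreMor.HasAmpleFamily X := by
  haveI : QuasiCompact f := hL.1
  have hcY : CompactSpace Y := hY.1
  have hcX : CompactSpace X :=
    ⟨by simpa using QuasiCompact.isCompact_preimage (f := f) _ isOpen_univ isCompact_univ⟩
  have hqsY : QuasiSeparatedSpace Y := quasiSeparatedSpace_of_hasAmpleFamily hY
  choose K n t hK hn hyt haff using hY.2
  let V : Y → Y.affineOpens := fun y => ⟨CohB1.genLocus _ (t y), haff y⟩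
  have hLV : ∀ y, CohB1.IsAmple (L.restrict (f ⁻¹ᵁ (V y).1).ι) := fun y => hL.2 (V y)
  have hqsf : QuasiSeparated f := by
    rw [HasAffineProperty.iff_of_iSup_eq_top (P := @QuasiSeparated) V
      (by
        rw [eq_top_iff]
        intro y _
        exact Opens.mem_iSup.2 ⟨y, hyt y⟩)]
    intro y
    exact quasiSeparatedSpace_of_isAmple (hLV y)
  have hqsX : QuasiSeparatedSpace X := quasiSeparatedSpace_of_quasiSeparated f
  have hLinv : PicF.IsInvertible L := isInvertible_of_isRelAmple f hL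
  refine ⟨hcX, fun x => ?_⟩
  obtain ⟨m, hm⟩ : ∃ m, n (f x) = m + 1 := ⟨n (f x) - 1, by have := hn (f x); omega⟩
  have hM' : PicF.IsInvertible ((Scheme.Modules.pullback f).obj (K (f x))) :=
    isInvertible_pullback f (hK (f x))
  -- the section `t (f x)` as a section of the `(m+1)`-st power
  have key : ∃ t' : Coh.structureModule Y ⟶ CohB1.tensorPow (K (f x)) (m + 1),
      CohB1.genLocus _ t' = (V (f x)).1 := by
    have : ∀ k (h : n (f x) = k) (t₀ : Coh.structureModule Y ⟶ CohB1.tensorPow (K (f x)) (n (f x))),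
        ∃ t' : Coh.structureModule Y ⟶ CohB1.tensorPow (K (f x)) k,
          CohB1.genLocus _ t' = CohB1.genLocus _ t₀ := by
      intro k h t₀
      subst h
      exact ⟨t₀, rfl⟩
    exact this (m + 1) hm (t (f x))
  obtain ⟨t', ht'⟩ := key
  obtain ⟨D, c₀, hxD, hDaff, hD⟩ := exists_affine_genLocus_twist hLinv hM' m
    (pullPowSec f (hK (f x)) (m + 1) t') (f ⁻¹ᵁ (V (f x)).1)
    (by rw [genLocus_pullPowSec f (hK (f x)) _ _, ht']) (hLV (f x)) x (hyt (f x))
  obtain ⟨N, s, hs⟩ := hD (c₀ + 1) le_rfl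
  exact ⟨CohB1.tensorMod L (CohB1.tensorPow ((Scheme.Modules.pullback f).obj (K (f x))) (c₀ + 1)),
    N + 1, s, isInvertible_tensorMod hLinv (isInvertible_tensorPow hM' _), Nat.succ_pos _,
    hs ▸ hxD, hs ▸ hDaff⟩

end Groth.Agent.Helper1.AmpleFam
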