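import Mathlib
import Groth.Agent.Lib.Helper1.AmpleQuot
import Groth.Agent.Lib.Helper1.AmpleRes1

set_option autoImplicit false
universe u
open CategoryTheory CategoryTheory.Limits AlgebraicGeometry TopologicalSpace Opposite

namespace Groth.Agent.Helper1.AmpleFam

open Groth.Agent.Helper1.QcCech Groth.Agent.Helper1.SubSh Groth.Agent.Helper1
open Groth.Agent.Helper1.TwForm Groth.Agent.Helper1.GlobGen Groth.Agent.Helper1.AmpleQuot

variable {X : Scheme.{u}} {L₁ L₂ K F G : X.Modules} {d₁ d₂ : ℤ}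
variable (hloc : LocFrame L₁ L₂) (T : Tw L₁ L₂ F d₁ d₂ G)
  (S : Tw L₁ L₂ K d₁ d₂ (Coh.structureModule X))

/-- local version of `AmpleQuot.exists_local`: if the twist `G` of a coherent `F` is spanned by
global sections on an open `U`, then near every point of `U` the module `F` is spanned by the
images of finitely many maps `K ⟶ F` attached to global sections of `G` -/
theorem exists_local' {U : X.Opens} (hsp : AmpleLib.SpannedOn G U) (hF : Coh.IsCoh F)
    (x : X) (hxU : x ∈ U) :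
    ∃ (V : X.Opens) (I : Finset Γ(G, ⊤)), x ∈ V ∧ ∀ (O : X.Opens) (_ : O ≤ V) (t : Γ(F, O)),
      t ∈ (Im hloc T S (fun σ : Γ(G, ⊤) => σ) (I : Set Γ(G, ⊤))).loc.carrier O := by
  classical
  obtain ⟨W₀, hxW₀, ⟨f₀⟩⟩ := hloc x
  obtain ⟨_, ⟨W, hW : IsAffineOpen W, rfl⟩, hxW, hWW₀U⟩ :=
    X.isBasis_affineOpens.exists_subset_of_mem_open (show x ∈ ((W₀ ⊓ U : X.Opens) : Set X) from
      ⟨hxW₀, hxU⟩) (W₀ ⊓ U).isOpen
  have hWW₀' : W ≤ W₀ := fun y hy => (hWW₀U hy).1
  have hWU : W ≤ U := fun y hy => (hWW₀U hy).2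
  let f : Frame L₁ L₂ W := f₀.res hWW₀'
  have : F.IsQuasicoherent := hF.1
  have hfin := FinPush.finite_sections F hF hW
  obtain ⟨Sτ, hSτ⟩ := hfin.fg_top
  have h1 : ∀ τ' : Γ(F, W), ∃ (V' : X.Opens) (h : V' ≤ W), x ∈ V' ∧
      ∃ c : Γ(G, ⊤) →₀ Γ(X, V'), (c.sum fun i a => a • res G (le_top : V' ≤ ⊤) i) =
        res G h (T.θ W f τ') := by
    intro τ'
    obtain ⟨V', h, hxV', hm⟩ := hsp W hWU (T.θ W f τ') x hxW
    refine ⟨V', h, hxV', ?_⟩
    exact (Finsupp.mem_span_range_iff_exists_finsupp).1 hm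
  choose V' hV' hxV' c hc using h1
  let V : X.Opens := Sτ.inf V' ⊓ W
  let I : Finset Γ(G, ⊤) := Sτ.biUnion fun τ' => (c τ').support
  have hVW : V ≤ W := inf_le_right
  have hVV' : ∀ τ' ∈ Sτ, V ≤ V' τ' := fun τ' hτ' => inf_le_left.trans (Finset.inf_le hτ')
  have hxV : x ∈ V := by
    refine ⟨?_, hxW⟩
    have : ∀ s' : Finset Γ(F, W), x ∈ s'.inf V' := by
      intro s'
      induction s' using Finset.induction_on with
      | empty => rw [Finset.inf_empty]; trivial
      | insert a s' _ ih => rw [Finset.inf_insert]; exact ⟨hxV' a, ih⟩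
    exact this Sτ
  -- generators
  have h2 : ∀ τ' ∈ Sτ, res F hVW τ' ∈
      (Im hloc T S (fun σ : Γ(G, ⊤) => σ) (I : Set Γ(G, ⊤))).carrier V := by
    intro τ' hτ'
    have e1 : res F hVW τ' = T.inv V (f.res hVW) (res G hVW (T.θ W f τ')) := by
      symm
      apply T.inv_eq
      rw [T.res]
    rw [e1]
    apply inv_mem_Im
    have e2 : res G hVW (T.θ W f τ') = res G (hVV' τ' hτ') (res G (hV' τ') (T.θ W f τ')) := by
      rw [res_res]
    rw [e2, ← hc τ', Finsupp.sum, map_sum]
    refine Submodule.sum_mem _ fun i hi => ?_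
    rw [res_smul, res_res]
    refine Submodule.smul_mem _ _ (Submodule.subset_span ?_)
    have hiI : i ∈ (I : Set Γ(G, ⊤)) := by
      simp only [I, Finset.coe_biUnion, Set.mem_iUnion]
      exact ⟨τ', hτ', hi⟩
    exact ⟨⟨i, hiI⟩, rfl⟩
  have h3 : ∀ h : Γ(F, W), res F hVW h ∈
      (Im hloc T S (fun σ : Γ(G, ⊤) => σ) (I : Set Γ(G, ⊤))).carrier V := by
    intro h
    have hh : h ∈ Submodule.span Γ(X, W) (Sτ : Set Γ(F, W)) := by rw [hSτ]; trivial
    induction hh using Submodule.span_induction with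
    | mem y hy => exact h2 y hy
    | zero => rw [map_zero]; exact Submodule.zero_mem _
    | add y z _ _ hy hz => rw [map_add]; exact Submodule.add_mem _ hy hz
    | smul r y _ hy => rw [res_smul]; exact Submodule.smul_mem _ _ hy
  refine ⟨V, I, hxV, fun O hO t => ?_⟩
  intro y hy
  obtain ⟨O', hO', hyO', hspan⟩ := AmpleLib.affine_local_span F hW O (hO.trans hVW) t y hy
  refine ⟨O', hO', hyO', ?_⟩
  generalize res F hO' t = w at hspan
  induction hspan using Submodule.span_induction with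
  | mem z hz =>
    obtain ⟨h, rfl⟩ := hz
    have := (Im hloc T S (fun σ : Γ(G, ⊤) => σ) (I : Set Γ(G, ⊤))).res_mem (hO'.trans hO) (h3 h)
    rwa [res_res] at this
  | zero => exact Submodule.zero_mem _
  | add y z _ _ hy hz => exact Submodule.add_mem _ hy hz
  | smul r y _ hy => exact Submodule.smul_mem _ _ hy

include hloc T S in
/-- near every point of an open on which the twist is spanned by global sections, a coherent
module is locally the sum of the images of finitely many maps from the inverse twist -/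
theorem exists_local_maps {U : X.Opens} (hsp : AmpleLib.SpannedOn G U) (hF : Coh.IsCoh F)
    (x : X) (hxU : x ∈ U) :
    ∃ (V : X.Opens) (r : ℕ) (ψ : Fin r → (K ⟶ F)), x ∈ V ∧
      ∀ (O : X.Opens) (τ : Γ(F, O)) (y : X), y ∈ O → y ∈ V →
        ∃ (W : X.Opens) (hW : W ≤ O), y ∈ W ∧ res F hW τ ∈
          AddSubgroup.closure (⋃ j : Fin r, Set.range fun b : Γ(K, W) => (ψ j).app W b) := by
  classical
  obtain ⟨V, I, hxV, hV⟩ := exists_local' hloc T S hsp hF x hxU
  let e := I.equivFin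
  refine ⟨V, I.card, fun j => φ hloc T S (e.symm j).1, hxV, fun O τ y hyO hyV => ?_⟩
  obtain ⟨W, hW, hyW, hm⟩ := hV (O ⊓ V) inf_le_right (res F inf_le_left τ) y ⟨hyO, hyV⟩
  refine ⟨W, hW.trans inf_le_left, hyW, ?_⟩
  rw [res_res] at hm
  have hsm : ∀ (r : Γ(X, W)) (z : Γ(F, W)),
      z ∈ AddSubgroup.closure (⋃ j : Fin I.card,
        Set.range fun b : Γ(K, W) => (φ hloc T S (e.symm j).1).app W b) →
      r • z ∈ AddSubgroup.closure (⋃ j : Fin I.card,
        Set.range fun b : Γ(K, W) => (φ hloc T S (e.symm j).1).app W b) := by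
    intro r z hz
    induction hz using AddSubgroup.closure_induction with
    | mem y hy =>
      obtain ⟨j, b, rfl⟩ := Set.mem_iUnion.1 hy
      refine AddSubgroup.subset_closure (Set.mem_iUnion.2 ⟨j, r • b, ?_⟩)
      exact Scheme.Modules.Hom.app_smul _ _ _
    | zero => rw [smul_zero]; exact AddSubgroup.zero_mem _
    | add y z _ _ hy hz => rw [smul_add]; exact AddSubgroup.add_mem _ hy hz
    | neg y _ hy => rw [smul_neg]; exact AddSubgroup.neg_mem _ hy
  generalize res F (hW.trans inf_le_left) τ = w at hm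
  induction hm using Submodule.span_induction with
  | mem y hy =>
    obtain ⟨i, hi⟩ := Set.mem_iUnion.1 hy
    obtain ⟨hiJ, b, rfl⟩ := Set.mem_iUnion.1 hi
    refine AddSubgroup.subset_closure (Set.mem_iUnion.2 ⟨e ⟨i, hiJ⟩, b, ?_⟩)
    simp
  | zero => exact AddSubgroup.zero_mem _
  | add y z _ _ hy hz => exact AddSubgroup.add_mem _ hy hz
  | smul r y _ hy => exact hsm r y hy

end Groth.Agent.Helper1.AmpleFam
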