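import Mathlib
import Groth.Agent.Lib.Helper1.AmpleFam2
import Groth.Agent.Lib.Helper1.AmpleLib3

set_option autoImplicit false
universe u
open CategoryTheory CategoryTheory.Limits AlgebraicGeometry TopologicalSpace Opposite

namespace Groth.Agent.Helper1.AmpleFam

open Groth.Agent.Helper1.QcCech Groth.Agent.Helper1.SubSh Groth.Agent.Helper1
open Groth.Agent.Helper1.TwForm Groth.Agent.Helper1.GlobGen Groth.Agent.Helper1.AmpleQuot

variable {X : Scheme.{u}}

/-- the local spanning property of a finite family of maps into `F` on an open `V` -/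
def SpansOn {F : X.Modules} {r : ℕ} (K : Fin r → X.Modules) (ψ : ∀ j, K j ⟶ F) (V : X.Opens) :
    Prop :=
  ∀ (O : X.Opens) (τ : Γ(F, O)) (y : X), y ∈ O → y ∈ V →
    ∃ (W : X.Opens) (hW : W ≤ O), y ∈ W ∧ res F hW τ ∈
      AddSubgroup.closure (⋃ j : Fin r, Set.range fun b : Γ(K j, W) => (ψ j).app W b)

/-- near a point of an affine `X_s`, a coherent module is spanned by finitely many maps from an
inverse of a positive power of the invertible module of which `s` is a section -/
theorem exists_local_quot [CompactSpace X] [QuasiSeparatedSpace X] (F : X.Modules)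
    (hF : Coh.IsCoh F) {A : X.Modules} (hA : PicF.IsInvertible A)
    (s : Coh.structureModule X ⟶ A) (haff : IsAffineOpen (CohB1.genLocus A s)) (x : X)
    (hx : x ∈ CohB1.genLocus A s) :
    ∃ (m : ℕ) (K : X.Modules) (V : X.Opens) (r : ℕ) (ψ : Fin r → (K ⟶ F)), 0 < m ∧
      PicF.IsInvertible K ∧
      Nonempty (CohB1.tensorMod K (CohB1.tensorPow A m) ≅ Coh.structureModule X) ∧ x ∈ V ∧
      SpansOn (fun _ : Fin r => K) ψ V := by
  haveI : F.IsQuasicoherent := hF.1
  have hfin := FinPush.finite_sections F hF haff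
  obtain ⟨j₀, hj₀⟩ := AmpleLib.spannedOn_twist hA s haff F hfin
  let m := max j₀ 1
  have hN : PicF.IsInvertible (CohB1.tensorPow A m) := isInvertible_tensorPow hA m
  obtain ⟨K, hK, ⟨e⟩⟩ := AmpleRes.exists_inverse hN
  have hloc := locFrame_of_isInvertible hA hA
  let T := (Tw.self A A F).tensorR ((Tw.fst A A).pow m)
  let S := ((Tw.self A A K).tensorR ((Tw.fst A A).pow m)).ofIso e
  obtain ⟨V, r, ψ, hxV, hV⟩ := exists_local_maps hloc T S (hj₀ m (le_max_left _ _)) hF x hx
  exact ⟨m, K, V, r, ψ, lt_of_lt_of_le Nat.one_pos (le_max_right _ _), hK, ⟨e⟩, hxV, hV⟩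

/-- **quotients of sums of negative powers**: on a qcqs scheme covered by affine opens `X_s` for
sections `s` of invertible modules `A` (satisfying a predicate `P`), every coherent module is a
quotient of a finite sum of inverses of positive powers of such `A` -/
theorem exists_epi_of_cover [CompactSpace X] [QuasiSeparatedSpace X] (F : X.Modules)
    (hF : Coh.IsCoh F) (P : X.Modules → Prop)
    (h : ∀ x : X, ∃ (A : X.Modules) (s : Coh.structureModule X ⟶ A), PicF.IsInvertible A ∧ P A ∧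
      x ∈ CohB1.genLocus A s ∧ IsAffineOpen (CohB1.genLocus A s)) :
    ∃ (k : ℕ) (K : Fin k → X.Modules) (ψ : ∀ j, K j ⟶ F), Epi (Sigma.desc ψ) ∧
      ∀ j, PicF.IsInvertible (K j) ∧ ∃ (A : X.Modules) (m : ℕ), P A ∧ 0 < m ∧
        Nonempty (CohB1.tensorMod (K j) (CohB1.tensorPow A m) ≅ Coh.structureModule X) := by
  classical
  choose A s hA hP hxs haff using h
  choose m K V r ψ hm hK he hxV hV using fun x =>
    exists_local_quot F hF (hA x) (s x) (haff x) x (hxs x)
  obtain ⟨t, ht⟩ := isCompact_univ.elim_finite_subcover (fun x => ((V x : X.Opens) : Set X))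
    (fun x => (V x).isOpen) (fun x _ => Set.mem_iUnion.2 ⟨x, hxV x⟩)
  let J : Type u := Σ x : t, Fin (r x.1)
  let e : J ≃ Fin (Fintype.card J) := Fintype.equivFin J
  refine ⟨Fintype.card J, fun j => K (e.symm j).1.1, fun j => ψ (e.symm j).1.1 (e.symm j).2, ?_,
    fun j => ⟨hK _, A (e.symm j).1.1, m (e.symm j).1.1, hP _, hm _, he _⟩⟩
  apply PF12.epi_desc_of_locally
  intro U τ y hy
  obtain ⟨x, hxt, hyx⟩ : ∃ x ∈ t, y ∈ V x := by
    have := ht (Set.mem_univ y)
    simpa using this
  obtain ⟨W, hW, hyW, hmem⟩ := hV x U τ y hy hyx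
  refine ⟨W, hW, hyW, ?_⟩
  change res F hW τ ∈ _
  refine AddSubgroup.closure_mono ?_ hmem
  intro z hz
  obtain ⟨j, b, rfl⟩ := Set.mem_iUnion.1 hz
  refine Set.mem_iUnion.2 ⟨e ⟨⟨x, hxt⟩, j⟩, ?_⟩
  rw [Equiv.symm_apply_apply]
  exact ⟨b, rfl⟩

end Groth.Agent.Helper1.AmpleFam
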