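import Mathlib
import Groth.Agent.Lib.Helper1.AmpleFam3
import Groth.Agent.Lib.Helper1.AmpleFam1
import Groth.Agent.Lib.Helper1.GenLoc
import Groth.Prelude.Def_KSix
import Groth.Prelude.Def_PerfAux

set_option autoImplicit false
universe u
open CategoryTheory CategoryTheory.Limits AlgebraicGeometry TopologicalSpace Opposite

namespace Groth.Agent.Helper1.AmpleFam

open Groth.Agent.Helper1.QcCech Groth.Agent.Helper1.SubSh Groth.Agent.Helper1
open Groth.Agent.Helper1.TwForm

variable {X : Scheme.{u}}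

/-- a finite sum of invertible modules is finite locally free -/
theorem isFinLocFree_sigma_of_isInvertible {k : ℕ} (K : Fin k → X.Modules)
    (hK : ∀ j, PicF.IsInvertible (K j)) : FlatMod.IsFinLocFree (∐ K) := by
  classical
  intro x
  choose U hxU e using fun j => hK j x
  let V : X.Opens := Finset.univ.inf U
  have hxV : x ∈ V := by
    have : ∀ s' : Finset (Fin k), x ∈ s'.inf U := by
      intro s'
      induction s' using Finset.induction_on with
      | empty => rw [Finset.inf_empty]; trivial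
      | insert a s' _ ih => rw [Finset.inf_insert]; exact ⟨hxU a, ih⟩
    exact this Finset.univ
  have hVU : ∀ j, V ≤ U j := fun j => Finset.inf_le (Finset.mem_univ j)
  have e' : ∀ j, Nonempty ((K j).restrict V.ι ≅ Coh.structureModule (↑V)) := fun j =>
    GenLoc.nonempty_trivialization_of_le (K j) (U j) (e j).some (hVU j)
  refine ⟨V, k, hxV, ⟨?_⟩⟩
  exact PreservesCoproduct.iso (Scheme.Modules.restrictFunctor V.ι) K ≪≫
    Sigma.mapIso (fun j => (e' j).some)

/-- **S4270**: a scheme with an ample family has the resolution property -/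
theorem hasResolutionProperty_of_hasAmpleFamily (hX : MoreMor.HasAmpleFamily X) :
    PerfAux.HasResolutionProperty X := by
  intro M hq hft
  haveI : CompactSpace X := hX.1
  haveI : QuasiSeparatedSpace X := quasiSeparatedSpace_of_hasAmpleFamily hX
  obtain ⟨k, K, ψ, hψ, hK⟩ := exists_epi_of_cover M ⟨hq, hft⟩ (fun _ => True) (fun x => by
    obtain ⟨L, n, s, hL, hn, hx, haff⟩ := hX.2 x
    exact ⟨CohB1.tensorPow L n, s, isInvertible_tensorPow hL n, trivial, hx, haff⟩)
  exact ⟨∐ K, Sigma.desc ψ, isFinLocFree_sigma_of_isInvertible K (fun j => (hK j).1), hψ⟩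

/-- **S4269** -/
theorem exists_epi_inAddL {ι : Type u} (L : ι → X.Modules) (hL : KSix.IsAmpleFamily L)
    (F : X.Modules) (hF : Coh.IsQCoh F) (hF' : CohB1.IsFT F) :
    ∃ (M : X.Modules) (π : M ⟶ F), KSix.InAddL L M ∧ Epi π := by
  obtain ⟨hc, hqs, hinv, hcov⟩ := hL
  haveI := hc
  haveI := hqs
  obtain ⟨k, K, ψ, hψ, hK⟩ := exists_epi_of_cover F ⟨hF, hF'⟩
    (fun A => ∃ (i : ι) (n : ℕ), A = CohB1.tensorPow (L i) (n + 1)) (fun x => by
    obtain ⟨i, n, s, hx, haff⟩ := hcov x
    exact ⟨CohB1.tensorPow (L i) (n + 1), s, isInvertible_tensorPow (hinv i) (n + 1),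
      ⟨i, n, rfl⟩, hx, haff⟩)
  refine ⟨∐ K, Sigma.desc ψ, ⟨k, K, fun j => ?_, ⟨(biproduct.isoCoproduct K).symm⟩⟩, hψ⟩
  obtain ⟨-, A, m, ⟨i, n, rfl⟩, hm, ⟨e⟩⟩ := hK j
  refine ⟨i, (n + 1) * m, Nat.mul_pos (Nat.succ_pos n) hm, ⟨?_⟩⟩
  have hloc := locFrame_of_isInvertible (hinv i) (hinv i)
  let B₁ : Tw (L i) (L i) (K j) (((n + 1) * m : ℕ) : ℤ) 0 (Coh.structureModule X) :=
    (((Tw.self (L i) (L i) (K j)).tensorR (((Tw.fst (L i) (L i)).pow (n + 1)).pow m)).ofIso e).cast
      (by push_cast; ring) (by push_cast; ring)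
  let B₂ : Tw (L i) (L i) (K j) (((n + 1) * m : ℕ) : ℤ) 0
      (CohB1.tensorMod (K j) (CohB1.tensorPow (L i) ((n + 1) * m))) :=
    ((Tw.self (L i) (L i) (K j)).tensorR ((Tw.fst (L i) (L i)).pow ((n + 1) * m))).cast
      (by push_cast; ring) (by push_cast; ring)
  exact Tw.iso B₂ B₁ hloc

end Groth.Agent.Helper1.AmpleFam
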