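import Mathlib
import Groth.Prelude.Def_CAlg

/-!
# Cohen–Macaulay local rings of dimension two: quotients by a nonzerodivisor have positive depth
(helper1)
-/

set_option autoImplicit false
universe u

namespace Groth.Agent.Helper1.CMInt

open IsLocalRing Pointwise

section Alg

variable (R : Type u) [CommRing R] [LocCoh.IsCohenMacaulayLocalRing R]

theorem depth_eq_two (hdim : ringKrullDim R = 2) : LocCoh.depth R R = 2 := by
  have h := LocCoh.IsCohenMacaulayLocalRing.supportDim_eq_depth (R := R)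
  rw [Module.supportDim_self_eq_ringKrullDim, hdim] at h
  have h2 : ((LocCoh.depth R R : ℕ∞) : WithBot ℕ∞) = ((2 : ℕ∞) : WithBot ℕ∞) := h.symm
  exact WithBot.coe_injective h2

theorem exists_regular_pair (hdim : ringKrullDim R = 2) :
    ∃ a b : R, a ∈ maximalIdeal R ∧ b ∈ maximalIdeal R ∧ IsSMulRegular R a ∧
      ∀ x : R, (∃ s, b * x = a * s) → ∃ t, x = a * t := by
  have hd := depth_eq_two R hdim
  unfold LocCoh.depth LocCoh.idealDepth at hd
  by_cases htop : maximalIdeal R • (⊤ : Submodule R R) = ⊤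
  · rw [if_pos htop] at hd
    exact absurd hd (by simp)
  rw [if_neg htop] at hd
  by_contra hcon
  have key : (2 : ℕ∞) ≤ 1 := by
    rw [← hd]
    refine iSup₂_le fun rs hrs => ?_
    obtain ⟨hreg, hmem⟩ := hrs
    rcases rs with _ | ⟨a, _ | ⟨b, tl⟩⟩
    · simp
    · simp
    · exfalso
      apply hcon
      rw [RingTheory.Sequence.isWeaklyRegular_cons_iff] at hreg
      obtain ⟨ha, hreg'⟩ := hreg
      rw [RingTheory.Sequence.isWeaklyRegular_cons_iff] at hreg'
      obtain ⟨hb, -⟩ := hreg'
      refine ⟨a, b, hmem a (by simp), hmem b (by simp), ha, ?_⟩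
      rintro x ⟨s, hs⟩
      have hx : x ∈ (a • (⊤ : Submodule R R)) := by
        apply (isSMulRegular_quotient_iff_mem_of_smul_mem (a • (⊤ : Submodule R R)) b).1 hb x
        rw [Submodule.mem_smul_pointwise_iff_exists]
        exact ⟨s, trivial, by rw [smul_eq_mul, smul_eq_mul, hs]⟩
      rw [Submodule.mem_smul_pointwise_iff_exists] at hx
      obtain ⟨t, -, ht⟩ := hx
      exact ⟨t, by rw [← ht, smul_eq_mul]⟩
  exact absurd key (by norm_num)

/-- in a Cohen–Macaulay local ring of dimension two, the maximal ideal is not associated to the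
quotient by a nonzerodivisor -/
theorem not_isAssociatedPrime_maximalIdeal (hdim : ringKrullDim R = 2) {M : Type*}
    [AddCommGroup M] [Module R M] (π : R →ₗ[R] M) (hπ : Function.Surjective π) (g : R)
    (hg : IsSMulRegular R g) (hker : LinearMap.ker π = Ideal.span {g}) :
    ¬ IsAssociatedPrime (maximalIdeal R) M := by
  intro hass
  obtain ⟨hprime, z, hz⟩ := isAssociatedPrime_iff.1 hass
  obtain ⟨y, rfl⟩ := hπ z
  obtain ⟨a, b, ham, hbm, ha, hb⟩ := exists_regular_pair R hdim
  have hmy : ∀ r ∈ maximalIdeal R, ∃ s, r * y = g * s := by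
    intro r hr
    rw [hz, Submodule.mem_colon_singleton, Submodule.mem_bot, ← map_smul, smul_eq_mul] at hr
    have h1 : r * y ∈ LinearMap.ker π := hr
    rw [hker, Ideal.mem_span_singleton'] at h1
    obtain ⟨s, hs⟩ := h1
    exact ⟨s, by rw [← hs, mul_comm]⟩
  have hy : y ∉ Ideal.span {g} := by
    intro hy
    have h0 : π y = 0 := by rw [← hker] at hy; exact hy
    apply hprime.ne_top
    rw [hz, h0]
    ext r
    simp [Submodule.mem_colon_singleton]
  obtain ⟨y₁, hy₁⟩ := hmy a ham
  have h1 : ∀ r ∈ maximalIdeal R, ∃ s, r * y₁ = a * s := by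
    intro r hr
    obtain ⟨s, hs⟩ := hmy r hr
    refine ⟨s, hg ?_⟩
    change g • (r * y₁) = g • (a * s)
    rw [smul_eq_mul, smul_eq_mul]
    calc g * (r * y₁) = r * (g * y₁) := by ring
      _ = r * (a * y) := by rw [hy₁]
      _ = a * (r * y) := by ring
      _ = a * (g * s) := by rw [hs]
      _ = g * (a * s) := by ring
  obtain ⟨t, ht⟩ := hb y₁ (h1 b hbm)
  have hyt : y = g * t := by
    apply ha
    change a • y = a • (g * t)
    rw [smul_eq_mul, smul_eq_mul, hy₁, ht]
    ring
  exact hy (Ideal.mem_span_singleton'.2 ⟨t, by rw [hyt, mul_comm]⟩)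

end Alg

end Groth.Agent.Helper1.CMInt
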