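import Mathlib
import Groth.Agent.Lib.Helper1.Curve5
import Groth.Agent.Lib.Helper1.FinCurve1
import Groth.Agent.Lib.Helper1.DegFin1

/-!
# The generic rank of `f_* O_X` (helper1)
-/

set_option autoImplicit false
universe u
open CategoryTheory CategoryTheory.Limits AlgebraicGeometry TopologicalSpace Opposite

namespace Groth.Agent.Helper1.DegFin
open Groth.Agent.Helper1.Curve Groth.Agent.Lib.Helper5.StalkAdj

section Rank

variable {X Y : Scheme.{u}} (f : X ⟶ Y) (x : X)

theorem unitIso_germ (U : X.Opens) (hx : x ∈ U) (s : Γ(X, U)) :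
    (stalkUnitIso X x).toLinearEquiv (X.presheaf.germ U x hx s) =
      (Coh.structureModule X).presheaf.germ U x hx s :=
  unitStalkMap_gr X.presheaf x U hx s

/-- the comparison map `(f_* O_X)_{f x} → O_{X,x}` -/
noncomputable def cmp : (pushO f).presheaf.stalk (f.base x) →+ X.presheaf.stalk x :=
  ((stalkUnitIso X x).toLinearEquiv.symm.toLinearMap.toAddMonoidHom).comp
    (TopCat.Presheaf.stalkPushforward Ab f.base (Coh.structureModule X).presheaf x).hom

theorem cmp_germ (V : Y.Opens) (hx : f.base x ∈ V) (s : Γ(X, f ⁻¹ᵁ V)) :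
    cmp f x ((pushO f).presheaf.germ V (f.base x) hx s) = X.presheaf.germ (f ⁻¹ᵁ V) x hx s := by
  unfold cmp
  rw [AddMonoidHom.comp_apply]
  have h1 := TopCat.Presheaf.stalkPushforward_germ_apply Ab f.base
    (Coh.structureModule X).presheaf V x hx s
  erw [h1]
  exact (LinearEquiv.symm_apply_eq _).mpr (unitIso_germ x (f ⁻¹ᵁ V) hx s).symm

theorem germ_exists (a : (pushO f).presheaf.stalk (f.base x)) :
    ∃ (V : Y.Opens) (hx : f.base x ∈ V) (s : Γ(X, f ⁻¹ᵁ V)),
      (pushO f).presheaf.germ V (f.base x) hx s = a := by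
  obtain ⟨V, hx, s, h⟩ := TopCat.Presheaf.exists_germ_eq (pushO f).presheaf (x := f.base x) a
  exact ⟨V, hx, s, h⟩

theorem cmp_injective [IsIntegral X] : Function.Injective (cmp f x) := by
  rw [injective_iff_map_eq_zero]
  intro a ha
  obtain ⟨V, hx, s, rfl⟩ := germ_exists f x a
  rw [cmp_germ] at ha
  have h0 : s = 0 := germ_injective_of_isIntegral X x hx (ha.trans (map_zero _).symm)
  rw [h0]
  exact map_zero _

theorem cmp_surjective (hcl : IsClosedMap f.base)
    (hfib : ∀ x' : X, f.base x' = f.base x → x' = x) : Function.Surjective (cmp f x) := by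
  intro b
  obtain ⟨U, hxU, s, rfl⟩ := TopCat.Presheaf.exists_germ_eq X.presheaf (x := x) b
  have hZ : IsClosed (f.base '' (U : Set X)ᶜ) := hcl _ U.isOpen.isClosed_compl
  let V : Y.Opens := ⟨(f.base '' (U : Set X)ᶜ)ᶜ, hZ.isOpen_compl⟩
  have hxV : f.base x ∈ V := by
    rintro ⟨z, hz, hzx⟩
    exact hz ((hfib z hzx) ▸ hxU)
  have hVU : f ⁻¹ᵁ V ≤ U := by
    intro z hz
    by_contra hzU
    exact hz ⟨z, hzU, rfl⟩
  refine ⟨(pushO f).presheaf.germ V (f.base x) hxV (X.presheaf.map (homOfLE hVU).op s), ?_⟩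
  rw [cmp_germ]
  exact TopCat.Presheaf.germ_res_apply X.presheaf (homOfLE hVU) x hxV s

theorem germ_smul (V : Y.Opens) (hx : f.base x ∈ V) (t : Γ(Y, V)) (s : Γ(X, f ⁻¹ᵁ V)) :
    (Y.presheaf.germ V (f.base x) hx t : Y.presheaf.stalk (f.base x)) •
      ((pushO f).presheaf.germ V (f.base x) hx s : (pushO f).presheaf.stalk (f.base x)) =
    (pushO f).presheaf.germ V (f.base x) hx (f.app V t * s : Γ(X, f ⁻¹ᵁ V)) :=
  (PresheafOfModules.germ_smul (R := Y.presheaf) (pushO f).val (f.base x) V hx t s).symm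

theorem cmp_smul (r : Y.presheaf.stalk (f.base x)) (a : (pushO f).presheaf.stalk (f.base x)) :
    cmp f x (r • a) = (f.stalkMap x).hom r * cmp f x a := by
  obtain ⟨V₁, hx₁, t, rfl⟩ := TopCat.Presheaf.exists_germ_eq Y.presheaf (x := f.base x) r
  obtain ⟨V₂, hx₂, s, rfl⟩ := germ_exists f x a
  have hx : f.base x ∈ V₁ ⊓ V₂ := ⟨hx₁, hx₂⟩
  have e1 : Y.presheaf.germ V₁ (f.base x) hx₁ t =
      Y.presheaf.germ (V₁ ⊓ V₂) (f.base x) hx (Y.presheaf.map (homOfLE inf_le_left).op t) :=
    (TopCat.Presheaf.germ_res_apply Y.presheaf (homOfLE inf_le_left) (f.base x) hx t).symm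
  have e2 : (pushO f).presheaf.germ V₂ (f.base x) hx₂ s =
      (pushO f).presheaf.germ (V₁ ⊓ V₂) (f.base x) hx
        ((pushO f).presheaf.map (homOfLE inf_le_right).op s) :=
    (TopCat.Presheaf.germ_res_apply (pushO f).presheaf (homOfLE inf_le_right) (f.base x) hx s).symm
  rw [e1, e2]
  set t' := Y.presheaf.map (homOfLE (inf_le_left : V₁ ⊓ V₂ ≤ V₁)).op t
  set s' : Γ(X, f ⁻¹ᵁ (V₁ ⊓ V₂)) := (pushO f).presheaf.map (homOfLE (inf_le_right : V₁ ⊓ V₂ ≤ V₂)).op s
  rw [germ_smul f x (V₁ ⊓ V₂) hx t' s']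
  erw [cmp_germ, cmp_germ]
  rw [map_mul]
  congr 1
  exact (Scheme.Hom.germ_stalkMap_apply f (V₁ ⊓ V₂) x hx t').symm

theorem residue_bijective_of_isField (R : Type u) [CommRing R] [IsLocalRing R] (h : IsField R) :
    Function.Bijective (IsLocalRing.residue R) := by
  refine ⟨?_, IsLocalRing.residue_surjective⟩
  rw [RingHom.injective_iff_ker_eq_bot, IsLocalRing.ker_residue]
  exact IsLocalRing.isField_iff_maximalIdeal_eq.mp h

/-- the generic rank of `f_* O_X` is the degree of the function field extension -/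
theorem finrank_stalk_pushO [IsIntegral X] (hcl : IsClosedMap f.base)
    (hfib : ∀ x' : X, f.base x' = f.base x → x' = x)
    (hKX : IsField (X.presheaf.stalk x)) (hKY : IsField (Y.presheaf.stalk (f.base x))) :
    Module.finrank (Y.presheaf.stalk (f.base x)) ((pushO f).presheaf.stalk (f.base x)) =
      f.residueDegree x := by
  letI : Algebra (Y.presheaf.stalk (f.base x)) (X.presheaf.stalk x) := (f.stalkMap x).hom.toAlgebra
  let φ : (pushO f).presheaf.stalk (f.base x) →ₗ[Y.presheaf.stalk (f.base x)] X.presheaf.stalk x :=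
    { toFun := cmp f x
      map_add' := map_add _
      map_smul' := fun r a => by
        rw [cmp_smul, RingHom.id_apply, Algebra.smul_def]
        rfl }
  have hφ : Function.Bijective φ := ⟨cmp_injective f x, cmp_surjective f x hcl hfib⟩
  rw [(LinearEquiv.ofBijective φ hφ).finrank_eq]
  letI : Algebra (Y.residueField (f.base x)) (X.residueField x) :=
    (f.residueFieldMap x).hom.toAlgebra
  change _ = Module.finrank (Y.residueField (f.base x)) (X.residueField x)
  refine Algebra.finrank_eq_of_equiv_equiv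
    (RingEquiv.ofBijective (IsLocalRing.residue (Y.presheaf.stalk (f.base x)))
      (residue_bijective_of_isField _ hKY))
    (RingEquiv.ofBijective (IsLocalRing.residue (X.presheaf.stalk x))
      (residue_bijective_of_isField _ hKX)) ?_
  ext r
  have h := congrArg (fun ψ => ψ.hom r) (Scheme.residue_residueFieldMap f x)
  exact h

end Rank

section Main

open Groth.Agent.Helper1.Euler Groth.Agent.Helper1.FinLen

variable (k : Type u) [Field k] (X Y : Scheme.{u})
  [X.Over (Spec (CommRingCat.of k))] [Y.Over (Spec (CommRingCat.of k))] [IsIntegral X] [IsIntegral Y]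
  [IsProper (X ↘ (Spec (CommRingCat.of k)))] [IsProper (Y ↘ (Spec (CommRingCat.of k)))]

/-- S7640 -/
theorem deg_pullback_eq_residueDegree_mul_deg
    (hX : topologicalKrullDim X = 1) (hY : topologicalKrullDim Y = 1)
    (f : X ⟶ Y) (hf : f ≫ (Y ↘ (Spec (CommRingCat.of k))) = X ↘ (Spec (CommRingCat.of k)))
    (hξ : f.base (genericPoint X) = genericPoint Y)
    (n : ℕ) (E : Y.Modules) (hE : FlatMod.IsFinLocFreeOfRank n E) :
    Curv2.deg k X ((Scheme.Modules.pullback f).obj E) n =
      (f.residueDegree (genericPoint X) : ℤ) * Curv2.deg k Y E n := by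
  haveI : IsProper (f ≫ (Y ↘ Spec (CommRingCat.of k))) := by rw [hf]; infer_instance
  haveI : IsProper f := IsProper.of_comp f (Y ↘ Spec (CommRingCat.of k))
  haveI := isNoetherian_of_proper k X
  haveI : IsFinite f := isFinite_of_nonconstant f hX.le hY hξ
  have hOX : Coh.IsCoh (Coh.structureModule X) :=
    InvQc.isCoh_of_isInvertible _ (GenLoc.isInvertible_O (X := X))
  haveI : (Coh.structureModule X).IsQuasicoherent := hOX.1
  have hA : Coh.IsCoh (pushO f) := FinPush.isCoh_pushforward f _ hOX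
  have h1 := euler_tensor_curve k Y hY n E hE (pushO f) hA
  have hrank : ∀ y : Y, f.base (genericPoint X) = y →
      Module.finrank (Y.presheaf.stalk y) ((pushO f).presheaf.stalk y) =
        f.residueDegree (genericPoint X) := by
    intro y hy
    subst hy
    refine finrank_stalk_pushO f (genericPoint X) f.isClosedMap
      (fun x' hx' => eq_genericPoint_of_map_eq f hX.le hY x' (hx'.trans hξ)) ?_ ?_
    · exact Field.toIsField X.functionField
    · rw [hξ]
      exact Field.toIsField Y.functionField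
  rw [hrank _ hξ] at h1
  unfold Curv2.deg
  rw [euler_pullback_eq k Y X f hf E (isFinLocFree_of_rank hE), h1,
    ← euler_push k Y X f hf (Coh.structureModule X)]
  unfold Curv2.deg
  ring

end Main

end Groth.Agent.Helper1.DegFin
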