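import Mathlib
import Groth.Agent.Lib.Helper1.CMInt1
import Groth.Agent.Lib.Helper1.SnapCart2
import Groth.Agent.Lib.Helper1.DegFin2
import Groth.Agent.Lib.Lead.RkSch
import Groth.Agent.Lib.Lead.IdM2
import Groth.Agent.Lib.Helper2.Dual.PureDimClosed

/-!
# On a Cohen–Macaulay surface, an effective Cartier divisor has no embedded closed points (helper1)
-/

set_option autoImplicit false
universe u
open CategoryTheory CategoryTheory.Limits AlgebraicGeometry TopologicalSpace Opposite

namespace Groth.Agent.Helper1.CMInt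

open Groth.Agent.Helper1 Groth.Agent.Helper1.Dv Groth.Agent.Helper1.LGen
open Groth.Agent.Helper1.CurveLin Groth.Agent.Helper1.NegVan
open Groth.Agent.Lib.Helper5.StalkAdj

section Stalk

variable {X : Scheme.{u}}

/-- at a point whose local ring is Cohen–Macaulay of dimension two, the quotient by an invertible
ideal sheaf has no embedded component -/
theorem not_isAssPoint_quotMod (D : X.IdealSheafData)
    (hDinv : PicF.IsInvertible (ClSub.idealMod D)) (x : X)
    [LocCoh.IsCohenMacaulayLocalRing (X.presheaf.stalk x)]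
    (hdim : ringKrullDim (X.presheaf.stalk x) = 2) :
    ¬ Curv2.IsAssPoint (ClSub.quotMod D) x := by
  obtain ⟨W, c, hxW, hc⟩ := exists_isGen hDinv x
  obtain ⟨hfinj, hfsurj⟩ := (Groth.Agent.Lead.RkSch.freeAt_iff c x hxW).1
    (Groth.Agent.Lead.RkSch.freeAt_of_isGen hc x hxW)
  obtain ⟨e, he⟩ : ∃ e : X.presheaf.stalk x ≃ₗ[X.presheaf.stalk x]
      (Coh.structureModule X).presheaf.stalk x, e = (stalkUnitIso X x).toLinearEquiv := ⟨_, rfl⟩
  obtain ⟨ιx, hιx⟩ : ∃ ιx, ιx = stalkL (ClSub.idealModι D) x := ⟨_, rfl⟩
  obtain ⟨qx, hqx⟩ : ∃ qx, qx = stalkL (ClSub.toSubscheme D) x := ⟨_, rfl⟩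
  obtain ⟨g, hgdef⟩ : ∃ g : X.presheaf.stalk x,
      g = X.presheaf.germ W x hxW (Groth.Agent.Lead.IdM.ιL D W c) := ⟨_, rfl⟩
  have heg : e g = ιx ((ClSub.idealMod D).presheaf.germ W x hxW c) := by
    rw [hιx, stalkL_germ, he, hgdef]
    exact Groth.Agent.Helper1.DegFin.unitIso_germ x W hxW _
  have hqι : ∀ t, qx (ιx t) = 0 := by
    intro t
    have h := (IdealModL.S D).zero
    have h2 : (stalkSh X x).map (ClSub.idealModι D) ≫ (stalkSh X x).map (ClSub.toSubscheme D) =
        0 := by
      rw [← Functor.map_comp]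
      change (stalkSh X x).map ((IdealModL.S D).f ≫ (IdealModL.S D).g) = 0
      rw [h, Functor.map_zero]
    rw [hιx, hqx]
    exact congrArg (fun φ => φ.hom t) h2
  have hS' : ((IdealModL.S D).map (stalkSh X x)).Exact :=
    (IdealModL.S_exact D).map (stalkSh X x)
  have hex : ∀ v, qx v = 0 → ∃ t, ιx t = v := by
    intro v hv
    rw [hqx] at hv
    rw [hιx]
    exact (ShortComplex.moduleCat_exact_iff _).1 hS' v hv
  haveI := CurveDual.epi_toSubscheme D
  have hqsurj : Function.Surjective qx := by
    rw [hqx]; exact stalkL_surjective_of_epi (ClSub.toSubscheme D) x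
  have hιinj : Function.Injective ιx := by
    rw [hιx]; exact stalkL_injective_of_mono (ClSub.idealModι D) x
  have hπ : Function.Surjective (qx.comp e.toLinearMap) := hqsurj.comp e.surjective
  have hker : LinearMap.ker (qx.comp e.toLinearMap) = Ideal.span {g} := by
    ext y
    rw [LinearMap.mem_ker, Ideal.mem_span_singleton']
    constructor
    · intro hy
      obtain ⟨t, ht⟩ := hex (e y) hy
      obtain ⟨ρ, hρ⟩ := hfsurj t
      refine ⟨ρ, ?_⟩
      apply e.injective
      rw [← smul_eq_mul, map_smul, heg, ← map_smul, hρ, ht]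
    · rintro ⟨a, rfl⟩
      change qx (e (a * g)) = 0
      rw [← smul_eq_mul, map_smul, heg, ← map_smul]
      exact hqι _
  have hg : IsSMulRegular (X.presheaf.stalk x) g := by
    rw [isSMulRegular_iff_right_eq_zero_of_smul]
    intro r hr
    apply hfinj
    apply hιinj
    rw [map_smul, map_zero, ← heg, ← map_smul, smul_eq_mul, mul_comm]
    rw [show g * r = g • r from rfl, hr, map_zero]
  exact not_isAssociatedPrime_maximalIdeal _ hdim (qx.comp e.toLinearMap) hπ g hg hker

end Stalk

section Global

variable (k : Type u) [Field k] (X : Scheme.{u}) [X.Over (Spec (CommRingCat.of k))]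
  [IsProper (X ↘ (Spec (CommRingCat.of k)))]

include k in
/-- on a Cohen–Macaulay surface, no point of a finite intersection `C ∩ D` of two effective Cartier
divisors is associated to `O_D` -/
theorem not_isAssPoint_of_finite
    (hdim : ∀ Z ∈ irreducibleComponents (X : Type u), topologicalKrullDim Z = 2)
    (hCM : ∀ x : X, LocCoh.IsCohenMacaulayLocalRing (X.presheaf.stalk x))
    (IC ID : X.IdealSheafData) (hDinv : PicF.IsInvertible (ClSub.idealMod ID))
    (hfin : ((IC ⊔ ID).support : Set X).Finite) :
    ∀ x ∈ (IC.support : Set X), ¬ Curv2.IsAssPoint (ClSub.quotMod ID) x := by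
  intro x hxC hass
  have hxD : x ∈ (ID.support : Set X) := by
    by_contra h
    have h1 : x ∉ CohB1.support (ClSub.quotMod ID) :=
      fun h' => h (CurveDual.support_quotMod_subset ID h')
    haveI h2 : Subsingleton ((ClSub.quotMod ID).presheaf.stalk x) := by
      by_contra h3; exact h1 h3
    exact not_isAssociatedPrime_of_subsingleton hass
  have hxZ : x ∈ ((IC ⊔ ID).support : Set X) := by
    rw [Scheme.IdealSheafData.support_sup]
    exact ⟨hxC, hxD⟩
  haveI : JacobsonSpace X := LocallyOfFiniteType.jacobsonSpace (X ↘ (Spec (CommRingCat.of k)))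
  have hcl : IsClosed ({x} : Set X) := by
    by_contra hncl
    have hinf := infinite_closedPoints_closure x hncl
    apply hinf
    apply hfin.subset
    intro y hy
    exact (IsClosed.closure_subset_iff (IC ⊔ ID).support.isClosed).2
      (Set.singleton_subset_iff.2 hxZ) hy.1
  haveI := hCM x
  have hd2 : ringKrullDim (X.presheaf.stalk x) = 2 := by
    have h := Groth.Agent.Helper2.PureDimClosed.ringKrullDim_stalk_of_pure k X 2
      (fun Z hZ => by have := hdim Z hZ; exact_mod_cast this) x hcl
    rw [h]; rfl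
  exact not_isAssPoint_quotMod ID hDinv x hd2 hass

end Global

end Groth.Agent.Helper1.CMInt
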