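import Mathlib
import Groth.Agent.Lib.Helper1.QcIso
import Groth.Agent.Lib.Helper1.AdjBC
import Groth.Agent.Lib.Helper1.ModGlue
import Groth.Agent.Lib.Helper1.SubExt8
import Groth.Agent.Lib.Lead.SD2
import Groth.Agent.Lib.Helper1.TwForm1

set_option autoImplicit false
universe u
open CategoryTheory CategoryTheory.Limits AlgebraicGeometry TopologicalSpace Opposite

namespace Groth.Agent.Helper1.FPA

open Groth.Agent.Helper1.QcCech Groth.Agent.Helper1.TwistSec Groth.Agent.Helper1.ModGlue

variable {X : Scheme.{u}}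

/-- a morphism of modules is bijective on sections over all opens inside `O` -/
def IsoOn {A B : X.Modules} (φ : A ⟶ B) (O : X.Opens) : Prop :=
  ∀ T : X.Opens, T ≤ O → Function.Bijective (φ.app T)

/-- sections over affine opens inside `O` are finitely presented -/
def FPOn (G : X.Modules) (O : X.Opens) : Prop :=
  ∀ T : X.Opens, IsAffineOpen T → T ≤ O → Module.FinitePresentation Γ(X, T) Γ(G, T)

theorem IsoOn.mono {A B : X.Modules} {φ : A ⟶ B} {O O' : X.Opens} (h : IsoOn φ O) (hO : O' ≤ O) :
    IsoOn φ O' := fun T hT => h T (hT.trans hO)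

theorem IsoOn.comp {A B C : X.Modules} {φ : A ⟶ B} {ψ : B ⟶ C} {O : X.Opens} (h : IsoOn φ O)
    (h' : IsoOn ψ O) : IsoOn (φ ≫ ψ) O := fun T hT => (h' T hT).comp (h T hT)

theorem isoOn_of_isIso {A B : X.Modules} (φ : A ⟶ B) [IsIso φ] (O : X.Opens) : IsoOn φ O := by
  intro T _
  have : IsIso (φ.app T) := Scheme.Modules.Hom.isIso_iff_isIso_app.1 inferInstance T
  exact (ConcreteCategory.isIso_iff_bijective _).1 this

theorem FPOn.mono {G : X.Modules} {O O' : X.Opens} (h : FPOn G O) (hO : O' ≤ O) : FPOn G O' :=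
  fun T hT hTO => h T hT (hTO.trans hO)

instance (T : X.Opens) : PreservesLimitsOfShape WalkingCospan (evalType (X := X) T) := by
  unfold evalType
  have h1 : PreservesLimitsOfShape WalkingCospan
      (SheafOfModules.evaluation.{u} X.ringCatSheaf (op T)) := inferInstance
  have h2 : PreservesLimitsOfShape WalkingCospan
      (forget (ModuleCat.{u} ↑(X.ringCatSheaf.obj.obj (op T)))) := inferInstance
  have h3 : PreservesLimitsOfShape WalkingCospan
      (SheafOfModules.evaluation.{u} X.ringCatSheaf (op T) ⋙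
        forget (ModuleCat.{u} ↑(X.ringCatSheaf.obj.obj (op T)))) := inferInstance
  exact h3

theorem isPullback_evalType {A B C : X.Modules} (f : A ⟶ C) (g : B ⟶ C) (T : X.Opens) :
    IsPullback ((evalType T).map (pullback.fst f g)) ((evalType T).map (pullback.snd f g))
      ((evalType T).map f) ((evalType T).map g) :=
  (IsPullback.of_hasPullback f g).map (evalType T)

theorem pullback_ext {A B C : X.Modules} (f : A ⟶ C) (g : B ⟶ C) {T : X.Opens}
    (s t : Γ(pullback f g, T)) (h1 : (pullback.fst f g).app T s = (pullback.fst f g).app T t)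
    (h2 : (pullback.snd f g).app T s = (pullback.snd f g).app T t) : s = t :=
  Types.ext_of_isPullback (isPullback_evalType f g T) h1 h2

theorem pullback_exists {A B C : X.Modules} (f : A ⟶ C) (g : B ⟶ C) {T : X.Opens}
    (a : Γ(A, T)) (b : Γ(B, T)) (h : f.app T a = g.app T b) :
    ∃ s : Γ(pullback f g, T), (pullback.fst f g).app T s = a ∧ (pullback.snd f g).app T s = b :=
  Types.exists_of_isPullback (isPullback_evalType f g T) a b h

theorem pullback_condition_app {A B C : X.Modules} (f : A ⟶ C) (g : B ⟶ C) {T : X.Opens}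
    (s : Γ(pullback f g, T)) :
    f.app T ((pullback.fst f g).app T s) = g.app T ((pullback.snd f g).app T s) := by
  have := congrArg (fun φ => Scheme.Modules.Hom.app φ T) (pullback.condition (f := f) (g := g))
  exact congrArg (fun φ => φ s) this

/-- the first projection of a fibre product is bijective where the second map is -/
theorem pullback_fst_bijective {A B C : X.Modules} (f : A ⟶ C) (g : B ⟶ C) (T : X.Opens)
    (hg : Function.Bijective (g.app T)) : Function.Bijective ((pullback.fst f g).app T) := by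
  constructor
  · intro s t hst
    apply pullback_ext f g s t hst
    apply hg.1
    rw [← pullback_condition_app, ← pullback_condition_app, hst]
  · intro a
    obtain ⟨b, hb⟩ := hg.2 (f.app T a)
    obtain ⟨s, hs, -⟩ := pullback_exists f g a b hb.symm
    exact ⟨s, hs⟩

theorem pullback_snd_bijective {A B C : X.Modules} (f : A ⟶ C) (g : B ⟶ C) (T : X.Opens)
    (hf : Function.Bijective (f.app T)) : Function.Bijective ((pullback.snd f g).app T) := by
  constructor
  · intro s t hst
    refine pullback_ext f g s t ?_ hst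
    apply hf.1
    rw [pullback_condition_app, pullback_condition_app, hst]
  · intro b
    obtain ⟨a, ha⟩ := hf.2 (g.app T b)
    obtain ⟨s, -, hs⟩ := pullback_exists f g a b ha
    exact ⟨s, hs⟩

theorem isoOn_pullback_fst {A B C : X.Modules} (f : A ⟶ C) (g : B ⟶ C) {O : X.Opens}
    (hg : IsoOn g O) : IsoOn (pullback.fst f g) O :=
  fun T hT => pullback_fst_bijective f g T (hg T hT)

theorem isoOn_pullback_snd {A B C : X.Modules} (f : A ⟶ C) (g : B ⟶ C) {O : X.Opens}
    (hf : IsoOn f O) : IsoOn (pullback.snd f g) O :=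
  fun T hT => pullback_snd_bijective f g T (hf T hT)

theorem bijective_app_of_eq {A B : X.Modules} (φ : A ⟶ B) {U V : X.Opens}
    (e : U = V) (h : Function.Bijective (φ.app V)) : Function.Bijective (φ.app U) := by
  subst e
  exact h

/-- restriction along an open immersion landing in `O` of a morphism which is an isomorphism over `O`
is an isomorphism -/
theorem IsoOn.isIso_restrict {A B : X.Modules} {φ : A ⟶ B} {O : X.Opens} (h : IsoOn φ O)
    {Y : Scheme.{u}} (j : Y ⟶ X) [IsOpenImmersion j] (hj : j.opensRange ≤ O) :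
    IsIso ((Scheme.Modules.restrictFunctor j).map φ) := by
  apply Groth.Agent.Helper1.TwForm.isIso_of_app_bijective
  intro W
  rw [AdjBC.restrictFunctor_map_app']
  apply h
  exact (j.image_le_opensRange W).trans hj

/-- a morphism of quasi-coherent modules which is bijective on sections over an affine open
neighbourhood (inside `O`) of every point of `O` is an isomorphism over `O` -/
theorem isoOn_of_cover {A B : X.Modules} [A.IsQuasicoherent] [B.IsQuasicoherent] (φ : A ⟶ B)
    (O : X.Opens)
    (h : ∀ x ∈ O, ∃ T : X.Opens, IsAffineOpen T ∧ x ∈ T ∧ T ≤ O ∧ Function.Bijective (φ.app T)) :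
    IsoOn φ O := by
  have hr : O.ι.opensRange = O := Scheme.Opens.opensRange_ι O
  haveI : IsIso ((Scheme.Modules.restrictFunctor O.ι).map φ) := by
    haveI : (A.restrict O.ι).IsQuasicoherent := inferInstance
    haveI : (B.restrict O.ι).IsQuasicoherent := inferInstance
    apply QcIso.isIso_of_bijective_cover (M := A.restrict O.ι) (N := B.restrict O.ι)
    intro y
    obtain ⟨T, hT, hxT, hTO, hb⟩ := h (O.ι y) y.2
    refine ⟨O.ι ⁻¹ᵁ T, hT.preimage_of_isOpenImmersion O.ι (by rw [hr]; exact hTO), hxT, ?_⟩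
    have e : O.ι ''ᵁ (O.ι ⁻¹ᵁ T) = T :=
      SubSh.image_preimage_eq_of_le O.ι (by rw [hr]; exact hTO)
    exact bijective_app_of_eq φ e hb
  intro T hT
  have h1 : IsIso (((Scheme.Modules.restrictFunctor O.ι).map φ).app (O.ι ⁻¹ᵁ T)) :=
    Scheme.Modules.Hom.isIso_iff_isIso_app.1 inferInstance _
  have e : O.ι ''ᵁ (O.ι ⁻¹ᵁ T) = T :=
    SubSh.image_preimage_eq_of_le O.ι (by rw [hr]; exact hT)
  have h2 : Function.Bijective (φ.app (O.ι ''ᵁ (O.ι ⁻¹ᵁ T))) :=
    (ConcreteCategory.isIso_iff_bijective _).1 h1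
  exact bijective_app_of_eq φ e.symm h2

theorem fp_of_eq (G : X.Modules) {T T' : X.Opens} (e : T = T')
    (h : Module.FinitePresentation Γ(X, T') Γ(G, T')) :
    Module.FinitePresentation Γ(X, T) Γ(G, T) := by
  subst e
  exact h

attribute [local instance] Groth.Agent.Lead.SD.basicOpenModule in
/-- finite presentation of sections passes to basic opens -/
theorem fp_basicOpen (G : X.Modules) [G.IsQuasicoherent] {T : X.Opens} (hT : IsAffineOpen T)
    (g : Γ(X, T)) (h : Module.FinitePresentation Γ(X, T) Γ(G, T)) :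
    Module.FinitePresentation Γ(X, X.basicOpen g) Γ(G, X.basicOpen g) :=
  haveI := h
  _root_.FinitePresentation.of_isBaseChange (Groth.Agent.Lead.SD.resₗ G g)
    (Groth.Agent.Lead.SD.isBaseChange_res G hT g)

attribute [local instance] Groth.Agent.Lead.SD.basicOpenModule in
/-- finite presentation of sections over affine opens is local -/
theorem fpOn_of_cover (G : X.Modules) [G.IsQuasicoherent] (O : X.Opens)
    (h : ∀ x ∈ O, ∃ T : X.Opens, IsAffineOpen T ∧ x ∈ T ∧
      Module.FinitePresentation Γ(X, T) Γ(G, T)) : FPOn G O := by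
  intro U hU hUO
  let s : Set Γ(X, U) := {g | Module.FinitePresentation Γ(X, X.basicOpen g) Γ(G, X.basicOpen g)}
  have hs : Ideal.span s = ⊤ := by
    rw [← hU.self_le_iSup_basicOpen_iff]
    intro x hx
    obtain ⟨T, hT, hxT, hfp⟩ := h x (hUO hx)
    obtain ⟨f, g, e, hxf⟩ := exists_basicOpen_le_affine_inter hU hT x ⟨hx, hxT⟩
    have h1 := fp_basicOpen G hT g hfp
    exact Opens.mem_iSup.2 ⟨⟨f, fp_of_eq G e h1⟩, hxf⟩
  haveI : ∀ g : s, IsLocalization.Away g.1 Γ(X, X.basicOpen g.1) :=
    fun g => hU.isLocalization_basicOpen g.1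
  haveI : ∀ g : s, IsLocalizedModule (Submonoid.powers g.1) (Groth.Agent.Lead.SD.resₗ G g.1) :=
    fun g => Groth.Agent.Lead.SD.isLocalizedModule_res G hU g.1
  exact Module.FinitePresentation.of_localizationSpan' s hs
    (Rₚ := fun g => Γ(X, X.basicOpen g.1)) (Mₚ := fun g => Γ(G, X.basicOpen g.1))
    (fun g => Groth.Agent.Lead.SD.resₗ G g.1) (fun g => g.2)

theorem FPOn.sup {G : X.Modules} [G.IsQuasicoherent] {O O' : X.Opens} (h : FPOn G O)
    (h' : FPOn G O') : FPOn G (O ⊔ O') := by
  apply fpOn_of_cover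
  intro x hx
  rcases hx with hx | hx
  · obtain ⟨_, ⟨T, hT, rfl⟩, hxT, hTO⟩ := X.isBasis_affineOpens.exists_subset_of_mem_open
      hx O.isOpen
    exact ⟨T, hT, hxT, h T hT hTO⟩
  · obtain ⟨_, ⟨T, hT, rfl⟩, hxT, hTO⟩ := X.isBasis_affineOpens.exists_subset_of_mem_open
      hx O'.isOpen
    exact ⟨T, hT, hxT, h' T hT hTO⟩

/-- transport of finite presentation over an open along an isomorphism over that open -/
theorem FPOn.of_isoOn {G G' : X.Modules} {ψ : G' ⟶ G} {O : X.Opens} (h : FPOn G O)
    (hψ : IsoOn ψ O) : FPOn G' O := by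
  intro T hT hTO
  haveI := h T hT hTO
  let e : Γ(G', T) ≃ₗ[Γ(X, T)] Γ(G, T) :=
    LinearEquiv.ofBijective
      { toFun := ψ.app T
        map_add' := fun x y => map_add _ x y
        map_smul' := fun r x => Scheme.Modules.Hom.app_smul ψ r x } (hψ T hTO)
  exact Module.FinitePresentation.of_equiv e.symm

end Groth.Agent.Helper1.FPA
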