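import Mathlib

set_option autoImplicit false
universe u
open TensorProduct

namespace Groth.Agent.Helper1.FPA

section Dense

/-- an element whose image lies in the `R_f`-span of the image of `E` has a multiple by a power of
`f` in the span of `E` -/
theorem pow_smul_mem_span_of_map_mem {R : Type*} [CommRing R] (f : R) (Rf : Type*) [CommRing Rf]
    [Algebra R Rf] [IsLocalization.Away f Rf]
    {A Af : Type*} [AddCommGroup A] [Module R A] [AddCommGroup Af] [Module R Af] [Module Rf Af]
    [IsScalarTower R Rf Af] (l : A →ₗ[R] Af) [IsLocalizedModule.Away f l] (E : Set A) (x : A)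
    (hx : l x ∈ Submodule.span Rf (l '' E)) : ∃ n : ℕ, f ^ n • x ∈ Submodule.span R E := by
  obtain ⟨t, ht⟩ := multiple_mem_span_of_mem_localization_span (Submonoid.powers f) Rf
    (l '' E) (l x) hx
  obtain ⟨k, hk⟩ := t.2
  have hk' : f ^ k = (t : R) := hk
  have ht' : f ^ k • l x ∈ Submodule.span R (l '' E) := by
    rw [hk']
    exact ht
  rw [← Submodule.map_span, Submodule.mem_map] at ht'
  obtain ⟨a, ha, hla⟩ := ht'
  have h1 : l (f ^ k • x - a) = 0 := by
    rw [map_sub, map_smul, hla]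
    exact sub_self _
  obtain ⟨s, hs⟩ := (IsLocalizedModule.eq_zero_iff (Submonoid.powers f) l).1 h1
  obtain ⟨k', hk'⟩ := s.2
  have hk'' : f ^ k' = (s : R) := hk'
  have hs' : f ^ k' • (f ^ k • x - a) = 0 := by
    rw [hk'']
    exact hs
  refine ⟨k' + k, ?_⟩
  rw [smul_sub, sub_eq_zero] at hs'
  rw [pow_add, mul_smul, hs']
  exact Submodule.smul_mem _ _ ha

theorem exists_pow_smul_eq_map {R : Type*} [CommRing R] (f : R)
    {A Af : Type*} [AddCommGroup A] [Module R A] [AddCommGroup Af] [Module R Af]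
    (l : A →ₗ[R] Af) [IsLocalizedModule.Away f l] (y : Af) :
    ∃ (x : A) (k : ℕ), f ^ k • y = l x := by
  obtain ⟨⟨x, s⟩, hs⟩ := IsLocalizedModule.surj (Submonoid.powers f) l y
  obtain ⟨k, hk⟩ := s.2
  have hk' : f ^ k = (s : R) := hk
  exact ⟨x, k, by rw [hk']; exact hs⟩

/-- in the localisation, an element is a unit multiple of any of its `f`-power multiples -/
theorem eq_unit_smul_of_pow_smul {R : Type*} [CommRing R] (f : R) (Rf : Type*) [CommRing Rf]
    [Algebra R Rf] [IsLocalization.Away f Rf]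
    {Af : Type*} [AddCommGroup Af] [Module R Af] [Module Rf Af]
    [IsScalarTower R Rf Af] (k : ℕ) (y z : Af) (h : f ^ k • y = z) : ∃ c : Rf, y = c • z := by
  have hu : IsUnit (algebraMap R Rf (f ^ k)) :=
    IsLocalization.map_units Rf (⟨f ^ k, k, rfl⟩ : Submonoid.powers f)
  obtain ⟨u, hu⟩ := hu
  refine ⟨(↑u⁻¹ : Rf), ?_⟩
  rw [← h, ← algebraMap_smul Rf (f ^ k) y, ← hu, smul_smul, Units.inv_mul, one_smul]

/-- if the localisation is finite, finitely many elements generate up to powers of `f` -/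
theorem exists_finset_dense {R : Type*} [CommRing R] (f : R) (Rf : Type*) [CommRing Rf]
    [Algebra R Rf] [IsLocalization.Away f Rf]
    {A Af : Type*} [AddCommGroup A] [Module R A] [AddCommGroup Af] [Module R Af] [Module Rf Af]
    [IsScalarTower R Rf Af] (l : A →ₗ[R] Af) [IsLocalizedModule.Away f l] [Module.Finite Rf Af] :
    ∃ E : Finset A, ∀ x : A, ∃ n : ℕ, f ^ n • x ∈ Submodule.span R (E : Set A) := by
  classical
  obtain ⟨t, ht⟩ := (Module.Finite.fg_top : (⊤ : Submodule Rf Af).FG)
  choose g k hg using exists_pow_smul_eq_map f l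
  refine ⟨t.image g, fun x => ?_⟩
  apply pow_smul_mem_span_of_map_mem f Rf l
  have htop : Submodule.span Rf (l '' ((t.image g : Finset A) : Set A)) = ⊤ := by
    rw [eq_top_iff, ← ht, Submodule.span_le]
    intro y hy
    obtain ⟨c, hc⟩ := eq_unit_smul_of_pow_smul f Rf (k y) y _ (hg y)
    rw [SetLike.mem_coe, hc]
    refine Submodule.smul_mem _ _ (Submodule.subset_span ⟨g y, ?_, rfl⟩)
    exact Finset.mem_coe.2 (Finset.mem_image_of_mem g hy)
  rw [htop]
  trivial

attribute [local instance] LocalizedModule.moduleOfIsLocalization in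
/-- kernel version: for a map from a finite module onto (up to powers of `f`) a module whose
localisation is finitely presented, finitely many elements of the kernel generate it up to powers
of `f` -/
theorem exists_finset_ker_dense {R : Type*} [CommRing R] (f : R) (Rf : Type*) [CommRing Rf]
    [Algebra R Rf] [IsLocalization.Away f Rf]
    {M Mf : Type*} [AddCommGroup M] [Module R M] [AddCommGroup Mf] [Module R Mf] [Module Rf Mf]
    [IsScalarTower R Rf Mf] (l : M →ₗ[R] Mf) [IsLocalizedModule.Away f l]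
    [Module.FinitePresentation Rf Mf]
    {P : Type*} [AddCommGroup P] [Module R P] [Module.Finite R P] (p : P →ₗ[R] M)
    (hp : ∀ m : M, ∃ (n : ℕ) (q : P), f ^ n • m = p q) :
    ∃ E' : Finset P, (∀ x ∈ E', p x = 0) ∧
      ∀ x : P, p x = 0 → ∃ n : ℕ, f ^ n • x ∈ Submodule.span R (E' : Set P) := by
  classical
  let S := Submonoid.powers f
  let Pf := LocalizedModule S P
  let lP : P →ₗ[R] Pf := LocalizedModule.mkLinearMap S P
  let pf : Pf →ₗ[Rf] Mf := IsLocalizedModule.mapExtendScalars S lP l Rf p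
  have hpf : ∀ x : P, pf (lP x) = l (p x) := by
    intro x
    simp only [pf, IsLocalizedModule.mapExtendScalars_apply_apply]
    exact IsLocalizedModule.map_apply S lP l p x
  have hsurj : Function.Surjective pf := by
    intro y
    obtain ⟨m, k, hk⟩ := exists_pow_smul_eq_map f l y
    obtain ⟨n, q, hq⟩ := hp m
    have h1 : f ^ (n + k) • y = pf (lP q) := by
      rw [pow_add, mul_smul, hk, ← map_smul, hq, hpf]
    obtain ⟨c, hc⟩ := eq_unit_smul_of_pow_smul f Rf (n + k) y _ h1
    exact ⟨c • lP q, by rw [map_smul, ← hc]⟩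
  haveI : Module.Finite Rf Pf := Module.Finite.of_isLocalizedModule S lP
  obtain ⟨t', ht'⟩ := Module.FinitePresentation.fg_ker pf hsurj
  choose g k hg using exists_pow_smul_eq_map f lP
  have hb : ∀ y : Pf, ∃ b : ℕ, pf y = 0 → f ^ b • p (g y) = 0 := by
    intro y
    by_cases hy : pf y = 0
    · have h1 : l (p (g y)) = 0 := by
        rw [← hpf, ← hg, LinearMap.map_smul_of_tower, hy, smul_zero]
      obtain ⟨s, hs⟩ := (IsLocalizedModule.eq_zero_iff S l).1 h1
      obtain ⟨b, hb⟩ := s.2
      have hb' : f ^ b = (s : R) := hb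
      exact ⟨b, fun _ => by rw [hb']; exact hs⟩
    · exact ⟨0, fun h => absurd h hy⟩
  choose b hb using hb
  have hmem : ∀ y ∈ t', pf y = 0 := by
    intro y hy
    have : y ∈ LinearMap.ker pf := by
      rw [← ht']
      exact Submodule.subset_span hy
    exact this
  refine ⟨t'.image (fun y => f ^ b y • g y), ?_, ?_⟩
  · intro x hx
    obtain ⟨y, hy, rfl⟩ := Finset.mem_image.1 hx
    rw [map_smul]
    exact hb y (hmem y hy)
  · intro x hx
    apply pow_smul_mem_span_of_map_mem f Rf lP
    have h1 : lP x ∈ LinearMap.ker pf := by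
      rw [LinearMap.mem_ker, hpf, hx, map_zero]
    rw [← ht'] at h1
    refine Submodule.span_le.2 ?_ h1
    intro y hy
    have h2 : f ^ (b y + k y) • y = lP (f ^ b y • g y) := by
      rw [pow_add, mul_smul, hg, map_smul]
    obtain ⟨c, hc⟩ := eq_unit_smul_of_pow_smul f Rf _ y _ h2
    rw [SetLike.mem_coe, hc]
    refine Submodule.smul_mem _ _ (Submodule.subset_span ⟨_, ?_, rfl⟩)
    exact Finset.mem_coe.2 (Finset.mem_image_of_mem _ hy)

end Dense

/-- a map whose kernel and cokernel are killed by powers of `f` becomes bijective after localising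
at `f` -/
theorem bijective_of_torsion {R : Type*} [CommRing R] (f : R) {A Af B Bf : Type*}
    [AddCommGroup A] [Module R A] [AddCommGroup Af] [Module R Af]
    [AddCommGroup B] [Module R B] [AddCommGroup Bf] [Module R Bf]
    (l₁ : A →ₗ[R] Af) (l₂ : B →ₗ[R] Bf) [IsLocalizedModule.Away f l₁] [IsLocalizedModule.Away f l₂]
    (g : A →ₗ[R] B) (gf : Af →ₗ[R] Bf) (hcomm : ∀ a, gf (l₁ a) = l₂ (g a))
    (hker : ∀ a, g a = 0 → ∃ n : ℕ, f ^ n • a = 0)
    (hcok : ∀ b, ∃ (n : ℕ) (a : A), f ^ n • b = g a) : Function.Bijective gf := by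
  have hinj₁ : ∀ (n : ℕ) (x : Af), f ^ n • x = 0 → x = 0 := by
    intro n x hx
    have := IsLocalizedModule.smul_injective l₁ (⟨f ^ n, n, rfl⟩ : Submonoid.powers f)
    apply this
    simp only [smul_zero]
    exact hx
  have hinj₂ : ∀ (n : ℕ) (x y : Bf), f ^ n • x = f ^ n • y → x = y := by
    intro n x y hxy
    exact IsLocalizedModule.smul_injective l₂ (⟨f ^ n, n, rfl⟩ : Submonoid.powers f) hxy
  constructor
  · rw [injective_iff_map_eq_zero]
    intro x hx
    obtain ⟨q, k, hk⟩ := exists_pow_smul_eq_map f l₁ x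
    have h1 : l₂ (g q) = 0 := by
      rw [← hcomm, ← hk, map_smul, hx, smul_zero]
    obtain ⟨s, hs⟩ := (IsLocalizedModule.eq_zero_iff (Submonoid.powers f) l₂).1 h1
    obtain ⟨m, hm⟩ := s.2
    have hm' : f ^ m = (s : R) := hm
    have h2 : g (f ^ m • q) = 0 := by
      rw [map_smul, hm']
      exact hs
    obtain ⟨n, hn⟩ := hker _ h2
    apply hinj₁ (n + m + k)
    rw [pow_add, mul_smul, hk, ← map_smul, pow_add, mul_smul, hn, map_zero]
  · intro y
    obtain ⟨m, k, hk⟩ := exists_pow_smul_eq_map f l₂ y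
    obtain ⟨n, q, hq⟩ := hcok m
    let s : Submonoid.powers f := ⟨f ^ (n + k), n + k, rfl⟩
    refine ⟨IsLocalizedModule.mk' l₁ q s, ?_⟩
    apply hinj₂ (n + k)
    have h1 : f ^ (n + k) • IsLocalizedModule.mk' l₁ q s = l₁ q :=
      IsLocalizedModule.mk'_cancel' l₁ q s
    rw [← map_smul, h1, hcomm, ← hq, pow_add, mul_smul, hk, map_smul]

/-- the localisation of `M` away from `f` is finitely presented, for some model of the
localisations -/
def FPAway (R M : Type u) [CommRing R] [AddCommGroup M] [Module R M] (f : R) : Prop :=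
  ∃ (Rf Mf : Type u) (_ : CommRing Rf) (_ : Algebra R Rf) (_ : AddCommGroup Mf) (_ : Module R Mf)
    (_ : Module Rf Mf) (_ : IsScalarTower R Rf Mf) (l : M →ₗ[R] Mf),
    IsLocalization.Away f Rf ∧ IsLocalizedModule.Away f l ∧ Module.FinitePresentation Rf Mf

/-- **finitely presented approximation**: if the localisations of `M` at finitely many elements are
finitely presented, there is a finitely presented module mapping to `M` with kernel and cokernel
killed by powers of each of these elements -/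
theorem exists_fp_approx {R M : Type u} [CommRing R] [AddCommGroup M] [Module R M] (S : Finset R)
    (h : ∀ f ∈ S, FPAway R M f) :
    ∃ (Q : Type u) (_ : AddCommGroup Q) (_ : Module R Q) (π : Q →ₗ[R] M),
      Module.FinitePresentation R Q ∧
      ∀ f ∈ S, (∀ q, π q = 0 → ∃ n : ℕ, f ^ n • q = 0) ∧
        ∀ m, ∃ (n : ℕ) (q : Q), f ^ n • m = π q := by
  classical
  have h1 : ∀ f : S, ∃ E : Finset M, ∀ x : M, ∃ n : ℕ,
      f.1 ^ n • x ∈ Submodule.span R (E : Set M) := by
    intro f
    obtain ⟨Rf, Mf, _, _, _, _, _, _, l, h1, h2, h3⟩ := h f.1 f.2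
    exact exists_finset_dense f.1 Rf l
  choose E hE using h1
  let E₀ : Finset M := Finset.univ.biUnion E
  let P := (E₀ → R)
  let p : P →ₗ[R] M := Fintype.linearCombination R (fun e : E₀ => (e : M))
  have hrange : LinearMap.range p = Submodule.span R (E₀ : Set M) := by
    rw [Fintype.range_linearCombination]
    congr 1
    ext x
    simp
  have hp : ∀ (f : S) (m : M), ∃ (n : ℕ) (q : P), f.1 ^ n • m = p q := by
    intro f m
    obtain ⟨n, hn⟩ := hE f m
    have h2 : f.1 ^ n • m ∈ LinearMap.range p := by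
      rw [hrange]
      refine Submodule.span_mono ?_ hn
      intro x hx
      exact Finset.mem_coe.2 (Finset.mem_biUnion.2 ⟨f, Finset.mem_univ _, hx⟩)
    obtain ⟨q, hq⟩ := h2
    exact ⟨n, q, hq.symm⟩
  have h2 : ∀ f : S, ∃ E' : Finset P, (∀ x ∈ E', p x = 0) ∧
      ∀ x : P, p x = 0 → ∃ n : ℕ, f.1 ^ n • x ∈ Submodule.span R (E' : Set P) := by
    intro f
    obtain ⟨Rf, Mf, _, _, _, _, _, _, l, h1, h2, h3⟩ := h f.1 f.2
    exact exists_finset_ker_dense f.1 Rf l p (hp f)
  choose E' hE'1 hE'2 using h2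
  let E'₀ : Finset P := Finset.univ.biUnion E'
  let K' : Submodule R P := Submodule.span R (E'₀ : Set P)
  have hK' : K' ≤ LinearMap.ker p := by
    rw [Submodule.span_le]
    intro x hx
    obtain ⟨f, -, hxf⟩ := Finset.mem_biUnion.1 (Finset.mem_coe.1 hx)
    exact hE'1 f x hxf
  refine ⟨P ⧸ K', inferInstance, inferInstance, K'.liftQ p hK', ?_, ?_⟩
  · refine Module.finitePresentation_of_free_of_surjective K'.mkQ (Submodule.mkQ_surjective _) ?_
    rw [Submodule.ker_mkQ]
    exact ⟨E'₀, rfl⟩
  · intro f hf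
    constructor
    · intro q hq
      obtain ⟨x, rfl⟩ := Submodule.mkQ_surjective K' q
      have hx : p x = 0 := by simpa using hq
      obtain ⟨n, hn⟩ := hE'2 ⟨f, hf⟩ x hx
      refine ⟨n, ?_⟩
      rw [← map_smul, Submodule.mkQ_apply, Submodule.Quotient.mk_eq_zero]
      refine Submodule.span_mono ?_ hn
      intro y hy
      exact Finset.mem_coe.2 (Finset.mem_biUnion.2 ⟨⟨f, hf⟩, Finset.mem_univ _, hy⟩)
    · intro m
      obtain ⟨n, q, hq⟩ := hp ⟨f, hf⟩ m
      exact ⟨n, K'.mkQ q, by rw [hq]; simp⟩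

end Groth.Agent.Helper1.FPA
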