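import Mathlib
import Groth.Agent.Lib.Helper1.FPA1
import Groth.Agent.Lib.Helper1.FPA2

set_option autoImplicit false
universe u
open CategoryTheory CategoryTheory.Limits AlgebraicGeometry TopologicalSpace Opposite

namespace Groth.Agent.Helper1.FPA

open PrimeSpectrum Scheme.Modules

variable {R : CommRingCat.{u}}

/-- the map on sections of a morphism of modules on `Spec R`, as an `R`-linear map -/
noncomputable def appR {A B : (Spec R).Modules} (φ : A ⟶ B) (U : (Spec R).Opens) :
    Γ(A, U) →ₗ[R] Γ(B, U) where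
  toFun := φ.app U
  map_add' x y := map_add _ x y
  map_smul' r x := by
    simp only [RingHom.id_apply]
    rw [smul_Spec_def, Scheme.Modules.Hom.app_smul, ← smul_Spec_def]

theorem appR_apply {A B : (Spec R).Modules} (φ : A ⟶ B) (U : (Spec R).Opens) (x : Γ(A, U)) :
    appR φ U x = φ.app U x := rfl

/-- a morphism of quasi-coherent modules on `Spec R` whose kernel and cokernel on global sections are
killed by powers of `g` is bijective over `D(g)` -/
theorem spec_bijective_basicOpen {A B : (Spec R).Modules} [A.IsQuasicoherent] [B.IsQuasicoherent]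
    (φ : A ⟶ B) (g : R)
    (hker : ∀ a : Γ(A, ⊤), φ.app ⊤ a = 0 → ∃ n : ℕ, g ^ n • a = 0)
    (hcok : ∀ b : Γ(B, ⊤), ∃ (n : ℕ) (a : Γ(A, ⊤)), g ^ n • b = φ.app ⊤ a) :
    Function.Bijective (φ.app (basicOpen g)) := by
  let D : (Spec R).Opens := PrimeSpectrum.basicOpen g
  let l₁ : Γ(A, ⊤) →ₗ[R] Γ(A, D) := ((modulesSpecToSheaf.obj A).obj.map D.leTop.op).hom
  let l₂ : Γ(B, ⊤) →ₗ[R] Γ(B, D) := ((modulesSpecToSheaf.obj B).obj.map D.leTop.op).hom
  have hA : IsLocalizedModule.Away g l₁ :=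
    (isIso_fromTildeΓ_iff_isLocalizing A).1 inferInstance g
  have hB : IsLocalizedModule.Away g l₂ :=
    (isIso_fromTildeΓ_iff_isLocalizing B).1 inferInstance g
  exact bijective_of_torsion g l₁ l₂ (appR φ ⊤) (appR φ D)
    (fun a => QcIso.app_res φ (le_top : D ≤ ⊤) a) hker hcok

/-- **local finitely presented approximation on an affine scheme** -/
theorem exists_fp_local (N : (Spec R).Modules) [N.IsQuasicoherent] (S : Finset R)
    (h : ∀ f ∈ S, FPAway R Γ(N, ⊤) f) :
    ∃ (𝒬 : (Spec R).Modules) (π : 𝒬 ⟶ N), 𝒬.IsQuasicoherent ∧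
      Module.FinitePresentation R Γ(𝒬, ⊤) ∧
      ∀ T : (Spec R).Opens, (∀ y ∈ T, ∃ f ∈ S, y ∈ PrimeSpectrum.basicOpen f) →
        Function.Bijective (π.app T) := by
  obtain ⟨Q, _, _, π, hfp, hπ⟩ := exists_fp_approx S h
  let Qm : ModuleCat.{u} R := ModuleCat.of R Q
  let adj := tilde.adjunction (R := R)
  let g : Qm ⟶ (moduleSpecΓFunctor (R := R)).obj N :=
    (ModuleCat.ofHom π : Qm ⟶ ModuleCat.of R ↑Γ(N, ⊤))
  let πt : (tilde.functor R).obj Qm ⟶ N := (adj.homEquiv Qm N).symm g
  have hu : adj.unit.app Qm ≫ (moduleSpecΓFunctor (R := R)).map πt = g := by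
    have := (adj.homEquiv Qm N).apply_symm_apply g
    rwa [Adjunction.homEquiv_unit] at this
  let u : Q ≃ₗ[R] Γ((tilde.functor R).obj Qm, ⊤) := (asIso (adj.unit.app Qm)).toLinearEquiv
  have key : ∀ q : Q, πt.app ⊤ (u q) = π q := by
    intro q
    have := congrArg (fun φ => φ.hom q) hu
    simp only [ModuleCat.hom_comp, LinearMap.comp_apply] at this
    exact this
  haveI : ((tilde.functor R).obj Qm).IsQuasicoherent := inferInstance
  have hbasic : ∀ f ∈ S, IsoOn πt (PrimeSpectrum.basicOpen f : (Spec R).Opens) := by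
    intro f hf
    have haff : IsAffineOpen (X := Spec R) (PrimeSpectrum.basicOpen f : (Spec R).Opens) := by
      rw [← basicOpen_eq_of_affine]
      exact (isAffineOpen_top (Spec R)).basicOpen _
    apply isoOn_of_cover
    intro x hx
    refine ⟨_, haff, hx, le_rfl, ?_⟩
    apply spec_bijective_basicOpen πt f
    · intro a ha
      obtain ⟨q, rfl⟩ := u.surjective a
      rw [key] at ha
      obtain ⟨n, hn⟩ := (hπ f hf).1 q ha
      exact ⟨n, by rw [← u.map_smul, hn, map_zero]⟩
    · intro b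
      obtain ⟨n, q, hq⟩ := (hπ f hf).2 b
      exact ⟨n, u q, by rw [key]; exact hq⟩
  refine ⟨(tilde.functor R).obj Qm, πt, inferInstance, Module.FinitePresentation.of_equiv u, ?_⟩
  intro T hT
  have : IsoOn πt T := by
    apply isoOn_of_cover
    intro x hx
    obtain ⟨f, hf, hxf⟩ := hT x hx
    obtain ⟨_, ⟨T', hT', rfl⟩, hxT', hle⟩ := (Spec R).isBasis_affineOpens.exists_subset_of_mem_open
      (show x ∈ ((T ⊓ (PrimeSpectrum.basicOpen f : (Spec R).Opens) : (Spec R).Opens) : Set _) from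
        ⟨hx, hxf⟩) (T ⊓ (PrimeSpectrum.basicOpen f : (Spec R).Opens)).isOpen
    exact ⟨T', hT', hxT', fun y hy => (hle hy).1, hbasic f hf T' fun y hy => (hle hy).2⟩
  exact this T le_rfl

end Groth.Agent.Helper1.FPA
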