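import Mathlib
import Groth.Prelude.Def_Coh
import Groth.Prelude.Def_CxOX
import Groth.Agent.Lib.Helper1.QcAbel

set_option autoImplicit false
universe u
open CategoryTheory CategoryTheory.Limits AlgebraicGeometry TopologicalSpace Opposite

namespace Groth.Agent.Helper1.GammaZ

open Groth.Agent.Helper1.QcCech Groth.Agent.Helper1.QcExt

variable {U X : Scheme.{u}} (j : U ⟶ X) [IsOpenImmersion j] (F : X.Modules)

theorem unit_app (V : X.Opens) : ((Scheme.Modules.restrictAdjunction j).unit.app F).app V =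
    F.presheaf.map (homOfLE (j.image_preimage_le V)).op := by
  rfl

/-- membership in `Γ_Z(F)(V)` is vanishing on `V ∩ U` -/
theorem mem_range_iff (V : X.Opens) (s : Γ(F, V)) :
    s ∈ Set.range (((CxOX.gammaZι j).app F).app V) ↔
      res F (j.image_preimage_le V) s = 0 := by
  let S : ShortComplex X.Modules := ShortComplex.mk
    (kernel.ι ((Scheme.Modules.restrictAdjunction j).unit.app F))
    ((Scheme.Modules.restrictAdjunction j).unit.app F) (kernel.condition _)
  have hS : S.Exact := ShortComplex.exact_of_f_is_kernel _ (kernelIsKernel _)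
  have : Mono S.f := inferInstanceAs (Mono (kernel.ι _))
  constructor
  · rintro ⟨t, rfl⟩
    have := app_zero S V t
    exact this
  · intro h
    obtain ⟨y, hy⟩ := QcAbel.app_exact' hS V s h
    exact ⟨y, hy⟩

theorem basicOpen_le_image_preimage (V : X.Opens) (I : Ideal Γ(X, V))
    (hZ : ∀ x : X, x ∈ V → (x ∉ Set.range j.base ↔ ∀ f ∈ I, x ∉ X.basicOpen f))
    (f : Γ(X, V)) (hf : f ∈ I) : X.basicOpen f ≤ j ''ᵁ (j ⁻¹ᵁ V) := by
  rw [Scheme.Hom.image_preimage_eq_opensRange_inf]
  intro x hx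
  have hxV : x ∈ V := X.basicOpen_le f hx
  refine ⟨?_, hxV⟩
  by_contra hn
  exact (hZ x hxV).1 hn f hf hx

theorem res_eq_zero_iff [F.IsQuasicoherent] (V : X.Opens) (hV : IsAffineOpen V)
    (I : Ideal Γ(X, V)) (hI : I.FG)
    (hZ : ∀ x : X, x ∈ V → (x ∉ Set.range j.base ↔ ∀ f ∈ I, x ∉ X.basicOpen f))
    (s : Γ(F, V)) :
    res F (j.image_preimage_le V) s = 0 ↔ ∃ n : ℕ, ∀ a ∈ I ^ n, a • s = 0 := by
  constructor
  · intro h
    let J : Ideal Γ(X, V) := LinearMap.ker (LinearMap.toSpanSingleton Γ(X, V) Γ(F, V) s)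
    have hJ : ∀ a, a ∈ J ↔ a • s = 0 := fun a => by
      rw [LinearMap.mem_ker, LinearMap.toSpanSingleton_apply]
    have hIJ : I ≤ J.radical := by
      intro f hf
      have h1 : res F (X.basicOpen_le f) s = 0 := by
        have := congrArg (res F (basicOpen_le_image_preimage j V I hZ f hf)) h
        rw [res_res, map_zero] at this
        exact this
      obtain ⟨n, hn⟩ := kill_aux F hV f (X.basicOpen f) rfl s h1
      exact ⟨n, (hJ _).2 hn⟩
    obtain ⟨n, hn⟩ := Ideal.exists_pow_le_of_le_radical_of_fg hIJ hI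
    exact ⟨n, fun a ha => (hJ a).1 (hn ha)⟩
  · rintro ⟨n, hn⟩
    have hloc : ∀ f : I, res F (X.basicOpen_le f.1) s = 0 := by
      intro f
      have h1 : f.1 ^ n • s = 0 := hn _ (Ideal.pow_mem_pow f.2 n)
      have h2 := congrArg (res F (X.basicOpen_le f.1)) h1
      rw [res_smul, map_zero, map_pow] at h2
      have hu : IsUnit (resR (X.basicOpen_le f.1) f.1) :=
        X.toRingedSpace.isUnit_res_basicOpen f.1
      have hu' := hu.pow n
      rw [← hu'.unit_spec] at h2
      have := congrArg (fun z => (hu'.unit⁻¹ : (Γ(X, X.basicOpen f.1))ˣ) • z) h2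
      simpa [Units.smul_def, smul_smul] using this
    apply TopCat.Sheaf.eq_of_locally_eq' (⟨F.presheaf, F.isSheaf⟩ : TopCat.Sheaf Ab X)
      (fun f : I => X.basicOpen f.1) (j ''ᵁ (j ⁻¹ᵁ V))
      (fun f => homOfLE (basicOpen_le_image_preimage j V I hZ f.1 f.2))
    · intro x hx
      rw [Scheme.Hom.image_preimage_eq_opensRange_inf] at hx
      have hxV : x ∈ V := hx.2
      have hxj : x ∈ Set.range j.base := hx.1
      have : ¬ ∀ f ∈ I, x ∉ X.basicOpen f := fun hall => (hZ x hxV).2 hall hxj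
      push Not at this
      obtain ⟨f, hf, hxf⟩ := this
      exact Opens.mem_iSup.2 ⟨⟨f, hf⟩, hxf⟩
    · intro f
      change res F _ (res F _ s) = res F _ 0
      rw [res_res, map_zero]
      exact hloc f

end Groth.Agent.Helper1.GammaZ
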