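import Mathlib
import Groth.Agent.Lib.Helper1.QcProd
import Groth.Agent.Lib.Helper1.PushQc

set_option autoImplicit false
universe u
open CategoryTheory CategoryTheory.Limits AlgebraicGeometry TopologicalSpace Opposite

namespace Groth.Agent.Helper1.QcAbel

variable {X : Scheme.{u}}

/-- fibre products of quasi-coherent modules are quasi-coherent -/
theorem isQuasicoherent_pullback {A B C : X.Modules} (f : A ⟶ C) (g : B ⟶ C)
    [A.IsQuasicoherent] [B.IsQuasicoherent] [C.IsQuasicoherent] :
    (pullback f g).IsQuasicoherent := by
  have := isQuasicoherent_biprod A B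
  have h := isQuasicoherent_kernel (biprod.desc f (-g))
  let e : kernel (biprod.desc f (-g)) ≅ pullback f g :=
    IsLimit.conePointUniqueUpToIso (kernelIsKernel (biprod.desc f (-g)))
      (Abelian.PullbackToBiproductIsKernel.isLimitPullbackToBiproduct f g)
  exact isQuasicoherent_of_iso e

/-- the inverse image along an open immersion of a quasi-coherent module is quasi-coherent -/
theorem isQuasicoherent_pullback_of_isOpenImmersion {Y : Scheme.{u}} (j : Y ⟶ X)
    [IsOpenImmersion j] (F : X.Modules) [F.IsQuasicoherent] :
    ((Scheme.Modules.pullback j).obj F).IsQuasicoherent := by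
  have : (F.restrict j).IsQuasicoherent := Scheme.Modules.isQuasicoherent_restrictFunctor j F
  exact isQuasicoherent_of_iso ((Scheme.Modules.restrictFunctorIsoPullback j).app F)

end Groth.Agent.Helper1.QcAbel
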