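import Mathlib
import Groth.Agent.Lib.Helper1.FPA3
import Groth.Agent.Lib.Helper1.PushQc
import Groth.Agent.Lib.Helper1.QcPull
import Groth.Agent.Lib.Helper1.GammaZ
import Groth.Agent.Lib.Lead.FLF4

set_option autoImplicit false
universe u
open CategoryTheory CategoryTheory.Limits AlgebraicGeometry TopologicalSpace Opposite

namespace Groth.Agent.Helper1.FPA

open Scheme.Modules

variable {X : Scheme.{u}}

/-- restriction along an equality of opens is bijective -/
theorem res_bijective_of_le_le (M : X.Modules) {A B : X.Opens} (h : A ≤ B) (h' : B ≤ A) :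
    Function.Bijective (M.presheaf.map (homOfLE h).op) := by
  refine Function.bijective_iff_has_inverse.2 ⟨M.presheaf.map (homOfLE h').op, ?_, ?_⟩
  · intro x
    exact Groth.Agent.Lead.FLF.map_map_self M h' h x
  · intro x
    exact Groth.Agent.Lead.FLF.map_map_self M h h' x

/-- a quasi-compact open inside an affine open is covered by finitely many basic opens -/
theorem exists_finset_basicOpen_cover {V : X.Opens} (hV : IsAffineOpen V) (W : X.Opens)
    (hWV : W ≤ V) (hc : IsCompact (W : Set X)) :
    ∃ S : Finset Γ(X, V), (∀ f ∈ S, X.basicOpen f ≤ W) ∧ ∀ x ∈ W, ∃ f ∈ S, x ∈ X.basicOpen f := by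
  classical
  have h1 : ∀ x : W, ∃ f : Γ(X, V), X.basicOpen f ≤ W ∧ x.1 ∈ X.basicOpen f :=
    fun x => hV.exists_basicOpen_le (V := W) x (hWV x.2)
  choose f hf hxf using h1
  obtain ⟨s, hs⟩ := hc.elim_finite_subcover (fun x : W => (X.basicOpen (f x) : Set X))
    (fun x => (X.basicOpen (f x)).isOpen) (fun x hx => Set.mem_iUnion.2 ⟨⟨x, hx⟩, hxf ⟨x, hx⟩⟩)
  refine ⟨s.image f, ?_, ?_⟩
  · intro g hg
    obtain ⟨x, -, rfl⟩ := Finset.mem_image.1 hg
    exact hf x
  · intro x hx
    obtain ⟨y, hys, hxy⟩ : ∃ y ∈ s, x ∈ X.basicOpen (f y) := by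
      have := hs hx
      simpa using this
    exact ⟨f y, Finset.mem_image_of_mem f hys, hxy⟩

attribute [local instance] Groth.Agent.Lead.SD.basicOpenModule in
/-- the localisation away from `f` of the chart sections is given by the sections over the basic
open -/
theorem fpAway_chart (G : X.Modules) [G.IsQuasicoherent] {V : X.Opens} (hV : IsAffineOpen V)
    (f : Γ(X, V))
    (h : Module.FinitePresentation Γ(X, X.basicOpen f) Γ(G, X.basicOpen f)) :
    FPAway Γ(X, V) Γ(G.restrict hV.fromSpec, ⊤) f := by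
  haveI := Groth.Agent.Lead.SD.isLocalizedModule_res G hV f
  refine ⟨Γ(X, X.basicOpen f), Γ(G, X.basicOpen f), inferInstance, inferInstance, inferInstance,
    Groth.Agent.Lead.SD.basicOpenModule G f, inferInstance, inferInstance,
    (Groth.Agent.Lead.SD.resₗ G f) ∘ₗ (Groth.Agent.Lead.FLF.sectionsLinearEquiv hV G).toLinearMap,
    hV.isLocalization_basicOpen f, ?_, h⟩
  exact IsLocalizedModule.of_linearEquiv_right (Submonoid.powers f)
    (Groth.Agent.Lead.SD.resₗ G f) (Groth.Agent.Lead.FLF.sectionsLinearEquiv hV G)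

/-- the unit of the restriction adjunction along an open immersion is an isomorphism over the
range -/
theorem isoOn_unit {Y : Scheme.{u}} (j : Y ⟶ X) [IsOpenImmersion j] (G : X.Modules) :
    IsoOn ((Scheme.Modules.restrictAdjunction j).unit.app G) j.opensRange := by
  intro T hT
  rw [GammaZ.unit_app]
  refine res_bijective_of_le_le G (j.image_preimage_le T) ?_
  rw [SubSh.image_preimage_eq_of_le j hT]

/-- **one step of the finitely presented approximation**: making a quasi-coherent module finitely
presented over one more affine open without changing it over `O` -/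
theorem step [QuasiSeparatedSpace X] (G : X.Modules) [G.IsQuasicoherent] (O : X.Opens)
    (hG : FPOn G O) {V : X.Opens} (hV : IsAffineOpen V)
    (hc : IsCompact ((O ⊓ V : X.Opens) : Set X)) :
    ∃ (G' : X.Modules) (ψ : G' ⟶ G), G'.IsQuasicoherent ∧ IsoOn ψ O ∧ FPOn G' (O ⊔ V) := by
  classical
  obtain ⟨S, hSO, hScov⟩ := exists_finset_basicOpen_cover hV (O ⊓ V) inf_le_right hc
  have hfp : ∀ f ∈ S, FPAway Γ(X, V) Γ(G.restrict hV.fromSpec, ⊤) f := fun f hf =>
    fpAway_chart G hV f (hG _ (hV.basicOpen f) ((hSO f hf).trans inf_le_left))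
  haveI : (G.restrict hV.fromSpec).IsQuasicoherent := inferInstance
  obtain ⟨𝒬, π, h𝒬, h𝒬fp, hπ⟩ := exists_fp_local (G.restrict hV.fromSpec) S hfp
  let η : G ⟶ (Scheme.Modules.pushforward hV.fromSpec).obj (G.restrict hV.fromSpec) :=
    (Scheme.Modules.restrictAdjunction hV.fromSpec).unit.app G
  let πb := (Scheme.Modules.pushforward hV.fromSpec).map π
  haveI : ((Scheme.Modules.pushforward hV.fromSpec).obj 𝒬).IsQuasicoherent :=
    PushQc.isQuasicoherent_pushforward (f := hV.fromSpec) (F := 𝒬)
  haveI : ((Scheme.Modules.pushforward hV.fromSpec).obj (G.restrict hV.fromSpec)).IsQuasicoherent :=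
    PushQc.isQuasicoherent_pushforward (f := hV.fromSpec) (F := G.restrict hV.fromSpec)
  haveI : (pullback η πb).IsQuasicoherent := QcAbel.isQuasicoherent_pullback η πb
  have hπb : IsoOn πb O := by
    intro T hT
    change Function.Bijective (π.app (hV.fromSpec ⁻¹ᵁ T))
    apply hπ
    intro y hy
    have hyV : hV.fromSpec y ∈ V := by
      have : hV.fromSpec y ∈ Set.range hV.fromSpec := ⟨y, rfl⟩
      rw [hV.range_fromSpec] at this
      exact this
    obtain ⟨f, hf, hxf⟩ := hScov (hV.fromSpec y) ⟨hT hy, hyV⟩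
    refine ⟨f, hf, ?_⟩
    rw [← hV.fromSpec_preimage_basicOpen f]
    exact hxf
  have hfst : IsoOn (pullback.fst η πb) O := isoOn_pullback_fst η πb hπb
  refine ⟨pullback η πb, pullback.fst η πb, inferInstance, hfst, ?_⟩
  apply FPOn.sup
  · exact hG.of_isoOn hfst
  · apply fpOn_of_cover
    intro x hx
    refine ⟨V, hV, hx, ?_⟩
    have hη : IsoOn η V := by
      have := isoOn_unit hV.fromSpec G
      rwa [hV.opensRange_fromSpec] at this
    have h1 : IsoOn (pullback.snd η πb) V := isoOn_pullback_snd η πb hη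
    haveI := h1.isIso_restrict hV.fromSpec (by rw [hV.opensRange_fromSpec])
    let e1 : (pullback η πb).restrict hV.fromSpec ≅
        ((Scheme.Modules.pushforward hV.fromSpec).obj 𝒬).restrict hV.fromSpec :=
      asIso ((Scheme.Modules.restrictFunctor hV.fromSpec).map (pullback.snd η πb))
    let e2 : ((Scheme.Modules.pushforward hV.fromSpec).obj 𝒬).restrict hV.fromSpec ≅ 𝒬 :=
      asIso ((Scheme.Modules.restrictAdjunction hV.fromSpec).counit.app 𝒬)
    let E : Γ((pullback η πb).restrict hV.fromSpec, ⊤) ≃ₗ[Γ(X, V)] Γ(𝒬, ⊤) :=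
      ((moduleSpecΓFunctor (R := Γ(X, V))).mapIso (e1 ≪≫ e2)).toLinearEquiv
    haveI := h𝒬fp
    haveI : Module.FinitePresentation Γ(X, V) Γ((pullback η πb).restrict hV.fromSpec, ⊤) :=
      Module.FinitePresentation.of_equiv E.symm
    exact Module.FinitePresentation.of_equiv
      (Groth.Agent.Lead.FLF.sectionsLinearEquiv hV (pullback η πb))

end Groth.Agent.Helper1.FPA
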