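import Mathlib
import Groth.Agent.Lib.Helper1.FPA4
import Groth.Agent.Lib.Helper1.SubExt7
import Groth.Agent.Lib.Lead.FP2

set_option autoImplicit false
universe u
open CategoryTheory CategoryTheory.Limits AlgebraicGeometry TopologicalSpace Opposite

namespace Groth.Agent.Helper1.FPA

open Scheme.Modules

variable {X : Scheme.{u}}

/-- iterating the step over a list of affine opens -/
theorem exists_fpOn_list [QuasiSeparatedSpace X] (F : X.Modules) [F.IsQuasicoherent] (U : X.Opens)
    (hU : IsCompact (U : Set X)) (hF : FPOn F U) (l : List X.affineOpens) :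
    ∃ (G : X.Modules) (φ : G ⟶ F), G.IsQuasicoherent ∧ IsoOn φ U ∧
      FPOn G (U ⊔ (l.map (fun V : X.affineOpens => (V : X.Opens))).foldr (· ⊔ ·) ⊥) := by
  induction l with
  | nil =>
    refine ⟨F, 𝟙 F, inferInstance, isoOn_of_isIso _ _, ?_⟩
    simpa using hF
  | cons V l ih =>
    obtain ⟨G, φ, hG, hφ, hfp⟩ := ih
    set O : X.Opens := U ⊔ (l.map (fun V : X.affineOpens => (V : X.Opens))).foldr (· ⊔ ·) ⊥
      with hO
    have hOc : IsCompact (O : Set X) := by
      rw [hO, Opens.coe_sup]
      refine hU.union ?_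
      clear hfp hO
      induction l with
      | nil => simp
      | cons W l ih' =>
        simp only [List.map_cons, List.foldr_cons, Opens.coe_sup]
        exact W.2.isCompact.union ih'
    obtain ⟨G', ψ, hG', hψ, hfp'⟩ := step G O hfp V.2
      (SubSh.isCompact_inf_of_quasiSeparated hOc V.2)
    refine ⟨G', ψ ≫ φ, hG', (hψ.mono le_sup_left).comp hφ, ?_⟩
    refine hfp'.mono ?_
    simp only [List.map_cons, List.foldr_cons]
    rw [hO, sup_assoc, sup_comm (V : X.Opens)]

/-- **finitely presented approximation, isomorphic over a quasi-compact open**: a quasi-coherent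
module on a quasi-compact quasi-separated scheme which is finitely presented over a quasi-compact open
`U` receives a map from a finitely presented module which is an isomorphism over `U` -/
theorem exists_fp_isoOn [CompactSpace X] [QuasiSeparatedSpace X] (F : X.Modules)
    [F.IsQuasicoherent] (U : X.Opens) (hU : IsCompact (U : Set X)) (hF : FPOn F U) :
    ∃ (G : X.Modules) (φ : G ⟶ F), G.IsQuasicoherent ∧ CohB1.IsFP G ∧ IsoOn φ U := by
  classical
  obtain ⟨n, V, hV, hcov, -⟩ := SubSh.exists_fin_cover (X := X)
  let l : List X.affineOpens := List.ofFn (fun i : Fin n => (⟨V i, hV i⟩ : X.affineOpens))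
  obtain ⟨G, φ, hG, hφ, hfp⟩ := exists_fpOn_list F U hU hF l
  refine ⟨G, φ, hG, ?_, hφ⟩
  rw [Groth.Agent.Lead.FP.isFP_iff_affineOpens]
  intro T hT
  refine hfp T hT ?_
  intro x _
  have hx : x ∈ (⨆ i, V i : X.Opens) := by rw [hcov]; trivial
  obtain ⟨i, hi⟩ := Opens.mem_iSup.1 hx
  right
  have key : ∀ (l : List X.affineOpens) (W : X.affineOpens), W ∈ l → (W : X.Opens) ≤
      (l.map (fun V : X.affineOpens => (V : X.Opens))).foldr (· ⊔ ·) ⊥ := by
    intro l
    induction l with
    | nil => intro W hW; simp at hW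
    | cons A l ih =>
      intro W hW
      simp only [List.map_cons, List.foldr_cons]
      rcases List.mem_cons.1 hW with rfl | h
      · exact le_sup_left
      · exact (ih W h).trans le_sup_right
  exact key l ⟨V i, hV i⟩ (List.mem_ofFn.2 ⟨i, rfl⟩) hi

end Groth.Agent.Helper1.FPA
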