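import Mathlib
import Groth.Agent.Lib.Helper1.FPA5
import Groth.Agent.Lib.Lead.LimZ4

set_option autoImplicit false
universe u
open CategoryTheory CategoryTheory.Limits AlgebraicGeometry TopologicalSpace Opposite

namespace Groth.Agent.Helper1.FPA

open Scheme.Modules

variable {X : Scheme.{u}}

theorem isQuasicoherent_of_isFP (M : X.Modules) (h : CohB1.IsFP M) : M.IsQuasicoherent := by
  haveI : SheafOfModules.IsFinitePresentation (R := X.ringCatSheaf) M := h
  infer_instance

/-- finite presentation is invariant under isomorphisms -/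
theorem isFP_of_iso {M N : X.Modules} (e : M ≅ N) (h : CohB1.IsFP M) : CohB1.IsFP N := by
  haveI := isQuasicoherent_of_isFP M h
  haveI : N.IsQuasicoherent := QcAbel.isQuasicoherent_of_iso e
  have h1 : FPOn M ⊤ := fun T hT _ => Groth.Agent.Lead.FP.fp_sections_of_isFP M h hT
  have h2 : FPOn N ⊤ := h1.of_isoOn (isoOn_of_isIso e.inv ⊤)
  rw [Groth.Agent.Lead.FP.isFP_iff_affineOpens]
  exact fun T hT => h2 T hT le_top

/-- finite presentation is preserved by restriction along open immersions -/
theorem isFP_restrict {Y : Scheme.{u}} (c : Y ⟶ X) [IsOpenImmersion c] (M : X.Modules)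
    (h : CohB1.IsFP M) : CohB1.IsFP (M.restrict c) := by
  haveI := isQuasicoherent_of_isFP M h
  exact isFP_of_iso ((Scheme.Modules.restrictFunctorIsoPullback c).app M).symm
    (Groth.Agent.Lead.LimZ.isFP_pullback c M h)

/-- global sections of a finitely presented module on `Spec R` are finitely presented over `R` -/
theorem fp_top_of_isFP {R : CommRingCat.{u}} (N : (Spec R).Modules) (h : CohB1.IsFP N) :
    Module.FinitePresentation R Γ(N, ⊤) := by
  haveI := isQuasicoherent_of_isFP N h
  haveI : Module.FinitePresentation Γ(Spec R, ⊤) Γ(N, ⊤) :=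
    Groth.Agent.Lead.FP.fp_sections_of_isFP N h (isAffineOpen_top (Spec R))
  have hbij : Function.Bijective (algebraMap R Γ(Spec R, ⊤)) := by
    rw [IsAffineOpen.algebraMap_Spec_obj]
    have : IsIso ((Scheme.ΓSpecIso R).inv ≫ (Spec R).presheaf.map
        (homOfLE (le_top : (⊤ : (Spec R).Opens) ≤ ⊤)).op) := by
      have h1 : (homOfLE (le_top : (⊤ : (Spec R).Opens) ≤ ⊤)).op = 𝟙 _ := Subsingleton.elim _ _
      rw [h1, CategoryTheory.Functor.map_id]
      infer_instance
    exact ConcreteCategory.bijective_of_isIso _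
  haveI : Module.FinitePresentation R Γ(Spec R, ⊤) :=
    Module.FinitePresentation.of_equiv
      (LinearEquiv.ofBijective (Algebra.linearMap R Γ(Spec R, ⊤)) hbij)
  exact Module.FinitePresentation.trans R Γ(N, ⊤) Γ(Spec R, ⊤)

/-- a quasi-coherent module whose restriction to an open is finitely presented has finitely
presented sections over the affine opens inside that open -/
theorem fpOn_of_isFP_restrict (F : X.Modules) (U : X.Opens)
    (h : CohB1.IsFP (F.restrict U.ι)) : FPOn F U := by
  intro T hT hTU
  have hrange : Set.range hT.fromSpec ⊆ Set.range U.ι := by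
    rw [hT.range_fromSpec, Scheme.Opens.range_ι]
    exact hTU
  let c : Spec Γ(X, T) ⟶ ↑U := IsOpenImmersion.lift U.ι hT.fromSpec hrange
  have hc : c ≫ U.ι = hT.fromSpec := IsOpenImmersion.lift_fac _ _ _
  haveI : IsOpenImmersion (c ≫ U.ι) := by rw [hc]; infer_instance
  haveI : IsOpenImmersion c := IsOpenImmersion.of_comp c U.ι
  let e : F.restrict hT.fromSpec ≅ (F.restrict U.ι).restrict c :=
    (restrictFunctorCongr hc.symm).app F ≪≫ (restrictFunctorComp c U.ι).app F
  have h1 : CohB1.IsFP ((F.restrict U.ι).restrict c) := isFP_restrict c _ h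
  have h2 : CohB1.IsFP (F.restrict hT.fromSpec) := isFP_of_iso e.symm h1
  haveI := fp_top_of_isFP _ h2
  exact Module.FinitePresentation.of_equiv (Groth.Agent.Lead.FLF.sectionsLinearEquiv hT F)

end Groth.Agent.Helper1.FPA
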