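import Mathlib
import Groth.Agent.Lib.Helper1.CMInt2
import Groth.Agent.Lib.Helper1.PullGen2
import Groth.Agent.Lib.Helper1.GenusOne2
import Groth.Agent.Lib.Helper1.FGAInt1
import Groth.Agent.Lib.Helper1.SerreCrit
import Groth.Agent.Lib.Helper1.HH0
import Groth.Agent.Lib.Lead.PullTensorAll
import Groth.Agent.Lib.Lead.ODiv1
import Groth.Agent.Lib.Helper5.StalkTen.StalkTenS
import Groth.Agent.Lib.Helper5.Stalk.FlatFree
import Groth.Agent.Lib.Helper5.Stalk.Exact
import Groth.Prelude.Def_ArSurf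

/-!
# Intersection of an effective Cartier divisor with a curve: the pulled back ideal (helper1)

For `ι : C ⟶ X` from an integral proper curve and an ideal sheaf `D` on `X` whose ideal module is
invertible and which does not contain the generic point of `C`: the degree of `ι^* O(D)` is the
Euler characteristic of the cokernel of `ι^* I_D ⟶ O_C`.
-/

set_option autoImplicit false
set_option backward.isDefEq.respectTransparency.types false
universe u
open CategoryTheory CategoryTheory.Limits AlgebraicGeometry TopologicalSpace Opposite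
open scoped TensorProduct

namespace Groth.Agent.Helper1.ArInt

open Groth.Agent.Helper1 Groth.Agent.Helper1.Dv Groth.Agent.Helper1.LGen
open Groth.Agent.Helper1.QcCech Groth.Agent.Helper1.CurveLin
open Groth.Agent.Lib.Helper5.StalkAdj

section Inv

variable {X : Scheme.{u}}

/-- on a locally noetherian scheme, a coherent module with a tensor inverse is invertible -/
theorem isInvertible_of_tensor_iso [IsLocallyNoetherian X] {L M : X.Modules} (hM : Coh.IsCoh M)
    (e : CohB1.tensorMod L M ≅ Coh.structureModule X) : PicF.IsInvertible M := by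
  apply Groth.Agent.Helper1.TwForm.isInvertible_of_locGen
  intro x
  let e0 : ((stalkSh X x).obj (CohB1.tensorMod L M)) ≃ₗ[X.presheaf.stalk x]
      (((stalkSh X x).obj L) ⊗[X.presheaf.stalk x] ((stalkSh X x).obj M)) :=
    (Groth.Agent.Lib.Helper5.StalkTenS.stalkTensorIsoS X x L M).toLinearEquiv
  let e1 : ((stalkSh X x).obj (CohB1.tensorMod L M)) ≃ₗ[X.presheaf.stalk x]
      ((stalkSh X x).obj (Coh.structureModule X)) := ((stalkSh X x).mapIso e).toLinearEquiv
  let e2 : (X.presheaf.stalk x) ≃ₗ[X.presheaf.stalk x]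
      ((stalkSh X x).obj (Coh.structureModule X)) := (stalkUnitIso X x).toLinearEquiv
  let E : (((stalkSh X x).obj L) ⊗[X.presheaf.stalk x] ((stalkSh X x).obj M))
      ≃ₗ[X.presheaf.stalk x] X.presheaf.stalk x := e0.symm ≪≫ₗ e1 ≪≫ₗ e2.symm
  haveI : Module.Invertible (X.presheaf.stalk x) ((stalkSh X x).obj M) :=
    Module.Invertible.right E
  obtain ⟨e3⟩ := Module.Invertible.free_iff_linearEquiv.1
    (inferInstance : Module.Free (X.presheaf.stalk x) ((stalkSh X x).obj M))
  refine Groth.Agent.Lead.RkSch.exists_isGen_of_free_stalk hM.1 hM.2 x (e3.symm 1) ?_ ?_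
  · intro ρ hρ
    have h : e3 (ρ • e3.symm 1) = 0 := by
      rw [show (ρ • e3.symm 1 : ((stalkSh X x).obj M)) = 0 from hρ, map_zero]
    rw [map_smul, LinearEquiv.apply_symm_apply, smul_eq_mul, mul_one] at h
    exact h
  · intro v
    refine ⟨e3 v, ?_⟩
    apply e3.injective
    show e3 (e3 v • e3.symm 1) = e3 v
    rw [map_smul, LinearEquiv.apply_symm_apply, smul_eq_mul, mul_one]

end Inv

section Pull

variable {C X : Scheme.{u}} (ι : C ⟶ X) (D : X.IdealSheafData)

/-- the pulled back ideal module -/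
noncomputable def P : C.Modules := (Scheme.Modules.pullback ι).obj (ClSub.idealMod D)

/-- the pulled back inclusion of the ideal -/
noncomputable def φ : P ι D ⟶ Coh.structureModule C :=
  (Scheme.Modules.pullback ι).map (ClSub.idealModι D) ≫ (PullSec.unitIso ι).hom

theorem φ_σ (V : X.Opens) (a : Γ(ClSub.idealMod D, V)) :
    (φ ι D).app (ι ⁻¹ᵁ V) (PullSec.σ ι (ClSub.idealMod D) V a) =
      (show Γ(Coh.structureModule C, ι ⁻¹ᵁ V) from
        (ι.app V).hom (Groth.Agent.Lead.IdM.ιL D V a)) := by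
  have h1 := PullSec.σ_natural ι (ClSub.idealModι D) V a
  have h2 := PullSec.unitIso_σ ι V (Groth.Agent.Lead.IdM.ιL D V a)
  change (PullSec.unitIso ι).hom.app (ι ⁻¹ᵁ V)
    (((Scheme.Modules.pullback ι).map (ClSub.idealModι D)).app (ι ⁻¹ᵁ V)
      (PullSec.σ ι (ClSub.idealMod D) V a)) = _
  rw [h1]
  exact h2

/-- away from the support of `D`, the unit section lifts locally -/
theorem exists_lift_one_of_notMem (x : C) (hx : ι.base x ∉ (D.support : Set X)) :
    ∃ (W : C.Opens) (_ : x ∈ W) (s : Γ(P ι D, W)),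
      (φ ι D).app W s = (show Γ(Coh.structureModule C, W) from (1 : Γ(C, W))) := by
  obtain ⟨_, ⟨V, hV, rfl⟩, hxV, -⟩ := X.isBasis_affineOpens.exists_subset_of_mem_open
    (Set.mem_univ (ι.base x)) isOpen_univ
  have h1 : ι.base x ∉ X.zeroLocus (U := V) (D.ideal ⟨V, hV⟩) := fun h =>
    hx ((Scheme.IdealSheafData.mem_support_iff_of_mem (I := D) (U := ⟨V, hV⟩) hxV).2 h)
  rw [Scheme.mem_zeroLocus_iff] at h1
  push Not at h1
  obtain ⟨f, hfD, hxf⟩ := h1
  have hr := Groth.Agent.Lead.IdM.range_ιL D ⟨V, hV⟩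
  have hf' : f ∈ LinearMap.range (Groth.Agent.Lead.IdM.ιL D V) := by
    rw [hr]; exact hfD
  obtain ⟨a, rfl⟩ := hf'
  obtain ⟨fb, hfb⟩ : ∃ fb : Γ(C, ι ⁻¹ᵁ V),
      fb = (ι.app V).hom (Groth.Agent.Lead.IdM.ιL D V a) := ⟨_, rfl⟩
  have hxW : x ∈ C.basicOpen fb := by
    have h := Scheme.preimage_basicOpen ι (Groth.Agent.Lead.IdM.ιL D V a)
    have h2 : x ∈ ι ⁻¹ᵁ X.basicOpen (Groth.Agent.Lead.IdM.ιL D V a) := hxf
    rw [h, ← hfb] at h2
    exact h2
  have hW : C.basicOpen fb ≤ ι ⁻¹ᵁ V := C.basicOpen_le fb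
  have hu : IsUnit ((C.presheaf.map (homOfLE hW).op).hom fb) :=
    RingedSpace.isUnit_res_basicOpen C.toRingedSpace fb
  obtain ⟨g, hg⟩ := hu.exists_left_inv
  refine ⟨C.basicOpen fb, hxW,
    g • res (P ι D) hW (PullSec.σ ι (ClSub.idealMod D) V a), ?_⟩
  rw [Scheme.Modules.Hom.app_smul, QcExt.app_res, φ_σ, ← hfb]
  exact hg

/-- if the unit section lifts near `x`, then `ι x` is not in the support of `D` -/
theorem notMem_of_lift_one (hDinv : PicF.IsInvertible (ClSub.idealMod D)) (x : C) (W : C.Opens)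
    (hxW : x ∈ W) (s : Γ(P ι D, W))
    (hs : (φ ι D).app W s = (show Γ(Coh.structureModule C, W) from (1 : Γ(C, W)))) :
    ι.base x ∉ (D.support : Set X) := by
  obtain ⟨V₀, a₀, hxV₀, ha₀⟩ := exists_isGen hDinv (ι.base x)
  obtain ⟨_, ⟨V, hV, rfl⟩, hxV, hVV₀⟩ := X.isBasis_affineOpens.exists_subset_of_mem_open
    hxV₀ V₀.2
  have hVV₀' : V ≤ V₀ := hVV₀
  have ha : IsGen (ClSub.idealMod D) V (res _ hVV₀' a₀) := ha₀.res hVV₀'
  obtain ⟨a, ha_def⟩ : ∃ a, a = res (ClSub.idealMod D) hVV₀' a₀ := ⟨_, rfl⟩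
  rw [← ha_def] at ha
  have hb : IsGen (P ι D) (ι ⁻¹ᵁ V) (PullSec.σ ι (ClSub.idealMod D) V a) :=
    PullGen.isGen_σ ι ha
  have hW1 : W ⊓ ι ⁻¹ᵁ V ≤ W := inf_le_left
  have hW2 : W ⊓ ι ⁻¹ᵁ V ≤ ι ⁻¹ᵁ V := inf_le_right
  obtain ⟨r, hr⟩ := (hb (W ⊓ ι ⁻¹ᵁ V) hW2).2 (res (P ι D) hW1 s)
  have hr' : r • res (P ι D) hW2 (PullSec.σ ι (ClSub.idealMod D) V a) = res (P ι D) hW1 s := hr
  have h2 : (φ ι D).app (W ⊓ ι ⁻¹ᵁ V) (res (P ι D) hW1 s) =
      (show Γ(Coh.structureModule C, W ⊓ ι ⁻¹ᵁ V) from (1 : Γ(C, W ⊓ ι ⁻¹ᵁ V))) := by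
    rw [QcExt.app_res, hs]
    exact map_one (C.presheaf.map (homOfLE hW1).op).hom
  rw [← hr', Scheme.Modules.Hom.app_smul, QcExt.app_res, φ_σ] at h2
  obtain ⟨f, hf⟩ : ∃ f, f = Groth.Agent.Lead.IdM.ιL D V a := ⟨_, rfl⟩
  obtain ⟨fb, hfb⟩ : ∃ fb : Γ(C, ι ⁻¹ᵁ V), fb = (ι.app V).hom f := ⟨_, rfl⟩
  rw [← hf, ← hfb] at h2
  have h3 : r * (C.presheaf.map (homOfLE hW2).op).hom fb = 1 := h2
  have hx' : x ∈ W ⊓ ι ⁻¹ᵁ V := ⟨hxW, hxV⟩
  have hu : IsUnit (C.presheaf.germ (ι ⁻¹ᵁ V) x hxV fb) := by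
    have h4 := congrArg (C.presheaf.germ (W ⊓ ι ⁻¹ᵁ V) x hx').hom h3
    rw [map_mul, map_one, TopCat.Presheaf.germ_res_apply] at h4
    exact IsUnit.of_mul_eq_one _ (by rw [mul_comm]; exact h4)
  have hxf : ι.base x ∈ X.basicOpen f := by
    have h5 : x ∈ C.basicOpen fb := (Scheme.mem_basicOpen C fb x hxV).2 hu
    rw [hfb, ← Scheme.preimage_basicOpen ι f] at h5
    exact h5
  have hfD : f ∈ D.ideal ⟨V, hV⟩ := by
    rw [hf]
    exact Groth.Agent.Lead.ODiv.ι_mem_ideal D ⟨V, hV⟩ a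
  intro hsupp
  have h5 := (Scheme.IdealSheafData.mem_support_iff_of_mem (I := D) (U := ⟨V, hV⟩) hxV).1 hsupp
  rw [Scheme.mem_zeroLocus_iff] at h5
  exact h5 f hfD hxf

theorem φ_ne_zero [IsIntegral C] (hη : ι.base (genericPoint C) ∉ (D.support : Set X)) :
    φ ι D ≠ 0 := by
  obtain ⟨W, hW, s, hs⟩ := exists_lift_one_of_notMem ι D (genericPoint C) hη
  intro h0
  rw [h0, Scheme.Modules.Hom.zero_app] at hs
  haveI : Nonempty W := ⟨⟨genericPoint C, hW⟩⟩
  have h1 : (0 : Γ(C, W)) = 1 := hs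
  exact zero_ne_one h1

end Pull

section Curve

variable (k : Type u) [Field k] {C X : Scheme.{u}} [C.Over (Spec (CommRingCat.of k))]
  [IsIntegral C] [IsProper (C ↘ Spec (CommRingCat.of k))] (hdim : topologicalKrullDim C = 1)
  (ι : C ⟶ X) (D : X.IdealSheafData)

include hdim in
theorem curveDeg_eq_deg (M : C.Modules) : ArSurf.curveDeg k C M = Curv2.deg k C M 1 := by
  haveI := Euler.isNoetherian_of_proper k C
  have hd : topologicalKrullDim C ≤ ((1 : ℕ) : WithBot ℕ∞) := by rw [hdim, Nat.cast_one]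
  unfold ArSurf.curveDeg Curv2.deg
  rw [FGAInt.eulerCharLE_eq_euler k C 1 hd M, FGAInt.eulerCharLE_eq_euler k C 1 hd _]
  simp

include hdim in
/-- the degree of the pullback of an inverse of the ideal -/
theorem curveDeg_pullback_inverse (hDinv : PicF.IsInvertible (ClSub.idealMod D))
    (L : X.Modules) (hL : ClSub.IsInverseOf L (ClSub.idealMod D)) :
    ArSurf.curveDeg k C ((Scheme.Modules.pullback ι).obj L) =
      - ArSurf.curveDeg k C (P ι D) := by
  rw [curveDeg_eq_deg k hdim, curveDeg_eq_deg k hdim]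
  have hP : PicF.IsInvertible (P ι D) := PullGen.isInvertible_pullback ι hDinv
  obtain ⟨e⟩ := hL
  obtain ⟨t⟩ := Groth.Agent.Lead.PullTensorAll.nonempty_tensor_pullback_iso ι L (ClSub.idealMod D)
  let e' : CohB1.tensorMod ((Scheme.Modules.pullback ι).obj L) (P ι D) ≅ Coh.structureModule C :=
    t ≪≫ (Scheme.Modules.pullback ι).mapIso e ≪≫ PullSec.unitIso ι
  exact (GenusOne.isInvertible_of_isInverseOf k C hdim hP e').2

include hdim in
theorem neg_curveDeg_P (hDinv : PicF.IsInvertible (ClSub.idealMod D))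
    (hη : ι.base (genericPoint C) ∉ (D.support : Set X)) :
    - ArSurf.curveDeg k C (P ι D) = Curv2.euler k C (cokernel (φ ι D)) := by
  rw [curveDeg_eq_deg k hdim]
  have hP : PicF.IsInvertible (P ι D) := PullGen.isInvertible_pullback ι hDinv
  have h2 := Curve.deg_sub_deg k C hdim hP GenLoc.isInvertible_O (φ ι D) (φ_ne_zero ι D hη)
  rw [Curve.deg_structureModule] at h2
  linarith

include hdim in
/-- **the intersection number as an Euler characteristic** -/
theorem curveDeg_eq_euler (hDinv : PicF.IsInvertible (ClSub.idealMod D))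
    (hη : ι.base (genericPoint C) ∉ (D.support : Set X))
    (L : X.Modules) (hL : ClSub.IsInverseOf L (ClSub.idealMod D)) :
    ArSurf.curveDeg k C ((Scheme.Modules.pullback ι).obj L) =
      Curv2.euler k C (cokernel (φ ι D)) := by
  rw [curveDeg_pullback_inverse k hdim ι D hDinv L hL, neg_curveDeg_P k hdim ι D hDinv hη]

include k hdim in
theorem cokernel_φ_package (hDinv : PicF.IsInvertible (ClSub.idealMod D))
    (hη : ι.base (genericPoint C) ∉ (D.support : Set X)) :
    Coh.IsCoh (cokernel (φ ι D)) ∧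
      topologicalKrullDim ↥(CohB1.support (cokernel (φ ι D))) ≤ 0 := by
  have hP : PicF.IsInvertible (P ι D) := PullGen.isInvertible_pullback ι hDinv
  obtain ⟨-, hcoh, hsupp, -⟩ := Curve.cokernel_package k C hdim hP GenLoc.isInvertible_O (φ ι D)
    (φ_ne_zero ι D hη)
  exact ⟨hcoh, hsupp⟩

include hdim in
theorem euler_cokernel_nonneg (hDinv : PicF.IsInvertible (ClSub.idealMod D))
    (hη : ι.base (genericPoint C) ∉ (D.support : Set X)) :
    0 ≤ Curv2.euler k C (cokernel (φ ι D)) := by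
  obtain ⟨hcoh, hsupp⟩ := cokernel_φ_package k hdim ι D hDinv hη
  rw [Euler.euler_eq_finrank_of_dim_le_zero k C _ hcoh hsupp]
  exact Int.natCast_nonneg _

include hdim in
theorem euler_cokernel_eq_zero_iff (hDinv : PicF.IsInvertible (ClSub.idealMod D))
    (hη : ι.base (genericPoint C) ∉ (D.support : Set X)) :
    Curv2.euler k C (cokernel (φ ι D)) = 0 ↔
      Disjoint (Set.range ι.base) (D.support : Set X) := by
  obtain ⟨hcoh, hsupp⟩ := cokernel_φ_package k hdim ι D hDinv hη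
  constructor
  · intro h0
    have hz : IsZero (cokernel (φ ι D)) :=
      Euler.isZero_of_euler_eq_zero k C _ hcoh hsupp h0.le
    haveI : Epi (φ ι D) := Preadditive.epi_of_isZero_cokernel _ hz
    rw [Set.disjoint_left]
    rintro _ ⟨x, rfl⟩
    have hsurj := stalkL_surjective_of_epi (φ ι D) x
    obtain ⟨w, hw⟩ := hsurj ((Coh.structureModule C).presheaf.germ ⊤ x trivial
      (show Γ(Coh.structureModule C, ⊤) from (1 : Γ(C, ⊤))))
    obtain ⟨W, hxW, s, rfl⟩ := TopCat.Presheaf.exists_germ_eq (P ι D).presheaf w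
    rw [stalkL_germ] at hw
    obtain ⟨W', hxW', i1, i2, heq⟩ := TopCat.Presheaf.germ_eq (Coh.structureModule C).presheaf
      (U := W) (V := ⊤) x hxW trivial _ _ hw
    refine notMem_of_lift_one ι D hDinv x W' hxW' (res (P ι D) i1.le s) ?_
    rw [QcExt.app_res]
    refine Eq.trans heq ?_
    exact map_one (C.presheaf.map i2.op).hom
  · intro hdis
    haveI : Epi (φ ι D) := by
      apply SerreCrit.epi_of_locally_surjective
      intro U t x hxU
      have hx : ι.base x ∉ (D.support : Set X) := fun h =>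
        (Set.disjoint_left.1 hdis) ⟨x, rfl⟩ h
      obtain ⟨W, hxW, s, hs⟩ := exists_lift_one_of_notMem ι D x hx
      have hWU1 : W ⊓ U ≤ W := inf_le_left
      have hWU2 : W ⊓ U ≤ U := inf_le_right
      refine ⟨W ⊓ U, hWU2, ⟨hxW, hxU⟩,
        (show Γ(C, W ⊓ U) from res (Coh.structureModule C) hWU2 t) • res (P ι D) hWU1 s, ?_⟩
      rw [Scheme.Modules.Hom.app_smul, QcExt.app_res, hs]
      have h1 : res (Coh.structureModule C) hWU1
          (show Γ(Coh.structureModule C, W) from (1 : Γ(C, W))) =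
          (show Γ(Coh.structureModule C, W ⊓ U) from (1 : Γ(C, W ⊓ U))) :=
        map_one (C.presheaf.map (homOfLE hWU1).op).hom
      rw [h1]
      exact mul_one (show Γ(C, W ⊓ U) from res (Coh.structureModule C) hWU2 t)
    have hz : IsZero (cokernel (φ ι D)) := isZero_cokernel_of_epi _
    rw [Euler.euler_eq_finrank_of_dim_le_zero k C _ hcoh hsupp]
    have hsub : Subsingleton (Coh.HH C (cokernel (φ ι D)) 0) := by
      refine ⟨fun a b => ?_⟩
      apply (HH0.equiv C (cokernel (φ ι D))).injective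
      have hid : 𝟙 (cokernel (φ ι D)) = 0 := (IsZero.iff_id_eq_zero _).1 hz
      have key : ∀ m : (cokernel (φ ι D)).val.obj (op ⊤), m = 0 := by
        intro m
        have := congrArg (fun g : cokernel (φ ι D) ⟶ cokernel (φ ι D) =>
          Scheme.Modules.Hom.app g ⊤ m) hid
        exact this
      rw [key (HH0.equiv C _ a), key (HH0.equiv C _ b)]
    rw [Module.finrank_zero_of_subsingleton]
    rfl

end Curve

end Groth.Agent.Helper1.ArInt
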