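import Mathlib
import Groth.Agent.Lib.Helper1.ArInt1
import Groth.Agent.Lib.Helper1.AffExt
import Groth.Agent.Lib.Helper4.HHFin1
import Groth.Prelude.Def_ModelsG

/-!
# Intersection of an effective Cartier divisor with a closed curve: the scheme theoretic
intersection (helper1)
-/

set_option autoImplicit false
set_option backward.isDefEq.respectTransparency.types false
universe u
open CategoryTheory CategoryTheory.Limits AlgebraicGeometry TopologicalSpace Opposite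
open scoped TensorProduct

namespace Groth.Agent.Helper1.ArInt

open Groth.Agent.Helper1 Groth.Agent.Helper1.Dv Groth.Agent.Helper1.LGen
open Groth.Agent.Helper1.QcCech Groth.Agent.Helper1.CurveLin
open Groth.Agent.Lib.Helper5.StalkAdj

section Closed

variable {C X : Scheme.{u}} (ι : C ⟶ X) [IsClosedImmersion ι] (D : X.IdealSheafData)

/-- the ideal of the scheme theoretic intersection -/
noncomputable abbrev K : X.IdealSheafData := D ⊔ ι.ker

theorem ker_le : ι.ker ≤ (K ι D).subschemeι.ker := by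
  rw [Scheme.IdealSheafData.ker_subschemeι]
  exact le_sup_right

/-- the scheme theoretic intersection as a closed subscheme of the curve -/
noncomputable def z : (K ι D).subscheme ⟶ C :=
  IsClosedImmersion.lift ι (K ι D).subschemeι (ker_le ι D)

theorem z_fac : z ι D ≫ ι = (K ι D).subschemeι := IsClosedImmersion.lift_fac _ _ _

/-- the structure sheaf of the intersection on the curve -/
noncomputable abbrev Q : C.Modules :=
  (Scheme.Modules.pushforward (z ι D)).obj (Coh.structureModule (K ι D).subscheme)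

noncomputable abbrev ψ : Coh.structureModule C ⟶ Q ι D := ClSub.unitToPush (z ι D)

theorem he (V : X.Opens) : z ι D ⁻¹ᵁ (ι ⁻¹ᵁ V) = (K ι D).subschemeι ⁻¹ᵁ V :=
  congrArg (fun f : (K ι D).subscheme ⟶ X => f ⁻¹ᵁ V) (z_fac ι D)

theorem z_ι_app (V : X.Opens) (r' : Γ(X, V)) :
    ((z ι D).app (ι ⁻¹ᵁ V)).hom ((ι.app V).hom r') =
      ((K ι D).subscheme.presheaf.map (eqToHom (he ι D V)).op).hom
        (((K ι D).subschemeι.app V).hom r') := by
  have h := Scheme.Hom.congr_app (z_fac ι D) V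
  have h2 := congrArg (fun g => g.hom r') h
  exact h2

theorem bij_m (V : X.Opens) : Function.Bijective
    ((K ι D).subscheme.presheaf.map (eqToHom (he ι D V)).op).hom :=
  ConcreteCategory.bijective_of_isIso ((K ι D).subscheme.presheaf.map (eqToHom (he ι D V)).op)

theorem z_ι_app_eq_zero_iff (V : X.Opens) (r' : Γ(X, V)) :
    ((z ι D).app (ι ⁻¹ᵁ V)).hom ((ι.app V).hom r') = 0 ↔
      ((K ι D).subschemeι.app V).hom r' = 0 := by
  rw [z_ι_app]
  exact map_eq_zero_iff _ (bij_m ι D V).1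

theorem z_ι_app_surjective (V : X.Opens) (hV : IsAffineOpen V)
    (t : Γ((K ι D).subscheme, z ι D ⁻¹ᵁ (ι ⁻¹ᵁ V))) :
    ∃ r' : Γ(X, V), ((z ι D).app (ι ⁻¹ᵁ V)).hom ((ι.app V).hom r') = t := by
  obtain ⟨t', ht'⟩ := (bij_m ι D V).2 t
  obtain ⟨r', hr'⟩ := (K ι D).subschemeι_app_surjective ⟨V, hV⟩ t'
  refine ⟨r', ?_⟩
  rw [z_ι_app, ← ht']
  congr 1

theorem φ_ψ : φ ι D ≫ ψ ι D = 0 := by
  apply ((Scheme.Modules.pullbackPushforwardAdjunction ι).homEquiv (ClSub.idealMod D) _).injective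
  apply AffExt.hom_ext_affine
  intro V hV a
  rw [Adjunction.homEquiv_unit, Adjunction.homEquiv_unit]
  change (ψ ι D).app (ι ⁻¹ᵁ V) ((φ ι D).app (ι ⁻¹ᵁ V) (PullSec.σ ι _ V a)) =
    (0 : P ι D ⟶ Q ι D).app (ι ⁻¹ᵁ V) (PullSec.σ ι _ V a)
  rw [φ_σ, Scheme.Modules.Hom.zero_app]
  have h1 : Groth.Agent.Lead.IdM.ιL D V a ∈ (K ι D).ideal ⟨V, hV⟩ :=
    Ideal.mem_sup_left (Groth.Agent.Lead.ODiv.ι_mem_ideal D ⟨V, hV⟩ a)
  rw [← (K ι D).ker_subschemeι_app ⟨V, hV⟩, RingHom.mem_ker] at h1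
  exact (z_ι_app_eq_zero_iff ι D V _).2 h1

theorem exact_stalk (x : C) (y : (Coh.structureModule C).presheaf.stalk x)
    (hy : stalkL (ψ ι D) x y = 0) : ∃ w, stalkL (φ ι D) x w = y := by
  obtain ⟨W₀, hxW₀, r₀, rfl⟩ := TopCat.Presheaf.exists_germ_eq (Coh.structureModule C).presheaf y
  rw [stalkL_germ] at hy
  have hy' : (Q ι D).presheaf.germ W₀ x hxW₀ ((ψ ι D).app W₀ r₀) =
      (Q ι D).presheaf.germ W₀ x hxW₀ 0 := by rw [hy, map_zero]
  obtain ⟨W₁, hxW₁, i1, i2, heq⟩ := TopCat.Presheaf.germ_eq (Q ι D).presheaf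
    (U := W₀) (V := W₀) x hxW₀ hxW₀ _ _ hy'
  rw [map_zero] at heq
  obtain ⟨U₁, hU₁, hU₁eq⟩ := ι.isClosedEmbedding.isInducing.isOpen_iff.1 W₁.2
  have hxU₁ : ι.base x ∈ U₁ := by
    have : x ∈ ι.base ⁻¹' U₁ := by rw [hU₁eq]; exact hxW₁
    exact this
  obtain ⟨_, ⟨V, hV, rfl⟩, hxV, hVU₁⟩ :=
    X.isBasis_affineOpens.exists_subset_of_mem_open hxU₁ hU₁
  have hWW₁ : ι ⁻¹ᵁ V ≤ W₁ := by
    intro c hc
    have : c ∈ ι.base ⁻¹' U₁ := hVU₁ hc
    rw [hU₁eq] at this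
    exact this
  have hWW₀ : ι ⁻¹ᵁ V ≤ W₀ := hWW₁.trans i1.le
  obtain ⟨r, hr⟩ : ∃ r, r = res (Coh.structureModule C) hWW₀ r₀ := ⟨_, rfl⟩
  have hψr : (ψ ι D).app (ι ⁻¹ᵁ V) r = 0 := by
    rw [hr, QcExt.app_res]
    have h0 : res (Q ι D) i1.le ((ψ ι D).app W₀ r₀) = 0 := heq
    have h1 : res (Q ι D) hWW₁ (res (Q ι D) i1.le ((ψ ι D).app W₀ r₀)) =
        res (Q ι D) hWW₀ ((ψ ι D).app W₀ r₀) := res_res _ _ _ _
    rw [← h1, h0, map_zero]
  obtain ⟨r', hr'⟩ := ι.app_surjective V hV (show Γ(C, ι ⁻¹ᵁ V) from r)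
  have hK : ((K ι D).subschemeι.app V).hom r' = 0 := by
    rw [← z_ι_app_eq_zero_iff]
    have h2 : ((ι.app V).hom r') = (show Γ(C, ι ⁻¹ᵁ V) from r) := hr'
    rw [h2]
    exact hψr
  have hmem : r' ∈ (K ι D).ideal ⟨V, hV⟩ := by
    rw [← (K ι D).ker_subschemeι_app ⟨V, hV⟩, RingHom.mem_ker]; exact hK
  obtain ⟨d, hd, j, hj, hdj⟩ := Submodule.mem_sup.1
    (show r' ∈ D.ideal ⟨V, hV⟩ ⊔ ι.ker.ideal ⟨V, hV⟩ from hmem)
  have hj0 : (ι.app V).hom j = 0 := by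
    rw [Scheme.Hom.ker_apply] at hj
    exact hj
  have hrd : (ι.app V).hom d = (show Γ(C, ι ⁻¹ᵁ V) from r) := by
    have h2 : ((ι.app V).hom r') = (show Γ(C, ι ⁻¹ᵁ V) from r) := hr'
    rw [← h2, ← hdj, map_add, hj0, add_zero]
  have hdr := Groth.Agent.Lead.IdM.range_ιL D ⟨V, hV⟩
  have hd' : d ∈ LinearMap.range (Groth.Agent.Lead.IdM.ιL D V) := by rw [hdr]; exact hd
  obtain ⟨a', rfl⟩ := hd'
  refine ⟨(P ι D).presheaf.germ (ι ⁻¹ᵁ V) x hxV (PullSec.σ ι (ClSub.idealMod D) V a'), ?_⟩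
  rw [stalkL_germ, φ_σ, hrd, hr]
  exact TopCat.Presheaf.germ_res_apply (Coh.structureModule C).presheaf (homOfLE hWW₀) x hxV r₀

theorem epi_ψ : Epi (ψ ι D) := by
  apply SerreCrit.epi_of_locally_surjective
  intro U t x hxU
  obtain ⟨U₁, hU₁, hU₁eq⟩ := ι.isClosedEmbedding.isInducing.isOpen_iff.1 U.2
  have hxU₁ : ι.base x ∈ U₁ := by
    have : x ∈ ι.base ⁻¹' U₁ := by rw [hU₁eq]; exact hxU
    exact this
  obtain ⟨_, ⟨V, hV, rfl⟩, hxV, hVU₁⟩ :=
    X.isBasis_affineOpens.exists_subset_of_mem_open hxU₁ hU₁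
  have hWU : ι ⁻¹ᵁ V ≤ U := by
    intro c hc
    have : c ∈ ι.base ⁻¹' U₁ := hVU₁ hc
    rw [hU₁eq] at this
    exact this
  obtain ⟨r', hr'⟩ := z_ι_app_surjective ι D V hV
    (show Γ((K ι D).subscheme, z ι D ⁻¹ᵁ (ι ⁻¹ᵁ V)) from res (Q ι D) hWU t)
  exact ⟨ι ⁻¹ᵁ V, hWU, hxV,
    (show Γ(Coh.structureModule C, ι ⁻¹ᵁ V) from (ι.app V).hom r'), hr'⟩

/-- the complex `ι^* I_D ⟶ O_C ⟶ O_{D ∩ C}` -/
noncomputable def S : ShortComplex C.Modules := ShortComplex.mk (φ ι D) (ψ ι D) (φ_ψ ι D)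

theorem S_exact : (S ι D).Exact := by
  apply Groth.Agent.Lib.Helper5.StalkAdj.exact_of_stalks
  intro x
  rw [ShortComplex.moduleCat_exact_iff]
  intro y hy
  exact exact_stalk ι D x y hy

/-- the cokernel of the pulled back ideal is the structure sheaf of the intersection -/
noncomputable def cokerIso : cokernel (φ ι D) ≅ Q ι D :=
  haveI : Epi (S ι D).g := epi_ψ ι D
  IsColimit.coconePointUniqueUpToIso (cokernelIsCokernel (φ ι D)) (S_exact ι D).gIsCokernel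

end Closed

section CurveK

variable (k : Type u) [Field k] {C X : Scheme.{u}} [C.Over (Spec (CommRingCat.of k))]
  [IsIntegral C] [IsProper (C ↘ Spec (CommRingCat.of k))] (hdim : topologicalKrullDim C = 1)
  (ι : C ⟶ X) [IsClosedImmersion ι] (D : X.IdealSheafData)

include hdim in
theorem euler_cokernel_eq_finrank (hDinv : PicF.IsInvertible (ClSub.idealMod D))
    (hη : ι.base (genericPoint C) ∉ (D.support : Set X)) :
    Curv2.euler k C (cokernel (φ ι D)) = (Module.finrank k (Coh.HH C (Q ι D) 0) : ℤ) := by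
  obtain ⟨hcoh, hsupp⟩ := cokernel_φ_package k hdim ι D hDinv hη
  rw [Euler.euler_eq_finrank_of_dim_le_zero k C _ hcoh hsupp,
    (Groth.Agent.Lib.Helper4.HHFin1.HHequiv k (cokerIso ι D) 0).finrank_eq]

end CurveK

end Groth.Agent.Helper1.ArInt
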