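import Mathlib
import Groth.Agent.Lib.Helper1.ArInt2
import Groth.Agent.Lib.Helper4.TopDim1
import Groth.Agent.Lib.Helper1.CurveDual2

/-!
# Intersection numbers with vertical prime divisors on schemes over a discrete valuation ring
(helper1)
-/

set_option autoImplicit false
set_option backward.isDefEq.respectTransparency.types false
universe u
open CategoryTheory CategoryTheory.Limits AlgebraicGeometry TopologicalSpace Opposite
open scoped TensorProduct

namespace Groth.Agent.Helper1.ArInt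

open Groth.Agent.Helper1 Groth.Agent.Helper1.Dv Groth.Agent.Helper1.LGen
open Groth.Agent.Helper1.QcCech Groth.Agent.Helper1.CurveLin

section Len

variable (R : Type u) [CommRing R] [IsDomain R] [IsDiscreteValuationRing R]
  (X : Over (Spec (CommRingCat.of R))) (Γ : ArSurf.VertComp R X) (D : X.left.IdealSheafData)

theorem toGlobal_compat (r : R) :
    (show Γ(Γ.curve.left, ⊤) from
      (Γ.ι.appTop).hom (show Γ(X.left, ⊤) from Coh.toGlobal X.hom r)) =
      (show Γ(Γ.curve.left, ⊤) from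
        Coh.toGlobal Γ.curve.hom (IsLocalRing.residue R r)) := by
  have h1 : X.hom.appTop ≫ Γ.ι.appTop =
      (Spec.map (CommRingCat.ofHom (IsLocalRing.residue R))).appTop ≫ Γ.curve.hom.appTop := by
    rw [← Scheme.Hom.comp_appTop, ← Scheme.Hom.comp_appTop, Γ.w]
  have h2 := Scheme.ΓSpecIso_inv_naturality (CommRingCat.ofHom (IsLocalRing.residue R))
  have h3 := congrArg (fun g => g.hom r) h2
  have h4 := congrArg (fun g => g.hom ((Scheme.ΓSpecIso (CommRingCat.of R)).inv.hom r)) h1
  simp only [CommRingCat.hom_comp, RingHom.comp_apply, CommRingCat.hom_ofHom] at h3 h4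
  show Γ.ι.appTop.hom (X.hom.appTop.hom ((Scheme.ΓSpecIso (CommRingCat.of R)).inv.hom r)) =
    Γ.curve.hom.appTop.hom ((Scheme.ΓSpecIso
      (CommRingCat.of (IsLocalRing.ResidueField R))).inv.hom (IsLocalRing.residue R r))
  rw [h4, ← h3]

theorem smul_compat (r : R) (m : (Coh.structureModule (K Γ.ι D).subscheme).val.obj (op ⊤)) :
    (show (ClSub.quotMod (K Γ.ι D)).val.obj (op ⊤) from
      (Coh.toGlobal X.hom r) • (show (ClSub.quotMod (K Γ.ι D)).val.obj (op ⊤) from m)) =
    (show (ClSub.quotMod (K Γ.ι D)).val.obj (op ⊤) from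
      (Coh.toGlobal Γ.curve.hom (IsLocalRing.residue R r)) •
        (show (Q Γ.ι D).val.obj (op ⊤) from m)) := by
  have key : ((K Γ.ι D).subschemeι.appTop).hom (show Γ(X.left, ⊤) from Coh.toGlobal X.hom r) =
      ((z Γ.ι D).appTop).hom (show Γ(Γ.curve.left, ⊤) from
        Coh.toGlobal Γ.curve.hom (IsLocalRing.residue R r)) := by
    rw [← toGlobal_compat]
    have h5 : (K Γ.ι D).subschemeι.appTop = Γ.ι.appTop ≫ (z Γ.ι D).appTop := by
      rw [← Scheme.Hom.comp_appTop, z_fac]
    exact congrArg (fun g => g.hom (show Γ(X.left, ⊤) from Coh.toGlobal X.hom r)) h5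
  exact congrArg (fun c : Γ((K Γ.ι D).subscheme, ⊤) =>
    c • (show (Coh.structureModule (K Γ.ι D).subscheme).val.obj (op ⊤) from m)) key

theorem lengthH_eq :
    Models.lengthH R X (ClSub.quotMod (K Γ.ι D)) 0 =
      Module.finrank (IsLocalRing.ResidueField R) (Coh.HH Γ.curve.left (Q Γ.ι D) 0) := by
  let T : Coh.HH X.left (ClSub.quotMod (K Γ.ι D)) 0 ≃+ Coh.HH Γ.curve.left (Q Γ.ι D) 0 :=
    (HH0.equiv X.left (ClSub.quotMod (K Γ.ι D))).trans (HH0.equiv Γ.curve.left (Q Γ.ι D)).symm
  have hT : ∀ (r : R) (a : Coh.HH X.left (ClSub.quotMod (K Γ.ι D)) 0),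
      T (r • a) = (IsLocalRing.residue R r) • T a := by
    intro r a
    apply (HH0.equiv Γ.curve.left (Q Γ.ι D)).injective
    rw [HH0.equiv_smul_over]
    show (HH0.equiv Γ.curve.left (Q Γ.ι D)) ((HH0.equiv Γ.curve.left (Q Γ.ι D)).symm
      (HH0.equiv X.left (ClSub.quotMod (K Γ.ι D)) (r • a))) =
      Coh.toGlobal Γ.curve.hom (IsLocalRing.residue R r) •
        (HH0.equiv Γ.curve.left (Q Γ.ι D)) ((HH0.equiv Γ.curve.left (Q Γ.ι D)).symm
          (HH0.equiv X.left (ClSub.quotMod (K Γ.ι D)) a))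
    rw [AddEquiv.apply_symm_apply, AddEquiv.apply_symm_apply, HH0.equiv_smul_over]
    exact smul_compat R X Γ D r _
  letI : Module R (Coh.HH Γ.curve.left (Q Γ.ι D) 0) :=
    Module.compHom _ (IsLocalRing.residue R)
  haveI : IsScalarTower R (IsLocalRing.ResidueField R) (Coh.HH Γ.curve.left (Q Γ.ι D) 0) :=
    ⟨fun r c b => by
      show (IsLocalRing.residue R r * c) • b = IsLocalRing.residue R r • (c • b)
      rw [mul_smul]⟩
  let TL : Coh.HH X.left (ClSub.quotMod (K Γ.ι D)) 0 ≃ₗ[R] Coh.HH Γ.curve.left (Q Γ.ι D) 0 :=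
    { T with map_smul' := fun r a => hT r a }
  have h1 : Module.length R (Coh.HH X.left (ClSub.quotMod (K Γ.ι D)) 0) =
      Module.length R (Coh.HH Γ.curve.left (Q Γ.ι D) 0) := TL.length_eq
  have h2 : Module.length R (Coh.HH Γ.curve.left (Q Γ.ι D) 0) =
      Module.length (IsLocalRing.ResidueField R) (Coh.HH Γ.curve.left (Q Γ.ι D) 0) :=
    Module.length_eq_of_surjective IsLocalRing.residue_surjective
  have h3 := Module.length_eq_rank (IsLocalRing.ResidueField R)
    (Coh.HH Γ.curve.left (Q Γ.ι D) 0)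
  unfold Models.lengthH
  rw [h1, h2, h3]
  exact Cardinal.toNat_toENat _

end Len

section Main

variable (R : Type u) [CommRing R] [IsDomain R] [IsDiscreteValuationRing R]
  (X : Over (Spec (CommRingCat.of R)))

theorem isProper_curve (hp : IsProper X.hom) (Γ : ArSurf.VertComp R X) :
    IsProper Γ.curve.hom := by
  haveI := hp
  haveI : IsProper (Γ.curve.hom ≫ Spec.map (CommRingCat.ofHom (IsLocalRing.residue R))) := by
    rw [← Γ.w]; infer_instance
  exact IsProper.of_comp Γ.curve.hom (Spec.map (CommRingCat.ofHom (IsLocalRing.residue R)))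

/-- the generic point of a vertical prime divisor does not lie on a different one -/
theorem genPt_notMem (Γ₁ Γ₂ : ArSurf.VertComp R X)
    (hne : Set.range Γ₁.ι.base ≠ Set.range Γ₂.ι.base) :
    Γ₁.ι.base (genericPoint Γ₁.curve.left) ∉ (Γ₂.ι.ker.support : Set X.left) := by
  intro hmem
  rw [Scheme.Hom.support_ker, Γ₂.ι.isClosedEmbedding.isClosed_range.closure_eq] at hmem
  have hsub : Set.range Γ₁.ι.base ⊆ Set.range Γ₂.ι.base := by
    rintro _ ⟨c, rfl⟩
    have hc : c ∈ closure ({genericPoint Γ₁.curve.left} : Set Γ₁.curve.left) := by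
      rw [(genericPoint_spec Γ₁.curve.left).def]; trivial
    have h1 := image_closure_subset_closure_image Γ₁.ι.continuous (Set.mem_image_of_mem _ hc)
    rw [Set.image_singleton] at h1
    exact (Γ₂.ι.isClosedEmbedding.isClosed_range.closure_subset_iff.2
      (Set.singleton_subset_iff.2 hmem)) h1
  let Y : Set Γ₂.curve.left := Γ₂.ι.base ⁻¹' (Set.range Γ₁.ι.base)
  have hYcl : IsClosed Y := Γ₁.ι.isClosedEmbedding.isClosed_range.preimage Γ₂.ι.continuous
  have hYne : Y ≠ Set.univ := by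
    intro hY
    apply hne
    apply Set.Subset.antisymm hsub
    rintro _ ⟨b, rfl⟩
    have : b ∈ Y := by rw [hY]; trivial
    exact this
  have hfin : topologicalKrullDim Γ₂.curve.left ≠ ⊤ := by
    rw [Γ₂.dim_eq]
    exact WithBot.coe_injective.ne ENat.one_ne_top
  have hlt := Groth.Agent.Helper4.TD.topologicalKrullDim_lt_of_isClosed_ne_univ
    Γ₂.curve.left hfin Y hYcl hYne
  have hch : ∀ c : Γ₁.curve.left, ∃ b : Γ₂.curve.left, Γ₂.ι.base b = Γ₁.ι.base c :=
    fun c => hsub ⟨c, rfl⟩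
  choose g hg using hch
  let g' : Γ₁.curve.left → Y := fun c => ⟨g c, ⟨c, (hg c).symm⟩⟩
  have hind : Topology.IsInducing g' := by
    have h1 : Topology.IsInducing (fun y : Y => Γ₂.ι.base y.1) :=
      Γ₂.ι.isClosedEmbedding.isInducing.comp Topology.IsInducing.subtypeVal
    have h2 : (fun y : Y => Γ₂.ι.base y.1) ∘ g' = Γ₁.ι.base := funext hg
    rw [← h1.of_comp_iff, h2]
    exact Γ₁.ι.isClosedEmbedding.isInducing
  have hle := hind.topologicalKrullDim_le
  rw [Γ₁.dim_eq] at hle
  rw [Γ₂.dim_eq] at hlt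
  exact absurd (lt_of_le_of_lt hle hlt) (lt_irrefl _)

variable (hp : IsProper X.hom) (Γ : ArSurf.VertComp R X) (D : X.left.IdealSheafData)
  (hDinv : PicF.IsInvertible (ClSub.idealMod D))
  (L : X.left.Modules) (hL : ClSub.IsInverseOf L (ClSub.idealMod D))

include hp hDinv hL in
/-- the self intersection type formula: `L · Γ = - deg (ι^* I_D)` -/
theorem inter_eq_neg_curveDeg :
    ArSurf.inter R X L Γ =
      - ArSurf.curveDeg (IsLocalRing.ResidueField R) Γ.curve.left (P Γ.ι D) := by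
  haveI : IsProper (Γ.curve.left ↘ Spec (CommRingCat.of (IsLocalRing.ResidueField R))) :=
    isProper_curve R X hp Γ
  exact curveDeg_pullback_inverse (IsLocalRing.ResidueField R) Γ.dim_eq Γ.ι D hDinv L hL

variable (hη : Γ.ι.base (genericPoint Γ.curve.left) ∉ (D.support : Set X.left))

include hp hDinv hL hη in
/-- **the intersection number as the length of the scheme theoretic intersection** -/
theorem inter_eq_lengthH :
    ArSurf.inter R X L Γ = (Models.lengthH R X (ClSub.quotMod (D ⊔ Γ.ι.ker)) 0 : ℤ) := by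
  haveI : IsProper (Γ.curve.left ↘ Spec (CommRingCat.of (IsLocalRing.ResidueField R))) :=
    isProper_curve R X hp Γ
  have h1 := curveDeg_eq_euler (IsLocalRing.ResidueField R) Γ.dim_eq Γ.ι D hDinv hη L hL
  have h2 := euler_cokernel_eq_finrank (IsLocalRing.ResidueField R) Γ.dim_eq Γ.ι D hDinv hη
  have h3 := lengthH_eq R X Γ D
  unfold ArSurf.inter
  rw [h1, h2]
  exact_mod_cast h3.symm

include hp hDinv hL hη in
/-- nonnegativity, and vanishing exactly when disjoint -/
theorem inter_nonneg_and_eq_zero_iff :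
    0 ≤ ArSurf.inter R X L Γ ∧
      (ArSurf.inter R X L Γ = 0 ↔
        Disjoint (Set.range Γ.ι.base) (D.support : Set X.left)) := by
  haveI : IsProper (Γ.curve.left ↘ Spec (CommRingCat.of (IsLocalRing.ResidueField R))) :=
    isProper_curve R X hp Γ
  have h1 := curveDeg_eq_euler (IsLocalRing.ResidueField R) Γ.dim_eq Γ.ι D hDinv hη L hL
  unfold ArSurf.inter
  rw [h1]
  exact ⟨euler_cokernel_nonneg (IsLocalRing.ResidueField R) Γ.dim_eq Γ.ι D hDinv hη,
    euler_cokernel_eq_zero_iff (IsLocalRing.ResidueField R) Γ.dim_eq Γ.ι D hDinv hη⟩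

end Main

section Symm

variable (R : Type u) [CommRing R] [IsDomain R] [IsDiscreteValuationRing R]
  (X : Over (Spec (CommRingCat.of R))) [IsLocallyNoetherian X.left]

/-- the ideal of a vertical prime divisor with a tensor inverse is invertible -/
theorem isInvertible_idealMod_of_isInverseOf (I : X.left.IdealSheafData) (L : X.left.Modules)
    (hL : ClSub.IsInverseOf L (ClSub.idealMod I)) : PicF.IsInvertible (ClSub.idealMod I) := by
  obtain ⟨e⟩ := hL
  exact isInvertible_of_tensor_iso (CurveDual.isCoh_idealMod I) e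

/-- symmetry of the intersection number of two distinct vertical prime divisors -/
theorem inter_symm (hp : IsProper X.hom) (Γ₁ Γ₂ : ArSurf.VertComp R X)
    (hne : Set.range Γ₁.ι.base ≠ Set.range Γ₂.ι.base)
    (L₁ L₂ : X.left.Modules) (h₁ : ClSub.IsInverseOf L₁ (ClSub.idealMod Γ₁.ι.ker))
    (h₂ : ClSub.IsInverseOf L₂ (ClSub.idealMod Γ₂.ι.ker)) :
    ArSurf.inter R X L₂ Γ₁ = ArSurf.inter R X L₁ Γ₂ := by
  have hi₁ := isInvertible_idealMod_of_isInverseOf R X _ L₁ h₁
  have hi₂ := isInvertible_idealMod_of_isInverseOf R X _ L₂ h₂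
  rw [inter_eq_lengthH R X hp Γ₁ Γ₂.ι.ker hi₂ L₂ h₂ (genPt_notMem R X Γ₁ Γ₂ hne),
    inter_eq_lengthH R X hp Γ₂ Γ₁.ι.ker hi₁ L₁ h₁ (genPt_notMem R X Γ₂ Γ₁ hne.symm),
    sup_comm]

end Symm

end Groth.Agent.Helper1.ArInt
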