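import Mathlib
import Groth.Agent.Lib.Helper9.RegUFD.Main
import Groth.Agent.Lib.Helper8.RegularLocal

/-!
# Factorisation of a principal ideal in a locally factorial ring along its minimal primes (helper1)
-/

set_option autoImplicit false
universe u
open IsLocalRing

namespace Groth.Agent.Helper1.SpFib

section Alg

variable {A : Type u} [CommRing A] (𝔭 : Ideal A) [h𝔭 : 𝔭.IsPrime] (B : Type u) [CommRing B]
  [Algebra A B] [IsLocalization.AtPrime B 𝔭]

theorem disjoint_of_le {I : Ideal A} (hle : I ≤ 𝔭) :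
    Disjoint (𝔭.primeCompl : Set A) (I : Set A) := by
  rw [Set.disjoint_left]
  intro a ha haI
  exact ha (hle haI)

theorem comap_map_eq {I : Ideal A} (hI : I.IsPrime) (hle : I ≤ 𝔭) :
    (I.map (algebraMap A B)).comap (algebraMap A B) = I :=
  IsLocalization.under_map_of_isPrime_disjoint 𝔭.primeCompl B hI (disjoint_of_le 𝔭 hle)

theorem map_eq_of_map_eq (B' : Type u) [CommRing B'] [Algebra A B'] [IsLocalization.AtPrime B' 𝔭]
    {I J : Ideal A} (h : I.map (algebraMap A B) = J.map (algebraMap A B)) :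
    I.map (algebraMap A B') = J.map (algebraMap A B') := by
  let e : B ≃ₐ[A] B' := IsLocalization.algEquiv 𝔭.primeCompl B B'
  have hc : algebraMap A B' = (e : B →+* B').comp (algebraMap A B) := by
    ext a
    simp [e]
  rw [hc, ← Ideal.map_map, ← Ideal.map_map, h]

include 𝔭 in
theorem algebraMap_ne_zero (ϖ : A) (hϖ : ϖ ∈ nonZeroDivisors A) : algebraMap A B ϖ ≠ 0 := by
  intro h0
  rw [IsLocalization.map_eq_zero_iff 𝔭.primeCompl B] at h0
  obtain ⟨⟨s, hs⟩, hsϖ⟩ := h0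
  have : s = 0 := by
    have h1 : s * ϖ = 0 := hsϖ
    exact (mul_right_mem_nonZeroDivisors_eq_zero_iff hϖ).1 h1
  apply hs
  rw [this]
  exact 𝔭.zero_mem

variable [IsDomain B] [UniqueFactorizationMonoid B] (ϖ : A) {n : ℕ} (P : Fin n → Ideal A)

theorem exists_prime_gen (hϖB : algebraMap A B ϖ ≠ 0)
    (hkey : ∀ j j', (P j).IsPrime → (P j').IsPrime → P j' ≤ P j → j' = j)
    (hcov : ∀ 𝔮 : Ideal A, 𝔮.IsPrime → ϖ ∈ 𝔮 → ∃ j, (P j).IsPrime ∧ P j ≤ 𝔮)
    (j : Fin n) (hj : (P j).IsPrime) (hϖj : ϖ ∈ P j) (hle : P j ≤ 𝔭) :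
    ∃ q : B, Prime q ∧ (P j).map (algebraMap A B) = Ideal.span {q} := by
  have hdisj := disjoint_of_le 𝔭 hle
  have hQprime : ((P j).map (algebraMap A B)).IsPrime :=
    IsLocalization.isPrime_of_isPrime_disjoint 𝔭.primeCompl B (P j) hj hdisj
  have hcomap := comap_map_eq 𝔭 B hj hle
  obtain ⟨f, hfprime, hfassoc⟩ := UniqueFactorizationMonoid.exists_prime_factors _ hϖB
  have hϖQ : algebraMap A B ϖ ∈ (P j).map (algebraMap A B) := Ideal.mem_map_of_mem _ hϖj
  have hfQ : f.prod ∈ (P j).map (algebraMap A B) := by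
    obtain ⟨u, hu⟩ := hfassoc.symm
    rw [← hu]
    exact Ideal.mul_mem_right _ _ hϖQ
  obtain ⟨p, hpf, hpQ⟩ := (hQprime.multiset_prod_mem_iff_exists_mem f).1 hfQ
  have hpprime : Prime p := hfprime p hpf
  have hpdvd : p ∣ algebraMap A B ϖ := (Multiset.dvd_prod hpf).trans hfassoc.dvd
  have hspanprime : (Ideal.span {p} : Ideal B).IsPrime :=
    (Ideal.span_singleton_prime hpprime.ne_zero).2 hpprime
  have h𝔮prime : ((Ideal.span {p} : Ideal B).comap (algebraMap A B)).IsPrime :=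
    Ideal.comap_isPrime _ _
  have hϖ𝔮 : ϖ ∈ (Ideal.span {p} : Ideal B).comap (algebraMap A B) := by
    rw [Ideal.mem_comap]
    exact Ideal.mem_span_singleton.2 hpdvd
  obtain ⟨j', hj', hj'le⟩ := hcov _ h𝔮prime hϖ𝔮
  have h𝔮le : (Ideal.span {p} : Ideal B).comap (algebraMap A B) ≤ P j := by
    rw [← hcomap]
    apply Ideal.comap_mono
    rw [Ideal.span_singleton_le_iff_mem]
    exact hpQ
  have hjj : j' = j := hkey j j' hj hj' (hj'le.trans h𝔮le)
  subst hjj
  have h𝔮eq : (Ideal.span {p} : Ideal B).comap (algebraMap A B) = P j' :=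
    le_antisymm h𝔮le hj'le
  refine ⟨p, hpprime, ?_⟩
  rw [← h𝔮eq]
  exact IsLocalization.map_under 𝔭.primeCompl B (Ideal.span {p})

include 𝔭 in
theorem map_span_eq_prod (hϖB : algebraMap A B ϖ ≠ 0)
    (hP : ∀ j, ϖ ∈ P j)
    (hPtop : ∀ j, ¬ (P j).IsPrime → P j = ⊤)
    (hkey : ∀ j j', (P j).IsPrime → (P j').IsPrime → P j' ≤ P j → j' = j)
    (hcov : ∀ 𝔮 : Ideal A, 𝔮.IsPrime → ϖ ∈ 𝔮 → ∃ j, (P j).IsPrime ∧ P j ≤ 𝔮)
    (m : Fin n → ℕ)
    (hm1 : ∀ j, (P j).IsPrime → ∃ s : A, s ∉ P j ∧ s * ϖ ∈ (P j) ^ (m j))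
    (hm2 : ∀ j, (P j).IsPrime → ∀ t : A, t ∉ P j → t * ϖ ∉ (P j) ^ (m j + 1)) :
    Ideal.span {algebraMap A B ϖ} = ∏ j, ((P j).map (algebraMap A B)) ^ (m j) := by
  classical
  have hex : ∀ j : Fin n, ∃ q : B, ((P j).IsPrime ∧ P j ≤ 𝔭) →
      (Prime q ∧ (P j).map (algebraMap A B) = Ideal.span {q}) := by
    intro j
    by_cases h : (P j).IsPrime ∧ P j ≤ 𝔭
    · obtain ⟨q, hq⟩ := exists_prime_gen 𝔭 B ϖ P hϖB hkey hcov j h.1 (hP j) h.2
      exact ⟨q, fun _ => hq⟩
    · exact ⟨1, fun h' => absurd h' h⟩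
  choose q hq using hex
  set S : Finset (Fin n) := Finset.univ.filter (fun j => (P j).IsPrime ∧ P j ≤ 𝔭) with hS
  have hmemS : ∀ j, j ∈ S ↔ ((P j).IsPrime ∧ P j ≤ 𝔭) := by
    intro j
    rw [hS, Finset.mem_filter]
    exact ⟨fun h => h.2, fun h => ⟨Finset.mem_univ j, h⟩⟩
  have hprod : ∏ j, ((P j).map (algebraMap A B)) ^ (m j) =
      Ideal.span {∏ j ∈ S, q j ^ m j} := by
    rw [← Ideal.prod_span_singleton]
    rw [← Finset.prod_subset (Finset.subset_univ S)]
    · apply Finset.prod_congr rfl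
      intro j hjS
      rw [(hq j ((hmemS j).1 hjS)).2, Ideal.span_singleton_pow]
    · intro j _ hjS
      have htop : (P j).map (algebraMap A B) = ⊤ := by
        by_cases hpr : (P j).IsPrime
        · have hnle : ¬ P j ≤ 𝔭 := fun hle => hjS ((hmemS j).2 ⟨hpr, hle⟩)
          exact IsLocalization.AtPrime.map_eq_top_of_not_le B hnle
        · rw [hPtop j hpr, Ideal.map_top]
      rw [htop, ← Ideal.one_eq_top, one_pow]
  have h1 : ∀ j ∈ S, q j ^ m j ∣ algebraMap A B ϖ := by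
    intro j hjS
    have hj := (hmemS j).1 hjS
    obtain ⟨hqp, hqe⟩ := hq j hj
    obtain ⟨s, hs, hsϖ⟩ := hm1 j hj.1
    have hmem : algebraMap A B (s * ϖ) ∈ Ideal.span {q j ^ m j} := by
      rw [← Ideal.span_singleton_pow, ← hqe, ← Ideal.map_pow]
      exact Ideal.mem_map_of_mem _ hsϖ
    rw [Ideal.mem_span_singleton, map_mul] at hmem
    refine hqp.pow_dvd_of_dvd_mul_left (m j) ?_ hmem
    intro hdvd
    have h2 : algebraMap A B s ∈ (P j).map (algebraMap A B) := by
      rw [hqe]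
      exact Ideal.mem_span_singleton.2 hdvd
    have hs' : s ∈ ((P j).map (algebraMap A B)).comap (algebraMap A B) := h2
    rw [comap_map_eq 𝔭 B hj.1 hj.2] at hs'
    exact hs hs'
  have h2 : ∀ j ∈ S, ¬ q j ^ (m j + 1) ∣ algebraMap A B ϖ := by
    intro j hjS hdvd
    have hj := (hmemS j).1 hjS
    obtain ⟨hqp, hqe⟩ := hq j hj
    have hmem : algebraMap A B ϖ ∈ ((P j) ^ (m j + 1)).map (algebraMap A B) := by
      rw [Ideal.map_pow, hqe, Ideal.span_singleton_pow]
      exact Ideal.mem_span_singleton.2 hdvd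
    rw [IsLocalization.mem_map_algebraMap_iff 𝔭.primeCompl B] at hmem
    obtain ⟨⟨⟨x, hx⟩, ⟨t, ht⟩⟩, hxt⟩ := hmem
    simp only at hxt
    rw [← map_mul] at hxt
    obtain ⟨⟨c, hc⟩, hcx⟩ := (IsLocalization.eq_iff_exists 𝔭.primeCompl B).1 hxt
    simp only at hcx
    have hct : c * t ∉ P j := by
      intro hmem
      rcases hj.1.mem_or_mem hmem with h | h
      · exact hc (hj.2 h)
      · exact ht (hj.2 h)
    apply hm2 j hj.1 (c * t) hct
    have h3 : c * t * ϖ = c * x := by rw [← hcx]; ring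
    rw [h3]
    exact Ideal.mul_mem_left _ _ hx
  have h3 : ∀ j ∈ S, ∀ j' ∈ S, q j ∣ q j' → j = j' := by
    intro j hjS j' hj'S hdvd
    have hj := (hmemS j).1 hjS
    have hj' := (hmemS j').1 hj'S
    have hle : (P j').map (algebraMap A B) ≤ (P j).map (algebraMap A B) := by
      rw [(hq j hj).2, (hq j' hj').2, Ideal.span_singleton_le_span_singleton]
      exact hdvd
    have hc := Ideal.comap_mono (f := algebraMap A B) hle
    rw [comap_map_eq 𝔭 B hj'.1 hj'.2, comap_map_eq 𝔭 B hj.1 hj.2] at hc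
    exact (hkey j j' hj.1 hj'.1 hc).symm
  have h4 : ∀ T : Finset (Fin n), T ⊆ S → ∏ j ∈ T, q j ^ m j ∣ algebraMap A B ϖ := by
    intro T
    refine Finset.induction_on T ?_ ?_
    · intro _
      simp
    · intro a T ha ih hTS
      have haS : a ∈ S := hTS (Finset.mem_insert_self a T)
      have hT : T ⊆ S := fun x hx => hTS (Finset.mem_insert_of_mem hx)
      obtain ⟨c, hc⟩ := ih hT
      rw [Finset.prod_insert ha]
      have hqa := (hq a ((hmemS a).1 haS)).1
      have hnd : ¬ q a ∣ ∏ j ∈ T, q j ^ m j := by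
        intro hd
        obtain ⟨j, hjT, hdj⟩ := hqa.exists_mem_finset_dvd hd
        have h5 := hqa.dvd_of_dvd_pow hdj
        have hja := h3 a haS j (hT hjT) h5
        exact ha (hja ▸ hjT)
      have h1a := h1 a haS
      rw [hc] at h1a
      obtain ⟨c', hc'⟩ := hqa.pow_dvd_of_dvd_mul_left (m a) hnd h1a
      refine ⟨c', ?_⟩
      rw [hc, hc']
      ring
  obtain ⟨c, hc⟩ := h4 S (Finset.Subset.refl S)
  have hcunit : IsUnit c := by
    by_contra hnu
    have hc0 : c ≠ 0 := by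
      rintro rfl
      rw [mul_zero] at hc
      exact hϖB hc
    obtain ⟨p, hpirr, hpc⟩ := WfDvdMonoid.exists_irreducible_factor hnu hc0
    have hpprime : Prime p := UniqueFactorizationMonoid.irreducible_iff_prime.1 hpirr
    have hspanprime : (Ideal.span {p} : Ideal B).IsPrime :=
      (Ideal.span_singleton_prime hpprime.ne_zero).2 hpprime
    have hpϖ : p ∣ algebraMap A B ϖ := by
      rw [hc]
      exact hpc.mul_left _
    have h𝔮prime : ((Ideal.span {p} : Ideal B).comap (algebraMap A B)).IsPrime :=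
      Ideal.comap_isPrime _ _
    obtain ⟨j, hj, hjle⟩ := hcov _ h𝔮prime
      (Ideal.mem_comap.2 (Ideal.mem_span_singleton.2 hpϖ))
    have h𝔮𝔭 : (Ideal.span {p} : Ideal B).comap (algebraMap A B) ≤ 𝔭 := by
      intro x hx
      by_contra hx𝔭
      have hu : IsUnit (algebraMap A B x) :=
        IsLocalization.map_units B (⟨x, hx𝔭⟩ : 𝔭.primeCompl)
      exact hspanprime.ne_top (Ideal.eq_top_of_isUnit_mem _ (Ideal.mem_comap.1 hx) hu)
    have hjS : j ∈ S := (hmemS j).2 ⟨hj, hjle.trans h𝔮𝔭⟩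
    obtain ⟨hqp, hqe⟩ := hq j ⟨hj, hjle.trans h𝔮𝔭⟩
    have hpq : p ∣ q j := by
      have h5 : (P j).map (algebraMap A B) ≤ Ideal.span {p} :=
        (Ideal.map_mono hjle).trans Ideal.map_comap_le
      rw [hqe, Ideal.span_singleton_le_span_singleton] at h5
      exact h5
    have hqp' : q j ∣ p := by
      obtain ⟨d, hd⟩ := hpq
      rcases hqp.irreducible.isUnit_or_isUnit hd with h | h
      · exact absurd h hpirr.not_isUnit
      · obtain ⟨u, rfl⟩ := h
        exact ⟨↑u⁻¹, by rw [hd, mul_assoc, Units.mul_inv, mul_one]⟩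
    have hqc : q j ∣ c := hqp'.trans hpc
    apply h2 j hjS
    obtain ⟨c'', hc''⟩ := hqc
    have hb : ∏ x ∈ S, q x ^ m x = q j ^ m j * ∏ x ∈ S.erase j, q x ^ m x :=
      (Finset.mul_prod_erase S (fun x => q x ^ m x) hjS).symm
    refine ⟨(∏ x ∈ S.erase j, q x ^ m x) * c'', ?_⟩
    rw [hc, hb, hc'']
    ring
  rw [hprod, Ideal.span_singleton_eq_span_singleton]
  obtain ⟨u, rfl⟩ := hcunit
  exact ⟨u⁻¹, by rw [hc, mul_assoc, Units.mul_inv, mul_one]⟩

end Alg

section DVR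

variable {A : Type u} [CommRing A] (P : Ideal A) [hP : P.IsPrime] (D : Type u) [CommRing D]
  [Algebra A D] [IsLocalization.AtPrime D P]

/-- a localisation which is a regular local ring, at a prime which is minimal over a nonzero
principal ideal in the above sense, is a discrete valuation ring -/
theorem isDVR [IsRegularLocalRing D] (ϖ : A) (hϖD : algebraMap A D ϖ ≠ 0) (hϖP : ϖ ∈ P)
    (hmin : ∀ 𝔮 : Ideal A, 𝔮.IsPrime → ϖ ∈ 𝔮 → 𝔮 ≤ P → 𝔮 = P) :
    ∃ (_ : IsDomain D), IsDiscreteValuationRing D := by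
  haveI : IsDomain D := Groth.Agent.Helper8.RLR.isDomain D
  haveI : UniqueFactorizationMonoid D := Groth.Agent.Helper9.RegUFD.ufd D
  refine ⟨inferInstance, ?_⟩
  have hQ : P.map (algebraMap A D) = maximalIdeal D :=
    IsLocalization.AtPrime.map_eq_maximalIdeal P D
  obtain ⟨f, hfprime, hfassoc⟩ := UniqueFactorizationMonoid.exists_prime_factors _ hϖD
  have hϖQ : algebraMap A D ϖ ∈ maximalIdeal D := by
    rw [← hQ]
    exact Ideal.mem_map_of_mem _ hϖP
  have hfQ : f.prod ∈ maximalIdeal D := by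
    obtain ⟨u, hu⟩ := hfassoc.symm
    rw [← hu]
    exact Ideal.mul_mem_right _ _ hϖQ
  obtain ⟨p, hpf, hpQ⟩ :=
    ((maximalIdeal.isMaximal D).isPrime.multiset_prod_mem_iff_exists_mem f).1 hfQ
  have hpprime : Prime p := hfprime p hpf
  have hpdvd : p ∣ algebraMap A D ϖ := (Multiset.dvd_prod hpf).trans hfassoc.dvd
  have hspanprime : (Ideal.span {p} : Ideal D).IsPrime :=
    (Ideal.span_singleton_prime hpprime.ne_zero).2 hpprime
  have h𝔮prime : ((Ideal.span {p} : Ideal D).comap (algebraMap A D)).IsPrime :=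
    Ideal.comap_isPrime _ _
  have hϖ𝔮 : ϖ ∈ (Ideal.span {p} : Ideal D).comap (algebraMap A D) := by
    rw [Ideal.mem_comap]
    exact Ideal.mem_span_singleton.2 hpdvd
  have hcomap : (P.map (algebraMap A D)).comap (algebraMap A D) = P :=
    comap_map_eq P D hP le_rfl
  have h𝔮le : (Ideal.span {p} : Ideal D).comap (algebraMap A D) ≤ P := by
    rw [← hcomap, hQ]
    apply Ideal.comap_mono
    rw [Ideal.span_singleton_le_iff_mem]
    exact hpQ
  have h𝔮eq := hmin _ h𝔮prime hϖ𝔮 h𝔮le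
  have hmax : maximalIdeal D = Ideal.span {p} := by
    rw [← hQ, ← h𝔮eq]
    exact IsLocalization.map_under P.primeCompl D (Ideal.span {p})
  have hnf : ¬ IsField D := by
    rw [IsLocalRing.isField_iff_maximalIdeal_eq, hmax, Ideal.span_singleton_eq_bot]
    exact hpprime.ne_zero
  have hpr : (maximalIdeal D).IsPrincipal := ⟨⟨p, hmax⟩⟩
  exact ((IsDiscreteValuationRing.TFAE D hnf).out 0 4).2 hpr

theorem mult_spec [IsDomain D] [IsDiscreteValuationRing D] (ϖ : A)
    (hϖD : algebraMap A D ϖ ≠ 0) (J : Ideal D) (hJ : J = Ideal.span {algebraMap A D ϖ}) :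
    (∃ s : A, s ∉ P ∧ s * ϖ ∈ P ^ (Module.length D (D ⧸ J)).toNat) ∧
      (∀ t : A, t ∉ P → t * ϖ ∉ P ^ ((Module.length D (D ⧸ J)).toNat + 1)) := by
  have hQ : P.map (algebraMap A D) = maximalIdeal D :=
    IsLocalization.AtPrime.map_eq_maximalIdeal P D
  have hJ0 : J ≠ ⊥ := by
    rw [hJ, Ne, Ideal.span_singleton_eq_bot]
    exact hϖD
  obtain ⟨π, hπ⟩ := IsDiscreteValuationRing.exists_irreducible D
  obtain ⟨e, he⟩ := IsDiscreteValuationRing.ideal_eq_span_pow_irreducible hJ0 hπ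
  have hJe : J = maximalIdeal D ^ e := by
    rw [he, hπ.maximalIdeal_eq, Ideal.span_singleton_pow]
  have hlen : ∀ I : Ideal D, I = maximalIdeal D ^ e → (Module.length D (D ⧸ I)).toNat = e := by
    rintro I rfl
    rw [IsDiscreteValuationRing.length_quotient_pow_maximalIdeal]
    exact ENat.toNat_natCast e
  rw [hlen J hJe]
  have hϖe : algebraMap A D ϖ ∈ maximalIdeal D ^ e := by
    rw [← hJe, hJ]
    exact Ideal.mem_span_singleton_self _
  constructor
  · rw [← hQ, ← Ideal.map_pow, IsLocalization.mem_map_algebraMap_iff P.primeCompl D] at hϖe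
    obtain ⟨⟨⟨x, hx⟩, ⟨s, hs⟩⟩, hxs⟩ := hϖe
    simp only at hxs
    rw [← map_mul] at hxs
    obtain ⟨⟨c, hc⟩, hcx⟩ := (IsLocalization.eq_iff_exists P.primeCompl D).1 hxs
    simp only at hcx
    refine ⟨c * s, ?_, ?_⟩
    · intro hmem
      rcases hP.mem_or_mem hmem with h | h
      · exact hc h
      · exact hs h
    · have h3 : c * s * ϖ = c * x := by rw [← hcx]; ring
      rw [h3]
      exact Ideal.mul_mem_left _ _ hx
  · intro t ht htϖ
    have hu : IsUnit (algebraMap A D t) := IsLocalization.map_units D (⟨t, ht⟩ : P.primeCompl)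
    have h1 : algebraMap A D (t * ϖ) ∈ maximalIdeal D ^ (e + 1) := by
      rw [← hQ, ← Ideal.map_pow]
      exact Ideal.mem_map_of_mem _ htϖ
    rw [map_mul, Ideal.unit_mul_mem_iff_mem _ hu] at h1
    have hle : maximalIdeal D ^ e ≤ maximalIdeal D ^ (e + 1) := by
      rw [← hJe, hJ, Ideal.span_singleton_le_iff_mem]
      exact h1
    have heq : maximalIdeal D ^ (e + 1) = maximalIdeal D ^ e :=
      le_antisymm (Ideal.pow_le_pow_right (Nat.le_succ e)) hle
    have h2 := hlen _ heq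
    have h3 : (Module.length D (D ⧸ maximalIdeal D ^ (e + 1))).toNat = e + 1 := by
      rw [IsDiscreteValuationRing.length_quotient_pow_maximalIdeal]
      exact ENat.toNat_natCast (e + 1)
    omega

end DVR

end Groth.Agent.Helper1.SpFib
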