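import Mathlib
import Groth.Agent.Lib.Helper1.SpFib1
import Groth.Agent.Lib.Helper1.ArInt3
import Groth.Agent.Lib.Helper4.IdealComap
import Groth.Agent.Lib.Helper4.EffCartier

/-!
# The closed fibre of a regular scheme over a discrete valuation ring as a sum of its components
(helper1)
-/

set_option autoImplicit false
set_option backward.isDefEq.respectTransparency.types false
universe u
open CategoryTheory CategoryTheory.Limits AlgebraicGeometry TopologicalSpace Opposite IsLocalRing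

namespace Groth.Agent.Helper1.SpFib

section Pt

variable {Y : Scheme.{u}} (U : Y.affineOpens) (x : Y) (hx : x ∈ U.1)

/-- the prime ideal of a point of an affine open -/
noncomputable def pt : Ideal Γ(Y, U.1) :=
  (maximalIdeal (Y.presheaf.stalk x)).comap (Y.presheaf.germ U.1 x hx).hom

instance pt_isPrime : (pt U x hx).IsPrime := by
  unfold pt
  exact Ideal.comap_isPrime _ _

theorem mem_pt_iff (f : Γ(Y, U.1)) : f ∈ pt U x hx ↔ x ∉ Y.basicOpen f := by
  rw [Scheme.mem_basicOpen Y f x hx]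
  rfl

theorem atPrime_of_eq {A S : Type*} [CommRing A] [CommRing S] [Algebra A S] {p q : Ideal A}
    [p.IsPrime] [q.IsPrime] (h : p = q) (H : IsLocalization.AtPrime S p) :
    IsLocalization.AtPrime S q := by
  subst h
  exact H

theorem isLocalization_pt :
    @IsLocalization.AtPrime Γ(Y, U.1) _ (Y.presheaf.stalk x) _
      (Y.presheaf.algebra_section_stalk ⟨x, hx⟩) (pt U x hx) _ := by
  letI := Y.presheaf.algebra_section_stalk ⟨x, hx⟩
  have h := U.2.isLocalization_stalk ⟨x, hx⟩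
  have e : (U.2.primeIdealOf ⟨x, hx⟩).asIdeal = pt U x hx :=
    (IsLocalization.AtPrime.under_maximalIdeal (Y.presheaf.stalk x)
      (U.2.primeIdealOf ⟨x, hx⟩).asIdeal).symm
  exact atPrime_of_eq e h

theorem le_pt_iff (I : Y.IdealSheafData) : I.ideal U ≤ pt U x hx ↔ x ∈ I.support := by
  rw [Scheme.IdealSheafData.mem_support_iff_of_mem (U := U) hx, Scheme.mem_zeroLocus_iff]
  constructor
  · intro h f hf
    exact (mem_pt_iff U x hx f).1 (h hf)
  · intro h f hf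
    exact (mem_pt_iff U x hx f).2 (h f hf)

theorem fromSpec_mem (y : PrimeSpectrum Γ(Y, U.1)) : U.2.fromSpec y ∈ U.1 := by
  have h : U.2.fromSpec y ∈ Set.range U.2.fromSpec := ⟨y, rfl⟩
  rw [U.2.range_fromSpec] at h
  exact h

theorem pt_fromSpec (y : PrimeSpectrum Γ(Y, U.1)) (hy : U.2.fromSpec y ∈ U.1) :
    pt U (U.2.fromSpec y) hy = y.asIdeal := by
  letI := Y.presheaf.algebra_section_stalk ⟨U.2.fromSpec y, hy⟩
  haveI : IsLocalization.AtPrime (Y.presheaf.stalk (U.2.fromSpec y)) y.asIdeal :=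
    U.2.isLocalization_stalk' y hy
  exact IsLocalization.AtPrime.under_maximalIdeal (Y.presheaf.stalk (U.2.fromSpec y)) y.asIdeal

theorem ideal_prod {n : ℕ} (I : Fin n → Y.IdealSheafData) (s : Finset (Fin n)) :
    (∏ j ∈ s, I j).ideal U = ∏ j ∈ s, (I j).ideal U := by
  classical
  refine Finset.induction_on s ?_ ?_
  · simp only [Finset.prod_empty]
    rw [Ideal.one_eq_top]
    rfl
  · intro a s ha ih
    rw [Finset.prod_insert ha, Finset.prod_insert ha, ← ih]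
    rfl

theorem ideal_prod_pow {n : ℕ} (I : Fin n → Y.IdealSheafData) (m : Fin n → ℕ) :
    (∏ j, I j ^ m j).ideal U = ∏ j, (I j).ideal U ^ m j := by
  rw [ideal_prod]
  exact Finset.prod_congr rfl (fun j _ => rfl)

theorem map_prod_pow {A B : Type*} [CommRing A] [CommRing B] (f : A →+* B) {n : ℕ}
    (P : Fin n → Ideal A) (m : Fin n → ℕ) :
    (∏ j, P j ^ m j).map f = ∏ j, (P j).map f ^ m j := by
  rw [← Ideal.mapHom_apply, map_prod]
  apply Finset.prod_congr rfl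
  intro j _
  rw [Ideal.mapHom_apply, Ideal.map_pow]

end Pt

section Vert

variable (R : Type u) [CommRing R] [IsDomain R] [IsDiscreteValuationRing R]
  (X : Over (Spec (CommRingCat.of R)))

/-- the image of an element of `R` in the sections over `U` -/
noncomputable def sec (r : R) (U : X.left.Opens) : Γ(X.left, U) :=
  (X.left.presheaf.map (homOfLE (le_top : U ≤ ⊤)).op).hom
    (show Γ(X.left, ⊤) from Coh.toGlobal X.hom r)

theorem sec_eq_appLE (r : R) (U : X.left.Opens)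
    (e : U ≤ X.hom ⁻¹ᵁ (⊤ : (Spec (CommRingCat.of R)).Opens)) :
    sec R X r U = (X.hom.appLE ⊤ U e).hom ((Scheme.ΓSpecIso (CommRingCat.of R)).inv.hom r) :=
  rfl

theorem specialFibreIdeal_ideal (ϖ : R) (hϖ : Irreducible ϖ) (U : X.left.affineOpens) :
    (Models.specialFibreIdeal R X).ideal U = Ideal.span {sec R X ϖ U.1} := by
  have e : U.1 ≤ X.hom ⁻¹ᵁ (⊤ : (Spec (CommRingCat.of R)).Opens) := fun _ _ => trivial
  have h := Groth.Agent.Helper4.IdealComap.ideal_comap_eq_map X.hom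
    (Curv2.idealSheaf R (maximalIdeal R)) U ⟨⊤, isAffineOpen_top _⟩ e
  have h1 : (Spec (CommRingCat.of R)).presheaf.map
      (homOfLE (le_top : (⊤ : (Spec (CommRingCat.of R)).Opens) ≤ ⊤)).op = 𝟙 _ :=
    (Spec (CommRingCat.of R)).presheaf.map_id _
  unfold Models.specialFibreIdeal
  rw [h]
  unfold Curv2.idealSheaf
  rw [Scheme.IdealSheafData.ofIdealTop_ideal, h1, CommRingCat.hom_id, Ideal.map_id,
    hϖ.maximalIdeal_eq, Ideal.map_span, Ideal.map_span, Set.image_singleton, Set.image_singleton]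
  rfl

theorem sec_mem_nonZeroDivisors [Flat X.hom] (r : R) (hr : r ≠ 0) (U : X.left.affineOpens) :
    sec R X r U.1 ∈ nonZeroDivisors Γ(X.left, U.1) := by
  have e : U.1 ≤ X.hom ⁻¹ᵁ (⊤ : (Spec (CommRingCat.of R)).Opens) := fun _ _ => trivial
  rw [sec_eq_appLE R X r U.1 e]
  apply Groth.Agent.Helper4.EffCartier.nzd_of_flat _
    (Flat.flat_appLE X.hom (isAffineOpen_top _) U.2 e)
  rw [mem_nonZeroDivisors_iff_right]
  intro x hx
  have h2 := congrArg (Scheme.ΓSpecIso (CommRingCat.of R)).hom.hom hx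
  rw [map_mul, map_zero] at h2
  have h3 : (Scheme.ΓSpecIso (CommRingCat.of R)).hom.hom
      ((Scheme.ΓSpecIso (CommRingCat.of R)).inv.hom r) = r := by
    rw [← RingHom.comp_apply, ← CommRingCat.hom_comp, Iso.inv_hom_id]
    rfl
  rw [h3] at h2
  have h4 : (Scheme.ΓSpecIso (CommRingCat.of R)).hom.hom x = 0 := by
    rcases mul_eq_zero.1 h2 with h | h
    · exact h
    · exact absurd h hr
  have h5 := congrArg (Scheme.ΓSpecIso (CommRingCat.of R)).inv.hom h4
  rw [map_zero, ← RingHom.comp_apply, ← CommRingCat.hom_comp, Iso.hom_inv_id] at h5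
  exact h5

theorem sec_mem_ker (Γ : ArSurf.VertComp R X) (r : R) (hr : r ∈ maximalIdeal R)
    (U : X.left.affineOpens) : sec R X r U.1 ∈ Γ.ι.ker.ideal U := by
  rw [Scheme.Hom.ker_apply, RingHom.mem_ker]
  have hnat := Γ.ι.naturality (homOfLE (le_top : U.1 ≤ ⊤)).op
  have h := congrArg (fun g => g.hom (show Γ(X.left, ⊤) from Coh.toGlobal X.hom r)) hnat
  simp only [CommRingCat.hom_comp, RingHom.comp_apply] at h
  have hz : (show Γ(Γ.curve.left, ⊤) from
      Coh.toGlobal Γ.curve.hom (IsLocalRing.residue R r)) = 0 := by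
    rw [(residue_eq_zero_iff r).2 hr, map_zero]
    rfl
  have h0 : (Γ.ι.app ⊤).hom (show Γ(X.left, ⊤) from Coh.toGlobal X.hom r) = 0 :=
    (ArInt.toGlobal_compat R X Γ r).trans hz
  unfold sec
  refine h.trans ?_
  rw [h0, map_zero]

theorem base_eq_closedPoint_of_mem_pt (ϖ : R) (hϖ : Irreducible ϖ) (U : X.left.affineOpens)
    (x : X.left) (hx : x ∈ U.1) (h : sec R X ϖ U.1 ∈ pt U x hx) :
    X.hom.base x = closedPoint R := by
  rw [mem_pt_iff] at h
  have h1 : x ∉ X.left.basicOpen (show Γ(X.left, ⊤) from Coh.toGlobal X.hom ϖ) := by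
    intro h'
    apply h
    unfold sec
    rw [Scheme.basicOpen_res]
    exact ⟨hx, h'⟩
  have h2 : X.hom.base x ∉ (Spec (CommRingCat.of R)).basicOpen
      ((Scheme.ΓSpecIso (CommRingCat.of R)).inv ϖ) := by
    intro h'
    apply h1
    have hpre := Scheme.preimage_basicOpen X.hom ((Scheme.ΓSpecIso (CommRingCat.of R)).inv ϖ)
    have h3 : x ∈ X.hom ⁻¹ᵁ (Spec (CommRingCat.of R)).basicOpen
        ((Scheme.ΓSpecIso (CommRingCat.of R)).inv ϖ) := h'
    rw [hpre] at h3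
    exact h3
  rw [basicOpen_eq_of_affine] at h2
  have h4 : ϖ ∈ (X.hom.base x).asIdeal := by
    by_contra hc
    exact h2 hc
  apply PrimeSpectrum.ext
  show (X.hom.base x).asIdeal = maximalIdeal R
  have hle : maximalIdeal R ≤ (X.hom.base x).asIdeal := by
    rw [hϖ.maximalIdeal_eq, Ideal.span_singleton_le_iff_mem]
    exact h4
  exact ((maximalIdeal.isMaximal R).eq_of_le (X.hom.base x).isPrime.ne_top hle).symm

variable (Γ : ArSurf.VertComp R X) (U : X.left.affineOpens)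

theorem genPt_mem_of_mem (z : Γ.curve.left) (hz : Γ.ι.base z ∈ U.1) :
    Γ.ι.base (genericPoint Γ.curve.left) ∈ U.1 := by
  have hopen : IsOpen ((Γ.ι ⁻¹ᵁ U.1 : Γ.curve.left.Opens) : Set Γ.curve.left) :=
    (Γ.ι ⁻¹ᵁ U.1).isOpen
  exact ((genericPoint_spec Γ.curve.left).mem_open_set_iff hopen).2 ⟨z, trivial, hz⟩

theorem ker_eq_top_of_notMem (h : Γ.ι.base (genericPoint Γ.curve.left) ∉ U.1) :
    Γ.ι.ker.ideal U = ⊤ := by
  rw [Scheme.Hom.ker_apply]
  have hV : Γ.ι ⁻¹ᵁ U.1 = ⊥ := by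
    ext z
    constructor
    · intro hz
      exact (h (genPt_mem_of_mem R X Γ U z hz)).elim
    · intro hz
      simp at hz
  rw [Ideal.eq_top_iff_one, RingHom.mem_ker]
  have hs : Subsingleton Γ(Γ.curve.left, Γ.ι ⁻¹ᵁ U.1) := by
    rw [hV]
    infer_instance
  exact Subsingleton.elim _ _

theorem ker_eq_pt (h : Γ.ι.base (genericPoint Γ.curve.left) ∈ U.1) :
    Γ.ι.ker.ideal U = pt U _ h := by
  rw [Scheme.Hom.ker_apply]
  ext f
  rw [RingHom.mem_ker, mem_pt_iff]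
  have hpre := Scheme.preimage_basicOpen Γ.ι f
  constructor
  · intro hf hmem
    have h1 : genericPoint Γ.curve.left ∈ Γ.ι ⁻¹ᵁ X.left.basicOpen f := hmem
    rw [hpre] at h1
    have h0 : (Γ.ι.app U.1) f = 0 := hf
    rw [h0, Scheme.basicOpen_zero] at h1
    simp at h1
  · intro hnot
    have hbot : Γ.curve.left.basicOpen ((Γ.ι.app U.1) f) = ⊥ := by
      ext z
      constructor
      · intro hz
        exfalso
        apply hnot
        have hopen := (Γ.curve.left.basicOpen ((Γ.ι.app U.1) f)).isOpen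
        have hη : genericPoint Γ.curve.left ∈ Γ.curve.left.basicOpen ((Γ.ι.app U.1) f) :=
          ((genericPoint_spec Γ.curve.left).mem_open_set_iff hopen).2 ⟨z, trivial, hz⟩
        rw [← hpre] at hη
        exact hη
      · intro hz
        simp at hz
    exact (basicOpen_eq_bot_iff _).1 hbot

theorem mult_spec_geom (hreg : ∀ x : X.left, IsRegularLocalRing (X.left.presheaf.stalk x))
    (ϖ : R) (hϖ : Irreducible ϖ)
    (hnz : sec R X ϖ U.1 ∈ nonZeroDivisors Γ(X.left, U.1))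
    (h : Γ.ι.base (genericPoint Γ.curve.left) ∈ U.1)
    (hmin : ∀ 𝔮 : Ideal Γ(X.left, U.1), 𝔮.IsPrime → sec R X ϖ U.1 ∈ 𝔮 →
      𝔮 ≤ Γ.ι.ker.ideal U → 𝔮 = Γ.ι.ker.ideal U) :
    (∃ s : Γ(X.left, U.1), s ∉ Γ.ι.ker.ideal U ∧
        s * sec R X ϖ U.1 ∈ Γ.ι.ker.ideal U ^ Models.mult R X Γ) ∧
      (∀ t : Γ(X.left, U.1), t ∉ Γ.ι.ker.ideal U →
        t * sec R X ϖ U.1 ∉ Γ.ι.ker.ideal U ^ (Models.mult R X Γ + 1)) := by
  have hmem : sec R X ϖ U.1 ∈ Γ.ι.ker.ideal U :=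
    sec_mem_ker R X Γ ϖ (by rw [hϖ.maximalIdeal_eq]; exact Ideal.mem_span_singleton_self ϖ) U
  rw [ker_eq_pt R X Γ U h] at hmin hmem ⊢
  letI := X.left.presheaf.algebra_section_stalk
    ⟨Γ.ι.base (genericPoint Γ.curve.left), h⟩
  haveI := isLocalization_pt U _ h
  haveI := hreg (Γ.ι.base (genericPoint Γ.curve.left))
  have hϖD := algebraMap_ne_zero (pt U _ h)
    (X.left.presheaf.stalk (Γ.ι.base (genericPoint Γ.curve.left))) _ hnz
  obtain ⟨hdom, hdvr⟩ := isDVR (pt U _ h)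
    (X.left.presheaf.stalk (Γ.ι.base (genericPoint Γ.curve.left))) _ hϖD hmem hmin
  have hJ : Ideal.map (Models.stalkHom R X (Γ.ι.base (genericPoint Γ.curve.left)))
      (maximalIdeal R) = Ideal.span {algebraMap Γ(X.left, U.1)
        (X.left.presheaf.stalk (Γ.ι.base (genericPoint Γ.curve.left))) (sec R X ϖ U.1)} := by
    rw [hϖ.maximalIdeal_eq, Ideal.map_span, Set.image_singleton]
    congr 2
    exact (X.left.presheaf.germ_res_apply (homOfLE (le_top : U.1 ≤ ⊤)) _ h _).symm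
  exact mult_spec (pt U _ h) (X.left.presheaf.stalk (Γ.ι.base (genericPoint Γ.curve.left)))
    (sec R X ϖ U.1) hϖD _ hJ

end Vert

section Main

variable (R : Type u) [CommRing R] [IsDomain R] [IsDiscreteValuationRing R]
  (X : Over (Spec (CommRingCat.of R)))

/-- **the closed fibre is the sum of its components with multiplicities** -/
theorem specialFibreIdeal_eq_prod
    (hreg : ∀ x : X.left, IsRegularLocalRing (X.left.presheaf.stalk x))
    [Flat X.hom] {n : ℕ} (Γ : Fin n → ArSurf.VertComp R X)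
    (hinj : Function.Injective fun i => Set.range (Γ i).ι.base)
    (hcov : ∀ x : X.left, X.hom.base x = closedPoint R → ∃ i, x ∈ Set.range (Γ i).ι.base) :
    Models.specialFibreIdeal R X = ∏ i, (Γ i).ι.ker ^ Models.mult R X (Γ i) := by
  obtain ⟨ϖ, hϖ⟩ := IsDiscreteValuationRing.exists_irreducible R
  apply Scheme.IdealSheafData.ext
  funext U
  rw [specialFibreIdeal_ideal R X ϖ hϖ U, ideal_prod_pow]
  have hnz : sec R X ϖ U.1 ∈ nonZeroDivisors Γ(X.left, U.1) :=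
    sec_mem_nonZeroDivisors R X ϖ hϖ.ne_zero U
  have hP : ∀ j, sec R X ϖ U.1 ∈ (Γ j).ι.ker.ideal U := fun j =>
    sec_mem_ker R X (Γ j) ϖ
      (by rw [hϖ.maximalIdeal_eq]; exact Ideal.mem_span_singleton_self ϖ) U
  have hprime_of_mem : ∀ j, (Γ j).ι.base (genericPoint (Γ j).curve.left) ∈ U.1 →
      ((Γ j).ι.ker.ideal U).IsPrime := by
    intro j h
    rw [ker_eq_pt R X (Γ j) U h]
    exact pt_isPrime U _ h
  have hmem_of_prime : ∀ j, ((Γ j).ι.ker.ideal U).IsPrime →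
      (Γ j).ι.base (genericPoint (Γ j).curve.left) ∈ U.1 := by
    intro j hj
    by_contra hn
    exact hj.ne_top (ker_eq_top_of_notMem R X (Γ j) U hn)
  have hPtop : ∀ j, ¬ ((Γ j).ι.ker.ideal U).IsPrime → (Γ j).ι.ker.ideal U = ⊤ := by
    intro j hj
    by_cases h : (Γ j).ι.base (genericPoint (Γ j).curve.left) ∈ U.1
    · exact absurd (hprime_of_mem j h) hj
    · exact ker_eq_top_of_notMem R X (Γ j) U h
  have hkey : ∀ j j', ((Γ j).ι.ker.ideal U).IsPrime → ((Γ j').ι.ker.ideal U).IsPrime →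
      (Γ j').ι.ker.ideal U ≤ (Γ j).ι.ker.ideal U → j' = j := by
    intro j j' hj hj' hle
    have h := hmem_of_prime j hj
    rw [ker_eq_pt R X (Γ j) U h] at hle
    have hsupp := (le_pt_iff U _ h (Γ j').ι.ker).1 hle
    by_contra hne
    have hr : Set.range (Γ j).ι.base ≠ Set.range (Γ j').ι.base := fun e => hne (hinj e).symm
    exact ArInt.genPt_notMem R X (Γ j) (Γ j') hr hsupp
  have hcov' : ∀ 𝔮 : Ideal Γ(X.left, U.1), 𝔮.IsPrime → sec R X ϖ U.1 ∈ 𝔮 →
      ∃ j, ((Γ j).ι.ker.ideal U).IsPrime ∧ (Γ j).ι.ker.ideal U ≤ 𝔮 := by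
    intro 𝔮 h𝔮 ha
    have hy := fromSpec_mem U (⟨𝔮, h𝔮⟩ : PrimeSpectrum Γ(X.left, U.1))
    have hpt := pt_fromSpec U (⟨𝔮, h𝔮⟩ : PrimeSpectrum Γ(X.left, U.1)) hy
    have hpt' : pt U _ hy = 𝔮 := hpt
    have hax : sec R X ϖ U.1 ∈ pt U _ hy := by rw [hpt']; exact ha
    have hfib := base_eq_closedPoint_of_mem_pt R X ϖ hϖ U _ hy hax
    obtain ⟨j, hj⟩ := hcov _ hfib
    have hsupp := (Γ j).ι.range_subset_ker_support hj
    have hle := (le_pt_iff U _ hy (Γ j).ι.ker).2 hsupp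
    rw [hpt'] at hle
    refine ⟨j, ?_, hle⟩
    by_contra hnp
    rw [hPtop j hnp] at hle
    exact h𝔮.ne_top (top_le_iff.1 hle)
  have hmin : ∀ j, ((Γ j).ι.ker.ideal U).IsPrime → ∀ 𝔮 : Ideal Γ(X.left, U.1), 𝔮.IsPrime →
      sec R X ϖ U.1 ∈ 𝔮 → 𝔮 ≤ (Γ j).ι.ker.ideal U → 𝔮 = (Γ j).ι.ker.ideal U := by
    intro j hj 𝔮 h𝔮 ha hle
    obtain ⟨j', hj', hle'⟩ := hcov' 𝔮 h𝔮 ha
    have hjj := hkey j j' hj hj' (hle'.trans hle)
    subst hjj
    exact le_antisymm hle hle'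
  have hm := fun j (hj : ((Γ j).ι.ker.ideal U).IsPrime) =>
    mult_spec_geom R X (Γ j) U hreg ϖ hϖ hnz (hmem_of_prime j hj) (hmin j hj)
  apply Ideal.eq_of_localization_maximal
  intro 𝔭 h𝔭
  haveI := h𝔭.isPrime
  have hy := fromSpec_mem U (⟨𝔭, h𝔭.isPrime⟩ : PrimeSpectrum Γ(X.left, U.1))
  letI := X.left.presheaf.algebra_section_stalk
    ⟨U.2.fromSpec (⟨𝔭, h𝔭.isPrime⟩ : PrimeSpectrum Γ(X.left, U.1)), hy⟩
  haveI : IsLocalization.AtPrime (X.left.presheaf.stalk
      (U.2.fromSpec (⟨𝔭, h𝔭.isPrime⟩ : PrimeSpectrum Γ(X.left, U.1)))) 𝔭 :=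
    U.2.isLocalization_stalk' ⟨𝔭, h𝔭.isPrime⟩ hy
  haveI := hreg (U.2.fromSpec (⟨𝔭, h𝔭.isPrime⟩ : PrimeSpectrum Γ(X.left, U.1)))
  haveI : IsDomain (X.left.presheaf.stalk
      (U.2.fromSpec (⟨𝔭, h𝔭.isPrime⟩ : PrimeSpectrum Γ(X.left, U.1)))) :=
    Groth.Agent.Helper8.RLR.isDomain _
  haveI : UniqueFactorizationMonoid (X.left.presheaf.stalk
      (U.2.fromSpec (⟨𝔭, h𝔭.isPrime⟩ : PrimeSpectrum Γ(X.left, U.1)))) :=
    Groth.Agent.Helper9.RegUFD.ufd _
  apply map_eq_of_map_eq 𝔭 (X.left.presheaf.stalk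
      (U.2.fromSpec (⟨𝔭, h𝔭.isPrime⟩ : PrimeSpectrum Γ(X.left, U.1)))) (Localization.AtPrime 𝔭)
  rw [Ideal.map_span, Set.image_singleton, map_prod_pow]
  exact map_span_eq_prod 𝔭 _ (sec R X ϖ U.1) (fun j => (Γ j).ι.ker.ideal U)
    (algebraMap_ne_zero 𝔭 _ _ hnz) hP hPtop hkey hcov' _
    (fun j hj => (hm j hj).1) (fun j hj => (hm j hj).2)

end Main

end Groth.Agent.Helper1.SpFib
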