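import Mathlib
import Groth.Agent.Lib.Helper1.SpFib2
import Groth.Agent.Lib.Helper1.IdealMul1
import Groth.Agent.Lib.Helper1.AmpleLib2
import Groth.Agent.S8914

/-!
# The closed fibre is numerically trivial (helper1)
-/

set_option autoImplicit false
set_option backward.isDefEq.respectTransparency.types false
universe u
open CategoryTheory CategoryTheory.Limits AlgebraicGeometry TopologicalSpace Opposite IsLocalRing

namespace Groth.Agent.Helper1.SpFib

open Groth.Agent.Lead.IdM Groth.Agent.Helper1.QcCech Groth.Agent.Helper1.LGen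
open Groth.Agent.Helper1.TensGen Groth.Agent.Helper1.CocycleIso Groth.Agent.Helper1
open Groth.Agent.Helper1.TmulLib

section Principal

variable {X : Scheme.{u}} (I : X.IdealSheafData)
  (f : ∀ U : X.Opens, Γ(X, U))

include f in
theorem isEffCartier_of_principal
    (hI : ∀ U : X.affineOpens, I.ideal U = Ideal.span {f U.1})
    (hnz : ∀ U : X.affineOpens, f U.1 ∈ nonZeroDivisors Γ(X, U.1)) :
    BlowUp.IsEffCartierIdeal I := by
  intro x
  obtain ⟨_, ⟨W, hW, rfl⟩, hxW, -⟩ := X.isBasis_affineOpens.exists_subset_of_mem_open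
    (show x ∈ ((⊤ : X.Opens) : Set X) from trivial) (⊤ : X.Opens).2
  exact ⟨⟨W, hW⟩, hxW, f W, hnz ⟨W, hW⟩, hI ⟨W, hW⟩⟩

/-- index type: affine opens with a free generator mapping to `f` -/
structure PIdx where
  W : X.affineOpens
  b : Γ(ClSub.idealMod I, W.1)
  hb : IsGen (ClSub.idealMod I) W.1 b
  eq : ιL I W.1 b = f W.1

theorem exists_pidx
    (hI : ∀ U : X.affineOpens, I.ideal U = Ideal.span {f U.1})
    (hnz : ∀ U : X.affineOpens, f U.1 ∈ nonZeroDivisors Γ(X, U.1))
    (hinv : PicF.IsInvertible (ClSub.idealMod I)) (x : X) : ∃ i : PIdx I f, x ∈ i.W.1 := by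
  obtain ⟨W₁, g₁, hx₁, hg₁⟩ := exists_isGen hinv x
  obtain ⟨_, ⟨W, hW, rfl⟩, hxW, hWle⟩ :=
    X.isBasis_affineOpens.exists_subset_of_mem_open hx₁ W₁.2
  have hle : W ≤ W₁ := hWle
  have hg := hg₁.res hle
  set g := res (ClSub.idealMod I) hle g₁
  obtain ⟨b, hbeq⟩ : ∃ b, ιL I W b = f W := by
    have : f W ∈ LinearMap.range (ιL I W) := by
      rw [range_ιL I ⟨W, hW⟩, hI ⟨W, hW⟩]
      exact Ideal.mem_span_singleton_self _
    exact this
  obtain ⟨c, hc⟩ := hg.exists_coeff b
  have hgmem : ιL I W g ∈ I.ideal ⟨W, hW⟩ := by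
    rw [← range_ιL I ⟨W, hW⟩]
    exact ⟨g, rfl⟩
  rw [hI ⟨W, hW⟩] at hgmem
  obtain ⟨d, hd⟩ := Ideal.mem_span_singleton'.1 hgmem
  have h2 : c * d = 1 := by
    have h3 : (c * d) * f W = 1 * f W := by
      rw [one_mul, mul_assoc, hd, ← smul_eq_mul, ← map_smul, hc, hbeq]
    exact (mul_cancel_right_mem_nonZeroDivisors (hnz ⟨W, hW⟩)).1 h3
  have hcu : IsUnit c := IsUnit.of_mul_eq_one _ h2
  have hb : IsGen (ClSub.idealMod I) W b := by
    rw [← hc]
    exact TwForm.IsGen.smul_unit hg hcu.unit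
  exact ⟨⟨⟨W, hW⟩, b, hb, hbeq⟩, hxW⟩

/-- the matching family -/
noncomputable def pFam (hres : ∀ (U V : X.Opens) (h : V ≤ U), resR h (f U) = f V)
    (hI : ∀ U : X.affineOpens, I.ideal U = Ideal.span {f U.1})
    (hnz : ∀ U : X.affineOpens, f U.1 ∈ nonZeroDivisors Γ(X, U.1))
    (hinv : PicF.IsInvertible (ClSub.idealMod I)) :
    GenFam (Coh.structureModule X) (ClSub.idealMod I) where
  ι := PIdx I f
  W := fun i => i.W.1
  a := fun i => TwForm.one' i.W.1
  b := fun i => i.b
  ha := fun i => AmpleLib.isGen_one' i.W.1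
  hb := fun i => i.hb
  cov := exists_pidx I f hI hnz hinv
  compat := by
    intro i j v hv
    rw [TwForm.res_one', TwForm.res_one', TwForm.smul_one'] at hv
    have hv1 : v = 1 := hv.symm
    subst hv1
    rw [one_smul]
    apply ιL_injective I (i.W.1 ⊓ j.W.1)
    rw [IdealMul.ιL_res', IdealMul.ιL_res', i.eq, j.eq, hres, hres]

/-- **a principal ideal sheaf generated by a global nonzerodivisor is trivial** -/
theorem nonempty_iso_of_principal
    (hres : ∀ (U V : X.Opens) (h : V ≤ U), resR h (f U) = f V)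
    (hI : ∀ U : X.affineOpens, I.ideal U = Ideal.span {f U.1})
    (hnz : ∀ U : X.affineOpens, f U.1 ∈ nonZeroDivisors Γ(X, U.1)) :
    Nonempty (Coh.structureModule X ≅ ClSub.idealMod I) :=
  ⟨(pFam I f hres hI hnz (Groth.Agent.S8914.backward _
    (isEffCartier_of_principal I f hI hnz))).iso⟩

end Principal

section Deg

variable (k : Type u) [Field k] {C X : Scheme.{u}} [C.Over (Spec (CommRingCat.of k))]
  [IsIntegral C] [IsProper (C ↘ Spec (CommRingCat.of k))] (hdim : topologicalKrullDim C = 1)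
  (ι : C ⟶ X)

/-- degree on `C` of the pulled back ideal -/
noncomputable def δ (D : X.IdealSheafData) : ℤ := ArSurf.curveDeg k C (ArInt.P ι D)

include hdim in
theorem δ_mul {D E : X.IdealSheafData} (hD : PicF.IsInvertible (ClSub.idealMod D))
    (hE : PicF.IsInvertible (ClSub.idealMod E)) : δ k ι (D * E) = δ k ι D + δ k ι E := by
  unfold δ
  rw [ArInt.curveDeg_eq_deg k hdim, ArInt.curveDeg_eq_deg k hdim, ArInt.curveDeg_eq_deg k hdim]
  have hPD : PicF.IsInvertible (ArInt.P ι D) := PullGen.isInvertible_pullback ι hD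
  have hPE : PicF.IsInvertible (ArInt.P ι E) := PullGen.isInvertible_pullback ι hE
  obtain ⟨t⟩ := Groth.Agent.Lead.PullTensorAll.nonempty_tensor_pullback_iso ι
    (ClSub.idealMod D) (ClSub.idealMod E)
  have e : CohB1.tensorMod (ArInt.P ι D) (ArInt.P ι E) ≅ ArInt.P ι (D * E) :=
    t ≪≫ (Scheme.Modules.pullback ι).mapIso (IdealMul.iso hD hE)
  rw [← GenusOne.deg_iso k C e 1, GenusOne.deg_tensor_inv k C hdim hPD hPE]

theorem isInvertible_top : PicF.IsInvertible (ClSub.idealMod (⊤ : X.IdealSheafData)) :=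
  Groth.Agent.S8914.backward _ Groth.Agent.Helper4.EffCartier.top

include hdim in
theorem δ_top : δ k ι (⊤ : X.IdealSheafData) = 0 := by
  have h := δ_mul k hdim ι (isInvertible_top (X := X)) (isInvertible_top (X := X))
  rw [Scheme.IdealSheafData.top_mul] at h
  linarith

theorem isInvertible_pow' {D : X.IdealSheafData} (hD : PicF.IsInvertible (ClSub.idealMod D))
    (m : ℕ) : PicF.IsInvertible (ClSub.idealMod (D ^ m)) := by
  cases m with
  | zero =>
    rw [pow_zero]
    exact isInvertible_top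
  | succ m => exact IdealMul.isInvertible_pow hD m

include hdim in
theorem δ_pow {D : X.IdealSheafData} (hD : PicF.IsInvertible (ClSub.idealMod D)) (m : ℕ) :
    δ k ι (D ^ m) = m * δ k ι D := by
  induction m with
  | zero =>
    rw [pow_zero]
    have := δ_top k hdim ι (X := X)
    simpa using this
  | succ m ih =>
    rw [pow_succ, δ_mul k hdim ι (isInvertible_pow' hD m) hD, ih]
    push_cast
    ring

include hdim in
theorem δ_prod {n : ℕ} (D : Fin n → X.IdealSheafData) (m : Fin n → ℕ)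
    (hD : ∀ j, PicF.IsInvertible (ClSub.idealMod (D j))) (s : Finset (Fin n)) :
    PicF.IsInvertible (ClSub.idealMod (∏ j ∈ s, D j ^ m j)) ∧
      δ k ι (∏ j ∈ s, D j ^ m j) = ∑ j ∈ s, (m j : ℤ) * δ k ι (D j) := by
  classical
  refine Finset.induction_on s ?_ ?_
  · simp only [Finset.prod_empty, Finset.sum_empty]
    exact ⟨isInvertible_top, δ_top k hdim ι⟩
  · intro a s ha ih
    rw [Finset.prod_insert ha, Finset.sum_insert ha]
    refine ⟨IdealMul.isInvertible_mul (isInvertible_pow' (hD a) (m a)) ih.1, ?_⟩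
    rw [δ_mul k hdim ι (isInvertible_pow' (hD a) (m a)) ih.1, ih.2, δ_pow k hdim ι (hD a)]

include hdim in
theorem δ_eq_zero_of_iso (D : X.IdealSheafData)
    (e : Coh.structureModule X ≅ ClSub.idealMod D) : δ k ι D = 0 := by
  unfold δ
  rw [ArInt.curveDeg_eq_deg k hdim]
  have e' : ArInt.P ι D ≅ Coh.structureModule C :=
    (Scheme.Modules.pullback ι).mapIso e.symm ≪≫ PullSec.unitIso ι
  rw [GenusOne.deg_iso k C e' 1, Curve.deg_structureModule]

end Deg

section Main

variable (R : Type u) [CommRing R] [IsDomain R] [IsDiscreteValuationRing R]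
  (X : Over (Spec (CommRingCat.of R)))

theorem nonempty_iso_specialFibreIdeal [Flat X.hom] :
    Nonempty (Coh.structureModule X.left ≅ ClSub.idealMod (Models.specialFibreIdeal R X)) := by
  obtain ⟨ϖ, hϖ⟩ := IsDiscreteValuationRing.exists_irreducible R
  refine nonempty_iso_of_principal (Models.specialFibreIdeal R X) (fun U => sec R X ϖ U)
    ?_ (fun U => specialFibreIdeal_ideal R X ϖ hϖ U)
    (fun U => sec_mem_nonZeroDivisors R X ϖ hϖ.ne_zero U)
  intro U V h
  exact resR_resR _ _ _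

/-- **the closed fibre is numerically trivial** -/
theorem sum_mult_mul_inter_eq_zero [IsLocallyNoetherian X.left] (hp : IsProper X.hom)
    (hreg : ∀ x : X.left, IsRegularLocalRing (X.left.presheaf.stalk x))
    [Flat X.hom] {n : ℕ} (Γ : Fin n → ArSurf.VertComp R X)
    (hinj : Function.Injective fun i => Set.range (Γ i).ι.base)
    (hcov : ∀ x : X.left, X.hom.base x = closedPoint R → ∃ i, x ∈ Set.range (Γ i).ι.base)
    (L : Fin n → X.left.Modules)
    (hL : ∀ j, ClSub.IsInverseOf (L j) (ClSub.idealMod (Γ j).ι.ker)) (i : Fin n) :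
    ∑ j, (Models.mult R X (Γ j) : ℤ) * ArSurf.inter R X (L j) (Γ i) = 0 := by
  haveI : IsProper ((Γ i).curve.left ↘ Spec (CommRingCat.of (IsLocalRing.ResidueField R))) :=
    ArInt.isProper_curve R X hp (Γ i)
  have hinv : ∀ j, PicF.IsInvertible (ClSub.idealMod (Γ j).ι.ker) := fun j =>
    ArInt.isInvertible_idealMod_of_isInverseOf R X _ (L j) (hL j)
  have h1 : ∀ j, ArSurf.inter R X (L j) (Γ i) =
      - δ (IsLocalRing.ResidueField R) (Γ i).ι (Γ j).ι.ker := fun j =>
    ArInt.inter_eq_neg_curveDeg R X hp (Γ i) _ (hinv j) (L j) (hL j)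
  have h2 := (δ_prod (IsLocalRing.ResidueField R) (Γ i).dim_eq (Γ i).ι
    (fun j => (Γ j).ι.ker) (fun j => Models.mult R X (Γ j)) hinv Finset.univ).2
  rw [← specialFibreIdeal_eq_prod R X hreg Γ hinj hcov] at h2
  obtain ⟨e⟩ := nonempty_iso_specialFibreIdeal R X
  have h3 := δ_eq_zero_of_iso (IsLocalRing.ResidueField R) (Γ i).dim_eq (Γ i).ι _ e
  rw [h3] at h2
  simp only [h1, mul_neg, Finset.sum_neg_distrib]
  rw [← h2, neg_zero]

end Main

end Groth.Agent.Helper1.SpFib
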