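import Mathlib
import Groth.Agent.Lib.Helper1.SpFib3

/-!
# Components of the closed fibre: covering, positivity of multiplicities, the kernel of the
intersection form (helper1)
-/

set_option autoImplicit false
set_option backward.isDefEq.respectTransparency.types false
universe u
open CategoryTheory CategoryTheory.Limits AlgebraicGeometry TopologicalSpace Opposite IsLocalRing

namespace Groth.Agent.Helper1.SpFib

section Comp

variable (R : Type u) [CommRing R] [IsDomain R] [IsDiscreteValuationRing R]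
  (X : Over (Spec (CommRingCat.of R)))

theorem range_subset_fibre (Γ : ArSurf.VertComp R X) (z : Γ.curve.left) :
    X.hom.base (Γ.ι.base z) = closedPoint R := by
  have h1 : X.hom.base (Γ.ι.base z) = (Γ.ι ≫ X.hom).base z := rfl
  rw [h1, Γ.w]
  exact IsLocalRing.PrimeSpectrum.comap_residue R (Γ.curve.hom.base z)

theorem exists_fibreComponent (x : X.left) (hx : x ∈ Models.specialFibreSet R X) :
    ∃ Z ∈ Models.fibreComponents R X, x ∈ Z := by
  have hchain : ∀ c ⊆ {t : Set X.left | IsPreirreducible t ∧ t ⊆ Models.specialFibreSet R X},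
      IsChain (· ⊆ ·) c → c.Nonempty →
      ∃ ub ∈ {t : Set X.left | IsPreirreducible t ∧ t ⊆ Models.specialFibreSet R X},
        ∀ s ∈ c, s ⊆ ub := by
    intro c hc hcc _
    refine ⟨⋃₀ c, ⟨?_, Set.sUnion_subset fun t ht => (hc ht).2⟩,
      fun _ hxc => Set.subset_sUnion_of_mem hxc⟩
    intro u v hu hv ⟨y, hy, hyu⟩ ⟨z, hz, hzv⟩
    obtain ⟨p, hpc, hyp⟩ := Set.mem_sUnion.1 hy
    obtain ⟨q, hqc, hzq⟩ := Set.mem_sUnion.1 hz
    rcases hcc.total hpc hqc with hpq | hqp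
    · obtain ⟨w, hwq, hwuv⟩ := (hc hqc).1 u v hu hv ⟨y, hpq hyp, hyu⟩ ⟨z, hzq, hzv⟩
      exact ⟨w, Set.mem_sUnion_of_mem hwq hqc, hwuv⟩
    · obtain ⟨w, hwp, hwuv⟩ := (hc hpc).1 u v hu hv ⟨y, hyp, hyu⟩ ⟨z, hqp hzq, hzv⟩
      exact ⟨w, Set.mem_sUnion_of_mem hwp hpc, hwuv⟩
  obtain ⟨m, hsm, hm⟩ := zorn_subset_nonempty _ hchain {x}
    ⟨isPreirreducible_singleton, Set.singleton_subset_iff.2 hx⟩
  have hxm : x ∈ m := hsm rfl
  refine ⟨m, ⟨⟨⟨⟨x, hxm⟩, hm.prop.1⟩, hm.prop.2⟩, ?_⟩, hxm⟩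
  intro S hS hmS
  exact (hm.eq_of_subset ⟨hS.1.2, hS.2⟩ hmS).ge

theorem cover_of_isComponentList {n : ℕ} (Γ : Fin n → ArSurf.VertComp R X)
    (hΓ : Models.IsComponentList R X Γ) (x : X.left) (hx : X.hom.base x = closedPoint R) :
    ∃ i, x ∈ Set.range (Γ i).ι.base := by
  obtain ⟨Z, hZ, hxZ⟩ := exists_fibreComponent R X x hx
  rw [← hΓ.2] at hZ
  obtain ⟨i, rfl⟩ := hZ
  exact ⟨i, hxZ⟩

variable (hreg : ∀ x : X.left, IsRegularLocalRing (X.left.presheaf.stalk x))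
  [Flat X.hom] {n : ℕ} (Γ : Fin n → ArSurf.VertComp R X)
  (hinj : Function.Injective fun i => Set.range (Γ i).ι.base)
  (hcov : ∀ x : X.left, X.hom.base x = closedPoint R → ∃ i, x ∈ Set.range (Γ i).ι.base)

include hinj hcov in
theorem hmin_of (ϖ : R) (hϖ : Irreducible ϖ) (U : X.left.affineOpens) (j : Fin n)
    (hj : ((Γ j).ι.ker.ideal U).IsPrime) :
    ∀ 𝔮 : Ideal Γ(X.left, U.1), 𝔮.IsPrime →
      sec R X ϖ U.1 ∈ 𝔮 → 𝔮 ≤ (Γ j).ι.ker.ideal U → 𝔮 = (Γ j).ι.ker.ideal U := by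
  have hprime_of_mem : ∀ j, (Γ j).ι.base (genericPoint (Γ j).curve.left) ∈ U.1 →
      ((Γ j).ι.ker.ideal U).IsPrime := by
    intro j h
    rw [ker_eq_pt R X (Γ j) U h]
    exact pt_isPrime U _ h
  have hmem_of_prime : ∀ j, ((Γ j).ι.ker.ideal U).IsPrime →
      (Γ j).ι.base (genericPoint (Γ j).curve.left) ∈ U.1 := by
    intro j hj
    by_contra hn
    exact hj.ne_top (ker_eq_top_of_notMem R X (Γ j) U hn)
  have hPtop : ∀ j, ¬ ((Γ j).ι.ker.ideal U).IsPrime → (Γ j).ι.ker.ideal U = ⊤ := by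
    intro j hj
    by_cases h : (Γ j).ι.base (genericPoint (Γ j).curve.left) ∈ U.1
    · exact absurd (hprime_of_mem j h) hj
    · exact ker_eq_top_of_notMem R X (Γ j) U h
  have hkey : ∀ j j', ((Γ j).ι.ker.ideal U).IsPrime → ((Γ j').ι.ker.ideal U).IsPrime →
      (Γ j').ι.ker.ideal U ≤ (Γ j).ι.ker.ideal U → j' = j := by
    intro j j' hj hj' hle
    have h := hmem_of_prime j hj
    rw [ker_eq_pt R X (Γ j) U h] at hle
    have hsupp := (le_pt_iff U _ h (Γ j').ι.ker).1 hle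
    by_contra hne
    have hr : Set.range (Γ j).ι.base ≠ Set.range (Γ j').ι.base := fun e => hne (hinj e).symm
    exact ArInt.genPt_notMem R X (Γ j) (Γ j') hr hsupp
  have hcov' : ∀ 𝔮 : Ideal Γ(X.left, U.1), 𝔮.IsPrime → sec R X ϖ U.1 ∈ 𝔮 →
      ∃ j, ((Γ j).ι.ker.ideal U).IsPrime ∧ (Γ j).ι.ker.ideal U ≤ 𝔮 := by
    intro 𝔮 h𝔮 ha
    have hy := fromSpec_mem U (⟨𝔮, h𝔮⟩ : PrimeSpectrum Γ(X.left, U.1))
    have hpt := pt_fromSpec U (⟨𝔮, h𝔮⟩ : PrimeSpectrum Γ(X.left, U.1)) hy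
    have hpt' : pt U _ hy = 𝔮 := hpt
    have hax : sec R X ϖ U.1 ∈ pt U _ hy := by rw [hpt']; exact ha
    have hfib := base_eq_closedPoint_of_mem_pt R X ϖ hϖ U _ hy hax
    obtain ⟨j, hj⟩ := hcov _ hfib
    have hsupp := (Γ j).ι.range_subset_ker_support hj
    have hle := (le_pt_iff U _ hy (Γ j).ι.ker).2 hsupp
    rw [hpt'] at hle
    refine ⟨j, ?_, hle⟩
    by_contra hnp
    rw [hPtop j hnp] at hle
    exact h𝔮.ne_top (top_le_iff.1 hle)
  intro 𝔮 h𝔮 ha hle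
  obtain ⟨j', hj', hle'⟩ := hcov' 𝔮 h𝔮 ha
  have hjj := hkey j j' hj hj' (hle'.trans hle)
  subst hjj
  exact le_antisymm hle hle'

include hreg hinj hcov in
theorem mult_ne_zero (j : Fin n) : Models.mult R X (Γ j) ≠ 0 := by
  obtain ⟨ϖ, hϖ⟩ := IsDiscreteValuationRing.exists_irreducible R
  obtain ⟨_, ⟨W, hW, rfl⟩, hγW, -⟩ := X.left.isBasis_affineOpens.exists_subset_of_mem_open
    (show (Γ j).ι.base (genericPoint (Γ j).curve.left) ∈ ((⊤ : X.left.Opens) : Set X.left)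
      from trivial) (⊤ : X.left.Opens).2
  have hnz := sec_mem_nonZeroDivisors R X ϖ hϖ.ne_zero ⟨W, hW⟩
  have hj : ((Γ j).ι.ker.ideal ⟨W, hW⟩).IsPrime := by
    rw [ker_eq_pt R X (Γ j) ⟨W, hW⟩ hγW]
    exact pt_isPrime _ _ hγW
  have hm := mult_spec_geom R X (Γ j) ⟨W, hW⟩ hreg ϖ hϖ hnz hγW
    (hmin_of R X Γ hinj hcov ϖ hϖ ⟨W, hW⟩ j hj)
  intro h0
  apply hm.2 1 (fun h1 => hj.ne_top ((Ideal.eq_top_iff_one _).2 h1))
  rw [h0, zero_add, pow_one, one_mul]
  exact sec_mem_ker R X (Γ j) ϖ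
    (by rw [hϖ.maximalIdeal_eq]; exact Ideal.mem_span_singleton_self ϖ) ⟨W, hW⟩

end Comp

section LinAlg

theorem max_principle {r : ℕ} (M : Fin r → Fin r → ℤ) (m : Fin r → ℕ) (a : Fin r → ℤ)
    (mpos : ∀ j, m j ≠ 0) (hzero : ∀ i, ∑ j, (m j : ℤ) * M i j = 0)
    (hker : ∀ i, ∑ j, a j * M i j = 0) (hnonneg : ∀ i j, i ≠ j → 0 ≤ M i j)
    (i : Fin r) (hmax : ∀ l, (a l : ℚ) / m l ≤ (a i : ℚ) / m i) (j : Fin r) (hij : i ≠ j)
    (hM : M i j ≠ 0) : (a j : ℚ) / m j = (a i : ℚ) / m i := by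
  have hmq : ∀ l, (m l : ℚ) ≠ 0 := fun l => by exact_mod_cast mpos l
  have hbm : ∀ l, (a l : ℚ) / m l * m l = a l := fun l => div_mul_cancel₀ _ (hmq l)
  have h2 : ∑ l, ((m l : ℚ) * (M i l : ℚ)) = 0 := by
    have := congrArg (fun z : ℤ => (z : ℚ)) (hzero i)
    push_cast at this
    exact this
  have h3 : ∑ l, (a l : ℚ) * (M i l : ℚ) = 0 := by
    have := congrArg (fun z : ℤ => (z : ℚ)) (hker i)
    push_cast at this
    exact this
  have hsum : ∑ l, ((a i : ℚ) / m i - (a l : ℚ) / m l) * ((m l : ℚ) * (M i l : ℚ)) = 0 := by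
    have h1 : ∑ l, ((a i : ℚ) / m i - (a l : ℚ) / m l) * ((m l : ℚ) * (M i l : ℚ)) =
        (a i : ℚ) / m i * ∑ l, ((m l : ℚ) * (M i l : ℚ)) - ∑ l, (a l : ℚ) * (M i l : ℚ) := by
      rw [Finset.mul_sum, ← Finset.sum_sub_distrib]
      apply Finset.sum_congr rfl
      intro l _
      have := hbm l
      linear_combination (-(M i l : ℚ)) * this
    rw [h1, h2, h3]
    ring
  have hterm : ∀ l ∈ Finset.univ,
      0 ≤ ((a i : ℚ) / m i - (a l : ℚ) / m l) * ((m l : ℚ) * (M i l : ℚ)) := by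
    intro l _
    by_cases hl : i = l
    · subst hl
      simp
    · apply mul_nonneg (sub_nonneg.2 (hmax l))
      apply mul_nonneg (Nat.cast_nonneg _)
      exact_mod_cast hnonneg i l hl
  have hz := (Finset.sum_eq_zero_iff_of_nonneg hterm).1 hsum j (Finset.mem_univ j)
  have hpos : (0 : ℚ) < (m j : ℚ) * (M i j : ℚ) := by
    apply mul_pos
    · exact_mod_cast Nat.pos_of_ne_zero (mpos j)
    · have := hnonneg i j hij
      exact_mod_cast lt_of_le_of_ne this (Ne.symm hM)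
  rcases mul_eq_zero.1 hz with h | h
  · exact (sub_eq_zero.1 h).symm
  · exact absurd h hpos.ne'

theorem all_eq_of_connected {T : Type*} [TopologicalSpace T] {r : ℕ} (F : Set T)
    (hF : IsPreconnected F) (Z : Fin r → Set T) (hZcl : ∀ i, IsClosed (Z i))
    (hZne : ∀ i, (Z i).Nonempty) (hZF : ∀ i, Z i ⊆ F) (hcov : F ⊆ ⋃ i, Z i)
    (S : Set (Fin r)) (i₀ : Fin r) (hi₀ : i₀ ∈ S)
    (hadj : ∀ i ∈ S, ∀ j ∉ S, Disjoint (Z i) (Z j)) : S = Set.univ := by
  by_contra hne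
  obtain ⟨j₀, hj₀⟩ : ∃ j, j ∉ S := by
    by_contra h
    push Not at h
    exact hne (Set.eq_univ_of_forall h)
  have hA : IsClosed (⋃ i ∈ S, Z i) :=
    Set.Finite.isClosed_biUnion (Set.toFinite S) (fun i _ => hZcl i)
  have hB : IsClosed (⋃ j ∈ Sᶜ, Z j) :=
    Set.Finite.isClosed_biUnion (Set.toFinite _) (fun i _ => hZcl i)
  have hAB : F ⊆ (⋃ i ∈ S, Z i) ∪ (⋃ j ∈ Sᶜ, Z j) := by
    intro x hx
    obtain ⟨i, hi⟩ := Set.mem_iUnion.1 (hcov hx)
    by_cases his : i ∈ S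
    · exact Or.inl (Set.mem_biUnion his hi)
    · exact Or.inr (Set.mem_biUnion (show i ∈ Sᶜ from his) hi)
  have hFA : (F ∩ ⋃ i ∈ S, Z i).Nonempty := by
    obtain ⟨x, hx⟩ := hZne i₀
    exact ⟨x, hZF i₀ hx, Set.mem_biUnion hi₀ hx⟩
  have hFB : (F ∩ ⋃ j ∈ Sᶜ, Z j).Nonempty := by
    obtain ⟨x, hx⟩ := hZne j₀
    exact ⟨x, hZF j₀ hx, Set.mem_biUnion (show j₀ ∈ Sᶜ from hj₀) hx⟩
  obtain ⟨x, -, hxA, hxB⟩ := (isPreconnected_closed_iff.1 hF) _ _ hA hB hAB hFA hFB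
  obtain ⟨i, hiS, hxi⟩ := Set.mem_iUnion₂.1 hxA
  obtain ⟨j, hjS, hxj⟩ := Set.mem_iUnion₂.1 hxB
  exact Set.disjoint_left.1 (hadj i hiS j hjS) hxi hxj

end LinAlg

section Kernel

variable (R : Type u) [CommRing R] [IsDomain R] [IsDiscreteValuationRing R]
  (X : Over (Spec (CommRingCat.of R)))

/-- **the kernel of the intersection form on a connected closed fibre** -/
theorem kernel_iff [IsLocallyNoetherian X.left] (hp : IsProper X.hom)
    (hreg : ∀ x : X.left, IsRegularLocalRing (X.left.presheaf.stalk x)) [Flat X.hom]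
    (hconn : _root_.IsConnected {x : X.left | X.hom.base x = closedPoint R})
    {r : ℕ} (Γ : Fin r → ArSurf.VertComp R X)
    (hinj : Function.Injective fun i => Set.range (Γ i).ι.base)
    (hcov : ∀ x : X.left, X.hom.base x = closedPoint R → ∃ i, x ∈ Set.range (Γ i).ι.base)
    (L : Fin r → X.left.Modules)
    (hL : ∀ j, ClSub.IsInverseOf (L j) (ClSub.idealMod (Γ j).ι.ker)) (a : Fin r → ℤ) :
    (∀ i, ∑ j, a j * ArSurf.inter R X (L j) (Γ i) = 0) ↔
      ∃ c : ℚ, ∀ i, (a i : ℚ) = c * (Models.mult R X (Γ i) : ℚ) := by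
  have hzero := fun i => sum_mult_mul_inter_eq_zero R X hp hreg Γ hinj hcov L hL i
  have mpos := mult_ne_zero R X hreg Γ hinj hcov
  have hne : ∀ i j, i ≠ j → Set.range (Γ i).ι.base ≠ Set.range (Γ j).ι.base :=
    fun i j hij h => hij (hinj h)
  have hinv := fun j => ArInt.isInvertible_idealMod_of_isInverseOf R X _ (L j) (hL j)
  have hsupp : ∀ j, ((Γ j).ι.ker.support : Set X.left) = Set.range (Γ j).ι.base := by
    intro j
    rw [Scheme.Hom.support_ker, (Γ j).ι.isClosedEmbedding.isClosed_range.closure_eq]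
  have hpk : ∀ i j, i ≠ j → 0 ≤ ArSurf.inter R X (L j) (Γ i) ∧
      (ArSurf.inter R X (L j) (Γ i) = 0 ↔
        Disjoint (Set.range (Γ i).ι.base) (Set.range (Γ j).ι.base)) := by
    intro i j hij
    have := ArInt.inter_nonneg_and_eq_zero_iff R X hp (Γ i) (Γ j).ι.ker (hinv j) (L j) (hL j)
      (ArInt.genPt_notMem R X (Γ i) (Γ j) (hne i j hij))
    rw [hsupp j] at this
    exact this
  constructor
  · intro hker
    rcases isEmpty_or_nonempty (Fin r) with hE | hN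
    · exact ⟨0, fun i => (hE.false i).elim⟩
    obtain ⟨i₀, -, hmax⟩ := Finset.exists_max_image Finset.univ
      (fun l => (a l : ℚ) / (Models.mult R X (Γ l) : ℚ)) Finset.univ_nonempty
    have hS : {i : Fin r | (a i : ℚ) / (Models.mult R X (Γ i) : ℚ) =
        (a i₀ : ℚ) / (Models.mult R X (Γ i₀) : ℚ)} = Set.univ := by
      refine all_eq_of_connected {x : X.left | X.hom.base x = closedPoint R}
        hconn.isPreconnected (fun i => Set.range (Γ i).ι.base)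
        (fun i => (Γ i).ι.isClosedEmbedding.isClosed_range)
        (fun i => Set.range_nonempty _) ?_ ?_ _ i₀ rfl ?_
      · rintro i _ ⟨z, rfl⟩
        exact range_subset_fibre R X (Γ i) z
      · intro x hx
        obtain ⟨i, hi⟩ := hcov x hx
        exact Set.mem_iUnion.2 ⟨i, hi⟩
      · intro i hi j hj
        have hij : i ≠ j := by
          rintro rfl
          exact hj hi
        by_contra hnd
        apply hj
        have hM : ArSurf.inter R X (L j) (Γ i) ≠ 0 := fun h0 => hnd ((hpk i j hij).2.1 h0)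
        have hi' : (a i : ℚ) / (Models.mult R X (Γ i) : ℚ) =
            (a i₀ : ℚ) / (Models.mult R X (Γ i₀) : ℚ) := hi
        have hmax' : ∀ l, (a l : ℚ) / (Models.mult R X (Γ l) : ℚ) ≤
            (a i : ℚ) / (Models.mult R X (Γ i) : ℚ) := by
          intro l
          rw [hi']
          exact hmax l (Finset.mem_univ l)
        have := max_principle (fun i j => ArSurf.inter R X (L j) (Γ i))
          (fun j => Models.mult R X (Γ j)) a mpos hzero hker (fun i j hij => (hpk i j hij).1)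
          i hmax' j hij hM
        show (a j : ℚ) / (Models.mult R X (Γ j) : ℚ) = _
        rw [this, hi']
    refine ⟨(a i₀ : ℚ) / (Models.mult R X (Γ i₀) : ℚ), fun i => ?_⟩
    have hi : i ∈ {i : Fin r | (a i : ℚ) / (Models.mult R X (Γ i) : ℚ) =
        (a i₀ : ℚ) / (Models.mult R X (Γ i₀) : ℚ)} := by
      rw [hS]
      trivial
    have hi' : (a i : ℚ) / (Models.mult R X (Γ i) : ℚ) =
        (a i₀ : ℚ) / (Models.mult R X (Γ i₀) : ℚ) := hi
    rw [← hi']
    have hmq : (Models.mult R X (Γ i) : ℚ) ≠ 0 := by exact_mod_cast mpos i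
    exact (div_mul_cancel₀ _ hmq).symm
  · rintro ⟨c, hc⟩ i
    have h2 : ∑ l, ((Models.mult R X (Γ l) : ℚ) * (ArSurf.inter R X (L l) (Γ i) : ℚ)) = 0 := by
      have := congrArg (fun z : ℤ => (z : ℚ)) (hzero i)
      push_cast at this
      exact this
    have h : ((∑ j, a j * ArSurf.inter R X (L j) (Γ i) : ℤ) : ℚ) = 0 := by
      push_cast
      have h1 : ∑ j, (a j : ℚ) * (ArSurf.inter R X (L j) (Γ i) : ℚ) =
          c * ∑ l, ((Models.mult R X (Γ l) : ℚ) * (ArSurf.inter R X (L l) (Γ i) : ℚ)) := by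
        rw [Finset.mul_sum]
        apply Finset.sum_congr rfl
        intro j _
        rw [hc j]
        ring
      rw [h1, h2, mul_zero]
    exact_mod_cast h

end Kernel

end Groth.Agent.Helper1.SpFib
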