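import Mathlib
import Groth.Agent.Lib.Helper1.SpFib4

/-!
# The components of the closed fibre of a regular scheme over a discrete valuation ring are
effective Cartier divisors (helper1)
-/

set_option autoImplicit false
set_option backward.isDefEq.respectTransparency.types false
universe u
open CategoryTheory CategoryTheory.Limits AlgebraicGeometry TopologicalSpace Opposite IsLocalRing

namespace Groth.Agent.Helper1.SpFib

open Groth.Agent.Helper1.QcCech

/-- a factor of a principal ideal sheaf generated by a nonzerodivisor is effective Cartier -/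
theorem isEffCartier_of_mul_eq_principal {X : Scheme.{u}} (I J K : X.IdealSheafData)
    (hIJ : I * J = K) (f : ∀ U : X.Opens, Γ(X, U))
    (hres : ∀ (U V : X.Opens) (h : V ≤ U), resR h (f U) = f V)
    (hK : ∀ U : X.affineOpens, K.ideal U = Ideal.span {f U.1})
    (hnz : ∀ U : X.affineOpens, f U.1 ∈ nonZeroDivisors Γ(X, U.1)) :
    BlowUp.IsEffCartierIdeal I := by
  intro x
  obtain ⟨_, ⟨W, hW, rfl⟩, hxW, -⟩ := X.isBasis_affineOpens.exists_subset_of_mem_open
    (show x ∈ ((⊤ : X.Opens) : Set X) from trivial) (⊤ : X.Opens).2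
  have hmul : ∀ U : X.affineOpens, I.ideal U * J.ideal U = Ideal.span {f U.1} := by
    intro U
    rw [← hK U, ← hIJ]
    rfl
  let T : Set Γ(X, W) :=
    {c | ∃ a ∈ I.ideal ⟨W, hW⟩, ∃ b ∈ J.ideal ⟨W, hW⟩, a * b = c * f W}
  have hT : Ideal.span T = ⊤ := by
    have hle : I.ideal ⟨W, hW⟩ * J.ideal ⟨W, hW⟩ ≤ Ideal.span T * Ideal.span {f W} := by
      rw [Ideal.mul_le]
      intro a ha b hb
      have hab : a * b ∈ Ideal.span {f W} := by
        rw [← hmul ⟨W, hW⟩]
        exact Ideal.mul_mem_mul ha hb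
      obtain ⟨c, hc⟩ := Ideal.mem_span_singleton'.1 hab
      rw [← hc]
      exact Ideal.mul_mem_mul (Ideal.subset_span ⟨a, ha, b, hb, hc.symm⟩)
        (Ideal.mem_span_singleton_self _)
    have hf : f W ∈ Ideal.span T * Ideal.span {f W} :=
      hle (by rw [hmul ⟨W, hW⟩]; exact Ideal.mem_span_singleton_self _)
    obtain ⟨t, ht, htf⟩ := Ideal.mem_mul_span_singleton.1 hf
    have ht1 : t = 1 :=
      (mul_cancel_right_mem_nonZeroDivisors (hnz ⟨W, hW⟩)).1 (by rw [htf, one_mul])
    rw [Ideal.eq_top_iff_one, ← ht1]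
    exact ht
  obtain ⟨c, hcT, hxc⟩ : ∃ c ∈ T, x ∈ X.basicOpen c := by
    by_contra hno
    push Not at hno
    have hle : Ideal.span T ≤ pt ⟨W, hW⟩ x hxW := by
      rw [Ideal.span_le]
      intro c hc
      exact (mem_pt_iff ⟨W, hW⟩ x hxW c).2 (hno c hc)
    rw [hT] at hle
    exact (pt_isPrime ⟨W, hW⟩ x hxW).ne_top (top_le_iff.1 hle)
  obtain ⟨a, ha, b, hb, hab⟩ := hcT
  have hU'W : X.basicOpen c ≤ W := X.basicOpen_le c
  have hle' : (⟨X.basicOpen c, hW.basicOpen c⟩ : X.affineOpens) ≤ (⟨W, hW⟩ : X.affineOpens) :=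
    hU'W
  have ha' : resR hU'W a ∈ I.ideal ⟨X.basicOpen c, hW.basicOpen c⟩ :=
    I.ideal_le_comap_ideal hle' ha
  have hb' : resR hU'W b ∈ J.ideal ⟨X.basicOpen c, hW.basicOpen c⟩ :=
    J.ideal_le_comap_ideal hle' hb
  have hc' : IsUnit (resR hU'W c) := X.toRingedSpace.isUnit_res_basicOpen c
  have hab' : resR hU'W a * resR hU'W b = resR hU'W c * f (X.basicOpen c) := by
    rw [← hres W (X.basicOpen c) hU'W, ← map_mul, ← map_mul, hab]
  have hfnz := hnz ⟨X.basicOpen c, hW.basicOpen c⟩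
  refine ⟨⟨X.basicOpen c, hW.basicOpen c⟩, hxc, resR hU'W a, ?_, ?_⟩
  · rw [mem_nonZeroDivisors_iff_right]
    intro y hy
    have h1 : (y * resR hU'W c) * f (X.basicOpen c) = 0 := by
      rw [mul_assoc, ← hab', ← mul_assoc, hy, zero_mul]
    have h2 : y * resR hU'W c = 0 := (mul_right_mem_nonZeroDivisors_eq_zero_iff hfnz).1 h1
    exact (hc'.mul_left_eq_zero).1 h2
  · apply le_antisymm
    · intro y hy
      have hyb : y * resR hU'W b ∈ Ideal.span {f (X.basicOpen c)} := by
        rw [← hmul ⟨X.basicOpen c, hW.basicOpen c⟩]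
        exact Ideal.mul_mem_mul hy hb'
      obtain ⟨d, hd⟩ := Ideal.mem_span_singleton'.1 hyb
      have h1 : (y * resR hU'W c) * f (X.basicOpen c) =
          (resR hU'W a * d) * f (X.basicOpen c) := by
        rw [mul_assoc, ← hab']
        calc y * (resR hU'W a * resR hU'W b) = resR hU'W a * (y * resR hU'W b) := by ring
          _ = resR hU'W a * (d * f (X.basicOpen c)) := by rw [hd]
          _ = resR hU'W a * d * f (X.basicOpen c) := by ring
      have h2 : y * resR hU'W c = resR hU'W a * d :=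
        (mul_cancel_right_mem_nonZeroDivisors hfnz).1 h1
      obtain ⟨u, hu⟩ := hc'
      rw [Ideal.mem_span_singleton']
      refine ⟨d * ↑u⁻¹, ?_⟩
      have h3 : y = resR hU'W a * d * ↑u⁻¹ := by
        rw [← h2, ← hu, mul_assoc, Units.mul_inv, mul_one]
      rw [h3]
      ring
    · rw [Ideal.span_singleton_le_iff_mem]
      exact ha'

section Comp

variable (R : Type u) [CommRing R] [IsDomain R] [IsDiscreteValuationRing R]
  (X : Over (Spec (CommRingCat.of R)))

/-- **the components of the closed fibre of a regular flat scheme are effective Cartier** -/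
theorem isEffCartier_component
    (hreg : ∀ x : X.left, IsRegularLocalRing (X.left.presheaf.stalk x))
    [Flat X.hom] {n : ℕ} (Γ : Fin n → ArSurf.VertComp R X)
    (hinj : Function.Injective fun i => Set.range (Γ i).ι.base)
    (hcov : ∀ x : X.left, X.hom.base x = closedPoint R → ∃ i, x ∈ Set.range (Γ i).ι.base)
    (i : Fin n) : BlowUp.IsEffCartierIdeal (Γ i).ι.ker := by
  classical
  obtain ⟨ϖ, hϖ⟩ := IsDiscreteValuationRing.exists_irreducible R
  have hm := mult_ne_zero R X hreg Γ hinj hcov i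
  have hfac := specialFibreIdeal_eq_prod R X hreg Γ hinj hcov
  obtain ⟨k, hk⟩ : ∃ k, Models.mult R X (Γ i) = k + 1 := Nat.exists_eq_succ_of_ne_zero hm
  have h1 : ∏ j, (Γ j).ι.ker ^ Models.mult R X (Γ j) =
      (Γ i).ι.ker ^ Models.mult R X (Γ i) *
        ∏ j ∈ Finset.univ.erase i, (Γ j).ι.ker ^ Models.mult R X (Γ j) :=
    (Finset.mul_prod_erase Finset.univ (fun j => (Γ j).ι.ker ^ Models.mult R X (Γ j))
      (Finset.mem_univ i)).symm
  have hIJ : (Γ i).ι.ker * ((Γ i).ι.ker ^ k *
      ∏ j ∈ Finset.univ.erase i, (Γ j).ι.ker ^ Models.mult R X (Γ j)) =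
      Models.specialFibreIdeal R X := by
    rw [hfac, h1, hk, pow_succ', mul_assoc]
  exact isEffCartier_of_mul_eq_principal _ _ _ hIJ (fun U => sec R X ϖ U)
    (fun U V h => resR_resR _ _ _) (fun U => specialFibreIdeal_ideal R X ϖ hϖ U)
    (fun U => sec_mem_nonZeroDivisors R X ϖ hϖ.ne_zero U)

end Comp

end Groth.Agent.Helper1.SpFib
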