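import Mathlib

/-!
# The elementary analysis in Kleiman's theorem (helper1)
-/

set_option autoImplicit false

namespace Groth.Agent.Helper1.Kleiman

open Finset

/-- the real analysis in Kleiman's theorem: if a form `Σ C(d+1,m) c_m q^m p^(d+1-m)` with
`c_0 > 0`, `c_m ≥ 0` for `m ≤ d` has the property that its positivity at `(p, q)` forces the
nonnegativity of the derived form `Σ C(d,m) c_(m+1) q^m p^(d-m)`, then `c_(d+1) ≥ 0` -/
theorem kleiman_analysis (d : ℕ) (c : ℕ → ℤ) (h0 : 0 < c 0) (hc : ∀ m, m < d + 1 → 0 ≤ c m)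
    (H : ∀ p q : ℕ, 0 < p → 0 < q →
      0 < ∑ m ∈ range (d + 2),
        ((d + 1).choose m : ℤ) * (q : ℤ) ^ m * (p : ℤ) ^ (d + 1 - m) * c m →
      0 ≤ ∑ m ∈ range (d + 1), (d.choose m : ℤ) * (q : ℤ) ^ m * (p : ℤ) ^ (d - m) * c (m + 1)) :
    0 ≤ c (d + 1) := by
  by_contra hneg
  push_neg at hneg
  have hneg' : (c (d + 1) : ℝ) ≤ -1 := by
    have : c (d + 1) ≤ -1 := by omega
    exact_mod_cast this
  -- the real functions
  set g : ℝ → ℝ := fun t => ∑ m ∈ range (d + 1), (d.choose m : ℝ) * (c (m + 1) : ℝ) * t ^ m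
    with hg
  set r : ℝ → ℝ := fun t => ∑ m ∈ range (d + 1), (d.choose m : ℝ) * (c m : ℝ) * t ^ m with hr
  set f : ℝ → ℝ := fun t => ∑ m ∈ range (d + 2), ((d + 1).choose m : ℝ) * (c m : ℝ) * t ^ m
    with hf
  have hgc : Continuous g := by
    rw [hg]
    exact continuous_finset_sum _ fun m _ => continuous_const.mul (continuous_pow m)
  have hfc : Continuous f := by
    rw [hf]
    exact continuous_finset_sum _ fun m _ => continuous_const.mul (continuous_pow m)
  -- Pascal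
  have hid : ∀ t : ℝ, f t = t * g t + r t := by
    intro t
    simp only [hf, hg, hr]
    rw [sum_range_succ' (fun m => ((d + 1).choose m : ℝ) * (c m : ℝ) * t ^ m) (d + 1),
      sum_range_succ' (fun m => (d.choose m : ℝ) * (c m : ℝ) * t ^ m) d, mul_sum]
    have h1 : ∀ m ∈ range (d + 1), ((d + 1).choose (m + 1) : ℝ) * (c (m + 1) : ℝ) * t ^ (m + 1) =
        t * ((d.choose m : ℝ) * (c (m + 1) : ℝ) * t ^ m) +
          (d.choose (m + 1) : ℝ) * (c (m + 1) : ℝ) * t ^ (m + 1) := by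
      intro m _
      rw [Nat.choose_succ_succ]
      push_cast
      ring
    rw [sum_congr rfl h1, sum_add_distrib,
      sum_range_succ (fun m => (d.choose (m + 1) : ℝ) * (c (m + 1) : ℝ) * t ^ (m + 1)) d,
      Nat.choose_succ_self]
    simp only [Nat.choose_zero_right, Nat.cast_one, Nat.cast_zero, pow_zero, one_mul, mul_one,
      zero_mul, add_zero]
    ring
  -- `r ≥ c 0` on the nonnegative reals
  have hrpos : ∀ t : ℝ, 0 ≤ t → (c 0 : ℝ) ≤ r t := by
    intro t ht
    simp only [hr]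
    rw [sum_range_succ' (fun m => (d.choose m : ℝ) * (c m : ℝ) * t ^ m) d]
    simp only [Nat.choose_zero_right, Nat.cast_one, pow_zero, one_mul, mul_one]
    have : 0 ≤ ∑ m ∈ range d, (d.choose (m + 1) : ℝ) * (c (m + 1) : ℝ) * t ^ (m + 1) := by
      refine sum_nonneg fun m hm => ?_
      have hm' : m + 1 < d + 1 := by have := mem_range.1 hm; omega
      have h1 : (0 : ℝ) ≤ (c (m + 1) : ℝ) := by exact_mod_cast hc (m + 1) hm'
      positivity
    linarith
  -- the hypothesis in terms of `f` and `g`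
  have hstar : ∀ p q : ℕ, 0 < p → 0 < q → 0 < f ((q : ℝ) / (p : ℝ)) →
      0 ≤ g ((q : ℝ) / (p : ℝ)) := by
    intro p q hp hq hfpos
    have hpR : (0 : ℝ) < (p : ℝ) := by exact_mod_cast hp
    have hP : ((∑ m ∈ range (d + 2),
        ((d + 1).choose m : ℤ) * (q : ℤ) ^ m * (p : ℤ) ^ (d + 1 - m) * c m : ℤ) : ℝ) =
        (p : ℝ) ^ (d + 1) * f ((q : ℝ) / (p : ℝ)) := by
      simp only [hf]
      rw [mul_sum]
      push_cast
      refine sum_congr rfl fun m hm => ?_
      have hm' : m ≤ d + 1 := by have := mem_range.1 hm; omega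
      have h2 : (p : ℝ) ^ (d + 1) = (p : ℝ) ^ (d + 1 - m) * (p : ℝ) ^ m := by
        rw [← pow_add, Nat.sub_add_cancel hm']
      rw [h2, div_pow]
      field_simp
    have hQ : ((∑ m ∈ range (d + 1),
        (d.choose m : ℤ) * (q : ℤ) ^ m * (p : ℤ) ^ (d - m) * c (m + 1) : ℤ) : ℝ) =
        (p : ℝ) ^ d * g ((q : ℝ) / (p : ℝ)) := by
      simp only [hg]
      rw [mul_sum]
      push_cast
      refine sum_congr rfl fun m hm => ?_
      have hm' : m ≤ d := by have := mem_range.1 hm; omega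
      have h2 : (p : ℝ) ^ d = (p : ℝ) ^ (d - m) * (p : ℝ) ^ m := by
        rw [← pow_add, Nat.sub_add_cancel hm']
      rw [h2, div_pow]
      field_simp
    have h3 : (0 : ℝ) < ((∑ m ∈ range (d + 2),
        ((d + 1).choose m : ℤ) * (q : ℤ) ^ m * (p : ℤ) ^ (d + 1 - m) * c m : ℤ) : ℝ) := by
      rw [hP]
      positivity
    have h4 := H p q hp hq (by exact_mod_cast h3)
    have h5 : (0 : ℝ) ≤ (p : ℝ) ^ d * g ((q : ℝ) / (p : ℝ)) := by
      rw [← hQ]
      exact_mod_cast h4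
    exact nonneg_of_mul_nonneg_right h5 (by positivity)
  -- a point where `t * g t < 0`
  set B : ℝ := ∑ m ∈ range d, (d.choose m : ℝ) * (c (m + 1) : ℝ) with hB
  have hBnn : 0 ≤ B := by
    rw [hB]
    refine sum_nonneg fun m hm => ?_
    have hm' : m + 1 < d + 1 := by have := mem_range.1 hm; omega
    have h1 : (0 : ℝ) ≤ (c (m + 1) : ℝ) := by exact_mod_cast hc (m + 1) hm'
    positivity
  set t₁ : ℝ := B + 1 with ht₁
  have ht₁1 : (1 : ℝ) ≤ t₁ := by rw [ht₁]; linarith
  have ht₁0 : (0 : ℝ) < t₁ := by linarith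
  have hk1 : t₁ * g t₁ < 0 := by
    simp only [hg]
    rw [sum_range_succ, Nat.choose_self, Nat.cast_one, one_mul, mul_add, mul_sum]
    have h1 : ∑ m ∈ range d, t₁ * ((d.choose m : ℝ) * (c (m + 1) : ℝ) * t₁ ^ m) ≤ B * t₁ ^ d := by
      rw [hB, sum_mul]
      refine sum_le_sum fun m hm => ?_
      have hm' : m + 1 ≤ d := by have := mem_range.1 hm; omega
      have hm'' : m + 1 < d + 1 := by omega
      have h2 : (0 : ℝ) ≤ (c (m + 1) : ℝ) := by exact_mod_cast hc (m + 1) hm''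
      have h3 : t₁ ^ (m + 1) ≤ t₁ ^ d := pow_le_pow_right₀ ht₁1 hm'
      have h4 : t₁ * ((d.choose m : ℝ) * (c (m + 1) : ℝ) * t₁ ^ m) =
          (d.choose m : ℝ) * (c (m + 1) : ℝ) * t₁ ^ (m + 1) := by ring
      rw [h4]
      exact mul_le_mul_of_nonneg_left h3 (by positivity)
    have h5 : t₁ * ((c (d + 1) : ℝ) * t₁ ^ d) ≤ -(t₁ * t₁ ^ d) := by
      have h6 : (0 : ℝ) < t₁ * t₁ ^ d := by positivity
      nlinarith
    have h7 : B * t₁ ^ d < t₁ * t₁ ^ d := by
      have h8 : (0 : ℝ) < t₁ ^ d := by positivity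
      have h9 : B < t₁ := by rw [ht₁]; linarith
      exact mul_lt_mul_of_pos_right h9 h8
    linarith
  -- the intermediate value
  set kf : ℝ → ℝ := fun t => t * g t with hkf
  have hkc : Continuous kf := continuous_id.mul hgc
  have hc0 : (0 : ℝ) < (c 0 : ℝ) := by exact_mod_cast h0
  set M : ℝ := max (kf t₁) (-(c 0 : ℝ)) with hM
  have hMneg : M < 0 := max_lt hk1 (by linarith)
  set v : ℝ := M / 2 with hv
  have hv1 : kf t₁ ≤ v := by
    have := le_max_left (kf t₁) (-(c 0 : ℝ))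
    rw [hv]
    linarith
  have hv2 : v < 0 := by rw [hv]; linarith
  have hv3 : -(c 0 : ℝ) < v := by
    have := le_max_right (kf t₁) (-(c 0 : ℝ))
    rw [hv]
    linarith
  have hk0 : kf 0 = 0 := by simp [hkf]
  have hivt := intermediate_value_Icc' ht₁0.le hkc.continuousOn
  have hvmem : v ∈ Set.Icc (kf t₁) (kf 0) := ⟨hv1, by rw [hk0]; exact hv2.le⟩
  obtain ⟨t, ⟨ht0, _⟩, htv⟩ := hivt hvmem
  have htne : t ≠ 0 := by
    rintro rfl
    rw [hk0] at htv
    linarith
  have htpos : 0 < t := lt_of_le_of_ne ht0 (Ne.symm htne)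
  have hgt : g t < 0 := by
    have h1 : t * g t < 0 := by
      have : kf t = t * g t := rfl
      rw [← this, htv]
      exact hv2
    exact neg_of_mul_neg_right h1 htpos.le
  have hft : 0 < f t := by
    rw [hid t]
    have h1 : t * g t = v := htv
    have h2 := hrpos t htpos.le
    linarith
  -- an open set of such points, hence a rational one
  have hUo : IsOpen {s : ℝ | 0 < s ∧ g s < 0 ∧ 0 < f s} := by
    have h1 : IsOpen {s : ℝ | 0 < s} := isOpen_lt continuous_const continuous_id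
    have h2 : IsOpen {s : ℝ | g s < 0} := isOpen_lt hgc continuous_const
    have h3 : IsOpen {s : ℝ | 0 < f s} := isOpen_lt continuous_const hfc
    exact h1.inter (h2.inter h3)
  obtain ⟨ρ, hρ0, hρg, hρf⟩ := Rat.denseRange_cast.exists_mem_open hUo ⟨t, htpos, hgt, hft⟩
  have hρpos : 0 < ρ := by exact_mod_cast hρ0
  have hnum : 0 < ρ.num := Rat.num_pos.2 hρpos
  have hcast : (ρ : ℝ) = ((ρ.num.toNat : ℕ) : ℝ) / ((ρ.den : ℕ) : ℝ) := by
    have h1 : ((ρ.num.toNat : ℕ) : ℤ) = ρ.num := Int.toNat_of_nonneg hnum.le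
    have h2 : ((ρ.num.toNat : ℕ) : ℝ) = (ρ.num : ℝ) := by exact_mod_cast h1
    rw [h2]
    exact Rat.cast_def ρ
  rw [hcast] at hρg hρf
  have hq : 0 < ρ.num.toNat := by omega
  have := hstar ρ.den ρ.num.toNat ρ.den_pos hq hρf
  linarith

end Groth.Agent.Helper1.Kleiman
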