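import Mathlib
import Groth.Agent.Lib.Helper1.SnapPos1
import Groth.Agent.Lib.Helper1.SnapCart1

/-!
# Leading coefficients as iterated differences; transfer to closed subschemes (helper1)
-/

set_option autoImplicit false
universe u
open CategoryTheory CategoryTheory.Limits AlgebraicGeometry TopologicalSpace Opposite

namespace Groth.Agent.Helper1.SnapPos

open Groth.Agent.Helper1 Groth.Agent.Helper1.Euler Groth.Agent.Helper1.Dv
open Groth.Agent.Helper1.FinLen Groth.Agent.Helper1.TwForm Groth.Agent.Helper1.Curve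
open Groth.Agent.Helper1.Snap

section Diff

variable (k : Type u) [Field k] (X : Scheme.{u}) [X.Over (Spec (CommRingCat.of k))]
  [IsProper (X ↘ (Spec (CommRingCat.of k)))] [IsNoetherian X]

/-- the function `n ↦ χ(T^n y)` -/
noncomputable def gfun (L : X.Modules) (hL : PicF.IsInvertible L) (y : KZero.K0sub (PC X)) :
    ℕ → ℤ :=
  fun n => eulerHom k X (((T L hL) ^ n) y)

theorem gfun_sub_one (L : X.Modules) (hL : PicF.IsInvertible L) (y : KZero.K0sub (PC X)) :
    gfun k X L hL ((T L hL - 1) y) = fwdDiff (1 : ℕ) (gfun k X L hL y) := by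
  funext n
  change eulerHom k X (((T L hL) ^ n) (T L hL y - y)) =
    eulerHom k X (((T L hL) ^ (n + 1)) y) - eulerHom k X (((T L hL) ^ n) y)
  rw [map_sub, map_sub, pow_succ]
  rfl

theorem gfun_pow_sub_one (L : X.Modules) (hL : PicF.IsInvertible L) :
    ∀ (d : ℕ) (y : KZero.K0sub (PC X)),
      gfun k X L hL (((T L hL - 1) ^ d) y) = (fwdDiff (1 : ℕ))^[d] (gfun k X L hL y)
  | 0, _ => rfl
  | d + 1, y => by
    rw [pow_succ]
    change gfun k X L hL (((T L hL - 1) ^ d) ((T L hL - 1) y)) = _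
    rw [gfun_pow_sub_one L hL d, gfun_sub_one, Function.iterate_succ_apply]

theorem lam_eq_diff (L : X.Modules) (hL : PicF.IsInvertible L) (d : ℕ)
    (y : KZero.K0sub (PC X)) :
    lam k X L hL d y = ((fwdDiff (1 : ℕ))^[d] (gfun k X L hL y)) 0 := by
  rw [← gfun_pow_sub_one]
  rfl

theorem gfun_clSub (L : X.Modules) (hL : PicF.IsInvertible L) (M : X.Modules)
    (hM : Coh.IsCoh M) (n : ℕ) :
    gfun k X L hL (KZero.clSub (PC X) M) n =
      Curv2.euler k X (CohB1.tensorMod M (CohB1.tensorPow L n)) := by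
  unfold gfun
  rw [← clSub_tensor_tensorPow L hL M hM n, eulerHom_clSub k X _
    (isCoh_tensor _ _ hM (InvQc.isCoh_of_isInvertible _ (isInvertible_tensorPow hL n)))]

end Diff

section Transfer

variable (k : Type u) [Field k] (X : Scheme.{u}) [X.Over (Spec (CommRingCat.of k))]
  [IsProper (X ↘ (Spec (CommRingCat.of k)))] [IsNoetherian X]
  (Z : Scheme.{u}) [Z.Over (Spec (CommRingCat.of k))]
  [IsProper (Z ↘ (Spec (CommRingCat.of k)))] [IsNoetherian Z]

theorem lam_eq_of_gfun_eq (L : X.Modules) (hL : PicF.IsInvertible L) (L' : Z.Modules)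
    (hL' : PicF.IsInvertible L') (y : KZero.K0sub (PC X)) (y' : KZero.K0sub (PC Z))
    (h : ∀ n, gfun k X L hL y n = gfun k Z L' hL' y' n) (d : ℕ) :
    lam k X L hL d y = lam k Z L' hL' d y' := by
  rw [lam_eq_diff, lam_eq_diff, show gfun k X L hL y = gfun k Z L' hL' y' from funext h]

end Transfer

end Groth.Agent.Helper1.SnapPos
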