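import Mathlib
import Groth.Agent.Lib.Helper1.FinLen6

/-!
# Points of codimension one in an irreducible sober space (helper1)
-/

set_option autoImplicit false
open TopologicalSpace Topology Set

namespace Groth.Agent.Helper1.SnapPos

theorem le_of_add_one_le_succ (x : WithBot ℕ∞) (e : ℕ)
    (h : x + 1 ≤ ((e + 1 : ℕ) : WithBot ℕ∞)) : x ≤ ((e : ℕ) : WithBot ℕ∞) := by
  induction x with
  | bot => exact bot_le
  | coe m =>
    induction m with
    | top =>
      exfalso
      have : ((⊤ : ℕ∞) : WithBot ℕ∞) + 1 = ((⊤ : ℕ∞) : WithBot ℕ∞) := by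
        rw [← WithBot.coe_one, ← WithBot.coe_add, top_add]
      rw [this] at h
      have h' : ((⊤ : ℕ∞) : WithBot ℕ∞) ≤ (((e + 1 : ℕ) : ℕ∞) : WithBot ℕ∞) := by exact_mod_cast h
      have h'' : (⊤ : ℕ∞) ≤ ((e + 1 : ℕ) : ℕ∞) := WithBot.coe_le_coe.1 h'
      simp at h''
    | coe n =>
      have h' : ((n + 1 : ℕ) : WithBot ℕ∞) ≤ ((e + 1 : ℕ) : WithBot ℕ∞) := by exact_mod_cast h
      have h'' : n + 1 ≤ e + 1 := by exact_mod_cast h'
      have : n ≤ e := by omega
      exact_mod_cast this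

/-- the members of a chain of irreducible closed subsets have increasing dimension -/
theorem le_dim_of_chain {T : Type*} [TopologicalSpace T] (p : LTSeries (IrreducibleCloseds T)) :
    ∀ (i : ℕ) (hi : i < p.length + 1),
      ((i : ℕ) : WithBot ℕ∞) ≤ topologicalKrullDim ↥((p ⟨i, hi⟩ : IrreducibleCloseds T) : Set T) := by
  intro i
  induction i with
  | zero =>
    intro hi
    haveI : IrreducibleSpace ↥((p ⟨0, hi⟩ : IrreducibleCloseds T) : Set T) :=
      (isIrreducible_iff_irreducibleSpace).1 (p ⟨0, hi⟩).isIrreducible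
    haveI : Nonempty (IrreducibleCloseds ↥((p ⟨0, hi⟩ : IrreducibleCloseds T) : Set T)) :=
      ⟨⟨univ, IrreducibleSpace.isIrreducible_univ _, isClosed_univ⟩⟩
    unfold topologicalKrullDim
    exact_mod_cast Order.krullDim_nonneg
  | succ i ih =>
    intro hi
    have hi' : i < p.length + 1 := by omega
    have hlt : p ⟨i, hi'⟩ < p ⟨i + 1, hi⟩ := p.strictMono (by
      rw [Fin.lt_def]
      exact Nat.lt_succ_self i)
    have hss : ((p ⟨i, hi'⟩ : IrreducibleCloseds T) : Set T) ⊂
        ((p ⟨i + 1, hi⟩ : IrreducibleCloseds T) : Set T) := hlt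
    have h1 := FinLen.krullDim_add_one_le_of_ssubset (p ⟨i, hi'⟩).isIrreducible
      (p ⟨i, hi'⟩).isClosed (p ⟨i + 1, hi⟩).isIrreducible hss
    have h2 : ((i : ℕ) : WithBot ℕ∞) + 1 ≤
        topologicalKrullDim ↥((p ⟨i, hi'⟩ : IrreducibleCloseds T) : Set T) + 1 :=
      add_le_add_left (ih hi') 1
    have h3 : (((i + 1 : ℕ)) : WithBot ℕ∞) = ((i : ℕ) : WithBot ℕ∞) + 1 := by push_cast; rfl
    rw [h3]
    exact h2.trans h1

/-- a quasi-sober space of dimension `e + 1` has a point whose closure has dimension `e` -/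
theorem exists_point_dim_eq {T : Type*} [TopologicalSpace T] [QuasiSober T] (e : ℕ)
    (h : topologicalKrullDim T = ((e + 1 : ℕ) : WithBot ℕ∞)) :
    ∃ ξ : T, topologicalKrullDim ↥(closure ({ξ} : Set T)) = ((e : ℕ) : WithBot ℕ∞) := by
  have h1 : ((e + 1 : ℕ) : WithBot ℕ∞) ≤ Order.krullDim (IrreducibleCloseds T) := h.ge
  obtain ⟨p, hp⟩ := Order.le_krullDim_iff.1 h1
  have hi : e < p.length + 1 := by omega
  have hi' : e + 1 < p.length + 1 := by omega
  set W := p ⟨e, hi⟩ with hW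
  set W' := p ⟨e + 1, hi'⟩ with hW'
  have hlt : W < W' := p.strictMono (by
    rw [Fin.lt_def]
    exact Nat.lt_succ_self e)
  have hss : (W : Set T) ⊂ (W' : Set T) := hlt
  have hge := le_dim_of_chain p e hi
  have h2 := FinLen.krullDim_add_one_le_of_ssubset W.isIrreducible W.isClosed W'.isIrreducible hss
  have h3 : topologicalKrullDim ↥(W' : Set T) ≤ topologicalKrullDim T :=
    topologicalKrullDim_subspace_le T _
  have hle : topologicalKrullDim ↥(W : Set T) ≤ ((e : ℕ) : WithBot ℕ∞) :=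
    le_of_add_one_le_succ _ e (h2.trans (h3.trans h.le))
  obtain ⟨ξ, hξ⟩ := QuasiSober.sober W.isIrreducible W.isClosed
  refine ⟨ξ, ?_⟩
  have hcl : closure ({ξ} : Set T) = (W : Set T) := hξ.def
  rw [hcl]
  exact le_antisymm hle hge

end Groth.Agent.Helper1.SnapPos
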