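import Mathlib
import Groth.Agent.Lib.Helper1.SnapPos1
import Groth.Agent.Lib.Helper1.SnapPos2
import Groth.Agent.Lib.Helper1.SnapCart1
import Groth.Agent.Lib.Helper1.AmpleLib4
import Groth.Agent.Lib.Helper1.Curve1

/-!
# A divisor of a section of a power of an ample module through a given point (helper1)
-/

set_option autoImplicit false
universe u
open CategoryTheory CategoryTheory.Limits AlgebraicGeometry TopologicalSpace Opposite

namespace Groth.Agent.Helper1.SnapPos

open Groth.Agent.Helper1 Groth.Agent.Helper1.Euler Groth.Agent.Helper1.Dv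
open Groth.Agent.Helper1.FinLen Groth.Agent.Helper1.TwForm Groth.Agent.Helper1.Curve
open Groth.Agent.Helper1.Snap

section Supp
variable {X : Scheme.{u}}

/-- the structure sheaf is supported everywhere -/
theorem mem_support_structureModule (x : X) : x ∈ CohB1.support (Coh.structureModule X) := by
  intro hsub
  have h : (Coh.structureModule X).presheaf.germ ⊤ x trivial (one' ⊤) =
      (Coh.structureModule X).presheaf.germ ⊤ x trivial 0 := Subsingleton.elim (h := hsub) _ _
  obtain ⟨W, hxW, iU, iV, e⟩ :=
    TopCat.Presheaf.germ_eq (Coh.structureModule X).presheaf x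
      (show x ∈ (⊤ : X.Opens) from trivial) (show x ∈ (⊤ : X.Opens) from trivial) _ _ h
  rw [map_zero] at e
  have hWle : W ≤ ⊤ := le_top
  have hiU : iU = homOfLE hWle := Subsingleton.elim _ _
  rw [hiU] at e
  have e' : QcCech.res (Coh.structureModule X) hWle (one' ⊤) = 0 := e
  rw [res_one'] at e'
  have e1 : (1 : Γ(X, W)) = 0 := e'
  have : (1 : X.presheaf.stalk x) = 0 := by
    rw [← map_one (X.presheaf.germ W x hxW).hom, e1, map_zero]
  exact one_ne_zero this

end Supp

section Geo

variable (k : Type u) [Field k] (X : Scheme.{u}) [X.Over (Spec (CommRingCat.of k))]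
  [IsProper (X ↘ (Spec (CommRingCat.of k)))] [IsNoetherian X] [IsIntegral X]

include k in
theorem exists_divisor (L : X.Modules) (hL : CohB1.IsAmple L) (e : ℕ)
    (hdim : topologicalKrullDim X = ((e + 1 : ℕ) : WithBot ℕ∞)) :
    ∃ (m : ℕ) (C : X.Modules) (ξ' : X), 0 < m ∧ Coh.IsCoh C ∧
      topologicalKrullDim ↥(CohB1.support C) ≤ ((e : ℕ) : WithBot ℕ∞) ∧ ξ' ∈ CohB1.support C ∧
      topologicalKrullDim ↥(closure ({ξ'} : Set X)) = ((e : ℕ) : WithBot ℕ∞) ∧
      ((T L hL.1) ^ m - 1) (KZero.clSub (PC X) (Coh.structureModule X)) =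
        KZero.clSub (PC X) C := by
  classical
  obtain ⟨ξ', hξ'⟩ := exists_point_dim_eq e hdim
  set D := IntMult.ptIdeal ξ' with hD
  set I' := ClSub.idealMod D with hI'
  have hOc := isCoh_structureModule X
  have hI'c : Coh.IsCoh I' := CurveDual.isCoh_idealMod D
  obtain ⟨n₀, hn₀⟩ := AmpleLib.eventually_globallyGenerated hL I' hI'c
  set m := n₀ + 1 with hm
  set Lm := CohB1.tensorPow L m with hLm
  have hLmi : PicF.IsInvertible Lm := isInvertible_tensorPow hL.1 m
  have hLmc : Coh.IsCoh Lm := InvQc.isCoh_of_isInvertible _ hLmi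
  have hLmf := isFinLocFree_of_rank (isFinLocFreeOfRank_one hLmi)
  set G := CohB1.tensorMod Lm I' with hG
  have hGg : Curv2.IsGloballyGenerated G :=
    AmpleLib.isGloballyGenerated_of_iso (TildeTens.tensorModComm I' Lm) (hn₀ m (by omega))
  -- the generic point
  set η := genericPoint X with hη
  have hηξ : η ∉ closure ({ξ'} : Set X) := by
    intro hmem
    have hcl : closure ({ξ'} : Set X) = Set.univ := by
      apply Set.eq_univ_of_univ_subset
      rw [← (genericPoint_spec X).def]
      exact closure_minimal (Set.singleton_subset_iff.2 hmem) isClosed_closure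
    have hd' : topologicalKrullDim ↥(closure ({ξ'} : Set X)) = topologicalKrullDim X := by
      rw [hcl]
      exact IsHomeomorph.topologicalKrullDim_eq _ (Homeomorph.Set.univ X).isHomeomorph
    rw [hξ', hdim] at hd'
    have h3 : (((e + 1 : ℕ)) : WithBot ℕ∞) = ((e : ℕ) : WithBot ℕ∞) + 1 := by push_cast; rfl
    apply FinLen.not_coe_add_one_le e
    rw [← h3, ← hd']
  have hsuppD : (D.support : Set X) = closure {ξ'} := by
    rw [hD]
    unfold IntMult.ptIdeal
    rw [Scheme.IdealSheafData.coe_support_vanishingIdeal]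
    rfl
  have hηD : η ∉ CohB1.support (ClSub.quotMod D) := fun h =>
    hηξ (hsuppD ▸ CurveDual.support_quotMod_subset D h)
  have hηI' : η ∈ CohB1.support I' := by
    have h := support_ses (IdealModL.S D) (CurveDual.shortExact_S D)
    have hO : η ∈ CohB1.support (IdealModL.S D).X₂ := mem_support_structureModule η
    rw [h] at hO
    rcases hO with h1 | h3
    · exact h1
    · exact absurd h3 hηD
  have hηG : η ∈ CohB1.support G := by
    intro hsub
    have hlen := length_stalk_tensor (isFinLocFreeOfRank_one hLmi) I' η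
    rw [Module.length_eq_zero_iff.2 hsub, Nat.cast_one, one_mul] at hlen
    exact hηI' (Module.length_eq_zero_iff.1 hlen.symm)
  have hGnz : ¬ IsZero G := fun hz => by
    have := support_isZero hz
    rw [this] at hηG
    exact hηG
  obtain ⟨ι, p, hp⟩ := hGg
  haveI := hp
  have hpnz : p ≠ 0 := by
    intro hp0
    apply hGnz
    rw [IsZero.iff_id_eq_zero]
    exact (cancel_epi p).1 (by rw [hp0, zero_comp, zero_comp])
  obtain ⟨i, hi⟩ : ∃ i : ι, SheafOfModules.ιFree i ≫ p ≠ 0 := by
    by_contra hcon
    rw [not_exists] at hcon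
    apply hpnz
    apply Cofan.IsColimit.hom_ext (SheafOfModules.isColimitFreeCofan ι)
    intro i
    have := not_not.1 (hcon i)
    rw [SheafOfModules.freeCofan_inj]
    exact this.trans comp_zero.symm
  set σ : Coh.structureModule X ⟶ G := SheafOfModules.ιFree i ≫ p with hσ
  let S' := (IdealModL.S D).map (DCoh.tensorBi.obj Lm)
  have hS' : S'.ShortExact :=
    shortExact_tensor Lm hLmf (IdealModL.S D) (CurveDual.shortExact_S D)
  haveI : Mono S'.f := hS'.mono_f
  haveI : Epi S'.g := hS'.epi_g
  let u : CohB1.tensorMod Lm (Coh.structureModule X) ≅ Lm :=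
    Groth.Agent.Lib.Helper5.LTenFlf.tensorUnitIso Lm
  let f' : G ⟶ CohB1.tensorMod Lm (Coh.structureModule X) := S'.f
  let g' : CohB1.tensorMod Lm (Coh.structureModule X) ⟶ CohB1.tensorMod Lm (ClSub.quotMod D) :=
    S'.g
  haveI : Mono f' := inferInstanceAs (Mono S'.f)
  haveI : Epi g' := inferInstanceAs (Epi S'.g)
  have hfg : f' ≫ g' = 0 := S'.zero
  set t : Coh.structureModule X ⟶ Lm := σ ≫ f' ≫ u.hom with ht
  have htnz : t ≠ 0 := by
    intro h0
    apply hi
    have : σ ≫ (f' ≫ u.hom) = 0 ≫ (f' ≫ u.hom) := by rw [zero_comp]; exact h0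
    exact (cancel_mono (f' ≫ u.hom)).1 this
  have hOi : PicF.IsInvertible (Coh.structureModule X) := GenLoc.isInvertible_O
  haveI := mono_of_ne_zero hOi hLmi t htnz
  have hηC := genericPoint_notMem_support_cokernel hOi hLmi t htnz
  set C := cokernel t with hC
  have hCc : Coh.IsCoh C := FtLocal.isCoh_cokernel hOc hLmc t
  have hCd : topologicalKrullDim ↥(CohB1.support C) ≤ ((e : ℕ) : WithBot ℕ∞) := by
    have hcl : IsClosed (CohB1.support C) := FtGen.isClosed_support C hCc.2
    have hne : CohB1.support C ≠ Set.univ := fun he => hηC (he ▸ Set.mem_univ _)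
    have h1 := krullDim_add_one_le_of_ne_univ hcl hne
    rw [hdim] at h1
    exact le_of_add_one_le_succ _ e h1
  have hξ'C : ξ' ∈ CohB1.support C := by
    let q' : Lm ⟶ CohB1.tensorMod Lm (ClSub.quotMod D) := u.inv ≫ g'
    have hq' : t ≫ q' = 0 := by
      change (σ ≫ f' ≫ u.hom) ≫ (u.inv ≫ g') = 0
      simp only [Category.assoc, Iso.hom_inv_id_assoc]
      rw [hfg, comp_zero]
    haveI : Epi q' := epi_comp _ _
    let r : C ⟶ CohB1.tensorMod Lm (ClSub.quotMod D) := cokernel.desc t q' hq'
    haveI : Epi r := by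
      have : cokernel.π t ≫ r = q' := cokernel.π_desc _ _ _
      exact epi_of_epi_fac this
    apply support_epi r
    intro hsub
    have hlen := length_stalk_tensor (isFinLocFreeOfRank_one hLmi) (ClSub.quotMod D) ξ'
    rw [Module.length_eq_zero_iff.2 hsub, Nat.cast_one, one_mul] at hlen
    have hs : Subsingleton ((ClSub.quotMod D).presheaf.stalk ξ') :=
      Module.length_eq_zero_iff.1 hlen.symm
    haveI := isSimpleModule_stalk_closureStructureSheaf ξ'
    haveI : Nontrivial ((Cyc.closureStructureSheaf ξ').presheaf.stalk ξ') :=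
      IsSimpleModule.nontrivial (X.presheaf.stalk ξ') _
    exact absurd hs (not_subsingleton_iff_nontrivial.2 this)
  have hrel : KZero.clSub (PC X) Lm =
      KZero.clSub (PC X) (Coh.structureModule X) + KZero.clSub (PC X) C := by
    let S2 : ShortComplex X.Modules := ShortComplex.mk t (cokernel.π t) (cokernel.condition t)
    have hS2 : S2.ShortExact :=
      { exact := ShortComplex.exact_of_g_is_cokernel _ (cokernelIsCokernel t)
        mono_f := inferInstanceAs (Mono t)
        epi_g := inferInstanceAs (Epi (cokernel.π t)) }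
    exact clSub_ses S2 hS2 hOc hLmc hCc
  have hT : ((T L hL.1) ^ m) (KZero.clSub (PC X) (Coh.structureModule X)) =
      KZero.clSub (PC X) Lm := by
    rw [← clSub_tensor_tensorPow L hL.1 _ hOc m]
    exact (clSub_iso (M := CohB1.tensorMod (Coh.structureModule X) Lm) (N := Lm)
      (TildeTens.tensorModComm (Coh.structureModule X) Lm ≪≫ u)
      (isCoh_tensor (Coh.structureModule X) Lm hOc hLmc)).symm
  refine ⟨m, C, ξ', by omega, hCc, hCd, hξ'C, hξ', ?_⟩
  change ((T L hL.1) ^ m) (KZero.clSub (PC X) (Coh.structureModule X)) -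
    KZero.clSub (PC X) (Coh.structureModule X) = KZero.clSub (PC X) C
  rw [hT, hrel, add_sub_cancel_left]

end Geo

end Groth.Agent.Helper1.SnapPos
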