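import Mathlib
import Groth.Agent.Lib.Helper1.SnapPos3
import Groth.Agent.Lib.Helper1.SnapPos4
import Groth.Agent.Lib.Helper1.PullAmple

/-!
# Positivity of the top self-intersection number of an ample module (helper1)
-/

set_option autoImplicit false
universe u
open CategoryTheory CategoryTheory.Limits AlgebraicGeometry TopologicalSpace Opposite

namespace Groth.Agent.Helper1.SnapPos

open Groth.Agent.Helper1 Groth.Agent.Helper1.Euler Groth.Agent.Helper1.Dv
open Groth.Agent.Helper1.FinLen Groth.Agent.Helper1.TwForm Groth.Agent.Helper1.Curve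
open Groth.Agent.Helper1.Snap

variable (k : Type u) [Field k]

section Base

variable (X : Scheme.{u}) [X.Over (Spec (CommRingCat.of k))]
  [IsProper (X ↘ (Spec (CommRingCat.of k)))] [IsNoetherian X]

/-- a nonzero coherent module with zero-dimensional support has positive Euler characteristic -/
theorem euler_pos_of_dim_zero (F : X.Modules) (hF : Coh.IsCoh F)
    (hd : topologicalKrullDim ↥(CohB1.support F) ≤ 0) (hnz : ¬ IsZero F) :
    0 < Curv2.euler k X F := by
  rw [euler_eq_sum k X 1 F (fun p hp => subsingleton_HH_of_dim_le_zero F hF hd p (by omega))]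
  rw [Finset.sum_range_one, pow_zero, one_mul]
  haveI : Module.Finite k (Coh.HH X F 0) := Groth.Agent.Lib.Helper4.T2Main1.t2 k X F hF 0
  haveI : Nontrivial (Coh.HH X F 0) := by
    by_contra h
    rw [not_nontrivial_iff_subsingleton] at h
    exact hnz (isZero_of_subsingleton_HH0 k X F hF hd h)
  exact_mod_cast (Module.finrank_pos (R := k) (M := Coh.HH X F 0))

end Base

section Transfer

/-- positivity on integral schemes of dimension `e` gives positivity for the points of dimension
`e` of arbitrary proper schemes -/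
theorem pos_gen_of_int (e : ℕ)
    (ih : ∀ (Z : Scheme.{u}) [Z.Over (Spec (CommRingCat.of k))]
      [IsProper (Z ↘ (Spec (CommRingCat.of k)))] [IsNoetherian Z] [IsIntegral Z]
      (L : Z.Modules) (hL : CohB1.IsAmple L),
      topologicalKrullDim Z = ((e : ℕ) : WithBot ℕ∞) →
      0 < lam k Z L hL.1 e (KZero.clSub (PC Z) (Coh.structureModule Z)))
    (X : Scheme.{u}) [X.Over (Spec (CommRingCat.of k))]
    [IsProper (X ↘ (Spec (CommRingCat.of k)))] [IsNoetherian X]
    (L : X.Modules) (hL : CohB1.IsAmple L) (ξ : X)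
    (hξ : topologicalKrullDim ↥(closure ({ξ} : Set X)) = ((e : ℕ) : WithBot ℕ∞)) :
    0 < lam k X L hL.1 e (KZero.clSub (PC X) (Cyc.closureStructureSheaf ξ)) := by
  set I := IntMult.ptIdeal ξ with hI
  let ι := I.subschemeι
  letI : I.subscheme.Over (Spec (CommRingCat.of k)) := ⟨ι ≫ (X ↘ Spec (CommRingCat.of k))⟩
  haveI : IsProper (I.subscheme ↘ Spec (CommRingCat.of k)) := by
    change IsProper (ι ≫ (X ↘ Spec (CommRingCat.of k))); infer_instance
  haveI : IsNoetherian I.subscheme := isNoetherian_of_proper k I.subscheme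
  haveI : IsIntegral I.subscheme := isIntegral_ptIdeal_subscheme ξ
  set LZ := (Scheme.Modules.pullback ι).obj L with hLZ
  have hLZamp : CohB1.IsAmple LZ :=
    PullAmple.isAmple_pullback_of_isEmbedding ι ι.isClosedEmbedding.isEmbedding hL
  have hdimZ : topologicalKrullDim I.subscheme = ((e : ℕ) : WithBot ℕ∞) := by
    have h1 := IsHomeomorph.topologicalKrullDim_eq _
      (ι.isClosedEmbedding.isEmbedding.toHomeomorph).isHomeomorph
    rw [h1]
    have h2 : Set.range ι = closure {ξ} := range_ptIdeal_subschemeι ξ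
    rw [h2]
    exact hξ
  have hZ := ih I.subscheme LZ hLZamp hdimZ
  rw [lam_eq_of_gfun_eq k X I.subscheme L hL.1 LZ hLZamp.1
    (KZero.clSub (PC X) (Cyc.closureStructureSheaf ξ))
    (KZero.clSub (PC I.subscheme) (Coh.structureModule I.subscheme)) ?_ e]
  · exact hZ
  · intro n
    rw [gfun_clSub k X L hL.1 _ (isCoh_closureStructureSheaf ξ) n,
      gfun_clSub k I.subscheme LZ hLZamp.1 _ (isCoh_structureModule _) n]
    exact (euler_tensorPows_subscheme k X I 1 (fun _ => L) (fun _ => hL.1) (fun _ => n)).symm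

end Transfer

section Main

/-- **the top self-intersection number of an ample module on a proper integral scheme is
positive** -/
theorem pos_int (d : ℕ) : ∀ (X : Scheme.{u}) [X.Over (Spec (CommRingCat.of k))]
    [IsProper (X ↘ (Spec (CommRingCat.of k)))] [IsNoetherian X] [IsIntegral X]
    (L : X.Modules) (hL : CohB1.IsAmple L),
    topologicalKrullDim X = ((d : ℕ) : WithBot ℕ∞) →
    0 < lam k X L hL.1 d (KZero.clSub (PC X) (Coh.structureModule X)) := by
  induction d with
  | zero =>
    intro X _ _ _ _ L hL hdim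
    rw [lam_apply, pow_zero]
    change 0 < eulerHom k X (KZero.clSub (PC X) (Coh.structureModule X))
    rw [eulerHom_clSub k X _ (isCoh_structureModule X)]
    apply euler_pos_of_dim_zero k X _ (isCoh_structureModule X)
    · have h := (topologicalKrullDim_subspace_le X
        (CohB1.support (Coh.structureModule X))).trans hdim.le
      exact_mod_cast h
    · intro hz
      have h1 := support_isZero hz
      have hη := mem_support_structureModule (genericPoint X)
      rw [h1] at hη
      exact hη
  | succ e ih =>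
    intro X _ _ _ _ L hL hdim
    obtain ⟨m, C, ξ', hm, hCc, hCd, hξ'C, hξ', hrel⟩ := exists_divisor k X L hL e hdim
    have hOmem : KZero.clSub (PC X) (Coh.structureModule X) ∈ FilLT X (e + 2) :=
      clSub_mem_FilLT (e + 1) _ (isCoh_structureModule X)
        ((topologicalKrullDim_subspace_le X _).trans hdim.le)
    have hgeom := lam_geom k X L hL.1 e m _ hOmem
    rw [hrel] at hgeom
    have hpos : 0 < lam k X L hL.1 e (KZero.clSub (PC X) C) := by
      apply lam_pos_of_cycle k X L hL.1 C hCc e hCd ?_ ξ' hξ'C hξ'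
      intro ξ hξ
      exact pos_gen_of_int k e ih X L hL ξ hξ
    rw [hgeom] at hpos
    exact (mul_pos_iff_of_pos_left (by exact_mod_cast hm)).1 hpos

/-- positivity for the points of dimension `d` -/
theorem pos_gen (d : ℕ) (X : Scheme.{u}) [X.Over (Spec (CommRingCat.of k))]
    [IsProper (X ↘ (Spec (CommRingCat.of k)))] [IsNoetherian X]
    (L : X.Modules) (hL : CohB1.IsAmple L) (ξ : X)
    (hξ : topologicalKrullDim ↥(closure ({ξ} : Set X)) = ((d : ℕ) : WithBot ℕ∞)) :
    0 < lam k X L hL.1 d (KZero.clSub (PC X) (Cyc.closureStructureSheaf ξ)) :=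
  pos_gen_of_int k d (pos_int k d) X L hL ξ hξ

/-- positivity of the leading coefficient for coherent modules -/
theorem pos_coh (d : ℕ) (X : Scheme.{u}) [X.Over (Spec (CommRingCat.of k))]
    [IsProper (X ↘ (Spec (CommRingCat.of k)))] [IsNoetherian X]
    (L : X.Modules) (hL : CohB1.IsAmple L) (F : X.Modules) (hF : Coh.IsCoh F)
    (hd : topologicalKrullDim ↥(CohB1.support F) ≤ d) (ξ₀ : X) (hξ₀ : ξ₀ ∈ CohB1.support F)
    (hξ₀d : topologicalKrullDim (closure ({ξ₀} : Set X)) = (d : WithBot ℕ∞)) :
    0 < lam k X L hL.1 d (KZero.clSub (PC X) F) :=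
  lam_pos_of_cycle k X L hL.1 F hF d hd (fun ξ hξ => pos_gen k d X L hL ξ hξ) ξ₀ hξ₀ hξ₀d

end Main

end Groth.Agent.Helper1.SnapPos
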