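import Mathlib

/-!
# Integer valued functions with vanishing iterated differences (helper1)
-/

set_option autoImplicit false
open Finset Polynomial

namespace Groth.Agent.Helper1.SnapPos

/-- a polynomial of degree at most `d` differs from its top term by `O((n+1)^(d-1))` -/
theorem poly_bound (q : ℚ[X]) (d : ℕ) (hq : q.natDegree ≤ d) :
    ∃ C : ℚ, 0 ≤ C ∧ ∀ n : ℕ,
      |q.eval (n : ℚ) - q.coeff d * (n : ℚ) ^ d| ≤ C * ((n : ℚ) + 1) ^ (d - 1) := by
  refine ⟨∑ i ∈ range d, |q.coeff i|, Finset.sum_nonneg (fun _ _ => abs_nonneg _), fun n => ?_⟩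
  rw [Polynomial.eval_eq_sum_range' (Nat.lt_succ_of_le hq), Finset.sum_range_succ,
    add_sub_cancel_right]
  have hn0 : (0 : ℚ) ≤ (n : ℚ) := Nat.cast_nonneg n
  calc |∑ i ∈ range d, q.coeff i * (n : ℚ) ^ i|
      ≤ ∑ i ∈ range d, |q.coeff i * (n : ℚ) ^ i| := Finset.abs_sum_le_sum_abs _ _
    _ ≤ ∑ i ∈ range d, |q.coeff i| * ((n : ℚ) + 1) ^ (d - 1) := by
        refine Finset.sum_le_sum (fun i hi => ?_)
        rw [abs_mul, abs_of_nonneg (pow_nonneg hn0 i)]
        apply mul_le_mul_of_nonneg_left _ (abs_nonneg _)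
        have hi' : i ≤ d - 1 := by
          have := Finset.mem_range.1 hi
          omega
        calc (n : ℚ) ^ i ≤ ((n : ℚ) + 1) ^ i := pow_le_pow_left₀ hn0 (by linarith) i
          _ ≤ ((n : ℚ) + 1) ^ (d - 1) := pow_le_pow_right₀ (by linarith) hi'
    _ = (∑ i ∈ range d, |q.coeff i|) * ((n : ℚ) + 1) ^ (d - 1) := (Finset.sum_mul _ _ _).symm

theorem sum_range_eq_of_zero (f : ℕ → ℚ) (A B : ℕ) (hAB : A ≤ B)
    (h : ∀ j, A ≤ j → f j = 0) : ∑ j ∈ range B, f j = ∑ j ∈ range A, f j := by
  symm
  apply Finset.sum_subset (Finset.range_mono hAB)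
  intro j _ hj
  apply h
  rw [Finset.mem_range, not_lt] at hj
  exact hj

/-- an integer valued function whose iterated differences at `0` vanish above `d` is a polynomial
of degree at most `d`, with top coefficient `Δ^d g (0) / d!` -/
theorem exists_poly_of_diff_zero (g : ℕ → ℤ) (d : ℕ)
    (hg : ∀ j, d < j → (fwdDiff (1 : ℕ))^[j] g 0 = 0) :
    ∃ q : ℚ[X], q.natDegree ≤ d ∧
      q.coeff d = (((fwdDiff (1 : ℕ))^[d] g 0 : ℤ) : ℚ) / (d.factorial : ℚ) ∧
      ∀ n : ℕ, q.eval (n : ℚ) = (g n : ℚ) := by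
  set a : ℕ → ℤ := fun j => (fwdDiff (1 : ℕ))^[j] g 0 with ha
  set q : ℚ[X] := ∑ j ∈ range (d + 1), C ((a j : ℚ) / (j.factorial : ℚ)) * descPochhammer ℚ j
    with hq
  refine ⟨q, ?_, ?_, ?_⟩
  · apply Polynomial.natDegree_sum_le_of_forall_le
    intro j hj
    refine (Polynomial.natDegree_C_mul_le _ _).trans ?_
    rw [descPochhammer_natDegree]
    have := Finset.mem_range.1 hj
    omega
  · rw [hq, Polynomial.finset_sum_coeff, Finset.sum_eq_single d]
    · rw [Polynomial.coeff_C_mul]
      have hm : (descPochhammer ℚ d).coeff d = 1 := by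
        have h1 := (monic_descPochhammer ℚ d).coeff_natDegree
        rwa [descPochhammer_natDegree] at h1
      rw [hm, mul_one]
    · intro j hj hjd
      rw [Polynomial.coeff_C_mul, Polynomial.coeff_eq_zero_of_natDegree_lt, mul_zero]
      rw [descPochhammer_natDegree]
      have := Finset.mem_range.1 hj
      omega
    · intro h
      exact absurd (Finset.mem_range.2 (Nat.lt_succ_self d)) h
  · intro n
    have hnewton : g n = ∑ j ∈ range (n + 1), n.choose j • a j := by
      have h := shift_eq_sum_fwdDiff_iter (1 : ℕ) g n 0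
      rw [smul_eq_mul, mul_one, zero_add] at h
      exact h
    have hev : q.eval (n : ℚ) = ∑ j ∈ range (d + 1), (a j : ℚ) * (n.choose j : ℚ) := by
      rw [hq, Polynomial.eval_finset_sum]
      refine Finset.sum_congr rfl (fun j _ => ?_)
      rw [Polynomial.eval_mul, Polynomial.eval_C, descPochhammer_eval_eq_descFactorial,
        Nat.descFactorial_eq_factorial_mul_choose]
      have hj0 : (j.factorial : ℚ) ≠ 0 := Nat.cast_ne_zero.2 (Nat.factorial_ne_zero j)
      push_cast
      field_simp
    rw [hev, hnewton]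
    push_cast
    set f : ℕ → ℚ := fun j => (a j : ℚ) * (n.choose j : ℚ) with hf
    have h1 : ∑ j ∈ range (max n d + 1), f j = ∑ j ∈ range (d + 1), f j := by
      apply sum_range_eq_of_zero f (d + 1) (max n d + 1) (by omega)
      intro j hj
      have : a j = 0 := hg j (by omega)
      rw [hf]
      simp only
      rw [this, Int.cast_zero, zero_mul]
    have h2 : ∑ j ∈ range (max n d + 1), f j = ∑ j ∈ range (n + 1), f j := by
      apply sum_range_eq_of_zero f (n + 1) (max n d + 1) (by omega)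
      intro j hj
      rw [hf]
      simp only
      rw [Nat.choose_eq_zero_of_lt (by omega), Nat.cast_zero, mul_zero]
    rw [← h1, h2]
    refine Finset.sum_congr rfl (fun j _ => ?_)
    rw [hf]
    simp only [nsmul_eq_mul]
    push_cast
    ring

end Groth.Agent.Helper1.SnapPos
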