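import Mathlib
import Groth.Agent.Lib.Helper1.SnapPos5
import Groth.Agent.Lib.Helper1.SnapPos6
import Groth.Agent.Lib.Helper1.SerreAmple1

/-!
# Asymptotic Riemann–Roch (helper1)
-/

set_option autoImplicit false
universe u
open CategoryTheory CategoryTheory.Limits AlgebraicGeometry TopologicalSpace Opposite

namespace Groth.Agent.Helper1.SnapPos

open Groth.Agent.Helper1 Groth.Agent.Helper1.Euler Groth.Agent.Helper1.Dv
open Groth.Agent.Helper1.FinLen Groth.Agent.Helper1.TwForm Groth.Agent.Helper1.Curve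
open Groth.Agent.Helper1.Snap Groth.Agent.Helper1.SnapAlg

section Top

/-- a quasi-sober space of dimension `d` has a point whose closure has dimension `d` -/
theorem exists_point_dim_top {T : Type*} [TopologicalSpace T] [QuasiSober T] (d : ℕ)
    (h : topologicalKrullDim T = ((d : ℕ) : WithBot ℕ∞)) :
    ∃ ξ : T, topologicalKrullDim ↥(closure ({ξ} : Set T)) = ((d : ℕ) : WithBot ℕ∞) := by
  have h1 : ((d : ℕ) : WithBot ℕ∞) ≤ Order.krullDim (IrreducibleCloseds T) := h.ge
  obtain ⟨p, hp⟩ := Order.le_krullDim_iff.1 h1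
  have hi : d < p.length + 1 := by omega
  set W := p ⟨d, hi⟩ with hW
  have hge := le_dim_of_chain p d hi
  have hle : topologicalKrullDim ↥(W : Set T) ≤ ((d : ℕ) : WithBot ℕ∞) :=
    (topologicalKrullDim_subspace_le T _).trans h.le
  obtain ⟨ξ, hξ⟩ := QuasiSober.sober W.isIrreducible W.isClosed
  refine ⟨ξ, ?_⟩
  have hcl : closure ({ξ} : Set T) = (W : Set T) := hξ.def
  rw [hcl]
  exact le_antisymm hle hge

end Top

section K

variable {X : Scheme.{u}} [IsNoetherian X]

theorem FilLT_mono {a b : ℕ} (hab : a ≤ b) : FilLT X a ≤ FilLT X b := by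
  unfold FilLT
  apply AddSubgroup.closure_mono
  rintro c ⟨G, hG, hd, rfl⟩
  exact ⟨G, hG, hd.trans_le (by exact_mod_cast hab), rfl⟩

theorem Tn_const (L : X.Modules) (hL : PicF.IsInvertible L) :
    ∀ (r : ℕ) (n : Fin r → ℕ), Tn r (fun _ => L) (fun _ => hL) n = (T L hL) ^ (∑ i, n i)
  | 0, n => by
    rw [Finset.univ_eq_empty, Finset.sum_empty, pow_zero]
    rfl
  | r + 1, n => by
    change (T L hL) ^ (n (Fin.last r)) * Tn r (fun _ => L) (fun _ => hL) (fun i => n i.castSucc) = _
    rw [Tn_const L hL r, Fin.sum_univ_castSucc, ← pow_add, add_comm]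

end K

section Coeff

variable (k : Type u) [Field k] (X : Scheme.{u}) [X.Over (Spec (CommRingCat.of k))]
  [IsProper (X ↘ (Spec (CommRingCat.of k)))] [IsNoetherian X]

/-- the coefficient of `n_1 ⋯ n_d` of the Snapper polynomial of `d` copies of `L` -/
theorem coeff_eq_lam (L : X.Modules) (hL : PicF.IsInvertible L) :
    ∀ (d : ℕ) (y : KZero.K0sub (PC X)) (P : MvPolynomial (Fin d) ℚ), P.totalDegree ≤ d →
      (∀ n : Fin d → ℕ, ((gfun k X L hL y (∑ i, n i) : ℤ) : ℚ) =
        MvPolynomial.eval (fun i => (n i : ℚ)) P) →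
      MvPolynomial.coeff (ones d) P = ((lam k X L hL d y : ℤ) : ℚ) := by
  intro d
  induction d with
  | zero =>
    intro y P _ hval
    have h0 : ones 0 = 0 := Finsupp.ext fun i => i.elim0
    have hv := hval (fun _ => 0)
    rw [h0]
    have h1 : MvPolynomial.eval (fun i : Fin 0 => (((fun _ => 0 : Fin 0 → ℕ) i : ℕ) : ℚ)) P =
        MvPolynomial.coeff 0 P := by
      conv_lhs => rw [P.eq_C_of_isEmpty, MvPolynomial.eval_C]
    rw [← h1, ← hv, lam_eq_diff]
    rfl
  | succ d ih =>
    intro y P hP hval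
    obtain ⟨Q, hQd, hQe, hQc⟩ := topCoeff_diff d P hP
    rw [← hQc, ih ((T L hL - 1) y) Q hQd ?_]
    · rw [lam_apply, lam_apply, pow_succ]
      rfl
    · intro n
      rw [hQe]
      have h1 := cons_cast 1 n
      have h0 := cons_cast 0 n
      rw [Nat.cast_one] at h1
      rw [Nat.cast_zero] at h0
      rw [h1, h0, ← hval, ← hval, gfun_sub_one, Fin.sum_univ_succ, Fin.sum_univ_succ]
      simp only [Fin.cons_zero, Fin.cons_succ, zero_add]
      unfold fwdDiff
      push_cast
      rw [add_comm]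

end Coeff

section Main

variable (k : Type u) [Field k] (X : Scheme.{u}) [X.Over (Spec (CommRingCat.of k))]
  [IsProper (X ↘ (Spec (CommRingCat.of k)))]

/-- **asymptotic Riemann–Roch** (S7649) -/
theorem asymptotic_rr (d : ℕ) (hX : topologicalKrullDim X = d) (L : X.Modules)
    (hL : CohB1.IsAmple L) (P : MvPolynomial (Fin d) ℚ)
    (hP : ∀ n : Fin d → ℕ, (Curv2.euler k X (Curv2.tensorPows (Coh.structureModule X) d
      (fun _ => L) n) : ℚ) = MvPolynomial.eval (fun i => (n i : ℚ)) P) :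
    0 < MvPolynomial.coeff (ones d) P ∧
      ∃ C : ℚ, ∀ n : ℕ,
        |(Module.finrank k (Coh.HH X (CohB1.tensorPow L n) 0) : ℚ) -
            MvPolynomial.coeff (ones d) P / (d.factorial : ℚ) * (n : ℚ) ^ d| ≤
          C * ((n : ℚ) + 1) ^ (d - 1) := by
  haveI := isNoetherian_of_proper k X
  set y := KZero.clSub (PC X) (Coh.structureModule X) with hy
  have hOc := isCoh_structureModule X
  have hOd : topologicalKrullDim ↥(CohB1.support (Coh.structureModule X)) ≤
      ((d : ℕ) : WithBot ℕ∞) := (topologicalKrullDim_subspace_le X _).trans hX.le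
  have hymem : y ∈ FilLT X (d + 1) := clSub_mem_FilLT d _ hOc hOd
  obtain ⟨P₀, hP₀d, hP₀⟩ := snapper k X (Coh.structureModule X) hOc d hOd d (fun _ => L)
    (fun _ => hL.1)
  have hPP₀ : P = P₀ := eq_of_eval_nat_eq P P₀ (fun n => by rw [← hP n, ← hP₀ n])
  have hPd : P.totalDegree ≤ d := hPP₀ ▸ hP₀d
  have hval : ∀ n : Fin d → ℕ, ((gfun k X L hL.1 y (∑ i, n i) : ℤ) : ℚ) =
      MvPolynomial.eval (fun i => (n i : ℚ)) P := by
    intro n
    rw [← hP n]
    congr 1
    unfold gfun
    rw [← Tn_const L hL.1 d n, hy, ← clSub_tensorPows _ hOc d (fun _ => L) (fun _ => hL.1) n,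
      eulerHom_clSub k X _ (isCoh_tensorPows _ hOc d _ (fun _ => hL.1) n)]
  have hcoeff := coeff_eq_lam k X L hL.1 d y P hPd hval
  obtain ⟨ξ₀, hξ₀⟩ := exists_point_dim_top d hX
  have hpos := pos_coh k d X L hL (Coh.structureModule X) hOc hOd ξ₀
    (mem_support_structureModule ξ₀) hξ₀
  refine ⟨?_, ?_⟩
  · rw [hcoeff]
    exact_mod_cast hpos
  · set g := gfun k X L hL.1 y with hg
    have hgz : ∀ j, d < j → (fwdDiff (1 : ℕ))^[j] g 0 = 0 := by
      intro j hj
      rw [hg, ← lam_eq_diff]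
      apply lam_eq_zero
      exact FilLT_mono (by omega) hymem
    obtain ⟨q, hqd, hqc, hqe⟩ := exists_poly_of_diff_zero g d hgz
    obtain ⟨C₁, hC₁, hb⟩ := poly_bound q d hqd
    obtain ⟨n₀, hn₀⟩ := SerreAmple.serre_vanishing k (X ↘ Spec (CommRingCat.of k)) hL
      (Coh.structureModule X) hOc
    have hh0 : ∀ n, n₀ ≤ n →
        (Module.finrank k (Coh.HH X (CohB1.tensorPow L n) 0) : ℤ) = g n := by
      intro n hn
      rw [hg, hy, gfun_clSub k X L hL.1 _ hOc n,
        euler_eq_sum k X 1 _ (fun p hp => hn₀ n hn p (by omega)), Finset.sum_range_one, pow_zero,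
        one_mul]
      let e : CohB1.tensorMod (Coh.structureModule X) (CohB1.tensorPow L n) ≅
          CohB1.tensorPow L n :=
        TildeTens.tensorModComm _ _ ≪≫ Groth.Agent.Lib.Helper5.LTenFlf.tensorUnitIso _
      rw [(Groth.Agent.Lib.Helper4.HHFin1.HHequiv k e 0).finrank_eq]
    set δ : ℕ → ℚ := fun n =>
      |(Module.finrank k (Coh.HH X (CohB1.tensorPow L n) 0) : ℚ) - (g n : ℚ)| with hδ
    refine ⟨C₁ + ∑ m ∈ Finset.range n₀, δ m, fun n => ?_⟩
    have hc : MvPolynomial.coeff (ones d) P / (d.factorial : ℚ) = q.coeff d := by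
      rw [hqc, hcoeff, lam_eq_diff]
    rw [hc]
    have hpow1 : (1 : ℚ) ≤ ((n : ℚ) + 1) ^ (d - 1) :=
      one_le_pow₀ (by linarith [Nat.cast_nonneg (α := ℚ) n])
    have hsum0 : 0 ≤ ∑ m ∈ Finset.range n₀, δ m := Finset.sum_nonneg (fun m _ => abs_nonneg _)
    have hδn : δ n ≤ ∑ m ∈ Finset.range n₀, δ m := by
      by_cases hn : n < n₀
      · exact Finset.single_le_sum (fun m _ => abs_nonneg _) (Finset.mem_range.2 hn)
      · have hz : δ n = 0 := by
          rw [hδ]
          simp only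
          have := hh0 n (by omega)
          have h2 : (Module.finrank k (Coh.HH X (CohB1.tensorPow L n) 0) : ℚ) = (g n : ℚ) := by
            exact_mod_cast this
          rw [h2, sub_self, abs_zero]
        rw [hz]
        exact hsum0
    have hsplit : (Module.finrank k (Coh.HH X (CohB1.tensorPow L n) 0) : ℚ) -
        q.coeff d * (n : ℚ) ^ d =
        ((Module.finrank k (Coh.HH X (CohB1.tensorPow L n) 0) : ℚ) - (g n : ℚ)) +
          (q.eval (n : ℚ) - q.coeff d * (n : ℚ) ^ d) := by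
      rw [hqe n]
      ring
    rw [hsplit]
    have h1 := abs_add_le ((Module.finrank k (Coh.HH X (CohB1.tensorPow L n) 0) : ℚ) - (g n : ℚ))
      (q.eval (n : ℚ) - q.coeff d * (n : ℚ) ^ d)
    have h2 := hb n
    have h3 : δ n = |(Module.finrank k (Coh.HH X (CohB1.tensorPow L n) 0) : ℚ) - (g n : ℚ)| := rfl
    nlinarith [h1, h2, hδn, hpow1, hsum0, hC₁]

end Main

end Groth.Agent.Helper1.SnapPos
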