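import Mathlib
import Groth.Agent.Lib.Helper1.SnapPos7
import Groth.Agent.Lib.Helper1.VA5
import Groth.Agent.Lib.Helper1.Dv15
import Groth.Agent.S0022
import Groth.Agent.S10829

/-!
# The degree of the Hilbert polynomial on projective space (helper1)
-/

set_option autoImplicit false
universe u
open CategoryTheory CategoryTheory.Limits AlgebraicGeometry TopologicalSpace Opposite

namespace Groth.Agent.Helper1.SnapPos

open Groth.Agent.Helper1 Groth.Agent.Helper1.Euler Groth.Agent.Helper1.Dv
open Groth.Agent.Helper1.FinLen Groth.Agent.Helper1.TwForm Groth.Agent.Helper1.Curve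
open Groth.Agent.Helper1.Snap Groth.Agent.Helper1.SnapAlg

section Top

/-- a closed subset of dimension `d` of a quasi-sober space contains a point whose closure has
dimension `d` -/
theorem exists_point_dim_of_closed {T : Type*} [TopologicalSpace T] [QuasiSober T] (S : Set T)
    (hS : IsClosed S) (d : ℕ) (h : topologicalKrullDim ↥S = ((d : ℕ) : WithBot ℕ∞)) :
    ∃ ξ ∈ S, topologicalKrullDim ↥(closure ({ξ} : Set T)) = ((d : ℕ) : WithBot ℕ∞) := by
  haveI : QuasiSober ↥S := hS.isClosedEmbedding_subtypeVal.quasiSober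
  obtain ⟨ξ, hξ⟩ := exists_point_dim_top d h
  refine ⟨ξ.1, ξ.2, ?_⟩
  set A : Set ↥S := closure ({ξ} : Set ↥S) with hA
  have hcl : closure ({ξ.1} : Set T) = Subtype.val '' A := by
    rw [hA, ← hS.isClosedEmbedding_subtypeVal.closure_image_eq, Set.image_singleton]
  let φ : ↥A → T := fun a => (a.1 : ↥S).1
  have hφ : Topology.IsEmbedding φ :=
    Topology.IsEmbedding.subtypeVal.comp Topology.IsEmbedding.subtypeVal
  have hrange : Set.range φ = Subtype.val '' A := by
    ext t
    constructor
    · rintro ⟨a, rfl⟩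
      exact ⟨a.1, a.2, rfl⟩
    · rintro ⟨s, hs, rfl⟩
      exact ⟨⟨s, hs⟩, rfl⟩
  have h1 := IsHomeomorph.topologicalKrullDim_eq _ (hφ.toHomeomorph).isHomeomorph
  rw [hcl, ← hrange, ← h1]
  exact hξ

end Top

section Hilb

variable (k : Type u) [Field k]

/-- on a proper scheme with an ample module, the degree of the Hilbert polynomial of a nonzero
coherent module is the dimension of its support -/
theorem natDegree_eq_dim (X : Scheme.{u}) [X.Over (Spec (CommRingCat.of k))]
    [IsProper (X ↘ (Spec (CommRingCat.of k)))] (n : ℕ)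
    (hdimX : topologicalKrullDim ↥X ≤ ((n : ℕ) : WithBot ℕ∞))
    (L : X.Modules) (hL : CohB1.IsAmple L)
    (F : X.Modules) (hF : Coh.IsCoh F) (hF0 : ¬ IsZero F) (P : Polynomial ℚ)
    (hgP : ∀ m : ℕ, (Curv2.euler k X (CohB1.tensorMod F (CohB1.tensorPow L m)) : ℚ) =
      P.eval (m : ℚ)) :
    topologicalKrullDim ↥(CohB1.support F) = (P.natDegree : WithBot ℕ∞) := by
  classical
  haveI : IsNoetherian X := isNoetherian_of_proper k X
  have hcl : IsClosed (CohB1.support F) := FtGen.isClosed_support F hF.2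
  have hle : topologicalKrullDim ↥(CohB1.support F) ≤ ((n : ℕ) : WithBot ℕ∞) :=
    (topologicalKrullDim_subspace_le X _).trans hdimX
  -- the dimension of the support is a natural number
  obtain ⟨e, he⟩ : ∃ e : ℕ, topologicalKrullDim ↥(CohB1.support F) = ((e : ℕ) : WithBot ℕ∞) := by
    generalize hx : topologicalKrullDim ↥(CohB1.support F) = x at hle
    induction x with
    | bot =>
      exfalso
      apply hF0
      apply isZero_of_support_subset_empty
      intro z hz
      haveI : Nonempty ↥(CohB1.support F) := ⟨⟨z, hz⟩⟩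
      have h0 : (0 : WithBot ℕ∞) ≤ topologicalKrullDim ↥(CohB1.support F) := by
        unfold topologicalKrullDim
        haveI : Nonempty (IrreducibleCloseds ↥(CohB1.support F)) :=
          ⟨⟨closure {⟨z, hz⟩}, isIrreducible_singleton.closure, isClosed_closure⟩⟩
        exact Order.krullDim_nonneg
      rw [hx] at h0
      exact absurd h0 (by simp)
    | coe m =>
      induction m with
      | top =>
        exfalso
        have h' : ((⊤ : ℕ∞) : WithBot ℕ∞) ≤ (((n : ℕ) : ℕ∞) : WithBot ℕ∞) := by exact_mod_cast hle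
        have h'' : (⊤ : ℕ∞) ≤ ((n : ℕ) : ℕ∞) := WithBot.coe_le_coe.1 h'
        simp at h''
      | coe m => exact ⟨m, rfl⟩
  obtain ⟨ξ₀, hξ₀, hξ₀d⟩ := exists_point_dim_of_closed (CohB1.support F) hcl e he
  have hpos := pos_coh k e X L hL F hF he.le ξ₀ hξ₀ hξ₀d
  set y := KZero.clSub (PC X) F with hy
  have hymem : y ∈ FilLT X (e + 1) := clSub_mem_FilLT e _ hF he.le
  set g := gfun k X L hL.1 y with hg
  have hgz : ∀ j, e < j → (fwdDiff (1 : ℕ))^[j] g 0 = 0 := by
    intro j hj
    rw [hg, ← lam_eq_diff]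
    apply lam_eq_zero
    exact FilLT_mono (by omega) hymem
  obtain ⟨q, hqd, hqc, hqe⟩ := exists_poly_of_diff_zero g e hgz
  have hqP : q = P := by
    apply Polynomial.eq_of_infinite_eval_eq
    apply Set.infinite_of_injective_forall_mem (f := fun m : ℕ => (m : ℚ)) Nat.cast_injective
    intro m
    change q.eval (m : ℚ) = P.eval (m : ℚ)
    rw [hqe m, ← hgP m, hg, hy, gfun_clSub k X L hL.1 F hF m]
  rw [he, ← hqP]
  have hne : q.coeff e ≠ 0 := by
    rw [hqc, ← lam_eq_diff]
    have h2 : (0 : ℚ) < ((lam k X L hL.1 e y : ℤ) : ℚ) := by exact_mod_cast hpos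
    have h3 : (0 : ℚ) < (e.factorial : ℚ) := by exact_mod_cast Nat.factorial_pos e
    exact (div_pos h2 h3).ne'
  rw [Polynomial.natDegree_eq_of_le_of_coeff_ne_zero hqd hne]

/-- **the degree of the Hilbert polynomial is the dimension of the support** (S14408) -/
theorem hilbert_degree (n : ℕ)
    (F : (CohB1.ProjSpace n k).Modules) (hF : Coh.IsCoh F) (hF0 : ¬ IsZero F) (P : Polynomial ℚ)
    (hP : ∀ m : ℤ,
      ((Finset.range (n + 1)).sum fun j => (-1 : ℚ) ^ j *
        (Module.finrank k (Coh.HH (CohB1.ProjSpace n k)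
          (CohB1.tensorMod F (Twist.twistProjSpace n k m)) j) : ℚ)) = P.eval (m : ℚ)) :
    topologicalKrullDim ↥(CohB1.support F) = (P.natDegree : WithBot ℕ∞) := by
  classical
  letI : (CohB1.ProjSpace n k).Over (Spec (CommRingCat.of k)) := ⟨CohB1.ProjSpace.toSpec n k⟩
  haveI : IsProper ((CohB1.ProjSpace n k) ↘ Spec (CommRingCat.of k)) := VA5.isProper_toSpec n k
  have hL : CohB1.IsAmple (Twist.twistProjSpace n k 1) := VA5.isAmple_twistProjSpace n k
  refine natDegree_eq_dim k (CohB1.ProjSpace n k) n (Groth.Agent.S10829.result k n).le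
    (Twist.twistProjSpace n k 1) hL F hF hF0 P ?_
  intro m
  have hLm : PicF.IsInvertible (CohB1.tensorPow (Twist.twistProjSpace n k 1) m) :=
    isInvertible_tensorPow hL.1 m
  have hcoh : Coh.IsCoh (CohB1.tensorMod F (CohB1.tensorPow (Twist.twistProjSpace n k 1) m)) :=
    isCoh_tensor _ _ hF (InvQc.isCoh_of_isInvertible _ hLm)
  haveI : Coh.IsQCoh (CohB1.tensorMod F (CohB1.tensorPow (Twist.twistProjSpace n k 1) m)) :=
    hcoh.1
  obtain ⟨em⟩ := SerreAmple.nonempty_twist_pow_iso n k m
  let e2 : CohB1.tensorMod F (CohB1.tensorPow (Twist.twistProjSpace n k 1) m) ≅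
      CohB1.tensorMod F (Twist.twistProjSpace n k (m : ℤ)) :=
    Groth.Agent.Lead.TilT.tensorModCongr (Iso.refl F) em
  have h1 := hP (m : ℤ)
  rw [Int.cast_natCast] at h1
  rw [← h1, euler_eq_sum k (CohB1.ProjSpace n k) (n + 1) _
    (fun p hp => Groth.Agent.S0022.result n k _ p (by omega))]
  push_cast
  refine Finset.sum_congr rfl (fun j _ => ?_)
  rw [(Groth.Agent.Lib.Helper4.HHFin1.HHequiv k e2 j).finrank_eq]

end Hilb

end Groth.Agent.Helper1.SnapPos
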