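import Mathlib
import Groth.Agent.Lib.Helper1.FGAInt3
import Groth.Agent.Lib.Helper1.SnapPos5
import Groth.Agent.Lib.Helper1.SnapPos8

/-!
# Positivity of mixed intersection numbers of ample modules (helper1)
-/

set_option autoImplicit false
universe u
open CategoryTheory CategoryTheory.Limits AlgebraicGeometry TopologicalSpace Opposite

namespace Groth.Agent.Helper1.FGAPos

open Groth.Agent.Helper1 Groth.Agent.Helper1.Euler Groth.Agent.Helper1.Dv
open Groth.Agent.Helper1.FinLen Groth.Agent.Helper1.TwForm Groth.Agent.Helper1.Curve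
open Groth.Agent.Helper1.Snap Groth.Agent.Helper1.SnapPos Groth.Agent.Helper1.FGAInt

section Alg

variable {X : Scheme.{u}} [IsNoetherian X]

/-- the operator `∏ (T_{L_i} - 1)` -/
noncomputable def opL : (r : ℕ) → (L : Fin r → X.Modules) → (∀ i, PicF.IsInvertible (L i)) →
    AddMonoid.End (KZero.K0sub (PC X))
  | 0, _, _ => 1
  | r + 1, L, hL => (T (L (Fin.last r)) (hL (Fin.last r)) - 1) *
      opL r (fun i => L i.castSucc) (fun i => hL i.castSucc)

theorem T_commute_opL (A : X.Modules) (hA : PicF.IsInvertible A) :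
    ∀ (r : ℕ) (L : Fin r → X.Modules) (hL : ∀ i, PicF.IsInvertible (L i)),
      Commute (T A hA) (opL r L hL)
  | 0, _, _ => Commute.one_right _
  | r + 1, L, hL =>
    Commute.mul_right ((T_comm A _ hA (hL (Fin.last r))).sub_right (Commute.one_right _))
      (T_commute_opL A hA r _ (fun i => hL i.castSucc))

theorem opL_mem : ∀ (r : ℕ) (L : Fin r → X.Modules) (hL : ∀ i, PicF.IsInvertible (L i)) (D : ℕ)
    (x : KZero.K0sub (PC X)) (_ : x ∈ FilLT X D), opL r L hL x ∈ FilLT X (D - r)
  | 0, _, _, _, _, hx => hx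
  | r + 1, L, hL, D, x, hx => by
    have ih := opL_mem r (fun i => L i.castSucc) (fun i => hL i.castSucc) D x hx
    have h := pow_sub_one_mem (L (Fin.last r)) (hL (Fin.last r)) (D - r) _ ih 1
    rw [pow_one] at h
    have e : D - (r + 1) = D - r - 1 := by omega
    rw [e]
    exact h

theorem opL_eq_zero_of_mem (r : ℕ) (L : Fin r → X.Modules) (hL : ∀ i, PicF.IsInvertible (L i))
    (x : KZero.K0sub (PC X)) (hx : x ∈ FilLT X r) : opL r L hL x = 0 := by
  have h := opL_mem r L hL r x hx
  rwa [Nat.sub_self, FilLT_zero, AddSubgroup.mem_bot] at h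

/-- the geometric series argument -/
theorem opL_geom (A : X.Modules) (hA : PicF.IsInvertible A) (e : ℕ) (L : Fin e → X.Modules)
    (hL : ∀ i, PicF.IsInvertible (L i)) (m : ℕ) (x : KZero.K0sub (PC X))
    (hx : x ∈ FilLT X (e + 2)) :
    opL e L hL (((T A hA) ^ m - 1) x) = m • opL e L hL ((T A hA - 1) x) := by
  set T₀ := T A hA with hT₀
  set P := opL e L hL with hP
  set y := P ((T₀ - 1) x) with hy
  have hymem : y ∈ FilLT X 1 := by
    have h1 := pow_sub_one_mem A hA (e + 2) x hx 1
    rw [pow_one, show e + 2 - 1 = e + 1 by omega] at h1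
    have h2 := opL_mem e L hL (e + 1) _ h1
    rwa [show e + 1 - e = 1 by omega] at h2
  have hgeom : (∑ i ∈ Finset.range m, T₀ ^ i) * (T₀ - 1) = T₀ ^ m - 1 := geom_sum_mul T₀ m
  have hc : Commute P (∑ i ∈ Finset.range m, T₀ ^ i) :=
    Commute.sum_right _ _ _ (fun i _ => ((T_commute_opL A hA e L hL).symm).pow_right i)
  have hring : P * (T₀ ^ m - 1) = (∑ i ∈ Finset.range m, T₀ ^ i) * (P * (T₀ - 1)) := by
    rw [← hgeom, ← mul_assoc, hc.eq, mul_assoc]
  have h1 : P ((T₀ ^ m - 1) x) = (P * (T₀ ^ m - 1)) x := rfl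
  rw [h1, hring]
  change (∑ i ∈ Finset.range m, T₀ ^ i) y = m • y
  rw [end_sum_apply, Finset.sum_congr rfl (fun i _ => T_pow_fix A hA y hymem i), Finset.sum_const,
    Finset.card_range]

/-- the iterated difference at the origin -/
def Δ : (r : ℕ) → ((Fin r → ℕ) → ℤ) → ℤ
  | 0, g => g (fun i => i.elim0)
  | r + 1, g => Δ r (fun n => g (Fin.snoc n 1)) - Δ r (fun n => g (Fin.snoc n 0))

theorem Tn_snoc (r : ℕ) (L : Fin (r + 1) → X.Modules) (hL : ∀ i, PicF.IsInvertible (L i))
    (n : Fin r → ℕ) (a : ℕ) :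
    Tn (r + 1) L hL (Fin.snoc n a) = (T (L (Fin.last r)) (hL (Fin.last r))) ^ a *
      Tn r (fun i => L i.castSucc) (fun i => hL i.castSucc) n := by
  change (T (L (Fin.last r)) (hL (Fin.last r))) ^
      ((Fin.snoc n a : Fin (r + 1) → ℕ) (Fin.last r)) *
    Tn r (fun i => L i.castSucc) (fun i => hL i.castSucc)
      (fun i => (Fin.snoc n a : Fin (r + 1) → ℕ) i.castSucc) = _
  simp only [Fin.snoc_last, Fin.snoc_castSucc]

end Alg

section Diff

variable (k : Type u) [Field k] (X : Scheme.{u}) [X.Over (Spec (CommRingCat.of k))]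
  [IsProper (X ↘ (Spec (CommRingCat.of k)))] [IsNoetherian X]

theorem eulerHom_opL_eq : ∀ (r : ℕ) (L : Fin r → X.Modules) (hL : ∀ i, PicF.IsInvertible (L i))
    (y : KZero.K0sub (PC X)),
    eulerHom k X (opL r L hL y) = Δ r (fun n => eulerHom k X (Tn r L hL n y))
  | 0, _, _, _ => rfl
  | r + 1, L, hL, y => by
    set Tl := T (L (Fin.last r)) (hL (Fin.last r)) with hTl
    have hc := T_commute_opL (L (Fin.last r)) (hL (Fin.last r)) r (fun i => L i.castSucc)
      (fun i => hL i.castSucc)
    have h1 : opL (r + 1) L hL y =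
        opL r (fun i => L i.castSucc) (fun i => hL i.castSucc) (Tl y) -
          opL r (fun i => L i.castSucc) (fun i => hL i.castSucc) y := by
      change Tl (opL r (fun i => L i.castSucc) (fun i => hL i.castSucc) y) -
        opL r (fun i => L i.castSucc) (fun i => hL i.castSucc) y = _
      congr 1
      exact congrArg (fun f : AddMonoid.End (KZero.K0sub (PC X)) => f y) hc.eq
    have ih1 := eulerHom_opL_eq r (fun i => L i.castSucc) (fun i => hL i.castSucc) (Tl y)
    have ih2 := eulerHom_opL_eq r (fun i => L i.castSucc) (fun i => hL i.castSucc) y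
    rw [h1, map_sub, ih1, ih2]
    change _ = Δ r (fun n => eulerHom k X (Tn (r + 1) L hL (Fin.snoc n 1) y)) -
      Δ r (fun n => eulerHom k X (Tn (r + 1) L hL (Fin.snoc n 0) y))
    congr 2
    · funext n
      rw [Tn_snoc, pow_one]
      have hc2 := T_commute_Tn (L (Fin.last r)) (hL (Fin.last r)) r (fun i => L i.castSucc)
        (fun i => hL i.castSucc) n
      exact congrArg (fun f : AddMonoid.End (KZero.K0sub (PC X)) => eulerHom k X (f y))
        hc2.eq.symm
    · funext n
      rw [Tn_snoc, pow_zero, one_mul]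

end Diff

section Transfer

variable (k : Type u) [Field k] (X : Scheme.{u}) [X.Over (Spec (CommRingCat.of k))]
  [IsProper (X ↘ (Spec (CommRingCat.of k)))] [IsNoetherian X]
  (Z : Scheme.{u}) [Z.Over (Spec (CommRingCat.of k))]
  [IsProper (Z ↘ (Spec (CommRingCat.of k)))] [IsNoetherian Z]

theorem eulerHom_opL_transfer (r : ℕ) (L : Fin r → X.Modules)
    (hL : ∀ i, PicF.IsInvertible (L i)) (L' : Fin r → Z.Modules)
    (hL' : ∀ i, PicF.IsInvertible (L' i)) (y : KZero.K0sub (PC X)) (y' : KZero.K0sub (PC Z))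
    (h : ∀ n, eulerHom k X (Tn r L hL n y) = eulerHom k Z (Tn r L' hL' n y')) :
    eulerHom k X (opL r L hL y) = eulerHom k Z (opL r L' hL' y') := by
  rw [eulerHom_opL_eq, eulerHom_opL_eq,
    show (fun n => eulerHom k X (Tn r L hL n y)) = fun n => eulerHom k Z (Tn r L' hL' n y')
      from funext h]

end Transfer

section Cycle

variable {X : Scheme.{u}} [IsNoetherian X]

/-- positivity from positivity on the components -/
theorem hom_pos_of_cycle (φ : KZero.K0sub (PC X) →+ ℤ) (d : ℕ)
    (hφ : ∀ x ∈ FilLT X d, φ x = 0) (F : X.Modules) (hF : Coh.IsCoh F)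
    (hd : topologicalKrullDim ↥(CohB1.support F) ≤ d)
    (hpos : ∀ ξ : X, topologicalKrullDim (closure ({ξ} : Set X)) = (d : WithBot ℕ∞) →
      0 < φ (KZero.clSub (PC X) (Cyc.closureStructureSheaf ξ)))
    (ξ₀ : X) (hξ₀ : ξ₀ ∈ CohB1.support F)
    (hξ₀d : topologicalKrullDim (closure ({ξ₀} : Set X)) = (d : WithBot ℕ∞)) :
    0 < φ (KZero.clSub (PC X) F) := by
  classical
  have hfin := finite_dim_eq (CohB1.support F) (FtGen.isClosed_support F hF.2) d hd
  have hs : ∀ ξ : X, ξ ∈ hfin.toFinset ↔
      ξ ∈ CohB1.support F ∧ topologicalKrullDim ↥(closure ({ξ} : Set X)) = d :=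
    fun ξ => Set.Finite.mem_toFinset hfin
  rw [hom_cycle φ d hφ F hF hd hfin.toFinset hs]
  have hnonneg : ∀ ξ ∈ hfin.toFinset,
      0 ≤ (Module.length (X.presheaf.stalk ξ) (F.presheaf.stalk ξ)).toNat •
        φ (KZero.clSub (PC X) (Cyc.closureStructureSheaf ξ)) := by
    intro ξ hξ
    exact nsmul_nonneg (hpos ξ ((hs ξ).1 hξ).2).le _
  refine lt_of_lt_of_le ?_ (Finset.single_le_sum hnonneg ((hs ξ₀).2 ⟨hξ₀, hξ₀d⟩))
  have hne : Module.length (X.presheaf.stalk ξ₀) (F.presheaf.stalk ξ₀) ≠ ⊤ :=
    length_stalk_ne_top (CohB1.support F) (FtGen.isClosed_support F hF.2) d hd F hF subset_rfl ξ₀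
      hξ₀d
  have hne0 : Module.length (X.presheaf.stalk ξ₀) (F.presheaf.stalk ξ₀) ≠ 0 := by
    intro h0
    rw [Module.length_eq_zero_iff] at h0
    exact hξ₀ h0
  have hn : (Module.length (X.presheaf.stalk ξ₀) (F.presheaf.stalk ξ₀)).toNat ≠ 0 := by
    intro h
    rcases (ENat.toNat_eq_zero.1 h) with h | h
    · exact hne0 h
    · exact hne h
  exact nsmul_pos (hpos ξ₀ hξ₀d) hn

end Cycle

variable (k : Type u) [Field k]

section TransferPos

/-- positivity on integral schemes of dimension `e` gives positivity for the points of dimension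
`e` of arbitrary proper schemes -/
theorem mpos_gen_of_int (e : ℕ)
    (ih : ∀ (Z : Scheme.{u}) [Z.Over (Spec (CommRingCat.of k))]
      [IsProper (Z ↘ (Spec (CommRingCat.of k)))] [IsNoetherian Z] [IsIntegral Z]
      (L : Fin e → Z.Modules) (hL : ∀ i, CohB1.IsAmple (L i)),
      topologicalKrullDim Z = ((e : ℕ) : WithBot ℕ∞) →
      0 < eulerHom k Z (opL e L (fun i => (hL i).1)
        (KZero.clSub (PC Z) (Coh.structureModule Z))))
    (X : Scheme.{u}) [X.Over (Spec (CommRingCat.of k))]
    [IsProper (X ↘ (Spec (CommRingCat.of k)))] [IsNoetherian X]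
    (L : Fin e → X.Modules) (hL : ∀ i, CohB1.IsAmple (L i)) (ξ : X)
    (hξ : topologicalKrullDim ↥(closure ({ξ} : Set X)) = ((e : ℕ) : WithBot ℕ∞)) :
    0 < eulerHom k X (opL e L (fun i => (hL i).1)
      (KZero.clSub (PC X) (Cyc.closureStructureSheaf ξ))) := by
  set I := IntMult.ptIdeal ξ with hI
  let ι := I.subschemeι
  letI : I.subscheme.Over (Spec (CommRingCat.of k)) := ⟨ι ≫ (X ↘ Spec (CommRingCat.of k))⟩
  haveI : IsProper (I.subscheme ↘ Spec (CommRingCat.of k)) := by
    change IsProper (ι ≫ (X ↘ Spec (CommRingCat.of k))); infer_instance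
  haveI : IsNoetherian I.subscheme := isNoetherian_of_proper k I.subscheme
  haveI : IsIntegral I.subscheme := isIntegral_ptIdeal_subscheme ξ
  set LZ : Fin e → I.subscheme.Modules := fun i => (Scheme.Modules.pullback ι).obj (L i) with hLZ
  have hLZamp : ∀ i, CohB1.IsAmple (LZ i) := fun i =>
    PullAmple.isAmple_pullback_of_isEmbedding ι ι.isClosedEmbedding.isEmbedding (hL i)
  have hdimZ : topologicalKrullDim I.subscheme = ((e : ℕ) : WithBot ℕ∞) := by
    have h1 := IsHomeomorph.topologicalKrullDim_eq _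
      (ι.isClosedEmbedding.isEmbedding.toHomeomorph).isHomeomorph
    rw [h1]
    have h2 : Set.range ι = closure {ξ} := range_ptIdeal_subschemeι ξ
    rw [h2]
    exact hξ
  have hZ := ih I.subscheme LZ hLZamp hdimZ
  rw [eulerHom_opL_transfer k X I.subscheme e L (fun i => (hL i).1) LZ (fun i => (hLZamp i).1)
    (KZero.clSub (PC X) (Cyc.closureStructureSheaf ξ))
    (KZero.clSub (PC I.subscheme) (Coh.structureModule I.subscheme)) ?_]
  · exact hZ
  · intro n
    rw [← clSub_tensorPows _ (isCoh_closureStructureSheaf ξ) e L (fun i => (hL i).1) n,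
      ← clSub_tensorPows _ (isCoh_structureModule I.subscheme) e LZ (fun i => (hLZamp i).1) n,
      eulerHom_clSub k X _ (isCoh_tensorPows _ (isCoh_closureStructureSheaf ξ) e L
        (fun i => (hL i).1) n),
      eulerHom_clSub k I.subscheme _ (isCoh_tensorPows _ (isCoh_structureModule I.subscheme) e LZ
        (fun i => (hLZamp i).1) n)]
    exact (euler_tensorPows_subscheme k X I e L (fun i => (hL i).1) n).symm

end TransferPos

section Main

/-- **positivity of the mixed intersection number of ample modules on a proper integral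
scheme** -/
theorem mpos_int (d : ℕ) : ∀ (X : Scheme.{u}) [X.Over (Spec (CommRingCat.of k))]
    [IsProper (X ↘ (Spec (CommRingCat.of k)))] [IsNoetherian X] [IsIntegral X]
    (L : Fin d → X.Modules) (hL : ∀ i, CohB1.IsAmple (L i)),
    topologicalKrullDim X = ((d : ℕ) : WithBot ℕ∞) →
    0 < eulerHom k X (opL d L (fun i => (hL i).1)
      (KZero.clSub (PC X) (Coh.structureModule X))) := by
  induction d with
  | zero =>
    intro X _ _ _ _ L hL hdim
    change 0 < eulerHom k X (KZero.clSub (PC X) (Coh.structureModule X))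
    rw [eulerHom_clSub k X _ (isCoh_structureModule X)]
    apply euler_pos_of_dim_zero k X _ (isCoh_structureModule X)
    · have h := (topologicalKrullDim_subspace_le X
        (CohB1.support (Coh.structureModule X))).trans hdim.le
      exact_mod_cast h
    · intro hz
      have h1 := support_isZero hz
      have hη := mem_support_structureModule (genericPoint X)
      rw [h1] at hη
      exact hη
  | succ e ih =>
    intro X _ _ _ _ L hL hdim
    obtain ⟨m, C, ξ', hm, hCc, hCd, hξ'C, hξ', hrel⟩ :=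
      exists_divisor k X (L (Fin.last e)) (hL (Fin.last e)) e hdim
    have hOmem : KZero.clSub (PC X) (Coh.structureModule X) ∈ FilLT X (e + 2) :=
      clSub_mem_FilLT (e + 1) _ (isCoh_structureModule X)
        ((topologicalKrullDim_subspace_le X _).trans hdim.le)
    set P := opL e (fun i => L i.castSucc) (fun i => (hL i.castSucc).1) with hP
    have hgeom := opL_geom (L (Fin.last e)) (hL (Fin.last e)).1 e (fun i => L i.castSucc)
      (fun i => (hL i.castSucc).1) m _ hOmem
    rw [hrel] at hgeom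
    have hpos : 0 < eulerHom k X (P (KZero.clSub (PC X) C)) := by
      refine hom_pos_of_cycle ((eulerHom k X).comp
        ((P : AddMonoid.End (KZero.K0sub (PC X))) :
          KZero.K0sub (PC X) →+ KZero.K0sub (PC X))) e ?_ C hCc hCd ?_ ξ' hξ'C hξ'
      · intro x hx
        change eulerHom k X (P x) = 0
        rw [hP, opL_eq_zero_of_mem e _ _ x hx, map_zero]
      · intro ξ hξ
        exact mpos_gen_of_int k e ih X (fun i => L i.castSucc) (fun i => hL i.castSucc) ξ hξ
    rw [hgeom, map_nsmul, nsmul_eq_mul] at hpos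
    have hcomm : opL (e + 1) L (fun i => (hL i).1) (KZero.clSub (PC X) (Coh.structureModule X)) =
        P ((T (L (Fin.last e)) (hL (Fin.last e)).1 - 1)
          (KZero.clSub (PC X) (Coh.structureModule X))) :=
      congrArg (fun f : AddMonoid.End (KZero.K0sub (PC X)) =>
        f (KZero.clSub (PC X) (Coh.structureModule X)))
        (((T_commute_opL (L (Fin.last e)) (hL (Fin.last e)).1 e (fun i => L i.castSucc)
          (fun i => (hL i.castSucc).1)).sub_left (Commute.one_left _)).eq)
    rw [hcomm]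
    exact (mul_pos_iff_of_pos_left (by exact_mod_cast hm)).1 hpos

/-- positivity for coherent modules -/
theorem mpos_coh (d : ℕ) (X : Scheme.{u}) [X.Over (Spec (CommRingCat.of k))]
    [IsProper (X ↘ (Spec (CommRingCat.of k)))] [IsNoetherian X]
    (L : Fin d → X.Modules) (hL : ∀ i, CohB1.IsAmple (L i)) (F : X.Modules) (hF : Coh.IsCoh F)
    (hd : topologicalKrullDim ↥(CohB1.support F) ≤ d) (ξ₀ : X) (hξ₀ : ξ₀ ∈ CohB1.support F)
    (hξ₀d : topologicalKrullDim (closure ({ξ₀} : Set X)) = (d : WithBot ℕ∞)) :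
    0 < eulerHom k X (opL d L (fun i => (hL i).1) (KZero.clSub (PC X) F)) := by
  refine hom_pos_of_cycle ((eulerHom k X).comp
    ((opL d L (fun i => (hL i).1) : AddMonoid.End (KZero.K0sub (PC X))) :
      KZero.K0sub (PC X) →+ KZero.K0sub (PC X))) d ?_ F hF hd ?_ ξ₀ hξ₀ hξ₀d
  · intro x hx
    change eulerHom k X (opL d L (fun i => (hL i).1) x) = 0
    rw [opL_eq_zero_of_mem d _ _ x hx, map_zero]
  · intro ξ hξ
    exact mpos_gen_of_int k d (mpos_int k d) X L hL ξ hξ

end Main

section IntNum

variable (X : Scheme.{u}) [X.Over (Spec (CommRingCat.of k))]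
  [IsProper (X ↘ (Spec (CommRingCat.of k)))] [IsNoetherian X]

omit [X.Over (Spec (CommRingCat.of k))] [IsProper (X ↘ (Spec (CommRingCat.of k)))] in
theorem opM_snoc {r : ℕ} (M : Fin (r + 1) → X.Modules) (hM : ∀ i, PicF.IsInvertible (M i)) :
    opM X M hM = opM X (fun i => M i.castSucc) (fun i => hM i.castSucc) *
      (1 - T (M (Fin.last r)) (hM (Fin.last r))) := by
  unfold opM
  rw [List.finRange_succ_last, List.map_append, List.prod_append, List.map_map, List.map_cons,
    List.map_nil, List.prod_singleton]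
  rfl

omit [X.Over (Spec (CommRingCat.of k))] [IsProper (X ↘ (Spec (CommRingCat.of k)))] in
/-- on classes of dimension at most `r`, the operator in the inverses is the operator in the
modules -/
theorem opM_eq_opL : ∀ (r : ℕ) (L M : Fin r → X.Modules) (hL : ∀ i, PicF.IsInvertible (L i))
    (hM : ∀ i, PicF.IsInvertible (M i))
    (_ : ∀ i, Nonempty (CohB1.tensorMod (L i) (M i) ≅ Coh.structureModule X))
    (x : KZero.K0sub (PC X)) (_ : x ∈ FilLT X (r + 1)), opM X M hM x = opL r L hL x
  | 0, _, _, _, _, _, x, _ => by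
    unfold opM
    rw [List.finRange_zero, List.map_nil, List.prod_nil]
    rfl
  | r + 1, L, M, hL, hM, hLM, x, hx => by
    obtain ⟨iso⟩ := hLM (Fin.last r)
    set TL := T (L (Fin.last r)) (hL (Fin.last r)) with hTL
    set TM := T (M (Fin.last r)) (hM (Fin.last r)) with hTM
    have hab : TL * TM = 1 := T_mul_of_inverse (hL (Fin.last r)) (hM (Fin.last r)) iso
    have hba : TM * TL = 1 := by
      rw [← (T_comm _ _ (hL (Fin.last r)) (hM (Fin.last r))).eq]
      exact hab
    set P := opL r (fun i => L i.castSucc) (fun i => hL i.castSucc) with hP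
    have hw : (1 - TM) = TM * (TL - 1) := by rw [mul_sub, mul_one, hba]
    have hwmem : (1 - TM) x ∈ FilLT X (r + 1) := by
      have h := one_sub_T_mem (M (Fin.last r)) (hM (Fin.last r)) (r + 2) x hx
      rwa [show r + 2 - 1 = r + 1 by omega] at h
    have hzmem : (TL - 1) x ∈ FilLT X (r + 1) := by
      have h := pow_sub_one_mem (L (Fin.last r)) (hL (Fin.last r)) (r + 2) x hx 1
      rwa [pow_one, show r + 2 - 1 = r + 1 by omega] at h
    have ih := opM_eq_opL r (fun i => L i.castSucc) (fun i => M i.castSucc)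
      (fun i => hL i.castSucc) (fun i => hM i.castSucc) (fun i => hLM i.castSucc)
      ((1 - TM) x) hwmem
    rw [opM_snoc X M hM]
    change opM X (fun i => M i.castSucc) (fun i => hM i.castSucc) ((1 - TM) x) =
      (TL - 1) (P x)
    rw [ih, hw]
    change P (TM ((TL - 1) x)) = (TL - 1) (P x)
    have hc1 : P (TM ((TL - 1) x)) = TM (P ((TL - 1) x)) :=
      congrArg (fun f : AddMonoid.End (KZero.K0sub (PC X)) => f ((TL - 1) x))
        (T_commute_opL (M (Fin.last r)) (hM (Fin.last r)) r (fun i => L i.castSucc)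
          (fun i => hL i.castSucc)).eq.symm
    have hPz : P ((TL - 1) x) ∈ FilLT X 1 := by
      have h := opL_mem r (fun i => L i.castSucc) (fun i => hL i.castSucc) (r + 1) _ hzmem
      rwa [show r + 1 - r = 1 by omega] at h
    rw [hc1, T_fix (M (Fin.last r)) (hM (Fin.last r)) _ hPz]
    exact congrArg (fun f : AddMonoid.End (KZero.K0sub (PC X)) => f x)
      ((T_commute_opL (L (Fin.last r)) (hL (Fin.last r)) r (fun i => L i.castSucc)
        (fun i => hL i.castSucc)).sub_left (Commute.one_left _)).eq.symm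

/-- **S3233**: positivity of `∫ c_1(L_1) ⋯ c_1(L_r) · F` for ample `L_i` -/
theorem intNum_pos (d : ℕ) (hd : topologicalKrullDim X ≤ d) {r : ℕ} (L M : Fin r → X.Modules)
    (hL : ∀ i, CohB1.IsAmple (L i))
    (hLM : ∀ i, Nonempty (CohB1.tensorMod (L i) (M i) ≅ Coh.structureModule X))
    (F : X.Modules) (hF : Coh.IsCoh F) (hr : topologicalKrullDim (CohB1.support F) = r) :
    0 < FGA.intNum k X d M F := by
  have hM : ∀ i, PicF.IsInvertible (M i) := fun i => by
    obtain ⟨iso⟩ := hLM i
    exact CurveCart.isInvertible_left_of_tensor_iso (hL i).1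
      (TildeTens.tensorModComm (M i) (L i) ≪≫ iso)
  obtain ⟨ξ₀, hξ₀, hξ₀d⟩ := exists_point_dim_of_closed (CohB1.support F)
    (FtGen.isClosed_support F hF.2) r hr
  rw [intNum_eq k X d hd M hM F hF, opM_eq_opL X r L M (fun i => (hL i).1) hM hLM _
    (clSub_mem_FilLT r F hF hr.le)]
  exact mpos_coh k r X L hL F hF hr.le ξ₀ hξ₀ hξ₀d

end IntNum

end Groth.Agent.Helper1.FGAPos
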