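import Mathlib
import Groth.Agent.Lib.Helper1.FGAPos1

/-!
# Filtration-lowering operators on `K₀` and the binomial expansion of twists (helper1)
-/

set_option autoImplicit false
universe u
open CategoryTheory CategoryTheory.Limits AlgebraicGeometry TopologicalSpace Opposite

namespace Groth.Agent.Helper1.Kleiman

open Groth.Agent.Helper1 Groth.Agent.Helper1.Euler Groth.Agent.Helper1.Dv
open Groth.Agent.Helper1.FinLen Groth.Agent.Helper1.TwForm Groth.Agent.Helper1.Curve
open Groth.Agent.Helper1.Snap Groth.Agent.Helper1.SnapPos Groth.Agent.Helper1.FGAInt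
open Groth.Agent.Helper1.FGAPos

section Gen

theorem end_nsmul_apply {A : Type*} [AddCommGroup A] (n : ℕ) (U : AddMonoid.End A) (x : A) :
    (n • U) x = n • U x := by
  induction n with
  | zero =>
    rw [zero_smul, zero_smul]
    rfl
  | succ n ih =>
    rw [succ_nsmul, succ_nsmul, ← ih]
    rfl

/-- rearranging scalars in a product -/
theorem smul_mul_smul_cast {R : Type*} [Semiring R] (a b c : ℕ) (x y : R) :
    (a • x) * (b • y) * (c : R) = (c * (a * b)) • (x * y) := by
  rw [← nsmul_eq_mul', smul_mul_assoc, mul_smul_comm, smul_smul, smul_smul, mul_assoc]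

end Gen

section Low

variable {X : Scheme.{u}} [AlgebraicGeometry.IsNoetherian X]

omit [AlgebraicGeometry.IsNoetherian X] in
theorem FilLT_mono {a b : ℕ} (h : a ≤ b) : FilLT X a ≤ FilLT X b := by
  apply AddSubgroup.closure_mono
  rintro c ⟨G, hG, hd, rfl⟩
  refine ⟨G, hG, lt_of_lt_of_le hd ?_, rfl⟩
  have h1 : (a : ℕ∞) ≤ (b : ℕ∞) := by exact_mod_cast h
  have h2 : ((a : ℕ∞) : WithBot ℕ∞) ≤ ((b : ℕ∞) : WithBot ℕ∞) := WithBot.coe_le_coe.2 h1
  exact_mod_cast h2

/-- an operator lowering the dimension filtration by `s` -/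
def Low (s : ℕ) (W : AddMonoid.End (KZero.K0sub (PC X))) : Prop :=
  ∀ (D : ℕ) (x : KZero.K0sub (PC X)), x ∈ FilLT X D → W x ∈ FilLT X (D - s)

omit [AlgebraicGeometry.IsNoetherian X] in
theorem Low.mono {s s' : ℕ} {W : AddMonoid.End (KZero.K0sub (PC X))} (h : Low s W)
    (hs : s' ≤ s) : Low s' W :=
  fun D x hx => FilLT_mono (by omega) (h D x hx)

omit [AlgebraicGeometry.IsNoetherian X] in
theorem low_one : Low 0 (1 : AddMonoid.End (KZero.K0sub (PC X))) := fun _ _ hx => hx

omit [AlgebraicGeometry.IsNoetherian X] in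
theorem low_zero (s : ℕ) : Low s (0 : AddMonoid.End (KZero.K0sub (PC X))) :=
  fun D _ _ => (FilLT X (D - s)).zero_mem

omit [AlgebraicGeometry.IsNoetherian X] in
theorem Low.add {s : ℕ} {U V : AddMonoid.End (KZero.K0sub (PC X))} (hU : Low s U)
    (hV : Low s V) : Low s (U + V) :=
  fun D x hx => (FilLT X (D - s)).add_mem (hU D x hx) (hV D x hx)

omit [AlgebraicGeometry.IsNoetherian X] in
theorem Low.sub {s : ℕ} {U V : AddMonoid.End (KZero.K0sub (PC X))} (hU : Low s U)
    (hV : Low s V) : Low s (U - V) :=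
  fun D x hx => (FilLT X (D - s)).sub_mem (hU D x hx) (hV D x hx)

omit [AlgebraicGeometry.IsNoetherian X] in
theorem Low.mul {a b : ℕ} {U V : AddMonoid.End (KZero.K0sub (PC X))} (hU : Low a U)
    (hV : Low b V) : Low (a + b) (U * V) := fun D x hx => by
  have h := hU (D - b) (V x) (hV D x hx)
  rwa [show D - b - a = D - (a + b) by omega] at h

omit [AlgebraicGeometry.IsNoetherian X] in
theorem Low.nsmul {s : ℕ} {U : AddMonoid.End (KZero.K0sub (PC X))} (n : ℕ) (hU : Low s U) :
    Low s (n • U) := fun D x hx => by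
  rw [end_nsmul_apply]
  exact (FilLT X (D - s)).nsmul_mem (hU D x hx) n

omit [AlgebraicGeometry.IsNoetherian X] in
theorem Low.pow {U : AddMonoid.End (KZero.K0sub (PC X))} (hU : Low 1 U) :
    ∀ n : ℕ, Low n (U ^ n)
  | 0 => by
    rw [pow_zero]
    exact low_one
  | n + 1 => by
    rw [pow_succ]
    exact (Low.pow hU n).mul hU

omit [AlgebraicGeometry.IsNoetherian X] in
theorem Low.pow0 {U : AddMonoid.End (KZero.K0sub (PC X))} (hU : Low 0 U) :
    ∀ n : ℕ, Low 0 (U ^ n)
  | 0 => by
    rw [pow_zero]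
    exact low_one
  | n + 1 => by
    rw [pow_succ]
    have h := (Low.pow0 hU n).mul hU
    exact h

omit [AlgebraicGeometry.IsNoetherian X] in
theorem low_sum {ι : Type*} (s : Finset ι) (f : ι → AddMonoid.End (KZero.K0sub (PC X))) (a : ℕ)
    (h : ∀ i ∈ s, Low a (f i)) : Low a (∑ i ∈ s, f i) := by
  classical
  induction s using Finset.induction_on with
  | empty =>
    rw [Finset.sum_empty]
    exact low_zero a
  | insert i s hi ih =>
    rw [Finset.sum_insert hi]
    exact (h i (Finset.mem_insert_self i s)).add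
      (ih fun j hj => h j (Finset.mem_insert_of_mem hj))

/-- an operator lowering by `D` kills `FilLT D` -/
theorem Low.eq_zero {s : ℕ} {U : AddMonoid.End (KZero.K0sub (PC X))} (hU : Low s U) (D : ℕ)
    (hD : D ≤ s) (x : KZero.K0sub (PC X)) (hx : x ∈ FilLT X D) : U x = 0 := by
  have h := hU D x hx
  rwa [show D - s = 0 by omega, FilLT_zero, AddSubgroup.mem_bot] at h

theorem low_D (L : X.Modules) (hL : PicF.IsInvertible L) : Low 1 (T L hL - 1) :=
  fun D x hx => by
    have h := pow_sub_one_mem L hL D x hx 1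
    rwa [pow_one] at h

theorem low_T (L : X.Modules) (hL : PicF.IsInvertible L) : Low 0 (T L hL) := by
  have h := ((low_D L hL).mono (Nat.zero_le 1)).add low_one
  rwa [sub_add_cancel] at h

theorem low_T_pow_sub_one (L : X.Modules) (hL : PicF.IsInvertible L) (t : ℕ) :
    Low 1 ((T L hL) ^ t - 1) := by
  rw [← geom_sum_mul]
  have h1 : Low 0 (∑ i ∈ Finset.range t, (T L hL) ^ i) :=
    low_sum _ _ 0 fun i _ => (low_T L hL).pow0 i
  have h := h1.mul (low_D L hL)
  exact h

/-- `T^q - 1 = q (T - 1)` up to second order -/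
theorem exists_low_pow (L : X.Modules) (hL : PicF.IsInvertible L) (q : ℕ) :
    ∃ W : AddMonoid.End (KZero.K0sub (PC X)), Low 2 W ∧
      (T L hL) ^ q - 1 = q • (T L hL - 1) + W := by
  refine ⟨(∑ t ∈ Finset.range q, ((T L hL) ^ t - 1)) * (T L hL - 1), ?_, ?_⟩
  · have h := (low_sum (Finset.range q) (fun t => (T L hL) ^ t - 1) 1
      fun t _ => low_T_pow_sub_one L hL t).mul (low_D L hL)
    exact h
  · have h1 : (∑ t ∈ Finset.range q, ((T L hL) ^ t - 1)) =
        (∑ t ∈ Finset.range q, (T L hL) ^ t) - q • (1 : AddMonoid.End (KZero.K0sub (PC X))) := by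
      rw [Finset.sum_sub_distrib, Finset.sum_const, Finset.card_range]
    rw [h1, sub_mul, geom_sum_mul, smul_mul_assoc, one_mul]
    abel

/-- `T_L^q T_A^p - 1 = q (T_L - 1) + p (T_A - 1)` up to second order -/
theorem low_twist_sub (L A : X.Modules) (hL : PicF.IsInvertible L) (hA : PicF.IsInvertible A)
    (q p : ℕ) :
    Low 2 (((T L hL) ^ q * (T A hA) ^ p - 1) - (q • (T L hL - 1) + p • (T A hA - 1))) := by
  obtain ⟨WL, hWL, eL⟩ := exists_low_pow L hL q
  obtain ⟨WA, hWA, eA⟩ := exists_low_pow A hA p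
  have e1 : ∀ x y : AddMonoid.End (KZero.K0sub (PC X)),
      x * y - 1 = (x - 1) * (y - 1) + (x - 1) + (y - 1) := fun x y => by
    simp only [sub_mul, mul_sub, one_mul, mul_one]
    abel
  have h : ((T L hL) ^ q * (T A hA) ^ p - 1) - (q • (T L hL - 1) + p • (T A hA - 1)) =
      WL + WA + ((T L hL) ^ q - 1) * ((T A hA) ^ p - 1) := by
    rw [e1]
    have e2 : ((T L hL) ^ q - 1) * ((T A hA) ^ p - 1) + ((T L hL) ^ q - 1) + ((T A hA) ^ p - 1) -
        (q • (T L hL - 1) + p • (T A hA - 1)) =
        ((T L hL) ^ q - 1) * ((T A hA) ^ p - 1) +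
          (((T L hL) ^ q - 1) - q • (T L hL - 1)) + (((T A hA) ^ p - 1) - p • (T A hA - 1)) := by
      abel
    rw [e2, eL, eA, add_sub_cancel_left, add_sub_cancel_left]
    abel
  rw [h]
  have h4 : Low 2 (((T L hL) ^ q - 1) * ((T A hA) ^ p - 1)) := by
    have h5 := (low_T_pow_sub_one L hL q).mul (low_T_pow_sub_one A hA p)
    exact h5
  exact (hWL.add hWA).add h4

omit [AlgebraicGeometry.IsNoetherian X] in
/-- powers of two commuting first-order operators agreeing up to second order -/
theorem low_pow_sub_pow {U V : AddMonoid.End (KZero.K0sub (PC X))} (hUV : Commute U V)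
    (hU : Low 1 U) (hV : Low 1 V) (hW : Low 2 (U - V)) : ∀ a : ℕ, Low (a + 1) (U ^ a - V ^ a)
  | 0 => by
    rw [pow_zero, pow_zero, sub_self]
    exact low_zero _
  | a + 1 => by
    rw [← hUV.geom_sum₂_mul (a + 1)]
    have h1 : Low a (∑ i ∈ Finset.range (a + 1), U ^ i * V ^ (a + 1 - 1 - i)) :=
      low_sum _ _ a fun i hi => by
        have hi' : i ≤ a := by
          have := Finset.mem_range.1 hi
          omega
        exact ((hU.pow i).mul (hV.pow (a + 1 - 1 - i))).mono (by omega)
    have h2 := h1.mul hW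
    exact h2.mono (by omega)

end Low

section Expand

variable {X : Scheme.{u}} [AlgebraicGeometry.IsNoetherian X]

/-- the twisting operator of `L^q ⊗ A^p`, minus one -/
theorem commute_twist (L A : X.Modules) (hL : PicF.IsInvertible L) (hA : PicF.IsInvertible A)
    (q p : ℕ) :
    Commute ((T L hL) ^ q * (T A hA) ^ p - 1) (q • (T L hL - 1) + p • (T A hA - 1)) := by
  have hLL : Commute (T L hL) (T L hL - 1) :=
    (Commute.refl _).sub_right (Commute.one_right _)
  have hLA : Commute (T L hL) (T A hA - 1) :=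
    (T_comm L A hL hA).sub_right (Commute.one_right _)
  have hAL : Commute (T A hA) (T L hL - 1) :=
    (T_comm A L hA hL).sub_right (Commute.one_right _)
  have hAA : Commute (T A hA) (T A hA - 1) :=
    (Commute.refl _).sub_right (Commute.one_right _)
  have h1 : Commute (T L hL) (q • (T L hL - 1) + p • (T A hA - 1)) :=
    (hLL.smul_right q).add_right (hLA.smul_right p)
  have h2 : Commute (T A hA) (q • (T L hL - 1) + p • (T A hA - 1)) :=
    (hAL.smul_right q).add_right (hAA.smul_right p)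
  exact ((h1.pow_left q).mul_left (h2.pow_left p)).sub_left (Commute.one_left _)

/-- replacing `T_L^q T_A^p - 1` by `q (T_L - 1) + p (T_A - 1)` in a top-degree operator -/
theorem twist_pow_apply (L A : X.Modules) (hL : PicF.IsInvertible L) (hA : PicF.IsInvertible A)
    (q p a : ℕ) (P₀ : AddMonoid.End (KZero.K0sub (PC X))) (e : ℕ) (hP₀ : Low e P₀)
    (y : KZero.K0sub (PC X)) (D : ℕ) (hy : y ∈ FilLT X D) (hD : D ≤ e + a + 1) :
    P₀ ((((T L hL) ^ q * (T A hA) ^ p - 1) ^ a) y) =
      P₀ (((q • (T L hL - 1) + p • (T A hA - 1)) ^ a) y) := by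
  set U := (T L hL) ^ q * (T A hA) ^ p - 1 with hUdef
  set V := q • (T L hL - 1) + p • (T A hA - 1) with hVdef
  have hW : Low 2 (U - V) := low_twist_sub L A hL hA q p
  have hV : Low 1 V := ((low_D L hL).nsmul q).add ((low_D A hA).nsmul p)
  have hU : Low 1 U := by
    have h := (hW.mono (by omega : 1 ≤ 2)).add hV
    rwa [sub_add_cancel] at h
  have h1 := low_pow_sub_pow (commute_twist L A hL hA q p) hU hV hW a D y hy
  have h2 := hP₀ _ _ h1
  rw [show D - (a + 1) - e = 0 by omega, FilLT_zero, AddSubgroup.mem_bot] at h2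
  have h3 : (U ^ a - V ^ a) y = (U ^ a) y - (V ^ a) y := rfl
  rw [h3, map_sub, sub_eq_zero] at h2
  exact h2

/-- the binomial expansion -/
theorem add_pow_apply (L A : X.Modules) (hL : PicF.IsInvertible L) (hA : PicF.IsInvertible A)
    (q p n : ℕ) (y : KZero.K0sub (PC X)) :
    ((q • (T L hL - 1) + p • (T A hA - 1)) ^ n) y =
      ∑ m ∈ Finset.range (n + 1), (n.choose m * (q ^ m * p ^ (n - m))) •
        (((T L hL - 1) ^ m * (T A hA - 1) ^ (n - m)) y) := by
  have hc0 : Commute (T L hL - 1) (T A hA - 1) :=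
    ((T_comm L A hL hA).sub_right (Commute.one_right _)).sub_left (Commute.one_left _)
  have hc : Commute (q • (T L hL - 1)) (p • (T A hA - 1)) :=
    (hc0.smul_right p).smul_left q
  rw [hc.add_pow n, end_sum_apply]
  refine Finset.sum_congr rfl fun m _ => ?_
  rw [smul_pow, smul_pow, smul_mul_smul_cast, end_nsmul_apply]

end Expand

end Groth.Agent.Helper1.Kleiman
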