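import Mathlib
import Groth.Agent.Lib.Helper1.Dv29
import Groth.Agent.Lib.Helper1.TwistSec
import Groth.Prelude.Def_Cyc
import Groth.Prelude.Def_ChowK

/-!
# Supports of direct images along closed maps (helper1)
-/

set_option autoImplicit false
universe u
open CategoryTheory CategoryTheory.Limits AlgebraicGeometry TopologicalSpace Opposite

namespace Groth.Agent.Helper1.Dv

open Groth.Agent.Helper1.QcCech Groth.Agent.Helper1.QcExt Groth.Agent.Helper1
open Groth.Agent.Helper1.CohACC Groth.Agent.Lead Groth.Agent.Helper1.SubSh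

variable {Z' X : Scheme.{u}}

/-- sections over an open set disjoint from the support vanish -/
theorem subsingleton_sections_of_disjoint_support (H : Z'.Modules) (O : Z'.Opens)
    (hO : ∀ x ∈ O, x ∉ CohB1.support H) : Subsingleton Γ(H, O) := by
  refine ⟨fun s t => ?_⟩
  apply TwistSec.eq_of_locally
  intro x hx
  have hsub : Subsingleton (H.presheaf.stalk x) := by
    by_contra h
    exact hO x hx h
  have h1 : H.presheaf.germ O x hx s = H.presheaf.germ O x hx t := Subsingleton.elim _ _
  obtain ⟨W, hW, iU, iV, e⟩ := TopCat.Presheaf.germ_eq H.presheaf x hx hx s t h1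
  refine ⟨W, leOfHom iU, hW, ?_⟩
  have : iU = iV := Subsingleton.elim _ _
  subst this
  exact e

/-- the support of a direct image lies in the image of the support when the latter is closed -/
theorem support_push_subset_image (h : Z' ⟶ X) (H : Z'.Modules)
    (hcl : IsClosed (⇑h '' CohB1.support H)) :
    CohB1.support ((Scheme.Modules.pushforward h).obj H) ⊆ ⇑h '' CohB1.support H := by
  intro y hy
  by_contra hyr
  apply hy
  refine ⟨fun v w => ?_⟩
  suffices h0 : ∀ v : ((Scheme.Modules.pushforward h).obj H).presheaf.stalk y, v = 0 by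
    rw [h0 v, h0 w]
  intro v
  obtain ⟨V, hyV, n, rfl⟩ :=
    TopCat.Presheaf.exists_germ_eq ((Scheme.Modules.pushforward h).obj H).presheaf v
  let U : X.Opens := ⟨(⇑h '' CohB1.support H)ᶜ, hcl.isOpen_compl⟩
  have hyU : y ∈ U := hyr
  haveI : Subsingleton Γ((Scheme.Modules.pushforward h).obj H, V ⊓ U) := by
    apply subsingleton_sections_of_disjoint_support H (h ⁻¹ᵁ (V ⊓ U))
    intro z hz hzs
    exact hz.2 ⟨z, hzs, rfl⟩
  rw [← TopCat.Presheaf.germ_res_apply ((Scheme.Modules.pushforward h).obj H).presheaf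
    (homOfLE (inf_le_left : V ⊓ U ≤ V)) y ⟨hyV, hyU⟩ n]
  rw [Subsingleton.elim (((Scheme.Modules.pushforward h).obj H).presheaf.map
    (homOfLE (inf_le_left : V ⊓ U ≤ V)).op n) 0, map_zero]

/-- finite direct image preserves `Coh_{≤ k}` -/
theorem cohLe_push_of_isFinite {X Y : Scheme.{u}} (δX : X → ℤ) (δY : Y → ℤ) (π : X ⟶ Y)
    [IsFinite π] (hδ : Cyc.DeltaCompat π δX δY) (k : ℤ) (F : X.Modules)
    (hF : Cyc.CohLe δX k F) : Cyc.CohLe δY k ((Coh.push π).obj F) := by
  refine ⟨FinPush.isCoh_pushforward π F hF.1, fun y hy => ?_⟩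
  have hcl : IsClosed (⇑π '' CohB1.support F) :=
    π.isClosedMap _ (FtGen.isClosed_support F hF.1.2)
  have hy' : y ∈ CohB1.support ((Scheme.Modules.pushforward π).obj F) :=
    not_subsingleton_iff_nontrivial.2 hy
  obtain ⟨x, hx, rfl⟩ := support_push_subset_image π F hcl hy'
  obtain ⟨n, -, hn⟩ := hδ x
  have h1 := hF.2 x (not_subsingleton_iff_nontrivial.1 hx)
  have : δY (π x) = δX x - n := by rw [hn]; ring
  rw [this]
  have hn0 : (0 : ℤ) ≤ n := Int.natCast_nonneg n
  omega

end Groth.Agent.Helper1.Dv
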