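import Mathlib
import Groth.Agent.Lib.Helper1.AmpleDev2
import Groth.Agent.Lib.Helper1.AmpleLib4
import Groth.Agent.Lib.Helper1.GlobGenLoc
import Groth.Agent.Lib.Helper1.CoprodMod
import Groth.Agent.Lib.Helper4.SubPush1

/-!
# Global generation of twists of modules supported on a closed subscheme (helper1)
-/

set_option autoImplicit false
universe u

open CategoryTheory CategoryTheory.Limits AlgebraicGeometry TopologicalSpace Opposite

namespace Groth.Agent.Helper1.NM

open Groth.Agent.Helper1.QcCech Groth.Agent.Helper1 Groth.Agent.Helper1.TwForm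

section Push

/-- the direct image of a globally generated module along a closed immersion is globally
generated -/
theorem isGloballyGenerated_pushforward {V X : Scheme.{u}} (ι : V ⟶ X) [IsClosedImmersion ι]
    (F : V.Modules) (hF : Curv2.IsGloballyGenerated F) :
    Curv2.IsGloballyGenerated ((Scheme.Modules.pushforward ι).obj F) := by
  obtain ⟨I, p, hp⟩ := hF
  set σ : I → Γ(F, ⊤) := fun i => (F.freeHomEquiv p i).1 (op ⊤) with hσ
  haveI : Epi (GlobGen.ofSections σ) := by
    rw [← GlobGen.eq_ofSections p]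
    exact hp
  set G := (Scheme.Modules.pushforward ι).obj F with hG
  let τ : I → Γ(G, ⊤) := fun i =>
    (show Γ(F, ι ⁻¹ᵁ ⊤) from res F (le_top : ι ⁻¹ᵁ ⊤ ≤ ⊤) (σ i))
  refine ⟨I, GlobGen.ofSections τ, ?_⟩
  apply GlobGen.epi_of_mem_loc
  intro O t y hy
  by_cases hyr : y ∈ Set.range ι
  · obtain ⟨z, rfl⟩ := hyr
    have hz : z ∈ ι ⁻¹ᵁ O := hy
    obtain ⟨W', hW', hzW', hm⟩ := GlobGen.mem_loc_of_epi σ (show Γ(F, ι ⁻¹ᵁ O) from t) z hz
    obtain ⟨W₀, hW₀o, hW₀⟩ := ι.isClosedEmbedding.isInducing.isOpen_iff.1 W'.isOpen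
    have hzW₀ : ι z ∈ W₀ := by
      have : z ∈ ι ⁻¹' W₀ := by
        rw [hW₀]
        exact hzW'
      exact this
    obtain ⟨_, ⟨O'', hO''aff, rfl⟩, hyO'', hO''le⟩ :=
      X.isBasis_affineOpens.exists_subset_of_mem_open
        (show ι z ∈ (⟨W₀, hW₀o⟩ : X.Opens) ⊓ O from ⟨hzW₀, hy⟩)
        ((⟨W₀, hW₀o⟩ : X.Opens) ⊓ O).isOpen
    have hO''O : O'' ≤ O := fun w hw => (hO''le hw).2
    have hpre : ι ⁻¹ᵁ O'' ≤ W' := by
      intro w hw
      have h1 : w ∈ ι ⁻¹' W₀ := (hO''le hw).1
      rw [hW₀] at h1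
      exact h1
    refine ⟨O'', hO''O, hyO'', ?_⟩
    have hm' := (GlobGen.spanPre σ).res_mem hpre hm
    rw [res_res] at hm'
    have key : ∀ m : Γ(F, ι ⁻¹ᵁ O''), m ∈ (GlobGen.spanPre σ).carrier (ι ⁻¹ᵁ O'') →
        (show Γ(G, O'') from m) ∈ (GlobGen.spanPre τ).carrier O'' := by
      intro m hm
      induction hm using Submodule.span_induction with
      | mem x hx =>
        obtain ⟨i, rfl⟩ := hx
        apply Submodule.subset_span
        refine ⟨i, ?_⟩
        change res F _ (res F _ (σ i)) = _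
        rw [res_res]
      | zero => exact Submodule.zero_mem _
      | add x y _ _ hx hy => exact Submodule.add_mem _ hx hy
      | smul r x _ hx =>
        obtain ⟨ρ, rfl⟩ := ι.app_surjective O'' hO''aff r
        have h2 := Submodule.smul_mem _ ρ hx
        rwa [Groth.Agent.Lib.Helper4.SubPush1.push_smul'] at h2
    exact key _ hm'
  · let U' : X.Opens := ⟨(Set.range ι)ᶜ, ι.isClosedEmbedding.isClosed_range.isOpen_compl⟩
    refine ⟨O ⊓ U', inf_le_left, ⟨hy, hyr⟩, ?_⟩
    have hbot : ι ⁻¹ᵁ (O ⊓ U') = ⊥ := by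
      ext z
      simp only [Opens.coe_bot, Set.mem_empty_iff_false, iff_false]
      intro hz
      exact hz.2 ⟨z, rfl⟩
    haveI : Subsingleton Γ(G, O ⊓ U') := by
      change Subsingleton Γ(F, ι ⁻¹ᵁ (O ⊓ U'))
      exact CoprodMod.subsingleton_of_eq_bot F hbot
    rw [Subsingleton.elim (res G (inf_le_left : O ⊓ U' ≤ O) t) 0]
    exact Submodule.zero_mem _

end Push

section Killed

variable (k : Type u) [Field k] (X : Scheme.{u}) [X.Over (Spec (CommRingCat.of k))]
  [IsProper (X ↘ (Spec (CommRingCat.of k)))]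

include k in
/-- twists of a coherent module killed by an ideal on whose subscheme `G` is ample are eventually
globally generated -/
theorem eventually_gg_of_killed {G : X.Modules} (hG : PicF.IsInvertible G)
    (J : X.IdealSheafData)
    (hJ : CohB1.IsAmple ((Scheme.Modules.pullback J.subschemeι).obj G))
    (C : X.Modules) (hC : Coh.IsCoh C) (hk : ClSub.KilledByIdeal J C) :
    ∃ n₀ : ℕ, ∀ n, n₀ ≤ n →
      Curv2.IsGloballyGenerated (CohB1.tensorMod C (CohB1.tensorPow G n)) := by
  haveI : IsLocallyNoetherian X :=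
    LocallyOfFiniteType.isLocallyNoetherian (X ↘ Spec (CommRingCat.of k))
  obtain ⟨C', hC', ⟨e⟩⟩ := Groth.Agent.S0786.result J.subschemeι C hC
    (by rw [J.ker_subschemeι]; exact hk)
  obtain ⟨n₀, hn₀⟩ := AmpleLib.eventually_globallyGenerated hJ C' hC'
  refine ⟨n₀, fun n hn => ?_⟩
  obtain ⟨pf⟩ := Groth.Agent.Lib.Helper4.ClBridge2.nonempty_projFormula J.subschemeι C'
    (CohB1.tensorPow G n) (isInvertible_tensorPow hG n)
  let e2 : CohB1.tensorMod C' ((Scheme.Modules.pullback J.subschemeι).obj (CohB1.tensorPow G n)) ≅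
      CohB1.tensorMod C' (CohB1.tensorPow ((Scheme.Modules.pullback J.subschemeι).obj G) n) :=
    TwistTens.tensorModCongrRight C' (PullPow.powIso J.subschemeι hG n)
  have h1 := isGloballyGenerated_pushforward J.subschemeι _ (hn₀ n hn)
  have h2 := AmpleLib.isGloballyGenerated_of_iso
    ((Scheme.Modules.pushforward J.subschemeι).mapIso e2.symm) h1
  have h3 := AmpleLib.isGloballyGenerated_of_iso pf.symm h2
  exact AmpleLib.isGloballyGenerated_of_iso
    (Groth.Agent.Lead.TilT.tensorModCongr e (Iso.refl _)) h3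

end Killed

end Groth.Agent.Helper1.NM
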