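import Mathlib
import Groth.Agent.Lib.Helper1.NM6
import Groth.Agent.Lib.Helper1.NM7
import Groth.Agent.Lib.Helper1.AmpleLib1
import Groth.Agent.Lib.Helper1.Dv21
import Groth.Agent.Lib.Helper1.Euler3
import Groth.Agent.Lib.Helper4.KosC1
import Groth.Agent.Lib.Helper4.TwExact

/-!
# Global generation of powers from a section whose divisor carries an ample restriction (helper1)
-/

set_option autoImplicit false
universe u

open CategoryTheory CategoryTheory.Limits AlgebraicGeometry TopologicalSpace Opposite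

namespace Groth.Agent.Helper1.NM

open Groth.Agent.Helper1.QcCech Groth.Agent.Helper1 Groth.Agent.Helper1.TwForm
open Groth.Agent.Helper1.LGen Groth.Agent.Helper1.SecOps Groth.Agent.Helper1.AmpleLib
open Groth.Agent.Lib.Helper4

section GG

variable (k : Type u) [Field k] (X : Scheme.{u}) [X.Over (Spec (CommRingCat.of k))]
  [IsProper (X ↘ (Spec (CommRingCat.of k)))]

include k in
/-- if `s` is a regular section of the invertible module `G` whose cokernel is killed by an ideal on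
whose subscheme `G` is ample, then the large powers of `G` are globally generated -/
theorem gg_of_section {G : X.Modules} (hG : PicF.IsInvertible G)
    (s : Coh.structureModule X ⟶ G) [Mono s] (J : X.IdealSheafData)
    (hk : ClSub.KilledByIdeal J (cokernel s))
    (hJ : CohB1.IsAmple ((Scheme.Modules.pullback J.subschemeι).obj G)) :
    ∃ n₀ : ℕ, ∀ n, n₀ ≤ n → Curv2.IsGloballyGenerated (CohB1.tensorPow G n) := by
  have hOc : Coh.IsCoh (Coh.structureModule X) := Dv.isCoh_structureModule X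
  have hGc : Coh.IsCoh G := InvQc.isCoh_of_isInvertible _ hG
  have hC : Coh.IsCoh (cokernel s) := FtLocal.isCoh_cokernel hOc hGc s
  let S : ShortComplex X.Modules := ShortComplex.mk s (cokernel.π s) (cokernel.condition s)
  haveI : Mono S.f := inferInstanceAs (Mono s)
  haveI : Epi S.g := inferInstanceAs (Epi (cokernel.π s))
  have hS : S.ShortExact := { exact := ShortComplex.exact_cokernel s }
  obtain ⟨n₁, hn₁⟩ := AmpleDev.SV.of_killed k (X ↘ Spec (CommRingCat.of k)) hG J hJ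
    (cokernel s) hC hk
  obtain ⟨n₂, hn₂⟩ := eventually_gg_of_killed k X hG J hJ (cokernel s) hC hk
  have hPi : ∀ n, PicF.IsInvertible (CohB1.tensorPow G n) := fun n => isInvertible_tensorPow hG n
  have hPc : ∀ n, Coh.IsCoh (CohB1.tensorPow G n) := fun n =>
    InvQc.isCoh_of_isInvertible _ (hPi n)
  have hSn : ∀ n, (S.map (TwExact.TL (CohB1.tensorPow G n))).ShortExact := fun n =>
    TwExact.shortExact_map (TwExact.locGen_of_isInvertible _ (hPi n)) hS
  let e₁ : ∀ n, (S.map (TwExact.TL (CohB1.tensorPow G n))).X₁ ≅ CohB1.tensorPow G n := fun n =>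
    TildeTens.tensorModComm _ _ ≪≫ Groth.Agent.Lib.Helper5.LTenFlf.tensorUnitIso _
  let e₂ : ∀ n, (S.map (TwExact.TL (CohB1.tensorPow G n))).X₂ ≅ CohB1.tensorPow G (n + 1) :=
    fun n => TildeTens.tensorModComm _ _
  haveI hfin : ∀ (M : X.Modules) (hM : Coh.IsCoh M) (p : ℕ), Module.Finite k (Coh.HH X M p) :=
    fun M hM p => T2Main1.t2 k X M hM p
  have hc₁ : ∀ n, Coh.IsCoh (S.map (TwExact.TL (CohB1.tensorPow G n))).X₁ := fun n =>
    Euler.isCoh_tensor _ _ hOc (hPc n)
  have hc₂ : ∀ n, Coh.IsCoh (S.map (TwExact.TL (CohB1.tensorPow G n))).X₂ := fun n =>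
    Euler.isCoh_tensor _ _ hGc (hPc n)
  set a : ℕ → ℕ := fun n => Module.finrank k (Coh.HH X (CohB1.tensorPow G n) 1) with ha
  have ha₁ : ∀ n, Module.finrank k (Coh.HH X (S.map (TwExact.TL (CohB1.tensorPow G n))).X₁ 1) =
      a n := fun n => (HHFin1.HHequiv k (e₁ n) 1).finrank_eq
  have ha₂ : ∀ n, Module.finrank k (Coh.HH X (S.map (TwExact.TL (CohB1.tensorPow G n))).X₂ 1) =
      a (n + 1) := fun n => (HHFin1.HHequiv k (e₂ n) 1).finrank_eq
  have hanti : ∀ n, n₁ ≤ n → a (n + 1) ≤ a n := by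
    intro n hn
    haveI := hfin _ (hc₁ n) 1
    have := finrank_le_of_subsingleton k (hSn n) 1 (hn₁ n hn 1 one_pos)
    rwa [ha₁, ha₂] at this
  obtain ⟨n₃, hn₃, hconst⟩ := eventually_const_of_antitone a (a n₁) n₁ rfl hanti
  refine ⟨max n₂ n₃ + 1, fun n' hn' => ?_⟩
  obtain ⟨n, rfl⟩ : ∃ n, n' = n + 1 := ⟨n' - 1, by omega⟩
  have hnn₂ : n₂ ≤ n := by omega
  have hnn₃ : n₃ ≤ n := by omega
  have hnn₁ : n₁ ≤ n := hn₃.trans hnn₃
  set Sn := S.map (TwExact.TL (CohB1.tensorPow G n)) with hSndef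
  haveI := hfin _ (hc₁ n) 1
  haveI := hfin _ (hc₂ n) 1
  have hsurj0 := surjective_g_zero k (hSn n) (hn₁ n hnn₁ 1 one_pos)
    (by rw [ha₁, ha₂]; exact (hconst n hnn₃).symm)
  have hsurj : ∀ σ : Γ(Sn.X₃, ⊤), ∃ t : Γ(Sn.X₂, ⊤), Sn.g.app ⊤ t = σ := by
    intro σ
    obtain ⟨y, hy⟩ := hsurj0 ((HH0.equiv X Sn.X₃).symm σ)
    refine ⟨HH0.equiv X Sn.X₂ y, ?_⟩
    rw [← KosC1.HH0_natural k Sn.g y, hy]
    exact (HH0.equiv X Sn.X₃).apply_symm_apply σ
  haveI : Epi Sn.g := (hSn n).epi_g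
  have hM₂ : PicF.IsInvertible Sn.X₂ := isInvertible_tensorMod hG (hPi n)
  apply GenCover.isGloballyGenerated
  refine ⟨hPi (n + 1), fun x => ?_⟩
  by_cases hx : x ∈ CohB1.support (cokernel s)
  · have hx' : x ∈ CohB1.support Sn.X₃ := mem_support_tensor (hPi n) x hx
    obtain ⟨t, ht⟩ := exists_section_gen hM₂ Sn.g (hn₂ n hnn₂) hsurj x hx'
    refine ⟨TwistAmple.homOfSec _ t ≫ (e₂ n).hom, ?_⟩
    rw [TwistAmple.genLocus_comp_iso]
    exact ht
  · refine ⟨SecTwist.powHom s (n + 1), ?_⟩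
    rw [genLocus_powHom hG s n]
    exact mem_genLocus_of_notMem_support_cokernel hG s x hx

end GG

end Groth.Agent.Helper1.NM
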