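import Mathlib
import Groth.Agent.Lib.Helper1.NM8
import Groth.Agent.Lib.Helper1.Euler1

/-!
# Producing sections from the growth of the Euler characteristic (helper1)
-/

set_option autoImplicit false
universe u

open CategoryTheory CategoryTheory.Limits AlgebraicGeometry TopologicalSpace Opposite

namespace Groth.Agent.Helper1.NM

open Groth.Agent.Helper1.QcCech Groth.Agent.Helper1 Groth.Agent.Helper1.TwForm
open Groth.Agent.Lib.Helper4

section Sect

variable (k : Type u) [Field k] (X : Scheme.{u}) [X.Over (Spec (CommRingCat.of k))]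
  [IsProper (X ↘ (Spec (CommRingCat.of k)))]

/-- if `N` embeds into both `O` and `M` with cokernels satisfying Serre vanishing for `M`, and the
Euler characteristic of the powers of `M` tends to infinity, then some positive power of `M` has
a nonzero section -/
theorem exists_h0_pos {M : X.Modules} (hM : PicF.IsInvertible M)
    (N : X.Modules) (a : N ⟶ Coh.structureModule X) (b : N ⟶ M) [Mono a] [Mono b]
    (h₁ : AmpleDev.SV M (cokernel a)) (h₂ : AmpleDev.SV M (cokernel b))
    (hχ : Filter.Tendsto (fun m => Curv2.euler k X (CohB1.tensorPow M m))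
      Filter.atTop Filter.atTop) :
    ∃ m, 0 < m ∧ 0 < Module.finrank k (Coh.HH X (CohB1.tensorPow M m) 0) := by
  have hPi : ∀ n, PicF.IsInvertible (CohB1.tensorPow M n) := fun n => isInvertible_tensorPow hM n
  have hPc : ∀ n, Coh.IsCoh (CohB1.tensorPow M n) := fun n =>
    InvQc.isCoh_of_isInvertible _ (hPi n)
  let S₁ : ShortComplex X.Modules := ShortComplex.mk a (cokernel.π a) (cokernel.condition a)
  let S₂ : ShortComplex X.Modules := ShortComplex.mk b (cokernel.π b) (cokernel.condition b)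
  haveI : Mono S₁.f := inferInstanceAs (Mono a)
  haveI : Epi S₁.g := inferInstanceAs (Epi (cokernel.π a))
  haveI : Mono S₂.f := inferInstanceAs (Mono b)
  haveI : Epi S₂.g := inferInstanceAs (Epi (cokernel.π b))
  have hS₁ : S₁.ShortExact := { exact := ShortComplex.exact_cokernel a }
  have hS₂ : S₂.ShortExact := { exact := ShortComplex.exact_cokernel b }
  obtain ⟨m₁, hm₁⟩ := h₁
  obtain ⟨m₂, hm₂⟩ := h₂
  have hS₁n : ∀ n, (S₁.map (TwExact.TL (CohB1.tensorPow M n))).ShortExact := fun n =>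
    TwExact.shortExact_map (TwExact.locGen_of_isInvertible _ (hPi n)) hS₁
  have hS₂n : ∀ n, (S₂.map (TwExact.TL (CohB1.tensorPow M n))).ShortExact := fun n =>
    TwExact.shortExact_map (TwExact.locGen_of_isInvertible _ (hPi n)) hS₂
  let e₁ : ∀ n, (S₁.map (TwExact.TL (CohB1.tensorPow M n))).X₂ ≅ CohB1.tensorPow M n := fun n =>
    TildeTens.tensorModComm _ _ ≪≫ Groth.Agent.Lib.Helper5.LTenFlf.tensorUnitIso _
  let e₂ : ∀ n, (S₂.map (TwExact.TL (CohB1.tensorPow M n))).X₂ ≅ CohB1.tensorPow M (n + 1) :=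
    fun n => TildeTens.tensorModComm _ _
  set h : ℕ → ℕ → ℕ := fun p n => Module.finrank k (Coh.HH X (CohB1.tensorPow M n) p) with hh
  have hstep : ∀ n, max m₁ m₂ ≤ n → ∀ q, h (q + 2) (n + 1) = h (q + 2) n := by
    intro n hn q
    have hn₁ : m₁ ≤ n := (le_max_left _ _).trans hn
    have hn₂ : m₂ ≤ n := (le_max_right _ _).trans hn
    have E₁ := finrank_eq_of_subsingleton k (hS₁n n) (q + 1)
      (hm₁ n hn₁ (q + 1) (Nat.succ_pos _)) (hm₁ n hn₁ (q + 2) (Nat.succ_pos _))
    have E₂ := finrank_eq_of_subsingleton k (hS₂n n) (q + 1)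
      (hm₂ n hn₂ (q + 1) (Nat.succ_pos _)) (hm₂ n hn₂ (q + 2) (Nat.succ_pos _))
    have F₁ := (HHFin1.HHequiv k (e₁ n) (q + 2)).finrank_eq
    have F₂ := (HHFin1.HHequiv k (e₂ n) (q + 2)).finrank_eq
    change Module.finrank k (Coh.HH X (CohB1.tensorPow M (n + 1)) (q + 2)) =
      Module.finrank k (Coh.HH X (CohB1.tensorPow M n) (q + 2))
    rw [← F₁, ← F₂]
    exact E₂.symm.trans E₁
  have hconst : ∀ n, max m₁ m₂ ≤ n → ∀ q, h (q + 2) n = h (q + 2) (max m₁ m₂) := by
    intro n hn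
    induction n, hn using Nat.le_induction with
    | base => intro q; rfl
    | succ n hn ih => intro q; rw [hstep n hn q, ih q]
  obtain ⟨B, hB⟩ := Euler.exists_vanishing_bound k X
  set c : ℕ → ℤ := fun n => ∑ i ∈ Finset.range B, (-1 : ℤ) ^ (i + 1 + 1) * (h (i + 1 + 1) n : ℤ)
    with hc
  have heul : ∀ n, Curv2.euler k X (CohB1.tensorPow M n) =
      c n + (-1 : ℤ) ^ (0 + 1) * (h (0 + 1) n : ℤ) + (-1 : ℤ) ^ 0 * (h 0 n : ℤ) := by
    intro n
    rw [Euler.euler_eq_sum k X (B + 1 + 1) _ (fun p hp => hB _ (hPc n).1 p (by omega)),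
      Finset.sum_range_succ', Finset.sum_range_succ']
  have hcc : ∀ n, max m₁ m₂ ≤ n → c n = c (max m₁ m₂) := by
    intro n hn
    apply Finset.sum_congr rfl
    intro i _
    have := hconst n hn i
    change h (i + 2) n = h (i + 2) (max m₁ m₂) at this
    change (-1 : ℤ) ^ (i + 2) * (h (i + 2) n : ℤ) = (-1 : ℤ) ^ (i + 2) * (h (i + 2) (max m₁ m₂) : ℤ)
    rw [this]
  obtain ⟨n, hn1, hn2⟩ : ∃ n, max (max m₁ m₂) 1 ≤ n ∧
      c (max m₁ m₂) < Curv2.euler k X (CohB1.tensorPow M n) :=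
    ((Filter.eventually_ge_atTop _).and (hχ.eventually_gt_atTop (c (max m₁ m₂)))).exists
  have hn0 : max m₁ m₂ ≤ n := (le_max_left _ _).trans hn1
  refine ⟨n, by have := (le_max_right (max m₁ m₂) 1).trans hn1; omega, ?_⟩
  rw [heul n, hcc n hn0] at hn2
  have h3 : (0 : ℤ) < (h 0 n : ℤ) := by
    have h4 : (0 : ℤ) ≤ (h (0 + 1) n : ℤ) := Int.natCast_nonneg _
    have h5 : ((-1 : ℤ)) ^ (0 + 1) = -1 := by norm_num
    have h6 : ((-1 : ℤ)) ^ 0 = 1 := by norm_num
    rw [h5, h6] at hn2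
    linarith
  exact_mod_cast h3

end Sect

end Groth.Agent.Helper1.NM
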