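import Mathlib
import Groth.Agent.Lib.Helper1.SnapPos3
import Groth.Agent.Lib.Helper1.SnapK1

/-!
# Growth of the Euler characteristic from positivity of the leading coefficient (helper1)
-/

set_option autoImplicit false
universe u

open CategoryTheory CategoryTheory.Limits AlgebraicGeometry TopologicalSpace Opposite

namespace Groth.Agent.Helper1.NM

open Groth.Agent.Helper1 Groth.Agent.Helper1.Snap Groth.Agent.Helper1.SnapPos Groth.Agent.Helper1.Dv

section Elem

theorem tendsto_of_fwdDiff_ge_one (g : ℕ → ℤ) (n₀ : ℕ)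
    (h : ∀ n, n₀ ≤ n → 1 ≤ fwdDiff (1 : ℕ) g n) : Filter.Tendsto g Filter.atTop Filter.atTop := by
  have key : ∀ j : ℕ, g n₀ + (j : ℤ) ≤ g (n₀ + j) := by
    intro j
    induction j with
    | zero => simp
    | succ j ih =>
      have h1 : 1 ≤ g (n₀ + j + 1) - g (n₀ + j) := h (n₀ + j) (Nat.le_add_right _ _)
      have h2 : n₀ + (j + 1) = n₀ + j + 1 := by omega
      rw [h2]
      push_cast
      linarith
  rw [Filter.tendsto_atTop]
  intro b
  rw [Filter.eventually_atTop]
  refine ⟨n₀ + (b - g n₀).toNat, fun n hn => ?_⟩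
  obtain ⟨j, rfl⟩ := Nat.exists_eq_add_of_le (show n₀ ≤ n by omega)
  have h1 := key j
  have h2 : (b - g n₀).toNat ≤ j := by omega
  have h3 : b - g n₀ ≤ ((b - g n₀).toNat : ℤ) := Int.self_le_toNat _
  have h4 : ((b - g n₀).toNat : ℤ) ≤ (j : ℤ) := by exact_mod_cast h2
  linarith

theorem tendsto_of_iterate_fwdDiff : ∀ (d : ℕ) (g : ℕ → ℤ),
    (∀ n, 1 ≤ ((fwdDiff (1 : ℕ))^[d + 1] g) n) → Filter.Tendsto g Filter.atTop Filter.atTop
  | 0, g, h => tendsto_of_fwdDiff_ge_one g 0 (fun n _ => h n)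
  | d + 1, g, h => by
    have h1 : Filter.Tendsto (fwdDiff (1 : ℕ) g) Filter.atTop Filter.atTop :=
      tendsto_of_iterate_fwdDiff d (fwdDiff (1 : ℕ) g) (by
        intro n
        have := h n
        rwa [Function.iterate_succ_apply] at this)
    obtain ⟨n₀, hn₀⟩ := Filter.eventually_atTop.1 (Filter.tendsto_atTop.1 h1 1)
    exact tendsto_of_fwdDiff_ge_one g n₀ hn₀

/-- a function whose `(d+2)`-nd difference vanishes and whose `(d+1)`-st difference is positive at
`0` tends to infinity -/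
theorem tendsto_of_diff (d : ℕ) (g : ℕ → ℤ)
    (h0 : ∀ n, ((fwdDiff (1 : ℕ))^[d + 1 + 1] g) n = 0)
    (h1 : 0 < ((fwdDiff (1 : ℕ))^[d + 1] g) 0) : Filter.Tendsto g Filter.atTop Filter.atTop := by
  apply tendsto_of_iterate_fwdDiff d g
  have hc : ∀ n, ((fwdDiff (1 : ℕ))^[d + 1] g) n = ((fwdDiff (1 : ℕ))^[d + 1] g) 0 := by
    intro n
    induction n with
    | zero => rfl
    | succ n ih =>
      have h2 := h0 n
      rw [Function.iterate_succ_apply'] at h2
      have h3 : ((fwdDiff (1 : ℕ))^[d + 1] g) (n + 1) - ((fwdDiff (1 : ℕ))^[d + 1] g) n = 0 := h2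
      rw [← ih]
      linarith
  intro n
  rw [hc n]
  exact h1

end Elem

section Geo

variable (k : Type u) [Field k] (X : Scheme.{u}) [X.Over (Spec (CommRingCat.of k))]
  [IsProper (X ↘ (Spec (CommRingCat.of k)))] [IsNoetherian X]

/-- if the leading coefficient is positive, the Euler characteristic of the twists tends to
infinity -/
theorem tendsto_euler_of_lam_pos (L : X.Modules) (hL : PicF.IsInvertible L) (F : X.Modules)
    (hF : Coh.IsCoh F) (d : ℕ)
    (hdim : topologicalKrullDim ↥(CohB1.support F) ≤ ((d + 1 : ℕ) : WithBot ℕ∞))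
    (hpos : 0 < lam k X L hL (d + 1) (KZero.clSub (PC X) F)) :
    Filter.Tendsto (fun n => Curv2.euler k X (CohB1.tensorMod F (CohB1.tensorPow L n)))
      Filter.atTop Filter.atTop := by
  set y := KZero.clSub (PC X) F with hy
  have hmem : y ∈ FilLT X (d + 1 + 1) := clSub_mem_FilLT (d + 1) F hF hdim
  have hfun : (fun n => Curv2.euler k X (CohB1.tensorMod F (CohB1.tensorPow L n))) =
      gfun k X L hL y := by
    funext n
    exact (gfun_clSub k X L hL F hF n).symm
  rw [hfun]
  apply tendsto_of_diff d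
  · intro n
    rw [← gfun_pow_sub_one, pow_sub_one_eq_zero L hL (d + 1 + 1) y hmem]
    unfold gfun
    rw [map_zero, map_zero]
  · rw [← lam_eq_diff]
    exact hpos

end Geo

end Groth.Agent.Helper1.NM
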