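import Mathlib
import Groth.Agent.Lib.Helper4.Japanese2
import Groth.Agent.Lib.Helper4.LinBridge1
import Groth.Agent.Lib.Helper1.GV1
import Groth.Agent.Lib.Helper1.Curve1
import Groth.Agent.Lib.Helper1.Euler4
import Groth.Agent.Lib.Helper1.H1Ext
import Groth.Agent.Lib.Helper1.FinPush

/-!
# The normalization of a genus zero curve has genus zero (helper1)
-/

set_option autoImplicit false
universe u
open CategoryTheory CategoryTheory.Limits AlgebraicGeometry TopologicalSpace Opposite

namespace Groth.Agent.Helper1.NormGenus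

open Groth.Agent.Helper1 Groth.Agent.Helper1.Dv Groth.Agent.Helper1.Euler
open Groth.Agent.Helper1.Curve Groth.Agent.Helper1.QcCech Groth.Agent.Lib.Helper5.StalkAdj
open Groth.Agent.Helper1.H1Ext

section Stalk
variable {X : Scheme.{u}}

/-- vanishing of the cohomology of the quotient in a short exact sequence -/
theorem subsingleton_HH_X₃' {S : ShortComplex X.Modules} (hS : S.ShortExact) (n : ℕ)
    (h2 : Subsingleton (Coh.HH X S.X₂ n)) (h1 : Subsingleton (Coh.HH X S.X₁ (n + 1))) :
    Subsingleton (Coh.HH X S.X₃ n) := by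
  have hSab := QcExt.Sab_shortExact hS
  refine subsingleton_of_forall_eq 0 fun x => ?_
  obtain ⟨y, hy⟩ := Abelian.Ext.covariant_sequence_exact₃ _ hSab x rfl
    (Subsingleton.elim (h := h1) _ _)
  have hy0 : y = 0 := Subsingleton.elim (h := h2) y 0
  rw [← hy, hy0, Abelian.Ext.zero_comp]
  rfl

/-- a morphism of modules which is bijective on sections over the small opens near `x` is
bijective on the stalk at `x` -/
theorem stalk_bijective_of_app_bijective {M N : X.Modules} (φ : M ⟶ N) (V : X.Opens)
    (h : ∀ W : X.Opens, W ≤ V → Function.Bijective (fun s : Γ(M, W) => φ.app W s))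
    (x : X) (hx : x ∈ V) : Function.Bijective ((stalkSh X x).map φ).hom := by
  constructor
  · rw [injective_iff_map_eq_zero]
    intro v hv
    obtain ⟨W, hxW, s, rfl⟩ := TopCat.Presheaf.exists_germ_eq M.presheaf v
    have hW1 : W ⊓ V ≤ W := inf_le_left
    have hx1 : x ∈ W ⊓ V := ⟨hxW, hx⟩
    rw [← TopCat.Presheaf.germ_res_apply M.presheaf (homOfLE hW1) x hx1 s] at hv ⊢
    set s1 : Γ(M, W ⊓ V) := M.presheaf.map (homOfLE hW1).op s with hs1
    rw [stalkSh_map_germ] at hv
    have h0 : N.presheaf.germ (W ⊓ V) x hx1 (φ.app (W ⊓ V) s1) =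
        N.presheaf.germ (W ⊓ V) x hx1 0 := by
      rw [hv]
      exact (map_zero _).symm
    obtain ⟨W', hxW', iU, iV, e⟩ := TopCat.Presheaf.germ_eq N.presheaf x hx1 hx1 _ _ h0
    rw [map_zero] at e
    have hW'le : W' ≤ W ⊓ V := leOfHom iU
    have hiU : iU = homOfLE hW'le := Subsingleton.elim _ _
    rw [hiU] at e
    have hnat := QcExt.app_res φ hW'le s1
    have e' : res N hW'le (φ.app (W ⊓ V) s1) = 0 := e
    rw [e'] at hnat
    have hinj := (h W' (hW'le.trans inf_le_right)).1
    have hz : res M hW'le s1 = 0 := by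
      apply hinj
      change φ.app W' (res M hW'le s1) = φ.app W' 0
      rw [hnat, map_zero]
    rw [← TopCat.Presheaf.germ_res_apply M.presheaf (homOfLE hW'le) x hxW' s1]
    change M.presheaf.germ W' x hxW' (res M hW'le s1) = 0
    rw [hz, map_zero]
  · intro t
    obtain ⟨W, hxW, a, rfl⟩ := TopCat.Presheaf.exists_germ_eq N.presheaf t
    have hW1 : W ⊓ V ≤ W := inf_le_left
    have hx1 : x ∈ W ⊓ V := ⟨hxW, hx⟩
    obtain ⟨s, hs⟩ := (h (W ⊓ V) inf_le_right).2 (N.presheaf.map (homOfLE hW1).op a)
    refine ⟨M.presheaf.germ (W ⊓ V) x hx1 s, ?_⟩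
    rw [stalkSh_map_germ]
    change N.presheaf.germ (W ⊓ V) x hx1 (φ.app (W ⊓ V) s) = _
    have hs' : φ.app (W ⊓ V) s = N.presheaf.map (homOfLE hW1).op a := hs
    rw [hs', TopCat.Presheaf.germ_res_apply]

end Stalk

section Restr

/-- a morphism which restricts to an isomorphism over `V` is an isomorphism on sections over the
opens contained in `V` -/
theorem isIso_app_of_isIso_restrict {Y X : Scheme.{u}} (ν : Y ⟶ X) (V : X.Opens)
    [IsIso (ν ∣_ V)] (W : X.Opens) (hW : W ≤ V) : IsIso (ν.app W) := by
  set V' : (V : Scheme.{u}).Opens := V.ι ⁻¹ᵁ W with hV'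
  have himg : V.ι ''ᵁ V' = W := by
    rw [hV', Scheme.Hom.image_preimage_eq_opensRange_inf, Scheme.Opens.opensRange_ι]
    exact inf_eq_right.2 hW
  have key : ∀ W0 : X.Opens, W0 = V.ι ''ᵁ V' → IsIso (ν.app W0) := by
    rintro _ rfl
    have h := morphismRestrict_app ν V V'
    have h1 : IsIso ((ν ∣_ V).app V') := inferInstance
    rw [h] at h1
    exact @IsIso.of_isIso_comp_right _ _ _ _ _ (ν.app _)
      (Y.presheaf.map (eqToHom (image_morphismRestrict_preimage ν V V')).op) inferInstance h1
  exact key W himg.symm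

end Restr

section Main

theorem main (k : Type u) [Field k] (X : Scheme.{u}) [X.Over (Spec (CommRingCat.of k))]
    [IsIntegral X] [IsProper (X ↘ (Spec (CommRingCat.of k)))]
    [QuasiCompact (X.fromSpecStalk (genericPoint X))]
    [QuasiSeparated (X.fromSpecStalk (genericPoint X))]
    (hdim : topologicalKrullDim X = 1)
    (h1 : Subsingleton (Coh.HH X (Coh.structureModule X) 1)) :
    Subsingleton (Coh.HH (Curv2.normalization X)
      (Coh.structureModule (Curv2.normalization X)) 1) := by
  haveI := isNoetherian_of_proper k X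
  haveI : X.IsSeparated := ⟨by
    rw [← terminal.comp_from (X ↘ Spec (CommRingCat.of k))]
    infer_instance⟩
  obtain ⟨hfin, -, ⟨V, ⟨x0, hx0⟩, hViso⟩, -, -⟩ :=
    Groth.Agent.Lib.Helper4.Japanese2.S1585_main k X
  haveI := hfin
  haveI := hViso
  set ν := Curv2.normalizationι X with hν
  letI : (Curv2.normalization X).Over (Spec (CommRingCat.of k)) :=
    ⟨ν ≫ (X ↘ Spec (CommRingCat.of k))⟩
  have hOYc := isCoh_structureModule (Curv2.normalization X)
  haveI : Coh.IsQCoh (Coh.structureModule (Curv2.normalization X)) := hOYc.1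
  have e := Groth.Agent.Lib.Helper4.LinBridge1.lerayEquiv ν
    (Coh.structureModule (Curv2.normalization X)) k rfl 1
  suffices h : Subsingleton (Coh.HH X ((Coh.push ν).obj
      (Coh.structureModule (Curv2.normalization X))) 1) from e.symm.toEquiv.subsingleton
  set A := (Coh.push ν).obj (Coh.structureModule (Curv2.normalization X)) with hA
  have hAc : Coh.IsCoh A := FinPush.isCoh_pushforward ν _ hOYc
  let u : Coh.structureModule X ⟶ A := ClSub.unitToPush ν
  have hgenV : genericPoint X ∈ V := genericPoint_mem_of_nonempty V x0 hx0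
  have happ : ∀ W : X.Opens, W ≤ V →
      Function.Bijective (fun s : Γ(Coh.structureModule X, W) => u.app W s) := by
    intro W hW
    haveI := isIso_app_of_isIso_restrict ν V W hW
    exact (ConcreteCategory.isIso_iff_bijective (ν.app W)).1 inferInstance
  have hst := stalk_bijective_of_app_bijective u V happ (genericPoint X) hgenV
  have hcok : genericPoint X ∉ CohB1.support (cokernel u) := notMem_support_cokernel u _ hst.2
  have hOc := isCoh_structureModule X
  have hcokc : Coh.IsCoh (cokernel u) := FtLocal.isCoh_cokernel hOc hAc u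
  haveI : (Coh.structureModule X).IsQuasicoherent := hOc.1
  haveI : A.IsQuasicoherent := hAc.1
  have hkerq : Coh.IsQCoh (kernel u) := QcAbel.isQuasicoherent_kernel u
  have hH2 : Subsingleton (Coh.HH X (kernel u) 2) :=
    GV1.subsingleton_HH_of_dim_le_one hdim.le _ hkerq 2 le_rfl
  have hS1 := kerIm_shortExact u
  have hIm : Subsingleton (Coh.HH X (Abelian.image u) 1) := subsingleton_HH_X₃' hS1 1 h1 hH2
  have hC : Subsingleton (Coh.HH X (cokernel u) 1) :=
    subsingleton_HH_of_dim_le_zero _ hcokc (dim_support_le_zero hdim _ hcokc hcok) 1 Nat.one_pos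
  let S2 : ShortComplex X.Modules :=
    ShortComplex.mk (kernel.ι (cokernel.π u)) (cokernel.π u) (kernel.condition _)
  have hS2 : S2.ShortExact :=
    { exact := ShortComplex.exact_of_f_is_kernel _ (kernelIsKernel _)
      mono_f := inferInstanceAs (Mono (kernel.ι _))
      epi_g := inferInstanceAs (Epi (cokernel.π u)) }
  exact subsingleton_HH_mid hS2 1 hIm hC

end Main

end Groth.Agent.Helper1.NormGenus
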