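import Mathlib
import Groth.Agent.Lib.Helper1.NormGenus1
import Groth.Agent.Lib.Helper1.QcPull
import Groth.Agent.Lib.Helper1.FtLocal
import Groth.Agent.Lib.Helper1.CohAbel
import Groth.Agent.Lib.Helper1.Dv21
import Groth.Agent.Lib.Helper1.SubExt8
import Groth.Agent.Lib.Helper1.AmpleQA
import Groth.Agent.Lib.Helper1.InvQc
import Groth.Agent.Lib.Helper1.CoprodMod
import Groth.Agent.Lib.Helper5.Stalk.Exact

/-!
# A common coherent submodule of `O` and of an invertible module on an integral scheme (helper1)
-/

set_option autoImplicit false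
universe u

open CategoryTheory CategoryTheory.Limits AlgebraicGeometry TopologicalSpace Opposite

namespace Groth.Agent.Helper1.NM

open Groth.Agent.Helper1.QcCech Groth.Agent.Helper1 Groth.Agent.Lib.Helper5.StalkAdj

section Cat

universe v₁ v₂ u₁ u₂

variable {C : Type u₁} [Category.{v₁} C] {D : Type u₂} [Category.{v₂} D] (F : C ⥤ D)
  {A B P : C} (f : A ⟶ P) (g : B ⟶ P) [HasPullback f g] [HasPullback (F.map f) (F.map g)]
  [PreservesLimit (cospan f g) F]

theorem isIso_map_fst [IsIso (F.map g)] : IsIso (F.map (pullback.fst f g)) := by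
  rw [← PreservesPullback.iso_hom_fst F f g]
  infer_instance

theorem isIso_map_snd [IsIso (F.map f)] : IsIso (F.map (pullback.snd f g)) := by
  rw [← PreservesPullback.iso_hom_snd F f g]
  infer_instance

end Cat

section Res

variable {X : Scheme.{u}}

theorem res_bijective_of_le (M : X.Modules) {A B : X.Opens} (h : A ≤ B) (h' : B ≤ A) :
    Function.Bijective (res M h) := by
  refine ⟨fun s t hst => ?_, fun t => ⟨res M h' t, ?_⟩⟩
  · have := congrArg (res M h') hst
    rwa [res_res, res_res, res_self, res_self] at this
  · rw [res_res, res_self]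

end Res

section Common

variable {Y : Scheme.{u}} [IsIntegral Y]

theorem unit_app_injective {M : Y.Modules} (hM : PicF.IsInvertible M) (W : Y.Opens)
    (hW : genericPoint Y ∈ W) (V : Y.Opens) :
    Function.Injective (res M (W.ι.image_preimage_le V)) := by
  rw [injective_iff_map_eq_zero]
  intro s hs
  by_cases hV : genericPoint Y ∈ V
  · refine Curve.eq_zero_of_res_eq_zero hM (W.ι.image_preimage_le V) ?_ s hs
    rw [Scheme.Hom.image_preimage_eq_opensRange_inf, Scheme.Opens.opensRange_ι]
    exact ⟨hW, hV⟩
  · have hbot : V = ⊥ := by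
      by_contra hne
      apply hV
      obtain ⟨y, hy⟩ : (V : Set Y).Nonempty := by
        rw [Set.nonempty_iff_ne_empty]
        intro h0
        apply hne
        ext z
        simp [h0]
      exact ((genericPoint_spec Y).mem_open_set_iff V.isOpen).2 ⟨y, trivial, hy⟩
    haveI : Subsingleton Γ(M, V) := CoprodMod.subsingleton_of_eq_bot M hbot
    exact Subsingleton.elim _ _

variable [IsLocallyNoetherian Y]

/-- on an integral locally noetherian scheme, an invertible module `M` and the structure sheaf have
a common coherent submodule, with both quotients vanishing at the generic point -/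
theorem exists_common_sub {M : Y.Modules} (hM : PicF.IsInvertible M) :
    ∃ (N : Y.Modules) (a : N ⟶ Coh.structureModule Y) (b : N ⟶ M), Mono a ∧ Mono b ∧
      Coh.IsCoh N ∧ genericPoint Y ∉ CohB1.support (cokernel a) ∧
      genericPoint Y ∉ CohB1.support (cokernel b) := by
  obtain ⟨W, hxW, ⟨e⟩⟩ := hM (genericPoint Y)
  let j := W.ι
  let P : Y.Modules :=
    (Scheme.Modules.pushforward j).obj ((Scheme.Modules.restrictFunctor j).obj M)
  let t₂ : M ⟶ P := (Scheme.Modules.restrictAdjunction j).unit.app M
  let u₁ : Coh.structureModule Y ⟶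
      (Scheme.Modules.pushforward j).obj
        ((Scheme.Modules.restrictFunctor j).obj (Coh.structureModule Y)) :=
    (Scheme.Modules.restrictAdjunction j).unit.app (Coh.structureModule Y)
  let φ : (Scheme.Modules.restrictFunctor j).obj (Coh.structureModule Y) ≅
      (Scheme.Modules.restrictFunctor j).obj M :=
    Scheme.Modules.restrictUnitIso j ≪≫ e.symm
  let t₁ : Coh.structureModule Y ⟶ P := u₁ ≫ (Scheme.Modules.pushforward j).map φ.hom
  haveI hm₂ : Mono t₂ := SubSh.mono_of_app_injective _ (fun V => unit_app_injective hM W hxW V)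
  haveI hmu : Mono u₁ := SubSh.mono_of_app_injective _
    (fun V => unit_app_injective GenLoc.isInvertible_O W hxW V)
  haveI hm₁ : Mono t₁ := mono_comp _ _
  haveI : M.IsQuasicoherent := InvQc.isQuasicoherent_of_isInvertible _ hM
  haveI : (Coh.structureModule Y).IsQuasicoherent := (Dv.isCoh_structureModule Y).1
  haveI : ((Scheme.Modules.restrictFunctor j).obj M).IsQuasicoherent :=
    Scheme.Modules.isQuasicoherent_restrictFunctor j M
  haveI : P.IsQuasicoherent := PushQc.isQuasicoherent_pushforward j _
  have hNq : (pullback t₁ t₂).IsQuasicoherent := QcAbel.isQuasicoherent_pullback t₁ t₂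
  refine ⟨pullback t₁ t₂, pullback.fst t₁ t₂, pullback.snd t₁ t₂, inferInstance, inferInstance,
    FtLocal.isCoh_of_mono (pullback.fst t₁ t₂) (Dv.isCoh_structureModule Y) hNq, ?_, ?_⟩
  all_goals
    have hbij : ∀ (M' : Y.Modules),
        IsIso ((stalkSh Y (genericPoint Y)).map
          ((Scheme.Modules.restrictAdjunction j).unit.app M')) := by
      intro M'
      rw [ConcreteCategory.isIso_iff_bijective]
      refine NormGenus.stalk_bijective_of_app_bijective _ W (fun W' hW' => ?_) _ hxW
      refine res_bijective_of_le M' (W.ι.image_preimage_le W') ?_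
      rw [Scheme.Hom.image_preimage_eq_opensRange_inf, Scheme.Opens.opensRange_ι]
      exact le_inf hW' le_rfl
    haveI h2 : IsIso ((stalkSh Y (genericPoint Y)).map t₂) := hbij M
    haveI h1 : IsIso ((stalkSh Y (genericPoint Y)).map t₁) := by
      haveI := hbij (Coh.structureModule Y)
      change IsIso ((stalkSh Y (genericPoint Y)).map
        (u₁ ≫ (Scheme.Modules.pushforward j).map φ.hom))
      rw [Functor.map_comp]
      infer_instance
  · haveI := isIso_map_fst (stalkSh Y (genericPoint Y)) t₁ t₂
    exact Dv.notMem_support_cokernel _ _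
      ((ConcreteCategory.isIso_iff_bijective _).1 this).2
  · haveI := isIso_map_snd (stalkSh Y (genericPoint Y)) t₁ t₂
    exact Dv.notMem_support_cokernel _ _
      ((ConcreteCategory.isIso_iff_bijective _).1 this).2

end Common

end Groth.Agent.Helper1.NM
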