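import Mathlib
import Groth.Agent.Lib.Helper1.SnapPos8
import Groth.Agent.Lib.Helper5.Misc.WeilGeo

/-!
# Curves in the fibres of a proper morphism (helper1)

A proper morphism from a proper `k`-scheme which contracts no curve inside the preimage of an
open set is quasi-finite, hence finite, over that open set.
-/

set_option autoImplicit false
universe u
open CategoryTheory CategoryTheory.Limits AlgebraicGeometry TopologicalSpace Opposite

namespace Groth.Agent.Helper1.NM

open Groth.Agent.Helper1 Groth.Agent.Helper1.Euler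

section Top

variable {T : Type*} [TopologicalSpace T]

/-- the dimension of the closure of a point of a closed subspace, computed in the subspace -/
theorem dim_closure_subtype (S : Set T) (hS : IsClosed S) (ξ : ↥S) :
    topologicalKrullDim ↥(closure ({ξ.1} : Set T)) =
      topologicalKrullDim ↥(closure ({ξ} : Set ↥S)) := by
  set A : Set ↥S := closure ({ξ} : Set ↥S) with hA
  have hcl : closure ({ξ.1} : Set T) = Subtype.val '' A := by
    rw [hA, ← hS.isClosedEmbedding_subtypeVal.closure_image_eq, Set.image_singleton]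
  let φ : ↥A → T := fun a => (a.1 : ↥S).1
  have hφ : Topology.IsEmbedding φ :=
    Topology.IsEmbedding.subtypeVal.comp Topology.IsEmbedding.subtypeVal
  have hrange : Set.range φ = Subtype.val '' A := by
    ext t
    constructor
    · rintro ⟨a, rfl⟩
      exact ⟨a.1, a.2, rfl⟩
    · rintro ⟨s, hs, rfl⟩
      exact ⟨⟨s, hs⟩, rfl⟩
  have h1 := IsHomeomorph.topologicalKrullDim_eq _ (hφ.toHomeomorph).isHomeomorph
  rw [hcl, ← hrange, ← h1]

/-- a closed subset of dimension `d` of a quasi-sober space contains points whose closures have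
any prescribed dimension `j ≤ d` -/
theorem exists_point_dim_le [QuasiSober T] : ∀ (d : ℕ) (S : Set T), IsClosed S →
    topologicalKrullDim ↥S = ((d : ℕ) : WithBot ℕ∞) → ∀ j : ℕ, j ≤ d →
    ∃ ξ ∈ S, topologicalKrullDim ↥(closure ({ξ} : Set T)) = ((j : ℕ) : WithBot ℕ∞) := by
  intro d
  induction d with
  | zero =>
    intro S hS h j hj
    obtain rfl : j = 0 := by omega
    exact SnapPos.exists_point_dim_of_closed S hS 0 h
  | succ e ih =>
    intro S hS h j hj
    rcases Nat.eq_or_lt_of_le hj with rfl | hlt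
    · exact SnapPos.exists_point_dim_of_closed S hS _ h
    · haveI : QuasiSober ↥S := hS.isClosedEmbedding_subtypeVal.quasiSober
      obtain ⟨ξ, hξ⟩ := SnapPos.exists_point_dim_eq e h
      have h2 : topologicalKrullDim ↥(closure ({ξ.1} : Set T)) = ((e : ℕ) : WithBot ℕ∞) := by
        rw [dim_closure_subtype S hS ξ]
        exact hξ
      obtain ⟨ξ', hξ'mem, hξ'⟩ := ih (closure {ξ.1}) isClosed_closure h2 j (by omega)
      exact ⟨ξ', (hS.closure_subset_iff.2 (Set.singleton_subset_iff.2 ξ.2)) hξ'mem, hξ'⟩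

theorem exists_nat_eq {v : WithBot ℕ∞} (h1 : (1 : WithBot ℕ∞) ≤ v) (h2 : v < ⊤) :
    ∃ n : ℕ, 1 ≤ n ∧ v = ((n : ℕ) : WithBot ℕ∞) := by
  induction v using WithBot.recBotCoe with
  | bot => exact absurd h1 (by simp)
  | coe a =>
    have h' : a < ⊤ := WithBot.coe_lt_coe.mp h2
    obtain ⟨m, rfl⟩ := ENat.ne_top_iff_exists.mp h'.ne
    refine ⟨m, ?_, rfl⟩
    exact_mod_cast h1

/-- in a closed subset `F` of a Noetherian quasi-sober space, a closed point which is not isolated
in `F` is a proper specialization of a point of `F` -/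
theorem exists_generization_of_not_isOpen [NoetherianSpace T] [QuasiSober T] (F : Set T)
    (hF : IsClosed F) (x : ↥F) (hx : IsClosed ({x.1} : Set T))
    (hno : ¬ IsOpen ({x} : Set ↥F)) :
    ∃ η ∈ F, η ≠ x.1 ∧ x.1 ∈ closure ({η} : Set T) := by
  classical
  haveI : QuasiSober ↥F := hF.isClosedEmbedding_subtypeVal.quasiSober
  have hxcl : IsClosed ({x} : Set ↥F) := by
    have : ({x} : Set ↥F) = Subtype.val ⁻¹' ({x.1} : Set T) := by
      ext y
      simp only [Set.mem_singleton_iff, Set.mem_preimage]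
      exact ⟨fun h => by rw [h], fun h => Subtype.ext h⟩
    rw [this]
    exact hx.preimage continuous_subtype_val
  set 𝒞 : Set (Set ↥F) := {Z | Z ∈ irreducibleComponents ↥F ∧ x ∉ Z} with h𝒞
  have hfin : 𝒞.Finite :=
    (NoetherianSpace.finite_irreducibleComponents (α := ↥F)).subset (fun Z hZ => hZ.1)
  set W : Set ↥F := ⋃ Z ∈ 𝒞, Z with hW
  have hWcl : IsClosed W :=
    hfin.isClosed_biUnion (fun Z hZ => isClosed_of_mem_irreducibleComponents Z hZ.1)
  have hxW : x ∉ W := by
    rw [hW, Set.mem_iUnion₂]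
    rintro ⟨Z, hZ, hxZ⟩
    exact hZ.2 hxZ
  obtain ⟨y, hyW, hyx⟩ : ∃ y, y ∉ W ∧ y ≠ x := by
    by_contra hcon
    push Not at hcon
    apply hno
    have : ({x} : Set ↥F) = Wᶜ := by
      ext y
      simp only [Set.mem_singleton_iff, Set.mem_compl_iff]
      constructor
      · rintro rfl
        exact hxW
      · intro hy
        exact hcon y hy
    rw [this]
    exact hWcl.isOpen_compl
  have hxZy : x ∈ irreducibleComponent y := by
    by_contra hcon
    apply hyW
    rw [hW, Set.mem_iUnion₂]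
    exact ⟨irreducibleComponent y, ⟨irreducibleComponent_mem_irreducibleComponents y, hcon⟩,
      mem_irreducibleComponent⟩
  obtain ⟨η, hη⟩ := QuasiSober.sober (isIrreducible_irreducibleComponent (x := y))
    (isClosed_irreducibleComponent (x := y))
  have hcl : closure ({η} : Set ↥F) = irreducibleComponent y := hη.def
  have hηx : η ≠ x := by
    intro h
    have h1 : y ∈ closure ({η} : Set ↥F) := by
      rw [hcl]
      exact mem_irreducibleComponent
    rw [h, hxcl.closure_eq] at h1
    exact hyx h1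
  refine ⟨η.1, η.2, fun h => hηx (Subtype.ext h), ?_⟩
  have h1 : x ∈ closure ({η} : Set ↥F) := by
    rw [hcl]
    exact hxZy
  rw [closure_subtype, Set.image_singleton] at h1
  exact h1

/-- a proper generization of a closed point contains a curve -/
theorem exists_curve_of_generization [QuasiSober T] (hfin : topologicalKrullDim T < ⊤) (x η : T)
    (hx : IsClosed ({x} : Set T)) (hne : η ≠ x) (hspec : x ∈ closure ({η} : Set T)) :
    ∃ ξ ∈ closure ({η} : Set T),
      topologicalKrullDim ↥(closure ({ξ} : Set T)) = ((1 : ℕ) : WithBot ℕ∞) := by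
  have hAB : ({x} : Set T) ⊂ closure ({η} : Set T) := by
    refine ⟨Set.singleton_subset_iff.2 hspec, fun h => hne ?_⟩
    exact h (subset_closure (Set.mem_singleton η))
  have h1 := FinLen.krullDim_add_one_le_of_ssubset isIrreducible_singleton hx
    isIrreducible_singleton.closure hAB
  haveI : Nonempty (IrreducibleCloseds ↥({x} : Set T)) := by
    haveI : IrreducibleSpace ↥({x} : Set T) :=
      (isIrreducible_iff_irreducibleSpace).1 isIrreducible_singleton
    exact ⟨⟨Set.univ, IrreducibleSpace.isIrreducible_univ _, isClosed_univ⟩⟩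
  have h0 : (0 : WithBot ℕ∞) ≤ topologicalKrullDim ↥({x} : Set T) := Order.krullDim_nonneg
  have h2 : (1 : WithBot ℕ∞) ≤ topologicalKrullDim ↥(closure ({η} : Set T)) := by
    calc (1 : WithBot ℕ∞) = 0 + 1 := (zero_add 1).symm
      _ ≤ topologicalKrullDim ↥({x} : Set T) + 1 := add_le_add h0 le_rfl
      _ ≤ _ := h1
  have h3 : topologicalKrullDim ↥(closure ({η} : Set T)) < ⊤ :=
    lt_of_le_of_lt (topologicalKrullDim_subspace_le T _) hfin
  obtain ⟨n, hn1, hn⟩ := exists_nat_eq h2 h3
  exact exists_point_dim_le n (closure {η}) isClosed_closure hn 1 hn1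

end Top

section QF

variable (k : Type u) [Field k] (X : Scheme.{u}) [X.Over (Spec (CommRingCat.of k))]
  [IsProper (X ↘ (Spec (CommRingCat.of k)))]

include k in
/-- a proper morphism is quasi-finite over an open set whose preimage contains no curve -/
theorem le_quasiFiniteLocus {P : Scheme.{u}} (r : X ⟶ P) [IsProper r] (V : P.Opens)
    (hcurve : ∀ ξ : X, topologicalKrullDim ↥(closure ({ξ} : Set X)) = ((1 : ℕ) : WithBot ℕ∞) →
      ¬ (closure ({ξ} : Set X) ⊆ ((r ⁻¹ᵁ V : X.Opens) : Set X))) :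
    r ⁻¹ᵁ V ≤ r.quasiFiniteLocus := by
  haveI : IsNoetherian X := isNoetherian_of_proper k X
  haveI : JacobsonSpace X := LocallyOfFiniteType.jacobsonSpace (X ↘ Spec (CommRingCat.of k))
  have hfin : topologicalKrullDim X < ⊤ :=
    Groth.Agent.Lib.Helper5.Misc.WeilGeo.dim_lt_top_of_finiteType (X ↘ Spec (CommRingCat.of k))
  by_contra hcon
  obtain ⟨x₀, hx₀V, hx₀q⟩ : ∃ x, x ∈ r ⁻¹ᵁ V ∧ x ∉ r.quasiFiniteLocus := by
    by_contra h
    push Not at h
    exact hcon (fun x hx => h x hx)
  set B : Set X := ((r ⁻¹ᵁ V : X.Opens) : Set X) ∩ ((r.quasiFiniteLocus : X.Opens) : Set X)ᶜ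
    with hB
  have hBlc : IsLocallyClosed B :=
    (r ⁻¹ᵁ V).isOpen.isLocallyClosed.inter
      r.quasiFiniteLocus.isOpen.isClosed_compl.isLocallyClosed
  obtain ⟨x, ⟨hxV, hxq⟩, hxcl⟩ :=
    nonempty_inter_closedPoints (⟨x₀, hx₀V, hx₀q⟩ : B.Nonempty) hBlc
  have hxc : IsClosed ({x} : Set X) := hxcl
  set F : Set X := r ⁻¹' {r x} with hF
  have hFcl : IsClosed F := by
    have h1 : IsClosed ({r x} : Set P) := by
      have := r.isClosedMap _ hxc
      rwa [Set.image_singleton] at this
    exact h1.preimage r.continuous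
  have hno : ¬ IsOpen ({(⟨x, rfl⟩ : ↥F)} : Set ↥F) := by
    intro ho
    apply hxq
    change r.QuasiFiniteAt x
    rw [Scheme.Hom.quasiFiniteAt_iff_isOpen_singleton_asFiber,
      ← (r.fiberHomeo (r x)).isOpen_image]
    simp only [Set.image_singleton, Scheme.Hom.asFiber, Homeomorph.apply_symm_apply]
    exact ho
  obtain ⟨η, hηF, hηne, hηspec⟩ :=
    exists_generization_of_not_isOpen F hFcl ⟨x, rfl⟩ hxc hno
  obtain ⟨ξ, hξη, hξd⟩ := exists_curve_of_generization hfin x η hxc hηne hηspec
  apply hcurve ξ hξd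
  intro y hy
  have hy1 : y ∈ closure ({η} : Set X) :=
    (isClosed_closure.closure_subset_iff.2 (Set.singleton_subset_iff.2 hξη)) hy
  have hyF : y ∈ F := (hFcl.closure_subset_iff.2 (Set.singleton_subset_iff.2 hηF)) hy1
  have hyx : r y = r x := hyF
  change r y ∈ V
  rw [hyx]
  exact hxV

include k in
/-- a proper morphism contracting no curve is finite -/
theorem isFinite_of_no_curves {P : Scheme.{u}} (r : X ⟶ P) [IsProper r] {ι : Type*}
    (V : ι → P.Opens) (hV : ∀ p : P, ∃ i, p ∈ V i)
    (hcurve : ∀ (i : ι) (ξ : X),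
      topologicalKrullDim ↥(closure ({ξ} : Set X)) = ((1 : ℕ) : WithBot ℕ∞) →
      ¬ (closure ({ξ} : Set X) ⊆ ((r ⁻¹ᵁ V i : X.Opens) : Set X))) :
    IsFinite r := by
  have h : r.quasiFiniteLocus = ⊤ := by
    refine top_le_iff.mp fun x _ => ?_
    obtain ⟨i, hi⟩ := hV (r x)
    exact le_quasiFiniteLocus k X r (V i) (hcurve i) hi
  haveI : LocallyQuasiFinite r := (Scheme.Hom.quasiFiniteLocus_eq_top_iff r).1 h
  exact IsFinite.of_isProper_of_locallyQuasiFinite r

include k in
/-- a proper morphism is finite over an open set whose preimage contains no curve -/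
theorem isFinite_morphismRestrict {P : Scheme.{u}} (r : X ⟶ P) [IsProper r] (V : P.Opens)
    (hcurve : ∀ ξ : X, topologicalKrullDim ↥(closure ({ξ} : Set X)) = ((1 : ℕ) : WithBot ℕ∞) →
      ¬ (closure ({ξ} : Set X) ⊆ ((r ⁻¹ᵁ V : X.Opens) : Set X))) :
    IsFinite (r ∣_ V) := by
  have hle := le_quasiFiniteLocus k X r V hcurve
  have h : (r ∣_ V).quasiFiniteLocus = ⊤ := by
    refine top_le_iff.mp fun x _ => ?_
    rw [Scheme.Hom.mem_quasiFiniteLocus, ← Scheme.Hom.quasiFiniteAt_comp_iff (g := V.ι),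
      morphismRestrict_ι, Scheme.Hom.quasiFiniteAt_comp_iff_of_isOpenImmersion]
    exact hle x.2
  haveI : LocallyQuasiFinite (r ∣_ V) := (Scheme.Hom.quasiFiniteLocus_eq_top_iff _).1 h
  exact IsFinite.of_isProper_of_locallyQuasiFinite _

include k in
/-- the preimage of an affine open containing no curve is affine -/
theorem isAffineOpen_preimage {P : Scheme.{u}} (r : X ⟶ P) [IsProper r] (V : P.Opens)
    (hVaff : IsAffineOpen V)
    (hcurve : ∀ ξ : X, topologicalKrullDim ↥(closure ({ξ} : Set X)) = ((1 : ℕ) : WithBot ℕ∞) →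
      ¬ (closure ({ξ} : Set X) ⊆ ((r ⁻¹ᵁ V : X.Opens) : Set X))) :
    IsAffineOpen (r ⁻¹ᵁ V) := by
  haveI := isFinite_morphismRestrict k X r V hcurve
  haveI : IsAffine (V : Scheme.{u}) := hVaff
  exact isAffine_of_isAffineHom (r ∣_ V)

end QF

end Groth.Agent.Helper1.NM
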