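import Mathlib
import Groth.Agent.Lib.Helper1.NM1
import Groth.Agent.Lib.Helper1.VA8
import Groth.Agent.Lib.Helper1.AmpleDev4
import Groth.Agent.Lib.Helper1.AmpleLib4
import Groth.Agent.Lib.Helper1.TwistAmpleOpen
import Groth.Agent.Lib.Helper1.PFrame2

/-!
# Morphisms to projective space contracting no curve (helper1)
-/

set_option autoImplicit false
universe u

open CategoryTheory CategoryTheory.Limits AlgebraicGeometry TopologicalSpace Opposite
  HomogeneousLocalization

namespace Groth.Agent.Helper1.NM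

open Groth.Agent.Helper1.QcCech Groth.Agent.Helper1.SubSh Groth.Agent.Helper1.LGen
open Groth.Agent.Helper1 Groth.Agent.Helper1.AmpleLib Groth.Agent.Helper1.TwForm
open Groth.Agent.Helper1.TmulLib Groth.Agent.Helper1.TwistSec Groth.Agent.Helper1.TensGen
open Groth.Agent.Helper1.VA1 Groth.Agent.Helper1.VA2
open Groth.Agent.Helper1.ProjUP5 Groth.Agent.Helper1.PullSec Groth.Agent.Helper1.PullGen
open Groth.Agent.Helper1.ProjUP7 Groth.Agent.Helper1.Euler

set_option synthInstance.maxHeartbeats 400000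

section Map

variable (k : Type u) [Field k] (X : Scheme.{u}) [X.Over (Spec (CommRingCat.of k))]
  [IsProper (X ↘ (Spec (CommRingCat.of k)))]

/-- sections of an invertible module whose loci of generation cover `X` define a proper morphism
to projective space -/
theorem exists_map (G : X.Modules) (hG : PicF.IsInvertible G) (n : ℕ)
    (φ : Fin (n + 1) → (Coh.structureModule X ⟶ G))
    (hcov : ∀ x : X, ∃ j, x ∈ CohB1.genLocus G (φ j)) :
    ∃ (r : X ⟶ CohB1.ProjSpace n k) (D : Fin (n + 1) → (CohB1.ProjSpace n k).Opens),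
      IsProper r ∧
      Nonempty ((Scheme.Modules.pullback r).obj (Twist.twistProjSpace n k 1) ≅ G) ∧
      (∀ j, IsAffineOpen (D j)) ∧ (∀ p, ∃ j, p ∈ D j) ∧
      ∀ j, r ⁻¹ᵁ D j = CohB1.genLocus G (φ j) := by
  set s : Fin (n + 1) → Γ(G, ⊤) := fun j =>
    (φ j).app ⊤ (show Γ(Coh.structureModule X, ⊤) from (1 : Γ(X, ⊤))) with hs
  have hφ : ∀ j, TwistAmple.homOfSec G (s j) = φ j := fun j => (PFrame.eq_homOfSec (φ j)).symm
  have hgen : ProjUP.GeneratedBy G s := by
    apply VA1.generatedBy_of_cover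
    intro x
    obtain ⟨j, hj⟩ := hcov x
    exact ⟨j, by rw [hφ]; exact hj⟩
  obtain ⟨r, hr, τ, hτ⟩ := Groth.Agent.S3572.result (R := k) n
    (X ↘ Spec (CommRingCat.of k)) G hG s hgen
  let 𝒮 := CohB1.polyGrading n k
  have hτ' : ∀ j, τ.hom.app ⊤ (pt 𝒮 (ProjUP8.tX n _) (ProjUP8.htX n _) r j) = s j := hτ
  have hpre : ∀ j, r ⁻¹ᵁ D 𝒮 (ProjUP8.tX n _) j =
      CohB1.genLocus G (TwistAmple.homOfSec G (s j)) :=
    preimage_D 𝒮 (ProjUP8.tX n _) (ProjUP8.htX n _) (ProjUP8.hcov n _) r τ s hτ'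
  haveI : IsProper (r ≫ CohB1.ProjSpace.toSpec n k) := by
    rw [hr]
    infer_instance
  have hrp : IsProper r := IsProper.of_comp r (CohB1.ProjSpace.toSpec n k)
  refine ⟨r, fun j => D 𝒮 (ProjUP8.tX n _) j, hrp, ⟨τ⟩, ?_, ?_, ?_⟩
  · intro j
    exact Proj.isAffineOpen_basicOpen 𝒮 _ (ProjUP8.htX n _ j) one_pos
  · intro p
    exact ProjUP8.hcov n _ p
  · intro j
    rw [hpre, hφ]

include k in
/-- if no curve lies in the locus of generation of one of the sections, the module is ample -/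
theorem isAmple_of_no_curves (G : X.Modules) (hG : PicF.IsInvertible G) (n : ℕ)
    (φ : Fin (n + 1) → (Coh.structureModule X ⟶ G))
    (hcov : ∀ x : X, ∃ j, x ∈ CohB1.genLocus G (φ j))
    (hcurve : ∀ (j : Fin (n + 1)) (ξ : X),
      topologicalKrullDim ↥(closure ({ξ} : Set X)) = ((1 : ℕ) : WithBot ℕ∞) →
      ¬ (closure ({ξ} : Set X) ⊆ ((CohB1.genLocus G (φ j) : X.Opens) : Set X))) :
    CohB1.IsAmple G := by
  obtain ⟨r, D, hrp, ⟨τ⟩, hDaff, hDcov, hpre⟩ := exists_map k X G hG n φ hcov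
  haveI := hrp
  haveI : IsFinite r := isFinite_of_no_curves k X r D hDcov
    (fun j ξ hξ => by rw [hpre j]; exact hcurve j ξ hξ)
  have hO1 := VA5.isAmple_twistProjSpace n k
  exact TwistAmpleOpen.isAmple_of_iso τ
    (AmpleDev.isAmple_pullback_of_isFinite k (CohB1.ProjSpace.toSpec n k)
      (X ↘ Spec (CommRingCat.of k)) r hO1.1 hO1)

include k in
/-- the locus of generation of a section is affine if it contains no curve -/
theorem isAffineOpen_genLocus_of_no_curves (G : X.Modules) (hG : PicF.IsInvertible G) (n : ℕ)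
    (φ : Fin (n + 1) → (Coh.structureModule X ⟶ G))
    (hcov : ∀ x : X, ∃ j, x ∈ CohB1.genLocus G (φ j)) (j : Fin (n + 1))
    (hcurve : ∀ ξ : X, topologicalKrullDim ↥(closure ({ξ} : Set X)) = ((1 : ℕ) : WithBot ℕ∞) →
      ¬ (closure ({ξ} : Set X) ⊆ ((CohB1.genLocus G (φ j) : X.Opens) : Set X))) :
    IsAffineOpen (CohB1.genLocus G (φ j)) := by
  obtain ⟨r, D, hrp, ⟨τ⟩, hDaff, hDcov, hpre⟩ := exists_map k X G hG n φ hcov
  haveI := hrp
  rw [← hpre j]
  exact isAffineOpen_preimage k X r (D j) (hDaff j) (by rw [hpre j]; exact hcurve)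

include k in
/-- finitely many sections of a globally generated invertible module generate it -/
theorem exists_sections (G : X.Modules) (hG : PicF.IsInvertible G)
    (hgen : Curv2.IsGloballyGenerated G) (φ₀ : Coh.structureModule X ⟶ G) :
    ∃ (n : ℕ) (φ : Fin (n + 1) → (Coh.structureModule X ⟶ G)), φ 0 = φ₀ ∧
      ∀ x : X, ∃ j, x ∈ CohB1.genLocus G (φ j) := by
  classical
  haveI : IsNoetherian X := isNoetherian_of_proper k X
  choose σ hσ using fun x => AmpleLib.exists_section_of_globallyGenerated hG hgen x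
  obtain ⟨S, hS⟩ := isCompact_univ.elim_finite_subcover
    (fun x => ((CohB1.genLocus G (σ x) : X.Opens) : Set X))
    (fun x => (CohB1.genLocus G (σ x)).isOpen) (fun x _ => Set.mem_iUnion.2 ⟨x, hσ x⟩)
  set l := S.toList with hl
  refine ⟨l.length, (Fin.cons φ₀ (fun i : Fin l.length => σ (l.get i)) :
    Fin (l.length + 1) → (Coh.structureModule X ⟶ G)), Fin.cons_zero _ _, ?_⟩
  intro x
  have hx := hS (Set.mem_univ x)
  rw [Set.mem_iUnion₂] at hx
  obtain ⟨y, hyS, hxy⟩ := hx
  have hyl : y ∈ l := by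
    rw [hl, Finset.mem_toList]
    exact hyS
  obtain ⟨i, hi⟩ := List.mem_iff_get.1 hyl
  refine ⟨i.succ, ?_⟩
  rw [Fin.cons_succ, hi]
  exact hxy

end Map

end Groth.Agent.Helper1.NM
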