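import Mathlib
import Groth.Agent.Lib.Helper1.NM2
import Groth.Agent.Lib.Helper1.NormGenus1
import Groth.Agent.Lib.Helper1.AmpleRestr
import Groth.Agent.Lib.Helper5.StalkTen.StalkTenS

/-!
# Curves on which a power of an invertible module is trivial (helper1)
-/

set_option autoImplicit false
universe u

open CategoryTheory CategoryTheory.Limits AlgebraicGeometry TopologicalSpace Opposite
  MonoidalCategory

namespace Groth.Agent.Helper1.NM

open Groth.Agent.Helper1 Groth.Agent.Helper1.Euler Groth.Agent.Helper1.Dv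
open Groth.Agent.Helper1.FinLen Groth.Agent.Helper1.TwForm Groth.Agent.Helper1.Curve
open Groth.Agent.Helper1.Snap Groth.Agent.Helper1.SnapPos
open Groth.Agent.Lib.Helper5.StalkAdj Groth.Agent.Lib.Helper5.StalkTenS

section KL

theorem isZero_tensorObj_left {C : Type*} [Category C] [Preadditive C] [MonoidalCategory C]
    [MonoidalPreadditive C] {A : C} (B : C) (h : IsZero A) : IsZero (A ⊗ B) := by
  rw [IsZero.iff_id_eq_zero]
  have h0 : 𝟙 A = 0 := h.eq_of_src _ _
  rw [← MonoidalCategory.id_whiskerRight, h0, MonoidalPreadditive.zero_whiskerRight]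

variable {X : Scheme.{u}}

/-- tensoring with a section which generates along the support is an isomorphism -/
theorem isIso_tensor_map (Q G : X.Modules) (φ : Coh.structureModule X ⟶ G)
    (hsupp : CohB1.support Q ⊆ ((CohB1.genLocus G φ : X.Opens) : Set X)) :
    IsIso ((DCoh.tensorBi.obj Q).map φ) := by
  set ψ := (DCoh.tensorBi.obj Q).map φ with hψ
  have hbij : ∀ x : X, Function.Bijective ((stalkSh X x).map ψ).hom := by
    intro x
    have hnat := stalkTensorIsoS_naturality_right x Q φ
    by_cases hx : x ∈ CohB1.support Q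
    · have hxg := hsupp hx
      obtain ⟨W, hxW, hW⟩ := (GenLoc.mem_genLocus_iff G φ x).1 hxg
      have hb : Function.Bijective ((stalkSh X x).map φ).hom :=
        NormGenus.stalk_bijective_of_app_bijective φ W (fun V hV => hW V hV) x hxW
      haveI : IsIso ((stalkSh X x).map φ) := (ConcreteCategory.isIso_iff_bijective _).2 hb
      have h3 : (stalkSh X x).map ψ = (stalkTensorIsoS X x Q (Coh.structureModule X)).hom ≫
          ((stalkSh X x).obj Q ◁ (stalkSh X x).map φ) ≫ (stalkTensorIsoS X x Q G).inv := by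
        rw [← Category.assoc, ← hnat, Category.assoc, Iso.hom_inv_id, Category.comp_id]
      haveI : IsIso ((stalkSh X x).map ψ) := by
        rw [h3]
        infer_instance
      exact (ConcreteCategory.isIso_iff_bijective _).1 inferInstance
    · have hz : IsZero ((stalkSh X x).obj Q) := (isZero_stalkSh_iff Q x).2 hx
      have hz1 : IsZero ((stalkSh X x).obj
          ((DCoh.tensorBi.obj Q).obj (Coh.structureModule X))) :=
        (isZero_tensorObj_left _ hz).of_iso (stalkTensorIsoS X x Q (Coh.structureModule X))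
      have hz2 : IsZero ((stalkSh X x).obj ((DCoh.tensorBi.obj Q).obj G)) :=
        (isZero_tensorObj_left _ hz).of_iso (stalkTensorIsoS X x Q G)
      haveI := ModuleCat.subsingleton_of_isZero hz1
      haveI := ModuleCat.subsingleton_of_isZero hz2
      exact ⟨fun a b _ => Subsingleton.elim a b, fun b => ⟨0, Subsingleton.elim _ _⟩⟩
  have hker : IsZero (kernel ψ) := isZero_of_support_subset_empty _
    (fun x hx => notMem_support_kernel ψ x (hbij x).1 hx)
  have hcok : IsZero (cokernel ψ) := isZero_of_support_subset_empty _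
    (fun x hx => notMem_support_cokernel ψ x (hbij x).2 hx)
  haveI : Mono ψ := Preadditive.mono_of_isZero_kernel ψ hker
  haveI : Epi ψ := Preadditive.epi_of_isZero_cokernel ψ hcok
  exact isIso_of_mono_of_epi ψ

/-- a module supported in the locus where a section of `G` generates is unchanged by the twist
by `G` -/
noncomputable def tensorIsoOfSupport (Q G : X.Modules) (φ : Coh.structureModule X ⟶ G)
    (hsupp : CohB1.support Q ⊆ ((CohB1.genLocus G φ : X.Opens) : Set X)) :
    Q ≅ CohB1.tensorMod Q G :=
  (Groth.Agent.Lib.Helper5.LTenFlf.tensorUnitIso Q).symm ≪≫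
    @asIso _ _ _ _ ((DCoh.tensorBi.obj Q).map φ) (isIso_tensor_map Q G φ hsupp)

end KL

section K

variable (k : Type u) [Field k] (X : Scheme.{u}) [X.Over (Spec (CommRingCat.of k))]
  [IsProper (X ↘ (Spec (CommRingCat.of k)))] [IsNoetherian X]

/-- the degree on a one-dimensional class as a difference of Euler characteristics -/
theorem lam_one_clSub (L : X.Modules) (hL : PicF.IsInvertible L) (Q : X.Modules)
    (hQ : Coh.IsCoh Q) :
    lam k X L hL 1 (KZero.clSub (PC X) Q) =
      Curv2.euler k X (CohB1.tensorMod Q L) - Curv2.euler k X Q := by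
  have hLc : Coh.IsCoh L := InvQc.isCoh_of_isInvertible _ hL
  rw [lam_apply, pow_one]
  change eulerHom k X (T L hL (KZero.clSub (PC X) Q) - KZero.clSub (PC X) Q) = _
  rw [map_sub, T_clSub' L hL Q hQ, eulerHom_clSub k X _ (isCoh_tensor Q L hQ hLc),
    eulerHom_clSub k X _ hQ]

/-- if a positive power of `L` has a section generating along the support of a module `Q` of
dimension at most one, then the degree of `L` on `Q` vanishes -/
theorem lam_one_eq_zero (L : X.Modules) (hL : PicF.IsInvertible L) (m : ℕ)
    (φ : Coh.structureModule X ⟶ CohB1.tensorPow L (m + 1)) (Q : X.Modules) (hQ : Coh.IsCoh Q)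
    (hd : topologicalKrullDim ↥(CohB1.support Q) ≤ ((1 : ℕ) : WithBot ℕ∞))
    (hsupp : CohB1.support Q ⊆ ((CohB1.genLocus _ φ : X.Opens) : Set X)) :
    lam k X L hL 1 (KZero.clSub (PC X) Q) = 0 := by
  set y := KZero.clSub (PC X) Q with hy
  have e := tensorIsoOfSupport Q _ φ hsupp
  have h1 : ((T L hL) ^ (m + 1)) y = y := by
    rw [hy, ← clSub_tensor_tensorPow L hL Q hQ (m + 1)]
    exact clSub_iso e hQ
  have hmem : y ∈ FilLT X 2 := clSub_mem_FilLT 1 Q hQ hd
  have hgeom : lam k X L hL 0 (((T L hL) ^ (m + 1) - 1) y) =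
      ((m + 1 : ℕ) : ℤ) * lam k X L hL 1 y := lam_geom k X L hL 0 (m + 1) y hmem
  have h2 : ((T L hL) ^ (m + 1) - 1) y = 0 := by
    change ((T L hL) ^ (m + 1)) y - y = 0
    rw [h1, sub_self]
  rw [h2, map_zero] at hgeom
  have hm : ((m + 1 : ℕ) : ℤ) ≠ 0 := by exact_mod_cast Nat.succ_ne_zero m
  rcases mul_eq_zero.1 hgeom.symm with h | h
  · exact absurd h hm
  · exact h

/-- positivity of the degree on an integral closed subscheme on which `L` is ample -/
theorem pos_of_ample_restriction (L : X.Modules) (hL : PicF.IsInvertible L) (ξ : X) (e : ℕ)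
    (hξ : topologicalKrullDim ↥(closure ({ξ} : Set X)) = ((e : ℕ) : WithBot ℕ∞))
    (hamp : CohB1.IsAmple ((Scheme.Modules.pullback (IntMult.ptIdeal ξ).subschemeι).obj L)) :
    0 < lam k X L hL e (KZero.clSub (PC X) (Cyc.closureStructureSheaf ξ)) := by
  set I := IntMult.ptIdeal ξ with hI
  let ι := I.subschemeι
  letI : I.subscheme.Over (Spec (CommRingCat.of k)) := ⟨ι ≫ (X ↘ Spec (CommRingCat.of k))⟩
  haveI : IsProper (I.subscheme ↘ Spec (CommRingCat.of k)) := by
    change IsProper (ι ≫ (X ↘ Spec (CommRingCat.of k))); infer_instance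
  haveI : IsNoetherian I.subscheme := isNoetherian_of_proper k I.subscheme
  haveI : IsIntegral I.subscheme := isIntegral_ptIdeal_subscheme ξ
  set LZ := (Scheme.Modules.pullback ι).obj L with hLZ
  have hdimZ : topologicalKrullDim I.subscheme = ((e : ℕ) : WithBot ℕ∞) := by
    have h1 := IsHomeomorph.topologicalKrullDim_eq _
      (ι.isClosedEmbedding.isEmbedding.toHomeomorph).isHomeomorph
    rw [h1]
    have h2 : Set.range ι = closure {ξ} := range_ptIdeal_subschemeι ξ
    rw [h2]
    exact hξ
  have hZ := pos_int k e I.subscheme LZ hamp hdimZ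
  rw [lam_eq_of_gfun_eq k X I.subscheme L hL LZ hamp.1
    (KZero.clSub (PC X) (Cyc.closureStructureSheaf ξ))
    (KZero.clSub (PC I.subscheme) (Coh.structureModule I.subscheme)) ?_ e]
  · exact hZ
  · intro n
    rw [gfun_clSub k X L hL _ (isCoh_closureStructureSheaf ξ) n,
      gfun_clSub k I.subscheme LZ hamp.1 _ (isCoh_structureModule _) n]
    exact (euler_tensorPows_subscheme k X I 1 (fun _ => L) (fun _ => hL) (fun _ => n)).symm

/-- **strictly nef and semiample implies ample** -/
theorem isAmple_of_strictly_nef (L : X.Modules) (hL : PicF.IsInvertible L) (m : ℕ)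
    (hgen : Curv2.IsGloballyGenerated (CohB1.tensorPow L (m + 1)))
    (hnef : ∀ ξ : X, topologicalKrullDim ↥(closure ({ξ} : Set X)) = ((1 : ℕ) : WithBot ℕ∞) →
      lam k X L hL 1 (KZero.clSub (PC X) (Cyc.closureStructureSheaf ξ)) ≠ 0) :
    CohB1.IsAmple L := by
  have hG := isInvertible_tensorPow hL (m + 1)
  obtain ⟨n, φ, -, hcov⟩ := exists_sections k X _ hG hgen 0
  have hamp : CohB1.IsAmple (CohB1.tensorPow L (m + 1)) := by
    apply isAmple_of_no_curves k X _ hG n φ hcov
    intro j ξ hξ hsub
    apply hnef ξ hξ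
    apply lam_one_eq_zero k X L hL m (φ j) _ (isCoh_closureStructureSheaf ξ)
    · exact (krullDim_le_of_subset (support_closureStructureSheaf ξ)).trans hξ.le
    · exact (support_closureStructureSheaf ξ).trans hsub
  exact (AmpleLib.isAmple_tensorPow_iff hL (m + 1) (Nat.succ_pos m)).2 hamp

end K

end Groth.Agent.Helper1.NM
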