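import Mathlib
import Groth.Agent.Lib.Helper1.NM3
import Groth.Agent.Lib.Helper1.CurveDual2

/-!
# Intersection numbers of integral closed subschemes with an invertible module (helper1)
-/

set_option autoImplicit false
universe u

open CategoryTheory CategoryTheory.Limits AlgebraicGeometry TopologicalSpace Opposite

namespace Groth.Agent.Helper1.NM

open Groth.Agent.Helper1 Groth.Agent.Helper1.Euler Groth.Agent.Helper1.Dv
open Groth.Agent.Helper1.FinLen Groth.Agent.Helper1.TwForm Groth.Agent.Helper1.Curve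
open Groth.Agent.Helper1.Snap Groth.Agent.Helper1.SnapPos Groth.Agent.Helper1.SnapAlg

section Supp

variable {X : Scheme.{u}}

theorem coe_support_ptIdeal (ξ : X) :
    ((IntMult.ptIdeal ξ).support : Set X) = closure {ξ} := by
  rw [← Scheme.IdealSheafData.range_subschemeι]
  exact range_ptIdeal_subschemeι ξ

theorem dim_support_ptIdeal (ξ : X) (d : ℕ)
    (h : topologicalKrullDim ↥(closure ({ξ} : Set X)) = ((d : ℕ) : WithBot ℕ∞)) :
    topologicalKrullDim ((IntMult.ptIdeal ξ).support : Set X) = ((d : ℕ) : WithBot ℕ∞) := by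
  rw [coe_support_ptIdeal, h]

theorem support_quotMod (Z : X.IdealSheafData) :
    CohB1.support (ClSub.quotMod Z) = (Z.support : Set X) := by
  apply Set.Subset.antisymm (CurveDual.support_quotMod_subset Z)
  rw [← Scheme.IdealSheafData.range_subschemeι]
  exact range_subset_support_push_structure Z.subschemeι

theorem closureStructureSheaf_eq (ξ : X) :
    Cyc.closureStructureSheaf ξ = ClSub.quotMod (IntMult.ptIdeal ξ) := rfl

end Supp

section K

variable (k : Type u) [Field k] (X : Scheme.{u}) [X.Over (Spec (CommRingCat.of k))]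
  [IsProper (X ↘ (Spec (CommRingCat.of k)))] [IsNoetherian X]

/-- the coefficient of `n_1 ⋯ n_d` of the polynomial computing `χ(F ⊗ L^{n_1} ⊗ ⋯ ⊗ L^{n_d})` -/
theorem coeff_eq_lam_of_eval (L : X.Modules) (hL : PicF.IsInvertible L) (F : X.Modules)
    (hF : Coh.IsCoh F) (d : ℕ)
    (hd : topologicalKrullDim ↥(CohB1.support F) ≤ ((d : ℕ) : WithBot ℕ∞))
    (P : MvPolynomial (Fin d) ℚ)
    (hP : ∀ n : Fin d → ℕ, (Curv2.euler k X (Curv2.tensorPows F d (fun _ => L) n) : ℚ) =
      MvPolynomial.eval (fun i => (n i : ℚ)) P) :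
    MvPolynomial.coeff (ones d) P = ((lam k X L hL d (KZero.clSub (PC X) F) : ℤ) : ℚ) := by
  set y := KZero.clSub (PC X) F with hy
  obtain ⟨P₀, hP₀d, hP₀⟩ := snapper k X F hF d hd d (fun _ => L) (fun _ => hL)
  have hPP₀ : P = P₀ := eq_of_eval_nat_eq P P₀ (fun n => by rw [← hP n, ← hP₀ n])
  have hPd : P.totalDegree ≤ d := hPP₀ ▸ hP₀d
  have hval : ∀ n : Fin d → ℕ, ((gfun k X L hL y (∑ i, n i) : ℤ) : ℚ) =
      MvPolynomial.eval (fun i => (n i : ℚ)) P := by
    intro n
    rw [← hP n]
    congr 1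
    unfold gfun
    rw [← Tn_const L hL d n, hy, ← clSub_tensorPows _ hF d (fun _ => L) (fun _ => hL) n,
      eulerHom_clSub k X _ (isCoh_tensorPows _ hF d _ (fun _ => hL) n)]
  exact coeff_eq_lam k X L hL d y P hPd hval

/-- positivity of the intersection number of an ample module with a closed subscheme -/
theorem pos_quotMod (L : X.Modules) (hamp : CohB1.IsAmple L) (Z : X.IdealSheafData) (d : ℕ)
    (hdim : topologicalKrullDim (Z.support : Set X) = ((d : ℕ) : WithBot ℕ∞)) :
    0 < lam k X L hamp.1 d (KZero.clSub (PC X) (ClSub.quotMod Z)) := by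
  obtain ⟨ξ₀, hξ₀, hξ₀d⟩ := exists_point_dim_of_closed (Z.support : Set X) Z.support.isClosed d hdim
  apply pos_coh k d X L hamp _ (CurveDual.isCoh_quotMod Z) ?_ ξ₀ ?_ hξ₀d
  · rw [support_quotMod]
    exact hdim.le
  · rw [support_quotMod]
    exact hξ₀

end K

end Groth.Agent.Helper1.NM
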