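import Mathlib
import Groth.Agent.Lib.Helper1.NM10
import Groth.Agent.Lib.Helper1.NM11
import Groth.Agent.Lib.Helper1.NM12
import Groth.Agent.Lib.Helper1.NM3
import Groth.Agent.Lib.Helper1.NM4
import Groth.Agent.Lib.Helper1.AffStrat4
import Groth.Agent.Lib.Helper1.Dv41
import Groth.Agent.Lib.Helper1.AmpleDev4
import Groth.Agent.Lib.Helper1.VBP11
import Groth.Agent.Lib.Helper1.FinPush
import Groth.Agent.Lib.Helper1.Euler4
import Groth.Agent.S0051

/-!
# Auxiliary statements for the Nakai--Moishezon criterion (helper1)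
-/

set_option autoImplicit false
universe u

open CategoryTheory CategoryTheory.Limits AlgebraicGeometry TopologicalSpace Opposite

namespace Groth.Agent.Helper1.NM

open Groth.Agent.Helper1.QcCech Groth.Agent.Helper1 Groth.Agent.Helper1.TwForm
open Groth.Agent.Helper1.Snap Groth.Agent.Helper1.SnapPos Groth.Agent.Helper1.Dv
open Groth.Agent.Lib.Helper4

section Elem

theorem exists_nat_eq' {v : WithBot ℕ∞} (h1 : v ≠ ⊥) (h2 : v < ⊤) :
    ∃ n : ℕ, v = ((n : ℕ) : WithBot ℕ∞) := by
  induction v using WithBot.recBotCoe with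
  | bot => exact absurd rfl h1
  | coe a =>
    have h' : a < ⊤ := WithBot.coe_lt_coe.mp h2
    obtain ⟨m, rfl⟩ := ENat.ne_top_iff_exists.mp h'.ne
    exact ⟨m, rfl⟩

theorem topologicalKrullDim_ne_bot (T : Type*) [TopologicalSpace T] [Nonempty T] :
    topologicalKrullDim T ≠ ⊥ := by
  unfold topologicalKrullDim
  rw [ne_eq, Order.krullDim_eq_bot_iff, not_isEmpty_iff]
  obtain ⟨x⟩ := ‹Nonempty T›
  exact ⟨⟨closure {x}, isIrreducible_singleton.closure, isClosed_closure⟩⟩

end Elem

section Ann

variable {Y : Scheme.{u}}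

/-- a coherent module is killed by an ideal sheaf whose support avoids any given point outside
the support of the module -/
theorem exists_ideal_of_notMem_support (Q : Y.Modules) (hQ : Coh.IsCoh Q) (x : Y)
    (hx : x ∉ CohB1.support Q) :
    ∃ K : Y.IdealSheafData, ClSub.KilledByIdeal K Q ∧ x ∉ K.support := by
  haveI := hQ.1
  have hfin : AffStrat.FinSec Q := fun W hW => FinPush.finite_sections Q hQ hW
  refine ⟨AffStrat.annI Q hfin, ?_, ?_⟩
  · intro U a ha m
    exact Module.mem_annihilator.1 ha m
  · have hcl : IsClosed (CohB1.support Q) := FtGen.isClosed_support Q hQ.2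
    obtain ⟨_, ⟨W, hWaff, rfl⟩, hxW, hWsub⟩ :=
      Y.isBasis_affineOpens.exists_subset_of_mem_open
        (show x ∈ (CohB1.support Q)ᶜ from hx) hcl.isOpen_compl
    exact AffStrat.not_mem_support_annI Q hfin W hWaff
      (Dv.subsingleton_sections_of_disjoint_support Q W (fun y hy => hWsub hy)) x hxW

end Ann

section Transfer

variable (k : Type u) [Field k] (X : Scheme.{u}) [X.Over (Spec (CommRingCat.of k))]
  [IsProper (X ↘ (Spec (CommRingCat.of k)))]

include k in
/-- ampleness on the scheme-theoretic image of a closed immersion gives ampleness of the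
pullback -/
theorem isAmple_pullback_of_ker {V : Scheme.{u}} (c : V ⟶ X) [IsClosedImmersion c]
    {L : X.Modules} (hL : PicF.IsInvertible L)
    (h : CohB1.IsAmple ((Scheme.Modules.pullback c.ker.subschemeι).obj L)) :
    CohB1.IsAmple ((Scheme.Modules.pullback c).obj L) := by
  have hθ : c.toImage ≫ c.imageι = c := c.toImage_imageι
  have h1 := AmpleDev.isAmple_pullback_of_isFinite k
    (c.imageι ≫ (X ↘ Spec (CommRingCat.of k)))
    (c.toImage ≫ c.imageι ≫ (X ↘ Spec (CommRingCat.of k))) c.toImage
    (PullGen.isInvertible_pullback c.imageι hL) h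
  exact TwistAmpleOpen.isAmple_of_iso
    ((Scheme.Modules.pullbackComp c.toImage c.imageι).app L ≪≫
      (Scheme.Modules.pullbackCongr hθ).app L) h1

variable [IsNoetherian X] (Y : Scheme.{u}) [Y.Over (Spec (CommRingCat.of k))]
  [IsProper (Y ↘ (Spec (CommRingCat.of k)))] [IsNoetherian Y]

/-- the leading coefficients of `O_Y` for `q^* L` and of `q_* O_Y` for `L` agree -/
theorem lam_push_eq (q : Y ⟶ X) [IsAffineHom q]
    (hq : q ≫ (X ↘ Spec (CommRingCat.of k)) = Y ↘ Spec (CommRingCat.of k))
    (L : X.Modules) (hL : PicF.IsInvertible L)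
    (hc : Coh.IsCoh ((Scheme.Modules.pushforward q).obj (Coh.structureModule Y))) (e : ℕ) :
    lam k Y ((Scheme.Modules.pullback q).obj L) (PullGen.isInvertible_pullback q hL) e
        (KZero.clSub (PC Y) (Coh.structureModule Y)) =
      lam k X L hL e
        (KZero.clSub (PC X) ((Scheme.Modules.pushforward q).obj (Coh.structureModule Y))) := by
  apply lam_eq_of_gfun_eq
  intro n
  rw [gfun_clSub k Y _ _ _ (Dv.isCoh_structureModule Y) n, gfun_clSub k X L hL _ hc n]
  have h1 := VBP.euler_push_tensor k q hq (M := Coh.structureModule Y) GenLoc.isInvertible_O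
    (N := CohB1.tensorPow L n) (isInvertible_tensorPow hL n)
  rw [← h1]
  exact Euler.euler_iso k Y
    (TwistTens.tensorModCongrRight (Coh.structureModule Y) (PullPow.powIso q hL n).symm)

end Transfer

section OnY

variable (k : Type u) [Field k] (Y : Scheme.{u}) [Y.Over (Spec (CommRingCat.of k))]
  [IsProper (Y ↘ (Spec (CommRingCat.of k)))] [IsNoetherian Y]

theorem tendsto_euler_pow (M : Y.Modules) (hM : PicF.IsInvertible M) (d' : ℕ)
    (hdim : topologicalKrullDim ↥Y ≤ ((d' + 1 : ℕ) : WithBot ℕ∞))
    (hpos : 0 < lam k Y M hM (d' + 1) (KZero.clSub (PC Y) (Coh.structureModule Y))) :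
    Filter.Tendsto (fun n => Curv2.euler k Y (CohB1.tensorPow M n))
      Filter.atTop Filter.atTop := by
  have hO := Dv.isCoh_structureModule Y
  have h1 := tendsto_euler_of_lam_pos k Y M hM _ hO d'
    ((topologicalKrullDim_subspace_le _ _).trans hdim) hpos
  refine h1.congr (fun n => ?_)
  exact Euler.euler_iso k Y
    (TildeTens.tensorModComm _ _ ≪≫ Groth.Agent.Lib.Helper5.LTenFlf.tensorUnitIso _)

include k in
theorem isAmple_of_dim_le_zero (M : Y.Modules) (hM : PicF.IsInvertible M)
    (hdim : topologicalKrullDim ↥Y ≤ 0) : CohB1.IsAmple M := by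
  refine (Groth.Agent.S0051.result k Y (Y ↘ Spec (CommRingCat.of k)) M hM).2
    (fun F hF => ⟨0, fun n _ p hp => ?_⟩)
  have hc : Coh.IsCoh (CohB1.tensorMod F (CohB1.tensorPow M n)) :=
    Euler.isCoh_tensor _ _ hF (InvQc.isCoh_of_isInvertible _ (isInvertible_tensorPow hM n))
  exact Euler.subsingleton_HH_of_dim_le_zero _ hc
    ((topologicalKrullDim_subspace_le _ _).trans hdim) p hp

/-- on a curve, positivity of the degree on the whole curve gives non-vanishing at its generic
point -/
theorem lam_one_ne_zero_of_dense (M : Y.Modules) (hM : PicF.IsInvertible M) (ξ : Y)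
    (hcl : closure ({ξ} : Set Y) = Set.univ)
    (hξ : topologicalKrullDim ↥(closure ({ξ} : Set Y)) = ((1 : ℕ) : WithBot ℕ∞))
    (hpos : 0 < lam k Y M hM 1 (KZero.clSub (PC Y) (Coh.structureModule Y))) :
    lam k Y M hM 1 (KZero.clSub (PC Y) (Cyc.closureStructureSheaf ξ)) ≠ 0 := by
  intro h0
  have hdim : topologicalKrullDim ↥(CohB1.support (Coh.structureModule Y)) ≤
      ((1 : ℕ) : WithBot ℕ∞) := by
    refine (topologicalKrullDim_subspace_le _ _).trans ?_
    rw [← hξ, hcl]
    exact (IsHomeomorph.topologicalKrullDim_eq _ (Homeomorph.Set.univ Y).isHomeomorph).ge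
  have hc := lam_cycle k Y M hM _ (Dv.isCoh_structureModule Y) 1 hdim
  rw [hc] at hpos
  have hz : (∑ᶠ ξ' : Y, (if topologicalKrullDim (closure ({ξ'} : Set Y)) =
      ((1 : ℕ) : WithBot ℕ∞) then
        ((Module.length (Y.presheaf.stalk ξ')
          ((Coh.structureModule Y).presheaf.stalk ξ')).toNat : ℤ) *
          lam k Y M hM 1 (KZero.clSub (PC Y) (Cyc.closureStructureSheaf ξ')) else 0)) = 0 := by
    apply finsum_eq_zero_of_forall_eq_zero
    intro ξ'
    split_ifs with h1
    · have hcl' : closure ({ξ'} : Set Y) = closure {ξ} := by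
        by_contra hne
        have hss : closure ({ξ'} : Set Y) ⊂ closure {ξ} := by
          rw [hcl]
          exact ⟨Set.subset_univ _, fun h => hne (by rw [hcl]; exact Set.eq_univ_of_univ_subset h)⟩
        have h2 := FinLen.krullDim_add_one_le_of_ssubset
          (isIrreducible_singleton.closure) isClosed_closure
          (isIrreducible_singleton.closure) hss
        rw [h1, hξ] at h2
        exact FinLen.not_coe_add_one_le 1 h2
      have : ξ' = ξ := (inseparable_iff_closure_eq.2 hcl').eq
      rw [this, h0, mul_zero]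
    · rfl
  rw [hz] at hpos
  exact lt_irrefl _ hpos

end OnY

end Groth.Agent.Helper1.NM
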