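import Mathlib
import Groth.Agent.Lib.Helper1.NM13
import Groth.Agent.Lib.Helper1.Curve2
import Groth.Agent.Lib.Helper1.AmpleRestr
import Groth.Agent.Lib.Helper1.SecOps
import Groth.Agent.Lib.Helper1.Dv19
import Groth.Agent.Lib.Helper1.Dv8b
import Groth.Agent.Lib.Helper5.Misc.WeilGeo

/-!
# The Nakai--Moishezon criterion (helper1)
-/

set_option autoImplicit false
universe u

open CategoryTheory CategoryTheory.Limits AlgebraicGeometry TopologicalSpace Opposite

namespace Groth.Agent.Helper1.NM

open Groth.Agent.Helper1.QcCech Groth.Agent.Helper1 Groth.Agent.Helper1.TwForm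
open Groth.Agent.Helper1.Snap Groth.Agent.Helper1.SnapPos Groth.Agent.Helper1.Dv
open Groth.Agent.Lib.Helper4

theorem natCast_inj' {a b : ℕ} (h : ((a : ℕ) : WithBot ℕ∞) = ((b : ℕ) : WithBot ℕ∞)) : a = b := by
  have h5 : ((a : ℕ∞) : WithBot ℕ∞) = ((b : ℕ∞) : WithBot ℕ∞) := by exact_mod_cast h
  have h6 : (a : ℕ∞) = (b : ℕ∞) := WithBot.coe_injective h5
  exact_mod_cast h6

/-- `L` restricts to an ample module on every closed subscheme with underlying set in `S` -/
def AmpleOn {X : Scheme.{u}} (L : X.Modules) (S : Set X) : Prop :=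
  ∀ (V : Scheme.{u}) (c : V ⟶ X) [IsClosedImmersion c], Set.range c ⊆ S →
    CohB1.IsAmple ((Scheme.Modules.pullback c).obj L)

section Main

variable (k : Type u) [Field k] (X : Scheme.{u}) [X.Over (Spec (CommRingCat.of k))]
  [IsProper (X ↘ (Spec (CommRingCat.of k)))] [IsNoetherian X]

/-- the positivity hypothesis of the Nakai--Moishezon criterion -/
def NakaiPos (L : X.Modules) (hL : PicF.IsInvertible L) : Prop :=
  ∀ (Z : X.IdealSheafData) [IsIntegral Z.subscheme] (d : ℕ), 0 < d →
    topologicalKrullDim (Z.support : Set X) = ((d : ℕ) : WithBot ℕ∞) →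
    0 < lam k X L hL d (KZero.clSub (PC X) (ClSub.quotMod Z))

theorem main_step (L : X.Modules) (hL : PicF.IsInvertible L) (H : NakaiPos k X L hL)
    (J : X.IdealSheafData) [IsIntegral J.subscheme]
    (hIH : ∀ S' : Set X, IsClosed S' → S' ⊂ (J.support : Set X) → AmpleOn L S') :
    CohB1.IsAmple ((Scheme.Modules.pullback J.subschemeι).obj L) := by
  letI : J.subscheme.Over (Spec (CommRingCat.of k)) :=
    ⟨J.subschemeι ≫ (X ↘ Spec (CommRingCat.of k))⟩
  haveI : IsProper (J.subscheme ↘ Spec (CommRingCat.of k)) := by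
    change IsProper (J.subschemeι ≫ (X ↘ Spec (CommRingCat.of k)))
    infer_instance
  haveI : IsNoetherian J.subscheme := Euler.isNoetherian_of_proper k J.subscheme
  have hM : PicF.IsInvertible ((Scheme.Modules.pullback J.subschemeι).obj L) :=
    PullGen.isInvertible_pullback J.subschemeι hL
  -- ampleness on proper closed subschemes
  have IH' : ∀ K : J.subscheme.IdealSheafData, genericPoint J.subscheme ∉ K.support →
      CohB1.IsAmple ((Scheme.Modules.pullback K.subschemeι).obj
        ((Scheme.Modules.pullback J.subschemeι).obj L)) := by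
    intro K hK
    have hcl : IsClosed (Set.range (K.subschemeι ≫ J.subschemeι)) :=
      (K.subschemeι ≫ J.subschemeι).isClosedEmbedding.isClosed_range
    have hss : Set.range (K.subschemeι ≫ J.subschemeι) ⊂ (J.support : Set X) := by
      rw [← J.range_subschemeι]
      refine ⟨?_, fun h => hK ?_⟩
      · rintro _ ⟨z, rfl⟩
        exact ⟨K.subschemeι z, rfl⟩
      · obtain ⟨z, hz⟩ := h ⟨genericPoint J.subscheme, rfl⟩
        have hz' : J.subschemeι (K.subschemeι z) = J.subschemeι (genericPoint J.subscheme) := hz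
        have h2 : K.subschemeι z = genericPoint J.subscheme :=
          J.subschemeι.isClosedEmbedding.injective hz'
        have h3 : K.subschemeι z ∈ (K.support : Set J.subscheme) := by
          rw [← K.range_subschemeι]
          exact ⟨z, rfl⟩
        rw [h2] at h3
        exact h3
    have h1 := hIH _ hcl hss K.subscheme (K.subschemeι ≫ J.subschemeι) subset_rfl
    exact TwistAmpleOpen.isAmple_of_iso
      ((Scheme.Modules.pullbackComp K.subschemeι J.subschemeι).app L).symm h1
  -- Serre vanishing for modules with proper support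
  have hSV : ∀ Q : J.subscheme.Modules, Coh.IsCoh Q →
      genericPoint J.subscheme ∉ CohB1.support Q →
      AmpleDev.SV ((Scheme.Modules.pullback J.subschemeι).obj L) Q := by
    intro Q hQ hη
    obtain ⟨K, hk, hηK⟩ := exists_ideal_of_notMem_support Q hQ _ hη
    exact AmpleDev.SV.of_killed k (J.subscheme ↘ Spec (CommRingCat.of k)) hM K (IH' K hηK) Q hQ hk
  -- the dimension
  have hfinX : topologicalKrullDim X < ⊤ :=
    Groth.Agent.Lib.Helper5.Misc.WeilGeo.dim_lt_top_of_finiteType (X ↘ Spec (CommRingCat.of k))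
  have e1 : topologicalKrullDim ↥J.subscheme = topologicalKrullDim ↥(J.support : Set X) := by
    have := IsHomeomorph.topologicalKrullDim_eq _
      (J.subschemeι.isClosedEmbedding.isEmbedding.toHomeomorph).isHomeomorph
    rwa [J.range_subschemeι] at this
  obtain ⟨d, hd⟩ := exists_nat_eq' (topologicalKrullDim_ne_bot ↥J.subscheme)
    (lt_of_le_of_lt (e1.le.trans (topologicalKrullDim_subspace_le _ _)) hfinX)
  rcases Nat.eq_zero_or_pos d with rfl | hdpos
  · exact isAmple_of_dim_le_zero k J.subscheme _ hM (hd.le.trans (le_of_eq Nat.cast_zero))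
  obtain ⟨d', rfl⟩ : ∃ d', d = d' + 1 := ⟨d - 1, by omega⟩
  have hposX := H J (d' + 1) hdpos (e1.symm.trans hd)
  have hposY : 0 < lam k J.subscheme _ hM (d' + 1)
      (KZero.clSub (PC J.subscheme) (Coh.structureModule J.subscheme)) := by
    rw [lam_push_eq k X J.subscheme J.subschemeι rfl L hL (CurveDual.isCoh_quotMod J) (d' + 1)]
    exact hposX
  have hχ := tendsto_euler_pow k J.subscheme _ hM d' hd.le hposY
  -- a nonzero section of a power
  obtain ⟨N, a, b, ha, hb, hN, hηa, hηb⟩ := exists_common_sub (Y := J.subscheme) hM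
  haveI := ha
  haveI := hb
  have hOc := Dv.isCoh_structureModule J.subscheme
  have hMc : Coh.IsCoh ((Scheme.Modules.pullback J.subschemeι).obj L) :=
    InvQc.isCoh_of_isInvertible _ hM
  obtain ⟨m, hm, hh0⟩ := exists_h0_pos k J.subscheme hM N a b
    (hSV _ (FtLocal.isCoh_cokernel hN hOc a) hηa) (hSV _ (FtLocal.isCoh_cokernel hN hMc b) hηb) hχ
  have hG : PicF.IsInvertible
      (CohB1.tensorPow ((Scheme.Modules.pullback J.subschemeι).obj L) m) :=
    isInvertible_tensorPow hM m
  have hGc := InvQc.isCoh_of_isInvertible _ hG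
  haveI : Module.Finite k (Coh.HH J.subscheme
      (CohB1.tensorPow ((Scheme.Modules.pullback J.subschemeι).obj L) m) 0) :=
    T2Main1.t2 k J.subscheme _ hGc 0
  obtain ⟨v, hv⟩ := (Module.finrank_pos_iff_exists_ne_zero (R := k)).1 hh0
  obtain ⟨s, hs⟩ := Curve.exists_section_of_HH0_ne _ v hv
  haveI : Mono s := Curve.mono_of_ne_zero GenLoc.isInvertible_O hG s hs
  have hbij := Curve.stalkL_bijective_of_ne_zero GenLoc.isInvertible_O hG s hs
  have hηC : genericPoint J.subscheme ∉ CohB1.support (cokernel s) :=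
    Dv.notMem_support_cokernel' s _ hbij.2
  have hCc : Coh.IsCoh (cokernel s) := FtLocal.isCoh_cokernel hOc hGc s
  obtain ⟨K, hk, hηK⟩ := exists_ideal_of_notMem_support (cokernel s) hCc _ hηC
  have hampK : CohB1.IsAmple ((Scheme.Modules.pullback K.subschemeι).obj
      (CohB1.tensorPow ((Scheme.Modules.pullback J.subschemeι).obj L) m)) := by
    have h1 := IH' K hηK
    have h2 := (AmpleLib.isAmple_tensorPow_iff
      (PullGen.isInvertible_pullback K.subschemeι hM) m hm).1 h1
    exact TwistAmpleOpen.isAmple_of_iso (PullPow.powIso K.subschemeι hM m).symm h2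
  obtain ⟨n₀, hn₀⟩ := gg_of_section k J.subscheme hG s K hk hampK
  have hgg : Curv2.IsGloballyGenerated
      (CohB1.tensorPow ((Scheme.Modules.pullback J.subschemeι).obj L) (m * (n₀ + 1))) :=
    AmpleLib.isGloballyGenerated_of_iso (SecOps.powIso' hM m (n₀ + 1)) (hn₀ (n₀ + 1) (by omega))
  obtain ⟨m', hm'⟩ : ∃ m', m * (n₀ + 1) = m' + 1 :=
    ⟨m * (n₀ + 1) - 1, (Nat.sub_add_cancel (Nat.mul_pos hm (Nat.succ_pos n₀))).symm⟩
  rw [hm'] at hgg
  apply isAmple_of_strictly_nef k J.subscheme _ hM m' hgg
  intro ξ hξ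
  by_cases hcl : genericPoint J.subscheme ∈ closure ({ξ} : Set J.subscheme)
  · have hcl' : closure ({ξ} : Set J.subscheme) = Set.univ := by
      apply Set.eq_univ_of_univ_subset
      rw [← (genericPoint_spec J.subscheme).def]
      exact closure_minimal (Set.singleton_subset_iff.2 hcl) isClosed_closure
    have hd1 : d' + 1 = 1 := by
      have h1 : topologicalKrullDim ↥(closure ({ξ} : Set J.subscheme)) =
          topologicalKrullDim ↥J.subscheme := by
        rw [hcl']
        exact IsHomeomorph.topologicalKrullDim_eq _ (Homeomorph.Set.univ _).isHomeomorph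
      rw [hξ, hd] at h1
      exact natCast_inj' h1.symm
    rw [hd1] at hposY
    exact lam_one_ne_zero_of_dense k J.subscheme _ hM ξ hcl' hξ hposY
  · have hK : genericPoint J.subscheme ∉ (IntMult.ptIdeal ξ).support := by
      intro h
      apply hcl
      have h' : genericPoint J.subscheme ∈ ((IntMult.ptIdeal ξ).support : Set J.subscheme) := h
      rwa [coe_support_ptIdeal] at h'
    exact (pos_of_ample_restriction k J.subscheme _ hM ξ 1 hξ (IH' _ hK)).ne'

end Main

end Groth.Agent.Helper1.NM
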