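import Mathlib
import Groth.Agent.Lib.Helper1.NM14

/-!
# The Nakai--Moishezon criterion: the induction (helper1)
-/

set_option autoImplicit false
universe u

open CategoryTheory CategoryTheory.Limits AlgebraicGeometry TopologicalSpace Opposite

namespace Groth.Agent.Helper1.NM

open Groth.Agent.Helper1.QcCech Groth.Agent.Helper1 Groth.Agent.Helper1.TwForm
open Groth.Agent.Helper1.Snap Groth.Agent.Helper1.SnapPos Groth.Agent.Helper1.Dv
open Groth.Agent.Lib.Helper4

section Main

variable (k : Type u) [Field k] (X : Scheme.{u}) [X.Over (Spec (CommRingCat.of k))]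
  [IsProper (X ↘ (Spec (CommRingCat.of k)))] [IsNoetherian X]

theorem ampleOn_closed (L : X.Modules) (hL : PicF.IsInvertible L) (H : NakaiPos k X L hL) :
    ∀ S : Closeds X, AmpleOn L (S : Set X) := by
  intro S
  induction S using WellFoundedLT.induction with
  | _ S ih =>
    intro V c _ hc
    have hMV : PicF.IsInvertible ((Scheme.Modules.pullback c).obj L) :=
      PullGen.isInvertible_pullback c hL
    refine (AmpleDev.isAmple_iff_components k (c ≫ (X ↘ Spec (CommRingCat.of k))) hMV).2 ?_
    intro Z' hZ'
    haveI : IrreducibleSpace ↥(Scheme.IdealSheafData.vanishingIdeal Z').subscheme :=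
      Dv.irreducibleSpace_vanishingIdeal_subscheme Z' hZ'.1
    haveI : IsReduced (Scheme.IdealSheafData.vanishingIdeal Z').subscheme :=
      Dv.isReduced_vanishingIdeal_subscheme Z'
    haveI : IsIntegral (Scheme.IdealSheafData.vanishingIdeal Z').subscheme :=
      isIntegral_of_irreducibleSpace_of_isReduced _
    let v := (Scheme.IdealSheafData.vanishingIdeal Z').subschemeι
    let c' := v ≫ c
    haveI : IsClosedImmersion c' := inferInstanceAs (IsClosedImmersion (v ≫ c))
    haveI : IsIso c'.toImage := inferInstance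
    haveI : Nonempty ↥c'.ker.subscheme :=
      ⟨c'.toImage (genericPoint (Scheme.IdealSheafData.vanishingIdeal Z').subscheme)⟩
    haveI : IsIntegral c'.ker.subscheme := isIntegral_of_isOpenImmersion (inv c'.toImage)
    have hsub : (c'.ker.support : Set X) ⊆ (S : Set X) := by
      rw [Scheme.Hom.support_ker, c'.isClosedEmbedding.isClosed_range.closure_eq]
      rintro _ ⟨z, rfl⟩
      exact hc ⟨v z, rfl⟩
    have hJ := main_step k X L hL H c'.ker (fun S' hS'cl hS' =>
      ih ⟨S', hS'cl⟩ (lt_of_lt_of_le
        (show (⟨S', hS'cl⟩ : Closeds X) < c'.ker.support from SetLike.coe_ssubset_coe.1 hS')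
        (SetLike.coe_subset_coe.1 hsub)))
    have h1 := isAmple_pullback_of_ker k X c' hL hJ
    exact TwistAmpleOpen.isAmple_of_iso ((Scheme.Modules.pullbackComp v c).app L).symm h1

theorem isAmple_of_nakaiPos (L : X.Modules) (hL : PicF.IsInvertible L)
    (H : NakaiPos k X L hL) : CohB1.IsAmple L := by
  have h := ampleOn_closed k X L hL H ⊤ X (𝟙 X) (Set.subset_univ _)
  exact TwistAmpleOpen.isAmple_of_iso ((Scheme.Modules.pullbackId X).app L) h

end Main

section Final

variable (k : Type u) [Field k] (X : Scheme.{u}) [X.Over (Spec (CommRingCat.of k))]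
  [IsProper (X ↘ (Spec (CommRingCat.of k)))]

/-- **Nakai--Moishezon** -/
theorem nakai_moishezon (L : X.Modules) (hL : PicF.IsInvertible L) :
    CohB1.IsAmple L ↔
      ∀ (Z : X.IdealSheafData) [IsIntegral Z.subscheme] (d : ℕ), 0 < d →
        topologicalKrullDim (Z.support : Set X) = d →
        ∀ P : MvPolynomial (Fin d) ℚ,
          (∀ n : Fin d → ℕ,
            (Curv2.euler k X (Curv2.tensorPows (ClSub.quotMod Z) d (fun _ => L) n) : ℚ) =
            MvPolynomial.eval (fun i => (n i : ℚ)) P) →
          0 < MvPolynomial.coeff (Finsupp.equivFunOnFinite.symm fun _ : Fin d => 1) P := by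
  haveI : IsNoetherian X := Euler.isNoetherian_of_proper k X
  constructor
  · intro hamp Z _ d hd hdim P hP
    have hsupp : topologicalKrullDim ↥(CohB1.support (ClSub.quotMod Z)) ≤
        ((d : ℕ) : WithBot ℕ∞) := by
      rw [support_quotMod]
      exact hdim.le
    have h1 := coeff_eq_lam_of_eval k X L hL (ClSub.quotMod Z) (CurveDual.isCoh_quotMod Z) d
      hsupp P hP
    have h2 := pos_quotMod k X L hamp Z d hdim
    change 0 < MvPolynomial.coeff (SnapAlg.ones d) P
    rw [h1]
    exact_mod_cast h2
  · intro H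
    apply isAmple_of_nakaiPos k X L hL
    intro Z _ d hd hdim
    have hsupp : topologicalKrullDim ↥(CohB1.support (ClSub.quotMod Z)) ≤
        ((d : ℕ) : WithBot ℕ∞) := by
      rw [support_quotMod]
      exact hdim.le
    obtain ⟨P, -, hP⟩ := snapper k X (ClSub.quotMod Z) (CurveDual.isCoh_quotMod Z) d hsupp d
      (fun _ => L) (fun _ => hL)
    have h1 := coeff_eq_lam_of_eval k X L hL (ClSub.quotMod Z) (CurveDual.isCoh_quotMod Z) d
      hsupp P hP
    have h2 := H Z d hd hdim P hP
    change 0 < MvPolynomial.coeff (SnapAlg.ones d) P at h2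
    rw [h1] at h2
    exact_mod_cast h2

end Final

end Groth.Agent.Helper1.NM
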