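import Mathlib
import Groth.Agent.Lib.Helper1.Kl1
import Groth.Agent.Lib.Helper1.NM15

/-!
# Mixed intersection symbols of a nef and an ample module (helper1)
-/

set_option autoImplicit false
universe u
open CategoryTheory CategoryTheory.Limits AlgebraicGeometry TopologicalSpace Opposite

namespace Groth.Agent.Helper1.Kleiman

open Groth.Agent.Helper1 Groth.Agent.Helper1.Euler Groth.Agent.Helper1.Dv
open Groth.Agent.Helper1.FinLen Groth.Agent.Helper1.TwForm Groth.Agent.Helper1.Curve
open Groth.Agent.Helper1.Snap Groth.Agent.Helper1.SnapPos Groth.Agent.Helper1.FGAInt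
open Groth.Agent.Helper1.FGAPos

section Fam

variable {X : Scheme.{u}} [AlgebraicGeometry.IsNoetherian X]

theorem T_congr {M M' : X.Modules} (h : M = M') (hM : PicF.IsInvertible M)
    (hM' : PicF.IsInvertible M') : T M hM = T M' hM' := by
  subst h
  rfl

theorem opL_congr {r : ℕ} {F F' : Fin r → X.Modules} (h : F = F')
    (hF : ∀ i, PicF.IsInvertible (F i)) (hF' : ∀ i, PicF.IsInvertible (F' i)) :
    opL r F hF = opL r F' hF' := by
  subst h
  rfl

theorem opL_const' (A : X.Modules) (hA : PicF.IsInvertible A) :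
    ∀ (n : ℕ) (h : ∀ i : Fin n, PicF.IsInvertible ((fun _ : Fin n => A) i)),
      opL n (fun _ : Fin n => A) h = (T A hA - 1) ^ n
  | 0, _ => (pow_zero _).symm
  | n + 1, h => by
    change (T A (h (Fin.last n)) - 1) * opL n (fun _ : Fin n => A) (fun i => h i.castSucc) = _
    rw [opL_const' A hA n, pow_succ']

/-- the family `(A, …, A, L, …, L)` with `n` entries `A` and `m` entries `L` -/
def fam (L A : X.Modules) (m n : ℕ) : Fin (n + m) → X.Modules :=
  fun t => if (t : ℕ) < n then A else L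

omit [AlgebraicGeometry.IsNoetherian X] in
theorem fam_inv {L A : X.Modules} (hL : PicF.IsInvertible L) (hA : PicF.IsInvertible A)
    (m n : ℕ) : ∀ t, PicF.IsInvertible (fam L A m n t) := fun t => by
  unfold fam
  split_ifs
  · exact hA
  · exact hL

theorem opL_fam (L A : X.Modules) (hL : PicF.IsInvertible L) (hA : PicF.IsInvertible A) (n : ℕ) :
    ∀ (m : ℕ) (h : ∀ t, PicF.IsInvertible (fam L A m n t)),
      opL (n + m) (fam L A m n) h = (T L hL - 1) ^ m * (T A hA - 1) ^ n
  | 0, h => by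
    have hfam : fam L A 0 n = fun _ : Fin n => A := by
      funext t
      exact if_pos t.2
    change opL n (fam L A 0 n) h = _
    rw [opL_congr (r := n) hfam h (fun _ => hA), opL_const' A hA n, pow_zero, one_mul]
  | m + 1, h => by
    change (T (fam L A (m + 1) n (Fin.last (n + m))) (h (Fin.last (n + m))) - 1) *
      opL (n + m) (fam L A m n) (fun t => h t.castSucc) = _
    have hlast : fam L A (m + 1) n (Fin.last (n + m)) = L := if_neg (by simp)
    rw [T_congr hlast _ hL, opL_fam L A hL hA n m, pow_succ', mul_assoc]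

end Fam

section Sym

variable (k : Type u) [Field k] (X : Scheme.{u}) [X.Over (Spec (CommRingCat.of k))]
  [IsProper (X ↘ (Spec (CommRingCat.of k)))] [AlgebraicGeometry.IsNoetherian X]

/-- the mixed intersection symbol `(L^m · A^n · y)` -/
noncomputable def sym (L A : X.Modules) (hL : PicF.IsInvertible L) (hA : PicF.IsInvertible A)
    (m n : ℕ) : KZero.K0sub (PC X) →+ ℤ :=
  (eulerHom k X).comp (((T L hL - 1) ^ m * (T A hA - 1) ^ n :
    AddMonoid.End (KZero.K0sub (PC X))) : KZero.K0sub (PC X) →+ KZero.K0sub (PC X))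

omit [AlgebraicGeometry.IsNoetherian X] in
theorem sym_apply (L A : X.Modules) (hL : PicF.IsInvertible L) (hA : PicF.IsInvertible A)
    (m n : ℕ) (y : KZero.K0sub (PC X)) :
    sym k X L A hL hA m n y = eulerHom k X (((T L hL - 1) ^ m * (T A hA - 1) ^ n) y) := rfl

omit [X.Over (Spec (CommRingCat.of k))] in
theorem low_mix (L A : X.Modules) (hL : PicF.IsInvertible L) (hA : PicF.IsInvertible A)
    (m n : ℕ) : Low (m + n) ((T L hL - 1) ^ m * (T A hA - 1) ^ n) :=
  ((low_D L hL).pow m).mul ((low_D A hA).pow n)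

theorem sym_eq_zero (L A : X.Modules) (hL : PicF.IsInvertible L) (hA : PicF.IsInvertible A)
    (m n : ℕ) (y : KZero.K0sub (PC X)) (hy : y ∈ FilLT X (m + n)) :
    sym k X L A hL hA m n y = 0 := by
  rw [sym_apply, (low_mix X L A hL hA m n).eq_zero (m + n) le_rfl y hy, map_zero]

/-- the expansion of the top power of the twisting operator of `L^q ⊗ A^p` -/
theorem euler_twist_expand (L A N : X.Modules) (hL : PicF.IsInvertible L)
    (hA : PicF.IsInvertible A) (hN : PicF.IsInvertible N) (q p : ℕ)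
    (hTN : T N hN = (T L hL) ^ q * (T A hA) ^ p) (a e₀ : ℕ)
    (P₀ : AddMonoid.End (KZero.K0sub (PC X))) (hP₀ : Low e₀ P₀) (y : KZero.K0sub (PC X)) (D : ℕ)
    (hy : y ∈ FilLT X D) (hD : D ≤ e₀ + a + 1) :
    eulerHom k X (P₀ (((T N hN - 1) ^ a) y)) =
      ∑ j ∈ Finset.range (a + 1), ((a.choose j * (q ^ j * p ^ (a - j)) : ℕ) : ℤ) *
        eulerHom k X (P₀ (((T L hL - 1) ^ j * (T A hA - 1) ^ (a - j)) y)) := by
  rw [hTN, twist_pow_apply L A hL hA q p a P₀ e₀ hP₀ y D hy hD, add_pow_apply, map_sum P₀,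
    map_sum (eulerHom k X)]
  refine Finset.sum_congr rfl fun j _ => ?_
  rw [map_nsmul P₀, map_nsmul (eulerHom k X), nsmul_eq_mul]

end Sym

section Cycle

variable {X : Scheme.{u}} [AlgebraicGeometry.IsNoetherian X]

/-- nonnegativity from nonnegativity on the components -/
theorem hom_nonneg_of_cycle (φ : KZero.K0sub (PC X) →+ ℤ) (d : ℕ)
    (hφ : ∀ x ∈ FilLT X d, φ x = 0) (F : X.Modules) (hF : Coh.IsCoh F)
    (hd : topologicalKrullDim ↥(CohB1.support F) ≤ d)
    (hnn : ∀ ξ : X, topologicalKrullDim (closure ({ξ} : Set X)) = (d : WithBot ℕ∞) →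
      0 ≤ φ (KZero.clSub (PC X) (Cyc.closureStructureSheaf ξ))) :
    0 ≤ φ (KZero.clSub (PC X) F) := by
  classical
  have hfin := finite_dim_eq (CohB1.support F) (FtGen.isClosed_support F hF.2) d hd
  have hs : ∀ ξ : X, ξ ∈ hfin.toFinset ↔
      ξ ∈ CohB1.support F ∧ topologicalKrullDim ↥(closure ({ξ} : Set X)) = d :=
    fun ξ => Set.Finite.mem_toFinset hfin
  rw [hom_cycle φ d hφ F hF hd hfin.toFinset hs]
  exact Finset.sum_nonneg fun ξ hξ => nsmul_nonneg (hnn ξ ((hs ξ).1 hξ).2) _

/-- on an integral scheme of dimension `d`, a functional killing the classes of dimension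
`< d` which is positive on the structure sheaf is positive on all modules of dimension `d` -/
theorem pos_of_pos_structure [IsIntegral X] (d : ℕ)
    (hdim : topologicalKrullDim X = ((d : ℕ) : WithBot ℕ∞)) (φ : KZero.K0sub (PC X) →+ ℤ)
    (hφ : ∀ x ∈ FilLT X d, φ x = 0)
    (hpos : 0 < φ (KZero.clSub (PC X) (Coh.structureModule X))) (F : X.Modules)
    (hF : Coh.IsCoh F)
    (hsupp : topologicalKrullDim ↥(CohB1.support F) = ((d : ℕ) : WithBot ℕ∞)) :
    0 < φ (KZero.clSub (PC X) F) := by
  classical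
  have hgen : ∀ ξ : X, topologicalKrullDim ↥(closure ({ξ} : Set X)) = ((d : ℕ) : WithBot ℕ∞) →
      ξ = genericPoint X := by
    intro ξ hξ
    have h1 : topologicalKrullDim ↥(Set.univ : Set X) ≤ ((d : ℕ) : WithBot ℕ∞) :=
      (topologicalKrullDim_subspace_le X _).trans hdim.le
    exact (eq_of_specializes_of_dim_eq (Set.univ : Set X) isClosed_univ d h1 ξ hξ
      (genericPoint X) (Set.mem_univ _)
      ((genericPoint_spec X).specializes (Set.mem_univ ξ))).symm
  have hOc := isCoh_structureModule X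
  have hOd : topologicalKrullDim ↥(CohB1.support (Coh.structureModule X)) ≤
      ((d : ℕ) : WithBot ℕ∞) := (topologicalKrullDim_subspace_le X _).trans hdim.le
  have hfin := finite_dim_eq (CohB1.support (Coh.structureModule X))
    (FtGen.isClosed_support _ hOc.2) d hOd
  have hs : ∀ ξ : X, ξ ∈ hfin.toFinset ↔ ξ ∈ CohB1.support (Coh.structureModule X) ∧
      topologicalKrullDim ↥(closure ({ξ} : Set X)) = d :=
    fun ξ => Set.Finite.mem_toFinset hfin
  rw [hom_cycle φ d hφ _ hOc hOd hfin.toFinset hs] at hpos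
  have hpos' : ∑ ξ ∈ hfin.toFinset, (0 : ℤ) < ∑ ξ ∈ hfin.toFinset,
      (Module.length (X.presheaf.stalk ξ) ((Coh.structureModule X).presheaf.stalk ξ)).toNat •
        φ (KZero.clSub (PC X) (Cyc.closureStructureSheaf ξ)) := by
    rw [Finset.sum_const_zero]
    exact hpos
  obtain ⟨ξ, hξs, hξpos⟩ := Finset.exists_lt_of_sum_lt hpos'
  have hξη : ξ = genericPoint X := hgen ξ ((hs ξ).1 hξs).2
  have hη : 0 < φ (KZero.clSub (PC X) (Cyc.closureStructureSheaf (genericPoint X))) := by
    rw [← hξη]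
    by_contra hle
    push_neg at hle
    exact absurd hξpos (not_lt.2 (nsmul_nonpos hle _))
  obtain ⟨ξ₀, hξ₀, hξ₀d⟩ := exists_point_dim_of_closed (CohB1.support F)
    (FtGen.isClosed_support F hF.2) d hsupp
  refine hom_pos_of_cycle φ d hφ F hF hsupp.le (fun ξ' h => ?_) ξ₀ hξ₀ hξ₀d
  rw [hgen ξ' h]
  exact hη

/-- the geometric series argument for a general operator -/
theorem geom_low (A : X.Modules) (hA : PicF.IsInvertible A)
    (P : AddMonoid.End (KZero.K0sub (PC X))) (e : ℕ) (hP : Low e P)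
    (hc : Commute (T A hA) P) (μ : ℕ) (x : KZero.K0sub (PC X)) (hx : x ∈ FilLT X (e + 2)) :
    P (((T A hA) ^ μ - 1) x) = μ • P ((T A hA - 1) x) := by
  set T₀ := T A hA with hT₀
  set y := P ((T₀ - 1) x) with hy
  have hymem : y ∈ FilLT X 1 := by
    have h1 := low_D A hA (e + 2) x hx
    have h2 := hP _ _ h1
    rwa [show e + 2 - 1 - e = 1 by omega] at h2
  have hgeom : (∑ i ∈ Finset.range μ, T₀ ^ i) * (T₀ - 1) = T₀ ^ μ - 1 := geom_sum_mul T₀ μ
  have hc' : Commute P (∑ i ∈ Finset.range μ, T₀ ^ i) :=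
    Commute.sum_right _ _ _ (fun i _ => (hc.symm).pow_right i)
  have hring : P * (T₀ ^ μ - 1) = (∑ i ∈ Finset.range μ, T₀ ^ i) * (P * (T₀ - 1)) := by
    rw [← hgeom, ← mul_assoc, hc'.eq, mul_assoc]
  have h1 : P ((T₀ ^ μ - 1) x) = (P * (T₀ ^ μ - 1)) x := rfl
  rw [h1, hring]
  change (∑ i ∈ Finset.range μ, T₀ ^ i) y = μ • y
  rw [end_sum_apply, Finset.sum_congr rfl (fun i _ => T_pow_fix A hA y hymem i),
    Finset.sum_const, Finset.card_range]

end Cycle

section Nef

variable (k : Type u) [Field k]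

/-- invariance of the degree on a curve under isomorphism -/
theorem curveDeg_iso {Y : Scheme.{u}} (p : Y ⟶ Spec (CommRingCat.of k)) {M N : Y.Modules}
    (e : M ≅ N) : Pic13.curveDeg k p M = Pic13.curveDeg k p N := by
  letI : Y.Over (Spec (CommRingCat.of k)) := ⟨p⟩
  change FGA.eulerCharLE k Y M 1 - FGA.eulerCharLE k Y (Coh.structureModule Y) 1 =
    FGA.eulerCharLE k Y N 1 - FGA.eulerCharLE k Y (Coh.structureModule Y) 1
  congr 1
  unfold FGA.eulerCharLE
  refine Finset.sum_congr rfl fun i _ => ?_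
  congr 2
  exact LinearEquiv.finrank_eq (Groth.Agent.Lib.Helper4.HHFin1.HHequiv k e i)

/-- nef: nonnegative degree on all closed integral curves -/
def NefS (X : Scheme.{u}) [X.Over (Spec (CommRingCat.of k))] (L : X.Modules) : Prop :=
  ∀ (C : Scheme.{u}) (c : C ⟶ X) [IsClosedImmersion c], IsIntegral C →
    topologicalKrullDim C = 1 →
    0 ≤ Pic13.curveDeg k (c ≫ (X ↘ Spec (CommRingCat.of k))) ((Scheme.Modules.pullback c).obj L)

theorem nefS_pullback {X Z : Scheme.{u}} [X.Over (Spec (CommRingCat.of k))] (ι : Z ⟶ X)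
    [IsClosedImmersion ι] (L : X.Modules) (hnef : NefS k X L) :
    @NefS k _ Z ⟨ι ≫ (X ↘ Spec (CommRingCat.of k))⟩ ((Scheme.Modules.pullback ι).obj L) := by
  intro C c _ hC hdim
  have h := hnef C (c ≫ ι) hC hdim
  have e := (Scheme.Modules.pullbackComp c ι).app L
  rw [← curveDeg_iso k _ e, Category.assoc] at h
  exact h

variable (X : Scheme.{u}) [X.Over (Spec (CommRingCat.of k))]
  [IsProper (X ↘ (Spec (CommRingCat.of k)))] [AlgebraicGeometry.IsNoetherian X]

/-- the degree on a proper scheme of dimension at most one, in `K₀` -/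
theorem curveDeg_eq_lam (hd : topologicalKrullDim X ≤ ((1 : ℕ) : WithBot ℕ∞)) (M : X.Modules)
    (hM : PicF.IsInvertible M) :
    Pic13.curveDeg k (X ↘ Spec (CommRingCat.of k)) M =
      lam k X M hM 1 (KZero.clSub (PC X) (Coh.structureModule X)) := by
  have hOc := isCoh_structureModule X
  have hMc : Coh.IsCoh M := InvQc.isCoh_of_isInvertible _ hM
  change FGA.eulerCharLE k X M 1 - FGA.eulerCharLE k X (Coh.structureModule X) 1 = _
  rw [eulerCharLE_eq_euler k X 1 hd, eulerCharLE_eq_euler k X 1 hd, lam_apply, pow_one]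
  change _ = eulerHom k X (T M hM (KZero.clSub (PC X) (Coh.structureModule X)) -
    KZero.clSub (PC X) (Coh.structureModule X))
  rw [map_sub, T_clSub M hM _ hOc, eulerHom_clSub k X _ (isCoh_tensor _ _ hMc hOc),
    eulerHom_clSub k X _ hOc]
  have h := Euler.euler_iso k X (Groth.Agent.Lib.Helper5.LTenFlf.tensorUnitIso M)
  change Curv2.euler k X (CohB1.tensorMod M (Coh.structureModule X)) = Curv2.euler k X M at h
  rw [h]

/-- nef modules have nonnegative degree on the one-dimensional points -/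
theorem nefK_of_nefS (L : X.Modules) (hL : PicF.IsInvertible L) (hnef : NefS k X L) (ξ : X)
    (hξ : topologicalKrullDim ↥(closure ({ξ} : Set X)) = ((1 : ℕ) : WithBot ℕ∞)) :
    0 ≤ lam k X L hL 1 (KZero.clSub (PC X) (Cyc.closureStructureSheaf ξ)) := by
  set I := IntMult.ptIdeal ξ with hI
  let ι := I.subschemeι
  letI : I.subscheme.Over (Spec (CommRingCat.of k)) := ⟨ι ≫ (X ↘ Spec (CommRingCat.of k))⟩
  haveI : IsProper (I.subscheme ↘ Spec (CommRingCat.of k)) := by
    change IsProper (ι ≫ (X ↘ Spec (CommRingCat.of k))); infer_instance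
  haveI : IsNoetherian I.subscheme := isNoetherian_of_proper k I.subscheme
  haveI : IsIntegral I.subscheme := isIntegral_ptIdeal_subscheme ξ
  set LZ := (Scheme.Modules.pullback ι).obj L with hLZ
  have hLZi : PicF.IsInvertible LZ := PullGen.isInvertible_pullback ι hL
  have hdimZ : topologicalKrullDim I.subscheme = ((1 : ℕ) : WithBot ℕ∞) := by
    have h1 := IsHomeomorph.topologicalKrullDim_eq _
      (ι.isClosedEmbedding.isEmbedding.toHomeomorph).isHomeomorph
    rw [h1]
    have h2 : Set.range ι = closure {ξ} := range_ptIdeal_subschemeι ξ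
    rw [h2]
    exact hξ
  have hdimZ1 : topologicalKrullDim I.subscheme = 1 := by
    rw [hdimZ]
    exact Nat.cast_one
  have h0 : 0 ≤ Pic13.curveDeg k (ι ≫ (X ↘ Spec (CommRingCat.of k))) LZ :=
    hnef I.subscheme ι inferInstance hdimZ1
  have h1 : Pic13.curveDeg k (ι ≫ (X ↘ Spec (CommRingCat.of k))) LZ =
      lam k I.subscheme LZ hLZi 1
        (KZero.clSub (PC I.subscheme) (Coh.structureModule I.subscheme)) :=
    curveDeg_eq_lam k I.subscheme hdimZ.le LZ hLZi
  rw [h1] at h0
  rw [lam_eq_of_gfun_eq k X I.subscheme L hL LZ hLZi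
    (KZero.clSub (PC X) (Cyc.closureStructureSheaf ξ))
    (KZero.clSub (PC I.subscheme) (Coh.structureModule I.subscheme)) ?_ 1]
  · exact h0
  · intro n
    rw [gfun_clSub k X L hL _ (isCoh_closureStructureSheaf ξ) n,
      gfun_clSub k I.subscheme LZ hLZi _ (isCoh_structureModule _) n]
    exact (euler_tensorPows_subscheme k X I 1 (fun _ => L) (fun _ => hL) (fun _ => n)).symm

end Nef

end Groth.Agent.Helper1.Kleiman
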