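import Mathlib
import Groth.Agent.Lib.Helper1.Kl2
import Groth.Agent.Lib.Helper1.Kl3
import Groth.Agent.Lib.Helper1.P1Iso2
import Groth.Agent.Lib.Helper4.PullTens1

/-!
# Kleiman's theorem: nef modules have nonnegative intersection numbers; nef + ample is ample
(helper1)
-/

set_option autoImplicit false
universe u
open CategoryTheory CategoryTheory.Limits AlgebraicGeometry TopologicalSpace Opposite

namespace Groth.Agent.Helper1.Kleiman

open Groth.Agent.Helper1 Groth.Agent.Helper1.Euler Groth.Agent.Helper1.Dv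
open Groth.Agent.Helper1.FinLen Groth.Agent.Helper1.TwForm Groth.Agent.Helper1.Curve
open Groth.Agent.Helper1.Snap Groth.Agent.Helper1.SnapPos Groth.Agent.Helper1.FGAInt
open Groth.Agent.Helper1.FGAPos

variable (k : Type u) [Field k]

/-- Kleiman's theorem (mixed form) for integral schemes of dimension `e` -/
def KMint (e : ℕ) : Prop :=
  ∀ (Z : Scheme.{u}) [Z.Over (Spec (CommRingCat.of k))]
    [IsProper (Z ↘ (Spec (CommRingCat.of k)))] [IsNoetherian Z] [IsIntegral Z]
    (L A : Z.Modules) (hL : PicF.IsInvertible L) (hA : CohB1.IsAmple A), NefS k Z L →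
    topologicalKrullDim Z = ((e : ℕ) : WithBot ℕ∞) → ∀ m n : ℕ, m + n = e →
    0 ≤ sym k Z L A hL hA.1 m n (KZero.clSub (PC Z) (Coh.structureModule Z))

section Transfer

/-- from integral schemes to the points of arbitrary proper schemes -/
theorem km_gen_of_int (e : ℕ) (ih : KMint k e)
    (X : Scheme.{u}) [X.Over (Spec (CommRingCat.of k))]
    [IsProper (X ↘ (Spec (CommRingCat.of k)))] [AlgebraicGeometry.IsNoetherian X]
    (L A : X.Modules) (hL : PicF.IsInvertible L) (hA : CohB1.IsAmple A) (hnef : NefS k X L)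
    (ξ : X) (hξ : topologicalKrullDim ↥(closure ({ξ} : Set X)) = ((e : ℕ) : WithBot ℕ∞))
    (m n : ℕ) (hmn : m + n = e) :
    0 ≤ sym k X L A hL hA.1 m n (KZero.clSub (PC X) (Cyc.closureStructureSheaf ξ)) := by
  set I := IntMult.ptIdeal ξ with hI
  let ι := I.subschemeι
  letI : I.subscheme.Over (Spec (CommRingCat.of k)) := ⟨ι ≫ (X ↘ Spec (CommRingCat.of k))⟩
  haveI : IsProper (I.subscheme ↘ Spec (CommRingCat.of k)) := by
    change IsProper (ι ≫ (X ↘ Spec (CommRingCat.of k))); infer_instance
  haveI : IsNoetherian I.subscheme := isNoetherian_of_proper k I.subscheme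
  haveI : IsIntegral I.subscheme := isIntegral_ptIdeal_subscheme ξ
  set LZ := (Scheme.Modules.pullback ι).obj L with hLZ
  set AZ := (Scheme.Modules.pullback ι).obj A with hAZ
  have hLZi : PicF.IsInvertible LZ := PullGen.isInvertible_pullback ι hL
  have hAZa : CohB1.IsAmple AZ :=
    PullAmple.isAmple_pullback_of_isEmbedding ι ι.isClosedEmbedding.isEmbedding hA
  have hnefZ : NefS k I.subscheme LZ := nefS_pullback k ι L hnef
  have hdimZ : topologicalKrullDim I.subscheme = ((e : ℕ) : WithBot ℕ∞) := by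
    have h1 := IsHomeomorph.topologicalKrullDim_eq _
      (ι.isClosedEmbedding.isEmbedding.toHomeomorph).isHomeomorph
    rw [h1]
    have h2 : Set.range ι = closure {ξ} := range_ptIdeal_subschemeι ξ
    rw [h2]
    exact hξ
  have hZ := ih I.subscheme LZ AZ hLZi hAZa hnefZ hdimZ m n hmn
  have hfamZ : (fun t => (Scheme.Modules.pullback ι).obj (fam L A m n t)) = fam LZ AZ m n := by
    funext t
    unfold fam
    split_ifs <;> rfl
  have hinvX := fam_inv hL hA.1 m n
  have hinvZ' := fam_inv hLZi hAZa.1 m n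
  have hinvZ : ∀ t, PicF.IsInvertible
      ((fun t => (Scheme.Modules.pullback ι).obj (fam L A m n t)) t) :=
    fun t => PullGen.isInvertible_pullback ι (hinvX t)
  rw [sym_apply, ← opL_fam L A hL hA.1 n m hinvX]
  rw [sym_apply, ← opL_fam LZ AZ hLZi hAZa.1 n m hinvZ', ← opL_congr hfamZ hinvZ hinvZ'] at hZ
  rw [eulerHom_opL_transfer k X I.subscheme (n + m) (fam L A m n) hinvX _ hinvZ
    (KZero.clSub (PC X) (Cyc.closureStructureSheaf ξ))
    (KZero.clSub (PC I.subscheme) (Coh.structureModule I.subscheme)) ?_]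
  · exact hZ
  · intro nn
    rw [← clSub_tensorPows _ (isCoh_closureStructureSheaf ξ) (n + m) (fam L A m n) hinvX nn,
      ← clSub_tensorPows _ (isCoh_structureModule I.subscheme) (n + m) _ hinvZ nn,
      eulerHom_clSub k X _ (isCoh_tensorPows _ (isCoh_closureStructureSheaf ξ) (n + m) _
        hinvX nn),
      eulerHom_clSub k I.subscheme _ (isCoh_tensorPows _ (isCoh_structureModule I.subscheme)
        (n + m) _ hinvZ nn)]
    exact (euler_tensorPows_subscheme k X I (n + m) (fam L A m n) hinvX nn).symm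

/-- from integral schemes to coherent modules on arbitrary proper schemes -/
theorem km_coh_of_int (e : ℕ) (ih : KMint k e)
    (X : Scheme.{u}) [X.Over (Spec (CommRingCat.of k))]
    [IsProper (X ↘ (Spec (CommRingCat.of k)))] [AlgebraicGeometry.IsNoetherian X]
    (L A : X.Modules) (hL : PicF.IsInvertible L) (hA : CohB1.IsAmple A) (hnef : NefS k X L)
    (F : X.Modules) (hF : Coh.IsCoh F)
    (hd : topologicalKrullDim ↥(CohB1.support F) ≤ ((e : ℕ) : WithBot ℕ∞))
    (m n : ℕ) (hmn : m + n = e) :
    0 ≤ sym k X L A hL hA.1 m n (KZero.clSub (PC X) F) := by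
  refine hom_nonneg_of_cycle (sym k X L A hL hA.1 m n) e ?_ F hF hd ?_
  · intro x hx
    exact sym_eq_zero k X L A hL hA.1 m n x (by rwa [hmn])
  · intro ξ hξ
    exact km_gen_of_int k e ih X L A hL hA hnef ξ hξ m n hmn

/-- positivity of the top self-intersection of `L^q ⊗ A^p` on subvarieties, given Kleiman's
theorem in that dimension -/
theorem lam_twist_pos (X : Scheme.{u}) [X.Over (Spec (CommRingCat.of k))]
    [IsProper (X ↘ (Spec (CommRingCat.of k)))] [AlgebraicGeometry.IsNoetherian X]
    (L A : X.Modules) (hL : PicF.IsInvertible L) (hA : CohB1.IsAmple A) (hnef : NefS k X L)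
    (q p : ℕ) (hp : 0 < p) (N : X.Modules) (hN : PicF.IsInvertible N)
    (hTN : T N hN = (T L hL) ^ q * (T A hA.1) ^ p) (Z' : X.IdealSheafData) (d' : ℕ)
    (hdimZ' : topologicalKrullDim (Z'.support : Set X) = ((d' : ℕ) : WithBot ℕ∞))
    (hkm : KMint k d') :
    0 < lam k X N hN d' (KZero.clSub (PC X) (ClSub.quotMod Z')) := by
  set F := ClSub.quotMod Z' with hF
  have hFc : Coh.IsCoh F := CurveDual.isCoh_quotMod Z'
  have hsuppF : topologicalKrullDim ↥(CohB1.support F) = ((d' : ℕ) : WithBot ℕ∞) := by
    rw [hF, NM.support_quotMod]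
    exact hdimZ'
  have hFmem : KZero.clSub (PC X) F ∈ FilLT X (d' + 1) := clSub_mem_FilLT d' F hFc hsuppF.le
  have h := euler_twist_expand k X L A N hL hA.1 hN q p hTN d' 0 1 low_one
    (KZero.clSub (PC X) F) (d' + 1) hFmem (by omega)
  rw [lam_apply]
  change eulerHom k X (((T N hN - 1) ^ d') (KZero.clSub (PC X) F)) = _ at h
  rw [h]
  have hnn : ∀ j ∈ Finset.range (d' + 1),
      0 ≤ ((d'.choose j * (q ^ j * p ^ (d' - j)) : ℕ) : ℤ) *
        eulerHom k X ((1 : AddMonoid.End (KZero.K0sub (PC X)))
          (((T L hL - 1) ^ j * (T A hA.1 - 1) ^ (d' - j)) (KZero.clSub (PC X) F))) := by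
    intro j hj
    have hj' : j ≤ d' := by
      have := Finset.mem_range.1 hj
      omega
    refine mul_nonneg (Int.natCast_nonneg _) ?_
    exact km_coh_of_int k d' hkm X L A hL hA hnef F hFc hsuppF.le j (d' - j) (by omega)
  refine lt_of_lt_of_le ?_ (Finset.single_le_sum hnn (Finset.mem_range.2 (Nat.succ_pos d')))
  have hpos := NM.pos_quotMod k X A hA Z' d' hdimZ'
  rw [lam_apply] at hpos
  rw [Nat.choose_zero_right, pow_zero, one_mul, one_mul, Nat.sub_zero]
  change 0 < ((p ^ d' : ℕ) : ℤ) *
    eulerHom k X (((T L hL - 1) ^ 0 * (T A hA.1 - 1) ^ d' :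
      AddMonoid.End (KZero.K0sub (PC X))) (KZero.clSub (PC X) F))
  rw [pow_zero, one_mul]
  exact mul_pos (by exact_mod_cast pow_pos hp d') hpos

end Transfer

section Main

/-- **Kleiman's theorem**, mixed form, on integral proper schemes -/
theorem km (d : ℕ) : KMint k d := by
  induction d using Nat.strong_induction_on with
  | _ d IH =>
  intro X _ _ _ _ L A hL hA hnef hdim m n hmn
  have hOc := isCoh_structureModule X
  have hOd : topologicalKrullDim ↥(CohB1.support (Coh.structureModule X)) ≤
      ((d : ℕ) : WithBot ℕ∞) := (topologicalKrullDim_subspace_le X _).trans hdim.le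
  rcases d with _ | e
  · -- dimension zero
    obtain rfl : m = 0 := by omega
    obtain rfl : n = 0 := by omega
    rw [sym_apply, pow_zero, pow_zero, one_mul]
    change 0 ≤ eulerHom k X (KZero.clSub (PC X) (Coh.structureModule X))
    rw [eulerHom_clSub k X _ hOc]
    refine (euler_pos_of_dim_zero k X _ hOc ?_ ?_).le
    · exact_mod_cast hOd
    · intro hz
      have h1 := support_isZero hz
      have hη := mem_support_structureModule (genericPoint X)
      rw [h1] at hη
      exact hη
  · -- dimension `e + 1`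
    have hOmem : KZero.clSub (PC X) (Coh.structureModule X) ∈ FilLT X (e + 2) :=
      clSub_mem_FilLT (e + 1) _ hOc hOd
    -- at least one ample factor
    have hmix : ∀ (A' : X.Modules) (hA' : CohB1.IsAmple A') (m' n' : ℕ), m' + n' = e →
        0 ≤ sym k X L A' hL hA'.1 m' (n' + 1)
          (KZero.clSub (PC X) (Coh.structureModule X)) := by
      intro A' hA' m' n' hmn'
      obtain ⟨μ, C, ξ', hμ, hCc, hCd, hξ'C, hξ', hrel⟩ := exists_divisor k X A' hA' e hdim
      set P := (T L hL - 1) ^ m' * (T A' hA'.1 - 1) ^ n' with hP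
      have hPlow : Low e P := by
        have h := low_mix X L A' hL hA'.1 m' n'
        rwa [hmn'] at h
      have hTD : ∀ (B : X.Modules) (hB : PicF.IsInvertible B),
          Commute (T A' hA'.1) (T B hB - 1) := fun B hB =>
        (T_comm A' B hA'.1 hB).sub_right (Commute.one_right _)
      have hPc : Commute (T A' hA'.1) P :=
        ((hTD L hL).pow_right m').mul_right ((hTD A' hA'.1).pow_right n')
      have hgeom := geom_low A' hA'.1 P e hPlow hPc μ _ hOmem
      rw [hrel] at hgeom
      have hnn : 0 ≤ eulerHom k X (P (KZero.clSub (PC X) C)) := by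
        refine hom_nonneg_of_cycle ((eulerHom k X).comp
          ((P : AddMonoid.End (KZero.K0sub (PC X))) :
            KZero.K0sub (PC X) →+ KZero.K0sub (PC X))) e ?_ C hCc hCd ?_
        · intro x hx
          change eulerHom k X (P x) = 0
          rw [hPlow.eq_zero e le_rfl x hx, map_zero]
        · intro ξ hξ
          exact km_gen_of_int k e (IH e (Nat.lt_succ_self e)) X L A' hL hA' hnef ξ hξ m' n' hmn'
      rw [hgeom, map_nsmul, nsmul_eq_mul] at hnn
      have heq : sym k X L A' hL hA'.1 m' (n' + 1)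
          (KZero.clSub (PC X) (Coh.structureModule X)) =
          eulerHom k X (P ((T A' hA'.1 - 1) (KZero.clSub (PC X) (Coh.structureModule X)))) := by
        rw [sym_apply, pow_succ, ← mul_assoc]
        rfl
      rw [heq]
      exact (mul_nonneg_iff_of_pos_left (by exact_mod_cast hμ)).1 hnn
    rcases n with _ | n'
    swap
    · exact hmix A hA m n' (by omega)
    obtain rfl : m = e + 1 := by omega
    rcases e with _ | e'
    · -- curves
      have h1 : sym k X L A hL hA.1 (0 + 1) 0 (KZero.clSub (PC X) (Coh.structureModule X)) =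
          lam k X L hL 1 (KZero.clSub (PC X) (Coh.structureModule X)) := by
        rw [sym_apply, lam_apply, pow_zero, mul_one]
      rw [h1]
      exact hom_nonneg_of_cycle (lam k X L hL 1) 1 (fun x hx => lam_eq_zero k X L hL 1 x hx) _
        hOc hOd (fun ξ hξ => nefK_of_nefS k X L hL hnef ξ hξ)
    · -- dimension at least two: the polynomial argument
      set o := KZero.clSub (PC X) (Coh.structureModule X) with ho
      set c : ℕ → ℤ := fun j => sym k X L A hL hA.1 j (e' + 1 + 1 - j) o with hc
      have h0 : 0 < c 0 := by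
        have hp := pos_int k (e' + 1 + 1) X A hA hdim
        rw [lam_apply] at hp
        change 0 < eulerHom k X (((T L hL - 1) ^ 0 * (T A hA.1 - 1) ^ (e' + 1 + 1 - 0) :
          AddMonoid.End (KZero.K0sub (PC X))) o)
        rw [pow_zero, one_mul, Nat.sub_zero]
        exact hp
      have hcnn : ∀ j, j < e' + 1 + 1 → 0 ≤ c j := by
        intro j hj
        have h1 := hmix A hA j (e' + 1 - j) (by omega)
        have h2 : e' + 1 + 1 - j = (e' + 1 - j) + 1 := by omega
        change 0 ≤ sym k X L A hL hA.1 j (e' + 1 + 1 - j) o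
        rw [h2]
        exact h1
      have hres := kleiman_analysis (e' + 1) c h0 hcnn ?_
      · have h3 : c (e' + 1 + 1) = sym k X L A hL hA.1 (e' + 1 + 1) 0 o := by
          change sym k X L A hL hA.1 (e' + 1 + 1) (e' + 1 + 1 - (e' + 1 + 1)) o = _
          rw [Nat.sub_self]
        rw [h3] at hres
        exact hres
      intro p q hp hq hP
      set N := CohB1.tensorMod (CohB1.tensorPow L q) (CohB1.tensorPow A p) with hNdef
      have hLq := isInvertible_tensorPow hL q
      have hAp := isInvertible_tensorPow hA.1 p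
      have hN : PicF.IsInvertible N := isInvertible_tensorMod hLq hAp
      have hTN : T N hN = (T L hL) ^ q * (T A hA.1) ^ p := by
        rw [T_tensor hLq hAp hN, T_tensorPow hL q hLq, T_tensorPow hA.1 p hAp]
      -- the top self-intersection number of `N` is positive
      have hPexp := euler_twist_expand k X L A N hL hA.1 hN q p hTN (e' + 1 + 1) 0 1 low_one o
        (e' + 1 + 2) hOmem (by omega)
      have hPpos : 0 < eulerHom k X (((T N hN - 1) ^ (e' + 1 + 1)) o) := by
        refine lt_of_lt_of_eq hP (Eq.symm (hPexp.trans (Finset.sum_congr rfl fun j _ => ?_)))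
        change ((((e' + 1 + 1).choose j * (q ^ j * p ^ (e' + 1 + 1 - j)) : ℕ)) : ℤ) * c j = _
        push_cast
        ring
      -- `N` is ample
      have hNamp : CohB1.IsAmple N := by
        apply NM.isAmple_of_nakaiPos k X N hN
        intro Z' _ d' hd' hdimZ'
        have hd'le : d' ≤ e' + 1 + 1 := by
          have h1 : ((d' : ℕ) : WithBot ℕ∞) ≤ ((e' + 1 + 1 : ℕ) : WithBot ℕ∞) := by
            rw [← hdimZ', ← hdim]
            exact topologicalKrullDim_subspace_le X _
          exact_mod_cast h1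
        rcases Nat.lt_or_ge d' (e' + 1 + 1) with hlt | hge
        · exact lam_twist_pos k X L A hL hA hnef q p hp N hN hTN Z' d' hdimZ' (IH d' hlt)
        · obtain rfl : d' = e' + 1 + 1 := by omega
          have hsuppF : topologicalKrullDim ↥(CohB1.support (ClSub.quotMod Z')) =
              ((e' + 1 + 1 : ℕ) : WithBot ℕ∞) := by
            rw [NM.support_quotMod]
            exact hdimZ'
          exact pos_of_pos_structure (e' + 1 + 1) hdim (lam k X N hN (e' + 1 + 1))
            (fun x hx => lam_eq_zero k X N hN (e' + 1 + 1) x hx) hPpos _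
            (CurveDual.isCoh_quotMod Z') hsuppF
      -- hence `(L · N^(e'+1)) ≥ 0`
      have hQ := hmix N hNamp 1 e' (by omega)
      have hQexp := euler_twist_expand k X L A N hL hA.1 hN q p hTN (e' + 1) 1 (T L hL - 1)
        (low_D L hL) o (e' + 1 + 2) hOmem (by omega)
      have hQ' : 0 ≤ eulerHom k X ((T L hL - 1) (((T N hN - 1) ^ (e' + 1)) o)) := by
        rw [sym_apply, pow_one] at hQ
        exact hQ
      rw [hQexp] at hQ'
      refine le_of_le_of_eq hQ' (Finset.sum_congr rfl fun j hj => ?_)
      have hj' : j ≤ e' + 1 := by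
        have := Finset.mem_range.1 hj
        omega
      have h1 : c (j + 1) = eulerHom k X ((T L hL - 1)
          (((T L hL - 1) ^ j * (T A hA.1 - 1) ^ (e' + 1 - j)) o)) := by
        change eulerHom k X (((T L hL - 1) ^ (j + 1) *
          (T A hA.1 - 1) ^ (e' + 1 + 1 - (j + 1))) o) = _
        rw [show e' + 1 + 1 - (j + 1) = e' + 1 - j by omega, pow_succ', mul_assoc]
        rfl
      rw [h1]
      push_cast
      ring

/-- Kleiman's theorem for coherent modules -/
theorem km_coh (X : Scheme.{u}) [X.Over (Spec (CommRingCat.of k))]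
    [IsProper (X ↘ (Spec (CommRingCat.of k)))] [AlgebraicGeometry.IsNoetherian X]
    (L A : X.Modules) (hL : PicF.IsInvertible L) (hA : CohB1.IsAmple A) (hnef : NefS k X L)
    (e : ℕ) (F : X.Modules) (hF : Coh.IsCoh F)
    (hd : topologicalKrullDim ↥(CohB1.support F) ≤ ((e : ℕ) : WithBot ℕ∞))
    (m n : ℕ) (hmn : m + n = e) :
    0 ≤ sym k X L A hL hA.1 m n (KZero.clSub (PC X) F) :=
  km_coh_of_int k e (km k e) X L A hL hA hnef F hF hd m n hmn

/-- **nef ⊗ ample is ample** -/
theorem isAmple_tensorPow_tensor_of_nef (X : Scheme.{u}) [X.Over (Spec (CommRingCat.of k))]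
    [IsProper (X ↘ (Spec (CommRingCat.of k)))] [AlgebraicGeometry.IsNoetherian X]
    (L A : X.Modules) (hL : PicF.IsInvertible L) (hA : CohB1.IsAmple A) (hnef : NefS k X L)
    (ν : ℕ) : CohB1.IsAmple (CohB1.tensorMod (CohB1.tensorPow L ν) A) := by
  set N := CohB1.tensorMod (CohB1.tensorPow L ν) A with hNdef
  have hLν := isInvertible_tensorPow hL ν
  have hN : PicF.IsInvertible N := isInvertible_tensorMod hLν hA.1
  have hTN : T N hN = (T L hL) ^ ν * (T A hA.1) ^ 1 := by
    rw [pow_one, T_tensor hLν hA.1 hN, T_tensorPow hL ν hLν]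
  apply NM.isAmple_of_nakaiPos k X N hN
  intro Z' _ d' _ hdimZ'
  exact lam_twist_pos k X L A hL hA hnef ν 1 Nat.one_pos N hN hTN Z' d' hdimZ' (km k d')

end Main

section Converse

/-- if all `L^ν ⊗ A` are ample then `L` is nef -/
theorem nefS_of_forall_isAmple (X : Scheme.{u}) [X.Over (Spec (CommRingCat.of k))]
    [IsProper (X ↘ (Spec (CommRingCat.of k)))]
    (L A : X.Modules) (hL : PicF.IsInvertible L) (hA : CohB1.IsAmple A)
    (h : ∀ ν : ℕ, 0 < ν → CohB1.IsAmple (CohB1.tensorMod (CohB1.tensorPow L ν) A)) :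
    NefS k X L := by
  intro C c _ hC hdimC
  letI : C.Over (Spec (CommRingCat.of k)) := ⟨c ≫ (X ↘ Spec (CommRingCat.of k))⟩
  haveI : IsProper (C ↘ Spec (CommRingCat.of k)) := by
    change IsProper (c ≫ (X ↘ Spec (CommRingCat.of k))); infer_instance
  haveI : IsNoetherian C := isNoetherian_of_proper k C
  haveI : IsIntegral C := hC
  have hdimC' : topologicalKrullDim C = ((1 : ℕ) : WithBot ℕ∞) := by
    rw [hdimC]
    exact Nat.cast_one.symm
  set LC := (Scheme.Modules.pullback c).obj L with hLC
  set AC := (Scheme.Modules.pullback c).obj A with hAC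
  have hLCi : PicF.IsInvertible LC := PullGen.isInvertible_pullback c hL
  have hACi : PicF.IsInvertible AC := PullGen.isInvertible_pullback c hA.1
  have hOc := isCoh_structureModule C
  set o := KZero.clSub (PC C) (Coh.structureModule C) with ho
  have hOmem : o ∈ FilLT C 2 :=
    clSub_mem_FilLT 1 _ hOc ((topologicalKrullDim_subspace_le C _).trans hdimC'.le)
  have hdeg : Pic13.curveDeg k (c ≫ (X ↘ Spec (CommRingCat.of k))) LC = lam k C LC hLCi 1 o :=
    curveDeg_eq_lam k C hdimC'.le LC hLCi
  rw [hdeg]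
  set a := lam k C LC hLCi 1 o with ha
  set b := lam k C AC hACi 1 o with hb
  -- positivity of `b + ν a`
  have hpos : ∀ ν : ℕ, 0 < ν → 0 < b + (ν : ℤ) * a := by
    intro ν hν
    have hLν := isInvertible_tensorPow hL ν
    have hNX : PicF.IsInvertible (CohB1.tensorMod (CohB1.tensorPow L ν) A) :=
      isInvertible_tensorMod hLν hA.1
    set NC := (Scheme.Modules.pullback c).obj (CohB1.tensorMod (CohB1.tensorPow L ν) A) with hNC
    have hNCa : CohB1.IsAmple NC :=
      PullAmple.isAmple_pullback_of_isEmbedding c c.isClosedEmbedding.isEmbedding (h ν hν)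
    have hLCν := isInvertible_tensorPow hLCi ν
    have hM : PicF.IsInvertible (CohB1.tensorMod (CohB1.tensorPow LC ν) AC) :=
      isInvertible_tensorMod hLCν hACi
    obtain ⟨e1⟩ := P1Iso.nonempty_pullback_tensorPow_iso c hL ν
    have e2 : NC ≅ CohB1.tensorMod (CohB1.tensorPow LC ν) AC :=
      Groth.Agent.Lib.Helper4.PullTens1.pullTensIso c hLν hA.1 ≪≫
        Groth.Agent.Lead.TilT.tensorModCongr e1 (Iso.refl _)
    have hTN : T NC hNCa.1 = (T LC hLCi) ^ ν * (T AC hACi) ^ 1 := by
      rw [pow_one, T_iso e2 hNCa.1 hM, T_tensor hLCν hACi hM, T_tensorPow hLCi ν hLCν]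
    have hp := pos_int k 1 C NC hNCa hdimC'
    rw [lam_apply] at hp
    have hexp := euler_twist_expand k C LC AC NC hLCi hACi hNCa.1 ν 1 hTN 1 0 1 low_one o 2
      hOmem (by omega)
    change eulerHom k C (((T NC hNCa.1 - 1) ^ 1 : AddMonoid.End (KZero.K0sub (PC C))) o) = _
      at hexp
    rw [hexp, Finset.sum_range_succ, Finset.sum_range_one] at hp
    have hb' : b = eulerHom k C ((1 : AddMonoid.End (KZero.K0sub (PC C)))
        (((T LC hLCi - 1) ^ 0 * (T AC hACi - 1) ^ (1 - 0) :
          AddMonoid.End (KZero.K0sub (PC C))) o)) := by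
      rw [hb, lam_apply, pow_zero, one_mul]
      rfl
    have ha' : a = eulerHom k C ((1 : AddMonoid.End (KZero.K0sub (PC C)))
        (((T LC hLCi - 1) ^ 1 * (T AC hACi - 1) ^ (1 - 1) :
          AddMonoid.End (KZero.K0sub (PC C))) o)) := by
      rw [ha, lam_apply, Nat.sub_self, pow_zero, mul_one]
      rfl
    rw [← hb', ← ha'] at hp
    simp only [Nat.choose_zero_right, Nat.choose_self, pow_zero, pow_one, one_mul, mul_one,
      Nat.sub_zero, Nat.sub_self, Nat.cast_one] at hp
    exact hp
  by_contra hneg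
  push_neg at hneg
  have ha1 : a ≤ -1 := by omega
  have hb0 : b ≤ (b.toNat : ℤ) := Int.self_le_toNat b
  have h1 := hpos (b.toNat + 1) (Nat.succ_pos _)
  push_cast at h1
  have h2 : ((b.toNat : ℤ) + 1) * a ≤ ((b.toNat : ℤ) + 1) * (-1) :=
    mul_le_mul_of_nonneg_left ha1 (by positivity)
  linarith

end Converse

end Groth.Agent.Helper1.Kleiman
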