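import Mathlib
import Groth.Agent.Lib.Helper1.VB2

/-!
# Stability of vector bundles on regular curves: homomorphisms (helper1)
-/

set_option autoImplicit false
universe u
open CategoryTheory CategoryTheory.Limits AlgebraicGeometry TopologicalSpace Opposite

namespace Groth.Agent.Helper1.VB

open Groth.Agent.Lib.Helper4 Groth.Agent.Helper1.Dv Groth.Agent.Helper1.FinLen
  Groth.Agent.Helper1.Euler Groth.Agent.Helper1.Curve Groth.Agent.Lib.Helper5.StalkAdj

section Curve

variable (k : Type u) [Field k] (X : Scheme.{u}) [X.Over (Spec (CommRingCat.of k))]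
  [IsProper (X ↘ (Spec (CommRingCat.of k)))] [IsIntegral X]

/-- the image of a nonzero map out of a semistable bundle has slope at least that of the source -/
theorem image_slope (hX : ∀ x : X, ValuationRing (X.presheaf.stalk x)) {E F : X.Modules} {r s : ℕ}
    (hE : FlatMod.IsFinLocFreeOfRank r E) (hF : FlatMod.IsFinLocFreeOfRank s F)
    (hEss : ∀ (G : X.Modules) (r' : ℕ) (i : G ⟶ E), Mono i → 0 < r' →
      FlatMod.IsFinLocFreeOfRank r' G → Curv2.deg k X G r' * (r : ℤ) ≤ Curv2.deg k X E r * (r' : ℤ))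
    (f : E ⟶ F) (hf : f ≠ 0) :
    ∃ rI : ℕ, 0 < rI ∧ rI ≤ s ∧ rI ≤ r ∧ FlatMod.IsFinLocFreeOfRank rI (Abelian.image f) ∧
      Curv2.deg k X E r * (rI : ℤ) ≤ Curv2.deg k X (Abelian.image f) rI * (r : ℤ) ∧
      (rI = r → Mono f) := by
  obtain ⟨rK, rI, hK, hI, hr, hIs, hd, hpos⟩ := ker_im k X hX hE hF f
  have hmono : rK = 0 → Mono f := by
    intro h0
    subst h0
    exact Preadditive.mono_of_kernel_zero ((isZero_of_rank_zero hK).eq_of_src _ _)
  refine ⟨rI, hpos hf, hIs, by omega, hI, ?_, fun h => hmono (by omega)⟩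
  have hrc : (r : ℤ) = (rK : ℤ) + (rI : ℤ) := by exact_mod_cast hr
  by_cases h0 : rK = 0
  · subst h0
    have hz := isZero_of_rank_zero hK
    have : Curv2.deg k X (kernel f) 0 = 0 := by
      unfold Curv2.deg
      rw [euler_of_isZero k X hz]
      simp
    rw [this, zero_add] at hd
    have : rI = r := by omega
    subst this
    rw [hd]
  · have h1 := hEss (kernel f) rK (kernel.ι f) inferInstance (Nat.pos_of_ne_zero h0) hK
    rw [hd, hrc] at h1
    rw [hd, hrc]
    nlinarith [h1]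

/-- S15332: no maps from a semistable bundle to a bundle of smaller maximal slope -/
theorem hom_eq_zero_of_max_slope_lt (hX : ∀ x : X, ValuationRing (X.presheaf.stalk x))
    {E F : X.Modules} {r s : ℕ}
    (hE : FlatMod.IsFinLocFreeOfRank r E) (hF : FlatMod.IsFinLocFreeOfRank s F)
    (hEss : ∀ (G : X.Modules) (r' : ℕ) (i : G ⟶ E), Mono i → 0 < r' →
      FlatMod.IsFinLocFreeOfRank r' G → Curv2.deg k X G r' * (r : ℤ) ≤ Curv2.deg k X E r * (r' : ℤ))
    (hmax : ∀ (G : X.Modules) (r' : ℕ) (i : G ⟶ F), Mono i → 0 < r' →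
      FlatMod.IsFinLocFreeOfRank r' G → Curv2.deg k X G r' * (r : ℤ) < Curv2.deg k X E r * (r' : ℤ))
    (f : E ⟶ F) : f = 0 := by
  by_contra hf
  obtain ⟨rI, hpos, -, -, hI, hsl, -⟩ := image_slope k X hX hE hF hEss f hf
  have h := hmax (Abelian.image f) rI (Abelian.image.ι f) inferInstance hpos hI
  linarith

/-- S14136: no maps from a semistable bundle to a semistable bundle of smaller slope -/
theorem hom_eq_zero_of_semistable_slope_gt (hX : ∀ x : X, ValuationRing (X.presheaf.stalk x))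
    {E F : X.Modules} {r s : ℕ} (hs : 0 < s)
    (hE : FlatMod.IsFinLocFreeOfRank r E) (hF : FlatMod.IsFinLocFreeOfRank s F)
    (hEss : ∀ (G : X.Modules) (r' : ℕ) (i : G ⟶ E), Mono i → 0 < r' →
      FlatMod.IsFinLocFreeOfRank r' G → Curv2.deg k X G r' * (r : ℤ) ≤ Curv2.deg k X E r * (r' : ℤ))
    (hFss : ∀ (G : X.Modules) (r' : ℕ) (i : G ⟶ F), Mono i → 0 < r' →
      FlatMod.IsFinLocFreeOfRank r' G → Curv2.deg k X G r' * (s : ℤ) ≤ Curv2.deg k X F s * (r' : ℤ))
    (hslope : Curv2.deg k X F s * (r : ℤ) < Curv2.deg k X E r * (s : ℤ)) (f : E ⟶ F) : f = 0 := by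
  refine hom_eq_zero_of_max_slope_lt k X hX hE hF hEss ?_ f
  intro G r' i hi hr' hG
  have h1 := hFss G r' i hi hr' hG
  have hs' : (0 : ℤ) < (s : ℤ) := by exact_mod_cast hs
  have hr'' : (0 : ℤ) < (r' : ℤ) := by exact_mod_cast hr'
  have hr0 : (0 : ℤ) ≤ (r : ℤ) := Int.natCast_nonneg _
  by_contra hcon
  rw [not_lt] at hcon
  -- deg E r * r' ≤ deg G r' * r
  have h2 : Curv2.deg k X E r * (r' : ℤ) * (s : ℤ) ≤ Curv2.deg k X F s * (r' : ℤ) * (r : ℤ) := by
    calc Curv2.deg k X E r * (r' : ℤ) * (s : ℤ)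
        ≤ Curv2.deg k X G r' * (r : ℤ) * (s : ℤ) := mul_le_mul_of_nonneg_right hcon hs'.le
      _ = Curv2.deg k X G r' * (s : ℤ) * (r : ℤ) := by ring
      _ ≤ Curv2.deg k X F s * (r' : ℤ) * (r : ℤ) := mul_le_mul_of_nonneg_right h1 hr0
  have h3 : Curv2.deg k X F s * (r : ℤ) * (r' : ℤ) < Curv2.deg k X E r * (s : ℤ) * (r' : ℤ) :=
    mul_lt_mul_of_pos_right hslope hr''
  nlinarith

/-- S11483: a nonzero endomorphism of a stable bundle is an isomorphism -/
theorem isIso_of_ne_zero_endomorphism_of_stable (hdim : topologicalKrullDim X = 1)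
    (hX : ∀ x : X, ValuationRing (X.presheaf.stalk x)) {E : X.Modules} {r : ℕ}
    (hE : FlatMod.IsFinLocFreeOfRank r E)
    (hst : ∀ (G : X.Modules) (s : ℕ) (i : G ⟶ E), Mono i → FlatMod.IsFinLocFreeOfRank s G →
      0 < s → s < r → Curv2.deg k X G s * (r : ℤ) < Curv2.deg k X E r * (s : ℤ))
    (f : E ⟶ E) (hf : f ≠ 0) : IsIso f := by
  obtain ⟨rK, rI, hK, hI, hr, -, hd, hpos⟩ := ker_im k X hX hE hE f
  have hrI := hpos hf
  have hrK : rK = 0 := by
    by_contra h0
    have h1 := hst (kernel f) rK (kernel.ι f) inferInstance hK (Nat.pos_of_ne_zero h0) (by omega)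
    have h2 := hst (Abelian.image f) rI (Abelian.image.ι f) inferInstance hI hrI
      (by have := Nat.pos_of_ne_zero h0; omega)
    have hrc : (r : ℤ) = (rK : ℤ) + (rI : ℤ) := by exact_mod_cast hr
    rw [hd, hrc] at h1 h2
    nlinarith [h1, h2]
  subst hrK
  haveI : Mono f := Preadditive.mono_of_kernel_zero ((isZero_of_rank_zero hK).eq_of_src _ _)
  have hgen := subsingleton_stalk_cokernel_of_rank_eq hE hE f
  have hEc := Groth.Agent.Lib.Helper5.LocalCoh.isCoh_of_isFinLocFree _ (isFinLocFree_of_rank hE)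
  exact (deg_le_of_mono_generic_iso k X hdim E E hEc hEc r f hgen).2.1 rfl

/-- S14137: the same with stability tested on proper submodules -/
theorem isIso_of_ne_zero_endomorphism_of_stable' (hdim : topologicalKrullDim X = 1)
    (hX : ∀ x : X, ValuationRing (X.presheaf.stalk x)) {E : X.Modules} {r : ℕ}
    (hE : FlatMod.IsFinLocFreeOfRank r E)
    (hEst : ∀ (G : X.Modules) (r' : ℕ) (i : G ⟶ E), Mono i → 0 < r' →
      FlatMod.IsFinLocFreeOfRank r' G → (¬ IsIso i) →
      Curv2.deg k X G r' * (r : ℤ) < Curv2.deg k X E r * (r' : ℤ))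
    (f : E ⟶ E) (hf : f ≠ 0) : IsIso f := by
  refine isIso_of_ne_zero_endomorphism_of_stable k X hdim hX hE ?_ f hf
  intro G s i hi hG hs hsr
  refine hEst G s i hi hs hG fun hiso => ?_
  haveI := hiso
  have := rank_le_of_mono (genericPoint X) hE hG (inv i)
  omega

/-- S15333: a nonzero map between stable bundles of the same slope is an isomorphism -/
theorem isIso_of_ne_zero_hom_stable_slope_eq (hdim : topologicalKrullDim X = 1)
    (hX : ∀ x : X, ValuationRing (X.presheaf.stalk x)) {E F : X.Modules} {r s : ℕ} (hs : 0 < s)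
    (hE : FlatMod.IsFinLocFreeOfRank r E) (hF : FlatMod.IsFinLocFreeOfRank s F)
    (hEst : ∀ (G : X.Modules) (r' : ℕ) (i : G ⟶ E), Mono i → 0 < r' → r' < r →
      FlatMod.IsFinLocFreeOfRank r' G → Curv2.deg k X G r' * (r : ℤ) < Curv2.deg k X E r * (r' : ℤ))
    (hFss : ∀ (G : X.Modules) (r' : ℕ) (i : G ⟶ F), Mono i → 0 < r' →
      FlatMod.IsFinLocFreeOfRank r' G → Curv2.deg k X G r' * (s : ℤ) ≤ Curv2.deg k X F s * (r' : ℤ))
    (hFst : ∀ (G : X.Modules) (r' : ℕ) (i : G ⟶ F), Mono i → 0 < r' → r' < s →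
      FlatMod.IsFinLocFreeOfRank r' G → Curv2.deg k X G r' * (s : ℤ) < Curv2.deg k X F s * (r' : ℤ))
    (hμ : Curv2.deg k X E r * (s : ℤ) = Curv2.deg k X F s * (r : ℤ))
    (f : E ⟶ F) (hf : f ≠ 0) : IsIso f := by
  obtain ⟨rK, rI, hK, hI, hr, hIs, hd, hpos⟩ := ker_im k X hX hE hF f
  have hrI := hpos hf
  have hrc : (r : ℤ) = (rK : ℤ) + (rI : ℤ) := by exact_mod_cast hr
  have hs' : (0 : ℤ) < (s : ℤ) := by exact_mod_cast hs
  have hrI' : (0 : ℤ) < (rI : ℤ) := by exact_mod_cast hrI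
  have h2 := hFss (Abelian.image f) rI (Abelian.image.ι f) inferInstance hrI hI
  have hrK : rK = 0 := by
    by_contra h0
    have h1 := hEst (kernel f) rK (kernel.ι f) inferInstance (Nat.pos_of_ne_zero h0) (by omega) hK
    -- deg E * rI < deg I * r
    have h3 : Curv2.deg k X E r * (rI : ℤ) < Curv2.deg k X (Abelian.image f) rI * (r : ℤ) := by
      rw [hd, hrc] at h1 ⊢
      nlinarith [h1]
    have h4 : Curv2.deg k X E r * (rI : ℤ) * (s : ℤ) <
        Curv2.deg k X (Abelian.image f) rI * (r : ℤ) * (s : ℤ) := mul_lt_mul_of_pos_right h3 hs'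
    have h5 : Curv2.deg k X (Abelian.image f) rI * (s : ℤ) * (r : ℤ) ≤
        Curv2.deg k X F s * (rI : ℤ) * (r : ℤ) :=
      mul_le_mul_of_nonneg_right h2 (Int.natCast_nonneg _)
    have h6 : Curv2.deg k X F s * (rI : ℤ) * (r : ℤ) = Curv2.deg k X E r * (rI : ℤ) * (s : ℤ) := by
      calc Curv2.deg k X F s * (rI : ℤ) * (r : ℤ) = (Curv2.deg k X F s * (r : ℤ)) * (rI : ℤ) := by ring
        _ = (Curv2.deg k X E r * (s : ℤ)) * (rI : ℤ) := by rw [hμ]
        _ = Curv2.deg k X E r * (rI : ℤ) * (s : ℤ) := by ring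
    nlinarith
  subst hrK
  have hz := isZero_of_rank_zero hK
  haveI : Mono f := Preadditive.mono_of_kernel_zero (hz.eq_of_src _ _)
  have hK0 : Curv2.deg k X (kernel f) 0 = 0 := by
    unfold Curv2.deg
    rw [euler_of_isZero k X hz]
    simp
  rw [hK0, zero_add] at hd
  have hrr : rI = r := by omega
  subst hrr
  have hrs : rI = s := by
    by_contra hne
    have h7 := hFst (Abelian.image f) rI (Abelian.image.ι f) inferInstance hrI (by omega) hI
    rw [← hd] at h7
    linarith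
  subst hrs
  have hgen := subsingleton_stalk_cokernel_of_rank_eq hE hF f
  have hEc := Groth.Agent.Lib.Helper5.LocalCoh.isCoh_of_isFinLocFree _ (isFinLocFree_of_rank hE)
  have hFc := Groth.Agent.Lib.Helper5.LocalCoh.isCoh_of_isFinLocFree _ (isFinLocFree_of_rank hF)
  refine (deg_le_of_mono_generic_iso k X hdim E F hEc hFc rI f hgen).2.1 ?_
  exact mul_right_cancel₀ hrI'.ne' hμ

/-- S16137: for a stable bundle, no maps from a quotient to the corresponding submodule -/
theorem hom_quotient_to_sub_eq_zero_of_stable (hdim : topologicalKrullDim X = 1)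
    (hX : ∀ x : X, ValuationRing (X.presheaf.stalk x)) (T : ShortComplex X.Modules)
    (hT : T.ShortExact) {r : ℕ} (hr : 0 < r) (hE : FlatMod.IsFinLocFreeOfRank r T.X₂)
    (hst : ∀ (G : X.Modules) (s : ℕ) (i : G ⟶ T.X₂), Mono i → FlatMod.IsFinLocFreeOfRank s G →
      0 < s → s < r → Curv2.deg k X G s * (r : ℤ) < Curv2.deg k X T.X₂ r * (s : ℤ))
    (φ : T.X₃ ⟶ T.X₁) : φ = 0 := by
  haveI := hT.mono_f
  haveI := hT.epi_g
  by_contra hφ
  have hψ : T.g ≫ φ ≫ T.f ≠ 0 := by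
    intro h
    apply hφ
    have h1 : φ ≫ T.f = 0 := by
      rw [← cancel_epi T.g, h, comp_zero]
    rw [← cancel_mono T.f, h1, zero_comp]
  haveI := isIso_of_ne_zero_endomorphism_of_stable k X hdim hX hE hst _ hψ
  have hsq : (T.g ≫ φ ≫ T.f) ≫ (T.g ≫ φ ≫ T.f) = 0 := by
    simp only [Category.assoc]
    rw [T.zero_assoc, zero_comp, comp_zero, comp_zero]
  have hz : IsZero T.X₂ := by
    rw [IsZero.iff_id_eq_zero]
    have h2 : (T.g ≫ φ ≫ T.f) ≫ (T.g ≫ φ ≫ T.f) ≫ inv (T.g ≫ φ ≫ T.f) ≫ inv (T.g ≫ φ ≫ T.f)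
        = 𝟙 _ := by simp
    rw [← h2, ← Category.assoc, hsq, zero_comp]
  have hff := Groth.Agent.Lib.Helper5.StalkFree.free_finite_stalk_of_isFinLocFree T.X₂
    (isFinLocFree_of_rank hE) (genericPoint X)
  have h0 : Module.finrank (X.presheaf.stalk (genericPoint X))
      (T.X₂.presheaf.stalk (genericPoint X)) = r := finrank_stalk_of_rank hE _
  haveI : Subsingleton (T.X₂.presheaf.stalk (genericPoint X)) := by
    have h9 := (Dv.isZero_stalkSh_iff T.X₂ (genericPoint X)).1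
      ((stalkSh X (genericPoint X)).map_isZero hz)
    exact not_not.1 h9
  rw [Module.finrank_zero_of_subsingleton] at h0
  omega

/-- S15335: the maximal slope of a biproduct -/
theorem slope_sub_biprod_le_max (hX : ∀ x : X, ValuationRing (X.presheaf.stalk x))
    {r₁ r₂ : ℕ} {E₁ E₂ : X.Modules}
    (hE₁ : FlatMod.IsFinLocFreeOfRank r₁ E₁) (hE₂ : FlatMod.IsFinLocFreeOfRank r₂ E₂) (m₁ m₂ : ℚ)
    (h₁ : ∀ (G : X.Modules) (r' : ℕ) (i : G ⟶ E₁), Mono i → 0 < r' →
      FlatMod.IsFinLocFreeOfRank r' G → (Curv2.deg k X G r' : ℚ) / r' ≤ m₁)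
    (h₂ : ∀ (G : X.Modules) (r' : ℕ) (i : G ⟶ E₂), Mono i → 0 < r' →
      FlatMod.IsFinLocFreeOfRank r' G → (Curv2.deg k X G r' : ℚ) / r' ≤ m₂)
    (F : X.Modules) (r' : ℕ) (i : F ⟶ E₁ ⊞ E₂) (hi : Mono i) (hr' : 0 < r')
    (hF : FlatMod.IsFinLocFreeOfRank r' F) :
    (Curv2.deg k X F r' : ℚ) / r' ≤ max m₁ m₂ := by
  obtain ⟨rK, rI, hK, hI, hr, -, hd, -⟩ := ker_im k X hX hF hE₂ (i ≫ biprod.snd)
  haveI : Mono (kernel.ι (i ≫ biprod.snd) ≫ i ≫ biprod.fst) := by
    apply Preadditive.mono_of_cancel_zero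
    intro W g hg
    have h3 : (g ≫ kernel.ι (i ≫ biprod.snd)) ≫ i = 0 := by
      apply biprod.hom_ext
      · simpa [Category.assoc] using hg
      · rw [zero_comp, Category.assoc, Category.assoc, kernel.condition, comp_zero]
    have h4 : g ≫ kernel.ι (i ≫ biprod.snd) = 0 := by
      rw [← cancel_mono i, h3, zero_comp]
    rw [← cancel_mono (kernel.ι (i ≫ biprod.snd)), h4, zero_comp]
  have hKd : (Curv2.deg k X (kernel (i ≫ biprod.snd)) rK : ℚ) ≤ m₁ * rK := by
    by_cases h0 : rK = 0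
    · subst h0
      have hz := isZero_of_rank_zero hK
      have : Curv2.deg k X (kernel (i ≫ biprod.snd)) 0 = 0 := by
        unfold Curv2.deg
        rw [euler_of_isZero k X hz]
        simp
      rw [this]
      simp
    · have hpos : (0 : ℚ) < (rK : ℚ) := by exact_mod_cast Nat.pos_of_ne_zero h0
      have := h₁ _ rK (kernel.ι (i ≫ biprod.snd) ≫ i ≫ biprod.fst) inferInstance
        (Nat.pos_of_ne_zero h0) hK
      rwa [div_le_iff₀ hpos] at this
  have hId : (Curv2.deg k X (Abelian.image (i ≫ biprod.snd)) rI : ℚ) ≤ m₂ * rI := by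
    by_cases h0 : rI = 0
    · subst h0
      have hz := isZero_of_rank_zero hI
      have : Curv2.deg k X (Abelian.image (i ≫ biprod.snd)) 0 = 0 := by
        unfold Curv2.deg
        rw [euler_of_isZero k X hz]
        simp
      rw [this]
      simp
    · have hpos : (0 : ℚ) < (rI : ℚ) := by exact_mod_cast Nat.pos_of_ne_zero h0
      have := h₂ _ rI (Abelian.image.ι (i ≫ biprod.snd)) inferInstance
        (Nat.pos_of_ne_zero h0) hI
      rwa [div_le_iff₀ hpos] at this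
  have hpos : (0 : ℚ) < (r' : ℚ) := by exact_mod_cast hr'
  rw [div_le_iff₀ hpos]
  have hdq : (Curv2.deg k X F r' : ℚ) = (Curv2.deg k X (kernel (i ≫ biprod.snd)) rK : ℚ) +
      (Curv2.deg k X (Abelian.image (i ≫ biprod.snd)) rI : ℚ) := by exact_mod_cast hd
  have hrq : (r' : ℚ) = (rK : ℚ) + (rI : ℚ) := by exact_mod_cast hr
  have hK0 : (0 : ℚ) ≤ (rK : ℚ) := Nat.cast_nonneg _
  have hI0 : (0 : ℚ) ≤ (rI : ℚ) := Nat.cast_nonneg _
  have hm1 : m₁ * rK ≤ max m₁ m₂ * rK := mul_le_mul_of_nonneg_right (le_max_left _ _) hK0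
  have hm2 : m₂ * rI ≤ max m₁ m₂ * rI := mul_le_mul_of_nonneg_right (le_max_right _ _) hI0
  rw [hdq, hrq]
  linarith

end Curve

end Groth.Agent.Helper1.VB
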