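import Mathlib
import Groth.Agent.Lib.Helper1.VB3

/-!
# Stability of vector bundles on regular curves: indecomposability, destabilising subbundles
(helper1)
-/

set_option autoImplicit false
universe u
open CategoryTheory CategoryTheory.Limits AlgebraicGeometry TopologicalSpace Opposite

namespace Groth.Agent.Helper1.VB

open Groth.Agent.Lib.Helper4 Groth.Agent.Helper1.Dv Groth.Agent.Helper1.FinLen
  Groth.Agent.Helper1.Euler Groth.Agent.Helper1.Curve Groth.Agent.Lib.Helper5.StalkAdj

section Curve

variable (k : Type u) [Field k] (X : Scheme.{u}) [X.Over (Spec (CommRingCat.of k))]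
  [IsProper (X ↘ (Spec (CommRingCat.of k)))] [IsIntegral X]

omit [IsProper (X ↘ (Spec (CommRingCat.of k)))] in
theorem not_isZero_of_rank_pos {E : X.Modules} {r : ℕ} (hr : 0 < r)
    (hE : FlatMod.IsFinLocFreeOfRank r E) : ¬ IsZero E := by
  intro hz
  have h0 : Module.finrank (X.presheaf.stalk (genericPoint X))
      (E.presheaf.stalk (genericPoint X)) = r := finrank_stalk_of_rank hE _
  haveI : Subsingleton (E.presheaf.stalk (genericPoint X)) := by
    have h9 := (Dv.isZero_stalkSh_iff E (genericPoint X)).1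
      ((stalkSh X (genericPoint X)).map_isZero hz)
    exact not_not.1 h9
  rw [Module.finrank_zero_of_subsingleton] at h0
  omega

/-- S15340: stable bundles are indecomposable -/
theorem indecomposable_of_stable (hdim : topologicalKrullDim X = 1)
    (hX : ∀ x : X, ValuationRing (X.presheaf.stalk x)) {E : X.Modules} {r : ℕ} (hr : 0 < r)
    (hE : FlatMod.IsFinLocFreeOfRank r E)
    (hst : ∀ (G : X.Modules) (s : ℕ) (i : G ⟶ E), Mono i → FlatMod.IsFinLocFreeOfRank s G →
      0 < s → s < r → Curv2.deg k X G s * (r : ℤ) < Curv2.deg k X E r * (s : ℤ)) :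
    ¬ IsZero E ∧ ∀ (E₁ E₂ : X.Modules), Nonempty (E ≅ E₁ ⊞ E₂) → IsZero E₁ ∨ IsZero E₂ := by
  refine ⟨not_isZero_of_rank_pos X hr hE, fun E₁ E₂ ⟨e⟩ => ?_⟩
  -- the idempotent projecting onto `E₁`
  let p : E ⟶ E := e.hom ≫ biprod.fst ≫ biprod.inl ≫ e.inv
  have hpp : p ≫ p = p := by
    simp only [p, Category.assoc, Iso.inv_hom_id_assoc, biprod.inl_fst_assoc]
  by_cases hp : p = 0
  · left
    rw [IsZero.iff_id_eq_zero]
    have h1 : biprod.inl ≫ e.inv ≫ p ≫ e.hom ≫ biprod.fst = 𝟙 E₁ := by
      simp [p]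
    rw [← h1, hp]
    simp
  · right
    haveI := isIso_of_ne_zero_endomorphism_of_stable k X hdim hX hE hst p hp
    have hid : p = 𝟙 E := by
      have := congrArg (fun q => q ≫ inv p) hpp
      simpa using this
    rw [IsZero.iff_id_eq_zero]
    have h2 : biprod.inr ≫ e.inv ≫ p ≫ e.hom ≫ biprod.snd = 0 := by
      simp [p]
    rw [hid] at h2
    simpa using h2

/-- S11816: a destabilising line subbundle of a rank two bundle is unique -/
theorem destabilising_unique (hdim : topologicalKrullDim X = 1) {E : X.Modules}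
    (hE : FlatMod.IsFinLocFreeOfRank 2 E) {M M' : X.Modules} (hM : PicF.IsInvertible M)
    (hM' : PicF.IsInvertible M') (i : M ⟶ E) (i' : M' ⟶ E) [Mono i] [Mono i']
    (hq : PicF.IsInvertible (cokernel i)) (hq' : PicF.IsInvertible (cokernel i'))
    (hd : Curv2.deg k X E 2 < 2 * Curv2.deg k X M 1)
    (hd' : Curv2.deg k X E 2 < 2 * Curv2.deg k X M' 1) :
    ∃ φ : M ≅ M', φ.hom ≫ i' = i := by
  have key : ∀ {N N' : X.Modules} (hN : PicF.IsInvertible N) (hN' : PicF.IsInvertible N')
      (j : N ⟶ E) (j' : N' ⟶ E) [Mono j] [Mono j'] (hqj : PicF.IsInvertible (cokernel j))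
      (_ : Curv2.deg k X E 2 < 2 * Curv2.deg k X N 1)
      (_ : Curv2.deg k X E 2 < 2 * Curv2.deg k X N' 1), j' ≫ cokernel.π j = 0 := by
    intro N N' hN hN' j j' _ _ hqj h1 h2
    by_contra hg
    let S : ShortComplex X.Modules := ShortComplex.mk j (cokernel.π j) (cokernel.condition j)
    have hS : S.Exact := ShortComplex.exact_cokernel j
    haveI : Mono S.f := inferInstanceAs (Mono j)
    haveI : Epi S.g := inferInstanceAs (Epi (cokernel.π j))
    have hSE : S.ShortExact := { exact := hS }
    have hadd := deg_additive k X S hSE 1 2 1 (isFinLocFreeOfRank_one hN) hE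
      (isFinLocFreeOfRank_one hqj)
    have hle := (deg_le_of_hom k X hdim hN' hqj (j' ≫ cokernel.π j) hg).1
    change Curv2.deg k X E 2 = Curv2.deg k X N 1 + Curv2.deg k X (cokernel j) 1 at hadd
    linarith
  have h1 := key hM hM' i i' hq hd hd'
  have h2 := key hM' hM i' i hq' hd' hd
  refine ⟨⟨Abelian.monoLift i' i h2, Abelian.monoLift i i' h1, ?_, ?_⟩, ?_⟩
  · rw [← cancel_mono i, Category.assoc, Abelian.monoLift_comp, Abelian.monoLift_comp,
      Category.id_comp]
  · rw [← cancel_mono i', Category.assoc, Abelian.monoLift_comp, Abelian.monoLift_comp,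
      Category.id_comp]
  · exact Abelian.monoLift_comp _ _ _

end Curve

end Groth.Agent.Helper1.VB
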