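import Mathlib
import Groth.Agent.Lib.Helper1.Kl4
import Groth.Agent.Lib.Helper1.Curve2
import Groth.Agent.Lib.Helper1.AmpleRestr
import Groth.Agent.Lib.Helper1.AmpleLib3
import Groth.Agent.Lib.Helper1.SerreAmple1
import Groth.Agent.Lib.Helper1.InvInv2
import Groth.Agent.Lib.Helper1.VBP11
import Groth.Agent.Lib.Helper1.VB4
import Groth.Agent.Lib.Helper1.Dv17
import Groth.Agent.Lib.Helper1.Dv39
import Groth.Agent.Lib.Helper1.H1Ext
import Groth.Agent.Lib.Helper5.LTen.SPTensor

/-!
# Growth of the spaces of sections of twists: upper bounds (helper1)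
-/

set_option autoImplicit false
universe u
open CategoryTheory CategoryTheory.Limits AlgebraicGeometry TopologicalSpace Opposite

namespace Groth.Agent.Helper1.Big

open Groth.Agent.Helper1 Groth.Agent.Helper1.Euler Groth.Agent.Helper1.Dv
open Groth.Agent.Helper1.FinLen Groth.Agent.Helper1.TwForm Groth.Agent.Helper1.Curve
open Groth.Agent.Helper1.Snap Groth.Agent.Helper1.SnapPos Groth.Agent.Helper1.FGAInt
open Groth.Agent.Helper1.FGAPos
open Groth.Agent.Lib.Helper4

section Arith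

theorem choose_le (m j e : ℕ) (hj : j ≤ e) :
    (m + j - 1).choose j ≤ (e + 1) ^ e * (m + 1) ^ e := by
  have h1 : (m + j - 1).choose j ≤ (m + j - 1) ^ j := Nat.choose_le_pow _ _
  have h2 : m + j - 1 ≤ (e + 1) * (m + 1) := by
    have h3 : (e + 1) * (m + 1) = m + e + (e * m + 1) := by ring
    rw [h3]
    omega
  have h4 : (m + j - 1) ^ j ≤ ((e + 1) * (m + 1)) ^ j := Nat.pow_le_pow_left h2 j
  have h5 : ((e + 1) * (m + 1)) ^ j ≤ ((e + 1) * (m + 1)) ^ e :=
    Nat.pow_le_pow_right (Nat.mul_pos (Nat.succ_pos e) (Nat.succ_pos m)) hj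
  calc (m + j - 1).choose j ≤ ((e + 1) * (m + 1)) ^ e := h1.trans (h4.trans h5)
    _ = (e + 1) ^ e * (m + 1) ^ e := Nat.mul_pow _ _ _

end Arith

section Gen

theorem mono_comp' {C : Type*} [Category C] {X Y Z : C} (f : X ⟶ Y) (hf : Mono f) (g : Y ⟶ Z)
    (hg : Mono g) : Mono (f ≫ g) := mono_comp f g

theorem mono_iso_hom {C : Type*} [Category C] {X Y : C} (e : X ≅ Y) : Mono e.hom := inferInstance

theorem mono_iso_inv {C : Type*} [Category C] {X Y : C} (e : X ≅ Y) : Mono e.inv := inferInstance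

variable {X : Scheme.{u}}

/-- tensoring a monomorphism on the left with an invertible module -/
theorem mono_tensor_left (E : X.Modules) (hE : PicF.IsInvertible E) {A B : X.Modules}
    (f : A ⟶ B) [Mono f] : Mono ((DCoh.tensorBi.obj E).map f) := by
  let S : ShortComplex X.Modules := ShortComplex.mk f (cokernel.π f) (cokernel.condition f)
  have hS : S.Exact := ShortComplex.exact_cokernel f
  haveI : Mono S.f := inferInstanceAs (Mono f)
  haveI : Epi S.g := inferInstanceAs (Epi (cokernel.π f))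
  have hSE : S.ShortExact := { exact := hS }
  have h := shortExact_tensor E (InvInv2.isFinLocFree_of_isInvertible hE) S hSE
  exact h.mono_f

/-- tensor powers of a monomorphism of invertible modules -/
theorem exists_mono_tensorPow {N B : X.Modules} (hN : PicF.IsInvertible N)
    (hB : PicF.IsInvertible B) (τ : N ⟶ B) [Mono τ] :
    ∀ m : ℕ, ∃ φ : CohB1.tensorPow N m ⟶ CohB1.tensorPow B m, Mono φ
  | 0 => ⟨𝟙 (Coh.structureModule X), (inferInstance : Mono (𝟙 (Coh.structureModule X)))⟩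
  | m + 1 => by
    obtain ⟨φ, hφ⟩ := exists_mono_tensorPow hN hB τ m
    haveI := hφ
    let f1 : CohB1.tensorMod (CohB1.tensorPow N m) N ⟶
        CohB1.tensorMod (CohB1.tensorPow N m) B :=
      (DCoh.tensorBi.obj (CohB1.tensorPow N m)).map τ
    have hf1 : Mono f1 := mono_tensor_left _ (isInvertible_tensorPow hN m) τ
    let f2 : CohB1.tensorMod B (CohB1.tensorPow N m) ⟶
        CohB1.tensorMod B (CohB1.tensorPow B m) :=
      (DCoh.tensorBi.obj B).map φ
    have hf2 : Mono f2 := mono_tensor_left _ hB φ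
    let c1 : CohB1.tensorMod (CohB1.tensorPow N m) B ≅ CohB1.tensorMod B (CohB1.tensorPow N m) :=
      TildeTens.tensorModComm (CohB1.tensorPow N m) B
    let c2 : CohB1.tensorMod B (CohB1.tensorPow B m) ≅ CohB1.tensorMod (CohB1.tensorPow B m) B :=
      TildeTens.tensorModComm B (CohB1.tensorPow B m)
    let ψ : CohB1.tensorMod (CohB1.tensorPow N m) N ⟶ CohB1.tensorMod (CohB1.tensorPow B m) B :=
      f1 ≫ c1.hom ≫ f2 ≫ c2.hom
    have hψ : Mono ψ :=
      mono_comp' f1 hf1 _ (mono_comp' c1.hom (mono_iso_hom c1) _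
        (mono_comp' f2 hf2 c2.hom (mono_iso_hom c2)))
    exact ⟨ψ, hψ⟩

/-- a nonzero globally generated module has a nonzero section -/
theorem exists_section_ne_zero {P : X.Modules} (hP : Curv2.IsGloballyGenerated P)
    (hPnz : ¬ IsZero P) : ∃ σ : Coh.structureModule X ⟶ P, σ ≠ 0 := by
  obtain ⟨ι, p, hp⟩ := hP
  haveI := hp
  have hpnz : p ≠ 0 := by
    intro hp0
    apply hPnz
    rw [IsZero.iff_id_eq_zero]
    exact (cancel_epi p).1 (by rw [hp0, zero_comp, zero_comp])
  by_contra hcon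
  rw [not_exists] at hcon
  apply hpnz
  apply Cofan.IsColimit.hom_ext (SheafOfModules.isColimitFreeCofan ι)
  intro i
  have := not_not.1 (hcon (SheafOfModules.ιFree i ≫ p))
  rw [SheafOfModules.freeCofan_inj]
  exact this.trans comp_zero.symm

/-- the isomorphism `N ⊗ (K ⊗ B) ≅ B` for an inverse `K` of `N` -/
noncomputable def cancelIso {N K B : X.Modules} (hK : PicF.IsInvertible K)
    (hB : PicF.IsInvertible B) (eK : CohB1.tensorMod K N ≅ Coh.structureModule X) :
    CohB1.tensorMod N (CohB1.tensorMod K B) ≅ B :=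
  (GenusOne.assocIso N hK hB).symm ≪≫
    Groth.Agent.Lead.TilT.tensorModCongr (TildeTens.tensorModComm N K ≪≫ eK) (Iso.refl B) ≪≫
    TildeTens.tensorModComm (Coh.structureModule X) B ≪≫
    Groth.Agent.Lib.Helper5.LTenFlf.tensorUnitIso B

end Gen

section Field

variable (k : Type u) [Field k] (X : Scheme.{u}) [X.Over (Spec (CommRingCat.of k))]
  [IsProper (X ↘ (Spec (CommRingCat.of k)))]

/-- `h⁰` is monotone along monomorphisms (explicit hypothesis) -/
theorem finrank_HH0_le_of_mono' {F E : X.Modules} (hE : Coh.IsCoh E) (i : F ⟶ E) (hi : Mono i) :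
    Module.finrank k (Coh.HH X F 0) ≤ Module.finrank k (Coh.HH X E 0) := by
  haveI := hi
  exact finrank_HH0_le_of_mono k X hE i

/-- subadditivity of `h⁰` in short exact sequences -/
theorem finrank_HH0_mid_le {S : ShortComplex X.Modules} (hS : S.ShortExact)
    (h1 : Coh.IsCoh S.X₁) (h2 : Coh.IsCoh S.X₂) (h3 : Coh.IsCoh S.X₃) :
    Module.finrank k (Coh.HH X S.X₂ 0) ≤
      Module.finrank k (Coh.HH X S.X₁ 0) + Module.finrank k (Coh.HH X S.X₃ 0) := by
  haveI : Module.Finite k (Coh.HH X S.X₁ 0) := T2Main1.t2 k X _ h1 0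
  haveI : Module.Finite k (Coh.HH X S.X₂ 0) := T2Main1.t2 k X _ h2 0
  haveI : Module.Finite k (Coh.HH X S.X₃ 0) := T2Main1.t2 k X _ h3 0
  have hker : LinearMap.ker (Canon.HHlin k S.g 0) ≤ LinearMap.range (Canon.HHlin k S.f 0) := by
    intro x hx
    obtain ⟨y, hy⟩ := HHFin2.exact_f_g k hS 0 x (LinearMap.mem_ker.1 hx)
    exact ⟨y, hy⟩
  have e1 := LinearMap.finrank_range_add_finrank_ker (Canon.HHlin k S.g 0)
  have e2 : Module.finrank k (LinearMap.range (Canon.HHlin k S.g 0)) ≤
      Module.finrank k (Coh.HH X S.X₃ 0) := Submodule.finrank_le _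
  have e3 : Module.finrank k (LinearMap.ker (Canon.HHlin k S.g 0)) ≤
      Module.finrank k (LinearMap.range (Canon.HHlin k S.f 0)) := Submodule.finrank_mono hker
  have e4 : Module.finrank k (LinearMap.range (Canon.HHlin k S.f 0)) ≤
      Module.finrank k (Coh.HH X S.X₁ 0) := LinearMap.finrank_range_le _
  omega

omit [IsProper (X ↘ (Spec (CommRingCat.of k)))] in
/-- the truncated Euler characteristic of a module without higher cohomology -/
theorem eulerCharLE_eq_h0 (F : X.Modules) (d : ℕ)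
    (hvan : ∀ p : ℕ, 0 < p → Subsingleton (Coh.HH X F p)) :
    FGA.eulerCharLE k X F d = (Module.finrank k (Coh.HH X F 0) : ℤ) := by
  unfold FGA.eulerCharLE
  rw [Finset.sum_eq_single 0]
  · rw [pow_zero, one_mul]
  · intro p _ hp
    haveI := hvan p (Nat.pos_of_ne_zero hp)
    rw [Module.finrank_zero_of_subsingleton, Nat.cast_zero, mul_zero]
  · intro h
    exact absurd (Finset.mem_range.2 (Nat.succ_pos d)) h

/-- `h⁰` of the powers of an ample module, eventually -/
theorem h0_ample_pow_eq (d : ℕ) (hd : topologicalKrullDim X ≤ ((d : ℕ) : WithBot ℕ∞))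
    (B KB : X.Modules) (hB : CohB1.IsAmple B)
    (iB : CohB1.tensorMod B KB ≅ Coh.structureModule X) :
    ∃ m₀ : ℕ, ∀ m : ℕ, m₀ ≤ m →
      (Module.finrank k (Coh.HH X (CohB1.tensorPow B m) 0) : ℤ) =
        ∑ j ∈ Finset.range (d + 1), ((m + j - 1).choose j : ℤ) *
          FGA.intNum k X d (fun _ : Fin j => KB) (Coh.structureModule X) := by
  haveI : AlgebraicGeometry.IsNoetherian X := isNoetherian_of_proper k X
  have hOc := isCoh_structureModule X
  obtain ⟨m₀, hm₀⟩ := SerreAmple.serre_vanishing k (X ↘ Spec (CommRingCat.of k)) hB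
    (Coh.structureModule X) hOc
  have hsuppO : topologicalKrullDim ↥(CohB1.support (Coh.structureModule X)) ≤
      ((d : ℕ) : WithBot ℕ∞) := (topologicalKrullDim_subspace_le X _).trans hd
  refine ⟨m₀, fun m hm => ?_⟩
  rw [← euler_tensorPow_eq_sum_intNum k X d hd B KB hB.1 iB _ hOc d hsuppO m]
  have eU : CohB1.tensorMod (CohB1.tensorPow B m) (Coh.structureModule X) ≅
      CohB1.tensorPow B m := Groth.Agent.Lib.Helper5.LTenFlf.tensorUnitIso _
  have hvan : ∀ p : ℕ, 0 < p → Subsingleton (Coh.HH X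
      (CohB1.tensorMod (CohB1.tensorPow B m) (Coh.structureModule X)) p) := by
    intro p hp
    haveI := hm₀ m hm p hp
    exact (HHFin1.HHequiv k
      (TildeTens.tensorModComm (CohB1.tensorPow B m) (Coh.structureModule X)) p).toEquiv.subsingleton
  rw [eulerCharLE_eq_h0 k X _ d hvan, (HHFin1.HHequiv k eU 0).finrank_eq]

/-- growth of `h⁰` of the powers of an invertible module on an integral projective scheme -/
theorem h0_pow_le_int [IsIntegral X] (H : X.Modules) (hH : CohB1.IsAmple H)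
    (N : X.Modules) (hN : PicF.IsInvertible N) (e : ℕ)
    (hdim : topologicalKrullDim X ≤ ((e : ℕ) : WithBot ℕ∞)) :
    ∃ C : ℕ, ∀ m : ℕ,
      Module.finrank k (Coh.HH X (CohB1.tensorPow N m) 0) ≤ C * (m + 1) ^ e := by
  haveI : AlgebraicGeometry.IsNoetherian X := isNoetherian_of_proper k X
  obtain ⟨K, hK, ⟨eK⟩⟩ := InvInv2.exists_inverse hN
  have hKc : Coh.IsCoh K := InvQc.isCoh_of_isInvertible _ hK
  obtain ⟨t₀, ht₀⟩ := AmpleLib.eventually_globallyGenerated hH K hKc
  have hBa : CohB1.IsAmple (CohB1.tensorPow H (t₀ + 1)) :=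
    (AmpleLib.isAmple_tensorPow_iff hH.1 (t₀ + 1) (Nat.succ_pos t₀)).1 hH
  set B := CohB1.tensorPow H (t₀ + 1) with hBdef
  have hBi : PicF.IsInvertible B := hBa.1
  have hPi : PicF.IsInvertible (CohB1.tensorMod K B) := isInvertible_tensorMod hK hBi
  have hPg : Curv2.IsGloballyGenerated (CohB1.tensorMod K B) := ht₀ (t₀ + 1) (Nat.le_succ t₀)
  have hPnz : ¬ IsZero (CohB1.tensorMod K B) :=
    VB.not_isZero_of_rank_pos X Nat.one_pos (isFinLocFreeOfRank_one hPi)
  obtain ⟨σ, hσ⟩ := exists_section_ne_zero hPg hPnz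
  haveI : Mono σ := mono_of_ne_zero GenLoc.isInvertible_O hPi σ hσ
  -- the monomorphism `N → B`
  let g : CohB1.tensorMod N (Coh.structureModule X) ⟶ CohB1.tensorMod N (CohB1.tensorMod K B) :=
    (DCoh.tensorBi.obj N).map σ
  have hg : Mono g := mono_tensor_left N hN σ
  let uN : CohB1.tensorMod N (Coh.structureModule X) ≅ N :=
    Groth.Agent.Lib.Helper5.LTenFlf.tensorUnitIso N
  let τ : N ⟶ B := uN.inv ≫ g ≫ (cancelIso hK hBi eK).hom
  haveI : Mono τ :=
    mono_comp' uN.inv (mono_iso_inv uN) _ (mono_comp' g hg _ (mono_iso_hom (cancelIso hK hBi eK)))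
  -- the Hilbert polynomial of `B`
  obtain ⟨KB, hKB, ⟨eKB⟩⟩ := InvInv2.exists_inverse hBi
  have iB : CohB1.tensorMod B KB ≅ Coh.structureModule X :=
    TildeTens.tensorModComm B KB ≪≫ eKB
  obtain ⟨m₀, hm₀⟩ := h0_ample_pow_eq k X e hdim B KB hBa iB
  set I : ℕ → ℤ := fun j => FGA.intNum k X e (fun _ : Fin j => KB) (Coh.structureModule X)
    with hI
  set S : ℕ := ∑ j ∈ Finset.range (e + 1), (I j).natAbs with hS
  set C₁ : ℕ := (e + 1) ^ e * S with hC₁
  have hbound1 : ∀ m, m₀ ≤ m →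
      Module.finrank k (Coh.HH X (CohB1.tensorPow B m) 0) ≤ C₁ * (m + 1) ^ e := by
    intro m hm
    have h1 := hm₀ m hm
    have h2 : ∑ j ∈ Finset.range (e + 1), ((m + j - 1).choose j : ℤ) * I j ≤
        ∑ j ∈ Finset.range (e + 1),
          (((e + 1) ^ e * (m + 1) ^ e : ℕ) : ℤ) * ((I j).natAbs : ℤ) := by
      refine Finset.sum_le_sum fun j hj => ?_
      have hj' : j ≤ e := by
        have := Finset.mem_range.1 hj
        omega
      have hc : ((m + j - 1).choose j : ℤ) ≤ (((e + 1) ^ e * (m + 1) ^ e : ℕ) : ℤ) := by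
        exact_mod_cast choose_le m j e hj'
      have hI1 : I j ≤ ((I j).natAbs : ℤ) := Int.le_natAbs
      have hI0 : (0 : ℤ) ≤ ((I j).natAbs : ℤ) := Int.natCast_nonneg _
      calc ((m + j - 1).choose j : ℤ) * I j
          ≤ ((m + j - 1).choose j : ℤ) * ((I j).natAbs : ℤ) :=
            mul_le_mul_of_nonneg_left hI1 (Int.natCast_nonneg _)
        _ ≤ (((e + 1) ^ e * (m + 1) ^ e : ℕ) : ℤ) * ((I j).natAbs : ℤ) :=
            mul_le_mul_of_nonneg_right hc hI0
    have h3 : (Module.finrank k (Coh.HH X (CohB1.tensorPow B m) 0) : ℤ) ≤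
        ((C₁ * (m + 1) ^ e : ℕ) : ℤ) := by
      rw [h1]
      refine h2.trans (le_of_eq ?_)
      rw [← Finset.mul_sum, hC₁, hS]
      push_cast
      ring
    exact_mod_cast h3
  set C₂ : ℕ := ∑ m ∈ Finset.range m₀, Module.finrank k (Coh.HH X (CohB1.tensorPow N m) 0)
    with hC₂
  refine ⟨C₁ + C₂, fun m => ?_⟩
  have hpos : 1 ≤ (m + 1) ^ e := Nat.one_le_pow _ _ (Nat.succ_pos m)
  rcases lt_or_ge m m₀ with hlt | hge
  · have h1 : Module.finrank k (Coh.HH X (CohB1.tensorPow N m) 0) ≤ C₂ :=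
      Finset.single_le_sum
        (f := fun m => Module.finrank k (Coh.HH X (CohB1.tensorPow N m) 0))
        (fun _ _ => Nat.zero_le _) (Finset.mem_range.2 hlt)
    calc Module.finrank k (Coh.HH X (CohB1.tensorPow N m) 0) ≤ C₂ := h1
      _ ≤ C₂ * (m + 1) ^ e := Nat.le_mul_of_pos_right _ hpos
      _ ≤ (C₁ + C₂) * (m + 1) ^ e := Nat.mul_le_mul_right _ (Nat.le_add_left _ _)
  · obtain ⟨φ, hφ⟩ := exists_mono_tensorPow hN hBi τ m
    haveI := hφ
    have hBmc : Coh.IsCoh (CohB1.tensorPow B m) :=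
      InvQc.isCoh_of_isInvertible _ (isInvertible_tensorPow hBi m)
    have h1 := finrank_HH0_le_of_mono k X hBmc φ
    calc Module.finrank k (Coh.HH X (CohB1.tensorPow N m) 0)
        ≤ Module.finrank k (Coh.HH X (CohB1.tensorPow B m) 0) := h1
      _ ≤ C₁ * (m + 1) ^ e := hbound1 m hge
      _ ≤ (C₁ + C₂) * (m + 1) ^ e := Nat.mul_le_mul_right _ (Nat.le_add_right _ _)

/-- growth of the sections of the twists of the structure sheaf of an integral closed
subscheme -/
theorem growth_closure (H : X.Modules) (hH : CohB1.IsAmple H) (N : X.Modules)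
    (hN : PicF.IsInvertible N) (e : ℕ) (ξ : X)
    (hξ : topologicalKrullDim ↥(closure ({ξ} : Set X)) ≤ ((e : ℕ) : WithBot ℕ∞)) :
    ∃ C : ℕ, ∀ m : ℕ, Module.finrank k (Coh.HH X
      (CohB1.tensorMod (CohB1.tensorPow N m) (Cyc.closureStructureSheaf ξ)) 0) ≤
        C * (m + 1) ^ e := by
  set I := IntMult.ptIdeal ξ with hI
  let ι := I.subschemeι
  letI : I.subscheme.Over (Spec (CommRingCat.of k)) := ⟨ι ≫ (X ↘ Spec (CommRingCat.of k))⟩
  haveI : IsProper (I.subscheme ↘ Spec (CommRingCat.of k)) := by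
    change IsProper (ι ≫ (X ↘ Spec (CommRingCat.of k))); infer_instance
  haveI : AlgebraicGeometry.IsNoetherian I.subscheme := isNoetherian_of_proper k I.subscheme
  haveI : IsIntegral I.subscheme := isIntegral_ptIdeal_subscheme ξ
  set NZ := (Scheme.Modules.pullback ι).obj N with hNZ
  set HZ := (Scheme.Modules.pullback ι).obj H with hHZ
  have hNZi : PicF.IsInvertible NZ := PullGen.isInvertible_pullback ι hN
  have hHZa : CohB1.IsAmple HZ :=
    PullAmple.isAmple_pullback_of_isEmbedding ι ι.isClosedEmbedding.isEmbedding hH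
  have hdimZ : topologicalKrullDim I.subscheme ≤ ((e : ℕ) : WithBot ℕ∞) := by
    have h1 := IsHomeomorph.topologicalKrullDim_eq _
      (ι.isClosedEmbedding.isEmbedding.toHomeomorph).isHomeomorph
    rw [h1]
    have h2 : Set.range ι = closure {ξ} := range_ptIdeal_subschemeι ξ
    rw [h2]
    exact hξ
  obtain ⟨C, hC⟩ := h0_pow_le_int k I.subscheme HZ hHZa NZ hNZi e hdimZ
  refine ⟨C, fun m => ?_⟩
  obtain ⟨l⟩ := VBP.nonempty_HH_equiv_push k ι rfl (M := Coh.structureModule I.subscheme)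
    GenLoc.isInvertible_O (N := CohB1.tensorPow N m) (isInvertible_tensorPow hN m) 0
  obtain ⟨e1⟩ := P1Iso.nonempty_pullback_tensorPow_iso ι hN m
  have e2 : CohB1.tensorMod (Coh.structureModule I.subscheme)
      ((Scheme.Modules.pullback ι).obj (CohB1.tensorPow N m)) ≅ CohB1.tensorPow NZ m :=
    TildeTens.tensorModComm _ _ ≪≫ Groth.Agent.Lib.Helper5.LTenFlf.tensorUnitIso _ ≪≫ e1
  have e3 : CohB1.tensorMod (CohB1.tensorPow N m) (Cyc.closureStructureSheaf ξ) ≅
      CohB1.tensorMod ((Scheme.Modules.pushforward ι).obj (Coh.structureModule I.subscheme))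
        (CohB1.tensorPow N m) := TildeTens.tensorModComm _ _
  rw [(HHFin1.HHequiv k e3 0).finrank_eq, ← l.finrank_eq, (HHFin1.HHequiv k e2 0).finrank_eq]
  exact hC m

/-- **growth of the sections of the twists of a coherent module** on a projective scheme:
`h⁰(N^m ⊗ F) = O(m^e)` for `e ≥ dim Supp F` -/
theorem growth_le (H : X.Modules) (hH : CohB1.IsAmple H) (N : X.Modules)
    (hN : PicF.IsInvertible N) (e : ℕ) (F : X.Modules) (hF : Coh.IsCoh F)
    (hd : topologicalKrullDim ↥(CohB1.support F) ≤ ((e : ℕ) : WithBot ℕ∞)) :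
    ∃ C : ℕ, ∀ m : ℕ, Module.finrank k (Coh.HH X
      (CohB1.tensorMod (CohB1.tensorPow N m) F) 0) ≤ C * (m + 1) ^ e := by
  haveI : AlgebraicGeometry.IsNoetherian X := isNoetherian_of_proper k X
  have hNm : ∀ m, PicF.IsInvertible (CohB1.tensorPow N m) := fun m => isInvertible_tensorPow hN m
  have hNmc : ∀ m, Coh.IsCoh (CohB1.tensorPow N m) := fun m =>
    InvQc.isCoh_of_isInvertible _ (hNm m)
  refine dev_simple (fun M => Coh.IsCoh M → ∃ C : ℕ, ∀ m : ℕ,
      Module.finrank k (Coh.HH X (CohB1.tensorMod (CohB1.tensorPow N m) M) 0) ≤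
        C * (m + 1) ^ e)
    ?_ ?_ (CohB1.support F) ?_ ?_ F hF subset_rfl hF
  · -- isomorphisms
    intro M M' i hK hM'
    have hM : Coh.IsCoh M := isCoh_of_iso i.symm hM'
    obtain ⟨C, hC⟩ := hK hM
    refine ⟨C, fun m => ?_⟩
    rw [← (HHFin1.HHequiv k (Groth.Agent.Lead.TilT.tensorModCongr
      (Iso.refl (CohB1.tensorPow N m)) i) 0).finrank_eq]
    exact hC m
  · -- the zero module
    intro M hM _
    refine ⟨0, fun m => ?_⟩
    have hz : IsZero (CohB1.tensorMod (CohB1.tensorPow N m) M) :=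
      Groth.Agent.Lib.Helper5.SPTensor.isZero_tensor_right _ _ hM
    haveI : Subsingleton (Coh.HH X (CohB1.tensorMod (CohB1.tensorPow N m) M) 0) :=
      H1Ext.subsingleton_HH_of_isZero hz 0
    rw [Module.finrank_zero_of_subsingleton]
    exact Nat.zero_le _
  · -- short exact sequences
    intro S hS h1 h2 h3 _
    have hSm : ∀ m, (S.map (DCoh.tensorBi.obj (CohB1.tensorPow N m))).ShortExact := fun m =>
      shortExact_tensor _ (InvInv2.isFinLocFree_of_isInvertible (hNm m)) S hS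
    refine ⟨fun k2 _ _ => ?_, fun k1 k3 _ => ?_⟩
    · obtain ⟨C, hC⟩ := k2 h2
      refine ⟨C, fun m => ?_⟩
      have c2 : Coh.IsCoh (S.map (DCoh.tensorBi.obj (CohB1.tensorPow N m))).X₂ :=
        isCoh_tensor (CohB1.tensorPow N m) S.X₂ (hNmc m) h2
      have hle := finrank_HH0_le_of_mono' k X c2
        (S.map (DCoh.tensorBi.obj (CohB1.tensorPow N m))).f (hSm m).mono_f
      change Module.finrank k (Coh.HH X (CohB1.tensorMod (CohB1.tensorPow N m) S.X₁) 0) ≤
          Module.finrank k (Coh.HH X (CohB1.tensorMod (CohB1.tensorPow N m) S.X₂) 0) at hle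
      exact hle.trans (hC m)
    · obtain ⟨C1, hC1⟩ := k1 h1
      obtain ⟨C3, hC3⟩ := k3 h3
      refine ⟨C1 + C3, fun m => ?_⟩
      have c1 : Coh.IsCoh (S.map (DCoh.tensorBi.obj (CohB1.tensorPow N m))).X₁ :=
        isCoh_tensor (CohB1.tensorPow N m) S.X₁ (hNmc m) h1
      have c2 : Coh.IsCoh (S.map (DCoh.tensorBi.obj (CohB1.tensorPow N m))).X₂ :=
        isCoh_tensor (CohB1.tensorPow N m) S.X₂ (hNmc m) h2
      have c3 : Coh.IsCoh (S.map (DCoh.tensorBi.obj (CohB1.tensorPow N m))).X₃ :=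
        isCoh_tensor (CohB1.tensorPow N m) S.X₃ (hNmc m) h3
      have hmid := finrank_HH0_mid_le k X (hSm m) c1 c2 c3
      change Module.finrank k (Coh.HH X (CohB1.tensorMod (CohB1.tensorPow N m) S.X₂) 0) ≤
          Module.finrank k (Coh.HH X (CohB1.tensorMod (CohB1.tensorPow N m) S.X₁) 0) +
            Module.finrank k (Coh.HH X (CohB1.tensorMod (CohB1.tensorPow N m) S.X₃) 0) at hmid
      calc Module.finrank k (Coh.HH X (CohB1.tensorMod (CohB1.tensorPow N m) S.X₂) 0)
          ≤ _ := hmid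
        _ ≤ C1 * (m + 1) ^ e + C3 * (m + 1) ^ e := Nat.add_le_add (hC1 m) (hC3 m)
        _ = (C1 + C3) * (m + 1) ^ e := (Nat.add_mul _ _ _).symm
  · -- the structure sheaves of the integral closed subschemes
    intro Z hZ hirr hZX' ξ hξ _
    refine ⟨Cyc.closureStructureSheaf ξ, isCoh_closureStructureSheaf ξ, ?_, ?_,
      isSimpleModule_stalk_closureStructureSheaf ξ⟩
    · intro _
      have hle : topologicalKrullDim ↥(closure ({ξ} : Set X)) ≤ ((e : ℕ) : WithBot ℕ∞) := by
        rw [hξ]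
        exact (krullDim_le_of_subset hZX').trans hd
      exact growth_closure k X H hH N hN e ξ hle
    · rw [← hξ]
      exact support_closureStructureSheaf ξ

end Field

end Groth.Agent.Helper1.Big
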