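import Mathlib
import Groth.Agent.Lib.Helper1.Big1
import Groth.Agent.Lib.Helper1.NegVan1

/-!
# Big invertible modules: Kodaira's lemma (helper1)
-/

set_option autoImplicit false
universe u
open CategoryTheory CategoryTheory.Limits AlgebraicGeometry TopologicalSpace Opposite

namespace Groth.Agent.Helper1.Big

open Groth.Agent.Helper1 Groth.Agent.Helper1.Euler Groth.Agent.Helper1.Dv
open Groth.Agent.Helper1.FinLen Groth.Agent.Helper1.TwForm Groth.Agent.Helper1.Curve
open Groth.Agent.Helper1.Snap Groth.Agent.Helper1.SnapPos Groth.Agent.Helper1.FGAInt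
open Groth.Agent.Helper1.FGAPos
open Groth.Agent.Lib.Helper4

section Arith

/-- a numerical polynomial with positive leading coefficient grows like its leading term -/
theorem arith_lb (n : ℕ) (I : ℕ → ℤ) (hI : 1 ≤ I n) :
    ∃ j₀ a₀ : ℕ, 0 < a₀ ∧ ∀ m : ℕ, j₀ ≤ m →
      (m : ℤ) ^ n ≤
        (a₀ : ℤ) * ∑ j ∈ Finset.range (n + 1), ((m + j - 1).choose j : ℤ) * I j := by
  rcases n with _ | n'
  · refine ⟨0, 1, Nat.one_pos, fun m _ => ?_⟩
    rw [Finset.sum_range_one, Nat.choose_zero_right, pow_zero, Nat.cast_one, one_mul, one_mul]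
    exact hI
  · set S' : ℕ := ∑ j ∈ Finset.range (n' + 1), (I j).natAbs with hS'
    set Q : ℕ := (n' + 1).factorial * S' * (n' + 1) ^ n' with hQ
    refine ⟨max (2 * Q) 1, 2 * (n' + 1).factorial, by positivity, fun m hm => ?_⟩
    have hm1 : 1 ≤ m := le_trans (le_max_right _ _) hm
    have hmQ : 2 * Q ≤ m := le_trans (le_max_left _ _) hm
    rw [Finset.sum_range_succ]
    -- the top term
    have hA : m ^ (n' + 1) ≤ (n' + 1).factorial * (m + (n' + 1) - 1).choose (n' + 1) := by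
      rw [← Nat.descFactorial_eq_factorial_mul_choose]
      have h := Nat.pow_sub_le_descFactorial (m + (n' + 1) - 1) (n' + 1)
      rwa [show m + (n' + 1) - 1 + 1 - (n' + 1) = m by omega] at h
    -- the lower terms
    have hB : ∀ j ∈ Finset.range (n' + 1),
        -((((n' + 1) * m) ^ n' : ℕ) : ℤ) * ((I j).natAbs : ℤ) ≤
          ((m + j - 1).choose j : ℤ) * I j := by
      intro j hj
      have hj' : j ≤ n' := by
        have := Finset.mem_range.1 hj
        omega
      have h1 : (m + j - 1).choose j ≤ (m + j - 1) ^ j := Nat.choose_le_pow _ _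
      have h2 : m + j - 1 ≤ (n' + 1) * m := by
        have h3 : (n' + 1) * m = n' * m + m := by ring
        have h4 : n' ≤ n' * m := Nat.le_mul_of_pos_right _ hm1
        omega
      have h5 : (m + j - 1) ^ j ≤ ((n' + 1) * m) ^ j := Nat.pow_le_pow_left h2 j
      have h6 : ((n' + 1) * m) ^ j ≤ ((n' + 1) * m) ^ n' :=
        Nat.pow_le_pow_right (Nat.mul_pos (Nat.succ_pos n') hm1) hj'
      have hc : ((m + j - 1).choose j : ℤ) ≤ ((((n' + 1) * m) ^ n' : ℕ) : ℤ) := by
        exact_mod_cast h1.trans (h5.trans h6)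
      have hc0 : (0 : ℤ) ≤ ((m + j - 1).choose j : ℤ) := Int.natCast_nonneg _
      have hI1 : -((I j).natAbs : ℤ) ≤ I j := by
        rw [Int.natCast_natAbs]
        exact neg_abs_le _
      calc -((((n' + 1) * m) ^ n' : ℕ) : ℤ) * ((I j).natAbs : ℤ)
          ≤ -((m + j - 1).choose j : ℤ) * ((I j).natAbs : ℤ) := by
            have := mul_le_mul_of_nonneg_right hc (Int.natCast_nonneg (I j).natAbs)
            linarith
        _ = ((m + j - 1).choose j : ℤ) * (-((I j).natAbs : ℤ)) := by ring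
        _ ≤ ((m + j - 1).choose j : ℤ) * I j := mul_le_mul_of_nonneg_left hI1 hc0
    have hlow : -((((n' + 1) * m) ^ n' : ℕ) : ℤ) * (S' : ℤ) ≤
        ∑ j ∈ Finset.range (n' + 1), ((m + j - 1).choose j : ℤ) * I j := by
      have := Finset.sum_le_sum hB
      rw [← Finset.mul_sum] at this
      rw [hS', Nat.cast_sum]
      exact this
    set Sl := ∑ j ∈ Finset.range (n' + 1), ((m + j - 1).choose j : ℤ) * I j with hSl
    set Ct : ℤ := ((m + (n' + 1) - 1).choose (n' + 1) : ℤ) with hCt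
    have hCt0 : 0 ≤ Ct := Int.natCast_nonneg _
    have hAz : (m : ℤ) ^ (n' + 1) ≤ ((n' + 1).factorial : ℤ) * Ct := by
      rw [hCt]
      exact_mod_cast hA
    have hf0 : (0 : ℤ) ≤ ((n' + 1).factorial : ℤ) := Int.natCast_nonneg _
    have hQP : 2 * ((Q : ℤ) * (m : ℤ) ^ n') ≤ (m : ℤ) ^ (n' + 1) := by
      have h1 : ((2 * Q : ℕ) : ℤ) ≤ (m : ℤ) := by exact_mod_cast hmQ
      have h2 : (0 : ℤ) ≤ (m : ℤ) ^ n' := by positivity
      have h3 := mul_le_mul_of_nonneg_right h1 h2
      rw [pow_succ]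
      push_cast at h3
      linarith
    have hfl : -((Q : ℤ) * (m : ℤ) ^ n') ≤ ((n' + 1).factorial : ℤ) * Sl := by
      have h1 := mul_le_mul_of_nonneg_left hlow hf0
      have h2 : ((n' + 1).factorial : ℤ) * (-((((n' + 1) * m) ^ n' : ℕ) : ℤ) * (S' : ℤ)) =
          -((Q : ℤ) * (m : ℤ) ^ n') := by
        have h0 : (((n' + 1) * m) ^ n' : ℕ) = (n' + 1) ^ n' * m ^ n' := Nat.mul_pow _ _ _
        rw [hQ, h0]
        push_cast
        ring
      rw [h2] at h1
      exact h1
    have htop : ((n' + 1).factorial : ℤ) * Ct ≤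
        ((n' + 1).factorial : ℤ) * (Ct * I (n' + 1)) := by
      apply mul_le_mul_of_nonneg_left _ hf0
      calc Ct = Ct * 1 := (mul_one _).symm
        _ ≤ Ct * I (n' + 1) := mul_le_mul_of_nonneg_left hI hCt0
    have hexp : ((2 * (n' + 1).factorial : ℕ) : ℤ) * (Sl + Ct * I (n' + 1)) =
        2 * (((n' + 1).factorial : ℤ) * Sl) +
          2 * (((n' + 1).factorial : ℤ) * (Ct * I (n' + 1))) := by
      push_cast
      ring
    rw [hexp]
    linarith

/-- emptiness from a negative dimension -/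
theorem eq_empty_of_krullDim_add_one_le_zero {T : Type*} [TopologicalSpace T] (A : Set T)
    (h : topologicalKrullDim ↥A + 1 ≤ ((0 : ℕ) : WithBot ℕ∞)) : A = ∅ := by
  by_contra hne
  obtain ⟨x, hx⟩ := Set.nonempty_iff_ne_empty.2 hne
  haveI : Nonempty (IrreducibleCloseds ↥A) :=
    ⟨⟨closure {⟨x, hx⟩}, isIrreducible_singleton.closure, isClosed_closure⟩⟩
  have h0 : (0 : WithBot ℕ∞) ≤ topologicalKrullDim ↥A := Order.krullDim_nonneg
  have h1 : (0 : WithBot ℕ∞) + 1 ≤ topologicalKrullDim ↥A + 1 := add_le_add h0 le_rfl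
  have h2 : (1 : WithBot ℕ∞) ≤ 0 := by
    have := h1.trans h
    simpa using this
  exact absurd h2 (not_le.2 zero_lt_one)

/-- a choice of a large exponent -/
theorem exists_large (a C₀ n' : ℕ) :
    ∃ μ : ℕ, 1 ≤ μ ∧ a * (C₀ * (μ + 1) ^ n') < μ ^ (n' + 1) := by
  refine ⟨2 ^ n' * a * C₀ + 1, Nat.succ_pos _, ?_⟩
  set μ := 2 ^ n' * a * C₀ + 1 with hμ
  have h1 : (μ + 1) ^ n' ≤ (2 * μ) ^ n' := Nat.pow_le_pow_left (by omega) n'
  have h2 : (2 * μ) ^ n' = 2 ^ n' * μ ^ n' := Nat.mul_pow _ _ _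
  have h3 : 0 < μ ^ n' := Nat.pow_pos (Nat.succ_pos _)
  have h4 : a * (C₀ * (μ + 1) ^ n') ≤ (2 ^ n' * a * C₀) * μ ^ n' := by
    calc a * (C₀ * (μ + 1) ^ n') ≤ a * (C₀ * (2 ^ n' * μ ^ n')) := by
          apply Nat.mul_le_mul_left
          apply Nat.mul_le_mul_left
          rw [← h2]
          exact h1
      _ = (2 ^ n' * a * C₀) * μ ^ n' := by ring
  have h5 : (2 ^ n' * a * C₀) * μ ^ n' < μ * μ ^ n' :=
    Nat.mul_lt_mul_of_pos_right (by omega) h3
  have h6 : μ * μ ^ n' = μ ^ (n' + 1) := (pow_succ' μ n').symm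
  omega

end Arith

section Gen

variable {X : Scheme.{u}}

/-- `(L' ⊗ K) ⊗ A ≅ L'` for an inverse `K` of `A` -/
noncomputable def cancelRight {L' K A : X.Modules} (hK : PicF.IsInvertible K)
    (hA : PicF.IsInvertible A) (eK : CohB1.tensorMod K A ≅ Coh.structureModule X) :
    CohB1.tensorMod (CohB1.tensorMod L' K) A ≅ L' :=
  GenusOne.assocIso L' hK hA ≪≫ Groth.Agent.Lead.TilT.tensorModCongr (Iso.refl L') eK ≪≫
    Groth.Agent.Lib.Helper5.LTenFlf.tensorUnitIso L'

/-- `(L' ⊗ K) ⊗ C ≅ L' ⊗ (C ⊗ K)` -/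
noncomputable def swapIso {L' K : X.Modules} (C : X.Modules) (hL' : PicF.IsInvertible L')
    (hK : PicF.IsInvertible K) :
    CohB1.tensorMod (CohB1.tensorMod L' K) C ≅ CohB1.tensorMod L' (CohB1.tensorMod C K) :=
  TildeTens.tensorModComm _ _ ≪≫
    Groth.Agent.Lead.TilT.tensorModCongr (Iso.refl C) (TildeTens.tensorModComm L' K) ≪≫
    (GenusOne.assocIso C hK hL').symm ≪≫ TildeTens.tensorModComm _ _

/-- iterated tensor powers -/
noncomputable def powPowIso {L : X.Modules} (hL : PicF.IsInvertible L) (a b : ℕ) :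
    CohB1.tensorPow (CohB1.tensorPow L a) b ≅ CohB1.tensorPow L (a * b) :=
  Tw.iso (((Tw.fst L L).pow a).pow b)
    (((Tw.fst L L).pow (a * b)).cast (by push_cast; ring) (by simp))
    (locFrame_of_isInvertible hL hL)

end Gen

section Field

variable (k : Type u) [Field k] (X : Scheme.{u}) [X.Over (Spec (CommRingCat.of k))]
  [IsProper (X ↘ (Spec (CommRingCat.of k)))]

/-- the sections of the powers of an ample module on an integral scheme grow maximally -/
theorem exists_lower_bound_ample [IsIntegral X] (n : ℕ)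
    (hn : topologicalKrullDim X = ((n : ℕ) : WithBot ℕ∞)) (A : X.Modules)
    (hA : CohB1.IsAmple A) :
    ∃ j₀ a₀ : ℕ, 0 < a₀ ∧ ∀ j : ℕ, j₀ ≤ j →
      j ^ n ≤ a₀ * Module.finrank k (Coh.HH X (CohB1.tensorPow A j) 0) := by
  haveI : AlgebraicGeometry.IsNoetherian X := isNoetherian_of_proper k X
  have hOc := isCoh_structureModule X
  obtain ⟨KA, hKA, ⟨eKA⟩⟩ := InvInv2.exists_inverse hA.1
  have iA : CohB1.tensorMod A KA ≅ Coh.structureModule X :=
    TildeTens.tensorModComm A KA ≪≫ eKA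
  obtain ⟨m₀, hm₀⟩ := h0_ample_pow_eq k X n hn.le A KA hA iA
  have hsupp : CohB1.support (Coh.structureModule X) = Set.univ :=
    Set.eq_univ_of_forall fun x => mem_support_structureModule x
  have hr : topologicalKrullDim ↥(CohB1.support (Coh.structureModule X)) =
      ((n : ℕ) : WithBot ℕ∞) := by
    rw [hsupp, ← hn]
    exact IsHomeomorph.topologicalKrullDim_eq _ (Homeomorph.Set.univ X).isHomeomorph
  have hpos : 0 < FGA.intNum k X n (fun _ : Fin n => KA) (Coh.structureModule X) :=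
    intNum_pos k X n hn.le (fun _ : Fin n => A) (fun _ => KA) (fun _ => hA) (fun _ => ⟨iA⟩) _
      hOc hr
  obtain ⟨j₀, a₀, ha₀, hj₀⟩ := arith_lb n
    (fun j => FGA.intNum k X n (fun _ : Fin j => KA) (Coh.structureModule X))
    (by have := hpos; omega)
  refine ⟨max j₀ m₀, a₀, ha₀, fun j hj => ?_⟩
  have h1 := hj₀ j (le_trans (le_max_left _ _) hj)
  have h2 := hm₀ j (le_trans (le_max_right _ _) hj)
  have h3 : (j : ℤ) ^ n ≤
      (a₀ : ℤ) * (Module.finrank k (Coh.HH X (CohB1.tensorPow A j) 0) : ℤ) := by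
    rw [h2]
    exact h1
  exact_mod_cast h3

/-- **Kodaira's lemma**, first half: a module some power of which contains an ample module is
big -/
theorem growth_of_mono_ample [IsIntegral X] (n : ℕ)
    (hn : topologicalKrullDim X = ((n : ℕ) : WithBot ℕ∞)) (L : X.Modules)
    (hL : PicF.IsInvertible L) (ν : ℕ) (A : X.Modules) (hA : CohB1.IsAmple A)
    (φ : A ⟶ CohB1.tensorPow L ν) [Mono φ] :
    ∃ a m₁ : ℕ, 0 < a ∧ 0 < m₁ ∧ ∀ μ : ℕ, 1 ≤ μ →
      μ ^ n ≤ a * Module.finrank k (Coh.HH X (CohB1.tensorPow L (ν * m₁ * μ)) 0) := by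
  haveI : AlgebraicGeometry.IsNoetherian X := isNoetherian_of_proper k X
  obtain ⟨j₀, a₀, ha₀, hj₀⟩ := exists_lower_bound_ample k X n hn A hA
  refine ⟨a₀, max j₀ 1, ha₀, lt_of_lt_of_le Nat.one_pos (le_max_right _ _), fun μ hμ => ?_⟩
  set m₁ := max j₀ 1 with hm₁
  have hm₁1 : 1 ≤ m₁ := le_max_right _ _
  have hj : j₀ ≤ m₁ * μ := le_trans (le_max_left _ _) (Nat.le_mul_of_pos_right _ hμ)
  have h1 := hj₀ (m₁ * μ) hj
  have hLν := isInvertible_tensorPow hL ν
  obtain ⟨ψ, hψ⟩ := exists_mono_tensorPow hA.1 hLν φ (m₁ * μ)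
  haveI := hψ
  have e : CohB1.tensorPow (CohB1.tensorPow L ν) (m₁ * μ) ≅ CohB1.tensorPow L (ν * m₁ * μ) :=
    powPowIso hL ν (m₁ * μ) ≪≫ eqToIso (by rw [Nat.mul_assoc])
  have hc : Coh.IsCoh (CohB1.tensorPow (CohB1.tensorPow L ν) (m₁ * μ)) :=
    InvQc.isCoh_of_isInvertible _ (isInvertible_tensorPow hLν _)
  have h2 := finrank_HH0_le_of_mono k X hc ψ
  rw [(HHFin1.HHequiv k e 0).finrank_eq] at h2
  calc μ ^ n ≤ (m₁ * μ) ^ n := Nat.pow_le_pow_left (Nat.le_mul_of_pos_left _ hm₁1) n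
    _ ≤ a₀ * Module.finrank k (Coh.HH X (CohB1.tensorPow A (m₁ * μ)) 0) := h1
    _ ≤ a₀ * Module.finrank k (Coh.HH X (CohB1.tensorPow L (ν * m₁ * μ)) 0) :=
        Nat.mul_le_mul_left _ h2

/-- **Kodaira's lemma**, second half: a big module has a power containing an ample module -/
theorem exists_mono_ample_of_growth [IsIntegral X] (n : ℕ)
    (hn : topologicalKrullDim X = ((n : ℕ) : WithBot ℕ∞)) (H : X.Modules)
    (hH : CohB1.IsAmple H) (L : X.Modules) (hL : PicF.IsInvertible L) (ν a : ℕ) (hν : 0 < ν)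
    (hgrow : ∀ μ : ℕ, 1 ≤ μ →
      μ ^ n ≤ a * Module.finrank k (Coh.HH X (CohB1.tensorPow L (ν * μ)) 0)) :
    ∃ (t₁ μ : ℕ) (φ : CohB1.tensorPow H (t₁ + 1) ⟶ CohB1.tensorPow L (ν * μ)),
      1 ≤ μ ∧ Mono φ := by
  haveI : AlgebraicGeometry.IsNoetherian X := isNoetherian_of_proper k X
  have hOc := isCoh_structureModule X
  have hOi : PicF.IsInvertible (Coh.structureModule X) := GenLoc.isInvertible_O
  obtain ⟨t₀, ht₀⟩ := AmpleLib.eventually_globallyGenerated hH (Coh.structureModule X) hOc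
  have hAa : CohB1.IsAmple (CohB1.tensorPow H (t₀ + 1)) :=
    (AmpleLib.isAmple_tensorPow_iff hH.1 (t₀ + 1) (Nat.succ_pos t₀)).1 hH
  set A := CohB1.tensorPow H (t₀ + 1) with hAdef
  have hAi : PicF.IsInvertible A := hAa.1
  have hAc : Coh.IsCoh A := InvQc.isCoh_of_isInvertible _ hAi
  -- a nonzero section of `A`
  have hPi : PicF.IsInvertible (CohB1.tensorMod (Coh.structureModule X) A) :=
    isInvertible_tensorMod hOi hAi
  have hPg : Curv2.IsGloballyGenerated (CohB1.tensorMod (Coh.structureModule X) A) :=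
    ht₀ (t₀ + 1) (Nat.le_succ t₀)
  have hPnz : ¬ IsZero (CohB1.tensorMod (Coh.structureModule X) A) :=
    VB.not_isZero_of_rank_pos X Nat.one_pos (isFinLocFreeOfRank_one hPi)
  obtain ⟨σ, hσ⟩ := exists_section_ne_zero hPg hPnz
  let uA : CohB1.tensorMod (Coh.structureModule X) A ≅ A :=
    TildeTens.tensorModComm _ _ ≪≫ Groth.Agent.Lib.Helper5.LTenFlf.tensorUnitIso A
  set t : Coh.structureModule X ⟶ A := σ ≫ uA.hom with ht
  have htnz : t ≠ 0 := by
    intro h0
    apply hσ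
    have : σ ≫ uA.hom = 0 ≫ uA.hom := by rw [zero_comp]; exact h0
    exact (cancel_mono uA.hom).1 this
  haveI : Mono t := mono_of_ne_zero hOi hAi t htnz
  have hη := genericPoint_notMem_support_cokernel hOi hAi t htnz
  set Cq := cokernel t with hCq
  have hCc : Coh.IsCoh Cq := FtLocal.isCoh_cokernel hOc hAc t
  have hcl : IsClosed (CohB1.support Cq) := FtGen.isClosed_support Cq hCc.2
  have hne : CohB1.support Cq ≠ Set.univ := fun he => hη (he ▸ Set.mem_univ _)
  have hdimC := krullDim_add_one_le_of_ne_univ hcl hne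
  rw [hn] at hdimC
  let S : ShortComplex X.Modules := ShortComplex.mk t (cokernel.π t) (cokernel.condition t)
  have hS : S.ShortExact :=
    { exact := ShortComplex.exact_of_g_is_cokernel _ (cokernelIsCokernel t)
      mono_f := inferInstanceAs (Mono t)
      epi_g := inferInstanceAs (Epi (cokernel.π t)) }
  obtain ⟨KA, hKA, ⟨eKA⟩⟩ := InvInv2.exists_inverse hAi
  have hKAc : Coh.IsCoh KA := InvQc.isCoh_of_isInvertible _ hKA
  -- the twisting modules
  have hL' : ∀ μ : ℕ, PicF.IsInvertible (CohB1.tensorPow L (ν * μ)) := fun μ =>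
    isInvertible_tensorPow hL _
  have hE : ∀ μ : ℕ, PicF.IsInvertible (CohB1.tensorMod (CohB1.tensorPow L (ν * μ)) KA) :=
    fun μ => isInvertible_tensorMod (hL' μ) hKA
  -- the key estimate
  have hkey : ∃ μ : ℕ, 1 ≤ μ ∧ a * Module.finrank k (Coh.HH X
      (CohB1.tensorMod (CohB1.tensorMod (CohB1.tensorPow L (ν * μ)) KA) Cq) 0) < μ ^ n := by
    rcases n with _ | n'
    · refine ⟨1, le_rfl, ?_⟩
      have hemp := eq_empty_of_krullDim_add_one_le_zero _ hdimC
      have hz : IsZero Cq := isZero_of_support_subset_empty Cq (le_of_eq hemp)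
      have hz2 : IsZero (CohB1.tensorMod (CohB1.tensorMod (CohB1.tensorPow L (ν * 1)) KA) Cq) :=
        Groth.Agent.Lib.Helper5.SPTensor.isZero_tensor_right
          (CohB1.tensorMod (CohB1.tensorPow L (ν * 1)) KA) Cq hz
      haveI : Subsingleton (Coh.HH X
          (CohB1.tensorMod (CohB1.tensorMod (CohB1.tensorPow L (ν * 1)) KA) Cq) 0) :=
        H1Ext.subsingleton_HH_of_isZero hz2 0
      rw [Module.finrank_zero_of_subsingleton, mul_zero, pow_zero]
      exact Nat.one_pos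
    · have hdC : topologicalKrullDim ↥(CohB1.support Cq) ≤ ((n' : ℕ) : WithBot ℕ∞) :=
        le_of_add_one_le_succ _ n' hdimC
      set F := CohB1.tensorMod Cq KA with hF
      have hFc : Coh.IsCoh F := isCoh_tensor _ _ hCc hKAc
      have hFd : topologicalKrullDim ↥(CohB1.support F) ≤ ((n' : ℕ) : WithBot ℕ∞) :=
        (krullDim_le_of_subset fun x hx => NegVan.support_tensor_subset hKA x hx).trans hdC
      obtain ⟨C₀, hC₀⟩ := growth_le k X H hH (CohB1.tensorPow L ν)
        (isInvertible_tensorPow hL ν) n' F hFc hFd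
      obtain ⟨μ, hμ1, hμ⟩ := exists_large a C₀ n'
      refine ⟨μ, hμ1, lt_of_le_of_lt ?_ hμ⟩
      apply Nat.mul_le_mul_left
      have e1 : CohB1.tensorMod (CohB1.tensorMod (CohB1.tensorPow L (ν * μ)) KA) Cq ≅
          CohB1.tensorMod (CohB1.tensorPow (CohB1.tensorPow L ν) μ) F :=
        swapIso Cq (hL' μ) hKA ≪≫
          Groth.Agent.Lead.TilT.tensorModCongr (powPowIso hL ν μ).symm (Iso.refl F)
      rw [(HHFin1.HHequiv k e1 0).finrank_eq]
      exact hC₀ μ
  obtain ⟨μ, hμ1, hμ⟩ := hkey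
  refine ⟨t₀, μ, ?_⟩
  set L' := CohB1.tensorPow L (ν * μ) with hL'def
  set E := CohB1.tensorMod L' KA with hEdef
  have hEi : PicF.IsInvertible E := hE μ
  have hEc : Coh.IsCoh E := InvQc.isCoh_of_isInvertible _ hEi
  -- the twisted sequence
  have hSE : (S.map (DCoh.tensorBi.obj E)).ShortExact :=
    shortExact_tensor E (InvInv2.isFinLocFree_of_isInvertible hEi) S hS
  have c1 : Coh.IsCoh (S.map (DCoh.tensorBi.obj E)).X₁ :=
    isCoh_tensor E (Coh.structureModule X) hEc hOc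
  have c2 : Coh.IsCoh (S.map (DCoh.tensorBi.obj E)).X₂ := isCoh_tensor E A hEc hAc
  have c3 : Coh.IsCoh (S.map (DCoh.tensorBi.obj E)).X₃ := isCoh_tensor E Cq hEc hCc
  have hmid := finrank_HH0_mid_le k X hSE c1 c2 c3
  change Module.finrank k (Coh.HH X (CohB1.tensorMod E A) 0) ≤
      Module.finrank k (Coh.HH X (CohB1.tensorMod E (Coh.structureModule X)) 0) +
        Module.finrank k (Coh.HH X (CohB1.tensorMod E Cq) 0) at hmid
  have hEA : Module.finrank k (Coh.HH X (CohB1.tensorMod E A) 0) =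
      Module.finrank k (Coh.HH X L' 0) :=
    (HHFin1.HHequiv k (cancelRight hKA hAi eKA) 0).finrank_eq
  have hEO : Module.finrank k (Coh.HH X (CohB1.tensorMod E (Coh.structureModule X)) 0) =
      Module.finrank k (Coh.HH X E 0) :=
    (HHFin1.HHequiv k (Groth.Agent.Lib.Helper5.LTenFlf.tensorUnitIso E) 0).finrank_eq
  have hg : μ ^ n ≤ a * Module.finrank k (Coh.HH X L' 0) := hgrow μ hμ1
  rw [hEA, hEO] at hmid
  -- a nonzero section of `E`
  have hpos : 0 < Module.finrank k (Coh.HH X E 0) := by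
    by_contra hcon
    have h0 : Module.finrank k (Coh.HH X E 0) = 0 := by omega
    rw [h0, zero_add] at hmid
    have h1 := Nat.mul_le_mul_left a hmid
    omega
  haveI : Module.Finite k (Coh.HH X E 0) := T2Main1.t2 k X _ hEc 0
  obtain ⟨v, hv⟩ := (Module.finrank_pos_iff_exists_ne_zero (R := k)).1 hpos
  obtain ⟨s, hs⟩ := exists_section_of_HH0_ne E v hv
  haveI : Mono s := mono_of_ne_zero hOi hEi s hs
  let g : CohB1.tensorMod A (Coh.structureModule X) ⟶ CohB1.tensorMod A E :=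
    (DCoh.tensorBi.obj A).map s
  have hgm : Mono g := mono_tensor_left A hAi s
  let c : CohB1.tensorMod A E ≅ L' :=
    TildeTens.tensorModComm A E ≪≫ cancelRight hKA hAi eKA
  let uA' : CohB1.tensorMod A (Coh.structureModule X) ≅ A :=
    Groth.Agent.Lib.Helper5.LTenFlf.tensorUnitIso A
  let φ : A ⟶ L' := uA'.inv ≫ g ≫ c.hom
  have hφ : Mono φ :=
    mono_comp' uA'.inv (mono_iso_inv uA') _ (mono_comp' g hgm c.hom (mono_iso_hom c))
  exact ⟨φ, hμ1, hφ⟩

end Field

end Groth.Agent.Helper1.Big
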