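import Mathlib
import Groth.Agent.Lib.Helper1.Big2
import Groth.Agent.Lib.Helper1.NM13
import Groth.Agent.Lib.Helper1.CurveLin2

/-!
# Big invertible modules: growth of the sections for all large exponents (helper1)
-/

set_option autoImplicit false
universe u
open CategoryTheory CategoryTheory.Limits AlgebraicGeometry TopologicalSpace Opposite

namespace Groth.Agent.Helper1.Big

open Groth.Agent.Helper1 Groth.Agent.Helper1.Euler Groth.Agent.Helper1.Dv
open Groth.Agent.Helper1.FinLen Groth.Agent.Helper1.TwForm Groth.Agent.Helper1.Curve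
open Groth.Agent.Helper1.Snap Groth.Agent.Helper1.SnapPos Groth.Agent.Helper1.FGAInt
open Groth.Agent.Helper1.FGAPos
open Groth.Agent.Lib.Helper4

section Real

theorem real_of_nat_growth {j n a f : ℕ} (ha : 0 < a) (h : j ^ n ≤ a * f) :
    (1 / (a : ℝ)) * (j : ℝ) ^ n ≤ (f : ℝ) := by
  have ha' : (0 : ℝ) < a := by exact_mod_cast ha
  have h' : ((j : ℝ)) ^ n ≤ (a : ℝ) * (f : ℝ) := by exact_mod_cast h
  rw [div_mul_eq_mul_div, one_mul, div_le_iff₀ ha']
  linarith

theorem nat_of_real_growth {j n f : ℕ} {C : ℝ} (hC : 0 < C) (h : C * (j : ℝ) ^ n ≤ (f : ℝ)) :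
    j ^ n ≤ ⌈1 / C⌉₊ * f := by
  have h1 : (1 / C : ℝ) ≤ (⌈1 / C⌉₊ : ℝ) := Nat.le_ceil _
  have hf : (0 : ℝ) ≤ f := Nat.cast_nonneg f
  have h2 : ((j : ℝ)) ^ n ≤ (1 / C) * (f : ℝ) := by
    rw [div_mul_eq_mul_div, one_mul, le_div_iff₀ hC]
    linarith
  have h3 : ((j : ℝ)) ^ n ≤ (⌈1 / C⌉₊ : ℝ) * (f : ℝ) :=
    h2.trans (mul_le_mul_of_nonneg_right h1 hf)
  exact_mod_cast h3

end Real

section Gen

variable {X : Scheme.{u}}

/-- `L^a ⊗ L^b ≅ L^(a+b)` -/
noncomputable def powAddIso {L : X.Modules} (hL : PicF.IsInvertible L) (a b : ℕ) :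
    CohB1.tensorMod (CohB1.tensorPow L a) (CohB1.tensorPow L b) ≅ CohB1.tensorPow L (a + b) :=
  Tw.iso (((Tw.fst L L).pow a).tensorR ((Tw.fst L L).pow b))
    (((Tw.fst L L).pow (a + b)).cast (by push_cast; ring) (by simp))
    (locFrame_of_isInvertible hL hL)

/-- `H^s ⊗ (L^r ⊗ H^Q) ≅ L^r ⊗ H^(Q+s)` -/
noncomputable def shuffleIso {L H : X.Modules} (hL : PicF.IsInvertible L)
    (hH : PicF.IsInvertible H) (r Q s : ℕ) :
    CohB1.tensorMod (CohB1.tensorPow H s)
        (CohB1.tensorMod (CohB1.tensorPow L r) (CohB1.tensorPow H Q)) ≅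
      CohB1.tensorMod (CohB1.tensorPow L r) (CohB1.tensorPow H (Q + s)) :=
  Tw.iso (((Tw.snd L H).pow s).tensorR (((Tw.fst L H).pow r).tensorR ((Tw.snd L H).pow Q)))
    ((((Tw.fst L H).pow r).tensorR ((Tw.snd L H).pow (Q + s))).cast
      (by push_cast; ring) (by push_cast; ring))
    (locFrame_of_isInvertible hL hH)

/-- a tensor inverse of an invertible module is invertible -/
theorem isInvertible_of_inverse {A A' : X.Modules} (hA : PicF.IsInvertible A)
    (e : CohB1.tensorMod A' A ≅ Coh.structureModule X) : PicF.IsInvertible A' := by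
  obtain ⟨K, hK, ⟨eK⟩⟩ := InvInv2.exists_inverse hA
  have i : K ≅ A' :=
    (Groth.Agent.Lib.Helper5.LTenFlf.tensorUnitIso K).symm ≪≫ TildeTens.tensorModComm _ _ ≪≫
      Groth.Agent.Lead.TilT.tensorModCongr e.symm (Iso.refl K) ≪≫
      GenusOne.assocIso A' hA hK ≪≫
      Groth.Agent.Lead.TilT.tensorModCongr (Iso.refl A') (TildeTens.tensorModComm A K ≪≫ eK) ≪≫
      Groth.Agent.Lib.Helper5.LTenFlf.tensorUnitIso A'
  exact TwistAmpleOpen.isInvertible_of_iso i hK

/-- from a section of `L^r ⊗ H^Q` and an inclusion `H ⊆ L^m₀` to an inclusion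
`H^s ⊆ L^(r + m₀ (Q + s))` -/
theorem exists_mono_of_section [IsIntegral X] {L H : X.Modules} (hL : PicF.IsInvertible L)
    (hH : PicF.IsInvertible H) (m₀ : ℕ) (φ : H ⟶ CohB1.tensorPow L m₀) [Mono φ] (r Q s : ℕ)
    (σ : Coh.structureModule X ⟶ CohB1.tensorMod (CohB1.tensorPow L r) (CohB1.tensorPow H Q))
    (hσ : σ ≠ 0) :
    ∃ ι : CohB1.tensorPow H s ⟶ CohB1.tensorPow L (r + m₀ * (Q + s)), Mono ι := by
  have hOi : PicF.IsInvertible (Coh.structureModule X) := GenLoc.isInvertible_O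
  have hLr := isInvertible_tensorPow hL r
  have hHQ := isInvertible_tensorPow hH Q
  have hHs := isInvertible_tensorPow hH s
  have hLm := isInvertible_tensorPow hL m₀
  have hP : PicF.IsInvertible (CohB1.tensorMod (CohB1.tensorPow L r) (CohB1.tensorPow H Q)) :=
    isInvertible_tensorMod hLr hHQ
  haveI : Mono σ := mono_of_ne_zero hOi hP σ hσ
  obtain ⟨ψ₀, hψ₀⟩ := exists_mono_tensorPow hH hLm φ (Q + s)
  haveI := hψ₀
  let u : CohB1.tensorPow H s ≅ CohB1.tensorMod (CohB1.tensorPow H s) (Coh.structureModule X) :=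
    (Groth.Agent.Lib.Helper5.LTenFlf.tensorUnitIso (CohB1.tensorPow H s)).symm
  let f1 : CohB1.tensorMod (CohB1.tensorPow H s) (Coh.structureModule X) ⟶
      CohB1.tensorMod (CohB1.tensorPow H s)
        (CohB1.tensorMod (CohB1.tensorPow L r) (CohB1.tensorPow H Q)) :=
    (DCoh.tensorBi.obj (CohB1.tensorPow H s)).map σ
  have hf1 : Mono f1 := mono_tensor_left _ hHs σ
  let e2 := shuffleIso hL hH r Q s
  let f3 : CohB1.tensorMod (CohB1.tensorPow L r) (CohB1.tensorPow H (Q + s)) ⟶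
      CohB1.tensorMod (CohB1.tensorPow L r)
        (CohB1.tensorPow (CohB1.tensorPow L m₀) (Q + s)) :=
    (DCoh.tensorBi.obj (CohB1.tensorPow L r)).map ψ₀
  have hf3 : Mono f3 := mono_tensor_left _ hLr ψ₀
  let e4 : CohB1.tensorMod (CohB1.tensorPow L r)
        (CohB1.tensorPow (CohB1.tensorPow L m₀) (Q + s)) ≅
      CohB1.tensorMod (CohB1.tensorPow L r) (CohB1.tensorPow L (m₀ * (Q + s))) :=
    Groth.Agent.Lead.TilT.tensorModCongr (Iso.refl _) (powPowIso hL m₀ (Q + s))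
  let e5 := powAddIso hL r (m₀ * (Q + s))
  refine ⟨u.hom ≫ f1 ≫ e2.hom ≫ f3 ≫ e4.hom ≫ e5.hom, ?_⟩
  exact mono_comp' _ (mono_iso_hom u) _ (mono_comp' f1 hf1 _ (mono_comp' _ (mono_iso_hom e2) _
    (mono_comp' f3 hf3 _ (mono_comp' _ (mono_iso_hom e4) _ (mono_iso_hom e5)))))

end Gen

section Field

variable (k : Type u) [Field k] (X : Scheme.{u}) [X.Over (Spec (CommRingCat.of k))]
  [IsProper (X ↘ (Spec (CommRingCat.of k)))]

include k in
theorem exists_dim_nat [Nonempty X] :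
    ∃ n : ℕ, topologicalKrullDim X = ((n : ℕ) : WithBot ℕ∞) := by
  haveI : AlgebraicGeometry.IsNoetherian X := isNoetherian_of_proper k X
  exact NM.exists_nat_eq' (NM.topologicalKrullDim_ne_bot X)
    (Groth.Agent.Lib.Helper5.Misc.WeilGeo.dim_lt_top_of_finiteType
      (X ↘ Spec (CommRingCat.of k)))

/-- the structure sheaf has a nonzero global section -/
theorem h0_O_pos [IsIntegral X] :
    0 < Module.finrank k (Coh.HH X (Coh.structureModule X) 0) := by
  have hOc : Coh.IsCoh (Coh.structureModule X) :=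
    InvQc.isCoh_of_isInvertible _ GenLoc.isInvertible_O
  haveI : FiniteDimensional k (Coh.HH X (Coh.structureModule X) 0) := T2Main1.t2 k X _ hOc 0
  haveI : Nontrivial (Coh.HH X (Coh.structureModule X) 0) := by
    refine ⟨(HH0.equiv X (Coh.structureModule X)).symm (one' ⊤), 0, fun h => ?_⟩
    have h2 := congrArg (HH0.equiv X (Coh.structureModule X)) h
    rw [AddEquiv.apply_symm_apply, map_zero] at h2
    exact CurveLin.one_ne_zero_sections (⊤ : X.Opens) (genericPoint X) trivial h2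
  exact Module.finrank_pos

/-- if a power of `L` contains an ample module, the sections of all large powers of `L` grow
maximally -/
theorem growth_all_of_mono_ample [IsIntegral X] (n : ℕ)
    (hn : topologicalKrullDim X = ((n : ℕ) : WithBot ℕ∞)) (H : X.Modules)
    (hH : CohB1.IsAmple H) (L : X.Modules) (hL : PicF.IsInvertible L) (m₀ : ℕ) (hm₀ : 0 < m₀)
    (φ : H ⟶ CohB1.tensorPow L m₀) [Mono φ] :
    ∃ a m₁ : ℕ, 0 < a ∧ ∀ j : ℕ, m₁ ≤ j →
      j ^ n ≤ a * Module.finrank k (Coh.HH X (CohB1.tensorPow L j) 0) := by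
  haveI : AlgebraicGeometry.IsNoetherian X := isNoetherian_of_proper k X
  obtain ⟨j₀, a₀, ha₀, hj₀⟩ := exists_lower_bound_ample k X n hn H hH
  have hcoh : ∀ r : ℕ, Coh.IsCoh (CohB1.tensorPow L r) := fun r =>
    InvQc.isCoh_of_isInvertible _ (isInvertible_tensorPow hL r)
  choose qf hqf using fun r : ℕ =>
    AmpleLib.eventually_globallyGenerated hH (CohB1.tensorPow L r) (hcoh r)
  set Q := (Finset.range m₀).sup qf with hQ
  have hQr : ∀ r, r < m₀ → qf r ≤ Q := fun r hr => Finset.le_sup (Finset.mem_range.2 hr)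
  have hsec : ∀ r, r < m₀ → ∃ σ : Coh.structureModule X ⟶
      CohB1.tensorMod (CohB1.tensorPow L r) (CohB1.tensorPow H Q), σ ≠ 0 := by
    intro r hr
    have hPi : PicF.IsInvertible
        (CohB1.tensorMod (CohB1.tensorPow L r) (CohB1.tensorPow H Q)) :=
      isInvertible_tensorMod (isInvertible_tensorPow hL r) (isInvertible_tensorPow hH.1 Q)
    exact exists_section_ne_zero (hqf r Q (hQr r hr))
      (VB.not_isZero_of_rank_pos X Nat.one_pos (isFinLocFreeOfRank_one hPi))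
  set qs := max (2 * Q + 1) (Q + j₀) with hqs
  refine ⟨(2 * m₀) ^ n * a₀, m₀ * qs, Nat.mul_pos (pow_pos (by omega) n) ha₀, fun j hj => ?_⟩
  have hr : j % m₀ < m₀ := Nat.mod_lt _ hm₀
  have hdm : m₀ * (j / m₀) + j % m₀ = j := Nat.div_add_mod j m₀
  have hq : qs ≤ j / m₀ := (Nat.le_div_iff_mul_le hm₀).2 (by rw [mul_comm]; exact hj)
  set q := j / m₀ with hqdef
  set r := j % m₀ with hrdef
  have hq1 : 2 * Q + 1 ≤ q := le_trans (le_max_left _ _) hq
  have hq2 : Q + j₀ ≤ q := le_trans (le_max_right _ _) hq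
  obtain ⟨s, hs⟩ : ∃ s, q = Q + s := ⟨q - Q, by omega⟩
  obtain ⟨σ, hσ⟩ := hsec r hr
  obtain ⟨ι, hι⟩ := exists_mono_of_section hL hH.1 m₀ φ r Q s σ hσ
  have hexp : r + m₀ * (Q + s) = j := by rw [← hs, add_comm]; exact hdm
  have h2 := finrank_HH0_le_of_mono' k X (hcoh _) ι hι
  rw [hexp] at h2
  have h1 := hj₀ s (by omega)
  have hjs : j ≤ 2 * m₀ * s := by
    calc j = m₀ * q + r := hdm.symm
      _ ≤ m₀ * q + m₀ := Nat.add_le_add_left hr.le _
      _ = m₀ * (q + 1) := by ring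
      _ ≤ m₀ * (2 * s) := Nat.mul_le_mul_left _ (by omega)
      _ = 2 * m₀ * s := by ring
  calc j ^ n ≤ (2 * m₀ * s) ^ n := Nat.pow_le_pow_left hjs n
    _ = (2 * m₀) ^ n * s ^ n := Nat.mul_pow _ _ _
    _ ≤ (2 * m₀) ^ n * (a₀ * Module.finrank k (Coh.HH X (CohB1.tensorPow H s) 0)) :=
        Nat.mul_le_mul_left _ h1
    _ ≤ (2 * m₀) ^ n * (a₀ * Module.finrank k (Coh.HH X (CohB1.tensorPow L j) 0)) :=
        Nat.mul_le_mul_left _ (Nat.mul_le_mul_left _ h2)
    _ = (2 * m₀) ^ n * a₀ * Module.finrank k (Coh.HH X (CohB1.tensorPow L j) 0) := by ring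

/-- if the sections of all large powers of `L` grow maximally, a power of `L` contains any given
ample module -/
theorem exists_mono_ample_of_growth_all [IsIntegral X] (n : ℕ)
    (hn : topologicalKrullDim X = ((n : ℕ) : WithBot ℕ∞)) (A : X.Modules)
    (hA : CohB1.IsAmple A) (L : X.Modules) (hL : PicF.IsInvertible L) (a m₁ : ℕ)
    (hgrow : ∀ j : ℕ, m₁ ≤ j →
      j ^ n ≤ a * Module.finrank k (Coh.HH X (CohB1.tensorPow L j) 0)) :
    ∃ (m : ℕ) (φ : A ⟶ CohB1.tensorPow L m), 0 < m ∧ Mono φ := by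
  haveI : AlgebraicGeometry.IsNoetherian X := isNoetherian_of_proper k X
  have hOc := isCoh_structureModule X
  have hOi : PicF.IsInvertible (Coh.structureModule X) := GenLoc.isInvertible_O
  have hAi := hA.1
  set ν := max m₁ 1 with hνdef
  have hν : 0 < ν := lt_of_lt_of_le Nat.one_pos (le_max_right _ _)
  have hgrow' : ∀ μ : ℕ, 1 ≤ μ →
      μ ^ n ≤ a * Module.finrank k (Coh.HH X (CohB1.tensorPow L (ν * μ)) 0) := fun μ hμ =>
    le_trans (Nat.pow_le_pow_left (Nat.le_mul_of_pos_left μ hν) n)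
      (hgrow (ν * μ) (le_trans (le_max_left _ _) (Nat.le_mul_of_pos_right ν hμ)))
  obtain ⟨t₁, μ, φ, hμ, hφ⟩ := exists_mono_ample_of_growth k X n hn A hA L hL ν a hν hgrow'
  haveI := hφ
  obtain ⟨t₀, ht₀⟩ := AmpleLib.eventually_globallyGenerated hA (Coh.structureModule X) hOc
  set s := t₀ + 1 with hsdef
  have hspos : 0 < (t₁ + 1) * s := Nat.mul_pos (Nat.succ_pos _) (Nat.succ_pos _)
  obtain ⟨N', hN'⟩ : ∃ N', N' + 1 = (t₁ + 1) * s := ⟨(t₁ + 1) * s - 1, by omega⟩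
  have hN't : t₀ ≤ N' := by
    have : s ≤ (t₁ + 1) * s := Nat.le_mul_of_pos_left s (Nat.succ_pos t₁)
    omega
  have hPi : PicF.IsInvertible
      (CohB1.tensorMod (Coh.structureModule X) (CohB1.tensorPow A N')) :=
    isInvertible_tensorMod hOi (isInvertible_tensorPow hAi N')
  obtain ⟨τ, hτ⟩ := exists_section_ne_zero (ht₀ N' hN't)
    (VB.not_isZero_of_rank_pos X Nat.one_pos (isFinLocFreeOfRank_one hPi))
  haveI : Mono τ := mono_of_ne_zero hOi hPi τ hτ
  let u : A ≅ CohB1.tensorMod A (Coh.structureModule X) :=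
    (Groth.Agent.Lib.Helper5.LTenFlf.tensorUnitIso A).symm
  let f1 : CohB1.tensorMod A (Coh.structureModule X) ⟶
      CohB1.tensorMod A (CohB1.tensorMod (Coh.structureModule X) (CohB1.tensorPow A N')) :=
    (DCoh.tensorBi.obj A).map τ
  have hf1 : Mono f1 := mono_tensor_left _ hAi τ
  let e2 : CohB1.tensorMod A (CohB1.tensorMod (Coh.structureModule X) (CohB1.tensorPow A N')) ≅
      CohB1.tensorMod A (CohB1.tensorPow A N') :=
    Groth.Agent.Lead.TilT.tensorModCongr (Iso.refl A)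
      (TildeTens.tensorModComm _ _ ≪≫ Groth.Agent.Lib.Helper5.LTenFlf.tensorUnitIso _)
  let e3 : CohB1.tensorMod A (CohB1.tensorPow A N') ≅ CohB1.tensorPow A (N' + 1) :=
    TildeTens.tensorModComm A (CohB1.tensorPow A N')
  let e4 : CohB1.tensorPow A (N' + 1) ≅ CohB1.tensorPow A ((t₁ + 1) * s) :=
    eqToIso (by rw [hN'])
  let e5 : CohB1.tensorPow A ((t₁ + 1) * s) ≅ CohB1.tensorPow (CohB1.tensorPow A (t₁ + 1)) s :=
    (powPowIso hAi (t₁ + 1) s).symm
  obtain ⟨ψ, hψ⟩ := exists_mono_tensorPow (isInvertible_tensorPow hAi (t₁ + 1))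
    (isInvertible_tensorPow hL (ν * μ)) φ s
  let e6 : CohB1.tensorPow (CohB1.tensorPow L (ν * μ)) s ≅ CohB1.tensorPow L (ν * μ * s) :=
    powPowIso hL (ν * μ) s
  refine ⟨ν * μ * s, u.hom ≫ f1 ≫ e2.hom ≫ e3.hom ≫ e4.hom ≫ e5.hom ≫ ψ ≫ e6.hom,
    Nat.mul_pos (Nat.mul_pos hν (by omega)) (Nat.succ_pos _), ?_⟩
  exact mono_comp' _ (mono_iso_hom u) _ (mono_comp' f1 hf1 _ (mono_comp' _ (mono_iso_hom e2) _
    (mono_comp' _ (mono_iso_hom e3) _ (mono_comp' _ (mono_iso_hom e4) _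
    (mono_comp' _ (mono_iso_hom e5) _ (mono_comp' ψ hψ _ (mono_iso_hom e6)))))))

include k in
/-- the exponent of a big module is one -/
theorem nontrivial_sections_of_big [IsIntegral X] (H : X.Modules) (hH : CohB1.IsAmple H)
    (L : X.Modules) (hL : PicF.IsInvertible L)
    (hbig : ∀ A : X.Modules, CohB1.IsAmple A →
      ∃ (m : ℕ) (φ : A ⟶ CohB1.tensorPow L m), 0 < m ∧ Mono φ) :
    ∃ m₁ : ℕ, ∀ m : ℕ, m₁ ≤ m → Nontrivial (Coh.HH X (CohB1.tensorPow L m) 0) := by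
  obtain ⟨n, hn⟩ := exists_dim_nat k X
  obtain ⟨m₀, φ, hm₀, hφ⟩ := hbig H hH
  haveI := hφ
  obtain ⟨a, m₁, ha, hgr⟩ := growth_all_of_mono_ample k X n hn H hH L hL m₀ hm₀ φ
  refine ⟨max m₁ 1, fun m hm => ?_⟩
  have h1 := hgr m (le_trans (le_max_left _ _) hm)
  have hm1 : 1 ≤ m := le_trans (le_max_right _ _) hm
  have hpos : 0 < m ^ n := pow_pos (by omega) n
  have hf : 0 < Module.finrank k (Coh.HH X (CohB1.tensorPow L m) 0) := by
    by_contra h0
    have h00 : Module.finrank k (Coh.HH X (CohB1.tensorPow L m) 0) = 0 := by omega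
    rw [h00, mul_zero] at h1
    omega
  exact Module.nontrivial_of_finrank_pos (R := k) hf

/-- two characterisations of bigness -/
theorem big_iff_growth [IsIntegral X] (H : X.Modules) (hH : CohB1.IsAmple H) (n : ℕ)
    (hn : topologicalKrullDim X = ((n : ℕ) : WithBot ℕ∞)) (L : X.Modules)
    (hL : PicF.IsInvertible L) :
    (∀ A : X.Modules, CohB1.IsAmple A →
        ∃ (m : ℕ) (φ : A ⟶ CohB1.tensorPow L m), 0 < m ∧ Mono φ) ↔
      ∃ C : ℝ, 0 < C ∧ ∃ m₁ : ℕ, ∀ m : ℕ, m₁ ≤ m →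
        C * (m : ℝ) ^ n ≤ (Module.finrank k (Coh.HH X (CohB1.tensorPow L m) 0) : ℝ) := by
  constructor
  · intro hbig
    obtain ⟨m₀, φ, hm₀, hφ⟩ := hbig H hH
    haveI := hφ
    obtain ⟨a, m₁, ha, hgr⟩ := growth_all_of_mono_ample k X n hn H hH L hL m₀ hm₀ φ
    exact ⟨1 / (a : ℝ), one_div_pos.2 (by exact_mod_cast ha), m₁, fun m hm =>
      real_of_nat_growth ha (hgr m hm)⟩
  · rintro ⟨C, hC, m₁, hgr⟩ A hA
    exact exists_mono_ample_of_growth_all k X n hn A hA L hL ⌈1 / C⌉₊ m₁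
      (fun j hj => nat_of_real_growth hC (hgr j hj))

/-- bigness in terms of sections of twists by inverses of ample modules -/
theorem big_iff_sections [IsIntegral X] (A₀ : X.Modules) (hA₀ : CohB1.IsAmple A₀) (d : ℕ)
    (hdim : topologicalKrullDim X = ((d : ℕ) : WithBot ℕ∞)) (L : X.Modules)
    (hL : PicF.IsInvertible L) :
    (∃ c : ℝ, 0 < c ∧ ∀ᶠ n : ℕ in Filter.atTop,
        c * (n : ℝ) ^ d < (Module.finrank k (Coh.HH X (CohB1.tensorPow L n) 0) : ℝ)) ↔
      ∀ (A A' : X.Modules), CohB1.IsAmple A → ClSub.IsInverseOf A' A →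
        ∃ m : ℕ, 0 < m ∧
          Nontrivial (Coh.HH X (CohB1.tensorMod A' (CohB1.tensorPow L m)) 0) := by
  haveI : AlgebraicGeometry.IsNoetherian X := isNoetherian_of_proper k X
  have hOi : PicF.IsInvertible (Coh.structureModule X) := GenLoc.isInvertible_O
  constructor
  · rintro ⟨c, hc, hev⟩ A A' hA ⟨eA⟩
    obtain ⟨N, hN⟩ := Filter.eventually_atTop.1 hev
    obtain ⟨m, φ, hm, hφ⟩ := exists_mono_ample_of_growth_all k X d hdim A hA L hL ⌈1 / c⌉₊ N
      (fun j hj => nat_of_real_growth hc (hN j hj).le)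
    haveI := hφ
    refine ⟨m, hm, ?_⟩
    have hA'i : PicF.IsInvertible A' := isInvertible_of_inverse hA.1 eA
    let f : CohB1.tensorMod A' A ⟶ CohB1.tensorMod A' (CohB1.tensorPow L m) :=
      (DCoh.tensorBi.obj A').map φ
    have hf : Mono f := mono_tensor_left _ hA'i φ
    have hι : Mono (eA.inv ≫ f) := mono_comp' _ (mono_iso_inv eA) f hf
    have hc' : Coh.IsCoh (CohB1.tensorMod A' (CohB1.tensorPow L m)) :=
      InvQc.isCoh_of_isInvertible _ (isInvertible_tensorMod hA'i (isInvertible_tensorPow hL m))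
    have h2 := finrank_HH0_le_of_mono' k X hc' (eA.inv ≫ f) hι
    have h3 := h0_O_pos k X
    exact Module.nontrivial_of_finrank_pos (R := k) (lt_of_lt_of_le h3 h2)
  · intro h
    obtain ⟨K, hK, ⟨eK⟩⟩ := InvInv2.exists_inverse hA₀.1
    obtain ⟨m, hm, hnt⟩ := h A₀ K hA₀ ⟨eK⟩
    obtain ⟨x, hx⟩ := exists_ne (0 : Coh.HH X (CohB1.tensorMod K (CohB1.tensorPow L m)) 0)
    obtain ⟨σ, hσ⟩ := exists_section_of_HH0_ne _ x hx
    have hLm := isInvertible_tensorPow hL m
    have hP : PicF.IsInvertible (CohB1.tensorMod K (CohB1.tensorPow L m)) :=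
      isInvertible_tensorMod hK hLm
    haveI : Mono σ := mono_of_ne_zero hOi hP σ hσ
    let u : A₀ ≅ CohB1.tensorMod A₀ (Coh.structureModule X) :=
      (Groth.Agent.Lib.Helper5.LTenFlf.tensorUnitIso A₀).symm
    let f1 : CohB1.tensorMod A₀ (Coh.structureModule X) ⟶
        CohB1.tensorMod A₀ (CohB1.tensorMod K (CohB1.tensorPow L m)) :=
      (DCoh.tensorBi.obj A₀).map σ
    have hf1 : Mono f1 := mono_tensor_left _ hA₀.1 σ
    let e2 : CohB1.tensorMod A₀ (CohB1.tensorMod K (CohB1.tensorPow L m)) ≅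
        CohB1.tensorPow L m := cancelIso hK hLm eK
    haveI hmono : Mono (u.hom ≫ f1 ≫ e2.hom) :=
      mono_comp' _ (mono_iso_hom u) _ (mono_comp' f1 hf1 _ (mono_iso_hom e2))
    obtain ⟨a, m₁, ha, hgr⟩ := growth_all_of_mono_ample k X d hdim A₀ hA₀ L hL m hm
      (u.hom ≫ f1 ≫ e2.hom)
    have har : (0 : ℝ) < a := by exact_mod_cast ha
    refine ⟨1 / (2 * (a : ℝ)), by positivity, Filter.eventually_atTop.2
      ⟨max m₁ 1, fun j hj => ?_⟩⟩
    have h1 := hgr j (le_trans (le_max_left _ _) hj)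
    have hj1 : 1 ≤ j := le_trans (le_max_right _ _) hj
    have hjd : 0 < j ^ d := pow_pos (by omega) d
    have hfpos : 0 < Module.finrank k (Coh.HH X (CohB1.tensorPow L j) 0) := by
      by_contra h0
      have h00 : Module.finrank k (Coh.HH X (CohB1.tensorPow L j) 0) = 0 := by omega
      rw [h00, mul_zero] at h1
      omega
    have h1r : ((j : ℝ)) ^ d ≤
        (a : ℝ) * (Module.finrank k (Coh.HH X (CohB1.tensorPow L j) 0) : ℝ) := by
      exact_mod_cast h1
    have hfr : (0 : ℝ) < (Module.finrank k (Coh.HH X (CohB1.tensorPow L j) 0) : ℝ) := by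
      exact_mod_cast hfpos
    rw [div_mul_eq_mul_div, one_mul, div_lt_iff₀ (by positivity)]
    nlinarith [mul_pos har hfr]

end Field

end Groth.Agent.Helper1.Big
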