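import Mathlib
import Groth.Agent.Lib.Helper1.Big3
import Groth.Agent.Lib.Helper1.Euler4
import Groth.Agent.Lib.Helper1.SerreAmple1

/-!
# Bigness through the volume; vanishing of the top cohomology of the powers of a big module
(helper1)
-/

set_option autoImplicit false
universe u
open CategoryTheory CategoryTheory.Limits AlgebraicGeometry TopologicalSpace Opposite

namespace Groth.Agent.Helper1.Big

open Groth.Agent.Helper1 Groth.Agent.Helper1.Euler Groth.Agent.Helper1.Dv
open Groth.Agent.Helper1.FinLen Groth.Agent.Helper1.TwForm Groth.Agent.Helper1.Curve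
open Groth.Agent.Helper1.Snap Groth.Agent.Helper1.SnapPos Groth.Agent.Helper1.FGAInt
open Groth.Agent.Helper1.FGAPos
open Groth.Agent.Lib.Helper4

section Arith

/-- a choice of a large exponent, uniformly -/
theorem exists_large' (a C₀ n' : ℕ) :
    ∃ μ₀ : ℕ, ∀ μ : ℕ, μ₀ ≤ μ → a * (C₀ * (μ + 1) ^ n') < μ ^ (n' + 1) := by
  refine ⟨2 ^ n' * a * C₀ + 1, fun μ hμ0 => ?_⟩
  have hμpos : 1 ≤ μ := le_trans (Nat.succ_pos _) hμ0
  have h1 : (μ + 1) ^ n' ≤ (2 * μ) ^ n' := Nat.pow_le_pow_left (by omega) n'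
  have h2 : (2 * μ) ^ n' = 2 ^ n' * μ ^ n' := Nat.mul_pow _ _ _
  have h3 : 0 < μ ^ n' := Nat.pow_pos hμpos
  have h4 : a * (C₀ * (μ + 1) ^ n') ≤ (2 ^ n' * a * C₀) * μ ^ n' := by
    calc a * (C₀ * (μ + 1) ^ n') ≤ a * (C₀ * (2 ^ n' * μ ^ n')) := by
          apply Nat.mul_le_mul_left
          apply Nat.mul_le_mul_left
          rw [← h2]
          exact h1
      _ = (2 ^ n' * a * C₀) * μ ^ n' := by ring
  have h5 : (2 ^ n' * a * C₀) * μ ^ n' < μ * μ ^ n' :=
    Nat.mul_lt_mul_of_pos_right (by omega) h3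
  have h6 : μ * μ ^ n' = μ ^ (n' + 1) := (pow_succ' μ n').symm
  omega

end Arith

section Field

variable (k : Type u) [Field k] (X : Scheme.{u}) [X.Over (Spec (CommRingCat.of k))]
  [IsProper (X ↘ (Spec (CommRingCat.of k)))]

/-- **Kodaira's lemma**, second half, for a module whose sections grow maximally along a
subsequence of the powers -/
theorem exists_mono_ample_of_frequently [IsIntegral X] (n : ℕ)
    (hn : topologicalKrullDim X = ((n : ℕ) : WithBot ℕ∞)) (H : X.Modules)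
    (hH : CohB1.IsAmple H) (L : X.Modules) (hL : PicF.IsInvertible L) (ν a : ℕ) (hν : 0 < ν)
    (hfreq : ∀ N₀ : ℕ, ∃ μ : ℕ, N₀ ≤ μ ∧ 1 ≤ μ ∧
      μ ^ n ≤ a * Module.finrank k (Coh.HH X (CohB1.tensorPow L (ν * μ)) 0)) :
    ∃ (t₁ μ : ℕ) (φ : CohB1.tensorPow H (t₁ + 1) ⟶ CohB1.tensorPow L (ν * μ)),
      1 ≤ μ ∧ Mono φ := by
  haveI : AlgebraicGeometry.IsNoetherian X := isNoetherian_of_proper k X
  have hOc := isCoh_structureModule X
  have hOi : PicF.IsInvertible (Coh.structureModule X) := GenLoc.isInvertible_O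
  obtain ⟨t₀, ht₀⟩ := AmpleLib.eventually_globallyGenerated hH (Coh.structureModule X) hOc
  have hAa : CohB1.IsAmple (CohB1.tensorPow H (t₀ + 1)) :=
    (AmpleLib.isAmple_tensorPow_iff hH.1 (t₀ + 1) (Nat.succ_pos t₀)).1 hH
  set A := CohB1.tensorPow H (t₀ + 1) with hAdef
  have hAi : PicF.IsInvertible A := hAa.1
  have hAc : Coh.IsCoh A := InvQc.isCoh_of_isInvertible _ hAi
  -- a nonzero section of `A`
  have hPi : PicF.IsInvertible (CohB1.tensorMod (Coh.structureModule X) A) :=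
    isInvertible_tensorMod hOi hAi
  have hPg : Curv2.IsGloballyGenerated (CohB1.tensorMod (Coh.structureModule X) A) :=
    ht₀ (t₀ + 1) (Nat.le_succ t₀)
  have hPnz : ¬ IsZero (CohB1.tensorMod (Coh.structureModule X) A) :=
    VB.not_isZero_of_rank_pos X Nat.one_pos (isFinLocFreeOfRank_one hPi)
  obtain ⟨σ, hσ⟩ := exists_section_ne_zero hPg hPnz
  let uA : CohB1.tensorMod (Coh.structureModule X) A ≅ A :=
    TildeTens.tensorModComm _ _ ≪≫ Groth.Agent.Lib.Helper5.LTenFlf.tensorUnitIso A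
  set t : Coh.structureModule X ⟶ A := σ ≫ uA.hom with ht
  have htnz : t ≠ 0 := by
    intro h0
    apply hσ
    have : σ ≫ uA.hom = 0 ≫ uA.hom := by rw [zero_comp]; exact h0
    exact (cancel_mono uA.hom).1 this
  haveI : Mono t := mono_of_ne_zero hOi hAi t htnz
  have hη := genericPoint_notMem_support_cokernel hOi hAi t htnz
  set Cq := cokernel t with hCq
  have hCc : Coh.IsCoh Cq := FtLocal.isCoh_cokernel hOc hAc t
  have hcl : IsClosed (CohB1.support Cq) := FtGen.isClosed_support Cq hCc.2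
  have hne : CohB1.support Cq ≠ Set.univ := fun he => hη (he ▸ Set.mem_univ _)
  have hdimC := krullDim_add_one_le_of_ne_univ hcl hne
  rw [hn] at hdimC
  let S : ShortComplex X.Modules := ShortComplex.mk t (cokernel.π t) (cokernel.condition t)
  have hS : S.ShortExact :=
    { exact := ShortComplex.exact_of_g_is_cokernel _ (cokernelIsCokernel t)
      mono_f := inferInstanceAs (Mono t)
      epi_g := inferInstanceAs (Epi (cokernel.π t)) }
  obtain ⟨KA, hKA, ⟨eKA⟩⟩ := InvInv2.exists_inverse hAi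
  have hKAc : Coh.IsCoh KA := InvQc.isCoh_of_isInvertible _ hKA
  -- the twisting modules
  have hL' : ∀ μ : ℕ, PicF.IsInvertible (CohB1.tensorPow L (ν * μ)) := fun μ =>
    isInvertible_tensorPow hL _
  have hE : ∀ μ : ℕ, PicF.IsInvertible (CohB1.tensorMod (CohB1.tensorPow L (ν * μ)) KA) :=
    fun μ => isInvertible_tensorMod (hL' μ) hKA
  -- the key estimate
  have hkey : ∃ μ : ℕ, 1 ≤ μ ∧
      μ ^ n ≤ a * Module.finrank k (Coh.HH X (CohB1.tensorPow L (ν * μ)) 0) ∧
      a * Module.finrank k (Coh.HH X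
      (CohB1.tensorMod (CohB1.tensorMod (CohB1.tensorPow L (ν * μ)) KA) Cq) 0) < μ ^ n := by
    rcases n with _ | n'
    · obtain ⟨μ, -, hμ1, hμg⟩ := hfreq 1
      refine ⟨μ, hμ1, hμg, ?_⟩
      have hemp := eq_empty_of_krullDim_add_one_le_zero _ hdimC
      have hz : IsZero Cq := isZero_of_support_subset_empty Cq (le_of_eq hemp)
      have hz2 : IsZero (CohB1.tensorMod (CohB1.tensorMod (CohB1.tensorPow L (ν * μ)) KA) Cq) :=
        Groth.Agent.Lib.Helper5.SPTensor.isZero_tensor_right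
          (CohB1.tensorMod (CohB1.tensorPow L (ν * μ)) KA) Cq hz
      haveI : Subsingleton (Coh.HH X
          (CohB1.tensorMod (CohB1.tensorMod (CohB1.tensorPow L (ν * μ)) KA) Cq) 0) :=
        H1Ext.subsingleton_HH_of_isZero hz2 0
      rw [Module.finrank_zero_of_subsingleton, mul_zero, pow_zero]
      exact Nat.one_pos
    · have hdC : topologicalKrullDim ↥(CohB1.support Cq) ≤ ((n' : ℕ) : WithBot ℕ∞) :=
        le_of_add_one_le_succ _ n' hdimC
      set F := CohB1.tensorMod Cq KA with hF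
      have hFc : Coh.IsCoh F := isCoh_tensor _ _ hCc hKAc
      have hFd : topologicalKrullDim ↥(CohB1.support F) ≤ ((n' : ℕ) : WithBot ℕ∞) :=
        (krullDim_le_of_subset fun x hx => NegVan.support_tensor_subset hKA x hx).trans hdC
      obtain ⟨C₀, hC₀⟩ := growth_le k X H hH (CohB1.tensorPow L ν)
        (isInvertible_tensorPow hL ν) n' F hFc hFd
      obtain ⟨μ₀, hμ₀⟩ := exists_large' a C₀ n'
      obtain ⟨μ, hμge, hμ1, hμg⟩ := hfreq μ₀
      refine ⟨μ, hμ1, hμg, lt_of_le_of_lt ?_ (hμ₀ μ hμge)⟩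
      apply Nat.mul_le_mul_left
      have e1 : CohB1.tensorMod (CohB1.tensorMod (CohB1.tensorPow L (ν * μ)) KA) Cq ≅
          CohB1.tensorMod (CohB1.tensorPow (CohB1.tensorPow L ν) μ) F :=
        swapIso Cq (hL' μ) hKA ≪≫
          Groth.Agent.Lead.TilT.tensorModCongr (powPowIso hL ν μ).symm (Iso.refl F)
      rw [(HHFin1.HHequiv k e1 0).finrank_eq]
      exact hC₀ μ
  obtain ⟨μ, hμ1, hμg, hμ⟩ := hkey
  refine ⟨t₀, μ, ?_⟩
  set L' := CohB1.tensorPow L (ν * μ) with hL'def
  set E := CohB1.tensorMod L' KA with hEdef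
  have hEi : PicF.IsInvertible E := hE μ
  have hEc : Coh.IsCoh E := InvQc.isCoh_of_isInvertible _ hEi
  -- the twisted sequence
  have hSE : (S.map (DCoh.tensorBi.obj E)).ShortExact :=
    shortExact_tensor E (InvInv2.isFinLocFree_of_isInvertible hEi) S hS
  have c1 : Coh.IsCoh (S.map (DCoh.tensorBi.obj E)).X₁ :=
    isCoh_tensor E (Coh.structureModule X) hEc hOc
  have c2 : Coh.IsCoh (S.map (DCoh.tensorBi.obj E)).X₂ := isCoh_tensor E A hEc hAc
  have c3 : Coh.IsCoh (S.map (DCoh.tensorBi.obj E)).X₃ := isCoh_tensor E Cq hEc hCc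
  have hmid := finrank_HH0_mid_le k X hSE c1 c2 c3
  change Module.finrank k (Coh.HH X (CohB1.tensorMod E A) 0) ≤
      Module.finrank k (Coh.HH X (CohB1.tensorMod E (Coh.structureModule X)) 0) +
        Module.finrank k (Coh.HH X (CohB1.tensorMod E Cq) 0) at hmid
  have hEA : Module.finrank k (Coh.HH X (CohB1.tensorMod E A) 0) =
      Module.finrank k (Coh.HH X L' 0) :=
    (HHFin1.HHequiv k (cancelRight hKA hAi eKA) 0).finrank_eq
  have hEO : Module.finrank k (Coh.HH X (CohB1.tensorMod E (Coh.structureModule X)) 0) =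
      Module.finrank k (Coh.HH X E 0) :=
    (HHFin1.HHequiv k (Groth.Agent.Lib.Helper5.LTenFlf.tensorUnitIso E) 0).finrank_eq
  have hg : μ ^ n ≤ a * Module.finrank k (Coh.HH X L' 0) := hμg
  rw [hEA, hEO] at hmid
  -- a nonzero section of `E`
  have hpos : 0 < Module.finrank k (Coh.HH X E 0) := by
    by_contra hcon
    have h0 : Module.finrank k (Coh.HH X E 0) = 0 := by omega
    rw [h0, zero_add] at hmid
    have h1 := Nat.mul_le_mul_left a hmid
    omega
  haveI : Module.Finite k (Coh.HH X E 0) := T2Main1.t2 k X _ hEc 0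
  obtain ⟨v, hv⟩ := (Module.finrank_pos_iff_exists_ne_zero (R := k)).1 hpos
  obtain ⟨s, hs⟩ := exists_section_of_HH0_ne E v hv
  haveI : Mono s := mono_of_ne_zero hOi hEi s hs
  let g : CohB1.tensorMod A (Coh.structureModule X) ⟶ CohB1.tensorMod A E :=
    (DCoh.tensorBi.obj A).map s
  have hgm : Mono g := mono_tensor_left A hAi s
  let c : CohB1.tensorMod A E ≅ L' :=
    TildeTens.tensorModComm A E ≪≫ cancelRight hKA hAi eKA
  let uA' : CohB1.tensorMod A (Coh.structureModule X) ≅ A :=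
    Groth.Agent.Lib.Helper5.LTenFlf.tensorUnitIso A
  let φ : A ⟶ L' := uA'.inv ≫ g ≫ c.hom
  have hφ : Mono φ :=
    mono_comp' uA'.inv (mono_iso_inv uA') _ (mono_comp' g hgm c.hom (mono_iso_hom c))
  exact ⟨φ, hμ1, hφ⟩

end Field

end Groth.Agent.Helper1.Big
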