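import Mathlib
import Groth.Prelude.Def_W4c5asymptcohfnACF
import Groth.Agent.Lib.Helper1.Big4

/-!
# The top asymptotic cohomological function of a big module vanishes (helper1)
-/

set_option autoImplicit false
universe u
open CategoryTheory CategoryTheory.Limits AlgebraicGeometry TopologicalSpace Opposite

namespace Groth.Agent.Helper1.Big

open Groth.Agent.Helper1 Groth.Agent.Helper1.Euler Groth.Agent.Helper1.Dv
open Groth.Agent.Helper1.FinLen Groth.Agent.Helper1.TwForm Groth.Agent.Helper1.Curve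
open Groth.Agent.Helper1.Snap Groth.Agent.Helper1.SnapPos Groth.Agent.Helper1.FGAInt
open Groth.Agent.Helper1.FGAPos
open Groth.Agent.Lib.Helper4

section Van

variable {X : Scheme.{u}}

/-- Grothendieck vanishing above the dimension of the support -/
theorem subsingleton_HH_of_dim_support_lt [AlgebraicGeometry.IsNoetherian X] (M : X.Modules)
    (hM : Coh.IsCoh M) (d : ℕ)
    (hd : topologicalKrullDim ↥(CohB1.support M) ≤ ((d : ℕ) : WithBot ℕ∞)) (p : ℕ) (hp : d < p) :
    Subsingleton (Coh.HH X M p) := by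
  refine dev_ideal (fun N => Subsingleton (Coh.HH X N p)) ?_ ?_ (CohB1.support M) ?_ ?_ M hM
    subset_rfl
  · intro N N' e h
    exact subsingleton_HH_of_iso e.symm p h
  · intro N hN
    exact H1Ext.subsingleton_HH_of_isZero hN p
  · intro S hS _ _ _ _ h1 h3
    exact H1Ext.subsingleton_HH_mid hS p h1 h3
  · intro Z i hi hZ hr I ι _ hI
    haveI := hi
    haveI := hZ
    haveI : Coh.IsQCoh I := hI
    obtain ⟨e⟩ := Groth.Agent.S0012.result i I p
    have hdimZ : topologicalKrullDim Z ≤ ((d : ℕ) : WithBot ℕ∞) := by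
      have h1 := IsHomeomorph.topologicalKrullDim_eq _
        (i.isClosedEmbedding.isEmbedding.toHomeomorph).isHomeomorph
      rw [h1]
      exact (krullDim_le_of_subset hr).trans hd
    haveI : IsLocallyNoetherian Z := LocallyOfFiniteType.isLocallyNoetherian i
    haveI : CompactSpace Z := i.isClosedEmbedding.compactSpace
    haveI : AlgebraicGeometry.IsNoetherian Z := {}
    haveI := subsingleton_HH_of_dim_lt Z d hdimZ I p hp
    exact e.symm.toEquiv.subsingleton

end Van

section Field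

variable (k : Type u) [Field k] (X : Scheme.{u}) [X.Over (Spec (CommRingCat.of k))]
  [IsProper (X ↘ (Spec (CommRingCat.of k)))]

include k in
/-- the top cohomology of the large powers of a module a power of which contains an ample module
vanishes -/
theorem top_vanishing [IsIntegral X] (n : ℕ)
    (hn : topologicalKrullDim X = ((n : ℕ) : WithBot ℕ∞)) (hn1 : 1 ≤ n)
    (L : X.Modules) (hL : PicF.IsInvertible L) (A : X.Modules) (hA : CohB1.IsAmple A) (m₀ : ℕ)
    (hm₀ : 0 < m₀) (φ : A ⟶ CohB1.tensorPow L m₀) (hφ : Mono φ) :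
    ∃ m₁ : ℕ, ∀ m : ℕ, m₁ ≤ m → Subsingleton (Coh.HH X (CohB1.tensorPow L m) n) := by
  haveI : AlgebraicGeometry.IsNoetherian X := isNoetherian_of_proper k X
  haveI := hφ
  have hLr : ∀ r, PicF.IsInvertible (CohB1.tensorPow L r) := fun r => isInvertible_tensorPow hL r
  have hLrc : ∀ r, Coh.IsCoh (CohB1.tensorPow L r) := fun r =>
    InvQc.isCoh_of_isInvertible _ (hLr r)
  have hsv : ∀ r : ℕ, ∃ j₀ : ℕ, ∀ j : ℕ, j₀ ≤ j → ∀ p : ℕ, 0 < p →
      Subsingleton (Coh.HH X (CohB1.tensorMod (CohB1.tensorPow L r) (CohB1.tensorPow A j)) p) :=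
    fun r => SerreAmple.serre_vanishing k (X ↘ Spec (CommRingCat.of k)) hA
      (CohB1.tensorPow L r) (hLrc r)
  choose jr hjr using hsv
  set j₀ := (Finset.range m₀).sup jr with hj₀
  refine ⟨m₀ * j₀, fun m hm => ?_⟩
  set r := m % m₀ with hr_def
  set i := m / m₀ with hi_def
  have hr : r < m₀ := Nat.mod_lt _ hm₀
  have hi : j₀ ≤ i := (Nat.le_div_iff_mul_le hm₀).2 (by rwa [mul_comm] at hm)
  have hjri : jr r ≤ i := le_trans (Finset.le_sup (Finset.mem_range.2 hr)) hi
  have hmeq : r + m₀ * i = m := Nat.mod_add_div m m₀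
  have hLm₀ := hLr m₀
  set Ai := CohB1.tensorPow A i with hAi_def
  set Bi := CohB1.tensorPow (CohB1.tensorPow L m₀) i with hBi_def
  obtain ⟨ψ, hψ⟩ : ∃ ψ : Ai ⟶ Bi, Mono ψ := exists_mono_tensorPow hA.1 hLm₀ φ i
  haveI := hψ
  have hAi : PicF.IsInvertible Ai := isInvertible_tensorPow hA.1 i
  have hBi : PicF.IsInvertible Bi := isInvertible_tensorPow hLm₀ i
  have hAic : Coh.IsCoh Ai := InvQc.isCoh_of_isInvertible _ hAi
  have hBic : Coh.IsCoh Bi := InvQc.isCoh_of_isInvertible _ hBi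
  have hψ0 : ψ ≠ 0 := by
    intro h0
    have hz : IsZero Ai := by
      rw [IsZero.iff_id_eq_zero]
      exact (cancel_mono ψ).1 (by rw [h0, comp_zero, comp_zero])
    exact VB.not_isZero_of_rank_pos X Nat.one_pos (isFinLocFreeOfRank_one hAi) hz
  have hη := genericPoint_notMem_support_cokernel hAi hBi ψ hψ0
  set Q := cokernel ψ with hQ_def
  have hQc : Coh.IsCoh Q := FtLocal.isCoh_cokernel hAic hBic ψ
  have hcl : IsClosed (CohB1.support Q) := FtGen.isClosed_support Q hQc.2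
  have hne : CohB1.support Q ≠ Set.univ := fun he => hη (he ▸ Set.mem_univ _)
  have hdimQ := krullDim_add_one_le_of_ne_univ hcl hne
  rw [hn] at hdimQ
  obtain ⟨n', rfl⟩ : ∃ n', n = n' + 1 := ⟨n - 1, by omega⟩
  have hdQ : topologicalKrullDim ↥(CohB1.support Q) ≤ ((n' : ℕ) : WithBot ℕ∞) :=
    le_of_add_one_le_succ _ n' hdimQ
  let S : ShortComplex X.Modules := ShortComplex.mk ψ (cokernel.π ψ) (cokernel.condition ψ)
  have hS : S.ShortExact :=
    { exact := ShortComplex.exact_of_g_is_cokernel _ (cokernelIsCokernel ψ)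
      mono_f := inferInstanceAs (Mono ψ)
      epi_g := inferInstanceAs (Epi (cokernel.π ψ)) }
  set E := CohB1.tensorPow L r with hE_def
  have hSE : (S.map (DCoh.tensorBi.obj E)).ShortExact :=
    shortExact_tensor E (InvInv2.isFinLocFree_of_isInvertible (hLr r)) S hS
  have h1 : Subsingleton (Coh.HH X (CohB1.tensorMod E Ai) (n' + 1)) :=
    hjr r i hjri (n' + 1) (Nat.succ_pos _)
  have h3 : Subsingleton (Coh.HH X (CohB1.tensorMod E Q) (n' + 1)) := by
    refine subsingleton_HH_of_dim_support_lt _ (isCoh_tensor E Q (hLrc r) hQc) n' ?_ (n' + 1)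
      (Nat.lt_succ_self _)
    refine (krullDim_le_of_subset ?_).trans hdQ
    intro x hx
    rw [Dv.support_iso (TildeTens.tensorModComm E Q)] at hx
    exact NegVan.support_tensor_subset (hLr r) x hx
  have h2 : Subsingleton (Coh.HH X (CohB1.tensorMod E Bi) (n' + 1)) :=
    H1Ext.subsingleton_HH_mid hSE (n' + 1) h1 h3
  let e : CohB1.tensorMod E Bi ≅ CohB1.tensorPow L m :=
    Groth.Agent.Lead.TilT.tensorModCongr (Iso.refl E) (powPowIso hL m₀ i) ≪≫
      powAddIso hL r (m₀ * i) ≪≫ eqToIso (congrArg (CohB1.tensorPow L) hmeq)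
  exact subsingleton_HH_of_iso e.symm (n' + 1) h2

/-- **the top asymptotic cohomological function of a big module vanishes** -/
theorem hhat_top_eq_zero_of_big [IsIntegral X] (hproj : ∃ A : X.Modules, CohB1.IsAmple A)
    (n : ℕ) (hn : topologicalKrullDim X = n) (hn1 : 1 ≤ n)
    (L : X.Modules) (hL : PicF.IsInvertible L) (hbig : 0 < W4c5asymptcohfn.hhat k X n 0 L) :
    W4c5asymptcohfn.hhat k X n n L = 0 := by
  obtain ⟨A, hA⟩ := hproj
  set u : ℕ → ℝ := fun m =>
    (Module.finrank k (Coh.HH X (CohB1.tensorPow L m) 0) : ℝ) * (n.factorial : ℝ) / (m : ℝ) ^ n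
    with hu
  have hbig' : 0 < Filter.limsup u Filter.atTop := hbig
  have hcob : Filter.IsCoboundedUnder (· ≤ ·) Filter.atTop u :=
    Filter.isCoboundedUnder_le_of_le (x := 0) Filter.atTop (fun m => by positivity)
  set c : ℝ := Filter.limsup u Filter.atTop / 2 with hc
  have hcpos : 0 < c := by positivity
  have hfr : ∃ᶠ m in Filter.atTop, c < u m :=
    Filter.frequently_lt_of_lt_limsup hcob (by rw [hc]; linarith)
  obtain ⟨a, ha⟩ := exists_nat_gt ((n.factorial : ℝ) / c)
  have hN : (n.factorial : ℝ) ≤ (a : ℝ) * c := ((div_lt_iff₀ hcpos).1 ha).le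
  have hfreq : ∀ N₀ : ℕ, ∃ μ : ℕ, N₀ ≤ μ ∧ 1 ≤ μ ∧
      μ ^ n ≤ a * Module.finrank k (Coh.HH X (CohB1.tensorPow L (1 * μ)) 0) := by
    intro N₀
    obtain ⟨m, hm, hcm⟩ := (Filter.frequently_atTop.1 hfr) (max N₀ 1)
    have hm1 : 1 ≤ m := le_trans (le_max_right _ _) hm
    refine ⟨m, le_trans (le_max_left _ _) hm, hm1, ?_⟩
    rw [one_mul]
    have hmpos : (0 : ℝ) < (m : ℝ) ^ n := by
      have : (0 : ℝ) < (m : ℝ) := by exact_mod_cast hm1
      positivity
    obtain ⟨f, hf⟩ : ∃ f : ℝ, f = (Module.finrank k (Coh.HH X (CohB1.tensorPow L m) 0) : ℝ) :=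
      ⟨_, rfl⟩
    have hf0 : 0 ≤ f := by rw [hf]; positivity
    have hcm' : c < f * (n.factorial : ℝ) / (m : ℝ) ^ n := by rw [hf]; exact hcm
    have h1 : c * (m : ℝ) ^ n < f * (n.factorial : ℝ) := (lt_div_iff₀ hmpos).1 hcm'
    have h2 : c * (m : ℝ) ^ n < c * ((a : ℝ) * f) := by
      calc c * (m : ℝ) ^ n < f * (n.factorial : ℝ) := h1
        _ ≤ f * ((a : ℝ) * c) := mul_le_mul_of_nonneg_left hN hf0
        _ = c * ((a : ℝ) * f) := by ring
    have h3 : (m : ℝ) ^ n < (a : ℝ) * f := lt_of_mul_lt_mul_left h2 hcpos.le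
    rw [hf] at h3
    have h4 : m ^ n < a * Module.finrank k (Coh.HH X (CohB1.tensorPow L m) 0) := by
      exact_mod_cast h3
    exact h4.le
  obtain ⟨t₁, μ, φ, hμ1, hφ⟩ :=
    exists_mono_ample_of_frequently k X n hn A hA L hL 1 a Nat.one_pos hfreq
  have hA' : CohB1.IsAmple (CohB1.tensorPow A (t₁ + 1)) :=
    (AmpleLib.isAmple_tensorPow_iff hA.1 (t₁ + 1) (Nat.succ_pos t₁)).1 hA
  obtain ⟨m₁, hm₁⟩ := top_vanishing k X n hn hn1 L hL _ hA' (1 * μ) (by omega) φ hφ
  unfold W4c5asymptcohfn.hhat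
  have hev : (fun m : ℕ => (Module.finrank k (Coh.HH X (CohB1.tensorPow L m) n) : ℝ) *
      (n.factorial : ℝ) / (m : ℝ) ^ n) =ᶠ[Filter.atTop] fun _ => (0 : ℝ) :=
    Filter.eventually_atTop.2 ⟨m₁, fun m hm => by
      haveI := hm₁ m hm
      simp [Module.finrank_zero_of_subsingleton]⟩
  rw [Filter.limsup_congr hev, Filter.limsup_const]

end Field

end Groth.Agent.Helper1.Big
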