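import Mathlib
import Groth.Agent.Lib.Helper1.Big5
import Groth.Agent.Lib.Helper1.LesBound1
import Groth.Agent.Lib.Helper1.CurveLin1
import Groth.Agent.Lib.Helper1.GenusOne1
import Groth.Agent.Lib.Helper1.NegVan1

/-!
# Polynomial bounds for the cohomology of the twists of a coherent module (helper1)

For finitely many invertible modules `N j`, each generated at every point by a global section,
the dimensions of the cohomology groups `H^i(X, E ⊗ G)`, for `G` coherent with support of
dimension `≤ e` and `E` obtained from `O` by `n` steps of tensoring with, or dividing by, one of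
the `N j`, are bounded by `C (n+1)^e`.
-/

set_option autoImplicit false
universe u
open CategoryTheory CategoryTheory.Limits AlgebraicGeometry TopologicalSpace Opposite

namespace Groth.Agent.Helper1.ThmB

open Groth.Agent.Helper1.QcCech Groth.Agent.Helper1.SubSh Groth.Agent.Helper1.LGen
open Groth.Agent.Helper1.TmulLib Groth.Agent.Helper1 Groth.Agent.Helper1.TwForm
open Groth.Agent.Helper1.TensGen Groth.Agent.Lib.Helper4.TwExact Groth.Agent.Helper1.Dv
open Groth.Agent.Lib.Helper4 Groth.Agent.Helper1.CurveAmp Groth.Agent.Helper1.FinSupp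
open Groth.Agent.Lib.Helper5.StalkAdj

section Top

/-- a proper closed subset of an irreducible subset has smaller dimension -/
theorem krullDim_add_one_le_of_closed_ssubset {T : Type*} [TopologicalSpace T] {A B : Set T}
    (hA : IsClosed A) (hB : IsIrreducible B) (hAB : A ⊆ B) (hne : A ≠ B) :
    topologicalKrullDim ↥A + 1 ≤ topologicalKrullDim ↥B := by
  haveI : IrreducibleSpace ↥B := (isIrreducible_iff_irreducibleSpace).1 hB
  let A' : Set ↥B := Subtype.val ⁻¹' A
  have hcl : IsClosed A' := hA.preimage continuous_subtype_val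
  have hne' : A' ≠ Set.univ := by
    intro h
    apply hne
    apply Set.Subset.antisymm hAB
    intro b hb
    have : (⟨b, hb⟩ : ↥B) ∈ A' := by rw [h]; exact Set.mem_univ _
    exact this
  have h1 := Curve.krullDim_add_one_le_of_ne_univ hcl hne'
  let φ : ↥A' ≃ₜ ↥A :=
    { toFun := fun x => ⟨x.1.1, x.2⟩
      invFun := fun a => ⟨⟨a.1, hAB a.2⟩, a.2⟩
      left_inv := fun x => rfl
      right_inv := fun a => rfl
      continuous_toFun :=
        Continuous.subtype_mk (continuous_subtype_val.comp continuous_subtype_val) _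
      continuous_invFun :=
        Continuous.subtype_mk (Continuous.subtype_mk continuous_subtype_val _) _ }
  have h2 : topologicalKrullDim ↥A' = topologicalKrullDim ↥A :=
    IsHomeomorph.topologicalKrullDim_eq _ φ.isHomeomorph
  rw [← h2]
  exact h1

end Top

section Defs

variable {X : Scheme.{u}}

/-- every point has a global section generating `N` near it -/
def PtGen (N : X.Modules) : Prop := ∀ x : X, ∃ σ : Γ(N, ⊤), CurveLin.GenAt N σ x

/-- the modules reachable from `O` in `n` steps of tensoring with, or dividing by, one of the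
`N j` -/
inductive Reach {s : ℕ} (N : Fin s → X.Modules) : ℕ → X.Modules → Prop
  | zero (E : X.Modules) (e : Nonempty (E ≅ Coh.structureModule X)) : Reach N 0 E
  | up (n : ℕ) (E E' : X.Modules) (j : Fin s) (h : Reach N n E)
      (e : Nonempty (E' ≅ CohB1.tensorMod E (N j))) : Reach N (n + 1) E'
  | down (n : ℕ) (E E' : X.Modules) (j : Fin s) (h : Reach N n E)
      (e : Nonempty (CohB1.tensorMod E' (N j) ≅ E)) : Reach N (n + 1) E'

/-- division by an invertible module preserves invertibility -/
theorem isInvertible_of_tensor_iso {E' N E : X.Modules} (hN : PicF.IsInvertible N)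
    (hE : PicF.IsInvertible E) (e : CohB1.tensorMod E' N ≅ E) : PicF.IsInvertible E' := by
  obtain ⟨K, hK, ⟨eK⟩⟩ := InvInv2.exists_inverse hN
  have i : CohB1.tensorMod E K ≅ E' :=
    Groth.Agent.Lead.TilT.tensorModCongr e.symm (Iso.refl K) ≪≫ GenusOne.assocIso E' hN hK ≪≫
      Groth.Agent.Lead.TilT.tensorModCongr (Iso.refl E') (TildeTens.tensorModComm N K ≪≫ eK) ≪≫
      Groth.Agent.Lib.Helper5.LTenFlf.tensorUnitIso E'
  exact TwistAmpleOpen.isInvertible_of_iso i (isInvertible_tensorMod hE hK)

theorem Reach.isInvertible {s : ℕ} {N : Fin s → X.Modules} (hN : ∀ j, PicF.IsInvertible (N j))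
    {n : ℕ} {E : X.Modules} (h : Reach N n E) : PicF.IsInvertible E := by
  induction h with
  | zero E e =>
    obtain ⟨e⟩ := e
    exact TwistAmpleOpen.isInvertible_of_iso e.symm GenLoc.isInvertible_O
  | up n E E' j h e ih =>
    obtain ⟨e⟩ := e
    exact TwistAmpleOpen.isInvertible_of_iso e.symm (isInvertible_tensorMod ih (hN j))
  | down n E E' j h e ih =>
    obtain ⟨e⟩ := e
    exact isInvertible_of_tensor_iso (hN j) ih e

theorem Reach.of_iso {s : ℕ} {N : Fin s → X.Modules} {n : ℕ} {E E' : X.Modules}
    (h : Reach N n E) (e : E' ≅ E) : Reach N n E' := by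
  cases h with
  | zero _ e0 =>
    obtain ⟨e0⟩ := e0
    exact Reach.zero E' ⟨e ≪≫ e0⟩
  | up n E₀ _ j h e0 =>
    obtain ⟨e0⟩ := e0
    exact Reach.up n E₀ E' j h ⟨e ≪≫ e0⟩
  | down n E₀ _ j h e0 =>
    obtain ⟨e0⟩ := e0
    exact Reach.down n E₀ E' j h
      ⟨Groth.Agent.Lead.TilT.tensorModCongr e (Iso.refl (N j)) ≪≫ e0⟩

/-- `E ⊗ (G ⊗ N) ≅ G ⊗ (E ⊗ N)` for invertible `E`, `N` -/
noncomputable def swapIso (G : X.Modules) {N E : X.Modules} (hN : PicF.IsInvertible N)
    (hE : PicF.IsInvertible E) :
    CohB1.tensorMod E (CohB1.tensorMod G N) ≅ CohB1.tensorMod G (CohB1.tensorMod E N) :=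
  TildeTens.tensorModComm E (CohB1.tensorMod G N) ≪≫ GenusOne.assocIso G hN hE ≪≫
    Groth.Agent.Lead.TilT.tensorModCongr (Iso.refl G) (TildeTens.tensorModComm N E)

end Defs

end Groth.Agent.Helper1.ThmB
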