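import Mathlib
import Groth.Agent.Lib.Helper1.ThmB1

/-!
# Polynomial bounds for the cohomology of twists: the bound predicate and exact sequences
(helper1)
-/

set_option autoImplicit false
universe u
open CategoryTheory CategoryTheory.Limits AlgebraicGeometry TopologicalSpace Opposite

namespace Groth.Agent.Helper1.ThmB

open Groth.Agent.Helper1 Groth.Agent.Helper1.Euler Groth.Agent.Helper1.Dv
open Groth.Agent.Helper1.TwForm
open Groth.Agent.Lib.Helper4

variable (k : Type u) [Field k] (X : Scheme.{u}) [X.Over (Spec (CommRingCat.of k))]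
  [IsProper (X ↘ (Spec (CommRingCat.of k)))]

section LES

variable (S : ShortComplex X.Modules) (hS : S.ShortExact)
  (h₁ : Coh.IsCoh S.X₁) (h₂ : Coh.IsCoh S.X₂) (h₃ : Coh.IsCoh S.X₃)

include hS h₁ h₂ h₃

/-- exactness at the third term of the long exact sequence -/
theorem finrank_X₃_le (i : ℕ) :
    Module.finrank k (Coh.HH X S.X₃ i) ≤
      Module.finrank k (Coh.HH X S.X₂ i) + Module.finrank k (Coh.HH X S.X₁ (i + 1)) := by
  haveI : ∀ i, FiniteDimensional k (Coh.HH X S.X₁ i) := fun i => T2Main1.t2 k X S.X₁ h₁ i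
  haveI : ∀ i, FiniteDimensional k (Coh.HH X S.X₂ i) := fun i => T2Main1.t2 k X S.X₂ h₂ i
  haveI : ∀ i, FiniteDimensional k (Coh.HH X S.X₃ i) := fun i => T2Main1.t2 k X S.X₃ h₃ i
  exact LesBound.finrank_le_add_of_exact (Canon.HHlin k S.g i) (HHFin2.deltaLin k hS i)
    (fun x hx => HHFin2.exact_g_delta k hS i x hx)

/-- exactness at the first term, with truncated subtraction -/
theorem finrank_X₁_le (i : ℕ) :
    Module.finrank k (Coh.HH X S.X₁ i) ≤
      Module.finrank k (Coh.HH X S.X₃ (i - 1)) + Module.finrank k (Coh.HH X S.X₂ i) := by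
  rcases i with _ | i
  · exact (LesBound.finrank_X₁_zero_le k X S hS h₁ h₂ h₃).trans (Nat.le_add_left _ _)
  · rw [Nat.add_sub_cancel]
    exact LesBound.finrank_X₁_succ_le k X S hS h₁ h₂ h₃ i

end LES

section Tensor

variable {X}
variable (E : X.Modules) (hE : PicF.IsInvertible E)
  (S : ShortComplex X.Modules) (hS : S.ShortExact)
  (h₁ : Coh.IsCoh S.X₁) (h₂ : Coh.IsCoh S.X₂) (h₃ : Coh.IsCoh S.X₃)

include hE hS h₁ h₂ h₃

theorem tensor_le_mid (i : ℕ) :
    Module.finrank k (Coh.HH X (CohB1.tensorMod E S.X₂) i) ≤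
      Module.finrank k (Coh.HH X (CohB1.tensorMod E S.X₁) i) +
        Module.finrank k (Coh.HH X (CohB1.tensorMod E S.X₃) i) := by
  have hEc : Coh.IsCoh E := InvQc.isCoh_of_isInvertible _ hE
  have hSE := shortExact_tensor E (InvInv2.isFinLocFree_of_isInvertible hE) S hS
  have c1 : Coh.IsCoh (S.map (DCoh.tensorBi.obj E)).X₁ := isCoh_tensor E S.X₁ hEc h₁
  have c2 : Coh.IsCoh (S.map (DCoh.tensorBi.obj E)).X₂ := isCoh_tensor E S.X₂ hEc h₂
  have c3 : Coh.IsCoh (S.map (DCoh.tensorBi.obj E)).X₃ := isCoh_tensor E S.X₃ hEc h₃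
  exact LesBound.finrank_X₂_le k X _ hSE c1 c2 c3 i

theorem tensor_le_left (i : ℕ) :
    Module.finrank k (Coh.HH X (CohB1.tensorMod E S.X₁) i) ≤
      Module.finrank k (Coh.HH X (CohB1.tensorMod E S.X₃) (i - 1)) +
        Module.finrank k (Coh.HH X (CohB1.tensorMod E S.X₂) i) := by
  have hEc : Coh.IsCoh E := InvQc.isCoh_of_isInvertible _ hE
  have hSE := shortExact_tensor E (InvInv2.isFinLocFree_of_isInvertible hE) S hS
  have c1 : Coh.IsCoh (S.map (DCoh.tensorBi.obj E)).X₁ := isCoh_tensor E S.X₁ hEc h₁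
  have c2 : Coh.IsCoh (S.map (DCoh.tensorBi.obj E)).X₂ := isCoh_tensor E S.X₂ hEc h₂
  have c3 : Coh.IsCoh (S.map (DCoh.tensorBi.obj E)).X₃ := isCoh_tensor E S.X₃ hEc h₃
  exact finrank_X₁_le k X _ hSE c1 c2 c3 i

theorem tensor_le_right (i : ℕ) :
    Module.finrank k (Coh.HH X (CohB1.tensorMod E S.X₃) i) ≤
      Module.finrank k (Coh.HH X (CohB1.tensorMod E S.X₂) i) +
        Module.finrank k (Coh.HH X (CohB1.tensorMod E S.X₁) (i + 1)) := by
  have hEc : Coh.IsCoh E := InvQc.isCoh_of_isInvertible _ hE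
  have hSE := shortExact_tensor E (InvInv2.isFinLocFree_of_isInvertible hE) S hS
  have c1 : Coh.IsCoh (S.map (DCoh.tensorBi.obj E)).X₁ := isCoh_tensor E S.X₁ hEc h₁
  have c2 : Coh.IsCoh (S.map (DCoh.tensorBi.obj E)).X₂ := isCoh_tensor E S.X₂ hEc h₂
  have c3 : Coh.IsCoh (S.map (DCoh.tensorBi.obj E)).X₃ := isCoh_tensor E S.X₃ hEc h₃
  exact finrank_X₃_le k X _ hSE c1 c2 c3 i

end Tensor

section Map

variable {X}
variable (E : X.Modules) (hE : PicF.IsInvertible E) {G G' : X.Modules}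
  (hG : Coh.IsCoh G) (hG' : Coh.IsCoh G') (μ : G ⟶ G')

include hE hG hG'

/-- the image--cokernel sequence of a morphism -/
theorem imCoker_shortExact :
    (ShortComplex.mk (Abelian.image.ι μ) (cokernel.π μ) (kernel.condition _)).ShortExact := by
  let S₂ : ShortComplex X.Modules := ShortComplex.mk (Abelian.image.ι μ)
    (cokernel.π μ) (kernel.condition _)
  have hS₂ : S₂.Exact :=
    ShortComplex.exact_of_f_is_kernel _ (kernelIsKernel (cokernel.π μ))
  haveI : Mono S₂.f := inferInstanceAs (Mono (Abelian.image.ι μ))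
  haveI : Epi S₂.g := inferInstanceAs (Epi (cokernel.π μ))
  exact { exact := hS₂ }

theorem map_le_target (i : ℕ) :
    Module.finrank k (Coh.HH X (CohB1.tensorMod E G') i) ≤
      Module.finrank k (Coh.HH X (CohB1.tensorMod E G) i) +
        Module.finrank k (Coh.HH X (CohB1.tensorMod E (kernel μ)) (i + 1)) +
        Module.finrank k (Coh.HH X (CohB1.tensorMod E (cokernel μ)) i) := by
  haveI : AlgebraicGeometry.IsNoetherian X := isNoetherian_of_proper k X
  haveI : G.IsQuasicoherent := hG.1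
  haveI : G'.IsQuasicoherent := hG'.1
  have hQc : Coh.IsCoh (cokernel μ) := FtLocal.isCoh_cokernel hG hG' μ
  have hIc : Coh.IsCoh (Abelian.image μ) :=
    FtLocal.isCoh_of_mono (Abelian.image.ι μ) hG' (QcAbel.isQuasicoherent_image μ)
  have hKc : Coh.IsCoh (kernel μ) := FtLocal.isCoh_kernel hG hG' μ
  have a1 := tensor_le_mid k E hE _ (imCoker_shortExact E hE hG hG' μ) hIc hG' hQc i
  have a2 := tensor_le_right k E hE _ (H1Ext.kerIm_shortExact μ) hKc hG hIc i
  change Module.finrank k (Coh.HH X (CohB1.tensorMod E G') i) ≤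
    Module.finrank k (Coh.HH X (CohB1.tensorMod E (Abelian.image μ)) i) +
      Module.finrank k (Coh.HH X (CohB1.tensorMod E (cokernel μ)) i) at a1
  change Module.finrank k (Coh.HH X (CohB1.tensorMod E (Abelian.image μ)) i) ≤
    Module.finrank k (Coh.HH X (CohB1.tensorMod E G) i) +
      Module.finrank k (Coh.HH X (CohB1.tensorMod E (kernel μ)) (i + 1)) at a2
  omega

theorem map_le_source (i : ℕ) :
    Module.finrank k (Coh.HH X (CohB1.tensorMod E G) i) ≤
      Module.finrank k (Coh.HH X (CohB1.tensorMod E (kernel μ)) i) +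
        Module.finrank k (Coh.HH X (CohB1.tensorMod E G') i) +
        Module.finrank k (Coh.HH X (CohB1.tensorMod E (cokernel μ)) (i - 1)) := by
  haveI : AlgebraicGeometry.IsNoetherian X := isNoetherian_of_proper k X
  haveI : G.IsQuasicoherent := hG.1
  haveI : G'.IsQuasicoherent := hG'.1
  have hQc : Coh.IsCoh (cokernel μ) := FtLocal.isCoh_cokernel hG hG' μ
  have hIc : Coh.IsCoh (Abelian.image μ) :=
    FtLocal.isCoh_of_mono (Abelian.image.ι μ) hG' (QcAbel.isQuasicoherent_image μ)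
  have hKc : Coh.IsCoh (kernel μ) := FtLocal.isCoh_kernel hG hG' μ
  have a1 := tensor_le_left k E hE _ (imCoker_shortExact E hE hG hG' μ) hIc hG' hQc i
  have a2 := tensor_le_mid k E hE _ (H1Ext.kerIm_shortExact μ) hKc hG hIc i
  change Module.finrank k (Coh.HH X (CohB1.tensorMod E (Abelian.image μ)) i) ≤
    Module.finrank k (Coh.HH X (CohB1.tensorMod E (cokernel μ)) (i - 1)) +
      Module.finrank k (Coh.HH X (CohB1.tensorMod E G') i) at a1
  change Module.finrank k (Coh.HH X (CohB1.tensorMod E G) i) ≤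
    Module.finrank k (Coh.HH X (CohB1.tensorMod E (kernel μ)) i) +
      Module.finrank k (Coh.HH X (CohB1.tensorMod E (Abelian.image μ)) i) at a2
  omega

end Map

section Bd

/-- the bound predicate: the dimensions of `H^i(E ⊗ G)`, for `E` reachable in `n` steps, are at
most `C β(n)` -/
def Bd {s : ℕ} (N : Fin s → X.Modules) (β : ℕ → ℕ) (G : X.Modules) (i : ℕ) : Prop :=
  ∃ C : ℕ, ∀ (n : ℕ) (E : X.Modules), Reach N n E →
    Module.finrank k (Coh.HH X (CohB1.tensorMod E G) i) ≤ C * β n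

variable {k X} {s : ℕ} {N : Fin s → X.Modules} {β : ℕ → ℕ}

theorem Bd.mono {β' : ℕ → ℕ} (c : ℕ) (h : ∀ n, β n ≤ c * β' n) {G : X.Modules} {i : ℕ}
    (hb : Bd k X N β G i) : Bd k X N β' G i := by
  obtain ⟨C, hC⟩ := hb
  refine ⟨C * c, fun n E hE => (hC n E hE).trans ?_⟩
  calc C * β n ≤ C * (c * β' n) := Nat.mul_le_mul_left _ (h n)
    _ = C * c * β' n := (Nat.mul_assoc _ _ _).symm

theorem bd_of_iso {G G' : X.Modules} (e : G ≅ G') {i : ℕ} (hb : Bd k X N β G i) :
    Bd k X N β G' i := by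
  obtain ⟨C, hC⟩ := hb
  refine ⟨C, fun n E hE => ?_⟩
  rw [← (HHFin1.HHequiv k (Groth.Agent.Lead.TilT.tensorModCongr (Iso.refl E) e) i).finrank_eq]
  exact hC n E hE

theorem bd_of_isZero {G : X.Modules} (hG : IsZero G) (i : ℕ) : Bd k X N β G i := by
  refine ⟨0, fun n E _ => ?_⟩
  have hz : IsZero (CohB1.tensorMod E G) :=
    Groth.Agent.Lib.Helper5.SPTensor.isZero_tensor_right _ _ hG
  haveI : Subsingleton (Coh.HH X (CohB1.tensorMod E G) i) :=
    H1Ext.subsingleton_HH_of_isZero hz i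
  rw [Module.finrank_zero_of_subsingleton]
  exact Nat.zero_le _

variable (hN : ∀ j, PicF.IsInvertible (N j))
  (S : ShortComplex X.Modules) (hS : S.ShortExact)
  (h₁ : Coh.IsCoh S.X₁) (h₂ : Coh.IsCoh S.X₂) (h₃ : Coh.IsCoh S.X₃)

include hN hS h₁ h₂ h₃

theorem bd_mid (i : ℕ) (b1 : Bd k X N β S.X₁ i) (b3 : Bd k X N β S.X₃ i) :
    Bd k X N β S.X₂ i := by
  obtain ⟨C1, hC1⟩ := b1
  obtain ⟨C3, hC3⟩ := b3
  refine ⟨C1 + C3, fun n E hE => ?_⟩
  have hle := tensor_le_mid k E (hE.isInvertible hN) S hS h₁ h₂ h₃ i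
  calc _ ≤ _ := hle
    _ ≤ C1 * β n + C3 * β n := Nat.add_le_add (hC1 n E hE) (hC3 n E hE)
    _ = (C1 + C3) * β n := (Nat.add_mul _ _ _).symm

theorem bd_left (i : ℕ) (b2 : Bd k X N β S.X₂ i) (b3 : Bd k X N β S.X₃ (i - 1)) :
    Bd k X N β S.X₁ i := by
  obtain ⟨C2, hC2⟩ := b2
  obtain ⟨C3, hC3⟩ := b3
  refine ⟨C3 + C2, fun n E hE => ?_⟩
  have hle := tensor_le_left k E (hE.isInvertible hN) S hS h₁ h₂ h₃ i
  calc _ ≤ _ := hle
    _ ≤ C3 * β n + C2 * β n := Nat.add_le_add (hC3 n E hE) (hC2 n E hE)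
    _ = (C3 + C2) * β n := (Nat.add_mul _ _ _).symm

end Bd

end Groth.Agent.Helper1.ThmB
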