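import Mathlib
import Groth.Agent.Lib.Helper1.ThmB2

/-!
# Polynomial bounds for the cohomology of twists: the main induction (helper1)
-/

set_option autoImplicit false
universe u
open CategoryTheory CategoryTheory.Limits AlgebraicGeometry TopologicalSpace Opposite

namespace Groth.Agent.Helper1.ThmB

open Groth.Agent.Helper1.QcCech Groth.Agent.Helper1.SubSh Groth.Agent.Helper1.LGen
open Groth.Agent.Helper1.TmulLib Groth.Agent.Helper1 Groth.Agent.Helper1.TwForm
open Groth.Agent.Helper1.TensGen Groth.Agent.Lib.Helper4.TwExact Groth.Agent.Helper1.Dv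
open Groth.Agent.Lib.Helper4 Groth.Agent.Helper1.CurveAmp Groth.Agent.Helper1.FinSupp
open Groth.Agent.Lib.Helper5.StalkAdj Groth.Agent.Helper1.Euler

theorem arith_step (C₀ Cs c1 c2 n B B' x y z : ℕ) (hc : c1 + c2 ≤ Cs) (hB : B ≤ B')
    (hx : x ≤ C₀ + Cs * (n * B)) (hy : y ≤ c1 * B') (hz : z ≤ c2 * B') :
    x + y + z ≤ C₀ + Cs * ((n + 1) * B') := by
  have h4 : c1 * B' + c2 * B' = (c1 + c2) * B' := (Nat.add_mul _ _ _).symm
  have h5 : (c1 + c2) * B' ≤ Cs * B' := Nat.mul_le_mul_right _ hc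
  have h1 : Cs * (n * B) ≤ Cs * (n * B') := Nat.mul_le_mul_left _ (Nat.mul_le_mul_left _ hB)
  have h3 : Cs * ((n + 1) * B') = Cs * (n * B') + Cs * B' := by ring
  omega

variable (k : Type u) [Field k] (X : Scheme.{u}) [X.Over (Spec (CommRingCat.of k))]
  [IsProper (X ↘ (Spec (CommRingCat.of k)))]

/-- the bound for the structure sheaf of an integral closed subscheme, from the bounds in lower
dimensions -/
theorem bd_closure {s : ℕ} (N : Fin s → X.Modules) (hN : ∀ j, PicF.IsInvertible (N j))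
    (hgen : ∀ j, PtGen (N j)) (β : ℕ → ℕ) (hβ : Monotone β) (e : ℕ)
    (hlow : ∀ M : X.Modules, Coh.IsCoh M →
      topologicalKrullDim ↥(CohB1.support M) + 1 ≤ ((e : ℕ) : WithBot ℕ∞) →
        ∀ i, Bd k X N β M i)
    (ξ : X) (hξ : topologicalKrullDim ↥(closure ({ξ} : Set X)) ≤ ((e : ℕ) : WithBot ℕ∞))
    (i : ℕ) :
    Bd k X N (fun n => 1 + n * β n) (Cyc.closureStructureSheaf ξ) i := by
  haveI : AlgebraicGeometry.IsNoetherian X := isNoetherian_of_proper k X
  obtain ⟨G, hGdef⟩ : ∃ G : X.Modules, G = Cyc.closureStructureSheaf ξ := ⟨_, rfl⟩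
  rw [← hGdef]
  have hGc : Coh.IsCoh G := hGdef ▸ isCoh_closureStructureSheaf ξ
  have hGs : CohB1.support G ⊆ closure {ξ} := hGdef ▸ support_closureStructureSheaf ξ
  choose σ hσ using fun j => hgen j ξ
  have hGNc : ∀ j, Coh.IsCoh (CohB1.tensorMod G (N j)) := fun j =>
    isCoh_tensor G (N j) hGc (InvQc.isCoh_of_isInvertible _ (hN j))
  have hKc : ∀ j, Coh.IsCoh (kernel (mulΓ G (N j) (σ j))) := fun j =>
    FtLocal.isCoh_kernel hGc (hGNc j) _
  have hQc : ∀ j, Coh.IsCoh (cokernel (mulΓ G (N j) (σ j))) := fun j =>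
    FtLocal.isCoh_cokernel hGc (hGNc j) _
  have hbij : ∀ j, Function.Bijective (stalkL (mulΓ G (N j) (σ j)) ξ) := by
    intro j
    obtain ⟨V, hxV, hV⟩ := hσ j
    exact stalkL_mulΓ_bijective G (N j) (σ j) hV ξ hxV
  have hKξ : ∀ j, ξ ∉ CohB1.support (kernel (mulΓ G (N j) (σ j))) := fun j =>
    notMem_support_kernel' _ ξ (hbij j).1
  have hQξ : ∀ j, ξ ∉ CohB1.support (cokernel (mulΓ G (N j) (σ j))) := fun j =>
    notMem_support_cokernel' _ ξ (hbij j).2
  have hKs : ∀ j, CohB1.support (kernel (mulΓ G (N j) (σ j))) ⊆ closure {ξ} := fun j =>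
    (support_mono (kernel.ι _)).trans hGs
  have hQs : ∀ j, CohB1.support (cokernel (mulΓ G (N j) (σ j))) ⊆ closure {ξ} :=
    fun j x hx => hGs (NegVan.support_tensor_subset (hN j) x (support_epi (cokernel.π _) hx))
  have hdrop : ∀ M : X.Modules, Coh.IsCoh M → CohB1.support M ⊆ closure {ξ} →
      ξ ∉ CohB1.support M →
      topologicalKrullDim ↥(CohB1.support M) + 1 ≤ ((e : ℕ) : WithBot ℕ∞) := by
    intro M hM hMs hMξ
    have hcl : IsClosed (CohB1.support M) := FtGen.isClosed_support M hM.2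
    have hne : CohB1.support M ≠ closure {ξ} := fun h => hMξ (h ▸ subset_closure rfl)
    exact (krullDim_add_one_le_of_closed_ssubset hcl isIrreducible_singleton.closure hMs
      hne).trans hξ
  have bK : ∀ j i, Bd k X N β (kernel (mulΓ G (N j) (σ j))) i := fun j =>
    hlow _ (hKc j) (hdrop _ (hKc j) (hKs j) (hKξ j))
  have bQ : ∀ j i, Bd k X N β (cokernel (mulΓ G (N j) (σ j))) i := fun j =>
    hlow _ (hQc j) (hdrop _ (hQc j) (hQs j) (hQξ j))
  choose CK hCK using bK
  choose CQ hCQ using bQ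
  obtain ⟨C₀, hC₀⟩ : ∃ C₀ : ℕ, C₀ = Module.finrank k (Coh.HH X G i) := ⟨_, rfl⟩
  obtain ⟨Cs, hCs⟩ : ∃ Cs : ℕ,
      Cs = ∑ j, (CK j (i + 1) + CQ j i + CK j i + CQ j (i - 1)) := ⟨_, rfl⟩
  have hCsj : ∀ j, CK j (i + 1) + CQ j i + CK j i + CQ j (i - 1) ≤ Cs := fun j => by
    rw [hCs]
    exact Finset.single_le_sum
      (f := fun j => CK j (i + 1) + CQ j i + CK j i + CQ j (i - 1))
      (fun _ _ => Nat.zero_le _) (Finset.mem_univ j)
  have key : ∀ (n : ℕ) (E : X.Modules), Reach N n E →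
      Module.finrank k (Coh.HH X (CohB1.tensorMod E G) i) ≤ C₀ + Cs * (n * β n) := by
    intro n E hE
    induction hE with
    | zero E e =>
      obtain ⟨e⟩ := e
      have i1 : CohB1.tensorMod E G ≅ G :=
        Groth.Agent.Lead.TilT.tensorModCongr e (Iso.refl G) ≪≫ TildeTens.tensorModComm _ _ ≪≫
          Groth.Agent.Lib.Helper5.LTenFlf.tensorUnitIso G
      rw [(HHFin1.HHequiv k i1 i).finrank_eq, ← hC₀]
      exact Nat.le_add_right _ _
    | up n E E' j h e ih =>
      obtain ⟨e⟩ := e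
      have hEi := h.isInvertible hN
      have i1 : CohB1.tensorMod E' G ≅ CohB1.tensorMod E (CohB1.tensorMod G (N j)) :=
        TildeTens.tensorModComm E' G ≪≫
          Groth.Agent.Lead.TilT.tensorModCongr (Iso.refl G) e ≪≫ (swapIso G (hN j) hEi).symm
      rw [(HHFin1.HHequiv k i1 i).finrank_eq]
      have a := map_le_target k E hEi hGc (hGNc j) (mulΓ G (N j) (σ j)) i
      have b1 := hCK j (i + 1) n E h
      have b2 := hCQ j i n E h
      have hm : β n ≤ β (n + 1) := hβ (Nat.le_succ n)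
      have hj := hCsj j
      refine a.trans (arith_step C₀ Cs (CK j (i + 1)) (CQ j i) n (β n) (β (n + 1)) _ _ _
        (by omega) hm ih (b1.trans (Nat.mul_le_mul_left _ hm))
        (b2.trans (Nat.mul_le_mul_left _ hm)))
    | down n E E' j h e ih =>
      obtain ⟨e⟩ := e
      have hEi := h.isInvertible hN
      have hE' : Reach N (n + 1) E' := Reach.down n E E' j h ⟨e⟩
      have hE'i := hE'.isInvertible hN
      have i1 : CohB1.tensorMod E' (CohB1.tensorMod G (N j)) ≅ CohB1.tensorMod E G :=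
        swapIso G (hN j) hE'i ≪≫ Groth.Agent.Lead.TilT.tensorModCongr (Iso.refl G) e ≪≫
          TildeTens.tensorModComm G E
      have a := map_le_source k E' hE'i hGc (hGNc j) (mulΓ G (N j) (σ j)) i
      rw [(HHFin1.HHequiv k i1 i).finrank_eq] at a
      have b1 := hCK j i (n + 1) E' hE'
      have b2 := hCQ j (i - 1) (n + 1) E' hE'
      have hm : β n ≤ β (n + 1) := hβ (Nat.le_succ n)
      have hj := hCsj j
      have a' := arith_step C₀ Cs (CK j i) (CQ j (i - 1)) n (β n) (β (n + 1)) _ _ _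
        (by omega) hm ih b1 b2
      omega
  refine ⟨C₀ + Cs, fun n E hE => (key n E hE).trans ?_⟩
  show C₀ + Cs * (n * β n) ≤ (C₀ + Cs) * (1 + n * β n)
  have h3 : (C₀ + Cs) * (1 + n * β n) = C₀ + Cs * (n * β n) + (C₀ * (n * β n) + Cs) := by ring
  omega

/-- dévissage: from lower-dimensional bounds to the bound in dimension `e` -/
theorem step {s : ℕ} (N : Fin s → X.Modules) (hN : ∀ j, PicF.IsInvertible (N j))
    (hgen : ∀ j, PtGen (N j)) (e : ℕ) (β : ℕ → ℕ) (hβ : Monotone β)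
    (hlow : ∀ M : X.Modules, Coh.IsCoh M →
      topologicalKrullDim ↥(CohB1.support M) + 1 ≤ ((e : ℕ) : WithBot ℕ∞) →
        ∀ i, Bd k X N β M i)
    (c : ℕ) (hc : ∀ n, 1 + n * β n ≤ c * (n + 1) ^ e)
    (F : X.Modules) (hF : Coh.IsCoh F)
    (hd : topologicalKrullDim ↥(CohB1.support F) ≤ ((e : ℕ) : WithBot ℕ∞)) (i₀ : ℕ) :
    Bd k X N (fun n => (n + 1) ^ e) F i₀ := by
  haveI : AlgebraicGeometry.IsNoetherian X := isNoetherian_of_proper k X
  have hmain := dev_simple (fun M => ∀ i, Bd k X N (fun n => (n + 1) ^ e) M i)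
    (fun M M' e h i => bd_of_iso e (h i))
    (fun M hM i => bd_of_isZero hM i)
    (CohB1.support F)
    (fun S hS h1 h2 h3 _ =>
      ⟨fun k2 k3 i => bd_left hN S hS h1 h2 h3 i (k2 i) (k3 (i - 1)),
        fun k1 k3 i => bd_mid hN S hS h1 h2 h3 i (k1 i) (k3 i)⟩)
    (fun Z hZ hirr hZX' ξ hξ _ => by
      have hle : topologicalKrullDim ↥(closure ({ξ} : Set X)) ≤ ((e : ℕ) : WithBot ℕ∞) := by
        rw [hξ]
        exact (krullDim_le_of_subset hZX').trans hd
      refine ⟨Cyc.closureStructureSheaf ξ, isCoh_closureStructureSheaf ξ,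
        fun i => (bd_closure k X N hN hgen β hβ e hlow ξ hle i).mono c hc, ?_,
        isSimpleModule_stalk_closureStructureSheaf ξ⟩
      rw [← hξ]
      exact support_closureStructureSheaf ξ)
    F hF subset_rfl
  exact hmain i₀

/-- **polynomial bounds for the cohomology of twists**: for `G` coherent with support of
dimension `≤ e`, `h^i(E ⊗ G) ≤ C (n+1)^e` for all `E` reachable in `n` steps -/
theorem main {s : ℕ} (N : Fin s → X.Modules) (hN : ∀ j, PicF.IsInvertible (N j))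
    (hgen : ∀ j, PtGen (N j)) :
    ∀ (e : ℕ) (G : X.Modules), Coh.IsCoh G →
      topologicalKrullDim ↥(CohB1.support G) ≤ ((e : ℕ) : WithBot ℕ∞) →
        ∀ i, Bd k X N (fun n => (n + 1) ^ e) G i := by
  intro e
  induction e with
  | zero =>
    intro F hF hd i₀
    have hlow : ∀ M : X.Modules, Coh.IsCoh M →
        topologicalKrullDim ↥(CohB1.support M) + 1 ≤ ((0 : ℕ) : WithBot ℕ∞) →
          ∀ i, Bd k X N (fun _ => 0) M i := by
      intro M hM hdM i
      have hemp := Big.eq_empty_of_krullDim_add_one_le_zero _ hdM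
      exact bd_of_isZero (isZero_of_support_subset_empty M (hemp ▸ subset_rfl)) i
    exact step k X N hN hgen 0 (fun _ => 0) monotone_const hlow 1 (fun n => by simp) F hF hd i₀
  | succ e ih =>
    intro F hF hd i₀
    have hlow : ∀ M : X.Modules, Coh.IsCoh M →
        topologicalKrullDim ↥(CohB1.support M) + 1 ≤ ((e + 1 : ℕ) : WithBot ℕ∞) →
          ∀ i, Bd k X N (fun n => (n + 1) ^ e) M i := by
      intro M hM hdM i
      exact ih M hM (SnapPos.le_of_add_one_le_succ _ e hdM) i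
    have hmono : Monotone (fun n : ℕ => (n + 1) ^ e) := fun a b hab =>
      Nat.pow_le_pow_left (Nat.succ_le_succ hab) e
    refine step k X N hN hgen (e + 1) (fun n => (n + 1) ^ e) hmono hlow 2 (fun n => ?_) F hF hd i₀
    have h1 : 1 ≤ (n + 1) ^ (e + 1) := Nat.one_le_pow _ _ (Nat.succ_pos n)
    have h2 : n * (n + 1) ^ e ≤ (n + 1) ^ (e + 1) := by
      rw [pow_succ, mul_comm ((n + 1) ^ e)]
      exact Nat.mul_le_mul_right _ (Nat.le_succ n)
    show 1 + n * (n + 1) ^ e ≤ 2 * (n + 1) ^ (e + 1)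
    omega

end Groth.Agent.Helper1.ThmB
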