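import Mathlib
import Groth.Agent.Lib.Helper1.ThmB3
import Groth.Agent.Lib.Helper1.CurveLin2

/-!
# Polynomial bounds for the cohomology of twists: uniform constants and families indexed by
integer vectors (helper1)
-/

set_option autoImplicit false
universe u
open CategoryTheory CategoryTheory.Limits AlgebraicGeometry TopologicalSpace Opposite

namespace Groth.Agent.Helper1.ThmB

open Groth.Agent.Helper1.QcCech Groth.Agent.Helper1.SubSh Groth.Agent.Helper1.LGen
open Groth.Agent.Helper1.TmulLib Groth.Agent.Helper1 Groth.Agent.Helper1.TwForm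
open Groth.Agent.Helper1.TensGen Groth.Agent.Lib.Helper4.TwExact Groth.Agent.Helper1.Dv
open Groth.Agent.Lib.Helper4 Groth.Agent.Helper1.CurveAmp Groth.Agent.Helper1.FinSupp
open Groth.Agent.Lib.Helper5.StalkAdj Groth.Agent.Helper1.Euler

section Gen

variable {X : Scheme.{u}}

theorem ptGen_of_gg {N : X.Modules} (hN : PicF.IsInvertible N)
    (hg : Curv2.IsGloballyGenerated N) : PtGen N := by
  intro x
  obtain ⟨W, b, hxW, hb⟩ := exists_isGen hN x
  obtain ⟨σ, hσ⟩ := AmpleLib.exists_section_of_gg_map hg (𝟙 N) hb b rfl x hxW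
  refine ⟨σ, ?_⟩
  rw [AmpleLib.mem_genLocus_iff_isGen] at hσ
  obtain ⟨V, hxV, hV⟩ := hσ
  rw [AmpleLib.secVal_homOfSec] at hV
  exact ⟨V, hxV, hV⟩

theorem ptGen_of_iso {M N : X.Modules} (e : M ≅ N) (h : PtGen M) : PtGen N := by
  intro x
  obtain ⟨σ, hσ⟩ := h x
  exact ⟨e.hom.app ⊤ σ, CurveLin.genAt_of_iso e σ x hσ⟩

theorem gg_of_iso {M N : X.Modules} (e : M ≅ N) (h : Curv2.IsGloballyGenerated M) :
    Curv2.IsGloballyGenerated N := by
  obtain ⟨ι, p, hp⟩ := h
  haveI := hp
  exact ⟨ι, p ≫ e.hom, epi_comp _ _⟩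

end Gen

section Unif

variable (k : Type u) [Field k] (X : Scheme.{u}) [X.Over (Spec (CommRingCat.of k))]
  [IsProper (X ↘ (Spec (CommRingCat.of k)))]

/-- the bound with a constant uniform in the cohomological degree -/
theorem exists_uniform {s : ℕ} (N : Fin s → X.Modules) (hN : ∀ j, PicF.IsInvertible (N j))
    (hgen : ∀ j, PtGen (N j)) (e : ℕ) (G : X.Modules) (hG : Coh.IsCoh G)
    (hd : topologicalKrullDim ↥(CohB1.support G) ≤ ((e : ℕ) : WithBot ℕ∞)) :
    ∃ C : ℕ, ∀ (i n : ℕ) (E : X.Modules), Reach N n E →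
      Module.finrank k (Coh.HH X (CohB1.tensorMod E G) i) ≤ C * (n + 1) ^ e := by
  haveI : AlgebraicGeometry.IsNoetherian X := isNoetherian_of_proper k X
  choose C hC using main k X N hN hgen e G hG hd
  refine ⟨∑ i ∈ Finset.range (e + 1), C i, fun i n E hE => ?_⟩
  by_cases hi : i < e + 1
  · refine (hC i n E hE).trans (Nat.mul_le_mul_right _ ?_)
    exact Finset.single_le_sum (f := C) (fun _ _ => Nat.zero_le _) (Finset.mem_range.2 hi)
  · have hEi := hE.isInvertible hN
    have hEc : Coh.IsCoh E := InvQc.isCoh_of_isInvertible _ hEi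
    have hc : Coh.IsCoh (CohB1.tensorMod E G) := isCoh_tensor E G hEc hG
    have hsub : CohB1.support (CohB1.tensorMod E G) ⊆ CohB1.support G := by
      intro x hx
      rw [Dv.support_iso (TildeTens.tensorModComm E G)] at hx
      exact NegVan.support_tensor_subset hEi x hx
    have hd' := (krullDim_le_of_subset hsub).trans hd
    haveI : Subsingleton (Coh.HH X (CohB1.tensorMod E G) i) :=
      Big.subsingleton_HH_of_dim_support_lt _ hc e hd' i (by omega)
    rw [Module.finrank_zero_of_subsingleton]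
    exact Nat.zero_le _

end Unif

section Family

variable {X : Scheme.{u}}

/-- the generators `B`, `L_1 ⊗ B`, …, `L_r ⊗ B` -/
noncomputable def gens {r : ℕ} (Lb : Fin r → X.Modules) (B : X.Modules) :
    Fin (r + 1) → X.Modules :=
  Fin.cases B (fun j => CohB1.tensorMod (Lb j) B)

theorem sum_natAbs_sub {r : ℕ} (a : Fin r → ℤ) (j : Fin r) (hj : 0 < a j) :
    ∑ l, ((a - Pi.single j 1 : Fin r → ℤ) l).natAbs + 1 = ∑ l, (a l).natAbs := by
  have h1 : ∀ l, (a l).natAbs = ((a - Pi.single j 1 : Fin r → ℤ) l).natAbs + (if l = j then 1 else 0) := by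
    intro l
    by_cases hl : l = j
    · subst hl
      simp only [Pi.sub_apply, Pi.single_eq_same, if_true]
      omega
    · simp only [Pi.sub_apply, Pi.single_eq_of_ne hl, sub_zero, if_neg hl, add_zero]
  rw [Finset.sum_congr rfl (fun l _ => h1 l), Finset.sum_add_distrib]
  simp

theorem sum_natAbs_add {r : ℕ} (a : Fin r → ℤ) (j : Fin r) (hj : a j < 0) :
    ∑ l, ((a + Pi.single j 1 : Fin r → ℤ) l).natAbs + 1 = ∑ l, (a l).natAbs := by
  have h1 : ∀ l, (a l).natAbs = ((a + Pi.single j 1 : Fin r → ℤ) l).natAbs + (if l = j then 1 else 0) := by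
    intro l
    by_cases hl : l = j
    · subst hl
      simp only [Pi.add_apply, Pi.single_eq_same, if_true]
      omega
    · simp only [Pi.add_apply, Pi.single_eq_of_ne hl, add_zero, if_neg hl]
  rw [Finset.sum_congr rfl (fun l _ => h1 l), Finset.sum_add_distrib]
  simp

/-- a family of modules indexed by integer vectors, multiplicative in each coordinate, is
reachable -/
theorem reach_family {r : ℕ} (Lb : Fin r → X.Modules) (hLb : ∀ j, PicF.IsInvertible (Lb j))
    (B : X.Modules) (hB : PicF.IsInvertible B)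
    (F : (Fin r → ℤ) → X.Modules) (hF0 : Nonempty (F 0 ≅ Coh.structureModule X))
    (hF : ∀ (a : Fin r → ℤ) (j : Fin r),
      Nonempty (F (a + Pi.single j 1) ≅ CohB1.tensorMod (F a) (Lb j))) :
    ∀ (n : ℕ) (a : Fin r → ℤ), ∑ l, (a l).natAbs = n → Reach (gens Lb B) (2 * n) (F a) := by
  intro n
  induction n with
  | zero =>
    intro a ha
    have h0 : a = 0 := by
      funext l
      have := (Finset.sum_eq_zero_iff.1 ha) l (Finset.mem_univ l)
      simpa using this
    rw [h0]
    exact Reach.zero _ hF0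
  | succ n ih =>
    intro a ha
    have hex : ∃ j, a j ≠ 0 := by
      by_contra hcon
      push_neg at hcon
      have : ∑ l, (a l).natAbs = 0 := Finset.sum_eq_zero (fun l _ => by rw [hcon l]; rfl)
      omega
    obtain ⟨j, hj⟩ := hex
    rcases lt_or_gt_of_ne hj with hneg | hpos
    · -- `a j < 0`: come down from `a + e_j`
      have hs := sum_natAbs_add a j hneg
      have hR := ih (a + Pi.single j 1) (by omega)
      obtain ⟨e⟩ := hF a j
      -- `e : F (a + e_j) ≅ F a ⊗ L_j`
      have hR1 : Reach (gens Lb B) (2 * n + 1)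
          (CohB1.tensorMod (F (a + Pi.single j 1)) B) :=
        Reach.up (2 * n) _ _ 0 hR ⟨Iso.refl _⟩
      have i1 : CohB1.tensorMod (F a) (gens Lb B j.succ) ≅
          CohB1.tensorMod (F (a + Pi.single j 1)) B :=
        (GenusOne.assocIso (F a) (hLb j) hB).symm ≪≫
          Groth.Agent.Lead.TilT.tensorModCongr e.symm (Iso.refl B)
      exact Reach.down (2 * n + 1) _ (F a) j.succ hR1 ⟨i1⟩
    · -- `0 < a j`: go up from `a - e_j`
      have hs := sum_natAbs_sub a j hpos
      have hR := ih (a - Pi.single j 1) (by omega)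
      obtain ⟨e⟩ := hF (a - Pi.single j 1) j
      have haa : a - Pi.single j 1 + Pi.single j 1 = a := sub_add_cancel _ _
      rw [haa] at e
      -- `e : F a ≅ F (a - e_j) ⊗ L_j`
      have hR1 : Reach (gens Lb B) (2 * n + 1)
          (CohB1.tensorMod (F (a - Pi.single j 1)) (gens Lb B j.succ)) :=
        Reach.up (2 * n) _ _ j.succ hR ⟨Iso.refl _⟩
      have i1 : CohB1.tensorMod (F a) (gens Lb B 0) ≅
          CohB1.tensorMod (F (a - Pi.single j 1)) (gens Lb B j.succ) :=
        Groth.Agent.Lead.TilT.tensorModCongr e (Iso.refl B) ≪≫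
          GenusOne.assocIso (F (a - Pi.single j 1)) (hLb j) hB
      exact Reach.down (2 * n + 1) _ (F a) 0 hR1 ⟨i1⟩

end Family

end Groth.Agent.Helper1.ThmB
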