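import Mathlib
import Groth.Agent.Lib.Helper1.ThmB4
import Groth.Agent.Lib.Helper1.VA5
import Groth.Agent.Lib.Helper1.PullAmple

/-!
# Polynomial bounds for the cohomology of the twists by several invertible modules on a
projective scheme (helper1)
-/

set_option autoImplicit false
universe u
open CategoryTheory CategoryTheory.Limits AlgebraicGeometry TopologicalSpace Opposite

namespace Groth.Agent.Helper1.ThmB

open Groth.Agent.Helper1 Groth.Agent.Helper1.Euler Groth.Agent.Helper1.Dv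
open Groth.Agent.Helper1.FinLen Groth.Agent.Helper1.TwForm Groth.Agent.Helper1.Curve
open Groth.Agent.Helper1.Snap Groth.Agent.Helper1.SnapPos Groth.Agent.Helper1.FGAInt
open Groth.Agent.Helper1.FGAPos
open Groth.Agent.Lib.Helper4

theorem arith_final (n d : ℕ) : (2 * n + 1) ^ d ≤ 4 ^ d * (1 + n ^ d) := by
  rcases Nat.eq_zero_or_pos n with h | h
  · subst h
    simp only [mul_zero, zero_add, one_pow]
    calc 1 ≤ 4 ^ d := Nat.one_le_pow _ _ (by norm_num)
      _ ≤ 4 ^ d * (1 + 0 ^ d) := Nat.le_mul_of_pos_right _ (by positivity)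
  · calc (2 * n + 1) ^ d ≤ (4 * n) ^ d := Nat.pow_le_pow_left (by omega) d
      _ = 4 ^ d * n ^ d := Nat.mul_pow _ _ _
      _ ≤ 4 ^ d * (1 + n ^ d) := Nat.mul_le_mul_left _ (Nat.le_add_left _ _)

/-- on a scheme proper over a field with an ample invertible module, the cohomology of a family
of modules indexed by integer vectors, multiplicative in each coordinate, grows at most like the
`e`-th power of the size of the index, `e` the dimension -/
theorem family_bound (k : Type u) [Field k] (Y : Scheme.{u}) [Y.Over (Spec (CommRingCat.of k))]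
    [IsProper (Y ↘ (Spec (CommRingCat.of k)))] (H : Y.Modules) (hH : CohB1.IsAmple H)
    (d : ℕ) (hd : topologicalKrullDim ↥Y ≤ ((d : ℕ) : WithBot ℕ∞))
    (r : ℕ) (Lb : Fin r → Y.Modules) (hLb : ∀ j, PicF.IsInvertible (Lb j))
    (F : (Fin r → ℤ) → Y.Modules) (hF0 : Nonempty (F 0 ≅ Coh.structureModule Y))
    (hF : ∀ (a : Fin r → ℤ) (j : Fin r),
      Nonempty (F (a + Pi.single j 1) ≅ CohB1.tensorMod (F a) (Lb j))) :
    ∃ C : ℝ, 0 < C ∧ ∀ (i : ℕ) (a : Fin r → ℤ),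
      (Module.finrank k (Coh.HH Y (F a) i) : ℝ) ≤ C * (1 + (∑ j, |(a j : ℝ)|) ^ d) := by
  haveI : AlgebraicGeometry.IsNoetherian Y := isNoetherian_of_proper k Y
  have hOc := isCoh_structureModule Y
  choose n₀ hn₀ using fun j =>
    AmpleLib.eventually_globallyGenerated hH (Lb j) (InvQc.isCoh_of_isInvertible _ (hLb j))
  obtain ⟨n₁, hn₁⟩ := AmpleLib.eventually_globallyGenerated hH (Coh.structureModule Y) hOc
  obtain ⟨t, ht⟩ : ∃ t : ℕ, t = max (Finset.univ.sup n₀) n₁ := ⟨_, rfl⟩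
  have ht0 : ∀ j, n₀ j ≤ t := fun j => by
    rw [ht]
    exact le_trans (Finset.le_sup (Finset.mem_univ j)) (le_max_left _ _)
  have ht1 : n₁ ≤ t := by
    rw [ht]
    exact le_max_right _ _
  obtain ⟨B, hBdef⟩ : ∃ B : Y.Modules, B = CohB1.tensorPow H t := ⟨_, rfl⟩
  have hB : PicF.IsInvertible B := hBdef ▸ isInvertible_tensorPow hH.1 t
  have hBg : PtGen B := by
    have h1 : Curv2.IsGloballyGenerated (CohB1.tensorMod (Coh.structureModule Y) B) :=
      hBdef ▸ hn₁ t ht1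
    exact ptGen_of_iso (TildeTens.tensorModComm _ _ ≪≫
      Groth.Agent.Lib.Helper5.LTenFlf.tensorUnitIso B)
      (ptGen_of_gg (isInvertible_tensorMod GenLoc.isInvertible_O hB) h1)
  have hAg : ∀ j, PtGen (CohB1.tensorMod (Lb j) B) := fun j =>
    ptGen_of_gg (isInvertible_tensorMod (hLb j) hB) (hBdef ▸ hn₀ j t (ht0 j))
  have hNi : ∀ j, PicF.IsInvertible (gens Lb B j) :=
    Fin.cases hB (fun j => isInvertible_tensorMod (hLb j) hB)
  have hNg : ∀ j, PtGen (gens Lb B j) := Fin.cases hBg hAg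
  have hdO : topologicalKrullDim ↥(CohB1.support (Coh.structureModule Y)) ≤
      ((d : ℕ) : WithBot ℕ∞) :=
    (Topology.IsInducing.subtypeVal.topologicalKrullDim_le).trans hd
  obtain ⟨C, hC⟩ := exists_uniform k Y (gens Lb B) hNi hNg d (Coh.structureModule Y) hOc hdO
  refine ⟨((C : ℝ) + 1) * 4 ^ d, by positivity, fun i a => ?_⟩
  obtain ⟨n, hn⟩ : ∃ n, ∑ l, (a l).natAbs = n := ⟨_, rfl⟩
  have hR := reach_family Lb hLb B hB F hF0 hF n a hn
  have h1 := hC i (2 * n) (F a) hR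
  have e1 : Module.finrank k (Coh.HH Y (CohB1.tensorMod (F a) (Coh.structureModule Y)) i) =
      Module.finrank k (Coh.HH Y (F a) i) :=
    (HHFin1.HHequiv k (Groth.Agent.Lib.Helper5.LTenFlf.tensorUnitIso (F a)) i).finrank_eq
  rw [e1] at h1
  have hsum : (∑ j, |(a j : ℝ)|) = (n : ℝ) := by
    rw [← hn]
    push_cast
    apply Finset.sum_congr rfl
    intro l _
    rw [Nat.cast_natAbs, Int.cast_abs]
  rw [hsum]
  have h2 : (Module.finrank k (Coh.HH Y (F a) i) : ℝ) ≤ (C : ℝ) * ((2 * n + 1 : ℕ) : ℝ) ^ d := by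
    exact_mod_cast h1
  have h3 : ((2 * n + 1 : ℕ) : ℝ) ^ d ≤ (4 : ℝ) ^ d * (1 + (n : ℝ) ^ d) := by
    exact_mod_cast arith_final n d
  have hC0 : (0 : ℝ) ≤ (C : ℝ) := Nat.cast_nonneg C
  have hpos : (0 : ℝ) ≤ (4 : ℝ) ^ d * (1 + (n : ℝ) ^ d) := by positivity
  calc (Module.finrank k (Coh.HH Y (F a) i) : ℝ)
      ≤ (C : ℝ) * ((2 * n + 1 : ℕ) : ℝ) ^ d := h2
    _ ≤ (C : ℝ) * ((4 : ℝ) ^ d * (1 + (n : ℝ) ^ d)) := mul_le_mul_of_nonneg_left h3 hC0
    _ ≤ ((C : ℝ) + 1) * ((4 : ℝ) ^ d * (1 + (n : ℝ) ^ d)) := by nlinarith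
    _ = ((C : ℝ) + 1) * 4 ^ d * (1 + (n : ℝ) ^ d) := by ring

/-- the statement for closed subschemes of projective space -/
theorem proj_bound (k : Type u) [Field k] (Y : Scheme.{u}) [Y.Over (Spec (CommRingCat.of k))]
    (N : ℕ) (c : Y ⟶ CohB1.ProjSpace N k) [IsClosedImmersion c]
    (hc : c ≫ CohB1.ProjSpace.toSpec N k = Y ↘ Spec (CommRingCat.of k))
    (d : ℕ) (hd : topologicalKrullDim ↥Y = d)
    (r : ℕ) (Lb : Fin r → Y.Modules) (hLb : ∀ j, PicF.IsInvertible (Lb j))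
    (F : (Fin r → ℤ) → Y.Modules) (hF0 : Nonempty (F 0 ≅ Coh.structureModule Y))
    (hF : ∀ (a : Fin r → ℤ) (j : Fin r),
      Nonempty (F (a + Pi.single j 1) ≅ CohB1.tensorMod (F a) (Lb j))) :
    ∃ C : ℝ, 0 < C ∧ ∀ (i : ℕ) (a : Fin r → ℤ),
      (Module.finrank k (Coh.HH Y (F a) i) : ℝ) ≤ C * (1 + (∑ j, |(a j : ℝ)|) ^ d) := by
  haveI : IsProper (CohB1.ProjSpace.toSpec N k) := VA5.isProper_toSpec N k
  haveI : IsProper (Y ↘ (Spec (CommRingCat.of k))) := by
    rw [← hc]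
    infer_instance
  haveI : AlgebraicGeometry.IsNoetherian Y := isNoetherian_of_proper k Y
  have hH : CohB1.IsAmple ((Scheme.Modules.pullback c).obj (Twist.twistProjSpace N k 1)) :=
    PullAmple.isAmple_pullback_of_isEmbedding c c.isClosedEmbedding.isEmbedding
      (VA5.isAmple_twistProjSpace N k)
  exact family_bound k Y _ hH d hd.le r Lb hLb F hF0 hF

end Groth.Agent.Helper1.ThmB
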