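import Mathlib
import Groth.Agent.Lib.Helper1.ThmB5

/-!
# Asymptotic cohomological functions are insensitive to modules with small support (helper1)
-/

set_option autoImplicit false
universe u
open CategoryTheory CategoryTheory.Limits AlgebraicGeometry TopologicalSpace Opposite

namespace Groth.Agent.Helper1.ThmB

open Groth.Agent.Helper1 Groth.Agent.Helper1.Euler Groth.Agent.Helper1.Dv
open Groth.Agent.Helper1.FinLen Groth.Agent.Helper1.TwForm Groth.Agent.Helper1.Curve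
open Groth.Agent.Helper1.Snap Groth.Agent.Helper1.SnapPos Groth.Agent.Helper1.FGAInt
open Groth.Agent.Helper1.FGAPos
open Groth.Agent.Lib.Helper4

section Order

theorem add_one_le_of_lt_nat (x : WithBot ℕ∞) (n : ℕ) (h : x < ((n : ℕ) : WithBot ℕ∞)) :
    x + 1 ≤ ((n : ℕ) : WithBot ℕ∞) := by
  induction x with
  | bot => rw [WithBot.bot_add]; exact bot_le
  | coe m =>
    have h' : (m : WithBot ℕ∞) < (((n : ℕ) : ℕ∞) : WithBot ℕ∞) := by exact_mod_cast h
    have h'' : m < ((n : ℕ) : ℕ∞) := WithBot.coe_lt_coe.1 h'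
    have h3 : m + 1 ≤ ((n : ℕ) : ℕ∞) := Order.add_one_le_of_lt h''
    have h4 : ((m + 1 : ℕ∞) : WithBot ℕ∞) ≤ (((n : ℕ) : ℕ∞) : WithBot ℕ∞) :=
      WithBot.coe_le_coe.2 h3
    exact_mod_cast h4

end Order

section Real

open Filter Topology

theorem limsup_le_of_tendsto_sub {u v : ℕ → ℝ} (hu0 : ∀ m, 0 ≤ u m) (hv0 : ∀ m, 0 ≤ v m)
    (hvb : ∃ M, ∀ᶠ m in atTop, v m ≤ M)
    (h : Tendsto (fun m => u m - v m) atTop (𝓝 0)) : limsup u atTop ≤ limsup v atTop := by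
  obtain ⟨M, hM⟩ := hvb
  have hvbd : IsBoundedUnder (· ≤ ·) atTop v := isBoundedUnder_of_eventually_le hM
  have hvco : IsCoboundedUnder (· ≤ ·) atTop v := isCoboundedUnder_le_of_le (x := 0) atTop hv0
  apply le_of_forall_pos_le_add
  intro ε hε
  have hev : ∀ᶠ m in atTop, u m ≤ ε + v m := by
    have := (tendsto_order.1 h).2 ε hε
    filter_upwards [this] with m hm
    linarith
  have hbd2 : IsBoundedUnder (· ≤ ·) atTop (fun m => ε + v m) := by
    apply isBoundedUnder_of_eventually_le (a := ε + M)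
    filter_upwards [hM] with m hm
    linarith
  calc limsup u atTop ≤ limsup (fun m => ε + v m) atTop :=
        limsup_le_limsup hev (isCoboundedUnder_le_of_le (x := 0) atTop hu0) hbd2
    _ = ε + limsup v atTop := limsup_const_add atTop v ε hvbd hvco
    _ = limsup v atTop + ε := add_comm _ _

theorem limsup_eq_of_tendsto_sub {u v : ℕ → ℝ} (hu0 : ∀ m, 0 ≤ u m) (hv0 : ∀ m, 0 ≤ v m)
    (hub : ∃ M, ∀ᶠ m in atTop, u m ≤ M) (hvb : ∃ M, ∀ᶠ m in atTop, v m ≤ M)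
    (h : Tendsto (fun m => u m - v m) atTop (𝓝 0)) : limsup u atTop = limsup v atTop := by
  apply le_antisymm (limsup_le_of_tendsto_sub hu0 hv0 hvb h)
  apply limsup_le_of_tendsto_sub hv0 hu0 hub
  have := h.neg
  simpa using this

/-- comparison of two normalised sequences of dimensions differing by a lower order term -/
theorem limsup_core (n : ℕ) (a b c : ℕ → ℕ) (K K' : ℕ)
    (h1 : ∀ m, a m ≤ b m + c m) (h2 : ∀ m, b m ≤ a m + c m)
    (hc : ∀ m, c m * m ≤ K * (2 * m + 1) ^ n) (ha : ∀ m, a m ≤ K' * (2 * m + 1) ^ n)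
    (hb : ∀ m, b m ≤ K' * (2 * m + 1) ^ n) :
    limsup (fun m : ℕ => (a m : ℝ) * (n.factorial : ℝ) / (m : ℝ) ^ n) atTop =
      limsup (fun m : ℕ => (b m : ℝ) * (n.factorial : ℝ) / (m : ℝ) ^ n) atTop := by
  have hf0 : (0 : ℝ) ≤ (n.factorial : ℝ) := Nat.cast_nonneg _
  have hpow : ∀ m : ℕ, 1 ≤ m → ((2 * m + 1 : ℕ) : ℝ) ^ n ≤ (3 : ℝ) ^ n * (m : ℝ) ^ n := by
    intro m hm
    rw [← mul_pow]
    apply pow_le_pow_left₀ (Nat.cast_nonneg _)
    have : (1 : ℝ) ≤ (m : ℝ) := by exact_mod_cast hm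
    push_cast
    linarith
  -- bounds
  have bound : ∀ (x : ℕ → ℕ), (∀ m, x m ≤ K' * (2 * m + 1) ^ n) →
      ∃ M : ℝ, ∀ᶠ m : ℕ in atTop, (x m : ℝ) * (n.factorial : ℝ) / (m : ℝ) ^ n ≤ M := by
    intro x hx
    refine ⟨(K' : ℝ) * 3 ^ n * (n.factorial : ℝ), eventually_atTop.2 ⟨1, fun m hm => ?_⟩⟩
    have hm0 : (0 : ℝ) < (m : ℝ) ^ n := pow_pos (by exact_mod_cast hm) n
    rw [div_le_iff₀ hm0]
    have hx' : (x m : ℝ) ≤ (K' : ℝ) * ((2 * m + 1 : ℕ) : ℝ) ^ n := by exact_mod_cast hx m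
    have hK' : (0 : ℝ) ≤ (K' : ℝ) := Nat.cast_nonneg _
    calc (x m : ℝ) * (n.factorial : ℝ)
        ≤ ((K' : ℝ) * ((2 * m + 1 : ℕ) : ℝ) ^ n) * (n.factorial : ℝ) :=
          mul_le_mul_of_nonneg_right hx' hf0
      _ ≤ ((K' : ℝ) * ((3 : ℝ) ^ n * (m : ℝ) ^ n)) * (n.factorial : ℝ) :=
          mul_le_mul_of_nonneg_right (mul_le_mul_of_nonneg_left (hpow m hm) hK') hf0
      _ = (K' : ℝ) * 3 ^ n * (n.factorial : ℝ) * (m : ℝ) ^ n := by ring
  apply limsup_eq_of_tendsto_sub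
  · intro m; positivity
  · intro m; positivity
  · exact bound a ha
  · exact bound b hb
  · -- the difference tends to zero
    have hlim : Tendsto (fun m : ℕ => ((K : ℝ) * 3 ^ n * (n.factorial : ℝ)) / (m : ℝ)) atTop
        (𝓝 0) := tendsto_const_div_atTop_nhds_zero_nat _
    refine squeeze_zero_norm' (eventually_atTop.2 ⟨1, fun m hm => ?_⟩) hlim
    have hm1 : (0 : ℝ) < (m : ℝ) := by exact_mod_cast hm
    have hm0 : (0 : ℝ) < (m : ℝ) ^ n := pow_pos hm1 n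
    have hK : (0 : ℝ) ≤ (K : ℝ) := Nat.cast_nonneg _
    have hab : |(a m : ℝ) - (b m : ℝ)| ≤ (c m : ℝ) := by
      have e1 : (a m : ℝ) ≤ (b m : ℝ) + (c m : ℝ) := by exact_mod_cast h1 m
      have e2 : (b m : ℝ) ≤ (a m : ℝ) + (c m : ℝ) := by exact_mod_cast h2 m
      rw [abs_le]
      constructor <;> linarith
    have hc' : (c m : ℝ) * (m : ℝ) ≤ (K : ℝ) * ((2 * m + 1 : ℕ) : ℝ) ^ n := by
      exact_mod_cast hc m
    have hc'' : (c m : ℝ) * (m : ℝ) ≤ (K : ℝ) * ((3 : ℝ) ^ n * (m : ℝ) ^ n) :=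
      hc'.trans (mul_le_mul_of_nonneg_left (hpow m hm) hK)
    have hdiff : (a m : ℝ) * (n.factorial : ℝ) / (m : ℝ) ^ n -
        (b m : ℝ) * (n.factorial : ℝ) / (m : ℝ) ^ n =
        ((a m : ℝ) - (b m : ℝ)) * (n.factorial : ℝ) / (m : ℝ) ^ n := by ring
    rw [Real.norm_eq_abs, hdiff, abs_div, abs_mul, abs_of_nonneg hf0, abs_of_pos hm0,
      div_le_div_iff₀ hm0 hm1]
    calc |(a m : ℝ) - (b m : ℝ)| * (n.factorial : ℝ) * (m : ℝ)
        ≤ (c m : ℝ) * (n.factorial : ℝ) * (m : ℝ) :=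
          mul_le_mul_of_nonneg_right (mul_le_mul_of_nonneg_right hab hf0) hm1.le
      _ = ((c m : ℝ) * (m : ℝ)) * (n.factorial : ℝ) := by ring
      _ ≤ ((K : ℝ) * ((3 : ℝ) ^ n * (m : ℝ) ^ n)) * (n.factorial : ℝ) :=
          mul_le_mul_of_nonneg_right hc'' hf0
      _ = (K : ℝ) * 3 ^ n * (n.factorial : ℝ) * (m : ℝ) ^ n := by ring

end Real

section Pow

variable {X : Scheme.{u}}

theorem reach_pow (L : X.Modules) (hL : PicF.IsInvertible L) (B : X.Modules)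
    (hB : PicF.IsInvertible B) :
    ∀ m : ℕ, Reach (gens (fun _ : Fin 1 => L) B) (2 * m) (CohB1.tensorPow L m)
  | 0 => Reach.zero _ ⟨Iso.refl _⟩
  | m + 1 => by
    have hR := reach_pow L hL B hB m
    have hR1 : Reach (gens (fun _ : Fin 1 => L) B) (2 * m + 1)
        (CohB1.tensorMod (CohB1.tensorPow L m) (gens (fun _ : Fin 1 => L) B (Fin.succ 0))) :=
      Reach.up (2 * m) _ _ (Fin.succ 0) hR ⟨Iso.refl _⟩
    have i1 : CohB1.tensorMod (CohB1.tensorPow L (m + 1)) (gens (fun _ : Fin 1 => L) B 0) ≅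
        CohB1.tensorMod (CohB1.tensorPow L m) (gens (fun _ : Fin 1 => L) B (Fin.succ 0)) :=
      GenusOne.assocIso (CohB1.tensorPow L m) hL hB
    have h2 : 2 * (m + 1) = 2 * m + 1 + 1 := by ring
    rw [h2]
    exact Reach.down (2 * m + 1) _ _ 0 hR1 ⟨i1⟩

/-- generators: a power `B` of an ample module with `B` and all `L_j ⊗ B` globally generated -/
theorem exists_gens [IsNoetherian X] (H : X.Modules) (hH : CohB1.IsAmple H) {r : ℕ}
    (Lb : Fin r → X.Modules) (hLb : ∀ j, PicF.IsInvertible (Lb j)) :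
    ∃ B : X.Modules, PicF.IsInvertible B ∧ (∀ j, PicF.IsInvertible (gens Lb B j)) ∧
      ∀ j, PtGen (gens Lb B j) := by
  have hOc := isCoh_structureModule X
  choose n₀ hn₀ using fun j =>
    AmpleLib.eventually_globallyGenerated hH (Lb j) (InvQc.isCoh_of_isInvertible _ (hLb j))
  obtain ⟨n₁, hn₁⟩ := AmpleLib.eventually_globallyGenerated hH (Coh.structureModule X) hOc
  obtain ⟨t, ht⟩ : ∃ t : ℕ, t = max (Finset.univ.sup n₀) n₁ := ⟨_, rfl⟩
  have ht0 : ∀ j, n₀ j ≤ t := fun j => by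
    rw [ht]
    exact le_trans (Finset.le_sup (Finset.mem_univ j)) (le_max_left _ _)
  have ht1 : n₁ ≤ t := by
    rw [ht]
    exact le_max_right _ _
  have hB : PicF.IsInvertible (CohB1.tensorPow H t) := isInvertible_tensorPow hH.1 t
  have hBg : PtGen (CohB1.tensorPow H t) :=
    ptGen_of_iso (TildeTens.tensorModComm _ _ ≪≫
      Groth.Agent.Lib.Helper5.LTenFlf.tensorUnitIso _)
      (ptGen_of_gg (isInvertible_tensorMod GenLoc.isInvertible_O hB) (hn₁ t ht1))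
  have hAg : ∀ j, PtGen (CohB1.tensorMod (Lb j) (CohB1.tensorPow H t)) := fun j =>
    ptGen_of_gg (isInvertible_tensorMod (hLb j) hB) (hn₀ j t (ht0 j))
  exact ⟨CohB1.tensorPow H t, hB, Fin.cases hB (fun j => isInvertible_tensorMod (hLb j) hB),
    Fin.cases hBg hAg⟩

end Pow

section Twist

variable (k : Type u) [Field k] (X : Scheme.{u}) [X.Over (Spec (CommRingCat.of k))]
  [IsProper (X ↘ (Spec (CommRingCat.of k)))]

/-- `h^j(L^m ⊗ G)` -/
noncomputable def hh (G L : X.Modules) (j m : ℕ) : ℕ :=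
  Module.finrank k (Coh.HH X (CohB1.tensorMod (CohB1.tensorPow L m) G) j)

theorem twist_bound (H : X.Modules) (hH : CohB1.IsAmple H) (e : ℕ) (L : X.Modules)
    (hL : PicF.IsInvertible L) (G : X.Modules) (hG : Coh.IsCoh G)
    (hd : topologicalKrullDim ↥(CohB1.support G) ≤ ((e : ℕ) : WithBot ℕ∞)) :
    ∃ C : ℕ, ∀ j m : ℕ, hh k X G L j m ≤ C * (2 * m + 1) ^ e := by
  haveI : AlgebraicGeometry.IsNoetherian X := isNoetherian_of_proper k X
  obtain ⟨B, hB, hNi, hNg⟩ := exists_gens H hH (fun _ : Fin 1 => L) (fun _ => hL)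
  obtain ⟨C, hC⟩ := exists_uniform k X _ hNi hNg e G hG hd
  exact ⟨C, fun j m => hC j (2 * m) _ (reach_pow L hL B hB m)⟩

theorem twist_bound_lower (H : X.Modules) (hH : CohB1.IsAmple H) (n : ℕ) (L : X.Modules)
    (hL : PicF.IsInvertible L) (G : X.Modules) (hG : Coh.IsCoh G)
    (hd : topologicalKrullDim ↥(CohB1.support G) + 1 ≤ ((n : ℕ) : WithBot ℕ∞)) :
    ∃ C : ℕ, ∀ j m : ℕ, hh k X G L j m * m ≤ C * (2 * m + 1) ^ n := by
  rcases n with _ | e
  · have hemp := Big.eq_empty_of_krullDim_add_one_le_zero _ hd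
    have hz : IsZero G := isZero_of_support_subset_empty G (hemp ▸ subset_rfl)
    refine ⟨0, fun j m => ?_⟩
    have hz' : IsZero (CohB1.tensorMod (CohB1.tensorPow L m) G) :=
      Groth.Agent.Lib.Helper5.SPTensor.isZero_tensor_right _ _ hz
    haveI : Subsingleton (Coh.HH X (CohB1.tensorMod (CohB1.tensorPow L m) G) j) :=
      H1Ext.subsingleton_HH_of_isZero hz' j
    unfold hh
    rw [Module.finrank_zero_of_subsingleton]
    simp
  · obtain ⟨C, hC⟩ := twist_bound k X H hH e L hL G hG (SnapPos.le_of_add_one_le_succ _ e hd)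
    refine ⟨C, fun j m => ?_⟩
    calc hh k X G L j m * m ≤ C * (2 * m + 1) ^ e * m := Nat.mul_le_mul_right _ (hC j m)
      _ ≤ C * (2 * m + 1) ^ e * (2 * m + 1) := Nat.mul_le_mul_left _ (by omega)
      _ = C * (2 * m + 1) ^ (e + 1) := by rw [pow_succ, mul_assoc]

theorem cohSeq_eq (n i : ℕ) (G L : X.Modules) :
    W4c5asymptcohfn.cohSeq k X n i G L =
      fun m : ℕ => (hh k X G L i m : ℝ) * (n.factorial : ℝ) / (m : ℝ) ^ n := by
  funext m
  unfold W4c5asymptcohfn.cohSeq hh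
  rw [(HHFin1.HHequiv k (TildeTens.tensorModComm G (CohB1.tensorPow L m)) i).finrank_eq]

variable (H : X.Modules) (hH : CohB1.IsAmple H) (n : ℕ) (hn : topologicalKrullDim X = n)
  (S : ShortComplex X.Modules) (hS : S.ShortExact)
  (hA : Coh.IsCoh S.X₁) (hB : Coh.IsCoh S.X₂) (hC : Coh.IsCoh S.X₃)
  (L : X.Modules) (hL : PicF.IsInvertible L) (i : ℕ)

include hH hn hS hA hB hC hL

theorem hhatF_mid_eq_right
    (hdim : topologicalKrullDim (CohB1.support S.X₁) < (n : WithBot ℕ∞)) :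
    W4c5asymptcohfn.hhatF k X n i S.X₂ L = W4c5asymptcohfn.hhatF k X n i S.X₃ L := by
  haveI : AlgebraicGeometry.IsNoetherian X := isNoetherian_of_proper k X
  have hdX : ∀ G : X.Modules,
      topologicalKrullDim ↥(CohB1.support G) ≤ ((n : ℕ) : WithBot ℕ∞) := fun G =>
    (Topology.IsInducing.subtypeVal.topologicalKrullDim_le).trans hn.le
  obtain ⟨K1, hK1⟩ := twist_bound_lower k X H hH n L hL S.X₁ hA (add_one_le_of_lt_nat _ n hdim)
  obtain ⟨K2, hK2⟩ := twist_bound k X H hH n L hL S.X₂ hB (hdX _)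
  obtain ⟨K3, hK3⟩ := twist_bound k X H hH n L hL S.X₃ hC (hdX _)
  unfold W4c5asymptcohfn.hhatF
  rw [cohSeq_eq, cohSeq_eq]
  have hLm : ∀ m, PicF.IsInvertible (CohB1.tensorPow L m) := fun m => isInvertible_tensorPow hL m
  refine limsup_core n (fun m => hh k X S.X₂ L i m) (fun m => hh k X S.X₃ L i m)
    (fun m => hh k X S.X₁ L i m + hh k X S.X₁ L (i + 1) m) (K1 + K1) (K2 + K3) ?_ ?_ ?_ ?_ ?_
  · intro m
    have a1 : hh k X S.X₂ L i m ≤ hh k X S.X₁ L i m + hh k X S.X₃ L i m :=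
      tensor_le_mid k _ (hLm m) S hS hA hB hC i
    show hh k X S.X₂ L i m ≤ hh k X S.X₃ L i m + (hh k X S.X₁ L i m + hh k X S.X₁ L (i + 1) m)
    omega
  · intro m
    have a1 : hh k X S.X₃ L i m ≤ hh k X S.X₂ L i m + hh k X S.X₁ L (i + 1) m :=
      tensor_le_right k _ (hLm m) S hS hA hB hC i
    show hh k X S.X₃ L i m ≤ hh k X S.X₂ L i m + (hh k X S.X₁ L i m + hh k X S.X₁ L (i + 1) m)
    omega
  · intro m
    have a1 := hK1 i m
    have a2 := hK1 (i + 1) m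
    show (hh k X S.X₁ L i m + hh k X S.X₁ L (i + 1) m) * m ≤ (K1 + K1) * (2 * m + 1) ^ n
    rw [Nat.add_mul, Nat.add_mul]
    exact Nat.add_le_add a1 a2
  · intro m
    exact (hK2 i m).trans (Nat.mul_le_mul_right _ (Nat.le_add_right _ _))
  · intro m
    exact (hK3 i m).trans (Nat.mul_le_mul_right _ (Nat.le_add_left _ _))

theorem hhatF_left_eq_mid
    (hdim : topologicalKrullDim (CohB1.support S.X₃) < (n : WithBot ℕ∞)) :
    W4c5asymptcohfn.hhatF k X n i S.X₁ L = W4c5asymptcohfn.hhatF k X n i S.X₂ L := by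
  haveI : AlgebraicGeometry.IsNoetherian X := isNoetherian_of_proper k X
  have hdX : ∀ G : X.Modules,
      topologicalKrullDim ↥(CohB1.support G) ≤ ((n : ℕ) : WithBot ℕ∞) := fun G =>
    (Topology.IsInducing.subtypeVal.topologicalKrullDim_le).trans hn.le
  obtain ⟨K3, hK3⟩ := twist_bound_lower k X H hH n L hL S.X₃ hC (add_one_le_of_lt_nat _ n hdim)
  obtain ⟨K1, hK1⟩ := twist_bound k X H hH n L hL S.X₁ hA (hdX _)
  obtain ⟨K2, hK2⟩ := twist_bound k X H hH n L hL S.X₂ hB (hdX _)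
  unfold W4c5asymptcohfn.hhatF
  rw [cohSeq_eq, cohSeq_eq]
  have hLm : ∀ m, PicF.IsInvertible (CohB1.tensorPow L m) := fun m => isInvertible_tensorPow hL m
  refine limsup_core n (fun m => hh k X S.X₁ L i m) (fun m => hh k X S.X₂ L i m)
    (fun m => hh k X S.X₃ L (i - 1) m + hh k X S.X₃ L i m) (K3 + K3) (K1 + K2) ?_ ?_ ?_ ?_ ?_
  · intro m
    have a1 : hh k X S.X₁ L i m ≤ hh k X S.X₃ L (i - 1) m + hh k X S.X₂ L i m :=
      tensor_le_left k _ (hLm m) S hS hA hB hC i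
    show hh k X S.X₁ L i m ≤ hh k X S.X₂ L i m + (hh k X S.X₃ L (i - 1) m + hh k X S.X₃ L i m)
    omega
  · intro m
    have a1 : hh k X S.X₂ L i m ≤ hh k X S.X₁ L i m + hh k X S.X₃ L i m :=
      tensor_le_mid k _ (hLm m) S hS hA hB hC i
    show hh k X S.X₂ L i m ≤ hh k X S.X₁ L i m + (hh k X S.X₃ L (i - 1) m + hh k X S.X₃ L i m)
    omega
  · intro m
    have a1 := hK3 (i - 1) m
    have a2 := hK3 i m
    show (hh k X S.X₃ L (i - 1) m + hh k X S.X₃ L i m) * m ≤ (K3 + K3) * (2 * m + 1) ^ n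
    rw [Nat.add_mul, Nat.add_mul]
    exact Nat.add_le_add a1 a2
  · intro m
    exact (hK1 i m).trans (Nat.mul_le_mul_right _ (Nat.le_add_right _ _))
  · intro m
    exact (hK2 i m).trans (Nat.mul_le_mul_right _ (Nat.le_add_left _ _))

end Twist

end Groth.Agent.Helper1.ThmB
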