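import Mathlib
import Groth.Agent.Lib.Helper1.ThmB6
import Groth.Agent.Lib.Helper1.FinSigma
import Groth.Agent.Lib.Helper1.Dv12
import Groth.Agent.Lib.Lead.SD1

/-!
# Asymptotic cohomological functions: generic isomorphisms and the generic rank (helper1)
-/

set_option autoImplicit false
universe u
open CategoryTheory CategoryTheory.Limits AlgebraicGeometry TopologicalSpace Opposite

namespace Groth.Agent.Helper1.ThmB

open Groth.Agent.Helper1 Groth.Agent.Helper1.Euler Groth.Agent.Helper1.Dv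
open Groth.Agent.Helper1.FinLen Groth.Agent.Helper1.TwForm Groth.Agent.Helper1.Curve
open Groth.Agent.Helper1.Snap Groth.Agent.Helper1.SnapPos Groth.Agent.Helper1.FGAInt
open Groth.Agent.Helper1.FGAPos
open Groth.Agent.Lib.Helper4

section Order

theorem lt_of_add_one_le_nat (x : WithBot ℕ∞) (n : ℕ) (h : x + 1 ≤ ((n : ℕ) : WithBot ℕ∞)) :
    x < ((n : ℕ) : WithBot ℕ∞) := by
  induction x with
  | bot => exact WithBot.bot_lt_coe _
  | coe m =>
    have h' : ((m + 1 : ℕ∞) : WithBot ℕ∞) ≤ (((n : ℕ) : ℕ∞) : WithBot ℕ∞) := by exact_mod_cast h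
    have h'' : m + 1 ≤ ((n : ℕ) : ℕ∞) := WithBot.coe_le_coe.1 h'
    have hm : m ≠ ⊤ := by
      rintro rfl
      rw [top_add] at h''
      exact absurd h'' (by simp)
    have h3 : m < ((n : ℕ) : ℕ∞) := (ENat.add_one_le_iff hm).1 h''
    have h4 : (m : WithBot ℕ∞) < (((n : ℕ) : ℕ∞) : WithBot ℕ∞) := WithBot.coe_lt_coe.2 h3
    exact_mod_cast h4

end Order

section MapEq

variable (k : Type u) [Field k] (X : Scheme.{u}) [X.Over (Spec (CommRingCat.of k))]
  [IsProper (X ↘ (Spec (CommRingCat.of k)))] [IsIntegral X]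

/-- a coherent module whose stalk at the generic point vanishes has support of smaller
dimension -/
theorem dim_support_lt_of_generic (n : ℕ) (hn : topologicalKrullDim X = n) (M : X.Modules)
    (hM : Coh.IsCoh M) (hη : genericPoint X ∉ CohB1.support M) :
    topologicalKrullDim (CohB1.support M) < (n : WithBot ℕ∞) := by
  have hcl : IsClosed (CohB1.support M) := FtGen.isClosed_support M hM.2
  have hne : CohB1.support M ≠ Set.univ := fun h => hη (h ▸ Set.mem_univ _)
  have h1 := Curve.krullDim_add_one_le_of_ne_univ hcl hne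
  rw [hn] at h1
  exact lt_of_add_one_le_nat _ n h1

/-- a morphism of coherent modules which is an isomorphism at the generic point induces an
equality of asymptotic cohomological functions -/
theorem hhatF_eq_of_map (H : X.Modules) (hH : CohB1.IsAmple H) (n : ℕ)
    (hn : topologicalKrullDim X = n) {G₁ G₂ : X.Modules} (h₁ : Coh.IsCoh G₁)
    (h₂ : Coh.IsCoh G₂) (μ : G₁ ⟶ G₂)
    (hη : Function.Bijective (stalkL μ (genericPoint X)))
    (L : X.Modules) (hL : PicF.IsInvertible L) (i : ℕ) :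
    W4c5asymptcohfn.hhatF k X n i G₁ L = W4c5asymptcohfn.hhatF k X n i G₂ L := by
  haveI : AlgebraicGeometry.IsNoetherian X := isNoetherian_of_proper k X
  haveI : G₁.IsQuasicoherent := h₁.1
  haveI : G₂.IsQuasicoherent := h₂.1
  have hQc : Coh.IsCoh (cokernel μ) := FtLocal.isCoh_cokernel h₁ h₂ μ
  have hIc : Coh.IsCoh (Abelian.image μ) :=
    FtLocal.isCoh_of_mono (Abelian.image.ι μ) h₂ (QcAbel.isQuasicoherent_image μ)
  have hKc : Coh.IsCoh (kernel μ) := FtLocal.isCoh_kernel h₁ h₂ μ
  have hKη : genericPoint X ∉ CohB1.support (kernel μ) := notMem_support_kernel' _ _ hη.1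
  have hQη : genericPoint X ∉ CohB1.support (cokernel μ) := notMem_support_cokernel' _ _ hη.2
  have e1 := hhatF_mid_eq_right k X H hH n hn (H1Ext.kerIm μ) (H1Ext.kerIm_shortExact μ)
    hKc h₁ hIc L hL i (dim_support_lt_of_generic X n hn _ hKc hKη)
  have hL' := hL
  have e2 := hhatF_left_eq_mid k X H hH n hn _ (imCoker_shortExact L hL' h₁ h₂ μ)
    hIc h₂ hQc L hL i (dim_support_lt_of_generic X n hn _ hQc hQη)
  exact e1.trans e2

end MapEq

section SigmaCoh

variable {X : Scheme.{u}} (E : X.Modules)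

/-- `E ⊗ f` -/
noncomputable def tmap {A A' : X.Modules} (f : A ⟶ A') :
    CohB1.tensorMod E A ⟶ CohB1.tensorMod E A' :=
  (DCoh.tensorBi.obj E).map f

theorem tmap_comp {A A' A'' : X.Modules} (f : A ⟶ A') (g : A' ⟶ A'') :
    tmap E (f ≫ g) = tmap E f ≫ tmap E g :=
  CategoryTheory.Functor.map_comp _ _ _

theorem tmap_id (A : X.Modules) : tmap E (𝟙 A) = 𝟙 (CohB1.tensorMod E A) :=
  CategoryTheory.Functor.map_id _ _

theorem tmap_zero (A A' : X.Modules) : tmap E (0 : A ⟶ A') = 0 := by
  haveI : (DCoh.tensorBi.obj E).Additive :=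
    (inferInstance : ((ModSite.tensorBi X.sheaf).obj E).Additive)
  exact CategoryTheory.Functor.map_zero _ _ _

theorem tmap_sum {A A' : X.Modules} {ι : Type*} (s : Finset ι) (f : ι → (A ⟶ A')) :
    tmap E (∑ j ∈ s, f j) = ∑ j ∈ s, tmap E (f j) := by
  haveI : (DCoh.tensorBi.obj E).Additive :=
    (inferInstance : ((ModSite.tensorBi X.sheaf).obj E).Additive)
  exact CategoryTheory.Functor.map_sum _ _ _

end SigmaCoh

section SigmaCoh2

variable (k : Type u) [Field k] (X : Scheme.{u}) [X.Over (Spec (CommRingCat.of k))]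
  [IsProper (X ↘ (Spec (CommRingCat.of k)))]
  (E : X.Modules) {r : ℕ} (B : Fin r → X.Modules) (i : ℕ)

noncomputable def aMap (j : Fin r) :
    Coh.HH X (CohB1.tensorMod E (∐ B)) i →ₗ[k] Coh.HH X (CohB1.tensorMod E (B j)) i :=
  Canon.HHlin k (tmap E (FinSigma.q B j)) i

noncomputable def bMap (j : Fin r) :
    Coh.HH X (CohB1.tensorMod E (B j)) i →ₗ[k] Coh.HH X (CohB1.tensorMod E (∐ B)) i :=
  Canon.HHlin k (tmap E (Sigma.ι B j)) i

theorem sum_b_a (x : Coh.HH X (CohB1.tensorMod E (∐ B)) i) :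
    ∑ j, bMap k X E B i j (aMap k X E B i j x) = x := by
  have h3 : ∑ j, tmap E (FinSigma.q B j) ≫ tmap E (Sigma.ι B j) =
      𝟙 (CohB1.tensorMod E (∐ B)) := by
    have h4 : ∀ j, tmap E (FinSigma.q B j) ≫ tmap E (Sigma.ι B j) =
        tmap E (FinSigma.q B j ≫ Sigma.ι B j) := fun j => (tmap_comp E _ _).symm
    rw [Finset.sum_congr rfl (fun j _ => h4 j), ← tmap_sum, FinSigma.sum_q_ι, tmap_id]
  have h2 := HHFin1.HHlin_sum k Finset.univ
    (fun j => tmap E (FinSigma.q B j) ≫ tmap E (Sigma.ι B j)) i x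
  rw [h3, HHFin1.HHlin_id] at h2
  refine Eq.trans (Finset.sum_congr rfl (fun j _ => ?_)) h2.symm
  exact (HHFin1.HHlin_comp k (tmap E (FinSigma.q B j)) (tmap E (Sigma.ι B j)) i x).symm

theorem a_b_self (j : Fin r) (y : Coh.HH X (CohB1.tensorMod E (B j)) i) :
    aMap k X E B i j (bMap k X E B i j y) = y := by
  have h := HHFin1.HHlin_comp k (tmap E (Sigma.ι B j)) (tmap E (FinSigma.q B j)) i y
  rw [← tmap_comp, FinSigma.ι_q_self, tmap_id, HHFin1.HHlin_id] at h
  exact h.symm

theorem a_b_ne {j l : Fin r} (h : j ≠ l) (y : Coh.HH X (CohB1.tensorMod E (B j)) i) :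
    aMap k X E B i l (bMap k X E B i j y) = 0 := by
  have h1 := HHFin1.HHlin_comp k (tmap E (Sigma.ι B j)) (tmap E (FinSigma.q B l)) i y
  rw [← tmap_comp, FinSigma.ι_q_ne B h, tmap_zero, HHFin1.HHlin_zero] at h1
  exact h1.symm

/-- cohomology of the twists of a finite coproduct -/
theorem finrank_HH_tensor_sigma (hE : Coh.IsCoh E) (hB : ∀ j, Coh.IsCoh (B j)) :
    Module.finrank k (Coh.HH X (CohB1.tensorMod E (∐ B)) i) =
      ∑ j, Module.finrank k (Coh.HH X (CohB1.tensorMod E (B j)) i) := by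
  haveI : ∀ j, FiniteDimensional k (Coh.HH X (CohB1.tensorMod E (B j)) i) := fun j =>
    T2Main1.t2 k X _ (isCoh_tensor E (B j) hE (hB j)) i
  have eqv : Coh.HH X (CohB1.tensorMod E (∐ B)) i ≃ₗ[k]
      (∀ j, Coh.HH X (CohB1.tensorMod E (B j)) i) :=
    LinearEquiv.ofLinearMap (LinearMap.pi fun j => aMap k X E B i j)
      (∑ j, (bMap k X E B i j).comp (LinearMap.proj j))
      (by
        apply LinearMap.ext
        intro y
        funext l
        rw [LinearMap.comp_apply, LinearMap.sum_apply, LinearMap.pi_apply, map_sum,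
          LinearMap.id_apply, Finset.sum_eq_single l]
        · rw [LinearMap.comp_apply, LinearMap.proj_apply, a_b_self]
        · intro j _ hjl
          rw [LinearMap.comp_apply, LinearMap.proj_apply, a_b_ne k X E B i hjl]
        · intro h
          exact (h (Finset.mem_univ l)).elim)
      (by
        apply LinearMap.ext
        intro x
        rw [LinearMap.comp_apply, LinearMap.sum_apply, LinearMap.id_apply]
        have h4 : ∀ j, ((bMap k X E B i j).comp (LinearMap.proj j))
            ((LinearMap.pi fun j => aMap k X E B i j) x) =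
            bMap k X E B i j (aMap k X E B i j x) := fun j => rfl
        rw [Finset.sum_congr rfl (fun j _ => h4 j)]
        exact sum_b_a k X E B i x)
  have h5 := eqv.finrank_eq
  rw [Module.finrank_pi_fintype] at h5
  exact h5

end SigmaCoh2

end Groth.Agent.Helper1.ThmB
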