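import Mathlib
import Groth.Agent.Lib.Helper1.ThmB6
import Groth.Agent.Lib.Helper1.FinSigma
import Groth.Agent.Lib.Helper1.Dv12
import Groth.Agent.Lib.Lead.SD1
import Groth.Agent.Lib.Helper1.GlobGenLoc
import Groth.Agent.Lib.Helper7.CohStalk.Finite

/-!
# Generic frames: a globally generated coherent module on an integral scheme receives a map
from a free module which is an isomorphism at the generic point (helper1)
-/

set_option autoImplicit false
universe u
open CategoryTheory CategoryTheory.Limits AlgebraicGeometry TopologicalSpace Opposite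

namespace Groth.Agent.Helper1.ThmB

open Groth.Agent.Helper1.QcCech Groth.Agent.Helper1.SubSh Groth.Agent.Helper1.LGen
open Groth.Agent.Helper1 Groth.Agent.Helper1.TwForm Groth.Agent.Helper1.Dv
open Groth.Agent.Lead

section Frame

variable {X : Scheme.{u}} [IsIntegral X]

/-- the germ at the generic point of the unit section -/
noncomputable def oneη : (Coh.structureModule X).presheaf.stalk (genericPoint X) :=
  (Coh.structureModule X).presheaf.germ ⊤ (genericPoint X) trivial (one' ⊤)

theorem germ_one' (W : X.Opens) (hW : genericPoint X ∈ W) :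
    (Coh.structureModule X).presheaf.germ W (genericPoint X) hW (one' W) = oneη := by
  unfold oneη
  rw [← res_one' (le_top : W ≤ ⊤)]
  exact TopCat.Presheaf.germ_res_apply (Coh.structureModule X).presheaf
    (homOfLE (le_top : W ≤ ⊤)) (genericPoint X) hW (one' ⊤)

theorem stalkL_homOfSec_oneη (G : X.Modules) (σ : Γ(G, ⊤)) :
    stalkL (TwistAmple.homOfSec G σ) (genericPoint X) oneη =
      G.presheaf.germ ⊤ (genericPoint X) trivial σ := by
  unfold oneη
  rw [stalkL_germ]
  have h := app_eq_smul (TwistAmple.homOfSec G σ) ⊤ 1
  rw [one_smul, AmpleLib.secVal_homOfSec, QcCech.res_self] at h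
  exact congrArg _ h

/-- the germs of the global sections of a globally generated module span its generic stalk -/
theorem span_germs_eq_top (G : X.Modules) (hg : Curv2.IsGloballyGenerated G) :
    Submodule.span (X.presheaf.stalk (genericPoint X))
      (Set.range fun σ : Γ(G, ⊤) => G.presheaf.germ ⊤ (genericPoint X) trivial σ) = ⊤ := by
  rw [eq_top_iff]
  intro v _
  obtain ⟨W, hW, t, rfl⟩ := TopCat.Presheaf.exists_germ_eq G.presheaf v
  obtain ⟨ι, p, hp⟩ := hg
  let s : ι → Γ(G, ⊤) := fun i => (G.freeHomEquiv p i).1 (op ⊤)
  haveI : Epi (GlobGen.ofSections s) := by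
    rw [← GlobGen.eq_ofSections p]
    exact hp
  obtain ⟨O', hO', hηO', hm⟩ := GlobGen.mem_loc_of_epi s t (genericPoint X) hW
  have e1 : G.presheaf.germ W (genericPoint X) hW t =
      G.presheaf.germ O' (genericPoint X) hηO' (res G hO' t) :=
    (TopCat.Presheaf.germ_res_apply G.presheaf (homOfLE hO') (genericPoint X) hηO' t).symm
  rw [e1]
  generalize res G hO' t = t' at hm
  induction hm using Submodule.span_induction with
  | mem x hx =>
    obtain ⟨i, rfl⟩ := hx
    apply Submodule.subset_span
    refine ⟨s i, ?_⟩
    exact (TopCat.Presheaf.germ_res_apply G.presheaf (homOfLE (le_top : O' ≤ ⊤))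
      (genericPoint X) hηO' (s i)).symm
  | zero =>
    rw [map_zero]
    exact Submodule.zero_mem _
  | add x y _ _ hx hy =>
    rw [map_add]
    exact Submodule.add_mem _ hx hy
  | smul a x _ hx =>
    rw [SD.germ_smul G (genericPoint X) O' hηO' a x]
    exact Submodule.smul_mem _ _ hx

/-- the generic stalk of a finite free module is spanned by the images of the unit sections -/
theorem span_free_eq_top (r : ℕ) :
    Submodule.span (X.presheaf.stalk (genericPoint X))
      (Set.range fun j : Fin r =>
        stalkL (Sigma.ι (fun _ : Fin r => Coh.structureModule X) j) (genericPoint X) oneη) =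
      ⊤ := by
  rw [eq_top_iff]
  intro v _
  obtain ⟨W, hW, t, rfl⟩ := TopCat.Presheaf.exists_germ_eq
    (∐ fun _ : Fin r => Coh.structureModule X).presheaf v
  rw [FinSigma.decomp (fun _ : Fin r => Coh.structureModule X) W t, map_sum]
  apply Submodule.sum_mem
  intro j _
  have key : ∀ a : Γ(X, W),
      (∐ fun _ : Fin r => Coh.structureModule X).presheaf.germ W (genericPoint X) hW
        ((Sigma.ι (fun _ : Fin r => Coh.structureModule X) j).app W
          (show Γ(Coh.structureModule X, W) from a)) =
      X.presheaf.germ W (genericPoint X) hW a •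
        stalkL (Sigma.ι (fun _ : Fin r => Coh.structureModule X) j) (genericPoint X) oneη := by
    intro a
    rw [← smul_one' W a, Scheme.Modules.Hom.app_smul,
      SD.germ_smul _ (genericPoint X) W hW a, ← stalkL_germ, germ_one' W hW]
    rw [smul_one' W a]
  have h2 := key ((FinSigma.q (fun _ : Fin r => Coh.structureModule X) j).app W t)
  refine (congrArg (· ∈ _) h2).mpr ?_
  exact Submodule.smul_mem _ _ (Submodule.subset_span ⟨j, rfl⟩)

/-- **generic frames**: a globally generated module whose generic stalk is finite dimensional
receives a map from a finite free module which is bijective on the generic stalks -/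
theorem exists_generic_frame (G : X.Modules) (hG : Coh.IsCoh G)
    (hg : Curv2.IsGloballyGenerated G) :
    ∃ (r : ℕ) (τ : Fin r → (Coh.structureModule X ⟶ G)),
      r = Module.finrank (X.presheaf.stalk (genericPoint X))
        (G.presheaf.stalk (genericPoint X)) ∧
      Function.Bijective (stalkL (Sigma.desc τ) (genericPoint X)) := by
  classical
  haveI : Module.Finite (X.presheaf.stalk (genericPoint X))
      (G.presheaf.stalk (genericPoint X)) :=
    Groth.Agent.Helper7.FinType.stalk_finite_of_isCoh G hG (genericPoint X)
  have hS := span_germs_eq_top G hg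
  obtain ⟨f, hfS, hfspan, -⟩ := Submodule.exists_fun_fin_finrank_span_eq
    (X.presheaf.stalk (genericPoint X))
    (Set.range fun σ : Γ(G, ⊤) => G.presheaf.germ ⊤ (genericPoint X) trivial σ)
  have hr : Module.finrank (X.presheaf.stalk (genericPoint X))
      (Submodule.span (X.presheaf.stalk (genericPoint X))
        (Set.range fun σ : Γ(G, ⊤) => G.presheaf.germ ⊤ (genericPoint X) trivial σ)) =
      Module.finrank (X.presheaf.stalk (genericPoint X))
        (G.presheaf.stalk (genericPoint X)) := by
    rw [hS, finrank_top]
  generalize Module.finrank (X.presheaf.stalk (genericPoint X))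
      (Submodule.span (X.presheaf.stalk (genericPoint X))
        (Set.range fun σ : Γ(G, ⊤) => G.presheaf.germ ⊤ (genericPoint X) trivial σ)) = r
    at f hfS hfspan hr
  choose σ hσ using hfS
  refine ⟨r, fun j => TwistAmple.homOfSec G (σ j), hr, ?_⟩
  set φ := Sigma.desc (fun j => TwistAmple.homOfSec G (σ j)) with hφ
  -- the images of the unit sections
  have hτ : ∀ j, stalkL φ (genericPoint X)
      (stalkL (Sigma.ι (fun _ => Coh.structureModule X) j) (genericPoint X) oneη) = f j := by
    intro j
    have h1 : Sigma.ι (fun _ => Coh.structureModule X) j ≫ φ = TwistAmple.homOfSec G (σ j) :=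
      Sigma.ι_desc _ _
    have h2 := stalkL_comp (Sigma.ι (fun _ => Coh.structureModule X) j) φ (genericPoint X)
    rw [h1] at h2
    have h3 := congrArg (fun l => l oneη) h2
    simp only [LinearMap.comp_apply] at h3
    rw [← h3, stalkL_homOfSec_oneη]
    exact hσ j
  -- surjectivity
  have hsurj : LinearMap.range (stalkL φ (genericPoint X)) = ⊤ := by
    rw [eq_top_iff, ← hS, ← hfspan, Submodule.span_le]
    rintro _ ⟨j, rfl⟩
    exact ⟨_, hτ j⟩
  -- finite dimensionality of the source
  have hP := span_free_eq_top (X := X) r
  haveI : Module.Finite (X.presheaf.stalk (genericPoint X))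
      ((∐ fun _ : Fin r => Coh.structureModule X).presheaf.stalk (genericPoint X)) :=
    Module.finite_def.2 (hP ▸ Submodule.fg_span (Set.finite_range _))
  have hle : Module.finrank (X.presheaf.stalk (genericPoint X))
      ((∐ fun _ : Fin r => Coh.structureModule X).presheaf.stalk (genericPoint X)) ≤ r := by
    have h1 := finrank_range_le_card (R := X.presheaf.stalk (genericPoint X))
      (fun j : Fin r =>
        stalkL (Sigma.ι (fun _ => Coh.structureModule X) j) (genericPoint X) oneη)
    rw [Fintype.card_fin] at h1
    unfold Set.finrank at h1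
    rw [hP, finrank_top] at h1
    exact h1
  have hrn := LinearMap.finrank_range_add_finrank_ker (stalkL φ (genericPoint X))
  rw [hsurj, finrank_top, ← hr] at hrn
  have hker : Module.finrank (X.presheaf.stalk (genericPoint X))
      (LinearMap.ker (stalkL φ (genericPoint X))) = 0 := by omega
  have hker' : LinearMap.ker (stalkL φ (genericPoint X)) = ⊥ := Submodule.finrank_eq_zero.1 hker
  exact ⟨LinearMap.ker_eq_bot.1 hker', LinearMap.range_eq_top.1 hsurj⟩

end Frame

end Groth.Agent.Helper1.ThmB
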