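import Mathlib
import Groth.Agent.Lib.Helper1.ThmB7
import Groth.Agent.Lib.Helper1.ThmB8

/-!
# Asymptotic cohomological functions of a coherent module in terms of its generic rank
(helper1)
-/

set_option autoImplicit false
universe u
open CategoryTheory CategoryTheory.Limits AlgebraicGeometry TopologicalSpace Opposite

namespace Groth.Agent.Helper1.ThmB

open Groth.Agent.Helper1 Groth.Agent.Helper1.Euler Groth.Agent.Helper1.Dv
open Groth.Agent.Helper1.FinLen Groth.Agent.Helper1.TwForm Groth.Agent.Helper1.Curve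
open Groth.Agent.Helper1.Snap Groth.Agent.Helper1.SnapPos Groth.Agent.Helper1.FGAInt
open Groth.Agent.Helper1.FGAPos Groth.Agent.Helper1.CurveAmp
open Groth.Agent.Lib.Helper4

section Real

open Filter Topology

theorem limsup_const_mul_real {c : ℝ} (hc : 0 ≤ c) (u : ℕ → ℝ)
    (hbd : atTop.IsBoundedUnder (· ≤ ·) u) (hco : atTop.IsCoboundedUnder (· ≤ ·) u) :
    limsup (fun m => c * u m) atTop = c * limsup u atTop :=
  (Monotone.map_limsSup_of_continuousAt (F := atTop.map u) (f := fun x : ℝ => c * x)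
    (fun _ _ h => mul_le_mul_of_nonneg_left h hc) (continuous_const_mul c).continuousAt
    hbd hco).symm

/-- a normalised sequence of dimensions with polynomial growth is eventually bounded -/
theorem seq_bounded (n : ℕ) (x : ℕ → ℕ) (K' : ℕ) (hx : ∀ m, x m ≤ K' * (2 * m + 1) ^ n) :
    ∃ M : ℝ, ∀ᶠ m : ℕ in atTop, (x m : ℝ) * (n.factorial : ℝ) / (m : ℝ) ^ n ≤ M := by
  have hf0 : (0 : ℝ) ≤ (n.factorial : ℝ) := Nat.cast_nonneg _
  have hpow : ∀ m : ℕ, 1 ≤ m → ((2 * m + 1 : ℕ) : ℝ) ^ n ≤ (3 : ℝ) ^ n * (m : ℝ) ^ n := by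
    intro m hm
    rw [← mul_pow]
    apply pow_le_pow_left₀ (Nat.cast_nonneg _)
    have : (1 : ℝ) ≤ (m : ℝ) := by exact_mod_cast hm
    push_cast
    linarith
  refine ⟨(K' : ℝ) * 3 ^ n * (n.factorial : ℝ), eventually_atTop.2 ⟨1, fun m hm => ?_⟩⟩
  have hm0 : (0 : ℝ) < (m : ℝ) ^ n := pow_pos (by exact_mod_cast hm) n
  rw [div_le_iff₀ hm0]
  have hx' : (x m : ℝ) ≤ (K' : ℝ) * ((2 * m + 1 : ℕ) : ℝ) ^ n := by exact_mod_cast hx m
  have hK' : (0 : ℝ) ≤ (K' : ℝ) := Nat.cast_nonneg _
  calc (x m : ℝ) * (n.factorial : ℝ)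
      ≤ ((K' : ℝ) * ((2 * m + 1 : ℕ) : ℝ) ^ n) * (n.factorial : ℝ) :=
        mul_le_mul_of_nonneg_right hx' hf0
    _ ≤ ((K' : ℝ) * ((3 : ℝ) ^ n * (m : ℝ) ^ n)) * (n.factorial : ℝ) :=
        mul_le_mul_of_nonneg_right (mul_le_mul_of_nonneg_left (hpow m hm) hK') hf0
    _ = (K' : ℝ) * 3 ^ n * (n.factorial : ℝ) * (m : ℝ) ^ n := by ring

end Real

section Rank

variable (k : Type u) [Field k] (X : Scheme.{u}) [X.Over (Spec (CommRingCat.of k))]
  [IsProper (X ↘ (Spec (CommRingCat.of k)))] [IsIntegral X]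

/-- `h^i(L^m ⊗ O) = h^i(L^m)` -/
theorem hh_structure (L : X.Modules) (i m : ℕ) :
    hh k X (Coh.structureModule X) L i m =
      Module.finrank k (Coh.HH X (CohB1.tensorPow L m) i) :=
  (HHFin1.HHequiv k (Groth.Agent.Lib.Helper5.LTenFlf.tensorUnitIso (CohB1.tensorPow L m))
    i).finrank_eq

/-- the asymptotic cohomological functions of a finite free module -/
theorem hhatF_free (H : X.Modules) (hH : CohB1.IsAmple H) (n : ℕ)
    (hn : topologicalKrullDim X = n) (L : X.Modules) (hL : PicF.IsInvertible L) (i r : ℕ) :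
    W4c5asymptcohfn.hhatF k X n i (∐ fun _ : Fin r => Coh.structureModule X) L =
      (r : ℝ) * W4c5asymptcohfn.hhat k X n i L := by
  haveI : AlgebraicGeometry.IsNoetherian X := isNoetherian_of_proper k X
  have hOc := isCoh_structureModule X
  have hdX : topologicalKrullDim ↥(CohB1.support (Coh.structureModule X)) ≤
      ((n : ℕ) : WithBot ℕ∞) :=
    (Topology.IsInducing.subtypeVal.topologicalKrullDim_le).trans hn.le
  obtain ⟨K0, hK0⟩ := twist_bound k X H hH n L hL (Coh.structureModule X) hOc hdX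
  unfold W4c5asymptcohfn.hhatF W4c5asymptcohfn.hhat
  rw [cohSeq_eq]
  have hseq : (fun m : ℕ => (hh k X (∐ fun _ : Fin r => Coh.structureModule X) L i m : ℝ) *
      (n.factorial : ℝ) / (m : ℝ) ^ n) =
      fun m : ℕ => (r : ℝ) * ((Module.finrank k (Coh.HH X (CohB1.tensorPow L m) i) : ℝ) *
        (n.factorial : ℝ) / (m : ℝ) ^ n) := by
    funext m
    have hLm : Coh.IsCoh (CohB1.tensorPow L m) :=
      InvQc.isCoh_of_isInvertible _ (isInvertible_tensorPow hL m)
    have h1 : hh k X (∐ fun _ : Fin r => Coh.structureModule X) L i m =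
        ∑ _j : Fin r, hh k X (Coh.structureModule X) L i m :=
      finrank_HH_tensor_sigma k X (CohB1.tensorPow L m) (fun _ : Fin r => Coh.structureModule X)
        i hLm (fun _ => hOc)
    rw [h1, Finset.sum_const, Finset.card_univ, Fintype.card_fin, smul_eq_mul, hh_structure]
    push_cast
    ring
  rw [hseq]
  apply limsup_const_mul_real (Nat.cast_nonneg r)
  · obtain ⟨M, hM⟩ := seq_bounded n (fun m => Module.finrank k (Coh.HH X (CohB1.tensorPow L m) i))
      K0 (fun m => by rw [← hh_structure]; exact hK0 i m)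
    exact Filter.isBoundedUnder_of_eventually_le hM
  · exact Filter.isCoboundedUnder_le_of_le (x := 0) Filter.atTop (fun m => by positivity)

/-- **the asymptotic cohomological functions of a coherent module** are those of the structure
sheaf multiplied by the generic rank -/
theorem hhatF_eq_rank_mul (H : X.Modules) (hH : CohB1.IsAmple H) (n : ℕ)
    (hn : topologicalKrullDim X = n) (F : X.Modules) (hF : Coh.IsCoh F) (r : ℕ)
    (hr : Module.finrank (X.presheaf.stalk (genericPoint X))
      (F.presheaf.stalk (genericPoint X)) = r)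
    (L : X.Modules) (hL : PicF.IsInvertible L) (i : ℕ) :
    W4c5asymptcohfn.hhatF k X n i F L = (r : ℝ) * W4c5asymptcohfn.hhat k X n i L := by
  haveI : AlgebraicGeometry.IsNoetherian X := isNoetherian_of_proper k X
  have hOc := isCoh_structureModule X
  -- a power of `H` making `F ⊗ H^t` and `H^t` globally generated
  obtain ⟨n₀, hn₀⟩ := AmpleLib.eventually_globallyGenerated hH F hF
  obtain ⟨n₁, hn₁⟩ := AmpleLib.eventually_globallyGenerated hH (Coh.structureModule X) hOc
  obtain ⟨t, ht⟩ : ∃ t : ℕ, t = max n₀ n₁ := ⟨_, rfl⟩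
  have hB : PicF.IsInvertible (CohB1.tensorPow H t) := isInvertible_tensorPow hH.1 t
  have hBc : Coh.IsCoh (CohB1.tensorPow H t) := InvQc.isCoh_of_isInvertible _ hB
  have hBg : PtGen (CohB1.tensorPow H t) :=
    ptGen_of_iso (TildeTens.tensorModComm _ _ ≪≫
      Groth.Agent.Lib.Helper5.LTenFlf.tensorUnitIso _)
      (ptGen_of_gg (isInvertible_tensorMod GenLoc.isInvertible_O hB)
        (hn₁ t (ht ▸ le_max_right _ _)))
  have hGg : Curv2.IsGloballyGenerated (CohB1.tensorMod F (CohB1.tensorPow H t)) :=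
    hn₀ t (ht ▸ le_max_left _ _)
  have hGc : Coh.IsCoh (CohB1.tensorMod F (CohB1.tensorPow H t)) := isCoh_tensor _ _ hF hBc
  -- multiplication by a section generating at the generic point
  obtain ⟨σ, V, hηV, hV⟩ := hBg (genericPoint X)
  have hbij := stalkL_mulΓ_bijective F (CohB1.tensorPow H t) σ hV (genericPoint X) hηV
  have e1 := hhatF_eq_of_map k X H hH n hn hF hGc (mulΓ F (CohB1.tensorPow H t) σ) hbij L hL i
  have hrank : Module.finrank (X.presheaf.stalk (genericPoint X))
      ((CohB1.tensorMod F (CohB1.tensorPow H t)).presheaf.stalk (genericPoint X)) = r := by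
    rw [← hr]
    exact (LinearEquiv.ofBijective _ hbij).finrank_eq.symm
  -- the generic frame
  obtain ⟨r', τ, hr', hτ⟩ := exists_generic_frame _ hGc hGg
  have hPc : Coh.IsCoh (∐ fun _ : Fin r' => Coh.structureModule X) :=
    isCoh_coprod (Coh.structureModule X) hOc r'
  have e2 := hhatF_eq_of_map k X H hH n hn hPc hGc (Sigma.desc τ) hτ L hL i
  rw [e1, ← e2, hhatF_free k X H hH n hn L hL i r', hr', hrank]

end Rank

end Groth.Agent.Helper1.ThmB
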