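import Mathlib
import Groth.Agent.Lib.Helper1.ThmB9

/-!
# Homogeneity of the asymptotic cohomological functions (helper1)
-/

set_option autoImplicit false
universe u
open CategoryTheory CategoryTheory.Limits AlgebraicGeometry TopologicalSpace Opposite

namespace Groth.Agent.Helper1.ThmB

open Groth.Agent.Helper1 Groth.Agent.Helper1.Euler Groth.Agent.Helper1.Dv
open Groth.Agent.Helper1.FinLen Groth.Agent.Helper1.TwForm Groth.Agent.Helper1.Curve
open Groth.Agent.Helper1.Snap Groth.Agent.Helper1.SnapPos Groth.Agent.Helper1.FGAInt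
open Groth.Agent.Helper1.FGAPos Groth.Agent.Helper1.CurveAmp
open Groth.Agent.Lib.Helper4

section Real

open Filter Topology

/-- the upper limit of a sequence whose restrictions to the residue classes modulo `a` all have
the same upper limit -/
theorem limsup_residues (a : ℕ) (ha : 1 ≤ a) (v : ℕ → ℕ → ℝ) (Λ M : ℝ)
    (hv0 : ∀ q m, 0 ≤ v q m) (hvb : ∀ q, q < a → ∀ᶠ m in atTop, v q m ≤ M)
    (hΛ : ∀ q, q < a → limsup (v q) atTop = Λ) :
    limsup (fun j : ℕ => v (j % a) (j / a)) atTop = Λ := by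
  have hbdq : ∀ q, q < a → IsBoundedUnder (· ≤ ·) atTop (v q) := fun q hq =>
    isBoundedUnder_of_eventually_le (hvb q hq)
  -- a uniform threshold
  have hunif : ∀ (P : ℕ → ℕ → Prop), (∀ q, q < a → ∀ᶠ m in atTop, P q m) →
      ∀ᶠ j : ℕ in atTop, P (j % a) (j / a) := by
    intro P hP
    have hP' : ∀ q : Fin a, ∃ N, ∀ m, N ≤ m → P q m := fun q =>
      eventually_atTop.1 (hP q q.2)
    choose N hN using hP'
    refine eventually_atTop.2 ⟨a * Finset.univ.sup N, fun j hj => ?_⟩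
    have hlt : j % a < a := Nat.mod_lt _ (by omega)
    have h1 : Finset.univ.sup N ≤ j / a := by
      rw [Nat.le_div_iff_mul_le (by omega)]
      rw [mul_comm]
      exact hj
    exact hN ⟨j % a, hlt⟩ (j / a)
      (le_trans (Finset.le_sup (f := N) (Finset.mem_univ (⟨j % a, hlt⟩ : Fin a))) h1)
  have hwb : ∀ᶠ j : ℕ in atTop, v (j % a) (j / a) ≤ M := hunif (fun q m => v q m ≤ M) hvb
  have hwbd : IsBoundedUnder (· ≤ ·) atTop (fun j : ℕ => v (j % a) (j / a)) :=
    isBoundedUnder_of_eventually_le hwb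
  have hwco : IsCoboundedUnder (· ≤ ·) atTop (fun j : ℕ => v (j % a) (j / a)) :=
    isCoboundedUnder_le_of_le (x := 0) atTop (fun j => hv0 _ _)
  apply le_antisymm
  · apply le_of_forall_pos_le_add
    intro ε hε
    refine limsup_le_of_le hwco ?_
    refine hunif (fun q m => v q m ≤ Λ + ε) (fun q hq => ?_)
    have h1 : limsup (v q) atTop < Λ + ε := by
      rw [hΛ q hq]
      linarith
    exact (eventually_lt_of_limsup_lt h1 (hbdq q hq)).mono (fun m hm => hm.le)
  · have h0 : 0 < a := by omega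
    rw [← hΛ 0 h0]
    have htend : Tendsto (fun m : ℕ => a * m) atTop atTop :=
      tendsto_atTop_mono (fun m => Nat.le_mul_of_pos_left m h0) tendsto_id
    have h2 := Tendsto.limsup_comp_le_limsup (u := fun j : ℕ => v (j % a) (j / a)) htend
      (isCoboundedUnder_le_of_le (x := 0) atTop (fun m => hv0 _ _)) hwbd
    have h3 : ((fun j : ℕ => v (j % a) (j / a)) ∘ fun m : ℕ => a * m) = v 0 := by
      funext m
      show v (a * m % a) (a * m / a) = v 0 m
      rw [Nat.mul_mod_right, Nat.mul_div_cancel_left m h0]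
    rw [h3] at h2
    exact h2

/-- the ratio `(m / (q + a m))^n` tends to `a^{-n}` -/
theorem tendsto_ratio (a q n : ℕ) (ha : 1 ≤ a) :
    Tendsto (fun m : ℕ => ((m : ℝ) / ((q : ℝ) + (a : ℝ) * (m : ℝ))) ^ n) atTop
      (𝓝 (((a : ℝ)⁻¹) ^ n)) := by
  have ha0 : (a : ℝ) ≠ 0 := by
    have : (1 : ℝ) ≤ (a : ℝ) := by exact_mod_cast ha
    linarith
  have h1 : Tendsto (fun m : ℕ => (q : ℝ) / (m : ℝ)) atTop (𝓝 0) :=
    tendsto_const_div_atTop_nhds_zero_nat _
  have h2 : Tendsto (fun m : ℕ => (q : ℝ) / (m : ℝ) + (a : ℝ)) atTop (𝓝 (0 + (a : ℝ))) :=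
    h1.add_const _
  rw [zero_add] at h2
  have h3 := (h2.inv₀ ha0).pow n
  refine h3.congr' (eventually_atTop.2 ⟨1, fun m hm => ?_⟩)
  have hm0 : (m : ℝ) ≠ 0 := by
    have : (1 : ℝ) ≤ (m : ℝ) := by exact_mod_cast hm
    linarith
  congr 1
  field_simp


/-- the core of the homogeneity of the asymptotic cohomological functions -/
theorem limsup_pow_core (n a : ℕ) (ha : 1 ≤ a) (h : ℕ → ℕ) (K0 : ℕ)
    (hK0 : ∀ j, h j ≤ K0 * (2 * j + 1) ^ n) (Λ : ℝ)
    (hΛ : ∀ q, q < a →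
      limsup (fun m : ℕ => (h (q + a * m) : ℝ) * (n.factorial : ℝ) / (m : ℝ) ^ n) atTop = Λ) :
    limsup (fun j : ℕ => (h j : ℝ) * (n.factorial : ℝ) / (j : ℝ) ^ n) atTop =
      ((a : ℝ)⁻¹) ^ n * Λ := by
  have hf0 : (0 : ℝ) ≤ (n.factorial : ℝ) := Nat.cast_nonneg _
  have ha0 : (0 : ℝ) < (a : ℝ) := by exact_mod_cast ha
  have hc0 : (0 : ℝ) ≤ ((a : ℝ)⁻¹) ^ n := by positivity
  obtain ⟨u, hu⟩ : ∃ u : ℕ → ℝ,
      u = fun j : ℕ => (h j : ℝ) * (n.factorial : ℝ) / (j : ℝ) ^ n := ⟨_, rfl⟩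
  have hu0 : ∀ j, 0 ≤ u j := fun j => by rw [hu]; positivity
  obtain ⟨M, hM⟩ := seq_bounded n h K0 hK0
  have hMu : ∀ᶠ j in atTop, u j ≤ M := by rw [hu]; exact hM
  have htend : ∀ q, Tendsto (fun m : ℕ => q + a * m) atTop atTop := fun q =>
    tendsto_atTop_mono
      (fun m => le_trans (Nat.le_mul_of_pos_left m (by omega)) (Nat.le_add_left _ _)) tendsto_id
  have hclass : ∀ q, q < a →
      limsup (fun m : ℕ => u (q + a * m)) atTop = ((a : ℝ)⁻¹) ^ n * Λ := by
    intro q hq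
    obtain ⟨w, hw⟩ : ∃ w : ℕ → ℝ,
        w = fun m : ℕ => (h (q + a * m) : ℝ) * (n.factorial : ℝ) / (m : ℝ) ^ n := ⟨_, rfl⟩
    have hw0 : ∀ m, 0 ≤ w m := fun m => by rw [hw]; positivity
    have hxb : ∀ m, h (q + a * m) ≤ (K0 * (q + a) ^ n) * (2 * m + 1) ^ n := by
      intro m
      refine (hK0 _).trans ?_
      rw [mul_assoc, ← mul_pow]
      apply Nat.mul_le_mul_left
      apply Nat.pow_le_pow_left
      have e : (q + a) * (2 * m + 1) = 2 * (q * m) + q + 2 * (a * m) + a := by ring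
      rw [e]
      omega
    obtain ⟨Mw, hMw⟩ := seq_bounded n (fun m => h (q + a * m)) (K0 * (q + a) ^ n) hxb
    have hMw' : ∀ᶠ m in atTop, w m ≤ Mw := by rw [hw]; exact hMw
    have hwbd : IsBoundedUnder (· ≤ ·) atTop w := isBoundedUnder_of_eventually_le hMw'
    have hwco : IsCoboundedUnder (· ≤ ·) atTop w :=
      isCoboundedUnder_le_of_le (x := 0) atTop hw0
    have hΛ' : limsup w atTop = Λ := by rw [hw]; exact hΛ q hq
    rw [← hΛ', ← limsup_const_mul_real hc0 w hwbd hwco]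
    apply limsup_eq_of_tendsto_sub (fun m => hu0 _) (fun m => mul_nonneg hc0 (hw0 m))
      ⟨M, (htend q).eventually hMu⟩
      ⟨((a : ℝ)⁻¹) ^ n * Mw, hMw'.mono (fun m hm => mul_le_mul_of_nonneg_left hm hc0)⟩
    have hct := tendsto_ratio a q n ha
    have hct' : Tendsto (fun m : ℕ => |Mw| *
        |((m : ℝ) / ((q : ℝ) + (a : ℝ) * (m : ℝ))) ^ n - ((a : ℝ)⁻¹) ^ n|) atTop (𝓝 0) := by
      have h1 := ((tendsto_sub_nhds_zero_iff.2 hct).abs).const_mul |Mw|
      simpa using h1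
    refine squeeze_zero_norm' ?_ hct'
    filter_upwards [hMw', eventually_ge_atTop 1] with m hm1 hm2
    have hm0 : (m : ℝ) ≠ 0 := by
      have : (1 : ℝ) ≤ (m : ℝ) := by exact_mod_cast hm2
      linarith
    have hqm : (q : ℝ) + (a : ℝ) * (m : ℝ) ≠ 0 := by
      have h1 : (1 : ℝ) ≤ (m : ℝ) := by exact_mod_cast hm2
      have h2 : (0 : ℝ) ≤ (q : ℝ) := Nat.cast_nonneg _
      have h3 : (0 : ℝ) < (a : ℝ) * (m : ℝ) := by positivity
      linarith
    have hkey : u (q + a * m) =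
        w m * ((m : ℝ) / ((q : ℝ) + (a : ℝ) * (m : ℝ))) ^ n := by
      rw [hu, hw]
      show (h (q + a * m) : ℝ) * (n.factorial : ℝ) / ((q + a * m : ℕ) : ℝ) ^ n =
        (h (q + a * m) : ℝ) * (n.factorial : ℝ) / (m : ℝ) ^ n *
          ((m : ℝ) / ((q : ℝ) + (a : ℝ) * (m : ℝ))) ^ n
      rw [div_pow]
      push_cast
      field_simp
    have heq : u (q + a * m) - ((a : ℝ)⁻¹) ^ n * w m =
        w m * (((m : ℝ) / ((q : ℝ) + (a : ℝ) * (m : ℝ))) ^ n - ((a : ℝ)⁻¹) ^ n) := by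
      rw [hkey]
      ring
    rw [heq, Real.norm_eq_abs, abs_mul]
    apply mul_le_mul_of_nonneg_right _ (abs_nonneg _)
    rw [abs_of_nonneg (hw0 m)]
    exact hm1.trans (le_abs_self _)
  have hres := limsup_residues a ha (fun q m => u (q + a * m)) (((a : ℝ)⁻¹) ^ n * Λ) M
    (fun q m => hu0 _) (fun q _ => (htend q).eventually hMu) hclass
  have hfun : (fun j : ℕ => (fun q m => u (q + a * m)) (j % a) (j / a)) = u := by
    funext j
    show u (j % a + a * (j / a)) = u j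
    rw [Nat.mod_add_div]
  rw [hfun] at hres
  rw [← hu]
  exact hres

end Real

section Pow

variable (k : Type u) [Field k] (X : Scheme.{u}) [X.Over (Spec (CommRingCat.of k))]
  [IsProper (X ↘ (Spec (CommRingCat.of k)))] [IsIntegral X]

/-- `h^i(L^q ⊗ (L^a)^m) = h^i(L^(q + a m))` -/
theorem hh_pow_class {L : X.Modules} (hL : PicF.IsInvertible L) (a q i m : ℕ) :
    Module.finrank k (Coh.HH X (CohB1.tensorMod (CohB1.tensorPow L q)
      (CohB1.tensorPow (CohB1.tensorPow L a) m)) i) =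
    Module.finrank k (Coh.HH X (CohB1.tensorPow L (q + a * m)) i) :=
  (HHFin1.HHequiv k (Groth.Agent.Lead.TilT.tensorModCongr (Iso.refl _) (Big.powPowIso hL a m) ≪≫
    Big.powAddIso hL q (a * m)) i).finrank_eq

/-- **homogeneity of the asymptotic cohomological functions**: `ĥ^i(L^a) = a^n ĥ^i(L)` -/
theorem hhat_pow (H : X.Modules) (hH : CohB1.IsAmple H) (n : ℕ)
    (hn : topologicalKrullDim X = n) (L : X.Modules) (hL : PicF.IsInvertible L) (a : ℕ)
    (ha : 1 ≤ a) (i : ℕ) :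
    W4c5asymptcohfn.hhat k X n i (CohB1.tensorPow L a) =
      (a : ℝ) ^ n * W4c5asymptcohfn.hhat k X n i L := by
  haveI : AlgebraicGeometry.IsNoetherian X := isNoetherian_of_proper k X
  have hOc := isCoh_structureModule X
  have ha0 : (0 : ℝ) < (a : ℝ) := by exact_mod_cast ha
  have hdX : topologicalKrullDim ↥(CohB1.support (Coh.structureModule X)) ≤
      ((n : ℕ) : WithBot ℕ∞) :=
    (Topology.IsInducing.subtypeVal.topologicalKrullDim_le).trans hn.le
  obtain ⟨K0, hK0⟩ := twist_bound k X H hH n L hL (Coh.structureModule X) hOc hdX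
  have hLa : PicF.IsInvertible (CohB1.tensorPow L a) := isInvertible_tensorPow hL a
  have hclass : ∀ q, q < a → Filter.limsup (fun m : ℕ =>
      ((Module.finrank k (Coh.HH X (CohB1.tensorPow L (q + a * m)) i) : ℕ) : ℝ) *
        (n.factorial : ℝ) / (m : ℝ) ^ n) Filter.atTop =
      W4c5asymptcohfn.hhat k X n i (CohB1.tensorPow L a) := by
    intro q _
    have hLq : PicF.IsInvertible (CohB1.tensorPow L q) := isInvertible_tensorPow hL q
    have hr : Module.finrank (X.presheaf.stalk (genericPoint X))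
        ((CohB1.tensorPow L q).presheaf.stalk (genericPoint X)) = 1 :=
      finrank_stalk_of_rank (isFinLocFreeOfRank_one hLq) _
    have e := hhatF_eq_rank_mul k X H hH n hn (CohB1.tensorPow L q)
      (InvQc.isCoh_of_isInvertible _ hLq) 1 hr (CohB1.tensorPow L a) hLa i
    rw [Nat.cast_one, one_mul] at e
    rw [← e]
    unfold W4c5asymptcohfn.hhatF
    congr 1
    funext m
    unfold W4c5asymptcohfn.cohSeq
    rw [hh_pow_class k X hL a q i m]
  have hmain := limsup_pow_core n a ha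
    (fun j => Module.finrank k (Coh.HH X (CohB1.tensorPow L j) i)) K0
    (fun j => le_of_eq_of_le (hh_structure k X L i j).symm (hK0 i j)) _ hclass
  have hL' : W4c5asymptcohfn.hhat k X n i L =
      ((a : ℝ)⁻¹) ^ n * W4c5asymptcohfn.hhat k X n i (CohB1.tensorPow L a) := hmain
  rw [hL', ← mul_assoc, ← mul_pow, mul_inv_cancel₀ (ne_of_gt ha0), one_pow, one_mul]

end Pow

end Groth.Agent.Helper1.ThmB
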