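import Mathlib
import Groth.Agent.Lib.Helper1.ThmB10

/-!
# Growth of the asymptotic cohomological functions on the lattice spanned by finitely many
invertible modules (helper1)
-/

set_option autoImplicit false
universe u
open CategoryTheory CategoryTheory.Limits AlgebraicGeometry TopologicalSpace Opposite

namespace Groth.Agent.Helper1.ThmB

open Groth.Agent.Helper1 Groth.Agent.Helper1.Euler Groth.Agent.Helper1.Dv
open Groth.Agent.Helper1.FinLen Groth.Agent.Helper1.TwForm Groth.Agent.Helper1.Curve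
open Groth.Agent.Helper1.Snap Groth.Agent.Helper1.SnapPos Groth.Agent.Helper1.FGAInt
open Groth.Agent.Helper1.FGAPos Groth.Agent.Helper1.CurveAmp
open Groth.Agent.Lib.Helper4

section Real

open Filter Topology

theorem limsup_le_of_poly (n : ℕ) (x : ℕ → ℕ) (C s : ℕ)
    (hx : ∀ m, x m ≤ C * (m * s + 1) ^ n) :
    limsup (fun m : ℕ => (x m : ℝ) * (n.factorial : ℝ) / (m : ℝ) ^ n) atTop ≤
      (C : ℝ) * (n.factorial : ℝ) * (s : ℝ) ^ n := by
  have hf0 : (0 : ℝ) ≤ (n.factorial : ℝ) := Nat.cast_nonneg _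
  have hco : IsCoboundedUnder (· ≤ ·) atTop
      (fun m : ℕ => (x m : ℝ) * (n.factorial : ℝ) / (m : ℝ) ^ n) :=
    isCoboundedUnder_le_of_le (x := 0) atTop (fun m => by positivity)
  have hv : Tendsto (fun m : ℕ => (C : ℝ) * (n.factorial : ℝ) *
      ((s : ℝ) + 1 / (m : ℝ)) ^ n) atTop (𝓝 ((C : ℝ) * (n.factorial : ℝ) * (s : ℝ) ^ n)) := by
    have h1 : Tendsto (fun m : ℕ => (1 : ℝ) / (m : ℝ)) atTop (𝓝 0) :=
      tendsto_const_div_atTop_nhds_zero_nat 1
    have h2 := (h1.const_add (s : ℝ)).pow n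
    rw [add_zero] at h2
    exact h2.const_mul _
  apply le_of_forall_pos_le_add
  intro ε hε
  refine limsup_le_of_le hco ?_
  have hev := hv.eventually (gt_mem_nhds (show (C : ℝ) * (n.factorial : ℝ) * (s : ℝ) ^ n <
    (C : ℝ) * (n.factorial : ℝ) * (s : ℝ) ^ n + ε by linarith))
  filter_upwards [hev, eventually_ge_atTop 1] with m hm1 hm2
  refine le_trans ?_ hm1.le
  have hm0 : (0 : ℝ) < (m : ℝ) := by exact_mod_cast hm2
  have hx' : (x m : ℝ) ≤ (C : ℝ) * ((m : ℝ) * (s : ℝ) + 1) ^ n := by exact_mod_cast hx m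
  rw [div_le_iff₀ (pow_pos hm0 n)]
  have hkey : ((s : ℝ) + 1 / (m : ℝ)) * (m : ℝ) = (m : ℝ) * (s : ℝ) + 1 := by
    field_simp
  calc (x m : ℝ) * (n.factorial : ℝ)
      ≤ (C : ℝ) * ((m : ℝ) * (s : ℝ) + 1) ^ n * (n.factorial : ℝ) :=
        mul_le_mul_of_nonneg_right hx' hf0
    _ = (C : ℝ) * (n.factorial : ℝ) * ((s : ℝ) + 1 / (m : ℝ)) ^ n * (m : ℝ) ^ n := by
        rw [mul_assoc ((C : ℝ) * (n.factorial : ℝ)), ← mul_pow, hkey]
        ring

end Real

section ReachOps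

variable {X : Scheme.{u}}

/-- `E ⊗ O ≅ E` -/
noncomputable def unitR (E : X.Modules) : CohB1.tensorMod E (Coh.structureModule X) ≅ E :=
  Groth.Agent.Lib.Helper5.LTenFlf.tensorUnitIso E

/-- `O ⊗ E ≅ E` -/
noncomputable def unitL (E : X.Modules) : CohB1.tensorMod (Coh.structureModule X) E ≅ E :=
  TildeTens.tensorModComm (Coh.structureModule X) E ≪≫ unitR E

/-- tensor products of reachable modules are reachable -/
theorem Reach.tensor {s : ℕ} {N : Fin s → X.Modules} (hN : ∀ j, PicF.IsInvertible (N j))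
    {n : ℕ} {E : X.Modules} (h : Reach N n E) {n' : ℕ} {E' : X.Modules} (h' : Reach N n' E') :
    Reach N (n + n') (CohB1.tensorMod E E') := by
  induction h' with
  | zero E' e =>
    obtain ⟨e⟩ := e
    exact h.of_iso (Groth.Agent.Lead.TilT.tensorModCongr (Iso.refl E) e ≪≫ unitR E)
  | up n' E₀ E' j h₀ e ih =>
    obtain ⟨e⟩ := e
    have hE₀ := h₀.isInvertible hN
    exact Reach.up (n + n') _ _ j ih
      ⟨Groth.Agent.Lead.TilT.tensorModCongr (Iso.refl E) e ≪≫
        (GenusOne.assocIso E hE₀ (hN j)).symm⟩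
  | down n' E₀ E' j h₀ e ih =>
    obtain ⟨e⟩ := e
    have hE' := isInvertible_of_tensor_iso (hN j) (h₀.isInvertible hN) e
    exact Reach.down (n + n') _ _ j ih
      ⟨GenusOne.assocIso E hE' (hN j) ≪≫ Groth.Agent.Lead.TilT.tensorModCongr (Iso.refl E) e⟩

/-- tensor powers of reachable modules are reachable -/
theorem Reach.pow {s : ℕ} {N : Fin s → X.Modules} (hN : ∀ j, PicF.IsInvertible (N j))
    {n : ℕ} {E : X.Modules} (h : Reach N n E) :
    ∀ m : ℕ, Reach N (m * n) (CohB1.tensorPow E m)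
  | 0 => by
    rw [Nat.zero_mul]
    exact Reach.zero _ ⟨Iso.refl _⟩
  | m + 1 => by
    rw [Nat.succ_mul]
    exact (Reach.pow hN h m).tensor hN h

/-- iterated tensor products of powers of modules reachable in `c` steps -/
theorem reach_multi {s : ℕ} {N : Fin s → X.Modules} (hN : ∀ j, PicF.IsInvertible (N j))
    {r : ℕ} (E : Fin r → X.Modules) (c : ℕ) (hE : ∀ j, Reach N c (E j)) (p : Fin r → ℕ) :
    ∀ l : List (Fin r), Reach N ((l.map fun i => p i * c).sum)
      (FGA.tensorList (l.map fun i => CohB1.tensorPow (E i) (p i)))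
  | [] => Reach.zero _ ⟨Iso.refl _⟩
  | i :: l => by
    simp only [List.map_cons, List.sum_cons, FGA.tensorList]
    exact ((hE i).pow hN (p i)).tensor hN (reach_multi hN E c hE p l)

theorem reach_multiTwist {s : ℕ} {N : Fin s → X.Modules} (hN : ∀ j, PicF.IsInvertible (N j))
    {r : ℕ} (E : Fin r → X.Modules) (c : ℕ) (hE : ∀ j, Reach N c (E j)) (p : Fin r → ℕ) :
    Reach N (∑ i, p i * c) (FGA.multiTwist E p) := by
  rw [Fin.sum_univ_def]
  exact reach_multi hN E c hE p (List.finRange r)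

/-- `L_j` is reachable in two steps -/
theorem reach_gen {r : ℕ} (Lb : Fin r → X.Modules) (B : X.Modules) (j : Fin r) :
    Reach (gens Lb B) 2 (Lb j) := by
  have h1 : Reach (gens Lb B) 1 (CohB1.tensorMod (Lb j) B) :=
    Reach.up 0 (Coh.structureModule X) _ j.succ (Reach.zero _ ⟨Iso.refl _⟩)
      ⟨(unitL (CohB1.tensorMod (Lb j) B)).symm⟩
  exact Reach.down 1 _ (Lb j) 0 h1 ⟨Iso.refl _⟩

/-- an inverse of `L_j` is reachable in two steps -/
theorem reach_gen_inv {r : ℕ} (Lb : Fin r → X.Modules) (hLb : ∀ j, PicF.IsInvertible (Lb j))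
    (B : X.Modules) (hB : PicF.IsInvertible B) (j : Fin r) (M : X.Modules)
    (hM : ClSub.IsInverseOf (Lb j) M) : Reach (gens Lb B) 2 M := by
  obtain ⟨e⟩ := hM
  have h1 : Reach (gens Lb B) 1 B :=
    Reach.up 0 (Coh.structureModule X) _ 0 (Reach.zero _ ⟨Iso.refl _⟩)
      ⟨(unitL B).symm⟩
  have i1 : CohB1.tensorMod M (gens Lb B j.succ) ≅ B :=
    (GenusOne.assocIso M (hLb j) hB).symm ≪≫
      Groth.Agent.Lead.TilT.tensorModCongr (TildeTens.tensorModComm M (Lb j) ≪≫ e) (Iso.refl B) ≪≫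
      unitL B
  exact Reach.down 1 B M j.succ h1 ⟨i1⟩

/-- the module `L^a`, `a` an integer vector, is reachable in `2 |a|` steps -/
theorem reach_ztwist {r : ℕ} (L M : Fin r → X.Modules) (hL : ∀ j, PicF.IsInvertible (L j))
    (hM : ∀ j, ClSub.IsInverseOf (L j) (M j)) (B : X.Modules) (hB : PicF.IsInvertible B)
    (hNi : ∀ j, PicF.IsInvertible (gens L B j)) (a : Fin r → ℤ) :
    Reach (gens L B) (2 * ∑ j, (a j).natAbs) (W4c5asymptcohfn.ztwist X L M a) := by
  have h1 := reach_multiTwist hNi L 2 (fun j => reach_gen L B j) (fun j => (a j).toNat)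
  have h2 := reach_multiTwist hNi M 2 (fun j => reach_gen_inv L hL B hB j (M j) (hM j))
    (fun j => (-(a j)).toNat)
  have h3 := h1.tensor hNi h2
  have e : (∑ j, (a j).toNat * 2) + (∑ j, (-(a j)).toNat * 2) = 2 * ∑ j, (a j).natAbs := by
    rw [← Finset.sum_add_distrib, Finset.mul_sum]
    apply Finset.sum_congr rfl
    intro j _
    omega
  rw [e] at h3
  exact h3

end ReachOps

section Growth

variable (k : Type u) [Field k] (X : Scheme.{u}) [X.Over (Spec (CommRingCat.of k))]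
  [IsProper (X ↘ (Spec (CommRingCat.of k)))]

/-- **growth of the asymptotic cohomological functions**: `ĥ^i(L^a) ≤ C ‖a‖^n` -/
theorem hhat_ztwist_le (H : X.Modules) (hH : CohB1.IsAmple H) (n : ℕ)
    (hn : topologicalKrullDim X ≤ ((n : ℕ) : WithBot ℕ∞))
    (r : ℕ) (L M : Fin r → X.Modules) (hL : ∀ j, PicF.IsInvertible (L j))
    (hM : ∀ j, ClSub.IsInverseOf (L j) (M j)) (i : ℕ) :
    ∃ C : ℝ, ∀ a : Fin r → ℤ,
      W4c5asymptcohfn.hhat k X n i (W4c5asymptcohfn.ztwist X L M a) ≤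
        C * ‖(fun j => ((a j : ℤ) : ℝ))‖ ^ n := by
  haveI : AlgebraicGeometry.IsNoetherian X := isNoetherian_of_proper k X
  have hOc := isCoh_structureModule X
  have hdX : topologicalKrullDim ↥(CohB1.support (Coh.structureModule X)) ≤
      ((n : ℕ) : WithBot ℕ∞) :=
    (Topology.IsInducing.subtypeVal.topologicalKrullDim_le).trans hn
  obtain ⟨B, hB, hNi, hNg⟩ := exists_gens H hH L hL
  obtain ⟨C, hC⟩ := exists_uniform k X _ hNi hNg n (Coh.structureModule X) hOc hdX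
  refine ⟨(C : ℝ) * (n.factorial : ℝ) * (2 * (r : ℝ)) ^ n, fun a => ?_⟩
  obtain ⟨s, hs⟩ : ∃ s : ℕ, s = ∑ j, (a j).natAbs := ⟨_, rfl⟩
  have hR : Reach (gens L B) (2 * s) (W4c5asymptcohfn.ztwist X L M a) := by
    rw [hs]
    exact reach_ztwist L M hL hM B hB hNi a
  have hbound : ∀ m, Module.finrank k
      (Coh.HH X (CohB1.tensorPow (W4c5asymptcohfn.ztwist X L M a) m) i) ≤
      C * (m * (2 * s) + 1) ^ n := by
    intro m
    have h1 := hC i _ _ (hR.pow hNi m)
    exact le_of_eq_of_le (HHFin1.HHequiv k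
      (unitR (CohB1.tensorPow (W4c5asymptcohfn.ztwist X L M a) m)) i).finrank_eq.symm h1
  have h2 := limsup_le_of_poly n _ C (2 * s) hbound
  unfold W4c5asymptcohfn.hhat
  refine h2.trans ?_
  have hsle : ((2 * s : ℕ) : ℝ) ≤ 2 * (r : ℝ) * ‖(fun j => ((a j : ℤ) : ℝ))‖ := by
    have h3 : (s : ℝ) ≤ (r : ℝ) * ‖(fun j => ((a j : ℤ) : ℝ))‖ := by
      rw [hs]
      push_cast
      calc ∑ j : Fin r, (((a j).natAbs : ℕ) : ℝ)
          ≤ ∑ _j : Fin r, ‖(fun j => ((a j : ℤ) : ℝ))‖ := by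
            apply Finset.sum_le_sum
            intro j _
            have := norm_le_pi_norm (fun j => ((a j : ℤ) : ℝ)) j
            rw [Real.norm_eq_abs] at this
            rw [Nat.cast_natAbs, Int.cast_abs]
            exact this
        _ = (r : ℝ) * ‖(fun j => ((a j : ℤ) : ℝ))‖ := by
            rw [Finset.sum_const, Finset.card_univ, Fintype.card_fin, nsmul_eq_mul]
    push_cast
    linarith
  have hpow : ((2 * s : ℕ) : ℝ) ^ n ≤ (2 * (r : ℝ) * ‖(fun j => ((a j : ℤ) : ℝ))‖) ^ n :=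
    pow_le_pow_left₀ (Nat.cast_nonneg _) hsle n
  rw [mul_pow] at hpow
  calc (C : ℝ) * (n.factorial : ℝ) * ((2 * s : ℕ) : ℝ) ^ n
      ≤ (C : ℝ) * (n.factorial : ℝ) *
        ((2 * (r : ℝ)) ^ n * ‖(fun j => ((a j : ℤ) : ℝ))‖ ^ n) :=
        mul_le_mul_of_nonneg_left hpow (by positivity)
    _ = (C : ℝ) * (n.factorial : ℝ) * (2 * (r : ℝ)) ^ n *
        ‖(fun j => ((a j : ℤ) : ℝ))‖ ^ n := by ring

end Growth

end Groth.Agent.Helper1.ThmB
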