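import Mathlib
import Groth.Agent.Lib.Helper1.ThmB11

/-!
# A Lipschitz-type estimate for the asymptotic cohomological functions (helper1)

Tensoring a reachable invertible module with one of the generating modules changes the
dimensions of the cohomology groups by a term of lower order; this yields the estimate
`|ĥ^i(E ⊗ D) - ĥ^i(E)| ≤ d C n n! (c + d)^(n-1)` for `E` reachable in `c` steps and `D` reachable
in `d` steps.
-/

set_option autoImplicit false
universe u
open CategoryTheory CategoryTheory.Limits AlgebraicGeometry TopologicalSpace Opposite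

namespace Groth.Agent.Helper1.ThmB

open Groth.Agent.Helper1.QcCech Groth.Agent.Helper1.SubSh Groth.Agent.Helper1.LGen
open Groth.Agent.Helper1.TmulLib Groth.Agent.Helper1 Groth.Agent.Helper1.TwForm
open Groth.Agent.Helper1.TensGen Groth.Agent.Lib.Helper4.TwExact Groth.Agent.Helper1.Dv
open Groth.Agent.Lib.Helper4 Groth.Agent.Helper1.CurveAmp Groth.Agent.Helper1.FinSupp
open Groth.Agent.Lib.Helper5.StalkAdj Groth.Agent.Helper1.Euler

section Real

open Filter Topology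

theorem limsup_le_add_const {u v : ℕ → ℝ} (hu0 : ∀ m, 0 ≤ u m) (hv0 : ∀ m, 0 ≤ v m)
    (hvb : ∃ M, ∀ᶠ m in atTop, v m ≤ M) (W : ℝ)
    (h : ∀ ε : ℝ, 0 < ε → ∀ᶠ m in atTop, u m ≤ v m + W + ε) :
    limsup u atTop ≤ limsup v atTop + W := by
  obtain ⟨M, hM⟩ := hvb
  have hvbd : IsBoundedUnder (· ≤ ·) atTop v := isBoundedUnder_of_eventually_le hM
  have hvco : IsCoboundedUnder (· ≤ ·) atTop v := isCoboundedUnder_le_of_le (x := 0) atTop hv0
  apply le_of_forall_pos_le_add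
  intro ε hε
  have hev : ∀ᶠ m in atTop, u m ≤ (W + ε) + v m := by
    filter_upwards [h ε hε] with m hm
    linarith
  have hbd2 : IsBoundedUnder (· ≤ ·) atTop (fun m => (W + ε) + v m) := by
    apply isBoundedUnder_of_eventually_le (a := (W + ε) + M)
    filter_upwards [hM] with m hm
    linarith
  calc limsup u atTop ≤ limsup (fun m => (W + ε) + v m) atTop :=
        limsup_le_limsup hev (isCoboundedUnder_le_of_le (x := 0) atTop hu0) hbd2
    _ = (W + ε) + limsup v atTop := limsup_const_add atTop v (W + ε) hvbd hvco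
    _ = limsup v atTop + W + ε := by ring

theorem limsup_le_add_of_poly (n : ℕ) (x y : ℕ → ℕ) (K s K' s' : ℕ)
    (hx : ∀ m, x m ≤ y m + K * n * (m * (m * s + 1) ^ (n - 1)))
    (hy : ∀ m, y m ≤ K' * (m * s' + 1) ^ n) :
    limsup (fun m : ℕ => (x m : ℝ) * (n.factorial : ℝ) / (m : ℝ) ^ n) atTop ≤
      limsup (fun m : ℕ => (y m : ℝ) * (n.factorial : ℝ) / (m : ℝ) ^ n) atTop +
        (K : ℝ) * (n : ℝ) * (n.factorial : ℝ) * (s : ℝ) ^ (n - 1) := by
  have hf0 : (0 : ℝ) ≤ (n.factorial : ℝ) := Nat.cast_nonneg _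
  apply limsup_le_add_const (fun m => by positivity) (fun m => by positivity)
  · refine ⟨(K' : ℝ) * (n.factorial : ℝ) * ((s' : ℝ) + 1) ^ n,
      eventually_atTop.2 ⟨1, fun m hm => ?_⟩⟩
    have hm1 : (1 : ℝ) ≤ (m : ℝ) := by exact_mod_cast hm
    have hm0 : (0 : ℝ) < (m : ℝ) ^ n := pow_pos (by linarith) n
    rw [div_le_iff₀ hm0]
    have hy' : (y m : ℝ) ≤ (K' : ℝ) * ((m : ℝ) * (s' : ℝ) + 1) ^ n := by exact_mod_cast hy m
    have hs0 : (0 : ℝ) ≤ (s' : ℝ) := Nat.cast_nonneg _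
    have h1 : ((m : ℝ) * (s' : ℝ) + 1) ^ n ≤ (((s' : ℝ) + 1) * (m : ℝ)) ^ n := by
      apply pow_le_pow_left₀ (by positivity)
      nlinarith
    calc (y m : ℝ) * (n.factorial : ℝ)
        ≤ ((K' : ℝ) * ((m : ℝ) * (s' : ℝ) + 1) ^ n) * (n.factorial : ℝ) :=
          mul_le_mul_of_nonneg_right hy' hf0
      _ ≤ ((K' : ℝ) * (((s' : ℝ) + 1) * (m : ℝ)) ^ n) * (n.factorial : ℝ) :=
          mul_le_mul_of_nonneg_right (mul_le_mul_of_nonneg_left h1 (Nat.cast_nonneg _)) hf0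
      _ = (K' : ℝ) * (n.factorial : ℝ) * ((s' : ℝ) + 1) ^ n * (m : ℝ) ^ n := by
          rw [mul_pow]; ring
  · intro ε hε
    have hv : Tendsto (fun m : ℕ => (K : ℝ) * (n : ℝ) * (n.factorial : ℝ) *
        ((s : ℝ) + 1 / (m : ℝ)) ^ (n - 1)) atTop
        (𝓝 ((K : ℝ) * (n : ℝ) * (n.factorial : ℝ) * (s : ℝ) ^ (n - 1))) := by
      have h1 : Tendsto (fun m : ℕ => (1 : ℝ) / (m : ℝ)) atTop (𝓝 0) :=
        tendsto_const_div_atTop_nhds_zero_nat 1
      have h2 := (h1.const_add (s : ℝ)).pow (n - 1)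
      rw [add_zero] at h2
      exact h2.const_mul _
    have hev := hv.eventually (gt_mem_nhds
      (show (K : ℝ) * (n : ℝ) * (n.factorial : ℝ) * (s : ℝ) ^ (n - 1) <
        (K : ℝ) * (n : ℝ) * (n.factorial : ℝ) * (s : ℝ) ^ (n - 1) + ε by linarith))
    filter_upwards [hev, eventually_ge_atTop 1] with m hm1 hm2
    have hm0 : (0 : ℝ) < (m : ℝ) := by exact_mod_cast hm2
    have hmn : (0 : ℝ) < (m : ℝ) ^ n := pow_pos hm0 n
    have hx' : (x m : ℝ) ≤ (y m : ℝ) +
        (K : ℝ) * (n : ℝ) * ((m : ℝ) * ((m : ℝ) * (s : ℝ) + 1) ^ (n - 1)) := by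
      exact_mod_cast hx m
    have hw : (K : ℝ) * (n : ℝ) * ((m : ℝ) * ((m : ℝ) * (s : ℝ) + 1) ^ (n - 1)) *
        (n.factorial : ℝ) / (m : ℝ) ^ n =
        (K : ℝ) * (n : ℝ) * (n.factorial : ℝ) * ((s : ℝ) + 1 / (m : ℝ)) ^ (n - 1) := by
      rcases n with _ | n'
      · simp
      · have hkey : ((s : ℝ) + 1 / (m : ℝ)) * (m : ℝ) = (m : ℝ) * (s : ℝ) + 1 := by
          field_simp
        rw [Nat.add_sub_cancel, div_eq_iff (ne_of_gt (pow_pos hm0 _)), ← hkey, mul_pow, pow_succ]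
        ring
    calc (x m : ℝ) * (n.factorial : ℝ) / (m : ℝ) ^ n
        ≤ ((y m : ℝ) + (K : ℝ) * (n : ℝ) * ((m : ℝ) * ((m : ℝ) * (s : ℝ) + 1) ^ (n - 1))) *
            (n.factorial : ℝ) / (m : ℝ) ^ n := by
          apply div_le_div_of_nonneg_right _ hmn.le
          exact mul_le_mul_of_nonneg_right hx' hf0
      _ = (y m : ℝ) * (n.factorial : ℝ) / (m : ℝ) ^ n +
            (K : ℝ) * (n : ℝ) * ((m : ℝ) * ((m : ℝ) * (s : ℝ) + 1) ^ (n - 1)) *
              (n.factorial : ℝ) / (m : ℝ) ^ n := by ring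
      _ = (y m : ℝ) * (n.factorial : ℝ) / (m : ℝ) ^ n +
            (K : ℝ) * (n : ℝ) * (n.factorial : ℝ) * ((s : ℝ) + 1 / (m : ℝ)) ^ (n - 1) := by
          rw [hw]
      _ ≤ _ := by linarith

theorem key_arith (n p : ℕ) (hp : 1 ≤ p) :
    (n : ℝ) * ((p * 2 + 2 : ℕ) : ℝ) ^ (n - 1) * (p : ℝ) ≤
      (n : ℝ) * (4 : ℝ) ^ (n - 1) * (p : ℝ) ^ n := by
  have hp1 : (1 : ℝ) ≤ (p : ℝ) := by exact_mod_cast hp
  have hp0 : (0 : ℝ) < (p : ℝ) := by linarith
  rcases n with _ | n'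
  · simp
  · rw [Nat.add_sub_cancel]
    have h4 : ((p * 2 + 2 : ℕ) : ℝ) ≤ 4 * (p : ℝ) := by push_cast; linarith
    have h5 : ((p * 2 + 2 : ℕ) : ℝ) ^ n' ≤ (4 : ℝ) ^ n' * (p : ℝ) ^ n' := by
      rw [← mul_pow]; exact pow_le_pow_left₀ (Nat.cast_nonneg _) h4 n'
    calc ((n' + 1 : ℕ) : ℝ) * ((p * 2 + 2 : ℕ) : ℝ) ^ n' * (p : ℝ)
        ≤ ((n' + 1 : ℕ) : ℝ) * ((4 : ℝ) ^ n' * (p : ℝ) ^ n') * (p : ℝ) :=
          mul_le_mul_of_nonneg_right (mul_le_mul_of_nonneg_left h5 (Nat.cast_nonneg _)) hp0.le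
      _ = ((n' + 1 : ℕ) : ℝ) * (4 : ℝ) ^ n' * (p : ℝ) ^ (n' + 1) := by ring

end Real

section Iso

variable {X : Scheme.{u}}

/-- `(A ⊗ B)^m ≅ A^m ⊗ B^m` -/
noncomputable def tensorPowMulIso {A B : X.Modules} (hA : PicF.IsInvertible A)
    (hB : PicF.IsInvertible B) (m : ℕ) :
    CohB1.tensorPow (CohB1.tensorMod A B) m ≅
      CohB1.tensorMod (CohB1.tensorPow A m) (CohB1.tensorPow B m) :=
  Tw.iso ((((Tw.fst A B).tensorR (Tw.snd A B)).pow m).cast (d₁' := (m : ℤ)) (d₂' := (m : ℤ))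
      (by ring) (by ring))
    ((((Tw.fst A B).pow m).tensorR ((Tw.snd A B).pow m)).cast (d₁' := (m : ℤ)) (d₂' := (m : ℤ))
      (by ring) (by ring))
    (locFrame_of_isInvertible hA hB)

end Iso

section Path

variable (k : Type u) [Field k] (X : Scheme.{u}) [X.Over (Spec (CommRingCat.of k))]
  [IsProper (X ↘ (Spec (CommRingCat.of k)))]

/-- from the one-step estimate to the estimate along a path -/
theorem path_bound {s : ℕ} (N : Fin s → X.Modules) (hN : ∀ j, PicF.IsInvertible (N j))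
    (n C : ℕ)
    (hC : ∀ (i c : ℕ) (E : X.Modules) (l : Fin s), Reach N c E →
      Module.finrank k (Coh.HH X (CohB1.tensorMod E (N l)) i) ≤
          Module.finrank k (Coh.HH X E i) + C * (n * (c + 1) ^ (n - 1)) ∧
        Module.finrank k (Coh.HH X E i) ≤
          Module.finrank k (Coh.HH X (CohB1.tensorMod E (N l)) i) +
            C * (n * (c + 1) ^ (n - 1)))
    (i : ℕ) {d : ℕ} {D : X.Modules} (hD : Reach N d D) :
    ∀ (c : ℕ) (E : X.Modules), Reach N c E →
      Module.finrank k (Coh.HH X (CohB1.tensorMod E D) i) ≤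
          Module.finrank k (Coh.HH X E i) + d * (C * (n * (c + d + 1) ^ (n - 1))) ∧
        Module.finrank k (Coh.HH X E i) ≤
          Module.finrank k (Coh.HH X (CohB1.tensorMod E D) i) +
            d * (C * (n * (c + d + 1) ^ (n - 1))) := by
  induction hD with
  | zero D e =>
    intro c E hE
    obtain ⟨e⟩ := e
    have e1 := (HHFin1.HHequiv k
      (Groth.Agent.Lead.TilT.tensorModCongr (Iso.refl E) e ≪≫ unitR E) i).finrank_eq
    rw [e1]
    constructor <;> omega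
  | up d D₀ D' j h₀ e ih =>
    intro c E hE
    obtain ⟨e⟩ := e
    have hD₀ := h₀.isInvertible hN
    have i1 : CohB1.tensorMod E D' ≅ CohB1.tensorMod (CohB1.tensorMod E D₀) (N j) :=
      Groth.Agent.Lead.TilT.tensorModCongr (Iso.refl E) e ≪≫
        (GenusOne.assocIso E hD₀ (hN j)).symm
    have e1 := (HHFin1.HHequiv k i1 i).finrank_eq
    have hF : Reach N (c + d) (CohB1.tensorMod E D₀) := hE.tensor hN h₀
    obtain ⟨a1, a2⟩ := hC i (c + d) _ j hF
    obtain ⟨b1, b2⟩ := ih c E hE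
    have hPP : C * (n * (c + d + 1) ^ (n - 1)) ≤ C * (n * (c + (d + 1) + 1) ^ (n - 1)) :=
      Nat.mul_le_mul_left C (Nat.mul_le_mul_left n (Nat.pow_le_pow_left (by omega) (n - 1)))
    have hdP := Nat.mul_le_mul_left d hPP
    rw [e1, Nat.succ_mul]
    constructor <;> omega
  | down d D₀ D' j h₀ e ih =>
    intro c E hE
    obtain ⟨e⟩ := e
    have hD' : Reach N (d + 1) D' := Reach.down d D₀ D' j h₀ ⟨e⟩
    have hD'i := hD'.isInvertible hN
    have i1 : CohB1.tensorMod (CohB1.tensorMod E D') (N j) ≅ CohB1.tensorMod E D₀ :=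
      GenusOne.assocIso E hD'i (hN j) ≪≫ Groth.Agent.Lead.TilT.tensorModCongr (Iso.refl E) e
    have e1 := (HHFin1.HHequiv k i1 i).finrank_eq
    have hF : Reach N (c + (d + 1)) (CohB1.tensorMod E D') := hE.tensor hN hD'
    obtain ⟨a1, a2⟩ := hC i (c + (d + 1)) _ j hF
    obtain ⟨b1, b2⟩ := ih c E hE
    have hPP : C * (n * (c + d + 1) ^ (n - 1)) ≤ C * (n * (c + (d + 1) + 1) ^ (n - 1)) :=
      Nat.mul_le_mul_left C (Nat.mul_le_mul_left n (Nat.pow_le_pow_left (by omega) (n - 1)))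
    have hdP := Nat.mul_le_mul_left d hPP
    rw [e1] at a1 a2
    rw [Nat.succ_mul]
    constructor <;> omega

end Path

section Step

variable (k : Type u) [Field k] (X : Scheme.{u}) [X.Over (Spec (CommRingCat.of k))]
  [IsProper (X ↘ (Spec (CommRingCat.of k)))] [AlgebraicGeometry.IsIntegral X]

/-- the cohomology of the twists of a coherent module vanishing at the generic point grows with
order at most `n - 1` -/
theorem exists_small_bound (n : ℕ) (hn : topologicalKrullDim X = n) {s : ℕ}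
    (N : Fin s → X.Modules) (hN : ∀ j, PicF.IsInvertible (N j)) (hgen : ∀ j, PtGen (N j))
    (G : X.Modules) (hG : Coh.IsCoh G) (hη : genericPoint X ∉ CohB1.support G) :
    ∃ C : ℕ, ∀ (i c : ℕ) (E : X.Modules), Reach N c E →
      Module.finrank k (Coh.HH X (CohB1.tensorMod E G) i) ≤ C * (n * (c + 1) ^ (n - 1)) := by
  have hcl : IsClosed (CohB1.support G) := FtGen.isClosed_support G hG.2
  have hne : CohB1.support G ≠ Set.univ := fun h => hη (h ▸ Set.mem_univ _)
  have h1 := Curve.krullDim_add_one_le_of_ne_univ hcl hne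
  rw [hn] at h1
  rcases n with _ | n'
  · have hemp := Big.eq_empty_of_krullDim_add_one_le_zero _ h1
    have hz : IsZero G := isZero_of_support_subset_empty G (hemp ▸ subset_rfl)
    refine ⟨0, fun i c E _ => ?_⟩
    have hz' : IsZero (CohB1.tensorMod E G) :=
      Groth.Agent.Lib.Helper5.SPTensor.isZero_tensor_right _ _ hz
    haveI : Subsingleton (Coh.HH X (CohB1.tensorMod E G) i) :=
      H1Ext.subsingleton_HH_of_isZero hz' i
    rw [Module.finrank_zero_of_subsingleton]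
    exact Nat.zero_le _
  · obtain ⟨C, hC⟩ := exists_uniform k X N hN hgen n' G hG
      (SnapPos.le_of_add_one_le_succ _ n' h1)
    refine ⟨C, fun i c E hE => (hC i c E hE).trans ?_⟩
    rw [Nat.add_sub_cancel]
    exact Nat.mul_le_mul_left C (Nat.le_mul_of_pos_left _ (Nat.succ_pos n'))

/-- the one-step estimate -/
theorem exists_step_bound (n : ℕ) (hn : topologicalKrullDim X = n) {s : ℕ}
    (N : Fin s → X.Modules) (hN : ∀ j, PicF.IsInvertible (N j)) (hgen : ∀ j, PtGen (N j)) :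
    ∃ C : ℕ, ∀ (i c : ℕ) (E : X.Modules) (l : Fin s), Reach N c E →
      Module.finrank k (Coh.HH X (CohB1.tensorMod E (N l)) i) ≤
          Module.finrank k (Coh.HH X E i) + C * (n * (c + 1) ^ (n - 1)) ∧
        Module.finrank k (Coh.HH X E i) ≤
          Module.finrank k (Coh.HH X (CohB1.tensorMod E (N l)) i) +
            C * (n * (c + 1) ^ (n - 1)) := by
  haveI : AlgebraicGeometry.IsNoetherian X := isNoetherian_of_proper k X
  have hOc := isCoh_structureModule X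
  choose σ hσ using fun l => hgen l (genericPoint X)
  have hONc : ∀ l, Coh.IsCoh (CohB1.tensorMod (Coh.structureModule X) (N l)) := fun l =>
    isCoh_tensor _ (N l) hOc (InvQc.isCoh_of_isInvertible _ (hN l))
  have hKc : ∀ l, Coh.IsCoh (kernel (mulΓ (Coh.structureModule X) (N l) (σ l))) := fun l =>
    FtLocal.isCoh_kernel hOc (hONc l) _
  have hQc : ∀ l, Coh.IsCoh (cokernel (mulΓ (Coh.structureModule X) (N l) (σ l))) := fun l =>
    FtLocal.isCoh_cokernel hOc (hONc l) _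
  have hbij : ∀ l, Function.Bijective
      (stalkL (mulΓ (Coh.structureModule X) (N l) (σ l)) (genericPoint X)) := by
    intro l
    obtain ⟨V, hxV, hV⟩ := hσ l
    exact stalkL_mulΓ_bijective (Coh.structureModule X) (N l) (σ l) hV (genericPoint X) hxV
  have hKη : ∀ l, genericPoint X ∉
      CohB1.support (kernel (mulΓ (Coh.structureModule X) (N l) (σ l))) := fun l =>
    notMem_support_kernel' _ _ (hbij l).1
  have hQη : ∀ l, genericPoint X ∉
      CohB1.support (cokernel (mulΓ (Coh.structureModule X) (N l) (σ l))) := fun l =>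
    notMem_support_cokernel' _ _ (hbij l).2
  choose CK hCK using fun l => exists_small_bound k X n hn N hN hgen _ (hKc l) (hKη l)
  choose CQ hCQ using fun l => exists_small_bound k X n hn N hN hgen _ (hQc l) (hQη l)
  obtain ⟨Cs, hCs⟩ : ∃ Cs : ℕ, Cs = ∑ l, (CK l + CQ l) := ⟨_, rfl⟩
  have hCsl : ∀ l, CK l + CQ l ≤ Cs := fun l => by
    rw [hCs]
    exact Finset.single_le_sum (f := fun l => CK l + CQ l) (fun _ _ => Nat.zero_le _)
      (Finset.mem_univ l)
  refine ⟨Cs, fun i c E l hE => ?_⟩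
  have hEi := hE.isInvertible hN
  obtain ⟨P, hP⟩ : ∃ P : ℕ, P = n * (c + 1) ^ (n - 1) := ⟨_, rfl⟩
  rw [← hP]
  have a := map_le_target k E hEi hOc (hONc l) (mulΓ (Coh.structureModule X) (N l) (σ l)) i
  have b := map_le_source k E hEi hOc (hONc l) (mulΓ (Coh.structureModule X) (N l) (σ l)) i
  have e1 : Module.finrank k (Coh.HH X (CohB1.tensorMod E (Coh.structureModule X)) i) =
      Module.finrank k (Coh.HH X E i) := (HHFin1.HHequiv k (unitR E) i).finrank_eq
  have e2 : Module.finrank k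
      (Coh.HH X (CohB1.tensorMod E (CohB1.tensorMod (Coh.structureModule X) (N l))) i) =
      Module.finrank k (Coh.HH X (CohB1.tensorMod E (N l)) i) :=
    (HHFin1.HHequiv k
      (Groth.Agent.Lead.TilT.tensorModCongr (Iso.refl E) (unitL (N l))) i).finrank_eq
  rw [e1, e2] at a b
  have k1 := hCK l (i + 1) c E hE
  have k2 := hCQ l i c E hE
  have k3 := hCK l i c E hE
  have k4 := hCQ l (i - 1) c E hE
  rw [← hP] at k1 k2 k3 k4
  have hl := hCsl l
  have hmul : (CK l + CQ l) * P ≤ Cs * P := Nat.mul_le_mul_right _ hl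
  rw [Nat.add_mul] at hmul
  constructor <;> omega

/-- **the Lipschitz-type estimate** for the asymptotic cohomological functions -/
theorem hhat_sub_le (n : ℕ) (hn : topologicalKrullDim X = n) {s : ℕ} (N : Fin s → X.Modules)
    (hN : ∀ j, PicF.IsInvertible (N j)) (hgen : ∀ j, PtGen (N j)) :
    ∃ C : ℕ, ∀ (i c d : ℕ) (E₁ E₂ D : X.Modules), Reach N c E₁ → Reach N d D →
      Nonempty (E₂ ≅ CohB1.tensorMod E₁ D) →
      |W4c5asymptcohfn.hhat k X n i E₂ - W4c5asymptcohfn.hhat k X n i E₁| ≤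
        ((d * C : ℕ) : ℝ) * (n : ℝ) * (n.factorial : ℝ) * ((c + d : ℕ) : ℝ) ^ (n - 1) := by
  haveI : AlgebraicGeometry.IsNoetherian X := isNoetherian_of_proper k X
  have hOc := isCoh_structureModule X
  have hdX : topologicalKrullDim ↥(CohB1.support (Coh.structureModule X)) ≤
      ((n : ℕ) : WithBot ℕ∞) :=
    (Topology.IsInducing.subtypeVal.topologicalKrullDim_le).trans hn.le
  obtain ⟨C₀, hC₀⟩ := exists_uniform k X N hN hgen n (Coh.structureModule X) hOc hdX
  obtain ⟨C, hC⟩ := exists_step_bound k X n hn N hN hgen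
  refine ⟨C, fun i c d E₁ E₂ D h₁ hD e => ?_⟩
  obtain ⟨e⟩ := e
  have h₂ : Reach N (c + d) E₂ := (h₁.tensor hN hD).of_iso e
  have hE₁i := h₁.isInvertible hN
  have hDi := hD.isInvertible hN
  have hb : ∀ (c' : ℕ) (E : X.Modules), Reach N c' E → ∀ m,
      Module.finrank k (Coh.HH X (CohB1.tensorPow E m) i) ≤ C₀ * (m * c' + 1) ^ n := by
    intro c' E hE m
    have h1 := hC₀ i _ _ (hE.pow hN m)
    exact le_of_eq_of_le
      (HHFin1.HHequiv k (unitR (CohB1.tensorPow E m)) i).finrank_eq.symm h1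
  have hcmp : ∀ m,
      Module.finrank k (Coh.HH X (CohB1.tensorPow E₂ m) i) ≤
          Module.finrank k (Coh.HH X (CohB1.tensorPow E₁ m) i) +
            d * C * n * (m * (m * (c + d) + 1) ^ (n - 1)) ∧
        Module.finrank k (Coh.HH X (CohB1.tensorPow E₁ m) i) ≤
          Module.finrank k (Coh.HH X (CohB1.tensorPow E₂ m) i) +
            d * C * n * (m * (m * (c + d) + 1) ^ (n - 1)) := by
    intro m
    have i1 : CohB1.tensorPow E₂ m ≅
        CohB1.tensorMod (CohB1.tensorPow E₁ m) (CohB1.tensorPow D m) :=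
      TwistAmpleOpen.tensorPowCongr e m ≪≫ tensorPowMulIso hE₁i hDi m
    have e1 := (HHFin1.HHequiv k i1 i).finrank_eq
    obtain ⟨a1, a2⟩ := path_bound k X N hN n C hC i (hD.pow hN m) (m * c) _ (h₁.pow hN m)
    have earith : m * d * (C * (n * (m * c + m * d + 1) ^ (n - 1))) =
        d * C * n * (m * (m * (c + d) + 1) ^ (n - 1)) := by
      rw [Nat.mul_add m c d]; ring
    rw [e1, ← earith]
    exact ⟨a1, a2⟩
  have hx1 := limsup_le_add_of_poly n
    (fun m => Module.finrank k (Coh.HH X (CohB1.tensorPow E₂ m) i))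
    (fun m => Module.finrank k (Coh.HH X (CohB1.tensorPow E₁ m) i))
    (d * C) (c + d) C₀ c (fun m => (hcmp m).1) (hb c E₁ h₁)
  have hx2 := limsup_le_add_of_poly n
    (fun m => Module.finrank k (Coh.HH X (CohB1.tensorPow E₁ m) i))
    (fun m => Module.finrank k (Coh.HH X (CohB1.tensorPow E₂ m) i))
    (d * C) (c + d) C₀ (c + d) (fun m => (hcmp m).2) (hb (c + d) E₂ h₂)
  unfold W4c5asymptcohfn.hhat
  rw [abs_le]
  constructor <;> linarith

/-- twisting a power of `L_{j₀}` by an inverse of `L_{j₁}` changes `ĥ^i` by `o(p^n)` -/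
theorem hhat_tendsto (H : X.Modules) (hH : CohB1.IsAmple H) (n : ℕ)
    (hn : topologicalKrullDim X = n) {r : ℕ} (Lb : Fin r → X.Modules)
    (hLb : ∀ j, PicF.IsInvertible (Lb j)) (j₀ j₁ : Fin r) (A' : X.Modules)
    (hA' : ClSub.IsInverseOf (Lb j₁) A') (i : ℕ) :
    Filter.Tendsto (fun p : ℕ =>
        (W4c5asymptcohfn.hhat k X n i (CohB1.tensorMod (CohB1.tensorPow (Lb j₀) p) A') -
          W4c5asymptcohfn.hhat k X n i (CohB1.tensorPow (Lb j₀) p)) / (p : ℝ) ^ n)
      Filter.atTop (nhds 0) := by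
  haveI : AlgebraicGeometry.IsNoetherian X := isNoetherian_of_proper k X
  obtain ⟨B, hB, hNi, hNg⟩ := exists_gens H hH Lb hLb
  obtain ⟨C, hC⟩ := hhat_sub_le k X n hn (gens Lb B) hNi hNg
  have hbound : ∀ p : ℕ,
      |W4c5asymptcohfn.hhat k X n i (CohB1.tensorMod (CohB1.tensorPow (Lb j₀) p) A') -
        W4c5asymptcohfn.hhat k X n i (CohB1.tensorPow (Lb j₀) p)| ≤
      ((2 * C : ℕ) : ℝ) * (n : ℝ) * (n.factorial : ℝ) * ((p * 2 + 2 : ℕ) : ℝ) ^ (n - 1) := by
    intro p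
    have h1 : Reach (gens Lb B) (p * 2) (CohB1.tensorPow (Lb j₀) p) :=
      (reach_gen Lb B j₀).pow hNi p
    have h2 : Reach (gens Lb B) 2 A' := reach_gen_inv Lb hLb B hB j₁ A' hA'
    exact hC i (p * 2) 2 _ _ _ h1 h2 ⟨Iso.refl _⟩
  have hlim : Filter.Tendsto (fun p : ℕ =>
      (((2 * C : ℕ) : ℝ) * (n : ℝ) * (n.factorial : ℝ) * (4 : ℝ) ^ (n - 1)) / (p : ℝ))
      Filter.atTop (nhds 0) := tendsto_const_div_atTop_nhds_zero_nat _
  refine squeeze_zero_norm' (Filter.eventually_atTop.2 ⟨1, fun p hp => ?_⟩) hlim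
  have hp1 : (1 : ℝ) ≤ (p : ℝ) := by exact_mod_cast hp
  have hp0 : (0 : ℝ) < (p : ℝ) := by linarith
  have hpn : (0 : ℝ) < (p : ℝ) ^ n := pow_pos hp0 n
  rw [Real.norm_eq_abs, abs_div, abs_of_pos hpn, div_le_div_iff₀ hpn hp0]
  have key := key_arith n p hp
  calc |W4c5asymptcohfn.hhat k X n i (CohB1.tensorMod (CohB1.tensorPow (Lb j₀) p) A') -
        W4c5asymptcohfn.hhat k X n i (CohB1.tensorPow (Lb j₀) p)| * (p : ℝ)
      ≤ (((2 * C : ℕ) : ℝ) * (n : ℝ) * (n.factorial : ℝ) *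
          ((p * 2 + 2 : ℕ) : ℝ) ^ (n - 1)) * (p : ℝ) :=
        mul_le_mul_of_nonneg_right (hbound p) hp0.le
    _ = ((2 * C : ℕ) : ℝ) * (n.factorial : ℝ) *
          ((n : ℝ) * ((p * 2 + 2 : ℕ) : ℝ) ^ (n - 1) * (p : ℝ)) := by ring
    _ ≤ ((2 * C : ℕ) : ℝ) * (n.factorial : ℝ) *
          ((n : ℝ) * (4 : ℝ) ^ (n - 1) * (p : ℝ) ^ n) :=
        mul_le_mul_of_nonneg_left key (by positivity)
    _ = ((2 * C : ℕ) : ℝ) * (n : ℝ) * (n.factorial : ℝ) * (4 : ℝ) ^ (n - 1) * (p : ℝ) ^ n := by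
        ring

end Step

end Groth.Agent.Helper1.ThmB
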