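import Mathlib
import Groth.Agent.Lib.Helper1.SpFib5
import Groth.Agent.Lib.Helper1.GenusOne2
import Groth.Agent.Lib.Helper1.ThmB14
import Groth.Agent.Lib.Helper1.AmpleQA

/-!
# Torsion of `O_X(D)` for `D` the closed fibre divided by the gcd of the multiplicities (helper1)
-/

set_option autoImplicit false
set_option backward.isDefEq.respectTransparency.types false
universe u
open CategoryTheory CategoryTheory.Limits AlgebraicGeometry TopologicalSpace Opposite IsLocalRing

namespace Groth.Agent.Helper1.SpFib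

open Groth.Agent.Helper1

section Gen

variable {X : Scheme.{u}}

/-- a tensor inverse of an invertible module is invertible -/
theorem isInvertible_of_inverse {L M : X.Modules} (hM : PicF.IsInvertible M)
    (e : CohB1.tensorMod L M ≅ Coh.structureModule X) : PicF.IsInvertible L := by
  obtain ⟨K, hK, ⟨eK⟩⟩ := InvInv2.exists_inverse hM
  obtain ⟨u⟩ := TwistAmpleOpen.nonempty_tensorMod_unit_iso K
  have c1 := (SecTwist.unitorR L).symm
  have c2 := TwistTens.tensorModCongrRight L ((TildeTens.tensorModComm M K) ≪≫ eK).symm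
  have c3 := (GenusOne.assocIso L hM hK).symm
  have c4 := TwistTens.tensorModCongrLeft e K
  have eLK : L ≅ K := c1 ≪≫ c2 ≪≫ c3 ≪≫ c4 ≪≫ u
  exact TwistAmpleOpen.isInvertible_of_iso eLK.symm hK

theorem nonempty_iso_idealMod_top :
    Nonempty (Coh.structureModule X ≅ ClSub.idealMod (⊤ : X.IdealSheafData)) := by
  refine nonempty_iso_of_principal (⊤ : X.IdealSheafData) (fun U => (1 : Γ(X, U))) ?_ ?_ ?_
  · intro U V h
    exact map_one _
  · intro U
    rw [Scheme.IdealSheafData.ideal_top]
    show (⊤ : Ideal Γ(X, U.1)) = Ideal.span {1}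
    rw [Ideal.span_singleton_one]
  · intro U
    exact one_mem _

/-- tensor powers of an invertible ideal sheaf are the powers of the ideal -/
theorem nonempty_tensorPow_idealMod_iso (I : X.IdealSheafData)
    (hI : PicF.IsInvertible (ClSub.idealMod I)) (d : ℕ) :
    Nonempty (CohB1.tensorPow (ClSub.idealMod I) d ≅ ClSub.idealMod (I ^ d)) := by
  induction d with
  | zero =>
    rw [pow_zero]
    exact nonempty_iso_idealMod_top
  | succ d ih =>
    obtain ⟨e⟩ := ih
    rw [pow_succ]
    exact ⟨PicGrp.tensorModIso e (Iso.refl _) ≪≫ IdealMul.iso (isInvertible_pow' hI d) hI⟩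

theorem isInvertible_prod_pow {n : ℕ} (D : Fin n → X.IdealSheafData) (m : Fin n → ℕ)
    (hD : ∀ j, PicF.IsInvertible (ClSub.idealMod (D j))) (s : Finset (Fin n)) :
    PicF.IsInvertible (ClSub.idealMod (∏ j ∈ s, D j ^ m j)) := by
  classical
  refine Finset.induction_on s ?_ ?_
  · simp only [Finset.prod_empty]
    exact isInvertible_top
  · intro a s ha ih
    rw [Finset.prod_insert ha]
    exact IdealMul.isInvertible_mul (isInvertible_pow' (hD a) (m a)) ih

/-- if `L ⊗ M ≅ O` and `M^d ≅ O` then `L^d ≅ O` -/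
theorem tensorPow_trivial_of_inverse {L M : X.Modules} (hM : PicF.IsInvertible M)
    (e : CohB1.tensorMod L M ≅ Coh.structureModule X) (d : ℕ)
    (hMd : Nonempty (CohB1.tensorPow M d ≅ Coh.structureModule X)) :
    Nonempty (CohB1.tensorPow L d ≅ Coh.structureModule X) := by
  have hL := isInvertible_of_inverse hM e
  obtain ⟨eM⟩ := hMd
  obtain ⟨e1⟩ := P1Iso.nonempty_tensorPow_iso_of_iso e d
  obtain ⟨e2⟩ := GenLoc.nonempty_tensorPow_O_iso (X := X) d
  have e3 := ThmB.tensorPowMulIso hL hM d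
  have e4 : CohB1.tensorMod (CohB1.tensorPow L d) (CohB1.tensorPow M d) ≅ CohB1.tensorPow L d :=
    TwistTens.tensorModCongrRight (CohB1.tensorPow L d) eM ≪≫ SecTwist.unitorR _
  exact ⟨e4.symm ≪≫ e3.symm ≪≫ e1 ≪≫ e2⟩

end Gen

section Main

variable (R : Type u) [CommRing R] [IsDomain R] [IsDiscreteValuationRing R]
  (X : Over (Spec (CommRingCat.of R)))

/-- the `d`-th power of `Π I(Γ_i)^{m_i/d}` is the ideal of the closed fibre -/
theorem prod_div_pow_eq
    (hreg : ∀ x : X.left, IsRegularLocalRing (X.left.presheaf.stalk x))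
    [Flat X.hom] {n : ℕ} (Γ : Fin n → ArSurf.VertComp R X)
    (hinj : Function.Injective fun i => Set.range (Γ i).ι.base)
    (hcov : ∀ x : X.left, X.hom.base x = closedPoint R → ∃ i, x ∈ Set.range (Γ i).ι.base) :
    (∏ i, (Γ i).ι.ker ^ (Models.mult R X (Γ i) / Models.multGcd R X Γ)) ^ Models.multGcd R X Γ =
      Models.specialFibreIdeal R X := by
  rw [specialFibreIdeal_eq_prod R X hreg Γ hinj hcov, ← Finset.prod_pow]
  apply Finset.prod_congr rfl
  intro i _
  rw [← pow_mul]
  congr 1
  apply Nat.div_mul_cancel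
  exact Finset.gcd_dvd (Finset.mem_univ i)

/-- S7326 -/
theorem order_dvd_gcd
    (hreg : ∀ x : X.left, IsRegularLocalRing (X.left.presheaf.stalk x))
    [Flat X.hom] {n : ℕ} (Γ : Fin n → ArSurf.VertComp R X)
    (hinj : Function.Injective fun i => Set.range (Γ i).ι.base)
    (hcov : ∀ x : X.left, X.hom.base x = closedPoint R → ∃ i, x ∈ Set.range (Γ i).ι.base)
    (L : X.left.Modules)
    (hL : ClSub.IsInverseOf L (ClSub.idealMod
      (∏ i, (Γ i).ι.ker ^ (Models.mult R X (Γ i) / Models.multGcd R X Γ)))) :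
    Nonempty (CohB1.tensorPow L (Models.multGcd R X Γ) ≅ Coh.structureModule X.left) ∧
      Nonempty (CohB1.tensorPow ((Scheme.Modules.pullback
          (∏ i, (Γ i).ι.ker ^ (Models.mult R X (Γ i) / Models.multGcd R X Γ)).subschemeι).obj
          (ClSub.idealMod (∏ i, (Γ i).ι.ker ^ (Models.mult R X (Γ i) / Models.multGcd R X Γ))))
          (Models.multGcd R X Γ) ≅
        Coh.structureModule
          (∏ i, (Γ i).ι.ker ^ (Models.mult R X (Γ i) / Models.multGcd R X Γ)).subscheme) := by
  set D := ∏ i, (Γ i).ι.ker ^ (Models.mult R X (Γ i) / Models.multGcd R X Γ) with hD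
  set d := Models.multGcd R X Γ with hd
  have hpow : D ^ d = Models.specialFibreIdeal R X := prod_div_pow_eq R X hreg Γ hinj hcov
  have hcomp : ∀ i, PicF.IsInvertible (ClSub.idealMod (Γ i).ι.ker) := fun i =>
    Groth.Agent.S8914.backward _ (isEffCartier_component R X hreg Γ hinj hcov i)
  have hDinv : PicF.IsInvertible (ClSub.idealMod D) :=
    isInvertible_prod_pow (fun i => (Γ i).ι.ker) _ hcomp Finset.univ
  obtain ⟨eD⟩ := nonempty_tensorPow_idealMod_iso D hDinv d
  obtain ⟨eS⟩ := nonempty_iso_specialFibreIdeal R X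
  have eMd : CohB1.tensorPow (ClSub.idealMod D) d ≅ Coh.structureModule X.left :=
    eD ≪≫ eqToIso (by rw [hpow]) ≪≫ eS.symm
  obtain ⟨e⟩ := hL
  refine ⟨tensorPow_trivial_of_inverse hDinv e d ⟨eMd⟩, ?_⟩
  obtain ⟨e1⟩ := P1Iso.nonempty_pullback_tensorPow_iso D.subschemeι hDinv d
  exact ⟨e1.symm ≪≫ (Scheme.Modules.pullback D.subschemeι).mapIso eMd ≪≫ PullSec.unitIso _⟩

end Main

end Groth.Agent.Helper1.SpFib
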