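import Mathlib
import Groth.Agent.Lib.Lead.PicCalc
import Groth.Agent.Lib.Helper1.SpFib8
import Groth.Prelude.Def_FGA

/-!
# Classes of twists by vertical divisors in the monoid of isomorphism classes (helper1)
-/

set_option autoImplicit false
set_option backward.isDefEq.respectTransparency.types false
universe u
open CategoryTheory CategoryTheory.Limits AlgebraicGeometry TopologicalSpace Opposite IsLocalRing
open Groth.Agent.Helper1

namespace Groth.Agent.Helper1.PicV

open Groth.Agent.Lead.PicCalc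

section General

variable {X : Scheme.{u}}

theorem cl_tensorPow (M : X.Modules) (n : ℕ) :
    PicF.cl (CohB1.tensorPow M n) = PicF.cl M ^ n := by
  induction n with
  | zero =>
    rw [pow_zero]
    rfl
  | succ n ih =>
    show PicF.cl (CohB1.tensorMod (CohB1.tensorPow M n) M) = _
    rw [cl_tensor, ih, pow_succ]

theorem cl_tensorList (l : List X.Modules) :
    PicF.cl (FGA.tensorList l) = (l.map PicF.cl).prod := by
  induction l with
  | nil =>
    rw [List.map_nil, List.prod_nil]
    rfl
  | cons M l ih =>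
    show PicF.cl (CohB1.tensorMod M (FGA.tensorList l)) = _
    rw [cl_tensor, ih, List.map_cons, List.prod_cons]

theorem cl_multiTwist {n : ℕ} (L : Fin n → X.Modules) (a : Fin n → ℕ) :
    PicF.cl (FGA.multiTwist L a) = ∏ i, PicF.cl (L i) ^ a i := by
  unfold FGA.multiTwist
  rw [cl_tensorList, List.map_map, Fin.prod_univ_def]
  congr 1
  apply List.map_congr_left
  intro i _
  exact cl_tensorPow (L i) (a i)

theorem cl_idealMod_mul {I J : X.IdealSheafData} (hI : PicF.IsInvertible (ClSub.idealMod I))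
    (hJ : PicF.IsInvertible (ClSub.idealMod J)) :
    PicF.cl (ClSub.idealMod (I * J)) = PicF.cl (ClSub.idealMod I) * PicF.cl (ClSub.idealMod J) :=
  (cl_eq_of_iso (IdealMul.iso hI hJ)).symm

theorem cl_idealMod_top : PicF.cl (ClSub.idealMod (⊤ : X.IdealSheafData)) = 1 := by
  obtain ⟨e⟩ := SpFib.nonempty_iso_idealMod_top (X := X)
  exact (cl_eq_of_iso e).symm

theorem cl_idealMod_pow {I : X.IdealSheafData} (hI : PicF.IsInvertible (ClSub.idealMod I))
    (d : ℕ) : PicF.cl (ClSub.idealMod (I ^ d)) = PicF.cl (ClSub.idealMod I) ^ d := by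
  obtain ⟨e⟩ := SpFib.nonempty_tensorPow_idealMod_iso I hI d
  rw [← cl_eq_of_iso e, cl_tensorPow]

theorem cl_idealMod_prod_pow {n : ℕ} (D : Fin n → X.IdealSheafData) (a : Fin n → ℕ)
    (hD : ∀ j, PicF.IsInvertible (ClSub.idealMod (D j))) (s : Finset (Fin n)) :
    PicF.cl (ClSub.idealMod (∏ j ∈ s, D j ^ a j)) =
      ∏ j ∈ s, PicF.cl (ClSub.idealMod (D j)) ^ a j := by
  classical
  refine Finset.induction_on s ?_ ?_
  · simp only [Finset.prod_empty]
    exact cl_idealMod_top
  · intro i s hi ih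
    rw [Finset.prod_insert hi, Finset.prod_insert hi,
      cl_idealMod_mul (SpFib.isInvertible_pow' (hD i) (a i))
        (SpFib.isInvertible_prod_pow D a hD s), ih, cl_idealMod_pow (hD i)]

theorem isInvertibleCl_pow {c : PicF.Cl X} (hc : PicF.IsInvertibleCl c) (k : ℕ) :
    PicF.IsInvertibleCl (c ^ k) := by
  induction k with
  | zero =>
    rw [pow_zero]
    exact isInvertibleCl_one
  | succ k ih =>
    rw [pow_succ]
    exact isInvertibleCl_mul ih hc

end General

section Deg

variable (R : Type u) [CommRing R] [IsDomain R] [IsDiscreteValuationRing R]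
  (X : Over (Spec (CommRingCat.of R))) (hp : IsProper X.hom) (Γ : ArSurf.VertComp R X)

include hp in
theorem inter_iso {M N : X.left.Modules} (e : M ≅ N) :
    ArSurf.inter R X M Γ = ArSurf.inter R X N Γ := by
  haveI : IsProper (Γ.curve.left ↘ Spec (CommRingCat.of (IsLocalRing.ResidueField R))) :=
    ArInt.isProper_curve R X hp Γ
  unfold ArSurf.inter
  rw [ArInt.curveDeg_eq_deg (IsLocalRing.ResidueField R) Γ.dim_eq,
    ArInt.curveDeg_eq_deg (IsLocalRing.ResidueField R) Γ.dim_eq]
  exact GenusOne.deg_iso (IsLocalRing.ResidueField R) Γ.curve.left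
    ((Scheme.Modules.pullback Γ.ι).mapIso e) 1

include hp in
theorem inter_tensor {M N : X.left.Modules} (hM : PicF.IsInvertible M)
    (hN : PicF.IsInvertible N) :
    ArSurf.inter R X (CohB1.tensorMod M N) Γ = ArSurf.inter R X M Γ + ArSurf.inter R X N Γ := by
  haveI : IsProper (Γ.curve.left ↘ Spec (CommRingCat.of (IsLocalRing.ResidueField R))) :=
    ArInt.isProper_curve R X hp Γ
  unfold ArSurf.inter
  rw [ArInt.curveDeg_eq_deg (IsLocalRing.ResidueField R) Γ.dim_eq,
    ArInt.curveDeg_eq_deg (IsLocalRing.ResidueField R) Γ.dim_eq,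
    ArInt.curveDeg_eq_deg (IsLocalRing.ResidueField R) Γ.dim_eq]
  obtain ⟨t⟩ := Groth.Agent.Lead.PullTensorAll.nonempty_tensor_pullback_iso Γ.ι M N
  rw [← GenusOne.deg_iso (IsLocalRing.ResidueField R) Γ.curve.left t 1,
    GenusOne.deg_tensor_inv (IsLocalRing.ResidueField R) Γ.curve.left Γ.dim_eq
      (PullGen.isInvertible_pullback Γ.ι hM) (PullGen.isInvertible_pullback Γ.ι hN)]

include hp in
theorem inter_structureModule : ArSurf.inter R X (Coh.structureModule X.left) Γ = 0 := by
  haveI : IsProper (Γ.curve.left ↘ Spec (CommRingCat.of (IsLocalRing.ResidueField R))) :=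
    ArInt.isProper_curve R X hp Γ
  unfold ArSurf.inter
  rw [ArInt.curveDeg_eq_deg (IsLocalRing.ResidueField R) Γ.dim_eq,
    GenusOne.deg_iso (IsLocalRing.ResidueField R) Γ.curve.left (PullSec.unitIso Γ.ι) 1,
    Curve.deg_structureModule]

/-- the degree on a vertical prime divisor, on isomorphism classes -/
noncomputable def degCl : PicF.Cl X.left → ℤ :=
  Quot.lift (fun M => ArSurf.inter R X M Γ) (fun _ _ h => inter_iso R X hp Γ h.some)

theorem degCl_cl (M : X.left.Modules) : degCl R X hp Γ (PicF.cl M) = ArSurf.inter R X M Γ := rfl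

theorem degCl_mul {c c' : PicF.Cl X.left} (hc : PicF.IsInvertibleCl c)
    (hc' : PicF.IsInvertibleCl c') :
    degCl R X hp Γ (c * c') = degCl R X hp Γ c + degCl R X hp Γ c' := by
  obtain ⟨M, rfl, hM⟩ := hc
  obtain ⟨N, rfl, hN⟩ := hc'
  exact inter_tensor R X hp Γ hM hN

theorem degCl_one : degCl R X hp Γ 1 = 0 := inter_structureModule R X hp Γ

theorem degCl_pow {c : PicF.Cl X.left} (hc : PicF.IsInvertibleCl c) (k : ℕ) :
    degCl R X hp Γ (c ^ k) = (k : ℤ) * degCl R X hp Γ c := by
  induction k with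
  | zero =>
    rw [pow_zero, degCl_one]
    simp
  | succ k ih =>
    rw [pow_succ, degCl_mul R X hp Γ (isInvertibleCl_pow hc k) hc, ih]
    push_cast
    ring

theorem degCl_prod_pow {n : ℕ} (w : Fin n → PicF.Cl X.left)
    (hw : ∀ j, PicF.IsInvertibleCl (w j)) (a : Fin n → ℕ) (s : Finset (Fin n)) :
    PicF.IsInvertibleCl (∏ j ∈ s, w j ^ a j) ∧
      degCl R X hp Γ (∏ j ∈ s, w j ^ a j) = ∑ j ∈ s, (a j : ℤ) * degCl R X hp Γ (w j) := by
  classical
  refine Finset.induction_on s ?_ ?_
  · simp only [Finset.prod_empty, Finset.sum_empty]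
    exact ⟨isInvertibleCl_one, degCl_one R X hp Γ⟩
  · intro i s hi ih
    rw [Finset.prod_insert hi, Finset.sum_insert hi]
    refine ⟨isInvertibleCl_mul (isInvertibleCl_pow (hw i) _) ih.1, ?_⟩
    rw [degCl_mul R X hp Γ (isInvertibleCl_pow (hw i) _) ih.1, degCl_pow R X hp Γ (hw i), ih.2]

end Deg

end Groth.Agent.Helper1.PicV
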