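import Mathlib
import Groth.Agent.Lib.Helper1.PicV1

/-!
# The kernel of `ℤⁿ → Pic X` for the components of the closed fibre (helper1)
-/

set_option autoImplicit false
set_option backward.isDefEq.respectTransparency.types false
universe u
open CategoryTheory CategoryTheory.Limits AlgebraicGeometry TopologicalSpace Opposite IsLocalRing
open Groth.Agent.Helper1

namespace Groth.Agent.Helper1.PicV

open Groth.Agent.Lead.PicCalc Groth.Agent.Lead.IdM Groth.Agent.Helper1.QcCech
open Groth.Agent.Helper1.LGen Groth.Agent.Helper1.SpFib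

section Loc

variable (R : Type u) [CommRing R] [IsDomain R] [IsDiscreteValuationRing R]
  (X : Over (Spec (CommRingCat.of R)))
  (hreg : ∀ x : X.left, IsRegularLocalRing (X.left.presheaf.stalk x))
  [Flat X.hom] {n : ℕ} (Γ : Fin n → ArSurf.VertComp R X)
  (hinj : Function.Injective fun i => Set.range (Γ i).ι.base)
  (hcov : ∀ x : X.left, X.hom.base x = closedPoint R → ∃ i, x ∈ Set.range (Γ i).ι.base)

include hreg hinj hcov in
/-- the local ring at the generic point of a component of the closed fibre is a discrete valuation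
ring -/
theorem isDVR_genPt (i : Fin n) :
    ∃ (_ : IsDomain (X.left.presheaf.stalk ((Γ i).ι.base (genericPoint (Γ i).curve.left)))),
      IsDiscreteValuationRing
        (X.left.presheaf.stalk ((Γ i).ι.base (genericPoint (Γ i).curve.left))) := by
  obtain ⟨ϖ, hϖ⟩ := IsDiscreteValuationRing.exists_irreducible R
  obtain ⟨_, ⟨W, hW, rfl⟩, hγW, -⟩ := X.left.isBasis_affineOpens.exists_subset_of_mem_open
    (show (Γ i).ι.base (genericPoint (Γ i).curve.left) ∈ ((⊤ : X.left.Opens) : Set X.left)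
      from trivial) (⊤ : X.left.Opens).2
  have hnz := sec_mem_nonZeroDivisors R X ϖ hϖ.ne_zero ⟨W, hW⟩
  have hj : ((Γ i).ι.ker.ideal ⟨W, hW⟩).IsPrime := by
    rw [ker_eq_pt R X (Γ i) ⟨W, hW⟩ hγW]
    exact pt_isPrime _ _ hγW
  have hmin := hmin_of R X Γ hinj hcov ϖ hϖ ⟨W, hW⟩ i hj
  have hmem : sec R X ϖ W ∈ (Γ i).ι.ker.ideal ⟨W, hW⟩ :=
    sec_mem_ker R X (Γ i) ϖ
      (by rw [hϖ.maximalIdeal_eq]; exact Ideal.mem_span_singleton_self ϖ) ⟨W, hW⟩
  rw [ker_eq_pt R X (Γ i) ⟨W, hW⟩ hγW] at hmin hmem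
  letI := X.left.presheaf.algebra_section_stalk
    ⟨(Γ i).ι.base (genericPoint (Γ i).curve.left), hγW⟩
  haveI : (pt ⟨W, hW⟩ _ hγW).IsPrime := pt_isPrime _ _ _
  haveI := isLocalization_pt ⟨W, hW⟩ _ hγW
  haveI := hreg ((Γ i).ι.base (genericPoint (Γ i).curve.left))
  have hϖD := algebraMap_ne_zero (pt ⟨W, hW⟩ _ hγW)
    (X.left.presheaf.stalk ((Γ i).ι.base (genericPoint (Γ i).curve.left))) _ hnz
  exact isDVR (pt ⟨W, hW⟩ _ hγW)
    (X.left.presheaf.stalk ((Γ i).ι.base (genericPoint (Γ i).curve.left))) _ hϖD hmem hmin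

include hinj in
/-- the stalk at the generic point of `Γ_i` of the ideal of `Σ e_j Γ_j` is the `e_i`-th power of
the maximal ideal -/
theorem map_prod_pow_genPt (i : Fin n) (W : X.left.affineOpens)
    (hW : (Γ i).ι.base (genericPoint (Γ i).curve.left) ∈ W.1) (e : Fin n → ℕ) :
    ((∏ j, (Γ j).ι.ker ^ e j).ideal W).map
        (X.left.presheaf.germ W.1 ((Γ i).ι.base (genericPoint (Γ i).curve.left)) hW).hom =
      maximalIdeal (X.left.presheaf.stalk ((Γ i).ι.base (genericPoint (Γ i).curve.left))) ^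
        e i := by
  classical
  letI := X.left.presheaf.algebra_section_stalk
    ⟨(Γ i).ι.base (genericPoint (Γ i).curve.left), hW⟩
  haveI : (pt W _ hW).IsPrime := pt_isPrime _ _ _
  haveI := isLocalization_pt W _ hW
  show Ideal.map (algebraMap Γ(X.left, W.1)
    (X.left.presheaf.stalk ((Γ i).ι.base (genericPoint (Γ i).curve.left)))) _ = _
  rw [ideal_prod_pow, map_prod_pow, Finset.prod_eq_single i]
  · rw [ker_eq_pt R X (Γ i) W hW, IsLocalization.AtPrime.map_eq_maximalIdeal (pt W _ hW) _]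
  · intro j _ hji
    have hnle : ¬ (Γ j).ι.ker.ideal W ≤ pt W _ hW := by
      intro hle
      have hsupp := (le_pt_iff W _ hW (Γ j).ι.ker).1 hle
      have hr : Set.range (Γ i).ι.base ≠ Set.range (Γ j).ι.base :=
        fun e' => hji (hinj e').symm
      exact ArInt.genPt_notMem R X (Γ i) (Γ j) hr hsupp
    rw [IsLocalization.AtPrime.map_eq_top_of_not_le _ hnle, ← Ideal.one_eq_top, one_pow]
  · intro h
    exact absurd (Finset.mem_univ i) h

/-- a trivial ideal sheaf is generated by an element of `R` if `R → H^0(X, O_X)` is onto -/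
theorem exists_sec_of_iso (J : X.left.IdealSheafData)
    (θ : Coh.structureModule X.left ≅ ClSub.idealMod J)
    (hsurj : ∀ h : Γ(X.left, ⊤), ∃ r : R, (show Γ(X.left, ⊤) from Coh.toGlobal X.hom r) = h) :
    ∃ r : R, ∀ W : X.left.affineOpens, J.ideal W = Ideal.span {sec R X r W.1} := by
  have hg : IsGen (ClSub.idealMod J) ⊤ (θ.hom.app ⊤ (TwForm.one' ⊤)) :=
    PullGen.isGen_of_iso_app θ (AmpleLib.isGen_one' ⊤)
  obtain ⟨r, hr⟩ := hsurj (ιL J ⊤ (θ.hom.app ⊤ (TwForm.one' ⊤)))
  refine ⟨r, fun W => ?_⟩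
  rw [IdealMul.ideal_eq_span_of_isGen J W (hg.res (le_top : W.1 ≤ ⊤)), IdealMul.ιL_res', ← hr]
  rfl

include hreg hinj hcov in
/-- **the kernel of `ℤⁿ → Pic X`, `e_i ↦ O_X(Γ_i)`, is generated by the closed fibre** -/
theorem kernel_multiTwist [IsLocallyNoetherian X.left] (hp : IsProper X.hom)
    (hconn : _root_.IsConnected {x : X.left | X.hom.base x = closedPoint R})
    (L : Fin n → X.left.Modules)
    (hL : ∀ j, ClSub.IsInverseOf (L j) (ClSub.idealMod (Γ j).ι.ker))
    (hsurj : ∀ h : Γ(X.left, ⊤), ∃ r : R, (show Γ(X.left, ⊤) from Coh.toGlobal X.hom r) = h)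
    (a b : Fin n → ℕ) :
    Nonempty (FGA.multiTwist L a ≅ FGA.multiTwist L b) ↔
      ∃ c : ℤ, ∀ i, (a i : ℤ) - (b i : ℤ) = c * (Models.mult R X (Γ i) : ℤ) := by
  classical
  obtain ⟨ϖ, hϖ⟩ := IsDiscreteValuationRing.exists_irreducible R
  have hinvI := fun j => ArInt.isInvertible_idealMod_of_isInverseOf R X _ (L j) (hL j)
  have hinvL : ∀ j, PicF.IsInvertible (L j) :=
    fun j => SpFib.isInvertible_of_inverse (hinvI j) (hL j).some
  set u : Fin n → PicF.Cl X.left := fun j => PicF.cl (L j) with hu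
  set v : Fin n → PicF.Cl X.left := fun j => PicF.cl (ClSub.idealMod (Γ j).ι.ker) with hv
  set m : Fin n → ℕ := fun j => Models.mult R X (Γ j) with hm
  have mpos : ∀ j, 0 < m j :=
    fun j => Nat.pos_of_ne_zero (SpFib.mult_ne_zero R X hreg Γ hinj hcov j)
  have huv : ∀ j, u j * v j = 1 := fun j => cl_eq_of_iso (hL j).some
  have huvprod : ∀ e : Fin n → ℕ, (∏ j, u j ^ e j) * (∏ j, v j ^ e j) = 1 := by
    intro e
    rw [← Finset.prod_mul_distrib]
    apply Finset.prod_eq_one
    intro j _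
    rw [← mul_pow, huv, one_pow]
  have hvJ : ∀ e : Fin n → ℕ,
      PicF.cl (ClSub.idealMod (∏ j, (Γ j).ι.ker ^ e j)) = ∏ j, v j ^ e j :=
    fun e => cl_idealMod_prod_pow (fun j => (Γ j).ι.ker) e hinvI Finset.univ
  have hSprod := SpFib.specialFibreIdeal_eq_prod R X hreg Γ hinj hcov
  have hvm : ∏ j, v j ^ m j = 1 := by
    rw [← hvJ m, ← hSprod]
    obtain ⟨e⟩ := SpFib.nonempty_iso_specialFibreIdeal R X
    exact (cl_eq_of_iso e).symm
  have hum : ∏ j, u j ^ m j = 1 := by
    have h1 := huvprod m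
    rwa [hvm, mul_one] at h1
  have hshift : ∀ (e : Fin n → ℕ) (k : ℕ), ∏ j, u j ^ (e j + k * m j) = ∏ j, u j ^ e j := by
    intro e k
    calc ∏ j, u j ^ (e j + k * m j) = ∏ j, (u j ^ e j * (u j ^ m j) ^ k) := by
          apply Finset.prod_congr rfl
          intro j _
          rw [pow_add, mul_comm k, pow_mul]
      _ = (∏ j, u j ^ e j) * (∏ j, u j ^ m j) ^ k := by
          rw [Finset.prod_mul_distrib, Finset.prod_pow]
      _ = ∏ j, u j ^ e j := by rw [hum, one_pow, mul_one]
  rw [← cl_eq_iff, cl_multiTwist, cl_multiTwist]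
  constructor
  · intro h
    have hwinv : ∀ j, PicF.IsInvertibleCl (u j) := fun j => isInvertibleCl_cl (hinvL j)
    have hdeg : ∀ i, ∑ j, ((a j : ℤ) - (b j : ℤ)) * ArSurf.inter R X (L j) (Γ i) = 0 := by
      intro i
      have h1 := congrArg (degCl R X hp (Γ i)) h
      rw [(degCl_prod_pow R X hp (Γ i) u hwinv a Finset.univ).2,
        (degCl_prod_pow R X hp (Γ i) u hwinv b Finset.univ).2] at h1
      have h2 : ∀ j, degCl R X hp (Γ i) (u j) = ArSurf.inter R X (L j) (Γ i) := fun j => rfl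
      simp only [h2] at h1
      simp only [sub_mul, Finset.sum_sub_distrib]
      linarith
    obtain ⟨q, hq⟩ := (SpFib.kernel_iff R X hp hreg hconn Γ hinj hcov L hL
      (fun j => (a j : ℤ) - (b j : ℤ))).1 hdeg
    set c : ℤ := ⌊q⌋ with hcdef
    have hq0 : (c : ℚ) ≤ q := Int.floor_le q
    have hq1 : q < (c : ℚ) + 1 := Int.lt_floor_add_one q
    have hd0 : ∀ i, 0 ≤ (a i : ℤ) - (b i : ℤ) - c * (m i : ℤ) := by
      intro i
      have h1 : (((a i : ℤ) - (b i : ℤ) : ℤ) : ℚ) = q * (m i : ℚ) := hq i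
      have h2 : (0 : ℚ) < (m i : ℚ) := by exact_mod_cast mpos i
      have h3 : ((c * (m i : ℤ) : ℤ) : ℚ) ≤ (((a i : ℤ) - (b i : ℤ) : ℤ) : ℚ) := by
        rw [h1]
        push_cast
        exact mul_le_mul_of_nonneg_right hq0 h2.le
      have h4 : c * (m i : ℤ) ≤ (a i : ℤ) - (b i : ℤ) := by exact_mod_cast h3
      linarith
    have hd1 : ∀ i, (a i : ℤ) - (b i : ℤ) - c * (m i : ℤ) < (m i : ℤ) := by
      intro i
      have h1 : (((a i : ℤ) - (b i : ℤ) : ℤ) : ℚ) = q * (m i : ℚ) := hq i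
      have h2 : (0 : ℚ) < (m i : ℚ) := by exact_mod_cast mpos i
      have h3 : (((a i : ℤ) - (b i : ℤ) : ℤ) : ℚ) < (((c + 1) * (m i : ℤ) : ℤ) : ℚ) := by
        rw [h1]
        push_cast
        exact mul_lt_mul_of_pos_right hq1 h2
      have h4 : (a i : ℤ) - (b i : ℤ) < (c + 1) * (m i : ℤ) := by exact_mod_cast h3
      linarith
    set d : Fin n → ℕ := fun i => ((a i : ℤ) - (b i : ℤ) - c * (m i : ℤ)).toNat with hd
    have hdcast : ∀ i, ((d i : ℕ) : ℤ) = (a i : ℤ) - (b i : ℤ) - c * (m i : ℤ) :=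
      fun i => Int.toNat_of_nonneg (hd0 i)
    have hkey : ∀ i, a i + (-c).toNat * m i = (b i + d i) + c.toNat * m i := by
      intro i
      have h1 := hdcast i
      have h2 : ((c.toNat : ℕ) : ℤ) - (((-c).toNat : ℕ) : ℤ) = c := Int.toNat_sub_toNat_neg c
      have h3 : c * (m i : ℤ) =
          ((c.toNat : ℕ) : ℤ) * (m i : ℤ) - (((-c).toNat : ℕ) : ℤ) * (m i : ℤ) := by
        rw [← sub_mul, h2]
      zify
      linarith
    have hprod : ∏ j, u j ^ a j = (∏ j, u j ^ b j) * ∏ j, u j ^ d j := by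
      have e1 : ∏ j, u j ^ (a j + (-c).toNat * m j) =
          ∏ j, u j ^ ((b j + d j) + c.toNat * m j) :=
        Finset.prod_congr rfl (fun j _ => by rw [hkey j])
      rw [hshift a, hshift (fun j => b j + d j)] at e1
      rw [e1, ← Finset.prod_mul_distrib]
      exact Finset.prod_congr rfl (fun j _ => pow_add _ _ _)
    have hunit : IsUnit (∏ j, u j ^ b j) := IsUnit.of_mul_eq_one _ (huvprod b)
    have hd1' : ∏ j, u j ^ d j = 1 := by
      have h2 : (∏ j, u j ^ b j) * ∏ j, u j ^ d j = (∏ j, u j ^ b j) * 1 := by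
        rw [mul_one, ← hprod, h]
      exact hunit.mul_left_cancel h2
    have hvd : ∏ j, v j ^ d j = 1 := by
      have h2 := huvprod d
      rwa [hd1', one_mul] at h2
    have hJd : Nonempty (Coh.structureModule X.left ≅
        ClSub.idealMod (∏ j, (Γ j).ι.ker ^ d j)) := by
      rw [← cl_eq_iff, hvJ d, hvd]
      rfl
    obtain ⟨θ⟩ := hJd
    obtain ⟨r, hr⟩ := exists_sec_of_iso R X _ θ hsurj
    have hdz : ∀ i, d i = 0 := by
      intro i
      obtain ⟨_, ⟨W, hW, rfl⟩, hγW, -⟩ := X.left.isBasis_affineOpens.exists_subset_of_mem_open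
        (show (Γ i).ι.base (genericPoint (Γ i).curve.left) ∈ ((⊤ : X.left.Opens) : Set X.left)
          from trivial) (⊤ : X.left.Opens).2
      obtain ⟨hdom, hdvr⟩ := isDVR_genPt R X hreg Γ hinj hcov i
      haveI := hdom
      haveI := hdvr
      have h1 := map_prod_pow_genPt R X Γ hinj i ⟨W, hW⟩ hγW d
      have h2 := map_prod_pow_genPt R X Γ hinj i ⟨W, hW⟩ hγW m
      have hg : ∀ r' : R, (X.left.presheaf.germ W _ hγW).hom (sec R X r' W) =
          Models.stalkHom R X ((Γ i).ι.base (genericPoint (Γ i).curve.left)) r' :=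
        fun r' => X.left.presheaf.germ_res_apply (homOfLE (le_top : W ≤ ⊤)) _ hγW _
      rw [hr ⟨W, hW⟩, Ideal.map_span, Set.image_singleton, hg] at h1
      rw [← hSprod, specialFibreIdeal_ideal R X ϖ hϖ ⟨W, hW⟩, Ideal.map_span,
        Set.image_singleton, hg] at h2
      have h𝔪0 : maximalIdeal
          (X.left.presheaf.stalk ((Γ i).ι.base (genericPoint (Γ i).curve.left))) ≠ ⊥ :=
        IsDiscreteValuationRing.not_a_field _
      have h𝔪1 : maximalIdeal
          (X.left.presheaf.stalk ((Γ i).ι.base (genericPoint (Γ i).curve.left))) ≠ ⊤ :=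
        Ideal.IsPrime.ne_top'
      have hlt : d i < m i := by
        have := hd1 i
        have := hdcast i
        omega
      by_cases hr0 : r = 0
      · exfalso
        rw [hr0, map_zero] at h1
        have h3 : Ideal.span {(0 : X.left.presheaf.stalk
            ((Γ i).ι.base (genericPoint (Γ i).curve.left)))} = ⊥ :=
          Ideal.span_singleton_eq_bot.2 rfl
        rw [h3] at h1
        have h4 := pow_ne_zero (d i) (show maximalIdeal
          (X.left.presheaf.stalk ((Γ i).ι.base (genericPoint (Γ i).curve.left))) ≠ 0 from h𝔪0)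
        exact h4 h1.symm
      · obtain ⟨e, w, hrw⟩ := IsDiscreteValuationRing.eq_unit_mul_pow_irreducible hr0 hϖ
        have hwu : IsUnit (Models.stalkHom R X
            ((Γ i).ι.base (genericPoint (Γ i).curve.left)) (w : R)) := w.isUnit.map _
        rw [hrw, map_mul, map_pow, Ideal.span_singleton_mul_left_unit hwu,
          ← Ideal.span_singleton_pow, h2, ← pow_mul] at h1
        have h5 : m i * e = d i :=
          (Ideal.pow_right_strictAnti _ h𝔪0 h𝔪1).injective h1
        rcases Nat.eq_zero_or_pos e with he | he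
        · rw [he, mul_zero] at h5
          exact h5.symm
        · exfalso
          have : m i ≤ m i * e := Nat.le_mul_of_pos_right _ he
          omega
    refine ⟨c, fun i => ?_⟩
    have h1 := hdcast i
    rw [hdz i] at h1
    push_cast at h1
    linarith
  · rintro ⟨c, hc⟩
    rcases le_total 0 c with h0 | h0
    · have hab : ∀ j, a j = b j + c.toNat * m j := by
        intro j
        have h1 : (a j : ℤ) - (b j : ℤ) = c * (m j : ℤ) := hc j
        have h2 : ((c.toNat : ℕ) : ℤ) = c := Int.toNat_of_nonneg h0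
        zify
        rw [h2]
        linarith
      have h3 : ∏ j, u j ^ a j = ∏ j, u j ^ (b j + c.toNat * m j) :=
        Finset.prod_congr rfl (fun j _ => by rw [hab j])
      rw [h3, hshift]
    · have hab : ∀ j, b j = a j + (-c).toNat * m j := by
        intro j
        have h1 : (a j : ℤ) - (b j : ℤ) = c * (m j : ℤ) := hc j
        have h2 : (((-c).toNat : ℕ) : ℤ) = -c := Int.toNat_of_nonneg (by linarith)
        zify
        rw [h2]
        linarith
      have h3 : ∏ j, u j ^ b j = ∏ j, u j ^ (a j + (-c).toNat * m j) :=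
        Finset.prod_congr rfl (fun j _ => by rw [hab j])
      rw [h3, hshift]

end Loc

end Groth.Agent.Helper1.PicV
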