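import Mathlib
import Groth.Agent.Lib.Helper1.PicV2

/-!
# Factorisation of a vertical effective Cartier divisor on a regular model (helper1)

An ideal sheaf which is locally generated by one non-zero-divisor and whose support lies in the
closed fibre is the product of powers of the ideals of the components of the closed fibre.
-/

set_option autoImplicit false
set_option backward.isDefEq.respectTransparency.types false
universe u
open CategoryTheory CategoryTheory.Limits AlgebraicGeometry TopologicalSpace Opposite IsLocalRing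
open Groth.Agent.Helper1

namespace Groth.Agent.Helper1.PicV

open Groth.Agent.Helper1.SpFib

section StalkIdeal

variable {Y : Scheme.{u}} (J : Y.IdealSheafData) (x : Y)

/-- the stalk of an ideal sheaf at a point -/
noncomputable def stalkIdeal : Ideal (Y.presheaf.stalk x) :=
  ⨆ (W : Y.affineOpens) (h : x ∈ W.1), (J.ideal W).map (Y.presheaf.germ W.1 x h).hom

theorem map_germ_eq_of_le {W W' : Y.affineOpens} (hle : W' ≤ W) (h' : x ∈ W'.1) :
    (J.ideal W).map (Y.presheaf.germ W.1 x (hle h')).hom =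
      (J.ideal W').map (Y.presheaf.germ W'.1 x h').hom := by
  rw [← J.map_ideal hle, Ideal.map_map]
  congr 1
  rw [← CommRingCat.hom_comp]
  exact congrArg CommRingCat.Hom.hom (Y.presheaf.germ_res (homOfLE hle) x h').symm

theorem stalkIdeal_eq (W : Y.affineOpens) (h : x ∈ W.1) :
    stalkIdeal J x = (J.ideal W).map (Y.presheaf.germ W.1 x h).hom := by
  apply le_antisymm
  · apply iSup₂_le
    intro W' h'
    obtain ⟨_, ⟨V, hV, rfl⟩, hxV, hVle⟩ := Y.isBasis_affineOpens.exists_subset_of_mem_open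
      (show x ∈ ((W.1 ⊓ W'.1 : Y.Opens) : Set Y) from ⟨h, h'⟩) (W.1 ⊓ W'.1).2
    have h1 : (⟨V, hV⟩ : Y.affineOpens) ≤ W := fun y hy => (hVle hy).1
    have h2 : (⟨V, hV⟩ : Y.affineOpens) ≤ W' := fun y hy => (hVle hy).2
    have e2 := map_germ_eq_of_le J x h2 hxV
    have e1 := map_germ_eq_of_le J x h1 hxV
    exact (e2.trans e1.symm).le
  · exact le_iSup₂ (f := fun (W : Y.affineOpens) (h : x ∈ W.1) =>
      (J.ideal W).map (Y.presheaf.germ W.1 x h).hom) W h

end StalkIdeal

section Factor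

variable (R : Type u) [CommRing R] [IsDomain R] [IsDiscreteValuationRing R]
  (X : Over (Spec (CommRingCat.of R)))
  (hreg : ∀ x : X.left, IsRegularLocalRing (X.left.presheaf.stalk x))
  [Flat X.hom] {n : ℕ} (Γ : Fin n → ArSurf.VertComp R X)
  (hinj : Function.Injective fun i => Set.range (Γ i).ι.base)
  (hcov : ∀ x : X.left, X.hom.base x = closedPoint R → ∃ i, x ∈ Set.range (Γ i).ι.base)

/-- the order of vanishing of an ideal sheaf along a component of the closed fibre -/
noncomputable def ordAt (J : X.left.IdealSheafData) (i : Fin n) : ℕ :=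
  (Module.length (X.left.presheaf.stalk ((Γ i).ι.base (genericPoint (Γ i).curve.left)))
    (X.left.presheaf.stalk ((Γ i).ι.base (genericPoint (Γ i).curve.left)) ⧸
      stalkIdeal J ((Γ i).ι.base (genericPoint (Γ i).curve.left)))).toNat

include hreg hinj hcov in
theorem ideal_eq_prod_of_principal [IsLocallyNoetherian X.left] (J : X.left.IdealSheafData)
    (hsupp : ∀ x ∈ J.support, X.hom.base x = closedPoint R)
    (U : X.left.affineOpens) (f : Γ(X.left, U.1)) (hf : f ∈ nonZeroDivisors Γ(X.left, U.1))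
    (hJf : J.ideal U = Ideal.span {f}) :
    J.ideal U = (∏ i, (Γ i).ι.ker ^ ordAt R X Γ J i).ideal U := by
  classical
  obtain ⟨ϖ, hϖ⟩ := IsDiscreteValuationRing.exists_irreducible R
  haveI : IsNoetherianRing Γ(X.left, U.1) := IsLocallyNoetherian.component_noetherian U
  rw [hJf, ideal_prod_pow]
  have hnz : sec R X ϖ U.1 ∈ nonZeroDivisors Γ(X.left, U.1) :=
    sec_mem_nonZeroDivisors R X ϖ hϖ.ne_zero U
  have hP : ∀ j, sec R X ϖ U.1 ∈ (Γ j).ι.ker.ideal U := fun j =>
    sec_mem_ker R X (Γ j) ϖ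
      (by rw [hϖ.maximalIdeal_eq]; exact Ideal.mem_span_singleton_self ϖ) U
  have hprime_of_mem : ∀ j, (Γ j).ι.base (genericPoint (Γ j).curve.left) ∈ U.1 →
      ((Γ j).ι.ker.ideal U).IsPrime := by
    intro j h
    rw [ker_eq_pt R X (Γ j) U h]
    exact pt_isPrime U _ h
  have hmem_of_prime : ∀ j, ((Γ j).ι.ker.ideal U).IsPrime →
      (Γ j).ι.base (genericPoint (Γ j).curve.left) ∈ U.1 := by
    intro j hj
    by_contra hn
    exact hj.ne_top (ker_eq_top_of_notMem R X (Γ j) U hn)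
  have hPtop : ∀ j, ¬ ((Γ j).ι.ker.ideal U).IsPrime → (Γ j).ι.ker.ideal U = ⊤ := by
    intro j hj
    by_cases h : (Γ j).ι.base (genericPoint (Γ j).curve.left) ∈ U.1
    · exact absurd (hprime_of_mem j h) hj
    · exact ker_eq_top_of_notMem R X (Γ j) U h
  have hkey : ∀ j j', ((Γ j).ι.ker.ideal U).IsPrime → ((Γ j').ι.ker.ideal U).IsPrime →
      (Γ j').ι.ker.ideal U ≤ (Γ j).ι.ker.ideal U → j' = j := by
    intro j j' hj hj' hle
    have h := hmem_of_prime j hj
    rw [ker_eq_pt R X (Γ j) U h] at hle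
    have hsupp := (le_pt_iff U _ h (Γ j').ι.ker).1 hle
    by_contra hne
    have hr : Set.range (Γ j).ι.base ≠ Set.range (Γ j').ι.base := fun e => hne (hinj e).symm
    exact ArInt.genPt_notMem R X (Γ j) (Γ j') hr hsupp
  -- the modified family of primes
  set P' : Fin n → Ideal Γ(X.left, U.1) := fun j =>
    if f ∈ (Γ j).ι.ker.ideal U then (Γ j).ι.ker.ideal U else ⊤ with hP'
  have hP'pos : ∀ j, f ∈ (Γ j).ι.ker.ideal U → P' j = (Γ j).ι.ker.ideal U := by
    intro j h
    simp only [hP', if_pos h]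
  have hP'neg : ∀ j, f ∉ (Γ j).ι.ker.ideal U → P' j = ⊤ := by
    intro j h
    simp only [hP', if_neg h]
  have hP'mem : ∀ j, f ∈ P' j := by
    intro j
    by_cases h : f ∈ (Γ j).ι.ker.ideal U
    · rw [hP'pos j h]; exact h
    · rw [hP'neg j h]; exact Submodule.mem_top
  have hP'prime : ∀ j, (P' j).IsPrime →
      f ∈ (Γ j).ι.ker.ideal U ∧ P' j = (Γ j).ι.ker.ideal U := by
    intro j hj
    by_cases h : f ∈ (Γ j).ι.ker.ideal U
    · exact ⟨h, hP'pos j h⟩
    · exact absurd (hP'neg j h) hj.ne_top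
  have hP'top : ∀ j, ¬ (P' j).IsPrime → P' j = ⊤ := by
    intro j hj
    by_cases h : f ∈ (Γ j).ι.ker.ideal U
    · rw [hP'pos j h] at hj ⊢
      exact hPtop j hj
    · exact hP'neg j h
  have hkey' : ∀ j j', (P' j).IsPrime → (P' j').IsPrime → P' j' ≤ P' j → j' = j := by
    intro j j' hj hj' hle
    obtain ⟨-, e⟩ := hP'prime j hj
    obtain ⟨-, e'⟩ := hP'prime j' hj'
    rw [e] at hj
    rw [e'] at hj'
    rw [e, e'] at hle
    exact hkey j j' hj hj' hle
  have hcovf : ∀ 𝔮 : Ideal Γ(X.left, U.1), 𝔮.IsPrime → f ∈ 𝔮 →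
      ∃ j, (P' j).IsPrime ∧ P' j ≤ 𝔮 := by
    intro 𝔮 h𝔮 hf𝔮
    have hle : Ideal.span {f} ≤ 𝔮 := (Ideal.span_singleton_le_iff_mem _).2 hf𝔮
    obtain ⟨𝔮₀, h𝔮₀, h𝔮₀le⟩ := Ideal.exists_minimalPrimes_le hle
    haveI h𝔮₀p : 𝔮₀.IsPrime := h𝔮₀.1.1
    have hf𝔮₀ : f ∈ 𝔮₀ := h𝔮₀.1.2 (Ideal.mem_span_singleton_self f)
    have hy := fromSpec_mem U (⟨𝔮₀, h𝔮₀p⟩ : PrimeSpectrum Γ(X.left, U.1))
    have hpt' : pt U _ hy = 𝔮₀ :=
      pt_fromSpec U (⟨𝔮₀, h𝔮₀p⟩ : PrimeSpectrum Γ(X.left, U.1)) hy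
    have hJle : J.ideal U ≤ pt U _ hy := by
      rw [hpt', hJf]
      exact h𝔮₀.1.2
    have hysupp := (le_pt_iff U _ hy J).1 hJle
    have hfib := hsupp _ hysupp
    obtain ⟨j, hj⟩ := hcov _ hfib
    have hsuppj := (Γ j).ι.range_subset_ker_support hj
    have hlej := (le_pt_iff U _ hy (Γ j).ι.ker).2 hsuppj
    rw [hpt'] at hlej
    have hjprime : ((Γ j).ι.ker.ideal U).IsPrime := by
      by_contra hnp
      rw [hPtop j hnp] at hlej
      exact h𝔮₀p.ne_top (top_le_iff.1 hlej)
    have hht : 𝔮₀.height ≤ 1 :=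
      Ideal.height_le_one_of_isPrincipal_of_mem_minimalPrimes (Ideal.span {f}) 𝔮₀ h𝔮₀
    have heq : (Γ j).ι.ker.ideal U = 𝔮₀ := by
      by_contra hne
      have hlt : (Γ j).ι.ker.ideal U < 𝔮₀ := lt_of_le_of_ne hlej hne
      haveI := hjprime
      have h1 : ((Γ j).ι.ker.ideal U).height < 𝔮₀.height :=
        Ideal.height_strict_mono_of_isPrime_of_isPrime hlt
      have h0 : ((Γ j).ι.ker.ideal U).height = 0 :=
        Order.lt_one_iff.1 (lt_of_lt_of_le h1 hht)
      rw [Ideal.height_eq_zero_iff] at h0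
      exact notMem_nonZeroDivisors_of_mem_mem_minimalPrimes (hP j) h0 hnz
    have hfj : f ∈ (Γ j).ι.ker.ideal U := by
      rw [heq]
      exact hf𝔮₀
    refine ⟨j, ?_, ?_⟩
    · rw [hP'pos j hfj]
      exact hjprime
    · rw [hP'pos j hfj, heq]
      exact h𝔮₀le
  have hm : ∀ j, (P' j).IsPrime →
      (∃ s : Γ(X.left, U.1), s ∉ P' j ∧ s * f ∈ P' j ^ ordAt R X Γ J j) ∧
      (∀ t : Γ(X.left, U.1), t ∉ P' j → t * f ∉ P' j ^ (ordAt R X Γ J j + 1)) := by
    intro j hj
    obtain ⟨hfj, e⟩ := hP'prime j hj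
    rw [e] at hj ⊢
    have h := hmem_of_prime j hj
    rw [ker_eq_pt R X (Γ j) U h]
    letI := X.left.presheaf.algebra_section_stalk
      ⟨(Γ j).ι.base (genericPoint (Γ j).curve.left), h⟩
    haveI : (pt U _ h).IsPrime := pt_isPrime _ _ _
    haveI := isLocalization_pt U _ h
    obtain ⟨hdom, hdvr⟩ := isDVR_genPt R X hreg Γ hinj hcov j
    have hfD := algebraMap_ne_zero (pt U _ h)
      (X.left.presheaf.stalk ((Γ j).ι.base (genericPoint (Γ j).curve.left))) _ hf
    have hJst : stalkIdeal J ((Γ j).ι.base (genericPoint (Γ j).curve.left)) =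
        Ideal.span {algebraMap Γ(X.left, U.1)
          (X.left.presheaf.stalk ((Γ j).ι.base (genericPoint (Γ j).curve.left))) f} := by
      rw [stalkIdeal_eq J _ U h, hJf, Ideal.map_span, Set.image_singleton]
      rfl
    unfold ordAt
    exact mult_spec (pt U _ h)
      (X.left.presheaf.stalk ((Γ j).ι.base (genericPoint (Γ j).curve.left))) f hfD _ hJst
  have hexp : ∀ j, (Γ j).ι.ker.ideal U ^ ordAt R X Γ J j = P' j ^ ordAt R X Γ J j := by
    intro j
    by_cases hfj : f ∈ (Γ j).ι.ker.ideal U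
    · rw [hP'pos j hfj]
    · rw [hP'neg j hfj]
      by_cases hpr : ((Γ j).ι.ker.ideal U).IsPrime
      · have h := hmem_of_prime j hpr
        have h0 : ordAt R X Γ J j = 0 := by
          unfold ordAt
          have hst : stalkIdeal J ((Γ j).ι.base (genericPoint (Γ j).curve.left)) = ⊤ := by
            rw [stalkIdeal_eq J _ U h, hJf, Ideal.map_span, Set.image_singleton,
              Ideal.span_singleton_eq_top]
            rw [ker_eq_pt R X (Γ j) U h] at hfj
            have hb : (Γ j).ι.base (genericPoint (Γ j).curve.left) ∈ X.left.basicOpen f := by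
              by_contra hb
              exact hfj ((mem_pt_iff U _ h f).2 hb)
            exact (X.left.mem_basicOpen f _ h).1 hb
          have hsub : Subsingleton
              (X.left.presheaf.stalk ((Γ j).ι.base (genericPoint (Γ j).curve.left)) ⧸
                stalkIdeal J ((Γ j).ι.base (genericPoint (Γ j).curve.left))) :=
            Ideal.Quotient.subsingleton_iff.2 hst
          have h00 : Module.length
              (X.left.presheaf.stalk ((Γ j).ι.base (genericPoint (Γ j).curve.left)))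
              (X.left.presheaf.stalk ((Γ j).ι.base (genericPoint (Γ j).curve.left)) ⧸
                stalkIdeal J ((Γ j).ι.base (genericPoint (Γ j).curve.left))) = 0 :=
            Module.length_eq_zero_iff.2 hsub
          rw [h00]
          rfl
        rw [h0, pow_zero, pow_zero]
      · rw [hPtop j hpr]
  rw [Finset.prod_congr rfl (fun j _ => hexp j)]
  apply Ideal.eq_of_localization_maximal
  intro 𝔭 h𝔭
  haveI := h𝔭.isPrime
  have hy := fromSpec_mem U (⟨𝔭, h𝔭.isPrime⟩ : PrimeSpectrum Γ(X.left, U.1))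
  letI := X.left.presheaf.algebra_section_stalk
    ⟨U.2.fromSpec (⟨𝔭, h𝔭.isPrime⟩ : PrimeSpectrum Γ(X.left, U.1)), hy⟩
  haveI : IsLocalization.AtPrime (X.left.presheaf.stalk
      (U.2.fromSpec (⟨𝔭, h𝔭.isPrime⟩ : PrimeSpectrum Γ(X.left, U.1)))) 𝔭 :=
    U.2.isLocalization_stalk' ⟨𝔭, h𝔭.isPrime⟩ hy
  haveI := hreg (U.2.fromSpec (⟨𝔭, h𝔭.isPrime⟩ : PrimeSpectrum Γ(X.left, U.1)))
  haveI : IsDomain (X.left.presheaf.stalk
      (U.2.fromSpec (⟨𝔭, h𝔭.isPrime⟩ : PrimeSpectrum Γ(X.left, U.1)))) :=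
    Groth.Agent.Helper8.RLR.isDomain _
  haveI : UniqueFactorizationMonoid (X.left.presheaf.stalk
      (U.2.fromSpec (⟨𝔭, h𝔭.isPrime⟩ : PrimeSpectrum Γ(X.left, U.1)))) :=
    Groth.Agent.Helper9.RegUFD.ufd _
  apply map_eq_of_map_eq 𝔭 (X.left.presheaf.stalk
      (U.2.fromSpec (⟨𝔭, h𝔭.isPrime⟩ : PrimeSpectrum Γ(X.left, U.1)))) (Localization.AtPrime 𝔭)
  rw [Ideal.map_span, Set.image_singleton, map_prod_pow]
  exact map_span_eq_prod 𝔭 _ f P'
    (algebraMap_ne_zero 𝔭 _ _ hf) hP'mem hP'top hkey' hcovf _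
    (fun j hj => (hm j hj).1) (fun j hj => (hm j hj).2)

include hreg hinj hcov in
/-- **a vertical effective Cartier divisor is a combination of the components of the closed
fibre** -/
theorem eq_prod_of_support [IsLocallyNoetherian X.left] (J : X.left.IdealSheafData)
    (hJ : ∀ x : X.left, ∃ W : X.left.affineOpens, x ∈ W.1 ∧ ∃ f : Γ(X.left, W.1),
      f ∈ nonZeroDivisors Γ(X.left, W.1) ∧ J.ideal W = Ideal.span {f})
    (hsupp : ∀ x ∈ J.support, X.hom.base x = closedPoint R) :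
    J = ∏ i, (Γ i).ι.ker ^ ordAt R X Γ J i := by
  choose W hxW f hf hJf using hJ
  refine Scheme.IdealSheafData.ext_of_iSup_eq_top W ?_ (fun x =>
    ideal_eq_prod_of_principal R X hreg Γ hinj hcov J hsupp (W x) (f x) (hf x) (hJf x))
  rw [eq_top_iff]
  intro x _
  exact Opens.mem_iSup.2 ⟨x, hxW x⟩

end Factor

end Groth.Agent.Helper1.PicV
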