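import Mathlib
import Groth.Agent.Lib.Helper1.PicV3
import Groth.Agent.Lib.Helper1.QcAbel
import Groth.Agent.Lib.Helper1.TwistSec
import Groth.Agent.Lib.Helper1.InvQc
import Groth.Agent.Lib.Helper1.AmpleLib2
import Groth.Agent.Lib.Helper1.PullGen
import Groth.Agent.Lib.Helper6.DVRFib.Generic

/-!
# A generically generating section of a line bundle which is trivial on the generic fibre (helper1)
-/

set_option autoImplicit false
set_option backward.isDefEq.respectTransparency.types false
universe u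
open CategoryTheory CategoryTheory.Limits AlgebraicGeometry TopologicalSpace Opposite IsLocalRing
open Groth.Agent.Helper1

namespace Groth.Agent.Helper1.PicV

open Groth.Agent.Helper1.QcCech Groth.Agent.Helper1.SubSh Groth.Agent.Helper1.LGen
open Groth.Agent.Helper1.SpFib

section Ext

variable {X : Scheme.{u}}

theorem isGen_inj {L : X.Modules} {W : X.Opens} {a : Γ(L, W)} (ha : IsGen L W a)
    {r r' : Γ(X, W)} (h : r • a = r' • a) : r = r' := by
  have hb : Function.Bijective (fun r : Γ(X, W) => r • a) := by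
    simpa only [QcCech.res_self] using ha W le_rfl
  exact hb.1 h

theorem eq_zero_of_pow_smul (F : X.Modules) (f : Γ(X, ⊤))
    (hreg : ∀ (V : X.Opens) (m : Γ(F, V)), resR (le_top : V ≤ ⊤) f • m = 0 → m = 0)
    (V : X.Opens) (k : ℕ) (m : Γ(F, V)) (h : resR (le_top : V ≤ ⊤) f ^ k • m = 0) : m = 0 := by
  induction k with
  | zero => simpa using h
  | succ k ih =>
    apply ih
    apply hreg V
    rw [smul_smul, ← pow_succ']
    exact h

/-- extension of a section over `X_f` to a global section after multiplication by a power of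
`f`, when `f` is regular on the module -/
theorem exists_global_extend [CompactSpace X] (F : X.Modules) [F.IsQuasicoherent] (f : Γ(X, ⊤))
    (hreg : ∀ (V : X.Opens) (m : Γ(F, V)), resR (le_top : V ≤ ⊤) f • m = 0 → m = 0)
    (t : Γ(F, X.basicOpen f)) :
    ∃ (n : ℕ) (t' : Γ(F, ⊤)), res F (le_top : X.basicOpen f ≤ ⊤) t' =
      resR (le_top : X.basicOpen f ≤ ⊤) f ^ n • t := by
  classical
  have hW : ∀ x : X, ∃ W : X.affineOpens, x ∈ W.1 := by
    intro x
    obtain ⟨_, ⟨W, hW, rfl⟩, hxW, -⟩ := X.isBasis_affineOpens.exists_subset_of_mem_open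
      (show x ∈ ((⊤ : X.Opens) : Set X) from trivial) (⊤ : X.Opens).2
    exact ⟨⟨W, hW⟩, hxW⟩
  choose W hxW using hW
  obtain ⟨S, hS⟩ := isCompact_univ.elim_finite_subcover (fun x => ((W x).1 : Set X))
    (fun x => (W x).1.isOpen) (fun x _ => Set.mem_iUnion.2 ⟨x, hxW x⟩)
  have hO : ∀ V : X.Opens, X.basicOpen f ⊓ V = X.basicOpen (resR (le_top : V ≤ ⊤) f) := by
    intro V
    rw [inf_comm]
    exact (Scheme.basicOpen_res X f (homOfLE (le_top : V ≤ ⊤)).op).symm
  have hext : ∀ x, ∃ (k : ℕ) (u : Γ(F, (W x).1)),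
      res F (inf_le_right : X.basicOpen f ⊓ (W x).1 ≤ (W x).1) u =
        resR (le_top : X.basicOpen f ⊓ (W x).1 ≤ ⊤) f ^ k •
          res F (inf_le_left : X.basicOpen f ⊓ (W x).1 ≤ X.basicOpen f) t := by
    intro x
    obtain ⟨k, u, hu⟩ := QcAbel.extP_of_isQuasicoherent F (W x).1 (W x).2
      (resR (le_top : (W x).1 ≤ ⊤) f) _ (hO (W x).1) (res F inf_le_left t)
    refine ⟨k, u, ?_⟩
    rw [resR_resR] at hu
    exact hu
  choose k u hu using hext
  obtain ⟨n, hn⟩ : ∃ n, n = S.sup k := ⟨_, rfl⟩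
  obtain ⟨u', hu'def⟩ : ∃ u' : ∀ x, Γ(F, (W x).1),
      ∀ x, u' x = resR (le_top : (W x).1 ≤ ⊤) f ^ (n - k x) • u x := ⟨_, fun _ => rfl⟩
  have hu' : ∀ x ∈ S, res F (inf_le_right : X.basicOpen f ⊓ (W x).1 ≤ (W x).1) (u' x) =
      resR (le_top : X.basicOpen f ⊓ (W x).1 ≤ ⊤) f ^ n •
        res F (inf_le_left : X.basicOpen f ⊓ (W x).1 ≤ X.basicOpen f) t := by
    intro x hx
    have hk : k x ≤ n := by
      rw [hn]
      exact Finset.le_sup (f := k) hx
    rw [hu'def x, res_smul, hu x, smul_smul, map_pow, resR_resR, ← pow_add]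
    congr 2
    omega
  have hcompat : ∀ x ∈ S, ∀ y ∈ S,
      res F (inf_le_left : (W x).1 ⊓ (W y).1 ≤ (W x).1) (u' x) =
      res F (inf_le_right : (W x).1 ⊓ (W y).1 ≤ (W y).1) (u' y) := by
    intro x hx y hy
    apply TwistSec.eq_of_locally
    intro z hz
    obtain ⟨_, ⟨V, hV, rfl⟩, hzV, hVle⟩ := X.isBasis_affineOpens.exists_subset_of_mem_open
      (show z ∈ (((W x).1 ⊓ (W y).1 : X.Opens) : Set X) from hz) ((W x).1 ⊓ (W y).1).2
    have hVle' : V ≤ (W x).1 ⊓ (W y).1 := hVle
    refine ⟨V, hVle', hzV, ?_⟩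
    rw [res_res, res_res, ← sub_eq_zero]
    have e1 : res F ((inf_le_right : X.basicOpen f ⊓ V ≤ V).trans (hVle'.trans inf_le_left))
        (u' x) = resR (le_top : X.basicOpen f ⊓ V ≤ ⊤) f ^ n •
          res F (inf_le_left : X.basicOpen f ⊓ V ≤ X.basicOpen f) t := by
      have hle : X.basicOpen f ⊓ V ≤ X.basicOpen f ⊓ (W x).1 :=
        inf_le_inf_left _ (hVle'.trans inf_le_left)
      have := congrArg (res F hle) (hu' x hx)
      rw [res_res, res_smul, res_res, map_pow, resR_resR] at this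
      exact this
    have e2 : res F ((inf_le_right : X.basicOpen f ⊓ V ≤ V).trans (hVle'.trans inf_le_right))
        (u' y) = resR (le_top : X.basicOpen f ⊓ V ≤ ⊤) f ^ n •
          res F (inf_le_left : X.basicOpen f ⊓ V ≤ X.basicOpen f) t := by
      have hle : X.basicOpen f ⊓ V ≤ X.basicOpen f ⊓ (W y).1 :=
        inf_le_inf_left _ (hVle'.trans inf_le_right)
      have := congrArg (res F hle) (hu' y hy)
      rw [res_res, res_smul, res_res, map_pow, resR_resR] at this
      exact this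
    have hd0 : res F (inf_le_right : X.basicOpen f ⊓ V ≤ V)
        (res F (hVle'.trans inf_le_left) (u' x) - res F (hVle'.trans inf_le_right) (u' y)) =
        0 := by
      rw [map_sub, res_res, res_res, e1, e2, sub_self]
    obtain ⟨m, hm⟩ := QcAbel.killP_of_isQuasicoherent F V hV (resR (le_top : V ≤ ⊤) f) _
      (hO V) _ hd0
    exact eq_zero_of_pow_smul F f hreg V m _ hm
  obtain ⟨t', ht'⟩ := TwistSec.glue_of_compatible F (fun x : S => (W x.1).1) ⊤
    (fun _ => le_top)
    (by
      intro y _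
      obtain ⟨x, hxS, hyx⟩ : ∃ x ∈ S, y ∈ (W x).1 := by
        have := hS (Set.mem_univ y)
        simpa using this
      exact Opens.mem_iSup.2 ⟨⟨x, hxS⟩, hyx⟩)
    (fun x => u' x.1)
    (fun x y => hcompat x.1 x.2 y.1 y.2)
  refine ⟨n, t', ?_⟩
  apply TwistSec.eq_of_locally
  intro y hy
  obtain ⟨x, hxS, hyx⟩ : ∃ x ∈ S, y ∈ (W x).1 := by
    have := hS (Set.mem_univ y)
    simpa using this
  refine ⟨X.basicOpen f ⊓ (W x).1, inf_le_left, ⟨hy, hyx⟩, ?_⟩
  rw [res_res, res_smul, map_pow, resR_resR,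
    ← res_res F (le_top : (W x).1 ≤ ⊤) inf_le_right, ht' ⟨x, hxS⟩]
  exact hu' x hxS

/-- a trivialisation of the restriction along an open immersion gives a free generator -/
theorem isGen_of_iso_openImm {Y : Scheme.{u}} (j : Y ⟶ X) [IsOpenImmersion j] {L : X.Modules}
    (e : L.restrict j ≅ Coh.structureModule Y) :
    IsGen L (j ''ᵁ ⊤) (e.inv.app ⊤
      (show Γ(Coh.structureModule Y, ⊤) from (1 : Γ(Y, ⊤)))) := by
  set a : Γ(L, j ''ᵁ ⊤) := e.inv.app ⊤
    (show Γ(Coh.structureModule Y, ⊤) from (1 : Γ(Y, ⊤))) with ha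
  intro V hV
  obtain ⟨V', rfl⟩ : ∃ V' : Y.Opens, V = j ''ᵁ V' :=
    ⟨j ⁻¹ᵁ V, (image_preimage_eq_of_le j (by
      rw [← Scheme.Hom.image_top_eq_opensRange]; exact hV)).symm⟩
  have hb : Function.Bijective (e.inv.app V') := by
    have : IsIso (e.inv.app V') := inferInstance
    exact (ConcreteCategory.isIso_iff_bijective _).1 this
  have hb2 : Function.Bijective ((j.appIso V').hom.hom) :=
    (ConcreteCategory.isIso_iff_bijective (j.appIso V').hom).1 inferInstance
  let one' : Γ(Coh.structureModule Y, V') := (1 : Γ(Y, V'))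
  have key : ∀ r : Γ(X, j ''ᵁ V'), r • res L hV a =
      e.inv.app V' (show Γ(Coh.structureModule Y, V') from (j.appIso V').hom.hom r) := by
    intro r
    have h1 : res L hV a = e.inv.app V' one' := by
      have := QcExt.app_res e.inv (le_top : V' ≤ ⊤)
        (show Γ(Coh.structureModule Y, ⊤) from (1 : Γ(Y, ⊤)))
      change res (L.restrict j) (le_top : V' ≤ ⊤) (e.inv.app ⊤ _) = _
      rw [← this]
      congr 1
      exact map_one (resR (le_top : V' ≤ ⊤))
    have h2 : (show Γ(Coh.structureModule Y, V') from (j.appIso V').hom.hom r) =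
        (j.appIso V').hom.hom r • one' := by
      change _ = (j.appIso V').hom.hom r * (1 : Γ(Y, V'))
      rw [mul_one]
    rw [h2, Scheme.Modules.Hom.app_smul, ← h1, smul_restrict]
    change r • res L hV a = (j.appIso V').inv.hom ((j.appIso V').hom.hom r) • res L hV a
    congr 1
    exact (congr($((j.appIso V').hom_inv_id) r)).symm
  have : (fun r : Γ(X, j ''ᵁ V') => r • res L hV a) =
      (e.inv.app V') ∘ (fun r => (show Γ(Coh.structureModule Y, V') from
        (j.appIso V').hom.hom r)) := by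
    funext r
    exact key r
  rw [this]
  exact hb.comp hb2

end Ext

section Vert

variable (R : Type u) [CommRing R] [IsDomain R] [IsDiscreteValuationRing R]
  (X : Over (Spec (CommRingCat.of R)))

theorem mem_basicOpen_toGlobal_iff (ϖ : R) (x : X.left) :
    x ∈ X.left.basicOpen (show Γ(X.left, ⊤) from Coh.toGlobal X.hom ϖ) ↔
      ϖ ∉ (X.hom.base x).asIdeal := by
  have hpre := Scheme.preimage_basicOpen X.hom ((Scheme.ΓSpecIso (CommRingCat.of R)).inv ϖ)
  have h1 : x ∈ X.left.basicOpen (show Γ(X.left, ⊤) from Coh.toGlobal X.hom ϖ) ↔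
      X.hom.base x ∈ (Spec (CommRingCat.of R)).basicOpen
        ((Scheme.ΓSpecIso (CommRingCat.of R)).inv ϖ) := by
    constructor
    · intro h
      have h3 : x ∈ X.hom ⁻¹ᵁ (Spec (CommRingCat.of R)).basicOpen
          ((Scheme.ΓSpecIso (CommRingCat.of R)).inv ϖ) := by
        rw [hpre]
        exact h
      exact h3
    · intro h
      have h3 : x ∈ X.hom ⁻¹ᵁ (Spec (CommRingCat.of R)).basicOpen
          ((Scheme.ΓSpecIso (CommRingCat.of R)).inv ϖ) := h
      rw [hpre] at h3
      exact h3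
  rw [h1, basicOpen_eq_of_affine]
  exact Iff.rfl

theorem base_eq_closedPoint_of_mem (ϖ : R) (hϖ : Irreducible ϖ) (x : X.left)
    (h : ϖ ∈ (X.hom.base x).asIdeal) : X.hom.base x = closedPoint R := by
  apply PrimeSpectrum.ext
  show (X.hom.base x).asIdeal = maximalIdeal R
  have hle : maximalIdeal R ≤ (X.hom.base x).asIdeal := by
    rw [hϖ.maximalIdeal_eq, Ideal.span_singleton_le_iff_mem]
    exact h
  exact ((maximalIdeal.isMaximal R).eq_of_le (X.hom.base x).isPrime.ne_top hle).symm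

theorem exists_preimage_of_notMem {C : Scheme.{u}}
    (f : C ⟶ Spec (CommRingCat.of (FractionRing R))) (g : C ⟶ X.left)
    (hg : IsPullback g f X.hom
      (Spec.map (CommRingCat.ofHom (algebraMap R (FractionRing R)))))
    (ϖ : R) (hϖ : Irreducible ϖ) (x : X.left) (hx : ϖ ∉ (X.hom.base x).asIdeal) :
    ∃ c : C, g.base c = x := by
  have hbot : (X.hom.base x).asIdeal = ⊥ := by
    by_contra hne
    have hmax : (X.hom.base x).asIdeal.IsMaximal := (X.hom.base x).isPrime.isMaximal hne
    have h1 : (X.hom.base x).asIdeal = maximalIdeal R := IsLocalRing.eq_maximalIdeal hmax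
    apply hx
    rw [h1, hϖ.maximalIdeal_eq]
    exact Ideal.mem_span_singleton_self ϖ
  let y : Spec (CommRingCat.of (FractionRing R)) :=
    (⟨⊥, Ideal.isPrime_bot⟩ : PrimeSpectrum (FractionRing R))
  have hxy : X.hom.base x =
      (Spec.map (CommRingCat.ofHom (algebraMap R (FractionRing R)))).base y := by
    apply PrimeSpectrum.ext
    rw [hbot]
    show ⊥ = Ideal.comap (algebraMap R (FractionRing R)) ⊥
    rw [← RingHom.ker_eq_comap_bot]
    exact ((RingHom.injective_iff_ker_eq_bot _).1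
      (IsFractionRing.injective R (FractionRing R))).symm
  obtain ⟨c, hc, -⟩ := Scheme.exists_preimage_of_isPullback hg x y hxy
  exact ⟨c, hc⟩

variable [Flat X.hom]

/-- a uniformiser is regular on an invertible module -/
theorem smul_sec_injective (M : X.left.Modules) (hM : PicF.IsInvertible M) (r : R) (hr : r ≠ 0)
    (V : X.left.Opens) (m : Γ(M, V))
    (h : resR (le_top : V ≤ ⊤) (show Γ(X.left, ⊤) from Coh.toGlobal X.hom r) • m = 0) :
    m = 0 := by
  apply TwistSec.eq_of_locally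
  intro x hx
  obtain ⟨W₁, a, hxW₁, ha⟩ := exists_isGen hM x
  obtain ⟨_, ⟨W, hW, rfl⟩, hxW, hWle⟩ := X.left.isBasis_affineOpens.exists_subset_of_mem_open
    (show x ∈ ((V ⊓ W₁ : X.left.Opens) : Set X.left) from ⟨hx, hxW₁⟩) (V ⊓ W₁).2
  have hWle' : W ≤ V ⊓ W₁ := hWle
  refine ⟨W, hWle'.trans inf_le_left, hxW, ?_⟩
  rw [map_zero]
  have ha' := ha.res (hWle'.trans inf_le_right)
  obtain ⟨c, hc⟩ := ha'.exists_coeff (res M (hWle'.trans inf_le_left) m)
  have h1 := congrArg (res M (hWle'.trans inf_le_left)) h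
  rw [res_smul, map_zero, resR_resR, ← hc, smul_smul] at h1
  have h2 : sec R X r W * c = 0 := by
    apply isGen_inj ha'
    rw [zero_smul]
    exact h1
  have hnz := sec_mem_nonZeroDivisors R X r hr ⟨W, hW⟩
  have hc0 : c = 0 := by
    rw [mul_comm] at h2
    exact (mul_right_mem_nonZeroDivisors_eq_zero_iff hnz).1 h2
  rw [← hc, hc0, zero_smul]

/-- a function which divides a power of the uniformiser over the generic fibre is regular -/
theorem regular_of_rel (ϖ : R) (hϖ : Irreducible ϖ) (W : X.left.Opens) (c : Γ(X.left, W))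
    (n : ℕ)
    (d : Γ(X.left, X.left.basicOpen (show Γ(X.left, ⊤) from Coh.toGlobal X.hom ϖ) ⊓ W))
    (hrel : resR inf_le_right c * d =
      resR le_top (show Γ(X.left, ⊤) from Coh.toGlobal X.hom ϖ) ^ n)
    (V : X.left.Opens) (hV : V ≤ W) (r : Γ(X.left, V)) (hr : r * resR hV c = 0) : r = 0 := by
  have key : ∀ (V' : X.left.Opens) (hV' : IsAffineOpen V') (hV'W : V' ≤ W)
      (r' : Γ(X.left, V')), r' * resR hV'W c = 0 → r' = 0 := by
    intro V' hV' hV'W r' hr'
    have hO'le : X.left.basicOpen (sec R X ϖ V') ≤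
        X.left.basicOpen (show Γ(X.left, ⊤) from Coh.toGlobal X.hom ϖ) ⊓ W := by
      have h0 := Scheme.basicOpen_res X.left (show Γ(X.left, ⊤) from Coh.toGlobal X.hom ϖ)
        (homOfLE (le_top : V' ≤ ⊤)).op
      intro y hy
      have hy' : y ∈ V' ⊓ X.left.basicOpen (show Γ(X.left, ⊤) from Coh.toGlobal X.hom ϖ) := by
        rw [← h0]
        exact hy
      exact ⟨hy'.2, hV'W hy'.1⟩
    haveI := hV'.isLocalization_basicOpen (sec R X ϖ V')
    have hu : IsUnit (resR (X.left.basicOpen_le (sec R X ϖ V')) (sec R X ϖ V')) :=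
      IsLocalization.Away.algebraMap_isUnit (S := Γ(X.left, X.left.basicOpen (sec R X ϖ V')))
        (sec R X ϖ V')
    have e' : resR (X.left.basicOpen_le (sec R X ϖ V')) (sec R X ϖ V') =
        resR (le_top : X.left.basicOpen (sec R X ϖ V') ≤ ⊤)
          (show Γ(X.left, ⊤) from Coh.toGlobal X.hom ϖ) :=
      resR_resR _ _ _
    have h1 : resR (X.left.basicOpen_le (sec R X ϖ V')) r' *
        resR (X.left.basicOpen_le (sec R X ϖ V')) (sec R X ϖ V') ^ n = 0 := by
      have e := congrArg (resR hO'le) hrel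
      rw [map_mul, map_pow, resR_resR, resR_resR] at e
      rw [e', ← e, ← mul_assoc]
      have e3 : resR (X.left.basicOpen_le (sec R X ϖ V')) r' *
          resR (hO'le.trans inf_le_right) c =
          resR (X.left.basicOpen_le (sec R X ϖ V')) (r' * resR hV'W c) := by
        rw [map_mul, resR_resR]
      rw [e3, hr', map_zero, zero_mul]
    have h2 : resR (X.left.basicOpen_le (sec R X ϖ V')) r' = 0 :=
      (hu.pow n).mul_left_eq_zero.1 h1
    have h3 : algebraMap Γ(X.left, V') Γ(X.left, X.left.basicOpen (sec R X ϖ V')) r' =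
        algebraMap Γ(X.left, V') Γ(X.left, X.left.basicOpen (sec R X ϖ V')) 0 := by
      rw [map_zero]
      exact h2
    obtain ⟨⟨_, k, rfl⟩, hk⟩ := (IsLocalization.eq_iff_exists
      (Submonoid.powers (sec R X ϖ V')) _).1 h3
    simp only [mul_zero] at hk
    have hnz := sec_mem_nonZeroDivisors R X ϖ hϖ.ne_zero ⟨V', hV'⟩
    have hnzk := pow_mem hnz k
    rw [mul_comm] at hk
    exact (mul_right_mem_nonZeroDivisors_eq_zero_iff hnzk).1 hk
  have h0 : (show Γ(Coh.structureModule X.left, V) from r) = 0 := by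
    apply TwistSec.eq_of_locally
    intro y hy
    obtain ⟨_, ⟨V', hV', rfl⟩, hyV', hV'le⟩ :=
      X.left.isBasis_affineOpens.exists_subset_of_mem_open
        (show y ∈ ((V : X.left.Opens) : Set X.left) from hy) V.2
    refine ⟨V', hV'le, hyV', ?_⟩
    rw [map_zero]
    change resR hV'le r = 0
    apply key V' hV' (le_trans hV'le hV)
    rw [← resR_resR hV hV'le c, ← map_mul, hr, map_zero]
  exact h0

/-- **a section which generates over the generic fibre** -/
theorem exists_vertical_section [CompactSpace X.left] {C : Scheme.{u}}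
    (f : C ⟶ Spec (CommRingCat.of (FractionRing R))) (g : C ⟶ X.left)
    (hg : IsPullback g f X.hom
      (Spec.map (CommRingCat.ofHom (algebraMap R (FractionRing R)))))
    (M : X.left.Modules) (hM : PicF.IsInvertible M)
    (htriv : Nonempty ((Scheme.Modules.pullback g).obj M ≅ Coh.structureModule C)) :
    ∃ s : Coh.structureModule X.left ⟶ M, ∀ x : X.left,
      ∃ (W : X.left.affineOpens) (e : Γ(M, W.1)) (c : Γ(X.left, W.1)),
        x ∈ W.1 ∧ IsGen M W.1 e ∧ secVal s W.1 = c • e ∧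
        (∀ (V : X.left.Opens) (hV : V ≤ W.1) (r : Γ(X.left, V)), r * resR hV c = 0 → r = 0) ∧
        ∀ y ∈ W.1, X.hom.base y ≠ closedPoint R → y ∈ X.left.basicOpen c := by
  classical
  obtain ⟨ϖ, hϖ⟩ := IsDiscreteValuationRing.exists_irreducible R
  obtain ⟨θ⟩ := htriv
  haveI : IsLocalization.Away ϖ (FractionRing R) :=
    Groth.Agent.Lib.Helper6.DVRFib.isLocalization_away_of_isFractionRing ϖ hϖ
  have hq : IsOpenImmersion (Spec.map (CommRingCat.ofHom (algebraMap R (FractionRing R)))) :=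
    IsOpenImmersion.of_isLocalization ϖ
  haveI : IsOpenImmersion g := MorphismProperty.of_isPullback (P := @IsOpenImmersion) hg.flip hq
  haveI : M.IsQuasicoherent := InvQc.isQuasicoherent_of_isInvertible M hM
  let θ' : M.restrict g ≅ Coh.structureModule C :=
    (Scheme.Modules.restrictFunctorIsoPullback g).app M ≪≫ θ
  have hgen := isGen_of_iso_openImm g θ'
  have hle : X.left.basicOpen (show Γ(X.left, ⊤) from Coh.toGlobal X.hom ϖ) ≤ g ''ᵁ ⊤ := by
    intro x hx
    have hx' := (mem_basicOpen_toGlobal_iff R X ϖ x).1 hx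
    obtain ⟨c, hc⟩ := exists_preimage_of_notMem R X f g hg ϖ hϖ x hx'
    exact ⟨c, trivial, hc⟩
  have hgen' := hgen.res hle
  obtain ⟨n, t', ht'⟩ := exists_global_extend M
    (show Γ(X.left, ⊤) from Coh.toGlobal X.hom ϖ)
    (fun V m h => smul_sec_injective R X M hM ϖ hϖ.ne_zero V m h) (res M hle _)
  refine ⟨TwistAmple.homOfSec M t', fun x => ?_⟩
  obtain ⟨W₁, a, hxW₁, ha⟩ := exists_isGen hM x
  obtain ⟨_, ⟨W, hW, rfl⟩, hxW, hWle⟩ := X.left.isBasis_affineOpens.exists_subset_of_mem_open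
    (show x ∈ ((W₁ : X.left.Opens) : Set X.left) from hxW₁) W₁.2
  have hWle' : W ≤ W₁ := hWle
  have ha' := ha.res hWle'
  obtain ⟨c, hc⟩ := ha'.exists_coeff (res M (le_top : W ≤ ⊤) t')
  have htO := hgen'.res (inf_le_left :
    X.left.basicOpen (show Γ(X.left, ⊤) from Coh.toGlobal X.hom ϖ) ⊓ W ≤ _)
  obtain ⟨d, hd⟩ := htO.exists_coeff (res M (inf_le_right :
    X.left.basicOpen (show Γ(X.left, ⊤) from Coh.toGlobal X.hom ϖ) ⊓ W ≤ W) (res M hWle' a))
  have hrel : resR (inf_le_right :
      X.left.basicOpen (show Γ(X.left, ⊤) from Coh.toGlobal X.hom ϖ) ⊓ W ≤ W) c * d =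
      resR le_top (show Γ(X.left, ⊤) from Coh.toGlobal X.hom ϖ) ^ n := by
    apply isGen_inj htO
    rw [mul_smul, hd, ← res_smul, hc, res_res]
    have h1 := congrArg (res M (inf_le_left :
      X.left.basicOpen (show Γ(X.left, ⊤) from Coh.toGlobal X.hom ϖ) ⊓ W ≤ _)) ht'
    rw [res_res, res_smul, map_pow, resR_resR] at h1
    exact h1
  refine ⟨⟨W, hW⟩, res M hWle' a, c, hxW, ha', ?_, ?_, ?_⟩
  · rw [AmpleLib.secVal_homOfSec]
    exact hc.symm
  · intro V hV r hr
    exact regular_of_rel R X ϖ hϖ W c n d hrel V hV r hr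
  · intro y hyW hy
    have hyF : y ∈ X.left.basicOpen (show Γ(X.left, ⊤) from Coh.toGlobal X.hom ϖ) := by
      rw [mem_basicOpen_toGlobal_iff]
      intro hmem
      exact hy (base_eq_closedPoint_of_mem R X ϖ hϖ y hmem)
    have hyO : y ∈ X.left.basicOpen (show Γ(X.left, ⊤) from Coh.toGlobal X.hom ϖ) ⊓ W :=
      ⟨hyF, hyW⟩
    rw [X.left.mem_basicOpen c y hyW]
    have h1 := congrArg (X.left.presheaf.germ _ y hyO).hom hrel
    rw [map_mul, map_pow] at h1
    have e1 : (X.left.presheaf.germ _ y hyO).hom (resR inf_le_right c) =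
        (X.left.presheaf.germ W y hyW).hom c :=
      X.left.presheaf.germ_res_apply (homOfLE inf_le_right) y hyO c
    have e2 : (X.left.presheaf.germ _ y hyO).hom
        (resR le_top (show Γ(X.left, ⊤) from Coh.toGlobal X.hom ϖ)) =
        (X.left.presheaf.germ ⊤ y trivial).hom
          (show Γ(X.left, ⊤) from Coh.toGlobal X.hom ϖ) :=
      X.left.presheaf.germ_res_apply (homOfLE le_top) y hyO _
    have hu : IsUnit ((X.left.presheaf.germ ⊤ y trivial).hom
        (show Γ(X.left, ⊤) from Coh.toGlobal X.hom ϖ)) :=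
      (X.left.mem_basicOpen (U := ⊤) (show Γ(X.left, ⊤) from Coh.toGlobal X.hom ϖ) y
        (show y ∈ (⊤ : X.left.Opens) from trivial)).1 hyF
    rw [e1, e2] at h1
    exact isUnit_of_mul_isUnit_left (h1 ▸ hu.pow n)

end Vert

end Groth.Agent.Helper1.PicV
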