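import Mathlib
import Groth.Agent.Lib.Helper1.PicV4
import Groth.Agent.Lib.Helper2.Dual.ZeroPull

/-!
# Line bundles on a regular model which are trivial on the generic fibre (helper1)

Such a line bundle is `O_X(Σ b_i Γ_i)` for the components `Γ_i` of the closed fibre.
-/

set_option autoImplicit false
set_option backward.isDefEq.respectTransparency.types false
universe u
open CategoryTheory CategoryTheory.Limits AlgebraicGeometry TopologicalSpace Opposite IsLocalRing
open Groth.Agent.Helper1

namespace Groth.Agent.Helper1.PicV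

open Groth.Agent.Lead.PicCalc Groth.Agent.Lead.IdM Groth.Agent.Helper1.QcCech
open Groth.Agent.Helper1.LGen Groth.Agent.Helper1.SpFib

theorem resR_self' {X : Scheme.{u}} {O : X.Opens} (h : O ≤ O) (r : Γ(X, O)) : resR h r = r := by
  have : (homOfLE h).op = 𝟙 _ := Subsingleton.elim _ _
  change (X.presheaf.map (homOfLE h).op).hom r = r
  rw [this, CategoryTheory.Functor.map_id]
  rfl

section Main

variable (R : Type u) [CommRing R] [IsDomain R] [IsDiscreteValuationRing R]
  (X : Over (Spec (CommRingCat.of R)))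
  (hreg : ∀ x : X.left, IsRegularLocalRing (X.left.presheaf.stalk x))
  [Flat X.hom] {n : ℕ} (Γ : Fin n → ArSurf.VertComp R X)
  (hinj : Function.Injective fun i => Set.range (Γ i).ι.base)
  (hcov : ∀ x : X.left, X.hom.base x = closedPoint R → ∃ i, x ∈ Set.range (Γ i).ι.base)

include hreg hinj hcov in
/-- **a line bundle which is trivial on the generic fibre is a combination of the components of
the closed fibre** (class form) -/
theorem exists_cl_eq_prod [IsLocallyNoetherian X.left] [CompactSpace X.left] {C : Scheme.{u}}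
    (f : C ⟶ Spec (CommRingCat.of (FractionRing R))) (g : C ⟶ X.left)
    (hg : IsPullback g f X.hom
      (Spec.map (CommRingCat.ofHom (algebraMap R (FractionRing R)))))
    (L : Fin n → X.left.Modules)
    (hL : ∀ j, ClSub.IsInverseOf (L j) (ClSub.idealMod (Γ j).ι.ker))
    (M : X.left.Modules) (hM : PicF.IsInvertible M)
    (htriv : Nonempty ((Scheme.Modules.pullback g).obj M ≅ Coh.structureModule C)) :
    ∃ b : Fin n → ℕ, PicF.cl M = ∏ j, PicF.cl (L j) ^ b j := by
  classical
  obtain ⟨s, hs⟩ := exists_vertical_section R X f g hg M hM htriv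
  choose W e c hxW he hc hregc hbo using hs
  have hinj0 : ∀ (V : X.left.Opens) (ρ : Γ(X.left, V)), ρ • secVal s V = 0 → ρ = 0 := by
    intro V ρ hρ
    have h0 : (show Γ(Coh.structureModule X.left, V) from ρ) = 0 := by
      apply TwistSec.eq_of_locally
      intro x hx
      refine ⟨V ⊓ (W x).1, inf_le_left, ⟨hx, hxW x⟩, ?_⟩
      rw [map_zero]
      change resR inf_le_left ρ = 0
      apply hregc x (V ⊓ (W x).1) inf_le_right
      apply isGen_inj ((he x).res (inf_le_right : V ⊓ (W x).1 ≤ (W x).1))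
      rw [zero_smul, mul_smul, ← res_smul, ← hc x, res_secVal,
        ← res_secVal s (inf_le_left : V ⊓ (W x).1 ≤ V), ← res_smul, hρ, map_zero]
    exact h0
  haveI : Mono s := by
    apply SubSh.mono_of_app_injective
    intro V
    rw [injective_iff_map_eq_zero]
    intro ρ hρ
    have h2 := app_eq_smul s V (show Γ(X.left, V) from ρ)
    exact hinj0 V ρ (h2.symm.trans hρ)
  have hJloc : ∀ x : X.left, ∃ W' : X.left.affineOpens, x ∈ W'.1 ∧ ∃ f' : Γ(X.left, W'.1),
      f' ∈ nonZeroDivisors Γ(X.left, W'.1) ∧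
        (PicF2.zeroScheme M s).ideal W' = Ideal.span {f'} := by
    intro x
    refine ⟨W x, hxW x, c x, ?_, ?_⟩
    · rw [mem_nonZeroDivisors_iff_right]
      intro r hr
      apply hregc x (W x).1 le_rfl r
      rw [resR_self']
      exact hr
    · rw [Groth.Agent.Helper2.ZeroConn.ideal_zeroScheme hM s (W x),
        Groth.Agent.Lead.MeroL.zI_eq_span s (he x) (c x) (hc x)]
  have hsupp : ∀ x ∈ (PicF2.zeroScheme M s).support, X.hom.base x = closedPoint R := by
    intro x hx
    by_contra hne
    have h1 := hbo x x (hxW x) hne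
    exact (Groth.Agent.Helper2.ZeroPull.mem_support_zeroScheme_iff hM s (W x) (he x) (c x)
      (hc x) x (hxW x)).1 hx h1
  have hfac := eq_prod_of_support R X hreg Γ hinj hcov (PicF2.zeroScheme M s) hJloc hsupp
  have hinv := Groth.Agent.Helper2.ZeroConn.isInverseOf_idealMod_zeroScheme hM s
  have hinvI := fun j => ArInt.isInvertible_idealMod_of_isInverseOf R X _ (L j) (hL j)
  set u : Fin n → PicF.Cl X.left := fun j => PicF.cl (L j) with hu
  set v : Fin n → PicF.Cl X.left := fun j => PicF.cl (ClSub.idealMod (Γ j).ι.ker) with hv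
  have huv : ∀ j, u j * v j = 1 := fun j => cl_eq_of_iso (hL j).some
  have huvprod : ∀ e : Fin n → ℕ, (∏ j, u j ^ e j) * (∏ j, v j ^ e j) = 1 := by
    intro e
    rw [← Finset.prod_mul_distrib]
    apply Finset.prod_eq_one
    intro j _
    rw [← mul_pow, huv, one_pow]
  have hvJ : ∀ e : Fin n → ℕ,
      PicF.cl (ClSub.idealMod (∏ j, (Γ j).ι.ker ^ e j)) = ∏ j, v j ^ e j :=
    fun e => cl_idealMod_prod_pow (fun j => (Γ j).ι.ker) e hinvI Finset.univ
  refine ⟨fun j => ordAt R X Γ (PicF2.zeroScheme M s) j, ?_⟩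
  have h1 : PicF.cl M * PicF.cl (ClSub.idealMod (PicF2.zeroScheme M s)) = 1 :=
    cl_eq_of_iso hinv.some
  have h2 : PicF.cl (ClSub.idealMod (PicF2.zeroScheme M s)) =
      ∏ j, v j ^ ordAt R X Γ (PicF2.zeroScheme M s) j :=
    (congrArg (fun I => PicF.cl (ClSub.idealMod I)) hfac).trans (hvJ _)
  calc PicF.cl M = PicF.cl M * ((∏ j, u j ^ ordAt R X Γ (PicF2.zeroScheme M s) j) *
        (∏ j, v j ^ ordAt R X Γ (PicF2.zeroScheme M s) j)) := by rw [huvprod, mul_one]
    _ = (PicF.cl M * ∏ j, v j ^ ordAt R X Γ (PicF2.zeroScheme M s) j) *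
        ∏ j, u j ^ ordAt R X Γ (PicF2.zeroScheme M s) j := by
      rw [mul_comm (∏ j, u j ^ ordAt R X Γ (PicF2.zeroScheme M s) j), mul_assoc]
    _ = ∏ j, u j ^ ordAt R X Γ (PicF2.zeroScheme M s) j := by rw [← h2, h1, one_mul]

include hreg hinj hcov in
/-- **S3315** over an `Over` object -/
theorem exists_tensor_multiTwist_iso [IsLocallyNoetherian X.left] [CompactSpace X.left]
    {C : Scheme.{u}}
    (f : C ⟶ Spec (CommRingCat.of (FractionRing R))) (g : C ⟶ X.left)
    (hg : IsPullback g f X.hom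
      (Spec.map (CommRingCat.ofHom (algebraMap R (FractionRing R)))))
    (L : Fin n → X.left.Modules)
    (hL : ∀ j, ClSub.IsInverseOf (L j) (ClSub.idealMod (Γ j).ι.ker))
    (M : X.left.Modules) (hM : PicF.IsInvertible M)
    (htriv : Nonempty ((Scheme.Modules.pullback g).obj M ≅ Coh.structureModule C)) :
    ∃ a b : Fin n → ℕ,
      Nonempty (CohB1.tensorMod M (FGA.multiTwist L a) ≅ FGA.multiTwist L b) := by
  obtain ⟨b, hb⟩ := exists_cl_eq_prod R X hreg Γ hinj hcov f g hg L hL M hM htriv
  refine ⟨fun _ => 0, b, ?_⟩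
  rw [← cl_eq_iff, cl_multiTwist]
  show PicF.cl M * PicF.cl (FGA.multiTwist L fun _ => 0) = _
  rw [cl_multiTwist]
  simp only [pow_zero, Finset.prod_const_one, mul_one]
  exact hb

end Main

end Groth.Agent.Helper1.PicV
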