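import Mathlib
import Groth.Agent.Lib.Helper1.GenusOne1
import Groth.Agent.Lib.Helper1.PullGen2
import Groth.Agent.Lib.Helper1.SecOps
import Groth.Agent.Lib.Helper1.HH0
import Groth.Agent.Lib.Helper1.GrTwAmple

/-!
# Sections of line bundles of non-positive degree on reduced connected curves (helper1)
-/

set_option autoImplicit false
universe u
open CategoryTheory CategoryTheory.Limits AlgebraicGeometry TopologicalSpace Opposite

namespace Groth.Agent.Helper1.RedCurve

open Groth.Agent.Helper1 Groth.Agent.Helper1.LGen Groth.Agent.Helper1.QcCech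

section Dich
variable (k : Type u) [Field k] (Y : Scheme.{u}) [Y.Over (Spec (CommRingCat.of k))]
  [IsIntegral Y] [IsProper (Y ↘ (Spec (CommRingCat.of k)))]

theorem genLocus_eq_bot_or_top (hdim : topologicalKrullDim Y = 1) {M : Y.Modules}
    (hM : PicF.IsInvertible M) (hdeg : Curv2.deg k Y M 1 ≤ 0) (s : Coh.structureModule Y ⟶ M) :
    CohB1.genLocus M s = ⊥ ∨ CohB1.genLocus M s = ⊤ := by
  by_cases hs : s = 0
  · left; rw [hs]; exact SecOps.genLocus_zero hM
  · right
    have he : Curv2.euler k Y M ≤ Curv2.euler k Y (Coh.structureModule Y) := by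
      unfold Curv2.deg at hdeg
      push_cast at hdeg
      linarith
    haveI := GenusOne.isIso_of_euler_le k Y hdim GenLoc.isInvertible_O hM s hs he
    have := GrTwAmple.genLocus_comp_iso (𝟙 (Coh.structureModule Y)) (asIso s)
    rw [AmpleLib.genLocus_id] at this
    simpa using this

end Dich

section Comp
variable {X : Scheme.{u}} (I : X.IdealSheafData)

theorem isReduced_radical_subscheme : IsReduced I.radical.subscheme := by
  haveI : ∀ U, IsReduced (I.radical.subschemeCover.openCover.X U) := by
    intro (U : X.affineOpens)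
    change IsReduced (Spec (.of (Γ(X, U.1) ⧸ I.radical.ideal U)))
    haveI : _root_.IsReduced (Γ(X, U.1) ⧸ I.radical.ideal U) := by
      rw [Scheme.IdealSheafData.radical_ideal]
      exact (Ideal.isRadical_iff_quotient_reduced _).1 (Ideal.radical_isRadical _)
    infer_instance
  exact IsReduced.of_openCover _ I.radical.subschemeCover.openCover

end Comp

section Main

variable (k : Type u) [Field k] (X : Scheme.{u}) [X.Over (Spec (CommRingCat.of k))]
  [IsProper (X ↘ (Spec (CommRingCat.of k)))] [IsNoetherian X]

include k in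
/-- the locus of generation of a section is a union of components -/
theorem subset_genLocus_of_mem
    (hdim : ∀ (C : Set X), C ∈ irreducibleComponents (X : Type u) → topologicalKrullDim C = 1)
    (L : X.Modules) (hL : PicF.IsInvertible L)
    (hdeg : ∀ (C : Set X) (hC : C ∈ irreducibleComponents (X : Type u)), @Curv2.deg k _ (X.irreducibleComponentIdeal C hC).radical.subscheme ⟨(X.irreducibleComponentIdeal C hC).radical.subschemeι ≫ (X ↘ (Spec (CommRingCat.of k)))⟩ ((Scheme.Modules.pullback (X.irreducibleComponentIdeal C hC).radical.subschemeι).obj L) 1 ≤ 0)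
    (s : Coh.structureModule X ⟶ L) (C : Set X) (hC : C ∈ irreducibleComponents (X : Type u))
    (x : X) (hxC : x ∈ C) (hxG : x ∈ CohB1.genLocus L s) : C ⊆ (CohB1.genLocus L s : Set X) := by
  set G := CohB1.genLocus L s
  let I := (X.irreducibleComponentIdeal C hC).radical
  let ι := I.subschemeι
  letI : I.subscheme.Over (Spec (CommRingCat.of k)) := ⟨ι ≫ (X ↘ Spec (CommRingCat.of k))⟩
  haveI : IsProper (I.subscheme ↘ Spec (CommRingCat.of k)) := by
    change IsProper (ι ≫ (X ↘ Spec (CommRingCat.of k))); infer_instance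
  haveI : IrreducibleSpace I.subscheme := Subtype.irreducibleSpace hC.1
  haveI : IsReduced I.subscheme := isReduced_radical_subscheme _
  haveI : IsIntegral I.subscheme := isIntegral_of_irreducibleSpace_of_isReduced _
  have hd : topologicalKrullDim I.subscheme = 1 := hdim C hC
  have h1 := genLocus_eq_bot_or_top k I.subscheme hd (PullGen.isInvertible_pullback ι hL)
    (hdeg C hC) ((PullSec.unitIso ι).symm.hom ≫ (Scheme.Modules.pullback ι).map s)
  rw [PullGen.genLocus_pullback ι hL s (PullSec.unitIso ι).symm] at h1
  rcases h1 with h1 | h1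
  · exfalso
    have : (⟨x, hxC⟩ : I.subscheme) ∈ ι ⁻¹ᵁ G := hxG
    rw [h1] at this
    exact this
  · intro y hy
    have : (⟨y, hy⟩ : I.subscheme) ∈ ι ⁻¹ᵁ G := by rw [h1]; trivial
    exact this

include k in
theorem isClosed_genLocus
    (hdim : ∀ (C : Set X), C ∈ irreducibleComponents (X : Type u) → topologicalKrullDim C = 1)
    (L : X.Modules) (hL : PicF.IsInvertible L)
    (hdeg : ∀ (C : Set X) (hC : C ∈ irreducibleComponents (X : Type u)), @Curv2.deg k _ (X.irreducibleComponentIdeal C hC).radical.subscheme ⟨(X.irreducibleComponentIdeal C hC).radical.subschemeι ≫ (X ↘ (Spec (CommRingCat.of k)))⟩ ((Scheme.Modules.pullback (X.irreducibleComponentIdeal C hC).radical.subschemeι).obj L) 1 ≤ 0)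
    (s : Coh.structureModule X ⟶ L) : IsClosed (CohB1.genLocus L s : Set X) := by
  set G := CohB1.genLocus L s
  have hG : (G : Set X) = ⋃ C ∈ {C ∈ irreducibleComponents (X : Type u) | C ⊆ (G : Set X)}, C := by
    ext x
    constructor
    · intro hx
      exact Set.mem_biUnion (x := irreducibleComponent x)
        ⟨irreducibleComponent_mem_irreducibleComponents x,
          subset_genLocus_of_mem k X hdim L hL hdeg s _
            (irreducibleComponent_mem_irreducibleComponents x) x mem_irreducibleComponent hx⟩
        mem_irreducibleComponent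
    · intro hx
      obtain ⟨C, hC, hxC⟩ := Set.mem_iUnion₂.1 hx
      exact hC.2 hxC
  rw [hG]
  exact (TopologicalSpace.NoetherianSpace.finite_irreducibleComponents.subset
    (fun C hC => hC.1)).isClosed_biUnion
    (fun C hC => isClosed_of_mem_irreducibleComponents C hC.1)

theorem main [IsReduced X] [ConnectedSpace X]
    (hdim : ∀ (C : Set X), C ∈ irreducibleComponents (X : Type u) → topologicalKrullDim C = 1)
    (L : X.Modules) (hL : PicF.IsInvertible L)
    (hdeg : ∀ (C : Set X) (hC : C ∈ irreducibleComponents (X : Type u)), @Curv2.deg k _ (X.irreducibleComponentIdeal C hC).radical.subscheme ⟨(X.irreducibleComponentIdeal C hC).radical.subschemeι ≫ (X ↘ (Spec (CommRingCat.of k)))⟩ ((Scheme.Modules.pullback (X.irreducibleComponentIdeal C hC).radical.subschemeι).obj L) 1 ≤ 0) :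
    Subsingleton (Coh.HH X L 0) ∨ Nonempty (L ≅ Coh.structureModule X) := by
  by_cases hiso : Nonempty (L ≅ Coh.structureModule X)
  · exact Or.inr hiso
  left
  have hzero : ∀ σ : Γ(L, ⊤), σ = 0 := by
    intro σ
    set s := TwistAmple.homOfSec L σ with hs
    have hclopen : IsClopen (CohB1.genLocus L s : Set X) :=
      ⟨isClosed_genLocus k X hdim L hL hdeg s, (CohB1.genLocus L s).isOpen⟩
    rcases isClopen_iff.1 hclopen with h0 | h1
    · apply TwistSec.eq_of_locally L σ 0
      intro x _
      obtain ⟨W, a, hxW, ha⟩ := LGen.exists_isGen hL x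
      obtain ⟨r, hr⟩ := ha.exists_coeff (LGen.secVal s W)
      have h2 := LGen.genLocus_inf_eq_basicOpen s ha r hr
      have h3 : X.basicOpen r = ⊥ := by
        rw [← h2]
        apply Opens.ext
        rw [Opens.coe_inf, h0, Set.empty_inter]
        rfl
      have hr0 : r = 0 := (basicOpen_eq_bot_iff r).1 h3
      refine ⟨W, le_top, hxW, ?_⟩
      rw [← AmpleLib.secVal_homOfSec, ← hr, hr0, zero_smul, map_zero]
    · exfalso
      apply hiso
      have htop : CohB1.genLocus L s = ⊤ := Opens.ext h1
      have hgen : ∀ x, CurveLin.GenAt L σ x := fun x => ⟨⊤, trivial, by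
        have := AmpleLib.isGen_secVal s (W := ⊤) (by rw [htop])
        rwa [AmpleLib.secVal_homOfSec] at this⟩
      haveI := PtInv.isIso_homOfSec_of_forall_genAt σ hgen
      exact ⟨(asIso (TwistAmple.homOfSec L σ)).symm⟩
  exact ⟨fun a b => (HH0.equiv X L).injective
    ((hzero (HH0.equiv X L a)).trans (hzero (HH0.equiv X L b)).symm)⟩

end Main

end Groth.Agent.Helper1.RedCurve
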