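import Mathlib
import Groth.Agent.Lib.Helper1.PicV5
import Groth.Agent.Lib.Helper1.RedCurve1
import Groth.Agent.Lib.Helper1.ArInt3
import Groth.Agent.Lib.Helper1.Euler2

/-!
# Invertible modules on a proper flat scheme over a discrete valuation ring with reduced connected
closed fibre which are generically trivial and of non-positive degree on the components (helper1)
-/

set_option autoImplicit false
set_option backward.isDefEq.respectTransparency.types false
universe u
open CategoryTheory CategoryTheory.Limits AlgebraicGeometry TopologicalSpace Opposite IsLocalRing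
open Groth.Agent.Helper1

namespace Groth.Agent.Helper1.SemiF

open Groth.Agent.Helper1.QcCech Groth.Agent.Helper1.SubSh Groth.Agent.Helper1.LGen
open Groth.Agent.Helper1.SpFib Groth.Agent.Helper1.PicV

section Res

variable (A : Type u) [CommRing A] [IsLocalRing A]

/-- `Spec κ(closed point) ≅ Spec (A / 𝔪)`, over `Spec A` (as in lead's `ClFib`) -/
theorem exists_iso_residue :
    ∃ ε : Spec ((Spec (CommRingCat.of A)).residueField (closedPoint A)) ≅
        Spec (CommRingCat.of (IsLocalRing.ResidueField A)),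
      ε.hom ≫ Spec.map (CommRingCat.ofHom (IsLocalRing.residue A)) =
        (Spec (CommRingCat.of A)).fromSpecResidueField (closedPoint A) := by
  let x : Spec (CommRingCat.of A) := closedPoint A
  haveI : (maximalIdeal A).IsMaximal := inferInstance
  have hb := Ideal.bijective_algebraMap_quotient_residueField (maximalIdeal A)
  let β : (A ⧸ maximalIdeal A) ≃+* (maximalIdeal A).ResidueField :=
    RingEquiv.ofBijective (algebraMap (A ⧸ maximalIdeal A) (maximalIdeal A).ResidueField) hb
  let βc : CommRingCat.of (IsLocalRing.ResidueField A) ≅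
      CommRingCat.of (maximalIdeal A).ResidueField := β.toCommRingCatIso
  let m : Spec ((Spec (CommRingCat.of A)).residueField x) ⟶
      Spec (CommRingCat.of (IsLocalRing.ResidueField A)) :=
    Spec.map (Scheme.Spec.residueFieldIso (CommRingCat.of A) x).inv ≫ Spec.map βc.hom
  haveI : IsIso m := by
    dsimp only [m]
    infer_instance
  refine ⟨asIso m, ?_⟩
  have h2 : CommRingCat.ofHom (IsLocalRing.residue A) ≫ βc.hom =
      CommRingCat.ofHom (algebraMap A (maximalIdeal A).ResidueField) := by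
    apply CommRingCat.hom_ext
    apply RingHom.ext
    intro a
    rfl
  have h3 := Scheme.Spec.map_residueFieldIso_inv_eq_fromSpecResidueField (CommRingCat.of A) x
  calc (asIso m).hom ≫ Spec.map (CommRingCat.ofHom (IsLocalRing.residue A))
      = Spec.map (Scheme.Spec.residueFieldIso (CommRingCat.of A) x).inv ≫
          (Spec.map βc.hom ≫ Spec.map (CommRingCat.ofHom (IsLocalRing.residue A))) :=
        Category.assoc _ _ _
    _ = Spec.map (Scheme.Spec.residueFieldIso (CommRingCat.of A) x).inv ≫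
          Spec.map (CommRingCat.ofHom (IsLocalRing.residue A) ≫ βc.hom) := by
        rw [Spec.map_comp]
    _ = Spec.map (Scheme.Spec.residueFieldIso (CommRingCat.of A) x).inv ≫
          Spec.map (CommRingCat.ofHom (algebraMap A (maximalIdeal A).ResidueField)) :=
        congrArg (fun t => Spec.map (Scheme.Spec.residueFieldIso (CommRingCat.of A) x).inv ≫
          Spec.map t) h2
    _ = _ := h3

/-- the ideal sheaf of the closed point -/
theorem ker_Spec_residue :
    (Spec.map (CommRingCat.ofHom (IsLocalRing.residue A))).ker =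
      Curv2.idealSheaf A (maximalIdeal A) := by
  rw [Scheme.ker_of_isAffine]
  unfold Curv2.idealSheaf
  congr 1
  have hnat := Scheme.ΓSpecIso_inv_naturality (CommRingCat.ofHom (IsLocalRing.residue A))
  have key : ∀ r : A, (Spec.map (CommRingCat.ofHom (IsLocalRing.residue A))).appTop.hom
      ((Scheme.ΓSpecIso (CommRingCat.of A)).inv.hom r) =
      (Scheme.ΓSpecIso (CommRingCat.of (IsLocalRing.ResidueField A))).inv.hom
        (IsLocalRing.residue A r) := by
    intro r
    have h3 := congrArg (fun g => g.hom r) hnat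
    simp only [CommRingCat.hom_comp, RingHom.comp_apply, CommRingCat.hom_ofHom] at h3
    exact h3.symm
  apply le_antisymm
  · intro x hx
    rw [RingHom.mem_ker] at hx
    obtain ⟨r, rfl⟩ : ∃ r : A, (Scheme.ΓSpecIso (CommRingCat.of A)).inv.hom r = x := by
      refine ⟨(Scheme.ΓSpecIso (CommRingCat.of A)).hom.hom x, ?_⟩
      rw [← RingHom.comp_apply, ← CommRingCat.hom_comp, Iso.hom_inv_id]
      rfl
    rw [key] at hx
    have h4 := congrArg
      (Scheme.ΓSpecIso (CommRingCat.of (IsLocalRing.ResidueField A))).hom.hom hx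
    rw [map_zero, ← RingHom.comp_apply, ← CommRingCat.hom_comp, Iso.inv_hom_id] at h4
    have h5 : IsLocalRing.residue A r = 0 := h4
    exact Ideal.mem_map_of_mem _ ((IsLocalRing.residue_eq_zero_iff r).1 h5)
  · rw [Ideal.map_le_iff_le_comap]
    intro r hr
    rw [Ideal.mem_comap, RingHom.mem_ker, key, (IsLocalRing.residue_eq_zero_iff r).2 hr, map_zero]

end Res

section Fib

variable (R : Type u) [CommRing R] [IsDomain R] [IsDiscreteValuationRing R]
  (X : Over (Spec (CommRingCat.of R)))

theorem isClosedImmersion_fromSpecResidueField :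
    IsClosedImmersion ((Spec (CommRingCat.of R)).fromSpecResidueField (closedPoint R)) := by
  obtain ⟨ε, hε⟩ := exists_iso_residue R
  rw [← hε]
  haveI : IsClosedImmersion (Spec.map (CommRingCat.ofHom (IsLocalRing.residue R))) :=
    IsClosedImmersion.spec_of_surjective _ IsLocalRing.residue_surjective
  infer_instance

theorem isClosedImmersion_fiberι : IsClosedImmersion (X.hom.fiberι (closedPoint R)) :=
  MorphismProperty.pullback_fst (P := @IsClosedImmersion) X.hom _
    (isClosedImmersion_fromSpecResidueField R)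

/-- the ideal of the closed fibre -/
theorem ker_fiberι : (X.hom.fiberι (closedPoint R)).ker = Models.specialFibreIdeal R X := by
  haveI := isClosedImmersion_fromSpecResidueField R
  obtain ⟨ε, hε⟩ := exists_iso_residue R
  have h := Scheme.IdealSheafData.ker_fst_of_isClosedImmersion
    ((Spec (CommRingCat.of R)).fromSpecResidueField (closedPoint R)) X.hom
  have h2 : ((Spec (CommRingCat.of R)).fromSpecResidueField (closedPoint R)).ker =
      Curv2.idealSheaf R (maximalIdeal R) := by
    rw [← hε, Scheme.Hom.ker_comp_of_isIso]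
    exact ker_Spec_residue R
  rw [h2] at h
  exact h

theorem resR_sec (r : R) {U V : X.left.Opens} (h : V ≤ U) :
    resR h (sec R X r U) = sec R X r V := by
  unfold sec
  exact resR_resR le_top h _

variable [Flat X.hom]

/-- a section which vanishes along the whole reduced closed fibre is divisible by a uniformiser -/
theorem exists_div [IsReduced (X.hom.fiber (closedPoint R))] (ϖ : R) (hϖ : Irreducible ϖ)
    (M : X.left.Modules) (hM : PicF.IsInvertible M) (s : Coh.structureModule X.left ⟶ M)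
    (hs : ∀ x : X.left, X.hom.base x = closedPoint R → x ∉ CohB1.genLocus M s) :
    ∃ τ : Γ(M, ⊤), (show Γ(X.left, ⊤) from Coh.toGlobal X.hom ϖ) • τ = secVal s ⊤ := by
  haveI := isClosedImmersion_fiberι R X
  have hloc : ∀ x : X.left, ∃ (W : X.left.Opens) (t : Γ(M, W)), x ∈ W ∧
      sec R X ϖ W • t = secVal s W := by
    intro x
    obtain ⟨W₁, a, hxW₁, ha⟩ := exists_isGen hM x
    obtain ⟨_, ⟨W, hW, rfl⟩, hxW, hWle⟩ := X.left.isBasis_affineOpens.exists_subset_of_mem_open
      (show x ∈ ((W₁ : X.left.Opens) : Set X.left) from hxW₁) W₁.2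
    have hWle' : W ≤ W₁ := hWle
    have ha' := ha.res hWle'
    obtain ⟨φ, hφ⟩ := ha'.exists_coeff (secVal s W)
    have hpre := Scheme.preimage_basicOpen (X.hom.fiberι (closedPoint R)) φ
    have hbo : (X.hom.fiberι (closedPoint R)) ⁻¹ᵁ X.left.basicOpen φ = ⊥ := by
      apply le_antisymm _ bot_le
      intro y hy
      exfalso
      have hy' : (X.hom.fiberι (closedPoint R)).base y ∈ X.left.basicOpen φ := hy
      have hyW : (X.hom.fiberι (closedPoint R)).base y ∈ W := X.left.basicOpen_le φ hy'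
      have hg : (X.hom.fiberι (closedPoint R)).base y ∈ CohB1.genLocus M s :=
        (SecOps.mem_genLocus_iff_of_isGen s ha' φ hφ _ hyW).2 hy'
      have hcl : X.hom.base ((X.hom.fiberι (closedPoint R)).base y) = closedPoint R := by
        have h1 : (X.hom.fiberι (closedPoint R)).base y ∈
            Set.range (X.hom.fiberι (closedPoint R)).base := ⟨y, rfl⟩
        rw [Scheme.Hom.range_fiberι] at h1
        exact h1
      exact hs _ hcl hg
    rw [hpre] at hbo
    have hz := (basicOpen_eq_bot_iff _).1 hbo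
    have hmem : φ ∈ Ideal.span {sec R X ϖ W} := by
      rw [← specialFibreIdeal_ideal R X ϖ hϖ ⟨W, hW⟩, ← ker_fiberι R X, Scheme.Hom.ker_apply,
        RingHom.mem_ker]
      exact hz
    obtain ⟨φ', hφ'⟩ := Ideal.mem_span_singleton'.1 hmem
    refine ⟨W, φ' • res M hWle' a, hxW, ?_⟩
    rw [smul_smul, mul_comm, hφ', hφ]
  choose W t hxW ht using hloc
  obtain ⟨τ, hτ⟩ := TwistSec.glue_of_compatible M W ⊤ (fun _ => le_top)
    (fun x _ => Opens.mem_iSup.2 ⟨x, hxW x⟩) t (by
      intro x y
      have hsub : res M (inf_le_left : W x ⊓ W y ≤ W x) (t x) -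
          res M (inf_le_right : W x ⊓ W y ≤ W y) (t y) = 0 := by
        apply smul_sec_injective R X M hM ϖ hϖ.ne_zero (W x ⊓ W y)
        show sec R X ϖ (W x ⊓ W y) • _ = 0
        rw [smul_sub, sub_eq_zero]
        have h1 := congrArg (res M (inf_le_left : W x ⊓ W y ≤ W x)) (ht x)
        have h2 := congrArg (res M (inf_le_right : W x ⊓ W y ≤ W y)) (ht y)
        rw [res_smul, res_secVal, resR_sec] at h1 h2
        rw [h1, h2]
      exact sub_eq_zero.1 hsub)
  refine ⟨τ, ?_⟩
  apply TwistSec.eq_of_locally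
  intro x _
  refine ⟨W x, le_top, hxW x, ?_⟩
  rw [res_smul, hτ x, res_secVal]
  exact ht x

/-- removing the largest power of the uniformiser from a section generating over the generic
fibre -/
theorem exists_primitive [IsLocallyNoetherian X.left] (ϖ : R) (hϖ : Irreducible ϖ)
    (M : X.left.Modules) (hM : PicF.IsInvertible M) (s : Coh.structureModule X.left ⟶ M)
    (hoff : ∀ y : X.left, X.hom.base y ≠ closedPoint R → y ∈ CohB1.genLocus M s)
    (x₀ : X.left) (hx₀ : X.hom.base x₀ = closedPoint R)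
    (W₀ : X.left.affineOpens) (e₀ : Γ(M, W₀.1)) (c₀ : Γ(X.left, W₀.1)) (hx₀W : x₀ ∈ W₀.1)
    (he₀ : IsGen M W₀.1 e₀) (hc₀ : secVal s W₀.1 = c₀ • e₀)
    (hreg : ∀ r : Γ(X.left, W₀.1), r * c₀ = 0 → r = 0) :
    ∃ τ : Γ(M, ⊤), (∀ y : X.left, X.hom.base y ≠ closedPoint R →
        y ∈ CohB1.genLocus M (TwistAmple.homOfSec M τ)) ∧
      ¬ ∃ τ' : Γ(M, ⊤), (show Γ(X.left, ⊤) from Coh.toGlobal X.hom ϖ) • τ' = τ := by
  classical
  obtain ⟨θ, hθ⟩ : ∃ θ : Γ(X.left, ⊤), θ = Coh.toGlobal X.hom ϖ := ⟨_, rfl⟩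
  have hsecθ : ∀ V : X.left.Opens, resR (le_top : V ≤ ⊤) θ = sec R X ϖ V := by
    intro V
    rw [hθ]
    rfl
  let P : ℕ → Prop := fun n => ∃ τ : Γ(M, ⊤), θ ^ n • τ = secVal s ⊤
  have hP0 : P 0 := ⟨secVal s ⊤, by rw [pow_zero, one_smul]⟩
  have hex : ∃ n, ¬ P n := by
    by_contra hall
    push Not at hall
    haveI : IsNoetherianRing Γ(X.left, W₀.1) := IsLocallyNoetherian.component_noetherian W₀
    have hmem : ∀ n : ℕ, c₀ ∈ (Ideal.span {sec R X ϖ W₀.1}) ^ n := by
      intro n
      obtain ⟨τ, hτ⟩ := hall n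
      obtain ⟨c, hc⟩ := he₀.exists_coeff (res M (le_top : W₀.1 ≤ ⊤) τ)
      have h1 := congrArg (res M (le_top : W₀.1 ≤ ⊤)) hτ
      rw [res_smul, res_secVal, map_pow, hsecθ, ← hc, smul_smul, hc₀] at h1
      have h2 : sec R X ϖ W₀.1 ^ n * c = c₀ := isGen_inj he₀ h1
      rw [← h2, Ideal.span_singleton_pow]
      exact Ideal.mul_mem_right _ _ (Ideal.mem_span_singleton_self _)
    have hinf : c₀ ∈ (⨅ i : ℕ, (Ideal.span {sec R X ϖ W₀.1}) ^ i •
        (⊤ : Submodule Γ(X.left, W₀.1) Γ(X.left, W₀.1))) := by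
      rw [Submodule.mem_iInf]
      intro n
      have h1 := Submodule.smul_mem_smul (hmem n)
        (Submodule.mem_top (x := (1 : Γ(X.left, W₀.1))))
      convert h1 using 1
      rw [smul_eq_mul, mul_one]
    obtain ⟨r, hr⟩ := (Ideal.mem_iInf_smul_pow_eq_bot_iff _ c₀).1 hinf
    have h3 : ((r : Γ(X.left, W₀.1)) - 1) * c₀ = 0 := by
      rw [sub_mul, one_mul, sub_eq_zero]
      exact hr
    have h4 : (r : Γ(X.left, W₀.1)) = 1 := sub_eq_zero.1 (hreg _ h3)
    have h5 : (1 : Γ(X.left, W₀.1)) ∈ Ideal.span {sec R X ϖ W₀.1} := h4 ▸ r.2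
    obtain ⟨b, hb⟩ := Ideal.mem_span_singleton'.1 h5
    have hu : IsUnit (sec R X ϖ W₀.1) := IsUnit.of_mul_eq_one_right b hb
    have h6 : x₀ ∈ X.left.basicOpen (sec R X ϖ W₀.1) := by
      rw [Scheme.basicOpen_of_isUnit _ hu]
      exact hx₀W
    have h7 : x₀ ∈ X.left.basicOpen (show Γ(X.left, ⊤) from Coh.toGlobal X.hom ϖ) := by
      have h0 := Scheme.basicOpen_res X.left (show Γ(X.left, ⊤) from Coh.toGlobal X.hom ϖ)
        (homOfLE (le_top : W₀.1 ≤ ⊤)).op
      have h8 : x₀ ∈ W₀.1 ⊓ X.left.basicOpen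
          (show Γ(X.left, ⊤) from Coh.toGlobal X.hom ϖ) := by
        rw [← h0]
        exact h6
      exact h8.2
    have h8 := (mem_basicOpen_toGlobal_iff R X ϖ x₀).1 h7
    apply h8
    rw [hx₀]
    show ϖ ∈ maximalIdeal R
    rw [hϖ.maximalIdeal_eq]
    exact Ideal.mem_span_singleton_self ϖ
  have hn0 : Nat.find hex ≠ 0 := fun h => Nat.find_spec hex (h ▸ hP0)
  obtain ⟨m, hm⟩ := Nat.exists_eq_succ_of_ne_zero hn0
  have hPm : P m := by
    by_contra h
    exact Nat.find_min hex (by rw [hm]; exact Nat.lt_succ_self m) h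
  obtain ⟨τ, hτ⟩ := hPm
  refine ⟨τ, ?_, ?_⟩
  · intro y hy
    have hyg := hoff y hy
    obtain ⟨W₁, a, hyW₁, ha⟩ := exists_isGen hM y
    obtain ⟨φ', hφ'⟩ := ha.exists_coeff (res M (le_top : W₁ ≤ ⊤) τ)
    have h0 := congrArg (res M (le_top : W₁ ≤ ⊤)) hτ
    rw [res_smul, res_secVal, map_pow, hsecθ] at h0
    have h1 : (sec R X ϖ W₁ ^ m * φ') • a = secVal s W₁ := by
      rw [mul_smul, hφ']
      exact h0
    have h2 := (SecOps.mem_genLocus_iff_of_isGen s ha _ h1 y hyW₁).1 hyg
    rw [Scheme.basicOpen_mul] at h2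
    have h3 : φ' • a = secVal (TwistAmple.homOfSec M τ) W₁ := by
      rw [AmpleLib.secVal_homOfSec]
      exact hφ'
    exact (SecOps.mem_genLocus_iff_of_isGen (TwistAmple.homOfSec M τ) ha φ' h3 y hyW₁).2 h2.2
  · rintro ⟨τ', hτ'⟩
    apply Nat.find_spec hex
    rw [hm]
    refine ⟨τ', ?_⟩
    rw [pow_succ, mul_smul, hθ, hτ', ← hθ]
    exact hτ

end Fib

end Groth.Agent.Helper1.SemiF
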