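import Mathlib
import Groth.Agent.Lib.Helper4.LocNoethFib1
import Groth.Agent.Lib.Helper4.Chev3
import Groth.Agent.Lib.Helper4.DimIneq4
import Groth.Agent.Lib.Helper1.SemiF1
import Groth.Agent.Lib.Helper1.SpFib4
import Groth.Agent.Lib.Helper1.Dv19

/-!
# The irreducible components of the closed fibre of a fibred surface over a discrete valuation
ring have dimension one and form a component list (helper1)
-/

set_option autoImplicit false
universe u
open CategoryTheory CategoryTheory.Limits AlgebraicGeometry TopologicalSpace Opposite IsLocalRing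

namespace Groth.Agent.Helper1.CompL

open Groth.Agent.Helper1 Groth.Agent.Lib.Helper4

section Top

theorem one_le_dim_of_specializes {T : Type*} [TopologicalSpace T] [T0Space T] {a b : T}
    (h : a ⤳ b) (hne : a ≠ b) : 1 ≤ topologicalKrullDim T := by
  unfold topologicalKrullDim
  rw [Order.one_le_krullDim_iff]
  refine ⟨⟨closure {b}, isIrreducible_singleton.closure, isClosed_closure⟩,
    ⟨closure {a}, isIrreducible_singleton.closure, isClosed_closure⟩, ?_⟩
  refine lt_of_le_of_ne ?_ ?_
  · show closure ({b} : Set T) ⊆ closure {a}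
    exact specializes_iff_closure_subset.1 h
  · intro he
    have h2 : closure ({b} : Set T) = closure {a} :=
      congrArg (fun z : IrreducibleCloseds T => (z : Set T)) he
    have hba : b ⤳ a := specializes_iff_closure_subset.2 h2.ge
    exact hne (h.antisymm hba).eq

theorem one_le_dim_subtype {T : Type*} [TopologicalSpace T] [T0Space T] (W : Set T) {a b : T}
    (ha : a ∈ W) (hb : b ∈ W) (h : a ⤳ b) (hne : a ≠ b) : 1 ≤ topologicalKrullDim ↥W := by
  have h' : (⟨a, ha⟩ : W) ⤳ ⟨b, hb⟩ :=
    (Topology.IsInducing.subtypeVal (t := W)).specializes_iff.1 h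
  exact one_le_dim_of_specializes h' (fun e => hne (congrArg Subtype.val e))

theorem one_le_fibreDimAt_of_specializes {X Y : Scheme.{u}} (f : X ⟶ Y) {a b : X} (h : a ⤳ b)
    (hne : a ≠ b) (hf : f.base a = f.base b) : 1 ≤ FlatMor.fibreDimAt f b := by
  unfold FlatMor.fibreDimAt FlatMor.localDim
  refine le_iInf fun W => ?_
  obtain ⟨W, hW⟩ := W
  let a' : f.fiber (f.base b) := (f.fiberHomeo (f.base b)).symm ⟨a, hf⟩
  have ha' : f.fiberι (f.base b) a' = a := f.fiberι_fiberHomeo_symm (f.base b) ⟨a, hf⟩
  have hb' : f.fiberι (f.base b) (f.asFiber b) = b := f.fiberι_asFiber b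
  have hsp : a' ⤳ f.asFiber b := by
    rw [← (f.fiberι (f.base b)).isEmbedding.isInducing.specializes_iff, ha', hb']
    exact h
  have haW : a' ∈ W := hsp.mem_open W.2 hW
  exact one_le_dim_subtype (W : Set (f.fiber (f.base b))) haW hW hsp
    (fun e => hne (by rw [← ha', e, hb']))

end Top

section Main

variable (R : Type u) [CommRing R] [IsDomain R] [IsDiscreteValuationRing R]
  (X : Over (Spec (CommRingCat.of R)))

theorem eq_closedPoint_or_asIdeal_eq_bot (y : Spec (CommRingCat.of R)) :
    y = closedPoint R ∨ y.asIdeal = ⊥ := by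
  by_cases h : y.asIdeal = ⊥
  · exact Or.inr h
  · left
    have hmax : y.asIdeal.IsMaximal := Ring.DimensionLEOne.maximalOfPrime h y.isPrime
    apply PrimeSpectrum.ext
    exact IsLocalRing.eq_maximalIdeal hmax

theorem dim_spec_le : topologicalKrullDim ↥(Spec (CommRingCat.of R)) ≤ 1 := by
  show topologicalKrullDim (PrimeSpectrum R) ≤ 1
  rw [PrimeSpectrum.topologicalKrullDim_eq_ringKrullDim]
  exact (IsDiscreteValuationRing.ringKrullDim_eq_one R).le

theorem support_specialFibreIdeal :
    ((Models.specialFibreIdeal R X).support : Set X.left) = Models.specialFibreSet R X := by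
  haveI := SemiF.isClosedImmersion_fiberι R X
  rw [← SemiF.ker_fiberι R X, Scheme.Hom.support_ker, Scheme.Hom.range_fiberι]
  exact (Models.isClosed_specialFibreSet R X).closure_eq

theorem isClosed_of_mem {Z : Set X.left} (hZ : Z ∈ Models.fibreComponents R X) : IsClosed Z := by
  have h1 : IsIrreducible (closure Z) := hZ.1.1.closure
  have h2 : closure Z ⊆ Models.specialFibreSet R X :=
    closure_minimal hZ.1.2 (Models.isClosed_specialFibreSet R X)
  have h3 : closure Z ⊆ Z := hZ.2 ⟨h1, h2⟩ subset_closure
  exact closure_eq_iff_isClosed.1 (h3.antisymm subset_closure)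

theorem finite_fibreComponents [NoetherianSpace X.left] :
    (Models.fibreComponents R X).Finite := by
  obtain ⟨S, hSf, hSc, hSi, hSU⟩ :=
    NoetherianSpace.exists_finite_set_isClosed_irreducible (Models.isClosed_specialFibreSet R X)
  refine hSf.subset fun s hs => ?_
  lift S to Finset (Set X.left) using hSf
  have hsub : s ⊆ ⋃₀ (S : Set (Set X.left)) := by
    rw [← hSU]
    exact hs.1.2
  rcases isIrreducible_iff_sUnion_isClosed.1 hs.1.1 S hSc hsub with ⟨t, htS, ht⟩
  have htF : t ⊆ Models.specialFibreSet R X := by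
    rw [hSU]
    exact Set.subset_sUnion_of_mem htS
  rwa [ht.antisymm (hs.2 ⟨hSi _ htS, htF⟩ ht)]

variable [IsIntegral X.left] [Flat X.hom]

theorem isDominant : IsDominant X.hom := by
  constructor
  have hg : GeneralizingMap X.hom.base := Flat.generalizingMap (f := X.hom)
  obtain ⟨a', -, ha'⟩ := hg (a := genericPoint X.left)
    (b := genericPoint ↥(Spec (CommRingCat.of R)))
    ((genericPoint_spec _).specializes (Set.mem_univ _))
  rw [DenseRange, dense_iff_closure_eq]
  apply Set.eq_univ_of_univ_subset
  rw [← (genericPoint_spec ↥(Spec (CommRingCat.of R))).def]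
  exact closure_mono (Set.singleton_subset_iff.2 ⟨a', ha'⟩)

theorem map_genericPoint_ne :
    X.hom.base (genericPoint X.left) ≠ closedPoint R := by
  haveI := isDominant R X
  rw [Chev3.map_genericPoint_of_isDominant X.hom]
  intro h
  have hz : ∀ z : ↥(Spec (CommRingCat.of R)), z = closedPoint R := fun z => by
    have hs : genericPoint ↥(Spec (CommRingCat.of R)) ⤳ z :=
      (genericPoint_spec _).specializes (Set.mem_univ _)
    have hcl : IsClosed ({genericPoint ↥(Spec (CommRingCat.of R))} :
        Set ↥(Spec (CommRingCat.of R))) := by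
      rw [h]
      exact IsLocalRing.isClosed_singleton_closedPoint R
    have hm := hs.mem_closed hcl (Set.mem_singleton _)
    rw [Set.mem_singleton_iff] at hm
    rw [hm, h]
  have h3 : (⊥ : Ideal R) = maximalIdeal R :=
    congrArg PrimeSpectrum.asIdeal (hz ⟨⊥, Ideal.isPrime_bot⟩)
  exact IsDiscreteValuationRing.not_a_field R h3.symm

variable [LocallyOfFiniteType X.hom]

set_option maxHeartbeats 800000 in
theorem one_le_dim_genericFibre (hdim : topologicalKrullDim X.left = 2) :
    1 ≤ topologicalKrullDim ↥(X.hom.fiber (genericPoint ↥(Spec (CommRingCat.of R)))) := by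
  haveI := isDominant R X
  by_contra hcon
  have hgen : X.hom.base (genericPoint X.left) = genericPoint ↥(Spec (CommRingCat.of R)) :=
    Chev3.map_genericPoint_of_isDominant X.hom
  have h0 : FlatMor.fibreDimAt X.hom (genericPoint X.left) = ((0 : ℕ) : WithBot ℕ∞) := by
    apply le_antisymm
    · have h1 := Chev3.fibreDimAt_le_dim_fiber X.hom (genericPoint X.left)
      rw [hgen] at h1
      have hlt : topologicalKrullDim
          ↥(X.hom.fiber (genericPoint ↥(Spec (CommRingCat.of R)))) <
            ((0 + 1 : ℕ) : WithBot ℕ∞) := by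
        exact_mod_cast not_le.1 hcon
      exact h1.trans (Chev3.withBot_lt_natCast_succ hlt)
    · unfold FlatMor.fibreDimAt FlatMor.localDim
      refine le_iInf fun W => ?_
      haveI : Nonempty (IrreducibleCloseds ↥(W.1 : Set (X.hom.fiber
          (X.hom.base (genericPoint X.left))))) :=
        ⟨⟨closure {⟨_, W.2⟩}, isIrreducible_singleton.closure, isClosed_closure⟩⟩
      have := Order.krullDim_nonneg (α := IrreducibleCloseds ↥(W.1 : Set (X.hom.fiber
          (X.hom.base (genericPoint X.left)))))
      exact_mod_cast this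
  have hall : ∀ x : X.left, FlatMor.fibreDimAt X.hom x = ((0 : ℕ) : WithBot ℕ∞) := by
    intro x
    haveI : IsNoetherianRing ((Spec (CommRingCat.of R)).presheaf.stalk (X.hom.base x)) :=
      inferInstance
    refine LocNoethFib1.S1554_main X.hom x ?_ 0 ?_
    · exact (DimIneq4.ringKrullDim_stalk_le (Spec (CommRingCat.of R)) (X.hom.base x)).trans
        (dim_spec_le R)
    · intro Z hZ _ η hη
      rw [irreducibleComponents_eq_singleton, Set.mem_singleton_iff] at hZ
      subst hZ
      rw [hη.eq (genericPoint_spec X.left)]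
      exact h0
  have hno : ∀ a b : X.left, a ⤳ b → X.hom.base a = X.hom.base b → a = b := by
    intro a b hab hfab
    by_contra hne
    have h1 := one_le_fibreDimAt_of_specializes X.hom hab hne hfab
    rw [hall b] at h1
    have h2 : (1 : ℕ) ≤ 0 := by exact_mod_cast h1
    omega
  have h2 : ((2 : ℕ) : WithBot ℕ∞) ≤ Order.krullDim X.left := by
    rw [← DimIneq4.topologicalKrullDim_eq_krullDim X.left, hdim]
    norm_num
  obtain ⟨l, hl⟩ := Order.le_krullDim_iff.1 h2
  have h01 : l ⟨0, by omega⟩ < l ⟨1, by omega⟩ := l.strictMono (Fin.mk_lt_mk.2 (by norm_num))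
  have h12 : l ⟨1, by omega⟩ < l ⟨2, by omega⟩ := l.strictMono (Fin.mk_lt_mk.2 (by norm_num))
  have s01 : l ⟨1, by omega⟩ ⤳ l ⟨0, by omega⟩ := h01.le
  have s12 : l ⟨2, by omega⟩ ⤳ l ⟨1, by omega⟩ := h12.le
  rcases eq_closedPoint_or_asIdeal_eq_bot R (X.hom.base (l ⟨1, by omega⟩)) with h | h
  · have hcl1 : IsClosed ({X.hom.base (l ⟨1, by omega⟩)} : Set ↥(Spec (CommRingCat.of R))) := by
      rw [h]
      exact IsLocalRing.isClosed_singleton_closedPoint R
    have hm := (s01.map X.hom.continuous).mem_closed hcl1 (Set.mem_singleton _)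
    rw [Set.mem_singleton_iff] at hm
    have he : X.hom.base (l ⟨1, by omega⟩) = X.hom.base (l ⟨0, by omega⟩) := hm.symm
    exact h01.ne (hno _ _ s01 he).symm
  · have hle : (X.hom.base (l ⟨2, by omega⟩)).asIdeal ≤ (X.hom.base (l ⟨1, by omega⟩)).asIdeal :=
      (PrimeSpectrum.le_iff_specializes _ _).2 (s12.map X.hom.continuous)
    rw [h, le_bot_iff] at hle
    have he : X.hom.base (l ⟨2, by omega⟩) = X.hom.base (l ⟨1, by omega⟩) :=
      PrimeSpectrum.ext (hle.trans h.symm)
    exact h12.ne (hno _ _ s12 he).symm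

end Main

end Groth.Agent.Helper1.CompL
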