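import Mathlib
import Groth.Agent.Lib.Helper1.Kl4
import Groth.Agent.Lib.Helper1.NM13
import Groth.Agent.Lib.Helper1.NM4
import Groth.Agent.Lib.Helper1.P1Iso3
import Groth.Agent.Lib.Helper1.CurveDual2
import Groth.Agent.Lib.Helper1.Big2

/-!
# Numerical equivalence and ampleness; degrees of nef modules on curves (helper1)
-/

set_option autoImplicit false
universe u
open CategoryTheory CategoryTheory.Limits AlgebraicGeometry TopologicalSpace Opposite

namespace Groth.Agent.Helper1.NumEq

open Groth.Agent.Helper1 Groth.Agent.Helper1.Euler Groth.Agent.Helper1.Dv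
open Groth.Agent.Helper1.Snap Groth.Agent.Helper1.SnapPos Groth.Agent.Helper1.FGAInt
open Groth.Agent.Helper1.Kleiman Groth.Agent.Helper1.TwForm Groth.Agent.Helper1.Curve

section PushIso

variable {X C : Scheme.{u}} (c : C ⟶ X) [IsClosedImmersion c]

/-- the direct image of the structure sheaf under a closed immersion is the quotient of the
structure sheaf by the kernel -/
noncomputable def pushIso :
    (Scheme.Modules.pushforward c).obj (Coh.structureModule C) ≅ ClSub.quotMod c.ker := by
  haveI : IsIso (Curve.unitMap c.toImage) := P1Iso.isIso_unitMap_of_isIso _ _ c.toImage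
  exact ((Scheme.Modules.pushforwardCongr c.toImage_imageι).symm.app (Coh.structureModule C)) ≪≫
    ((Scheme.Modules.pushforwardComp c.toImage c.imageι).symm.app (Coh.structureModule C)) ≪≫
    (Scheme.Modules.pushforward c.imageι).mapIso (asIso (Curve.unitMap c.toImage)).symm

end PushIso

section Lam

variable (k : Type u) [Field k] (X : Scheme.{u}) [X.Over (Spec (CommRingCat.of k))]
  [IsProper (X ↘ (Spec (CommRingCat.of k)))] [AlgebraicGeometry.IsNoetherian X]

/-- the degree of the restriction to a closed curve, computed in `K₀` of the ambient scheme -/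
theorem curveDeg_eq_lam_quot {C : Scheme.{u}} (c : C ⟶ X) [IsClosedImmersion c]
    (hdim : topologicalKrullDim C ≤ ((1 : ℕ) : WithBot ℕ∞)) (M : X.Modules)
    (hM : PicF.IsInvertible M) :
    Pic13.curveDeg k (c ≫ (X ↘ Spec (CommRingCat.of k))) ((Scheme.Modules.pullback c).obj M) =
      lam k X M hM 1 (KZero.clSub (PC X) (ClSub.quotMod c.ker)) := by
  letI : C.Over (Spec (CommRingCat.of k)) := ⟨c ≫ (X ↘ Spec (CommRingCat.of k))⟩
  haveI : IsProper (C ↘ Spec (CommRingCat.of k)) := by
    change IsProper (c ≫ (X ↘ Spec (CommRingCat.of k))); infer_instance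
  haveI : AlgebraicGeometry.IsNoetherian C := isNoetherian_of_proper k C
  have hQ : Coh.IsCoh (ClSub.quotMod c.ker) := CurveDual.isCoh_quotMod c.ker
  have e := pushIso c
  have hc : Coh.IsCoh ((Scheme.Modules.pushforward c).obj (Coh.structureModule C)) :=
    isCoh_of_iso e.symm hQ
  have h1 := curveDeg_eq_lam k C hdim ((Scheme.Modules.pullback c).obj M)
    (PullGen.isInvertible_pullback c hM)
  have h2 := NM.lam_push_eq k X C c rfl M hM hc 1
  have h3 : KZero.clSub (PC X) (ClSub.quotMod c.ker) =
      KZero.clSub (PC X) ((Scheme.Modules.pushforward c).obj (Coh.structureModule C)) :=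
    clSub_iso e hc
  rw [h3, ← h2]
  exact h1

theorem lam_one_tensor {A B : X.Modules} (hA : PicF.IsInvertible A) (hB : PicF.IsInvertible B)
    (hAB : PicF.IsInvertible (CohB1.tensorMod A B)) (x : KZero.K0sub (PC X))
    (hx : x ∈ FilLT X 2) :
    lam k X (CohB1.tensorMod A B) hAB 1 x = lam k X A hA 1 x + lam k X B hB 1 x := by
  rw [lam_apply, lam_apply, lam_apply, pow_one, pow_one, pow_one, T_tensor hA hB hAB]
  have h0 : ((T A hA - 1) * (T B hB - 1)) x = 0 :=
    ((low_D A hA).mul (low_D B hB)).eq_zero 2 le_rfl x hx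
  have h1 : T A hA * T B hB - 1 =
      (T A hA - 1) + (T B hB - 1) + (T A hA - 1) * (T B hB - 1) := by
    simp only [sub_mul, mul_sub, mul_one, one_mul]; abel
  rw [h1]
  change eulerHom k X ((T A hA - 1) x + (T B hB - 1) x + ((T A hA - 1) * (T B hB - 1)) x) = _
  rw [h0, add_zero, map_add]

theorem lam_one_inverse {L K : X.Modules} (hL : PicF.IsInvertible L) (hK : PicF.IsInvertible K)
    (e : CohB1.tensorMod K L ≅ Coh.structureModule X) (x : KZero.K0sub (PC X))
    (hx : x ∈ FilLT X 2) : lam k X K hK 1 x = - lam k X L hL 1 x := by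
  have hT : T K hK * T L hL = 1 := T_mul_of_inverse hK hL e
  rw [lam_apply, lam_apply, pow_one, pow_one]
  have h0 : ((T K hK - 1) * (T L hL - 1)) x = 0 :=
    ((low_D K hK).mul (low_D L hL)).eq_zero 2 le_rfl x hx
  have h1 : (T K hK - 1) + (T L hL - 1) + (T K hK - 1) * (T L hL - 1) = 0 := by
    simp only [sub_mul, mul_sub, mul_one, one_mul, hT]; abel
  have h2 : (T K hK - 1) x + (T L hL - 1) x + ((T K hK - 1) * (T L hL - 1)) x = 0 := by
    have := congrArg (fun U : AddMonoid.End (KZero.K0sub (PC X)) => U x) h1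
    exact this
  rw [h0, add_zero] at h2
  have h3 := congrArg (eulerHom k X) h2
  rw [map_add, map_zero] at h3
  linarith

theorem lam_one_clSub (L : X.Modules) (hL : PicF.IsInvertible L) (Q : X.Modules)
    (hQ : Coh.IsCoh Q) :
    lam k X L hL 1 (KZero.clSub (PC X) Q) =
      Curv2.euler k X (CohB1.tensorMod Q L) - Curv2.euler k X Q := by
  have hLc : Coh.IsCoh L := InvQc.isCoh_of_isInvertible _ hL
  rw [lam_apply, pow_one]
  change eulerHom k X (T L hL (KZero.clSub (PC X) Q) - KZero.clSub (PC X) Q) = _
  rw [map_sub, T_clSub' L hL Q hQ, eulerHom_clSub k X _ (isCoh_tensor Q L hQ hLc),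
    eulerHom_clSub k X _ hQ]

/-- **a module numerically equivalent to an ample module is ample** -/
theorem isAmple_of_numEquiv (L L' : X.Modules) (hL' : PicF.IsInvertible L')
    (hamp : CohB1.IsAmple L)
    (hnum : ∀ C : X.IdealSheafData, IsIntegral C.subscheme →
      topologicalKrullDim (C.support : Set X) = 1 →
        Curv2.euler k X (CohB1.tensorMod (ClSub.quotMod C) L) =
          Curv2.euler k X (CohB1.tensorMod (ClSub.quotMod C) L')) : CohB1.IsAmple L' := by
  have hL := hamp.1
  obtain ⟨K, hK, ⟨eK⟩⟩ := InvInv2.exists_inverse hL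
  set M := CohB1.tensorMod L' K with hMdef
  have hM : PicF.IsInvertible M := isInvertible_tensorMod hL' hK
  have hnef : NefS k X M := by
    intro C c _ hC hdimC
    haveI : IsIntegral C := hC
    have hdim' : topologicalKrullDim C ≤ ((1 : ℕ) : WithBot ℕ∞) := by
      rw [hdimC]; exact le_of_eq Nat.cast_one.symm
    rw [curveDeg_eq_lam_quot k X c hdim' M hM]
    set I := c.ker with hI
    have hQ : Coh.IsCoh (ClSub.quotMod I) := CurveDual.isCoh_quotMod I
    have hr : (I.support : Set X) = Set.range c := by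
      rw [hI, Scheme.Hom.support_ker, c.isClosedEmbedding.isClosed_range.closure_eq]
    have hdimI : topologicalKrullDim ↥(I.support : Set X) = 1 := by
      rw [hr, ← hdimC]
      exact (IsHomeomorph.topologicalKrullDim_eq _
        (c.isClosedEmbedding.isEmbedding.toHomeomorph).isHomeomorph).symm
    have hsupp : topologicalKrullDim ↥(CohB1.support (ClSub.quotMod I)) ≤
        ((1 : ℕ) : WithBot ℕ∞) := by
      refine (krullDim_le_of_subset (CurveDual.support_quotMod_subset I)).trans ?_
      rw [hdimI]; exact le_of_eq Nat.cast_one.symm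
    have hx : KZero.clSub (PC X) (ClSub.quotMod I) ∈ FilLT X 2 :=
      clSub_mem_FilLT 1 _ hQ hsupp
    have hIint : IsIntegral I.subscheme := AlgebraicGeometry.IsIntegral.of_isIso c.toImage
    rw [lam_one_tensor k X hL' hK hM _ hx, lam_one_inverse k X hL hK eK _ hx,
      lam_one_clSub k X L' hL' _ hQ, lam_one_clSub k X L hL _ hQ, hnum I hIint hdimI]
    omega
  have h := isAmple_tensorPow_tensor_of_nef k X M L hM hamp hnef 1
  have e1 : CohB1.tensorPow M 1 ≅ M :=
    TildeTens.tensorModComm _ _ ≪≫ Groth.Agent.Lib.Helper5.LTenFlf.tensorUnitIso M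
  exact TwistAmpleOpen.isAmple_of_iso
    (Groth.Agent.Lead.TilT.tensorModCongr e1 (Iso.refl L) ≪≫ Big.cancelRight hK hL eK) h

/-- a nef invertible module on a proper scheme of dimension one has nonnegative degree -/
theorem deg_nonneg_of_nef (hdim : topologicalKrullDim X = 1) (L : X.Modules)
    (hL : PicF.IsInvertible L)
    (hnef : ∀ C : X.IdealSheafData, IsIntegral C.subscheme →
      topologicalKrullDim (C.support : Set X) = 1 →
        0 ≤ Curv2.euler k X (CohB1.tensorMod (ClSub.quotMod C) L) -
          Curv2.euler k X (ClSub.quotMod C)) :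
    0 ≤ Curv2.deg k X L 1 := by
  have hOc := isCoh_structureModule X
  have hLc : Coh.IsCoh L := InvQc.isCoh_of_isInvertible _ hL
  have hdeg : Curv2.deg k X L 1 =
      lam k X L hL 1 (KZero.clSub (PC X) (Coh.structureModule X)) := by
    rw [lam_one_clSub k X L hL _ hOc]
    unfold Curv2.deg
    rw [Euler.euler_iso k X (TildeTens.tensorModComm (Coh.structureModule X) L ≪≫
      Groth.Agent.Lib.Helper5.LTenFlf.tensorUnitIso L)]
    push_cast; ring
  rw [hdeg]
  have hd1 : topologicalKrullDim ↥(CohB1.support (Coh.structureModule X)) ≤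
      ((1 : ℕ) : WithBot ℕ∞) :=
    (topologicalKrullDim_subspace_le X _).trans (by rw [hdim]; exact le_of_eq Nat.cast_one.symm)
  refine hom_nonneg_of_cycle (lam k X L hL 1) 1 (fun x hx => lam_eq_zero k X L hL 1 x hx) _ hOc
    hd1 (fun ξ hξ => ?_)
  rw [NM.closureStructureSheaf_eq ξ, lam_one_clSub k X L hL _ (CurveDual.isCoh_quotMod _)]
  refine hnef (IntMult.ptIdeal ξ) (isIntegral_ptIdeal_subscheme ξ) ?_
  rw [← (IntMult.ptIdeal ξ).range_subschemeι, range_ptIdeal_subschemeι ξ, hξ]
  exact Nat.cast_one

end Lam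

end Groth.Agent.Helper1.NumEq
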