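import Mathlib
import Groth.Agent.Lib.Helper1.NumEq1
import Groth.Agent.Lib.Helper1.Big3
import Groth.Agent.Lib.Helper1.GlobGen
import Groth.Agent.Lib.Helper1.CohAbel
import Groth.Agent.Lib.Helper1.Dv39
import Groth.Agent.Lib.Helper4.SerreVan

/-!
# Nef invertible modules on one-dimensional proper schemes with `H¹(O) = 0` (helper1)

On a proper scheme `X` of dimension `≤ 1` over a field with `H¹(X, O_X) = 0`, a nef invertible
module is globally generated and has no `H¹`.  The proof: let `L' ⊆ L` be the submodule generated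
by the global sections and `Q = L / L'`; `H¹(L') = 0` because `H¹` is right exact and `L'` is a
quotient of a finite free module, hence `H⁰(L) → H⁰(Q)` is onto; but it is zero, so `H⁰(Q) = 0`.
If `Q ≠ 0`, then `R = Q ⊗ L⁻¹` is a nonzero quotient of `O_X`, so `χ(R) = h⁰(R) > 0`, and
`χ(Q) = χ(R ⊗ L) ≥ χ(R) > 0` by nefness, contradicting `χ(Q) = -h¹(Q) ≤ 0`.
-/

set_option autoImplicit false
universe u
open CategoryTheory CategoryTheory.Limits AlgebraicGeometry TopologicalSpace Opposite

namespace Groth.Agent.Helper1.NefGG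

open Groth.Agent.Helper1 Groth.Agent.Helper1.Euler Groth.Agent.Helper1.Dv
open Groth.Agent.Helper1.FinLen Groth.Agent.Helper1.TwForm Groth.Agent.Helper1.Curve
open Groth.Agent.Helper1.Snap Groth.Agent.Helper1.SnapPos Groth.Agent.Helper1.FGAInt
open Groth.Agent.Helper1.FGAPos Groth.Agent.Helper1.Kleiman Groth.Agent.Helper1.Big
open Groth.Agent.Lib.Helper4

section Gen

variable {X : Scheme.{u}}

theorem epi_comp' {A B C : X.Modules} (f : A ⟶ B) (hf : Epi f) (g : B ⟶ C) (hg : Epi g) :
    Epi (f ≫ g) := by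
  haveI := hf
  haveI := hg
  exact epi_comp f g

theorem epi_iso_hom {A B : X.Modules} (e : A ≅ B) : Epi e.hom := inferInstance

theorem epi_iso_inv {A B : X.Modules} (e : A ≅ B) : Epi e.inv := inferInstance

/-- a nonzero section gives a nonzero class in `H⁰` -/
theorem nontrivial_HH0_of_section {M : X.Modules} (s : Coh.structureModule X ⟶ M) (hs : s ≠ 0) :
    Nontrivial (Coh.HH X M 0) := by
  let t : M.val.obj (op ⊤) := (SheafOfModules.unitHomEquiv M s).val (op ⊤)
  have ht : t ≠ 0 := by
    intro h0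
    apply hs
    apply (SheafOfModules.unitHomEquiv M).injective
    apply GlobGen.sections_ext_top
    have e5 : (SheafOfModules.unitHomEquiv M 0).val (op ⊤) = 0 := by
      rw [SheafOfModules.unitHomEquiv_apply_coe]
      rfl
    exact h0.trans e5.symm
  refine ⟨(HH0.equiv X M).symm t, 0, fun h => ht ?_⟩
  have h2 := congrArg (HH0.equiv X M) h
  rw [AddEquiv.apply_symm_apply, map_zero] at h2
  exact h2

end Gen

section Field

variable (k : Type u) [Field k] (X : Scheme.{u}) [X.Over (Spec (CommRingCat.of k))]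
  [IsProper (X ↘ (Spec (CommRingCat.of k)))]

include k in
/-- `H¹` is right exact in dimension `≤ 1` -/
theorem subsingleton_H1_of_epi (hd : topologicalKrullDim X ≤ ((1 : ℕ) : WithBot ℕ∞))
    {F G : X.Modules} (p : F ⟶ G) (hp : Epi p) (hF : Subsingleton (Coh.HH X F 1)) :
    Subsingleton (Coh.HH X G 1) := by
  haveI : AlgebraicGeometry.IsNoetherian X := isNoetherian_of_proper k X
  haveI := hp
  let S : ShortComplex X.Modules := ShortComplex.mk (kernel.ι p) p (kernel.condition p)
  have hS : S.Exact := ShortComplex.exact_of_f_is_kernel _ (kernelIsKernel p)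
  haveI : Mono S.f := inferInstanceAs (Mono (kernel.ι p))
  haveI : Epi S.g := hp
  have hSE : S.ShortExact := { exact := hS }
  exact SerreVan.subsingleton_X₃ k hSE 1 hF
    (subsingleton_HH_of_dim_lt X 1 hd (kernel p) 2 (by omega))

/-- the degree of `Curv2` is the degree of `Pic13` in dimension `≤ 1` -/
theorem deg_eq_curveDeg (hd : topologicalKrullDim X ≤ ((1 : ℕ) : WithBot ℕ∞)) (M : X.Modules) :
    Curv2.deg k X M 1 = Pic13.curveDeg k (X ↘ Spec (CommRingCat.of k)) M := by
  haveI : AlgebraicGeometry.IsNoetherian X := isNoetherian_of_proper k X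
  change _ = FGA.eulerCharLE k X M 1 - FGA.eulerCharLE k X (Coh.structureModule X) 1
  rw [eulerCharLE_eq_euler k X 1 hd, eulerCharLE_eq_euler k X 1 hd]
  unfold Curv2.deg
  push_cast
  ring

/-- the nefness condition of the statements, in `K₀` -/
theorem lam_nonneg_of_deg (L : X.Modules) (hL : PicF.IsInvertible L) (ξ : X)
    (hξ : topologicalKrullDim ↥(closure ({ξ} : Set X)) = ((1 : ℕ) : WithBot ℕ∞))
    (h : 0 ≤ @Curv2.deg k _ (IntMult.ptIdeal ξ).subscheme
      ⟨(IntMult.ptIdeal ξ).subschemeι ≫ (X ↘ (Spec (CommRingCat.of k)))⟩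
      ((Scheme.Modules.pullback (IntMult.ptIdeal ξ).subschemeι).obj L) 1) :
    haveI : AlgebraicGeometry.IsNoetherian X := isNoetherian_of_proper k X
    0 ≤ lam k X L hL 1 (KZero.clSub (PC X) (Cyc.closureStructureSheaf ξ)) := by
  haveI : AlgebraicGeometry.IsNoetherian X := isNoetherian_of_proper k X
  set J := IntMult.ptIdeal ξ with hJ
  letI : J.subscheme.Over (Spec (CommRingCat.of k)) :=
    ⟨J.subschemeι ≫ (X ↘ Spec (CommRingCat.of k))⟩
  haveI : IsProper (J.subscheme ↘ Spec (CommRingCat.of k)) := by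
    change IsProper (J.subschemeι ≫ (X ↘ Spec (CommRingCat.of k))); infer_instance
  have hdimZ : topologicalKrullDim J.subscheme = ((1 : ℕ) : WithBot ℕ∞) := by
    have h1 := IsHomeomorph.topologicalKrullDim_eq _
      (J.subschemeι.isClosedEmbedding.isEmbedding.toHomeomorph).isHomeomorph
    rw [h1]
    have h2 : Set.range J.subschemeι = closure {ξ} := range_ptIdeal_subschemeι ξ
    rw [h2]
    exact hξ
  have e1 := deg_eq_curveDeg k J.subscheme hdimZ.le ((Scheme.Modules.pullback J.subschemeι).obj L)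
  have e2 := NumEq.curveDeg_eq_lam_quot k X J.subschemeι hdimZ.le L hL
  have e3 : J.subschemeι.ker = J := Scheme.IdealSheafData.ker_subschemeι J
  rw [e3] at e2
  rw [NM.closureStructureSheaf_eq ξ]
  exact h.trans_eq (e1.trans e2)

/-- **nef invertible modules on a one-dimensional proper scheme with `H¹(O) = 0` have no `H¹`
and are globally generated** -/
theorem main (hdim : topologicalKrullDim X ≤ 1)
    (h1 : Subsingleton (Coh.HH X (Coh.structureModule X) 1))
    (L : X.Modules) (hL : PicF.IsInvertible L)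
    (hnn : haveI : AlgebraicGeometry.IsNoetherian X := isNoetherian_of_proper k X
      ∀ ξ : X, topologicalKrullDim ↥(closure ({ξ} : Set X)) = ((1 : ℕ) : WithBot ℕ∞) →
      0 ≤ lam k X L hL 1 (KZero.clSub (PC X) (Cyc.closureStructureSheaf ξ))) :
    Subsingleton (Coh.HH X L 1) ∧ Curv2.IsGloballyGenerated L := by
  haveI : AlgebraicGeometry.IsNoetherian X := isNoetherian_of_proper k X
  have hd1 : topologicalKrullDim X ≤ ((1 : ℕ) : WithBot ℕ∞) :=
    hdim.trans (le_of_eq Nat.cast_one.symm)
  have hOc := isCoh_structureModule X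
  have hLc : Coh.IsCoh L := InvQc.isCoh_of_isInvertible _ hL
  haveI : Module.Finite k (Coh.HH X L 0) := T2Main1.t2 k X _ hLc 0
  -- a finite basis of the sections
  set n := Module.finrank k (Coh.HH X L 0) with hn
  let b := Module.finBasis k (Coh.HH X L 0)
  let t : Fin n → L.val.obj (op ⊤) := fun j => HH0.equiv X L (b j)
  let s : Fin n → (Coh.structureModule X ⟶ L) := fun j =>
    (SheafOfModules.unitHomEquiv L).symm (GlobGen.secOfTop L (t j))
  let D : X.Modules := ∐ fun _ : Fin n => Coh.structureModule X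
  let φ : D ⟶ L := Sigma.desc s
  let Q : X.Modules := cokernel φ
  let π : L ⟶ Q := cokernel.π φ
  have hDc : Coh.IsCoh D := isCoh_coprod _ hOc n
  have hQc : Coh.IsCoh Q := FtLocal.isCoh_cokernel hDc hLc φ
  have hD1 : Subsingleton (Coh.HH X D 1) :=
    SerreVan.subsingleton_sigma k (𝟭 X.Modules) (fun _ : Fin n => Coh.structureModule X) 1
      (fun _ => h1)
  -- the exact sequence
  let S : ShortComplex X.Modules := ShortComplex.mk (Abelian.image.ι φ) π (kernel.condition π)
  have hS : S.Exact := ShortComplex.exact_of_f_is_kernel _ (kernelIsKernel (cokernel.π φ))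
  haveI : Mono S.f := inferInstanceAs (Mono (Abelian.image.ι φ))
  haveI : Epi S.g := inferInstanceAs (Epi (cokernel.π φ))
  have hSE : S.ShortExact := { exact := hS }
  have hI1 : Subsingleton (Coh.HH X (Abelian.image φ) 1) :=
    subsingleton_H1_of_epi k X hd1 (Abelian.factorThruImage φ) inferInstance hD1
  -- the sections die in the quotient
  have hπs : ∀ j, s j ≫ π = 0 := fun j => by
    have e : Sigma.ι (fun _ : Fin n => Coh.structureModule X) j ≫ φ = s j := Sigma.ι_desc s j
    rw [← e, Category.assoc]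
    change _ ≫ φ ≫ cokernel.π φ = 0
    rw [cokernel.condition, comp_zero]
  have hπt : ∀ j, π.app ⊤ (t j) = 0 := fun j => by
    have e1 := SheafOfModules.unitHomEquiv_symm_comp (GlobGen.secOfTop L (t j)) π
    have e2 : (SheafOfModules.unitHomEquiv Q).symm
        (SheafOfModules.sectionsMap π (GlobGen.secOfTop L (t j))) = 0 := e1.symm.trans (hπs j)
    have e3 : SheafOfModules.sectionsMap π (GlobGen.secOfTop L (t j)) =
        SheafOfModules.unitHomEquiv Q 0 := ((SheafOfModules.unitHomEquiv Q).symm_apply_eq).1 e2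
    have e4 := congrArg (fun q : SheafOfModules.sections Q => q.val (op ⊤)) e3
    have e5 : (SheafOfModules.unitHomEquiv Q 0).val (op ⊤) = 0 := by
      rw [SheafOfModules.unitHomEquiv_apply_coe]
      rfl
    have e6 : (SheafOfModules.sectionsMap π (GlobGen.secOfTop L (t j))).val (op ⊤) =
        π.app ⊤ (t j) := by
      rw [GlobGen.sectionsMap_eval, GlobGen.secOfTop_eval_top]
    exact e6.symm.trans (e4.trans e5)
  have hπ0 : ∀ x : Coh.HH X L 0, Canon.HHlin k π 0 x = 0 := by
    have hb : ∀ j, Canon.HHlin k π 0 (b j) = 0 := fun j => by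
      apply (HH0.equiv X Q).injective
      rw [CurveLin.equiv_HHlin k π (b j), map_zero]
      exact hπt j
    have hz : Canon.HHlin k π 0 = 0 := b.ext (fun j => by rw [hb j]; rfl)
    intro x
    rw [hz]
    rfl
  have hQ0 : Subsingleton (Coh.HH X Q 0) := by
    refine subsingleton_of_forall_eq 0 fun y => ?_
    obtain ⟨x, hx⟩ := HHFin2.exact_g_delta k hSE 0 y (Subsingleton.elim (h := hI1) _ _)
    rw [← hx]
    exact hπ0 x
  -- the quotient is zero
  have hQz : IsZero Q := by
    by_contra hQnz
    obtain ⟨K, hK, ⟨eK⟩⟩ := InvInv2.exists_inverse hL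
    have hKc : Coh.IsCoh K := InvQc.isCoh_of_isInvertible _ hK
    let R : X.Modules := CohB1.tensorMod Q K
    have hRc : Coh.IsCoh R := isCoh_tensor Q K hQc hKc
    have hSt := shortExact_tensor K (InvInv2.isFinLocFree_of_isInvertible hK) S hSE
    let g1 : CohB1.tensorMod K L ⟶ CohB1.tensorMod K Q := (DCoh.tensorBi.obj K).map π
    have hg1 : Epi g1 := hSt.epi_g
    let ρ : Coh.structureModule X ⟶ R :=
      eK.inv ≫ g1 ≫ (TildeTens.tensorModComm K Q).hom
    have hρ : Epi ρ :=
      epi_comp' _ (epi_iso_inv eK) _ (epi_comp' g1 hg1 _ (epi_iso_hom _))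
    have eRL : CohB1.tensorMod R L ≅ Q := cancelRight hK hL eK
    have hρnz : ρ ≠ 0 := by
      intro h0
      have hRz : IsZero R := by
        rw [IsZero.iff_id_eq_zero]
        haveI := hρ
        exact (cancel_epi ρ).1 (by rw [h0, zero_comp, zero_comp])
      apply hQnz
      have hz2 : IsZero (CohB1.tensorMod L R) := Functor.map_isZero (DCoh.tensorBi.obj L) hRz
      exact (hz2.of_iso (TildeTens.tensorModComm R L)).of_iso eRL.symm
    haveI : Nontrivial (Coh.HH X R 0) := nontrivial_HH0_of_section ρ hρnz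
    haveI : Module.Finite k (Coh.HH X R 0) := T2Main1.t2 k X _ hRc 0
    have hR0 : 0 < Module.finrank k (Coh.HH X R 0) := Module.finrank_pos
    have hR1 : Subsingleton (Coh.HH X R 1) := subsingleton_H1_of_epi k X hd1 ρ hρ h1
    have eR := euler_eq_h0_sub_h1 k X hdim R hRc.1
    have hR1' : Module.finrank k (Coh.HH X R 1) = 0 := by
      haveI := hR1
      exact Module.finrank_zero_of_subsingleton
    have eQ := euler_eq_h0_sub_h1 k X hdim Q hQc.1
    have hQ0' : Module.finrank k (Coh.HH X Q 0) = 0 := by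
      haveI := hQ0
      exact Module.finrank_zero_of_subsingleton
    have hlam : lam k X L hL 1 (KZero.clSub (PC X) R) =
        Curv2.euler k X (CohB1.tensorMod R L) - Curv2.euler k X R :=
      NumEq.lam_one_clSub k X L hL R hRc
    have hnn' : 0 ≤ lam k X L hL 1 (KZero.clSub (PC X) R) :=
      hom_nonneg_of_cycle (lam k X L hL 1) 1 (fun x hx => lam_eq_zero k X L hL 1 x hx) R hRc
        ((topologicalKrullDim_subspace_le X _).trans hd1) hnn
    have hiso : Curv2.euler k X (CohB1.tensorMod R L) = Curv2.euler k X Q :=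
      Euler.euler_iso k X eRL
    rw [hQ0'] at eQ
    rw [hR1'] at eR
    push_cast at eQ eR
    have hR0' : (0 : ℤ) < (Module.finrank k (Coh.HH X R 0) : ℤ) := by exact_mod_cast hR0
    have hQ1' : (0 : ℤ) ≤ (Module.finrank k (Coh.HH X Q 1) : ℤ) := Nat.cast_nonneg _
    linarith
  have hφepi : Epi φ := Preadditive.epi_of_isZero_cokernel φ hQz
  have hL1 : Subsingleton (Coh.HH X L 1) := subsingleton_H1_of_epi k X hd1 φ hφepi hD1
  refine ⟨hL1, ?_⟩
  -- global generation
  let p : (SheafOfModules.free (ULift.{u} (Fin n)) : X.Modules) ⟶ L :=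
    Cofan.IsColimit.desc (SheafOfModules.isColimitFreeCofan (ULift.{u} (Fin n)))
      (fun i => s i.down)
  let c : D ⟶ (SheafOfModules.free (ULift.{u} (Fin n)) : X.Modules) :=
    Sigma.desc (fun j : Fin n => SheafOfModules.ιFree (ULift.up j))
  have hcp : c ≫ p = φ := by
    apply Sigma.hom_ext
    intro j
    have h1 := Cofan.IsColimit.fac
      (SheafOfModules.isColimitFreeCofan (R := X.ringCatSheaf) (ULift.{u} (Fin n)))
      (fun i => s i.down) (ULift.up j)
    have e1 : Sigma.ι (fun _ : Fin n => Coh.structureModule X) j ≫ c =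
        SheafOfModules.ιFree (ULift.up j) :=
      Sigma.ι_desc (fun j : Fin n => (SheafOfModules.ιFree (ULift.up j) :
        Coh.structureModule X ⟶ SheafOfModules.free (ULift.{u} (Fin n)))) j
    have e2 : Sigma.ι (fun _ : Fin n => Coh.structureModule X) j ≫ φ = s j := Sigma.ι_desc s j
    rw [← Category.assoc, e1, e2]
    exact h1
  have hp : Epi p := @epi_of_epi_fac _ _ _ _ _ c p φ hφepi hcp
  exact ⟨ULift.{u} (Fin n), p, hp⟩

end Field

end Groth.Agent.Helper1.NefGG
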