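import Mathlib
import Groth.Agent.Lib.Helper1.NefGG1

/-!
# Nef invertible modules on one-dimensional proper schemes with `H¹(O) = 0`: statement forms
(helper1)
-/

set_option autoImplicit false
universe u
open CategoryTheory CategoryTheory.Limits AlgebraicGeometry TopologicalSpace Opposite

namespace Groth.Agent.Helper1.NefGG

open Groth.Agent.Helper1 Groth.Agent.Helper1.Euler Groth.Agent.Helper1.Dv
open Groth.Agent.Helper1.FinLen Groth.Agent.Helper1.TwForm Groth.Agent.Helper1.Curve
open Groth.Agent.Helper1.Snap Groth.Agent.Helper1.SnapPos Groth.Agent.Helper1.FGAInt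
open Groth.Agent.Helper1.FGAPos Groth.Agent.Helper1.Kleiman Groth.Agent.Helper1.Big
open Groth.Agent.Lib.Helper4

theorem dim_ptIdeal_subscheme {X : Scheme.{u}} (ξ : X) :
    topologicalKrullDim (IntMult.ptIdeal ξ).subscheme =
      topologicalKrullDim ↥(closure ({ξ} : Set X)) := by
  have h1 := IsHomeomorph.topologicalKrullDim_eq _
    ((IntMult.ptIdeal ξ).subschemeι.isClosedEmbedding.isEmbedding.toHomeomorph).isHomeomorph
  rw [h1, range_ptIdeal_subschemeι ξ]

variable (k : Type u) [Field k] (X : Scheme.{u}) [X.Over (Spec (CommRingCat.of k))]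
  [IsProper (X ↘ (Spec (CommRingCat.of k)))]

/-- the form with the dimension of the subscheme -/
theorem main_subscheme (hdim : topologicalKrullDim X = 1)
    (h1 : Subsingleton (Coh.HH X (Coh.structureModule X) 1))
    (L : X.Modules) (hL : PicF.IsInvertible L)
    (hnef : ∀ J : X.IdealSheafData, IsIntegral J.subscheme → topologicalKrullDim J.subscheme = 1 →
      0 ≤ @Curv2.deg k _ J.subscheme ⟨J.subschemeι ≫ (X ↘ (Spec (CommRingCat.of k)))⟩
        ((Scheme.Modules.pullback J.subschemeι).obj L) 1) :
    Subsingleton (Coh.HH X L 1) ∧ Curv2.IsGloballyGenerated L := by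
  refine main k X hdim.le h1 L hL (fun ξ hξ => ?_)
  refine lam_nonneg_of_deg k X L hL ξ hξ ?_
  refine hnef (IntMult.ptIdeal ξ) (isIntegral_ptIdeal_subscheme ξ) ?_
  rw [dim_ptIdeal_subscheme ξ, hξ]
  exact Nat.cast_one

/-- the form with the dimension of the support -/
theorem main_support (hdim : topologicalKrullDim X = 1)
    (h1 : Subsingleton (Coh.HH X (Coh.structureModule X) 1))
    (L : X.Modules) (hL : PicF.IsInvertible L)
    (hnef : ∀ J : X.IdealSheafData, IsIntegral J.subscheme →
      topologicalKrullDim (J.support : Set X) = 1 →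
      0 ≤ @Curv2.deg k _ J.subscheme ⟨J.subschemeι ≫ (X ↘ (Spec (CommRingCat.of k)))⟩
        ((Scheme.Modules.pullback J.subschemeι).obj L) 1) :
    Subsingleton (Coh.HH X L 1) ∧ Curv2.IsGloballyGenerated L := by
  refine main k X hdim.le h1 L hL (fun ξ hξ => ?_)
  refine lam_nonneg_of_deg k X L hL ξ hξ ?_
  refine hnef (IntMult.ptIdeal ξ) (isIntegral_ptIdeal_subscheme ξ) ?_
  rw [← (IntMult.ptIdeal ξ).range_subschemeι, range_ptIdeal_subschemeι ξ, hξ]
  exact Nat.cast_one

/-- `h⁰(L) = h⁰(O) + deg L` when `H¹(O) = H¹(L) = 0` -/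
theorem h0_eq (hdim : topologicalKrullDim X = 1)
    (h1 : Subsingleton (Coh.HH X (Coh.structureModule X) 1))
    (L : X.Modules) (hL : PicF.IsInvertible L) (hL1 : Subsingleton (Coh.HH X L 1)) :
    (Module.finrank k (Coh.HH X L 0) : ℤ) =
      Module.finrank k (Coh.HH X (Coh.structureModule X) 0) + Curv2.deg k X L 1 := by
  haveI : AlgebraicGeometry.IsNoetherian X := isNoetherian_of_proper k X
  have hOc := isCoh_structureModule X
  have hLc : Coh.IsCoh L := InvQc.isCoh_of_isInvertible _ hL
  have eL := euler_eq_h0_sub_h1 k X hdim.le L hLc.1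
  have eO := euler_eq_h0_sub_h1 k X hdim.le (Coh.structureModule X) hOc.1
  have zL : Module.finrank k (Coh.HH X L 1) = 0 := by
    haveI := hL1
    exact Module.finrank_zero_of_subsingleton
  have zO : Module.finrank k (Coh.HH X (Coh.structureModule X) 1) = 0 := by
    haveI := h1
    exact Module.finrank_zero_of_subsingleton
  rw [zL] at eL
  rw [zO] at eO
  unfold Curv2.deg
  rw [eL, eO]
  push_cast
  ring

/-- vanishing of the genus gives `H¹(O) = 0` -/
theorem subsingleton_H1_of_genus (hg : Curv2.genus k X = 0) :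
    Subsingleton (Coh.HH X (Coh.structureModule X) 1) := by
  haveI : AlgebraicGeometry.IsNoetherian X := isNoetherian_of_proper k X
  have hOc := isCoh_structureModule X
  haveI : Module.Finite k (Coh.HH X (Coh.structureModule X) 1) := T2Main1.t2 k X _ hOc 1
  exact (Module.finrank_zero_iff (R := k)).1 hg

end Groth.Agent.Helper1.NefGG
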