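import Mathlib
import Groth.Prelude.Def_GrMod2
import Groth.Agent.Lib.Helper1.GrAlg

/-!
# Tails of graded modules versus sections of `M(n)~`: the algebraic part (helper1)
-/

set_option autoImplicit false
universe u
open DirectSum CategoryTheory AlgebraicGeometry TopologicalSpace Opposite

namespace Groth.Agent.Helper1.GrTailA

section Ring
variable {R A : Type u} [CommRing R] [CommRing A] [Algebra R A] (𝒜 : ℕ → Submodule R A)
  [GradedAlgebra 𝒜]

theorem pow_mem_deg {a : A} (ha : a ∈ 𝒜 1) (K : ℕ) : a ^ K ∈ 𝒜 K := by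
  have := SetLike.pow_mem_graded K ha
  rwa [smul_eq_mul, mul_one] at this

/-- high-degree homogeneous elements lie in the ideal generated by the `K`-th powers of
degree-one generators of the irrelevant ideal -/
theorem exists_deg_le_span_pow [IsNoetherianRing A] {k : ℕ} (T : Fin k → A)
    (hTspan : Ideal.span (Set.range T) = (HomogeneousIdeal.irrelevant 𝒜).toIdeal) (K : ℕ) :
    ∃ e₀ : ℕ, ∀ e : ℕ, e₀ ≤ e → ∀ a ∈ 𝒜 e, a ∈ Ideal.span (Set.range fun i => T i ^ K) := by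
  haveI : Algebra.FiniteType (𝒜 0) A := ((GrAlg.S4391 𝒜).1 inferInstance).2
  have hrad : (HomogeneousIdeal.irrelevant 𝒜).toIdeal ≤
      (Ideal.span (Set.range fun i => T i ^ K)).radical := by
    rw [← hTspan]
    refine Ideal.span_le.2 ?_
    rintro _ ⟨i, rfl⟩
    exact Ideal.mem_radical_iff.2 ⟨K, Ideal.subset_span ⟨i, rfl⟩⟩
  obtain ⟨k₀, hk₀⟩ := Ideal.exists_pow_le_of_le_radical_of_fg hrad (IsNoetherian.noetherian _)
  obtain ⟨m₀, hm₀⟩ := GrAlg.exists_le_irrelevant_pow 𝒜 k₀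
  exact ⟨m₀, fun e he a ha => hk₀ (hm₀ e he a ha)⟩

end Ring

section Mod
variable {R A : Type u} [CommRing R] [CommRing A] [Algebra R A] (𝒜 : ℕ → Submodule R A)
  [GradedAlgebra 𝒜] {M : Type u} [AddCommGroup M] [Module R M] [Module A M] [IsScalarTower R A M]
  (ℳ : ℕ → Submodule R M) [DirectSum.Decomposition ℳ] [SetLike.GradedSMul 𝒜 ℳ]

/-- homogeneous elements of high degree killed by powers of the generators of the irrelevant
ideal vanish -/
theorem nil_tail [IsNoetherianRing A] [Module.Finite A M] {k : ℕ} (T : Fin k → A)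
    (hT1 : ∀ i, T i ∈ 𝒜 1)
    (hTspan : Ideal.span (Set.range T) = (HomogeneousIdeal.irrelevant 𝒜).toIdeal) :
    ∃ N₀ : ℕ, ∀ n : ℕ, N₀ ≤ n → ∀ m ∈ ℳ n, (∀ i, ∃ N : ℕ, T i ^ N • m = 0) → m = 0 := by
  classical
  haveI : IsNoetherian A M := isNoetherian_of_isNoetherianRing_of_finite A M
  let X₀ : Set M := {m | (∃ n, m ∈ ℳ n) ∧ ∀ i, ∃ N : ℕ, T i ^ N • m = 0}
  have hfg : (Submodule.span A X₀).FG := IsNoetherian.noetherian _
  obtain ⟨X, hXsub, hXspan⟩ := (Submodule.fg_span_iff_fg_span_finset_subset _).mp hfg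
  have hdeg : ∀ y ∈ (X : Set M), ∃ e : ℕ, y ∈ ℳ e := fun y hy => (hXsub hy).1
  choose! e he using hdeg
  have hnil : ∀ y ∈ (X : Set M), ∀ i, ∃ N : ℕ, T i ^ N • y = 0 := fun y hy => (hXsub hy).2
  choose! Nn hNn using hnil
  let K : ℕ := X.sup fun y => Finset.univ.sup fun i => Nn y i
  have hK : ∀ y ∈ X, ∀ i, T i ^ K • y = 0 := by
    intro y hy i
    have h1 : Nn y i ≤ K :=
      le_trans (Finset.le_sup (f := fun i => Nn y i) (Finset.mem_univ i))
        (Finset.le_sup (f := fun y => Finset.univ.sup fun i => Nn y i) hy)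
    obtain ⟨r, hr⟩ := Nat.exists_eq_add_of_le h1
    rw [hr, pow_add, mul_comm, mul_smul, hNn y hy i, smul_zero]
  obtain ⟨e₀, he₀⟩ := exists_deg_le_span_pow 𝒜 T hTspan K
  have hJ : ∀ a ∈ Ideal.span (Set.range fun i => T i ^ K), ∀ y ∈ X, a • y = 0 := by
    intro a ha y hy
    induction ha using Submodule.span_induction with
    | mem a h =>
      obtain ⟨i, rfl⟩ := h
      exact hK y hy i
    | zero => exact zero_smul _ _
    | add a b _ _ ha hb => rw [add_smul, ha, hb, add_zero]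
    | smul c a _ ha => rw [smul_eq_mul, mul_smul, ha, smul_zero]
  refine ⟨X.sup e + e₀, fun n hn m hm hmnil => ?_⟩
  have hmX : m ∈ Submodule.span A (X : Set M) := by
    rw [← hXspan]
    exact Submodule.subset_span ⟨⟨n, hm⟩, hmnil⟩
  obtain ⟨t, c, y, hcy, rfl⟩ := GrAlg.exists_sum_of_mem_span 𝒜 ℳ (X : Set M) e he hm hmX
  refine Finset.sum_eq_zero fun j _ => ?_
  obtain ⟨hyX, hc, -⟩ := hcy j
  have hle : e (y j) ≤ X.sup e := Finset.le_sup (f := e) hyX
  exact hJ _ (he₀ _ (by omega) _ hc) _ hyX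

theorem mk_one_sum {S : Submonoid A} {ι : Type*} (s : Finset ι) (z : ι → M) :
    (LocalizedModule.mk (∑ l ∈ s, z l) (1 : S) : LocalizedModule S M) =
      ∑ l ∈ s, LocalizedModule.mk (z l) (1 : S) := by
  have := map_sum (LocalizedModule.mkLinearMap S M) z s
  simpa only [LocalizedModule.mkLinearMap_apply] using this

/-- value of a global section of `M(n)~` at a point -/
noncomputable abbrev vt {n : ℤ} (s : GrTilde.sect 𝒜 ℳ n (op ⊤)) (x : ProjectiveSpectrum 𝒜) :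
    GrTilde.LocMod 𝒜 (M := M) x :=
  ((s.1 ⟨x, trivial⟩ : GrTilde.tildeAt 𝒜 ℳ n x) : GrTilde.LocMod 𝒜 (M := M) x)

/-- **the algebraic heart**: eventual generation by degree-one elements, finiteness of one
piece over degree zero, and local description of sections give surjectivity of
`M_n → Γ(M(n)~)` in high degrees -/
theorem tail_surj [IsNoetherianRing A] {k : ℕ} (T : Fin k → A) (hT1 : ∀ i, T i ∈ 𝒜 1)
    (hTspan : Ideal.span (Set.range T) = (HomogeneousIdeal.irrelevant 𝒜).toIdeal)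
    (hgen : ∃ d₀ : ℤ, ∀ d : ℤ, d₀ ≤ d → ∀ s : GrTilde.sect 𝒜 ℳ d (op ⊤),
      ∃ s' : Fin k → GrTilde.sect 𝒜 ℳ (d - 1) (op ⊤),
        ∀ x, vt 𝒜 ℳ s x = ∑ i, T i • vt 𝒜 ℳ (s' i) x)
    (hfin : ∀ n : ℤ, ∃ (p : ℕ) (v : Fin p → GrTilde.sect 𝒜 ℳ n (op ⊤)),
      ∀ s : GrTilde.sect 𝒜 ℳ n (op ⊤), ∃ a : Fin p → A, (∀ j, a j ∈ 𝒜 0) ∧
        ∀ x, vt 𝒜 ℳ s x = ∑ j, a j • vt 𝒜 ℳ (v j) x)
    (hloc : ∀ (n : ℤ) (s : GrTilde.sect 𝒜 ℳ n (op ⊤)) (i : Fin k),
      ∃ (K j : ℕ) (m : M), m ∈ ℳ j ∧ (j : ℤ) = n + K ∧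
        ∀ x, T i ^ K • vt 𝒜 ℳ s x = LocalizedModule.mk m 1) :
    ∃ N : ℕ, ∀ n : ℕ, N ≤ n → ∀ s : GrTilde.sect 𝒜 ℳ (n : ℤ) (op ⊤),
      ∃ m ∈ ℳ n, ∀ x, vt 𝒜 ℳ s x = LocalizedModule.mk m 1 := by
  classical
  obtain ⟨d₀, hd₀⟩ := hgen
  obtain ⟨c, hc⟩ : ∃ c : ℕ, d₀ ≤ (c : ℤ) := ⟨d₀.toNat, Int.self_le_toNat d₀⟩
  obtain ⟨p, v, hv⟩ := hfin (c : ℤ)
  -- generation of all higher pieces by the piece of level `c`
  have hP : ∀ e : ℕ, ∀ d : ℤ, d = (c : ℤ) + e → ∀ s : GrTilde.sect 𝒜 ℳ d (op ⊤),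
      ∃ a : Fin p → A, (∀ j, a j ∈ 𝒜 e) ∧ ∀ x, vt 𝒜 ℳ s x = ∑ j, a j • vt 𝒜 ℳ (v j) x := by
    intro e
    induction e with
    | zero =>
      intro d hd s
      have hd' : d = (c : ℤ) := by simpa using hd
      subst hd'
      exact hv s
    | succ e ih =>
      intro d hd s
      obtain ⟨s', hs'⟩ := hd₀ d (by push_cast at hd; omega) s
      have hd1 : d - 1 = (c : ℤ) + e := by push_cast at hd; omega
      choose a ha hax using fun i => ih (d - 1) hd1 (s' i)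
      refine ⟨fun j => ∑ i, T i * a i j, fun j => ?_, fun x => ?_⟩
      · refine Submodule.sum_mem _ fun i _ => ?_
        have h := SetLike.mul_mem_graded (hT1 i) (ha i j)
        rwa [add_comm] at h
      · rw [hs' x]
        have h1 : ∀ i, T i • vt 𝒜 ℳ (s' i) x = ∑ j, (T i * a i j) • vt 𝒜 ℳ (v j) x := by
          intro i
          rw [hax i x, Finset.smul_sum]
          exact Finset.sum_congr rfl fun j _ => (mul_smul _ _ _).symm
        rw [Finset.sum_congr rfl fun i _ => h1 i, Finset.sum_comm]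
        exact Finset.sum_congr rfl fun j _ => (Finset.sum_smul).symm
  -- uniform exponent for the generators of level `c`
  choose Kl jl ml hml hjl hKl using fun q : Fin p × Fin k => hloc (c : ℤ) (v q.1) q.2
  let K : ℕ := Finset.univ.sup Kl
  have hKle : ∀ q, Kl q ≤ K := fun q => Finset.le_sup (Finset.mem_univ q)
  have hunif : ∀ (j : Fin p) (i : Fin k), ∃ m : M, m ∈ ℳ (c + K) ∧
      ∀ x, T i ^ K • vt 𝒜 ℳ (v j) x = LocalizedModule.mk m 1 := by
    intro j i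
    obtain ⟨r, hr⟩ := Nat.exists_eq_add_of_le (hKle (j, i))
    refine ⟨T i ^ r • ml (j, i), ?_, fun x => ?_⟩
    · have h2 : T i ^ r • ml (j, i) ∈ ℳ (r + jl (j, i)) :=
        SetLike.GradedSMul.smul_mem (pow_mem_deg 𝒜 (hT1 i) r) (hml (j, i))
      have h3 := hjl (j, i)
      have h4 : r + jl (j, i) = c + K := by omega
      rwa [h4] at h2
    · rw [hr, pow_add, mul_comm, mul_smul, hKl (j, i) x, LocalizedModule.smul'_mk]
  choose mu hmu hmux using hunif
  obtain ⟨e₀, he₀⟩ := exists_deg_le_span_pow 𝒜 T hTspan K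
  refine ⟨c + max e₀ K, fun n hn s => ?_⟩
  obtain ⟨e, rfl⟩ : ∃ e, n = c + e := ⟨n - c, by omega⟩
  have he : e₀ ≤ e := by
    have := le_max_left e₀ K
    omega
  have heK : K ≤ e := by
    have := le_max_right e₀ K
    omega
  obtain ⟨a, ha, hax⟩ := hP e ((c + e : ℕ) : ℤ) (Nat.cast_add c e) s
  have hTK : ∀ y ∈ Set.range (fun i => T i ^ K), y ∈ 𝒜 ((fun _ : A => K) y) := by
    rintro _ ⟨i, rfl⟩
    exact pow_mem_deg 𝒜 (hT1 i) K
  have hdec : ∀ j, ∃ (t : ℕ) (cc : Fin t → A) (idx : Fin t → Fin k),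
      (∀ l, cc l ∈ 𝒜 (e - K)) ∧ a j = ∑ l, cc l * T (idx l) ^ K := by
    intro j
    obtain ⟨t, cc, y, hcy, hsum⟩ := GrAlg.exists_sum_of_mem_span 𝒜 𝒜
      (Set.range fun i => T i ^ K) (fun _ => K) hTK (ha j) (he₀ e he _ (ha j))
    choose idx hidx using fun l => (hcy l).1
    refine ⟨t, cc, idx, fun l => (hcy l).2.1, ?_⟩
    rw [hsum]
    refine Finset.sum_congr rfl fun l _ => ?_
    rw [smul_eq_mul, ← hidx l]
  choose tt cc idx hcc hsum using hdec
  refine ⟨∑ j, ∑ l, cc j l • mu j (idx j l), ?_, fun x => ?_⟩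
  · refine Submodule.sum_mem _ fun j _ => Submodule.sum_mem _ fun l _ => ?_
    have h2 : cc j l • mu j (idx j l) ∈ ℳ ((e - K) + (c + K)) :=
      SetLike.GradedSMul.smul_mem (hcc j l) (hmu j (idx j l))
    have h4 : (e - K) + (c + K) = c + e := by omega
    rwa [h4] at h2
  · rw [hax x]
    have h1 : ∀ j, a j • vt 𝒜 ℳ (v j) x =
        LocalizedModule.mk (∑ l, cc j l • mu j (idx j l)) 1 := by
      intro j
      rw [hsum j, Finset.sum_smul, mk_one_sum]
      refine Finset.sum_congr rfl fun l _ => ?_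
      rw [mul_smul, hmux j (idx j l) x, LocalizedModule.smul'_mk]
    rw [Finset.sum_congr rfl fun j _ => h1 j, ← mk_one_sum]

end Mod

end Groth.Agent.Helper1.GrTailA
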