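import Mathlib
import Groth.Prelude.Def_GrMod2
import Groth.Agent.Lib.Helper1.GrSect
import Groth.Agent.Lib.Helper1.GrTailA

/-!
# Tails of graded modules versus sections of `M(n)~`: local structure of sections (helper1)
-/

set_option autoImplicit false
universe u
open DirectSum CategoryTheory AlgebraicGeometry TopologicalSpace Opposite

namespace Groth.Agent.Helper1.GrTailB

open Groth.Agent.Helper1.GrTailA

variable {R A : Type u} [CommRing R] [CommRing A] [Algebra R A] (𝒜 : ℕ → Submodule R A)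
  [GradedAlgebra 𝒜] {M : Type u} [AddCommGroup M] [Module R M] [Module A M] [IsScalarTower R A M]
  (ℳ : ℕ → Submodule R M) [DirectSum.Decomposition ℳ] [SetLike.GradedSMul 𝒜 ℳ]

/-- restriction of a global section to a basic open -/
noncomputable def resB {n : ℤ} (s : GrTilde.sect 𝒜 ℳ n (op ⊤)) (f : A) :
    GrTilde.sect 𝒜 ℳ n (op (ProjectiveSpectrum.basicOpen 𝒜 f)) :=
  GrTilde.res 𝒜 ℳ n (homOfLE (le_top : ProjectiveSpectrum.basicOpen 𝒜 f ≤ ⊤)).op s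

/-- a global section is a fraction `m / f^k` on `D₊(f)` -/
theorem exists_frac {n : ℤ} (s : GrTilde.sect 𝒜 ℳ n (op ⊤)) {f : A} (hf : f ∈ 𝒜 1) :
    ∃ (kf jf : ℕ) (m : M), m ∈ ℳ jf ∧ (jf : ℤ) = kf + n ∧
      ∀ (x : ProjectiveSpectrum 𝒜) (hx : f ∉ x.asHomogeneousIdeal),
        vt 𝒜 ℳ s x = (LocalizedModule.mk m
          (⟨f ^ kf, fun h => hx (x.isPrime.mem_of_pow_mem kf h)⟩ :
            x.asHomogeneousIdeal.toIdeal.primeCompl) : GrTilde.LocMod 𝒜 (M := M) x) := by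
  obtain ⟨kf, jf, m, hj, hm⟩ := GrSect.main 𝒜 ℳ n Nat.one_pos hf (resB 𝒜 ℳ s f)
  refine ⟨kf, jf, m.1, m.2, by simpa using hj, fun x hx => ?_⟩
  exact hm ⟨x, hx⟩

/-- **local structure**: a power of a degree-one element moves a global section into the
image of `M` -/
theorem loc_structure {k : ℕ} (T : Fin k → A) (hT1 : ∀ i, T i ∈ 𝒜 1)
    (hcov : ∀ x : ProjectiveSpectrum 𝒜, ∃ i, T i ∉ x.asHomogeneousIdeal)
    (n : ℤ) (s : GrTilde.sect 𝒜 ℳ n (op ⊤)) (i₀ : Fin k) :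
    ∃ (K j : ℕ) (m : M), m ∈ ℳ j ∧ (j : ℤ) = n + K ∧
      ∀ x, T i₀ ^ K • vt 𝒜 ℳ s x = LocalizedModule.mk m 1 := by
  classical
  choose kk jj mm hmm hjj hval using fun i => exists_frac 𝒜 ℳ s (hT1 i)
  have hz : ∀ i, ∃ N : ℕ,
      (T i * T i₀) ^ N • (T i₀ ^ kk i₀ • mm i - T i ^ kk i • mm i₀) = 0 := by
    intro i
    by_contra hcon
    push Not at hcon
    have hdeg : T i₀ ^ kk i₀ • mm i - T i ^ kk i • mm i₀ ∈ ℳ (kk i₀ + jj i) := by
      refine sub_mem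
        (SetLike.GradedSMul.smul_mem (pow_mem_deg 𝒜 (hT1 i₀) (kk i₀)) (hmm i)) ?_
      have h1 : T i ^ kk i • mm i₀ ∈ ℳ (kk i + jj i₀) :=
        SetLike.GradedSMul.smul_mem (pow_mem_deg 𝒜 (hT1 i) (kk i)) (hmm i₀)
      have h2 : kk i + jj i₀ = kk i₀ + jj i := by
        have := hjj i
        have := hjj i₀
        omega
      rwa [h2] at h1
    obtain ⟨x, hxf, hx⟩ := GrTildeLib.exists_point_of_forall_pow_smul_ne 𝒜 ℳ (d := 1 + 1)
      (by norm_num) (SetLike.mul_mem_graded (hT1 i) (hT1 i₀)) hdeg hcon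
    have hxf' : T i * T i₀ ∉ x.asHomogeneousIdeal :=
      (ProjectiveSpectrum.mem_basicOpen 𝒜 _ x).mp hxf
    have hxi : T i ∉ x.asHomogeneousIdeal := fun h => hxf' (Ideal.mul_mem_right _ _ h)
    have hx0 : T i₀ ∉ x.asHomogeneousIdeal := fun h => hxf' (Ideal.mul_mem_left _ _ h)
    have e1 := hval i x hxi
    have e2 := hval i₀ x hx0
    rw [e1, LocalizedModule.mk_eq] at e2
    obtain ⟨u, hu⟩ := e2
    apply u.2
    apply hx
    show u.1 • (T i₀ ^ kk i₀ • mm i - T i ^ kk i • mm i₀) = 0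
    rw [smul_sub, sub_eq_zero]
    exact hu
  choose N hN using hz
  obtain ⟨L, hNL⟩ : ∃ L, ∀ i, N i ≤ L :=
    ⟨Finset.univ.sup N, fun i => Finset.le_sup (Finset.mem_univ i)⟩
  refine ⟨L + kk i₀, L + jj i₀, T i₀ ^ L • mm i₀,
    SetLike.GradedSMul.smul_mem (pow_mem_deg 𝒜 (hT1 i₀) L) (hmm i₀), ?_, fun x => ?_⟩
  · have := hjj i₀
    push_cast
    omega
  · obtain ⟨i, hi⟩ := hcov x
    rw [hval i x hi, LocalizedModule.smul'_mk, LocalizedModule.mk_eq]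
    refine ⟨⟨T i ^ L, fun h => hi (x.isPrime.mem_of_pow_mem L h)⟩, ?_⟩
    obtain ⟨r, hr⟩ := Nat.exists_eq_add_of_le (hNL i)
    have h0 : (T i * T i₀) ^ L • (T i₀ ^ kk i₀ • mm i - T i ^ kk i • mm i₀) = 0 := by
      rw [hr, pow_add, mul_comm, mul_smul, hN i, smul_zero]
    rw [smul_sub, sub_eq_zero] at h0
    show T i ^ L • ((1 : A) • (T i₀ ^ (L + kk i₀) • mm i)) =
      T i ^ L • (T i ^ kk i • (T i₀ ^ L • mm i₀))
    rw [one_smul]
    simp only [smul_smul] at h0 ⊢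
    convert h0 using 2 <;> ring

/-- a homogeneous element whose section vanishes is killed by powers of degree-one elements -/
theorem nil_of_vanish {k : ℕ} (T : Fin k → A) (hT1 : ∀ i, T i ∈ 𝒜 1) {n : ℕ} {m : M}
    (hm : m ∈ ℳ n)
    (h0 : ∀ x : ProjectiveSpectrum 𝒜,
      (LocalizedModule.mk m 1 : GrTilde.LocMod 𝒜 (M := M) x) = 0) (i : Fin k) :
    ∃ N : ℕ, T i ^ N • m = 0 := by
  by_contra hcon
  push Not at hcon
  obtain ⟨x, -, hx⟩ :=
    GrTildeLib.exists_point_of_forall_pow_smul_ne 𝒜 ℳ Nat.one_pos (hT1 i) hm hcon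
  have h := h0 x
  rw [← LocalizedModule.zero_mk (1 : x.asHomogeneousIdeal.toIdeal.primeCompl),
    LocalizedModule.mk_eq] at h
  obtain ⟨u, hu⟩ := h
  rw [smul_zero, smul_zero, one_smul] at hu
  exact u.2 (hx u.1 hu)

theorem cover_of_span {k : ℕ} (T : Fin k → A)
    (hTspan : Ideal.span (Set.range T) = (HomogeneousIdeal.irrelevant 𝒜).toIdeal)
    (x : ProjectiveSpectrum 𝒜) : ∃ i, T i ∉ x.asHomogeneousIdeal := by
  by_contra hcon
  push Not at hcon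
  apply x.not_irrelevant_le
  intro a ha
  have ha' : a ∈ (HomogeneousIdeal.irrelevant 𝒜).toIdeal := ha
  rw [← hTspan] at ha'
  have hle : Ideal.span (Set.range T) ≤ x.asHomogeneousIdeal.toIdeal :=
    Ideal.span_le.2 (by rintro _ ⟨i, rfl⟩; exact hcon i)
  exact hle ha'

/-- **assembly**: eventual generation and finiteness of the modules of sections give
bijectivity of `M_n → Γ(M(n)~)` in high degrees -/
theorem bijective_of [IsNoetherianRing A] [Module.Finite A M] {k : ℕ} (T : Fin k → A)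
    (hT1 : ∀ i, T i ∈ 𝒜 1)
    (hTspan : Ideal.span (Set.range T) = (HomogeneousIdeal.irrelevant 𝒜).toIdeal)
    (hgen : ∃ d₀ : ℤ, ∀ d : ℤ, d₀ ≤ d → ∀ s : GrTilde.sect 𝒜 ℳ d (op ⊤),
      ∃ s' : Fin k → GrTilde.sect 𝒜 ℳ (d - 1) (op ⊤),
        ∀ x, vt 𝒜 ℳ s x = ∑ i, T i • vt 𝒜 ℳ (s' i) x)
    (hfin : ∀ n : ℤ, ∃ (p : ℕ) (v : Fin p → GrTilde.sect 𝒜 ℳ n (op ⊤)),
      ∀ s : GrTilde.sect 𝒜 ℳ n (op ⊤), ∃ a : Fin p → A, (∀ j, a j ∈ 𝒜 0) ∧
        ∀ x, vt 𝒜 ℳ s x = ∑ j, a j • vt 𝒜 ℳ (v j) x) :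
    ∃ n₀ : ℕ, ∀ n : ℕ, n₀ ≤ n →
      Function.Bijective (fun m : ℳ n => GrTilde.globalOf 𝒜 ℳ m) := by
  have hcov := cover_of_span 𝒜 T hTspan
  obtain ⟨N₁, hN₁⟩ := tail_surj 𝒜 ℳ T hT1 hTspan hgen hfin (loc_structure 𝒜 ℳ T hT1 hcov)
  obtain ⟨N₀, hN₀⟩ := nil_tail 𝒜 ℳ T hT1 hTspan
  refine ⟨max N₀ N₁, fun n hn => ⟨?_, ?_⟩⟩
  · intro m m' h
    have hv : ∀ x : ProjectiveSpectrum 𝒜,
        (LocalizedModule.mk (m.1 - m'.1) 1 : GrTilde.LocMod 𝒜 (M := M) x) = 0 := by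
      intro x
      have h1 := congrArg (fun s : GrTilde.sect 𝒜 ℳ (n : ℤ) (op ⊤) => vt 𝒜 ℳ s x) h
      have h2 : (LocalizedModule.mk m.1 1 : GrTilde.LocMod 𝒜 (M := M) x) =
          LocalizedModule.mk m'.1 1 := h1
      have h3 : (LocalizedModule.mk (m.1 - m'.1) 1 : GrTilde.LocMod 𝒜 (M := M) x) =
          LocalizedModule.mk m.1 1 - LocalizedModule.mk m'.1 1 :=
        map_sub (LocalizedModule.mkLinearMap _ M) m.1 m'.1
      rw [h3, h2, sub_self]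
    have h4 := hN₀ n (le_trans (le_max_left _ _) hn) (m.1 - m'.1) (sub_mem m.2 m'.2)
      (fun i => nil_of_vanish 𝒜 ℳ T hT1 (sub_mem m.2 m'.2) hv i)
    exact Subtype.ext (sub_eq_zero.1 h4)
  · intro s
    obtain ⟨m, hm, hms⟩ := hN₁ n (le_trans (le_max_right _ _) hn) s
    refine ⟨⟨m, hm⟩, ?_⟩
    refine Subtype.ext (funext fun x => Subtype.ext ?_)
    exact (hms x.1).symm

end Groth.Agent.Helper1.GrTailB
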