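import Mathlib
import Groth.Agent.Lib.Helper1.GrModQC
import Groth.Agent.Lib.Helper1.FtLocal

/-!
# Finiteness of the sections of `M(n)~` over `D₊(f)`, `f` homogeneous of any positive degree,
for Noetherian graded modules (helper1 library)
-/

universe u
open AlgebraicGeometry CategoryTheory Limits TopologicalSpace HomogeneousLocalization Opposite

namespace Groth.Agent.Helper1.GrModFTd

open Groth.Agent.Helper1.GrModQC Groth.Agent.Helper1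

set_option synthInstance.maxHeartbeats 400000
variable {A σ : Type u} [CommRing A] [SetLike σ A] [AddSubgroupClass σ A] (𝒜 : ℕ → σ)
  [GradedRing 𝒜]
variable {M τ : Type u} [AddCommGroup M] [Module A M] [SetLike τ M] [AddSubgroupClass τ M]
  (ℳ : ℕ → τ) [DirectSum.Decomposition ℳ] [SetLike.GradedSMul 𝒜 ℳ] (n : ℤ)
variable (f : A) {d : ℕ} (hf : f ∈ 𝒜 d) (hd : 0 < d)

/-- sections of `M(n)~` over `D₊(f)` as a module over `A_(f)` -/
abbrev Γn : Type u := Γ((GrMod.tilde 𝒜 ℳ n).restrict (Proj.awayι 𝒜 f hf hd), ⊤)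

/-- value of a section -/
noncomputable abbrev vn (s : Γn 𝒜 ℳ n f hf hd) (p : ProjectiveSpectrum 𝒜)
    (hp : p ∈ (Proj.awayι 𝒜 f hf hd) ''ᵁ ⊤) : GrMod.LocMod 𝒜 (M := M) p :=
  ((((show GrMod.sect 𝒜 ℳ n (op ((Proj.awayι 𝒜 f hf hd) ''ᵁ ⊤)) from s)).1
    ⟨p, hp⟩ : GrMod.tildeAt 𝒜 ℳ n p) : GrMod.LocMod 𝒜 (M := M) p)

omit [DirectSum.Decomposition ℳ] in
theorem extn (s t : Γn 𝒜 ℳ n f hf hd)
    (h : ∀ (p : ProjectiveSpectrum 𝒜) (hp : p ∈ (Proj.awayι 𝒜 f hf hd) ''ᵁ ⊤),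
      vn 𝒜 ℳ n f hf hd s p hp = vn 𝒜 ℳ n f hf hd t p hp) : s = t := by
  apply Subtype.ext
  funext p
  apply Subtype.ext
  exact h p.1 p.2

theorem notMem (p : ProjectiveSpectrum 𝒜) (hp : p ∈ (Proj.awayι 𝒜 f hf hd) ''ᵁ ⊤) :
    f ∉ p.asHomogeneousIdeal :=
  (Proj.mem_basicOpen 𝒜 f p).mp (image_le 𝒜 f hf hd ⊤ hp)

theorem pow_notMem (k : ℕ) (p : ProjectiveSpectrum 𝒜)
    (hp : p ∈ (Proj.awayι 𝒜 f hf hd) ''ᵁ ⊤) :
    f ^ k ∉ p.asHomogeneousIdeal := fun h =>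
  notMem 𝒜 f hf hd p hp (p.isPrime.mem_of_pow_mem k h)

include hf in
theorem pow_mem (k : ℕ) : f ^ k ∈ 𝒜 (k • d) := SetLike.pow_mem_graded k hf

/-- the section `x_i / f^k` of `M(n)~` over `D₊(f)`, `i = k d + n` -/
noncomputable def Φ (k i : ℕ) (hi : (i : ℤ) = k * d + n) (x : M) : Γn 𝒜 ℳ n f hf hd :=
  fracS 𝒜 ℳ n ((Proj.awayι 𝒜 f hf hd) ''ᵁ ⊤) (DirectSum.decompose ℳ x i)
    ⟨f ^ k, pow_mem 𝒜 f hf k⟩ (by rw [hi, smul_eq_mul, Nat.cast_mul])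
    (fun p => pow_notMem 𝒜 f hf hd k p.1 p.2)

theorem Φ_val (k i : ℕ) (hi : (i : ℤ) = k * d + n) (x : M) (p : ProjectiveSpectrum 𝒜)
    (hp : p ∈ (Proj.awayι 𝒜 f hf hd) ''ᵁ ⊤) :
    vn 𝒜 ℳ n f hf hd (Φ 𝒜 ℳ n f hf hd k i hi x) p hp =
      LocalizedModule.mk (DirectSum.decompose ℳ x i : M)
        ⟨f ^ k, pow_notMem 𝒜 f hf hd k p hp⟩ := rfl

omit [DirectSum.Decomposition ℳ] in
theorem vn_add (s t : Γn 𝒜 ℳ n f hf hd) (p : ProjectiveSpectrum 𝒜)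
    (hp : p ∈ (Proj.awayι 𝒜 f hf hd) ''ᵁ ⊤) :
    vn 𝒜 ℳ n f hf hd (s + t) p hp = vn 𝒜 ℳ n f hf hd s p hp + vn 𝒜 ℳ n f hf hd t p hp := rfl

omit [DirectSum.Decomposition ℳ] in
theorem vn_zero (p : ProjectiveSpectrum 𝒜)
    (hp : p ∈ (Proj.awayι 𝒜 f hf hd) ''ᵁ ⊤) :
    vn 𝒜 ℳ n f hf hd 0 p hp = 0 := rfl

omit [AddSubgroupClass τ M] [DirectSum.Decomposition ℳ] [SetLike.GradedSMul 𝒜 ℳ] in
theorem mk_add_same (p : ProjectiveSpectrum 𝒜) (a b : M)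
    (s : p.asHomogeneousIdeal.toIdeal.primeCompl) :
    (LocalizedModule.mk (a + b) s : GrMod.LocMod 𝒜 (M := M) p) =
      LocalizedModule.mk a s + LocalizedModule.mk b s := by
  rw [LocalizedModule.mk_add_mk, LocalizedModule.mk_eq]
  refine ⟨1, ?_⟩
  simp only [one_smul, mul_smul, smul_add]

theorem Φ_add (k i : ℕ) (hi : (i : ℤ) = k * d + n) (x y : M) :
    Φ 𝒜 ℳ n f hf hd k i hi (x + y) =
      Φ 𝒜 ℳ n f hf hd k i hi x + Φ 𝒜 ℳ n f hf hd k i hi y := by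
  apply extn
  intro p hp
  rw [vn_add, Φ_val, Φ_val, Φ_val, ← mk_add_same]
  simp only [DirectSum.decompose_add, DirectSum.add_apply, AddMemClass.coe_add]

theorem Φ_eq_zero (k i : ℕ) (hi : (i : ℤ) = k * d + n) (x : M)
    (h : (DirectSum.decompose ℳ x i : M) = 0) :
    Φ 𝒜 ℳ n f hf hd k i hi x = 0 := by
  apply extn
  intro p hp
  rw [vn_zero, Φ_val, h, LocalizedModule.zero_mk]

theorem Φ_smul {j : ℕ} {a : A} (ha : a ∈ 𝒜 (j • d)) (k i : ℕ) (hi : (i : ℤ) = k * d + n)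
    (x : M) (hi' : ((j • d + i : ℕ) : ℤ) = ((j + k : ℕ) : ℤ) * d + n) :
    Φ 𝒜 ℳ n f hf hd (j + k) (j • d + i) hi' (a • x) =
      act (R' := .of (Away 𝒜 f)) ((GrMod.tilde 𝒜 ℳ n).restrict (Proj.awayι 𝒜 f hf hd)) ⊤
        (Away.mk 𝒜 hf j a ha) (Φ 𝒜 ℳ n f hf hd k i hi x) := by
  apply extn
  intro p hp
  have hfp := notMem 𝒜 f hf hd p hp
  refine Eq.trans ?_ (act_val 𝒜 ℳ n f hf hd ⊤ _ (Φ 𝒜 ℳ n f hf hd k i hi x) p hp hfp).symm
  have h1 : (HomogeneousLocalization.mapId 𝒜 (show Submonoid.powers f ≤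
      p.asHomogeneousIdeal.toIdeal.primeCompl from Submonoid.powers_le.mpr hfp)
        (Away.mk 𝒜 hf j a ha)).val =
      Localization.mk a (⟨f ^ j, pow_notMem 𝒜 f hf hd j p hp⟩ :
        p.asHomogeneousIdeal.toIdeal.primeCompl) := rfl
  rw [h1]
  have h2 := Φ_val 𝒜 ℳ n f hf hd k i hi x p hp
  have h3 := Φ_val 𝒜 ℳ n f hf hd (j + k) (j • d + i) hi' (a • x) p hp
  refine h3.trans ?_
  refine Eq.trans ?_ (congrArg _ h2.symm)
  rw [mk_smul_mk']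
  have h4 : (DirectSum.decompose ℳ (a • x) (j • d + i) : M) =
      a • (DirectSum.decompose ℳ x i : M) :=
    GrModSect.pr_smul_left 𝒜 ℳ ha i x
  rw [h4]
  congr 1
  exact Subtype.ext (pow_add f j k)

noncomputable instance instModΓn : Module (CommRingCat.of (Away 𝒜 f)) (Γn 𝒜 ℳ n f hf hd) :=
  Scheme.Modules.instModuleCarrierCarrierObjOppositeOpensCarrierCarrierCommRingCatSpecAbPresheafOp
    (R := CommRingCat.of (Away 𝒜 f))

theorem Φ_smul_mem (S : Submodule (CommRingCat.of (Away 𝒜 f)) (Γn 𝒜 ℳ n f hf hd))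
    {k₀ i₀ : ℕ} (h₀ : (i₀ : ℤ) = k₀ * d + n) {t : M} (ht : t ∈ ℳ i₀)
    (hS : Φ 𝒜 ℳ n f hf hd k₀ i₀ h₀ t ∈ S) (a : A) (k i : ℕ) (hi : (i : ℤ) = k * d + n) :
    Φ 𝒜 ℳ n f hf hd k i hi (a • t) ∈ S := by
  classical
  induction a using DirectSum.Decomposition.inductionOn 𝒜 with
  | zero =>
    rw [zero_smul, Φ_eq_zero 𝒜 ℳ n f hf hd k i hi 0 (by simp)]
    exact S.zero_mem
  | @homogeneous j a =>
    have hmem : (a : A) • t ∈ ℳ (j + i₀) := SetLike.GradedSMul.smul_mem a.2 ht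
    by_cases hji : j + i₀ = i
    · have hdZ : (0 : ℤ) < (d : ℤ) := by exact_mod_cast hd
      have h1 : ((j : ℤ) + i₀) = i := by exact_mod_cast hji
      have h2 : (j : ℤ) = ((k : ℤ) - k₀) * d := by rw [h₀, hi] at h1; linarith
      have hk : k₀ ≤ k := by
        have h3 : (0 : ℤ) ≤ ((k : ℤ) - k₀) * d := by rw [← h2]; positivity
        have h4 : (0 : ℤ) ≤ (k : ℤ) - k₀ := nonneg_of_mul_nonneg_left h3 hdZ
        omega
      obtain ⟨j', rfl⟩ := Nat.exists_eq_add_of_le' hk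
      have hj : j = j' • d := by
        rw [smul_eq_mul]
        have : (j : ℤ) = (j' : ℤ) * d := by rw [h2]; push_cast; ring
        exact_mod_cast this
      subst hj
      subst hji
      rw [Φ_smul 𝒜 ℳ n f hf hd a.2 k₀ i₀ h₀ t hi, act_def]
      exact S.smul_mem _ hS
    · rw [Φ_eq_zero 𝒜 ℳ n f hf hd k i hi _ (DirectSum.decompose_of_mem_ne ℳ hmem hji)]
      exact S.zero_mem
  | add a b ha hb =>
    rw [add_smul, Φ_add]
    exact S.add_mem ha hb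

/-- finiteness of the sections of `M(n)~` over `D₊(f)` -/
theorem finite_sections
    (hFG : (Submodule.span A {m : M | ∃ k i : ℕ, (i : ℤ) = k * d + n ∧ m ∈ ℳ i}).FG) :
    Module.Finite (CommRingCat.of (Away 𝒜 f)) (Γn 𝒜 ℳ n f hf hd) := by
  classical
  rw [Submodule.fg_span_iff_fg_span_finset_subset] at hFG
  obtain ⟨T, hTsub, hTspan⟩ := hFG
  have hdeg : ∀ t : T, ∃ k i : ℕ, (i : ℤ) = k * d + n ∧ (t : M) ∈ ℳ i := fun t => hTsub t.2
  choose kk ii hdg hmem using hdeg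
  let S : Submodule (CommRingCat.of (Away 𝒜 f)) (Γn 𝒜 ℳ n f hf hd) :=
    Submodule.span _ (Set.range fun t : T => Φ 𝒜 ℳ n f hf hd (kk t) (ii t) (hdg t) (t : M))
  have key : ∀ m ∈ Submodule.span A (T : Set M), ∀ (k i : ℕ) (hi : (i : ℤ) = k * d + n),
      Φ 𝒜 ℳ n f hf hd k i hi m ∈ S := by
    intro m hm
    induction hm using Submodule.closure_induction with
    | zero =>
      intro k i hi
      rw [Φ_eq_zero 𝒜 ℳ n f hf hd k i hi 0 (by simp)]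
      exact S.zero_mem
    | add x y _ _ hx hy =>
      intro k i hi
      rw [Φ_add]
      exact S.add_mem (hx k i hi) (hy k i hi)
    | smul_mem a t ht =>
      intro k i hi
      have ht' : t ∈ T := Finset.mem_coe.1 ht
      exact Φ_smul_mem 𝒜 ℳ n f hf hd S (hdg ⟨t, ht'⟩) (hmem ⟨t, ht'⟩)
        (Submodule.subset_span ⟨⟨t, ht'⟩, rfl⟩) a k i hi
  have htop : S = ⊤ := by
    rw [eq_top_iff]
    intro s _
    have hW : ((Proj.awayι 𝒜 f hf hd) ''ᵁ ⊤ : Opens (ProjectiveSpectrum.top 𝒜)) =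
        (ProjectiveSpectrum.basicOpen 𝒜 f : Opens (ProjectiveSpectrum.top 𝒜)) := by
      rw [Scheme.Hom.image_top_eq_opensRange, Proj.opensRange_awayι]
      rfl
    obtain ⟨k, i, m, hi, hval⟩ := main' 𝒜 ℳ n ((Proj.awayι 𝒜 f hf hd) ''ᵁ ⊤) hd hf hW
      (show GrMod.sect 𝒜 ℳ n (op ((Proj.awayι 𝒜 f hf hd) ''ᵁ ⊤)) from s)
    have hs : s = Φ 𝒜 ℳ n f hf hd k i hi m.1 := by
      apply extn
      intro p hp
      rw [Φ_val, DirectSum.decompose_of_mem_same ℳ m.2]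
      exact hval p hp (notMem 𝒜 f hf hd p hp)
    rw [hs]
    apply key
    rw [← hTspan]
    exact Submodule.subset_span ⟨k, i, hi, m.2⟩
  rw [Module.finite_def, ← htop]
  exact Submodule.fg_span (Set.finite_range _)

/-- `M(n)~` is of finite type when `M` is a Noetherian module -/
theorem tilde_isFiniteType [IsNoetherian A M] :
    SheafOfModules.IsFiniteType.{u, u, u} (GrMod.tilde 𝒜 ℳ n) := by
  haveI := tilde_isQuasicoherent 𝒜 ℳ n
  let I : Type u := (d : ℕ) × {f : A // 0 < d ∧ f ∈ 𝒜 d}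
  refine FtLocal.isFiniteType_of_affine_charts (GrMod.tilde 𝒜 ℳ n)
    (I := I) (fun i => CommRingCat.of (Away 𝒜 i.2.1))
    (fun i => Proj.awayι 𝒜 i.2.1 i.2.2.2 i.2.2.1) ?_ ?_
  · rw [eq_top_iff]
    intro x _
    obtain ⟨i, hi, g, hg, hgx⟩ := Groth.Agent.Helper1.ProjTop.exists_homogeneous_notMem 𝒜 x
    rw [Opens.mem_iSup]
    refine ⟨⟨i, g, hi, hg⟩, ?_⟩
    rw [Proj.opensRange_awayι]
    exact (Proj.mem_basicOpen 𝒜 g x).mpr hgx
  · intro i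
    exact finite_sections 𝒜 ℳ n i.2.1 i.2.2.2 i.2.2.1 (IsNoetherian.noetherian _)

end Groth.Agent.Helper1.GrModFTd
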