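import Mathlib
import Groth.Prelude.Def_GrMod3
import Groth.Agent.Lib.Helper1.GrTwTens

open DirectSum CategoryTheory AlgebraicGeometry TopologicalSpace Opposite HomogeneousLocalization

universe u

namespace Groth.Agent.Helper1.GrModTens

open Groth.Agent.Helper1.GrTwTriv Groth.Agent.Helper1.GrTwTens Groth.Agent.Helper1

section
variable {A σ : Type u} [CommRing A] [SetLike σ A] [AddSubgroupClass σ A] (𝒜 : ℕ → σ)
  [GradedRing 𝒜]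
variable {M τ : Type u} [AddCommGroup M] [Module A M] [SetLike τ M] [AddSubgroupClass τ M] (ℳ : ℕ → τ)
  [SetLike.GradedSMul 𝒜 ℳ]

set_option synthInstance.maxHeartbeats 400000

theorem smul_mem_tildeAt {m n k : ℤ} (hk : k = m + n) (x : ProjectiveSpectrum 𝒜)
    {i j i' j' : ℕ} (a : 𝒜 i) (s : 𝒜 j) (hs : s.1 ∉ x.asHomogeneousIdeal)
    (z : ℳ i') (s' : 𝒜 j') (hs' : s'.1 ∉ x.asHomogeneousIdeal)
    (h : (i : ℤ) = j + m ∨ a.1 = 0) (h' : (i' : ℤ) = j' + n ∨ z.1 = 0) :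
    ((Localization.mk a.1 ⟨s.1, hs⟩ : GrTwist.Loc 𝒜 x) •
      (LocalizedModule.mk z.1 ⟨s'.1, hs'⟩ : GrMod.LocMod 𝒜 (M := M) x)) ∈
      GrMod.tildeAt 𝒜 ℳ k x := by
  rw [LocalizedModule.mk_smul_mk]
  rcases h with h | h
  · rcases h' with h' | h'
    · refine Submodule.subset_span ⟨i + i', j + j', ⟨a.1 • z.1, SetLike.GradedSMul.smul_mem a.2 z.2⟩,
        ⟨s.1 * s'.1, SetLike.mul_mem_graded s.2 s'.2⟩, ?_, ?_, rfl⟩
      · exact fun hmem => (x.isPrime.mem_or_mem hmem).elim hs hs'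
      · push_cast; omega
    · rw [h', smul_zero, LocalizedModule.zero_mk]
      exact Submodule.zero_mem _
  · rw [h, zero_smul, LocalizedModule.zero_mk]
    exact Submodule.zero_mem _

theorem tilde_sec_val_eq {n : ℤ} {U : (Opens (ProjectiveSpectrum.top 𝒜))ᵒᵖ}
    (s : GrMod.sect 𝒜 ℳ n U) (x : U.unop) :
    ∃ (i j : ℕ) (z : ℳ i) (s' : 𝒜 j) (hs' : s'.1 ∉ x.1.asHomogeneousIdeal),
      ((i : ℤ) = j + n ∨ z.1 = 0) ∧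
      ((s.1 x).1 : GrMod.LocMod 𝒜 (M := M) x.1) = LocalizedModule.mk z.1 ⟨s'.1, hs'⟩ := by
  obtain ⟨W, hxW, iW, i, j, a, s', nin, h, hw⟩ := s.2 x
  exact ⟨i, j, a, s', nin ⟨x.1, hxW⟩, h, hw ⟨x.1, hxW⟩⟩

theorem smul_sec_mem {m n k : ℤ} (hk : k = m + n) {U : (Opens (ProjectiveSpectrum.top 𝒜))ᵒᵖ}
    (t : GrTwist.sectN (𝒜 := 𝒜) m U) (s : GrMod.sect 𝒜 ℳ n U) (x : U.unop) :
    ((t.1 x).1 : GrTwist.Loc 𝒜 x.1) • ((s.1 x).1 : GrMod.LocMod 𝒜 (M := M) x.1) ∈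
      GrMod.tildeAt 𝒜 ℳ k x.1 := by
  obtain ⟨i, j, a, s', hs', h, e1⟩ := sec_val_eq 𝒜 t x
  obtain ⟨i', j', z, s'', hs'', h', e2⟩ := tilde_sec_val_eq 𝒜 ℳ s x
  rw [e1, e2]
  exact smul_mem_tildeAt 𝒜 ℳ hk x.1 a s' _ z s'' _ h h'

theorem smul_sec_locFrac {m n k : ℤ} (hk : k = m + n) {U : (Opens (ProjectiveSpectrum.top 𝒜))ᵒᵖ}
    (t : GrTwist.sectN (𝒜 := 𝒜) m U) (s : GrMod.sect 𝒜 ℳ n U) :
    (GrMod.isLocFrac 𝒜 ℳ k).pred (fun x : U.unop =>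
      (⟨((t.1 x).1 : GrTwist.Loc 𝒜 x.1) • ((s.1 x).1 : GrMod.LocMod 𝒜 (M := M) x.1),
        smul_sec_mem 𝒜 ℳ hk t s x⟩ : GrMod.tildeAt 𝒜 ℳ k x.1)) := by
  intro x
  obtain ⟨W, hxW, iW, i, j, a, s', nin, h, hw⟩ := t.2 x
  obtain ⟨W', hxW', iW', i', j', z, s'', nin', h', hw'⟩ := s.2 x
  have nin2 : ∀ y : (W ⊓ W' : Opens _), s'.1 * s''.1 ∉ y.1.asHomogeneousIdeal := fun y hmem =>
    (y.1.isPrime.mem_or_mem hmem).elim (nin ⟨y.1, y.2.1⟩) (nin' ⟨y.1, y.2.2⟩)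
  refine ⟨W ⊓ W', ⟨hxW, hxW'⟩, Opens.infLELeft _ _ ≫ iW, i + i', j + j',
    ⟨a.1 • z.1, SetLike.GradedSMul.smul_mem a.2 z.2⟩,
    ⟨s'.1 * s''.1, SetLike.mul_mem_graded s'.2 s''.2⟩, nin2, ?_, fun y => ?_⟩
  · rcases h with h | h
    · rcases h' with h' | h'
      · exact Or.inl (by push_cast; omega)
      · exact Or.inr (show a.1 • z.1 = 0 by rw [h', smul_zero])
    · exact Or.inr (show a.1 • z.1 = 0 by rw [h, zero_smul])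
  · have e1 := hw ⟨y.1, y.2.1⟩
    have e2 := hw' ⟨y.1, y.2.2⟩
    dsimp only at e1 e2 ⊢
    erw [e1, e2]
    rw [LocalizedModule.mk_smul_mk]
    rfl

/-- pointwise product of a section of `O(m)` and a section of `M(n)~` -/
noncomputable def smulSec {m n k : ℤ} (hk : k = m + n) {U : (Opens (ProjectiveSpectrum.top 𝒜))ᵒᵖ}
    (t : GrTwist.sectN (𝒜 := 𝒜) m U) (s : GrMod.sect 𝒜 ℳ n U) : GrMod.sect 𝒜 ℳ k U :=
  ⟨fun x => ⟨((t.1 x).1 : GrTwist.Loc 𝒜 x.1) • ((s.1 x).1 : GrMod.LocMod 𝒜 (M := M) x.1),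
    smul_sec_mem 𝒜 ℳ hk t s x⟩, smul_sec_locFrac 𝒜 ℳ hk t s⟩

theorem tilde_smul_sec_val {n : ℤ} (U : (Opens (ProjectiveSpectrum.top 𝒜))ᵒᵖ)
    (r : GrTwist.O (𝒜 := 𝒜) U) (s : GrMod.sect 𝒜 ℳ n U) (x : U.unop) :
    (((r • s : GrMod.sect 𝒜 ℳ n U).1 x).1 : GrMod.LocMod 𝒜 (M := M) x.1) =
      (r.1 x).val • ((s.1 x).1 : GrMod.LocMod 𝒜 (M := M) x.1) :=
  GrMod.coe_smul_val n x.1 (r.1 x) (s.1 x)

theorem smulSec_add_left {m n k : ℤ} (hk : k = m + n) {U : (Opens (ProjectiveSpectrum.top 𝒜))ᵒᵖ}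
    (t₁ t₂ : GrTwist.sectN (𝒜 := 𝒜) m U) (s : GrMod.sect 𝒜 ℳ n U) :
    smulSec 𝒜 ℳ hk (t₁ + t₂) s = smulSec 𝒜 ℳ hk t₁ s + smulSec 𝒜 ℳ hk t₂ s := by
  apply Subtype.ext
  funext x
  apply Subtype.ext
  exact add_smul _ _ _

theorem smulSec_add_right {m n k : ℤ} (hk : k = m + n) {U : (Opens (ProjectiveSpectrum.top 𝒜))ᵒᵖ}
    (t : GrTwist.sectN (𝒜 := 𝒜) m U) (s₁ s₂ : GrMod.sect 𝒜 ℳ n U) :
    smulSec 𝒜 ℳ hk t (s₁ + s₂) = smulSec 𝒜 ℳ hk t s₁ + smulSec 𝒜 ℳ hk t s₂ := by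
  apply Subtype.ext
  funext x
  apply Subtype.ext
  exact smul_add _ _ _

theorem smulSec_smul_left {m n k : ℤ} (hk : k = m + n) {U : (Opens (ProjectiveSpectrum.top 𝒜))ᵒᵖ}
    (r : GrTwist.O (𝒜 := 𝒜) U)
    (t : GrTwist.sectN (𝒜 := 𝒜) m U) (s : GrMod.sect 𝒜 ℳ n U) :
    smulSec 𝒜 ℳ hk (r • t) s = r • smulSec 𝒜 ℳ hk t s := by
  apply Subtype.ext
  funext x
  apply Subtype.ext
  refine Eq.trans ?_ (tilde_smul_sec_val 𝒜 ℳ U r (smulSec 𝒜 ℳ hk t s) x).symm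
  refine Eq.trans (congrArg (· • ((s.1 x).1 : GrMod.LocMod 𝒜 (M := M) x.1))
    (smul_sec_val 𝒜 U.unop r t x)) ?_
  exact mul_smul _ _ _

theorem smulSec_smul_right {m n k : ℤ} (hk : k = m + n) {U : (Opens (ProjectiveSpectrum.top 𝒜))ᵒᵖ}
    (r : GrTwist.O (𝒜 := 𝒜) U)
    (t : GrTwist.sectN (𝒜 := 𝒜) m U) (s : GrMod.sect 𝒜 ℳ n U) :
    smulSec 𝒜 ℳ hk t (r • s) = r • smulSec 𝒜 ℳ hk t s := by
  apply Subtype.ext
  funext x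
  apply Subtype.ext
  refine Eq.trans ?_ (tilde_smul_sec_val 𝒜 ℳ U r (smulSec 𝒜 ℳ hk t s) x).symm
  refine Eq.trans (congrArg (((t.1 x).1 : GrTwist.Loc 𝒜 x.1) • ·)
    (tilde_smul_sec_val 𝒜 ℳ U r s x)) ?_
  exact smul_comm _ _ _

/-- the multiplication pairing `O(m) × M(n)~ → M(k)~`, `k = m + n` -/
noncomputable def tildePairing {m n k : ℤ} (hk : k = m + n) :
    TensLib.Pairing (GrTwist.twist 𝒜 m) (GrMod.tilde 𝒜 ℳ n) (GrMod.tilde 𝒜 ℳ k) where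
  β U t s := smulSec 𝒜 ℳ hk (U := U) t s
  add_left _ t₁ t₂ s := smulSec_add_left 𝒜 ℳ hk t₁ t₂ s
  smul_left _ r t s := smulSec_smul_left 𝒜 ℳ hk r t s
  add_right _ t s₁ s₂ := smulSec_add_right 𝒜 ℳ hk t s₁ s₂
  smul_right _ r t s := smulSec_smul_right 𝒜 ℳ hk r t s
  nat _ _ _ := rfl

theorem smulSec_fracSec_bijective {i j : ℕ} {a b : A} (ha : a ∈ 𝒜 i) (hb : b ∈ 𝒜 j) {m n k : ℤ}
    (hm : (i : ℤ) = j + m) (hk : k = m + n)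
    (V : Opens (ProjectiveSpectrum.top 𝒜)) (hbV : ∀ x : V, b ∉ x.1.asHomogeneousIdeal)
    (haV : ∀ x : V, a ∉ x.1.asHomogeneousIdeal) :
    Function.Bijective (fun s : GrMod.sect 𝒜 ℳ n (op V) =>
      smulSec 𝒜 ℳ hk (fracSec 𝒜 ha hb hm V hbV) s) := by
  have hinv : ∀ x : V, (Localization.mk b ⟨a, haV x⟩ : GrTwist.Loc 𝒜 x.1) *
      Localization.mk a ⟨b, hbV x⟩ = 1 := fun x => mk_mul_mk_inv 𝒜 x.1 (hbV x) (haV x)
  constructor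
  · intro s s' h
    apply Subtype.ext
    funext x
    apply Subtype.ext
    have h1 := congrArg (fun u : GrMod.sect 𝒜 ℳ k (op V) =>
      ((u.1 x).1 : GrMod.LocMod 𝒜 (M := M) x.1)) h
    have h2 : (Localization.mk a ⟨b, hbV x⟩ : GrTwist.Loc 𝒜 x.1) •
        ((s.1 x).1 : GrMod.LocMod 𝒜 (M := M) x.1) =
        (Localization.mk a ⟨b, hbV x⟩ : GrTwist.Loc 𝒜 x.1) •
        ((s'.1 x).1 : GrMod.LocMod 𝒜 (M := M) x.1) := h1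
    have h3 := congrArg ((Localization.mk b ⟨a, haV x⟩ : GrTwist.Loc 𝒜 x.1) • ·) h2
    simp only [← mul_smul] at h3
    erw [hinv x, one_smul, one_smul] at h3
    exact h3
  · intro u
    have hm' : (j : ℤ) = i + (-m) := by omega
    have hk' : n = -m + k := by omega
    refine ⟨smulSec 𝒜 ℳ hk' (fracSec 𝒜 hb ha hm' V haV) u, ?_⟩
    apply Subtype.ext
    funext x
    apply Subtype.ext
    change (Localization.mk a ⟨b, hbV x⟩ : GrTwist.Loc 𝒜 x.1) •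
      ((Localization.mk b ⟨a, haV x⟩ : GrTwist.Loc 𝒜 x.1) •
        ((u.1 x).1 : GrMod.LocMod 𝒜 (M := M) x.1)) = _
    rw [← mul_smul]
    have := mk_mul_mk_inv 𝒜 x.1 (haV x) (hbV x)
    erw [this]
    exact one_smul _ _

theorem nonempty_tensor_twist_tilde_iso {m n k : ℤ} (hk : k = m + n)
    (hcov : ∀ x : ProjectiveSpectrum 𝒜, ∃ (i j : ℕ) (a b : A), a ∈ 𝒜 i ∧ b ∈ 𝒜 j ∧
      (i : ℤ) = j + m ∧ a ∉ x.asHomogeneousIdeal ∧ b ∉ x.asHomogeneousIdeal) :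
    Nonempty (CohB1.tensorMod (GrTwist.twist 𝒜 m) (GrMod.tilde 𝒜 ℳ n) ≅ GrMod.tilde 𝒜 ℳ k) := by
  refine (tildePairing 𝒜 ℳ hk).nonempty_tensorMod_iso
    (fun V : (Proj 𝒜).Opens => ∃ (i j : ℕ) (a b : A), a ∈ 𝒜 i ∧ b ∈ 𝒜 j ∧ (i : ℤ) = j + m ∧
      ∀ x : ProjectiveSpectrum 𝒜, x ∈ V → a ∉ x.asHomogeneousIdeal ∧ b ∉ x.asHomogeneousIdeal)
    ?_ ?_ ?_
  · intro x
    obtain ⟨i, j, a, b, ha, hb, hm, hax, hbx⟩ := hcov x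
    refine ⟨Proj.basicOpen 𝒜 a ⊓ Proj.basicOpen 𝒜 b, ⟨i, j, a, b, ha, hb, hm, ?_⟩, ?_⟩
    · intro y hy
      exact ⟨(Proj.mem_basicOpen 𝒜 a y).1 hy.1, (Proj.mem_basicOpen 𝒜 b y).1 hy.2⟩
    · exact ⟨(Proj.mem_basicOpen 𝒜 a x).2 hax, (Proj.mem_basicOpen 𝒜 b x).2 hbx⟩
  · rintro V V' ⟨i, j, a, b, ha, hb, hm, h⟩ hle
    exact ⟨i, j, a, b, ha, hb, hm, fun x hx => h x (hle hx)⟩
  · rintro V ⟨i, j, a, b, ha, hb, hm, h⟩
    refine ⟨fracSec 𝒜 ha hb hm V (fun x => (h x.1 x.2).2), ?_, ?_⟩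
    · exact fracSec_bijective 𝒜 ha hb hm V (fun x => (h x.1 x.2).2) (fun x => (h x.1 x.2).1)
    · exact smulSec_fracSec_bijective 𝒜 ℳ ha hb hm hk V (fun x => (h x.1 x.2).2)
        (fun x => (h x.1 x.2).1)

end

section Comm
variable {X : Scheme.{u}}
open MonoidalCategory

noncomputable def tensorPreComm (M N : X.Modules) :
    (show X.PresheafOfModules from CohB1.tensorPre M N) ≅
      (show X.PresheafOfModules from CohB1.tensorPre N M) := by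
  unfold CohB1.tensorPre
  exact β_ (CohB1.toPMod M) (CohB1.toPMod N)

noncomputable def tensorModComm (M N : X.Modules) :
    CohB1.tensorMod M N ≅ CohB1.tensorMod N M :=
  (CohB1.sheafifyMod X).mapIso (tensorPreComm M N)

end Comm

end Groth.Agent.Helper1.GrModTens
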