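import Mathlib
import Groth.Agent.Lib.Helper1.GrModFTd
import Groth.Agent.Lib.Helper1.SerreAmple1
import Groth.Agent.Lib.Helper1.TwistAmple
import Groth.Agent.Lib.Helper1.ProjNoeth
import Groth.Agent.Lib.Helper1.GrModTens
import Groth.Agent.Lib.Helper1.ProjTop
import Groth.Agent.Lib.Helper5.LTen.Assoc1

/-!
# Serre vanishing on `Proj` of a Noetherian graded ring (helper1 library)
-/

set_option autoImplicit false
universe u
open CategoryTheory CategoryTheory.Limits AlgebraicGeometry TopologicalSpace Opposite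

namespace Groth.Agent.Helper1.ProjSerre

open Groth.Agent.Helper1

set_option synthInstance.maxHeartbeats 400000

section Gen
variable {X : Scheme.{u}}

set_option backward.isDefEq.respectTransparency.types false in
/-- the associator of the tensor product of `O_X`-modules -/
noncomputable def tensorModAssoc (M N P : X.Modules) :
    CohB1.tensorMod (CohB1.tensorMod M N) P ≅ CohB1.tensorMod M (CohB1.tensorMod N P) :=
  Groth.Agent.Lib.Helper5.TenAssoc.assocObj (O := X.sheaf) M N P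

end Gen

variable {R A : Type u} [CommRing R] [CommRing A] [Algebra R A] (𝒜 : ℕ → Submodule R A)
  [GradedAlgebra 𝒜]

/-- `O(r)` is coherent on `Proj` of a Noetherian graded ring -/
theorem isCoh_twist [IsNoetherianRing A] (r : ℤ) : Coh.IsCoh (Twist.twist 𝒜 r) := by
  change Coh.IsCoh (GrMod.tilde 𝒜 𝒜 r)
  exact ⟨GrModQC.tilde_isQuasicoherent 𝒜 𝒜 r, GrModFTd.tilde_isFiniteType 𝒜 𝒜 r⟩

/-- on a quasi-compact `Proj`, one degree serves all points -/
theorem exists_uniform_degree [CompactSpace (Proj 𝒜)] :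
    ∃ N : ℕ, 0 < N ∧ ∀ x : ProjectiveSpectrum 𝒜, ∃ g ∈ 𝒜 N, g ∉ x.asHomogeneousIdeal := by
  classical
  choose e he g hg hgx using fun x : (Proj 𝒜) =>
    ProjTop.exists_homogeneous_notMem 𝒜 (show ProjectiveSpectrum 𝒜 from x)
  obtain ⟨t, ht⟩ := (isCompact_univ (X := Proj 𝒜)).elim_nhds_subcover
    (fun x => (Proj.basicOpen 𝒜 (g x) : Set (Proj 𝒜)))
    (fun x _ => (Proj.basicOpen 𝒜 (g x)).isOpen.mem_nhds
      ((Proj.mem_basicOpen 𝒜 (g x) x).2 (hgx x)))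
  refine ⟨∏ y ∈ t, e y, Finset.prod_pos fun y _ => he y, fun x => ?_⟩
  have hx := ht.2 (Set.mem_univ (x : Proj 𝒜))
  simp only [Set.mem_iUnion] at hx
  obtain ⟨y, hyt, hxy⟩ := hx
  obtain ⟨c, hc⟩ := Finset.dvd_prod_of_mem e hyt
  refine ⟨g y ^ c, ?_, fun h =>
    (Proj.mem_basicOpen 𝒜 (g y) x).1 hxy (x.isPrime.mem_of_pow_mem _ h)⟩
  rw [hc, mul_comm]
  exact SetLike.pow_mem_graded c (hg y)

/-- **Serre vanishing on `Proj A`**, `A` a Noetherian graded ring -/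
theorem serre_vanishing_proj [IsNoetherianRing A] (F : (Proj 𝒜).Modules) (hF : Coh.IsCoh F)
    (p : ℕ) (hp : 0 < p) :
    ∃ d₀ : ℤ, ∀ d : ℤ, d₀ ≤ d → Subsingleton (Coh.HH (Proj 𝒜) (Twist.twistBy 𝒜 F d) p) := by
  classical
  haveI := ProjNoeth.finiteType_of_isNoetherianRing 𝒜
  haveI : IsNoetherianRing (𝒜 0) := isNoetherianRing_of_surjective A (𝒜 0)
    (GradedRing.projZeroRingHom' 𝒜) (GradedRing.projZeroRingHom'_surjective 𝒜)
  haveI : CompactSpace (Proj 𝒜) :=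
    QuasiCompact.compactSpace_of_compactSpace (Proj.toSpecZero 𝒜)
  obtain ⟨N, hN, hunit⟩ := exists_uniform_degree 𝒜
  have hunit' : ∀ x : ProjectiveSpectrum 𝒜, ∃ g' : 𝒜 N, (g' : A) ∉ x.asHomogeneousIdeal :=
    fun x => by
      obtain ⟨g, hg, hgx⟩ := hunit x
      exact ⟨⟨g, hg⟩, hgx⟩
  have hL : CohB1.IsAmple (Twist.twist 𝒜 (N : ℤ)) := TwistAmple.isAmple_twist 𝒜 hN hunit'
  have hcoh : ∀ r : ℕ, Coh.IsCoh (CohB1.tensorMod F (Twist.twist 𝒜 (r : ℤ))) := fun r =>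
    SerreAmple.isCoh_tensor F _ hF (isCoh_twist 𝒜 r)
  have hsv := fun r : ℕ => SerreAmple.serre_vanishing (↥(𝒜 0)) (Proj.toSpecZero 𝒜) hL _ (hcoh r)
  choose D hD using hsv
  let D₀ : ℕ := (Finset.range N).sup D
  refine ⟨((N * D₀ : ℕ) : ℤ), fun d hd => ?_⟩
  have hd0 : 0 ≤ d := le_trans (Int.natCast_nonneg _) hd
  obtain ⟨dn, rfl⟩ := Int.eq_ofNat_of_zero_le hd0
  have hdn : N * D₀ ≤ dn := by exact_mod_cast hd
  have hrN : dn % N < N := Nat.mod_lt _ hN
  have hdq : dn = dn % N + N * (dn / N) := (Nat.mod_add_div dn N).symm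
  have hqge : D₀ ≤ dn / N := by
    rw [Nat.le_div_iff_mul_le hN, Nat.mul_comm]
    exact hdn
  have hDr : D (dn % N) ≤ dn / N :=
    le_trans (Finset.le_sup (f := D) (Finset.mem_range.2 hrN)) hqge
  have hvan := hD (dn % N) (dn / N) hDr p hp
  obtain ⟨e1⟩ := SerreAmple.nonempty_tensorPow_iso 𝒜 hunit (dn / N)
  have hk : ((dn : ℕ) : ℤ) = (((dn / N) * N : ℕ) : ℤ) + ((dn % N : ℕ) : ℤ) := by
    have : dn = (dn / N) * N + dn % N := by rw [Nat.mul_comm]; omega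
    exact_mod_cast this
  obtain ⟨e2⟩ := TwistTens.nonempty_tensor_twist_iso 𝒜 hk (by
    intro x
    obtain ⟨g, hg, hgx⟩ := hunit x
    refine ⟨(dn / N) • N, 0, g ^ (dn / N), 1, SetLike.pow_mem_graded _ hg,
      SetLike.GradedOne.one_mem, by simp, fun h => hgx (x.isPrime.mem_of_pow_mem _ h),
      TwistTens.one_not_mem 𝒜 x⟩)
  let φ : CohB1.tensorMod (CohB1.tensorMod F (Twist.twist 𝒜 ((dn % N : ℕ) : ℤ)))
      (CohB1.tensorPow (Twist.twist 𝒜 (N : ℤ)) (dn / N)) ≅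
      CohB1.tensorMod F (Twist.twist 𝒜 ((dn : ℕ) : ℤ)) :=
    TwistTens.tensorModCongrRight _ e1 ≪≫ tensorModAssoc F _ _ ≪≫
      TwistTens.tensorModCongrRight F (GrModTens.tensorModComm _ _ ≪≫ e2)
  exact Groth.Agent.Lib.Helper4.ClBridge2.subsingleton_HH_of_iso φ p hvan

end Groth.Agent.Helper1.ProjSerre
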