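import Mathlib
import Groth.Prelude.Def_GrMod2
import Groth.Agent.Lib.Helper1.ProjSerre
import Groth.Agent.Lib.Helper1.TildeTens
import Groth.Agent.Lib.Helper1.TildeQC
import Groth.Agent.Lib.Helper1.GrModFTd
import Groth.Agent.Lib.Helper1.ProjF3
import Groth.Agent.Lib.Helper4.TwExact
import Groth.Agent.Lib.Helper1.H1Surj
import Groth.Agent.Lib.Helper1.CohAbel
import Groth.Agent.Lib.Helper1.Dv15
import Groth.Agent.Lib.Helper1.SerreCrit
import Groth.Agent.Lib.Helper1.ProjNoeth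
import Groth.Agent.Lib.Helper1.GrTailA

/-!
# Eventual generation of `Γ(M(n)~)` by degree-one elements, from Serre vanishing (helper1)
-/

set_option backward.isDefEq.respectTransparency.types false
set_option synthInstance.maxHeartbeats 400000
set_option autoImplicit false
universe u
open CategoryTheory CategoryTheory.Limits AlgebraicGeometry TopologicalSpace Opposite

namespace Groth.Agent.Helper1.GrTailC

open Groth.Agent.Helper1 Groth.Agent.Helper1.TmulLib Groth.Agent.Helper1.TensLib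
open Groth.Agent.Helper1.ProjF Groth.Agent.Lib.Helper4

section Alg
open TensorProduct

theorem lift_bijective_right {R M N L : Type*} [CommRing R] [AddCommGroup M] [Module R M]
    [AddCommGroup N] [Module R N] [AddCommGroup L] [Module R L]
    (β : M →ₗ[R] N →ₗ[R] L) (σ : N) (hσ : Function.Bijective (fun r : R => r • σ))
    (hβ : Function.Bijective (fun m : M => β m σ)) :
    Function.Bijective (TensorProduct.lift β) := by
  have hβ' : Function.Bijective (β.flip σ) := by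
    have : (⇑(β.flip σ)) = fun m : M => β m σ := funext fun m => LinearMap.flip_apply β m σ
    rw [this]
    exact hβ
  have h := TensLib.lift_bijective β.flip σ hσ hβ'
  have hcomp : (TensorProduct.lift β : M ⊗[R] N → L) =
      (TensorProduct.lift β.flip) ∘ (TensorProduct.comm R M N) := by
    funext z
    induction z using TensorProduct.induction_on with
    | zero => simp
    | tmul m n => simp
    | add a b ha hb =>
      rw [Function.comp_apply] at ha hb ⊢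
      rw [map_add, map_add, map_add, ha, hb]
  rw [hcomp]
  exact h.comp (TensorProduct.comm R M N).bijective

end Alg

section Gen
variable {X : Scheme.{u}}

theorem sum_app_apply {M N : X.Modules} {ι : Type*} (s : Finset ι) (φ : ι → (M ⟶ N))
    (U : X.Opens) (x : Γ(M, U)) : (∑ i ∈ s, φ i).app U x = ∑ i ∈ s, (φ i).app U x := by
  classical
  induction s using Finset.induction_on with
  | empty =>
    rw [Finset.sum_empty, Finset.sum_empty]
    rfl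
  | insert a s ha ih =>
    rw [Finset.sum_insert ha, Finset.sum_insert ha, Scheme.Modules.Hom.add_app]
    change (φ a).app U x + (∑ i ∈ s, φ i).app U x = _
    rw [ih]

attribute [local instance] Abelian.hasFiniteBiproducts

/-- abstract commutation of a morphism with two comparison maps out of tensor products -/
theorem comm_sq_abs {M M' K K' L : X.Modules} (μ : M ⟶ M') (μ' : K ⟶ K') (p : Pairing M L K)
    (p' : Pairing M' L K')
    (h : ∀ (U : X.Opens) (m : Γ(M, U)) (l : Γ(L, U)),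
      p'.β (op U) (μ.app U m) l = μ'.app U (p.β (op U) m l)) :
    (TwExact.TL L).map μ ≫ descP p' = descP p ≫ μ' := by
  apply hom_ext_tm
  intro U m l
  have h1 : ((TwExact.TL L).map μ).app U (tm M L U m l) = tm M' L U (μ.app U m) l :=
    TwExact.TL_map_tm L μ U m l
  have h2 := descP_tm p' U (μ.app U m) l
  have h3 := descP_tm p U m l
  change (descP p').app U (((TwExact.TL L).map μ).app U (tm M L U m l)) =
    μ'.app U ((descP p).app U (tm M L U m l))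
  rw [h1, h2, h3]
  exact h U m l

/-- abstract form of the generation argument: if `H¹` of the twisted kernel vanishes, global
sections of the twist of the target are sums of images of global sections -/
theorem gen_abs {k : ℕ} {E₀ G E₁ G₁ L : X.Modules} (hL : TwExact.LocGen L)
    (μ : Fin k → (E₀ ⟶ G)) (hepi : Epi (biproduct.desc (f := fun _ : Fin k => E₀) μ))
    (hH1 : Subsingleton (Coh.HH X
      (CohB1.tensorMod (kernel (biproduct.desc (f := fun _ : Fin k => E₀) μ)) L) 1))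
    (μ₁ : Fin k → (E₁ ⟶ G₁)) (θ' : CohB1.tensorMod E₀ L ⟶ E₁) (θ : CohB1.tensorMod G L ⟶ G₁)
    [IsIso θ] (hcomm : ∀ i, (TwExact.TL L).map (μ i) ≫ θ = θ' ≫ μ₁ i)
    (s : Γ(G₁, ⊤)) : ∃ s' : Fin k → Γ(E₁, ⊤), s = ∑ i, (μ₁ i).app ⊤ (s' i) := by
  classical
  let Ψ := biproduct.desc (f := fun _ : Fin k => E₀) μ
  let S : ShortComplex X.Modules := ShortComplex.mk (kernel.ι Ψ) Ψ (kernel.condition _)
  have hSex : S.Exact := ShortComplex.exact_of_f_is_kernel _ (kernelIsKernel Ψ)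
  haveI : Mono S.f := inferInstanceAs (Mono (kernel.ι Ψ))
  haveI : Epi S.g := hepi
  have hS : S.ShortExact := { exact := hSex }
  have hS' := TwExact.shortExact_map hL hS
  have hsurj := H1Surj.app_top_surjective_of_H1 hS' hH1
  obtain ⟨e, he⟩ := hsurj ((inv θ).app ⊤ s)
  have he' : ((TwExact.TL L).map Ψ).app ⊤ e = (inv θ).app ⊤ s := he
  have hΨ : (TwExact.TL L).map Ψ ≫ θ =
      ∑ i, (TwExact.TL L).map (biproduct.π (fun _ : Fin k => E₀) i) ≫ θ' ≫ μ₁ i := by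
    have hdesc : Ψ = ∑ i, biproduct.π (fun _ : Fin k => E₀) i ≫ μ i := biproduct.desc_eq
    rw [hdesc, Functor.map_sum, Preadditive.sum_comp]
    refine Finset.sum_congr rfl fun i _ => ?_
    rw [Functor.map_comp, Category.assoc, hcomm i]
    rfl
  refine ⟨fun i => θ'.app ⊤
    (((TwExact.TL L).map (biproduct.π (fun _ : Fin k => E₀) i)).app ⊤ e), ?_⟩
  have h1 : s = ((TwExact.TL L).map Ψ ≫ θ).app ⊤ e := by
    change s = θ.app ⊤ (((TwExact.TL L).map Ψ).app ⊤ e)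
    rw [he']
    change s = (inv θ ≫ θ).app ⊤ s
    rw [IsIso.inv_hom_id]
    rfl
  rw [h1, hΨ, sum_app_apply]
  rfl

end Gen

variable {R A : Type u} [CommRing R] [CommRing A] [Algebra R A] (𝒜 : ℕ → Submodule R A)
  [GradedAlgebra 𝒜]
variable {M : Type u} [AddCommGroup M] [Module R M] [Module A M] (ℳ : ℕ → Submodule R M)
  [SetLike.GradedSMul 𝒜 ℳ]

/-- the section `a/1` of `O(d)` over `U` -/
noncomputable def aSec {d : ℕ} {a : A} (ha : a ∈ 𝒜 d)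
    (U : (Opens (ProjectiveSpectrum.top 𝒜))ᵒᵖ) : Twist.sectN (𝒜 := 𝒜) (d : ℤ) U :=
  TwistTriv.fracSec 𝒜 ha (SetLike.GradedOne.one_mem : (1 : A) ∈ 𝒜 0)
    (show (d : ℤ) = ((0 : ℕ) : ℤ) + d by simp) U.unop (fun x => TwistTens.one_not_mem 𝒜 x.1)

/-- multiplication by `a ∈ 𝒜 d`, on presheaves of abelian groups -/
noncomputable def mulPre {d : ℕ} {a : A} (ha : a ∈ 𝒜 d) {n k : ℤ} (hk : k = (d : ℤ) + n) :
    (GrTilde.tilde 𝒜 ℳ n).val.presheaf ⟶ (GrTilde.tilde 𝒜 ℳ k).val.presheaf where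
  app U := AddCommGrpCat.ofHom (AddMonoidHom.mk'
    (fun s => TildeTens.smulSec 𝒜 ℳ hk (U := U) (aSec 𝒜 ha U) s)
    (fun s s' => TildeTens.smulSec_add_right 𝒜 ℳ hk _ s s'))
  naturality := by
    intro U V f
    rfl

/-- multiplication by `a ∈ 𝒜 d`, as a morphism `M(n)~ ⟶ M(n+d)~` -/
noncomputable def mulHom {d : ℕ} {a : A} (ha : a ∈ 𝒜 d) {n k : ℤ} (hk : k = (d : ℤ) + n) :
    GrTilde.tilde 𝒜 ℳ n ⟶ GrTilde.tilde 𝒜 ℳ k :=
  (SheafOfModules.Hom.mk (PresheafOfModules.homMk (mulPre 𝒜 ℳ ha hk)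
    (fun U r s => TildeTens.smulSec_smul_right 𝒜 ℳ hk (U := U) r _ s)) :
    SheafOfModules.Hom _ _)

theorem mulHom_app {d : ℕ} {a : A} (ha : a ∈ 𝒜 d) {n k : ℤ} (hk : k = (d : ℤ) + n)
    (V : (Proj 𝒜).Opens) (s : GrTilde.sect 𝒜 ℳ n (op V)) :
    (mulHom 𝒜 ℳ ha hk).app V s =
      TildeTens.smulSec 𝒜 ℳ hk (U := op V) (aSec 𝒜 ha (op V)) s := rfl

theorem mulHom_app_surjective {d : ℕ} {a : A} (ha : a ∈ 𝒜 d) {n k : ℤ} (hk : k = (d : ℤ) + n)
    (V : Opens (ProjectiveSpectrum.top 𝒜)) (haV : ∀ x : V, a ∉ x.1.asHomogeneousIdeal) :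
    Function.Surjective (fun s : GrTilde.sect 𝒜 ℳ n (op V) =>
      TildeTens.smulSec 𝒜 ℳ hk (aSec 𝒜 ha (op V)) s) :=
  (TildeTens.smulSec_fracSec_bijective 𝒜 ℳ ha (SetLike.GradedOne.one_mem : (1 : A) ∈ 𝒜 0)
    (show (d : ℤ) = ((0 : ℕ) : ℤ) + d by simp) hk V
    (fun x => TwistTens.one_not_mem 𝒜 x.1) haV).2

theorem mk_one_smul_eq (x : ProjectiveSpectrum 𝒜) (a : A) (q : GrTilde.LocMod 𝒜 (M := M) x) :
    (Localization.mk a (1 : x.asHomogeneousIdeal.toIdeal.primeCompl) : Twist.Loc 𝒜 x) • q =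
      a • q := by
  induction q using LocalizedModule.induction_on with
  | h m s => rw [LocalizedModule.mk_smul_mk, one_mul, LocalizedModule.smul'_mk]

/-- evaluation of global sections at a point, as an additive map -/
noncomputable def evTop (n : ℤ) (x : ProjectiveSpectrum 𝒜) :
    GrTilde.sect 𝒜 ℳ n (op ⊤) →+ GrTilde.LocMod 𝒜 (M := M) x where
  toFun s := GrTailA.vt 𝒜 ℳ s x
  map_zero' := rfl
  map_add' _ _ := rfl

theorem vt_mulHom {d : ℕ} {a : A} (ha : a ∈ 𝒜 d) {n k : ℤ} (hk : k = (d : ℤ) + n)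
    (s : GrTilde.sect 𝒜 ℳ n (op ⊤)) (x : ProjectiveSpectrum 𝒜) :
    GrTailA.vt 𝒜 ℳ (show GrTilde.sect 𝒜 ℳ k (op ⊤) from (mulHom 𝒜 ℳ ha hk).app ⊤ s) x =
      a • GrTailA.vt 𝒜 ℳ s x :=
  mk_one_smul_eq 𝒜 x a _

/-- the comparison `M(n)~ ⊗ O(m) ⟶ M(m+n)~` is an isomorphism -/
theorem isIso_theta {m n k : ℤ} (hk : k = m + n)
    (hcov : ∀ x : ProjectiveSpectrum 𝒜, ∃ (i j : ℕ) (a b : A), a ∈ 𝒜 i ∧ b ∈ 𝒜 j ∧
      (i : ℤ) = j + m ∧ a ∉ x.asHomogeneousIdeal ∧ b ∉ x.asHomogeneousIdeal) :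
    IsIso (descP (swapP (TildeTens.tildePairing 𝒜 ℳ hk))) := by
  refine isIso_descP (swapP (TildeTens.tildePairing 𝒜 ℳ hk))
    (fun V : (Proj 𝒜).Opens => ∃ (i j : ℕ) (a b : A), a ∈ 𝒜 i ∧ b ∈ 𝒜 j ∧ (i : ℤ) = j + m ∧
      ∀ x : ProjectiveSpectrum 𝒜, x ∈ V → a ∉ x.asHomogeneousIdeal ∧ b ∉ x.asHomogeneousIdeal)
    ?_ ?_ ?_
  · intro x
    obtain ⟨i, j, a, b, ha, hb, hm, hax, hbx⟩ := hcov x
    refine ⟨Proj.basicOpen 𝒜 a ⊓ Proj.basicOpen 𝒜 b, ⟨i, j, a, b, ha, hb, hm, ?_⟩, ?_⟩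
    · intro y hy
      exact ⟨(Proj.mem_basicOpen 𝒜 a y).1 hy.1, (Proj.mem_basicOpen 𝒜 b y).1 hy.2⟩
    · exact ⟨(Proj.mem_basicOpen 𝒜 a x).2 hax, (Proj.mem_basicOpen 𝒜 b x).2 hbx⟩
  · rintro V V' ⟨i, j, a, b, ha, hb, hm, h⟩ hle
    exact ⟨i, j, a, b, ha, hb, hm, fun x hx => h x (hle hx)⟩
  · rintro V ⟨i, j, a, b, ha, hb, hm, h⟩
    exact lift_bijective_right
      (LinearMap.mk₂ _ ((swapP (TildeTens.tildePairing 𝒜 ℳ hk)).β (op V))
        ((swapP (TildeTens.tildePairing 𝒜 ℳ hk)).add_left _)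
        ((swapP (TildeTens.tildePairing 𝒜 ℳ hk)).smul_left _)
        ((swapP (TildeTens.tildePairing 𝒜 ℳ hk)).add_right _)
        ((swapP (TildeTens.tildePairing 𝒜 ℳ hk)).smul_right _))
      (TwistTriv.fracSec 𝒜 ha hb hm V (fun x => (h x.1 x.2).2))
      (TwistTriv.fracSec_bijective 𝒜 ha hb hm V (fun x => (h x.1 x.2).2)
        (fun x => (h x.1 x.2).1))
      (TildeTens.smulSec_fracSec_bijective 𝒜 ℳ ha hb hm hk V (fun x => (h x.1 x.2).2)
        (fun x => (h x.1 x.2).1))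

/-- multiplication by a degree-one element commutes with the comparison maps -/
theorem comm_sq {a : A} (ha : a ∈ 𝒜 1) {n n' m k k' : ℤ} (hn : n' = ((1 : ℕ) : ℤ) + n)
    (hk : k = m + n) (hk' : k' = m + n') (hkk : k' = ((1 : ℕ) : ℤ) + k) :
    (TwExact.TL (Twist.twist 𝒜 m)).map (mulHom 𝒜 ℳ ha hn) ≫
      descP (swapP (TildeTens.tildePairing 𝒜 ℳ hk')) =
    descP (swapP (TildeTens.tildePairing 𝒜 ℳ hk)) ≫ mulHom 𝒜 ℳ ha hkk := by
  refine comm_sq_abs (mulHom 𝒜 ℳ ha hn) (mulHom 𝒜 ℳ ha hkk)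
    (swapP (TildeTens.tildePairing 𝒜 ℳ hk)) (swapP (TildeTens.tildePairing 𝒜 ℳ hk')) ?_
  intro U s b
  apply Subtype.ext
  funext x
  apply Subtype.ext
  exact smul_comm _ _ _

attribute [local instance] Abelian.hasFiniteBiproducts

variable {k : ℕ} (T : Fin k → A) (hT1 : ∀ i, T i ∈ 𝒜 1)

theorem h01 : (0 : ℤ) = ((1 : ℕ) : ℤ) + (-1) := by norm_num

/-- the map `⊕ M(-1)~ ⟶ M~` given by the degree-one elements `T i` -/
noncomputable def Psi : (⨁ fun _ : Fin k => GrTilde.tilde 𝒜 ℳ (-1)) ⟶ GrTilde.tilde 𝒜 ℳ 0 :=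
  biproduct.desc fun i => mulHom 𝒜 ℳ (hT1 i) h01

theorem epi_Psi (hcov : ∀ x : ProjectiveSpectrum 𝒜, ∃ i, T i ∉ x.asHomogeneousIdeal) :
    Epi (Psi 𝒜 ℳ T hT1) := by
  apply SerreCrit.epi_of_locally_surjective
  intro U t x hxU
  obtain ⟨i, hi⟩ := hcov (show ProjectiveSpectrum 𝒜 from x)
  have hxW : x ∈ U ⊓ Proj.basicOpen 𝒜 (T i) := ⟨hxU, (Proj.mem_basicOpen 𝒜 (T i) x).2 hi⟩
  refine ⟨U ⊓ Proj.basicOpen 𝒜 (T i), inf_le_left, hxW, ?_⟩
  have hW : ∀ y : (U ⊓ Proj.basicOpen 𝒜 (T i) : (Proj 𝒜).Opens),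
      T i ∉ y.1.asHomogeneousIdeal := fun y => (Proj.mem_basicOpen 𝒜 (T i) y.1).1 y.2.2
  obtain ⟨s, hs⟩ := mulHom_app_surjective 𝒜 ℳ (hT1 i) h01 (U ⊓ Proj.basicOpen 𝒜 (T i)) hW
    (QcCech.res (GrTilde.tilde 𝒜 ℳ 0) inf_le_left t)
  refine ⟨(biproduct.ι (fun _ : Fin k => GrTilde.tilde 𝒜 ℳ (-1)) i).app _ s, ?_⟩
  have h1 : biproduct.ι (fun _ : Fin k => GrTilde.tilde 𝒜 ℳ (-1)) i ≫ Psi 𝒜 ℳ T hT1 =
      mulHom 𝒜 ℳ (hT1 i) h01 := biproduct.ι_desc _ _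
  have h2 := congrArg (fun q => q.app (U ⊓ Proj.basicOpen 𝒜 (T i)) s) h1
  exact h2.trans hs

omit [SetLike.GradedSMul 𝒜 ℳ] in
theorem exists_unit_frac
    (hcov1 : ∀ x : ProjectiveSpectrum 𝒜, ∃ f ∈ 𝒜 1, f ∉ x.asHomogeneousIdeal) (m : ℤ)
    (x : ProjectiveSpectrum 𝒜) : ∃ (i j : ℕ) (a b : A), a ∈ 𝒜 i ∧ b ∈ 𝒜 j ∧
      (i : ℤ) = j + m ∧ a ∉ x.asHomogeneousIdeal ∧ b ∉ x.asHomogeneousIdeal := by
  obtain ⟨f, hf, hfx⟩ := hcov1 x
  refine ⟨m.toNat • 1, (-m).toNat • 1, f ^ m.toNat, f ^ (-m).toNat,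
    SetLike.pow_mem_graded _ hf, SetLike.pow_mem_graded _ hf, ?_,
    fun h => hfx (x.isPrime.mem_of_pow_mem _ h), fun h => hfx (x.isPrime.mem_of_pow_mem _ h)⟩
  have := Int.toNat_sub_toNat_neg m
  push_cast [smul_eq_mul]
  omega

include hT1 in
/-- **eventual generation**: for `d ≫ 0` every global section of `M(d)~` is a combination
`∑ T i • s_i` with `s_i` global sections of `M(d-1)~` -/
theorem generation [IsScalarTower R A M] [DirectSum.Decomposition ℳ] [IsNoetherianRing A]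
    [Module.Finite A M]
    (hcov : ∀ x : ProjectiveSpectrum 𝒜, ∃ i, T i ∉ x.asHomogeneousIdeal) :
    ∃ d₀ : ℤ, ∀ d : ℤ, d₀ ≤ d → ∀ s : GrTilde.sect 𝒜 ℳ d (op ⊤),
      ∃ s' : Fin k → GrTilde.sect 𝒜 ℳ (d - 1) (op ⊤),
        ∀ x, GrTailA.vt 𝒜 ℳ s x = ∑ i, T i • GrTailA.vt 𝒜 ℳ (s' i) x := by
  classical
  haveI : IsNoetherian A M := isNoetherian_of_isNoetherianRing_of_finite A M
  haveI := ProjNoeth.isNoetherian_proj 𝒜
  have hcoh : ∀ n : ℤ, Coh.IsCoh (GrTilde.tilde 𝒜 ℳ n) := fun n =>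
    ⟨TildeQC.tilde_isQuasicoherent 𝒜 ℳ n,
      (show SheafOfModules.IsFiniteType.{u, u, u} (GrMod.tilde 𝒜 ℳ n) from
        GrModFTd.tilde_isFiniteType 𝒜 ℳ n)⟩
  have hE : Coh.IsCoh (⨁ fun _ : Fin k => GrTilde.tilde 𝒜 ℳ (-1)) :=
    Dv.isCoh_of_iso (biproduct.isoCoproduct _).symm (Dv.isCoh_coprod _ (hcoh (-1)) k)
  have hepi : Epi (Psi 𝒜 ℳ T hT1) := epi_Psi 𝒜 ℳ T hT1 hcov
  have hK : Coh.IsCoh (kernel (Psi 𝒜 ℳ T hT1)) := FtLocal.isCoh_kernel hE (hcoh 0) _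
  obtain ⟨d₀, hd₀⟩ := ProjSerre.serre_vanishing_proj 𝒜 _ hK 1 Nat.one_pos
  refine ⟨d₀, fun d hd s => ?_⟩
  have hcov1 : ∀ x : ProjectiveSpectrum 𝒜, ∃ f ∈ 𝒜 1, f ∉ x.asHomogeneousIdeal := fun x => by
    obtain ⟨i, hi⟩ := hcov x
    exact ⟨T i, hT1 i, hi⟩
  have hL : TwExact.LocGen (Twist.twist 𝒜 d) :=
    TwExact.locGen_of_isInvertible _ ((TwistTens.twist_package 𝒜 hcov1).1 d)
  have hd0 : d = d + 0 := by ring
  have hd1 : d - 1 = d + (-1) := by ring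
  have hdd : d = ((1 : ℕ) : ℤ) + (d - 1) := by push_cast; ring
  haveI : IsIso (descP (swapP (TildeTens.tildePairing 𝒜 ℳ hd0))) :=
    isIso_theta 𝒜 ℳ hd0 (exists_unit_frac 𝒜 hcov1 d)
  obtain ⟨s', hs'⟩ := gen_abs hL (fun i => mulHom 𝒜 ℳ (hT1 i) h01) hepi (hd₀ d hd)
    (fun i => mulHom 𝒜 ℳ (hT1 i) hdd) (descP (swapP (TildeTens.tildePairing 𝒜 ℳ hd1)))
    (descP (swapP (TildeTens.tildePairing 𝒜 ℳ hd0)))
    (fun i => comm_sq 𝒜 ℳ (hT1 i) h01 hd1 hd0 hdd) s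
  refine ⟨s', fun x => ?_⟩
  have h2 := congrArg (evTop 𝒜 ℳ d x) hs'
  refine h2.trans ?_
  refine (map_sum (evTop 𝒜 ℳ d x) _ _).trans ?_
  exact Finset.sum_congr rfl fun i _ => vt_mulHom 𝒜 ℳ (hT1 i) hdd (s' i) x

end Groth.Agent.Helper1.GrTailC
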