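import Mathlib
import Groth.Prelude.Def_GrMod2
import Groth.Agent.Lib.Helper4.T2Main1
import Groth.Agent.Lib.Helper1.ProjGlobal
import Groth.Agent.Lib.Helper1.ProjTop
import Groth.Agent.Lib.Helper1.GrTailC

/-!
# Finiteness of `Γ(M(n)~)` over the degree-zero part, in pointwise form (helper1)
-/

set_option backward.isDefEq.respectTransparency.types false
set_option synthInstance.maxHeartbeats 400000
set_option autoImplicit false
universe u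
open CategoryTheory CategoryTheory.Limits AlgebraicGeometry TopologicalSpace Opposite

namespace Groth.Agent.Helper1.GrTailD

open Groth.Agent.Helper1 Groth.Agent.Lib.Helper4 Groth.Agent.Helper1.GrTailA

variable {R A : Type u} [CommRing R] [CommRing A] [Algebra R A] (𝒜 : ℕ → Submodule R A)
  [GradedAlgebra 𝒜]
variable {M : Type u} [AddCommGroup M] [Module R M] [Module A M] (ℳ : ℕ → Submodule R M)
  [SetLike.GradedSMul 𝒜 ℳ]

/-- the action of a global function coming from degree zero, pointwise -/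
theorem vt_smul_toGlobal (n : ℤ) (c0 : 𝒜 0) (m : GrTilde.sect 𝒜 ℳ n (op ⊤))
    (x : ProjectiveSpectrum 𝒜) :
    vt 𝒜 ℳ (show GrTilde.sect 𝒜 ℳ n (op ⊤) from
      (Coh.smulAb (GrTilde.tilde 𝒜 ℳ n) (Coh.toGlobal (Proj.toSpecZero 𝒜) c0)).hom.app (op ⊤) m) x =
      (c0 : A) • vt 𝒜 ℳ m x := by
  obtain ⟨e, he, g, hg, hgx⟩ := ProjTop.exists_homogeneous_notMem 𝒜 x
  have h2 := ProjGlobal.psi_val 𝒜 g hg he c0 x hgx
  have h3 := TildeTens.tilde_smul_sec_val 𝒜 ℳ (op ⊤)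
    (show Twist.O (𝒜 := 𝒜) (op ⊤) from ProjGlobal.psi 𝒜 c0) m ⟨x, trivial⟩
  refine Eq.trans ?_ (GrTailC.mk_one_smul_eq 𝒜 x (c0 : A) _)
  refine Eq.trans ?_ (congrArg (· • vt 𝒜 ℳ m x) h2)
  exact h3

theorem finite_sections [IsScalarTower R A M] [DirectSum.Decomposition ℳ] [IsNoetherianRing A]
    [Module.Finite A M] (n : ℤ) :
    ∃ (p : ℕ) (v : Fin p → GrTilde.sect 𝒜 ℳ n (op ⊤)), ∀ s : GrTilde.sect 𝒜 ℳ n (op ⊤),
      ∃ a : Fin p → A, (∀ j, a j ∈ 𝒜 0) ∧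
        ∀ x, vt 𝒜 ℳ s x = ∑ j, a j • vt 𝒜 ℳ (v j) x := by
  classical
  haveI : IsNoetherian A M := isNoetherian_of_isNoetherianRing_of_finite A M
  haveI := ProjNoeth.finiteType_of_isNoetherianRing 𝒜
  haveI : IsNoetherianRing (𝒜 0) := isNoetherianRing_of_surjective A (𝒜 0)
    (GradedRing.projZeroRingHom' 𝒜) (GradedRing.projZeroRingHom'_surjective 𝒜)
  letI : (Proj 𝒜).Over (Spec (CommRingCat.of (𝒜 0))) := ⟨Proj.toSpecZero 𝒜⟩
  haveI : IsProper ((Proj 𝒜) ↘ Spec (CommRingCat.of (𝒜 0))) :=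
    (inferInstance : IsProper (Proj.toSpecZero 𝒜))
  have hF : Coh.IsCoh (GrTilde.tilde 𝒜 ℳ n) :=
    ⟨TildeQC.tilde_isQuasicoherent 𝒜 ℳ n,
      (show SheafOfModules.IsFiniteType.{u, u, u} (GrMod.tilde 𝒜 ℳ n) from
        GrModFTd.tilde_isFiniteType 𝒜 ℳ n)⟩
  haveI hfin : Module.Finite (𝒜 0) (Coh.HH (Proj 𝒜) (GrTilde.tilde 𝒜 ℳ n) 0) :=
    T2Main1.t2 (𝒜 0) (Proj 𝒜) _ hF 0
  obtain ⟨p, y, hy⟩ := Module.Finite.exists_fin (R := 𝒜 0)
    (M := Coh.HH (Proj 𝒜) (GrTilde.tilde 𝒜 ℳ n) 0)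
  let hT := Limits.isTerminalTop (α := Opens (Proj 𝒜))
  let eq₀ := Sheaf.H.equiv₀ (Coh.toAb (GrTilde.tilde 𝒜 ℳ n)) hT
  refine ⟨p, fun j => eq₀ (y j), fun s => ?_⟩
  have hmem : eq₀.symm s ∈ Submodule.span (𝒜 0) (Set.range y) := by
    rw [hy]
    trivial
  obtain ⟨c, hc⟩ := (Submodule.mem_span_range_iff_exists_fun (𝒜 0)).1 hmem
  refine ⟨fun j => (c j : A), fun j => (c j).2, fun x => ?_⟩
  have hs : s = ∑ j, eq₀ (c j • y j) := by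
    rw [← map_sum, hc, AddEquiv.apply_symm_apply]
  have key : ∀ (c0 : 𝒜 0) (y0 : Coh.HH (Proj 𝒜) (GrTilde.tilde 𝒜 ℳ n) 0),
      vt 𝒜 ℳ (show GrTilde.sect 𝒜 ℳ n (op ⊤) from eq₀ (c0 • y0)) x =
        (c0 : A) • vt 𝒜 ℳ (show GrTilde.sect 𝒜 ℳ n (op ⊤) from eq₀ y0) x := by
    intro c0 y0
    have h1 : eq₀ (c0 • y0) =
        (Coh.smulAb (GrTilde.tilde 𝒜 ℳ n)
          (Coh.toGlobal (Proj.toSpecZero 𝒜) c0)).hom.app (op ⊤) (eq₀ y0) :=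
      (Sheaf.H.equiv₀_naturality hT
        (Coh.smulAb (GrTilde.tilde 𝒜 ℳ n) (Coh.toGlobal (Proj.toSpecZero 𝒜) c0)) y0).symm
    rw [h1]
    exact vt_smul_toGlobal 𝒜 ℳ n c0 _ x
  have h2 := congrArg (GrTailC.evTop 𝒜 ℳ n x) hs
  refine h2.trans ?_
  refine (map_sum (GrTailC.evTop 𝒜 ℳ n x) _ _).trans ?_
  exact Finset.sum_congr rfl fun j _ => key (c j) (y j)

end Groth.Agent.Helper1.GrTailD
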