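import Mathlib
import Groth.Prelude.Def_GrMod2
import Groth.Agent.Lib.Helper1.GrTailB
import Groth.Agent.Lib.Helper1.GrTailD
import Groth.Agent.Lib.Helper1.ProjNormal

/-!
# `M_n → Γ(Proj, M(n)~)` is bijective for `n ≫ 0` (helper1)
-/

set_option autoImplicit false
universe u
open CategoryTheory CategoryTheory.Limits AlgebraicGeometry TopologicalSpace Opposite DirectSum

namespace Groth.Agent.Helper1.GrTailE

open Groth.Agent.Helper1

section
variable {R A : Type u} [CommRing R] [CommRing A] [Algebra R A] (𝒜 : ℕ → Submodule R A)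
  [GradedAlgebra 𝒜]
variable {M : Type u} [AddCommGroup M] [Module R M] [Module A M] [IsScalarTower R A M]
  (ℳ : ℕ → Submodule R M) [DirectSum.Decomposition ℳ] [SetLike.GradedSMul 𝒜 ℳ]

/-- the main theorem, for degree-one generators of the irrelevant ideal -/
theorem main [IsNoetherianRing A] [Module.Finite A M] {k : ℕ} (T : Fin k → A)
    (hT1 : ∀ i, T i ∈ 𝒜 1)
    (hTspan : Ideal.span (Set.range T) = (HomogeneousIdeal.irrelevant 𝒜).toIdeal) :
    ∃ n₀ : ℕ, ∀ n : ℕ, n₀ ≤ n →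
      Function.Bijective (fun m : ℳ n => GrTilde.globalOf 𝒜 ℳ m) :=
  GrTailB.bijective_of 𝒜 ℳ T hT1 hTspan
    (GrTailC.generation 𝒜 ℳ T hT1 (GrTailB.cover_of_span 𝒜 T hTspan))
    (GrTailD.finite_sections 𝒜 ℳ)

omit [GradedAlgebra 𝒜] in
/-- degree-one generators of the irrelevant ideal of a Noetherian graded ring generated in
degree one -/
theorem exists_deg_one_gens [GradedAlgebra 𝒜] [IsNoetherianRing A]
    (hgen : ∀ i : ℕ, 𝒜 (i + 1) = 𝒜 1 * 𝒜 i) :
    ∃ (k : ℕ) (T : Fin k → A), (∀ i, T i ∈ 𝒜 1) ∧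
      Ideal.span (Set.range T) = (HomogeneousIdeal.irrelevant 𝒜).toIdeal := by
  classical
  have hirr : (HomogeneousIdeal.irrelevant 𝒜).toIdeal = Ideal.span (𝒜 1 : Set A) := by
    refine le_antisymm ?_ ?_
    · intro a ha
      rw [← DirectSum.sum_support_decompose 𝒜 a]
      refine Ideal.sum_mem _ fun i _ => ?_
      by_cases hi0 : i = 0
      · subst hi0
        have h0 : (decompose 𝒜 a 0 : A) = 0 := ha
        rw [h0]
        exact Ideal.zero_mem _
      · have h2 := ProjNormal.le_span_pow 𝒜 (fun i => (hgen i).symm) i _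
          (decompose 𝒜 a i).2
        exact Ideal.pow_le_self hi0 h2
    · refine Ideal.span_le.2 fun g hg => ?_
      exact HomogeneousIdeal.mem_irrelevant_of_mem 𝒜 Nat.one_pos hg
  have hfg : (Ideal.span (𝒜 1 : Set A)).FG := by
    rw [← hirr]
    exact IsNoetherian.noetherian _
  obtain ⟨T', hT'sub, hT'span⟩ := (Submodule.fg_span_iff_fg_span_finset_subset _).mp hfg
  refine ⟨T'.card, fun i => ((T'.equivFin.symm i : T') : A), fun i => ?_, ?_⟩
  · exact hT'sub (T'.equivFin.symm i).2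
  · have hrange : Set.range (fun i => ((T'.equivFin.symm i : T') : A)) = (T' : Set A) := by
      have h1 := T'.equivFin.symm.surjective.range_comp (Subtype.val : T' → A)
      have h2 : Set.range (Subtype.val : T' → A) = (T' : Set A) := Subtype.range_coe
      rw [← h2, ← h1]
      rfl
    rw [hrange, hirr]
    exact hT'span.symm

/-- S0849 -/
theorem main_of_hgen [IsNoetherianRing A] [Module.Finite A M]
    (hgen : ∀ i : ℕ, 𝒜 (i + 1) = 𝒜 1 * 𝒜 i) :
    ∃ n₀ : ℕ, ∀ n : ℕ, n₀ ≤ n →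
      Function.Bijective (fun m : ℳ n => GrTilde.globalOf 𝒜 ℳ m) := by
  obtain ⟨k, T, hT1, hTspan⟩ := exists_deg_one_gens 𝒜 hgen
  exact main 𝒜 ℳ T hT1 hTspan

/-- S2434 -/
theorem main_of_adjoin [IsNoetherianRing R] {r : ℕ} (g : Fin (r + 1) → A)
    (hg1 : ∀ i, g i ∈ 𝒜 1) (hgen : Algebra.adjoin R (Set.range g) = ⊤) [Module.Finite A M] :
    ∃ N : ℕ, ∀ n : ℕ, N ≤ n →
      Function.Bijective (fun m : ℳ n => GrTilde.globalOf 𝒜 ℳ m) := by
  classical
  haveI : Algebra.FiniteType R A := ⟨⟨Finset.univ.image g, by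
    rw [Finset.coe_image, Finset.coe_univ, Set.image_univ]
    exact hgen⟩⟩
  haveI : IsNoetherianRing A := Algebra.FiniteType.isNoetherianRing R A
  have h0 : Algebra.adjoin (𝒜 0) (Set.range g) = ⊤ := by
    rw [eq_top_iff]
    intro z hz'
    clear hz'
    have hz : z ∈ Algebra.adjoin R (Set.range g) := by rw [hgen]; trivial
    induction hz using Algebra.adjoin_induction with
    | mem z hz => exact Algebra.subset_adjoin hz
    | algebraMap r =>
      have : algebraMap R A r ∈ 𝒜 0 := SetLike.algebraMap_mem_graded 𝒜 r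
      exact Subalgebra.algebraMap_mem (Algebra.adjoin (𝒜 0) (Set.range g)) (⟨_, this⟩ : 𝒜 0)
    | add z w _ _ hz hw => exact Subalgebra.add_mem _ hz hw
    | mul z w _ _ hz hw => exact Subalgebra.mul_mem _ hz hw
  have hE : ∀ e ∈ Set.range g, ∃ d : ℕ, 0 < d ∧ e ∈ 𝒜 d := by
    rintro _ ⟨i, rfl⟩
    exact ⟨1, Nat.one_pos, hg1 i⟩
  have hTspan : Ideal.span (Set.range g) = (HomogeneousIdeal.irrelevant 𝒜).toIdeal :=
    ((GrAlg.S4389 𝒜 _ hE).2 h0).symm
  exact main 𝒜 ℳ g hg1 hTspan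

end

end Groth.Agent.Helper1.GrTailE
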