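import Mathlib
import Groth.Agent.Lib.Helper7.FibAmple.Thick
import Groth.Agent.Lib.Helper4.SerreVan
import Groth.Agent.Lib.Helper4.FibDimVan
import Groth.Agent.Lib.Helper4.T2Main1
import Groth.Agent.Lib.Helper1.CohAbel
import Groth.Agent.Lib.Helper1.Dv12
import Groth.Agent.Lib.Helper1.H1Surj
import Groth.Agent.Lib.Helper1.FinPush
import Groth.Agent.Lib.Helper1.TwSecEx
import Groth.Agent.Lib.Lead.PBQc
import Groth.Agent.S0012

/-!
# Relative Nakayama for `H¹` on a scheme proper over a Noetherian ring with `H² = 0` (helper1)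
-/

set_option backward.isDefEq.respectTransparency.types false
set_option synthInstance.maxHeartbeats 400000
set_option maxHeartbeats 1600000
set_option autoImplicit false
set_option linter.unusedSectionVars false
set_option linter.style.haveILetI false
set_option linter.unusedVariables false
set_option linter.unusedSimpArgs false
universe u
open CategoryTheory CategoryTheory.Limits AlgebraicGeometry Opposite TopologicalSpace
open Groth.Agent.Helper1 Groth.Agent.Helper1.QcCech Groth.Agent.Helper1.PullSec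
open Groth.Agent.Lib.Helper4 Groth.Agent.Lib.Helper4.BaseChgRing1
open Groth.Agent.Helper7.FibAmple

namespace Groth.Agent.Helper1.RelNak

/-! ### vanishing above the fibre dimension -/

section H2
variable (A : Type u) [CommRing A] [IsNoetherianRing A] (X : Scheme.{u})
  [X.Over (Spec (CommRingCat.of A))] [IsProper (X ↘ Spec (CommRingCat.of A))]

theorem subsingleton_HH_of_fibre_dim (d : ℕ)
    (hfib : ∀ y : ↥(Spec (CommRingCat.of A)),
      topologicalKrullDim ↥((X ↘ Spec (CommRingCat.of A)).fiber y) ≤ d)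
    (M : X.Modules) (hM : Coh.IsCoh M) (p : ℕ) (hp : d < p) :
    Subsingleton (Coh.HH X M p) := by
  by_contra hne
  rw [not_subsingleton_iff_nontrivial] at hne
  have hann : Module.annihilator A (Coh.HH X M p) ≠ ⊤ := by
    intro h
    have h1 : (1 : A) ∈ Module.annihilator A (Coh.HH X M p) := by rw [h]; trivial
    rw [Module.mem_annihilator] at h1
    obtain ⟨x, y, hxy⟩ := hne.exists_pair_ne
    exact hxy (by rw [← one_smul A x, ← one_smul A y, h1 x, h1 y])
  obtain ⟨m, hm, hle⟩ := Ideal.exists_le_maximal _ hann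
  let 𝔭 : PrimeSpectrum A := ⟨m, hm.isPrime⟩
  have hd : topologicalKrullDim ↥{x : X | (X ↘ Spec (CommRingCat.of A)) x = 𝔭} ≤ d := by
    have hE := IsHomeomorph.topologicalKrullDim_eq _
      ((X ↘ Spec (CommRingCat.of A)).fiberHomeo 𝔭).isHomeomorph
    have h2 := hfib 𝔭
    rw [hE] at h2
    exact h2
  obtain ⟨g, hg𝔭, hkill⟩ := FibDimVan.core A X M hM 𝔭 d hd p hp
  exact hg𝔭 (hle (Module.mem_annihilator.2 hkill))

end H2

/-! ### the closed subscheme defined by an ideal of the base -/

section Thick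
variable (A : Type u) [CommRing A] (J : Ideal A) (X : Scheme.{u})
  [X.Over (Spec (CommRingCat.of A))]

attribute [local instance] overJ

theorem pJ_app_alpha (W : X.Opens) (a : A) (ha : a ∈ J) :
    ((pJ A J X).app W).hom (alphaRing A X W a) = 0 := by
  have h := alphaRing_appLE_gen (Ideal.Quotient.mk J) (pJ A J X) (isPullback_J A J X).w W
    ((pJ A J X) ⁻¹ᵁ W) le_rfl a
  rw [Ideal.Quotient.eq_zero_iff_mem.mpr ha, map_zero] at h
  rw [Scheme.Hom.app_eq_appLE]
  exact h

theorem isClosedImmersion_pJ : IsClosedImmersion (pJ A J X) := by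
  have h : IsClosedImmersion (Spec.map (CommRingCat.ofHom (Ideal.Quotient.mk J))) :=
    IsClosedImmersion.spec_of_surjective _ Ideal.Quotient.mk_surjective
  exact MorphismProperty.pullback_fst (P := @IsClosedImmersion) _ _ h

/-- the sum of the multiplications by a family of elements of the ring -/
noncomputable def psi {r : ℕ} (g : Fin r → A) (M : X.Modules) :
    (∐ fun _ : Fin r => M) ⟶ M :=
  Sigma.desc fun i => Formal.smulMod A M (g i)

theorem ι_psi {r : ℕ} (g : Fin r → A) (M : X.Modules) (i : Fin r) :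
    Sigma.ι (fun _ : Fin r => M) i ≫ psi A X g M = Formal.smulMod A M (g i) := by
  unfold psi
  rw [Sigma.ι_desc]

theorem smulMod_eta (M : X.Modules) (a : A) (ha : a ∈ J) :
    Formal.smulMod A M a ≫ eta A J X M = 0 := by
  apply Scheme.Modules.hom_ext
  intro W
  ext t
  change (eta A J X M).app W ((Formal.smulMod A M a).app W t) = 0
  rw [IPow1.smulMod_app, eta_app, σ_smul, pJ_app_alpha A J X W a ha, zero_smul]
  rfl

theorem psi_eta {r : ℕ} (g : Fin r → A) (hgm : ∀ i, g i ∈ J) (M : X.Modules) :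
    psi A X g M ≫ eta A J X M = 0 := by
  apply Sigma.hom_ext
  intro i
  rw [comp_zero, ← Category.assoc, ι_psi, smulMod_eta A J X M _ (hgm i)]

theorem exists_psi_of_σ_eq_zero (M : X.Modules) [M.IsQuasicoherent] {r : ℕ} (g : Fin r → A)
    (hg : Ideal.span (Set.range g) = J) {W : X.Opens} (hW : IsAffineOpen W) (x : Γ(M, W))
    (hx : σ (pJ A J X) M W x = 0) :
    ∃ z : Γ(∐ fun _ : Fin r => M, W), (psi A X g M).app W z = x := by
  have hmem := mem_of_σJ_eq_zero A J X M hW x hx
  have key1 : ∀ a ∈ J, ∀ n : Γ(M, W), ∃ z : Γ(∐ fun _ : Fin r => M, W),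
      (psi A X g M).app W z = alphaRing A X W a • n := by
    intro a ha
    rw [← hg] at ha
    induction ha using Submodule.span_induction with
    | mem y hy =>
      obtain ⟨i, rfl⟩ := hy
      intro n
      refine ⟨(Sigma.ι (fun _ : Fin r => M) i).app W n, ?_⟩
      have h := congrArg (fun φ => Scheme.Modules.Hom.app φ W n) (ι_psi A X g M i)
      exact h
    | zero =>
      intro n
      exact ⟨0, (map_zero _).trans (by rw [map_zero, zero_smul])⟩
    | add y z _ _ hy hz =>
      intro n
      obtain ⟨z1, h1⟩ := hy n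
      obtain ⟨z2, h2⟩ := hz n
      exact ⟨z1 + z2, by rw [map_add, h1, h2, map_add, add_smul]⟩
    | smul c y _ hy =>
      intro n
      obtain ⟨z1, h1⟩ := hy (alphaRing A X W c • n)
      refine ⟨z1, ?_⟩
      rw [h1, smul_eq_mul, mul_comm, map_mul, mul_smul]
  have key2 : ∀ r' ∈ JW A J X W, ∀ n : Γ(M, W), ∃ z : Γ(∐ fun _ : Fin r => M, W),
      (psi A X g M).app W z = r' • n := by
    intro r' hr'
    have hr'' : r' ∈ Submodule.span Γ(X, W) ((alphaRing A X W) '' (J : Set A)) := hr'
    clear hr'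
    induction hr'' using Submodule.span_induction with
    | mem y hy =>
      obtain ⟨a, ha, rfl⟩ := hy
      exact key1 a ha
    | zero =>
      intro n
      exact ⟨0, (map_zero _).trans (zero_smul _ n).symm⟩
    | add y z _ _ hy hz =>
      intro n
      obtain ⟨z1, h1⟩ := hy n
      obtain ⟨z2, h2⟩ := hz n
      exact ⟨z1 + z2, by rw [map_add, h1, h2, add_smul]⟩
    | smul c y _ hy =>
      intro n
      obtain ⟨z1, h1⟩ := hy (c • n)
      exact ⟨z1, by rw [h1, smul_eq_mul, mul_comm, mul_smul]⟩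
  refine Submodule.smul_induction_on
    (p := fun x => ∃ z : Γ(∐ fun _ : Fin r => M, W), (psi A X g M).app W z = x) hmem
    (fun r' hr' n _ => key2 r' hr' n) ?_
  rintro a b ⟨za, ha⟩ ⟨zb, hb⟩
  exact ⟨za + zb, by rw [map_add, ha, hb]⟩

/-- the lift of the sum of multiplications to the kernel of the unit -/
noncomputable def psi' {r : ℕ} (g : Fin r → A) (hgm : ∀ i, g i ∈ J) (M : X.Modules) :
    (∐ fun _ : Fin r => M) ⟶ kernel (eta A J X M) :=
  kernel.lift (eta A J X M) (psi A X g M) (psi_eta A J X g hgm M)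

theorem psi'_ι {r : ℕ} (g : Fin r → A) (hgm : ∀ i, g i ∈ J) (M : X.Modules) :
    psi' A J X g hgm M ≫ kernel.ι (eta A J X M) = psi A X g M :=
  kernel.lift_ι _ _ _

theorem epi_psi' (M : X.Modules) [M.IsQuasicoherent] {r : ℕ} (g : Fin r → A)
    (hgm : ∀ i, g i ∈ J) (hg : Ideal.span (Set.range g) = J) :
    Epi (psi' A J X g hgm M) := by
  apply AffPushEpi.epi_of_surjective_on_affine
  intro U hU k
  have hk : σ (pJ A J X) M U ((kernel.ι (eta A J X M)).app U k) = 0 := by
    have h := congrArg (fun φ => Scheme.Modules.Hom.app φ U k) (kernel.condition (eta A J X M))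
    exact h
  obtain ⟨z, hz⟩ := exists_psi_of_σ_eq_zero A J X M g hg hU _ hk
  refine ⟨z, ?_⟩
  apply TwSecEx.app_injective_of_mono (kernel.ι (eta A J X M)) U
  rw [← hz]
  have h := congrArg (fun φ => Scheme.Modules.Hom.app φ U z) (psi'_ι A J X g hgm M)
  exact h

end Thick

/-! ### cohomology -/

section Cohom
variable (A : Type u) [CommRing A] [IsNoetherianRing A] (J : Ideal A) (X : Scheme.{u})
  [X.Over (Spec (CommRingCat.of A))] [IsProper (X ↘ Spec (CommRingCat.of A))]
  (hH2 : ∀ M : X.Modules, Coh.IsCoh M → Subsingleton (Coh.HH X M 2))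
  (M : X.Modules) (hM : Coh.IsCoh M)

include hM in
theorem isCoh_pull : Coh.IsCoh ((Scheme.Modules.pullback (pJ A J X)).obj M) := by
  haveI : M.IsQuasicoherent := hM.1
  exact ⟨Groth.Agent.Lead.PB.isQuasicoherent_pullback _ _,
    Groth.Agent.Lead.PB.isFT_pullback _ _ hM.2⟩

include hM in
theorem isCoh_pushPull : Coh.IsCoh ((Scheme.Modules.pushforward (pJ A J X)).obj
    ((Scheme.Modules.pullback (pJ A J X)).obj M)) := by
  haveI := isClosedImmersion_pJ A J X
  haveI : IsLocallyNoetherian X :=
    LocallyOfFiniteType.isLocallyNoetherian (X ↘ Spec (CommRingCat.of A))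
  exact FinPush.isCoh_pushforward (pJ A J X) _ (isCoh_pull A J X M hM)

theorem shortExact_eta [M.IsQuasicoherent] :
    (ShortComplex.mk (kernel.ι (eta A J X M)) (eta A J X M)
      (kernel.condition (eta A J X M))).ShortExact :=
  { exact := ShortComplex.exact_of_f_is_kernel _ (kernelIsKernel (eta A J X M))
    mono_f := inferInstanceAs (Mono (kernel.ι (eta A J X M)))
    epi_g := epi_eta A J X M }

theorem shortExact_psi' [M.IsQuasicoherent] {r : ℕ} (g : Fin r → A)
    (hgm : ∀ i, g i ∈ J) (hg : Ideal.span (Set.range g) = J) :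
    (ShortComplex.mk (kernel.ι (psi' A J X g hgm M)) (psi' A J X g hgm M)
      (kernel.condition (psi' A J X g hgm M))).ShortExact :=
  { exact := ShortComplex.exact_of_f_is_kernel _ (kernelIsKernel (psi' A J X g hgm M))
    mono_f := inferInstanceAs (Mono (kernel.ι (psi' A J X g hgm M)))
    epi_g := epi_psi' A J X M g hgm hg }

include hM in
theorem isCoh_kernel_eta : Coh.IsCoh (kernel (eta A J X M)) := by
  haveI : IsLocallyNoetherian X :=
    LocallyOfFiniteType.isLocallyNoetherian (X ↘ Spec (CommRingCat.of A))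
  exact FtLocal.isCoh_kernel hM (isCoh_pushPull A J X M hM) _

include hM in
theorem isCoh_kernel_psi' {r : ℕ} (g : Fin r → A) (hgm : ∀ i, g i ∈ J) :
    Coh.IsCoh (kernel (psi' A J X g hgm M)) := by
  haveI : IsLocallyNoetherian X :=
    LocallyOfFiniteType.isLocallyNoetherian (X ↘ Spec (CommRingCat.of A))
  exact FtLocal.isCoh_kernel (Dv.isCoh_coprod M hM r) (isCoh_kernel_eta A J X M hM) _

include hH2 hM in
/-- `H¹` of the kernel of the unit vanishes when `H¹` of the module does -/
theorem subsingleton_H1_kernel (h1 : Subsingleton (Coh.HH X M 1)) :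
    Subsingleton (Coh.HH X (kernel (eta A J X M)) 1) := by
  haveI : M.IsQuasicoherent := hM.1
  obtain ⟨r, g, hg⟩ := (Submodule.fg_iff_exists_fin_generating_family).1
    (IsNoetherian.noetherian J)
  have hgm : ∀ i, g i ∈ J := fun i => by rw [← hg]; exact Submodule.subset_span ⟨i, rfl⟩
  have hS1 := shortExact_psi' A J X M g hgm hg
  have hsig : Subsingleton (Coh.HH X (∐ fun _ : Fin r => M) 1) :=
    SerreVan.subsingleton_sigma A (𝟭 X.Modules) (fun _ : Fin r => M) 1 (fun _ => h1)
  exact SerreVan.subsingleton_X₃ A hS1 1 hsig (hH2 _ (isCoh_kernel_psi' A J X M hM g hgm))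

include hH2 hM in
/-- global sections lift from the closed subscheme when `H¹` vanishes -/
theorem surjective_σ_top (h1 : Subsingleton (Coh.HH X M 1)) :
    Function.Surjective (σ (pJ A J X) M ⊤) := by
  haveI : M.IsQuasicoherent := hM.1
  exact H1Surj.app_top_surjective_of_H1 (shortExact_eta A J X M)
    (subsingleton_H1_kernel A J X hH2 M hM h1)

include hH2 hM in
theorem subsingleton_H1_pushPull (h1 : Subsingleton (Coh.HH X M 1)) :
    Subsingleton (Coh.HH X ((Scheme.Modules.pushforward (pJ A J X)).obj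
      ((Scheme.Modules.pullback (pJ A J X)).obj M)) 1) := by
  haveI : M.IsQuasicoherent := hM.1
  exact SerreVan.subsingleton_X₃ A (shortExact_eta A J X M) 1 h1
    (hH2 _ (isCoh_kernel_eta A J X M hM))

include hH2 hM in
/-- `H¹` of the restriction to the closed subscheme vanishes when `H¹` of the module does -/
theorem subsingleton_H1_pull (h1 : Subsingleton (Coh.HH X M 1)) :
    Subsingleton (Coh.HH (XJ A J X) ((Scheme.Modules.pullback (pJ A J X)).obj M) 1) := by
  haveI := isAffineHom_pJ A J X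
  haveI : Coh.IsQCoh ((Scheme.Modules.pullback (pJ A J X)).obj M) := (isCoh_pull A J X M hM).1
  obtain ⟨ψ⟩ := Groth.Agent.S0012.result (pJ A J X)
    ((Scheme.Modules.pullback (pJ A J X)).obj M) 1
  haveI := subsingleton_H1_pushPull A J X hH2 M hM h1
  exact ψ.toEquiv.subsingleton

include hH2 hM in
/-- **the Nakayama step**: if `H¹` of the restriction to the closed subscheme defined by `J`
vanishes, then `H¹(X, M) = J H¹(X, M)` -/
theorem mem_smul_top_of_H1_pull
    (h1 : Subsingleton (Coh.HH (XJ A J X) ((Scheme.Modules.pullback (pJ A J X)).obj M) 1))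
    (x : Coh.HH X M 1) : x ∈ J • (⊤ : Submodule A (Coh.HH X M 1)) := by
  haveI : M.IsQuasicoherent := hM.1
  haveI := isAffineHom_pJ A J X
  haveI : Coh.IsQCoh ((Scheme.Modules.pullback (pJ A J X)).obj M) := (isCoh_pull A J X M hM).1
  obtain ⟨ψ⟩ := Groth.Agent.S0012.result (pJ A J X)
    ((Scheme.Modules.pullback (pJ A J X)).obj M) 1
  have hpp : Subsingleton (Coh.HH X ((Scheme.Modules.pushforward (pJ A J X)).obj
      ((Scheme.Modules.pullback (pJ A J X)).obj M)) 1) := ψ.symm.toEquiv.subsingleton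
  obtain ⟨r, g, hg⟩ := (Submodule.fg_iff_exists_fin_generating_family).1
    (IsNoetherian.noetherian J)
  have hgm : ∀ i, g i ∈ J := fun i => by rw [← hg]; exact Submodule.subset_span ⟨i, rfl⟩
  have hS2 := shortExact_eta A J X M
  have hS1 := shortExact_psi' A J X M g hgm hg
  have hk2 : Subsingleton (Coh.HH X (kernel (psi' A J X g hgm M)) 2) :=
    hH2 _ (isCoh_kernel_psi' A J X M hM g hgm)
  obtain ⟨y, hy⟩ := HHFin2.exact_f_g A hS2 1 x (Subsingleton.elim (h := hpp) _ _)
  obtain ⟨w, hw⟩ := HHFin2.exact_g_delta A hS1 1 y (Subsingleton.elim (h := hk2) _ _)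
  set B : Fin r → X.Modules := fun _ => M with hB
  have hx : x = Canon.HHlin A (psi A X g M) 1 w := by
    rw [← hy, ← hw]
    change Canon.HHlin A (kernel.ι (eta A J X M)) 1
      (Canon.HHlin A (psi' A J X g hgm M) 1 w) = _
    rw [← HHFin1.HHlin_comp, psi'_ι]
  have e1 : psi A X g M = ∑ j, FinSigma.q B j ≫ Formal.smulMod A M (g j) := by
    calc psi A X g M = 𝟙 _ ≫ psi A X g M := (Category.id_comp _).symm
      _ = (∑ j, FinSigma.q B j ≫ Sigma.ι B j) ≫ psi A X g M := by rw [FinSigma.sum_q_ι]
      _ = ∑ j, (FinSigma.q B j ≫ Sigma.ι B j) ≫ psi A X g M := Preadditive.sum_comp _ _ _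
      _ = _ := Finset.sum_congr rfl (fun j _ => by rw [Category.assoc, ι_psi])
  rw [hx, e1, HHFin1.HHlin_sum]
  refine Submodule.sum_mem _ (fun j _ => ?_)
  rw [HHFin1.HHlin_comp]
  change g j • Canon.HHlin A (FinSigma.q B j) 1 w ∈ _
  exact Submodule.smul_mem_smul (hgm j) Submodule.mem_top

end Cohom

/-! ### Nakayama over all maximal ideals -/

section Nak

theorem subsingleton_of_forall_maximal (A : Type u) [CommRing A] (N : Type u) [AddCommGroup N]
    [Module A N] [Module.Finite A N]
    (h : ∀ m : Ideal A, m.IsMaximal → ∀ x : N, x ∈ m • (⊤ : Submodule A N)) :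
    Subsingleton N := by
  by_contra hne
  rw [not_subsingleton_iff_nontrivial] at hne
  have hann : Module.annihilator A N ≠ ⊤ := by
    intro h0
    have h1 : (1 : A) ∈ Module.annihilator A N := by rw [h0]; trivial
    rw [Module.mem_annihilator] at h1
    obtain ⟨x, y, hxy⟩ := hne.exists_pair_ne
    exact hxy (by rw [← one_smul A x, ← one_smul A y, h1 x, h1 y])
  obtain ⟨m, hm, hle⟩ := Ideal.exists_le_maximal _ hann
  obtain ⟨r, hr1, hr2⟩ := Submodule.exists_sub_one_mem_and_smul_eq_zero_of_fg_of_le_smul m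
    (⊤ : Submodule A N) Module.Finite.fg_top (fun x _ => h m hm x)
  have hr : r ∈ m := hle (Module.mem_annihilator.2 (fun n => hr2 n Submodule.mem_top))
  have h1 : (1 : A) ∈ m := by
    have := m.sub_mem hr hr1
    simpa using this
  exact hm.ne_top ((Ideal.eq_top_iff_one m).2 h1)

variable (A : Type u) [CommRing A] [IsNoetherianRing A] (X : Scheme.{u})
  [X.Over (Spec (CommRingCat.of A))] [IsProper (X ↘ Spec (CommRingCat.of A))]
  (hH2 : ∀ M : X.Modules, Coh.IsCoh M → Subsingleton (Coh.HH X M 2))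
  (M : X.Modules) (hM : Coh.IsCoh M)

include hH2 hM in
/-- **`H¹` vanishes when it vanishes on the closed fibres** -/
theorem subsingleton_H1_of_closed_fibres
    (h : ∀ m : Ideal A, m.IsMaximal →
      Subsingleton (Coh.HH (XJ A m X) ((Scheme.Modules.pullback (pJ A m X)).obj M) 1)) :
    Subsingleton (Coh.HH X M 1) := by
  haveI : Module.Finite A (Coh.HH X M 1) := T2Main1.t2 A X M hM 1
  exact subsingleton_of_forall_maximal A (Coh.HH X M 1)
    (fun m hm x => mem_smul_top_of_H1_pull A m X hH2 M hM (h m hm) x)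

end Nak

end Groth.Agent.Helper1.RelNak
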