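import Mathlib
import Groth.Agent.Lib.Helper1.RelNakA
import Groth.Agent.Lib.Helper1.NefGG2
import Groth.Agent.Lib.Helper1.P1Iso3
import Groth.Agent.Lib.Helper1.PullGen2
import Groth.Agent.Lib.Helper1.InvInv2
import Groth.Agent.Lib.Helper1.AmpleQA
import Groth.Agent.Lib.Helper1.Dv39

/-!
# The closed fibres of a scheme proper over a Noetherian ring with fibres of dimension `≤ 1`
(helper1)
-/

set_option backward.isDefEq.respectTransparency.types false
set_option synthInstance.maxHeartbeats 400000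
set_option maxHeartbeats 1600000
set_option autoImplicit false
set_option linter.unusedSectionVars false
set_option linter.style.haveILetI false
set_option linter.unusedVariables false
set_option linter.unusedSimpArgs false
universe u
open CategoryTheory CategoryTheory.Limits AlgebraicGeometry Opposite TopologicalSpace
open Groth.Agent.Helper1 Groth.Agent.Helper1.QcCech Groth.Agent.Helper1.PullSec
open Groth.Agent.Lib.Helper4 Groth.Agent.Lib.Helper4.BaseChgRing1
open Groth.Agent.Helper7.FibAmple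

namespace Groth.Agent.Helper1.RelNak

section Fibre
variable (A : Type u) [CommRing A] [IsNoetherianRing A] (m : Ideal A) [hm : m.IsMaximal]
  (X : Scheme.{u}) [X.Over (Spec (CommRingCat.of A))]
  [IsProper (X ↘ Spec (CommRingCat.of A))]

attribute [local instance] overJ
attribute [local instance] Ideal.Quotient.field

theorem isProper_XJ : IsProper (XJ A m X ↘ Spec (CommRingCat.of (A ⧸ m))) := by
  change IsProper (pullback.snd (X ↘ Spec (CommRingCat.of A))
    (Spec.map (CommRingCat.ofHom (Ideal.Quotient.mk m))))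
  exact MorphismProperty.pullback_snd (P := @IsProper) _ _ inferInstance

/-- the closed subscheme defined by a maximal ideal lies over the corresponding point -/
theorem pJ_mem_fibre (z : XJ A m X) :
    (X ↘ Spec (CommRingCat.of A)) (pJ A m X z) = (⟨m, hm.isPrime⟩ : PrimeSpectrum A) := by
  have h := congrArg (fun φ : XJ A m X ⟶ Spec (CommRingCat.of A) => φ z) (isPullback_J A m X).w
  change (X ↘ Spec (CommRingCat.of A)) (pJ A m X z) =
    (Spec.map (CommRingCat.ofHom (Ideal.Quotient.mk m)))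
      ((XJ A m X ↘ Spec (CommRingCat.of (A ⧸ m))) z) at h
  rw [h]
  obtain ⟨w, hw⟩ : ∃ w : PrimeSpectrum (A ⧸ m),
    w = (XJ A m X ↘ Spec (CommRingCat.of (A ⧸ m))) z := ⟨_, rfl⟩
  rw [← hw]
  apply PrimeSpectrum.ext
  change Ideal.comap (Ideal.Quotient.mk m) w.asIdeal = m
  have hle : m ≤ Ideal.comap (Ideal.Quotient.mk m) w.asIdeal := by
    intro a ha
    rw [Ideal.mem_comap, Ideal.Quotient.eq_zero_iff_mem.2 ha]
    exact zero_mem _
  exact (hm.eq_of_le (Ideal.comap_ne_top _ w.isPrime.ne_top) hle).symm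

theorem dim_XJ_le (d : ℕ)
    (hfib : topologicalKrullDim ↥((X ↘ Spec (CommRingCat.of A)).fiber
      (⟨m, hm.isPrime⟩ : PrimeSpectrum A)) ≤ d) :
    topologicalKrullDim (XJ A m X) ≤ d := by
  haveI := isClosedImmersion_pJ A m X
  obtain ⟨y, hy⟩ : ∃ y : ↥(Spec (CommRingCat.of A)),
    y = (⟨m, hm.isPrime⟩ : PrimeSpectrum A) := ⟨_, rfl⟩
  rw [← hy] at hfib
  have hdimfib : topologicalKrullDim ↥((X ↘ Spec (CommRingCat.of A)) ⁻¹' {y}) ≤ d := by
    have hE := IsHomeomorph.topologicalKrullDim_eq _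
      ((X ↘ Spec (CommRingCat.of A)).fiberHomeo y).isHomeomorph
    exact hE.symm.le.trans hfib
  let h : XJ A m X → ↥((X ↘ Spec (CommRingCat.of A)) ⁻¹' {y}) :=
    fun z => ⟨pJ A m X z, by rw [hy]; exact pJ_mem_fibre A m X z⟩
  have hcont : Continuous h := Continuous.subtype_mk (pJ A m X).continuous _
  have hind : Topology.IsInducing h := by
    have h1 : Topology.IsInducing (Subtype.val ∘ h) := (pJ A m X).isEmbedding.isInducing
    exact Topology.IsInducing.of_comp hcont continuous_subtype_val h1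
  exact hind.topologicalKrullDim_le.trans hdimfib

theorem subsingleton_H1_O
    (hH2 : ∀ M : X.Modules, Coh.IsCoh M → Subsingleton (Coh.HH X M 2))
    (h1 : Subsingleton (Coh.HH X (Coh.structureModule X) 1)) :
    Subsingleton (Coh.HH (XJ A m X) (Coh.structureModule (XJ A m X)) 1) := by
  have h := subsingleton_H1_pull A m X hH2 (Coh.structureModule X)
    (Dv.isCoh_structureModule X) h1
  exact Dv.subsingleton_HH_of_iso (PullSec.unitIso (pJ A m X)).symm 1 h

/-- nefness passes to the closed fibres -/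
theorem nef_transfer (L : X.Modules) (hL : PicF.IsInvertible L)
    (hnef : ∀ (K : Type u) [Field K] (i : A →+* K) (J : X.IdealSheafData)
      (t : J.subscheme ⟶ Spec (CommRingCat.of K)),
      AlgebraicGeometry.IsIntegral J.subscheme → topologicalKrullDim ↥J.subscheme = 1 →
      t ≫ Spec.map (CommRingCat.ofHom i) = J.subschemeι ≫ (X ↘ Spec (CommRingCat.of A)) →
      0 ≤ @Curv2.deg K _ J.subscheme ⟨t⟩ ((Scheme.Modules.pullback J.subschemeι).obj L) 1)
    (ξ : XJ A m X)
    (hξ : topologicalKrullDim ↥(closure ({ξ} : Set (XJ A m X))) = ((1 : ℕ) : WithBot ℕ∞)) :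
    0 ≤ @Curv2.deg (A ⧸ m) _ (IntMult.ptIdeal ξ).subscheme
      ⟨(IntMult.ptIdeal ξ).subschemeι ≫ (XJ A m X ↘ Spec (CommRingCat.of (A ⧸ m)))⟩
      ((Scheme.Modules.pullback (IntMult.ptIdeal ξ).subschemeι).obj
        ((Scheme.Modules.pullback (pJ A m X)).obj L)) 1 := by
  haveI := isClosedImmersion_pJ A m X
  obtain ⟨C, c, hcC, hc⟩ : ∃ (C : Scheme.{u}) (c : C ⟶ XJ A m X)
      (_ : C = (IntMult.ptIdeal ξ).subscheme), HEq c (IntMult.ptIdeal ξ).subschemeι :=
    ⟨_, _, rfl, HEq.rfl⟩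
  subst hcC
  have hc' : c = (IntMult.ptIdeal ξ).subschemeι := eq_of_heq hc
  haveI : IsClosedImmersion c := by rw [hc']; infer_instance
  rw [← hc']
  haveI hCint : IsIntegral (IntMult.ptIdeal ξ).subscheme := Dv.isIntegral_ptIdeal_subscheme ξ
  obtain ⟨q, hq⟩ : ∃ q : (IntMult.ptIdeal ξ).subscheme ⟶ X, q = c ≫ pJ A m X := ⟨_, rfl⟩
  haveI : IsClosedImmersion q := by rw [hq]; infer_instance
  obtain ⟨g, hg⟩ : ∃ g : (IntMult.ptIdeal ξ).subscheme ⟶ q.ker.subscheme, g = q.toImage :=
    ⟨_, rfl⟩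
  haveI : IsIso g := by rw [hg]; infer_instance
  have hgι : g ≫ q.ker.subschemeι = q := by rw [hg]; exact q.toImage_imageι
  obtain ⟨t, ht⟩ : ∃ t : q.ker.subscheme ⟶ Spec (CommRingCat.of (A ⧸ m)),
      t = inv g ≫ c ≫ (XJ A m X ↘ Spec (CommRingCat.of (A ⧸ m))) := ⟨_, rfl⟩
  have hcompat : t ≫ Spec.map (CommRingCat.ofHom (Ideal.Quotient.mk m)) =
      q.ker.subschemeι ≫ (X ↘ Spec (CommRingCat.of A)) := by
    have hw := (isPullback_J A m X).w
    have h2 : inv g ≫ q = q.ker.subschemeι := by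
      rw [IsIso.inv_comp_eq]
      exact hgι.symm
    rw [ht, Category.assoc, Category.assoc, ← hw, ← Category.assoc c, ← hq, ← Category.assoc, h2]
  have hint : AlgebraicGeometry.IsIntegral q.ker.subscheme := by
    haveI : Nonempty q.ker.subscheme := ⟨g (Classical.arbitrary _)⟩
    exact isIntegral_of_isOpenImmersion (inv g)
  have hdim : topologicalKrullDim ↥q.ker.subscheme = 1 := by
    have h1 := IsHomeomorph.topologicalKrullDim_eq _
      (Scheme.homeoOfIso (asIso g)).isHomeomorph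
    rw [← h1, NefGG.dim_ptIdeal_subscheme ξ, hξ]
    exact Nat.cast_one
  have h0 := hnef (A ⧸ m) (Ideal.Quotient.mk m) q.ker t hint hdim hcompat
  letI oC : (IntMult.ptIdeal ξ).subscheme.Over (Spec (CommRingCat.of (A ⧸ m))) :=
    ⟨c ≫ (XJ A m X ↘ Spec (CommRingCat.of (A ⧸ m)))⟩
  letI oJ : q.ker.subscheme.Over (Spec (CommRingCat.of (A ⧸ m))) := ⟨t⟩
  have hgt : g ≫ (q.ker.subscheme ↘ Spec (CommRingCat.of (A ⧸ m))) =
      (IntMult.ptIdeal ξ).subscheme ↘ Spec (CommRingCat.of (A ⧸ m)) := by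
    change g ≫ t = c ≫ (XJ A m X ↘ Spec (CommRingCat.of (A ⧸ m)))
    rw [ht, IsIso.hom_inv_id_assoc]
  have hE : FlatMod.IsFinLocFree ((Scheme.Modules.pullback q.ker.subschemeι).obj L) :=
    InvInv2.isFinLocFree_of_isInvertible (PullGen.isInvertible_pullback _ hL)
  have hO : FlatMod.IsFinLocFree (Coh.structureModule q.ker.subscheme) :=
    InvInv2.isFinLocFree_of_isInvertible GenLoc.isInvertible_O
  have e1 := P1Iso.euler_pullback_of_isIso (A ⧸ m) q.ker.subscheme
    (IntMult.ptIdeal ξ).subscheme g hgt _ hE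
  have e2 := P1Iso.euler_pullback_of_isIso (A ⧸ m) q.ker.subscheme
    (IntMult.ptIdeal ξ).subscheme g hgt _ hO
  let iso1 : (Scheme.Modules.pullback g).obj ((Scheme.Modules.pullback q.ker.subschemeι).obj L) ≅
      (Scheme.Modules.pullback c).obj ((Scheme.Modules.pullback (pJ A m X)).obj L) :=
    (Scheme.Modules.pullbackComp g q.ker.subschemeι).app L ≪≫
      (Scheme.Modules.pullbackCongr (hgι.trans hq)).app L ≪≫
      ((Scheme.Modules.pullbackComp c (pJ A m X)).app L).symm
  have e3 := Euler.euler_iso (A ⧸ m) (IntMult.ptIdeal ξ).subscheme iso1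
  have e4 := Euler.euler_iso (A ⧸ m) (IntMult.ptIdeal ξ).subscheme (PullSec.unitIso g)
  change 0 ≤ Curv2.deg (A ⧸ m) (IntMult.ptIdeal ξ).subscheme _ 1
  change 0 ≤ Curv2.deg (A ⧸ m) q.ker.subscheme _ 1 at h0
  unfold Curv2.deg at h0 ⊢
  rw [← e3, e1, ← e4, e2]
  exact h0

variable
  (hH2 : ∀ M : X.Modules, Coh.IsCoh M → Subsingleton (Coh.HH X M 2))

include hH2 in
/-- **a nef invertible module restricts to the closed fibres with vanishing `H¹` and is globally
generated there** -/
theorem fibre_main (h1 : Subsingleton (Coh.HH X (Coh.structureModule X) 1))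
    (hfib : topologicalKrullDim ↥((X ↘ Spec (CommRingCat.of A)).fiber
      (⟨m, hm.isPrime⟩ : PrimeSpectrum A)) ≤ 1)
    (L : X.Modules) (hL : PicF.IsInvertible L)
    (hnef : ∀ (K : Type u) [Field K] (i : A →+* K) (J : X.IdealSheafData)
      (t : J.subscheme ⟶ Spec (CommRingCat.of K)),
      AlgebraicGeometry.IsIntegral J.subscheme → topologicalKrullDim ↥J.subscheme = 1 →
      t ≫ Spec.map (CommRingCat.ofHom i) = J.subschemeι ≫ (X ↘ Spec (CommRingCat.of A)) →
      0 ≤ @Curv2.deg K _ J.subscheme ⟨t⟩ ((Scheme.Modules.pullback J.subschemeι).obj L) 1) :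
    Subsingleton (Coh.HH (XJ A m X) ((Scheme.Modules.pullback (pJ A m X)).obj L) 1) ∧
      Curv2.IsGloballyGenerated ((Scheme.Modules.pullback (pJ A m X)).obj L) := by
  haveI := isProper_XJ A m X
  have hdimZ : topologicalKrullDim (XJ A m X) ≤ 1 := by
    have := dim_XJ_le A m X 1 (hfib.trans (le_of_eq Nat.cast_one.symm))
    exact this.trans (le_of_eq Nat.cast_one)
  have h1Z := subsingleton_H1_O A m X hH2 h1
  have hL' := PullGen.isInvertible_pullback (pJ A m X) hL
  refine NefGG.main (A ⧸ m) (XJ A m X) hdimZ h1Z _ hL' (fun ξ hξ => ?_)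
  exact NefGG.lam_nonneg_of_deg (A ⧸ m) (XJ A m X) _ hL' ξ hξ
    (nef_transfer A m X L hL hnef ξ hξ)

end Fibre

end Groth.Agent.Helper1.RelNak
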