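import Mathlib
import Groth.Agent.Lib.Helper1.RelNakB
import Groth.Agent.Lib.Helper1.GenCover
import Groth.Agent.Lib.Helper1.AmpleLib4
import Groth.Agent.Lib.Helper1.PFrame2
import Groth.Agent.Lib.Helper1.InvFt

/-!
# Nef invertible modules on a scheme proper over a Noetherian ring with `H¹(O) = 0` and fibres of
dimension `≤ 1` are globally generated with vanishing `H¹` (helper1)
-/

set_option backward.isDefEq.respectTransparency.types false
set_option synthInstance.maxHeartbeats 400000
set_option maxHeartbeats 1600000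
set_option autoImplicit false
set_option linter.unusedSectionVars false
set_option linter.style.haveILetI false
set_option linter.unusedVariables false
set_option linter.unusedSimpArgs false
universe u
open CategoryTheory CategoryTheory.Limits AlgebraicGeometry Opposite TopologicalSpace
open Groth.Agent.Helper1 Groth.Agent.Helper1.QcCech Groth.Agent.Helper1.PullSec
open Groth.Agent.Lib.Helper4 Groth.Agent.Lib.Helper4.BaseChgRing1
open Groth.Agent.Helper7.FibAmple

namespace Groth.Agent.Helper1.RelNak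

section Pull

/-- the pullback of the morphism attached to a global section -/
theorem pull_homOfSec {Z S : Scheme.{u}} (p : Z ⟶ S) (L : S.Modules) (a : Γ(L, ⊤)) :
    (PullSec.unitIso p).inv ≫ (Scheme.Modules.pullback p).map (TwistAmple.homOfSec L a) =
      TwistAmple.homOfSec ((Scheme.Modules.pullback p).obj L) (σ p L ⊤ a) := by
  apply PFrame.hom_ext_one
  rw [PFrame.homOfSec_app_one]
  change ((Scheme.Modules.pullback p).map (TwistAmple.homOfSec L a)).app (p ⁻¹ᵁ ⊤)
    ((PullSec.unitIso p).inv.app (p ⁻¹ᵁ ⊤)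
      (show Γ(Coh.structureModule Z, p ⁻¹ᵁ ⊤) from (1 : Γ(Z, p ⁻¹ᵁ ⊤)))) = _
  have h0 : (PullSec.unitIso p).inv.app (p ⁻¹ᵁ ⊤)
      (show Γ(Coh.structureModule Z, p ⁻¹ᵁ ⊤) from (1 : Γ(Z, p ⁻¹ᵁ ⊤))) =
      σ p (Coh.structureModule S) ⊤ (show Γ(Coh.structureModule S, ⊤) from (1 : Γ(S, ⊤))) := by
    have h := PullSec.unitIso_σ p ⊤ (1 : Γ(S, ⊤))
    rw [map_one] at h
    have h2 := congrArg (fun x => (PullSec.unitIso p).inv.app (p ⁻¹ᵁ ⊤) x) h
    exact ((PullGen.iso_inv_hom_app (PullSec.unitIso p) (p ⁻¹ᵁ ⊤) _).symm.trans h2).symm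
  rw [h0, σ_natural p (TwistAmple.homOfSec L a) ⊤, PFrame.homOfSec_app_one]

end Pull

section Main
variable (A : Type u) [CommRing A] [IsNoetherianRing A]
  (X : Scheme.{u}) [X.Over (Spec (CommRingCat.of A))]
  [IsProper (X ↘ Spec (CommRingCat.of A))]

/-- a nonempty closed subset meets the closed subscheme defined by some maximal ideal -/
theorem exists_closed_fibre_point (C : Set X) (hC : IsClosed C) (hne : C.Nonempty) :
    ∃ (m : Ideal A) (_ : m.IsMaximal) (z : XJ A m X), pJ A m X z ∈ C := by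
  haveI : CompactSpace X :=
    QuasiCompact.compactSpace_of_compactSpace (X ↘ Spec (CommRingCat.of A))
  obtain ⟨x', hx'C, hx'cl⟩ := hC.exists_closed_singleton hne
  obtain ⟨y, hy⟩ : ∃ y : PrimeSpectrum A, y = (X ↘ Spec (CommRingCat.of A)) x' := ⟨_, rfl⟩
  have hycl : IsClosed ({y} : Set (PrimeSpectrum A)) := by
    have h1 := (X ↘ Spec (CommRingCat.of A)).isClosedMap _ hx'cl
    rw [Set.image_singleton] at h1
    rw [hy]
    exact h1
  have hm : y.asIdeal.IsMaximal := (PrimeSpectrum.isClosed_singleton_iff_isMaximal y).1 hycl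
  refine ⟨y.asIdeal, hm, ?_⟩
  letI := Ideal.Quotient.field y.asIdeal
  let w : PrimeSpectrum (A ⧸ y.asIdeal) := ⟨⊥, Ideal.isPrime_bot⟩
  have hw : (Spec.map (CommRingCat.ofHom (Ideal.Quotient.mk y.asIdeal))) w =
      (X ↘ Spec (CommRingCat.of A)) x' := by
    rw [← hy]
    apply PrimeSpectrum.ext
    change Ideal.comap (Ideal.Quotient.mk y.asIdeal) ⊥ = y.asIdeal
    rw [← RingHom.ker_eq_comap_bot, Ideal.mk_ker]
  obtain ⟨z, hz1, hz2⟩ := Scheme.Pullback.exists_preimage_pullback
    (f := X ↘ Spec (CommRingCat.of A))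
    (g := Spec.map (CommRingCat.ofHom (Ideal.Quotient.mk y.asIdeal))) x' w hw.symm
  refine ⟨z, ?_⟩
  have hz : pJ A y.asIdeal X z = x' := hz1
  rw [hz]
  exact hx'C

variable (hH2 : ∀ M : X.Modules, Coh.IsCoh M → Subsingleton (Coh.HH X M 2))

include hH2 in
/-- global generation on the closed fibres gives global generation, when `H¹` vanishes -/
theorem gg_of_fibres (L : X.Modules) (hL : PicF.IsInvertible L)
    (h1L : Subsingleton (Coh.HH X L 1))
    (hgg : ∀ m : Ideal A, m.IsMaximal →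
      Curv2.IsGloballyGenerated ((Scheme.Modules.pullback (pJ A m X)).obj L)) :
    Curv2.IsGloballyGenerated L := by
  have hLc : Coh.IsCoh L := InvQc.isCoh_of_isInvertible _ hL
  apply GenCover.isGloballyGenerated
  refine ⟨hL, ?_⟩
  by_contra hcon
  have hex : ∃ x0 : X, ∀ s : Coh.structureModule X ⟶ L, x0 ∉ CohB1.genLocus L s := by
    by_contra h2
    apply hcon
    intro x
    by_contra h3
    exact h2 ⟨x, fun s hs => h3 ⟨s, hs⟩⟩
  obtain ⟨x0, hx0⟩ := hex
  obtain ⟨C, hCdef⟩ : ∃ C : Set X, C = ⋂ s : Coh.structureModule X ⟶ L,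
      ((CohB1.genLocus L s : X.Opens) : Set X)ᶜ := ⟨_, rfl⟩
  have hCcl : IsClosed C := by
    rw [hCdef]
    exact isClosed_iInter (fun s => (CohB1.genLocus L s).isOpen.isClosed_compl)
  have hCne : C.Nonempty := ⟨x0, by rw [hCdef]; exact Set.mem_iInter.2 (fun s => hx0 s)⟩
  obtain ⟨m, hm, z, hz⟩ := exists_closed_fibre_point A X C hCcl hCne
  have hL' := PullGen.isInvertible_pullback (pJ A m X) hL
  obtain ⟨t, ht⟩ := AmpleLib.exists_section_of_globallyGenerated hL' (hgg m hm) z
  obtain ⟨a, ha⟩ := surjective_σ_top A m X hH2 L hLc h1L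
    (show Γ((Scheme.Modules.pullback (pJ A m X)).obj L, pJ A m X ⁻¹ᵁ ⊤) from
      t.app ⊤ (show Γ(Coh.structureModule (XJ A m X), ⊤) from (1 : Γ(XJ A m X, ⊤))))
  have ht' : t = (PullSec.unitIso (pJ A m X)).inv ≫
      (Scheme.Modules.pullback (pJ A m X)).map (TwistAmple.homOfSec L a) := by
    rw [pull_homOfSec, ha]
    exact PFrame.eq_homOfSec t
  have hgl := PullGen.genLocus_pullback (pJ A m X) hL (TwistAmple.homOfSec L a)
    (PullSec.unitIso (pJ A m X)).symm
  rw [Iso.symm_hom, ← ht'] at hgl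
  rw [hgl] at ht
  have h5 : pJ A m X z ∈ CohB1.genLocus L (TwistAmple.homOfSec L a) := ht
  rw [hCdef] at hz
  exact (Set.mem_iInter.1 hz (TwistAmple.homOfSec L a)) h5

/-- **nef invertible modules are globally generated with vanishing `H¹`**, over a Noetherian ring,
when `H¹(O) = 0` and the fibres have dimension at most one -/
theorem main (h1 : Subsingleton (Coh.HH X (Coh.structureModule X) 1))
    (hfib : ∀ y : ↥(Spec (CommRingCat.of A)),
      topologicalKrullDim ↥((X ↘ Spec (CommRingCat.of A)).fiber y) ≤ 1)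
    (L : X.Modules) (hL : PicF.IsInvertible L)
    (hnef : ∀ (K : Type u) [Field K] (i : A →+* K) (J : X.IdealSheafData)
      (t : J.subscheme ⟶ Spec (CommRingCat.of K)),
      AlgebraicGeometry.IsIntegral J.subscheme → topologicalKrullDim ↥J.subscheme = 1 →
      t ≫ Spec.map (CommRingCat.ofHom i) = J.subschemeι ≫ (X ↘ Spec (CommRingCat.of A)) →
      0 ≤ @Curv2.deg K _ J.subscheme ⟨t⟩ ((Scheme.Modules.pullback J.subschemeι).obj L) 1) :
    Curv2.IsGloballyGenerated L ∧ Subsingleton (Coh.HH X L 1) := by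
  have hH2 : ∀ M : X.Modules, Coh.IsCoh M → Subsingleton (Coh.HH X M 2) := fun M hM =>
    subsingleton_HH_of_fibre_dim A X 1
      (fun y => (hfib y).trans (le_of_eq Nat.cast_one.symm)) M hM 2 (by norm_num)
  have hLc : Coh.IsCoh L := InvQc.isCoh_of_isInvertible _ hL
  have hfm : ∀ m : Ideal A, m.IsMaximal →
      Subsingleton (Coh.HH (XJ A m X) ((Scheme.Modules.pullback (pJ A m X)).obj L) 1) ∧
        Curv2.IsGloballyGenerated ((Scheme.Modules.pullback (pJ A m X)).obj L) := by
    intro m hm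
    haveI := hm
    exact fibre_main A m X hH2 h1 (hfib _) L hL hnef
  have h1L := subsingleton_H1_of_closed_fibres A X hH2 L hLc (fun m hm => (hfm m hm).1)
  exact ⟨gg_of_fibres A X hH2 L hL h1L (fun m hm => (hfm m hm).2), h1L⟩

end Main

end Groth.Agent.Helper1.RelNak
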