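import Mathlib
import Groth.Agent.Lib.Helper1.RelNakC

/-!
# Variant of `RelNak.main` where nefness is only tested over the residue fields of the closed
points of the base (helper1)
-/

set_option backward.isDefEq.respectTransparency.types false
set_option synthInstance.maxHeartbeats 400000
set_option maxHeartbeats 1600000
set_option autoImplicit false
set_option linter.unusedSectionVars false
set_option linter.style.haveILetI false
set_option linter.unusedVariables false
set_option linter.unusedSimpArgs false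
universe u
open CategoryTheory CategoryTheory.Limits AlgebraicGeometry Opposite TopologicalSpace
open Groth.Agent.Helper1 Groth.Agent.Helper1.QcCech Groth.Agent.Helper1.PullSec
open Groth.Agent.Lib.Helper4 Groth.Agent.Lib.Helper4.BaseChgRing1
open Groth.Agent.Helper7.FibAmple

namespace Groth.Agent.Helper1.RelNak

section FibreD
variable (A : Type u) [CommRing A] [IsNoetherianRing A] (m : Ideal A) [hm : m.IsMaximal]
  (X : Scheme.{u}) [X.Over (Spec (CommRingCat.of A))]
  [IsProper (X ↘ Spec (CommRingCat.of A))]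

attribute [local instance] overJ
attribute [local instance] Ideal.Quotient.field

/-- nefness passes to the closed fibres -/
theorem nef_transfer' (L : X.Modules) (hL : PicF.IsInvertible L)
    (hnef : ∀ (J : X.IdealSheafData)
      (t : J.subscheme ⟶ Spec (CommRingCat.of (A ⧸ m))),
      AlgebraicGeometry.IsIntegral J.subscheme → topologicalKrullDim ↥J.subscheme = 1 →
      t ≫ Spec.map (CommRingCat.ofHom (Ideal.Quotient.mk m)) =
        J.subschemeι ≫ (X ↘ Spec (CommRingCat.of A)) →
      0 ≤ @Curv2.deg (A ⧸ m) _ J.subscheme ⟨t⟩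
        ((Scheme.Modules.pullback J.subschemeι).obj L) 1)
    (ξ : XJ A m X)
    (hξ : topologicalKrullDim ↥(closure ({ξ} : Set (XJ A m X))) = ((1 : ℕ) : WithBot ℕ∞)) :
    0 ≤ @Curv2.deg (A ⧸ m) _ (IntMult.ptIdeal ξ).subscheme
      ⟨(IntMult.ptIdeal ξ).subschemeι ≫ (XJ A m X ↘ Spec (CommRingCat.of (A ⧸ m)))⟩
      ((Scheme.Modules.pullback (IntMult.ptIdeal ξ).subschemeι).obj
        ((Scheme.Modules.pullback (pJ A m X)).obj L)) 1 := by
  haveI := isClosedImmersion_pJ A m X
  obtain ⟨C, c, hcC, hc⟩ : ∃ (C : Scheme.{u}) (c : C ⟶ XJ A m X)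
      (_ : C = (IntMult.ptIdeal ξ).subscheme), HEq c (IntMult.ptIdeal ξ).subschemeι :=
    ⟨_, _, rfl, HEq.rfl⟩
  subst hcC
  have hc' : c = (IntMult.ptIdeal ξ).subschemeι := eq_of_heq hc
  haveI : IsClosedImmersion c := by rw [hc']; infer_instance
  rw [← hc']
  haveI hCint : IsIntegral (IntMult.ptIdeal ξ).subscheme := Dv.isIntegral_ptIdeal_subscheme ξ
  obtain ⟨q, hq⟩ : ∃ q : (IntMult.ptIdeal ξ).subscheme ⟶ X, q = c ≫ pJ A m X := ⟨_, rfl⟩
  haveI : IsClosedImmersion q := by rw [hq]; infer_instance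
  obtain ⟨g, hg⟩ : ∃ g : (IntMult.ptIdeal ξ).subscheme ⟶ q.ker.subscheme, g = q.toImage :=
    ⟨_, rfl⟩
  haveI : IsIso g := by rw [hg]; infer_instance
  have hgι : g ≫ q.ker.subschemeι = q := by rw [hg]; exact q.toImage_imageι
  obtain ⟨t, ht⟩ : ∃ t : q.ker.subscheme ⟶ Spec (CommRingCat.of (A ⧸ m)),
      t = inv g ≫ c ≫ (XJ A m X ↘ Spec (CommRingCat.of (A ⧸ m))) := ⟨_, rfl⟩
  have hcompat : t ≫ Spec.map (CommRingCat.ofHom (Ideal.Quotient.mk m)) =
      q.ker.subschemeι ≫ (X ↘ Spec (CommRingCat.of A)) := by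
    have hw := (isPullback_J A m X).w
    have h2 : inv g ≫ q = q.ker.subschemeι := by
      rw [IsIso.inv_comp_eq]
      exact hgι.symm
    rw [ht, Category.assoc, Category.assoc, ← hw, ← Category.assoc c, ← hq, ← Category.assoc, h2]
  have hint : AlgebraicGeometry.IsIntegral q.ker.subscheme := by
    haveI : Nonempty q.ker.subscheme := ⟨g (Classical.arbitrary _)⟩
    exact isIntegral_of_isOpenImmersion (inv g)
  have hdim : topologicalKrullDim ↥q.ker.subscheme = 1 := by
    have h1 := IsHomeomorph.topologicalKrullDim_eq _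
      (Scheme.homeoOfIso (asIso g)).isHomeomorph
    rw [← h1, NefGG.dim_ptIdeal_subscheme ξ, hξ]
    exact Nat.cast_one
  have h0 := hnef q.ker t hint hdim hcompat
  letI oC : (IntMult.ptIdeal ξ).subscheme.Over (Spec (CommRingCat.of (A ⧸ m))) :=
    ⟨c ≫ (XJ A m X ↘ Spec (CommRingCat.of (A ⧸ m)))⟩
  letI oJ : q.ker.subscheme.Over (Spec (CommRingCat.of (A ⧸ m))) := ⟨t⟩
  have hgt : g ≫ (q.ker.subscheme ↘ Spec (CommRingCat.of (A ⧸ m))) =
      (IntMult.ptIdeal ξ).subscheme ↘ Spec (CommRingCat.of (A ⧸ m)) := by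
    change g ≫ t = c ≫ (XJ A m X ↘ Spec (CommRingCat.of (A ⧸ m)))
    rw [ht, IsIso.hom_inv_id_assoc]
  have hE : FlatMod.IsFinLocFree ((Scheme.Modules.pullback q.ker.subschemeι).obj L) :=
    InvInv2.isFinLocFree_of_isInvertible (PullGen.isInvertible_pullback _ hL)
  have hO : FlatMod.IsFinLocFree (Coh.structureModule q.ker.subscheme) :=
    InvInv2.isFinLocFree_of_isInvertible GenLoc.isInvertible_O
  have e1 := P1Iso.euler_pullback_of_isIso (A ⧸ m) q.ker.subscheme
    (IntMult.ptIdeal ξ).subscheme g hgt _ hE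
  have e2 := P1Iso.euler_pullback_of_isIso (A ⧸ m) q.ker.subscheme
    (IntMult.ptIdeal ξ).subscheme g hgt _ hO
  let iso1 : (Scheme.Modules.pullback g).obj ((Scheme.Modules.pullback q.ker.subschemeι).obj L) ≅
      (Scheme.Modules.pullback c).obj ((Scheme.Modules.pullback (pJ A m X)).obj L) :=
    (Scheme.Modules.pullbackComp g q.ker.subschemeι).app L ≪≫
      (Scheme.Modules.pullbackCongr (hgι.trans hq)).app L ≪≫
      ((Scheme.Modules.pullbackComp c (pJ A m X)).app L).symm
  have e3 := Euler.euler_iso (A ⧸ m) (IntMult.ptIdeal ξ).subscheme iso1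
  have e4 := Euler.euler_iso (A ⧸ m) (IntMult.ptIdeal ξ).subscheme (PullSec.unitIso g)
  change 0 ≤ Curv2.deg (A ⧸ m) (IntMult.ptIdeal ξ).subscheme _ 1
  change 0 ≤ Curv2.deg (A ⧸ m) q.ker.subscheme _ 1 at h0
  unfold Curv2.deg at h0 ⊢
  rw [← e3, e1, ← e4, e2]
  exact h0

variable
  (hH2 : ∀ M : X.Modules, Coh.IsCoh M → Subsingleton (Coh.HH X M 2))

include hH2 in
/-- **a nef invertible module restricts to the closed fibres with vanishing `H¹` and is globally
generated there** -/
theorem fibre_main' (h1 : Subsingleton (Coh.HH X (Coh.structureModule X) 1))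
    (hfib : topologicalKrullDim ↥((X ↘ Spec (CommRingCat.of A)).fiber
      (⟨m, hm.isPrime⟩ : PrimeSpectrum A)) ≤ 1)
    (L : X.Modules) (hL : PicF.IsInvertible L)
    (hnef : ∀ (J : X.IdealSheafData)
      (t : J.subscheme ⟶ Spec (CommRingCat.of (A ⧸ m))),
      AlgebraicGeometry.IsIntegral J.subscheme → topologicalKrullDim ↥J.subscheme = 1 →
      t ≫ Spec.map (CommRingCat.ofHom (Ideal.Quotient.mk m)) =
        J.subschemeι ≫ (X ↘ Spec (CommRingCat.of A)) →
      0 ≤ @Curv2.deg (A ⧸ m) _ J.subscheme ⟨t⟩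
        ((Scheme.Modules.pullback J.subschemeι).obj L) 1) :
    Subsingleton (Coh.HH (XJ A m X) ((Scheme.Modules.pullback (pJ A m X)).obj L) 1) ∧
      Curv2.IsGloballyGenerated ((Scheme.Modules.pullback (pJ A m X)).obj L) := by
  haveI := isProper_XJ A m X
  have hdimZ : topologicalKrullDim (XJ A m X) ≤ 1 := by
    have := dim_XJ_le A m X 1 (hfib.trans (le_of_eq Nat.cast_one.symm))
    exact this.trans (le_of_eq Nat.cast_one)
  have h1Z := subsingleton_H1_O A m X hH2 h1
  have hL' := PullGen.isInvertible_pullback (pJ A m X) hL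
  refine NefGG.main (A ⧸ m) (XJ A m X) hdimZ h1Z _ hL' (fun ξ hξ => ?_)
  exact NefGG.lam_nonneg_of_deg (A ⧸ m) (XJ A m X) _ hL' ξ hξ
    (nef_transfer' A m X L hL hnef ξ hξ)

end FibreD

section MainD
variable (A : Type u) [CommRing A] [IsNoetherianRing A]
  (X : Scheme.{u}) [X.Over (Spec (CommRingCat.of A))]
  [IsProper (X ↘ Spec (CommRingCat.of A))]

/-- **nef invertible modules are globally generated with vanishing `H¹`**, over a Noetherian ring,
when `H¹(O) = 0` and the fibres have dimension at most one -/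
theorem main' (h1 : Subsingleton (Coh.HH X (Coh.structureModule X) 1))
    (hfib : ∀ y : ↥(Spec (CommRingCat.of A)),
      topologicalKrullDim ↥((X ↘ Spec (CommRingCat.of A)).fiber y) ≤ 1)
    (L : X.Modules) (hL : PicF.IsInvertible L)
    (hnef : ∀ (m : Ideal A) [m.IsMaximal] (J : X.IdealSheafData)
      (t : J.subscheme ⟶ Spec (CommRingCat.of (A ⧸ m))),
      AlgebraicGeometry.IsIntegral J.subscheme → topologicalKrullDim ↥J.subscheme = 1 →
      t ≫ Spec.map (CommRingCat.ofHom (Ideal.Quotient.mk m)) =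
        J.subschemeι ≫ (X ↘ Spec (CommRingCat.of A)) →
      0 ≤ @Curv2.deg (A ⧸ m) (Ideal.Quotient.field m) J.subscheme ⟨t⟩
        ((Scheme.Modules.pullback J.subschemeι).obj L) 1) :
    Curv2.IsGloballyGenerated L ∧ Subsingleton (Coh.HH X L 1) := by
  have hH2 : ∀ M : X.Modules, Coh.IsCoh M → Subsingleton (Coh.HH X M 2) := fun M hM =>
    subsingleton_HH_of_fibre_dim A X 1
      (fun y => (hfib y).trans (le_of_eq Nat.cast_one.symm)) M hM 2 (by norm_num)
  have hLc : Coh.IsCoh L := InvQc.isCoh_of_isInvertible _ hL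
  have hfm : ∀ m : Ideal A, m.IsMaximal →
      Subsingleton (Coh.HH (XJ A m X) ((Scheme.Modules.pullback (pJ A m X)).obj L) 1) ∧
        Curv2.IsGloballyGenerated ((Scheme.Modules.pullback (pJ A m X)).obj L) := by
    intro m hm
    haveI := hm
    exact fibre_main' A m X hH2 h1 (hfib _) L hL (hnef m)
  have h1L := subsingleton_H1_of_closed_fibres A X hH2 L hLc (fun m hm => (hfm m hm).1)
  exact ⟨gg_of_fibres A X hH2 L hL h1L (fun m hm => (hfm m hm).2), h1L⟩

end MainD

end Groth.Agent.Helper1.RelNak
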