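import Mathlib
import Groth.Agent.Lib.Helper1.RelNakD
import Groth.Agent.Lib.Helper1.CompL1
import Groth.Agent.Lib.Helper1.HProj2
import Groth.Agent.Lib.Helper4.TopDim1

/-!
# Nef invertible modules on vertical closed subschemes of an arithmetic surface with `H¹(O) = 0`
(helper1)
-/

set_option backward.isDefEq.respectTransparency.types false
set_option synthInstance.maxHeartbeats 400000
set_option maxHeartbeats 1600000
set_option autoImplicit false
set_option linter.unusedSectionVars false
set_option linter.style.haveILetI false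
set_option linter.unusedVariables false
set_option linter.unusedSimpArgs false
universe u
open CategoryTheory CategoryTheory.Limits AlgebraicGeometry Opposite TopologicalSpace
open Groth.Agent.Helper1

namespace Groth.Agent.Helper1.ArVert

section Gen

/-- the degree of `Curv2` is the degree of `ArSurf` in dimension `≤ 1` -/
theorem deg_eq_arCurveDeg (k : Type u) [Field k] (C : Scheme.{u})
    [C.Over (Spec (CommRingCat.of k))] [IsProper (C ↘ Spec (CommRingCat.of k))]
    (hd : topologicalKrullDim C ≤ ((1 : ℕ) : WithBot ℕ∞)) (M : C.Modules) :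
    Curv2.deg k C M 1 = ArSurf.curveDeg k C M :=
  (NefGG.deg_eq_curveDeg k C hd M).trans rfl

theorem dim_fiber_le {Z S : Scheme.{u}} (f : Z ⟶ S) (y : S) :
    topologicalKrullDim ↥(f.fiber y) ≤ topologicalKrullDim Z :=
  (f.fiberι y).isEmbedding.isInducing.topologicalKrullDim_le

theorem dim_le_of_isClosedImmersion {Z X : Scheme.{u}} (z : Z ⟶ X) [IsClosedImmersion z] :
    topologicalKrullDim Z ≤ topologicalKrullDim ↥(Set.range z.base) := by
  let h : Z → ↥(Set.range z.base) := fun a => ⟨z.base a, ⟨a, rfl⟩⟩
  have hcont : Continuous h := Continuous.subtype_mk z.continuous _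
  have hind : Topology.IsInducing h := by
    have h1 : Topology.IsInducing (Subtype.val ∘ h) := z.isEmbedding.isInducing
    exact Topology.IsInducing.of_comp hcont continuous_subtype_val h1
  exact hind.topologicalKrullDim_le

theorem two_ne_top : (2 : WithBot ℕ∞) ≠ ⊤ := by
  intro h
  have h2 : ((2 : ℕ∞) : WithBot ℕ∞) = ((⊤ : ℕ∞) : WithBot ℕ∞) := h
  have h3 : (2 : ℕ∞) = ⊤ := WithBot.coe_injective h2
  exact ENat.coe_ne_top 2 h3

end Gen

section Main

variable (R : Type u) [CommRing R] [IsDomain R] [IsDiscreteValuationRing R]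
  (X : Over (Spec (CommRingCat.of R)))

theorem isProper_of_isArithSurface (hX : ArSurf.IsArithSurface R X) : IsProper X.hom := by
  obtain ⟨-, -, -, -, n, i, hi, hw⟩ := hX
  haveI := hi
  rw [← hw]
  infer_instance

theorem dim_le_one_of_vertical (hX : ArSurf.IsArithSurface R X) (Z : Scheme.{u})
    (z : Z ⟶ X.left) [IsClosedImmersion z]
    (hvert : Set.range z.base ⊆ Models.specialFibreSet R X) :
    topologicalKrullDim Z ≤ 1 := by
  obtain ⟨-, hint, hdim, hflat, -⟩ := hX
  haveI := hint
  haveI := hflat
  have hne : Set.range z.base ≠ Set.univ := by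
    intro h
    have h1 : genericPoint X.left ∈ Models.specialFibreSet R X := hvert (h ▸ Set.mem_univ _)
    exact CompL.map_genericPoint_ne R X h1
  have hfin : topologicalKrullDim X.left ≠ ⊤ := by
    rw [hdim]; exact two_ne_top
  have hlt := Groth.Agent.Helper4.TD.topologicalKrullDim_lt_of_isClosed_ne_univ X.left hfin
    (Set.range z.base) z.isClosedEmbedding.isClosed_range hne
  rw [hdim] at hlt
  have hlt' : topologicalKrullDim ↥(Set.range z.base) < ((1 + 1 : ℕ) : WithBot ℕ∞) := by
    exact_mod_cast hlt
  have h1 := Groth.Agent.Lib.Helper4.Chev3.withBot_lt_natCast_succ hlt'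
  exact (dim_le_of_isClosedImmersion z).trans (h1.trans (le_of_eq Nat.cast_one))

/-- **nef invertible modules on a vertical closed subscheme `Z` with `H¹(O_Z) = 0` have no `H¹`
and are globally generated** -/
theorem main (hX : ArSurf.IsArithSurface R X)
    (Z : Scheme.{u}) (z : Z ⟶ X.left) [IsClosedImmersion z]
    (hvert : Set.range z.base ⊆ Models.specialFibreSet R X)
    (hH1 : Subsingleton (Coh.HH Z (Coh.structureModule Z) 1))
    (L : Z.Modules) (hL : PicF.IsInvertible L)
    (hdeg : ∀ (Γ : ArSurf.VertComp R X) (g : Γ.curve.left ⟶ Z), g ≫ z = Γ.ι →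
      0 ≤ ArSurf.curveDeg (IsLocalRing.ResidueField R) Γ.curve.left
        ((Scheme.Modules.pullback g).obj L)) :
    Subsingleton (Coh.HH Z L 1) ∧ Curv2.IsGloballyGenerated L := by
  haveI hp : IsProper X.hom := isProper_of_isArithSurface R X hX
  letI oZ : Z.Over (Spec (CommRingCat.of R)) := ⟨z ≫ X.hom⟩
  haveI hpZ : IsProper (Z ↘ Spec (CommRingCat.of R)) := by
    change IsProper (z ≫ X.hom); infer_instance
  have hdimZ := dim_le_one_of_vertical R X hX Z z hvert
  have hfib : ∀ y : ↥(Spec (CommRingCat.of R)),
      topologicalKrullDim ↥((Z ↘ Spec (CommRingCat.of R)).fiber y) ≤ 1 :=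
    fun y => (dim_fiber_le _ y).trans hdimZ
  have hmain := RelNak.main' R Z hH1 hfib L hL ?_
  · exact ⟨hmain.2, hmain.1⟩
  intro m hm J t hint hdim hcompat
  have hmeq : m = IsLocalRing.maximalIdeal R := IsLocalRing.eq_maximalIdeal hm
  subst hmeq
  haveI hpt : IsProper t := by
    haveI : IsProper (t ≫ Spec.map (CommRingCat.ofHom
        (Ideal.Quotient.mk (IsLocalRing.maximalIdeal R)))) := by
      rw [hcompat]; infer_instance
    exact IsProper.of_comp t (Spec.map (CommRingCat.ofHom
      (Ideal.Quotient.mk (IsLocalRing.maximalIdeal R))))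
  let Γ : ArSurf.VertComp R X :=
    { curve := Over.mk (show J.subscheme ⟶
        Spec (CommRingCat.of (IsLocalRing.ResidueField R)) from t)
      ι := J.subschemeι ≫ z
      isClosedImmersion := inferInstance
      isIntegral := hint
      dim_eq := hdim
      w := by
        change (J.subschemeι ≫ z) ≫ X.hom =
          t ≫ Spec.map (CommRingCat.ofHom (Ideal.Quotient.mk (IsLocalRing.maximalIdeal R)))
        rw [hcompat, Category.assoc]
        rfl }
  have h0 := hdeg Γ J.subschemeι rfl
  letI oC : J.subscheme.Over (Spec (CommRingCat.of (IsLocalRing.ResidueField R))) := ⟨t⟩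
  haveI : IsProper (J.subscheme ↘ Spec (CommRingCat.of (IsLocalRing.ResidueField R))) := hpt
  have hd1 : topologicalKrullDim ↥J.subscheme ≤ ((1 : ℕ) : WithBot ℕ∞) := by
    rw [hdim]; exact le_of_eq Nat.cast_one.symm
  have hb := deg_eq_arCurveDeg (IsLocalRing.ResidueField R) J.subscheme hd1
    ((Scheme.Modules.pullback J.subschemeι).obj L)
  change 0 ≤ Curv2.deg (IsLocalRing.ResidueField R) J.subscheme
    ((Scheme.Modules.pullback J.subschemeι).obj L) 1
  rw [hb]
  exact h0

end Main

end Groth.Agent.Helper1.ArVert
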