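import Groth.Agent.Lib.Helper1.SqZeroDef

universe u
open TensorProduct

namespace Groth.Agent.Helper1.AutDef

open Groth.Agent.Helper1.SqZeroDef

section
variable {A : Type u} [CommRing A] [IsLocalRing A]
  (t : A) (ht : t ∈ IsLocalRing.maximalIdeal A) (ht0 : t ≠ 0)
  (htm : ∀ a ∈ IsLocalRing.maximalIdeal A, a * t = 0)
  {B : Type u} [CommRing B] [Algebra A B]

local notation "𝔪" => IsLocalRing.maximalIdeal A
local notation "N" => Ideal.map (algebraMap A B) (IsLocalRing.maximalIdeal A)
local notation "T" => algebraMap A B t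

include htm in
lemma T_mul_eq_zero {n : B} (hn : n ∈ N) : T * n = 0 := by
  obtain ⟨z, rfl⟩ := exists_μ_eq 𝔪 B hn
  clear hn
  induction z using TensorProduct.induction_on with
  | zero => simp
  | tmul b a =>
    rw [μ_tmul, Algebra.smul_def, ← mul_assoc, ← map_mul, mul_comm t, htm _ a.2, map_zero,
      zero_mul]
  | add x y hx hy => rw [map_add, mul_add, hx, hy, add_zero]

include ht in
lemma T_mem : T ∈ N := Ideal.mem_map_of_mem _ ht

include ht0 in
lemma ann_t (a : A) (h : t * a = 0) : a ∈ 𝔪 := by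
  by_contra hne
  have hu : IsUnit a := by
    by_contra hnu
    exact hne ((IsLocalRing.mem_maximalIdeal a).mpr hnu)
  obtain ⟨u, rfl⟩ := hu
  apply ht0
  have := congrArg (· * (↑u⁻¹ : A)) h
  simpa [mul_assoc] using this

include ht0 htm in
/-- flatness: `T b = 0 → b ∈ 𝔪 B` -/
lemma mem_of_T_mul_eq_zero [Module.Flat A B] {b : B} (hb : T * b = 0) : b ∈ N := by
  have hex : Function.Exact (𝔪).subtype (LinearMap.mulLeft A t) := by
    intro a
    constructor
    · intro h
      exact ⟨⟨a, ann_t t ht0 a h⟩, rfl⟩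
    · rintro ⟨a', rfl⟩
      show t * a'.1 = 0
      rw [mul_comm]; exact htm _ a'.2
  have hex' := Module.Flat.lTensor_exact B hex
  have h1 : (LinearMap.mulLeft A t).lTensor B (b ⊗ₜ[A] (1 : A)) = 0 := by
    rw [LinearMap.lTensor_tmul]
    apply (TensorProduct.rid A B).injective
    rw [TensorProduct.rid_tmul, map_zero]
    show (t * 1) • b = 0
    rw [mul_one, Algebra.smul_def]; exact hb
  obtain ⟨w, hw⟩ := (hex' _).mp h1
  have h2 : μ 𝔪 B w = b := by
    show (TensorProduct.rid A B) ((𝔪).subtype.lTensor B w) = b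
    rw [hw, TensorProduct.rid_tmul, one_smul]
  rw [← h2]
  exact μ_mem 𝔪 B w

end

section part1
variable {A : Type u} [CommRing A] [IsLocalRing A]
  (t : A) (ht : t ∈ IsLocalRing.maximalIdeal A) (ht0 : t ≠ 0)
  (htm : ∀ a ∈ IsLocalRing.maximalIdeal A, a * t = 0)
  {B : Type u} [CommRing B] [Algebra A B] [Module.Flat A B]
  (η τ : B →ₐ[A] B)
  (hτ0 : ∀ b : B, τ b - b ∈ (IsLocalRing.maximalIdeal A).map (algebraMap A B))
  (hητ : ∀ b : B, ∃ b' : B, η b = τ b + algebraMap A B t * b')

local notation "𝔪" => IsLocalRing.maximalIdeal A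
local notation "N" => Ideal.map (algebraMap A B) (IsLocalRing.maximalIdeal A)
local notation "T" => algebraMap A B t

/-- the difference function `B → B₀` -/
noncomputable def Dfun (b : B) : B ⧸ N := Ideal.Quotient.mk N (Classical.choose (hητ b))

include ht0 htm in
lemma D_spec {b b' : B} (h : η b = τ b + T * b') : Dfun t η τ hητ b = Ideal.Quotient.mk N b' := by
  have hc := Classical.choose_spec (hητ b)
  have h0 : T * (Classical.choose (hητ b) - b') = 0 := by
    rw [mul_sub, sub_eq_zero]
    have := hc.symm.trans h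
    exact add_left_cancel this
  have := mem_of_T_mul_eq_zero t ht0 htm h0
  unfold Dfun
  rw [← sub_eq_zero, ← map_sub]
  exact Ideal.Quotient.eq_zero_iff_mem.mpr this

include ht0 htm in
lemma D_add (b c : B) : Dfun t η τ hητ (b + c) = Dfun t η τ hητ b + Dfun t η τ hητ c := by
  obtain ⟨b', hb'⟩ := hητ b
  obtain ⟨c', hc'⟩ := hητ c
  rw [D_spec t ht0 htm η τ hητ hb', D_spec t ht0 htm η τ hητ hc', ← map_add]
  apply D_spec t ht0 htm
  rw [map_add, map_add, hb', hc']; ring

include ht0 htm in
lemma D_smul (a : A) (b : B) : Dfun t η τ hητ (a • b) = a • Dfun t η τ hητ b := by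
  obtain ⟨b', hb'⟩ := hητ b
  rw [D_spec t ht0 htm η τ hητ hb']
  have : a • Ideal.Quotient.mk N b' = Ideal.Quotient.mk N (a • b') := rfl
  rw [this]
  apply D_spec t ht0 htm
  rw [map_smul, map_smul, hb', smul_add, mul_smul_comm]

include ht ht0 htm hτ0 in
lemma D_mul (b c : B) : Dfun t η τ hητ (b * c) =
    Ideal.Quotient.mk N b * Dfun t η τ hητ c + Ideal.Quotient.mk N c * Dfun t η τ hητ b := by
  obtain ⟨b', hb'⟩ := hητ b
  obtain ⟨c', hc'⟩ := hητ c
  rw [D_spec t ht0 htm η τ hητ hb', D_spec t ht0 htm η τ hητ hc']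
  have hTT : T * T = 0 := T_mul_eq_zero t htm (T_mem t ht)
  have e1 : Dfun t η τ hητ (b * c) = Ideal.Quotient.mk N (b' * τ c + c' * τ b) := by
    apply D_spec t ht0 htm
    rw [map_mul, map_mul, hb', hc']
    linear_combination (b' * c') * hTT
  rw [e1, map_add, map_mul, map_mul]
  have e2 : ∀ x : B, Ideal.Quotient.mk N (τ x) = Ideal.Quotient.mk N x := by
    intro x
    rw [← sub_eq_zero, ← map_sub]
    exact Ideal.Quotient.eq_zero_iff_mem.mpr (hτ0 x)
  rw [e2, e2]; ring

/-- the difference as a linear map -/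
noncomputable def DL : B →ₗ[A] B ⧸ N where
  toFun := Dfun t η τ hητ
  map_add' := D_add t ht0 htm η τ hητ
  map_smul' := D_smul t ht0 htm η τ hητ

lemma smul_quot_eq_zero {a : A} (ha : a ∈ 𝔪) (q : B ⧸ N) : a • q = 0 := by
  obtain ⟨b, rfl⟩ := Ideal.Quotient.mk_surjective q
  have : a • Ideal.Quotient.mk N b = Ideal.Quotient.mk N (algebraMap A B a * b) := by
    rw [← Algebra.smul_def]; rfl
  rw [this]
  exact Ideal.Quotient.eq_zero_iff_mem.mpr (Ideal.mul_mem_right _ _ (Ideal.mem_map_of_mem _ ha))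

lemma DL_N {b : B} (hb : b ∈ N) : DL t ht0 htm η τ hητ b = 0 := by
  obtain ⟨z, rfl⟩ := exists_μ_eq 𝔪 B hb
  clear hb
  induction z using TensorProduct.induction_on with
  | zero => simp
  | tmul b a => rw [μ_tmul, map_smul]; exact smul_quot_eq_zero a.2 _
  | add x y hx hy => rw [map_add, map_add, hx, hy, add_zero]

/-- the induced map on `B₀` -/
noncomputable def dL : (B ⧸ N) →ₗ[A] B ⧸ N :=
  (Submodule.liftQ (Submodule.restrictScalars A N) (DL t ht0 htm η τ hητ)
    (fun b hb => DL_N t ht0 htm η τ hητ hb)) ∘ₗ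
    (Submodule.Quotient.restrictScalarsEquiv A N).symm.toLinearMap

lemma dL_mk (b : B) : dL t ht0 htm η τ hητ (Ideal.Quotient.mk N b) = Dfun t η τ hητ b := rfl

end part1

section part1b
variable {k : Type u} [Field k] {A : Type u} [CommRing A] [IsLocalRing A] [Algebra k A]
  (t : A) (ht : t ∈ IsLocalRing.maximalIdeal A) (ht0 : t ≠ 0)
  (htm : ∀ a ∈ IsLocalRing.maximalIdeal A, a * t = 0)
  {B : Type u} [CommRing B] [Algebra A B] [Module.Flat A B] [Algebra k B] [IsScalarTower k A B]
  (η τ : B →ₐ[A] B)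
  (hτ0 : ∀ b : B, τ b - b ∈ (IsLocalRing.maximalIdeal A).map (algebraMap A B))
  (hητ : ∀ b : B, ∃ b' : B, η b = τ b + algebraMap A B t * b')

local notation "𝔪" => IsLocalRing.maximalIdeal A
local notation "N" => Ideal.map (algebraMap A B) (IsLocalRing.maximalIdeal A)
local notation "T" => algebraMap A B t

/-- the derivation attached to `η` -/
noncomputable def der : Derivation k (B ⧸ N) (B ⧸ N) :=
  Derivation.mk' ((dL t ht0 htm η τ hητ).restrictScalars k) (by
    intro p q
    obtain ⟨b, rfl⟩ := Ideal.Quotient.mk_surjective p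
    obtain ⟨c, rfl⟩ := Ideal.Quotient.mk_surjective q
    show dL t ht0 htm η τ hητ (Ideal.Quotient.mk N b * Ideal.Quotient.mk N c) = _
    rw [← map_mul, dL_mk, D_mul t ht ht0 htm η τ hτ0 hητ, smul_eq_mul, smul_eq_mul]
    rfl)

lemma der_mk (b : B) : der (k := k) t ht ht0 htm η τ hτ0 hητ (Ideal.Quotient.mk N b) = Dfun t η τ hητ b :=
  rfl

include ht ht0 htm hτ0 hητ in
theorem part1 :
    ∃! d : Derivation k (B ⧸ N) (B ⧸ N),
      ∀ b b' : B, Ideal.Quotient.mk N b' = d (Ideal.Quotient.mk N b) → η b = τ b + T * b' := by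
  refine ⟨der (k := k) t ht ht0 htm η τ hτ0 hητ, ?_, ?_⟩
  · intro b b' h
    rw [der_mk] at h
    have hc := Classical.choose_spec (hητ b)
    rw [hc]
    congr 1
    have : b' - Classical.choose (hητ b) ∈ N := by
      rw [← Ideal.Quotient.eq_zero_iff_mem, map_sub, h, sub_eq_zero]; rfl
    have h0 := T_mul_eq_zero t htm this
    rw [mul_sub, sub_eq_zero] at h0
    exact h0.symm
  · intro d hd
    ext q
    obtain ⟨b, rfl⟩ := Ideal.Quotient.mk_surjective q
    obtain ⟨b', hb'⟩ := Ideal.Quotient.mk_surjective (d (Ideal.Quotient.mk N b))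
    rw [der_mk, ← hb']
    exact (D_spec t ht0 htm η τ hητ (hd b b' hb')).symm

end part1b

section part2
variable {k : Type u} [Field k] {A : Type u} [CommRing A] [IsLocalRing A] [Algebra k A]
  (hres : ∀ a : A, ∃ c : k, a - algebraMap k A c ∈ IsLocalRing.maximalIdeal A)
  (t : A) (ht : t ∈ IsLocalRing.maximalIdeal A)
  (htm : ∀ a ∈ IsLocalRing.maximalIdeal A, a * t = 0)
  {B : Type u} [CommRing B] [Algebra A B] [Algebra k B] [IsScalarTower k A B]
  (τ : B ≃ₐ[A] B)
  (hτ0 : ∀ b : B, τ b - b ∈ (IsLocalRing.maximalIdeal A).map (algebraMap A B))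
  (d : Derivation k (B ⧸ (IsLocalRing.maximalIdeal A).map (algebraMap A B))
    (B ⧸ (IsLocalRing.maximalIdeal A).map (algebraMap A B)))

local notation "𝔪" => IsLocalRing.maximalIdeal A
local notation "N" => Ideal.map (algebraMap A B) (IsLocalRing.maximalIdeal A)
local notation "T" => algebraMap A B t

/-- `E b = T * (lift of d (mk b))` -/
noncomputable def E (b : B) : B :=
  T * Function.surjInv (Ideal.Quotient.mk_surjective (I := N)) (d (Ideal.Quotient.mk N b))

include htm in
lemma E_spec {b b' : B} (h : Ideal.Quotient.mk N b' = d (Ideal.Quotient.mk N b)) :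
    E t d b = T * b' := by
  unfold E
  have h1 := Function.surjInv_eq (Ideal.Quotient.mk_surjective (I := N))
    (d (Ideal.Quotient.mk N b))
  have : Function.surjInv (Ideal.Quotient.mk_surjective (I := N)) (d (Ideal.Quotient.mk N b)) - b'
      ∈ N := by
    rw [← Ideal.Quotient.eq_zero_iff_mem, map_sub, h1, h, sub_self]
  have h0 := T_mul_eq_zero t htm this
  rw [mul_sub, sub_eq_zero] at h0
  exact h0

lemma exists_lift_d (b : B) : ∃ b' : B, Ideal.Quotient.mk N b' = d (Ideal.Quotient.mk N b) :=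
  Ideal.Quotient.mk_surjective _

include htm in
lemma E_add (b c : B) : E t d (b + c) = E t d b + E t d c := by
  obtain ⟨b', hb'⟩ := exists_lift_d d b
  obtain ⟨c', hc'⟩ := exists_lift_d d c
  rw [E_spec t htm d hb', E_spec t htm d hc', ← mul_add]
  apply E_spec t htm
  rw [map_add, map_add, map_add, hb', hc']

include htm in
lemma E_mul (b c : B) : E t d (b * c) = T * (b * Function.surjInv
    (Ideal.Quotient.mk_surjective (I := N)) (d (Ideal.Quotient.mk N c)) + c * Function.surjInv
    (Ideal.Quotient.mk_surjective (I := N)) (d (Ideal.Quotient.mk N b))) := by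
  apply E_spec t htm
  rw [map_add, map_mul, map_mul, map_mul,
    Function.surjInv_eq (Ideal.Quotient.mk_surjective (I := N)),
    Function.surjInv_eq (Ideal.Quotient.mk_surjective (I := N)),
    Derivation.leibniz, smul_eq_mul, smul_eq_mul]

include hres htm in
lemma E_algebraMap (a : A) : E t d (algebraMap A B a) = 0 := by
  have h : Ideal.Quotient.mk N (0 : B) = d (Ideal.Quotient.mk N (algebraMap A B a)) := by
    obtain ⟨c, hc⟩ := hres a
    have e : Ideal.Quotient.mk N (algebraMap A B a) = algebraMap k (B ⧸ N) c := by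
      have h1 : Ideal.Quotient.mk N (algebraMap A B (a - algebraMap k A c)) = 0 :=
        Ideal.Quotient.eq_zero_iff_mem.mpr (Ideal.mem_map_of_mem _ hc)
      rw [map_sub, map_sub, sub_eq_zero, ← IsScalarTower.algebraMap_apply k A B] at h1
      rw [h1]; rfl
    rw [e, Derivation.map_algebraMap, map_zero]
  rw [E_spec t htm d h, mul_zero]

lemma E_congr {b c : B} (h : Ideal.Quotient.mk N b = Ideal.Quotient.mk N c) :
    E t d b = E t d c := by
  unfold E; rw [h]

include ht in
lemma E_mem (b : B) : E t d b ∈ N := Ideal.mul_mem_right _ _ (T_mem t ht)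

include ht htm in
lemma T_mul_E (b : B) : T * E t d b = 0 := T_mul_eq_zero t htm (E_mem t ht d b)

include htm hτ0 in
lemma T_mul_τ (b : B) : T * τ b = T * b := by
  have := T_mul_eq_zero t htm (hτ0 b)
  rw [mul_sub, sub_eq_zero] at this
  exact this

/-- the algebra endomorphism `τ + t·d` -/
noncomputable def η₀ : B →ₐ[A] B where
  toFun b := τ b + E t d b
  map_one' := by
    have : (1 : B) = algebraMap A B 1 := (map_one _).symm
    rw [map_one, this, E_algebraMap hres t htm d, add_zero]
  map_mul' b c := by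
    rw [map_mul, E_mul t htm d]
    have hTT : T * T = 0 := T_mul_eq_zero t htm (T_mem t ht)
    have h1 := T_mul_τ t htm τ hτ0 b
    have h2 := T_mul_τ t htm τ hτ0 c
    unfold E
    set b' := Function.surjInv (Ideal.Quotient.mk_surjective (I := N))
      (d (Ideal.Quotient.mk N b))
    set c' := Function.surjInv (Ideal.Quotient.mk_surjective (I := N))
      (d (Ideal.Quotient.mk N c))
    linear_combination (-c') * h1 + (-b') * h2 + (-(b' * c')) * hTT
  map_zero' := by
    have : (0 : B) = algebraMap A B 0 := (map_zero _).symm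
    rw [map_zero, this, E_algebraMap hres t htm d, add_zero]
  map_add' b c := by rw [map_add, E_add t htm d]; ring
  commutes' a := by
    rw [E_algebraMap hres t htm d, add_zero, AlgEquiv.commutes]

lemma η₀_apply (b : B) : η₀ hres t ht htm τ hτ0 d b = τ b + E t d b := rfl

include hτ0 in
lemma τ_mem_iff (b : B) : τ b ∈ N ↔ b ∈ N := by
  constructor
  · intro h
    have := Ideal.sub_mem _ h (hτ0 b)
    rwa [sub_sub_cancel] at this
  · intro h
    have := Ideal.add_mem _ (hτ0 b) h
    rwa [sub_add_cancel] at this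

lemma η₀_bijective : Function.Bijective (η₀ hres t ht htm τ hτ0 d) := by
  constructor
  · rw [injective_iff_map_eq_zero]
    intro b hb
    rw [η₀_apply] at hb
    have h1 : τ b ∈ N := by
      rw [eq_neg_of_add_eq_zero_left hb]
      exact Ideal.neg_mem_iff _ |>.mpr (E_mem t ht d b)
    have h2 : b ∈ N := (τ_mem_iff τ hτ0 b).mp h1
    have h3 : E t d b = 0 := by
      have : Ideal.Quotient.mk N b = Ideal.Quotient.mk N (algebraMap A B 0) := by
        rw [map_zero, map_zero]; exact Ideal.Quotient.eq_zero_iff_mem.mpr h2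
      rw [E_congr t d this, E_algebraMap hres t htm d]
    rw [h3, add_zero] at hb
    exact (map_eq_zero_iff τ τ.injective).mp hb
  · intro c
    refine ⟨τ.symm (c - E t d (τ.symm c)), ?_⟩
    rw [η₀_apply, AlgEquiv.apply_symm_apply]
    have : E t d (τ.symm (c - E t d (τ.symm c))) = E t d (τ.symm c) := by
      apply E_congr
      rw [map_sub, map_sub, sub_eq_self]
      apply Ideal.Quotient.eq_zero_iff_mem.mpr
      rw [← τ_mem_iff τ hτ0, AlgEquiv.apply_symm_apply]
      exact E_mem t ht d _
    rw [this, sub_add_cancel]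

end part2

end Groth.Agent.Helper1.AutDef
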