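import Mathlib

universe u
open TensorProduct

namespace Groth.Agent.Helper1.AutMod

section
variable {R : Type u} [CommRing R] (J 𝔪 : Ideal R) (hJ : 𝔪 * J = ⊥) (hJle : J ≤ 𝔪)
  (S : Type u) [CommRing S] [Algebra R S] (M : Type u) [AddCommGroup M] [Module S M] [Module R M]
  [IsScalarTower R S M]

/-- `𝔪 S · M` -/
abbrev P : Submodule S M := (𝔪.map (algebraMap R S)) • (⊤ : Submodule S M)

/-- multiplication `M ⊗ J → M` -/
noncomputable def μM : M ⊗[R] J →ₗ[R] M :=
  (TensorProduct.rid R M).toLinearMap ∘ₗ (J.subtype.lTensor M)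

lemma μM_tmul (m : M) (j : J) : μM J M (m ⊗ₜ j) = (j : R) • m := by
  simp [μM]

lemma μM_smul (a : S) (z : M ⊗[R] J) : μM J M (a • z) = a • μM J M z := by
  induction z using TensorProduct.induction_on with
  | zero => simp
  | tmul m j => rw [TensorProduct.smul_tmul', μM_tmul, μM_tmul, smul_comm]
  | add x y hx hy => rw [smul_add, map_add, map_add, hx, hy, smul_add]

lemma μM_injective [Module.Flat R M] : Function.Injective (μM J M) :=
  (TensorProduct.rid R M).injective.comp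
    (Module.Flat.lTensor_preserves_injective_linearMap (M := M) J.subtype J.injective_subtype)

lemma mem_smul_top_iff (I : Ideal R) (x : M) :
    x ∈ (I.map (algebraMap R S)) • (⊤ : Submodule S M) ↔ x ∈ I • (⊤ : Submodule R M) := by
  have := Ideal.smul_restrictScalars (S := S) I (⊤ : Submodule S M)
  rw [Submodule.restrictScalars_top] at this
  rw [← this]; rfl

lemma μM_mem (z : M ⊗[R] J) : μM J M z ∈ (J.map (algebraMap R S)) • (⊤ : Submodule S M) := by
  rw [mem_smul_top_iff]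
  induction z using TensorProduct.induction_on with
  | zero => simp
  | tmul m j => rw [μM_tmul]; exact Submodule.smul_mem_smul j.2 Submodule.mem_top
  | add x y hx hy => rw [map_add]; exact Submodule.add_mem _ hx hy

lemma exists_μM_eq {x : M} (hx : x ∈ (J.map (algebraMap R S)) • (⊤ : Submodule S M)) :
    ∃ z, μM J M z = x := by
  rw [mem_smul_top_iff] at hx
  refine Submodule.smul_induction_on hx ?_ ?_
  · intro j hj m _
    exact ⟨m ⊗ₜ ⟨j, hj⟩, μM_tmul J M m ⟨j, hj⟩⟩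
  · rintro x y ⟨a, rfl⟩ ⟨b, rfl⟩
    exact ⟨a + b, map_add _ _ _⟩

/-- `π ⊗ 1` -/
noncomputable abbrev πt : M ⊗[R] J →ₗ[R] (M ⧸ P 𝔪 S M) ⊗[R] J :=
  ((P 𝔪 S M).mkQ.restrictScalars R).rTensor J

lemma πt_smul (a : S) (z : M ⊗[R] J) : πt J 𝔪 S M (a • z) = a • πt J 𝔪 S M z := by
  induction z using TensorProduct.induction_on with
  | zero => simp
  | tmul m j =>
    rw [TensorProduct.smul_tmul', LinearMap.rTensor_tmul, LinearMap.rTensor_tmul,
      TensorProduct.smul_tmul']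
    rfl
  | add x y hx hy => rw [smul_add, map_add, map_add, hx, hy, smul_add]

lemma mkQ_surj : Function.Surjective ((P 𝔪 S M).mkQ.restrictScalars R) := by
  intro q
  obtain ⟨m, rfl⟩ := Submodule.Quotient.mk_surjective _ q
  exact ⟨m, rfl⟩

lemma πt_surjective : Function.Surjective (πt J 𝔪 S M) :=
  LinearMap.rTensor_surjective J (mkQ_surj 𝔪 S M)

include hJ in
lemma smul_P_eq_zero (j : J) {n : M} (hn : n ∈ P 𝔪 S M) : (j : R) • n = 0 := by
  rw [mem_smul_top_iff] at hn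
  refine Submodule.smul_induction_on hn ?_ ?_
  · intro c hc m _
    rw [smul_smul]
    have : (j : R) * c = 0 := by
      have := Ideal.mul_mem_mul hc j.2
      rw [hJ] at this
      rw [mul_comm]; exact this
    rw [this, zero_smul]
  · intro x y hx hy
    rw [smul_add, hx, hy, add_zero]

include hJ in
lemma μM_eq_zero_of_πt {z : M ⊗[R] J} (hz : πt J 𝔪 S M z = 0) : μM J M z = 0 := by
  have hex : Function.Exact ((P 𝔪 S M).subtype.restrictScalars R)
      ((P 𝔪 S M).mkQ.restrictScalars R) := by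
    intro x
    constructor
    · intro h
      exact ⟨⟨x, (Submodule.Quotient.mk_eq_zero _).mp h⟩, rfl⟩
    · rintro ⟨y, rfl⟩
      exact (Submodule.Quotient.mk_eq_zero _).mpr y.2
  have hex' := rTensor_exact J hex (mkQ_surj 𝔪 S M)
  obtain ⟨t, rfl⟩ := (hex' z).mp hz
  clear hz
  induction t using TensorProduct.induction_on with
  | zero => simp
  | tmul n j => rw [LinearMap.rTensor_tmul, μM_tmul]; exact smul_P_eq_zero J 𝔪 hJ S M j n.2
  | add x y hx hy => rw [map_add, map_add, hx, hy, add_zero]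

lemma smul_quot_tensor_eq_zero {a : S} (ha : a ∈ 𝔪.map (algebraMap R S))
    (w : (M ⧸ P 𝔪 S M) ⊗[R] J) : a • w = 0 := by
  induction w using TensorProduct.induction_on with
  | zero => simp
  | tmul q j =>
    obtain ⟨m, rfl⟩ := Submodule.Quotient.mk_surjective _ q
    rw [TensorProduct.smul_tmul', ← Submodule.Quotient.mk_smul,
      (Submodule.Quotient.mk_eq_zero _).mpr (Submodule.smul_mem_smul ha Submodule.mem_top),
      TensorProduct.zero_tmul]
  | add x y hx hy => rw [smul_add, hx, hy, add_zero]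

end

section part1
variable {R : Type u} [CommRing R] (J 𝔪 : Ideal R) (hJ : 𝔪 * J = ⊥) (hJle : J ≤ 𝔪)
  (S : Type u) [CommRing S] [Algebra R S] (M : Type u) [AddCommGroup M] [Module S M] [Module R M]
  [IsScalarTower R S M] [Module.Flat R M]
  (σ : M →ₗ[S] M) (hσ : ∀ x, σ x - x ∈ (J.map (algebraMap R S)) • (⊤ : Submodule S M))

/-- the unique `z` with `μ z = σ x − x` -/
noncomputable def Zf (x : M) : M ⊗[R] J := Classical.choose (exists_μM_eq J S M (hσ x))

lemma Zf_spec (x : M) : μM J M (Zf J S M σ hσ x) = σ x - x :=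
  Classical.choose_spec (exists_μM_eq J S M (hσ x))

lemma Zf_eq {x : M} {z : M ⊗[R] J} (h : μM J M z = σ x - x) : Zf J S M σ hσ x = z :=
  μM_injective J M (by rw [Zf_spec, h])

/-- `x ↦ (π ⊗ 1)(Z x)` -/
noncomputable def τL : M →ₗ[S] (M ⧸ P 𝔪 S M) ⊗[R] J where
  toFun x := πt J 𝔪 S M (Zf J S M σ hσ x)
  map_add' x y := by
    rw [← map_add]
    congr 1
    apply Zf_eq
    rw [map_add, Zf_spec, Zf_spec, map_add]; abel
  map_smul' a x := by
    rw [RingHom.id_apply, ← πt_smul]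
    congr 1
    apply Zf_eq
    rw [μM_smul, Zf_spec, map_smul, smul_sub]

lemma τL_P {x : M} (hx : x ∈ P 𝔪 S M) : τL J 𝔪 S M σ hσ x = 0 := by
  refine Submodule.smul_induction_on hx ?_ ?_
  · intro a ha m _
    rw [map_smul]
    exact smul_quot_tensor_eq_zero J 𝔪 S M ha _
  · intro x y hx hy
    rw [map_add, hx, hy, add_zero]

/-- the induced map on `M₀` -/
noncomputable def τ1 : (M ⧸ P 𝔪 S M) →ₗ[S] (M ⧸ P 𝔪 S M) ⊗[R] J :=
  (P 𝔪 S M).liftQ (τL J 𝔪 S M σ hσ) (fun _ hx => τL_P J 𝔪 S M σ hσ hx)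

lemma τ1_mk (x : M) : τ1 J 𝔪 S M σ hσ ((P 𝔪 S M).mkQ x) = πt J 𝔪 S M (Zf J S M σ hσ x) := rfl

include hJ hJle in
lemma smul_μM_eq_zero (j : J) (z : M ⊗[R] J) : (j : R) • μM J M z = 0 := by
  induction z using TensorProduct.induction_on with
  | zero => simp
  | tmul m j' =>
    rw [μM_tmul, smul_smul]
    have : (j : R) * (j' : R) = 0 := by
      have := Ideal.mul_mem_mul (hJle j.2) j'.2
      rwa [hJ] at this
    rw [this, zero_smul]
  | add x y hx hy => rw [map_add, smul_add, hx, hy, add_zero]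

include hJ hJle hσ in
lemma σ_μM (z : M ⊗[R] J) : σ (μM J M z) = μM J M z := by
  induction z using TensorProduct.induction_on with
  | zero => simp
  | tmul m j =>
    rw [μM_tmul, LinearMap.map_smul_of_tower]
    have h := smul_μM_eq_zero J 𝔪 hJ hJle M j (Zf J S M σ hσ m)
    rw [Zf_spec, smul_sub, sub_eq_zero] at h
    exact h
  | add x y hx hy => rw [map_add, map_add, hx, hy]

include hJ hJle hσ in
lemma σ_bijective : Function.Bijective σ := by
  have key : ∀ x, σ (σ x - x) = σ x - x := by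
    intro x
    rw [← Zf_spec J S M σ hσ x]
    exact σ_μM J 𝔪 hJ hJle S M σ hσ _
  rw [Function.bijective_iff_has_inverse]
  refine ⟨fun x => x - (σ x - x), ?_, ?_⟩
  · intro x
    show σ x - (σ (σ x) - σ x) = x
    have := key x
    rw [map_sub] at this
    rw [this]; abel
  · intro x
    show σ (x - (σ x - x)) = x
    rw [map_sub, key]; abel

include hJ hJle hσ in
theorem part1 : Function.Bijective σ ∧
    ∃! τ : (M ⧸ P 𝔪 S M) →ₗ[S] (M ⧸ P 𝔪 S M) ⊗[R] J,
      ∀ (x : M) (z : M ⊗[R] J),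
        TensorProduct.rid R M (LinearMap.lTensor M (Submodule.subtype J) z) = σ x - x →
        LinearMap.rTensor J ((P 𝔪 S M).mkQ.restrictScalars R) z = τ ((P 𝔪 S M).mkQ x) := by
  refine ⟨σ_bijective J 𝔪 hJ hJle S M σ hσ, τ1 J 𝔪 S M σ hσ, ?_, ?_⟩
  · intro x z hz
    rw [τ1_mk, Zf_eq J S M σ hσ hz]
  · intro τ' hτ'
    apply LinearMap.ext
    intro q
    obtain ⟨x, rfl⟩ := Submodule.mkQ_surjective _ q
    rw [τ1_mk]
    exact (hτ' x _ (Zf_spec J S M σ hσ x)).symm

end part1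

section part2
variable {R : Type u} [CommRing R] (J 𝔪 : Ideal R) (hJ : 𝔪 * J = ⊥)
  (S : Type u) [CommRing S] [Algebra R S] (M : Type u) [AddCommGroup M] [Module S M] [Module R M]
  [IsScalarTower R S M] [Module.Flat R M]
  (τ : (M ⧸ P 𝔪 S M) →ₗ[S] (M ⧸ P 𝔪 S M) ⊗[R] J)

/-- `E x = μ z` for any `z` over `τ (mk x)` -/
noncomputable def E (x : M) : M :=
  μM J M (Classical.choose (πt_surjective J 𝔪 S M (τ ((P 𝔪 S M).mkQ x))))

include hJ in
lemma E_spec {x : M} {z : M ⊗[R] J} (h : πt J 𝔪 S M z = τ ((P 𝔪 S M).mkQ x)) :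
    E J 𝔪 S M τ x = μM J M z := by
  have hc := Classical.choose_spec (πt_surjective J 𝔪 S M (τ ((P 𝔪 S M).mkQ x)))
  have : πt J 𝔪 S M (Classical.choose (πt_surjective J 𝔪 S M (τ ((P 𝔪 S M).mkQ x))) - z) = 0 := by
    rw [map_sub, hc, h, sub_self]
  have := μM_eq_zero_of_πt J 𝔪 hJ S M this
  rw [map_sub, sub_eq_zero] at this
  exact this

/-- `E` as a linear map -/
noncomputable def EL : M →ₗ[S] M where
  toFun := E J 𝔪 S M τ
  map_add' x y := by
    obtain ⟨zx, hzx⟩ := πt_surjective J 𝔪 S M (τ ((P 𝔪 S M).mkQ x))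
    obtain ⟨zy, hzy⟩ := πt_surjective J 𝔪 S M (τ ((P 𝔪 S M).mkQ y))
    rw [E_spec J 𝔪 hJ S M τ hzx, E_spec J 𝔪 hJ S M τ hzy, ← map_add]
    apply E_spec J 𝔪 hJ
    rw [map_add, map_add, map_add, hzx, hzy]
  map_smul' a x := by
    obtain ⟨zx, hzx⟩ := πt_surjective J 𝔪 S M (τ ((P 𝔪 S M).mkQ x))
    rw [RingHom.id_apply, E_spec J 𝔪 hJ S M τ hzx, ← μM_smul]
    apply E_spec J 𝔪 hJ
    rw [πt_smul, hzx, map_smul, map_smul]

include hJ in
theorem part2 : ∃ σ : M →ₗ[S] M,
    (∀ x : M, σ x - x ∈ (J.map (algebraMap R S)) • (⊤ : Submodule S M)) ∧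
      ∀ (x : M) (z : M ⊗[R] J),
        TensorProduct.rid R M (LinearMap.lTensor M (Submodule.subtype J) z) = σ x - x →
        LinearMap.rTensor J ((P 𝔪 S M).mkQ.restrictScalars R) z = τ ((P 𝔪 S M).mkQ x) := by
  refine ⟨(LinearMap.id : M →ₗ[S] M) + EL J 𝔪 hJ S M τ, ?_, ?_⟩
  · intro x
    have : ((LinearMap.id : M →ₗ[S] M) + EL J 𝔪 hJ S M τ) x - x = E J 𝔪 S M τ x := by
      show x + E J 𝔪 S M τ x - x = _
      abel
    rw [this]
    exact μM_mem J S M _
  · intro x z hz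
    have h1 : ((LinearMap.id : M →ₗ[S] M) + EL J 𝔪 hJ S M τ) x - x = E J 𝔪 S M τ x := by
      show x + E J 𝔪 S M τ x - x = _
      abel
    rw [h1] at hz
    obtain ⟨z₀, hz₀⟩ := πt_surjective J 𝔪 S M (τ ((P 𝔪 S M).mkQ x))
    rw [E_spec J 𝔪 hJ S M τ hz₀] at hz
    have : z = z₀ := μM_injective J M hz
    rw [this]; exact hz₀

end part2

end Groth.Agent.Helper1.AutMod
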