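import Mathlib
import Groth.Agent.Lib.Helper1.AdjBC

/-!
# Transport of the affine base change criterion along isomorphisms of chart restrictions (helper1 library)
-/

set_option autoImplicit false
universe u

open CategoryTheory AlgebraicGeometry TopologicalSpace Opposite

namespace Groth.Agent.Helper1.BCTrans

open Groth.Agent.Helper1.AdjBC Scheme.Modules

variable {X Y X₀ Y₀ : Scheme.{u}} {f : Y ⟶ X} {f₀ : Y₀ ⟶ X₀} {R R' : CommRingCat.{u}} {θ : R ⟶ R'}
  {i : Spec R ⟶ X} {j : Spec R' ⟶ Y} [IsOpenImmersion i] [IsOpenImmersion j]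
  {i₀ : Spec R ⟶ X₀} {j₀ : Spec R' ⟶ Y₀} [IsOpenImmersion i₀] [IsOpenImmersion j₀]
  {comm : j ≫ f = Spec.map θ ≫ i} {comm₀ : j₀ ≫ f₀ = Spec.map θ ≫ i₀}
  {F : X.Modules} {G : Y.Modules} {φ : F ⟶ (pushforward f).obj G}
  {F₀ : X₀.Modules} {G₀ : Y₀.Modules} {φ₀ : F₀ ⟶ (pushforward f₀).obj G₀}

set_option maxHeartbeats 1600000 in
theorem isBC_of_iso (eF : F.restrict i ≅ F₀.restrict i₀) (eG : G.restrict j ≅ G₀.restrict j₀)
    (hcomp : ∀ x : Γ(F, i ''ᵁ (⊤ : (Spec R).Opens)),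
      (show Γ(G₀, j₀ ''ᵁ (⊤ : (Spec R').Opens)) from
        eG.hom.app ⊤ (show Γ(G.restrict j, ⊤) from vmap f θ i j comm F G φ x)) =
        vmap f₀ θ i₀ j₀ comm₀ F₀ G₀ φ₀
          (show Γ(F₀, i₀ ''ᵁ (⊤ : (Spec R).Opens)) from
            eF.hom.app ⊤ (show Γ(F.restrict i, ⊤) from x)))
    (h₀ : IsBC f₀ θ i₀ j₀ comm₀ F₀ G₀ φ₀) : IsBC f θ i j comm F G φ := by
  intro Q w hw
  have hFhi : ∀ x : Γ(F, i ''ᵁ (⊤ : (Spec R).Opens)),
      ((moduleSpecΓFunctor (R := R)).map eF.inv).hom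
        (((moduleSpecΓFunctor (R := R)).map eF.hom).hom x) = x :=
    fun x => congrArg (fun t => t.hom x) ((moduleSpecΓFunctor (R := R)).mapIso eF).hom_inv_id
  have hFih : ∀ x : Γ(F₀, i₀ ''ᵁ (⊤ : (Spec R).Opens)),
      ((moduleSpecΓFunctor (R := R)).map eF.hom).hom
        (((moduleSpecΓFunctor (R := R)).map eF.inv).hom x) = x :=
    fun x => congrArg (fun t => t.hom x) ((moduleSpecΓFunctor (R := R)).mapIso eF).inv_hom_id
  have hGhi : ∀ x : Γ(G, j ''ᵁ (⊤ : (Spec R').Opens)),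
      ((moduleSpecΓFunctor (R := R')).map eG.inv).hom
        (((moduleSpecΓFunctor (R := R')).map eG.hom).hom x) = x :=
    fun x => congrArg (fun t => t.hom x) ((moduleSpecΓFunctor (R := R')).mapIso eG).hom_inv_id
  have hcomp' : ∀ x : Γ(F, i ''ᵁ (⊤ : (Spec R).Opens)),
      ((moduleSpecΓFunctor (R := R')).map eG.hom).hom (vmap f θ i j comm F G φ x) =
        vmap f₀ θ i₀ j₀ comm₀ F₀ G₀ φ₀ (((moduleSpecΓFunctor (R := R)).map eF.hom).hom x) :=
    fun x => hcomp x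
  let w₀ : Γ(F₀, i₀ ''ᵁ (⊤ : (Spec R).Opens)) →+ Q :=
    { toFun := fun x => w (((moduleSpecΓFunctor (R := R)).map eF.inv).hom x)
      map_zero' :=
        (congrArg w (map_zero ((moduleSpecΓFunctor (R := R)).map eF.inv).hom)).trans (map_zero w)
      map_add' := fun a b =>
        (congrArg w (map_add ((moduleSpecΓFunctor (R := R)).map eF.inv).hom a b)).trans
          (map_add w _ _) }
  have hsemi₀ : ∀ (r : R) (x : Γ(F₀.restrict i₀, ⊤)), w₀ (r • x) = θ.hom r • w₀ x := by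
    intro r x
    exact (congrArg w (((moduleSpecΓFunctor (R := R)).map eF.inv).hom.map_smul r x)).trans
      (hw r _)
  obtain ⟨b₀, hb₀, hu₀⟩ := h₀ Q w₀ hsemi₀
  refine ⟨(moduleSpecΓFunctor (R := R')).map eG.hom ≫ b₀, ?_, ?_⟩
  · intro x
    have h1 : b₀.hom (((moduleSpecΓFunctor (R := R')).map eG.hom).hom (vmap f θ i j comm F G φ x)) =
        b₀.hom (vmap f₀ θ i₀ j₀ comm₀ F₀ G₀ φ₀
          (((moduleSpecΓFunctor (R := R)).map eF.hom).hom x)) :=
      congrArg b₀.hom (hcomp' x)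
    have h2 := hb₀ (((moduleSpecΓFunctor (R := R)).map eF.hom).hom x)
    exact h1.trans (h2.trans (congrArg w (hFhi x)))
  · intro b' hb'
    have hb₀' : (moduleSpecΓFunctor (R := R')).map eG.inv ≫ b' = b₀ := by
      apply hu₀
      intro x₀
      have e1 : vmap f₀ θ i₀ j₀ comm₀ F₀ G₀ φ₀ x₀ =
          ((moduleSpecΓFunctor (R := R')).map eG.hom).hom
            (vmap f θ i j comm F G φ (((moduleSpecΓFunctor (R := R)).map eF.inv).hom x₀)) :=
        (congrArg (fun t => vmap f₀ θ i₀ j₀ comm₀ F₀ G₀ φ₀ t) (hFih x₀)).symm.trans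
          (hcomp' (((moduleSpecΓFunctor (R := R)).map eF.inv).hom x₀)).symm
      have e2 : ((moduleSpecΓFunctor (R := R')).map eG.inv).hom
            (vmap f₀ θ i₀ j₀ comm₀ F₀ G₀ φ₀ x₀) =
          vmap f θ i j comm F G φ (((moduleSpecΓFunctor (R := R)).map eF.inv).hom x₀) :=
        (congrArg ((moduleSpecΓFunctor (R := R')).map eG.inv).hom e1).trans (hGhi _)
      exact (congrArg b'.hom e2).trans (hb' _)
    rw [← hb₀', ← Category.assoc, ← Functor.map_comp, eG.hom_inv_id, CategoryTheory.Functor.map_id,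
      Category.id_comp]

end Groth.Agent.Helper1.BCTrans
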