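import Mathlib
import Groth.Agent.Lib.Helper4.FibDimBC2
import Groth.Agent.Lib.Helper1.PtDeg2

/-!
# Base change of a scheme over a field along a field extension: geometry (helper1)
-/

set_option autoImplicit false
universe u
open CategoryTheory CategoryTheory.Limits AlgebraicGeometry TopologicalSpace Opposite

namespace Groth.Agent.Helper1.BCurve

section BC

variable {k : Type u} [Field k] {X : Scheme.{u}} [X.Over (Spec (CommRingCat.of k))]
  {K : Type u} [Field K] [Algebra k K] {XK : Scheme.{u}} [XK.Over (Spec (CommRingCat.of K))]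
  {g : XK ⟶ X}
  (hpb : IsPullback g (XK ↘ Spec (CommRingCat.of K)) (X ↘ Spec (CommRingCat.of k))
    (Spec.map (CommRingCat.ofHom (algebraMap k K))))

include hpb in
theorem isProper_bc [IsProper (X ↘ Spec (CommRingCat.of k))] :
    IsProper (XK ↘ Spec (CommRingCat.of K)) :=
  MorphismProperty.of_isPullback hpb inferInstance

include hpb in
theorem smooth_bc [Smooth (X ↘ Spec (CommRingCat.of k))] :
    Smooth (XK ↘ Spec (CommRingCat.of K)) :=
  MorphismProperty.of_isPullback hpb inferInstance

include hpb in
theorem isIntegral_bc [GeometricallyIntegral (X ↘ Spec (CommRingCat.of k))] : IsIntegral XK := by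
  haveI : GeometricallyIntegral (XK ↘ Spec (CommRingCat.of K)) :=
    MorphismProperty.of_isPullback hpb inferInstance
  haveI : Subsingleton (Spec (CommRingCat.of K)) :=
    inferInstanceAs (Subsingleton (PrimeSpectrum K))
  exact GeometricallyIntegral.isIntegral_of_subsingleton (XK ↘ Spec (CommRingCat.of K))

include hpb in
theorem isAffineHom_bc : IsAffineHom g := by
  haveI : IsAffineHom (Spec.map (CommRingCat.ofHom (algebraMap k K))) := inferInstance
  exact MorphismProperty.of_isPullback hpb.flip inferInstance

include hpb in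
theorem isOpenMap_bc : IsOpenMap g := by
  haveI : Subsingleton (Spec (CommRingCat.of k)) :=
    inferInstanceAs (Subsingleton (PrimeSpectrum k))
  haveI : UniversallyOpen (Spec.map (CommRingCat.ofHom (algebraMap k K))) := inferInstance
  haveI : UniversallyOpen g := MorphismProperty.of_isPullback hpb.flip inferInstance
  exact g.isOpenMap

include hpb in
theorem surjective_bc : Function.Surjective g := by
  haveI : Subsingleton (Spec (CommRingCat.of k)) :=
    inferInstanceAs (Subsingleton (PrimeSpectrum k))
  haveI : Nonempty (Spec (CommRingCat.of K)) :=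
    inferInstanceAs (Nonempty (PrimeSpectrum K))
  haveI : Surjective (Spec.map (CommRingCat.ofHom (algebraMap k K))) :=
    ⟨Function.surjective_to_subsingleton _⟩
  haveI : Surjective g := MorphismProperty.of_isPullback hpb.flip inferInstance
  exact g.surjective

include hpb in
theorem dim_bc [IsIntegral X] [IsIntegral XK]
    [LocallyOfFiniteType (X ↘ Spec (CommRingCat.of k))] :
    topologicalKrullDim XK = topologicalKrullDim X := by
  haveI : LocallyOfFiniteType (XK ↘ Spec (CommRingCat.of K)) :=
    MorphismProperty.of_isPullback hpb inferInstance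
  rw [Groth.Agent.Lib.Helper4.FlatDimK1.dim_of_irreducible K (XK ↘ Spec (CommRingCat.of K)),
    Groth.Agent.Lib.Helper4.FlatDimK1.dim_of_irreducible k (X ↘ Spec (CommRingCat.of k))]
  have hmax : ∀ z'' : XK, (XK ↘ Spec (CommRingCat.of K)) z'' =
      (XK ↘ Spec (CommRingCat.of K)) (genericPoint XK) → z'' ⤳ genericPoint XK →
      z'' = genericPoint XK := by
    intro z'' _ hsp
    exact (hsp.antisymm (genericPoint_specializes z'')).eq
  obtain ⟨h1, h2⟩ := Groth.Agent.Lib.Helper4.FibDimBC2.tr_eq_of_max_abs
    (X ↘ Spec (CommRingCat.of k)) (Spec.map (CommRingCat.ofHom (algebraMap k K))) g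
    (XK ↘ Spec (CommRingCat.of K)) hpb (genericPoint XK) hmax
  have h3 : genericPoint X = g (genericPoint XK) := by
    apply h2
    · exact Subsingleton.elim (α := PrimeSpectrum k) _ _
    · exact genericPoint_specializes _
  rw [h1, ← h3]

end BC

section Sec

variable {k : Type u} [Field k] {X : Scheme.{u}} [X.Over (Spec (CommRingCat.of k))]
  {K : Type u} [Field K] [Algebra k K] {XK : Scheme.{u}} [XK.Over (Spec (CommRingCat.of K))]
  {g : XK ⟶ X}
  (hpb : IsPullback g (XK ↘ Spec (CommRingCat.of K)) (X ↘ Spec (CommRingCat.of k))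
    (Spec.map (CommRingCat.ofHom (algebraMap k K))))
  (s : Spec (CommRingCat.of k) ⟶ X) (hs : s ≫ (X ↘ Spec (CommRingCat.of k)) = 𝟙 _)

/-- the base change of a rational point -/
noncomputable def secK : Spec (CommRingCat.of K) ⟶ XK :=
  hpb.lift (Spec.map (CommRingCat.ofHom (algebraMap k K)) ≫ s) (𝟙 _)
    (by rw [Category.assoc, hs, Category.comp_id, Category.id_comp])

theorem secK_g : secK hpb s hs ≫ g = Spec.map (CommRingCat.ofHom (algebraMap k K)) ≫ s :=
  hpb.lift_fst _ _ _

theorem secK_over : secK hpb s hs ≫ (XK ↘ Spec (CommRingCat.of K)) = 𝟙 _ :=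
  hpb.lift_snd _ _ _

theorem isPullback_secK :
    IsPullback (secK hpb s hs) (Spec.map (CommRingCat.ofHom (algebraMap k K))) g s := by
  apply IsPullback.of_right _ (secK_g hpb s hs) hpb.flip
  rw [secK_over, hs]
  exact IsPullback.id_horiz _

theorem g_secK (ptK : Spec (CommRingCat.of K)) (pt : Spec (CommRingCat.of k)) :
    g (secK hpb s hs ptK) = s pt := by
  rw [← Scheme.Hom.comp_apply, secK_g, Scheme.Hom.comp_apply]
  congr 1
  exact Subsingleton.elim (α := PrimeSpectrum k) _ _

/-- the fibre of `g` over a rational point is the base-changed rational point -/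
theorem eq_secK_of_g_eq (ptK : Spec (CommRingCat.of K)) (pt : Spec (CommRingCat.of k)) (x : XK)
    (hx : g x = s pt) : x = secK hpb s hs ptK := by
  have H := isPullback_secK hpb s hs
  have h1 : x ∈ g ⁻¹' Set.range s := ⟨pt, hx.symm⟩
  rw [← Scheme.Pullback.range_fst g s] at h1
  obtain ⟨y, hy⟩ := h1
  obtain ⟨z, hz⟩ : ∃ z, H.isoPullback.hom z = y :=
    ⟨H.isoPullback.inv y, by
      rw [← Scheme.Hom.comp_apply, Iso.inv_hom_id]; rfl⟩
  have h2 : secK hpb s hs z = x := by
    rw [← hy, ← hz, ← Scheme.Hom.comp_apply, H.isoPullback_hom_fst]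
  rw [← h2]
  congr 1
  exact Subsingleton.elim (α := PrimeSpectrum K) _ _

end Sec

end Groth.Agent.Helper1.BCurve
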