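import Mathlib
import Groth.Agent.Lib.Helper1.IdealMul1
import Groth.Agent.Lib.Helper1.CurveDual2
import Groth.Agent.Lib.Helper1.CurveDual4
import Groth.Agent.Lib.Helper1.PullGen2
import Groth.Agent.Lib.Helper1.LGenLoc
import Groth.Agent.Lib.Helper1.ThickLift2
import Groth.Agent.Lib.Lead.PbI
import Groth.Agent.Lib.Helper1.BCurve1

/-!
# The pullback of the ideal sheaf of a rational point along a field extension (helper1)
-/

set_option autoImplicit false
universe u
open CategoryTheory CategoryTheory.Limits AlgebraicGeometry TopologicalSpace Opposite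

namespace Groth.Agent.Helper1.BCurve

open Groth.Agent.Lead.IdM Groth.Agent.Helper1.QcCech Groth.Agent.Helper1.LGen
open Groth.Agent.Helper1.CocycleIso Groth.Agent.Helper1 Groth.Agent.Helper1.IdealMul
open Groth.Agent.Helper1.PullSec Groth.Agent.Helper1.PullGen Groth.Agent.Helper1.LGenLoc
open Groth.Agent.Helper1.CurveDual Groth.Agent.Helper1.PtDeg

section Ideal

variable {Y : Scheme.{u}} (I : Y.IdealSheafData)

/-- a section of an invertible ideal sheaf whose image generates the ideal on an affine open is a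
free generator -/
theorem isGen_of_ideal_eq_span (hI : PicF.IsInvertible (ClSub.idealMod I)) (W : Y.affineOpens)
    (b : Γ(ClSub.idealMod I, W.1)) (hb : I.ideal W = Ideal.span {ιL I W.1 b}) :
    IsGen (ClSub.idealMod I) W.1 b := by
  apply isGen_of_locally
  intro x hxW
  obtain ⟨W₁, c₁, hxW₁, hc₁⟩ := exists_isGen hI x
  obtain ⟨f, hfle, hxf⟩ := W.2.exists_basicOpen_le ⟨x, hxW₁⟩ hxW
  have hDW : Y.basicOpen f ≤ W.1 := Y.basicOpen_le f
  refine ⟨Y.basicOpen f, hDW, hxf, ?_⟩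
  have hc : IsGen (ClSub.idealMod I) (Y.basicOpen f) (res _ hfle c₁) := hc₁.res hfle
  have h1 : I.ideal (Y.affineBasicOpen f) =
      Ideal.span {ιL I (Y.basicOpen f) (res _ hfle c₁)} :=
    ideal_eq_span_of_isGen I (Y.affineBasicOpen f) hc
  have h2 : I.ideal (Y.affineBasicOpen f) =
      Ideal.span {ιL I (Y.basicOpen f) (res _ hDW b)} := by
    rw [← I.map_ideal_basicOpen W f, hb, Ideal.map_span, Set.image_singleton, ιL_res' I hDW b]
    rfl
  have hβmem : ιL I (Y.basicOpen f) (res _ hDW b) ∈ I.ideal (Y.affineBasicOpen f) := by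
    rw [h2]; exact Ideal.subset_span (Set.mem_singleton _)
  have hcmem : ιL I (Y.basicOpen f) (res _ hfle c₁) ∈ I.ideal (Y.affineBasicOpen f) := by
    rw [h1]; exact Ideal.subset_span (Set.mem_singleton _)
  rw [h1] at hβmem
  rw [h2] at hcmem
  obtain ⟨u, hu⟩ := Ideal.mem_span_singleton'.1 hβmem
  obtain ⟨v, hv⟩ := Ideal.mem_span_singleton'.1 hcmem
  have hβ : res _ hDW b = u • res _ hfle c₁ := by
    apply ιL_injective I
    rw [map_smul, smul_eq_mul]
    exact hu.symm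
  have hvu : v * u = 1 := by
    apply ThickLift.IsGen.smul_injective hc
    apply ιL_injective I
    rw [map_smul, map_smul, smul_eq_mul, smul_eq_mul, mul_assoc, hu, hv, one_mul]
  rw [hβ]
  exact TwForm.IsGen.smul_unit hc ⟨u, v, by rw [mul_comm]; exact hvu, hvu⟩

/-- away from the support every function lifts to the ideal sheaf -/
theorem exists_ιL_eq (U : Y.Opens) (hU : ∀ x ∈ U, x ∉ (I.support : Set Y)) (r : Γ(Y, U)) :
    ∃ y : Γ(ClSub.idealMod I, U), ιL I U y = r := by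
  have hbot : I.subschemeι ⁻¹ᵁ U = ⊥ := by
    ext z
    simp only [Opens.coe_bot, Set.mem_empty_iff_false, iff_false]
    intro hz
    have h1 : I.subschemeι z ∈ (I.support : Set Y) := by
      rw [← Scheme.IdealSheafData.range_subschemeι]
      exact ⟨z, rfl⟩
    exact hU _ hz h1
  haveI : Subsingleton Γ(I.subscheme, I.subschemeι ⁻¹ᵁ U) := by
    rw [hbot]
    infer_instance
  exact IdealModL.exists_of_app_eq_zero I U r (Subsingleton.elim _ _)

/-- away from the support a section of the ideal sheaf mapping to a unit is a free generator -/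
theorem isGen_of_isUnit_ιL (U : Y.Opens) (hU : ∀ x ∈ U, x ∉ (I.support : Set Y))
    (y : Γ(ClSub.idealMod I, U)) (hy : IsUnit (ιL I U y)) : IsGen (ClSub.idealMod I) U y := by
  obtain ⟨e, he⟩ := exists_isGen_idealMod I U hU
  obtain ⟨c, hc⟩ := he.exists_coeff y
  have h1 : c * ιL I U e = ιL I U y := by rw [← hc, map_smul, smul_eq_mul]
  have hcu : IsUnit c := by
    rw [← h1] at hy
    exact isUnit_of_mul_isUnit_left hy
  rw [← hc]
  exact TwForm.IsGen.smul_unit he hcu.unit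

theorem compat_aux {A : Y.Modules} (α : A ⟶ Coh.structureModule Y) {W₁ W₂ : Y.Opens}
    {a₁ : Γ(A, W₁)} {b₁ : Γ(ClSub.idealMod I, W₁)} {a₂ : Γ(A, W₂)}
    {b₂ : Γ(ClSub.idealMod I, W₂)}
    (e₁ : ιL I W₁ b₁ = α.app W₁ a₁) (e₂ : ιL I W₂ b₂ = α.app W₂ a₂) (v : Γ(Y, W₁ ⊓ W₂))
    (hv : res A inf_le_left a₁ = v • res A inf_le_right a₂) :
    res (ClSub.idealMod I) inf_le_left b₁ = v • res (ClSub.idealMod I) inf_le_right b₂ := by
  apply ιL_injective I
  have hα := congrArg (α.app _) hv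
  rw [QcExt.app_res, Scheme.Modules.Hom.app_smul, QcExt.app_res] at hα
  rw [map_smul, ιL_res', ιL_res', smul_eq_mul, e₁, e₂]
  exact hα

/-- a module with a map to `O` matching local generators with local generators of an ideal
sheaf is isomorphic to the ideal sheaf -/
theorem nonempty_iso_idealMod {A : Y.Modules} (α : A ⟶ Coh.structureModule Y)
    (h : ∀ x : Y, ∃ (W : Y.Opens) (a : Γ(A, W)) (b : Γ(ClSub.idealMod I, W)), x ∈ W ∧
      IsGen A W a ∧ IsGen (ClSub.idealMod I) W b ∧ ιL I W b = α.app W a) :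
    Nonempty (A ≅ ClSub.idealMod I) := by
  let F : GenFam A (ClSub.idealMod I) :=
    { ι := {t : Σ W : Y.Opens, Γ(A, W) × Γ(ClSub.idealMod I, W) //
        IsGen A t.1 t.2.1 ∧ IsGen (ClSub.idealMod I) t.1 t.2.2 ∧
          ιL I t.1 t.2.2 = α.app t.1 t.2.1}
      W := fun t => t.1.1
      a := fun t => t.1.2.1
      b := fun t => t.1.2.2
      ha := fun t => t.2.1
      hb := fun t => t.2.2.1
      cov := fun x => by
        obtain ⟨W, a, b, hx, ha, hb, hab⟩ := h x
        exact ⟨⟨⟨W, (a, b)⟩, ha, hb, hab⟩, hx⟩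
      compat := fun i j v hv => compat_aux I α i.2.2.2 j.2.2.2 v hv }
  exact ⟨F.iso⟩

end Ideal

section Pull

variable {X XK : Scheme.{u}} (g : XK ⟶ X)

/-- the comparison map `g^* I ⟶ O` -/
noncomputable def pullι (I : X.IdealSheafData) :
    (Scheme.Modules.pullback g).obj (ClSub.idealMod I) ⟶ Coh.structureModule XK :=
  (Scheme.Modules.pullback g).map (ClSub.idealModι I) ≫ (unitIso g).hom

theorem pullι_σ (I : X.IdealSheafData) (W : X.Opens) (m : Γ(ClSub.idealMod I, W)) :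
    (pullι g I).app (g ⁻¹ᵁ W) (σ g _ W m) = (g.app W).hom (ιL I W m) := by
  unfold pullι
  change (unitIso g).hom.app _
    (((Scheme.Modules.pullback g).map (ClSub.idealModι I)).app _ (σ g _ W m)) = _
  rw [σ_natural]
  exact unitIso_σ g W _

variable [IsAffineHom g]

/-- **the pullback of the ideal sheaf of a closed point is the ideal sheaf of the point above** -/
theorem nonempty_pullback_ptIdeal_iso (p : X) (hp : IsClosed ({p} : Set X)) (q : XK)
    (hq : IsClosed ({q} : Set XK)) (hgq : g q = p)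
    (hIp : PicF.IsInvertible (ClSub.idealMod (ptIdeal p hp)))
    (hIq : PicF.IsInvertible (ClSub.idealMod (ptIdeal q hq)))
    (hext : ∀ (U : X.affineOpens), p ∈ U.1 →
      (ptIdeal q hq).ideal ⟨g ⁻¹ᵁ U.1, U.2.preimage g⟩ =
        Ideal.map (g.app U.1).hom ((ptIdeal p hp).ideal U)) :
    Nonempty ((Scheme.Modules.pullback g).obj (ClSub.idealMod (ptIdeal p hp)) ≅
      ClSub.idealMod (ptIdeal q hq)) := by
  apply nonempty_iso_idealMod (ptIdeal q hq) (pullι g (ptIdeal p hp))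
  intro x
  by_cases hx : g x = p
  · obtain ⟨U₀, t₀, hpU₀, ht₀⟩ := exists_isGen hIp p
    obtain ⟨U₁, hU₁, hpU₁, hU₁₀⟩ : ∃ U₁ : X.Opens, IsAffineOpen U₁ ∧ p ∈ U₁ ∧ U₁ ≤ U₀ := by
      obtain ⟨_, ⟨U₁, hU₁, rfl⟩, hpU₁, hle⟩ :=
        (X.isBasis_affineOpens).exists_subset_of_mem_open hpU₀ U₀.isOpen
      exact ⟨U₁, hU₁, hpU₁, hle⟩
    have ht₁ : IsGen _ U₁ (res _ hU₁₀ t₀) := ht₀.res hU₁₀
    have hspan : (ptIdeal p hp).ideal ⟨U₁, hU₁⟩ = Ideal.span {ιL _ U₁ (res _ hU₁₀ t₀)} :=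
      ideal_eq_span_of_isGen _ ⟨U₁, hU₁⟩ ht₁
    have hK := hext ⟨U₁, hU₁⟩ hpU₁
    rw [hspan, Ideal.map_span, Set.image_singleton] at hK
    have hmem : (g.app U₁).hom (ιL _ U₁ (res _ hU₁₀ t₀)) ∈
        (ptIdeal q hq).ideal ⟨g ⁻¹ᵁ U₁, hU₁.preimage g⟩ := by
      rw [hK]
      exact Ideal.subset_span (Set.mem_singleton _)
    rw [← range_ιL] at hmem
    obtain ⟨b₀, hb₀⟩ := hmem
    refine ⟨g ⁻¹ᵁ U₁, σ g _ U₁ (res _ hU₁₀ t₀), b₀, ?_, isGen_σ g ht₁, ?_, ?_⟩
    · change g x ∈ U₁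
      rw [hx]
      exact hpU₁
    · apply isGen_of_ideal_eq_span _ hIq ⟨g ⁻¹ᵁ U₁, hU₁.preimage g⟩ b₀
      rw [hK, hb₀]
    · rw [pullι_σ]
      exact hb₀
  · let Uc : X.Opens := ⟨{p}ᶜ, hp.isOpen_compl⟩
    have hUc : ∀ y ∈ Uc, y ∉ ((ptIdeal p hp).support : Set X) := by
      intro y hy
      rw [ptIdeal_support]
      exact hy
    obtain ⟨e₁, he₁⟩ := exists_ιL_eq (ptIdeal p hp) Uc hUc 1
    have hge₁ := isGen_of_isUnit_ιL (ptIdeal p hp) Uc hUc e₁ (by rw [he₁]; exact isUnit_one)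
    have hWc : ∀ y ∈ g ⁻¹ᵁ Uc, y ∉ ((ptIdeal q hq).support : Set XK) := by
      intro y hy
      rw [ptIdeal_support]
      intro hyq
      have hyq' : y = q := hyq
      apply hy
      rw [hyq', hgq]
      rfl
    obtain ⟨b₁, hb₁⟩ := exists_ιL_eq (ptIdeal q hq) (g ⁻¹ᵁ Uc) hWc 1
    have hgb₁ := isGen_of_isUnit_ιL (ptIdeal q hq) _ hWc b₁ (by rw [hb₁]; exact isUnit_one)
    refine ⟨g ⁻¹ᵁ Uc, σ g _ Uc e₁, b₁, hx, isGen_σ g hge₁, hgb₁, ?_⟩
    rw [pullι_σ, he₁, hb₁, map_one]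

end Pull

section Rat

variable {k : Type u} [Field k] {X : Scheme.{u}} [X.Over (Spec (CommRingCat.of k))]
  {K : Type u} [Field K] [Algebra k K] {XK : Scheme.{u}} [XK.Over (Spec (CommRingCat.of K))]
  {g : XK ⟶ X}
  (hpb : IsPullback g (XK ↘ Spec (CommRingCat.of K)) (X ↘ Spec (CommRingCat.of k))
    (Spec.map (CommRingCat.ofHom (algebraMap k K))))
  (s : Spec (CommRingCat.of k) ⟶ X) (hs : s ≫ (X ↘ Spec (CommRingCat.of k)) = 𝟙 _)

/-- the ideal of the base-changed rational point is the extension of the ideal of the point -/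
theorem ideal_ext [IsAffineHom g] (pt : Spec (CommRingCat.of k)) (ptK : Spec (CommRingCat.of K))
    (hcl : IsClosed ({s pt} : Set X)) (hclK : IsClosed ({secK hpb s hs ptK} : Set XK))
    (U : X.affineOpens) :
    (ptIdeal (secK hpb s hs ptK) hclK).ideal ⟨g ⁻¹ᵁ U.1, U.2.preimage g⟩ =
      Ideal.map (g.app U.1).hom ((ptIdeal (s pt) hcl).ideal U) := by
  haveI := isClosedImmersion_of_section k s hs
  haveI := isClosedImmersion_of_section K (secK hpb s hs) (secK_over hpb s hs)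
  rw [← ker_eq_ptIdeal k s pt hcl, ← ker_eq_ptIdeal K (secK hpb s hs) ptK hclK,
    Scheme.Hom.ker_apply, Scheme.Hom.ker_apply]
  have hsur : Function.Surjective (s.appLE U.1 (s ⁻¹ᵁ U.1) le_rfl).hom := by
    rw [Scheme.Hom.appLE_eq_app]
    exact s.app_surjective U.1 U.2
  have h := Groth.Agent.Lead.PbI.ker_appLE_eq_map (secK hpb s hs) s g
    (Spec.map (CommRingCat.ofHom (algebraMap k K))) (isPullback_secK hpb s hs) U.2
    (U.2.preimage g) (U.2.preimage s) le_rfl hsur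
  rw [Scheme.Hom.appLE_eq_app, Scheme.Hom.appLE_eq_app, Scheme.Hom.appLE_eq_app] at h
  exact h

end Rat

end Groth.Agent.Helper1.BCurve
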