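import Mathlib
import Groth.Agent.Lib.Helper1.GenusOne1
import Groth.Agent.Lib.Helper1.PtDeg6
import Groth.Agent.Lib.Helper1.PtInv2

/-!
# Removing rational points from invertible modules on a curve over an arbitrary field (helper1)
-/

set_option autoImplicit false
universe u
open CategoryTheory CategoryTheory.Limits AlgebraicGeometry TopologicalSpace Opposite

namespace Groth.Agent.Helper1.BCurve

open Groth.Agent.Helper1.QcCech Groth.Agent.Helper1.SubSh Groth.Agent.Helper1.LGen
open Groth.Agent.Helper1.TmulLib Groth.Agent.Helper1 Groth.Agent.Helper1.TwForm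
open Groth.Agent.Helper1.TensGen Groth.Agent.Lib.Helper4.TwExact Groth.Agent.Helper1.Dv
open Groth.Agent.Lib.Helper4 Groth.Agent.Helper1.CurveAmp Groth.Agent.Helper1.FinSupp
open Groth.Agent.Helper1.Euler Groth.Agent.Helper1.Curve Groth.Agent.Helper1.CurveLin
open Groth.Agent.Helper1.CurveDual Groth.Agent.Helper1.CurvePt Groth.Agent.Helper1.PtInv

attribute [local instance] Curv2.resAlgebra

section Num

variable (k : Type u) [Field k] (X : Scheme.{u}) [X.Over (Spec (CommRingCat.of k))]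
  [IsProper (X ↘ (Spec (CommRingCat.of k)))]

/-- if some global section generates at `P` then `h⁰(I_P ⊗ L) < h⁰(O ⊗ L)` (any base field) -/
theorem finrank_lt_of_genAt (L : X.Modules) (hL : PicF.IsInvertible L)
    (x₀ : X) (hx₀ : IsClosed ({x₀} : Set X)) (hgen : ∃ σ : Γ(L, ⊤), GenAt L σ x₀) :
    Module.finrank k (Coh.HH X (CohB1.tensorMod (ClSub.idealMod (ptIdeal x₀ hx₀)) L) 0) <
      Module.finrank k (Coh.HH X (CohB1.tensorMod (Coh.structureModule X) L) 0) := by
  haveI := isNoetherian_of_proper k X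
  haveI : IsLocallyNoetherian X := (isNoetherian_of_proper k X).toIsLocallyNoetherian
  have hOc : Coh.IsCoh (Coh.structureModule X) :=
    InvQc.isCoh_of_isInvertible _ GenLoc.isInvertible_O
  have hLc : Coh.IsCoh L := InvQc.isCoh_of_isInvertible _ hL
  have hIc : Coh.IsCoh (ClSub.idealMod (ptIdeal x₀ hx₀)) := isCoh_idealMod _
  have hQc : Coh.IsCoh (ClSub.quotMod (ptIdeal x₀ hx₀)) := isCoh_quotMod _
  have hMc : Coh.IsCoh (CohB1.tensorMod (ClSub.idealMod (ptIdeal x₀ hx₀)) L) :=
    isCoh_tensor _ _ hIc hLc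
  have hOLc : Coh.IsCoh (CohB1.tensorMod (Coh.structureModule X) L) := isCoh_tensor _ _ hOc hLc
  have hQLc : Coh.IsCoh (CohB1.tensorMod (ClSub.quotMod (ptIdeal x₀ hx₀)) L) :=
    isCoh_tensor _ _ hQc hLc
  have hSE := shortExact_map (locGen_of_isInvertible L hL) (shortExact_S (ptIdeal x₀ hx₀))
  obtain ⟨e'⟩ := TwistAmpleOpen.nonempty_tensorMod_unit_iso L
  haveI : Module.Finite k (Coh.HH X ((IdealModL.S (ptIdeal x₀ hx₀)).map (TL L)).X₁ 0) :=
    T2Main1.t2 k X _ hMc 0
  haveI : Module.Finite k (Coh.HH X ((IdealModL.S (ptIdeal x₀ hx₀)).map (TL L)).X₂ 0) :=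
    T2Main1.t2 k X _ hOLc 0
  haveI : Module.Finite k (Coh.HH X ((IdealModL.S (ptIdeal x₀ hx₀)).map (TL L)).X₃ 0) :=
    T2Main1.t2 k X _ hQLc 0
  set f₀ := Canon.HHlin k ((IdealModL.S (ptIdeal x₀ hx₀)).map (TL L)).f 0 with hf₀
  set g₀ := Canon.HHlin k ((IdealModL.S (ptIdeal x₀ hx₀)).map (TL L)).g 0 with hg₀
  have hinj : Function.Injective f₀ := HHFin3.HHlin_f_zero_injective k hSE
  have hker : LinearMap.ker g₀ = LinearMap.range f₀ := by
    ext s
    constructor
    · intro hs
      obtain ⟨y, hy⟩ := HHFin2.exact_f_g k hSE 0 s hs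
      exact ⟨y, hy⟩
    · rintro ⟨y, rfl⟩
      exact HHFin2.g_f k 0 y
  have hrn := LinearMap.finrank_range_add_finrank_ker g₀
  rw [hker, LinearMap.finrank_range_of_inj hinj] at hrn
  have hge : 1 ≤ Module.finrank k (LinearMap.range g₀) := by
    obtain ⟨σ, hσ⟩ := hgen
    have hgen' : GenAt (CohB1.tensorMod (Coh.structureModule X) L) (e'.inv.app ⊤ σ) x₀ :=
      genAt_of_iso e'.symm σ x₀ hσ
    have hne := image_ne_zero_of_genAt hL x₀ hx₀ _ hgen'
    have hg : g₀ ((HH0.equiv X (CohB1.tensorMod (Coh.structureModule X) L)).symm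
        (e'.inv.app ⊤ σ)) ≠ 0 := by
      intro h
      apply hne
      have h2 := equiv_HHlin k ((IdealModL.S (ptIdeal x₀ hx₀)).map (TL L)).g
        ((HH0.equiv X (CohB1.tensorMod (Coh.structureModule X) L)).symm (e'.inv.app ⊤ σ))
      have h3 : HH0.equiv X (CohB1.tensorMod (Coh.structureModule X) L)
          ((HH0.equiv X (CohB1.tensorMod (Coh.structureModule X) L)).symm (e'.inv.app ⊤ σ)) =
          e'.inv.app ⊤ σ := (HH0.equiv X _).apply_symm_apply _
      refine (congrArg (fun t => ((TL L).map (ClSub.toSubscheme (ptIdeal x₀ hx₀))).app ⊤ t)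
        h3).symm.trans (h2.symm.trans ?_)
      exact (congrArg (fun t => HH0.equiv X
        (CohB1.tensorMod (ClSub.quotMod (ptIdeal x₀ hx₀)) L) t) h).trans (map_zero _)
    have hpos : 0 < Module.finrank k (LinearMap.range g₀) := by
      rw [Module.finrank_pos_iff_exists_ne_zero]
      exact ⟨⟨_, LinearMap.mem_range_self g₀ _⟩, fun h => hg (congrArg Subtype.val h)⟩
    exact hpos
  change Module.finrank k (LinearMap.range g₀) +
    Module.finrank k (Coh.HH X (CohB1.tensorMod (ClSub.idealMod (ptIdeal x₀ hx₀)) L) 0) =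
    Module.finrank k (Coh.HH X (CohB1.tensorMod (Coh.structureModule X) L) 0) at hrn
  omega

variable [IsIntegral X]

/-- removing a rational point which is not a base point lowers `deg` and `h⁰` by one -/
theorem remove_point (hdim : topologicalKrullDim X = 1) (M : X.Modules)
    (hM : PicF.IsInvertible M) (q : X) (hq : IsClosed ({q} : Set X))
    (hrat : Module.finrank k (X.residueField q) = 1)
    (hIq : PicF.IsInvertible (ClSub.idealMod (ptIdeal q hq)))
    (hgen : ∃ σ : Γ(M, ⊤), GenAt M σ q) :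
    Curv2.deg k X (CohB1.tensorMod (ClSub.idealMod (ptIdeal q hq)) M) 1 =
        Curv2.deg k X M 1 - 1 ∧
      Module.finrank k (Coh.HH X (CohB1.tensorMod (ClSub.idealMod (ptIdeal q hq)) M) 0) + 1 =
        Module.finrank k (Coh.HH X M 0) := by
  constructor
  · rw [GenusOne.deg_tensor_inv k X hdim hIq hM, PtDeg.deg_ptIdeal' k X q hq, hrat]
    push_cast
    ring
  · obtain ⟨e'⟩ := TwistAmpleOpen.nonempty_tensorMod_unit_iso M
    rw [← LinearEquiv.finrank_eq (HHFin1.HHequiv k e' 0)]
    have h1 := finrank_lt_of_genAt k X M hM q hq hgen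
    have h2 := (PtDeg.finrank_twist_pt_le k X M hM q hq).2
    rw [hrat] at h2
    omega

/-- Riemann–Roch in the form `h⁰ - h¹ = deg + 1 - g` when `h⁰(O) = 1` -/
theorem rr (hdim : topologicalKrullDim X = 1)
    (h0 : Module.finrank k (Coh.HH X (Coh.structureModule X) 0) = 1) (M : X.Modules)
    (hM : PicF.IsInvertible M) :
    (Module.finrank k (Coh.HH X M 0) : ℤ) - Module.finrank k (Coh.HH X M 1) =
      Curv2.deg k X M 1 + 1 - Curv2.genus k X := by
  have hOc : Coh.IsCoh (Coh.structureModule X) :=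
    InvQc.isCoh_of_isInvertible _ GenLoc.isInvertible_O
  have hMc : Coh.IsCoh M := InvQc.isCoh_of_isInvertible _ hM
  have eM := euler_eq_h0_sub_h1 k X hdim.le _ hMc.1
  have eO := euler_eq_h0_sub_h1 k X hdim.le _ hOc.1
  rw [h0] at eO
  unfold Curv2.deg Curv2.genus
  push_cast at eO ⊢
  linarith

/-- `h⁰ = deg + 1 - g` forces `H¹ = 0` -/
theorem subsingleton_H1_of_rr (hdim : topologicalKrullDim X = 1)
    (h0 : Module.finrank k (Coh.HH X (Coh.structureModule X) 0) = 1) (M : X.Modules)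
    (hM : PicF.IsInvertible M)
    (h : (Module.finrank k (Coh.HH X M 0) : ℤ) = Curv2.deg k X M 1 + 1 - Curv2.genus k X) :
    Subsingleton (Coh.HH X M 1) := by
  haveI := isNoetherian_of_proper k X
  have hMc : Coh.IsCoh M := InvQc.isCoh_of_isInvertible _ hM
  have h1 := rr k X hdim h0 M hM
  have h2 : (Module.finrank k (Coh.HH X M 1) : ℤ) = 0 := by linarith
  have h3 : Module.finrank k (Coh.HH X M 1) = 0 := by exact_mod_cast h2
  haveI : Module.Finite k (Coh.HH X M 1) := T2Main1.t2 k X _ hMc 1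
  exact Module.finrank_zero_iff.1 h3

end Num

end Groth.Agent.Helper1.BCurve
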