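import Mathlib
import Groth.Agent.Lib.Helper1.PtInv2

/-!
# A regular closed point on an integral curve over a perfect field (helper1)
-/

set_option autoImplicit false
universe u
open CategoryTheory CategoryTheory.Limits AlgebraicGeometry TopologicalSpace Opposite

namespace Groth.Agent.Helper1.RegPt

open Groth.Agent.Helper1.CurveDual Groth.Agent.Helper1.CurvePt Groth.Agent.Helper1.CurveLin
open Groth.Agent.Helper1.PtInv Groth.Agent.Helper1

section Reg

/-- on an integral curve locally of finite type over a perfect field there is a closed point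
whose ideal sheaf is invertible -/
theorem exists_closedPoint_isInvertible_ptIdeal (k : Type u) [Field k] [PerfectField k]
    (X : Scheme.{u}) [X.Over (Spec (CommRingCat.of k))] [IsIntegral X]
    [LocallyOfFiniteType (X ↘ (Spec (CommRingCat.of k)))] (hdim : topologicalKrullDim X = 1) :
    ∃ (P : X) (hP : IsClosed ({P} : Set X)), PicF.IsInvertible (ClSub.idealMod (ptIdeal P hP)) := by
  haveI : IsLocallyNoetherian X :=
    LocallyOfFiniteType.isLocallyNoetherian (X ↘ (Spec (CommRingCat.of k)))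
  haveI : LocallyOfFinitePresentation (X ↘ (Spec (CommRingCat.of k))) :=
    LocallyOfFinitePresentation.iff_locallyOfFiniteType.2 inferInstance
  have hgen := Scheme.Hom.genericPoint_mem_smoothLocus_of_perfectField
    (X ↘ (Spec (CommRingCat.of k)))
  obtain ⟨P, hPU, hP⟩ := exists_closedPoint_mem k (X ↘ (Spec (CommRingCat.of k)))
    (X ↘ (Spec (CommRingCat.of k))).smoothLocus _ hgen
  refine ⟨P, hP, ?_⟩
  set U := (X ↘ (Spec (CommRingCat.of k))).smoothLocus with hU
  haveI : Smooth (U.ι ≫ (X ↘ (Spec (CommRingCat.of k)))) := by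
    rw [← Scheme.Hom.smoothLocus_eq_top_iff, ← Scheme.Hom.preimage_smoothLocus_eq]
    ext x
    simp only [Scheme.Hom.coe_preimage, Set.mem_preimage, SetLike.mem_coe, Opens.coe_top,
      Set.mem_univ, iff_true]
    exact x.2
  haveI : Nonempty U := ⟨⟨P, hPU⟩⟩
  haveI : IsIntegral (↑U : Scheme.{u}) := inferInstance
  have hdimU : topologicalKrullDim (↑U : Scheme.{u}) ≤ 1 := by
    have h := U.ι.isEmbedding.isInducing.topologicalKrullDim_le
    exact h.trans hdim.le
  haveI hv : ValuationRing ((↑U : Scheme.{u}).presheaf.stalk ⟨P, hPU⟩) :=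
    VB5.valuationRing_stalk_of_smooth k (U.ι ≫ (X ↘ (Spec (CommRingCat.of k)))) hdimU ⟨P, hPU⟩
  haveI : IsDomain ((↑U : Scheme.{u}).presheaf.stalk ⟨P, hPU⟩) := inferInstance
  haveI : IsNoetherianRing ((↑U : Scheme.{u}).presheaf.stalk ⟨P, hPU⟩) := inferInstance
  haveI hpid : IsPrincipalIdealRing ((↑U : Scheme.{u}).presheaf.stalk ⟨P, hPU⟩) :=
    ((tfae_of_isNoetherianRing_of_isLocalRing_of_isDomain
      (R := (↑U : Scheme.{u}).presheaf.stalk ⟨P, hPU⟩)).out 1 0).1 hv
  -- transfer along the stalk isomorphism of the open immersion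
  haveI : IsIso (U.ι.stalkMap ⟨P, hPU⟩) := inferInstance
  let e : X.presheaf.stalk (U.ι ⟨P, hPU⟩) ≃+* (↑U : Scheme.{u}).presheaf.stalk ⟨P, hPU⟩ :=
    (asIso (U.ι.stalkMap ⟨P, hPU⟩)).commRingCatIsoToRingEquiv
  haveI : IsPrincipalIdealRing (X.presheaf.stalk (U.ι ⟨P, hPU⟩)) :=
    IsPrincipalIdealRing.of_surjective e.symm.toRingHom e.symm.surjective
  have hpr : (IsLocalRing.maximalIdeal (X.presheaf.stalk P)).IsPrincipal :=
    IsPrincipalIdealRing.principal (R := X.presheaf.stalk (U.ι ⟨P, hPU⟩)) _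
  haveI : IsDomain (X.presheaf.stalk P) := inferInstance
  exact isInvertible_ptIdeal P hP hpr (maximalIdeal_ne_bot X hdim P hP)

end Reg

end Groth.Agent.Helper1.RegPt
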