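import Mathlib
import Groth.Agent.Lib.Helper1.RegPt1

/-!
# Invertible modules with prescribed cohomology on a possibly singular integral proper curve over
an algebraically closed field (helper1)
-/

set_option autoImplicit false
universe u
open CategoryTheory CategoryTheory.Limits AlgebraicGeometry TopologicalSpace Opposite

namespace Groth.Agent.Helper1.RegPt

open Groth.Agent.Helper1.QcCech Groth.Agent.Helper1.SubSh Groth.Agent.Helper1.LGen
open Groth.Agent.Helper1.TmulLib Groth.Agent.Helper1 Groth.Agent.Helper1.TwForm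
open Groth.Agent.Helper1.TensGen Groth.Agent.Lib.Helper4.TwExact Groth.Agent.Helper1.Dv
open Groth.Agent.Lib.Helper4 Groth.Agent.Helper1.CurveAmp Groth.Agent.Helper1.FinSupp
open Groth.Agent.Helper1.Euler Groth.Agent.Helper1.Curve Groth.Agent.Helper1.CurveLin
open Groth.Agent.Helper1.CurveDual Groth.Agent.Helper1.CurvePt Groth.Agent.Helper1.PtInv

section Dense

/-- on an integral curve locally of finite type over a perfect field every nonempty open contains
a closed point whose ideal sheaf is invertible -/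
theorem exists_closedPoint_mem_isInvertible_ptIdeal (k : Type u) [Field k] [PerfectField k]
    (X : Scheme.{u}) [X.Over (Spec (CommRingCat.of k))] [IsIntegral X]
    [LocallyOfFiniteType (X ↘ (Spec (CommRingCat.of k)))] (hdim : topologicalKrullDim X = 1)
    (V : X.Opens) (hV : genericPoint X ∈ V) :
    ∃ (P : X) (hP : IsClosed ({P} : Set X)), P ∈ V ∧
      PicF.IsInvertible (ClSub.idealMod (ptIdeal P hP)) := by
  haveI : IsLocallyNoetherian X :=
    LocallyOfFiniteType.isLocallyNoetherian (X ↘ (Spec (CommRingCat.of k)))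
  haveI : LocallyOfFinitePresentation (X ↘ (Spec (CommRingCat.of k))) :=
    LocallyOfFinitePresentation.iff_locallyOfFiniteType.2 inferInstance
  have hgen := Scheme.Hom.genericPoint_mem_smoothLocus_of_perfectField
    (X ↘ (Spec (CommRingCat.of k)))
  obtain ⟨P, hPUV, hP⟩ := exists_closedPoint_mem k (X ↘ (Spec (CommRingCat.of k)))
    ((X ↘ (Spec (CommRingCat.of k))).smoothLocus ⊓ V) _ ⟨hgen, hV⟩
  have hPU : P ∈ (X ↘ (Spec (CommRingCat.of k))).smoothLocus := hPUV.1
  refine ⟨P, hP, hPUV.2, ?_⟩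
  set U := (X ↘ (Spec (CommRingCat.of k))).smoothLocus with hU
  haveI : Smooth (U.ι ≫ (X ↘ (Spec (CommRingCat.of k)))) := by
    rw [← Scheme.Hom.smoothLocus_eq_top_iff, ← Scheme.Hom.preimage_smoothLocus_eq]
    ext x
    simp only [Scheme.Hom.coe_preimage, Set.mem_preimage, SetLike.mem_coe, Opens.coe_top,
      Set.mem_univ, iff_true]
    exact x.2
  haveI : Nonempty U := ⟨⟨P, hPU⟩⟩
  haveI : IsIntegral (↑U : Scheme.{u}) := inferInstance
  have hdimU : topologicalKrullDim (↑U : Scheme.{u}) ≤ 1 := by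
    have h := U.ι.isEmbedding.isInducing.topologicalKrullDim_le
    exact h.trans hdim.le
  haveI hv : ValuationRing ((↑U : Scheme.{u}).presheaf.stalk ⟨P, hPU⟩) :=
    VB5.valuationRing_stalk_of_smooth k (U.ι ≫ (X ↘ (Spec (CommRingCat.of k)))) hdimU ⟨P, hPU⟩
  haveI : IsDomain ((↑U : Scheme.{u}).presheaf.stalk ⟨P, hPU⟩) := inferInstance
  haveI : IsNoetherianRing ((↑U : Scheme.{u}).presheaf.stalk ⟨P, hPU⟩) := inferInstance
  haveI hpid : IsPrincipalIdealRing ((↑U : Scheme.{u}).presheaf.stalk ⟨P, hPU⟩) :=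
    ((tfae_of_isNoetherianRing_of_isLocalRing_of_isDomain
      (R := (↑U : Scheme.{u}).presheaf.stalk ⟨P, hPU⟩)).out 1 0).1 hv
  haveI : IsIso (U.ι.stalkMap ⟨P, hPU⟩) := inferInstance
  let e : X.presheaf.stalk (U.ι ⟨P, hPU⟩) ≃+* (↑U : Scheme.{u}).presheaf.stalk ⟨P, hPU⟩ :=
    (asIso (U.ι.stalkMap ⟨P, hPU⟩)).commRingCatIsoToRingEquiv
  haveI : IsPrincipalIdealRing (X.presheaf.stalk (U.ι ⟨P, hPU⟩)) :=
    IsPrincipalIdealRing.of_surjective e.symm.toRingHom e.symm.surjective
  have hpr : (IsLocalRing.maximalIdeal (X.presheaf.stalk P)).IsPrincipal :=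
    IsPrincipalIdealRing.principal (R := X.presheaf.stalk (U.ι ⟨P, hPU⟩)) _
  haveI : IsDomain (X.presheaf.stalk P) := inferInstance
  exact isInvertible_ptIdeal P hP hpr (maximalIdeal_ne_bot X hdim P hP)

end Dense

section Down

variable (k : Type u) [Field k] [IsAlgClosed k] (X : Scheme.{u}) [X.Over (Spec (CommRingCat.of k))]
  [IsIntegral X] [IsProper (X ↘ (Spec (CommRingCat.of k)))]

/-- removing a point which is not a base point (good points dense) -/
theorem down_nonbase' (hdim : topologicalKrullDim X = 1)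
    (M : X.Modules) (hM : PicF.IsInvertible M) (hpos : 0 < Module.finrank k (Coh.HH X M 0)) :
    ∃ M' : X.Modules, PicF.IsInvertible M' ∧ Curv2.deg k X M' 1 = Curv2.deg k X M 1 - 1 ∧
      Module.finrank k (Coh.HH X M' 0) + 1 = Module.finrank k (Coh.HH X M 0) := by
  haveI := isNoetherian_of_proper k X
  have hMc : Coh.IsCoh M := InvQc.isCoh_of_isInvertible _ hM
  haveI : Module.Finite k (Coh.HH X M 0) := T2Main1.t2 k X _ hMc 0
  obtain ⟨x, hx⟩ := (Module.finrank_pos_iff_exists_ne_zero (R := k)).1 hpos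
  have hσ : HH0.equiv X M x ≠ 0 := fun h =>
    hx ((HH0.equiv X M).injective (h.trans (map_zero _).symm))
  obtain ⟨V, hηV, hV⟩ := genAt_genericPoint_of_ne_zero hM _ hσ
  obtain ⟨P, hP, hPV, hI⟩ := exists_closedPoint_mem_isInvertible_ptIdeal k X hdim V hηV
  refine ⟨CohB1.tensorMod (ClSub.idealMod (ptIdeal P hP)) M,
    isInvertible_tensorMod hI hM,
    deg_tensor_ptIdeal k X hdim.le P hP hI M hM, ?_⟩
  obtain ⟨e'⟩ := TwistAmpleOpen.nonempty_tensorMod_unit_iso M
  rw [← LinearEquiv.finrank_eq (HHFin1.HHequiv k e' 0)]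
  exact finrank_add_one_of_genAt k X M hM P hP ⟨_, V, hPV, hV⟩

/-- an invertible module of degree `2g` with `g + 1` sections -/
theorem exists_start' (hdim : topologicalKrullDim X = 1) :
    ∃ N : X.Modules, PicF.IsInvertible N ∧ Curv2.deg k X N 1 = 2 * (Curv2.genus k X : ℤ) ∧
      Module.finrank k (Coh.HH X N 0) = Curv2.genus k X + 1 := by
  haveI := isNoetherian_of_proper k X
  obtain ⟨P, hP, -, hI⟩ := exists_closedPoint_mem_isInvertible_ptIdeal k X hdim ⊤ trivial
  obtain ⟨J, hJ, ⟨e⟩⟩ := InvInv2.exists_inverse hI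
  have hdJ : Curv2.deg k X J 1 = 1 := by
    have h := deg_tensor_locFree k X hdim.le 1 1 J _ (isFinLocFreeOfRank_one hJ)
      (isFinLocFreeOfRank_one hI)
    have h2 : Curv2.deg k X (CohB1.tensorMod J (ClSub.idealMod (ptIdeal P hP))) 1 =
        Curv2.deg k X (Coh.structureModule X) 1 := by
      unfold Curv2.deg
      rw [euler_iso k X e]
    rw [deg_structureModule] at h2
    rw [deg_ptIdeal k X P hP] at h
    simp only [mul_one, Nat.cast_one, one_mul] at h
    linarith
  have hN := isInvertible_tensorPow hJ (2 * Curv2.genus k X)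
  have hdN : Curv2.deg k X (CohB1.tensorPow J (2 * Curv2.genus k X)) 1 =
      2 * (Curv2.genus k X : ℤ) := by
    rw [deg_tensorPow k X hdim.le hJ, hdJ]
    push_cast
    ring
  refine ⟨CohB1.tensorPow J (2 * Curv2.genus k X), hN, hdN, ?_⟩
  haveI hH1 : Subsingleton (Coh.HH X (CohB1.tensorPow J (2 * Curv2.genus k X)) 1) :=
    subsingleton_H1_of_deg_ge k X hdim _ hN (by rw [hdN]; linarith)
  have h0 := finrank_HH_zero_eq_one_of_isAlgClosed k X
  have hOc : Coh.IsCoh (Coh.structureModule X) :=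
    InvQc.isCoh_of_isInvertible _ GenLoc.isInvertible_O
  have hNc : Coh.IsCoh (CohB1.tensorPow J (2 * Curv2.genus k X)) :=
    InvQc.isCoh_of_isInvertible _ hN
  have eN := euler_eq_h0_sub_h1 k X hdim.le _ hNc.1
  have eO := euler_eq_h0_sub_h1 k X hdim.le _ hOc.1
  have hb1 : Module.finrank k (Coh.HH X (CohB1.tensorPow J (2 * Curv2.genus k X)) 1) = 0 :=
    Module.finrank_zero_of_subsingleton
  have hg : (Module.finrank k (Coh.HH X (Coh.structureModule X) 1) : ℤ) =
      (Curv2.genus k X : ℤ) := rfl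
  rw [hb1] at eN
  rw [h0, hg] at eO
  unfold Curv2.deg at hdN
  push_cast at eN eO hdN
  have : (Module.finrank k (Coh.HH X (CohB1.tensorPow J (2 * Curv2.genus k X)) 0) : ℤ) =
      (Curv2.genus k X : ℤ) + 1 := by
    linarith
  exact_mod_cast this

/-- removing `m ≤ g + 1` general points -/
theorem exists_deg_sub' (hdim : topologicalKrullDim X = 1) (m : ℕ)
    (hm : m ≤ Curv2.genus k X + 1) :
    ∃ M : X.Modules, PicF.IsInvertible M ∧
      Curv2.deg k X M 1 = 2 * (Curv2.genus k X : ℤ) - m ∧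
      Module.finrank k (Coh.HH X M 0) + m = Curv2.genus k X + 1 := by
  induction m with
  | zero =>
    obtain ⟨N, hN, hd, hf⟩ := exists_start' k X hdim
    exact ⟨N, hN, by rw [hd]; simp, by rw [hf]⟩
  | succ m ih =>
    obtain ⟨M, hM, hd, hf⟩ := ih (by omega)
    obtain ⟨M', hM', hd', hf'⟩ := down_nonbase' k X hdim M hM (by omega)
    refine ⟨M', hM', ?_, by omega⟩
    rw [hd', hd]
    push_cast
    ring

/-- the first cohomology of the modules constructed by `exists_deg_sub'` vanishes -/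
theorem subsingleton_H1_of_deg_of_h0 (hdim : topologicalKrullDim X = 1) (M : X.Modules)
    (hM : PicF.IsInvertible M) (m : ℕ)
    (hd : Curv2.deg k X M 1 = 2 * (Curv2.genus k X : ℤ) - m)
    (hf : Module.finrank k (Coh.HH X M 0) + m = Curv2.genus k X + 1) :
    Subsingleton (Coh.HH X M 1) := by
  haveI := isNoetherian_of_proper k X
  have h0 := finrank_HH_zero_eq_one_of_isAlgClosed k X
  have hOc : Coh.IsCoh (Coh.structureModule X) :=
    InvQc.isCoh_of_isInvertible _ GenLoc.isInvertible_O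
  have hMc : Coh.IsCoh M := InvQc.isCoh_of_isInvertible _ hM
  have eN := euler_eq_h0_sub_h1 k X hdim.le _ hMc.1
  have eO := euler_eq_h0_sub_h1 k X hdim.le _ hOc.1
  have hg : (Module.finrank k (Coh.HH X (Coh.structureModule X) 1) : ℤ) =
      (Curv2.genus k X : ℤ) := rfl
  rw [h0, hg] at eO
  unfold Curv2.deg at hd
  have hf' : (Module.finrank k (Coh.HH X M 0) : ℤ) + m = (Curv2.genus k X : ℤ) + 1 := by
    exact_mod_cast hf
  push_cast at eN eO hd
  have h1 : (Module.finrank k (Coh.HH X M 1) : ℤ) = 0 := by linarith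
  have h1' : Module.finrank k (Coh.HH X M 1) = 0 := by exact_mod_cast h1
  haveI : Module.Finite k (Coh.HH X M 1) := T2Main1.t2 k X _ hMc 1
  exact Module.finrank_zero_iff.1 h1'

/-- **S1523** -/
theorem exists_h0_one_h1_zero_and_acyclic (hdim : topologicalKrullDim X = 1) :
    (∃ L : X.Modules, PicF.IsInvertible L ∧ Module.finrank k (Coh.HH X L 0) = 1 ∧
      Subsingleton (Coh.HH X L 1)) ∧
    (∃ N : X.Modules, PicF.IsInvertible N ∧ Subsingleton (Coh.HH X N 0) ∧
      Subsingleton (Coh.HH X N 1)) := by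
  haveI := isNoetherian_of_proper k X
  constructor
  · obtain ⟨M, hM, hd, hf⟩ := exists_deg_sub' k X hdim (Curv2.genus k X) (by omega)
    exact ⟨M, hM, by omega, subsingleton_H1_of_deg_of_h0 k X hdim M hM _ hd hf⟩
  · obtain ⟨M, hM, hd, hf⟩ := exists_deg_sub' k X hdim (Curv2.genus k X + 1) le_rfl
    refine ⟨M, hM, ?_, subsingleton_H1_of_deg_of_h0 k X hdim M hM _ hd hf⟩
    have hMc : Coh.IsCoh M := InvQc.isCoh_of_isInvertible _ hM
    haveI : Module.Finite k (Coh.HH X M 0) := T2Main1.t2 k X _ hMc 0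
    have hz : Module.finrank k (Coh.HH X M 0) = 0 := by omega
    exact Module.finrank_zero_iff.1 hz

end Down

end Groth.Agent.Helper1.RegPt
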