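import Mathlib
universe u v w
open Set Topology TopologicalSpace

namespace Groth.Agent.Helper1.TopL

section LocConn

theorem isOpen_connectedComponent_of_noetherian {V : Type*} [TopologicalSpace V] [NoetherianSpace V]
    (y : V) : IsOpen (connectedComponent y) := by
  have hfin : (irreducibleComponents V).Finite := NoetherianSpace.finite_irreducibleComponents
  have hcompl : (connectedComponent y)ᶜ =
      ⋃₀ {Z ∈ irreducibleComponents V | Disjoint Z (connectedComponent y)} := by
    ext z
    constructor
    · intro hz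
      have : z ∈ ⋃₀ irreducibleComponents V := by rw [sUnion_irreducibleComponents]; trivial
      obtain ⟨Z, hZ, hzZ⟩ := this
      refine ⟨Z, ⟨hZ, ?_⟩, hzZ⟩
      rw [Set.disjoint_left]
      intro w hwZ hwC
      apply hz
      have hZc : IsPreconnected Z := (show IsIrreducible Z from hZ.1).isConnected.isPreconnected
      have h1 : Z ⊆ connectedComponent w := hZc.subset_connectedComponent hwZ
      have h2 : connectedComponent w = connectedComponent y := connectedComponent_eq hwC |>.symm
      rw [← h2]; exact h1 hzZ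
    · rintro ⟨Z, ⟨hZ, hd⟩, hzZ⟩ hzC
      exact Set.disjoint_left.mp hd hzZ hzC
  rw [← isClosed_compl_iff, hcompl]
  rw [sUnion_eq_biUnion]
  apply Set.Finite.isClosed_biUnion (hfin.subset fun Z hZ => hZ.1)
  intro Z hZ
  exact isClosed_of_mem_irreducibleComponents Z hZ.1

theorem locallyConnectedSpace_of_locally_noetherian
    (X : Type u) [TopologicalSpace X] (hX : ∀ x : X, ∃ U ∈ nhds x, TopologicalSpace.NoetherianSpace U) : LocallyConnectedSpace X := by
  rw [locallyConnectedSpace_iff_connectedComponentIn_open]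
  intro F hF x hxF
  rw [isOpen_iff_mem_nhds]
  intro y hy
  have hyF : y ∈ F := connectedComponentIn_subset F x hy
  have hxy : connectedComponentIn F y = connectedComponentIn F x := (connectedComponentIn_eq hy).symm
  obtain ⟨U, hU, hUN⟩ := hX y
  set V : Set X := interior U ∩ F with hV
  have hVo : IsOpen V := isOpen_interior.inter hF
  have hyV : y ∈ V := ⟨mem_interior_iff_mem_nhds.mpr hU, hyF⟩
  have hVU : V ⊆ U := inter_subset_left.trans interior_subset
  have : NoetherianSpace V := by
    have : NoetherianSpace (U : Set X) := hUN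
    have hi : Topology.IsInducing (Set.inclusion hVU) := (Topology.IsEmbedding.inclusion hVU).isInducing
    exact hi.noetherianSpace
  have hC : IsOpen (connectedComponent (⟨y, hyV⟩ : V)) := isOpen_connectedComponent_of_noetherian _
  have hCX : IsOpen (Subtype.val '' connectedComponent (⟨y, hyV⟩ : V)) := hVo.isOpenMap_subtype_val _ hC
  have hconn : IsPreconnected (Subtype.val '' connectedComponent (⟨y, hyV⟩ : V)) :=
    isPreconnected_connectedComponent.image _ continuous_subtype_val.continuousOn
  have hsub : Subtype.val '' connectedComponent (⟨y, hyV⟩ : V) ⊆ F := by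
    rintro _ ⟨z, _, rfl⟩; exact z.2.2
  have hymem : y ∈ Subtype.val '' connectedComponent (⟨y, hyV⟩ : V) := ⟨⟨y, hyV⟩, mem_connectedComponent, rfl⟩
  have := hconn.subset_connectedComponentIn hymem hsub
  rw [hxy] at this
  exact Filter.mem_of_superset (hCX.mem_nhds hymem) this

end LocConn

section LocNoeth

/-- In a space where every point has an open Noetherian neighbourhood, every compact set is
a Noetherian subspace. -/
theorem noetherianSpace_of_isCompact {X : Type*} [TopologicalSpace X]
    (hX : ∀ x : X, ∃ U : Set X, IsOpen U ∧ x ∈ U ∧ NoetherianSpace U) {K : Set X}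
    (hK : IsCompact K) : NoetherianSpace K := by
  choose U hUo hxU hUN using hX
  obtain ⟨t, ht⟩ := hK.elim_finite_subcover U hUo (fun x _ => mem_iUnion.mpr ⟨x, hxU x⟩)
  have h1 : NoetherianSpace (⋃ i : t, U i) := by
    have : ∀ i : t, NoetherianSpace (U i) := fun i => hUN i
    exact NoetherianSpace.iUnion fun i : t => U i
  have h2 : K ⊆ ⋃ i : t, U i := by
    intro x hx
    have := ht hx
    simp only [mem_iUnion, exists_prop] at this
    obtain ⟨i, hi, hxi⟩ := this
    exact mem_iUnion.mpr ⟨⟨i, hi⟩, hxi⟩
  exact NoetherianSpace.of_subset h2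

theorem isCompact_of_subset_of_isCompact {X : Type*} [TopologicalSpace X]
    (hX : ∀ x : X, ∃ U : Set X, IsOpen U ∧ x ∈ U ∧ NoetherianSpace U) {K S : Set X}
    (hK : IsCompact K) (hS : S ⊆ K) : IsCompact S := by
  have := noetherianSpace_of_isCompact hX hK
  exact (noetherianSpace_set_iff K).mp this S hS

end LocNoeth

section IrrConn

theorem irreducibleComponent_eq_connectedComponent_of_isOpen {X : Type*} [TopologicalSpace X]
    {Z : Set X} (hZ : Z ∈ irreducibleComponents X) (hZo : IsOpen Z) {x : X} (hx : x ∈ Z) :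
    connectedComponent x = Z := by
  have hZc : IsClosed Z := isClosed_of_mem_irreducibleComponents Z hZ
  have hclopen : IsClopen Z := ⟨hZc, hZo⟩
  apply subset_antisymm
  · exact hclopen.connectedComponent_subset hx
  · exact (show IsIrreducible Z from hZ.1).isConnected.isPreconnected.subset_connectedComponent hx

theorem isOpen_irreducibleComponent_of_pairwiseDisjoint
    (X : Type u) [TopologicalSpace X] (hX : ∀ x : X, ∃ U ∈ nhds x, NoetherianSpace U)
    (hd : (irreducibleComponents X).PairwiseDisjoint id) :
    ∀ Z ∈ irreducibleComponents X, IsOpen Z := by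
  intro Z hZ
  rw [isOpen_iff_mem_nhds]
  intro x hxZ
  obtain ⟨U₀, hU₀, hU₀N⟩ := hX x
  set U : Set X := interior U₀ with hU
  have hUo : IsOpen U := isOpen_interior
  have hxU : x ∈ U := mem_interior_iff_mem_nhds.mpr hU₀
  have : NoetherianSpace U := by
    have : NoetherianSpace (U₀ : Set X) := hU₀N
    exact NoetherianSpace.of_subset interior_subset
  have hfin : (irreducibleComponents U).Finite := NoetherianSpace.finite_irreducibleComponents
  let Bad : Set U := ⋃ W ∈ {W ∈ irreducibleComponents U | ¬ (Subtype.val '' W ⊆ Z)}, W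
  have hBadc : IsClosed Bad := by
    apply Set.Finite.isClosed_biUnion (hfin.subset fun W hW => hW.1)
    intro W hW
    exact isClosed_of_mem_irreducibleComponents W hW.1
  have hVo : IsOpen (Subtype.val '' Badᶜ) := hUo.isOpenMap_subtype_val _ hBadc.isOpen_compl
  have hxV : x ∈ Subtype.val '' Badᶜ := by
    refine ⟨⟨x, hxU⟩, ?_, rfl⟩
    intro hbad
    simp only [Bad, mem_iUnion, exists_prop] at hbad
    obtain ⟨W, ⟨hW, hWZ⟩, hxW⟩ := hbad
    have hWirr : IsIrreducible (Subtype.val '' W : Set X) :=
      (show IsIrreducible W from hW.1).image _ continuous_subtype_val.continuousOn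
    obtain ⟨Z', hZ', hWZ'⟩ := exists_mem_irreducibleComponents_subset_of_isIrreducible _ hWirr
    have hne : Z' ≠ Z := by
      rintro rfl
      exact hWZ hWZ'
    have := hd hZ' hZ hne
    exact Set.disjoint_left.mp this (hWZ' ⟨⟨x, hxU⟩, hxW, rfl⟩) hxZ
  refine Filter.mem_of_superset (hVo.mem_nhds hxV) ?_
  rintro _ ⟨y, hy, rfl⟩
  have : y ∈ ⋃₀ irreducibleComponents U := by rw [sUnion_irreducibleComponents]; trivial
  obtain ⟨W, hW, hyW⟩ := this
  by_contra hyZ
  apply hy
  simp only [Bad, mem_iUnion, exists_prop]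
  refine ⟨W, ⟨hW, ?_⟩, hyW⟩
  intro hsub
  exact hyZ (hsub ⟨y, hyW, rfl⟩)

theorem tfae_irreducible_connected
    (X : Type u) [TopologicalSpace X] (hX : ∀ x : X, ∃ U ∈ nhds x, NoetherianSpace U) :
    List.TFAE [∀ Z ∈ irreducibleComponents X, IsOpen Z,
      irreducibleComponents X = Set.range (connectedComponent : X → Set X),
      ∀ x : X, IsIrreducible (connectedComponent x),
      (irreducibleComponents X).PairwiseDisjoint id] := by
  tfae_have 1 → 2 := by
    intro h
    ext Z
    constructor
    · intro hZ
      obtain ⟨x, hx⟩ := (show IsIrreducible Z from hZ.1).nonempty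
      exact ⟨x, irreducibleComponent_eq_connectedComponent_of_isOpen hZ (h Z hZ) hx⟩
    · rintro ⟨x, rfl⟩
      have hZ := irreducibleComponent_mem_irreducibleComponents x
      rw [irreducibleComponent_eq_connectedComponent_of_isOpen hZ (h _ hZ) mem_irreducibleComponent]
      exact hZ
  tfae_have 2 → 3 := by
    intro h x
    have : connectedComponent x ∈ irreducibleComponents X := by rw [h]; exact ⟨x, rfl⟩
    exact this.1
  tfae_have 3 → 4 := by
    intro h
    have key : ∀ Z ∈ irreducibleComponents X, ∀ x ∈ Z, Z = connectedComponent x := by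
      intro Z hZ x hx
      have h1 : Z ⊆ connectedComponent x :=
        (show IsIrreducible Z from hZ.1).isConnected.isPreconnected.subset_connectedComponent hx
      exact subset_antisymm h1 (hZ.2 (h x) h1)
    intro Z hZ Z' hZ' hne
    rw [Function.onFun, id, id, Set.disjoint_left]
    intro x hxZ hxZ'
    exact hne ((key Z hZ x hxZ).trans (key Z' hZ' x hxZ').symm)
  tfae_have 4 → 1 := isOpen_irreducibleComponent_of_pairwiseDisjoint X hX
  tfae_finish

end IrrConn

section GenPt

theorem closure_singleton_mem_irreducibleComponents_iff {Y : Type*} [TopologicalSpace Y]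
    [QuasiSober Y] [T0Space Y] (y : Y) :
    closure ({y} : Set Y) ∈ irreducibleComponents Y ↔ ∀ x : Y, x ⤳ y → x = y := by
  have hirr : IsIrreducible (closure ({y} : Set Y)) := isIrreducible_singleton.closure
  constructor
  · intro hcomp x hx
    have hle : closure ({y} : Set Y) ⊆ closure {x} := hx.closure_subset
    have hirrx : IsIrreducible (closure ({x} : Set Y)) := isIrreducible_singleton.closure
    have hge : closure ({x} : Set Y) ⊆ closure {y} := hcomp.2 hirrx hle
    have h1 : IsGenericPoint x (closure ({y} : Set Y)) := le_antisymm hge hle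
    exact h1.eq isGenericPoint_closure
  · intro h
    refine ⟨hirr, ?_⟩
    intro Z hZ hle
    have hZc : IsIrreducible (closure Z) := hZ.closure
    have hgen := hZc.isGenericPoint_genericPoint isClosed_closure
    set x := hZc.genericPoint with hx
    have hyZ : y ∈ closure Z := subset_closure (hle (subset_closure (Set.mem_singleton y)))
    have hxy : x ⤳ y := hgen.specializes hyZ
    have := h x hxy
    rw [this] at hgen
    calc Z ⊆ closure Z := subset_closure
      _ = closure {y} := hgen.def.symm

end GenPt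

section InvLim

/-- a cofiltered inverse system of nonempty compact subsets of Hausdorff spaces has a compatible family -/
theorem exists_compatible_of_compact
    {ι : Type u} [Preorder ι] [IsDirected ι (· ≤ ·)]
    (G : ι → Type v) [∀ i, TopologicalSpace (G i)] [∀ i, T2Space (G i)]
    (f : ∀ ⦃i j : ι⦄, i ≤ j → (G j → G i)) (hf : ∀ i j (h : i ≤ j), Continuous (f h))
    (hcomp : ∀ i j k (hij : i ≤ j) (hjk : j ≤ k) (x : G k), f hij (f hjk x) = f (hij.trans hjk) x)
    (S : ∀ i, Set (G i)) (hSc : ∀ i, IsCompact (S i)) (hSne : ∀ i, (S i).Nonempty)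
    (hSf : ∀ i j (h : i ≤ j), ∀ x ∈ S j, f h x ∈ S i) :
    ∃ z : ∀ i, G i, (∀ i, z i ∈ S i) ∧ ∀ i j (h : i ≤ j), f h (z j) = z i := by
  classical
  let K : Set (∀ i, G i) := Set.pi univ S
  have hK : IsCompact K := isCompact_univ_pi hSc
  let t : {p : ι × ι // p.1 ≤ p.2} → Set (∀ i, G i) := fun p => {z | f p.2 (z p.1.2) = z p.1.1}
  have ht : ∀ p, IsClosed (t p) := by
    intro p
    exact isClosed_eq ((hf _ _ p.2).comp (continuous_apply p.1.2)) (continuous_apply p.1.1)
  have hfin : ∀ u : Finset {p : ι × ι // p.1 ≤ p.2}, (K ∩ ⋂ p ∈ u, t p).Nonempty := by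
    intro u
    choose c hc using hSne
    by_cases hu : u.Nonempty
    · obtain ⟨p0, _⟩ := hu
      have : Nonempty ι := ⟨p0.1.1⟩
      obtain ⟨k, hk⟩ := Finset.exists_le (u.image fun p => p.1.2)
      let z : ∀ i, G i := fun i => if h : i ≤ k then f h (c k) else c i
      refine ⟨z, ?_, ?_⟩
      · intro i _
        simp only [z]
        split_ifs with h
        · exact hSf i k h _ (hc k)
        · exact hc i
      · simp only [mem_iInter]
        intro p hp
        have hjk : p.1.2 ≤ k := hk _ (Finset.mem_image_of_mem _ hp)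
        have hik : p.1.1 ≤ k := p.2.trans hjk
        simp only [t, mem_ofPred_eq, z, dif_pos hjk, dif_pos hik]
        exact hcomp _ _ _ p.2 hjk _
    · rw [Finset.not_nonempty_iff_eq_empty] at hu
      subst hu
      refine ⟨c, fun i _ => hc i, by simp⟩
  obtain ⟨z, hzK, hzt⟩ := hK.inter_iInter_nonempty t ht hfin
  refine ⟨z, fun i => hzK i (mem_univ i), fun i j h => ?_⟩
  have := mem_iInter.mp hzt ⟨(i, j), h⟩
  exact this

theorem invlim_mod_m
    {ι : Type u} [Preorder ι] [IsDirected ι (· ≤ ·)]
    (G : ι → Type v) [∀ i, AddCommGroup (G i)] [∀ i, TopologicalSpace (G i)]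
    [∀ i, IsTopologicalAddGroup (G i)] [∀ i, CompactSpace (G i)] [∀ i, T2Space (G i)]
    (f : ∀ ⦃i j : ι⦄, i ≤ j → (G j →+ G i)) (hf : ∀ i j (h : i ≤ j), Continuous (f h))
    (hcomp : ∀ i j k (hij : i ≤ j) (hjk : j ≤ k) (x : G k), f hij (f hjk x) = f (hij.trans hjk) x)
    (m : ℕ) :
    (∀ x : ∀ i, G i, (∀ i j (h : i ≤ j), f h (x j) = x i) → (∀ i, ∃ y : G i, m • y = x i) →
        ∃ z : ∀ i, G i, (∀ i j (h : i ≤ j), f h (z j) = z i) ∧ ∀ i, m • z i = x i) ∧
    (∀ y : ∀ i, G i, (∀ i j (h : i ≤ j), ∃ w : G i, f h (y j) - y i = m • w) →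
        ∃ x : ∀ i, G i, (∀ i j (h : i ≤ j), f h (x j) = x i) ∧ ∀ i, ∃ w : G i, x i - y i = m • w) := by
  constructor
  · intro x hx hdiv
    have hcont : ∀ i, Continuous fun y : G i => m • y := fun i => continuous_nsmul m
    obtain ⟨z, hzS, hz⟩ := exists_compatible_of_compact G (fun i j h => f h) hf hcomp
      (fun i => {y | m • y = x i})
      (fun i => (isClosed_eq (hcont i) continuous_const).isCompact)
      hdiv
      (by
        intro i j h y hy
        simp only [mem_ofPred_eq] at hy ⊢
        rw [← map_nsmul, hy, hx])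
    exact ⟨z, hz, hzS⟩
  · intro y hy
    have hcont : ∀ i, Continuous fun w : G i => y i + m • w := fun i =>
      continuous_const.add (continuous_nsmul m)
    obtain ⟨x, hxS, hx⟩ := exists_compatible_of_compact G (fun i j h => f h) hf hcomp
      (fun i => Set.range fun w : G i => y i + m • w)
      (fun i => isCompact_range (hcont i))
      (fun i => ⟨y i + m • 0, 0, rfl⟩)
      (by
        rintro i j h _ ⟨w, rfl⟩
        obtain ⟨w', hw'⟩ := hy i j h
        refine ⟨w' + f h w, ?_⟩
        simp only [map_add, map_nsmul, smul_add]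
        rw [sub_eq_iff_eq_add] at hw'
        rw [hw']; abel)
    refine ⟨x, hx, fun i => ?_⟩
    obtain ⟨w, hw⟩ := hxS i
    exact ⟨w, by rw [← hw]; simp⟩

end InvLim

end Groth.Agent.Helper1.TopL
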