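import Mathlib
import Groth.Agent.Lib.Helper1.BCurve2
import Groth.Agent.Lib.Helper1.BCurve3
import Groth.Agent.Lib.Helper4.PullTens1
import Groth.Agent.Lib.Helper7.SepPt.Main
import Groth.Agent.Lib.Helper7.GeomConn.SmoothH0
import Groth.Agent.Lib.Helper1.InvInv2
import Groth.Agent.Lib.Helper1.PullGen2
import Groth.Agent.Lib.Helper1.RegPt2

/-!
# Twisting an invertible module on `X_K` by an invertible module from `X` to get `h⁰ = 1`,
`h¹ = 0` (helper1)
-/

set_option autoImplicit false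
universe u
open CategoryTheory CategoryTheory.Limits AlgebraicGeometry TopologicalSpace Opposite

namespace Groth.Agent.Helper1.BCurve

open Groth.Agent.Helper1.QcCech Groth.Agent.Helper1.SubSh Groth.Agent.Helper1.LGen
open Groth.Agent.Helper1.TmulLib Groth.Agent.Helper1 Groth.Agent.Helper1.TwForm
open Groth.Agent.Helper1.TensGen Groth.Agent.Lib.Helper4.TwExact Groth.Agent.Helper1.Dv
open Groth.Agent.Lib.Helper4 Groth.Agent.Helper1.CurveAmp Groth.Agent.Helper1.FinSupp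
open Groth.Agent.Helper1.Euler Groth.Agent.Helper1.Curve Groth.Agent.Helper1.CurveLin
open Groth.Agent.Helper1.CurveDual Groth.Agent.Helper1.CurvePt Groth.Agent.Helper1.PtInv
open Groth.Agent.Helper1.PullGen

attribute [local instance] Curv2.resAlgebra

section Rat

/-- a smooth scheme over a separably closed field has rational points in every nonempty open -/
theorem exists_rational_mem (k : Type u) [Field k] [IsSepClosed k] (X : Scheme.{u})
    [X.Over (Spec (CommRingCat.of k))] [Smooth (X ↘ Spec (CommRingCat.of k))] (U : X.Opens)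
    (hU : (U : Set X).Nonempty) :
    ∃ s : Spec (CommRingCat.of k) ⟶ X, s ≫ (X ↘ Spec (CommRingCat.of k)) = 𝟙 _ ∧
      ∀ pt, s pt ∈ U := by
  obtain ⟨x, hx⟩ := hU
  let i := (U.toScheme.affineCover).idx ⟨x, hx⟩
  obtain ⟨z, hz⟩ := (U.toScheme.affineCover).covers ⟨x, hx⟩
  haveI : Nonempty ((U.toScheme.affineCover).X i) := ⟨z⟩
  haveI : Smooth ((U.toScheme.affineCover).f i ≫ U.ι ≫ (X ↘ Spec (CommRingCat.of k))) :=
    inferInstance
  obtain ⟨s, hs⟩ := Groth.Agent.Helper7.SepPt.exists_section_of_smooth_affine k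
    (Z := (U.toScheme.affineCover).X i) ⟨_, rfl⟩
    ((U.toScheme.affineCover).f i ≫ U.ι ≫ (X ↘ Spec (CommRingCat.of k)))
  refine ⟨s ≫ (U.toScheme.affineCover).f i ≫ U.ι, by simpa using hs, fun pt => ?_⟩
  rw [Scheme.Hom.comp_apply, Scheme.Hom.comp_apply]
  exact ((U.toScheme.affineCover).f i (s pt)).2

end Rat

section Twist

variable {X XK : Scheme.{u}} (g : XK ⟶ X)

/-- `L ⊗ g^*(A ⊗ M₀) ≅ g^*A ⊗ (L ⊗ g^*M₀)` -/
theorem nonempty_twistIso {A M₀ : X.Modules} (hA : PicF.IsInvertible A)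
    (hM₀ : PicF.IsInvertible M₀) (L : XK.Modules) (hL : PicF.IsInvertible L) :
    Nonempty (CohB1.tensorMod L ((Scheme.Modules.pullback g).obj (CohB1.tensorMod A M₀)) ≅
      CohB1.tensorMod ((Scheme.Modules.pullback g).obj A)
        (CohB1.tensorMod L ((Scheme.Modules.pullback g).obj M₀))) := by
  have hA' := isInvertible_pullback g hA
  have hM' := isInvertible_pullback g hM₀
  exact ⟨Groth.Agent.Lead.TilT.tensorModCongr (Iso.refl L)
      (Groth.Agent.Lib.Helper4.PullTens1.pullTensIso g hA hM₀) ≪≫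
    (GenusOne.assocIso L hA' hM').symm ≪≫
    Groth.Agent.Lead.TilT.tensorModCongr (TildeTens.tensorModComm L _) (Iso.refl _) ≪≫
    GenusOne.assocIso _ hL hM'⟩

end Twist

section Main

variable {k : Type u} [Field k] {X : Scheme.{u}} [X.Over (Spec (CommRingCat.of k))]
  {K : Type u} [Field K] [Algebra k K] {XK : Scheme.{u}} [XK.Over (Spec (CommRingCat.of K))]
  {g : XK ⟶ X}
  (hpb : IsPullback g (XK ↘ Spec (CommRingCat.of K)) (X ↘ Spec (CommRingCat.of k))
    (Spec.map (CommRingCat.ofHom (algebraMap k K))))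
  [IsIntegral X] [IsProper (X ↘ Spec (CommRingCat.of k))]
  [Smooth (X ↘ Spec (CommRingCat.of k))]
  [IsIntegral XK] [IsProper (XK ↘ Spec (CommRingCat.of K))]
  [Smooth (XK ↘ Spec (CommRingCat.of K))] [IsAffineHom g]
  (hdim : topologicalKrullDim X = 1) (hdimK : topologicalKrullDim XK = 1)

include hdim hdimK in
/-- everything attached to a rational point of `X` and its base change -/
theorem rational_package (s : Spec (CommRingCat.of k) ⟶ X)
    (hs : s ≫ (X ↘ Spec (CommRingCat.of k)) = 𝟙 _) (pt : Spec (CommRingCat.of k))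
    (ptK : Spec (CommRingCat.of K)) :
    ∃ (hp : IsClosed ({s pt} : Set X)) (hq : IsClosed ({secK hpb s hs ptK} : Set XK)),
      PicF.IsInvertible (ClSub.idealMod (ptIdeal (s pt) hp)) ∧
      PicF.IsInvertible (ClSub.idealMod (ptIdeal (secK hpb s hs ptK) hq)) ∧
      Module.finrank K (XK.residueField (secK hpb s hs ptK)) = 1 ∧
      Nonempty ((Scheme.Modules.pullback g).obj (ClSub.idealMod (ptIdeal (s pt) hp)) ≅
        ClSub.idealMod (ptIdeal (secK hpb s hs ptK) hq)) := by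
  have hp := PtDeg.isClosed_of_section k s hs pt
  have hq := PtDeg.isClosed_of_section K (secK hpb s hs) (secK_over hpb s hs) ptK
  haveI : IsLocallyNoetherian X := (isNoetherian_of_proper k X).toIsLocallyNoetherian
  haveI : IsLocallyNoetherian XK := (isNoetherian_of_proper K XK).toIsLocallyNoetherian
  have hIp := isInvertible_ptIdeal_of_smooth k X hdim (s pt) hp
  have hIq := isInvertible_ptIdeal_of_smooth K XK hdimK _ hq
  refine ⟨hp, hq, hIp, hIq,
    PtDeg.finrank_residueField_of_section K _ (secK_over hpb s hs) ptK, ?_⟩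
  exact nonempty_pullback_ptIdeal_iso g (s pt) hp _ hq (g_secK hpb s hs ptK pt) hIp hIq
    (fun U _ => ideal_ext hpb s hs pt ptK hp hq U)

/-- the twisted module -/
noncomputable abbrev tw (g : XK ⟶ X) (L : XK.Modules) (M₀ : X.Modules) : XK.Modules :=
  CohB1.tensorMod L ((Scheme.Modules.pullback g).obj M₀)

include hpb hdim hdimK in
/-- removing a general rational point -/
theorem down_step (L : XK.Modules) (hL : PicF.IsInvertible L) (M₀ : X.Modules)
    (hM₀ : PicF.IsInvertible M₀)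
    (hpos : 0 < Module.finrank K (Coh.HH XK (tw g L M₀) 0))
    (hrat : ∀ U : X.Opens, (U : Set X).Nonempty →
      ∃ s : Spec (CommRingCat.of k) ⟶ X, s ≫ (X ↘ Spec (CommRingCat.of k)) = 𝟙 _ ∧
        ∀ pt, s pt ∈ U)
    (hopen : IsOpenMap g) :
    ∃ M₁ : X.Modules, PicF.IsInvertible M₁ ∧
      Curv2.deg K XK (tw g L M₁) 1 = Curv2.deg K XK (tw g L M₀) 1 - 1 ∧
      Module.finrank K (Coh.HH XK (tw g L M₁) 0) + 1 =
        Module.finrank K (Coh.HH XK (tw g L M₀) 0) := by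
  haveI := isNoetherian_of_proper K XK
  have hN : PicF.IsInvertible (tw g L M₀) :=
    isInvertible_tensorMod hL (isInvertible_pullback g hM₀)
  have hNc : Coh.IsCoh (tw g L M₀) := InvQc.isCoh_of_isInvertible _ hN
  haveI : Module.Finite K (Coh.HH XK (tw g L M₀) 0) := T2Main1.t2 K XK _ hNc 0
  obtain ⟨x, hx⟩ := (Module.finrank_pos_iff_exists_ne_zero (R := K)).1 hpos
  have hσ : HH0.equiv XK (tw g L M₀) x ≠ 0 := fun h =>
    hx ((HH0.equiv XK (tw g L M₀)).injective (h.trans (map_zero _).symm))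
  obtain ⟨V, hηV, hV⟩ := genAt_genericPoint_of_ne_zero hN _ hσ
  let U : X.Opens := ⟨g '' (V : Set XK), hopen _ V.isOpen⟩
  obtain ⟨s, hs, hsU⟩ := hrat U ⟨g (genericPoint XK), genericPoint XK, hηV, rfl⟩
  obtain ⟨pt⟩ : Nonempty (Spec (CommRingCat.of k)) := inferInstanceAs (Nonempty (PrimeSpectrum k))
  obtain ⟨ptK⟩ : Nonempty (Spec (CommRingCat.of K)) :=
    inferInstanceAs (Nonempty (PrimeSpectrum K))
  obtain ⟨x₁, hx₁V, hx₁⟩ := hsU pt
  have hxq := eq_secK_of_g_eq hpb s hs ptK pt x₁ hx₁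
  obtain ⟨hp, hq, hIp, hIq, hκ, ⟨eI⟩⟩ := rational_package hpb hdim hdimK s hs pt ptK
  have hqV : secK hpb s hs ptK ∈ V := hxq ▸ hx₁V
  have hgen : ∃ σ : Γ(tw g L M₀, ⊤), GenAt (tw g L M₀) σ (secK hpb s hs ptK) :=
    ⟨_, V, hqV, hV⟩
  obtain ⟨hd, hf⟩ := remove_point K XK hdimK (tw g L M₀) hN _ hq hκ hIq hgen
  obtain ⟨eT⟩ := nonempty_twistIso g hIp hM₀ L hL
  let e := eT ≪≫ Groth.Agent.Lead.TilT.tensorModCongr eI (Iso.refl (tw g L M₀))
  refine ⟨CohB1.tensorMod (ClSub.idealMod (ptIdeal (s pt) hp)) M₀,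
    isInvertible_tensorMod hIp hM₀, ?_, ?_⟩
  · rw [GenusOne.deg_iso K XK e 1]
    exact hd
  · rw [(HHFin1.HHequiv K e 0).finrank_eq]
    exact hf

include hpb hdim hdimK in
/-- adding a rational point -/
theorem up_step (L : XK.Modules) (hL : PicF.IsInvertible L) (M₀ : X.Modules)
    (hM₀ : PicF.IsInvertible M₀) (s : Spec (CommRingCat.of k) ⟶ X)
    (hs : s ≫ (X ↘ Spec (CommRingCat.of k)) = 𝟙 _) :
    ∃ M₁ : X.Modules, PicF.IsInvertible M₁ ∧
      Curv2.deg K XK (tw g L M₁) 1 = Curv2.deg K XK (tw g L M₀) 1 + 1 := by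
  obtain ⟨pt⟩ : Nonempty (Spec (CommRingCat.of k)) := inferInstanceAs (Nonempty (PrimeSpectrum k))
  obtain ⟨ptK⟩ : Nonempty (Spec (CommRingCat.of K)) :=
    inferInstanceAs (Nonempty (PrimeSpectrum K))
  obtain ⟨hp, hq, hIp, hIq, hκ, ⟨eI⟩⟩ := rational_package hpb hdim hdimK s hs pt ptK
  obtain ⟨J, hJ, ⟨eJ⟩⟩ := InvInv2.exists_inverse hIp
  have hJ' := isInvertible_pullback g hJ
  have hN : PicF.IsInvertible (tw g L M₀) :=
    isInvertible_tensorMod hL (isInvertible_pullback g hM₀)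
  let e1 : CohB1.tensorMod ((Scheme.Modules.pullback g).obj J)
      (ClSub.idealMod (ptIdeal (secK hpb s hs ptK) hq)) ≅ Coh.structureModule XK :=
    Groth.Agent.Lead.TilT.tensorModCongr (Iso.refl _) eI.symm ≪≫
      (Groth.Agent.Lib.Helper4.PullTens1.pullTensIso g hJ hIp).symm ≪≫
      (Scheme.Modules.pullback g).mapIso eJ ≪≫ PullSec.unitIso g
  have hdJ : Curv2.deg K XK ((Scheme.Modules.pullback g).obj J) 1 = 1 := by
    have h := GenusOne.deg_of_inverse K XK hdimK hJ' hIq e1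
    rw [PtDeg.deg_ptIdeal' K XK _ hq, hκ] at h
    simpa using h
  obtain ⟨eT⟩ := nonempty_twistIso g hJ hM₀ L hL
  refine ⟨CohB1.tensorMod J M₀, isInvertible_tensorMod hJ hM₀, ?_⟩
  rw [GenusOne.deg_iso K XK eT 1, GenusOne.deg_tensor_inv K XK hdimK hJ' hN, hdJ]
  ring

include hpb hdim hdimK in
/-- **S6487 (core)** -/
theorem main (L : XK.Modules) (hL : PicF.IsInvertible L)
    (hrat : ∀ U : X.Opens, (U : Set X).Nonempty →
      ∃ s : Spec (CommRingCat.of k) ⟶ X, s ≫ (X ↘ Spec (CommRingCat.of k)) = 𝟙 _ ∧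
        ∀ pt, s pt ∈ U)
    (hopen : IsOpenMap g) :
    ∃ L₀ : X.Modules, PicF.IsInvertible L₀ ∧
      Module.finrank K (Coh.HH XK (tw g L L₀) 0) = 1 ∧
      Subsingleton (Coh.HH XK (tw g L L₀) 1) := by
  obtain ⟨s, hs, -⟩ := hrat ⊤ ⟨genericPoint X, trivial⟩
  obtain ⟨pt⟩ : Nonempty (Spec (CommRingCat.of k)) := inferInstanceAs (Nonempty (PrimeSpectrum k))
  obtain ⟨ptK⟩ : Nonempty (Spec (CommRingCat.of K)) :=
    inferInstanceAs (Nonempty (PrimeSpectrum K))
  obtain ⟨hp, hq, hIp, hIq, hκ, -⟩ := rational_package hpb hdim hdimK s hs pt ptK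
  have h0 : Module.finrank K (Coh.HH XK (Coh.structureModule XK) 0) = 1 :=
    GenusOne.finrank_H0_eq_one_of_rational K XK _ hq hκ
  have hA : ∀ n : ℕ, ∃ M₀ : X.Modules, PicF.IsInvertible M₀ ∧
      Curv2.deg K XK (tw g L M₀) 1 =
        Curv2.deg K XK (tw g L (Coh.structureModule X)) 1 + n := by
    intro n
    induction n with
    | zero => exact ⟨_, GenLoc.isInvertible_O, by simp⟩
    | succ n ih =>
      obtain ⟨M₀, hM₀, hd⟩ := ih
      obtain ⟨M₁, hM₁, hd₁⟩ := up_step hpb hdim hdimK L hL M₀ hM₀ s hs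
      exact ⟨M₁, hM₁, by rw [hd₁, hd]; push_cast; ring⟩
  have hC : ∀ m : ℕ, ∀ M₀ : X.Modules, PicF.IsInvertible M₀ →
      (Module.finrank K (Coh.HH XK (tw g L M₀) 0) : ℤ) =
        Curv2.deg K XK (tw g L M₀) 1 + 1 - Curv2.genus K XK →
      Module.finrank K (Coh.HH XK (tw g L M₀) 0) = m + 1 →
      ∃ M₁ : X.Modules, PicF.IsInvertible M₁ ∧
        (Module.finrank K (Coh.HH XK (tw g L M₁) 0) : ℤ) =
          Curv2.deg K XK (tw g L M₁) 1 + 1 - Curv2.genus K XK ∧
        Module.finrank K (Coh.HH XK (tw g L M₁) 0) = 1 := by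
    intro m
    induction m with
    | zero =>
      intro M₀ hM₀ hinv hf
      exact ⟨M₀, hM₀, hinv, hf⟩
    | succ m ih =>
      intro M₀ hM₀ hinv hf
      obtain ⟨M₁, hM₁, hd₁, hf₁⟩ :=
        down_step hpb hdim hdimK L hL M₀ hM₀ (by omega) hrat hopen
      apply ih M₁ hM₁
      · rw [hd₁]
        have : (Module.finrank K (Coh.HH XK (tw g L M₁) 0) : ℤ) + 1 =
            Module.finrank K (Coh.HH XK (tw g L M₀) 0) := by exact_mod_cast hf₁
        linarith
      · omega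
  obtain ⟨M₀, hM₀, hd⟩ := hA (2 * (Curv2.genus K XK : ℤ) -
    Curv2.deg K XK (tw g L (Coh.structureModule X)) 1).toNat
  have hdge : 2 * (Curv2.genus K XK : ℤ) ≤ Curv2.deg K XK (tw g L M₀) 1 := by
    rw [hd]
    have := Int.self_le_toNat (2 * (Curv2.genus K XK : ℤ) -
      Curv2.deg K XK (tw g L (Coh.structureModule X)) 1)
    linarith
  have hN : PicF.IsInvertible (tw g L M₀) :=
    isInvertible_tensorMod hL (isInvertible_pullback g hM₀)
  haveI hH1 : Subsingleton (Coh.HH XK (tw g L M₀) 1) :=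
    subsingleton_H1_of_deg_ge K XK hdimK _ hN (by linarith)
  have hrr := rr K XK hdimK h0 _ hN
  have hb1 : Module.finrank K (Coh.HH XK (tw g L M₀) 1) = 0 :=
    Module.finrank_zero_of_subsingleton
  rw [hb1] at hrr
  push_cast at hrr
  have hpos : 1 ≤ Module.finrank K (Coh.HH XK (tw g L M₀) 0) := by
    have : (1 : ℤ) ≤ Module.finrank K (Coh.HH XK (tw g L M₀) 0) := by linarith
    exact_mod_cast this
  obtain ⟨M₁, hM₁, hinv₁, hf₁⟩ :=
    hC (Module.finrank K (Coh.HH XK (tw g L M₀) 0) - 1) M₀ hM₀ (by linarith) (by omega)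
  have hN₁ : PicF.IsInvertible (tw g L M₁) :=
    isInvertible_tensorMod hL (isInvertible_pullback g hM₁)
  exact ⟨M₁, hM₁, hf₁, subsingleton_H1_of_rr K XK hdimK h0 _ hN₁ hinv₁⟩

end Main

end Groth.Agent.Helper1.BCurve
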