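import Mathlib
import Groth.Agent.Lib.Helper1.SecOps

set_option autoImplicit false
universe u
open CategoryTheory CategoryTheory.Limits AlgebraicGeometry TopologicalSpace Opposite

namespace Groth.Agent.Helper1.BaseLoc

open Groth.Agent.Helper1.QcCech Groth.Agent.Helper1.SubSh Groth.Agent.Helper1.LGen
open Groth.Agent.Helper1.TmulLib Groth.Agent.Helper1 Groth.Agent.Helper1.TwistSec
open Groth.Agent.Helper1.TensGen Groth.Agent.Helper1.TwForm Groth.Agent.Helper1.AmpleLib
open Groth.Agent.Helper1.SecOps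

variable {X : Scheme.{u}}

/-- base locus of a module -/
def Bs (M : X.Modules) : Set X :=
  {x : X | ∀ s : Coh.structureModule X ⟶ M, x ∉ CohB1.genLocus M s}

/-- stable base locus -/
def B (L : X.Modules) : Set X :=
  {x : X | ∀ m : ℕ, 0 < m → ∀ s : Coh.structureModule X ⟶ CohB1.tensorPow L m,
    x ∉ CohB1.genLocus (CohB1.tensorPow L m) s}

theorem B_eq_iInter (L : X.Modules) : B L = ⋂ (m : ℕ) (_ : 0 < m), Bs (CohB1.tensorPow L m) := by
  ext x
  simp [B, Bs]

theorem isClosed_Bs (M : X.Modules) : IsClosed (Bs M) := by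
  have : Bs M = (⋃ s : Coh.structureModule X ⟶ M, (CohB1.genLocus M s : Set X))ᶜ := by
    ext x
    simp [Bs]
  rw [this, isClosed_compl_iff]
  exact isOpen_iUnion fun s => (CohB1.genLocus M s).isOpen

theorem Bs_of_iso {M M' : X.Modules} (e : M ≅ M') : Bs M = Bs M' := by
  ext x
  constructor
  · intro h s hx
    have := TwistAmple.genLocus_comp_iso s e.symm
    exact h (s ≫ e.inv) (by rw [show e.inv = e.symm.hom from rfl, this]; exact hx)
  · intro h s hx
    have := TwistAmple.genLocus_comp_iso s e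
    exact h (s ≫ e.hom) (by rw [this]; exact hx)

variable {L : X.Modules} (hL : PicF.IsInvertible L)
include hL

/-- base loci of multiples are smaller -/
theorem Bs_mul_subset (m k : ℕ) (hk : 0 < k) :
    Bs (CohB1.tensorPow L (m * k)) ⊆ Bs (CohB1.tensorPow L m) := by
  intro x hx s hxs
  exact hx (ppow hL s k) (by rw [genLocus_ppow hL s k hk]; exact hxs)

/-- **the stable base locus of a power** -/
theorem B_tensorPow (p : ℕ) (hp : 0 < p) : B (CohB1.tensorPow L p) = B L := by
  ext x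
  constructor
  · intro h m hm s hxs
    have e := powIso' hL p m
    refine h m hm (pcast (Nat.mul_comm m p) (ppow hL s p) ≫ e.inv) ?_
    rw [show e.inv = e.symm.hom from rfl, TwistAmple.genLocus_comp_iso, genLocus_pcast,
      genLocus_ppow hL s p hp]
    exact hxs
  · intro h m hm s hxs
    have e := powIso' hL p m
    refine h (p * m) (Nat.mul_pos hp hm) (s ≫ e.hom) ?_
    rw [TwistAmple.genLocus_comp_iso]
    exact hxs

/-- on a Noetherian space, the stable base locus is the base locus of some power -/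
theorem exists_B_eq_Bs [NoetherianSpace X] :
    ∃ n₀ : ℕ, 0 < n₀ ∧ B L = Bs (CohB1.tensorPow L n₀) := by
  let C : ℕ → Closeds X := fun m => ⟨Bs (CohB1.tensorPow L (m + 1)), isClosed_Bs _⟩
  obtain ⟨_, ⟨n, rfl⟩, hmin⟩ :=
    (wellFounded_lt (α := Closeds X)).has_min (Set.range C) ⟨C 0, 0, rfl⟩
  refine ⟨n + 1, Nat.succ_pos n, ?_⟩
  apply Set.Subset.antisymm
  · intro x hx
    exact hx (n + 1) (Nat.succ_pos n)
  · intro x hx m hm
    obtain ⟨m', rfl⟩ : ∃ m', m = m' + 1 := ⟨m - 1, by omega⟩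
    -- the base locus of the product of the exponents
    have h1 : Bs (CohB1.tensorPow L ((n + 1) * (m' + 1))) ⊆ Bs (CohB1.tensorPow L (n + 1)) :=
      Bs_mul_subset hL (n + 1) (m' + 1) (Nat.succ_pos m')
    have h2 : Bs (CohB1.tensorPow L ((n + 1) * (m' + 1))) ⊆ Bs (CohB1.tensorPow L (m' + 1)) := by
      rw [Nat.mul_comm]
      exact Bs_mul_subset hL (m' + 1) (n + 1) (Nat.succ_pos n)
    have h3 : (n + 1) * (m' + 1) = (n * m' + n + m') + 1 := by ring
    have h4 : ¬ C (n * m' + n + m') < C n := hmin _ ⟨_, rfl⟩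
    have h5 : C (n * m' + n + m') ≤ C n := by
      change Bs _ ⊆ Bs _
      rw [← h3]; exact h1
    have h6 : C n ≤ C (n * m' + n + m') := by
      by_contra hne
      exact h4 (lt_of_le_not_ge h5 hne)
    have h7 : x ∈ Bs (CohB1.tensorPow L ((n * m' + n + m') + 1)) := h6 hx
    rw [← h3] at h7
    exact h2 h7

/-- **S17580-type statement** -/
theorem exists_B_eq_Bs_mul [NoetherianSpace X] :
    ∃ n₀ : ℕ, 0 < n₀ ∧ ∀ k : ℕ, 0 < k → B L = Bs (CohB1.tensorPow L (k * n₀)) := by
  obtain ⟨n₀, hn₀, h⟩ := exists_B_eq_Bs hL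
  refine ⟨n₀, hn₀, fun k hk => ?_⟩
  apply Set.Subset.antisymm
  · intro x hx
    exact hx (k * n₀) (Nat.mul_pos hk hn₀)
  · rw [h, Nat.mul_comm]
    exact Bs_mul_subset hL n₀ k hk

/-- **S17581-type statement** -/
theorem Bs_minimal_iff [NoetherianSpace X] (m : ℕ) (hm : 0 < m) :
    (∀ m' : ℕ, 0 < m' → Bs (CohB1.tensorPow L m') ⊆ Bs (CohB1.tensorPow L m) →
      Bs (CohB1.tensorPow L m') = Bs (CohB1.tensorPow L m)) ↔
    Bs (CohB1.tensorPow L m) = B L := by
  obtain ⟨n₀, hn₀, h⟩ := exists_B_eq_Bs hL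
  have hB : B L ⊆ Bs (CohB1.tensorPow L m) := fun x hx => hx m hm
  constructor
  · intro hmin
    apply Set.Subset.antisymm _ hB
    have h1 := hmin (m * n₀) (Nat.mul_pos hm hn₀) (Bs_mul_subset hL m n₀ hn₀)
    rw [← h1, h, Nat.mul_comm]
    exact Bs_mul_subset hL n₀ m hm
  · intro heq m' hm' hsub
    apply Set.Subset.antisymm hsub
    rw [heq]
    exact fun x hx => hx m' hm'

end Groth.Agent.Helper1.BaseLoc
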