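import Mathlib

/-!
# An eigenvalue lemma over local rings with algebraically closed coefficient field (helper1)
-/

set_option autoImplicit false
universe u

namespace Groth.Agent.Helper1.Simple

open IsLocalRing

section Alg

variable {k R M : Type*} [Field k] [IsAlgClosed k] [CommRing R] [IsLocalRing R]
  [AddCommGroup M] [Module R M] [Module.Finite R M] [Nontrivial M]

/-- Let `R` be a local ring with a coefficient field `k` (algebraically closed) and `M` a nonzero
finite `R`-module. Every endomorphism of `M` has an "eigenvalue": some `f - c` is not surjective. -/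
theorem exists_not_surjective_sub_smul (ι : k →+* R)
    (H : ∀ r : R, ∃ c : k, r - ι c ∈ maximalIdeal R) (f : M →ₗ[R] M) :
    ∃ c : k, ¬ Function.Surjective (f - ι c • (LinearMap.id : M →ₗ[R] M)) := by
  classical
  set N : Submodule R M := maximalIdeal R • (⊤ : Submodule R M) with hN
  letI : Module k (M ⧸ N) := Module.compHom (M ⧸ N) ι
  have hsm : ∀ (c : k) (v : M ⧸ N), c • v = ι c • v := fun _ _ => rfl
  -- elements of the maximal ideal kill the quotient
  have hkill : ∀ (μ : R), μ ∈ maximalIdeal R → ∀ v : M ⧸ N, μ • v = 0 := by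
    intro μ hμ v
    obtain ⟨x, rfl⟩ := Submodule.Quotient.mk_surjective N v
    rw [← Submodule.Quotient.mk_smul, Submodule.Quotient.mk_eq_zero]
    exact Submodule.smul_mem_smul hμ Submodule.mem_top
  have hRk : ∀ (r : R) (v : M ⧸ N), ∃ c : k, r • v = c • v := by
    intro r v
    obtain ⟨c, hc⟩ := H r
    refine ⟨c, ?_⟩
    have := hkill _ hc v
    rw [sub_smul, sub_eq_zero] at this
    rw [this, hsm]
  -- finite dimensionality
  haveI : FiniteDimensional k (M ⧸ N) := by
    obtain ⟨S, hS⟩ := (Module.Finite.fg_top : (⊤ : Submodule R (M ⧸ N)).FG)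
    refine ⟨⟨S, ?_⟩⟩
    rw [eq_top_iff]
    rintro v -
    have hv : v ∈ Submodule.span R (S : Set (M ⧸ N)) := hS ▸ Submodule.mem_top
    induction hv using Submodule.span_induction with
    | mem x hx => exact Submodule.subset_span hx
    | zero => exact Submodule.zero_mem _
    | add x y _ _ hx hy => exact Submodule.add_mem _ hx hy
    | smul r x _ hx =>
      obtain ⟨c, hc⟩ := hRk r x
      rw [hc]
      exact Submodule.smul_mem _ c hx
  -- nontriviality (Nakayama)
  haveI : Nontrivial (M ⧸ N) := by
    rw [Submodule.Quotient.nontrivial_iff]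
    intro htop
    have h1 : (⊤ : Submodule R M) = ⊥ :=
      Submodule.eq_bot_of_le_smul_of_le_jacobson_bot (maximalIdeal R) ⊤ Module.Finite.fg_top
        (by rw [← hN, htop]) (IsLocalRing.maximalIdeal_le_jacobson ⊥)
    exact top_ne_bot h1
  -- the induced endomorphism
  have hfN : N ≤ N.comap f := by
    rw [← Submodule.map_le_iff_le_comap, hN, Submodule.map_smul'']
    exact Submodule.smul_mono le_rfl le_top
  let fR : (M ⧸ N) →ₗ[R] (M ⧸ N) := N.mapQ N f hfN
  let fk : Module.End k (M ⧸ N) :=
    { toFun := fR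
      map_add' := fR.map_add
      map_smul' := fun c v => fR.map_smul (ι c) v }
  obtain ⟨c, hc⟩ := Module.End.exists_eigenvalue fk
  obtain ⟨v, hv⟩ := hc.exists_hasEigenvector
  refine ⟨c, fun hsurj => ?_⟩
  -- the induced map of `f - c` is `fk - c`, which kills `v`, so is not surjective
  have hker : (fk - c • (LinearMap.id : (M ⧸ N) →ₗ[k] (M ⧸ N))) v = 0 := by
    rw [LinearMap.sub_apply, LinearMap.smul_apply, LinearMap.id_apply, hv.apply_eq_smul, sub_self]
  have hninj : ¬ Function.Injective (fk - c • (LinearMap.id : (M ⧸ N) →ₗ[k] (M ⧸ N))) := by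
    intro hinj
    exact hv.2 (hinj (hker.trans (map_zero _).symm))
  apply hninj
  rw [LinearMap.injective_iff_surjective]
  intro w
  obtain ⟨y, rfl⟩ := Submodule.Quotient.mk_surjective N w
  obtain ⟨z, rfl⟩ := hsurj y
  refine ⟨Submodule.Quotient.mk z, ?_⟩
  rw [LinearMap.sub_apply, LinearMap.smul_apply, LinearMap.id_apply, hsm]
  change fR (Submodule.Quotient.mk z) - ι c • Submodule.Quotient.mk z = _
  rw [Submodule.mapQ_apply, ← Submodule.Quotient.mk_smul, ← Submodule.Quotient.mk_sub]
  rfl

end Alg

end Groth.Agent.Helper1.Simple
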