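import Mathlib
import Groth.Agent.Lib.Helper1.Simple1
import Groth.Agent.Lib.Helper1.VB5
import Groth.Agent.Lib.Helper1.VB3
import Groth.Prelude.Def_KLin
import Groth.Prelude.Def_Curve
import Groth.Prelude.Def_ModFun2

/-!
# Stable bundles on curves over an algebraically closed field are simple (helper1)
-/

set_option autoImplicit false
universe u
open CategoryTheory CategoryTheory.Limits AlgebraicGeometry TopologicalSpace Opposite

namespace Groth.Agent.Helper1.Simple

open Groth.Agent.Helper1.Dv Groth.Agent.Lib.Helper5.StalkAdj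

section Stalk

variable {X : Scheme.{u}}

/-- the stalk of multiplication by a global function -/
theorem stalkL_smulModΓ (E : X.Modules) (r : Coh.Γtop X) (x : X) (a : E.presheaf.stalk x) :
    stalkL (Formal.smulModΓ E r) x a =
      (X.presheaf.germ ⊤ x trivial r : X.presheaf.stalk x) • a := by
  obtain ⟨U, hxU, s, rfl⟩ := TopCat.Presheaf.exists_germ_eq E.presheaf (x := x) a
  rw [stalkL_germ, KLin.smulModΓ_app_apply]
  have h1 := PresheafOfModules.germ_smul (R := X.presheaf) E.val x U hxU
    (X.presheaf.map (homOfLE (le_top : U ≤ ⊤)).op r) s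
  refine h1.trans ?_
  congr 1
  exact TopCat.Presheaf.germ_res_apply X.presheaf (homOfLE (le_top : U ≤ ⊤)) x hxU r

theorem stalkL_sub {E F : X.Modules} (φ ψ : E ⟶ F) (x : X) :
    stalkL (φ - ψ) x = stalkL φ x - stalkL ψ x := by
  ext a
  obtain ⟨U, hxU, s, rfl⟩ := TopCat.Presheaf.exists_germ_eq E.presheaf (x := x) a
  rw [LinearMap.sub_apply, stalkL_germ, stalkL_germ, stalkL_germ, ← map_sub]
  rfl

end Stalk

section Point

variable (k : Type u) [Field k] {X : Scheme.{u}} (f : X ⟶ Spec (CommRingCat.of k))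

/-- a scheme locally of finite type over an algebraically closed field has a rational point -/
theorem exists_section [IsAlgClosed k] [LocallyOfFiniteType f] [Nonempty X] :
    ∃ p : Spec (CommRingCat.of k) ⟶ X, p ≫ f = 𝟙 _ := by
  haveI : JacobsonSpace X := LocallyOfFiniteType.jacobsonSpace f
  obtain ⟨x, -, hx⟩ := nonempty_inter_closedPoints (X := X) (Z := Set.univ) Set.univ_nonempty
    isOpen_univ.isLocallyClosed
  exact ⟨pointOfClosedPoint f x hx, pointOfClosedPoint_comp f x hx⟩

/-- the coefficient field `k → O_{X,x}` -/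
noncomputable def coeff (x : X) : k →+* X.presheaf.stalk x :=
  (X.presheaf.germ ⊤ x trivial).hom.comp (Coh.toGlobal f)

/-- at a rational point the local ring is `k + 𝔪` -/
theorem exists_sub_mem_maximalIdeal (p : Spec (CommRingCat.of k) ⟶ X) (hp : p ≫ f = 𝟙 _)
    (r : X.presheaf.stalk (p.base (IsLocalRing.closedPoint k))) :
    ∃ c : k, r - coeff k f (p.base (IsLocalRing.closedPoint k)) c ∈
      IsLocalRing.maximalIdeal (X.presheaf.stalk (p.base (IsLocalRing.closedPoint k))) := by
  let π := (p.stalkMap (IsLocalRing.closedPoint k)).hom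
  let e := stalkClosedPointIso (CommRingCat.of k)
  refine ⟨e.hom (π r), ?_⟩
  have h1 : ∀ c : k, π (coeff k f (p.base (IsLocalRing.closedPoint k)) c) = e.inv c := by
    intro c
    unfold coeff Coh.toGlobal
    simp only [RingHom.coe_comp, Function.comp_apply]
    have h2 := Scheme.Hom.germ_stalkMap_apply p ⊤ (IsLocalRing.closedPoint k) trivial
      (f.appTop.hom ((Scheme.ΓSpecIso (CommRingCat.of k)).inv.hom c))
    refine h2.trans ?_
    have h3 : p.app ⊤ (f.appTop.hom ((Scheme.ΓSpecIso (CommRingCat.of k)).inv.hom c)) =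
        (Scheme.ΓSpecIso (CommRingCat.of k)).inv.hom c := by
      have := congrArg (fun g : Spec (CommRingCat.of k) ⟶ Spec (CommRingCat.of k) =>
        g.appTop.hom ((Scheme.ΓSpecIso (CommRingCat.of k)).inv.hom c)) hp
      simp only [Scheme.Hom.comp_appTop, Scheme.Hom.id_appTop, CommRingCat.hom_comp, RingHom.coe_comp,
        Function.comp_apply, CommRingCat.hom_id, RingHom.id_apply] at this
      exact this
    rw [h3]
    have h4 := congrArg (fun g => g.hom ((Scheme.ΓSpecIso (CommRingCat.of k)).inv.hom c))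
      (ΓSpecIso_hom_stalkClosedPointIso_inv (CommRingCat.of k))
    simp only [CommRingCat.hom_comp, RingHom.coe_comp, Function.comp_apply] at h4
    refine h4.symm.trans ?_
    congr 1
    exact congrArg (fun g => g.hom c) (Scheme.ΓSpecIso (CommRingCat.of k)).inv_hom_id
  have h5 : π (r - coeff k f (p.base (IsLocalRing.closedPoint k)) (e.hom (π r))) = 0 := by
    rw [map_sub, h1, sub_eq_zero]
    exact (congrArg (fun g => g.hom (π r)) e.hom_inv_id).symm
  by_contra hmem
  rw [IsLocalRing.mem_maximalIdeal, mem_nonunits_iff, not_not] at hmem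
  have := hmem.map π
  rw [h5] at this
  exact not_isUnit_zero this

end Point

section Main

open Groth.Agent.Helper1.FinLen Groth.Agent.Lib.Helper5.StalkFree

variable (k : Type u) [Field k] [IsAlgClosed k] (X : Scheme.{u}) [X.Over (Spec (CommRingCat.of k))]
  [IsIntegral X] [IsProper (X ↘ Spec (CommRingCat.of k))] [Smooth (X ↘ Spec (CommRingCat.of k))]

/-- stable bundles are simple -/
theorem endo_eq_smulMod (hdim : topologicalKrullDim X = 1) (r : ℕ) (hr : 0 < r) (E : X.Modules)
    (hE : FlatMod.IsFinLocFreeOfRank r E)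
    (hst : ∀ (G : X.Modules) (s : ℕ) (i : G ⟶ E), Mono i → FlatMod.IsFinLocFreeOfRank s G →
      0 < s → s < r → Curv2.deg k X G s * (r : ℤ) < Curv2.deg k X E r * (s : ℤ))
    (φ : E ⟶ E) : ∃ c : k, φ = Formal.smulMod k E c := by
  have hX : ∀ x : X, ValuationRing (X.presheaf.stalk x) := fun x =>
    VB5.valuationRing_stalk_of_smooth k (X ↘ Spec (CommRingCat.of k)) hdim.le x
  obtain ⟨p, hp⟩ := exists_section k (X ↘ Spec (CommRingCat.of k))
  have hff := free_finite_stalk_of_isFinLocFree E (isFinLocFree_of_rank hE)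
    (p.base (IsLocalRing.closedPoint k))
  haveI : Module.Finite (X.presheaf.stalk (p.base (IsLocalRing.closedPoint k)))
      (E.presheaf.stalk (p.base (IsLocalRing.closedPoint k))) := hff.2
  haveI : Module.Free (X.presheaf.stalk (p.base (IsLocalRing.closedPoint k)))
      (E.presheaf.stalk (p.base (IsLocalRing.closedPoint k))) := hff.1
  haveI : Nontrivial (E.presheaf.stalk (p.base (IsLocalRing.closedPoint k))) := by
    have h := finrank_stalk_of_rank hE (p.base (IsLocalRing.closedPoint k))
    exact Module.nontrivial_of_finrank_pos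
      (R := X.presheaf.stalk (p.base (IsLocalRing.closedPoint k))) (h ▸ hr)
  obtain ⟨c, hc⟩ := exists_not_surjective_sub_smul
    (coeff k (X ↘ Spec (CommRingCat.of k)) (p.base (IsLocalRing.closedPoint k)))
    (exists_sub_mem_maximalIdeal k (X ↘ Spec (CommRingCat.of k)) p hp)
    (stalkL φ (p.base (IsLocalRing.closedPoint k)))
  refine ⟨c, ?_⟩
  by_contra hne
  have hψ : φ - Formal.smulMod k E c ≠ 0 := sub_ne_zero.mpr hne
  haveI := VB.isIso_of_ne_zero_endomorphism_of_stable k X hdim hX hE hst _ hψ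
  have hb := stalkL_bijective_of_isIso (φ - Formal.smulMod k E c)
    (p.base (IsLocalRing.closedPoint k))
  apply hc
  have h1 : stalkL (φ - Formal.smulMod k E c) (p.base (IsLocalRing.closedPoint k)) =
      stalkL φ (p.base (IsLocalRing.closedPoint k)) -
        coeff k (X ↘ Spec (CommRingCat.of k)) (p.base (IsLocalRing.closedPoint k)) c •
          LinearMap.id := by
    rw [stalkL_sub]
    congr 1
    ext a
    exact stalkL_smulModΓ E _ _ a
  rw [← h1]
  exact hb.2

omit [IsAlgClosed k] [IsIntegral X] [IsProper (X ↘ Spec (CommRingCat.of k))]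
  [Smooth (X ↘ Spec (CommRingCat.of k))] in
theorem toSheaf_map_smulMod (E : X.Modules) (c : k) :
    (SheafOfModules.toSheaf X.ringCatSheaf).map (Formal.smulMod k E c) =
      Coh.smulAb E (Coh.toGlobal (X ↘ Spec (CommRingCat.of k)) c) := rfl

/-- S11811 / S15334 form -/
theorem endo_eq_smulAb (hdim : topologicalKrullDim X = 1) (r : ℕ) (hr : 0 < r) (E : X.Modules)
    (hE : FlatMod.IsFinLocFreeOfRank r E)
    (hst : ∀ (F : X.Modules) (r' : ℕ) (i : F ⟶ E), Mono i → 0 < r' → r' < r →
      FlatMod.IsFinLocFreeOfRank r' F →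
      Curv2.deg k X F r' * (r : ℤ) < Curv2.deg k X E r * (r' : ℤ))
    (φ : E ⟶ E) :
    ∃ c : k, (SheafOfModules.toSheaf X.ringCatSheaf).map φ =
      Coh.smulAb E (Coh.toGlobal (X ↘ Spec (CommRingCat.of k)) c) := by
  obtain ⟨c, hc⟩ := endo_eq_smulMod k X hdim r hr E hE
    (fun G s i hi hG hs hsr => hst G s i hi hs hsr hG) φ
  exact ⟨c, hc ▸ toSheaf_map_smulMod k X E c⟩

/-- S19668 form -/
theorem endo_eq_smul_id (hdim : topologicalKrullDim X = 1) (r : ℕ) (E : X.Modules)
    (hE : FlatMod.IsFinLocFreeOfRank r E)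
    (hst : ∀ (G : X.Modules) (s : ℕ) (i : G ⟶ E), Mono i → FlatMod.IsFinLocFreeOfRank s G →
      0 < s → s < r → Curv2.deg k X G s * (r : ℤ) < Curv2.deg k X E r * (s : ℤ))
    (φ : E ⟶ E) : ∃ a : k, φ = a • 𝟙 E := by
  rcases Nat.eq_zero_or_pos r with h0 | hr
  · subst h0
    exact ⟨0, (VB.isZero_of_rank_zero hE).eq_of_src _ _⟩
  · obtain ⟨c, hc⟩ := endo_eq_smulMod k X hdim r hr E hE hst φ
    exact ⟨c, hc.trans (KLin.smul_id E c).symm⟩

end Main

end Groth.Agent.Helper1.Simple
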