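import Mathlib
import Groth.Agent.Lib.Helper1.VB5
import Groth.Agent.Lib.Helper1.VB3

/-!
# Extensions of semistable bundles of the same slope (helper1)
-/

set_option autoImplicit false
universe u v
open CategoryTheory CategoryTheory.Limits AlgebraicGeometry TopologicalSpace Opposite

namespace Groth.Agent.Helper1.SemiExt

section Abelian

variable {C : Type u} [Category.{v} C] [Abelian C] (T : ShortComplex C) (hT : T.ShortExact)
  {G : C} (i : G ⟶ T.X₃) [Mono i]

/-- the inclusion of the kernel into the preimage of a subobject of the quotient -/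
noncomputable def jP : T.X₁ ⟶ pullback T.g i :=
  pullback.lift T.f 0 (by rw [T.zero, zero_comp])

theorem jP_fst : jP T i ≫ pullback.fst T.g i = T.f := pullback.lift_fst _ _ _

theorem jP_snd : jP T i ≫ pullback.snd T.g i = 0 := pullback.lift_snd _ _ _

/-- `0 → X₁ → g⁻¹(G) → G → 0` -/
noncomputable def SP : ShortComplex C :=
  ShortComplex.mk (jP T i) (pullback.snd T.g i) (jP_snd T i)

include hT in
theorem SP_shortExact : (SP T i).ShortExact := by
  haveI := hT.mono_f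
  haveI := hT.epi_g
  haveI hm : Mono (jP T i) := by
    haveI : Mono (jP T i ≫ pullback.fst T.g i) := by rw [jP_fst]; infer_instance
    exact mono_of_mono (jP T i) (pullback.fst T.g i)
  haveI : Mono (SP T i).f := hm
  haveI : Epi (SP T i).g := inferInstanceAs (Epi (pullback.snd T.g i))
  refine { exact := ?_ }
  refine ShortComplex.exact_of_f_is_kernel _ ?_
  have key : ∀ {A : C} (a : A ⟶ pullback T.g i), a ≫ pullback.snd T.g i = 0 →
      (a ≫ pullback.fst T.g i) ≫ T.g = 0 := by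
    intro A a ha
    rw [Category.assoc, pullback.condition, ← Category.assoc, ha, zero_comp]
  refine KernelFork.IsLimit.ofι (jP T i) (jP_snd T i)
    (fun a ha => hT.exact.lift (a ≫ pullback.fst T.g i) (key a ha)) ?_ ?_
  · intro A a ha
    apply pullback.hom_ext
    · rw [Category.assoc, jP_fst, ShortComplex.Exact.lift_f]
    · rw [Category.assoc, jP_snd, comp_zero, ha]
  · intro A a ha b hb
    rw [← cancel_mono (jP T i)]
    apply pullback.hom_ext
    · rw [Category.assoc, Category.assoc, jP_fst, ShortComplex.Exact.lift_f, ← hb, Category.assoc,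
        jP_fst]
    · rw [Category.assoc, Category.assoc, jP_snd, comp_zero, comp_zero]

/-- `0 → g⁻¹(G) → X₂ → X₃/G` -/
noncomputable def SQ : ShortComplex C :=
  ShortComplex.mk (pullback.fst T.g i) (T.g ≫ cokernel.π i) (by
    rw [← Category.assoc, pullback.condition, Category.assoc, cokernel.condition, comp_zero])

theorem SQ_exact : (SQ T i).Exact := by
  refine ShortComplex.exact_of_f_is_kernel _ ?_
  have key : ∀ {A : C} (a : A ⟶ T.X₂), a ≫ T.g ≫ cokernel.π i = 0 →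
      (a ≫ T.g) ≫ cokernel.π i = 0 := by
    intro A a ha
    rw [Category.assoc, ha]
  refine KernelFork.IsLimit.ofι (pullback.fst T.g i) (SQ T i).zero
    (fun a ha => pullback.lift a (Abelian.monoLift i (a ≫ T.g) (key a ha))
      (by rw [Abelian.monoLift_comp])) ?_ ?_
  · intro A a ha
    exact pullback.lift_fst _ _ _
  · intro A a ha b hb
    rw [← cancel_mono (pullback.fst T.g i), pullback.lift_fst]
    exact hb

end Abelian

section Curve

open Groth.Agent.Helper1.VB Groth.Agent.Helper1.Euler Groth.Agent.Helper1.FinLen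

variable (k : Type u) [Field k] (X : Scheme.{u}) [X.Over (Spec (CommRingCat.of k))]
  [IsProper (X ↘ (Spec (CommRingCat.of k)))] [IsIntegral X]

/-- the preimage of a subbundle of the quotient is a subbundle; its rank and degree -/
theorem preimage_locFree (hX : ∀ x : X, ValuationRing (X.presheaf.stalk x))
    (T : ShortComplex X.Modules) (hT : T.ShortExact) {r₁ r r₂ r' : ℕ}
    (hE₁ : FlatMod.IsFinLocFreeOfRank r₁ T.X₁) (hE : FlatMod.IsFinLocFreeOfRank r T.X₂)
    (hE₂ : FlatMod.IsFinLocFreeOfRank r₂ T.X₃) {G : X.Modules} (i : G ⟶ T.X₃) [Mono i]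
    (hG : FlatMod.IsFinLocFreeOfRank r' G) :
    FlatMod.IsFinLocFreeOfRank (r₁ + r') (pullback T.g i) ∧
      Curv2.deg k X (pullback T.g i) (r₁ + r') = Curv2.deg k X T.X₁ r₁ + Curv2.deg k X G r' := by
  haveI : T.X₂.IsQuasicoherent :=
    (Groth.Agent.Lib.Helper5.LocalCoh.isCoh_of_isFinLocFree _ (isFinLocFree_of_rank hE)).1
  haveI : T.X₃.IsQuasicoherent :=
    (Groth.Agent.Lib.Helper5.LocalCoh.isCoh_of_isFinLocFree _ (isFinLocFree_of_rank hE₂)).1
  haveI : G.IsQuasicoherent :=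
    (Groth.Agent.Lib.Helper5.LocalCoh.isCoh_of_isFinLocFree _ (isFinLocFree_of_rank hG)).1
  haveI : (cokernel i).IsQuasicoherent := QcAbel.isQuasicoherent_cokernel i
  haveI : Mono (SQ T i).f := inferInstanceAs (Mono (pullback.fst T.g i))
  haveI : (SQ T i).X₂.IsQuasicoherent := inferInstanceAs (T.X₂.IsQuasicoherent)
  haveI : (SQ T i).X₃.IsQuasicoherent := inferInstanceAs ((cokernel i).IsQuasicoherent)
  haveI : (pullback T.g i).IsQuasicoherent := QcAbel.isQuasicoherent_left (SQ_exact T i)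
  obtain ⟨rP, hP, -⟩ := sub_locFree k X hX hE (pullback.fst T.g i)
  have hr : rP = r₁ + r' :=
    rank_add_of_shortExact (genericPoint X) (SP T i) (SP_shortExact T hT i) r₁ rP r' hE₁ hP hG
  subst hr
  exact ⟨hP, deg_additive k X (SP T i) (SP_shortExact T hT i) r₁ (r₁ + r') r' hE₁ hP hG⟩

omit [IsProper (X ↘ (Spec (CommRingCat.of k)))] [IsIntegral X] in
theorem deg_zero_of_rank_zero {K : X.Modules} (hK : FlatMod.IsFinLocFreeOfRank 0 K) :
    Curv2.deg k X K 0 = 0 := by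
  unfold Curv2.deg
  rw [euler_of_isZero k X (isZero_of_rank_zero hK)]
  simp

/-- S14139 -/
theorem semistable_ext_iff (hX : ∀ x : X, ValuationRing (X.presheaf.stalk x))
    (T : ShortComplex X.Modules) (hT : T.ShortExact)
    (r₁ r r₂ : ℕ) (hr₁ : 0 < r₁) (hr : 0 < r) (hr₂ : 0 < r₂)
    (hE₁ : FlatMod.IsFinLocFreeOfRank r₁ T.X₁) (hE : FlatMod.IsFinLocFreeOfRank r T.X₂)
    (hE₂ : FlatMod.IsFinLocFreeOfRank r₂ T.X₃)
    (hμ₁ : Curv2.deg k X T.X₁ r₁ * (r : ℤ) = Curv2.deg k X T.X₂ r * (r₁ : ℤ))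
    (hμ₂ : Curv2.deg k X T.X₃ r₂ * (r : ℤ) = Curv2.deg k X T.X₂ r * (r₂ : ℤ)) :
    (∀ (G : X.Modules) (r' : ℕ) (i : G ⟶ T.X₂), Mono i → 0 < r' → FlatMod.IsFinLocFreeOfRank r' G →
      Curv2.deg k X G r' * (r : ℤ) ≤ Curv2.deg k X T.X₂ r * (r' : ℤ)) ↔
      ((∀ (G : X.Modules) (r' : ℕ) (i : G ⟶ T.X₁), Mono i → 0 < r' → FlatMod.IsFinLocFreeOfRank r' G →
      Curv2.deg k X G r' * (r₁ : ℤ) ≤ Curv2.deg k X T.X₁ r₁ * (r' : ℤ)) ∧
       (∀ (G : X.Modules) (r' : ℕ) (i : G ⟶ T.X₃), Mono i → 0 < r' → FlatMod.IsFinLocFreeOfRank r' G →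
      Curv2.deg k X G r' * (r₂ : ℤ) ≤ Curv2.deg k X T.X₃ r₂ * (r' : ℤ))) := by
  haveI := hT.mono_f
  haveI := hT.epi_g
  have hrZ : (0 : ℤ) < (r : ℤ) := by exact_mod_cast hr
  have hr₁Z : (0 : ℤ) < (r₁ : ℤ) := by exact_mod_cast hr₁
  have hr₂Z : (0 : ℤ) < (r₂ : ℤ) := by exact_mod_cast hr₂
  constructor
  · intro h
    constructor
    · intro G r' i hi hr' hG
      haveI := hi
      have h1 := h G r' (i ≫ T.f) (mono_comp _ _) hr' hG
      apply le_of_mul_le_mul_right _ hrZ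
      calc Curv2.deg k X G r' * (r₁ : ℤ) * (r : ℤ)
          = Curv2.deg k X G r' * (r : ℤ) * (r₁ : ℤ) := by ring
        _ ≤ Curv2.deg k X T.X₂ r * (r' : ℤ) * (r₁ : ℤ) :=
            mul_le_mul_of_nonneg_right h1 hr₁Z.le
        _ = Curv2.deg k X T.X₂ r * (r₁ : ℤ) * (r' : ℤ) := by ring
        _ = Curv2.deg k X T.X₁ r₁ * (r : ℤ) * (r' : ℤ) := by rw [hμ₁]
        _ = Curv2.deg k X T.X₁ r₁ * (r' : ℤ) * (r : ℤ) := by ring
    · intro G r' i hi hr' hG
      haveI := hi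
      obtain ⟨hP, hdeg⟩ := preimage_locFree k X hX T hT hE₁ hE hE₂ i hG
      have h1 := h (pullback T.g i) (r₁ + r') (pullback.fst T.g i) inferInstance (by omega) hP
      rw [hdeg] at h1
      push_cast at h1
      have h2 : Curv2.deg k X G r' * (r : ℤ) ≤ Curv2.deg k X T.X₂ r * (r' : ℤ) := by
        linarith
      apply le_of_mul_le_mul_right _ hrZ
      calc Curv2.deg k X G r' * (r₂ : ℤ) * (r : ℤ)
          = Curv2.deg k X G r' * (r : ℤ) * (r₂ : ℤ) := by ring
        _ ≤ Curv2.deg k X T.X₂ r * (r' : ℤ) * (r₂ : ℤ) :=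
            mul_le_mul_of_nonneg_right h2 hr₂Z.le
        _ = Curv2.deg k X T.X₂ r * (r₂ : ℤ) * (r' : ℤ) := by ring
        _ = Curv2.deg k X T.X₃ r₂ * (r : ℤ) * (r' : ℤ) := by rw [hμ₂]
        _ = Curv2.deg k X T.X₃ r₂ * (r' : ℤ) * (r : ℤ) := by ring
  · rintro ⟨h₁, h₂⟩ G r' i hi hr' hG
    haveI := hi
    obtain ⟨rK, rI, hK, hI, hrr, -, hdeg, -⟩ := ker_im k X hX hG hE₂ (i ≫ T.g)
    -- the kernel maps into `E₁`
    have hz : (kernel.ι (i ≫ T.g) ≫ i) ≫ T.g = 0 := by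
      rw [Category.assoc, kernel.condition]
    let κ : kernel (i ≫ T.g) ⟶ T.X₁ := hT.exact.lift (kernel.ι (i ≫ T.g) ≫ i) hz
    have hκ : κ ≫ T.f = kernel.ι (i ≫ T.g) ≫ i := ShortComplex.Exact.lift_f _ _ _
    haveI : Mono κ := by
      haveI : Mono (κ ≫ T.f) := by rw [hκ]; exact mono_comp _ _
      exact mono_of_mono κ T.f
    have hKle : Curv2.deg k X (kernel (i ≫ T.g)) rK * (r₁ : ℤ) ≤
        Curv2.deg k X T.X₁ r₁ * (rK : ℤ) := by
      rcases Nat.eq_zero_or_pos rK with h0 | hpos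
      · subst h0
        rw [deg_zero_of_rank_zero k X hK]
        simp
      · exact h₁ _ rK κ inferInstance hpos hK
    have hIle : Curv2.deg k X (Abelian.image (i ≫ T.g)) rI * (r₂ : ℤ) ≤
        Curv2.deg k X T.X₃ r₂ * (rI : ℤ) := by
      rcases Nat.eq_zero_or_pos rI with h0 | hpos
      · subst h0
        rw [deg_zero_of_rank_zero k X hI]
        simp
      · exact h₂ _ rI (Abelian.image.ι (i ≫ T.g)) inferInstance hpos hI
    have hK' : Curv2.deg k X (kernel (i ≫ T.g)) rK * (r : ℤ) ≤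
        Curv2.deg k X T.X₂ r * (rK : ℤ) := by
      apply le_of_mul_le_mul_right _ hr₁Z
      calc Curv2.deg k X (kernel (i ≫ T.g)) rK * (r : ℤ) * (r₁ : ℤ)
          = Curv2.deg k X (kernel (i ≫ T.g)) rK * (r₁ : ℤ) * (r : ℤ) := by ring
        _ ≤ Curv2.deg k X T.X₁ r₁ * (rK : ℤ) * (r : ℤ) :=
            mul_le_mul_of_nonneg_right hKle hrZ.le
        _ = Curv2.deg k X T.X₁ r₁ * (r : ℤ) * (rK : ℤ) := by ring
        _ = Curv2.deg k X T.X₂ r * (r₁ : ℤ) * (rK : ℤ) := by rw [hμ₁]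
        _ = Curv2.deg k X T.X₂ r * (rK : ℤ) * (r₁ : ℤ) := by ring
    have hI' : Curv2.deg k X (Abelian.image (i ≫ T.g)) rI * (r : ℤ) ≤
        Curv2.deg k X T.X₂ r * (rI : ℤ) := by
      apply le_of_mul_le_mul_right _ hr₂Z
      calc Curv2.deg k X (Abelian.image (i ≫ T.g)) rI * (r : ℤ) * (r₂ : ℤ)
          = Curv2.deg k X (Abelian.image (i ≫ T.g)) rI * (r₂ : ℤ) * (r : ℤ) := by ring
        _ ≤ Curv2.deg k X T.X₃ r₂ * (rI : ℤ) * (r : ℤ) :=
            mul_le_mul_of_nonneg_right hIle hrZ.le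
        _ = Curv2.deg k X T.X₃ r₂ * (r : ℤ) * (rI : ℤ) := by ring
        _ = Curv2.deg k X T.X₂ r * (r₂ : ℤ) * (rI : ℤ) := by rw [hμ₂]
        _ = Curv2.deg k X T.X₂ r * (rI : ℤ) * (r₂ : ℤ) := by ring
    rw [hdeg, hrr]
    push_cast
    linarith

end Curve

end Groth.Agent.Helper1.SemiExt
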