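import Mathlib
import Groth.Prelude.Def_Coh
import Groth.Prelude.Def_CurvBase
import Groth.Agent.Lib.Helper1.FBC4

/-!
# Base change of cohomology along a field extension (helper1)
-/

set_option backward.isDefEq.respectTransparency.types false
set_option synthInstance.maxHeartbeats 400000
set_option autoImplicit false
set_option linter.unusedSectionVars false
set_option linter.style.haveILetI false
set_option linter.unusedSimpArgs false
universe u
open CategoryTheory CategoryTheory.Limits AlgebraicGeometry TopologicalSpace Opposite TensorProduct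

namespace Groth.Agent.Helper1.FBC

open Groth.Agent.Lead.BCU

section Field

variable (k : Type u) [Field k] (k' : Type u) [Field k'] [Algebra k k']
  {X X' : Scheme.{u}} [X.Over (Spec (CommRingCat.of k))] [X'.Over (Spec (CommRingCat.of k'))]
  (g : X' ⟶ X)
  (hpb : IsPullback g (X' ↘ Spec (CommRingCat.of k')) (X ↘ Spec (CommRingCat.of k))
      (Spec.map (CommRingCat.ofHom (algebraMap k k'))))
  [IsSeparated (X ↘ Spec (CommRingCat.of k))] [CompactSpace X]
  (F : X.Modules) [F.IsQuasicoherent]

theorem flat_algebraMap_field : (algebraMap k k').Flat := by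
  change (letI := (algebraMap k k').toAlgebra; Module.Flat k k')
  letI := (algebraMap k k').toAlgebra
  infer_instance

include hpb in
theorem exists_isBC_HH_field (p : ℕ) :
    ∃ l : Coh.HH X F p → Coh.HH X' ((Scheme.Modules.pullback g).obj F) p,
      IsBC (algebraMap k k') l :=
  exists_isBC_HH k k' (algebraMap k k') g F hpb (flat_algebraMap_field k k') p

include hpb in
theorem finrank_HH_field (p : ℕ) :
    Module.finrank k' (Coh.HH X' ((Scheme.Modules.pullback g).obj F) p) =
      Module.finrank k (Coh.HH X F p) := by
  obtain ⟨l, hl⟩ := exists_isBC_HH_field k k' g hpb F p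
  exact IsBC.finrank_eq (algebraMap k k') hl

include hpb in
theorem subsingleton_HH_field_iff (p : ℕ) :
    Subsingleton (Coh.HH X' ((Scheme.Modules.pullback g).obj F) p) ↔
      Subsingleton (Coh.HH X F p) := by
  obtain ⟨l, hl⟩ := exists_isBC_HH_field k k' g hpb F p
  exact IsBC.subsingleton_iff (algebraMap k k') hl

end Field

section Curv

variable (k : Type u) [Field k] (X : Scheme.{u}) [X.Over (Spec (CommRingCat.of k))]
  (k' : Type u) [Field k'] [Algebra k k']

theorem isPullback_bc :
    IsPullback (Curv2.bcFst k X k') (Curv2.bcSnd k X k') (X ↘ Spec (CommRingCat.of k))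
      (Spec.map (CommRingCat.ofHom (algebraMap k k'))) :=
  IsPullback.of_hasPullback _ _

theorem compactSpace_of_isProper [IsProper (X ↘ Spec (CommRingCat.of k))] : CompactSpace X :=
  QuasiCompact.compactSpace_of_compactSpace (X ↘ Spec (CommRingCat.of k))

theorem finrank_HH_bc [IsProper (X ↘ Spec (CommRingCat.of k))] (F : X.Modules)
    [F.IsQuasicoherent] (p : ℕ) :
    @Module.finrank k' (Coh.HH (Curv2.bc k X k')
        ((Scheme.Modules.pullback (Curv2.bcFst k X k')).obj F) p) _ _
      (@Coh.moduleOver k' _ (Curv2.bc k X k') ⟨Curv2.bcSnd k X k'⟩ _ p) =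
      Module.finrank k (Coh.HH X F p) := by
  letI : (Curv2.bc k X k').Over (Spec (CommRingCat.of k')) := ⟨Curv2.bcSnd k X k'⟩
  haveI := compactSpace_of_isProper k X
  exact finrank_HH_field k k' (Curv2.bcFst k X k') (isPullback_bc k X k') F p

theorem euler_bc [IsProper (X ↘ Spec (CommRingCat.of k))] (F : X.Modules)
    [F.IsQuasicoherent] :
    @Curv2.euler k' _ (Curv2.bc k X k') ⟨Curv2.bcSnd k X k'⟩
        ((Scheme.Modules.pullback (Curv2.bcFst k X k')).obj F) = Curv2.euler k X F := by
  unfold Curv2.euler
  refine finsum_congr fun i => ?_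
  rw [finrank_HH_bc k X k' F i]

end Curv

end Groth.Agent.Helper1.FBC
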