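import Mathlib
import Groth.Agent.Lib.Helper1.AmpleAvoid

/-!
# Regular sections in the span of finitely many generating sections (helper1)

Over a Noetherian local ring with infinite residue field, a suitable linear combination of
generating sections of an invertible module is regular with respect to finitely many coherent
modules.
-/

set_option autoImplicit false
universe u
open CategoryTheory CategoryTheory.Limits AlgebraicGeometry TopologicalSpace Opposite MonoidalCategory

namespace Groth.Agent.Helper1.RegSpan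

open Groth.Agent.Helper1.QcCech Groth.Agent.Helper1.SubSh Groth.Agent.Helper1.LGen
open Groth.Agent.Helper1.TmulLib Groth.Agent.Helper1 Groth.Agent.Helper1.TwistSec
open Groth.Agent.Helper1.TensGen Groth.Agent.Helper1.TwForm Groth.Agent.Helper1.AmpleLib
open Groth.Agent.Helper1.SecOps Groth.Agent.Helper1.Dv Groth.Agent.Helper1.NegVan
open Groth.Agent.Lib.Helper5.StalkAdj Groth.Agent.Lib.Helper5.StalkTenS

section LA

/-- over a local ring with infinite residue field a module is not a finite union of proper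
submodules -/
theorem exists_notMem_of_proper {A : Type*} [CommRing A] [IsLocalRing A]
    (hA : Infinite (IsLocalRing.ResidueField A)) {P : Type*} [AddCommGroup P] [Module A P]
    (s : Finset (Submodule A P)) (hs : ∀ W ∈ s, W ≠ ⊤) : ∃ a : P, ∀ W ∈ s, a ∉ W := by
  classical
  induction s using Finset.induction_on with
  | empty => exact ⟨0, by simp⟩
  | insert W₀ s hW₀ ih =>
    obtain ⟨a, ha⟩ := ih (fun W hW => hs W (Finset.mem_insert_of_mem hW))
    obtain ⟨b, hb⟩ : ∃ b : P, b ∉ W₀ := by
      by_contra hcon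
      push Not at hcon
      exact hs W₀ (Finset.mem_insert_self _ _) (eq_top_iff.2 fun x _ => hcon x)
    let u : IsLocalRing.ResidueField A → A := Function.surjInv IsLocalRing.residue_surjective
    have hu : ∀ t, IsLocalRing.residue A (u t) = t :=
      Function.surjInv_eq IsLocalRing.residue_surjective
    have hunit : ∀ t t', t ≠ t' → IsUnit (u t - u t') := by
      intro t t' htt
      by_contra hnu
      have h0 : IsLocalRing.residue A (u t - u t') = 0 :=
        (IsLocalRing.residue_eq_zero_iff _).2 ((IsLocalRing.mem_maximalIdeal _).2 hnu)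
      rw [map_sub, hu, hu, sub_eq_zero] at h0
      exact htt h0
    have hbad : ∀ W ∈ insert W₀ s, ∀ t t', a + u t • b ∈ W → a + u t' • b ∈ W → t = t' := by
      intro W hW t t' h1 h2
      by_contra htt
      have h3 : (u t - u t') • b ∈ W := by
        have := W.sub_mem h1 h2
        rwa [add_sub_add_left_eq_sub, ← sub_smul] at this
      obtain ⟨v, hv⟩ := hunit t t' htt
      have hbW : b ∈ W := by
        have := W.smul_mem (↑v⁻¹ : A) h3
        rwa [smul_smul, ← hv, Units.inv_mul, one_smul] at this
      have haW : a ∈ W := by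
        have := W.sub_mem h1 (W.smul_mem (u t) hbW)
        rwa [add_sub_cancel_right] at this
      rcases Finset.mem_insert.1 hW with rfl | hWs
      · exact hb hbW
      · exact ha W hWs haW
    let bad : Finset (IsLocalRing.ResidueField A) :=
      (insert W₀ s).biUnion (fun W => if h : ∃ t, a + u t • b ∈ W then {h.choose} else ∅)
    obtain ⟨t, ht⟩ := Infinite.exists_notMem_finset bad
    refine ⟨a + u t • b, fun W hW hmem => ht ?_⟩
    rw [Finset.mem_biUnion]
    refine ⟨W, hW, ?_⟩
    have hex : ∃ t, a + u t • b ∈ W := ⟨t, hmem⟩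
    rw [dif_pos hex, Finset.mem_singleton]
    exact hbad W hW t _ hmem hex.choose_spec

end LA

variable {V : Scheme.{u}}

section Hom

variable {L : V.Modules}

theorem homOfSec_add (t t' : Γ(L, ⊤)) :
    TwistAmple.homOfSec L (t + t') = TwistAmple.homOfSec L t + TwistAmple.homOfSec L t' := by
  apply Scheme.Modules.hom_ext
  intro W
  ext r
  change (TwistAmple.homOfSec L (t + t')).app W r =
    (TwistAmple.homOfSec L t).app W r + (TwistAmple.homOfSec L t').app W r
  rw [TwistAmple.homOfSec_app, TwistAmple.homOfSec_app, TwistAmple.homOfSec_app, map_add, smul_add]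

theorem homOfSec_zero : TwistAmple.homOfSec L (0 : Γ(L, ⊤)) = 0 := by
  apply Scheme.Modules.hom_ext
  intro W
  ext r
  change (TwistAmple.homOfSec L 0).app W r = 0
  rw [TwistAmple.homOfSec_app, map_zero, smul_zero]

theorem homOfSec_smul (r : Γ(V, ⊤)) (t : Γ(L, ⊤)) :
    TwistAmple.homOfSec L (r • t) = smulHom r (TwistAmple.homOfSec L t) := by
  unfold smulHom
  rw [secVal_homOfSec, QcCech.res_self]

theorem homOfSec_secVal (s : Coh.structureModule V ⟶ L) :
    TwistAmple.homOfSec L (secVal s ⊤) = s := by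
  apply Scheme.Modules.hom_ext
  intro W
  ext r
  change (TwistAmple.homOfSec L (secVal s ⊤)).app W r = s.app W r
  have h1 := app_eq_smul s W (show Γ(V, W) from r)
  rw [← res_secVal s (le_top : W ≤ ⊤)] at h1
  exact (TwistAmple.homOfSec_app L (secVal s ⊤) W (show Γ(V, W) from r)).trans h1.symm

end Hom

section Stalk

/-- a section is bijective on stalks at the points where it generates -/
theorem stalkL_bijective_of_mem_genLocus {B : V.Modules} (τ : Coh.structureModule V ⟶ B) (x : V)
    (hx : x ∈ CohB1.genLocus B τ) : Function.Bijective (stalkL τ x) := by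
  refine ⟨AmpleAvoid.stalkL_injective_of_mem_genLocus τ x hx, fun z => ?_⟩
  have hbij : ∀ V' : V.Opens, V' ≤ CohB1.genLocus B τ → Function.Bijective (τ.app V') :=
    fun V' h => good_of_le_genLocus τ V' h
  obtain ⟨U, hxU, g, rfl⟩ := TopCat.Presheaf.exists_germ_eq B.presheaf z
  obtain ⟨m, hm⟩ := (hbij (U ⊓ CohB1.genLocus B τ) inf_le_right).2
    (res B (inf_le_left : U ⊓ CohB1.genLocus B τ ≤ U) g)
  refine ⟨(Coh.structureModule V).presheaf.germ (U ⊓ CohB1.genLocus B τ) x ⟨hxU, hx⟩ m, ?_⟩
  rw [stalkL_germ, hm]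
  exact TopCat.Presheaf.germ_res_apply B.presheaf
    (homOfLE (inf_le_left : U ⊓ CohB1.genLocus B τ ≤ U)) x ⟨hxU, hx⟩ g

/-- tensoring a section with `F` is injective on stalks where the section generates -/
theorem stalkL_tensor_injective_of_mem_genLocus {B : V.Modules} (τ : Coh.structureModule V ⟶ B)
    (F : V.Modules) (x : V) (hx : x ∈ CohB1.genLocus B τ) :
    Function.Injective (stalkL ((DCoh.tensorBi.obj F).map τ) x) := by
  have hb := stalkL_bijective_of_mem_genLocus τ x hx
  haveI : IsIso ((stalkSh V x).map τ) := (ConcreteCategory.isIso_iff_bijective _).2 hb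
  have hnat := stalkTensorIsoS_naturality_right (x := x) F τ
  have heq : (stalkSh V x).map ((DCoh.tensorBi.obj F).map τ) =
      (stalkTensorIsoS V x F _).hom ≫
        ((stalkSh V x).obj F ◁ (stalkSh V x).map τ) ≫
          (stalkTensorIsoS V x F _).inv := by
    rw [← Category.assoc, ← hnat, Category.assoc, Iso.hom_inv_id, Category.comp_id]
  haveI : IsIso ((stalkSh V x).map ((DCoh.tensorBi.obj F).map τ)) := by
    rw [heq]; infer_instance
  haveI : Mono ((stalkSh V x).map ((DCoh.tensorBi.obj F).map τ)) := inferInstance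
  exact (ModuleCat.mono_iff_injective ((stalkSh V x).map ((DCoh.tensorBi.obj F).map τ))).1
    inferInstance

/-- a section of an invertible module generating at all associated points of a coherent module
`F` is `F`-regular -/
theorem mono_tensor_of_assPoints_le_genLocus [IsLocallyNoetherian V] {B : V.Modules}
    (hB : PicF.IsInvertible B) (τ : Coh.structureModule V ⟶ B) (F : V.Modules) (hF : Coh.IsCoh F)
    (h : ∀ x : V, Curv2.IsAssPoint F x → x ∈ CohB1.genLocus B τ) :
    Mono ((DCoh.tensorBi.obj F).map τ) := by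
  have hFO := Groth.Agent.Helper1.Euler.isCoh_tensor _ _ hF (isCoh_structureModule V)
  have hFB := Groth.Agent.Helper1.Euler.isCoh_tensor _ _ hF (InvQc.isCoh_of_isInvertible B hB)
  haveI : ((DCoh.tensorBi.obj F).obj (Coh.structureModule V)).IsQuasicoherent := hFO.1
  haveI : ((DCoh.tensorBi.obj F).obj B).IsQuasicoherent := hFB.1
  apply Preadditive.mono_of_isZero_kernel
  have hKq : Coh.IsQCoh (kernel ((DCoh.tensorBi.obj F).map τ)) :=
    QcAbel.isQuasicoherent_kernel ((DCoh.tensorBi.obj F).map τ)
  rw [Groth.Agent.S1704.result V _ hKq]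
  intro x hxK
  have hinjK := stalkL_injective_of_mono (kernel.ι ((DCoh.tensorBi.obj F).map τ)) x
  have ha : Curv2.IsAssPoint (CohB1.tensorMod F (Coh.structureModule V)) x :=
    IsAssociatedPrime.map_of_injective
      (f := stalkL (kernel.ι ((DCoh.tensorBi.obj F).map τ)) x) hxK hinjK
  have hb : Curv2.IsAssPoint F x := (isAssPoint_tensor_right GenLoc.isInvertible_O F x).1 ha
  have hinj := stalkL_tensor_injective_of_mem_genLocus τ F x (h x hb)
  have hzero : ∀ v, stalkL (kernel.ι ((DCoh.tensorBi.obj F).map τ)) x v = 0 := by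
    intro v
    apply hinj
    rw [map_zero, ← LinearMap.comp_apply, ← stalkL_comp, kernel.condition]
    change ((stalkSh V x).map (0 : kernel ((DCoh.tensorBi.obj F).map τ) ⟶ _)).hom v = 0
    rw [Functor.map_zero]
    rfl
  haveI : Subsingleton ((kernel ((DCoh.tensorBi.obj F).map τ)).presheaf.stalk x) :=
    subsingleton_of_forall_eq 0 fun v => hinjK ((hzero v).trans (map_zero _).symm)
  have hempty := associatedPrimes.eq_empty_of_subsingleton
    (R := V.presheaf.stalk x) (M := (kernel ((DCoh.tensorBi.obj F).map τ)).presheaf.stalk x)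
  have : IsLocalRing.maximalIdeal (V.presheaf.stalk x) ∈
      associatedPrimes (V.presheaf.stalk x)
        ((kernel ((DCoh.tensorBi.obj F).map τ)).presheaf.stalk x) := hxK
  rw [hempty] at this
  exact this

end Stalk

section Main

variable {A : Type u} [CommRing A] {L : V.Modules}

/-- the linear combination of the sections with coefficients `ψ (a i)` -/
noncomputable def comb (ψ : A →+* Γ(V, ⊤)) {N : ℕ} (σ : Fin (N + 1) → (Coh.structureModule V ⟶ L))
    (a : Fin (N + 1) → A) : Γ(L, ⊤) :=
  ∑ i, ψ (a i) • secVal (σ i) ⊤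

theorem comb_add (ψ : A →+* Γ(V, ⊤)) {N : ℕ} (σ : Fin (N + 1) → (Coh.structureModule V ⟶ L))
    (a b : Fin (N + 1) → A) : comb ψ σ (a + b) = comb ψ σ a + comb ψ σ b := by
  unfold comb
  rw [← Finset.sum_add_distrib]
  apply Finset.sum_congr rfl
  intro i _
  rw [Pi.add_apply, map_add, add_smul]

theorem comb_smul (ψ : A →+* Γ(V, ⊤)) {N : ℕ} (σ : Fin (N + 1) → (Coh.structureModule V ⟶ L))
    (r : A) (a : Fin (N + 1) → A) : comb ψ σ (r • a) = ψ r • comb ψ σ a := by
  unfold comb
  rw [Finset.smul_sum]
  apply Finset.sum_congr rfl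
  intro i _
  rw [Pi.smul_apply, smul_eq_mul, map_mul, mul_smul]

theorem comb_zero (ψ : A →+* Γ(V, ⊤)) {N : ℕ} (σ : Fin (N + 1) → (Coh.structureModule V ⟶ L)) :
    comb ψ σ 0 = 0 := by
  unfold comb
  apply Finset.sum_eq_zero
  intro i _
  rw [Pi.zero_apply, map_zero, zero_smul]

theorem comb_single (ψ : A →+* Γ(V, ⊤)) {N : ℕ} (σ : Fin (N + 1) → (Coh.structureModule V ⟶ L))
    (i : Fin (N + 1)) : comb ψ σ (Pi.single i 1) = secVal (σ i) ⊤ := by
  classical
  unfold comb
  rw [Finset.sum_eq_single i]
  · rw [Pi.single_eq_same, map_one, one_smul]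
  · intro j _ hj
    rw [Pi.single_eq_of_ne hj, map_zero, zero_smul]
  · intro h
    exact absurd (Finset.mem_univ i) h

/-- the coefficient vectors whose combination does not generate at `x` -/
noncomputable def badSub (hL : PicF.IsInvertible L) (ψ : A →+* Γ(V, ⊤)) {N : ℕ}
    (σ : Fin (N + 1) → (Coh.structureModule V ⟶ L)) (x : V) : Submodule A (Fin (N + 1) → A) where
  carrier := {a | x ∉ CohB1.genLocus L (TwistAmple.homOfSec L (comb ψ σ a))}
  add_mem' := by
    intro a b ha hb hx
    rw [comb_add, homOfSec_add] at hx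
    rcases genLocus_add_le hL _ _ hx with h | h
    · exact ha h
    · exact hb h
  zero_mem' := by
    intro hx
    rw [comb_zero, homOfSec_zero, genLocus_zero hL] at hx
    exact hx
  smul_mem' := by
    intro r a ha hx
    rw [comb_smul, homOfSec_smul, genLocus_smulHom hL] at hx
    exact ha hx.2

theorem badSub_ne_top (hL : PicF.IsInvertible L) (ψ : A →+* Γ(V, ⊤)) {N : ℕ}
    (σ : Fin (N + 1) → (Coh.structureModule V ⟶ L)) (x : V)
    (hx : ∃ i, x ∈ CohB1.genLocus L (σ i)) : badSub hL ψ σ x ≠ ⊤ := by
  classical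
  obtain ⟨i, hi⟩ := hx
  intro htop
  have hmem : (Pi.single i 1 : Fin (N + 1) → A) ∈ badSub hL ψ σ x := by
    rw [htop]; exact Submodule.mem_top
  have hmem' : x ∉ CohB1.genLocus L (TwistAmple.homOfSec L (comb ψ σ (Pi.single i 1))) := hmem
  rw [comb_single, homOfSec_secVal] at hmem'
  exact hmem' hi

/-- **regular sections in the span** -/
theorem main [IsLocalRing A] (hA : Infinite (IsLocalRing.ResidueField A)) [IsNoetherian V]
    (ψ : A →+* Γ(V, ⊤)) (hL : PicF.IsInvertible L) {N : ℕ}
    (σ : Fin (N + 1) → (Coh.structureModule V ⟶ L))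
    (hgen : ∀ x : V, ∃ i, x ∈ CohB1.genLocus L (σ i))
    {m : ℕ} (F : Fin m → V.Modules) (hF : ∀ j, Coh.IsCoh (F j)) :
    ∃ a : Fin (N + 1) → A,
      ∀ j, Mono ((DCoh.tensorBi.obj (F j)).map (TwistAmple.homOfSec L (comb ψ σ a))) := by
  classical
  have hAss : ∀ j, {x : V | x ∈ (⊤ : V.Opens) ∧ Curv2.IsAssPoint (F j) x}.Finite := fun j =>
    Groth.Agent.S1576.result V _ (hF j) ⊤ (by simpa using isCompact_univ)
  have hSfin : (⋃ j, {x : V | x ∈ (⊤ : V.Opens) ∧ Curv2.IsAssPoint (F j) x}).Finite :=
    Set.finite_iUnion hAss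
  obtain ⟨a, ha⟩ := exists_notMem_of_proper hA (hSfin.toFinset.image (badSub hL ψ σ)) (by
    intro W hW
    obtain ⟨x, -, rfl⟩ := Finset.mem_image.1 hW
    exact badSub_ne_top hL ψ σ x (hgen x))
  refine ⟨a, fun j => ?_⟩
  apply mono_tensor_of_assPoints_le_genLocus hL _ (F j) (hF j)
  intro x hx
  by_contra hcon
  have hxS : x ∈ hSfin.toFinset := by
    rw [Set.Finite.mem_toFinset]
    exact Set.mem_iUnion.2 ⟨j, trivial, hx⟩
  exact ha _ (Finset.mem_image_of_mem _ hxS) hcon

end Main

end Groth.Agent.Helper1.RegSpan
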