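import Mathlib
import Groth.Agent.Lib.Helper1.RegSpan
import Groth.Agent.Lib.Helper1.SnapPush1
import Groth.Agent.Lib.Helper1.FBC5
import Groth.Agent.Lib.Helper2.Sch.FieldBCDim
import Groth.Agent.Lib.Helper4.ClBridge4
import Groth.Agent.Lib.Helper1.LesBound1
import Groth.Agent.Lib.Helper1.FGAInt1
import Groth.Agent.Lib.Helper1.CurveDual2
import Groth.Agent.Lib.Helper1.AmpleLib4
import Groth.Agent.Lib.Helper1.SnapPos4
import Groth.Agent.S1577

/-!
# Growth of the higher cohomology of powers of a globally generated invertible module (helper1)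

For `X` proper of dimension `r` over a field and `L` invertible and globally generated,
`h^i(X, L^n) = O(n^(r-1))` for `i ≥ 1`.  Induction on the dimension, cutting by a regular section
taken in the span of finitely many generating sections (after enlarging the field to an infinite
one).
-/

set_option autoImplicit false
universe u
open CategoryTheory CategoryTheory.Limits AlgebraicGeometry TopologicalSpace Opposite

namespace Groth.Agent.Helper1.GGBound

open Groth.Agent.Helper1.QcCech Groth.Agent.Helper1.SubSh Groth.Agent.Helper1.LGen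
open Groth.Agent.Helper1.TmulLib Groth.Agent.Helper1 Groth.Agent.Helper1.TwistSec
open Groth.Agent.Helper1.TensGen Groth.Agent.Helper1.TwForm Groth.Agent.Helper1.AmpleLib
open Groth.Agent.Helper1.SecOps Groth.Agent.Helper1.Dv Groth.Agent.Lead.PicCalc
open Groth.Agent.Lib.Helper4.TwExact

section Top

/-- a closed subspace containing no maximal irreducible closed subset has smaller dimension -/
theorem dim_le_of_isClosedEmbedding {D X : Type*} [TopologicalSpace D] [TopologicalSpace X]
    (f : D → X) (hf : Topology.IsClosedEmbedding f) (r : ℕ)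
    (hX : topologicalKrullDim X ≤ ((r + 1 : ℕ) : WithBot ℕ∞))
    (h : ∀ T : IrreducibleCloseds X, (T : Set X) ⊆ Set.range f →
      ∃ T' : IrreducibleCloseds X, T < T') :
    topologicalKrullDim D ≤ ((r : ℕ) : WithBot ℕ∞) := by
  unfold topologicalKrullDim Order.krullDim
  refine iSup_le fun p => ?_
  have hg : StrictMono (IrreducibleCloseds.map f hf.continuous) :=
    IrreducibleCloseds.map_strictMono_of_isInducing hf.isInducing
  obtain ⟨T', hT'⟩ := h (IrreducibleCloseds.map f hf.continuous p.last) (by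
    rw [IrreducibleCloseds.coe_map]
    exact closure_minimal (Set.image_subset_range f _) hf.isClosed_range)
  let q : LTSeries (IrreducibleCloseds X) := (p.map _ hg).snoc T' hT'
  have hq : (q.length : WithBot ℕ∞) ≤ topologicalKrullDim X :=
    Order.LTSeries.length_le_krullDim q
  have hlen : q.length = p.length + 1 := rfl
  rw [hlen] at hq
  have h2 := hq.trans hX
  have h3 : p.length + 1 ≤ r + 1 := by exact_mod_cast h2
  exact_mod_cast (Nat.le_of_succ_le_succ h3)

end Top

section Drop

variable {X : Scheme.{u}}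

/-- the zero scheme of a section generating at all associated points has smaller dimension -/
theorem dim_zeroScheme_le [IsLocallyNoetherian X] {L : X.Modules} (hL : PicF.IsInvertible L)
    (τ : Coh.structureModule X ⟶ L) [Mono τ]
    (hass : ∀ x : X, Curv2.IsAssPoint (Coh.structureModule X) x → x ∈ CohB1.genLocus L τ)
    (r : ℕ) (hX : topologicalKrullDim X ≤ ((r + 1 : ℕ) : WithBot ℕ∞)) :
    topologicalKrullDim (PicF2.zeroScheme L τ).subscheme ≤ ((r : ℕ) : WithBot ℕ∞) := by
  have hOq : (Coh.structureModule X).IsQuasicoherent :=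
    InvQc.isQuasicoherent_of_isInvertible _ GenLoc.isInvertible_O
  apply dim_le_of_isClosedEmbedding _ (PicF2.zeroScheme L τ).subschemeι.isClosedEmbedding r hX
  intro T hT
  rw [Scheme.IdealSheafData.range_subschemeι] at hT
  obtain ⟨Y, hYirr, hTY, hYmax⟩ :=
    exists_preirreducible (T : Set X) T.isIrreducible.isPreirreducible
  have hYne : Y.Nonempty := T.isIrreducible.nonempty.mono hTY
  have hYcl : IsClosed Y := by
    have h1 : closure Y = Y := hYmax (closure Y) hYirr.closure subset_closure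
    rw [← h1]
    exact isClosed_closure
  have hYI : IsIrreducible Y := ⟨hYne, hYirr⟩
  obtain ⟨η, hη⟩ := QuasiSober.sober hYI hYcl
  have hmax : ∀ y ∈ CohB1.support (Coh.structureModule X), y ⤳ η → y = η := by
    intro y _ hy
    have h1 : Y ⊆ closure {y} := by
      rw [← hη.def]
      exact specializes_iff_closure_subset.1 hy
    have h2 : closure {y} = Y :=
      hYmax (closure {y}) isPreirreducible_singleton.closure h1
    have h3 : IsGenericPoint y Y := h2
    exact h3.eq hη
  have hηass : Curv2.IsAssPoint (Coh.structureModule X) η :=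
    Groth.Agent.S1577.result X _ hOq η (SnapPos.mem_support_structureModule η) hmax
  have hηnot := AmpleAvoid.not_mem_support_zeroScheme hL τ η (hass η hηass)
  refine ⟨⟨Y, hYI, hYcl⟩, ?_⟩
  rw [lt_iff_le_and_ne]
  refine ⟨hTY, ?_⟩
  intro heq
  apply hηnot
  apply hT
  rw [heq]
  exact hη.mem

end Drop

section Sections

variable {X : Scheme.{u}}

/-- finitely many global sections generate a globally generated invertible module on a
quasi-compact scheme -/
theorem exists_fin_sections [CompactSpace X] {L : X.Modules} (hL : PicF.IsInvertible L)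
    (hgen : Curv2.IsGloballyGenerated L) :
    ∃ (N : ℕ) (σ : Fin (N + 1) → (Coh.structureModule X ⟶ L)),
      ∀ x : X, ∃ i, x ∈ CohB1.genLocus L (σ i) := by
  classical
  choose s hs using fun x => exists_section_of_globallyGenerated hL hgen x
  obtain ⟨t, ht⟩ := isCompact_univ.elim_finite_subcover
    (fun x : X => ((CohB1.genLocus L (s x) : X.Opens) : Set X))
    (fun x => (CohB1.genLocus L (s x)).isOpen) (fun x _ => Set.mem_iUnion.2 ⟨x, hs x⟩)
  refine ⟨t.toList.length,
    fun i => if h : i.val < t.toList.length then s (t.toList.get ⟨i.val, h⟩) else 0, fun x => ?_⟩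
  obtain ⟨y, hy⟩ := Set.mem_iUnion.1 (ht (Set.mem_univ x))
  obtain ⟨hyt, hxy⟩ := Set.mem_iUnion.1 hy
  have hyl : y ∈ t.toList := Finset.mem_toList.2 hyt
  obtain ⟨n, hn⟩ := List.mem_iff_get.1 hyl
  refine ⟨⟨n.val, Nat.lt_succ_of_lt n.isLt⟩, ?_⟩
  show x ∈ CohB1.genLocus L
    (if h : n.val < t.toList.length then s (t.toList.get ⟨n.val, h⟩) else 0)
  rw [dif_pos n.isLt]
  have h' : t.toList.get ⟨n.val, n.isLt⟩ = y := hn
  rw [h']
  exact hxy

/-- a combination of the sections generating at finitely many given points -/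
theorem exists_comb_mem_genLocus {A : Type u} [CommRing A] [IsLocalRing A]
    (hA : Infinite (IsLocalRing.ResidueField A)) (ψ : A →+* Γ(X, ⊤)) {L : X.Modules}
    (hL : PicF.IsInvertible L) {N : ℕ} (σ : Fin (N + 1) → (Coh.structureModule X ⟶ L))
    (hgen : ∀ x : X, ∃ i, x ∈ CohB1.genLocus L (σ i)) (E : Set X) (hE : E.Finite) :
    ∃ a : Fin (N + 1) → A,
      ∀ x ∈ E, x ∈ CohB1.genLocus L (TwistAmple.homOfSec L (RegSpan.comb ψ σ a)) := by
  classical
  obtain ⟨a, ha⟩ := RegSpan.exists_notMem_of_proper hA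
    (hE.toFinset.image (RegSpan.badSub hL ψ σ)) (by
      intro W hW
      obtain ⟨x, -, rfl⟩ := Finset.mem_image.1 hW
      exact RegSpan.badSub_ne_top hL ψ σ x (hgen x))
  refine ⟨a, fun x hx => ?_⟩
  by_contra hcon
  exact ha _ (Finset.mem_image_of_mem _ ((Set.Finite.mem_toFinset hE).2 hx)) hcon

end Sections

section Step

variable (k : Type u) [Field k] (X : Scheme.{u}) [X.Over (Spec (CommRingCat.of k))]
  [IsProper (X ↘ (Spec (CommRingCat.of k)))]

/-- the basic inequality from the sequence `0 → L^n → L^(n+1) → L^(n+1)|_D → 0` -/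
theorem finrank_succ_le [IsLocallyNoetherian X] {L : X.Modules} (hL : PicF.IsInvertible L)
    (I : X.IdealSheafData) (hinv : ClSub.IsInverseOf L (ClSub.idealMod I))
    [I.subscheme.Over (Spec (CommRingCat.of k))]
    (hι : I.subschemeι ≫ (X ↘ Spec (CommRingCat.of k)) =
      I.subscheme ↘ Spec (CommRingCat.of k))
    (i n : ℕ) :
    Module.finrank k (Coh.HH X (CohB1.tensorPow L (n + 1)) i) ≤
      Module.finrank k (Coh.HH X (CohB1.tensorPow L n) i) +
      Module.finrank k (Coh.HH I.subscheme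
        (CohB1.tensorPow ((Scheme.Modules.pullback I.subschemeι).obj L) (n + 1)) i) := by
  have hNinv : PicF.IsInvertible (CohB1.tensorPow L (n + 1)) := isInvertible_tensorPow hL (n + 1)
  have hSE := shortExact_map (locGen_of_isInvertible _ hNinv) (CurveDual.shortExact_S I)
  have hNc : Coh.IsCoh (CohB1.tensorPow L (n + 1)) := InvQc.isCoh_of_isInvertible _ hNinv
  have h₁ : Coh.IsCoh ((IdealModL.S I).map (TL (CohB1.tensorPow L (n + 1)))).X₁ :=
    Groth.Agent.Helper1.Euler.isCoh_tensor _ _ (CurveDual.isCoh_idealMod I) hNc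
  have h₂ : Coh.IsCoh ((IdealModL.S I).map (TL (CohB1.tensorPow L (n + 1)))).X₂ :=
    Groth.Agent.Helper1.Euler.isCoh_tensor _ _ (isCoh_structureModule X) hNc
  have h₃ : Coh.IsCoh ((IdealModL.S I).map (TL (CohB1.tensorPow L (n + 1)))).X₃ :=
    Groth.Agent.Helper1.Euler.isCoh_tensor _ _ (CurveDual.isCoh_quotMod I) hNc
  have hle := LesBound.finrank_X₂_le k X _ hSE h₁ h₂ h₃ i
  -- the middle term
  have e₂ : ((IdealModL.S I).map (TL (CohB1.tensorPow L (n + 1)))).X₂ ≅
      CohB1.tensorPow L (n + 1) := lunitIso _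
  -- the left term
  have hcl : PicF.cl (CohB1.tensorMod (ClSub.idealMod I) (CohB1.tensorPow L (n + 1))) =
      PicF.cl (CohB1.tensorPow L n) := by
    obtain ⟨e⟩ := hinv
    have h1 : PicF.cl L * PicF.cl (ClSub.idealMod I) = 1 := cl_eq_of_iso e
    rw [cl_tensor, AmpleAvoid.cl_tensorPow', AmpleAvoid.cl_tensorPow', pow_succ]
    calc PicF.cl (ClSub.idealMod I) * (PicF.cl L ^ n * PicF.cl L)
        = (PicF.cl L * PicF.cl (ClSub.idealMod I)) * PicF.cl L ^ n := by ac_rfl
      _ = PicF.cl L ^ n := by rw [h1, one_mul]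
  obtain ⟨e₁⟩ := nonempty_iso_of_cl_eq hcl
  -- the right term
  obtain ⟨l⟩ := VBP.nonempty_HH_equiv_push k I.subschemeι hι
    (M := Coh.structureModule I.subscheme) GenLoc.isInvertible_O
    (N := CohB1.tensorPow L (n + 1)) hNinv i
  obtain ⟨e2⟩ := P1Iso.nonempty_pullback_tensorPow_iso I.subschemeι hL (n + 1)
  have e3 : CohB1.tensorMod (Coh.structureModule I.subscheme)
      ((Scheme.Modules.pullback I.subschemeι).obj (CohB1.tensorPow L (n + 1))) ≅
      CohB1.tensorPow ((Scheme.Modules.pullback I.subschemeι).obj L) (n + 1) :=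
    TildeTens.tensorModComm _ _ ≪≫ Groth.Agent.Lib.Helper5.LTenFlf.tensorUnitIso _ ≪≫ e2
  have q₂ : Module.finrank k (Coh.HH X (CohB1.tensorPow L (n + 1)) i) =
      Module.finrank k
        (Coh.HH X ((IdealModL.S I).map (TL (CohB1.tensorPow L (n + 1)))).X₂ i) :=
    (Groth.Agent.Lib.Helper4.HHFin1.HHequiv k e₂ i).finrank_eq.symm
  have q₁ : Module.finrank k (Coh.HH X (CohB1.tensorPow L n) i) =
      Module.finrank k
        (Coh.HH X ((IdealModL.S I).map (TL (CohB1.tensorPow L (n + 1)))).X₁ i) :=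
    (Groth.Agent.Lib.Helper4.HHFin1.HHequiv k e₁ i).finrank_eq.symm
  have q₃ : Module.finrank k (Coh.HH I.subscheme
        (CohB1.tensorPow ((Scheme.Modules.pullback I.subschemeι).obj L) (n + 1)) i) =
      Module.finrank k
        (Coh.HH X ((IdealModL.S I).map (TL (CohB1.tensorPow L (n + 1)))).X₃ i) :=
    (Groth.Agent.Lib.Helper4.HHFin1.HHequiv k e3 i).finrank_eq.symm.trans l.finrank_eq
  rw [q₂, q₁, q₃]
  exact hle

end Step

section Arith

/-- the bounding function `n ↦ n^(r-1)`, read as `0` for `r = 0` -/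
noncomputable def g (r n : ℕ) : ℝ := if r = 0 then 0 else (n : ℝ) ^ (r - 1)

theorem g_le (r n : ℕ) : g r n ≤ (n : ℝ) ^ (r - 1) := by
  unfold g
  split_ifs with hr
  · exact pow_nonneg (Nat.cast_nonneg n) _
  · exact le_refl _

theorem arith (a b : ℕ → ℕ) (r : ℕ) (C' : ℝ) (hC' : 0 ≤ C')
    (hstep : ∀ n, a (n + 1) ≤ a n + b (n + 1))
    (hb : ∀ m, 1 ≤ m → (b m : ℝ) ≤ C' * g r m) :
    ∀ n, 1 ≤ n → (a n : ℝ) ≤ ((a 0 : ℝ) + C') * g (r + 1) n := by
  have hg1 : ∀ n : ℕ, g (r + 1) n = (n : ℝ) ^ r := fun n => by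
    unfold g
    rw [if_neg (Nat.succ_ne_zero r), Nat.add_sub_cancel]
  have key : ∀ n : ℕ, (a n : ℝ) ≤ (a 0 : ℝ) + C' * (n : ℝ) ^ r := by
    intro n
    induction n with
    | zero =>
      have h0 : 0 ≤ C' * (((0 : ℕ) : ℝ)) ^ r :=
        mul_nonneg hC' (pow_nonneg (Nat.cast_nonneg 0) r)
      linarith
    | succ n ih =>
      have h1 : (a (n + 1) : ℝ) ≤ (a n : ℝ) + (b (n + 1) : ℝ) := by exact_mod_cast hstep n
      have h2 := hb (n + 1) (Nat.le_add_left 1 n)
      have h3 : (n : ℝ) ^ r + g r (n + 1) ≤ ((n + 1 : ℕ) : ℝ) ^ r := by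
        unfold g
        split_ifs with hr
        · subst hr
          simp
        · obtain ⟨r', rfl⟩ := Nat.exists_eq_succ_of_ne_zero hr
          have hn : (0 : ℝ) ≤ (n : ℝ) := Nat.cast_nonneg n
          have hc : ((n + 1 : ℕ) : ℝ) = (n : ℝ) + 1 := by push_cast; ring
          have h4 : (n : ℝ) ^ r' ≤ ((n : ℝ) + 1) ^ r' :=
            pow_le_pow_left₀ hn (by linarith) r'
          have h5 : (n : ℝ) ^ (r' + 1) = (n : ℝ) * (n : ℝ) ^ r' := pow_succ' _ _
          have h6 : ((n : ℝ) + 1) ^ (r' + 1) = ((n : ℝ) + 1) * ((n : ℝ) + 1) ^ r' :=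
            pow_succ' _ _
          have h7 : (n : ℝ) * (n : ℝ) ^ r' ≤ (n : ℝ) * ((n : ℝ) + 1) ^ r' :=
            mul_le_mul_of_nonneg_left h4 hn
          rw [Nat.succ_sub_one, hc, h5, h6]
          linarith
      have h7 : C' * ((n : ℝ) ^ r + g r (n + 1)) ≤ C' * ((n + 1 : ℕ) : ℝ) ^ r :=
        mul_le_mul_of_nonneg_left h3 hC'
      have h8 : C' * ((n : ℝ) ^ r + g r (n + 1)) = C' * (n : ℝ) ^ r + C' * g r (n + 1) :=
        mul_add _ _ _
      linarith
  intro n hn
  rw [hg1]
  have h1 : (1 : ℝ) ≤ (n : ℝ) ^ r := one_le_pow₀ (by exact_mod_cast hn)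
  have h2 : (0 : ℝ) ≤ (a 0 : ℝ) := Nat.cast_nonneg _
  have h3 : (a 0 : ℝ) * 1 ≤ (a 0 : ℝ) * (n : ℝ) ^ r := mul_le_mul_of_nonneg_left h1 h2
  have h4 := key n
  have h5 : ((a 0 : ℝ) + C') * (n : ℝ) ^ r = (a 0 : ℝ) * (n : ℝ) ^ r + C' * (n : ℝ) ^ r :=
    add_mul _ _ _
  linarith

end Arith

section Main

/-- the bound over an infinite field, by induction on the dimension -/
theorem main_infinite (k : Type u) [Field k] [Infinite k] (i : ℕ) (hi : 1 ≤ i) :
    ∀ (r : ℕ) (X : Scheme.{u}) [X.Over (Spec (CommRingCat.of k))]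
      [IsProper (X ↘ (Spec (CommRingCat.of k)))],
      topologicalKrullDim X ≤ ((r : ℕ) : WithBot ℕ∞) →
      ∀ (L : X.Modules), PicF.IsInvertible L → Curv2.IsGloballyGenerated L →
      ∃ C : ℝ, 0 ≤ C ∧ ∀ n : ℕ, 1 ≤ n →
        (Module.finrank k (Coh.HH X (CohB1.tensorPow L n) i) : ℝ) ≤ C * g r n := by
  intro r
  induction r with
  | zero =>
    intro X _ _ hd L hL hgen
    haveI := Groth.Agent.Helper1.Euler.isNoetherian_of_proper k X
    refine ⟨0, le_refl _, fun n _ => ?_⟩
    haveI := FGAInt.subsingleton_HH_of_dim_lt X 0 hd (CohB1.tensorPow L n) i (by omega)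
    rw [Module.finrank_zero_of_subsingleton]
    simp
  | succ r ih =>
    intro X _ _ hd L hL hgen
    haveI := Groth.Agent.Helper1.Euler.isNoetherian_of_proper k X
    haveI : CompactSpace X := FBC.compactSpace_of_isProper k X
    obtain ⟨N, σ, hσ⟩ := exists_fin_sections hL hgen
    have hAss : {x : X | x ∈ (⊤ : X.Opens) ∧
        Curv2.IsAssPoint (Coh.structureModule X) x}.Finite :=
      Groth.Agent.S1576.result X _ (isCoh_structureModule X) ⊤ (by simpa using isCompact_univ)
    let ψ : k →+* Γ(X, ⊤) :=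
      ((X ↘ Spec (CommRingCat.of k)).appTop.hom).comp
        (Scheme.ΓSpecIso (CommRingCat.of k)).inv.hom
    have hk : Infinite (IsLocalRing.ResidueField k) :=
      Infinite.of_injective _ (IsLocalRing.residue k).injective
    obtain ⟨a, ha⟩ := exists_comb_mem_genLocus hk ψ hL σ hσ _ hAss
    have hass : ∀ x : X, Curv2.IsAssPoint (Coh.structureModule X) x →
        x ∈ CohB1.genLocus L (TwistAmple.homOfSec L (RegSpan.comb ψ σ a)) :=
      fun x hx => ha x ⟨trivial, hx⟩
    haveI : Mono (TwistAmple.homOfSec L (RegSpan.comb ψ σ a)) :=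
      AmpleAvoid.mono_of_assPoints_le_genLocus hL _ hass
    letI : (PicF2.zeroScheme L (TwistAmple.homOfSec L (RegSpan.comb ψ σ a))).subscheme.Over
        (Spec (CommRingCat.of k)) :=
      ⟨(PicF2.zeroScheme L (TwistAmple.homOfSec L (RegSpan.comb ψ σ a))).subschemeι ≫
        (X ↘ Spec (CommRingCat.of k))⟩
    haveI : IsProper ((PicF2.zeroScheme L
        (TwistAmple.homOfSec L (RegSpan.comb ψ σ a))).subscheme ↘ Spec (CommRingCat.of k)) := by
      change IsProper ((PicF2.zeroScheme L
        (TwistAmple.homOfSec L (RegSpan.comb ψ σ a))).subschemeι ≫ (X ↘ Spec (CommRingCat.of k)))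
      infer_instance
    have hdD := dim_zeroScheme_le hL (TwistAmple.homOfSec L (RegSpan.comb ψ σ a)) hass r hd
    obtain ⟨C', hC', hb⟩ := ih _ hdD
      ((Scheme.Modules.pullback (PicF2.zeroScheme L
        (TwistAmple.homOfSec L (RegSpan.comb ψ σ a))).subschemeι).obj L)
      (PullGen.isInvertible_pullback _ hL)
      (Groth.Agent.Lib.Helper4.ClBridge4.isGloballyGenerated_pullback _ hgen)
    have hinv := Groth.Agent.Helper2.ZeroConn.isInverseOf_idealMod_zeroScheme hL
      (TwistAmple.homOfSec L (RegSpan.comb ψ σ a))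
    refine ⟨(Module.finrank k (Coh.HH X (CohB1.tensorPow L 0) i) : ℝ) + C',
      add_nonneg (Nat.cast_nonneg _) hC', ?_⟩
    exact arith (fun n => Module.finrank k (Coh.HH X (CohB1.tensorPow L n) i))
      (fun n => Module.finrank k (Coh.HH (PicF2.zeroScheme L
        (TwistAmple.homOfSec L (RegSpan.comb ψ σ a))).subscheme
        (CohB1.tensorPow ((Scheme.Modules.pullback (PicF2.zeroScheme L
          (TwistAmple.homOfSec L (RegSpan.comb ψ σ a))).subschemeι).obj L) n) i)) r C' hC'
      (fun n => finrank_succ_le k X hL _ hinv rfl i n) hb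

/-- **growth of higher cohomology of powers of a globally generated invertible module** -/
theorem main (k : Type u) [Field k] (X : Scheme.{u}) [X.Over (Spec (CommRingCat.of k))]
    [IsProper (X ↘ (Spec (CommRingCat.of k)))] (r : ℕ) (hdim : topologicalKrullDim X = r)
    (L : X.Modules) (hL : PicF.IsInvertible L) (hgen : Curv2.IsGloballyGenerated L)
    (i : ℕ) (hi : 1 ≤ i) :
    ∃ C : ℝ, ∀ n : ℕ, 1 ≤ n →
      (Module.finrank k (Coh.HH X (CohB1.tensorPow L n) i) : ℝ) ≤ C * (n : ℝ) ^ (r - 1) := by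
  obtain ⟨K, _, _, hKinf⟩ : ∃ (K : Type u) (_ : Field K) (_ : Algebra k K), Infinite K :=
    ⟨RatFunc k, inferInstance, inferInstance,
      Infinite.of_injective (algebraMap (Polynomial k) (RatFunc k))
        (RatFunc.algebraMap_injective k)⟩
  haveI := hKinf
  letI ov' : (Curv2.bc k X K).Over (Spec (CommRingCat.of K)) := ⟨Curv2.bcSnd k X K⟩
  have hpb := FBC.isPullback_bc k X K
  haveI : IsProper ((Curv2.bc k X K) ↘ Spec (CommRingCat.of K)) :=
    MorphismProperty.pullback_snd (P := @IsProper) _ _ inferInstance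
  have hdim' : topologicalKrullDim (Curv2.bc k X K) ≤ ((r : ℕ) : WithBot ℕ∞) := by
    have h := Groth.Agent.Helper2.FieldBCDim.S4642_main (K := K) (X ↘ Spec (CommRingCat.of k))
    rw [hdim] at h
    exact h.le
  obtain ⟨C, hC, hb⟩ := main_infinite K i hi r (Curv2.bc k X K) hdim'
    ((Scheme.Modules.pullback (Curv2.bcFst k X K)).obj L)
    (PullGen.isInvertible_pullback _ hL)
    (Groth.Agent.Lib.Helper4.ClBridge4.isGloballyGenerated_pullback _ hgen)
  refine ⟨C, fun n hn => ?_⟩
  haveI : CompactSpace X := FBC.compactSpace_of_isProper k X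
  haveI : (CohB1.tensorPow L n).IsQuasicoherent :=
    InvQc.isQuasicoherent_of_isInvertible _ (isInvertible_tensorPow hL n)
  have h1 := FBC.finrank_HH_field k K (Curv2.bcFst k X K) hpb (CohB1.tensorPow L n) i
  obtain ⟨e⟩ := P1Iso.nonempty_pullback_tensorPow_iso (Curv2.bcFst k X K) hL n
  have h2 := (Groth.Agent.Lib.Helper4.HHFin1.HHequiv K e i).finrank_eq
  rw [← h1, h2]
  exact (hb n hn).trans (mul_le_mul_of_nonneg_left (g_le r n) hC)

end Main

end Groth.Agent.Helper1.GGBound
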