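import Mathlib
import Groth.Agent.Lib.Helper4.HHFin1

/-!
# Direct sum decompositions, cohomology of retracts and splitting through a dualizing pair
(helper1)

General lemmas for the Horrocks splitting criterion.
-/

set_option autoImplicit false
universe u
open CategoryTheory CategoryTheory.Limits AlgebraicGeometry

namespace Groth.Agent.Helper1.Horr

open Groth.Agent.Lib.Helper4

section Cat

variable {C : Type*} [Category C] [Preadditive C]

/-- a direct sum decomposition `M = A ⊕ B` -/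
structure Dec (M A B : C) where
  iA : A ⟶ M
  pA : M ⟶ A
  iB : B ⟶ M
  pB : M ⟶ B
  iA_pA : iA ≫ pA = 𝟙 A
  iB_pB : iB ≫ pB = 𝟙 B
  iA_pB : iA ≫ pB = 0
  iB_pA : iB ≫ pA = 0
  total : pA ≫ iA + pB ≫ iB = 𝟙 M

/-- the image of a decomposition under an additive functor -/
def Dec.map {D : Type*} [Category D] [Preadditive D] {M A B : C} (h : Dec M A B) (T : C ⥤ D)
    [T.Additive] : Dec (T.obj M) (T.obj A) (T.obj B) where
  iA := T.map h.iA
  pA := T.map h.pA
  iB := T.map h.iB
  pB := T.map h.pB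
  iA_pA := by rw [← T.map_comp, h.iA_pA, T.map_id]
  iB_pB := by rw [← T.map_comp, h.iB_pB, T.map_id]
  iA_pB := by rw [← T.map_comp, h.iA_pB, T.map_zero]
  iB_pA := by rw [← T.map_comp, h.iB_pA, T.map_zero]
  total := by rw [← T.map_comp, ← T.map_comp, ← T.map_add, h.total, T.map_id]

/-- the decomposition attached to a split monomorphism -/
noncomputable def Dec.ofSplit [HasKernels C] {A M : C} (u : A ⟶ M) (r : M ⟶ A)
    (h : u ≫ r = 𝟙 A) : Dec M A (kernel r) where
  iA := u
  pA := r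
  iB := kernel.ι r
  pB := kernel.lift r (𝟙 M - r ≫ u) (by
    rw [Preadditive.sub_comp, Category.id_comp, Category.assoc, h, Category.comp_id, sub_self])
  iA_pA := h
  iB_pB := by
    apply (cancel_mono (kernel.ι r)).1
    rw [Category.assoc, kernel.lift_ι, Preadditive.comp_sub, Category.comp_id, ← Category.assoc,
      kernel.condition, zero_comp, sub_zero, Category.id_comp]
  iA_pB := by
    apply (cancel_mono (kernel.ι r)).1
    rw [Category.assoc, kernel.lift_ι, Preadditive.comp_sub, Category.comp_id, ← Category.assoc,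
      h, Category.id_comp, sub_self, zero_comp]
  iB_pA := kernel.condition r
  total := by
    rw [kernel.lift_ι]
    abel

/-- a decomposition gives an isomorphism with the biproduct -/
noncomputable def Dec.isoBiprod [HasBinaryBiproducts C] {M A B : C} (h : Dec M A B) :
    M ≅ A ⊞ B where
  hom := biprod.lift h.pA h.pB
  inv := biprod.desc h.iA h.iB
  hom_inv_id := by rw [biprod.lift_desc, h.total]
  inv_hom_id := by
    ext <;> simp [h.iA_pA, h.iB_pB, h.iA_pB, h.iB_pA]

end Cat

section Cons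

/-- adding one summand to a finite coproduct -/
theorem nonempty_coprod_cons_iso {C : Type*} [Category C] [HasFiniteCoproducts C]
    [HasBinaryCoproducts C] {r : ℕ} (f : Fin (r + 1) → C) :
    Nonempty (f 0 ⨿ (∐ fun i : Fin r => f i.succ) ≅ ∐ f) := by
  let c₁ : Cofan (fun i : Fin r => f i.succ) :=
    Cofan.mk (∐ fun i : Fin r => f i.succ) (Sigma.ι _)
  have t₁ : IsColimit c₁ := coproductIsCoproduct _
  let c₂ : BinaryCofan (f 0) c₁.pt := BinaryCofan.mk coprod.inl coprod.inr
  have t₂ : IsColimit c₂ := coprodIsCoprod _ _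
  exact ⟨(extendCofanIsColimit f t₁ t₂).coconePointUniqueUpToIso (coproductIsCoproduct f)⟩

end Cons

section LA

theorem exists_scalar_of_finrank_one {k V : Type*} [Field k] [AddCommGroup V] [Module k V]
    (h : Module.finrank k V = 1) (E : V →ₗ[k] V) : ∃ c : k, ∀ v, E v = c • v := by
  obtain ⟨v₀, -, hv₀⟩ := finrank_eq_one_iff'.1 h
  obtain ⟨c, hc⟩ := hv₀ (E v₀)
  refine ⟨c, fun v => ?_⟩
  obtain ⟨a, rfl⟩ := hv₀ v
  rw [map_smul, ← hc, smul_comm]

end LA

section HH

variable (A : Type u) [CommRing A] {X : Scheme.{u}} [X.Over (Spec (CommRingCat.of A))]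

include A in
/-- vanishing of cohomology passes to retracts -/
theorem subsingleton_of_retract {M B : X.Modules} (i : B ⟶ M) (p : M ⟶ B) (h : i ≫ p = 𝟙 B)
    (n : ℕ) (hM : Subsingleton (Coh.HH X M n)) : Subsingleton (Coh.HH X B n) := by
  refine subsingleton_of_forall_eq 0 fun x => ?_
  have h1 := HHFin1.HHlin_comp A i p n x
  rw [h, HHFin1.HHlin_id] at h1
  rw [h1, Subsingleton.elim (Canon.HHlin A i n x) 0, map_zero]

end HH

section Field

variable (k : Type u) [Field k] {X : Scheme.{u}} [X.Over (Spec (CommRingCat.of k))]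

/-- additivity of the dimension of cohomology along a decomposition -/
theorem Dec.finrank_eq {M A' B : X.Modules} (h : Dec M A' B) (n : ℕ)
    [Module.Finite k (Coh.HH X A' n)] [Module.Finite k (Coh.HH X B n)] :
    Module.finrank k (Coh.HH X M n) =
      Module.finrank k (Coh.HH X A' n) + Module.finrank k (Coh.HH X B n) := by
  have h1 : ∀ a, Canon.HHlin k h.pA n (Canon.HHlin k h.iA n a) = a := fun a => by
    rw [← HHFin1.HHlin_comp, h.iA_pA, HHFin1.HHlin_id]
  have h2 : ∀ c, Canon.HHlin k h.pA n (Canon.HHlin k h.iB n c) = 0 := fun c => by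
    rw [← HHFin1.HHlin_comp, h.iB_pA, HHFin1.HHlin_zero]
  have h3 : ∀ a, Canon.HHlin k h.pB n (Canon.HHlin k h.iA n a) = 0 := fun a => by
    rw [← HHFin1.HHlin_comp, h.iA_pB, HHFin1.HHlin_zero]
  have h4 : ∀ c, Canon.HHlin k h.pB n (Canon.HHlin k h.iB n c) = c := fun c => by
    rw [← HHFin1.HHlin_comp, h.iB_pB, HHFin1.HHlin_id]
  have h5 : ∀ x, Canon.HHlin k h.iA n (Canon.HHlin k h.pA n x) +
      Canon.HHlin k h.iB n (Canon.HHlin k h.pB n x) = x := fun x => by
    rw [← HHFin1.HHlin_comp, ← HHFin1.HHlin_comp, ← HHFin1.HHlin_add, h.total, HHFin1.HHlin_id]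
  let e : Coh.HH X M n ≃ₗ[k] (Coh.HH X A' n × Coh.HH X B n) :=
    LinearEquiv.ofLinear
      ((Canon.HHlin k h.pA n).prod (Canon.HHlin k h.pB n))
      ((Canon.HHlin k h.iA n).coprod (Canon.HHlin k h.iB n))
      (LinearMap.ext fun x => by
        obtain ⟨a, c⟩ := x
        apply Prod.ext
        · change Canon.HHlin k h.pA n (Canon.HHlin k h.iA n a + Canon.HHlin k h.iB n c) = a
          rw [map_add, h1, h2, add_zero]
        · change Canon.HHlin k h.pB n (Canon.HHlin k h.iA n a + Canon.HHlin k h.iB n c) = c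
          rw [map_add, h3, h4, zero_add])
      (LinearMap.ext fun x => by
        change Canon.HHlin k h.iA n (Canon.HHlin k h.pA n x) +
          Canon.HHlin k h.iB n (Canon.HHlin k h.pB n x) = x
        exact h5 x)
  rw [e.finrank_eq, Module.finrank_prod]

/-- splitting a morphism from a dualizing module with one dimensional top cohomology -/
theorem exists_retraction_of_dual (r : ℕ) (ω : X.Modules) (tr : Coh.HH X ω r →ₗ[k] k)
    (hdual : Canon.IsRDualOver k X r ω tr) (h1 : Module.finrank k (Coh.HH X ω r) = 1)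
    {Q : X.Modules} (hQ : Coh.IsQCoh Q) (u : ω ⟶ Q) (φ : Q ⟶ ω) (hθ : u ≫ φ ≠ 0) :
    ∃ φ₂ : Q ⟶ ω, u ≫ φ₂ = 𝟙 ω := by
  obtain ⟨hω, hb⟩ := hdual
  have hinjω := (hb ω hω).1
  have hsurjQ := (hb Q hQ).2
  obtain ⟨c, hc⟩ := exists_scalar_of_finrank_one h1 (Canon.HHlin k (u ≫ φ) r)
  have hdm : ∀ (F : X.Modules) (ψ : F ⟶ ω) (x : Coh.HH X F r),
      Canon.dualityMap k X r ω tr F ψ x = tr (Canon.HHlin k ψ r x) := fun _ _ _ => rfl
  have hc0 : c ≠ 0 := by
    intro h0
    apply hθ
    apply hinjω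
    apply LinearMap.ext
    intro x
    rw [hdm, hdm, hc, h0, zero_smul, map_zero, HHFin1.HHlin_zero, map_zero]
  obtain ⟨φ₂, hφ₂⟩ := hsurjQ (c⁻¹ • Canon.dualityMap k X r ω tr Q φ)
  refine ⟨φ₂, hinjω ?_⟩
  apply LinearMap.ext
  intro x
  have e1 : Canon.dualityMap k X r ω tr ω (u ≫ φ₂) x =
      Canon.dualityMap k X r ω tr Q φ₂ (Canon.HHlin k u r x) := by
    rw [hdm, hdm, HHFin1.HHlin_comp]
  have e2 : Canon.dualityMap k X r ω tr Q φ (Canon.HHlin k u r x) = c • tr x := by
    rw [hdm, ← HHFin1.HHlin_comp, hc, map_smul]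
  rw [e1, hφ₂, LinearMap.smul_apply, e2, smul_smul, inv_mul_cancel₀ hc0, one_smul, hdm,
    HHFin1.HHlin_id]

end Field

end Groth.Agent.Helper1.Horr
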