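import Mathlib
import Groth.Agent.Lib.Helper1.HorrA
import Groth.Agent.Lib.Helper4.SerreVan
import Groth.Agent.Lib.Helper4.KosC3
import Groth.Agent.Lib.Helper4.KrrG
import Groth.Agent.Lib.Helper4.KrrD
import Groth.Agent.Lib.Helper4.KrrL
import Groth.Agent.Lib.Helper4.PnX1
import Groth.Agent.Lib.Helper4.PnC7
import Groth.Agent.Lib.Helper4.DuD5
import Groth.Agent.Lib.Helper4.DuF3
import Groth.Agent.Lib.Lead.GZ3
import Groth.Agent.Lib.Helper1.PFrame2
import Groth.Agent.Lib.Helper1.CohAbel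
import Groth.Agent.Lib.Helper1.HH0
import Groth.Agent.Lib.Helper1.Dv34
import Groth.Agent.S0022
import Groth.Agent.S0844

/-!
# The Horrocks splitting criterion on projective space over a field (helper1)
-/

set_option backward.isDefEq.respectTransparency.types false
set_option synthInstance.maxHeartbeats 400000
set_option autoImplicit false
set_option linter.unusedSectionVars false
set_option linter.style.haveILetI false
set_option linter.unusedVariables false
universe u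
open CategoryTheory CategoryTheory.Limits AlgebraicGeometry TopologicalSpace Opposite

namespace Groth.Agent.Helper1.HorrB

open Groth.Agent.Helper1.Horr Groth.Agent.Lib.Helper4 Groth.Agent.Helper1

variable (d : ℕ) (K : Type u) [Field K]

/-- `O(a) ≅ O(b)` for `a = b` -/
noncomputable def isoOfEq {a b : ℤ} (h : a = b) :
    Twist.twistProjSpace d K a ≅ Twist.twistProjSpace d K b := eqToIso (by rw [h])

theorem inv_O (n : ℤ) : PicF.IsInvertible (Twist.twistProjSpace d K n) :=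
  (TwistTens.twist_package (CohB1.polyGrading d K) (SerreFin.hcov1 d K)).1 n

theorem nonempty_OO (a b : ℤ) :
    Nonempty (CohB1.tensorMod (Twist.twistProjSpace d K a) (Twist.twistProjSpace d K b) ≅
      Twist.twistProjSpace d K (a + b)) :=
  (TwistTens.twist_package (CohB1.polyGrading d K) (SerreFin.hcov1 d K)).2.1 a b

/-- vanishing of the intermediate cohomology of all twists -/
def Mid (F : (CohB1.ProjSpace d K).Modules) : Prop :=
  ∀ (n : ℤ) (i : ℕ), 1 ≤ i → i < d →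
    Subsingleton (Coh.HH (CohB1.ProjSpace d K)
      (CohB1.tensorMod F (Twist.twistProjSpace d K n)) i)

/-- vanishing of `H⁰` of the negative twists -/
def Low (F : (CohB1.ProjSpace d K).Modules) (n₀ : ℤ) : Prop :=
  ∀ n : ℤ, n ≤ n₀ →
    Subsingleton (Coh.HH (CohB1.ProjSpace d K)
      (CohB1.tensorMod F (Twist.twistProjSpace d K n)) 0)

/-- vanishing of the top cohomology of the positive twists -/
def Top (F : (CohB1.ProjSpace d K).Modules) (T : ℤ) : Prop :=
  ∀ n : ℤ, T ≤ n →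
    Subsingleton (Coh.HH (CohB1.ProjSpace d K)
      (CohB1.tensorMod F (Twist.twistProjSpace d K n)) d)

/-- being a finite direct sum of twisting sheaves -/
def IsSplit (F : (CohB1.ProjSpace d K).Modules) : Prop :=
  ∃ (r : ℕ) (a : Fin r → ℤ), Nonempty (F ≅ ∐ fun j => Twist.twistProjSpace d K (a j))

/-- `h^q(F(n))` -/
noncomputable def hq (F : (CohB1.ProjSpace d K).Modules) (n : ℤ) (q : ℕ) : ℕ :=
  Module.finrank K (Coh.HH (CohB1.ProjSpace d K)
    (CohB1.tensorMod F (Twist.twistProjSpace d K n)) q)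

section Transfer

theorem sub_tw_retract {M B : (CohB1.ProjSpace d K).Modules} (i : B ⟶ M) (p : M ⟶ B)
    (h : i ≫ p = 𝟙 B) (n : ℤ) (q : ℕ)
    (hM : Subsingleton (Coh.HH (CohB1.ProjSpace d K)
      (CohB1.tensorMod M (Twist.twistProjSpace d K n)) q)) :
    Subsingleton (Coh.HH (CohB1.ProjSpace d K)
      (CohB1.tensorMod B (Twist.twistProjSpace d K n)) q) :=
  Dv.subsingleton_HH_of_retract ((SerreVan.Tw d K n).map i) ((SerreVan.Tw d K n).map p)
    (by rw [← CategoryTheory.Functor.map_comp, h, CategoryTheory.Functor.map_id]) q hM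

theorem sub_tw_tw (F : (CohB1.ProjSpace d K).Modules) (a n c : ℤ) (hc : c = a + n) (q : ℕ)
    (h : Subsingleton (Coh.HH (CohB1.ProjSpace d K)
      (CohB1.tensorMod F (Twist.twistProjSpace d K c)) q)) :
    Subsingleton (Coh.HH (CohB1.ProjSpace d K)
      (CohB1.tensorMod (CohB1.tensorMod F (Twist.twistProjSpace d K a))
        (Twist.twistProjSpace d K n)) q) := by
  subst hc
  obtain ⟨e⟩ := KosC3.nonempty_twist_twist_iso d K F a n
  exact Dv.subsingleton_HH_of_iso e q h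

theorem mid_tw (F : (CohB1.ProjSpace d K).Modules) (a : ℤ) (h : Mid d K F) :
    Mid d K (CohB1.tensorMod F (Twist.twistProjSpace d K a)) :=
  fun n i h1 h2 => sub_tw_tw d K F a n (a + n) rfl i (h (a + n) i h1 h2)

theorem low_tw (F : (CohB1.ProjSpace d K).Modules) (a n₀ : ℤ) (h : Low d K F n₀) :
    Low d K (CohB1.tensorMod F (Twist.twistProjSpace d K a)) (n₀ - a) :=
  fun n hn => sub_tw_tw d K F a n (a + n) rfl 0 (h (a + n) (by omega))

theorem top_tw (F : (CohB1.ProjSpace d K).Modules) (a T : ℤ) (h : Top d K F T) :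
    Top d K (CohB1.tensorMod F (Twist.twistProjSpace d K a)) (T - a) :=
  fun n hn => sub_tw_tw d K F a n (a + n) rfl d (h (a + n) (by omega))

theorem nonempty_untwist (F : (CohB1.ProjSpace d K).Modules) (a : ℤ) :
    Nonempty (CohB1.tensorMod (CohB1.tensorMod F (Twist.twistProjSpace d K a))
      (Twist.twistProjSpace d K (-a)) ≅ F) := by
  obtain ⟨e1⟩ := KosC3.nonempty_twist_twist_iso d K F a (-a)
  obtain ⟨e2⟩ := KrrD.nonempty_twist_zero_iso d K F
  exact ⟨e1 ≪≫ Groth.Agent.Lead.TilT.tensorModCongr (Iso.refl F)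
    (isoOfEq d K (add_neg_cancel a)) ≪≫ e2⟩

end Transfer

section HQ

theorem hq_tw (F : (CohB1.ProjSpace d K).Modules) (a n c : ℤ) (hc : c = a + n) (q : ℕ) :
    hq d K (CohB1.tensorMod F (Twist.twistProjSpace d K a)) n q = hq d K F c q := by
  subst hc
  obtain ⟨e⟩ := KosC3.nonempty_twist_twist_iso d K F a n
  exact (HHFin1.HHequiv K e q).finrank_eq

theorem hq_O (a n : ℤ) (m : ℕ) (h : a + n = m) :
    hq d K (Twist.twistProjSpace d K a) n 0 = (m + d).choose d := by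
  obtain ⟨e⟩ := nonempty_OO d K a n
  have e' : Twist.twistProjSpace d K (a + n) ≅ Twist.twistProjSpace d K (m : ℤ) :=
    isoOfEq d K h
  exact ((HHFin1.HHequiv K (e ≪≫ e') 0).finrank_eq).trans (PnX1.fr_H0 K d m)

theorem hq_dec {M A B : (CohB1.ProjSpace d K).Modules} (D : Dec M A B) (hA : Coh.IsCoh A)
    (hB : Coh.IsCoh B) (n : ℤ) (q : ℕ) :
    hq d K M n q = hq d K A n q + hq d K B n q := by
  haveI : Module.Finite K (Coh.HH (CohB1.ProjSpace d K) ((SerreVan.Tw d K n).obj A) q) :=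
    SerreFin.s0038 d K _ (SerreVan.isCoh_Tw d K n A hA) q
  haveI : Module.Finite K (Coh.HH (CohB1.ProjSpace d K) ((SerreVan.Tw d K n).obj B) q) :=
    SerreFin.s0038 d K _ (SerreVan.isCoh_Tw d K n B hB) q
  exact Dec.finrank_eq K (D.map (SerreVan.Tw d K n)) q

theorem finrank_top_omega :
    Module.finrank K (Coh.HH (CohB1.ProjSpace d K)
      (Twist.twistProjSpace d K (-((d : ℤ) + 1))) d) = 1 := by
  have key : ∀ c : ℤ, c = -((d : ℤ) + 1 + ((0 : ℕ) : ℤ)) →
      Module.finrank K (Coh.HH (CohB1.ProjSpace d K) (Twist.twistProjSpace d K c) d) = 1 := by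
    rintro c rfl
    rw [PnX1.fr_Hr K d 0, Nat.zero_add, Nat.choose_self]
  exact key _ (by simp)

end HQ

section Split

theorem isSplit_of_iso {F G : (CohB1.ProjSpace d K).Modules} (e : F ≅ G) (h : IsSplit d K F) :
    IsSplit d K G := by
  obtain ⟨r, a, ⟨e'⟩⟩ := h
  exact ⟨r, a, ⟨e.symm ≪≫ e'⟩⟩

theorem isSplit_of_isZero {F : (CohB1.ProjSpace d K).Modules} (h : IsZero F) : IsSplit d K F := by
  refine ⟨0, fun j => j.elim0, ⟨h.iso ?_⟩⟩
  rw [IsZero.iff_id_eq_zero]
  apply Sigma.hom_ext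
  intro j
  exact j.elim0

theorem isSplit_tw {F : (CohB1.ProjSpace d K).Modules} (t : ℤ) (h : IsSplit d K F) :
    IsSplit d K (CohB1.tensorMod F (Twist.twistProjSpace d K t)) := by
  obtain ⟨r, a, ⟨e⟩⟩ := h
  refine ⟨r, fun j => a j + t, ⟨?_⟩⟩
  have e1 : CohB1.tensorMod F (Twist.twistProjSpace d K t) ≅
      (SerreVan.Tw d K t).obj (∐ fun j => Twist.twistProjSpace d K (a j)) :=
    (SerreVan.Tw d K t).mapIso e
  have e2 := PreservesCoproduct.iso (SerreVan.Tw d K t) (fun j => Twist.twistProjSpace d K (a j))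
  have e3 : (∐ fun j => (SerreVan.Tw d K t).obj (Twist.twistProjSpace d K (a j))) ≅
      ∐ fun j => Twist.twistProjSpace d K (a j + t) :=
    Sigma.mapIso (fun j => (nonempty_OO d K (a j) t).some)
  exact e1 ≪≫ e2 ≪≫ e3

theorem isSplit_of_dec {Q B : (CohB1.ProjSpace d K).Modules} (c : ℤ)
    (D : Dec Q (Twist.twistProjSpace d K c) B) (h : IsSplit d K B) : IsSplit d K Q := by
  obtain ⟨r, a, ⟨e⟩⟩ := h
  obtain ⟨e4⟩ := nonempty_coprod_cons_iso
    (fun i : Fin (r + 1) => Twist.twistProjSpace d K ((Fin.cons c a : Fin (r + 1) → ℤ) i))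
  refine ⟨r + 1, Fin.cons c a, ⟨?_⟩⟩
  have e1 : Q ≅ Twist.twistProjSpace d K c ⨿ B := D.isoBiprod ≪≫ biprod.isoCoprod _ _
  have e2 : Twist.twistProjSpace d K c ⨿ B ≅
      Twist.twistProjSpace d K ((Fin.cons c a : Fin (r + 1) → ℤ) 0) ⨿
        ∐ fun i : Fin r => Twist.twistProjSpace d K ((Fin.cons c a : Fin (r + 1) → ℤ) i.succ) :=
    coprod.mapIso (isoOfEq d K (by simp))
      (e ≪≫ Sigma.mapIso (fun j => isoOfEq d K (by simp)))
  exact e1 ≪≫ e2 ≪≫ e4

end Split

section Reg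

theorem reg_tw (F : (CohB1.ProjSpace d K).Modules) (hF : Coh.IsCoh F) (hmid : Mid d K F) (t : ℤ)
    (htop : Subsingleton (Coh.HH (CohB1.ProjSpace d K)
      (CohB1.tensorMod F (Twist.twistProjSpace d K (t - d))) d)) :
    KrrC.Reg d K (CohB1.tensorMod F (Twist.twistProjSpace d K t)) 0 := by
  intro i hi
  rcases lt_trichotomy i d with hlt | heq | hgt
  · exact sub_tw_tw d K F t (0 - (i : ℤ)) _ rfl i (hmid _ i hi hlt)
  · subst heq
    exact sub_tw_tw i K F t (0 - (i : ℤ)) (t - i) (by ring) i htop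
  · exact @Groth.Agent.S0022.result d K _ _
      (SerreVan.isCoh_Tw d K _ _ (SerreVan.isCoh_Tw d K t F hF)).1 i hgt

theorem exists_top_ne (F : (CohB1.ProjSpace d K).Modules) (hF : Coh.IsCoh F) (hF0 : ¬ IsZero F)
    (n₀ : ℤ) (hmid : Mid d K F) (hlow : Low d K F n₀) :
    ∃ n : ℤ, ¬ Subsingleton (Coh.HH (CohB1.ProjSpace d K)
      (CohB1.tensorMod F (Twist.twistProjSpace d K n)) d) := by
  by_contra hcon
  have hall : ∀ n : ℤ, Subsingleton (Coh.HH (CohB1.ProjSpace d K)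
      (CohB1.tensorMod F (Twist.twistProjSpace d K n)) d) := fun n => by
    by_contra h
    exact hcon ⟨n, h⟩
  apply hF0
  have hG : Coh.IsCoh (CohB1.tensorMod F (Twist.twistProjSpace d K n₀)) :=
    SerreVan.isCoh_Tw d K n₀ F hF
  haveI : (CohB1.tensorMod F (Twist.twistProjSpace d K n₀)).IsQuasicoherent := hG.1
  have hreg := reg_tw d K F hF hmid n₀ (hall _)
  have hgg := KrrG.isGloballyGenerated_of_reg d K _ hreg
  have h0 : Subsingleton (Coh.HH (CohB1.ProjSpace d K)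
      (CohB1.tensorMod F (Twist.twistProjSpace d K n₀)) 0) := hlow n₀ le_rfl
  have hsub : Subsingleton Γ(CohB1.tensorMod F (Twist.twistProjSpace d K n₀), ⊤) :=
    (HH0.equiv (CohB1.ProjSpace d K) _).symm.toEquiv.subsingleton
  have hz : IsZero (CohB1.tensorMod F (Twist.twistProjSpace d K n₀)) :=
    KrrL.isZero_of_globGen _ hgg hsub
  obtain ⟨e⟩ := nonempty_untwist d K F n₀
  exact (CategoryTheory.Functor.map_isZero (SerreVan.Tw d K (-n₀)) hz).of_iso e.symm

end Reg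

section Step

/-- the splitting step: a copy of `ω = O(-d-1)` splits off -/
theorem exists_split_omega (hd : 1 ≤ d) (Q : (CohB1.ProjSpace d K).Modules) (hQ : Coh.IsCoh Q)
    (hmid : Mid d K Q) (htop : Top d K Q 1)
    (hne : ¬ Subsingleton (Coh.HH (CohB1.ProjSpace d K) Q d)) :
    ∃ (u : Twist.twistProjSpace d K (-((d : ℤ) + 1)) ⟶ Q)
      (φ₂ : Q ⟶ Twist.twistProjSpace d K (-((d : ℤ) + 1))), u ≫ φ₂ = 𝟙 _ := by
  obtain ⟨tr, hdual⟩ := DuD5.s13309 K d
  have hfr := finrank_top_omega d K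
  -- a nonzero morphism `φ : Q ⟶ ω`
  obtain ⟨x, hx⟩ : ∃ x : Coh.HH (CohB1.ProjSpace d K) Q d, x ≠ 0 := by
    by_contra hcon
    apply hne
    refine ⟨fun a b => ?_⟩
    have h1 : ∀ y : Coh.HH (CohB1.ProjSpace d K) Q d, y = 0 := fun y => by
      by_contra h
      exact hcon ⟨y, h⟩
    rw [h1 a, h1 b]
  obtain ⟨f, hf⟩ : ∃ f : Module.Dual K (Coh.HH (CohB1.ProjSpace d K) Q d), f x ≠ 0 := by
    by_contra hcon
    apply hx
    apply (Module.forall_dual_apply_eq_zero_iff K x).1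
    intro f
    by_contra h
    exact hcon ⟨f, h⟩
  obtain ⟨φ, hφ⟩ := (hdual.2 Q hQ.1).2 f
  have hφ0 : φ ≠ 0 := by
    intro h0
    apply hf
    rw [← hφ, h0]
    show tr (Canon.HHlin K (0 : Q ⟶ Twist.twistProjSpace d K (-((d : ℤ) + 1))) d x) = 0
    rw [HHFin1.HHlin_zero, map_zero]
  -- the regular twist
  have hG : Coh.IsCoh ((SerreVan.Tw d K ((d : ℤ) + 1)).obj Q) := SerreVan.isCoh_Tw d K _ Q hQ
  haveI : ((SerreVan.Tw d K ((d : ℤ) + 1)).obj Q).IsQuasicoherent := hG.1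
  have hreg : KrrC.Reg d K ((SerreVan.Tw d K ((d : ℤ) + 1)).obj Q) 0 :=
    reg_tw d K Q hQ hmid ((d : ℤ) + 1) (htop ((d : ℤ) + 1 - d) (by omega))
  have hgg : Curv2.IsGloballyGenerated ((SerreVan.Tw d K ((d : ℤ) + 1)).obj Q) :=
    KrrG.isGloballyGenerated_of_reg d K _ hreg
  haveI : (SerreVan.Tw d K ((d : ℤ) + 1)).IsEquivalence :=
    DuF3.isEquivalence_TL_of_isInvertible (inv_O d K _)
  have hπ : (SerreVan.Tw d K ((d : ℤ) + 1)).map φ ≠ 0 := fun h =>
    hφ0 ((CategoryTheory.Functor.map_eq_zero_iff (SerreVan.Tw d K ((d : ℤ) + 1))).1 h)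
  obtain ⟨t, ht⟩ : ∃ t : Γ((SerreVan.Tw d K ((d : ℤ) + 1)).obj Q, ⊤),
      ((SerreVan.Tw d K ((d : ℤ) + 1)).map φ).app ⊤ t ≠ 0 := by
    by_contra hcon
    apply hπ
    apply Groth.Agent.Lead.GZ.eq_zero_of_isGloballyGenerated hgg
    intro t
    by_contra h
    exact hcon ⟨t, h⟩
  obtain ⟨s, hs⟩ : ∃ s : Coh.structureModule (CohB1.ProjSpace d K) ⟶
      (SerreVan.Tw d K ((d : ℤ) + 1)).obj Q,
      s.app ⊤ (show Γ(Coh.structureModule (CohB1.ProjSpace d K), ⊤) from
        (1 : Γ(CohB1.ProjSpace d K, ⊤))) = t :=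
    ⟨TwistAmple.homOfSec _ t, PFrame.homOfSec_app_one _ t⟩
  have hsπ : s ≫ (SerreVan.Tw d K ((d : ℤ) + 1)).map φ ≠ 0 := by
    intro h0
    apply ht
    rw [← hs]
    exact (congrArg (fun ψ : Coh.structureModule (CohB1.ProjSpace d K) ⟶
      (SerreVan.Tw d K ((d : ℤ) + 1)).obj (Twist.twistProjSpace d K (-((d : ℤ) + 1))) =>
        ψ.app ⊤ (show Γ(Coh.structureModule (CohB1.ProjSpace d K), ⊤) from
          (1 : Γ(CohB1.ProjSpace d K, ⊤)))) h0 :)
  -- `ω(d+1) ≅ O`
  obtain ⟨e1⟩ := nonempty_OO d K (-((d : ℤ) + 1)) ((d : ℤ) + 1)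
  obtain ⟨e2⟩ := PnC7.nonempty_iso_twist_zero d K
  have e : (SerreVan.Tw d K ((d : ℤ) + 1)).obj (Twist.twistProjSpace d K (-((d : ℤ) + 1))) ≅
      Coh.structureModule (CohB1.ProjSpace d K) :=
    e1 ≪≫ isoOfEq d K (neg_add_cancel _) ≪≫ e2
  obtain ⟨u, hu⟩ := (SerreVan.Tw d K ((d : ℤ) + 1)).map_surjective (e.hom ≫ s)
  have hθ : u ≫ φ ≠ 0 := by
    intro h0
    have h1 : (SerreVan.Tw d K ((d : ℤ) + 1)).map (u ≫ φ) = 0 := by
      rw [h0, CategoryTheory.Functor.map_zero]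
    rw [CategoryTheory.Functor.map_comp, hu, Category.assoc] at h1
    apply hsπ
    rw [← cancel_epi e.hom, h1, comp_zero]
  obtain ⟨φ₂, hφ₂⟩ := exists_retraction_of_dual K d _ tr hdual hfr hQ.1 u φ hθ
  exact ⟨u, φ₂, hφ₂⟩

end Step

section Core

theorem core (hd : 1 ≤ d) (c : ℕ) : ∀ (F : (CohB1.ProjSpace d K).Modules) (hF : Coh.IsCoh F)
    (n₀ T : ℤ), Mid d K F → Low d K F n₀ → Top d K F T → hq d K F (T + d) 0 = c →
    IsSplit d K F := by
  induction c using Nat.strong_induction_on with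
  | _ c ih =>
    intro F hF n₀ T hmid hlow htop hc
    by_cases hF0 : IsZero F
    · exact isSplit_of_isZero d K hF0
    obtain ⟨m₁, hm₁, hmax⟩ := Int.exists_greatest_of_bdd
      (P := fun n : ℤ => ¬ Subsingleton (Coh.HH (CohB1.ProjSpace d K)
        (CohB1.tensorMod F (Twist.twistProjSpace d K n)) d))
      ⟨T - 1, fun z hz => by
        by_contra hlt
        exact hz (htop z (by omega))⟩
      (exists_top_ne d K F hF hF0 n₀ hmid hlow)
    have hm₁' : ¬ Subsingleton (Coh.HH (CohB1.ProjSpace d K)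
        (CohB1.tensorMod F (Twist.twistProjSpace d K m₁)) d) := hm₁
    have hm₁T : m₁ < T := by
      by_contra h
      exact hm₁' (htop m₁ (by omega))
    have hQ : Coh.IsCoh (CohB1.tensorMod F (Twist.twistProjSpace d K m₁)) :=
      SerreVan.isCoh_Tw d K m₁ F hF
    have hmidQ := mid_tw d K F m₁ hmid
    have htopQ : Top d K (CohB1.tensorMod F (Twist.twistProjSpace d K m₁)) 1 := by
      intro n hn
      apply sub_tw_tw d K F m₁ n (m₁ + n) rfl d
      by_contra hcon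
      have := hmax (m₁ + n) hcon
      omega
    obtain ⟨u, φ₂, hu⟩ := exists_split_omega d K hd _ hQ hmidQ htopQ hm₁'
    have D : Dec (CohB1.tensorMod F (Twist.twistProjSpace d K m₁))
        (Twist.twistProjSpace d K (-((d : ℤ) + 1))) (kernel φ₂) := Dec.ofSplit u φ₂ hu
    have hω : Coh.IsCoh (Twist.twistProjSpace d K (-((d : ℤ) + 1))) := SerreFin.isCoh_twist d K _
    have hB : Coh.IsCoh (kernel φ₂) := FtLocal.isCoh_kernel hQ hω φ₂
    have hmidB : Mid d K (kernel φ₂) := fun n i h1 h2 =>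
      sub_tw_retract d K D.iB D.pB D.iB_pB n i (hmidQ n i h1 h2)
    have hlowB : Low d K (kernel φ₂) (n₀ - m₁) := fun n hn =>
      sub_tw_retract d K D.iB D.pB D.iB_pB n 0 (low_tw d K F m₁ n₀ hlow n hn)
    have htopB : Top d K (kernel φ₂) (T - m₁) := fun n hn =>
      sub_tw_retract d K D.iB D.pB D.iB_pB n d (top_tw d K F m₁ T htop n hn)
    have h1 : hq d K (CohB1.tensorMod F (Twist.twistProjSpace d K m₁)) (T - m₁ + d) 0 = c := by
      rw [hq_tw d K F m₁ (T - m₁ + d) (T + d) (by ring), hc]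
    have h2 := hq_dec d K D hω hB (T - m₁ + d) 0
    obtain ⟨m, hm⟩ := Int.eq_ofNat_of_zero_le (show 0 ≤ T - m₁ - 1 by omega)
    have h3 := hq_O d K (-((d : ℤ) + 1)) (T - m₁ + d) m (by omega)
    have h4 : 0 < (m + d).choose d := Nat.choose_pos (by omega)
    have hsB : IsSplit d K (kernel φ₂) :=
      ih (hq d K (kernel φ₂) (T - m₁ + d) 0) (by omega) (kernel φ₂) hB (n₀ - m₁) (T - m₁)
        hmidB hlowB htopB rfl
    have hsQ : IsSplit d K (CohB1.tensorMod F (Twist.twistProjSpace d K m₁)) :=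
      isSplit_of_dec d K _ D hsB
    obtain ⟨e⟩ := nonempty_untwist d K F m₁
    exact isSplit_of_iso d K e (isSplit_tw d K (-m₁) hsQ)

end Core

section Main

theorem sub_of_split {F : (CohB1.ProjSpace d K).Modules} {r : ℕ} (a : Fin r → ℤ)
    (e : F ≅ ∐ fun j => Twist.twistProjSpace d K (a j)) (n : ℤ) (i : ℕ)
    (h : ∀ j, ¬ (i = 0 ∧ 0 ≤ a j + n) ∧ ¬ (i = d ∧ a j + n ≤ -((d : ℤ) + 1))) :
    Subsingleton (Coh.HH (CohB1.ProjSpace d K)
      (CohB1.tensorMod F (Twist.twistProjSpace d K n)) i) := by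
  have h1 : Subsingleton (Coh.HH (CohB1.ProjSpace d K)
      ((SerreVan.Tw d K n).obj (∐ fun j => Twist.twistProjSpace d K (a j))) i) := by
    apply SerreVan.subsingleton_sigma K (X := CohB1.ProjSpace d K) (SerreVan.Tw d K n) _ i
    intro j
    obtain ⟨e1⟩ := nonempty_OO d K (a j) n
    exact Dv.subsingleton_HH_of_iso e1 i
      (Groth.Agent.S0844.result K d (a j + n) i (h j).1 (h j).2)
  exact Dv.subsingleton_HH_of_iso ((SerreVan.Tw d K n).mapIso e) i h1

theorem main (hd : 1 ≤ d) (F : (CohB1.ProjSpace d K).Modules) (hF : Coh.IsCoh F) :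
    (∃ (r : ℕ) (a : Fin r → ℤ),
        Nonempty (F ≅ ∐ fun j => Twist.twistProjSpace d K (a j))) ↔
      ((∃ n₀ : ℤ, ∀ n : ℤ, n ≤ n₀ → Subsingleton (Coh.HH (CohB1.ProjSpace d K)
          (CohB1.tensorMod F (Twist.twistProjSpace d K n)) 0)) ∧
        ∀ (n : ℤ) (i : ℕ), 1 ≤ i → i < d → Subsingleton (Coh.HH (CohB1.ProjSpace d K)
          (CohB1.tensorMod F (Twist.twistProjSpace d K n)) i)) := by
  constructor
  · rintro ⟨r, a, ⟨e⟩⟩
    refine ⟨⟨-(Finset.univ.sum fun j => abs (a j)) - 1, fun n hn => ?_⟩, fun n i h1 h2 => ?_⟩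
    · apply sub_of_split d K a e n 0
      intro j
      have hj : a j ≤ Finset.univ.sum fun j => abs (a j) :=
        (le_abs_self (a j)).trans (Finset.single_le_sum (f := fun j => abs (a j))
          (fun j _ => abs_nonneg (a j)) (Finset.mem_univ j))
      refine ⟨fun ⟨_, h⟩ => ?_, fun ⟨h, _⟩ => ?_⟩
      · omega
      · omega
    · apply sub_of_split d K a e n i
      intro j
      exact ⟨fun ⟨h, _⟩ => by omega, fun ⟨h, _⟩ => by omega⟩
  · rintro ⟨⟨n₀, hlow⟩, hmid⟩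
    obtain ⟨T, hT⟩ := SerreVan.serre_vanishing d K F hF
    exact core d K hd _ F hF n₀ T hmid hlow (fun n hn => hT n hn d (by omega)) rfl

end Main

end Groth.Agent.Helper1.HorrB
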