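import Mathlib
import Groth.Agent.Lib.Helper1.GGBound
import Groth.Agent.Lib.Helper1.SnapCart2
import Groth.Agent.Lib.Helper1.HorrB
import Groth.Agent.Lib.Helper4.Hyp3
import Groth.Agent.Lib.Helper4.KosC4
import Groth.Agent.Lib.Helper5.Misc.SnakeMono
import Groth.Agent.Lib.Helper1.P1Iso2
import Groth.Agent.Lib.Helper1.H1Ext
import Groth.Agent.Lib.Helper1.Euler2
import Groth.Agent.Lib.Helper1.VA5
import Groth.Agent.S1576
import Groth.Agent.S0022

/-!
# Mumford's uniform regularity bound for kernels of quotients on projective space (helper1)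

Part A: hyperplane sections avoiding associated points, the restriction sequences and the
uniform bound by induction on the degree of the Hilbert polynomial of the middle term.
-/

set_option backward.isDefEq.respectTransparency.types false
set_option synthInstance.maxHeartbeats 400000
set_option autoImplicit false
set_option linter.unusedSectionVars false
set_option linter.style.haveILetI false
set_option linter.unusedVariables false
universe u
open CategoryTheory CategoryTheory.Limits AlgebraicGeometry TopologicalSpace Opposite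

namespace Groth.Agent.Helper1.MumA

open Groth.Agent.Lib.Helper4 Groth.Agent.Helper1 Groth.Agent.Helper1.HorrB

section Poly

/-- the difference polynomial `Q(x) - Q(x - 1)` -/
noncomputable def delta (Q : Polynomial ℚ) : Polynomial ℚ := Q - Polynomial.taylor (-1) Q

theorem delta_eval (Q : Polynomial ℚ) (x : ℚ) :
    (delta Q).eval x = Q.eval x - Q.eval (x - 1) := by
  unfold delta
  rw [Polynomial.eval_sub, Polynomial.taylor_eval, sub_eq_add_neg x 1]

theorem degree_delta_lt (Q : Polynomial ℚ) (e : ℕ) (h : Q.degree < ((e + 1 : ℕ) : WithBot ℕ)) :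
    (delta Q).degree < (e : WithBot ℕ) := by
  by_cases hQ : Q = 0
  · subst hQ
    have : delta (0 : Polynomial ℚ) = 0 := by simp [delta]
    rw [this, Polynomial.degree_zero]
    exact WithBot.bot_lt_coe e
  · have h1 : (delta Q).degree < Q.degree :=
      Polynomial.degree_sub_lt_left (by rw [Polynomial.degree_taylor]) hQ
        (by rw [Polynomial.leadingCoeff_taylor])
    have h2 : Q.natDegree < e + 1 := by
      rw [Polynomial.degree_eq_natDegree hQ] at h
      exact_mod_cast h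
    calc (delta Q).degree < Q.degree := h1
      _ = (Q.natDegree : WithBot ℕ) := Polynomial.degree_eq_natDegree hQ
      _ ≤ (e : WithBot ℕ) := by exact_mod_cast Nat.lt_succ_iff.1 h2

end Poly

section Pn

variable (n : ℕ) (k : Type u) [Field k]

instance instProperPn : IsProper ((CohB1.ProjSpace n k) ↘ Spec (CommRingCat.of k)) :=
  VA5.isProper_toSpec n k

/-- Euler characteristic of the twist `M(t)` -/
noncomputable def chi (M : (CohB1.ProjSpace n k).Modules) (t : ℤ) : ℤ :=
  Curv2.euler k (CohB1.ProjSpace n k) ((SerreVan.Tw n k t).obj M)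

theorem chi_iso {M N : (CohB1.ProjSpace n k).Modules} (e : M ≅ N) (t : ℤ) :
    chi n k M t = chi n k N t :=
  Euler.euler_iso k _ ((SerreVan.Tw n k t).mapIso e)

theorem isMRegular_of_iso {M N : (CohB1.ProjSpace n k).Modules} (e : M ≅ N) (m : ℤ)
    (h : Curv2.IsMRegular k n M m) : Curv2.IsMRegular k n N m := fun i hi hin =>
  SerreVan.subsingleton_of_iso k ((SerreVan.Tw n k (m - i)).mapIso e) i (h i hi hin)

/-- an `a`-regular coherent module has no higher cohomology after twisting by `t ≥ a - 1` -/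
theorem vanish_of_reg (M : (CohB1.ProjSpace n k).Modules) (hM : Coh.IsCoh M) (a t : ℤ)
    (h : Curv2.IsMRegular k n M a) (hat : a ≤ t + 1) (i : ℕ) (hi : 1 ≤ i) :
    Subsingleton (Coh.HH (CohB1.ProjSpace n k)
      (CohB1.tensorMod M (Twist.twistProjSpace n k t)) i) := by
  by_cases hin : i ≤ n
  · have h' := KosC4.isMRegular_of_le n k M hM a h (t + i) (by omega)
    exact KosC1.subsingleton_twist_congr n k M (by ring) i (h' i hi hin)
  · exact @Groth.Agent.S0022.result n k _ _ (SerreVan.isCoh_Tw n k t M hM).1 i (by omega)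

/-- `O(1)` is globally generated -/
theorem gg_O1 : Curv2.IsGloballyGenerated (Twist.twistProjSpace n k 1) := by
  haveI : (Twist.twistProjSpace n k 1).IsQuasicoherent := (SerreFin.isCoh_twist n k 1).1
  apply KrrG.isGloballyGenerated_of_reg n k
  intro i hi
  obtain ⟨e⟩ := nonempty_OO n k 1 (0 - i)
  exact SerreVan.subsingleton_of_iso k e.symm i
    (PnC6.s0844 n k _ i (by omega) (by omega))

/-- a coherent regular module whose Euler characteristic vanishes for large twists is zero -/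
theorem isZero_of_chi_zero (M : (CohB1.ProjSpace n k).Modules) (hM : Coh.IsCoh M) (a t₀ : ℤ)
    (hreg : Curv2.IsMRegular k n M a) (h : ∀ t : ℤ, t₀ ≤ t → chi n k M t = 0) : IsZero M := by
  obtain ⟨t, ht⟩ : ∃ t : ℤ, t = max t₀ a := ⟨_, rfl⟩
  have ht1 : t₀ ≤ t := ht ▸ le_max_left _ _
  have ht2 : a ≤ t := ht ▸ le_max_right _ _
  have hv : ∀ i : ℕ, 1 ≤ i → Subsingleton (Coh.HH (CohB1.ProjSpace n k)
      ((SerreVan.Tw n k t).obj M) i) :=
    fun i hi => vanish_of_reg n k M hM a t hreg (by omega) i hi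
  have hc : Coh.IsCoh ((SerreVan.Tw n k t).obj M) := SerreVan.isCoh_Tw n k t M hM
  have he : chi n k M t = (Module.finrank k (Coh.HH (CohB1.ProjSpace n k)
      ((SerreVan.Tw n k t).obj M) 0) : ℤ) := by
    unfold chi
    rw [Euler.euler_eq_sum k _ 1 _ (fun p hp => hv p hp)]
    simp
  have h0 : Module.finrank k (Coh.HH (CohB1.ProjSpace n k) ((SerreVan.Tw n k t).obj M) 0) = 0 := by
    have := h t ht1
    rw [he] at this
    exact_mod_cast this
  haveI : Module.Finite k (Coh.HH (CohB1.ProjSpace n k) ((SerreVan.Tw n k t).obj M) 0) :=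
    SerreFin.s0038 n k _ hc 0
  have hsub : Subsingleton (Coh.HH (CohB1.ProjSpace n k) ((SerreVan.Tw n k t).obj M) 0) :=
    Module.finrank_zero_iff.1 h0
  have hΓ : Subsingleton Γ((SerreVan.Tw n k t).obj M, ⊤) :=
    (HH0.equiv (CohB1.ProjSpace n k) _).symm.toEquiv.subsingleton
  have hgg : Curv2.IsGloballyGenerated ((SerreVan.Tw n k t).obj M) :=
    KosC4.s1647 n k M hM t (KosC4.isMRegular_of_le n k M hM a hreg t ht2)
  have hz : IsZero ((SerreVan.Tw n k t).obj M) :=
    P1Iso.isZero_of_gg_of_subsingleton_top _ hgg hΓ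
  obtain ⟨φ⟩ := KosC3.nonempty_twist_twist_iso n k M t (-t)
  obtain ⟨φ0⟩ := KrrD.nonempty_twist_zero_iso n k M
  have hz2 : IsZero ((SerreVan.Tw n k (-t)).obj ((SerreVan.Tw n k t).obj M)) :=
    Functor.map_isZero (SerreVan.Tw n k (-t)) hz
  exact IsZero.of_iso hz2 (φ0.symm ≪≫
    Groth.Agent.Lead.TilT.tensorModCongr (Iso.refl M) (isoOfEq n k (by ring : (0 : ℤ) = t + -t)) ≪≫
    φ.symm)


/-- over an infinite field there is a hyperplane avoiding the associated points of two given
coherent modules; its ideal sheaf is `O(-1)` -/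
theorem exists_hyperplane [Infinite k] (M₁ M₂ : (CohB1.ProjSpace n k).Modules)
    (h₁ : Coh.IsCoh M₁) (h₂ : Coh.IsCoh M₂) :
    ∃ D : (CohB1.ProjSpace n k).IdealSheafData, PicF.IsInvertible (ClSub.idealMod D) ∧
      Nonempty (ClSub.idealMod D ≅ Twist.twistProjSpace n k (-1)) ∧
      Mono (SnapCart2.tι D M₁) ∧ Mono (SnapCart2.tι D M₂) := by
  classical
  haveI := Groth.Agent.Helper1.Euler.isNoetherian_of_proper k (CohB1.ProjSpace n k)
  haveI : CompactSpace (CohB1.ProjSpace n k) := FBC.compactSpace_of_isProper k _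
  have hL : PicF.IsInvertible (Twist.twistProjSpace n k 1) := inv_O n k 1
  obtain ⟨N, σ, hσ⟩ := GGBound.exists_fin_sections hL (gg_O1 n k)
  have hAss0 : {x : (CohB1.ProjSpace n k) | x ∈ (⊤ : (CohB1.ProjSpace n k).Opens) ∧
      Curv2.IsAssPoint (Coh.structureModule (CohB1.ProjSpace n k)) x}.Finite :=
    Groth.Agent.S1576.result _ _ (Groth.Agent.Helper1.Dv.isCoh_structureModule _) ⊤ (by simpa using isCompact_univ)
  have hAss1 : {x : (CohB1.ProjSpace n k) | x ∈ (⊤ : (CohB1.ProjSpace n k).Opens) ∧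
      Curv2.IsAssPoint M₁ x}.Finite :=
    Groth.Agent.S1576.result _ M₁ h₁ ⊤ (by simpa using isCompact_univ)
  have hAss2 : {x : (CohB1.ProjSpace n k) | x ∈ (⊤ : (CohB1.ProjSpace n k).Opens) ∧
      Curv2.IsAssPoint M₂ x}.Finite :=
    Groth.Agent.S1576.result _ M₂ h₂ ⊤ (by simpa using isCompact_univ)
  let ψ : k →+* Γ(CohB1.ProjSpace n k, ⊤) :=
    (((CohB1.ProjSpace n k) ↘ Spec (CommRingCat.of k)).appTop.hom).comp
      (Scheme.ΓSpecIso (CommRingCat.of k)).inv.hom
  have hk : Infinite (IsLocalRing.ResidueField k) :=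
    Infinite.of_injective _ (IsLocalRing.residue k).injective
  obtain ⟨a, ha⟩ := GGBound.exists_comb_mem_genLocus hk ψ hL σ hσ _
    ((hAss0.union hAss1).union hAss2)
  obtain ⟨τ, hτ⟩ : ∃ τ : Coh.structureModule (CohB1.ProjSpace n k) ⟶ Twist.twistProjSpace n k 1,
      τ = TwistAmple.homOfSec (Twist.twistProjSpace n k 1) (RegSpan.comb ψ σ a) := ⟨_, rfl⟩
  rw [← hτ] at ha
  have hass0 : ∀ x : (CohB1.ProjSpace n k),
      Curv2.IsAssPoint (Coh.structureModule (CohB1.ProjSpace n k)) x →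
      x ∈ CohB1.genLocus (Twist.twistProjSpace n k 1) τ :=
    fun x hx => ha x (Or.inl (Or.inl ⟨trivial, hx⟩))
  haveI : Mono τ := AmpleAvoid.mono_of_assPoints_le_genLocus hL τ hass0
  obtain ⟨e⟩ := Groth.Agent.Helper2.ZeroConn.isInverseOf_idealMod_zeroScheme hL τ
  have hDinv : PicF.IsInvertible (ClSub.idealMod (PicF2.zeroScheme (Twist.twistProjSpace n k 1) τ)) :=
    CurveCart.isInvertible_left_of_tensor_iso hL (Groth.Agent.Lead.PicCalc.commIso _ _ ≪≫ e)
  refine ⟨PicF2.zeroScheme (Twist.twistProjSpace n k 1) τ, hDinv, ?_, ?_, ?_⟩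
  · have c1 : PicF.cl (Twist.twistProjSpace n k 1) *
        PicF.cl (ClSub.idealMod (PicF2.zeroScheme (Twist.twistProjSpace n k 1) τ)) = 1 :=
      Groth.Agent.Lead.PicCalc.cl_eq_of_iso e
    have c2 : PicF.cl (Twist.twistProjSpace n k 1) * PicF.cl (Twist.twistProjSpace n k (-1)) = 1 := by
      obtain ⟨e2⟩ := nonempty_OO n k 1 (-1)
      obtain ⟨e0⟩ := PnC7.nonempty_iso_twist_zero n k
      exact Groth.Agent.Lead.PicCalc.cl_eq_of_iso
        (e2 ≪≫ isoOfEq n k (by norm_num : (1 : ℤ) + -1 = 0) ≪≫ e0)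
    apply Groth.Agent.Lead.PicCalc.nonempty_iso_of_cl_eq
    calc PicF.cl (ClSub.idealMod (PicF2.zeroScheme (Twist.twistProjSpace n k 1) τ))
        = PicF.cl (ClSub.idealMod (PicF2.zeroScheme (Twist.twistProjSpace n k 1) τ)) *
            (PicF.cl (Twist.twistProjSpace n k 1) * PicF.cl (Twist.twistProjSpace n k (-1))) := by
          rw [c2, mul_one]
      _ = (PicF.cl (Twist.twistProjSpace n k 1) *
            PicF.cl (ClSub.idealMod (PicF2.zeroScheme (Twist.twistProjSpace n k 1) τ))) *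
            PicF.cl (Twist.twistProjSpace n k (-1)) := by ac_rfl
      _ = PicF.cl (Twist.twistProjSpace n k (-1)) := by rw [c1, one_mul]
  · exact SnapCart2.mono_tι _ hDinv M₁ h₁ (fun x hx hax =>
      AmpleAvoid.not_mem_support_zeroScheme hL τ x
        (ha x (Or.inl (Or.inr ⟨trivial, hax⟩))) hx)
  · exact SnapCart2.mono_tι _ hDinv M₂ h₂ (fun x hx hax =>
      AmpleAvoid.not_mem_support_zeroScheme hL τ x
        (ha x (Or.inr ⟨trivial, hax⟩)) hx)

end Pn

section Snake

universe v' u'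

/-- the `3 × 3` lemma in the form needed: a componentwise cokernel of a map from a right exact to
a short exact sequence, injective on the last term, is short exact -/
theorem snake_shortExact {A : Type u'} [Category.{v'} A] [Abelian A] {L₁ L₂ L₃ : ShortComplex A}
    (v : L₁ ⟶ L₂) (p : L₂ ⟶ L₃) (w : v ≫ p = 0)
    (hL₁ : L₁.Exact) [Epi L₁.g] (hL₂ : L₂.Exact) [Mono L₂.f] [Epi L₂.g]
    (h₁ : IsColimit (CokernelCofork.ofπ p.τ₁
      (show v.τ₁ ≫ p.τ₁ = 0 by rw [← ShortComplex.comp_τ₁, w]; rfl)))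
    (h₂ : IsColimit (CokernelCofork.ofπ p.τ₂
      (show v.τ₂ ≫ p.τ₂ = 0 by rw [← ShortComplex.comp_τ₂, w]; rfl)))
    (h₃ : IsColimit (CokernelCofork.ofπ p.τ₃
      (show v.τ₃ ≫ p.τ₃ = 0 by rw [← ShortComplex.comp_τ₃, w]; rfl)))
    [Mono v.τ₃] : L₃.ShortExact := by
  let S : ShortComplex.SnakeInput A :=
    { L₀ := kernel v
      L₁ := L₁
      L₂ := L₂
      L₃ := L₃
      v₀₁ := kernel.ι v
      v₁₂ := v
      v₂₃ := p
      w₀₂ := kernel.condition v
      w₁₃ := w
      h₀ := kernelIsKernel v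
      h₃ := ShortComplex.isColimitOfIsColimitπ _
        ((CokernelCofork.isColimitMapCoconeEquiv _ ShortComplex.π₁).symm h₁)
        ((CokernelCofork.isColimitMapCoconeEquiv _ ShortComplex.π₂).symm h₂)
        ((CokernelCofork.isColimitMapCoconeEquiv _ ShortComplex.π₃).symm h₃)
      L₁_exact := hL₁
      epi_L₁_g := inferInstance
      L₂_exact := hL₂
      mono_L₂_f := inferInstance }
  have hmono : Mono L₃.f := Groth.Agent.Lib.Helper5.SnakeMono.mono_L₃_f v p w hL₁ hL₂ h₁ h₂ h₃
  have hex : L₃.Exact := S.L₃_exact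
  have hepi : Epi L₃.g := by
    haveI : Epi p.τ₃ := epi_of_isColimit_cofork h₃
    have h : Epi (L₂.g ≫ p.τ₃) := epi_comp _ _
    rw [← p.comm₂₃] at h
    exact epi_of_epi p.τ₂ L₃.g
  exact { exact := hex }

variable {X : Scheme.{u}}

/-- the natural transformation `- ⊗ N ⟶ - ⊗ N'` -/
noncomputable def trMap {N N' : X.Modules} (σ : N ⟶ N') :
    DCoh.tensorRightMod N ⟶ DCoh.tensorRightMod N' :=
  (DCoh.tensorBi.flip.map σ : DCoh.tensorBi.flip.obj N ⟶ DCoh.tensorBi.flip.obj N')

theorem trMap_app {N N' : X.Modules} (σ : N ⟶ N') (M : X.Modules) :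
    (trMap σ).app M = (DCoh.tensorBi.obj M).map σ := rfl

/-- the tensored ideal sequence `M ⊗ I → M ⊗ O → M ⊗ O_D → 0` is right exact -/
theorem tensS_exact (D : X.IdealSheafData) (M : X.Modules) :
    ((IdealModL.S D).map (DCoh.tensorBi.obj M)).Exact ∧
      Epi ((IdealModL.S D).map (DCoh.tensorBi.obj M)).g := by
  haveI : PreservesFiniteColimits (DCoh.tensorBi.obj M) :=
    (inferInstance : PreservesFiniteColimits ((ModSite.tensorBi X.sheaf).obj M))
  haveI : Epi (IdealModL.S D).g := CurveDual.epi_toSubscheme D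
  haveI : Epi ((IdealModL.S D).map (DCoh.tensorBi.obj M)).g :=
    (inferInstance : Epi ((DCoh.tensorBi.obj M).map (IdealModL.S D).g))
  exact ⟨ShortComplex.Exact.map_of_epi_of_preservesCokernel (IdealModL.S_exact D)
      (DCoh.tensorBi.obj M) inferInstance inferInstance, inferInstance⟩

/-- restriction to an effective Cartier divisor preserves short exactness if the divisor misses
the associated points of the quotient -/
theorem restrict_shortExact (D : X.IdealSheafData) (hDinv : PicF.IsInvertible (ClSub.idealMod D))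
    (E : ShortComplex X.Modules) (hE : E.ShortExact) (h₃ : Mono (SnapCart2.tι D E.X₃)) :
    (E.map (DCoh.tensorRightMod (ClSub.quotMod D))).ShortExact := by
  have hL₁ : (E.map (DCoh.tensorRightMod (ClSub.idealMod D))).ShortExact :=
    TwExact.shortExact_map (TwExact.locGen_of_isInvertible _ hDinv) hE
  have hL₂ : (E.map (DCoh.tensorRightMod (Coh.structureModule X))).ShortExact :=
    TwExact.shortExact_map
      (TwExact.locGen_of_isInvertible _ (Groth.Agent.Lead.PicCalc.isInvertible_O X)) hE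
  let v : E.map (DCoh.tensorRightMod (ClSub.idealMod D)) ⟶
      E.map (DCoh.tensorRightMod (Coh.structureModule X)) :=
    E.mapNatTrans (trMap (ClSub.idealModι D))
  let p : E.map (DCoh.tensorRightMod (Coh.structureModule X)) ⟶
      E.map (DCoh.tensorRightMod (ClSub.quotMod D)) :=
    E.mapNatTrans (trMap (ClSub.toSubscheme D))
  have w : v ≫ p = 0 := by
    apply ShortComplex.hom_ext
    · exact ((IdealModL.S D).map (DCoh.tensorBi.obj E.X₁)).zero
    · exact ((IdealModL.S D).map (DCoh.tensorBi.obj E.X₂)).zero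
    · exact ((IdealModL.S D).map (DCoh.tensorBi.obj E.X₃)).zero
  haveI : Epi (E.map (DCoh.tensorRightMod (ClSub.idealMod D))).g := hL₁.epi_g
  haveI : Mono (E.map (DCoh.tensorRightMod (Coh.structureModule X))).f := hL₂.mono_f
  haveI : Epi (E.map (DCoh.tensorRightMod (Coh.structureModule X))).g := hL₂.epi_g
  haveI : Mono v.τ₃ := h₃
  have hc : ∀ M : X.Modules, IsColimit (CokernelCofork.ofπ
      ((DCoh.tensorBi.obj M).map (ClSub.toSubscheme D))
      (((IdealModL.S D).map (DCoh.tensorBi.obj M)).zero)) := fun M => by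
    obtain ⟨hex, hepi⟩ := tensS_exact D M
    haveI := hepi
    exact hex.gIsCokernel
  exact snake_shortExact v p w hL₁.exact hL₂.exact (hc E.X₁) (hc E.X₂) (hc E.X₃)

/-- injectivity of `K ⊗ I → K` for a submodule `K` of `A` -/
theorem mono_tι_X₁ (D : X.IdealSheafData) (hDinv : PicF.IsInvertible (ClSub.idealMod D))
    (E : ShortComplex X.Modules) (hE : E.ShortExact) (h₂ : Mono (SnapCart2.tι D E.X₂)) :
    Mono (SnapCart2.tι D E.X₁) := by
  have hL₁ : (E.map (DCoh.tensorRightMod (ClSub.idealMod D))).ShortExact :=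
    TwExact.shortExact_map (TwExact.locGen_of_isInvertible _ hDinv) hE
  have hL₂ : (E.map (DCoh.tensorRightMod (Coh.structureModule X))).ShortExact :=
    TwExact.shortExact_map
      (TwExact.locGen_of_isInvertible _ (Groth.Agent.Lead.PicCalc.isInvertible_O X)) hE
  haveI hm2 : Mono ((trMap (ClSub.idealModι D)).app E.X₂) := h₂
  haveI hm1 : Mono ((DCoh.tensorRightMod (ClSub.idealMod D)).map E.f) := hL₁.mono_f
  have hnat := (trMap (ClSub.idealModι D)).naturality E.f
  have h : Mono ((DCoh.tensorRightMod (ClSub.idealMod D)).map E.f ≫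
      (trMap (ClSub.idealModι D)).app E.X₂) := mono_comp _ _
  rw [hnat] at h
  have h' : Mono ((trMap (ClSub.idealModι D)).app E.X₁) :=
    mono_of_mono _ ((DCoh.tensorRightMod (Coh.structureModule X)).map E.f)
  exact h'

end Snake

section Hyp

variable {n : ℕ} {k : Type u} [Field k]

/-- multiplication by the equation of the hyperplane, `M(-1) ⟶ M` -/
noncomputable def hypι (D : (CohB1.ProjSpace n k).IdealSheafData)
    (e : ClSub.idealMod D ≅ Twist.twistProjSpace n k (-1)) (M : (CohB1.ProjSpace n k).Modules) :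
    CohB1.tensorMod M (Twist.twistProjSpace n k (-1)) ⟶ M :=
  (Groth.Agent.Lead.TilT.tensorModCongr (Iso.refl M) e.symm).hom ≫
    ((DCoh.tensorBi.obj M).map (ClSub.idealModι D) ≫
      (Groth.Agent.Lib.Helper5.LTenFlf.tensorUnitIso M).hom)

/-- restriction to the hyperplane, `M ⟶ M ⊗ O_D` -/
noncomputable def hypπ (D : (CohB1.ProjSpace n k).IdealSheafData)
    (M : (CohB1.ProjSpace n k).Modules) : M ⟶ (DCoh.tensorBi.obj M).obj (ClSub.quotMod D) :=
  (Groth.Agent.Lib.Helper5.LTenFlf.tensorUnitIso M).inv ≫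
    (DCoh.tensorBi.obj M).map (ClSub.toSubscheme D)

theorem hypι_π (D : (CohB1.ProjSpace n k).IdealSheafData)
    (e : ClSub.idealMod D ≅ Twist.twistProjSpace n k (-1)) (M : (CohB1.ProjSpace n k).Modules) :
    hypι D e M ≫ hypπ D M = 0 := by
  have h0 : (DCoh.tensorBi.obj M).map (ClSub.idealModι D) ≫
      (DCoh.tensorBi.obj M).map (ClSub.toSubscheme D) = 0 :=
    ((IdealModL.S D).map (DCoh.tensorBi.obj M)).zero
  have h1 := Iso.hom_inv_id_assoc (Groth.Agent.Lib.Helper5.LTenFlf.tensorUnitIso M)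
    ((DCoh.tensorBi.obj M).map (ClSub.toSubscheme D))
  calc hypι D e M ≫ hypπ D M
      = (Groth.Agent.Lead.TilT.tensorModCongr (Iso.refl M) e.symm).hom ≫
          ((DCoh.tensorBi.obj M).map (ClSub.idealModι D) ≫
            ((Groth.Agent.Lib.Helper5.LTenFlf.tensorUnitIso M).hom ≫
              ((Groth.Agent.Lib.Helper5.LTenFlf.tensorUnitIso M).inv ≫
                (DCoh.tensorBi.obj M).map (ClSub.toSubscheme D)))) := by
        unfold hypι hypπ
        simp only [Category.assoc]
    _ = (Groth.Agent.Lead.TilT.tensorModCongr (Iso.refl M) e.symm).hom ≫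
          ((DCoh.tensorBi.obj M).map (ClSub.idealModι D) ≫
            (DCoh.tensorBi.obj M).map (ClSub.toSubscheme D)) :=
        congrArg (fun z => (Groth.Agent.Lead.TilT.tensorModCongr (Iso.refl M) e.symm).hom ≫
          ((DCoh.tensorBi.obj M).map (ClSub.idealModι D) ≫ z)) h1
    _ = 0 := (congrArg (fun z => (Groth.Agent.Lead.TilT.tensorModCongr (Iso.refl M) e.symm).hom ≫ z)
          h0).trans comp_zero

/-- the hyperplane sequence `0 → M(-1) → M → M_D → 0` -/
noncomputable def hypC (D : (CohB1.ProjSpace n k).IdealSheafData)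
    (e : ClSub.idealMod D ≅ Twist.twistProjSpace n k (-1)) (M : (CohB1.ProjSpace n k).Modules) :
    ShortComplex (CohB1.ProjSpace n k).Modules :=
  ShortComplex.mk (hypι D e M) (hypπ D M) (hypι_π D e M)

theorem hypC_shortExact (D : (CohB1.ProjSpace n k).IdealSheafData)
    (e : ClSub.idealMod D ≅ Twist.twistProjSpace n k (-1)) (M : (CohB1.ProjSpace n k).Modules)
    (hmono : Mono (SnapCart2.tι D M)) : (hypC D e M).ShortExact := by
  obtain ⟨hex, hepi⟩ := tensS_exact D M
  haveI := hepi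
  haveI : Mono ((IdealModL.S D).map (DCoh.tensorBi.obj M)).f := hmono
  have hS : ((IdealModL.S D).map (DCoh.tensorBi.obj M)).ShortExact := { exact := hex }
  refine ShortComplex.shortExact_of_iso (S₁ := (IdealModL.S D).map (DCoh.tensorBi.obj M))
    (S₂ := hypC D e M) (ShortComplex.isoMk
    (Groth.Agent.Lead.TilT.tensorModCongr (Iso.refl M) e.symm).symm
    (Groth.Agent.Lib.Helper5.LTenFlf.tensorUnitIso M) (Iso.refl _) ?_ ?_) hS
  · exact Iso.inv_hom_id_assoc (Groth.Agent.Lead.TilT.tensorModCongr (Iso.refl M) e.symm)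
      ((DCoh.tensorBi.obj M).map (ClSub.idealModι D) ≫
        (Groth.Agent.Lib.Helper5.LTenFlf.tensorUnitIso M).hom)
  · exact (Iso.hom_inv_id_assoc (Groth.Agent.Lib.Helper5.LTenFlf.tensorUnitIso M)
      ((DCoh.tensorBi.obj M).map (ClSub.toSubscheme D))).trans
      (Category.comp_id ((DCoh.tensorBi.obj M).map (ClSub.toSubscheme D))).symm

/-- the twisted hyperplane sequence -/
theorem hypC_tw_shortExact (D : (CohB1.ProjSpace n k).IdealSheafData)
    (e : ClSub.idealMod D ≅ Twist.twistProjSpace n k (-1)) (M : (CohB1.ProjSpace n k).Modules)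
    (hmono : Mono (SnapCart2.tι D M)) (t : ℤ) :
    ((hypC D e M).map (SerreVan.Tw n k t)).ShortExact :=
  TwExact.shortExact_map (SerreVan.locGen_twist n k t) (hypC_shortExact D e M hmono)

theorem chi_restrict (D : (CohB1.ProjSpace n k).IdealSheafData)
    (e : ClSub.idealMod D ≅ Twist.twistProjSpace n k (-1)) (M : (CohB1.ProjSpace n k).Modules)
    (hM : Coh.IsCoh M) (hmono : Mono (SnapCart2.tι D M)) (t : ℤ) :
    chi n k ((DCoh.tensorBi.obj M).obj (ClSub.quotMod D)) t = chi n k M t - chi n k M (t - 1) := by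
  have hS := hypC_tw_shortExact D e M hmono t
  have h₁ : Coh.IsCoh ((hypC D e M).map (SerreVan.Tw n k t)).X₁ :=
    SerreVan.isCoh_Tw n k t _ (SerreVan.isCoh_Tw n k (-1) M hM)
  have h₂ : Coh.IsCoh ((hypC D e M).map (SerreVan.Tw n k t)).X₂ := SerreVan.isCoh_Tw n k t M hM
  have h₃ : Coh.IsCoh ((hypC D e M).map (SerreVan.Tw n k t)).X₃ :=
    SerreVan.isCoh_Tw n k t _ (Euler.isCoh_tensor _ _ hM (CurveDual.isCoh_quotMod D))
  have hadd := Euler.euler_additive k _ _ hS h₁ h₂ h₃
  obtain ⟨φ⟩ := KosC3.nonempty_twist_twist_iso n k M (-1) t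
  have h1 : Curv2.euler k (CohB1.ProjSpace n k) ((hypC D e M).map (SerreVan.Tw n k t)).X₁ =
      chi n k M (t - 1) := by
    have := Euler.euler_iso k (CohB1.ProjSpace n k) φ
    rw [show (-1 + t : ℤ) = t - 1 by ring] at this
    exact this
  have h2 : Curv2.euler k (CohB1.ProjSpace n k) ((hypC D e M).map (SerreVan.Tw n k t)).X₂ =
      chi n k M t := rfl
  have h3 : Curv2.euler k (CohB1.ProjSpace n k) ((hypC D e M).map (SerreVan.Tw n k t)).X₃ =
      chi n k ((DCoh.tensorBi.obj M).obj (ClSub.quotMod D)) t := rfl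
  rw [h1, h2, h3] at hadd
  omega

theorem reg_restrict (D : (CohB1.ProjSpace n k).IdealSheafData)
    (e : ClSub.idealMod D ≅ Twist.twistProjSpace n k (-1)) (M : (CohB1.ProjSpace n k).Modules)
    (hM : Coh.IsCoh M) (hmono : Mono (SnapCart2.tι D M)) (a : ℤ)
    (h : Curv2.IsMRegular k n M a) :
    Curv2.IsMRegular k n ((DCoh.tensorBi.obj M).obj (ClSub.quotMod D)) a := by
  intro i hi hin
  have hS := hypC_tw_shortExact D e M hmono (a - i)
  obtain ⟨φ⟩ := KosC3.nonempty_twist_twist_iso n k M (-1) (a - i)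
  have hv : Subsingleton (Coh.HH (CohB1.ProjSpace n k)
      (CohB1.tensorMod M (Twist.twistProjSpace n k (-1 + (a - i)))) (i + 1)) := by
    by_cases hin' : i + 1 ≤ n
    · exact KosC1.subsingleton_twist_congr n k M (by push_cast; ring) (i + 1)
        (h (i + 1) (by omega) hin')
    · exact @Groth.Agent.S0022.result n k _ _ (SerreVan.isCoh_Tw n k _ M hM).1 (i + 1) (by omega)
  have h1 : Subsingleton (Coh.HH (CohB1.ProjSpace n k)
      ((hypC D e M).map (SerreVan.Tw n k (a - i))).X₁ (i + 1)) :=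
    SerreVan.subsingleton_of_iso k φ.symm (i + 1) hv
  have h2 : Subsingleton (Coh.HH (CohB1.ProjSpace n k)
      ((hypC D e M).map (SerreVan.Tw n k (a - i))).X₂ i) := h i hi hin
  exact SerreVan.subsingleton_X₃ k hS i h2 h1

/-- the bound `h¹(K(j)) ≤ χ(F(j))` -/
theorem h1_bound (S : ShortComplex (CohB1.ProjSpace n k).Modules) (hS : S.ShortExact)
    (h₃ : Coh.IsCoh S.X₃) (j : ℤ)
    (hA : ∀ i : ℕ, 1 ≤ i → Subsingleton (Coh.HH (CohB1.ProjSpace n k)
      (CohB1.tensorMod S.X₂ (Twist.twistProjSpace n k j)) i))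
    (hK : ∀ i : ℕ, 2 ≤ i → Subsingleton (Coh.HH (CohB1.ProjSpace n k)
      (CohB1.tensorMod S.X₁ (Twist.twistProjSpace n k j)) i)) :
    (Module.finrank k (Coh.HH (CohB1.ProjSpace n k)
      (CohB1.tensorMod S.X₁ (Twist.twistProjSpace n k j)) 1) : ℤ) ≤ chi n k S.X₃ j := by
  have hT : (S.map (SerreVan.Tw n k j)).ShortExact :=
    TwExact.shortExact_map (SerreVan.locGen_twist n k j) hS
  have hF : ∀ i : ℕ, 1 ≤ i → Subsingleton (Coh.HH (CohB1.ProjSpace n k)
      ((SerreVan.Tw n k j).obj S.X₃) i) := fun i hi =>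
    SerreVan.subsingleton_X₃ k hT i (hA i hi) (hK (i + 1) (by omega))
  have he : chi n k S.X₃ j = (Module.finrank k (Coh.HH (CohB1.ProjSpace n k)
      ((SerreVan.Tw n k j).obj S.X₃) 0) : ℤ) := by
    unfold chi
    rw [Euler.euler_eq_sum k _ 1 _ (fun p hp => hF p hp)]
    simp
  rw [he]
  haveI : Module.Finite k (Coh.HH (CohB1.ProjSpace n k) (S.map (SerreVan.Tw n k j)).X₃ 0) :=
    SerreFin.s0038 n k _ (SerreVan.isCoh_Tw n k j _ h₃) 0
  haveI hA1 : Subsingleton (Coh.HH (CohB1.ProjSpace n k) (S.map (SerreVan.Tw n k j)).X₂ (0 + 1)) :=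
    hA 1 le_rfl
  have hsurj : Function.Surjective (HHFin2.deltaLin k hT 0) := fun x =>
    HHFin3.exact_delta_f k hT 0 x (Subsingleton.elim _ _)
  exact_mod_cast LinearMap.finrank_le_finrank_of_surjective hsurj

end Hyp

section Main

variable (n : ℕ) (k : Type u) [Field k]

/-- **Mumford's uniform bound**: the regularity of the kernel in a short exact sequence
`0 → K → A → F → 0` on projective space over an infinite field is bounded in terms of the
regularity of `A` and the Hilbert polynomials of `A` and `F` -/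
theorem mumford_aux [Infinite k] : ∀ (e : ℕ) (Q P : Polynomial ℚ) (t₀ a₀ : ℤ),
    Q.degree < (e : WithBot ℕ) →
    ∃ m : ℤ, ∀ S : ShortComplex (CohB1.ProjSpace n k).Modules, S.ShortExact →
      Coh.IsCoh S.X₁ → Coh.IsCoh S.X₂ → Coh.IsCoh S.X₃ →
      Curv2.IsMRegular k n S.X₂ a₀ →
      (∀ t : ℤ, t₀ ≤ t → (chi n k S.X₂ t : ℚ) = Q.eval (t : ℚ)) →
      (∀ t : ℤ, t₀ ≤ t → (chi n k S.X₃ t : ℚ) = P.eval (t : ℚ)) →
      Curv2.IsMRegular k n S.X₁ m := by
  intro e
  induction e with
  | zero =>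
    intro Q P t₀ a₀ hQ
    have hQ0 : Q = 0 := by
      ext m
      rw [Polynomial.coeff_zero]
      exact (Polynomial.degree_lt_iff_coeff_zero Q 0).1 hQ m (Nat.zero_le m)
    refine ⟨0, fun S hS h₁ h₂ h₃ hreg hQe _ => ?_⟩
    have hz : IsZero S.X₂ := isZero_of_chi_zero n k S.X₂ h₂ a₀ t₀ hreg (fun t ht => by
      have := hQe t ht
      rw [hQ0, Polynomial.eval_zero] at this
      exact_mod_cast this)
    haveI := hS.mono_f
    have hz1 : IsZero S.X₁ := IsZero.of_mono S.f hz
    intro i hi hin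
    exact H1Ext.subsingleton_HH_of_isZero
      (Functor.map_isZero (SerreVan.Tw n k (0 - i)) hz1) i
  | succ e ih =>
    intro Q P t₀ a₀ hQ
    obtain ⟨m', hm'⟩ := ih (delta Q) (delta P) (t₀ + 1) a₀ (degree_delta_lt Q e hQ)
    obtain ⟨m'', hm''⟩ : ∃ m'' : ℤ, m'' = max m' (max a₀ (t₀ + 1)) := ⟨_, rfl⟩
    have hm1 : m' ≤ m'' := hm'' ▸ le_max_left _ _
    have hm2 : a₀ ≤ m'' := hm'' ▸ le_trans (le_max_left _ _) (le_max_right _ _)
    have hm3 : t₀ + 1 ≤ m'' := hm'' ▸ le_trans (le_max_right _ _) (le_max_right _ _)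
    refine ⟨m'' + ⌊P.eval ((m'' - 1 : ℤ) : ℚ)⌋, fun S hS h₁ h₂ h₃ hreg hQe hPe => ?_⟩
    obtain ⟨D, hDinv, ⟨eI⟩, hmA, hmF⟩ := exists_hyperplane n k S.X₂ S.X₃ h₂ h₃
    have hL₃ := restrict_shortExact D hDinv S hS hmF
    have hmK := mono_tι_X₁ D hDinv S hS hmA
    have hq := CurveDual.isCoh_quotMod D
    have c₁ : Coh.IsCoh ((DCoh.tensorBi.obj S.X₁).obj (ClSub.quotMod D)) :=
      Euler.isCoh_tensor _ _ h₁ hq
    have c₂ : Coh.IsCoh ((DCoh.tensorBi.obj S.X₂).obj (ClSub.quotMod D)) :=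
      Euler.isCoh_tensor _ _ h₂ hq
    have c₃ : Coh.IsCoh ((DCoh.tensorBi.obj S.X₃).obj (ClSub.quotMod D)) :=
      Euler.isCoh_tensor _ _ h₃ hq
    have hKD' : Curv2.IsMRegular k n (S.map (DCoh.tensorRightMod (ClSub.quotMod D))).X₁ m' :=
      hm' (S.map (DCoh.tensorRightMod (ClSub.quotMod D))) hL₃ c₁ c₂ c₃
        (reg_restrict D eI S.X₂ h₂ hmA a₀ hreg)
        (fun t ht => by
          have e1 := chi_restrict D eI S.X₂ h₂ hmA t
          have e2 := hQe t (by omega)
          have e3 := hQe (t - 1) (by omega)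
          rw [Int.cast_sub, Int.cast_one] at e3
          rw [delta_eval, ← e2, ← e3, ← Int.cast_sub]
          exact congrArg (Int.cast : ℤ → ℚ) e1)
        (fun t ht => by
          have e1 := chi_restrict D eI S.X₃ h₃ hmF t
          have e2 := hPe t (by omega)
          have e3 := hPe (t - 1) (by omega)
          rw [Int.cast_sub, Int.cast_one] at e3
          rw [delta_eval, ← e2, ← e3, ← Int.cast_sub]
          exact congrArg (Int.cast : ℤ → ℚ) e1)
    have hKD : Curv2.IsMRegular k n ((DCoh.tensorBi.obj S.X₁).obj (ClSub.quotMod D)) m' := hKD'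
    have hCK := hypC_shortExact D eI S.X₁ hmK
    haveI : Mono (hypι D eI S.X₁) := hCK.mono_f
    have eco : cokernel (hypι D eI S.X₁) ≅ (DCoh.tensorBi.obj S.X₁).obj (ClSub.quotMod D) :=
      (colimit.isColimit (parallelPair (hypι D eI S.X₁) 0)).coconePointUniqueUpToIso
        hCK.gIsCokernel
    have hG : Curv2.IsMRegular k n (cokernel (hypι D eI S.X₁)) m'' :=
      isMRegular_of_iso n k eco.symm m'' (KosC4.isMRegular_of_le n k _ c₁ m' hKD m'' hm1)
    obtain ⟨hi2, -, -, hfin⟩ := Hyp3.s11296 n k S.X₁ (hypι D eI S.X₁) h₁ m'' hG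
    have hb := h1_bound S hS h₃ (m'' - 1)
      (fun i hi => vanish_of_reg n k S.X₂ h₂ a₀ (m'' - 1) hreg (by omega) i hi)
      (fun i hi => hi2 i (m'' - 1) hi (by omega))
    have hbound : (Module.finrank k (Coh.HH (CohB1.ProjSpace n k)
        (CohB1.tensorMod S.X₁ (Twist.twistProjSpace n k (m'' - 1))) 1) : ℤ) ≤
        ⌊P.eval ((m'' - 1 : ℤ) : ℚ)⌋ := by
      rw [Int.le_floor, ← hPe (m'' - 1) (by omega)]
      exact_mod_cast hb
    exact KosC4.isMRegular_of_le n k S.X₁ h₁ _ hfin _ (by omega)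

end Main

end Groth.Agent.Helper1.MumA
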