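import Mathlib
import Groth.Agent.Lib.Helper1.VBP11

/-!
# Cohomology of twists along affine morphisms, for quasi-coherent modules (helper1)
-/

set_option backward.isDefEq.respectTransparency.types false
set_option synthInstance.maxHeartbeats 400000
set_option autoImplicit false
universe u
open CategoryTheory CategoryTheory.Limits AlgebraicGeometry TopologicalSpace Opposite

namespace Groth.Agent.Helper1.NumDim

open Groth.Agent.Helper1
open Groth.Agent.Lib.Helper4.SerreVan
open Groth.Agent.Lib.Helper4
open Groth.Agent.Helper1.P1Iso Groth.Agent.Helper1.Euler Groth.Agent.Helper1.Curve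
open Groth.Agent.Helper1.CurveDual Groth.Agent.Helper1.TwForm Groth.Agent.Helper1.QcCech

variable (k : Type u) [Field k]

variable {X Y : Scheme.{u}} [X.Over (Spec (CommRingCat.of k))] [Y.Over (Spec (CommRingCat.of k))]

/-- `H^i(X, M ⊗ q^* N) ≃ H^i(Y, q_* M ⊗ N)` for an affine morphism `q`, an invertible module `N`
and any `M` with `M ⊗ q^* N` quasi-coherent -/
theorem nonempty_HH_equiv_push_qc (q : X ⟶ Y) [IsAffineHom q]
    (hq : q ≫ (Y ↘ Spec (CommRingCat.of k)) = X ↘ Spec (CommRingCat.of k))
    (M : X.Modules) {N : Y.Modules} (hN : PicF.IsInvertible N)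
    (hqc : (CohB1.tensorMod M ((Scheme.Modules.pullback q).obj N)).IsQuasicoherent) (i : ℕ) :
    Nonempty (Coh.HH X (CohB1.tensorMod M ((Scheme.Modules.pullback q).obj N)) i ≃ₗ[k]
      Coh.HH Y (CohB1.tensorMod ((Scheme.Modules.pushforward q).obj M) N) i) := by
  have hNf := FinLen.isFinLocFree_of_rank (isFinLocFreeOfRank_one hN)
  obtain ⟨pf⟩ := PFrame.nonempty_projFormula_locFree q M N hNf
  have cm := TildeTens.tensorModComm ((Scheme.Modules.pushforward q).obj M) N
  haveI := hqc
  have l := LinBridge1.lerayEquiv q (CohB1.tensorMod M ((Scheme.Modules.pullback q).obj N)) k hq i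
  exact ⟨l.symm.trans (HHFin1.HHequiv k (cm ≪≫ pf) i).symm⟩

end Groth.Agent.Helper1.NumDim
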