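import Mathlib
import Groth.Agent.Lib.Helper1.Big3
import Groth.Agent.Lib.Helper1.Kl4
import Groth.Agent.Lib.Helper1.NM13
import Groth.Agent.Lib.Helper1.NM4
import Groth.Agent.Lib.Helper1.FinPush
import Groth.Agent.Lib.Helper1.Dv41
import Groth.Agent.Lib.Helper1.NumDim0

/-!
# The numerical dimension of a nef module bounds the growth of its sections (helper1)
-/

set_option autoImplicit false
universe u
open CategoryTheory CategoryTheory.Limits AlgebraicGeometry TopologicalSpace Opposite

namespace Groth.Agent.Helper1.NumDim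

open Groth.Agent.Helper1 Groth.Agent.Helper1.Euler Groth.Agent.Helper1.Dv
open Groth.Agent.Helper1.FinLen Groth.Agent.Helper1.TwForm Groth.Agent.Helper1.Curve
open Groth.Agent.Helper1.Snap Groth.Agent.Helper1.SnapPos Groth.Agent.Helper1.FGAInt
open Groth.Agent.Helper1.FGAPos Groth.Agent.Helper1.Kleiman Groth.Agent.Helper1.Big
open Groth.Agent.Lib.Helper4

section K0

variable {X : Scheme.{u}} [AlgebraicGeometry.IsNoetherian X]

/-- a functional killing the classes of dimension `< r` and the structure sheaves of the integral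
closed subschemes of dimension `r` kills the classes of dimension `≤ r` -/
theorem hom_eq_zero_of_cycle (φ : KZero.K0sub (PC X) →+ ℤ) (r : ℕ)
    (hφ : ∀ x ∈ FilLT X r, φ x = 0)
    (h0 : ∀ ξ : X, topologicalKrullDim ↥(closure ({ξ} : Set X)) = ((r : ℕ) : WithBot ℕ∞) →
      φ (KZero.clSub (PC X) (Cyc.closureStructureSheaf ξ)) = 0) :
    ∀ x ∈ FilLT X (r + 1), φ x = 0 := by
  classical
  intro x hx
  unfold FilLT at hx
  refine AddSubgroup.closure_induction (p := fun y _ => φ y = 0) ?_ (map_zero φ) ?_ ?_ hx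
  · rintro c ⟨G, hG, hd, rfl⟩
    have hd' : topologicalKrullDim ↥(CohB1.support G) ≤ ((r : ℕ) : WithBot ℕ∞) :=
      (lt_succ_iff_le _ r).1 hd
    have hfin := finite_dim_eq (CohB1.support G) (FtGen.isClosed_support G hG.2) r hd'
    have hs : ∀ ξ : X, ξ ∈ hfin.toFinset ↔
        ξ ∈ CohB1.support G ∧ topologicalKrullDim ↥(closure ({ξ} : Set X)) = r :=
      fun ξ => Set.Finite.mem_toFinset hfin
    rw [hom_cycle φ r hφ G hG hd' hfin.toFinset hs]
    refine Finset.sum_eq_zero fun ξ hξ => ?_
    rw [h0 ξ ((hs ξ).1 hξ).2, smul_zero]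
  · intro a b _ _ ha hb
    rw [map_add, ha, hb, add_zero]
  · intro a _ ha
    rw [map_neg, ha, neg_zero]

end K0

section Pos

variable (k : Type u) [Field k] (X : Scheme.{u}) [X.Over (Spec (CommRingCat.of k))]
  [IsProper (X ↘ (Spec (CommRingCat.of k)))] [AlgebraicGeometry.IsNoetherian X]

/-- if `(L^m · V) = 0` for all integral `V` of dimension `m`, the same holds in all dimensions
`e ≥ m` -/
theorem lam_eq_zero_of_le (L : X.Modules) (hL : PicF.IsInvertible L) (m : ℕ)
    (hm : ∀ ξ : X, topologicalKrullDim ↥(closure ({ξ} : Set X)) = ((m : ℕ) : WithBot ℕ∞) →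
      lam k X L hL m (KZero.clSub (PC X) (Cyc.closureStructureSheaf ξ)) = 0)
    (e : ℕ) (hme : m ≤ e) (x : KZero.K0sub (PC X)) (hx : x ∈ FilLT X (e + 1)) :
    lam k X L hL e x = 0 := by
  have hkill := hom_eq_zero_of_cycle (lam k X L hL m) m
    (fun y hy => lam_eq_zero k X L hL m y hy) hm
  obtain ⟨c, rfl⟩ : ∃ c, e = m + c := ⟨e - m, by omega⟩
  rw [lam_apply, pow_add]
  change eulerHom k X (((T L hL - 1) ^ m) (((T L hL - 1) ^ c) x)) = 0
  have hy : ((T L hL - 1) ^ c) x ∈ FilLT X (m + 1) := by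
    have h := (Low.pow (low_D L hL) c) (m + c + 1) x hx
    rwa [show m + c + 1 - c = m + 1 by omega] at h
  exact hkill _ hy

/-- the intersection numbers in the form of the statements, on the integral closed subschemes -/
theorem lam_closure_eq_zero_of_intNum (n : ℕ) (hn : topologicalKrullDim X ≤ n)
    (L Linv : X.Modules) (hL : PicF.IsInvertible L) (hLinv : ClSub.IsInverseOf Linv L) (m : ℕ)
    (hm : ∀ (V : Scheme.{u}) (i : V ⟶ X) [IsClosedImmersion i], IsIntegral V →
      topologicalKrullDim V = (m : ℕ) →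
      FGA.intNum k X n (fun _ : Fin m => Linv)
        ((Scheme.Modules.pushforward i).obj (Coh.structureModule V)) = 0)
    (ξ : X) (hξ : topologicalKrullDim ↥(closure ({ξ} : Set X)) = ((m : ℕ) : WithBot ℕ∞)) :
    lam k X L hL m (KZero.clSub (PC X) (Cyc.closureStructureSheaf ξ)) = 0 := by
  obtain ⟨eI⟩ := hLinv
  have hLi : PicF.IsInvertible Linv := isInvertible_of_inverse hL eI
  have hint := isIntegral_ptIdeal_subscheme ξ
  have hdimZ : topologicalKrullDim (IntMult.ptIdeal ξ).subscheme = ((m : ℕ) : WithBot ℕ∞) := by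
    have h1 := IsHomeomorph.topologicalKrullDim_eq _
      ((IntMult.ptIdeal ξ).subschemeι.isClosedEmbedding.isEmbedding.toHomeomorph).isHomeomorph
    rw [h1]
    have h2 : Set.range (IntMult.ptIdeal ξ).subschemeι = closure {ξ} := range_ptIdeal_subschemeι ξ
    rw [h2]
    exact hξ
  have h : FGA.intNum k X n (fun _ : Fin m => Linv) (Cyc.closureStructureSheaf ξ) = 0 :=
    hm (IntMult.ptIdeal ξ).subscheme (IntMult.ptIdeal ξ).subschemeι hint hdimZ
  have hc := isCoh_closureStructureSheaf ξ
  have hx : KZero.clSub (PC X) (Cyc.closureStructureSheaf ξ) ∈ FilLT X (m + 1) :=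
    clSub_mem_FilLT m _ hc
      ((krullDim_le_of_subset (support_closureStructureSheaf ξ)).trans hξ.le)
  rw [intNum_eq k X n hn (fun _ : Fin m => Linv) (fun _ => hLi) _ hc,
    opM_eq_opL X m (fun _ => L) (fun _ => Linv) (fun _ => hL) (fun _ => hLi)
      (fun _ => ⟨TildeTens.tensorModComm L Linv ≪≫ eI⟩) _ hx,
    opL_const' L hL m (fun _ => hL)] at h
  rw [lam_apply]
  exact h

/-- **a nef module a power of which contains an ample module has positive top
self-intersection** -/
theorem pos_of_mono_ample [IsIntegral X] (e : ℕ)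
    (hdim : topologicalKrullDim X = ((e : ℕ) : WithBot ℕ∞)) (L : X.Modules)
    (hL : PicF.IsInvertible L) (hnef : NefS k X L) (A : X.Modules) (hA : CohB1.IsAmple A)
    (j : ℕ) (φ : A ⟶ CohB1.tensorPow L j) (hφm : Mono φ) :
    0 < lam k X L hL e (KZero.clSub (PC X) (Coh.structureModule X)) := by
  haveI := hφm
  have hOc := isCoh_structureModule X
  have hAi := hA.1
  have hAc : Coh.IsCoh A := InvQc.isCoh_of_isInvertible _ hAi
  have hLj := isInvertible_tensorPow hL j
  have hLjc : Coh.IsCoh (CohB1.tensorPow L j) := InvQc.isCoh_of_isInvertible _ hLj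
  have hφ : φ ≠ 0 := by
    intro h0
    have hz : IsZero A := by
      rw [IsZero.iff_id_eq_zero]
      exact (cancel_mono φ).1 (by rw [h0, comp_zero, comp_zero])
    exact VB.not_isZero_of_rank_pos X Nat.one_pos (isFinLocFreeOfRank_one hAi) hz
  have hη := genericPoint_notMem_support_cokernel hAi hLj φ hφ
  set Cq := cokernel φ with hCq
  have hCc : Coh.IsCoh Cq := FtLocal.isCoh_cokernel hAc hLjc φ
  have hcl : IsClosed (CohB1.support Cq) := FtGen.isClosed_support Cq hCc.2
  have hne : CohB1.support Cq ≠ Set.univ := fun he => hη (he ▸ Set.mem_univ _)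
  have hdimC := krullDim_add_one_le_of_ne_univ hcl hne
  rw [hdim] at hdimC
  let S : ShortComplex X.Modules := ShortComplex.mk φ (cokernel.π φ) (cokernel.condition φ)
  have hS : S.ShortExact :=
    { exact := ShortComplex.exact_of_g_is_cokernel _ (cokernelIsCokernel φ)
      mono_f := inferInstanceAs (Mono φ)
      epi_g := inferInstanceAs (Epi (cokernel.π φ)) }
  have hK0 : KZero.clSub (PC X) (CohB1.tensorPow L j) =
      KZero.clSub (PC X) A + KZero.clSub (PC X) Cq := clSub_ses S hS hAc hLjc hCc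
  set x := KZero.clSub (PC X) (Coh.structureModule X) with hx
  have hTLj : ((T L hL) ^ j) x = KZero.clSub (PC X) (CohB1.tensorPow L j) := by
    rw [← T_tensorPow hL j hLj, T_clSub _ hLj _ hOc]
    exact (clSub_iso (Groth.Agent.Lib.Helper5.LTenFlf.tensorUnitIso (CohB1.tensorPow L j))
      (isCoh_tensor _ _ hLjc hOc)).symm
  have hTA : (T A hAi) x = KZero.clSub (PC X) A := by
    rw [T_clSub _ hAi _ hOc]
    exact (clSub_iso (Groth.Agent.Lib.Helper5.LTenFlf.tensorUnitIso A)
      (isCoh_tensor _ _ hAc hOc)).symm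
  have key : ((T L hL) ^ j - 1) x = (T A hAi - 1) x + KZero.clSub (PC X) Cq := by
    change ((T L hL) ^ j) x - x = ((T A hAi) x - x) + KZero.clSub (PC X) Cq
    rw [hTLj, hTA, hK0]
    abel
  rcases e with _ | e'
  · have h := pos_int k 0 X A hA hdim
    rw [lam_apply, pow_zero] at h ⊢
    exact h
  · have hx2 : x ∈ FilLT X (e' + 2) :=
      clSub_mem_FilLT (e' + 1) _ hOc ((topologicalKrullDim_subspace_le X _).trans hdim.le)
    have hdC : topologicalKrullDim ↥(CohB1.support Cq) ≤ ((e' : ℕ) : WithBot ℕ∞) :=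
      le_of_add_one_le_succ _ e' hdimC
    have hcommLA : Commute (T L hL - 1) (T A hAi - 1) :=
      ((T_comm L A hL hAi).sub_left (Commute.one_left _)).sub_right (Commute.one_right _)
    have main : ∀ i n' : ℕ, i + n' = e' + 1 → 0 < sym k X L A hL hAi i n' x := by
      intro i
      induction i with
      | zero =>
        intro n' hn'
        rw [Nat.zero_add] at hn'
        subst hn'
        have h := pos_int k (e' + 1) X A hA hdim
        rw [lam_apply] at h
        rw [sym_apply, pow_zero, one_mul]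
        exact h
      | succ i ih =>
        intro n' hn'
        have hprev := ih (n' + 1) (by omega)
        set P : AddMonoid.End (KZero.K0sub (PC X)) :=
          (T L hL - 1) ^ i * (T A hAi - 1) ^ n' with hP
        have hPlow : Low e' P := by
          have h := low_mix X L A hL hAi i n'
          rwa [show i + n' = e' by omega] at h
        have hc : Commute (T L hL) P :=
          Commute.mul_right
            ((Commute.sub_right (Commute.refl _) (Commute.one_right _)).pow_right i)
            ((Commute.sub_right (T_comm L A hL hAi) (Commute.one_right _)).pow_right n')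
        have hgeom := geom_low L hL P e' hPlow hc j x hx2
        rw [key, map_add] at hgeom
        have h3 := congrArg (eulerHom k X) hgeom
        rw [map_add, map_nsmul] at h3
        have t1 : eulerHom k X (P ((T A hAi - 1) x)) = sym k X L A hL hAi i (n' + 1) x := by
          rw [sym_apply, pow_succ, ← mul_assoc]
          rfl
        have t2 : eulerHom k X (P (KZero.clSub (PC X) Cq)) =
            sym k X L A hL hAi i n' (KZero.clSub (PC X) Cq) := rfl
        have t3 : eulerHom k X (P ((T L hL - 1) x)) = sym k X L A hL hAi (i + 1) n' x := by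
          rw [sym_apply, pow_succ, mul_assoc, (hcommLA.pow_right n').eq, ← mul_assoc]
          rfl
        have hnn := km_coh k X L A hL hA hnef e' Cq hCc hdC i n' (by omega)
        rw [t1, t2, t3, nsmul_eq_mul] at h3
        by_contra hcon
        push Not at hcon
        have h4 : (j : ℤ) * sym k X L A hL hAi (i + 1) n' x ≤ 0 :=
          mul_nonpos_of_nonneg_of_nonpos (Int.natCast_nonneg j) hcon
        linarith
    have h := main (e' + 1) 0 (by omega)
    rw [sym_apply, pow_zero, mul_one] at h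
    rw [lam_apply]
    exact h

end Pos

section Growth

variable (k : Type u) [Field k] (X : Scheme.{u}) [X.Over (Spec (CommRingCat.of k))]
  [IsProper (X ↘ (Spec (CommRingCat.of k)))] [AlgebraicGeometry.IsNoetherian X]

/-- the key step: on an integral closed subscheme on which the top self-intersection of the nef
module `L` vanishes, the sections of the powers of `L` inject into the sections over an ample
divisor -/
theorem growth_integral_step (H : X.Modules) (hH : CohB1.IsAmple H) (L : X.Modules)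
    (hL : PicF.IsInvertible L) (hnef : NefS k X L) (ξ : X) (e : ℕ)
    (he : topologicalKrullDim ↥(closure ({ξ} : Set X)) = ((e : ℕ) : WithBot ℕ∞))
    (hlam : lam k X L hL e (KZero.clSub (PC X) (Cyc.closureStructureSheaf ξ)) = 0) :
    ∃ M : X.Modules, Coh.IsCoh M ∧ CohB1.support M ⊆ closure {ξ} ∧ ξ ∉ CohB1.support M ∧
      ∀ j : ℕ, Module.finrank k (Coh.HH X
          (CohB1.tensorMod (CohB1.tensorPow L j) (Cyc.closureStructureSheaf ξ)) 0) ≤
        Module.finrank k (Coh.HH X (CohB1.tensorMod (CohB1.tensorPow L j) M) 0) := by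
  set I := IntMult.ptIdeal ξ with hI
  let ι := I.subschemeι
  letI : I.subscheme.Over (Spec (CommRingCat.of k)) := ⟨ι ≫ (X ↘ Spec (CommRingCat.of k))⟩
  haveI : IsProper (I.subscheme ↘ Spec (CommRingCat.of k)) := by
    change IsProper (ι ≫ (X ↘ Spec (CommRingCat.of k))); infer_instance
  haveI : AlgebraicGeometry.IsNoetherian I.subscheme := isNoetherian_of_proper k I.subscheme
  haveI : IsIntegral I.subscheme := isIntegral_ptIdeal_subscheme ξ
  set LZ := (Scheme.Modules.pullback ι).obj L with hLZ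
  set HZ := (Scheme.Modules.pullback ι).obj H with hHZ
  have hLZi : PicF.IsInvertible LZ := PullGen.isInvertible_pullback ι hL
  have hHZa : CohB1.IsAmple HZ :=
    PullAmple.isAmple_pullback_of_isEmbedding ι ι.isClosedEmbedding.isEmbedding hH
  have hnefZ : NefS k I.subscheme LZ := nefS_pullback k ι L hnef
  have hdimZ : topologicalKrullDim I.subscheme = ((e : ℕ) : WithBot ℕ∞) := by
    have h1 := IsHomeomorph.topologicalKrullDim_eq _
      (ι.isClosedEmbedding.isEmbedding.toHomeomorph).isHomeomorph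
    rw [h1]
    have h2 : Set.range ι = closure {ξ} := range_ptIdeal_subschemeι ξ
    rw [h2]
    exact he
  have hOc := isCoh_structureModule I.subscheme
  have hOi : PicF.IsInvertible (Coh.structureModule I.subscheme) := GenLoc.isInvertible_O
  obtain ⟨t₀, ht₀⟩ := AmpleLib.eventually_globallyGenerated hHZa
    (Coh.structureModule I.subscheme) hOc
  have hAa : CohB1.IsAmple (CohB1.tensorPow HZ (t₀ + 1)) :=
    (AmpleLib.isAmple_tensorPow_iff hHZa.1 (t₀ + 1) (Nat.succ_pos t₀)).1 hHZa
  set A := CohB1.tensorPow HZ (t₀ + 1) with hAdef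
  have hAi : PicF.IsInvertible A := hAa.1
  have hAc : Coh.IsCoh A := InvQc.isCoh_of_isInvertible _ hAi
  have hPi0 : PicF.IsInvertible (CohB1.tensorMod (Coh.structureModule I.subscheme) A) :=
    isInvertible_tensorMod hOi hAi
  obtain ⟨σ₀, hσ₀⟩ := exists_section_ne_zero (ht₀ (t₀ + 1) (Nat.le_succ t₀))
    (VB.not_isZero_of_rank_pos I.subscheme Nat.one_pos (isFinLocFreeOfRank_one hPi0))
  let uA : CohB1.tensorMod (Coh.structureModule I.subscheme) A ≅ A :=
    TildeTens.tensorModComm _ _ ≪≫ Groth.Agent.Lib.Helper5.LTenFlf.tensorUnitIso A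
  set τ : Coh.structureModule I.subscheme ⟶ A := σ₀ ≫ uA.hom with hτ
  have hτnz : τ ≠ 0 := by
    intro h0
    apply hσ₀
    have : σ₀ ≫ uA.hom = 0 ≫ uA.hom := by rw [zero_comp]; exact h0
    exact (cancel_mono uA.hom).1 this
  haveI : Mono τ := mono_of_ne_zero hOi hAi τ hτnz
  have hη := genericPoint_notMem_support_cokernel hOi hAi τ hτnz
  set Cq := cokernel τ with hCq
  have hCc : Coh.IsCoh Cq := FtLocal.isCoh_cokernel hOc hAc τ
  let S : ShortComplex I.subscheme.Modules :=
    ShortComplex.mk τ (cokernel.π τ) (cokernel.condition τ)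
  have hS : S.ShortExact :=
    { exact := ShortComplex.exact_of_g_is_cokernel _ (cokernelIsCokernel τ)
      mono_f := inferInstanceAs (Mono τ)
      epi_g := inferInstanceAs (Epi (cokernel.π τ)) }
  obtain ⟨KA, hKA, ⟨eKA⟩⟩ := InvInv2.exists_inverse hAi
  have hKAc : Coh.IsCoh KA := InvQc.isCoh_of_isInvertible _ hKA
  set M' := CohB1.tensorMod Cq KA with hM'
  have hM'c : Coh.IsCoh M' := isCoh_tensor _ _ hCc hKAc
  have hM's : CohB1.support M' ⊆ CohB1.support Cq :=
    fun x hx => NegVan.support_tensor_subset hKA x hx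
  have hηM' : genericPoint I.subscheme ∉ CohB1.support M' := fun h => hη (hM's h)
  refine ⟨(Scheme.Modules.pushforward ι).obj M', FinPush.isCoh_pushforward ι M' hM'c, ?_, ?_,
    fun j => ?_⟩
  · rw [← range_ptIdeal_subschemeι ξ]
    exact support_pushforward_subset ι M'
  · intro hmem
    have hcl : IsClosed (⇑ι '' CohB1.support M') :=
      ι.isClosedEmbedding.isClosedMap _ (FtGen.isClosed_support M' hM'c.2)
    obtain ⟨v, hv, hvξ⟩ := support_push_subset_image ι M' hcl hmem
    have hgen := ptIdeal_subschemeι_genericPoint ξ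
    have hvg : v = genericPoint I.subscheme :=
      ι.isClosedEmbedding.injective (hvξ.trans hgen.symm)
    exact hηM' (hvg ▸ hv)
  · have hLj := isInvertible_tensorPow hL j
    have hLZj := isInvertible_tensorPow hLZi j
    set Lj := CohB1.tensorPow LZ j with hLjdef
    have hLjc : Coh.IsCoh Lj := InvQc.isCoh_of_isInvertible _ hLZj
    set P := CohB1.tensorMod KA Lj with hPdef
    have hPi : PicF.IsInvertible P := isInvertible_tensorMod hKA hLZj
    have hPc : Coh.IsCoh P := InvQc.isCoh_of_isInvertible _ hPi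
    -- the twist has no sections
    have hP0 : Subsingleton (Coh.HH I.subscheme P 0) := by
      by_contra hns
      rw [not_subsingleton_iff_nontrivial] at hns
      obtain ⟨x, hx⟩ := exists_ne (0 : Coh.HH I.subscheme P 0)
      obtain ⟨σ, hσ⟩ := exists_section_of_HH0_ne P x hx
      haveI : Mono σ := mono_of_ne_zero hOi hPi σ hσ
      let u : A ≅ CohB1.tensorMod A (Coh.structureModule I.subscheme) :=
        (Groth.Agent.Lib.Helper5.LTenFlf.tensorUnitIso A).symm
      let f1 : CohB1.tensorMod A (Coh.structureModule I.subscheme) ⟶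
          CohB1.tensorMod A (CohB1.tensorMod KA Lj) := (DCoh.tensorBi.obj A).map σ
      have hf1 : Mono f1 := mono_tensor_left _ hAi σ
      let e2 : CohB1.tensorMod A (CohB1.tensorMod KA Lj) ≅ Lj := cancelIso hKA hLZj eKA
      have hφm : Mono (u.hom ≫ f1 ≫ e2.hom) :=
        mono_comp' _ (mono_iso_hom u) _ (mono_comp' f1 hf1 _ (mono_iso_hom e2))
      have hpos := pos_of_mono_ample k I.subscheme e hdimZ LZ hLZi hnefZ A hAa j
        (u.hom ≫ f1 ≫ e2.hom) hφm
      have h2 := NM.lam_push_eq k X I.subscheme ι rfl L hL (isCoh_closureStructureSheaf ξ) e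
      have hpos' : 0 < lam k X L hL e (KZero.clSub (PC X) (Cyc.closureStructureSheaf ξ)) :=
        lt_of_lt_of_eq hpos h2
      exact absurd hlam (ne_of_gt hpos')
    -- the exact sequence
    have hSt := shortExact_tensor P (InvInv2.isFinLocFree_of_isInvertible hPi) S hS
    have c1 : Coh.IsCoh (S.map (DCoh.tensorBi.obj P)).X₁ := isCoh_tensor P S.X₁ hPc hOc
    have c2 : Coh.IsCoh (S.map (DCoh.tensorBi.obj P)).X₂ := isCoh_tensor P S.X₂ hPc hAc
    have c3 : Coh.IsCoh (S.map (DCoh.tensorBi.obj P)).X₃ := isCoh_tensor P S.X₃ hPc hCc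
    have hmid := finrank_HH0_mid_le k I.subscheme hSt c1 c2 c3
    change Module.finrank k (Coh.HH I.subscheme (CohB1.tensorMod P A) 0) ≤
      Module.finrank k (Coh.HH I.subscheme
        (CohB1.tensorMod P (Coh.structureModule I.subscheme)) 0) +
      Module.finrank k (Coh.HH I.subscheme (CohB1.tensorMod P Cq) 0) at hmid
    have hz : Module.finrank k (Coh.HH I.subscheme
        (CohB1.tensorMod P (Coh.structureModule I.subscheme)) 0) = 0 := by
      haveI := hP0
      exact ((HHFin1.HHequiv k
        (Groth.Agent.Lib.Helper5.LTenFlf.tensorUnitIso P) 0).finrank_eq).trans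
        Module.finrank_zero_of_subsingleton
    let eA : CohB1.tensorMod P A ≅ Lj :=
      Groth.Agent.Lead.TilT.tensorModCongr (TildeTens.tensorModComm KA Lj) (Iso.refl A) ≪≫
        cancelRight hKA hAi eKA
    let eC : CohB1.tensorMod P Cq ≅ CohB1.tensorMod Lj M' :=
      Groth.Agent.Lead.TilT.tensorModCongr (TildeTens.tensorModComm KA Lj) (Iso.refl Cq) ≪≫
        swapIso Cq hLZj hKA
    rw [hz, zero_add, (HHFin1.HHequiv k eA 0).finrank_eq,
      (HHFin1.HHequiv k eC 0).finrank_eq] at hmid
    -- transfer to `X`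
    obtain ⟨e1⟩ := P1Iso.nonempty_pullback_tensorPow_iso ι hL j
    obtain ⟨l⟩ := VBP.nonempty_HH_equiv_push k ι rfl (M := Coh.structureModule I.subscheme)
      GenLoc.isInvertible_O (N := CohB1.tensorPow L j) hLj 0
    have e2 : CohB1.tensorMod (Coh.structureModule I.subscheme)
        ((Scheme.Modules.pullback ι).obj (CohB1.tensorPow L j)) ≅ Lj :=
      TildeTens.tensorModComm _ _ ≪≫ Groth.Agent.Lib.Helper5.LTenFlf.tensorUnitIso _ ≪≫ e1
    have e3 : CohB1.tensorMod (CohB1.tensorPow L j) (Cyc.closureStructureSheaf ξ) ≅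
        CohB1.tensorMod ((Scheme.Modules.pushforward ι).obj (Coh.structureModule I.subscheme))
          (CohB1.tensorPow L j) := TildeTens.tensorModComm _ _
    have hqc : (CohB1.tensorMod M'
        ((Scheme.Modules.pullback ι).obj (CohB1.tensorPow L j))).IsQuasicoherent :=
      (isCoh_tensor M' _ hM'c
        (InvQc.isCoh_of_isInvertible _ (PullGen.isInvertible_pullback ι hLj))).1
    obtain ⟨l'⟩ := nonempty_HH_equiv_push_qc k ι rfl M' hLj hqc 0
    have e4 : CohB1.tensorMod Lj M' ≅
        CohB1.tensorMod M' ((Scheme.Modules.pullback ι).obj (CohB1.tensorPow L j)) :=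
      TildeTens.tensorModComm _ _ ≪≫
        Groth.Agent.Lead.TilT.tensorModCongr (Iso.refl M') e1.symm
    have e5 : CohB1.tensorMod (CohB1.tensorPow L j) ((Scheme.Modules.pushforward ι).obj M') ≅
        CohB1.tensorMod ((Scheme.Modules.pushforward ι).obj M') (CohB1.tensorPow L j) :=
      TildeTens.tensorModComm _ _
    rw [(HHFin1.HHequiv k e3 0).finrank_eq, ← l.finrank_eq, (HHFin1.HHequiv k e2 0).finrank_eq,
      (HHFin1.HHequiv k e5 0).finrank_eq, ← l'.finrank_eq,
      ← (HHFin1.HHequiv k e4 0).finrank_eq]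
    exact hmid

/-- **the growth of the sections of the powers of a nef module is bounded by its numerical
dimension** -/
theorem growth_numdim (H : X.Modules) (hH : CohB1.IsAmple H) (L : X.Modules)
    (hL : PicF.IsInvertible L) (hnef : NefS k X L) (m : ℕ)
    (hm : ∀ ξ : X, topologicalKrullDim ↥(closure ({ξ} : Set X)) = ((m : ℕ) : WithBot ℕ∞) →
      lam k X L hL m (KZero.clSub (PC X) (Cyc.closureStructureSheaf ξ)) = 0)
    (F : X.Modules) (hF : Coh.IsCoh F) :
    ∃ C : ℕ, ∀ j : ℕ, (j + 1) * Module.finrank k (Coh.HH X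
      (CohB1.tensorMod (CohB1.tensorPow L j) F) 0) ≤ C * (j + 1) ^ m := by
  have hLj : ∀ j, PicF.IsInvertible (CohB1.tensorPow L j) := fun j => isInvertible_tensorPow hL j
  have hLjc : ∀ j, Coh.IsCoh (CohB1.tensorPow L j) := fun j =>
    InvQc.isCoh_of_isInvertible _ (hLj j)
  have hfinX : topologicalKrullDim X < ⊤ :=
    Groth.Agent.Lib.Helper5.Misc.WeilGeo.dim_lt_top_of_finiteType (X ↘ Spec (CommRingCat.of k))
  refine dev_simple (fun M => Coh.IsCoh M → ∃ C : ℕ, ∀ j : ℕ,
      (j + 1) * Module.finrank k (Coh.HH X (CohB1.tensorMod (CohB1.tensorPow L j) M) 0) ≤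
        C * (j + 1) ^ m)
    ?_ ?_ (CohB1.support F) ?_ ?_ F hF subset_rfl hF
  · intro M M' i hK hM'
    have hM : Coh.IsCoh M := isCoh_of_iso i.symm hM'
    obtain ⟨C, hC⟩ := hK hM
    refine ⟨C, fun j => ?_⟩
    rw [← (HHFin1.HHequiv k (Groth.Agent.Lead.TilT.tensorModCongr
      (Iso.refl (CohB1.tensorPow L j)) i) 0).finrank_eq]
    exact hC j
  · intro M hM _
    refine ⟨0, fun j => ?_⟩
    have hz : IsZero (CohB1.tensorMod (CohB1.tensorPow L j) M) :=
      Groth.Agent.Lib.Helper5.SPTensor.isZero_tensor_right _ _ hM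
    haveI : Subsingleton (Coh.HH X (CohB1.tensorMod (CohB1.tensorPow L j) M) 0) :=
      H1Ext.subsingleton_HH_of_isZero hz 0
    rw [Module.finrank_zero_of_subsingleton, mul_zero, zero_mul]
  · intro S hS h1 h2 h3 _
    have hSm : ∀ j, (S.map (DCoh.tensorBi.obj (CohB1.tensorPow L j))).ShortExact := fun j =>
      shortExact_tensor _ (InvInv2.isFinLocFree_of_isInvertible (hLj j)) S hS
    refine ⟨fun k2 _ _ => ?_, fun k1 k3 _ => ?_⟩
    · obtain ⟨C, hC⟩ := k2 h2
      refine ⟨C, fun j => ?_⟩
      have c2 : Coh.IsCoh (S.map (DCoh.tensorBi.obj (CohB1.tensorPow L j))).X₂ :=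
        isCoh_tensor (CohB1.tensorPow L j) S.X₂ (hLjc j) h2
      have hle := finrank_HH0_le_of_mono' k X c2
        (S.map (DCoh.tensorBi.obj (CohB1.tensorPow L j))).f (hSm j).mono_f
      change Module.finrank k (Coh.HH X (CohB1.tensorMod (CohB1.tensorPow L j) S.X₁) 0) ≤
          Module.finrank k (Coh.HH X (CohB1.tensorMod (CohB1.tensorPow L j) S.X₂) 0) at hle
      exact (Nat.mul_le_mul_left _ hle).trans (hC j)
    · obtain ⟨C1, hC1⟩ := k1 h1
      obtain ⟨C3, hC3⟩ := k3 h3
      refine ⟨C1 + C3, fun j => ?_⟩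
      have c1 : Coh.IsCoh (S.map (DCoh.tensorBi.obj (CohB1.tensorPow L j))).X₁ :=
        isCoh_tensor (CohB1.tensorPow L j) S.X₁ (hLjc j) h1
      have c2 : Coh.IsCoh (S.map (DCoh.tensorBi.obj (CohB1.tensorPow L j))).X₂ :=
        isCoh_tensor (CohB1.tensorPow L j) S.X₂ (hLjc j) h2
      have c3 : Coh.IsCoh (S.map (DCoh.tensorBi.obj (CohB1.tensorPow L j))).X₃ :=
        isCoh_tensor (CohB1.tensorPow L j) S.X₃ (hLjc j) h3
      have hmid := finrank_HH0_mid_le k X (hSm j) c1 c2 c3
      change Module.finrank k (Coh.HH X (CohB1.tensorMod (CohB1.tensorPow L j) S.X₂) 0) ≤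
          Module.finrank k (Coh.HH X (CohB1.tensorMod (CohB1.tensorPow L j) S.X₁) 0) +
            Module.finrank k (Coh.HH X (CohB1.tensorMod (CohB1.tensorPow L j) S.X₃) 0) at hmid
      calc (j + 1) * Module.finrank k (Coh.HH X
              (CohB1.tensorMod (CohB1.tensorPow L j) S.X₂) 0)
          ≤ (j + 1) * (Module.finrank k (Coh.HH X
              (CohB1.tensorMod (CohB1.tensorPow L j) S.X₁) 0) +
            Module.finrank k (Coh.HH X (CohB1.tensorMod (CohB1.tensorPow L j) S.X₃) 0)) :=
            Nat.mul_le_mul_left _ hmid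
        _ = (j + 1) * Module.finrank k (Coh.HH X
              (CohB1.tensorMod (CohB1.tensorPow L j) S.X₁) 0) +
            (j + 1) * Module.finrank k (Coh.HH X
              (CohB1.tensorMod (CohB1.tensorPow L j) S.X₃) 0) := Nat.mul_add _ _ _
        _ ≤ C1 * (j + 1) ^ m + C3 * (j + 1) ^ m := Nat.add_le_add (hC1 j) (hC3 j)
        _ = (C1 + C3) * (j + 1) ^ m := (Nat.add_mul _ _ _).symm
  · intro Z hZ hirr hZX' ξ hξ IH
    refine ⟨Cyc.closureStructureSheaf ξ, isCoh_closureStructureSheaf ξ, ?_, ?_,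
      isSimpleModule_stalk_closureStructureSheaf ξ⟩
    · intro _
      haveI : Nonempty ↥(closure ({ξ} : Set X)) := ⟨⟨ξ, subset_closure rfl⟩⟩
      obtain ⟨e, he⟩ := NM.exists_nat_eq' (NM.topologicalKrullDim_ne_bot ↥(closure ({ξ} : Set X)))
        (lt_of_le_of_lt (topologicalKrullDim_subspace_le _ _) hfinX)
      by_cases hem : e < m
      · obtain ⟨m', rfl⟩ : ∃ m', m = m' + 1 := ⟨m - 1, by omega⟩
        have hle : topologicalKrullDim ↥(closure ({ξ} : Set X)) ≤ ((m' : ℕ) : WithBot ℕ∞) := by
          rw [he]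
          have h1 : (e : ℕ∞) ≤ (m' : ℕ∞) := by exact_mod_cast (by omega : e ≤ m')
          have h2 : ((e : ℕ∞) : WithBot ℕ∞) ≤ ((m' : ℕ∞) : WithBot ℕ∞) :=
            WithBot.coe_le_coe.2 h1
          exact_mod_cast h2
        obtain ⟨C, hC⟩ := growth_closure k X H hH L hL m' ξ hle
        refine ⟨C, fun j => ?_⟩
        calc (j + 1) * Module.finrank k (Coh.HH X
                (CohB1.tensorMod (CohB1.tensorPow L j) (Cyc.closureStructureSheaf ξ)) 0)
            ≤ (j + 1) * (C * (j + 1) ^ m') := Nat.mul_le_mul_left _ (hC j)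
          _ = C * (j + 1) ^ (m' + 1) := by ring
      · push Not at hem
        have hx : KZero.clSub (PC X) (Cyc.closureStructureSheaf ξ) ∈ FilLT X (e + 1) :=
          clSub_mem_FilLT e _ (isCoh_closureStructureSheaf ξ)
            ((krullDim_le_of_subset (support_closureStructureSheaf ξ)).trans he.le)
        have hlam := lam_eq_zero_of_le k X L hL m hm e hem _ hx
        obtain ⟨M, hMc, hMs, hMξ, hMle⟩ :=
          growth_integral_step k X H hH L hL hnef ξ e he hlam
        obtain ⟨C, hC⟩ := IH M hMc (hξ ▸ hMs) hMξ hMc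
        exact ⟨C, fun j => (Nat.mul_le_mul_left _ (hMle j)).trans (hC j)⟩
    · rw [← hξ]
      exact support_closureStructureSheaf ξ

/-- **`κ(L) ≤ ν(L)` for nef `L`**: if `L^m` is numerically trivial, the sections of the powers of
`L` do not grow like the `m`-th power -/
theorem not_growth_of_numTrivial (H : X.Modules) (hH : CohB1.IsAmple H) (L : X.Modules)
    (hL : PicF.IsInvertible L) (hnef : NefS k X L) (m : ℕ)
    (hm : ∀ ξ : X, topologicalKrullDim ↥(closure ({ξ} : Set X)) = ((m : ℕ) : WithBot ℕ∞) →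
      lam k X L hL m (KZero.clSub (PC X) (Cyc.closureStructureSheaf ξ)) = 0) :
    ¬ ∃ ν a : ℕ, 0 < ν ∧ 0 < a ∧ ∀ μ : ℕ, 1 ≤ μ →
      μ ^ m ≤ a * Module.finrank k (Coh.HH X (CohB1.tensorPow L (ν * μ)) 0) := by
  rintro ⟨ν, a, hν, ha, hgr⟩
  obtain ⟨C, hC⟩ := growth_numdim k X H hH L hL hnef m hm (Coh.structureModule X)
    (isCoh_structureModule X)
  have hC' : ∀ j, (j + 1) * Module.finrank k (Coh.HH X (CohB1.tensorPow L j) 0) ≤
      C * (j + 1) ^ m := by
    intro j
    rw [← (HHFin1.HHequiv k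
      (Groth.Agent.Lib.Helper5.LTenFlf.tensorUnitIso (CohB1.tensorPow L j)) 0).finrank_eq]
    exact hC j
  set B := a * C * (2 * ν) ^ m with hB
  set μ := B + 1 with hμ
  have hμ1 : 1 ≤ μ := Nat.le_add_left 1 B
  have h1 := hgr μ hμ1
  have h2 := hC' (ν * μ)
  have hνμ : 1 ≤ ν * μ := Nat.mul_pos hν hμ1
  have h3 : (ν * μ + 1) * μ ^ m ≤ B * μ ^ m := by
    calc (ν * μ + 1) * μ ^ m
        ≤ (ν * μ + 1) * (a * Module.finrank k (Coh.HH X (CohB1.tensorPow L (ν * μ)) 0)) :=
          Nat.mul_le_mul_left _ h1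
      _ = a * ((ν * μ + 1) * Module.finrank k (Coh.HH X (CohB1.tensorPow L (ν * μ)) 0)) := by
          ring
      _ ≤ a * (C * (ν * μ + 1) ^ m) := Nat.mul_le_mul_left _ h2
      _ ≤ a * (C * (2 * ν * μ) ^ m) := by
          apply Nat.mul_le_mul_left
          apply Nat.mul_le_mul_left
          apply Nat.pow_le_pow_left
          nlinarith
      _ = B * μ ^ m := by
          rw [hB, Nat.mul_pow]
          ring
  have hμm : 0 < μ ^ m := pow_pos hμ1 m
  have h4 : ν * μ + 1 ≤ B := Nat.le_of_mul_le_mul_right h3 hμm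
  have h5 : μ ≤ ν * μ := Nat.le_mul_of_pos_left μ hν
  omega

end Growth

end Groth.Agent.Helper1.NumDim
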