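import Mathlib
import Groth.Prelude.Def_NumR
import Groth.Agent.Lib.Helper1.NumDim1
import Groth.Agent.Lib.Helper1.AmpleQA

/-!
# The big cone is the sum of the ample and the effective cone (helper1)
-/

set_option autoImplicit false
universe u
open CategoryTheory CategoryTheory.Limits AlgebraicGeometry TopologicalSpace Opposite

namespace Groth.Agent.Helper1.BigCone

open Groth.Agent.Helper1 Groth.Agent.Helper1.Euler Groth.Agent.Helper1.Dv
open Groth.Agent.Helper1.FinLen Groth.Agent.Helper1.TwForm Groth.Agent.Helper1.Curve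
open Groth.Agent.Helper1.Snap Groth.Agent.Helper1.SnapPos Groth.Agent.Helper1.FGAInt
open Groth.Agent.Helper1.FGAPos Groth.Agent.Helper1.Kleiman Groth.Agent.Helper1.Big
open Groth.Agent.Lib.Helper4

section Classes

variable (k : Type u) [Field k] (X : Scheme.{u}) [X.Over (Spec (CommRingCat.of k))]
  [PicGrp.Law X]

theorem clR_iso {A B : X.Modules} (hA : PicF.IsInvertible A) (hB : PicF.IsInvertible B)
    (e : A ≅ B) : NumR.clR k X A hA = NumR.clR k X B hB := by
  have h : PicGrp.cls A hA = PicGrp.cls B hB := (PicGrp.cls_eq_cls_iff hA hB).2 ⟨e⟩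
  unfold NumR.clR NumR.cl
  rw [h]

theorem clR_tensor {A B : X.Modules} (hA : PicF.IsInvertible A) (hB : PicF.IsInvertible B)
    (hAB : PicF.IsInvertible (CohB1.tensorMod A B)) :
    NumR.clR k X (CohB1.tensorMod A B) hAB = NumR.clR k X A hA + NumR.clR k X B hB := by
  have h : PicGrp.cls (CohB1.tensorMod A B) hAB = PicGrp.cls A hA * PicGrp.cls B hB :=
    Subtype.ext (PicGrp.cls_mul_cls_val hA hB).symm
  unfold NumR.clR NumR.cl
  rw [h, ofMul_mul, map_add, map_add]

theorem clR_pow {L : X.Modules} (hL : PicF.IsInvertible L) (n : ℕ)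
    (hLn : PicF.IsInvertible (CohB1.tensorPow L n)) :
    NumR.clR k X (CohB1.tensorPow L n) hLn = (n : ℝ) • NumR.clR k X L hL := by
  have h : PicGrp.cls (CohB1.tensorPow L n) hLn = PicGrp.cls L hL ^ n :=
    Subtype.ext (PicGrp.cls_pow_val hL n).symm
  rw [Nat.cast_smul_eq_nsmul ℝ n]
  unfold NumR.clR NumR.cl
  rw [h, ofMul_pow, map_nsmul, map_nsmul]

theorem clR_unit (hO : PicF.IsInvertible (Coh.structureModule X)) :
    NumR.clR k X (Coh.structureModule X) hO = 0 := by
  have h : PicGrp.cls (Coh.structureModule X) hO = 1 := PicGrp.cls_structureModule_eq_one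
  unfold NumR.clR NumR.cl
  rw [h, ofMul_one, map_zero, map_zero]

theorem clR_inverse {H K : X.Modules} (hH : PicF.IsInvertible H) (hK : PicF.IsInvertible K)
    (e : CohB1.tensorMod K H ≅ Coh.structureModule X) :
    NumR.clR k X K hK = - NumR.clR k X H hH := by
  have hKH : PicF.IsInvertible (CohB1.tensorMod K H) := isInvertible_tensorMod hK hH
  have h1 := clR_tensor k X hK hH hKH
  have h2 := clR_iso k X hKH GenLoc.isInvertible_O e
  rw [clR_unit] at h2
  rw [h2] at h1
  exact eq_neg_of_add_eq_zero_left h1.symm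

end Classes

section Geom

variable (k : Type u) [Field k] (X : Scheme.{u}) [X.Over (Spec (CommRingCat.of k))]
  [IsProper (X ↘ (Spec (CommRingCat.of k)))] [IsIntegral X]

include k in
/-- bigness with respect to one ample module gives bigness with respect to all of them -/
theorem big_of_mono (H : X.Modules) (hH : CohB1.IsAmple H) (L : X.Modules)
    (hL : PicF.IsInvertible L) (m₀ : ℕ) (hm₀ : 0 < m₀) (φ : H ⟶ CohB1.tensorPow L m₀)
    (hφ : Mono φ) :
    ∀ A : X.Modules, CohB1.IsAmple A →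
      ∃ (m : ℕ) (ψ : A ⟶ CohB1.tensorPow L m), 0 < m ∧ Mono ψ := by
  intro A hA
  obtain ⟨n, hn⟩ := exists_dim_nat k X
  haveI := hφ
  obtain ⟨a, m₁, ha, hgr⟩ := growth_all_of_mono_ample k X n hn H hH L hL m₀ hm₀ φ
  exact exists_mono_ample_of_growth_all k X n hn A hA L hL a m₁ hgr

include k in
/-- the tensor product of an ample module and a power of an effective module is big -/
theorem big_ample_tensor_eff (A : X.Modules) (hA : CohB1.IsAmple A) (E : X.Modules)
    (hE : PicF.IsInvertible E) (σ : Coh.structureModule X ⟶ E) (hσ : σ ≠ 0) (q : ℕ) :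
    ∀ A' : X.Modules, CohB1.IsAmple A' →
      ∃ (m : ℕ) (ψ : A' ⟶ CohB1.tensorPow (CohB1.tensorMod A (CohB1.tensorPow E q)) m),
        0 < m ∧ Mono ψ := by
  have hOi : PicF.IsInvertible (Coh.structureModule X) := GenLoc.isInvertible_O
  have hEq := isInvertible_tensorPow hE q
  have hL : PicF.IsInvertible (CohB1.tensorMod A (CohB1.tensorPow E q)) :=
    isInvertible_tensorMod hA.1 hEq
  haveI : Mono σ := mono_of_ne_zero hOi hE σ hσ
  obtain ⟨τ₀, hτ₀⟩ := exists_mono_tensorPow hOi hE σ q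
  obtain ⟨eO⟩ := GenLoc.nonempty_tensorPow_O_iso (X := X) q
  let τ : Coh.structureModule X ⟶ CohB1.tensorPow E q := eO.inv ≫ τ₀
  have hτ : Mono τ := mono_comp' _ (mono_iso_inv eO) _ hτ₀
  let u : A ≅ CohB1.tensorMod A (Coh.structureModule X) :=
    (Groth.Agent.Lib.Helper5.LTenFlf.tensorUnitIso A).symm
  let f : CohB1.tensorMod A (Coh.structureModule X) ⟶
      CohB1.tensorMod A (CohB1.tensorPow E q) := (DCoh.tensorBi.obj A).map τ
  have hf : Mono f := by
    haveI := hτ
    exact mono_tensor_left A hA.1 τ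
  let w : CohB1.tensorMod A (CohB1.tensorPow E q) ≅
      CohB1.tensorPow (CohB1.tensorMod A (CohB1.tensorPow E q)) 1 :=
    (Groth.Agent.Lib.Helper5.LTenFlf.tensorUnitIso _).symm ≪≫ TildeTens.tensorModComm _ _
  have hφ : Mono (u.hom ≫ f ≫ w.hom) :=
    mono_comp' _ (mono_iso_hom u) _ (mono_comp' f hf _ (mono_iso_hom w))
  exact big_of_mono k X A hA _ hL 1 Nat.one_pos (u.hom ≫ f ≫ w.hom) hφ

include k in
/-- an ample module is big -/
theorem big_of_ample (A : X.Modules) (hA : CohB1.IsAmple A) :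
    ∀ A' : X.Modules, CohB1.IsAmple A' →
      ∃ (m : ℕ) (ψ : A' ⟶ CohB1.tensorPow A m), 0 < m ∧ Mono ψ := by
  let w : A ≅ CohB1.tensorPow A 1 :=
    (Groth.Agent.Lib.Helper5.LTenFlf.tensorUnitIso _).symm ≪≫ TildeTens.tensorModComm _ _
  exact big_of_mono k X A hA A hA.1 1 Nat.one_pos w.hom (mono_iso_hom w)

/-- a big module is, up to a power, an ample module times an effective module -/
theorem eff_of_mono (H K : X.Modules) (hH : PicF.IsInvertible H) (hK : PicF.IsInvertible K)
    (eK : CohB1.tensorMod K H ≅ Coh.structureModule X) (L : X.Modules) (m : ℕ)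
    (φ : H ⟶ CohB1.tensorPow L m) (hφ : Mono φ) :
    NumR.HasSection (CohB1.tensorMod K (CohB1.tensorPow L m)) := by
  have hOi : PicF.IsInvertible (Coh.structureModule X) := GenLoc.isInvertible_O
  let g : CohB1.tensorMod K H ⟶ CohB1.tensorMod K (CohB1.tensorPow L m) :=
    (DCoh.tensorBi.obj K).map φ
  have hg : Mono g := by
    haveI := hφ
    exact mono_tensor_left K hK φ
  have hs : Mono (eK.inv ≫ g) := mono_comp' _ (mono_iso_inv eK) _ hg
  refine ⟨eK.inv ≫ g, fun h0 => ?_⟩
  have hz : IsZero (Coh.structureModule X) := by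
    rw [IsZero.iff_id_eq_zero]
    haveI := hs
    exact (cancel_mono (eK.inv ≫ g)).1 (by rw [h0, comp_zero, comp_zero])
  exact VB.not_isZero_of_rank_pos X Nat.one_pos (isFinLocFreeOfRank_one hOi) hz

end Geom

section Cone

variable (k : Type u) [Field k] (X : Scheme.{u}) [X.Over (Spec (CommRingCat.of k))]
  [IsProper (X ↘ (Spec (CommRingCat.of k)))] [IsIntegral X] [PicGrp.Law X]

/-- the bigness predicate of the statement -/
def P (L : X.Modules) : Prop :=
  ∀ A : X.Modules, CohB1.IsAmple A →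
    ∃ (m : ℕ) (φ : A ⟶ CohB1.tensorPow L m), 0 < m ∧ Mono φ

/-- the cone of sums of an ample and an effective class -/
noncomputable def sumCone : ConvexCone ℝ (NumR.N1R k X) where
  carrier := {x | ∃ a ∈ (NumR.ampleCone k X : Set (NumR.N1R k X)),
    x - a ∈ (NumR.effCone k X : Set (NumR.N1R k X))}
  smul_mem' := by
    rintro c hc x ⟨a, ha, hxa⟩
    refine ⟨c • a, (NumR.ampleCone k X).smul_mem hc ha, ?_⟩
    rw [← smul_sub]
    exact (NumR.effCone k X).smul_mem hc hxa
  add_mem' := by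
    rintro x ⟨a, ha, hxa⟩ y ⟨b, hb, hyb⟩
    refine ⟨a + b, (NumR.ampleCone k X).add_mem ha hb, ?_⟩
    rw [add_sub_add_comm]
    exact (NumR.effCone k X).add_mem hxa hyb

/-- the cone of the classes whose sum with every ample class is big -/
noncomputable def addCone : ConvexCone ℝ (NumR.N1R k X) where
  carrier := {e | ∀ a ∈ (NumR.ampleCone k X : Set (NumR.N1R k X)),
    a + e ∈ (NumR.coneOf k X (P X) : Set (NumR.N1R k X))}
  smul_mem' := by
    intro c hc e he a ha
    have h1 : c⁻¹ • a ∈ (NumR.ampleCone k X : Set (NumR.N1R k X)) :=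
      (NumR.ampleCone k X).smul_mem (inv_pos.2 hc) ha
    have h2 := (NumR.coneOf k X (P X)).smul_mem hc (he _ h1)
    have e1 : c • (c⁻¹ • a + e) = a + c • e := by
      rw [smul_add, smul_smul, mul_inv_cancel₀ hc.ne', one_smul]
    rw [e1] at h2
    exact h2
  add_mem' := by
    intro e₁ he₁ e₂ he₂ a ha
    have h1 : (2⁻¹ : ℝ) • a ∈ (NumR.ampleCone k X : Set (NumR.N1R k X)) :=
      (NumR.ampleCone k X).smul_mem (by norm_num) ha
    have h2 := (NumR.coneOf k X (P X)).add_mem (he₁ _ h1) (he₂ _ h1)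
    have e1 : (2⁻¹ : ℝ) • a + e₁ + ((2⁻¹ : ℝ) • a + e₂) = a + (e₁ + e₂) := by
      have : (2⁻¹ : ℝ) • a + (2⁻¹ : ℝ) • a = a := by
        rw [← add_smul]
        norm_num
      calc (2⁻¹ : ℝ) • a + e₁ + ((2⁻¹ : ℝ) • a + e₂)
          = ((2⁻¹ : ℝ) • a + (2⁻¹ : ℝ) • a) + (e₁ + e₂) := by abel
        _ = a + (e₁ + e₂) := by rw [this]
    rw [e1] at h2
    exact h2

/-- the cone of the ample classes from which a small multiple of an ample module can be
subtracted -/
noncomputable def subCone : ConvexCone ℝ (NumR.N1R k X) where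
  carrier := {a | ∃ (A : X.Modules) (hA : CohB1.IsAmple A) (δ : ℝ), 0 < δ ∧
    ∀ δ' : ℝ, 0 < δ' → δ' ≤ δ →
      a - δ' • NumR.clR k X A hA.1 ∈ (NumR.ampleCone k X : Set (NumR.N1R k X))}
  smul_mem' := by
    rintro c hc a ⟨A, hA, δ, hδ, h⟩
    refine ⟨A, hA, c * δ, mul_pos hc hδ, fun δ' hδ' hle => ?_⟩
    have h1 := h (c⁻¹ * δ') (mul_pos (inv_pos.2 hc) hδ') (by
      rw [inv_mul_le_iff₀ hc]
      exact hle)
    have h2 := (NumR.ampleCone k X).smul_mem hc h1
    have e1 : c • (a - (c⁻¹ * δ') • NumR.clR k X A hA.1) = c • a - δ' • NumR.clR k X A hA.1 := by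
      rw [smul_sub, smul_smul, ← mul_assoc, mul_inv_cancel₀ hc.ne', one_mul]
    rw [e1] at h2
    exact h2
  add_mem' := by
    rintro a ⟨A, hA, δ, hδ, h⟩ b hb
    obtain ⟨B, hB, δB, hδB, hB'⟩ := hb
    refine ⟨A, hA, δ, hδ, fun δ' hδ' hle => ?_⟩
    have hbA : b ∈ (NumR.ampleCone k X : Set (NumR.N1R k X)) := by
      have h1 := hB' δB hδB le_rfl
      have h2 : δB • NumR.clR k X B hB.1 ∈ (NumR.ampleCone k X : Set (NumR.N1R k X)) :=
        (NumR.ampleCone k X).smul_mem hδB
          (ConvexCone.subset_hull ⟨B, hB.1, hB, rfl⟩)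
      have h3 := (NumR.ampleCone k X).add_mem h1 h2
      rw [sub_add_cancel] at h3
      exact h3
    have h1 := (NumR.ampleCone k X).add_mem (h δ' hδ' hle) hbA
    have e1 : a - δ' • NumR.clR k X A hA.1 + b = a + b - δ' • NumR.clR k X A hA.1 := by abel
    rw [e1] at h1
    exact h1

theorem ample_le_subCone : NumR.ampleCone k X ≤ subCone k X := by
  refine ConvexCone.hull_min ?_
  rintro x ⟨A, hAi, hA, rfl⟩
  refine ⟨A, hA, 2⁻¹, by norm_num, fun δ' hδ' hle => ?_⟩
  have h1 : (1 - δ') • NumR.clR k X A hAi ∈ (NumR.ampleCone k X : Set (NumR.N1R k X)) :=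
    (NumR.ampleCone k X).smul_mem (by
      have : δ' ≤ 2⁻¹ := hle
      have h2 : (2⁻¹ : ℝ) < 1 := by norm_num
      linarith) (ConvexCone.subset_hull ⟨A, hAi, hA, rfl⟩)
  rw [sub_smul, one_smul] at h1
  exact h1

theorem ample_le_big : NumR.ampleCone k X ≤ NumR.coneOf k X (P X) := by
  refine ConvexCone.hull_min ?_
  rintro x ⟨A, hAi, hA, rfl⟩
  exact ConvexCone.subset_hull ⟨A, hAi, big_of_ample k X A hA, rfl⟩

theorem eff_le_addCone : NumR.effCone k X ≤ addCone k X := by
  refine ConvexCone.hull_min ?_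
  rintro x ⟨E, hE, ⟨σ, hσ⟩, rfl⟩
  intro a ha
  obtain ⟨A, hA, δ, hδ, h⟩ := ample_le_subCone k X ha
  obtain ⟨n, hn⟩ := exists_nat_one_div_lt hδ
  set ε : ℝ := 1 / ((n : ℝ) + 1) with hε
  have hn1 : (0 : ℝ) < (n : ℝ) + 1 := by positivity
  have hεpos : 0 < ε := by positivity
  have h1 := h ε hεpos hn.le
  have h1' := ample_le_big k X h1
  -- the class of `A ⊗ E^(n+1)`
  have hEq := isInvertible_tensorPow hE (n + 1)
  have hL : PicF.IsInvertible (CohB1.tensorMod A (CohB1.tensorPow E (n + 1))) :=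
    isInvertible_tensorMod hA.1 hEq
  have hbig : NumR.clR k X (CohB1.tensorMod A (CohB1.tensorPow E (n + 1))) hL ∈
      (NumR.coneOf k X (P X) : Set (NumR.N1R k X)) :=
    ConvexCone.subset_hull ⟨_, hL, big_ample_tensor_eff k X A hA E hE σ hσ (n + 1), rfl⟩
  have h2 := (NumR.coneOf k X (P X)).smul_mem hεpos hbig
  rw [clR_tensor k X hA.1 hEq hL, clR_pow k X hE (n + 1) hEq] at h2
  have h3 := (NumR.coneOf k X (P X)).add_mem h1' h2
  have hεq : ε * (((n + 1 : ℕ) : ℝ)) = 1 := by
    rw [hε]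
    push_cast
    field_simp
  have e1 : a - ε • NumR.clR k X A hA.1 +
      ε • (NumR.clR k X A hA.1 + ((n + 1 : ℕ) : ℝ) • NumR.clR k X E hE) =
      a + NumR.clR k X E hE := by
    rw [smul_add, smul_smul, hεq, one_smul]
    abel
  rw [e1] at h3
  exact h3

/-- **a class is big exactly when it is the sum of an ample and an effective class** -/
theorem main (H : X.Modules) (hH : CohB1.IsAmple H) (x : NumR.N1R k X) :
    x ∈ (NumR.coneOf k X (P X) : Set (NumR.N1R k X)) ↔
      ∃ a ∈ (NumR.ampleCone k X : Set (NumR.N1R k X)),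
        x - a ∈ (NumR.effCone k X : Set (NumR.N1R k X)) := by
  constructor
  · intro hx
    have hle : NumR.coneOf k X (P X) ≤ sumCone k X := by
      refine ConvexCone.hull_min ?_
      rintro y ⟨L, hL, hP, rfl⟩
      obtain ⟨m, φ, hm, hφ⟩ := hP H hH
      obtain ⟨K, hK, ⟨eK⟩⟩ := InvInv2.exists_inverse hH.1
      have hLm := isInvertible_tensorPow hL m
      have hE : PicF.IsInvertible (CohB1.tensorMod K (CohB1.tensorPow L m)) :=
        isInvertible_tensorMod hK hLm
      have hsec := eff_of_mono X H K hH.1 hK eK L m φ hφ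
      have hm' : (0 : ℝ) < (m : ℝ) := by exact_mod_cast hm
      set c : ℝ := (m : ℝ)⁻¹ with hc
      have hcpos : 0 < c := inv_pos.2 hm'
      have hcm : c * (m : ℝ) = 1 := inv_mul_cancel₀ hm'.ne'
      refine ⟨c • NumR.clR k X H hH.1, (NumR.ampleCone k X).smul_mem hcpos
        (ConvexCone.subset_hull ⟨H, hH.1, hH, rfl⟩), ?_⟩
      have hgen : c • NumR.clR k X (CohB1.tensorMod K (CohB1.tensorPow L m)) hE ∈
          (NumR.effCone k X : Set (NumR.N1R k X)) :=
        (NumR.effCone k X).smul_mem hcpos (ConvexCone.subset_hull ⟨_, hE, hsec, rfl⟩)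
      rw [clR_tensor k X hK hLm hE, clR_pow k X hL m hLm, clR_inverse k X hH.1 hK eK] at hgen
      have e1 : c • (-NumR.clR k X H hH.1 + (m : ℝ) • NumR.clR k X L hL) =
          NumR.clR k X L hL - c • NumR.clR k X H hH.1 := by
        rw [smul_add, smul_neg, smul_smul, hcm, one_smul]
        abel
      rw [e1] at hgen
      exact hgen
    exact hle hx
  · rintro ⟨a, ha, hxa⟩
    have h := eff_le_addCone k X hxa a ha
    rw [add_sub_cancel] at h
    exact h

end Cone

end Groth.Agent.Helper1.BigCone
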