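import Mathlib
import Groth.Agent.Lib.Helper1.BigCone1
import Groth.Agent.Lib.Helper1.AmpleLib4

/-!
# The big cone is the interior of the pseudo-effective cone (helper1)
-/

set_option autoImplicit false
universe u
open CategoryTheory CategoryTheory.Limits AlgebraicGeometry TopologicalSpace Opposite

namespace Groth.Agent.Helper1.BigCone

open Groth.Agent.Helper1 Groth.Agent.Helper1.Euler Groth.Agent.Helper1.Dv
open Groth.Agent.Helper1.FinLen Groth.Agent.Helper1.TwForm Groth.Agent.Helper1.Curve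
open Groth.Agent.Helper1.Snap Groth.Agent.Helper1.SnapPos Groth.Agent.Helper1.FGAInt
open Groth.Agent.Helper1.FGAPos Groth.Agent.Helper1.Kleiman Groth.Agent.Helper1.Big
open Groth.Agent.Lib.Helper4

section Convex

variable {V : Type*} [AddCommGroup V] [Module ℝ V]

theorem segment_mem {C : Set V} (hC : Convex ℝ C) {x v : V} {ε s : ℝ} (hε : 0 < ε)
    (hp : x + ε • v ∈ C) (hm : x - ε • v ∈ C) (hs1 : -ε ≤ s) (hs2 : s ≤ ε) :
    x + s • v ∈ C := by
  set a : ℝ := (ε + s) / (2 * ε) with ha
  set b : ℝ := (ε - s) / (2 * ε) with hb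
  have h2ε : (2 * ε) ≠ 0 := by positivity
  have hab : a + b = 1 := by
    rw [ha, hb, ← add_div, div_eq_one_iff_eq h2ε]
    ring
  have habε : (a - b) * ε = s := by
    rw [ha, hb, ← sub_div]
    field_simp
    ring
  have ha0 : 0 ≤ a := div_nonneg (by linarith) (by positivity)
  have hb0 : 0 ≤ b := div_nonneg (by linarith) (by positivity)
  have e : x + s • v = a • (x + ε • v) + b • (x - ε • v) := by
    have h1 : a • (x + ε • v) + b • (x - ε • v) = (a + b) • x + ((a - b) * ε) • v := by module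
    rw [h1, hab, habε, one_smul]
  rw [e]
  exact hC hp hm ha0 hb0 hab

theorem avg_mem {C : Set V} (hC : Convex ℝ C) {ι : Type*} [Fintype ι] (x : V) (hx : x ∈ C)
    (y : ι → V) (hy : ∀ i, x + y i ∈ C) :
    x + (1 / ((Fintype.card ι : ℝ) + 1)) • ∑ i, y i ∈ C := by
  classical
  set c : ℝ := 1 / ((Fintype.card ι : ℝ) + 1) with hc
  have hn : (0 : ℝ) < (Fintype.card ι : ℝ) + 1 := by positivity
  have hcpos : 0 < c := by positivity
  have hc1 : c + (Fintype.card ι : ℝ) * c = 1 := by
    rw [hc]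
    field_simp
    ring
  let z : Option ι → V := fun o => o.elim x (fun i => x + y i)
  have hmem := hC.sum_mem (t := (Finset.univ : Finset (Option ι))) (w := fun _ => c) (z := z)
    (fun _ _ => hcpos.le)
    (by
      rw [Finset.sum_const, Finset.card_univ, Fintype.card_option, nsmul_eq_mul]
      push_cast
      linarith)
    (fun o _ => by
      cases o with
      | none => exact hx
      | some i => exact hy i)
  have e : ∑ o : Option ι, c • z o = x + c • ∑ i, y i := by
    rw [Fintype.sum_option]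
    change c • x + ∑ i, c • (x + y i) = _
    simp only [smul_add]
    rw [Finset.sum_add_distrib, Finset.sum_const, Finset.card_univ, ← Finset.smul_sum,
      ← Nat.cast_smul_eq_nsmul ℝ, smul_smul, ← add_assoc, ← add_smul, hc1, one_smul]
  rw [e] at hmem
  exact hmem

variable [TopologicalSpace V] [IsModuleTopology ℝ V] [Module.Finite ℝ V]

/-- in a finite-dimensional real vector space, a convex set which can be left a little in the
directions of a spanning set is open -/
theorem isOpen_of_convex_of_absorbing (C : Set V) (hC : Convex ℝ C) (S : Set V)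
    (hS : Submodule.span ℝ S = ⊤)
    (h : ∀ x ∈ C, ∀ v ∈ S, ∃ ε : ℝ, 0 < ε ∧ x + ε • v ∈ C ∧ x - ε • v ∈ C) : IsOpen C := by
  classical
  haveI : IsTopologicalAddGroup V := IsModuleTopology.topologicalAddGroup ℝ V
  haveI : ContinuousSMul ℝ V := IsModuleTopology.toContinuousSMul ℝ V
  obtain ⟨ι, _, b, hbS⟩ : ∃ (ι : Type _) (_ : Fintype ι) (b : Module.Basis ι ℝ V),
      ∀ i, b i ∈ S := by
    let b := Module.Basis.ofSpan (K := ℝ) (s := S) (le_of_eq hS.symm)
    haveI : Finite ↥((linearIndepOn_empty ℝ id).extend (Set.empty_subset S)) :=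
      Module.Finite.finite_basis b
    exact ⟨_, Fintype.ofFinite _, b,
      fun i => Module.Basis.ofSpan_subset (le_of_eq hS.symm) ⟨i, rfl⟩⟩
  rw [isOpen_iff_mem_nhds]
  intro x hx
  choose ε hε hp hm using fun i => h x hx (b i) (hbS i)
  set n' : ℝ := (Fintype.card ι : ℝ) + 1 with hn'
  have hn'pos : 0 < n' := by positivity
  let U : Set (ι → ℝ) := Set.pi Set.univ (fun i => Set.Ioo (-(ε i / n')) (ε i / n'))
  have hU : IsOpen U := isOpen_set_pi Set.finite_univ (fun i _ => isOpen_Ioo)
  have h0U : (0 : ι → ℝ) ∈ U := fun i _ => by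
    have : 0 < ε i / n' := div_pos (hε i) hn'pos
    exact ⟨by simpa using this, by simpa using this⟩
  let φ : (ι → ℝ) →ₗ[ℝ] V := b.equivFun.symm.toLinearMap
  have hφo : IsOpenMap φ :=
    IsModuleTopology.isOpenMap_of_surjective (φ := φ) b.equivFun.symm.surjective
  have hW : IsOpen ((fun y => x + y) '' (φ '' U)) := (isOpenMap_add_left x) _ (hφo U hU)
  have hxW : x ∈ (fun y => x + y) '' (φ '' U) :=
    ⟨φ 0, ⟨0, h0U, rfl⟩, by simp⟩
  refine Filter.mem_of_superset (hW.mem_nhds hxW) ?_
  rintro _ ⟨_, ⟨t, ht, rfl⟩, rfl⟩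
  have hφt : φ t = ∑ i, t i • b i := b.equivFun_symm_apply t
  have hseg : ∀ i, x + (n' * t i) • b i ∈ C := fun i => by
    have hti := ht i (Set.mem_univ i)
    have h1 : -(ε i) ≤ n' * t i := by
      have := hti.1
      have h2 : n' * (-(ε i / n')) = -(ε i) := by field_simp
      nlinarith [mul_lt_mul_of_pos_left this hn'pos]
    have h2 : n' * t i ≤ ε i := by
      have := hti.2
      have h3 : n' * (ε i / n') = ε i := by field_simp
      nlinarith [mul_lt_mul_of_pos_left this hn'pos]
    exact segment_mem hC (hε i) (hp i) (hm i) h1 h2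
  have havg := avg_mem hC x hx (fun i => (n' * t i) • b i) hseg
  have e : (1 / n') • ∑ i, (n' * t i) • b i = ∑ i, t i • b i := by
    rw [Finset.smul_sum]
    refine Finset.sum_congr rfl fun i _ => ?_
    rw [smul_smul, one_div, inv_mul_cancel_left₀ hn'pos.ne']
  rw [e, ← hφt] at havg
  exact havg

end Convex

section Cone

variable (k : Type u) [Field k] (X : Scheme.{u}) [X.Over (Spec (CommRingCat.of k))]
  [IsProper (X ↘ (Spec (CommRingCat.of k)))] [IsIntegral X] [PicGrp.Law X]

/-- an ample class stays ample after adding a small multiple of any class of a module -/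
theorem ample_add_small (x : NumR.N1R k X)
    (hx : x ∈ (NumR.ampleCone k X : Set (NumR.N1R k X))) (L : X.Modules)
    (hL : PicF.IsInvertible L) :
    ∃ ε : ℝ, 0 < ε ∧ ∀ ε' : ℝ, 0 < ε' → ε' ≤ ε →
      x + ε' • NumR.clR k X L hL ∈ (NumR.ampleCone k X : Set (NumR.N1R k X)) := by
  haveI : AlgebraicGeometry.IsNoetherian X := isNoetherian_of_proper k X
  obtain ⟨A, hA, δ, hδ, h⟩ := ample_le_subCone k X hx
  haveI : CompactSpace X := hA.2.1
  have hLc : Coh.IsCoh L := InvQc.isCoh_of_isInvertible _ hL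
  obtain ⟨t₀, ht₀⟩ := AmpleLib.eventually_globallyGenerated hA L hLc
  have hAt := isInvertible_tensorPow hA.1 t₀
  have hG : PicF.IsInvertible (CohB1.tensorMod L (CohB1.tensorPow A t₀)) :=
    isInvertible_tensorMod hL hAt
  have hM : CohB1.IsAmple (CohB1.tensorMod A (CohB1.tensorMod L (CohB1.tensorPow A t₀))) :=
    AmpleLib.isAmple_tensor_of_globallyGenerated hA hG (ht₀ t₀ le_rfl)
  have hMcl : NumR.clR k X _ hM.1 =
      ((t₀ : ℝ) + 1) • NumR.clR k X A hA.1 + NumR.clR k X L hL := by
    rw [clR_tensor k X hA.1 hG hM.1, clR_tensor k X hL hAt hG, clR_pow k X hA.1 t₀ hAt, add_smul,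
      one_smul]
    abel
  set N : ℝ := (t₀ : ℝ) + 1 with hN
  have hNpos : 0 < N := by positivity
  refine ⟨δ / N, div_pos hδ hNpos, fun ε' hε' hle => ?_⟩
  have h1 := h (ε' * N) (mul_pos hε' hNpos) (by
    rw [le_div_iff₀ hNpos] at hle
    exact hle)
  have h2 : ε' • NumR.clR k X _ hM.1 ∈ (NumR.ampleCone k X : Set (NumR.N1R k X)) :=
    (NumR.ampleCone k X).smul_mem hε' (ConvexCone.subset_hull ⟨_, hM.1, hM, rfl⟩)
  have h3 := (NumR.ampleCone k X).add_mem h1 h2
  rw [hMcl] at h3
  have e : x - (ε' * N) • NumR.clR k X A hA.1 +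
      ε' • (N • NumR.clR k X A hA.1 + NumR.clR k X L hL) = x + ε' • NumR.clR k X L hL := by
    rw [smul_add, smul_smul]
    abel
  rw [e] at h3
  exact h3

variable [Module.Finite ℝ (NumR.N1R k X)]

/-- the ample cone is open -/
theorem isOpen_ampleCone : IsOpen (NumR.ampleCone k X : Set (NumR.N1R k X)) := by
  refine isOpen_of_convex_of_absorbing _ (NumR.ampleCone k X).convex
    {x : NumR.N1R k X | ∃ (L : X.Modules) (hL : PicF.IsInvertible L), x = NumR.clR k X L hL}
    NumR.span_clR ?_
  rintro x hx _ ⟨L, hL, rfl⟩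
  obtain ⟨K, hK, ⟨eK⟩⟩ := InvInv2.exists_inverse hL
  obtain ⟨ε₁, hε₁, h₁⟩ := ample_add_small k X x hx L hL
  obtain ⟨ε₂, hε₂, h₂⟩ := ample_add_small k X x hx K hK
  refine ⟨min ε₁ ε₂, lt_min hε₁ hε₂, h₁ _ (lt_min hε₁ hε₂) (min_le_left _ _), ?_⟩
  have h := h₂ _ (lt_min hε₁ hε₂) (min_le_right _ _)
  rw [clR_inverse k X hL hK eK, smul_neg, ← sub_eq_add_neg] at h
  exact h

/-- ample classes are effective -/
theorem ample_le_eff : NumR.ampleCone k X ≤ NumR.effCone k X := by
  haveI : AlgebraicGeometry.IsNoetherian X := isNoetherian_of_proper k X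
  refine ConvexCone.hull_min ?_
  rintro x ⟨A, hAi, hA, rfl⟩
  have hOc := isCoh_structureModule X
  have hOi : PicF.IsInvertible (Coh.structureModule X) := GenLoc.isInvertible_O
  obtain ⟨t₀, ht₀⟩ := AmpleLib.eventually_globallyGenerated hA (Coh.structureModule X) hOc
  have hAt := isInvertible_tensorPow hAi (t₀ + 1)
  have hP : PicF.IsInvertible
      (CohB1.tensorMod (Coh.structureModule X) (CohB1.tensorPow A (t₀ + 1))) :=
    isInvertible_tensorMod hOi hAt
  obtain ⟨σ, hσ⟩ := exists_section_ne_zero (ht₀ (t₀ + 1) (Nat.le_succ t₀))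
    (fun hz => VB.not_isZero_of_rank_pos X Nat.one_pos (isFinLocFreeOfRank_one hP) hz)
  have hgen : NumR.clR k X _ hP ∈ (NumR.effCone k X : Set (NumR.N1R k X)) :=
    ConvexCone.subset_hull ⟨_, hP, ⟨σ, hσ⟩, rfl⟩
  rw [clR_tensor k X hOi hAt hP, clR_unit, zero_add, clR_pow k X hAi (t₀ + 1) hAt] at hgen
  have hpos : (0 : ℝ) < ((t₀ + 1 : ℕ) : ℝ) := by positivity
  have h2 := (NumR.effCone k X).smul_mem (inv_pos.2 hpos) hgen
  rw [smul_smul, inv_mul_cancel₀ hpos.ne', one_smul] at h2
  exact h2

/-- **the big cone is the interior of the pseudo-effective cone, which is the closure of the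
big cone** -/
theorem main2 (H : X.Modules) (hH : CohB1.IsAmple H) :
    (NumR.coneOf k X (P X) : Set (NumR.N1R k X)) = interior (NumR.psefCone k X) ∧
      NumR.psefCone k X = closure (NumR.coneOf k X (P X) : Set (NumR.N1R k X)) := by
  haveI : IsTopologicalAddGroup (NumR.N1R k X) :=
    IsModuleTopology.topologicalAddGroup ℝ (NumR.N1R k X)
  have hopenA := isOpen_ampleCone k X
  have haH : NumR.clR k X H hH.1 ∈ (NumR.ampleCone k X : Set (NumR.N1R k X)) :=
    ConvexCone.subset_hull ⟨H, hH.1, hH, rfl⟩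
  -- the big cone is open
  have hopenB : IsOpen (NumR.coneOf k X (P X) : Set (NumR.N1R k X)) := by
    rw [isOpen_iff_forall_mem_open]
    intro x hx
    obtain ⟨a, ha, hxa⟩ := (main k X H hH x).1 hx
    refine ⟨(fun y => y + (x - a)) '' (NumR.ampleCone k X : Set (NumR.N1R k X)), ?_,
      (isOpenMap_add_right (x - a)) _ hopenA, ⟨a, ha, by abel⟩⟩
    rintro _ ⟨a', ha', rfl⟩
    exact (main k X H hH _).2 ⟨a', ha', by rw [add_sub_cancel_left]; exact hxa⟩
  -- the big cone lies in the effective cone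
  have hBE : (NumR.coneOf k X (P X) : Set (NumR.N1R k X)) ⊆
      (NumR.effCone k X : Set (NumR.N1R k X)) := by
    intro x hx
    obtain ⟨a, ha, hxa⟩ := (main k X H hH x).1 hx
    have h := (NumR.effCone k X).add_mem (ample_le_eff k X ha) hxa
    rw [add_sub_cancel] at h
    exact h
  have hBP : (NumR.coneOf k X (P X) : Set (NumR.N1R k X)) ⊆ NumR.psefCone k X :=
    hBE.trans subset_closure
  -- effective classes are limits of big classes
  have hEB : (NumR.effCone k X : Set (NumR.N1R k X)) ⊆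
      closure (NumR.coneOf k X (P X) : Set (NumR.N1R k X)) := by
    intro e he
    have hcont : Continuous fun ε : ℝ => e + ε • NumR.clR k X H hH.1 := by fun_prop
    have htend : Filter.Tendsto (fun ε : ℝ => e + ε • NumR.clR k X H hH.1)
        (nhdsWithin 0 (Set.Ioi 0)) (nhds e) := by
      have h0 := hcont.tendsto 0
      rw [zero_smul, add_zero] at h0
      exact tendsto_nhdsWithin_of_tendsto_nhds h0
    refine mem_closure_of_tendsto htend ?_
    filter_upwards [self_mem_nhdsWithin] with ε hε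
    refine (main k X H hH _).2 ⟨ε • NumR.clR k X H hH.1,
      (NumR.ampleCone k X).smul_mem hε haH, ?_⟩
    rw [add_sub_cancel_right]
    exact he
  refine ⟨Set.Subset.antisymm (interior_maximal hBP hopenB) ?_,
    Set.Subset.antisymm (closure_minimal hEB isClosed_closure) (closure_minimal hBP isClosed_closure)⟩
  -- the interior of the pseudo-effective cone lies in the big cone
  intro x hx
  have hcont : Continuous fun ε : ℝ => x - ε • NumR.clR k X H hH.1 := by fun_prop
  have h0 : (fun ε : ℝ => x - ε • NumR.clR k X H hH.1) 0 ∈ interior (NumR.psefCone k X) := by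
    change x - (0 : ℝ) • NumR.clR k X H hH.1 ∈ _
    rw [zero_smul, sub_zero]
    exact hx
  have hnh := hcont.continuousAt.preimage_mem_nhds (isOpen_interior.mem_nhds h0)
  obtain ⟨ε, hεpos, hεmem⟩ : ∃ ε : ℝ, 0 < ε ∧
      x - ε • NumR.clR k X H hH.1 ∈ interior (NumR.psefCone k X) := by
    obtain ⟨r, hr, hball⟩ := Metric.mem_nhds_iff.1 hnh
    refine ⟨r / 2, by positivity, hball ?_⟩
    rw [Metric.mem_ball, Real.dist_eq, sub_zero, abs_of_pos (by positivity)]
    linarith
  have hclos : x - ε • NumR.clR k X H hH.1 ∈ closure (NumR.effCone k X : Set (NumR.N1R k X)) :=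
    interior_subset hεmem
  -- the open set of the classes `e` with `x - e` ample
  have hO : IsOpen {e : NumR.N1R k X | x - e ∈ (NumR.ampleCone k X : Set (NumR.N1R k X))} :=
    hopenA.preimage (continuous_const.sub continuous_id)
  have hmemO : x - ε • NumR.clR k X H hH.1 ∈
      {e : NumR.N1R k X | x - e ∈ (NumR.ampleCone k X : Set (NumR.N1R k X))} := by
    change x - (x - ε • NumR.clR k X H hH.1) ∈ (NumR.ampleCone k X : Set (NumR.N1R k X))
    rw [sub_sub_cancel]
    exact (NumR.ampleCone k X).smul_mem hεpos haH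
  obtain ⟨e, heO, heE⟩ := mem_closure_iff.1 hclos _ hO hmemO
  refine (main k X H hH x).2 ⟨x - e, heO, ?_⟩
  rw [sub_sub_cancel]
  exact heE

end Cone

end Groth.Agent.Helper1.BigCone
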