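import Mathlib

namespace Groth.Agent.Helper1.Blow

open Polynomial

variable {R : Type*} [CommRing R]

/-- colon-type property: `s y ∈ 𝔨 → y ∈ 𝔨'`. -/
def Col (s : R) (𝔨 𝔨' : Ideal R) : Prop := ∀ y, s * y ∈ 𝔨 → y ∈ 𝔨'

theorem Col.mono {s : R} {𝔨 𝔨' 𝔨₁ 𝔨₁' : Ideal R} (h : Col s 𝔨 𝔨') (h1 : 𝔨₁ ≤ 𝔨) (h2 : 𝔨' ≤ 𝔨₁') :
    Col s 𝔨₁ 𝔨₁' := fun y hy => h2 (h y (h1 hy))

/-- coefficientwise extension. -/
theorem Col.mapC {s : R} {𝔨 𝔨' : Ideal R} (h : Col s 𝔨 𝔨') :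
    Col (C s) (𝔨.map C) (𝔨'.map C) := by
  intro x hx
  rw [Ideal.mem_map_C_iff] at hx ⊢
  intro n
  apply h
  rw [← coeff_C_mul]
  exact hx n

theorem mem_sup_span_singleton {𝔨 : Ideal R} {s x : R} :
    x ∈ 𝔨 ⊔ Ideal.span {s} ↔ ∃ k ∈ 𝔨, ∃ y, x = k + s * y := by
  rw [Submodule.mem_sup]
  constructor
  · rintro ⟨k, hk, z, hz, rfl⟩
    obtain ⟨y, rfl⟩ := Ideal.mem_span_singleton'.mp hz
    exact ⟨k, hk, y, by ring⟩
  · rintro ⟨k, hk, y, rfl⟩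
    exact ⟨k, hk, s * y, Ideal.mem_span_singleton'.mpr ⟨y, by ring⟩, rfl⟩

/-- leading coefficient lemma for linear polynomials. -/
theorem col_linear {u κ : R} {𝔨 𝔨' : Ideal R} (h : Col u 𝔨 𝔨')
    (hκ : ∀ y ∈ 𝔨', y * κ ∈ 𝔨) :
    Col (C u * X + C κ) (𝔨.map C) (𝔨'.map C) := by
  intro x hx
  rw [Ideal.mem_map_C_iff] at hx ⊢
  have hc : ∀ n, (((C u * X + C κ) * x).coeff (n + 1)) = u * x.coeff n + κ * x.coeff (n + 1) := by
    intro n
    rw [add_mul, coeff_add, mul_assoc, coeff_C_mul, coeff_X_mul, coeff_C_mul]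
  have key : ∀ m n, x.natDegree + 1 ≤ n + m → x.coeff n ∈ 𝔨' := by
    intro m
    induction m with
    | zero =>
      intro n hn
      rw [coeff_eq_zero_of_natDegree_lt (by omega)]
      exact 𝔨'.zero_mem
    | succ m ih =>
      intro n hn
      have h1 : x.coeff (n + 1) ∈ 𝔨' := ih (n + 1) (by omega)
      have h2 := hx (n + 1)
      rw [hc] at h2
      have h3 : κ * x.coeff (n + 1) ∈ 𝔨 := by rw [mul_comm]; exact hκ _ h1
      have h4 : u * x.coeff n ∈ 𝔨 := by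
        have := 𝔨.sub_mem h2 h3
        simpa using this
      exact h _ h4
  intro n
  exact key (x.natDegree + 1) n (by omega)

/-- **Blow-up lemma**: adjoining `β / w` with `(w, β)` regular modulo `K₀`. -/
theorem col_blow {w β : R} {K₀ : Ideal R} (hw : Col w K₀ K₀)
    (hβ : Col β (K₀ ⊔ Ideal.span {w}) (K₀ ⊔ Ideal.span {w})) :
    Col (C w) (K₀.map C ⊔ Ideal.span {C w * X - C β}) (K₀.map C ⊔ Ideal.span {C w * X - C β}) := by
  intro x hx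
  obtain ⟨k, hk, y, hxy⟩ := mem_sup_span_singleton.mp hx
  -- `C β * y ∈ (K₀ ⊔ (w)).map C`
  have h1 : C β * y ∈ (K₀ ⊔ Ideal.span {w}).map C := by
    have e1 : C β * y = k + C w * (X * y - x) := by
      have : (C w * X - C β) * y = C w * x - k := by rw [hxy]; ring
      linear_combination (-1 : R[X]) * this
    rw [e1]
    refine Ideal.add_mem _ (Ideal.map_mono le_sup_left hk) ?_
    refine Ideal.mul_mem_right _ _ (Ideal.mem_map_of_mem _ ?_)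
    exact Ideal.mem_sup_right (Ideal.subset_span rfl)
  have h2 : y ∈ (K₀ ⊔ Ideal.span {w}).map C := hβ.mapC y h1
  rw [Ideal.map_sup, Ideal.map_span, Set.image_singleton] at h2
  obtain ⟨k', hk', y', rfl⟩ := mem_sup_span_singleton.mp h2
  have h3 : C w * (x - (C w * X - C β) * y') ∈ K₀.map C := by
    have : C w * (x - (C w * X - C β) * y') = k + (C w * X - C β) * k' := by
      rw [mul_sub, hxy]; ring
    rw [this]
    exact Ideal.add_mem _ hk (Ideal.mul_mem_left _ _ hk')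
  have h4 := hw.mapC _ h3
  rw [mem_sup_span_singleton]
  exact ⟨_, h4, y', by ring⟩

theorem mem_sup3 {𝔨 : Ideal R} {s t x : R} :
    x ∈ 𝔨 ⊔ Ideal.span {s} ⊔ Ideal.span {t} ↔ ∃ k ∈ 𝔨, ∃ y z, x = k + s * y + t * z := by
  rw [mem_sup_span_singleton]
  constructor
  · rintro ⟨k, hk, z, rfl⟩
    obtain ⟨k', hk', y, rfl⟩ := mem_sup_span_singleton.mp hk
    exact ⟨k', hk', y, z, rfl⟩
  · rintro ⟨k, hk, y, z, rfl⟩
    exact ⟨k + s * y, mem_sup_span_singleton.mpr ⟨k, hk, y, rfl⟩, z, rfl⟩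

theorem mem_sup4 {𝔨 : Ideal R} {s t r x : R} :
    x ∈ 𝔨 ⊔ Ideal.span {s} ⊔ Ideal.span {t} ⊔ Ideal.span {r} ↔
      ∃ k ∈ 𝔨, ∃ y z v, x = k + s * y + t * z + r * v := by
  rw [mem_sup_span_singleton]
  constructor
  · rintro ⟨k, hk, v, rfl⟩
    obtain ⟨k', hk', y, z, rfl⟩ := mem_sup3.mp hk
    exact ⟨k', hk', y, z, v, rfl⟩
  · rintro ⟨k, hk, y, z, v, rfl⟩
    exact ⟨k + s * y + t * z, mem_sup3.mpr ⟨k, hk, y, z, rfl⟩, v, rfl⟩

theorem map_sup_span (𝔨 : Ideal R) (s : R) :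
    (𝔨 ⊔ Ideal.span {s}).map (C : R →+* R[X]) = 𝔨.map C ⊔ Ideal.span {C s} := by
  rw [Ideal.map_sup, Ideal.map_span, Set.image_singleton]

/-- **Degenerate blow-up lemma**. -/
theorem col_blow2 {w β R₀ P₀ ℓ₁ ℓ₂ m₁ m₂ : R} {K : Ideal R}
    (h0 : Col w K K)
    (h1 : β * R₀ - w * P₀ ∈ K) (h1a : ℓ₁ * R₀ - w * m₁ ∈ K) (h1b : ℓ₂ * R₀ - w * m₂ ∈ K)
    (h2 : Col β (K ⊔ Ideal.span {w}) (K ⊔ Ideal.span {w} ⊔ Ideal.span {R₀}))
    (h3a : Col R₀ (K ⊔ Ideal.span {w})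
      (K ⊔ Ideal.span {w} ⊔ Ideal.span {ℓ₁} ⊔ Ideal.span {ℓ₂}))
    (h3b : Col R₀ (K ⊔ Ideal.span {w} ⊔ Ideal.span {ℓ₁} ⊔ Ideal.span {ℓ₂})
      (K ⊔ Ideal.span {w} ⊔ Ideal.span {ℓ₁} ⊔ Ideal.span {ℓ₂})) :
    Col (C w)
      (K.map C ⊔ Ideal.span {C w * X - C β} ⊔ Ideal.span {C R₀ * X - C P₀})
      (K.map C ⊔ Ideal.span {C w * X - C β} ⊔ Ideal.span {C R₀ * X - C P₀}) := by
  intro x hx
  obtain ⟨k, hk, y, z, hxyz⟩ := mem_sup3.mp hx
  set q : R[X] := C w * X - C β with hq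
  set δ : R[X] := C R₀ * X - C P₀ with hδ
  set Kx : Ideal R[X] := K.map C with hKx
  -- auxiliary: ℓ P₀ - m β ∈ K
  have aux : ∀ ℓ m : R, ℓ * R₀ - w * m ∈ K → ℓ * P₀ - m * β ∈ K := by
    intro ℓ m hm
    apply h0
    have : w * (ℓ * P₀ - m * β) = β * (ℓ * R₀ - w * m) - ℓ * (β * R₀ - w * P₀) := by ring
    rw [this]
    exact K.sub_mem (K.mul_mem_left _ hm) (K.mul_mem_left _ h1)
  -- (b): C R₀ * q - C w * δ ∈ Kx
  have hb : C R₀ * q - C w * δ ∈ Kx := by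
    have : C R₀ * q - C w * δ = -C (β * R₀ - w * P₀) := by
      simp only [hq, hδ, map_sub, map_mul]; ring
    rw [this]
    exact Kx.neg_mem (Ideal.mem_map_of_mem _ h1)
  -- (c): C ℓ * δ - C m * q ∈ Kx
  have hc : ∀ ℓ m : R, ℓ * R₀ - w * m ∈ K → C ℓ * δ - C m * q ∈ Kx := by
    intro ℓ m hm
    have : C ℓ * δ - C m * q = C (ℓ * R₀ - w * m) * X - C (ℓ * P₀ - m * β) := by
      simp only [hq, hδ, map_sub, map_mul]; ring
    rw [this]
    exact Kx.sub_mem (Kx.mul_mem_right _ (Ideal.mem_map_of_mem _ hm))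
      (Ideal.mem_map_of_mem _ (aux ℓ m hm))
  have hKw : Kx ≤ (K ⊔ Ideal.span {w}).map C := Ideal.map_mono le_sup_left
  have hCw : C w ∈ (K ⊔ Ideal.span {w}).map C :=
    Ideal.mem_map_of_mem _ (Ideal.mem_sup_right (Ideal.subset_span rfl))
  -- Step A
  have hA : C R₀ * (δ * z) ∈ (K ⊔ Ideal.span {w}).map C := by
    have : C R₀ * (δ * z) = C w * (C R₀ * x - δ * y) - C R₀ * k - (C R₀ * q - C w * δ) * y := by
      have h' : δ * z = C w * x - k - q * y := by rw [hxyz]; ring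
      rw [h']; ring
    rw [this]
    refine Ideal.sub_mem _ (Ideal.sub_mem _ (Ideal.mul_mem_right _ _ hCw) ?_) ?_
    · exact Ideal.mul_mem_left _ _ (hKw hk)
    · exact Ideal.mul_mem_right _ _ (hKw hb)
  -- Step B
  have hB1 : δ * z ∈ (K ⊔ Ideal.span {w} ⊔ Ideal.span {ℓ₁} ⊔ Ideal.span {ℓ₂}).map C :=
    h3a.mapC _ hA
  have hδ' : δ = C R₀ * X + C (-P₀) := by rw [hδ, map_neg]; ring
  have hB2 : z ∈ (K ⊔ Ideal.span {w} ⊔ Ideal.span {ℓ₁} ⊔ Ideal.span {ℓ₂}).map C := by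
    have := col_linear (κ := -P₀) h3b (fun y hy => Ideal.mul_mem_right _ _ hy)
    rw [← hδ'] at this
    exact this z hB1
  -- Step C
  rw [map_sup_span, map_sup_span, map_sup_span] at hB2
  obtain ⟨k', hk', z', z₁, z₂, rfl⟩ := mem_sup4.mp hB2
  set y' : R[X] := y + C m₁ * z₁ + C m₂ * z₂ with hy'
  have hC : C w * (x - δ * z') - q * y' ∈ Kx := by
    have : C w * (x - δ * z') - q * y' =
        k + δ * k' + (C ℓ₁ * δ - C m₁ * q) * z₁ + (C ℓ₂ * δ - C m₂ * q) * z₂ := by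
      rw [mul_sub, hxyz, hy']; ring
    rw [this]
    refine Kx.add_mem (Kx.add_mem (Kx.add_mem hk (Kx.mul_mem_left _ hk')) ?_) ?_
    · exact Kx.mul_mem_right _ (hc ℓ₁ m₁ h1a)
    · exact Kx.mul_mem_right _ (hc ℓ₂ m₂ h1b)
  -- Step D
  have hD1 : C β * y' ∈ (K ⊔ Ideal.span {w}).map C := by
    have : C β * y' = C w * (X * y' - (x - δ * z')) + (C w * (x - δ * z') - q * y') := by
      rw [hq]; ring
    rw [this]
    exact Ideal.add_mem _ (Ideal.mul_mem_right _ _ hCw) (hKw hC)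
  have hD2 := h2.mapC _ hD1
  rw [map_sup_span, map_sup_span] at hD2
  obtain ⟨k₃, hk₃, y₃, y₂, hy₃⟩ := mem_sup3.mp hD2
  -- Step E
  have hE : C w * (x - δ * z' - q * y₃ - δ * y₂) ∈ Kx := by
    have : C w * (x - δ * z' - q * y₃ - δ * y₂) =
        (C w * (x - δ * z') - q * y') + q * k₃ + (C R₀ * q - C w * δ) * y₂ := by
      rw [hy₃]; ring
    rw [this]
    exact Kx.add_mem (Kx.add_mem hC (Kx.mul_mem_left _ hk₃)) (Kx.mul_mem_right _ hb)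
  have hE2 := h0.mapC _ hE
  rw [mem_sup3]
  exact ⟨_, hE2, y₃, z' + y₂, by ring⟩

/-- flexible version of `col_blow`. -/
theorem col_blow' {w β : R} {K₀ Kw Kw' : Ideal R} (hw : Col w K₀ K₀)
    (hβ : Col β Kw Kw') (h1 : K₀ ⊔ Ideal.span {w} ≤ Kw) (h2 : Kw' ≤ K₀ ⊔ Ideal.span {w}) :
    Col (C w) (K₀.map C ⊔ Ideal.span {C w * X - C β}) (K₀.map C ⊔ Ideal.span {C w * X - C β}) :=
  col_blow hw (hβ.mono h1 h2)

/-- flexible version of `col_blow2`. -/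
theorem col_blow2' {w β R₀ P₀ ℓ₁ ℓ₂ m₁ m₂ : R} {K Kw KR Kn : Ideal R}
    (h0 : Col w K K)
    (h1 : β * R₀ - w * P₀ ∈ K) (h1a : ℓ₁ * R₀ - w * m₁ ∈ K) (h1b : ℓ₂ * R₀ - w * m₂ ∈ K)
    (hKw : K ⊔ Ideal.span {w} ≤ Kw)
    (h2 : Col β Kw KR) (hKR : KR ≤ K ⊔ Ideal.span {w} ⊔ Ideal.span {R₀})
    (h3a : Col R₀ Kw Kn) (h3b : Col R₀ Kn Kn)
    (hKn : Kn ≤ K ⊔ Ideal.span {w} ⊔ Ideal.span {ℓ₁} ⊔ Ideal.span {ℓ₂}) :
    Col (C w)
      (K.map C ⊔ Ideal.span {C w * X - C β} ⊔ Ideal.span {C R₀ * X - C P₀})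
      (K.map C ⊔ Ideal.span {C w * X - C β} ⊔ Ideal.span {C R₀ * X - C P₀}) := by
  intro x hx
  obtain ⟨k, hk, y, z, hxyz⟩ := mem_sup3.mp hx
  set q : R[X] := C w * X - C β with hq
  set δ : R[X] := C R₀ * X - C P₀ with hδ
  set Kx : Ideal R[X] := K.map C with hKx
  have aux : ∀ ℓ m : R, ℓ * R₀ - w * m ∈ K → ℓ * P₀ - m * β ∈ K := by
    intro ℓ m hm
    apply h0
    have : w * (ℓ * P₀ - m * β) = β * (ℓ * R₀ - w * m) - ℓ * (β * R₀ - w * P₀) := by ring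
    rw [this]
    exact K.sub_mem (K.mul_mem_left _ hm) (K.mul_mem_left _ h1)
  have hb : C R₀ * q - C w * δ ∈ Kx := by
    have : C R₀ * q - C w * δ = -C (β * R₀ - w * P₀) := by
      simp only [hq, hδ, map_sub, map_mul]; ring
    rw [this]
    exact Kx.neg_mem (Ideal.mem_map_of_mem _ h1)
  have hc : ∀ ℓ m : R, ℓ * R₀ - w * m ∈ K → C ℓ * δ - C m * q ∈ Kx := by
    intro ℓ m hm
    have : C ℓ * δ - C m * q = C (ℓ * R₀ - w * m) * X - C (ℓ * P₀ - m * β) := by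
      simp only [hq, hδ, map_sub, map_mul]; ring
    rw [this]
    exact Kx.sub_mem (Kx.mul_mem_right _ (Ideal.mem_map_of_mem _ hm))
      (Ideal.mem_map_of_mem _ (aux ℓ m hm))
  have hKw' : Kx ≤ Kw.map C := Ideal.map_mono (le_trans le_sup_left hKw)
  have hCw : C w ∈ Kw.map C :=
    Ideal.mem_map_of_mem _ (hKw (Ideal.mem_sup_right (Ideal.subset_span rfl)))
  have hA : C R₀ * (δ * z) ∈ Kw.map C := by
    have : C R₀ * (δ * z) = C w * (C R₀ * x - δ * y) - C R₀ * k - (C R₀ * q - C w * δ) * y := by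
      have h' : δ * z = C w * x - k - q * y := by rw [hxyz]; ring
      rw [h']; ring
    rw [this]
    refine Ideal.sub_mem _ (Ideal.sub_mem _ (Ideal.mul_mem_right _ _ hCw) ?_) ?_
    · exact Ideal.mul_mem_left _ _ (hKw' hk)
    · exact Ideal.mul_mem_right _ _ (hKw' hb)
  have hB1 : δ * z ∈ Kn.map C := h3a.mapC _ hA
  have hδ' : δ = C R₀ * X + C (-P₀) := by rw [hδ, map_neg]; ring
  have hB2 : z ∈ Kn.map C := by
    have := col_linear (κ := -P₀) h3b (fun y hy => Ideal.mul_mem_right _ _ hy)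
    rw [← hδ'] at this
    exact this z hB1
  have hB3 := Ideal.map_mono (f := (C : R →+* R[X])) hKn hB2
  rw [map_sup_span, map_sup_span, map_sup_span] at hB3
  obtain ⟨k', hk', z', z₁, z₂, rfl⟩ := mem_sup4.mp hB3
  set y' : R[X] := y + C m₁ * z₁ + C m₂ * z₂ with hy'
  have hC : C w * (x - δ * z') - q * y' ∈ Kx := by
    have : C w * (x - δ * z') - q * y' =
        k + δ * k' + (C ℓ₁ * δ - C m₁ * q) * z₁ + (C ℓ₂ * δ - C m₂ * q) * z₂ := by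
      rw [mul_sub, hxyz, hy']; ring
    rw [this]
    refine Kx.add_mem (Kx.add_mem (Kx.add_mem hk (Kx.mul_mem_left _ hk')) ?_) ?_
    · exact Kx.mul_mem_right _ (hc ℓ₁ m₁ h1a)
    · exact Kx.mul_mem_right _ (hc ℓ₂ m₂ h1b)
  have hD1 : C β * y' ∈ Kw.map C := by
    have : C β * y' = C w * (X * y' - (x - δ * z')) + (C w * (x - δ * z') - q * y') := by
      rw [hq]; ring
    rw [this]
    exact Ideal.add_mem _ (Ideal.mul_mem_right _ _ hCw) (hKw' hC)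
  have hD2 := Ideal.map_mono (f := (C : R →+* R[X])) hKR (h2.mapC _ hD1)
  rw [map_sup_span, map_sup_span] at hD2
  obtain ⟨k₃, hk₃, y₃, y₂, hy₃⟩ := mem_sup3.mp hD2
  have hE : C w * (x - δ * z' - q * y₃ - δ * y₂) ∈ Kx := by
    have : C w * (x - δ * z' - q * y₃ - δ * y₂) =
        (C w * (x - δ * z') - q * y') + q * k₃ + (C R₀ * q - C w * δ) * y₂ := by
      rw [hy₃]; ring
    rw [this]
    exact Kx.add_mem (Kx.add_mem hC (Kx.mul_mem_left _ hk₃)) (Kx.mul_mem_right _ hb)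
  have hE2 := h0.mapC _ hE
  rw [mem_sup3]
  exact ⟨_, hE2, y₃, z' + y₂, by ring⟩

theorem Col.neg {s : R} {𝔨 𝔨' : Ideal R} (h : Col s 𝔨 𝔨') : Col (-s) 𝔨 𝔨' := by
  intro y hy
  apply h
  have : s * y = -(-s * y) := by ring
  rw [this]
  exact 𝔨.neg_mem hy

end Groth.Agent.Helper1.Blow
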