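import Mathlib
import Groth.Agent.Lib.Helper3.MVel
import Groth.Agent.Lib.Helper1.CohUtil

/-!
# Mayer–Vietoris: vanishing of `H¹` of a union from surjectivity on sections
-/

set_option autoImplicit false
set_option backward.isDefEq.respectTransparency false
open CategoryTheory Limits Opposite TopologicalSpace TopCat

universe u
namespace Groth.Agent.Helper1.MVsurj

variable {X : TopCat.{u}} (F : CohTop.Ab X) (A B : Opens X)

theorem δ_res_right (n : ℕ) (b : CohTop.HU F n B) :
    Groth.Agent.Helper3.MVel.δ F A B n (CohTop.res F n (inf_le_right : A ⊓ B ≤ B) b) = 0 := by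
  let S := Opens.mayerVietorisSquare A B
  have h := ConcreteCategory.congr_hom (S.fromBiprod_δ F n (n + 1) rfl)
    ((AddCommGrpCat.biprodIsoProd _ _).inv ⟨0, b⟩)
  rw [ConcreteCategory.comp_apply,
    GrothendieckTopology.MayerVietorisSquare.fromBiprod_biprodIsoProd_inv_apply, map_zero,
    zero_sub] at h
  have h' : Groth.Agent.Helper3.MVel.δ F A B n
      (-(CohTop.res F n (inf_le_right : A ⊓ B ≤ B) b)) = 0 := h
  rwa [map_neg, neg_eq_zero] at h'

/-- if `H¹(A, F) = H¹(B, F) = 0` and every section over `A ⊓ B` is a sum of restrictions of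
sections over `A` and `B`, then `H¹(A ⊔ B, F) = 0` -/
theorem subsingleton_sup_of_surj (hA : Subsingleton (CohTop.HU F 1 A))
    (hB : Subsingleton (CohTop.HU F 1 B))
    (hsurj : ∀ e : F.obj.obj (op (A ⊓ B)), ∃ (a : F.obj.obj (op A)) (b : F.obj.obj (op B)),
      e = (F.obj.map (homOfLE (inf_le_left : A ⊓ B ≤ A)).op).hom a +
        (F.obj.map (homOfLE (inf_le_right : A ⊓ B ≤ B)).op).hom b) :
    Subsingleton (CohTop.HU F 1 (A ⊔ B)) := by
  have key : ∀ c : CohTop.HU F 1 (A ⊔ B), c = 0 := by
    intro c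
    obtain ⟨e, rfl⟩ := Groth.Agent.Helper3.MVel.exact_left F A B 0 c (hA.elim _ _) (hB.elim _ _)
    obtain ⟨a, b, hab⟩ := hsurj (CohUtil.HU0equiv F (A ⊓ B) e)
    have h1 : CohUtil.HU0equiv F (A ⊓ B) (CohTop.res F 0 (inf_le_left : A ⊓ B ≤ A)
        ((CohUtil.HU0equiv F A).symm a)) =
        (F.obj.map (homOfLE (inf_le_left : A ⊓ B ≤ A)).op).hom a := by
      have h := Groth.Agent.Helper3.H0Iso.compEquiv_naturality (Opens.grothendieckTopology X) F
        (homOfLE (inf_le_left : A ⊓ B ≤ A)) ((CohUtil.HU0equiv F A).symm a)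
      have h' : Groth.Agent.Helper3.H0Iso.compEquiv (Opens.grothendieckTopology X) F A
          ((CohUtil.HU0equiv F A).symm a) = a := (CohUtil.HU0equiv F A).apply_symm_apply a
      rw [h'] at h
      exact h
    have h2 : CohUtil.HU0equiv F (A ⊓ B) (CohTop.res F 0 (inf_le_right : A ⊓ B ≤ B)
        ((CohUtil.HU0equiv F B).symm b)) =
        (F.obj.map (homOfLE (inf_le_right : A ⊓ B ≤ B)).op).hom b := by
      have h := Groth.Agent.Helper3.H0Iso.compEquiv_naturality (Opens.grothendieckTopology X) F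
        (homOfLE (inf_le_right : A ⊓ B ≤ B)) ((CohUtil.HU0equiv F B).symm b)
      have h' : Groth.Agent.Helper3.H0Iso.compEquiv (Opens.grothendieckTopology X) F B
          ((CohUtil.HU0equiv F B).symm b) = b := (CohUtil.HU0equiv F B).apply_symm_apply b
      rw [h'] at h
      exact h
    have he : e = CohTop.res F 0 (inf_le_left : A ⊓ B ≤ A) ((CohUtil.HU0equiv F A).symm a) +
        CohTop.res F 0 (inf_le_right : A ⊓ B ≤ B) ((CohUtil.HU0equiv F B).symm b) := by
      apply (CohUtil.HU0equiv F (A ⊓ B)).injective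
      rw [map_add, h1, h2]
      exact hab
    rw [he, map_add, Groth.Agent.Helper3.MVel.δ_res, δ_res_right, add_zero]
  exact ⟨fun x y => (key x).trans (key y).symm⟩

end Groth.Agent.Helper1.MVsurj
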