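import Mathlib
import Groth.Prelude.Def_DeltaF
import Groth.Prelude.Def_RDerDelta
import Groth.Agent.S16463

/-!
# The low-degree exact sequence of a composite of left exact functors

`0 → R¹F(G M) → R¹(G ⋙ F)(M) → F(R¹G M) → 0` when `R²F(G M) = 0` and `G` sends injectives to
`F`-acyclic objects.
-/

set_option autoImplicit false
universe v v' v'' u u' u''
open CategoryTheory CategoryTheory.Limits

namespace Groth.Agent.Helper1.LowDeg

section One

variable {C : Type u} [Category.{v} C] [Abelian C] {D : Type u'} [Category.{v'} D] [Abelian D]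
  [HasInjectiveResolutions C] (Φ : C ⥤ D) [Φ.Additive] [PreservesFiniteLimits Φ]
  (Δ : RDer.DerivedLES Φ) {X₁ X₂ X₃ : C} (f : X₁ ⟶ X₂) (g : X₂ ⟶ X₃) (w : f ≫ g = 0)
  (hS : (ShortComplex.mk f g w).ShortExact)

/-- the connecting map `Φ X₃ ⟶ R¹Φ X₁` -/
noncomputable def d : Φ.obj X₃ ⟶ (Φ.rightDerived 1).obj X₁ :=
  Φ.rightDerivedZeroIsoSelf.inv.app X₃ ≫ Δ.δ (ShortComplex.mk f g w) hS 0 1 rfl

theorem map_g_d : Φ.map g ≫ d Φ Δ f g w hS = 0 := by
  unfold d
  have h1 := Φ.rightDerivedZeroIsoSelf.inv.naturality g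
  have h2 := Δ.comp_δ (ShortComplex.mk f g w) hS 0 1 rfl
  dsimp at h1 h2
  rw [← Category.assoc, h1, Category.assoc, h2, comp_zero]

theorem exact_d : (ShortComplex.mk (Φ.map g) (d Φ Δ f g w hS) (map_g_d Φ Δ f g w hS)).Exact := by
  have h := Δ.exact₃ (ShortComplex.mk f g w) hS 0 1 rfl
  refine (ShortComplex.exact_iff_of_iso ?_).1 h
  refine ShortComplex.isoMk (Φ.rightDerivedZeroIsoSelf.app X₂) (Φ.rightDerivedZeroIsoSelf.app X₃)
    (Iso.refl _) ?_ ?_
  · exact (Φ.rightDerivedZeroIsoSelf.hom.naturality g).symm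
  · dsimp [d]
    rw [Iso.hom_inv_id_app_assoc, Category.comp_id]

theorem epi_d (hz : IsZero ((Φ.rightDerived 1).obj X₂)) : Epi (d Φ Δ f g w hS) := by
  haveI : Epi (Δ.δ (ShortComplex.mk f g w) hS 0 1 rfl) :=
    (Δ.exact₁ (ShortComplex.mk f g w) hS 0 1 rfl).epi_f (hz.eq_of_tgt _ _)
  unfold d
  infer_instance

include Δ hS in
/-- `R¹Φ X₁` is the cokernel of `Φ X₂ ⟶ Φ X₃` when `R¹Φ X₂ = 0` -/
theorem nonempty_cokernel_iso (hz : IsZero ((Φ.rightDerived 1).obj X₂)) :
    Nonempty (cokernel (Φ.map g) ≅ (Φ.rightDerived 1).obj X₁) := by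
  haveI := epi_d Φ Δ f g w hS hz
  have hc := (exact_d Φ Δ f g w hS).gIsCokernel
  exact ⟨(cokernelIsCokernel (Φ.map g)).coconePointUniqueUpToIso hc⟩

include Δ hS in
theorem epi_map_g (hz : IsZero ((Φ.rightDerived 1).obj X₁)) : Epi (Φ.map g) := by
  haveI : Epi ((Φ.rightDerived 0).map g) :=
    (Δ.exact₃ (ShortComplex.mk f g w) hS 0 1 rfl).epi_f (hz.eq_of_tgt _ _)
  have h : Φ.map g = (Φ.rightDerivedZeroIsoSelf.inv.app X₂ ≫ (Φ.rightDerived 0).map g) ≫
      Φ.rightDerivedZeroIsoSelf.hom.app X₃ := by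
    rw [← Φ.rightDerivedZeroIsoSelf.inv.naturality g, Category.assoc, Iso.inv_hom_id_app,
      Category.comp_id]
  rw [h]
  infer_instance

include Δ hS in
theorem shortExact_map (hz : IsZero ((Φ.rightDerived 1).obj X₁)) :
    (ShortComplex.mk (Φ.map f) (Φ.map g)
      (by rw [← Φ.map_comp, w, Φ.map_zero])).ShortExact := by
  haveI : Mono f := hS.mono_f
  haveI : Mono (Φ.map f) := inferInstance
  haveI : Epi (Φ.map g) := epi_map_g Φ Δ f g w hS hz
  have hex : ((ShortComplex.mk f g w).map Φ).Exact :=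
    hS.exact.map_of_mono_of_preservesKernel Φ hS.mono_f inferInstance
  exact ShortComplex.ShortExact.mk' hex ‹_› ‹_›

include Δ hS in
theorem isZero_R1_X₃ (h1 : IsZero ((Φ.rightDerived 1).obj X₂))
    (h2 : IsZero ((Φ.rightDerived 2).obj X₁)) : IsZero ((Φ.rightDerived 1).obj X₃) :=
  (Δ.exact₃ (ShortComplex.mk f g w) hS 1 2 rfl).isZero_of_both_zeros (h1.eq_of_src _ _)
    (h2.eq_of_tgt _ _)

end One

section Coker

variable {E : Type u} [Category.{v} E] [Abelian E] {P N Q : E} (a : P ⟶ N) (b : N ⟶ Q)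

/-- for `b` mono: `0 → coker a → coker (a ≫ b) → coker b → 0` -/
theorem exists_shortExact_cokernel [Mono b] :
    (kernelCokernelCompSequence.snakeInput a b).L₃.ShortExact := by
  have hex := (kernelCokernelCompSequence.snakeInput a b).L₃_exact
  haveI : Epi (kernelCokernelCompSequence.snakeInput a b).L₂.g :=
    inferInstanceAs (Epi (biprod.snd : N ⊞ Q ⟶ Q))
  haveI : Epi (kernelCokernelCompSequence.snakeInput a b).L₃.g :=
    (kernelCokernelCompSequence.snakeInput a b).epi_L₃_g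
  have hk : IsZero (kernelCokernelCompSequence.snakeInput a b).L₀.X₃ :=
    isZero_kernel_of_mono b
  haveI : Mono (kernelCokernelCompSequence.snakeInput a b).L₃.f :=
    (kernelCokernelCompSequence.snakeInput a b).L₂'_exact.mono_g (hk.eq_of_src _ _)
  exact ShortComplex.ShortExact.mk' hex ‹_› ‹_›

end Coker

section Main

variable {C : Type u} [Category.{v} C] [Abelian C] {D : Type u'} [Category.{v'} D] [Abelian D]
  {E : Type u''} [Category.{v''} E] [Abelian E]
  [HasInjectiveResolutions C] [HasInjectiveResolutions D] [EnoughInjectives C] [EnoughInjectives D]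
  (G : C ⥤ D) [G.Additive] [PreservesFiniteLimits G]
  (F : D ⥤ E) [F.Additive] [PreservesFiniteLimits F]

omit [HasInjectiveResolutions C] [HasInjectiveResolutions D] [EnoughInjectives C]
  [EnoughInjectives D] [PreservesFiniteLimits G] in
theorem zero_left {X₁ X₂ X₃ : C} (f : X₁ ⟶ X₂) (g : X₂ ⟶ X₃) (w : f ≫ g = 0) :
    G.map f ≫ Abelian.factorThruImage (G.map g) = 0 := by
  rw [← cancel_mono (Abelian.image.ι (G.map g)), Category.assoc, Abelian.image.fac,
    zero_comp, ← G.map_comp, w, G.map_zero]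

/-- the two short exact sequences obtained by factoring `G X₂ ⟶ G X₃` through its image -/
theorem shortExact_left {X₁ X₂ X₃ : C} (f : X₁ ⟶ X₂) (g : X₂ ⟶ X₃) (w : f ≫ g = 0)
    (hS : (ShortComplex.mk f g w).ShortExact) :
    (ShortComplex.mk (G.map f) (Abelian.factorThruImage (G.map g))
      (zero_left G f g w)).ShortExact := by
  haveI : Mono f := hS.mono_f
  haveI : Mono (G.map f) := inferInstance
  have hex : ((ShortComplex.mk f g w).map G).Exact :=
    hS.exact.map_of_mono_of_preservesKernel G hS.mono_f inferInstance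
  refine ShortComplex.ShortExact.mk' ?_ ‹_› (by dsimp; infer_instance)
  let φ : ShortComplex.mk (G.map f) (Abelian.factorThruImage (G.map g)) (zero_left G f g w) ⟶
      (ShortComplex.mk f g w).map G :=
    { τ₁ := 𝟙 _
      τ₂ := 𝟙 _
      τ₃ := Abelian.image.ι (G.map g)
      comm₁₂ := by
        show 𝟙 _ ≫ G.map f = G.map f ≫ 𝟙 _
        rw [Category.id_comp, Category.comp_id]
      comm₂₃ := by
        show 𝟙 _ ≫ G.map g = Abelian.factorThruImage (G.map g) ≫ Abelian.image.ι (G.map g)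
        rw [Abelian.image.fac, Category.id_comp] }
  haveI : Epi φ.τ₁ := inferInstanceAs (Epi (𝟙 _))
  haveI : IsIso φ.τ₂ := inferInstanceAs (IsIso (𝟙 _))
  haveI : Mono φ.τ₃ := inferInstanceAs (Mono (Abelian.image.ι (G.map g)))
  exact (ShortComplex.exact_iff_of_epi_of_isIso_of_mono φ).2 hex

theorem shortExact_right {Y Z : D} (p : Y ⟶ Z) :
    (ShortComplex.mk (Abelian.image.ι p) (cokernel.π p) (by simp)).ShortExact :=
  ShortComplex.ShortExact.mk' (ShortComplex.exact_kernel (cokernel.π p))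
    (by dsimp; infer_instance) (by dsimp; infer_instance)

/-- **the low-degree exact sequence** -/
theorem main
    (hacyc : ∀ I : C, Injective I → ∀ q : ℕ, 0 < q →
      IsZero ((F.rightDerived q).obj (G.obj I)))
    (M : C) (h2 : IsZero ((F.rightDerived 2).obj (G.obj M))) :
    ∃ S : ShortComplex E, S.ShortExact ∧
      Nonempty (S.X₁ ≅ (F.rightDerived 1).obj (G.obj M)) ∧
      Nonempty (S.X₂ ≅ ((G ⋙ F).rightDerived 1).obj M) ∧
      Nonempty (S.X₃ ≅ F.obj ((G.rightDerived 1).obj M)) := by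
  obtain ⟨ΔG⟩ := Groth.Agent.S16463.result G
  obtain ⟨ΔF⟩ := Groth.Agent.S16463.result F
  obtain ⟨ΔGF⟩ := Groth.Agent.S16463.result (G ⋙ F)
  obtain ⟨I, hI, i, hi⟩ : ∃ (I : C) (_ : Injective I) (i : M ⟶ I), Mono i :=
    ⟨Injective.under M, inferInstance, Injective.ι M, inferInstance⟩
  have hS0 : (ShortComplex.mk i (cokernel.π i) (cokernel.condition i)).ShortExact :=
    ShortComplex.ShortExact.mk' (ShortComplex.exact_cokernel i) hi (by dsimp; infer_instance)
  have hGI : IsZero ((G.rightDerived 1).obj I) :=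
    Functor.isZero_rightDerived_obj_injective_succ G 0 I
  have hGFI : IsZero (((G ⋙ F).rightDerived 1).obj I) :=
    Functor.isZero_rightDerived_obj_injective_succ (G ⋙ F) 0 I
  have hFGI : ∀ q : ℕ, 0 < q → IsZero ((F.rightDerived q).obj (G.obj I)) := hacyc I hI
  -- the three cokernel descriptions
  obtain ⟨eG⟩ := nonempty_cokernel_iso G ΔG i (cokernel.π i) (cokernel.condition i) hS0 hGI
  obtain ⟨eGF⟩ := nonempty_cokernel_iso (G ⋙ F) ΔGF i (cokernel.π i) (cokernel.condition i)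
    hS0 hGFI
  have hS1 := shortExact_left G i (cokernel.π i) (cokernel.condition i) hS0
  have hS2 := shortExact_right (G.map (cokernel.π i))
  obtain ⟨eF⟩ := nonempty_cokernel_iso F ΔF _ _ _ hS1 (hFGI 1 Nat.one_pos)
  have hK : IsZero ((F.rightDerived 1).obj (Abelian.image (G.map (cokernel.π i)))) :=
    isZero_R1_X₃ F ΔF _ _ _ hS1 (hFGI 1 Nat.one_pos) h2
  have hS2F := shortExact_map F ΔF _ _ _ hS2 hK
  haveI : Mono (F.map (Abelian.image.ι (G.map (cokernel.π i)))) := hS2F.mono_f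
  haveI : Epi (F.map (cokernel.π (G.map (cokernel.π i)))) := hS2F.epi_g
  have hc := hS2F.exact.gIsCokernel
  have e3 : cokernel (F.map (Abelian.image.ι (G.map (cokernel.π i)))) ≅
      F.obj (cokernel (G.map (cokernel.π i))) :=
    (cokernelIsCokernel _).coconePointUniqueUpToIso hc
  have hcomp : F.map (Abelian.factorThruImage (G.map (cokernel.π i))) ≫
      F.map (Abelian.image.ι (G.map (cokernel.π i))) = (G ⋙ F).map (cokernel.π i) := by
    rw [← F.map_comp, Abelian.image.fac]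
    rfl
  refine ⟨_, exists_shortExact_cokernel
    (F.map (Abelian.factorThruImage (G.map (cokernel.π i))))
    (F.map (Abelian.image.ι (G.map (cokernel.π i)))), ⟨eF⟩,
    ⟨cokernelIsoOfEq hcomp ≪≫ eGF⟩, ⟨e3 ≪≫ F.mapIso eG⟩⟩

end Main

end Groth.Agent.Helper1.LowDeg
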