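import Mathlib
import Groth.Agent.Lib.Helper1.CovVan
import Groth.Agent.Lib.Helper1.CohUtil

/-!
# Quasi-coherent cohomology vanishes in large degrees on a quasi-compact separated scheme
(copy of `CohDim.exists_bound` with light imports)
-/

set_option autoImplicit false
universe u
open CategoryTheory CategoryTheory.Limits AlgebraicGeometry TopologicalSpace Opposite

namespace Groth.Agent.Helper1.CohDimB

open Groth.Agent.Helper1

variable {X : Scheme.{u}}

/-- on a quasi-compact separated scheme the cohomology of quasi-coherent modules vanishes in large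
degrees -/
theorem exists_bound [CompactSpace X] [X.IsSeparated] :
    ∃ D : ℕ, ∀ (M : X.Modules) [M.IsQuasicoherent] (n : ℕ), D < n → Subsingleton (Coh.HH X M n) := by
  classical
  obtain ⟨s, hs⟩ := isCompact_univ.elim_finite_subcover
    (fun i : X.affineOpens => (i.1 : Set X)) (fun i => i.1.2) (by
      intro x _
      obtain ⟨_, ⟨W, hW, rfl⟩, hxW, -⟩ := X.isBasis_affineOpens.exists_subset_of_mem_open
        (Set.mem_univ x) isOpen_univ
      exact Set.mem_iUnion.2 ⟨⟨W, hW⟩, hxW⟩)
  haveI : IsAffineHom (pullback.diagonal (terminal.from X)) := by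
    haveI : IsSeparated (terminal.from X) := Scheme.IsSeparated.isSeparated_terminal_from
    infer_instance
  let e := s.equivFin
  let U : Fin (s.card + 1) → X.Opens :=
    Fin.lastCases ⊥ (fun i => (e.symm i).1.1)
  have hUaff : ∀ i, IsAffineOpen (U i) := by
    intro i
    refine Fin.lastCases ?_ (fun j => ?_) i
    · simp only [U, Fin.lastCases_last]
      exact isAffineOpen_bot X
    · simp only [U, Fin.lastCases_castSucc]
      exact (e.symm j).1.2
  have hUtop : ⨆ i, U i = ⊤ := by
    apply le_antisymm le_top
    intro x _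
    obtain ⟨i, hi, hxi⟩ := Set.mem_iUnion₂.1 (hs (Set.mem_univ x))
    refine Opens.mem_iSup.2 ⟨Fin.castSucc (e ⟨i, hi⟩), ?_⟩
    simp only [U, Fin.lastCases_castSucc, Equiv.symm_apply_apply]
    exact hxi
  refine ⟨s.card, fun M _ n hn => ?_⟩
  have h := CovVan.van_of_cover M {V | IsAffineOpen V} (fun V hV => hV)
    (fun V hV V' hV' => IsAffineOpen.inf hV hV') s.card U hUaff n (by omega)
  rw [hUtop] at h
  exact (CohUtil.HHequivHU M n).toEquiv.subsingleton

end Groth.Agent.Helper1.CohDimB
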