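import Mathlib
import Groth.Prelude.Def_ega3
import Groth.Agent.Lib.Helper4.RpushTilde1
import Groth.Agent.Lib.Helper3.EdgeMod2
import Groth.Agent.Lib.Helper1.DeltaComp

/-!
# The derived functors of `Γ(X, -)` with values in `A`-modules are the cohomology modules
-/

set_option backward.isDefEq.respectTransparency.types false
set_option synthInstance.maxHeartbeats 400000
set_option autoImplicit false
universe u
open CategoryTheory CategoryTheory.Limits AlgebraicGeometry TopologicalSpace Opposite DeltaF
open Groth.Agent.Lib.Helper4.DeltaNat1 Groth.Agent.Lib.Helper4.HModDelta1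

namespace Groth.Agent.Helper1.GammaDer

section
variable (A : Type u) [CommRing A] (X : Scheme.{u}) [X.Over (Spec (CommRingCat.of A))]

instance additive_gs : (CohIII.globalSectionsA (X := X) A).Additive := by
  unfold CohIII.globalSectionsA
  haveI : (moduleSpecΓFunctor (R := CommRingCat.of A)).Additive :=
    (tilde.adjunction (R := CommRingCat.of A)).right_adjoint_additive
  infer_instance

instance pfl_gs : PreservesFiniteLimits (CohIII.globalSectionsA (X := X) A) := by
  unfold CohIII.globalSectionsA
  haveI : PreservesLimits (moduleSpecΓFunctor (R := CommRingCat.of A)) :=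
    (tilde.adjunction (R := CommRingCat.of A)).rightAdjoint_preservesLimits
  infer_instance

variable [HasInjectiveResolutions X.Modules]

/-- the derived δ-functor of global sections -/
noncomputable def Δ : RDer.DerivedLES (CohIII.globalSectionsA (X := X) A) :=
  haveI : EnoughInjectives X.Modules :=
    Groth.Agent.Helper1.DeltaComp.enoughInjectives_of_hasInjectiveResolutions
  (Groth.Agent.S16463.result _).some

/-- the derived functors of global sections, as a δ-functor -/
noncomputable def T₁ : CohDeltaFunctor X.Modules (ModuleCat.{u} A) ℕ :=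
  Groth.Agent.Helper1.DeltaComp.pre (𝟭 X.Modules) (Δ A X)

theorem T₁_eff : (T₁ A X).IsEffaceable := by
  haveI : EnoughInjectives X.Modules :=
    Groth.Agent.Helper1.DeltaComp.enoughInjectives_of_hasInjectiveResolutions
  intro n M
  refine ⟨Injective.under M, Injective.ι M, inferInstance, ?_⟩
  have hz : IsZero (((CohIII.globalSectionsA (X := X) A).rightDerived (n + 1)).obj
      (Injective.under M)) :=
    Functor.isZero_rightDerived_obj_injective_succ _ n _
  exact hz.eq_of_tgt _ _

theorem TH_eff : (TH A X).IsEffaceable := by
  haveI : EnoughInjectives X.Modules :=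
    Groth.Agent.Helper1.DeltaComp.enoughInjectives_of_hasInjectiveResolutions
  intro n M
  refine ⟨Injective.under M, Injective.ι M, inferInstance, ?_⟩
  have hs : Subsingleton (Coh.HH X (Injective.under M) (n + 1)) :=
    Groth.Agent.Helper3.EdgeMod.subsingleton_H_of_injective _ n
  have hz : IsZero ((HModF A X (n + 1)).obj (Injective.under M)) :=
    @ModuleCat.isZero_of_subsingleton _ _ _ hs
  exact hz.eq_of_tgt _ _

/-- **`Rⁿ Γ(X, -) ≅ Hⁿ(X, -)` as functors to `A`-modules** -/
noncomputable def gammaDerivedIso (n : ℕ) :
    (CohIII.globalSectionsA (X := X) A).rightDerived n ≅ HModF A X n :=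
  (Functor.leftUnitor _).symm ≪≫
    isoOfEffaceable (T₁ A X) (TH A X) (T₁_eff A X) (TH_eff A X)
      (Functor.leftUnitor _ ≪≫ (CohIII.globalSectionsA (X := X) A).rightDerivedZeroIsoSelf ≪≫
        Groth.Agent.Lib.Helper4.RpushTilde1.gsIsoL A X) n

/-- direct images of injective modules are acyclic for global sections -/
theorem hT {Y : Scheme.{u}} (f : Y ⟶ X) (Q : Y.Modules) (hQ : Injective Q) (q : ℕ) (hq : 0 < q) :
    IsZero (((CohIII.globalSectionsA (X := X) A).rightDerived q).obj
      ((Scheme.Modules.pushforward f).obj Q)) := by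
  obtain ⟨m, rfl⟩ : ∃ m, q = m + 1 := ⟨q - 1, by omega⟩
  refine IsZero.of_iso ?_ ((gammaDerivedIso A X (m + 1)).app _)
  have hs : Subsingleton (Coh.HH X ((Scheme.Modules.pushforward f).obj Q) (m + 1)) :=
    Groth.Agent.Helper3.EdgeMod.subsingleton_H_push_of_injective f Q m
  exact @ModuleCat.isZero_of_subsingleton _ _ _ hs

end

end Groth.Agent.Helper1.GammaDer
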