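import Mathlib
import Groth.Prelude.Def_SpSeq
import Groth.Agent.Lib.Helper1.SpSeqL
import Groth.Agent.Lib.Helper3.SpSerre1

/-!
# Euler characteristics and spectral sequences

For a weak Serre class `P` of an abelian category and a function `χ` additive on short exact
sequences with terms in `P`, the alternating sum of `χ` over a page of a spectral sequence with
finitely many nonzero terms, all in `P`, equals the alternating sum of `χ` over the abutment.
-/

set_option autoImplicit false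
universe v u
open CategoryTheory CategoryTheory.Limits

namespace Groth.Agent.Helper1.SpEuler

open Groth.Agent.Helper1 Groth.Agent.Helper3

variable {C : Type u} [Category.{v} C] [Abelian C]

theorem isZero_of_eq_bot {X : C} (S : Subobject X) (h : S = ⊥) : IsZero (S : C) := by
  subst h
  exact (isZero_zero C).of_iso Subobject.botCoeIsoZero

section Class

variable (P : ObjectProperty C) [P.IsClosedUnderIsomorphisms] (χ : C → ℤ)
  (hzero : ∀ X : C, IsZero X → P X)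
  (hker : ∀ {X Y : C} (f : X ⟶ Y), P X → P Y → P (kernel f))
  (hcoker : ∀ {X Y : C} (f : X ⟶ Y), P X → P Y → P (cokernel f))
  (hext : ∀ S : ShortComplex C, S.ShortExact → P S.X₁ → P S.X₃ → P S.X₂)
  (χzero : ∀ X : C, IsZero X → χ X = 0)
  (χiso : ∀ {X Y : C}, (X ≅ Y) → χ X = χ Y)
  (χadd : ∀ S : ShortComplex C, S.ShortExact → P S.X₁ → P S.X₃ → χ S.X₂ = χ S.X₁ + χ S.X₃)

include χiso in
theorem chi_of_eq_top {X : C} (S : Subobject X) (h : S = ⊤) : χ (S : C) = χ X := by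
  subst h
  exact χiso (asIso (⊤ : Subobject X).arrow)

theorem chi_kernel_d_congr {ι : Type*} {c : ComplexShape ι} (K : HomologicalComplex C c)
    (x y y' : ι) (h : y = y') : χ (kernel (K.d x y)) = χ (kernel (K.d x y')) := by
  subst h
  rfl

include hker hcoker χiso χadd in
theorem chi_four {A B : C} (h : A ⟶ B) (hA : P A) (hB : P B) :
    χ A + χ (cokernel h) = χ B + χ (kernel h) := by
  have hk : P (kernel h) := hker h hA hB
  have hc : P (cokernel h) := hcoker h hA hB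
  have hco : P (cokernel (kernel.ι h)) := hcoker _ hk hA
  have him : P (kernel (cokernel.π h)) := hker _ hB hc
  have hS1 : (ShortComplex.mk (kernel.ι h) (cokernel.π (kernel.ι h))
      (cokernel.condition _)).ShortExact :=
    { exact := ShortComplex.exact_cokernel _
      mono_f := inferInstanceAs (Mono (kernel.ι h))
      epi_g := inferInstanceAs (Epi (cokernel.π (kernel.ι h))) }
  have hS2 : (ShortComplex.mk (kernel.ι (cokernel.π h)) (cokernel.π h)
      (kernel.condition _)).ShortExact :=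
    { exact := ShortComplex.exact_kernel _
      mono_f := inferInstanceAs (Mono (kernel.ι (cokernel.π h)))
      epi_g := inferInstanceAs (Epi (cokernel.π h)) }
  have e1 : χ A = χ (kernel h) + χ (cokernel (kernel.ι h)) := χadd _ hS1 hk hco
  have e2 : χ B = χ (kernel (cokernel.π h)) + χ (cokernel h) := χadd _ hS2 him hc
  have e3 : χ (cokernel (kernel.ι h)) = χ (kernel (cokernel.π h)) :=
    χiso (Abelian.coimageIsoImage h)
  omega

include hker hcoker χiso χadd in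
theorem chi_homology (S : ShortComplex C) (h₁ : P S.X₁) (h₂ : P S.X₂) (h₃ : P S.X₃) :
    χ S.homology = χ (kernel S.g) - χ S.X₁ + χ (kernel S.f) := by
  have hk : P (kernel S.g) := hker S.g h₂ h₃
  have hc : P S.cycles := P.prop_of_iso S.cyclesIsoKernel.symm hk
  have e : cokernel S.toCycles ≅ S.homology :=
    IsColimit.coconePointUniqueUpToIso (colimit.isColimit _) S.homologyIsCokernel
  have h4 := chi_four P χ hker hcoker χiso χadd S.toCycles h₁ hc
  have e5 : kernel S.toCycles ≅ kernel S.f :=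
    (kernelCompMono S.toCycles S.iCycles).symm ≪≫ kernelIsoOfEq S.toCycles_i
  have e6 : χ S.cycles = χ (kernel S.g) := χiso S.cyclesIsoKernel
  have e7 : χ (cokernel S.toCycles) = χ S.homology := χiso e
  have e8 : χ (kernel S.toCycles) = χ (kernel S.f) := χiso e5
  omega

include hzero hext χzero χiso χadd in
/-- `χ` of an object with a finite filtration is the sum of `χ` of the graded pieces -/
theorem chi_of_finite_gr (L : SpSeq.FilObj C) (hL : L.IsFinite) (hgr : ∀ p : ℤ, P (L.gr p))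
    (s : Finset ℤ) (hs : ∀ p, p ∉ s → χ (L.gr p) = 0) :
    χ L.obj = ∑ᶠ p : ℤ, χ (L.gr p) := by
  classical
  obtain ⟨⟨a, ha⟩, ⟨b, hb⟩⟩ := hL
  obtain ⟨lo, hlo⟩ := s.bddBelow
  obtain ⟨hi, hhi⟩ := s.bddAbove
  obtain ⟨a', ha'1, ha'2⟩ : ∃ a', a' ≤ a ∧ a' ≤ lo := ⟨min a lo, min_le_left _ _, min_le_right _ _⟩
  obtain ⟨b', hb'1, hb'2⟩ : ∃ b', b ≤ b' ∧ hi < b' :=
    ⟨max b (hi + 1), le_max_left _ _, by have := le_max_right b (hi + 1); omega⟩
  have hta : L.fil a' = ⊤ := top_le_iff.1 (ha ▸ L.anti ha'1)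
  have hbb : L.fil b' = ⊥ := le_bot_iff.1 (hb ▸ L.anti hb'1)
  have step : ∀ k : ℕ, P (L.step (b' - k)) ∧
      χ (L.step (b' - k)) = ∑ j ∈ Finset.range k, χ (L.gr (b' - 1 - j)) := by
    intro k
    induction k with
    | zero =>
      have h0 : L.fil (b' - ((0 : ℕ) : ℤ)) = ⊥ := by simpa using hbb
      have hz : IsZero (L.step (b' - ((0 : ℕ) : ℤ))) := isZero_of_eq_bot _ h0
      exact ⟨hzero _ hz, by rw [χzero _ hz, Finset.range_zero, Finset.sum_empty]⟩
    | succ k ih =>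
      have e : b' - ((k + 1 : ℕ) : ℤ) + 1 = b' - k := by push_cast; ring
      obtain ⟨q, hq⟩ : ∃ q : ℤ, q = b' - ((k + 1 : ℕ) : ℤ) := ⟨_, rfl⟩
      rw [← hq]
      have e' : q + 1 = b' - k := by rw [hq]; exact e
      let S : ShortComplex C := ShortComplex.mk
        ((L.fil (q + 1)).ofLE (L.fil q) (L.anti (Int.le_add_one le_rfl)))
        (cokernel.π _) (cokernel.condition _)
      have hS : S.ShortExact :=
        { exact := ShortComplex.exact_cokernel _
          mono_f := inferInstanceAs (Mono ((L.fil (q + 1)).ofLE (L.fil q) _))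
          epi_g := inferInstanceAs (Epi (cokernel.π _)) }
      have h1 : P (L.step (q + 1)) ∧
          χ (L.step (q + 1)) = ∑ j ∈ Finset.range k, χ (L.gr (b' - 1 - j)) := by
        rw [e']
        exact ih
      refine ⟨hext S hS h1.1 (hgr q), ?_⟩
      have h2 : χ (L.step q) = χ (L.step (q + 1)) + χ (L.gr q) := χadd S hS h1.1 (hgr q)
      rw [h2, h1.2, Finset.sum_range_succ]
      have h3 : b' - 1 - (k : ℤ) = q := by rw [hq]; push_cast; ring
      rw [h3]
  obtain ⟨N, hN⟩ : ∃ N : ℕ, N = (b' - a').toNat := ⟨_, rfl⟩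
  have htop : L.fil (b' - (N : ℤ)) = ⊤ :=
    top_le_iff.1 (hta ▸ L.anti (show b' - (N : ℤ) ≤ a' by omega))
  have h := (step N).2
  have h' : χ L.obj = ∑ j ∈ Finset.range N, χ (L.gr (b' - 1 - j)) :=
    (chi_of_eq_top χ χiso (L.fil (b' - (N : ℤ))) htop).symm.trans h
  rw [h']
  symm
  rw [finsum_eq_sum_of_support_subset (s := (Finset.range N).image (fun j : ℕ => b' - 1 - (j : ℤ)))]
  · rw [Finset.sum_image]
    intro x _ y _ hxy
    have hxy' : b' - 1 - (x : ℤ) = b' - 1 - (y : ℤ) := hxy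
    omega
  · intro p hp
    have hps : p ∈ s := by
      by_contra hn
      exact hp (hs p hn)
    have h1 : lo ≤ p := hlo hps
    have h2 : p ≤ hi := hhi hps
    rw [Finset.mem_coe, Finset.mem_image]
    exact ⟨(b' - 1 - p).toNat, Finset.mem_range.2 (by omega), by omega⟩

end Class

section Pages

variable (P : ObjectProperty C) [P.IsClosedUnderIsomorphisms] (χ : C → ℤ)
  (hzero : ∀ X : C, IsZero X → P X)
  (hker : ∀ {X Y : C} (f : X ⟶ Y), P X → P Y → P (kernel f))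
  (hcoker : ∀ {X Y : C} (f : X ⟶ Y), P X → P Y → P (cokernel f))
  (hext : ∀ S : ShortComplex C, S.ShortExact → P S.X₁ → P S.X₃ → P S.X₂)
  (χzero : ∀ X : C, IsZero X → χ X = 0)
  (χiso : ∀ {X Y : C}, (X ≅ Y) → χ X = χ Y)
  (χadd : ∀ S : ShortComplex C, S.ShortExact → P S.X₁ → P S.X₃ → χ S.X₂ = χ S.X₁ + χ S.X₃)
  {r₀ : ℤ} (E : CohomologicalSpectralSequence C r₀)

/-- the sign `(-1)^(p+q)` -/
def sg (pq : ℤ × ℤ) : ℤ := ((pq.1 + pq.2).negOnePow : ℤ)

theorem sg_add (pq : ℤ × ℤ) (r : ℤ) : sg (pq + (r, 1 - r)) = - sg pq := by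
  unfold sg
  have h : (pq + (r, 1 - r)).1 + (pq + (r, 1 - r)).2 = (pq.1 + pq.2) + 1 := by
    simp only [Prod.fst_add, Prod.snd_add]
    ring
  rw [h, Int.negOnePow_succ, Units.val_neg]

theorem sg_sub (pq : ℤ × ℤ) (r : ℤ) : sg (pq - (r, 1 - r)) = - sg pq := by
  have h := sg_add (pq - (r, 1 - r)) r
  rw [sub_add_cancel] at h
  omega

theorem sg_natCast (p i : ℕ) : sg ((p : ℤ), (i : ℤ)) = (-1 : ℤ) ^ i * (-1 : ℤ) ^ p := by
  unfold sg
  simp only
  rw [Int.negOnePow_add, Units.val_mul, Int.coe_negOnePow_natCast, Int.coe_negOnePow_natCast,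
    mul_comm]

theorem sg_mk (p n : ℤ) : sg (p, n - p) = (n.negOnePow : ℤ) := by
  unfold sg
  simp only
  rw [add_sub_cancel]

/-- rank term of the differential leaving `x` -/
noncomputable def rho (r : ℤ) (hr : r₀ ≤ r) (x : ℤ × ℤ) : ℤ :=
  χ ((E.page r hr).X x) - χ (kernel ((E.page r hr).d x (x + (r, 1 - r))))

include χzero in
theorem rho_eq_zero (r : ℤ) (hr : r₀ ≤ r) (x : ℤ × ℤ) (h : IsZero ((E.page r hr).X x)) :
    rho χ E r hr x = 0 := by
  unfold rho
  rw [χzero _ h, χzero _ (IsZero.of_mono (kernel.ι _) h)]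
  rfl

include hker hcoker χiso χadd in
theorem chi_succ (r : ℤ) (hr : r₀ ≤ r) (hP : ∀ pq, P ((E.page r hr).X pq)) (pq : ℤ × ℤ) :
    χ ((E.page (r + 1) (by lia)).X pq) =
      χ ((E.page r hr).X pq) - rho χ E r hr pq - rho χ E r hr (pq - (r, 1 - r)) := by
  obtain ⟨e⟩ := SpSerre.nonempty_iso_sc' E r hr pq
  have h : χ ((E.page r hr).sc' (pq - (r, 1 - r)) pq (pq + (r, 1 - r))).homology =
      χ (kernel ((E.page r hr).d pq (pq + (r, 1 - r)))) - χ ((E.page r hr).X (pq - (r, 1 - r))) +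
        χ (kernel ((E.page r hr).d (pq - (r, 1 - r)) pq)) :=
    chi_homology P χ hker hcoker χiso χadd
      ((E.page r hr).sc' (pq - (r, 1 - r)) pq (pq + (r, 1 - r))) (hP _) (hP _) (hP _)
  have hc : χ (kernel ((E.page r hr).d (pq - (r, 1 - r)) (pq - (r, 1 - r) + (r, 1 - r)))) =
      χ (kernel ((E.page r hr).d (pq - (r, 1 - r)) pq)) :=
    chi_kernel_d_congr χ (E.page r hr) _ _ _ (sub_add_cancel _ _)
  rw [χiso e, h]
  unfold rho
  rw [hc]
  ring

include hker hcoker χzero χiso χadd in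
theorem pageChi_succ (r : ℤ) (hr : r₀ ≤ r) (B : Finset (ℤ × ℤ))
    (hP : ∀ pq, P ((E.page r hr).X pq)) (hB : ∀ pq, pq ∉ B → IsZero ((E.page r hr).X pq)) :
    ∑ᶠ pq : ℤ × ℤ, sg pq * χ ((E.page (r + 1) (by lia)).X pq) =
      ∑ᶠ pq : ℤ × ℤ, sg pq * χ ((E.page r hr).X pq) := by
  classical
  obtain ⟨A, hAdef⟩ : ∃ A : ℤ × ℤ → ℤ, A = fun pq => sg pq * χ ((E.page r hr).X pq) := ⟨_, rfl⟩
  obtain ⟨Bf, hBfdef⟩ : ∃ Bf : ℤ × ℤ → ℤ, Bf = fun pq => sg pq * rho χ E r hr pq := ⟨_, rfl⟩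
  have hterm : ∀ pq, sg pq * χ ((E.page (r + 1) (by lia)).X pq) =
      A pq - Bf pq + Bf (pq - (r, 1 - r)) := by
    intro pq
    rw [chi_succ P χ hker hcoker χiso χadd E r hr hP pq, hAdef, hBfdef]
    simp only
    rw [sg_sub]
    ring
  have hA0 : ∀ pq, pq ∉ B → A pq = 0 := by
    intro pq h
    rw [hAdef]
    simp only
    rw [χzero _ (hB pq h), mul_zero]
  have hBf0 : ∀ pq, pq ∉ B → Bf pq = 0 := by
    intro pq h
    rw [hBfdef]
    simp only
    rw [rho_eq_zero χ χzero E r hr pq (hB pq h), mul_zero]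
  have hBs0 : ∀ pq, pq ∉ B.image (fun x => x + (r, 1 - r)) → Bf (pq - (r, 1 - r)) = 0 := by
    intro pq h
    apply hBf0
    intro hmem
    exact h (Finset.mem_image.2 ⟨pq - (r, 1 - r), hmem, sub_add_cancel _ _⟩)
  obtain ⟨B', hB'⟩ : ∃ B' : Finset (ℤ × ℤ), B' = B ∪ B.image (fun x => x + (r, 1 - r)) :=
    ⟨_, rfl⟩
  have hsub1 : ∀ pq, pq ∉ B' → pq ∉ B := fun pq h hm =>
    h (hB' ▸ Finset.mem_union_left _ hm)
  have hsub2 : ∀ pq, pq ∉ B' → pq ∉ B.image (fun x => x + (r, 1 - r)) := fun pq h hm =>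
    h (hB' ▸ Finset.mem_union_right _ hm)
  have s1 : ∑ᶠ pq, A pq = ∑ pq ∈ B', A pq :=
    finsum_eq_sum_of_support_subset _ (Function.support_subset_iff'.2
      (fun pq h => hA0 pq (hsub1 pq (by simpa using h))))
  have s2 : ∑ᶠ pq, Bf pq = ∑ pq ∈ B', Bf pq :=
    finsum_eq_sum_of_support_subset _ (Function.support_subset_iff'.2
      (fun pq h => hBf0 pq (hsub1 pq (by simpa using h))))
  have s3 : ∑ᶠ pq, Bf (pq - (r, 1 - r)) = ∑ pq ∈ B', Bf (pq - (r, 1 - r)) :=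
    finsum_eq_sum_of_support_subset _ (Function.support_subset_iff'.2
      (fun pq h => hBs0 pq (hsub2 pq (by simpa using h))))
  have s4 : ∑ᶠ pq, (A pq - Bf pq + Bf (pq - (r, 1 - r))) =
      ∑ pq ∈ B', (A pq - Bf pq + Bf (pq - (r, 1 - r))) :=
    finsum_eq_sum_of_support_subset _ (Function.support_subset_iff'.2
      (fun pq h => by
        have h' : pq ∉ B' := by simpa using h
        rw [hA0 pq (hsub1 pq h'), hBf0 pq (hsub1 pq h'), hBs0 pq (hsub2 pq h')]
        ring))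
  have s5 : ∑ᶠ pq, Bf (pq - (r, 1 - r)) = ∑ᶠ pq, Bf pq :=
    finsum_comp_equiv (Equiv.subRight (r, 1 - r)) (f := Bf)
  have s6 : ∑ᶠ pq, A pq = ∑ᶠ pq : ℤ × ℤ, sg pq * χ ((E.page r hr).X pq) := by
    rw [hAdef]
  rw [finsum_congr hterm, s4, Finset.sum_add_distrib, Finset.sum_sub_distrib, ← s1, ← s2, ← s3,
    s5, s6]
  ring

include hker hcoker χzero χiso χadd in
theorem pages (r₁ : ℤ) (hr₁ : r₀ ≤ r₁) (B : Finset (ℤ × ℤ))
    (hP : ∀ pq, P ((E.page r₁ hr₁).X pq)) (hB : ∀ pq, pq ∉ B → IsZero ((E.page r₁ hr₁).X pq)) :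
    ∀ (k : ℤ) (hk : r₁ ≤ k), (∀ pq, P ((E.page k (hr₁.trans hk)).X pq)) ∧
      ∑ᶠ pq : ℤ × ℤ, sg pq * χ ((E.page k (hr₁.trans hk)).X pq) =
        ∑ᶠ pq : ℤ × ℤ, sg pq * χ ((E.page r₁ hr₁).X pq) := by
  intro k hk
  induction k, hk using Int.leInduction with
  | base => exact ⟨hP, rfl⟩
  | succ m hm ih =>
    obtain ⟨ihP, ihχ⟩ := ih
    have hBm : ∀ pq, pq ∉ B → IsZero ((E.page m (hr₁.trans hm)).X pq) := fun pq h =>
      SpSeqL.isZero_of_le E r₁ hr₁ pq (hB pq h) m hm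
    refine ⟨fun pq => ?_, ?_⟩
    · obtain ⟨e⟩ := SpSerre.nonempty_iso_sc' E m (hr₁.trans hm) pq
      exact P.prop_of_iso e.symm (SpSerre.prop_homology P hker hcoker _ (ihP _) (ihP _) (𝟙 _)
        (ihP _))
    · exact (pageChi_succ P χ hker hcoker χzero χiso χadd E m (hr₁.trans hm) B ihP hBm).trans ihχ

theorem chi_grPiece_congr {H : ℤ → C} (a : SpSeq.Abutment E H) (m n : ℤ) (h : m = n) (p : ℤ) :
    χ (SpSeq.grPiece (a.fil m) (a.anti m) p) = χ (SpSeq.grPiece (a.fil n) (a.anti n) p) := by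
  subst h
  rfl

/-- the reindexing `(n, p) ↦ (p, n - p)` -/
def reidx : ℤ × ℤ ≃ ℤ × ℤ where
  toFun np := (np.2, np.1 - np.2)
  invFun pq := (pq.1 + pq.2, pq.1)
  left_inv np := by
    ext
    · simp
    · simp
  right_inv pq := by
    ext
    · simp
    · simp

include hzero hker hcoker hext χzero χiso χadd in
/-- **Euler characteristics pass to the abutment.** -/
theorem main {H : ℤ → C} (a : SpSeq.Abutment E H) (hfin : ∀ n, a.IsFinite n) (r₁ : ℤ)
    (hr₁ : r₀ ≤ r₁) (B : Finset (ℤ × ℤ)) (hP : ∀ pq, P ((E.page r₁ hr₁).X pq))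
    (hB : ∀ pq, pq ∉ B → IsZero ((E.page r₁ hr₁).X pq)) :
    ∑ᶠ n : ℤ, (n.negOnePow : ℤ) * χ (H n) =
      ∑ᶠ pq : ℤ × ℤ, sg pq * χ ((E.page r₁ hr₁).X pq) := by
  classical
  obtain ⟨M, hM⟩ := (B.image a.rk).bddAbove
  obtain ⟨R, hR1, hR2⟩ : ∃ R, r₁ ≤ R ∧ ∀ pq ∈ B, a.rk pq ≤ R :=
    ⟨max r₁ M, le_max_left _ _, fun pq hpq =>
      (hM (Finset.mem_coe.2 (Finset.mem_image_of_mem _ hpq))).trans (le_max_right _ _)⟩
  have hpages := pages P χ hker hcoker χzero χiso χadd E r₁ hr₁ B hP hB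
  obtain ⟨hPR, hχR⟩ := hpages R hR1
  rw [← hχR]
  have hgrP : ∀ pq : ℤ × ℤ,
      P (SpSeq.grPiece (a.fil (pq.1 + pq.2)) (a.anti (pq.1 + pq.2)) pq.1) := by
    intro pq
    refine P.prop_of_iso (a.β pq) ?_
    rcases le_total r₁ (a.rk pq) with hle | hle
    · exact (hpages (a.rk pq) hle).1 pq
    · obtain ⟨e⟩ := SpSeqL.nonempty_iso_of_stationary E (a.rk pq) pq (a.stat pq) r₁ hle
      exact P.prop_of_iso e.symm (hP pq)
  have hgrχ : ∀ pq : ℤ × ℤ,
      χ (SpSeq.grPiece (a.fil (pq.1 + pq.2)) (a.anti (pq.1 + pq.2)) pq.1) =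
        χ ((E.page R (hr₁.trans hR1)).X pq) := by
    intro pq
    by_cases hpq : pq ∈ B
    · obtain ⟨e⟩ := SpSeqL.nonempty_iso_of_stationary E (a.rk pq) pq (a.stat pq) R (hR2 pq hpq)
      exact (χiso (a.β pq)).symm.trans (χiso e)
    · rw [χzero _ (SpSeqL.isZero_grPiece_of_isZero_page E a r₁ hr₁ pq (hB pq hpq)),
        χzero _ (SpSeqL.isZero_of_le E r₁ hr₁ pq (hB pq hpq) R hR1)]
  have hzR : ∀ pq, pq ∉ B → χ ((E.page R (hr₁.trans hR1)).X pq) = 0 := fun pq hpq =>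
    χzero _ (SpSeqL.isZero_of_le E r₁ hr₁ pq (hB pq hpq) R hR1)
  have hn : ∀ n : ℤ, χ (H n) = ∑ᶠ p : ℤ, χ ((E.page R (hr₁.trans hR1)).X (p, n - p)) := by
    intro n
    have hcongr : ∀ p, χ ((a.filObj n).gr p) = χ ((E.page R (hr₁.trans hR1)).X (p, n - p)) :=
      fun p => (chi_grPiece_congr χ E a (p + (n - p)) n (by ring) p).symm.trans (hgrχ (p, n - p))
    have hPn : ∀ p, P ((a.filObj n).gr p) := fun p =>
      SpSerre.prop_grPiece_congr P E a (p + (n - p)) n (by ring) p (hgrP (p, n - p))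
    have hs : ∀ p, p ∉ B.image Prod.fst → χ ((a.filObj n).gr p) = 0 := by
      intro p hp
      rw [hcongr p]
      apply hzR
      intro hmem
      exact hp (Finset.mem_image.2 ⟨(p, n - p), hmem, rfl⟩)
    have h0 := chi_of_finite_gr P χ hzero hext χzero χiso χadd (a.filObj n) (hfin n) hPn
      (B.image Prod.fst) hs
    exact h0.trans (finsum_congr hcongr)
  obtain ⟨G, hGdef⟩ : ∃ G : ℤ × ℤ → ℤ,
      G = fun pq => sg pq * χ ((E.page R (hr₁.trans hR1)).X pq) := ⟨_, rfl⟩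
  have hG0 : ∀ pq, pq ∉ B → G pq = 0 := by
    intro pq h
    rw [hGdef]
    simp only
    rw [hzR pq h, mul_zero]
  have hGe : (Function.support (fun np => G (reidx np))).Finite := by
    refine (B.image reidx.symm).finite_toSet.subset ?_
    intro np hnp
    rw [Finset.mem_coe, Finset.mem_image]
    refine ⟨reidx np, ?_, reidx.symm_apply_apply np⟩
    by_contra h
    exact hnp (hG0 _ h)
  have h1 : ∀ n : ℤ, (n.negOnePow : ℤ) * χ (H n) = ∑ᶠ p : ℤ, G (reidx (n, p)) := by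
    intro n
    rw [hn n, mul_finsum]
    refine finsum_congr fun p => ?_
    rw [hGdef]
    change _ = sg (p, n - p) * χ ((E.page R (hr₁.trans hR1)).X (p, n - p))
    rw [sg_mk]
  calc ∑ᶠ n : ℤ, (n.negOnePow : ℤ) * χ (H n) = ∑ᶠ n : ℤ, ∑ᶠ p : ℤ, G (reidx (n, p)) :=
        finsum_congr h1
    _ = ∑ᶠ np : ℤ × ℤ, G (reidx np) := (finsum_curry (fun np => G (reidx np)) hGe).symm
    _ = ∑ᶠ pq : ℤ × ℤ, G pq := finsum_comp_equiv reidx
    _ = _ := by rw [hGdef]

end Pages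

end Groth.Agent.Helper1.SpEuler
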