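import Mathlib
import Groth.Agent.Lib.Helper1.SpEuler1

/-!
# Euler characteristics of spectral sequences of finite-dimensional vector spaces
-/

set_option autoImplicit false
universe u
open CategoryTheory CategoryTheory.Limits

namespace Groth.Agent.Helper1.SpEulerMod

variable (k : Type u) [Field k]

/-- finite-dimensional modules -/
def PF : ObjectProperty (ModuleCat.{u} k) := fun M => Module.Finite k M

instance : (PF k).IsClosedUnderIsomorphisms where
  of_iso {X Y} e h := by
    haveI : Module.Finite k X := h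
    change Module.Finite k Y
    exact Module.Finite.equiv e.toLinearEquiv

/-- the dimension, as an integer -/
noncomputable def chi (M : ModuleCat.{u} k) : ℤ := (Module.finrank k M : ℤ)

theorem pf_zero (X : ModuleCat.{u} k) (h : IsZero X) : PF k X := by
  haveI := ModuleCat.subsingleton_of_isZero h
  change Module.Finite k X
  infer_instance

theorem pf_ker {X Y : ModuleCat.{u} k} (f : X ⟶ Y) (hX : PF k X) (hY : PF k Y) :
    PF k (kernel f) := by
  haveI : Module.Finite k X := hX
  haveI : Module.Finite k (LinearMap.ker f.hom) := inferInstance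
  change Module.Finite k _
  exact Module.Finite.equiv (M := LinearMap.ker f.hom) (ModuleCat.kernelIsoKer f).symm.toLinearEquiv

theorem pf_coker {X Y : ModuleCat.{u} k} (f : X ⟶ Y) (hX : PF k X) (hY : PF k Y) :
    PF k (cokernel f) := by
  haveI : Module.Finite k Y := hY
  haveI : Module.Finite k (Y ⧸ LinearMap.range f.hom) := inferInstance
  change Module.Finite k _
  exact Module.Finite.equiv (M := Y ⧸ LinearMap.range f.hom)
    (ModuleCat.cokernelIsoRangeQuotient f).symm.toLinearEquiv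

theorem pf_ext (S : ShortComplex (ModuleCat.{u} k)) (hS : S.ShortExact) (h1 : PF k S.X₁)
    (h3 : PF k S.X₃) : PF k S.X₂ := by
  haveI : Module.Finite k S.X₁ := h1
  haveI : Module.Finite k S.X₃ := h3
  have hsurj : Function.Surjective S.g.hom := (ModuleCat.epi_iff_surjective S.g).1 hS.epi_g
  have hex : LinearMap.range S.f.hom = LinearMap.ker S.g.hom :=
    (ShortComplex.moduleCat_exact_iff_range_eq_ker S).1 hS.exact
  haveI : Module.Finite k (LinearMap.range S.f.hom) := inferInstance
  haveI : Module.Finite k (S.X₂ ⧸ LinearMap.range S.f.hom) :=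
    Module.Finite.equiv ((Submodule.quotEquivOfEq _ _ hex).trans
      (LinearMap.quotKerEquivOfSurjective S.g.hom hsurj)).symm
  change Module.Finite k S.X₂
  exact Module.Finite.of_submodule_quotient (LinearMap.range S.f.hom)

theorem chi_zero (X : ModuleCat.{u} k) (h : IsZero X) : chi k X = 0 := by
  haveI := ModuleCat.subsingleton_of_isZero h
  unfold chi
  rw [Module.finrank_zero_of_subsingleton]
  rfl

theorem chi_iso {X Y : ModuleCat.{u} k} (e : X ≅ Y) : chi k X = chi k Y := by
  unfold chi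
  rw [LinearEquiv.finrank_eq e.toLinearEquiv]

theorem chi_add (S : ShortComplex (ModuleCat.{u} k)) (hS : S.ShortExact) (h1 : PF k S.X₁)
    (h3 : PF k S.X₃) : chi k S.X₂ = chi k S.X₁ + chi k S.X₃ := by
  haveI : Module.Finite k S.X₁ := h1
  haveI : Module.Finite k S.X₃ := h3
  haveI : Module.Finite k S.X₂ := pf_ext k S hS h1 h3
  have hinj : Function.Injective S.f.hom := (ModuleCat.mono_iff_injective S.f).1 hS.mono_f
  have hsurj : Function.Surjective S.g.hom := (ModuleCat.epi_iff_surjective S.g).1 hS.epi_g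
  have hex : LinearMap.range S.f.hom = LinearMap.ker S.g.hom :=
    (ShortComplex.moduleCat_exact_iff_range_eq_ker S).1 hS.exact
  have e1 := LinearMap.finrank_range_add_finrank_ker S.g.hom
  have e2 : Module.finrank k (LinearMap.range S.g.hom) = Module.finrank k S.X₃ := by
    rw [LinearMap.range_eq_top.2 hsurj]
    exact finrank_top k S.X₃
  have e3 : Module.finrank k (LinearMap.ker S.g.hom) = Module.finrank k S.X₁ := by
    rw [← hex]
    exact LinearMap.finrank_range_of_inj hinj
  unfold chi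
  omega

/-- **Euler characteristics of finite-dimensional spectral sequences pass to the abutment.** -/
theorem main {r₀ : ℤ} (E : CohomologicalSpectralSequence (ModuleCat.{u} k) r₀)
    {H : ℤ → ModuleCat.{u} k} (a : SpSeq.Abutment E H) (hfin : ∀ n, a.IsFinite n) (r₁ : ℤ)
    (hr₁ : r₀ ≤ r₁) (B : Finset (ℤ × ℤ)) (hP : ∀ pq, Module.Finite k ((E.page r₁ hr₁).X pq))
    (hB : ∀ pq, pq ∉ B → IsZero ((E.page r₁ hr₁).X pq)) :
    ∑ᶠ n : ℤ, (n.negOnePow : ℤ) * (Module.finrank k (H n) : ℤ) =
      ∑ᶠ pq : ℤ × ℤ, SpEuler.sg pq * (Module.finrank k ((E.page r₁ hr₁).X pq) : ℤ) :=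
  SpEuler.main (PF k) (chi k) (pf_zero k) (pf_ker k) (pf_coker k) (pf_ext k) (chi_zero k)
    (chi_iso k) (chi_add k) E a hfin r₁ hr₁ B hP hB

theorem finsum_int_eq_nat (f : ℤ → ℤ) (h : ∀ n : ℤ, n < 0 → f n = 0) :
    ∑ᶠ n : ℤ, f n = ∑ᶠ m : ℕ, f (m : ℤ) := by
  calc ∑ᶠ n, f n = ∑ᶠ n ∈ Set.univ, f n := (finsum_mem_univ f).symm
    _ = ∑ᶠ n ∈ Set.range (Nat.cast : ℕ → ℤ), f n := finsum_mem_inter_support_eq f _ _ (by
        ext n
        simp only [Set.mem_inter_iff, Set.mem_univ, true_and, Set.mem_range, Function.mem_support]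
        constructor
        · intro hn
          refine ⟨⟨n.toNat, ?_⟩, hn⟩
          by_contra hc
          exact hn (h n (by omega))
        · exact fun h => h.2)
    _ = ∑ᶠ m : ℕ, f (m : ℤ) := finsum_mem_range Nat.cast_injective

theorem finsum_int_prod_eq_nat (g : ℤ × ℤ → ℤ)
    (h : ∀ pq : ℤ × ℤ, ¬ (0 ≤ pq.1 ∧ 0 ≤ pq.2) → g pq = 0)
    (hfin : (Function.support g).Finite) :
    ∑ᶠ pq : ℤ × ℤ, g pq = ∑ᶠ i : ℕ, ∑ᶠ p : ℕ, g ((p : ℤ), (i : ℤ)) := by
  obtain ⟨ι, hιdef⟩ : ∃ ι : ℕ × ℕ → ℤ × ℤ, ι = fun ip => ((ip.2 : ℤ), (ip.1 : ℤ)) := ⟨_, rfl⟩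
  have hι : Function.Injective ι := by
    intro x y hxy
    rw [hιdef] at hxy
    simp only [Prod.mk.injEq, Nat.cast_inj] at hxy
    exact Prod.ext hxy.2 hxy.1
  have hfin' : (Function.support (fun ip => g (ι ip))).Finite :=
    (hfin.preimage hι.injOn).subset (fun x hx => hx)
  calc ∑ᶠ pq, g pq = ∑ᶠ pq ∈ Set.univ, g pq := (finsum_mem_univ g).symm
    _ = ∑ᶠ pq ∈ Set.range ι, g pq := finsum_mem_inter_support_eq g _ _ (by
        ext pq
        simp only [Set.mem_inter_iff, Set.mem_univ, true_and, Set.mem_range, Function.mem_support]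
        constructor
        · intro hn
          have hpos : 0 ≤ pq.1 ∧ 0 ≤ pq.2 := by
            by_contra hc
            exact hn (h pq hc)
          refine ⟨⟨(pq.2.toNat, pq.1.toNat), ?_⟩, hn⟩
          rw [hιdef]
          ext
          · simp [hpos.1]
          · simp [hpos.2]
        · exact fun h => h.2)
    _ = ∑ᶠ ip : ℕ × ℕ, g (ι ip) := finsum_mem_range hι
    _ = ∑ᶠ i : ℕ, ∑ᶠ p : ℕ, g (ι (i, p)) := finsum_curry (fun ip => g (ι ip)) hfin'
    _ = ∑ᶠ i : ℕ, ∑ᶠ p : ℕ, g ((p : ℤ), (i : ℤ)) := by rw [hιdef]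

end Groth.Agent.Helper1.SpEulerMod
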