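import Mathlib
import Groth.Prelude.Def_Coh
import Groth.Agent.Lib.Helper1.QcsVan
import Groth.Agent.Lib.Helper1.RpushZero

set_option autoImplicit false
universe u
open CategoryTheory CategoryTheory.Limits AlgebraicGeometry TopologicalSpace Opposite

namespace Groth.Agent.Helper1.RpushBound

variable {X : Scheme.{u}}

/-- the class of opens meeting affine opens below `W₁` in affine opens -/
def RelAff (W₁ O : X.Opens) : Prop :=
  ∀ U : X.Opens, IsAffineOpen U → U ≤ W₁ → IsAffineOpen (U ⊓ O)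

/-- relative uniform vanishing bound for quasi-compact opens inside an affine open -/
theorem exists_bound_of_le_affine_rel (W₁ : X.Opens) {U : X.Opens} (hU : IsAffineOpen U)
    (hUW₁ : U ≤ W₁) (W : X.Opens) (hWU : W ≤ U) (hW : IsCompact (W : Set X)) :
    ∃ d : ℕ, ∀ (M : X.Modules) [M.IsQuasicoherent] (O : X.Opens), RelAff W₁ O → ∀ (n : ℕ), d ≤ n →
      Subsingleton (CohTop.HU (Coh.toAb M) n (W ⊓ O)) := by
  obtain ⟨s, hs, rfl⟩ := isCompact_iff_finite_and_eq_biUnion_affineOpens.mp hW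
  have : Finite ↥s := hs.to_subtype
  obtain ⟨k, ⟨e⟩⟩ := Finite.exists_equiv_fin ↥s
  let U' : Fin (k + 1) → X.Opens := Fin.lastCases ⊥ (fun i => ((e.symm i).1 : X.affineOpens).1)
  have hU' : ⨆ i, U' i = ⨆ i ∈ s, (i : X.Opens) := by
    apply le_antisymm
    · refine iSup_le fun i => ?_
      refine Fin.lastCases ?_ (fun j => ?_) i
      · simp [U']
      · simp only [U', Fin.lastCases_castSucc]
        exact le_iSup₂ (f := fun (i : X.affineOpens) (_ : i ∈ s) => (i : X.Opens)) (e.symm j).1 (e.symm j).2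
    · refine iSup₂_le fun i hi => ?_
      have : U' (Fin.castSucc (e ⟨i, hi⟩)) = i.1 := by
        simp [U']
      rw [← this]
      exact le_iSup U' _
  have hU'le : ∀ i, U' i ≤ U := by
    intro i
    refine Fin.lastCases ?_ (fun j => ?_) i
    · simp [U']
    · simp only [U', Fin.lastCases_castSucc]
      exact (le_iSup₂ (f := fun (i : X.affineOpens) (_ : i ∈ s) => (i : X.Opens))
        (e.symm j).1 (e.symm j).2).trans hWU
  have hU'aff : ∀ i, IsAffineOpen (U' i) := by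
    intro i
    refine Fin.lastCases ?_ (fun j => ?_) i
    · simp only [U', Fin.lastCases_last]
      exact isAffineOpen_bot X
    · simp only [U', Fin.lastCases_castSucc]
      exact (e.symm j).1.2
  refine ⟨k + 1, fun M _ O hO n hn => ?_⟩
  rw [← hU', iSup_inf_eq]
  refine CovVan.van_of_cover M {V | IsAffineOpen V ∧ V ≤ U ⊓ O} (fun V hV => hV.1)
    (fun V hV V' hV' => ⟨CovVan.inf_affine_of_le (hO U hU hUW₁) hV.2 hV'.2 hV.1 hV'.1,
      inf_le_left.trans hV.2⟩)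
    k (fun i => U' i ⊓ O) (fun i => ?_) n hn
  exact ⟨hO (U' i) (hU'aff i) ((hU'le i).trans hUW₁), inf_le_inf_right O (hU'le i)⟩

/-- relative uniform vanishing bound for quasi-compact opens inside a quasi-separated open -/
theorem exists_bound_rel (W₁ : X.Opens) (hW₁ : IsQuasiSeparated (W₁ : Set X)) (W : X.Opens)
    (hW : IsCompact (W : Set X)) (hWW₁ : W ≤ W₁) :
    ∃ d : ℕ, ∀ (M : X.Modules) [M.IsQuasicoherent] (O : X.Opens), RelAff W₁ O → ∀ (n : ℕ), d ≤ n →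
      Subsingleton (CohTop.HU (Coh.toAb M) n (W ⊓ O)) := by
  revert hWW₁
  refine compact_open_induction_on (P := fun W => W ≤ W₁ → ∃ d : ℕ, ∀ (M : X.Modules)
    [M.IsQuasicoherent] (O : X.Opens), RelAff W₁ O → ∀ (n : ℕ), d ≤ n →
      Subsingleton (CohTop.HU (Coh.toAb M) n (W ⊓ O))) W hW ?_ ?_
  · intro _
    refine ⟨1, fun M _ O _ n hn => ?_⟩
    obtain ⟨m, rfl⟩ : ∃ m, n = m + 1 := ⟨n - 1, by omega⟩
    rw [bot_inf_eq]
    exact QcAcyc.subsingleton_HU M ⊥ (isAffineOpen_bot X) m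
  · intro S hS U hd hSU
    have hS1 : S ≤ W₁ := le_sup_left.trans hSU
    have hU1 : U.1 ≤ W₁ := le_sup_right.trans hSU
    obtain ⟨d, hd⟩ := hd hS1
    have hSUc : IsCompact ((S ⊓ U.1 : X.Opens) : Set X) :=
      hW₁ _ _ (by exact_mod_cast hS1) S.2 hS (by exact_mod_cast hU1) U.1.2 U.2.isCompact
    obtain ⟨d', hd'⟩ := exists_bound_of_le_affine_rel W₁ U.2 hU1 (S ⊓ U.1) inf_le_right hSUc
    refine ⟨max d (d' + 1) + 1, fun M _ O hO n hn => ?_⟩
    obtain ⟨m, rfl⟩ : ∃ m, n = m + 1 := ⟨n - 1, by omega⟩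
    rw [inf_sup_right]
    refine MVvan.subsingleton_sup _ (S ⊓ O) (U.1 ⊓ O) m ?_ (hd M O hO (m + 1) (by omega)) ?_
    · have e : S ⊓ O ⊓ (U.1 ⊓ O) = (S ⊓ U.1) ⊓ O := (inf_inf_distrib_right S U.1 O).symm
      rw [e]
      exact hd' M O hO m (by omega)
    · exact QcAcyc.subsingleton_HU M _ (hO U.1 U.2 hU1) m

theorem relAff_preimage {S : Scheme.{u}} (f : X ⟶ S) {Vi V : S.Opens} (hVi : IsAffineOpen Vi)
    (hV : IsAffineOpen V) (hle : V ≤ Vi) : RelAff (f ⁻¹ᵁ Vi) (f ⁻¹ᵁ V) := by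
  intro U hU e
  have : IsAffine U.toScheme := hU
  have : IsAffine Vi.toScheme := hVi
  have hO : IsAffineOpen (Vi.ι ⁻¹ᵁ V) := by
    rw [← Scheme.Hom.isAffineOpen_iff_of_isOpenImmersion Vi.ι,
      Scheme.Hom.image_preimage_eq_opensRange_inf, Scheme.Opens.opensRange_ι, inf_eq_right.2 hle]
    exact hV
  have h1 : IsAffineOpen ((f.resLE Vi U e) ⁻¹ᵁ (Vi.ι ⁻¹ᵁ V)) := hO.preimage (f.resLE Vi U e)
  rw [Scheme.Hom.resLE_preimage, Scheme.Hom.image_preimage_eq_opensRange_inf,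
    Scheme.Opens.opensRange_ι, inf_eq_right.2 hle] at h1
  have h2 := h1.image_of_isOpenImmersion U.ι
  rw [Scheme.Hom.image_preimage_eq_opensRange_inf, Scheme.Opens.opensRange_ι] at h2
  exact h2

/-- **uniform vanishing of higher direct images of quasi-coherent modules** -/
theorem exists_bound_rpush {S : Scheme.{u}} (f : X ⟶ S) [QuasiCompact f] [QuasiSeparated f]
    [CompactSpace S] :
    ∃ n : ℕ, ∀ (M : X.Modules), M.IsQuasicoherent → ∀ p : ℕ, n ≤ p →
      IsZero ((Coh.RpushAb f p).obj (Coh.toAb M)) := by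
  obtain ⟨s, hs⟩ := isCompact_univ.elim_finite_subcover
    (fun i : S.affineOpens => (i.1 : Set S)) (fun i => i.1.2) (by
      intro x _
      obtain ⟨_, ⟨W, hW, rfl⟩, hxW, -⟩ := S.isBasis_affineOpens.exists_subset_of_mem_open
        (Set.mem_univ x) isOpen_univ
      exact Set.mem_iUnion.2 ⟨⟨W, hW⟩, hxW⟩)
  have hb : ∀ i : S.affineOpens, ∃ d : ℕ, ∀ (M : X.Modules) [M.IsQuasicoherent] (O : X.Opens),
      RelAff (f ⁻¹ᵁ i.1) O → ∀ (n : ℕ), d ≤ n →
      Subsingleton (CohTop.HU (Coh.toAb M) n (f ⁻¹ᵁ i.1 ⊓ O)) := fun i =>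
    exists_bound_rel (f ⁻¹ᵁ i.1) (f.isQuasiSeparated_preimage i.2.isQuasiSeparated) (f ⁻¹ᵁ i.1)
      (f.isCompact_preimage i.2.isCompact) le_rfl
  choose d hd using hb
  refine ⟨s.sup d, fun M hM p hp => ?_⟩
  let B : Set S.Opens := {V | IsAffineOpen V ∧ ∃ i ∈ s, V ≤ (i : S.affineOpens).1}
  have hB : Opens.IsBasis B := by
    rw [Opens.isBasis_iff_nbhd]
    intro O' x hx
    obtain ⟨i, hi⟩ := Set.mem_iUnion.1 (hs (Set.mem_univ x))
    obtain ⟨his, hxi⟩ := Set.mem_iUnion.1 hi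
    obtain ⟨_, ⟨V, hV, rfl⟩, hxV, hVle⟩ := S.isBasis_affineOpens.exists_subset_of_mem_open
      (show x ∈ ((O' ⊓ i.1 : S.Opens) : Set S) from ⟨hx, hxi⟩) (O' ⊓ i.1).2
    exact ⟨V, ⟨hV, i, his, fun y hy => (hVle hy).2⟩, hxV, fun y hy => (hVle hy).1⟩
  refine RpushZero.isZero_of_basis f.base (Coh.toAb M) p B hB ?_
  rintro V ⟨hV, i, his, hVi⟩
  have e : (Opens.map f.base).obj V = f ⁻¹ᵁ i.1 ⊓ f ⁻¹ᵁ V := by
    symm
    exact inf_eq_right.2 ((Opens.map f.base).map (homOfLE hVi)).le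
  rw [e]
  exact hd i M (f ⁻¹ᵁ V) (relAff_preimage f i.2 hV hVi) p ((Finset.le_sup his).trans hp)

end Groth.Agent.Helper1.RpushBound
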