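import Mathlib
import Groth.Prelude.Def_Coh
import Groth.Prelude.Def_CurvBase
import Groth.Agent.Lib.Helper1.SpEulerMod1
import Groth.Agent.Lib.Helper1.GammaDer1
import Groth.Agent.Lib.Helper1.CohDimB1
import Groth.Agent.Lib.Helper1.RpushComp
import Groth.Agent.Lib.Helper3.GSS
import Groth.Agent.Lib.Helper3.ExtRD
import Groth.Agent.Lib.Helper4.T2Main1
import Groth.Agent.Lib.Helper4.RpushCoh1
import Groth.Agent.S0031

/-!
# `χ(Y, G) = Σ (-1)^i χ(X, R^i f_* G)` for a morphism of proper schemes over a field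
-/

set_option backward.isDefEq.respectTransparency.types false
set_option synthInstance.maxHeartbeats 400000
set_option autoImplicit false
universe u
open CategoryTheory CategoryTheory.Limits AlgebraicGeometry TopologicalSpace Opposite
open Groth.Agent.Lib.Helper4.HModDelta1

namespace Groth.Agent.Helper1.EulerLeray

open Groth.Agent.Helper1

section Abstract

variable (k : Type u) [Field k]

/-- Euler characteristic identity for a first-quadrant spectral sequence of finite-dimensional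
vector spaces, with natural-number indices -/
theorem main_nat {r₀ : ℤ} (E : CohomologicalSpectralSequence (ModuleCat.{u} k) r₀)
    {H : ℤ → ModuleCat.{u} k} (a : SpSeq.Abutment E H) (hfin : ∀ n, a.IsFinite n) (r₁ : ℤ)
    (hr₁ : r₀ ≤ r₁) (B : Finset (ℤ × ℤ)) (hP : ∀ pq, Module.Finite k ((E.page r₁ hr₁).X pq))
    (hB : ∀ pq, pq ∉ B → IsZero ((E.page r₁ hr₁).X pq))
    (hH : ∀ n : ℤ, n < 0 → IsZero (H n))
    (hE : ∀ pq : ℤ × ℤ, ¬ (0 ≤ pq.1 ∧ 0 ≤ pq.2) → IsZero ((E.page r₁ hr₁).X pq))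
    (h : ℕ → ℕ) (hh : ∀ m : ℕ, Module.finrank k (H (m : ℤ)) = h m)
    (e : ℕ → ℕ → ℕ)
    (he : ∀ p i : ℕ, Module.finrank k ((E.page r₁ hr₁).X ((p : ℤ), (i : ℤ))) = e p i) :
    ∑ᶠ m : ℕ, (-1 : ℤ) ^ m * (h m : ℤ) =
      ∑ᶠ i : ℕ, (-1 : ℤ) ^ i * ∑ᶠ p : ℕ, (-1 : ℤ) ^ p * (e p i : ℤ) := by
  have key := SpEulerMod.main k E a hfin r₁ hr₁ B hP hB
  have hz : ∀ M : ModuleCat.{u} k, IsZero M → (Module.finrank k M : ℤ) = 0 := by
    intro M hM
    haveI := ModuleCat.subsingleton_of_isZero hM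
    rw [Module.finrank_zero_of_subsingleton]
    rfl
  have hsupp : (Function.support
      (fun pq : ℤ × ℤ => SpEuler.sg pq * (Module.finrank k ((E.page r₁ hr₁).X pq) : ℤ))).Finite :=
    B.finite_toSet.subset (Function.support_subset_iff'.2 (fun pq hpq => by
      have hpq' : pq ∉ B := by simpa using hpq
      rw [hz _ (hB pq hpq'), mul_zero]))
  rw [SpEulerMod.finsum_int_eq_nat
      (fun n : ℤ => (n.negOnePow : ℤ) * (Module.finrank k (H n) : ℤ))
      (fun n hn => by rw [hz _ (hH n hn), mul_zero]),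
    SpEulerMod.finsum_int_prod_eq_nat
      (fun pq : ℤ × ℤ => SpEuler.sg pq * (Module.finrank k ((E.page r₁ hr₁).X pq) : ℤ))
      (fun pq hpq => by rw [hz _ (hE pq hpq), mul_zero]) hsupp] at key
  refine (finsum_congr (fun m => ?_)).trans (key.trans (finsum_congr (fun i => ?_)))
  · rw [Int.coe_negOnePow_natCast, hh m]
  · rw [mul_finsum]
    refine finsum_congr (fun p => ?_)
    rw [SpEuler.sg_natCast, he p i]
    ring

end Abstract

section Geometric

variable (k : Type u) [Field k] (X Y : Scheme.{u})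
  [X.Over (Spec (CommRingCat.of k))] [Y.Over (Spec (CommRingCat.of k))]

/-- `Γ(X, f_* -) ≅ Γ(Y, -)`, `k`-linearly, for a morphism of `k`-schemes -/
noncomputable def gsComp (f : Y ⟶ X)
    (hf : f ≫ (X ↘ Spec (CommRingCat.of k)) = Y ↘ Spec (CommRingCat.of k)) :
    Scheme.Modules.pushforward f ⋙ CohIII.globalSectionsA (X := X) k ≅
      CohIII.globalSectionsA (X := Y) k :=
  show Scheme.Modules.pushforward f ⋙
      (Scheme.Modules.pushforward (X ↘ Spec (CommRingCat.of k)) ⋙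
        moduleSpecΓFunctor (R := CommRingCat.of k)) ≅
      Scheme.Modules.pushforward (Y ↘ Spec (CommRingCat.of k)) ⋙
        moduleSpecΓFunctor (R := CommRingCat.of k) from
  (Functor.associator _ _ _).symm ≪≫ Functor.isoWhiskerRight
    (Scheme.Modules.pushforwardComp f (X ↘ Spec (CommRingCat.of k)) ≪≫ eqToIso (by rw [hf])) _

/-- **`χ(Y, G) = Σ_i (-1)^i χ(X, R^i f_* G)`** -/
theorem main [IsProper (X ↘ Spec (CommRingCat.of k))] [IsProper (Y ↘ Spec (CommRingCat.of k))]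
    (f : Y ⟶ X) (hf : f ≫ (X ↘ Spec (CommRingCat.of k)) = Y ↘ Spec (CommRingCat.of k))
    [HasInjectiveResolutions Y.Modules] (G : Y.Modules) (hG : Coh.IsCoh G) :
    Curv2.euler k Y G = ∑ᶠ i : ℕ, (-1 : ℤ) ^ i * Curv2.euler k X ((Coh.Rpush f i).obj G) := by
  classical
  haveI : HasInjectiveResolutions X.Modules := inferInstance
  haveI : IsProper f := by
    haveI : IsProper (f ≫ (X ↘ Spec (CommRingCat.of k))) := by rw [hf]; infer_instance
    exact IsProper.of_comp f (X ↘ Spec (CommRingCat.of k))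
  haveI : IsLocallyNoetherian X :=
    LocallyOfFiniteType.isLocallyNoetherian (X ↘ Spec (CommRingCat.of k))
  haveI : CompactSpace X :=
    QuasiCompact.compactSpace_of_compactSpace (X ↘ Spec (CommRingCat.of k))
  haveI : X.IsSeparated :=
    ⟨by rw [← terminal.comp_from (X ↘ Spec (CommRingCat.of k))]; infer_instance⟩
  have hcoh : ∀ q, Coh.IsCoh ((Coh.Rpush f q).obj G) := fun q =>
    Groth.Agent.Lib.Helper4.RpushCoh1.s0036 f G hG q
  obtain ⟨DX, hDX⟩ := CohDimB.exists_bound (X := X)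
  obtain ⟨Df, hDf⟩ := Groth.Agent.S0031.result f
  have hRz : ∀ q, Df ≤ q → IsZero ((Coh.Rpush f q).obj G) := fun q hq => by
    obtain ⟨e⟩ := RpushComp.nonempty_iso f G q
    exact RpushComp.isZero_of_toAb _ (IsZero.of_iso (hDf G hG.1 q hq) e)
  obtain ⟨E, a, hfin, -, hE2⟩ := Groth.Agent.Helper3.GSS.main' (Scheme.Modules.pushforward f)
    (CohIII.globalSectionsA (X := X) k) (fun Q hQ q hq => GammaDer.hT k X f Q hQ q hq) G
  have hneg : ∀ pq : ℤ × ℤ, ¬ (0 ≤ pq.1 ∧ 0 ≤ pq.2) → IsZero ((E.page 2 le_rfl).X pq) := by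
    intro pq h
    obtain ⟨e⟩ := hE2 pq.1 pq.2
    rw [if_neg h] at e
    exact (isZero_zero _).of_iso e
  have hnn : ∀ p i : ℕ, Nonempty ((E.page 2 le_rfl).X ((p : ℤ), (i : ℤ)) ≅
      ModuleCat.of k (Coh.HH X ((Coh.Rpush f i).obj G) p)) := by
    intro p i
    obtain ⟨e⟩ := hE2 (p : ℤ) (i : ℤ)
    rw [if_pos ⟨Int.natCast_nonneg p, Int.natCast_nonneg i⟩, Int.toNat_natCast,
      Int.toNat_natCast] at e
    exact ⟨e ≪≫ (GammaDer.gammaDerivedIso k X p).app _⟩
  obtain ⟨B, hBdef⟩ : ∃ B : Finset (ℤ × ℤ),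
      B = Finset.Icc (0 : ℤ) DX ×ˢ Finset.Icc (0 : ℤ) Df := ⟨_, rfl⟩
  have hB : ∀ pq, pq ∉ B → IsZero ((E.page 2 le_rfl).X pq) := by
    intro pq hpq
    by_cases h : 0 ≤ pq.1 ∧ 0 ≤ pq.2
    · obtain ⟨p, hp⟩ := Int.eq_ofNat_of_zero_le h.1
      obtain ⟨i, hi⟩ := Int.eq_ofNat_of_zero_le h.2
      obtain ⟨e⟩ := hnn p i
      have hpq' : pq = ((p : ℤ), (i : ℤ)) := Prod.ext hp hi
      rw [hpq'] at hpq ⊢
      refine IsZero.of_iso ?_ e
      have hcases : DX < p ∨ Df ≤ i := by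
        by_contra hc
        have hc1 : ¬ DX < p := fun h => hc (Or.inl h)
        have hc2 : ¬ Df ≤ i := fun h => hc (Or.inr h)
        apply hpq
        rw [hBdef]
        simp only [Finset.mem_product, Finset.mem_Icc]
        exact ⟨⟨by omega, by omega⟩, ⟨by omega, by omega⟩⟩
      rcases hcases with h1 | h1
      · haveI : ((Coh.Rpush f i).obj G).IsQuasicoherent := (hcoh i).1
        have hs := hDX ((Coh.Rpush f i).obj G) p h1
        exact @ModuleCat.isZero_of_subsingleton _ _ _ hs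
      · exact Functor.map_isZero (HModF k X p) (hRz i h1)
    · exact hneg pq h
  have hP : ∀ pq, Module.Finite k ((E.page 2 le_rfl).X pq) := by
    intro pq
    by_cases h : 0 ≤ pq.1 ∧ 0 ≤ pq.2
    · obtain ⟨p, hp⟩ := Int.eq_ofNat_of_zero_le h.1
      obtain ⟨i, hi⟩ := Int.eq_ofNat_of_zero_le h.2
      obtain ⟨e⟩ := hnn p i
      have hpq' : pq = ((p : ℤ), (i : ℤ)) := Prod.ext hp hi
      rw [hpq']
      haveI : Module.Finite k (Coh.HH X ((Coh.Rpush f i).obj G) p) :=
        Groth.Agent.Lib.Helper4.T2Main1.t2 k X _ (hcoh i) p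
      exact Module.Finite.equiv (M := Coh.HH X ((Coh.Rpush f i).obj G) p) e.symm.toLinearEquiv
    · haveI := ModuleCat.subsingleton_of_isZero (hneg pq h)
      infer_instance
  unfold Curv2.euler
  refine main_nat k E a hfin 2 le_rfl B hP hB ?_ hneg
    (fun m => Module.finrank k (Coh.HH Y G m)) ?_
    (fun p i => Module.finrank k (Coh.HH X ((Coh.Rpush f i).obj G) p)) ?_
  · intro n hn
    rw [if_neg (not_le.2 hn)]
    exact isZero_zero _
  · intro m
    rw [if_pos (Int.natCast_nonneg m), Int.toNat_natCast]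
    exact LinearEquiv.finrank_eq
      ((Groth.Agent.Helper3.ExtRD.rightDerivedNatIso (gsComp k X Y f hf) m).app G ≪≫
        (GammaDer.gammaDerivedIso k Y m).app G).toLinearEquiv
  · intro p i
    obtain ⟨e⟩ := hnn p i
    exact LinearEquiv.finrank_eq e.toLinearEquiv

end Geometric

end Groth.Agent.Helper1.EulerLeray
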