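import Mathlib
import Groth.Prelude.Def_Coh
import Groth.Prelude.Def_CurvBase
import Groth.Prelude.Def_ClSub2
import Groth.Agent.Lib.Helper1.EulerLeray1
import Groth.Agent.Lib.Helper4.FibDimVan
import Groth.Agent.Lib.Helper4.FibDim1
import Groth.Agent.Lib.Helper4.ZeroDim2
import Groth.Agent.Lib.Helper1.FtGen
import Groth.Agent.Lib.Helper1.HH0
import Groth.Agent.Lib.Helper4.HHFin1
import Groth.Agent.Lib.Helper1.Dv21

/-!
# `R¹π_* O_S = 0 ↔ χ(O_S) = χ(O_X)` for a birational proper morphism of surfaces with `π_* O_S = O_X`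
-/

set_option backward.isDefEq.respectTransparency.types false
set_option synthInstance.maxHeartbeats 400000
set_option autoImplicit false
universe u
open CategoryTheory CategoryTheory.Limits AlgebraicGeometry TopologicalSpace Opposite
open Groth.Agent.Lib.Helper4.HModDelta1

namespace Groth.Agent.Helper1.ResolEuler

open Groth.Agent.Helper1

theorem enat_false (a b c d : ℕ∞) (h1 : a + 1 ≤ b) (h2 : b + 1 ≤ c) (h3 : c + 1 ≤ d)
    (h4 : d ≤ ((2 : ℕ) : ℕ∞)) : False := by
  have hd : d ≠ ⊤ := ne_top_of_le_ne_top (ENat.natCast_ne_top 2) h4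
  have hc : c ≠ ⊤ := ne_top_of_le_ne_top hd (le_self_add.trans h3)
  have hb : b ≠ ⊤ := ne_top_of_le_ne_top hc (le_self_add.trans h2)
  have ha : a ≠ ⊤ := ne_top_of_le_ne_top hb (le_self_add.trans h1)
  lift a to ℕ using ha
  lift b to ℕ using hb
  lift c to ℕ using hc
  lift d to ℕ using hd
  norm_cast at h1 h2 h3 h4
  omega

section Top

variable {S X : Scheme.{u}} (π : S ⟶ X)

theorem height_le_two (hdimS : topologicalKrullDim S = 2) (x : S) :
    Order.height x ≤ ((2 : ℕ) : ℕ∞) := by
  have h := Order.height_le_krullDim x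
  rw [← Groth.Agent.Lib.Helper4.DimIneq4.topologicalKrullDim_eq_krullDim S, hdimS] at h
  have h2 : ((Order.height x : ℕ∞) : WithBot ℕ∞) ≤ ((2 : ℕ∞) : WithBot ℕ∞) := h
  rw [Nat.cast_ofNat]
  exact WithBot.coe_le_coe.1 h2

theorem lt_genericPoint [IsIntegral S] (z : S) (hz : z ≠ genericPoint S) : z < genericPoint S := by
  rw [lt_iff_le_not_ge]
  refine ⟨Scheme.le_iff_specializes.2 (genericPoint_specializes z), fun h => hz ?_⟩
  exact ((Scheme.le_iff_specializes.1 h).antisymm (genericPoint_specializes z)).eq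

theorem exists_lt_of_not_isClosed [CompactSpace S] (a : S) (ha : ¬ IsClosed ({a} : Set S)) :
    ∃ c : S, c < a := by
  obtain ⟨c, hc, hcc⟩ := IsClosed.exists_closed_singleton (isClosed_closure (s := ({a} : Set S)))
    ⟨a, subset_closure rfl⟩
  have hne : c ≠ a := fun h => ha (h ▸ hcc)
  have hsp : a ⤳ c := specializes_iff_mem_closure.2 hc
  refine ⟨c, ?_⟩
  rw [lt_iff_le_not_ge]
  exact ⟨Scheme.le_iff_specializes.2 hsp, fun h =>
    hne ((Scheme.le_iff_specializes.1 h).antisymm hsp).eq⟩

variable (U : X.Opens) (hiso : IsIso (π ∣_ U)) (hUne : (U : Set X).Nonempty)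

include hiso in
theorem subsingleton_fiber (y : X) (hy : y ∈ U) : Subsingleton {z : S // π z = y} := by
  refine ⟨fun a b => Subtype.ext ?_⟩
  have ha : a.1 ∈ π ⁻¹ᵁ U := by
    show π a.1 ∈ U
    rw [a.2]
    exact hy
  have hb : b.1 ∈ π ⁻¹ᵁ U := by
    show π b.1 ∈ U
    rw [b.2]
    exact hy
  have hinj : Function.Injective (π ∣_ U) := (π ∣_ U).isOpenEmbedding.injective
  have h : (π ∣_ U) ⟨a.1, ha⟩ = (π ∣_ U) ⟨b.1, hb⟩ := by
    apply Subtype.ext
    rw [morphismRestrict_base_coe, morphismRestrict_base_coe]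
    exact a.2.trans b.2.symm
  have h' : (⟨a.1, ha⟩ : ↥(π ⁻¹ᵁ U)) = ⟨b.1, hb⟩ := hinj h
  exact congrArg (fun w : ↥(π ⁻¹ᵁ U) => (w.1 : S)) h'

include hiso hUne in
theorem map_genericPoint_mem [IsIntegral S] : π (genericPoint S) ∈ U := by
  obtain ⟨u, hu⟩ := hUne
  obtain ⟨s, hs⟩ := (π ∣_ U).surjective ⟨u, hu⟩
  have h1 : π s.1 = u := by
    have h := morphismRestrict_base_coe π U s
    rw [hs] at h
    exact h.symm
  have hsp : genericPoint S ⤳ s.1 := genericPoint_specializes s.1
  have hsp' : π (genericPoint S) ⤳ π s.1 := hsp.map π.continuous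
  exact hsp'.mem_open U.2 (h1 ▸ hu)

include hiso hUne in
theorem lt_genericPoint_of_not_mem [IsIntegral S] (z : S) (hz : π z ∉ U) : z < genericPoint S :=
  lt_genericPoint z (fun h => hz (h ▸ map_genericPoint_mem π U hiso hUne))

include hiso hUne in
theorem krullDim_fiber_le_one [IsIntegral S] (hdimS : topologicalKrullDim S = 2) (y : X) :
    Order.krullDim {z : S // π z = y} ≤ 1 := by
  by_cases hy : y ∈ U
  · haveI := subsingleton_fiber π U hiso y hy
    exact Order.krullDim_nonpos_of_subsingleton.trans zero_le_one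
  · rw [Order.krullDim_le_one_iff]
    intro x
    by_contra hcon
    rw [not_or, not_isMin_iff, not_isMax_iff] at hcon
    obtain ⟨⟨a, ha⟩, ⟨b, hb⟩⟩ := hcon
    have h1 : a.1 < x.1 := ha
    have h2 : x.1 < b.1 := hb
    have h3 : b.1 < genericPoint S :=
      lt_genericPoint_of_not_mem π U hiso hUne b.1 (by rw [b.2]; exact hy)
    exact enat_false _ _ _ _ (Order.height_add_one_le h1) (Order.height_add_one_le h2)
      (Order.height_add_one_le h3) (height_le_two hdimS _)

include hiso hUne in
theorem krullDim_fiber_le_zero [IsIntegral S] [CompactSpace S] [UniversallyClosed π]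
    (hdimS : topologicalKrullDim S = 2) (y : X) (hyc : ¬ IsClosed ({y} : Set X)) :
    Order.krullDim {z : S // π z = y} ≤ 0 := by
  by_cases hy : y ∈ U
  · haveI := subsingleton_fiber π U hiso y hy
    exact Order.krullDim_nonpos_of_subsingleton
  · rw [Order.krullDim_nonpos_iff_forall_isMin]
    intro x
    by_contra hcon
    rw [not_isMin_iff] at hcon
    obtain ⟨a, ha⟩ := hcon
    have h1 : a.1 < x.1 := ha
    have hnc : ¬ IsClosed ({a.1} : Set S) := by
      intro hc
      apply hyc
      have h := π.isClosedMap _ hc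
      rwa [Set.image_singleton, a.2] at h
    obtain ⟨c, hc⟩ := exists_lt_of_not_isClosed a.1 hnc
    have h3 : x.1 < genericPoint S :=
      lt_genericPoint_of_not_mem π U hiso hUne x.1 (by rw [x.2]; exact hy)
    exact enat_false _ _ _ _ (Order.height_add_one_le hc) (Order.height_add_one_le h1)
      (Order.height_add_one_le h3) (height_le_two hdimS _)

end Top

section Mod

variable {S X : Scheme.{u}} (π : S ⟶ X)

/-- a module all of whose groups of sections vanish is a zero object -/
theorem isZero_of_forall_subsingleton (F : X.Modules)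
    (h : ∀ U : X.Opens, Subsingleton Γ(F, U)) : IsZero F := by
  rw [IsZero.iff_id_eq_zero]
  apply Scheme.Modules.hom_ext
  intro U
  ext s
  have := h U
  exact Subsingleton.elim _ _

/-- a module all of whose stalks vanish is zero -/
theorem isZero_of_stalks (M : X.Modules) (h : ∀ x : X, Subsingleton (M.presheaf.stalk x)) :
    IsZero M := by
  apply isZero_of_forall_subsingleton
  intro W
  refine ⟨fun s t => ?_⟩
  let F : TopCat.Sheaf Ab X := ⟨M.presheaf, M.isSheaf⟩
  refine TopCat.Presheaf.section_ext F W s t (fun x _ => ?_)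
  haveI := h x
  exact Subsingleton.elim _ _

variable [IsProper π] [IsLocallyNoetherian X] [HasInjectiveResolutions S.Modules]

theorem subsingleton_stalk_rpush (M : S.Modules) (hM : Coh.IsCoh M) (y : X) (d : ℕ)
    (hd : topologicalKrullDim ↥(π.fiber y) ≤ d) (p : ℕ) (hp : d < p) :
    Subsingleton (((Coh.Rpush π p).obj M).presheaf.stalk y) := by
  have h := Groth.Agent.Lib.Helper4.FibDimVan.main π y d hd M hM p hp
  obtain ⟨e⟩ := RpushComp.nonempty_iso π M p
  have h' : IsZero (TopCat.Presheaf.stalk (Coh.toAb ((Coh.Rpush π p).obj M)).obj y) :=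
    IsZero.of_iso h ((TopCat.Presheaf.stalkFunctor AddCommGrpCat.{u} y).mapIso
      ((sheafToPresheaf _ _).mapIso e))
  exact AddCommGrpCat.subsingleton_of_isZero h'

end Mod

section Main

variable (k : Type u) [Field k] (X : Scheme.{u}) [X.Over (Spec (CommRingCat.of k))]
  [IsProper (X ↘ Spec (CommRingCat.of k))] (S : Scheme.{u}) [S.Over (Spec (CommRingCat.of k))]
  (π : S ⟶ X)

/-- the higher direct images of the structure sheaf -/
noncomputable abbrev R [HasInjectiveResolutions S.Modules] (p : ℕ) : X.Modules :=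
  (Coh.Rpush π p).obj (Coh.structureModule S)

theorem main (hS : π ≫ (X ↘ Spec (CommRingCat.of k)) = S ↘ Spec (CommRingCat.of k))
    [IsProper π] [IsIntegral S] (hdimS : topologicalKrullDim S = 2)
    (hO : IsIso (ClSub.unitToPush π)) (U : X.Opens) (hUne : (U : Set X).Nonempty)
    (hiso : IsIso (π ∣_ U)) :
    IsZero ((Coh.RpushAb π 1).obj (Coh.toAb (Coh.structureModule S))) ↔
      Curv2.euler k S (Coh.structureModule S) = Curv2.euler k X (Coh.structureModule X) := by
  classical
  haveI : IsProper (S ↘ Spec (CommRingCat.of k)) := by rw [← hS]; infer_instance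
  haveI : IsLocallyNoetherian X :=
    LocallyOfFiniteType.isLocallyNoetherian (X ↘ Spec (CommRingCat.of k))
  haveI : CompactSpace S :=
    QuasiCompact.compactSpace_of_compactSpace (S ↘ Spec (CommRingCat.of k))
  haveI : HasInjectiveResolutions S.Modules := inferInstance
  have hcohO : Coh.IsCoh (Coh.structureModule S) := Dv.isCoh_structureModule S
  have hRcoh : ∀ p, Coh.IsCoh (R X S π p) := fun p =>
    Groth.Agent.Lib.Helper4.RpushCoh1.s0036 π _ hcohO p
  have hE : Curv2.euler k S (Coh.structureModule S) =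
      ∑ᶠ i : ℕ, (-1 : ℤ) ^ i * Curv2.euler k X (R X S π i) :=
    EulerLeray.main k X S π hS _ hcohO
  have hd1 : ∀ y : X, topologicalKrullDim ↥(π.fiber y) ≤ ((1 : ℕ) : WithBot ℕ∞) := by
    intro y
    rw [Groth.Agent.Lib.Helper4.FibDim1.topologicalKrullDim_fiber_eq, Nat.cast_one]
    exact krullDim_fiber_le_one π U hiso hUne hdimS y
  have hd0 : ∀ y : X, ¬ IsClosed ({y} : Set X) →
      topologicalKrullDim ↥(π.fiber y) ≤ ((0 : ℕ) : WithBot ℕ∞) := by
    intro y hy
    rw [Groth.Agent.Lib.Helper4.FibDim1.topologicalKrullDim_fiber_eq, Nat.cast_zero]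
    exact krullDim_fiber_le_zero π U hiso hUne hdimS y hy
  have hRz : ∀ p, 2 ≤ p → IsZero (R X S π p) := fun p hp =>
    isZero_of_stalks _ (fun y => subsingleton_stalk_rpush π _ hcohO y 1 (hd1 y) p (by omega))
  have h0 : ∀ x ∈ CohB1.support (R X S π 1), IsClosed ({x} : Set X) := by
    intro x hx
    by_contra hxc
    exact hx (subsingleton_stalk_rpush π _ hcohO x 0 (hd0 x hxc) 1 (by omega))
  have hacyc : ∀ i, 0 < i → Subsingleton (Coh.HH X (R X S π 1) i) := fun i hi =>
    Groth.Agent.Lib.Helper4.ZeroDim2.s0047 (R X S π 1) (hRcoh 1) h0 i hi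
  have hzero_fin : ∀ (M : X.Modules) (i : ℕ), Subsingleton (Coh.HH X M i) →
      (Module.finrank k (Coh.HH X M i) : ℤ) = 0 := by
    intro M i h
    rw [Module.finrank_zero_of_subsingleton]
    rfl
  have hχ1 : Curv2.euler k X (R X S π 1) = (Module.finrank k (Coh.HH X (R X S π 1) 0) : ℤ) := by
    unfold Curv2.euler
    rw [finsum_eq_single _ 0 (fun i hi => by
      rw [hzero_fin _ i (hacyc i (Nat.pos_of_ne_zero hi)), mul_zero])]
    rw [pow_zero, one_mul]
  have hχz : ∀ M : X.Modules, IsZero M → Curv2.euler k X M = 0 := by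
    intro M hM
    unfold Curv2.euler
    have hall : ∀ i : ℕ, (-1 : ℤ) ^ i * (Module.finrank k (Coh.HH X M i) : ℤ) = 0 := by
      intro i
      have hz : IsZero ((HModF k X i).obj M) := Functor.map_isZero _ hM
      have hs : Subsingleton (Coh.HH X M i) := ModuleCat.subsingleton_of_isZero hz
      rw [hzero_fin M i hs, mul_zero]
    exact (finsum_congr hall).trans finsum_zero
  have hχ0 : Curv2.euler k X (R X S π 0) = Curv2.euler k X (Coh.structureModule X) := by
    haveI := hO
    let e : R X S π 0 ≅ Coh.structureModule X :=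
      (Scheme.Modules.pushforward π).rightDerivedZeroIsoSelf.app (Coh.structureModule S) ≪≫
        (asIso (ClSub.unitToPush π)).symm
    unfold Curv2.euler
    exact finsum_congr (fun i => by
      rw [LinearEquiv.finrank_eq (Groth.Agent.Lib.Helper4.HHFin1.HHequiv k e i)])
  have hsum : ∑ᶠ i : ℕ, (-1 : ℤ) ^ i * Curv2.euler k X (R X S π i) =
      Curv2.euler k X (R X S π 0) - Curv2.euler k X (R X S π 1) := by
    rw [finsum_eq_sum_of_support_subset (s := {0, 1})]
    · rw [Finset.sum_pair (by decide), pow_zero, pow_one, one_mul, neg_one_mul, sub_eq_add_neg]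
    · intro i hi
      by_contra hcon
      apply hi
      have h2 : 2 ≤ i := by
        simp only [Finset.coe_insert, Finset.coe_singleton, Set.mem_insert_iff,
          Set.mem_singleton_iff, not_or] at hcon
        omega
      show (-1 : ℤ) ^ i * Curv2.euler k X (R X S π i) = 0
      rw [hχz _ (hRz i h2), mul_zero]
  have hiff1 : IsZero ((Coh.RpushAb π 1).obj (Coh.toAb (Coh.structureModule S))) ↔
      IsZero (R X S π 1) := by
    obtain ⟨e⟩ := RpushComp.nonempty_iso π (Coh.structureModule S) 1
    constructor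
    · intro h
      exact RpushComp.isZero_of_toAb _ (IsZero.of_iso h e)
    · intro h
      exact IsZero.of_iso (Functor.map_isZero (SheafOfModules.toSheaf X.ringCatSheaf) h) e.symm
  rw [hiff1, hE, hsum, hχ0, hχ1]
  constructor
  · intro h
    have hs : Subsingleton (Coh.HH X (R X S π 1) 0) :=
      ModuleCat.subsingleton_of_isZero (Functor.map_isZero (HModF k X 0) h)
    rw [hzero_fin _ 0 hs, sub_zero]
  · intro h
    have hfr : (Module.finrank k (Coh.HH X (R X S π 1) 0) : ℤ) = 0 := by linarith
    haveI : Module.Finite k (Coh.HH X (R X S π 1) 0) :=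
      Groth.Agent.Lib.Helper4.T2Main1.t2 k X _ (hRcoh 1) 0
    have hs : Subsingleton (Coh.HH X (R X S π 1) 0) :=
      Module.finrank_zero_iff.1 (by exact_mod_cast hfr)
    have hΓ : Subsingleton ((R X S π 1).val.obj (op ⊤)) :=
      (HH0.equiv X (R X S π 1)).symm.toEquiv.subsingleton
    apply isZero_of_forall_subsingleton
    intro W
    refine ⟨fun s t => ?_⟩
    suffices h : ∀ s : Γ(R X S π 1, W), s = 0 by rw [h s, h t]
    intro s
    obtain ⟨t, ht⟩ := Groth.Agent.Lib.Helper4.ZeroDim2.exists_extension (R X S π 1) (hRcoh 1).2 h0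
      (le_top : W ≤ ⊤) s
    have ht0 : t = 0 := @Subsingleton.elim _ hΓ t 0
    rw [← ht, ht0, map_zero]

end Main

end Groth.Agent.Helper1.ResolEuler
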