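import Mathlib
import Groth.Prelude.Def_Pi1
import Groth.Agent.Lib.Helper1.ResolEuler1
import Groth.Agent.Lib.Helper4.ProperPush1
import Groth.Agent.Lib.Helper7.SmoothBC.GeomRed

/-!
# `R¹π_* O_X = 0 ↔ χ(O_X) = χ(O_Y)` for a point resolution of a normal proper surface
-/

set_option backward.isDefEq.respectTransparency.types false
set_option synthInstance.maxHeartbeats 400000
set_option autoImplicit false
universe u
open CategoryTheory CategoryTheory.Limits AlgebraicGeometry TopologicalSpace Opposite

namespace Groth.Agent.Helper1.ResolEuler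

section Bir

variable {X Y : Scheme.{u}} (π : X ⟶ Y)

theorem isIso_stalkMap (U : Y.Opens) (hiso : IsIso (π ∣_ U)) (x : X) (hx : π x ∈ U) :
    IsIso (π.stalkMap x) := by
  have hx' : x ∈ π ⁻¹ᵁ U := hx
  have e := morphismRestrictStalkMap π U ⟨x, hx'⟩
  have h1 : IsIso ((π ∣_ U).stalkMap ⟨x, hx'⟩) := inferInstance
  exact ((MorphismProperty.isomorphisms CommRingCat).arrow_mk_iso_iff e).1 h1

theorem isIso_unitToPush (h : ∀ V : Y.Opens, IsIso (π.app V)) : IsIso (ClSub.unitToPush π) := by
  rw [Scheme.Modules.Hom.isIso_iff_isIso_app]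
  intro V
  haveI := h V
  have h3 : Function.Bijective (π.app V).hom :=
    (ConcreteCategory.isIso_iff_bijective (π.app V)).1 inferInstance
  have h2 : Function.Bijective ((ClSub.unitToPush π).app V) := h3
  exact (ConcreteCategory.isIso_iff_bijective _).2 h2

end Bir

theorem main2 (k : Type u) [Field k] (X Y : Scheme.{u}) [X.Over (Spec (CommRingCat.of k))]
    [Y.Over (Spec (CommRingCat.of k))] [IsProper (X ↘ Spec (CommRingCat.of k))]
    [IsProper (Y ↘ Spec (CommRingCat.of k))] [IrreducibleSpace X] [IrreducibleSpace Y]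
    (hdX : topologicalKrullDim X = 2) (hdY : topologicalKrullDim Y = 2)
    [Smooth (X ↘ Spec (CommRingCat.of k))] (hYn : Pi1.IsNormalScheme Y) (π : X ⟶ Y)
    [π.IsOver (Spec (CommRingCat.of k))] (y : Y) (hy : IsClosed ({y} : Set Y))
    (hiso : IsIso (π ∣_ (⟨({y} : Set Y)ᶜ, hy.isOpen_compl⟩ : Y.Opens))) :
    IsZero ((Coh.RpushAb π 1).obj (Coh.toAb (Coh.structureModule X))) ↔
      Curv2.euler k X (Coh.structureModule X) = Curv2.euler k Y (Coh.structureModule Y) := by
  classical
  have hS : π ≫ (Y ↘ Spec (CommRingCat.of k)) = X ↘ Spec (CommRingCat.of k) :=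
    (Scheme.Hom.isOver_iff (Spec (CommRingCat.of k))).1 inferInstance
  haveI : IsProper π := by
    haveI : IsProper (π ≫ (Y ↘ Spec (CommRingCat.of k))) := by rw [hS]; infer_instance
    exact IsProper.of_comp π (Y ↘ Spec (CommRingCat.of k))
  haveI : IsReduced X :=
    Groth.Agent.Helper7.SmoothBC.isReduced_of_smooth_over_field k
      (X ↘ Spec (CommRingCat.of k))
  haveI : IsIntegral X := isIntegral_of_irreducibleSpace_of_isReduced X
  haveI : ∀ z : Y, _root_.IsReduced (Y.presheaf.stalk z) := fun z => by
    haveI := (hYn z).1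
    infer_instance
  haveI : IsReduced Y := isReduced_of_isReduced_stalk Y
  haveI : IsIntegral Y := isIntegral_of_irreducibleSpace_of_isReduced Y
  haveI : IsLocallyNoetherian X :=
    LocallyOfFiniteType.isLocallyNoetherian (X ↘ Spec (CommRingCat.of k))
  haveI : IsLocallyNoetherian Y :=
    LocallyOfFiniteType.isLocallyNoetherian (Y ↘ Spec (CommRingCat.of k))
  obtain ⟨U, hUdef⟩ : ∃ U : Y.Opens, U = ⟨({y} : Set Y)ᶜ, hy.isOpen_compl⟩ := ⟨_, rfl⟩
  rw [← hUdef] at hiso
  have hUne : (U : Set Y).Nonempty := by
    have h1 : (1 : WithBot ℕ∞) ≤ Order.krullDim Y := by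
      rw [← Groth.Agent.Lib.Helper4.DimIneq4.topologicalKrullDim_eq_krullDim Y, hdY]
      exact one_le_two
    obtain ⟨a, b, hab⟩ := Order.one_le_krullDim_iff.1 h1
    by_cases ha : a = y
    · refine ⟨b, ?_⟩
      rw [hUdef]
      show b ∈ ({y} : Set Y)ᶜ
      intro hb
      rw [Set.mem_singleton_iff] at hb
      rw [ha, hb] at hab
      exact lt_irrefl _ hab
    · refine ⟨a, ?_⟩
      rw [hUdef]
      exact ha
  have hgen : π (genericPoint X) ∈ U := map_genericPoint_mem π U hiso hUne
  have hgenY : genericPoint Y ∈ U := by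
    obtain ⟨u, hu⟩ := hUne
    exact (genericPoint_specializes u).mem_open U.2 hu
  have hdom : π.base (genericPoint X) ⤳ genericPoint Y := by
    obtain ⟨s, hs⟩ := (π ∣_ U).surjective ⟨genericPoint Y, hgenY⟩
    have h1 : π s.1 = genericPoint Y := by
      have h := morphismRestrict_base_coe π U s
      rw [hs] at h
      exact h.symm
    have h2 : π (genericPoint X) ⤳ π s.1 := (genericPoint_specializes s.1).map π.continuous
    rw [h1] at h2
    exact h2
  have hsurj : Function.Surjective (CohIII.stalkToFunctionField π (genericPoint Y) hdom) := by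
    unfold CohIII.stalkToFunctionField
    rw [RingHom.coe_comp]
    apply Function.Surjective.comp
    · haveI := isIso_stalkMap π U hiso (genericPoint X) hgen
      exact (ConcreteCategory.bijective_of_isIso (π.stalkMap (genericPoint X))).2
    · have hins : Inseparable (genericPoint Y) (π.base (genericPoint X)) :=
        (genericPoint_specializes (π.base (genericPoint X))).antisymm hdom
      haveI : IsIso (Y.presheaf.stalkSpecializes hdom) :=
        inferInstanceAs (IsIso (Y.presheaf.stalkCongr hins).hom)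
      exact (ConcreteCategory.bijective_of_isIso (Y.presheaf.stalkSpecializes hdom)).2
  have happ : ∀ V : Y.Opens, IsIso (π.app V) :=
    Groth.Agent.Lib.Helper4.ProperPush1.S2422_main hYn π hdom (fun x _ => hsurj x)
  have hO : IsIso (ClSub.unitToPush π) := isIso_unitToPush π happ
  exact main k Y X π hS hdX hO U hUne hiso

end Groth.Agent.Helper1.ResolEuler
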