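import Mathlib
import Groth.Prelude.Def_Pi1
import Groth.Agent.Lib.Helper1.ResolEuler2
import Groth.Agent.Lib.Helper1.LowDeg1
import Groth.Agent.Lib.Helper4.DimIneq4
import Groth.Agent.Lib.Helper1.GlobGenLoc

/-!
# Morphisms between modifications of a two-dimensional normal local domain:
`0 → H¹(X, O_X) → H¹(X', O_{X'}) → H⁰(X, R¹g_* O_{X'}) → 0`
-/

set_option backward.isDefEq.respectTransparency.types false
set_option synthInstance.maxHeartbeats 400000
set_option autoImplicit false
universe u
open CategoryTheory CategoryTheory.Limits AlgebraicGeometry TopologicalSpace Opposite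
open Groth.Agent.Lib.Helper4.HModDelta1

namespace Groth.Agent.Helper1.Modif

open Groth.Agent.Helper1

section Trdeg

/-- the transcendence degree of the residue field extension at a point -/
noncomputable def trdegAt {X Y : Scheme.{u}} (f : X ⟶ Y) (x : X) : Cardinal.{u} :=
  letI := (f.residueFieldMap x).hom.toAlgebra
  Algebra.trdeg (Y.residueField (f x)) (X.residueField x)

theorem trdegAt_comp {X Y Z : Scheme.{u}} (f : X ⟶ Y) (g : Y ⟶ Z) (x : X) :
    trdegAt (f ≫ g) x = trdegAt g (f x) + trdegAt f x := by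
  letI a1 : Algebra (Z.residueField (g (f x))) (Y.residueField (f x)) :=
    (g.residueFieldMap (f x)).hom.toAlgebra
  letI a2 : Algebra (Y.residueField (f x)) (X.residueField x) :=
    (f.residueFieldMap x).hom.toAlgebra
  letI a3 : Algebra (Z.residueField (g (f x))) (X.residueField x) :=
    ((f ≫ g).residueFieldMap x).hom.toAlgebra
  haveI : IsScalarTower (Z.residueField (g (f x))) (Y.residueField (f x)) (X.residueField x) := by
    apply IsScalarTower.of_algebraMap_eq
    intro a
    change ((f ≫ g).residueFieldMap x).hom a =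
      (f.residueFieldMap x).hom ((g.residueFieldMap (f x)).hom a)
    rw [Scheme.residueFieldMap_comp]
    rfl
  haveI : FaithfulSMul (Z.residueField (g (f x))) (Y.residueField (f x)) :=
    (faithfulSMul_iff_algebraMap_injective _ _).mpr (RingHom.injective _)
  haveI : FaithfulSMul (Y.residueField (f x)) (X.residueField x) :=
    (faithfulSMul_iff_algebraMap_injective _ _).mpr (RingHom.injective _)
  exact (_root_.trdeg_add_eq (Z.residueField (g (f x))) (Y.residueField (f x))
    (A := X.residueField x)).symm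

theorem trdegAt_eq_zero_of_bijective {X Y : Scheme.{u}} (f : X ⟶ Y) (x : X)
    (hb : Function.Bijective (f.residueFieldMap x).hom) : trdegAt f x = 0 := by
  unfold trdegAt
  letI := (f.residueFieldMap x).hom.toAlgebra
  haveI : Algebra.IsAlgebraic (Y.residueField (f x)) (X.residueField x) :=
    ⟨fun b => by
      obtain ⟨a, rfl⟩ := hb.2 b
      exact isAlgebraic_algebraMap a⟩
  exact _root_.trdeg_eq_zero

theorem trdegAt_eq_zero_of_isOpenImmersion {X Y : Scheme.{u}} (f : X ⟶ Y) [IsOpenImmersion f]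
    (x : X) : trdegAt f x = 0 :=
  trdegAt_eq_zero_of_bijective f x (ConcreteCategory.bijective_of_isIso (f.residueFieldMap x))

theorem trdegAt_eq_zero_of_isIso_restrict {X Y : Scheme.{u}} (p : X ⟶ Y) (U : Y.Opens)
    (hiso : IsIso (p ∣_ U)) (x : X) (hx : p x ∈ U) : trdegAt p x = 0 := by
  have hx' : x ∈ p ⁻¹ᵁ U := hx
  have h1 := trdegAt_comp (p ∣_ U) U.ι ⟨x, hx'⟩
  have h2 := trdegAt_comp (p ⁻¹ᵁ U).ι p ⟨x, hx'⟩
  rw [morphismRestrict_ι] at h1
  rw [h1, trdegAt_eq_zero_of_isOpenImmersion U.ι, trdegAt_eq_zero_of_isOpenImmersion (p ∣_ U),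
    trdegAt_eq_zero_of_isOpenImmersion (p ⁻¹ᵁ U).ι, add_zero, add_zero] at h2
  exact h2.symm

end Trdeg

section Restrict

theorem isIso_restrict_of_le {X Y : Scheme.{u}} (f : X ⟶ Y) {U U' : Y.Opens} (h : U' ≤ U)
    (hP : IsIso (f ∣_ U)) : IsIso (f ∣_ U') := by
  haveI := hP
  have h1 : IsIso ((f ∣_ U) ∣_ (U.ι ⁻¹ᵁ U')) := inferInstance
  have h2 : IsIso (f ∣_ (U.ι ''ᵁ (U.ι ⁻¹ᵁ U'))) :=
    ((MorphismProperty.isomorphisms Scheme.{u}).arrow_mk_iso_iff
      (morphismRestrictRestrict f U _)).1 h1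
  have e : U.ι ''ᵁ U.ι ⁻¹ᵁ U' = U' := by
    rw [Scheme.Hom.image_preimage_eq_opensRange_inf, Scheme.Opens.opensRange_ι]
    exact inf_eq_right.mpr h
  exact ((MorphismProperty.isomorphisms Scheme.{u}).arrow_mk_iso_iff
    (morphismRestrictEq f e)).1 h2

theorem isIso_restrict_of_comp {X' X S : Scheme.{u}} (g : X' ⟶ X) (p : X ⟶ S) (W : S.Opens)
    (h1 : IsIso ((g ≫ p) ∣_ W)) (h2 : IsIso (p ∣_ W)) : IsIso (g ∣_ (p ⁻¹ᵁ W)) := by
  haveI := h2
  haveI : IsIso (g ∣_ (p ⁻¹ᵁ W) ≫ p ∣_ W) := by
    rw [← morphismRestrict_comp]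
    exact h1
  exact IsIso.of_isIso_comp_right (g ∣_ (p ⁻¹ᵁ W)) (p ∣_ W)

theorem nonempty_preimage {X S : Scheme.{u}} (p : X ⟶ S) (W : S.Opens)
    (hWne : (W : Set S).Nonempty) (hiso : IsIso (p ∣_ W)) :
    ((p ⁻¹ᵁ W : X.Opens) : Set X).Nonempty := by
  obtain ⟨w, hw⟩ := hWne
  obtain ⟨s, -⟩ := (p ∣_ W).surjective ⟨w, hw⟩
  exact ⟨s.1, s.2⟩

end Restrict

section Dim

theorem dim_eq {X S : Scheme.{u}} (p : X ⟶ S) [IsProper p] [IsIntegral X] [IsIntegral S]
    [IsLocallyNoetherian S] (U : S.Opens) (hUne : (U : Set S).Nonempty)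
    (hiso : IsIso (p ∣_ U)) : topologicalKrullDim X = topologicalKrullDim S := by
  haveI : IsDominant p := ⟨by
    have hsub : (U : Set S) ⊆ Set.range p := by
      intro u hu
      obtain ⟨s, hs⟩ := (p ∣_ U).surjective ⟨u, hu⟩
      refine ⟨s.1, ?_⟩
      have h := morphismRestrict_base_coe p U s
      rw [hs] at h
      exact h.symm
    exact (U.2.dense hUne).mono hsub⟩
  have hη : p (genericPoint X) ∈ U := ResolEuler.map_genericPoint_mem p U hiso hUne
  have htr : trdegAt p (genericPoint X) = ((0 : ℕ) : Cardinal.{u}) := by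
    rw [Nat.cast_zero]
    exact trdegAt_eq_zero_of_isIso_restrict p U hiso _ hη
  have h := (Groth.Agent.Lib.Helper4.DimIneq4.S9685_main p 0 htr).2 p.isClosedMap
  rw [Nat.cast_zero, add_zero] at h
  exact h

end Dim

section Bir

theorem isIso_unitToPush_of_birational {X Y : Scheme.{u}} [IsIntegral X] [IsIntegral Y]
    (hYn : Pi1.IsNormalScheme Y) (π : X ⟶ Y) [IsProper π] (U : Y.Opens)
    (hUne : (U : Set Y).Nonempty) (hiso : IsIso (π ∣_ U)) : IsIso (ClSub.unitToPush π) := by
  have hgen : π (genericPoint X) ∈ U := ResolEuler.map_genericPoint_mem π U hiso hUne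
  have hgenY : genericPoint Y ∈ U := by
    obtain ⟨u, hu⟩ := hUne
    exact (genericPoint_specializes u).mem_open U.2 hu
  have hdom : π.base (genericPoint X) ⤳ genericPoint Y := by
    obtain ⟨s, hs⟩ := (π ∣_ U).surjective ⟨genericPoint Y, hgenY⟩
    have h1 : π s.1 = genericPoint Y := by
      have h := morphismRestrict_base_coe π U s
      rw [hs] at h
      exact h.symm
    have h2 : π (genericPoint X) ⤳ π s.1 := (genericPoint_specializes s.1).map π.continuous
    rw [h1] at h2
    exact h2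
  have hsurj : Function.Surjective (CohIII.stalkToFunctionField π (genericPoint Y) hdom) := by
    unfold CohIII.stalkToFunctionField
    rw [RingHom.coe_comp]
    apply Function.Surjective.comp
    · haveI := ResolEuler.isIso_stalkMap π U hiso (genericPoint X) hgen
      exact (ConcreteCategory.bijective_of_isIso (π.stalkMap (genericPoint X))).2
    · have hins : Inseparable (genericPoint Y) (π.base (genericPoint X)) :=
        (genericPoint_specializes (π.base (genericPoint X))).antisymm hdom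
      haveI : IsIso (Y.presheaf.stalkSpecializes hdom) :=
        inferInstanceAs (IsIso (Y.presheaf.stalkCongr hins).hom)
      exact (ConcreteCategory.bijective_of_isIso (Y.presheaf.stalkSpecializes hdom)).2
  have happ : ∀ V : Y.Opens, IsIso (π.app V) :=
    Groth.Agent.Lib.Helper4.ProperPush1.S2422_main hYn π hdom (fun x _ => hsurj x)
  exact ResolEuler.isIso_unitToPush π happ

end Bir

section GammaComp

variable (A : Type u) [CommRing A] (X Y : Scheme.{u})
  [X.Over (Spec (CommRingCat.of A))] [Y.Over (Spec (CommRingCat.of A))]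

/-- `Γ(X, f_* -) ≅ Γ(Y, -)`, `A`-linearly, for a morphism of `A`-schemes -/
noncomputable def gsCompA (f : Y ⟶ X)
    (hf : f ≫ (X ↘ Spec (CommRingCat.of A)) = Y ↘ Spec (CommRingCat.of A)) :
    Scheme.Modules.pushforward f ⋙ CohIII.globalSectionsA (X := X) A ≅
      CohIII.globalSectionsA (X := Y) A :=
  show Scheme.Modules.pushforward f ⋙
      (Scheme.Modules.pushforward (X ↘ Spec (CommRingCat.of A)) ⋙
        moduleSpecΓFunctor (R := CommRingCat.of A)) ≅
      Scheme.Modules.pushforward (Y ↘ Spec (CommRingCat.of A)) ⋙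
        moduleSpecΓFunctor (R := CommRingCat.of A) from
  (Functor.associator _ _ _).symm ≪≫ Functor.isoWhiskerRight
    (Scheme.Modules.pushforwardComp f (X ↘ Spec (CommRingCat.of A)) ≪≫ eqToIso (by rw [hf])) _

end GammaComp

end Groth.Agent.Helper1.Modif
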