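import Mathlib
import Groth.Agent.Lib.Helper1.Modif1

/-!
# Morphisms between modifications of a two-dimensional normal local domain (main statement)
-/

set_option backward.isDefEq.respectTransparency.types false
set_option synthInstance.maxHeartbeats 400000
set_option autoImplicit false
universe u
open CategoryTheory CategoryTheory.Limits AlgebraicGeometry TopologicalSpace Opposite
open Groth.Agent.Lib.Helper4.HModDelta1

namespace Groth.Agent.Helper1.Modif

open Groth.Agent.Helper1

theorem fullR (R : CommRingCat.{u}) : (tilde.functor R).Full := inferInstance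
theorem faithfulR (R : CommRingCat.{u}) : (tilde.functor R).Faithful := inferInstance

section H2

variable (A : Type u) [CommRing A] [IsNoetherianRing A] (X : Scheme.{u})
  [X.Over (Spec (CommRingCat.of A))] [IsProper (X ↘ Spec (CommRingCat.of A))]
  [HasInjectiveResolutions X.Modules]

/-- `H^n(X, N) = 0` for coherent `N` when `n` exceeds all fibre dimensions of `X → Spec A` -/
theorem subsingleton_HH_of_fiber_dim (d : ℕ)
    (hd : ∀ y, topologicalKrullDim ↥((X ↘ Spec (CommRingCat.of A)).fiber y) ≤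
      ((d : ℕ) : WithBot ℕ∞))
    (N : X.Modules) (hN : Coh.IsCoh N) (n : ℕ) (hn : d < n) : Subsingleton (Coh.HH X N n) := by
  have hz : IsZero ((Coh.Rpush (X ↘ Spec (CommRingCat.of A)) n).obj N) :=
    ResolEuler.isZero_of_stalks _ (fun y =>
      ResolEuler.subsingleton_stalk_rpush (X ↘ Spec (CommRingCat.of A)) N hN y d (hd y) n hn)
  have e : (Coh.Rpush (X ↘ Spec (CommRingCat.of A)) n).obj N ≅
      (tilde.functor (CommRingCat.of A)).obj ((HModF A X n).obj N) :=
    (Groth.Agent.Lib.Helper4.RpushTilde1.rpushTildeIso A X n).app ⟨N, hN.1⟩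
  haveI := fullR (CommRingCat.of A)
  haveI := faithfulR (CommRingCat.of A)
  have hz' : IsZero ((HModF A X n).obj N) :=
    IsZero.of_full_of_faithful_of_isZero (tilde.functor (CommRingCat.of A)) _
      (IsZero.of_iso hz e.symm)
  exact ModuleCat.subsingleton_of_isZero hz'

end H2

section Main

theorem main (A : Type u) [CommRing A] [IsDomain A] [IsNoetherianRing A]
    (hdim : ringKrullDim A = 2)
    (X X' : Scheme.{u}) [X.Over (Spec (CommRingCat.of A))] [X'.Over (Spec (CommRingCat.of A))]
    [IsProper (X ↘ Spec (CommRingCat.of A))] [IsProper (X' ↘ Spec (CommRingCat.of A))]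
    [IsIntegral X] [IsIntegral X']
    (hX : ∃ U : (Spec (CommRingCat.of A)).Opens,
      (U : Set (Spec (CommRingCat.of A))).Nonempty ∧ IsIso ((X ↘ Spec (CommRingCat.of A)) ∣_ U))
    (hX' : ∃ U : (Spec (CommRingCat.of A)).Opens,
      (U : Set (Spec (CommRingCat.of A))).Nonempty ∧ IsIso ((X' ↘ Spec (CommRingCat.of A)) ∣_ U))
    (hXn : Pi1.IsNormalScheme X) (g : X' ⟶ X)
    (hg : g ≫ (X ↘ Spec (CommRingCat.of A)) = X' ↘ Spec (CommRingCat.of A))
    [HasInjectiveResolutions X'.Modules] :
    Curv2.IsGloballyGenerated ((Coh.Rpush g 1).obj (Coh.structureModule X')) ∧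
      {x : X | Nontrivial (((Coh.Rpush g 1).obj (Coh.structureModule X')).presheaf.stalk x)}.Finite ∧
      (∀ x : X, Nontrivial (((Coh.Rpush g 1).obj (Coh.structureModule X')).presheaf.stalk x) →
        IsClosed ({x} : Set X)) ∧
      Module.length A (Coh.HH X' (Coh.structureModule X') 1) =
        Module.length A (Coh.HH X (Coh.structureModule X) 1) +
          Module.length A (Coh.HH X ((Coh.Rpush g 1).obj (Coh.structureModule X')) 0) := by
  classical
  obtain ⟨U₁, hU₁ne, hU₁⟩ := hX
  obtain ⟨U₂, hU₂ne, hU₂⟩ := hX'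
  haveI : IsProper g := by
    haveI : IsProper (g ≫ (X ↘ Spec (CommRingCat.of A))) := by rw [hg]; infer_instance
    exact IsProper.of_comp g (X ↘ Spec (CommRingCat.of A))
  haveI : IsLocallyNoetherian X :=
    LocallyOfFiniteType.isLocallyNoetherian (X ↘ Spec (CommRingCat.of A))
  haveI : IsLocallyNoetherian X' :=
    LocallyOfFiniteType.isLocallyNoetherian (X' ↘ Spec (CommRingCat.of A))
  haveI : CompactSpace X :=
    QuasiCompact.compactSpace_of_compactSpace (X ↘ Spec (CommRingCat.of A))
  haveI : CompactSpace X' :=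
    QuasiCompact.compactSpace_of_compactSpace (X' ↘ Spec (CommRingCat.of A))
  haveI : IsNoetherian X := {}
  haveI : HasInjectiveResolutions X.Modules := inferInstance
  haveI : EnoughInjectives X'.Modules :=
    Groth.Agent.Helper1.DeltaComp.enoughInjectives_of_hasInjectiveResolutions
  haveI : EnoughInjectives X.Modules :=
    Groth.Agent.Helper1.DeltaComp.enoughInjectives_of_hasInjectiveResolutions
  -- a common open of the base
  obtain ⟨W, hWdef⟩ : ∃ W : (Spec (CommRingCat.of A)).Opens, W = U₁ ⊓ U₂ := ⟨_, rfl⟩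
  have hWne : (W : Set (Spec (CommRingCat.of A))).Nonempty := by
    rw [hWdef]
    exact nonempty_preirreducible_inter U₁.2 U₂.2 hU₁ne hU₂ne
  have hpW : IsIso ((X ↘ Spec (CommRingCat.of A)) ∣_ W) :=
    isIso_restrict_of_le _ (hWdef ▸ inf_le_left) hU₁
  have hp'W : IsIso ((X' ↘ Spec (CommRingCat.of A)) ∣_ W) :=
    isIso_restrict_of_le _ (hWdef ▸ inf_le_right) hU₂
  obtain ⟨V, hVdef⟩ : ∃ V : X.Opens, V = (X ↘ Spec (CommRingCat.of A)) ⁻¹ᵁ W := ⟨_, rfl⟩
  have hgV : IsIso (g ∣_ V) := by
    rw [hVdef]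
    refine isIso_restrict_of_comp g (X ↘ Spec (CommRingCat.of A)) W ?_ hpW
    rw [hg]
    exact hp'W
  have hVne : (V : Set X).Nonempty := by
    rw [hVdef]
    exact nonempty_preimage _ W hWne hpW
  -- dimensions
  have hdS : topologicalKrullDim (Spec (CommRingCat.of A)) = 2 := by
    rw [← hdim]
    exact PrimeSpectrum.topologicalKrullDim_eq_ringKrullDim A
  have hdX : topologicalKrullDim X = 2 :=
    (dim_eq (X ↘ Spec (CommRingCat.of A)) W hWne hpW).trans hdS
  have hdX' : topologicalKrullDim X' = 2 :=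
    (dim_eq (X' ↘ Spec (CommRingCat.of A)) W hWne hp'W).trans hdS
  -- the first direct image
  have hcohO' : Coh.IsCoh (Coh.structureModule X') := Dv.isCoh_structureModule X'
  have hcohO : Coh.IsCoh (Coh.structureModule X) := Dv.isCoh_structureModule X
  obtain ⟨R1, hR1def⟩ : ∃ R1 : X.Modules,
      R1 = (Coh.Rpush g 1).obj (Coh.structureModule X') := ⟨_, rfl⟩
  rw [← hR1def]
  have hR1coh : Coh.IsCoh R1 := by
    rw [hR1def]
    exact Groth.Agent.Lib.Helper4.RpushCoh1.s0036 g _ hcohO' 1
  have hd0 : ∀ y : X, ¬ IsClosed ({y} : Set X) →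
      topologicalKrullDim ↥(g.fiber y) ≤ ((0 : ℕ) : WithBot ℕ∞) := by
    intro y hy
    rw [Groth.Agent.Lib.Helper4.FibDim1.topologicalKrullDim_fiber_eq, Nat.cast_zero]
    exact ResolEuler.krullDim_fiber_le_zero g V hgV hVne hdX' y hy
  have h0 : ∀ x ∈ CohB1.support R1, IsClosed ({x} : Set X) := by
    intro x hx
    by_contra hxc
    rw [hR1def] at hx
    exact hx (ResolEuler.subsingleton_stalk_rpush g _ hcohO' x 0 (hd0 x hxc) 1 (by omega))
  have hsupp : {x : X | Nontrivial (R1.presheaf.stalk x)} = CohB1.support R1 := by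
    ext x
    exact not_subsingleton_iff_nontrivial.symm
  have hgg : Curv2.IsGloballyGenerated R1 := by
    refine ⟨Γ(R1, ⊤), GlobGen.ofSections (fun t : Γ(R1, ⊤) => t), ?_⟩
    apply GlobGen.epi_of_mem_loc
    intro O t
    obtain ⟨s, hs⟩ := Groth.Agent.Lib.Helper4.ZeroDim2.exists_extension R1 hR1coh.2 h0
      (le_top : O ≤ ⊤) t
    exact (GlobGen.spanPre (fun t : Γ(R1, ⊤) => t)).le_loc (Submodule.subset_span ⟨s, hs⟩)
  have hfin : {x : X | Nontrivial (R1.presheaf.stalk x)}.Finite := by
    rw [hsupp]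
    exact Groth.Agent.Lib.Helper4.ZeroDim1.finite_of_closed_points _
      (FtGen.isClosed_support R1 hR1coh.2) h0
  have hcl : ∀ x : X, Nontrivial (R1.presheaf.stalk x) → IsClosed ({x} : Set X) := by
    intro x hx
    exact h0 x (not_subsingleton_iff_nontrivial.2 hx)
  refine ⟨hgg, hfin, hcl, ?_⟩
  -- the length formula
  have hd1 : ∀ y, topologicalKrullDim ↥((X ↘ Spec (CommRingCat.of A)).fiber y) ≤
      ((1 : ℕ) : WithBot ℕ∞) := by
    intro y
    rw [Groth.Agent.Lib.Helper4.FibDim1.topologicalKrullDim_fiber_eq, Nat.cast_one]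
    exact ResolEuler.krullDim_fiber_le_one (X ↘ Spec (CommRingCat.of A)) W hpW hWne hdX y
  have hO : IsIso (ClSub.unitToPush g) := isIso_unitToPush_of_birational hXn g V hVne hgV
  have e0 : Coh.structureModule X ≅
      (Scheme.Modules.pushforward g).obj (Coh.structureModule X') :=
    @asIso _ _ _ _ _ hO
  have hs2 : Subsingleton (Coh.HH X (Coh.structureModule X) 2) :=
    subsingleton_HH_of_fiber_dim A X 1 hd1 _ hcohO 2 (by omega)
  have h2 : IsZero (((CohIII.globalSectionsA (X := X) A).rightDerived 2).obj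
      ((Scheme.Modules.pushforward g).obj (Coh.structureModule X'))) := by
    refine IsZero.of_iso ?_ (((CohIII.globalSectionsA (X := X) A).rightDerived 2).mapIso e0.symm ≪≫
      (GammaDer.gammaDerivedIso A X 2).app _)
    exact @ModuleCat.isZero_of_subsingleton _ _ _ hs2
  obtain ⟨S, hS, ⟨e1⟩, ⟨e2⟩, ⟨e3⟩⟩ := LowDeg.main (Scheme.Modules.pushforward g)
    (CohIII.globalSectionsA (X := X) A)
    (fun Q hQ q hq => GammaDer.hT A X g Q hQ q hq) (Coh.structureModule X') h2
  have i1 : S.X₁ ≅ ModuleCat.of A (Coh.HH X (Coh.structureModule X) 1) :=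
    e1 ≪≫ ((CohIII.globalSectionsA (X := X) A).rightDerived 1).mapIso e0.symm ≪≫
      (GammaDer.gammaDerivedIso A X 1).app _
  have i2 : S.X₂ ≅ ModuleCat.of A (Coh.HH X' (Coh.structureModule X') 1) :=
    e2 ≪≫ (Groth.Agent.Helper3.ExtRD.rightDerivedNatIso (gsCompA A X X' g hg) 1).app _ ≪≫
      (GammaDer.gammaDerivedIso A X' 1).app _
  have i3 : S.X₃ ≅ ModuleCat.of A (Coh.HH X R1 0) := by
    rw [hR1def]
    exact e3 ≪≫ (Groth.Agent.Lib.Helper4.RpushTilde1.gsIsoL A X).app _
  have hadd : Module.length A S.X₂ = Module.length A S.X₁ + Module.length A S.X₃ :=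
    Module.length_eq_add_of_exact S.f.hom S.g.hom hS.moduleCat_injective_f
      hS.moduleCat_surjective_g
      ((ShortComplex.ShortExact.moduleCat_exact_iff_function_exact S).1 hS.exact)
  have h1 : Module.length A S.X₁ = Module.length A (Coh.HH X (Coh.structureModule X) 1) :=
    LinearEquiv.length_eq i1.toLinearEquiv
  have h2' : Module.length A S.X₂ = Module.length A (Coh.HH X' (Coh.structureModule X') 1) :=
    LinearEquiv.length_eq i2.toLinearEquiv
  have h3 : Module.length A S.X₃ = Module.length A (Coh.HH X R1 0) :=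
    LinearEquiv.length_eq i3.toLinearEquiv
  rw [← h1, ← h2', ← h3]
  exact hadd

end Main

end Groth.Agent.Helper1.Modif
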