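import Mathlib
import Groth.Agent.Lib.Helper1.Modif2
import Groth.Agent.Lib.Helper1.QcSum2
import Groth.Agent.Lib.Helper1.ColimCoh2

/-!
# Cohomology of quasi-coherent modules on modifications of a two-dimensional local domain
-/

set_option backward.isDefEq.respectTransparency.types false
set_option synthInstance.maxHeartbeats 400000
set_option autoImplicit false
universe u
open CategoryTheory CategoryTheory.Limits AlgebraicGeometry TopologicalSpace Opposite
open Groth.Agent.Lib.Helper4.HModDelta1 Groth.Agent.Lib.Helper4.QCohAb1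

namespace Groth.Agent.Helper1.Modif

open Groth.Agent.Helper1

section

variable (A : Type u) [CommRing A] [IsDomain A] [IsNoetherianRing A] (hdim : ringKrullDim A = 2)
  (X : Scheme.{u}) [X.Over (Spec (CommRingCat.of A))] [IsProper (X ↘ Spec (CommRingCat.of A))]
  [IsIntegral X]
  (hbir : ∃ U : (Spec (CommRingCat.of A)).Opens, (U : Set (Spec (CommRingCat.of A))).Nonempty ∧
    IsIso ((X ↘ Spec (CommRingCat.of A)) ∣_ U))

include hdim hbir in
theorem hd1_of_modification :
    ∀ y, topologicalKrullDim ↥((X ↘ Spec (CommRingCat.of A)).fiber y) ≤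
      ((1 : ℕ) : WithBot ℕ∞) := by
  obtain ⟨U, hUne, hU⟩ := hbir
  have hdS : topologicalKrullDim (Spec (CommRingCat.of A)) = 2 := by
    rw [← hdim]
    exact PrimeSpectrum.topologicalKrullDim_eq_ringKrullDim A
  have hdX : topologicalKrullDim X = 2 :=
    (dim_eq (X ↘ Spec (CommRingCat.of A)) U hUne hU).trans hdS
  intro y
  rw [Groth.Agent.Lib.Helper4.FibDim1.topologicalKrullDim_fiber_eq, Nat.cast_one]
  exact ResolEuler.krullDim_fiber_le_one (X ↘ Spec (CommRingCat.of A)) U hU hUne hdX y

include hdim hbir in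
/-- `H^p(X, F) = 0` for `p ≥ 2` and `F` quasi-coherent on a modification of `Spec A`, `dim A = 2` -/
theorem subsingleton_HH_two_le (F : X.Modules) (hF : Coh.IsQCoh F) (p : ℕ) (hp : 2 ≤ p) :
    Subsingleton (Coh.HH X F p) := by
  haveI : HasInjectiveResolutions X.Modules := inferInstance
  haveI : IsLocallyNoetherian X :=
    LocallyOfFiniteType.isLocallyNoetherian (X ↘ Spec (CommRingCat.of A))
  haveI : CompactSpace X :=
    QuasiCompact.compactSpace_of_compactSpace (X ↘ Spec (CommRingCat.of A))
  haveI : QuasiSeparatedSpace X :=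
    quasiSeparatedSpace_of_quasiSeparated (X ↘ Spec (CommRingCat.of A))
  have hd1 := hd1_of_modification A hdim X hbir
  haveI : F.IsQuasicoherent := hF
  exact QcSum.subsingleton_HH_of_ft_subs F p (fun G i _ hq hft =>
    subsingleton_HH_of_fiber_dim A X 1 hd1 G ⟨hq, hft⟩ p (by omega))

include hdim hbir in
/-- `H¹(X, F) = 0` for `F` quasi-coherent and globally generated when `H¹(X, O_X) = 0` -/
theorem subsingleton_HH_one_of_gg (h1 : Subsingleton (Coh.HH X (Coh.structureModule X) 1))
    (F : X.Modules) (hF : Coh.IsQCoh F) (hgg : Curv2.IsGloballyGenerated F) :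
    Subsingleton (Coh.HH X F 1) := by
  haveI : HasInjectiveResolutions X.Modules := inferInstance
  haveI : CompactSpace X :=
    QuasiCompact.compactSpace_of_compactSpace (X ↘ Spec (CommRingCat.of A))
  haveI : QuasiSeparatedSpace X :=
    quasiSeparatedSpace_of_quasiSeparated (X ↘ Spec (CommRingCat.of A))
  obtain ⟨ι, p, hp⟩ := hgg
  haveI := hp
  haveI : F.IsQuasicoherent := hF
  have hfree : (qc X) (SheafOfModules.free ι : X.Modules) := inferInstance
  have hK : (qc X) (kernel p) := (qc X).prop_kernel p hfree hF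
  have hH2K : Subsingleton (Coh.HH X (kernel p) 2) :=
    subsingleton_HH_two_le A hdim X hbir (kernel p) hK 2 le_rfl
  have hH1free : Subsingleton (Coh.HH X (SheafOfModules.free ι : X.Modules) 1) :=
    ColimCoh.subsingleton_HH_sigma (fun _ : ι => Coh.structureModule X) 1 (fun _ => h1)
  have hS : (ShortComplex.mk (kernel.ι p) p (kernel.condition p)).ShortExact :=
    ShortComplex.ShortExact.mk' (ShortComplex.exact_kernel p) inferInstance hp
  have hex := (TH A X).exact₃ _ hS 1 2 rfl
  have hz1 : IsZero ((HModF A X 1).obj (SheafOfModules.free ι : X.Modules)) :=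
    @ModuleCat.isZero_of_subsingleton _ _ _ hH1free
  have hz2 : IsZero ((HModF A X 2).obj (kernel p)) :=
    @ModuleCat.isZero_of_subsingleton _ _ _ hH2K
  have hz : IsZero ((HModF A X 1).obj F) :=
    hex.isZero_of_both_zeros (hz1.eq_of_src _ _) (hz2.eq_of_tgt _ _)
  exact ModuleCat.subsingleton_of_isZero hz

end

end Groth.Agent.Helper1.Modif
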