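import Mathlib
import Groth.Agent.Lib.Helper1.BlowChart1
import Groth.Agent.Lib.Helper1.Modif3
import Groth.Agent.Lib.Helper1.MVsurj

/-!
# `H¹` of the blow-up of `Spec A` in a two-generated ideal
-/

set_option autoImplicit false
set_option backward.isDefEq.respectTransparency.types false
set_option synthInstance.maxHeartbeats 400000
universe u
open CategoryTheory CategoryTheory.Limits AlgebraicGeometry TopologicalSpace Opposite
open Groth.Agent.Lib.Helper4.HModDelta1 Groth.Agent.Lib.Helper4.QCohAb1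

namespace Groth.Agent.Helper1.BlowH1

open Groth.Agent.Lead.Blow Groth.Agent.Helper1 HomogeneousLocalization

section IdealAlg

variable {A : Type*} [CommRing A]

theorem pow_one_add_le (P J0 J1 : Ideal A) (hP : P = J0 ⊔ J1) (b : ℕ) :
    P ^ (1 + b) ≤ J0 * P ^ b ⊔ J1 ^ b * P := by
  have hJ1 : J1 ≤ P := hP ▸ le_sup_right
  induction b with
  | zero =>
    rw [add_zero, pow_one, pow_zero, pow_zero, Ideal.one_eq_top, Ideal.mul_top, Ideal.top_mul]
    exact le_sup_right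
  | succ b ih =>
    calc P ^ (1 + (b + 1)) = P ^ (1 + b) * P := by rw [← add_assoc, pow_succ]
    _ ≤ (J0 * P ^ b ⊔ J1 ^ b * P) * P := Ideal.mul_mono_left ih
    _ = J0 * P ^ b * P ⊔ J1 ^ b * P * P := Ideal.sup_mul _ _ _
    _ ≤ J0 * P ^ (b + 1) ⊔ J1 ^ (b + 1) * P := by
      refine sup_le ?_ ?_
      · exact (by rw [mul_assoc, ← pow_succ] : J0 * P ^ b * P = J0 * P ^ (b + 1)).le.trans
          le_sup_left
      · calc J1 ^ b * P * P = J1 ^ b * P * (J0 ⊔ J1) := by rw [← hP]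
        _ = J1 ^ b * P * J0 ⊔ J1 ^ b * P * J1 := Ideal.mul_sup _ _ _
        _ ≤ J0 * P ^ (b + 1) ⊔ J1 ^ (b + 1) * P := by
          refine sup_le ?_ ?_
          · have h1 : J1 ^ b * P * J0 = J0 * (J1 ^ b * P) := by ring
            rw [h1]
            exact le_sup_of_le_left (Ideal.mul_mono_right
              ((Ideal.mul_mono_left (Ideal.pow_right_mono hJ1 b)).trans_eq (pow_succ P b).symm))
          · have h2 : J1 ^ b * P * J1 = J1 ^ (b + 1) * P := by rw [pow_succ]; ring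
            exact h2.le.trans le_sup_right

theorem pow_add_le (P J0 J1 : Ideal A) (hP : P = J0 ⊔ J1) :
    ∀ a b : ℕ, P ^ (a + b) ≤ J0 ^ a * P ^ b ⊔ J1 ^ b * P ^ a := by
  have hJ0 : J0 ≤ P := hP ▸ le_sup_left
  intro a
  induction a with
  | zero =>
    intro b
    rw [zero_add, pow_zero, Ideal.one_eq_top, Ideal.top_mul]
    exact le_sup_left
  | succ a ih =>
    intro b
    rcases b with _ | b
    · rw [add_zero, pow_zero, pow_zero, Ideal.one_eq_top, Ideal.mul_top, Ideal.top_mul]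
      exact le_sup_right
    · calc P ^ (a + 1 + (b + 1)) = P ^ (a + (b + 1)) * P := by
            rw [← pow_succ]; congr 1; omega
      _ ≤ (J0 ^ a * P ^ (b + 1) ⊔ J1 ^ (b + 1) * P ^ a) * P := Ideal.mul_mono_left (ih (b + 1))
      _ = J0 ^ a * P ^ (b + 1) * P ⊔ J1 ^ (b + 1) * P ^ a * P := Ideal.sup_mul _ _ _
      _ ≤ J0 ^ (a + 1) * P ^ (b + 1) ⊔ J1 ^ (b + 1) * P ^ (a + 1) := by
        refine sup_le ?_ ?_
        · calc J0 ^ a * P ^ (b + 1) * P = J0 ^ a * P ^ (1 + (b + 1)) := by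
                rw [mul_assoc, ← pow_succ]; congr 2; omega
          _ ≤ J0 ^ a * (J0 * P ^ (b + 1) ⊔ J1 ^ (b + 1) * P) :=
                Ideal.mul_mono_right (pow_one_add_le P J0 J1 hP (b + 1))
          _ = J0 ^ a * (J0 * P ^ (b + 1)) ⊔ J0 ^ a * (J1 ^ (b + 1) * P) := Ideal.mul_sup _ _ _
          _ ≤ J0 ^ (a + 1) * P ^ (b + 1) ⊔ J1 ^ (b + 1) * P ^ (a + 1) := by
            refine sup_le ?_ ?_
            · have h1 : J0 ^ a * (J0 * P ^ (b + 1)) = J0 ^ (a + 1) * P ^ (b + 1) := by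
                rw [pow_succ]; ring
              exact h1.le.trans le_sup_left
            · have h2 : J0 ^ a * (J1 ^ (b + 1) * P) = J1 ^ (b + 1) * (J0 ^ a * P) := by ring
              rw [h2]
              exact le_sup_of_le_right (Ideal.mul_mono_right
                ((Ideal.mul_mono_left (Ideal.pow_right_mono hJ0 a)).trans_eq (pow_succ P a).symm))
        · have h3 : J1 ^ (b + 1) * P ^ a * P = J1 ^ (b + 1) * P ^ (a + 1) := by
            rw [mul_assoc, ← pow_succ]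
          exact h3.le.trans le_sup_right

/-- the decomposition of `I^(2n)` for a two-generated ideal -/
theorem exists_decomp (I : Ideal A) (g0 g1 : A) (hP : I = Ideal.span {g0} ⊔ Ideal.span {g1})
    (n : ℕ) (c : A) (hc : c ∈ I ^ (n + n)) :
    ∃ c0 ∈ I ^ n, ∃ c1 ∈ I ^ n, c = g0 ^ n * c0 + g1 ^ n * c1 := by
  have h := pow_add_le _ _ _ hP n n hc
  rw [Ideal.span_singleton_pow, Ideal.span_singleton_pow] at h
  obtain ⟨u, hu, v, hv, rfl⟩ := Submodule.mem_sup.1 h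
  obtain ⟨c0, hc0, rfl⟩ := Ideal.mem_span_singleton_mul.1 hu
  obtain ⟨c1, hc1, rfl⟩ := Ideal.mem_span_singleton_mul.1 hv
  exact ⟨c0, hc0, c1, hc1, rfl⟩

end IdealAlg

section Rees

variable {A : Type u} [CommRing A] (I : Ideal A) (g0 g1 : A) (h0 : g0 ∈ I) (h1 : g1 ∈ I)
  (hdec : ∀ (n : ℕ) (c : A), c ∈ I ^ (n + n) →
    ∃ c0 ∈ I ^ n, ∃ c1 ∈ I ^ n, c = g0 ^ n * c0 + g1 ^ n * c1)

include hdec in
theorem away_decomp (x : ↥(reesAlgebra I)) (hx : x = tX I g0 h0 * tX I g1 h1)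
    (hx' : x = tX I g1 h1 * tX I g0 h0) (z : Away (gr I) x) :
    ∃ (z0 : Away (gr I) (tX I g0 h0)) (z1 : Away (gr I) (tX I g1 h1)),
      z = awayMap (gr I) (tX_mem I g1 h1) hx z0 + awayMap (gr I) (tX_mem I g0 h0) hx' z1 := by
  have hxm : x ∈ gr I (1 + 1) :=
    hx ▸ SetLike.mul_mem_graded (tX_mem I g0 h0) (tX_mem I g1 h1)
  obtain ⟨n, a, ha, rfl⟩ := Away.mk_surjective (gr I) hxm z
  have ha' : a ∈ gr I (n + n) := by
    have hn : n • (1 + 1) = n + n := by simp [mul_two]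
    rwa [hn] at ha
  obtain ⟨c, hc, rfl⟩ := exists_mono_of_mem I (n + n) a ha'
  obtain ⟨c0, hc0, c1, hc1, hcc⟩ := hdec n c hc
  refine ⟨Away.mk (gr I) (tX_mem I g0 h0) n (mono I n c1 hc1)
      (by simpa using mono_mem I n c1 hc1),
    Away.mk (gr I) (tX_mem I g1 h1) n (mono I n c0 hc0) (by simpa using mono_mem I n c0 hc0), ?_⟩
  rw [awayMap_mk, awayMap_mk]
  apply HomogeneousLocalization.val_injective
  rw [HomogeneousLocalization.val_add, Away.val_mk, Away.val_mk, Away.val_mk,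
    Localization.add_mk_self]
  congr 1
  rw [mono_pow, mono_pow, mono_mul, mono_mul, ← mono_add]
  exact mono_congr I _ _ (by ring) (by rw [hcc]; ring)

end Rees

section Geo

theorem res_res' (X : Scheme.{u}) {U V W : X.Opens} (h1 : V ≤ U) (h2 : W ≤ V) (s : Γ(X, U)) :
    (X.presheaf.map (homOfLE h2).op).hom ((X.presheaf.map (homOfLE h1).op).hom s) =
      (X.presheaf.map (homOfLE (h2.trans h1)).op).hom s := by
  have h : X.presheaf.map (homOfLE h1).op ≫ X.presheaf.map (homOfLE h2).op =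
      X.presheaf.map (homOfLE (h2.trans h1)).op := by
    rw [← Functor.map_comp]
    rfl
  rw [← h]
  rfl

theorem res_self' (X : Scheme.{u}) {U : X.Opens} (h : U ≤ U) (s : Γ(X, U)) :
    (X.presheaf.map (homOfLE h).op).hom s = s := by
  have h' : X.presheaf.map (homOfLE h).op = 𝟙 _ := by
    have h0 : (homOfLE h).op = 𝟙 (op U) := rfl
    rw [h0]
    exact X.presheaf.map_id _
  rw [h']
  rfl

theorem decomp_of_iso {X P : Scheme.{u}} (θ : X ⟶ P) [IsIso θ] (D0 D1 : P.Opens)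
    (h : ∀ e : Γ(P, D0 ⊓ D1), ∃ (a : Γ(P, D0)) (b : Γ(P, D1)),
      e = (P.presheaf.map (homOfLE (inf_le_left : D0 ⊓ D1 ≤ D0)).op).hom a +
        (P.presheaf.map (homOfLE (inf_le_right : D0 ⊓ D1 ≤ D1)).op).hom b)
    (e : Γ(X, θ ⁻¹ᵁ D0 ⊓ θ ⁻¹ᵁ D1)) :
    ∃ (a : Γ(X, θ ⁻¹ᵁ D0)) (b : Γ(X, θ ⁻¹ᵁ D1)),
      e = (X.presheaf.map (homOfLE (inf_le_left : θ ⁻¹ᵁ D0 ⊓ θ ⁻¹ᵁ D1 ≤ θ ⁻¹ᵁ D0)).op).hom a +
        (X.presheaf.map
          (homOfLE (inf_le_right : θ ⁻¹ᵁ D0 ⊓ θ ⁻¹ᵁ D1 ≤ θ ⁻¹ᵁ D1)).op).hom b := by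
  obtain ⟨e', he'⟩ := (ConcreteCategory.bijective_of_isIso (θ.app (D0 ⊓ D1))).2
    (show Γ(X, θ ⁻¹ᵁ (D0 ⊓ D1)) from e)
  obtain ⟨a, b, hab⟩ := h e'
  refine ⟨(θ.app D0).hom a, (θ.app D1).hom b, ?_⟩
  have n0 := congrArg (fun φ : Γ(P, D0) ⟶ Γ(X, θ ⁻¹ᵁ (D0 ⊓ D1)) => φ.hom a)
    (θ.naturality (homOfLE (inf_le_left : D0 ⊓ D1 ≤ D0)).op)
  have n1 := congrArg (fun φ : Γ(P, D1) ⟶ Γ(X, θ ⁻¹ᵁ (D0 ⊓ D1)) => φ.hom b)
    (θ.naturality (homOfLE (inf_le_right : D0 ⊓ D1 ≤ D1)).op)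
  have he : e = (θ.app (D0 ⊓ D1)).hom e' := he'.symm
  rw [he, hab, map_add]
  exact congrArg₂ (· + ·) n0 n1

variable {A : Type u} [CommRing A] (I : Ideal A) (g0 g1 : A) (h0 : g0 ∈ I) (h1 : g1 ∈ I)
  (hdec : ∀ (n : ℕ) (c : A), c ∈ I ^ (n + n) →
    ∃ c0 ∈ I ^ n, ∃ c1 ∈ I ^ n, c = g0 ^ n * c0 + g1 ^ n * c1)

include hdec in
theorem proj_decomp
    (e : Γ(Proj (gr I), Proj.basicOpen (gr I) (tX I g0 h0) ⊓ Proj.basicOpen (gr I) (tX I g1 h1))) :
    ∃ (a : Γ(Proj (gr I), Proj.basicOpen (gr I) (tX I g0 h0)))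
      (b : Γ(Proj (gr I), Proj.basicOpen (gr I) (tX I g1 h1))),
      e = ((Proj (gr I)).presheaf.map (homOfLE (inf_le_left :
          Proj.basicOpen (gr I) (tX I g0 h0) ⊓ Proj.basicOpen (gr I) (tX I g1 h1) ≤
            Proj.basicOpen (gr I) (tX I g0 h0))).op).hom a +
        ((Proj (gr I)).presheaf.map (homOfLE (inf_le_right :
          Proj.basicOpen (gr I) (tX I g0 h0) ⊓ Proj.basicOpen (gr I) (tX I g1 h1) ≤
            Proj.basicOpen (gr I) (tX I g1 h1))).op).hom b := by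
  obtain ⟨x, hx⟩ : ∃ x, x = tX I g0 h0 * tX I g1 h1 := ⟨_, rfl⟩
  have hx' : x = tX I g1 h1 * tX I g0 h0 := hx.trans (mul_comm _ _)
  have hxm : x ∈ gr I (1 + 1) :=
    hx ▸ SetLike.mul_mem_graded (tX_mem I g0 h0) (tX_mem I g1 h1)
  have hD : Proj.basicOpen (gr I) x =
      Proj.basicOpen (gr I) (tX I g0 h0) ⊓ Proj.basicOpen (gr I) (tX I g1 h1) := by
    rw [hx, Proj.basicOpen_mul]
  have hle0 : Proj.basicOpen (gr I) x ≤ Proj.basicOpen (gr I) (tX I g0 h0) :=
    Proj.basicOpen_mono _ _ _ ⟨_, hx⟩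
  have hle1 : Proj.basicOpen (gr I) x ≤ Proj.basicOpen (gr I) (tX I g1 h1) :=
    Proj.basicOpen_mono _ _ _ ⟨_, hx'⟩
  obtain ⟨z, hz⟩ := (ConcreteCategory.bijective_of_isIso
    (Proj.basicOpenIsoAway (gr I) x hxm (by norm_num)).hom).2
    (((Proj (gr I)).presheaf.map (homOfLE hD.le).op).hom e)
  rw [Proj.basicOpenIsoAway_hom] at hz
  obtain ⟨z0, z1, hzz⟩ := away_decomp I g0 g1 h0 h1 hdec x hx hx' z
  refine ⟨(Proj.awayToSection (gr I) (tX I g0 h0)).hom z0,
    (Proj.awayToSection (gr I) (tX I g1 h1)).hom z1, ?_⟩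
  have n0 := congrArg (fun φ : CommRingCat.of (Away (gr I) (tX I g0 h0)) ⟶
      Γ(Proj (gr I), Proj.basicOpen (gr I) x) => φ.hom z0)
    (Proj.awayMap_awayToSection (gr I) (tX_mem I g1 h1) hx)
  have n1 := congrArg (fun φ : CommRingCat.of (Away (gr I) (tX I g1 h1)) ⟶
      Γ(Proj (gr I), Proj.basicOpen (gr I) x) => φ.hom z1)
    (Proj.awayMap_awayToSection (gr I) (tX_mem I g0 h0) hx')
  have hz' : ((Proj (gr I)).presheaf.map (homOfLE hD.le).op).hom e =
      ((Proj (gr I)).presheaf.map (homOfLE hle0).op).hom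
        ((Proj.awayToSection (gr I) (tX I g0 h0)).hom z0) +
      ((Proj (gr I)).presheaf.map (homOfLE hle1).op).hom
        ((Proj.awayToSection (gr I) (tX I g1 h1)).hom z1) := by
    rw [← hz, hzz, map_add]
    exact congrArg₂ (· + ·) n0 n1
  have key := congrArg (((Proj (gr I)).presheaf.map (homOfLE hD.ge).op).hom) hz'
  rw [map_add, res_res', res_res', res_res', res_self'] at key
  exact key

end Geo

section Main

variable {A : Type u} [CommRing A] [IsNoetherianRing A] (I : Ideal A)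

/-- `H¹(X, O_X) = 0` for the blow-up of `Spec A` in a two-generated ideal -/
theorem subsingleton_H1_structure (g : Fin 2 → A) (hg : I = Ideal.span (Set.range g))
    {X : Scheme.{u}} (b : X ⟶ Spec (CommRingCat.of A)) (hb : BlowUp.IsBlowUp b (specIdeal I)) :
    Subsingleton (Coh.HH X (Coh.structureModule X) 1) := by
  have hgI : ∀ i, g i ∈ I := fun i => hg ▸ Ideal.subset_span ⟨i, rfl⟩
  have hP : I = Ideal.span {g 0} ⊔ Ideal.span {g 1} := by
    rw [hg, ← Ideal.span_union]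
    congr 1
    ext y
    simp only [Set.mem_range, Set.mem_union, Set.mem_singleton_iff, Fin.exists_fin_two]
    constructor
    · rintro (h | h)
      · exact Or.inl h.symm
      · exact Or.inr h.symm
    · rintro (h | h)
      · exact Or.inl h.symm
      · exact Or.inr h.symm
  have hdec := exists_decomp I (g 0) (g 1) hP
  obtain ⟨θ, -⟩ := exists_iso_of_isBlowUp (specIdeal I) b (bl I) hb (isBlowUp_bl I)
  have hcov := Proj.iSup_basicOpen_eq_top (gr I) (fun i => tX I (g i) (hgI i))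
    (BlowChart.irrelevant_le_span_gens I g hgI hg.le)
  have hcov2 : Proj.basicOpen (gr I) (tX I (g 0) (hgI 0)) ⊔
      Proj.basicOpen (gr I) (tX I (g 1) (hgI 1)) = ⊤ := by
    rw [eq_top_iff, ← hcov]
    refine iSup_le fun i => ?_
    fin_cases i
    · exact le_sup_left
    · exact le_sup_right
  have hUaff0 : IsAffineOpen (θ.hom ⁻¹ᵁ Proj.basicOpen (gr I) (tX I (g 0) (hgI 0))) := by
    have h1 : IsAffineOpen (Proj.basicOpen (gr I) (tX I (g 0) (hgI 0))) := by
      rw [← opensRange_chartι I (g 0) (hgI 0)]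
      exact isAffineOpen_opensRange _
    exact h1.preimage_of_isIso θ.hom
  have hUaff1 : IsAffineOpen (θ.hom ⁻¹ᵁ Proj.basicOpen (gr I) (tX I (g 1) (hgI 1))) := by
    have h1 : IsAffineOpen (Proj.basicOpen (gr I) (tX I (g 1) (hgI 1))) := by
      rw [← opensRange_chartι I (g 1) (hgI 1)]
      exact isAffineOpen_opensRange _
    exact h1.preimage_of_isIso θ.hom
  have hUtop : θ.hom ⁻¹ᵁ Proj.basicOpen (gr I) (tX I (g 0) (hgI 0)) ⊔
      θ.hom ⁻¹ᵁ Proj.basicOpen (gr I) (tX I (g 1) (hgI 1)) = ⊤ := by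
    rw [← Scheme.Hom.preimage_sup, hcov2]
    rfl
  haveI := IdealModL.isQuasicoherent_structureModule (X := X)
  have hMV := MVsurj.subsingleton_sup_of_surj (X := X.toTopCat)
    (Coh.toAb (Coh.structureModule X))
    (θ.hom ⁻¹ᵁ Proj.basicOpen (gr I) (tX I (g 0) (hgI 0)))
    (θ.hom ⁻¹ᵁ Proj.basicOpen (gr I) (tX I (g 1) (hgI 1)))
    (QcAcyc.subsingleton_HU (Coh.structureModule X) _ hUaff0 0)
    (QcAcyc.subsingleton_HU (Coh.structureModule X) _ hUaff1 0)
    (fun e => decomp_of_iso θ.hom _ _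
      (proj_decomp I (g 0) (g 1) (hgI 0) (hgI 1) hdec) e)
  rw [hUtop] at hMV
  exact @Equiv.subsingleton _ _ (CohUtil.HHequivHU (Coh.structureModule X) 1).toEquiv hMV

end Main

section GG

/-- `H¹(X, F) = 0` for `F` quasi-coherent and globally generated when `H¹(X, O_X) = 0` and
`H²` vanishes on quasi-coherent modules -/
theorem subsingleton_HH_one_of_gg' (A : Type u) [CommRing A] (X : Scheme.{u})
    [X.Over (Spec (CommRingCat.of A))] [CompactSpace X] [QuasiSeparatedSpace X] (h1 : Subsingleton (Coh.HH X (Coh.structureModule X) 1))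
    (h2 : ∀ K : X.Modules, Coh.IsQCoh K → Subsingleton (Coh.HH X K 2))
    (F : X.Modules) (hF : Coh.IsQCoh F) (hgg : Curv2.IsGloballyGenerated F) :
    Subsingleton (Coh.HH X F 1) := by
  haveI : HasInjectiveResolutions X.Modules := inferInstance
  obtain ⟨ι, p, hp⟩ := hgg
  haveI := hp
  haveI : F.IsQuasicoherent := hF
  have hfree : (qc X) (SheafOfModules.free ι : X.Modules) := inferInstance
  have hK : (qc X) (kernel p) := (qc X).prop_kernel p hfree hF
  have hH2K : Subsingleton (Coh.HH X (kernel p) 2) := h2 (kernel p) hK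
  have hH1free : Subsingleton (Coh.HH X (SheafOfModules.free ι : X.Modules) 1) :=
    ColimCoh.subsingleton_HH_sigma (fun _ : ι => Coh.structureModule X) 1 (fun _ => h1)
  have hS : (ShortComplex.mk (kernel.ι p) p (kernel.condition p)).ShortExact :=
    ShortComplex.ShortExact.mk' (ShortComplex.exact_kernel p) inferInstance hp
  have hex := (TH A X).exact₃ _ hS 1 2 rfl
  have hz1 : IsZero ((HModF A X 1).obj (SheafOfModules.free ι : X.Modules)) :=
    @ModuleCat.isZero_of_subsingleton _ _ _ hH1free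
  have hz2 : IsZero ((HModF A X 2).obj (kernel p)) :=
    @ModuleCat.isZero_of_subsingleton _ _ _ hH2K
  have hz : IsZero ((HModF A X 1).obj F) :=
    hex.isZero_of_both_zeros (hz1.eq_of_src _ _) (hz2.eq_of_tgt _ _)
  exact ModuleCat.subsingleton_of_isZero hz

end GG

end Groth.Agent.Helper1.BlowH1
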