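import Mathlib
import Groth.Prelude.Def_ProjUP
import Groth.Agent.Lib.Helper1.PullSec
import Groth.Agent.Lib.Helper1.PullGen

/-!
# Tracking sections through pullback isomorphisms; linear algebra for hyperplanes (helper1)
-/

set_option autoImplicit false
universe u
open CategoryTheory CategoryTheory.Limits AlgebraicGeometry TopologicalSpace Opposite

namespace Groth.Agent.Helper1.HypPn

open Groth.Agent.Helper1.QcCech Groth.Agent.Helper1 Groth.Agent.Helper1.PullSec
open Groth.Agent.Helper1.PullGen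

section Alg

variable {k R M : Type*} [Field k] [CommRing R] [AddCommGroup M] [Module R M] (ρ : k →+* R)
  {n : ℕ} (a : Fin (n + 2) → k) (p : Fin (n + 2)) (hp : a p ≠ 0)

include hp in
theorem alg_rel (S : Fin (n + 1) → M) :
    ∑ l, ρ (a l) • (Fin.insertNth p (-∑ j, ρ (a (p.succAbove j) / a p) • S j) S :
      Fin (n + 2) → M) l = 0 := by
  rw [Fin.sum_univ_succAbove _ p]
  simp only [Fin.insertNth_apply_same, Fin.insertNth_apply_succAbove]
  rw [smul_neg, Finset.smul_sum, neg_add_eq_zero]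
  refine Finset.sum_congr rfl fun j _ => ?_
  rw [smul_smul, ← map_mul]
  congr 2
  field_simp

include hp in
theorem alg_solve (v : Fin (n + 2) → M) (h : ∑ l, ρ (a l) • v l = 0) :
    v p = -∑ j, ρ (a (p.succAbove j) / a p) • v (p.succAbove j) := by
  rw [Fin.sum_univ_succAbove _ p] at h
  have h1 : ρ (a p) • v p = -∑ j, ρ (a (p.succAbove j)) • v (p.succAbove j) :=
    eq_neg_of_add_eq_zero_left h
  have h2 : v p = ρ (1 / a p) • (ρ (a p) • v p) := by
    rw [smul_smul, ← map_mul, one_div, inv_mul_cancel₀ hp, map_one, one_smul]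
  rw [h2, h1, smul_neg, Finset.smul_sum]
  congr 1
  refine Finset.sum_congr rfl fun j _ => ?_
  rw [smul_smul, ← map_mul]
  congr 2
  field_simp

end Alg

variable {X Y Z : Scheme.{u}}

theorem pullSec_eq (f : X ⟶ Y) (M : Y.Modules) (t : Γ(M, ⊤)) :
    ProjUP.pullSec f M t = σ f M ⊤ t := rfl

set_option backward.isDefEq.respectTransparency false in
/-- pulling back sections along the identity -/
theorem σ_id (M : X.Modules) (W : X.Opens) (m : Γ(M, W)) :
    ((Scheme.Modules.pullbackId X).hom.app M).app W (σ (𝟙 X) M W m) = m := by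
  have h1 := unit_conjugateEquiv Adjunction.id
    (Scheme.Modules.pullbackPushforwardAdjunction (𝟙 X)) (Scheme.Modules.pullbackId X).hom M
  rw [Scheme.Modules.conjugateEquiv_pullbackId_hom] at h1
  have h2 := congrArg (fun ψ => Scheme.Modules.Hom.app ψ W m) h1
  exact h2.symm

theorem σ_neg (f : X ⟶ Y) (M : Y.Modules) (W : Y.Opens) (m : Γ(M, W)) :
    σ f M W (-m) = -σ f M W m := map_neg _ _

theorem σ_sum (f : X ⟶ Y) (M : Y.Modules) (W : Y.Opens) {ι : Type*} (s : Finset ι)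
    (m : ι → Γ(M, W)) : σ f M W (∑ i ∈ s, m i) = ∑ i ∈ s, σ f M W (m i) := map_sum _ _ _

theorem toGlobal_comp {A : Type u} [CommRing A] (f : X ⟶ Y) (q : Y ⟶ Spec (CommRingCat.of A))
    (a : A) : f.appTop.hom (ProjUP.toGlobal q a) = ProjUP.toGlobal (f ≫ q) a := by
  unfold ProjUP.toGlobal
  rw [Scheme.Hom.comp_appTop]
  rfl

/-- `θ` carries the pullback of `t` to `u` -/
def Carries (f : X ⟶ Y) (M : Y.Modules) (N : X.Modules)
    (θ : (Scheme.Modules.pullback f).obj M ≅ N) (t : Γ(M, ⊤)) (u : Γ(N, ⊤)) : Prop :=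
  θ.hom.app ⊤ (ProjUP.pullSec f M t) = u

theorem Carries.eq {f : X ⟶ Y} {M : Y.Modules} {N : X.Modules}
    {θ : (Scheme.Modules.pullback f).obj M ≅ N} {t : Γ(M, ⊤)} {u : Γ(N, ⊤)}
    (h : Carries f M N θ t u) : θ.hom.app ⊤ (ProjUP.pullSec f M t) = u := h

theorem Carries.add {f : X ⟶ Y} {M : Y.Modules} {N : X.Modules}
    {θ : (Scheme.Modules.pullback f).obj M ≅ N} {t t' : Γ(M, ⊤)} {u u' : Γ(N, ⊤)}
    (h : Carries f M N θ t u) (h' : Carries f M N θ t' u') :
    Carries f M N θ (t + t') (u + u') := by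
  have e : ProjUP.pullSec f M (t + t') = ProjUP.pullSec f M t + ProjUP.pullSec f M t' :=
    σ_add f M ⊤ t t'
  show θ.hom.app ⊤ (ProjUP.pullSec f M (t + t')) = u + u'
  rw [e, map_add, h.eq, h'.eq]

theorem Carries.neg {f : X ⟶ Y} {M : Y.Modules} {N : X.Modules}
    {θ : (Scheme.Modules.pullback f).obj M ≅ N} {t : Γ(M, ⊤)} {u : Γ(N, ⊤)}
    (h : Carries f M N θ t u) : Carries f M N θ (-t) (-u) := by
  have e : ProjUP.pullSec f M (-t) = -ProjUP.pullSec f M t := σ_neg f M ⊤ t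
  show θ.hom.app ⊤ (ProjUP.pullSec f M (-t)) = -u
  rw [e, map_neg, h.eq]

theorem Carries.zero (f : X ⟶ Y) (M : Y.Modules) (N : X.Modules)
    (θ : (Scheme.Modules.pullback f).obj M ≅ N) : Carries f M N θ 0 0 := by
  have e : ProjUP.pullSec f M 0 = 0 := σ_zero f M ⊤
  show θ.hom.app ⊤ (ProjUP.pullSec f M 0) = 0
  rw [e, map_zero]

theorem Carries.smul {f : X ⟶ Y} {M : Y.Modules} {N : X.Modules}
    {θ : (Scheme.Modules.pullback f).obj M ≅ N} {t : Γ(M, ⊤)} {u : Γ(N, ⊤)}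
    (h : Carries f M N θ t u) (c : Γ(Y, ⊤)) :
    Carries f M N θ (c • t) (f.appTop.hom c • u) := by
  have e : ProjUP.pullSec f M (c • t) = f.appTop.hom c • ProjUP.pullSec f M t :=
    σ_smul f M ⊤ c t
  show θ.hom.app ⊤ (ProjUP.pullSec f M (c • t)) = f.appTop.hom c • u
  rw [e, Scheme.Modules.Hom.app_smul, h.eq]

theorem Carries.sum {f : X ⟶ Y} {M : Y.Modules} {N : X.Modules}
    {θ : (Scheme.Modules.pullback f).obj M ≅ N} {ι : Type*} (s : Finset ι)
    {t : ι → Γ(M, ⊤)} {u : ι → Γ(N, ⊤)}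
    (h : ∀ i ∈ s, Carries f M N θ (t i) (u i)) :
    Carries f M N θ (∑ i ∈ s, t i) (∑ i ∈ s, u i) := by
  classical
  induction s using Finset.induction_on with
  | empty => simpa using Carries.zero f M N θ
  | insert a s ha ih =>
    rw [Finset.sum_insert ha, Finset.sum_insert ha]
    exact (h a (Finset.mem_insert_self a s)).add
      (ih fun i hi => h i (Finset.mem_insert_of_mem hi))

/-- the composite isomorphism -/
noncomputable def compIso (f : X ⟶ Y) (g : Y ⟶ Z) (M : Z.Modules) (N : Y.Modules) (Q : X.Modules)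
    (θ : (Scheme.Modules.pullback g).obj M ≅ N) (θ' : (Scheme.Modules.pullback f).obj N ≅ Q) :
    (Scheme.Modules.pullback (f ≫ g)).obj M ≅ Q :=
  ((Scheme.Modules.pullbackComp f g).symm.app M) ≪≫ (Scheme.Modules.pullback f).mapIso θ ≪≫ θ'

theorem Carries.comp {f : X ⟶ Y} {g : Y ⟶ Z} {M : Z.Modules} {N : Y.Modules} {Q : X.Modules}
    {θ : (Scheme.Modules.pullback g).obj M ≅ N} {θ' : (Scheme.Modules.pullback f).obj N ≅ Q}
    {t : Γ(M, ⊤)} {u : Γ(N, ⊤)} {w : Γ(Q, ⊤)}
    (h : Carries g M N θ t u) (h' : Carries f N Q θ' u w) :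
    Carries (f ≫ g) M Q (compIso f g M N Q θ θ') t w := by
  have e1 : ((Scheme.Modules.pullbackComp f g).inv.app M).app ⊤ (ProjUP.pullSec (f ≫ g) M t) =
      ProjUP.pullSec f _ (ProjUP.pullSec g M t) := σ_comp f g M ⊤ t
  have e2 : ((Scheme.Modules.pullback f).map θ.hom).app ⊤
      (ProjUP.pullSec f _ (ProjUP.pullSec g M t)) =
      ProjUP.pullSec f N (θ.hom.app ⊤ (ProjUP.pullSec g M t)) :=
    σ_natural f θ.hom ⊤ (ProjUP.pullSec g M t)
  show θ'.hom.app ⊤ (((Scheme.Modules.pullback f).map θ.hom).app ⊤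
    (((Scheme.Modules.pullbackComp f g).inv.app M).app ⊤ (ProjUP.pullSec (f ≫ g) M t))) = w
  rw [e1, e2, h.eq, h'.eq]

theorem Carries.id (M : X.Modules) (t : Γ(M, ⊤)) :
    Carries (𝟙 X) M M ((Scheme.Modules.pullbackId X).app M) t t := σ_id M ⊤ t

theorem Carries.refl (f : X ⟶ Y) (M : Y.Modules) (t : Γ(M, ⊤)) :
    Carries f M _ (Iso.refl _) t (ProjUP.pullSec f M t) := rfl

end Groth.Agent.Helper1.HypPn
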