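import Mathlib
import Groth.Prelude.Def_ProjUP
import Groth.Agent.Lib.Helper1.ProjUP7
import Groth.Agent.Lib.Helper1.ProjUP4
import Groth.Agent.Lib.Helper1.HypPnA

/-!
# Closed immersion criterion, part A: stalks of invertible modules and pulled back sections (helper1)
-/

set_option autoImplicit false
universe u
open CategoryTheory CategoryTheory.Limits AlgebraicGeometry TopologicalSpace Opposite

namespace Groth.Agent.Helper1.CIc

open Groth.Agent.Helper1.QcCech Groth.Agent.Helper1.SubSh Groth.Agent.Helper1.LGen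
open Groth.Agent.Helper1 Groth.Agent.Helper1.PullSec Groth.Agent.Helper1.PullGen
open Groth.Agent.Helper1.ProjUP4 Groth.Agent.Helper1.HypPn

section Stalk

variable {X : Scheme.{u}} {L : X.Modules} {W : X.Opens} {a : Γ(L, W)}

theorem exists_smul_germ (ha : IsGen L W a) {x : X} (hx : x ∈ W) (v : ↑(L.presheaf.stalk x)) :
    ∃ ρ : ↑(X.presheaf.stalk x), v = ρ • (L.presheaf.germ W x hx).hom a := by
  obtain ⟨V, hVW, hxV, m, rfl⟩ := TopCat.Presheaf.exists_le_germ_eq L.presheaf v hx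
  obtain ⟨r, hr⟩ := (ha V hVW).2 m
  refine ⟨(X.presheaf.germ V x hxV).hom r, ?_⟩
  have e0 : (L.presheaf.germ V x hxV).hom (res L hVW a) = (L.presheaf.germ W x hx).hom a :=
    TopCat.Presheaf.germ_res_apply L.presheaf (homOfLE hVW) x hxV a
  rw [← e0, ← germ_smul']
  exact congrArg (fun y => (L.presheaf.germ V x hxV).hom y) hr.symm

theorem smul_germ_eq_zero (ha : IsGen L W a) {x : X} (hx : x ∈ W) (δ : ↑(X.presheaf.stalk x))
    (h : δ • (L.presheaf.germ W x hx).hom a = 0) : δ = 0 := by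
  obtain ⟨V, hVW, hxV, d, rfl⟩ := TopCat.Presheaf.exists_le_germ_eq X.presheaf δ hx
  have e0 : (L.presheaf.germ V x hxV).hom (res L hVW a) = (L.presheaf.germ W x hx).hom a :=
    TopCat.Presheaf.germ_res_apply L.presheaf (homOfLE hVW) x hxV a
  have h3 : (L.presheaf.germ V x hxV).hom (d • res L hVW a) =
      (L.presheaf.germ V x hxV).hom (0 : Γ(L, V)) := by
    rw [germ_smul', e0, map_zero]
    exact h
  obtain ⟨V', hxV', i1, i2, h4⟩ := TopCat.Presheaf.germ_eq L.presheaf x hxV hxV _ _ h3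
  have h5 : res L i1.le (d • res L hVW a) = res L i1.le (0 : Γ(L, V)) := by
    have : i1 = i2 := Subsingleton.elim _ _
    subst this
    exact h4
  rw [res_smul, res_res, map_zero] at h5
  have h6 : resR i1.le d • res L (i1.le.trans hVW) a =
      (0 : Γ(X, V')) • res L (i1.le.trans hVW) a := by
    rw [zero_smul]; exact h5
  have h7 : resR i1.le d = 0 := (ha V' (i1.le.trans hVW)).1 h6
  have h8 : (X.presheaf.germ V x hxV).hom d = (X.presheaf.germ V' x hxV').hom (resR i1.le d) :=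
    (TopCat.Presheaf.germ_res_apply X.presheaf i1 x hxV' d).symm
  rw [h8, h7, map_zero]

/-- the stalk is free on the germ of a generator -/
noncomputable def stalkEquiv (ha : IsGen L W a) {x : X} (hx : x ∈ W) :
    ↑(X.presheaf.stalk x) ≃ₗ[↑(X.presheaf.stalk x)] ↑(L.presheaf.stalk x) :=
  LinearEquiv.ofBijective
    (LinearMap.toSpanSingleton ↑(X.presheaf.stalk x) ↑(L.presheaf.stalk x)
      ((L.presheaf.germ W x hx).hom a))
    ⟨by
      intro ρ ρ' h
      have h0 : ρ • (L.presheaf.germ W x hx).hom a = ρ' • (L.presheaf.germ W x hx).hom a := h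
      have h' : (ρ - ρ') • (L.presheaf.germ W x hx).hom a = 0 := by
        rw [sub_smul]; exact sub_eq_zero.2 h0
      exact sub_eq_zero.1 (smul_germ_eq_zero ha hx _ h'),
     by
      intro v
      obtain ⟨ρ, hρ⟩ := exists_smul_germ ha hx v
      exact ⟨ρ, hρ.symm⟩⟩

theorem stalkEquiv_apply (ha : IsGen L W a) {x : X} (hx : x ∈ W) (ρ : ↑(X.presheaf.stalk x)) :
    stalkEquiv ha hx ρ = ρ • (L.presheaf.germ W x hx).hom a := rfl

theorem smul_germ_mem_iff (ha : IsGen L W a) {x : X} (hx : x ∈ W)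
    (I : Ideal ↑(X.presheaf.stalk x)) (ρ : ↑(X.presheaf.stalk x)) :
    ρ • (L.presheaf.germ W x hx).hom a ∈
      I • (⊤ : Submodule ↑(X.presheaf.stalk x) ↑(L.presheaf.stalk x)) ↔ ρ ∈ I := by
  constructor
  · intro h
    have h1 : I • (⊤ : Submodule ↑(X.presheaf.stalk x) ↑(L.presheaf.stalk x)) =
        Submodule.map (stalkEquiv ha hx).toLinearMap
          (I • (⊤ : Submodule ↑(X.presheaf.stalk x) ↑(X.presheaf.stalk x))) := by
      have h0 := Submodule.map_smul'' I (⊤ : Submodule ↑(X.presheaf.stalk x) ↑(X.presheaf.stalk x))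
        (stalkEquiv ha hx).toLinearMap
      have h00 : Submodule.map (stalkEquiv ha hx).toLinearMap
          (⊤ : Submodule ↑(X.presheaf.stalk x) ↑(X.presheaf.stalk x)) = ⊤ := by
        rw [Submodule.map_top (stalkEquiv ha hx).toLinearMap]
        exact LinearEquiv.range (stalkEquiv ha hx)
      rw [h0, h00]
    rw [h1] at h
    obtain ⟨ρ', hρ', he⟩ := h
    have he' : stalkEquiv ha hx ρ' = stalkEquiv ha hx ρ := he
    have : ρ' = ρ := (stalkEquiv ha hx).injective he'
    subst this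
    have h2 : I • (⊤ : Ideal ↑(X.presheaf.stalk x)) ≤ I := by
      rw [smul_eq_mul, Ideal.mul_top]
    exact h2 hρ'
  · intro h
    exact Submodule.smul_mem_smul h Submodule.mem_top

end Stalk

section Pull

variable {X Y : Scheme.{u}} (f : X ⟶ Y) {M : Y.Modules} {W : Y.Opens} {a : Γ(M, W)}

theorem germ_pullSec (t : Γ(M, ⊤)) (r : Γ(Y, W)) (hr : res M (le_top : W ≤ ⊤) t = r • a)
    (x : X) (hx : f x ∈ W) :
    (((Scheme.Modules.pullback f).obj M).presheaf.germ ⊤ x trivial).hom (ProjUP.pullSec f M t) =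
      (f.stalkMap x).hom ((Y.presheaf.germ W (f x) hx).hom r) •
        (((Scheme.Modules.pullback f).obj M).presheaf.germ (f ⁻¹ᵁ W) x hx).hom (σ f M W a) := by
  rw [pullSec_eq]
  have e1 : res _ (show f ⁻¹ᵁ W ≤ f ⁻¹ᵁ ⊤ from fun _ _ => trivial) (σ f M ⊤ t) =
      σ f M W (res M le_top t) := σ_res f M le_top t
  rw [hr, σ_smul] at e1
  have e2 : (((Scheme.Modules.pullback f).obj M).presheaf.germ (f ⁻¹ᵁ W) x hx).hom
      (res _ (show f ⁻¹ᵁ W ≤ f ⁻¹ᵁ ⊤ from fun _ _ => trivial) (σ f M ⊤ t)) =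
      (((Scheme.Modules.pullback f).obj M).presheaf.germ (f ⁻¹ᵁ ⊤) x trivial).hom (σ f M ⊤ t) :=
    TopCat.Presheaf.germ_res_apply ((Scheme.Modules.pullback f).obj M).presheaf
      (homOfLE (show f ⁻¹ᵁ W ≤ f ⁻¹ᵁ ⊤ from fun _ _ => trivial)) x hx (σ f M ⊤ t)
  refine e2.symm.trans ?_
  rw [e1, germ_smul']
  congr 1
  exact (Scheme.Hom.germ_stalkMap_apply f W x hx r).symm

theorem van_pull_iff (hM : PicF.IsInvertible M) (t : Γ(M, ⊤)) (x : X) :
    (((Scheme.Modules.pullback f).obj M).presheaf.germ ⊤ x trivial).hom (ProjUP.pullSec f M t) ∈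
      IsLocalRing.maximalIdeal ↑(X.presheaf.stalk x) •
        (⊤ : Submodule ↑(X.presheaf.stalk x)
          ↑(((Scheme.Modules.pullback f).obj M).presheaf.stalk x)) ↔
    (M.presheaf.germ ⊤ (f x) trivial).hom t ∈
      IsLocalRing.maximalIdeal ↑(Y.presheaf.stalk (f x)) •
        (⊤ : Submodule ↑(Y.presheaf.stalk (f x)) ↑(M.presheaf.stalk (f x))) := by
  obtain ⟨W, a, hxW, ha⟩ := exists_isGen hM (f x)
  obtain ⟨r, hr⟩ := ha.exists_coeff (res M (le_top : W ≤ ⊤) t)
  have ha' := isGen_σ f ha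
  rw [germ_pullSec f t r hr.symm x hxW, smul_germ_mem_iff ha' hxW]
  have e3 : (M.presheaf.germ ⊤ (f x) trivial).hom t =
      (Y.presheaf.germ W (f x) hxW).hom r • (M.presheaf.germ W (f x) hxW).hom a := by
    rw [← germ_smul', hr]
    exact (TopCat.Presheaf.germ_res_apply M.presheaf (homOfLE (le_top : W ≤ ⊤)) (f x) hxW t).symm
  rw [e3, smul_germ_mem_iff ha hxW, IsLocalRing.mem_maximalIdeal, IsLocalRing.mem_maximalIdeal,
    map_mem_nonunits_iff]

end Pull

end Groth.Agent.Helper1.CIc
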