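import Mathlib

/-!
# Closed immersion criterion, part C: commutative algebra (helper1)
-/

set_option autoImplicit false
universe u

namespace Groth.Agent.Helper1.CIc

/-- a maximal ideal of a finite type algebra over an algebraically closed field is the kernel of
a retraction onto the field -/
theorem exists_ev_alg {k A : Type u} [Field k] [IsAlgClosed k] [CommRing A] (ι : k →+* A)
    (hι : ι.FiniteType) (𝔫 : Ideal A) [h𝔫 : 𝔫.IsMaximal] :
    ∃ ev : A →+* k, (∀ a, ev (ι a) = a) ∧ RingHom.ker ev = 𝔫 := by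
  letI : Algebra k A := ι.toAlgebra
  haveI : Algebra.FiniteType k A := hι
  letI : Field (A ⧸ 𝔫) := Ideal.Quotient.field 𝔫
  haveI : Algebra.FiniteType k (A ⧸ 𝔫) :=
    Algebra.FiniteType.of_surjective (Ideal.Quotient.mkₐ k 𝔫) (Ideal.Quotient.mkₐ_surjective k 𝔫)
  haveI : Module.Finite k (A ⧸ 𝔫) := finite_of_finite_type_of_isJacobsonRing k (A ⧸ 𝔫)
  haveI : Algebra.IsIntegral k (A ⧸ 𝔫) := Algebra.IsIntegral.of_finite k _
  have hb := IsAlgClosed.algebraMap_bijective_of_isIntegral (k := k) (K := A ⧸ 𝔫)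
  let e : k ≃+* (A ⧸ 𝔫) := RingEquiv.ofBijective (algebraMap k (A ⧸ 𝔫)) hb
  refine ⟨e.symm.toRingHom.comp (Ideal.Quotient.mk 𝔫), ?_, ?_⟩
  · intro a
    show e.symm (Ideal.Quotient.mk 𝔫 (ι a)) = a
    have : Ideal.Quotient.mk 𝔫 (ι a) = e a := rfl
    rw [this, RingEquiv.symm_apply_apply]
  · ext g
    rw [RingHom.mem_ker]
    show e.symm (Ideal.Quotient.mk 𝔫 g) = 0 ↔ g ∈ 𝔫
    rw [map_eq_zero_iff e.symm e.symm.injective, Ideal.Quotient.eq_zero_iff_mem]

/-- a finite ring map which is surjective modulo every maximal ideal is surjective -/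
theorem surjective_of_forall_maximal {A B : Type*} [CommRing A] [CommRing B] (φ : A →+* B)
    (hφ : φ.Finite)
    (h : ∀ (m : Ideal A), m.IsMaximal → ∀ b : B, ∃ a, b - φ a ∈ Ideal.map φ m) :
    Function.Surjective φ := by
  letI : Algebra A B := φ.toAlgebra
  haveI : Module.Finite A B := hφ
  let N : Submodule A B := LinearMap.range (Algebra.linearMap A B)
  have hfg : (⊤ : Submodule A (B ⧸ N)).FG := Module.Finite.fg_top
  by_contra hsurj
  have hann : Module.annihilator A (B ⧸ N) ≠ ⊤ := by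
    intro htop
    apply hsurj
    intro b
    have h1 : (1 : A) ∈ Module.annihilator A (B ⧸ N) := by rw [htop]; trivial
    have h2 : (1 : A) • (Submodule.Quotient.mk b : B ⧸ N) = 0 := Module.mem_annihilator.1 h1 _
    rw [one_smul, Submodule.Quotient.mk_eq_zero] at h2
    obtain ⟨a, ha⟩ := h2
    exact ⟨a, ha⟩
  obtain ⟨m, hm, hle⟩ := Ideal.exists_le_maximal _ hann
  have hsm : (⊤ : Submodule A (B ⧸ N)) ≤ m • ⊤ := by
    intro q _
    obtain ⟨b, rfl⟩ := Submodule.Quotient.mk_surjective N q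
    obtain ⟨a, ha⟩ := h m hm b
    have h3 : (Submodule.Quotient.mk b : B ⧸ N) = Submodule.Quotient.mk (b - φ a) := by
      rw [Submodule.Quotient.mk_sub]
      have : (Submodule.Quotient.mk (φ a) : B ⧸ N) = 0 :=
        (Submodule.Quotient.mk_eq_zero N).2 ⟨a, rfl⟩
      rw [this, sub_zero]
    rw [h3]
    have h4 : b - φ a ∈ m • (⊤ : Submodule A B) := by
      rw [Ideal.smul_top_eq_map]; exact ha
    have h5 := Submodule.mem_map_of_mem (f := N.mkQ) h4
    rw [Submodule.map_smul''] at h5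
    exact Submodule.smul_mono le_rfl le_top h5
  obtain ⟨r, hr1, hr2⟩ :=
    Submodule.exists_sub_one_mem_and_smul_eq_zero_of_fg_of_le_smul m ⊤ hfg hsm
  have hr : r ∈ Module.annihilator A (B ⧸ N) := Module.mem_annihilator.2 fun q => hr2 q trivial
  have h1 : (1 : A) ∈ m := by
    have := m.sub_mem (hle hr) hr1
    simpa using this
  exact hm.ne_top ((Ideal.eq_top_iff_one m).2 h1)

/-- descending membership from the localization at the only maximal ideal over `J` -/
theorem mem_of_map_localization {B S : Type*} [CommRing B] [CommRing S] [Algebra B S]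
    (𝔫 : Ideal B) [h𝔫 : 𝔫.IsMaximal] [IsLocalization.AtPrime S 𝔫] (J : Ideal B)
    (huniq : ∀ 𝔫' : Ideal B, 𝔫'.IsMaximal → J ≤ 𝔫' → 𝔫' = 𝔫) (b : B)
    (hb : algebraMap B S b ∈ Ideal.map (algebraMap B S) J) : b ∈ J := by
  obtain ⟨⟨⟨a', ha'⟩, ⟨s, hs⟩⟩, h1⟩ := (IsLocalization.mem_map_algebraMap_iff 𝔫.primeCompl S).1 hb
  have h2 : algebraMap B S (b * s - a') = 0 := by
    rw [map_sub, map_mul]; exact sub_eq_zero.2 h1
  obtain ⟨⟨s', hs'⟩, h3⟩ := (IsLocalization.map_eq_zero_iff 𝔫.primeCompl S _).1 h2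
  have h3' : s' * (b * s - a') = 0 := h3
  have hu : s' * s ∉ 𝔫 := fun h => (h𝔫.isPrime.mem_or_mem h).elim hs' hs
  have hub : (s' * s) * b ∈ J := by
    have : (s' * s) * b = s' * a' := by linear_combination h3'
    rw [this]; exact J.mul_mem_left _ ha'
  have htop : J ⊔ Ideal.span {s' * s} = ⊤ := by
    by_contra hne
    obtain ⟨𝔫', hmax, hle⟩ := Ideal.exists_le_maximal _ hne
    have h4 := huniq 𝔫' hmax (le_sup_left.trans hle)
    rw [h4] at hle
    exact hu (hle (Ideal.mem_sup_right (Ideal.subset_span rfl)))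
  have h1' : (1 : B) ∈ J ⊔ Ideal.span {s' * s} := by rw [htop]; trivial
  obtain ⟨j, hj, w, hw, hjw⟩ := Submodule.mem_sup.1 h1'
  obtain ⟨v, rfl⟩ := Ideal.mem_span_singleton'.1 hw
  have : b = j * b + v * ((s' * s) * b) := by linear_combination (-b) * hjw
  rw [this]
  exact J.add_mem (J.mul_mem_right _ hj) (J.mul_mem_left _ hub)

/-- Nakayama for the maximal ideal of a Noetherian local ring -/
theorem maximalIdeal_le_of_le_sup_sq {R : Type*} [CommRing R] [IsLocalRing R] [IsNoetherianRing R]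
    (J : Ideal R) (h : IsLocalRing.maximalIdeal R ≤ J ⊔ IsLocalRing.maximalIdeal R ^ 2) :
    IsLocalRing.maximalIdeal R ≤ J := by
  apply Submodule.le_of_le_smul_of_le_jacobson_bot (I := IsLocalRing.maximalIdeal R)
  · exact IsNoetherian.noetherian _
  · rw [IsLocalRing.jacobson_eq_maximalIdeal ⊥ bot_ne_top]
  · rw [smul_eq_mul, ← pow_two]; exact h

end Groth.Agent.Helper1.CIc
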