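import Mathlib
import Groth.Prelude.Def_ProjUP
import Groth.Agent.Lib.Helper1.ProjUP8
import Groth.Agent.Lib.Helper1.VA5
import Groth.Agent.Lib.Helper1.CIcA
import Groth.Agent.Lib.Helper1.CIcC

/-!
# Closed immersion criterion, part B: closed points of projective space over an algebraically
closed field (helper1)
-/

set_option autoImplicit false
universe u
open CategoryTheory CategoryTheory.Limits AlgebraicGeometry TopologicalSpace Opposite

namespace Groth.Agent.Helper1.CIc

open Groth.Agent.Helper1.QcCech Groth.Agent.Helper1.SubSh Groth.Agent.Helper1.LGen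
open Groth.Agent.Helper1 Groth.Agent.Helper1.PullSec Groth.Agent.Helper1.PullGen
open Groth.Agent.Helper1.ProjUP4 Groth.Agent.Helper1.HypPn

section Ev

variable {k : Type u} [Field k] [IsAlgClosed k]

/-- on an affine open of a scheme locally of finite type over an algebraically closed field,
maximal ideals are kernels of retractions onto the field -/
theorem exists_ev {Y : Scheme.{u}} (q : Y ⟶ Spec (CommRingCat.of k)) [LocallyOfFiniteType q]
    {V : Y.Opens} (hV : IsAffineOpen V) (𝔫 : Ideal Γ(Y, V)) [𝔫.IsMaximal] :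
    ∃ ev : Γ(Y, V) →+* k,
      (∀ a, ev (resR (le_top : V ≤ ⊤) (ProjUP.toGlobal q a)) = a) ∧ RingHom.ker ev = 𝔫 := by
  have hft : (q.appLE ⊤ V le_top).hom.FiniteType :=
    q.finiteType_appLE (isAffineOpen_top _) hV le_top
  let ι : k →+* Γ(Y, V) := (resR (le_top : V ≤ ⊤)).comp (ProjUP.toGlobal q)
  have hι : ι.FiniteType := by
    have h1 : ι = (q.appLE ⊤ V le_top).hom.comp (Scheme.ΓSpecIso (CommRingCat.of k)).inv.hom := by
      ext a
      rfl
    rw [h1]
    refine hft.comp (RingHom.FiniteType.of_surjective _ ?_)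
    exact (ConcreteCategory.bijective_of_isIso (Scheme.ΓSpecIso (CommRingCat.of k)).inv).2
  exact exists_ev_alg ι hι 𝔫

end Ev

section Pn

variable (n : ℕ) (k : Type u) [Field k]

/-- the chart `D₊(T_i)` -/
noncomputable abbrev Dc (i : Fin (n + 1)) : (CohB1.ProjSpace n k).Opens :=
  ProjUP7.D (CohB1.polyGrading n k) (ProjUP8.tX n k) i

theorem isAffineOpen_Dc (i : Fin (n + 1)) : IsAffineOpen (Dc n k i) :=
  Proj.isAffineOpen_basicOpen (CohB1.polyGrading n k) (ProjUP8.tX n k i) (ProjUP8.htX n k i) one_pos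

/-- `T_j / T_i` on the chart -/
noncomputable abbrev cc (i j : Fin (n + 1)) : Γ(CohB1.ProjSpace n k, Dc n k i) :=
  ProjUP7.c (CohB1.polyGrading n k) (ProjUP8.tX n k) (ProjUP8.htX n k) i j

/-- the constants on the chart -/
noncomputable def ιc (i : Fin (n + 1)) : k →+* Γ(CohB1.ProjSpace n k, Dc n k i) :=
  (resR (le_top : Dc n k i ≤ ⊤)).comp (ProjUP.toGlobal (CohB1.ProjSpace.toSpec n k))

/-- the linear form with coefficients `c` -/
noncomputable def tc (c : Fin (n + 1) → k) : Γ(Twist.twistProjSpace n k 1, ⊤) :=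
  ∑ j, ProjUP.toGlobal (CohB1.ProjSpace.toSpec n k) (c j) • ProjUP.coord n k j

/-- the coefficient of `tc c` on the chart -/
noncomputable def ℓ (i : Fin (n + 1)) (c : Fin (n + 1) → k) :
    Γ(CohB1.ProjSpace n k, Dc n k i) :=
  ∑ j, ιc n k i (c j) * cc n k i j

theorem isGen_coord (i : Fin (n + 1)) :
    IsGen (Twist.twistProjSpace n k 1) (Dc n k i)
      (res (Twist.twistProjSpace n k 1) (le_top : Dc n k i ≤ ⊤) (ProjUP.coord n k i)) :=
  ProjUP7.isGen_T (CohB1.polyGrading n k) (ProjUP8.tX n k) (ProjUP8.htX n k) i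

theorem res_coord (i j : Fin (n + 1)) :
    res (Twist.twistProjSpace n k 1) (le_top : Dc n k i ≤ ⊤) (ProjUP.coord n k j) =
      cc n k i j • res (Twist.twistProjSpace n k 1) (le_top : Dc n k i ≤ ⊤) (ProjUP.coord n k i) :=
  ProjUP7.res_T (CohB1.polyGrading n k) (ProjUP8.tX n k) (ProjUP8.htX n k) i j

theorem cc_self (i : Fin (n + 1)) : cc n k i i = 1 := by
  apply (TensGen.IsGen.bijective_self (isGen_coord n k i)).1
  show cc n k i i • _ = (1 : Γ(CohB1.ProjSpace n k, Dc n k i)) • _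
  rw [one_smul]
  exact (res_coord n k i i).symm

theorem res_tc (i : Fin (n + 1)) (c : Fin (n + 1) → k) :
    res (Twist.twistProjSpace n k 1) (le_top : Dc n k i ≤ ⊤) (tc n k c) =
      ℓ n k i c • res (Twist.twistProjSpace n k 1) (le_top : Dc n k i ≤ ⊤) (ProjUP.coord n k i) := by
  unfold tc ℓ
  rw [map_sum, Finset.sum_smul]
  refine Finset.sum_congr rfl fun j _ => ?_
  rw [res_smul, mul_smul, res_coord n k i j]
  rfl

theorem ℓ_sub (i : Fin (n + 1)) (c c' : Fin (n + 1) → k) :
    ℓ n k i (c - c') = ℓ n k i c - ℓ n k i c' := by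
  unfold ℓ
  simp only [Pi.sub_apply, map_sub, sub_mul, Finset.sum_sub_distrib]

theorem ℓ_smul (i : Fin (n + 1)) (a : k) (c : Fin (n + 1) → k) :
    ℓ n k i (a • c) = ιc n k i a * ℓ n k i c := by
  unfold ℓ
  simp only [Pi.smul_apply, smul_eq_mul, map_mul, Finset.mul_sum, mul_assoc]

theorem ℓ_single (i l : Fin (n + 1)) : ℓ n k i (Pi.single l 1) = cc n k i l := by
  unfold ℓ
  rw [Finset.sum_eq_single l]
  · rw [Pi.single_eq_same, map_one, one_mul]
  · intro j _ hj
    rw [Pi.single_eq_of_ne hj, map_zero, zero_mul]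
  · intro h
    exact absurd (Finset.mem_univ l) h

theorem ℓ_special (i l m : Fin (n + 1)) (b : k) :
    ℓ n k i (Pi.single l 1 - b • Pi.single m 1) = cc n k i l - ιc n k i b * cc n k i m := by
  rw [ℓ_sub, ℓ_smul, ℓ_single, ℓ_single]

/-- ring maps out of the coordinate ring of a chart are determined by the constants and the
coordinate ratios -/
theorem ringHom_ext_chart (i : Fin (n + 1)) {B : Type u} [CommRing B]
    (ρ ρ' : Γ(CohB1.ProjSpace n k, Dc n k i) →+* B)
    (h0 : ∀ a : k, ρ (ιc n k i a) = ρ' (ιc n k i a))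
    (h1 : ∀ l, ρ (cc n k i l) = ρ' (cc n k i l)) : ρ = ρ' := by
  let α : HomogeneousLocalization.Away (CohB1.polyGrading n k) (ProjUP8.tX n k i) →+*
      Γ(CohB1.ProjSpace n k, Dc n k i) :=
    (Proj.awayToSection (CohB1.polyGrading n k) (ProjUP8.tX n k i)).hom
  have hα : Function.Surjective α := by
    have : IsIso (Proj.awayToSection (CohB1.polyGrading n k) (ProjUP8.tX n k i)) :=
      (Proj.basicOpenIsoAway (CohB1.polyGrading n k) (ProjUP8.tX n k i) (ProjUP8.htX n k i)
        one_pos).isIso_hom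
    exact ((ConcreteCategory.isIso_iff_bijective _).mp this).2
  have hcomp : ρ.comp α = ρ'.comp α := by
    apply ProjUP8.hext n k i
    · intro a
      obtain ⟨a', rfl⟩ := (ProjSpaceLib.algebraMap_bijective n k).2 a
      have e1 : α (HomogeneousLocalization.fromZeroRingHom (CohB1.polyGrading n k) _
          (algebraMap k (CohB1.polyGrading n k 0) a')) = ιc n k i a' := by
        have h2 := ProjGlobal.psi_res (CohB1.polyGrading n k) (ProjUP8.tX n k i)
          (ProjUP8.htX n k i) one_pos (algebraMap k (CohB1.polyGrading n k 0) a')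
        have h4 : ProjUP.toGlobal (CohB1.ProjSpace.toSpec n k) a' =
            ProjGlobal.psi (CohB1.polyGrading n k) (algebraMap k (CohB1.polyGrading n k 0) a') :=
          ProjSpaceLib.toGlobal_eq n k a'
        unfold ιc
        rw [RingHom.comp_apply, h4]
        exact h2.symm
      show ρ (α _) = ρ' (α _)
      rw [e1, h0]
    · intro l
      exact h1 l
  ext g
  obtain ⟨g', rfl⟩ := hα g
  exact congrArg (fun φ => φ g') hcomp

variable [IsAlgClosed k]

/-- the maximal ideal of a closed point in a chart -/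
theorem prime_eq_span (i : Fin (n + 1)) (z : CohB1.ProjSpace n k) (hz : z ∈ Dc n k i)
    (hzc : IsClosed ({z} : Set (CohB1.ProjSpace n k))) :
    ∃ b : Fin (n + 1) → k, ((isAffineOpen_Dc n k i).primeIdealOf ⟨z, hz⟩).asIdeal =
      Ideal.span (Set.range fun l => cc n k i l - ιc n k i (b l)) := by
  set 𝔪 := ((isAffineOpen_Dc n k i).primeIdealOf ⟨z, hz⟩).asIdeal with h𝔪
  haveI : 𝔪.IsMaximal := (isAffineOpen_Dc n k i).primeIdealOf_isMaximal_of_isClosed ⟨z, hz⟩ hzc
  obtain ⟨ev, hev1, hev2⟩ := exists_ev (CohB1.ProjSpace.toSpec n k) (isAffineOpen_Dc n k i) 𝔪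
  have hev1' : ∀ a, ev (ιc n k i a) = a := hev1
  refine ⟨fun l => ev (cc n k i l), le_antisymm ?_ ?_⟩
  · set I := Ideal.span (Set.range fun l => cc n k i l - ιc n k i (ev (cc n k i l))) with hI
    have hρ : Ideal.Quotient.mk I = (Ideal.Quotient.mk I).comp ((ιc n k i).comp ev) := by
      apply ringHom_ext_chart n k i
      · intro a
        simp only [RingHom.comp_apply]
        rw [hev1']
      · intro l
        simp only [RingHom.comp_apply]
        rw [Ideal.Quotient.eq]
        exact Ideal.subset_span ⟨l, rfl⟩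
    intro g hg
    have hg0 : ev g = 0 := by rw [← RingHom.mem_ker, hev2]; exact hg
    have h5 := congrArg (fun φ => φ g) hρ
    simp only [RingHom.comp_apply] at h5
    rw [hg0, map_zero, map_zero] at h5
    exact Ideal.Quotient.eq_zero_iff_mem.1 h5
  · rw [Ideal.span_le]
    rintro _ ⟨l, rfl⟩
    show _ ∈ 𝔪
    rw [← hev2, RingHom.mem_ker, map_sub, hev1', sub_self]

/-- vanishing of a section of `O(1)` at a point -/
def VanAt (t : Γ(Twist.twistProjSpace n k 1, ⊤)) (z : CohB1.ProjSpace n k) : Prop :=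
  ((Twist.twistProjSpace n k 1).presheaf.germ ⊤ z trivial).hom t ∈
    IsLocalRing.maximalIdeal ↑((CohB1.ProjSpace n k).presheaf.stalk z) •
      (⊤ : Submodule ↑((CohB1.ProjSpace n k).presheaf.stalk z)
        ↑((Twist.twistProjSpace n k 1).presheaf.stalk z))

omit [IsAlgClosed k] in
theorem germ_tc (i : Fin (n + 1)) (z : CohB1.ProjSpace n k) (hz : z ∈ Dc n k i)
    (c : Fin (n + 1) → k) :
    ((Twist.twistProjSpace n k 1).presheaf.germ ⊤ z trivial).hom (tc n k c) =
      ((CohB1.ProjSpace n k).presheaf.germ (Dc n k i) z hz).hom (ℓ n k i c) •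
        ((Twist.twistProjSpace n k 1).presheaf.germ (Dc n k i) z hz).hom
          (res (Twist.twistProjSpace n k 1) (le_top : Dc n k i ≤ ⊤) (ProjUP.coord n k i)) := by
  rw [← germ_smul', ← res_tc]
  exact (TopCat.Presheaf.germ_res_apply (Twist.twistProjSpace n k 1).presheaf
    (homOfLE (le_top : Dc n k i ≤ ⊤)) z hz (tc n k c)).symm

omit [IsAlgClosed k] in
theorem mem_prime_iff (i : Fin (n + 1)) (z : CohB1.ProjSpace n k) (hz : z ∈ Dc n k i)
    (g : Γ(CohB1.ProjSpace n k, Dc n k i)) :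
    g ∈ ((isAffineOpen_Dc n k i).primeIdealOf ⟨z, hz⟩).asIdeal ↔
      ((CohB1.ProjSpace n k).presheaf.germ (Dc n k i) z hz).hom g ∈
        IsLocalRing.maximalIdeal ↑((CohB1.ProjSpace n k).presheaf.stalk z) := by
  rw [(isAffineOpen_Dc n k i).primeIdealOf_eq_map_closedPoint ⟨z, hz⟩]
  rfl

omit [IsAlgClosed k] in
theorem vanAt_tc_iff (i : Fin (n + 1)) (z : CohB1.ProjSpace n k) (hz : z ∈ Dc n k i)
    (c : Fin (n + 1) → k) :
    VanAt n k (tc n k c) z ↔
      ℓ n k i c ∈ ((isAffineOpen_Dc n k i).primeIdealOf ⟨z, hz⟩).asIdeal := by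
  unfold VanAt
  rw [germ_tc n k i z hz c, smul_germ_mem_iff (isGen_coord n k i) hz, mem_prime_iff]

/-- the maximal ideal of the local ring of a closed point is generated by linear forms -/
theorem maximalIdeal_le_span (i : Fin (n + 1)) (z : CohB1.ProjSpace n k) (hz : z ∈ Dc n k i)
    (hzc : IsClosed ({z} : Set (CohB1.ProjSpace n k))) :
    IsLocalRing.maximalIdeal ↑((CohB1.ProjSpace n k).presheaf.stalk z) ≤
      Ideal.span {ρ | ∃ c : Fin (n + 1) → k,
        ρ = ((CohB1.ProjSpace n k).presheaf.germ (Dc n k i) z hz).hom (ℓ n k i c) ∧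
        ρ ∈ IsLocalRing.maximalIdeal ↑((CohB1.ProjSpace n k).presheaf.stalk z)} := by
  obtain ⟨b, hb⟩ := prime_eq_span n k i z hz hzc
  letI := (CohB1.ProjSpace n k).presheaf.algebra_section_stalk
    (⟨z, hz⟩ : (Dc n k i : Opens (CohB1.ProjSpace n k)))
  haveI := (isAffineOpen_Dc n k i).isLocalization_stalk ⟨z, hz⟩
  have h1 := IsLocalization.AtPrime.map_eq_maximalIdeal
    ((isAffineOpen_Dc n k i).primeIdealOf ⟨z, hz⟩).asIdeal
    ↑((CohB1.ProjSpace n k).presheaf.stalk z)
  refine le_trans (le_of_eq h1.symm) ?_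
  rw [hb, Ideal.map_span, Ideal.span_le]
  rintro _ ⟨_, ⟨l, rfl⟩, rfl⟩
  apply Ideal.subset_span
  refine ⟨Pi.single l 1 - b l • Pi.single i 1, ?_, ?_⟩
  · rw [ℓ_special, cc_self, mul_one]
    rfl
  · have h2 : cc n k i l - ιc n k i (b l) ∈
        ((isAffineOpen_Dc n k i).primeIdealOf ⟨z, hz⟩).asIdeal := by
      rw [hb]; exact Ideal.subset_span ⟨l, rfl⟩
    exact (mem_prime_iff n k i z hz _).1 h2

/-- linear forms separate closed points -/
theorem exists_sep (z w : CohB1.ProjSpace n k) (hzc : IsClosed ({z} : Set (CohB1.ProjSpace n k)))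
    (hwc : IsClosed ({w} : Set (CohB1.ProjSpace n k))) (hzw : z ≠ w) :
    ∃ c : Fin (n + 1) → k, VanAt n k (tc n k c) z ∧ ¬ VanAt n k (tc n k c) w := by
  obtain ⟨i, hi⟩ := ProjUP8.hcov n k z
  have hi' : z ∈ Dc n k i := hi
  obtain ⟨b, hb⟩ := prime_eq_span n k i z hi' hzc
  by_cases hw : w ∈ Dc n k i
  · obtain ⟨b', hb'⟩ := prime_eq_span n k i w hw hwc
    have hne : b ≠ b' := by
      intro hbb
      apply hzw
      have h1 : (isAffineOpen_Dc n k i).primeIdealOf ⟨z, hi'⟩ =
          (isAffineOpen_Dc n k i).primeIdealOf ⟨w, hw⟩ := by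
        apply PrimeSpectrum.ext
        rw [hb, hb', hbb]
      have h2 := congrArg (fun y => (isAffineOpen_Dc n k i).fromSpec y) h1
      simp only [IsAffineOpen.fromSpec_primeIdealOf] at h2
      exact h2
    obtain ⟨l, hl⟩ := Function.ne_iff.1 hne
    refine ⟨Pi.single l 1 - b l • Pi.single i 1, ?_, ?_⟩
    · rw [vanAt_tc_iff n k i z hi', ℓ_special, cc_self, mul_one, hb]
      exact Ideal.subset_span ⟨l, rfl⟩
    · rw [vanAt_tc_iff n k i w hw, ℓ_special, cc_self, mul_one, hb']
      intro hmem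
      have h3 : cc n k i l - ιc n k i (b' l) ∈
          Ideal.span (Set.range fun l => cc n k i l - ιc n k i (b' l)) :=
        Ideal.subset_span ⟨l, rfl⟩
      have h4 := Ideal.sub_mem _ h3 hmem
      have h5 : (cc n k i l - ιc n k i (b' l)) - (cc n k i l - ιc n k i (b l)) =
          ιc n k i (b l - b' l) := by rw [map_sub]; ring
      rw [h5] at h4
      have hu : IsUnit (ιc n k i (b l - b' l)) :=
        (IsUnit.mk0 _ (sub_ne_zero.2 hl)).map (ιc n k i)
      have htop := Ideal.eq_top_of_isUnit_mem _ h4 hu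
      rw [← hb'] at htop
      exact ((isAffineOpen_Dc n k i).primeIdealOf ⟨w, hw⟩).isPrime.ne_top htop
  · obtain ⟨j, hj⟩ := ProjUP8.hcov n k w
    have hj' : w ∈ Dc n k j := hj
    refine ⟨Pi.single j 1 - b j • Pi.single i 1, ?_, ?_⟩
    · rw [vanAt_tc_iff n k i z hi', ℓ_special, cc_self, mul_one, hb]
      exact Ideal.subset_span ⟨j, rfl⟩
    · rw [vanAt_tc_iff n k j w hj', ℓ_special, cc_self]
      intro hmem
      have h6 : cc n k j i ∈ ((isAffineOpen_Dc n k j).primeIdealOf ⟨w, hj'⟩).asIdeal := by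
        rw [mem_prime_iff, IsLocalRing.mem_maximalIdeal, mem_nonunits_iff]
        intro hunit
        have h7 : w ∈ (CohB1.ProjSpace n k).basicOpen (cc n k j i) :=
          ((CohB1.ProjSpace n k).mem_basicOpen _ _ hj').2 hunit
        have h8 : (CohB1.ProjSpace n k).basicOpen (cc n k j i) = Dc n k i ⊓ Dc n k j :=
          ProjUP7.basicOpen_c (CohB1.polyGrading n k) (ProjUP8.tX n k) (ProjUP8.htX n k)
            (ProjUP8.hcov n k) j i
        rw [h8] at h7
        exact hw h7.1
      have h9 : (1 : Γ(CohB1.ProjSpace n k, Dc n k j)) ∈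
          ((isAffineOpen_Dc n k j).primeIdealOf ⟨w, hj'⟩).asIdeal := by
        have := Ideal.add_mem _ hmem (Ideal.mul_mem_left _ (ιc n k j (b j)) h6)
        simpa using this
      exact ((isAffineOpen_Dc n k j).primeIdealOf ⟨w, hj'⟩).isPrime.ne_top
        ((Ideal.eq_top_iff_one _).2 h9)

end Pn

end Groth.Agent.Helper1.CIc
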