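import Mathlib
import Groth.Prelude.Def_ProjUP
import Groth.Agent.Lib.Helper1.CIcB
import Groth.Agent.Lib.Helper1.PnVA

/-!
# Closed immersion criterion, part D: closed immersions separate points and tangent vectors
(helper1)
-/

set_option autoImplicit false
universe u
open CategoryTheory CategoryTheory.Limits AlgebraicGeometry TopologicalSpace Opposite

namespace Groth.Agent.Helper1.CIc

open Groth.Agent.Helper1.QcCech Groth.Agent.Helper1.SubSh Groth.Agent.Helper1.LGen
open Groth.Agent.Helper1 Groth.Agent.Helper1.PullSec Groth.Agent.Helper1.PullGen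
open Groth.Agent.Helper1.ProjUP4 Groth.Agent.Helper1.HypPn

section Gen

/-- membership in the prime ideal of a point of an affine open -/
theorem mem_primeIdealOf_iff {Y : Scheme.{u}} {V : Y.Opens} (hV : IsAffineOpen V) (y : Y)
    (hy : y ∈ V) (g : Γ(Y, V)) :
    g ∈ (hV.primeIdealOf ⟨y, hy⟩).asIdeal ↔
      (Y.presheaf.germ V y hy).hom g ∈ IsLocalRing.maximalIdeal ↑(Y.presheaf.stalk y) := by
  rw [hV.primeIdealOf_eq_map_closedPoint ⟨y, hy⟩]
  rfl

end Gen

section Fwd

variable {k : Type u} [Field k] {n : ℕ} {X : Scheme.{u}}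
  (pX : X ⟶ Spec (CommRingCat.of k)) (f : X ⟶ CohB1.ProjSpace n k)

/-- the pullback of `O(1)` -/
noncomputable abbrev LL : X.Modules :=
  (Scheme.Modules.pullback f).obj (Twist.twistProjSpace n k 1)

/-- the linear combination of the pulled back coordinates -/
noncomputable abbrev sc (c : Fin (n + 1) → k) : ProjUP.Γm (LL f) :=
  ∑ i, ProjUP.toGlobal pX (c i) •
    ProjUP.pullSec f (Twist.twistProjSpace n k 1) (ProjUP.coord n k i)

/-- `m_P L_P` -/
noncomputable abbrev mL (P : X) : Submodule ↑(X.presheaf.stalk P) ↑((LL f).presheaf.stalk P) :=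
  IsLocalRing.maximalIdeal ↑(X.presheaf.stalk P) •
    (⊤ : Submodule ↑(X.presheaf.stalk P) ↑((LL f).presheaf.stalk P))

/-- the germ of `sc` -/
noncomputable abbrev gsc (c : Fin (n + 1) → k) (P : X) : ↑((LL f).presheaf.stalk P) :=
  ((LL f).presheaf.germ ⊤ P trivial).hom (sc pX f c)

variable {pX f}

theorem sc_eq (hf : f ≫ CohB1.ProjSpace.toSpec n k = pX) (c : Fin (n + 1) → k) :
    sc pX f c = ProjUP.pullSec f (Twist.twistProjSpace n k 1) (tc n k c) := by
  have e0 : ProjUP.pullSec f (Twist.twistProjSpace n k 1) (tc n k c) =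
      ∑ i, ProjUP.pullSec f (Twist.twistProjSpace n k 1)
        (ProjUP.toGlobal (CohB1.ProjSpace.toSpec n k) (c i) • ProjUP.coord n k i) :=
    σ_sum f (Twist.twistProjSpace n k 1) ⊤ Finset.univ _
  rw [e0]
  refine Finset.sum_congr rfl fun i _ => ?_
  have e : ProjUP.pullSec f (Twist.twistProjSpace n k 1)
      (ProjUP.toGlobal (CohB1.ProjSpace.toSpec n k) (c i) • ProjUP.coord n k i) =
      f.appTop.hom (ProjUP.toGlobal (CohB1.ProjSpace.toSpec n k) (c i)) •
        ProjUP.pullSec f (Twist.twistProjSpace n k 1) (ProjUP.coord n k i) :=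
    σ_smul f _ ⊤ _ _
  rw [e, toGlobal_comp, hf]

theorem isInvertible_O1' : PicF.IsInvertible (Twist.twistProjSpace n k 1) :=
  PnVA.isInvertible_O1 n k

theorem gsc_mem_iff (hf : f ≫ CohB1.ProjSpace.toSpec n k = pX) (c : Fin (n + 1) → k) (P : X) :
    gsc pX f c P ∈ mL f P ↔ VanAt n k (tc n k c) (f P) := by
  unfold gsc
  rw [sc_eq hf c]
  exact van_pull_iff f isInvertible_O1' (tc n k c) P

/-- the local generator of the pullback of `O(1)` over the preimage of a chart -/
noncomputable abbrev gen (f : X ⟶ CohB1.ProjSpace n k) (i : Fin (n + 1)) :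
    Γ(LL f, f ⁻¹ᵁ Dc n k i) :=
  σ f (Twist.twistProjSpace n k 1) (Dc n k i)
    (res (Twist.twistProjSpace n k 1) (le_top : Dc n k i ≤ ⊤) (ProjUP.coord n k i))

theorem isGen_gen (i : Fin (n + 1)) : IsGen (LL f) (f ⁻¹ᵁ Dc n k i) (gen f i) :=
  isGen_σ f (isGen_coord n k i)

theorem gsc_eq (hf : f ≫ CohB1.ProjSpace.toSpec n k = pX) (i : Fin (n + 1)) (P : X)
    (hP : f P ∈ Dc n k i) (c : Fin (n + 1) → k) :
    gsc pX f c P =
      (f.stalkMap P).hom (((CohB1.ProjSpace n k).presheaf.germ (Dc n k i) (f P) hP).hom (ℓ n k i c)) •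
        ((LL f).presheaf.germ (f ⁻¹ᵁ Dc n k i) P hP).hom (gen f i) := by
  unfold gsc
  rw [sc_eq hf c]
  exact germ_pullSec f (tc n k c) (ℓ n k i c) (res_tc n k i c) P hP

theorem mem_maximalIdeal_of_stalkMap (P : X) (ρ₀ : ↑((CohB1.ProjSpace n k).presheaf.stalk (f P)))
    (h : (f.stalkMap P).hom ρ₀ ∈ IsLocalRing.maximalIdeal ↑(X.presheaf.stalk P)) :
    ρ₀ ∈ IsLocalRing.maximalIdeal ↑((CohB1.ProjSpace n k).presheaf.stalk (f P)) := by
  rw [IsLocalRing.mem_maximalIdeal] at h ⊢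
  exact (map_mem_nonunits_iff (f.stalkMap P).hom ρ₀).1 h

theorem stalkMap_mem_maximalIdeal (P : X) (ρ₀ : ↑((CohB1.ProjSpace n k).presheaf.stalk (f P)))
    (h : ρ₀ ∈ IsLocalRing.maximalIdeal ↑((CohB1.ProjSpace n k).presheaf.stalk (f P))) :
    (f.stalkMap P).hom ρ₀ ∈ IsLocalRing.maximalIdeal ↑(X.presheaf.stalk P) := by
  rw [IsLocalRing.mem_maximalIdeal] at h ⊢
  exact (map_mem_nonunits_iff (f.stalkMap P).hom ρ₀).2 h

theorem isClosed_image_of_closedImmersion [IsClosedImmersion f] (P : X)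
    (hP : IsClosed ({P} : Set X)) : IsClosed ({f P} : Set (CohB1.ProjSpace n k)) := by
  have := f.isClosedEmbedding.isClosedMap _ hP
  rwa [Set.image_singleton] at this

variable [IsAlgClosed k]

/-- a closed immersion separates closed points -/
theorem sep_of_closedImmersion (hf : f ≫ CohB1.ProjSpace.toSpec n k = pX) [IsClosedImmersion f]
    (P Q : X) (hP : IsClosed ({P} : Set X)) (hQ : IsClosed ({Q} : Set X)) (hPQ : P ≠ Q) :
    ∃ c : Fin (n + 1) → k, gsc pX f c P ∈ mL f P ∧ gsc pX f c Q ∉ mL f Q := by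
  have hne : f P ≠ f Q := fun h => hPQ (f.isClosedEmbedding.injective h)
  obtain ⟨c, h1, h2⟩ := exists_sep n k (f P) (f Q)
    (isClosed_image_of_closedImmersion (f := f) P hP)
    (isClosed_image_of_closedImmersion (f := f) Q hQ) hne
  exact ⟨c, (gsc_mem_iff hf c P).2 h1, fun h => h2 ((gsc_mem_iff hf c Q).1 h)⟩

/-- a closed immersion separates tangent vectors -/
theorem tan_of_closedImmersion (hf : f ≫ CohB1.ProjSpace.toSpec n k = pX) [IsClosedImmersion f]
    (P : X) (hP : IsClosed ({P} : Set X)) :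
    mL f P ≤ Submodule.span ↑(X.presheaf.stalk P)
      {v | ∃ c : Fin (n + 1) → k, v = gsc pX f c P ∧ v ∈ mL f P} ⊔
      (IsLocalRing.maximalIdeal ↑(X.presheaf.stalk P) ^ 2 •
        (⊤ : Submodule ↑(X.presheaf.stalk P) ↑((LL f).presheaf.stalk P))) := by
  refine le_trans ?_ le_sup_left
  have hfP := isClosed_image_of_closedImmersion (f := f) P hP
  obtain ⟨i, hi⟩ := ProjUP8.hcov n k (f P)
  have hi' : f P ∈ Dc n k i := hi
  have ha' := isGen_gen (f := f) i
  intro v hv
  obtain ⟨ρ, rfl⟩ := exists_smul_germ ha' hi' v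
  have hρ : ρ ∈ IsLocalRing.maximalIdeal ↑(X.presheaf.stalk P) :=
    (smul_germ_mem_iff ha' hi' _ ρ).1 hv
  obtain ⟨ρ₀, hρ₀⟩ := f.stalkMap_surjective P ρ
  have hρ₀' : (f.stalkMap P).hom ρ₀ = ρ := hρ₀
  subst hρ₀'
  have hρ₀m := mem_maximalIdeal_of_stalkMap P ρ₀ hρ
  have hspan := maximalIdeal_le_span n k i (f P) hi' hfP hρ₀m
  have key : ∀ y ∈ Ideal.span {ρ | ∃ c : Fin (n + 1) → k,
        ρ = ((CohB1.ProjSpace n k).presheaf.germ (Dc n k i) (f P) hi').hom (ℓ n k i c) ∧
        ρ ∈ IsLocalRing.maximalIdeal ↑((CohB1.ProjSpace n k).presheaf.stalk (f P))},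
      (f.stalkMap P).hom y • ((LL f).presheaf.germ (f ⁻¹ᵁ Dc n k i) P hi').hom (gen f i) ∈
        Submodule.span ↑(X.presheaf.stalk P)
          {v | ∃ c : Fin (n + 1) → k, v = gsc pX f c P ∧ v ∈ mL f P} := by
    intro y hy
    induction hy using Submodule.span_induction with
    | mem y hy =>
      obtain ⟨c, rfl, hc⟩ := hy
      apply Submodule.subset_span
      refine ⟨c, (gsc_eq hf i P hi' c).symm, ?_⟩
      rw [smul_germ_mem_iff ha' hi']
      exact stalkMap_mem_maximalIdeal P _ hc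
    | zero => rw [map_zero, zero_smul]; exact Submodule.zero_mem _
    | add y z _ _ hy hz => rw [map_add, add_smul]; exact Submodule.add_mem _ hy hz
    | smul r y _ hy =>
      rw [smul_eq_mul, map_mul, mul_smul]; exact Submodule.smul_mem _ _ hy
  exact key ρ₀ hspan

end Fwd

end Groth.Agent.Helper1.CIc
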