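import Mathlib
import Groth.Prelude.Def_ProjUP
import Groth.Agent.Lib.Helper1.CIcD

/-!
# Closed immersion criterion, part E: separating points and tangent vectors implies closed
immersion (helper1)
-/

set_option autoImplicit false
universe u
open CategoryTheory CategoryTheory.Limits AlgebraicGeometry TopologicalSpace Opposite

namespace Groth.Agent.Helper1.CIc

open Groth.Agent.Helper1.QcCech Groth.Agent.Helper1.SubSh Groth.Agent.Helper1.LGen
open Groth.Agent.Helper1 Groth.Agent.Helper1.PullSec Groth.Agent.Helper1.PullGen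
open Groth.Agent.Helper1.ProjUP4 Groth.Agent.Helper1.HypPn

section Bwd

variable {k : Type u} [Field k] [IsAlgClosed k] {n : ℕ} {X : Scheme.{u}}
  {pX : X ⟶ Spec (CommRingCat.of k)} {f : X ⟶ CohB1.ProjSpace n k}

omit [IsAlgClosed k] in
/-- injectivity on closed points -/
theorem inj_of_sep (hf : f ≫ CohB1.ProjSpace.toSpec n k = pX)
    (hsep : ∀ P Q : X, IsClosed ({P} : Set X) → IsClosed ({Q} : Set X) → P ≠ Q →
      ∃ c : Fin (n + 1) → k, (gsc pX f c P ∈ mL f P ∧ gsc pX f c Q ∉ mL f Q) ∨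
        (gsc pX f c Q ∈ mL f Q ∧ gsc pX f c P ∉ mL f P))
    (P Q : X) (hP : IsClosed ({P} : Set X)) (hQ : IsClosed ({Q} : Set X)) (h : f P = f Q) :
    P = Q := by
  by_contra hne
  obtain ⟨c, hc⟩ := hsep P Q hP hQ hne
  rw [gsc_mem_iff hf c P, gsc_mem_iff hf c Q, h] at hc
  tauto

omit [IsAlgClosed k] in
/-- the tangent condition gives `m_P = m_{f P} O_P` -/
theorem maximalIdeal_le_map (hf : f ≫ CohB1.ProjSpace.toSpec n k = pX) [IsLocallyNoetherian X]
    (P : X)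
    (htan : mL f P ≤ Submodule.span ↑(X.presheaf.stalk P)
      {v | ∃ c : Fin (n + 1) → k, v = gsc pX f c P ∧ v ∈ mL f P} ⊔
      (IsLocalRing.maximalIdeal ↑(X.presheaf.stalk P) ^ 2 •
        (⊤ : Submodule ↑(X.presheaf.stalk P) ↑((LL f).presheaf.stalk P)))) :
    IsLocalRing.maximalIdeal ↑(X.presheaf.stalk P) ≤
      Ideal.map (f.stalkMap P).hom
        (IsLocalRing.maximalIdeal ↑((CohB1.ProjSpace n k).presheaf.stalk (f P))) := by
  apply maximalIdeal_le_of_le_sup_sq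
  intro ρ hρ
  obtain ⟨i, hi⟩ := ProjUP8.hcov n k (f P)
  have hi' : f P ∈ Dc n k i := hi
  have ha' := isGen_gen (f := f) i
  have h1 : ρ • ((LL f).presheaf.germ (f ⁻¹ᵁ Dc n k i) P hi').hom (gen f i) ∈ mL f P :=
    (smul_germ_mem_iff ha' hi' _ ρ).2 hρ
  have h2 := htan h1
  have h3 : Submodule.span ↑(X.presheaf.stalk P)
      {v | ∃ c : Fin (n + 1) → k, v = gsc pX f c P ∧ v ∈ mL f P} ⊔
      (IsLocalRing.maximalIdeal ↑(X.presheaf.stalk P) ^ 2 •
        (⊤ : Submodule ↑(X.presheaf.stalk P) ↑((LL f).presheaf.stalk P))) ≤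
      (Ideal.map (f.stalkMap P).hom
          (IsLocalRing.maximalIdeal ↑((CohB1.ProjSpace n k).presheaf.stalk (f P))) ⊔
        IsLocalRing.maximalIdeal ↑(X.presheaf.stalk P) ^ 2) •
        (⊤ : Submodule ↑(X.presheaf.stalk P) ↑((LL f).presheaf.stalk P)) := by
    refine sup_le (Submodule.span_le.2 ?_) (Submodule.smul_mono le_sup_right le_rfl)
    rintro v ⟨c, rfl, hv⟩
    rw [gsc_eq hf i P hi' c] at hv ⊢
    have h4 := (smul_germ_mem_iff ha' hi' _ _).1 hv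
    have h5 := mem_maximalIdeal_of_stalkMap P _ h4
    exact Submodule.smul_mem_smul (Ideal.mem_sup_left (Ideal.mem_map_of_mem _ h5))
      Submodule.mem_top
  exact (smul_germ_mem_iff ha' hi' _ ρ).1 (h3 h2)

omit [IsAlgClosed k] in
/-- a proper morphism to projective space injective on closed points is finite -/
theorem isFinite_of_inj (hf : f ≫ CohB1.ProjSpace.toSpec n k = pX) [IsProper pX]
    (hinj : ∀ P Q : X, IsClosed ({P} : Set X) → IsClosed ({Q} : Set X) → f P = f Q → P = Q) :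
    IsFinite f := by
  haveI : IsProper (f ≫ CohB1.ProjSpace.toSpec n k) := by rw [hf]; infer_instance
  haveI : IsProper f := IsProper.of_comp f (CohB1.ProjSpace.toSpec n k)
  haveI : JacobsonSpace X := LocallyOfFiniteType.jacobsonSpace pX
  haveI : JacobsonSpace (CohB1.ProjSpace n k) :=
    LocallyOfFiniteType.jacobsonSpace (CohB1.ProjSpace.toSpec n k)
  have hfin : ∀ z : CohB1.ProjSpace n k, IsClosed ({z} : Set (CohB1.ProjSpace n k)) →
      (f ⁻¹' {z}).Finite := by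
    intro z hz
    have hcl : IsClosed (f ⁻¹' {z}) := hz.preimage f.continuous
    have hsub : (f ⁻¹' {z} ∩ closedPoints X).Subsingleton :=
      fun x hx y hy => hinj x y hx.2 hy.2 (hx.1.trans hy.1.symm)
    have hcl2 : closure (f ⁻¹' {z} ∩ closedPoints X) = f ⁻¹' {z} :=
      closure_inter_closedPoints hcl
    have hS : IsClosed (f ⁻¹' {z} ∩ closedPoints X) := by
      rcases hsub.eq_empty_or_singleton with h | ⟨x, hx⟩
      · rw [h]; exact isClosed_empty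
      · rw [hx]
        have hxm : x ∈ f ⁻¹' {z} ∩ closedPoints X := by rw [hx]; exact rfl
        exact hxm.2
    rw [← hcl2, hS.closure_eq]
    exact hsub.finite
  have hV : ∀ z : closedPoints (CohB1.ProjSpace n k),
      ∃ V : (CohB1.ProjSpace n k).Opens, z.1 ∈ V ∧ IsFinite (f ∣_ V) :=
    fun z => exists_isFinite_morphismRestrict_of_finite_preimage_singleton f z.1 (hfin z.1 z.2)
  choose V hzV hVfin using hV
  have hsup : iSup V = ⊤ := by
    by_contra hne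
    have hC : ((↑(iSup V) : Set (CohB1.ProjSpace n k))ᶜ).Nonempty := by
      rw [Set.nonempty_compl]
      intro h
      exact hne (SetLike.coe_injective (h.trans Opens.coe_top.symm))
    have hCcl : IsClosed ((↑(iSup V) : Set (CohB1.ProjSpace n k))ᶜ) :=
      (iSup V).isOpen.isClosed_compl
    obtain ⟨z, hzC, hzcl⟩ := nonempty_inter_closedPoints hC hCcl.isLocallyClosed
    exact hzC (Opens.mem_iSup.2 ⟨⟨z, hzcl⟩, hzV ⟨z, hzcl⟩⟩)
  exact IsZariskiLocalAtTarget.of_iSup_eq_top (P := @IsFinite) V hsup hVfin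

/-- surjectivity modulo a maximal ideal -/
theorem geo1 (hf : f ≫ CohB1.ProjSpace.toSpec n k = pX) [LocallyOfFiniteType pX] [IsFinite f]
    [JacobsonSpace X]
    (hinj : ∀ P Q : X, IsClosed ({P} : Set X) → IsClosed ({Q} : Set X) → f P = f Q → P = Q)
    (hmax : ∀ P : X, IsClosed ({P} : Set X) →
      IsLocalRing.maximalIdeal ↑(X.presheaf.stalk P) ≤
        Ideal.map (f.stalkMap P).hom
          (IsLocalRing.maximalIdeal ↑((CohB1.ProjSpace n k).presheaf.stalk (f P))))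
    (U : (CohB1.ProjSpace n k).Opens) (hU : IsAffineOpen U)
    (m : Ideal Γ(CohB1.ProjSpace n k, U)) (hm : m.IsMaximal) (b : Γ(X, f ⁻¹ᵁ U)) :
    ∃ a, b - (f.app U).hom a ∈ Ideal.map (f.app U).hom m := by
  have hV : IsAffineOpen (f ⁻¹ᵁ U) := hU.preimage f
  set J := Ideal.map (f.app U).hom m with hJdef
  have pt : ∀ 𝔫 : Ideal Γ(X, f ⁻¹ᵁ U), 𝔫.IsMaximal → J ≤ 𝔫 →
      ∃ (x : X) (hx : x ∈ f ⁻¹ᵁ U), IsClosed ({x} : Set X) ∧
        (hV.primeIdealOf ⟨x, hx⟩).asIdeal = 𝔫 ∧ (hU.primeIdealOf ⟨f x, hx⟩).asIdeal = m := by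
    intro 𝔫 h𝔫 hJ𝔫
    let y : PrimeSpectrum Γ(X, f ⁻¹ᵁ U) := ⟨𝔫, h𝔫.isPrime⟩
    have hxV : hV.fromSpec y ∈ f ⁻¹ᵁ U := by
      have h0 := hV.range_fromSpec
      have : hV.fromSpec y ∈ Set.range hV.fromSpec := Set.mem_range_self y
      rw [h0] at this
      exact this
    have hy : hV.primeIdealOf ⟨hV.fromSpec y, hxV⟩ = y :=
      hV.fromSpec.isOpenEmbedding.injective (hV.fromSpec_primeIdealOf ⟨hV.fromSpec y, hxV⟩)
    refine ⟨hV.fromSpec y, hxV, ?_, ?_, ?_⟩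
    · have hycl : y ∈ closedPoints (PrimeSpectrum Γ(X, f ⁻¹ᵁ U)) :=
        (PrimeSpectrum.isClosed_singleton_iff_isMaximal y).2 h𝔫
      have h1 := hV.fromSpec.isOpenEmbedding.preimage_closedPoints
      have h2 : y ∈ hV.fromSpec ⁻¹' closedPoints X := by rw [h1]; exact hycl
      exact h2
    · rw [hy]
    · have h2 := IsAffineOpen.comap_primeIdealOf_appLE (f := f) U hU (f ⁻¹ᵁ U) hV le_rfl hxV
      rw [hy] at h2
      have h3 : m ≤ Ideal.comap (f.app U).hom 𝔫 := Ideal.map_le_iff_le_comap.1 hJ𝔫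
      have h4 : m = Ideal.comap (f.app U).hom 𝔫 :=
        hm.eq_of_le (Ideal.comap_ne_top _ h𝔫.ne_top) h3
      rw [h4, ← h2, Scheme.Hom.appLE_eq_app]
      rfl
  by_cases hJ : J = ⊤
  · exact ⟨0, by rw [hJ]; trivial⟩
  obtain ⟨𝔫, h𝔫max, hJ𝔫⟩ := Ideal.exists_le_maximal J hJ
  obtain ⟨x, hx, hxcl, h𝔫eq, hmx⟩ := pt 𝔫 h𝔫max hJ𝔫
  have huniq : ∀ 𝔫' : Ideal Γ(X, f ⁻¹ᵁ U), 𝔫'.IsMaximal → J ≤ 𝔫' → 𝔫' = 𝔫 := by
    intro 𝔫' h𝔫' hJ𝔫'
    obtain ⟨x', hx', hxcl', h𝔫eq', hmx'⟩ := pt 𝔫' h𝔫' hJ𝔫'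
    have h1 : hU.primeIdealOf ⟨f x', hx'⟩ = hU.primeIdealOf ⟨f x, hx⟩ :=
      PrimeSpectrum.ext (hmx'.trans hmx.symm)
    have h2 := congrArg (fun y => hU.fromSpec y) h1
    simp only [IsAffineOpen.fromSpec_primeIdealOf] at h2
    have h3 : x' = x := hinj x' x hxcl' hxcl h2
    subst h3
    rw [← h𝔫eq', ← h𝔫eq]
  haveI := h𝔫max
  obtain ⟨ev, hev1, hev2⟩ := exists_ev pX hV 𝔫
  have h4 : b - resR (le_top : f ⁻¹ᵁ U ≤ ⊤) (ProjUP.toGlobal pX (ev b)) ∈ 𝔫 := by
    rw [← hev2, RingHom.mem_ker, map_sub, hev1, sub_self]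
  have hnat : (f.app U).hom (resR (le_top : U ≤ ⊤)
        (ProjUP.toGlobal (CohB1.ProjSpace.toSpec n k) (ev b))) =
      resR (le_top : f ⁻¹ᵁ U ≤ ⊤) (ProjUP.toGlobal pX (ev b)) := by
    rw [← hf, ← toGlobal_comp]
    have h5 := Scheme.Hom.map_appLE f (le_rfl : f ⁻¹ᵁ U ≤ f ⁻¹ᵁ U) (homOfLE (le_top : U ≤ ⊤)).op
    rw [Scheme.Hom.appLE_eq_app] at h5
    exact congrArg (fun φ => φ.hom (ProjUP.toGlobal (CohB1.ProjSpace.toSpec n k) (ev b))) h5
  refine ⟨resR (le_top : U ≤ ⊤) (ProjUP.toGlobal (CohB1.ProjSpace.toSpec n k) (ev b)), ?_⟩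
  rw [hnat]
  suffices h𝔫J : 𝔫 ≤ J from h𝔫J h4
  intro b' hb'
  subst h𝔫eq
  letI := X.presheaf.algebra_section_stalk (⟨x, hx⟩ : (f ⁻¹ᵁ U : Opens X))
  haveI := hV.isLocalization_stalk ⟨x, hx⟩
  apply mem_of_map_localization (S := ↑(X.presheaf.stalk x)) (hV.primeIdealOf ⟨x, hx⟩).asIdeal J
    huniq b'
  have h5 : (X.presheaf.germ (f ⁻¹ᵁ U) x hx).hom b' ∈
      IsLocalRing.maximalIdeal ↑(X.presheaf.stalk x) := (mem_primeIdealOf_iff hV x hx b').1 hb'
  have h6 := hmax x hxcl h5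
  letI := (CohB1.ProjSpace n k).presheaf.algebra_section_stalk
    (⟨f x, hx⟩ : (U : Opens (CohB1.ProjSpace n k)))
  haveI := hU.isLocalization_stalk ⟨f x, hx⟩
  have h7 := IsLocalization.AtPrime.map_eq_maximalIdeal (hU.primeIdealOf ⟨f x, hx⟩).asIdeal
    ↑((CohB1.ProjSpace n k).presheaf.stalk (f x))
  rw [← h7, hmx, Ideal.map_map] at h6
  have h8 : (f.stalkMap x).hom.comp (algebraMap Γ(CohB1.ProjSpace n k, U)
        ↑((CohB1.ProjSpace n k).presheaf.stalk (f x))) =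
      (algebraMap Γ(X, f ⁻¹ᵁ U) ↑(X.presheaf.stalk x)).comp (f.app U).hom := by
    ext r
    exact Scheme.Hom.germ_stalkMap_apply f U x hx r
  rw [h8, ← Ideal.map_map] at h6
  exact h6

/-- **separating points and tangent vectors implies closed immersion** -/
theorem closedImmersion_of_sep_tan (hf : f ≫ CohB1.ProjSpace.toSpec n k = pX) [IsProper pX]
    (hsep : ∀ P Q : X, IsClosed ({P} : Set X) → IsClosed ({Q} : Set X) → P ≠ Q →
      ∃ c : Fin (n + 1) → k, (gsc pX f c P ∈ mL f P ∧ gsc pX f c Q ∉ mL f Q) ∨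
        (gsc pX f c Q ∈ mL f Q ∧ gsc pX f c P ∉ mL f P))
    (htan : ∀ P : X, IsClosed ({P} : Set X) →
      mL f P ≤ Submodule.span ↑(X.presheaf.stalk P)
        {v | ∃ c : Fin (n + 1) → k, v = gsc pX f c P ∧ v ∈ mL f P} ⊔
        (IsLocalRing.maximalIdeal ↑(X.presheaf.stalk P) ^ 2 •
          (⊤ : Submodule ↑(X.presheaf.stalk P) ↑((LL f).presheaf.stalk P)))) :
    IsClosedImmersion f := by
  haveI : JacobsonSpace X := LocallyOfFiniteType.jacobsonSpace pX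
  haveI : IsLocallyNoetherian X := LocallyOfFiniteType.isLocallyNoetherian pX
  have hinj := inj_of_sep hf hsep
  haveI : IsFinite f := isFinite_of_inj hf hinj
  rw [isClosedImmersion_iff_isAffineHom]
  refine ⟨inferInstance, fun U hU => ?_⟩
  apply surjective_of_forall_maximal (f.app U).hom (IsFinite.finite_app f U hU)
  intro m hm b
  exact geo1 hf hinj (fun P hP => maximalIdeal_le_map hf P (htan P hP)) U hU m hm b

end Bwd

end Groth.Agent.Helper1.CIc
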