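import Mathlib
import Groth.Prelude.Def_RelProj3
import Groth.Agent.Lib.Helper1.AdjBC
import Groth.Agent.Lib.Helper1.Dehom

set_option autoImplicit false
universe u

open CategoryTheory AlgebraicGeometry TopologicalSpace Opposite HomogeneousLocalization
open scoped HomogeneousIdeal

namespace Groth.Agent.Helper1.CMA

open Groth.Agent.Helper1.Dehom Groth.Agent.Helper1.AdjBC Groth.Agent.Helper1.GrModQC

variable {A σ : Type u} [CommRing A] [SetLike σ A] [AddSubgroupClass σ A] {𝒜 : ℕ → σ} [GradedRing 𝒜]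
variable {B σ' : Type u} [CommRing B] [SetLike σ' B] [AddSubgroupClass σ' B] {ℬ : ℕ → σ'} [GradedRing ℬ]
variable (ψ : 𝒜 →+*ᵍ ℬ) (hψ : ℬ₊ ≤ (𝒜₊).map ψ)
variable {M τ : Type u} [AddCommGroup M] [Module A M] [SetLike τ M] [AddSubgroupClass τ M] (ℳ : ℕ → τ)
  [SetLike.GradedSMul 𝒜 ℳ] [DirectSum.Decomposition ℳ]
variable {N τ' : Type u} [AddCommGroup N] [Module B N] [SetLike τ' N] [AddSubgroupClass τ' N] (𝒩 : ℕ → τ')
  [SetLike.GradedSMul ℬ 𝒩] [DirectSum.Decomposition 𝒩]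
variable (v : M →ₛₗ[ψ.toRingHom] N) (hv : ∀ (i : ℕ) (m : M), m ∈ ℳ i → v m ∈ 𝒩 i)
variable (n : ℤ) {g : A} (hg : g ∈ 𝒜 1)

theorem map_eps (a : A) :
    Away.map ψ g (eps 𝒜 hg a) = eps ℬ (ψ.map_mem hg) (ψ a) := by
  classical
  induction a using DirectSum.Decomposition.inductionOn 𝒜 with
  | zero => simp
  | @homogeneous d a =>
    rw [eps_of_mem 𝒜 hg a.2, Away.map_mk]
    exact (eps_of_mem ℬ (ψ.map_mem hg) (ψ.map_mem a.2)).symm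
  | add a a' h h' => rw [map_add, map_add, h, h', map_add, map_add]

/-- the comparison map on chart sections -/
noncomputable abbrev vbar : Sec 𝒜 ℳ n hg →+ Sec ℬ 𝒩 n (ψ.map_mem hg) :=
  vmap (Proj.map ψ hψ) (CommRingCat.ofHom (Away.map ψ g))
    (Proj.awayι 𝒜 g hg Nat.one_pos) (Proj.awayι ℬ (ψ g) (ψ.map_mem hg) Nat.one_pos)
    (Proj.awayι_comp_map ψ hψ Nat.one_pos g hg)
    (GrMod.tilde 𝒜 ℳ n) (GrMod.tilde ℬ 𝒩 n) (GrMod.comap ψ hψ v hv n)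

theorem vbar_sec (e : ℕ) (m : ℳ e) :
    vbar ψ hψ ℳ 𝒩 v hv n hg (sec 𝒜 ℳ n hg e m) =
      sec ℬ 𝒩 n (ψ.map_mem hg) e ⟨v m.1, hv e _ m.2⟩ := by
  apply sec_ext
  intro y
  rw [sec_val]
  have hyU : (ProjectiveSpectrum.comap ψ hψ y.1) ∈ W 𝒜 hg := by
    rw [W_eq]
    have := not_mem ℬ (ψ.map_mem hg) y
    exact this
  have h1 : ((((show GrMod.sect ℬ 𝒩 n (op (W ℬ (ψ.map_mem hg))) from
      vbar ψ hψ ℳ 𝒩 v hv n hg (sec 𝒜 ℳ n hg e m))).1 y :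
      GrMod.tildeAt ℬ 𝒩 n y.1) : GrMod.LocMod ℬ (M := N) y.1) =
      GrMod.locModMap ψ hψ v y.1
        ((((show GrMod.sect 𝒜 ℳ n (op (W 𝒜 hg)) from sec 𝒜 ℳ n hg e m)).1
          ⟨ProjectiveSpectrum.comap ψ hψ y.1, hyU⟩ :
          GrMod.tildeAt 𝒜 ℳ n _) : GrMod.LocMod 𝒜 (M := M) _) := rfl
  rw [h1, sec_val, GrMod.locModMap_mk]
  rw [LocalizedModule.mk_eq]
  refine ⟨1, ?_⟩
  simp only [one_smul, Submonoid.smul_def, LinearMap.map_smulₛₗ, map_pow]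
  rfl


theorem vbar_dehom (m : M) :
    vbar ψ hψ ℳ 𝒩 v hv n hg (dehom 𝒜 ℳ n hg m) = dehom ℬ 𝒩 n (ψ.map_mem hg) (v m) := by
  classical
  induction m using DirectSum.Decomposition.inductionOn ℳ with
  | zero => simp
  | @homogeneous e m =>
    rw [dehom_of_mem 𝒜 ℳ n hg m.2, dehom_of_mem ℬ 𝒩 n (ψ.map_mem hg) (hv e _ m.2)]
    exact vbar_sec ψ hψ ℳ 𝒩 v hv n hg e m
  | add m m' h h' => rw [map_add, map_add, h, h', map_add, map_add]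

instance isIso_fromTildeΓ_A : IsIso (Scheme.Modules.fromTildeΓ (R := CommRingCat.of (Away 𝒜 g))
    ((GrMod.tilde 𝒜 ℳ n).restrict (Proj.awayι 𝒜 g hg Nat.one_pos))) :=
  isIso_fromTildeΓ_restrict 𝒜 ℳ n g hg Nat.one_pos

theorem isBC (hbc : ∀ (Q : Type u) [AddCommGroup Q] [Module B Q] (w : M →ₛₗ[ψ.toRingHom] Q),
      ∃! g₀ : N →ₗ[B] Q, ∀ m : M, g₀ (v m) = w m) :
    haveI := isIso_fromTildeΓ_A ℳ n hg
    haveI := isIso_fromTildeΓ_A 𝒩 n (ψ.map_mem hg)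
    IsBC (Proj.map ψ hψ) (CommRingCat.ofHom (Away.map ψ g))
      (Proj.awayι 𝒜 g hg Nat.one_pos) (Proj.awayι ℬ (ψ g) (ψ.map_mem hg) Nat.one_pos)
      (Proj.awayι_comp_map ψ hψ Nat.one_pos g hg)
      (GrMod.tilde 𝒜 ℳ n) (GrMod.tilde ℬ 𝒩 n) (GrMod.comap ψ hψ v hv n) := by
  intro Q w hw
  have key := bc_trans (ψ := ψ.toRingHom) (εA := eps 𝒜 hg) (εB := eps ℬ (ψ.map_mem hg))
    (θ := Away.map ψ g) (v := v) (πM := dehom 𝒜 ℳ n hg) (πN := dehom ℬ 𝒩 n (ψ.map_mem hg))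
    (vbar := vbar ψ hψ ℳ 𝒩 v hv n hg)
    (map_eps ψ hg) (vbar_dehom ψ hψ ℳ 𝒩 v hv n hg)
    (isQuotBC_dehom 𝒜 ℳ n hg) (isQuotBC_dehom ℬ 𝒩 n (ψ.map_mem hg)) hbc Q w hw
  obtain ⟨b, hb, hbu⟩ := key
  refine ⟨ModuleCat.ofHom (R := Away ℬ (ψ g)) (X := Sec ℬ 𝒩 n (ψ.map_mem hg)) (Y := Q) b, hb, ?_⟩
  intro b' hb'
  have := hbu b'.hom hb'
  apply ModuleCat.hom_ext
  exact this


omit [DirectSum.Decomposition ℳ] [DirectSum.Decomposition 𝒩] in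
include hψ in
/-- the charts `D₊(ψ g)`, `g ∈ 𝒜 1`, cover `Proj ℬ` -/
theorem exists_deg_one (hgen : (𝒜₊).toIdeal = Ideal.span (𝒜 1 : Set A)) (y : ProjectiveSpectrum ℬ) :
    ∃ g : A, g ∈ 𝒜 1 ∧ ψ g ∉ y.asHomogeneousIdeal := by
  by_contra hcon
  push Not at hcon
  apply y.not_irrelevant_le
  refine hψ.trans ?_
  change Ideal.map ψ (𝒜₊).toIdeal ≤ y.asHomogeneousIdeal.toIdeal
  rw [hgen, Ideal.map_span, Ideal.span_le]
  rintro _ ⟨a, ha, rfl⟩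
  exact hcon a ha

theorem isIso_adjunct (hgen : (𝒜₊).toIdeal = Ideal.span (𝒜 1 : Set A))
    (hbc : ∀ (Q : Type u) [AddCommGroup Q] [Module B Q] (w : M →ₛₗ[ψ.toRingHom] Q),
      ∃! g₀ : N →ₗ[B] Q, ∀ m : M, g₀ (v m) = w m) :
    IsIso (((Scheme.Modules.pullbackPushforwardAdjunction (Proj.map ψ hψ)).homEquiv _ _).symm
      (GrMod.comap ψ hψ v hv n)) := by
  apply isIso_of_restrict
  intro y
  obtain ⟨g, hg, hgy⟩ := exists_deg_one ψ hψ hgen y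
  refine ⟨_, Proj.awayι ℬ (ψ g) (ψ.map_mem hg) Nat.one_pos, inferInstance, ?_, ?_⟩
  · rw [Proj.opensRange_awayι]
    exact hgy
  · haveI := isIso_fromTildeΓ_A ℳ n hg
    haveI := isIso_fromTildeΓ_A 𝒩 n (ψ.map_mem hg)
    exact isIso_restrict_adjunct (Proj.map ψ hψ) (CommRingCat.ofHom (Away.map ψ g))
      (Proj.awayι 𝒜 g hg Nat.one_pos) (Proj.awayι ℬ (ψ g) (ψ.map_mem hg) Nat.one_pos)
      (Proj.awayι_comp_map ψ hψ Nat.one_pos g hg)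
      (GrMod.tilde 𝒜 ℳ n) (GrMod.tilde ℬ 𝒩 n) (GrMod.comap ψ hψ v hv n)
      (isBC ψ hψ ℳ 𝒩 v hv n hg hbc)

end Groth.Agent.Helper1.CMA
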