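import Mathlib
import Groth.Prelude.Def_CAlgX

universe u
open MvPolynomial

namespace Groth.Agent.Helper1.QuasiReg
variable {A : Type u} [CommRing A]

/-- value of a monomial of degree `n` lies in `J^n` -/
theorem prod_pow_mem {c : ℕ} (f : Fin c → A) (d : Fin c →₀ ℕ) :
    ∏ i, f i ^ d i ∈ Ideal.span (Set.range f) ^ (∑ i, d i) := by
  rw [Ideal.mem_span_pow_iff_exists_isHomogeneous]
  refine ⟨monomial d 1, ?_, ?_⟩
  · exact isHomogeneous_monomial (R := A) (d := d) (n := ∑ i, d i) 1 (Finsupp.degree_eq_sum d)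
  · rw [eval_monomial, one_mul, Finsupp.prod_fintype]
    intro i; exact pow_zero _

/-- a homogeneous polynomial of degree `n` with coefficients in `I` takes values in `I * J^n`. -/
theorem eval_mem_mul_pow {c : ℕ} (f : Fin c → A) (I : Ideal A) {n : ℕ}
    (P : MvPolynomial (Fin c) A) (hP : P.IsHomogeneous n) (hI : ∀ d, P.coeff d ∈ I) :
    eval f P ∈ I * Ideal.span (Set.range f) ^ n := by
  rw [eval_eq']
  refine Ideal.sum_mem _ fun d hd => ?_
  refine Ideal.mul_mem_mul (hI d) ?_
  have hdeg : ∑ i, d i = n := by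
    have := hP (mem_support_iff.mp hd)
    rw [← Finsupp.degree_eq_sum, Finsupp.degree_eq_weight_one]
    exact this
  rw [← hdeg]
  exact prod_pow_mem f d

theorem isQuasiRegular_comp_equiv {c : ℕ} (f : Fin c → A) (σ : Fin c ≃ Fin c)
    (hf : CAlgX.IsQuasiRegular f) : CAlgX.IsQuasiRegular (f ∘ σ) := by
  intro n P hP hev d
  have hr : Set.range (f ∘ σ) = Set.range f := by
    rw [Set.range_comp, σ.surjective.range_eq, Set.image_univ]
  rw [hr] at hev ⊢
  have h1 := hf n (rename σ P) (hP.rename_isHomogeneous) (by rwa [eval_rename])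
    (d.mapDomain σ)
  rwa [coeff_rename_mapDomain σ σ.injective] at h1

end Groth.Agent.Helper1.QuasiReg

namespace Groth.Agent.Helper1.QuasiReg
variable {A : Type u} [CommRing A]

/-- Claim (1): if `g` is regular modulo `J'` and `f'` is quasi-regular then `g` is regular modulo
every power of `J'`. -/
theorem mem_pow_of_mul_mem {c : ℕ} (f' : Fin c → A) (hq : CAlgX.IsQuasiRegular f') (g : A)
    (hg : ∀ x, g * x ∈ Ideal.span (Set.range f') → x ∈ Ideal.span (Set.range f')) (n : ℕ) :
    ∀ x, g * x ∈ Ideal.span (Set.range f') ^ n → x ∈ Ideal.span (Set.range f') ^ n := by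
  induction n with
  | zero => intro x _; simp
  | succ n ih =>
    intro x hx
    have hx' : x ∈ Ideal.span (Set.range f') ^ n := ih x (Ideal.pow_le_pow_right (Nat.le_succ n) hx)
    obtain ⟨P, hP, rfl⟩ := (Ideal.mem_span_pow_iff_exists_isHomogeneous f' x).mp hx'
    have h1 : ∀ d, (C g * P).coeff d ∈ Ideal.span (Set.range f') := by
      refine hq n (C g * P) ?_ ?_
      · have := (isHomogeneous_C (Fin c) g).mul hP
        simpa using this
      · rw [map_mul, eval_C]; exact hx
    have h2 : ∀ d, P.coeff d ∈ Ideal.span (Set.range f') := by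
      intro d
      apply hg
      have := h1 d
      rwa [coeff_C_mul] at this
    have := eval_mem_mul_pow f' _ P hP h2
    rwa [← pow_succ'] at this

end Groth.Agent.Helper1.QuasiReg

namespace Groth.Agent.Helper1.QuasiReg
variable {A : Type u} [CommRing A]

theorem coeff_iterate_divX (r : Polynomial A) (j k : ℕ) :
    (Polynomial.divX^[j] r).coeff k = r.coeff (k + j) := by
  induction j generalizing k with
  | zero => simp
  | succ j ih =>
    rw [Function.iterate_succ_apply', Polynomial.coeff_divX, ih]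
    congr 1; omega

theorem eval_iterate_divX (g : A) (r : Polynomial A) (j : ℕ) :
    Polynomial.eval g (Polynomial.divX^[j] r) =
      r.coeff j + g * Polynomial.eval g (Polynomial.divX^[j + 1] r) := by
  have h := Polynomial.divX_mul_X_add (Polynomial.divX^[j] r)
  have h2 := congrArg (Polynomial.eval g) h
  rw [Polynomial.eval_add, Polynomial.eval_mul, Polynomial.eval_X, Polynomial.eval_C,
    coeff_iterate_divX, zero_add] at h2
  rw [Function.iterate_succ_apply', ← h2]
  ring

/-- the descent lemma -/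
theorem descent (I : Ideal A) (g : A) (n : ℕ)
    (hg : ∀ m x, g * x ∈ I ^ m → x ∈ I ^ m)
    (r : Polynomial A) (hr : Polynomial.eval g r = 0) (hc : ∀ k, r.coeff k ∈ I ^ (n - k)) :
    ∀ j, r.coeff j ∈ I ^ (n + 1 - j) ⊔ Ideal.span {g} * I ^ (n - j) := by
  have hw : ∀ j, Polynomial.eval g (Polynomial.divX^[j] r) ∈ I ^ (n + 1 - j) := by
    intro j
    induction j with
    | zero => simp [hr]
    | succ j ih =>
      have h1 := eval_iterate_divX g r j
      have h2 : g * Polynomial.eval g (Polynomial.divX^[j + 1] r) ∈ I ^ (n - j) := by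
        have : g * Polynomial.eval g (Polynomial.divX^[j + 1] r) =
            Polynomial.eval g (Polynomial.divX^[j] r) - r.coeff j := by rw [h1]; ring
        rw [this]
        exact Ideal.sub_mem _ (Ideal.pow_le_pow_right (by omega) ih) (hc j)
      have h3 := hg _ _ h2
      have : n + 1 - (j + 1) = n - j := by omega
      rw [this]; exact h3
  intro j
  have h1 := eval_iterate_divX g r j
  have : r.coeff j = Polynomial.eval g (Polynomial.divX^[j] r) -
      g * Polynomial.eval g (Polynomial.divX^[j + 1] r) := by rw [h1]; ring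
  rw [this]
  refine Ideal.sub_mem _ (Ideal.mem_sup_left (hw j)) (Ideal.mem_sup_right ?_)
  refine Ideal.mul_mem_mul (Ideal.mem_span_singleton_self g) ?_
  have := hw (j + 1)
  have h : n + 1 - (j + 1) = n - j := by omega
  rwa [h] at this

end Groth.Agent.Helper1.QuasiReg

namespace Groth.Agent.Helper1.QuasiReg
variable {A : Type u} [CommRing A]

theorem eval_coeff_finSuccEquiv_mem {c : ℕ} (f' : Fin c → A) {n : ℕ}
    (P : MvPolynomial (Fin (c + 1)) A) (hP : P.IsHomogeneous n) (k : ℕ) :
    eval f' ((finSuccEquiv A c P).coeff k) ∈ Ideal.span (Set.range f') ^ (n - k) := by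
  by_cases hk : k ≤ n
  · rw [Ideal.mem_span_pow_iff_exists_isHomogeneous]
    exact ⟨_, hP.finSuccEquiv_coeff_isHomogeneous k (n - k) (by omega), rfl⟩
  · have : n - k = 0 := by omega
    simp [this]

theorem isQuasiRegular_cons {c : ℕ} (f' : Fin c → A) (hq : CAlgX.IsQuasiRegular f') (g : A)
    (hg : ∀ x, g * x ∈ Ideal.span (Set.range f') → x ∈ Ideal.span (Set.range f')) :
    CAlgX.IsQuasiRegular (Fin.cons g f' : Fin (c + 1) → A) := by
  intro n P hP hev D
  have hJ' : Ideal.span (Set.range f') ≤ Ideal.span (Set.range (Fin.cons g f' : Fin (c + 1) → A)) := by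
    apply Ideal.span_mono
    rintro _ ⟨i, rfl⟩
    exact ⟨i.succ, by simp⟩
  have hgJ : g ∈ Ideal.span (Set.range (Fin.cons g f' : Fin (c + 1) → A)) :=
    Ideal.subset_span ⟨0, by simp⟩
  by_cases hD : P.coeff D = 0
  · rw [hD]; exact Ideal.zero_mem _
  have hDn : ∑ i, D i = n := by
    have := hP hD
    rw [← Finsupp.degree_eq_sum, Finsupp.degree_eq_weight_one]
    exact this
  have hj : D 0 ≤ n := by
    rw [← hDn]
    exact Finset.single_le_sum (f := fun i => D i) (fun i _ => Nat.zero_le _) (Finset.mem_univ 0)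
  have hg' := mem_pow_of_mul_mem f' hq g hg
  obtain ⟨Q, hQ, hQe⟩ := (Ideal.mem_span_pow_iff_exists_isHomogeneous _ _).mp hev
  set p := Polynomial.map (eval f') (finSuccEquiv A c P) with hp
  set q := Polynomial.map (eval f') (finSuccEquiv A c Q) with hq'
  have hr : Polynomial.eval g (p - q) = 0 := by
    rw [Polynomial.eval_sub, hp, hq', ← eval_eq_eval_mv_eval', ← eval_eq_eval_mv_eval', hQe, sub_self]
  have hpc : ∀ k, p.coeff k ∈ Ideal.span (Set.range f') ^ (n - k) := by
    intro k
    rw [hp, Polynomial.coeff_map]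
    exact eval_coeff_finSuccEquiv_mem f' P hP k
  have hqc : ∀ k, q.coeff k ∈ Ideal.span (Set.range f') ^ (n + 1 - k) := by
    intro k
    rw [hq', Polynomial.coeff_map]
    exact eval_coeff_finSuccEquiv_mem f' Q hQ k
  have hc : ∀ k, (p - q).coeff k ∈ Ideal.span (Set.range f') ^ (n - k) := by
    intro k
    rw [Polynomial.coeff_sub]
    exact Ideal.sub_mem _ (hpc k) (Ideal.pow_le_pow_right (by omega) (hqc k))
  have hdesc := descent _ g n hg' (p - q) hr hc (D 0)
  have hpj : p.coeff (D 0) ∈ Ideal.span (Set.range f') ^ (n + 1 - D 0) ⊔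
      Ideal.span {g} * Ideal.span (Set.range f') ^ (n - D 0) := by
    have : p.coeff (D 0) = (p - q).coeff (D 0) + q.coeff (D 0) := by
      rw [Polynomial.coeff_sub]; ring
    rw [this]
    exact Ideal.add_mem _ hdesc (Ideal.mem_sup_left (hqc _))
  obtain ⟨a, ha, b, hb, hab⟩ := Submodule.mem_sup.mp hpj
  obtain ⟨b', hb', rfl⟩ := Ideal.mem_span_singleton_mul.mp hb
  obtain ⟨H, hH, rfl⟩ := (Ideal.mem_span_pow_iff_exists_isHomogeneous f' b').mp hb'
  set F := (finSuccEquiv A c P).coeff (D 0) with hF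
  have hFh : F.IsHomogeneous (n - D 0) := hP.finSuccEquiv_coeff_isHomogeneous _ _ (by omega)
  have hGh : (F - C g * H).IsHomogeneous (n - D 0) := by
    have h1 := (isHomogeneous_C (Fin c) g).mul hH
    rw [zero_add] at h1
    exact hFh.sub h1
  have hGe : eval f' (F - C g * H) ∈ Ideal.span (Set.range f') ^ (n - D 0 + 1) := by
    have : eval f' (F - C g * H) = a := by
      rw [map_sub, map_mul, eval_C]
      have : eval f' F = p.coeff (D 0) := by rw [hp, Polynomial.coeff_map]
      rw [this, ← hab]; ring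
    rw [this]
    have h : n + 1 - D 0 = n - D 0 + 1 := by omega
    rwa [h] at ha
  have hG := hq (n - D 0) (F - C g * H) hGh hGe (Finsupp.tail D)
  have hPD : P.coeff D = F.coeff (Finsupp.tail D) := by
    rw [hF, finSuccEquiv_coeff_coeff, Finsupp.cons_tail]
  rw [hPD]
  have : F.coeff (Finsupp.tail D) = (F - C g * H).coeff (Finsupp.tail D) +
      g * H.coeff (Finsupp.tail D) := by
    rw [coeff_sub, coeff_C_mul]; ring
  rw [this]
  exact Ideal.add_mem _ (hJ' hG) (Ideal.mul_mem_right _ _ hgJ)

end Groth.Agent.Helper1.QuasiReg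

namespace Groth.Agent.Helper1.QuasiReg
variable {A : Type u} [CommRing A]

theorem ofList_ofFn {c : ℕ} (f : Fin c → A) :
    Ideal.ofList (List.ofFn f) = Ideal.span (Set.range f) := by
  unfold Ideal.ofList
  congr 1
  ext x
  simp [List.mem_ofFn]

theorem isQuasiRegular_fin_zero (f : Fin 0 → A) : CAlgX.IsQuasiRegular f := by
  intro n P hP hev d
  have hd : d = 0 := Subsingleton.elim _ _
  have hJ : Ideal.span (Set.range f) = ⊥ := by
    rw [Ideal.span_eq_bot]
    rintro _ ⟨i, rfl⟩
    exact i.elim0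
  rw [hJ] at hev ⊢
  rw [Ideal.mem_bot]
  have h0 : (⊥ : Ideal A) ^ (n + 1) = ⊥ := by
    rw [pow_succ, Ideal.mul_bot]
  rw [h0, Ideal.mem_bot] at hev
  have hP' : P = C (P.coeff 0) := by
    ext e
    have he : e = 0 := Subsingleton.elim _ _
    rw [he, coeff_C]; simp
  rw [hP', eval_C] at hev
  rw [hd, hev]

theorem isQuasiRegular_of_isWeaklyRegular : ∀ (c : ℕ) (f : Fin c → A),
    RingTheory.Sequence.IsWeaklyRegular A (List.ofFn f) → CAlgX.IsQuasiRegular f := by
  intro c
  induction c with
  | zero => intro f _; exact isQuasiRegular_fin_zero f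
  | succ c ih =>
    intro f hf
    rw [List.ofFn_succ', List.concat_eq_append,
      RingTheory.Sequence.isWeaklyRegular_append_iff] at hf
    obtain ⟨hf1, hf2⟩ := hf
    rw [RingTheory.Sequence.isWeaklyRegular_singleton_iff] at hf2
    set f' : Fin c → A := fun i => f (Fin.castSucc i) with hf'
    have hq' := ih f' hf1
    have hN : (Ideal.ofList (List.ofFn f') • (⊤ : Submodule A A)) = Ideal.span (Set.range f') := by
      rw [ofList_ofFn, smul_eq_mul, Ideal.mul_top]
    have hg : ∀ x, f (Fin.last c) * x ∈ Ideal.span (Set.range f') →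
        x ∈ Ideal.span (Set.range f') := by
      intro x hx
      rw [← hN] at hx ⊢
      have h1 : f (Fin.last c) • (Submodule.Quotient.mk x :
          A ⧸ (Ideal.ofList (List.ofFn f') • (⊤ : Submodule A A))) =
          f (Fin.last c) • (0 : A ⧸ (Ideal.ofList (List.ofFn f') • (⊤ : Submodule A A))) := by
        rw [smul_zero, ← Submodule.Quotient.mk_smul, Submodule.Quotient.mk_eq_zero]
        exact hx
      exact (Submodule.Quotient.mk_eq_zero _).mp (hf2 h1)
    have hcons := isQuasiRegular_cons f' hq' (f (Fin.last c)) hg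
    have hperm : f = (Fin.cons (f (Fin.last c)) f' : Fin (c + 1) → A) ∘ (finRotate (c + 1)) := by
      funext i
      refine Fin.lastCases ?_ (fun j => ?_) i
      · simp
      · simp [hf']
    rw [hperm]
    exact isQuasiRegular_comp_equiv _ _ hcons

end Groth.Agent.Helper1.QuasiReg

namespace Groth.Agent.Helper1.QuasiReg
variable {A : Type u} [CommRing A]

/-- regular sequence on the `A`-module `A ⧸ J` gives a quasi-regular sequence in the ring `A ⧸ J` -/
theorem isQuasiRegular_quotient (J : Ideal A) {r : ℕ} (f : Fin r → A)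
    (hf : RingTheory.Sequence.IsWeaklyRegular (A ⧸ J) (List.ofFn f)) :
    CAlgX.IsQuasiRegular (fun i => Ideal.Quotient.mk J (f i)) := by
  apply isQuasiRegular_of_isWeaklyRegular
  have := (RingTheory.Sequence.isWeaklyRegular_map_algebraMap_iff (A ⧸ J) (A ⧸ J)
    (List.ofFn f)).mpr hf
  rw [List.map_ofFn] at this
  exact this

theorem aux (J R : Ideal A) (m : ℕ) (z : A) (hzJ : z ∈ J)
    (h1 : z ∈ (R ⊔ J) * R ^ m) :
    z ∈ J * R ^ m ⊔ J ⊓ R ^ (m + 1) := by
  rw [Ideal.sup_mul] at h1
  obtain ⟨z₁, hz₁, z₂, hz₂, hz⟩ := Submodule.mem_sup.mp h1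
  have hz₂J : z₂ ∈ J := Ideal.mul_le_right (I := R ^ m) (J := J) (by rwa [mul_comm] at hz₂)
  have hz₁J : z₁ ∈ J := by
    have : z₁ = z - z₂ := by rw [← hz]; ring
    rw [this]
    exact Ideal.sub_mem _ hzJ hz₂J
  have hz₁' : z₁ ∈ R ^ (m + 1) := by
    rwa [← pow_succ'] at hz₁
  have hfin : z₂ + z₁ ∈ J * R ^ m ⊔ J ⊓ R ^ (m + 1) :=
    Ideal.add_mem _ (Ideal.mem_sup_left hz₂) (Ideal.mem_sup_right (Ideal.mem_inf.mpr ⟨hz₁J, hz₁'⟩))
  have : z = z₂ + z₁ := by rw [← hz]; ring
  rw [this]
  exact hfin

theorem inf_pow_le_step (J : Ideal A) {r : ℕ} (f : Fin r → A)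
    (hq : CAlgX.IsQuasiRegular (fun i => Ideal.Quotient.mk J (f i))) (m : ℕ) :
    J ⊓ Ideal.span (Set.range f) ^ m ≤
      J * Ideal.span (Set.range f) ^ m ⊔ J ⊓ Ideal.span (Set.range f) ^ (m + 1) := by
  intro z hz
  obtain ⟨hzJ, hzR⟩ := hz
  obtain ⟨P, hP, rfl⟩ := (Ideal.mem_span_pow_iff_exists_isHomogeneous f z).mp hzR
  have hmapR : Ideal.span (Set.range fun i => Ideal.Quotient.mk J (f i)) =
      (Ideal.span (Set.range f)).map (Ideal.Quotient.mk J) := by
    rw [Ideal.map_span, ← Set.range_comp]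
    rfl
  have hPbar : (map (Ideal.Quotient.mk J) P).IsHomogeneous m := hP.map _
  have hev : eval (fun i => Ideal.Quotient.mk J (f i)) (map (Ideal.Quotient.mk J) P) = 0 := by
    have : eval (fun i => Ideal.Quotient.mk J (f i)) (map (Ideal.Quotient.mk J) P) =
        Ideal.Quotient.mk J (eval f P) := by
      rw [eval_map]
      have := eval₂_comp_left (Ideal.Quotient.mk J) (RingHom.id A) f P
      rw [RingHom.comp_id] at this
      exact this.symm
    rw [this]
    exact Ideal.Quotient.eq_zero_iff_mem.mpr hzJ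
  have hcoef : ∀ d, P.coeff d ∈ Ideal.span (Set.range f) ⊔ J := by
    intro d
    have := hq m _ hPbar (by rw [hev]; exact Ideal.zero_mem _) d
    rw [hmapR, coeff_map, Ideal.mem_quotient_iff_mem_sup] at this
    exact this
  exact aux J _ m _ hzJ (eval_mem_mul_pow f _ P hP hcoef)

theorem inf_pow_eq (J : Ideal A) {r : ℕ} (f : Fin r → A)
    (hq : CAlgX.IsQuasiRegular (fun i => Ideal.Quotient.mk J (f i))) (n N : ℕ) (hnN : n ≤ N) :
    J ⊓ Ideal.span (Set.range f) ^ n =
      J * Ideal.span (Set.range f) ^ n ⊔ J ⊓ Ideal.span (Set.range f) ^ N := by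
  apply le_antisymm
  · induction N, hnN using Nat.le_induction with
    | base => exact le_sup_right
    | succ N hN ih =>
      refine ih.trans (sup_le le_sup_left ?_)
      refine (inf_pow_le_step J f hq N).trans (sup_le ?_ le_sup_right)
      exact le_sup_of_le_left (Ideal.mul_mono_right (Ideal.pow_le_pow_right hN))
  · refine sup_le Ideal.mul_le_inf (inf_le_inf_left _ (Ideal.pow_le_pow_right hnN))

end Groth.Agent.Helper1.QuasiReg

namespace Groth.Agent.Helper1.QuasiReg
variable {A : Type u} [CommRing A]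

/-- ideals are closed in the `R`-adic topology when `R` is in the Jacobson radical. -/
theorem mem_of_forall_mem_sup_pow [IsNoetherianRing A] (R K : Ideal A)
    (hR : R ≤ (⊥ : Ideal A).jacobson) (x : A) (hx : ∀ N : ℕ, x ∈ K ⊔ R ^ N) : x ∈ K := by
  have h0 := Ideal.iInf_pow_smul_eq_bot_of_le_jacobson (M := A ⧸ K) R hR
  have h1 : (Submodule.Quotient.mk x : A ⧸ K) ∈ (⨅ i : ℕ, R ^ i • ⊤ : Submodule A (A ⧸ K)) := by
    rw [Submodule.mem_iInf]
    intro N
    obtain ⟨k, hk, r, hr, hkr⟩ := Submodule.mem_sup.mp (hx N)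
    have : (Submodule.Quotient.mk x : A ⧸ K) = r • (Submodule.Quotient.mk 1 : A ⧸ K) := by
      rw [← Submodule.Quotient.mk_smul, smul_eq_mul, mul_one, ← hkr, Submodule.Quotient.mk_add,
        (Submodule.Quotient.mk_eq_zero K).mpr hk, zero_add]
    rw [this]
    exact Submodule.smul_mem_smul hr Submodule.mem_top
  rw [h0, Submodule.mem_bot] at h1
  exact (Submodule.Quotient.mk_eq_zero K).mp h1

theorem inf_pow_eq_mul [IsNoetherianRing A] (J : Ideal A) {r : ℕ} (f : Fin r → A)
    (hq : CAlgX.IsQuasiRegular (fun i => Ideal.Quotient.mk J (f i)))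
    (hrad : Ideal.span (Set.range f) ≤ (⊥ : Ideal A).jacobson) (n : ℕ) :
    J ⊓ Ideal.span (Set.range f) ^ n = J * Ideal.span (Set.range f) ^ n := by
  apply le_antisymm _ Ideal.mul_le_inf
  intro x hx
  apply mem_of_forall_mem_sup_pow _ _ hrad
  intro N
  by_cases hN : n ≤ N
  · have h := inf_pow_eq J f hq n N hN
    rw [h] at hx
    have hle : J * Ideal.span (Set.range f) ^ n ⊔ J ⊓ Ideal.span (Set.range f) ^ N ≤
        J * Ideal.span (Set.range f) ^ n ⊔ Ideal.span (Set.range f) ^ N :=
      sup_le le_sup_left (le_sup_of_le_right inf_le_right)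
    exact hle hx
  · exact Ideal.mem_sup_right (Ideal.pow_le_pow_right (by omega) hx.2)

theorem inf_sq_eq [IsNoetherianRing A] (J : Ideal A) {r : ℕ} (f : Fin r → A)
    (hq : CAlgX.IsQuasiRegular (fun i => Ideal.Quotient.mk J (f i)))
    (hrad : Ideal.span (Set.range f) ≤ (⊥ : Ideal A).jacobson) :
    J ⊓ (J ⊔ Ideal.span (Set.range f)) ^ 2 = J * (J ⊔ Ideal.span (Set.range f)) := by
  set R := Ideal.span (Set.range f) with hRdef
  apply le_antisymm
  · intro x hx
    have h1 : (J ⊔ R) ^ 2 ≤ J * (J ⊔ R) ⊔ R ^ 2 := by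
      rw [pow_two, Ideal.sup_mul]
      refine sup_le le_sup_left ?_
      rw [Ideal.mul_sup]
      refine sup_le ?_ ?_
      · rw [mul_comm]
        exact le_sup_of_le_left (Ideal.mul_mono_right le_sup_right)
      · rw [← pow_two]; exact le_sup_right
    obtain ⟨a, ha, b, hb, hab⟩ := Submodule.mem_sup.mp (h1 hx.2)
    have haJ : a ∈ J := Ideal.mul_le_right (I := J ⊔ R) (J := J) (by rwa [mul_comm] at ha)
    have hbJ : b ∈ J := by
      have : b = x - a := by rw [← hab]; ring
      rw [this]; exact Ideal.sub_mem _ hx.1 haJ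
    have hb' : b ∈ J * R ^ 2 := by
      rw [← inf_pow_eq_mul J f hq hrad 2]
      exact Ideal.mem_inf.mpr ⟨hbJ, hb⟩
    rw [← hab]
    refine Ideal.add_mem _ ha ?_
    refine Ideal.mul_mono_right ?_ hb'
    exact le_sup_of_le_right (Ideal.pow_le_self (by norm_num))
  · refine le_inf ?_ ?_
    · intro x hx
      exact Ideal.mul_le_right (I := J ⊔ R) (J := J) (by rwa [mul_comm] at hx)
    · rw [pow_two]
      exact Ideal.mul_mono_left le_sup_left

end Groth.Agent.Helper1.QuasiReg

namespace Groth.Agent.Helper1.QuasiReg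

section Subst
variable {A : Type u} [CommRing A] {n : ℕ}

/-- the linear substitution `T_i ↦ Σ_j M i j T_j` -/
noncomputable def lin (M : Matrix (Fin n) (Fin n) A) : Fin n → MvPolynomial (Fin n) A :=
  fun i => ∑ j, C (M i j) * X j

theorem lin_isHomogeneous (M : Matrix (Fin n) (Fin n) A) (i : Fin n) :
    (lin M i).IsHomogeneous 1 :=
  IsHomogeneous.sum _ _ _ fun j _ => (isHomogeneous_X A j).C_mul _

theorem eval_lin (M : Matrix (Fin n) (Fin n) A) (f : Fin n → A) (i : Fin n) :
    eval f (lin M i) = ∑ j, M i j * f j := by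
  simp [lin]

theorem eval_bind₁_lin (M : Matrix (Fin n) (Fin n) A) (f : Fin n → A)
    (P : MvPolynomial (Fin n) A) :
    eval f (bind₁ (lin M) P) = eval (fun i => ∑ j, M i j * f j) P := by
  have := eval₂Hom_bind₁ (RingHom.id A) f (lin M) P
  have h2 : (fun i => eval₂Hom (RingHom.id A) f (lin M i)) = fun i => ∑ j, M i j * f j := by
    funext i
    exact eval_lin M f i
  rw [h2] at this
  exact this

theorem bind₁_lin_comp (M N : Matrix (Fin n) (Fin n) A) (P : MvPolynomial (Fin n) A) :
    bind₁ (lin N) (bind₁ (lin M) P) = bind₁ (lin (M * N)) P := by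
  rw [bind₁_bind₁]
  congr 2
  funext i
  simp only [lin, map_sum, map_mul, bind₁_C_right, bind₁_X_right, Matrix.mul_apply, Finset.mul_sum,
    Finset.sum_mul]
  rw [Finset.sum_comm]
  refine Finset.sum_congr rfl fun k _ => Finset.sum_congr rfl fun j _ => ?_
  simp [mul_assoc]

theorem bind₁_lin_one (P : MvPolynomial (Fin n) A) :
    bind₁ (lin (1 : Matrix (Fin n) (Fin n) A)) P = P := by
  have : lin (1 : Matrix (Fin n) (Fin n) A) = X := by
    funext i
    simp [lin, Matrix.one_apply]
  rw [this, bind₁_X_left]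
  rfl

variable {B : Type u} [CommRing B]

theorem map_bind₁_lin (φ : A →+* B) (M : Matrix (Fin n) (Fin n) A) (P : MvPolynomial (Fin n) A) :
    map φ (bind₁ (lin M) P) = bind₁ (lin (M.map φ)) (map φ P) := by
  rw [map_bind₁]
  congr 2
  funext i
  simp [lin]

end Subst

end Groth.Agent.Helper1.QuasiReg

namespace Groth.Agent.Helper1.QuasiReg
variable {A : Type u} [CommRing A]

theorem coeff_lin {n : ℕ} (M : Matrix (Fin n) (Fin n) A) (i j : Fin n) :
    (lin M i).coeff (Finsupp.single j 1) = M i j := by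
  classical
  simp only [lin, coeff_sum, coeff_C_mul, coeff_X]
  rw [Finset.sum_eq_single j]
  · simp
  · intro b _ hb
    have : Finsupp.single b 1 ≠ Finsupp.single j 1 := by
      intro h
      exact hb ((Finsupp.single_left_inj one_ne_zero).mp h)
    simp [this]
  · intro h; exact absurd (Finset.mem_univ _) h

theorem isQuasiRegular_of_span_eq {n : ℕ} (f f' : Fin n → A) (hf : CAlgX.IsQuasiRegular f)
    (h : Ideal.span (Set.range f') = Ideal.span (Set.range f)) : CAlgX.IsQuasiRegular f' := by
  classical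
  have hM : ∀ i, ∃ row : Fin n → A, ∑ j, row j * f j = f' i := fun i =>
    Ideal.mem_span_range_iff_exists_fun.mp (h ▸ Ideal.subset_span ⟨i, rfl⟩)
  have hN : ∀ i, ∃ row : Fin n → A, ∑ j, row j * f' j = f i := fun i =>
    Ideal.mem_span_range_iff_exists_fun.mp (h.symm ▸ Ideal.subset_span ⟨i, rfl⟩)
  choose M hM using hM
  choose N hN using hN
  let MM : Matrix (Fin n) (Fin n) A := Matrix.of M
  let NN : Matrix (Fin n) (Fin n) A := Matrix.of N
  have hK : ∀ i j, (NN * MM - 1) i j ∈ Ideal.span (Set.range f) := by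
    intro i
    have hev : eval f (lin (NN * MM - 1) i) = 0 := by
      rw [eval_lin]
      simp only [Matrix.sub_apply, Matrix.mul_apply, sub_mul, Finset.sum_sub_distrib,
        Finset.sum_mul, Matrix.one_apply, ite_mul, one_mul, zero_mul, Finset.sum_ite_eq,
        Finset.mem_univ, if_true]
      rw [Finset.sum_comm]
      have : ∀ k, ∑ j, NN i k * MM k j * f j = NN i k * f' k := by
        intro k
        rw [← hM k, Finset.mul_sum]
        refine Finset.sum_congr rfl fun j _ => ?_
        simp [MM, mul_assoc]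
      simp only [this]
      have : ∑ k, NN i k * f' k = f i := hN i
      rw [this, sub_self]
    have hL := hf 1 (lin (NN * MM - 1) i) (lin_isHomogeneous _ i) (by
      rw [hev]; exact Ideal.zero_mem _)
    intro j
    have := hL (Finsupp.single j 1)
    rwa [coeff_lin] at this
  set mkM := (Ideal.Quotient.mk (Ideal.span (Set.range f))).mapMatrix (m := Fin n) with hmkM
  have h1 : mkM (NN * MM - 1) = 0 := by
    ext i j
    rw [hmkM, RingHom.mapMatrix_apply, Matrix.map_apply]
    exact Ideal.Quotient.eq_zero_iff_mem.mpr (hK i j)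
  have hbar : mkM NN * mkM MM = 1 := by
    rw [← map_mul, ← sub_eq_zero, ← map_one mkM, ← map_sub]
    exact h1
  have hbar' : mkM MM * mkM NN = 1 := mul_eq_one_comm.mp hbar
  have hmk : ∀ K : Matrix (Fin n) (Fin n) A,
      mkM K = K.map (Ideal.Quotient.mk (Ideal.span (Set.range f))) := fun K => rfl
  rw [hmk, hmk] at hbar'
  intro d P hP hev D
  rw [h] at hev ⊢
  have hQh : (bind₁ (lin MM) P).IsHomogeneous d := by
    have := hP.aeval (lin MM) (lin_isHomogeneous MM)
    rw [one_mul] at this
    exact this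
  have hQe : eval f (bind₁ (lin MM) P) = eval f' P := by
    rw [eval_bind₁_lin]
    congr 2
    funext i
    exact hM i
  have hQc := hf d _ hQh (by rw [hQe]; exact hev)
  have hQ0 : map (Ideal.Quotient.mk (Ideal.span (Set.range f))) (bind₁ (lin MM) P) = 0 := by
    ext e
    rw [coeff_map, coeff_zero]
    exact Ideal.Quotient.eq_zero_iff_mem.mpr (hQc e)
  rw [map_bind₁_lin] at hQ0
  have hP0 : map (Ideal.Quotient.mk (Ideal.span (Set.range f))) P = 0 := by
    have := congrArg (bind₁ (lin (NN.map (Ideal.Quotient.mk (Ideal.span (Set.range f)))))) hQ0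
    rw [bind₁_lin_comp, hbar', bind₁_lin_one, map_zero] at this
    exact this
  have := congrArg (coeff D) hP0
  rw [coeff_map, coeff_zero] at this
  exact Ideal.Quotient.eq_zero_iff_mem.mp this

end Groth.Agent.Helper1.QuasiReg

namespace Groth.Agent.Helper1.QuasiReg
variable {A : Type u} [CommRing A]

/-- the linear form `Σ a_i X_i` -/
noncomputable def linForm {m : ℕ} (a : Fin m → A) : MvPolynomial (Fin m) A := ∑ i, C (a i) * X i

theorem linForm_isHomogeneous {m : ℕ} (a : Fin m → A) : (linForm a).IsHomogeneous 1 :=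
  IsHomogeneous.sum _ _ _ fun j _ => (isHomogeneous_X A j).C_mul _

theorem eval_linForm {m : ℕ} (a f : Fin m → A) : eval f (linForm a) = ∑ i, a i * f i := by
  simp [linForm]

theorem coeff_linForm {m : ℕ} (a : Fin m → A) (j : Fin m) :
    (linForm a).coeff (Finsupp.single j 1) = a j := by
  classical
  simp only [linForm, coeff_sum, coeff_C_mul, coeff_X]
  rw [Finset.sum_eq_single j]
  · simp
  · intro b _ hb
    have : Finsupp.single b 1 ≠ Finsupp.single j 1 := by
      intro h
      exact hb ((Finsupp.single_left_inj one_ne_zero).mp h)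
    simp [this]
  · intro h; exact absurd (Finset.mem_univ _) h

/-- quasi-regular ⇒ coefficients of a relation modulo `J²` lie in `J` -/
theorem coeff_mem_of_sum_mem_sq {m : ℕ} (f : Fin m → A) (hq : CAlgX.IsQuasiRegular f)
    (a : Fin m → A) (h : ∑ i, a i * f i ∈ Ideal.span (Set.range f) ^ 2) (j : Fin m) :
    a j ∈ Ideal.span (Set.range f) := by
  have := hq 1 (linForm a) (linForm_isHomogeneous a) (by rw [eval_linForm]; exact h)
    (Finsupp.single j 1)
  rwa [coeff_linForm] at this

theorem cotangent_sum {I : Ideal A} {m : ℕ} (f : Fin m → I) (a : Fin m → A) :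
    ∑ i, (Ideal.Quotient.mk I (a i)) • I.toCotangent (f i) = I.toCotangent (∑ i, a i • f i) := by
  rw [map_sum]
  refine Finset.sum_congr rfl fun i _ => ?_
  rw [map_smul]
  rfl

/-- (a) ⇒ (c) -/
theorem basis_of_isQuasiRegular (I : Ideal A) {m : ℕ} (f : Fin m → I)
    (hq : CAlgX.IsQuasiRegular (fun i => (f i : A)))
    (hs : Ideal.span (Set.range fun i => (f i : A)) = I) :
    LinearIndependent (A ⧸ I) (fun i => I.toCotangent (f i)) ∧
      Submodule.span (A ⧸ I) (Set.range fun i => I.toCotangent (f i)) = ⊤ := by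
  constructor
  · rw [Fintype.linearIndependent_iff]
    intro c hc i
    have hlift : ∀ i, ∃ a : A, Ideal.Quotient.mk I a = c i := fun i => Ideal.Quotient.mk_surjective _
    choose a ha using hlift
    simp only [← ha] at hc ⊢
    rw [cotangent_sum, Ideal.toCotangent_eq_zero] at hc
    have h1 : ∑ i, a i * (f i : A) ∈ Ideal.span (Set.range fun i => (f i : A)) ^ 2 := by
      rw [hs]
      convert hc using 1
      simp
    have := coeff_mem_of_sum_mem_sq _ hq a h1 i
    rw [hs] at this
    exact Ideal.Quotient.eq_zero_iff_mem.mpr this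
  · rw [eq_top_iff]
    intro y _
    obtain ⟨x, rfl⟩ := I.toCotangent_surjective y
    have hx : (x : A) ∈ Ideal.span (Set.range fun i => (f i : A)) := by rw [hs]; exact x.2
    obtain ⟨a, ha⟩ := Ideal.mem_span_range_iff_exists_fun.mp hx
    have hx' : x = ∑ i, a i • f i := by
      apply Subtype.ext
      rw [← ha]
      simp
    rw [hx', ← cotangent_sum]
    exact Submodule.sum_mem _ fun i _ =>
      Submodule.smul_mem _ _ (Submodule.subset_span ⟨i, rfl⟩)

end Groth.Agent.Helper1.QuasiReg

namespace Groth.Agent.Helper1.QuasiReg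
variable {A : Type u} [CommRing A]

/-- (c) ⇒ (a) in a local ring -/
theorem isQuasiRegular_of_basis [IsLocalRing A] (I : Ideal A)
    (hI : I ≤ IsLocalRing.maximalIdeal A)
    {r : ℕ} (g : Fin r → A) (hg : CAlgX.IsQuasiRegular g) (hgs : Ideal.span (Set.range g) = I)
    {m : ℕ} (f : Fin m → I)
    (hli : LinearIndependent (A ⧸ I) (fun i => I.toCotangent (f i)))
    (hsp : Submodule.span (A ⧸ I) (Set.range fun i => I.toCotangent (f i)) = ⊤) :
    CAlgX.IsQuasiRegular (fun i => (f i : A)) ∧
      Ideal.span (Set.range fun i => (f i : A)) = I := by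
  have hne : I ≠ ⊤ := fun h => (IsLocalRing.maximalIdeal.isMaximal A).ne_top (top_le_iff.mp (h ▸ hI))
  have : Nontrivial (A ⧸ I) := Ideal.Quotient.nontrivial_iff.mpr hne
  -- the sequence g inside I
  let g' : Fin r → I := fun i => ⟨g i, hgs ▸ Ideal.subset_span ⟨i, rfl⟩⟩
  obtain ⟨hli', hsp'⟩ := basis_of_isQuasiRegular I g' hg hgs
  let bf : Module.Basis (Fin m) (A ⧸ I) I.Cotangent := Module.Basis.mk hli hsp.ge
  let bg : Module.Basis (Fin r) (A ⧸ I) I.Cotangent := Module.Basis.mk hli' hsp'.ge
  have hmr : m = r := Fin.equiv_iff_eq.mp ⟨bf.indexEquiv bg⟩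
  subst hmr
  -- Nakayama
  have hle : Ideal.span (Set.range fun i => (f i : A)) ≤ I := by
    rw [Ideal.span_le]
    rintro _ ⟨i, rfl⟩
    exact (f i).2
  have hfg : (I : Submodule A A).FG := by
    rw [← hgs]
    exact Submodule.fg_span (Set.finite_range g)
  have hjac : I ≤ (⊥ : Ideal A).jacobson := by
    rw [IsLocalRing.jacobson_eq_maximalIdeal ⊥ bot_ne_top]
    exact hI
  have hNak : I ≤ Ideal.span (Set.range fun i => (f i : A)) ⊔ I • I := by
    intro x hx
    have hy : I.toCotangent ⟨x, hx⟩ ∈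
        Submodule.span (A ⧸ I) (Set.range fun i => I.toCotangent (f i)) := by
      rw [hsp]; exact Submodule.mem_top
    obtain ⟨c, hc⟩ := (Submodule.mem_span_range_iff_exists_fun _).mp hy
    have hlift : ∀ i, ∃ a : A, Ideal.Quotient.mk I a = c i := fun i => Ideal.Quotient.mk_surjective _
    choose a ha using hlift
    simp only [← ha] at hc
    rw [cotangent_sum, Ideal.toCotangent_eq] at hc
    have hx' : x = ∑ i, a i * (f i : A) + (x - ∑ i, a i * (f i : A)) := by ring
    rw [hx']
    refine Ideal.add_mem _ (Ideal.mem_sup_left ?_) (Ideal.mem_sup_right ?_)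
    · exact Ideal.sum_mem _ fun i _ => Ideal.mul_mem_left _ _ (Ideal.subset_span ⟨i, rfl⟩)
    · rw [smul_eq_mul, ← pow_two]
      have : (x - ∑ i, a i * (f i : A)) = -((∑ i, a i • f i : I) - (⟨x, hx⟩ : I) : A) := by
        simp
      rw [this]
      exact Ideal.neg_mem_iff _ |>.mpr hc
  have hspan : Ideal.span (Set.range fun i => (f i : A)) = I :=
    le_antisymm hle (Submodule.le_of_le_smul_of_le_jacobson_bot hfg hjac hNak)
  exact ⟨isQuasiRegular_of_span_eq g _ hg (hspan.trans hgs.symm), hspan⟩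

/-- L1 -/
theorem mem_pow_succ_of_mul_mem {c : ℕ} (f : Fin c → A) (hq : CAlgX.IsQuasiRegular f) (i : Fin c)
    (n : ℕ) (x : A) (hx : x ∈ Ideal.span (Set.range f) ^ n)
    (hfx : f i * x ∈ Ideal.span (Set.range f) ^ (n + 2)) :
    x ∈ Ideal.span (Set.range f) ^ (n + 1) := by
  obtain ⟨P, hP, rfl⟩ := (Ideal.mem_span_pow_iff_exists_isHomogeneous f x).mp hx
  have hXP : (X i * P).IsHomogeneous (n + 1) := by
    have := (isHomogeneous_X A i).mul hP
    rwa [add_comm] at this
  have h1 := hq (n + 1) (X i * P) hXP (by rw [map_mul, eval_X]; exact hfx)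
  have h2 : ∀ d, P.coeff d ∈ Ideal.span (Set.range f) := by
    intro d
    have := h1 (Finsupp.single i 1 + d)
    rwa [coeff_X_mul] at this
  have := eval_mem_mul_pow f _ P hP h2
  rwa [← pow_succ'] at this

/-- L2 -/
theorem mem_pow_of_mul_mem_pow_succ {c : ℕ} (f : Fin c → A) (hq : CAlgX.IsQuasiRegular f)
    (i : Fin c) (k : ℕ) (y : A) (hy : f i * y ∈ Ideal.span (Set.range f) ^ (k + 1)) :
    y ∈ Ideal.span (Set.range f) ^ k := by
  have : ∀ j, j ≤ k → y ∈ Ideal.span (Set.range f) ^ j := by
    intro j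
    induction j with
    | zero => intro _; simp
    | succ j ih =>
      intro hj
      exact mem_pow_succ_of_mul_mem f hq i j y (ih (by omega))
        (Ideal.pow_le_pow_right (by omega) hy)
  exact this k le_rfl

/-- (i): each member of a quasi-regular sequence in the Jacobson radical of a Noetherian ring is a
nonzerodivisor. -/
theorem eq_zero_of_mul_eq_zero [IsNoetherianRing A] {c : ℕ} (f : Fin c → A)
    (hq : CAlgX.IsQuasiRegular f) (hjac : ∀ i, f i ∈ Ring.jacobson A) (i : Fin c) (x : A)
    (hx : f i * x = 0) : x = 0 := by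
  have hJ : Ideal.span (Set.range f) ≤ (⊥ : Ideal A).jacobson := by
    rw [Ideal.span_le]
    rintro _ ⟨j, rfl⟩
    have := hjac j
    rwa [← Ideal.jacobson_bot] at this
  have h0 := Ideal.iInf_pow_smul_eq_bot_of_le_jacobson (M := A) _ hJ
  have h1 : x ∈ (⨅ k : ℕ, Ideal.span (Set.range f) ^ k • ⊤ : Submodule A A) := by
    rw [Submodule.mem_iInf]
    intro k
    rw [smul_eq_mul, Ideal.mul_top]
    exact mem_pow_of_mul_mem_pow_succ f hq i k x (by rw [hx]; exact Ideal.zero_mem _)
  rw [h0] at h1
  exact (Submodule.mem_bot A).mp h1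

/-- homogeneous lifting along a surjective ring hom -/
theorem exists_homogeneous_lift {B : Type u} [CommRing B] (φ : A →+* B)
    (hφ : Function.Surjective φ) {σ : Type*} {n : ℕ} (Fb : MvPolynomial σ B)
    (hFb : Fb.IsHomogeneous n) : ∃ F : MvPolynomial σ A, F.IsHomogeneous n ∧ map φ F = Fb := by
  obtain ⟨F₀, hF₀⟩ := map_surjective φ hφ Fb
  refine ⟨homogeneousComponent n F₀, homogeneousComponent_isHomogeneous n F₀, ?_⟩
  ext d
  rw [coeff_map, coeff_homogeneousComponent]
  split_ifs with h
  · rw [← hF₀, coeff_map]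
  · rw [map_zero]
    by_contra hne
    apply h
    have := hFb (Ne.symm hne)
    rw [Finsupp.degree_eq_weight_one]
    exact this

theorem isQuasiRegular_quotient_tail {c : ℕ} (f : Fin (c + 1) → A) (hq : CAlgX.IsQuasiRegular f) :
    CAlgX.IsQuasiRegular (fun i : Fin c => Ideal.Quotient.mk (Ideal.span {f 0}) (f i.succ)) := by
  classical
  set mk := Ideal.Quotient.mk (Ideal.span {f 0}) with hmk
  set J := Ideal.span (Set.range f) with hJ
  set J' := Ideal.span (Set.range fun i : Fin c => f i.succ) with hJ'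
  have hJ'J : J' ≤ J := by
    apply Ideal.span_mono
    rintro _ ⟨i, rfl⟩
    exact ⟨i.succ, rfl⟩
  have hf0J : f 0 ∈ J := Ideal.subset_span ⟨0, rfl⟩
  have hJbar : Ideal.span (Set.range fun i : Fin c => mk (f i.succ)) = J'.map mk := by
    rw [hJ', Ideal.map_span, ← Set.range_comp]
    rfl
  have hJmap : J.map mk = J'.map mk := by
    apply le_antisymm
    · rw [hJ, Ideal.map_span, Ideal.span_le]
      rintro _ ⟨_, ⟨i, rfl⟩, rfl⟩
      refine Fin.cases ?_ (fun j => ?_) i
      · have : mk (f 0) = 0 := Ideal.Quotient.eq_zero_iff_mem.mpr (Ideal.mem_span_singleton_self _)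
        rw [this]; exact Ideal.zero_mem _
      · exact Ideal.mem_map_of_mem _ (Ideal.subset_span ⟨j, rfl⟩)
    · exact Ideal.map_mono hJ'J
  intro n Fb hFb hev d
  rw [hJbar] at hev ⊢
  obtain ⟨F, hF, rfl⟩ := exists_homogeneous_lift mk Ideal.Quotient.mk_surjective Fb hFb
  rw [coeff_map, ← hJmap]
  apply Ideal.mem_map_of_mem
  -- evaluation
  have hevF : eval (fun i : Fin c => mk (f i.succ)) (map mk F) = mk (eval (fun i => f i.succ) F) := by
    rw [eval_map]
    have := eval₂_comp_left mk (RingHom.id A) (fun i => f i.succ) F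
    rw [RingHom.comp_id] at this
    exact this.symm
  rw [hevF, ← Ideal.map_pow, Ideal.mem_quotient_iff_mem_sup] at hev
  obtain ⟨u, hu, v, hv, huv⟩ := Submodule.mem_sup.mp hev
  obtain ⟨y, rfl⟩ := Ideal.mem_span_singleton'.mp hv
  cases n with
  | zero =>
    -- F is a constant
    have hFC : F = C (F.coeff 0) := by
      have := (totalDegree_eq_zero_iff_eq_C).mp (Nat.le_zero.mp hF.totalDegree_le)
      exact this
    by_cases hd : d = 0
    · subst hd
      have h1 : eval (fun i => f i.succ) F = F.coeff 0 := by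
        conv_lhs => rw [hFC]
        rw [eval_C]
      rw [← h1, ← huv]
      refine Ideal.add_mem _ (hJ'J ?_) (Ideal.mul_mem_left _ _ hf0J)
      simpa using hu
    · rw [hFC, coeff_C, if_neg (Ne.symm hd)]
      exact Ideal.zero_mem _
  | succ k =>
    have hFJ : eval (fun i => f i.succ) F ∈ J ^ (k + 1) :=
      Ideal.pow_right_mono hJ'J _
        ((Ideal.mem_span_pow_iff_exists_isHomogeneous _ _).mpr ⟨F, hF, rfl⟩)
    have huJ : u ∈ J ^ (k + 2) := Ideal.pow_right_mono hJ'J _ hu
    have hy : f 0 * y ∈ J ^ (k + 1) := by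
      have : f 0 * y = eval (fun i => f i.succ) F - u := by rw [← huv]; ring
      rw [this]
      exact Ideal.sub_mem _ hFJ (Ideal.pow_le_pow_right (by omega) huJ)
    have hyk := mem_pow_of_mul_mem_pow_succ f hq 0 k y hy
    obtain ⟨H, hH, rfl⟩ := (Ideal.mem_span_pow_iff_exists_isHomogeneous f y).mp hyk
    set G := rename Fin.succ F - X 0 * H with hG
    have hGh : G.IsHomogeneous (k + 1) := by
      refine (hF.rename_isHomogeneous).sub ?_
      have := (isHomogeneous_X A (0 : Fin (c + 1))).mul hH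
      have h1k : 1 + k = k + 1 := by omega
      exact h1k ▸ this
    have hGe : eval f G = u := by
      rw [hG, map_sub, map_mul, eval_X, eval_rename]
      have : (f ∘ Fin.succ) = fun i => f i.succ := rfl
      rw [this, ← huv]
      ring
    have hGc := hq (k + 1) G hGh (by rw [hGe]; exact huJ) (d.mapDomain Fin.succ)
    rw [hG, coeff_sub, coeff_rename_mapDomain _ (Fin.succ_injective c), coeff_X_mul'] at hGc
    have h0 : (0 : Fin (c + 1)) ∉ (d.mapDomain Fin.succ).support := by
      intro h
      have := Finsupp.mapDomain_support h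
      simp at this
    rwa [if_neg h0, sub_zero] at hGc

open scoped Pointwise in
theorem isWeaklyRegular_of_isQuasiRegular : ∀ (c : ℕ) (A : Type u) [CommRing A] [IsNoetherianRing A]
    (f : Fin c → A) (_ : ∀ i, f i ∈ Ring.jacobson A) (_ : CAlgX.IsQuasiRegular f),
    RingTheory.Sequence.IsWeaklyRegular A (List.ofFn f) := by
  intro c
  induction c with
  | zero =>
    intro A _ _ f _ _
    rw [List.ofFn_zero]
    exact RingTheory.Sequence.IsWeaklyRegular.nil A A
  | succ c ih =>
    intro A _ _ f hf hq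
    rw [List.ofFn_succ, RingTheory.Sequence.isWeaklyRegular_cons_iff]
    refine ⟨?_, ?_⟩
    · intro x y hxy
      simp only [smul_eq_mul] at hxy
      have : f 0 * (x - y) = 0 := by rw [mul_sub, hxy, sub_self]
      exact sub_eq_zero.mp (eq_zero_of_mul_eq_zero f hq hf 0 _ this)
    · set I := Ideal.span {f 0} with hI
      have hq' := isQuasiRegular_quotient_tail f hq
      have hjac : ∀ i : Fin c, Ideal.Quotient.mk I (f i.succ) ∈ Ring.jacobson (A ⧸ I) := by
        intro i
        rw [← Ideal.jacobson_bot]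
        have h1 : f i.succ ∈ (⊥ : Ideal A).jacobson := by rw [Ideal.jacobson_bot]; exact hf _
        have h2 : (⊥ : Ideal A).jacobson ≤ I.jacobson := Ideal.jacobson_mono bot_le
        have h3 := Ideal.map_jacobson_of_surjective (f := Ideal.Quotient.mk I)
          Ideal.Quotient.mk_surjective (I := I) (by rw [Ideal.mk_ker])
        have h4 : Ideal.map (Ideal.Quotient.mk I) I = ⊥ := by
          rw [Ideal.map_quotient_self]
        rw [h4] at h3
        rw [← h3]
        exact Ideal.mem_map_of_mem _ (h2 h1)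
      have hw := ih (A ⧸ I) _ hjac hq'
      have hmap : (List.ofFn fun i : Fin c => Ideal.Quotient.mk I (f i.succ)) =
          (List.ofFn fun i : Fin c => f i.succ).map (algebraMap A (A ⧸ I)) := by
        rw [List.map_ofFn]
        rfl
      rw [hmap, RingTheory.Sequence.isWeaklyRegular_map_algebraMap_iff] at hw
      have hsub : (f 0 • (⊤ : Submodule A A)) = I := by
        rw [← Submodule.ideal_span_singleton_smul, smul_eq_mul, Ideal.mul_top]
      exact ((Submodule.quotEquivOfEq _ _ hsub).isWeaklyRegular_congr _).mpr hw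

end Groth.Agent.Helper1.QuasiReg
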