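import Mathlib
universe u v w

namespace Groth.Agent.Helper1.MiscL

section FiniteLength

theorem isNoetherian_isArtinian_of_pow_smul_eq_bot {R : Type u} [CommRing R] (m : Ideal R) [hmax : m.IsMaximal] (hm : m.FG) (n : ℕ) :
    ∀ (M : Type u) [AddCommGroup M] [Module R M] [Module.Finite R M],
      m ^ n • (⊤ : Submodule R M) = ⊥ → IsNoetherian R M ∧ IsArtinian R M := by
  induction n with
  | zero =>
    intro M _ _ _ h
    have : Subsingleton M := by
      rw [pow_zero, Ideal.one_eq_top, Submodule.top_smul] at h
      exact (Submodule.subsingleton_iff R).mp (subsingleton_of_bot_eq_top h.symm)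
    exact ⟨inferInstance, inferInstance⟩
  | succ n ih =>
    intro M _ _ _ h
    let N : Submodule R M := m • ⊤
    have hNfin : Module.Finite R N := by
      rw [Module.Finite.iff_fg]
      exact Submodule.FG.smul hm Module.Finite.fg_top
    have hN0 : m ^ n • (⊤ : Submodule R N) = ⊥ := by
      rw [eq_bot_iff]
      intro x hx
      rw [Submodule.mem_bot]
      have h1 : (x : M) ∈ m ^ n • N := by
        have := Submodule.mem_map_of_mem (f := N.subtype) hx
        rwa [Submodule.map_smul'', Submodule.map_subtype_top] at this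
      have h2 : m ^ n • N = ⊥ := by
        show m ^ n • (m • (⊤ : Submodule R M)) = ⊥
        rw [← Submodule.mul_smul, ← pow_succ, h]
      rw [h2, Submodule.mem_bot] at h1
      exact Subtype.ext h1
    obtain ⟨hN1, hN2⟩ := ih N hN0
    -- the quotient
    let K := R ⧸ m
    let _ : Field K := Ideal.Quotient.field m
    have hsurj : Function.Surjective (algebraMap R K) := Ideal.Quotient.mk_surjective
    have hQfin : Module.Finite K (M ⧸ N) := Module.Finite.of_restrictScalars_finite R K (M ⧸ N)
    have hQ1 : IsNoetherian K (M ⧸ N) := inferInstance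
    have hQ2 : IsArtinian K (M ⧸ N) := inferInstance
    have hQ1' : IsNoetherian R (M ⧸ N) := by
      rw [isNoetherian_iff'] at hQ1 ⊢
      exact (Submodule.orderIsoOfAlgebraMapSurjective (M := M ⧸ N) hsurj).symm.toOrderEmbedding.wellFoundedGT
    have hQ2' : IsArtinian R (M ⧸ N) := isArtinian_of_surjective_algebraMap hsurj
    exact ⟨isNoetherian_of_range_eq_ker N.subtype N.mkQ (by rw [Submodule.range_subtype, Submodule.ker_mkQ]),
      isArtinian_of_range_eq_ker N.subtype N.mkQ (by rw [Submodule.range_subtype, Submodule.ker_mkQ])⟩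

theorem isFiniteLength_of_pow_smul_eq_bot {R : Type u} [CommRing R] (m : Ideal R) [m.IsMaximal] (hm : m.FG) (M : Type u) [AddCommGroup M] [Module R M] [Module.Finite R M] (n : ℕ) (hn : m ^ n • (⊤ : Submodule R M) = ⊥) : IsFiniteLength R M := by
  rw [isFiniteLength_iff_isNoetherian_isArtinian]
  exact isNoetherian_isArtinian_of_pow_smul_eq_bot m hm n M hn

end FiniteLength

section AtPrime

/-- common core: if every prime of `S` disjoint from the image of `R ∖ p` is contained in `q`,
then `S_p = S_q`. -/
theorem atPrime_of_forall_le {R S : Type u} [CommRing R] [CommRing S] [Algebra R S]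
    (p : Ideal R) [p.IsPrime] (q : Ideal S) [q.IsPrime] [q.LiesOver p]
    (H : ∀ q' : Ideal S, q'.IsPrime → q'.under R ≤ p → q' ≤ q) :
    IsLocalization.AtPrime (Localization (Algebra.algebraMapSubmonoid S p.primeCompl)) q := by
  have h₁ : Algebra.algebraMapSubmonoid S p.primeCompl ≤ q.primeCompl := by
    rintro _ ⟨r, hr, rfl⟩ hq
    apply hr
    rw [q.over_def p]
    exact hq
  refine IsLocalization.of_le (Algebra.algebraMapSubmonoid S p.primeCompl) q.primeCompl h₁ ?_
  intro s hs
  by_contra hu
  obtain ⟨M, hM, hsM⟩ := exists_max_ideal_of_mem_nonunits hu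
  have hMp : M.IsPrime := hM.isPrime
  let q' := M.comap (algebraMap S (Localization (Algebra.algebraMapSubmonoid S p.primeCompl)))
  have hq' : q'.IsPrime := Ideal.comap_isPrime _ _
  have hdisj : q'.under R ≤ p := by
    intro r hr
    by_contra hrp
    have hr' : algebraMap S _ (algebraMap R S r) ∈ M := hr
    have hunit : IsUnit (algebraMap S (Localization (Algebra.algebraMapSubmonoid S p.primeCompl))
        (algebraMap R S r)) :=
      IsLocalization.map_units _ (⟨algebraMap R S r, ⟨r, hrp, rfl⟩⟩ :
        Algebra.algebraMapSubmonoid S p.primeCompl)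
    exact hMp.ne_top (M.eq_top_of_isUnit_mem hr' hunit)
  exact hs (H q' hq' hdisj hsM)

theorem goingUp_case {R S : Type u} [CommRing R] [CommRing S] [Algebra R S] [Algebra.HasGoingUp R S] (p : Ideal R) [p.IsPrime] (q : Ideal S) [q.IsPrime] [q.LiesOver p] (huniq : ∀ q' : Ideal S, q'.IsPrime → q'.under R = p → q' = q) : IsLocalization.AtPrime (Localization (Algebra.algebraMapSubmonoid S p.primeCompl)) q := by
  apply atPrime_of_forall_le
  intro q' hq' hle
  have : q'.LiesOver (q'.under R) := ⟨rfl⟩
  obtain ⟨Q, hQ, hQp, hQo⟩ := Ideal.exists_ideal_ge_liesOver_of_le (p := q'.under R) (q := p) q' hle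
  have := huniq Q hQp (Q.over_def p).symm
  rw [← this]
  exact hQ

theorem goingDown_case {R S : Type u} [CommRing R] [CommRing S] [Algebra R S] [Algebra.HasGoingDown R S] (hinj : ∀ q₁ q₂ : Ideal S, q₁.IsPrime → q₂.IsPrime → q₁.under R = q₂.under R → q₁ = q₂) (p : Ideal R) [p.IsPrime] (q : Ideal S) [q.IsPrime] [q.LiesOver p] : IsLocalization.AtPrime (Localization (Algebra.algebraMapSubmonoid S p.primeCompl)) q := by
  apply atPrime_of_forall_le
  intro q' hq' hle
  have hp' : (q'.under R).IsPrime := Ideal.comap_isPrime _ _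
  obtain ⟨P, hP, hPp, hPo⟩ := Ideal.exists_ideal_le_liesOver_of_le (p := q'.under R) (q := p) q hle
  have := hinj P q' hPp hq' (P.over_def (q'.under R)).symm
  rw [← this]
  exact hP

end AtPrime

section AnnFlat
open TensorProduct

theorem ann_map_eq {R S : Type*} [CommRing R] [CommRing S] [Algebra R S] [Module.Flat R S]
    {M : Type*} [AddCommGroup M] [Module R M] (m : M) :
    ((Submodule.span R {m}).annihilator).map (algebraMap R S) =
      (Submodule.span S {(1 : S) ⊗ₜ[R] m}).annihilator := by
  apply le_antisymm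
  · rw [Ideal.map_le_iff_le_comap]
    intro a ha
    rw [Submodule.mem_annihilator_span_singleton] at ha
    rw [Ideal.mem_comap, Submodule.mem_annihilator_span_singleton, TensorProduct.smul_tmul',
      Algebra.algebraMap_eq_smul_one, smul_eq_mul, smul_mul_assoc, one_mul,
      TensorProduct.smul_tmul, ha, tmul_zero]
  · intro s hs
    rw [Submodule.mem_annihilator_span_singleton, TensorProduct.smul_tmul', smul_eq_mul,
      mul_one] at hs
    let f : R →ₗ[R] M := LinearMap.toSpanSingleton R M m
    have hex := Module.Flat.lTensor_exact S (LinearMap.exact_subtype_ker_map f)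
    have h0 : (f.lTensor S) (s ⊗ₜ[R] (1 : R)) = 0 := by
      rw [LinearMap.lTensor_tmul]
      show s ⊗ₜ[R] ((1 : R) • m) = 0
      rw [one_smul, hs]
    obtain ⟨y, hy⟩ := (hex _).mp h0
    have key : ∀ y : S ⊗[R] (LinearMap.ker f),
        (TensorProduct.rid R S) (((LinearMap.ker f).subtype.lTensor S) y) ∈
          ((Submodule.span R {m}).annihilator).map (algebraMap R S) := by
      intro y
      induction y using TensorProduct.induction_on with
      | zero => simp
      | tmul s' i =>
        rw [LinearMap.lTensor_tmul, TensorProduct.rid_tmul, Submodule.subtype_apply,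
          Algebra.smul_def]
        apply Ideal.mul_mem_right
        apply Ideal.mem_map_of_mem
        rw [Submodule.mem_annihilator_span_singleton]
        exact i.2
      | add a b ha hb =>
        rw [map_add, map_add]
        exact Ideal.add_mem _ ha hb
    have := key y
    rw [hy, TensorProduct.rid_tmul, one_smul] at this
    exact this

theorem ann_map_eq_of_finite {R S : Type*} [CommRing R] [CommRing S] [Algebra R S] [Module.Flat R S]
    {M : Type*} [AddCommGroup M] [Module R M] [Module.Finite R M] :
    (Module.annihilator R M).map (algebraMap R S) = Module.annihilator S (S ⊗[R] M) := by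
  obtain ⟨n, v, hv⟩ := Module.Finite.exists_fin (R := R) (M := M)
  have h1 : (Submodule.span R {v}).annihilator = Module.annihilator R M := by
    ext a
    rw [Submodule.mem_annihilator_span_singleton, Module.mem_annihilator]
    constructor
    · intro ha m
      have hm : m ∈ Submodule.span R (Set.range v) := hv ▸ Submodule.mem_top
      induction hm using Submodule.span_induction with
      | mem x hx =>
        obtain ⟨i, rfl⟩ := hx
        exact congrFun ha i
      | zero => exact smul_zero a
      | add x y _ _ hx hy => rw [smul_add, hx, hy, add_zero]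
      | smul r x _ hx => rw [smul_comm, hx, smul_zero]
    · intro ha
      funext i
      exact ha (v i)
  have h2 : (Submodule.span S {(1 : S) ⊗ₜ[R] v}).annihilator = Module.annihilator S (S ⊗[R] M) := by
    ext s
    rw [Submodule.mem_annihilator_span_singleton, Module.mem_annihilator,
      TensorProduct.smul_tmul', smul_eq_mul, mul_one]
    have hpi : s ⊗ₜ[R] v = 0 ↔ ∀ i, s ⊗ₜ[R] v i = (0 : S ⊗[R] M) := by
      rw [← (TensorProduct.piRight R S S (fun _ : Fin n => M)).map_eq_zero_iff,
        TensorProduct.piRight_apply, TensorProduct.piRightHom_tmul]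
      exact funext_iff
    rw [hpi]
    constructor
    · intro hs t
      have hm : ∀ m : M, s ⊗ₜ[R] m = (0 : S ⊗[R] M) := by
        intro m
        have hm : m ∈ Submodule.span R (Set.range v) := hv ▸ Submodule.mem_top
        induction hm using Submodule.span_induction with
        | mem x hx =>
          obtain ⟨i, rfl⟩ := hx
          exact hs i
        | zero => exact tmul_zero _ _
        | add x y _ _ hx hy => rw [tmul_add, hx, hy, add_zero]
        | smul r x _ hx => rw [tmul_smul, hx, smul_zero]
      induction t using TensorProduct.induction_on with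
      | zero => exact smul_zero s
      | tmul s' m =>
        rw [TensorProduct.smul_tmul', smul_eq_mul, mul_comm, ← smul_eq_mul, ← TensorProduct.smul_tmul',
          hm, smul_zero]
      | add a b ha hb => rw [smul_add, ha, hb, add_zero]
    · intro hs i
      have := hs ((1 : S) ⊗ₜ[R] v i)
      rwa [TensorProduct.smul_tmul', smul_eq_mul, mul_one] at this
  rw [← h1, ← h2]
  exact ann_map_eq v

end AnnFlat

section SupportBC
open TensorProduct

/-- For a finite module, membership in the support is detected by any field-valued point. -/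
theorem mem_support_iff_nontrivial_field_tensor {R : Type*} [CommRing R] {M : Type*}
    [AddCommGroup M] [Module R M] [Module.Finite R M] (p : PrimeSpectrum R)
    (K : Type*) [Field K] [Algebra R K] (hK : RingHom.ker (algebraMap R K) = p.asIdeal) :
    p ∈ Module.support R M ↔ Nontrivial (K ⊗[R] M) := by
  rw [Module.mem_support_iff_nontrivial_residueField_tensorProduct]
  let φ : p.asIdeal.ResidueField →+* K := Ideal.ResidueField.lift p.asIdeal (algebraMap R K)
    hK.ge (by
      intro x hx
      show IsUnit (algebraMap R K x)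
      rw [isUnit_iff_ne_zero]
      intro h0
      exact hx (hK ▸ (RingHom.mem_ker.mpr h0)))
  let _ : Algebra p.asIdeal.ResidueField K := φ.toAlgebra
  have : IsScalarTower R p.asIdeal.ResidueField K := IsScalarTower.of_algebraMap_eq (fun r => by
    show algebraMap R K r = φ (algebraMap R _ r)
    rw [Ideal.ResidueField.lift_algebraMap])
  let e := AlgebraTensorModule.cancelBaseChange R p.asIdeal.ResidueField K K M
  rw [← e.toEquiv.nontrivial_congr]
  exact (Module.FaithfullyFlat.nontrivial_tensorProduct_iff_right p.asIdeal.ResidueField K).symm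

theorem support_baseChange {R R' : Type u} [CommRing R] [CommRing R'] [Algebra R R'] (M : Type u) [AddCommGroup M] [Module R M] [Module.Finite R M] : Module.support R' (R' ⊗[R] M) = PrimeSpectrum.comap (algebraMap R R') ⁻¹' Module.support R M := by
  ext q
  rw [Set.mem_preimage]
  let K := q.asIdeal.ResidueField
  have h1 := mem_support_iff_nontrivial_field_tensor (M := R' ⊗[R] M) q K
    (Ideal.ker_algebraMap_residueField _)
  have h2 := mem_support_iff_nontrivial_field_tensor (M := M) (PrimeSpectrum.comap (algebraMap R R') q) K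
    (by
      rw [IsScalarTower.algebraMap_eq R R' K, ← RingHom.comap_ker, Ideal.ker_algebraMap_residueField]
      rfl)
  rw [h1, h2]
  exact (AlgebraTensorModule.cancelBaseChange R R' K K M).toEquiv.nontrivial_congr

end SupportBC

section DenseOpen
open Set Topology TopologicalSpace

theorem mem_of_dense_open_of_minimal (A : Type u) [CommRing A] [IsNoetherianRing A]
    (U : Set (PrimeSpectrum A)) (hU : IsOpen U) (hd : Dense U) (p : PrimeSpectrum A)
    (hp : p.asIdeal ∈ minimalPrimes A) : p ∈ U := by
  have hfin : (minimalPrimes A).Finite := minimalPrimes.finite_of_isNoetherianRing A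
  -- the open set U_p
  let C : Set (PrimeSpectrum A) := ⋃ q ∈ (minimalPrimes A) \ {p.asIdeal}, PrimeSpectrum.zeroLocus (q : Set A)
  have hC : IsClosed C := by
    apply Set.Finite.isClosed_biUnion (hfin.subset sdiff_subset)
    intro q _
    exact PrimeSpectrum.isClosed_zeroLocus _
  have hpC : p ∈ Cᶜ := by
    intro hpC
    simp only [C, mem_iUnion, exists_prop] at hpC
    obtain ⟨q, ⟨hq, hqp⟩, hpq⟩ := hpC
    have hle : q ≤ p.asIdeal := by simpa [PrimeSpectrum.mem_zeroLocus] using hpq
    have : p.asIdeal ≤ q := hp.2 ⟨hq.1.1, bot_le⟩ hle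
    exact hqp (le_antisymm hle this)
  obtain ⟨r, hrC, hrU⟩ := hd.inter_open_nonempty Cᶜ hC.isOpen_compl ⟨p, hpC⟩
  obtain ⟨q, hq, hqr⟩ := Ideal.exists_minimalPrimes_le (I := (⊥ : Ideal A)) (J := r.asIdeal) bot_le
  have hqp : q = p.asIdeal := by
    by_contra hne
    apply hrC
    simp only [C, mem_iUnion, exists_prop]
    exact ⟨q, ⟨hq, hne⟩, by simpa [PrimeSpectrum.mem_zeroLocus] using hqr⟩
  subst hqp
  have hspec : p ⤳ r := (PrimeSpectrum.le_iff_specializes p r).mp hqr
  exact hspec.mem_open hU hrU

end DenseOpen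

section HomAR

theorem pi_mem_smul_top {A : Type*} [CommRing A] (J : Ideal A) {ι : Type*} [Fintype ι] [DecidableEq ι]
    {N : Type*} [AddCommGroup N] [Module A N] (f : ι → N)
    (hf : ∀ i, f i ∈ J • (⊤ : Submodule A N)) : f ∈ J • (⊤ : Submodule A (ι → N)) := by
  have : f = ∑ i, LinearMap.single A (fun _ => N) i (f i) := by
    ext j
    simp [Finset.sum_apply, Pi.single_apply]
  rw [this]
  refine Submodule.sum_mem _ fun i _ => ?_
  have h1 : LinearMap.single A (fun _ => N) i (f i) ∈ (J • (⊤ : Submodule A N)).map (LinearMap.single A (fun _ => N) i) :=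
    Submodule.mem_map_of_mem (hf i)
  rw [Submodule.map_smul''] at h1
  exact Submodule.smul_mono le_rfl le_top h1

theorem hom_artin_rees
    (A : Type u) [CommRing A] [IsNoetherianRing A] (I : Ideal A)
    (M : Type v) (N : Type v) [AddCommGroup M] [Module A M] [AddCommGroup N] [Module A N]
    [Module.Finite A M] [Module.Finite A N] (n : ℕ) :
    ∃ m : ℕ, ∀ u : M →ₗ[A] N, LinearMap.range u ≤ I ^ m • (⊤ : Submodule A N) →
      u ∈ I ^ n • (⊤ : Submodule A (M →ₗ[A] N)) := by
  classical
  obtain ⟨s, g, hg⟩ := Module.Finite.exists_fin (R := A) (M := M)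
  let ε : (M →ₗ[A] N) →ₗ[A] (Fin s → N) := LinearMap.pi (fun i => LinearMap.applyₗ (g i))
  have hε : ∀ u i, ε u i = u (g i) := fun u i => rfl
  have hεinj : Function.Injective ε := by
    intro u u' h
    apply LinearMap.ext_on_range hg
    intro i
    have := congrFun h i
    simpa [hε] using this
  obtain ⟨c, hc⟩ := Ideal.exists_pow_inf_eq_pow_smul I (LinearMap.range ε)
  refine ⟨n + c, fun u hu => ?_⟩
  have h1 : ε u ∈ I ^ (n + c) • (⊤ : Submodule A (Fin s → N)) ⊓ LinearMap.range ε := by
    refine ⟨pi_mem_smul_top _ _ fun i => ?_, ⟨u, rfl⟩⟩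
    rw [hε]
    exact hu ⟨g i, rfl⟩
  rw [hc (n + c) (by omega), Nat.add_sub_cancel] at h1
  have h2 : I ^ n • (I ^ c • (⊤ : Submodule A (Fin s → N)) ⊓ LinearMap.range ε) ≤
      (I ^ n • (⊤ : Submodule A (M →ₗ[A] N))).map ε := by
    rw [Submodule.map_smul'', Submodule.map_top]
    exact Submodule.smul_mono le_rfl inf_le_right
  obtain ⟨u', hu', he⟩ := h2 h1
  rw [← hεinj he]
  exact hu'

end HomAR

section InjPerturb

theorem apply_mem_of_mem_smul_top {A : Type*} [CommRing A] (I : Ideal A) {M N : Type*}
    [AddCommGroup M] [Module A M] [AddCommGroup N] [Module A N] (k : ℕ)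
    {w : M →ₗ[A] N} (hw : w ∈ I ^ k • (⊤ : Submodule A (M →ₗ[A] N))) (j : ℕ) {x : M}
    (hx : x ∈ I ^ j • (⊤ : Submodule A M)) : w x ∈ I ^ (k + j) • (⊤ : Submodule A N) := by
  refine Submodule.smul_induction_on (p := fun w => w x ∈ I ^ (k + j) • (⊤ : Submodule A N)) hw ?_ ?_
  · intro a ha w' _
    rw [LinearMap.smul_apply, pow_add, Submodule.mul_smul]
    apply Submodule.smul_mem_smul ha
    have : w' x ∈ (I ^ j • (⊤ : Submodule A M)).map w' := Submodule.mem_map_of_mem hx
    rw [Submodule.map_smul''] at this
    exact Submodule.smul_mono le_rfl le_top this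
  · intro w₁ w₂ h₁ h₂
    rw [LinearMap.add_apply]
    exact Submodule.add_mem _ h₁ h₂

theorem injective_add_of_mem_pow_smul
    (A : Type u) [CommRing A] [IsNoetherianRing A] (I : Ideal A) (hI : I ≤ Ideal.jacobson ⊥)
    (M : Type v) (N : Type v) [AddCommGroup M] [Module A M] [AddCommGroup N] [Module A N]
    [Module.Finite A M] [Module.Finite A N] (v : M →ₗ[A] N) (hv : Function.Injective v) :
    ∃ k : ℕ, ∀ w ∈ I ^ k • (⊤ : Submodule A (M →ₗ[A] N)), Function.Injective (v + w) := by
  obtain ⟨c, hc⟩ := Ideal.exists_pow_inf_eq_pow_smul I (LinearMap.range v)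
  refine ⟨c + 1, fun w hw => ?_⟩
  rw [← LinearMap.ker_eq_bot, LinearMap.ker_eq_bot']
  intro x hx
  by_contra hne
  -- Krull
  have hK : (⨅ i : ℕ, I ^ i • ⊤ : Submodule A M) = ⊥ := Ideal.iInf_pow_smul_eq_bot_of_le_jacobson I hI
  have hex : ∃ j, x ∉ I ^ j • (⊤ : Submodule A M) := by
    by_contra hall
    push Not at hall
    have : x ∈ (⨅ i : ℕ, I ^ i • ⊤ : Submodule A M) := by
      rw [Submodule.mem_iInf]; exact hall
    rw [hK] at this
    exact hne ((Submodule.mem_bot A).mp this)
  classical
  let j := Nat.find hex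
  have hj : x ∉ I ^ j • (⊤ : Submodule A M) := Nat.find_spec hex
  have hjpos : j ≠ 0 := by
    intro h0
    apply hj
    rw [h0, pow_zero, Ideal.one_eq_top, Submodule.top_smul]
    trivial
  obtain ⟨j', hj'⟩ := Nat.exists_eq_succ_of_ne_zero hjpos
  have hxj' : x ∈ I ^ j' • (⊤ : Submodule A M) := by
    by_contra h
    have := Nat.find_min' hex h
    omega
  have hvw : v x = - w x := by
    have : v x + w x = 0 := by simpa using hx
    exact eq_neg_of_add_eq_zero_left this
  have hwx : w x ∈ I ^ (c + 1 + j') • (⊤ : Submodule A N) := apply_mem_of_mem_smul_top I _ hw _ hxj'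
  have h1 : v x ∈ I ^ (c + 1 + j') • (⊤ : Submodule A N) ⊓ LinearMap.range v := by
    refine ⟨?_, ⟨x, rfl⟩⟩
    rw [hvw]; exact Submodule.neg_mem _ hwx
  rw [hc _ (by omega)] at h1
  have e : c + 1 + j' - c = j := by omega
  rw [e] at h1
  have h2 : I ^ j • (I ^ c • (⊤ : Submodule A N) ⊓ LinearMap.range v) ≤
      (I ^ j • (⊤ : Submodule A M)).map v := by
    rw [Submodule.map_smul'', Submodule.map_top]
    exact Submodule.smul_mono le_rfl inf_le_right
  obtain ⟨x', hx', he⟩ := h2 h1
  rw [← hv he] at hj
  exact hj hx'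

end InjPerturb

section AdicCompare

/-- A finite module killed by a maximal ideal is Artinian. -/
theorem isArtinian_of_finite_of_maximal_smul_eq_bot {A : Type*} [CommRing A] (m : Ideal A) [m.IsMaximal]
    (Q : Type*) [AddCommGroup Q] [Module A Q] [Module.Finite A Q]
    (h : ∀ a ∈ m, ∀ x : Q, a • x = 0) : IsArtinian A Q := by
  have htors : Module.IsTorsionBySet A Q (m : Set A) := by
    intro x a
    exact h a.1 a.2 x
  let : Module (A ⧸ m) Q := htors.module
  have : IsScalarTower A (A ⧸ m) Q := htors.isScalarTower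
  let : Field (A ⧸ m) := Ideal.Quotient.field m
  have : Module.Finite (A ⧸ m) Q := Module.Finite.of_restrictScalars_finite A (A ⧸ m) Q
  have : IsArtinian (A ⧸ m) Q := inferInstance
  exact isArtinian_of_surjective_algebraMap (R := A ⧸ m) (S := A) Ideal.Quotient.mk_surjective

theorem adic_compare
    (A : Type u) (B : Type v) (M : Type w)
    [CommRing A] [IsLocalRing A] [CommRing B] [IsLocalRing B] [IsNoetherianRing B]
    [Algebra A B] [IsLocalHom (algebraMap A B)]
    [AddCommGroup M] [Module B M] [Module A M] [IsScalarTower A B M] [Module.Finite B M]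
    (hq : Module.Finite A (M ⧸ (IsLocalRing.maximalIdeal A • ⊤ : Submodule A M))) :
    ∃ k : ℕ, (IsLocalRing.maximalIdeal B ^ k • ⊤ : Submodule B M) ≤
      (Ideal.map (algebraMap A B) (IsLocalRing.maximalIdeal A)) • ⊤ := by
  set mA := IsLocalRing.maximalIdeal A
  set mB := IsLocalRing.maximalIdeal B
  set J := Ideal.map (algebraMap A B) mA
  set Q := M ⧸ (mA • ⊤ : Submodule A M)
  have : IsArtinian A Q := by
    apply isArtinian_of_finite_of_maximal_smul_eq_bot mA
    intro a ha x
    obtain ⟨y, rfl⟩ := Submodule.Quotient.mk_surjective _ x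
    rw [← Submodule.Quotient.mk_smul, Submodule.Quotient.mk_eq_zero]
    exact Submodule.smul_mem_smul ha trivial
  -- J • ⊤ contains mA • ⊤
  have hJ : (mA • ⊤ : Submodule A M) ≤ (J • (⊤ : Submodule B M)).restrictScalars A := by
    rw [Submodule.smul_le]
    intro a ha x _
    rw [Submodule.restrictScalars_mem, ← algebraMap_smul B a x]
    exact Submodule.smul_mem_smul (Ideal.mem_map_of_mem _ ha) trivial
  -- the chain
  let Nk : ℕ → Submodule B M := fun k => mB ^ k • ⊤ ⊔ J • ⊤
  have hanti : Antitone Nk := by
    intro a b hab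
    refine sup_le_sup_right ?_ _
    exact Submodule.smul_mono (Ideal.pow_le_pow_right hab) le_rfl
  let F : ℕ →o (Submodule A Q)ᵒᵈ :=
    ⟨fun k => OrderDual.toDual (((Nk k).restrictScalars A).map (Submodule.mkQ _)), by
      intro a b hab
      exact Submodule.map_mono (fun x hx => hanti hab hx)⟩
  obtain ⟨k, hk⟩ := IsArtinian.monotone_stabilizes F
  refine ⟨k, ?_⟩
  have hk1 := hk (k + 1) (Nat.le_succ k)
  have heq : (Nk k).restrictScalars A = (Nk (k + 1)).restrictScalars A := by
    have h1 : ((Nk k).restrictScalars A).map (Submodule.mkQ (mA • ⊤ : Submodule A M)) =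
        ((Nk (k+1)).restrictScalars A).map (Submodule.mkQ (mA • ⊤ : Submodule A M)) := hk1
    have h2 := congrArg (Submodule.comap (Submodule.mkQ (mA • ⊤ : Submodule A M))) h1
    rw [Submodule.comap_map_eq, Submodule.comap_map_eq, Submodule.ker_mkQ] at h2
    have h3 : ∀ j, (Nk j).restrictScalars A ⊔ (mA • ⊤ : Submodule A M) = (Nk j).restrictScalars A := by
      intro j
      rw [sup_eq_left]
      exact hJ.trans (fun x hx => (le_sup_right : J • ⊤ ≤ Nk j) hx)
    rwa [h3, h3] at h2
  have hle : Nk k ≤ Nk (k + 1) := by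
    intro x hx
    have : x ∈ (Nk k).restrictScalars A := hx
    rw [heq] at this
    exact this
  have hfg : (mB ^ k • ⊤ : Submodule B M).FG := IsNoetherian.noetherian _
  apply Submodule.le_of_le_smul_of_le_jacobson_bot hfg (IsLocalRing.maximalIdeal_le_jacobson _)
  calc mB ^ k • ⊤ ≤ Nk k := le_sup_left
    _ ≤ Nk (k + 1) := hle
    _ = J • ⊤ ⊔ mB • mB ^ k • ⊤ := by
      simp only [Nk]
      rw [sup_comm, pow_succ', Submodule.mul_smul]

theorem adic_compare'
    (A : Type u) (B : Type v) (M : Type w)
    [CommRing A] [IsLocalRing A] [CommRing B] [IsLocalRing B] [IsNoetherianRing B]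
    [Algebra A B] [IsLocalHom (algebraMap A B)]
    [AddCommGroup M] [Module B M] [Module A M] [IsScalarTower A B M] [Module.Finite B M]
    (hq : Module.Finite A (M ⧸ (IsLocalRing.maximalIdeal A • ⊤ : Submodule A M))) :
    ∃ k : ℕ, ∀ h : ℕ, (IsLocalRing.maximalIdeal B ^ (h * k) • ⊤ : Submodule B M) ≤
      (Ideal.map (algebraMap A B) (IsLocalRing.maximalIdeal A)) ^ h • ⊤ := by
  obtain ⟨k, hk⟩ := adic_compare A B M hq
  refine ⟨k, fun h => ?_⟩
  induction h with
  | zero => simp
  | succ h ih =>
    rw [Nat.succ_mul, pow_add, Submodule.mul_smul, pow_succ, Submodule.mul_smul]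
    calc IsLocalRing.maximalIdeal B ^ (h * k) • IsLocalRing.maximalIdeal B ^ k • (⊤ : Submodule B M)
        ≤ IsLocalRing.maximalIdeal B ^ (h * k) • (Ideal.map (algebraMap A B) (IsLocalRing.maximalIdeal A)) • (⊤ : Submodule B M) :=
          Submodule.smul_mono le_rfl hk
      _ = (Ideal.map (algebraMap A B) (IsLocalRing.maximalIdeal A)) • IsLocalRing.maximalIdeal B ^ (h * k) • (⊤ : Submodule B M) := by
          rw [← Submodule.mul_smul, ← Submodule.mul_smul, mul_comm]
      _ ≤ (Ideal.map (algebraMap A B) (IsLocalRing.maximalIdeal A)) • (Ideal.map (algebraMap A B) (IsLocalRing.maximalIdeal A)) ^ h • (⊤ : Submodule B M) :=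
          Submodule.smul_mono le_rfl ih
      _ = _ := by rw [← Submodule.mul_smul, ← Submodule.mul_smul, mul_comm]

end AdicCompare

section AnnFinite

open Polynomial in
theorem pow_mem_ann_sup_of_smul_le {R : Type*} [CommRing R] {M : Type*} [AddCommGroup M] [Module R M]
    [Module.Finite R M] (J : Ideal R) (c : R) (hc : ∀ x : M, c • x ∈ J • (⊤ : Submodule R M)) :
    ∃ n : ℕ, c ^ n ∈ Module.annihilator R M ⊔ J := by
  let f : Module.End R M := algebraMap R (Module.End R M) c
  have hf : LinearMap.range f ≤ J • ⊤ := by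
    rintro _ ⟨x, rfl⟩
    exact hc x
  obtain ⟨p, hp, -, hcoeff, hzero⟩ :=
    LinearMap.exists_monic_and_natDegree_eq_and_coeff_mem_pow_and_aeval_eq_zero R f J hf
  rw [Polynomial.aeval_algebraMap_apply] at hzero
  have hann : Polynomial.aeval c p ∈ Module.annihilator R M := by
    rw [Module.mem_annihilator]
    intro x
    have := LinearMap.congr_fun hzero x
    simpa using this
  refine ⟨p.natDegree, ?_⟩
  have hsum := congrArg (Polynomial.aeval c) hp.as_sum
  simp only [map_add, map_pow, Polynomial.aeval_X, map_sum, map_mul, Polynomial.aeval_C,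
    Algebra.algebraMap_self, RingHom.id_apply] at hsum
  have : c ^ p.natDegree = Polynomial.aeval c p - ∑ i ∈ Finset.range p.natDegree, p.coeff i * c ^ i := by
    rw [hsum]; ring
  rw [this]
  apply Ideal.sub_mem
  · exact Ideal.mem_sup_left hann
  · apply Ideal.mem_sup_right
    apply Ideal.sum_mem
    intro i hi
    apply Ideal.mul_mem_right
    have hi' : p.natDegree - i ≠ 0 := by
      have := Finset.mem_range.mp hi
      omega
    exact Ideal.pow_le_self hi' (hcoeff i)

theorem finite_of_pow_smul_eq_bot (A : Type u) (B : Type v) [CommRing A] [CommRing B] [Algebra A B]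
    [IsNoetherianRing B] (c : Ideal B) [Module.Finite A (B ⧸ c)] (K : ℕ) :
    ∀ (P : Type w) [AddCommGroup P] [Module B P] [Module A P] [IsScalarTower A B P] [Module.Finite B P],
      c ^ K • (⊤ : Submodule B P) = ⊥ → Module.Finite A P := by
  induction K with
  | zero =>
    intro P _ _ _ _ _ h
    have : Subsingleton P := by
      rw [pow_zero, Ideal.one_eq_top, Submodule.top_smul] at h
      exact (Submodule.subsingleton_iff B).mp (subsingleton_of_bot_eq_top h.symm)
    infer_instance
  | succ K ih =>
    intro P _ _ _ _ _ h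
    let N : Submodule B P := c ^ K • ⊤
    have hN : ∀ a ∈ c, ∀ x ∈ N, a • x = 0 := by
      intro a ha x hx
      have : a • x ∈ c • N := Submodule.smul_mem_smul ha hx
      rw [show c • N = c ^ (K + 1) • ⊤ by rw [pow_succ', Submodule.mul_smul], h] at this
      exact (Submodule.mem_bot B).mp this
    have hNfin : Module.Finite B N := Module.Finite.of_fg (IsNoetherian.noetherian N) |> fun h => h
    -- N is a B/c-module
    have htors : Module.IsTorsionBySet B N (c : Set B) := by
      intro x a
      apply Subtype.ext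
      exact hN a.1 a.2 x.1 x.2
    let : Module (B ⧸ c) N := htors.module
    have : IsScalarTower B (B ⧸ c) N := htors.isScalarTower
    have : IsScalarTower A (B ⧸ c) N := by
      apply IsScalarTower.of_algebraMap_smul
      intro a x
      rw [IsScalarTower.algebraMap_apply A B (B ⧸ c), algebraMap_smul, algebraMap_smul]
    have : Module.Finite (B ⧸ c) N := Module.Finite.of_restrictScalars_finite B (B ⧸ c) N
    have hNA : Module.Finite A N := Module.Finite.trans (B ⧸ c) N
    -- quotient
    have hquot : c ^ K • (⊤ : Submodule B (P ⧸ N)) = ⊥ := by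
      have : (c ^ K • (⊤ : Submodule B P)).map N.mkQ = c ^ K • (⊤ : Submodule B (P ⧸ N)) := by
        rw [Submodule.map_smul'', Submodule.map_top, Submodule.range_mkQ]
      rw [← this]
      exact (Submodule.mkQ_map_self N)
    have hQA : Module.Finite A (P ⧸ N) := ih (P ⧸ N) hquot
    -- extension
    let g : P →ₗ[A] P ⧸ N := N.mkQ.restrictScalars A
    have h1 : ((⊤ : Submodule A P).map g).FG := by
      rw [Submodule.map_top]
      have : LinearMap.range g = ⊤ := LinearMap.range_eq_top.mpr (Submodule.mkQ_surjective N)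
      rw [this]
      exact Module.Finite.fg_top
    have h2 : ((⊤ : Submodule A P) ⊓ LinearMap.ker g).FG := by
      rw [top_inf_eq]
      have : LinearMap.ker g = N.restrictScalars A := by
        ext x
        simp [g]
      rw [this]
      exact (Module.Finite.iff_fg (N := N.restrictScalars A)).mp hNA
    exact ⟨Submodule.fg_of_fg_map_of_fg_inf_ker g h1 h2⟩

theorem isNoetherian_of_surjective_algebraMap' {S R M : Type*} [CommRing S] [CommRing R] [Algebra S R]
    [AddCommGroup M] [Module S M] [Module R M] [IsScalarTower S R M] [IsNoetherian R M]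
    (H : Function.Surjective (algebraMap S R)) : IsNoetherian S M := by
  constructor
  intro N
  let N' : Submodule R M :=
    { toAddSubmonoid := N.toAddSubmonoid
      smul_mem' := by
        intro c x hx
        obtain ⟨r, rfl⟩ := H c
        rw [algebraMap_smul]
        exact N.smul_mem r hx }
  have h1 : N'.FG := IsNoetherian.noetherian N'
  have : Module.Finite S R := Module.Finite.of_surjective (Algebra.linearMap S R) H
  have h2 : (N'.restrictScalars S).FG := h1.restrictScalars
  have : N'.restrictScalars S = N := by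
    ext x; rfl
  rwa [this] at h2

/-- A finite module killed by a maximal ideal is Noetherian. -/
theorem isNoetherian_of_finite_of_maximal_smul_eq_bot {A : Type*} [CommRing A] (m : Ideal A) [m.IsMaximal]
    (Q : Type*) [AddCommGroup Q] [Module A Q] [Module.Finite A Q]
    (h : ∀ a ∈ m, ∀ x : Q, a • x = 0) : IsNoetherian A Q := by
  have htors : Module.IsTorsionBySet A Q (m : Set A) := by
    intro x a
    exact h a.1 a.2 x
  let : Module (A ⧸ m) Q := htors.module
  have : IsScalarTower A (A ⧸ m) Q := htors.isScalarTower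
  let : Field (A ⧸ m) := Ideal.Quotient.field m
  have : Module.Finite (A ⧸ m) Q := Module.Finite.of_restrictScalars_finite A (A ⧸ m) Q
  have : IsNoetherian (A ⧸ m) Q := inferInstance
  exact isNoetherian_of_surjective_algebraMap' (R := A ⧸ m) (S := A) Ideal.Quotient.mk_surjective

theorem ann_quotient_finite
    (A : Type u) (B : Type v) (M : Type w)
    [CommRing A] [IsLocalRing A] [CommRing B] [IsNoetherianRing B]
    [Algebra A B]
    [AddCommGroup M] [Module B M] [Module A M] [IsScalarTower A B M] [Module.Finite B M]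
    (hq : Module.Finite A (M ⧸ (IsLocalRing.maximalIdeal A • ⊤ : Submodule A M))) :
    Module.Finite A ((B ⧸ Module.annihilator B M) ⧸
      (IsLocalRing.maximalIdeal A • ⊤ : Submodule A (B ⧸ Module.annihilator B M))) := by
  classical
  set mA := IsLocalRing.maximalIdeal A
  set J := Ideal.map (algebraMap A B) mA
  set b := Module.annihilator B M
  -- Step 1
  have hQN : IsNoetherian A (M ⧸ (mA • ⊤ : Submodule A M)) := by
    apply isNoetherian_of_finite_of_maximal_smul_eq_bot mA
    intro a ha x
    obtain ⟨y, rfl⟩ := Submodule.Quotient.mk_surjective _ x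
    rw [← Submodule.Quotient.mk_smul, Submodule.Quotient.mk_eq_zero]
    exact Submodule.smul_mem_smul ha trivial
  -- Step 2
  have hJ : (mA • ⊤ : Submodule A M) ≤ (J • (⊤ : Submodule B M)).restrictScalars A := by
    rw [Submodule.smul_le]
    intro a ha x _
    rw [Submodule.restrictScalars_mem, ← algebraMap_smul B a x]
    exact Submodule.smul_mem_smul (Ideal.mem_map_of_mem _ ha) trivial
  have hQ'N : IsNoetherian A (M ⧸ (J • ⊤ : Submodule B M)) := by
    let π : M →ₗ[A] (M ⧸ (J • ⊤ : Submodule B M)) := (Submodule.mkQ _).restrictScalars A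
    have hπ : (mA • ⊤ : Submodule A M) ≤ LinearMap.ker π := by
      intro x hx
      have := hJ hx
      simpa [π] using this
    have hsurj : Function.Surjective ((mA • ⊤ : Submodule A M).liftQ π hπ) := by
      intro y
      obtain ⟨x, rfl⟩ := Submodule.Quotient.mk_surjective _ y
      exact ⟨Submodule.Quotient.mk x, rfl⟩
    exact isNoetherian_of_surjective _ (LinearMap.range_eq_top.mpr hsurj)
  -- Step 3
  obtain ⟨s, x, hx⟩ := Module.Finite.exists_fin (R := B) (M := M)
  let ψ : B →ₗ[B] (Fin s → M ⧸ (J • ⊤ : Submodule B M)) :=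
    LinearMap.pi fun i => LinearMap.toSpanSingleton B _ (Submodule.Quotient.mk (x i))
  let c' : Ideal B := LinearMap.ker ψ
  have hfin : Module.Finite A (B ⧸ c') := by
    let f : (B ⧸ c') →ₗ[A] (Fin s → M ⧸ (J • ⊤ : Submodule B M)) :=
      (Submodule.liftQ c' ψ le_rfl).restrictScalars A
    have hf : Function.Injective f := by
      have : LinearMap.ker (Submodule.liftQ c' ψ le_rfl) = ⊥ := Submodule.ker_liftQ_eq_bot _ _ _ le_rfl
      exact (LinearMap.ker_eq_bot.mp this : Function.Injective (Submodule.liftQ c' ψ le_rfl))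
    exact Module.Finite.of_injective f hf
  -- Step 4
  have hrad : c' ≤ (b ⊔ J).radical := by
    intro c hc
    have hc' : ∀ i, c • x i ∈ (J • ⊤ : Submodule B M) := by
      intro i
      have : ψ c i = 0 := by
        have : ψ c = 0 := hc
        rw [this]; rfl
      simpa [ψ, LinearMap.toSpanSingleton_apply, ← Submodule.Quotient.mk_smul,
        Submodule.Quotient.mk_eq_zero] using this
    have hall : ∀ y : M, c • y ∈ (J • ⊤ : Submodule B M) := by
      intro y
      have hy : y ∈ Submodule.span B (Set.range x) := by rw [hx]; trivial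
      induction hy using Submodule.span_induction with
      | mem z hz =>
        obtain ⟨i, rfl⟩ := hz
        exact hc' i
      | zero => simp
      | add z w _ _ hz hw => rw [smul_add]; exact Submodule.add_mem _ hz hw
      | smul r z _ hz => rw [smul_comm]; exact Submodule.smul_mem _ _ hz
    exact pow_mem_ann_sup_of_smul_le J c hall
  -- Step 5
  obtain ⟨K, hK⟩ := Ideal.exists_pow_le_of_le_radical_of_fg hrad (IsNoetherian.noetherian c')
  -- Step 6
  have hP : c' ^ K • (⊤ : Submodule B (B ⧸ (b ⊔ J))) = ⊥ := by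
    rw [eq_bot_iff, Submodule.smul_le]
    intro r hr y _
    obtain ⟨z, rfl⟩ := Ideal.Quotient.mk_surjective y
    rw [Submodule.mem_bot]
    have : r * z ∈ b ⊔ J := Ideal.mul_mem_right _ _ (hK hr)
    exact (Ideal.Quotient.eq_zero_iff_mem).mpr this
  -- Step 7
  have hPfin : Module.Finite A (B ⧸ (b ⊔ J)) := finite_of_pow_smul_eq_bot A B c' K _ hP
  -- Step 8
  let g : B →ₗ[A] ((B ⧸ b) ⧸ (mA • ⊤ : Submodule A (B ⧸ b))) :=
    (Submodule.mkQ (mA • ⊤ : Submodule A (B ⧸ b))) ∘ₗ ((Submodule.mkQ b).restrictScalars A)
  have hgJ : ∀ z ∈ Submodule.span B ((algebraMap A B) '' (mA : Set A)), ∀ r : B, g (r * z) = 0 := by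
    intro z hz
    refine Submodule.span_induction (p := fun z _ => ∀ r : B, g (r * z) = 0) ?_ ?_ ?_ ?_ hz
    · rintro w ⟨a, ha, rfl⟩ r
      have e : r * algebraMap A B a = a • r := by rw [Algebra.smul_def, mul_comm]
      rw [e, map_smul]
      simp only [g, LinearMap.comp_apply, LinearMap.restrictScalars_apply, Submodule.mkQ_apply]
      rw [← Submodule.Quotient.mk_smul, Submodule.Quotient.mk_eq_zero]
      exact Submodule.smul_mem_smul ha trivial
    · intro r; simp
    · intro z w _ _ hz hw r
      rw [mul_add, map_add, hz r, hw r, add_zero]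
    · intro r' z _ hz r
      rw [smul_eq_mul, ← mul_assoc]
      exact hz _
  have hg : (b ⊔ J).restrictScalars A ≤ LinearMap.ker g := by
    intro z hz
    rw [Submodule.restrictScalars_mem] at hz
    obtain ⟨z₁, hz₁, z₂, hz₂, rfl⟩ := Submodule.mem_sup.mp hz
    rw [LinearMap.mem_ker, map_add]
    have e1 : g z₁ = 0 := by
      simp only [g, LinearMap.comp_apply, LinearMap.restrictScalars_apply, Submodule.mkQ_apply]
      rw [(Submodule.Quotient.mk_eq_zero b).mpr hz₁]
      simp
    have e2 : g z₂ = 0 := by
      have := hgJ z₂ hz₂ 1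
      rwa [one_mul] at this
    rw [e1, e2, add_zero]
  have hgsurj : Function.Surjective g := by
    intro y
    obtain ⟨y', rfl⟩ := Submodule.Quotient.mk_surjective _ y
    obtain ⟨y'', rfl⟩ := Submodule.Quotient.mk_surjective _ y'
    exact ⟨y'', rfl⟩
  have hP' : Module.Finite A (B ⧸ (b ⊔ J).restrictScalars A) :=
    Module.Finite.equiv (Submodule.Quotient.restrictScalarsEquiv A (b ⊔ J)).symm
  refine Module.Finite.of_surjective (((b ⊔ J).restrictScalars A).liftQ g hg) ?_
  intro y
  obtain ⟨z, rfl⟩ := hgsurj y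
  exact ⟨Submodule.Quotient.mk z, rfl⟩

end AnnFinite

section PSq

/-- if `p^2 = 0` and `a ≡ b mod p` then `a^p = b^p`. -/
theorem pow_eq_pow_of_sub_mem_span {B : Type*} [CommRing B] (p : ℕ) (hp : (p : B) ^ 2 = 0)
    (a b : B) (h : a - b ∈ Ideal.span ({(p : B)} : Set B)) : a ^ p = b ^ p := by
  rw [Ideal.mem_span_singleton'] at h
  obtain ⟨c, hc⟩ := h
  have ha : a = c * p + b := by rw [hc]; ring
  rw [ha, add_pow, Finset.sum_range_succ']
  simp only [pow_zero, one_mul, Nat.sub_zero, Nat.choose_zero_right, Nat.cast_one, mul_one]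
  rw [add_eq_right]
  apply Finset.sum_eq_zero
  intro k _
  rcases Nat.eq_zero_or_pos k with rfl | hk
  · simp only [zero_add, pow_one, Nat.choose_one_right]
    have : c * (p : B) * b ^ (p - 1) * (p : B) = c * b ^ (p - 1) * (p : B) ^ 2 := by ring
    rw [this, hp, mul_zero]
  · have : (c * (p : B)) ^ (k + 1) = c ^ (k + 1) * (p : B) ^ 2 * (p : B) ^ (k - 1) := by
      rw [mul_pow, mul_assoc, ← pow_add]; congr 2; omega
    rw [this, hp, mul_zero, zero_mul, zero_mul, zero_mul]

theorem algHom_eq_of_sub_mem_span
    (p : ℕ) (A : Type u) [CommRing A] (B : Type v) [CommRing B] [Algebra A B]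
    (C : Type w) [CommRing C] [Algebra A C] (hp : (p : B) ^ 2 = 0)
    (g₁ g₂ : C →ₐ[A] B) (hg : ∀ x : C, g₁ x - g₂ x ∈ Ideal.span ({(p : B)} : Set B))
    (x y : C) (hy : y ∈ Algebra.adjoin A (Set.range fun c : C => c ^ p))
    (hxy : x - y ∈ Ideal.span ({(p : C)} : Set C)) :
    g₁ x = g₂ x := by
  have h1 : Algebra.adjoin A (Set.range fun c : C => c ^ p) ≤ AlgHom.equalizer g₁ g₂ := by
    rw [Algebra.adjoin_le_iff]
    rintro _ ⟨c, rfl⟩
    change g₁ (c ^ p) = g₂ (c ^ p)
    rw [map_pow, map_pow]
    exact pow_eq_pow_of_sub_mem_span p hp _ _ (hg c)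
  have hy' : g₁ y = g₂ y := h1 hy
  rw [Ideal.mem_span_singleton'] at hxy
  obtain ⟨c, hc⟩ := hxy
  have hx : x = c * p + y := by rw [hc]; ring
  rw [hx, map_add, map_add, hy', map_mul, map_mul, map_natCast, map_natCast]
  congr 1
  have := hg c
  rw [Ideal.mem_span_singleton'] at this
  obtain ⟨b, hb⟩ := this
  have : g₁ c = g₂ c + b * p := by rw [hb]; ring
  rw [this, add_mul, mul_assoc, ← sq, hp, mul_zero, add_zero]

theorem D_eq_zero_of_frobenius_lift
    (p : ℕ) (A : Type u) [CommRing A] (B : Type v) [CommRing B] [Algebra A B]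
    (C : Type w) [CommRing C] [Algebra A C] (hp : (p : B) ^ 2 = 0)
    (g : C →ₐ[A] B)
    (hg : ∀ c : C, ∃ u ∈ Algebra.adjoin A (Set.range fun b : B => b ^ p),
      g c - u ∈ Ideal.span ({(p : B)} : Set B))
    (x y : C) (hy : y ∈ Algebra.adjoin A (Set.range fun c : C => c ^ p))
    (hxy : x - y ∈ Ideal.span ({(p : C)} : Set C)) :
    KaehlerDifferential.D A B (g x) = 0 := by
  set d := KaehlerDifferential.D A B with hd
  -- the subalgebra of elements with differential in pΩ
  let S : Subalgebra A B :=
    { carrier := {b | ∃ ω, d b = (p : B) • ω}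
      mul_mem' := by
        rintro a b ⟨ω, hω⟩ ⟨η, hη⟩
        refine ⟨a • η + b • ω, ?_⟩
        rw [Derivation.leibniz, hω, hη, smul_add, smul_comm a, smul_comm b]
      add_mem' := by
        rintro a b ⟨ω, hω⟩ ⟨η, hη⟩
        exact ⟨ω + η, by rw [map_add, hω, hη, smul_add]⟩
      algebraMap_mem' := by
        intro r
        exact ⟨0, by rw [Derivation.map_algebraMap, smul_zero]⟩ }
  have hS : Algebra.adjoin A (Set.range fun b : B => b ^ p) ≤ S := by
    rw [Algebra.adjoin_le_iff]
    rintro _ ⟨b, rfl⟩
    refine ⟨b ^ (p - 1) • d b, ?_⟩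
    change d (b ^ p) = _
    rw [Derivation.leibniz_pow, ← smul_assoc, ← smul_assoc, smul_eq_mul, nsmul_eq_mul, mul_comm]
  have hdg : ∀ c : C, ∃ ω, d (g c) = (p : B) • ω := by
    intro c
    obtain ⟨u, hu, hcu⟩ := hg c
    obtain ⟨ω, hω⟩ := hS hu
    rw [Ideal.mem_span_singleton'] at hcu
    obtain ⟨b, hb⟩ := hcu
    have : g c = u + p * b := by rw [mul_comm, hb]; ring
    refine ⟨ω + d b, ?_⟩
    rw [this, map_add, hω, Derivation.leibniz, Derivation.map_natCast, smul_zero, add_zero, smul_add]
  have hpp : ∀ ω : Ω[B⁄A], (p : B) • ((p : B) • ω) = 0 := by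
    intro ω
    rw [← mul_smul, ← sq, hp, zero_smul]
  -- the subalgebra of C on which d ∘ g vanishes
  let T : Subalgebra A C :=
    { carrier := {c | d (g c) = 0}
      mul_mem' := by
        intro a b ha hb
        change d (g (a * b)) = 0
        rw [map_mul, Derivation.leibniz, show d (g a) = 0 from ha, show d (g b) = 0 from hb, smul_zero,
          smul_zero, add_zero]
      add_mem' := by
        intro a b ha hb
        change d (g (a + b)) = 0
        rw [map_add, map_add, show d (g a) = 0 from ha, show d (g b) = 0 from hb, add_zero]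
      algebraMap_mem' := by
        intro r
        change d (g (algebraMap A C r)) = 0
        rw [AlgHom.commutes, Derivation.map_algebraMap] }
  have hT : Algebra.adjoin A (Set.range fun c : C => c ^ p) ≤ T := by
    rw [Algebra.adjoin_le_iff]
    rintro _ ⟨c, rfl⟩
    change d (g (c ^ p)) = 0
    obtain ⟨ω, hω⟩ := hdg c
    rw [map_pow, Derivation.leibniz_pow, hω, smul_comm, ← Nat.cast_smul_eq_nsmul B, hpp, smul_zero]
  have hy' : d (g y) = 0 := hT hy
  rw [Ideal.mem_span_singleton'] at hxy
  obtain ⟨c, hc⟩ := hxy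
  have hx : x = y + p * c := by rw [mul_comm, hc]; ring
  obtain ⟨ω, hω⟩ := hdg c
  rw [hx, map_add, map_add, hy', zero_add, map_mul, map_natCast, Derivation.leibniz, hω, hpp,
    Derivation.map_natCast, smul_zero, add_zero]

end PSq

section SuppMax

theorem isMaximal_of_mem_support_of_isFiniteLength (A : Type u) [CommRing A]
    (M : Type v) [AddCommGroup M] [Module A M] (h : IsFiniteLength A M) :
    ∀ p ∈ Module.support A M, p.asIdeal.IsMaximal := by
  induction h with
  | of_subsingleton =>
    intro p hp
    rw [Module.support_eq_empty] at hp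
    exact hp.elim
  | @of_simple_quotient M _ _ N hsimple _ ih =>
    intro p hp
    rw [Module.support_of_exact (f := N.subtype) (g := N.mkQ) (LinearMap.exact_subtype_mkQ N)
      N.injective_subtype N.mkQ_surjective] at hp
    rcases hp with hp | hp
    · exact ih p hp
    · obtain ⟨I, hI, ⟨e⟩⟩ := isSimpleModule_iff_quot_maximal.mp hsimple
      rw [e.support_eq, Module.support_eq_zeroLocus, Ideal.annihilator_quotient,
        PrimeSpectrum.mem_zeroLocus] at hp
      have : I = p.asIdeal := hI.eq_of_le p.2.ne_top hp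
      rw [← this]; exact hI

theorem isArtinian_of_support_maximal (A : Type u) [CommRing A] [IsNoetherianRing A]
    (M : Type v) [AddCommGroup M] [Module A M] [hM : Module.Finite A M] :
    (∀ p ∈ Module.support A M, p.asIdeal.IsMaximal) → IsArtinian A M := by
  induction hM using IsNoetherianRing.induction_on_isQuotientEquivQuotientPrime A with
  | subsingleton N => intro _; infer_instance
  | quotient N p e =>
    intro h
    have hp : p ∈ Module.support A N := by
      rw [e.support_eq, Module.support_eq_zeroLocus, Ideal.annihilator_quotient,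
        PrimeSpectrum.mem_zeroLocus]
    have hmax := h p hp
    let : Field (A ⧸ p.asIdeal) := Ideal.Quotient.field _
    have : IsArtinian (A ⧸ p.asIdeal) (A ⧸ p.asIdeal) := inferInstance
    have : IsArtinian A (A ⧸ p.asIdeal) :=
      isArtinian_of_surjective_algebraMap (R := A ⧸ p.asIdeal) (S := A) Ideal.Quotient.mk_surjective
    exact isArtinian_of_linearEquiv e.symm
  | exact N₁ N₂ N₃ f g hf hg hfg ih₁ ih₃ =>
    intro h
    rw [Module.support_of_exact hfg hf hg] at h
    have := ih₁ (fun p hp => h p (Or.inl hp))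
    have := ih₃ (fun p hp => h p (Or.inr hp))
    exact isArtinian_of_range_eq_ker f g (LinearMap.exact_iff.mp hfg).symm

theorem support_maximal_iff_isFiniteLength (A : Type u) [CommRing A] [IsNoetherianRing A]
    (M : Type v) [AddCommGroup M] [Module A M] [Module.Finite A M] :
    (∀ p ∈ Module.support A M, p.asIdeal.IsMaximal) ↔ IsFiniteLength A M := by
  constructor
  · intro h
    rw [isFiniteLength_iff_isNoetherian_isArtinian]
    exact ⟨inferInstance, isArtinian_of_support_maximal A M h⟩
  · exact isMaximal_of_mem_support_of_isFiniteLength A M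

end SuppMax

section RegHeight
open RingTheory.Sequence

/-- a regular element on `A ⧸ I` avoids every minimal prime over `I`. -/
theorem notMem_of_mem_minimalPrimes_of_isSMulRegular {A : Type u} [CommRing A] (I : Ideal A) (a : A)
    (ha : IsSMulRegular (A ⧸ (I • ⊤ : Submodule A A)) a) {q : Ideal A} (hq : q ∈ I.minimalPrimes) :
    a ∉ q := by
  intro haq
  rw [Ideal.minimalPrimes_eq_comap] at hq
  obtain ⟨q', hq', rfl⟩ := hq
  have ha' : Ideal.Quotient.mk I a ∈ q' := haq
  apply notMem_nonZeroDivisors_of_mem_mem_minimalPrimes ha' hq'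
  rw [mem_nonZeroDivisors_iff_right]
  intro b hb
  obtain ⟨b, rfl⟩ := Ideal.Quotient.mk_surjective b
  rw [← map_mul, Ideal.Quotient.eq_zero_iff_mem] at hb
  rw [Ideal.Quotient.eq_zero_iff_mem]
  -- use regularity
  have hI : (I • ⊤ : Submodule A A) = I := by simp
  have h0 : a • (Submodule.Quotient.mk b : A ⧸ (I • ⊤ : Submodule A A)) = a • 0 := by
    rw [smul_zero, ← Submodule.Quotient.mk_smul, Submodule.Quotient.mk_eq_zero, hI, smul_eq_mul, mul_comm]
    exact hb
  have := ha h0
  rw [Submodule.Quotient.mk_eq_zero, hI] at this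
  exact this

theorem length_le_height_of_isWeaklyRegular {A : Type u} [CommRing A] :
    ∀ (rs : List A), IsWeaklyRegular A rs → ∀ (p : Ideal A) [p.IsPrime], Ideal.ofList rs ≤ p →
      (rs.length : ℕ∞) ≤ p.height := by
  intro rs
  induction rs using List.reverseRecOn with
  | nil => intro _ p _ _; simp
  | append_singleton rs a ih =>
    intro hreg p _ hle
    rw [isWeaklyRegular_append_iff, isWeaklyRegular_singleton_iff] at hreg
    obtain ⟨hreg', ha⟩ := hreg
    rw [Ideal.ofList_append, Ideal.ofList_singleton, sup_le_iff, Ideal.span_singleton_le_iff_mem] at hle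
    obtain ⟨hle', hap⟩ := hle
    obtain ⟨q, hq, hqp⟩ := Ideal.exists_minimalPrimes_le hle'
    have : q.IsPrime := hq.1.1
    have haq : a ∉ q := notMem_of_mem_minimalPrimes_of_isSMulRegular _ a ha hq
    have hlt : q < p := lt_of_le_of_ne hqp (fun h => haq (h ▸ hap))
    have h1 := ih hreg' q hq.1.2
    have h2 := Ideal.height_add_one_le_of_lt_of_isPrime hlt
    rw [List.length_append, List.length_singleton, Nat.cast_add, Nat.cast_one]
    exact (add_le_add_left h1 1).trans h2

theorem height_span_range_of_isWeaklyRegular (A : Type u) [CommRing A] [IsNoetherianRing A]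
    (r : ℕ) (x : Fin r → A) (hx : IsWeaklyRegular A (List.ofFn x))
    (hI : Ideal.span (Set.range x) ≠ ⊤) :
    (Ideal.span (Set.range x)).height = r := by
  have hof : Ideal.ofList (List.ofFn x) = Ideal.span (Set.range x) := by
    rw [Ideal.ofList]
    congr 1
    ext a
    simp [List.mem_ofFn]
  apply le_antisymm
  · refine (Ideal.height_le_spanFinrank _ hI).trans ?_
    have h1 := Submodule.spanFinrank_span_le_ncard_of_finite (R := A) (Set.finite_range x)
    have h2 : (Set.range x).ncard ≤ r := by
      have := Set.ncard_image_le (f := x) (Set.finite_univ (α := Fin r))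
      rw [Set.image_univ] at this
      simpa using this
    exact_mod_cast h1.trans h2
  · rw [Ideal.height_eq_inf_minimalPrimes]  -- height = ⨅ minimal primes
    refine le_iInf₂ fun p hp => ?_
    have : p.IsPrime := hp.1.1
    have := length_le_height_of_isWeaklyRegular (List.ofFn x) hx p (hof ▸ hp.1.2)
    rw [List.length_ofFn] at this
    exact this

end RegHeight

section TraceBound

theorem norm_trace_le {V : Type*} [AddCommGroup V] [Module ℂ V] [FiniteDimensional ℂ V]
    (f : V →ₗ[ℂ] V) (B : ℝ) (hB : ∀ μ : ℂ, Module.End.HasEigenvalue f μ → ‖μ‖ ≤ B) :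
    ‖LinearMap.trace ℂ V f‖ ≤ Module.finrank ℂ V * B := by
  have hsplits : f.charpoly.Splits := IsAlgClosed.splits _
  rw [Module.End.trace_eq_sum_roots_charpoly_of_splits hsplits]
  have hcard : f.charpoly.roots.card = Module.finrank ℂ V := by
    rw [Polynomial.splits_iff_card_roots.mp hsplits, LinearMap.charpoly_natDegree]
  have hroot : ∀ μ ∈ f.charpoly.roots, ‖μ‖ ≤ B := by
    intro μ hμ
    apply hB
    rw [Module.End.hasEigenvalue_iff_isRoot_charpoly]
    exact (Polynomial.mem_roots'.mp hμ).2
  calc ‖f.charpoly.roots.sum‖ ≤ (f.charpoly.roots.map (‖·‖)).sum := norm_multiset_sum_le _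
    _ ≤ f.charpoly.roots.card • B := by
      have := Multiset.sum_le_card_nsmul (f.charpoly.roots.map (‖·‖)) B (by
        intro x hx
        obtain ⟨μ, hμ, rfl⟩ := Multiset.mem_map.mp hx
        exact hroot μ hμ)
      rwa [Multiset.card_map] at this
    _ = Module.finrank ℂ V * B := by rw [hcard, nsmul_eq_mul]

end TraceBound

section FiberRank
open scoped TensorProduct

variable {B : Type*} [CommRing B] {M : Type*} [AddCommGroup M] [Module B M]

/-- if `A ⊗ (M / span t)` vanishes then the images of `t` span `A ⊗ M`. -/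
theorem span_tmul_eq_top_of_subsingleton (A : Type*) [CommRing A] [Algebra B A] (t : Set M)
    (h : Subsingleton (A ⊗[B] (M ⧸ Submodule.span B t))) :
    Submodule.span A (TensorProduct.mk B A M 1 '' t) = ⊤ := by
  rw [← Submodule.baseChange_span, eq_top_iff]
  intro x _
  have hex := lTensor_exact A (LinearMap.exact_subtype_mkQ (Submodule.span B t))
    (Submodule.mkQ_surjective _)
  have hx : (Submodule.span B t).mkQ.lTensor A x = 0 := Subsingleton.elim _ _
  obtain ⟨z, hz⟩ := (hex x).mp hx
  exact ⟨z, hz⟩

theorem subsingleton_of_span_tmul_eq_top (A : Type*) [CommRing A] [Algebra B A] (t : Set M)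
    (h : Submodule.span A (TensorProduct.mk B A M 1 '' t) = ⊤) :
    Subsingleton (A ⊗[B] (M ⧸ Submodule.span B t)) := by
  rw [← Submodule.baseChange_span] at h
  have hex := lTensor_exact A (LinearMap.exact_subtype_mkQ (Submodule.span B t))
    (Submodule.mkQ_surjective _)
  have hsurj : Function.Surjective ((Submodule.span B t).mkQ.lTensor A) :=
    LinearMap.lTensor_surjective _ (Submodule.mkQ_surjective _)
  refine ⟨fun a b => ?_⟩
  have h0 : ∀ c : A ⊗[B] (M ⧸ Submodule.span B t), c = 0 := by
    intro c
    obtain ⟨x, rfl⟩ := hsurj c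
    have hx : x ∈ (Submodule.span B t).baseChange A := by rw [h]; trivial
    obtain ⟨z, rfl⟩ := hx
    exact (hex _).mpr ⟨z, rfl⟩
  rw [h0 a, h0 b]

/-- upper semicontinuity of the fibre dimension of a finite module -/
theorem exists_open_fiberRank_le [Module.Finite B M] (y : PrimeSpectrum B) :
    ∃ U : Set (PrimeSpectrum B), IsOpen U ∧ y ∈ U ∧ ∀ y' ∈ U,
      Module.finrank y'.asIdeal.ResidueField (y'.asIdeal.ResidueField ⊗[B] M) ≤
        Module.finrank y.asIdeal.ResidueField (y.asIdeal.ResidueField ⊗[B] M) := by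
  classical
  set κ := y.asIdeal.ResidueField
  -- a basis of κ ⊗ M consisting of pure tensors 1 ⊗ m
  let S : Set (κ ⊗[B] M) := Set.range (TensorProduct.mk B κ M 1)
  have hS : Submodule.span κ S = ⊤ := by
    have h1 := Submodule.baseChange_span (R := B) (M := M) κ (Set.univ : Set M)
    rw [Submodule.span_univ, Submodule.baseChange_top, Set.image_univ] at h1
    exact h1.symm
  obtain ⟨b, hbS, hbspan, hbli⟩ := exists_linearIndependent κ S
  rw [hS] at hbspan
  have hbfin : b.Finite := hbli.setFinite
  let bf : Finset (κ ⊗[B] M) := hbfin.toFinset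
  have hcard : bf.card = Module.finrank κ (κ ⊗[B] M) := by
    have hcoe : (bf : Set (κ ⊗[B] M)) = b := hbfin.coe_toFinset
    have hli : LinearIndepOn κ id (bf : Set (κ ⊗[B] M)) := by
      rw [hcoe]; exact hbli
    have h1 := finrank_span_finset_eq_card (R := κ) (s := bf) hli
    rw [← h1, hcoe, hbspan, finrank_top]
  -- choose preimages
  let μ : κ ⊗[B] M → M := fun v => if h : v ∈ S then h.choose else 0
  have hμ : ∀ v ∈ S, TensorProduct.mk B κ M 1 (μ v) = v := by
    intro v hv
    simp only [μ, dif_pos hv]
    exact hv.choose_spec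
  let tf : Finset M := bf.image μ
  have himg : TensorProduct.mk B κ M 1 '' (tf : Set M) = b := by
    ext v
    simp only [tf, Finset.coe_image, Set.mem_image, bf, Set.Finite.coe_toFinset]
    constructor
    · rintro ⟨m, ⟨w, hw, rfl⟩, rfl⟩
      rw [hμ w (hbS hw)]; exact hw
    · intro hv
      exact ⟨μ v, ⟨v, hv, rfl⟩, hμ v (hbS hv)⟩
  have hspan : Submodule.span κ (TensorProduct.mk B κ M 1 '' (tf : Set M)) = ⊤ := by
    rw [himg, hbspan]
  have hsub := subsingleton_of_span_tmul_eq_top κ (tf : Set M) hspan
  set Q := M ⧸ Submodule.span B (tf : Set M)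
  have hyQ : y ∉ Module.support B Q := by
    rw [Module.mem_support_iff_nontrivial_residueField_tensorProduct, not_nontrivial_iff_subsingleton]
    exact hsub
  refine ⟨(Module.support B Q)ᶜ, Module.isClosed_support.isOpen_compl, hyQ, ?_⟩
  intro y' hy'
  have hsub' : Subsingleton (y'.asIdeal.ResidueField ⊗[B] Q) := by
    rw [Set.mem_compl_iff, Module.mem_support_iff_nontrivial_residueField_tensorProduct,
      not_nontrivial_iff_subsingleton] at hy'
    exact hy'
  have hspan' := span_tmul_eq_top_of_subsingleton y'.asIdeal.ResidueField (tf : Set M) hsub'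
  rw [← hcard, ← finrank_top y'.asIdeal.ResidueField, ← hspan', ← Finset.coe_image]
  refine (finrank_span_finset_le_card _).trans ?_
  exact Finset.card_image_le.trans Finset.card_image_le

/-- rank-nullity for the base change of a map to a field -/
theorem finrank_range_baseChange_add {K K' : Type*} [AddCommGroup K] [Module B K]
    [AddCommGroup K'] [Module B K'] [Module.Finite B K'] (φ : K →ₗ[B] K')
    (κ : Type*) [Field κ] [Algebra B κ] :
    Module.finrank κ (LinearMap.range (φ.baseChange κ)) +
      Module.finrank κ (κ ⊗[B] (K' ⧸ LinearMap.range φ)) = Module.finrank κ (κ ⊗[B] K') := by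
  let ψ : κ ⊗[B] K' →ₗ[κ] κ ⊗[B] (K' ⧸ LinearMap.range φ) := (LinearMap.range φ).mkQ.baseChange κ
  have hψsurj : Function.Surjective ψ := LinearMap.lTensor_surjective _ (Submodule.mkQ_surjective _)
  have hex := lTensor_exact κ (LinearMap.exact_map_mkQ_range φ) (Submodule.mkQ_surjective _)
  have hker : LinearMap.ker ψ = LinearMap.range (φ.baseChange κ) := by
    ext x
    rw [LinearMap.mem_ker, LinearMap.mem_range]
    exact hex x
  have h1 := LinearMap.finrank_range_add_finrank_ker ψ
  rw [LinearMap.range_eq_top.mpr hψsurj, finrank_top, hker] at h1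
  rw [add_comm]; exact h1

theorem lowerSemicontinuous_finrank_range (B : Type u) [CommRing B] [IsNoetherianRing B] (K K' : Type u)
    [AddCommGroup K] [Module B K] [Module.Finite B K] [Module.Flat B K] [AddCommGroup K'] [Module B K']
    [Module.Finite B K'] [Module.Flat B K'] (φ : K →ₗ[B] K') :
    LowerSemicontinuous (fun y : PrimeSpectrum B =>
      Module.finrank y.asIdeal.ResidueField ↥(LinearMap.range (φ.baseChange y.asIdeal.ResidueField))) := by
  have hK'fp : Module.FinitePresentation B K' := Module.finitePresentation_of_finite B K'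
  intro y c hc
  beta_reduce at hc
  obtain ⟨U₁, hU₁o, hyU₁, hU₁⟩ := exists_open_fiberRank_le (M := K' ⧸ LinearMap.range φ) y
  obtain ⟨U₂, hU₂o, hyU₂, hU₂⟩ := (Module.isLocallyConstant_rankAtStalk (R := B) (M := K')).exists_open y
  refine Filter.mem_of_superset ((hU₁o.inter hU₂o).mem_nhds ⟨hyU₁, hyU₂⟩) ?_
  rintro y' ⟨hy'₁, hy'₂⟩
  have e1 := finrank_range_baseChange_add φ y.asIdeal.ResidueField
  have e2 := finrank_range_baseChange_add φ y'.asIdeal.ResidueField
  have e3 := hU₂ y' hy'₂
  rw [Module.rankAtStalk_eq, Module.rankAtStalk_eq] at e3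
  have e4 := hU₁ y' hy'₁
  simp only [Set.mem_ofPred_eq]
  change Module.finrank y'.asIdeal.ResidueField (y'.asIdeal.ResidueField ⊗[B] K') =
    Module.finrank y.asIdeal.ResidueField (y.asIdeal.ResidueField ⊗[B] K') at e3
  refine lt_of_lt_of_le hc ?_
  omega

end FiberRank

end Groth.Agent.Helper1.MiscL
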