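import Mathlib
import Groth.Prelude
import Groth.Agent.Lib.Lead.RegBlow1
import Groth.Agent.Lib.Lead.CMAt1
import Groth.Agent.Lib.Helper1.RegBlowB
import Groth.Agent.Lib.Helper6.FiltBl.FBc
import Groth.Agent.Lib.Helper8.CMOpen1
import Groth.Agent.Lib.Helper8.CplMap3
import Groth.Agent.Lib.Helper4.RegSpread2

/-!
# The blow-up of a Cohen–Macaulay scheme along a regularly immersed centre is Cohen–Macaulay
-/

set_option autoImplicit false
set_option backward.isDefEq.respectTransparency.types false
set_option synthInstance.maxHeartbeats 400000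
set_option linter.style.haveILetI false
set_option linter.unusedSectionVars false

universe u

open CategoryTheory CategoryTheory.Limits AlgebraicGeometry TopologicalSpace IsLocalRing Opposite

namespace Groth.Agent.Helper1.CMBlow

open LocCoh

section Algebra

/-- a Noetherian local ring whose quotient by a nonzerodivisor is Cohen–Macaulay is
Cohen–Macaulay -/
theorem cm_of_surjective_of_nzd {B C : Type u} [CommRing B] [IsLocalRing B] [IsNoetherianRing B]
    [CommRing C] (φ : B →+* C) (hφ : Function.Surjective φ) (t : B)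
    (ht : t ∈ nonZeroDivisors B) (hker : RingHom.ker φ = Ideal.span {t})
    (hC : IsCohenMacaulayLocalRing C) : IsCohenMacaulayLocalRing B := by
  haveI := hC
  have e : (B ⧸ RingHom.ker φ) ≃+* C := RingHom.quotientKerEquivOfSurjective hφ
  rw [hker] at e
  haveI : IsLocalRing (B ⧸ Ideal.span {t}) := e.symm.isLocalRing
  have htm : t ∈ maximalIdeal B := by
    rw [mem_maximalIdeal, mem_nonunits_iff]
    intro hu
    have h1 : Ideal.span {t} = (⊤ : Ideal B) := Ideal.span_singleton_eq_top.mpr hu
    have h2 : (1 : B ⧸ Ideal.span {t}) = 0 := by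
      rw [← map_one (Ideal.Quotient.mk (Ideal.span {t})), Ideal.Quotient.eq_zero_iff_mem, h1]
      trivial
    exact one_ne_zero h2
  have hreg : IsSMulRegular B t := by
    intro a b hab
    have hab' : t * a = t * b := hab
    have h : (a - b) * t = 0 := by
      rw [sub_mul, mul_comm a, mul_comm b, hab', sub_self]
    exact sub_eq_zero.mp ((mul_right_mem_nonZeroDivisors_eq_zero_iff ht).mp h)
  exact (Groth.Agent.Lib.Helper6.FiltBl.cm_quotient_iff B (Ideal.span {t}) t rfl htm hreg).mpr
    (Groth.Agent.Lead.CMAt.cm_of_ringEquiv e.symm hC)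

/-- the quotient of a Cohen–Macaulay local ring by a regular sequence is Cohen–Macaulay -/
theorem cm_of_surjective_of_regular {R S : Type u} [CommRing R] [CommRing S]
    [hR : IsCohenMacaulayLocalRing R] [IsLocalRing S] (φ : R →+* S)
    (hφ : Function.Surjective φ) (rs : List R) (hrs : RingTheory.Sequence.IsRegular R rs)
    (hker : RingHom.ker φ = Ideal.ofList rs) : IsCohenMacaulayLocalRing S := by
  have e : (R ⧸ RingHom.ker φ) ≃+* S := RingHom.quotientKerEquivOfSurjective hφ
  rw [hker] at e
  haveI : IsLocalRing (R ⧸ Ideal.ofList rs) := e.symm.isLocalRing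
  haveI : IsNoetherianRing (R ⧸ Ideal.ofList rs) := inferInstance
  have h1 := Groth.Agent.Lib.Helper4.RegSpread2.dim_eq_depth_quotient_of_cm R rs hrs
  have h2 : IsCohenMacaulayLocalRing (R ⧸ Ideal.ofList rs) :=
    (Groth.Agent.Lib.Helper6.FiltBl.cm_iff_dim_eq_depth _).mpr h1
  exact Groth.Agent.Lead.CMAt.cm_of_ringEquiv e h2

theorem cm_atPrime_congr {R : Type u} [CommRing R] (p p' : Ideal R) [p.IsPrime]
    [p'.IsPrime] (h : p' = p) (hr : IsCohenMacaulayLocalRing (Localization.AtPrime p)) :
    IsCohenMacaulayLocalRing (Localization.AtPrime p') := by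
  subst h
  exact hr

end Algebra

section Smooth

variable {X Y : Scheme.{u}} (f : X ⟶ Y)

/-- the Cohen–Macaulay property ascends along smooth morphisms -/
theorem cm_stalk_of_smooth [IsLocallyNoetherian Y] [Smooth f] (x : X)
    (h : IsCohenMacaulayLocalRing (Y.presheaf.stalk (f.base x))) :
    IsCohenMacaulayLocalRing (X.presheaf.stalk x) := by
  have hx' : x ∈ f.smoothLocus := by
    rw [Scheme.Hom.smoothLocus_eq_top]
    trivial
  obtain ⟨V, hV, W, hW, hWV, hxW, H⟩ := exists_smooth_of_formallySmooth_stalk f x hx'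
  algebraize [(f.appLE V W hWV).hom]
  let p := (hV.primeIdealOf ⟨f x, hWV hxW⟩).asIdeal
  let q := (hW.primeIdealOf ⟨x, hxW⟩).asIdeal
  haveI hqp : q.LiesOver p :=
    ⟨congr($(IsAffineOpen.comap_primeIdealOf_appLE V hV W hW hWV hxW).1).symm⟩
  letI := Y.presheaf.algebra_section_stalk ⟨f x, hWV hxW⟩
  haveI := hV.isLocalization_stalk ⟨f x, hWV hxW⟩
  letI := X.presheaf.algebra_section_stalk ⟨x, hxW⟩
  haveI := hW.isLocalization_stalk ⟨x, hxW⟩
  let eA : Y.presheaf.stalk (f x) ≃+* Localization.AtPrime p :=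
    (IsLocalization.algEquiv p.primeCompl (Y.presheaf.stalk (f x))
      (Localization.AtPrime p)).toRingEquiv
  let eB : X.presheaf.stalk x ≃+* Localization.AtPrime q :=
    (IsLocalization.algEquiv q.primeCompl (X.presheaf.stalk x)
      (Localization.AtPrime q)).toRingEquiv
  haveI : IsNoetherianRing Γ(Y, V) := IsLocallyNoetherian.component_noetherian ⟨V, hV⟩
  haveI : IsNoetherianRing Γ(X, W) := Algebra.FiniteType.isNoetherianRing Γ(Y, V) Γ(X, W)
  have hp : q.comap (algebraMap Γ(Y, V) Γ(X, W)) = p := (hqp.over).symm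
  have hA : IsCohenMacaulayLocalRing (Localization.AtPrime p) :=
    Groth.Agent.Lead.CMAt.cm_of_ringEquiv eA h
  have hbase : IsCohenMacaulayLocalRing
      (Localization.AtPrime (q.comap (algebraMap Γ(Y, V) Γ(X, W)))) :=
    cm_atPrime_congr p _ hp hA
  have hreg := Groth.Agent.Helper3.RegSm.isRegularHom_of_smooth Γ(Y, V) Γ(X, W)
  haveI : Module.Flat Γ(Y, V) Γ(X, W) := hreg.1
  have hB := (Groth.Agent.Helper8.CMOpen.cm_atPrime_iff_of_cm_fibres Γ(Y, V) Γ(X, W)
    (fun P _ => Groth.Agent.Helper8.CplMap.cmFibres_of_isRegularHom _ _ hreg P) q).mp hbase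
  exact Groth.Agent.Lead.CMAt.cm_of_ringEquiv eB.symm hB

end Smooth

section Main

open Scheme.IdealSheafData

theorem regularClosedImmersion_of_regularIdeal {W : Scheme.{u}} (I : W.IdealSheafData)
    (hI : RegImm.IsRegularIdeal RegImm.Kind.regular I) :
    Mor2.IsRegularClosedImmersion I.subschemeι := by
  refine ⟨inferInstance, fun z => ?_⟩
  have hz : I.subschemeι z ∈ I.support := by
    rw [← SetLike.mem_coe, ← range_subschemeι]
    exact ⟨z, rfl⟩
  obtain ⟨U, hzU, rs, hrs, hIU⟩ := hI _ hz
  refine ⟨U.1, U.2, hzU, rs, hrs, ?_⟩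
  rw [ker_subschemeι]
  exact hIU

theorem regularImmersion_of_regularIdeal {W : Scheme.{u}} (I : W.IdealSheafData)
    (hI : RegImm.IsRegularIdeal RegImm.Kind.regular I) :
    RegImm.IsRegularImmersion RegImm.Kind.regular I.subschemeι := by
  refine ⟨inferInstance, fun z => ?_⟩
  have hz : I.subschemeι z ∈ I.support := by
    rw [← SetLike.mem_coe, ← range_subschemeι]
    exact ⟨z, rfl⟩
  obtain ⟨U, hzU, rs, hrs, hIU⟩ := hI _ hz
  refine ⟨U, hzU, inferInstance, rs, hrs, ?_⟩
  rw [← hIU, ← Scheme.Hom.ker_apply, ker_subschemeι]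

/-- the closed subscheme of a regular ideal in a Cohen–Macaulay scheme is Cohen–Macaulay -/
theorem cm_stalk_subscheme_of_regularIdeal {W : Scheme.{u}} (I : W.IdealSheafData)
    (hI : RegImm.IsRegularIdeal RegImm.Kind.regular I) (v : I.subscheme)
    (hcm : IsCohenMacaulayLocalRing (W.presheaf.stalk (I.subschemeι v))) :
    IsCohenMacaulayLocalRing (I.subscheme.presheaf.stalk v) := by
  obtain ⟨rs, hrs, hker⟩ := Groth.Agent.Lib.Helper4.RegSpread2.S18944_main I.subschemeι
    (regularImmersion_of_regularIdeal I hI) v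
  haveI := hcm
  exact cm_of_surjective_of_regular (I.subschemeι.stalkMap v).hom
    (I.subschemeι.stalkMap_surjective v) rs hrs hker

theorem main (W T : Scheme.{u}) [IsLocallyNoetherian W]
    (hcm : ∀ w : W, IsCohenMacaulayLocalRing (W.presheaf.stalk w))
    (I : W.IdealSheafData) (hI : RegImm.IsRegularIdeal RegImm.Kind.regular I)
    (π : T ⟶ W) (hπ : BlowUp.IsBlowUp π I) (t : T) :
    IsCohenMacaulayLocalRing (T.presheaf.stalk t) := by
  classical
  have hft : BlowUp.IsFiniteTypeIdeal I := by
    intro U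
    haveI : IsNoetherianRing Γ(W, U.1) := IsLocallyNoetherian.component_noetherian U
    exact IsNoetherian.noetherian _
  haveI : IsProper π := Groth.Agent.Lead.Blow.isProper_of_isBlowUp I hft π hπ
  haveI : IsLocallyNoetherian T := LocallyOfFiniteType.isLocallyNoetherian π
  haveI : IsLocallyNoetherian I.subscheme :=
    LocallyOfFiniteType.isLocallyNoetherian I.subschemeι
  by_cases ht : t ∈ (BlowUp.exceptional π I).support
  · obtain ⟨e, rfl⟩ : ∃ e, (BlowUp.exceptional π I).subschemeι e = t := by
      rw [← SetLike.mem_coe, ← range_subschemeι] at ht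
      exact ht
    obtain ⟨g, hg⟩ : ∃ g : (BlowUp.exceptional π I).subscheme ⟶ I.subscheme,
        g ≫ I.subschemeι = (BlowUp.exceptional π I).subschemeι ≫ π :=
      ⟨(I.comapIso π).hom ≫ pullback.snd π I.subschemeι, by
        rw [Category.assoc, ← pullback.condition, ← Category.assoc, comapIso_hom_fst]⟩
    have hreg : Mor2.IsRegularClosedImmersion I.subschemeι :=
      regularClosedImmersion_of_regularIdeal I hI
    have sq : IsPullback (BlowUp.exceptional π I).subschemeι g π I.subschemeι :=
      isPullback_of_isClosedImmersion _ _ g π hg.symm (by rw [ker_subschemeι, ker_subschemeι])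
    haveI : Smooth g := Groth.Agent.Helper1.RegBlowB.main' I.subschemeι hreg π
      (by rw [ker_subschemeι]; exact hπ) _ g sq hg
    have hV : IsCohenMacaulayLocalRing (I.subscheme.presheaf.stalk (g e)) :=
      cm_stalk_subscheme_of_regularIdeal I hI (g e) (hcm _)
    have hE : IsCohenMacaulayLocalRing
        ((BlowUp.exceptional π I).subscheme.presheaf.stalk e) := cm_stalk_of_smooth g e hV
    have hJ : BlowUp.IsEffCartierIdeal (BlowUp.exceptional π I).subschemeι.ker := by
      rw [ker_subschemeι]
      exact hπ.1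
    obtain ⟨s, hs, hker⟩ := Groth.Agent.Lead.CartSec.exists_ker_stalkMap_eq_span
      (BlowUp.exceptional π I).subschemeι hJ e
    exact cm_of_surjective_of_nzd ((BlowUp.exceptional π I).subschemeι.stalkMap e).hom
      ((BlowUp.exceptional π I).subschemeι.stalkMap_surjective e) s hs hker hE
  · let U₀ : W.Opens := ⟨(I.support : Set W)ᶜ, I.support.isClosed.isOpen_compl⟩
    have hU₀ : I.comap U₀.ι = ⊤ :=
      Groth.Agent.Helper7.BlowProd.comap_compl_support_eq_top I U₀ (fun x hx => hx)
    haveI : IsIso (π ∣_ U₀) :=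
      Groth.Agent.Helper7.BlowProd.isIso_restrict_of_comap_eq_top I π hπ U₀ hU₀
    have ht' : t ∈ π ⁻¹ᵁ U₀ := by
      intro h
      apply ht
      rw [support_comap]
      exact h
    haveI : IsIso (π.stalkMap t) :=
      ((MorphismProperty.isomorphisms CommRingCat).arrow_mk_iso_iff
        (morphismRestrictStalkMap π U₀ ⟨t, ht'⟩)).1
        (inferInstanceAs (IsIso ((π ∣_ U₀).stalkMap ⟨t, ht'⟩)))
    exact Groth.Agent.Lead.CMAt.cm_of_ringEquiv
      (asIso (π.stalkMap t)).commRingCatIsoToRingEquiv (hcm _)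

end Main

end Groth.Agent.Helper1.CMBlow
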