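import Mathlib
import Groth.Prelude.Def_RelProj3
import Groth.Agent.Lib.Helper1.GrModQC
import Groth.Agent.Lib.Helper1.ILocM
import Groth.Agent.Lib.Helper1.PF7
import Groth.Agent.Lib.Helper1.ProjTop

set_option autoImplicit false
universe u

open CategoryTheory AlgebraicGeometry TopologicalSpace Opposite
open scoped HomogeneousIdeal

namespace Groth.Agent.Helper1.CMI

section basis
variable {A σ : Type u} [CommRing A] [SetLike σ A] [AddSubgroupClass σ A] (𝒜 : ℕ → σ) [GradedRing 𝒜]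

theorem exists_homog_pos_basic (U : Opens (ProjectiveSpectrum.top 𝒜)) (x : ProjectiveSpectrum 𝒜)
    (hx : x ∈ U) :
    ∃ (d : ℕ) (_ : 0 < d) (f : A), f ∈ 𝒜 d ∧ f ∉ x.asHomogeneousIdeal ∧
      (ProjectiveSpectrum.basicOpen 𝒜 f : Opens (ProjectiveSpectrum.top 𝒜)) ≤ U := by
  classical
  obtain ⟨_, ⟨r, rfl⟩, hxr, hrU⟩ :=
    (ProjectiveSpectrum.isTopologicalBasis_basic_opens 𝒜).exists_subset_of_mem_open hx U.isOpen
  obtain ⟨i, hi⟩ : ∃ i : ℕ, (DirectSum.decompose 𝒜 r i : A) ∉ x.asHomogeneousIdeal := by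
    by_contra hcon
    push Not at hcon
    apply hxr
    show r ∈ x.asHomogeneousIdeal
    rw [← DirectSum.sum_support_decompose 𝒜 r]
    exact Ideal.sum_mem _ fun i _ => hcon i
  obtain ⟨e, he, c, hc, hcx⟩ := ProjTop.exists_homogeneous_notMem 𝒜 x
  refine ⟨i + e, by omega, (DirectSum.decompose 𝒜 r i : A) * c,
    SetLike.mul_mem_graded (SetLike.coe_mem _) hc, ?_, ?_⟩
  · intro h
    rcases x.isPrime.mem_or_mem h with h | h
    · exact hi h
    · exact hcx h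
  · intro y hy
    apply hrU
    show r ∉ y.asHomogeneousIdeal
    intro hr
    have hy' : (DirectSum.decompose 𝒜 r i : A) * c ∉ y.asHomogeneousIdeal :=
      (ProjectiveSpectrum.mem_basicOpen 𝒜 _ y).1 hy
    exact hy' (Ideal.mul_mem_right _ _ (y.asHomogeneousIdeal.2 i hr))

end basis


section main
variable {A σ : Type u} [CommRing A] [SetLike σ A] [AddSubgroupClass σ A] {𝒜 : ℕ → σ} [GradedRing 𝒜]
variable {B σ' : Type u} [CommRing B] [SetLike σ' B] [AddSubgroupClass σ' B] {ℬ : ℕ → σ'} [GradedRing ℬ]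
variable (ψ : 𝒜 →+*ᵍ ℬ) (hψ : ℬ₊ ≤ (𝒜₊).map ψ)
variable {M τ : Type u} [AddCommGroup M] [Module A M] [SetLike τ M] [AddSubgroupClass τ M] (ℳ : ℕ → τ)
  [SetLike.GradedSMul 𝒜 ℳ] [DirectSum.Decomposition ℳ]
variable {N τ' : Type u} [AddCommGroup N] [Module B N] [SetLike τ' N] [AddSubgroupClass τ' N] (𝒩 : ℕ → τ')
  [SetLike.GradedSMul ℬ 𝒩] [DirectSum.Decomposition 𝒩]
variable (v : M →ₛₗ[ψ.toRingHom] N) (hv : ∀ (i : ℕ) (m : M), m ∈ ℳ i → v m ∈ 𝒩 i)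

include hv in
/-- a bijective degree-preserving map reflects degrees -/
theorem mem_of_map_mem (hinj : Function.Injective v) {i : ℕ} {m : M} (h : v m ∈ 𝒩 i) : m ∈ ℳ i := by
  classical
  have h1 : v (DirectSum.decompose ℳ m i : M) = v m := by
    rw [ILocM.map_decompose hv, DirectSum.decompose_of_mem_same 𝒩 h]
  rw [← hinj h1]
  exact SetLike.coe_mem _

theorem preimage_basicOpen (f : A) :
    (Proj.map ψ hψ ⁻¹ᵁ (ProjectiveSpectrum.basicOpen 𝒜 f : (Proj 𝒜).Opens) : (Proj ℬ).Opens) =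
      (ProjectiveSpectrum.basicOpen ℬ (ψ f) : (Proj ℬ).Opens) := by
  ext y
  rfl


include hv in
theorem isIso_comap (hbij : Function.Bijective v) (n : ℤ) :
    IsIso (GrMod.comap (ℳ := ℳ) (𝒩 := 𝒩) ψ hψ v hv n) := by
  classical
  refine Groth.Agent.Helper1.PF7.isIso_of_locally _ ?_ ?_
  · intro U t ht x hx
    obtain ⟨d, hd, f, hf, hfx, hfU⟩ := exists_homog_pos_basic 𝒜 U x hx
    refine ⟨(ProjectiveSpectrum.basicOpen 𝒜 f : Opens (ProjectiveSpectrum.top 𝒜)), hfU, hfx, ?_⟩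
    obtain ⟨k, i, m, hi, hm⟩ := Groth.Agent.Helper1.GrModQC.main' 𝒜 ℳ n _ hd hf rfl
      ((GrMod.tilde 𝒜 ℳ n).presheaf.map (homOfLE hfU).op t)
    have hz : ∃ K : ℕ, (ψ f) ^ K • v m.1 = 0 := by
      refine Groth.Agent.Helper1.GrModQC.vanish' ℬ 𝒩
        (ProjectiveSpectrum.basicOpen ℬ (ψ f) : Opens (ProjectiveSpectrum.top ℬ)) hd (ψ.map_mem hf) rfl
        k i ⟨v m.1, hv i _ m.2⟩ ?_
      intro y hy hgy
      have hyU : y ∈ (Proj.map ψ hψ ⁻¹ᵁ U : (Proj ℬ).Opens) := hfU hy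
      have h1 := GrMod.comap_app_val ψ hψ v hv n U t ⟨y, hyU⟩
      rw [ht] at h1
      have h2 := hm (ProjectiveSpectrum.comap ψ hψ y) hy hy
      have h3 : GrMod.val t ⟨ProjectiveSpectrum.comap ψ hψ y, hyU⟩ =
          (LocalizedModule.mk m.1 ⟨f ^ k, fun h => hy (y.isPrime.mem_of_pow_mem k (by
            have : ψ (f ^ k) ∈ y.asHomogeneousIdeal := h
            rwa [map_pow] at this))⟩ :
            GrMod.LocMod 𝒜 (M := M) (ProjectiveSpectrum.comap ψ hψ y)) := h2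
      rw [h3, GrMod.locModMap_mk] at h1
      have h0 : GrMod.val (0 : Γ(GrMod.tilde ℬ 𝒩 n, (Proj.map ψ hψ ⁻¹ᵁ U : (Proj ℬ).Opens))) ⟨y, hyU⟩ = 0 := rfl
      have h4 := h0.symm.trans h1
      refine Eq.trans ?_ h4.symm
      congr 1
      exact Subtype.ext (map_pow ψ f k).symm
    obtain ⟨K, hK⟩ := hz
    have hK' : f ^ K • m.1 = 0 := by
      apply hbij.1
      rw [map_zero, LinearMap.map_smulₛₗ, ← hK]
      simp
    refine Subtype.ext (funext fun y => Subtype.ext ?_)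
    have hy' : f ∉ y.1.asHomogeneousIdeal := y.2
    refine (hm y.1 y.2 hy').trans ?_
    refine (ILocM.mk_eq_zero_iff (𝒜 := 𝒜) y.1 m.1 _).2
      ⟨⟨f ^ K, fun h => hy' (y.1.isPrime.mem_of_pow_mem K h)⟩, hK'⟩
  · intro U s x hx
    obtain ⟨d, hd, f, hf, hfx, hfU⟩ := exists_homog_pos_basic 𝒜 U x hx
    refine ⟨(ProjectiveSpectrum.basicOpen 𝒜 f : Opens (ProjectiveSpectrum.top 𝒜)), hfU, hfx, ?_⟩
    obtain ⟨k, i, b, hi, hb⟩ := Groth.Agent.Helper1.GrModQC.main' ℬ 𝒩 n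
      (Proj.map ψ hψ ⁻¹ᵁ (ProjectiveSpectrum.basicOpen 𝒜 f : (Proj 𝒜).Opens) : (Proj ℬ).Opens)
      hd (ψ.map_mem hf) (preimage_basicOpen ψ hψ f)
      (((Scheme.Modules.pushforward (Proj.map ψ hψ)).obj (GrMod.tilde ℬ 𝒩 n)).presheaf.map
        (homOfLE hfU).op s)
    obtain ⟨m, hm⟩ := hbij.2 b.1
    have hmi : m ∈ ℳ i := mem_of_map_mem ψ ℳ 𝒩 v hv hbij.1 (hm ▸ b.2)
    have hfk : f ^ k ∈ 𝒜 (k • d) := SetLike.pow_mem_graded k hf
    refine ⟨Groth.Agent.Helper1.GrModQC.fracS 𝒜 ℳ n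
      (ProjectiveSpectrum.basicOpen 𝒜 f : Opens (ProjectiveSpectrum.top 𝒜)) ⟨m, hmi⟩ ⟨f ^ k, hfk⟩
      (by rw [hi]; simp) (fun y h => y.2 (y.1.isPrime.mem_of_pow_mem k h)), ?_⟩
    refine Subtype.ext (funext fun y => Subtype.ext ?_)
    have hy' : ψ f ∉ y.1.asHomogeneousIdeal := y.2
    refine Eq.trans ?_ (hb y.1 y.2 hy').symm
    refine (GrMod.comap_app_val ψ hψ v hv n _ _ y).trans ?_
    refine (congrArg (GrMod.locModMap ψ hψ v y.1) (Groth.Agent.Helper1.GrModQC.fracS_val 𝒜 ℳ n _ _ _ _ _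
      ⟨ProjectiveSpectrum.comap ψ hψ y.1, y.2⟩)).trans ?_
    rw [GrMod.locModMap_mk, hm]
    congr 1
    exact Subtype.ext (map_pow ψ f k)

end main

end Groth.Agent.Helper1.CMI
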