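import Mathlib
import Groth.Agent.Lib.Helper1.VT13
import Groth.Agent.Lib.Helper1.ProjF1
import Groth.Agent.Lib.Helper1.CurveDual2
import Groth.Agent.Lib.Helper1.AffExt
import Groth.Agent.Lib.Helper1.TwistAmple
import Groth.Agent.Lib.Helper1.TwistSec
import Groth.Agent.Lib.Helper4.ClSubMV
import Groth.Agent.Lib.Lead.IdM2

/-!
# `O/I ⊗ O/J ≅ O/(I + J)` for ideal sheaves (helper1)
-/

set_option autoImplicit false
set_option backward.isDefEq.respectTransparency.types false
universe u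
open CategoryTheory CategoryTheory.Limits AlgebraicGeometry TopologicalSpace Opposite

namespace Groth.Agent.Helper1.CMInt

open Groth.Agent.Helper1.QcCech Groth.Agent.Helper1 Groth.Agent.Helper1.TmulLib
open Groth.Agent.Helper1.TensLib Groth.Agent.Helper1.TwistSec Groth.Agent.Helper1.VT

variable {X : Scheme.{u}}

section Mul

variable (K : X.IdealSheafData) {M N : X.Modules} (φ : M ⟶ ClSub.quotMod K)
  (ψ : N ⟶ ClSub.quotMod K)

/-- the ring of sections of `O_X / K` -/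
abbrev QR (U : X.Opens) : Type u := Γ(K.subscheme, K.subschemeι ⁻¹ᵁ U)

/-- value of a module map into `O/K`, as a ring element -/
noncomputable def val (U : X.Opens) (m : Γ(M, U)) : QR K U := φ.app U m

theorem val_add (U : X.Opens) (m m' : Γ(M, U)) :
    val K φ U (m + m') = val K φ U m + val K φ U m' :=
  map_add (φ.app U).hom m m'

theorem val_smul (U : X.Opens) (r : Γ(X, U)) (m : Γ(M, U)) :
    val K φ U (r • m) = (K.subschemeι.app U).hom r * val K φ U m := by
  unfold val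
  rw [Scheme.Modules.Hom.app_smul]
  rfl

theorem val_res {U V : X.Opens} (h : V ≤ U) (m : Γ(M, U)) :
    val K φ V (res M h m) =
      (K.subscheme.presheaf.map (homOfLE (K.subschemeι.preimage_mono h)).op).hom
        (val K φ U m) :=
  QcExt.app_res φ h m

/-- the pairing `m, n ↦ φ m * ψ n` with values in `O/K` -/
noncomputable def mulQ : Pairing M N (ClSub.quotMod K) where
  β U m n := (show (CohB1.toPMod (ClSub.quotMod K)).obj U from
    (val K φ U.unop m * val K ψ U.unop n : QR K U.unop))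
  add_left U m₁ m₂ n := by
    have h := val_add K φ U.unop m₁ m₂
    change (val K φ U.unop (m₁ + m₂) * val K ψ U.unop n : QR K U.unop) =
      val K φ U.unop m₁ * val K ψ U.unop n + val K φ U.unop m₂ * val K ψ U.unop n
    rw [← add_mul]
    exact congrArg (· * val K ψ U.unop n) h
  smul_left U a m n := by
    have h := val_smul K φ U.unop a m
    change (val K φ U.unop (a • m) * val K ψ U.unop n : QR K U.unop) =
      (K.subschemeι.app U.unop).hom a * (val K φ U.unop m * val K ψ U.unop n)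
    rw [← mul_assoc]
    exact congrArg (· * val K ψ U.unop n) h
  add_right U m n₁ n₂ := by
    have h := val_add K ψ U.unop n₁ n₂
    change (val K φ U.unop m * val K ψ U.unop (n₁ + n₂) : QR K U.unop) =
      val K φ U.unop m * val K ψ U.unop n₁ + val K φ U.unop m * val K ψ U.unop n₂
    rw [← mul_add]
    exact congrArg (val K φ U.unop m * ·) h
  smul_right U a m n := by
    have h := val_smul K ψ U.unop a n
    change (val K φ U.unop m * val K ψ U.unop (a • n) : QR K U.unop) =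
      (K.subschemeι.app U.unop).hom a * (val K φ U.unop m * val K ψ U.unop n)
    rw [mul_left_comm]
    exact congrArg (val K φ U.unop m * ·) h
  nat {U V} f m n := by
    have hle : V.unop ≤ U.unop := f.unop.le
    change (K.subscheme.presheaf.map (homOfLE (K.subschemeι.preimage_mono hle)).op).hom
        (val K φ U.unop m * val K ψ U.unop n) =
      val K φ V.unop (res M hle m) * val K ψ V.unop (res N hle n)
    rw [map_mul, val_res, val_res]

theorem mulHom_tm (U : X.Opens) (m : Γ(M, U)) (n : Γ(N, U)) :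
    val K (pairingHom (mulQ K φ ψ)) U (tm M N U m n) = val K φ U m * val K ψ U n :=
  pairingHom_tm (mulQ K φ ψ) U m n

end Mul

section Iso

theorem ker_le {K K' : X.IdealSheafData} (h : K ≤ K') :
    kernel.ι (ClSub.toSubscheme K) ≫ ClSub.toSubscheme K' = 0 := by
  apply AffExt.hom_ext_affine
  intro U hU a
  have h0 : ((0 : kernel (ClSub.toSubscheme K) ⟶ ClSub.quotMod K').app U) a = 0 := rfl
  rw [h0]
  change (ClSub.toSubscheme K').app U ((ClSub.idealModι K).app U a) = 0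
  rw [Groth.Agent.Lib.Helper4.ClSubMV.toSubscheme_app_eq_zero_iff K' U hU]
  apply Scheme.IdealSheafData.le_def.1 h ⟨U, hU⟩
  rw [← Groth.Agent.Lead.IdM.range_ιL K ⟨U, hU⟩]
  exact ⟨a, rfl⟩

variable (I J : X.IdealSheafData)

/-- `O/I → O/(I + J)` -/
noncomputable def piL : ClSub.quotMod I ⟶ ClSub.quotMod (I ⊔ J) :=
  haveI := CurveDual.epi_toSubscheme I
  Abelian.epiDesc (ClSub.toSubscheme I) (ClSub.toSubscheme (I ⊔ J)) (ker_le le_sup_left)

theorem toSubscheme_piL : ClSub.toSubscheme I ≫ piL I J = ClSub.toSubscheme (I ⊔ J) := by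
  haveI := CurveDual.epi_toSubscheme I
  unfold piL
  exact Abelian.comp_epiDesc _ _ _

theorem piL_app (U : X.Opens) (r : Γ(X, U)) :
    (piL I J).app U ((ClSub.toSubscheme I).app U r) = (ClSub.toSubscheme (I ⊔ J)).app U r :=
  congrArg (fun φ : Coh.structureModule X ⟶ ClSub.quotMod (I ⊔ J) =>
    Scheme.Modules.Hom.app φ U r) (toSubscheme_piL I J)

/-- `O/J → O/(I + J)` -/
noncomputable def piR : ClSub.quotMod J ⟶ ClSub.quotMod (I ⊔ J) :=
  haveI := CurveDual.epi_toSubscheme J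
  Abelian.epiDesc (ClSub.toSubscheme J) (ClSub.toSubscheme (I ⊔ J)) (ker_le le_sup_right)

theorem toSubscheme_piR : ClSub.toSubscheme J ≫ piR I J = ClSub.toSubscheme (I ⊔ J) := by
  haveI := CurveDual.epi_toSubscheme J
  unfold piR
  exact Abelian.comp_epiDesc _ _ _

theorem piR_app (U : X.Opens) (r : Γ(X, U)) :
    (piR I J).app U ((ClSub.toSubscheme J).app U r) = (ClSub.toSubscheme (I ⊔ J)).app U r :=
  congrArg (fun φ : Coh.structureModule X ⟶ ClSub.quotMod (I ⊔ J) =>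
    Scheme.Modules.Hom.app φ U r) (toSubscheme_piR I J)

/-- the multiplication map `O/I ⊗ O/J → O/(I + J)` -/
noncomputable def uHom :
    CohB1.tensorMod (ClSub.quotMod I) (ClSub.quotMod J) ⟶ ClSub.quotMod (I ⊔ J) :=
  pairingHom (mulQ (I ⊔ J) (piL I J) (piR I J))

theorem toSub_smul_one (K : X.IdealSheafData) (U : X.Opens) (r : Γ(X, U)) :
    r • (ClSub.toSubscheme K).app U (1 : Γ(X, U)) = (ClSub.toSubscheme K).app U r := by
  rw [← Scheme.Modules.Hom.app_smul]
  congr 1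
  exact mul_one r

theorem tm_q (U : X.Opens) (a b : Γ(X, U)) :
    tm (ClSub.quotMod I) (ClSub.quotMod J) U ((ClSub.toSubscheme I).app U a)
        ((ClSub.toSubscheme J).app U b) =
      tm (ClSub.quotMod I) (ClSub.quotMod J) U ((ClSub.toSubscheme I).app U (b * a))
        ((ClSub.toSubscheme J).app U (1 : Γ(X, U))) := by
  rw [← toSub_smul_one J U b, tm_smul_right, ← tm_smul_left, ← Scheme.Modules.Hom.app_smul]
  rfl

/-- the section `1 ⊗ 1` -/
noncomputable def oneT : Γ(CohB1.tensorMod (ClSub.quotMod I) (ClSub.quotMod J), ⊤) :=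
  tm (ClSub.quotMod I) (ClSub.quotMod J) ⊤ ((ClSub.toSubscheme I).app ⊤ (1 : Γ(X, ⊤)))
    ((ClSub.toSubscheme J).app ⊤ (1 : Γ(X, ⊤)))

/-- `O → O/I ⊗ O/J`, `r ↦ r ⊗ 1` -/
noncomputable def p₁ :
    Coh.structureModule X ⟶ CohB1.tensorMod (ClSub.quotMod I) (ClSub.quotMod J) :=
  TwistAmple.homOfSec _ (oneT I J)

theorem toSub_res_one (K : X.IdealSheafData) {U V : X.Opens} (h : V ≤ U) :
    res (ClSub.quotMod K) h ((ClSub.toSubscheme K).app U (1 : Γ(X, U))) =
      (ClSub.toSubscheme K).app V (1 : Γ(X, V)) := by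
  rw [← QcExt.app_res]
  congr 1
  exact map_one (X.presheaf.map (homOfLE h).op).hom

theorem p₁_app (U : X.Opens) (r : Γ(X, U)) :
    (p₁ I J).app U r = tm (ClSub.quotMod I) (ClSub.quotMod J) U
      ((ClSub.toSubscheme I).app U r) ((ClSub.toSubscheme J).app U (1 : Γ(X, U))) := by
  unfold p₁ oneT
  rw [TwistAmple.homOfSec_app]
  change r • res _ (le_top : U ≤ ⊤) (tm _ _ ⊤ _ _) = _
  rw [res_tm, toSub_res_one, toSub_res_one, ← tm_smul_left, toSub_smul_one]

theorem ker_p₁ : kernel.ι (ClSub.toSubscheme (I ⊔ J)) ≫ p₁ I J = 0 := by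
  apply AffExt.hom_ext_affine
  intro U hU a
  have h0 : ((0 : kernel (ClSub.toSubscheme (I ⊔ J)) ⟶
      CohB1.tensorMod (ClSub.quotMod I) (ClSub.quotMod J)).app U) a = 0 := rfl
  rw [h0]
  change (p₁ I J).app U ((ClSub.idealModι (I ⊔ J)).app U a) = 0
  have hs : Groth.Agent.Lead.IdM.ιL (I ⊔ J) U a ∈ (I ⊔ J).ideal ⟨U, hU⟩ := by
    rw [← Groth.Agent.Lead.IdM.range_ιL (I ⊔ J) ⟨U, hU⟩]
    exact ⟨a, rfl⟩
  change Groth.Agent.Lead.IdM.ιL (I ⊔ J) U a ∈ I.ideal ⟨U, hU⟩ ⊔ J.ideal ⟨U, hU⟩ at hs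
  obtain ⟨s₁, hs₁, s₂, hs₂, hsum⟩ := Submodule.mem_sup.1 hs
  have e : (ClSub.idealModι (I ⊔ J)).app U a = (s₁ + s₂ : Γ(X, U)) := hsum.symm
  have h1 : (ClSub.toSubscheme I).app U s₁ = 0 :=
    (Groth.Agent.Lib.Helper4.ClSubMV.toSubscheme_app_eq_zero_iff I U hU s₁).2 hs₁
  have h2 : (ClSub.toSubscheme J).app U s₂ = 0 :=
    (Groth.Agent.Lib.Helper4.ClSubMV.toSubscheme_app_eq_zero_iff J U hU s₂).2 hs₂
  have h3 : (ClSub.toSubscheme I).app U (s₁ + s₂ : Γ(X, U)) =
      (ClSub.toSubscheme I).app U s₁ + (ClSub.toSubscheme I).app U s₂ :=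
    map_add ((ClSub.toSubscheme I).app U).hom s₁ s₂
  rw [e, p₁_app, h3, h1, zero_add]
  have h4 := tm_q I J U (1 : Γ(X, U)) s₂
  rw [mul_one] at h4
  rw [← h4, h2, tm_zero_right]

/-- `O/(I + J) → O/I ⊗ O/J` -/
noncomputable def vHom :
    ClSub.quotMod (I ⊔ J) ⟶ CohB1.tensorMod (ClSub.quotMod I) (ClSub.quotMod J) :=
  haveI := CurveDual.epi_toSubscheme (I ⊔ J)
  Abelian.epiDesc (ClSub.toSubscheme (I ⊔ J)) (p₁ I J) (ker_p₁ I J)

theorem toSubscheme_vHom : ClSub.toSubscheme (I ⊔ J) ≫ vHom I J = p₁ I J := by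
  haveI := CurveDual.epi_toSubscheme (I ⊔ J)
  unfold vHom
  exact Abelian.comp_epiDesc _ _ _

theorem vHom_app (U : X.Opens) (r : Γ(X, U)) :
    (vHom I J).app U ((ClSub.toSubscheme (I ⊔ J)).app U r) = (p₁ I J).app U r :=
  congrArg (fun φ : Coh.structureModule X ⟶
      CohB1.tensorMod (ClSub.quotMod I) (ClSub.quotMod J) =>
    Scheme.Modules.Hom.app φ U r) (toSubscheme_vHom I J)

theorem uHom_p₁_app (U : X.Opens) (r : Γ(X, U)) :
    (uHom I J).app U ((p₁ I J).app U r) = (ClSub.toSubscheme (I ⊔ J)).app U r := by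
  rw [p₁_app]
  have h := mulHom_tm (I ⊔ J) (piL I J) (piR I J) U ((ClSub.toSubscheme I).app U r)
    ((ClSub.toSubscheme J).app U (1 : Γ(X, U)))
  unfold val at h
  rw [piL_app, piR_app] at h
  refine h.trans ?_
  change ((I ⊔ J).subschemeι.app U).hom r * ((I ⊔ J).subschemeι.app U).hom 1 =
    ((I ⊔ J).subschemeι.app U).hom r
  rw [map_one, mul_one]

theorem p₁_uHom : p₁ I J ≫ uHom I J = ClSub.toSubscheme (I ⊔ J) := by
  apply AffExt.hom_ext_affine
  intro U _ r
  exact uHom_p₁_app I J U r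

theorem vHom_uHom : vHom I J ≫ uHom I J = 𝟙 _ := by
  haveI := CurveDual.epi_toSubscheme (I ⊔ J)
  rw [← cancel_epi (ClSub.toSubscheme (I ⊔ J)), ← Category.assoc, toSubscheme_vHom, p₁_uHom,
    Category.comp_id]

theorem uHom_vHom : uHom I J ≫ vHom I J = 𝟙 _ := by
  apply Groth.Agent.Helper1.ProjF.hom_ext_tm
  intro U m n
  change (vHom I J).app U ((uHom I J).app U (tm _ _ U m n)) = tm _ _ U m n
  apply eq_of_locally
  intro x hx
  obtain ⟨_, ⟨W, hW, rfl⟩, hxW, hWU⟩ :=
    X.isBasis_affineOpens.exists_subset_of_mem_open hx U.isOpen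
  refine ⟨W, hWU, hxW, ?_⟩
  rw [← QcExt.app_res, ← QcExt.app_res, res_tm]
  obtain ⟨a, ha⟩ := I.subschemeι_app_surjective ⟨W, hW⟩ (res (ClSub.quotMod I) hWU m)
  obtain ⟨b, hb⟩ := J.subschemeι_app_surjective ⟨W, hW⟩ (res (ClSub.quotMod J) hWU n)
  have ha' : (ClSub.toSubscheme I).app W a = res (ClSub.quotMod I) hWU m := ha
  have hb' : (ClSub.toSubscheme J).app W b = res (ClSub.quotMod J) hWU n := hb
  rw [← ha', ← hb', tm_q, ← p₁_app, uHom_p₁_app, vHom_app]

/-- **`O/I ⊗ O/J ≅ O/(I + J)`** -/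
noncomputable def tensorQuotIso :
    CohB1.tensorMod (ClSub.quotMod I) (ClSub.quotMod J) ≅ ClSub.quotMod (I ⊔ J) :=
  ⟨uHom I J, vHom I J, uHom_vHom I J, vHom_uHom I J⟩

end Iso

end Groth.Agent.Helper1.CMInt
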