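import Mathlib
import Groth.Agent.Lib.Helper1.CurvePt1

/-!
# Global sections of an invertible module of large degree on a proper integral curve surject onto
the sections over finite subschemes of small length (helper1)
-/

set_option autoImplicit false
universe u
open CategoryTheory CategoryTheory.Limits AlgebraicGeometry TopologicalSpace Opposite

namespace Groth.Agent.Helper1.VAc

open Groth.Agent.Helper1.QcCech Groth.Agent.Helper1.SubSh Groth.Agent.Helper1.LGen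
open Groth.Agent.Helper1.TmulLib Groth.Agent.Helper1 Groth.Agent.Helper1.TwForm
open Groth.Agent.Helper1.TensGen Groth.Agent.Lib.Helper4.TwExact Groth.Agent.Helper1.Dv
open Groth.Agent.Lib.Helper4 Groth.Agent.Helper1.CurveAmp Groth.Agent.Helper1.FinSupp
open Groth.Agent.Helper1.Euler Groth.Agent.Helper1.Curve Groth.Agent.Helper1.CurveLin
open Groth.Agent.Helper1.CurveDual

section Local

variable {X : Scheme.{u}} {L : X.Modules}

/-- a function in the ideal comes from the ideal module -/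
theorem exists_idealMod_section (Z : X.IdealSheafData) {W : X.Opens} (hW : IsAffineOpen W)
    (r : Γ(X, W)) (hr : r ∈ Z.ideal ⟨W, hW⟩) :
    ∃ y : Γ(ClSub.idealMod Z, W),
      (ClSub.idealModι Z).app W y = (show Γ(Coh.structureModule X, W) from r) := by
  have h3 : r ∈ LinearMap.range (Groth.Agent.Lead.IdM.ιL Z W) := by
    rw [Groth.Agent.Lead.IdM.range_ιL Z ⟨W, hW⟩]
    exact hr
  obtain ⟨y, hy⟩ := h3
  exact ⟨y, hy⟩

/-- the ideal of `Z` kills the sections of `O_Z` over an affine open -/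
theorem smul_quotMod_eq_zero (Z : X.IdealSheafData) {W : X.Opens} (hW : IsAffineOpen W)
    (r : Γ(X, W)) (hr : r ∈ Z.ideal ⟨W, hW⟩) (m : Γ(ClSub.quotMod Z, W)) : r • m = 0 := by
  obtain ⟨r', hr'⟩ := Groth.Agent.Helper3.FlatFLF.quotLin_surjective Z ⟨W, hW⟩ m
  have hr'' : (ClSub.toSubscheme Z).app W (show Γ(Coh.structureModule X, W) from r') = m := hr'
  have hmul : r * r' ∈ Z.ideal ⟨W, hW⟩ := Ideal.mul_mem_right _ _ hr
  obtain ⟨y, hy⟩ := exists_idealMod_section Z hW (r * r') hmul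
  have h1 : r • m = (ClSub.toSubscheme Z).app W
      (r • (show Γ(Coh.structureModule X, W) from r')) := by
    rw [Scheme.Modules.Hom.app_smul, hr'']
  have h2 : (r • (show Γ(Coh.structureModule X, W) from r')) =
      (ClSub.idealModι Z).app W y := hy.symm
  rw [h1, h2]
  have hzero : ClSub.idealModι Z ≫ ClSub.toSubscheme Z = 0 := kernel.condition _
  have h5 := congrArg (fun ψ => (Scheme.Modules.Hom.app ψ W) y) hzero
  exact h5

/-- the ideal of `Z` kills the sections of `O_Z ⊗ L` over an affine open trivializing `L` -/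
theorem smul_tensor_quotMod_eq_zero (Z : X.IdealSheafData) {W : X.Opens} (hW : IsAffineOpen W)
    (a : Γ(L, W)) (ha : IsGen L W a)
    (r : Γ(X, W)) (hr : r ∈ Z.ideal ⟨W, hW⟩) (t : Γ(CohB1.tensorMod (ClSub.quotMod Z) L, W)) :
    r • t = 0 := by
  obtain ⟨m, rfl⟩ := (bijective_tm_of_isGen (ClSub.quotMod Z) ha).2 t
  show r • tm (ClSub.quotMod Z) L W m a = 0
  rw [← tm_smul_left, smul_quotMod_eq_zero Z hW r hr m]
  exact tm_zero_left _ _ _ _

/-- a global section of `M ≅ O ⊗ L` whose coefficient on an affine open containing the support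
of `Z` lies in the ideal of `Z` maps to zero in `O_Z ⊗ L` -/
theorem image_eq_zero_of_mem_ideal (hL : PicF.IsInvertible L) (Z : X.IdealSheafData)
    {W : X.Opens} (hW : IsAffineOpen W) (hZW : (Z.support : Set X) ⊆ (W : Set X))
    (a : Γ(L, W)) (ha : IsGen L W a) {M : X.Modules}
    (φ : M ⟶ CohB1.tensorMod (ClSub.quotMod Z) L)
    (s' : Γ(M, ⊤)) (r : Γ(X, W)) (b' : Γ(M, W))
    (hr : r • b' = res M (le_top : W ≤ ⊤) s')
    (hrZ : r ∈ Z.ideal ⟨W, hW⟩) :
    φ.app ⊤ s' = 0 := by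
  have h2 : res (CohB1.tensorMod (ClSub.quotMod Z) L) (le_top : W ≤ ⊤) (φ.app ⊤ s') = 0 := by
    have h3 := QcExt.app_res φ (le_top : W ≤ ⊤) s'
    refine h3.symm.trans ?_
    rw [← hr, Scheme.Modules.Hom.app_smul]
    exact smul_tensor_quotMod_eq_zero Z hW a ha r hrZ _
  apply TwistSec.eq_of_locally
  intro x _
  by_cases hx : x ∈ W
  · exact ⟨W, le_top, hx, h2.trans (map_zero _).symm⟩
  · have hxZ : x ∉ (Z.support : Set X) := fun h => hx (hZW h)
    obtain ⟨W₁, a₁, hxW₁, ha₁⟩ := exists_isGen hL x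
    let V : X.Opens := W₁ ⊓ ⟨(Z.support : Set X)ᶜ, Z.support.isClosed.isOpen_compl⟩
    have hxV : x ∈ V := ⟨hxW₁, hxZ⟩
    have hVW₁ : V ≤ W₁ := inf_le_left
    have hsub := subsingleton_sections_tensor_quotMod Z V (by
      intro z hz hzs
      exact hz.2 hzs) (res L hVW₁ a₁) (ha₁.res hVW₁)
    exact ⟨V, le_top, hxV, @Subsingleton.elim _ hsub _ _⟩

/-- the coefficient of a section with respect to a generator -/
noncomputable def coefOf {W : X.Opens} {a : Γ(L, W)} (ha : IsGen L W a) (t : Γ(L, W)) : Γ(X, W) :=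
  Classical.choose (ha.exists_coeff t)

theorem coefOf_spec {W : X.Opens} {a : Γ(L, W)} (ha : IsGen L W a) (t : Γ(L, W)) :
    coefOf ha t • a = t := Classical.choose_spec (ha.exists_coeff t)

theorem coefOf_unique {W : X.Opens} {a : Γ(L, W)} (ha : IsGen L W a) (t : Γ(L, W)) (r : Γ(X, W))
    (h : r • a = t) : coefOf ha t = r := by
  apply (IsGen.bijective_self ha).1
  show coefOf ha t • a = r • a
  rw [coefOf_spec, h]

theorem coefOf_add {W : X.Opens} {a : Γ(L, W)} (ha : IsGen L W a) (t t' : Γ(L, W)) :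
    coefOf ha (t + t') = coefOf ha t + coefOf ha t' := by
  apply coefOf_unique
  rw [add_smul, coefOf_spec, coefOf_spec]

theorem coefOf_smul {W : X.Opens} {a : Γ(L, W)} (ha : IsGen L W a) (g : Γ(X, W)) (t : Γ(L, W)) :
    coefOf ha (g • t) = g * coefOf ha t := by
  apply coefOf_unique
  rw [mul_smul, coefOf_spec]

end Local

section Dim

variable {X : Scheme.{u}}

/-- a finite nonempty set of closed points has dimension zero -/
theorem dim_le_zero_of_finite_closed (S : Set X) (hSfin : S.Finite) (hSne : S.Nonempty)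
    (hScl : ∀ x ∈ S, IsClosed ({x} : Set X)) : topologicalKrullDim ↥S ≤ 0 := by
  haveI : Finite ↥S := hSfin.to_subtype
  haveI : Nonempty ↥S := hSne.to_subtype
  haveI : T1Space ↥S := ⟨fun x => by
    have h := (hScl x.1 x.2).preimage (continuous_subtype_val (p := fun y => y ∈ S))
    convert h using 1
    ext y
    simp [Subtype.ext_iff]⟩
  haveI : DiscreteTopology ↥S := inferInstance
  exact topologicalKrullDim_zero_of_discreteTopology ↥S

theorem isClosed_of_finite_closed (S : Set X) (hSfin : S.Finite)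
    (hScl : ∀ x ∈ S, IsClosed ({x} : Set X)) : IsClosed S := by
  have h := hSfin.isClosed_biUnion (fun x hx => hScl x hx)
  rwa [Set.biUnion_of_singleton] at h

end Dim

section Construct

variable {X : Scheme.{u}} {W : X.Opens} (hW : IsAffineOpen W) (𝔞 : Ideal Γ(X, W))

/-- the finite subscheme `Spec (Γ(X, W) / 𝔞)` mapping to `X` -/
noncomputable def iMap : Spec (CommRingCat.of (Γ(X, W) ⧸ 𝔞)) ⟶ X :=
  Spec.map (CommRingCat.ofHom (Ideal.Quotient.mk 𝔞)) ≫ hW.fromSpec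

/-- the ideal sheaf of the image of `Spec (Γ(X, W) / 𝔞)` -/
noncomputable def ZI : X.IdealSheafData := (iMap hW 𝔞).ker

theorem iMap_apply_mem (S : Set X)
    (h𝔞 : ∀ 𝔭 ∈ PrimeSpectrum.zeroLocus (𝔞 : Set Γ(X, W)), hW.fromSpec 𝔭 ∈ S)
    (t : Spec (CommRingCat.of (Γ(X, W) ⧸ 𝔞))) : iMap hW 𝔞 t ∈ S := by
  let p : PrimeSpectrum Γ(X, W) := (Spec.map (CommRingCat.ofHom (Ideal.Quotient.mk 𝔞))) t
  have hz : p ∈ PrimeSpectrum.zeroLocus (𝔞 : Set Γ(X, W)) := by
    rw [PrimeSpectrum.mem_zeroLocus]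
    intro x hx
    change (Ideal.Quotient.mk 𝔞) x ∈ (show PrimeSpectrum (Γ(X, W) ⧸ 𝔞) from t).asIdeal
    rw [Ideal.Quotient.eq_zero_iff_mem.2 hx]
    exact zero_mem _
  have := h𝔞 p hz
  unfold iMap
  rw [Scheme.Hom.comp_apply]
  exact this

theorem iMap_appLE
    (e : (⊤ : (Spec (CommRingCat.of (Γ(X, W) ⧸ 𝔞))).Opens) ≤ (iMap hW 𝔞) ⁻¹ᵁ W) :
    (iMap hW 𝔞).appLE W ⊤ e =
      CommRingCat.ofHom (Ideal.Quotient.mk 𝔞) ≫
        (Scheme.ΓSpecIso (CommRingCat.of (Γ(X, W) ⧸ 𝔞))).inv := by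
  have e₁ : (⊤ : (Spec Γ(X, W)).Opens) ≤ hW.fromSpec ⁻¹ᵁ W := by
    rw [hW.fromSpec_preimage_self]
  have e₂ : (⊤ : (Spec (CommRingCat.of (Γ(X, W) ⧸ 𝔞))).Opens) ≤
      (Spec.map (CommRingCat.ofHom (Ideal.Quotient.mk 𝔞))) ⁻¹ᵁ ⊤ := fun _ _ => trivial
  have h1 := Scheme.Hom.appLE_comp_appLE
    (Spec.map (CommRingCat.ofHom (Ideal.Quotient.mk 𝔞))) hW.fromSpec W ⊤ ⊤ e₁ e₂
  have h2 : hW.fromSpec.appLE W ⊤ e₁ = (Scheme.ΓSpecIso Γ(X, W)).inv := by
    rw [Scheme.Hom.appLE, hW.fromSpec_app_self, Category.assoc, ← Functor.map_comp]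
    have : ((eqToHom hW.fromSpec_preimage_self).op ≫ (homOfLE e₁).op) = 𝟙 _ :=
      Subsingleton.elim _ _
    rw [this, CategoryTheory.Functor.map_id, Category.comp_id]
  have h3 : (Spec.map (CommRingCat.ofHom (Ideal.Quotient.mk 𝔞))).appLE ⊤ ⊤ e₂ =
      (Spec.map (CommRingCat.ofHom (Ideal.Quotient.mk 𝔞))).appTop :=
    Scheme.Hom.appLE_eq_app _
  rw [h2, h3, ← Scheme.ΓSpecIso_inv_naturality] at h1
  exact h1.symm

variable [QuasiSeparatedSpace X]

theorem iMap_preimage (S : Set X) (hSW : S ⊆ (W : Set X))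
    (h𝔞 : ∀ 𝔭 ∈ PrimeSpectrum.zeroLocus (𝔞 : Set Γ(X, W)), hW.fromSpec 𝔭 ∈ S) :
    (iMap hW 𝔞) ⁻¹ᵁ W = ⊤ := by
  ext t
  simp only [Opens.coe_top, Set.mem_univ, iff_true]
  exact hSW (iMap_apply_mem hW 𝔞 S h𝔞 t)

theorem ZI_ideal (S : Set X) (hSW : S ⊆ (W : Set X))
    (h𝔞 : ∀ 𝔭 ∈ PrimeSpectrum.zeroLocus (𝔞 : Set Γ(X, W)), hW.fromSpec 𝔭 ∈ S) :
    (ZI hW 𝔞).ideal ⟨W, hW⟩ = 𝔞 := by
  have hpre := iMap_preimage hW 𝔞 S hSW h𝔞
  have e : (⊤ : (Spec (CommRingCat.of (Γ(X, W) ⧸ 𝔞))).Opens) ≤ (iMap hW 𝔞) ⁻¹ᵁ W := by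
    rw [hpre]
  unfold ZI
  rw [Scheme.Hom.ker_apply]
  have h1 := iMap_appLE hW 𝔞 e
  have hiso : IsIso ((Spec (CommRingCat.of (Γ(X, W) ⧸ 𝔞))).presheaf.map (homOfLE e).op) := by
    have : homOfLE e = eqToHom hpre.symm := Subsingleton.elim _ _
    rw [this]
    infer_instance
  have hinj : Function.Injective
      ((Spec (CommRingCat.of (Γ(X, W) ⧸ 𝔞))).presheaf.map (homOfLE e).op).hom :=
    (ConcreteCategory.bijective_of_isIso _).1
  have hinj2 : Function.Injective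
      (Scheme.ΓSpecIso (CommRingCat.of (Γ(X, W) ⧸ 𝔞))).inv.hom :=
    (ConcreteCategory.bijective_of_isIso _).1
  ext r
  rw [RingHom.mem_ker]
  have h2 : ((iMap hW 𝔞).appLE W ⊤ e).hom r =
      ((Spec (CommRingCat.of (Γ(X, W) ⧸ 𝔞))).presheaf.map (homOfLE e).op).hom
        (((iMap hW 𝔞).app W).hom r) := rfl
  have h3 : ((iMap hW 𝔞).appLE W ⊤ e).hom r =
      (Scheme.ΓSpecIso (CommRingCat.of (Γ(X, W) ⧸ 𝔞))).inv.hom (Ideal.Quotient.mk 𝔞 r) := by
    rw [h1]
    rfl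
  constructor
  · intro h
    rw [h, map_zero] at h2
    rw [h2] at h3
    have := hinj2 (h3.symm.trans (map_zero _).symm)
    exact Ideal.Quotient.eq_zero_iff_mem.1 this
  · intro h
    apply hinj
    rw [← h2, h3, Ideal.Quotient.eq_zero_iff_mem.2 h, map_zero, map_zero]

theorem ZI_support_subset (S : Set X) (hScl : IsClosed S)
    (h𝔞 : ∀ 𝔭 ∈ PrimeSpectrum.zeroLocus (𝔞 : Set Γ(X, W)), hW.fromSpec 𝔭 ∈ S) :
    ((ZI hW 𝔞).support : Set X) ⊆ S := by
  have hs : ((ZI hW 𝔞).support : Set X) = closure (Set.range (iMap hW 𝔞)) :=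
    Scheme.Hom.support_ker _
  rw [hs]
  apply closure_minimal _ hScl
  rintro _ ⟨t, rfl⟩
  exact iMap_apply_mem hW 𝔞 S h𝔞 t

end Construct

end Groth.Agent.Helper1.VAc
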