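import Mathlib
import Groth.Agent.Lib.Helper1.CMInt2
import Groth.Agent.Lib.Helper1.CMInt3
import Groth.Agent.Lib.Helper1.Euler4
import Groth.Agent.Lib.Helper1.VAcA
import Groth.Agent.Lib.Helper4.TopDim2

/-!
# The intersection number of two effective Cartier divisors on a Cohen–Macaulay surface
(helper1)
-/

set_option autoImplicit false
universe u
open CategoryTheory CategoryTheory.Limits AlgebraicGeometry TopologicalSpace Opposite

namespace Groth.Agent.Helper1.CMInt

open Groth.Agent.Helper1 Groth.Agent.Helper1.Euler Groth.Agent.Helper1.Dv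
open Groth.Agent.Helper1.FinLen Groth.Agent.Helper1.TwForm Groth.Agent.Helper1.Curve
open Groth.Agent.Helper1.Snap Groth.Agent.Helper1.FGAInt Groth.Agent.Helper1.NegVan

section Main

variable (k : Type u) [Field k] (X : Scheme.{u}) [X.Over (Spec (CommRingCat.of k))]
  [IsProper (X ↘ (Spec (CommRingCat.of k)))] [IsNoetherian X]

/-- the intersection symbol of `O` with the ideal of a divisor in the last slot -/
theorem intNum_snoc_idealMod_unit (d : ℕ) (hd : topologicalKrullDim X ≤ d) {r : ℕ}
    (M : Fin r → X.Modules) (hM : ∀ i, PicF.IsInvertible (M i)) (D : X.IdealSheafData)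
    (hDinv : PicF.IsInvertible (ClSub.idealMod D)) :
    FGA.intNum k X d (Fin.snoc M (ClSub.idealMod D)) (Coh.structureModule X) =
      FGA.intNum k X d M (ClSub.quotMod D) := by
  have hQc : Coh.IsCoh (ClSub.quotMod D) := CurveDual.isCoh_quotMod D
  have hIc : Coh.IsCoh (ClSub.idealMod D) := CurveDual.isCoh_idealMod D
  have hO : Coh.IsCoh (Coh.structureModule X) := isCoh_structureModule X
  have hMA : ∀ i, PicF.IsInvertible
      ((Fin.snoc M (ClSub.idealMod D) : Fin (r + 1) → X.Modules) i) := by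
    intro i
    refine Fin.lastCases ?_ (fun j => ?_) i
    · have e : (Fin.snoc M (ClSub.idealMod D) : Fin (r + 1) → X.Modules) (Fin.last r) =
          ClSub.idealMod D := by simp
      rw [e]; exact hDinv
    · have e : (Fin.snoc M (ClSub.idealMod D) : Fin (r + 1) → X.Modules) j.castSucc = M j := by
        simp
      rw [e]; exact hM j
  rw [intNum_eq k X d hd _ hMA _ hO, intNum_eq k X d hd M hM _ hQc,
    SnapCart2.opM_snoc X M hM _ hDinv hMA]
  congr 1
  change opM X M hM ((1 - T _ hDinv) (KZero.clSub (PC X) (Coh.structureModule X))) = _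
  congr 1
  change KZero.clSub (PC X) (Coh.structureModule X) -
    T _ hDinv (KZero.clSub (PC X) (Coh.structureModule X)) = _
  rw [T_clSub _ hDinv _ hO]
  have hunit : KZero.clSub (PC X)
      (CohB1.tensorMod (ClSub.idealMod D) (Coh.structureModule X)) =
      KZero.clSub (PC X) (ClSub.idealMod D) :=
    clSub_iso (Groth.Agent.Lib.Helper5.LTenFlf.tensorUnitIso (ClSub.idealMod D)).symm hIc
  rw [hunit]
  have hrel := clSub_ses _ (CurveDual.shortExact_S D) hIc hO hQc
  change KZero.clSub (PC X) (Coh.structureModule X) =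
    KZero.clSub (PC X) (ClSub.idealMod D) + KZero.clSub (PC X) (ClSub.quotMod D) at hrel
  rw [hrel]
  abel

/-- **the intersection number of two effective Cartier divisors meeting in finitely many points of a
Cohen–Macaulay surface is the length of their scheme-theoretic intersection** -/
theorem main (hdim : ∀ Z ∈ irreducibleComponents (X : Type u), topologicalKrullDim Z = 2)
    (hCM : ∀ x : X, LocCoh.IsCohenMacaulayLocalRing (X.presheaf.stalk x))
    (IC ID : X.IdealSheafData) (hC : BlowUp.IsEffCartierIdeal IC)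
    (hD : BlowUp.IsEffCartierIdeal ID) (hfin : ((IC ⊔ ID).support : Set X).Finite) :
    FGA.intNum k X 2 ![ClSub.idealMod IC, ClSub.idealMod ID] (Coh.structureModule X) =
      (Module.finrank k (Coh.HH X (ClSub.quotMod (IC ⊔ ID)) 0) : ℤ) := by
  have hCinv : PicF.IsInvertible (ClSub.idealMod IC) := (Groth.Agent.S8914.result IC).2 hC
  have hDinv : PicF.IsInvertible (ClSub.idealMod ID) := (Groth.Agent.S8914.result ID).2 hD
  have hd : topologicalKrullDim X ≤ 2 := by
    rw [Groth.Agent.Helper4.TD.topologicalKrullDim_eq_iSup_irreducibleComponents]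
    exact iSup₂_le fun Y hY => (hdim Y hY).le
  obtain ⟨M₀, hM₀def⟩ : ∃ M₀ : Fin 0 → X.Modules, M₀ = Fin.elim0 := ⟨_, rfl⟩
  have hM₀ : ∀ i, PicF.IsInvertible (M₀ i) := fun i => i.elim0
  have hvec : (![ClSub.idealMod IC, ClSub.idealMod ID] : Fin 2 → X.Modules) =
      Fin.snoc (Fin.snoc M₀ (ClSub.idealMod IC) : Fin 1 → X.Modules) (ClSub.idealMod ID) := by
    funext i
    fin_cases i <;> rfl
  have hM₁ : ∀ i, PicF.IsInvertible
      ((Fin.snoc M₀ (ClSub.idealMod IC) : Fin 1 → X.Modules) i) := by
    intro i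
    have hi : i = Fin.last 0 := Subsingleton.elim _ _
    subst hi
    rw [Fin.snoc_last]
    exact hCinv
  rw [hvec, intNum_snoc_idealMod_unit k X 2 hd _ hM₁ ID hDinv]
  have hass := not_isAssPoint_of_finite k X hdim hCM IC ID hDinv hfin
  rw [SnapCart2.intNum_snoc_idealMod_of_ass k X 2 hd M₀ hM₀ IC hC (ClSub.quotMod ID)
    (CurveDual.isCoh_quotMod ID) hass]
  have hG : Coh.IsCoh (CohB1.tensorMod (ClSub.quotMod ID) (ClSub.quotMod IC)) :=
    isCoh_tensor _ _ (CurveDual.isCoh_quotMod ID) (CurveDual.isCoh_quotMod IC)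
  rw [intNum_eq k X 2 hd M₀ hM₀ _ hG]
  have hop : opM X M₀ hM₀ = 1 := by
    unfold opM
    simp
  rw [hop]
  change eulerHom k X (KZero.clSub (PC X) _) = _
  rw [eulerHom_clSub k X _ hG, euler_iso k X (tensorQuotIso ID IC)]
  have hsup : ID ⊔ IC = IC ⊔ ID := sup_comm _ _
  rw [hsup]
  apply euler_eq_finrank_of_dim_le_zero k X _ (CurveDual.isCoh_quotMod _)
  have hptcl : ∀ x ∈ ((IC ⊔ ID).support : Set X), IsClosed ({x} : Set X) := by
    intro x hxZ
    haveI : JacobsonSpace X :=
      LocallyOfFiniteType.jacobsonSpace (X ↘ (Spec (CommRingCat.of k)))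
    by_contra hncl
    exact infinite_closedPoints_closure x hncl (hfin.subset fun y hy =>
      (IsClosed.closure_subset_iff (IC ⊔ ID).support.isClosed).2
        (Set.singleton_subset_iff.2 hxZ) hy.1)
  have hSsub : CohB1.support (ClSub.quotMod (IC ⊔ ID)) ⊆ ((IC ⊔ ID).support : Set X) :=
    CurveDual.support_quotMod_subset _
  by_cases hne : (CohB1.support (ClSub.quotMod (IC ⊔ ID))).Nonempty
  · exact Groth.Agent.Helper1.VAc.dim_le_zero_of_finite_closed _ (hfin.subset hSsub) hne
      (fun x hx => hptcl x (hSsub hx))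
  · haveI : IsEmpty (IrreducibleCloseds ↥(CohB1.support (ClSub.quotMod (IC ⊔ ID)))) :=
      ⟨fun Z => by
        obtain ⟨z, _⟩ := Z.isIrreducible.nonempty
        exact hne ⟨z.1, z.2⟩⟩
    unfold topologicalKrullDim
    rw [Order.krullDim_eq_bot]
    exact bot_le

end Main

end Groth.Agent.Helper1.CMInt
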