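import Mathlib
import Groth.Agent.Lib.Lead.BCU3
import Groth.Agent.Lib.Helper4.HomLiftAlg1
import Groth.Agent.Lib.Helper1.PullSec
import Groth.Agent.Lib.Helper1.AffPushEpi

/-!
# Sections of the pullback of a quasi-coherent module along a closed immersion (helper1)
-/

set_option linter.style.haveILetI false
set_option linter.unusedVariables false
set_option linter.unusedSectionVars false
set_option linter.unusedSimpArgs false
set_option autoImplicit false
set_option backward.isDefEq.respectTransparency.types false
set_option synthInstance.maxHeartbeats 400000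
set_option maxHeartbeats 1600000

universe u

open CategoryTheory CategoryTheory.Limits AlgebraicGeometry Opposite TopologicalSpace
open Groth.Agent.Helper1 Groth.Agent.Helper1.QcCech Groth.Agent.Helper1.PullSec
open Groth.Agent.Lib.Helper4.HomLiftAlg1

namespace Groth.Agent.Helper1.ClImmSec

variable {D X : Scheme.{u}} (d : D ⟶ X) [IsClosedImmersion d]

theorem appLE_surjective {W : X.Opens} (hW : IsAffineOpen W) :
    Function.Surjective (d.appLE W (d ⁻¹ᵁ W) (le_refl _)).hom := by
  have h := d.app_surjective W hW
  rw [Scheme.Hom.app_eq_appLE] at h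
  exact h

/-- sections of the pullback over the preimage of an affine open are restrictions of sections -/
theorem σ_surjective (M : X.Modules) [M.IsQuasicoherent] {W : X.Opens} (hW : IsAffineOpen W) :
    Function.Surjective (σ d M W) := by
  have hbc := Groth.Agent.Lead.BCU.isBC_unitRes d M hW (hW.preimage d) (le_refl (d ⁻¹ᵁ W))
  obtain ⟨h1, -⟩ := isBC_surj_ker _ (appLE_surjective d hW) _ hbc
  intro n
  obtain ⟨m, hm⟩ := h1 n
  refine ⟨m, ?_⟩
  rw [← hm]
  exact (res_self _ _ _).symm

/-- a section restricting to zero on the closed subscheme lies in the ideal times the module -/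
theorem mem_of_σ_eq_zero (M : X.Modules) [M.IsQuasicoherent] {W : X.Opens} (hW : IsAffineOpen W)
    (m : Γ(M, W)) (h : σ d M W m = 0) :
    m ∈ RingHom.ker (d.app W).hom • (⊤ : Submodule Γ(X, W) Γ(M, W)) := by
  have hbc := Groth.Agent.Lead.BCU.isBC_unitRes d M hW (hW.preimage d) (le_refl (d ⁻¹ᵁ W))
  obtain ⟨-, h2⟩ := isBC_surj_ker _ (appLE_surjective d hW) _ hbc
  have h3 := h2 m ((res_self _ _ _).trans h)
  have e : RingHom.ker (d.appLE W (d ⁻¹ᵁ W) (le_refl _)).hom = RingHom.ker (d.app W).hom := by
    rw [Scheme.Hom.app_eq_appLE]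
  rw [e] at h3
  exact h3

/-- the unit `M ⟶ d_* d^* M` -/
noncomputable abbrev eta (M : X.Modules) : M ⟶ (Scheme.Modules.pushforward d).obj
    ((Scheme.Modules.pullback d).obj M) :=
  (Scheme.Modules.pullbackPushforwardAdjunction d).unit.app M

theorem eta_app (M : X.Modules) (W : X.Opens) (m : Γ(M, W)) :
    (eta d M).app W m = σ d M W m := rfl

theorem epi_eta (M : X.Modules) [M.IsQuasicoherent] : Epi (eta d M) :=
  AffPushEpi.epi_of_surjective_on_affine _ fun _ hU => σ_surjective d M hU

end Groth.Agent.Helper1.ClImmSec
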