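import Mathlib
import Groth.Agent.Lib.Helper4.KosA2
import Groth.Agent.Lib.Helper4.KosA3
import Groth.Agent.Lib.Helper4.HHFin1
import Groth.Agent.Lib.Helper1.CurveLin1
import Groth.Agent.Lib.Helper1.CurvePt1
import Groth.Agent.Lib.Helper1.NefGG1
import Groth.Agent.Lib.Helper1.H1Surj

/-!
# The end of the Koszul complex of a globally generated invertible module, and multiplication of
sections on one-dimensional proper schemes (helper1)

For sections `s_j` generating an invertible module `A` and any module `G`, the complex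
`⨁_{pairs} G → ⨁_j G ⊗ A → (G ⊗ A) ⊗ A → 0` is exact.  On a proper scheme of dimension `≤ 1` over
a field, with `H¹(G) = 0`, every global section of `(G ⊗ A) ⊗ A` is a sum of products
`a ⊗ s_j`.
-/

set_option backward.isDefEq.respectTransparency.types false
set_option synthInstance.maxHeartbeats 400000
set_option autoImplicit false
set_option linter.unusedSectionVars false
universe u v w
open CategoryTheory CategoryTheory.Limits AlgebraicGeometry TopologicalSpace Opposite
open Groth.Agent.Helper1 Groth.Agent.Helper1.QcCech Groth.Agent.Helper1.LGen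
open Groth.Agent.Helper1.TmulLib Groth.Agent.Helper1.TensGen
open Groth.Agent.Lib.Helper4 Groth.Agent.Lib.Helper4.KosA1 Groth.Agent.Lib.Helper4.KosA1.Datum

namespace Groth.Agent.Helper1.KosCurve

section Homotopy
variable {C : Type u} [Category.{v} C] [Preadditive C]
variable {I : Type w} [Fintype I] [LinearOrder I]
variable {M : ℤ → C} (D : Datum I M) (φ : I → ∀ i, M i ⟶ M (i + 1))
variable (hφ : ∀ (j l : I) (i : ℤ), φ j i ≫ φ l (i + 1) = φ l i ≫ φ j (i + 1))
variable (j₀ : I) (ψ : ∀ i, M (i + 1) ⟶ M i)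

include hφ in
theorem φ_ψ_comm' (l : I) (i : ℤ) (hψφ : ψ i ≫ φ j₀ i = 𝟙 _)
    (hφψ : φ j₀ (i + 1) ≫ ψ (i + 1) = 𝟙 _) :
    φ l (i + 1) ≫ ψ (i + 1) = ψ i ≫ φ l i := by
  calc φ l (i + 1) ≫ ψ (i + 1) = (ψ i ≫ φ j₀ i) ≫ φ l (i + 1) ≫ ψ (i + 1) := by
        rw [hψφ, Category.id_comp]
    _ = ψ i ≫ (φ j₀ i ≫ φ l (i + 1)) ≫ ψ (i + 1) := by simp only [Category.assoc]
    _ = ψ i ≫ (φ l i ≫ φ j₀ (i + 1)) ≫ ψ (i + 1) := by rw [hφ]
    _ = ψ i ≫ φ l i ≫ (φ j₀ (i + 1) ≫ ψ (i + 1)) := by simp only [Category.assoc]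
    _ = ψ i ≫ φ l i := by rw [hφψ, Category.comp_id]

include hφ in
/-- the contracting homotopy identity at one spot, from the inverse at the two neighbouring
spots only -/
theorem h_d_add_d_h' (i : ℤ) (hψφ : ψ i ≫ φ j₀ i = 𝟙 _)
    (hφψ : φ j₀ (i + 1) ≫ ψ (i + 1) = 𝟙 _) :
    D.h j₀ ψ i ≫ D.d φ i + D.d φ (i + 1) ≫ D.h j₀ ψ (i + 1) = 𝟙 (D.K (i + 1)) := by
  apply D.hom_ext_left
  intro S
  rw [Preadditive.comp_add, ← Category.assoc, ← Category.assoc, ι_h, ι_d, Category.comp_id,
    Preadditive.sum_comp]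
  have hterm : ∀ l ∈ Sᶜ, (sgn S l • (φ l (i + 1) ≫ D.ι (insert l S) (i + 1 + 1))) ≫
      D.h j₀ ψ (i + 1) =
      if j₀ ∈ insert l S then (sgn S l * sgn ((insert l S).erase j₀) j₀) •
        (φ l (i + 1) ≫ ψ (i + 1) ≫ D.ι ((insert l S).erase j₀) (i + 1)) else 0 := by
    intro l _
    rw [Preadditive.zsmul_comp, Category.assoc, ι_h]
    by_cases hj : j₀ ∈ insert l S
    · rw [if_pos hj, if_pos hj, Preadditive.comp_zsmul, smul_smul]
    · rw [if_neg hj, if_neg hj, comp_zero, smul_zero]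
  rw [Finset.sum_congr rfl hterm]
  by_cases hj : j₀ ∈ S
  · rw [if_pos hj, Preadditive.zsmul_comp, Category.assoc, ι_d, Preadditive.comp_sum,
      Finset.smul_sum]
    have hc : (S.erase j₀)ᶜ = insert j₀ Sᶜ := by
      ext l
      simp only [Finset.mem_compl, Finset.mem_erase, Finset.mem_insert, not_and]
      constructor
      · intro h
        by_cases hl : l = j₀
        · exact Or.inl hl
        · exact Or.inr (fun hlS => hl (h hl |> fun x => absurd hlS x))
      · rintro (h | h) hl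
        · exact absurd h hl
        · exact h
    rw [hc, Finset.sum_insert (by simpa using hj)]
    rw [Preadditive.comp_zsmul, smul_smul, sgn_mul_self, one_smul, ← Category.assoc, hψφ,
      Category.id_comp, Finset.insert_erase hj, add_assoc]
    rw [add_eq_left, ← Finset.sum_add_distrib]
    apply Finset.sum_eq_zero
    intro l hl
    have hlS := Finset.mem_compl.1 hl
    have hlj : l ≠ j₀ := fun h => hlS (h ▸ hj)
    rw [if_pos (Finset.mem_insert_of_mem hj), Preadditive.comp_zsmul, smul_smul,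
      Finset.erase_insert_of_ne hlj]
    rw [sgn_insert j₀ (fun h => hlS (Finset.mem_of_mem_erase h))]
    have hS : sgn S l = sgn (S.erase j₀) l * eps j₀ l := by
      have := sgn_insert l (Finset.notMem_erase j₀ S)
      rwa [Finset.insert_erase hj] at this
    rw [hS, ← Category.assoc (φ l (i + 1)), φ_ψ_comm' φ hφ j₀ ψ l i hψφ hφψ, Category.assoc,
      ← add_smul]
    have : sgn (S.erase j₀) j₀ * sgn (S.erase j₀) l +
        sgn (S.erase j₀) l * eps j₀ l * (sgn (S.erase j₀) j₀ * eps l j₀) = 0 := by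
      have := eps_mul_eps hlj
      linear_combination (sgn (S.erase j₀) l * sgn (S.erase j₀) j₀) * this
    rw [this, zero_smul]
  · rw [if_neg hj, zero_comp, zero_add]
    rw [Finset.sum_eq_single j₀]
    · rw [if_pos (Finset.mem_insert_self _ _), Finset.erase_insert hj, sgn_mul_self, one_smul,
        ← Category.assoc, hφψ, Category.id_comp]
    · intro l hl hlj
      have : j₀ ∉ insert l S := by
        simp only [Finset.mem_insert, not_or]
        exact ⟨fun h => hlj h.symm, hj⟩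
      rw [if_neg this]
    · intro hh
      exact absurd (Finset.mem_compl.2 hj) hh

end Homotopy

section Ab
variable {I : Type w} [Fintype I] [LinearOrder I]
variable {M : ℤ → AddCommGrpCat.{u}} (D : Datum I M) (φ : I → ∀ i, M i ⟶ M (i + 1))
  (hφ : ∀ (j l : I) (i : ℤ), φ j i ≫ φ l (i + 1) = φ l i ≫ φ j (i + 1))
  (j₀ : I)

include hφ in
theorem exists_preimage' (i : ℤ) (h0 : IsIso (φ j₀ i)) (h1 : IsIso (φ j₀ (i + 1)))
    (s : D.K (i + 1)) (hs : (D.d φ (i + 1)) s = 0) : ∃ m : D.K i, (D.d φ i) m = s := by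
  classical
  let ψ : ∀ i', M (i' + 1) ⟶ M i' := fun i' =>
    if h : IsIso (φ j₀ i') then @inv _ _ _ _ (φ j₀ i') h else 0
  have hψ0 : ψ i = @inv _ _ _ _ (φ j₀ i) h0 := dif_pos h0
  have hψ1 : ψ (i + 1) = @inv _ _ _ _ (φ j₀ (i + 1)) h1 := dif_pos h1
  have key := h_d_add_d_h' D φ hφ j₀ ψ i
    (by rw [hψ0]; exact @IsIso.inv_hom_id _ _ _ _ (φ j₀ i) h0)
    (by rw [hψ1]; exact @IsIso.hom_inv_id _ _ _ _ (φ j₀ (i + 1)) h1)
  refine ⟨(D.h j₀ ψ i) s, ?_⟩
  have h1' := congrArg (fun f : D.K (i + 1) ⟶ D.K (i + 1) => f s) key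
  simp only [AddCommGrpCat.hom_add_apply, CategoryTheory.comp_apply,
    CategoryTheory.id_apply] at h1'
  rw [hs, map_zero, add_zero] at h1'
  exact h1'

end Ab

section Sheaf
variable {X : Scheme.{u}} {I : Type w} [Fintype I] [LinearOrder I]

/-- exactness of the Koszul complex at one spot, from local invertibility at the two
neighbouring spots -/
theorem exact_sc_of_locally' {M : ℤ → X.Modules} (D : Datum I M)
    (φ : I → ∀ i, M i ⟶ M (i + 1))
    (hφ : ∀ (j l : I) (i : ℤ), φ j i ≫ φ l (i + 1) = φ l i ≫ φ j (i + 1)) (k : ℤ)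
    (hloc : ∀ x : X, ∃ (j₀ : I) (V : X.Opens), x ∈ V ∧
      ∀ W : X.Opens, W ≤ V → Function.Bijective ((φ j₀ k).app W) ∧
        Function.Bijective ((φ j₀ (k + 1)).app W)) :
    (ShortComplex.mk (D.d φ k) (D.d φ (k + 1)) (D.d_comp_d φ hφ k)).Exact := by
  apply RT14.exact_of_locally
  intro U s hs x hx
  obtain ⟨j₀, V, hxV, hbij⟩ := hloc x
  refine ⟨U ⊓ V, inf_le_left, ⟨hx, hxV⟩, ?_⟩
  have hs' : (D.d φ (k + 1)).app U s = 0 := hs
  let W : X.Opens := U ⊓ V
  let F := KosA2.secF (X := X) W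
  have hφ' : ∀ (j l : I) (i : ℤ), F.map (φ j i) ≫ F.map (φ l (i + 1)) =
      F.map (φ l i) ≫ F.map (φ j (i + 1)) := by
    intro j l i
    rw [← F.map_comp, ← F.map_comp, hφ]
  have hiso0 : IsIso (F.map (φ j₀ k)) :=
    (ConcreteCategory.isIso_iff_bijective _).2 (hbij W inf_le_right).1
  have hiso1 : IsIso (F.map (φ j₀ (k + 1))) :=
    (ConcreteCategory.isIso_iff_bijective _).2 (hbij W inf_le_right).2
  have h0 : ((D.map F).d (fun j i => F.map (φ j i)) (k + 1))
      (res (D.K (k + 1)) (inf_le_left : W ≤ U) s) = 0 := by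
    rw [← D.map_d φ F (k + 1)]
    change (D.d φ (k + 1)).app W (res (D.K (k + 1)) (inf_le_left : W ≤ U) s) = 0
    rw [← ModGlue.app_res, hs', map_zero]
  obtain ⟨m, hm⟩ := exists_preimage' (D.map F) (fun j i => F.map (φ j i)) hφ' j₀ k hiso0 hiso1
    _ h0
  refine ⟨m, ?_⟩
  rw [← D.map_d φ F k] at hm
  exact hm

/-- cohomology of the terms of a Koszul datum -/
theorem subsingleton_HH_K (k : Type u) [Field k] [X.Over (Spec (CommRingCat.of k))]
    {M : ℤ → X.Modules} (D : Datum I M) (i : ℤ) (q : ℕ)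
    (h : Subsingleton (Coh.HH X (M i) q)) : Subsingleton (Coh.HH X (D.K i) q) := by
  have key : ∀ z : Coh.HH X (D.K i) q, z = 0 := by
    intro z
    have h1 := HHFin1.HHlin_id k (D.K i) q z
    rw [← D.total i, HHFin1.HHlin_sum] at h1
    rw [← h1]
    apply Finset.sum_eq_zero
    intro S _
    rw [HHFin1.HHlin_comp]
    have : Canon.HHlin k (D.π S i) q z = 0 := Subsingleton.elim _ _
    rw [this, map_zero]
  exact ⟨fun x y => by rw [key x, key y]⟩

/-- evaluation of morphisms at a section, as an additive map -/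
noncomputable def appAt {P Q : X.Modules} (U : X.Opens) (y : Γ(P, U)) : (P ⟶ Q) →+ Γ(Q, U) where
  toFun f := f.app U y
  map_zero' := rfl
  map_add' _ _ := rfl

theorem appAt_apply {P Q : X.Modules} (U : X.Opens) (y : Γ(P, U)) (f : P ⟶ Q) :
    appAt U y f = f.app U y := rfl

end Sheaf

section Family
variable {X : Scheme.{u}} (A G : X.Modules)

/-- `G ⊗ A ⊗ ⋯ ⊗ A` -/
noncomputable def Nfam : ℕ → X.Modules
  | 0 => G
  | n + 1 => CohB1.tensorMod (Nfam n) A

/-- the family indexed by the integers, starting at `c` -/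
noncomputable def Mfam (c i : ℤ) : X.Modules := Nfam A G (i - c).toNat

/-- multiplication by a section -/
noncomputable def step (s : Γ(A, ⊤)) (a : ℕ) :
    ∀ (b : ℕ), b = a + 1 → (Nfam A G a ⟶ Nfam A G b)
  | _, rfl => CurveAmp.mulΓ (Nfam A G a) A s

theorem step_rfl (s : Γ(A, ⊤)) (a : ℕ) :
    step A G s a (a + 1) rfl = CurveAmp.mulΓ (Nfam A G a) A s := rfl

theorem step_comm (hA : PicF.IsInvertible A) (s t : Γ(A, ⊤)) (a b b' : ℕ) (h1 : b = a + 1)
    (h2 : b' = b + 1) :
    step A G s a b h1 ≫ step A G t b b' h2 = step A G t a b h1 ≫ step A G s b b' h2 := by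
  subst h1
  subst h2
  exact CurveLin.mulΓ_comm hA (Nfam A G a) t s

theorem step_app_bijective (s : Γ(A, ⊤)) (a b : ℕ) (h : b = a + 1) {V : X.Opens}
    (hV : IsGen A V (res A (le_top : V ≤ ⊤) s)) :
    Function.Bijective ((step A G s a b h).app V) := by
  subst h
  exact CurveAmp.mulΓ_app_bijective (Nfam A G a) A s hV

theorem step_app_top (s : Γ(A, ⊤)) (a : ℕ) (m : Γ(Nfam A G a, ⊤)) :
    (step A G s a (a + 1) rfl).app ⊤ m = tm (Nfam A G a) A ⊤ m s := by
  have h := CurveAmp.mulΓ_app (Nfam A G a) A s ⊤ m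
  rw [res_self] at h
  exact h

variable {I : Type w} (s : I → Γ(A, ⊤)) (c : ℤ)

/-- the maps of the Koszul complex -/
noncomputable def phi (j : I) (i : ℤ) : Mfam A G c i ⟶ Mfam A G c (i + 1) :=
  if h : c ≤ i then step A G (s j) (i - c).toNat (i + 1 - c).toNat (by omega) else 0

theorem phi_eq (j : I) (i : ℤ) (h : c ≤ i) :
    phi A G s c j i = step A G (s j) (i - c).toNat (i + 1 - c).toNat (by omega) := dif_pos h

theorem phi_comm (hA : PicF.IsInvertible A) (j l : I) (i : ℤ) :
    phi A G s c j i ≫ phi A G s c l (i + 1) = phi A G s c l i ≫ phi A G s c j (i + 1) := by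
  by_cases h : c ≤ i
  · have h' : c ≤ i + 1 := by omega
    rw [phi_eq A G s c j i h, phi_eq A G s c l (i + 1) h', phi_eq A G s c l i h,
      phi_eq A G s c j (i + 1) h']
    exact step_comm A G hA (s j) (s l) _ _ _ _ _
  · unfold phi
    simp only [dif_neg h, zero_comp]

theorem phi_app_bijective (j : I) (i : ℤ) (hi : c ≤ i) {V : X.Opens}
    (hV : IsGen A V (res A (le_top : V ≤ ⊤) (s j))) :
    Function.Bijective ((phi A G s c j i).app V) := by
  rw [phi_eq A G s c j i hi]
  exact step_app_bijective A G (s j) _ _ _ hV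

attribute [local instance] Abelian.hasFiniteBiproducts

/-- the Koszul datum -/
noncomputable def dat (I : Type w) [Fintype I] [LinearOrder I] (c : ℤ) :
    Datum I (Mfam A G c) := Datum.ofBiproducts I (Mfam A G c)

variable [Fintype I] [LinearOrder I]

/-- exactness of the honest part of the Koszul complex -/
theorem exact_at (hA : PicF.IsInvertible A)
    (hs : ∀ x : X, ∃ (j : I) (V : X.Opens), x ∈ V ∧ IsGen A V (res A (le_top : V ≤ ⊤) (s j)))
    (k : ℤ) (hk : c ≤ k) :
    (ShortComplex.mk ((dat A G I c).d (phi A G s c) k) ((dat A G I c).d (phi A G s c) (k + 1))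
      ((dat A G I c).d_comp_d (phi A G s c) (phi_comm A G s c hA) k)).Exact := by
  refine exact_sc_of_locally' (dat A G I c) (phi A G s c) (phi_comm A G s c hA) k ?_
  intro x
  obtain ⟨j₀, V, hxV, hV⟩ := hs x
  refine ⟨j₀, V, hxV, fun W hW => ?_⟩
  have hW' : IsGen A W (res A (le_top : W ≤ ⊤) (s j₀)) := by
    have := hV.res hW
    rwa [res_res] at this
  exact ⟨phi_app_bijective A G s c j₀ k hk hW',
    phi_app_bijective A G s c j₀ (k + 1) (by omega) hW'⟩

end Family

end Groth.Agent.Helper1.KosCurve
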