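import Mathlib
import Groth.Agent.Lib.Helper1.KosCurveA
import Groth.Agent.Lib.Helper1.SnapPos5
import Groth.Agent.Lib.Helper1.TensGenL
import Groth.Agent.Lib.Helper1.AmpleLib2

/-!
# Multiplication of sections on one-dimensional proper schemes (helper1)
-/

set_option backward.isDefEq.respectTransparency.types false
set_option synthInstance.maxHeartbeats 400000
set_option autoImplicit false
set_option linter.unusedSectionVars false
universe u v w
open CategoryTheory CategoryTheory.Limits AlgebraicGeometry TopologicalSpace Opposite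
open Groth.Agent.Helper1 Groth.Agent.Helper1.QcCech Groth.Agent.Helper1.LGen
open Groth.Agent.Helper1.TmulLib Groth.Agent.Helper1.TensGen
open Groth.Agent.Lib.Helper4 Groth.Agent.Lib.Helper4.KosA1 Groth.Agent.Lib.Helper4.KosA1.Datum

namespace Groth.Agent.Helper1.KosCurve

section Coh
variable (k : Type u) [Field k] (X : Scheme.{u}) [X.Over (Spec (CommRingCat.of k))]
  [IsProper (X ↘ (Spec (CommRingCat.of k)))]
variable {I : Type w} [Fintype I] [LinearOrder I]

attribute [local instance] Abelian.hasFiniteBiproducts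

include k in
/-- `H¹(G ⊗ A) = 0` if `H¹(G) = 0`, for `A` invertible and globally generated, in dimension
`≤ 1` -/
theorem subsingleton_H1_tensor (hd : topologicalKrullDim X ≤ ((1 : ℕ) : WithBot ℕ∞))
    {A : X.Modules} (hA : PicF.IsInvertible A) (s : I → Γ(A, ⊤))
    (hs : ∀ x : X, ∃ (j : I) (V : X.Opens), x ∈ V ∧ IsGen A V (res A (le_top : V ≤ ⊤) (s j)))
    (G : X.Modules) (hG : Subsingleton (Coh.HH X G 1)) :
    Subsingleton (Coh.HH X (CohB1.tensorMod G A) 1) := by
  obtain ⟨c, hc⟩ : ∃ c : ℤ, (Fintype.card I : ℤ) = c + 1 := ⟨(Fintype.card I : ℤ) - 1, by ring⟩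
  have hex := exact_at A G s c hA hs c le_rfl
  have hz : IsZero ((dat A G I c).K (c + 1 + 1)) := by
    apply Datum.isZero_K
    intro S hS
    have h1 := Finset.card_le_univ S
    have h2 : (S.card : ℤ) ≤ (Fintype.card I : ℤ) := by exact_mod_cast h1
    omega
  have hepi : Epi ((dat A G I c).d (phi A G s c) c) := hex.epi_f (hz.eq_of_tgt _ _)
  have h0 : (c - c).toNat = 0 := by omega
  have e0 : Mfam A G c c = G := congrArg (Nfam A G) h0
  have hM0 : Subsingleton (Coh.HH X (Mfam A G c c) 1) := by rw [e0]; exact hG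
  have hK0 := subsingleton_HH_K k (dat A G I c) c 1 hM0
  have hK1 : Subsingleton (Coh.HH X ((dat A G I c).K (c + 1)) 1) :=
    NefGG.subsingleton_H1_of_epi k X hd _ hepi hK0
  have hcard : ((Finset.univ : Finset I).card : ℤ) = c + 1 := by
    rw [Finset.card_univ]; exact hc
  have h1 : (c + 1 - c).toNat = 1 := by omega
  have e1 : Mfam A G c (c + 1) = CohB1.tensorMod G A := congrArg (Nfam A G) h1
  rw [← e1]
  have key : ∀ z : Coh.HH X (Mfam A G c (c + 1)) 1, z = 0 := by
    intro z
    have h3 := HHFin1.HHlin_id k (Mfam A G c (c + 1)) 1 z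
    have h2 : (dat A G I c).ι Finset.univ (c + 1) ≫ (dat A G I c).π Finset.univ (c + 1) =
        𝟙 _ := by
      rw [(dat A G I c).ι_π, if_pos ⟨rfl, hcard⟩]
    rw [← h2, HHFin1.HHlin_comp] at h3
    rw [← h3]
    have : Canon.HHlin k ((dat A G I c).ι Finset.univ (c + 1)) 1 z = 0 := Subsingleton.elim _ _
    rw [this, map_zero]
  exact ⟨fun x y => by rw [key x, key y]⟩

include k in
/-- every global section of `(G ⊗ A) ⊗ A` is a sum of products with the generating sections,
when `H¹(G) = 0`, in dimension `≤ 1` -/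
theorem exists_sum_tm (hd : topologicalKrullDim X ≤ ((1 : ℕ) : WithBot ℕ∞))
    {A : X.Modules} (hA : PicF.IsInvertible A) (s : I → Γ(A, ⊤))
    (hs : ∀ x : X, ∃ (j : I) (V : X.Opens), x ∈ V ∧ IsGen A V (res A (le_top : V ≤ ⊤) (s j)))
    (G : X.Modules) (hG : Subsingleton (Coh.HH X G 1))
    (t : Γ(CohB1.tensorMod (CohB1.tensorMod G A) A, ⊤)) :
    ∃ y : I → Γ(CohB1.tensorMod G A, ⊤),
      t = ∑ j, tm (CohB1.tensorMod G A) A ⊤ (y j) (s j) := by
  obtain ⟨c, hc⟩ : ∃ c : ℤ, (Fintype.card I : ℤ) = c + 1 + 1 :=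
    ⟨(Fintype.card I : ℤ) - 2, by ring⟩
  have hφ := phi_comm A G s c hA
  have hex0 := exact_at A G s c hA hs c le_rfl
  have hex1 := exact_at A G s c hA hs (c + 1) (by omega)
  have hz : IsZero ((dat A G I c).K (c + 1 + 1 + 1)) := by
    apply Datum.isZero_K
    intro S hS
    have h1 := Finset.card_le_univ S
    have h2 : (S.card : ℤ) ≤ (Fintype.card I : ℤ) := by exact_mod_cast h1
    omega
  have hepi1 : Epi ((dat A G I c).d (phi A G s c) (c + 1)) := hex1.epi_f (hz.eq_of_tgt _ _)
  have hepi0 : Epi (kernel.lift ((dat A G I c).d (phi A G s c) (c + 1))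
      ((dat A G I c).d (phi A G s c) c) ((dat A G I c).d_comp_d (phi A G s c) hφ c)) :=
    (ShortComplex.exact_iff_epi_kernel_lift _).1 hex0
  have h0 : (c - c).toNat = 0 := by omega
  have e0 : Mfam A G c c = G := congrArg (Nfam A G) h0
  have hM0 : Subsingleton (Coh.HH X (Mfam A G c c) 1) := by rw [e0]; exact hG
  have hK0 := subsingleton_HH_K k (dat A G I c) c 1 hM0
  have hZ : Subsingleton (Coh.HH X (kernel ((dat A G I c).d (phi A G s c) (c + 1))) 1) :=
    NefGG.subsingleton_H1_of_epi k X hd _ hepi0 hK0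
  let S : ShortComplex X.Modules :=
    ShortComplex.mk (kernel.ι ((dat A G I c).d (phi A G s c) (c + 1)))
      ((dat A G I c).d (phi A G s c) (c + 1)) (kernel.condition _)
  haveI : Mono S.f := inferInstanceAs (Mono (kernel.ι ((dat A G I c).d (phi A G s c) (c + 1))))
  haveI : Epi S.g := hepi1
  have hS : S.ShortExact :=
    { exact := ShortComplex.exact_of_f_is_kernel _ (kernelIsKernel _) }
  have hsurj : Function.Surjective (((dat A G I c).d (phi A G s c) (c + 1)).app ⊤) :=
    H1Surj.app_top_surjective_of_H1 hS hZ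
  have hcard : ((Finset.univ : Finset I).card : ℤ) = c + 1 + 1 := by
    rw [Finset.card_univ]; exact hc
  have hιπ : (dat A G I c).ι Finset.univ (c + 1 + 1) ≫ (dat A G I c).π Finset.univ (c + 1 + 1) =
      𝟙 _ := by
    rw [(dat A G I c).ι_π, if_pos ⟨rfl, hcard⟩]
  have hQ : ∀ t : Γ(Mfam A G c (c + 1 + 1), ⊤), ∃ y : I → Γ(Mfam A G c (c + 1), ⊤),
      t = ∑ j, (phi A G s c j (c + 1)).app ⊤ (y j) := by
    intro t
    obtain ⟨z, hz⟩ := hsurj (((dat A G I c).ι Finset.univ (c + 1 + 1)).app ⊤ t)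
    have h1 : ((dat A G I c).π Finset.univ (c + 1 + 1)).app ⊤
        (((dat A G I c).ι Finset.univ (c + 1 + 1)).app ⊤ t) = t :=
      congrArg (fun f => appAt ⊤ t f) hιπ
    rw [← hz] at h1
    have h2 : ((dat A G I c).π Finset.univ (c + 1 + 1)).app ⊤
        (((dat A G I c).d (phi A G s c) (c + 1)).app ⊤ z) =
        appAt ⊤ z ((dat A G I c).d (phi A G s c) (c + 1) ≫
          (dat A G I c).π Finset.univ (c + 1 + 1)) := rfl
    rw [h2, KosA3.d_π, map_sum] at h1
    refine ⟨fun j => sgn ((Finset.univ : Finset I).erase j) j •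
      ((dat A G I c).π ((Finset.univ : Finset I).erase j) (c + 1)).app ⊤ z, ?_⟩
    rw [← h1]
    refine Finset.sum_congr rfl (fun j _ => ?_)
    rw [map_zsmul, map_zsmul]
    rfl
  have hk1 : c ≤ c + 1 := by omega
  have hQ' : ∀ (a b : ℕ) (h : b = a + 1), a = (c + 1 - c).toNat → b = (c + 1 + 1 - c).toNat →
      ∀ t : Γ(Nfam A G b, ⊤), ∃ y : I → Γ(Nfam A G a, ⊤),
        t = ∑ j, (step A G (s j) a b h).app ⊤ (y j) := by
    intro a b h ha hb
    subst ha
    subst hb
    intro t
    obtain ⟨y, hy⟩ := hQ t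
    refine ⟨y, ?_⟩
    rw [hy]
    refine Finset.sum_congr rfl (fun j _ => ?_)
    rw [phi_eq A G s c j (c + 1) hk1]
    rfl
  obtain ⟨y, hy⟩ := hQ' 1 2 rfl (by omega) (by omega) t
  refine ⟨y, ?_⟩
  rw [hy]
  refine Finset.sum_congr rfl (fun j _ => ?_)
  exact step_app_top A G (s j) 1 (y j)

/-- finitely many global sections generate a globally generated invertible module on a
quasi-compact scheme -/
theorem exists_finite_gen [CompactSpace X] (A : X.Modules) (hA : PicF.IsInvertible A)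
    (hgg : Curv2.IsGloballyGenerated A) :
    ∃ (N : ℕ) (s : Fin N → Γ(A, ⊤)), ∀ x : X, ∃ (j : Fin N) (V : X.Opens), x ∈ V ∧
      IsGen A V (res A (le_top : V ≤ ⊤) (s j)) := by
  classical
  have h : ∀ x : X, ∃ (σ : Γ(A, ⊤)) (V : X.Opens), x ∈ V ∧
      IsGen A V (res A (le_top : V ≤ ⊤) σ) := by
    intro x
    obtain ⟨σ, V, h1, h2⟩ := CurvePt.exists_genAt_of_gg X A hA hgg x
    exact ⟨σ, V, h1, h2⟩
  choose σ V hxV hV using h
  obtain ⟨t, ht⟩ := CompactSpace.elim_nhds_subcover (fun x => (V x : Set X))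
    (fun x => (V x).isOpen.mem_nhds (hxV x))
  refine ⟨t.card, fun i => σ (t.equivFin.symm i).1, fun x => ?_⟩
  have hx : x ∈ ⋃ y ∈ t, (V y : Set X) := by rw [ht]; trivial
  obtain ⟨y, hy, hxy⟩ := Set.mem_iUnion₂.1 hx
  refine ⟨t.equivFin ⟨y, hy⟩, V y, hxy, ?_⟩
  simp only [Equiv.symm_apply_apply]
  exact hV y

include k in
/-- **multiplication of sections is onto** for powers of a globally generated invertible module
above the vanishing of `H¹` -/
theorem span_tmul_eq_top (hdim : topologicalKrullDim X = 1) (A : X.Modules)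
    (hA : PicF.IsInvertible A) (hgg : Curv2.IsGloballyGenerated A) (m : ℕ)
    (hm : Subsingleton (Coh.HH X (CohB1.tensorPow A m) 1)) (n : ℕ) (hn : m + 1 ≤ n) :
    Submodule.span (X.ringCatSheaf.obj.obj (Opposite.op ⊤))
        (Set.range (fun p : (CohB1.tensorPow A n).val.obj (Opposite.op ⊤) ×
            A.val.obj (Opposite.op ⊤) =>
          SecTwist.tmul (CohB1.tensorPow A n) A ⊤ p.1 p.2)) = ⊤ := by
  haveI : CompactSpace X :=
    QuasiCompact.compactSpace_of_compactSpace (X ↘ Spec (CommRingCat.of k))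
  have hd : topologicalKrullDim X ≤ ((1 : ℕ) : WithBot ℕ∞) :=
    (le_of_eq hdim).trans (le_of_eq Nat.cast_one.symm)
  obtain ⟨N, s, hs⟩ := exists_finite_gen X A hA hgg
  have hH1 : ∀ j, m ≤ j → Subsingleton (Coh.HH X (CohB1.tensorPow A j) 1) := by
    intro j hj
    induction j, hj using Nat.le_induction with
    | base => exact hm
    | succ j _ ih => exact subsingleton_H1_tensor k X hd hA s hs (CohB1.tensorPow A j) ih
  obtain ⟨n', rfl⟩ : ∃ n', n = n' + 1 := ⟨n - 1, by omega⟩
  rw [eq_top_iff]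
  intro t _
  obtain ⟨y, hy⟩ := exists_sum_tm k X hd hA s hs (CohB1.tensorPow A n') (hH1 n' (by omega)) t
  rw [hy]
  refine Submodule.sum_mem _ (fun j _ => ?_)
  exact Submodule.subset_span ⟨(y j, s j), rfl⟩

include k in
/-- the section ring of an ample invertible module is generated in degree one when
`H¹(O) = 0`, in dimension one -/
theorem span_tmul_eq_top_of_ample (hdim : topologicalKrullDim X = 1)
    (h1 : Subsingleton (Coh.HH X (Coh.structureModule X) 1))
    (L : X.Modules) (hL : CohB1.IsAmple L) (n : ℕ) :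
    Submodule.span (X.ringCatSheaf.obj.obj (Opposite.op ⊤))
        (Set.range (fun p : (CohB1.tensorPow L n).val.obj (Opposite.op ⊤) ×
            L.val.obj (Opposite.op ⊤) =>
          SecTwist.tmul (CohB1.tensorPow L n) L ⊤ p.1 p.2)) = ⊤ := by
  haveI : AlgebraicGeometry.IsNoetherian X := Euler.isNoetherian_of_proper k X
  obtain ⟨-, hgg⟩ := NefGG.main k X (le_of_eq hdim) h1 L hL.1
    (fun ξ hξ => (SnapPos.pos_gen k 1 X L hL ξ hξ).le)
  rcases Nat.eq_zero_or_pos n with rfl | hn
  · rw [eq_top_iff]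
    intro t _
    obtain ⟨b, hb⟩ := (TensGen.bijective_tm_of_isGen_left L
      (AmpleLib.isGen_one' (X := X) ⊤)).2 t
    exact Submodule.subset_span ⟨(TwForm.one' ⊤, b), hb⟩
  · exact span_tmul_eq_top k X hdim L hL.1 hgg 0 h1 n (by omega)

end Coh

end Groth.Agent.Helper1.KosCurve
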