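import Mathlib
import Groth.Agent.Lib.Helper1.PFrame2
import Groth.Agent.Lib.Helper1.Curve1
import Groth.Agent.Lib.Helper1.AmpleQA

/-!
# Triviality of an invertible module with sections in both directions (helper1)
-/

set_option autoImplicit false
universe u
open CategoryTheory CategoryTheory.Limits AlgebraicGeometry TopologicalSpace Opposite

namespace Groth.Agent.Helper1.TrivInv

open Groth.Agent.Helper1.QcCech Groth.Agent.Helper1.PFrame

variable {X : Scheme.{u}}

/-- the global function attached to an endomorphism of the structure module -/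
noncomputable abbrev fn (c : Coh.structureModule X ⟶ Coh.structureModule X) : Γ(X, ⊤) :=
  c.app ⊤ (show Γ(Coh.structureModule X, ⊤) from (1 : Γ(X, ⊤)))

theorem fn_comp (c d : Coh.structureModule X ⟶ Coh.structureModule X) :
    fn (c ≫ d) = fn c * fn d := by
  change d.app ⊤ (c.app ⊤ (show Γ(Coh.structureModule X, ⊤) from (1 : Γ(X, ⊤)))) = _
  have h := app_eq_smul d ⊤ (fn c)
  refine h.trans ?_
  rw [res_self]
  rfl

theorem fn_id : fn (𝟙 (Coh.structureModule X)) = 1 := rfl

theorem eq_of_fn_eq (c d : Coh.structureModule X ⟶ Coh.structureModule X) (h : fn c = fn d) :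
    c = d := hom_ext_one c d h

theorem fn_homOfSec (b : Γ(X, ⊤)) :
    fn (TwistAmple.homOfSec (Coh.structureModule X) (show Γ(Coh.structureModule X, ⊤) from b)) = b :=
  homOfSec_app_one (Coh.structureModule X) _

/-- S14808 -/
theorem nonempty_iso_of_sections [IsIntegral X] (hfield : IsField (Γ(X, ⊤) : Type u))
    (L : X.Modules) (hL : PicF.IsInvertible L)
    (s : Coh.structureModule X ⟶ L) (hs : s ≠ 0) (t : L ⟶ Coh.structureModule X) (ht : t ≠ 0) :
    Nonempty (L ≅ Coh.structureModule X) := by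
  have hO : PicF.IsInvertible (Coh.structureModule X) := GenLoc.isInvertible_O
  haveI hsm : Mono s := Curve.mono_of_ne_zero hO hL s hs
  haveI htm : Mono t := Curve.mono_of_ne_zero hL hO t ht
  let c := s ≫ t
  haveI : Mono c := mono_comp s t
  have hc : fn c ≠ 0 := by
    intro h0
    have hc0 : c = 0 := by
      apply eq_of_fn_eq
      rw [h0]
      rfl
    have h1 : 𝟙 (Coh.structureModule X) = 0 := by
      rw [← cancel_mono c, Category.id_comp, zero_comp, hc0]
    have h2 : fn (𝟙 (Coh.structureModule X)) = fn (0 : Coh.structureModule X ⟶ _) := by rw [h1]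
    have h3 : (1 : Γ(X, ⊤)) = 0 := h2
    exact hfield.nontrivial.exists_pair_ne.elim fun a ⟨b, hab⟩ => hab (by
      rw [← mul_one a, ← mul_one b, h3, mul_zero, mul_zero])
  obtain ⟨b, hb⟩ := hfield.mul_inv_cancel hc
  let d := TwistAmple.homOfSec (Coh.structureModule X) (show Γ(Coh.structureModule X, ⊤) from b)
  have hdc : d ≫ c = 𝟙 _ := by
    apply eq_of_fn_eq
    rw [fn_comp, fn_homOfSec, fn_id, mul_comm]
    exact hb
  haveI : IsSplitEpi t := ⟨⟨d ≫ s, by rw [Category.assoc]; exact hdc⟩⟩
  haveI : IsIso t := isIso_of_mono_of_isSplitEpi t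
  exact ⟨asIso t⟩


theorem id_ne_zero [IsIntegral X] : 𝟙 (Coh.structureModule X) ≠ 0 := by
  intro h1
  have h2 : fn (𝟙 (Coh.structureModule X)) = fn (0 : Coh.structureModule X ⟶ _) := by rw [h1]
  have h3 : (1 : Γ(X, ⊤)) = 0 := h2
  exact one_ne_zero h3

/-- S7805 -/
theorem iso_iff_sections (k : Type u) [Field k] (p : X ⟶ Spec (CommRingCat.of k))
    [IsProper p] [IsIntegral X] (L : X.Modules) (hL : PicF.IsInvertible L) :
    Nonempty (L ≅ Coh.structureModule X) ↔
      (∃ s : Coh.structureModule X ⟶ L, s ≠ 0) ∧ (∃ t : L ⟶ Coh.structureModule X, t ≠ 0) := by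
  constructor
  · rintro ⟨e⟩
    refine ⟨⟨e.inv, fun h => id_ne_zero (X := X) ?_⟩, ⟨e.hom, fun h => id_ne_zero (X := X) ?_⟩⟩
    · rw [← e.inv_hom_id, h, zero_comp]
    · rw [← e.inv_hom_id, h, comp_zero]
  · rintro ⟨⟨s, hs⟩, ⟨t, ht⟩⟩
    exact nonempty_iso_of_sections (isField_of_universallyClosed k p) L hL s hs t ht

end Groth.Agent.Helper1.TrivInv
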