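import Mathlib
import Groth.Agent.Lib.Helper1.KosCurveB
import Groth.Agent.Lib.Helper1.NM2
import Groth.Agent.Lib.Helper1.AmpleQA
import Groth.Agent.Lib.Helper1.ChowI
import Groth.Agent.Lib.Helper1.TwistExt
import Groth.Agent.Lib.Helper1.HH0
import Groth.Agent.Lib.Lead.SurfSec
import Groth.Agent.Lib.Helper4.T2Main1

/-!
# Normally generated ample invertible modules are very ample (helper1)
-/

set_option backward.isDefEq.respectTransparency.types false
set_option synthInstance.maxHeartbeats 400000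
set_option autoImplicit false
set_option linter.unusedSectionVars false
universe u
open CategoryTheory CategoryTheory.Limits AlgebraicGeometry TopologicalSpace Opposite

namespace Groth.Agent.Helper1.VAng

open Groth.Agent.Helper1.QcCech Groth.Agent.Helper1.SubSh Groth.Agent.Helper1.LGen
open Groth.Agent.Helper1 Groth.Agent.Helper1.AmpleLib Groth.Agent.Helper1.TwForm
open Groth.Agent.Helper1.TmulLib Groth.Agent.Helper1.TwistSec Groth.Agent.Helper1.TensGen
open Groth.Agent.Helper1.Euler Groth.Agent.Helper1.Dv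
open Groth.Agent.Helper1.FinLen Groth.Agent.Helper1.Curve
open Groth.Agent.Helper1.Snap Groth.Agent.Helper1.PullGen Groth.Agent.Helper1.PullSec

section Unitor

variable {X : Scheme.{u}} {L : X.Modules}

/-- the left unitor `O ⊗ L^n ≅ L^n` -/
noncomputable def lunit (hL : PicF.IsInvertible L) (n : ℕ) :
    CohB1.tensorMod (Coh.structureModule X) (CohB1.tensorPow L n) ≅ CohB1.tensorPow L n :=
  Tw.iso (((Tw.self L L (Coh.structureModule X)).tensorR ((Tw.fst L L).pow n)).cast
      (zero_add _) (zero_add _))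
    ((Tw.fst L L).pow n) (locFrame_of_isInvertible hL hL)

theorem lunit_app (hL : PicF.IsInvertible L) (n : ℕ) {W : X.Opens} {a : Γ(L, W)}
    (ha : IsGen L W a) (g : Γ(X, W)) :
    (lunit hL n).hom.app W (tm (Coh.structureModule X) (CohB1.tensorPow L n) W
      (show Γ(Coh.structureModule X, W) from g) (gpow a n)) = g • gpow a n := by
  let f : Frame L L W := ⟨a, a, ha, ha⟩
  have h := Tw.iso_hom_θ (((Tw.self L L (Coh.structureModule X)).tensorR
      ((Tw.fst L L).pow n)).cast (zero_add _) (zero_add _))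
    ((Tw.fst L L).pow n) (locFrame_of_isInvertible hL hL) W f
    (show Γ(Coh.structureModule X, W) from g)
  have e1 : ((Tw.fst L L).pow n).gen W f = gpow a n := by
    rw [Tw.gen_pow, Tw.gen_fst]
  have e2 : ((((Tw.self L L (Coh.structureModule X)).tensorR
      ((Tw.fst L L).pow n)).cast (zero_add _) (zero_add _)).θ W f
      (show Γ(Coh.structureModule X, W) from g)) =
      tm (Coh.structureModule X) (CohB1.tensorPow L n) W
        (show Γ(Coh.structureModule X, W) from g) (gpow a n) := by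
    change tm _ _ W _ (((Tw.fst L L).pow n).gen W f) = _
    rw [e1]
    rfl
  rw [e2, Tw.θ_eq_smul_gen, e1] at h
  exact h

end Unitor

section Subring

variable {X : Scheme.{u}} {A : Type u} [CommRing A] (q : X ⟶ Spec (CommRingCat.of A))
  [CompactSpace X] [QuasiSeparatedSpace X]
  {L : X.Modules} (hL : PicF.IsInvertible L)
  {ι : Type*} [Fintype ι] (σ : ι → Γ(L, ⊤))
  (hspan : ∀ τ : Γ(L, ⊤), ∃ c : ι → A, τ = ∑ l, ProjUP.toGlobal q (c l) • σ l)
  (hng : ∀ (n : ℕ) (P : Γ(CohB1.tensorPow L (n + 1 + 1), ⊤) → Prop), P 0 →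
    (∀ x y, P x → P y → P (x + y)) →
    (∀ (m : Γ(CohB1.tensorPow L (n + 1), ⊤)) (s : Γ(L, ⊤)),
      P (tm (CohB1.tensorPow L (n + 1)) L ⊤ m s)) → ∀ t, P t)

include hL hspan hng in
/-- the generation criterion on the chart `X_{σ₀}` of a normally generated module -/
theorem subring_eq_top (σ₀ : Γ(L, ⊤)) (U : X.Opens)
    (hU : U = CohB1.genLocus L (TwistAmple.homOfSec L σ₀)) (T : Subring Γ(X, U))
    (hT1 : ∀ y, (q.appLE ⊤ U le_top).hom y ∈ T)
    (hT2 : ∀ (l : ι) (ρ : Γ(X, U)),
      ρ • res L (le_top : U ≤ ⊤) σ₀ = res L (le_top : U ≤ ⊤) (σ l) → ρ ∈ T) : T = ⊤ := by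
  classical
  have ha : IsGen L U (res L (le_top : U ≤ ⊤) σ₀) := by
    subst hU
    have := isGen_secVal (TwistAmple.homOfSec L σ₀)
      (le_refl (CohB1.genLocus L (TwistAmple.homOfSec L σ₀)))
    rwa [secVal_homOfSec] at this
  generalize hadef : res L (le_top : U ≤ ⊤) σ₀ = a at ha hT2
  -- sections of `L`
  have step1 : ∀ (τ : Γ(L, ⊤)) (ρ : Γ(X, U)),
      ρ • a = res L (le_top : U ≤ ⊤) τ → ρ ∈ T := by
    intro τ ρ hρ
    obtain ⟨c, hc⟩ := hspan τ
    choose r hr using fun l => ha.exists_coeff (res L (le_top : U ≤ ⊤) (σ l))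
    have hrT : ∀ l, r l ∈ T := fun l => hT2 l (r l) (hr l)
    have key : ρ = ∑ l, (q.appLE ⊤ U le_top).hom
        ((Scheme.ΓSpecIso (CommRingCat.of A)).inv.hom (c l)) * r l := by
      apply (IsGen.bijective_self ha).1
      change ρ • a = (∑ l, (q.appLE ⊤ U le_top).hom
        ((Scheme.ΓSpecIso (CommRingCat.of A)).inv.hom (c l)) * r l) • a
      rw [hρ, hc, map_sum, Finset.sum_smul]
      refine Finset.sum_congr rfl fun l _ => ?_
      rw [res_smul, mul_smul, hr l]
      rfl
    rw [key]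
    exact Subring.sum_mem _ fun l _ => Subring.mul_mem _ (hT1 _) (hrT l)
  -- sections of the powers
  have hzero : ∀ (n : ℕ) (ρ : Γ(X, U)), ρ • gpow a n = 0 → ρ = 0 := by
    intro n ρ hρ
    apply (IsGen.bijective_self (isGen_gpow ha n)).1
    change ρ • gpow a n = (0 : Γ(X, U)) • gpow a n
    rw [hρ, zero_smul]
  have hadd : ∀ (n : ℕ) (x y : Γ(CohB1.tensorPow L n, ⊤)),
      (∀ ρ : Γ(X, U), ρ • gpow a n = res _ (le_top : U ≤ ⊤) x → ρ ∈ T) →
      (∀ ρ : Γ(X, U), ρ • gpow a n = res _ (le_top : U ≤ ⊤) y → ρ ∈ T) →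
      ∀ ρ : Γ(X, U), ρ • gpow a n = res _ (le_top : U ≤ ⊤) (x + y) → ρ ∈ T := by
    intro n x y hx hy ρ hρ
    obtain ⟨ρx, hρx⟩ := (isGen_gpow ha n).exists_coeff (res _ (le_top : U ≤ ⊤) x)
    obtain ⟨ρy, hρy⟩ := (isGen_gpow ha n).exists_coeff (res _ (le_top : U ≤ ⊤) y)
    have : ρ = ρx + ρy := by
      apply (IsGen.bijective_self (isGen_gpow ha n)).1
      change ρ • gpow a n = (ρx + ρy) • gpow a n
      rw [hρ, map_add, add_smul, hρx, hρy]
    rw [this]
    exact T.add_mem (hx ρx hρx) (hy ρy hρy)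
  have P : ∀ (n : ℕ) (m : Γ(CohB1.tensorPow L (n + 1), ⊤)) (ρ : Γ(X, U)),
      ρ • gpow a (n + 1) = res _ (le_top : U ≤ ⊤) m → ρ ∈ T := by
    intro n
    induction n with
    | zero =>
      intro m ρ hρ
      obtain ⟨τ, hτ⟩ := (bijective_tm_of_isGen_left L (isGen_one' (X := X) ⊤)).2 m
      obtain ⟨ρs, hρs⟩ := ha.exists_coeff (res L (le_top : U ≤ ⊤) τ)
      have h1 := step1 _ ρs hρs
      have e2 : res _ (le_top : U ≤ ⊤) (tm (Coh.structureModule X) L ⊤ (one' ⊤) τ) =
          ρs • gpow a (0 + 1) := by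
        rw [res_tm, res_one', ← hρs, tm_smul_right]
        rfl
      have e3 : res (CohB1.tensorPow L (0 + 1)) (le_top : U ≤ ⊤) m = ρs • gpow a (0 + 1) := by
        rw [← hτ]
        exact e2
      have : ρ = ρs := by
        apply (IsGen.bijective_self (isGen_gpow ha (0 + 1))).1
        exact hρ.trans e3
      rw [this]
      exact h1
    | succ n ih =>
      intro m
      refine hng n (fun m => ∀ ρ : Γ(X, U),
        ρ • gpow a (n + 1 + 1) = res _ (le_top : U ≤ ⊤) m → ρ ∈ T) ?_ ?_ ?_ m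
      · intro ρ hρ
        rw [map_zero] at hρ
        rw [hzero _ ρ hρ]
        exact T.zero_mem
      · exact hadd (n + 1 + 1)
      · intro m' s ρ hρ
        obtain ⟨ρs, hρs⟩ := ha.exists_coeff (res L (le_top : U ≤ ⊤) s)
        obtain ⟨ρ', hρ'⟩ := (isGen_gpow ha (n + 1)).exists_coeff
          (res _ (le_top : U ≤ ⊤) m')
        have h1 := step1 _ ρs hρs
        have h2 := ih m' ρ' hρ'
        have e2 : res _ (le_top : U ≤ ⊤) (tm (CohB1.tensorPow L (n + 1)) L ⊤ m' s) =
            (ρ' * ρs) • gpow a (n + 1 + 1) := by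
          rw [res_tm, ← hρ', ← hρs, tm_smul_left, tm_smul_right, smul_smul]
          rfl
        have : ρ = ρ' * ρs := by
          apply (IsGen.bijective_self (isGen_gpow ha (n + 1 + 1))).1
          exact hρ.trans e2
        rw [this]
        exact T.mul_mem h2 h1
  -- every function on the chart
  rw [eq_top_iff]
  intro g _
  haveI : (Coh.structureModule X).IsQuasicoherent :=
    InvQc.isQuasicoherent_of_isInvertible _ (isInvertible_tensorPow hL 0)
  subst hU
  obtain ⟨n, hn, t', ht'⟩ := exists_twist_extends hL (TwistAmple.homOfSec L σ₀)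
    (Coh.structureModule X)
    (show Γ(Coh.structureModule X, CohB1.genLocus L (TwistAmple.homOfSec L σ₀)) from g)
  obtain ⟨n', rfl⟩ : ∃ n', n = n' + 1 := ⟨n - 1, by omega⟩
  apply P n' ((lunit hL (n' + 1)).hom.app ⊤ t') g
  rw [← QcExt.app_res, ht', twist_eq, secVal_homOfSec, hadef]
  exact (lunit_app hL (n' + 1) ha g).symm

end Subring

section Curves

variable (k : Type u) [Field k] (X : Scheme.{u}) [X.Over (Spec (CommRingCat.of k))]
  [IsProper (X ↘ (Spec (CommRingCat.of k)))]

include k in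
/-- the locus of generation of a section of an ample module contains no curve -/
theorem not_subset_genLocus (L : X.Modules) (hL : CohB1.IsAmple L)
    (s : Coh.structureModule X ⟶ L) (ξ : X)
    (hξ : topologicalKrullDim ↥(closure ({ξ} : Set X)) = ((1 : ℕ) : WithBot ℕ∞)) :
    ¬ (closure ({ξ} : Set X) ⊆ ((CohB1.genLocus L s : X.Opens) : Set X)) := by
  intro hsub
  haveI : IsNoetherian X := Euler.isNoetherian_of_proper k X
  set I := IntMult.ptIdeal ξ with hI
  let ι := I.subschemeι
  letI : I.subscheme.Over (Spec (CommRingCat.of k)) := ⟨ι ≫ (X ↘ Spec (CommRingCat.of k))⟩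
  haveI : IsProper (I.subscheme ↘ Spec (CommRingCat.of k)) := by
    change IsProper (ι ≫ (X ↘ Spec (CommRingCat.of k))); infer_instance
  haveI : IsNoetherian I.subscheme := Euler.isNoetherian_of_proper k I.subscheme
  haveI : IsIntegral I.subscheme := isIntegral_ptIdeal_subscheme ξ
  set LZ := (Scheme.Modules.pullback ι).obj L with hLZ
  have hLZamp : CohB1.IsAmple LZ :=
    PullAmple.isAmple_pullback_of_isEmbedding ι ι.isClosedEmbedding.isEmbedding hL
  have h2 : Set.range ι = closure {ξ} := range_ptIdeal_subschemeι ξ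
  have hdimZ : topologicalKrullDim I.subscheme = ((1 : ℕ) : WithBot ℕ∞) := by
    have h1 := IsHomeomorph.topologicalKrullDim_eq _
      (ι.isClosedEmbedding.isEmbedding.toHomeomorph).isHomeomorph
    rw [h1, h2]
    exact hξ
  -- the pulled back section generates everywhere
  let sZ : Coh.structureModule I.subscheme ⟶ LZ :=
    (unitIso ι).symm.hom ≫ (Scheme.Modules.pullback ι).map s
  have hgl : CohB1.genLocus LZ sZ = ⊤ := by
    rw [genLocus_pullback ι hL.1 s (unitIso ι).symm, eq_top_iff]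
    intro z _
    exact hsub (h2 ▸ Set.mem_range_self z)
  haveI : IsIso sZ := Groth.Agent.Lead.SurfSec.isIso_of_genLocus_eq_top sZ hgl
  have hOamp : CohB1.IsAmple (Coh.structureModule I.subscheme) :=
    TwistAmpleOpen.isAmple_of_iso (asIso sZ).symm hLZamp
  haveI : I.subscheme.IsQuasiAffine := GenLoc.isQuasiAffine_of_isAmple_O hOamp
  -- the ring of global functions is a field, so the scheme is a point
  have hF : IsField Γ(I.subscheme, ⊤) :=
    isField_of_universallyClosed k (I.subscheme ↘ Spec (CommRingCat.of k))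
  letI := hF.toField
  have hsub1 : Subsingleton (Spec Γ(I.subscheme, ⊤)) :=
    inferInstanceAs (Subsingleton (PrimeSpectrum Γ(I.subscheme, ⊤)))
  have hinj : Function.Injective I.subscheme.toSpecΓ :=
    I.subscheme.toSpecΓ.isOpenEmbedding.injective
  haveI : Subsingleton I.subscheme := ⟨fun x y => hinj (Subsingleton.elim _ _)⟩
  have h0 := topologicalKrullDim_zero_of_discreteTopology I.subscheme
  rw [hdimZ] at h0
  have : (1 : ℕ) ≤ 0 := by exact_mod_cast h0
  omega

end Curves

section Main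

variable (k : Type u) [Field k] (X : Scheme.{u}) [X.Over (Spec (CommRingCat.of k))]
  [IsProper (X ↘ (Spec (CommRingCat.of k)))]

include k in
/-- **a normally generated, globally generated ample invertible module on a scheme proper
over a field is very ample** -/
theorem exists_closedImmersion (L : X.Modules) (hL : CohB1.IsAmple L)
    (hgg : Curv2.IsGloballyGenerated L)
    (hng : ∀ (n : ℕ) (P : Γ(CohB1.tensorPow L (n + 1 + 1), ⊤) → Prop), P 0 →
      (∀ x y, P x → P y → P (x + y)) →
      (∀ (m : Γ(CohB1.tensorPow L (n + 1), ⊤)) (s : Γ(L, ⊤)),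
        P (tm (CohB1.tensorPow L (n + 1)) L ⊤ m s)) → ∀ t, P t) :
    ∃ (n : ℕ) (i : X ⟶ CohB1.ProjSpace n k), IsClosedImmersion i ∧
      i ≫ CohB1.ProjSpace.toSpec n k = X ↘ (Spec (CommRingCat.of k)) ∧
      Nonempty ((Scheme.Modules.pullback i).obj (Twist.twistProjSpace n k 1) ≅ L) := by
  classical
  haveI : IsNoetherian X := Euler.isNoetherian_of_proper k X
  haveI : CompactSpace X :=
    QuasiCompact.compactSpace_of_compactSpace (X ↘ Spec (CommRingCat.of k))
  haveI : QuasiSeparatedSpace X := quasiSeparatedSpace_of_isAmple hL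
  obtain ⟨N, φ, -, hcov⟩ := NM.exists_sections k X L hL.1 hgg 0
  haveI : Module.Finite k (Coh.HH X L 0) :=
    Groth.Agent.Lib.Helper4.T2Main1.t2 k X L (InvQc.isCoh_of_isInvertible _ hL.1) 0
  let d := Module.finrank k (Coh.HH X L 0)
  let β : Module.Basis (Fin d) k (Coh.HH X L 0) := Module.finBasis k (Coh.HH X L 0)
  let s : Fin (N + 1) → Γ(L, ⊤) := fun j =>
    (φ j).app ⊤ (show Γ(Coh.structureModule X, ⊤) from (1 : Γ(X, ⊤)))
  have hφ : ∀ j, TwistAmple.homOfSec L (s j) = φ j := fun j => (PFrame.eq_homOfSec (φ j)).symm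
  let σ : Fin (N + 1) ⊕ Fin d → Γ(L, ⊤) := Sum.elim s (fun l => HH0.equiv X L (β l))
  have hspan : ∀ τ : Γ(L, ⊤), ∃ c : Fin (N + 1) ⊕ Fin d → k,
      τ = ∑ l, ProjUP.toGlobal (X ↘ Spec (CommRingCat.of k)) (c l) • σ l := by
    intro τ
    refine ⟨Sum.elim 0 (fun l => β.repr ((HH0.equiv X L).symm τ) l), ?_⟩
    rw [Fintype.sum_sum_type]
    have h1 : (HH0.equiv X L).symm τ = ∑ j, β.repr ((HH0.equiv X L).symm τ) j • β j :=
      (β.sum_repr _).symm
    have h2 := congrArg (HH0.equiv X L) h1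
    rw [AddEquiv.apply_symm_apply, map_sum] at h2
    have h3 : ∑ a₁ : Fin (N + 1), ProjUP.toGlobal (X ↘ Spec (CommRingCat.of k))
        ((Sum.elim (0 : Fin (N + 1) → k) (fun l => β.repr ((HH0.equiv X L).symm τ) l))
          (Sum.inl a₁)) • σ (Sum.inl a₁) = 0 := by
      refine Finset.sum_eq_zero fun j _ => ?_
      change ProjUP.toGlobal (X ↘ Spec (CommRingCat.of k)) 0 • s j = 0
      rw [map_zero, zero_smul]
    rw [h3, zero_add]
    refine h2.trans (Finset.sum_congr rfl fun j _ => ?_)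
    rw [HH0.equiv_smul_over]
    rfl
  obtain ⟨n, r, hr, hrq, ⟨e⟩⟩ := VA8.exists_immersion_projSpace_of_charts'
    (X ↘ Spec (CommRingCat.of k)) hL.1 σ (fun a : Fin (N + 1) => Sum.inl a)
    (fun a => by
      change IsAffineOpen (CohB1.genLocus L (TwistAmple.homOfSec L (s a)))
      rw [hφ]
      exact NM.isAffineOpen_genLocus_of_no_curves k X L hL.1 N φ hcov a
        (fun ξ hξ => not_subset_genLocus k X L hL (φ a) ξ hξ))
    (fun x => by
      obtain ⟨j, hj⟩ := hcov x
      refine ⟨j, ?_⟩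
      change x ∈ CohB1.genLocus L (TwistAmple.homOfSec L (s j))
      rw [hφ]
      exact hj)
    (fun a U hU T hT1 hT2 =>
      subring_eq_top (X ↘ Spec (CommRingCat.of k)) hL.1 σ hspan hng (σ (Sum.inl a)) U hU T
        hT1 hT2)
  haveI := hr
  haveI : IsProper (r ≫ CohB1.ProjSpace.toSpec n k) := by rw [hrq]; infer_instance
  haveI : IsSeparated (CohB1.ProjSpace.toSpec n k) :=
    (VA5.isProper_toSpec n k).toIsSeparated
  haveI : IsClosedImmersion r :=
    Chow.isClosedImmersion_of_isProper_comp r (CohB1.ProjSpace.toSpec n k)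
  exact ⟨n, r, inferInstance, hrq, ⟨e.symm⟩⟩

end Main

end Groth.Agent.Helper1.VAng
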