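import Mathlib
import Groth.Agent.Lib.Helper1.VAng
import Groth.Agent.Lib.Lead.GZ3

/-!
# The tensor square of a globally generated ample module with vanishing `H¹` on a curve
is very ample (helper1)
-/

set_option backward.isDefEq.respectTransparency.types false
set_option synthInstance.maxHeartbeats 400000
set_option autoImplicit false
set_option linter.unusedSectionVars false
universe u
open CategoryTheory CategoryTheory.Limits AlgebraicGeometry TopologicalSpace Opposite

namespace Groth.Agent.Helper1.VAng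

open Groth.Agent.Helper1.QcCech Groth.Agent.Helper1.SubSh Groth.Agent.Helper1.LGen
open Groth.Agent.Helper1 Groth.Agent.Helper1.AmpleLib Groth.Agent.Helper1.TwForm
open Groth.Agent.Helper1.TmulLib Groth.Agent.Helper1.TwistSec Groth.Agent.Helper1.TensGen

section Phi

variable {X : Scheme.{u}} {L : X.Modules}

/-- `(L^{⊗2})^{⊗n} ≅ L^{⊗j}` for `j = 2n` -/
noncomputable def phi (hL : PicF.IsInvertible L) (n j : ℕ) (h : j = 2 * n) :
    CohB1.tensorPow (CohB1.tensorPow L 2) n ≅ CohB1.tensorPow L j :=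
  Tw.iso (((Tw.fst L L).pow 2).pow n)
    (((Tw.fst L L).pow j).cast (by subst h; push_cast; ring) (by simp))
    (locFrame_of_isInvertible hL hL)

theorem phi_hom_app (hL : PicF.IsInvertible L) (n j : ℕ) (h : j = 2 * n) {W : X.Opens}
    {a : Γ(L, W)} (ha : IsGen L W a) (r : Γ(X, W)) :
    (phi hL n j h).hom.app W (r • gpow (gpow a 2) n) = r • gpow a j := by
  let f : Frame L L W := ⟨a, a, ha, ha⟩
  have hh := Tw.iso_hom_θ (((Tw.fst L L).pow 2).pow n)
    (((Tw.fst L L).pow j).cast (by subst h; push_cast; ring) (by simp))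
    (locFrame_of_isInvertible hL hL) W f (show Γ(Coh.structureModule X, W) from r)
  have e1 : (((Tw.fst L L).pow 2).pow n).gen W f = gpow (gpow a 2) n := by
    rw [Tw.gen_pow, Tw.gen_pow, Tw.gen_fst]
  have e2 : ((Tw.fst L L).pow j).gen W f = gpow a j := by
    rw [Tw.gen_pow, Tw.gen_fst]
  have e3 : (((Tw.fst L L).pow j).cast (d₁' := (1 * (2 : ℕ) : ℤ) * n) (d₂' := (0 * (2 : ℕ) : ℤ) * n)
      (by subst h; push_cast; ring) (by simp)).θ W f
      (show Γ(Coh.structureModule X, W) from r) = r • gpow a j := by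
    change ((Tw.fst L L).pow j).θ W f (show Γ(Coh.structureModule X, W) from r) = _
    rw [Tw.θ_eq_smul_gen, e2]
  rw [Tw.θ_eq_smul_gen, e1] at hh
  exact hh.trans e3

theorem phi_inv_app (hL : PicF.IsInvertible L) (n j : ℕ) (h : j = 2 * n) {W : X.Opens}
    {a : Γ(L, W)} (ha : IsGen L W a) (r : Γ(X, W)) :
    (phi hL n j h).inv.app W (r • gpow a j) = r • gpow (gpow a 2) n := by
  rw [← phi_hom_app hL n j h ha r]
  exact congrArg (fun φ => (Scheme.Modules.Hom.app φ W) (r • gpow (gpow a 2) n))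
    (phi hL n j h).hom_inv_id

theorem res_tm_smul (M N : X.Modules) {W : X.Opens} (hW : W ≤ ⊤) (m : Γ(M, ⊤)) (n : Γ(N, ⊤))
    (μ ν : Γ(X, W)) (gM : Γ(M, W)) (gN : Γ(N, W)) (hm : res M hW m = μ • gM)
    (hn : res N hW n = ν • gN) :
    res (CohB1.tensorMod M N) hW (tm M N ⊤ m n) = (μ * ν) • tm M N W gM gN := by
  rw [res_tm, hm, hn, tm_smul_left, tm_smul_right, smul_smul]

/-- the key compatibility of the comparison isomorphisms with products of sections -/
theorem phi_inv_tm_tm (hL : PicF.IsInvertible L) (n j : ℕ) (h : j = 2 * (n + 1))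
    (h' : j + 1 + 1 = 2 * (n + 1 + 1))
    (z : Γ(CohB1.tensorPow L j, ⊤)) (s s' : Γ(L, ⊤)) :
    (phi hL (n + 1 + 1) (j + 1 + 1) h').inv.app ⊤
        (tm (CohB1.tensorPow L (j + 1)) L ⊤ (tm (CohB1.tensorPow L j) L ⊤ z s) s') =
      tm (CohB1.tensorPow (CohB1.tensorPow L 2) (n + 1)) (CohB1.tensorPow L 2) ⊤
        ((phi hL (n + 1) j h).inv.app ⊤ z)
        (tm (CohB1.tensorPow L 1) L ⊤ (tm (CohB1.tensorPow L 0) L ⊤ (one' ⊤) s) s') := by
  apply Tw.eq_of_framed (L₁ := L) (L₂ := L) (locFrame_of_isInvertible hL hL)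
  intro W hW f
  have ha := f.h₁
  generalize f.a₁ = a at ha
  obtain ⟨ζ, hζ⟩ := (isGen_gpow ha j).exists_coeff (res _ hW z)
  obtain ⟨x, hx⟩ := ha.exists_coeff (res L hW s)
  obtain ⟨x', hx'⟩ := ha.exists_coeff (res L hW s')
  have A1 : res (CohB1.tensorPow L (j + 1)) hW (tm (CohB1.tensorPow L j) L ⊤ z s) =
      (ζ * x) • gpow a (j + 1) :=
    res_tm_smul (CohB1.tensorPow L j) L hW z s ζ x (gpow a j) a hζ.symm hx.symm
  have A2 : res (CohB1.tensorPow L (j + 1 + 1)) hW
      (tm (CohB1.tensorPow L (j + 1)) L ⊤ (tm (CohB1.tensorPow L j) L ⊤ z s) s') =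
      ((ζ * x) * x') • gpow a (j + 1 + 1) :=
    res_tm_smul (CohB1.tensorPow L (j + 1)) L hW (tm (CohB1.tensorPow L j) L ⊤ z s) s'
      (ζ * x) x' (gpow a (j + 1)) a A1 hx'.symm
  have B0 : res (CohB1.tensorPow L 0) hW (one' ⊤) = (1 : Γ(X, W)) • gpow a 0 :=
    (res_one' hW).trans (one_smul _ _).symm
  have B1 : res (CohB1.tensorPow L 1) hW (tm (CohB1.tensorPow L 0) L ⊤ (one' ⊤) s) =
      (1 * x) • gpow a 1 :=
    res_tm_smul (CohB1.tensorPow L 0) L hW (one' ⊤) s 1 x (gpow a 0) a B0 hx.symm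
  have B2 : res (CohB1.tensorPow L 2) hW
      (tm (CohB1.tensorPow L 1) L ⊤ (tm (CohB1.tensorPow L 0) L ⊤ (one' ⊤) s) s') =
      ((1 * x) * x') • gpow a 2 :=
    res_tm_smul (CohB1.tensorPow L 1) L hW (tm (CohB1.tensorPow L 0) L ⊤ (one' ⊤) s) s'
      (1 * x) x' (gpow a 1) a B1 hx'.symm
  have C : res (CohB1.tensorPow (CohB1.tensorPow L 2) (n + 1)) hW
      ((phi hL (n + 1) j h).inv.app ⊤ z) = ζ • gpow (gpow a 2) (n + 1) := by
    rw [← QcExt.app_res, ← hζ]
    exact phi_inv_app hL (n + 1) j h ha ζ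
  have D : res (CohB1.tensorPow (CohB1.tensorPow L 2) (n + 1 + 1)) hW
      (tm (CohB1.tensorPow (CohB1.tensorPow L 2) (n + 1)) (CohB1.tensorPow L 2) ⊤
        ((phi hL (n + 1) j h).inv.app ⊤ z)
        (tm (CohB1.tensorPow L 1) L ⊤ (tm (CohB1.tensorPow L 0) L ⊤ (one' ⊤) s) s')) =
      (ζ * ((1 * x) * x')) • gpow (gpow a 2) (n + 1 + 1) :=
    res_tm_smul (CohB1.tensorPow (CohB1.tensorPow L 2) (n + 1)) (CohB1.tensorPow L 2) hW
      ((phi hL (n + 1) j h).inv.app ⊤ z)
      (tm (CohB1.tensorPow L 1) L ⊤ (tm (CohB1.tensorPow L 0) L ⊤ (one' ⊤) s) s')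
      ζ ((1 * x) * x') (gpow (gpow a 2) (n + 1)) (gpow a 2) C B2
  have E : res (CohB1.tensorPow (CohB1.tensorPow L 2) (n + 1 + 1)) hW
      ((phi hL (n + 1 + 1) (j + 1 + 1) h').inv.app ⊤
        (tm (CohB1.tensorPow L (j + 1)) L ⊤ (tm (CohB1.tensorPow L j) L ⊤ z s) s')) =
      ((ζ * x) * x') • gpow (gpow a 2) (n + 1 + 1) := by
    rw [← QcExt.app_res, A2]
    exact phi_inv_app hL (n + 1 + 1) (j + 1 + 1) h' ha _
  have hsc : (ζ * x) * x' = ζ * ((1 * x) * x') := by ring
  rw [hsc] at E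
  exact E.trans D.symm

end Phi

section Square

variable {X : Scheme.{u}}

/-- a span statement as an induction principle -/
theorem ind_of_span {M N : X.Modules}
    (hs : Submodule.span (X.ringCatSheaf.obj.obj (Opposite.op ⊤))
      (Set.range (fun p : M.val.obj (Opposite.op ⊤) × N.val.obj (Opposite.op ⊤) =>
        SecTwist.tmul M N ⊤ p.1 p.2)) = ⊤)
    (P : Γ(CohB1.tensorMod M N, ⊤) → Prop) (h0 : P 0) (hadd : ∀ x y, P x → P y → P (x + y))
    (hmul : ∀ (m : Γ(M, ⊤)) (n : Γ(N, ⊤)), P (tm M N ⊤ m n)) : ∀ t, P t := by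
  have key : ∀ t : (CohB1.tensorMod M N).val.obj (Opposite.op ⊤), P t := by
    intro t
    have ht : t ∈ Submodule.span (X.ringCatSheaf.obj.obj (Opposite.op ⊤))
        (Set.range (fun p : M.val.obj (Opposite.op ⊤) × N.val.obj (Opposite.op ⊤) =>
          SecTwist.tmul M N ⊤ p.1 p.2)) := by
      rw [hs]; trivial
    refine Submodule.closure_induction
      (p := fun (x : (CohB1.tensorMod M N).val.obj (Opposite.op ⊤)) _ => P x) h0
      (fun x y _ _ hx hy => hadd x y hx hy) ?_ ht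
    rintro r _ ⟨p, rfl⟩
    have e : r • SecTwist.tmul M N ⊤ p.1 p.2 = tm M N ⊤ (r • p.1) p.2 :=
      (tm_smul_left M N ⊤ r p.1 p.2).symm
    rw [e]
    exact hmul _ _
  exact fun t => key t

variable (k : Type u) [Field k] (X) [X.Over (Spec (CommRingCat.of k))]
  [IsProper (X ↘ (Spec (CommRingCat.of k)))]

include k in
/-- **the tensor square of a globally generated ample invertible module with vanishing `H¹`
on a proper scheme of dimension one is very ample** -/
theorem veryAmple_sq (hdim : topologicalKrullDim X = 1) (L : X.Modules)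
    (hL : PicF.IsInvertible L) (hgg : Curv2.IsGloballyGenerated L)
    (h1 : Subsingleton (Coh.HH X L 1)) (hample : CohB1.IsAmple L) :
    ∃ (n : ℕ) (i : X ⟶ CohB1.ProjSpace n k), IsClosedImmersion i ∧
      i ≫ CohB1.ProjSpace.toSpec n k = X ↘ (Spec (CommRingCat.of k)) ∧
      Nonempty ((Scheme.Modules.pullback i).obj (Twist.twistProjSpace n k 1) ≅
        CohB1.tensorPow L 2) := by
  have hloc := locFrame_of_isInvertible hL hL
  haveI : L.IsQuasicoherent := InvQc.isQuasicoherent_of_isInvertible L hL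
  have hG : CohB1.IsAmple (CohB1.tensorPow L 2) :=
    (isAmple_tensorPow_iff hL 2 (by omega)).1 hample
  have hGgg : Curv2.IsGloballyGenerated (CohB1.tensorPow L 2) :=
    (Groth.Agent.Lead.GZ.tensorPow_gg_qcoh L hgg 2).1
  have hm : Subsingleton (Coh.HH X (CohB1.tensorPow L 1) 1) := by
    let e : CohB1.tensorPow L 1 ≅ L :=
      Tw.iso ((Tw.fst L L).pow 1) ((Tw.fst L L).cast (by simp) (by simp)) hloc
    exact Dv.subsingleton_HH_of_iso e 1 h1
  have hspan := fun (j : ℕ) (hj : 1 + 1 ≤ j) =>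
    KosCurve.span_tmul_eq_top k X hdim L hL hgg 1 hm j hj
  refine exists_closedImmersion k X (CohB1.tensorPow L 2) hG hGgg ?_
  intro n P h0 hadd hmul t
  have hj' : 2 * (n + 1) + 1 + 1 = 2 * (n + 1 + 1) := by ring
  generalize hj : 2 * (n + 1) = j at hj'
  have hj2 : 2 ≤ j := by omega
  have key : ∀ t' : Γ(CohB1.tensorMod (CohB1.tensorPow L (j + 1)) L, ⊤),
      P ((phi hL (n + 1 + 1) (j + 1 + 1) hj').inv.app ⊤ t') := by
    refine ind_of_span (hspan (j + 1) (by omega)) _ ?_ ?_ ?_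
    · convert h0
      exact map_zero _
    · intro x y hx hy
      convert hadd _ _ hx hy
      exact map_add _ _ _
    · intro y s'
      revert y
      refine ind_of_span (hspan j (by omega)) _ ?_ ?_ ?_
      · convert h0
        have e0 : tm (CohB1.tensorPow L (j + 1)) L ⊤ 0 s' = 0 := tm_zero_left _ _ _ _
        exact (congrArg _ e0).trans (map_zero _)
      · intro y y' hy hy'
        convert hadd _ _ hy hy'
        have ea : tm (CohB1.tensorPow L (j + 1)) L ⊤ (y + y') s' =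
            tm (CohB1.tensorPow L (j + 1)) L ⊤ y s' + tm (CohB1.tensorPow L (j + 1)) L ⊤ y' s' :=
          tm_add_left _ _ _ _ _ _
        exact (congrArg _ ea).trans (map_add _ _ _)
      · intro z s
        rw [phi_inv_tm_tm hL n j hj.symm hj']
        exact hmul _ _
  have h2 := key ((phi hL (n + 1 + 1) (j + 1 + 1) hj').hom.app ⊤ t)
  have h3 : (phi hL (n + 1 + 1) (j + 1 + 1) hj').inv.app ⊤
      ((phi hL (n + 1 + 1) (j + 1 + 1) hj').hom.app ⊤ t) = t :=
    congrArg (fun φ => (Scheme.Modules.Hom.app φ ⊤) t)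
      (phi hL (n + 1 + 1) (j + 1 + 1) hj').hom_inv_id
  rw [h3] at h2
  exact h2

end Square

end Groth.Agent.Helper1.VAng
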