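import Mathlib
import Groth.Agent.Lib.Helper1.VAngB
import Groth.Agent.Lib.Helper1.VA3
import Groth.Agent.Lib.Helper1.CurveLin2
import Groth.Agent.Lib.Helper1.GenCover
import Groth.Agent.Lib.Helper1.Curve3
import Groth.Agent.Lib.Helper1.H1Ext
import Groth.Agent.Lib.Helper1.H1Surj
import Groth.Agent.Lib.Helper1.TwSecEx
import Groth.Agent.Lib.Helper1.NefGG2

/-!
# Powers of an ample invertible module with a regular section and vanishing `H¹` on a curve
(helper1)
-/

set_option backward.isDefEq.respectTransparency.types false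
set_option synthInstance.maxHeartbeats 400000
set_option autoImplicit false
set_option linter.unusedSectionVars false
universe u
open CategoryTheory CategoryTheory.Limits AlgebraicGeometry TopologicalSpace Opposite

namespace Groth.Agent.Helper1.RegSec

open Groth.Agent.Helper1.QcCech Groth.Agent.Helper1.SubSh Groth.Agent.Helper1.LGen
open Groth.Agent.Helper1.TmulLib Groth.Agent.Helper1 Groth.Agent.Helper1.TwForm
open Groth.Agent.Helper1.TensGen Groth.Agent.Lib.Helper4.TwExact Groth.Agent.Helper1.Dv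
open Groth.Agent.Lib.Helper4 Groth.Agent.Helper1.CurveAmp Groth.Agent.Helper1.FinSupp
open Groth.Agent.Helper1.Euler Groth.Agent.Helper1.Curve Groth.Agent.Helper1.CurveLin
open Groth.Agent.Helper1.AmpleLib Groth.Agent.Helper1.TwistSec Groth.Agent.Helper1.VA2

section Local

variable {X : Scheme.{u}}

theorem genAt_iff {L : X.Modules} (σ : Γ(L, ⊤)) (x : X) :
    GenAt L σ x ↔ x ∈ CohB1.genLocus L (TwistAmple.homOfSec L σ) := by
  rw [mem_genLocus_iff_isGen]
  constructor
  · rintro ⟨V, hxV, hV⟩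
    exact ⟨V, hxV, by rw [secVal_homOfSec]; exact hV⟩
  · rintro ⟨V, hxV, hV⟩
    rw [secVal_homOfSec] at hV
    exact ⟨V, hxV, hV⟩

/-- the locus of generation of a regular section of an invertible module is dense -/
theorem dense_genLocus_of_mono [IsNoetherian X] {L : X.Modules} (hL : PicF.IsInvertible L)
    (s : Coh.structureModule X ⟶ L) [Mono s] :
    Dense ((CohB1.genLocus L s : X.Opens) : Set X) := by
  rw [dense_iff_inter_open]
  intro V₀ hV₀ hne
  obtain ⟨x, hx⟩ := hne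
  obtain ⟨W, a, hxW, ha⟩ := exists_isGen hL x
  let V : X.Opens := W ⊓ ⟨V₀, hV₀⟩
  have hxV : x ∈ V := ⟨hxW, hx⟩
  have haV : IsGen L V (res L (inf_le_left : V ≤ W) a) := ha.res _
  obtain ⟨φ, hφ⟩ := haV.exists_coeff (secVal s V)
  have hloc := genLocus_inf_eq_basicOpen s haV φ hφ
  by_contra hemp
  have hbot : X.basicOpen φ = ⊥ := by
    rw [← hloc, eq_bot_iff]
    intro y hy
    exact (hemp ⟨y, hy.2.2, hy.1⟩).elim
  have hcV : IsCompact (V : Set X) := TopologicalSpace.NoetherianSpace.isCompact _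
  have hnil : IsNilpotent φ :=
    (Scheme.isNilpotent_iff_basicOpen_eq_bot_of_isCompact hcV φ).2 hbot
  have hinj := TwSecEx.app_injective_of_mono s V
  have hnzd : ∀ r : Γ(X, V), r * φ = 0 → r = 0 := by
    intro r hr
    have h1 : s.app V (show Γ(Coh.structureModule X, V) from r) = 0 := by
      rw [LGen.app_eq_smul, ← hφ, smul_smul, hr, zero_smul]
    have h2 : s.app V (show Γ(Coh.structureModule X, V) from r) = s.app V 0 := by
      rw [h1, map_zero]
    exact hinj h2
  obtain ⟨n, hn⟩ := hnil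
  have hone : ∀ n : ℕ, φ ^ n = 0 → (1 : Γ(X, V)) = 0 := by
    intro n
    induction n with
    | zero => intro h; rwa [pow_zero] at h
    | succ n ih => intro h; rw [pow_succ] at h; exact ih (hnzd _ h)
  exact one_ne_zero_sections V x hxV (hone n hn)

/-- the zeros of a regular section on a noetherian scheme of dimension `≤ 1`: finitely many
closed points -/
theorem compl_genLocus [IsNoetherian X] (hdim : topologicalKrullDim X ≤ 1) {L : X.Modules}
    (hL : PicF.IsInvertible L) (s : Coh.structureModule X ⟶ L) [Mono s] :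
    topologicalKrullDim ↥(((CohB1.genLocus L s : X.Opens) : Set X)ᶜ) ≤ 0 ∧
    (((CohB1.genLocus L s : X.Opens) : Set X)ᶜ).Finite ∧
      ∀ z ∈ (((CohB1.genLocus L s : X.Opens) : Set X)ᶜ), IsClosed ({z} : Set X) := by
  have hd := dim_compl_le_zero hdim (CohB1.genLocus L s) (dense_genLocus_of_mono hL s)
  have hcl : IsClosed (((CohB1.genLocus L s : X.Opens) : Set X)ᶜ) :=
    (CohB1.genLocus L s).isOpen.isClosed_compl
  have hpts : ∀ z ∈ (((CohB1.genLocus L s : X.Opens) : Set X)ᶜ), IsClosed ({z} : Set X) := by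
    intro z hz
    rw [← closure_subset_iff_isClosed]
    intro w hw
    have hwZ : w ∈ (((CohB1.genLocus L s : X.Opens) : Set X)ᶜ) :=
      (closure_minimal (Set.singleton_subset_iff.2 hz) hcl) hw
    have hzw : z ⤳ w := specializes_iff_mem_closure.2 hw
    have := eq_of_specializes_of_dim_le_zero _ hcl hd w z hwZ hz hzw
    rw [this]
    exact Set.mem_singleton w
  exact ⟨hd, GV1.finite_of_forall_isClosed_singleton _ hcl hpts, hpts⟩

/-- Nakayama step: a global section of `F ⊗ L` which agrees at `z`, modulo the image of `σ`,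
with a local generator, generates near `z` when `σ` does not -/
theorem genAt_of_germ_eq' {F L : X.Modules} (σ : Γ(L, ⊤))
    (t' : Γ(CohB1.tensorMod F L, ⊤)) (z : X) (hz : ¬ GenAt L σ z)
    (W : X.Opens) (hzW : z ∈ W) (b : Γ(F, W)) (hb : IsGen F W b) (a : Γ(L, W))
    (ha : IsGen L W a)
    (h : stalkL (cokernel.π (mulΓ F L σ)) z
        ((CohB1.tensorMod F L).presheaf.germ ⊤ z trivial t') =
      stalkL (cokernel.π (mulΓ F L σ)) z
        ((CohB1.tensorMod F L).presheaf.germ W z hzW (tm F L W b a))) :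
    GenAt (CohB1.tensorMod F L) t' z := by
  have h0 : stalkL (cokernel.π (mulΓ F L σ)) z
      ((CohB1.tensorMod F L).presheaf.germ ⊤ z trivial t' -
        (CohB1.tensorMod F L).presheaf.germ W z hzW (tm F L W b a)) = 0 := by
    rw [map_sub, h, sub_self]
  obtain ⟨y, hy⟩ := exists_stalkL_eq (mulΓ F L σ) z _ h0
  obtain ⟨W₁, hzW₁, c, rfl⟩ := TopCat.Presheaf.exists_germ_eq F.presheaf y
  rw [stalkL_germ] at hy
  have e1 : (CohB1.tensorMod F L).presheaf.germ ⊤ z trivial t' =
      (CohB1.tensorMod F L).presheaf.germ W z hzW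
        (res (CohB1.tensorMod F L) (le_top : W ≤ ⊤) t') :=
    (TopCat.Presheaf.germ_res_apply (CohB1.tensorMod F L).presheaf
      (homOfLE (le_top : W ≤ ⊤)) z hzW t').symm
  rw [e1, ← map_sub] at hy
  obtain ⟨V, hzV, i1, i2, hV⟩ :=
    TopCat.Presheaf.germ_eq (CohB1.tensorMod F L).presheaf z hzW₁ hzW _ _ hy
  have hV' : res (CohB1.tensorMod F L) i1.le ((mulΓ F L σ).app W₁ c) =
      res (CohB1.tensorMod F L) i2.le
        (res (CohB1.tensorMod F L) (le_top : W ≤ ⊤) t' - tm F L W b a) := hV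
  rw [← QcExt.app_res, mulΓ_app, map_sub, res_res, res_tm] at hV'
  have ha₂ : IsGen L V (res L i2.le a) := ha.res i2.le
  have hb₁ : IsGen F V (res F i2.le b) := hb.res i2.le
  have hb₂ : IsGen (CohB1.tensorMod F L) V (tm F L V (res F i2.le b) (res L i2.le a)) :=
    isGen_tm hb₁ ha₂
  obtain ⟨m, hm⟩ := ha₂.exists_coeff (res L (le_top : V ≤ ⊤) σ)
  obtain ⟨ρ, hρ⟩ := hb₂.exists_coeff (res (CohB1.tensorMod F L) (le_top : V ≤ ⊤) t')
  obtain ⟨γ, hγ⟩ := hb₁.exists_coeff (res F i1.le c)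
  rw [← hγ, ← hm, tm_smul_left, tm_smul_right, smul_smul, ← hρ] at hV'
  have h1 : ρ • tm F L V (res F i2.le b) (res L i2.le a) =
      (1 + γ * m) • tm F L V (res F i2.le b) (res L i2.le a) := by
    rw [add_smul, one_smul, hV']
    abel
  have h2 := (IsGen.bijective_self hb₂).1 h1
  have hm' : z ∉ X.basicOpen m := by
    intro hzm
    apply hz
    refine ⟨X.basicOpen m, hzm, ?_⟩
    have hle : X.basicOpen m ≤ V := X.basicOpen_le m
    have hu : IsUnit (resR hle m) := X.toRingedSpace.isUnit_res_basicOpen m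
    have e : res L (le_top : X.basicOpen m ≤ ⊤) σ =
        resR hle m • res L hle (res L i2.le a) := by
      rw [← res_smul, hm, res_res]
    rw [e]
    exact IsGen.smul_unit (ha₂.res hle) hu.unit
  have hρz : z ∈ X.basicOpen ρ := by
    rw [Scheme.mem_basicOpen _ _ _ hzV] at hm' ⊢
    rw [h2, map_add, map_one, map_mul]
    exact isUnit_one_add_of_not_isUnit _ _ hm'
  refine ⟨X.basicOpen ρ, hρz, ?_⟩
  have hle : X.basicOpen ρ ≤ V := X.basicOpen_le ρ
  have hu : IsUnit (resR hle ρ) := X.toRingedSpace.isUnit_res_basicOpen ρ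
  have e : res (CohB1.tensorMod F L) (le_top : X.basicOpen ρ ≤ ⊤) t' = resR hle ρ •
      res (CohB1.tensorMod F L) hle (tm F L V (res F i2.le b) (res L i2.le a)) := by
    rw [← res_smul, hρ, res_res]
  rw [e]
  exact IsGen.smul_unit (hb₂.res hle) hu.unit

/-- a global section of `F ⊗ L` generating at all the zeros of `σ` -/
theorem exists_genAt_section' {F L : X.Modules} (hF : PicF.IsInvertible F)
    (hL : PicF.IsInvertible L) (σ : Γ(L, ⊤)) (Z : Set X) (hZf : Z.Finite)
    (hZc : ∀ z ∈ Z, IsClosed ({z} : Set X)) (hσ : ∀ x, x ∉ Z → GenAt L σ x)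
    (hsurj0 : Function.Surjective ((cokernel.π (mulΓ F L σ)).app ⊤)) :
    ∃ t : Γ(CohB1.tensorMod F L, ⊤),
      ∀ z ∈ Z, ¬ GenAt L σ z → GenAt (CohB1.tensorMod F L) t z := by
  have hgen : ∀ z : Z, ∃ (W : X.Opens) (b : Γ(F, W)) (a : Γ(L, W)),
      z.1 ∈ W ∧ IsGen F W b ∧ IsGen L W a := fun z => exists_isGen₂ hF hL z.1
  choose W b a hzW hb ha using hgen
  obtain ⟨g, hg⟩ := exists_section_of_germs (cokernel (mulΓ F L σ)) Z hZf hZc
    (fun x hx => not_not.1 (notMem_support_cokernel_of_genAt F L σ x (hσ x hx)))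
    (fun z => stalkL (cokernel.π (mulΓ F L σ)) z.1
      ((CohB1.tensorMod F L).presheaf.germ (W z) z.1 (hzW z) (tm F L (W z) (b z) (a z))))
  obtain ⟨t', ht'⟩ := hsurj0 g
  refine ⟨t', fun z hz hnz => ?_⟩
  refine genAt_of_germ_eq' σ t' z hnz (W ⟨z, hz⟩) (hzW ⟨z, hz⟩) (b ⟨z, hz⟩) (hb ⟨z, hz⟩)
    (a ⟨z, hz⟩) (ha ⟨z, hz⟩) ?_
  rw [stalkL_germ, ht']
  exact hg ⟨z, hz⟩

/-- the powers of a global section -/
noncomputable def upow {L : X.Modules} (σ : Γ(L, ⊤)) : ∀ m : ℕ, Γ(CohB1.tensorPow L m, ⊤)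
  | 0 => one' ⊤
  | m + 1 => tm (CohB1.tensorPow L m) L ⊤ (upow σ m) σ

theorem genLocus_upow {L : X.Modules} (hL : PicF.IsInvertible L) (σ : Γ(L, ⊤)) (m : ℕ) :
    CohB1.genLocus L (TwistAmple.homOfSec L σ) ≤
      CohB1.genLocus (CohB1.tensorPow L m) (TwistAmple.homOfSec _ (upow σ m)) := by
  induction m with
  | zero =>
    intro x _
    rw [mem_genLocus_iff_isGen]
    refine ⟨⊤, trivial, ?_⟩
    rw [secVal_homOfSec]
    have e : res (CohB1.tensorPow L 0) (le_top : (⊤ : X.Opens) ≤ ⊤) (upow σ 0) = one' ⊤ :=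
      res_self _ _ _
    rw [e]
    exact isGen_one' ⊤
  | succ m ih =>
    intro x hx
    have e : secVal (TwistAmple.homOfSec L σ) ⊤ = σ := by
      rw [secVal_homOfSec]
      exact res_self L le_top σ
    have h2 := genLocus_homOfSec_tm (isInvertible_tensorPow hL m) hL (upow σ m)
      (TwistAmple.homOfSec L σ)
    rw [e] at h2
    change x ∈ CohB1.genLocus (CohB1.tensorMod (CohB1.tensorPow L m) L)
      (TwistAmple.homOfSec _ (tm (CohB1.tensorPow L m) L ⊤ (upow σ m) σ))
    rw [h2]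
    exact ⟨ih hx, hx⟩

/-- `(L^{⊗3})^{⊗2} ≅ L^{⊗6}` -/
noncomputable def pow32 {L : X.Modules} (hL : PicF.IsInvertible L) :
    CohB1.tensorPow (CohB1.tensorPow L 3) 2 ≅ CohB1.tensorPow L 6 :=
  Tw.iso (((Tw.fst L L).pow 3).pow 2)
    (((Tw.fst L L).pow 6).cast (by norm_num) (by simp))
    (locFrame_of_isInvertible hL hL)

end Local

section Global

variable (k : Type u) [Field k] (X : Scheme.{u}) [X.Over (Spec (CommRingCat.of k))]
  [IsProper (X ↘ (Spec (CommRingCat.of k)))]

include k in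
/-- one step: sections map onto the cokernel of multiplication by `σ`, and `H¹` vanishes -/
theorem step_F (hdim : topologicalKrullDim X ≤ 1) {L : X.Modules} (hL : PicF.IsInvertible L)
    (σ : Γ(L, ⊤)) (Z : Set X) (hZd : topologicalKrullDim ↥Z ≤ 0)
    (hσ : ∀ x, x ∉ Z → GenAt L σ x)
    {F : X.Modules} (hF : PicF.IsInvertible F) (hF1 : Subsingleton (Coh.HH X F 1)) :
    Function.Surjective ((cokernel.π (mulΓ F L σ)).app ⊤) ∧
      Subsingleton (Coh.HH X (CohB1.tensorMod F L) 1) := by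
  haveI : AlgebraicGeometry.IsNoetherian X := isNoetherian_of_proper k X
  have hd1 : topologicalKrullDim X ≤ ((1 : ℕ) : WithBot ℕ∞) :=
    hdim.trans (le_of_eq Nat.cast_one.symm)
  have hFc : Coh.IsCoh F := InvQc.isCoh_of_isInvertible _ hF
  have hFLc : Coh.IsCoh (CohB1.tensorMod F L) :=
    InvQc.isCoh_of_isInvertible _ (isInvertible_tensorMod hF hL)
  let S : ShortComplex X.Modules := ShortComplex.mk (Abelian.image.ι (mulΓ F L σ))
    (cokernel.π (mulΓ F L σ)) (kernel.condition (cokernel.π (mulΓ F L σ)))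
  have hS : S.Exact :=
    ShortComplex.exact_of_f_is_kernel _ (kernelIsKernel (cokernel.π (mulΓ F L σ)))
  haveI : Mono S.f := inferInstanceAs (Mono (Abelian.image.ι (mulΓ F L σ)))
  haveI : Epi S.g := inferInstanceAs (Epi (cokernel.π (mulΓ F L σ)))
  have hSE : S.ShortExact := { exact := hS }
  have hI1 : Subsingleton (Coh.HH X (Abelian.image (mulΓ F L σ)) 1) :=
    NefGG.subsingleton_H1_of_epi k X hd1 (Abelian.factorThruImage (mulΓ F L σ)) inferInstance hF1
  have hsurj : Function.Surjective (S.g.app ⊤) := H1Surj.app_top_surjective_of_H1 hSE hI1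
  have hCc : Coh.IsCoh (cokernel (mulΓ F L σ)) := FtLocal.isCoh_cokernel hFc hFLc _
  have hsupp : CohB1.support (cokernel (mulΓ F L σ)) ⊆ Z := by
    intro x hx
    by_contra hxZ
    exact notMem_support_cokernel_of_genAt F L σ x (hσ x hxZ) hx
  have hCd : topologicalKrullDim ↥(CohB1.support (cokernel (mulΓ F L σ))) ≤ 0 :=
    (krullDim_le_of_subset hsupp).trans hZd
  have hC1 : Subsingleton (Coh.HH X (cokernel (mulΓ F L σ)) 1) :=
    subsingleton_HH_of_dim_le_zero _ hCc hCd 1 one_pos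
  exact ⟨hsurj, H1Ext.subsingleton_HH_mid hSE 1 hI1 hC1⟩

include k in
theorem h1_pow (hdim : topologicalKrullDim X ≤ 1) {L : X.Modules} (hL : PicF.IsInvertible L)
    (σ : Γ(L, ⊤)) (Z : Set X) (hZd : topologicalKrullDim ↥Z ≤ 0)
    (hσ : ∀ x, x ∉ Z → GenAt L σ x) (h1 : Subsingleton (Coh.HH X L 1)) :
    ∀ m : ℕ, Subsingleton (Coh.HH X (CohB1.tensorPow L (m + 1)) 1)
  | 0 => by
    obtain ⟨e⟩ := TwistAmpleOpen.nonempty_tensorMod_unit_iso L
    exact Dv.subsingleton_HH_of_iso e 1 h1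
  | m + 1 => (step_F k X hdim hL σ Z hZd hσ (isInvertible_tensorPow hL (m + 1))
      (h1_pow hdim hL σ Z hZd hσ h1 m)).2

include k in
/-- the powers `L^{⊗ m}`, `m ≥ 2`, of an invertible module with a regular section and vanishing
`H¹` on a curve are globally generated, and all positive powers have vanishing `H¹` -/
theorem gg_pow (hdim : topologicalKrullDim X ≤ 1) {L : X.Modules} (hL : PicF.IsInvertible L)
    (σ : Γ(L, ⊤)) (hσm : Mono (TwistAmple.homOfSec L σ)) (h1 : Subsingleton (Coh.HH X L 1))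
    (m : ℕ) :
    Curv2.IsGloballyGenerated (CohB1.tensorPow L (m + 1 + 1)) ∧
      Subsingleton (Coh.HH X (CohB1.tensorPow L (m + 1)) 1) := by
  haveI : AlgebraicGeometry.IsNoetherian X := isNoetherian_of_proper k X
  haveI := hσm
  obtain ⟨hZd, hZf, hZc⟩ := compl_genLocus hdim hL (TwistAmple.homOfSec L σ)
  have hσ : ∀ x, x ∉ (((CohB1.genLocus L (TwistAmple.homOfSec L σ) : X.Opens) : Set X)ᶜ) →
      GenAt L σ x := fun x hx => (genAt_iff σ x).2 (not_not.1 hx)
  have hF := isInvertible_tensorPow hL (m + 1)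
  have hF1 := h1_pow k X hdim hL σ _ hZd hσ h1 m
  refine ⟨?_, hF1⟩
  obtain ⟨hsurj, -⟩ := step_F k X hdim hL σ _ hZd hσ hF hF1
  obtain ⟨t, ht⟩ := exists_genAt_section' hF hL σ _ hZf hZc hσ hsurj
  apply GenCover.isGloballyGenerated
  refine ⟨isInvertible_tensorPow hL (m + 1 + 1), fun x => ?_⟩
  by_cases hx : x ∈ CohB1.genLocus L (TwistAmple.homOfSec L σ)
  · exact ⟨TwistAmple.homOfSec _ (upow σ (m + 1 + 1)), genLocus_upow hL σ (m + 1 + 1) hx⟩
  · refine ⟨TwistAmple.homOfSec _ t, ?_⟩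
    have h3 := ht x hx (fun hg => hx ((genAt_iff σ x).1 hg))
    exact (genAt_iff t x).1 h3

include k in
/-- **the sixth power of an ample invertible module with a regular section and vanishing `H¹`
on a proper scheme of dimension one is very ample** -/
theorem veryAmple_six (hdim : topologicalKrullDim X = 1) (L : X.Modules)
    (hL : PicF.IsInvertible L) (s : Coh.structureModule X ⟶ L) (hs : Mono s)
    (h1 : Subsingleton (Coh.HH X L 1)) (hample : CohB1.IsAmple L) :
    ∃ (n : ℕ) (i : X ⟶ CohB1.ProjSpace n k), IsClosedImmersion i ∧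
      i ≫ CohB1.ProjSpace.toSpec n k = X ↘ (Spec (CommRingCat.of k)) ∧
      Nonempty ((Scheme.Modules.pullback i).obj (Twist.twistProjSpace n k 1) ≅
        CohB1.tensorPow L 6) := by
  have hσm : Mono (TwistAmple.homOfSec L
      (s.app ⊤ (show Γ(Coh.structureModule X, ⊤) from (1 : Γ(X, ⊤))))) := by
    rw [← PFrame.eq_homOfSec s]
    exact hs
  have hN := isInvertible_tensorPow hL 3
  have hgg : Curv2.IsGloballyGenerated (CohB1.tensorPow L 3) :=
    (gg_pow k X hdim.le hL _ hσm h1 1).1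
  have hN1 : Subsingleton (Coh.HH X (CohB1.tensorPow L 3) 1) :=
    (gg_pow k X hdim.le hL _ hσm h1 2).2
  have hNa : CohB1.IsAmple (CohB1.tensorPow L 3) :=
    (isAmple_tensorPow_iff hL 3 (by omega)).1 hample
  obtain ⟨n, i, hi, hiq, ⟨e⟩⟩ := VAng.veryAmple_sq (k := k) (X := X) hdim
    (CohB1.tensorPow L 3) hN hgg hN1 hNa
  exact ⟨n, i, hi, hiq, ⟨e ≪≫ pow32 hL⟩⟩

end Global

end Groth.Agent.Helper1.RegSec
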