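import Mathlib
import Groth.Agent.Lib.Helper1.ClImmSec
import Groth.Agent.Lib.Helper1.BCurve2
import Groth.Agent.Lib.Helper1.RegSec
import Groth.Agent.Lib.Helper1.SerreCrit
import Groth.Agent.Lib.Helper1.InvFt

/-!
# The canonical section of `O(D)` for an invertible ideal sheaf, and the restriction sequence
`0 → F → F ⊗ O(D) → i_* i^* (F ⊗ O(D)) → 0` (helper1)
-/

set_option linter.style.haveILetI false
set_option linter.unusedVariables false
set_option linter.unusedSectionVars false
set_option linter.unusedSimpArgs false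
set_option autoImplicit false
set_option backward.isDefEq.respectTransparency.types false
set_option synthInstance.maxHeartbeats 400000
set_option maxHeartbeats 1600000

universe u

open CategoryTheory CategoryTheory.Limits AlgebraicGeometry Opposite TopologicalSpace
open Groth.Agent.Helper1 Groth.Agent.Helper1.QcCech Groth.Agent.Helper1.PullSec
open Groth.Agent.Helper1.LGen Groth.Agent.Helper1.TmulLib Groth.Agent.Helper1.TensGen
open Groth.Agent.Lead.IdM Groth.Agent.Helper1.CurveAmp Groth.Agent.Helper1.CurveLin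
open Groth.Agent.Lib.Helper4.TwExact Groth.Agent.Helper1.TwForm Groth.Agent.Helper1.AmpleLib
open Groth.Agent.Helper1.IdealMul

namespace Groth.Agent.Helper1.CartSec

variable {X : Scheme.{u}}

/-- converse of `isGen_tm`, for the second factor -/
theorem isGen_right_of_isGen_tm {M N : X.Modules} {W : X.Opens} {τ : Γ(M, W)} {σ : Γ(N, W)}
    (h : IsGen (CohB1.tensorMod M N) W (tm M N W τ σ)) (hτ : IsGen M W τ) : IsGen N W σ := by
  intro V hV
  have h1 := bijective_tm_of_isGen_left N (hτ.res hV)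
  have h2 := h V hV
  have : (fun r : Γ(X, V) => r • res (CohB1.tensorMod M N) hV (tm M N W τ σ)) =
      (fun n : Γ(N, V) => tm M N V (res M hV τ) n) ∘ (fun r : Γ(X, V) => r • res N hV σ) := by
    funext r
    change _ = tm M N V (res M hV τ) (r • res N hV σ)
    rw [tm_smul_right, res_tm]
  rw [this] at h2
  exact (Function.Bijective.of_comp_iff' h1 _).1 h2

variable (I : X.IdealSheafData) (L : X.Modules)

/-- the contraction `L ⊗ I ⟶ L` -/
noncomputable def cst : CohB1.tensorMod L (ClSub.idealMod I) ⟶ L :=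
  KoszTw.tensorMap (𝟙 L) (ClSub.idealModι I) ≫ (SecTwist.unitorR L).hom

theorem cst_tm (U : X.Opens) (l : Γ(L, U)) (b : Γ(ClSub.idealMod I, U)) :
    (cst I L).app U (tm L (ClSub.idealMod I) U l b) = ιL I U b • l := by
  change (SecTwist.unitorR L).hom.app U ((KoszTw.tensorMap (𝟙 L) (ClSub.idealModι I)).app U
    (SecTwist.tmul L (ClSub.idealMod I) U l b)) = _
  rw [KoszTw.tensorMap_tmul]
  exact SecTwist.unitorR_tmul L U l _

variable (e : CohB1.tensorMod L (ClSub.idealMod I) ≅ Coh.structureModule X)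

/-- the canonical section of `L = O(D)` -/
noncomputable def sec : Γ(L, ⊤) := (cst I L).app ⊤ (e.inv.app ⊤ (one' ⊤))

/-- the local structure of the canonical section: locally it is a generator of the ideal times
a generator of `L` -/
theorem loc (hL : PicF.IsInvertible L) (U : X.Opens) (x : X) (hx : x ∈ U) :
    ∃ (W : X.Opens) (hW : W ≤ U) (a : Γ(L, W)) (b : Γ(ClSub.idealMod I, W)), x ∈ W ∧
      IsAffineOpen W ∧ IsGen L W a ∧ IsGen (ClSub.idealMod I) W b ∧
      res L le_top (sec I L e) = ιL I W b • a := by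
  obtain ⟨V0, hV0, a0, hxV0, ha0⟩ := exists_gen_le (locGen_of_isInvertible L hL) U x hx
  obtain ⟨_, ⟨W, hWaff, rfl⟩, hxW, hWV0⟩ :=
    X.isBasis_affineOpens.exists_subset_of_mem_open hxV0 V0.isOpen
  have ha : IsGen L W (res L hWV0 a0) := ha0.res hWV0
  have hg : IsGen (CohB1.tensorMod L (ClSub.idealMod I)) W (e.inv.app W (one' W)) :=
    CurveLin.IsGen.of_iso e.symm (isGen_one' W)
  obtain ⟨b, hb⟩ := (bijective_tm_of_isGen_left (ClSub.idealMod I) ha).2 (e.inv.app W (one' W))
  have hb' : tm L (ClSub.idealMod I) W (res L hWV0 a0) b = e.inv.app W (one' W) := hb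
  have hbgen : IsGen (ClSub.idealMod I) W b := isGen_right_of_isGen_tm (hb'.symm ▸ hg) ha
  refine ⟨W, hWV0.trans hV0, res L hWV0 a0, b, hxW, hWaff, ha, hbgen, ?_⟩
  unfold sec
  rw [← QcExt.app_res, ← QcExt.app_res, res_one', ← hb', cst_tm]

/-- the canonical section generates `L` away from the support of the ideal -/
theorem genAt_sec (hL : PicF.IsInvertible L) (x : X) (hx : x ∉ (I.support : Set X)) :
    GenAt L (sec I L e) x := by
  obtain ⟨W, -, a, b, hxW, -, ha, hb, hσ⟩ := loc I L e hL ⊤ x trivial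
  let Uc : X.Opens := ⟨(I.support : Set X)ᶜ, I.support.isClosed.isOpen_compl⟩
  have hW'le : W ⊓ Uc ≤ W := inf_le_left
  have hU : ∀ z ∈ W ⊓ Uc, z ∉ (I.support : Set X) := fun z hz => hz.2
  obtain ⟨y, hy⟩ := BCurve.exists_ιL_eq I (W ⊓ Uc) hU 1
  have hb' := hb.res hW'le
  obtain ⟨t, ht⟩ := hb'.exists_coeff y
  have hunit : t * ιL I (W ⊓ Uc) (res _ hW'le b) = 1 := by
    rw [← hy, ← ht, map_smul, smul_eq_mul]
  refine ⟨W ⊓ Uc, ⟨hxW, hx⟩, ?_⟩
  have h1 : res L (le_top : W ⊓ Uc ≤ ⊤) (sec I L e) =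
      ιL I (W ⊓ Uc) (res _ hW'le b) • res L hW'le a := by
    rw [← res_res L le_top hW'le, hσ, res_smul, ιL_res']
  rw [h1]
  exact TwForm.IsGen.smul_unit (ha.res hW'le) ⟨_, t, by rw [mul_comm]; exact hunit, hunit⟩

/-- multiplication by the canonical section is a monomorphism on invertible modules -/
theorem mono_mulΓ (hL : PicF.IsInvertible L) {F : X.Modules} (hF : PicF.IsInvertible F) :
    Mono (mulΓ F L (sec I L e)) := by
  apply SubSh.mono_of_app_injective
  intro O
  rw [injective_iff_map_eq_zero]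
  intro m hm
  apply TwistSec.eq_of_locally F
  intro x hx
  obtain ⟨V1, hV1, c, hxV1, hc⟩ := exists_gen_le (locGen_of_isInvertible F hF) O x hx
  obtain ⟨W, hW, a, b, hxW, -, ha, hb, hσ⟩ := loc I L e hL V1 x hxV1
  refine ⟨W, hW.trans hV1, hxW, ?_⟩
  have hc' := hc.res hW
  obtain ⟨r, hr⟩ := hc'.exists_coeff (res F (hW.trans hV1) m)
  have h1 : (mulΓ F L (sec I L e)).app W (res F (hW.trans hV1) m) = 0 := by
    rw [QcExt.app_res, hm, map_zero]
  rw [mulΓ_app, hσ, ← hr, tm_smul_left, tm_smul_right, smul_smul] at h1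
  have hgen := isGen_tm hc' ha
  have h2 : r * ιL I W b = 0 := by
    apply ThickLift.IsGen.smul_injective hgen
    rw [h1, zero_smul]
  have h4 : r • b = 0 := by
    apply ιL_injective I W
    rw [map_smul, smul_eq_mul, map_zero]
    exact h2
  have h5 : r = 0 := by
    apply ThickLift.IsGen.smul_injective hb
    rw [h4, zero_smul]
  rw [← hr, h5, zero_smul, map_zero]

/-- multiplication by the canonical section vanishes on the closed subscheme -/
theorem mulΓ_eta (hL : PicF.IsInvertible L) (F : X.Modules) :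
    mulΓ F L (sec I L e) ≫ ClImmSec.eta I.subschemeι (CohB1.tensorMod F L) = 0 := by
  apply Scheme.Modules.hom_ext
  intro O
  ext m
  change (ClImmSec.eta I.subschemeι (CohB1.tensorMod F L)).app O
    ((mulΓ F L (sec I L e)).app O m) = 0
  apply TwistSec.eq_of_locally
  intro x hx
  obtain ⟨W, hW, a, b, hxW, -, ha, hb, hσ⟩ := loc I L e hL O x hx
  refine ⟨W, hW, hxW, ?_⟩
  rw [map_zero, ← QcExt.app_res, ← QcExt.app_res, mulΓ_app, hσ, tm_smul_right]
  change PullSec.σ I.subschemeι (CohB1.tensorMod F L) W (ιL I W b • _) = 0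
  rw [PullSec.σ_smul]
  have h0 : (I.subschemeι.app W).hom (ιL I W b) = 0 := IdealModL.toSubscheme_ι I W b
  rw [h0, zero_smul]

/-- **the restriction sequence** `0 → F → F ⊗ L → i_* i^* (F ⊗ L) → 0` -/
theorem shortExact (hL : PicF.IsInvertible L) {F : X.Modules} (hF : PicF.IsInvertible F) :
    (ShortComplex.mk (mulΓ F L (sec I L e))
      (ClImmSec.eta I.subschemeι (CohB1.tensorMod F L)) (mulΓ_eta I L e hL F)).ShortExact := by
  haveI hq : (CohB1.tensorMod F L).IsQuasicoherent :=
    InvQc.isQuasicoherent_of_isInvertible _ (isInvertible_tensorMod hF hL)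
  haveI hmono : Mono (ShortComplex.mk (mulΓ F L (sec I L e))
      (ClImmSec.eta I.subschemeι (CohB1.tensorMod F L)) (mulΓ_eta I L e hL F)).f :=
    mono_mulΓ I L e hL hF
  haveI hepi : Epi (ShortComplex.mk (mulΓ F L (sec I L e))
      (ClImmSec.eta I.subschemeι (CohB1.tensorMod F L)) (mulΓ_eta I L e hL F)).g :=
    ClImmSec.epi_eta I.subschemeι (CohB1.tensorMod F L)
  refine { exact := ?_ }
  rw [ShortComplex.exact_iff_epi_kernel_lift]
  change Epi (kernel.lift (ClImmSec.eta I.subschemeι (CohB1.tensorMod F L))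
    (mulΓ F L (sec I L e)) (mulΓ_eta I L e hL F))
  apply SerreCrit.epi_of_locally_surjective
  intro U t x hx
  obtain ⟨W, hW, a, b, hxW, hWaff, ha, hb, hσ⟩ := loc I L e hL U x hx
  refine ⟨W, hW, hxW, ?_⟩
  have key : ∀ n' ∈ (RingHom.ker (I.subschemeι.app W).hom) •
      (⊤ : Submodule Γ(X, W) Γ(CohB1.tensorMod F L, W)),
      ∃ m : Γ(F, W), (mulΓ F L (sec I L e)).app W m = n' := by
    intro n' hn'
    refine Submodule.smul_induction_on hn' (fun r hr n'' _ => ?_) ?_
    · obtain ⟨y, hy⟩ := IdealModL.exists_of_app_eq_zero I W r (RingHom.mem_ker.1 hr)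
      obtain ⟨t', ht'⟩ := hb.exists_coeff y
      obtain ⟨m'', hm''⟩ := (bijective_tm_of_isGen F ha).2 n''
      refine ⟨t' • m'', ?_⟩
      have hm3 : tm F L W m'' a = n'' := hm''
      have hr' : r = t' * ιL I W b := by
        have h1 : ιL I W y = r := hy
        rw [← h1, ← ht', map_smul, smul_eq_mul]
      rw [mulΓ_app, hσ, tm_smul_left, tm_smul_right, hm3, smul_smul, hr']
    · rintro n1 n2 ⟨m1, h1⟩ ⟨m2, h2⟩
      exact ⟨m1 + m2, by rw [map_add, h1, h2]⟩
  have hn0 : PullSec.σ I.subschemeι (CohB1.tensorMod F L) W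
      ((kernel.ι (ClImmSec.eta I.subschemeι (CohB1.tensorMod F L))).app W
        (res _ hW t)) = 0 := by
    have h := congrArg (fun φ => Scheme.Modules.Hom.app φ W (res _ hW t))
      (kernel.condition (ClImmSec.eta I.subschemeι (CohB1.tensorMod F L)))
    exact h
  have hmem := ClImmSec.mem_of_σ_eq_zero I.subschemeι (CohB1.tensorMod F L) hWaff _ hn0
  obtain ⟨m, hm⟩ := key _ hmem
  refine ⟨m, ?_⟩
  apply TwSecEx.app_injective_of_mono
    (kernel.ι (ClImmSec.eta I.subschemeι (CohB1.tensorMod F L))) W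
  have hl : kernel.lift (ClImmSec.eta I.subschemeι (CohB1.tensorMod F L))
      (mulΓ F L (sec I L e)) (mulΓ_eta I L e hL F) ≫
      kernel.ι (ClImmSec.eta I.subschemeι (CohB1.tensorMod F L)) = mulΓ F L (sec I L e) :=
    kernel.lift_ι _ _ _
  have h2 := congrArg (fun φ => Scheme.Modules.Hom.app φ W m) hl
  exact h2.trans hm

end Groth.Agent.Helper1.CartSec
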