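import Mathlib
import Groth.Prelude.Def_BlowUp2
import Groth.Agent.Lib.Helper1.ArVert1

/-!
# Fibres of a horizontal closed subscheme of a fibred surface are finite (helper1)
-/

set_option backward.isDefEq.respectTransparency.types false
set_option synthInstance.maxHeartbeats 400000
set_option maxHeartbeats 1600000
set_option autoImplicit false
set_option linter.unusedSectionVars false
set_option linter.style.haveILetI false
set_option linter.unusedVariables false
set_option linter.unusedSimpArgs false
universe u
open CategoryTheory CategoryTheory.Limits AlgebraicGeometry Opposite TopologicalSpace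
open Groth.Agent.Helper1

namespace Groth.Agent.Helper1.HorizFib

section Top

/-- a quasi-sober space in which specialization is trivial has dimension at most zero -/
theorem dim_le_zero_of_specializes_eq {F : Type*} [TopologicalSpace F] [QuasiSober F]
    (h : ∀ a b : F, a ⤳ b → a = b) : topologicalKrullDim F ≤ 0 := by
  unfold topologicalKrullDim
  rw [Order.krullDim_nonpos_iff_forall_isMax]
  intro Z Z' hZZ'
  obtain ⟨z, hz⟩ := QuasiSober.sober Z.isIrreducible Z.isClosed
  obtain ⟨z', hz'⟩ := QuasiSober.sober Z'.isIrreducible Z'.isClosed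
  have h1 : z' ⤳ z := by
    rw [specializes_iff_mem_closure, hz'.def]
    exact hZZ' hz.mem
  have h2 := h z' z h1
  have e : (Z' : Set F) = (Z : Set F) := by rw [← hz'.def, ← hz.def, h2]
  intro x hx
  have hx' : x ∈ (Z' : Set F) := hx
  rw [e] at hx'
  exact hx'

/-- a chain of two proper specializations forces dimension at least two -/
theorem two_le_dim_of_chain {T : Type*} [TopologicalSpace T] [T0Space T] (w0 w1 w2 : T)
    (h10 : w1 ⤳ w0) (h21 : w2 ⤳ w1) (hne10 : w1 ≠ w0) (hne21 : w2 ≠ w1) :
    (2 : WithBot ℕ∞) ≤ topologicalKrullDim T := by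
  let c : T → IrreducibleCloseds T := fun w =>
    ⟨closure {w}, isIrreducible_singleton.closure, isClosed_closure⟩
  have hlt : ∀ a b : T, b ⤳ a → b ≠ a → c a < c b := by
    intro a b hba hne
    refine lt_of_le_of_ne ?_ ?_
    · intro x hx
      exact (specializes_iff_closure_subset.1 hba) hx
    · intro he
      have h1 : closure ({a} : Set T) = closure {b} :=
        congrArg (fun Z : IrreducibleCloseds T => (Z : Set T)) he
      have h2 : a ⤳ b := by
        rw [specializes_iff_mem_closure, h1]
        exact subset_closure rfl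
      exact hne (hba.antisymm h2).eq
  have hsm : StrictMono (![c w0, c w1, c w2] : Fin 3 → IrreducibleCloseds T) := by
    rw [Fin.strictMono_iff_lt_succ]
    intro i
    fin_cases i
    · exact hlt w0 w1 h10 hne10
    · exact hlt w1 w2 h21 hne21
  have h := Order.LTSeries.length_le_krullDim (LTSeries.mk 2 _ hsm)
  exact h

end Top

section Sch

/-- the image of an effective Cartier divisor in an integral scheme is not everything -/
theorem range_ne_univ {X D : Scheme.{u}} [IsIntegral X] (d : D ⟶ X) [IsClosedImmersion d]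
    (hD : BlowUp.IsEffCartierIdeal d.ker) : Set.range d.base ≠ Set.univ := by
  intro h
  obtain ⟨U, hxU, f, hf, hI⟩ := hD (genericPoint X)
  haveI : Nonempty U.1 := ⟨⟨genericPoint X, hxU⟩⟩
  have hf0 : f ≠ 0 := nonZeroDivisors.ne_zero hf
  have hfk : f ∈ RingHom.ker (d.app U.1).hom := by
    rw [← Scheme.Hom.ker_apply, hI]
    exact Ideal.subset_span rfl
  have hb : X.basicOpen f ≠ ⊥ := fun hb => hf0 ((basicOpen_eq_bot_iff f).1 hb)
  have hgen : genericPoint X ∈ X.basicOpen f := by
    have h1 := (genericPoint_spec X).mem_open_set_iff (X.basicOpen f).isOpen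
    refine h1.2 ?_
    rw [Set.univ_inter]
    exact (Opens.ne_bot_iff_nonempty _).1 hb
  obtain ⟨p, hp⟩ : genericPoint X ∈ Set.range d.base := h ▸ Set.mem_univ _
  have hp' : p ∈ d ⁻¹ᵁ X.basicOpen f := by
    change d.base p ∈ X.basicOpen f
    rw [hp]; exact hgen
  rw [Scheme.preimage_basicOpen] at hp'
  have h0 : (d.app U.1).hom f = 0 := hfk
  have hp'' : p ∈ D.basicOpen ((d.app U.1).hom f) := hp'
  rw [h0, Scheme.basicOpen_zero] at hp''
  exact hp''

/-- the dimension of a scheme mapping to a point of the base through a closed immersion is at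
most the dimension of the fibre -/
theorem dim_le_fibre {J D S : Scheme.{u}} (j : J ⟶ D) [IsClosedImmersion j] (g : D ⟶ S) (y : S)
    (hconst : ∀ a : J, g.base (j.base a) = y) :
    topologicalKrullDim J ≤ topologicalKrullDim ↥(g.fiber y) := by
  let h : J → ↥(g.base ⁻¹' {y}) := fun a => ⟨j.base a, hconst a⟩
  have hcont : Continuous h := Continuous.subtype_mk j.continuous _
  have hind : Topology.IsInducing h := by
    have h1 : Topology.IsInducing (Subtype.val ∘ h) := j.isEmbedding.isInducing
    exact Topology.IsInducing.of_comp hcont continuous_subtype_val h1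
  have h2 := hind.topologicalKrullDim_le
  exact h2.trans (le_of_eq
    (IsHomeomorph.topologicalKrullDim_eq _ (g.fiberHomeo y).isHomeomorph).symm)

/-- **the fibres of a horizontal proper closed subset of an integral surface over a Dedekind
domain which is not a field have dimension zero** -/
theorem fibre_dim_le_zero {R : Type u} [CommRing R] [IsDomain R] (hR : ¬ IsField R)
    {X D : Scheme.{u}} [IsIntegral X] (f : X ⟶ Spec (CommRingCat.of R)) [IsProper f]
    (hdim : topologicalKrullDim X = 2)
    (d : D ⟶ X) [IsClosedImmersion d] (hne : Set.range d.base ≠ Set.univ)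
    (hhor : ∀ p : D, ∃ q : D, q ⤳ p ∧ ((d ≫ f).base q).asIdeal = ⊥)
    (y : ↥(Spec (CommRingCat.of R))) :
    topologicalKrullDim ↥((d ≫ f).fiber y) ≤ 0 := by
  apply dim_le_zero_of_specializes_eq
  intro a b hab
  by_contra hne_ab
  have hz : ((d ≫ f).fiberι y).base a ⤳ ((d ≫ f).fiberι y).base b :=
    hab.map ((d ≫ f).fiberι y).continuous
  have hzne : ((d ≫ f).fiberι y).base a ≠ ((d ≫ f).fiberι y).base b :=
    fun h => hne_ab (((d ≫ f).fiberι y).isEmbedding.injective h)
  have hya : (d ≫ f).base (((d ≫ f).fiberι y).base a) = y := ((d ≫ f).fiberHomeo y a).2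
  have hyb : (d ≫ f).base (((d ≫ f).fiberι y).base b) = y := ((d ≫ f).fiberHomeo y b).2
  have hfin : topologicalKrullDim X ≠ ⊤ := by rw [hdim]; exact ArVert.two_ne_top
  have hlt := Groth.Agent.Helper4.TD.topologicalKrullDim_lt_of_isClosed_ne_univ X hfin
    (Set.range d.base) d.isClosedEmbedding.isClosed_range hne
  rw [hdim] at hlt
  have hD2 : topologicalKrullDim D < 2 :=
    lt_of_le_of_lt (ArVert.dim_le_of_isClosedImmersion d) hlt
  have hchain : ∃ w0 w1 w2 : D, w1 ⤳ w0 ∧ w2 ⤳ w1 ∧ w1 ≠ w0 ∧ w2 ≠ w1 := by
    by_cases hy : y.asIdeal = ⊥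
    · have hex : ∃ w0 : D, ((d ≫ f).fiberι y).base b ⤳ w0 ∧
          ((d ≫ f).fiberι y).base b ≠ w0 := by
        by_contra hcon
        push Not at hcon
        have hcl : IsClosed ({((d ≫ f).fiberι y).base b} : Set D) := by
          rw [← closure_subset_iff_isClosed]
          intro w hw
          have hs : ((d ≫ f).fiberι y).base b ⤳ w := specializes_iff_mem_closure.2 hw
          exact (hcon w hs).symm ▸ Set.mem_singleton _
        have hcl2 : IsClosed ((d ≫ f).base '' {((d ≫ f).fiberι y).base b}) :=
          (d ≫ f).isClosedMap _ hcl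
        rw [Set.image_singleton, hyb] at hcl2
        have hmax : y.asIdeal.IsMaximal :=
          (PrimeSpectrum.isClosed_singleton_iff_isMaximal y).1 hcl2
        rw [hy] at hmax
        exact hR (Ring.isField_iff_maximal_bot.2 hmax)
      obtain ⟨w0, hw0, hw0ne⟩ := hex
      exact ⟨w0, _, _, hw0, hz, hw0ne, hzne⟩
    · obtain ⟨q, hq1, hq2⟩ := hhor (((d ≫ f).fiberι y).base a)
      refine ⟨_, _, q, hz, hq1, hzne, ?_⟩
      intro he
      apply hy
      rw [← hya, ← he]
      exact hq2
  obtain ⟨w0, w1, w2, h10, h21, hn10, hn21⟩ := hchain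
  have h2 := two_le_dim_of_chain w0 w1 w2 h10 h21 hn10 hn21
  exact absurd (lt_of_le_of_lt h2 hD2) (lt_irrefl _)

end Sch

end Groth.Agent.Helper1.HorizFib
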