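import Mathlib
import Groth.Agent.Lib.Helper4.HHFin2
import Groth.Agent.Lib.Helper1.H1Surj

/-!
# The long exact cohomology sequence: sections lift when the map on `H¹` is injective; chains of
surjections of Noetherian modules are eventually injective (helper1)
-/

set_option backward.isDefEq.respectTransparency.types false
set_option synthInstance.maxHeartbeats 400000
set_option autoImplicit false
set_option linter.unusedSectionVars false
set_option linter.style.haveILetI false
set_option linter.unusedSimpArgs false
universe w v u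
open CategoryTheory CategoryTheory.Limits AlgebraicGeometry TopologicalSpace Opposite
open CategoryTheory.Abelian
open Groth.Agent.Helper1
open Groth.Agent.Lib.Helper4

namespace Groth.Agent.Helper1.LesInj

section Ext

variable {C : Type u} [Category.{v} C] [Abelian C] [HasExt.{w} C]

theorem comp_extClass_f {S : ShortComplex C} (hS : S.ShortExact) {Z : C} {n : ℕ}
    (x : Ext Z S.X₃ n) :
    (x.comp hS.extClass rfl).comp (Ext.mk₀ S.f) (add_zero (n + 1)) = 0 :=
  (Ext.comp_assoc_of_third_deg_zero x hS.extClass (Ext.mk₀ S.f) rfl).trans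
    ((congrArg (fun t => x.comp t rfl) hS.extClass_comp).trans (Ext.comp_zero _ _ _ _ _))

end Ext

section Alg

/-- a chain of surjections starting from a Noetherian module is eventually injective -/
theorem exists_injective_of_surjective_chain {R : Type*} [CommRing R] (H : ℕ → Type*)
    [∀ m, AddCommGroup (H m)] [∀ m, Module R (H m)] [IsNoetherian R (H 0)]
    (f : ∀ m, H m →ₗ[R] H (m + 1)) (hf : ∀ m, Function.Surjective (f m)) :
    ∃ n, ∀ m, n ≤ m → Function.Injective (f m) := by
  let g : ∀ m, H 0 →ₗ[R] H m := fun m =>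
    Nat.rec (motive := fun m => H 0 →ₗ[R] H m) LinearMap.id (fun m gm => (f m).comp gm) m
  have g_succ : ∀ m, g (m + 1) = (f m).comp (g m) := fun m => rfl
  have g_surj : ∀ m, Function.Surjective (g m) := by
    intro m
    induction m with
    | zero => exact Function.surjective_id
    | succ m ih =>
      rw [g_succ]
      exact (hf m).comp ih
  let K : ℕ →o Submodule R (H 0) :=
    ⟨fun m => LinearMap.ker (g m), monotone_nat_of_le_succ (fun m x hx => by
      rw [LinearMap.mem_ker] at hx ⊢
      rw [g_succ, LinearMap.comp_apply, hx, map_zero])⟩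
  obtain ⟨n, hn⟩ := monotone_stabilizes_iff_noetherian.2 inferInstance K
  refine ⟨n, fun m hm => ?_⟩
  rw [injective_iff_map_eq_zero]
  intro y hy
  obtain ⟨x, rfl⟩ := g_surj m y
  have h1 : x ∈ K (m + 1) := by
    change x ∈ LinearMap.ker (g (m + 1))
    rw [LinearMap.mem_ker, g_succ, LinearMap.comp_apply]
    exact hy
  have h2 : K (m + 1) = K m := by
    rw [← hn m hm, ← hn (m + 1) (hm.trans (Nat.le_succ m))]
  rw [h2] at h1
  exact LinearMap.mem_ker.1 h1

end Alg

section Les

variable (A : Type u) [CommRing A] {X : Scheme.{u}} [X.Over (Spec (CommRingCat.of A))]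
variable {S : ShortComplex X.Modules} (hS : S.ShortExact)

theorem f_delta (i : ℕ) (x : Coh.HH X S.X₃ i) :
    Canon.HHlin A S.f (i + 1) (HHFin2.deltaLin A hS i x) = 0 :=
  comp_extClass_f.{u, u, u+1} (HHFin2.Sab_shortExact hS) x

include hS in
/-- if the map on `H¹` induced by the injection of a short exact sequence is injective, global
sections of the quotient lift -/
theorem app_top_surjective_of_injective
    (hinj : Function.Injective (Canon.HHlin A S.f 1)) : Function.Surjective (S.g.app ⊤) := by
  intro t
  let hT := Limits.isTerminalTop (α := Opens X)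
  let x₃ : Coh.HH X S.X₃ 0 := (Sheaf.H.equiv₀ (Coh.toAb S.X₃) hT).symm t
  have hδ : HHFin2.deltaLin A hS 0 x₃ = 0 := by
    apply hinj
    rw [map_zero]
    exact f_delta A hS 0 x₃
  obtain ⟨x₂, hx₂⟩ := HHFin2.exact_g_delta A hS 0 x₃ hδ
  refine ⟨Sheaf.H.equiv₀ (Coh.toAb S.X₂) hT x₂, ?_⟩
  have h2 := Sheaf.H.equiv₀_naturality hT ((QcExt.T X).map S.g) x₂
  have h3 : Sheaf.H.map ((QcExt.T X).map S.g) 0 x₂ = x₃ := hx₂
  refine h2.trans ?_
  rw [h3]
  exact (Sheaf.H.equiv₀ (Coh.toAb S.X₃) hT).apply_symm_apply t

include hS in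
/-- surjectivity of the map on `H¹` when `H¹` of the quotient vanishes -/
theorem surjective_HHlin_f (h3 : Subsingleton (Coh.HH X S.X₃ 1)) :
    Function.Surjective (Canon.HHlin A S.f 1) := by
  intro x
  exact HHFin2.exact_f_g A hS 1 x (Subsingleton.elim (h := h3) _ _)

end Les

end Groth.Agent.Helper1.LesInj
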