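import Mathlib
import Groth.Agent.Lib.Helper1.CartSec
import Groth.Agent.Lib.Helper1.LesInj
import Groth.Agent.Lib.Helper1.RelNakD
import Groth.Agent.Lib.Helper1.HorizFib
import Groth.Agent.Lib.Helper1.ArInt3
import Groth.Agent.Lib.Helper1.SpFib8
import Groth.Agent.Lib.Helper4.T2Main1
import Groth.Agent.S0012

/-!
# Large powers of `O(D)` are globally generated when `D` is finite over the base (helper1)
-/

set_option linter.style.haveILetI false
set_option linter.unusedVariables false
set_option linter.unusedSectionVars false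
set_option linter.unusedSimpArgs false
set_option autoImplicit false
set_option backward.isDefEq.respectTransparency.types false
set_option synthInstance.maxHeartbeats 400000
set_option maxHeartbeats 1600000

universe u

open CategoryTheory CategoryTheory.Limits AlgebraicGeometry Opposite TopologicalSpace
open Groth.Agent.Helper1 Groth.Agent.Helper1.QcCech Groth.Agent.Helper1.PullSec
open Groth.Agent.Helper1.LGen Groth.Agent.Helper1.TmulLib Groth.Agent.Helper1.TensGen
open Groth.Agent.Helper1.CurveAmp Groth.Agent.Helper1.CurveLin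
open Groth.Agent.Helper1.TwForm Groth.Agent.Helper1.AmpleLib
open Groth.Agent.Lib.Helper4

namespace Groth.Agent.Helper1.CartPow

variable (A : Type u) [CommRing A] [IsNoetherianRing A]

section Zero

variable (Z : Scheme.{u}) [Z.Over (Spec (CommRingCat.of A))]
  [IsProper (Z ↘ Spec (CommRingCat.of A))]

/-- invertible modules on a proper scheme with finite fibres over a Noetherian ring are globally
generated -/
theorem gg_of_fibre_dim_zero
    (hfib : ∀ y : ↥(Spec (CommRingCat.of A)),
      topologicalKrullDim ↥((Z ↘ Spec (CommRingCat.of A)).fiber y) ≤ 0)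
    (N : Z.Modules) (hN : PicF.IsInvertible N) : Curv2.IsGloballyGenerated N := by
  have hfib0 : ∀ y : ↥(Spec (CommRingCat.of A)),
      topologicalKrullDim ↥((Z ↘ Spec (CommRingCat.of A)).fiber y) ≤ ((0 : ℕ) : WithBot ℕ∞) :=
    fun y => (hfib y).trans (le_of_eq Nat.cast_zero.symm)
  have h1 : Subsingleton (Coh.HH Z (Coh.structureModule Z) 1) :=
    RelNak.subsingleton_HH_of_fibre_dim A Z 0 hfib0 _
      (InvQc.isCoh_of_isInvertible _ GenLoc.isInvertible_O) 1 (by norm_num)
  refine (RelNak.main A Z h1 (fun y => (hfib y).trans zero_le_one) N hN ?_).1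
  intro K _ φ J t hint hdim hcompat
  exfalso
  haveI := hint
  obtain ⟨a0⟩ : Nonempty J.subscheme := inferInstance
  have e1 : ∀ a' : J.subscheme, (Z ↘ Spec (CommRingCat.of A)).base (J.subschemeι.base a') =
      (Spec.map (CommRingCat.ofHom φ)).base (t.base a') := by
    intro a'
    have := congrArg (fun g => g.base a') hcompat
    exact this.symm
  have hconst : ∀ a : J.subscheme,
      (Z ↘ Spec (CommRingCat.of A)).base (J.subschemeι.base a) =
        (Z ↘ Spec (CommRingCat.of A)).base (J.subschemeι.base a0) := by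
    intro a
    rw [e1, e1]
    haveI : Subsingleton ↥(Spec (CommRingCat.of K)) :=
      (inferInstance : Subsingleton (PrimeSpectrum K))
    rw [Subsingleton.elim (t.base a) (t.base a0)]
  have h2 := HorizFib.dim_le_fibre J.subschemeι (Z ↘ Spec (CommRingCat.of A)) _ hconst
  have h3 := h2.trans (hfib _)
  rw [hdim] at h3
  have h4 : ((1 : ℕ∞) : WithBot ℕ∞) ≤ ((0 : ℕ∞) : WithBot ℕ∞) := h3
  rw [WithBot.coe_le_coe] at h4
  simp at h4

end Zero

section Main

variable (Y : Scheme.{u}) [Y.Over (Spec (CommRingCat.of A))]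
  [IsProper (Y ↘ Spec (CommRingCat.of A))]
  (I : Y.IdealSheafData) (L : Y.Modules)
  (e : CohB1.tensorMod L (ClSub.idealMod I) ≅ Coh.structureModule Y)

/-- the restriction sequences for the powers of `L` -/
noncomputable def seq (hL : PicF.IsInvertible L) (m : ℕ) : ShortComplex Y.Modules :=
  ShortComplex.mk (mulΓ (CohB1.tensorPow L m) L (CartSec.sec I L e))
    (ClImmSec.eta I.subschemeι (CohB1.tensorMod (CohB1.tensorPow L m) L))
    (CartSec.mulΓ_eta I L e hL _)

theorem seq_shortExact (hL : PicF.IsInvertible L) (m : ℕ) : (seq Y I L e hL m).ShortExact :=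
  CartSec.shortExact I L e hL (isInvertible_tensorPow hL m)

include A e in
/-- **large powers of `O(D)` are globally generated** when the fibres of `D` over the base are
finite -/
theorem main
    (hfib : ∀ y : ↥(Spec (CommRingCat.of A)),
      topologicalKrullDim ↥((I.subschemeι ≫ (Y ↘ Spec (CommRingCat.of A))).fiber y) ≤ 0) :
    ∃ m₀ : ℕ, 1 ≤ m₀ ∧ ∀ m : ℕ, m₀ ≤ m →
      Curv2.IsGloballyGenerated (CohB1.tensorPow L m) := by
  haveI : IsLocallyNoetherian Y :=
    LocallyOfFiniteType.isLocallyNoetherian (Y ↘ Spec (CommRingCat.of A))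
  have hIinv : PicF.IsInvertible (ClSub.idealMod I) :=
    ArInt.isInvertible_of_tensor_iso (CurveDual.isCoh_idealMod I) e
  have hL : PicF.IsInvertible L := SpFib.isInvertible_of_inverse hIinv e
  letI oZ : I.subscheme.Over (Spec (CommRingCat.of A)) :=
    ⟨I.subschemeι ≫ (Y ↘ Spec (CommRingCat.of A))⟩
  haveI hpZ : IsProper (I.subscheme ↘ Spec (CommRingCat.of A)) := by
    change IsProper (I.subschemeι ≫ (Y ↘ Spec (CommRingCat.of A)))
    infer_instance
  have hfib' : ∀ y : ↥(Spec (CommRingCat.of A)),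
      topologicalKrullDim ↥((I.subscheme ↘ Spec (CommRingCat.of A)).fiber y) ≤ 0 := hfib
  have hfib0 : ∀ y : ↥(Spec (CommRingCat.of A)),
      topologicalKrullDim ↥((I.subscheme ↘ Spec (CommRingCat.of A)).fiber y) ≤
        ((0 : ℕ) : WithBot ℕ∞) :=
    fun y => (hfib' y).trans (le_of_eq Nat.cast_zero.symm)
  have hFinv : ∀ m, PicF.IsInvertible (CohB1.tensorPow L m) :=
    fun m => isInvertible_tensorPow hL m
  have hS := seq_shortExact Y I L e hL
  -- `H¹` of the quotient vanishes
  have h3 : ∀ m, Subsingleton (Coh.HH Y (seq Y I L e hL m).X₃ 1) := by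
    intro m
    have hN : PicF.IsInvertible ((Scheme.Modules.pullback I.subschemeι).obj
        (CohB1.tensorMod (CohB1.tensorPow L m) L)) :=
      PullGen.isInvertible_pullback I.subschemeι (isInvertible_tensorMod (hFinv m) hL)
    haveI : Coh.IsQCoh ((Scheme.Modules.pullback I.subschemeι).obj
        (CohB1.tensorMod (CohB1.tensorPow L m) L)) :=
      InvQc.isQuasicoherent_of_isInvertible _ hN
    obtain ⟨eq⟩ := Groth.Agent.S0012.result I.subschemeι
      ((Scheme.Modules.pullback I.subschemeι).obj (CohB1.tensorMod (CohB1.tensorPow L m) L)) 1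
    haveI : Subsingleton (Coh.HH I.subscheme ((Scheme.Modules.pullback I.subschemeι).obj
        (CohB1.tensorMod (CohB1.tensorPow L m) L)) 1) :=
      RelNak.subsingleton_HH_of_fibre_dim A I.subscheme 0 hfib0 _
        (InvQc.isCoh_of_isInvertible _ hN) 1 (by norm_num)
    exact eq.symm.toEquiv.subsingleton
  -- the maps on `H¹`
  have hf : ∀ m, Function.Surjective
      (Canon.HHlin A (seq Y I L e hL m).f 1 :
        Coh.HH Y (CohB1.tensorPow L m) 1 →ₗ[A] Coh.HH Y (CohB1.tensorPow L (m + 1)) 1) :=
    fun m => LesInj.surjective_HHlin_f A (hS m) (h3 m)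
  haveI hNoe : IsNoetherian A (Coh.HH Y (CohB1.tensorPow L 0) 1) := by
    haveI : Module.Finite A (Coh.HH Y (Coh.structureModule Y) 1) :=
      T2Main1.t2 A Y _ (InvQc.isCoh_of_isInvertible _ GenLoc.isInvertible_O) 1
    exact isNoetherian_of_isNoetherianRing_of_finite A (Coh.HH Y (Coh.structureModule Y) 1)
  obtain ⟨n, hn⟩ := LesInj.exists_injective_of_surjective_chain (R := A)
    (fun m => Coh.HH Y (CohB1.tensorPow L m) 1)
    (fun m => (Canon.HHlin A (seq Y I L e hL m).f 1 :
        Coh.HH Y (CohB1.tensorPow L m) 1 →ₗ[A] Coh.HH Y (CohB1.tensorPow L (m + 1)) 1)) hf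
  refine ⟨n + 1, Nat.le_add_left 1 n, fun m hm => ?_⟩
  obtain ⟨m', rfl⟩ : ∃ m', m = m' + 1 := ⟨m - 1, by omega⟩
  have hm' : n ≤ m' := by omega
  have hsurj : Function.Surjective ((seq Y I L e hL m').g.app ⊤) :=
    LesInj.app_top_surjective_of_injective A (hS m') (hn m' hm')
  apply GenCover.isGloballyGenerated
  refine ⟨hFinv (m' + 1), fun x => ?_⟩
  by_cases hx : x ∈ (I.support : Set Y)
  · rw [← Scheme.IdealSheafData.range_subschemeι] at hx
    obtain ⟨z, rfl⟩ := hx
    have hN' := PullGen.isInvertible_pullback I.subschemeι (hFinv (m' + 1))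
    obtain ⟨t, ht⟩ := AmpleLib.exists_section_of_globallyGenerated hN'
      (gg_of_fibre_dim_zero A I.subscheme hfib' _ hN') z
    obtain ⟨a, ha⟩ := hsurj
      (show Γ((Scheme.Modules.pullback I.subschemeι).obj (CohB1.tensorPow L (m' + 1)),
          I.subschemeι ⁻¹ᵁ ⊤) from
        t.app ⊤ (show Γ(Coh.structureModule I.subscheme, ⊤) from (1 : Γ(I.subscheme, ⊤))))
    have ha' : σ I.subschemeι (CohB1.tensorPow L (m' + 1)) ⊤ a =
        t.app ⊤ (show Γ(Coh.structureModule I.subscheme, ⊤) from (1 : Γ(I.subscheme, ⊤))) := ha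
    have ht' : t = (PullSec.unitIso I.subschemeι).inv ≫
        (Scheme.Modules.pullback I.subschemeι).map
          (TwistAmple.homOfSec (CohB1.tensorPow L (m' + 1)) a) := by
      rw [RelNak.pull_homOfSec, ha']
      exact PFrame.eq_homOfSec t
    have hgl := PullGen.genLocus_pullback I.subschemeι (hFinv (m' + 1))
      (TwistAmple.homOfSec (CohB1.tensorPow L (m' + 1)) a) (PullSec.unitIso I.subschemeι).symm
    rw [Iso.symm_hom, ← ht'] at hgl
    rw [hgl] at ht
    exact ⟨TwistAmple.homOfSec (CohB1.tensorPow L (m' + 1)) a, ht⟩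
  · have hgen := CartSec.genAt_sec I L e hL x hx
    exact ⟨TwistAmple.homOfSec _ (RegSec.upow (CartSec.sec I L e) (m' + 1)),
      RegSec.genLocus_upow hL (CartSec.sec I L e) (m' + 1)
        ((RegSec.genAt_iff (CartSec.sec I L e) x).1 hgen)⟩

end Main

end Groth.Agent.Helper1.CartPow
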