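import Mathlib
import Groth.Agent.Lib.Helper1.BlowChart1
import Groth.Agent.Lib.Helper1.Modif3
import Groth.Agent.Lib.Helper1.PushQc
import Groth.Agent.Lib.Helper4.KLC13
import Groth.Agent.Lib.Helper4.EffCartier
import Groth.Agent.S1682
import Groth.Agent.S0012

/-!
# Cohomological dimension of an ideal from the fibre dimension of its blow-up
-/

set_option autoImplicit false
set_option backward.isDefEq.respectTransparency.types false
set_option synthInstance.maxHeartbeats 400000
universe u
open CategoryTheory CategoryTheory.Limits AlgebraicGeometry TopologicalSpace Opposite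

namespace Groth.Agent.Helper1.CdBlow

open Groth.Agent.Lead.Blow Groth.Agent.Helper1

variable {A : Type u} [CommRing A]

theorem support_compl_eq (I : Ideal A) :
    (specIdeal I).support.compl = LocCoh.puncturedOpen A I := by
  apply Opens.ext
  show ((specIdeal I).support : Set (Spec (CommRingCat.of A)))ᶜ =
    (PrimeSpectrum.zeroLocus (R := A) (I : Set A))ᶜ
  congr 1
  rw [Scheme.IdealSheafData.coe_support_ofIdealTop, Spec_zeroLocus]
  congr 1
  have h1 : (I.map (Scheme.ΓSpecIso (CommRingCat.of A)).inv.hom).comap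
      (Scheme.ΓSpecIso (CommRingCat.of A)).inv.hom = I :=
    Ideal.comap_map_of_bijective _
      (ConcreteCategory.bijective_of_isIso (Scheme.ΓSpecIso (CommRingCat.of A)).inv)
  exact congrArg (fun J : Ideal A => (J : Set A)) h1

/-- cohomology of quasi-coherent modules on the complement of the centre vanishes above the fibre
dimension of the blow-up -/
theorem subsingleton_HH_compl [IsNoetherianRing A] (I : Ideal A) {X : Scheme.{u}}
    (b : X ⟶ Spec (CommRingCat.of A)) (hb : BlowUp.IsBlowUp b (specIdeal I)) (d : ℕ)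
    (hd : ∀ s, topologicalKrullDim ↥(b.fiber s) ≤ ((d : ℕ) : WithBot ℕ∞))
    (U₀ : (Spec (CommRingCat.of A)).Opens) (hU₀ : U₀ = (specIdeal I).support.compl)
    (G : U₀.toScheme.Modules) [G.IsQuasicoherent] (p : ℕ) (hp : d < p) :
    Subsingleton (Coh.HH U₀.toScheme G p) := by
  subst hU₀
  letI : X.Over (Spec (CommRingCat.of A)) := ⟨b⟩
  haveI : IsProper b := isProper_of_isBlowUp (specIdeal I)
    (BlowChart.isFiniteTypeIdeal_of_noetherian I) b hb
  haveI : IsProper (X ↘ Spec (CommRingCat.of A)) := ‹IsProper b›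
  haveI : IsLocallyNoetherian X := LocallyOfFiniteType.isLocallyNoetherian b
  haveI : CompactSpace X := QuasiCompact.compactSpace_of_compactSpace b
  haveI : QuasiSeparatedSpace X := quasiSeparatedSpace_of_quasiSeparated b
  haveI : HasInjectiveResolutions X.Modules := inferInstance
  haveI hiso : IsIso (b ∣_ (specIdeal I).support.compl) :=
    Groth.Agent.S1682.result (specIdeal I) b hb
  have hV : b ⁻¹ᵁ (specIdeal I).support.compl = ((specIdeal I).comap b).support.compl := by
    apply Opens.ext
    show b ⁻¹' ((specIdeal I).support : Set _)ᶜ = (((specIdeal I).comap b).support : Set X)ᶜ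
    rw [Scheme.IdealSheafData.support_comap]
    rfl
  haveI : IsAffineHom (b ⁻¹ᵁ (specIdeal I).support.compl).ι := by
    rw [hV]
    exact Groth.Agent.Helper4.EffCartier.isAffineHom_compl hb.1
  obtain ⟨k, hk⟩ : ∃ k : Scheme.Opens.toScheme (X := Spec (CommRingCat.of A)) (specIdeal I).support.compl ⟶ X,
      k = inv (b ∣_ (specIdeal I).support.compl) ≫ (b ⁻¹ᵁ (specIdeal I).support.compl).ι := ⟨_, rfl⟩
  haveI : IsAffineHom k := by rw [hk]; infer_instance
  haveI : Coh.IsQCoh G := ‹G.IsQuasicoherent›
  obtain ⟨e⟩ := Groth.Agent.S0012.result k G p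
  haveI : ((Coh.push k).obj G).IsQuasicoherent := PushQc.isQuasicoherent_pushforward k G
  have hvan : Subsingleton (Coh.HH X ((Coh.push k).obj G) p) :=
    QcSum.subsingleton_HH_of_ft_subs _ p (fun G' i _ hq hft =>
      Modif.subsingleton_HH_of_fiber_dim A X d hd G' ⟨hq, hft⟩ p hp)
  exact e.injective.subsingleton

/-- `cd(A, I) ≤ d + 1` when the fibres of the blow-up of `I` have dimension `≤ d` -/
theorem cdLE [IsNoetherianRing A] (I : Ideal A) {X : Scheme.{u}}
    (b : X ⟶ Spec (CommRingCat.of A)) (hb : BlowUp.IsBlowUp b (specIdeal I)) (d : ℕ)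
    (hd : ∀ s, topologicalKrullDim ↥(b.fiber s) ≤ ((d : ℕ) : WithBot ℕ∞)) :
    LocCoh.CdLE A I (d + 1) := by
  intro M _ _ i hi
  obtain ⟨p, rfl⟩ : ∃ p, i = p + 1 := ⟨i - 1, by omega⟩
  obtain ⟨e⟩ := Groth.Agent.Lib.Helper4.KLC13.s0356 A I M p (by omega)
  haveI : ((AlgebraicGeometry.tilde (R := CommRingCat.of A) (ModuleCat.of A M)).restrict
      (LocCoh.puncturedOpen A I).ι).IsQuasicoherent :=
    Scheme.Modules.isQuasicoherent_restrictFunctor (LocCoh.puncturedOpen A I).ι _
  have h := subsingleton_HH_compl I b hb d hd (LocCoh.puncturedOpen A I) (support_compl_eq I).symm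
    ((AlgebraicGeometry.tilde (R := CommRingCat.of A) (ModuleCat.of A M)).restrict
      (LocCoh.puncturedOpen A I).ι) p (by omega)
  exact e.symm.injective.subsingleton

end Groth.Agent.Helper1.CdBlow
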