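import Mathlib

/-!
# Cech complex of a family containing the whole union: extra degeneracy (helper1 library)
-/

set_option autoImplicit false
universe u
open CategoryTheory CategoryTheory.Limits Opposite Simplicial TopologicalSpace

namespace Groth.Agent.Helper1.CechED

variable {X : TopCat.{u}} {ι : Type u} (U : ι → Opens X)

/-- the Cech simplicial object -/
noncomputable abbrev E : SimplicialObject (FormalCoproduct.{u} (Opens X)) :=
  (FormalCoproduct.mk ι U).cech

omit U in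
theorem fc_hom_ext {A B : FormalCoproduct.{u} (Opens X)} {f g : A ⟶ B} (h : f.f = g.f) : f = g :=
  FormalCoproduct.hom_ext h (fun _ => Subsingleton.elim _ _)

/-- the augmented Cech object over the union -/
noncomputable def aug : SimplicialObject.Augmented (FormalCoproduct.{u} (Opens X)) where
  left := E U
  right := (FormalCoproduct.incl _).obj (iSup U)
  hom :=
    { app := fun n => ⟨fun _ => PUnit.unit, fun x =>
        (Pi.π (U ∘ x) (0 : Fin (n.unop.len + 1)) ≫ homOfLE (le_iSup U _) : ∏ᶜ (U ∘ x) ⟶ iSup U)⟩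
      naturality := fun _ _ _ => fc_hom_ext rfl }

variable (i : ι) (hi : U i = iSup U)

theorem prod_le {n : ℕ} (x : Fin (n + 1) → ι) (a : Fin (n + 1)) : (∏ᶜ (U ∘ x) : Opens X) ≤ U (x a) :=
  (Pi.π (U ∘ x) a).le

include hi in
theorem prod_le_cons {n : ℕ} (x : Fin (n + 1) → ι) (a : Fin (n + 2)) :
    (∏ᶜ (U ∘ x) : Opens X) ≤ U ((Fin.cons i x : Fin (n + 2) → ι) a) := by
  refine Fin.cases ?_ (fun b => ?_) a
  · rw [Fin.cons_zero, hi]
    exact (prod_le U x 0).trans (le_iSup U _)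
  · rw [Fin.cons_succ]
    exact prod_le U x b

/-- the extra degeneracy -/
noncomputable def ed : (aug U).ExtraDegeneracy where
  s' := ⟨fun _ => (fun _ => i : Fin 1 → ι), fun _ =>
    (Pi.lift (fun _ => eqToHom hi.symm) : iSup U ⟶ ∏ᶜ (U ∘ (fun _ => i : Fin 1 → ι)))⟩
  s n := ⟨fun x => (Fin.cons i x : Fin (n + 2) → ι), fun x =>
    (Pi.lift (fun a => homOfLE (prod_le_cons U i hi x a)) :
      ∏ᶜ (U ∘ x) ⟶ ∏ᶜ (U ∘ (Fin.cons i x : Fin (n + 2) → ι)))⟩
  s'_comp_ε := fc_hom_ext rfl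
  s₀_comp_δ₁ := by
    refine fc_hom_ext (funext fun (x : Fin 1 → ι) => funext fun (a : Fin 1) => ?_)
    show (Fin.cons i x : Fin 2 → ι) ((SimplexCategory.δ (1 : Fin 2)).toOrderHom a) = i
    have : a = 0 := Subsingleton.elim _ _
    subst this
    rfl
  s_comp_δ₀ n := by
    refine fc_hom_ext (funext fun (x : Fin (n + 1) → ι) => funext fun (a : Fin (n + 1)) => ?_)
    show (Fin.cons i x : Fin (n + 2) → ι) ((SimplexCategory.δ (0 : Fin (n + 2))).toOrderHom a) = x a
    exact Fin.cons_succ _ _ _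
  s_comp_δ n k := by
    refine fc_hom_ext (funext fun (x : Fin (n + 2) → ι) => funext fun (a : Fin (n + 2)) => ?_)
    show (Fin.cons i x : Fin (n + 3) → ι) ((SimplexCategory.δ k.succ).toOrderHom a) =
      (Fin.cons i (x ∘ (SimplexCategory.δ k).toOrderHom) : Fin (n + 2) → ι) a
    refine Fin.cases ?_ (fun b => ?_) a
    · rfl
    · show (Fin.cons i x : Fin (n + 3) → ι) (k.succ.succAbove b.succ) = x (k.succAbove b)
      rw [Fin.succ_succAbove_succ]
      exact Fin.cons_succ _ _ _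
  s_comp_σ n k := by
    refine fc_hom_ext (funext fun (x : Fin (n + 1) → ι) => funext fun (a : Fin (n + 3)) => ?_)
    show (Fin.cons i x : Fin (n + 2) → ι) ((SimplexCategory.σ k.succ).toOrderHom a) =
      (Fin.cons i (x ∘ (SimplexCategory.σ k).toOrderHom) : Fin (n + 3) → ι) a
    refine Fin.cases ?_ (fun b => ?_) a
    · rfl
    · show (Fin.cons i x : Fin (n + 2) → ι) (k.succ.predAbove b.succ) = x (k.predAbove b)
      rw [Fin.succ_predAbove_succ]
      exact Fin.cons_succ _ _ _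



/-- the union as a formal coproduct -/
noncomputable abbrev V : FormalCoproduct.{u} (Opens X) :=
  (FormalCoproduct.incl (Opens X)).obj (iSup U)

/-- augmentation -/
noncomputable def eε : (E U) _⦋0⦌ ⟶ V U := (aug U).hom.app (op ⦋0⦌)
/-- section -/
noncomputable def es' : V U ⟶ (E U) _⦋0⦌ := (ed U i hi).s'
/-- extra degeneracy -/
noncomputable def es (n : ℕ) : (E U) _⦋n⦌ ⟶ (E U) _⦋n + 1⦌ := (ed U i hi).s n

theorem es'_eε : es' U i hi ≫ eε U = 𝟙 _ := (ed U i hi).s'_comp_ε
theorem es_δ_one : es U i hi 0 ≫ (E U).δ 1 = eε U ≫ es' U i hi := (ed U i hi).s₀_comp_δ₁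
theorem es_δ_zero (n : ℕ) : es U i hi n ≫ (E U).δ 0 = 𝟙 _ := (ed U i hi).s_comp_δ₀ n
theorem es_δ_succ (n : ℕ) (k : Fin (n + 2)) :
    es U i hi (n + 1) ≫ (E U).δ k.succ = (E U).δ k ≫ es U i hi n := (ed U i hi).s_comp_δ n k
theorem δ_eε : (E U).δ 0 ≫ eε U = (E U).δ 1 ≫ eε U := fc_hom_ext rfl

variable (F : (Opens X)ᵒᵖ ⥤ AddCommGrpCat.{u})

/-- evaluation of `F` on formal coproducts -/
noncomputable abbrev G : (FormalCoproduct.{u} (Opens X))ᵒᵖ ⥤ AddCommGrpCat.{u} :=
  (FormalCoproduct.evalOp.{u} (Opens X) AddCommGrpCat.{u}).obj F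

/-- the Cech complex -/
noncomputable abbrev K : CochainComplex AddCommGrpCat.{u} ℕ := (cechComplexFunctor U).obj F

/-- terms of the Cech complex -/
noncomputable abbrev Q (n : ℕ) : AddCommGrpCat.{u} := (G F).obj (op ((E U) _⦋n⦌))

example (n : ℕ) : (K U F).X n = Q U F n := rfl

/-- the value on the union -/
noncomputable abbrev Pt : AddCommGrpCat.{u} := (G F).obj (op (V U))

/-- cofaces -/
noncomputable def cδ (n : ℕ) (k : Fin (n + 2)) : Q U F n ⟶ Q U F (n + 1) :=
  (G F).map ((E U).δ k).op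

theorem K_d (n : ℕ) :
    (K U F).d n (n + 1) = ∑ k : Fin (n + 2), (-1 : ℤ) ^ (k : ℕ) • cδ U F n k := by
  have h : (K U F).d n (n + 1) = AlgebraicTopology.AlternatingCofaceMapComplex.objD
      ((FormalCoproduct.cosimplicialObjectFunctor (E U)).obj F) n :=
    CochainComplex.of_d (fun n => ((FormalCoproduct.cosimplicialObjectFunctor (E U)).obj F).obj ⦋n⦌)
      (AlgebraicTopology.AlternatingCofaceMapComplex.objD
        ((FormalCoproduct.cosimplicialObjectFunctor (E U)).obj F)) n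
  rw [h]
  rfl

/-- coaugmentation -/
noncomputable def cε : Pt U F ⟶ Q U F 0 := (G F).map (eε U).op

/-- the retraction of the coaugmentation -/
noncomputable def cσ' : Q U F 0 ⟶ Pt U F := (G F).map (es' U i hi).op

/-- the extra codegeneracies -/
noncomputable def cσ (n : ℕ) : Q U F (n + 1) ⟶ Q U F n := (G F).map (es U i hi n).op

theorem cε_cσ' : cε U F ≫ cσ' U i hi F = 𝟙 _ := by
  rw [cε, cσ', ← Functor.map_comp, ← op_comp, es'_eε, op_id, CategoryTheory.Functor.map_id]

theorem cδ_one_cσ : cδ U F 0 1 ≫ cσ U i hi F 0 = cσ' U i hi F ≫ cε U F := by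
  rw [cδ, cσ, cσ', cε, ← Functor.map_comp, ← op_comp, ← Functor.map_comp, ← op_comp, es_δ_one]

theorem cδ_zero_cσ (n : ℕ) : cδ U F n 0 ≫ cσ U i hi F n = 𝟙 _ := by
  rw [cδ, cσ, ← Functor.map_comp, ← op_comp, es_δ_zero, op_id, CategoryTheory.Functor.map_id]

theorem cδ_succ_cσ (n : ℕ) (k : Fin (n + 2)) :
    cδ U F (n + 1) k.succ ≫ cσ U i hi F (n + 1) = cσ U i hi F n ≫ cδ U F n k := by
  rw [cδ, cσ, cσ, cδ, ← Functor.map_comp, ← op_comp, ← Functor.map_comp, ← op_comp, es_δ_succ]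

theorem cε_cδ : cε U F ≫ cδ U F 0 0 = cε U F ≫ cδ U F 0 1 := by
  rw [cε, cδ, cδ, ← Functor.map_comp, ← op_comp, ← Functor.map_comp, ← op_comp, δ_eε]


/-- `K`-typed coface -/
noncomputable def kδ (n : ℕ) (k : Fin (n + 2)) : (K U F).X n ⟶ (K U F).X (n + 1) := cδ U F n k
/-- `K`-typed coaugmentation -/
noncomputable def kε : Pt U F ⟶ (K U F).X 0 := cε U F
/-- `K`-typed retraction -/
noncomputable def kσ' : (K U F).X 0 ⟶ Pt U F := cσ' U i hi F
/-- `K`-typed codegeneracy -/
noncomputable def kσ (n : ℕ) : (K U F).X (n + 1) ⟶ (K U F).X n := cσ U i hi F n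

theorem K_d' (n : ℕ) :
    (K U F).d n (n + 1) = ∑ k : Fin (n + 2), (-1 : ℤ) ^ (k : ℕ) • kδ U F n k := K_d U F n
theorem kε_kσ' : kε U F ≫ kσ' U i hi F = 𝟙 _ := cε_cσ' U i hi F
theorem kδ_one_kσ : kδ U F 0 1 ≫ kσ U i hi F 0 = kσ' U i hi F ≫ kε U F := cδ_one_cσ U i hi F
theorem kδ_zero_kσ (n : ℕ) : kδ U F n 0 ≫ kσ U i hi F n = 𝟙 _ := cδ_zero_cσ U i hi F n
theorem kδ_succ_kσ (n : ℕ) (k : Fin (n + 2)) :
    kδ U F (n + 1) k.succ ≫ kσ U i hi F (n + 1) = kσ U i hi F n ≫ kδ U F n k :=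
  cδ_succ_cσ U i hi F n k
theorem kε_kδ : kε U F ≫ kδ U F 0 0 = kε U F ≫ kδ U F 0 1 := cε_cδ U F

/-- the contracting homotopy -/
noncomputable def hh (a b : ℕ) : (K U F).X a ⟶ (K U F).X b :=
  match a with
  | 0 => 0
  | (a + 1) => if h : b = a then (-(kσ U i hi F a)) ≫ eqToHom (by rw [h]) else 0

theorem hh_succ (a : ℕ) : hh U i hi F (a + 1) a = -(kσ U i hi F a) := by
  simp [hh]

theorem hh_zero (a b : ℕ) (h : ¬ (ComplexShape.up ℕ).Rel b a) : hh U i hi F a b = 0 := by
  cases a with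
  | zero => rfl
  | succ a =>
    have : b ≠ a := fun hba => h (by subst hba; rfl)
    simp [hh, this]

theorem kε_d : kε U F ≫ (K U F).d 0 1 = 0 := by
  rw [K_d', Preadditive.comp_sum, Fin.sum_univ_two]
  simp only [Fin.val_zero, pow_zero, one_smul, Fin.val_one, pow_one, neg_smul,
    Preadditive.comp_neg]
  rw [kε_kδ]
  exact add_neg_cancel _

theorem comm_zero :
    kσ' U i hi F ≫ kε U F = (K U F).d 0 1 ≫ hh U i hi F 1 0 + 0 + 𝟙 ((K U F).X 0) := by
  rw [hh_succ, K_d', Fin.sum_univ_two]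
  simp only [Fin.val_zero, pow_zero, one_smul, Fin.val_one, pow_one, neg_smul,
    Preadditive.comp_neg, Preadditive.add_comp, Preadditive.neg_comp]
  rw [kδ_zero_kσ, kδ_one_kσ]
  abel

theorem comm_succ (n : ℕ) :
    (0 : (K U F).X (n + 1) ⟶ (K U F).X (n + 1)) =
      (K U F).d (n + 1) (n + 2) ≫ hh U i hi F (n + 2) (n + 1) +
      hh U i hi F (n + 1) n ≫ (K U F).d n (n + 1) + 𝟙 ((K U F).X (n + 1)) := by
  rw [hh_succ, hh_succ, K_d', K_d', Fin.sum_univ_succ (n := n + 2)]
  simp only [Fin.val_zero, pow_zero, one_smul, Fin.val_succ, pow_succ,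
    Preadditive.comp_neg, Preadditive.add_comp, Preadditive.neg_comp,
    Preadditive.sum_comp, Preadditive.comp_sum, Preadditive.zsmul_comp,
    Preadditive.comp_zsmul, kδ_zero_kσ, kδ_succ_kσ]
  simp

/-- the homotopy equivalence -/
noncomputable def he :
    HomotopyEquiv ((CochainComplex.single₀ AddCommGrpCat.{u}).obj (Pt U F)) (K U F) where
  hom := (CochainComplex.fromSingle₀Equiv (K U F) (Pt U F)).symm ⟨kε U F, kε_d U F⟩
  inv := (CochainComplex.toSingle₀Equiv (K U F) (Pt U F)).symm (kσ' U i hi F)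
  homotopyHomInvId := Homotopy.ofEq (by
    apply HomologicalComplex.from_single_hom_ext
    rw [HomologicalComplex.comp_f, CochainComplex.fromSingle₀Equiv_symm_apply_f_zero,
      CochainComplex.toSingle₀Equiv_symm_apply_f_zero]
    exact kε_kσ' U i hi F)
  homotopyInvHomId :=
    { hom := hh U i hi F
      zero := fun a b h => hh_zero U i hi F a b h
      comm := fun n => by
        cases n with
        | zero =>
          rw [Homotopy.prevD_zero_cochainComplex, Homotopy.dNext_cochainComplex,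
            HomologicalComplex.comp_f, CochainComplex.fromSingle₀Equiv_symm_apply_f_zero,
            CochainComplex.toSingle₀Equiv_symm_apply_f_zero]
          exact comm_zero U i hi F
        | succ n =>
          rw [Homotopy.prevD_succ_cochainComplex, Homotopy.dNext_cochainComplex,
            HomologicalComplex.comp_f, CochainComplex.toSingle₀Equiv_symm_apply_f_succ, zero_comp]
          exact comm_succ U i hi F n }


/-- the value of `F` on the union, as a product over a one-element type -/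
noncomputable def ptIso : Pt U F ≅ F.obj (op (iSup U)) :=
  ((FormalCoproduct.evalOpCompInlIsoId.{u} (Opens X) AddCommGrpCat.{u}).app F).app (op (iSup U))

include i hi in
theorem main : Nonempty (HomotopyEquiv
    ((CochainComplex.single₀ AddCommGrpCat.{u}).obj (F.obj (op (iSup U))))
    ((cechComplexFunctor U).obj F)) :=
  ⟨(HomotopyEquiv.ofIso ((CochainComplex.single₀ AddCommGrpCat.{u}).mapIso (ptIso U F).symm)).trans
    (he U i hi F)⟩

end Groth.Agent.Helper1.CechED
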