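import Mathlib

set_option autoImplicit false
universe u

namespace Groth.Agent.Lib.Helper1.CharInt

open Polynomial TensorProduct

/-- A monic polynomial over a field `K` all of whose roots in a splitting field are integral over `A`
has coefficients integral over `A`. -/
theorem coeff_isIntegral_of_roots {A : Type*} [CommRing A] {K : Type*} [Field K] [Algebra A K]
    (g : K[X]) (hg : g.Monic)
    (hr : ∀ α ∈ (g.map (algebraMap K g.SplittingField)).roots, IsIntegral A α) (n : ℕ) :
    IsIntegral A (g.coeff n) := by
  have := (SplittingField.splits g).mem_lift_of_roots_mem_range (hg.map _)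
    (algebraMap (integralClosure A g.SplittingField) g.SplittingField)
     fun a ha =>
      (SetLike.ext_iff.mp (integralClosure A g.SplittingField).range_algebraMap _).mpr (hr a ha)
  rw [lifts_iff_coeff_lifts, ← RingHom.coe_range, Subalgebra.range_algebraMap] at this
  have h1 := this n
  rw [coeff_map] at h1
  have h2 : IsIntegral A (algebraMap K g.SplittingField (g.coeff n)) := h1
  exact (isIntegral_algebraMap_iff (algebraMap K g.SplittingField).injective).1 h2

/-- Characteristic polynomial coefficients of `u ⊗ 1` are integral. -/
theorem charpoly_coeff_isIntegral (A : Type u) [CommRing A] [IsDomain A] (K : Type u) [Field K]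
    [Algebra A K] (E : Type u) [AddCommGroup E] [Module A E] [Module.Finite A E]
    (u : E →ₗ[A] E) (i : ℕ) :
    IsIntegral A (((u.baseChange K).charpoly).coeff i) := by
  classical
  set v := u.baseChange K with hv
  obtain ⟨P, hPm, hP⟩ := LinearMap.exists_monic_and_aeval_eq_zero A u
  have hPv : Polynomial.aeval v (P.map (algebraMap A K)) = 0 := by
    rw [Polynomial.aeval_map_algebraMap]
    have := Polynomial.aeval_algHom_apply (Module.End.baseChangeHom A K E) u P
    rw [hP, map_zero] at this
    exact this
  refine coeff_isIntegral_of_roots v.charpoly (LinearMap.charpoly_monic v) ?_ i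
  set L := v.charpoly.SplittingField
  intro α hα
  have h1 : (v.baseChange L).charpoly = v.charpoly.map (algebraMap K L) :=
    LinearMap.charpoly_baseChange ..
  have hne : v.charpoly.map (algebraMap K L) ≠ 0 :=
    ((LinearMap.charpoly_monic v).map _).ne_zero
  have hev : Module.End.HasEigenvalue (v.baseChange L) α := by
    rw [Module.End.hasEigenvalue_iff_isRoot_charpoly, h1]
    exact ((Polynomial.mem_roots hne).1 hα)
  obtain ⟨x, hx⟩ := hev.exists_hasEigenvector
  have hQ : Polynomial.aeval (v.baseChange L) ((P.map (algebraMap A K)).map (algebraMap K L)) = 0 := by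
    rw [Polynomial.aeval_map_algebraMap]
    have := Polynomial.aeval_algHom_apply (Module.End.baseChangeHom K L (K ⊗[A] E)) v
      (P.map (algebraMap A K))
    rw [hPv, map_zero] at this
    exact this
  have h2 := Module.End.aeval_apply_of_hasEigenvector (p := (P.map (algebraMap A K)).map (algebraMap K L)) hx
  rw [hQ, LinearMap.zero_apply] at h2
  have h3 : ((P.map (algebraMap A K)).map (algebraMap K L)).eval α = 0 := by
    rcases smul_eq_zero.1 h2.symm with h | h
    · exact h
    · exact absurd h hx.2
  refine ⟨P, hPm, ?_⟩
  rw [Polynomial.map_map, ← IsScalarTower.algebraMap_eq, Polynomial.eval_map] at h3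
  exact h3

end Groth.Agent.Lib.Helper1.CharInt

namespace Groth.Agent.Lib.Helper1.CharInt

open Polynomial TensorProduct

/-- If `ā * b = 1` with `a ∈ A` and `b` integral over `A`, then `b` lies in the image of `A`. -/
theorem mem_range_of_isIntegral_of_mul_eq_one {A K : Type*} [CommRing A] [CommRing K] [Algebra A K]
    (a : A) (b : K) (hab : algebraMap A K a * b = 1) (hb : IsIntegral A b) :
    b ∈ (algebraMap A K).range := by
  obtain ⟨p, hp, hpb⟩ := hb
  letI : Invertible b := ⟨algebraMap A K a, hab, by rw [mul_comm]; exact hab⟩
  have h1 := Polynomial.eval₂_reverse_mul_pow (algebraMap A K) b p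
  rw [hpb] at h1
  have h2 : Polynomial.eval₂ (algebraMap A K) (⅟b) p.reverse = 0 := by
    have hu : IsUnit (b ^ p.natDegree) := (isUnit_of_invertible b).pow _
    exact (hu.mul_left_eq_zero).1 h1
  have h3 : ⅟b = algebraMap A K a := rfl
  rw [h3, Polynomial.eval₂_at_apply] at h2
  obtain ⟨q, hq⟩ := Polynomial.X_dvd_sub_C (p := p.reverse)
  have h4 : p.reverse.coeff 0 = 1 := by rw [Polynomial.coeff_zero_reverse]; exact hp
  have h5 : p.reverse = 1 + X * q := by rw [← hq, h4]; simp
  rw [h5] at h2
  simp only [eval_add, eval_one, eval_mul, eval_X, map_add, map_one, map_mul] at h2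
  have h6 : algebraMap A K a * algebraMap A K (-(q.eval a)) = 1 := by
    rw [map_neg, mul_neg]
    linear_combination (-1 : K) * h2
  refine ⟨-(q.eval a), ?_⟩
  calc algebraMap A K (-(q.eval a))
      = (algebraMap A K a * b) * algebraMap A K (-(q.eval a)) := by rw [hab, one_mul]
    _ = b * (algebraMap A K a * algebraMap A K (-(q.eval a))) := by ring
    _ = b := by rw [h6, mul_one]

end Groth.Agent.Lib.Helper1.CharInt
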