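import Groth.Agent.Lib.Helper1.QuasiReg
universe u
open IsLocalRing
namespace Groth.Agent.Helper1.Chevalley
variable {R : Type u} [CommRing R] [IsNoetherianRing R] [IsLocalRing R]

/-- stabilization of `I s ⊔ m^k` -/
theorem exists_stab (I : ℕ → Ideal R) (hI : Antitone I) (k : ℕ) :
    ∃ s0, ∀ s, s0 ≤ s → I s ⊔ maximalIdeal R ^ k = I s0 ⊔ maximalIdeal R ^ k := by
  by_cases hk : k = 0
  · subst hk
    exact ⟨0, fun s _ => by simp⟩
  have hmin : maximalIdeal R ∈ (maximalIdeal R ^ k).minimalPrimes := by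
    refine ⟨⟨inferInstance, Ideal.pow_le_self hk⟩, ?_⟩
    rintro q ⟨hq, hqk⟩ _
    exact hq.le_of_pow_le hqk
  have hart : IsArtinianRing (R ⧸ maximalIdeal R ^ k) :=
    IsLocalRing.quotient_artinian_of_mem_minimalPrimes_of_isLocalRing _ hmin
  let f : ℕ →o (Ideal (R ⧸ maximalIdeal R ^ k))ᵒᵈ :=
    { toFun := fun s => (I s).map (Ideal.Quotient.mk (maximalIdeal R ^ k))
      monotone' := fun i j e => Ideal.map_mono (hI e) }
  obtain ⟨s0, hs0⟩ := IsArtinian.monotone_stabilizes f
  refine ⟨s0, fun s hs => ?_⟩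
  have h1 : (I s).map (Ideal.Quotient.mk (maximalIdeal R ^ k)) =
      (I s0).map (Ideal.Quotient.mk (maximalIdeal R ^ k)) := (hs0 s hs).symm
  have h2 := congrArg (Ideal.comap (Ideal.Quotient.mk (maximalIdeal R ^ k))) h1
  rw [Ideal.comap_map_of_surjective _ Ideal.Quotient.mk_surjective,
    Ideal.comap_map_of_surjective _ Ideal.Quotient.mk_surjective] at h2
  have h3 : Ideal.comap (Ideal.Quotient.mk (maximalIdeal R ^ k)) ⊥ = maximalIdeal R ^ k := by
    rw [← RingHom.ker_eq_comap_bot, Ideal.mk_ker]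
  rwa [h3] at h2

theorem main [IsAdicComplete (maximalIdeal R) R] (I : ℕ → Ideal R) (hI : Antitone I)
    (hinf : ⨅ s, I s = ⊥) (n : ℕ) : ∃ s : ℕ, I s ≤ maximalIdeal R ^ n := by
  classical
  set m := maximalIdeal R with hm
  choose s0 hs0 using exists_stab I hI
  let T : ℕ → ℕ := fun k => (Finset.range (k + 1)).sup (fun j => max (s0 j) j)
  have hTmono : Monotone T := fun a b hab =>
    Finset.sup_mono (Finset.range_mono (by omega))
  have hTs : ∀ k, s0 k ≤ T k := fun k => le_trans (le_max_left _ _)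
    (Finset.le_sup (f := fun j => max (s0 j) j) (Finset.mem_range.mpr (Nat.lt_succ_self k)))
  have hTk : ∀ k, k ≤ T k := fun k => le_trans (le_max_right _ _)
    (Finset.le_sup (f := fun j => max (s0 j) j) (Finset.mem_range.mpr (Nat.lt_succ_self k)))
  have step : ∀ k y, y ∈ I (T k) → ∃ y', y' ∈ I (T (k + 1)) ∧ y - y' ∈ m ^ k := by
    intro k y hy
    have h1 : I (T (k + 1)) ⊔ m ^ k = I (s0 k) ⊔ m ^ k :=
      hs0 k _ (le_trans (hTs k) (hTmono (Nat.le_succ k)))
    have h2 : y ∈ I (s0 k) ⊔ m ^ k := Ideal.mem_sup_left (hI (hTs k) hy)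
    rw [← h1] at h2
    obtain ⟨y', hy', z, hz, hyz⟩ := Submodule.mem_sup.mp h2
    exact ⟨y', hy', by rw [← hyz]; simpa using hz⟩
  refine ⟨T n, fun x hx => ?_⟩
  choose! nxt hnxt using step
  let z : ℕ → R := fun j => Nat.rec x (fun j y => nxt (n + j) y) j
  have hz : ∀ j, z j ∈ I (T (n + j)) := by
    intro j
    induction j with
    | zero => exact hx
    | succ j ih => exact (hnxt (n + j) (z j) ih).1
  have hzd : ∀ j, z j - z (j + 1) ∈ m ^ (n + j) := fun j => (hnxt (n + j) (z j) (hz j)).2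
  have htel : ∀ a d, z a - z (a + d) ∈ m ^ (n + a) := by
    intro a d
    induction d with
    | zero => simp
    | succ d ih =>
      have : z a - z (a + (d + 1)) = (z a - z (a + d)) + (z (a + d) - z (a + d + 1)) := by
        rw [← add_assoc]; ring
      rw [this]
      exact Ideal.add_mem _ ih (Ideal.pow_le_pow_right (by omega) (hzd (a + d)))
  let f : ℕ → R := fun j => z (j - n)
  have hf : ∀ {a b}, a ≤ b → f a ≡ f b [SMOD (m ^ a • ⊤ : Submodule R R)] := by
    intro a b hab
    rw [SModEq.sub_mem, smul_eq_mul, Ideal.mul_top]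
    have h1 : b - n = (a - n) + ((b - n) - (a - n)) := by omega
    show z (a - n) - z (b - n) ∈ m ^ a
    rw [h1]
    exact Ideal.pow_le_pow_right (by omega) (htel (a - n) _)
  obtain ⟨L, hL⟩ := IsPrecomplete.prec (I := m) (M := R) inferInstance hf
  have hL' : ∀ j, f j - L ∈ m ^ j := by
    intro j
    have := hL j
    rwa [SModEq.sub_mem, smul_eq_mul, Ideal.mul_top] at this
  have hjac : m ≤ (⊥ : Ideal R).jacobson := by
    rw [IsLocalRing.jacobson_eq_maximalIdeal ⊥ bot_ne_top]
  have hLs : ∀ s, L ∈ I s := by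
    intro s
    refine QuasiReg.mem_of_forall_mem_sup_pow m (I s) hjac L fun N => ?_
    set j := max N (max s n) with hj
    have h1 : f j ∈ I s := by
      have : n + (j - n) = j := by omega
      have h2 := hz (j - n)
      rw [this] at h2
      exact hI (le_trans (by omega : s ≤ j) (hTk j)) h2
    have h2 : L = f j - (f j - L) := by ring
    rw [h2]
    exact Ideal.sub_mem _ (Ideal.mem_sup_left h1)
      (Ideal.mem_sup_right (Ideal.pow_le_pow_right (by omega) (hL' j)))
  have hL0 : L = 0 := by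
    have : L ∈ ⨅ s, I s := (Ideal.mem_iInf).mpr hLs
    rw [hinf] at this
    exact (Ideal.mem_bot).mp this
  have := hL' n
  rw [hL0, sub_zero] at this
  have hfn : f n = x := by
    show z (n - n) = x
    rw [Nat.sub_self]
    rfl
  rwa [hfn] at this

end Groth.Agent.Helper1.Chevalley
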