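import Mathlib

/-!
# Abstract lemmas for Euler characteristics of vertical divisors (helper1)

* `nonempty_kernel_iso`: third isomorphism theorem in an abelian category, in the form needed
* `six_term`: additivity of lengths along a six term exact sequence
* `length_ne_top_of_smul_eq_zero`: a finite module over a discrete valuation ring killed by a
  uniformizer has finite length
-/

set_option autoImplicit false
universe u v
open CategoryTheory CategoryTheory.Limits

namespace Groth.Agent.Helper1.ChiA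

section Abelian

variable {𝒜 : Type u} [Category.{v} 𝒜] [Abelian 𝒜]

/-- third isomorphism theorem: for `A' ⊆ A ⊆ O` the kernel of `O/A' → O/A` is any cokernel
of `A' → A` -/
theorem nonempty_kernel_iso {O Q' Q A A' T : 𝒜}
    (q' : O ⟶ Q') (q : O ⟶ Q) (r : Q' ⟶ Q) (hq : q' ≫ r = q) [Epi q']
    (i : A ⟶ O) (hi : i ≫ q = 0) (hA : IsLimit (KernelFork.ofι i hi))
    (i' : A' ⟶ O) (hi' : i' ≫ q' = 0) (hA' : IsLimit (KernelFork.ofι i' hi'))
    (j : A' ⟶ A) (hj : j ≫ i = i')
    (η : A ⟶ T) [Epi η] (w : j ≫ η = 0) (hex : (ShortComplex.mk j η w).Exact) :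
    Nonempty (kernel r ≅ T) := by
  haveI : Mono i := mono_of_isLimit_fork hA
  haveI : Mono i' := mono_of_isLimit_fork hA'
  haveI : Mono j := mono_of_mono_fac hj
  haveI : Mono (ShortComplex.mk j η w).f := ‹Mono j›
  have hβw : (i ≫ q') ≫ r = 0 := by rw [Category.assoc, hq, hi]
  obtain ⟨β, hβ⟩ : ∃ β : A ⟶ kernel r, β ≫ kernel.ι r = i ≫ q' :=
    ⟨kernel.lift r (i ≫ q') hβw, kernel.lift_ι _ _ _⟩
  haveI : Epi β := by
    rw [epi_iff_surjective_up_to_refinements]
    intro W y
    obtain ⟨W', π, hπ, x, hx⟩ := surjective_up_to_refinements_of_epi q' (y ≫ kernel.ι r)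
    have hxq : x ≫ q = 0 := by
      rw [← hq, ← Category.assoc, ← hx]
      simp only [Category.assoc, kernel.condition, comp_zero]
    obtain ⟨x', hx'⟩ := KernelFork.IsLimit.lift' hA x hxq
    have hx'' : x' ≫ i = x := hx'
    refine ⟨W', π, hπ, x', ?_⟩
    rw [← cancel_mono (kernel.ι r), Category.assoc, Category.assoc, hβ, ← Category.assoc x' i q',
      hx'', hx]
  have h1 : kernel.ι β ≫ η = 0 := by
    have ht : (kernel.ι β ≫ i) ≫ q' = 0 := by
      rw [Category.assoc, ← hβ, ← Category.assoc, kernel.condition, zero_comp]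
    obtain ⟨t'', ht''⟩ := KernelFork.IsLimit.lift' hA' (kernel.ι β ≫ i) ht
    have ht3 : t'' ≫ i' = kernel.ι β ≫ i := ht''
    have ht4 : t'' ≫ j = kernel.ι β := by
      rw [← cancel_mono i, Category.assoc, hj, ht3]
    rw [← ht4, Category.assoc, w, comp_zero]
  have h2 : kernel.ι η ≫ β = 0 := by
    have hη0 : kernel.ι η ≫ (ShortComplex.mk j η w).g = 0 := kernel.condition η
    obtain ⟨l, hl⟩ := hex.lift' (kernel.ι η) hη0
    have hl' : l ≫ j = kernel.ι η := hl
    rw [← cancel_mono (kernel.ι r), Category.assoc, hβ, zero_comp, ← hl', Category.assoc,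
      ← Category.assoc j i q', hj, hi', comp_zero]
  refine ⟨⟨Abelian.epiDesc β η h1, Abelian.epiDesc η β h2, ?_, ?_⟩⟩
  · rw [← cancel_epi β, Abelian.comp_epiDesc_assoc, Abelian.comp_epiDesc, Category.comp_id]
  · rw [← cancel_epi η, Abelian.comp_epiDesc_assoc, Abelian.comp_epiDesc, Category.comp_id]

end Abelian

section Length

variable {R : Type*} [Ring R]

theorem length_eq_ker_add_range {M N : Type*} [AddCommGroup M] [Module R M] [AddCommGroup N]
    [Module R N] (φ : M →ₗ[R] N) :
    Module.length R M = Module.length R (LinearMap.ker φ) + Module.length R (LinearMap.range φ) :=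
  Module.length_eq_add_of_exact (LinearMap.ker φ).subtype φ.rangeRestrict
    (LinearMap.ker φ).subtype_injective φ.surjective_rangeRestrict (by
      intro x
      constructor
      · intro hx
        refine ⟨⟨x, ?_⟩, rfl⟩
        have := congrArg Subtype.val hx
        simpa using this
      · rintro ⟨y, rfl⟩
        apply Subtype.ext
        simpa using y.2)

theorem length_congr {M : Type*} [AddCommGroup M] [Module R M] {P Q : Submodule R M} (h : P = Q) :
    Module.length R P = Module.length R Q := by subst h; rfl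

theorem enat_arith (a0 b0 c0 a1 b1 c1 y z w : ℕ∞) (h1 : b0 = a0 + y) (h2 : c0 = y + z)
    (h3 : a1 = z + w) (h4 : b1 = w + c1) (hb0 : b0 ≠ ⊤) (hb1 : b1 ≠ ⊤) (hc0 : c0 ≠ ⊤) :
    ((b0.toNat : ℤ) - (b1.toNat : ℤ)) =
      ((a0.toNat : ℤ) - (a1.toNat : ℤ)) + ((c0.toNat : ℤ) - (c1.toNat : ℤ)) := by
  subst h1 h2 h3 h4
  rw [Ne, ENat.add_eq_top, not_or] at hb0 hb1 hc0
  obtain ⟨ha0, hy⟩ := hb0
  obtain ⟨hw, hc1⟩ := hb1
  obtain ⟨_, hz⟩ := hc0
  rw [ENat.toNat_add ha0 hy, ENat.toNat_add hw hc1, ENat.toNat_add hz hw, ENat.toNat_add hy hz]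
  push_cast
  ring

/-- additivity of lengths along a six term exact sequence
`0 → A0 → B0 → C0 → A1 → B1 → C1 → 0` -/
theorem six_term {A0 B0 C0 A1 B1 C1 : Type*}
    [AddCommGroup A0] [Module R A0] [AddCommGroup B0] [Module R B0] [AddCommGroup C0] [Module R C0]
    [AddCommGroup A1] [Module R A1] [AddCommGroup B1] [Module R B1] [AddCommGroup C1] [Module R C1]
    (f0 : A0 →ₗ[R] B0) (g0 : B0 →ₗ[R] C0) (d : C0 →ₗ[R] A1) (f1 : A1 →ₗ[R] B1) (g1 : B1 →ₗ[R] C1)
    (hf0 : Function.Injective f0)
    (e1 : LinearMap.range f0 = LinearMap.ker g0) (e2 : LinearMap.range g0 = LinearMap.ker d)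
    (e3 : LinearMap.range d = LinearMap.ker f1) (e4 : LinearMap.range f1 = LinearMap.ker g1)
    (hg1 : Function.Surjective g1)
    (hB0 : Module.length R B0 ≠ ⊤) (hB1 : Module.length R B1 ≠ ⊤) (hC0 : Module.length R C0 ≠ ⊤) :
    (((Module.length R B0).toNat : ℤ) - ((Module.length R B1).toNat : ℤ)) =
      (((Module.length R A0).toNat : ℤ) - ((Module.length R A1).toNat : ℤ)) +
        (((Module.length R C0).toNat : ℤ) - ((Module.length R C1).toNat : ℤ)) := by
  have k0 : Module.length R A0 = Module.length R (LinearMap.range f0) :=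
    (LinearEquiv.ofInjective f0 hf0).length_eq
  have k1 := length_eq_ker_add_range g0
  rw [← length_congr e1, ← k0] at k1
  have k2 := length_eq_ker_add_range d
  rw [← length_congr e2] at k2
  have k3 := length_eq_ker_add_range f1
  rw [← length_congr e3] at k3
  have k4 := length_eq_ker_add_range g1
  have k5 : Module.length R (LinearMap.range g1) = Module.length R C1 :=
    (LinearEquiv.ofTop _ (LinearMap.range_eq_top.2 hg1)).length_eq
  rw [← length_congr e4, k5] at k4
  exact enat_arith _ _ _ _ _ _ _ _ _ k1 k2 k3 k4 hB0 hB1 hC0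

end Length

section DVR

theorem length_ne_top_of_smul_eq_zero {R : Type*} [CommRing R] [IsDomain R]
    [IsDiscreteValuationRing R] {M : Type*} [AddCommGroup M] [Module R M] [Module.Finite R M]
    (ϖ : R) (hϖ : Irreducible ϖ) (h : ∀ x : M, ϖ • x = 0) : Module.length R M ≠ ⊤ := by
  have hT : Module.IsTorsionBySet R M (IsLocalRing.maximalIdeal R : Set R) := by
    intro x a
    have ha : (a : R) ∈ Ideal.span {ϖ} := by
      rw [← hϖ.maximalIdeal_eq]
      exact a.2
    obtain ⟨c, hc⟩ := Ideal.mem_span_singleton'.1 ha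
    rw [← hc, mul_smul, h, smul_zero]
  letI : Module (IsLocalRing.ResidueField R) M := hT.module
  haveI : IsScalarTower R (IsLocalRing.ResidueField R) M := hT.isScalarTower
  rw [Module.length_eq_of_surjective (S := R) (R := IsLocalRing.ResidueField R) (M := M)
    IsLocalRing.residue_surjective]
  haveI : Module.Finite (IsLocalRing.ResidueField R) M :=
    Module.Finite.of_restrictScalars_finite R _ M
  exact Module.length_ne_top

end DVR

end Groth.Agent.Helper1.ChiA
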