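import Mathlib
import Groth.Agent.Lib.Helper1.ArInt2
import Groth.Agent.Lib.Helper1.IdealMul1
import Groth.Agent.Lib.Helper4.ClSubMV
import Groth.Agent.Lib.Helper1.ChiA1

/-!
# The kernel of `O/IJ → O/I` for an invertible ideal `I` and the ideal `J` of a closed subscheme
(helper1)

For a closed immersion `ι : C ⟶ X` with ideal `J` and an ideal sheaf `I` with invertible ideal
module, the kernel of `O_X/IJ → O_X/I` is `ι_* ι^* I`.
-/

set_option autoImplicit false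
set_option backward.isDefEq.respectTransparency.types false
universe u
open CategoryTheory CategoryTheory.Limits AlgebraicGeometry TopologicalSpace Opposite

namespace Groth.Agent.Helper1.ChiA

open Groth.Agent.Helper1 Groth.Agent.Helper1.Dv Groth.Agent.Helper1.LGen
open Groth.Agent.Helper1.QcCech Groth.Agent.Helper1.CurveLin
open Groth.Agent.Lib.Helper5.StalkAdj
open Groth.Agent.Lead.IdM

section Loc

variable {X : Scheme.{u}}

theorem exact_stalk_of_locally (S : ShortComplex X.Modules)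
    (h : ∀ (W : X.Opens) (a : Γ(S.X₂, W)) (x : X), x ∈ W → S.g.app W a = 0 →
      ∃ (V : X.Opens) (hV : V ≤ W), x ∈ V ∧ ∃ b : Γ(S.X₁, V), S.f.app V b = res S.X₂ hV a)
    (x : X) (y : S.X₂.presheaf.stalk x) (hy : stalkL S.g x y = 0) :
    ∃ w, stalkL S.f x w = y := by
  obtain ⟨W₀, hxW₀, a, rfl⟩ := TopCat.Presheaf.exists_germ_eq S.X₂.presheaf y
  rw [stalkL_germ] at hy
  have hy' : S.X₃.presheaf.germ W₀ x hxW₀ (S.g.app W₀ a) =
      S.X₃.presheaf.germ W₀ x hxW₀ 0 := by rw [hy, map_zero]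
  obtain ⟨W₁, hxW₁, i1, i2, heq⟩ := TopCat.Presheaf.germ_eq S.X₃.presheaf
    (U := W₀) (V := W₀) x hxW₀ hxW₀ _ _ hy'
  rw [map_zero] at heq
  have h0 : res S.X₃ i1.le (S.g.app W₀ a) = 0 := heq
  have hg1 : S.g.app W₁ (res S.X₂ i1.le a) = 0 := by
    rw [QcExt.app_res]
    exact h0
  obtain ⟨V, hV, hxV, b, hb⟩ := h W₁ (res S.X₂ i1.le a) x hxW₁ hg1
  refine ⟨S.X₁.presheaf.germ V x hxV b, ?_⟩
  have hrr : res S.X₂ hV (res S.X₂ i1.le a) = res S.X₂ (hV.trans i1.le) a := res_res _ _ _ _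
  rw [stalkL_germ, hb, hrr]
  exact TopCat.Presheaf.germ_res_apply S.X₂.presheaf (homOfLE (hV.trans i1.le)) x hxV a

/-- exactness of a complex of modules can be checked locally on sections -/
theorem exact_of_locally (S : ShortComplex X.Modules)
    (h : ∀ (W : X.Opens) (a : Γ(S.X₂, W)) (x : X), x ∈ W → S.g.app W a = 0 →
      ∃ (V : X.Opens) (hV : V ≤ W), x ∈ V ∧ ∃ b : Γ(S.X₁, V), S.f.app V b = res S.X₂ hV a) :
    S.Exact := by
  apply Groth.Agent.Lib.Helper5.StalkAdj.exact_of_stalks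
  intro x
  rw [ShortComplex.moduleCat_exact_iff]
  intro y hy
  exact exact_stalk_of_locally S h x y hy

end Loc

section Ideals

variable {X : Scheme.{u}} (I J : X.IdealSheafData)

theorem w0 : ClSub.idealModι (I * J) ≫ ClSub.toSubscheme I = 0 := by
  apply AffExt.hom_ext_affine
  intro V hV a
  rw [Scheme.Modules.Hom.zero_app]
  have h1 := Groth.Agent.Lead.ODiv.ι_mem_ideal (I * J) ⟨V, hV⟩ a
  have h2 : (show Γ(X, V) from (ClSub.idealModι (I * J)).app V a) ∈ I.ideal ⟨V, hV⟩ :=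
    (Ideal.mul_le_left : I.ideal ⟨V, hV⟩ * J.ideal ⟨V, hV⟩ ≤ I.ideal ⟨V, hV⟩) h1
  rw [← I.ker_subschemeι_app ⟨V, hV⟩, RingHom.mem_ker] at h2
  exact h2

/-- the quotient map `O/IJ → O/I` -/
noncomputable def r : ClSub.quotMod (I * J) ⟶ ClSub.quotMod I :=
  haveI := Groth.Agent.Lib.Helper4.ClSubMV.epi_toSubscheme (I * J)
  Abelian.epiDesc (ClSub.toSubscheme (I * J)) (ClSub.toSubscheme I) (w0 I J)

theorem q_r : ClSub.toSubscheme (I * J) ≫ r I J = ClSub.toSubscheme I := by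
  haveI := Groth.Agent.Lib.Helper4.ClSubMV.epi_toSubscheme (I * J)
  exact Abelian.comp_epiDesc _ _ _

theorem epi_r : Epi (r I J) := by
  haveI := Groth.Agent.Lib.Helper4.ClSubMV.epi_toSubscheme I
  haveI : Epi (ClSub.toSubscheme (I * J) ≫ r I J) := by rw [q_r]; infer_instance
  exact epi_of_epi (ClSub.toSubscheme (I * J)) (r I J)

/-- the inclusion `IJ → I` -/
noncomputable def j : ClSub.idealMod (I * J) ⟶ ClSub.idealMod I :=
  kernel.lift (ClSub.toSubscheme I) (ClSub.idealModι (I * J)) (w0 I J)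

theorem j_ι : j I J ≫ ClSub.idealModι I = ClSub.idealModι (I * J) := kernel.lift_ι _ _ _

theorem ιL_j (V : X.Opens) (a' : Γ(ClSub.idealMod (I * J), V)) :
    ιL I V ((j I J).app V a') = ιL (I * J) V a' :=
  congrArg (fun φ => Scheme.Modules.Hom.app φ V a') (j_ι I J)

variable {I} in
theorem exists_affine_gen (hI : PicF.IsInvertible (ClSub.idealMod I)) (W : X.Opens) (x : X)
    (hx : x ∈ W) :
    ∃ (V : X.Opens) (_ : IsAffineOpen V) (_ : V ≤ W) (g : Γ(ClSub.idealMod I, V)),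
      x ∈ V ∧ IsGen (ClSub.idealMod I) V g := by
  obtain ⟨W₁, g₁, hx₁, hg₁⟩ := exists_isGen hI x
  obtain ⟨_, ⟨V, hV, rfl⟩, hxV, hVsub⟩ := X.isBasis_affineOpens.exists_subset_of_mem_open
    (show x ∈ ((W ⊓ W₁ : X.Opens) : Set X) from ⟨hx, hx₁⟩) (W ⊓ W₁).2
  have h1 : V ≤ W := fun y hy => (hVsub hy).1
  have h2 : V ≤ W₁ := fun y hy => (hVsub hy).2
  exact ⟨V, hV, h1, res _ h2 g₁, hxV, hg₁.res h2⟩

end Ideals

section Closed

variable {C X : Scheme.{u}} (ι : C ⟶ X) [IsClosedImmersion ι] (I : X.IdealSheafData)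

/-- `ι_* ι^* I` -/
noncomputable abbrev T : X.Modules :=
  (Scheme.Modules.pushforward ι).obj ((Scheme.Modules.pullback ι).obj (ClSub.idealMod I))

/-- the unit `I → ι_* ι^* I` -/
noncomputable def η : ClSub.idealMod I ⟶ T ι I :=
  (Scheme.Modules.pullbackPushforwardAdjunction ι).unit.app (ClSub.idealMod I)

theorem η_app (V : X.Opens) (a : Γ(ClSub.idealMod I, V)) :
    (η ι I).app V a = PullSec.σ ι (ClSub.idealMod I) V a := rfl

theorem σ_eq_zero_iff (V : X.affineOpens) {g : Γ(ClSub.idealMod I, V.1)}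
    (hg : IsGen (ClSub.idealMod I) V.1 g) (a : Γ(ClSub.idealMod I, V.1)) :
    PullSec.σ ι (ClSub.idealMod I) V.1 a = 0 ↔ ιL I V.1 a ∈ (I * ι.ker).ideal V := by
  obtain ⟨c, rfl⟩ := hg.exists_coeff a
  have hσ : IsGen ((Scheme.Modules.pullback ι).obj (ClSub.idealMod I)) (ι ⁻¹ᵁ V.1)
      (PullSec.σ ι (ClSub.idealMod I) V.1 g) := PullGen.isGen_σ ι hg
  have hspan := IdealMul.ideal_eq_span_of_isGen I V hg
  rw [PullSec.σ_smul, map_smul, smul_eq_mul]
  constructor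
  · intro h0
    have hc0 : (ι.app V.1).hom c = 0 := by
      apply (hσ (ι ⁻¹ᵁ V.1) le_rfl).1
      show (ι.app V.1).hom c • res _ (le_refl _) (PullSec.σ ι (ClSub.idealMod I) V.1 g) =
        (0 : Γ(C, ι ⁻¹ᵁ V.1)) • res _ (le_refl _) (PullSec.σ ι (ClSub.idealMod I) V.1 g)
      rw [zero_smul, res_self]
      exact h0
    have hcJ : c ∈ ι.ker.ideal V := by
      rw [Scheme.Hom.ker_apply, RingHom.mem_ker]
      exact hc0
    have hu : ιL I V.1 g ∈ I.ideal V := Groth.Agent.Lead.ODiv.ι_mem_ideal I V g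
    show c * ιL I V.1 g ∈ I.ideal V * ι.ker.ideal V
    rw [mul_comm c]
    exact Ideal.mul_mem_mul hu hcJ
  · intro hmem
    have hmem' : c * ιL I V.1 g ∈ I.ideal V * ι.ker.ideal V := hmem
    rw [hspan, Ideal.mem_span_singleton_mul] at hmem'
    obtain ⟨z, hz, hzu⟩ := hmem'
    have hzc : z = c := by
      apply (hg V.1 le_rfl).1
      show z • res _ (le_refl _) g = c • res _ (le_refl _) g
      rw [res_self]
      apply ιL_injective I V.1
      rw [map_smul, map_smul, smul_eq_mul, smul_eq_mul, mul_comm z, hzu]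
    rw [← hzc]
    have hz0 : (ι.app V.1).hom z = 0 := by
      rw [Scheme.Hom.ker_apply, RingHom.mem_ker] at hz
      exact hz
    rw [hz0, zero_smul]

variable (hI : PicF.IsInvertible (ClSub.idealMod I))

include hI in
theorem j_η : j I ι.ker ≫ η ι I = 0 := by
  apply AffExt.hom_ext_affine
  intro V hV a'
  rw [Scheme.Modules.Hom.zero_app]
  change PullSec.σ ι (ClSub.idealMod I) V ((j I ι.ker).app V a') = 0
  apply TwistSec.eq_of_locally ((Scheme.Modules.pullback ι).obj (ClSub.idealMod I))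
  intro c hc
  obtain ⟨V', hV', hV'V, g, hxV', hg⟩ := exists_affine_gen hI V (ι.base c) hc
  have hW : ι ⁻¹ᵁ V' ≤ ι ⁻¹ᵁ V := fun _ h => hV'V h
  refine ⟨ι ⁻¹ᵁ V', hW, hxV', ?_⟩
  rw [map_zero]
  have e1 : res _ hW (PullSec.σ ι (ClSub.idealMod I) V ((j I ι.ker).app V a')) =
      PullSec.σ ι (ClSub.idealMod I) V' (res _ hV'V ((j I ι.ker).app V a')) :=
    PullSec.σ_res ι _ hV'V _
  rw [e1, ← QcExt.app_res (j I ι.ker) hV'V a', σ_eq_zero_iff ι I ⟨V', hV'⟩ hg, ιL_j]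
  exact Groth.Agent.Lead.ODiv.ι_mem_ideal (I * ι.ker) ⟨V', hV'⟩ _

include hI in
theorem epi_η : Epi (η ι I) := by
  apply SerreCrit.epi_of_locally_surjective
  intro U t x hxU
  obtain ⟨V, hV, hVU, g, hxV, hg⟩ := exists_affine_gen hI U x hxU
  have hσ := PullGen.isGen_σ ι hg
  obtain ⟨c, hc⟩ := hσ.exists_coeff
    (show Γ((Scheme.Modules.pullback ι).obj (ClSub.idealMod I), ι ⁻¹ᵁ V) from res (T ι I) hVU t)
  obtain ⟨c', hc'⟩ := ι.app_surjective V hV c
  refine ⟨V, hVU, hxV, c' • g, ?_⟩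
  change PullSec.σ ι (ClSub.idealMod I) V (c' • g) = _
  rw [PullSec.σ_smul, hc']
  exact hc

include hI in
theorem exact_E2 : (ShortComplex.mk (j I ι.ker) (η ι I) (j_η ι I hI)).Exact := by
  apply exact_of_locally
  intro W a x hx ha
  obtain ⟨V, hV, hVW, g, hxV, hg⟩ := exists_affine_gen hI W x hx
  have h1 : PullSec.σ ι (ClSub.idealMod I) V (res _ hVW a) = 0 := by
    rw [← PullSec.σ_res ι _ hVW a]
    have h0 : PullSec.σ ι (ClSub.idealMod I) W a = 0 := ha
    rw [h0, map_zero]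
  have h2 := (σ_eq_zero_iff ι I ⟨V, hV⟩ hg _).1 h1
  rw [← range_ιL (I * ι.ker) ⟨V, hV⟩] at h2
  obtain ⟨b, hb⟩ := h2
  refine ⟨V, hVW, hxV, b, ?_⟩
  apply ιL_injective I V
  rw [ιL_j]
  exact hb

include hI in
/-- **the kernel of `O/IJ → O/I` is `ι_* ι^* I`** -/
theorem nonempty_kernel_r_iso : Nonempty (kernel (r I ι.ker) ≅ T ι I) := by
  haveI := Groth.Agent.Lib.Helper4.ClSubMV.epi_toSubscheme (I * ι.ker)
  haveI := epi_η ι I hI
  exact nonempty_kernel_iso (ClSub.toSubscheme (I * ι.ker)) (ClSub.toSubscheme I) (r I ι.ker)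
    (q_r I ι.ker)
    (ClSub.idealModι I) (kernel.condition _) (kernelIsKernel _)
    (ClSub.idealModι (I * ι.ker)) (kernel.condition _) (kernelIsKernel _)
    (j I ι.ker) (j_ι I ι.ker) (η ι I) (j_η ι I hI) (exact_E2 ι I hI)

end Closed

end Groth.Agent.Helper1.ChiA
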