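import Mathlib
import Groth.Agent.Lib.Helper1.ChiA2
import Groth.Agent.Lib.Helper1.ArInt3
import Groth.Agent.Lib.Helper1.SpFib2
import Groth.Agent.Lib.Helper1.FGAInt1
import Groth.Agent.Lib.Helper1.Euler2
import Groth.Agent.Lib.Helper1.CurveDual2
import Groth.Agent.Lib.Helper1.InvFt
import Groth.Agent.Lib.Helper1.PullGen2
import Groth.Agent.Lib.Helper4.LinBridge1
import Groth.Agent.Lib.Helper4.T2Main1
import Groth.Agent.Lib.Helper4.HHFin3

/-!
# Euler characteristics of vertical divisors: adding one component (helper1)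

`χ(O_{D + Γ}) - χ(O_D) = deg_Γ(I_D|_Γ) + χ(Γ, O_Γ)` for an effective Cartier divisor `D` with
`D + Γ` contained in the closed fibre of a proper scheme over a discrete valuation ring.
-/

set_option autoImplicit false
set_option backward.isDefEq.respectTransparency.types false
universe u
open CategoryTheory CategoryTheory.Limits AlgebraicGeometry TopologicalSpace Opposite

namespace Groth.Agent.Helper1.ChiA

open Groth.Agent.Helper1 Groth.Agent.Lib.Helper4

variable (R : Type u) [CommRing R] [IsDomain R] [IsDiscreteValuationRing R]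
  (X : Over (Spec (CommRingCat.of R)))

section Killed

theorem subschemeι_appTop_toGlobal (J : X.left.IdealSheafData)
    (hJ : Models.specialFibreIdeal R X ≤ J) (ϖ : R) (hϖ : Irreducible ϖ) :
    (J.subschemeι.appTop).hom (show Γ(X.left, ⊤) from Coh.toGlobal X.hom ϖ) = 0 := by
  refine J.subscheme.sheaf.eq_of_locally_eq'
    (fun V : X.left.affineOpens => J.subschemeι ⁻¹ᵁ V.1) ⊤ (fun V => homOfLE le_top) ?_ _ _ ?_
  · intro z _
    obtain ⟨_, ⟨V, hV, rfl⟩, hzV, -⟩ := X.left.isBasis_affineOpens.exists_subset_of_mem_open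
      (show J.subschemeι.base z ∈ ((⊤ : X.left.Opens) : Set X.left) from trivial)
      (⊤ : X.left.Opens).2
    exact Opens.mem_iSup.2 ⟨⟨V, hV⟩, hzV⟩
  · intro V
    have hz : (J.subscheme.presheaf.map
        (homOfLE (le_top : J.subschemeι ⁻¹ᵁ V.1 ≤ ⊤)).op).hom 0 = 0 := map_zero _
    refine Eq.trans ?_ hz.symm
    have hnat := J.subschemeι.naturality (homOfLE (le_top : V.1 ≤ ⊤)).op
    have h := congrArg (fun g => g.hom (show Γ(X.left, ⊤) from Coh.toGlobal X.hom ϖ)) hnat
    simp only [CommRingCat.hom_comp, RingHom.comp_apply] at h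
    have hmem : SpFib.sec R X ϖ V.1 ∈ J.ideal V := by
      apply hJ V
      rw [SpFib.specialFibreIdeal_ideal R X ϖ hϖ V]
      exact Ideal.subset_span rfl
    rw [← J.ker_subschemeι_app V, RingHom.mem_ker] at hmem
    exact h.symm.trans hmem

theorem length_quotMod_ne_top (hp : IsProper X.hom) (J : X.left.IdealSheafData)
    (hJ : Models.specialFibreIdeal R X ≤ J) (p : ℕ) :
    Module.length R (Coh.HH X.left (ClSub.quotMod J) p) ≠ ⊤ := by
  obtain ⟨ϖ, hϖ⟩ := IsDiscreteValuationRing.exists_irreducible R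
  haveI : IsProper (X.left ↘ Spec (CommRingCat.of R)) := hp
  haveI : Module.Finite R (Coh.HH X.left (ClSub.quotMod J) p) :=
    T2Main1.t2 R X.left (ClSub.quotMod J) (CurveDual.isCoh_quotMod J) p
  apply length_ne_top_of_smul_eq_zero ϖ hϖ
  intro x
  have h0 : (J.subschemeι.appTop).hom (show Γ(X.left, ⊤) from Coh.toGlobal X.hom ϖ) =
      (J.subschemeι.appTop).hom 0 :=
    (subschemeι_appTop_toGlobal R X J hJ ϖ hϖ).trans (map_zero _).symm
  have hk : Coh.smulAb (ClSub.quotMod J) (Coh.toGlobal X.hom ϖ) =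
      Coh.smulAb (ClSub.quotMod J) 0 :=
    (LinBridge1.smulAb_push J.subschemeι (Coh.structureModule J.subscheme) _).trans
      ((congrArg (fun t => (Coh.pushAb J.subschemeι).map
        (Coh.smulAb (Coh.structureModule J.subscheme) t)) h0).trans
        (LinBridge1.smulAb_push J.subschemeι (Coh.structureModule J.subscheme) 0).symm)
  show Sheaf.H.map (Coh.smulAb (ClSub.quotMod J) (Coh.toGlobal X.hom ϖ)) p x = 0
  rw [hk]
  exact zero_smul (Coh.Γtop X.left) x

end Killed

section Push

variable (Γ : ArSurf.VertComp R X)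

theorem toGlobal_comp_residue (r : R) :
    Coh.toGlobal (Γ.curve.hom ≫ Spec.map (CommRingCat.ofHom (IsLocalRing.residue R))) r =
      Coh.toGlobal Γ.curve.hom (IsLocalRing.residue R r) := by
  have h2 := Scheme.ΓSpecIso_inv_naturality (CommRingCat.ofHom (IsLocalRing.residue R))
  have h3 := congrArg (fun g => g.hom r) h2
  simp only [CommRingCat.hom_comp, RingHom.comp_apply, CommRingCat.hom_ofHom] at h3
  show (Γ.curve.hom ≫ Spec.map (CommRingCat.ofHom (IsLocalRing.residue R))).appTop.hom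
      ((Scheme.ΓSpecIso (CommRingCat.of R)).inv.hom r) =
    Γ.curve.hom.appTop.hom ((Scheme.ΓSpecIso
      (CommRingCat.of (IsLocalRing.ResidueField R))).inv.hom (IsLocalRing.residue R r))
  rw [Scheme.Hom.comp_appTop, CommRingCat.hom_comp, RingHom.comp_apply, ← h3]

/-- the cohomology of a direct image from a vertical prime divisor: lengths over `R` are
dimensions over the residue field -/
theorem lengthH_push (N : Γ.curve.left.Modules) [N.IsQuasicoherent] (p : ℕ) :
    Models.lengthH R X ((Scheme.Modules.pushforward Γ.ι).obj N) p =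
      Module.finrank (IsLocalRing.ResidueField R) (Coh.HH Γ.curve.left N p) := by
  letI iO : Γ.curve.left.Over (Spec (CommRingCat.of R)) :=
    ⟨Γ.curve.hom ≫ Spec.map (CommRingCat.ofHom (IsLocalRing.residue R))⟩
  haveI : IsAffineHom Γ.ι := inferInstance
  have e := LinBridge1.lerayEquiv Γ.ι N R Γ.w p
  have h1 : Module.length R (Coh.HH X.left ((Scheme.Modules.pushforward Γ.ι).obj N) p) =
      Module.length R (Coh.HH Γ.curve.left N p) := e.length_eq
  have key : ∀ (r : R) (y : Coh.HH Γ.curve.left N p), r • y = (IsLocalRing.residue R r) • y := by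
    intro r y
    show (Coh.toGlobal (Γ.curve.hom ≫ Spec.map (CommRingCat.ofHom (IsLocalRing.residue R))) r) • y =
      (Coh.toGlobal Γ.curve.hom (IsLocalRing.residue R r)) • y
    rw [toGlobal_comp_residue]
  haveI : IsScalarTower R (IsLocalRing.ResidueField R) (Coh.HH Γ.curve.left N p) :=
    ⟨fun r c y => by
      rw [key r (c • y), Algebra.smul_def, mul_smul]
      rfl⟩
  have h2 : Module.length R (Coh.HH Γ.curve.left N p) =
      Module.length (IsLocalRing.ResidueField R) (Coh.HH Γ.curve.left N p) :=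
    Module.length_eq_of_surjective IsLocalRing.residue_surjective
  have h3 := Module.length_eq_rank (IsLocalRing.ResidueField R) (Coh.HH Γ.curve.left N p)
  unfold Models.lengthH
  rw [h1, h2, h3]
  exact Cardinal.toNat_toENat _

theorem subsingleton_HH_push (hp : IsProper X.hom) (N : Γ.curve.left.Modules) [N.IsQuasicoherent]
    (p : ℕ) (hp2 : 1 < p) :
    Subsingleton (Coh.HH X.left ((Scheme.Modules.pushforward Γ.ι).obj N) p) := by
  letI iO : Γ.curve.left.Over (Spec (CommRingCat.of R)) :=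
    ⟨Γ.curve.hom ≫ Spec.map (CommRingCat.ofHom (IsLocalRing.residue R))⟩
  haveI : IsAffineHom Γ.ι := inferInstance
  have e := LinBridge1.lerayEquiv Γ.ι N R Γ.w p
  haveI : IsProper (Γ.curve.left ↘ Spec (CommRingCat.of (IsLocalRing.ResidueField R))) :=
    ArInt.isProper_curve R X hp Γ
  haveI : IsNoetherian Γ.curve.left :=
    Euler.isNoetherian_of_proper (IsLocalRing.ResidueField R) Γ.curve.left
  haveI : Subsingleton (Coh.HH Γ.curve.left N p) :=
    FGAInt.subsingleton_HH_of_dim_lt Γ.curve.left 1 (by rw [Γ.dim_eq, Nat.cast_one]) N p hp2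
  exact e.toEquiv.subsingleton

end Push

section Les

variable {X}

include R in
/-- Euler characteristic additivity (degrees `0`, `1`) by lengths, when `H^2` of the kernel
vanishes -/
theorem chi_les (S : ShortComplex X.left.Modules) (hS : S.ShortExact)
    (h2 : Subsingleton (Coh.HH X.left S.X₁ 2))
    (hB0 : Module.length R (Coh.HH X.left S.X₂ 0) ≠ ⊤)
    (hB1 : Module.length R (Coh.HH X.left S.X₂ 1) ≠ ⊤)
    (hC0 : Module.length R (Coh.HH X.left S.X₃ 0) ≠ ⊤) :
    (((Module.length R (Coh.HH X.left S.X₂ 0)).toNat : ℤ) -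
        ((Module.length R (Coh.HH X.left S.X₂ 1)).toNat : ℤ)) =
      (((Module.length R (Coh.HH X.left S.X₁ 0)).toNat : ℤ) -
        ((Module.length R (Coh.HH X.left S.X₁ 1)).toNat : ℤ)) +
      (((Module.length R (Coh.HH X.left S.X₃ 0)).toNat : ℤ) -
        ((Module.length R (Coh.HH X.left S.X₃ 1)).toNat : ℤ)) := by
  have e1 : LinearMap.range (Canon.HHlin R S.f 0) = LinearMap.ker (Canon.HHlin R S.g 0) :=
    le_antisymm (by rintro _ ⟨y, rfl⟩; exact HHFin2.g_f R 0 y)
      (fun x hx => HHFin2.exact_f_g R hS 0 x hx)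
  have e2 : LinearMap.range (Canon.HHlin R S.g 0) = LinearMap.ker (HHFin2.deltaLin R hS 0) :=
    le_antisymm (by rintro _ ⟨y, rfl⟩; exact HHFin2.delta_g R hS 0 y)
      (fun x hx => HHFin2.exact_g_delta R hS 0 x hx)
  have e3 : LinearMap.range (HHFin2.deltaLin R hS 0) = LinearMap.ker (Canon.HHlin R S.f (0 + 1)) :=
    le_antisymm (by rintro _ ⟨y, rfl⟩; exact HHFin3.f_delta R hS 0 y)
      (fun x hx => HHFin3.exact_delta_f R hS 0 x hx)
  have e4 : LinearMap.range (Canon.HHlin R S.f 1) = LinearMap.ker (Canon.HHlin R S.g 1) :=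
    le_antisymm (by rintro _ ⟨y, rfl⟩; exact HHFin2.g_f R 1 y)
      (fun x hx => HHFin2.exact_f_g R hS 1 x hx)
  have hg1 : Function.Surjective (Canon.HHlin R S.g 1) := fun c =>
    HHFin2.exact_g_delta R hS 1 c (Subsingleton.elim _ _)
  exact six_term (R := R) (Canon.HHlin R S.f 0) (Canon.HHlin R S.g 0) (HHFin2.deltaLin R hS 0)
    (Canon.HHlin R S.f 1) (Canon.HHlin R S.g 1) (HHFin3.HHlin_f_zero_injective R hS)
    e1 e2 e3 e4 hg1 hB0 hB1 hC0

end Les

section Step

variable (hp : IsProper X.hom) (Γ : ArSurf.VertComp R X) (I : X.left.IdealSheafData)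
  (hI : PicF.IsInvertible (ClSub.idealMod I))
  (hle : Models.specialFibreIdeal R X ≤ I * Γ.ι.ker)

include hp hI hle in
/-- the long exact sequence part of `chi_step` -/
theorem chi_step_aux :
    ((Models.lengthH R X (ClSub.quotMod (I * Γ.ι.ker)) 0 : ℤ) -
        (Models.lengthH R X (ClSub.quotMod (I * Γ.ι.ker)) 1 : ℤ)) =
      ((Module.finrank (IsLocalRing.ResidueField R)
          (Coh.HH Γ.curve.left ((Scheme.Modules.pullback Γ.ι).obj (ClSub.idealMod I)) 0) : ℤ) -
        (Module.finrank (IsLocalRing.ResidueField R)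
          (Coh.HH Γ.curve.left ((Scheme.Modules.pullback Γ.ι).obj (ClSub.idealMod I)) 1) : ℤ)) +
      ((Models.lengthH R X (ClSub.quotMod I) 0 : ℤ) -
        (Models.lengthH R X (ClSub.quotMod I) 1 : ℤ)) := by
  haveI : IsProper (X.left ↘ Spec (CommRingCat.of R)) := hp
  have hIJ : I * Γ.ι.ker ≤ I := fun U =>
    (Ideal.mul_le_left : I.ideal U * Γ.ι.ker.ideal U ≤ I.ideal U)
  have hle' : Models.specialFibreIdeal R X ≤ I := hle.trans hIJ
  haveI : Epi (r I Γ.ι.ker) := epi_r I Γ.ι.ker
  have hS : (ShortComplex.mk (kernel.ι (r I Γ.ι.ker)) (r I Γ.ι.ker)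
      (kernel.condition _)).ShortExact :=
    ShortComplex.ShortExact.mk'
      (ShortComplex.exact_of_f_is_kernel _ (kernelIsKernel (r I Γ.ι.ker)))
      (inferInstanceAs (Mono (kernel.ι (r I Γ.ι.ker)))) (inferInstanceAs (Epi (r I Γ.ι.ker)))
  obtain ⟨e⟩ := nonempty_kernel_r_iso Γ.ι I hI
  haveI hNqc : ((Scheme.Modules.pullback Γ.ι).obj (ClSub.idealMod I)).IsQuasicoherent :=
    InvQc.isQuasicoherent_of_isInvertible _ (PullGen.isInvertible_pullback Γ.ι hI)
  have hA : ∀ p, (Module.length R (Coh.HH X.left (kernel (r I Γ.ι.ker)) p)).toNat =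
      Module.finrank (IsLocalRing.ResidueField R)
        (Coh.HH Γ.curve.left ((Scheme.Modules.pullback Γ.ι).obj (ClSub.idealMod I)) p) := by
    intro p
    rw [(HHFin1.HHequiv R e p).length_eq]
    exact lengthH_push R X Γ _ p
  have hsub2 : Subsingleton (Coh.HH X.left (kernel (r I Γ.ι.ker)) 2) := by
    haveI := subsingleton_HH_push R X Γ hp
      ((Scheme.Modules.pullback Γ.ι).obj (ClSub.idealMod I)) 2 (by norm_num)
    exact (HHFin1.HHequiv R e 2).toEquiv.subsingleton
  have hB0 := length_quotMod_ne_top R X hp (I * Γ.ι.ker) hle 0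
  have hB1 := length_quotMod_ne_top R X hp (I * Γ.ι.ker) hle 1
  have hC0 := length_quotMod_ne_top R X hp I hle' 0
  have main := chi_les R _ hS hsub2 hB0 hB1 hC0
  have main' : (((Module.length R (Coh.HH X.left (ClSub.quotMod (I * Γ.ι.ker)) 0)).toNat : ℤ) -
        ((Module.length R (Coh.HH X.left (ClSub.quotMod (I * Γ.ι.ker)) 1)).toNat : ℤ)) =
      (((Module.length R (Coh.HH X.left (kernel (r I Γ.ι.ker)) 0)).toNat : ℤ) -
        ((Module.length R (Coh.HH X.left (kernel (r I Γ.ι.ker)) 1)).toNat : ℤ)) +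
      (((Module.length R (Coh.HH X.left (ClSub.quotMod I) 0)).toNat : ℤ) -
        ((Module.length R (Coh.HH X.left (ClSub.quotMod I) 1)).toNat : ℤ)) := main
  rw [hA 0, hA 1] at main'
  exact main'

include hp hI hle in
/-- **adding a component**: `χ(O_{D+Γ}) - χ(O_D) = deg(I_D|_Γ) + χ(O_Γ)` -/
theorem chi_step :
    ((Models.lengthH R X (ClSub.quotMod (I * Γ.ι.ker)) 0 : ℤ) -
        (Models.lengthH R X (ClSub.quotMod (I * Γ.ι.ker)) 1 : ℤ)) -
      ((Models.lengthH R X (ClSub.quotMod I) 0 : ℤ) -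
        (Models.lengthH R X (ClSub.quotMod I) 1 : ℤ)) =
      ArSurf.inter R X (ClSub.idealMod I) Γ +
        ((Models.wdeg R X Γ : ℤ) - (Models.h1 R X Γ : ℤ)) := by
  have main := chi_step_aux R X hp Γ I hI hle
  have hinter : ArSurf.inter R X (ClSub.idealMod I) Γ =
      ((Module.finrank (IsLocalRing.ResidueField R)
          (Coh.HH Γ.curve.left ((Scheme.Modules.pullback Γ.ι).obj (ClSub.idealMod I)) 0) : ℤ) -
        (Module.finrank (IsLocalRing.ResidueField R)
          (Coh.HH Γ.curve.left ((Scheme.Modules.pullback Γ.ι).obj (ClSub.idealMod I)) 1) : ℤ)) -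
      ((Models.wdeg R X Γ : ℤ) - (Models.h1 R X Γ : ℤ)) := by
    unfold ArSurf.inter ArSurf.curveDeg FGA.eulerCharLE Models.wdeg Models.h1
    simp only [Finset.sum_range_succ, Finset.sum_range_zero, zero_add, pow_zero, pow_one, one_mul,
      neg_mul]
    ring
  rw [hinter]
  linarith

end Step

end Groth.Agent.Helper1.ChiA
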