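import Mathlib
import Groth.Agent.Lib.Helper1.ChowI

/-!
# Chow's lemma, part J: the variant without irreducibility hypotheses (helper1 library)
-/

set_option autoImplicit false
universe u
open CategoryTheory CategoryTheory.Limits AlgebraicGeometry TopologicalSpace Opposite

namespace Groth.Agent.Helper1.Chow

variable {X S : Scheme.{u}} {r : X ⟶ S}

/-- the conclusion of Chow's lemma without surjectivity -/
def Conclusion₀ (r : X ⟶ S) (U : X.Opens) : Prop :=
  ∃ (n : ℕ) (X' : Scheme.{u}) (π : X' ⟶ X) (j : X' ⟶ CohB1.ProjSpaceOver n S),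
    IsImmersion j ∧ j ≫ CohB1.ProjSpaceOver.toBase n S = π ≫ r ∧ IsProper π ∧ IsIso (π ∣_ U)

set_option maxHeartbeats 800000 in
theorem conclusion₀_of_good [IsSeparated r] {U : X.Opens}
    (P : Piece r U ⊤) (hP : P.Good) : Conclusion₀ r U := by
  obtain ⟨⟨n, c, hc, hcq⟩, hdom, hqc⟩ := hP
  have himm : IsImmersion P.g := P.imm
  have hsep : IsSeparated P.q := P.sep
  have hqprop : IsProper P.q := by rw [← hcq]; infer_instance
  let k : P.A' ⟶ pullback r P.q := pullback.lift P.α P.g P.comm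
  have hk1 : k ≫ pullback.fst r P.q = P.α := pullback.lift_fst _ _ _
  have hk2 : k ≫ pullback.snd r P.q = P.g := pullback.lift_snd _ _ _
  have hkimm : IsImmersion k := by
    have : IsImmersion (k ≫ pullback.snd r P.q) := by rw [hk2]; exact himm
    exact IsImmersion.of_comp k (pullback.snd r P.q)
  have hkcl : IsClosed (Set.range k) := by
    have h := P.closed.2
    rw [← closure_subset_iff_isClosed]
    intro z hz
    exact h ⟨hz, trivial⟩
  have hkci : IsClosedImmersion k := IsClosedImmersion.of_isPreimmersion k hkcl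
  have hπ : IsProper P.α := by rw [← hk1]; infer_instance
  have hsr : Set.range P.s ⊆ Set.range (P.α ⁻¹ᵁ U).ι := by
    rintro _ ⟨a, rfl⟩
    rw [Scheme.Opens.range_ι]
    change P.α (P.s a) ∈ U
    have : (P.s ≫ P.α) a = U.ι a := by rw [P.hs]
    have h2 : P.α (P.s a) = U.ι a := this
    rw [h2]; exact a.2
  let s' : (U : Scheme.{u}) ⟶ ((P.α ⁻¹ᵁ U : P.A'.Opens) : Scheme.{u}) :=
    IsOpenImmersion.lift (P.α ⁻¹ᵁ U).ι P.s hsr
  have hs' : s' ≫ (P.α ⁻¹ᵁ U).ι = P.s := IsOpenImmersion.lift_fac _ _ _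
  have hpb : IsPullback s' (𝟙 _) (P.α ⁻¹ᵁ U).ι P.s := IsOpenImmersion.isPullback_lift_id P.s _ hsr
  have hs'dom : IsSchemeTheoreticallyDominant s' :=
    IsSchemeTheoreticallyDominant.of_isPullback hpb.flip
  have hsec : s' ≫ (P.α ∣_ U) = 𝟙 _ := by
    rw [← cancel_mono U.ι, Category.assoc, morphismRestrict_ι, ← Category.assoc, hs', P.hs,
      Category.id_comp]
  have hiso : IsIso (P.α ∣_ U) := (isIso_of_section_of_dominant s' (P.α ∣_ U) hsec).2
  refine ⟨n, P.A', P.α, P.g ≫ c, inferInstance, ?_, hπ, hiso⟩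
  rw [Category.assoc, hcq, P.comm]

theorem conclusion₀_of_cover [IsSeparated r] {U : X.Opens} [QuasiCompact U.ι]
    {ι : Type*} (t : Finset ι) (ht : t.Nonempty) (A : ι → X.Opens)
    (hcov : t.sup A = ⊤)
    (hA : ∀ a ∈ t, ∃ P : Piece r U (A a), RelProj.IsHProjective P.q) : Conclusion₀ r U := by
  obtain ⟨P, hP⟩ := exists_good_congr hcov (exists_good_sup t ht A hA)
  exact conclusion₀_of_good P hP

/-- the trichotomy lemma: a nonempty open contained in or disjoint from each member of a finite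
family of opens -/
theorem exists_open_trichotomy {Y : Type*} [TopologicalSpace Y] [Nonempty Y] {ι : Type*}
    (t : Finset ι) (W : ι → Opens Y) :
    ∃ O : Opens Y, (O : Set Y).Nonempty ∧ ∀ a ∈ t, O ≤ W a ∨ Disjoint O (W a) := by
  induction t using Finset.cons_induction with
  | empty => exact ⟨⊤, Set.univ_nonempty, fun a ha => absurd ha (Finset.notMem_empty a)⟩
  | cons a s has ih =>
    obtain ⟨O, hO, hOs⟩ := ih
    by_cases h : ((O ⊓ W a : Opens Y) : Set Y).Nonempty
    · refine ⟨O ⊓ W a, h, fun b hb => ?_⟩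
      rcases Finset.mem_cons.1 hb with rfl | hb
      · exact Or.inl inf_le_right
      · rcases hOs b hb with h1 | h1
        · exact Or.inl (inf_le_left.trans h1)
        · exact Or.inr (h1.mono_left inf_le_left)
    · refine ⟨O, hO, fun b hb => ?_⟩
      rcases Finset.mem_cons.1 hb with rfl | hb
      · right
        rw [disjoint_iff]
        apply Opens.ext
        rw [Set.not_nonempty_iff_eq_empty] at h
        exact h
      · exact hOs b hb

set_option maxHeartbeats 800000 in
/-- **Chow's lemma without irreducibility hypotheses** (no surjectivity, nonempty open) -/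
theorem exists_nonempty_conclusion₀ {X S : Scheme.{u}} (r : X ⟶ S) [IsSeparated r]
    [LocallyOfFiniteType r] [QuasiCompact r] [CompactSpace S] [QuasiSeparatedSpace S]
    [Nonempty X] :
    ∃ U : X.Opens, (U : Set X).Nonempty ∧ Conclusion₀ r U := by
  classical
  have hXc : CompactSpace X := QuasiCompact.compactSpace_of_compactSpace r
  have hXqs : QuasiSeparatedSpace X := quasiSeparatedSpace_of_quasiSeparated r
  have hcoverx : ∀ x : X, ∃ W : X.Opens, x ∈ W ∧ IsAffineOpen W ∧
      ∃ V : S.Opens, IsAffineOpen V ∧ W ≤ r ⁻¹ᵁ V := by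
    intro x
    obtain ⟨V, hV, hxV, -⟩ := Opens.isBasis_iff_nbhd.mp S.isBasis_affineOpens
      (show r x ∈ (⊤ : S.Opens) from trivial)
    obtain ⟨W, hW, hxW, hWV⟩ := Opens.isBasis_iff_nbhd.mp X.isBasis_affineOpens
      (show x ∈ r ⁻¹ᵁ V from hxV)
    exact ⟨W, hxW, hW, V, hV, hWV⟩
  choose W hxW hWaff V hVaff hWV using hcoverx
  obtain ⟨t, ht⟩ := isCompact_univ.elim_finite_subcover (fun x => (W x : Set X))
    (fun x => (W x).2) (fun x _ => Set.mem_iUnion.2 ⟨x, hxW x⟩)
  obtain ⟨O, ⟨p, hpO⟩, hOt⟩ := exists_open_trichotomy t W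
  obtain ⟨U, hUaff, hpU, hUO⟩ : ∃ U : X.Opens, IsAffineOpen U ∧ p ∈ U ∧ U ≤ O :=
    Opens.isBasis_iff_nbhd.mp X.isBasis_affineOpens hpO
  have hUt : ∀ x ∈ t, U ≤ W x ∨ Disjoint U (W x) := by
    intro x hx
    rcases hOt x hx with h | h
    · exact Or.inl (hUO.trans h)
    · exact Or.inr (h.mono_left hUO)
  have hUemb : HasEmb r U := by
    have h1 : p ∈ ⋃ x ∈ t, (W x : Set X) := ht (Set.mem_univ _)
    simp only [Set.mem_iUnion] at h1
    obtain ⟨x, hxt, hpx⟩ := h1
    rcases hUt x hxt with h | h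
    · exact hasEmb_of_affine U hUaff (V x) (hVaff x) (h.trans (hWV x))
    · exfalso
      have h2 : p ∈ U ⊓ W x := ⟨hpU, hpx⟩
      rw [disjoint_iff.1 h] at h2
      exact h2
  have hUqc : QuasiCompact U.ι :=
    quasiCompact_ι_of' U (fun A hA hAc =>
      QuasiSeparatedSpace.inter_isCompact _ _ U.2 hUaff.isCompact hA hAc)
  let A : X → X.Opens := fun x => if U ≤ W x then W x else W x ⊔ U
  have hAemb : ∀ x ∈ t, HasEmb r (A x) := by
    intro x hxt
    have hWx := hasEmb_of_affine (W x) (hWaff x) (V x) (hVaff x) (hWV x)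
    by_cases h : U ≤ W x
    · simp only [A, if_pos h]; exact hWx
    · simp only [A, if_neg h]
      rcases hUt x hxt with h' | h'
      · exact absurd h' h
      · exact hWx.sup_of_disjoint hUemb h'.symm
  have hUA : ∀ x, U ≤ A x := by
    intro x
    by_cases h : U ≤ W x
    · simp only [A, if_pos h]; exact h
    · simp only [A, if_neg h]; exact le_sup_right
  have hWA : ∀ x, W x ≤ A x := by
    intro x
    by_cases h : U ≤ W x
    · simp only [A, if_pos h]; exact le_rfl
    · simp only [A, if_neg h]; exact le_sup_left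
  let T : Finset X.Opens := insert U (t.image A)
  have hT : ∀ O ∈ T, ∃ P : Piece r U O, RelProj.IsHProjective P.q := by
    intro O hO
    rcases Finset.mem_insert.1 hO with rfl | hO
    · exact hUemb.piece le_rfl
    · obtain ⟨x, hxt, rfl⟩ := Finset.mem_image.1 hO
      exact (hAemb x hxt).piece (hUA x)
  have hcov : T.sup id = ⊤ := by
    rw [eq_top_iff]
    intro y _
    have h1 : y ∈ ⋃ x ∈ t, (W x : Set X) := ht (Set.mem_univ _)
    simp only [Set.mem_iUnion] at h1
    obtain ⟨x, hxt, hyx⟩ := h1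
    have h2 : A x ≤ T.sup id :=
      Finset.le_sup (f := id) (Finset.mem_insert_of_mem (Finset.mem_image_of_mem A hxt))
    exact h2 (hWA x hyx)
  exact ⟨U, ⟨p, hpU⟩, conclusion₀_of_cover T ⟨U, Finset.mem_insert_self _ _⟩ id hcov hT⟩

/-- **S8563** form -/
theorem exists_chow_nonempty {X S : Scheme.{u}} (r : X ⟶ S) [IsSeparated r]
    [LocallyOfFiniteType r] [QuasiCompact r] [CompactSpace S] [QuasiSeparatedSpace S]
    [Nonempty X] :
    ∃ (Xbar : Scheme.{u}) (π : Xbar ⟶ X), RelProj.IsHProjective π ∧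
      RelProj.IsHQuasiProjective (π ≫ r) ∧ ∃ U : X.Opens, (U : Set X).Nonempty ∧ IsIso (π ∣_ U) := by
  obtain ⟨U, hUne, n, X', π, j, hj, hjq, hπ, hiso⟩ := exists_nonempty_conclusion₀ r
  refine ⟨X', π, ?_, ?_, U, hUne, hiso⟩
  · have hpb := HProj.isPullback_baseMap n r
    let k' : X' ⟶ CohB1.ProjSpaceOver n X := hpb.lift j π hjq
    have hk1 : k' ≫ HProj.baseMap n r = j := hpb.lift_fst _ _ _
    have hk2 : k' ≫ CohB1.ProjSpaceOver.toBase n X = π := hpb.lift_snd _ _ _
    have : IsImmersion k' := by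
      have : IsImmersion (k' ≫ HProj.baseMap n r) := by rw [hk1]; exact hj
      exact IsImmersion.of_comp k' (HProj.baseMap n r)
    have : IsProper (k' ≫ CohB1.ProjSpaceOver.toBase n X) := by rw [hk2]; exact hπ
    exact ⟨n, k', isClosedImmersion_of_isProper_comp k' (CohB1.ProjSpaceOver.toBase n X), hk2⟩
  · have : QuasiCompact (j ≫ CohB1.ProjSpaceOver.toBase n S) := by rw [hjq]; infer_instance
    exact ⟨n, j, hj, QuasiCompact.of_comp j (CohB1.ProjSpaceOver.toBase n S), hjq⟩

end Groth.Agent.Helper1.Chow
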