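import Mathlib
import Groth.Prelude.Def_Curves

namespace Groth.Agent.Helper1.CiField

universe u v w

open MvPolynomial

/-- `IsCi` for arbitrary finite index types. -/
theorem isCi_fintype {K : Type u} [Field K] {i : ℕ} (hK : Curves.IsCi K i)
    {ι : Type v} {σ : Type w} [Fintype ι] [Fintype σ]
    (f : ι → MvPolynomial σ K) (d : ι → ℕ) (hf : ∀ ρ, (f ρ).IsHomogeneous (d ρ))
    (hd : ∀ ρ, 0 < d ρ) (hlt : (∑ ρ, d ρ ^ i) < Fintype.card σ) :
    ∃ a : σ → K, a ≠ 0 ∧ ∀ ρ, MvPolynomial.eval a (f ρ) = 0 := by
  classical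
  let eι := Fintype.equivFin ι
  let eσ := Fintype.equivFin σ
  obtain ⟨a, ha, hz⟩ := hK (Fintype.card ι) (Fintype.card σ)
    (fun k => rename eσ (f (eι.symm k))) (fun k => d (eι.symm k))
    (fun k => (hf _).rename_isHomogeneous) (fun k => hd _)
    (by
      rw [Fintype.sum_equiv eι.symm (fun k => d (eι.symm k) ^ i) (fun ρ => d ρ ^ i) (fun _ => rfl)]
      exact hlt)
  refine ⟨a ∘ eσ, ?_, ?_⟩
  · intro h
    apply ha
    funext k
    have := congrFun h (eσ.symm k)
    simpa using this
  · intro ρ
    have := hz (eι ρ)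
    simp only [Equiv.symm_apply_apply, eval_rename] at this
    exact this

section comp

variable {K : Type u} {L : Type v} [Field K] [Field L] [Algebra K L]
  {m : ℕ} (e : Module.Basis (Fin m) K L) {σ : Type w}

/-- the `j`-th coordinate polynomial -/
noncomputable def comp (j : Fin m) (P : MvPolynomial σ L) : MvPolynomial σ K :=
  ∑ α ∈ P.support, monomial α (e.coord j (coeff α P))

theorem coeff_comp (j : Fin m) (P : MvPolynomial σ L) (β : σ →₀ ℕ) :
    coeff β (comp e j P) = e.coord j (coeff β P) := by
  classical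
  unfold comp
  rw [coeff_sum]
  simp only [coeff_monomial]
  rw [Finset.sum_ite_eq']
  split_ifs with h
  · rfl
  · rw [MvPolynomial.notMem_support_iff.mp h, map_zero]

theorem comp_isHomogeneous (j : Fin m) {P : MvPolynomial σ L} {d : ℕ} (hP : P.IsHomogeneous d) :
    (comp e j P).IsHomogeneous d := by
  intro β hβ
  apply hP
  intro h0
  apply hβ
  rw [coeff_comp, h0, map_zero]

theorem sum_comp (P : MvPolynomial σ L) :
    P = ∑ j, C (e j) * map (algebraMap K L) (comp e j P) := by
  ext β
  rw [coeff_sum]
  simp only [coeff_C_mul, coeff_map, coeff_comp]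
  conv_lhs => rw [← e.sum_repr (coeff β P)]
  apply Finset.sum_congr rfl
  intro j _
  rw [Algebra.smul_def, mul_comm]
  rfl

theorem eval_comp (P : MvPolynomial σ L) (a : σ → K) :
    eval (fun s => algebraMap K L (a s)) P = ∑ j, e j * algebraMap K L (eval a (comp e j P)) := by
  conv_lhs => rw [sum_comp e P]
  rw [map_sum]
  apply Finset.sum_congr rfl
  intro j _
  rw [map_mul, eval_C, eval_map]
  congr 1
  have := MvPolynomial.eval₂_comp_left (algebraMap K L) (RingHom.id K) a (comp e j P)
  simp only [RingHom.comp_id] at this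
  exact this.symm

end comp

/-- A finite extension of a `C_i` field (systems version) is `C_i`. -/
theorem isCi_of_finite (K : Type u) [Field K] (L : Type v) [Field L] [Algebra K L]
    [FiniteDimensional K L] (i : ℕ) (hK : Curves.IsCi K i) : Curves.IsCi L i := by
  classical
  intro r n f d hf hd hlt
  let m := Module.finrank K L
  have hm : 0 < m := Module.finrank_pos
  let e : Module.Basis (Fin m) K L := Module.finBasis K L
  let Y : Fin n → MvPolynomial (Fin n × Fin m) L := fun s => ∑ j, C (e j) * X (s, j)
  have hY : ∀ s, (Y s).IsHomogeneous 1 := fun s =>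
    IsHomogeneous.sum _ _ _ fun j _ => isHomogeneous_C_mul_X _ _
  let F : Fin r → MvPolynomial (Fin n × Fin m) L := fun ρ => aeval Y (f ρ)
  have hF : ∀ ρ, (F ρ).IsHomogeneous (d ρ) := fun ρ => by
    have := (hf ρ).aeval Y hY
    rwa [one_mul] at this
  obtain ⟨a, ha, hz⟩ := isCi_fintype hK (ι := Fin r × Fin m) (σ := Fin n × Fin m)
    (fun t => comp e t.2 (F t.1)) (fun t => d t.1)
    (fun t => comp_isHomogeneous e t.2 (hF t.1)) (fun t => hd t.1)
    (by
      rw [Fintype.sum_prod_type]
      simp only [Finset.sum_const, Finset.card_univ, Fintype.card_fin, smul_eq_mul,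
        Fintype.card_prod]
      rw [← Finset.mul_sum, mul_comm n m]
      exact (Nat.mul_lt_mul_left hm).mpr hlt)
  let y : Fin n → L := fun s => ∑ j, e j * algebraMap K L (a (s, j))
  refine ⟨y, ?_, ?_⟩
  · intro hy
    apply ha
    funext ⟨s, j⟩
    have h0 : ∑ j, a (s, j) • e j = 0 := by
      have := congrFun hy s
      simp only [Pi.zero_apply] at this
      rw [← this]
      apply Finset.sum_congr rfl
      intro j _
      rw [Algebra.smul_def, mul_comm]
    have := (Fintype.linearIndependent_iff.mp e.linearIndependent) (fun j => a (s, j)) h0 j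
    exact this
  · intro ρ
    have h1 : eval (fun t => algebraMap K L (a t)) (F ρ) = 0 := by
      rw [eval_comp e]
      apply Finset.sum_eq_zero
      intro j _
      rw [hz (ρ, j), map_zero, mul_zero]
    have h2 : eval (fun t => algebraMap K L (a t)) (F ρ) = eval y (f ρ) := by
      simp only [F, aeval_def]
      rw [MvPolynomial.eval₂_comp_left (eval fun t => algebraMap K L (a t))]
      have hc : (eval fun t => algebraMap K L (a t)).comp
          (algebraMap L (MvPolynomial (Fin n × Fin m) L)) = RingHom.id L := by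
        ext x; simp
      have hy : (eval fun t => algebraMap K L (a t)) ∘ Y = y := by
        funext s; simp [Y, y]
      rw [hc, hy]
      rfl
    rw [← h2, h1]


/-- An algebraic extension of a `C_i` field (systems version) is `C_i`. -/
theorem isCi_of_algebraic (K : Type u) [Field K] (L : Type v) [Field L] [Algebra K L]
    [Algebra.IsAlgebraic K L] (i : ℕ) (hK : Curves.IsCi K i) : Curves.IsCi L i := by
  classical
  intro r n f d hf hd hlt
  let S : Set L := ⋃ ρ, ((f ρ).support.image (fun α => coeff α (f ρ)) : Set L)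
  have hS : S.Finite := Set.finite_iUnion (fun ρ => Finset.finite_toSet _)
  have hS' : Finite S := hS
  let E := IntermediateField.adjoin K S
  have hfd : FiniteDimensional K E := IntermediateField.finiteDimensional_adjoin
    (fun x _ => (Algebra.IsAlgebraic.isAlgebraic x).isIntegral)
  have hmem : ∀ ρ α, coeff α (f ρ) ∈ E := by
    intro ρ α
    by_cases h : α ∈ (f ρ).support
    · apply IntermediateField.subset_adjoin
      exact Set.mem_iUnion.mpr ⟨ρ, Finset.mem_coe.mpr (Finset.mem_image_of_mem _ h)⟩
    · rw [notMem_support_iff.mp h]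
      exact E.zero_mem
  let f' : Fin r → MvPolynomial (Fin n) E := fun ρ =>
    ∑ α ∈ (f ρ).support, monomial α ⟨coeff α (f ρ), hmem ρ α⟩
  have hf' : ∀ ρ, map (algebraMap E L) (f' ρ) = f ρ := by
    intro ρ
    simp only [f', map_sum, map_monomial]
    exact support_sum_monomial_coeff (f ρ)
  have hhom : ∀ ρ, (f' ρ).IsHomogeneous (d ρ) := fun ρ =>
    IsHomogeneous.of_map (algebraMap E L).injective (by rw [hf']; exact hf ρ)
  obtain ⟨a, ha, hz⟩ := isCi_of_finite K E i hK r n f' d hhom hd hlt
  refine ⟨fun s => algebraMap E L (a s), ?_, ?_⟩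
  · intro h
    apply ha
    funext s
    have := congrFun h s
    exact (algebraMap E L).injective (by simpa using this)
  · intro ρ
    rw [← hf', eval_map]
    have := MvPolynomial.eval₂_comp_left (algebraMap E L) (RingHom.id E) a (f' ρ)
    simp only [RingHom.comp_id] at this
    rw [show (fun s => algebraMap E L (a s)) = (algebraMap E L) ∘ a from rfl, ← this]
    have hz' := hz ρ
    rw [show (eval a) (f' ρ) = eval₂ (RingHom.id E) a (f' ρ) from rfl] at hz'
    rw [hz', map_zero]

section RatFuncCi

variable {K : Type u} [Field K]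

/-- all `T`-coefficients are homogeneous of degree `k` -/
def CoeffHom {σ : Type w} (P : Polynomial (MvPolynomial σ K)) (k : ℕ) : Prop :=
  ∀ ℓ, (P.coeff ℓ).IsHomogeneous k

namespace CoeffHom

variable {σ : Type w} {P Q : Polynomial (MvPolynomial σ K)} {k l : ℕ}

theorem mul (hP : CoeffHom P k) (hQ : CoeffHom Q l) : CoeffHom (P * Q) (k + l) := by
  intro ℓ
  rw [Polynomial.coeff_mul]
  exact IsHomogeneous.sum _ _ _ fun x _ => (hP _).mul (hQ _)

theorem one : CoeffHom (1 : Polynomial (MvPolynomial σ K)) 0 := by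
  intro ℓ
  rw [Polynomial.coeff_one]
  split_ifs
  · exact isHomogeneous_one _ _
  · exact isHomogeneous_zero _ _ _

theorem pow (hP : CoeffHom P k) (e : ℕ) : CoeffHom (P ^ e) (k * e) := by
  induction e with
  | zero => simpa using one
  | succ e ih =>
    rw [pow_succ, Nat.mul_succ]
    exact ih.mul hP

theorem sum {ι : Type*} (s : Finset ι) (P : ι → Polynomial (MvPolynomial σ K))
    (h : ∀ x ∈ s, CoeffHom (P x) k) : CoeffHom (∑ x ∈ s, P x) k := by
  intro ℓ
  rw [Polynomial.finsetSum_coeff]
  exact IsHomogeneous.sum _ _ _ fun x hx => h x hx ℓ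

theorem prod {ι : Type*} (s : Finset ι) (P : ι → Polynomial (MvPolynomial σ K)) (k : ι → ℕ)
    (h : ∀ x ∈ s, CoeffHom (P x) (k x)) : CoeffHom (∏ x ∈ s, P x) (∑ x ∈ s, k x) := by
  classical
  induction s using Finset.induction_on with
  | empty => simpa using one
  | insert a s ha ih =>
    rw [Finset.prod_insert ha, Finset.sum_insert ha]
    exact (h a (Finset.mem_insert_self _ _)).mul (ih fun x hx => h x (Finset.mem_insert_of_mem hx))

theorem map_C (q : Polynomial K) :
    CoeffHom (q.map (MvPolynomial.C : K →+* MvPolynomial σ K)) 0 := by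
  intro ℓ
  rw [Polynomial.coeff_map]
  exact isHomogeneous_C _ _

end CoeffHom

theorem exists_zero_polynomial {i : ℕ} (hK : Curves.IsCi K i) {r n : ℕ}
    (g : Fin r → MvPolynomial (Fin n) (Polynomial K)) (d : Fin r → ℕ)
    (hg : ∀ ρ, (g ρ).IsHomogeneous (d ρ)) (hd : ∀ ρ, 0 < d ρ)
    (hlt : (∑ ρ, d ρ ^ (i + 1)) < n) :
    ∃ y : Fin n → Polynomial K, y ≠ 0 ∧ ∀ ρ, MvPolynomial.eval y (g ρ) = 0 := by
  classical
  let c : Fin r → ℕ := fun ρ => (g ρ).support.sup fun α => (coeff α (g ρ)).natDegree
  let s : ℕ := ∑ ρ, (c ρ + 1) * d ρ ^ i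
  let Y : Fin n → Polynomial (MvPolynomial (Fin n × Fin (s + 1)) K) := fun v =>
    ∑ j : Fin (s + 1), Polynomial.C (X (v, j)) * Polynomial.X ^ (j : ℕ)
  let φ : Polynomial K →+* Polynomial (MvPolynomial (Fin n × Fin (s + 1)) K) :=
    Polynomial.mapRingHom (MvPolynomial.C)
  let G : Fin r → Polynomial (MvPolynomial (Fin n × Fin (s + 1)) K) := fun ρ =>
    MvPolynomial.eval₂ φ Y (g ρ)
  have hY1 : ∀ v, CoeffHom (Y v) 1 := by
    intro v
    apply CoeffHom.sum
    intro j _ ℓ
    rw [Polynomial.coeff_C_mul, Polynomial.coeff_X_pow]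
    split_ifs
    · rw [mul_one]; exact isHomogeneous_X _ _
    · rw [mul_zero]; exact isHomogeneous_zero _ _ _
  have hYdeg : ∀ v, (Y v).natDegree ≤ s := by
    intro v
    apply Polynomial.natDegree_sum_le_of_forall_le
    intro j _
    refine (Polynomial.natDegree_C_mul_X_pow_le _ _).trans ?_
    have := j.2
    omega
  have hsupp : ∀ ρ, ∀ α ∈ (g ρ).support, ∑ v, α v = d ρ := by
    intro ρ α hα
    have := hg ρ (mem_support_iff.mp hα)
    rw [← Finsupp.degree_eq_sum, Finsupp.degree_eq_weight_one]
    exact this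
  have hGeq : ∀ ρ, G ρ = ∑ α ∈ (g ρ).support, φ (coeff α (g ρ)) * ∏ v, Y v ^ α v :=
    fun ρ => MvPolynomial.eval₂_eq' _ _ _
  have hG1 : ∀ ρ, CoeffHom (G ρ) (d ρ) := by
    intro ρ
    rw [hGeq]
    apply CoeffHom.sum
    intro α hα
    have h1 : CoeffHom (∏ v, Y v ^ α v) (∑ v, 1 * α v) :=
      CoeffHom.prod _ _ _ fun v _ => (hY1 v).pow _
    simp only [one_mul] at h1
    rw [hsupp ρ α hα] at h1
    have := (CoeffHom.map_C (σ := Fin n × Fin (s + 1)) (coeff α (g ρ))).mul h1
    rwa [zero_add] at this
  have hGdeg : ∀ ρ, (G ρ).natDegree ≤ d ρ * s + c ρ := by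
    intro ρ
    rw [hGeq]
    apply Polynomial.natDegree_sum_le_of_forall_le
    intro α hα
    refine Polynomial.natDegree_mul_le.trans ?_
    have h1 : (φ (coeff α (g ρ))).natDegree ≤ c ρ := by
      refine (Polynomial.natDegree_map_le).trans ?_
      exact Finset.le_sup (f := fun α => (coeff α (g ρ)).natDegree) hα
    have h2 : (∏ v, Y v ^ α v).natDegree ≤ d ρ * s := by
      refine (Polynomial.natDegree_prod_le _ _).trans ?_
      rw [← hsupp ρ α hα, Finset.sum_mul]
      apply Finset.sum_le_sum
      intro v _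
      refine Polynomial.natDegree_pow_le.trans ?_
      exact Nat.mul_le_mul_left _ (hYdeg v)
    omega
  -- the system
  have hcount : (∑ t : (Σ ρ : Fin r, Fin (d ρ * s + c ρ + 1)), d t.1 ^ i) <
      Fintype.card (Fin n × Fin (s + 1)) := by
    rw [Fintype.sum_sigma]
    simp only [Finset.sum_const, Finset.card_univ, Fintype.card_fin, smul_eq_mul,
      Fintype.card_prod]
    have e1 : ∀ ρ, (d ρ * s + c ρ + 1) * d ρ ^ i = s * d ρ ^ (i + 1) + (c ρ + 1) * d ρ ^ i := by
      intro ρ; ring
    simp only [e1, Finset.sum_add_distrib, ← Finset.mul_sum]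
    change s * (∑ ρ, d ρ ^ (i + 1)) + s < n * (s + 1)
    have h3 : s * (∑ ρ, d ρ ^ (i + 1)) + s ≤ s * n := by
      have : (∑ ρ, d ρ ^ (i + 1)) + 1 ≤ n := hlt
      calc s * (∑ ρ, d ρ ^ (i + 1)) + s = s * ((∑ ρ, d ρ ^ (i + 1)) + 1) := by ring
        _ ≤ s * n := Nat.mul_le_mul_left _ this
    have hn : 0 < n := lt_of_le_of_lt (Nat.zero_le _) hlt
    nlinarith
  obtain ⟨a, ha, hz⟩ := isCi_fintype hK (ι := Σ ρ : Fin r, Fin (d ρ * s + c ρ + 1))
    (σ := Fin n × Fin (s + 1)) (fun t => (G t.1).coeff t.2) (fun t => d t.1)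
    (fun t => hG1 t.1 t.2) (fun t => hd t.1) hcount
  let y : Fin n → Polynomial K := fun v =>
    ∑ j : Fin (s + 1), Polynomial.C (a (v, j)) * Polynomial.X ^ (j : ℕ)
  refine ⟨y, ?_, ?_⟩
  · intro hy
    apply ha
    funext ⟨v, j⟩
    have h0 : (y v).coeff (j : ℕ) = 0 := by rw [hy]; simp
    simp only [y, Polynomial.finsetSum_coeff, Polynomial.coeff_C_mul, Polynomial.coeff_X_pow] at h0
    rw [Finset.sum_eq_single j] at h0
    · simpa using h0
    · intro j' _ hj'
      rw [if_neg, mul_zero]
      intro h
      exact hj' (Fin.ext h.symm)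
    · intro h; exact absurd (Finset.mem_univ j) h
  · intro ρ
    have hmap : MvPolynomial.eval y (g ρ) = Polynomial.map (MvPolynomial.eval a) (G ρ) := by
      change _ = Polynomial.mapRingHom (MvPolynomial.eval a) (MvPolynomial.eval₂ φ Y (g ρ))
      rw [MvPolynomial.eval₂_comp_left]
      have hc : (Polynomial.mapRingHom (MvPolynomial.eval a)).comp φ = RingHom.id _ := by
        ext x
        · simp [φ]
        · simp [φ]
      have hy' : (Polynomial.mapRingHom (MvPolynomial.eval a)) ∘ Y = y := by
        funext v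
        simp [Y, y, Polynomial.map_sum]
      rw [hc, hy']
      rfl
    rw [hmap]
    ext ℓ
    rw [Polynomial.coeff_map, Polynomial.coeff_zero]
    by_cases hℓ : ℓ ≤ d ρ * s + c ρ
    · exact hz ⟨ρ, ⟨ℓ, by omega⟩⟩
    · rw [Polynomial.coeff_eq_zero_of_natDegree_lt (by have := hGdeg ρ; omega), map_zero]

end RatFuncCi


/-- If `K` is `C_i` (systems version) then `K(T)` is `C_{i+1}`. -/
theorem isCi_ratFunc (K : Type u) [Field K] (i : ℕ) (hK : Curves.IsCi K i) :
    Curves.IsCi (RatFunc K) (i + 1) := by
  classical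
  intro r n f d hf hd hlt
  have hclear : ∀ ρ, ∃ (b : Polynomial K) (g : MvPolynomial (Fin n) (Polynomial K)), b ≠ 0 ∧
      MvPolynomial.map (algebraMap (Polynomial K) (RatFunc K)) g =
        C (algebraMap (Polynomial K) (RatFunc K) b) * f ρ := by
    intro ρ
    obtain ⟨b, hb⟩ := IsLocalization.exist_integer_multiples_of_finset
      (nonZeroDivisors (Polynomial K)) ((f ρ).support.image fun α => coeff α (f ρ))
    have hb' : ∀ α ∈ (f ρ).support, ∃ p : Polynomial K,
        algebraMap (Polynomial K) (RatFunc K) p = (b : Polynomial K) • coeff α (f ρ) :=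
      fun α hα => hb _ (Finset.mem_image_of_mem _ hα)
    choose! p hp using hb'
    refine ⟨b, ∑ α ∈ (f ρ).support, monomial α (p α), nonZeroDivisors.coe_ne_zero b, ?_⟩
    rw [map_sum]
    simp only [map_monomial]
    conv_rhs => rw [← support_sum_monomial_coeff (f ρ), Finset.mul_sum]
    apply Finset.sum_congr rfl
    intro α hα
    rw [hp α hα, C_mul_monomial, Algebra.smul_def]
  choose b g hb hg using hclear
  have hinj : Function.Injective (algebraMap (Polynomial K) (RatFunc K)) :=
    IsFractionRing.injective (Polynomial K) (RatFunc K)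
  have hghom : ∀ ρ, (g ρ).IsHomogeneous (d ρ) := fun ρ =>
    IsHomogeneous.of_map hinj (by
      rw [hg]
      have := (isHomogeneous_C (Fin n) (algebraMap (Polynomial K) (RatFunc K) (b ρ))).mul (hf ρ)
      rwa [zero_add] at this)
  obtain ⟨y, hy, hz⟩ := exists_zero_polynomial hK g d hghom hd hlt
  refine ⟨fun v => algebraMap (Polynomial K) (RatFunc K) (y v), ?_, ?_⟩
  · intro h
    apply hy
    funext v
    have := congrFun h v
    exact hinj (by simpa using this)
  · intro ρ
    have h0 : eval (fun v => algebraMap (Polynomial K) (RatFunc K) (y v))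
        (C (algebraMap (Polynomial K) (RatFunc K) (b ρ)) * f ρ) = 0 := by
      rw [← hg, eval_map]
      have := MvPolynomial.eval₂_comp_left (algebraMap (Polynomial K) (RatFunc K))
        (RingHom.id _) y (g ρ)
      simp only [RingHom.comp_id] at this
      rw [show (fun v => algebraMap (Polynomial K) (RatFunc K) (y v)) =
        (algebraMap (Polynomial K) (RatFunc K)) ∘ y from rfl, ← this]
      have hz' := hz ρ
      rw [show (eval y) (g ρ) = eval₂ (RingHom.id _) y (g ρ) from rfl] at hz'
      rw [hz', map_zero]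
    rw [map_mul, eval_C] at h0
    refine (mul_eq_zero.mp h0).resolve_left ?_
    intro hb0
    exact hb ρ (hinj (by rw [hb0, map_zero]))

section AlgClosedC0

variable (k : Type u) [Field k]

/-- The maximal ideal of the origin. -/
noncomputable def originIdeal (n : ℕ) : Ideal (MvPolynomial (Fin n) k) :=
  RingHom.ker (MvPolynomial.eval (0 : Fin n → k))

instance (n : ℕ) : (originIdeal k n).IsMaximal :=
  RingHom.ker_isMaximal_of_surjective _ (fun z => ⟨C z, by simp⟩)

theorem le_height_originIdeal (n : ℕ) : (n : ℕ∞) ≤ (originIdeal k n).height := by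
  induction n with
  | zero => simp
  | succ n ih =>
    let ψ : Polynomial (MvPolynomial (Fin n) k) →+* k :=
      (MvPolynomial.eval (0 : Fin n → k)).comp (Polynomial.evalRingHom 0)
    have hψsurj : Function.Surjective ψ := fun z => ⟨Polynomial.C (C z), by simp [ψ]⟩
    have hmax : (RingHom.ker ψ).IsMaximal := RingHom.ker_isMaximal_of_surjective _ hψsurj
    have hlies : (RingHom.ker ψ).LiesOver (originIdeal k n) := by
      constructor
      ext g
      simp only [originIdeal, RingHom.mem_ker, Ideal.under, Ideal.mem_comap]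
      simp [ψ]
    have h1 : (RingHom.ker ψ).height = (originIdeal k n).height + 1 :=
      Polynomial.height_eq_height_add_one (originIdeal k n) (RingHom.ker ψ)
    have hcomp : ψ.comp (finSuccEquiv k n : MvPolynomial (Fin (n + 1)) k →+* _) =
        MvPolynomial.eval (0 : Fin (n + 1) → k) := by
      apply MvPolynomial.ringHom_ext
      · intro c
        simp [ψ, finSuccEquiv_apply]
      · intro i
        refine Fin.cases ?_ (fun j => ?_) i
        · simp [ψ, finSuccEquiv_apply]
        · simp [ψ, finSuccEquiv_apply]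
    have h2 : originIdeal k (n + 1) =
        Ideal.comap (finSuccEquiv k n).toRingEquiv (RingHom.ker ψ) := by
      ext g
      simp only [originIdeal, RingHom.mem_ker, Ideal.mem_comap]
      rw [← hcomp]
      rfl
    rw [h2, RingEquiv.height_comap, h1]
    push_cast
    exact add_le_add_left ih 1 |>.trans_eq (by ring) |>.trans' (by rw [add_comm])


/-- An algebraically closed field is `C_0` (systems version). -/
theorem isCi_zero_of_isAlgClosed [IsAlgClosed k] : Curves.IsCi k 0 := by
  classical
  intro r n f d hf hd hlt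
  simp only [pow_zero, Finset.sum_const, Finset.card_univ, Fintype.card_fin, smul_eq_mul,
    mul_one] at hlt
  by_contra hne
  push Not at hne
  let I : Ideal (MvPolynomial (Fin n) k) := Ideal.span ((Finset.univ.image f : Finset _) : Set _)
  have hfI : ∀ ρ, f ρ ∈ I := fun ρ =>
    Ideal.subset_span (Finset.mem_coe.mpr (Finset.mem_image_of_mem _ (Finset.mem_univ ρ)))
  have hIm : I ≤ originIdeal k n := by
    rw [Ideal.span_le]
    intro p hp
    obtain ⟨ρ, -, rfl⟩ := Finset.mem_image.mp (Finset.mem_coe.mp hp)
    change eval 0 (f ρ) = 0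
    rw [MvPolynomial.eval_zero, constantCoeff_eq]
    apply (hf ρ).coeff_eq_zero
    have := hd ρ
    simp only [map_zero, ne_eq]
    omega
  have hzero : zeroLocus k I ⊆ {0} := by
    intro x hx
    by_contra hx0
    obtain ⟨ρ, hρ⟩ := hne x hx0
    apply hρ
    have := hx (f ρ) (hfI ρ)
    rwa [MvPolynomial.aeval_eq_eval] at this
  have hmrad : originIdeal k n ≤ I.radical := by
    rw [← vanishingIdeal_zeroLocus_eq_radical (K := k)]
    intro p hp x hx
    have hx0 : x = 0 := hzero hx
    subst hx0
    rw [MvPolynomial.aeval_eq_eval]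
    exact hp
  have hmin : originIdeal k n ∈ I.minimalPrimes := by
    refine ⟨⟨inferInstance, hIm⟩, ?_⟩
    rintro q ⟨hq, hIq⟩ -
    exact hmrad.trans (hq.radical_le_iff.mpr hIq)
  have h1 := Ideal.height_le_card_of_mem_minimalPrimes_span_finset hmin
  have h2 := le_height_originIdeal k n
  have h3 : ((Finset.univ.image f).card : ℕ∞) ≤ r := by
    exact_mod_cast Finset.card_image_le.trans (by simp)
  have : (n : ℕ∞) ≤ r := h2.trans (h1.trans h3)
  have : n ≤ r := by exact_mod_cast this
  omega

end AlgClosedC0

theorem isCi_of_ringHom_surjective {K : Type u} {L : Type v} [Field K] [Field L] (e : K →+* L)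
    (he : Function.Surjective e) {i : ℕ} (hK : Curves.IsCi K i) : Curves.IsCi L i := by
  let _ : Algebra K L := e.toAlgebra
  have : Algebra.IsAlgebraic K L := by
    constructor
    intro x
    obtain ⟨y, rfl⟩ := he x
    exact isAlgebraic_algebraMap (R := K) (A := L) y
  exact isCi_of_algebraic K L i hK

theorem isCi_of_ringEquiv {K : Type u} {L : Type v} [Field K] [Field L] (e : K ≃+* L)
    {i : ℕ} (hK : Curves.IsCi K i) : Curves.IsCi L i :=
  isCi_of_ringHom_surjective e.toRingHom e.surjective hK

section Tower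

variable (k : Type u) [Field k]

/-- `Frac(k[X_0..X_j]) ≃ Frac(k[X_1..X_j])(T)` -/
theorem exists_ringEquiv_ratFunc (j : ℕ) :
    Nonempty (FractionRing (MvPolynomial (Fin (j + 1)) k) ≃+*
      RatFunc (FractionRing (MvPolynomial (Fin j) k))) := by
  let R := MvPolynomial (Fin j) k
  let F := FractionRing R
  let R' := MvPolynomial (Fin (j + 1)) k
  let F' := FractionRing R'
  let h : R' →+* RatFunc F := (algebraMap (Polynomial F) (RatFunc F)).comp
    ((Polynomial.mapRingHom (algebraMap R F)).comp (finSuccEquiv k j).toRingEquiv.toRingHom)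
  have hinj : Function.Injective h := by
    refine (IsFractionRing.injective (Polynomial F) (RatFunc F)).comp ?_
    refine (Polynomial.map_injective _ (IsFractionRing.injective R F)).comp ?_
    exact (finSuccEquiv k j).injective
  let g : F' →+* RatFunc F := IsFractionRing.lift hinj
  have hg : ∀ x : R', g (algebraMap R' F' x) = h x := fun x => IsFractionRing.lift_algebraMap hinj x
  let S : Subfield (RatFunc F) := g.fieldRange
  let cc : F →+* RatFunc F := (algebraMap (Polynomial F) (RatFunc F)).comp Polynomial.C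
  have h1 : ∀ a : R, cc (algebraMap R F a) ∈ S := by
    intro a
    refine ⟨algebraMap R' F' ((finSuccEquiv k j).symm (Polynomial.C a)), ?_⟩
    rw [hg]
    simp [h, cc]
  have h2 : ∀ c : F, algebraMap (Polynomial F) (RatFunc F) (Polynomial.C c) ∈ S := by
    intro c
    obtain ⟨a, b, hb, rfl⟩ := IsFractionRing.div_surjective (A := R) c
    change cc _ ∈ S
    rw [map_div₀]
    exact S.div_mem (h1 a) (h1 b)
  have h3 : algebraMap (Polynomial F) (RatFunc F) Polynomial.X ∈ S := by
    refine ⟨algebraMap R' F' (X 0), ?_⟩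
    rw [hg]
    rw [show h (X 0) = algebraMap (Polynomial F) (RatFunc F)
      (Polynomial.map (algebraMap R F) (finSuccEquiv k j (X 0))) from rfl,
      finSuccEquiv_X_zero, Polynomial.map_X]
  have h4 : ∀ p : Polynomial F, algebraMap (Polynomial F) (RatFunc F) p ∈ S := by
    intro p
    induction p using Polynomial.induction_on with
    | C a => exact h2 a
    | add p q hp hq => rw [map_add]; exact S.add_mem hp hq
    | monomial n a ih =>
      rw [pow_succ, ← mul_assoc, map_mul]
      exact S.mul_mem ih h3
  have hsurj : Function.Surjective g := by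
    intro z
    obtain ⟨p, q, hq, rfl⟩ := IsFractionRing.div_surjective (A := Polynomial F) z
    exact S.div_mem (h4 p) (h4 q)
  exact ⟨RingEquiv.ofBijective g ⟨g.injective, hsurj⟩⟩


theorem isCi_fractionRing_mvPolynomial [IsAlgClosed k] (j : ℕ) :
    Curves.IsCi (FractionRing (MvPolynomial (Fin j) k)) j := by
  induction j with
  | zero =>
    have h1 : Algebra.IsAlgebraic k (MvPolynomial (Fin 0) k) := by
      constructor
      intro x
      obtain ⟨c, rfl⟩ := MvPolynomial.C_surjective (R := k) (Fin 0) x
      exact isAlgebraic_algebraMap (R := k) (A := MvPolynomial (Fin 0) k) c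
    have h2 : Algebra.IsAlgebraic (MvPolynomial (Fin 0) k)
        (FractionRing (MvPolynomial (Fin 0) k)) :=
      IsLocalization.isAlgebraic _ (nonZeroDivisors (MvPolynomial (Fin 0) k))
    have h3 : Algebra.IsAlgebraic k (FractionRing (MvPolynomial (Fin 0) k)) :=
      Algebra.IsAlgebraic.trans k (MvPolynomial (Fin 0) k) _
    exact isCi_of_algebraic k _ 0 (isCi_zero_of_isAlgClosed k)
  | succ j ih =>
    obtain ⟨e⟩ := exists_ringEquiv_ratFunc k j
    exact isCi_of_ringEquiv e.symm (isCi_ratFunc _ j ih)

/-- **Tsen–Lang** (systems version). -/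
theorem tsen_lang [IsAlgClosed k] (K : Type u) [Field K] [Algebra k K]
    (j : ℕ) (hj : Algebra.trdeg k K = j) : Curves.IsCi K j := by
  classical
  obtain ⟨ι, x, hx⟩ := exists_isTranscendenceBasis' k K
  have hcard : Cardinal.mk ι = j := hx.cardinalMk_eq_trdeg.trans hj
  have hfin : Finite ι := by
    rw [← Cardinal.lt_aleph0_iff_finite, hcard]
    exact Cardinal.natCast_lt_aleph0
  have : Fintype ι := Fintype.ofFinite ι
  have hcard' : Fintype.card ι = j := by
    rw [Cardinal.mk_fintype] at hcard
    exact_mod_cast hcard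
  let eι : ι ≃ Fin j := Fintype.equivFinOfCardEq hcard'
  let E := IntermediateField.adjoin k (Set.range x)
  have halg : Algebra.IsAlgebraic E K := hx.isAlgebraic_field
  let e1 : FractionRing (MvPolynomial ι k) ≃ₐ[k] E := hx.1.aevalEquivField
  let e2 : FractionRing (MvPolynomial (Fin j) k) ≃+* FractionRing (MvPolynomial ι k) :=
    IsFractionRing.ringEquivOfRingEquiv (renameEquiv k eι.symm).toRingEquiv
  have hE : Curves.IsCi E j :=
    isCi_of_ringEquiv (e2.trans e1.toRingEquiv) (isCi_fractionRing_mvPolynomial k j)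
  exact isCi_of_algebraic E K j hE

end Tower

/-- `IsCr` for an arbitrary finite type of variables. -/
theorem isCr_fintype {K : Type u} [Field K] {i : ℕ} (hK : Curves.IsCr K i)
    {σ : Type w} [Fintype σ] (d : ℕ)
    (f : MvPolynomial σ K) (hf : f.IsHomogeneous d)
    (hd : 0 < d) (hlt : d ^ i < Fintype.card σ) :
    ∃ a : σ → K, a ≠ 0 ∧ MvPolynomial.eval a f = 0 := by
  classical
  let eσ := Fintype.equivFin σ
  obtain ⟨a, ha, hz⟩ := hK (Fintype.card σ) d (rename eσ f) hf.rename_isHomogeneous hd hlt
  refine ⟨a ∘ eσ, ?_, ?_⟩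
  · intro h
    apply ha
    funext k
    have := congrFun h (eσ.symm k)
    simpa using this
  · rw [eval_rename] at hz
    exact hz

/-- A finite extension of a `C_1` field (single form version) is `C_1`. -/
theorem isCr_one_of_finite (K : Type u) [Field K] (L : Type v) [Field L] [Algebra K L]
    [FiniteDimensional K L] (hK : Curves.IsCr K 1) : Curves.IsCr L 1 := by
  classical
  intro n d f hf hd hlt
  rw [pow_one] at hlt
  let m := Module.finrank K L
  have hm : 0 < m := Module.finrank_pos
  let e : Module.Basis (Fin m) K L := Module.finBasis K L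
  let Y : Fin n → MvPolynomial (Fin n × Fin m) L := fun s => ∑ j, C (e j) * X (s, j)
  have hY : ∀ s, (Y s).IsHomogeneous 1 := fun s =>
    IsHomogeneous.sum _ _ _ fun j _ => isHomogeneous_C_mul_X _ _
  let F : MvPolynomial (Fin n × Fin m) L := aeval Y f
  have hF : F.IsHomogeneous d := by
    have := hf.aeval Y hY
    rwa [one_mul] at this
  let M : Matrix (Fin m) (Fin m) (MvPolynomial (Fin n × Fin m) K) :=
    fun j l => comp e j (C (e l) * F)
  have hM : ∀ j l, (M j l).IsHomogeneous d := fun j l => by
    apply comp_isHomogeneous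
    have := (isHomogeneous_C (Fin n × Fin m) (e l)).mul hF
    rwa [zero_add] at this
  let G : MvPolynomial (Fin n × Fin m) K := M.det
  have hG : G.IsHomogeneous (d * m) := by
    simp only [G, Matrix.det_apply]
    apply IsHomogeneous.sum
    intro σ _
    have h1 : (∏ j, M (σ j) j).IsHomogeneous (∑ _j : Fin m, d) :=
      IsHomogeneous.prod _ _ _ fun j _ => hM _ _
    simp only [Finset.sum_const, Finset.card_univ, Fintype.card_fin, smul_eq_mul] at h1
    rw [mul_comm] at h1
    rcases Int.units_eq_one_or (Equiv.Perm.sign σ) with h | h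
    · rw [h, one_smul]; exact h1
    · rw [h, Units.neg_smul, one_smul]; exact h1.neg
  obtain ⟨a, ha, hz⟩ := isCr_fintype hK (σ := Fin n × Fin m) (d * m) G hG
    (Nat.mul_pos hd hm) (by
      rw [pow_one, Fintype.card_prod, Fintype.card_fin, Fintype.card_fin]
      exact (Nat.mul_lt_mul_right hm).mpr hlt)
  let a' : Fin n × Fin m → L := fun t => algebraMap K L (a t)
  -- evaluate the matrix
  have hMeval : (eval a).mapMatrix M = Algebra.leftMulMatrix e (eval a' F) := by
    ext j l
    rw [RingHom.mapMatrix_apply, Matrix.map_apply, Algebra.leftMulMatrix_eq_repr_mul]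
    have h1 := eval_comp e (C (e l) * F) a
    rw [map_mul, eval_C] at h1
    have h2 : eval a' F * e l = ∑ j, (eval a (comp e j (C (e l) * F))) • e j := by
      rw [mul_comm, h1]
      apply Finset.sum_congr rfl
      intro j _
      rw [Algebra.smul_def, mul_comm]
    rw [h2, e.repr_sum_self]
  have hnorm : Algebra.norm K (eval a' F) = 0 := by
    rw [Algebra.norm_eq_matrix_det e, ← hMeval, ← RingHom.map_det]
    exact hz
  have hFa : eval a' F = 0 := Algebra.norm_eq_zero_iff.mp hnorm
  let y : Fin n → L := fun s => ∑ j, e j * algebraMap K L (a (s, j))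
  refine ⟨y, ?_, ?_⟩
  · intro hy
    apply ha
    funext ⟨s, j⟩
    have h0 : ∑ j, a (s, j) • e j = 0 := by
      have := congrFun hy s
      simp only [Pi.zero_apply] at this
      rw [← this]
      apply Finset.sum_congr rfl
      intro j _
      rw [Algebra.smul_def, mul_comm]
    have := (Fintype.linearIndependent_iff.mp e.linearIndependent) (fun j => a (s, j)) h0 j
    exact this
  · have h2 : eval a' F = eval y f := by
      simp only [F, aeval_def]
      rw [MvPolynomial.eval₂_comp_left (eval a')]
      have hc : (eval a').comp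
          (algebraMap L (MvPolynomial (Fin n × Fin m) L)) = RingHom.id L := by
        ext x; simp
      have hy : (eval a') ∘ Y = y := by
        funext s; simp [Y, y, a']
      rw [hc, hy]
      rfl
    rw [← h2, hFa]

end Groth.Agent.Helper1.CiField
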