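import Mathlib
import Groth.Agent.Lib.Helper1.PtInv2
import Groth.Agent.Lib.Helper1.GenusOne2
import Groth.Agent.Lib.Helper1.CurveLin4
import Groth.Agent.Lib.Helper1.CompAmple

/-!
# Clifford's inequality without duality: general points on a smooth proper curve (helper1)

For invertible `G`, `M` on a regular integral proper curve over an algebraically closed field with
`h⁰(M) ≥ 1` and `H¹(G ⊗ M) ≠ 0` we show `h⁰(M) - 1 + h¹(G ⊗ M) ≤ h¹(G)`, by moving general points
from `M` to `G`.
-/

set_option autoImplicit false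
universe u
open CategoryTheory CategoryTheory.Limits AlgebraicGeometry TopologicalSpace Opposite

namespace Groth.Agent.Helper1.Cliff

open Groth.Agent.Helper1.QcCech Groth.Agent.Helper1.SubSh Groth.Agent.Helper1.LGen
open Groth.Agent.Helper1.TmulLib Groth.Agent.Helper1 Groth.Agent.Helper1.TwForm
open Groth.Agent.Helper1.TensGen Groth.Agent.Lib.Helper4.TwExact Groth.Agent.Helper1.Dv
open Groth.Agent.Lib.Helper4 Groth.Agent.Helper1.CurveAmp Groth.Agent.Helper1.FinSupp
open Groth.Agent.Helper1.Euler Groth.Agent.Helper1.Curve Groth.Agent.Helper1.CurveLin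
open Groth.Agent.Helper1.CurveDual Groth.Agent.Helper1.CurvePt Groth.Agent.Helper1.PtInv
open Groth.Agent.Helper1.GenusOne

section Local

variable {X : Scheme.{u}}

/-- away from the support, the inclusion of an ideal sheaf is bijective on sections -/
theorem bijective_idealModι_app (Z : X.IdealSheafData) (V : X.Opens)
    (hV : ∀ x ∈ V, x ∉ (Z.support : Set X)) :
    Function.Bijective ((ClSub.idealModι Z).app V) := by
  refine ⟨IdealModL.ι_injective Z V, fun r => ?_⟩
  haveI : Subsingleton Γ(Z.subscheme, Z.subschemeι ⁻¹ᵁ V) := by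
    have hbot : Z.subschemeι ⁻¹ᵁ V = ⊥ := by
      ext z
      simp only [Opens.coe_bot, Set.mem_empty_iff_false, iff_false]
      intro hz
      have h1 : Z.subschemeι z ∈ (Z.support : Set X) := by
        rw [← Scheme.IdealSheafData.range_subschemeι]
        exact ⟨z, rfl⟩
      exact hV _ hz h1
    rw [hbot]
    infer_instance
  exact IdealModL.exists_of_app_eq_zero Z V r (Subsingleton.elim _ _)

/-- a morphism which is bijective on the sections over small opens preserves generators -/
theorem isGen_of_bijective {A B : X.Modules} (φ : A ⟶ B) (W : X.Opens)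
    (hφ : ∀ V : X.Opens, V ≤ W → Function.Bijective (φ.app V)) {a : Γ(A, W)}
    (ha : IsGen A W a) : IsGen B W (φ.app W a) := by
  intro V hV
  have h1 := ha V hV
  have h2 := hφ V hV
  have : (fun r : Γ(X, V) => r • res B hV (φ.app W a)) =
      (φ.app V) ∘ (fun r : Γ(X, V) => r • res A hV a) := by
    funext r
    change _ = φ.app V (r • res A hV a)
    rw [← QcExt.app_res]
    exact (Scheme.Modules.Hom.app_smul φ r (res A hV a)).symm
  rw [this]
  exact h2.comp h1

/-- a section of `I_Z ⊗ E` generating at a point off `Z` maps to a section of `O ⊗ E` generating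
there -/
theorem genAt_of_genAt_ideal_tensor (Z : X.IdealSheafData) {E : X.Modules}
    (hE : PicF.IsInvertible E) (P : X) (hPZ : P ∉ (Z.support : Set X))
    (σ : Γ(CohB1.tensorMod (ClSub.idealMod Z) E, ⊤))
    (hσ : GenAt (CohB1.tensorMod (ClSub.idealMod Z) E) σ P) :
    GenAt (CohB1.tensorMod (Coh.structureModule X) E)
      (((TL E).map (ClSub.idealModι Z)).app ⊤ σ) P := by
  obtain ⟨V, hPV, hV⟩ := hσ
  obtain ⟨W, a, hPW, ha⟩ := exists_isGen hE P
  let U₀ : X.Opens := ⟨(Z.support : Set X)ᶜ, Z.support.isClosed.isOpen_compl⟩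
  have hPU : P ∈ U₀ := hPZ
  obtain ⟨W', hW'⟩ : ∃ W' : X.Opens, W' = (V ⊓ W) ⊓ U₀ := ⟨_, rfl⟩
  have hW'V : W' ≤ V := hW' ▸ inf_le_left.trans inf_le_left
  have hW'W : W' ≤ W := hW' ▸ inf_le_left.trans inf_le_right
  have hW'U : W' ≤ U₀ := hW' ▸ inf_le_right
  have hPW' : P ∈ W' := hW' ▸ ⟨⟨hPV, hPW⟩, hPU⟩
  have ha' : IsGen E W' (res E hW'W a) := ha.res hW'W
  have hσ' : IsGen (CohB1.tensorMod (ClSub.idealMod Z) E) W'
      (res (CohB1.tensorMod (ClSub.idealMod Z) E) (le_top : W' ≤ ⊤) σ) := by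
    have := hV.res hW'V
    rwa [res_res] at this
  obtain ⟨m, hm⟩ := (bijective_tm_of_isGen (ClSub.idealMod Z) ha').2
    (res (CohB1.tensorMod (ClSub.idealMod Z) E) (le_top : W' ≤ ⊤) σ)
  have hm' : tm (ClSub.idealMod Z) E W' m (res E hW'W a) =
      res (CohB1.tensorMod (ClSub.idealMod Z) E) (le_top : W' ≤ ⊤) σ := hm
  have hmgen : IsGen (ClSub.idealMod Z) W' m := by
    apply Groth.Agent.Helper1.CompAmple.isGen_of_isGen_tm (σ := res E hW'W a) _ ha'
    rw [hm']
    exact hσ'
  have hbij : ∀ V' : X.Opens, V' ≤ W' → Function.Bijective ((ClSub.idealModι Z).app V') :=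
    fun V' hV' => bijective_idealModι_app Z V' (fun x hx => hW'U (hV' hx))
  have hιm := isGen_of_bijective (ClSub.idealModι Z) W' hbij hmgen
  have happ : res (CohB1.tensorMod (Coh.structureModule X) E) (le_top : W' ≤ ⊤)
      (((TL E).map (ClSub.idealModι Z)).app ⊤ σ) =
      tm (Coh.structureModule X) E W' ((ClSub.idealModι Z).app W' m) (res E hW'W a) := by
    have h1 := QcExt.app_res ((TL E).map (ClSub.idealModι Z)) (le_top : W' ≤ ⊤) σ
    have h2 := TL_map_tm E (ClSub.idealModι Z) W' m (res E hW'W a)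
    rw [hm'] at h2
    exact h1.symm.trans h2
  refine ⟨W', hPW', ?_⟩
  rw [happ]
  exact isGen_tm hιm ha'

end Local

section Curve

variable (k : Type u) [Field k] [IsAlgClosed k] (X : Scheme.{u}) [X.Over (Spec (CommRingCat.of k))]
  [IsIntegral X] [IsProper (X ↘ (Spec (CommRingCat.of k)))]

/-- Riemann–Roch bookkeeping -/
theorem rr (hdim : topologicalKrullDim X = 1) (E : X.Modules) (hE : PicF.IsInvertible E) :
    (Module.finrank k (Coh.HH X E 0) : ℤ) - Module.finrank k (Coh.HH X E 1) =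
      Curv2.deg k X E 1 + Curv2.euler k X (Coh.structureModule X) := by
  have h := euler_eq_h0_sub_h1 k X hdim.le E (InvQc.isCoh_of_isInvertible _ hE).1
  unfold Curv2.deg
  rw [← h]
  push_cast
  ring

/-- removing a point which is not a base point: `h¹` is unchanged -/
theorem h1_eq_of_genAt (hdim : topologicalKrullDim X = 1) (P : X) (hP : IsClosed ({P} : Set X))
    (hI : PicF.IsInvertible (ClSub.idealMod (ptIdeal P hP))) (E' E : X.Modules)
    (hE' : PicF.IsInvertible E')
    (e : CohB1.tensorMod (ClSub.idealMod (ptIdeal P hP)) E' ≅ E)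
    (hgen : ∃ σ : Γ(E', ⊤), GenAt E' σ P) :
    Module.finrank k (Coh.HH X E 1) = Module.finrank k (Coh.HH X E' 1) ∧
      Module.finrank k (Coh.HH X E 0) + 1 = Module.finrank k (Coh.HH X E' 0) ∧
      Curv2.deg k X E 1 = Curv2.deg k X E' 1 - 1 := by
  have hE : PicF.IsInvertible E :=
    TwistAmpleOpen.isInvertible_of_iso e (isInvertible_tensorMod hI hE')
  have hd : Curv2.deg k X E 1 = Curv2.deg k X E' 1 - 1 := by
    rw [← deg_iso k X e 1]
    exact deg_tensor_ptIdeal k X hdim.le P hP hI E' hE'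
  obtain ⟨u⟩ := TwistAmpleOpen.nonempty_tensorMod_unit_iso E'
  have h0 := finrank_add_one_of_genAt k X E' hE' P hP hgen
  rw [(HHFin1.HHequiv k e 0).finrank_eq, (HHFin1.HHequiv k u 0).finrank_eq] at h0
  have r1 := rr k X hdim E hE
  have r2 := rr k X hdim E' hE'
  refine ⟨?_, h0, hd⟩
  omega

/-- removing a base point: `h¹` goes up by one -/
theorem h1_eq_of_not_genAt (hdim : topologicalKrullDim X = 1) (P : X)
    (hP : IsClosed ({P} : Set X))
    (hI : PicF.IsInvertible (ClSub.idealMod (ptIdeal P hP))) (E' E : X.Modules)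
    (hE' : PicF.IsInvertible E')
    (e : CohB1.tensorMod (ClSub.idealMod (ptIdeal P hP)) E' ≅ E)
    (hgen : ∀ σ : Γ(E', ⊤), ¬ GenAt E' σ P) :
    Module.finrank k (Coh.HH X E 1) = Module.finrank k (Coh.HH X E' 1) + 1 ∧
      Module.finrank k (Coh.HH X E 0) = Module.finrank k (Coh.HH X E' 0) ∧
      Curv2.deg k X E 1 = Curv2.deg k X E' 1 - 1 := by
  have hE : PicF.IsInvertible E :=
    TwistAmpleOpen.isInvertible_of_iso e (isInvertible_tensorMod hI hE')
  have hd : Curv2.deg k X E 1 = Curv2.deg k X E' 1 - 1 := by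
    rw [← deg_iso k X e 1]
    exact deg_tensor_ptIdeal k X hdim.le P hP hI E' hE'
  obtain ⟨u⟩ := TwistAmpleOpen.nonempty_tensorMod_unit_iso E'
  have h0 := finrank_eq_of_not_genAt k X E' hE' P hP hgen
  rw [(HHFin1.HHequiv k e 0).finrank_eq, (HHFin1.HHequiv k u 0).finrank_eq] at h0
  have r1 := rr k X hdim E hE
  have r2 := rr k X hdim E' hE'
  refine ⟨?_, h0, hd⟩
  omega

include k in
/-- there is a closed point outside a finite set of closed points -/
theorem exists_closedPoint_notMem (hdim : topologicalKrullDim X = 1) (S : Finset X)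
    (hS : ∀ Q ∈ S, IsClosed ({Q} : Set X)) :
    ∃ (P : X) (_ : IsClosed ({P} : Set X)), P ∉ S := by
  have hcl : IsClosed ((S : Set X)) := by
    have : (S : Set X) = ⋃ Q ∈ S, ({Q} : Set X) := by
      ext x
      simp
    rw [this]
    exact isClosed_biUnion_finset (fun Q hQ => hS Q hQ)
  let U : X.Opens := ⟨(S : Set X)ᶜ, hcl.isOpen_compl⟩
  have hη : genericPoint X ∈ U := by
    intro hmem
    have hQ := hS _ (Finset.mem_coe.1 hmem)
    haveI : Nonempty ↥({genericPoint X} : Set X) := ⟨⟨_, rfl⟩⟩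
    exact genericPoint_notMem_of_dim_le_zero X hdim {genericPoint X} hQ
      (topologicalKrullDim_zero_of_discreteTopology ↥({genericPoint X} : Set X)) rfl
  obtain ⟨P, hPU, hP⟩ := exists_closedPoint_mem k (X ↘ (Spec (CommRingCat.of k))) U _ hη
  exact ⟨P, hP, fun h => hPU (Finset.mem_coe.2 h)⟩

include k in
/-- **a good point**: if `H¹(G) ≠ 0` there are a closed point `P` and `G' = G(P)` such that `P` is
a base point of `G'` (so that `h¹(G(P)) = h¹(G) - 1`) -/
theorem exists_good_point (hdim : topologicalKrullDim X = 1)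
    (hpt : ∀ (P : X) (hP : IsClosed ({P} : Set X)),
      PicF.IsInvertible (ClSub.idealMod (ptIdeal P hP)))
    (G : X.Modules) (hG : PicF.IsInvertible G) (h1 : Nontrivial (Coh.HH X G 1)) :
    ∃ (P : X) (hP : IsClosed ({P} : Set X)) (G' : X.Modules), PicF.IsInvertible G' ∧
      Nonempty (CohB1.tensorMod (ClSub.idealMod (ptIdeal P hP)) G' ≅ G) ∧
      ∀ σ : Γ(G', ⊤), ¬ GenAt G' σ P := by
  classical
  by_contra hcon
  have hbad : ∀ (P : X) (hP : IsClosed ({P} : Set X)) (G' : X.Modules), PicF.IsInvertible G' →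
      Nonempty (CohB1.tensorMod (ClSub.idealMod (ptIdeal P hP)) G' ≅ G) →
      ∃ σ : Γ(G', ⊤), GenAt G' σ P := by
    intro P hP G' hG' he
    by_contra hno
    push Not at hno
    exact hcon ⟨P, hP, G', hG', he, hno⟩
  have key : ∀ n : ℕ, ∃ (S : Finset X) (E : X.Modules), (∀ Q ∈ S, IsClosed ({Q} : Set X)) ∧
      PicF.IsInvertible E ∧ Curv2.deg k X E 1 = Curv2.deg k X G 1 + n ∧
      Module.finrank k (Coh.HH X E 1) = Module.finrank k (Coh.HH X G 1) ∧
      ∀ (P : X) (hP : IsClosed ({P} : Set X)), P ∉ S → ∀ E' : X.Modules, PicF.IsInvertible E' →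
        Nonempty (CohB1.tensorMod (ClSub.idealMod (ptIdeal P hP)) E' ≅ E) →
        ∃ σ : Γ(E', ⊤), GenAt E' σ P := by
    intro n
    induction n with
    | zero =>
      refine ⟨∅, G, by simp, hG, by simp, rfl, fun P hP _ E' hE' he => hbad P hP E' hE' he⟩
    | succ n ih =>
      obtain ⟨S, E, hS, hE, hdegE, hh1, hinv⟩ := ih
      obtain ⟨Q, hQ, hQS⟩ := exists_closedPoint_notMem k X hdim S hS
      obtain ⟨J, hJ, ⟨eJ⟩⟩ := InvInv2.exists_inverse (hpt Q hQ)
      have hEp : PicF.IsInvertible (CohB1.tensorMod J E) := isInvertible_tensorMod hJ hE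
      obtain ⟨uE⟩ := TwistAmpleOpen.nonempty_tensorMod_unit_iso E
      have ep : CohB1.tensorMod (ClSub.idealMod (ptIdeal Q hQ)) (CohB1.tensorMod J E) ≅ E :=
        (assocIso (ClSub.idealMod (ptIdeal Q hQ)) hJ hE).symm ≪≫
          TwistTens.tensorModCongrLeft (TildeTens.tensorModComm _ _ ≪≫ eJ) E ≪≫ uE
      obtain ⟨σ, hσ⟩ := hinv Q hQ hQS _ hEp ⟨ep⟩
      obtain ⟨hh, -, hd⟩ := h1_eq_of_genAt k X hdim Q hQ (hpt Q hQ) _ E hEp ep ⟨σ, hσ⟩
      refine ⟨insert Q S, CohB1.tensorMod J E, ?_, hEp, ?_, ?_, ?_⟩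
      · intro Q' hQ'
        rcases Finset.mem_insert.1 hQ' with h | h
        · rw [h]; exact hQ
        · exact hS Q' h
      · rw [hdegE] at hd
        push_cast
        linarith
      · rw [← hh, hh1]
      · intro P hP hPS E' hE' he'
        obtain ⟨eE'⟩ := he'
        have hPQ : P ≠ Q := fun h => hPS (by rw [h]; exact Finset.mem_insert_self _ _)
        have hPS' : P ∉ S := fun h => hPS (Finset.mem_insert_of_mem h)
        have hE'' : PicF.IsInvertible (CohB1.tensorMod (ClSub.idealMod (ptIdeal Q hQ)) E') :=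
          isInvertible_tensorMod (hpt Q hQ) hE'
        have e'' : CohB1.tensorMod (ClSub.idealMod (ptIdeal P hP))
            (CohB1.tensorMod (ClSub.idealMod (ptIdeal Q hQ)) E') ≅ E :=
          (assocIso (ClSub.idealMod (ptIdeal P hP)) (hpt Q hQ) hE').symm ≪≫
            TwistTens.tensorModCongrLeft (TildeTens.tensorModComm _ _) E' ≪≫
            assocIso (ClSub.idealMod (ptIdeal Q hQ)) (hpt P hP) hE' ≪≫
            TwistTens.tensorModCongrRight _ eE' ≪≫ ep
        obtain ⟨σ'', hσ''⟩ := hinv P hP hPS' _ hE'' ⟨e''⟩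
        have hPZ : P ∉ ((ptIdeal Q hQ).support : Set X) := by
          rw [ptIdeal_support]
          exact hPQ
        have hg := genAt_of_genAt_ideal_tensor (ptIdeal Q hQ) hE' P hPZ σ'' hσ''
        obtain ⟨uE'⟩ := TwistAmpleOpen.nonempty_tensorMod_unit_iso E'
        exact ⟨_, genAt_of_iso uE' _ P hg⟩
  obtain ⟨S, E, -, hE, hdegE, hh1, -⟩ :=
    key (2 * (Curv2.genus k X : ℤ) - 1 - Curv2.deg k X G 1).toNat
  have hsub : Subsingleton (Coh.HH X E 1) := by
    apply subsingleton_H1_of_deg_ge k X hdim E hE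
    rw [hdegE]
    have := Int.self_le_toNat (2 * (Curv2.genus k X : ℤ) - 1 - Curv2.deg k X G 1)
    linarith
  have hGc := InvQc.isCoh_of_isInvertible _ hG
  haveI : Module.Finite k (Coh.HH X G 1) := T2Main1.t2 k X G hGc 1
  haveI := h1
  have hpos : 0 < Module.finrank k (Coh.HH X G 1) := Module.finrank_pos
  rw [← hh1, Module.finrank_zero_of_subsingleton] at hpos
  exact lt_irrefl _ hpos

/-- **Hopf–Clifford without duality**: `h⁰(M) - 1 + h¹(G ⊗ M) ≤ h¹(G)` -/
theorem hopf_clifford (hdim : topologicalKrullDim X = 1)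
    (hpt : ∀ (P : X) (hP : IsClosed ({P} : Set X)),
      PicF.IsInvertible (ClSub.idealMod (ptIdeal P hP))) :
    ∀ (n : ℕ) (G M : X.Modules), PicF.IsInvertible G → PicF.IsInvertible M →
      Module.finrank k (Coh.HH X G 1) ≤ n → 1 ≤ Module.finrank k (Coh.HH X M 0) →
      Nontrivial (Coh.HH X (CohB1.tensorMod G M) 1) →
      Module.finrank k (Coh.HH X M 0) + Module.finrank k (Coh.HH X (CohB1.tensorMod G M) 1) ≤
        Module.finrank k (Coh.HH X G 1) + 1 := by
  intro n
  induction n with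
  | zero =>
    intro G M hG hM hn h0 hnt
    exfalso
    have hGc := InvQc.isCoh_of_isInvertible _ hG
    have := h0_le_h1_of_nontrivial k X hdim G M hGc hM hnt
    omega
  | succ n ih =>
    intro G M hG hM hn h0 hnt
    have hGc := InvQc.isCoh_of_isInvertible _ hG
    have hMc := InvQc.isCoh_of_isInvertible _ hM
    have hle := h0_le_h1_of_nontrivial k X hdim G M hGc hM hnt
    haveI : Module.Finite k (Coh.HH X G 1) := T2Main1.t2 k X G hGc 1
    haveI : Module.Finite k (Coh.HH X M 0) := T2Main1.t2 k X M hMc 0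
    by_cases h01 : Module.finrank k (Coh.HH X M 0) = 1
    · obtain ⟨x, hx⟩ := (Module.finrank_pos_iff_exists_ne_zero (R := k)).1
        (by omega : 0 < Module.finrank k (Coh.HH X M 0))
      have hσ : HH0.equiv X M x ≠ 0 := fun h =>
        hx ((HH0.equiv X M).injective (h.trans (map_zero _).symm))
      have hsurj := surjective_HHlin_mulΓ X k hdim G M hGc hM _ hσ
      have h2 := LinearMap.finrank_le_finrank_of_surjective hsurj
      omega
    · have hG1 : Nontrivial (Coh.HH X G 1) := by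
        apply Module.nontrivial_of_finrank_pos (R := k)
        omega
      obtain ⟨P, hP, G', hG', ⟨eG⟩, hbase⟩ := exists_good_point k X hdim hpt G hG hG1
      obtain ⟨hh1, -, -⟩ := h1_eq_of_not_genAt k X hdim P hP (hpt P hP) G' G hG' eG hbase
      have hM' : PicF.IsInvertible (CohB1.tensorMod (ClSub.idealMod (ptIdeal P hP)) M) :=
        isInvertible_tensorMod (hpt P hP) hM
      have hM'0 : Module.finrank k (Coh.HH X M 0) ≤
          Module.finrank k (Coh.HH X (CohB1.tensorMod (ClSub.idealMod (ptIdeal P hP)) M) 0) + 1 := by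
        by_cases hgen : ∃ σ : Γ(M, ⊤), GenAt M σ P
        · obtain ⟨-, h, -⟩ := h1_eq_of_genAt k X hdim P hP (hpt P hP) M _ hM (Iso.refl _) hgen
          omega
        · push Not at hgen
          obtain ⟨-, h, -⟩ := h1_eq_of_not_genAt k X hdim P hP (hpt P hP) M _ hM (Iso.refl _) hgen
          omega
      have eGM : CohB1.tensorMod G' (CohB1.tensorMod (ClSub.idealMod (ptIdeal P hP)) M) ≅
          CohB1.tensorMod G M :=
        (assocIso G' (hpt P hP) hM).symm ≪≫
          TwistTens.tensorModCongrLeft (TildeTens.tensorModComm _ _ ≪≫ eG) M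
      haveI := hnt
      have hnt' : Nontrivial (Coh.HH X
          (CohB1.tensorMod G' (CohB1.tensorMod (ClSub.idealMod (ptIdeal P hP)) M)) 1) :=
        (HHFin1.HHequiv k eGM 1).symm.injective.nontrivial
      have hfe := (HHFin1.HHequiv k eGM 1).finrank_eq
      have := ih G' _ hG' hM' (by omega) (by omega) hnt'
      omega

/-- **Clifford's inequality** for a special invertible module with a section -/
theorem clifford (hdim : topologicalKrullDim X = 1)
    (hpt : ∀ (P : X) (hP : IsClosed ({P} : Set X)),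
      PicF.IsInvertible (ClSub.idealMod (ptIdeal P hP)))
    (M : X.Modules) (hM : PicF.IsInvertible M) (h0 : 1 ≤ Module.finrank k (Coh.HH X M 0))
    (h1 : Nontrivial (Coh.HH X M 1)) :
    2 * (Module.finrank k (Coh.HH X M 0) : ℤ) ≤ Curv2.deg k X M 1 + 2 := by
  obtain ⟨u⟩ := TwistAmpleOpen.nonempty_tensorMod_unit_iso M
  haveI := h1
  have hnt : Nontrivial (Coh.HH X (CohB1.tensorMod (Coh.structureModule X) M) 1) :=
    (HHFin1.HHequiv k u 1).symm.injective.nontrivial
  have hc := hopf_clifford k X hdim hpt _ (Coh.structureModule X) M GenLoc.isInvertible_O hM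
    le_rfl h0 hnt
  rw [(HHFin1.HHequiv k u 1).finrank_eq] at hc
  have r := rr k X hdim M hM
  have hO := finrank_HH_zero_eq_one_of_isAlgClosed k X
  have hOc : Coh.IsCoh (Coh.structureModule X) :=
    InvQc.isCoh_of_isInvertible _ GenLoc.isInvertible_O
  have rO := euler_eq_h0_sub_h1 k X hdim.le (Coh.structureModule X) hOc.1
  omega

end Curve

end Groth.Agent.Helper1.Cliff
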