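import Mathlib
import Groth.Agent.Lib.Helper1.Cliff1
import Groth.Prelude.Def_LinSer

/-!
# Uniqueness of the `g¹₂` on a curve of genus `≥ 2` (helper1)
-/

set_option autoImplicit false
universe u
open CategoryTheory CategoryTheory.Limits AlgebraicGeometry TopologicalSpace Opposite

namespace Groth.Agent.Helper1.Cliff

open Groth.Agent.Helper1.QcCech Groth.Agent.Helper1.SubSh Groth.Agent.Helper1.LGen
open Groth.Agent.Helper1.TmulLib Groth.Agent.Helper1 Groth.Agent.Helper1.TwForm
open Groth.Agent.Helper1.TensGen Groth.Agent.Lib.Helper4.TwExact Groth.Agent.Helper1.Dv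
open Groth.Agent.Lib.Helper4 Groth.Agent.Helper1.CurveAmp Groth.Agent.Helper1.FinSupp
open Groth.Agent.Helper1.Euler Groth.Agent.Helper1.Curve Groth.Agent.Helper1.CurveLin
open Groth.Agent.Helper1.CurveDual Groth.Agent.Helper1.CurvePt Groth.Agent.Helper1.PtInv
open Groth.Agent.Helper1.GenusOne

section LinIndep

variable (k : Type u) [Field k] (X : Scheme.{u}) [X.Over (Spec (CommRingCat.of k))]
  [IsProper (X ↘ (Spec (CommRingCat.of k)))]

/-- linearly independent global sections bound `h⁰` from below -/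
theorem le_finrank_of_linIndep (M : X.Modules) (hMc : Coh.IsCoh M) {n : ℕ}
    (s : Fin n → LinSer.Sect X M) (hs : LinSer.LinIndep k X M s) :
    n ≤ Module.finrank k (Coh.HH X M 0) := by
  haveI : Module.Finite k (Coh.HH X M 0) := T2Main1.t2 k X M hMc 0
  let v : Fin n → Coh.HH X M 0 := fun i => (HH0.equiv X M).symm (s i)
  have hv : LinearIndependent k v := by
    rw [Fintype.linearIndependent_iff]
    intro c hc i
    have h1 := congrArg (HH0.equiv X M) hc
    rw [map_zero, map_sum] at h1
    have h2 : ∀ i, HH0.equiv X M (c i • v i) =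
        Coh.toGlobal (X ↘ Spec (CommRingCat.of k)) (c i) • s i := by
      intro i
      rw [HH0.equiv_smul_over]
      congr 1
      exact (HH0.equiv X M).apply_symm_apply (s i)
    rw [Finset.sum_congr rfl (fun i _ => h2 i)] at h1
    exact congrFun (hs c h1) i
  have := hv.fintype_card_le_finrank
  simpa using this

end LinIndep

section G12

variable (k : Type u) [Field k] [IsAlgClosed k] (X : Scheme.{u}) [X.Over (Spec (CommRingCat.of k))]
  [IsIntegral X] [IsProper (X ↘ (Spec (CommRingCat.of k)))]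

/-- two invertible modules of degree two with two independent sections on a curve of genus `≥ 2`
are isomorphic -/
theorem g12_unique (hdim : topologicalKrullDim X = 1)
    (hpt : ∀ (P : X) (hP : IsClosed ({P} : Set X)),
      PicF.IsInvertible (ClSub.idealMod (ptIdeal P hP)))
    (hg : 2 ≤ Curv2.genus k X)
    (M M' : X.Modules) (hM : PicF.IsInvertible M) (hM' : PicF.IsInvertible M')
    (hdM : Curv2.deg k X M 1 = 2) (hdM' : Curv2.deg k X M' 1 = 2)
    (h2M : 2 ≤ Module.finrank k (Coh.HH X M 0)) (h2M' : 2 ≤ Module.finrank k (Coh.HH X M' 0)) :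
    Nonempty (M ≅ M') := by
  obtain ⟨K, hK, ⟨eK⟩⟩ := InvInv2.exists_inverse hM
  have hA : PicF.IsInvertible (CohB1.tensorMod M' K) := isInvertible_tensorMod hM' hK
  have eAM : CohB1.tensorMod (CohB1.tensorMod M' K) M ≅ M' :=
    assocIso M' hK hM ≪≫ TwistTens.tensorModCongrRight M' eK ≪≫ SecTwist.unitorR M'
  have hdK := deg_of_inverse k X hdim hK hM eK
  have hdA : Curv2.deg k X (CohB1.tensorMod M' K) 1 = 0 := by
    rw [deg_tensor_inv k X hdim hM' hK, hdK, hdM, hdM']
    norm_num
  by_contra hno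
  have hAc := InvQc.isCoh_of_isInvertible _ hA
  have hA0 : Module.finrank k (Coh.HH X (CohB1.tensorMod M' K) 0) = 0 := by
    by_contra hne
    haveI : Module.Finite k (Coh.HH X (CohB1.tensorMod M' K) 0) := T2Main1.t2 k X _ hAc 0
    obtain ⟨s', hs'⟩ := (Module.finrank_pos_iff_exists_ne_zero (R := k)).1
      (Nat.pos_of_ne_zero hne)
    have hσ' : HH0.equiv X _ s' ≠ 0 := fun h =>
      hs' ((HH0.equiv X _).injective (h.trans (map_zero _).symm))
    have hφ : TwistAmple.homOfSec _ (HH0.equiv X _ s') ≠ 0 := by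
      intro h
      apply hσ'
      have h2 := PFrame.homOfSec_app_one _ (HH0.equiv X _ s')
      rw [h] at h2
      exact h2.symm
    obtain ⟨i⟩ := iso_of_deg_nonpos_of_section k X hdim hA _ hφ (by rw [hdA])
    apply hno
    obtain ⟨u⟩ := TwistAmpleOpen.nonempty_tensorMod_unit_iso M
    exact ⟨u.symm ≪≫ (TwistTens.tensorModCongrLeft i M).symm ≪≫ eAM⟩
  have rA := rr k X hdim _ hA
  have rM' := rr k X hdim M' hM'
  have hO := finrank_HH_zero_eq_one_of_isAlgClosed k X
  have hOc : Coh.IsCoh (Coh.structureModule X) :=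
    InvQc.isCoh_of_isInvertible _ GenLoc.isInvertible_O
  have rO := euler_eq_h0_sub_h1 k X hdim.le (Coh.structureModule X) hOc.1
  have hgg : (Curv2.genus k X : ℤ) =
      (Module.finrank k (Coh.HH X (Coh.structureModule X) 1) : ℤ) := rfl
  have hfe := (HHFin1.HHequiv k eAM 1).finrank_eq
  have hM'c := InvQc.isCoh_of_isInvertible _ hM'
  haveI : Module.Finite k (Coh.HH X M' 1) := T2Main1.t2 k X M' hM'c 1
  have hnt0 : Nontrivial (Coh.HH X M' 1) := by
    apply Module.nontrivial_of_finrank_pos (R := k)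
    omega
  have hnt : Nontrivial (Coh.HH X (CohB1.tensorMod (CohB1.tensorMod M' K) M) 1) :=
    (HHFin1.HHequiv k eAM 1).symm.injective.nontrivial
  have hc := hopf_clifford k X hdim hpt _ (CohB1.tensorMod M' K) M hA hM le_rfl (by omega) hnt
  omega

end G12

end Groth.Agent.Helper1.Cliff
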