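import Mathlib
import Groth.Agent.Lib.Helper1.PFrame3
import Groth.Agent.Lib.Helper1.FtLocal
import Groth.Agent.Lib.Helper1.CurveLin1
import Groth.Agent.Lib.Helper1.Dv15

/-!
# A monomorphism of finite locally free modules is an isomorphism or its cokernel has support of
codimension at most one (helper1, S15071)
-/

set_option autoImplicit false
set_option backward.isDefEq.respectTransparency.types false
set_option synthInstance.maxHeartbeats 400000
set_option linter.unusedSectionVars false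
set_option linter.style.haveILetI false
set_option linter.unusedVariables false
universe u
open CategoryTheory CategoryTheory.Limits AlgebraicGeometry TopologicalSpace Opposite

namespace Groth.Agent.Helper1.CodimOne

open Groth.Agent.Helper1 Groth.Agent.Helper1.QcCech Groth.Agent.Helper1.PFrame

section Alg

/-- a "determinant" detecting bijectivity of a (not necessarily square) matrix after any base
change -/
theorem exists_det {R : Type u} [CommRing R] {m n : ℕ} (A : Matrix (Fin n) (Fin m) R) :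
    ∃ d : R, ∀ (S : Type u) [CommRing S] (ρ : R →+* S),
      Function.Bijective (A.map ρ).mulVec ↔ IsUnit (ρ d) := by
  by_cases h : m = n
  · subst h
    refine ⟨A.det, fun S _ ρ => ?_⟩
    have hdet : ρ A.det = (A.map ρ).det := by
      rw [RingHom.map_det]
      rfl
    rw [hdet, ← Matrix.isUnit_iff_isUnit_det]
    constructor
    · intro hb
      exact Matrix.mulVec_surjective_iff_isUnit.1 hb.2
    · intro hu
      exact ⟨Matrix.mulVec_injective_of_isUnit hu, Matrix.mulVec_surjective_iff_isUnit.2 hu⟩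
  · refine ⟨0, fun S _ ρ => ?_⟩
    rw [map_zero, isUnit_zero_iff]
    constructor
    · intro hb
      by_contra h01
      haveI : Nontrivial S := ⟨⟨0, 1, h01⟩⟩
      have hb' : Function.Bijective (Matrix.mulVecLin (A.map ρ)) := by
        rw [Matrix.coe_mulVecLin]
        exact hb
      have := (LinearEquiv.ofBijective (Matrix.mulVecLin (A.map ρ)) hb').finrank_eq
      rw [Module.finrank_fin_fun, Module.finrank_fin_fun] at this
      exact h this
    · intro h01
      haveI : Subsingleton S := subsingleton_of_zero_eq_one h01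
      exact ⟨fun a b _ => Subsingleton.elim a b, fun y => ⟨0, Subsingleton.elim _ _⟩⟩

end Alg

variable {X : Scheme.{u}} {M N : X.Modules}

theorem exists_matrix (φ : M ⟶ N) {m n : ℕ} {W : X.Opens} (b : Fin m → Γ(M, W))
    {c : Fin n → Γ(N, W)} (hc : IsBasisOn N W c) :
    ∃ A : Matrix (Fin n) (Fin m) Γ(X, W), ∀ j, φ.app W (b j) = ∑ i, A i j • c i := by
  have h := fun j => hc.bijective_self.2 (φ.app W (b j))
  choose a ha using h
  refine ⟨fun i j => a j i, fun j => ?_⟩
  exact (ha j).symm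

theorem app_sum (φ : M ⟶ N) {m n : ℕ} {W V : X.Opens} (h : V ≤ W) {b : Fin m → Γ(M, W)}
    {c : Fin n → Γ(N, W)} (A : Matrix (Fin n) (Fin m) Γ(X, W))
    (hA : ∀ j, φ.app W (b j) = ∑ i, A i j • c i) (r : Fin m → Γ(X, V)) :
    φ.app V (∑ j, r j • res M h (b j)) =
      ∑ i, ((A.map (resR h)).mulVec r) i • res N h (c i) := by
  have h1 : ∀ j, φ.app V (r j • res M h (b j)) =
      ∑ i, (resR h (A i j) * r j) • res N h (c i) := by
    intro j
    rw [Scheme.Modules.Hom.app_smul, QcExt.app_res, hA j, map_sum, Finset.smul_sum]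
    refine Finset.sum_congr rfl fun i _ => ?_
    rw [res_smul, smul_smul, mul_comm]
  rw [map_sum, Finset.sum_congr rfl fun j _ => h1 j, Finset.sum_comm]
  refine Finset.sum_congr rfl fun i _ => ?_
  rw [← Finset.sum_smul]
  rfl

theorem bijective_app_iff (φ : M ⟶ N) {m n : ℕ} {W V : X.Opens} (h : V ≤ W)
    {b : Fin m → Γ(M, W)} {c : Fin n → Γ(N, W)} (hb : IsBasisOn M W b) (hc : IsBasisOn N W c)
    (A : Matrix (Fin n) (Fin m) Γ(X, W)) (hA : ∀ j, φ.app W (b j) = ∑ i, A i j • c i) :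
    Function.Bijective (φ.app V) ↔ Function.Bijective (A.map (resR h)).mulVec := by
  have hcomp : (φ.app V : Γ(M, V) → Γ(N, V)) ∘
      (fun r : Fin m → Γ(X, V) => ∑ j, r j • res M h (b j)) =
      (fun r' : Fin n → Γ(X, V) => ∑ i, r' i • res N h (c i)) ∘ (A.map (resR h)).mulVec := by
    funext r
    exact app_sum φ h A hA r
  constructor
  · intro hφ
    have h1 : Function.Bijective ((fun r' : Fin n → Γ(X, V) => ∑ i, r' i • res N h (c i)) ∘
        (A.map (resR h)).mulVec) := by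
      rw [← hcomp]
      exact hφ.comp (hb V h)
    exact (Function.Bijective.of_comp_iff' (hc V h) _).1 h1
  · intro hA'
    have h1 : Function.Bijective ((φ.app V : Γ(M, V) → Γ(N, V)) ∘
        (fun r : Fin m → Γ(X, V) => ∑ j, r j • res M h (b j))) := by
      rw [hcomp]
      exact (hc V h).comp hA'
    exact (Function.Bijective.of_comp_iff _ (hb V h)).1 h1

theorem notMem_support_of_locSurj (φ : M ⟶ N) (x : X) (V : X.Opens) (hx : x ∈ V)
    (h : ∀ V' : X.Opens, V' ≤ V → Function.Surjective (φ.app V')) :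
    x ∉ CohB1.support (cokernel φ) := by
  apply Dv.notMem_support_cokernel'
  intro y
  obtain ⟨U, hUV, hxU, t, rfl⟩ := TopCat.Presheaf.exists_le_germ_eq N.presheaf y hx
  obtain ⟨s, hs⟩ := h U hUV t
  refine ⟨M.presheaf.germ U x hxU s, ?_⟩
  rw [Dv.stalkL_germ, hs]

theorem exists_lift_basis (φ : M ⟶ N) {n : ℕ} {W : X.Opens} (c : Fin n → Γ(N, W)) (x : X)
    (hxW : x ∈ W) (h : x ∉ CohB1.support (cokernel φ)) (i : Fin n) :
    ∃ (V : X.Opens) (hV : V ≤ W) (_ : x ∈ V) (s : Γ(M, V)), φ.app V s = res N hV (c i) := by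
  obtain ⟨w, hw⟩ := CurveLin.stalkL_surjective_of_notMem_support φ x h
    (N.presheaf.germ W x hxW (c i))
  obtain ⟨U, hUW, hxU, s, rfl⟩ := TopCat.Presheaf.exists_le_germ_eq M.presheaf w hxW
  rw [Dv.stalkL_germ] at hw
  obtain ⟨V, hxV, i1, i2, h4⟩ := TopCat.Presheaf.germ_eq N.presheaf x hxU hxW _ _ hw
  refine ⟨V, i2.le, hxV, res M i1.le s, ?_⟩
  rw [QcExt.app_res]
  exact h4

theorem exists_locSurj (φ : M ⟶ N) {n : ℕ} {W : X.Opens} {c : Fin n → Γ(N, W)}
    (hc : IsBasisOn N W c) (x : X) (hxW : x ∈ W) (h : x ∉ CohB1.support (cokernel φ)) :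
    ∃ V : X.Opens, V ≤ W ∧ x ∈ V ∧
      ∀ V' : X.Opens, V' ≤ V → Function.Surjective (φ.app V') := by
  choose Vi hVi hxVi s hs using exists_lift_basis φ c x hxW h
  let V : X.Opens :=
    ⟨⋂ i, (Vi i : Set X), isOpen_iInter_of_finite fun i => (Vi i).isOpen⟩ ⊓ W
  have hVle : ∀ i, V ≤ Vi i := fun i => by
    intro y hy
    exact Set.mem_iInter.1 hy.1 i
  refine ⟨V, inf_le_right, ⟨Set.mem_iInter.2 hxVi, hxW⟩, fun V' hV' t => ?_⟩
  have hV'W : V' ≤ W := hV'.trans inf_le_right
  obtain ⟨r, hr⟩ := (hc V' hV'W).2 t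
  have hr' : ∑ i, r i • res N hV'W (c i) = t := hr
  refine ⟨∑ i, r i • res M (hV'.trans (hVle i)) (s i), ?_⟩
  rw [map_sum, ← hr']
  refine Finset.sum_congr rfl fun i _ => ?_
  rw [Scheme.Modules.Hom.app_smul, QcExt.app_res, hs i, res_res]

theorem exists_d (φ : M ⟶ N) [Mono φ] {m n : ℕ} {W : X.Opens} {b : Fin m → Γ(M, W)}
    {c : Fin n → Γ(N, W)} (hb : IsBasisOn M W b) (hc : IsBasisOn N W c) :
    ∃ d : Γ(X, W), ∀ x ∈ W, x ∉ CohB1.support (cokernel φ) ↔ x ∈ X.basicOpen d := by
  obtain ⟨A, hA⟩ := exists_matrix φ b hc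
  obtain ⟨d, hd⟩ := exists_det A
  have key : ∀ (V : X.Opens) (h : V ≤ W),
      Function.Surjective (φ.app V) ↔ IsUnit (resR h d) := by
    intro V h
    rw [← hd Γ(X, V) (resR h), ← bijective_app_iff φ h hb hc A hA]
    exact ⟨fun hs => ⟨FtLocal.app_injective_of_mono φ V, hs⟩, fun hb => hb.2⟩
  refine ⟨d, fun x hxW => ⟨fun hx => ?_, fun hx => ?_⟩⟩
  · obtain ⟨V, hVW, hxV, hsurj⟩ := exists_locSurj φ hc x hxW hx
    have hu : IsUnit (resR hVW d) := (key V hVW).1 (hsurj V le_rfl)
    refine (X.mem_basicOpen d x hxW).2 ?_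
    have e : (X.presheaf.germ V x hxV).hom (resR hVW d) = (X.presheaf.germ W x hxW).hom d :=
      TopCat.Presheaf.germ_res_apply X.presheaf (homOfLE hVW) x hxV d
    have h2 := hu.map (X.presheaf.germ V x hxV).hom
    rw [e] at h2
    exact h2
  · apply notMem_support_of_locSurj φ x (X.basicOpen d ⊓ W) ⟨hx, hxW⟩
    intro V' hV'
    have hV'W : V' ≤ W := hV'.trans inf_le_right
    rw [key V' hV'W]
    have h1 : V' ≤ X.basicOpen d := hV'.trans inf_le_left
    have hu : IsUnit (resR (X.basicOpen_le d) d) :=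
      RingedSpace.isUnit_res_basicOpen X.toLocallyRingedSpace.toRingedSpace d
    have e : resR hV'W d = resR h1 (resR (X.basicOpen_le d) d) := (resR_resR _ _ d).symm
    rw [e]
    exact hu.map (resR h1)

set_option maxHeartbeats 1600000 in
/-- S15071 for locally noetherian schemes -/
theorem main [IsLocallyNoetherian X] (hM : FlatMod.IsFinLocFree M) (hN : FlatMod.IsFinLocFree N)
    (φ : M ⟶ N) [Mono φ] :
    IsIso φ ∨ ∃ x : X, x ∈ CohB1.support (cokernel φ) ∧
      ringKrullDim (X.presheaf.stalk x) ≤ 1 := by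
  by_cases hsupp : CohB1.support (cokernel φ) ⊆ ∅
  · left
    have hz : IsZero (cokernel φ) := Dv.isZero_of_support_subset_empty _ hsupp
    haveI : Epi φ := Preadditive.epi_of_isZero_cokernel φ hz
    exact isIso_of_mono_of_epi φ
  · right
    obtain ⟨x, hx, -⟩ := Set.not_subset.1 hsupp
    obtain ⟨W₁, m, b₁, hx₁, hb₁⟩ := PFrame.exists_isFrame hM x
    obtain ⟨W₂, n, c₂, hx₂, hc₂⟩ := PFrame.exists_isFrame hN x
    obtain ⟨_, ⟨W, hW, rfl⟩, hxW, hWle⟩ :=
      X.isBasis_affineOpens.exists_subset_of_mem_open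
        (show x ∈ ((W₁ ⊓ W₂ : X.Opens) : Set X) from ⟨hx₁, hx₂⟩) (W₁ ⊓ W₂).isOpen
    have hW1 : W ≤ W₁ := by
      intro y hy
      exact (hWle hy).1
    have hW2 : W ≤ W₂ := by
      intro y hy
      exact (hWle hy).2
    have hb := hb₁.isBasisOn.res hW1
    have hc := hc₂.isBasisOn.res hW2
    obtain ⟨d, hd⟩ := exists_d φ hb hc
    have hxd : x ∉ X.basicOpen d := fun h => ((hd x hxW).2 h) hx
    have hWa : IsAffineOpen W := hW
    haveI : IsNoetherianRing Γ(X, W) := IsLocallyNoetherian.component_noetherian ⟨W, hW⟩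
    have hdx : d ∈ (hWa.primeIdealOf ⟨x, hxW⟩).asIdeal := by
      by_contra hdn
      apply hxd
      have h1 : hWa.primeIdealOf ⟨x, hxW⟩ ∈ hWa.fromSpec ⁻¹ᵁ X.basicOpen d := by
        rw [hWa.fromSpec_preimage_basicOpen]
        exact hdn
      have h2 : hWa.fromSpec (hWa.primeIdealOf ⟨x, hxW⟩) ∈ X.basicOpen d := h1
      rw [hWa.fromSpec_primeIdealOf] at h2
      exact h2
    obtain ⟨p, hpmin, hple⟩ := Ideal.exists_minimalPrimes_le
      (I := Ideal.span {d}) (J := (hWa.primeIdealOf ⟨x, hxW⟩).asIdeal)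
      ((Ideal.span_singleton_le_iff_mem _).2 hdx)
    haveI hpp : p.IsPrime := hpmin.1.1
    haveI : (Ideal.span {d}).IsPrincipal := ⟨⟨d, rfl⟩⟩
    have hp1 : p.height ≤ 1 :=
      Ideal.height_le_one_of_isPrincipal_of_mem_minimalPrimes _ p hpmin
    let q : PrimeSpectrum Γ(X, W) := ⟨p, hpp⟩
    have hyW : hWa.fromSpec q ∈ W := by
      have h0 : hWa.fromSpec q ∈ Set.range hWa.fromSpec := Set.mem_range_self q
      rw [hWa.range_fromSpec] at h0
      exact h0
    refine ⟨hWa.fromSpec q, ?_, ?_⟩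
    · by_contra hns
      have h1 : hWa.fromSpec q ∈ X.basicOpen d := (hd _ hyW).1 hns
      have h2 : q ∈ hWa.fromSpec ⁻¹ᵁ X.basicOpen d := h1
      rw [hWa.fromSpec_preimage_basicOpen] at h2
      exact h2 (hpmin.1.2 (Ideal.mem_span_singleton_self d))
    · have hloc := hWa.isLocalization_stalk' q hyW
      have hdim := @IsLocalization.AtPrime.ringKrullDim_eq_height _ _ q.asIdeal _ _ _
        (TopCat.Presheaf.algebra_section_stalk X.presheaf ⟨hWa.fromSpec q, hyW⟩) hloc
      have h1 : ((q.asIdeal.height : ℕ∞) : WithBot ℕ∞) ≤ 1 := by exact_mod_cast hp1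
      exact hdim.le.trans h1

end Groth.Agent.Helper1.CodimOne
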