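import Mathlib
import Groth.Prelude.Def_Wider
import Groth.Agent.Lib.Helper1.InjHullL
import Groth.Agent.Lib.Helper1.MatlisL
import Groth.Agent.Lib.Helper1.MatlisL2

universe u v w

open InjHull IsLocalRing Groth.Agent.Helper1.InjHullL Groth.Agent.Helper1.MatlisL TensorProduct
open CategoryTheory

namespace Groth.Agent.Helper1.CoextL
section Basic
variable (A B : Type u) [CommRing A] [CommRing B] [Algebra A B] (E : Type u) [AddCommGroup E] [Module A E]

/-- The coextension `Hom_A(B, E)` as a `B`-module. -/
abbrev Coext : Type u :=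
  ((ModuleCat.coextendScalars (algebraMap A B)).obj (ModuleCat.of A E) : ModuleCat B)

variable {A B E}

/-- evaluation -/
noncomputable def ev (g : Coext A B E) (b : B) : E := ModuleCat.CoextendScalars.equiv (algebraMap A B) _ g b

@[simp] theorem ev_add (g h : Coext A B E) (b : B) : ev (g + h) b = ev g b + ev h b := rfl
@[simp] theorem ev_zero (b : B) : ev (0 : Coext A B E) b = 0 := rfl
@[simp] theorem ev_smul (g : Coext A B E) (s b : B) : ev (s • g) b = ev g (b * s) := rfl
@[simp] theorem ev_map_add (g : Coext A B E) (b c : B) : ev g (b + c) = ev g b + ev g c :=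
  (ModuleCat.CoextendScalars.equiv (algebraMap A B) _ g).map_add b c
@[simp] theorem ev_map_zero (g : Coext A B E) : ev g 0 = 0 :=
  (ModuleCat.CoextendScalars.equiv (algebraMap A B) _ g).map_zero
theorem ev_map_smul (g : Coext A B E) (a : A) (b : B) : ev g (a • b) = a • ev g b := by
  rw [Algebra.smul_def]
  exact (ModuleCat.CoextendScalars.equiv (algebraMap A B) _ g).map_smul a b

@[ext] theorem ext_ev {g h : Coext A B E} (H : ∀ b, ev g b = ev h b) : g = h := by
  apply ModuleCat.CoextendScalars.ext
  exact LinearMap.ext H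

/-- as linear map -/
noncomputable def toLin (g : Coext A B E) : B →ₗ[A] E where
  toFun := ev g
  map_add' := ev_map_add g
  map_smul' := ev_map_smul g

@[simp] theorem toLin_apply (g : Coext A B E) (b : B) : toLin g b = ev g b := rfl

/-- from linear map -/
noncomputable def ofLin (ψ : B →ₗ[A] E) : Coext A B E :=
  (ModuleCat.CoextendScalars.equiv (algebraMap A B) (ModuleCat.of A E)).symm
    { toFun := fun b => ψ b
      map_add' := fun b c => ψ.map_add b c
      map_smul' := fun a (b : B) => by
        show ψ (algebraMap A B a * b) = a • ψ b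
        rw [← Algebra.smul_def, map_smul] }

@[simp] theorem ev_ofLin (ψ : B →ₗ[A] E) (b : B) : ev (ofLin ψ) b = ψ b := rfl

theorem ofLin_toLin (g : Coext A B E) : ofLin (toLin g) = g := by ext b; rfl

/-- The coextension of an injective module is injective. -/
theorem injective_coext [Module.Injective A E] : Module.Injective B (Coext A B E) := by
  refine Module.Baer.injective fun 𝔟 g => ?_
  let g₁ : (𝔟.restrictScalars A) →ₗ[A] E :=
    { toFun := fun x => ev (g ⟨x.1, x.2⟩) 1
      map_add' := fun x y => by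
        have : (⟨(x + y).1, (x + y).2⟩ : 𝔟) = ⟨x.1, x.2⟩ + ⟨y.1, y.2⟩ := rfl
        rw [this, map_add, ev_add]
      map_smul' := fun a x => by
        have : (⟨(a • x).1, (a • x).2⟩ : 𝔟) = (algebraMap A B a) • ⟨x.1, x.2⟩ := by
          apply Subtype.ext
          show a • x.1 = algebraMap A B a • x.1
          rw [Algebra.smul_def, smul_eq_mul]
        rw [this, map_smul, ev_smul, one_mul, ← mul_one (algebraMap A B a), ← Algebra.smul_def,
          ev_map_smul]
        rfl }
  obtain ⟨ψ, hψ⟩ := Module.Injective.extension_property A E _ _ (𝔟.restrictScalars A).subtype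
    (Submodule.injective_subtype _) g₁
  refine ⟨LinearMap.toSpanSingleton B _ (ofLin ψ), fun x hx => ?_⟩
  rw [LinearMap.toSpanSingleton_apply]
  ext b
  rw [ev_smul, ev_ofLin]
  have h1 := LinearMap.congr_fun hψ ⟨b * x, 𝔟.mul_mem_left b hx⟩
  rw [LinearMap.comp_apply] at h1
  have h2 : ψ (b * x) = ev (g ⟨b * x, 𝔟.mul_mem_left b hx⟩) 1 := h1
  rw [h2]
  have : (⟨b * x, 𝔟.mul_mem_left b hx⟩ : 𝔟) = b • ⟨x, hx⟩ := rfl
  rw [this, map_smul, ev_smul, one_mul]

end Basic

section Socle
variable {A B : Type u} [CommRing A] [CommRing B] [Algebra A B] {E : Type u} [AddCommGroup E] [Module A E]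

/-- `A`-module structure on the coextension (through `B`). -/
noncomputable abbrev coextModule : Module A (Coext A B E) := Module.compHom _ (algebraMap A B)

attribute [local instance] coextModule

instance : IsScalarTower A B (Coext A B E) := IsScalarTower.of_algebraMap_smul fun _ _ => rfl

theorem ev_smulA (a : A) (g : Coext A B E) (b : B) : ev (a • g) b = a • ev g b := by
  show ev (algebraMap A B a • g) b = _
  rw [ev_smul, mul_comm, ← Algebra.smul_def, ev_map_smul]

theorem ev_eq_zero_of_mem {n : Ideal B} (φ : Submodule.torsionBySet B (Coext A B E) (n : Set B))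
    {c : B} (hc : c ∈ n) : ev φ.1 c = 0 := by
  have h := (Submodule.mem_torsionBySet_iff _ _).mp φ.2 ⟨c, hc⟩
  have := congrArg (fun g => ev g 1) h
  simpa using this

/-- the socle pairing -/
noncomputable def socleToHom (n : Ideal B) :
    Submodule.torsionBySet B (Coext A B E) (n : Set B) →ₗ[A] ((B ⧸ n) →ₗ[A] E) where
  toFun φ := (Submodule.liftQ (n.restrictScalars A) (toLin φ.1) (fun c hc => by
      rw [LinearMap.mem_ker, toLin_apply]; exact ev_eq_zero_of_mem φ hc)) ∘ₗ
        (Submodule.Quotient.restrictScalarsEquiv A n).symm.toLinearMap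
  map_add' φ ψ := by
    apply LinearMap.ext
    intro x
    obtain ⟨x, rfl⟩ := Submodule.Quotient.mk_surjective _ x
    rfl
  map_smul' a φ := by
    apply LinearMap.ext
    intro x
    obtain ⟨x, rfl⟩ := Submodule.Quotient.mk_surjective _ x
    show ev (a • φ.1) x = a • ev φ.1 x
    exact ev_smulA a φ.1 x

theorem socleToHom_mk (n : Ideal B) (φ : Submodule.torsionBySet B (Coext A B E) (n : Set B))
    (b : B) : socleToHom n φ (Submodule.Quotient.mk b) = ev φ.1 b := rfl

theorem socleToHom_bijective (n : Ideal B) : Function.Bijective (socleToHom (A := A) (E := E) n) := by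
  constructor
  · rw [← LinearMap.ker_eq_bot, LinearMap.ker_eq_bot']
    intro φ hφ
    apply Subtype.ext
    ext b
    have := LinearMap.congr_fun hφ (Submodule.Quotient.mk b)
    rw [socleToHom_mk] at this
    exact this
  · intro χ
    let ψ : B →ₗ[A] E := χ ∘ₗ ((Submodule.Quotient.restrictScalarsEquiv A n).toLinearMap ∘ₗ
      (n.restrictScalars A).mkQ)
    have hψ : ∀ b, ψ b = χ (Submodule.Quotient.mk b) := fun b => rfl
    refine ⟨⟨ofLin ψ, ?_⟩, ?_⟩
    · rw [Submodule.mem_torsionBySet_iff]
      rintro ⟨c, hc⟩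
      ext b
      show ev (c • ofLin ψ) b = 0
      rw [ev_smul, ev_ofLin, hψ]
      have : (Submodule.Quotient.mk (b * c) : B ⧸ n) = 0 := by
        rw [Submodule.Quotient.mk_eq_zero]; exact n.mul_mem_left b hc
      rw [this, map_zero]
    · apply LinearMap.ext
      intro x
      obtain ⟨x, rfl⟩ := Submodule.Quotient.mk_surjective _ x
      rw [socleToHom_mk]
      rfl

/-- The `n`-socle of the coextension is a simple `B`-module when duality preserves the (finite)
length of `B ⧸ n`. -/
theorem isSimpleModule_torsionBy_coext (n : Ideal B) [hn : n.IsMaximal]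
    (hlen : Module.length A ((B ⧸ n) →ₗ[A] E) = Module.length A (B ⧸ n))
    (hfin : Module.length A (B ⧸ n) ≠ ⊤) :
    IsSimpleModule B (Submodule.torsionBySet B (Coext A B E) (n : Set B)) := by
  set S := Submodule.torsionBySet B (Coext A B E) (n : Set B) with hS
  have hlenS : Module.length A S = Module.length A (B ⧸ n) := by
    rw [← hlen]
    exact LinearEquiv.length_eq (LinearEquiv.ofBijective _ (socleToHom_bijective n))
  have hnt : Nontrivial S := by
    rw [← Module.length_pos_iff (R := A), hlenS, Module.length_pos_iff]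
    exact Ideal.Quotient.nontrivial_iff.mpr hn.ne_top
  rw [isSimpleModule_iff_toSpanSingleton_surjective]
  refine ⟨hnt, fun φ hφ => ?_⟩
  -- the map `B ⧸ n → S`
  let κ' : B →ₗ[A] S := (LinearMap.toSpanSingleton B S φ).restrictScalars A
  have hκ' : ∀ b, κ' b = b • φ := fun b => rfl
  have hker : n.restrictScalars A ≤ LinearMap.ker κ' := by
    intro c hc
    rw [LinearMap.mem_ker, hκ']
    apply Subtype.ext
    exact (Submodule.mem_torsionBySet_iff _ _).mp φ.2 ⟨c, hc⟩
  let κ : (B ⧸ n) →ₗ[A] S := (Submodule.liftQ (n.restrictScalars A) κ' hker) ∘ₗ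
        (Submodule.Quotient.restrictScalarsEquiv A n).symm.toLinearMap
  have hκ : ∀ b, κ (Submodule.Quotient.mk b) = b • φ := fun b => rfl
  have hκinj : Function.Injective κ := by
    rw [← LinearMap.ker_eq_bot, LinearMap.ker_eq_bot']
    intro x hx
    obtain ⟨b, rfl⟩ := Submodule.Quotient.mk_surjective _ x
    rw [hκ] at hx
    by_contra hb
    have hbn : b ∉ n := fun h => hb ((Submodule.Quotient.mk_eq_zero n).mpr h)
    obtain ⟨c, t, ht, hct⟩ := hn.exists_inv hbn
    apply hφ
    have h1 : (c * b + t) • φ = φ := by rw [hct, one_smul]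
    rw [add_smul, mul_smul, hx, smul_zero, zero_add] at h1
    rw [← h1]
    apply Subtype.ext
    exact (Submodule.mem_torsionBySet_iff _ _).mp φ.2 ⟨t, ht⟩
  have hκsurj : Function.Surjective κ :=
    surjective_of_injective_of_length_le κ hκinj hfin (le_of_eq hlenS)
  intro ψ
  obtain ⟨x, rfl⟩ := hκsurj ψ
  obtain ⟨b, rfl⟩ := Submodule.Quotient.mk_surjective _ x
  exact ⟨b, by rw [LinearMap.toSpanSingleton_apply, hκ]⟩

end Socle

section Crit
open Groth.Agent.Helper1.MatlisL2

/-- A power-torsion module over a local ring with simple socle is an essential extension of the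
residue field. -/
theorem exists_essentialInj_of_simple_socle {B : Type u} [CommRing B] [IsLocalRing B] {M : Type u}
    [AddCommGroup M] [Module B M] (hM : LocCoh.IsPowerTorsion (maximalIdeal B) M)
    (hS : IsSimpleModule B (LocCoh.torsionBy (maximalIdeal B) M)) :
    ∃ f : ResidueField B →ₗ[B] M, IsEssentialInj f := by
  have := IsSimpleModule.nontrivial B (LocCoh.torsionBy (maximalIdeal B) M)
  obtain ⟨y, hy⟩ := exists_ne (0 : LocCoh.torsionBy (maximalIdeal B) M)
  have hy' : ∀ a ∈ maximalIdeal B, a • y.1 = 0 := fun a ha =>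
    (Submodule.mem_torsionBySet_iff _ _).mp y.2 ⟨a, ha⟩
  refine ⟨socleMap y.1 hy', isEssentialInj_of_socle_le hM _ ?_ ?_⟩
  · intro h
    have := LinearMap.congr_fun h 1
    rw [socleMap_one] at this
    exact hy (Subtype.ext this)
  · intro z hz
    have hz' : z ∈ LocCoh.torsionBy (maximalIdeal B) M := by
      rw [Submodule.mem_torsionBySet_iff]
      exact fun a => hz a.1 a.2
    obtain ⟨b, hb⟩ := IsSimpleModule.toSpanSingleton_surjective B hy ⟨z, hz'⟩
    refine ⟨residue B b, ?_⟩
    rw [socleMap_residue]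
    have := congrArg Subtype.val hb
    exact this

/-- **S5175** -/
theorem exists_hull_topologicalDual (k₀ : Type u) [Field k₀] (A : Type u) [CommRing A]
    [IsLocalRing A] [IsNoetherianRing A] [Algebra k₀ A] [Module.Finite k₀ (A ⧸ maximalIdeal A)] :
    ∃ f : ResidueField A →ₗ[A] ↥(powTorsion (maximalIdeal A) (Coext k₀ A k₀)),
      IsInjectiveHull f := by
  have hinj0 : Module.Injective k₀ k₀ := Module.injective_of_isSemisimpleRing k₀ k₀
  have hinjH : Module.Injective A (Coext k₀ A k₀) := injective_coext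
  have hinjP := injective_powTorsion (maximalIdeal A) hinjH
  have hT : LocCoh.IsPowerTorsion (maximalIdeal A) (powTorsion (maximalIdeal A) (Coext k₀ A k₀)) := by
    intro x
    obtain ⟨n, hn⟩ := (mem_powTorsion_iff _ x.1).mp x.2
    exact ⟨n, fun a ha => Subtype.ext (hn a ha)⟩
  have hSH : IsSimpleModule A (Submodule.torsionBySet A (Coext k₀ A k₀)
      (maximalIdeal A : Set A)) := by
    apply isSimpleModule_torsionBy_coext
    · rw [Module.length_eq_finrank, Module.length_eq_finrank]
      congr 1
      exact Subspace.dual_finrank_eq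
    · rw [Module.length_eq_finrank]
      exact ENat.natCast_ne_top _
  -- transfer to the power torsion part
  let e : LocCoh.torsionBy (maximalIdeal A) (powTorsion (maximalIdeal A) (Coext k₀ A k₀)) →ₗ[A]
      Submodule.torsionBySet A (Coext k₀ A k₀) (maximalIdeal A : Set A) :=
    { toFun := fun z => ⟨z.1.1, by
        rw [Submodule.mem_torsionBySet_iff]
        intro a
        exact congrArg Subtype.val ((Submodule.mem_torsionBySet_iff _ _).mp z.2 a)⟩
      map_add' := fun _ _ => rfl
      map_smul' := fun _ _ => rfl }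
  have he : Function.Bijective e := by
    constructor
    · intro z w h
      apply Subtype.ext
      apply Subtype.ext
      have h' : (e z).1 = (e w).1 := congrArg Subtype.val h
      exact h'
    · intro z
      have hz : z.1 ∈ powTorsion (maximalIdeal A) (Coext k₀ A k₀) := by
        rw [mem_powTorsion_iff]
        refine ⟨1, fun a ha => ?_⟩
        rw [pow_one] at ha
        exact (Submodule.mem_torsionBySet_iff _ _).mp z.2 ⟨a, ha⟩
      refine ⟨⟨⟨z.1, hz⟩, ?_⟩, rfl⟩
      rw [Submodule.mem_torsionBySet_iff]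
      intro a
      apply Subtype.ext
      exact (Submodule.mem_torsionBySet_iff _ _).mp z.2 a
  have hSP : IsSimpleModule A (LocCoh.torsionBy (maximalIdeal A)
      (powTorsion (maximalIdeal A) (Coext k₀ A k₀))) :=
    IsSimpleModule.congr (LinearEquiv.ofBijective e he)
  obtain ⟨f, hf⟩ := exists_essentialInj_of_simple_socle hT hSP
  exact ⟨f, ⟨hf, hinjP⟩⟩

end Crit
section FiniteLocal
open Groth.Agent.Helper1.MatlisL2
variable {A B : Type u} [CommRing A] [IsLocalRing A] [IsNoetherianRing A] [CommRing B]
  [Algebra A B] [Module.Finite A B]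

attribute [local instance] coextModule

omit [IsNoetherianRing A] in
theorem algebraMap_mem_of_finite [Nontrivial B] (n : Ideal B) [hn : n.IsMaximal] {a : A}
    (ha : a ∈ maximalIdeal A) : algebraMap A B a ∈ n := by
  by_contra hnot
  obtain ⟨c, t, ht, hct⟩ := hn.exists_inv hnot
  -- `n` is a proper `A`-submodule with `B = n + 𝔪 B`, contradiction with Nakayama
  have hN : (⊤ : Submodule A (B ⧸ n)) = ⊥ := by
    apply Submodule.eq_bot_of_le_smul_of_le_jacobson_bot (maximalIdeal A) ⊤ Module.Finite.fg_top _
      (maximalIdeal_le_jacobson ⊥)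
    intro x _
    obtain ⟨x, rfl⟩ := Submodule.Quotient.mk_surjective _ x
    have : (Submodule.Quotient.mk x : B ⧸ n) = a • Submodule.Quotient.mk (c * x) := by
      rw [← Submodule.Quotient.mk_smul, eq_comm, ← sub_eq_zero, ← Submodule.Quotient.mk_sub,
        Submodule.Quotient.mk_eq_zero]
      have : a • (c * x) - x = -(t * x) := by
        rw [Algebra.smul_def]
        have : c * algebraMap A B a = 1 - t := by rw [← hct]; ring
        calc algebraMap A B a * (c * x) - x = (c * algebraMap A B a) * x - x := by ring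
          _ = -(t * x) := by rw [this]; ring
      rw [this]
      exact n.neg_mem (n.mul_mem_right x ht)
    rw [this]
    exact Submodule.smul_mem_smul ha Submodule.mem_top
  have : Nontrivial (B ⧸ n) := Ideal.Quotient.nontrivial_iff.mpr hn.ne_top
  obtain ⟨x, hx⟩ := exists_ne (0 : B ⧸ n)
  have : x ∈ (⊤ : Submodule A (B ⧸ n)) := trivial
  rw [hN] at this
  exact hx this

theorem isFiniteLength_quotient_maximal [Nontrivial B] (n : Ideal B) [hn : n.IsMaximal] :
    IsFiniteLength A (B ⧸ n) := by
  have htors : Module.IsTorsionBySet A (B ⧸ n) (maximalIdeal A : Set A) := by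
    intro x a
    obtain ⟨x, rfl⟩ := Submodule.Quotient.mk_surjective _ x
    show (a : A) • Submodule.Quotient.mk x = (0 : B ⧸ n)
    rw [← Submodule.Quotient.mk_smul, Submodule.Quotient.mk_eq_zero, Algebra.smul_def]
    exact n.mul_mem_right x (algebraMap_mem_of_finite n a.2)
  let _ : Module (A ⧸ maximalIdeal A) (B ⧸ n) := htors.module
  have : IsScalarTower A (A ⧸ maximalIdeal A) (B ⧸ n) := htors.isScalarTower
  have : Module.Finite (A ⧸ maximalIdeal A) (B ⧸ n) :=
    Module.Finite.of_restrictScalars_finite A _ _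
  rw [isFiniteLength_iff_isNoetherian_isArtinian]
  exact ⟨inferInstance, isArtinian_of_finite_residueField (R := A) (B ⧸ n)⟩

variable {E : Type u} [AddCommGroup E] [Module A E] (f : ResidueField A →ₗ[A] E)

theorem isArtinian_coext (hf : IsInjectiveHull f) : IsArtinian A (Coext A B E) := by
  have := isArtinian_hull f hf
  obtain ⟨n, s, hs⟩ := Module.Finite.exists_fin (R := A) (M := B)
  let ψ : Coext A B E →ₗ[A] (Fin n → E) :=
    { toFun := fun φ i => ev φ (s i)
      map_add' := fun φ χ => by ext i; rfl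
      map_smul' := fun a φ => by ext i; exact ev_smulA a φ (s i) }
  apply isArtinian_of_injective ψ
  intro φ₁ φ₂ h
  have : toLin φ₁ = toLin φ₂ := by
    apply LinearMap.ext_on_range hs
    intro i
    exact congrFun h i
  ext b
  exact LinearMap.congr_fun this b

/-- **S5156** -/
theorem exists_hull_coext_local [IsLocalRing B] [IsNoetherianRing B] (hf : IsInjectiveHull f) :
    ∃ g : ResidueField B →ₗ[B] Coext A B E, IsInjectiveHull g := by
  have := hf.isInjective
  have hinj : Module.Injective B (Coext A B E) := injective_coext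
  have hart : IsArtinian B (Coext A B E) := isArtinian_of_tower A (isArtinian_coext f hf)
  have hT : LocCoh.IsPowerTorsion (maximalIdeal B) (Coext A B E) := isPowerTorsion_of_isArtinian _
  have hfl : IsFiniteLength A (B ⧸ maximalIdeal B) := isFiniteLength_quotient_maximal _
  have hS : IsSimpleModule B (LocCoh.torsionBy (maximalIdeal B) (Coext A B E)) := by
    apply isSimpleModule_torsionBy_coext
    · exact length_dual f hf _ hfl
    · exact Module.length_ne_top_iff.mpr hfl
  obtain ⟨g, hg⟩ := exists_essentialInj_of_simple_socle hT hS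
  exact ⟨g, ⟨hg, hinj⟩⟩

end FiniteLocal

section Primary
variable {B : Type u} [CommRing B] {M : Type v} [AddCommGroup M] [Module B M]

/-- killed by an ideal coprime to `n` -/
def KilledCoprime (n : Ideal B) (x : M) : Prop :=
  ∃ Q : Ideal B, Q ⊔ n = ⊤ ∧ ∀ q ∈ Q, q • x = 0

theorem killedCoprime_zero (n : Ideal B) : KilledCoprime n (0 : M) :=
  ⟨⊤, top_sup_eq _, fun q _ => smul_zero q⟩

theorem killedCoprime_add (n : Ideal B) {y z : M} (hy : KilledCoprime n y)
    (hz : KilledCoprime n z) : KilledCoprime n (y + z) := by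
  obtain ⟨Q1, h1, h1'⟩ := hy
  obtain ⟨Q2, h2, h2'⟩ := hz
  refine ⟨Q1 * Q2, ?_, ?_⟩
  · rw [Ideal.mul_sup_eq_of_coprime_left h1, h2]
  · intro q hq
    have e1 : q • y = 0 := h1' q (Ideal.mul_le_left hq)
    have e2 : q • z = 0 := h2' q (Ideal.mul_le_right hq)
    rw [smul_add, e1, e2, add_zero]

theorem eq_zero_of_killedCoprime (n : Ideal B) {x : M} (h : KilledCoprime n x)
    (hx : x ∈ powTorsion n M) : x = 0 := by
  obtain ⟨k, hk⟩ := (mem_powTorsion_iff _ x).mp hx
  obtain ⟨Q, hQ, hQx⟩ := h
  have hcop : Q ⊔ n ^ k = ⊤ := Ideal.sup_pow_eq_top hQ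
  have h1 : (1 : B) ∈ Q ⊔ n ^ k := by rw [hcop]; trivial
  obtain ⟨q, hq, c, hc, hqc⟩ := Submodule.mem_sup.mp h1
  have : x = (q + c) • x := by rw [hqc, one_smul]
  rw [this, add_smul, hQx q hq, hk c hc, add_zero]

theorem iSupIndep_powTorsion_maximal :
    iSupIndep fun n : MaximalSpectrum B => powTorsion n.asIdeal M := by
  rw [iSupIndep_def]
  intro n
  rw [disjoint_iff, eq_bot_iff]
  rintro x ⟨hx1, hx2⟩
  have key : KilledCoprime n.asIdeal x := by
    refine Submodule.iSup_induction
      (fun j : MaximalSpectrum B => ⨆ (_ : j ≠ n), powTorsion j.asIdeal M)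
      (motive := fun x => KilledCoprime n.asIdeal x) hx2 ?_ (killedCoprime_zero _)
      (fun y z hy hz => killedCoprime_add _ hy hz)
    intro j y hy
    by_cases hj : j = n
    · have : y = 0 := by
        have : (⨆ (_ : j ≠ n), powTorsion j.asIdeal M) = ⊥ := by
          rw [iSup_eq_bot]; intro h; exact absurd hj h
        rw [this] at hy
        exact hy
      rw [this]; exact killedCoprime_zero _
    · rw [iSup_pos hj] at hy
      obtain ⟨l, hl⟩ := (mem_powTorsion_iff _ y).mp hy
      refine ⟨j.asIdeal ^ l, Ideal.pow_sup_eq_top ?_, hl⟩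
      exact Ideal.IsMaximal.coprime_of_ne j.isMaximal n.isMaximal
        (fun h => hj (MaximalSpectrum.ext h))
  rw [eq_zero_of_killedCoprime _ key hx1]
  exact Submodule.zero_mem _

/-- If every element is killed by an ideal with Artinian quotient, the module is the sum of its
primary parts. -/
theorem iSup_powTorsion_maximal_eq_top
    (h : ∀ x : M, ∃ 𝔞 : Ideal B, IsArtinianRing (B ⧸ 𝔞) ∧ ∀ a ∈ 𝔞, a • x = 0) :
    ⨆ n : MaximalSpectrum B, powTorsion n.asIdeal M = ⊤ := by
  classical
  rw [eq_top_iff]
  intro x _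
  obtain ⟨𝔞, hart, h𝔞⟩ := h x
  obtain ⟨N, hN⟩ := IsArtinianRing.isNilpotent_nilradical (R := B ⧸ 𝔞)
  rw [IsArtinianRing.nilradical_pow_eq_iInf] at hN
  have : Fintype (MaximalSpectrum (B ⧸ 𝔞)) := Fintype.ofFinite _
  let p : MaximalSpectrum (B ⧸ 𝔞) → Ideal B :=
    fun I => (I.asIdeal.comap (Ideal.Quotient.mk 𝔞)) ^ N
  have hmax : ∀ I : MaximalSpectrum (B ⧸ 𝔞), (I.asIdeal.comap (Ideal.Quotient.mk 𝔞)).IsMaximal :=
    fun I => Ideal.comap_isMaximal_of_surjective _ Ideal.Quotient.mk_surjective
  have hp : ((Finset.univ : Finset (MaximalSpectrum (B ⧸ 𝔞))) : Set _).Pairwise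
      fun I J => p I ⊔ p J = ⊤ := by
    intro I _ J _ hIJ
    apply Ideal.pow_sup_pow_eq_top
    apply Ideal.IsMaximal.coprime_of_ne (hmax I) (hmax J)
    intro heq
    apply hIJ
    apply MaximalSpectrum.ext
    exact Ideal.comap_injective_of_surjective _ Ideal.Quotient.mk_surjective heq
  have hx : x ∈ Submodule.torsionBySet B M ↑(⨅ I ∈ (Finset.univ : Finset (MaximalSpectrum (B ⧸ 𝔞))), p I) := by
    rw [Submodule.mem_torsionBySet_iff]
    rintro ⟨a, ha⟩
    apply h𝔞
    rw [← Ideal.Quotient.eq_zero_iff_mem]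
    have : Ideal.Quotient.mk 𝔞 a ∈ (⨅ I : MaximalSpectrum (B ⧸ 𝔞), I.asIdeal ^ N) := by
      rw [Ideal.mem_iInf]
      intro I
      have haI : a ∈ p I := by
        have h2 : (⨅ I ∈ (Finset.univ : Finset (MaximalSpectrum (B ⧸ 𝔞))), p I) ≤ p I :=
          iInf₂_le I (Finset.mem_univ I)
        exact h2 ha
      have h1 : Ideal.Quotient.mk 𝔞 a ∈ (p I).map (Ideal.Quotient.mk 𝔞) := Ideal.mem_map_of_mem _ haI
      rw [Ideal.map_pow] at h1
      exact Ideal.pow_right_mono Ideal.map_comap_le N h1
    rw [hN] at this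
    exact this
  rw [← Submodule.iSup_torsionBySet_ideal_eq_torsionBySet_iInf hp] at hx
  refine (iSup₂_le ?_ : _ ≤ ⨆ n : MaximalSpectrum B, powTorsion n.asIdeal M) hx
  intro I _
  refine le_trans ?_ (le_iSup _ (⟨_, hmax I⟩ : MaximalSpectrum B))
  exact le_iSup (fun k => Submodule.torsionBySet B M
    (((I.asIdeal.comap (Ideal.Quotient.mk 𝔞)) ^ k : Ideal B) : Set B)) N

/-- Non-local version of the hull criterion. -/
theorem exists_essentialInj_of_simple_socle_max {B : Type u} [CommRing B] (n : Ideal B)
    [hn : n.IsMaximal] {M : Type u} [AddCommGroup M] [Module B M]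
    (hM : LocCoh.IsPowerTorsion n M) (hS : IsSimpleModule B (LocCoh.torsionBy n M)) :
    ∃ f : (B ⧸ n) →ₗ[B] M, IsEssentialInj f := by
  have := IsSimpleModule.nontrivial B (LocCoh.torsionBy n M)
  obtain ⟨y, hy⟩ := exists_ne (0 : LocCoh.torsionBy n M)
  have hy' : n ≤ LinearMap.ker (LinearMap.toSpanSingleton B M y.1) := by
    intro a ha
    rw [LinearMap.mem_ker, LinearMap.toSpanSingleton_apply]
    exact (Submodule.mem_torsionBySet_iff _ _).mp y.2 ⟨a, ha⟩
  let f : (B ⧸ n) →ₗ[B] M := Submodule.liftQ n (LinearMap.toSpanSingleton B M y.1) hy'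
  have hf : ∀ b : B, f (Submodule.Quotient.mk b) = b • y.1 := fun b => rfl
  have hk : IsSimpleModule B (B ⧸ n) := isSimpleModule_iff_isCoatom.mpr (Ideal.isMaximal_def.mp hn)
  refine ⟨f, ⟨?_, ?_⟩⟩
  · rw [← LinearMap.ker_eq_bot]
    rcases eq_bot_or_eq_top (LinearMap.ker f) with h | h
    · exact h
    · exfalso
      have := LinearMap.congr_fun (LinearMap.ker_eq_top.mp h) (Submodule.Quotient.mk 1)
      rw [hf, one_smul] at this
      exact hy (Subtype.ext this)
  · intro N hN
    obtain ⟨x, hxN, hx0⟩ := Submodule.exists_mem_ne_zero_of_ne_bot hN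
    obtain ⟨a, hax, hmem⟩ := Groth.Agent.Helper1.MatlisL.exists_smul_mem_torsionBy hM hx0
    obtain ⟨b, hb⟩ := IsSimpleModule.toSpanSingleton_surjective B hy ⟨a • x, hmem⟩
    intro hbot
    apply hax
    have hmem2 : a • x ∈ N ⊓ LinearMap.range f := by
      refine ⟨N.smul_mem a hxN, ⟨Submodule.Quotient.mk b, ?_⟩⟩
      rw [hf]
      exact congrArg Subtype.val hb
    rw [hbot] at hmem2
    exact hmem2

end Primary

section SemiLocal
open Groth.Agent.Helper1.MatlisL2

/-- The socle of the power torsion part is the socle. -/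
theorem isSimpleModule_torsionBy_powTorsion {B : Type u} [CommRing B] (n : Ideal B) {M : Type v}
    [AddCommGroup M] [Module B M]
    (h : IsSimpleModule B (Submodule.torsionBySet B M (n : Set B))) :
    IsSimpleModule B (LocCoh.torsionBy n (powTorsion n M)) := by
  let e : LocCoh.torsionBy n (powTorsion n M) →ₗ[B] Submodule.torsionBySet B M (n : Set B) :=
    { toFun := fun z => ⟨z.1.1, by
        rw [Submodule.mem_torsionBySet_iff]
        intro a
        exact congrArg Subtype.val ((Submodule.mem_torsionBySet_iff _ _).mp z.2 a)⟩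
      map_add' := fun _ _ => rfl
      map_smul' := fun _ _ => rfl }
  have he : Function.Bijective e := by
    constructor
    · intro z w h
      apply Subtype.ext
      apply Subtype.ext
      have h' : (e z).1 = (e w).1 := congrArg Subtype.val h
      exact h'
    · intro z
      have hz : z.1 ∈ powTorsion n M := by
        rw [mem_powTorsion_iff]
        refine ⟨1, fun a ha => ?_⟩
        rw [pow_one] at ha
        exact (Submodule.mem_torsionBySet_iff _ _).mp z.2 ⟨a, ha⟩
      refine ⟨⟨⟨z.1, hz⟩, ?_⟩, rfl⟩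
      rw [Submodule.mem_torsionBySet_iff]
      intro a
      apply Subtype.ext
      exact (Submodule.mem_torsionBySet_iff _ _).mp z.2 a
  exact IsSimpleModule.congr (LinearEquiv.ofBijective e he)

variable {A B : Type u} [CommRing A] [IsLocalRing A] [IsNoetherianRing A] [CommRing B]
  [Algebra A B] [Module.Finite A B] {E : Type u} [AddCommGroup E] [Module A E]
  (f : ResidueField A →ₗ[A] E)

attribute [local instance] coextModule

theorem isArtinianRing_quotient_map_pow (k : ℕ) :
    IsArtinianRing (B ⧸ (maximalIdeal A ^ k).map (algebraMap A B)) := by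
  have h1 : IsFiniteLength A (A ⧸ maximalIdeal A ^ k) :=
    isFiniteLength_quotient_of_pow_le _ k le_rfl
  have h2 : IsArtinian A (A ⧸ maximalIdeal A ^ k) :=
    (isFiniteLength_iff_isNoetherian_isArtinian.mp h1).2
  have h3 : IsArtinianRing (A ⧸ maximalIdeal A ^ k) := isArtinian_of_tower A h2
  have h4 : Module.Finite (A ⧸ maximalIdeal A ^ k)
      (B ⧸ (maximalIdeal A ^ k).map (algebraMap A B)) :=
    Module.Finite.of_restrictScalars_finite A _ _
  exact IsArtinianRing.of_finite (A ⧸ maximalIdeal A ^ k) _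

/-- **S11184** -/
theorem exists_decomposition_coext (hf : IsInjectiveHull f) :
    ∃ J : MaximalSpectrum B → Submodule B (Coext A B E), iSupIndep J ∧ iSup J = ⊤ ∧
      ∀ n : MaximalSpectrum B, ∃ g : (B ⧸ n.asIdeal) →ₗ[B] J n, IsInjectiveHull g := by
  have := hf.isInjective
  have hNoeth : IsNoetherianRing B := IsNoetherianRing.of_finite A B
  have hinj : Module.Injective B (Coext A B E) := injective_coext
  have hartA : IsArtinian A (Coext A B E) := isArtinian_coext f hf
  refine ⟨fun n => powTorsion n.asIdeal (Coext A B E), iSupIndep_powTorsion_maximal, ?_, ?_⟩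
  · apply iSup_powTorsion_maximal_eq_top
    intro φ
    obtain ⟨k, hk⟩ := isPowerTorsion_of_isArtinian (R := A) (Coext A B E) φ
    refine ⟨(maximalIdeal A ^ k).map (algebraMap A B), isArtinianRing_quotient_map_pow k, ?_⟩
    have hle : (maximalIdeal A ^ k).map (algebraMap A B) ≤
        LinearMap.ker (LinearMap.toSpanSingleton B (Coext A B E) φ) := by
      rw [Ideal.map_le_iff_le_comap]
      intro a ha
      exact hk a ha
    intro b hb
    exact hle hb
  · intro n
    have hnt : Nontrivial B :=
      ⟨⟨0, 1, fun h => n.isMaximal.ne_top ((Ideal.eq_top_iff_one _).mpr (h ▸ n.asIdeal.zero_mem))⟩⟩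
    have hinjP := injective_powTorsion n.asIdeal hinj
    have hT : LocCoh.IsPowerTorsion n.asIdeal (powTorsion n.asIdeal (Coext A B E)) := by
      intro x
      obtain ⟨k, hk⟩ := (mem_powTorsion_iff _ x.1).mp x.2
      exact ⟨k, fun a ha => Subtype.ext (hk a ha)⟩
    have := n.isMaximal
    have hfl : IsFiniteLength A (B ⧸ n.asIdeal) := isFiniteLength_quotient_maximal _
    have hS : IsSimpleModule B (Submodule.torsionBySet B (Coext A B E) (n.asIdeal : Set B)) := by
      apply isSimpleModule_torsionBy_coext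
      · exact length_dual f hf _ hfl
      · exact Module.length_ne_top_iff.mpr hfl
    obtain ⟨g, hg⟩ := exists_essentialInj_of_simple_socle_max n.asIdeal hT
      (isSimpleModule_torsionBy_powTorsion _ hS)
    exact ⟨g, ⟨hg, hinjP⟩⟩

end SemiLocal

end Groth.Agent.Helper1.CoextL
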