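import Mathlib
import Groth.Agent.Lib.Helper1.SpFib3
import Groth.Agent.Lib.Helper1.CurveDual2
import Groth.Agent.Lib.Helper1.IdealModL
import Groth.Agent.Lib.Helper4.HHFin3
import Groth.Agent.Lib.Helper4.IPow1
import Groth.Agent.Lib.Helper7.GeomConn.ZarSheaf
import Groth.Agent.Lib.Lead.BasisIso

/-!
# Cohomological flatness in dimension zero and torsion in `H^1` over a discrete valuation ring
(helper1)
-/

set_option autoImplicit false
universe u
open CategoryTheory CategoryTheory.Limits AlgebraicGeometry TopologicalSpace Opposite IsLocalRing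

namespace Groth.Agent.Helper1.CohFlat

open Groth.Agent.Helper1
open Groth.Agent.Helper1.QcCech (res resR res_smul)
open Groth.Agent.Helper1.QcExt (app_res)
open Groth.Agent.Lib.Helper4.BaseChgRing1 (alphaRing alphaRing_res)
open Groth.Agent.Lib.Helper4

variable (R : Type u) [CommRing R] [IsDomain R] [IsDiscreteValuationRing R]
  (X : Scheme.{u}) [X.Over (Spec (CommRingCat.of R))]

/-- the ideal sheaf of the closed fibre -/
noncomputable abbrev sfI : X.IdealSheafData :=
  Models.specialFibreIdeal R (Over.mk (X ↘ Spec (CommRingCat.of R)))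

theorem app_alpha_mul_eq_zero (ϖ : R) (hϖ : Irreducible ϖ) (U : X.affineOpens)
    (r : Γ(X, U.1)) :
    ((sfI R X).subschemeι.app U.1).hom (alphaRing R X U.1 ϖ * r) = 0 := by
  have h1 : alphaRing R X U.1 ϖ * r ∈ (sfI R X).ideal U := by
    rw [SpFib.specialFibreIdeal_ideal R (Over.mk (X ↘ Spec (CommRingCat.of R))) ϖ hϖ U]
    exact Ideal.mul_mem_right _ _ (Ideal.mem_span_singleton_self _)
  rw [← Scheme.IdealSheafData.ker_subschemeι_app] at h1
  exact h1

theorem smul_comp_toSubscheme (ϖ : R) (hϖ : Irreducible ϖ) :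
    Formal.smulMod R (Coh.structureModule X) ϖ ≫ ClSub.toSubscheme (sfI R X) = 0 := by
  refine Scheme.Modules.hom_ext _ _ (fun W => ?_)
  ext r
  show (ClSub.toSubscheme (sfI R X)).app W
    ((Formal.smulMod R (Coh.structureModule X) ϖ).app W r) = 0
  refine Groth.Agent.Helper7.GeomConn.ZC.eq_of_cover (ClSub.quotMod (sfI R X)) W
    (fun i : {U : X.affineOpens // U.1 ≤ W} => i.1.1) (fun i => i.2) ?_ _ 0 ?_
  · intro x hx
    obtain ⟨U, hU, hxU, hUW⟩ := Opens.isBasis_iff_nbhd.mp X.isBasis_affineOpens hx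
    exact Opens.mem_iSup.mpr ⟨⟨⟨U, hU⟩, hUW⟩, hxU⟩
  · intro i
    rw [map_zero, ← app_res, ← app_res, IPow1.smulMod_app]
    exact app_alpha_mul_eq_zero R X ϖ hϖ i.1 _

/-- `O_X → I`, `1 ↦ ϖ` -/
noncomputable def lift (ϖ : R) (hϖ : Irreducible ϖ) :
    Coh.structureModule X ⟶ ClSub.idealMod (sfI R X) :=
  kernel.lift (ClSub.toSubscheme (sfI R X)) (Formal.smulMod R (Coh.structureModule X) ϖ)
    (smul_comp_toSubscheme R X ϖ hϖ)

theorem lift_ι (ϖ : R) (hϖ : Irreducible ϖ) :
    lift R X ϖ hϖ ≫ ClSub.idealModι (sfI R X) = Formal.smulMod R (Coh.structureModule X) ϖ :=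
  kernel.lift_ι _ _ _

theorem isIso_lift [Flat (X ↘ Spec (CommRingCat.of R))] (ϖ : R) (hϖ : Irreducible ϖ) :
    IsIso (lift R X ϖ hϖ) := by
  apply Groth.Agent.Lead.BasisIso.isIso_of_bijective_affineOpens
  intro U hU
  have hcomp : ∀ r : Γ(Coh.structureModule X, U),
      (ClSub.idealModι (sfI R X)).app U ((lift R X ϖ hϖ).app U r) =
        alphaRing R X U ϖ • r := by
    intro r
    have h := congrArg (fun φ => φ.app U r) (lift_ι R X ϖ hϖ)
    exact h
  haveI : Flat (Over.mk (X ↘ Spec (CommRingCat.of R))).hom :=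
    ‹Flat (X ↘ Spec (CommRingCat.of R))›
  have hnz := SpFib.sec_mem_nonZeroDivisors R (Over.mk (X ↘ Spec (CommRingCat.of R))) ϖ
    hϖ.ne_zero ⟨U, hU⟩
  constructor
  · intro r r' h
    have h1 := congrArg ((ClSub.idealModι (sfI R X)).app U) h
    rw [hcomp, hcomp] at h1
    have h2 : (alphaRing R X U ϖ : Γ(X, U)) * (show Γ(X, U) from r) =
        alphaRing R X U ϖ * (show Γ(X, U) from r') := h1
    exact (mul_cancel_left_mem_nonZeroDivisors hnz).1 h2
  · intro y
    have hy : (show Γ(X, U) from (ClSub.idealModι (sfI R X)).app U y) ∈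
        (sfI R X).ideal ⟨U, hU⟩ := by
      rw [← Scheme.IdealSheafData.ker_subschemeι_app]
      exact IdealModL.toSubscheme_ι (sfI R X) U y
    rw [SpFib.specialFibreIdeal_ideal R (Over.mk (X ↘ Spec (CommRingCat.of R))) ϖ hϖ
      ⟨U, hU⟩] at hy
    obtain ⟨c, hc⟩ := Ideal.mem_span_singleton'.1 hy
    refine ⟨(show Γ(Coh.structureModule X, U) from c), ?_⟩
    apply IdealModL.ι_injective (sfI R X) U
    rw [hcomp]
    have h3 : (alphaRing R X U ϖ : Γ(X, U)) * c =
        (show Γ(X, U) from (ClSub.idealModι (sfI R X)).app U y) := by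
      rw [← hc]
      exact mul_comm _ _
    exact h3

set_option maxHeartbeats 800000 in
/-- **cohomological flatness in dimension `0` is equivalent to `H^1(X, O_X)` being torsion
free** -/
theorem main [Flat (X ↘ Spec (CommRingCat.of R))] :
    Function.Surjective (Sheaf.H.map ((SheafOfModules.toSheaf X.ringCatSheaf).map
      (ClSub.toSubscheme (sfI R X))) 0) ↔
      NoZeroSMulDivisors R (Coh.HH X (Coh.structureModule X) 1) := by
  obtain ⟨ϖ, hϖ⟩ := IsDiscreteValuationRing.exists_irreducible R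
  haveI := isIso_lift R X ϖ hϖ
  haveI : Epi (IdealModL.S (sfI R X)).g := CurveDual.epi_toSubscheme (sfI R X)
  have hS : (IdealModL.S (sfI R X)).ShortExact :=
    ShortComplex.ShortExact.mk' (IdealModL.S_exact (sfI R X)) inferInstance inferInstance
  have hπ : ∀ x : Coh.HH X (Coh.structureModule X) 1,
      Canon.HHlin R (ClSub.idealModι (sfI R X)) 1 (Canon.HHlin R (lift R X ϖ hϖ) 1 x) =
        ϖ • x := by
    intro x
    rw [← HHFin1.HHlin_comp, lift_ι]
    rfl
  have he'inj : Function.Injective (Canon.HHlin R (lift R X ϖ hϖ) 1) := by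
    intro x y h
    have h1 := congrArg (Canon.HHlin R (inv (lift R X ϖ hϖ)) 1) h
    rwa [← HHFin1.HHlin_comp, ← HHFin1.HHlin_comp, IsIso.hom_inv_id, HHFin1.HHlin_id,
      HHFin1.HHlin_id] at h1
  have he'surj : Function.Surjective (Canon.HHlin R (lift R X ϖ hϖ) 1) := by
    intro y
    refine ⟨Canon.HHlin R (inv (lift R X ϖ hϖ)) 1 y, ?_⟩
    rw [← HHFin1.HHlin_comp, IsIso.inv_hom_id, HHFin1.HHlin_id]
  constructor
  · intro hsurj
    have hιinj : ∀ y : Coh.HH X (ClSub.idealMod (sfI R X)) 1,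
        Canon.HHlin R (ClSub.idealModι (sfI R X)) 1 y = 0 → y = 0 := by
      intro y hy
      obtain ⟨z, rfl⟩ := HHFin3.exact_delta_f R hS 0 y hy
      obtain ⟨w, rfl⟩ := hsurj z
      exact HHFin2.delta_g R hS 0 w
    have hϖinj : ∀ x : Coh.HH X (Coh.structureModule X) 1, ϖ • x = 0 → x = 0 := by
      intro x hx
      rw [← hπ] at hx
      have h1 := hιinj _ hx
      exact he'inj (by rw [h1, map_zero])
    have hpow : ∀ (n : ℕ) (x : Coh.HH X (Coh.structureModule X) 1), ϖ ^ n • x = 0 → x = 0 := by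
      intro n
      induction n with
      | zero =>
        intro x hx
        simpa using hx
      | succ k ih =>
        intro x hx
        rw [pow_succ, mul_smul] at hx
        exact hϖinj x (ih _ hx)
    refine ⟨?_⟩
    intro c x hcx
    by_cases hc : c = 0
    · exact Or.inl hc
    · right
      obtain ⟨n, u, hu⟩ := IsDiscreteValuationRing.eq_unit_mul_pow_irreducible hc hϖ
      rw [hu, mul_smul] at hcx
      exact hpow n x ((u.isUnit.smul_eq_zero).1 hcx)
  · intro hnz z
    have h1 : Canon.HHlin R (ClSub.idealModι (sfI R X)) 1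
        (HHFin2.deltaLin R hS 0 z) = 0 := HHFin3.f_delta R hS 0 z
    obtain ⟨y, hy⟩ := he'surj (HHFin2.deltaLin R hS 0 z)
    rw [← hy, hπ] at h1
    have hy0 : y = 0 :=
      (hnz.eq_zero_or_eq_zero_of_smul_eq_zero h1).resolve_left hϖ.ne_zero
    rw [hy0, map_zero] at hy
    obtain ⟨w, hw⟩ := HHFin2.exact_g_delta R hS 0 z hy.symm
    exact ⟨w, hw⟩

end Groth.Agent.Helper1.CohFlat
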