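import Mathlib

/-! Coherent modules (finitely generated, all f.g. submodules finitely presented) (helper1). -/

namespace Groth.Agent.Helper1.Coherent

universe u

variable {R : Type u} [CommRing R]

/-- coherent module -/
def IsCoh (R : Type u) [CommRing R] (M : Type u) [AddCommGroup M] [Module R M] : Prop :=
  Module.Finite R M ∧ ∀ N : Submodule R M, N.FG → Module.FinitePresentation R N

theorem isCoh_of_ses {M₁ M₂ M₃ : Type u}
    [AddCommGroup M₁] [Module R M₁] [AddCommGroup M₂] [Module R M₂] [AddCommGroup M₃] [Module R M₃]
    (f : M₁ →ₗ[R] M₂) (g : M₂ →ₗ[R] M₃) (hf : Function.Injective f) (hg : Function.Surjective g)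
    (hfg : LinearMap.range f = LinearMap.ker g)
    (h₁ : IsCoh R M₁) (h₃ : IsCoh R M₃) : IsCoh R M₂ := by
  obtain ⟨fin₁, fp₁⟩ := h₁
  obtain ⟨fin₃, fp₃⟩ := h₃
  constructor
  · refine ⟨?_⟩
    apply Submodule.fg_of_fg_map_of_fg_inf_ker g
    · rw [Submodule.map_top, LinearMap.range_eq_top.mpr hg]
      exact Module.Finite.fg_top
    · rw [top_inf_eq, ← hfg, LinearMap.range_eq_map]
      exact Module.Finite.fg_top.map f
  · intro N hN
    have : Module.Finite R N := Module.Finite.iff_fg.mpr hN
    let l : N →ₗ[R] N.map g := g.submoduleMap N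
    have hl : Function.Surjective l := g.submoduleMap_surjective N
    have : Module.FinitePresentation R (N.map g) := fp₃ _ (hN.map g)
    have hker : (LinearMap.ker l).FG := Module.FinitePresentation.fg_ker l hl
    let K₁ : Submodule R M₁ := Submodule.comap f N
    have heq : (LinearMap.ker l).map N.subtype = K₁.map f := by
      ext y
      simp only [Submodule.mem_map, LinearMap.mem_ker, Submodule.subtype_apply, Subtype.exists,
        exists_and_right, exists_eq_right, K₁, Submodule.mem_comap]
      constructor
      · rintro ⟨hy, hly⟩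
        have hgy : g y = 0 := by
          have := congrArg Subtype.val hly
          simpa [l] using this
        have : y ∈ LinearMap.range f := by rw [hfg]; exact hgy
        obtain ⟨x, rfl⟩ := this
        exact ⟨x, hy, rfl⟩
      · rintro ⟨x, hx, rfl⟩
        refine ⟨hx, ?_⟩
        apply Subtype.ext
        have : g (f x) = 0 := by
          have : f x ∈ LinearMap.ker g := by rw [← hfg]; exact ⟨x, rfl⟩
          exact this
        simpa [l] using this
    let e1 := Submodule.equivMapOfInjective N.subtype N.injective_subtype (LinearMap.ker l)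
    let e2 := Submodule.equivMapOfInjective f hf K₁
    let e : LinearMap.ker l ≃ₗ[R] K₁ := e1.trans ((LinearEquiv.ofEq _ _ heq).trans e2.symm)
    have hK₁ : K₁.FG := by
      rw [← Module.Finite.iff_fg]
      have : Module.Finite R (LinearMap.ker l) := Module.Finite.iff_fg.mpr hker
      exact Module.Finite.equiv e
    have : Module.FinitePresentation R K₁ := fp₁ K₁ hK₁
    have : Module.FinitePresentation R (LinearMap.ker l) := Module.FinitePresentation.of_equiv e.symm
    exact Module.finitePresentation_of_ker l hl

theorem isCoh_of_equiv {M N : Type u} [AddCommGroup M] [Module R M] [AddCommGroup N] [Module R N]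
    (e : M ≃ₗ[R] N) (h : IsCoh R M) : IsCoh R N := by
  obtain ⟨fin, fp⟩ := h
  refine ⟨Module.Finite.equiv e, fun K hK => ?_⟩
  have hK' : (K.comap e.toLinearMap).FG := by
    have : K.comap e.toLinearMap = K.map e.symm.toLinearMap := by
      ext x
      simp only [Submodule.mem_comap, LinearEquiv.coe_coe, Submodule.mem_map]
      constructor
      · intro hx
        exact ⟨e x, hx, by simp⟩
      · rintro ⟨y, hy, rfl⟩
        simpa using hy
    rw [this]
    exact hK.map _
  have := fp _ hK'
  exact Module.FinitePresentation.of_equiv (e.submoduleMap (K.comap e.toLinearMap) |>.trans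
    (LinearEquiv.ofEq _ _ (by
      ext x
      simp only [Submodule.mem_map, Submodule.mem_comap, LinearEquiv.coe_coe]
      constructor
      · rintro ⟨y, hy, rfl⟩; exact hy
      · intro hx; exact ⟨e.symm x, by simpa using hx, by simp⟩)))

/-- quotient of a coherent module by a finitely generated submodule is coherent -/
theorem isCoh_quotient {M : Type u} [AddCommGroup M] [Module R M] (h : IsCoh R M)
    (K : Submodule R M) (hK : K.FG) : IsCoh R (M ⧸ K) := by
  obtain ⟨fin, fp⟩ := h
  refine ⟨inferInstance, fun N hN => ?_⟩
  -- preimage of N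
  let N' : Submodule R M := N.comap K.mkQ
  have hN' : N'.FG := by
    apply Submodule.fg_of_fg_map_of_fg_inf_ker K.mkQ
    · rw [Submodule.map_comap_eq_of_surjective K.mkQ_surjective]
      exact hN
    · have : N' ⊓ LinearMap.ker K.mkQ = K := by
        rw [Submodule.ker_mkQ]
        apply inf_eq_right.mpr
        intro x hx
        change K.mkQ x ∈ N
        rw [Submodule.mkQ_apply, (Submodule.Quotient.mk_eq_zero K).mpr hx]
        exact N.zero_mem
      rw [this]
      exact hK
  have := fp N' hN'
  -- the map N' → N
  let l : N' →ₗ[R] N := K.mkQ.restrict (fun x hx => hx)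
  have hl : Function.Surjective l := by
    rintro ⟨y, hy⟩
    obtain ⟨x, rfl⟩ := K.mkQ_surjective y
    exact ⟨⟨x, hy⟩, rfl⟩
  apply Module.finitePresentation_of_surjective l hl
  -- kernel = K as a submodule of N'
  have : LinearMap.ker l = K.comap N'.subtype := by
    ext x
    simp only [LinearMap.mem_ker, Submodule.mem_comap, Submodule.subtype_apply]
    rw [← (Submodule.Quotient.mk_eq_zero K)]
    constructor
    · intro hx
      exact congrArg Subtype.val hx
    · intro hx
      exact Subtype.ext hx
  rw [this]
  have hle : K ≤ N' := by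
    intro x hx
    change K.mkQ x ∈ N
    rw [Submodule.mkQ_apply, (Submodule.Quotient.mk_eq_zero K).mpr hx]
    exact N.zero_mem
  apply Submodule.fg_of_fg_map_injective N'.subtype N'.injective_subtype
  rw [Submodule.map_comap_subtype, inf_eq_right.mpr hle]
  exact hK

theorem isCoh_self (hR : ∀ I : Ideal R, I.FG → Module.FinitePresentation R I) : IsCoh R R :=
  ⟨inferInstance, fun I hI => hR I hI⟩

theorem isCoh_pi_fin (hR : ∀ I : Ideal R, I.FG → Module.FinitePresentation R I) :
    ∀ n : ℕ, IsCoh R (Fin n → R) := by
  intro n
  induction n with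
  | zero => exact ⟨inferInstance, fun N _ => inferInstance⟩
  | succ n ih =>
    let f : R →ₗ[R] (Fin (n + 1) → R) := LinearMap.single R (fun _ => R) 0
    let g : (Fin (n + 1) → R) →ₗ[R] (Fin n → R) := LinearMap.funLeft R R Fin.succ
    refine isCoh_of_ses f g ?_ ?_ ?_ (isCoh_self hR) ih
    · intro a b hab
      have := congrFun hab 0
      simpa [f] using this
    · intro w
      refine ⟨Fin.cons 0 w, ?_⟩
      ext i
      simp [g, LinearMap.funLeft_apply]
    · ext v
      simp only [LinearMap.mem_range, LinearMap.mem_ker]
      constructor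
      · rintro ⟨a, rfl⟩
        ext i
        simp [f, g, LinearMap.funLeft_apply, Fin.succ_ne_zero]
      · intro hv
        refine ⟨v 0, ?_⟩
        ext i
        cases i using Fin.cases with
        | zero => simp [f]
        | succ j =>
          have := congrFun hv j
          simp only [g, LinearMap.funLeft_apply, Pi.zero_apply] at this
          simp [f, Fin.succ_ne_zero, this]

theorem isCoh_of_finitePresentation (hR : ∀ I : Ideal R, I.FG → Module.FinitePresentation R I)
    (M : Type u) [AddCommGroup M] [Module R M] [Module.FinitePresentation R M] : IsCoh R M := by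
  obtain ⟨n, K, e, hK⟩ := Module.FinitePresentation.exists_fin R M
  exact isCoh_of_equiv e.symm (isCoh_quotient (isCoh_pi_fin hR n) K hK)

section CohMaps

/-- a finitely generated submodule of a coherent module is coherent -/
theorem isCoh_submodule {M : Type u} [AddCommGroup M] [Module R M] (h : IsCoh R M)
    (N : Submodule R M) (hN : N.FG) : IsCoh R N := by
  refine ⟨Module.Finite.iff_fg.mpr hN, fun P hP => ?_⟩
  have h1 : (P.map N.subtype).FG := hP.map _
  have := h.2 _ h1
  exact Module.FinitePresentation.of_equiv
    (Submodule.equivMapOfInjective N.subtype N.injective_subtype P).symm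

theorem coh_ker_range_coker {N M : Type u} [AddCommGroup N] [Module R N] [AddCommGroup M]
    [Module R M] [Module.Finite R N] (hM : IsCoh R M) (φ : N →ₗ[R] M) :
    (LinearMap.ker φ).FG ∧ IsCoh R (LinearMap.range φ) ∧ IsCoh R (M ⧸ LinearMap.range φ) := by
  have hr : (LinearMap.range φ).FG := by
    rw [LinearMap.range_eq_map]
    exact Module.Finite.fg_top.map φ
  have hcoh := isCoh_submodule hM _ hr
  refine ⟨?_, hcoh, isCoh_quotient hM _ hr⟩
  have : Module.FinitePresentation R (LinearMap.range φ) := hM.2 _ hr
  have := Module.FinitePresentation.fg_ker φ.rangeRestrict φ.surjective_rangeRestrict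
  rwa [LinearMap.ker_rangeRestrict] at this

end CohMaps

end Groth.Agent.Helper1.Coherent
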