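import Mathlib
import Groth.Agent.Lib.Helper1.CompL1

/-!
# The irreducible components of the closed fibre of a fibred surface over a discrete valuation
ring: existence of a component list (helper1)
-/

set_option autoImplicit false
universe u
open CategoryTheory CategoryTheory.Limits AlgebraicGeometry TopologicalSpace Opposite IsLocalRing

namespace Groth.Agent.Helper1.CompL

open Groth.Agent.Helper1 Groth.Agent.Lib.Helper4

section Main2

variable (R : Type u) [CommRing R] [IsDomain R] [IsDiscreteValuationRing R]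
  (X : Over (Spec (CommRingCat.of R))) [IsIntegral X.left] [Flat X.hom]
  [LocallyOfFiniteType X.hom]

set_option maxHeartbeats 800000 in
theorem one_le_dim_component (hfin : (Models.fibreComponents R X).Finite)
    (hdim : topologicalKrullDim X.left = 2) {Z : Set X.left}
    (hZ : Z ∈ Models.fibreComponents R X) : 1 ≤ topologicalKrullDim ↥Z := by
  haveI := isDominant R X
  have hcl := isClosed_of_mem R X hZ
  obtain ⟨ξ, hξ⟩ := QuasiSober.sober hZ.1.1 hcl
  have hξZ : ξ ∈ Z := hξ.mem
  have hξs : X.hom.base ξ = closedPoint R := hZ.1.2 hξZ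
  have hOcl : IsClosed (⋃₀ (Models.fibreComponents R X \ {Z})) := by
    rw [Set.sUnion_eq_biUnion]
    exact (hfin.subset Set.sdiff_subset).isClosed_biUnion fun W hW => isClosed_of_mem R X hW.1
  let U : X.left.Opens := ⟨(⋃₀ (Models.fibreComponents R X \ {Z}))ᶜ, hOcl.isOpen_compl⟩
  have hξU : ξ ∈ U := by
    show ξ ∉ ⋃₀ (Models.fibreComponents R X \ {Z})
    rintro ⟨W, ⟨hW, hWZ⟩, hξW⟩
    apply hWZ
    have hZW : Z ⊆ W := by
      rw [← hξ.def]
      exact closure_minimal (Set.singleton_subset_iff.2 hξW) (isClosed_of_mem R X hW)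
    exact (hZW.antisymm (hZ.2 hW.1 hZW)).symm
  have hUZ : ∀ x ∈ U, X.hom.base x = closedPoint R → x ∈ Z := by
    intro x hxU hxs
    obtain ⟨W, hW, hxW⟩ := SpFib.exists_fibreComponent R X x hxs
    by_contra hxZ
    have hx' : x ∉ ⋃₀ (Models.fibreComponents R X \ {Z}) := hxU
    exact hx' (Set.mem_sUnion.2 ⟨W, ⟨hW, fun e => hxZ ((Set.mem_singleton_iff.1 e) ▸ hxW)⟩, hxW⟩)
  let t : X.hom.fiber (closedPoint R) := (X.hom.fiberHomeo (closedPoint R)).symm ⟨ξ, hξs⟩
  have ht : X.hom.fiberι (closedPoint R) t = ξ :=
    X.hom.fiberι_fiberHomeo_symm (closedPoint R) ⟨ξ, hξs⟩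
  let W : (X.hom.fiber (closedPoint R)).Opens := (X.hom.fiberι (closedPoint R)) ⁻¹ᵁ U
  have htW : t ∈ W := by
    show (X.hom.fiberι (closedPoint R)).base t ∈ U
    rw [ht]
    exact hξU
  have h1 : (1 : WithBot ℕ∞) ≤ FlatMor.localDim (X.hom.fiber (closedPoint R)) t := by
    rw [Chev3.localDim_fiber_eq, ht]
    exact (one_le_dim_genericFibre R X hdim).trans (Chev3.S3388_main X.hom ξ)
  have h2 : FlatMor.localDim (X.hom.fiber (closedPoint R)) t ≤
      topologicalKrullDim ↥(W : Set (X.hom.fiber (closedPoint R))) := by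
    unfold FlatMor.localDim
    exact iInf_le (fun U : {U : (X.hom.fiber (closedPoint R)).Opens // t ∈ U} =>
      topologicalKrullDim ↥(U.1 : Set (X.hom.fiber (closedPoint R)))) ⟨W, htW⟩
  have hmem : ∀ w : ↥(W : Set (X.hom.fiber (closedPoint R))),
      (X.hom.fiberι (closedPoint R)).base w.1 ∈ Z := fun w =>
    hUZ _ w.2 ((X.hom.fiberHomeo (closedPoint R) w.1).2)
  let φ : ↥(W : Set (X.hom.fiber (closedPoint R))) → ↥Z :=
    fun w => ⟨(X.hom.fiberι (closedPoint R)).base w.1, hmem w⟩
  have hφc : Continuous φ :=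
    Continuous.subtype_mk ((X.hom.fiberι (closedPoint R)).continuous.comp continuous_subtype_val)
      hmem
  have hφ : Topology.IsInducing φ := by
    refine Topology.IsInducing.of_comp hφc continuous_subtype_val ?_
    exact (X.hom.fiberι (closedPoint R)).isEmbedding.isInducing.comp
      Topology.IsInducing.subtypeVal
  exact h1.trans (h2.trans hφ.topologicalKrullDim_le)

theorem dim_le_one_of_closedImmersion (hdim : topologicalKrullDim X.left = 2) {C : Scheme.{u}}
    (i : C ⟶ X.left) [IsClosedImmersion i]
    (hr : ∀ c : C, X.hom.base (i.base c) = closedPoint R) : topologicalKrullDim C ≤ 1 := by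
  by_contra hcon
  have h2 : ((2 : ℕ) : WithBot ℕ∞) ≤ Order.krullDim C := by
    rw [← DimIneq4.topologicalKrullDim_eq_krullDim C]
    by_contra hlt
    rw [not_le] at hlt
    have h3 : topologicalKrullDim C ≤ ((1 : ℕ) : WithBot ℕ∞) :=
      Chev3.withBot_lt_natCast_succ (by exact_mod_cast hlt)
    exact hcon (by exact_mod_cast h3)
  obtain ⟨l, hl⟩ := Order.le_krullDim_iff.1 h2
  have hmono : StrictMono (fun c : C => i.base c) := by
    intro a b hab
    rw [lt_iff_le_not_ge] at hab ⊢
    exact ⟨i.isClosedEmbedding.isEmbedding.isInducing.specializes_iff.2 hab.1,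
      fun h => hab.2 (i.isClosedEmbedding.isEmbedding.isInducing.specializes_iff.1 h)⟩
  have hlast : (l.map (fun c : C => i.base c) hmono).last < genericPoint X.left := by
    show i.base l.last < genericPoint X.left
    rw [lt_iff_le_not_ge]
    refine ⟨(genericPoint_spec X.left).specializes (Set.mem_univ _), fun h => ?_⟩
    have h' : i.base l.last ⤳ genericPoint X.left := h
    have hcl : IsClosed ({X.hom.base (i.base l.last)} : Set ↥(Spec (CommRingCat.of R))) := by
      rw [hr]
      exact IsLocalRing.isClosed_singleton_closedPoint R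
    have hm2 := (h'.map X.hom.continuous).mem_closed hcl (Set.mem_singleton _)
    rw [Set.mem_singleton_iff, hr] at hm2
    exact map_genericPoint_ne R X hm2
  let l' : LTSeries X.left :=
    (l.map (fun c : C => i.base c) hmono).snoc (genericPoint X.left) hlast
  have hlen := Order.LTSeries.length_le_krullDim l'
  have hl' : l'.length = 3 := by simp [l', hl]
  rw [hl', ← DimIneq4.topologicalKrullDim_eq_krullDim X.left, hdim] at hlen
  have h32 : (3 : ℕ) ≤ 2 := by exact_mod_cast hlen
  omega

set_option maxHeartbeats 800000 in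
theorem exists_vertComp (hfin : (Models.fibreComponents R X).Finite)
    (hdim : topologicalKrullDim X.left = 2) (Z : Set X.left)
    (hZ : Z ∈ Models.fibreComponents R X) :
    ∃ Γ : ArSurf.VertComp R X, Set.range Γ.ι.base = Z := by
  have hcl := isClosed_of_mem R X hZ
  let Zc : Closeds X.left := ⟨Z, hcl⟩
  let I := Scheme.IdealSheafData.vanishingIdeal Zc
  haveI : IrreducibleSpace ↥I.subscheme :=
    Dv.irreducibleSpace_vanishingIdeal_subscheme Zc hZ.1.1
  haveI : IsReduced I.subscheme := Dv.isReduced_vanishingIdeal_subscheme Zc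
  haveI : IsIntegral I.subscheme := isIntegral_of_irreducibleSpace_of_isReduced _
  have hr : Set.range I.subschemeι.base = Z := by
    rw [Scheme.IdealSheafData.range_subschemeι, Scheme.IdealSheafData.coe_support_vanishingIdeal]
    rfl
  haveI : IsClosedImmersion (Spec.map (CommRingCat.ofHom (IsLocalRing.residue R))) :=
    IsClosedImmersion.spec_of_surjective _ IsLocalRing.residue_surjective
  have hle : (Spec.map (CommRingCat.ofHom (IsLocalRing.residue R))).ker ≤
      (I.subschemeι ≫ X.hom).ker := by
    rw [SemiF.ker_Spec_residue R, Scheme.Hom.ker_comp, Scheme.IdealSheafData.le_map_iff_comap_le,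
      Scheme.IdealSheafData.ker_subschemeι]
    show Models.specialFibreIdeal R X ≤ Scheme.IdealSheafData.vanishingIdeal Zc
    rw [← Scheme.IdealSheafData.le_support_iff_le_vanishingIdeal]
    intro z hz
    show z ∈ ((Models.specialFibreIdeal R X).support : Set X.left)
    rw [support_specialFibreIdeal]
    exact hZ.1.2 hz
  let h := IsClosedImmersion.lift (Spec.map (CommRingCat.ofHom (IsLocalRing.residue R)))
    (I.subschemeι ≫ X.hom) hle
  have hfac : h ≫ Spec.map (CommRingCat.ofHom (IsLocalRing.residue R)) = I.subschemeι ≫ X.hom :=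
    IsClosedImmersion.lift_fac _ _ hle
  have hfib : ∀ c : I.subscheme, X.hom.base (I.subschemeι.base c) = closedPoint R := fun c =>
    hZ.1.2 (by rw [← hr]; exact Set.mem_range_self c)
  have hd1 : topologicalKrullDim ↥I.subscheme ≤ 1 :=
    dim_le_one_of_closedImmersion R X hdim I.subschemeι hfib
  have hd2 : 1 ≤ topologicalKrullDim ↥I.subscheme := by
    let e : ↥I.subscheme ≃ₜ ↥Z :=
      (I.subschemeι.isClosedEmbedding.isEmbedding.toHomeomorph).trans (Homeomorph.setCongr hr)
    rw [IsHomeomorph.topologicalKrullDim_eq e e.isHomeomorph]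
    exact one_le_dim_component R X hfin hdim hZ
  exact ⟨⟨Over.mk h, I.subschemeι, (inferInstance : IsClosedImmersion I.subschemeι),
    (inferInstance : IsIntegral I.subscheme), le_antisymm hd1 hd2,
    hfac.symm⟩, hr⟩

/-- **the irreducible components of the closed fibre can be listed as vertical prime divisors** -/
theorem exists_componentList [QuasiCompact X.hom] (hdim : topologicalKrullDim X.left = 2) :
    ∃ (n : ℕ) (Γ : Fin n → ArSurf.VertComp R X), Models.IsComponentList R X Γ := by
  haveI : IsLocallyNoetherian X.left :=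
    LocallyOfFiniteType.isLocallyNoetherian (Y := Spec (CommRingCat.of R)) X.hom
  haveI : CompactSpace X.left := QuasiCompact.compactSpace_of_compactSpace X.hom
  haveI : IsNoetherian X.left := {}
  have hfin := finite_fibreComponents R X
  haveI : Finite ↥(Models.fibreComponents R X) := hfin.to_subtype
  obtain ⟨n, ⟨e⟩⟩ := Finite.exists_equiv_fin ↥(Models.fibreComponents R X)
  choose G hG using fun Z : ↥(Models.fibreComponents R X) =>
    exists_vertComp R X hfin hdim Z.1 Z.2
  refine ⟨n, fun i => G (e.symm i), ?_, ?_⟩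
  · intro i j hij
    have h1 : (e.symm i).1 = (e.symm j).1 := (hG _).symm.trans (Eq.trans hij (hG _))
    exact e.symm.injective (Subtype.ext h1)
  · ext Z
    constructor
    · rintro ⟨i, rfl⟩
      show Set.range (G (e.symm i)).ι.base ∈ _
      rw [hG]
      exact (e.symm i).2
    · intro hZ
      refine ⟨e ⟨Z, hZ⟩, ?_⟩
      show Set.range (G (e.symm (e ⟨Z, hZ⟩))).ι.base = Z
      rw [e.symm_apply_apply, hG]

end Main2

end Groth.Agent.Helper1.CompL
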