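import Mathlib
import Groth.Agent.Lib.Helper1.ProjDom

/-!
# The canonical retraction of the pointed affine cone (helper1 library)
-/

universe u

open CategoryTheory CategoryTheory.Limits AlgebraicGeometry TopologicalSpace Opposite
open scoped HomogeneousIdeal

namespace Groth.Agent.Helper1.ConeRetr

open ProjDom (Idx)

section Ring
variable {A : Type*} [CommRing A]

theorem lift_comp_awayLift {f x : A} (hdvd : f ∣ x) {P : Type*} [CommRing P] (ψ : A →+* P)
    (hx : IsUnit (ψ x)) (hf : IsUnit (ψ f)) :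
    (IsLocalization.Away.lift (S := Localization.Away x) x hx).comp
      (Localization.awayLift (algebraMap A (Localization.Away x)) f
        (isUnit_of_dvd_unit (map_dvd _ hdvd) (IsLocalization.Away.algebraMap_isUnit x))) =
      IsLocalization.Away.lift (S := Localization.Away f) f hf := by
  refine IsLocalization.ringHom_ext (Submonoid.powers f) (RingHom.ext fun a => ?_)
  simp only [RingHom.comp_apply]
  rw [IsLocalization.Away.lift_eq, IsLocalization.Away.lift_eq, IsLocalization.Away.lift_eq]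

end Ring

section Graded
variable {A σ : Type u} [CommRing A] [SetLike σ A] [AddSubgroupClass σ A] (𝒜 : ℕ → σ)
  [GradedRing 𝒜]

/-- the chartwise morphism `Spec A_f ⟶ Spec A_(f) ⟶ Proj A` -/
noncomputable def gmap (t : Idx 𝒜) :
    Spec (CommRingCat.of (Localization.Away t.f)) ⟶ Proj 𝒜 :=
  Spec.map (CommRingCat.ofHom
    (algebraMap (HomogeneousLocalization.Away 𝒜 t.f) (Localization.Away t.f))) ≫
    Proj.awayι 𝒜 t.f t.hf t.hd

theorem gmap_lift (s u : Idx 𝒜) {e : ℕ} {g : A} (hg : g ∈ 𝒜 e) (hu : u.f = s.f * g)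
    (hud : s.d + e = u.d) {P : Type u} [CommRing P] (ψ : A →+* P)
    (hx : IsUnit (ψ u.f)) (hf : IsUnit (ψ s.f)) :
    Spec.map (CommRingCat.ofHom
        (IsLocalization.Away.lift (S := Localization.Away s.f) s.f hf)) ≫ gmap 𝒜 s =
      Spec.map (CommRingCat.ofHom
        (IsLocalization.Away.lift (S := Localization.Away u.f) u.f hx)) ≫ gmap 𝒜 u := by
  unfold gmap
  have h1 : Proj.awayι 𝒜 u.f u.hf u.hd =
      Spec.map (CommRingCat.ofHom (HomogeneousLocalization.awayMap 𝒜 hg hu)) ≫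
        Proj.awayι 𝒜 s.f s.hf s.hd := by
    rw [Proj.SpecMap_awayMap_awayι]
    exact RelCone6.awayι_deg_irrel 𝒜 _ _ _ _ hud.symm
  rw [h1, ← Spec.map_comp_assoc, ← Spec.map_comp_assoc, ← Spec.map_comp_assoc,
    ← CommRingCat.ofHom_comp, ← CommRingCat.ofHom_comp, ← CommRingCat.ofHom_comp]
  congr 3
  refine RingHom.ext fun q => ?_
  simp only [RingHom.comp_apply, HomogeneousLocalization.algebraMap_apply]
  rw [HomogeneousLocalization.val_awayMap, ← lift_comp_awayLift ⟨g, hu⟩ ψ hx hf]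
  rfl

variable (E : (Spec (CommRingCat.of A)).Opens)
  (c : ∀ t : Idx 𝒜, Spec (CommRingCat.of (Localization.Away t.f)) ⟶ (E : Scheme.{u}))

include 𝒜 in
theorem isOpenImmersion_chart
    (hc : ∀ t, c t ≫ E.ι = Spec.map (CommRingCat.ofHom (algebraMap A (Localization.Away t.f))))
    (t : Idx 𝒜) : IsOpenImmersion (c t) := by
  have : IsOpenImmersion (c t ≫ E.ι) := by rw [hc t]; infer_instance
  exact IsOpenImmersion.of_comp (c t) E.ι

theorem mem_range_SpecMap_iff (f : A) (x : Spec (CommRingCat.of A)) :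
    x ∈ Set.range (Spec.map (CommRingCat.ofHom (algebraMap A (Localization.Away f)))) ↔
      f ∉ x.asIdeal := by
  have := PrimeSpectrum.localization_away_comap_range (Localization.Away f) f
  have h2 : x ∈ Set.range (PrimeSpectrum.comap (algebraMap A (Localization.Away f))) ↔
      x ∈ (PrimeSpectrum.basicOpen f : Set (PrimeSpectrum A)) := by rw [this]
  exact h2

/-- the cover of `E` by the charts -/
noncomputable def cov
    (hE : ∀ x : Spec (CommRingCat.of A), x ∈ E → ∃ t : Idx 𝒜, t.f ∉ x.asIdeal)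
    (hc : ∀ t, c t ≫ E.ι = Spec.map (CommRingCat.ofHom (algebraMap A (Localization.Away t.f)))) :
    (E : Scheme.{u}).OpenCover where
  I₀ := Idx 𝒜
  X t := Spec (CommRingCat.of (Localization.Away t.f))
  f t := c t
  mem₀ := by
    rw [Scheme.presieve₀_mem_precoverage_iff]
    refine ⟨fun x => ?_, fun t => isOpenImmersion_chart 𝒜 E c hc t⟩
    obtain ⟨t, ht⟩ := hE (E.ι x) x.2
    obtain ⟨y, hy⟩ := (mem_range_SpecMap_iff t.f (E.ι x)).mpr ht
    refine ⟨t, y, ?_⟩
    apply E.ι.isOpenEmbedding.injective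
    rw [← hy, ← hc t]
    rfl

/-- the apex ring of the pullback of two charts -/
abbrev T (s t : Idx 𝒜) : Type u := Localization.Away (algebraMap A (Localization.Away t.f) s.f)

theorem isUnit_T_s (s t : Idx 𝒜) : IsUnit (algebraMap A (T 𝒜 s t) s.f) := by
  rw [IsScalarTower.algebraMap_apply A (Localization.Away t.f) (T 𝒜 s t)]
  exact IsLocalization.Away.algebraMap_isUnit _

theorem isUnit_T_t (s t : Idx 𝒜) : IsUnit (algebraMap A (T 𝒜 s t) t.f) := by
  rw [IsScalarTower.algebraMap_apply A (Localization.Away t.f) (T 𝒜 s t)]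
  exact (IsLocalization.Away.algebraMap_isUnit t.f).map _

/-- `A_s ⟶ T` -/
noncomputable def lamS (s t : Idx 𝒜) : Localization.Away s.f →+* T 𝒜 s t :=
  IsLocalization.Away.lift s.f (isUnit_T_s 𝒜 s t)

theorem lamT_eq (s t : Idx 𝒜) :
    algebraMap (Localization.Away t.f) (T 𝒜 s t) =
      IsLocalization.Away.lift (S := Localization.Away t.f) t.f (isUnit_T_t 𝒜 s t) := by
  refine IsLocalization.ringHom_ext (Submonoid.powers t.f) (RingHom.ext fun a => ?_)
  simp only [RingHom.comp_apply]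
  rw [IsLocalization.Away.lift_eq, ← IsScalarTower.algebraMap_apply]

theorem isPullback_chart
    (hc : ∀ t, c t ≫ E.ι = Spec.map (CommRingCat.ofHom (algebraMap A (Localization.Away t.f))))
    (s t : Idx 𝒜) :
    IsPullback (Spec.map (CommRingCat.ofHom (lamS 𝒜 s t)))
      (Spec.map (CommRingCat.ofHom (algebraMap (Localization.Away t.f) (T 𝒜 s t))))
      (c s) (c t) := by
  have := isOpenImmersion_chart 𝒜 E c hc s
  refine IsOpenImmersion.isPullback _ _ _ _ ?_ ?_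
  · rw [← cancel_mono E.ι, Category.assoc, Category.assoc, hc s, hc t, ← Spec.map_comp,
      ← Spec.map_comp, ← CommRingCat.ofHom_comp, ← CommRingCat.ofHom_comp]
    congr 2
    refine RingHom.ext fun a => ?_
    simp only [RingHom.comp_apply]
    rw [lamS, IsLocalization.Away.lift_eq, ← IsScalarTower.algebraMap_apply]
  · ext y
    have h1 : y ∈ (c t ⁻¹ᵁ (c s).opensRange : (Spec _).Opens) ↔
        E.ι (c t y) ∈ Set.range (c s ≫ E.ι) := by
      constructor
      · rintro ⟨w, hw⟩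
        exact ⟨w, by rw [Scheme.Hom.comp_apply, hw]⟩
      · rintro ⟨w, hw⟩
        exact ⟨w, E.ι.isOpenEmbedding.injective hw⟩
    rw [SetLike.mem_coe, h1, hc s, mem_range_SpecMap_iff]
    have h2 : E.ι (c t y) = Spec.map (CommRingCat.ofHom (algebraMap A (Localization.Away t.f))) y := by
      rw [← hc t]; rfl
    rw [h2]
    have h3 : y ∈ Set.range (Spec.map (CommRingCat.ofHom
        (algebraMap (Localization.Away t.f) (T 𝒜 s t)))) ↔ _ :=
      mem_range_SpecMap_iff (algebraMap A (Localization.Away t.f) s.f) y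
    exact h3.symm

theorem gmap_compat (s t : Idx 𝒜) :
    Spec.map (CommRingCat.ofHom (lamS 𝒜 s t)) ≫ gmap 𝒜 s =
      Spec.map (CommRingCat.ofHom (algebraMap (Localization.Away t.f) (T 𝒜 s t))) ≫ gmap 𝒜 t := by
  have hx : IsUnit (algebraMap A (T 𝒜 s t) (s.mul t).f) := by
    show IsUnit (algebraMap A (T 𝒜 s t) (s.f * t.f))
    rw [map_mul]
    exact (isUnit_T_s 𝒜 s t).mul (isUnit_T_t 𝒜 s t)
  rw [lamT_eq, lamS,
    gmap_lift 𝒜 s (s.mul t) t.hf rfl rfl (algebraMap A (T 𝒜 s t)) hx (isUnit_T_s 𝒜 s t),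
    gmap_lift 𝒜 t (s.mul t) s.hf (mul_comm s.f t.f) (add_comm t.d s.d)
      (algebraMap A (T 𝒜 s t)) hx (isUnit_T_t 𝒜 s t)]

theorem existsUnique_retr
    (hE : ∀ x : Spec (CommRingCat.of A), x ∈ E → ∃ t : Idx 𝒜, t.f ∉ x.asIdeal)
    (hc : ∀ t, c t ≫ E.ι = Spec.map (CommRingCat.ofHom (algebraMap A (Localization.Away t.f)))) :
    ∃! π : (E : Scheme.{u}) ⟶ Proj 𝒜, ∀ t, c t ≫ π = gmap 𝒜 t := by
  have hcompat : ∀ s t : (cov 𝒜 E c hE hc).I₀,
      pullback.fst ((cov 𝒜 E c hE hc).f s) ((cov 𝒜 E c hE hc).f t) ≫ gmap 𝒜 s =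
        pullback.snd ((cov 𝒜 E c hE hc).f s) ((cov 𝒜 E c hE hc).f t) ≫ gmap 𝒜 t := by
    intro s t
    have hpb := isPullback_chart 𝒜 E c hc s t
    show pullback.fst (c s) (c t) ≫ gmap 𝒜 (s : Idx 𝒜) =
      pullback.snd (c s) (c t) ≫ gmap 𝒜 (t : Idx 𝒜)
    rw [← cancel_epi hpb.isoPullback.hom]
    have h1 : hpb.isoPullback.hom ≫ pullback.fst (c s) (c t) = _ := hpb.isoPullback_hom_fst
    have h2 : hpb.isoPullback.hom ≫ pullback.snd (c s) (c t) = _ := hpb.isoPullback_hom_snd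
    rw [reassoc_of% h1, reassoc_of% h2]
    exact gmap_compat 𝒜 (s : Idx 𝒜) (t : Idx 𝒜)
  refine ⟨(cov 𝒜 E c hE hc).glueMorphisms (gmap 𝒜) hcompat, fun t => ?_, fun p hp => ?_⟩
  · exact (cov 𝒜 E c hE hc).ι_glueMorphisms (gmap 𝒜) hcompat t
  · refine (cov 𝒜 E c hE hc).hom_ext _ _ fun t => ?_
    rw [(cov 𝒜 E c hE hc).ι_glueMorphisms (gmap 𝒜) hcompat t]
    exact hp t

theorem exists_idx_of_not_mem_zeroLocus (x : PrimeSpectrum A)
    (hx : x ∉ PrimeSpectrum.zeroLocus (((𝒜)₊).toIdeal : Set A)) :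
    ∃ t : Idx 𝒜, t.f ∉ x.asIdeal := by
  rw [PrimeSpectrum.mem_zeroLocus, SetLike.coe_subset_coe,
    HomogeneousIdeal.toIdeal_irrelevant_le] at hx
  push Not at hx
  obtain ⟨d, hd, hx⟩ := hx
  obtain ⟨f, hf, hfx⟩ := SetLike.not_le_iff_exists.mp hx
  exact ⟨⟨d, hd, f, hf⟩, hfx⟩

theorem gmap_mem_basicOpen_iff (s : Idx 𝒜) {e : ℕ} (he : 0 < e) {g : A} (hg : g ∈ 𝒜 e)
    (y : Spec (CommRingCat.of (Localization.Away s.f))) :
    gmap 𝒜 s y ∈ Proj.basicOpen 𝒜 g ↔ algebraMap A (Localization.Away s.f) g ∉ y.asIdeal := by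
  have h1 : gmap 𝒜 s y = Proj.awayι 𝒜 s.f s.hf s.hd
      (Spec.map (CommRingCat.ofHom
        (algebraMap (HomogeneousLocalization.Away 𝒜 s.f) (Localization.Away s.f))) y) := rfl
  rw [h1, RelCone3.awayι_mem_basicOpen_iff 𝒜 s.hf s.hd hg he, not_iff_not]
  have h2 : HomogeneousLocalization.Away.isLocalizationElem s.hf hg ∈
      (Spec.map (CommRingCat.ofHom
        (algebraMap (HomogeneousLocalization.Away 𝒜 s.f) (Localization.Away s.f))) y).asIdeal ↔
      (HomogeneousLocalization.Away.isLocalizationElem s.hf hg).val ∈ y.asIdeal := Iff.rfl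
  rw [h2, HomogeneousLocalization.Away.val_mk]
  have hunit : IsUnit (algebraMap A (Localization.Away s.f) (s.f ^ e)) := by
    rw [map_pow]; exact (IsLocalization.Away.algebraMap_isUnit s.f).pow e
  have hmul : Localization.mk (g ^ s.d) (⟨s.f ^ e, e, rfl⟩ : Submonoid.powers s.f) *
      algebraMap A (Localization.Away s.f) (s.f ^ e) =
      algebraMap A (Localization.Away s.f) g ^ s.d := by
    rw [← map_pow, ← Localization.mk_one_eq_algebraMap, ← Localization.mk_one_eq_algebraMap,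
      Localization.mk_mul, Localization.mk_eq_mk_iff, Localization.r_iff_exists]
    exact ⟨1, by simp; ring⟩
  have hprime : y.asIdeal.IsPrime := y.isPrime
  constructor
  · intro hh
    have : algebraMap A (Localization.Away s.f) g ^ s.d ∈ y.asIdeal := by
      rw [← hmul]; exact Ideal.mul_mem_right _ _ hh
    exact hprime.mem_of_pow_mem _ this
  · intro hh
    have : Localization.mk (g ^ s.d) (⟨s.f ^ e, e, rfl⟩ : Submonoid.powers s.f) *
        algebraMap A (Localization.Away s.f) (s.f ^ e) ∈ y.asIdeal := by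
      rw [hmul]; exact Ideal.pow_mem_of_mem _ hh _ s.hd
    rcases hprime.mem_or_mem this with h3 | h3
    · exact h3
    · exact absurd (Ideal.eq_top_of_isUnit_mem _ h3 hunit) hprime.ne_top

section Props
variable
    (hE : ∀ x : Spec (CommRingCat.of A), x ∈ E → ∃ t : Idx 𝒜, t.f ∉ x.asIdeal)
    (hc : ∀ t, c t ≫ E.ι = Spec.map (CommRingCat.ofHom (algebraMap A (Localization.Away t.f))))
    (π : (E : Scheme.{u}) ⟶ Proj 𝒜) (hπ : ∀ t, c t ≫ π = gmap 𝒜 t)

include hE hc hπ in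
theorem retr_mem_basicOpen_iff {e : ℕ} (he : 0 < e) {g : A} (hg : g ∈ 𝒜 e)
    (w : (E : Scheme.{u})) :
    π w ∈ Proj.basicOpen 𝒜 g ↔ g ∉ (E.ι w).asIdeal := by
  obtain ⟨s, y, rfl⟩ := (cov 𝒜 E c hE hc).exists_eq w
  have h1 : π (c s y) = gmap 𝒜 s y := by rw [← hπ s]; rfl
  have h2 : E.ι (c s y) =
      Spec.map (CommRingCat.ofHom (algebraMap A (Localization.Away (s : Idx 𝒜).f))) y := by
    rw [← hc s]; rfl
  show π (c s y) ∈ _ ↔ g ∉ (E.ι (c s y)).asIdeal
  rw [h1, h2, gmap_mem_basicOpen_iff 𝒜 s he hg y]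
  rfl

include hE hc hπ in
theorem retr_preimage_basicOpen {e : ℕ} (he : 0 < e) {g : A} (hg : g ∈ 𝒜 e) :
    π ⁻¹ᵁ Proj.basicOpen 𝒜 g =
      E.ι ⁻¹ᵁ (PrimeSpectrum.basicOpen g : (Spec (CommRingCat.of A)).Opens) := by
  ext w
  exact retr_mem_basicOpen_iff 𝒜 E c hE hc π hπ he hg w

include hE hc hπ in
theorem retr_preimage_eq_opensRange (t : Idx 𝒜) :
    haveI := isOpenImmersion_chart 𝒜 E c hc t
    π ⁻¹ᵁ Proj.basicOpen 𝒜 t.f = (c t).opensRange := by
  have := isOpenImmersion_chart 𝒜 E c hc t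
  ext w
  have h0 : w ∈ π ⁻¹ᵁ Proj.basicOpen 𝒜 t.f ↔ t.f ∉ (E.ι w).asIdeal :=
    retr_mem_basicOpen_iff 𝒜 E c hE hc π hπ t.hd t.hf w
  rw [SetLike.mem_coe, h0, ← mem_range_SpecMap_iff]
  constructor
  · rintro ⟨y, hy⟩
    refine ⟨y, ?_⟩
    apply E.ι.isOpenEmbedding.injective
    rw [← hy, ← hc t]
    rfl
  · rintro ⟨y, rfl⟩
    refine ⟨y, ?_⟩
    rw [← hc t]
    rfl

include hE hc hπ in
theorem isAffineHom_retr : IsAffineHom π := by
  apply isAffineHom_of_forall_exists_isAffineOpen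
  intro y
  have hy := y.not_irrelevant_le
  rw [HomogeneousIdeal.irrelevant_le] at hy
  push Not at hy
  obtain ⟨d, hd, hy⟩ := hy
  obtain ⟨f, hf, hfy⟩ := SetLike.not_le_iff_exists.mp hy
  have hf' : f ∈ 𝒜 d := hf
  let t : Idx 𝒜 := ⟨d, hd, f, hf'⟩
  have := isOpenImmersion_chart 𝒜 E c hc t
  refine ⟨Proj.basicOpen 𝒜 f, (Proj.mem_basicOpen 𝒜 f y).mpr hfy,
    Proj.isAffineOpen_basicOpen 𝒜 f hf' hd, ?_⟩
  have := retr_preimage_eq_opensRange 𝒜 E c hE hc π hπ t
  rw [this]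
  exact isAffineOpen_opensRange (c t)

include hE hc hπ in
theorem retr_asHomogeneousIdeal (w : (E : Scheme.{u})) :
    (π w).asHomogeneousIdeal = (E.ι w).asIdeal.homogeneousCore 𝒜 := by
  apply HomogeneousIdeal.ext'
  intro i g hg
  have hcore : g ∈ (E.ι w).asIdeal.homogeneousCore 𝒜 ↔ g ∈ (E.ι w).asIdeal :=
    ⟨fun h => Ideal.toIdeal_homogeneousCore_le 𝒜 _ h,
      fun h => Ideal.mem_homogeneousCore_of_homogeneous_of_mem ⟨i, hg⟩ h⟩
  rw [hcore]
  obtain ⟨t, ht⟩ := hE (E.ι w) w.2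
  have ht' : t.f ∉ (π w).asHomogeneousIdeal := by
    rw [← Proj.mem_basicOpen]
    exact (retr_mem_basicOpen_iff 𝒜 E c hE hc π hπ t.hd t.hf w).mpr ht
  have hgt : g * t.f ∈ 𝒜 (i + t.d) := SetLike.mul_mem_graded hg t.hf
  have key := retr_mem_basicOpen_iff 𝒜 E c hE hc π hπ (Nat.add_pos_right i t.hd) hgt w
  rw [Proj.mem_basicOpen, not_iff_not] at key
  have hp1 : (π w).asHomogeneousIdeal.toIdeal.IsPrime := (π w).isPrime
  have hp2 : (E.ι w).asIdeal.IsPrime := (E.ι w).isPrime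
  constructor
  · intro h
    have h1 : g * t.f ∈ (π w).asHomogeneousIdeal.toIdeal := Ideal.mul_mem_right _ _ h
    rcases hp2.mem_or_mem (key.mp h1) with h2 | h2
    · exact h2
    · exact absurd h2 ht
  · intro h
    have h1 : g * t.f ∈ (π w).asHomogeneousIdeal.toIdeal := key.mpr (Ideal.mul_mem_right _ _ h)
    rcases hp1.mem_or_mem h1 with h2 | h2
    · exact h2
    · exact absurd h2 ht'

include hE hc hπ in
theorem surjective_retr
    (hE' : ∀ x : Spec (CommRingCat.of A), (∃ t : Idx 𝒜, t.f ∉ x.asIdeal) → x ∈ E) :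
    Function.Surjective π.base := by
  intro x
  have hx := x.not_irrelevant_le
  rw [HomogeneousIdeal.irrelevant_le] at hx
  push Not at hx
  obtain ⟨d, hd, hx⟩ := hx
  obtain ⟨f, hf, hfx⟩ := SetLike.not_le_iff_exists.mp hx
  have hf' : f ∈ 𝒜 d := hf
  let P : Spec (CommRingCat.of A) := ⟨x.asHomogeneousIdeal.toIdeal, x.isPrime⟩
  have hP : P ∈ E := hE' P ⟨⟨d, hd, f, hf'⟩, hfx⟩
  refine ⟨⟨P, hP⟩, ?_⟩
  apply ProjectiveSpectrum.ext
  have := retr_asHomogeneousIdeal 𝒜 E c hE hc π hπ ⟨P, hP⟩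
  refine this.trans ?_
  exact HomogeneousIdeal.toIdeal_homogeneousCore_eq_self x.asHomogeneousIdeal

end Props

end Graded

end Groth.Agent.Helper1.ConeRetr
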