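import Mathlib
import Groth.Agent.Lib.Helper1.GrLoc

/-!
# `A_f ≅ A_(f)[T, T⁻¹]` for `f` homogeneous of degree one (helper1 library)
-/

set_option autoImplicit false
universe u

namespace Groth.Agent.Helper1.GrLocLaurent

open HomogeneousLocalization Groth.Agent.Helper1.GrLoc
open scoped LaurentPolynomial

section
variable {A : Type*} [CommRing A]

/-- the unit `f / 1` of `A_f` -/
noncomputable def fUnit (f : A) : (Localization.Away f)ˣ where
  val := Localization.mk f 1
  inv := Localization.mk 1 ⟨f, 1, pow_one f⟩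
  val_inv := by
    rw [Localization.mk_mul, mul_one, one_mul]
    exact Localization.mk_self (⟨f, 1, pow_one f⟩ : Submonoid.powers f)
  inv_val := by
    rw [Localization.mk_mul, mul_one, one_mul]
    exact Localization.mk_self (⟨f, 1, pow_one f⟩ : Submonoid.powers f)

theorem fUnit_pow (f : A) (n : ℕ) : ((fUnit f) ^ n).val = Localization.mk (f ^ n) 1 := by
  rw [Units.val_pow_eq_pow_val]
  show (Localization.mk f 1) ^ n = _
  rw [Localization.mk_pow, one_pow]

theorem fUnit_inv_pow (f : A) (n : ℕ) :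
    (((fUnit f)⁻¹) ^ n).val = Localization.mk 1 (⟨f ^ n, n, rfl⟩ : Submonoid.powers f) := by
  rw [Units.val_pow_eq_pow_val]
  show (Localization.mk 1 (⟨f, 1, pow_one f⟩ : Submonoid.powers f)) ^ n = _
  rw [Localization.mk_pow, one_pow]
  congr 1

end

section
variable {A σ : Type*} [CommRing A] [SetLike σ A] [AddSubgroupClass σ A] (𝒜 : ℕ → σ)
  [GradedRing 𝒜] {f : A} (hf : f ∈ 𝒜 1)

theorem pi0_val_mul_zpow (c : Away 𝒜 f) (j : ℤ) :
    pi0 𝒜 hf (c.val * ((fUnit f) ^ j).val) = if j = 0 then c.val else 0 := by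
  obtain ⟨k, a, ha, rfl⟩ := Away.mk_surjective 𝒜 hf c
  rw [Away.val_mk]
  have ha' : a ∈ 𝒜 k := by simpa [smul_eq_mul] using ha
  obtain ⟨n, rfl | rfl⟩ := j.eq_nat_or_neg
  · rw [zpow_natCast, fUnit_pow, Localization.mk_mul]
    have hs : (((⟨f ^ k, k, rfl⟩ : Submonoid.powers f) * 1 : Submonoid.powers f) : A) = f ^ k := by
      simp
    by_cases hn : n = 0
    · subst hn
      simp only [Nat.cast_zero, if_true, pow_zero, mul_one]
      exact pi0_mk_of_mem 𝒜 hf k a (by simpa using ha') _ rfl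
    · rw [if_neg (by exact_mod_cast hn)]
      have hmem : a * f ^ n ∈ 𝒜 (k + n • 1) :=
        SetLike.mul_mem_graded ha' (SetLike.pow_mem_graded n hf)
      refine pi0_mk_of_mem_ne 𝒜 hf k (k + n • 1) _ hmem ?_ _ hs
      simp only [smul_eq_mul, mul_one]
      omega
  · rw [zpow_neg, zpow_natCast, ← inv_pow, fUnit_inv_pow, Localization.mk_mul, mul_one]
    have hs : (((⟨f ^ k, k, rfl⟩ : Submonoid.powers f) * ⟨f ^ n, n, rfl⟩ : Submonoid.powers f) : A) =
        f ^ (k + n) := by
      simp [pow_add]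
    by_cases hn : n = 0
    · subst hn
      simp only [Nat.cast_zero, neg_zero, if_true]
      have hone : (⟨f ^ 0, 0, rfl⟩ : Submonoid.powers f) = 1 := Subtype.ext (pow_zero f)
      rw [hone, mul_one]
      exact pi0_mk_of_mem 𝒜 hf k a (by simpa using ha') _ rfl
    · rw [if_neg (by simpa using hn)]
      refine pi0_mk_of_mem_ne 𝒜 hf (k + n) k _ ha' ?_ _ hs
      simp only [mul_one]
      omega

/-- the comparison map `A_(f)[T, T⁻¹] → A_f`, `T ↦ f` -/
noncomputable def Phi : (Away 𝒜 f)[T;T⁻¹] →+* Localization.Away f :=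
  LaurentPolynomial.eval₂ (algebraMap (Away 𝒜 f) (Localization.Away f)) (fUnit f)

theorem Phi_C (c : Away 𝒜 f) : Phi 𝒜 (f := f) (LaurentPolynomial.C c) = c.val := by
  rw [Phi, LaurentPolynomial.eval₂_C]
  rfl

theorem Phi_C_mul_T (c : Away 𝒜 f) (n : ℤ) :
    Phi 𝒜 (f := f) (LaurentPolynomial.C c * LaurentPolynomial.T n) =
      c.val * ((fUnit f) ^ n).val := by
  rw [Phi, LaurentPolynomial.eval₂_C_mul_T]
  rfl

theorem coeff_C_mul_T (c : Away 𝒜 f) (n m : ℤ) :
    (LaurentPolynomial.C c * LaurentPolynomial.T n : (Away 𝒜 f)[T;T⁻¹]).coeff m =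
      if n = m then c else 0 := by
  rw [← LaurentPolynomial.single_eq_C_mul_T, AddMonoidAlgebra.coeff_single, Finsupp.single_apply]

include hf in
theorem extract (p : (Away 𝒜 f)[T;T⁻¹]) (m : ℤ) :
    pi0 𝒜 hf (Phi 𝒜 p * ((fUnit f) ^ (-m)).val) = (p.coeff m).val := by
  induction p using LaurentPolynomial.induction_on' with
  | add p q hp hq =>
    rw [map_add, add_mul, map_add, hp, hq]
    simp
  | C_mul_T n a =>
    rw [Phi_C_mul_T, mul_assoc, ← Units.val_mul, ← zpow_add, pi0_val_mul_zpow, coeff_C_mul_T]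
    by_cases h : n = m
    · subst h
      simp
    · rw [if_neg h, if_neg (by omega)]
      simp

include hf in
theorem Phi_injective : Function.Injective (Phi 𝒜 (f := f)) := by
  rw [injective_iff_map_eq_zero]
  intro p hp
  apply LaurentPolynomial.ext
  intro m
  have h := extract 𝒜 hf p m
  rw [hp, zero_mul, map_zero] at h
  apply HomogeneousLocalization.val_injective
  rw [← h]
  simp

include hf in
theorem Phi_surjective : Function.Surjective (Phi 𝒜 (f := f)) := by
  intro x
  induction x using Localization.induction_on with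
  | H x =>
  obtain ⟨a, ⟨_, k, rfl⟩⟩ := x
  classical
  refine DirectSum.Decomposition.inductionOn 𝒜
    (motive := fun a => Localization.mk a (⟨f ^ k, k, rfl⟩ : Submonoid.powers f) ∈
      Set.range (Phi 𝒜 (f := f))) ?_ ?_ ?_ a
  · exact ⟨0, by rw [map_zero, Localization.mk_zero]⟩
  · intro m a
    have ham : (a : A) ∈ 𝒜 (m • 1) := by simpa [smul_eq_mul] using a.2
    refine ⟨LaurentPolynomial.C (Away.mk 𝒜 hf m a ham) * LaurentPolynomial.T ((m : ℤ) - k), ?_⟩
    rw [Phi_C_mul_T, Away.val_mk, zpow_sub, zpow_natCast, zpow_natCast, ← inv_pow, Units.val_mul,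
      fUnit_pow, fUnit_inv_pow, Localization.mk_mul, Localization.mk_mul, Localization.mk_eq_mk_iff,
      Localization.r_iff_exists]
    refine ⟨1, ?_⟩
    simp only [OneMemClass.coe_one, one_mul, Submonoid.coe_mul, mul_one]
    ring
  · rintro a b ⟨p, hp⟩ ⟨q, hq⟩
    exact ⟨p + q, by rw [map_add, hp, hq, Localization.add_mk_self]⟩

include hf in
theorem Phi_bijective : Function.Bijective (Phi 𝒜 (f := f)) :=
  ⟨Phi_injective 𝒜 hf, Phi_surjective 𝒜 hf⟩

theorem Phi_comp_C :
    (Phi 𝒜 (f := f)).comp (LaurentPolynomial.C : Away 𝒜 f →+* (Away 𝒜 f)[T;T⁻¹]) =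
      algebraMap (Away 𝒜 f) (Localization.Away f) := by
  ext c
  exact Phi_C 𝒜 c

end

end Groth.Agent.Helper1.GrLocLaurent
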