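import Mathlib
import Groth.Prelude.Def_Cone
import Groth.Agent.Lib.Helper1.ConeRetr
import Groth.Agent.Lib.Helper1.GrLocLaurent

/-!
# Fibres of the canonical retraction of the pointed affine cone (helper1 library)
-/

universe u

open CategoryTheory CategoryTheory.Limits AlgebraicGeometry TopologicalSpace Opposite
open scoped LaurentPolynomial AlgebraMonoidAlgebra

namespace Groth.Agent.Helper1.ConeFibre

open ProjDom (Idx)

section General

/-- fibre of a morphism which over an affine open chart is `Spec` of a ring map, computed by a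
pushout of rings -/
theorem exists_fibre_iso {E P : Scheme.{u}} (π : E ⟶ P) {C' L' : CommRingCat.{u}}
    (j : Spec C' ⟶ P) [IsOpenImmersion j] (c : Spec L' ⟶ E) (v : C' ⟶ L')
    (hpb : IsPullback (Spec.map v) c j π) (x : P) (hx : x ∈ Set.range j.base)
    (Fκ : CommRingCat.{u} → CommRingCat.{u}) (b : ∀ κ : CommRingCat.{u}, κ ⟶ Fκ κ)
    (hPO : ∀ (κ : CommRingCat.{u}) (χ : C' ⟶ κ), ∃ a : L' ⟶ Fκ κ, IsPushout v χ a (b κ)) :
    ∃ e : pullback π (P.fromSpecResidueField x) ≅ Spec (Fκ (P.residueField x)),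
      e.hom ≫ Spec.map (b (P.residueField x)) = pullback.snd π (P.fromSpecResidueField x) := by
  have hsub : Set.range (P.fromSpecResidueField x).base ⊆ Set.range j.base := by
    rw [Scheme.range_fromSpecResidueField]
    exact Set.singleton_subset_iff.2 hx
  let ξ : Spec (P.residueField x) ⟶ Spec C' :=
    IsOpenImmersion.lift j (P.fromSpecResidueField x) hsub
  have hξ : ξ ≫ j = P.fromSpecResidueField x := IsOpenImmersion.lift_fac _ _ _
  let χ : C' ⟶ P.residueField x := Spec.preimage ξ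
  have hχ : Spec.map χ = ξ := Spec.map_preimage ξ
  obtain ⟨a, ha⟩ := hPO (P.residueField x) χ
  have h1 := isPullback_SpecMap_of_isPushout v χ a (b _) ha
  have h2 := h1.paste_horiz hpb.flip
  rw [hχ, hξ] at h2
  refine ⟨h2.isoPullback.symm, ?_⟩
  exact h2.isoPullback_inv_snd

/-- the restriction of a morphism over an open `U`, in terms of charts of `U` and its preimage -/
theorem exists_restrict_eq {E P X Y : Scheme.{u}} (π : E ⟶ P) (U : P.Opens)
    (c : X ⟶ E) [IsOpenImmersion c] (j : Y ⟶ P) [IsOpenImmersion j] (g : X ⟶ Y)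
    (hc : c.opensRange = π ⁻¹ᵁ U) (hj : j.opensRange = U) (hcomm : c ≫ π = g ≫ j) :
    ∃ (e1 : X ≅ ((π ⁻¹ᵁ U : E.Opens) : Scheme.{u})) (e2 : Y ≅ (U : Scheme.{u})),
      π ∣_ U = e1.inv ≫ g ≫ e2.hom := by
  have hrange1 : Set.range c.base = Set.range (π ⁻¹ᵁ U).ι.base := by
    rw [Scheme.Opens.range_ι, ← hc]
    rfl
  have hrange2 : Set.range j.base = Set.range U.ι.base := by
    rw [Scheme.Opens.range_ι, ← hj]
    rfl
  let e1 := IsOpenImmersion.isoOfRangeEq c (π ⁻¹ᵁ U).ι hrange1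
  let e2 := IsOpenImmersion.isoOfRangeEq j U.ι hrange2
  have he1 : e1.hom ≫ (π ⁻¹ᵁ U).ι = c := IsOpenImmersion.isoOfRangeEq_hom_fac _ _ _
  have he2 : e2.hom ≫ U.ι = j := IsOpenImmersion.isoOfRangeEq_hom_fac _ _ _
  refine ⟨e1, e2, ?_⟩
  rw [Iso.eq_inv_comp]
  refine (cancel_mono U.ι).1 ?_
  rw [Category.assoc, morphismRestrict_ι, reassoc_of% he1, Category.assoc, he2]
  exact hcomm

end General

section Laurent
variable {C L : Type u} [CommRing C] [CommRing L]

/-- base change of a Laurent polynomial algebra, as a pushout square of rings -/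
theorem isPushout_laurent (v : C →+* L) (Φ : C[T;T⁻¹] ≃+* L)
    (hΦ : (Φ : C[T;T⁻¹] →+* L).comp LaurentPolynomial.C = v)
    (κ : CommRingCat.{u}) (χ : CommRingCat.of C ⟶ κ) :
    ∃ a : CommRingCat.of L ⟶ CommRingCat.of (κ[T;T⁻¹]),
      IsPushout (CommRingCat.ofHom v) χ a
        (CommRingCat.ofHom (algebraMap κ κ[T;T⁻¹])) := by
  let _ : Algebra C κ := χ.hom.toAlgebra
  have h0 := (CommRingCat.isPushout_of_isPushout C κ C[T;T⁻¹] κ[T;T⁻¹]).flip
  let eΦ : CommRingCat.of C[T;T⁻¹] ≅ CommRingCat.of L := Φ.toCommRingCatIso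
  refine ⟨eΦ.inv ≫ CommRingCat.ofHom (algebraMap C[T;T⁻¹] κ[T;T⁻¹]), ?_⟩
  refine IsPushout.of_iso h0 (Iso.refl _) eΦ (Iso.refl _) (Iso.refl _) ?_ ?_ ?_ ?_
  · simp only [Iso.refl_hom, Category.id_comp]
    ext c
    exact congrFun (congrArg DFunLike.coe hΦ) c
  · simp only [Iso.refl_hom, Category.id_comp, Category.comp_id]
    rfl
  · simp only [Iso.refl_hom, Category.comp_id, Iso.hom_inv_id_assoc]
  · simp only [Iso.refl_hom, Category.id_comp, Category.comp_id]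

end Laurent

section Cone
variable {R A : Type u} [CommRing R] [CommRing A] [Algebra R A] (𝒜 : ℕ → Submodule R A)
  [GradedAlgebra 𝒜]

theorem hE : ∀ x : Spec (CommRingCat.of A), x ∈ Cone.pointed 𝒜 → ∃ t : Idx 𝒜, t.f ∉ x.asIdeal :=
  fun x hx => ConeRetr.exists_idx_of_not_mem_zeroLocus 𝒜 x hx

theorem hc (t : Idx 𝒜) : Cone.chart t.hf t.hd ≫ (Cone.pointed 𝒜).ι =
    Spec.map (CommRingCat.ofHom (algebraMap A (Localization.Away t.f))) :=
  IsOpenImmersion.lift_fac _ _ _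

variable (π : (Cone.pointed 𝒜 : Scheme.{u}) ⟶ Proj 𝒜)
  (hπ : ∀ (d : ℕ) (f : A) (hd : 0 < d) (hf : f ∈ 𝒜 d),
    Cone.chart hf hd ≫ π =
      Spec.map (CommRingCat.ofHom (algebraMap (HomogeneousLocalization.Away 𝒜 f)
        (Localization.Away f))) ≫ Proj.awayι 𝒜 f hf hd)

include hπ in
theorem isPullback_chart (t : Idx 𝒜) :
    IsPullback (Spec.map (CommRingCat.ofHom (algebraMap (HomogeneousLocalization.Away 𝒜 t.f)
      (Localization.Away t.f)))) (Cone.chart t.hf t.hd) (Proj.awayι 𝒜 t.f t.hf t.hd) π := by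
  have hπ' : ∀ t : Idx 𝒜, Cone.chart t.hf t.hd ≫ π = ConeRetr.gmap 𝒜 t :=
    fun t => hπ t.d t.f t.hd t.hf
  have := ConeRetr.isOpenImmersion_chart 𝒜 (Cone.pointed 𝒜)
    (fun t => Cone.chart t.hf t.hd) (hc 𝒜) t
  refine IsOpenImmersion.isPullback _ _ _ _ (hπ t.d t.f t.hd t.hf) ?_
  rw [Proj.opensRange_awayι]
  exact ConeRetr.retr_preimage_eq_opensRange 𝒜 (Cone.pointed 𝒜)
    (fun t => Cone.chart t.hf t.hd) (hE 𝒜) (hc 𝒜) π hπ' t

include hπ in
theorem quasiCompact : QuasiCompact π := by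
  have hπ' : ∀ t : Idx 𝒜, Cone.chart t.hf t.hd ≫ π = ConeRetr.gmap 𝒜 t :=
    fun t => hπ t.d t.f t.hd t.hf
  have := ConeRetr.isAffineHom_retr 𝒜 (Cone.pointed 𝒜)
    (fun t => Cone.chart t.hf t.hd) (hE 𝒜) (hc 𝒜) π hπ'
  infer_instance

variable (hgen : (HomogeneousIdeal.irrelevant 𝒜).toIdeal = Ideal.span (𝒜 1 : Set A))

include hgen in
theorem exists_degOne (x : Proj 𝒜) : ∃ f ∈ 𝒜 1, x ∈ Proj.basicOpen 𝒜 f := by
  by_contra hcon
  push Not at hcon
  apply x.not_irrelevant_le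
  show (HomogeneousIdeal.irrelevant 𝒜).toIdeal ≤ x.asHomogeneousIdeal.toIdeal
  rw [hgen, Ideal.span_le]
  intro f hf
  have := hcon f hf
  rw [Proj.mem_basicOpen, not_not] at this
  exact this

include hπ hgen in
theorem fibre (x : Proj 𝒜) :
    ∃ e : pullback π ((Proj 𝒜).fromSpecResidueField x) ≅
        Spec (CommRingCat.of (LaurentPolynomial ((Proj 𝒜).residueField x))),
      e.hom ≫ Spec.map (CommRingCat.ofHom (algebraMap ((Proj 𝒜).residueField x)
        (LaurentPolynomial ((Proj 𝒜).residueField x)))) =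
        pullback.snd π ((Proj 𝒜).fromSpecResidueField x) := by
  obtain ⟨f, hf, hxf⟩ := exists_degOne 𝒜 hgen x
  let t : Idx 𝒜 := ⟨1, Nat.one_pos, f, hf⟩
  have hpb := isPullback_chart 𝒜 π hπ t
  have hx : x ∈ Set.range (Proj.awayι 𝒜 f hf Nat.one_pos).base := by
    have : x ∈ (Proj.awayι 𝒜 f hf Nat.one_pos).opensRange := by
      rw [Proj.opensRange_awayι]; exact hxf
    exact this
  let Φ : (HomogeneousLocalization.Away 𝒜 f)[T;T⁻¹] ≃+* Localization.Away f :=
    RingEquiv.ofBijective (GrLocLaurent.Phi 𝒜 (f := f)) (GrLocLaurent.Phi_bijective 𝒜 hf)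
  exact exists_fibre_iso π (Proj.awayι 𝒜 f hf Nat.one_pos) (Cone.chart hf Nat.one_pos) _ hpb x hx
    (fun κ => CommRingCat.of (κ[T;T⁻¹])) (fun κ => CommRingCat.ofHom (algebraMap κ κ[T;T⁻¹]))
    (fun κ χ => isPushout_laurent _ Φ (GrLocLaurent.Phi_comp_C 𝒜) κ χ)

include hπ hgen in
theorem locallyOfFiniteType : LocallyOfFiniteType π := by
  have hπ' : ∀ t : Idx 𝒜, Cone.chart t.hf t.hd ≫ π = ConeRetr.gmap 𝒜 t :=
    fun t => hπ t.d t.f t.hd t.hf
  have hcov : (⨆ f : {f : A // f ∈ 𝒜 1}, Proj.basicOpen 𝒜 f.1) = ⊤ := by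
    rw [eq_top_iff]
    intro x _
    obtain ⟨f, hf, hxf⟩ := exists_degOne 𝒜 hgen x
    exact Opens.mem_iSup.2 ⟨⟨f, hf⟩, hxf⟩
  refine IsZariskiLocalAtTarget.of_iSup_eq_top (P := @LocallyOfFiniteType)
    (fun f : {f : A // f ∈ 𝒜 1} => Proj.basicOpen 𝒜 f.1) hcov fun f => ?_
  obtain ⟨f, hf⟩ := f
  let t : Idx 𝒜 := ⟨1, Nat.one_pos, f, hf⟩
  have hoi := ConeRetr.isOpenImmersion_chart 𝒜 (Cone.pointed 𝒜)
    (fun t => Cone.chart t.hf t.hd) (hc 𝒜) t
  have hpre := ConeRetr.retr_preimage_eq_opensRange 𝒜 (Cone.pointed 𝒜)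
    (fun t => Cone.chart t.hf t.hd) (hE 𝒜) (hc 𝒜) π hπ' t
  obtain ⟨e1, e2, key⟩ := exists_restrict_eq π (Proj.basicOpen 𝒜 f) (Cone.chart hf Nat.one_pos)
    (Proj.awayι 𝒜 f hf Nat.one_pos)
    (Spec.map (CommRingCat.ofHom (algebraMap (HomogeneousLocalization.Away 𝒜 f)
      (Localization.Away f)))) hpre.symm (Proj.opensRange_awayι 𝒜 f hf Nat.one_pos)
    (hπ 1 f Nat.one_pos hf)
  have hft : (algebraMap (HomogeneousLocalization.Away 𝒜 f) (Localization.Away f)).FiniteType := by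
    rw [← GrLocLaurent.Phi_comp_C 𝒜 (f := f)]
    refine RingHom.FiniteType.comp (RingHom.FiniteType.of_surjective _
      (GrLocLaurent.Phi_surjective 𝒜 hf)) ?_
    have : Algebra.FiniteType (HomogeneousLocalization.Away 𝒜 f)
      (HomogeneousLocalization.Away 𝒜 f)[T;T⁻¹] := inferInstance
    exact RingHom.finiteType_algebraMap.2 this
  have hloft : LocallyOfFiniteType (Spec.map (CommRingCat.ofHom
      (algebraMap (HomogeneousLocalization.Away 𝒜 f) (Localization.Away f)))) :=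
    (HasRingHomProperty.Spec_iff (P := @LocallyOfFiniteType)).2 hft
  show LocallyOfFiniteType (π ∣_ Proj.basicOpen 𝒜 f)
  rw [key]
  infer_instance

end Cone

end Groth.Agent.Helper1.ConeFibre
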