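import Mathlib

/-!
# `Ŝ_(f) ≅ S_(f)[T]` for `Ŝ = S[z]`, `f` homogeneous of degree one (helper1 library)
-/

set_option autoImplicit false
universe u

namespace Groth.Agent.Helper1.PolyAway

open HomogeneousLocalization Polynomial

section
variable {A B σ τ : Type*} [CommRing A] [SetLike σ A] [AddSubgroupClass σ A] (𝒜 : ℕ → σ)
  [GradedRing 𝒜] [CommRing B] [SetLike τ B] [AddSubgroupClass τ B] (ℬ : ℕ → τ) [GradedRing ℬ]
  (φ : 𝒜 →+*ᵍ ℬ) {z : B} (hz : z ∈ ℬ 1) {f : A} (hf : f ∈ 𝒜 1)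

/-- `z / φ f` -/
noncomputable def zeta : Away ℬ (φ f) := Away.mk ℬ (φ.2 hf) 1 z (by simpa using hz)

theorem val_zeta : (zeta 𝒜 ℬ φ hz hf).val =
    Localization.mk z (⟨φ f ^ 1, 1, rfl⟩ : Submonoid.powers (φ f)) := by
  rw [zeta, Away.val_mk]

/-- the comparison map `S_(f)[T] → Ŝ_(f)`, `T ↦ z / f` -/
noncomputable def Psi : (Away 𝒜 f)[X] →+* Away ℬ (φ f) :=
  Polynomial.eval₂RingHom (Away.map φ f) (zeta 𝒜 ℬ φ hz hf)

theorem Psi_C (c : Away 𝒜 f) : Psi 𝒜 ℬ φ hz hf (C c) = Away.map φ f c := by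
  simp [Psi]

theorem Psi_X : Psi 𝒜 ℬ φ hz hf X = zeta 𝒜 ℬ φ hz hf := by
  simp [Psi]

theorem Psi_monomial (j : ℕ) (c : Away 𝒜 f) :
    Psi 𝒜 ℬ φ hz hf (monomial j c) = Away.map φ f c * zeta 𝒜 ℬ φ hz hf ^ j := by
  simp [Psi, eval₂_monomial]

/-- `b ↦ b_k / (φ f)^k` -/
noncomputable def tau (k : ℕ) (b : B) : Away ℬ (φ f) :=
  Away.mk ℬ (φ.2 hf) k (GradedRing.proj ℬ k b) (by
    rw [GradedRing.proj_apply]
    simpa using (DirectSum.decompose ℬ b k).2)

theorem val_tau (k : ℕ) (b : B) : (tau 𝒜 ℬ φ hf k b).val =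
    Localization.mk (GradedRing.proj ℬ k b) (⟨φ f ^ k, k, rfl⟩ : Submonoid.powers (φ f)) := by
  rw [tau, Away.val_mk]

theorem tau_add (k : ℕ) (b b' : B) :
    tau 𝒜 ℬ φ hf k (b + b') = tau 𝒜 ℬ φ hf k b + tau 𝒜 ℬ φ hf k b' := by
  apply HomogeneousLocalization.val_injective
  rw [val_add, val_tau, val_tau, val_tau, map_add, Localization.add_mk_self]

theorem tau_zero (k : ℕ) : tau 𝒜 ℬ φ hf k 0 = 0 := by
  apply HomogeneousLocalization.val_injective
  rw [val_tau, map_zero, Localization.mk_zero, val_zero]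

theorem tau_of_mem (k : ℕ) (b : B) (hb : b ∈ ℬ (k • 1)) :
    tau 𝒜 ℬ φ hf k b = Away.mk ℬ (φ.2 hf) k b hb := by
  apply HomogeneousLocalization.val_injective
  rw [val_tau, Away.val_mk, GradedRing.proj_apply,
    DirectSum.decompose_of_mem_same ℬ (by simpa using hb)]
  rfl

theorem tau_of_mem_ne (k m : ℕ) (b : B) (hb : b ∈ ℬ m) (hm : m ≠ k) :
    tau 𝒜 ℬ φ hf k b = 0 := by
  apply HomogeneousLocalization.val_injective
  rw [val_tau, GradedRing.proj_apply, DirectSum.decompose_of_mem_ne ℬ hb hm,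
    Localization.mk_zero, val_zero]

theorem tau_mono_mem_range (i j k : ℕ) (a : A) (ha : a ∈ 𝒜 i) :
    tau 𝒜 ℬ φ hf k (φ a * z ^ j) ∈ Set.range (Psi 𝒜 ℬ φ hz hf) := by
  have hmem : φ a * z ^ j ∈ ℬ (i + j) := by
    have h1 : z ^ j ∈ ℬ (j • 1) := SetLike.pow_mem_graded j hz
    have := SetLike.mul_mem_graded (φ.2 ha) h1
    simpa using this
  by_cases hk : i + j = k
  · subst hk
    have ha' : a ∈ 𝒜 (i • 1) := by simpa using ha
    refine ⟨monomial j (Away.mk 𝒜 hf i a ha'), ?_⟩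
    rw [Psi_monomial, Away.map_mk, tau_of_mem 𝒜 ℬ φ hf (i + j) _ (by simpa using hmem)]
    apply HomogeneousLocalization.val_injective
    rw [val_mul, val_pow, Away.val_mk, Away.val_mk, val_zeta, Localization.mk_pow,
      Localization.mk_mul]
    congr 1
    apply Subtype.ext
    simp [pow_add]
  · rw [tau_of_mem_ne 𝒜 ℬ φ hf k (i + j) _ hmem hk]
    exact ⟨0, map_zero _⟩

theorem tau_mem_range (P : A[X]) (k : ℕ) :
    tau 𝒜 ℬ φ hf k (eval₂ (φ : A →+* B) z P) ∈ Set.range (Psi 𝒜 ℬ φ hz hf) := by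
  classical
  induction P using Polynomial.induction_on' with
  | add p q hp hq =>
    obtain ⟨p', hp'⟩ := hp
    obtain ⟨q', hq'⟩ := hq
    exact ⟨p' + q', by rw [map_add, hp', hq', eval₂_add, tau_add]⟩
  | monomial j a =>
    rw [eval₂_monomial]
    refine DirectSum.Decomposition.inductionOn 𝒜
      (motive := fun a => tau 𝒜 ℬ φ hf k ((φ : A →+* B) a * z ^ j) ∈
        Set.range (Psi 𝒜 ℬ φ hz hf)) ?_ ?_ ?_ a
    · rw [map_zero, zero_mul, tau_zero]; exact ⟨0, map_zero _⟩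
    · intro i a
      exact tau_mono_mem_range 𝒜 ℬ φ hz hf i j k a a.2
    · rintro a b ⟨p', hp'⟩ ⟨q', hq'⟩
      exact ⟨p' + q', by rw [map_add, hp', hq', map_add, add_mul, tau_add]⟩

theorem Psi_surjective (hsurj : Function.Surjective (eval₂ (φ : A →+* B) z)) :
    Function.Surjective (Psi 𝒜 ℬ φ hz hf) := by
  intro q
  obtain ⟨k, b, hb, rfl⟩ := Away.mk_surjective ℬ (φ.2 hf) q
  obtain ⟨P, rfl⟩ := hsurj b
  rw [← tau_of_mem 𝒜 ℬ φ hf k _ hb]
  exact tau_mem_range 𝒜 ℬ φ hz hf P k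

end

section Inj
variable {A B σ τ : Type*} [CommRing A] [SetLike σ A] [AddSubgroupClass σ A] {𝒜 : ℕ → σ}
  [GradedRing 𝒜] [CommRing B] [SetLike τ B] [AddSubgroupClass τ B] {ℬ : ℕ → τ} [GradedRing ℬ]
  (φ : 𝒜 →+*ᵍ ℬ) {z : B} (hz : z ∈ ℬ 1) {f : A} (hf : f ∈ 𝒜 1)
  (hbij : Function.Bijective (eval₂ (φ : A →+* B) z))

/-- `A[X] ≃ B` -/
noncomputable def eB : A[X] ≃+* B :=
  RingEquiv.ofBijective (eval₂RingHom (φ : A →+* B) z) hbij

theorem eB_symm_phi (a : A) : (eB φ hbij).symm (φ a) = C a := by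
  rw [RingEquiv.symm_apply_eq]
  simp [eB]

theorem eB_symm_z : (eB φ hbij).symm z = X := by
  rw [RingEquiv.symm_apply_eq]
  simp [eB]

variable (f) in
/-- `B ≃ A[X] → A_f[X]` -/
noncomputable def gB : B →+* (Localization.Away f)[X] :=
  (mapRingHom (algebraMap A (Localization.Away f))).comp ((eB φ hbij).symm : B →+* A[X])

theorem gB_phi (a : A) :
    gB φ f hbij (φ a) = C (algebraMap A (Localization.Away f) a) := by
  show (mapRingHom (algebraMap A (Localization.Away f))) ((eB φ hbij).symm (φ a)) = _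
  rw [eB_symm_phi]
  simp

theorem gB_z : gB φ f hbij z = X := by
  show (mapRingHom (algebraMap A (Localization.Away f))) ((eB φ hbij).symm z) = _
  rw [eB_symm_z]
  simp

theorem isUnit_gB : IsUnit (gB φ f hbij (φ f)) := by
  rw [gB_phi]
  exact (IsLocalization.Away.algebraMap_isUnit f).map C

/-- `B_{φ f} → A_f[X]` -/
noncomputable def Lam : Localization.Away (φ f) →+* (Localization.Away f)[X] :=
  IsLocalization.Away.lift (φ f) (isUnit_gB φ hbij)

theorem Lam_mk (b : B) (k : ℕ) (v : (Localization.Away f)[X])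
    (h : gB φ f hbij b = gB φ f hbij (φ f) ^ k * v) :
    Lam φ hbij (Localization.mk b (⟨φ f ^ k, k, rfl⟩ : Submonoid.powers (φ f))) = v := by
  rw [Localization.mk_eq_mk']
  show IsLocalization.lift _ (IsLocalization.mk' _ b _) = v
  rw [IsLocalization.lift_mk'_spec]
  simpa using h

include hf in
theorem Xi_eq :
    (Lam φ hbij).comp ((algebraMap (Away ℬ (φ f)) (Localization.Away (φ f))).comp
      (Psi 𝒜 ℬ φ hz hf)) =
    eval₂RingHom (C.comp (algebraMap (Away 𝒜 f) (Localization.Away f)))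
      (C (Localization.mk 1 (⟨f, 1, pow_one f⟩ : Submonoid.powers f)) * X) := by
  apply Polynomial.ringHom_ext
  · intro c
    obtain ⟨k, a, ha, rfl⟩ := Away.mk_surjective 𝒜 hf c
    simp only [RingHom.comp_apply, Psi_C, Away.map_mk, coe_eval₂RingHom, eval₂_C]
    show Lam φ hbij (Away.mk ℬ (φ.2 hf) k (φ a) _).val = C (Away.mk 𝒜 hf k a ha).val
    rw [Away.val_mk, Away.val_mk]
    apply Lam_mk
    rw [gB_phi, gB_phi, ← C_pow, ← C_mul]
    congr 1
    rw [← Localization.mk_one_eq_algebraMap, ← Localization.mk_one_eq_algebraMap,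
      Localization.mk_pow, Localization.mk_mul, Localization.mk_eq_mk_iff,
      Localization.r_iff_exists]
    refine ⟨1, ?_⟩
    simp
  · simp only [RingHom.comp_apply, Psi_X, coe_eval₂RingHom, eval₂_X]
    show Lam φ hbij (zeta 𝒜 ℬ φ hz hf).val = _
    rw [val_zeta]
    apply Lam_mk
    rw [gB_z, gB_phi, ← C_pow, ← mul_assoc, ← C_mul]
    have : algebraMap A (Localization.Away f) f ^ 1 *
        Localization.mk 1 (⟨f, 1, pow_one f⟩ : Submonoid.powers f) = 1 := by
      rw [pow_one, ← Localization.mk_one_eq_algebraMap, Localization.mk_mul, mul_one, one_mul]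
      exact Localization.mk_self (⟨f, 1, pow_one f⟩ : Submonoid.powers f)
    rw [this, C_1, one_mul]

include hf hbij in
theorem Psi_injective : Function.Injective (Psi 𝒜 ℬ φ hz hf) := by
  rw [injective_iff_map_eq_zero]
  intro P hP
  have h1 := congrArg (fun F => F P) (Xi_eq φ hz hf hbij)
  simp only [RingHom.comp_apply, hP, map_zero] at h1
  refine Polynomial.ext fun j => ?_
  have h2 := congrArg (fun Q => Q.coeff j) h1
  simp only [coeff_zero, coe_eval₂RingHom] at h2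
  rw [← eval₂_map, ← Polynomial.comp, comp_C_mul_X_coeff, coeff_map] at h2
  have hu : IsUnit (Localization.mk 1 (⟨f, 1, pow_one f⟩ : Submonoid.powers f) ^ j) := by
    refine IsUnit.pow j ?_
    refine IsUnit.of_mul_eq_one (Localization.mk f 1) ?_
    rw [Localization.mk_mul, mul_one, one_mul]
    exact Localization.mk_self (⟨f, 1, pow_one f⟩ : Submonoid.powers f)
  have h3 : algebraMap (Away 𝒜 f) (Localization.Away f) (P.coeff j) = 0 :=
    (hu.mul_left_eq_zero).1 h2.symm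
  rw [coeff_zero]
  apply HomogeneousLocalization.val_injective
  rw [HomogeneousLocalization.val_zero]
  exact h3

include hf hbij in
theorem Psi_bijective : Function.Bijective (Psi 𝒜 ℬ φ hz hf) :=
  show Function.Bijective (Psi 𝒜 ℬ φ hz hf) from
  ⟨Psi_injective φ hz hf hbij, Psi_surjective 𝒜 ℬ φ hz hf hbij.surjective⟩

end Inj

end Groth.Agent.Helper1.PolyAway
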