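import Mathlib
import Groth.Prelude.Def_PCone
import Groth.Agent.Lib.Helper1.ProjDom
import Groth.Agent.Lib.Helper1.ConeFibre
import Groth.Agent.Lib.Helper1.PolyAway

/-!
# Fibres of the canonical retraction of the pointed projective cone (helper1 library)
-/

universe u

open CategoryTheory CategoryTheory.Limits AlgebraicGeometry TopologicalSpace Opposite
open Polynomial

namespace Groth.Agent.Helper1.PConeFibre

open ProjDom (Idx)

section Poly
variable {C L : Type u} [CommRing C] [CommRing L]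

attribute [local instance] Polynomial.algebra

/-- base change of a polynomial algebra, as a pushout square of rings -/
theorem isPushout_poly (v : C →+* L) (Φ : C[X] ≃+* L)
    (hΦ : (Φ : C[X] →+* L).comp Polynomial.C = v)
    (κ : CommRingCat.{u}) (χ : CommRingCat.of C ⟶ κ) :
    ∃ a : CommRingCat.of L ⟶ CommRingCat.of (κ[X]),
      IsPushout (CommRingCat.ofHom v) χ a
        (CommRingCat.ofHom (algebraMap κ κ[X])) := by
  let _ : Algebra C κ := χ.hom.toAlgebra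
  have h0 := (CommRingCat.isPushout_of_isPushout C κ C[X] κ[X]).flip
  let eΦ : CommRingCat.of C[X] ≅ CommRingCat.of L := Φ.toCommRingCatIso
  refine ⟨eΦ.inv ≫ CommRingCat.ofHom (algebraMap C[X] κ[X]), ?_⟩
  refine IsPushout.of_iso h0 (Iso.refl _) eΦ (Iso.refl _) (Iso.refl _) ?_ ?_ ?_ ?_
  · simp only [Iso.refl_hom, Category.id_comp]
    ext c
    exact congrFun (congrArg DFunLike.coe hΦ) c
  · simp only [Iso.refl_hom, Category.id_comp, Category.comp_id]
    rfl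
  · simp only [Iso.refl_hom, Category.comp_id, Iso.hom_inv_id_assoc]
  · simp only [Iso.refl_hom, Category.id_comp, Category.comp_id]

end Poly

section PCone
variable {R A B : Type u} [CommRing R] [CommRing A] [Algebra R A]
  (𝒜 : ℕ → Submodule R A) [GradedAlgebra 𝒜] [CommRing B] [Algebra R B]
  (ℬ : ℕ → Submodule R B) [GradedAlgebra ℬ] (φ : 𝒜 →+*ᵍ ℬ)

theorem hW : ∀ x : Proj ℬ, x ∈ PCone.dom φ → ∃ t : Idx 𝒜, x ∈ Proj.basicOpen ℬ (φ t.f) := by
  intro x hx
  obtain ⟨⟨f, d, hd, hf⟩, hxf⟩ := Opens.mem_iSup.1 hx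
  exact ⟨⟨d, hd, f, hf⟩, hxf⟩

theorem hc (t : Idx 𝒜) : PCone.chart φ t.hf t.hd ≫ (PCone.dom φ).ι =
    Proj.awayι ℬ (φ t.f) (φ.2 t.hf) t.hd :=
  IsOpenImmersion.lift_fac _ _ _

variable (p : (PCone.dom φ : Scheme.{u}) ⟶ Proj 𝒜)
  (hp : ∀ (d : ℕ) (f : A) (hd : 0 < d) (hf : f ∈ 𝒜 d),
    PCone.chart φ hf hd ≫ p =
      Spec.map (CommRingCat.ofHom (HomogeneousLocalization.Away.map φ f)) ≫
        Proj.awayι 𝒜 f hf hd)

include hp in
theorem isPullback_chart (t : Idx 𝒜) :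
    IsPullback (Spec.map (CommRingCat.ofHom (HomogeneousLocalization.Away.map φ t.f)))
      (PCone.chart φ t.hf t.hd) (Proj.awayι 𝒜 t.f t.hf t.hd) p := by
  have hp' : ∀ t : Idx 𝒜, PCone.chart φ t.hf t.hd ≫ p = ProjDom.gmap φ t :=
    fun t => hp t.d t.f t.hd t.hf
  have := ProjDom.isOpenImmersion_chart φ (PCone.dom φ)
    (fun t => PCone.chart φ t.hf t.hd) (hc 𝒜 ℬ φ) t
  refine IsOpenImmersion.isPullback _ _ _ _ (hp t.d t.f t.hd t.hf) ?_
  rw [Proj.opensRange_awayι]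
  exact ProjDom.preimage_basicOpen_eq φ (PCone.dom φ)
    (fun t => PCone.chart φ t.hf t.hd) (hW 𝒜 ℬ φ) (hc 𝒜 ℬ φ) p hp' t

include hp in
theorem quasiCompact : QuasiCompact p := by
  have hp' : ∀ t : Idx 𝒜, PCone.chart φ t.hf t.hd ≫ p = ProjDom.gmap φ t :=
    fun t => hp t.d t.f t.hd t.hf
  have := ProjDom.isAffineHom_map φ (PCone.dom φ)
    (fun t => PCone.chart φ t.hf t.hd) (hW 𝒜 ℬ φ) (hc 𝒜 ℬ φ) p hp'
  infer_instance

variable {z : B} (hz : z ∈ ℬ 1)
  (hbij : Function.Bijective (eval₂ (φ : A →+* B) z))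
  (hgen : (HomogeneousIdeal.irrelevant 𝒜).toIdeal = Ideal.span (𝒜 1 : Set A))

theorem Psi_comp_C {f : A} (hf : f ∈ 𝒜 1) :
    (PolyAway.Psi 𝒜 ℬ φ hz hf).comp Polynomial.C = HomogeneousLocalization.Away.map φ f := by
  refine RingHom.ext fun c => ?_
  exact PolyAway.Psi_C 𝒜 ℬ φ hz hf c

include hp hz hbij hgen in
theorem fibre (x : Proj 𝒜) :
    ∃ e : pullback p ((Proj 𝒜).fromSpecResidueField x) ≅
        Spec (CommRingCat.of (Polynomial ((Proj 𝒜).residueField x))),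
      e.hom ≫ Spec.map (CommRingCat.ofHom (algebraMap ((Proj 𝒜).residueField x)
        (Polynomial ((Proj 𝒜).residueField x)))) =
        pullback.snd p ((Proj 𝒜).fromSpecResidueField x) := by
  obtain ⟨f, hf, hxf⟩ := ConeFibre.exists_degOne 𝒜 hgen x
  let t : Idx 𝒜 := ⟨1, Nat.one_pos, f, hf⟩
  have hpb := isPullback_chart 𝒜 ℬ φ p hp t
  have hx : x ∈ Set.range (Proj.awayι 𝒜 f hf Nat.one_pos).base := by
    have : x ∈ (Proj.awayι 𝒜 f hf Nat.one_pos).opensRange := by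
      rw [Proj.opensRange_awayι]; exact hxf
    exact this
  let Φ : (HomogeneousLocalization.Away 𝒜 f)[X] ≃+* HomogeneousLocalization.Away ℬ (φ f) :=
    RingEquiv.ofBijective (PolyAway.Psi 𝒜 ℬ φ hz hf) (PolyAway.Psi_bijective φ hz hf hbij)
  exact ConeFibre.exists_fibre_iso p (Proj.awayι 𝒜 f hf Nat.one_pos)
    (PCone.chart φ hf Nat.one_pos) _ hpb x hx
    (fun κ => CommRingCat.of (κ[X])) (fun κ => CommRingCat.ofHom (algebraMap κ κ[X]))
    (fun κ χ => isPushout_poly _ Φ (Psi_comp_C 𝒜 ℬ φ hz hf) κ χ)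

include hp hz hbij hgen in
theorem locallyOfFiniteType : LocallyOfFiniteType p := by
  have hp' : ∀ t : Idx 𝒜, PCone.chart φ t.hf t.hd ≫ p = ProjDom.gmap φ t :=
    fun t => hp t.d t.f t.hd t.hf
  have hcov : (⨆ f : {f : A // f ∈ 𝒜 1}, Proj.basicOpen 𝒜 f.1) = ⊤ := by
    rw [eq_top_iff]
    intro x _
    obtain ⟨f, hf, hxf⟩ := ConeFibre.exists_degOne 𝒜 hgen x
    exact Opens.mem_iSup.2 ⟨⟨f, hf⟩, hxf⟩
  refine IsZariskiLocalAtTarget.of_iSup_eq_top (P := @LocallyOfFiniteType)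
    (fun f : {f : A // f ∈ 𝒜 1} => Proj.basicOpen 𝒜 f.1) hcov fun f => ?_
  obtain ⟨f, hf⟩ := f
  let t : Idx 𝒜 := ⟨1, Nat.one_pos, f, hf⟩
  have hoi := ProjDom.isOpenImmersion_chart φ (PCone.dom φ)
    (fun t => PCone.chart φ t.hf t.hd) (hc 𝒜 ℬ φ) t
  have hpre := ProjDom.preimage_basicOpen_eq φ (PCone.dom φ)
    (fun t => PCone.chart φ t.hf t.hd) (hW 𝒜 ℬ φ) (hc 𝒜 ℬ φ) p hp' t
  obtain ⟨e1, e2, key⟩ := ConeFibre.exists_restrict_eq p (Proj.basicOpen 𝒜 f)
    (PCone.chart φ hf Nat.one_pos) (Proj.awayι 𝒜 f hf Nat.one_pos)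
    (Spec.map (CommRingCat.ofHom (HomogeneousLocalization.Away.map φ f))) hpre.symm
    (Proj.opensRange_awayι 𝒜 f hf Nat.one_pos) (hp 1 f Nat.one_pos hf)
  have hft : (HomogeneousLocalization.Away.map φ f).FiniteType := by
    rw [← Psi_comp_C 𝒜 ℬ φ hz hf]
    refine RingHom.FiniteType.comp (RingHom.FiniteType.of_surjective _
      (PolyAway.Psi_surjective 𝒜 ℬ φ hz hf hbij.surjective)) ?_
    have : Algebra.FiniteType (HomogeneousLocalization.Away 𝒜 f)
      (HomogeneousLocalization.Away 𝒜 f)[X] := inferInstance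
    exact RingHom.finiteType_algebraMap.2 this
  have hloft : LocallyOfFiniteType (Spec.map (CommRingCat.ofHom
      (HomogeneousLocalization.Away.map φ f))) :=
    (HasRingHomProperty.Spec_iff (P := @LocallyOfFiniteType)).2 hft
  show LocallyOfFiniteType (p ∣_ Proj.basicOpen 𝒜 f)
  rw [key]
  infer_instance

end PCone

end Groth.Agent.Helper1.PConeFibre
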