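import Groth.Agent.Lib.Helper1.RelCone4
import Groth.Agent.Lib.Helper1.RelProjLoc

/-!
# Projective cones: existence of the canonical immersion (helper1 library)
-/

universe u

open CategoryTheory CategoryTheory.Limits AlgebraicGeometry TopologicalSpace Opposite Polynomial
open scoped HomogeneousIdeal

namespace Groth.Agent.Helper1.RelCone5

section Desc
variable {Y : Scheme.{u}} (A : RelSpec.QCAlg Y) {Z : Scheme.{u}}
  (g : ∀ (U : Y.Opens) (_ : IsAffineOpen U), Spec (A.presheaf.obj (op U)) ⟶ Z)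

set_option backward.isDefEq.respectTransparency.types false in
theorem exists_spec_desc
    (hg : ∀ (U : Y.Opens) (hU : IsAffineOpen U) (r : Γ(Y, U)),
      Spec.map (A.presheaf.map (homOfLE (Y.basicOpen_le r)).op) ≫ g U hU =
        g (Y.basicOpen r) (hU.basicOpen r)) :
    ∃ v : A.spec ⟶ Z, ∀ (U : Y.Opens) (hU : IsAffineOpen U), A.ι U hU ≫ v = g U hU := by
  let c : Cocone A.glueData.functor :=
    { pt := Z
      ι :=
        { app := fun U => g U.1 U.2
          naturality := by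
            intro V U f
            obtain ⟨r, hr⟩ := f.le
            obtain ⟨V1, hV⟩ := V
            obtain ⟨U1, hU⟩ := U
            change Y.basicOpen r = V1 at hr
            subst hr
            simp only [Functor.const_obj_obj, Functor.const_obj_map, Category.comp_id]
            exact hg U1 hU r } }
  exact ⟨colimit.desc _ c, fun U hU => colimit.ι_desc c ⟨U, hU⟩⟩

end Desc

section RingEq
variable {A B : Type*} [CommRing A] [CommRing B] (𝒜 : ℕ → AddSubgroup A) (ℬ : ℕ → AddSubgroup B)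
  [GradedRing 𝒜] [GradedRing ℬ] (ι₀ : A →+* B) (hι : ∀ i a, a ∈ 𝒜 i → ι₀ a ∈ ℬ i)
  (z : B) (hz : z ∈ ℬ 1)

include hι in
theorem eq_of_rule (φ θ : HomogeneousLocalization.Away ℬ z →+* A) (hφbij : Function.Bijective φ)
    (hφ : ∀ (k : ℕ) (x : A) (hx : x ∈ 𝒜 k),
      φ (HomogeneousLocalization.Away.mk ℬ hz k (ι₀ x) (by simpa using hι k x hx)) = x)
    (hθ : ∀ (k : ℕ) (x : A) (hx : x ∈ 𝒜 k),
      θ (HomogeneousLocalization.Away.mk ℬ hz k (ι₀ x) (by simpa using hι k x hx)) = x) :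
    θ = φ := by
  classical
  let e := RingEquiv.ofBijective φ hφbij
  have key : ∀ a : A, θ (e.symm a) = a := by
    intro a
    induction a using DirectSum.Decomposition.inductionOn 𝒜 with
    | zero => simp
    | @homogeneous k a =>
      have : e.symm (a : A) =
          HomogeneousLocalization.Away.mk ℬ hz k (ι₀ a) (by simpa using hι k a a.2) := by
        rw [RingEquiv.symm_apply_eq]
        exact (hφ k a a.2).symm
      rw [this, hθ k a a.2]
    | add a b ha hb => rw [map_add, map_add, ha, hb]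
  refine RingHom.ext fun q => ?_
  have := key (φ q)
  rwa [show e.symm (φ q) = q from e.symm_apply_apply q] at this

end RingEq

section Compat
variable {Y : Scheme.{u}} {𝒮 𝒮h : RelProj.QCGrAlg Y} {ι : 𝒮.toQCAlg ⟶ 𝒮h.toQCAlg}
  {z : 𝒮h.presheaf.obj (op ⊤)} (h : RelCone.IsPolyOver 𝒮 𝒮h ι z)
  (U : Y.Opens) (hU : IsAffineOpen U)

open RelCone3 RelCone4

theorem θ_eq
    (θ : CommRingCat.of (HomogeneousLocalization.Away (𝒮h.deg U hU) (RelCone.restrictTop 𝒮h z U)) ⟶
      𝒮.presheaf.obj (op U))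
    (hθ : ∀ (q : HomogeneousLocalization.Away (𝒮h.deg U hU) (RelCone.restrictTop 𝒮h z U))
      (k : ℕ) (x : 𝒮.presheaf.obj (op U)), x ∈ 𝒮.deg U hU k →
        q.val = Localization.mk ((ι.hom.app (op U)).hom x)
          ⟨RelCone.restrictTop 𝒮h z U ^ k,
            pow_mem (Submonoid.mem_powers (RelCone.restrictTop 𝒮h z U)) k⟩ →
        θ.hom q = x) :
    θ = CommRingCat.ofHom (h.awayZToBase U hU) := by
  refine CommRingCat.hom_ext ?_
  refine eq_of_rule (𝒮.deg U hU) (𝒮h.deg U hU) (ι.hom.app (op U)).hom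
    (fun i a ha => h.graded U hU i a ha) (RelCone.restrictTop 𝒮h z U) (h.deg_z U hU)
    (h.awayZToBase U hU) θ.hom (awayZToBase_bijective h U hU) ?_ ?_
  · intro k x hx
    rw [h.awayZToBase_of_val U hU _ _ k (HomogeneousLocalization.Away.val_mk _ _ _ _ _),
      h.evalOne_ι]
  · intro k x hx
    exact hθ _ k x hx (HomogeneousLocalization.Away.val_mk _ _ _ _ _)

theorem res_z {V : Y.Opens} (i : V ≤ U) :
    (𝒮h.presheaf.map (homOfLE i).op).hom (RelCone.restrictTop 𝒮h z U) =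
      RelCone.restrictTop 𝒮h z V := by
  unfold RelCone.restrictTop
  rw [← CommRingCat.comp_apply, ← Functor.map_comp]
  rfl

theorem evalOne_res (r : Γ(Y, U)) (b : 𝒮h.presheaf.obj (op U)) :
    h.evalOne (Y.basicOpen r) (hU.basicOpen r)
        ((𝒮h.presheaf.map (homOfLE (Y.basicOpen_le r)).op).hom b) =
      (𝒮.presheaf.map (homOfLE (Y.basicOpen_le r)).op).hom (h.evalOne U hU b) := by
  obtain ⟨p, rfl⟩ := (h.bij U hU).2 b
  show h.evalOne (Y.basicOpen r) (hU.basicOpen r)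
        ((𝒮h.presheaf.map (homOfLE (Y.basicOpen_le r)).op).hom
          (eval₂ (ι.hom.app (op U)).hom (RelCone.restrictTop 𝒮h z U) p)) =
      (𝒮.presheaf.map (homOfLE (Y.basicOpen_le r)).op).hom
        (h.evalOne U hU (eval₂ (ι.hom.app (op U)).hom (RelCone.restrictTop 𝒮h z U) p))
  rw [evalOne_eval₂, Polynomial.hom_eval₂, res_z]
  have hnat : ((𝒮h.presheaf.map (homOfLE (Y.basicOpen_le r)).op).hom).comp (ι.hom.app (op U)).hom =
      ((ι.hom.app (op (Y.basicOpen r))).hom).comp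
        (𝒮.presheaf.map (homOfLE (Y.basicOpen_le r)).op).hom := by
    have := ι.hom.naturality (homOfLE (Y.basicOpen_le r)).op
    rw [← CommRingCat.hom_comp, ← CommRingCat.hom_comp, this]
  rw [hnat, ← Polynomial.eval₂_map, evalOne_eval₂, Polynomial.eval_map, Polynomial.eval₂_at_one]

variable {PC : Scheme.{u}} {pC : PC ⟶ Y}
  {chartC : ∀ (U : Y.Opens) (hU : IsAffineOpen U),
    (((pC ⁻¹ᵁ U : PC.Opens) : Scheme.{u}) ≅ Proj (𝒮h.deg U hU))}

theorem g_compat_aux (hPC : RelProj.IsRelProj 𝒮h pC chartC) (r : Γ(Y, U))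
    (zV : 𝒮h.presheaf.obj (op (Y.basicOpen r)))
    (e : (𝒮h.res hU (hU.basicOpen r) (Y.basicOpen_le r)) (RelCone.restrictTop 𝒮h z U) = zV)
    (hzV : zV ∈ 𝒮h.deg (Y.basicOpen r) (hU.basicOpen r) 1)
    (φV : HomogeneousLocalization.Away (𝒮h.deg (Y.basicOpen r) (hU.basicOpen r)) zV →+*
      𝒮.presheaf.obj (op (Y.basicOpen r)))
    (hφV : ∀ (q : HomogeneousLocalization.Away (𝒮h.deg (Y.basicOpen r) (hU.basicOpen r)) zV)
      (x : 𝒮h.presheaf.obj (op (Y.basicOpen r))) (k : ℕ),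
      q.val = Localization.mk x ⟨zV ^ k, pow_mem (Submonoid.mem_powers zV) k⟩ →
        φV q = h.evalOne (Y.basicOpen r) (hU.basicOpen r) x) :
    Spec.map (𝒮.presheaf.map (homOfLE (Y.basicOpen_le r)).op) ≫
        Spec.map (CommRingCat.ofHom (h.awayZToBase U hU)) ≫
          Proj.awayι (𝒮h.deg U hU) (RelCone.restrictTop 𝒮h z U) (h.deg_z U hU) one_pos ≫
            RelProj.emb pC chartC U hU =
      Spec.map (CommRingCat.ofHom φV) ≫
        Proj.awayι (𝒮h.deg (Y.basicOpen r) (hU.basicOpen r)) zV hzV one_pos ≫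
          RelProj.emb pC chartC (Y.basicOpen r) (hU.basicOpen r) := by
  subst e
  rw [← RelProj.map_res_emb hPC U hU r, Proj.awayι_comp_map_assoc _ _ one_pos _ (h.deg_z U hU),
    ← Spec.map_comp_assoc, ← Spec.map_comp_assoc]
  congr 2
  refine CommRingCat.hom_ext (RingHom.ext fun q => ?_)
  obtain ⟨k, b, hb, rfl⟩ := HomogeneousLocalization.Away.mk_surjective _ (h.deg_z U hU) q
  show (𝒮.presheaf.map (homOfLE (Y.basicOpen_le r)).op).hom (h.awayZToBase U hU _) =
    φV (HomogeneousLocalization.Away.map _ _ _)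
  rw [HomogeneousLocalization.Away.map_mk,
    hφV _ _ k (HomogeneousLocalization.Away.val_mk _ _ _ _ _),
    h.awayZToBase_of_val U hU _ b k (HomogeneousLocalization.Away.val_mk _ _ _ _ _)]
  exact (evalOne_res h U hU r b).symm

theorem exists_coneImm (hPC : RelProj.IsRelProj 𝒮h pC chartC) :
    ∃ i : 𝒮.toQCAlg.spec ⟶ PC, RelCone.IsConeImm 𝒮 h pC chartC i := by
  obtain ⟨v, hv⟩ := exists_spec_desc 𝒮.toQCAlg
    (fun U hU => Spec.map (CommRingCat.ofHom (h.awayZToBase U hU)) ≫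
      Proj.awayι (𝒮h.deg U hU) (RelCone.restrictTop 𝒮h z U) (h.deg_z U hU) one_pos ≫
        RelProj.emb pC chartC U hU)
    (fun U hU r => g_compat_aux h U hU hPC r (RelCone.restrictTop 𝒮h z (Y.basicOpen r))
      (res_z U (Y.basicOpen_le r)) (h.deg_z _ _) (h.awayZToBase _ _)
      (fun q x k hq => h.awayZToBase_of_val _ _ q x k hq))
  exact ⟨v, hv⟩

theorem coneImm_unique {i i' : 𝒮.toQCAlg.spec ⟶ PC} (hi : RelCone.IsConeImm 𝒮 h pC chartC i)
    (hi' : RelCone.IsConeImm 𝒮 h pC chartC i') : i = i' :=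
  spec_hom_ext 𝒮.toQCAlg fun U hU => (hi U hU).trans (hi' U hU).symm

theorem preimage_emb_opensRange (hPC : RelProj.IsRelProj 𝒮h pC chartC)
    (i : 𝒮.toQCAlg.spec ⟶ PC) (hi : RelCone.IsConeImm 𝒮 h pC chartC i) :
    i ⁻¹ᵁ (RelProj.emb pC chartC U hU).opensRange = (𝒮.toQCAlg.ι U hU).opensRange := by
  have h1 : (RelProj.emb pC chartC U hU).opensRange = pC ⁻¹ᵁ U :=
    Opens.ext (range_emb (𝒮h := 𝒮h) U hU)
  rw [h1, ← Scheme.Hom.comp_preimage, coneImm_comp h hPC i hi, 𝒮.toQCAlg.π_preimage U hU]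

theorem isPullback_chart (hPC : RelProj.IsRelProj 𝒮h pC chartC)
    (i : 𝒮.toQCAlg.spec ⟶ PC) (hi : RelCone.IsConeImm 𝒮 h pC chartC i) :
    IsPullback (jU h U hU) (𝒮.toQCAlg.ι U hU) (RelProj.emb pC chartC U hU) i := by
  have : IsOpenImmersion (RelProj.emb pC chartC U hU) := RelProj.isOpenImmersion_emb ..
  refine IsOpenImmersion.isPullback _ _ _ _ ?_ (preimage_emb_opensRange h U hU hPC i hi)
  rw [hi U hU, jU, Category.assoc]

instance isOpenImmersion_jU : IsOpenImmersion (jU h U hU) := by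
  let e := RingEquiv.ofBijective _ (awayZToBase_bijective h U hU)
  have : IsIso (CommRingCat.ofHom (h.awayZToBase U hU)) :=
    inferInstanceAs (IsIso e.toCommRingCatIso.hom)
  unfold jU
  infer_instance

theorem isOpenImmersion_coneImm (hPC : RelProj.IsRelProj 𝒮h pC chartC)
    (i : 𝒮.toQCAlg.spec ⟶ PC) (hi : RelCone.IsConeImm 𝒮 h pC chartC i) : IsOpenImmersion i := by
  refine IsZariskiLocalAtTarget.of_openCover (P := @IsOpenImmersion) (RelProjGlue.cov pC)
    fun U => ?_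
  obtain ⟨U, hU⟩ : Y.affineOpens := U
  change IsAffineOpen U at hU
  have hpb : IsPullback (jU h U hU ≫ (chartC U hU).inv)
      (𝒮.toQCAlg.ι U hU) (pC ⁻¹ᵁ U).ι i := by
    refine IsOpenImmersion.isPullback _ _ _ _ ?_ ?_
    · rw [hi _ hU]
      simp only [jU, RelProj.emb, Category.assoc]
    · rw [Scheme.Opens.opensRange_ι, ← Scheme.Hom.comp_preimage, coneImm_comp h hPC i hi,
        𝒮.toQCAlg.π_preimage _ hU]
  have e : hpb.flip.isoPullback.hom ≫ (RelProjGlue.cov pC).pullbackHom i ⟨U, hU⟩ =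
      jU h U hU ≫ (chartC U hU).inv :=
    hpb.flip.isoPullback_hom_snd
  have e2 : (RelProjGlue.cov pC).pullbackHom i ⟨U, hU⟩ =
      hpb.flip.isoPullback.inv ≫ (jU h U hU ≫ (chartC U hU).inv) :=
    (Iso.eq_inv_comp _).mpr e
  have key : IsOpenImmersion (hpb.flip.isoPullback.inv ≫ (jU h U hU ≫ (chartC U hU).inv)) :=
    inferInstance
  rw [e2]
  exact key

theorem isAffineHom_coneImm (hPC : RelProj.IsRelProj 𝒮h pC chartC)
    (i : 𝒮.toQCAlg.spec ⟶ PC) (hi : RelCone.IsConeImm 𝒮 h pC chartC i) : IsAffineHom i := by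
  have : IsSeparated pC := RelProjLoc.isSeparated 𝒮h pC chartC hPC
  have : IsAffineHom (i ≫ pC) := by
    rw [coneImm_comp h hPC i hi]; infer_instance
  exact IsAffineHom.of_comp i pC

set_option backward.isDefEq.respectTransparency.types false in
theorem emb_mem_range_iff (hPC : RelProj.IsRelProj 𝒮h pC chartC)
    (i : 𝒮.toQCAlg.spec ⟶ PC) (hi : RelCone.IsConeImm 𝒮 h pC chartC i)
    (x : Proj (𝒮h.deg U hU)) :
    RelProj.emb pC chartC U hU x ∈ Set.range i ↔
      RelCone.restrictTop 𝒮h z U ∉ x.asHomogeneousIdeal := by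
  rw [← mem_range_jU_iff h U hU x]
  have hipC := coneImm_comp h hPC i hi
  constructor
  · rintro ⟨s, hs⟩
    have hsU : 𝒮.toQCAlg.π s ∈ U := by
      have h1 : 𝒮.toQCAlg.π s = pC (i s) := by
        rw [← hipC]; rfl
      rw [h1, hs]
      have : RelProj.emb pC chartC U hU x ∈ Set.range (RelProj.emb pC chartC U hU) := ⟨x, rfl⟩
      rw [range_emb] at this
      exact this
    obtain ⟨w, rfl⟩ := RelSpecMap.mem_range_ι 𝒮.toQCAlg U hU s hsU
    rw [coneImm_ι h U hU i hi w] at hs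
    exact ⟨w, (RelProj.emb pC chartC U hU).isOpenEmbedding.injective hs⟩
  · rintro ⟨w, rfl⟩
    exact ⟨𝒮.toQCAlg.ι U hU w, coneImm_ι h U hU i hi w⟩

set_option backward.isDefEq.respectTransparency.types false in
theorem range_coneImm_eq_of (hPC : RelProj.IsRelProj 𝒮h pC chartC)
    (i : 𝒮.toQCAlg.spec ⟶ PC) (hi : RelCone.IsConeImm 𝒮 h pC chartC i) (Xz : PC.Opens)
    (hXz : ∀ (U : Y.Opens) (hU : IsAffineOpen U),
      Xz ⊓ pC ⁻¹ᵁ U =
        (pC ⁻¹ᵁ U).ι ''ᵁ ((chartC U hU).hom ⁻¹ᵁ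
          Proj.basicOpen (𝒮h.deg U hU) (RelCone.restrictTop 𝒮h z U))) :
    Set.range i.base = (Xz : Set PC) := by
  ext c
  obtain ⟨U, (hU : IsAffineOpen U), hcU, -⟩ := Opens.isBasis_iff_nbhd.mp Y.isBasis_affineOpens
    (show pC c ∈ (⊤ : Y.Opens) from trivial)
  have hc' : c ∈ Set.range (RelProj.emb pC chartC U hU) := by
    rw [range_emb]; exact hcU
  obtain ⟨x, rfl⟩ := hc'
  have h1 : RelProj.emb pC chartC U hU x ∈ Set.range i.base ↔ _ :=
    emb_mem_range_iff h U hU hPC i hi x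
  rw [h1, ← Proj.mem_basicOpen]
  have h2 : RelProj.emb pC chartC U hU x ∈ (Xz : Set PC) ↔
      RelProj.emb pC chartC U hU x ∈ Xz ⊓ pC ⁻¹ᵁ U := by
    constructor
    · intro hh; exact ⟨hh, hcU⟩
    · intro hh; exact hh.1
  rw [h2, hXz U hU]
  constructor
  · intro hx
    refine ⟨(chartC U hU).inv x, ?_, rfl⟩
    show (chartC U hU).hom ((chartC U hU).inv x) ∈
      Proj.basicOpen (𝒮h.deg U hU) (RelCone.restrictTop 𝒮h z U)
    rw [← Scheme.Hom.comp_apply, Iso.inv_hom_id]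
    exact hx
  · rintro ⟨t, ht, htx⟩
    have ht' : (chartC U hU).hom t ∈ Proj.basicOpen (𝒮h.deg U hU) (RelCone.restrictTop 𝒮h z U) := ht
    have : t = (chartC U hU).inv x := by
      apply (pC ⁻¹ᵁ U).ι.isOpenEmbedding.injective
      exact htx
    rw [this, ← Scheme.Hom.comp_apply, Iso.inv_hom_id] at ht'
    exact ht'

end Compat

end Groth.Agent.Helper1.RelCone5
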