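import Mathlib
import Groth.Prelude.Def_RelProj4
import Groth.Agent.Lib.Helper1.ProjQ6
import Groth.Agent.Lib.Helper1.RelCone5
import Groth.Agent.Lib.Helper1.RelCone2
import Groth.Agent.Lib.Helper1.RelProjGlue2

/-!
# The canonical retraction of the pointed projective cone (helper1 library)
-/

universe u

open CategoryTheory CategoryTheory.Limits AlgebraicGeometry TopologicalSpace Opposite
open scoped HomogeneousIdeal

namespace Groth.Agent.Helper1.RelCone7

open ProjQ RelCone3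

section
variable {Y PC P : Scheme.{u}} {𝒮 𝒮h : RelProj.QCGrAlg Y} {ι : 𝒮.toQCAlg ⟶ 𝒮h.toQCAlg}
  {z : 𝒮h.presheaf.obj (op ⊤)} (h : RelCone.IsPolyOver 𝒮 𝒮h ι z)
  (pC : PC ⟶ Y)
  (chartC : ∀ (U : Y.Opens) (hU : IsAffineOpen U),
    (((pC ⁻¹ᵁ U : PC.Opens) : Scheme.{u}) ≅ Proj (𝒮h.deg U hU)))
  (p : P ⟶ Y)
  (chart : ∀ (U : Y.Opens) (hU : IsAffineOpen U),
    (((p ⁻¹ᵁ U : P.Opens) : Scheme.{u}) ≅ Proj (𝒮.deg U hU)))
  (hPC : RelProj.IsRelProj 𝒮h pC chartC) (hP : RelProj.IsRelProj 𝒮 p chart)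

include hPC hP in
theorem pointedProjCone_eq_domQ :
    RelCone.pointedProjCone 𝒮 h pC chartC =
      RelProj.domQ (RelProj.QGrHom.ofHom ι h.graded) pC chartC :=
  (domQ_ofHom_eq ι h.graded p chart pC chartC hP hPC).symm

theorem exists_point (U : Y.Opens) (hU : IsAffineOpen U) (y₁ : Proj (𝒮.deg U hU)) :
    ∃ (w : Spec (𝒮.presheaf.obj (op U)))
      (hw : jU h U hU w ∈ RelCone.domOpen (gr (RelProj.QGrHom.ofHom ι h.graded) (diag U hU))),
      w ∈ RelCone.vertexCompl (𝒮.deg U hU) ∧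
        dmap (gr (RelProj.QGrHom.ofHom ι h.graded) (diag U hU)) ⟨jU h U hU w, hw⟩ = y₁ := by
  let w : Spec (𝒮.presheaf.obj (op U)) := ⟨y₁.asHomogeneousIdeal.toIdeal, y₁.isPrime⟩
  have hnot : ¬ ((𝒮.deg U hU)₊).toIdeal ≤ w.asIdeal := y₁.not_irrelevant_le
  have hw0 : jU h U hU w ∈ RelCone.domOpen (RelProj.gradedHomAt ι h.graded U hU) := by
    by_contra hcon
    exact hnot ((jU_not_mem_domOpen_iff h U hU w).mp hcon)
  have hw : jU h U hU w ∈
      RelCone.domOpen (gr (RelProj.QGrHom.ofHom ι h.graded) (diag U hU)) := by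
    rw [gr_diag]; exact hw0
  refine ⟨w, hw, hnot, ?_⟩
  apply proj_ext_of_basicOpen
  intro t
  rw [dmap_mem_basicOpen_iff _ t.hd t.hf]
  show jU h U hU w ∈ Proj.basicOpen _ _ ↔ _
  have e : (gr (RelProj.QGrHom.ofHom ι h.graded) (diag U hU)) t.f = (ι.hom.app (op U)).hom t.f :=
    DFunLike.congr_fun (gr_diag ι h.graded U hU) t.f
  rw [Proj.mem_basicOpen, Proj.mem_basicOpen, not_iff_not, e]
  exact mem_jU_iff h U hU t.hd t.f t.hf w

theorem surjective_of_isProjQMapOn (W : PC.Opens)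
    (hW : W = RelProj.domQ (RelProj.QGrHom.ofHom ι h.graded) pC chartC)
    (r : (W : Scheme.{u}) ⟶ P)
    (hr : RelProj.IsProjQMapOn (RelProj.QGrHom.ofHom ι h.graded) p chart pC chartC W r) :
    Function.Surjective r.base := by
  subst hW
  have hr' := (isProjQMapOn_iff (RelProj.QGrHom.ofHom ι h.graded) p chart pC chartC _
    (range_jj_subset (RelProj.QGrHom.ofHom ι h.graded) pC chartC) r).mp hr
  intro y
  obtain ⟨U, (hU : IsAffineOpen U), hyU, -⟩ := Opens.isBasis_iff_nbhd.mp Y.isBasis_affineOpens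
    (show p y ∈ (⊤ : Y.Opens) from trivial)
  have hy' : y ∈ Set.range (RelProj.emb p chart U hU) := by
    rw [RelCone3.range_emb]; exact hyU
  obtain ⟨y₁, rfl⟩ := hy'
  obtain ⟨w, hw, -, hd⟩ := exists_point h U hU y₁
  refine ⟨IsOpenImmersion.lift (RelProj.domQ (RelProj.QGrHom.ofHom ι h.graded) pC chartC).ι
    (jj (RelProj.QGrHom.ofHom ι h.graded) pC chartC (diag U hU))
    (range_jj_subset (RelProj.QGrHom.ofHom ι h.graded) pC chartC (diag U hU))
    ⟨jU h U hU w, hw⟩, ?_⟩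
  show r _ = _
  rw [← Scheme.Hom.comp_apply, hr' (diag U hU)]
  unfold nn
  show RelProj.emb p chart U hU (dmap _ _) = _
  rw [hd]

theorem retraction_of_isProjQMapOn (W : PC.Opens)
    (hW : W = RelProj.domQ (RelProj.QGrHom.ofHom ι h.graded) pC chartC)
    (r : (W : Scheme.{u}) ⟶ P)
    (hr : RelProj.IsProjQMapOn (RelProj.QGrHom.ofHom ι h.graded) p chart pC chartC W r)
    (θ : 𝒮h.toQCAlg ⟶ 𝒮.toQCAlg) (hθ : RelProj.IsGradedHom θ) (hιθ : ι ≫ θ = 𝟙 _)
    (hirr : ∀ (U : Y.Opens) (hU : IsAffineOpen U),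
      (𝒮.deg U hU)₊ ≤ ((𝒮h.deg U hU)₊).map (RelProj.gradedHomAt θ hθ U hU))
    (j : P ⟶ PC) (hj : RelProj.IsRelProjMap θ hθ hirr chartC chart j)
    (j' : P ⟶ (W : Scheme.{u})) (hj' : j' ≫ W.ι = j) : j' ≫ r = 𝟙 P := by
  subst hW
  have hr' := (isProjQMapOn_iff (RelProj.QGrHom.ofHom ι h.graded) p chart pC chartC _
    (range_jj_subset (RelProj.QGrHom.ofHom ι h.graded) pC chartC) r).mp hr
  refine RelProjGlue.hom_ext p fun U hU => ?_
  have e : (RelProj.gradedHomAt θ hθ U hU).comp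
      (gr (RelProj.QGrHom.ofHom ι h.graded) (diag U hU)) = GradedRingHom.id _ := by
    rw [gr_diag]
    ext a
    exact RelCone4.θ_ι U θ hιθ a
  have hcomp : (𝒮.deg U hU)₊ ≤ ((𝒮.deg U hU)₊).map ((RelProj.gradedHomAt θ hθ U hU).comp
      (gr (RelProj.QGrHom.ofHom ι h.graded) (diag U hU))) := by
    rw [e]; simp
  have hrange := ProjDom.range_map_subset (gr (RelProj.QGrHom.ofHom ι h.graded) (diag U hU))
    (RelCone.domOpen (gr (RelProj.QGrHom.ofHom ι h.graded) (diag U hU)))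
    (RelProj.gradedHomAt θ hθ U hU) (hirr U hU) hcomp
    (fun x hx => (mem_domOpen_iff _ x).mpr hx)
  have h1 := ProjDom.lift_comp_map (gr (RelProj.QGrHom.ofHom ι h.graded) (diag U hU))
    (RelCone.domOpen (gr (RelProj.QGrHom.ofHom ι h.graded) (diag U hU)))
    (ch (gr (RelProj.QGrHom.ofHom ι h.graded) (diag U hU)))
    (RelProj.gradedHomAt θ hθ U hU) (hirr U hU) hcomp
    (ch_ι (gr (RelProj.QGrHom.ofHom ι h.graded) (diag U hU)))
    (dmap (gr (RelProj.QGrHom.ofHom ι h.graded) (diag U hU)))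
    (ch_dmap (gr (RelProj.QGrHom.ofHom ι h.graded) (diag U hU)))
    (IsOpenImmersion.lift _ _ hrange) (IsOpenImmersion.lift_fac _ _ _)
  have h2 : Proj.map ((RelProj.gradedHomAt θ hθ U hU).comp
      (gr (RelProj.QGrHom.ofHom ι h.graded) (diag U hU))) hcomp = 𝟙 _ :=
    (RelProjGlue2.map_congr e _ (by simp)).trans Proj.map_id
  have h3 : RelProj.emb p chart U hU ≫ j' =
      IsOpenImmersion.lift _ _ hrange ≫
        IsOpenImmersion.lift (RelProj.domQ (RelProj.QGrHom.ofHom ι h.graded) pC chartC).ι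
          (jj (RelProj.QGrHom.ofHom ι h.graded) pC chartC (diag U hU))
          (range_jj_subset (RelProj.QGrHom.ofHom ι h.graded) pC chartC (diag U hU)) := by
    rw [← cancel_mono (RelProj.domQ (RelProj.QGrHom.ofHom ι h.graded) pC chartC).ι,
      Category.assoc, Category.assoc, hj', RelCone4.emb_j U hU θ hθ hirr j hj,
      IsOpenImmersion.lift_fac]
    unfold jj
    rw [← Category.assoc, IsOpenImmersion.lift_fac]
  have key : RelProj.emb p chart U hU ≫ j' ≫ r = RelProj.emb p chart U hU := by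
    rw [← Category.assoc, h3, Category.assoc, hr' (diag U hU)]
    unfold nn
    rw [← Category.assoc, h1, h2, Category.id_comp]
  rw [← cancel_epi (chart U hU).inv, Category.comp_id]
  simpa [RelProj.emb] using key

include hPC hP in
theorem preimage_pointedProjCone_eq (i : 𝒮.toQCAlg.spec ⟶ PC)
    (hi : RelCone.IsConeImm 𝒮 h pC chartC i) :
    i ⁻¹ᵁ RelCone.pointedProjCone 𝒮 h pC chartC = RelCone.pointedCone 𝒮 := by
  ext x
  obtain ⟨U, (hU : IsAffineOpen U), hxU, -⟩ := Opens.isBasis_iff_nbhd.mp Y.isBasis_affineOpens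
    (show 𝒮.toQCAlg.π x ∈ (⊤ : Y.Opens) from trivial)
  obtain ⟨w, rfl⟩ := RelSpecMap.mem_range_ι 𝒮.toQCAlg U hU x hxU
  have h1 : 𝒮.toQCAlg.ι U hU w ∈ i ⁻¹ᵁ RelCone.pointedProjCone 𝒮 h pC chartC ↔
      RelProj.emb pC chartC U hU (jU h U hU w) ∈ RelCone.pointedProjCone 𝒮 h pC chartC := by
    rw [← coneImm_ι h U hU i hi w]
    rfl
  have h2 : RelProj.emb pC chartC U hU (jU h U hU w) ∈ RelCone.pointedProjCone 𝒮 h pC chartC ↔
      jU h U hU w ∈ RelCone.domOpen (RelProj.gradedHomAt ι h.graded U hU) := by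
    constructor
    · intro hx
      have hx' : RelProj.emb pC chartC U hU (jU h U hU w) ∈
          RelProj.domQ (RelProj.QGrHom.ofHom ι h.graded) pC chartC ⊓ pC ⁻¹ᵁ U := by
        refine ⟨?_, ?_⟩
        · rw [← pointedProjCone_eq_domQ h pC chartC p chart hPC hP]; exact hx
        · have : RelProj.emb pC chartC U hU (jU h U hU w) ∈
              Set.range (RelProj.emb pC chartC U hU) := ⟨_, rfl⟩
          rw [RelCone3.range_emb] at this
          exact this
      rw [inf_preimage_eq_same ι h.graded p chart pC chartC hP hPC U hU] at hx'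
      obtain ⟨a, ha, haw⟩ := hx'
      have := (RelProj.emb pC chartC U hU).isOpenEmbedding.injective haw
      rw [← this]
      exact ha
    · intro hx
      exact Opens.mem_iSup.mpr ⟨⟨U, hU⟩, _, hx, rfl⟩
  rw [SetLike.mem_coe, SetLike.mem_coe, h1, h2, RelCone2.mem_pointedCone_ι_iff]
  rw [← not_iff_not, jU_not_mem_domOpen_iff]
  unfold RelCone2.Q
  push Not
  rfl

theorem surjective_comp_of_isProjQMapOn (W : PC.Opens)
    (hW : W = RelProj.domQ (RelProj.QGrHom.ofHom ι h.graded) pC chartC)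
    (r : (W : Scheme.{u}) ⟶ P)
    (hr : RelProj.IsProjQMapOn (RelProj.QGrHom.ofHom ι h.graded) p chart pC chartC W r)
    (i : 𝒮.toQCAlg.spec ⟶ PC) (hi : RelCone.IsConeImm 𝒮 h pC chartC i)
    (i' : ((RelCone.pointedCone 𝒮 : 𝒮.toQCAlg.spec.Opens) : Scheme.{u}) ⟶ (W : Scheme.{u}))
    (hi' : i' ≫ W.ι = (RelCone.pointedCone 𝒮).ι ≫ i) :
    Function.Surjective (i' ≫ r).base := by
  subst hW
  have hr' := (isProjQMapOn_iff (RelProj.QGrHom.ofHom ι h.graded) p chart pC chartC _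
    (range_jj_subset (RelProj.QGrHom.ofHom ι h.graded) pC chartC) r).mp hr
  intro y
  obtain ⟨U, (hU : IsAffineOpen U), hyU, -⟩ := Opens.isBasis_iff_nbhd.mp Y.isBasis_affineOpens
    (show p y ∈ (⊤ : Y.Opens) from trivial)
  have hy' : y ∈ Set.range (RelProj.emb p chart U hU) := by
    rw [RelCone3.range_emb]; exact hyU
  obtain ⟨y₁, rfl⟩ := hy'
  obtain ⟨w, hw, hwE, hd⟩ := exists_point h U hU y₁
  have hmem : 𝒮.toQCAlg.ι U hU w ∈ RelCone.pointedCone 𝒮 := by
    rw [RelCone2.mem_pointedCone_ι_iff]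
    have : ¬ ((((𝒮.deg U hU)₊).toIdeal : Set (𝒮.presheaf.obj (op U))) ⊆
        (w.asIdeal : Set (𝒮.presheaf.obj (op U)))) := hwE
    rw [Set.not_subset] at this
    exact this
  have hpt : i' ⟨𝒮.toQCAlg.ι U hU w, hmem⟩ =
      IsOpenImmersion.lift (RelProj.domQ (RelProj.QGrHom.ofHom ι h.graded) pC chartC).ι
        (jj (RelProj.QGrHom.ofHom ι h.graded) pC chartC (diag U hU))
        (range_jj_subset (RelProj.QGrHom.ofHom ι h.graded) pC chartC (diag U hU))
        ⟨jU h U hU w, hw⟩ := by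
    apply (RelProj.domQ (RelProj.QGrHom.ofHom ι h.graded) pC chartC).ι.isOpenEmbedding.injective
    rw [← Scheme.Hom.comp_apply, ← Scheme.Hom.comp_apply, hi', IsOpenImmersion.lift_fac]
    exact coneImm_ι h U hU i hi w
  refine ⟨⟨𝒮.toQCAlg.ι U hU w, hmem⟩, ?_⟩
  show r (i' _) = _
  rw [hpt, ← Scheme.Hom.comp_apply, hr' (diag U hU)]
  unfold nn
  show RelProj.emb p chart U hU (dmap _ _) = _
  rw [hd]

end

end Groth.Agent.Helper1.RelCone7
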