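import Mathlib
import Groth.Prelude.Def_RelProj4
import Groth.Agent.Lib.Helper1.ProjQ6
import Groth.Agent.Lib.Helper1.RelCone7
import Groth.Agent.Lib.Helper1.PConeFibre
import Groth.Agent.Lib.Helper1.RP3

/-!
# Fibres of the canonical retraction of the pointed projective cone over a general base
(helper1 library)
-/

universe u

open CategoryTheory CategoryTheory.Limits AlgebraicGeometry TopologicalSpace Opposite
open scoped HomogeneousIdeal

namespace Groth.Agent.Helper1.ConeFibA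

open ProjQ RelCone3

section General

/-- local-on-the-target assembly: finite type and fibres from affine charts -/
theorem assemble {E P : Scheme.{u}} (π : E ⟶ P)
    (Fκ : CommRingCat.{u} → CommRingCat.{u}) (b : ∀ κ : CommRingCat.{u}, κ ⟶ Fκ κ)
    (H : ∀ x : P, ∃ (C' L' : CommRingCat.{u}) (j : Spec C' ⟶ P) (c : Spec L' ⟶ E) (v : C' ⟶ L')
      (_ : IsOpenImmersion j) (_ : IsOpenImmersion c),
      x ∈ Set.range j.base ∧ c ≫ π = Spec.map v ≫ j ∧ π ⁻¹ᵁ j.opensRange = c.opensRange ∧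
      v.hom.FiniteType ∧
      ∀ (κ : CommRingCat.{u}) (χ : C' ⟶ κ), ∃ a : L' ⟶ Fκ κ, IsPushout v χ a (b κ)) :
    LocallyOfFiniteType π ∧
      ∀ x : P, ∃ e : pullback π (P.fromSpecResidueField x) ≅ Spec (Fκ (P.residueField x)),
        e.hom ≫ Spec.map (b (P.residueField x)) = pullback.snd π (P.fromSpecResidueField x) := by
  constructor
  · have hcov : (⨆ U : {U : P.Opens // LocallyOfFiniteType (π ∣_ U)}, U.1) = ⊤ := by
      rw [eq_top_iff]
      intro x _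
      obtain ⟨C', L', j, c, v, hj, hc, hx, hcomm, hpre, hft, -⟩ := H x
      have hl : LocallyOfFiniteType (π ∣_ j.opensRange) := by
        obtain ⟨e1, e2, key⟩ := ConeFibre.exists_restrict_eq π j.opensRange c j (Spec.map v)
          hpre.symm rfl hcomm
        have hloft : LocallyOfFiniteType (Spec.map v) :=
          (HasRingHomProperty.Spec_iff (P := @LocallyOfFiniteType)).2 hft
        rw [key]
        infer_instance
      exact Opens.mem_iSup.2 ⟨⟨j.opensRange, hl⟩, hx⟩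
    exact IsZariskiLocalAtTarget.of_iSup_eq_top (P := @LocallyOfFiniteType)
      (fun U : {U : P.Opens // LocallyOfFiniteType (π ∣_ U)} => U.1) hcov fun U => U.2
  · intro x
    obtain ⟨C', L', j, c, v, hj, hc, hx, hcomm, hpre, -, hPO⟩ := H x
    have hpb : IsPullback (Spec.map v) c j π := IsOpenImmersion.isPullback _ _ _ _ hcomm hpre
    exact ConeFibre.exists_fibre_iso π j c v hpb x hx Fκ b hPO

end General

section Same
variable {Y PA PB : Scheme.{u}} {𝒜 ℬ : RelProj.QCGrAlg Y} (φ : 𝒜.toQCAlg ⟶ ℬ.toQCAlg)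
  (hφ : RelProj.IsGradedHom φ)
  (pA : PA ⟶ Y)
  (chartA : ∀ (U : Y.Opens) (hU : IsAffineOpen U),
    (((pA ⁻¹ᵁ U : PA.Opens) : Scheme.{u}) ≅ Proj (𝒜.deg U hU)))
  (pB : PB ⟶ Y)
  (chartB : ∀ (U : Y.Opens) (hU : IsAffineOpen U),
    (((pB ⁻¹ᵁ U : PB.Opens) : Scheme.{u}) ≅ Proj (ℬ.deg U hU)))
  (hA : RelProj.IsRelProj 𝒜 pA chartA) (hB : RelProj.IsRelProj ℬ pB chartB)

include hA hB in
theorem preimage_chart_aux
    (Φ : ((RelProj.domQ (RelProj.QGrHom.ofHom φ hφ) pB chartB : PB.Opens) : Scheme.{u}) ⟶ PA)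
    (hΦ : RelProj.IsProjQMapOn (RelProj.QGrHom.ofHom φ hφ) pA chartA pB chartB
      (RelProj.domQ (RelProj.QGrHom.ofHom φ hφ) pB chartB) Φ)
    (U : Y.Opens) (hU : IsAffineOpen U) (d : ℕ) (hd : 0 < d) (f : 𝒜.presheaf.obj (op U))
    (hf' : f ∈ 𝒜.deg U hU d)
    (w : ((RelProj.domQ (RelProj.QGrHom.ofHom φ hφ) pB chartB : PB.Opens) : Scheme.{u})) :
    Φ w ∈ ((RelProj.emb pA chartA U hU) ''ᵁ Proj.basicOpen (𝒜.deg U hU) f) ↔
      w ∈ Set.range (ch (gr (RelProj.QGrHom.ofHom φ hφ) (diag U hU)) ⟨d, hd, f, hf'⟩ ≫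
        IsOpenImmersion.lift (RelProj.domQ (RelProj.QGrHom.ofHom φ hφ) pB chartB).ι
          (jj (RelProj.QGrHom.ofHom φ hφ) pB chartB (diag U hU))
          (range_jj_subset (RelProj.QGrHom.ofHom φ hφ) pB chartB (diag U hU))).base := by
  have hΦ' := (isProjQMapOn_iff (RelProj.QGrHom.ofHom φ hφ) pA chartA pB chartB _
    (range_jj_subset (RelProj.QGrHom.ofHom φ hφ) pB chartB) Φ).mp hΦ
  have hcomp := comp_eq (RelProj.QGrHom.ofHom φ hφ) pA chartA pB chartB hA hB _ rfl Φ hΦ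
  have hlift := isOpenImmersion_lift (RelProj.domQ (RelProj.QGrHom.ofHom φ hφ) pB chartB)
    (Xi (RelProj.QGrHom.ofHom φ hφ)) (jj (RelProj.QGrHom.ofHom φ hφ) pB chartB)
    (range_jj_subset (RelProj.QGrHom.ofHom φ hφ) pB chartB) (diag U hU)
  have hch : IsOpenImmersion (ch (gr (RelProj.QGrHom.ofHom φ hφ) (diag U hU)) ⟨d, hd, f, hf'⟩) :=
    ProjDom.isOpenImmersion_chart _ _ _ (ch_ι _) _
  have key : Φ ⁻¹ᵁ ((RelProj.emb pA chartA U hU) ''ᵁ Proj.basicOpen (𝒜.deg U hU) f) =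
      (ch (gr (RelProj.QGrHom.ofHom φ hφ) (diag U hU)) ⟨d, hd, f, hf'⟩ ≫
        IsOpenImmersion.lift (RelProj.domQ (RelProj.QGrHom.ofHom φ hφ) pB chartB).ι
          (jj (RelProj.QGrHom.ofHom φ hφ) pB chartB (diag U hU))
          (range_jj_subset (RelProj.QGrHom.ofHom φ hφ) pB chartB (diag U hU))).opensRange := by
    ext w
    constructor
    · rintro ⟨y₂, hy₂, hy₂w⟩
      have hwU : pB ((RelProj.domQ (RelProj.QGrHom.ofHom φ hφ) pB chartB).ι w) ∈ U := by
        have h1 : pB ((RelProj.domQ (RelProj.QGrHom.ofHom φ hφ) pB chartB).ι w) = pA (Φ w) := by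
          rw [← Scheme.Hom.comp_apply, ← Scheme.Hom.comp_apply, hcomp]
          rfl
        rw [h1, ← hy₂w]
        have : RelProj.emb pA chartA U hU y₂ ∈ Set.range (RelProj.emb pA chartA U hU) := ⟨y₂, rfl⟩
        rw [RelCone3.range_emb] at this
        exact this
      have h2 : (RelProj.domQ (RelProj.QGrHom.ofHom φ hφ) pB chartB).ι w ∈
          RelProj.domQ (RelProj.QGrHom.ofHom φ hφ) pB chartB ⊓ pB ⁻¹ᵁ U := ⟨w.2, hwU⟩
      rw [inf_preimage_eq (RelProj.QGrHom.ofHom φ hφ) pA chartA pB chartB hA hB (diag U hU)] at h2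
      obtain ⟨a₁, ha₁, ha₁w⟩ := h2
      have hwa : IsOpenImmersion.lift (RelProj.domQ (RelProj.QGrHom.ofHom φ hφ) pB chartB).ι
          (jj (RelProj.QGrHom.ofHom φ hφ) pB chartB (diag U hU))
          (range_jj_subset (RelProj.QGrHom.ofHom φ hφ) pB chartB (diag U hU)) ⟨a₁, ha₁⟩ = w := by
        apply (RelProj.domQ (RelProj.QGrHom.ofHom φ hφ) pB chartB).ι.isOpenEmbedding.injective
        rw [← Scheme.Hom.comp_apply, IsOpenImmersion.lift_fac]
        exact ha₁w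
      have hΦw : Φ w = RelProj.emb pA chartA U hU
          (dmap (gr (RelProj.QGrHom.ofHom φ hφ) (diag U hU)) ⟨a₁, ha₁⟩) := by
        rw [← hwa, ← Scheme.Hom.comp_apply, hΦ' (diag U hU)]
        rfl
      have h3 : y₂ = dmap (gr (RelProj.QGrHom.ofHom φ hφ) (diag U hU)) ⟨a₁, ha₁⟩ :=
        (RelProj.emb pA chartA U hU).isOpenEmbedding.injective (hy₂w.trans hΦw)
      rw [h3] at hy₂
      have h4 := (dmap_mem_basicOpen_iff (gr (RelProj.QGrHom.ofHom φ hφ) (diag U hU)) hd hf'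
        ⟨a₁, ha₁⟩).mp hy₂
      have h5 : a₁ ∈ Set.range (Proj.awayι (ℬ.deg U hU)
          ((gr (RelProj.QGrHom.ofHom φ hφ) (diag U hU)) f)
          ((gr (RelProj.QGrHom.ofHom φ hφ) (diag U hU)).2 hf') hd) := by
        rw [RelCone3.mem_range_awayι_iff, ← Proj.mem_basicOpen]
        exact h4
      obtain ⟨z, hz⟩ := h5
      refine ⟨z, ?_⟩
      apply (RelProj.domQ (RelProj.QGrHom.ofHom φ hφ) pB chartB).ι.isOpenEmbedding.injective
      rw [← Scheme.Hom.comp_apply, Category.assoc, IsOpenImmersion.lift_fac, ← ha₁w, ← hz]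
      unfold jj
      rw [reassoc_of% (ch_ι (gr (RelProj.QGrHom.ofHom φ hφ) (diag U hU)) ⟨d, hd, f, hf'⟩)]
      rfl
    · rintro ⟨z, rfl⟩
      have h1 : Φ ((ch (gr (RelProj.QGrHom.ofHom φ hφ) (diag U hU)) ⟨d, hd, f, hf'⟩ ≫
          IsOpenImmersion.lift (RelProj.domQ (RelProj.QGrHom.ofHom φ hφ) pB chartB).ι
          (jj (RelProj.QGrHom.ofHom φ hφ) pB chartB (diag U hU))
          (range_jj_subset (RelProj.QGrHom.ofHom φ hφ) pB chartB (diag U hU))) z) =
          RelProj.emb pA chartA U hU (Proj.awayι (𝒜.deg U hU) f hf' hd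
            (Spec.map (CommRingCat.ofHom (HomogeneousLocalization.Away.map
              (gr (RelProj.QGrHom.ofHom φ hφ) (diag U hU)) f)) z)) := by
        rw [← Scheme.Hom.comp_apply, Category.assoc, hΦ' (diag U hU)]
        unfold nn
        rw [reassoc_of% (ch_dmap (gr (RelProj.QGrHom.ofHom φ hφ) (diag U hU)) ⟨d, hd, f, hf'⟩)]
        rfl
      refine ⟨_, ?_, h1.symm⟩
      rw [SetLike.mem_coe, Proj.mem_basicOpen, ← RelCone3.mem_range_awayι_iff _ hf' hd]
      exact ⟨_, rfl⟩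
  have hmem : w ∈ Φ ⁻¹ᵁ ((RelProj.emb pA chartA U hU) ''ᵁ Proj.basicOpen (𝒜.deg U hU) f) ↔
      w ∈ (ch (gr (RelProj.QGrHom.ofHom φ hφ) (diag U hU)) ⟨d, hd, f, hf'⟩ ≫
        IsOpenImmersion.lift (RelProj.domQ (RelProj.QGrHom.ofHom φ hφ) pB chartB).ι
          (jj (RelProj.QGrHom.ofHom φ hφ) pB chartB (diag U hU))
          (range_jj_subset (RelProj.QGrHom.ofHom φ hφ) pB chartB (diag U hU))).opensRange := by
    rw [key]
  exact hmem

include hA hB in
theorem preimage_chart_of_eq (W : PB.Opens)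
    (hW : W = RelProj.domQ (RelProj.QGrHom.ofHom φ hφ) pB chartB)
    (Φ : (W : Scheme.{u}) ⟶ PA)
    (hΦ : RelProj.IsProjQMapOn (RelProj.QGrHom.ofHom φ hφ) pA chartA pB chartB W Φ)
    (U : Y.Opens) (hU : IsAffineOpen U)
    (ψ : 𝒜.deg U hU →+*ᵍ ℬ.deg U hU) (hψ : ψ = gr (RelProj.QGrHom.ofHom φ hφ) (diag U hU))
    (d : ℕ) (hd : 0 < d) (f : 𝒜.presheaf.obj (op U)) (hf : f ∈ 𝒜.deg U hU d)
    (c : Spec (CommRingCat.of (HomogeneousLocalization.Away (ℬ.deg U hU) (ψ f))) ⟶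
      (W : Scheme.{u}))
    (hc : c ≫ W.ι = Proj.awayι (ℬ.deg U hU) (ψ f) (ψ.2 hf) hd ≫ RelProj.emb pB chartB U hU)
    (w : (W : Scheme.{u})) :
    Φ w ∈ ((RelProj.emb pA chartA U hU) ''ᵁ Proj.basicOpen (𝒜.deg U hU) f) ↔
      w ∈ Set.range c.base := by
  subst hW
  subst hψ
  have hcc : c = ch (gr (RelProj.QGrHom.ofHom φ hφ) (diag U hU)) ⟨d, hd, f, hf⟩ ≫
      IsOpenImmersion.lift (RelProj.domQ (RelProj.QGrHom.ofHom φ hφ) pB chartB).ι
        (jj (RelProj.QGrHom.ofHom φ hφ) pB chartB (diag U hU))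
        (range_jj_subset (RelProj.QGrHom.ofHom φ hφ) pB chartB (diag U hU)) := by
    rw [← cancel_mono (RelProj.domQ (RelProj.QGrHom.ofHom φ hφ) pB chartB).ι, hc, Category.assoc,
      IsOpenImmersion.lift_fac]
    unfold jj
    rw [reassoc_of% (ch_ι (gr (RelProj.QGrHom.ofHom φ hφ) (diag U hU)) ⟨d, hd, f, hf⟩)]
  rw [hcc]
  exact preimage_chart_aux φ hφ pA chartA pB chartB hA hB Φ hΦ U hU d hd f hf w

include hA hB in
theorem preimage_chart (W : PB.Opens)
    (hW : W = RelProj.domQ (RelProj.QGrHom.ofHom φ hφ) pB chartB)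
    (Φ : (W : Scheme.{u}) ⟶ PA)
    (hΦ : RelProj.IsProjQMapOn (RelProj.QGrHom.ofHom φ hφ) pA chartA pB chartB W Φ)
    (U : Y.Opens) (hU : IsAffineOpen U)
    (d : ℕ) (hd : 0 < d) (f : 𝒜.presheaf.obj (op U)) (hf : f ∈ 𝒜.deg U hU d)
    (c : Spec (CommRingCat.of (HomogeneousLocalization.Away (ℬ.deg U hU)
      ((RelProj.gradedHomAt φ hφ U hU) f))) ⟶ (W : Scheme.{u}))
    (hc : c ≫ W.ι = Proj.awayι (ℬ.deg U hU) ((RelProj.gradedHomAt φ hφ U hU) f)
      ((RelProj.gradedHomAt φ hφ U hU).2 hf) hd ≫ RelProj.emb pB chartB U hU)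
    (w : (W : Scheme.{u})) :
    Φ w ∈ ((RelProj.emb pA chartA U hU) ''ᵁ Proj.basicOpen (𝒜.deg U hU) f) ↔
      w ∈ Set.range c.base :=
  preimage_chart_of_eq φ hφ pA chartA pB chartB hA hB W hW Φ hΦ U hU
    (RelProj.gradedHomAt φ hφ U hU) (gr_diag φ hφ U hU).symm d hd f hf c hc w

end Same

section Chart
variable {Y PC P : Scheme.{u}} {𝒮 𝒮h : RelProj.QCGrAlg Y} {ι : 𝒮.toQCAlg ⟶ 𝒮h.toQCAlg}
  {z : 𝒮h.presheaf.obj (op ⊤)} (h : RelCone.IsPolyOver 𝒮 𝒮h ι z)
  (pC : PC ⟶ Y)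
  (chartC : ∀ (U : Y.Opens) (hU : IsAffineOpen U),
    (((pC ⁻¹ᵁ U : PC.Opens) : Scheme.{u}) ≅ Proj (𝒮h.deg U hU)))
  (p : P ⟶ Y)
  (chart : ∀ (U : Y.Opens) (hU : IsAffineOpen U),
    (((p ⁻¹ᵁ U : P.Opens) : Scheme.{u}) ≅ Proj (𝒮.deg U hU)))
  (hPC : RelProj.IsRelProj 𝒮h pC chartC) (hP : RelProj.IsRelProj 𝒮 p chart)
  (U : Y.Opens) (hU : IsAffineOpen U) {d : ℕ} (hd : 0 < d) (f : 𝒮.presheaf.obj (op U))
  (hf : f ∈ 𝒮.deg U hU d)

theorem range_chart_subset :
    Set.range (Proj.awayι (𝒮h.deg U hU) ((RelProj.gradedHomAt ι h.graded U hU) f)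
      ((RelProj.gradedHomAt ι h.graded U hU).2 hf) hd ≫ RelProj.emb pC chartC U hU).base ⊆
      Set.range (RelCone.pointedProjCone 𝒮 h pC chartC).ι.base := by
  rw [Scheme.Opens.range_ι]
  rintro _ ⟨y, rfl⟩
  have hmem : Proj.awayι (𝒮h.deg U hU) ((RelProj.gradedHomAt ι h.graded U hU) f)
      ((RelProj.gradedHomAt ι h.graded U hU).2 hf) hd y ∈
      RelCone.domOpen (RelProj.gradedHomAt ι h.graded U hU) := by
    rw [RelCone.mem_domOpen]
    exact ⟨f, HomogeneousIdeal.mem_irrelevant_of_mem _ hd hf,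
      (RelCone3.mem_range_awayι_iff (𝒮h.deg U hU) ((RelProj.gradedHomAt ι h.graded U hU).2 hf)
        hd _).mp ⟨y, rfl⟩⟩
  exact Opens.mem_iSup.mpr ⟨⟨U, hU⟩, _, hmem, rfl⟩

/-- the standard chart of the pointed projective cone -/
noncomputable def cHat :
    Spec (CommRingCat.of (HomogeneousLocalization.Away (𝒮h.deg U hU)
      ((RelProj.gradedHomAt ι h.graded U hU) f))) ⟶
      ((RelCone.pointedProjCone 𝒮 h pC chartC : PC.Opens) : Scheme.{u}) :=
  IsOpenImmersion.lift (RelCone.pointedProjCone 𝒮 h pC chartC).ι _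
    (range_chart_subset h pC chartC U hU hd f hf)

theorem cHat_ι : cHat h pC chartC U hU hd f hf ≫ (RelCone.pointedProjCone 𝒮 h pC chartC).ι =
    Proj.awayι (𝒮h.deg U hU) ((RelProj.gradedHomAt ι h.graded U hU) f)
      ((RelProj.gradedHomAt ι h.graded U hU).2 hf) hd ≫ RelProj.emb pC chartC U hU :=
  IsOpenImmersion.lift_fac _ _ _

instance isOpenImmersion_cHat : IsOpenImmersion (cHat h pC chartC U hU hd f hf) := by
  have : IsOpenImmersion (cHat h pC chartC U hU hd f hf ≫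
      (RelCone.pointedProjCone 𝒮 h pC chartC).ι) := by
    rw [cHat_ι]; infer_instance
  exact IsOpenImmersion.of_comp _ (RelCone.pointedProjCone 𝒮 h pC chartC).ι

variable (r : ((RelCone.pointedProjCone 𝒮 h pC chartC : PC.Opens) : Scheme.{u}) ⟶ P)
  (hr : ProjQ.CP ι h.graded p chart pC chartC (RelCone.pointedProjCone 𝒮 h pC chartC) r)

include hr in
theorem cHat_r : cHat h pC chartC U hU hd f hf ≫ r =
    Spec.map (CommRingCat.ofHom (HomogeneousLocalization.Away.map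
      (RelProj.gradedHomAt ι h.graded U hU) f)) ≫
      Proj.awayι (𝒮.deg U hU) f hf hd ≫ RelProj.emb p chart U hU :=
  hr U hU d hd f hf _ (cHat_ι h pC chartC U hU hd f hf)

include hPC hP hr in
theorem preimage_cHat :
    r ⁻¹ᵁ (Proj.awayι (𝒮.deg U hU) f hf hd ≫ RelProj.emb p chart U hU).opensRange =
      (cHat h pC chartC U hU hd f hf).opensRange := by
  have hW := RelCone7.pointedProjCone_eq_domQ h pC chartC p chart hPC hP
  have hr' := ProjQ.isProjQMapOn_of_cp ι h.graded p chart pC chartC hP hPC _ hW r hr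
  have hj : (Proj.awayι (𝒮.deg U hU) f hf hd ≫ RelProj.emb p chart U hU).opensRange =
      (RelProj.emb p chart U hU) ''ᵁ Proj.basicOpen (𝒮.deg U hU) f := by
    rw [Scheme.Hom.opensRange_comp, Proj.opensRange_awayι]
  rw [hj]
  ext w
  exact preimage_chart ι h.graded p chart pC chartC hP hPC _ hW r hr' U hU d hd f hf _
    (cHat_ι h pC chartC U hU hd f hf) w

theorem finiteType_awayMap (hf1 : f ∈ 𝒮.deg U hU 1) :
    (HomogeneousLocalization.Away.map (RelProj.gradedHomAt ι h.graded U hU) f).FiniteType := by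
  have hΨ : (PolyAway.Psi (𝒮.deg U hU) (𝒮h.deg U hU) (RelProj.gradedHomAt ι h.graded U hU)
      (h.deg_z U hU) hf1).comp Polynomial.C =
      HomogeneousLocalization.Away.map (RelProj.gradedHomAt ι h.graded U hU) f :=
    RingHom.ext fun c => PolyAway.Psi_C _ _ _ _ _ c
  rw [← hΨ]
  refine RingHom.FiniteType.comp (RingHom.FiniteType.of_surjective _
    (PolyAway.Psi_surjective _ _ _ (h.deg_z U hU) hf1 (h.bij U hU).surjective)) ?_
  have : Algebra.FiniteType (HomogeneousLocalization.Away (𝒮.deg U hU) f)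
    (Polynomial (HomogeneousLocalization.Away (𝒮.deg U hU) f)) := inferInstance
  exact RingHom.finiteType_algebraMap.2 this

end Chart

section Main
variable {Y PC P : Scheme.{u}} {𝒮 𝒮h : RelProj.QCGrAlg Y} {ι : 𝒮.toQCAlg ⟶ 𝒮h.toQCAlg}
  {z : 𝒮h.presheaf.obj (op ⊤)} (h : RelCone.IsPolyOver 𝒮 𝒮h ι z)
  (pC : PC ⟶ Y)
  (chartC : ∀ (U : Y.Opens) (hU : IsAffineOpen U),
    (((pC ⁻¹ᵁ U : PC.Opens) : Scheme.{u}) ≅ Proj (𝒮h.deg U hU)))
  (p : P ⟶ Y)
  (chart : ∀ (U : Y.Opens) (hU : IsAffineOpen U),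
    (((p ⁻¹ᵁ U : P.Opens) : Scheme.{u}) ≅ Proj (𝒮.deg U hU)))
  (hPC : RelProj.IsRelProj 𝒮h pC chartC) (hP : RelProj.IsRelProj 𝒮 p chart)

theorem exists_chart_of_point (hgen : 𝒮.IsGenDegOne) (x : P) :
    ∃ (U : Y.Opens) (hU : IsAffineOpen U) (f : 𝒮.presheaf.obj (op U))
      (hf : f ∈ 𝒮.deg U hU 1),
      x ∈ Set.range (Proj.awayι (𝒮.deg U hU) f hf one_pos ≫ RelProj.emb p chart U hU).base := by
  obtain ⟨U, (hU : IsAffineOpen U), hxU, -⟩ := Opens.isBasis_iff_nbhd.mp Y.isBasis_affineOpens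
    (show p x ∈ (⊤ : Y.Opens) from trivial)
  have hx' : x ∈ Set.range (RelProj.emb p chart U hU) := by
    rw [RelCone3.range_emb]; exact hxU
  obtain ⟨y₁, rfl⟩ := hx'
  obtain ⟨f, hf, hfy⟩ := RP3.exists_deg_one_notMem (𝒮.deg U hU) (hgen U hU) y₁
  obtain ⟨y₀, rfl⟩ := (RelCone3.mem_range_awayι_iff (𝒮.deg U hU) hf one_pos y₁).mpr hfy
  exact ⟨U, hU, f, hf, y₀, rfl⟩

variable (r : ((RelCone.pointedProjCone 𝒮 h pC chartC : PC.Opens) : Scheme.{u}) ⟶ P)
  (hr : ProjQ.CP ι h.graded p chart pC chartC (RelCone.pointedProjCone 𝒮 h pC chartC) r)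

include hPC hP hr in
theorem partA (hgen : 𝒮.IsGenDegOne) :
    LocallyOfFiniteType r ∧
      ∀ x : P, ∃ e : pullback r (P.fromSpecResidueField x) ≅
          Spec (CommRingCat.of (Polynomial (P.residueField x))),
        e.hom ≫ Spec.map (CommRingCat.ofHom (algebraMap (P.residueField x)
          (Polynomial (P.residueField x)))) = pullback.snd r (P.fromSpecResidueField x) := by
  refine assemble r (fun κ => CommRingCat.of (Polynomial κ))
    (fun κ => CommRingCat.ofHom (algebraMap κ (Polynomial κ))) fun x => ?_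
  obtain ⟨U, hU, f, hf, hx⟩ := exists_chart_of_point p chart hgen x
  have hΨ : (PolyAway.Psi (𝒮.deg U hU) (𝒮h.deg U hU) (RelProj.gradedHomAt ι h.graded U hU)
      (h.deg_z U hU) hf).comp Polynomial.C =
      HomogeneousLocalization.Away.map (RelProj.gradedHomAt ι h.graded U hU) f :=
    RingHom.ext fun c => PolyAway.Psi_C _ _ _ _ _ c
  exact ⟨_, _, Proj.awayι (𝒮.deg U hU) f hf one_pos ≫ RelProj.emb p chart U hU,
    cHat h pC chartC U hU one_pos f hf,
    CommRingCat.ofHom (HomogeneousLocalization.Away.map (RelProj.gradedHomAt ι h.graded U hU) f),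
    inferInstance, inferInstance, hx,
    cHat_r h pC chartC p chart U hU one_pos f hf r hr,
    preimage_cHat h pC chartC p chart hPC hP U hU one_pos f hf r hr,
    finiteType_awayMap h U hU f hf,
    fun κ χ => PConeFibre.isPushout_poly _
      (RingEquiv.ofBijective (PolyAway.Psi (𝒮.deg U hU) (𝒮h.deg U hU)
        (RelProj.gradedHomAt ι h.graded U hU) (h.deg_z U hU) hf)
        (PolyAway.Psi_bijective (RelProj.gradedHomAt ι h.graded U hU) (h.deg_z U hU) hf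
          (h.bij U hU))) hΨ κ χ⟩

end Main

end Groth.Agent.Helper1.ConeFibA
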