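import Mathlib
import Groth.Agent.Lib.Helper1.ConeFibA

/-!
# Fibres of the canonical retraction of the pointed affine cone over a general base
(helper1 library)
-/

universe u

open CategoryTheory CategoryTheory.Limits AlgebraicGeometry TopologicalSpace Opposite
open scoped HomogeneousIdeal LaurentPolynomial

namespace Groth.Agent.Helper1.ConeFibB

open ProjQ RelCone3

section Ring
variable {B R : Type u} [CommRing B] [CommRing R] {τ : Type u} [SetLike τ B]
  [AddSubgroupClass τ B] (ℬ : ℕ → τ) [GradedRing ℬ]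

theorem beta_awayι_eq {m e : ℕ} (hm : 0 < m) (he : 0 < e) {z g : B} (hz : z ∈ ℬ m)
    (hg : g ∈ ℬ e) (ψ : B →+* R) (huz : IsUnit (ψ z)) (hug : IsUnit (ψ g)) :
    Spec.map (CommRingCat.ofHom ((IsLocalization.Away.lift (S := Localization.Away z) z huz).comp
        (algebraMap (HomogeneousLocalization.Away ℬ z) (Localization.Away z)))) ≫
        Proj.awayι ℬ z hz hm =
      Spec.map (CommRingCat.ofHom ((IsLocalization.Away.lift (S := Localization.Away g) g hug).comp
        (algebraMap (HomogeneousLocalization.Away ℬ g) (Localization.Away g)))) ≫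
        Proj.awayι ℬ g hg he := by
  have hu : IsUnit (ψ (z * g)) := by rw [map_mul]; exact huz.mul hug
  have h1 := ConeRetr.gmap_lift ℬ ⟨m, hm, z, hz⟩
    ⟨m + e, Nat.add_pos_left hm e, z * g, SetLike.mul_mem_graded hz hg⟩ hg rfl rfl ψ hu huz
  have h2 := ConeRetr.gmap_lift ℬ ⟨e, he, g, hg⟩
    ⟨m + e, Nat.add_pos_left hm e, z * g, SetLike.mul_mem_graded hz hg⟩ hz (mul_comm z g)
    (Nat.add_comm e m) ψ hu hug
  unfold ConeRetr.gmap at h1 h2
  simp only [CommRingCat.ofHom_comp, Spec.map_comp, Category.assoc]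
  exact h1.trans h2.symm

variable {A : Type u} [CommRing A] {σ : Type u} [SetLike σ A] [AddSubgroupClass σ A]
  (𝒜 : ℕ → σ) [GradedRing 𝒜]

theorem lift_map_mk (φ : 𝒜 →+*ᵍ ℬ) {d : ℕ} {f : A} (hf : f ∈ 𝒜 d)
    (ρ : B →+* Localization.Away f)
    (hρ : ∀ a, ρ (φ a) = algebraMap A (Localization.Away f) a) (hu : IsUnit (ρ (φ f))) :
    ((IsLocalization.Away.lift (S := Localization.Away (φ f)) (φ f) hu).comp
      (algebraMap (HomogeneousLocalization.Away ℬ (φ f)) (Localization.Away (φ f)))).comp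
      (HomogeneousLocalization.Away.map φ f) =
      algebraMap (HomogeneousLocalization.Away 𝒜 f) (Localization.Away f) := by
  refine RingHom.ext fun q => ?_
  obtain ⟨n, x, hx, rfl⟩ := HomogeneousLocalization.Away.mk_surjective 𝒜 hf q
  rw [RingHom.comp_apply, RingHom.comp_apply, HomogeneousLocalization.Away.map_mk,
    HomogeneousLocalization.algebraMap_apply, HomogeneousLocalization.algebraMap_apply,
    HomogeneousLocalization.Away.val_mk, HomogeneousLocalization.Away.val_mk]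
  have hunit : IsUnit (algebraMap A (Localization.Away f) (f ^ n)) := by
    rw [map_pow]; exact (IsLocalization.Away.algebraMap_isUnit f).pow n
  refine hunit.mul_right_inj.mp ?_
  have hρn : ρ (φ f ^ n) = algebraMap A (Localization.Away f) (f ^ n) := by
    rw [map_pow ρ, hρ]; exact (map_pow _ _ _).symm
  have e1 : algebraMap A (Localization.Away f) (f ^ n) *
      Localization.mk x (⟨f ^ n, n, rfl⟩ : Submonoid.powers f) =
      algebraMap A (Localization.Away f) x := by
    rw [Localization.mk_eq_mk']; exact IsLocalization.mk'_spec'_mk _ _ _ _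
  have e2 : algebraMap B (Localization.Away (φ f)) (φ f ^ n) *
      Localization.mk (φ x) (⟨φ f ^ n, n, rfl⟩ : Submonoid.powers (φ f)) =
      algebraMap B (Localization.Away (φ f)) (φ x) := by
    rw [Localization.mk_eq_mk']; exact IsLocalization.mk'_spec'_mk _ _ _ _
  have e3 := congrArg (IsLocalization.Away.lift (S := Localization.Away (φ f)) (φ f) hu) e2
  rw [map_mul, IsLocalization.Away.lift_eq, IsLocalization.Away.lift_eq, hρn, hρ] at e3
  exact e3.trans e1.symm

end Ring

section Cone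
variable {Y PC P : Scheme.{u}} {𝒮 𝒮h : RelProj.QCGrAlg Y} {ι : 𝒮.toQCAlg ⟶ 𝒮h.toQCAlg}
  {z : 𝒮h.presheaf.obj (op ⊤)} (h : RelCone.IsPolyOver 𝒮 𝒮h ι z)
  (pC : PC ⟶ Y)
  (chartC : ∀ (U : Y.Opens) (hU : IsAffineOpen U),
    (((pC ⁻¹ᵁ U : PC.Opens) : Scheme.{u}) ≅ Proj (𝒮h.deg U hU)))
  (p : P ⟶ Y)
  (chart : ∀ (U : Y.Opens) (hU : IsAffineOpen U),
    (((p ⁻¹ᵁ U : P.Opens) : Scheme.{u}) ≅ Proj (𝒮.deg U hU)))
  (hPC : RelProj.IsRelProj 𝒮h pC chartC) (hP : RelProj.IsRelProj 𝒮 p chart)
  (U : Y.Opens) (hU : IsAffineOpen U) {d : ℕ} (hd : 0 < d) (f : 𝒮.presheaf.obj (op U))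
  (hf : f ∈ 𝒮.deg U hU d)

/-- `𝒮h(U) → 𝒮(U) → 𝒮(U)_f`, "set `z = 1`" then localize -/
noncomputable def psiF : 𝒮h.presheaf.obj (op U) →+* Localization.Away f :=
  (algebraMap (𝒮.presheaf.obj (op U)) (Localization.Away f)).comp (h.evalOne U hU)

theorem psiF_ι (a : 𝒮.presheaf.obj (op U)) :
    psiF h U hU f ((RelProj.gradedHomAt ι h.graded U hU) a) =
      algebraMap (𝒮.presheaf.obj (op U)) (Localization.Away f) a := by
  have e : h.evalOne U hU ((RelProj.gradedHomAt ι h.graded U hU) a) = a := h.evalOne_ι U hU a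
  rw [psiF, RingHom.comp_apply, e]

theorem isUnit_psiF_z : IsUnit (psiF h U hU f (RelCone.restrictTop 𝒮h z U)) := by
  rw [psiF, RingHom.comp_apply, h.evalOne_z, map_one]
  exact isUnit_one

theorem isUnit_psiF_f : IsUnit (psiF h U hU f ((RelProj.gradedHomAt ι h.graded U hU) f)) := by
  rw [psiF_ι]
  exact IsLocalization.Away.algebraMap_isUnit f

/-- `𝒮h(U)_(ι f) → 𝒮(U)_f` -/
noncomputable def betaU :
    HomogeneousLocalization.Away (𝒮h.deg U hU) ((RelProj.gradedHomAt ι h.graded U hU) f) →+*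
      Localization.Away f :=
  (IsLocalization.Away.lift (S := Localization.Away ((RelProj.gradedHomAt ι h.graded U hU) f))
    ((RelProj.gradedHomAt ι h.graded U hU) f) (isUnit_psiF_f h U hU f)).comp
    (algebraMap (HomogeneousLocalization.Away (𝒮h.deg U hU)
      ((RelProj.gradedHomAt ι h.graded U hU) f))
      (Localization.Away ((RelProj.gradedHomAt ι h.graded U hU) f)))

include hf in
theorem betaU_comp_map :
    (betaU h U hU f).comp
      (HomogeneousLocalization.Away.map (RelProj.gradedHomAt ι h.graded U hU) f) =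
      algebraMap (HomogeneousLocalization.Away (𝒮.deg U hU) f) (Localization.Away f) :=
  lift_map_mk (𝒮h.deg U hU) (𝒮.deg U hU) (RelProj.gradedHomAt ι h.graded U hU) hf
    (psiF h U hU f) (psiF_ι h U hU f) (isUnit_psiF_f h U hU f)

theorem algf_comp_awayZToBase :
    (algebraMap (𝒮.presheaf.obj (op U)) (Localization.Away f)).comp (h.awayZToBase U hU) =
      (IsLocalization.Away.lift (S := Localization.Away (RelCone.restrictTop 𝒮h z U))
        (RelCone.restrictTop 𝒮h z U) (isUnit_psiF_z h U hU f)).comp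
        (algebraMap (HomogeneousLocalization.Away (𝒮h.deg U hU) (RelCone.restrictTop 𝒮h z U))
          (Localization.Away (RelCone.restrictTop 𝒮h z U))) := by
  have key : ∀ hev : IsUnit (h.evalOne U hU (RelCone.restrictTop 𝒮h z U)),
      (algebraMap (𝒮.presheaf.obj (op U)) (Localization.Away f)).comp
        (IsLocalization.Away.lift (S := Localization.Away (RelCone.restrictTop 𝒮h z U))
          (RelCone.restrictTop 𝒮h z U) hev) =
      IsLocalization.Away.lift (S := Localization.Away (RelCone.restrictTop 𝒮h z U))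
        (RelCone.restrictTop 𝒮h z U) (isUnit_psiF_z h U hU f) := by
    intro hev
    refine IsLocalization.ringHom_ext (Submonoid.powers (RelCone.restrictTop 𝒮h z U))
      (RingHom.ext fun a => ?_)
    simp only [RingHom.comp_apply]
    rw [IsLocalization.Away.lift_eq, IsLocalization.Away.lift_eq]
    rfl
  unfold RelCone.IsPolyOver.awayZToBase
  rw [← RingHom.comp_assoc, key]

include hf in
theorem star :
    Spec.map (CommRingCat.ofHom (algebraMap (𝒮.presheaf.obj (op U)) (Localization.Away f))) ≫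
        RelCone3.jU h U hU =
      Spec.map (CommRingCat.ofHom (betaU h U hU f)) ≫
        Proj.awayι (𝒮h.deg U hU) ((RelProj.gradedHomAt ι h.graded U hU) f)
          ((RelProj.gradedHomAt ι h.graded U hU).2 hf) hd := by
  have e1 : Spec.map (CommRingCat.ofHom
        (algebraMap (𝒮.presheaf.obj (op U)) (Localization.Away f))) ≫
      Spec.map (CommRingCat.ofHom (h.awayZToBase U hU)) =
      Spec.map (CommRingCat.ofHom
        ((IsLocalization.Away.lift (S := Localization.Away (RelCone.restrictTop 𝒮h z U))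
          (RelCone.restrictTop 𝒮h z U) (isUnit_psiF_z h U hU f)).comp
        (algebraMap (HomogeneousLocalization.Away (𝒮h.deg U hU) (RelCone.restrictTop 𝒮h z U))
          (Localization.Away (RelCone.restrictTop 𝒮h z U))))) := by
    rw [← Spec.map_comp, ← CommRingCat.ofHom_comp, algf_comp_awayZToBase]
  rw [RelCone3.jU, reassoc_of% e1]
  exact beta_awayι_eq (𝒮h.deg U hU) one_pos hd (h.deg_z U hU)
    ((RelProj.gradedHomAt ι h.graded U hU).2 hf) (psiF h U hU f) (isUnit_psiF_z h U hU f)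
    (isUnit_psiF_f h U hU f)

include hd hf in
theorem range_cE_subset :
    Set.range (Spec.map (CommRingCat.ofHom
      (algebraMap (𝒮.presheaf.obj (op U)) (Localization.Away f))) ≫ 𝒮.toQCAlg.ι U hU).base ⊆
      Set.range (RelCone.pointedCone 𝒮).ι.base := by
  rw [Scheme.Opens.range_ι]
  rintro _ ⟨y, rfl⟩
  have hmem : 𝒮.toQCAlg.ι U hU (Spec.map (CommRingCat.ofHom
      (algebraMap (𝒮.presheaf.obj (op U)) (Localization.Away f))) y) ∈ RelCone.pointedCone 𝒮 := by
    rw [RelCone2.mem_pointedCone_ι_iff]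
    unfold RelCone2.Q
    exact ⟨f, HomogeneousIdeal.mem_irrelevant_of_mem _ hd hf,
      (ConeRetr.mem_range_SpecMap_iff f _).mp ⟨y, rfl⟩⟩
  exact hmem

/-- the standard chart of the pointed affine cone -/
noncomputable def cE : Spec (CommRingCat.of (Localization.Away f)) ⟶
    ((RelCone.pointedCone 𝒮 : 𝒮.toQCAlg.spec.Opens) : Scheme.{u}) :=
  IsOpenImmersion.lift (RelCone.pointedCone 𝒮).ι _ (range_cE_subset U hU hd f hf)

theorem cE_ι : cE U hU hd f hf ≫ (RelCone.pointedCone 𝒮).ι =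
    Spec.map (CommRingCat.ofHom (algebraMap (𝒮.presheaf.obj (op U)) (Localization.Away f))) ≫
      𝒮.toQCAlg.ι U hU :=
  IsOpenImmersion.lift_fac _ _ _

instance isOpenImmersion_cE : IsOpenImmersion (cE U hU hd f hf) := by
  have : IsOpenImmersion (cE U hU hd f hf ≫ (RelCone.pointedCone 𝒮).ι) := by
    rw [cE_ι]; infer_instance
  exact IsOpenImmersion.of_comp _ (RelCone.pointedCone 𝒮).ι

variable (r : ((RelCone.pointedProjCone 𝒮 h pC chartC : PC.Opens) : Scheme.{u}) ⟶ P)
  (hr : ProjQ.CP ι h.graded p chart pC chartC (RelCone.pointedProjCone 𝒮 h pC chartC) r)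
  (i : 𝒮.toQCAlg.spec ⟶ PC) (hi : RelCone.IsConeImm 𝒮 h pC chartC i)
  (i' : ((RelCone.pointedCone 𝒮 : 𝒮.toQCAlg.spec.Opens) : Scheme.{u}) ⟶
    ((RelCone.pointedProjCone 𝒮 h pC chartC : PC.Opens) : Scheme.{u}))
  (hi' : i' ≫ (RelCone.pointedProjCone 𝒮 h pC chartC).ι = (RelCone.pointedCone 𝒮).ι ≫ i)

include hi hi' in
theorem cE_comp : cE U hU hd f hf ≫ i' =
    Spec.map (CommRingCat.ofHom (betaU h U hU f)) ≫
      ConeFibA.cHat h pC chartC U hU hd f hf := by
  have hiU : 𝒮.toQCAlg.ι U hU ≫ i = RelCone3.jU h U hU ≫ RelProj.emb pC chartC U hU := by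
    rw [hi U hU, RelCone3.jU, Category.assoc]
  rw [← cancel_mono (RelCone.pointedProjCone 𝒮 h pC chartC).ι]
  calc (cE U hU hd f hf ≫ i') ≫ (RelCone.pointedProjCone 𝒮 h pC chartC).ι
      = cE U hU hd f hf ≫ (RelCone.pointedCone 𝒮).ι ≫ i := by rw [Category.assoc, hi']
    _ = (Spec.map (CommRingCat.ofHom
          (algebraMap (𝒮.presheaf.obj (op U)) (Localization.Away f))) ≫ RelCone3.jU h U hU) ≫
          RelProj.emb pC chartC U hU := by
        rw [← Category.assoc, cE_ι, Category.assoc, hiU, Category.assoc]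
    _ = (Spec.map (CommRingCat.ofHom (betaU h U hU f)) ≫
          Proj.awayι (𝒮h.deg U hU) ((RelProj.gradedHomAt ι h.graded U hU) f)
            ((RelProj.gradedHomAt ι h.graded U hU).2 hf) hd) ≫
          RelProj.emb pC chartC U hU := by rw [star h U hU hd f hf]
    _ = (Spec.map (CommRingCat.ofHom (betaU h U hU f)) ≫
          ConeFibA.cHat h pC chartC U hU hd f hf) ≫
          (RelCone.pointedProjCone 𝒮 h pC chartC).ι := by
        rw [Category.assoc, Category.assoc, ConeFibA.cHat_ι]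

include hr hi hi' in
theorem cE_pi : cE U hU hd f hf ≫ i' ≫ r =
    Spec.map (CommRingCat.ofHom (algebraMap (HomogeneousLocalization.Away (𝒮.deg U hU) f)
      (Localization.Away f))) ≫
      Proj.awayι (𝒮.deg U hU) f hf hd ≫ RelProj.emb p chart U hU := by
  rw [← Category.assoc, cE_comp h pC chartC U hU hd f hf i hi i' hi', Category.assoc,
    ConeFibA.cHat_r h pC chartC p chart U hU hd f hf r hr, ← Spec.map_comp_assoc,
    ← CommRingCat.ofHom_comp, betaU_comp_map h U hU f hf]

include hPC hP hr hi hi' in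
theorem preimage_cE :
    (i' ≫ r) ⁻¹ᵁ (Proj.awayι (𝒮.deg U hU) f hf hd ≫ RelProj.emb p chart U hU).opensRange =
      (cE U hU hd f hf).opensRange := by
  have h1 : ∀ e : ((RelCone.pointedCone 𝒮 : 𝒮.toQCAlg.spec.Opens) : Scheme.{u}),
      e ∈ (i' ≫ r) ⁻¹ᵁ
          (Proj.awayι (𝒮.deg U hU) f hf hd ≫ RelProj.emb p chart U hU).opensRange ↔
        i' e ∈ (ConeFibA.cHat h pC chartC U hU hd f hf).opensRange := by
    intro e
    rw [← ConeFibA.preimage_cHat h pC chartC p chart hPC hP U hU hd f hf r hr]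
    rfl
  have hcomp := cE_comp h pC chartC U hU hd f hf i hi i' hi'
  ext e
  refine (h1 e).trans ?_
  constructor
  · rintro ⟨a, ha⟩
    have ha' : ConeFibA.cHat h pC chartC U hU hd f hf a = i' e := ha
    have hA1 : (RelCone.pointedProjCone 𝒮 h pC chartC).ι
        (ConeFibA.cHat h pC chartC U hU hd f hf a) =
        RelProj.emb pC chartC U hU (Proj.awayι (𝒮h.deg U hU)
          ((RelProj.gradedHomAt ι h.graded U hU) f)
          ((RelProj.gradedHomAt ι h.graded U hU).2 hf) hd a) := by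
      rw [← Scheme.Hom.comp_apply, ConeFibA.cHat_ι]
      rfl
    have hA2 : (RelCone.pointedProjCone 𝒮 h pC chartC).ι (i' e) =
        i ((RelCone.pointedCone 𝒮).ι e) := by
      rw [← Scheme.Hom.comp_apply, hi']
      rfl
    have h2 : i ((RelCone.pointedCone 𝒮).ι e) =
        RelProj.emb pC chartC U hU (Proj.awayι (𝒮h.deg U hU)
          ((RelProj.gradedHomAt ι h.graded U hU) f)
          ((RelProj.gradedHomAt ι h.graded U hU).2 hf) hd a) := by
      rw [← hA2, ← ha', hA1]
    have h3 : 𝒮.toQCAlg.π ((RelCone.pointedCone 𝒮).ι e) ∈ U := by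
      rw [← RelCone3.coneImm_comp h hPC i hi, Scheme.Hom.comp_apply, h2]
      have : RelProj.emb pC chartC U hU (Proj.awayι (𝒮h.deg U hU)
          ((RelProj.gradedHomAt ι h.graded U hU) f)
          ((RelProj.gradedHomAt ι h.graded U hU).2 hf) hd a) ∈
          Set.range (RelProj.emb pC chartC U hU) := ⟨_, rfl⟩
      rw [RelCone3.range_emb] at this
      exact this
    obtain ⟨w, hw⟩ := RelSpecMap.mem_range_ι 𝒮.toQCAlg U hU _ h3
    have h4 := RelCone3.coneImm_ι h U hU i hi w
    rw [hw, h2] at h4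
    have h5 := (RelProj.emb pC chartC U hU).isOpenEmbedding.injective h4
    have h6 : (RelProj.gradedHomAt ι h.graded U hU) f ∉
        (RelCone3.jU h U hU w).asHomogeneousIdeal :=
      (RelCone3.mem_range_awayι_iff (𝒮h.deg U hU) ((RelProj.gradedHomAt ι h.graded U hU).2 hf)
        hd _).mp ⟨a, h5⟩
    have h7 : f ∉ w.asIdeal := fun hmem => h6 ((RelCone3.mem_jU_iff h U hU hd f hf w).mpr hmem)
    obtain ⟨y, hy⟩ := (ConeRetr.mem_range_SpecMap_iff f w).mpr h7
    refine ⟨y, ?_⟩
    apply (RelCone.pointedCone 𝒮).ι.isOpenEmbedding.injective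
    rw [← Scheme.Hom.comp_apply, cE_ι, Scheme.Hom.comp_apply, hy, hw]
  · rintro ⟨y, rfl⟩
    refine ⟨Spec.map (CommRingCat.ofHom (betaU h U hU f)) y, ?_⟩
    rw [← Scheme.Hom.comp_apply, ← Scheme.Hom.comp_apply, hcomp]

end Cone

section MainB
variable {Y PC P : Scheme.{u}} {𝒮 𝒮h : RelProj.QCGrAlg Y} {ι : 𝒮.toQCAlg ⟶ 𝒮h.toQCAlg}
  {z : 𝒮h.presheaf.obj (op ⊤)} (h : RelCone.IsPolyOver 𝒮 𝒮h ι z)
  (pC : PC ⟶ Y)
  (chartC : ∀ (U : Y.Opens) (hU : IsAffineOpen U),
    (((pC ⁻¹ᵁ U : PC.Opens) : Scheme.{u}) ≅ Proj (𝒮h.deg U hU)))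
  (p : P ⟶ Y)
  (chart : ∀ (U : Y.Opens) (hU : IsAffineOpen U),
    (((p ⁻¹ᵁ U : P.Opens) : Scheme.{u}) ≅ Proj (𝒮.deg U hU)))
  (hPC : RelProj.IsRelProj 𝒮h pC chartC) (hP : RelProj.IsRelProj 𝒮 p chart)
  (r : ((RelCone.pointedProjCone 𝒮 h pC chartC : PC.Opens) : Scheme.{u}) ⟶ P)
  (hr : ProjQ.CP ι h.graded p chart pC chartC (RelCone.pointedProjCone 𝒮 h pC chartC) r)
  (i : 𝒮.toQCAlg.spec ⟶ PC) (hi : RelCone.IsConeImm 𝒮 h pC chartC i)
  (i' : ((RelCone.pointedCone 𝒮 : 𝒮.toQCAlg.spec.Opens) : Scheme.{u}) ⟶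
    ((RelCone.pointedProjCone 𝒮 h pC chartC : PC.Opens) : Scheme.{u}))
  (hi' : i' ≫ (RelCone.pointedProjCone 𝒮 h pC chartC).ι = (RelCone.pointedCone 𝒮).ι ≫ i)

include hPC hP hr hi hi' in
theorem partB (hgen : 𝒮.IsGenDegOne) :
    LocallyOfFiniteType (i' ≫ r) ∧
      ∀ x : P, ∃ e : pullback (i' ≫ r) (P.fromSpecResidueField x) ≅
          Spec (CommRingCat.of (LaurentPolynomial (P.residueField x))),
        e.hom ≫ Spec.map (CommRingCat.ofHom (algebraMap (P.residueField x)
          (LaurentPolynomial (P.residueField x)))) =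
          pullback.snd (i' ≫ r) (P.fromSpecResidueField x) := by
  refine ConeFibA.assemble (i' ≫ r) (fun κ => CommRingCat.of (LaurentPolynomial κ))
    (fun κ => CommRingCat.ofHom (algebraMap κ (LaurentPolynomial κ))) fun x => ?_
  obtain ⟨U, hU, f, hf, hx⟩ := ConeFibA.exists_chart_of_point p chart hgen x
  have hft : (algebraMap (HomogeneousLocalization.Away (𝒮.deg U hU) f)
      (Localization.Away f)).FiniteType := by
    rw [← GrLocLaurent.Phi_comp_C (𝒮.deg U hU) (f := f)]
    refine RingHom.FiniteType.comp (RingHom.FiniteType.of_surjective _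
      (GrLocLaurent.Phi_surjective (𝒮.deg U hU) hf)) ?_
    have : Algebra.FiniteType (HomogeneousLocalization.Away (𝒮.deg U hU) f)
      (LaurentPolynomial (HomogeneousLocalization.Away (𝒮.deg U hU) f)) := inferInstance
    exact RingHom.finiteType_algebraMap.2 this
  exact ⟨_, _, Proj.awayι (𝒮.deg U hU) f hf one_pos ≫ RelProj.emb p chart U hU,
    cE U hU one_pos f hf,
    CommRingCat.ofHom (algebraMap (HomogeneousLocalization.Away (𝒮.deg U hU) f)
      (Localization.Away f)),
    inferInstance, inferInstance, hx,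
    cE_pi h pC chartC p chart U hU one_pos f hf r hr i hi i' hi',
    preimage_cE h pC chartC p chart hPC hP U hU one_pos f hf r hr i hi i' hi',
    hft,
    fun κ χ => ConeFibre.isPushout_laurent _
      (RingEquiv.ofBijective (GrLocLaurent.Phi (𝒮.deg U hU) (f := f))
        (GrLocLaurent.Phi_bijective (𝒮.deg U hU) hf))
      (GrLocLaurent.Phi_comp_C (𝒮.deg U hU)) κ χ⟩

end MainB

end Groth.Agent.Helper1.ConeFibB
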