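import Mathlib
import Groth.Prelude.Def_RelProj4
import Groth.Agent.Lib.Helper1.ProjQ12
import Groth.Agent.Lib.Helper1.RelCone7

/-!
# Functoriality of the projective cone in a graded `q`-morphism (helper1 library)
-/

universe u

open CategoryTheory CategoryTheory.Limits AlgebraicGeometry TopologicalSpace Opposite
open scoped HomogeneousIdeal
open HomogeneousLocalization

namespace Groth.Agent.Helper1.ConeFun

open ProjQ RelCone3

section Ring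
variable {A Ah A' Ah' σ σh σ' σh' : Type u}
  [CommRing A] [SetLike σ A] [AddSubgroupClass σ A] {𝒜 : ℕ → σ} [GradedRing 𝒜]
  [CommRing Ah] [SetLike σh Ah] [AddSubgroupClass σh Ah] {𝒜h : ℕ → σh} [GradedRing 𝒜h]
  [CommRing A'] [SetLike σ' A'] [AddSubgroupClass σ' A'] {𝒜' : ℕ → σ'} [GradedRing 𝒜']
  [CommRing Ah'] [SetLike σh' Ah'] [AddSubgroupClass σh' Ah'] {𝒜h' : ℕ → σh'} [GradedRing 𝒜h']
  (ι : 𝒜 →+*ᵍ 𝒜h) (ι' : 𝒜' →+*ᵍ 𝒜h') (ψ : 𝒜 →+*ᵍ 𝒜') (ψh : 𝒜h →+*ᵍ 𝒜h')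
  (hcomm : ψh.comp ι = ι'.comp ψ)
  (z : Ah) (hz : z ∈ 𝒜h 1) (z' : Ah') (hψz : ψh z = z')

include hz hψz in
theorem mem_domOpen_of_z (y : Proj 𝒜h') (hy : z' ∉ y.asHomogeneousIdeal) :
    y ∈ RelCone.domOpen ψh := by
  rw [mem_domOpen_iff]
  refine ⟨⟨1, one_pos, z, hz⟩, ?_⟩
  rw [Proj.mem_basicOpen]
  show ψh z ∉ y.asHomogeneousIdeal
  rw [hψz]
  exact hy

include hcomm hz hψz in
theorem domOpen_hat_eq_top
    (hirr : ∀ y : Proj 𝒜h', z' ∈ y.asHomogeneousIdeal → y ∈ RelCone.domOpen ι')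
    (h : RelCone.domOpen ψ = ⊤) : RelCone.domOpen ψh = ⊤ := by
  refine eq_top_iff.mpr fun y _ => ?_
  by_cases hy : z' ∈ y.asHomogeneousIdeal
  · have hy' := hirr y hy
    have h1 : dmap ι' ⟨y, hy'⟩ ∈ RelCone.domOpen ψ := by rw [h]; trivial
    have h2 := (dmap_mem_domOpen_iff ι' ψ ⟨y, hy'⟩).mp h1
    rw [← hcomm] at h2
    exact domOpen_comp_le ψh ι h2
  · exact mem_domOpen_of_z ψh z hz z' hψz y hy

end Ring

section Cone
variable {Y Y' PC PC' : Scheme.{u}} {q : Y' ⟶ Y}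
  {𝒮 : RelProj.QCGrAlg Y} {𝒮' : RelProj.QCGrAlg Y'}
  (u : RelProj.QGrHom q 𝒮 𝒮')
  {𝒮h : RelProj.QCGrAlg Y} {ι : 𝒮.toQCAlg ⟶ 𝒮h.toQCAlg} {z : 𝒮h.presheaf.obj (op ⊤)}
  (hz : RelCone.IsPolyOver 𝒮 𝒮h ι z)
  (pC : PC ⟶ Y)
  (chartC : ∀ (U : Y.Opens) (hU : IsAffineOpen U),
    (((pC ⁻¹ᵁ U : PC.Opens) : Scheme.{u}) ≅ Proj (𝒮h.deg U hU)))
  {𝒮h' : RelProj.QCGrAlg Y'} {ι' : 𝒮'.toQCAlg ⟶ 𝒮h'.toQCAlg} {z' : 𝒮h'.presheaf.obj (op ⊤)}
  (hz' : RelCone.IsPolyOver 𝒮' 𝒮h' ι' z')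
  (pC' : PC' ⟶ Y')
  (chartC' : ∀ (U : Y'.Opens) (hU : IsAffineOpen U),
    (((pC' ⁻¹ᵁ U : PC'.Opens) : Scheme.{u}) ≅ Proj (𝒮h'.deg U hU)))
  (uh : RelProj.QGrHom q 𝒮h 𝒮h')
  (huh : ∀ U : Y.Opens, ι.hom.app (op U) ≫ uh.app U = u.app U ≫ ι'.hom.app (op (q ⁻¹ᵁ U)))
  (huhz : (uh.app ⊤).hom z = RelCone.restrictTop 𝒮h' z' (q ⁻¹ᵁ ⊤))

/-- the common composite `φ̂ ∘ ι = ι' ∘ φ : 𝒮 → q_* 𝒮'[z]` -/
abbrev kap : RelProj.QGrHom q 𝒮 𝒮h' := compHom ι hz.graded uh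

include huh in
theorem gr_kap_pre (π : Pair q) :
    gr (kap hz uh) π =
      (gr (RelProj.QGrHom.ofHom ι' hz'.graded) (diag π.U' π.hU')).comp (gr u π) := by
  ext x
  show (𝒮h'.presheaf.map (homOfLE π.hle).op).hom ((ι.hom.app (op π.U) ≫ uh.app π.U).hom x) =
    (𝒮h'.presheaf.map (homOfLE (le_refl π.U')).op).hom
      ((ι'.hom.app (op π.U')).hom ((𝒮'.presheaf.map (homOfLE π.hle).op).hom ((u.app π.U).hom x)))
  rw [huh π.U]
  have h1 : (homOfLE (le_refl π.U')).op = 𝟙 (op π.U') := Subsingleton.elim _ _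
  rw [h1, 𝒮h'.presheaf.map_id]
  have h2 := ι'.hom.naturality (homOfLE π.hle).op
  exact congr($(h2).hom ((u.app π.U).hom x)).symm

theorem gr_kap_post (π : Pair q) :
    gr (kap hz uh) π =
      (gr uh π).comp (gr (RelProj.QGrHom.ofHom ι hz.graded) (diag π.U π.hU)) :=
  gr_comp_diag uh ι hz.graded (kap hz uh) (fun _ => rfl) π

include huh in
theorem gr_uh_ι (π : Pair q) (a : 𝒮.presheaf.obj (op π.U)) :
    (gr uh π) ((gr (RelProj.QGrHom.ofHom ι hz.graded) (diag π.U π.hU)) a) =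
      (gr (RelProj.QGrHom.ofHom ι' hz'.graded) (diag π.U' π.hU')) ((gr u π) a) := by
  have h1 := DFunLike.congr_fun (gr_kap_post hz uh π) a
  have h2 := DFunLike.congr_fun (gr_kap_pre u hz hz' uh huh π) a
  exact h1.symm.trans h2

include huhz in
theorem gr_uh_z (π : Pair q) :
    (gr uh π) (RelCone.restrictTop 𝒮h z π.U) = RelCone.restrictTop 𝒮h' z' π.U' := by
  show (𝒮h'.presheaf.map (homOfLE π.hle).op).hom
      ((uh.app π.U).hom ((𝒮h.presheaf.map (homOfLE le_top).op).hom z)) =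
    (𝒮h'.presheaf.map (homOfLE le_top).op).hom z'
  have h1 := uh.naturality (le_top : π.U ≤ ⊤)
  have h2 : (uh.app π.U).hom ((𝒮h.presheaf.map (homOfLE le_top).op).hom z) =
      (𝒮h'.presheaf.map (homOfLE (q.preimage_mono (le_top : π.U ≤ ⊤))).op).hom
        ((uh.app ⊤).hom z) := congr($(h1).hom z).symm
  rw [h2, huhz]
  show (𝒮h'.presheaf.map (homOfLE π.hle).op).hom
      ((𝒮h'.presheaf.map (homOfLE (q.preimage_mono (le_top : π.U ≤ ⊤))).op).hom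
        ((𝒮h'.presheaf.map (homOfLE le_top).op).hom z')) = _
  rw [← CommRingCat.comp_apply, ← CommRingCat.comp_apply, ← Functor.map_comp,
    ← Functor.map_comp]
  rfl

theorem mem_domOpen_ι_of_z_mem (U : Y.Opens) (hU : IsAffineOpen U) (y : Proj (𝒮h.deg U hU))
    (hy : RelCone.restrictTop 𝒮h z U ∈ y.asHomogeneousIdeal) :
    y ∈ RelCone.domOpen (gr (RelProj.QGrHom.ofHom ι hz.graded) (diag U hU)) := by
  rw [gr_diag]
  by_contra hx
  rw [RelCone.mem_domOpen] at hx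
  push Not at hx
  apply y.not_irrelevant_le
  have hle := PolyGr.irrelevant_le_span (𝒮.deg U hU) (𝒮h.deg U hU) (ι.hom.app (op U)).hom
    (fun i a ha => hz.graded U hU i a ha) (RelCone.restrictTop 𝒮h z U) (hz.deg_z U hU) (hz.bij U hU)
  have : ((𝒮h.deg U hU)₊).toIdeal ≤ y.asHomogeneousIdeal.toIdeal := by
    refine hle.trans ?_
    rw [Ideal.span_le]
    rintro b (⟨a, ha, rfl⟩ | rfl)
    · exact hx a ha
    · exact hy
  exact this

include hz hz' huh huhz in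
theorem domOpen_uh_eq_top (π : Pair q) (h : RelCone.domOpen (gr u π) = ⊤) :
    RelCone.domOpen (gr uh π) = ⊤ :=
  domOpen_hat_eq_top (gr (RelProj.QGrHom.ofHom ι hz.graded) (diag π.U π.hU))
    (gr (RelProj.QGrHom.ofHom ι' hz'.graded) (diag π.U' π.hU')) (gr u π) (gr uh π)
    ((gr_kap_post hz uh π).symm.trans (gr_kap_pre u hz hz' uh huh π))
    (RelCone.restrictTop 𝒮h z π.U) (hz.deg_z π.U π.hU) (RelCone.restrictTop 𝒮h' z' π.U')
    (gr_uh_z uh huhz π) (mem_domOpen_ι_of_z_mem hz' π.U' π.hU') h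

include hz hz' huh huhz in
theorem domQ_uh_eq_top {P' : Scheme.{u}} (p' : P' ⟶ Y')
    (chart' : ∀ (U : Y'.Opens) (hU : IsAffineOpen U),
      (((p' ⁻¹ᵁ U : P'.Opens) : Scheme.{u}) ≅ Proj (𝒮'.deg U hU)))
    (hP' : RelProj.IsRelProj 𝒮' p' chart')
    (h : RelProj.domQ u p' chart' = ⊤) : RelProj.domQ uh pC' chartC' = ⊤ := by
  refine eq_top_iff.mpr fun x _ => ?_
  obtain ⟨π, y, rfl⟩ := exists_pair_of_point (g := q) pC' chartC' x
  apply image_le_domQ uh pC' chartC' π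
  refine ⟨y, ?_, rfl⟩
  rw [domOpen_uh_eq_top u hz hz' uh huh huhz π
    (domOpen_eq_top_of_domQ_eq_top u p' chart' hP' h π)]
  trivial

/-- `Ê = G(ι)` without a relative Proj of `𝒮` -/
theorem pointedProjCone_eq_domQ' (hC : RelProj.IsRelProj 𝒮h pC chartC) :
    RelCone.pointedProjCone 𝒮 hz pC chartC =
      RelProj.domQ (RelProj.QGrHom.ofHom ι hz.graded) pC chartC := by
  apply le_antisymm
  · refine iSup_le fun U => ?_
    exact image_le_domQ_same ι hz.graded pC chartC U.1 U.2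
  · intro x hx
    obtain ⟨U, (hU : IsAffineOpen U), hxU, -⟩ := Opens.isBasis_iff_nbhd.mp Y.isBasis_affineOpens
      (show pC x ∈ (⊤ : Y.Opens) from trivial)
    have h1 : x ∈ RelProj.domQ (RelProj.QGrHom.ofHom ι hz.graded) pC chartC ⊓ pC ⁻¹ᵁ U :=
      ⟨hx, hxU⟩
    rw [inf_preimage_eq' (RelProj.QGrHom.ofHom ι hz.graded) pC chartC hC (diag U hU),
      gr_diag] at h1
    exact Opens.mem_iSup.mpr ⟨⟨U, hU⟩, h1⟩

end Cone

end Groth.Agent.Helper1.ConeFun
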