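import Mathlib
import Groth.Prelude.Def_RelProj4
import Groth.Agent.Lib.Helper1.ConeFun

/-!
# Compatibility of the retractions of pointed projective cones with `Proj(φ̂)` (helper1 library)
-/

universe u

open CategoryTheory CategoryTheory.Limits AlgebraicGeometry TopologicalSpace Opposite
open scoped HomogeneousIdeal
open HomogeneousLocalization

namespace Groth.Agent.Helper1.ConeFun

open ProjQ RelCone3

section Cone
variable {Y Y' PC PC' P P' : Scheme.{u}} {q : Y' ⟶ Y}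
  {𝒮 : RelProj.QCGrAlg Y} {𝒮' : RelProj.QCGrAlg Y'}
  (u : RelProj.QGrHom q 𝒮 𝒮')
  {𝒮h : RelProj.QCGrAlg Y} {ι : 𝒮.toQCAlg ⟶ 𝒮h.toQCAlg} {z : 𝒮h.presheaf.obj (op ⊤)}
  (hz : RelCone.IsPolyOver 𝒮 𝒮h ι z)
  (pC : PC ⟶ Y)
  (chartC : ∀ (U : Y.Opens) (hU : IsAffineOpen U),
    (((pC ⁻¹ᵁ U : PC.Opens) : Scheme.{u}) ≅ Proj (𝒮h.deg U hU)))
  (hC : RelProj.IsRelProj 𝒮h pC chartC)
  {𝒮h' : RelProj.QCGrAlg Y'} {ι' : 𝒮'.toQCAlg ⟶ 𝒮h'.toQCAlg} {z' : 𝒮h'.presheaf.obj (op ⊤)}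
  (hz' : RelCone.IsPolyOver 𝒮' 𝒮h' ι' z')
  (pC' : PC' ⟶ Y')
  (chartC' : ∀ (U : Y'.Opens) (hU : IsAffineOpen U),
    (((pC' ⁻¹ᵁ U : PC'.Opens) : Scheme.{u}) ≅ Proj (𝒮h'.deg U hU)))
  (hC' : RelProj.IsRelProj 𝒮h' pC' chartC')
  (uh : RelProj.QGrHom q 𝒮h 𝒮h')
  (huh : ∀ U : Y.Opens, ι.hom.app (op U) ≫ uh.app U = u.app U ≫ ι'.hom.app (op (q ⁻¹ᵁ U)))
  (Φh : ((RelProj.domQ uh pC' chartC' : PC'.Opens) : Scheme.{u}) ⟶ PC)
  (hΦh : RelProj.IsProjQMapOn uh pC chartC pC' chartC' (RelProj.domQ uh pC' chartC') Φh)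
  (p : P ⟶ Y)
  (chart : ∀ (U : Y.Opens) (hU : IsAffineOpen U),
    (((p ⁻¹ᵁ U : P.Opens) : Scheme.{u}) ≅ Proj (𝒮.deg U hU)))
  (hP : RelProj.IsRelProj 𝒮 p chart)
  (p' : P' ⟶ Y')
  (chart' : ∀ (U : Y'.Opens) (hU : IsAffineOpen U),
    (((p' ⁻¹ᵁ U : P'.Opens) : Scheme.{u}) ≅ Proj (𝒮'.deg U hU)))
  (hP' : RelProj.IsRelProj 𝒮' p' chart')
  (Φ : ((RelProj.domQ u p' chart' : P'.Opens) : Scheme.{u}) ⟶ P)
  (hΦ : RelProj.IsProjQMapOn u p chart p' chart' (RelProj.domQ u p' chart') Φ)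

include hC hC' hP huh hΦh hΦ in
theorem retr_compat (E : PC.Opens)
    (hE : E = RelProj.domQ (RelProj.QGrHom.ofHom ι hz.graded) pC chartC)
    (r : (E : Scheme.{u}) ⟶ P)
    (hr : RelProj.IsProjQMapOn (RelProj.QGrHom.ofHom ι hz.graded) p chart pC chartC E r)
    (E' : PC'.Opens)
    (hE' : E' = RelProj.domQ (RelProj.QGrHom.ofHom ι' hz'.graded) pC' chartC')
    (r' : (E' : Scheme.{u}) ⟶ P')
    (hr' : RelProj.IsProjQMapOn (RelProj.QGrHom.ofHom ι' hz'.graded) p' chart' pC' chartC' E' r')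
    (T : Scheme.{u}) (a : T ⟶ (E' : Scheme.{u}))
    (b : T ⟶ ((RelProj.domQ uh pC' chartC' : PC'.Opens) : Scheme.{u}))
    (c : T ⟶ (E : Scheme.{u}))
    (hab : a ≫ E'.ι = b ≫ (RelProj.domQ uh pC' chartC').ι) (hbc : b ≫ Φh = c ≫ E.ι) :
    Set.range (a ≫ r').base ⊆ ((RelProj.domQ u p' chart' : P'.Opens) : Set P') ∧
      ∀ d : T ⟶ ((RelProj.domQ u p' chart' : P'.Opens) : Scheme.{u}),
        a ≫ r' = d ≫ (RelProj.domQ u p' chart').ι → c ≫ r = d ≫ Φ := by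
  subst hE hE'
  have hκ := gr_kap_pre u hz hz' uh huh
  have hpost := compHom_app ι hz.graded uh
  obtain ⟨Φκ, hΦκ, -⟩ := existsUnique_isProjQMapOn (kap hz uh) p chart pC' chartC' hP hC' _ rfl
  -- the points of `T` land in `G(κ)`
  have hrange : Set.range (b ≫ (RelProj.domQ uh pC' chartC').ι).base ⊆
      Set.range (RelProj.domQ (kap hz uh) pC' chartC').ι.base := by
    rw [Scheme.Opens.range_ι]
    rintro _ ⟨t, rfl⟩
    have h1 : Φh (b t) ∈ RelProj.domQ (RelProj.QGrHom.ofHom ι hz.graded) pC chartC := by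
      have : Φh (b t) = (RelProj.domQ (RelProj.QGrHom.ofHom ι hz.graded) pC chartC).ι (c t) := by
        rw [← Scheme.Hom.comp_apply, ← Scheme.Hom.comp_apply, hbc]
      rw [this]
      exact (c t).2
    exact mem_domQ_comp' uh ι hz.graded (kap hz uh) hpost pC chartC pC' chartC' hC Φh hΦh (b t) h1
  let e : T ⟶ ((RelProj.domQ (kap hz uh) pC' chartC' : PC'.Opens) : Scheme.{u}) :=
    IsOpenImmersion.lift (RelProj.domQ (kap hz uh) pC' chartC').ι
      (b ≫ (RelProj.domQ uh pC' chartC').ι) hrange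
  have he : e ≫ (RelProj.domQ (kap hz uh) pC' chartC').ι = b ≫ (RelProj.domQ uh pC' chartC').ι :=
    IsOpenImmersion.lift_fac _ _ _
  have hea : e ≫ PC'.homOfLE (domQ_pre_le u ι' hz'.graded (kap hz uh) hκ pC' chartC') = a := by
    refine (cancel_mono (RelProj.domQ (RelProj.QGrHom.ofHom ι' hz'.graded) pC' chartC').ι).mp ?_
    rw [Category.assoc, Scheme.homOfLE_ι, he, hab]
  have heb : e ≫ PC'.homOfLE (domQ_comp_le uh pC' chartC' ι hz.graded (kap hz uh) hpost) = b := by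
    refine (cancel_mono (RelProj.domQ uh pC' chartC').ι).mp ?_
    rw [Category.assoc, Scheme.homOfLE_ι, he]
  have hpre := range_pre_subset u ι' hz'.graded (kap hz uh) hκ p' chart' pC' chartC' r' hr'
  have hfpre := functoriality_pre u ι' hz'.graded (kap hz uh) hκ p chart p' chart' pC' chartC'
    Φ hΦ r' hr' Φκ hΦκ
  have hfpost := functoriality uh ι hz.graded (kap hz uh) hpost pC chartC pC' chartC' p chart
    Φh hΦh Φκ hΦκ r hr
  refine ⟨?_, fun d hd => ?_⟩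
  · rw [← hea, Category.assoc]
    rintro _ ⟨t, rfl⟩
    have := hpre ⟨e t, rfl⟩
    rw [Scheme.Opens.range_ι] at this
    exact this
  · have hc : c = e ≫ IsOpenImmersion.lift
        (RelProj.domQ (RelProj.QGrHom.ofHom ι hz.graded) pC chartC).ι
        (PC'.homOfLE (domQ_comp_le uh pC' chartC' ι hz.graded (kap hz uh) hpost) ≫ Φh)
        (range_comp_subset uh ι hz.graded (kap hz uh) hpost pC chartC pC' chartC' Φh hΦh) := by
      refine (cancel_mono (RelProj.domQ (RelProj.QGrHom.ofHom ι hz.graded) pC chartC).ι).mp ?_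
      rw [Category.assoc, IsOpenImmersion.lift_fac, ← Category.assoc, heb, hbc]
    have hd' : d = e ≫ IsOpenImmersion.lift (RelProj.domQ u p' chart').ι
        (PC'.homOfLE (domQ_pre_le u ι' hz'.graded (kap hz uh) hκ pC' chartC') ≫ r') hpre := by
      refine (cancel_mono (RelProj.domQ u p' chart').ι).mp ?_
      rw [Category.assoc, IsOpenImmersion.lift_fac, ← Category.assoc, hea, hd]
    rw [hc, hd', Category.assoc, Category.assoc, hfpost, hfpre]

end Cone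

end Groth.Agent.Helper1.ConeFun
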