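import Groth.Agent.Lib.Helper1.RelCone3

/-!
# Projective cones: the locus at infinity (helper1 library)
-/

universe u

open CategoryTheory CategoryTheory.Limits AlgebraicGeometry TopologicalSpace Opposite Polynomial
open scoped HomogeneousIdeal

namespace Groth.Agent.Helper1.RelCone4

section Ring
variable {A B : Type*} [CommRing A] [CommRing B] (𝒜 : ℕ → AddSubgroup A) (ℬ : ℕ → AddSubgroup B)
  [GradedRing 𝒜] [GradedRing ℬ] (ιg : 𝒜 →+*ᵍ ℬ) (θg : ℬ →+*ᵍ 𝒜)
  (z : B) (hz : z ∈ ℬ 1)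

theorem sub_mem_span (hbij : Function.Bijective (eval₂RingHom (ιg : A →+* B) z))
    (hθι : ∀ a, θg (ιg a) = a) (hθz : θg z = 0) (b : B) :
    b - ιg (θg b) ∈ Ideal.span {z} := by
  obtain ⟨p, rfl⟩ := hbij.2 b
  have h1 : θg (eval₂ (ιg : A →+* B) z p) = p.coeff 0 := by
    have := Polynomial.hom_eval₂ p (ιg : A →+* B) (θg : B →+* A) z
    have e : ((θg : B →+* A).comp (ιg : A →+* B)) = RingHom.id A := RingHom.ext hθι
    have hz' : (θg : B →+* A) z = 0 := hθz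
    rw [e, hz', eval₂_at_zero] at this
    exact this
  show eval₂ (ιg : A →+* B) z p - ιg (θg (eval₂ (ιg : A →+* B) z p)) ∈ _
  rw [h1]
  have h2 : eval₂ (ιg : A →+* B) z p = eval₂ (ιg : A →+* B) z p.divX * z + ιg (p.coeff 0) := by
    conv_lhs => rw [← divX_mul_X_add p]
    rw [eval₂_add, eval₂_mul, eval₂_X, eval₂_C]
    rfl
  have : eval₂ (ιg : A →+* B) z p - ιg (p.coeff 0) = eval₂ (ιg : A →+* B) z p.divX * z := by
    rw [h2]; ring
  rw [this]
  exact Ideal.mul_mem_left _ _ (Ideal.subset_span rfl)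

include hz in
theorem exists_comap_eq (hbij : Function.Bijective (eval₂RingHom (ιg : A →+* B) z))
    (hθι : ∀ a, θg (ιg a) = a) (hθz : θg z = 0) (hirr : (𝒜)₊ ≤ ((ℬ)₊).map θg)
    (x : ProjectiveSpectrum ℬ) (hzx : z ∈ x.asHomogeneousIdeal) :
    ∃ x' : ProjectiveSpectrum 𝒜, ProjectiveSpectrum.comap θg hirr x' = x := by
  have hnot : ¬ (𝒜)₊ ≤ x.asHomogeneousIdeal.comap ιg := by
    intro hle
    apply x.not_irrelevant_le
    have hspan := PolyGr.irrelevant_le_span 𝒜 ℬ (ιg : A →+* B) (fun i a ha => ιg.map_mem ha) z hz hbij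
    have : ((ℬ)₊).toIdeal ≤ x.asHomogeneousIdeal.toIdeal := by
      refine hspan.trans ?_
      rw [Ideal.span_le]
      rintro b (⟨a, ha, rfl⟩ | rfl)
      · exact hle ha
      · exact hzx
    exact this
  refine ⟨⟨x.asHomogeneousIdeal.comap ιg, x.isPrime.comap ιg, hnot⟩, ?_⟩
  apply ProjectiveSpectrum.ext
  apply HomogeneousIdeal.ext
  ext b
  show ιg (θg b) ∈ x.asHomogeneousIdeal ↔ b ∈ x.asHomogeneousIdeal
  have hmem : b - ιg (θg b) ∈ x.asHomogeneousIdeal.toIdeal := by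
    have h1 := sub_mem_span 𝒜 ℬ ιg θg z hbij hθι hθz b
    have h2 : Ideal.span {z} ≤ x.asHomogeneousIdeal.toIdeal := by
      rw [Ideal.span_le, Set.singleton_subset_iff]; exact hzx
    exact h2 h1
  constructor
  · intro hh
    have hh' : ιg (θg b) ∈ x.asHomogeneousIdeal.toIdeal := hh
    have := add_mem hmem hh'
    rwa [sub_add_cancel] at this
  · intro hh
    have hh' : b ∈ x.asHomogeneousIdeal.toIdeal := hh
    have := sub_mem hh' hmem
    rwa [sub_sub_cancel] at this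

end Ring

section Rel
variable {Y : Scheme.{u}} {𝒮 𝒮h : RelProj.QCGrAlg Y} {ι : 𝒮.toQCAlg ⟶ 𝒮h.toQCAlg}
  {z : 𝒮h.presheaf.obj (op ⊤)} (h : RelCone.IsPolyOver 𝒮 𝒮h ι z)
  (U : Y.Opens) (hU : IsAffineOpen U)

open RelCone3

theorem mem_range_jU_iff (x : Proj (𝒮h.deg U hU)) :
    x ∈ Set.range (jU h U hU) ↔ RelCone.restrictTop 𝒮h z U ∉ x.asHomogeneousIdeal := by
  rw [← mem_range_awayι_iff (𝒮h.deg U hU) (h.deg_z U hU) one_pos x]
  constructor
  · rintro ⟨w, rfl⟩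
    exact ⟨Spec.map (CommRingCat.ofHom (h.awayZToBase U hU)) w, rfl⟩
  · rintro ⟨y, rfl⟩
    let e := RingEquiv.ofBijective _ (awayZToBase_bijective h U hU)
    refine ⟨Spec.map (CommRingCat.ofHom e.symm.toRingHom) y, ?_⟩
    have : CommRingCat.ofHom (h.awayZToBase U hU) ≫ CommRingCat.ofHom e.symm.toRingHom = 𝟙 _ := by
      refine CommRingCat.hom_ext (RingHom.ext fun q => ?_)
      exact e.symm_apply_apply q
    have h2 : Spec.map (CommRingCat.ofHom e.symm.toRingHom) ≫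
        Spec.map (CommRingCat.ofHom (h.awayZToBase U hU)) = 𝟙 _ := by
      rw [← Spec.map_comp, this, Spec.map_id]
    rw [jU, ← Scheme.Hom.comp_apply, reassoc_of% h2]

variable (θ : 𝒮h.toQCAlg ⟶ 𝒮.toQCAlg) (hθ : RelProj.IsGradedHom θ)

theorem θ_ι (hιθ : ι ≫ θ = 𝟙 _) (a : 𝒮.presheaf.obj (op U)) :
    (θ.hom.app (op U)).hom ((ι.hom.app (op U)).hom a) = a := by
  have := congr(($hιθ).hom.app (op U))
  exact congr($this a)

theorem θ_z (hθz : (θ.hom.app (op ⊤)).hom z = 0) :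
    (θ.hom.app (op U)).hom (RelCone.restrictTop 𝒮h z U) = 0 := by
  have := θ.hom.naturality (homOfLE (le_top : U ≤ ⊤)).op
  have e := congr($this z)
  simp only [CommRingCat.comp_apply] at e
  rw [RelCone.restrictTop]
  rw [e, hθz, map_zero]

variable {PC P : Scheme.{u}} {pC : PC ⟶ Y}
  {chartC : ∀ (U : Y.Opens) (hU : IsAffineOpen U),
    (((pC ⁻¹ᵁ U : PC.Opens) : Scheme.{u}) ≅ Proj (𝒮h.deg U hU))}
  {p : P ⟶ Y}
  {chart : ∀ (U : Y.Opens) (hU : IsAffineOpen U),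
    (((p ⁻¹ᵁ U : P.Opens) : Scheme.{u}) ≅ Proj (𝒮.deg U hU))}

theorem emb_j
    (hirr : ∀ (U : Y.Opens) (hU : IsAffineOpen U),
      (𝒮.deg U hU)₊ ≤ ((𝒮h.deg U hU)₊).map (RelProj.gradedHomAt θ hθ U hU))
    (j : P ⟶ PC) (hj : RelProj.IsRelProjMap θ hθ hirr chartC chart j) :
    RelProj.emb p chart U hU ≫ j =
      Proj.map (RelProj.gradedHomAt θ hθ U hU) (hirr U hU) ≫ RelProj.emb pC chartC U hU := by
  rw [RelProj.emb, Category.assoc, hj U hU, Iso.inv_hom_id_assoc, RelProj.emb]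

set_option backward.isDefEq.respectTransparency.types false in
theorem range_coneImm_eq (hPC : RelProj.IsRelProj 𝒮h pC chartC)
    (i : 𝒮.toQCAlg.spec ⟶ PC) (hi : RelCone.IsConeImm 𝒮 h pC chartC i)
    (hιθ : ι ≫ θ = 𝟙 _) (hθz : (θ.hom.app (op ⊤)).hom z = 0)
    (hirr : ∀ (U : Y.Opens) (hU : IsAffineOpen U),
      (𝒮.deg U hU)₊ ≤ ((𝒮h.deg U hU)₊).map (RelProj.gradedHomAt θ hθ U hU))
    (j : P ⟶ PC) (hj : RelProj.IsRelProjMap θ hθ hirr chartC chart j) :
    Set.range i.base = (Set.range j.base)ᶜ := by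
  have hipC := coneImm_comp h hPC i hi
  ext c
  rw [Set.mem_compl_iff]
  constructor
  · rintro ⟨s, hs⟩ ⟨t, ht⟩
    obtain ⟨U, (hU : IsAffineOpen U), htU, -⟩ := Opens.isBasis_iff_nbhd.mp Y.isBasis_affineOpens
      (show p t ∈ (⊤ : Y.Opens) from trivial)
    have ht' : t ∈ Set.range (RelProj.emb p chart U hU) := by
      rw [range_emb]; exact htU
    obtain ⟨x', rfl⟩ := ht'
    have hc1 : c = RelProj.emb pC chartC U hU
        (Proj.map (RelProj.gradedHomAt θ hθ U hU) (hirr U hU) x') := by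
      rw [← ht, ← Scheme.Hom.comp_apply, emb_j U hU θ hθ hirr j hj]
      rfl
    have hcU : pC c ∈ U := by
      have : c ∈ Set.range (RelProj.emb pC chartC U hU) := ⟨_, hc1.symm⟩
      rw [range_emb] at this
      exact this
    have hsU : 𝒮.toQCAlg.π s ∈ U := by
      have h1 : 𝒮.toQCAlg.π s = pC (i s) := by
        rw [← hipC]; rfl
      rw [h1]
      have : i s = c := hs
      rw [this]; exact hcU
    obtain ⟨w, rfl⟩ := RelSpecMap.mem_range_ι 𝒮.toQCAlg U hU s hsU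
    have hc2 : c = RelProj.emb pC chartC U hU (jU h U hU w) := by
      rw [← coneImm_ι h U hU i hi w]; exact hs.symm
    have h3 : jU h U hU w = Proj.map (RelProj.gradedHomAt θ hθ U hU) (hirr U hU) x' :=
      (RelProj.emb pC chartC U hU).isOpenEmbedding.injective (hc2.symm.trans hc1)
    have h4 := (mem_range_jU_iff h U hU (jU h U hU w)).mp ⟨w, rfl⟩
    apply h4
    rw [h3]
    show (RelProj.gradedHomAt θ hθ U hU) (RelCone.restrictTop 𝒮h z U) ∈ x'.asHomogeneousIdeal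
    have : (RelProj.gradedHomAt θ hθ U hU) (RelCone.restrictTop 𝒮h z U) = 0 := θ_z U θ hθz
    rw [this]
    exact zero_mem _
  · intro hc
    obtain ⟨U, (hU : IsAffineOpen U), hcU, -⟩ := Opens.isBasis_iff_nbhd.mp Y.isBasis_affineOpens
      (show pC c ∈ (⊤ : Y.Opens) from trivial)
    have hc' : c ∈ Set.range (RelProj.emb pC chartC U hU) := by
      rw [range_emb]; exact hcU
    obtain ⟨x, rfl⟩ := hc'
    by_cases hzx : RelCone.restrictTop 𝒮h z U ∈ x.asHomogeneousIdeal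
    · exfalso
      apply hc
      obtain ⟨x', hx'⟩ := exists_comap_eq (𝒮.deg U hU) (𝒮h.deg U hU)
        (RelProj.gradedHomAt ι h.graded U hU) (RelProj.gradedHomAt θ hθ U hU)
        (RelCone.restrictTop 𝒮h z U) (h.deg_z U hU) (h.bij U hU)
        (fun a => θ_ι U θ hιθ a) (θ_z U θ hθz) (hirr U hU) x hzx
      refine ⟨RelProj.emb p chart U hU x', ?_⟩
      show j (RelProj.emb p chart U hU x') = _
      rw [← Scheme.Hom.comp_apply, emb_j U hU θ hθ hirr j hj, Scheme.Hom.comp_apply]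
      congr 1
    · obtain ⟨w, rfl⟩ := (mem_range_jU_iff h U hU x).mpr hzx
      exact ⟨𝒮.toQCAlg.ι U hU w, coneImm_ι h U hU i hi w⟩

end Rel

end Groth.Agent.Helper1.RelCone4
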