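import Mathlib
import Groth.Prelude.Def_RelProj4
import Groth.Agent.Lib.Helper1.ConeFun2
import Groth.Agent.Lib.Helper1.RelSpecMap
import Groth.Agent.Lib.Helper1.RelCone4

/-!
# The affine cone inside the projective cone and `Proj(φ̂)` (helper1 library)
-/

universe u

open CategoryTheory CategoryTheory.Limits AlgebraicGeometry TopologicalSpace Opposite
open scoped HomogeneousIdeal
open HomogeneousLocalization

namespace Groth.Agent.Helper1.ConeFun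

open ProjQ RelCone3

section Ring2

theorem poly_hom_ext {A B R : Type*} [CommRing A] [CommRing B] [CommRing R] (ι₀ : A →+* B) (z : B)
    (hsurj : Function.Surjective (Polynomial.eval₂RingHom ι₀ z)) (f g : B →+* R)
    (h1 : ∀ a, f (ι₀ a) = g (ι₀ a)) (h2 : f z = g z) : f = g := by
  have : f.comp (Polynomial.eval₂RingHom ι₀ z) = g.comp (Polynomial.eval₂RingHom ι₀ z) := by
    apply Polynomial.ringHom_ext
    · intro a; simp [h1]
    · simp [h2]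
  ext b
  obtain ⟨p, rfl⟩ := hsurj b
  exact DFunLike.congr_fun this p

theorem away_transport {B τ R : Type u} [CommRing B] [SetLike τ B] [AddSubgroupClass τ B]
    (ℬ : ℕ → τ) [GradedRing ℬ] [CommRing R]
    (x : B) (hx : x ∈ ℬ 1) (E : Away ℬ x →+* R) (y : B) (h : y = x) (hy : y ∈ ℬ 1) :
    ∃ β : Away ℬ y →+* R,
      Spec.map (CommRingCat.ofHom β) ≫ Proj.awayι ℬ y hy one_pos =
        Spec.map (CommRingCat.ofHom E) ≫ Proj.awayι ℬ x hx one_pos ∧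
      ∀ (k : ℕ) (b : B) (hb : b ∈ ℬ (k • 1)),
        β (Away.mk ℬ hy k b hb) = E (Away.mk ℬ hx k b hb) := by
  subst h
  exact ⟨E, rfl, fun _ _ _ => rfl⟩

end Ring2

section Cone
variable {Y Y' PC PC' : Scheme.{u}} {q : Y' ⟶ Y}
  {𝒮 : RelProj.QCGrAlg Y} {𝒮' : RelProj.QCGrAlg Y'}
  (u : RelProj.QGrHom q 𝒮 𝒮')
  {𝒮h : RelProj.QCGrAlg Y} {ι : 𝒮.toQCAlg ⟶ 𝒮h.toQCAlg} {z : 𝒮h.presheaf.obj (op ⊤)}
  (hz : RelCone.IsPolyOver 𝒮 𝒮h ι z)
  (pC : PC ⟶ Y)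
  (chartC : ∀ (U : Y.Opens) (hU : IsAffineOpen U),
    (((pC ⁻¹ᵁ U : PC.Opens) : Scheme.{u}) ≅ Proj (𝒮h.deg U hU)))
  {𝒮h' : RelProj.QCGrAlg Y'} {ι' : 𝒮'.toQCAlg ⟶ 𝒮h'.toQCAlg} {z' : 𝒮h'.presheaf.obj (op ⊤)}
  (hz' : RelCone.IsPolyOver 𝒮' 𝒮h' ι' z')
  (pC' : PC' ⟶ Y')
  (chartC' : ∀ (U : Y'.Opens) (hU : IsAffineOpen U),
    (((pC' ⁻¹ᵁ U : PC'.Opens) : Scheme.{u}) ≅ Proj (𝒮h'.deg U hU)))
  (uh : RelProj.QGrHom q 𝒮h 𝒮h')
  (huh : ∀ U : Y.Opens, ι.hom.app (op U) ≫ uh.app U = u.app U ≫ ι'.hom.app (op (q ⁻¹ᵁ U)))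
  (huhz : (uh.app ⊤).hom z = RelCone.restrictTop 𝒮h' z' (q ⁻¹ᵁ ⊤))
  (Φh : ((RelProj.domQ uh pC' chartC' : PC'.Opens) : Scheme.{u}) ⟶ PC)
  (hΦh : RelProj.IsProjQMapOn uh pC chartC pC' chartC' (RelProj.domQ uh pC' chartC') Φh)

include huh huhz in
theorem evalOne_comp (π : Pair q) (b : 𝒮h.presheaf.obj (op π.U)) :
    hz'.evalOne π.U' π.hU' ((gr uh π) b) = (gr u π) (hz.evalOne π.U π.hU b) := by
  have key : (hz'.evalOne π.U' π.hU').comp (gr uh π).toRingHom =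
      (gr u π).toRingHom.comp (hz.evalOne π.U π.hU) := by
    apply poly_hom_ext (ι.hom.app (op π.U)).hom (RelCone.restrictTop 𝒮h z π.U)
      (hz.bij π.U π.hU).2
    · intro a
      show hz'.evalOne π.U' π.hU' ((gr uh π) ((ι.hom.app (op π.U)).hom a)) =
        (gr u π) (hz.evalOne π.U π.hU ((ι.hom.app (op π.U)).hom a))
      rw [hz.evalOne_ι]
      have e1 : (ι.hom.app (op π.U)).hom a =
          (gr (RelProj.QGrHom.ofHom ι hz.graded) (diag π.U π.hU)) a :=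
        (DFunLike.congr_fun (gr_diag ι hz.graded π.U π.hU) a).symm
      rw [e1, gr_uh_ι u hz hz' uh huh π a]
      have e2 : (gr (RelProj.QGrHom.ofHom ι' hz'.graded) (diag π.U' π.hU')) ((gr u π) a) =
          (ι'.hom.app (op π.U')).hom ((gr u π) a) :=
        DFunLike.congr_fun (gr_diag ι' hz'.graded π.U' π.hU') _
      rw [e2, hz'.evalOne_ι]
    · show hz'.evalOne π.U' π.hU' ((gr uh π) (RelCone.restrictTop 𝒮h z π.U)) =
        (gr u π) (hz.evalOne π.U π.hU (RelCone.restrictTop 𝒮h z π.U))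
      rw [gr_uh_z uh huhz π, hz.evalOne_z, hz'.evalOne_z, map_one]
  exact DFunLike.congr_fun key b

include huh huhz hΦh in
theorem coneImm_compat
    (Φc : 𝒮'.toQCAlg.spec ⟶ 𝒮.toQCAlg.spec) (hΦc : RelSpec.IsSpecQMap u.toQHom Φc)
    (i : 𝒮.toQCAlg.spec ⟶ PC) (hi : RelCone.IsConeImm 𝒮 hz pC chartC i)
    (i' : 𝒮'.toQCAlg.spec ⟶ PC') (hi' : RelCone.IsConeImm 𝒮' hz' pC' chartC' i') :
    Set.range i'.base ⊆ ((RelProj.domQ uh pC' chartC' : PC'.Opens) : Set PC') ∧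
      ∀ i'' : 𝒮'.toQCAlg.spec ⟶ ((RelProj.domQ uh pC' chartC' : PC'.Opens) : Scheme.{u}),
        i'' ≫ (RelProj.domQ uh pC' chartC').ι = i' → i'' ≫ Φh = Φc ≫ i := by
  constructor
  · rintro _ ⟨c, rfl⟩
    obtain ⟨p, w, rfl⟩ := (RelSpecMap.cov q 𝒮'.toQCAlg).exists_eq c
    let π : Pair q := ⟨p.1.1.1, p.1.1.2, p.1.2.1, p.1.2.2, p.2⟩
    have h1 : i' (𝒮'.toQCAlg.ι π.U' π.hU' w) =
        RelProj.emb pC' chartC' π.U' π.hU' (jU hz' π.U' π.hU' w) :=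
      coneImm_ι hz' π.U' π.hU' i' hi' w
    show i' (𝒮'.toQCAlg.ι π.U' π.hU' w) ∈ _
    rw [h1]
    apply image_le_domQ uh pC' chartC' π
    refine ⟨_, ?_, rfl⟩
    apply mem_domOpen_of_z (gr uh π) (RelCone.restrictTop 𝒮h z π.U) (hz.deg_z π.U π.hU)
      (RelCone.restrictTop 𝒮h' z' π.U') (gr_uh_z uh huhz π)
    exact (RelCone4.mem_range_jU_iff hz' π.U' π.hU' _).mp ⟨w, rfl⟩
  · intro i'' hi''
    refine (RelSpecMap.cov q 𝒮'.toQCAlg).hom_ext _ _ fun p => ?_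
    let π : Pair q := ⟨p.1.1.1, p.1.1.2, p.1.2.1, p.1.2.2, p.2⟩
    show 𝒮'.toQCAlg.ι π.U' π.hU' ≫ i'' ≫ Φh = 𝒮'.toQCAlg.ι π.U' π.hU' ≫ Φc ≫ i
    have hy : (gr uh π) (RelCone.restrictTop 𝒮h z π.U) ∈ 𝒮h'.deg π.U' π.hU' 1 :=
      (gr uh π).2 (hz.deg_z π.U π.hU)
    obtain ⟨β, hβ1, hβ2⟩ := away_transport (𝒮h'.deg π.U' π.hU')
      (RelCone.restrictTop 𝒮h' z' π.U') (hz'.deg_z π.U' π.hU') (hz'.awayZToBase π.U' π.hU')
      ((gr uh π) (RelCone.restrictTop 𝒮h z π.U)) (gr_uh_z uh huhz π) hy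
    have hW := RelProj.range_awayEmb_subset_domQ uh pC' chartC' π.U π.hU π.U' π.hU' π.hle
      one_pos (RelCone.restrictTop 𝒮h z π.U) (hz.deg_z π.U π.hU)
    have hc : 𝒮'.toQCAlg.ι π.U' π.hU' ≫ i'' = Spec.map (CommRingCat.ofHom β) ≫
        IsOpenImmersion.lift (RelProj.domQ uh pC' chartC').ι
          (RelProj.awayEmb uh pC' chartC' π.U π.hU π.U' π.hU' π.hle one_pos
            (RelCone.restrictTop 𝒮h z π.U) (hz.deg_z π.U π.hU)) hW := by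
      refine (cancel_mono (RelProj.domQ uh pC' chartC').ι).mp ?_
      rw [Category.assoc, hi'', Category.assoc, IsOpenImmersion.lift_fac, hi' π.U' π.hU']
      unfold RelProj.awayEmb
      rw [← Category.assoc, ← Category.assoc]
      congr 1
      exact hβ1.symm
    have hring : CommRingCat.ofHom (Away.map (gr uh π) (RelCone.restrictTop 𝒮h z π.U)) ≫
        CommRingCat.ofHom β =
        CommRingCat.ofHom (hz.awayZToBase π.U π.hU) ≫ u.toQHom.appLE π.U π.U' π.hle := by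
      refine CommRingCat.hom_ext (RingHom.ext fun x => ?_)
      obtain ⟨k, a, ha, rfl⟩ := Away.mk_surjective (𝒮h.deg π.U π.hU) (hz.deg_z π.U π.hU) x
      show β (Away.map (gr uh π) (RelCone.restrictTop 𝒮h z π.U)
          (Away.mk (𝒮h.deg π.U π.hU) (hz.deg_z π.U π.hU) k a ha)) =
        (u.toQHom.appLE π.U π.U' π.hle).hom (hz.awayZToBase π.U π.hU
          (Away.mk (𝒮h.deg π.U π.hU) (hz.deg_z π.U π.hU) k a ha))
      rw [Away.map_mk, hβ2,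
        hz'.awayZToBase_of_val π.U' π.hU' _ ((gr uh π) a) k (Away.val_mk _ _ _ _ _),
        hz.awayZToBase_of_val π.U π.hU _ a k (Away.val_mk _ _ _ _ _)]
      exact evalOne_comp u hz hz' uh huh huhz π a
    rw [← Category.assoc, hc, Category.assoc,
      hΦh π.U π.hU π.U' π.hU' π.hle 1 one_pos (RelCone.restrictTop 𝒮h z π.U)
        (hz.deg_z π.U π.hU) hW,
      ← Category.assoc (𝒮'.toQCAlg.ι π.U' π.hU'), hΦc π.U π.hU π.U' π.hU' π.hle, Category.assoc,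
      hi π.U π.hU, ← Spec.map_comp_assoc, ← Spec.map_comp_assoc, hring]

end Cone

end Groth.Agent.Helper1.ConeFun
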