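import Mathlib
import Groth.Prelude.Def_RelProj4
import Groth.Agent.Lib.Helper1.ConeFun3

/-!
# The part at infinity of the projective cone and `Proj(φ̂)` (helper1 library)
-/

universe u

open CategoryTheory CategoryTheory.Limits AlgebraicGeometry TopologicalSpace Opposite
open scoped HomogeneousIdeal
open HomogeneousLocalization

namespace Groth.Agent.Helper1.ConeFun

open ProjQ RelCone3

section Cone
variable {Y Y' PC PC' P P' : Scheme.{u}} {q : Y' ⟶ Y}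
  {𝒮 : RelProj.QCGrAlg Y} {𝒮' : RelProj.QCGrAlg Y'}
  (u : RelProj.QGrHom q 𝒮 𝒮')
  {𝒮h : RelProj.QCGrAlg Y} {ι : 𝒮.toQCAlg ⟶ 𝒮h.toQCAlg} {z : 𝒮h.presheaf.obj (op ⊤)}
  (hz : RelCone.IsPolyOver 𝒮 𝒮h ι z)
  (pC : PC ⟶ Y)
  (chartC : ∀ (U : Y.Opens) (hU : IsAffineOpen U),
    (((pC ⁻¹ᵁ U : PC.Opens) : Scheme.{u}) ≅ Proj (𝒮h.deg U hU)))
  (hC : RelProj.IsRelProj 𝒮h pC chartC)
  {𝒮h' : RelProj.QCGrAlg Y'} {ι' : 𝒮'.toQCAlg ⟶ 𝒮h'.toQCAlg} {z' : 𝒮h'.presheaf.obj (op ⊤)}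
  (hz' : RelCone.IsPolyOver 𝒮' 𝒮h' ι' z')
  (pC' : PC' ⟶ Y')
  (chartC' : ∀ (U : Y'.Opens) (hU : IsAffineOpen U),
    (((pC' ⁻¹ᵁ U : PC'.Opens) : Scheme.{u}) ≅ Proj (𝒮h'.deg U hU)))
  (hC' : RelProj.IsRelProj 𝒮h' pC' chartC')
  (uh : RelProj.QGrHom q 𝒮h 𝒮h')
  (huh : ∀ U : Y.Opens, ι.hom.app (op U) ≫ uh.app U = u.app U ≫ ι'.hom.app (op (q ⁻¹ᵁ U)))
  (huhz : (uh.app ⊤).hom z = RelCone.restrictTop 𝒮h' z' (q ⁻¹ᵁ ⊤))
  (Φh : ((RelProj.domQ uh pC' chartC' : PC'.Opens) : Scheme.{u}) ⟶ PC)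
  (hΦh : RelProj.IsProjQMapOn uh pC chartC pC' chartC' (RelProj.domQ uh pC' chartC') Φh)
  (p : P ⟶ Y)
  (chart : ∀ (U : Y.Opens) (hU : IsAffineOpen U),
    (((p ⁻¹ᵁ U : P.Opens) : Scheme.{u}) ≅ Proj (𝒮.deg U hU)))
  (hP : RelProj.IsRelProj 𝒮 p chart)
  (p' : P' ⟶ Y')
  (chart' : ∀ (U : Y'.Opens) (hU : IsAffineOpen U),
    (((p' ⁻¹ᵁ U : P'.Opens) : Scheme.{u}) ≅ Proj (𝒮'.deg U hU)))
  (hP' : RelProj.IsRelProj 𝒮' p' chart')
  (Φ : ((RelProj.domQ u p' chart' : P'.Opens) : Scheme.{u}) ⟶ P)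
  (hΦ : RelProj.IsProjQMapOn u p chart p' chart' (RelProj.domQ u p' chart') Φ)
  (θ : 𝒮h.toQCAlg ⟶ 𝒮.toQCAlg) (hθ : RelProj.IsGradedHom θ) (hθι : ι ≫ θ = 𝟙 _)
  (hθz : (θ.hom.app (op ⊤)).hom z = 0)
  (θ' : 𝒮h'.toQCAlg ⟶ 𝒮'.toQCAlg) (hθ' : RelProj.IsGradedHom θ') (hθι' : ι' ≫ θ' = 𝟙 _)
  (hθz' : (θ'.hom.app (op ⊤)).hom z' = 0)

/-- the common composite `φ ∘ θ = θ' ∘ φ̂ : 𝒮[z] → q_* 𝒮'` -/
abbrev lam : RelProj.QGrHom q 𝒮h 𝒮' := compHom θ hθ u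

include hz hz' huh huhz hθι hθz hθι' hθz' in
theorem gr_lam_pre (π : Pair q) :
    gr (lam u θ hθ) π =
      (gr (RelProj.QGrHom.ofHom θ' hθ') (diag π.U' π.hU')).comp (gr uh π) := by
  have key : (gr (lam u θ hθ) π).toRingHom =
      ((gr (RelProj.QGrHom.ofHom θ' hθ') (diag π.U' π.hU')).comp (gr uh π)).toRingHom := by
    apply poly_hom_ext (ι.hom.app (op π.U)).hom (RelCone.restrictTop 𝒮h z π.U)
      (hz.bij π.U π.hU).2
    · intro a
      show (u.appLE π.U π.U' π.hle).hom ((θ.hom.app (op π.U)).hom ((ι.hom.app (op π.U)).hom a)) =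
        (gr (RelProj.QGrHom.ofHom θ' hθ') (diag π.U' π.hU'))
          ((gr uh π) ((ι.hom.app (op π.U)).hom a))
      rw [RelCone4.θ_ι π.U θ hθι a]
      have e1 : (ι.hom.app (op π.U)).hom a =
          (gr (RelProj.QGrHom.ofHom ι hz.graded) (diag π.U π.hU)) a :=
        (DFunLike.congr_fun (gr_diag ι hz.graded π.U π.hU) a).symm
      rw [e1, gr_uh_ι u hz hz' uh huh π a]
      have e2 : (gr (RelProj.QGrHom.ofHom ι' hz'.graded) (diag π.U' π.hU')) ((gr u π) a) =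
          (ι'.hom.app (op π.U')).hom ((gr u π) a) :=
        DFunLike.congr_fun (gr_diag ι' hz'.graded π.U' π.hU') _
      rw [e2]
      have e3 : (gr (RelProj.QGrHom.ofHom θ' hθ') (diag π.U' π.hU'))
          ((ι'.hom.app (op π.U')).hom ((gr u π) a)) =
          (θ'.hom.app (op π.U')).hom ((ι'.hom.app (op π.U')).hom ((gr u π) a)) :=
        DFunLike.congr_fun (gr_diag θ' hθ' π.U' π.hU') _
      rw [e3, RelCone4.θ_ι π.U' θ' hθι']
      rfl
    · show (u.appLE π.U π.U' π.hle).hom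
          ((θ.hom.app (op π.U)).hom (RelCone.restrictTop 𝒮h z π.U)) =
        (gr (RelProj.QGrHom.ofHom θ' hθ') (diag π.U' π.hU'))
          ((gr uh π) (RelCone.restrictTop 𝒮h z π.U))
      rw [RelCone4.θ_z π.U θ hθz, map_zero, gr_uh_z uh huhz π]
      have e3 : (gr (RelProj.QGrHom.ofHom θ' hθ') (diag π.U' π.hU'))
          (RelCone.restrictTop 𝒮h' z' π.U') =
          (θ'.hom.app (op π.U')).hom (RelCone.restrictTop 𝒮h' z' π.U') :=
        DFunLike.congr_fun (gr_diag θ' hθ' π.U' π.hU') _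
      rw [e3, RelCone4.θ_z π.U' θ' hθz']
  ext x
  exact DFunLike.congr_fun key x

include hz hz' hC hP' hP huh huhz hθι hθz hθι' hθz' hΦh hΦ in
theorem infty_compat
    (jX : P ⟶ PC) (hjX : RelProj.IsProjQMap (RelProj.QGrHom.ofHom θ hθ) pC chartC p chart jX)
    (jX' : P' ⟶ PC')
    (hjX' : RelProj.IsProjQMap (RelProj.QGrHom.ofHom θ' hθ') pC' chartC' p' chart' jX')
    (T : Scheme.{u}) (d : T ⟶ ((RelProj.domQ u p' chart' : P'.Opens) : Scheme.{u}))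
    (e : T ⟶ ((RelProj.domQ uh pC' chartC' : PC'.Opens) : Scheme.{u}))
    (hde : d ≫ (RelProj.domQ u p' chart').ι ≫ jX' = e ≫ (RelProj.domQ uh pC' chartC').ι) :
    jX'.base '' ((RelProj.domQ u p' chart' : P'.Opens) : Set P') ⊆
        ((RelProj.domQ uh pC' chartC' : PC'.Opens) : Set PC') ∧
      e ≫ Φh = d ≫ Φ ≫ jX := by
  have hκ := gr_lam_pre u hz hz' uh huh huhz θ hθ hθι hθz θ' hθ' hθι' hθz'
  have hpost := compHom_app θ hθ u
  obtain ⟨Φl, hΦl, -⟩ := existsUnique_isProjQMapOn (lam u θ hθ) pC chartC p' chart' hC hP' _ rfl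
  have hs := isProjQMapOn_of_isProjQMap (RelProj.QGrHom.ofHom θ hθ) pC chartC p chart jX hjX
    (RelProj.domQ (RelProj.QGrHom.ofHom θ hθ) p chart)
  have hρ := isProjQMapOn_of_isProjQMap (RelProj.QGrHom.ofHom θ' hθ') pC' chartC' p' chart' jX' hjX'
    (RelProj.domQ (RelProj.QGrHom.ofHom θ' hθ') p' chart')
  have hmem : ∀ x : ((RelProj.domQ u p' chart' : P'.Opens) : Scheme.{u}),
      (RelProj.domQ u p' chart').ι x ∈ RelProj.domQ (lam u θ hθ) p' chart' := by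
    intro x
    refine mem_domQ_comp' u θ hθ (lam u θ hθ) hpost p chart p' chart' hP Φ hΦ x ?_
    rw [hjX.1]; trivial
  have hpre := range_pre_subset uh θ' hθ' (lam u θ hθ) hκ pC' chartC' p' chart'
    ((RelProj.domQ (RelProj.QGrHom.ofHom θ' hθ') p' chart').ι ≫ jX') hρ
  have hfpre := functoriality_pre uh θ' hθ' (lam u θ hθ) hκ pC chartC pC' chartC' p' chart'
    Φh hΦh ((RelProj.domQ (RelProj.QGrHom.ofHom θ' hθ') p' chart').ι ≫ jX') hρ Φl hΦl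
  have hfpost := functoriality u θ hθ (lam u θ hθ) hpost p chart p' chart' pC chartC
    Φ hΦ Φl hΦl ((RelProj.domQ (RelProj.QGrHom.ofHom θ hθ) p chart).ι ≫ jX) hs
  rw [IsOpenImmersion.lift_fac_assoc] at hfpost
  constructor
  · rintro _ ⟨x, hx, rfl⟩
    have h1 := hpre ⟨⟨x, hmem ⟨x, hx⟩⟩, rfl⟩
    rw [Scheme.Opens.range_ι] at h1
    have h2 : (P'.homOfLE (domQ_pre_le uh θ' hθ' (lam u θ hθ) hκ p' chart') ≫
        (RelProj.domQ (RelProj.QGrHom.ofHom θ' hθ') p' chart').ι ≫ jX')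
        ⟨x, hmem ⟨x, hx⟩⟩ = jX' x := by
      rw [← Category.assoc, Scheme.homOfLE_ι]
      rfl
    rw [← h2]
    exact h1
  · have hrange : Set.range (d ≫ (RelProj.domQ u p' chart').ι).base ⊆
        Set.range (RelProj.domQ (lam u θ hθ) p' chart').ι.base := by
      rw [Scheme.Opens.range_ι]
      rintro _ ⟨t, rfl⟩
      exact hmem (d t)
    let f : T ⟶ ((RelProj.domQ (lam u θ hθ) p' chart' : P'.Opens) : Scheme.{u}) :=
      IsOpenImmersion.lift (RelProj.domQ (lam u θ hθ) p' chart').ι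
        (d ≫ (RelProj.domQ u p' chart').ι) hrange
    have hf : f ≫ (RelProj.domQ (lam u θ hθ) p' chart').ι = d ≫ (RelProj.domQ u p' chart').ι :=
      IsOpenImmersion.lift_fac _ _ _
    have hfd : f ≫ P'.homOfLE (domQ_comp_le u p' chart' θ hθ (lam u θ hθ) hpost) = d := by
      refine (cancel_mono (RelProj.domQ u p' chart').ι).mp ?_
      rw [Category.assoc, Scheme.homOfLE_ι, hf]
    have hfe : f ≫ IsOpenImmersion.lift (RelProj.domQ uh pC' chartC').ι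
        (P'.homOfLE (domQ_pre_le uh θ' hθ' (lam u θ hθ) hκ p' chart') ≫
          (RelProj.domQ (RelProj.QGrHom.ofHom θ' hθ') p' chart').ι ≫ jX') hpre = e := by
      refine (cancel_mono (RelProj.domQ uh pC' chartC').ι).mp ?_
      rw [Category.assoc, IsOpenImmersion.lift_fac, ← hde, ← Category.assoc (P'.homOfLE _),
        Scheme.homOfLE_ι, ← Category.assoc, hf, Category.assoc]
    rw [← hfe, Category.assoc, hfpre, ← hfpost, Category.assoc, ← Category.assoc, hfd]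

end Cone

end Groth.Agent.Helper1.ConeFun
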