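import Mathlib

/-!
# Graded polynomial algebras `A[z]` with `z` of degree one, general `SetLike` gradings
(helper1 library; generalization of `PolyGr`)

`B` is a graded ring, `ι₀ : A → B` a ring homomorphism preserving degrees and `z ∈ B₁` such that
`A[X] → B`, `X ↦ z`, is bijective.
-/

open Polynomial AlgebraicGeometry
open scoped HomogeneousIdeal

namespace Groth.Agent.Helper1.PolyGrS

variable {A B σ τ : Type*} [CommRing A] [CommRing B] [SetLike σ A] [AddSubgroupClass σ A]
  [SetLike τ B] [AddSubgroupClass τ B] (𝒜 : ℕ → σ) (ℬ : ℕ → τ)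
  [GradedRing 𝒜] [GradedRing ℬ] (ι₀ : A →+* B) (hι : ∀ i a, a ∈ 𝒜 i → ι₀ a ∈ ℬ i)
  (z : B) (hz : z ∈ ℬ 1)

/-- the "degree `k` part" of a polynomial for the total grading -/
noncomputable def D (k : ℕ) (p : A[X]) : A[X] :=
  ∑ j ∈ Finset.range (k + 1), monomial j ((DirectSum.decompose 𝒜 (p.coeff j) (k - j) : A))

lemma D_add (k : ℕ) (p q : A[X]) : D 𝒜 k (p + q) = D 𝒜 k p + D 𝒜 k q := by
  unfold D
  rw [← Finset.sum_add_distrib]
  refine Finset.sum_congr rfl fun j _ => ?_
  rw [coeff_add, DirectSum.decompose_add, DirectSum.add_apply, AddMemClass.coe_add, map_add]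

lemma D_coeff (k : ℕ) (p : A[X]) (j : ℕ) :
    (D 𝒜 k p).coeff j = if j ≤ k then (DirectSum.decompose 𝒜 (p.coeff j) (k - j) : A) else 0 := by
  unfold D
  rw [finsetSum_coeff]
  simp only [coeff_monomial]
  rw [Finset.sum_ite_eq' (Finset.range (k + 1)) j]
  simp only [Finset.mem_range, Nat.lt_succ_iff]

include hι in
lemma ι_decompose (a : A) (m : ℕ) :
    ι₀ (DirectSum.decompose 𝒜 a m : A) = (DirectSum.decompose ℬ (ι₀ a) m : B) := by
  classical
  induction a using DirectSum.Decomposition.inductionOn 𝒜 with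
  | zero => simp
  | @homogeneous i a =>
    by_cases him : i = m
    · subst him
      rw [DirectSum.decompose_of_mem_same 𝒜 a.2, DirectSum.decompose_of_mem_same ℬ (hι i _ a.2)]
    · rw [DirectSum.decompose_of_mem_ne 𝒜 a.2 him, DirectSum.decompose_of_mem_ne ℬ (hι i _ a.2) him,
        map_zero]
  | add a b ha hb =>
    rw [DirectSum.decompose_add, DirectSum.add_apply, AddMemClass.coe_add, map_add, ha, hb,
      map_add, DirectSum.decompose_add, DirectSum.add_apply, AddMemClass.coe_add]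

include hι hz in
lemma eval₂_D (k : ℕ) (p : A[X]) :
    eval₂ ι₀ z (D 𝒜 k p) = (DirectSum.decompose ℬ (eval₂ ι₀ z p) k : B) := by
  classical
  induction p using Polynomial.induction_on' with
  | add p q hp hq =>
    rw [D_add, eval₂_add, eval₂_add, hp, hq, DirectSum.decompose_add, DirectSum.add_apply,
      AddMemClass.coe_add]
  | monomial n a =>
    have hzn : z ^ n ∈ ℬ n := by simpa using SetLike.pow_mem_graded n hz
    unfold D
    rw [eval₂_finsetSum, eval₂_monomial]
    simp only [coeff_monomial, eval₂_monomial]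
    by_cases hn : n ≤ k
    · rw [DirectSum.coe_decompose_mul_of_right_mem_of_le ℬ hzn hn]
      rw [Finset.sum_eq_single n]
      · rw [if_pos rfl]
        congr 1
        exact ι_decompose 𝒜 ℬ ι₀ hι a (k - n)
      · intro j _ hjn
        rw [if_neg (Ne.symm hjn), DirectSum.decompose_zero, DirectSum.zero_apply]
        simp
      · intro hn'
        exact absurd (Finset.mem_range.mpr (Nat.lt_succ_of_le hn)) hn'
    · rw [DirectSum.coe_decompose_mul_of_right_mem_of_not_le ℬ hzn hn]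
      refine Finset.sum_eq_zero fun j hj => ?_
      have hjn : n ≠ j := by
        rintro rfl
        exact hn (Nat.lt_succ_iff.mp (Finset.mem_range.mp hj))
      rw [if_neg hjn, DirectSum.decompose_zero, DirectSum.zero_apply]
      simp

include hι hz in
theorem D_eq_self (hinj : Function.Injective (eval₂RingHom ι₀ z)) {k : ℕ} {p : A[X]}
    (hp : eval₂ ι₀ z p ∈ ℬ k) : D 𝒜 k p = p := by
  apply hinj
  show eval₂ ι₀ z (D 𝒜 k p) = eval₂ ι₀ z p
  rw [eval₂_D 𝒜 ℬ ι₀ hι z hz, DirectSum.decompose_of_mem_same ℬ hp]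

include hι hz in
theorem coeff_mem (hinj : Function.Injective (eval₂RingHom ι₀ z)) {k : ℕ} {p : A[X]}
    (hp : eval₂ ι₀ z p ∈ ℬ k) (j : ℕ) :
    p.coeff j ∈ 𝒜 (k - j) ∧ (k < j → p.coeff j = 0) := by
  have h := D_eq_self 𝒜 ℬ ι₀ hι z hz hinj hp
  have h2 := D_coeff 𝒜 k p j
  rw [h] at h2
  constructor
  · by_cases hj : j ≤ k
    · rw [if_pos hj] at h2
      rw [h2]; exact SetLike.coe_mem _
    · rw [if_neg hj] at h2
      rw [h2]; exact zero_mem _
  · intro hj
    rw [if_neg (not_le.mpr hj)] at h2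
    exact h2

include hι hz in
theorem eq_zero_of_eval_one (hinj : Function.Injective (eval₂RingHom ι₀ z)) {k : ℕ} {p : A[X]}
    (hp : eval₂ ι₀ z p ∈ ℬ k) (h1 : p.eval 1 = 0) : p = 0 := by
  classical
  have hc := coeff_mem 𝒜 ℬ ι₀ hι z hz hinj hp
  have hsum : ∑ i ∈ Finset.range (max p.natDegree k + 1), p.coeff i = 0 := by
    rw [← h1, eval_eq_sum_range' (n := max p.natDegree k + 1) (by omega)]
    simp
  ext j
  rw [coeff_zero]
  by_cases hj : j ≤ k
  · have h2 := congrArg (fun t => (DirectSum.decompose 𝒜 t (k - j) : A)) hsum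
    simp only [DirectSum.decompose_sum, DirectSum.decompose_zero, DirectSum.zero_apply,
      ZeroMemClass.coe_zero] at h2
    rw [DFinsupp.finsetSum_apply, AddSubmonoidClass.coe_finsetSum, Finset.sum_eq_single j] at h2
    · rwa [DirectSum.decompose_of_mem_same 𝒜 (hc j).1] at h2
    · intro i _ hij
      by_cases hik : i ≤ k
      · rw [DirectSum.decompose_of_mem_ne 𝒜 (hc i).1 (by omega)]
      · rw [(hc i).2 (not_le.mp hik), DirectSum.decompose_zero, DirectSum.zero_apply]
        rfl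
    · intro hj'
      exact absurd (Finset.mem_range.mpr (by omega)) hj'
  · exact (hc j).2 (not_le.mp hj)

include hι hz in
theorem exists_homog_lift (a : A) :
    ∃ (N : ℕ) (p : A[X]), eval₂ ι₀ z p ∈ ℬ N ∧ p.eval 1 = a := by
  classical
  set s := (DirectSum.decompose 𝒜 a).support with hs
  refine ⟨s.sup id, ∑ i ∈ s, monomial (s.sup id - i) ((DirectSum.decompose 𝒜 a i : A)), ?_, ?_⟩
  · rw [eval₂_finsetSum]
    refine sum_mem fun i hi => ?_
    rw [eval₂_monomial]
    have hle : i ≤ s.sup id := Finset.le_sup (f := id) hi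
    have h1 : ι₀ (DirectSum.decompose 𝒜 a i : A) ∈ ℬ i := hι i _ (SetLike.coe_mem _)
    have h2 : z ^ (s.sup id - i) ∈ ℬ (s.sup id - i) := by
      simpa using SetLike.pow_mem_graded (s.sup id - i) hz
    have := SetLike.mul_mem_graded h1 h2
    rwa [Nat.add_sub_cancel' hle] at this
  · rw [eval_finsetSum]
    simp only [eval_monomial, one_pow, mul_one]
    exact DirectSum.sum_support_decompose 𝒜 a

include hι hz in
theorem irrelevant_le_span (hbij : Function.Bijective (eval₂RingHom ι₀ z)) :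
    ((ℬ)₊).toIdeal ≤ Ideal.span (ι₀ '' (((𝒜)₊).toIdeal : Set A) ∪ {z}) := by
  rw [HomogeneousIdeal.toIdeal_irrelevant_le]
  intro k hk b hb
  obtain ⟨p, rfl⟩ := hbij.2 b
  have hb' : eval₂ ι₀ z p ∈ ℬ k := hb
  have hc := coeff_mem 𝒜 ℬ ι₀ hι z hz hbij.1 hb'
  show eval₂ ι₀ z p ∈ _
  rw [eval₂_eq_sum_range]
  refine Ideal.sum_mem _ fun j _ => ?_
  rcases Nat.eq_zero_or_pos j with hj | hj
  · subst hj
    rw [pow_zero, mul_one]
    refine Ideal.subset_span (Or.inl ⟨p.coeff 0, ?_, rfl⟩)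
    exact HomogeneousIdeal.mem_irrelevant_of_mem 𝒜 hk (by simpa using (hc 0).1)
  · obtain ⟨j', rfl⟩ : ∃ j', j = j' + 1 := ⟨j - 1, by omega⟩
    rw [pow_succ, ← mul_assoc]
    exact Ideal.mul_mem_left _ _ (Ideal.subset_span (Or.inr rfl))



include hι hz in
theorem bijective_of_rule (hbij : Function.Bijective (eval₂RingHom ι₀ z)) (ev : B →+* A)
    (hev : ∀ p : A[X], ev (eval₂ ι₀ z p) = p.eval 1)
    (φ : HomogeneousLocalization.Away ℬ z →+* A)
    (hφ : ∀ (q : HomogeneousLocalization.Away ℬ z) (x : B) (k : ℕ),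
      q.val = Localization.mk x ⟨z ^ k, pow_mem (Submonoid.mem_powers z) k⟩ → φ q = ev x) :
    Function.Bijective φ := by
  constructor
  · rw [injective_iff_map_eq_zero]
    intro q hq
    obtain ⟨k, x, hx, rfl⟩ := HomogeneousLocalization.Away.mk_surjective ℬ hz q
    rw [hφ _ x k (HomogeneousLocalization.Away.val_mk ℬ k hz x hx)] at hq
    obtain ⟨p, rfl⟩ := hbij.2 x
    have hx' : eval₂ ι₀ z p ∈ ℬ k := by simpa using hx
    have hp : p = 0 := by
      refine eq_zero_of_eval_one 𝒜 ℬ ι₀ hι z hz hbij.1 hx' ?_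
      rw [← hev]; exact hq
    subst hp
    apply HomogeneousLocalization.val_injective
    rw [HomogeneousLocalization.Away.val_mk, HomogeneousLocalization.val_zero]
    simp only [coe_eval₂RingHom, eval₂_zero]
    exact Localization.mk_zero _
  · intro a
    obtain ⟨N, p, hp, hpa⟩ := exists_homog_lift 𝒜 ℬ ι₀ hι z hz a
    refine ⟨HomogeneousLocalization.Away.mk ℬ hz N (eval₂ ι₀ z p) (by simpa using hp), ?_⟩
    rw [hφ _ (eval₂ ι₀ z p) N (HomogeneousLocalization.Away.val_mk ℬ N hz _ _), hev, hpa]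


section Cone
variable (ιg : 𝒜 →+*ᵍ ℬ) (θg : ℬ →+*ᵍ 𝒜)

theorem sub_mem_span (hbij : Function.Bijective (eval₂RingHom (ιg : A →+* B) z))
    (hθι : ∀ a, θg (ιg a) = a) (hθz : θg z = 0) (b : B) :
    b - ιg (θg b) ∈ Ideal.span {z} := by
  obtain ⟨p, rfl⟩ := hbij.2 b
  have h1 : θg (eval₂ (ιg : A →+* B) z p) = p.coeff 0 := by
    have := Polynomial.hom_eval₂ p (ιg : A →+* B) (θg : B →+* A) z
    have e : ((θg : B →+* A).comp (ιg : A →+* B)) = RingHom.id A := RingHom.ext hθι
    have hz' : (θg : B →+* A) z = 0 := hθz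
    rw [e, hz', eval₂_at_zero] at this
    exact this
  show eval₂ (ιg : A →+* B) z p - ιg (θg (eval₂ (ιg : A →+* B) z p)) ∈ _
  rw [h1]
  have h2 : eval₂ (ιg : A →+* B) z p = eval₂ (ιg : A →+* B) z p.divX * z + ιg (p.coeff 0) := by
    conv_lhs => rw [← divX_mul_X_add p]
    rw [eval₂_add, eval₂_mul, eval₂_X, eval₂_C]
    rfl
  have : eval₂ (ιg : A →+* B) z p - ιg (p.coeff 0) = eval₂ (ιg : A →+* B) z p.divX * z := by
    rw [h2]; ring
  rw [this]
  exact Ideal.mul_mem_left _ _ (Ideal.subset_span rfl)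

include hz in
theorem exists_comap_eq (hbij : Function.Bijective (eval₂RingHom (ιg : A →+* B) z))
    (hθι : ∀ a, θg (ιg a) = a) (hθz : θg z = 0) (hirr : (𝒜)₊ ≤ ((ℬ)₊).map θg)
    (x : ProjectiveSpectrum ℬ) (hzx : z ∈ x.asHomogeneousIdeal) :
    ∃ x' : ProjectiveSpectrum 𝒜, ProjectiveSpectrum.comap θg hirr x' = x := by
  have hnot : ¬ (𝒜)₊ ≤ x.asHomogeneousIdeal.comap ιg := by
    intro hle
    apply x.not_irrelevant_le
    have hspan := irrelevant_le_span 𝒜 ℬ (ιg : A →+* B) (fun i a ha => ιg.map_mem ha) z hz hbij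
    have : ((ℬ)₊).toIdeal ≤ x.asHomogeneousIdeal.toIdeal := by
      refine hspan.trans ?_
      rw [Ideal.span_le]
      rintro b (⟨a, ha, rfl⟩ | rfl)
      · exact hle ha
      · exact hzx
    exact this
  refine ⟨⟨x.asHomogeneousIdeal.comap ιg, x.isPrime.comap ιg, hnot⟩, ?_⟩
  apply ProjectiveSpectrum.ext
  apply HomogeneousIdeal.ext
  ext b
  show ιg (θg b) ∈ x.asHomogeneousIdeal ↔ b ∈ x.asHomogeneousIdeal
  have hmem : b - ιg (θg b) ∈ x.asHomogeneousIdeal.toIdeal := by
    have h1 := sub_mem_span (𝒜 := 𝒜) (ℬ := ℬ) (ιg := ιg) (θg := θg) (z := z) hbij hθι hθz b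
    have h2 : Ideal.span {z} ≤ x.asHomogeneousIdeal.toIdeal := by
      rw [Ideal.span_le, Set.singleton_subset_iff]; exact hzx
    exact h2 h1
  constructor
  · intro hh
    have hh' : ιg (θg b) ∈ x.asHomogeneousIdeal.toIdeal := hh
    have := add_mem hmem hh'
    rwa [sub_add_cancel] at this
  · intro hh
    have hh' : b ∈ x.asHomogeneousIdeal.toIdeal := hh
    have := sub_mem hh' hmem
    rwa [sub_sub_cancel] at this


end Cone

end Groth.Agent.Helper1.PolyGrS
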