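import Mathlib
import Groth.Agent.Lib.Helper1.PolyGrS

/-!
# Ring-level facts on the projective cone `S[z]` (helper1 library)
-/

open Polynomial AlgebraicGeometry HomogeneousLocalization
open scoped HomogeneousIdeal

universe u

namespace Groth.Agent.Helper1.ConeRing

section
variable {A B σ τ : Type*} [CommRing A] [CommRing B] [SetLike σ A] [AddSubgroupClass σ A]
  [SetLike τ B] [AddSubgroupClass τ B] {𝒜 : ℕ → σ} {ℬ : ℕ → τ}
  [GradedRing 𝒜] [GradedRing ℬ] (φ : 𝒜 →+*ᵍ ℬ) (z : B) (hz : z ∈ ℬ 1)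
  (hbij : Function.Bijective (eval₂RingHom (φ : A →+* B) z))

/-- "set `z = 1`" -/
noncomputable def ev : B →+* A :=
  (evalRingHom 1).comp (RingEquiv.ofBijective _ hbij).symm.toRingHom

theorem ev_eval₂ (p : A[X]) : ev φ z hbij (eval₂ (φ : A →+* B) z p) = p.eval 1 := by
  have e : (RingEquiv.ofBijective _ hbij).symm (eval₂ (φ : A →+* B) z p) = p :=
    (RingEquiv.ofBijective _ hbij).symm_apply_apply p
  show (evalRingHom 1) ((RingEquiv.ofBijective _ hbij).symm (eval₂ (φ : A →+* B) z p)) = _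
  rw [e]
  rfl

theorem ev_z : ev φ z hbij z = 1 := by
  have := ev_eval₂ φ z hbij X
  rwa [eval₂_X, eval_X] at this

theorem ev_φ (a : A) : ev φ z hbij (φ a) = a := by
  have := ev_eval₂ φ z hbij (C a)
  rwa [eval₂_C, eval_C] at this

/-- the map `B_(z) → A` -/
noncomputable def toBase : Away ℬ z →+* A :=
  (IsLocalization.Away.lift z (g := ev φ z hbij)
      (by rw [ev_z]; exact isUnit_one)).comp
    (algebraMap (Away ℬ z) (Localization.Away z))

theorem toBase_of_val (q : Away ℬ z) (x : B) (k : ℕ)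
    (hq : q.val = Localization.mk x ⟨z ^ k, pow_mem (Submonoid.mem_powers z) k⟩) :
    toBase φ z hbij q = ev φ z hbij x := by
  rw [toBase, RingHom.comp_apply, HomogeneousLocalization.algebraMap_apply, hq,
    Localization.mk_eq_mk', IsLocalization.Away.lift, IsLocalization.lift_mk',
    Units.mul_inv_eq_iff_eq_mul, IsUnit.coe_liftRight]
  simp [map_pow, ev_z]

include hz in
theorem toBase_bijective : Function.Bijective (toBase φ z hbij) :=
  PolyGrS.bijective_of_rule 𝒜 ℬ (φ : A →+* B) (fun i a ha => φ.map_mem ha) z hz hbij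
    (ev φ z hbij) (ev_eval₂ φ z hbij) _ (fun q x k hq => toBase_of_val φ z hbij q x k hq)

include hz hbij in
theorem exists_equiv :
    ∃ θ : A ≃+* Away ℬ z, ∀ (n : ℕ) (a : A), a ∈ 𝒜 n →
      (θ a).val = Localization.mk (φ a) ⟨z ^ n, pow_mem (Submonoid.mem_powers z) n⟩ := by
  let e := RingEquiv.ofBijective _ (toBase_bijective φ z hz hbij)
  refine ⟨e.symm, fun n a ha => ?_⟩
  have hmem : φ a ∈ ℬ (n • 1) := by simpa using φ.map_mem ha
  have h1 : e.symm a = Away.mk ℬ hz n (φ a) hmem := by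
    rw [RingEquiv.symm_apply_eq]
    show a = toBase φ z hbij _
    rw [toBase_of_val φ z hbij _ (φ a) n (Away.val_mk ℬ n hz _ _), ev_φ]
  rw [h1, Away.val_mk]

end

end Groth.Agent.Helper1.ConeRing
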