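import Mathlib
universe u
open Set Topology TopologicalSpace

namespace Groth.Agent.Helper1.ConstrL
variable {X : Type*} [TopologicalSpace X]

/-- retrocompact open -/
def RO (U : Set X) : Prop := IsOpen U ∧ IsRetrocompact U

theorem RO.empty : RO (∅ : Set X) := ⟨isOpen_empty, .empty⟩
theorem RO.univ : RO (univ : Set X) := ⟨isOpen_univ, .univ⟩
theorem RO.union {U V : Set X} (hU : RO U) (hV : RO V) : RO (U ∪ V) :=
  ⟨hU.1.union hV.1, hU.2.union hV.2⟩
theorem RO.inter {U V : Set X} (hU : RO U) (hV : RO V) : RO (U ∩ V) :=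
  ⟨hU.1.inter hV.1, hU.2.inter_isOpen hV.2 hV.1⟩

/-- normal form of constructible sets: finite unions of `U ∩ Vᶜ`, `U, V` retrocompact open -/
inductive NF : Set X → Prop
  | piece (U V : Set X) (hU : RO U) (hV : RO V) : NF (U ∩ Vᶜ)
  | union (s t : Set X) : NF s → NF t → NF (s ∪ t)

theorem NF.empty : NF (∅ : Set X) := by
  have := NF.piece (∅ : Set X) ∅ RO.empty RO.empty
  rwa [empty_inter] at this

theorem NF.of_RO {U : Set X} (hU : RO U) : NF U := by
  have := NF.piece U ∅ hU RO.empty
  rwa [compl_empty, inter_univ] at this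

theorem NF.univ : NF (univ : Set X) := NF.of_RO RO.univ

theorem NF.compl_RO {U : Set X} (hU : RO U) : NF Uᶜ := by
  have := NF.piece Set.univ U RO.univ hU
  rwa [univ_inter] at this

theorem NF.inter_piece {s : Set X} (hs : NF s) (U V : Set X) (hU : RO U) (hV : RO V) :
    NF (s ∩ (U ∩ Vᶜ)) := by
  induction hs with
  | piece U' V' hU' hV' =>
    have : U' ∩ V'ᶜ ∩ (U ∩ Vᶜ) = (U' ∩ U) ∩ (V' ∪ V)ᶜ := by
      ext x; simp only [mem_inter_iff, mem_compl_iff, mem_union]; tauto
    rw [this]
    exact NF.piece _ _ (hU'.inter hU) (hV'.union hV)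
  | union s t _ _ ihs iht =>
    rw [union_inter_distrib_right]
    exact NF.union _ _ ihs iht

theorem NF.inter {s t : Set X} (hs : NF s) (ht : NF t) : NF (s ∩ t) := by
  induction ht with
  | piece U V hU hV => exact hs.inter_piece U V hU hV
  | union t₁ t₂ _ _ ih₁ ih₂ =>
    rw [inter_union_distrib_left]
    exact NF.union _ _ ih₁ ih₂

theorem NF.compl {s : Set X} (hs : NF s) : NF sᶜ := by
  induction hs with
  | piece U V hU hV =>
    have : (U ∩ Vᶜ)ᶜ = Uᶜ ∪ V := by
      ext x; simp only [mem_compl_iff, mem_inter_iff, mem_union]; tauto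
    rw [this]
    exact NF.union _ _ (NF.compl_RO hU) (NF.of_RO hV)
  | union s t _ _ ihs iht =>
    rw [compl_union]
    exact ihs.inter iht

theorem nf_of_isConstructible {s : Set X} (hs : IsConstructible s) : NF s := by
  induction hs using IsConstructible.empty_union_induction with
  | open_retrocompact U hUopen hUcomp => exact NF.of_RO ⟨hUopen, hUcomp⟩
  | union s _ t _ ihs iht => exact NF.union _ _ ihs iht
  | compl s _ ih => exact ih.compl

theorem NF.isConstructible {s : Set X} (hs : NF s) : IsConstructible s := by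
  induction hs with
  | piece U V hU hV =>
    exact (hU.2.isConstructible hU.1).inter (hV.2.isConstructible hV.1).compl
  | union s t _ _ ihs iht => exact ihs.union iht

theorem isConstructible_iff_nf {s : Set X} : IsConstructible s ↔ NF s :=
  ⟨nf_of_isConstructible, NF.isConstructible⟩

theorem NF.isRetrocompact {s : Set X} (hs : NF s) : IsRetrocompact s := by
  induction hs with
  | piece U V hU hV =>
    intro K hK hKo
    have : U ∩ Vᶜ ∩ K = (U ∩ K) ∩ Vᶜ := by
      ext x; simp only [mem_inter_iff, mem_compl_iff]; tauto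
    rw [this]
    exact (hU.2 hK hKo).inter_right hV.1.isClosed_compl
  | union s t _ _ ihs iht => exact ihs.union iht

/-- **S8344** -/
theorem isRetrocompact_of_isConstructible {s : Set X} (hs : IsConstructible s) :
    IsRetrocompact s := (nf_of_isConstructible hs).isRetrocompact

section Noeth

theorem NF.exists_locallyClosed {s : Set X} (hs : NF s) :
    ∃ (ι : Type) (_ : Fintype ι) (Z : ι → Set X), (∀ i, IsLocallyClosed (Z i)) ∧ s = ⋃ i, Z i := by
  induction hs with
  | piece U V hU hV =>
    refine ⟨Unit, inferInstance, fun _ => U ∩ Vᶜ, fun _ => ?_, ?_⟩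
    · exact hU.1.isLocallyClosed.inter hV.1.isClosed_compl.isLocallyClosed
    · exact (iUnion_const _).symm
  | union s t _ _ ihs iht =>
    obtain ⟨ι₁, _, Z₁, h₁, rfl⟩ := ihs
    obtain ⟨ι₂, _, Z₂, h₂, rfl⟩ := iht
    refine ⟨ι₁ ⊕ ι₂, inferInstance, Sum.elim Z₁ Z₂, ?_, ?_⟩
    · rintro (i | i)
      · exact h₁ i
      · exact h₂ i
    · rw [iUnion_sum]; rfl

theorem RO_of_isOpen [NoetherianSpace X] {U : Set X} (hU : IsOpen U) : RO U :=
  ⟨hU, fun _ _ _ => NoetherianSpace.isCompact _⟩

theorem isConstructible_of_isLocallyClosed [NoetherianSpace X] {Z : Set X}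
    (hZ : IsLocallyClosed Z) : IsConstructible Z := by
  obtain ⟨U, C, hU, hC, rfl⟩ := hZ
  have h1 := (RO_of_isOpen hU).2.isConstructible hU
  have h2 := ((RO_of_isOpen hC.isOpen_compl).2.isConstructible hC.isOpen_compl).compl
  rw [compl_compl] at h2
  exact h1.inter h2

/-- **S8345** -/
theorem isConstructible_iff_iUnion_locallyClosed [NoetherianSpace X] (s : Set X) :
    IsConstructible s ↔
      ∃ (n : ℕ) (Z : Fin n → Set X), (∀ i, IsLocallyClosed (Z i)) ∧ s = ⋃ i, Z i := by
  constructor
  · intro hs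
    obtain ⟨ι, _, Z, hZ, rfl⟩ := (nf_of_isConstructible hs).exists_locallyClosed
    let e := Fintype.equivFin ι
    refine ⟨Fintype.card ι, fun i => Z (e.symm i), fun i => hZ _, ?_⟩
    exact (e.symm.surjective.iUnion_comp Z).symm
  · rintro ⟨n, Z, hZ, rfl⟩
    exact IsConstructible.iUnion fun i => isConstructible_of_isLocallyClosed (hZ i)

/-- **S2395** -/
theorem dense_iff_exists_open_of_isConstructible [NoetherianSpace X] [IrreducibleSpace X]
    {E : Set X} (hE : IsConstructible E) :
    Dense E ↔ ∃ U : Set X, IsOpen U ∧ U.Nonempty ∧ U ⊆ E := by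
  constructor
  · intro hd
    have key : ∀ s : Set X, NF s → Dense s → ∃ U : Set X, IsOpen U ∧ U.Nonempty ∧ U ⊆ s := by
      intro s hs
      induction hs with
      | piece U V hU hV =>
        intro hd
        have hne : (U ∩ Vᶜ).Nonempty := hd.nonempty
        have hcl : closure (U ∩ Vᶜ) ⊆ Vᶜ :=
          closure_minimal inter_subset_right hV.1.isClosed_compl
        rw [hd.closure_eq] at hcl
        have hV0 : V = ∅ := by
          rw [← compl_univ_iff]; exact univ_subset_iff.mp hcl
        subst hV0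
        rw [compl_empty, inter_univ] at hne ⊢
        exact ⟨U, hU.1, hne, subset_rfl⟩
      | union s t _ _ ihs iht =>
        intro hd
        have h1 : closure s ∪ closure t = univ := by
          rw [← closure_union]; exact hd.closure_eq
        have h2 : closure s = univ ∨ closure t = univ := by
          have hirr : IsPreirreducible (univ : Set X) := PreirreducibleSpace.isPreirreducible_univ
          have := isPreirreducible_iff_isClosed_union_isClosed.mp hirr (closure s) (closure t)
            isClosed_closure isClosed_closure (by rw [h1])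
          rcases this with h | h
          · exact Or.inl (univ_subset_iff.mp h)
          · exact Or.inr (univ_subset_iff.mp h)
        rcases h2 with h | h
        · obtain ⟨U, hU, hne, hsub⟩ := ihs (dense_iff_closure_eq.mpr h)
          exact ⟨U, hU, hne, hsub.trans subset_union_left⟩
        · obtain ⟨U, hU, hne, hsub⟩ := iht (dense_iff_closure_eq.mpr h)
          exact ⟨U, hU, hne, hsub.trans subset_union_right⟩
    exact key E (nf_of_isConstructible hE) hd
  · rintro ⟨U, hU, hne, hsub⟩
    exact (hU.dense hne).mono hsub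

end Noeth

section NoethInd

/-- Noetherian induction on closed subsets, split into empty / reducible / irreducible. -/
theorem closed_induction [NoetherianSpace X] (P : Set X → Prop) (h0 : P ∅)
    (hunion : ∀ Y₁ Y₂ : Set X, IsClosed Y₁ → IsClosed Y₂ → P Y₁ → P Y₂ → P (Y₁ ∪ Y₂))
    (hirr : ∀ Y : Set X, IsClosed Y → IsIrreducible Y →
      (∀ Y' : Set X, IsClosed Y' → Y' ⊂ Y → P Y') → P Y) :
    ∀ Y : Set X, IsClosed Y → P Y := by
  suffices H : ∀ Y : Closeds X, P (Y : Set X) from fun Y hY => H ⟨Y, hY⟩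
  intro Y
  induction Y using WellFoundedLT.induction with
  | ind Y ih =>
    by_cases hne : (Y : Set X).Nonempty
    · by_cases hpre : IsPreirreducible (Y : Set X)
      · refine hirr _ Y.isClosed ⟨hne, hpre⟩ ?_
        intro Y' hY' hlt
        exact ih ⟨Y', hY'⟩ (by
          rw [← SetLike.coe_ssubset_coe]
          exact hlt)
      · rw [isPreirreducible_iff_isClosed_union_isClosed] at hpre
        push Not at hpre
        obtain ⟨z₁, z₂, hz₁, hz₂, hsub, h1, h2⟩ := hpre
        have e : (Y : Set X) = ((Y : Set X) ∩ z₁) ∪ ((Y : Set X) ∩ z₂) := by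
          rw [← inter_union_distrib_left]
          exact (inter_eq_left.mpr hsub).symm
        rw [e]
        apply hunion _ _ (Y.isClosed.inter hz₁) (Y.isClosed.inter hz₂)
        · refine ih ⟨(Y : Set X) ∩ z₁, Y.isClosed.inter hz₁⟩ ?_
          rw [← SetLike.coe_ssubset_coe]
          refine ⟨inter_subset_left, fun h => h1 (fun x hx => (h hx).2)⟩
        · refine ih ⟨(Y : Set X) ∩ z₂, Y.isClosed.inter hz₂⟩ ?_
          rw [← SetLike.coe_ssubset_coe]
          refine ⟨inter_subset_left, fun h => h2 (fun x hx => (h hx).2)⟩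
    · rw [not_nonempty_iff_eq_empty] at hne
      rw [hne]
      exact h0

/-- relative form of S2395 (no Noetherian hypothesis needed) -/
theorem NF.exists_open_of_subset_closure {s : Set X} (hs : NF s) {Y : Set X}
    (hY : IsIrreducible Y) (hd : Y ⊆ closure (s ∩ Y)) :
    ∃ U : Set X, IsOpen U ∧ (U ∩ Y).Nonempty ∧ U ∩ Y ⊆ s := by
  induction hs with
  | piece U V hU hV =>
    have hcl : closure (U ∩ Vᶜ ∩ Y) ⊆ Vᶜ :=
      closure_minimal (fun x hx => hx.1.2) hV.1.isClosed_compl
    have hYV : Y ⊆ Vᶜ := hd.trans hcl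
    have hne : (U ∩ Vᶜ ∩ Y).Nonempty := by
      by_contra h
      rw [not_nonempty_iff_eq_empty] at h
      rw [h, closure_empty] at hd
      exact hY.1.ne_empty (subset_empty_iff.mp hd)
    obtain ⟨x, hx⟩ := hne
    exact ⟨U, hU.1, ⟨x, hx.1.1, hx.2⟩, fun y hy => ⟨hy.1, hYV hy.2⟩⟩
  | union s t _ _ ihs iht =>
    rw [union_inter_distrib_right, closure_union] at hd
    rcases isPreirreducible_iff_isClosed_union_isClosed.mp hY.2 _ _ isClosed_closure
      isClosed_closure hd with h | h
    · obtain ⟨U, hU, hne, hsub⟩ := ihs h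
      exact ⟨U, hU, hne, hsub.trans subset_union_left⟩
    · obtain ⟨U, hU, hne, hsub⟩ := iht h
      exact ⟨U, hU, hne, hsub.trans subset_union_right⟩

theorem dense_preimage_iff {Y E : Set X} :
    Dense (Subtype.val ⁻¹' E : Set Y) ↔ Y ⊆ closure (E ∩ Y) := by
  rw [Subtype.dense_iff, Subtype.image_preimage_coe, inter_comm]

/-- **S2399** -/
theorem isOpen_iff_forall_irreducible [NoetherianSpace X] (E : Set X) :
    IsOpen E ↔
      ∀ Y : Set X, IsClosed Y → IsIrreducible Y → (E ∩ Y).Nonempty →
        ∃ U : Set X, IsOpen U ∧ (U ∩ Y).Nonempty ∧ U ∩ Y ⊆ E := by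
  constructor
  · intro hE Y _ _ hne
    exact ⟨E, hE, hne, inter_subset_left⟩
  · intro H
    have key : ∀ Y : Set X, IsClosed Y → IsClosed (Y \ E) := by
      apply closed_induction
      · rw [empty_sdiff]; exact isClosed_empty
      · intro Y₁ Y₂ _ _ h1 h2
        rw [union_sdiff_distrib]
        exact h1.union h2
      · intro Y hY hirr ih
        by_cases hne : (E ∩ Y).Nonempty
        · obtain ⟨U, hU, hUne, hUsub⟩ := H Y hY hirr hne
          have hY' : IsClosed (Y \ U) := hY.sdiff hU
          have hlt : Y \ U ⊂ Y := by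
            refine ⟨sdiff_subset, fun h => ?_⟩
            obtain ⟨x, hxU, hxY⟩ := hUne
            exact (h hxY).2 hxU
          have := ih _ hY' hlt
          have e : Y \ E = (Y \ U) \ E := by
            ext x
            simp only [mem_sdiff]
            constructor
            · rintro ⟨hxY, hxE⟩
              exact ⟨⟨hxY, fun hxU => hxE (hUsub ⟨hxU, hxY⟩)⟩, hxE⟩
            · rintro ⟨⟨hxY, _⟩, hxE⟩
              exact ⟨hxY, hxE⟩
          rw [e]; exact this
        · rw [not_nonempty_iff_eq_empty] at hne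
          have : Y \ E = Y := by
            ext x
            simp only [mem_sdiff, and_iff_left_iff_imp]
            intro hxY hxE
            have : x ∈ E ∩ Y := ⟨hxE, hxY⟩
            rw [hne] at this
            exact this
          rw [this]; exact hY
    have := key univ isClosed_univ
    rw [← compl_eq_univ_sdiff] at this
    exact isClosed_compl_iff.mp this

end NoethInd

section NoethCrit

/-- **S2397** -/
theorem exists_eq_univ_of_monotone [NoetherianSpace X] {ι : Type*} [Preorder ι]
    [IsDirected ι (· ≤ ·)] [Nonempty ι]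
    (E : ι → Set X) (hmono : Monotone E) (hE : ∀ a, IsConstructible (E a))
    (hirr : ∀ Y : Set X, IsClosed Y → IsIrreducible Y → ∃ a, Y ⊆ closure (E a ∩ Y)) :
    ∃ a, E a = Set.univ := by
  have key : ∀ Y : Set X, IsClosed Y → ∃ a, Y ⊆ E a := by
    apply closed_induction
    · exact ⟨Classical.arbitrary ι, empty_subset _⟩
    · rintro Y₁ Y₂ _ _ ⟨a, ha⟩ ⟨b, hb⟩
      obtain ⟨c, hac, hbc⟩ := exists_ge_ge a b
      exact ⟨c, union_subset (ha.trans (hmono hac)) (hb.trans (hmono hbc))⟩
    · intro Y hY hYirr ih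
      obtain ⟨a, ha⟩ := hirr Y hY hYirr
      obtain ⟨U, hU, hUne, hUsub⟩ := (nf_of_isConstructible (hE a)).exists_open_of_subset_closure
        hYirr ha
      have hlt : Y \ U ⊂ Y := by
        refine ⟨sdiff_subset, fun h => ?_⟩
        obtain ⟨x, hxU, hxY⟩ := hUne
        exact (h hxY).2 hxU
      obtain ⟨b, hb⟩ := ih _ (hY.sdiff hU) hlt
      obtain ⟨c, hac, hbc⟩ := exists_ge_ge a b
      refine ⟨c, fun x hx => ?_⟩
      by_cases hxU : x ∈ U
      · exact hmono hac (hUsub ⟨hxU, hx⟩)
      · exact hmono hbc (hb ⟨hx, hxU⟩)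
  obtain ⟨a, ha⟩ := key univ isClosed_univ
  exact ⟨a, univ_subset_iff.mp ha⟩

/-- **S2398** -/
theorem mem_nhds_iff_forall_irreducible [NoetherianSpace X] (x : X) {E : Set X}
    (hE : IsConstructible E) :
    E ∈ nhds x ↔
      ∀ Y : Set X, IsClosed Y → IsIrreducible Y → x ∈ Y → Dense (Subtype.val ⁻¹' E : Set Y) := by
  constructor
  · intro hEx Y hY hYirr hxY
    rw [dense_preimage_iff]
    obtain ⟨U, hUE, hU, hxU⟩ := mem_nhds_iff.mp hEx
    -- U ∩ Y is a nonempty open subset of the irreducible Y hence dense in Y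
    intro y hy
    rw [mem_closure_iff]
    intro V hV hyV
    have := hYirr.2 V U hV hU ⟨y, hy, hyV⟩ ⟨x, hxY, hxU⟩
    obtain ⟨z, hzY, hzV, hzU⟩ := this
    exact ⟨z, hzV, hUE hzU, hzY⟩
  · intro H
    have key : ∀ Y : Set X, IsClosed Y → ∃ U : Set X, IsOpen U ∧ x ∈ U ∧ U ∩ Y ⊆ E := by
      apply closed_induction
      · exact ⟨univ, isOpen_univ, mem_univ _, by simp⟩
      · rintro Y₁ Y₂ _ _ ⟨U₁, hU₁, hx₁, h₁⟩ ⟨U₂, hU₂, hx₂, h₂⟩
        refine ⟨U₁ ∩ U₂, hU₁.inter hU₂, ⟨hx₁, hx₂⟩, ?_⟩
        rintro y ⟨⟨hy1, hy2⟩, hy | hy⟩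
        · exact h₁ ⟨hy1, hy⟩
        · exact h₂ ⟨hy2, hy⟩
      · intro Y hY hYirr ih
        by_cases hxY : x ∈ Y
        · have hd := dense_preimage_iff.mp (H Y hY hYirr hxY)
          obtain ⟨U, hU, hUne, hUsub⟩ := (nf_of_isConstructible hE).exists_open_of_subset_closure
            hYirr hd
          by_cases hxU : x ∈ U
          · exact ⟨U, hU, hxU, hUsub⟩
          · have hlt : Y \ U ⊂ Y := by
              refine ⟨sdiff_subset, fun h => ?_⟩
              obtain ⟨z, hzU, hzY⟩ := hUne
              exact (h hzY).2 hzU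
            obtain ⟨U', hU', hxU', hsub'⟩ := ih _ (hY.sdiff hU) hlt
            refine ⟨U', hU', hxU', ?_⟩
            rintro y ⟨hyU', hyY⟩
            by_cases hyU : y ∈ U
            · exact hUsub ⟨hyU, hyY⟩
            · exact hsub' ⟨hyU', hyY, hyU⟩
        · exact ⟨Yᶜ, hY.isOpen_compl, hxY, by simp⟩
    obtain ⟨U, hU, hxU, hsub⟩ := key univ isClosed_univ
    rw [inter_univ] at hsub
    exact mem_nhds_iff.mpr ⟨U, hsub, hU, hxU⟩

end NoethCrit

section NoethCrit2

theorem isNowhereDense_preimage_of_not_subset {Y E : Set X} (hY : IsIrreducible Y)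
    (h : ¬ Y ⊆ closure (E ∩ Y)) : IsNowhereDense (Subtype.val ⁻¹' E : Set Y) := by
  rw [IsNowhereDense, eq_empty_iff_forall_notMem]
  intro w hw
  apply h
  rw [mem_interior] at hw
  obtain ⟨W', hW'sub, hW'open, hwW'⟩ := hw
  obtain ⟨W, hW, rfl⟩ := isOpen_induced_iff.mp hW'open
  have hsub : W ∩ Y ⊆ closure (E ∩ Y) := by
    rintro z ⟨hzW, hzY⟩
    have hz : (⟨z, hzY⟩ : Y) ∈ closure (Subtype.val ⁻¹' E : Set Y) := hW'sub hzW
    rw [Topology.IsInducing.subtypeVal.closure_eq_preimage_closure_image,
      Subtype.image_preimage_coe, inter_comm] at hz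
    exact hz
  intro y hy
  rw [mem_closure_iff]
  intro V hV hyV
  obtain ⟨z, hzY, hzV, hzW⟩ := hY.2 V W hV hW ⟨y, hy, hyV⟩ ⟨w, w.2, hwW'⟩
  have hzC := hsub ⟨hzW, hzY⟩
  rw [mem_closure_iff] at hzC
  obtain ⟨t, ⟨htV, _⟩, ht⟩ := hzC (V ∩ W) (hV.inter hW) ⟨hzV, hzW⟩
  exact ⟨t, htV, ht⟩

/-- **S2396** -/
theorem isConstructible_iff_forall_irreducible [NoetherianSpace X] (E : Set X) :
    IsConstructible E ↔
      ∀ Y : Set X, IsClosed Y → IsIrreducible Y →
        IsNowhereDense (Subtype.val ⁻¹' E : Set Y) ∨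
          ∃ U : Set X, IsOpen U ∧ (U ∩ Y).Nonempty ∧ U ∩ Y ⊆ E := by
  constructor
  · intro hE Y hY hYirr
    by_cases h : Y ⊆ closure (E ∩ Y)
    · exact Or.inr ((nf_of_isConstructible hE).exists_open_of_subset_closure hYirr h)
    · exact Or.inl (isNowhereDense_preimage_of_not_subset hYirr h)
  · intro H
    have key : ∀ Y : Set X, IsClosed Y → IsConstructible (E ∩ Y) := by
      apply closed_induction
      · rw [inter_empty]; exact IsConstructible.empty
      · intro Y₁ Y₂ _ _ h1 h2
        rw [inter_union_distrib_left]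
        exact h1.union h2
      · intro Y hY hYirr ih
        rcases H Y hY hYirr with hA | ⟨U, hU, hUne, hUsub⟩
        · -- nowhere dense case
          have hC : closure (E ∩ Y) ⊆ Y := closure_minimal inter_subset_right hY
          have hne : ¬ Y ⊆ closure (E ∩ Y) := by
            intro hd
            have hdense : Dense (Subtype.val ⁻¹' E : Set Y) := dense_preimage_iff.mpr hd
            rw [IsNowhereDense, hdense.closure_eq, interior_univ] at hA
            obtain ⟨y, hy⟩ := hYirr.1
            have : (⟨y, hy⟩ : Y) ∈ (univ : Set Y) := mem_univ _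
            rw [hA] at this
            exact this
          have hlt : closure (E ∩ Y) ⊂ Y := ⟨hC, hne⟩
          have := ih _ isClosed_closure hlt
          have e : E ∩ Y = E ∩ closure (E ∩ Y) := by
            ext x
            constructor
            · intro hx; exact ⟨hx.1, subset_closure hx⟩
            · intro hx; exact ⟨hx.1, hC hx.2⟩
          rw [e]; exact this
        · have hlt : Y \ U ⊂ Y := by
            refine ⟨sdiff_subset, fun h => ?_⟩
            obtain ⟨z, hzU, hzY⟩ := hUne
            exact (h hzY).2 hzU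
          have h1 := ih _ (hY.sdiff hU) hlt
          have h2 : IsConstructible (U ∩ Y) :=
            isConstructible_of_isLocallyClosed (hU.isLocallyClosed.inter hY.isLocallyClosed)
          have e : E ∩ Y = (U ∩ Y) ∪ (E ∩ (Y \ U)) := by
            ext x
            constructor
            · rintro ⟨hxE, hxY⟩
              by_cases hxU : x ∈ U
              · exact Or.inl ⟨hxU, hxY⟩
              · exact Or.inr ⟨hxE, hxY, hxU⟩
            · rintro (hx | hx)
              · exact ⟨hUsub hx, hx.2⟩
              · exact ⟨hx.1, hx.2.1⟩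
          rw [e]; exact h2.union h1
    have := key univ isClosed_univ
    rwa [inter_univ] at this

end NoethCrit2

section LocConstr

/-- **S8346** -/
theorem isRetrocompact_of_isLocallyConstructible
    {B : Set (Set X)} (hB : IsTopologicalBasis B) (hBr : ∀ U ∈ B, IsRetrocompact U) {T : Set X}
    (hT : IsLocallyConstructible T) : IsRetrocompact T := by
  intro K hKc hKo
  -- local pieces
  have hloc : ∀ x ∈ K, ∃ b : Set X, b ∈ nhds x ∧ b ⊆ K ∧ IsCompact (T ∩ b) := by
    intro x hxK
    obtain ⟨U, hxU, hU, hc⟩ := hT x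
    obtain ⟨b, hbB, hxb, hbsub⟩ := hB.exists_subset_of_mem_open
      (show x ∈ U ∩ K from ⟨mem_of_mem_nhds hxU, hxK⟩) (hU.inter hKo)
    have hbo : IsOpen b := hB.isOpen hbB
    have hbK : b ⊆ K := hbsub.trans inter_subset_right
    have hbU : b ⊆ U := hbsub.trans inter_subset_left
    have hbc : IsCompact b := by
      have := hBr b hbB hKc hKo
      rwa [inter_eq_left.mpr hbK] at this
    refine ⟨b, hbo.mem_nhds hxb, hbK, ?_⟩
    have hret : IsRetrocompact (Subtype.val ⁻¹' T : Set U) := isRetrocompact_of_isConstructible hc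
    have hb'c : IsCompact (Subtype.val ⁻¹' b : Set U) := by
      rw [Subtype.isCompact_iff, Subtype.image_preimage_coe, inter_eq_right.mpr hbU]
      exact hbc
    have hb'o : IsOpen (Subtype.val ⁻¹' b : Set U) := hbo.preimage continuous_subtype_val
    have h1 := hret hb'c hb'o
    rw [Subtype.isCompact_iff, ← preimage_inter, Subtype.image_preimage_coe] at h1
    have e : U ∩ (T ∩ b) = T ∩ b := inter_eq_right.mpr (inter_subset_right.trans hbU)
    rwa [e] at h1
  choose! b hbn hbK hbc using hloc
  obtain ⟨t, htK, hcov⟩ := hKc.elim_nhds_subcover b hbn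
  have e : T ∩ K = ⋃ x ∈ t, T ∩ b x := by
    ext y
    simp only [mem_inter_iff, mem_iUnion, exists_prop]
    constructor
    · rintro ⟨hyT, hyK⟩
      have := hcov hyK
      simp only [mem_iUnion, exists_prop] at this
      obtain ⟨x, hxt, hyb⟩ := this
      exact ⟨x, hxt, hyT, hyb⟩
    · rintro ⟨x, hxt, hyT, hyb⟩
      exact ⟨hyT, hbK x (htK x hxt) hyb⟩
  rw [e]
  exact t.isCompact_biUnion fun x hx => hbc x (htK x hx)

end LocConstr

end Groth.Agent.Helper1.ConstrL
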