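import Mathlib
import Groth.Agent.Lib.Helper1.SpFib5

/-!
# A section of a regular scheme over a discrete valuation ring meets the closed fibre in a smooth
rational point (helper1)
-/

set_option autoImplicit false
set_option backward.isDefEq.respectTransparency.types false
universe u
open CategoryTheory CategoryTheory.Limits AlgebraicGeometry TopologicalSpace Opposite IsLocalRing

namespace Groth.Agent.Helper1.SpFib

section Alg2

variable {A : Type u} [CommRing A] (𝔭 : Ideal A) [h𝔭 : 𝔭.IsPrime] (B : Type u) [CommRing B]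
  [Algebra A B] [IsLocalization.AtPrime B 𝔭] [IsDomain B] [UniqueFactorizationMonoid B]
  (ϖ : A) {n : ℕ} (P : Fin n → Ideal A)

theorem unique_of_prime (hϖB : algebraMap A B ϖ ≠ 0)
    (hP : ∀ j, ϖ ∈ P j)
    (hPtop : ∀ j, ¬ (P j).IsPrime → P j = ⊤)
    (hkey : ∀ j j', (P j).IsPrime → (P j').IsPrime → P j' ≤ P j → j' = j)
    (hcov : ∀ 𝔮 : Ideal A, 𝔮.IsPrime → ϖ ∈ 𝔮 → ∃ j, (P j).IsPrime ∧ P j ≤ 𝔮)
    (m : Fin n → ℕ)
    (hm1 : ∀ j, (P j).IsPrime → ∃ s : A, s ∉ P j ∧ s * ϖ ∈ (P j) ^ (m j))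
    (hm2 : ∀ j, (P j).IsPrime → ∀ t : A, t ∉ P j → t * ϖ ∉ (P j) ^ (m j + 1))
    (hprime : Prime (algebraMap A B ϖ)) :
    (∀ j j', (P j).IsPrime → P j ≤ 𝔭 → (P j').IsPrime → P j' ≤ 𝔭 → j = j') ∧
      (∀ j, (P j).IsPrime → P j ≤ 𝔭 → m j = 1) := by
  have hfac := map_span_eq_prod 𝔭 B ϖ P hϖB hP hPtop hkey hcov m hm1 hm2
  have hassoc : ∀ j, (P j).IsPrime → P j ≤ 𝔭 → ∃ q : B, Prime q ∧
      (P j).map (algebraMap A B) = Ideal.span {q} ∧ q ^ m j ∣ algebraMap A B ϖ := by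
    intro j hj hle
    obtain ⟨q, hq, hqe⟩ := exists_prime_gen 𝔭 B ϖ P hϖB hkey hcov j hj (hP j) hle
    refine ⟨q, hq, hqe, ?_⟩
    have h1 : Ideal.span {algebraMap A B ϖ} ≤ ((P j).map (algebraMap A B)) ^ m j := by
      rw [hfac]
      exact Ideal.prod_le_inf.trans (Finset.inf_le (Finset.mem_univ j))
    rw [hqe, Ideal.span_singleton_pow, Ideal.span_singleton_le_span_singleton] at h1
    exact h1
  have hm0 : ∀ j, (P j).IsPrime → m j ≠ 0 := by
    intro j hj h0
    apply hm2 j hj 1 (fun h1 => hj.ne_top ((Ideal.eq_top_iff_one _).2 h1))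
    rw [h0, zero_add, pow_one, one_mul]
    exact hP j
  have hq_assoc : ∀ j, (P j).IsPrime → ∀ q : B, Prime q → q ^ m j ∣ algebraMap A B ϖ →
      Associated q (algebraMap A B ϖ) := by
    intro j hj q hq hdvd
    have hq1 : q ∣ algebraMap A B ϖ := (dvd_pow_self q (hm0 j hj)).trans hdvd
    obtain ⟨d, hd⟩ := hq1
    rcases hprime.irreducible.isUnit_or_isUnit hd with h | h
    · exact absurd h hq.not_isUnit
    · obtain ⟨u, rfl⟩ := h
      exact ⟨u, hd.symm⟩
  constructor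
  · intro j j' hj hle hj' hle'
    obtain ⟨q, hq, hqe, hqd⟩ := hassoc j hj hle
    obtain ⟨q', hq', hqe', hqd'⟩ := hassoc j' hj' hle'
    have h1 := hq_assoc j hj q hq hqd
    have h2 := hq_assoc j' hj' q' hq' hqd'
    have h3 : (P j).map (algebraMap A B) = (P j').map (algebraMap A B) := by
      rw [hqe, hqe', Ideal.span_singleton_eq_span_singleton]
      exact h1.trans h2.symm
    have h4 := congrArg (Ideal.comap (algebraMap A B)) h3
    rw [comap_map_eq 𝔭 B hj hle, comap_map_eq 𝔭 B hj' hle'] at h4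
    exact (hkey j j' hj hj' h4.ge).symm
  · intro j hj hle
    obtain ⟨q, hq, hqe, hqd⟩ := hassoc j hj hle
    have h1 := hq_assoc j hj q hq hqd
    by_contra hne
    have h2 : 2 ≤ m j := by
      have := hm0 j hj
      omega
    have h3 : q ^ 2 ∣ algebraMap A B ϖ := (pow_dvd_pow q h2).trans hqd
    have h4 : q ^ 2 ∣ q := h3.trans h1.symm.dvd
    obtain ⟨t, ht⟩ := h4
    have h5 : q * 1 = q * (q * t) := by
      rw [mul_one, ← mul_assoc, ← pow_two]
      exact ht
    have h6 : 1 = q * t := mul_left_cancel₀ hq.ne_zero h5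
    exact hq.not_isUnit (IsUnit.of_mul_eq_one t h6.symm)

end Alg2

section Comp

variable (R : Type u) [CommRing R] [IsDomain R] [IsDiscreteValuationRing R]
  (X : Over (Spec (CommRingCat.of R)))
  (hreg : ∀ x : X.left, IsRegularLocalRing (X.left.presheaf.stalk x))
  [Flat X.hom] {n : ℕ} (Γ : Fin n → ArSurf.VertComp R X)
  (hinj : Function.Injective fun i => Set.range (Γ i).ι.base)
  (hcov : ∀ x : X.left, X.hom.base x = closedPoint R → ∃ i, x ∈ Set.range (Γ i).ι.base)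

include hreg hinj hcov in
/-- at a point where the uniformizer is a prime element there is only one component, of
multiplicity one -/
theorem component_unique_of_prime (ϖ : R) (hϖ : Irreducible ϖ) (U : X.left.affineOpens)
    (x : X.left) (hx : x ∈ U.1)
    (hprime : Prime ((X.left.presheaf.germ U.1 x hx).hom (sec R X ϖ U.1))) :
    (∀ j j', x ∈ Set.range (Γ j).ι.base → x ∈ Set.range (Γ j').ι.base → j = j') ∧
      (∀ j, x ∈ Set.range (Γ j).ι.base → Models.mult R X (Γ j) = 1) := by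
  have hnz : sec R X ϖ U.1 ∈ nonZeroDivisors Γ(X.left, U.1) :=
    sec_mem_nonZeroDivisors R X ϖ hϖ.ne_zero U
  have hP : ∀ j, sec R X ϖ U.1 ∈ (Γ j).ι.ker.ideal U := fun j =>
    sec_mem_ker R X (Γ j) ϖ
      (by rw [hϖ.maximalIdeal_eq]; exact Ideal.mem_span_singleton_self ϖ) U
  have hprime_of_mem : ∀ j, (Γ j).ι.base (genericPoint (Γ j).curve.left) ∈ U.1 →
      ((Γ j).ι.ker.ideal U).IsPrime := by
    intro j h
    rw [ker_eq_pt R X (Γ j) U h]
    exact pt_isPrime U _ h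
  have hmem_of_prime : ∀ j, ((Γ j).ι.ker.ideal U).IsPrime →
      (Γ j).ι.base (genericPoint (Γ j).curve.left) ∈ U.1 := by
    intro j hj
    by_contra hn
    exact hj.ne_top (ker_eq_top_of_notMem R X (Γ j) U hn)
  have hPtop : ∀ j, ¬ ((Γ j).ι.ker.ideal U).IsPrime → (Γ j).ι.ker.ideal U = ⊤ := by
    intro j hj
    by_cases h : (Γ j).ι.base (genericPoint (Γ j).curve.left) ∈ U.1
    · exact absurd (hprime_of_mem j h) hj
    · exact ker_eq_top_of_notMem R X (Γ j) U h
  have hkey : ∀ j j', ((Γ j).ι.ker.ideal U).IsPrime → ((Γ j').ι.ker.ideal U).IsPrime →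
      (Γ j').ι.ker.ideal U ≤ (Γ j).ι.ker.ideal U → j' = j := by
    intro j j' hj hj' hle
    have h := hmem_of_prime j hj
    rw [ker_eq_pt R X (Γ j) U h] at hle
    have hsupp := (le_pt_iff U _ h (Γ j').ι.ker).1 hle
    by_contra hne
    have hr : Set.range (Γ j).ι.base ≠ Set.range (Γ j').ι.base := fun e => hne (hinj e).symm
    exact ArInt.genPt_notMem R X (Γ j) (Γ j') hr hsupp
  have hcov' : ∀ 𝔮 : Ideal Γ(X.left, U.1), 𝔮.IsPrime → sec R X ϖ U.1 ∈ 𝔮 →
      ∃ j, ((Γ j).ι.ker.ideal U).IsPrime ∧ (Γ j).ι.ker.ideal U ≤ 𝔮 := by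
    intro 𝔮 h𝔮 ha
    have hy := fromSpec_mem U (⟨𝔮, h𝔮⟩ : PrimeSpectrum Γ(X.left, U.1))
    have hpt := pt_fromSpec U (⟨𝔮, h𝔮⟩ : PrimeSpectrum Γ(X.left, U.1)) hy
    have hpt' : pt U _ hy = 𝔮 := hpt
    have hax : sec R X ϖ U.1 ∈ pt U _ hy := by rw [hpt']; exact ha
    have hfib := base_eq_closedPoint_of_mem_pt R X ϖ hϖ U _ hy hax
    obtain ⟨j, hj⟩ := hcov _ hfib
    have hsupp := (Γ j).ι.range_subset_ker_support hj
    have hle := (le_pt_iff U _ hy (Γ j).ι.ker).2 hsupp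
    rw [hpt'] at hle
    refine ⟨j, ?_, hle⟩
    by_contra hnp
    rw [hPtop j hnp] at hle
    exact h𝔮.ne_top (top_le_iff.1 hle)
  have hm := fun j (hj : ((Γ j).ι.ker.ideal U).IsPrime) =>
    mult_spec_geom R X (Γ j) U hreg ϖ hϖ hnz (hmem_of_prime j hj)
      (hmin_of R X Γ hinj hcov ϖ hϖ U j hj)
  letI := X.left.presheaf.algebra_section_stalk ⟨x, hx⟩
  haveI := isLocalization_pt U x hx
  haveI := hreg x
  haveI : IsDomain (X.left.presheaf.stalk x) := Groth.Agent.Helper8.RLR.isDomain _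
  haveI : UniqueFactorizationMonoid (X.left.presheaf.stalk x) := Groth.Agent.Helper9.RegUFD.ufd _
  have hmain := unique_of_prime (pt U x hx) (X.left.presheaf.stalk x) (sec R X ϖ U.1)
    (fun j => (Γ j).ι.ker.ideal U) (algebraMap_ne_zero (pt U x hx) _ _ hnz) hP hPtop hkey hcov'
    (fun j => Models.mult R X (Γ j)) (fun j hj => (hm j hj).1) (fun j hj => (hm j hj).2) hprime
  have hthrough : ∀ j, x ∈ Set.range (Γ j).ι.base →
      ((Γ j).ι.ker.ideal U).IsPrime ∧ (Γ j).ι.ker.ideal U ≤ pt U x hx := by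
    intro j hj
    have hsupp := (Γ j).ι.range_subset_ker_support hj
    have hle := (le_pt_iff U x hx (Γ j).ι.ker).2 hsupp
    refine ⟨?_, hle⟩
    by_contra hnp
    rw [hPtop j hnp] at hle
    exact (pt_isPrime U x hx).ne_top (top_le_iff.1 hle)
  refine ⟨fun j j' hj hj' => ?_, fun j hj => ?_⟩
  · exact hmain.1 j j' (hthrough j hj).1 (hthrough j hj).2 (hthrough j' hj').1 (hthrough j' hj').2
  · exact hmain.2 j (hthrough j hj).1 (hthrough j hj).2

end Comp

section Sect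

variable (R : Type u) [CommRing R] [IsDomain R] [IsDiscreteValuationRing R]
  (X : Over (Spec (CommRingCat.of R)))
  (σ : Spec (CommRingCat.of R) ⟶ X.left) (hσ : σ ≫ X.hom = 𝟙 _)

theorem appLE_id_eq {Y : Scheme.{u}} (g : Y ⟶ Y) (hg : g = 𝟙 Y)
    (e : (⊤ : Y.Opens) ≤ g ⁻¹ᵁ ⊤) (a : Γ(Y, ⊤)) : (g.appLE ⊤ ⊤ e).hom a = a := by
  subst hg
  have h1 : Y.presheaf.map (homOfLE e).op = 𝟙 _ := Y.presheaf.map_id _
  show (Y.presheaf.map (homOfLE e).op).hom (((𝟙 Y : Y ⟶ Y).app ⊤).hom a) = a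
  rw [h1]
  rfl

variable (U : X.left.affineOpens) (hU : σ.base (closedPoint R) ∈ U.1)

include hU in
theorem preimage_eq_top : σ ⁻¹ᵁ U.1 = ⊤ :=
  (IsLocalRing.closed_point_mem_iff (R := R) (U := σ ⁻¹ᵁ U.1)).1 hU

/-- evaluation of functions along the section -/
noncomputable def τ : Γ(X.left, U.1) →+* R :=
  (Scheme.ΓSpecIso (CommRingCat.of R)).hom.hom.comp
    (σ.appLE U.1 ⊤ (preimage_eq_top R X σ U hU).ge).hom

include hσ in
theorem τ_sec (r : R) : τ R X σ U hU (sec R X r U.1) = r := by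
  have e : U.1 ≤ X.hom ⁻¹ᵁ (⊤ : (Spec (CommRingCat.of R)).Opens) := fun _ _ => trivial
  rw [sec_eq_appLE R X r U.1 e]
  have h1 := Scheme.Hom.appLE_comp_appLE σ X.hom ⊤ U.1 ⊤ e (preimage_eq_top R X σ U hU).ge
  have h2 := congrArg (fun g => g.hom ((Scheme.ΓSpecIso (CommRingCat.of R)).inv.hom r)) h1
  simp only [CommRingCat.hom_comp, RingHom.comp_apply] at h2
  unfold τ
  rw [RingHom.comp_apply, h2, appLE_id_eq _ hσ]
  rw [← RingHom.comp_apply, ← CommRingCat.hom_comp, Iso.inv_hom_id]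
  rfl

theorem mem_pt_iff_τ (a : Γ(X.left, U.1)) :
    a ∈ pt U _ hU ↔ τ R X σ U hU a ∈ maximalIdeal R := by
  rw [mem_pt_iff]
  have h1 : (Spec (CommRingCat.of R)).basicOpen
      ((σ.appLE U.1 ⊤ (preimage_eq_top R X σ U hU).ge).hom a) =
      PrimeSpectrum.basicOpen (τ R X σ U hU a) := basicOpen_eq_of_affine' _
  have h2 : (Spec (CommRingCat.of R)).basicOpen
      ((σ.appLE U.1 ⊤ (preimage_eq_top R X σ U hU).ge).hom a) =
      ⊤ ⊓ σ ⁻¹ᵁ X.left.basicOpen a := by
    rw [Scheme.preimage_basicOpen]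
    exact Scheme.basicOpen_res _ _ _
  have h3 : closedPoint R ∈ PrimeSpectrum.basicOpen (τ R X σ U hU a) ↔
      τ R X σ U hU a ∉ maximalIdeal R := Iff.rfl
  constructor
  · intro hn
    by_contra hc
    apply hn
    have h4 := h3.2 hc
    rw [← h1, h2] at h4
    exact h4.2
  · intro hm hmem
    have h4 : closedPoint R ∈ (⊤ ⊓ σ ⁻¹ᵁ X.left.basicOpen a : (Spec (CommRingCat.of R)).Opens) :=
      ⟨trivial, hmem⟩
    rw [← h2, h1] at h4
    exact h3.1 h4 hm

include hσ in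
theorem residue_germ_eq (c : Γ(X.left, U.1)) :
    IsLocalRing.residue (X.left.presheaf.stalk (σ.base (closedPoint R)))
        ((X.left.presheaf.germ U.1 _ hU).hom c) =
      IsLocalRing.residue (X.left.presheaf.stalk (σ.base (closedPoint R)))
        (Models.stalkHom R X (σ.base (closedPoint R)) (τ R X σ U hU c)) := by
  have h1 : c - sec R X (τ R X σ U hU c) U.1 ∈ pt U _ hU := by
    rw [mem_pt_iff_τ R X σ U hU, map_sub, τ_sec R X σ hσ U hU, sub_self]
    exact Ideal.zero_mem _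
  have h2 : (X.left.presheaf.germ U.1 _ hU).hom (sec R X (τ R X σ U hU c) U.1) =
      Models.stalkHom R X (σ.base (closedPoint R)) (τ R X σ U hU c) :=
    X.left.presheaf.germ_res_apply (homOfLE (le_top : U.1 ≤ ⊤)) _ hU _
  rw [← h2, ← sub_eq_zero, ← map_sub, ← map_sub, IsLocalRing.residue_eq_zero_iff]
  exact h1

include hσ hU in
theorem residue_stalkHom_surjective :
    Function.Surjective ((X.left.residue (σ.base (closedPoint R))).hom.comp
      (Models.stalkHom R X (σ.base (closedPoint R)))) := by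
  intro y
  obtain ⟨b, rfl⟩ := Scheme.residue_surjective X.left (σ.base (closedPoint R)) y
  letI := X.left.presheaf.algebra_section_stalk ⟨σ.base (closedPoint R), hU⟩
  haveI := isLocalization_pt U _ hU
  obtain ⟨⟨a, s⟩, hbs⟩ := IsLocalization.surj (pt U _ hU).primeCompl b
  have hs : τ R X σ U hU s.1 ∉ maximalIdeal R := fun h =>
    s.2 ((mem_pt_iff_τ R X σ U hU s.1).2 h)
  obtain ⟨u, hu⟩ := IsLocalRing.notMem_maximalIdeal.1 hs
  refine ⟨τ R X σ U hU a * ↑u⁻¹, ?_⟩
  have h1 := congrArg (IsLocalRing.residue (X.left.presheaf.stalk (σ.base (closedPoint R)))) hbs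
  rw [map_mul] at h1
  have h2 := residue_germ_eq R X σ hσ U hU s.1
  have h3 := residue_germ_eq R X σ hσ U hU a
  have h2' : IsLocalRing.residue (X.left.presheaf.stalk (σ.base (closedPoint R)))
      (algebraMap Γ(X.left, U.1) (X.left.presheaf.stalk (σ.base (closedPoint R))) s.1) = _ := h2
  have h3' : IsLocalRing.residue (X.left.presheaf.stalk (σ.base (closedPoint R)))
      (algebraMap Γ(X.left, U.1) (X.left.presheaf.stalk (σ.base (closedPoint R))) a) = _ := h3
  rw [h2', h3'] at h1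
  show IsLocalRing.residue _ (Models.stalkHom R X _ (τ R X σ U hU a * ↑u⁻¹)) =
    IsLocalRing.residue _ b
  rw [map_mul, map_mul, ← h1, ← hu, mul_assoc]
  have hone : IsLocalRing.residue (X.left.presheaf.stalk (σ.base (closedPoint R)))
        (Models.stalkHom R X (σ.base (closedPoint R)) ↑u) *
      IsLocalRing.residue (X.left.presheaf.stalk (σ.base (closedPoint R)))
        (Models.stalkHom R X (σ.base (closedPoint R)) ↑u⁻¹) = 1 := by
    rw [← map_mul, ← map_mul, Units.mul_inv, map_one, map_one]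
  rw [hone, mul_one]

include hσ in
theorem germ_sec_mem (ϖ : R) (hϖ : Irreducible ϖ) :
    (X.left.presheaf.germ U.1 _ hU).hom (sec R X ϖ U.1) ∈
      maximalIdeal (X.left.presheaf.stalk (σ.base (closedPoint R))) := by
  have h1 : sec R X ϖ U.1 ∈ pt U _ hU := by
    rw [mem_pt_iff_τ R X σ U hU, τ_sec R X σ hσ U hU, hϖ.maximalIdeal_eq]
    exact Ideal.mem_span_singleton_self ϖ
  exact h1

include hσ in
theorem germ_sec_notMem_sq (ϖ : R) (hϖ : Irreducible ϖ) :
    (X.left.presheaf.germ U.1 _ hU).hom (sec R X ϖ U.1) ∉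
      maximalIdeal (X.left.presheaf.stalk (σ.base (closedPoint R))) ^ 2 := by
  intro hmem
  letI := X.left.presheaf.algebra_section_stalk ⟨σ.base (closedPoint R), hU⟩
  haveI := isLocalization_pt U _ hU
  have hQ : (pt U _ hU).map (algebraMap Γ(X.left, U.1)
      (X.left.presheaf.stalk (σ.base (closedPoint R)))) =
      maximalIdeal (X.left.presheaf.stalk (σ.base (closedPoint R))) :=
    IsLocalization.AtPrime.map_eq_maximalIdeal (pt U _ hU) _
  have hmem' : algebraMap Γ(X.left, U.1) (X.left.presheaf.stalk (σ.base (closedPoint R)))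
      (sec R X ϖ U.1) ∈ ((pt U _ hU) ^ 2).map (algebraMap Γ(X.left, U.1)
        (X.left.presheaf.stalk (σ.base (closedPoint R)))) := by
    rw [Ideal.map_pow, hQ]
    exact hmem
  rw [IsLocalization.mem_map_algebraMap_iff (pt U _ hU).primeCompl] at hmem'
  obtain ⟨⟨⟨y, hy⟩, ⟨s, hs⟩⟩, hys⟩ := hmem'
  simp only at hys
  rw [← map_mul] at hys
  obtain ⟨⟨c, hc⟩, hcy⟩ := (IsLocalization.eq_iff_exists (pt U _ hU).primeCompl _).1 hys
  simp only at hcy
  -- apply τ
  have hτle : (pt U _ hU).map (τ R X σ U hU) ≤ maximalIdeal R := by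
    rw [Ideal.map_le_iff_le_comap]
    intro a ha
    exact (mem_pt_iff_τ R X σ U hU a).1 ha
  have hτy : τ R X σ U hU (c * y) ∈ maximalIdeal R ^ 2 := by
    have h1 : c * y ∈ (pt U _ hU) ^ 2 := Ideal.mul_mem_left _ _ hy
    have h2 := Ideal.mem_map_of_mem (τ R X σ U hU) h1
    rw [Ideal.map_pow] at h2
    exact Ideal.pow_right_mono hτle 2 h2
  rw [← hcy, map_mul, map_mul, τ_sec R X σ hσ U hU] at hτy
  have hcu : IsUnit (τ R X σ U hU c) := IsLocalRing.notMem_maximalIdeal.1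
    (fun h => hc ((mem_pt_iff_τ R X σ U hU c).2 h))
  have hsu : IsUnit (τ R X σ U hU s) := IsLocalRing.notMem_maximalIdeal.1
    (fun h => hs ((mem_pt_iff_τ R X σ U hU s).2 h))
  rw [Ideal.unit_mul_mem_iff_mem _ hcu, mul_comm, Ideal.unit_mul_mem_iff_mem _ hsu,
    hϖ.maximalIdeal_eq, Ideal.span_singleton_pow, Ideal.mem_span_singleton] at hτy
  obtain ⟨t, ht⟩ := hτy
  have h5 : ϖ * 1 = ϖ * (ϖ * t) := by
    rw [mul_one, ← mul_assoc, ← pow_two]
    exact ht
  have h6 : 1 = ϖ * t := mul_left_cancel₀ hϖ.ne_zero h5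
  exact hϖ.not_isUnit (IsUnit.of_mul_eq_one t h6.symm)

end Sect

end Groth.Agent.Helper1.SpFib
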