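import Mathlib
import Groth.Agent.Lib.Helper1.SpFib6
import Groth.Agent.S2171

/-!
# Connectedness of the closed fibre and the intersection form (helper1)
-/

set_option autoImplicit false
set_option backward.isDefEq.respectTransparency.types false
universe u
open CategoryTheory CategoryTheory.Limits AlgebraicGeometry TopologicalSpace Opposite IsLocalRing

namespace Groth.Agent.Helper1.SpFib

section Conn

variable (R : Type u) [CommRing R] [IsDomain R] [IsDiscreteValuationRing R]

/-- the set-theoretic closed fibre is the image of the scheme-theoretic one -/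
theorem isConnected_fibre (X : Scheme.{u}) (p : X ⟶ Spec (CommRingCat.of R))
    [ConnectedSpace ↥(Models.specialFibre R X p)] :
    _root_.IsConnected {x : X | p.base x = closedPoint R} := by
  have h1 : Set.range (pullback.fst p (Spec.map (CommRingCat.ofHom
      (algebraMap R (IsLocalRing.ResidueField R))))).base =
      {x : X | p.base x = closedPoint R} := by
    have h0 := Scheme.Pullback.range_fst p (Spec.map (CommRingCat.ofHom
      (algebraMap R (IsLocalRing.ResidueField R))))
    refine h0.trans ?_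
    ext x
    simp only [Set.mem_preimage, Set.mem_range, Set.mem_ofPred_eq]
    constructor
    · rintro ⟨y, hy⟩
      rw [← hy]
      exact IsLocalRing.PrimeSpectrum.comap_residue R y
    · intro hx
      have hne : Nonempty ↥(Spec (CommRingCat.of (IsLocalRing.ResidueField R))) :=
        inferInstanceAs (Nonempty (PrimeSpectrum (IsLocalRing.ResidueField R)))
      obtain ⟨y⟩ := hne
      exact ⟨y, (IsLocalRing.PrimeSpectrum.comap_residue R y).trans hx.symm⟩
  rw [← h1]
  haveI : ConnectedSpace ↥(pullback p (Spec.map (CommRingCat.ofHom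
      (algebraMap R (IsLocalRing.ResidueField R))))) :=
    ‹ConnectedSpace ↥(Models.specialFibre R X p)›
  exact isConnected_range (Scheme.Hom.continuous _)

end Conn

section Form

variable (R : Type u) [CommRing R] [IsDomain R] [IsDiscreteValuationRing R]
  (X : Over (Spec (CommRingCat.of R)))

/-- **connectedness of the intersection graph** -/
theorem inter_connected [IsLocallyNoetherian X.left] (hp : IsProper X.hom)
    (hconn : _root_.IsPreconnected {x : X.left | X.hom.base x = closedPoint R})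
    {r : ℕ} (Γ : Fin r → ArSurf.VertComp R X)
    (hinj : Function.Injective fun i => Set.range (Γ i).ι.base)
    (hcov : ∀ x : X.left, X.hom.base x = closedPoint R → ∃ i, x ∈ Set.range (Γ i).ι.base)
    (L : Fin r → X.left.Modules)
    (hL : ∀ j, ClSub.IsInverseOf (L j) (ClSub.idealMod (Γ j).ι.ker))
    (I : Finset (Fin r)) (hI : I.Nonempty) (hI' : I ≠ Finset.univ) :
    ∃ i ∈ I, ∃ j ∉ I, ArSurf.inter R X (L j) (Γ i) ≠ 0 := by
  by_contra hcon
  push Not at hcon
  have hne : ∀ i j, i ≠ j → Set.range (Γ i).ι.base ≠ Set.range (Γ j).ι.base :=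
    fun i j hij h => hij (hinj h)
  have hinv := fun j => ArInt.isInvertible_idealMod_of_isInverseOf R X _ (L j) (hL j)
  have hsupp : ∀ j, ((Γ j).ι.ker.support : Set X.left) = Set.range (Γ j).ι.base := by
    intro j
    rw [Scheme.Hom.support_ker, (Γ j).ι.isClosedEmbedding.isClosed_range.closure_eq]
  have hpk : ∀ i j, i ≠ j → 0 ≤ ArSurf.inter R X (L j) (Γ i) ∧
      (ArSurf.inter R X (L j) (Γ i) = 0 ↔
        Disjoint (Set.range (Γ i).ι.base) (Set.range (Γ j).ι.base)) := by
    intro i j hij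
    have := ArInt.inter_nonneg_and_eq_zero_iff R X hp (Γ i) (Γ j).ι.ker (hinv j) (L j) (hL j)
      (ArInt.genPt_notMem R X (Γ i) (Γ j) (hne i j hij))
    rw [hsupp j] at this
    exact this
  obtain ⟨i₀, hi₀⟩ := hI
  have hS : ((I : Finset (Fin r)) : Set (Fin r)) = Set.univ := by
    refine all_eq_of_connected {x : X.left | X.hom.base x = closedPoint R}
      hconn (fun i => Set.range (Γ i).ι.base)
      (fun i => (Γ i).ι.isClosedEmbedding.isClosed_range)
      (fun i => Set.range_nonempty _) ?_ ?_ _ i₀ hi₀ ?_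
    · rintro i _ ⟨z, rfl⟩
      exact range_subset_fibre R X (Γ i) z
    · intro x hx
      obtain ⟨i, hi⟩ := hcov x hx
      exact Set.mem_iUnion.2 ⟨i, hi⟩
    · intro i hi j hj
      have hij : i ≠ j := by
        rintro rfl
        exact hj hi
      exact (hpk i j hij).2.1 (hcon i hi j hj)
  exact hI' (Finset.coe_eq_univ.1 hS)

/-- **the intersection form on the closed fibre is negative semi-definite with kernel spanned by
the fibre** -/
theorem form_nonpos [IsLocallyNoetherian X.left] (hp : IsProper X.hom)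
    (hreg : ∀ x : X.left, IsRegularLocalRing (X.left.presheaf.stalk x)) [Flat X.hom]
    (hconn : _root_.IsPreconnected {x : X.left | X.hom.base x = closedPoint R})
    {r : ℕ} (Γ : Fin r → ArSurf.VertComp R X)
    (hinj : Function.Injective fun i => Set.range (Γ i).ι.base)
    (hcov : ∀ x : X.left, X.hom.base x = closedPoint R → ∃ i, x ∈ Set.range (Γ i).ι.base)
    (L : Fin r → X.left.Modules)
    (hL : ∀ j, ClSub.IsInverseOf (L j) (ClSub.idealMod (Γ j).ι.ker)) (a : Fin r → ℤ) :
    (∑ q : Fin r × Fin r, a q.1 * a q.2 * ArSurf.inter R X (L q.2) (Γ q.1)) ≤ 0 ∧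
      ((∑ q : Fin r × Fin r, a q.1 * a q.2 * ArSurf.inter R X (L q.2) (Γ q.1)) = 0 ↔
        ∃ c : ℚ, ∀ i, (a i : ℚ) = c * (Models.mult R X (Γ i) : ℚ)) := by
  have hzero := fun i => sum_mult_mul_inter_eq_zero R X hp hreg Γ hinj hcov L hL i
  have mpos := mult_ne_zero R X hreg Γ hinj hcov
  have hne : ∀ i j, i ≠ j → Set.range (Γ i).ι.base ≠ Set.range (Γ j).ι.base :=
    fun i j hij h => hij (hinj h)
  have hinv := fun j => ArInt.isInvertible_idealMod_of_isInverseOf R X _ (L j) (hL j)
  have hsupp : ∀ j, ((Γ j).ι.ker.support : Set X.left) = Set.range (Γ j).ι.base := by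
    intro j
    rw [Scheme.Hom.support_ker, (Γ j).ι.isClosedEmbedding.isClosed_range.closure_eq]
  have hpk : ∀ i j, i ≠ j → 0 ≤ ArSurf.inter R X (L j) (Γ i) := by
    intro i j hij
    exact (ArInt.inter_nonneg_and_eq_zero_iff R X hp (Γ i) (Γ j).ι.ker (hinv j) (L j) (hL j)
      (ArInt.genPt_notMem R X (Γ i) (Γ j) (hne i j hij))).1
  let A : Matrix (Fin r) (Fin r) ℝ := fun i j => (ArSurf.inter R X (L j) (Γ i) : ℝ)
  let m : Fin r → ℝ := fun i => (Models.mult R X (Γ i) : ℝ)
  let x : Fin r → ℝ := fun i => (a i : ℝ)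
  have hsymm : A.IsSymm := by
    apply Matrix.IsSymm.ext
    intro i j
    show ((ArSurf.inter R X (L i) (Γ j) : ℤ) : ℝ) = ((ArSurf.inter R X (L j) (Γ i) : ℤ) : ℝ)
    by_cases hij : i = j
    · rw [hij]
    · rw [ArInt.inter_symm R X hp (Γ i) (Γ j) (hne i j hij) (L i) (L j) (hL i) (hL j)]
  have hA : ∀ i j, i ≠ j → 0 ≤ A i j := by
    intro i j hij
    show (0 : ℝ) ≤ ((ArSurf.inter R X (L j) (Γ i) : ℤ) : ℝ)
    exact_mod_cast hpk i j hij
  have hm : ∀ i, 0 < m i := by
    intro i
    show (0 : ℝ) < ((Models.mult R X (Γ i) : ℕ) : ℝ)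
    exact_mod_cast Nat.pos_of_ne_zero (mpos i)
  have hAm : A.mulVec m = 0 := by
    funext i
    show ∑ j, A i j * m j = 0
    have := congrArg (fun z : ℤ => (z : ℝ)) (hzero i)
    push_cast at this
    rw [← this]
    apply Finset.sum_congr rfl
    intro j _
    show ((ArSurf.inter R X (L j) (Γ i) : ℤ) : ℝ) * ((Models.mult R X (Γ j) : ℕ) : ℝ) = _
    ring
  have hconn' : ∀ I : Finset (Fin r), I.Nonempty → I ≠ Finset.univ →
      ∃ i ∈ I, ∃ j ∉ I, A i j ≠ 0 := by
    intro I hI hI'
    obtain ⟨i, hi, j, hj, hij⟩ := inter_connected R X hp hconn Γ hinj hcov L hL I hI hI'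
    refine ⟨i, hi, j, hj, ?_⟩
    show ((ArSurf.inter R X (L j) (Γ i) : ℤ) : ℝ) ≠ 0
    exact_mod_cast hij
  obtain ⟨h1, h2⟩ := Groth.Agent.S2171.result A m hsymm hA hm hAm hconn' x
  have hS : ((∑ q : Fin r × Fin r, a q.1 * a q.2 * ArSurf.inter R X (L q.2) (Γ q.1) : ℤ) : ℝ) =
      dotProduct x (A.mulVec x) := by
    rw [Fintype.sum_prod_type]
    push_cast
    show _ = ∑ i, x i * ∑ j, A i j * x j
    apply Finset.sum_congr rfl
    intro i _
    rw [Finset.mul_sum]
    apply Finset.sum_congr rfl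
    intro j _
    show (a i : ℝ) * (a j : ℝ) * ((ArSurf.inter R X (L j) (Γ i) : ℤ) : ℝ) =
      (a i : ℝ) * (((ArSurf.inter R X (L j) (Γ i) : ℤ) : ℝ) * (a j : ℝ))
    ring
  constructor
  · have : ((∑ q : Fin r × Fin r, a q.1 * a q.2 * ArSurf.inter R X (L q.2) (Γ q.1) : ℤ) : ℝ) ≤
        0 := by
      rw [hS]
      exact h1
    exact_mod_cast this
  · have hiff : (∑ q : Fin r × Fin r, a q.1 * a q.2 * ArSurf.inter R X (L q.2) (Γ q.1)) = 0 ↔
        dotProduct x (A.mulVec x) = 0 := by
      rw [← hS]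
      exact ⟨fun h => by rw [h]; simp, fun h => by exact_mod_cast h⟩
    rw [hiff, h2]
    constructor
    · rintro ⟨q, hq⟩
      rcases isEmpty_or_nonempty (Fin r) with hE | ⟨⟨i₀⟩⟩
      · exact ⟨0, fun i => (hE.false i).elim⟩
      have hq' : ∀ i, (a i : ℝ) = q * (Models.mult R X (Γ i) : ℝ) := fun i => congrFun hq i
      have hm0 : ((Models.mult R X (Γ i₀) : ℕ) : ℝ) ≠ 0 := (hm i₀).ne'
      have hqv : q = (((a i₀ : ℚ) / (Models.mult R X (Γ i₀) : ℚ) : ℚ) : ℝ) := by
        push_cast
        rw [hq' i₀]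
        field_simp
      refine ⟨(a i₀ : ℚ) / (Models.mult R X (Γ i₀) : ℚ), fun i => ?_⟩
      have := hq' i
      rw [hqv] at this
      exact_mod_cast this
    · rintro ⟨c, hc⟩
      refine ⟨(c : ℝ), ?_⟩
      funext i
      show (a i : ℝ) = (c : ℝ) * ((Models.mult R X (Γ i) : ℕ) : ℝ)
      have := hc i
      exact_mod_cast this

end Form

end Groth.Agent.Helper1.SpFib
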