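import Mathlib
import Groth.Agent.Lib.Helper1.PicV5
import Groth.Agent.Lib.Helper1.ModTriv
import Groth.Agent.Lib.Helper1.SpFib8
import Groth.Agent.Lib.Helper1.InvInv2

/-!
# The subgroup of `Pic X` generated by the components of the closed fibre (helper1)

`Ocl c` is the class of `O_X(Σ c_i Γ_i)` as a unit of the monoid of isomorphism classes.
-/

set_option autoImplicit false
set_option backward.isDefEq.respectTransparency.types false
universe u
open CategoryTheory CategoryTheory.Limits AlgebraicGeometry TopologicalSpace Opposite IsLocalRing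
open Groth.Agent.Helper1

namespace Groth.Agent.Helper1.PicV

open Groth.Agent.Lead.PicCalc Groth.Agent.Lead.IdM Groth.Agent.Helper1.QcCech
open Groth.Agent.Helper1.LGen Groth.Agent.Helper1.SpFib

section Bezout

theorem exists_gcd_eq_sum {n : ℕ} (m : Fin n → ℕ) (s : Finset (Fin n)) :
    ∃ t : Fin n → ℤ, ((s.gcd m : ℕ) : ℤ) = ∑ j ∈ s, (m j : ℤ) * t j := by
  classical
  refine Finset.induction_on s ⟨fun _ => 0, by simp⟩ ?_
  intro a s ha ih
  obtain ⟨t, ht⟩ := ih
  rw [Finset.gcd_insert]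
  refine ⟨fun j => if j = a then Nat.gcdA (m a) (s.gcd m) else Nat.gcdB (m a) (s.gcd m) * t j, ?_⟩
  rw [Finset.sum_insert ha]
  dsimp only
  rw [if_pos rfl]
  have h1 : ∑ j ∈ s, (m j : ℤ) *
      (if j = a then Nat.gcdA (m a) (s.gcd m) else Nat.gcdB (m a) (s.gcd m) * t j) =
      Nat.gcdB (m a) (s.gcd m) * ∑ j ∈ s, (m j : ℤ) * t j := by
    rw [Finset.mul_sum]
    apply Finset.sum_congr rfl
    intro j hj
    have hja : j ≠ a := fun e => ha (e ▸ hj)
    rw [if_neg hja]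
    ring
  rw [h1, ← ht]
  have h2 := Nat.gcd_eq_gcd_ab (m a) (s.gcd m)
  rw [show (GCDMonoid.gcd (m a) (s.gcd m) : ℕ) = Nat.gcd (m a) (s.gcd m) from rfl, h2]
  ring

end Bezout

section Lattice

variable (R : Type u) [CommRing R] [IsDomain R] [IsDiscreteValuationRing R]
  (X : Over (Spec (CommRingCat.of R)))
  (hreg : ∀ x : X.left, IsRegularLocalRing (X.left.presheaf.stalk x))
  [Flat X.hom] {n : ℕ} (Γ : Fin n → ArSurf.VertComp R X)
  (hinj : Function.Injective fun i => Set.range (Γ i).ι.base)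
  (hcov : ∀ x : X.left, X.hom.base x = closedPoint R → ∃ i, x ∈ Set.range (Γ i).ι.base)
  (L : Fin n → X.left.Modules)
  (hL : ∀ j, ClSub.IsInverseOf (L j) (ClSub.idealMod (Γ j).ι.ker))

/-- the class of `O_X(Γ_j)` as a unit -/
noncomputable def Ucl (j : Fin n) : (PicF.Cl X.left)ˣ where
  val := PicF.cl (L j)
  inv := PicF.cl (ClSub.idealMod (Γ j).ι.ker)
  val_inv := cl_eq_of_iso (hL j).some
  inv_val := by
    rw [mul_comm]
    exact cl_eq_of_iso (hL j).some

/-- the class of `O_X(Σ c_j Γ_j)` -/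
noncomputable def Ocl (c : Fin n → ℤ) : (PicF.Cl X.left)ˣ := ∏ j, Ucl R X Γ L hL j ^ c j

theorem Ocl_add (c c' : Fin n → ℤ) :
    Ocl R X Γ L hL (c + c') = Ocl R X Γ L hL c * Ocl R X Γ L hL c' := by
  unfold Ocl
  rw [← Finset.prod_mul_distrib]
  exact Finset.prod_congr rfl (fun j _ => zpow_add _ _ _)

theorem Ocl_zero : Ocl R X Γ L hL 0 = 1 := by
  unfold Ocl
  simp

theorem Ocl_neg (c : Fin n → ℤ) : Ocl R X Γ L hL (-c) = (Ocl R X Γ L hL c)⁻¹ := by
  unfold Ocl
  rw [← Finset.prod_inv_distrib]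
  exact Finset.prod_congr rfl (fun j _ => zpow_neg _ _)

theorem Ocl_sub (c c' : Fin n → ℤ) :
    Ocl R X Γ L hL (c - c') = Ocl R X Γ L hL c / Ocl R X Γ L hL c' := by
  rw [sub_eq_add_neg, Ocl_add, Ocl_neg, div_eq_mul_inv]

theorem Ocl_zsmul (k : ℤ) (c : Fin n → ℤ) :
    Ocl R X Γ L hL (fun j => k * c j) = Ocl R X Γ L hL c ^ k := by
  unfold Ocl
  rw [← Finset.prod_zpow]
  refine Finset.prod_congr rfl (fun j _ => ?_)
  show Ucl R X Γ L hL j ^ (k * c j) = _
  rw [mul_comm, zpow_mul]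

theorem Ocl_nsmul (k : ℕ) (c : Fin n → ℤ) :
    Ocl R X Γ L hL (fun j => (k : ℤ) * c j) = Ocl R X Γ L hL c ^ k := by
  rw [Ocl_zsmul, zpow_natCast]

theorem Ocl_val (a b : Fin n → ℕ) :
    ((Ocl R X Γ L hL (fun j => (a j : ℤ) - (b j : ℤ)) : (PicF.Cl X.left)ˣ) : PicF.Cl X.left) =
      (∏ j, PicF.cl (L j) ^ a j) * ∏ j, PicF.cl (ClSub.idealMod (Γ j).ι.ker) ^ b j := by
  unfold Ocl
  have h1 : ∀ j, Ucl R X Γ L hL j ^ ((a j : ℤ) - (b j : ℤ)) =
      Ucl R X Γ L hL j ^ a j * (Ucl R X Γ L hL j)⁻¹ ^ b j := fun j => by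
    rw [zpow_sub, zpow_natCast, zpow_natCast, inv_pow]
  rw [Finset.prod_congr rfl (fun j _ => h1 j), Finset.prod_mul_distrib, Units.val_mul,
    Units.coe_prod, Units.coe_prod]
  congr 1

theorem Ocl_natCast (a : Fin n → ℕ) :
    ((Ocl R X Γ L hL (fun j => (a j : ℤ)) : (PicF.Cl X.left)ˣ) : PicF.Cl X.left) =
      PicF.cl (FGA.multiTwist L a) := by
  have h := Ocl_val R X Γ L hL a (fun _ => 0)
  simp only [Nat.cast_zero, sub_zero, pow_zero, Finset.prod_const_one, mul_one] at h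
  rw [h, cl_multiTwist]

theorem exists_nat_sub (c : Fin n → ℤ) :
    ∃ a b : Fin n → ℕ, c = fun j => (a j : ℤ) - (b j : ℤ) :=
  ⟨fun j => (c j).toNat, fun j => (-c j).toNat,
    funext fun j => (Int.toNat_sub_toNat_neg (c j)).symm⟩

include hL in
theorem isInvertibleCl_u [IsLocallyNoetherian X.left] (j : Fin n) :
    PicF.IsInvertibleCl (PicF.cl (L j)) := by
  have hinvI := ArInt.isInvertible_idealMod_of_isInverseOf R X _ (L j) (hL j)
  exact isInvertibleCl_cl (SpFib.isInvertible_of_inverse hinvI (hL j).some)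

include hL in
theorem isInvertibleCl_v [IsLocallyNoetherian X.left] (j : Fin n) :
    PicF.IsInvertibleCl (PicF.cl (ClSub.idealMod (Γ j).ι.ker)) :=
  isInvertibleCl_cl (ArInt.isInvertible_idealMod_of_isInverseOf R X _ (L j) (hL j))

theorem isInvertibleCl_prod_pow' {Y : Scheme.{u}} {n : ℕ} (w : Fin n → PicF.Cl Y)
    (hw : ∀ j, PicF.IsInvertibleCl (w j)) (a : Fin n → ℕ) (s : Finset (Fin n)) :
    PicF.IsInvertibleCl (∏ j ∈ s, w j ^ a j) := by
  classical
  refine Finset.induction_on s ?_ ?_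
  · simp only [Finset.prod_empty]
    exact isInvertibleCl_one
  · intro i s hi ih
    rw [Finset.prod_insert hi]
    exact isInvertibleCl_mul (isInvertibleCl_pow (hw i) _) ih

theorem isInvertibleCl_Ocl [IsLocallyNoetherian X.left] (c : Fin n → ℤ) :
    PicF.IsInvertibleCl
      ((Ocl R X Γ L hL c : (PicF.Cl X.left)ˣ) : PicF.Cl X.left) := by
  obtain ⟨a, b, rfl⟩ := exists_nat_sub c
  rw [Ocl_val]
  exact isInvertibleCl_mul
    (isInvertibleCl_prod_pow' _ (isInvertibleCl_u R X Γ L hL) a Finset.univ)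
    (isInvertibleCl_prod_pow' _ (isInvertibleCl_v R X Γ L hL) b Finset.univ)

theorem degCl_Ocl [IsLocallyNoetherian X.left] (hp : IsProper X.hom)
    (Γ₀ : ArSurf.VertComp R X) (c : Fin n → ℤ) :
    degCl R X hp Γ₀ ((Ocl R X Γ L hL c : (PicF.Cl X.left)ˣ) : PicF.Cl X.left) =
      ∑ j, c j * ArSurf.inter R X (L j) Γ₀ := by
  obtain ⟨a, b, rfl⟩ := exists_nat_sub c
  rw [Ocl_val]
  have hu := isInvertibleCl_u R X Γ L hL
  have hv := isInvertibleCl_v R X Γ L hL
  have hA := degCl_prod_pow R X hp Γ₀ (fun j => PicF.cl (L j)) hu a Finset.univ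
  have hB := degCl_prod_pow R X hp Γ₀ (fun j => PicF.cl (ClSub.idealMod (Γ j).ι.ker)) hv b
    Finset.univ
  rw [degCl_mul R X hp Γ₀ hA.1 hB.1, hA.2, hB.2]
  have h3 : ∀ j, degCl R X hp Γ₀ (PicF.cl (L j)) = ArSurf.inter R X (L j) Γ₀ := fun j => rfl
  have hneg : ∀ j, degCl R X hp Γ₀ (PicF.cl (ClSub.idealMod (Γ j).ι.ker)) =
      - ArSurf.inter R X (L j) Γ₀ := by
    intro j
    have h1 := degCl_mul R X hp Γ₀ (hu j) (hv j)
    have h2 : PicF.cl (L j) * PicF.cl (ClSub.idealMod (Γ j).ι.ker) = 1 :=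
      cl_eq_of_iso (hL j).some
    rw [h2, degCl_one, h3 j] at h1
    linarith
  simp only [hneg, h3]
  rw [← Finset.sum_add_distrib]
  apply Finset.sum_congr rfl
  intro j _
  ring

include hreg hinj hcov in
theorem Ocl_eq_one_iff [IsLocallyNoetherian X.left] (hp : IsProper X.hom)
    (hconn : _root_.IsConnected {x : X.left | X.hom.base x = closedPoint R})
    (hsurj : ∀ h : Γ(X.left, ⊤), ∃ r : R, (show Γ(X.left, ⊤) from Coh.toGlobal X.hom r) = h)
    (c : Fin n → ℤ) :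
    Ocl R X Γ L hL c = 1 ↔ ∃ k : ℤ, ∀ i, c i = k * (Models.mult R X (Γ i) : ℤ) := by
  obtain ⟨a, b, rfl⟩ := exists_nat_sub c
  have key := kernel_multiTwist R X hreg Γ hinj hcov hp hconn L hL hsurj a b
  rw [← cl_eq_iff, ← Ocl_natCast R X Γ L hL a, ← Ocl_natCast R X Γ L hL b, Units.val_inj] at key
  have hsub : (fun j => (a j : ℤ) - (b j : ℤ)) =
      (fun j => (a j : ℤ)) - (fun j => (b j : ℤ)) := rfl
  rw [hsub, Ocl_sub, div_eq_one, key]
  exact Iff.rfl

include hreg hinj hcov in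
theorem exists_Ocl_eq [IsLocallyNoetherian X.left] [CompactSpace X.left] {C : Scheme.{u}}
    (f : C ⟶ Spec (CommRingCat.of (FractionRing R))) (g : C ⟶ X.left)
    (hg : IsPullback g f X.hom
      (Spec.map (CommRingCat.ofHom (algebraMap R (FractionRing R)))))
    (κ : PicF.Cl X.left) (hκ : PicF.IsInvertibleCl κ) (hpull : PicF.pullCl g κ = 1) :
    ∃ c : Fin n → ℤ, κ = ((Ocl R X Γ L hL c : (PicF.Cl X.left)ˣ) : PicF.Cl X.left) := by
  obtain ⟨M, rfl, hM⟩ := hκ
  have htriv : Nonempty ((Scheme.Modules.pullback g).obj M ≅ Coh.structureModule C) := by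
    rw [← cl_eq_iff]
    exact hpull
  obtain ⟨b, hb⟩ := exists_cl_eq_prod R X hreg Γ hinj hcov f g hg L hL M hM htriv
  refine ⟨fun j => (b j : ℤ), ?_⟩
  rw [Ocl_natCast, cl_multiTwist]
  exact hb

include hreg hinj hcov in
theorem exists_inverse_family :
    ∃ L : Fin n → X.left.Modules,
      ∀ j, ClSub.IsInverseOf (L j) (ClSub.idealMod (Γ j).ι.ker) := by
  have h : ∀ j, ∃ K : X.left.Modules, ClSub.IsInverseOf K (ClSub.idealMod (Γ j).ι.ker) := by
    intro j
    have hinv : PicF.IsInvertible (ClSub.idealMod (Γ j).ι.ker) :=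
      Groth.Agent.S8914.backward _ (isEffCartier_component R X hreg Γ hinj hcov j)
    obtain ⟨K, -, hK⟩ := InvInv2.exists_inverse hinv
    exact ⟨K, hK⟩
  choose L hL using h
  exact ⟨L, hL⟩

end Lattice

section Pull

variable (R : Type u) [CommRing R] [IsDomain R] [IsDiscreteValuationRing R]
  (X : Over (Spec (CommRingCat.of R)))
  {C : Scheme.{u}} (f : C ⟶ Spec (CommRingCat.of (FractionRing R))) (g : C ⟶ X.left)
  (hg : IsPullback g f X.hom (Spec.map (CommRingCat.ofHom (algebraMap R (FractionRing R)))))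

include hg in
theorem isOpenImmersion_of_isPullback : IsOpenImmersion g := by
  obtain ⟨ϖ, hϖ⟩ := IsDiscreteValuationRing.exists_irreducible R
  haveI : IsLocalization.Away ϖ (FractionRing R) :=
    Groth.Agent.Lib.Helper6.DVRFib.isLocalization_away_of_isFractionRing ϖ hϖ
  have hq : IsOpenImmersion (Spec.map (CommRingCat.ofHom (algebraMap R (FractionRing R)))) :=
    IsOpenImmersion.of_isLocalization ϖ
  exact MorphismProperty.of_isPullback (P := @IsOpenImmersion) hg.flip hq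

include hg in
theorem base_ne_closedPoint (c : C) : X.hom.base (g.base c) ≠ closedPoint R := by
  obtain ⟨ϖ, hϖ⟩ := IsDiscreteValuationRing.exists_irreducible R
  intro hy
  have hw : X.hom.base (g.base c) =
      (Spec.map (CommRingCat.ofHom (algebraMap R (FractionRing R)))).base (f.base c) :=
    congrArg (fun φ : C ⟶ Spec (CommRingCat.of R) => φ.base c) hg.w
  rw [hw] at hy
  have h1 : ϖ ∈ (closedPoint R).asIdeal := by
    show ϖ ∈ maximalIdeal R
    rw [hϖ.maximalIdeal_eq]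
    exact Ideal.mem_span_singleton_self ϖ
  rw [← hy] at h1
  have h2 : algebraMap R (FractionRing R) ϖ ∈ (f.base c).asIdeal := h1
  have hu : IsUnit (algebraMap R (FractionRing R) ϖ) :=
    IsUnit.mk0 _ ((map_ne_zero_iff _ (IsFractionRing.injective R (FractionRing R))).2 hϖ.ne_zero)
  exact (f.base c).isPrime.ne_top (Ideal.eq_top_of_isUnit_mem _ h2 hu)

include hg in
/-- the ideal of a vertical prime divisor pulls back to the structure sheaf of the generic
fibre -/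
theorem nonempty_pullback_idealMod_iso (Γ₀ : ArSurf.VertComp R X) :
    Nonempty ((Scheme.Modules.pullback g).obj (ClSub.idealMod Γ₀.ι.ker) ≅
      Coh.structureModule C) := by
  classical
  haveI : IsOpenImmersion g := isOpenImmersion_of_isPullback R X f g hg
  have hrange : ∀ y ∈ g.opensRange, X.hom.base y ≠ closedPoint R := by
    rintro _ ⟨c, rfl⟩
    exact base_ne_closedPoint R X f g hg c
  have hloc : ∀ y : g.opensRange, ∃ V : X.left.affineOpens, y.1 ∈ V.1 ∧ V.1 ≤ g.opensRange ∧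
      ∃ σ : Γ(ClSub.idealMod Γ₀.ι.ker, V.1), ιL Γ₀.ι.ker V.1 σ = 1 := by
    intro y
    obtain ⟨_, ⟨V, hV, rfl⟩, hyV, hVle⟩ :=
      X.left.isBasis_affineOpens.exists_subset_of_mem_open y.2 g.opensRange.2
    refine ⟨⟨V, hV⟩, hyV, hVle, ?_⟩
    have htop : Γ₀.ι.ker.ideal ⟨V, hV⟩ = ⊤ := by
      apply ker_eq_top_of_notMem R X Γ₀ ⟨V, hV⟩
      intro hmem
      exact hrange _ (hVle hmem) (range_subset_fibre R X Γ₀ (genericPoint Γ₀.curve.left))
    have h1 : (1 : Γ(X.left, V)) ∈ LinearMap.range (ιL Γ₀.ι.ker V) := by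
      rw [range_ιL Γ₀.ι.ker ⟨V, hV⟩, htop]
      exact Submodule.mem_top
    exact h1
  choose V hyV hVle σ hσ using hloc
  obtain ⟨τ, hτ⟩ := TwistSec.glue_of_compatible (ClSub.idealMod Γ₀.ι.ker)
    (fun y : g.opensRange => (V y).1) g.opensRange hVle
    (by
      intro y hy
      exact Opens.mem_iSup.2 ⟨⟨y, hy⟩, hyV ⟨y, hy⟩⟩)
    σ (by
      intro y y'
      apply ιL_injective Γ₀.ι.ker
      rw [IdealMul.ιL_res', IdealMul.ιL_res', hσ, hσ, map_one, map_one])
  have hτ1 : ∀ (W : X.left.Opens) (hW : W ≤ g.opensRange),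
      ιL Γ₀.ι.ker W (res (ClSub.idealMod Γ₀.ι.ker) hW τ) = 1 := by
    intro W hW
    have h0 : (show Γ(Coh.structureModule X.left, W) from
        ιL Γ₀.ι.ker W (res (ClSub.idealMod Γ₀.ι.ker) hW τ)) =
        (show Γ(Coh.structureModule X.left, W) from (1 : Γ(X.left, W))) := by
      apply TwistSec.eq_of_locally
      intro y hy
      refine ⟨W ⊓ (V ⟨y, hW hy⟩).1, inf_le_left, ⟨hy, hyV ⟨y, hW hy⟩⟩, ?_⟩
      change resR inf_le_left (ιL Γ₀.ι.ker W (res (ClSub.idealMod Γ₀.ι.ker) hW τ)) =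
        resR inf_le_left 1
      rw [← IdealMul.ιL_res', res_res, map_one,
        ← res_res (ClSub.idealMod Γ₀.ι.ker) (hVle ⟨y, hW hy⟩) inf_le_right, hτ,
        IdealMul.ιL_res', hσ, map_one]
    exact h0
  have hgen : ∀ (W : X.left.Opens) (hW : W ≤ g.opensRange), Function.Bijective
      (fun r : Γ(X.left, W) => r • (ClSub.idealMod Γ₀.ι.ker).presheaf.map (homOfLE hW).op τ) := by
    intro W hW
    have h1 : ιL Γ₀.ι.ker W ((ClSub.idealMod Γ₀.ι.ker).presheaf.map (homOfLE hW).op τ) = 1 :=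
      hτ1 W hW
    constructor
    · intro r r' hrr'
      have h2 := congrArg (ιL Γ₀.ι.ker W) hrr'
      simp only [map_smul, smul_eq_mul, h1, mul_one] at h2
      exact h2
    · intro t
      refine ⟨ιL Γ₀.ι.ker W t, ?_⟩
      apply ιL_injective Γ₀.ι.ker
      show ιL Γ₀.ι.ker W (ιL Γ₀.ι.ker W t •
        (ClSub.idealMod Γ₀.ι.ker).presheaf.map (homOfLE hW).op τ) = ιL Γ₀.ι.ker W t
      rw [map_smul, smul_eq_mul, h1, mul_one]
  obtain ⟨e⟩ := ModTriv.nonempty_restrict_iso_unit' g (ClSub.idealMod Γ₀.ι.ker) τ hgen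
  exact ⟨((Scheme.Modules.restrictFunctorIsoPullback g).app _).symm ≪≫ e⟩

variable [Flat X.hom] {n : ℕ} (Γ : Fin n → ArSurf.VertComp R X)
  (L : Fin n → X.left.Modules)
  (hL : ∀ j, ClSub.IsInverseOf (L j) (ClSub.idealMod (Γ j).ι.ker))

include hg in
theorem pull_v (j : Fin n) :
    PicF.pullCl g (PicF.cl (ClSub.idealMod (Γ j).ι.ker)) = 1 := by
  obtain ⟨e⟩ := nonempty_pullback_idealMod_iso R X f g hg (Γ j)
  exact cl_eq_of_iso e

include hg hL in
theorem pull_u (j : Fin n) : PicF.pullCl g (PicF.cl (L j)) = 1 := by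
  have h1 : PicF.pullCl g (PicF.cl (L j) * PicF.cl (ClSub.idealMod (Γ j).ι.ker)) = 1 := by
    rw [show PicF.cl (L j) * PicF.cl (ClSub.idealMod (Γ j).ι.ker) = 1 from
      cl_eq_of_iso (hL j).some, pull_one]
  rw [pull_mul, pull_v R X f g hg Γ j, mul_one] at h1
  exact h1

theorem pull_prod_pow {Y Z : Scheme.{u}} (φ : Z ⟶ Y) {n : ℕ} (w : Fin n → PicF.Cl Y)
    (hw : ∀ j, PicF.pullCl φ (w j) = 1) (a : Fin n → ℕ) :
    PicF.pullCl φ (∏ j, w j ^ a j) = 1 := by
  have h1 := map_prod (pullHom φ) (fun j => w j ^ a j) Finset.univ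
  change PicF.pullCl φ (∏ j, w j ^ a j) = ∏ j, PicF.pullCl φ (w j ^ a j) at h1
  rw [h1]
  apply Finset.prod_eq_one
  intro j _
  have h2 := map_pow (pullHom φ) (w j) (a j)
  change PicF.pullCl φ (w j ^ a j) = PicF.pullCl φ (w j) ^ a j at h2
  rw [h2, hw j, one_pow]

include hg in
theorem pull_Ocl (c : Fin n → ℤ) :
    PicF.pullCl g ((Ocl R X Γ L hL c : (PicF.Cl X.left)ˣ) : PicF.Cl X.left) = 1 := by
  obtain ⟨a, b, rfl⟩ := exists_nat_sub c
  rw [Ocl_val, pull_mul, pull_prod_pow g _ (pull_u R X f g hg Γ L hL) a,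
    pull_prod_pow g _ (pull_v R X f g hg Γ) b, mul_one]

end Pull

end Groth.Agent.Helper1.PicV
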