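import Mathlib
import Groth.Agent.Lib.Helper1.GlobField1
import Groth.Agent.Lib.Helper1.VBP1
import Groth.Agent.Lib.Helper1.ArInt3

/-!
# Change of the field of constants on a proper integral curve, and exceptional curves (helper1)
-/

set_option autoImplicit false
set_option backward.isDefEq.respectTransparency.types false
universe u
open CategoryTheory CategoryTheory.Limits AlgebraicGeometry TopologicalSpace Opposite

namespace Groth.Agent.Helper1.ExcC

open Groth.Agent.Helper1.CurveLin Groth.Agent.Helper1.Euler Groth.Agent.Helper1.Curve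
open Groth.Agent.Helper1 Groth.Agent.Lib.Helper4

section Rank

variable (K : Type u) [Field K] (Y : Scheme.{u}) [Y.Over (Spec (CommRingCat.of K))]

/-- the degree of the ring of global functions over the base field -/
noncomputable def w : ℕ :=
  letI : Algebra K Γ(Y, ⊤) := (toΓ' K Y (Y ↘ Spec (CommRingCat.of K))).toAlgebra
  Module.finrank K Γ(Y, ⊤)

theorem finrank_eq_of_bijective
    (hb : Function.Bijective (Coh.toGlobal (Y ↘ Spec (CommRingCat.of K))))
    (F : Y.Modules) (i : ℕ) :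
    Module.finrank K (Coh.HH Y F i) = Module.finrank (Coh.Γtop Y) (Coh.HH Y F i) := by
  have h := rank_eq_of_equiv_equiv (R := K) (R' := Coh.Γtop Y) (M := Coh.HH Y F i)
    (M₁ := Coh.HH Y F i) (Coh.toGlobal (Y ↘ Spec (CommRingCat.of K))) (AddEquiv.refl _) hb
    (fun r m => rfl)
  unfold Module.finrank
  rw [h]

theorem finrank_eq_mul (hF : IsField Γ(Y, ⊤)) (F : Y.Modules) (i : ℕ) :
    Module.finrank K (Coh.HH Y F i) =
      w K Y * Module.finrank (Coh.Γtop Y) (Coh.HH Y F i) := by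
  unfold w
  letI : Algebra K Γ(Y, ⊤) := (toΓ' K Y (Y ↘ Spec (CommRingCat.of K))).toAlgebra
  letI : Field Γ(Y, ⊤) := hF.toField
  letI : Module Γ(Y, ⊤) (Coh.HH Y F i) := Coh.moduleΓtop F i
  haveI : IsScalarTower K Γ(Y, ⊤) (Coh.HH Y F i) := by
    refine ⟨fun c a m => ?_⟩
    change (toΓ' K Y (Y ↘ Spec (CommRingCat.of K)) c * a) • m =
      toΓ' K Y (Y ↘ Spec (CommRingCat.of K)) c • (a • m)
    rw [mul_smul]
  have h := Module.finrank_mul_finrank K Γ(Y, ⊤) (Coh.HH Y F i)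
  have h2 : Module.finrank Γ(Y, ⊤) (Coh.HH Y F i) =
      Module.finrank (Coh.Γtop Y) (Coh.HH Y F i) := by
    have h3 := rank_eq_of_equiv_equiv (R := Γ(Y, ⊤)) (R' := Coh.Γtop Y) (M := Coh.HH Y F i)
      (M₁ := Coh.HH Y F i) (fun a => a) (AddEquiv.refl _) Function.bijective_id
      (fun r m => rfl)
    unfold Module.finrank
    rw [h3]
  rw [← h2]
  exact h.symm

theorem w_eq_finrank_H0 :
    w K Y = Module.finrank K (Coh.HH Y (Coh.structureModule Y) 0) := by
  unfold w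
  letI a1 : Algebra K Γ(Y, ⊤) := (toΓ' K Y (Y ↘ Spec (CommRingCat.of K))).toAlgebra
  obtain ⟨Le⟩ := nonempty_HH_zero_linearEquiv' K Y
  exact Le.finrank_eq.symm

theorem w_pos [IsProper (Y ↘ (Spec (CommRingCat.of K)))] [IsReduced Y] [ConnectedSpace Y] :
    0 < w K Y := by
  unfold w
  letI a1 : Algebra K Γ(Y, ⊤) := (toΓ' K Y (Y ↘ Spec (CommRingCat.of K))).toAlgebra
  obtain ⟨hF, hfin, -⟩ := GlobField.main K Y
  haveI : Module.Finite K Γ(Y, ⊤) := hfin
  haveI : Nontrivial Γ(Y, ⊤) := hF.nontrivial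
  exact Module.finrank_pos

end Rank

section Two

variable (k K : Type u) [Field k] [Field K] (Y : Scheme.{u})
  [Y.Over (Spec (CommRingCat.of k))] [Y.Over (Spec (CommRingCat.of K))]

theorem eulerCharLE_eq_mul (hF : IsField Γ(Y, ⊤))
    (hb : Function.Bijective (Coh.toGlobal (Y ↘ Spec (CommRingCat.of K))))
    (F : Y.Modules) (d : ℕ) :
    FGA.eulerCharLE k Y F d = (w k Y : ℤ) * FGA.eulerCharLE K Y F d := by
  unfold FGA.eulerCharLE
  rw [Finset.mul_sum]
  apply Finset.sum_congr rfl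
  intro i _
  rw [finrank_eq_mul k Y hF F i, finrank_eq_of_bijective K Y hb F i]
  push_cast
  ring

theorem curveDeg_eq_mul (hF : IsField Γ(Y, ⊤))
    (hb : Function.Bijective (Coh.toGlobal (Y ↘ Spec (CommRingCat.of K))))
    (F : Y.Modules) :
    ArSurf.curveDeg k Y F = (w k Y : ℤ) * ArSurf.curveDeg K Y F := by
  unfold ArSurf.curveDeg
  rw [eulerCharLE_eq_mul k K Y hF hb, eulerCharLE_eq_mul k K Y hF hb]
  ring

end Two

section OverOf

variable {K : Type u} [Field K] (Y : Scheme.{u})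

theorem toGlobal_toSpecΓ_comp (ψ : K →+* Γ(Y, ⊤)) (c : K) :
    (Coh.toGlobal (Y.toSpecΓ ≫ Spec.map (CommRingCat.ofHom ψ)) c : Γ(Y, ⊤)) = ψ c := by
  have h1 : (Y.toSpecΓ ≫ Spec.map (CommRingCat.ofHom ψ)).appTop =
      (Spec.map (CommRingCat.ofHom ψ)).appTop ≫ Y.toSpecΓ.appTop := Scheme.Hom.comp_appTop _ _
  have h2 : CommRingCat.ofHom ψ ≫ (Scheme.ΓSpecIso Γ(Y, ⊤)).inv =
      (Scheme.ΓSpecIso (CommRingCat.of K)).inv ≫ (Spec.map (CommRingCat.ofHom ψ)).appTop :=
    Scheme.ΓSpecIso_inv_naturality (CommRingCat.ofHom ψ)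
  have h3 : Y.toSpecΓ.appTop = (Scheme.ΓSpecIso Γ(Y, ⊤)).hom := Scheme.toSpecΓ_appTop Y
  have h4 : (Scheme.ΓSpecIso (CommRingCat.of K)).inv ≫
      (Y.toSpecΓ ≫ Spec.map (CommRingCat.ofHom ψ)).appTop = CommRingCat.ofHom ψ := by
    rw [h1, ← Category.assoc, ← h2, Category.assoc, h3, Iso.inv_hom_id, Category.comp_id]
  have := congrArg (fun g => g.hom c) h4
  exact this

theorem bijective_toGlobal_toSpecΓ_comp (ψ : K →+* Γ(Y, ⊤)) (hψ : Function.Bijective ψ) :
    Function.Bijective (Coh.toGlobal (Y.toSpecΓ ≫ Spec.map (CommRingCat.ofHom ψ))) := by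
  have : (Coh.toGlobal (Y.toSpecΓ ≫ Spec.map (CommRingCat.ofHom ψ)) : K → Coh.Γtop Y) = ψ :=
    funext (toGlobal_toSpecΓ_comp Y ψ)
  rw [this]
  exact hψ

theorem eq_toSpecΓ_comp {A : CommRingCat.{u}} (g : Y ⟶ Spec A) :
    g = Y.toSpecΓ ≫ Spec.map ((Scheme.ΓSpecIso A).inv ≫ g.appTop) := by
  rw [Spec.map_comp, ← Category.assoc, ← Scheme.toSpecΓ_naturality, Category.assoc,
    toSpecΓ_SpecMap_ΓSpecIso_inv, Category.comp_id]

theorem isProper_toSpecΓ_comp (k : Type u) [Field k] (g : Y ⟶ Spec (CommRingCat.of k))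
    [IsProper g] (ψ : K ≃+* Γ(Y, ⊤)) :
    IsProper (Y.toSpecΓ ≫ Spec.map (CommRingCat.ofHom ψ.toRingHom)) := by
  let φ : k →+* K := ψ.symm.toRingHom.comp (toΓ' k Y g)
  have hcomp : (Y.toSpecΓ ≫ Spec.map (CommRingCat.ofHom ψ.toRingHom)) ≫
      Spec.map (CommRingCat.ofHom φ) = g := by
    rw [Category.assoc, ← Spec.map_comp]
    have h1 : CommRingCat.ofHom φ ≫ CommRingCat.ofHom ψ.toRingHom =
        (Scheme.ΓSpecIso (CommRingCat.of k)).inv ≫ g.appTop := by
      ext c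
      show ψ (ψ.symm (toΓ' k Y g c)) = _
      rw [ψ.apply_symm_apply]
      rfl
    rw [h1]
    exact (eq_toSpecΓ_comp Y g).symm
  haveI : IsProper ((Y.toSpecΓ ≫ Spec.map (CommRingCat.ofHom ψ.toRingHom)) ≫
      Spec.map (CommRingCat.ofHom φ)) := by
    rw [hcomp]
    infer_instance
  exact IsProper.of_comp _ (Spec.map (CommRingCat.ofHom φ))

end OverOf

section P1

variable (K : Type u) [Field K]

theorem bijective_toGlobal_P1 :
    Function.Bijective (Coh.toGlobal (CohB1.ProjSpace.toSpec 1 K)) := by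
  letI a1 : Algebra K Γ(CohB1.ProjSpace 1 K, ⊤) :=
    (toΓ' K _ (CohB1.ProjSpace 1 K ↘ Spec (CommRingCat.of K))).toAlgebra
  obtain ⟨Le⟩ := nonempty_HH_zero_linearEquiv' K (CohB1.ProjSpace 1 K)
  have h1 : Module.finrank K Γ(CohB1.ProjSpace 1 K, ⊤) = 1 := by
    rw [← Le.finrank_eq]
    exact VBP.finrank_H0_O K
  have h2 := (Algebra.finrank_eq_one_iff_bijective_algebraMap).1 h1
  exact h2

theorem bijective_toGlobal_of_iso {Y : Scheme.{u}} (e : CohB1.ProjSpace 1 K ≅ Y) :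
    Function.Bijective (Coh.toGlobal (e.inv ≫ CohB1.ProjSpace.toSpec 1 K)) := by
  have h2 : Function.Bijective e.inv.appTop.hom :=
    ConcreteCategory.bijective_of_isIso (e.inv.app ⊤)
  have h3 : (Coh.toGlobal (e.inv ≫ CohB1.ProjSpace.toSpec 1 K) : K → Coh.Γtop Y) =
      e.inv.appTop.hom ∘ (Coh.toGlobal (CohB1.ProjSpace.toSpec 1 K)) := by
    funext c
    rfl
  rw [h3]
  exact h2.comp (bijective_toGlobal_P1 K)

end P1

end Groth.Agent.Helper1.ExcC
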