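import Mathlib
import Groth.Agent.Lib.Helper1.ChiA3
import Groth.Agent.Lib.Helper1.HH0
import Groth.Agent.Lib.Helper5.Stalk.FlatFree
import Groth.Prelude.Def_FlatMod2

/-!
# Towards the genus formula on a regular model (helper1)

* a combinatorial induction turning the one-step formula for `χ(O_{D+Γ}) - χ(O_D)` into a
  closed quadratic formula for `2 χ(O_D)`;
* vanishing of the higher cohomology of `O_D` for vertical divisors `D`;
* lengths over `R` of the cohomology of a direct image from a scheme over a field quotient of `R`;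
* `dim H^0(C, O_C) = 1` when `K → Γ(C, O_C)` is an isomorphism;
* the structure sheaf of a flat scheme is flat over the base.
-/

set_option autoImplicit false
set_option backward.isDefEq.respectTransparency.types false
universe u
open CategoryTheory CategoryTheory.Limits AlgebraicGeometry TopologicalSpace Opposite

namespace Groth.Agent.Helper1.GenF

open Groth.Agent.Helper1 Groth.Agent.Lib.Helper4 Groth.Agent.Helper1.ChiA

section Alg

variable {n : ℕ}

theorem sum_delta_mul (i : Fin n) (g : Fin n → ℤ) :
    ∑ j, (if j = i then (1 : ℤ) else 0) * g j = g i := by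
  simp only [ite_mul, one_mul, zero_mul, Finset.sum_ite_eq', Finset.mem_univ, if_true]

theorem quad_step (c : Fin n → Fin n → ℤ) (hc : ∀ i j, c i j = c j i) (χ : Fin n → ℤ)
    (a : Fin n → ℤ) (i : Fin n) :
    (∑ j, (a j + if j = i then 1 else 0) * (2 * χ j + c j j) -
        ∑ j, ∑ l, (a j + if j = i then 1 else 0) * (a l + if l = i then 1 else 0) * c j l) -
      (∑ j, a j * (2 * χ j + c j j) - ∑ j, ∑ l, a j * a l * c j l) =
    2 * (-(∑ j, a j * c i j) + χ i) := by
  have h1 : ∑ j, (a j + if j = i then 1 else 0) * (2 * χ j + c j j) =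
      ∑ j, a j * (2 * χ j + c j j) + (2 * χ i + c i i) := by
    rw [← sum_delta_mul i (fun j => 2 * χ j + c j j), ← Finset.sum_add_distrib]
    exact Finset.sum_congr rfl (fun j _ => add_mul _ _ _)
  have hin : ∀ j, ∑ l, (a j + if j = i then 1 else 0) * (a l + if l = i then 1 else 0) * c j l =
      (a j + if j = i then 1 else 0) * (∑ l, a l * c j l + c j i) := by
    intro j
    rw [← sum_delta_mul i (fun l => c j l), ← Finset.sum_add_distrib, Finset.mul_sum]
    exact Finset.sum_congr rfl (fun l _ => by ring)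
  have hA : ∀ j, a j * ∑ l, a l * c j l = ∑ l, a j * a l * c j l := fun j => by
    rw [Finset.mul_sum]
    exact Finset.sum_congr rfl (fun l _ => (mul_assoc _ _ _).symm)
  have h2 : ∑ j, ∑ l, (a j + if j = i then 1 else 0) * (a l + if l = i then 1 else 0) * c j l =
      ∑ j, ∑ l, a j * a l * c j l + ∑ j, a j * c j i + (∑ l, a l * c i l + c i i) := by
    calc ∑ j, ∑ l, (a j + if j = i then 1 else 0) * (a l + if l = i then 1 else 0) * c j l
        = ∑ j, (a j + if j = i then 1 else 0) * (∑ l, a l * c j l + c j i) :=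
          Finset.sum_congr rfl (fun j _ => hin j)
      _ = ∑ j, (∑ l, a j * a l * c j l + a j * c j i +
            (if j = i then 1 else 0) * (∑ l, a l * c j l + c j i)) :=
          Finset.sum_congr rfl (fun j _ => by rw [← hA j]; ring)
      _ = ∑ j, ∑ l, a j * a l * c j l + ∑ j, a j * c j i + (∑ l, a l * c i l + c i i) := by
          rw [Finset.sum_add_distrib, Finset.sum_add_distrib,
            sum_delta_mul i (fun j => ∑ l, a l * c j l + c j i)]
  have h3 : ∑ j, a j * c j i = ∑ j, a j * c i j :=
    Finset.sum_congr rfl (fun j _ => by rw [hc j i])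
  rw [h1, h2, h3]
  ring

theorem quad_induction (m : Fin n → ℕ) (c : Fin n → Fin n → ℤ) (hc : ∀ i j, c i j = c j i)
    (χ : Fin n → ℤ) (F : (Fin n → ℕ) → ℤ) (h0 : F (fun _ => 0) = 0)
    (hstep : ∀ (a : Fin n → ℕ) (i : Fin n), (∀ j, a j + (if j = i then 1 else 0) ≤ m j) →
      F (fun j => a j + if j = i then 1 else 0) - F a = -(∑ j, (a j : ℤ) * c i j) + χ i)
    (e : Fin n → ℕ) (he : ∀ j, e j ≤ m j) :
    2 * F e = ∑ j, (e j : ℤ) * (2 * χ j + c j j) -
      ∑ j, ∑ l, (e j : ℤ) * (e l : ℤ) * c j l := by
  suffices H : ∀ (N : ℕ) (e : Fin n → ℕ), ∑ j, e j = N → (∀ j, e j ≤ m j) →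
      2 * F e = ∑ j, (e j : ℤ) * (2 * χ j + c j j) -
        ∑ j, ∑ l, (e j : ℤ) * (e l : ℤ) * c j l from H _ e rfl he
  intro N
  induction N with
  | zero =>
    intro e hsum _
    have hz : e = fun _ => 0 := by
      funext j
      exact (Finset.sum_eq_zero_iff.1 hsum) j (Finset.mem_univ j)
    subst hz
    rw [h0]
    simp
  | succ N ih =>
    intro e hsum he
    obtain ⟨i, hi⟩ : ∃ i, e i ≠ 0 := by
      by_contra hcon
      have hcon' : ∀ j, e j = 0 := fun j => by
        by_contra hj
        exact hcon ⟨j, hj⟩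
      have : ∑ j, e j = 0 := Finset.sum_eq_zero (fun j _ => hcon' j)
      omega
    obtain ⟨a, ha⟩ : ∃ a : Fin n → ℕ, a = fun j => e j - if j = i then 1 else 0 := ⟨_, rfl⟩
    have hea : ∀ j, e j = a j + if j = i then 1 else 0 := by
      intro j
      rw [ha]
      by_cases hji : j = i
      · subst hji
        simp only [if_true]
        omega
      · simp only [if_neg hji]
        omega
    have hsa : ∑ j, a j = N := by
      have h1 : ∑ j, e j = ∑ j, (a j + if j = i then 1 else 0) :=
        Finset.sum_congr rfl (fun j _ => hea j)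
      rw [Finset.sum_add_distrib] at h1
      simp only [Finset.sum_ite_eq', Finset.mem_univ, if_true] at h1
      omega
    have hale : ∀ j, a j ≤ m j := fun j => by
      have := hea j
      have := he j
      omega
    have hle' : ∀ j, a j + (if j = i then 1 else 0) ≤ m j := fun j => by
      rw [← hea j]
      exact he j
    have key := hstep a i hle'
    have iha := ih a hsa hale
    have q := quad_step c hc χ (fun j => (a j : ℤ)) i
    beta_reduce at q
    have hee : e = fun j => a j + if j = i then 1 else 0 := funext hea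
    rw [hee]
    push_cast
    linarith

theorem vert_induction (m : Fin n → ℕ) (P : (Fin n → ℕ) → Prop) (h0 : P (fun _ => 0))
    (hstep : ∀ (a : Fin n → ℕ) (i : Fin n), (∀ j, a j + (if j = i then 1 else 0) ≤ m j) → P a →
      P (fun j => a j + if j = i then 1 else 0))
    (e : Fin n → ℕ) (he : ∀ j, e j ≤ m j) : P e := by
  suffices H : ∀ (N : ℕ) (e : Fin n → ℕ), ∑ j, e j = N → (∀ j, e j ≤ m j) → P e from
    H _ e rfl he
  intro N
  induction N with
  | zero =>
    intro e hsum _
    have hz : e = fun _ => 0 := by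
      funext j
      exact (Finset.sum_eq_zero_iff.1 hsum) j (Finset.mem_univ j)
    rw [hz]
    exact h0
  | succ N ih =>
    intro e hsum he
    obtain ⟨i, hi⟩ : ∃ i, e i ≠ 0 := by
      by_contra hcon
      have hcon' : ∀ j, e j = 0 := fun j => by
        by_contra hj
        exact hcon ⟨j, hj⟩
      have : ∑ j, e j = 0 := Finset.sum_eq_zero (fun j _ => hcon' j)
      omega
    obtain ⟨a, ha⟩ : ∃ a : Fin n → ℕ, a = fun j => e j - if j = i then 1 else 0 := ⟨_, rfl⟩
    have hea : ∀ j, e j = a j + if j = i then 1 else 0 := by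
      intro j
      rw [ha]
      by_cases hji : j = i
      · subst hji
        simp only [if_true]
        omega
      · simp only [if_neg hji]
        omega
    have hsa : ∑ j, a j = N := by
      have h1 : ∑ j, e j = ∑ j, (a j + if j = i then 1 else 0) :=
        Finset.sum_congr rfl (fun j _ => hea j)
      rw [Finset.sum_add_distrib] at h1
      simp only [Finset.sum_ite_eq', Finset.mem_univ, if_true] at h1
      omega
    have hale : ∀ j, a j ≤ m j := fun j => by
      have := hea j
      have := he j
      omega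
    have hle' : ∀ j, a j + (if j = i then 1 else 0) ≤ m j := fun j => by
      rw [← hea j]
      exact he j
    have hee : e = fun j => a j + if j = i then 1 else 0 := funext hea
    rw [hee]
    exact hstep a i hle' (ih a hsa hale)

end Alg

section Top

variable {X : Scheme.{u}}

theorem subschemeι_appTop_eq_zero (J : X.IdealSheafData) (s : Γ(X, ⊤))
    (hs : ∀ V : X.affineOpens,
      (X.presheaf.map (homOfLE (le_top : V.1 ≤ ⊤)).op).hom s ∈ J.ideal V) :
    (J.subschemeι.appTop).hom s = 0 := by
  refine J.subscheme.sheaf.eq_of_locally_eq'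
    (fun V : X.affineOpens => J.subschemeι ⁻¹ᵁ V.1) ⊤ (fun V => homOfLE le_top) ?_ _ _ ?_
  · intro z _
    obtain ⟨_, ⟨V, hV, rfl⟩, hzV, -⟩ := X.isBasis_affineOpens.exists_subset_of_mem_open
      (show J.subschemeι.base z ∈ ((⊤ : X.Opens) : Set X) from trivial)
      (⊤ : X.Opens).2
    exact Opens.mem_iSup.2 ⟨⟨V, hV⟩, hzV⟩
  · intro V
    have hz : (J.subscheme.presheaf.map
        (homOfLE (le_top : J.subschemeι ⁻¹ᵁ V.1 ≤ ⊤)).op).hom 0 = 0 := map_zero _
    refine Eq.trans ?_ hz.symm
    have hnat := J.subschemeι.naturality (homOfLE (le_top : V.1 ≤ ⊤)).op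
    have h := congrArg (fun g => g.hom s) hnat
    simp only [CommRingCat.hom_comp, RingHom.comp_apply] at h
    have hmem := hs V
    rw [← J.ker_subschemeι_app V, RingHom.mem_ker] at hmem
    exact h.symm.trans hmem

theorem smul_HH_quotMod_eq_zero (J : X.IdealSheafData) (s : Coh.Γtop X)
    (hs : ∀ V : X.affineOpens,
      (X.presheaf.map (homOfLE (le_top : V.1 ≤ ⊤)).op).hom (show Γ(X, ⊤) from s) ∈ J.ideal V)
    (p : ℕ) (x : Coh.HH X (ClSub.quotMod J) p) : s • x = 0 := by
  have h0 : (J.subschemeι.appTop).hom (show Γ(X, ⊤) from s) = (J.subschemeι.appTop).hom 0 :=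
    (subschemeι_appTop_eq_zero J _ hs).trans (map_zero _).symm
  have hk : Coh.smulAb (ClSub.quotMod J) s = Coh.smulAb (ClSub.quotMod J) 0 :=
    (LinBridge1.smulAb_push J.subschemeι (Coh.structureModule J.subscheme) _).trans
      ((congrArg (fun t => (Coh.pushAb J.subschemeι).map
        (Coh.smulAb (Coh.structureModule J.subscheme) t)) h0).trans
        (LinBridge1.smulAb_push J.subschemeι (Coh.structureModule J.subscheme) 0).symm)
  show Sheaf.H.map (Coh.smulAb (ClSub.quotMod J) s) p x = 0
  rw [hk]
  exact zero_smul (Coh.Γtop X) x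

theorem subsingleton_HH_quotMod_top (p : ℕ) :
    Subsingleton (Coh.HH X (ClSub.quotMod (⊤ : X.IdealSheafData)) p) := by
  have hz : ∀ z : Coh.HH X (ClSub.quotMod (⊤ : X.IdealSheafData)) p, z = 0 := fun z => by
    have h := smul_HH_quotMod_eq_zero (⊤ : X.IdealSheafData) (1 : Coh.Γtop X)
      (fun V => Submodule.mem_top) p z
    rwa [one_smul] at h
  exact ⟨fun a b => (hz a).trans (hz b).symm⟩

theorem toGlobal_comp_specMap {A B : Type u} [CommRing A] [CommRing B] {Y : Scheme.{u}}
    (y : Y ⟶ Spec (CommRingCat.of B)) (φ : A →+* B) (r : A) :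
    Coh.toGlobal (y ≫ Spec.map (CommRingCat.ofHom φ)) r = Coh.toGlobal y (φ r) := by
  have h2 := Scheme.ΓSpecIso_inv_naturality (CommRingCat.ofHom φ)
  have h3 := congrArg (fun g => g.hom r) h2
  simp only [CommRingCat.hom_comp, RingHom.comp_apply, CommRingCat.hom_ofHom] at h3
  show (y ≫ Spec.map (CommRingCat.ofHom φ)).appTop.hom
      ((Scheme.ΓSpecIso (CommRingCat.of A)).inv.hom r) =
    y.appTop.hom ((Scheme.ΓSpecIso (CommRingCat.of B)).inv.hom (φ r))
  rw [Scheme.Hom.comp_appTop, CommRingCat.hom_comp, RingHom.comp_apply, ← h3]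

/-- `dim_K H^0(C, O_C) = 1` when `K → Γ(C, O_C)` is an isomorphism -/
theorem finrank_H0_of_isIso_appTop (K : Type u) [Field K] (C : Scheme.{u})
    (f : C ⟶ Spec (CommRingCat.of K)) (h : IsIso f.appTop) :
    @Module.finrank K (Coh.HH C (Coh.structureModule C) 0) _ _
      (@Coh.moduleOver K _ C ⟨f⟩ (Coh.structureModule C) 0) = 1 := by
  letI : C.Over (Spec (CommRingCat.of K)) := ⟨f⟩
  have hb : Function.Bijective (Coh.toGlobal f) := by
    have h1 : Function.Bijective f.appTop.hom :=
      (ConcreteCategory.isIso_iff_bijective f.appTop).1 h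
    have h2 : Function.Bijective (Scheme.ΓSpecIso (CommRingCat.of K)).inv.hom :=
      (ConcreteCategory.isIso_iff_bijective (Scheme.ΓSpecIso (CommRingCat.of K)).inv).1
        inferInstance
    exact h1.comp h2
  have key : ∀ a : K, HH0.equiv C (Coh.structureModule C)
      (a • (HH0.equiv C (Coh.structureModule C)).symm (1 : C.ringCatSheaf.obj.obj (op ⊤))) =
      Coh.toGlobal f a := by
    intro a
    rw [HH0.equiv_smul_over, AddEquiv.apply_symm_apply]
    exact mul_one (Coh.toGlobal f a)
  have hL : Function.Bijective (LinearMap.toSpanSingleton K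
      (Coh.HH C (Coh.structureModule C) 0)
      ((HH0.equiv C (Coh.structureModule C)).symm (1 : C.ringCatSheaf.obj.obj (op ⊤)))) := by
    constructor
    · intro a b hab
      apply hb.1
      rw [← key a, ← key b]
      exact congrArg (HH0.equiv C (Coh.structureModule C)) hab
    · intro x
      obtain ⟨a, ha⟩ := hb.2 (HH0.equiv C (Coh.structureModule C) x)
      exact ⟨a, (HH0.equiv C (Coh.structureModule C)).injective ((key a).trans ha)⟩
  exact (LinearEquiv.ofBijective _ hL).finrank_eq.symm.trans (Module.finrank_self K)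

/-- the structure sheaf of a flat scheme is flat over the base -/
theorem isFlatOver_structureModule {X S : Scheme.{u}} (f : X ⟶ S) [Flat f] :
    FlatMod.IsFlatOver f (Coh.structureModule X) := by
  intro x
  have hfl : (f.stalkMap x).hom.Flat := Flat.stalkMap f x
  unfold FlatMod.IsFlatOverAt
  letI alg : Algebra (S.presheaf.stalk (f.base x)) (X.presheaf.stalk x) :=
    (f.stalkMap x).hom.toAlgebra
  haveI : Module.Flat (S.presheaf.stalk (f.base x)) (X.presheaf.stalk x) := hfl
  letI := FlatMod.moduleStalkOver f (Coh.structureModule X) x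
  let e : (X.presheaf.stalk x) ≃ₗ[X.presheaf.stalk x]
      ((Coh.structureModule X).presheaf.stalk x) :=
    (Groth.Agent.Lib.Helper5.StalkAdj.stalkUnitIso X x).toLinearEquiv
  let e' : ((Coh.structureModule X).presheaf.stalk x) ≃ₗ[S.presheaf.stalk (f.base x)]
      (X.presheaf.stalk x) :=
    { toFun := fun v => e.symm v
      invFun := fun v => e v
      left_inv := fun v => e.apply_symm_apply v
      right_inv := fun v => e.symm_apply_apply v
      map_add' := fun v w => map_add e.symm v w
      map_smul' := fun c v => e.symm.map_smul ((f.stalkMap x).hom c) v }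
  exact Module.Flat.of_linearEquiv e'

end Top

section Push

variable (R : Type u) [CommRing R] [IsDomain R] [IsDiscreteValuationRing R]
  (X : Over (Spec (CommRingCat.of R)))

/-- the cohomology of a direct image along an affine morphism from a scheme over a field quotient
of `R`: lengths over `R` are dimensions over the field -/
theorem lengthH_push' {Y : Scheme.{u}} (κ : Type u) [Field κ] (ψ : R →+* κ)
    (hψ : Function.Surjective ψ) (y : Y ⟶ Spec (CommRingCat.of κ)) (ι : Y ⟶ X.left)
    [IsAffineHom ι] (w : ι ≫ X.hom = y ≫ Spec.map (CommRingCat.ofHom ψ))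
    (N : Y.Modules) [N.IsQuasicoherent] (p : ℕ) :
    Models.lengthH R X ((Scheme.Modules.pushforward ι).obj N) p =
      @Module.finrank κ (Coh.HH Y N p) _ _ (@Coh.moduleOver κ _ Y ⟨y⟩ N p) := by
  letI iκ : Y.Over (Spec (CommRingCat.of κ)) := ⟨y⟩
  letI iO : Y.Over (Spec (CommRingCat.of R)) := ⟨y ≫ Spec.map (CommRingCat.ofHom ψ)⟩
  have e := LinBridge1.lerayEquiv ι N R w p
  have h1 : Module.length R (Coh.HH X.left ((Scheme.Modules.pushforward ι).obj N) p) =
      Module.length R (Coh.HH Y N p) := e.length_eq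
  have key : ∀ (r : R) (z : Coh.HH Y N p), r • z = (ψ r) • z := by
    intro r z
    show (Coh.toGlobal (y ≫ Spec.map (CommRingCat.ofHom ψ)) r) • z = (Coh.toGlobal y (ψ r)) • z
    rw [toGlobal_comp_specMap]
  letI alg : Algebra R κ := ψ.toAlgebra
  haveI : IsScalarTower R κ (Coh.HH Y N p) :=
    ⟨fun r c z => by
      rw [key r (c • z), Algebra.smul_def, mul_smul]
      rfl⟩
  have h2 : Module.length R (Coh.HH Y N p) = Module.length κ (Coh.HH Y N p) :=
    Module.length_eq_of_surjective (S := R) (R := κ) (M := Coh.HH Y N p) hψ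
  have h3 := Module.length_eq_rank κ (Coh.HH Y N p)
  unfold Models.lengthH
  rw [h1, h2, h3]
  exact Cardinal.toNat_toENat _

end Push

section Step

variable (R : Type u) [CommRing R] [IsDomain R] [IsDiscreteValuationRing R]
  (X : Over (Spec (CommRingCat.of R)))

/-- vanishing of the higher cohomology is inherited when a component is added -/
theorem subsingleton_HH_step (hp : IsProper X.hom) (Γ : ArSurf.VertComp R X)
    (I : X.left.IdealSheafData) (hI : PicF.IsInvertible (ClSub.idealMod I)) (p : ℕ) (hp2 : 1 < p)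
    (h : Subsingleton (Coh.HH X.left (ClSub.quotMod I) p)) :
    Subsingleton (Coh.HH X.left (ClSub.quotMod (I * Γ.ι.ker)) p) := by
  haveI : IsProper (X.left ↘ Spec (CommRingCat.of R)) := hp
  haveI : Epi (r I Γ.ι.ker) := epi_r I Γ.ι.ker
  have hS : (ShortComplex.mk (kernel.ι (r I Γ.ι.ker)) (r I Γ.ι.ker)
      (kernel.condition _)).ShortExact :=
    ShortComplex.ShortExact.mk'
      (ShortComplex.exact_of_f_is_kernel _ (kernelIsKernel (r I Γ.ι.ker)))
      (inferInstanceAs (Mono (kernel.ι (r I Γ.ι.ker)))) (inferInstanceAs (Epi (r I Γ.ι.ker)))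
  obtain ⟨e⟩ := nonempty_kernel_r_iso Γ.ι I hI
  haveI hNqc : ((Scheme.Modules.pullback Γ.ι).obj (ClSub.idealMod I)).IsQuasicoherent :=
    InvQc.isQuasicoherent_of_isInvertible _ (PullGen.isInvertible_pullback Γ.ι hI)
  haveI hsubA : Subsingleton (Coh.HH X.left (kernel (r I Γ.ι.ker)) p) := by
    haveI := subsingleton_HH_push R X Γ hp
      ((Scheme.Modules.pullback Γ.ι).obj (ClSub.idealMod I)) p hp2
    exact (HHFin1.HHequiv R e p).toEquiv.subsingleton
  have hz : ∀ z : Coh.HH X.left (ClSub.quotMod (I * Γ.ι.ker)) p, z = 0 := by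
    intro z
    obtain ⟨w, hw⟩ := HHFin2.exact_f_g R hS p z (Subsingleton.elim _ _)
    rw [← hw, Subsingleton.elim w 0]
    exact map_zero _
  exact ⟨fun a b => (hz a).trans (hz b).symm⟩

end Step

end Groth.Agent.Helper1.GenF
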