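import Mathlib
import Groth.Agent.Lib.Helper1.GenF1
import Groth.Agent.Lib.Helper1.SemiF1
import Groth.Agent.Lib.Helper1.NumEq1
import Groth.Agent.Lib.Helper1.AmpleQA
import Groth.Agent.Lib.Helper7.Betti.Noeth
import Groth.Agent.Lib.Helper7.Betti.BC
import Groth.Prelude.Def_PerfAux
import Groth.Prelude.Def_ModelsG

/-!
# The Euler characteristic of the closed fibre of a proper flat model equals that of the generic
fibre (helper1)
-/

set_option autoImplicit false
set_option backward.isDefEq.respectTransparency.types false
universe u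
open CategoryTheory CategoryTheory.Limits AlgebraicGeometry TopologicalSpace Opposite IsLocalRing

namespace Groth.Agent.Helper1.GenF

open Groth.Agent.Helper1 Groth.Agent.Lib.Helper4 Groth.Agent.Helper1.ChiA

section Gen

theorem eulerChar_eq_of_vanish {X S : Scheme.{u}} (f : X ⟶ S) (F : X.Modules) (s : S)
    (h : ∀ i, 1 < i → PerfAux.betti f F s i = 0) :
    PerfAux.eulerChar f F s = (PerfAux.betti f F s 0 : ℤ) - (PerfAux.betti f F s 1 : ℤ) := by
  unfold PerfAux.eulerChar
  rw [finsum_eq_sum_of_support_subset (s := Finset.range 2)]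
  · rw [Finset.sum_range_succ, Finset.sum_range_one]
    ring
  · intro i hi
    rw [Function.mem_support] at hi
    by_contra hcon
    apply hi
    have h2 : 1 < i := by
      by_contra h'
      exact hcon (Finset.mem_coe.2 (Finset.mem_range.2 (by omega)))
    rw [h i h2]
    simp

/-- the Betti numbers of a scheme over a field, seen as a family over a point -/
theorem betti_field (K : Type u) [Field K] {Y : Scheme.{u}} (f : Y ⟶ Spec (CommRingCat.of K))
    [QuasiCompact f] [QuasiSeparated f] (G : Y.Modules) [G.IsQuasicoherent]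
    (t : Spec (CommRingCat.of K)) (i : ℕ) :
    PerfAux.betti f G t i =
      @Module.finrank K (Coh.HH Y G i) _ _ (@Coh.moduleOver K _ Y ⟨f⟩ G i) := by
  letI oY : Y.Over (Spec (CommRingCat.of K)) := ⟨f⟩
  letI oY' : (f.fiber t).Over
      (Spec (CommRingCat.of ((Spec (CommRingCat.of K)).residueField t))) :=
    ⟨f.fiberToSpecResidueField t⟩
  obtain ⟨φ, hφ⟩ : ∃ φ : CommRingCat.of K ⟶ (Spec (CommRingCat.of K)).residueField t,
      Spec.map φ = (Spec (CommRingCat.of K)).fromSpecResidueField t :=
    ⟨Spec.preimage _, Spec.map_preimage _⟩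
  letI alg : Algebra K ((Spec (CommRingCat.of K)).residueField t) := φ.hom.toAlgebra
  have hpb : IsPullback (f.fiberι t) (f.fiberToSpecResidueField t) f
      (Spec.map (CommRingCat.ofHom
        (algebraMap K ((Spec (CommRingCat.of K)).residueField t)))) := by
    have h0 : Spec.map (CommRingCat.ofHom
        (algebraMap K ((Spec (CommRingCat.of K)).residueField t))) =
        (Spec (CommRingCat.of K)).fromSpecResidueField t := hφ
    have hgen : ∀ g : Spec ((Spec (CommRingCat.of K)).residueField t) ⟶ Spec (CommRingCat.of K),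
        g = (Spec (CommRingCat.of K)).fromSpecResidueField t →
        IsPullback (f.fiberι t) (f.fiberToSpecResidueField t) f g := by
      rintro g rfl
      exact IsPullback.of_hasPullback f _
    exact hgen _ h0
  haveI : CompactSpace ↥Y := QuasiCompact.compactSpace_of_compactSpace f
  haveI : QuasiSeparatedSpace ↥Y := quasiSeparatedSpace_of_quasiSeparated f
  obtain ⟨e1⟩ := Groth.Agent.Helper3.FlatTen.main K ((Spec (CommRingCat.of K)).residueField t)
    ((Spec (CommRingCat.of K)).residueField t) (f.fiberι t) hpb G i
  obtain ⟨i1⟩ := Groth.Agent.Helper7.Betti.nonempty_tensorMod_pullback_tildeSelf_iso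
    ((Spec (CommRingCat.of K)).residueField t) (f.fiberToSpecResidueField t)
    ((Scheme.Modules.pullback (f.fiberι t)).obj G)
  have e2 := Groth.Agent.Helper3.FlatTen.HHcongr ((Spec (CommRingCat.of K)).residueField t) i1 i
  have h1 := (e1.trans e2).finrank_eq
  rw [Module.finrank_baseChange] at h1
  exact h1.symm

end Gen

section Closed

variable (R : Type u) [CommRing R] [IsDomain R] [IsDiscreteValuationRing R]
  (X : Over (Spec (CommRingCat.of R)))

/-- the Betti numbers of the closed fibre are the lengths of the cohomology of `O_X / 𝔪 O_X` -/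
theorem betti_closedPoint (i : ℕ) :
    PerfAux.betti X.hom (Coh.structureModule X.left) (closedPoint R) i =
      Models.lengthH R X (ClSub.quotMod (Models.specialFibreIdeal R X)) i := by
  haveI hci : IsClosedImmersion (X.hom.fiberι (closedPoint R)) :=
    SemiF.isClosedImmersion_fiberι R X
  obtain ⟨ε, hε⟩ := SemiF.exists_iso_residue R
  obtain ⟨ψc, hψc⟩ : ∃ ψc : CommRingCat.of R ⟶
      (Spec (CommRingCat.of R)).residueField (closedPoint R),
      Spec.map ψc = (Spec (CommRingCat.of R)).fromSpecResidueField (closedPoint R) :=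
    ⟨Spec.preimage _, Spec.map_preimage _⟩
  obtain ⟨φ1, hφ1⟩ : ∃ φ1 : CommRingCat.of (IsLocalRing.ResidueField R) ⟶
      (Spec (CommRingCat.of R)).residueField (closedPoint R), Spec.map φ1 = ε.hom :=
    ⟨Spec.preimage _, Spec.map_preimage _⟩
  obtain ⟨φ2, hφ2⟩ : ∃ φ2 : (Spec (CommRingCat.of R)).residueField (closedPoint R) ⟶
      CommRingCat.of (IsLocalRing.ResidueField R), Spec.map φ2 = ε.inv :=
    ⟨Spec.preimage _, Spec.map_preimage _⟩
  have h21 : φ2 ≫ φ1 = 𝟙 _ := Spec.map_injective (by
    rw [Spec.map_comp, hφ1, hφ2, Iso.hom_inv_id, Spec.map_id])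
  have hψ : ψc = CommRingCat.ofHom (IsLocalRing.residue R) ≫ φ1 := Spec.map_injective (by
    rw [Spec.map_comp, hφ1, hψc, hε])
  have hsurj : Function.Surjective ψc.hom := by
    intro b
    obtain ⟨r, hr⟩ := IsLocalRing.residue_surjective (φ2.hom b)
    refine ⟨r, ?_⟩
    rw [hψ]
    show φ1.hom (IsLocalRing.residue R r) = b
    rw [hr]
    exact congrArg (fun g => g.hom b) h21
  have w : X.hom.fiberι (closedPoint R) ≫ X.hom =
      X.hom.fiberToSpecResidueField (closedPoint R) ≫ Spec.map (CommRingCat.ofHom ψc.hom) :=
    pullback.condition.trans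
      (congrArg (fun g => X.hom.fiberToSpecResidueField (closedPoint R) ≫ g) hψc.symm)
  haveI : ((Scheme.Modules.pullback (X.hom.fiberι (closedPoint R))).obj
      (Coh.structureModule X.left)).IsQuasicoherent :=
    Groth.Agent.Lead.PB.isQuasicoherent_pullback _ _
  have h := lengthH_push' R X _ ψc.hom hsurj (X.hom.fiberToSpecResidueField (closedPoint R))
    (X.hom.fiberι (closedPoint R)) w
    ((Scheme.Modules.pullback (X.hom.fiberι (closedPoint R))).obj (Coh.structureModule X.left)) i
  have e1 : (Scheme.Modules.pushforward (X.hom.fiberι (closedPoint R))).obj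
      ((Scheme.Modules.pullback (X.hom.fiberι (closedPoint R))).obj
        (Coh.structureModule X.left)) ≅
      ClSub.quotMod (X.hom.fiberι (closedPoint R)).ker :=
    (Scheme.Modules.pushforward (X.hom.fiberι (closedPoint R))).mapIso
      (QcPullGen.pullbackUnitIso (X.hom.fiberι (closedPoint R))) ≪≫
      NumEq.pushIso (X.hom.fiberι (closedPoint R))
  have h2 : Models.lengthH R X ((Scheme.Modules.pushforward (X.hom.fiberι (closedPoint R))).obj
      ((Scheme.Modules.pullback (X.hom.fiberι (closedPoint R))).obj
        (Coh.structureModule X.left))) i =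
      Models.lengthH R X (ClSub.quotMod (X.hom.fiberι (closedPoint R)).ker) i := by
    unfold Models.lengthH
    rw [(HHFin1.HHequiv R e1 i).length_eq]
  rw [SemiF.ker_fiberι] at h2
  exact h.symm.trans h2

end Closed

section Main

variable (R : Type u) [CommRing R] [IsDomain R] [IsDiscreteValuationRing R]

/-- **invariance of the Euler characteristic**: `χ(O_{X_k}) = 1 - g(C)` for a proper flat model
of a smooth proper curve with `H^0(C, O_C) = K`, provided the higher cohomology of `O_{X_k}`
vanishes -/
theorem chi_closed_eq (C X : Scheme.{u}) (f : C ⟶ Spec (CommRingCat.of (FractionRing R)))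
    (p : X ⟶ Spec (CommRingCat.of R))
    (hC : Curve.IsSmoothProperCurve (FractionRing R) C f) (hH0 : IsIso f.appTop)
    (hX : Models.IsRegularProperModel R X p C f)
    (hvan : ∀ i, 1 < i → Subsingleton
      (Coh.HH X (ClSub.quotMod (Models.specialFibreIdeal R (Over.mk p))) i)) :
    ((Models.lengthH R (Over.mk p)
          (ClSub.quotMod (Models.specialFibreIdeal R (Over.mk p))) 0 : ℤ) -
        (Models.lengthH R (Over.mk p)
          (ClSub.quotMod (Models.specialFibreIdeal R (Over.mk p))) 1 : ℤ)) =
      1 - (Models.curveGenus (FractionRing R) C f : ℤ) := by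
  obtain ⟨⟨hflat, hlft, hqc, g', H⟩, hp, hreg⟩ := hX
  obtain ⟨hCp, -, hCi, hCd⟩ := hC
  haveI := hlft
  haveI := hp
  haveI : Flat p := hflat
  haveI := hCp
  haveI := hCi
  have hcoh : Coh.IsCoh (Coh.structureModule X) :=
    InvQc.isCoh_of_isInvertible _ GenLoc.isInvertible_O
  have hfl : FlatMod.IsFlatOver p (Coh.structureModule X) := isFlatOver_structureModule p
  have hlc := Groth.Agent.Helper7.Betti.isLocallyConstant_eulerChar_noeth R p
    (Coh.structureModule X) hcoh hfl
  -- the closed point
  have hs0 : ∀ i, PerfAux.betti p (Coh.structureModule X) (closedPoint R) i =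
      Models.lengthH R (Over.mk p) (ClSub.quotMod (Models.specialFibreIdeal R (Over.mk p))) i :=
    fun i => betti_closedPoint R (Over.mk p) i
  have hsv : ∀ i, 1 < i → PerfAux.betti p (Coh.structureModule X) (closedPoint R) i = 0 := by
    intro i hi
    rw [hs0 i]
    haveI : Subsingleton (Coh.HH (Over.mk p).left
        (ClSub.quotMod (Models.specialFibreIdeal R (Over.mk p))) i) := hvan i hi
    unfold Models.lengthH
    rw [Module.length_eq_zero]
    rfl
  have hs := eulerChar_eq_of_vanish p (Coh.structureModule X) (closedPoint R) hsv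
  rw [hs0 0, hs0 1] at hs
  -- the generic point
  letI oC : C.Over (Spec (CommRingCat.of (FractionRing R))) := ⟨f⟩
  haveI : IsProper (C ↘ Spec (CommRingCat.of (FractionRing R))) := hCp
  haveI : IsNoetherian C := Euler.isNoetherian_of_proper (FractionRing R) C
  obtain ⟨z, hz⟩ : ∃ z : Spec (CommRingCat.of R), ∀ i,
      PerfAux.betti p (Coh.structureModule X) z i =
        @Module.finrank (FractionRing R) (Coh.HH C (Coh.structureModule C) i) _ _
          (@Coh.moduleOver (FractionRing R) _ C ⟨f⟩ (Coh.structureModule C) i) := by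
    refine ⟨(Spec.map (CommRingCat.ofHom (algebraMap R (FractionRing R))))
      (show ↥(Spec (CommRingCat.of (FractionRing R))) from closedPoint (FractionRing R)),
      fun i => ?_⟩
    refine (Groth.Agent.Helper7.Betti.betti_baseChange p
      (Spec.map (CommRingCat.ofHom (algebraMap R (FractionRing R)))) g' f H
      (Coh.structureModule X) (closedPoint (FractionRing R)) i).symm.trans ?_
    rw [Groth.Agent.Helper7.Betti.betti_congr f (QcPullGen.pullbackUnitIso g')
      (closedPoint (FractionRing R)) i]
    exact betti_field (FractionRing R) f (Coh.structureModule C) _ i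
  have hzv : ∀ i, 1 < i → PerfAux.betti p (Coh.structureModule X) z i = 0 := by
    intro i hi
    rw [hz i]
    haveI : Subsingleton (Coh.HH C (Coh.structureModule C) i) :=
      FGAInt.subsingleton_HH_of_dim_lt C 1 (by rw [hCd, Nat.cast_one]) (Coh.structureModule C) i hi
    exact Module.finrank_zero_of_subsingleton
  have hzc := eulerChar_eq_of_vanish p (Coh.structureModule X) z hzv
  rw [hz 0, hz 1, finrank_H0_of_isIso_appTop (FractionRing R) C f hH0] at hzc
  have hg : @Module.finrank (FractionRing R) (Coh.HH C (Coh.structureModule C) 1) _ _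
      (@Coh.moduleOver (FractionRing R) _ C ⟨f⟩ (Coh.structureModule C) 1) =
      Models.curveGenus (FractionRing R) C f := rfl
  rw [hg] at hzc
  -- local constancy
  have hopen : IsOpen {y : Spec (CommRingCat.of R) |
      PerfAux.eulerChar p (Coh.structureModule X) y =
        PerfAux.eulerChar p (Coh.structureModule X) (closedPoint R)} := hlc.isOpen_fiber _
  have hspec : z ⤳ (closedPoint R : Spec (CommRingCat.of R)) :=
    IsLocalRing.specializes_closedPoint (R := R) z
  have heq : PerfAux.eulerChar p (Coh.structureModule X) z =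
      PerfAux.eulerChar p (Coh.structureModule X) (closedPoint R) := hspec.mem_open hopen rfl
  rw [← hs, ← heq, hzc]
  norm_num

end Main

end Groth.Agent.Helper1.GenF
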