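import Mathlib
import Groth.Agent.Lib.Helper1.GenF2
import Groth.Agent.Lib.Helper1.ExcC1
import Groth.Agent.Lib.Helper1.SpFib4

/-!
# The numerical data of the closed fibre of a regular model: divisibilities by the degrees of
the fields of constants, and connectedness of the dual graph (helper1)
-/

set_option autoImplicit false
set_option backward.isDefEq.respectTransparency.types false
universe u
open CategoryTheory CategoryTheory.Limits AlgebraicGeometry TopologicalSpace Opposite IsLocalRing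

namespace Groth.Agent.Helper1.GenF

open Groth.Agent.Helper1 Groth.Agent.Lib.Helper4

section Comp

variable (R : Type u) [CommRing R] [IsDomain R] [IsDiscreteValuationRing R]
  (X : Over (Spec (CommRingCat.of R))) (hp : IsProper X.hom) (Γ : ArSurf.VertComp R X)

include hp in
theorem isField_curve : IsField Γ(Γ.curve.left, ⊤) := by
  haveI : IsProper (Γ.curve.left ↘ Spec (CommRingCat.of (IsLocalRing.ResidueField R))) :=
    ArInt.isProper_curve R X hp Γ
  exact (GlobField.main (IsLocalRing.ResidueField R) Γ.curve.left).1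

theorem wdeg_eq_w : Models.wdeg R X Γ = ExcC.w (IsLocalRing.ResidueField R) Γ.curve.left :=
  (ExcC.w_eq_finrank_H0 (IsLocalRing.ResidueField R) Γ.curve.left).symm

include hp in
theorem wdeg_pos : 0 < Models.wdeg R X Γ := by
  haveI : IsProper (Γ.curve.left ↘ Spec (CommRingCat.of (IsLocalRing.ResidueField R))) :=
    ArInt.isProper_curve R X hp Γ
  rw [wdeg_eq_w]
  exact ExcC.w_pos (IsLocalRing.ResidueField R) Γ.curve.left

include hp in
theorem wdeg_dvd_finrank (M : Γ.curve.left.Modules) (i : ℕ) :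
    Models.wdeg R X Γ ∣ Module.finrank (IsLocalRing.ResidueField R) (Coh.HH Γ.curve.left M i) := by
  rw [wdeg_eq_w, ExcC.finrank_eq_mul (IsLocalRing.ResidueField R) Γ.curve.left
    (isField_curve R X hp Γ) M i]
  exact Dvd.intro _ rfl

include hp in
theorem wdeg_dvd_h1 : Models.wdeg R X Γ ∣ Models.h1 R X Γ :=
  wdeg_dvd_finrank R X hp Γ (Coh.structureModule Γ.curve.left) 1

include hp in
theorem wdeg_dvd_inter (L : X.left.Modules) :
    (Models.wdeg R X Γ : ℤ) ∣ ArSurf.inter R X L Γ := by
  unfold ArSurf.inter ArSurf.curveDeg FGA.eulerCharLE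
  apply dvd_sub
  · apply Finset.dvd_sum
    intro i _
    apply Dvd.dvd.mul_left
    exact Int.natCast_dvd_natCast.2 (wdeg_dvd_finrank R X hp Γ _ i)
  · apply Finset.dvd_sum
    intro i _
    apply Dvd.dvd.mul_left
    exact Int.natCast_dvd_natCast.2 (wdeg_dvd_finrank R X hp Γ _ i)

end Comp

section Conn

variable (R : Type u) [CommRing R] [IsDomain R] [IsDiscreteValuationRing R]
  (X : Over (Spec (CommRingCat.of R)))

theorem specMap_residue_apply
    (y : ↥(Spec (CommRingCat.of (IsLocalRing.ResidueField R)))) :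
    (Spec.map (CommRingCat.ofHom (IsLocalRing.residue R))) y = closedPoint R := by
  obtain ⟨ε, hε⟩ := SemiF.exists_iso_residue R
  have h2 : (ε.inv ≫ ε.hom ≫ Spec.map (CommRingCat.ofHom (IsLocalRing.residue R))) y =
      (Spec.map (CommRingCat.ofHom (IsLocalRing.residue R))) y := by
    rw [Iso.inv_hom_id_assoc]
  rw [← h2, hε, Scheme.Hom.comp_apply]
  exact Scheme.fromSpecResidueField_apply _ _

/-- the points of the special fibre lie over the closed point -/
theorem fst_specialFibre_apply (s : ↥(Models.specialFibre R X.left X.hom)) :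
    X.hom ((pullback.fst X.hom (Spec.map (CommRingCat.ofHom
      (algebraMap R (IsLocalRing.ResidueField R))))) s) = closedPoint R := by
  rw [← Scheme.Hom.comp_apply, pullback.condition, Scheme.Hom.comp_apply]
  exact specMap_residue_apply R _

/-- the points of a vertical prime divisor lie on the special fibre -/
theorem vertComp_mem_range_fst (Γ : ArSurf.VertComp R X) (c : Γ.curve.left) :
    Γ.ι c ∈ Set.range (pullback.fst X.hom (Spec.map (CommRingCat.ofHom
      (algebraMap R (IsLocalRing.ResidueField R))))) := by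
  rw [Scheme.Pullback.range_fst]
  refine ⟨Γ.curve.hom c, ?_⟩
  have h := congrArg (fun φ => φ c) Γ.w
  simp only [Scheme.Hom.comp_apply] at h
  exact h.symm

variable [IsLocallyNoetherian X.left]

/-- **connectedness of the dual graph** of a connected closed fibre -/
theorem exists_inter_ne_zero (hp : IsProper X.hom)
    (hconn : ConnectedSpace ↥(Models.specialFibre R X.left X.hom))
    {n : ℕ} (Γ : Fin n → ArSurf.VertComp R X)
    (hinj : Function.Injective fun i => Set.range (Γ i).ι.base)
    (hcov : ∀ x : X.left, X.hom.base x = closedPoint R → ∃ i, x ∈ Set.range (Γ i).ι.base)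
    (L : Fin n → X.left.Modules)
    (hL : ∀ j, ClSub.IsInverseOf (L j) (ClSub.idealMod (Γ j).ι.ker))
    (I : Finset (Fin n)) (hI : I.Nonempty) (hI' : I ≠ Finset.univ) :
    ∃ i ∈ I, ∃ j ∉ I, ArSurf.inter R X (L j) (Γ i) ≠ 0 := by
  by_contra hcon
  have hcon' : ∀ i ∈ I, ∀ j, j ∉ I → ArSurf.inter R X (L j) (Γ i) = 0 := by
    intro i hi j hj
    by_contra h
    exact hcon ⟨i, hi, j, hj, h⟩
  have hdisj : ∀ i ∈ I, ∀ j, j ∉ I →
      Disjoint (Set.range (Γ i).ι.base) (Set.range (Γ j).ι.base) := by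
    intro i hi j hj
    have hne : Set.range (Γ i).ι.base ≠ Set.range (Γ j).ι.base := fun e => hj ((hinj e) ▸ hi)
    have h := (ArInt.inter_nonneg_and_eq_zero_iff R X hp (Γ i) (Γ j).ι.ker
      (ArInt.isInvertible_idealMod_of_isInverseOf R X _ (L j) (hL j)) (L j) (hL j)
      (ArInt.genPt_notMem R X (Γ i) (Γ j) hne)).2.1 (hcon' i hi j hj)
    rwa [Scheme.Hom.support_ker, (Γ j).ι.isClosedEmbedding.isClosed_range.closure_eq] at h
  obtain ⟨π, hπ⟩ : ∃ π : Models.specialFibre R X.left X.hom ⟶ X.left,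
      π = pullback.fst X.hom (Spec.map (CommRingCat.ofHom
        (algebraMap R (IsLocalRing.ResidueField R)))) := ⟨_, rfl⟩
  have hA : IsClosed (π.base ⁻¹' (⋃ i ∈ I, Set.range (Γ i).ι.base)) :=
    (isClosed_biUnion_finset (fun i _ => (Γ i).ι.isClosedEmbedding.isClosed_range)).preimage
      π.continuous
  have hB : IsClosed (π.base ⁻¹' (⋃ j ∈ Iᶜ, Set.range (Γ j).ι.base)) :=
    (isClosed_biUnion_finset (fun j _ => (Γ j).ι.isClosedEmbedding.isClosed_range)).preimage
      π.continuous
  have hcover : (Set.univ : Set ↥(Models.specialFibre R X.left X.hom)) ⊆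
      (π.base ⁻¹' (⋃ i ∈ I, Set.range (Γ i).ι.base)) ∪
        (π.base ⁻¹' (⋃ j ∈ Iᶜ, Set.range (Γ j).ι.base)) := by
    intro s _
    have hs : X.hom.base (π.base s) = closedPoint R := by
      rw [hπ]
      exact fst_specialFibre_apply R X s
    obtain ⟨i, hi⟩ := hcov _ hs
    by_cases hiI : i ∈ I
    · exact Or.inl (Set.mem_biUnion hiI hi)
    · exact Or.inr (Set.mem_biUnion (Finset.mem_compl.2 hiI) hi)
  have hne : ∀ i : Fin n, ∃ s : ↥(Models.specialFibre R X.left X.hom),
      π.base s ∈ Set.range (Γ i).ι.base := by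
    intro i
    obtain ⟨c⟩ : Nonempty (Γ i).curve.left := inferInstance
    obtain ⟨s, hs⟩ := vertComp_mem_range_fst R X (Γ i) c
    refine ⟨s, ⟨c, ?_⟩⟩
    rw [hπ]
    exact hs.symm
  obtain ⟨i₀, hi₀⟩ := hI
  obtain ⟨j₀, hj₀⟩ : ∃ j, j ∉ I := by
    by_contra h
    apply hI'
    rw [Finset.eq_univ_iff_forall]
    intro j
    by_contra hj
    exact h ⟨j, hj⟩
  obtain ⟨s₁, hs₁⟩ := hne i₀
  obtain ⟨s₂, hs₂⟩ := hne j₀
  have hpre := isPreconnected_closed_iff.1
    (isPreconnected_univ (α := ↥(Models.specialFibre R X.left X.hom))) _ _ hA hB hcover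
    ⟨s₁, trivial, Set.mem_biUnion hi₀ hs₁⟩
    ⟨s₂, trivial, Set.mem_biUnion (Finset.mem_compl.2 hj₀) hs₂⟩
  obtain ⟨s, -, hsA, hsB⟩ := hpre
  obtain ⟨i, hiI, hi⟩ := Set.mem_iUnion₂.1 hsA
  obtain ⟨j, hjI, hj⟩ := Set.mem_iUnion₂.1 hsB
  exact Set.disjoint_left.1 (hdisj i hiI j (Finset.mem_compl.1 hjI)) hi hj

/-- there is at least one component -/
theorem pos_of_connected
    (hconn : ConnectedSpace ↥(Models.specialFibre R X.left X.hom))
    {n : ℕ} (Γ : Fin n → ArSurf.VertComp R X)
    (hcov : ∀ x : X.left, X.hom.base x = closedPoint R → ∃ i, x ∈ Set.range (Γ i).ι.base) :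
    0 < n := by
  obtain ⟨s⟩ : Nonempty ↥(Models.specialFibre R X.left X.hom) := hconn.toNonempty
  obtain ⟨i, -⟩ := hcov _ (fst_specialFibre_apply R X s)
  exact i.pos

end Conn

end Groth.Agent.Helper1.GenF
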