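import Mathlib
import Groth.Agent.Lib.Helper1.GenF3
import Groth.Agent.Lib.Helper4.KosC1
import Groth.Agent.Lib.Helper1.Curve1
import Groth.Agent.Lib.Helper1.TwistAmple

/-!
# Adding a component of negative degree keeps `H^0(Z, O_Z)` a field (helper1)
-/

set_option autoImplicit false
set_option backward.isDefEq.respectTransparency.types false
universe u
open CategoryTheory CategoryTheory.Limits AlgebraicGeometry TopologicalSpace Opposite IsLocalRing

namespace Groth.Agent.Helper1.GenF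

open Groth.Agent.Helper1 Groth.Agent.Lib.Helper4 Groth.Agent.Helper1.ChiA
open Groth.Agent.Helper1.QcCech

section Ring

variable {X : Scheme.{u}} (I : X.IdealSheafData)

/-- sections of `O_X / I` as elements of the rings of sections of the closed subscheme -/
def ofQ (V : X.Opens) (m : Γ(ClSub.quotMod I, V)) : Γ(I.subscheme, I.subschemeι ⁻¹ᵁ V) := m

/-- elements of the rings of sections of the closed subscheme as sections of `O_X / I` -/
def toQ (V : X.Opens) (s : Γ(I.subscheme, I.subschemeι ⁻¹ᵁ V)) : Γ(ClSub.quotMod I, V) := s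

theorem ofQ_toQ (V : X.Opens) (s : Γ(I.subscheme, I.subschemeι ⁻¹ᵁ V)) :
    ofQ I V (toQ I V s) = s := rfl

theorem toQ_ofQ (V : X.Opens) (m : Γ(ClSub.quotMod I, V)) : toQ I V (ofQ I V m) = m := rfl

theorem ofQ_add (V : X.Opens) (m m' : Γ(ClSub.quotMod I, V)) :
    ofQ I V (m + m') = ofQ I V m + ofQ I V m' := rfl

theorem ofQ_zero (V : X.Opens) : ofQ I V 0 = 0 := rfl

theorem toQ_add (V : X.Opens) (s s' : Γ(I.subscheme, I.subschemeι ⁻¹ᵁ V)) :
    toQ I V (s + s') = toQ I V s + toQ I V s' := rfl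

theorem toQ_zero (V : X.Opens) : toQ I V 0 = 0 := rfl

theorem ofQ_toSubscheme (V : X.Opens) (a : Γ(X, V)) :
    ofQ I V ((ClSub.toSubscheme I).app V a) = (I.subschemeι.app V).hom a := rfl

theorem ofQ_smul (V : X.Opens) (a : Γ(X, V)) (m : Γ(ClSub.quotMod I, V)) :
    ofQ I V (a • m) = (I.subschemeι.app V).hom a * ofQ I V m := rfl

theorem res_mul {V W : X.Opens} (h : W ≤ V) (u v : Γ(I.subscheme, I.subschemeι ⁻¹ᵁ V)) :
    res (ClSub.quotMod I) h (toQ I V (u * v)) =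
      toQ I W (ofQ I W (res (ClSub.quotMod I) h (toQ I V u)) *
        ofQ I W (res (ClSub.quotMod I) h (toQ I V v))) :=
  map_mul (I.subscheme.presheaf.map (homOfLE (show I.subschemeι ⁻¹ᵁ W ≤ I.subschemeι ⁻¹ᵁ V from
    fun _ hx => h hx)).op).hom u v

variable (J : X.IdealSheafData)

theorem r_toSubscheme (V : X.Opens) (a : Γ(X, V)) :
    (r I J).app V ((ClSub.toSubscheme (I * J)).app V a) = (ClSub.toSubscheme I).app V a :=
  congrArg (fun φ => Scheme.Modules.Hom.app φ V a) (q_r I J)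

theorem r_mul_affine (V : X.Opens) (hV : IsAffineOpen V)
    (s t : Γ(ClSub.quotMod (I * J), V)) :
    ofQ I V ((r I J).app V (toQ (I * J) V (ofQ (I * J) V s * ofQ (I * J) V t))) =
      ofQ I V ((r I J).app V s) * ofQ I V ((r I J).app V t) := by
  obtain ⟨a, ha⟩ := (I * J).subschemeι.app_surjective V hV (ofQ (I * J) V s)
  have hs : s = (ClSub.toSubscheme (I * J)).app V a := ha.symm
  have h1 : toQ (I * J) V (ofQ (I * J) V s * ofQ (I * J) V t) = a • t := by
    rw [← ha]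
    rfl
  rw [h1, Scheme.Modules.Hom.app_smul, ofQ_smul, hs, r_toSubscheme, ofQ_toSubscheme]

theorem r_mul (V : X.Opens) (s t : Γ(ClSub.quotMod (I * J), V)) :
    ofQ I V ((r I J).app V (toQ (I * J) V (ofQ (I * J) V s * ofQ (I * J) V t))) =
      ofQ I V ((r I J).app V s) * ofQ I V ((r I J).app V t) := by
  suffices h : (r I J).app V (toQ (I * J) V (ofQ (I * J) V s * ofQ (I * J) V t)) =
      toQ I V (ofQ I V ((r I J).app V s) * ofQ I V ((r I J).app V t)) from
    congrArg (ofQ I V) h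
  apply TwistSec.eq_of_locally (ClSub.quotMod I)
  intro x hx
  obtain ⟨_, ⟨W, hW, rfl⟩, hxW, hWV⟩ := X.isBasis_affineOpens.exists_subset_of_mem_open hx V.2
  have hWV' : W ≤ V := fun y hy => hWV hy
  refine ⟨W, hWV', hxW, ?_⟩
  rw [← QcExt.app_res, res_mul (I * J) hWV', res_mul I hWV']
  simp only [toQ_ofQ]
  rw [← QcExt.app_res, ← QcExt.app_res]
  exact congrArg (toQ I W) (r_mul_affine I J W hW _ _)

theorem r_one (V : X.Opens) :
    ofQ I V ((r I J).app V (toQ (I * J) V 1)) = 1 := by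
  have h1 : toQ (I * J) V 1 = (ClSub.toSubscheme (I * J)).app V (1 : Γ(X, V)) :=
    (map_one ((I * J).subschemeι.app V).hom).symm
  rw [h1, r_toSubscheme, ofQ_toSubscheme]
  exact map_one _

end Ring

section Neg

variable (k : Type u) [Field k] (Y : Scheme.{u}) [Y.Over (Spec (CommRingCat.of k))]
  [IsIntegral Y] [IsProper (Y ↘ (Spec (CommRingCat.of k)))]

/-- an invertible module of negative degree on a proper integral curve has no global sections -/
theorem subsingleton_H0_of_deg_neg (hdim : topologicalKrullDim Y = 1) (N : Y.Modules)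
    (hN : PicF.IsInvertible N) (hdeg : ArSurf.curveDeg k Y N < 0) :
    Subsingleton (Coh.HH Y N 0) := by
  have hz : ∀ x : Coh.HH Y N 0, x = 0 := by
    intro x
    by_contra hx
    have ht : HH0.equiv Y N x ≠ 0 := fun h =>
      hx ((HH0.equiv Y N).injective (h.trans (map_zero _).symm))
    have hs : TwistAmple.homOfSec N (HH0.equiv Y N x) ≠ 0 := by
      intro h0
      apply ht
      have h1 := TwistAmple.homOfSec_app N (HH0.equiv Y N x) ⊤ 1
      rw [h0, Scheme.Modules.Hom.zero_app, one_smul] at h1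
      have h2 : res N (le_refl ⊤) (HH0.equiv Y N x) = HH0.equiv Y N x :=
        res_self N (le_refl ⊤) _
      exact h2.symm.trans h1.symm
    have h := Curve.deg_nonneg_of_section k Y hdim hN _ hs
    rw [← ArInt.curveDeg_eq_deg k hdim] at h
    omega
  exact ⟨fun a b => (hz a).trans (hz b).symm⟩

end Neg

section Step

variable (R : Type u) [CommRing R] [IsDomain R] [IsDiscreteValuationRing R]
  (X : Over (Spec (CommRingCat.of R))) (hp : IsProper X.hom) (Γ : ArSurf.VertComp R X)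
  (I : X.left.IdealSheafData) (hI : PicF.IsInvertible (ClSub.idealMod I))

include hp hI in
theorem r_top_injective
    (hsub : Subsingleton (Coh.HH Γ.curve.left
      ((Scheme.Modules.pullback Γ.ι).obj (ClSub.idealMod I)) 0))
    (m : Γ(ClSub.quotMod (I * Γ.ι.ker), ⊤)) (hm : (r I Γ.ι.ker).app ⊤ m = 0) : m = 0 := by
  haveI : IsProper (X.left ↘ Spec (CommRingCat.of R)) := hp
  haveI : Epi (r I Γ.ι.ker) := epi_r I Γ.ι.ker
  have hS : (ShortComplex.mk (kernel.ι (r I Γ.ι.ker)) (r I Γ.ι.ker)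
      (kernel.condition _)).ShortExact :=
    ShortComplex.ShortExact.mk'
      (ShortComplex.exact_of_f_is_kernel _ (kernelIsKernel (r I Γ.ι.ker)))
      (inferInstanceAs (Mono (kernel.ι (r I Γ.ι.ker)))) (inferInstanceAs (Epi (r I Γ.ι.ker)))
  obtain ⟨e⟩ := nonempty_kernel_r_iso Γ.ι I hI
  haveI hNqc : ((Scheme.Modules.pullback Γ.ι).obj (ClSub.idealMod I)).IsQuasicoherent :=
    InvQc.isQuasicoherent_of_isInvertible _ (PullGen.isInvertible_pullback Γ.ι hI)
  haveI hsubA : Subsingleton (Coh.HH X.left (kernel (r I Γ.ι.ker)) 0) := by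
    letI iO : Γ.curve.left.Over (Spec (CommRingCat.of R)) :=
      ⟨Γ.curve.hom ≫ Spec.map (CommRingCat.ofHom (IsLocalRing.residue R))⟩
    have e1 := HHFin1.HHequiv R e 0
    have e2 := LinBridge1.lerayEquiv Γ.ι
      ((Scheme.Modules.pullback Γ.ι).obj (ClSub.idealMod I)) R Γ.w 0
    exact (e1.toEquiv.trans e2.toEquiv).subsingleton
  have hx : Canon.HHlin R (r I Γ.ι.ker) 0
      ((HH0.equiv X.left (ClSub.quotMod (I * Γ.ι.ker))).symm m) = 0 := by
    apply (HH0.equiv X.left (ClSub.quotMod I)).injective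
    rw [KosC1.HH0_natural, map_zero, AddEquiv.apply_symm_apply]
    exact hm
  obtain ⟨w, hw⟩ := HHFin2.exact_f_g R hS 0 _ hx
  have h0 : (HH0.equiv X.left (ClSub.quotMod (I * Γ.ι.ker))).symm m = 0 := by
    rw [← hw, Subsingleton.elim w 0]
    exact map_zero _
  have h1 := congrArg (HH0.equiv X.left (ClSub.quotMod (I * Γ.ι.ker))) h0
  rw [AddEquiv.apply_symm_apply, map_zero] at h1
  exact h1

include hp hI in
/-- **adding a component of negative degree keeps `H^0` a field** -/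
theorem isField_step
    (hle : Models.specialFibreIdeal R X ≤ I * Γ.ι.ker)
    (hneg : ArSurf.inter R X (ClSub.idealMod I) Γ < 0)
    (hF : IsField ↑Γ(I.subscheme, I.subschemeι ⁻¹ᵁ ⊤)) :
    IsField ↑Γ((I * Γ.ι.ker).subscheme, (I * Γ.ι.ker).subschemeι ⁻¹ᵁ ⊤) := by
  haveI : IsProper (Γ.curve.left ↘ Spec (CommRingCat.of (IsLocalRing.ResidueField R))) :=
    ArInt.isProper_curve R X hp Γ
  have hsub : Subsingleton (Coh.HH Γ.curve.left
      ((Scheme.Modules.pullback Γ.ι).obj (ClSub.idealMod I)) 0) :=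
    subsingleton_H0_of_deg_neg (IsLocalRing.ResidueField R) Γ.curve.left Γ.dim_eq _
      (PullGen.isInvertible_pullback Γ.ι hI) hneg
  -- the multiplicative injective map to the field
  have hρ0 : ofQ I ⊤ ((r I Γ.ι.ker).app ⊤ (toQ (I * Γ.ι.ker) ⊤ 0)) = 0 := by
    rw [toQ_zero, map_zero]
    rfl
  have hρmul : ∀ s t : Γ((I * Γ.ι.ker).subscheme, (I * Γ.ι.ker).subschemeι ⁻¹ᵁ ⊤),
      ofQ I ⊤ ((r I Γ.ι.ker).app ⊤ (toQ (I * Γ.ι.ker) ⊤ (s * t))) =
        ofQ I ⊤ ((r I Γ.ι.ker).app ⊤ (toQ (I * Γ.ι.ker) ⊤ s)) *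
          ofQ I ⊤ ((r I Γ.ι.ker).app ⊤ (toQ (I * Γ.ι.ker) ⊤ t)) := fun s t =>
    r_mul I Γ.ι.ker ⊤ (toQ _ ⊤ s) (toQ _ ⊤ t)
  have hρinj : ∀ s : Γ((I * Γ.ι.ker).subscheme, (I * Γ.ι.ker).subschemeι ⁻¹ᵁ ⊤),
      ofQ I ⊤ ((r I Γ.ι.ker).app ⊤ (toQ (I * Γ.ι.ker) ⊤ s)) = 0 → s = 0 := fun s hs =>
    r_top_injective R X hp Γ I hI hsub (toQ _ ⊤ s) hs
  have hρ1 := r_one I Γ.ι.ker ⊤
  -- zero divisors
  have hnzd : ∀ s t : Γ((I * Γ.ι.ker).subscheme, (I * Γ.ι.ker).subschemeι ⁻¹ᵁ ⊤),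
      s * t = 0 → s ≠ 0 → t = 0 := by
    intro s t hst hs
    apply hρinj
    have h1 := hρmul s t
    rw [hst, hρ0] at h1
    obtain ⟨v, hv⟩ := hF.mul_inv_cancel (fun h => hs (hρinj s h))
    calc ofQ I ⊤ ((r I Γ.ι.ker).app ⊤ (toQ (I * Γ.ι.ker) ⊤ t))
        = (v * ofQ I ⊤ ((r I Γ.ι.ker).app ⊤ (toQ (I * Γ.ι.ker) ⊤ s))) *
            ofQ I ⊤ ((r I Γ.ι.ker).app ⊤ (toQ (I * Γ.ι.ker) ⊤ t)) := by
          rw [mul_comm v, hv, one_mul]
      _ = 0 := by rw [mul_assoc, ← h1, mul_zero]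
  -- artinian
  have hlen := ChiA.length_quotMod_ne_top R X hp (I * Γ.ι.ker) hle 0
  haveI : IsArtinian R (Coh.HH X.left (ClSub.quotMod (I * Γ.ι.ker)) 0) :=
    (isFiniteLength_iff_isNoetherian_isArtinian.1 (Module.length_ne_top_iff.1 hlen)).2
  have hE : ∀ (c : R) (x : Coh.HH X.left (ClSub.quotMod (I * Γ.ι.ker)) 0),
      ofQ (I * Γ.ι.ker) ⊤ (HH0.equiv X.left (ClSub.quotMod (I * Γ.ι.ker)) (c • x)) =
        ((I * Γ.ι.ker).subschemeι.app ⊤).hom (Coh.toGlobal X.hom c) *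
          ofQ (I * Γ.ι.ker) ⊤ (HH0.equiv X.left (ClSub.quotMod (I * Γ.ι.ker)) x) := by
    intro c x
    rw [HH0.equiv_smul_over]
    rfl
  have hunit : ∀ s : Γ((I * Γ.ι.ker).subscheme, (I * Γ.ι.ker).subschemeι ⁻¹ᵁ ⊤),
      s ≠ 0 → ∃ b, s * b = 1 := by
    intro s hs
    let mulS : Γ(ClSub.quotMod (I * Γ.ι.ker), ⊤) →+ Γ(ClSub.quotMod (I * Γ.ι.ker), ⊤) :=
      { toFun := fun m => toQ (I * Γ.ι.ker) ⊤ (s * ofQ (I * Γ.ι.ker) ⊤ m)
        map_zero' := by
          show toQ (I * Γ.ι.ker) ⊤ (s * 0) = 0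
          rw [mul_zero]
          rfl
        map_add' := fun m m' => by
          show toQ (I * Γ.ι.ker) ⊤ (s * (ofQ (I * Γ.ι.ker) ⊤ m + ofQ (I * Γ.ι.ker) ⊤ m')) = _
          rw [mul_add]
          rfl }
    let addf : Coh.HH X.left (ClSub.quotMod (I * Γ.ι.ker)) 0 →+
        Coh.HH X.left (ClSub.quotMod (I * Γ.ι.ker)) 0 :=
      (HH0.equiv X.left (ClSub.quotMod (I * Γ.ι.ker))).symm.toAddMonoidHom.comp
        (mulS.comp (HH0.equiv X.left (ClSub.quotMod (I * Γ.ι.ker))).toAddMonoidHom)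
    have haddf : ∀ x, addf x = (HH0.equiv X.left (ClSub.quotMod (I * Γ.ι.ker))).symm
        (toQ (I * Γ.ι.ker) ⊤ (s * ofQ (I * Γ.ι.ker) ⊤
          (HH0.equiv X.left (ClSub.quotMod (I * Γ.ι.ker)) x))) := fun x => rfl
    let f : Coh.HH X.left (ClSub.quotMod (I * Γ.ι.ker)) 0 →ₗ[R]
        Coh.HH X.left (ClSub.quotMod (I * Γ.ι.ker)) 0 :=
      { toFun := addf
        map_add' := addf.map_add
        map_smul' := fun c x => by
          show addf (c • x) = c • addf x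
          apply (HH0.equiv X.left (ClSub.quotMod (I * Γ.ι.ker))).injective
          apply (show Function.Injective (ofQ (I * Γ.ι.ker) ⊤) from fun _ _ h => h)
          have h1 := hE c x
          have h2 := hE c (addf x)
          rw [haddf x, AddEquiv.apply_symm_apply] at h2
          rw [haddf (c • x), AddEquiv.apply_symm_apply]
          refine Eq.trans ?_ h2.symm
          show s * ofQ (I * Γ.ι.ker) ⊤
              (HH0.equiv X.left (ClSub.quotMod (I * Γ.ι.ker)) (c • x)) =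
            ((I * Γ.ι.ker).subschemeι.app ⊤).hom (Coh.toGlobal X.hom c) *
              (s * ofQ (I * Γ.ι.ker) ⊤ (HH0.equiv X.left (ClSub.quotMod (I * Γ.ι.ker)) x))
          exact (congrArg (fun z => s * z) h1).trans (mul_left_comm _ _ _) }
    have hf : ∀ x, f x = (HH0.equiv X.left (ClSub.quotMod (I * Γ.ι.ker))).symm
        (toQ (I * Γ.ι.ker) ⊤ (s * ofQ (I * Γ.ι.ker) ⊤
          (HH0.equiv X.left (ClSub.quotMod (I * Γ.ι.ker)) x))) := fun x => rfl
    have hfinj : Function.Injective f := by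
      intro x y hxy
      rw [hf x, hf y] at hxy
      have h1 : s * ofQ (I * Γ.ι.ker) ⊤ (HH0.equiv X.left (ClSub.quotMod (I * Γ.ι.ker)) x) =
          s * ofQ (I * Γ.ι.ker) ⊤ (HH0.equiv X.left (ClSub.quotMod (I * Γ.ι.ker)) y) :=
        (HH0.equiv X.left (ClSub.quotMod (I * Γ.ι.ker))).symm.injective hxy
      have h2 : s * (ofQ (I * Γ.ι.ker) ⊤ (HH0.equiv X.left (ClSub.quotMod (I * Γ.ι.ker)) x) -
          ofQ (I * Γ.ι.ker) ⊤ (HH0.equiv X.left (ClSub.quotMod (I * Γ.ι.ker)) y)) = 0 := by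
        rw [mul_sub, h1, sub_self]
      have h3 := hnzd _ _ h2 hs
      have h4 : ofQ (I * Γ.ι.ker) ⊤ (HH0.equiv X.left (ClSub.quotMod (I * Γ.ι.ker)) x) =
          ofQ (I * Γ.ι.ker) ⊤ (HH0.equiv X.left (ClSub.quotMod (I * Γ.ι.ker)) y) :=
        sub_eq_zero.1 h3
      exact (HH0.equiv X.left (ClSub.quotMod (I * Γ.ι.ker))).injective h4
    obtain ⟨x, hx⟩ := IsArtinian.surjective_of_injective_endomorphism f hfinj
      ((HH0.equiv X.left (ClSub.quotMod (I * Γ.ι.ker))).symm (toQ (I * Γ.ι.ker) ⊤ 1))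
    refine ⟨ofQ (I * Γ.ι.ker) ⊤ (HH0.equiv X.left (ClSub.quotMod (I * Γ.ι.ker)) x), ?_⟩
    rw [hf x] at hx
    exact (HH0.equiv X.left (ClSub.quotMod (I * Γ.ι.ker))).symm.injective hx
  refine ⟨⟨0, 1, ?_⟩, mul_comm, fun {a} ha => hunit a ha⟩
  intro h01
  obtain ⟨u, v, huv⟩ := hF.exists_pair_ne
  apply huv
  have h1 : (1 : Γ(I.subscheme, I.subschemeι ⁻¹ᵁ ⊤)) = 0 := by
    rw [← hρ1, ← h01]
    exact hρ0
  calc u = u * 1 := (mul_one u).symm
    _ = v * 1 := by rw [h1, mul_zero, mul_zero]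
    _ = v := mul_one v

end Step

end Groth.Agent.Helper1.GenF
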