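import Mathlib
import Groth.Agent.Lib.Helper4.T2Main1
import Groth.Agent.Lib.Helper1.HH0
import Groth.Agent.Lib.Helper1.Curve5

/-!
# Finiteness of the Stein factorization over a locally noetherian base (helper1)
-/

set_option autoImplicit false
universe u
open CategoryTheory CategoryTheory.Limits AlgebraicGeometry TopologicalSpace Opposite

namespace Groth.Agent.Helper1.Stein

open Groth.Agent.Lib.Helper4

/-- global sections of a scheme proper over a noetherian affine scheme are a finite module -/
theorem finite_appTop_of_isProper {X Y : Scheme.{u}} [IsAffine Y] (f : X ⟶ Y) [IsProper f]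
    [IsNoetherianRing Γ(Y, ⊤)] : f.appTop.hom.Finite := by
  let A : Type u := Γ(Y, ⊤)
  let g : X ⟶ Spec (CommRingCat.of A) := f ≫ Y.isoSpec.hom
  letI : X.Over (Spec (CommRingCat.of A)) := ⟨g⟩
  haveI : IsProper (X ↘ Spec (CommRingCat.of A)) := by
    change IsProper (f ≫ Y.isoSpec.hom)
    infer_instance
  haveI : IsLocallyNoetherian X :=
    LocallyOfFiniteType.isLocallyNoetherian (X ↘ Spec (CommRingCat.of A))
  have hOX : Coh.IsCoh (Coh.structureModule X) :=
    InvQc.isCoh_of_isInvertible _ (GenLoc.isInvertible_O (X := X))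
  have hfin : Module.Finite A (Coh.HH X (Coh.structureModule X) 0) :=
    T2Main1.t2 A X (Coh.structureModule X) hOX 0
  have htg : Coh.toGlobal (X ↘ Spec (CommRingCat.of A)) = f.appTop.hom := by
    unfold Coh.toGlobal
    change ((f ≫ Y.isoSpec.hom).appTop).hom.comp (Scheme.ΓSpecIso (CommRingCat.of A)).inv.hom = _
    rw [Scheme.Hom.comp_appTop, Scheme.isoSpec_hom, Scheme.toSpecΓ_appTop]
    ext a
    simp only [CommRingCat.hom_comp, RingHom.coe_comp, Function.comp_apply]
    congr 1
    exact congrArg (fun φ => φ.hom a) (Scheme.ΓSpecIso (CommRingCat.of A)).inv_hom_id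
  letI : Algebra A Γ(X, ⊤) := f.appTop.hom.toAlgebra
  change Module.Finite A Γ(X, ⊤)
  let e : Coh.HH X (Coh.structureModule X) 0 ≃ₗ[A] Γ(X, ⊤) :=
    { (HH0.equiv X (Coh.structureModule X)) with
      map_smul' := fun a x => by
        have h := HH0.equiv_smul_over X (Coh.structureModule X) a x
        rw [htg] at h
        exact h }
  exact Module.Finite.equiv e

theorem finite_appLE_congr {X Y : Scheme.{u}} (f : X ⟶ Y) (W W' : Y.Opens) (V V' : X.Opens)
    (e : V ≤ f ⁻¹ᵁ W) (e' : V' ≤ f ⁻¹ᵁ W') (hW : W = W') (hV : V = V')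
    (h : (f.appLE W V e).hom.Finite) : (f.appLE W' V' e').hom.Finite := by
  subst hW hV
  exact h

/-- sections over the preimage of an affine open under a proper morphism to a locally noetherian
scheme form a finite module -/
theorem finite_app_of_isProper {X Y : Scheme.{u}} (f : X ⟶ Y) [IsProper f] [IsLocallyNoetherian Y]
    (W : Y.Opens) (hW : IsAffineOpen W) : (f.app W).hom.Finite := by
  haveI : IsAffine W.toScheme := hW
  haveI : IsNoetherianRing Γ(W.toScheme, ⊤) := by
    have h := IsLocallyNoetherian.component_noetherian (X := Y) ⟨W, hW⟩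
    exact isNoetherianRing_of_ringEquiv _ (W.topIso.symm.commRingCatIsoToRingEquiv)
  have h1 := finite_appTop_of_isProper (f ∣_ W)
  rw [Scheme.Hom.appTop, morphismRestrict_app'] at h1
  rw [Scheme.Hom.app_eq_appLE]
  refine finite_appLE_congr f _ _ _ _ _ _ ?_ ?_ h1
  · simp
  · simp

/-- S1297 -/
theorem isFinite_fromNormalization {X S : Scheme.{u}} (f : X ⟶ S) [IsProper f]
    [IsLocallyNoetherian S] : IsFinite f.fromNormalization := by
  refine { finite_app := fun U hU => ?_ }
  rw [Scheme.Hom.fromNormalization_app f hU]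
  letI : Algebra Γ(S, U) Γ(X, f ⁻¹ᵁ U) := (f.app U).hom.toAlgebra
  haveI : IsNoetherianRing Γ(S, U) := IsLocallyNoetherian.component_noetherian (X := S) ⟨U, hU⟩
  haveI hB : Module.Finite Γ(S, U) Γ(X, f ⁻¹ᵁ U) := finite_app_of_isProper f U hU
  haveI : IsNoetherian Γ(S, U) Γ(X, f ⁻¹ᵁ U) := isNoetherian_of_isNoetherianRing_of_finite _ _
  have h1 : Module.Finite Γ(S, U) (integralClosure Γ(S, U) Γ(X, f ⁻¹ᵁ U)) :=
    Module.Finite.of_injective (integralClosure Γ(S, U) Γ(X, f ⁻¹ᵁ U)).val.toLinearMap
      Subtype.val_injective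
  rw [CommRingCat.hom_comp]
  refine RingHom.Finite.comp ?_ ?_
  · exact RingHom.Finite.of_surjective _
      ((ConcreteCategory.isIso_iff_bijective _).1 inferInstance).2
  · exact RingHom.finite_algebraMap.mpr h1

end Groth.Agent.Helper1.Stein
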