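import Mathlib
import Groth.Agent.Lib.Helper1.PicV6

/-!
# Torsion line bundles on a regular model which are trivial on the generic fibre (helper1)
-/

set_option autoImplicit false
set_option backward.isDefEq.respectTransparency.types false
universe u
open CategoryTheory CategoryTheory.Limits AlgebraicGeometry TopologicalSpace Opposite IsLocalRing
open Groth.Agent.Helper1

namespace Groth.Agent.Helper1.PicV

open Groth.Agent.Lead.PicCalc Groth.Agent.Lead.IdM Groth.Agent.Helper1.QcCech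
open Groth.Agent.Helper1.LGen Groth.Agent.Helper1.SpFib

section Arith

variable {n : ℕ} (m : Fin n → ℕ)

theorem arith_coprime (h : ℕ) (hh : 0 < h) (hcop : Nat.Coprime h (Finset.univ.gcd m))
    (c : Fin n → ℤ) (k : ℤ) (H : ∀ i, (h : ℤ) * c i = k * (m i : ℤ)) :
    ∃ k' : ℤ, ∀ i, c i = k' * (m i : ℤ) := by
  obtain ⟨t, ht⟩ := exists_gcd_eq_sum m Finset.univ
  have h1 : k * ((Finset.univ.gcd m : ℕ) : ℤ) = h * ∑ j, c j * t j := by
    rw [ht, Finset.mul_sum, Finset.mul_sum]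
    apply Finset.sum_congr rfl
    intro j _
    rw [← mul_assoc, ← H j]
    ring
  have h2 : (h : ℤ) ∣ k * ((Finset.univ.gcd m : ℕ) : ℤ) := ⟨_, h1⟩
  have hcop' : IsCoprime (h : ℤ) ((Finset.univ.gcd m : ℕ) : ℤ) :=
    Nat.isCoprime_iff_coprime.2 hcop
  obtain ⟨k', rfl⟩ := hcop'.dvd_of_dvd_mul_right h2
  refine ⟨k', fun i => ?_⟩
  have hh' : (h : ℤ) ≠ 0 := by exact_mod_cast hh.ne'
  apply mul_left_cancel₀ hh'
  rw [H i]
  ring

theorem arith_rat (c : Fin n → ℤ) (q : ℚ) (H : ∀ i, (c i : ℚ) = q * (m i : ℚ)) :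
    ∃ k : ℤ, ∀ i, ((Finset.univ.gcd m : ℕ) : ℤ) * c i = k * (m i : ℤ) := by
  obtain ⟨t, ht⟩ := exists_gcd_eq_sum m Finset.univ
  refine ⟨∑ j, c j * t j, fun i => ?_⟩
  have hd : ((Finset.univ.gcd m : ℕ) : ℚ) = ∑ j, (m j : ℚ) * (t j : ℚ) := by
    have := congrArg (fun z : ℤ => (z : ℚ)) ht
    simpa using this
  have hq : ((∑ j, c j * t j : ℤ) : ℚ) = q * ((Finset.univ.gcd m : ℕ) : ℚ) := by
    rw [hd, Finset.mul_sum]
    push_cast
    apply Finset.sum_congr rfl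
    intro j _
    rw [H j]
    ring
  have h3 : ((((Finset.univ.gcd m : ℕ) : ℤ) * c i : ℤ) : ℚ) =
      (((∑ j, c j * t j) * (m i : ℤ) : ℤ) : ℚ) := by
    rw [Int.cast_mul, Int.cast_mul, hq, H i]
    push_cast
    ring
  exact_mod_cast h3

theorem arith_gcd (h : ℕ) (hh : 0 < h) (c : Fin n → ℤ) (k₀ : ℤ)
    (H : ∀ i, (h : ℤ) * c i = k₀ * (m i : ℤ)) :
    ∃ k₁ : ℤ, ∀ i, c i = k₁ * ((m i / Nat.gcd h (Finset.univ.gcd m) : ℕ) : ℤ) := by
  obtain ⟨t, ht⟩ := exists_gcd_eq_sum m Finset.univ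
  have hepos : 0 < Nat.gcd h (Finset.univ.gcd m) := Nat.gcd_pos_of_pos_left _ hh
  have h1 : k₀ * ((Finset.univ.gcd m : ℕ) : ℤ) = h * ∑ j, c j * t j := by
    rw [ht, Finset.mul_sum, Finset.mul_sum]
    apply Finset.sum_congr rfl
    intro j _
    rw [← mul_assoc, ← H j]
    ring
  have hh' : (h : ℤ) ≠ 0 := by exact_mod_cast hh.ne'
  have h2 : ∀ i, ((Finset.univ.gcd m : ℕ) : ℤ) * c i = (∑ j, c j * t j) * (m i : ℤ) := by
    intro i
    apply mul_left_cancel₀ hh'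
    calc (h : ℤ) * (((Finset.univ.gcd m : ℕ) : ℤ) * c i)
        = ((Finset.univ.gcd m : ℕ) : ℤ) * ((h : ℤ) * c i) := by ring
      _ = ((Finset.univ.gcd m : ℕ) : ℤ) * (k₀ * (m i : ℤ)) := by rw [H i]
      _ = (k₀ * ((Finset.univ.gcd m : ℕ) : ℤ)) * (m i : ℤ) := by ring
      _ = ((h : ℤ) * ∑ j, c j * t j) * (m i : ℤ) := by rw [h1]
      _ = (h : ℤ) * ((∑ j, c j * t j) * (m i : ℤ)) := by ring
  have hbez : ((Nat.gcd h (Finset.univ.gcd m) : ℕ) : ℤ) =
      h * Nat.gcdA h (Finset.univ.gcd m) +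
        ((Finset.univ.gcd m : ℕ) : ℤ) * Nat.gcdB h (Finset.univ.gcd m) :=
    Nat.gcd_eq_gcd_ab h (Finset.univ.gcd m)
  refine ⟨Nat.gcdA h (Finset.univ.gcd m) * k₀ +
    Nat.gcdB h (Finset.univ.gcd m) * ∑ j, c j * t j, fun i => ?_⟩
  have hem : Nat.gcd h (Finset.univ.gcd m) ∣ m i :=
    (Nat.gcd_dvd_right h _).trans (Finset.gcd_dvd (Finset.mem_univ i))
  have hmi : (m i : ℤ) = ((Nat.gcd h (Finset.univ.gcd m) : ℕ) : ℤ) *
      ((m i / Nat.gcd h (Finset.univ.gcd m) : ℕ) : ℤ) := by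
    exact_mod_cast (Nat.mul_div_cancel' hem).symm
  have he' : ((Nat.gcd h (Finset.univ.gcd m) : ℕ) : ℤ) ≠ 0 := by exact_mod_cast hepos.ne'
  apply mul_left_cancel₀ he'
  calc ((Nat.gcd h (Finset.univ.gcd m) : ℕ) : ℤ) * c i
      = (h * Nat.gcdA h (Finset.univ.gcd m) +
          ((Finset.univ.gcd m : ℕ) : ℤ) * Nat.gcdB h (Finset.univ.gcd m)) * c i := by rw [hbez]
    _ = Nat.gcdA h (Finset.univ.gcd m) * ((h : ℤ) * c i) +
          Nat.gcdB h (Finset.univ.gcd m) * (((Finset.univ.gcd m : ℕ) : ℤ) * c i) := by ring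
    _ = Nat.gcdA h (Finset.univ.gcd m) * (k₀ * (m i : ℤ)) +
          Nat.gcdB h (Finset.univ.gcd m) * ((∑ j, c j * t j) * (m i : ℤ)) := by rw [H i, h2 i]
    _ = (Nat.gcdA h (Finset.univ.gcd m) * k₀ +
          Nat.gcdB h (Finset.univ.gcd m) * ∑ j, c j * t j) * (m i : ℤ) := by ring
    _ = (Nat.gcdA h (Finset.univ.gcd m) * k₀ +
          Nat.gcdB h (Finset.univ.gcd m) * ∑ j, c j * t j) *
          (((Nat.gcd h (Finset.univ.gcd m) : ℕ) : ℤ) *
            ((m i / Nat.gcd h (Finset.univ.gcd m) : ℕ) : ℤ)) := by rw [← hmi]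
    _ = ((Nat.gcd h (Finset.univ.gcd m) : ℕ) : ℤ) *
          ((Nat.gcdA h (Finset.univ.gcd m) * k₀ +
            Nat.gcdB h (Finset.univ.gcd m) * ∑ j, c j * t j) *
            ((m i / Nat.gcd h (Finset.univ.gcd m) : ℕ) : ℤ)) := by ring

end Arith

section Cor

variable (R : Type u) [CommRing R] [IsDomain R] [IsDiscreteValuationRing R]
  (X : Over (Spec (CommRingCat.of R)))
  (hreg : ∀ x : X.left, IsRegularLocalRing (X.left.presheaf.stalk x))
  [Flat X.hom] {n : ℕ} (Γ : Fin n → ArSurf.VertComp R X)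
  (hinj : Function.Injective fun i => Set.range (Γ i).ι.base)
  (hcov : ∀ x : X.left, X.hom.base x = closedPoint R → ∃ i, x ∈ Set.range (Γ i).ι.base)
  [IsLocallyNoetherian X.left] [CompactSpace X.left] (hp : IsProper X.hom)
  (hconn : _root_.IsConnected {x : X.left | X.hom.base x = closedPoint R})
  (hsurj : ∀ h : Γ(X.left, ⊤), ∃ r : R, (show Γ(X.left, ⊤) from Coh.toGlobal X.hom r) = h)
  {C : Scheme.{u}} (f : C ⟶ Spec (CommRingCat.of (FractionRing R))) (g : C ⟶ X.left)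
  (hg : IsPullback g f X.hom (Spec.map (CommRingCat.ofHom (algebraMap R (FractionRing R)))))

include hreg hinj hcov hp hconn hsurj hg in
/-- **S3341** -/
theorem torsion_trivial (h : ℕ) (hh : 0 < h) (hcop : Nat.Coprime h (Models.multGcd R X Γ))
    (M : X.left.Modules) (hM : PicF.IsInvertible M)
    (htors : Nonempty (CohB1.tensorPow M h ≅ Coh.structureModule X.left))
    (htriv : Nonempty ((Scheme.Modules.pullback g).obj M ≅ Coh.structureModule C)) :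
    Nonempty (M ≅ Coh.structureModule X.left) := by
  obtain ⟨L, hL⟩ := exists_inverse_family R X hreg Γ hinj hcov
  obtain ⟨c, hc⟩ := exists_Ocl_eq R X hreg Γ hinj hcov L hL f g hg (PicF.cl M)
    (isInvertibleCl_cl hM) (cl_eq_of_iso htriv.some)
  have h1 : Ocl R X Γ L hL c ^ h = 1 := by
    apply Units.ext
    rw [Units.val_pow_eq_pow_val, ← hc, ← cl_tensorPow]
    exact cl_eq_of_iso htors.some
  rw [← Ocl_nsmul] at h1
  obtain ⟨k, hk⟩ := (Ocl_eq_one_iff R X hreg Γ hinj hcov L hL hp hconn hsurj _).1 h1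
  obtain ⟨k', hk'⟩ := arith_coprime (fun i => Models.mult R X (Γ i)) h hh hcop c k hk
  have h2 : Ocl R X Γ L hL c = 1 :=
    (Ocl_eq_one_iff R X hreg Γ hinj hcov L hL hp hconn hsurj c).2 ⟨k', hk'⟩
  rw [← cl_eq_iff, hc, h2]
  rfl

include hreg hinj hcov hp hconn hsurj hg in
/-- **S3340** -/
theorem pow_gcd_trivial (M : X.left.Modules) (hM : PicF.IsInvertible M)
    (htriv : Nonempty ((Scheme.Modules.pullback g).obj M ≅ Coh.structureModule C))
    (hdeg : ∀ i, ArSurf.inter R X M (Γ i) = 0) :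
    Nonempty (CohB1.tensorPow M (Models.multGcd R X Γ) ≅ Coh.structureModule X.left) := by
  obtain ⟨L, hL⟩ := exists_inverse_family R X hreg Γ hinj hcov
  obtain ⟨c, hc⟩ := exists_Ocl_eq R X hreg Γ hinj hcov L hL f g hg (PicF.cl M)
    (isInvertibleCl_cl hM) (cl_eq_of_iso htriv.some)
  have hdeg' : ∀ i, ∑ j, c j * ArSurf.inter R X (L j) (Γ i) = 0 := by
    intro i
    rw [← degCl_Ocl R X Γ L hL hp (Γ i) c, ← hc]
    exact hdeg i
  obtain ⟨q, hq⟩ := (SpFib.kernel_iff R X hp hreg hconn Γ hinj hcov L hL c).1 hdeg'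
  obtain ⟨k, hk⟩ := arith_rat (fun i => Models.mult R X (Γ i)) c q hq
  have h2 : Ocl R X Γ L hL c ^ Models.multGcd R X Γ = 1 := by
    rw [← Ocl_nsmul]
    exact (Ocl_eq_one_iff R X hreg Γ hinj hcov L hL hp hconn hsurj _).2 ⟨k, hk⟩
  rw [← cl_eq_iff, cl_tensorPow, hc, ← Units.val_pow_eq_pow_val, h2]
  rfl

include hreg hinj hcov hp hconn hsurj hg in
/-- **S19918** -/
theorem torsion_kernel_cyclic (L : Fin n → X.left.Modules)
    (hL : ∀ j, ClSub.IsInverseOf (L j) (ClSub.idealMod (Γ j).ι.ker))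
    (h : ℕ) (hh : 0 < h) (M : X.left.Modules) (hM : PicF.IsInvertible M)
    (htors : Nonempty (CohB1.tensorPow M h ≅ Coh.structureModule X.left))
    (htriv : Nonempty ((Scheme.Modules.pullback g).obj M ≅ Coh.structureModule C)) :
    ∃! k : ℕ, k < Nat.gcd h (Models.multGcd R X Γ) ∧
      Nonempty (M ≅ FGA.multiTwist L (fun i => k * (Models.mult R X (Γ i) /
        Nat.gcd h (Models.multGcd R X Γ)))) := by
  obtain ⟨x₀, hx₀⟩ := hconn.nonempty
  obtain ⟨i₀, -⟩ := hcov x₀ hx₀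
  have mpos : ∀ j, 0 < Models.mult R X (Γ j) :=
    fun j => Nat.pos_of_ne_zero (SpFib.mult_ne_zero R X hreg Γ hinj hcov j)
  have hepos : 0 < Nat.gcd h (Models.multGcd R X Γ) := Nat.gcd_pos_of_pos_left _ hh
  have hem : ∀ i, Nat.gcd h (Models.multGcd R X Γ) ∣ Models.mult R X (Γ i) := fun i =>
    (Nat.gcd_dvd_right h _).trans (Finset.gcd_dvd (Finset.mem_univ i))
  have hmi : ∀ i, (Models.mult R X (Γ i) : ℤ) = ((Nat.gcd h (Models.multGcd R X Γ) : ℕ) : ℤ) *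
      ((Models.mult R X (Γ i) / Nat.gcd h (Models.multGcd R X Γ) : ℕ) : ℤ) := by
    intro i
    exact_mod_cast (Nat.mul_div_cancel' (hem i)).symm
  have he' : ((Nat.gcd h (Models.multGcd R X Γ) : ℕ) : ℤ) ≠ 0 := by exact_mod_cast hepos.ne'
  obtain ⟨c, hc⟩ := exists_Ocl_eq R X hreg Γ hinj hcov L hL f g hg (PicF.cl M)
    (isInvertibleCl_cl hM) (cl_eq_of_iso htriv.some)
  have h1 : Ocl R X Γ L hL c ^ h = 1 := by
    apply Units.ext
    rw [Units.val_pow_eq_pow_val, ← hc, ← cl_tensorPow]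
    exact cl_eq_of_iso htors.some
  rw [← Ocl_nsmul] at h1
  obtain ⟨k₀, hk₀⟩ := (Ocl_eq_one_iff R X hreg Γ hinj hcov L hL hp hconn hsurj _).1 h1
  obtain ⟨k₁, hk₁'⟩ := arith_gcd (fun i => Models.mult R X (Γ i)) h hh c k₀ hk₀
  have hk₁ : ∀ i, c i = k₁ * ((Models.mult R X (Γ i) /
      Nat.gcd h (Models.multGcd R X Γ) : ℕ) : ℤ) := hk₁'
  clear hk₁'
  -- a criterion for two multiples of `m / e` to give the same class
  have hcrit : ∀ (z : Fin n → ℤ) (k : ℕ),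
      (∀ i, z i = (k : ℤ) * ((Models.mult R X (Γ i) /
        Nat.gcd h (Models.multGcd R X Γ) : ℕ) : ℤ)) →
      ((Ocl R X Γ L hL z : (PicF.Cl X.left)ˣ) : PicF.Cl X.left) =
        PicF.cl (FGA.multiTwist L (fun i => k * (Models.mult R X (Γ i) /
          Nat.gcd h (Models.multGcd R X Γ)))) := by
    intro z k hz
    rw [← Ocl_natCast R X Γ L hL]
    congr 2
    funext i
    rw [hz i]
    push_cast
    rfl
  have hk1nn : 0 ≤ k₁ % ((Nat.gcd h (Models.multGcd R X Γ) : ℕ) : ℤ) := Int.emod_nonneg _ he'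
  have hk1lt : k₁ % ((Nat.gcd h (Models.multGcd R X Γ) : ℕ) : ℤ) <
      ((Nat.gcd h (Models.multGcd R X Γ) : ℕ) : ℤ) :=
    Int.emod_lt_of_pos _ (by exact_mod_cast hepos)
  refine ⟨(k₁ % ((Nat.gcd h (Models.multGcd R X Γ) : ℕ) : ℤ)).toNat, ⟨?_, ?_⟩, ?_⟩
  · have := Int.toNat_of_nonneg hk1nn
    omega
  · rw [← cl_eq_iff, hc]
    rw [← hcrit (fun i => ((k₁ % ((Nat.gcd h (Models.multGcd R X Γ) : ℕ) : ℤ)).toNat : ℤ) *
      ((Models.mult R X (Γ i) / Nat.gcd h (Models.multGcd R X Γ) : ℕ) : ℤ)) _ (fun i => rfl)]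
    congr 1
    rw [← div_eq_one, ← Ocl_sub]
    apply (Ocl_eq_one_iff R X hreg Γ hinj hcov L hL hp hconn hsurj _).2
    refine ⟨k₁ / ((Nat.gcd h (Models.multGcd R X Γ) : ℕ) : ℤ), fun i => ?_⟩
    rw [Pi.sub_apply, hk₁ i, Int.toNat_of_nonneg hk1nn]
    have hdm := Int.mul_ediv_add_emod k₁ ((Nat.gcd h (Models.multGcd R X Γ) : ℕ) : ℤ)
    rw [hmi i]
    calc k₁ * ((Models.mult R X (Γ i) / Nat.gcd h (Models.multGcd R X Γ) : ℕ) : ℤ) -
          k₁ % ((Nat.gcd h (Models.multGcd R X Γ) : ℕ) : ℤ) *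
            ((Models.mult R X (Γ i) / Nat.gcd h (Models.multGcd R X Γ) : ℕ) : ℤ)
        = (k₁ - k₁ % ((Nat.gcd h (Models.multGcd R X Γ) : ℕ) : ℤ)) *
            ((Models.mult R X (Γ i) / Nat.gcd h (Models.multGcd R X Γ) : ℕ) : ℤ) := by ring
      _ = (((Nat.gcd h (Models.multGcd R X Γ) : ℕ) : ℤ) *
            (k₁ / ((Nat.gcd h (Models.multGcd R X Γ) : ℕ) : ℤ))) *
            ((Models.mult R X (Γ i) / Nat.gcd h (Models.multGcd R X Γ) : ℕ) : ℤ) := by
          congr 1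
          linarith
      _ = _ := by ring
  · rintro k' ⟨hk'lt, hiso'⟩
    have e1 := hcrit (fun i => (k' : ℤ) *
      ((Models.mult R X (Γ i) / Nat.gcd h (Models.multGcd R X Γ) : ℕ) : ℤ)) k' (fun i => rfl)
    rw [← cl_eq_of_iso hiso'.some, hc, Units.val_inj] at e1
    -- e1 : Ocl (k' m') = Ocl c
    have e2 : Ocl R X Γ L hL ((fun i => (k' : ℤ) *
        ((Models.mult R X (Γ i) / Nat.gcd h (Models.multGcd R X Γ) : ℕ) : ℤ)) - c) = 1 := by
      rw [Ocl_sub, div_eq_one, e1]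
    obtain ⟨t, ht⟩ := (Ocl_eq_one_iff R X hreg Γ hinj hcov L hL hp hconn hsurj _).1 e2
    have h3 := ht i₀
    rw [Pi.sub_apply, hk₁ i₀, hmi i₀] at h3
    have hm'pos : (0 : ℤ) < ((Models.mult R X (Γ i₀) /
        Nat.gcd h (Models.multGcd R X Γ) : ℕ) : ℤ) := by
      have := Nat.div_pos (Nat.le_of_dvd (mpos i₀) (hem i₀)) hepos
      exact_mod_cast this
    have h4 : (k' : ℤ) - k₁ = t * ((Nat.gcd h (Models.multGcd R X Γ) : ℕ) : ℤ) := by
      apply mul_right_cancel₀ hm'pos.ne'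
      linarith
    -- so k' ≡ k₁ mod e, and 0 ≤ k' < e
    have h5 : k₁ % ((Nat.gcd h (Models.multGcd R X Γ) : ℕ) : ℤ) = (k' : ℤ) := by
      have h6 : k₁ = (k' : ℤ) + (-t) * ((Nat.gcd h (Models.multGcd R X Γ) : ℕ) : ℤ) := by
        linarith
      rw [h6, Int.add_mul_emod_self_right]
      exact Int.emod_eq_of_lt (by positivity) (by exact_mod_cast hk'lt)
    rw [h5]
    exact (Int.toNat_natCast k').symm

end Cor

end Groth.Agent.Helper1.PicV
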