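import Mathlib
import Groth.Agent.S3321
import Groth.Agent.S2171
import Groth.Agent.S2209
import Groth.Agent.Lib.Helper1.GenF5

/-!
# The divisor `Σ (m_i/d) Γ_i`: its `H^0` is a field and `1 - g = d χ(O_D)` (helper1)
-/

set_option autoImplicit false
set_option backward.isDefEq.respectTransparency.types false
universe u
open CategoryTheory CategoryTheory.Limits AlgebraicGeometry
open Models

namespace Groth.Agent.Helper1.GenF

open Groth.Agent.Helper1

section Pure

variable {n : ℕ}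

/-- the combinatorial heart of the chain argument: a divisor `0 < D_a < D_e` (with `e = m / gcd`)
meets some component `Γ_i ⊆ D_e - D_a` positively -/
theorem exists_pos_index (c : Fin n → Fin n → ℤ) (hc : ∀ i j, c i j = c j i)
    (hoff : ∀ i j, i ≠ j → 0 ≤ c i j) (m : Fin n → ℕ) (hm : ∀ i, 0 < m i)
    (hcm : ∀ i, ∑ j, (m j : ℤ) * c i j = 0)
    (hconn : ∀ I : Finset (Fin n), I.Nonempty → I ≠ Finset.univ →
      ∃ i ∈ I, ∃ j ∉ I, c i j ≠ 0)
    (e : Fin n → ℕ) (d : ℕ) (hd : Finset.univ.gcd m = d) (hde : ∀ j, d * e j = m j)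
    (a : Fin n → ℕ) (hae : ∀ j, a j ≤ e j) (j0 : Fin n) (ha0 : a j0 ≠ 0) (hane : a ≠ e) :
    ∃ i, a i < e i ∧ 0 < ∑ j, (a j : ℤ) * c i j := by
  classical
  by_contra hcon
  push Not at hcon
  have hdpos : 0 < d := by
    rcases Nat.eq_zero_or_pos d with h | h
    · have h1 := hde j0
      rw [h, zero_mul] at h1
      exact absurd h1 (hm j0).ne
    · exact h
  have hce : ∀ i, ∑ j, (e j : ℤ) * c i j = 0 := by
    intro i
    have h1 : (d : ℤ) * ∑ j, (e j : ℤ) * c i j = 0 := by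
      rw [Finset.mul_sum, ← hcm i]
      refine Finset.sum_congr rfl (fun j _ => ?_)
      rw [← hde j]
      push_cast
      ring
    rcases mul_eq_zero.1 h1 with h | h
    · exact absurd (by exact_mod_cast h) hdpos.ne'
    · exact h
  obtain ⟨A, hAij⟩ : ∃ A : Matrix (Fin n) (Fin n) ℝ, ∀ i j, A i j = ((c i j : ℤ) : ℝ) :=
    ⟨Matrix.of fun i j => ((c i j : ℤ) : ℝ), fun i j => rfl⟩
  obtain ⟨mR, hmR⟩ : ∃ mR : Fin n → ℝ, ∀ j, mR j = ((m j : ℕ) : ℝ) :=
    ⟨fun j => ((m j : ℕ) : ℝ), fun j => rfl⟩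
  obtain ⟨x, hx⟩ : ∃ x : Fin n → ℝ, ∀ j, x j = ((e j : ℕ) : ℝ) - ((a j : ℕ) : ℝ) :=
    ⟨fun j => ((e j : ℕ) : ℝ) - ((a j : ℕ) : ℝ), fun j => rfl⟩
  have Z := Groth.Agent.S2171.result A mR
    (Matrix.IsSymm.ext (fun i j => by rw [hAij, hAij, hc j i]))
    (fun i j hij => by rw [hAij]; exact_mod_cast hoff i j hij)
    (fun i => by rw [hmR]; exact_mod_cast hm i)
    (by
      funext i
      show ∑ j, A i j * mR j = 0
      have h : ((∑ j, (m j : ℤ) * c i j : ℤ) : ℝ) = 0 := by rw [hcm i]; simp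
      push_cast at h
      rw [← h]
      exact Finset.sum_congr rfl (fun j _ => by rw [hAij, hmR]; exact mul_comm _ _))
    (fun I hI hI' => by
      obtain ⟨i, hi, j, hj, hij⟩ := hconn I hI hI'
      exact ⟨i, hi, j, hj, by rw [hAij]; exact_mod_cast hij⟩)
    x
  have hmul : ∀ i, A.mulVec x i = -((∑ j, (a j : ℤ) * c i j : ℤ) : ℝ) := by
    intro i
    show ∑ j, A i j * x j = _
    have h : ((∑ j, (e j : ℤ) * c i j : ℤ) : ℝ) = 0 := by rw [hce i]; simp
    push_cast at h ⊢
    rw [eq_neg_iff_add_eq_zero, ← h, ← Finset.sum_add_distrib]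
    refine Finset.sum_congr rfl (fun j _ => ?_)
    rw [hAij, hx]
    ring
  have hQ : dotProduct x (A.mulVec x) =
      -∑ i, x i * ((∑ j, (a j : ℤ) * c i j : ℤ) : ℝ) := by
    show ∑ i, x i * A.mulVec x i = _
    rw [← Finset.sum_neg_distrib]
    exact Finset.sum_congr rfl (fun i _ => by rw [hmul i]; ring)
  have hQnonneg : 0 ≤ dotProduct x (A.mulVec x) := by
    rw [hQ, neg_nonneg]
    apply Finset.sum_nonpos
    intro i _
    rcases (hae i).lt_or_eq with h | h
    · have h1 := hcon i h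
      have h2 : ((∑ j, (a j : ℤ) * c i j : ℤ) : ℝ) ≤ 0 := by exact_mod_cast h1
      have h3 : (0 : ℝ) ≤ x i := by
        rw [hx]
        have h4 : ((a i : ℕ) : ℝ) ≤ ((e i : ℕ) : ℝ) := by exact_mod_cast hae i
        linarith
      exact mul_nonpos_iff.2 (Or.inl ⟨h3, h2⟩)
    · have h3 : x i = 0 := by
        rw [hx, h, sub_self]
      rw [h3, zero_mul]
  have hQ0 : dotProduct x (A.mulVec x) = 0 := le_antisymm Z.1 hQnonneg
  obtain ⟨q, hq⟩ := Z.2.1 hQ0
  have hxq : ∀ j, ((e j : ℕ) : ℝ) - ((a j : ℕ) : ℝ) = q * ((m j : ℕ) : ℝ) := by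
    intro j
    have h := congrFun hq j
    rw [Pi.smul_apply, smul_eq_mul, hx, hmR] at h
    exact h
  have hprop : ∀ j l, a j * m l = a l * m j := by
    intro j l
    have hmj : (d : ℝ) * (e j : ℝ) = (m j : ℝ) := by exact_mod_cast hde j
    have hml : (d : ℝ) * (e l : ℝ) = (m l : ℝ) := by exact_mod_cast hde l
    have h : ((a j : ℕ) : ℝ) * (m l : ℝ) = (a l : ℝ) * (m j : ℝ) := by
      linear_combination (-(m l : ℝ)) * hxq j + (m j : ℝ) * hxq l - (e j : ℝ) * hml +
        (e l : ℝ) * hmj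
    exact_mod_cast h
  have hg : ∀ l, a l * d = Finset.univ.gcd a * m l := by
    intro l
    have h1 : (Finset.univ.gcd fun j => a j * m l) = Finset.univ.gcd a * m l := by
      rw [Finset.gcd_mul_right, normalize_eq]
    have h2 : (Finset.univ.gcd fun j => a l * m j) = a l * d := by
      rw [Finset.gcd_mul_left, normalize_eq, hd]
    calc a l * d = Finset.univ.gcd (fun j => a l * m j) := h2.symm
      _ = Finset.univ.gcd (fun j => a j * m l) := by
          congr 1
          funext j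
          exact (hprop j l).symm
      _ = _ := h1
  have hg0 : Finset.univ.gcd a ≠ 0 := by
    intro h
    exact ha0 ((Finset.gcd_eq_zero_iff.1 h) j0 (Finset.mem_univ j0))
  apply hane
  funext l
  have h1 : a l * d = (Finset.univ.gcd a * e l) * d := by
    rw [hg l, ← hde l]
    ring
  have h2 : a l = Finset.univ.gcd a * e l := Nat.eq_of_mul_eq_mul_right hdpos h1
  have h3 : e l ≤ a l := by
    rw [h2]
    exact Nat.le_mul_of_pos_left _ (Nat.pos_of_ne_zero hg0)
  exact le_antisymm (hae l) h3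

/-- induction along a chain of effective divisors from `a` up to `e` -/
theorem chain_induction (P : (Fin n → ℕ) → Prop) (e : Fin n → ℕ)
    (hstep : ∀ a : Fin n → ℕ, (∀ j, a j ≤ e j) → a ≠ e → (∃ j, a j ≠ 0) → P a →
      ∃ i, a i < e i ∧ P (fun j => a j + if j = i then 1 else 0))
    (a : Fin n → ℕ) (hae : ∀ j, a j ≤ e j) (ha0 : ∃ j, a j ≠ 0) (hPa : P a) : P e := by
  classical
  suffices H : ∀ (N : ℕ) (a : Fin n → ℕ), ∑ j, a j + N = ∑ j, e j → (∀ j, a j ≤ e j) →
      (∃ j, a j ≠ 0) → P a → P e by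
    have hle : ∑ j, a j ≤ ∑ j, e j := Finset.sum_le_sum (fun j _ => hae j)
    exact H (∑ j, e j - ∑ j, a j) a (Nat.add_sub_cancel' hle) hae ha0 hPa
  intro N
  induction N with
  | zero =>
    intro a hsum hae _ hPa
    have h1 : ∑ j, a j = ∑ j, e j := by simpa using hsum
    have h2 := (Finset.sum_eq_sum_iff_of_le (fun j _ => hae j)).1 h1
    have h3 : a = e := funext (fun j => h2 j (Finset.mem_univ j))
    rw [← h3]
    exact hPa
  | succ N ih =>
    intro a hsum hae ha0 hPa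
    by_cases hane : a = e
    · rw [← hane]
      exact hPa
    · obtain ⟨i, hi, hP'⟩ := hstep a hae hane ha0 hPa
      refine ih (fun j => a j + if j = i then 1 else 0) ?_ ?_ ?_ hP'
      · have h1 : ∑ j : Fin n, (if j = i then 1 else 0) = 1 := by simp
        rw [Finset.sum_add_distrib, h1]
        omega
      · intro j
        by_cases hji : j = i
        · rw [hji, if_pos rfl]
          exact hi
        · rw [if_neg hji]
          exact hae j
      · obtain ⟨j, hj⟩ := ha0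
        refine ⟨j, ?_⟩
        have h2 : a j ≤ a j + (if j = i then 1 else 0) := Nat.le_add_right _ _
        omega

end Pure

section Geo

set_option maxHeartbeats 800000 in
/-- `H^0` of the divisor `Σ e_j Γ_j`, `e = m / gcd(m)`, is a field -/
theorem isField_prod_pow (R : Type u) [CommRing R] [IsDomain R] [IsDiscreteValuationRing R]
    (C X : Scheme.{u}) (f : C ⟶ Spec (CommRingCat.of (FractionRing R)))
    (p : X ⟶ Spec (CommRingCat.of R))
    (hC : Curve.IsSmoothProperCurve (FractionRing R) C f) (hH0 : IsIso f.appTop)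
    (hX : Models.IsRegularProperModel R X p C f)
    {n : ℕ} (Γ : Fin n → ArSurf.VertComp R (Over.mk p))
    (hΓ : Models.IsComponentList R (Over.mk p) Γ)
    (L : Fin n → X.Modules)
    (hL : ∀ i, ClSub.IsInverseOf (L i) (ClSub.idealMod (Γ i).ι.ker))
    (e : Fin n → ℕ) (d : ℕ)
    (hd : (Finset.univ.gcd fun j => Models.mult R (Over.mk p) (Γ j)) = d)
    (hde : ∀ j, d * e j = Models.mult R (Over.mk p) (Γ j)) :
    IsField ↑Γ((∏ j, (Γ j).ι.ker ^ e j).subscheme, ⊤) := by
  classical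
  obtain ⟨⟨hflat, hlft, hqc, g', H⟩, hp, hreg⟩ := id hX
  haveI := hlft
  haveI := hp
  haveI : Flat p := hflat
  haveI : IsLocallyNoetherian (Over.mk p).left :=
    LocallyOfFiniteType.isLocallyNoetherian (Y := Spec (CommRingCat.of R)) p
  haveI : Flat (Over.mk p).hom := hflat
  have hinj := hΓ.1
  have hcov := SpFib.cover_of_isComponentList R (Over.mk p) Γ hΓ
  have hconn : ConnectedSpace ↥(Models.specialFibre R (Over.mk p).left (Over.mk p).hom) :=
    Groth.Agent.S2209.result R C X f p hC hH0 hX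
  have hn : 0 < n := pos_of_connected R (Over.mk p) hconn Γ hcov
  have hinv : ∀ j, PicF.IsInvertible (ClSub.idealMod (Γ j).ι.ker) := fun j =>
    ArInt.isInvertible_idealMod_of_isInverseOf R (Over.mk p) _ (L j) (hL j)
  have hmne : ∀ j, Models.mult R (Over.mk p) (Γ j) ≠ 0 := fun j =>
    SpFib.mult_ne_zero R (Over.mk p) hreg Γ hinj hcov j
  have hdpos : 0 < d := by
    rcases Nat.eq_zero_or_pos d with h | h
    · exfalso
      have h1 := hde ⟨0, hn⟩
      rw [h, zero_mul] at h1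
      exact hmne _ h1.symm
    · exact h
  have hepos : ∀ j, 0 < e j := by
    intro j
    rcases Nat.eq_zero_or_pos (e j) with h | h
    · exfalso
      have h1 := hde j
      rw [h, mul_zero] at h1
      exact hmne _ h1.symm
    · exact h
  have hprod : ∀ (a : Fin n → ℕ) (i : Fin n),
      ∏ j, (Γ j).ι.ker ^ (a j + if j = i then 1 else 0) =
        (∏ j, (Γ j).ι.ker ^ a j) * (Γ i).ι.ker := by
    intro a i
    simp only [pow_add]
    rw [Finset.prod_mul_distrib]
    congr 1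
    rw [Finset.prod_eq_single i]
    · rw [if_pos rfl, pow_one]
    · intro j _ hji
      rw [if_neg hji, pow_zero]
    · intro h
      exact absurd (Finset.mem_univ i) h
  have hc : ∀ i j, ArSurf.inter R (Over.mk p) (L i) (Γ j) =
      ArSurf.inter R (Over.mk p) (L j) (Γ i) := by
    intro i j
    by_cases hij : i = j
    · subst hij
      rfl
    · exact ArInt.inter_symm R (Over.mk p) hp (Γ j) (Γ i)
        (fun e => hij (hinj e).symm) (L j) (L i) (hL j) (hL i)
  have hoff : ∀ i j, i ≠ j → 0 ≤ ArSurf.inter R (Over.mk p) (L i) (Γ j) := by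
    intro i j hij
    have hne : Set.range (Γ j).ι.base ≠ Set.range (Γ i).ι.base := fun e => hij (hinj e).symm
    exact (ArInt.inter_nonneg_and_eq_zero_iff R (Over.mk p) hp (Γ j) (Γ i).ι.ker (hinv i)
      (L i) (hL i) (ArInt.genPt_notMem R (Over.mk p) (Γ j) (Γ i) hne)).1
  have hcm : ∀ i, ∑ j, (Models.mult R (Over.mk p) (Γ j) : ℤ) *
      ArSurf.inter R (Over.mk p) (L i) (Γ j) = 0 := by
    intro i
    rw [← SpFib.sum_mult_mul_inter_eq_zero R (Over.mk p) hp hreg Γ hinj hcov L hL i]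
    exact Finset.sum_congr rfl (fun j _ => by rw [hc i j])
  have hconn' : ∀ I : Finset (Fin n), I.Nonempty → I ≠ Finset.univ →
      ∃ i ∈ I, ∃ j ∉ I, ArSurf.inter R (Over.mk p) (L i) (Γ j) ≠ 0 := by
    intro I hI hI'
    obtain ⟨i, hi, j, hj, hij⟩ :=
      exists_inter_ne_zero R (Over.mk p) hp hconn Γ hinj hcov L hL I hI hI'
    exact ⟨i, hi, j, hj, by rw [hc i j]; exact hij⟩
  have mul_le : ∀ A B : X.IdealSheafData, A * B ≤ A := fun A B U =>
    (Ideal.mul_le_left : A.ideal U * B.ideal U ≤ A.ideal U)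
  have hv := PicV.isInvertibleCl_v R (Over.mk p) Γ L hL
  have hu := PicV.isInvertibleCl_u R (Over.mk p) Γ L hL
  have hinter : ∀ (a : Fin n → ℕ) (i : Fin n),
      ArSurf.inter R (Over.mk p) (ClSub.idealMod (∏ j, (Γ j).ι.ker ^ a j)) (Γ i) =
        -(∑ j, (a j : ℤ) * ArSurf.inter R (Over.mk p) (L i) (Γ j)) := by
    intro a i
    have hB := PicV.degCl_prod_pow R (Over.mk p) hp (Γ i)
      (fun j => PicF.cl (ClSub.idealMod (Γ j).ι.ker)) hv a Finset.univ
    have hcl := PicV.cl_idealMod_prod_pow (fun j => (Γ j).ι.ker) a hinv Finset.univ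
    have h0 : ArSurf.inter R (Over.mk p) (ClSub.idealMod (∏ j, (Γ j).ι.ker ^ a j)) (Γ i) =
        PicV.degCl R (Over.mk p) hp (Γ i)
          (PicF.cl (ClSub.idealMod (∏ j, (Γ j).ι.ker ^ a j))) := rfl
    rw [h0, hcl, hB.2, ← Finset.sum_neg_distrib]
    apply Finset.sum_congr rfl
    intro j _
    have hneg : PicV.degCl R (Over.mk p) hp (Γ i)
        (PicF.cl (ClSub.idealMod (Γ j).ι.ker)) = - ArSurf.inter R (Over.mk p) (L j) (Γ i) := by
      have h1 := PicV.degCl_mul R (Over.mk p) hp (Γ i) (hu j) (hv j)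
      have h2 : (@PicF.cl (Over.mk p).left (L j)) * PicF.cl (ClSub.idealMod (Γ j).ι.ker) = 1 :=
        Groth.Agent.Lead.PicCalc.cl_eq_of_iso (hL j).some
      rw [h2, PicV.degCl_one] at h1
      have h3 : PicV.degCl R (Over.mk p) hp (Γ i) (PicF.cl (L j)) =
          ArSurf.inter R (Over.mk p) (L j) (Γ i) := rfl
      rw [h3] at h1
      linarith
    rw [hneg, hc j i]
    ring
  have hsf := SpFib.specialFibreIdeal_eq_prod R (Over.mk p) hreg Γ hinj hcov
  have hstep : ∀ a : Fin n → ℕ, (∀ j, a j ≤ e j) → a ≠ e → (∃ j, a j ≠ 0) →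
      IsField ↑Γ((∏ j, (Γ j).ι.ker ^ a j).subscheme,
        (∏ j, (Γ j).ι.ker ^ a j).subschemeι ⁻¹ᵁ ⊤) →
      ∃ i, a i < e i ∧
        IsField ↑Γ((∏ j, (Γ j).ι.ker ^ (a j + if j = i then 1 else 0)).subscheme,
          (∏ j, (Γ j).ι.ker ^ (a j + if j = i then 1 else 0)).subschemeι ⁻¹ᵁ ⊤) := by
    rintro a hae hane ⟨j0, hj0⟩ hPa
    obtain ⟨i, hi, hpos⟩ := exists_pos_index
      (fun i j => ArSurf.inter R (Over.mk p) (L i) (Γ j)) hc hoff
      (fun j => Models.mult R (Over.mk p) (Γ j)) (fun j => Nat.pos_of_ne_zero (hmne j)) hcm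
      hconn' e d hd hde a hae j0 hj0 hane
    refine ⟨i, hi, ?_⟩
    have ha : ∀ j, a j + (if j = i then 1 else 0) ≤ Models.mult R (Over.mk p) (Γ j) := by
      intro j
      have h1 : a j + (if j = i then 1 else 0) ≤ e j := by
        by_cases hji : j = i
        · rw [hji, if_pos rfl]
          exact hi
        · rw [if_neg hji]
          exact hae j
      calc a j + (if j = i then 1 else 0) ≤ e j := h1
        _ ≤ d * e j := Nat.le_mul_of_pos_left _ hdpos
        _ = _ := hde j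
    have hle : Models.specialFibreIdeal R (Over.mk p) ≤
        (∏ j, (Γ j).ι.ker ^ a j) * (Γ i).ι.ker := by
      rw [← hprod a i, hsf]
      have hsplit : ∀ j, (Γ j).ι.ker ^ Models.mult R (Over.mk p) (Γ j) =
          (Γ j).ι.ker ^ (a j + if j = i then 1 else 0) *
            (Γ j).ι.ker ^ (Models.mult R (Over.mk p) (Γ j) -
              (a j + if j = i then 1 else 0)) := by
        intro j
        rw [← pow_add, Nat.add_sub_cancel' (ha j)]
      rw [Finset.prod_congr rfl (fun j _ => hsplit j), Finset.prod_mul_distrib]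
      exact mul_le _ _
    have hneg : ArSurf.inter R (Over.mk p)
        (ClSub.idealMod (∏ j, (Γ j).ι.ker ^ a j)) (Γ i) < 0 := by
      rw [hinter a i]
      have h1 : 0 < ∑ j, (a j : ℤ) * ArSurf.inter R (Over.mk p) (L i) (Γ j) := hpos
      linarith
    rw [hprod a i]
    exact isField_step R (Over.mk p) hp (Γ i) (∏ j, (Γ j).ι.ker ^ a j)
      (SpFib.isInvertible_prod_pow (fun j => (Γ j).ι.ker) a hinv Finset.univ) hle hneg hPa
  obtain ⟨i0⟩ : Nonempty (Fin n) := ⟨⟨0, hn⟩⟩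
  have hI0 : ∏ j, (Γ j).ι.ker ^ (if j = i0 then 1 else 0) = (Γ i0).ι.ker := by
    rw [Finset.prod_eq_single i0]
    · rw [if_pos rfl, pow_one]
    · intro j _ hji
      rw [if_neg hji, pow_zero]
    · intro h
      exact absurd (Finset.mem_univ i0) h
  have hbase : IsField ↑Γ((∏ j, (Γ j).ι.ker ^ (if j = i0 then 1 else 0)).subscheme,
      (∏ j, (Γ j).ι.ker ^ (if j = i0 then 1 else 0)).subschemeι ⁻¹ᵁ ⊤) := by
    rw [hI0]
    have hF := isField_curve R (Over.mk p) hp (Γ i0)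
    have eq : Γ((Γ i0).ι.image, ⊤) ≃+* Γ((Γ i0).curve.left, ⊤) :=
      (Scheme.Γ.mapIso (asIso (Γ i0).ι.toImage).op).commRingCatIsoToRingEquiv
    exact MulEquiv.isField hF eq.toMulEquiv
  have key := chain_induction
    (fun a : Fin n → ℕ => IsField ↑Γ((∏ j, (Γ j).ι.ker ^ a j).subscheme,
      (∏ j, (Γ j).ι.ker ^ a j).subschemeι ⁻¹ᵁ ⊤)) e hstep
    (fun j => if j = i0 then 1 else 0) ?_ ⟨i0, ?_⟩ hbase
  · exact key
  · intro j
    by_cases h : j = i0
    · rw [if_pos h]
      exact hepos j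
    · rw [if_neg h]
      exact Nat.zero_le _
  · show (if i0 = i0 then 1 else 0) ≠ 0
    rw [if_pos rfl]
    exact one_ne_zero

set_option maxHeartbeats 800000 in
/-- `1 - g_C = d χ(O_D)` for `D = Σ e_j Γ_j`, `d e = m` -/
theorem genus_eq_mul_chi (R : Type u) [CommRing R] [IsDomain R] [IsDiscreteValuationRing R]
    (C X : Scheme.{u}) (f : C ⟶ Spec (CommRingCat.of (FractionRing R)))
    (p : X ⟶ Spec (CommRingCat.of R))
    (hC : Curve.IsSmoothProperCurve (FractionRing R) C f) (hH0 : IsIso f.appTop)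
    (hX : Models.IsRegularProperModel R X p C f)
    {n : ℕ} (Γ : Fin n → ArSurf.VertComp R (Over.mk p))
    (hΓ : Models.IsComponentList R (Over.mk p) Γ)
    (L : Fin n → X.Modules)
    (hL : ∀ i, ClSub.IsInverseOf (L i) (ClSub.idealMod (Γ i).ι.ker))
    (e : Fin n → ℕ) (d : ℕ) (hdpos : 0 < d)
    (hde : ∀ j, d * e j = Models.mult R (Over.mk p) (Γ j)) :
    (1 : ℤ) - (Models.curveGenus (FractionRing R) C f : ℤ) =
      (d : ℤ) * ((Models.lengthH R (Over.mk p)
          (ClSub.quotMod (∏ j, (Γ j).ι.ker ^ e j)) 0 : ℤ) -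
        (Models.lengthH R (Over.mk p) (ClSub.quotMod (∏ j, (Γ j).ι.ker ^ e j)) 1 : ℤ)) := by
  classical
  obtain ⟨⟨hflat, hlft, hqc, g', H⟩, hp, hreg⟩ := id hX
  haveI := hlft
  haveI := hp
  haveI : Flat p := hflat
  haveI : IsLocallyNoetherian (Over.mk p).left :=
    LocallyOfFiniteType.isLocallyNoetherian (Y := Spec (CommRingCat.of R)) p
  haveI : Flat (Over.mk p).hom := hflat
  have hinj := hΓ.1
  have hcov := SpFib.cover_of_isComponentList R (Over.mk p) Γ hΓ
  have htop : (∏ j : Fin n, (Γ j).ι.ker ^ (0 : ℕ)) = (⊤ : X.IdealSheafData) := by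
    simp only [pow_zero, Finset.prod_const_one]
    rfl
  have hc : ∀ i j, ArSurf.inter R (Over.mk p) (L i) (Γ j) =
      ArSurf.inter R (Over.mk p) (L j) (Γ i) := by
    intro i j
    by_cases hij : i = j
    · subst hij
      rfl
    · exact ArInt.inter_symm R (Over.mk p) hp (Γ j) (Γ i)
        (fun e => hij (hinj e).symm) (L j) (L i) (hL j) (hL i)
  have hz : ∀ i, Models.lengthH R (Over.mk p) (ClSub.quotMod (⊤ : X.IdealSheafData)) i = 0 := by
    intro i
    haveI : Subsingleton (Coh.HH (Over.mk p).left (ClSub.quotMod (⊤ : X.IdealSheafData)) i) :=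
      subsingleton_HH_quotMod_top (X := X) i
    unfold Models.lengthH
    rw [Module.length_eq_zero]
    rfl
  have h0 : ((Models.lengthH R (Over.mk p)
        (ClSub.quotMod (∏ j : Fin n, (Γ j).ι.ker ^ (0 : ℕ))) 0 : ℤ) -
      (Models.lengthH R (Over.mk p)
        (ClSub.quotMod (∏ j : Fin n, (Γ j).ι.ker ^ (0 : ℕ))) 1 : ℤ)) = 0 := by
    rw [htop, hz 0, hz 1]
    norm_num
  have hstep : ∀ (a : Fin n → ℕ) (i : Fin n),
      (∀ j, a j + (if j = i then 1 else 0) ≤ Models.mult R (Over.mk p) (Γ j)) →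
      ((Models.lengthH R (Over.mk p)
            (ClSub.quotMod (∏ j, (Γ j).ι.ker ^ (a j + if j = i then 1 else 0))) 0 : ℤ) -
          (Models.lengthH R (Over.mk p)
            (ClSub.quotMod (∏ j, (Γ j).ι.ker ^ (a j + if j = i then 1 else 0))) 1 : ℤ)) -
        ((Models.lengthH R (Over.mk p) (ClSub.quotMod (∏ j, (Γ j).ι.ker ^ a j)) 0 : ℤ) -
          (Models.lengthH R (Over.mk p) (ClSub.quotMod (∏ j, (Γ j).ι.ker ^ a j)) 1 : ℤ)) =
      -(∑ j, (a j : ℤ) * ArSurf.inter R (Over.mk p) (L i) (Γ j)) +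
        ((Models.wdeg R (Over.mk p) (Γ i) : ℤ) - (Models.h1 R (Over.mk p) (Γ i) : ℤ)) :=
    fun a i ha => Groth.Agent.S3325.result R C X f p hC hH0 hX Γ hΓ L hL a i ha
  have he : ∀ j, e j ≤ Models.mult R (Over.mk p) (Γ j) := fun j => by
    rw [← hde j]
    exact Nat.le_mul_of_pos_left _ hdpos
  have hquad := quad_induction
    (fun j => Models.mult R (Over.mk p) (Γ j))
    (fun i j => ArSurf.inter R (Over.mk p) (L i) (Γ j)) hc
    (fun j => (Models.wdeg R (Over.mk p) (Γ j) : ℤ) - (Models.h1 R (Over.mk p) (Γ j) : ℤ))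
    (fun e => ((Models.lengthH R (Over.mk p)
        (ClSub.quotMod (∏ j, (Γ j).ι.ker ^ e j)) 0 : ℤ) -
      (Models.lengthH R (Over.mk p) (ClSub.quotMod (∏ j, (Γ j).ι.ker ^ e j)) 1 : ℤ)))
    h0 hstep e he
  beta_reduce at hquad
  have hcm : ∀ i, ∑ j, (Models.mult R (Over.mk p) (Γ j) : ℤ) *
      ArSurf.inter R (Over.mk p) (L i) (Γ j) = 0 := by
    intro i
    rw [← SpFib.sum_mult_mul_inter_eq_zero R (Over.mk p) hp hreg Γ hinj hcov L hL i]
    exact Finset.sum_congr rfl (fun j _ => by rw [hc i j])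
  have hce : ∀ i, ∑ j, (e j : ℤ) * ArSurf.inter R (Over.mk p) (L i) (Γ j) = 0 := by
    intro i
    have h1 : (d : ℤ) * ∑ j, (e j : ℤ) * ArSurf.inter R (Over.mk p) (L i) (Γ j) = 0 := by
      rw [Finset.mul_sum, ← hcm i]
      refine Finset.sum_congr rfl (fun j _ => ?_)
      rw [← hde j]
      push_cast
      ring
    rcases mul_eq_zero.1 h1 with h | h
    · exact absurd (by exact_mod_cast h) hdpos.ne'
    · exact h
  have hzero : ∑ j, ∑ l, (e j : ℤ) * (e l : ℤ) * ArSurf.inter R (Over.mk p) (L j) (Γ l) = 0 := by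
    apply Finset.sum_eq_zero
    intro j _
    calc ∑ l, (e j : ℤ) * (e l : ℤ) * ArSurf.inter R (Over.mk p) (L j) (Γ l)
        = (e j : ℤ) * ∑ l, (e l : ℤ) * ArSurf.inter R (Over.mk p) (L j) (Γ l) := by
          rw [Finset.mul_sum]
          exact Finset.sum_congr rfl (fun l _ => by rw [mul_assoc])
      _ = 0 := by rw [hce j, mul_zero]
  rw [hzero, sub_zero] at hquad
  have hgen := Groth.Agent.S3321.result R C X f p hC hH0 hX Γ hΓ L hL
  have hm : ∑ i, (Models.mult R (Over.mk p) (Γ i) : ℤ) *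
      (2 * ((Models.h1 R (Over.mk p) (Γ i) : ℤ) - (Models.wdeg R (Over.mk p) (Γ i) : ℤ)) -
        ArSurf.inter R (Over.mk p) (L i) (Γ i)) =
      -((d : ℤ) * ∑ j, (e j : ℤ) *
        (2 * ((Models.wdeg R (Over.mk p) (Γ j) : ℤ) - (Models.h1 R (Over.mk p) (Γ j) : ℤ)) +
          ArSurf.inter R (Over.mk p) (L j) (Γ j))) := by
    rw [Finset.mul_sum, ← Finset.sum_neg_distrib]
    refine Finset.sum_congr rfl (fun j _ => ?_)
    rw [← hde j]
    push_cast
    ring
  have hd2 : (d : ℤ) * (2 * ((Models.lengthH R (Over.mk p)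
        (ClSub.quotMod (∏ j, (Γ j).ι.ker ^ e j)) 0 : ℤ) -
      (Models.lengthH R (Over.mk p) (ClSub.quotMod (∏ j, (Γ j).ι.ker ^ e j)) 1 : ℤ))) =
      (d : ℤ) * ∑ j, (e j : ℤ) *
        (2 * ((Models.wdeg R (Over.mk p) (Γ j) : ℤ) - (Models.h1 R (Over.mk p) (Γ j) : ℤ)) +
          ArSurf.inter R (Over.mk p) (L j) (Γ j)) := by
    rw [hquad]
  rw [hm] at hgen
  linarith

end Geo

end Groth.Agent.Helper1.GenF
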