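import Mathlib
import Groth.Agent.Lib.Helper1.GenF6

/-!
# A chain of divisors from `Σ Γ_i` to `Σ (m_i/d) Γ_i` all of whose `H^0` are fields (helper1)
-/

set_option autoImplicit false
set_option backward.isDefEq.respectTransparency.types false
universe u
open CategoryTheory CategoryTheory.Limits AlgebraicGeometry
open Models

namespace Groth.Agent.Helper1.GenF

open Groth.Agent.Helper1 Groth.Agent.Lib.Helper4

section Pure

variable {n : ℕ}

/-- a reduced divisor `0 < D_a < Σ Γ_i` meets some component outside it positively -/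
theorem exists_pos_index_one (c : Fin n → Fin n → ℤ) (hc : ∀ i j, c i j = c j i)
    (hoff : ∀ i j, i ≠ j → 0 ≤ c i j)
    (hconn : ∀ I : Finset (Fin n), I.Nonempty → I ≠ Finset.univ →
      ∃ i ∈ I, ∃ j ∉ I, c i j ≠ 0)
    (a : Fin n → ℕ) (hae : ∀ j, a j ≤ 1) (j0 : Fin n) (ha0 : a j0 ≠ 0)
    (hane : a ≠ fun _ => 1) :
    ∃ i, a i < 1 ∧ 0 < ∑ j, (a j : ℤ) * c i j := by
  classical
  obtain ⟨I, hI⟩ : ∃ I : Finset (Fin n), ∀ j, j ∈ I ↔ a j ≠ 0 :=
    ⟨Finset.univ.filter (fun j => a j ≠ 0), fun j => by simp⟩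
  have hInon : I.Nonempty := ⟨j0, (hI j0).2 ha0⟩
  have hIne : I ≠ Finset.univ := by
    intro h
    apply hane
    funext j
    have hj : j ∈ I := by
      rw [h]
      exact Finset.mem_univ j
    have h1 : a j ≠ 0 := (hI j).1 hj
    have h2 := hae j
    omega
  obtain ⟨j, hj, i, hi, hji⟩ := hconn I hInon hIne
  have haj : a j = 1 := by
    have h1 : a j ≠ 0 := (hI j).1 hj
    have h2 := hae j
    omega
  have hai : a i = 0 := by
    by_contra h
    exact hi ((hI i).2 h)
  refine ⟨i, by omega, ?_⟩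
  have hij : i ≠ j := fun h => hi (h ▸ hj)
  have hcij : 0 < c i j :=
    lt_of_le_of_ne (hoff i j hij) (by rw [hc i j]; exact hji.symm)
  calc (0 : ℤ) < (a j : ℤ) * c i j := by
        rw [haj]
        simpa using hcij
    _ ≤ ∑ l, (a l : ℤ) * c i l := by
        apply Finset.single_le_sum (f := fun l => (a l : ℤ) * c i l) (fun l _ => ?_)
          (Finset.mem_univ j)
        by_cases hl : l = i
        · rw [hl, hai]
          simp
        · exact mul_nonneg (Int.natCast_nonneg _) (hoff i l (Ne.symm hl))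

/-- existence of a chain of effective divisors from `a0` up to `e` along which `P` holds -/
theorem exists_chain (P : (Fin n → ℕ) → Prop) (e : Fin n → ℕ)
    (hstep : ∀ a : Fin n → ℕ, (∀ j, a j ≤ e j) → a ≠ e → (∃ j, a j ≠ 0) → P a →
      ∃ i, a i < e i ∧ P (fun j => a j + if j = i then 1 else 0))
    (a0 : Fin n → ℕ) (hae : ∀ j, a0 j ≤ e j) (ha0 : ∃ j, a0 j ≠ 0) (hPa : P a0) :
    ∃ (s : ℕ) (a : Fin (s + 1) → Fin n → ℕ), a 0 = a0 ∧ a (Fin.last s) = e ∧
      (∀ j : Fin s, ∃ i, a j.succ = a j.castSucc + Pi.single i 1) ∧ ∀ j, P (a j) := by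
  classical
  suffices H : ∀ (N : ℕ) (a0 : Fin n → ℕ), ∑ j, a0 j + N = ∑ j, e j → (∀ j, a0 j ≤ e j) →
      (∃ j, a0 j ≠ 0) → P a0 →
      ∃ (s : ℕ) (a : Fin (s + 1) → Fin n → ℕ), a 0 = a0 ∧ a (Fin.last s) = e ∧
        (∀ j : Fin s, ∃ i, a j.succ = a j.castSucc + Pi.single i 1) ∧ ∀ j, P (a j) by
    have hle : ∑ j, a0 j ≤ ∑ j, e j := Finset.sum_le_sum (fun j _ => hae j)
    exact H (∑ j, e j - ∑ j, a0 j) a0 (Nat.add_sub_cancel' hle) hae ha0 hPa
  have hdone : ∀ a0 : Fin n → ℕ, a0 = e → P a0 →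
      ∃ (s : ℕ) (a : Fin (s + 1) → Fin n → ℕ), a 0 = a0 ∧ a (Fin.last s) = e ∧
        (∀ j : Fin s, ∃ i, a j.succ = a j.castSucc + Pi.single i 1) ∧ ∀ j, P (a j) := by
    intro a0 h hP
    exact ⟨0, fun _ => a0, rfl, h, fun j => j.elim0, fun _ => hP⟩
  intro N
  induction N with
  | zero =>
    intro a0 hsum hae _ hPa
    have h1 : ∑ j, a0 j = ∑ j, e j := by simpa using hsum
    have h2 := (Finset.sum_eq_sum_iff_of_le (fun j _ => hae j)).1 h1
    exact hdone a0 (funext (fun j => h2 j (Finset.mem_univ j))) hPa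
  | succ N ih =>
    intro a0 hsum hae ha0 hPa
    by_cases hane : a0 = e
    · exact hdone a0 hane hPa
    · obtain ⟨i, hi, hP'⟩ := hstep a0 hae hane ha0 hPa
      obtain ⟨s, a, h0, hlast, hsucc, hP⟩ :=
        ih (fun j => a0 j + if j = i then 1 else 0) (by
          have h1 : ∑ j : Fin n, (if j = i then 1 else 0) = 1 := by simp
          rw [Finset.sum_add_distrib, h1]
          omega) (by
          intro j
          by_cases hji : j = i
          · rw [hji, if_pos rfl]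
            exact hi
          · rw [if_neg hji]
            exact hae j) (by
          obtain ⟨j, hj⟩ := ha0
          refine ⟨j, ?_⟩
          have h2 : a0 j ≤ a0 j + (if j = i then 1 else 0) := Nat.le_add_right _ _
          omega) hP'
      refine ⟨s + 1, Fin.cons (α := fun _ => Fin n → ℕ) a0 a, Fin.cons_zero _ _, ?_, ?_, ?_⟩
      · rw [← Fin.succ_last, Fin.cons_succ]
        exact hlast
      · refine Fin.cases ?_ ?_
        · refine ⟨i, ?_⟩
          rw [Fin.cons_succ, Fin.castSucc_zero, Fin.cons_zero, h0]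
          funext l
          rw [Pi.add_apply, Pi.single_apply]
        · intro j
          obtain ⟨i', hi'⟩ := hsucc j
          refine ⟨i', ?_⟩
          rw [Fin.cons_succ, ← Fin.succ_castSucc, Fin.cons_succ]
          exact hi'
      · refine Fin.cases ?_ ?_
        · rw [Fin.cons_zero]
          exact hPa
        · intro j
          rw [Fin.cons_succ]
          exact hP j

end Pure

section Fin

/-- `H^0(Z, O_Z)` is a finite `A`-module for a closed subscheme `Z` of a proper `A`-scheme -/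
theorem finite_subscheme (A : Type u) [CommRing A] [IsNoetherianRing A] {X : Scheme.{u}}
    (p : X ⟶ Spec (CommRingCat.of A)) [hp : IsProper p] (I : X.IdealSheafData) :
    ((I.subschemeι ≫ p).appTop.hom.comp
      (Scheme.ΓSpecIso (CommRingCat.of A)).inv.hom).Finite := by
  letI : X.Over (Spec (CommRingCat.of A)) := ⟨p⟩
  haveI : IsProper (X ↘ Spec (CommRingCat.of A)) := hp
  haveI hfin : Module.Finite A (Coh.HH X (ClSub.quotMod I) 0) :=
    T2Main1.t2 A X (ClSub.quotMod I) (CurveDual.isCoh_quotMod I) 0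
  have hφa : ∀ a : A, ((I.subschemeι ≫ p).appTop.hom.comp
      (Scheme.ΓSpecIso (CommRingCat.of A)).inv.hom) a =
      (I.subschemeι.app ⊤).hom (show Γ(X, ⊤) from Coh.toGlobal p a) := by
    intro a
    rw [RingHom.comp_apply, Scheme.Hom.comp_appTop]
    rfl
  letI := ((I.subschemeι ≫ p).appTop.hom.comp
      (Scheme.ΓSpecIso (CommRingCat.of A)).inv.hom).toAlgebra
  show Module.Finite A ↑Γ(I.subscheme, ⊤)
  let l : Coh.HH X (ClSub.quotMod I) 0 →ₗ[A] ↑Γ(I.subscheme, ⊤) :=
    { toFun := fun x => ofQ I ⊤ (HH0.equiv X (ClSub.quotMod I) x)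
      map_add' := fun x y => by
        rw [map_add]
        rfl
      map_smul' := fun a x => by
        rw [HH0.equiv_smul_over, RingHom.id_apply, Algebra.smul_def,
          RingHom.algebraMap_toAlgebra, hφa a]
        exact ofQ_smul I ⊤ _ _ }
  refine Module.Finite.of_surjective l (fun s => ?_)
  refine ⟨(HH0.equiv X (ClSub.quotMod I)).symm (toQ I ⊤ s), ?_⟩
  show ofQ I ⊤ (HH0.equiv X (ClSub.quotMod I)
    ((HH0.equiv X (ClSub.quotMod I)).symm (toQ I ⊤ s))) = s
  rw [AddEquiv.apply_symm_apply]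
  rfl

end Fin

section Geo

set_option maxHeartbeats 800000 in
/-- a chain of divisors from `Σ Γ_i` to `Σ e_j Γ_j`, `e = m / gcd(m)`, all with `H^0` a field -/
theorem exists_field_chain (R : Type u) [CommRing R] [IsDomain R] [IsDiscreteValuationRing R]
    (C X : Scheme.{u}) (f : C ⟶ Spec (CommRingCat.of (FractionRing R)))
    (p : X ⟶ Spec (CommRingCat.of R))
    (hC : Curve.IsSmoothProperCurve (FractionRing R) C f) (hH0 : IsIso f.appTop)
    (hX : Models.IsRegularProperModel R X p C f)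
    {n : ℕ} (Γ : Fin n → ArSurf.VertComp R (Over.mk p))
    (hΓ : Models.IsComponentList R (Over.mk p) Γ)
    (L : Fin n → X.Modules)
    (hL : ∀ i, ClSub.IsInverseOf (L i) (ClSub.idealMod (Γ i).ι.ker))
    (e : Fin n → ℕ) (d : ℕ)
    (hd : (Finset.univ.gcd fun j => Models.mult R (Over.mk p) (Γ j)) = d)
    (hde : ∀ j, d * e j = Models.mult R (Over.mk p) (Γ j)) :
    ∃ (s : ℕ) (a : Fin (s + 1) → Fin n → ℕ), (a 0 = fun _ => 1) ∧ (a (Fin.last s) = e) ∧
      (∀ j : Fin s, ∃ i, a j.succ = a j.castSucc + Pi.single i 1) ∧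
      ∀ j, IsField ↑Γ((∏ i, (Γ i).ι.ker ^ a j i).subscheme, ⊤) := by
  classical
  obtain ⟨⟨hflat, hlft, hqc, g', H⟩, hp, hreg⟩ := id hX
  haveI := hlft
  haveI := hp
  haveI : Flat p := hflat
  haveI : IsLocallyNoetherian (Over.mk p).left :=
    LocallyOfFiniteType.isLocallyNoetherian (Y := Spec (CommRingCat.of R)) p
  haveI : Flat (Over.mk p).hom := hflat
  have hinj := hΓ.1
  have hcov := SpFib.cover_of_isComponentList R (Over.mk p) Γ hΓ
  have hconn : ConnectedSpace ↥(Models.specialFibre R (Over.mk p).left (Over.mk p).hom) :=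
    Groth.Agent.S2209.result R C X f p hC hH0 hX
  have hn : 0 < n := pos_of_connected R (Over.mk p) hconn Γ hcov
  have hinv : ∀ j, PicF.IsInvertible (ClSub.idealMod (Γ j).ι.ker) := fun j =>
    ArInt.isInvertible_idealMod_of_isInverseOf R (Over.mk p) _ (L j) (hL j)
  have hmne : ∀ j, Models.mult R (Over.mk p) (Γ j) ≠ 0 := fun j =>
    SpFib.mult_ne_zero R (Over.mk p) hreg Γ hinj hcov j
  have hdpos : 0 < d := by
    rcases Nat.eq_zero_or_pos d with h | h
    · exfalso
      have h1 := hde ⟨0, hn⟩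
      rw [h, zero_mul] at h1
      exact hmne _ h1.symm
    · exact h
  have hepos : ∀ j, 0 < e j := by
    intro j
    rcases Nat.eq_zero_or_pos (e j) with h | h
    · exfalso
      have h1 := hde j
      rw [h, mul_zero] at h1
      exact hmne _ h1.symm
    · exact h
  have hprod : ∀ (a : Fin n → ℕ) (i : Fin n),
      ∏ j, (Γ j).ι.ker ^ (a j + if j = i then 1 else 0) =
        (∏ j, (Γ j).ι.ker ^ a j) * (Γ i).ι.ker := by
    intro a i
    simp only [pow_add]
    rw [Finset.prod_mul_distrib]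
    congr 1
    rw [Finset.prod_eq_single i]
    · rw [if_pos rfl, pow_one]
    · intro j _ hji
      rw [if_neg hji, pow_zero]
    · intro h
      exact absurd (Finset.mem_univ i) h
  have hc : ∀ i j, ArSurf.inter R (Over.mk p) (L i) (Γ j) =
      ArSurf.inter R (Over.mk p) (L j) (Γ i) := by
    intro i j
    by_cases hij : i = j
    · subst hij
      rfl
    · exact ArInt.inter_symm R (Over.mk p) hp (Γ j) (Γ i)
        (fun e => hij (hinj e).symm) (L j) (L i) (hL j) (hL i)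
  have hoff : ∀ i j, i ≠ j → 0 ≤ ArSurf.inter R (Over.mk p) (L i) (Γ j) := by
    intro i j hij
    have hne : Set.range (Γ j).ι.base ≠ Set.range (Γ i).ι.base := fun e => hij (hinj e).symm
    exact (ArInt.inter_nonneg_and_eq_zero_iff R (Over.mk p) hp (Γ j) (Γ i).ι.ker (hinv i)
      (L i) (hL i) (ArInt.genPt_notMem R (Over.mk p) (Γ j) (Γ i) hne)).1
  have hcm : ∀ i, ∑ j, (Models.mult R (Over.mk p) (Γ j) : ℤ) *
      ArSurf.inter R (Over.mk p) (L i) (Γ j) = 0 := by
    intro i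
    rw [← SpFib.sum_mult_mul_inter_eq_zero R (Over.mk p) hp hreg Γ hinj hcov L hL i]
    exact Finset.sum_congr rfl (fun j _ => by rw [hc i j])
  have hconn' : ∀ I : Finset (Fin n), I.Nonempty → I ≠ Finset.univ →
      ∃ i ∈ I, ∃ j ∉ I, ArSurf.inter R (Over.mk p) (L i) (Γ j) ≠ 0 := by
    intro I hI hI'
    obtain ⟨i, hi, j, hj, hij⟩ :=
      exists_inter_ne_zero R (Over.mk p) hp hconn Γ hinj hcov L hL I hI hI'
    exact ⟨i, hi, j, hj, by rw [hc i j]; exact hij⟩
  have mul_le : ∀ A B : X.IdealSheafData, A * B ≤ A := fun A B U =>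
    (Ideal.mul_le_left : A.ideal U * B.ideal U ≤ A.ideal U)
  have hv := PicV.isInvertibleCl_v R (Over.mk p) Γ L hL
  have hu := PicV.isInvertibleCl_u R (Over.mk p) Γ L hL
  have hinter : ∀ (a : Fin n → ℕ) (i : Fin n),
      ArSurf.inter R (Over.mk p) (ClSub.idealMod (∏ j, (Γ j).ι.ker ^ a j)) (Γ i) =
        -(∑ j, (a j : ℤ) * ArSurf.inter R (Over.mk p) (L i) (Γ j)) := by
    intro a i
    have hB := PicV.degCl_prod_pow R (Over.mk p) hp (Γ i)
      (fun j => PicF.cl (ClSub.idealMod (Γ j).ι.ker)) hv a Finset.univ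
    have hcl := PicV.cl_idealMod_prod_pow (fun j => (Γ j).ι.ker) a hinv Finset.univ
    have h0 : ArSurf.inter R (Over.mk p) (ClSub.idealMod (∏ j, (Γ j).ι.ker ^ a j)) (Γ i) =
        PicV.degCl R (Over.mk p) hp (Γ i)
          (PicF.cl (ClSub.idealMod (∏ j, (Γ j).ι.ker ^ a j))) := rfl
    rw [h0, hcl, hB.2, ← Finset.sum_neg_distrib]
    apply Finset.sum_congr rfl
    intro j _
    have hneg : PicV.degCl R (Over.mk p) hp (Γ i)
        (PicF.cl (ClSub.idealMod (Γ j).ι.ker)) = - ArSurf.inter R (Over.mk p) (L j) (Γ i) := by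
      have h1 := PicV.degCl_mul R (Over.mk p) hp (Γ i) (hu j) (hv j)
      have h2 : (@PicF.cl (Over.mk p).left (L j)) * PicF.cl (ClSub.idealMod (Γ j).ι.ker) = 1 :=
        Groth.Agent.Lead.PicCalc.cl_eq_of_iso (hL j).some
      rw [h2, PicV.degCl_one] at h1
      have h3 : PicV.degCl R (Over.mk p) hp (Γ i) (PicF.cl (L j)) =
          ArSurf.inter R (Over.mk p) (L j) (Γ i) := rfl
      rw [h3] at h1
      linarith
    rw [hneg, hc j i]
    ring
  have hsf := SpFib.specialFibreIdeal_eq_prod R (Over.mk p) hreg Γ hinj hcov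
  have hadd : ∀ (a : Fin n → ℕ) (i : Fin n),
      (∀ j, a j + (if j = i then 1 else 0) ≤ Models.mult R (Over.mk p) (Γ j)) →
      0 < ∑ j, (a j : ℤ) * ArSurf.inter R (Over.mk p) (L i) (Γ j) →
      IsField ↑Γ((∏ j, (Γ j).ι.ker ^ a j).subscheme,
        (∏ j, (Γ j).ι.ker ^ a j).subschemeι ⁻¹ᵁ ⊤) →
      IsField ↑Γ((∏ j, (Γ j).ι.ker ^ (a j + if j = i then 1 else 0)).subscheme,
        (∏ j, (Γ j).ι.ker ^ (a j + if j = i then 1 else 0)).subschemeι ⁻¹ᵁ ⊤) := by
    intro a i ha hpos hPa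
    have hle : Models.specialFibreIdeal R (Over.mk p) ≤
        (∏ j, (Γ j).ι.ker ^ a j) * (Γ i).ι.ker := by
      rw [← hprod a i, hsf]
      have hsplit : ∀ j, (Γ j).ι.ker ^ Models.mult R (Over.mk p) (Γ j) =
          (Γ j).ι.ker ^ (a j + if j = i then 1 else 0) *
            (Γ j).ι.ker ^ (Models.mult R (Over.mk p) (Γ j) -
              (a j + if j = i then 1 else 0)) := by
        intro j
        rw [← pow_add, Nat.add_sub_cancel' (ha j)]
      rw [Finset.prod_congr rfl (fun j _ => hsplit j), Finset.prod_mul_distrib]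
      exact mul_le _ _
    have hneg : ArSurf.inter R (Over.mk p)
        (ClSub.idealMod (∏ j, (Γ j).ι.ker ^ a j)) (Γ i) < 0 := by
      rw [hinter a i]
      linarith
    rw [hprod a i]
    exact isField_step R (Over.mk p) hp (Γ i) (∏ j, (Γ j).ι.ker ^ a j)
      (SpFib.isInvertible_prod_pow (fun j => (Γ j).ι.ker) a hinv Finset.univ) hle hneg hPa
  have hele : ∀ j, e j ≤ Models.mult R (Over.mk p) (Γ j) := fun j => by
    rw [← hde j]
    exact Nat.le_mul_of_pos_left _ hdpos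
  have hstep : ∀ a : Fin n → ℕ, (∀ j, a j ≤ e j) → a ≠ e → (∃ j, a j ≠ 0) →
      IsField ↑Γ((∏ j, (Γ j).ι.ker ^ a j).subscheme,
        (∏ j, (Γ j).ι.ker ^ a j).subschemeι ⁻¹ᵁ ⊤) →
      ∃ i, a i < e i ∧
        IsField ↑Γ((∏ j, (Γ j).ι.ker ^ (a j + if j = i then 1 else 0)).subscheme,
          (∏ j, (Γ j).ι.ker ^ (a j + if j = i then 1 else 0)).subschemeι ⁻¹ᵁ ⊤) := by
    rintro a hae hane ⟨j0, hj0⟩ hPa
    obtain ⟨i, hi, hpos⟩ := exists_pos_index
      (fun i j => ArSurf.inter R (Over.mk p) (L i) (Γ j)) hc hoff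
      (fun j => Models.mult R (Over.mk p) (Γ j)) (fun j => Nat.pos_of_ne_zero (hmne j)) hcm
      hconn' e d hd hde a hae j0 hj0 hane
    refine ⟨i, hi, hadd a i ?_ hpos hPa⟩
    intro j
    have h1 : a j + (if j = i then 1 else 0) ≤ e j := by
      by_cases hji : j = i
      · rw [hji, if_pos rfl]
        exact hi
      · rw [if_neg hji]
        exact hae j
    exact h1.trans (hele j)
  have hstep1 : ∀ a : Fin n → ℕ, (∀ j, a j ≤ (fun _ : Fin n => 1) j) →
      a ≠ (fun _ : Fin n => 1) → (∃ j, a j ≠ 0) →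
      IsField ↑Γ((∏ j, (Γ j).ι.ker ^ a j).subscheme,
        (∏ j, (Γ j).ι.ker ^ a j).subschemeι ⁻¹ᵁ ⊤) →
      ∃ i, a i < (fun _ : Fin n => 1) i ∧
        IsField ↑Γ((∏ j, (Γ j).ι.ker ^ (a j + if j = i then 1 else 0)).subscheme,
          (∏ j, (Γ j).ι.ker ^ (a j + if j = i then 1 else 0)).subschemeι ⁻¹ᵁ ⊤) := by
    rintro a hae hane ⟨j0, hj0⟩ hPa
    obtain ⟨i, hi, hpos⟩ := exists_pos_index_one
      (fun i j => ArSurf.inter R (Over.mk p) (L i) (Γ j)) hc hoff hconn' a hae j0 hj0 hane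
    refine ⟨i, hi, hadd a i ?_ hpos hPa⟩
    intro j
    have h1 : a j + (if j = i then 1 else 0) ≤ 1 := by
      by_cases hji : j = i
      · rw [hji, if_pos rfl]
        exact hi
      · rw [if_neg hji]
        exact hae j
    exact h1.trans ((hepos j).trans_le (hele j))
  obtain ⟨i0⟩ : Nonempty (Fin n) := ⟨⟨0, hn⟩⟩
  have hI0 : ∏ j, (Γ j).ι.ker ^ (if j = i0 then 1 else 0) = (Γ i0).ι.ker := by
    rw [Finset.prod_eq_single i0]
    · rw [if_pos rfl, pow_one]
    · intro j _ hji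
      rw [if_neg hji, pow_zero]
    · intro h
      exact absurd (Finset.mem_univ i0) h
  have hbase : IsField ↑Γ((∏ j, (Γ j).ι.ker ^ (if j = i0 then 1 else 0)).subscheme,
      (∏ j, (Γ j).ι.ker ^ (if j = i0 then 1 else 0)).subschemeι ⁻¹ᵁ ⊤) := by
    rw [hI0]
    have hF := isField_curve R (Over.mk p) hp (Γ i0)
    have eq : Γ((Γ i0).ι.image, ⊤) ≃+* Γ((Γ i0).curve.left, ⊤) :=
      (Scheme.Γ.mapIso (asIso (Γ i0).ι.toImage).op).commRingCatIsoToRingEquiv
    exact MulEquiv.isField hF eq.toMulEquiv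
  have hone : IsField ↑Γ((∏ j, (Γ j).ι.ker ^ (fun _ : Fin n => 1) j).subscheme,
      (∏ j, (Γ j).ι.ker ^ (fun _ : Fin n => 1) j).subschemeι ⁻¹ᵁ ⊤) := by
    refine chain_induction
      (fun a : Fin n → ℕ => IsField ↑Γ((∏ j, (Γ j).ι.ker ^ a j).subscheme,
        (∏ j, (Γ j).ι.ker ^ a j).subschemeι ⁻¹ᵁ ⊤)) (fun _ => 1) hstep1
      (fun j => if j = i0 then 1 else 0) ?_ ⟨i0, ?_⟩ hbase
    · intro j
      by_cases h : j = i0
      · rw [if_pos h]
      · rw [if_neg h]
        exact Nat.zero_le _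
    · show (if i0 = i0 then 1 else 0) ≠ 0
      rw [if_pos rfl]
      exact one_ne_zero
  obtain ⟨s, a, h0, hlast, hsucc, hP⟩ := exists_chain
    (fun a : Fin n → ℕ => IsField ↑Γ((∏ j, (Γ j).ι.ker ^ a j).subscheme,
      (∏ j, (Γ j).ι.ker ^ a j).subschemeι ⁻¹ᵁ ⊤)) e hstep
    (fun _ => 1) (fun j => hepos j) ⟨i0, one_ne_zero⟩ hone
  exact ⟨s, a, h0, hlast, hsucc, fun j => hP j⟩

end Geo

end Groth.Agent.Helper1.GenF
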