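import Mathlib
import Groth.Agent.Lib.Helper1.GenF7

/-!
# `H^0` of the fundamental divisor of a connected negative definite configuration is a field
(helper1)
-/

set_option autoImplicit false
set_option backward.isDefEq.respectTransparency.types false
universe u
open CategoryTheory CategoryTheory.Limits AlgebraicGeometry TopologicalSpace Opposite IsLocalRing

namespace Groth.Agent.Helper1.GenF

open Groth.Agent.Helper1 Groth.Agent.Lib.Helper4 Groth.Agent.Helper1.ChiA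
open Groth.Agent.Helper1.QcCech

section Step2

variable (R : Type u) [CommRing R] [IsDomain R] [IsDiscreteValuationRing R]
  (X : Over (Spec (CommRingCat.of R))) (hp : IsProper X.hom) (Γ : ArSurf.VertComp R X)
  (I : X.left.IdealSheafData) (hI : PicF.IsInvertible (ClSub.idealMod I))

include hp hI in
/-- variant of `isField_step` with the Artinian property as a hypothesis -/
theorem isField_step_of_artinian
    (hneg : ArSurf.inter R X (ClSub.idealMod I) Γ < 0)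
    (hF : IsField ↑Γ(I.subscheme, I.subschemeι ⁻¹ᵁ ⊤))
    (hArt : IsArtinian R (Coh.HH X.left (ClSub.quotMod (I * Γ.ι.ker)) 0)) :
    IsField ↑Γ((I * Γ.ι.ker).subscheme, (I * Γ.ι.ker).subschemeι ⁻¹ᵁ ⊤) := by
  haveI : IsProper (Γ.curve.left ↘ Spec (CommRingCat.of (IsLocalRing.ResidueField R))) :=
    ArInt.isProper_curve R X hp Γ
  have hsub : Subsingleton (Coh.HH Γ.curve.left
      ((Scheme.Modules.pullback Γ.ι).obj (ClSub.idealMod I)) 0) :=
    subsingleton_H0_of_deg_neg (IsLocalRing.ResidueField R) Γ.curve.left Γ.dim_eq _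
      (PullGen.isInvertible_pullback Γ.ι hI) hneg
  -- the multiplicative injective map to the field
  have hρ0 : ofQ I ⊤ ((r I Γ.ι.ker).app ⊤ (toQ (I * Γ.ι.ker) ⊤ 0)) = 0 := by
    rw [toQ_zero, map_zero]
    rfl
  have hρmul : ∀ s t : Γ((I * Γ.ι.ker).subscheme, (I * Γ.ι.ker).subschemeι ⁻¹ᵁ ⊤),
      ofQ I ⊤ ((r I Γ.ι.ker).app ⊤ (toQ (I * Γ.ι.ker) ⊤ (s * t))) =
        ofQ I ⊤ ((r I Γ.ι.ker).app ⊤ (toQ (I * Γ.ι.ker) ⊤ s)) *
          ofQ I ⊤ ((r I Γ.ι.ker).app ⊤ (toQ (I * Γ.ι.ker) ⊤ t)) := fun s t =>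
    r_mul I Γ.ι.ker ⊤ (toQ _ ⊤ s) (toQ _ ⊤ t)
  have hρinj : ∀ s : Γ((I * Γ.ι.ker).subscheme, (I * Γ.ι.ker).subschemeι ⁻¹ᵁ ⊤),
      ofQ I ⊤ ((r I Γ.ι.ker).app ⊤ (toQ (I * Γ.ι.ker) ⊤ s)) = 0 → s = 0 := fun s hs =>
    r_top_injective R X hp Γ I hI hsub (toQ _ ⊤ s) hs
  have hρ1 := r_one I Γ.ι.ker ⊤
  -- zero divisors
  have hnzd : ∀ s t : Γ((I * Γ.ι.ker).subscheme, (I * Γ.ι.ker).subschemeι ⁻¹ᵁ ⊤),
      s * t = 0 → s ≠ 0 → t = 0 := by
    intro s t hst hs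
    apply hρinj
    have h1 := hρmul s t
    rw [hst, hρ0] at h1
    obtain ⟨v, hv⟩ := hF.mul_inv_cancel (fun h => hs (hρinj s h))
    calc ofQ I ⊤ ((r I Γ.ι.ker).app ⊤ (toQ (I * Γ.ι.ker) ⊤ t))
        = (v * ofQ I ⊤ ((r I Γ.ι.ker).app ⊤ (toQ (I * Γ.ι.ker) ⊤ s))) *
            ofQ I ⊤ ((r I Γ.ι.ker).app ⊤ (toQ (I * Γ.ι.ker) ⊤ t)) := by
          rw [mul_comm v, hv, one_mul]
      _ = 0 := by rw [mul_assoc, ← h1, mul_zero]
  -- artinian
  haveI := hArt
  have hE : ∀ (c : R) (x : Coh.HH X.left (ClSub.quotMod (I * Γ.ι.ker)) 0),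
      ofQ (I * Γ.ι.ker) ⊤ (HH0.equiv X.left (ClSub.quotMod (I * Γ.ι.ker)) (c • x)) =
        ((I * Γ.ι.ker).subschemeι.app ⊤).hom (Coh.toGlobal X.hom c) *
          ofQ (I * Γ.ι.ker) ⊤ (HH0.equiv X.left (ClSub.quotMod (I * Γ.ι.ker)) x) := by
    intro c x
    rw [HH0.equiv_smul_over]
    rfl
  have hunit : ∀ s : Γ((I * Γ.ι.ker).subscheme, (I * Γ.ι.ker).subschemeι ⁻¹ᵁ ⊤),
      s ≠ 0 → ∃ b, s * b = 1 := by
    intro s hs
    let mulS : Γ(ClSub.quotMod (I * Γ.ι.ker), ⊤) →+ Γ(ClSub.quotMod (I * Γ.ι.ker), ⊤) :=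
      { toFun := fun m => toQ (I * Γ.ι.ker) ⊤ (s * ofQ (I * Γ.ι.ker) ⊤ m)
        map_zero' := by
          show toQ (I * Γ.ι.ker) ⊤ (s * 0) = 0
          rw [mul_zero]
          rfl
        map_add' := fun m m' => by
          show toQ (I * Γ.ι.ker) ⊤ (s * (ofQ (I * Γ.ι.ker) ⊤ m + ofQ (I * Γ.ι.ker) ⊤ m')) = _
          rw [mul_add]
          rfl }
    let addf : Coh.HH X.left (ClSub.quotMod (I * Γ.ι.ker)) 0 →+
        Coh.HH X.left (ClSub.quotMod (I * Γ.ι.ker)) 0 :=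
      (HH0.equiv X.left (ClSub.quotMod (I * Γ.ι.ker))).symm.toAddMonoidHom.comp
        (mulS.comp (HH0.equiv X.left (ClSub.quotMod (I * Γ.ι.ker))).toAddMonoidHom)
    have haddf : ∀ x, addf x = (HH0.equiv X.left (ClSub.quotMod (I * Γ.ι.ker))).symm
        (toQ (I * Γ.ι.ker) ⊤ (s * ofQ (I * Γ.ι.ker) ⊤
          (HH0.equiv X.left (ClSub.quotMod (I * Γ.ι.ker)) x))) := fun x => rfl
    let f : Coh.HH X.left (ClSub.quotMod (I * Γ.ι.ker)) 0 →ₗ[R]
        Coh.HH X.left (ClSub.quotMod (I * Γ.ι.ker)) 0 :=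
      { toFun := addf
        map_add' := addf.map_add
        map_smul' := fun c x => by
          show addf (c • x) = c • addf x
          apply (HH0.equiv X.left (ClSub.quotMod (I * Γ.ι.ker))).injective
          apply (show Function.Injective (ofQ (I * Γ.ι.ker) ⊤) from fun _ _ h => h)
          have h1 := hE c x
          have h2 := hE c (addf x)
          rw [haddf x, AddEquiv.apply_symm_apply] at h2
          rw [haddf (c • x), AddEquiv.apply_symm_apply]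
          refine Eq.trans ?_ h2.symm
          show s * ofQ (I * Γ.ι.ker) ⊤
              (HH0.equiv X.left (ClSub.quotMod (I * Γ.ι.ker)) (c • x)) =
            ((I * Γ.ι.ker).subschemeι.app ⊤).hom (Coh.toGlobal X.hom c) *
              (s * ofQ (I * Γ.ι.ker) ⊤ (HH0.equiv X.left (ClSub.quotMod (I * Γ.ι.ker)) x))
          exact (congrArg (fun z => s * z) h1).trans (mul_left_comm _ _ _) }
    have hf : ∀ x, f x = (HH0.equiv X.left (ClSub.quotMod (I * Γ.ι.ker))).symm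
        (toQ (I * Γ.ι.ker) ⊤ (s * ofQ (I * Γ.ι.ker) ⊤
          (HH0.equiv X.left (ClSub.quotMod (I * Γ.ι.ker)) x))) := fun x => rfl
    have hfinj : Function.Injective f := by
      intro x y hxy
      rw [hf x, hf y] at hxy
      have h1 : s * ofQ (I * Γ.ι.ker) ⊤ (HH0.equiv X.left (ClSub.quotMod (I * Γ.ι.ker)) x) =
          s * ofQ (I * Γ.ι.ker) ⊤ (HH0.equiv X.left (ClSub.quotMod (I * Γ.ι.ker)) y) :=
        (HH0.equiv X.left (ClSub.quotMod (I * Γ.ι.ker))).symm.injective hxy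
      have h2 : s * (ofQ (I * Γ.ι.ker) ⊤ (HH0.equiv X.left (ClSub.quotMod (I * Γ.ι.ker)) x) -
          ofQ (I * Γ.ι.ker) ⊤ (HH0.equiv X.left (ClSub.quotMod (I * Γ.ι.ker)) y)) = 0 := by
        rw [mul_sub, h1, sub_self]
      have h3 := hnzd _ _ h2 hs
      have h4 : ofQ (I * Γ.ι.ker) ⊤ (HH0.equiv X.left (ClSub.quotMod (I * Γ.ι.ker)) x) =
          ofQ (I * Γ.ι.ker) ⊤ (HH0.equiv X.left (ClSub.quotMod (I * Γ.ι.ker)) y) :=
        sub_eq_zero.1 h3
      exact (HH0.equiv X.left (ClSub.quotMod (I * Γ.ι.ker))).injective h4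
    obtain ⟨x, hx⟩ := IsArtinian.surjective_of_injective_endomorphism f hfinj
      ((HH0.equiv X.left (ClSub.quotMod (I * Γ.ι.ker))).symm (toQ (I * Γ.ι.ker) ⊤ 1))
    refine ⟨ofQ (I * Γ.ι.ker) ⊤ (HH0.equiv X.left (ClSub.quotMod (I * Γ.ι.ker)) x), ?_⟩
    rw [hf x] at hx
    exact (HH0.equiv X.left (ClSub.quotMod (I * Γ.ι.ker))).symm.injective hx
  refine ⟨⟨0, 1, ?_⟩, mul_comm, fun {a} ha => hunit a ha⟩
  intro h01
  obtain ⟨u, v, huv⟩ := hF.exists_pair_ne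
  apply huv
  have h1 : (1 : Γ(I.subscheme, I.subschemeι ⁻¹ᵁ ⊤)) = 0 := by
    rw [← hρ1, ← h01]
    exact hρ0
  calc u = u * 1 := (mul_one u).symm
    _ = v * 1 := by rw [h1, mul_zero, mul_zero]
    _ = v := mul_one v


include hp hI in
theorem isArtinian_step
    (hsub : Subsingleton (Coh.HH Γ.curve.left
      ((Scheme.Modules.pullback Γ.ι).obj (ClSub.idealMod I)) 0))
    (hArt : IsArtinian R (Coh.HH X.left (ClSub.quotMod I) 0)) :
    IsArtinian R (Coh.HH X.left (ClSub.quotMod (I * Γ.ι.ker)) 0) := by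
  haveI := hArt
  refine isArtinian_of_injective (Canon.HHlin R (r I Γ.ι.ker) 0) ?_
  rw [injective_iff_map_eq_zero]
  intro x hx
  have h1 : (r I Γ.ι.ker).app ⊤ (HH0.equiv X.left (ClSub.quotMod (I * Γ.ι.ker)) x) = 0 := by
    rw [← KosC1.HH0_natural R (r I Γ.ι.ker) x, hx, map_zero]
    rfl
  have h2 := r_top_injective R X hp Γ I hI hsub _ h1
  exact (HH0.equiv X.left (ClSub.quotMod (I * Γ.ι.ker))).injective
    (h2.trans (map_zero _).symm)

include hp hI in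
theorem isField_isArtinian_step
    (hneg : ArSurf.inter R X (ClSub.idealMod I) Γ < 0)
    (hF : IsField ↑Γ(I.subscheme, I.subschemeι ⁻¹ᵁ ⊤))
    (hArt : IsArtinian R (Coh.HH X.left (ClSub.quotMod I) 0)) :
    IsField ↑Γ((I * Γ.ι.ker).subscheme, (I * Γ.ι.ker).subschemeι ⁻¹ᵁ ⊤) ∧
      IsArtinian R (Coh.HH X.left (ClSub.quotMod (I * Γ.ι.ker)) 0) := by
  haveI : IsProper (Γ.curve.left ↘ Spec (CommRingCat.of (IsLocalRing.ResidueField R))) :=
    ArInt.isProper_curve R X hp Γ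
  have hsub : Subsingleton (Coh.HH Γ.curve.left
      ((Scheme.Modules.pullback Γ.ι).obj (ClSub.idealMod I)) 0) :=
    subsingleton_H0_of_deg_neg (IsLocalRing.ResidueField R) Γ.curve.left Γ.dim_eq _
      (PullGen.isInvertible_pullback Γ.ι hI) hneg
  have hA := isArtinian_step R X hp Γ I hI hsub hArt
  exact ⟨isField_step_of_artinian R X hp Γ I hI hneg hF hA, hA⟩

/-- a vertical prime divisor lies in the closed fibre -/
theorem specialFibreIdeal_le_ker : Models.specialFibreIdeal R X ≤ Γ.ι.ker := by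
  obtain ⟨ϖ, hϖ⟩ := IsDiscreteValuationRing.exists_irreducible R
  intro U
  rw [SpFib.specialFibreIdeal_ideal R X ϖ hϖ U, Ideal.span_le]
  rintro _ rfl
  show SpFib.sec R X ϖ U.1 ∈ Γ.ι.ker.ideal U
  rw [Scheme.Hom.ker_apply, RingHom.mem_ker]
  have hnat := Γ.ι.naturality (homOfLE (le_top : U.1 ≤ ⊤)).op
  have h := congrArg (fun g => g.hom (show Γ(X.left, ⊤) from Coh.toGlobal X.hom ϖ)) hnat
  simp only [CommRingCat.hom_comp, RingHom.comp_apply] at h
  refine h.trans ?_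
  have h0 : (Γ.ι.app ⊤).hom (show Γ(X.left, ⊤) from Coh.toGlobal X.hom ϖ) = 0 := by
    have h1 : (Γ.ι.appTop).hom (show Γ(X.left, ⊤) from Coh.toGlobal X.hom ϖ) =
        Coh.toGlobal (Γ.ι ≫ X.hom) ϖ := by
      show _ = (Γ.ι ≫ X.hom).appTop.hom _
      rw [Scheme.Hom.comp_appTop]
      rfl
    refine h1.trans ?_
    rw [Γ.w, toGlobal_comp_specMap,
      (IsLocalRing.residue_eq_zero_iff ϖ).2 ((IsLocalRing.mem_maximalIdeal ϖ).2 hϖ.not_isUnit),
      map_zero]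
    rfl
  rw [h0, map_zero]

include hp in
theorem isArtinian_ker : IsArtinian R (Coh.HH X.left (ClSub.quotMod Γ.ι.ker) 0) := by
  have hlen := ChiA.length_quotMod_ne_top R X hp Γ.ι.ker (specialFibreIdeal_le_ker R X Γ) 0
  exact (isFiniteLength_iff_isNoetherian_isArtinian.1 (Module.length_ne_top_iff.1 hlen)).2

include hp in
theorem isField_ker : IsField ↑Γ(Γ.ι.ker.subscheme, Γ.ι.ker.subschemeι ⁻¹ᵁ ⊤) := by
  have hF := isField_curve R X hp Γ
  have eq : Γ(Γ.ι.image, ⊤) ≃+* Γ(Γ.curve.left, ⊤) :=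
    (Scheme.Γ.mapIso (asIso Γ.ι.toImage).op).commRingCatIsoToRingEquiv
  exact MulEquiv.isField hF eq.toMulEquiv

end Step2

section Pure

/-- a divisor `0 < D_a < Z` below the fundamental divisor `Z` meets some `Γ_i` positively, and
then `D_a + Γ_i ≤ Z` -/
theorem exists_pos_index_fund {r : ℕ} (c : Fin r → Fin r → ℤ) (hc : ∀ i j, c i j = c j i)
    (hoff : ∀ i j, i ≠ j → 0 ≤ c i j)
    (hconn : ∀ I : Finset (Fin r), I.Nonempty → I ≠ Finset.univ →
      ∃ i ∈ I, ∃ j ∉ I, c i j ≠ 0)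
    (z : Fin r → ℕ) (hz : ∀ i, ∑ j, (z j : ℤ) * c i j ≤ 0)
    (hmin : ∀ z' : Fin r → ℕ, (∀ i, 1 ≤ z' i) → (∀ i, ∑ j, (z' j : ℤ) * c i j ≤ 0) →
      ∀ i, z i ≤ z' i)
    (a : Fin r → ℕ) (hae : ∀ j, a j ≤ z j) (j0 : Fin r) (ha0 : a j0 ≠ 0) (hane : a ≠ z) :
    ∃ i, a i < z i ∧ 0 < ∑ j, (a j : ℤ) * c i j := by
  classical
  have h1 : ∃ i, 0 < ∑ j, (a j : ℤ) * c i j := by
    by_contra hcon
    push Not at hcon
    have hsupp : ∀ i, a i ≠ 0 := by
      by_contra hex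
      push Not at hex
      obtain ⟨I, hI⟩ : ∃ I : Finset (Fin r), ∀ j, j ∈ I ↔ a j ≠ 0 :=
        ⟨Finset.univ.filter (fun j => a j ≠ 0), fun j => by simp⟩
      obtain ⟨i1, hi1⟩ := hex
      have hInon : I.Nonempty := ⟨j0, (hI j0).2 ha0⟩
      have hIne : I ≠ Finset.univ := fun h => by
        have h' : i1 ∈ I := by
          rw [h]
          exact Finset.mem_univ _
        exact (hI i1).1 h' hi1
      obtain ⟨j, hj, i, hi, hji⟩ := hconn I hInon hIne
      have haj : a j ≠ 0 := (hI j).1 hj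
      have hai : a i = 0 := by
        by_contra h
        exact hi ((hI i).2 h)
      have hij : i ≠ j := fun h => hi (h ▸ hj)
      have hcij : 0 < c i j :=
        lt_of_le_of_ne (hoff i j hij) (by rw [hc i j]; exact hji.symm)
      have hpos : 0 < ∑ l, (a l : ℤ) * c i l := by
        calc (0 : ℤ) < (a j : ℤ) * c i j :=
              mul_pos (by exact_mod_cast Nat.pos_of_ne_zero haj) hcij
          _ ≤ ∑ l, (a l : ℤ) * c i l := by
              apply Finset.single_le_sum (f := fun l => (a l : ℤ) * c i l) (fun l _ => ?_)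
                (Finset.mem_univ j)
              by_cases hl : l = i
              · rw [hl, hai]
                simp
              · exact mul_nonneg (Int.natCast_nonneg _) (hoff i l (Ne.symm hl))
      exact absurd hpos (not_lt.2 (hcon i))
    have hge : ∀ i, z i ≤ a i :=
      hmin a (fun i => Nat.one_le_iff_ne_zero.2 (hsupp i)) hcon
    exact hane (funext fun i => le_antisymm (hae i) (hge i))
  obtain ⟨i, hi⟩ := h1
  refine ⟨i, ?_, hi⟩
  by_contra hnot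
  have hai : a i = z i := le_antisymm (hae i) (not_lt.1 hnot)
  have h2 : ∑ j, (z j : ℤ) * c i j =
      ∑ j, (a j : ℤ) * c i j + ∑ j, ((z j : ℤ) - (a j : ℤ)) * c i j := by
    rw [← Finset.sum_add_distrib]
    exact Finset.sum_congr rfl (fun j _ => by ring)
  have h3 : 0 ≤ ∑ j, ((z j : ℤ) - (a j : ℤ)) * c i j := by
    apply Finset.sum_nonneg
    intro j _
    by_cases hj : j = i
    · rw [hj, hai]
      simp
    · exact mul_nonneg (sub_nonneg.2 (by exact_mod_cast hae j)) (hoff i j (Ne.symm hj))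
  have h4 := hz i
  linarith

end Pure

section Main

variable (R : Type u) [CommRing R] [IsDomain R] [IsDiscreteValuationRing R]
  (X : Over (Spec (CommRingCat.of R))) [IsLocallyNoetherian X.left]

/-- connectedness of the dual graph of a connected configuration of vertical prime divisors -/
theorem exists_inter_ne_zero_of_isConnected (hp : IsProper X.hom)
    {n : ℕ} (Γ : Fin n → ArSurf.VertComp R X)
    (hinj : Function.Injective fun i => Set.range (Γ i).ι.base)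
    (hconn : _root_.IsConnected (⋃ i, Set.range (Γ i).ι.base))
    (L : Fin n → X.left.Modules)
    (hL : ∀ j, ClSub.IsInverseOf (L j) (ClSub.idealMod (Γ j).ι.ker))
    (I : Finset (Fin n)) (hI : I.Nonempty) (hI' : I ≠ Finset.univ) :
    ∃ i ∈ I, ∃ j ∉ I, ArSurf.inter R X (L j) (Γ i) ≠ 0 := by
  classical
  by_contra hcon
  have hcon' : ∀ i ∈ I, ∀ j, j ∉ I → ArSurf.inter R X (L j) (Γ i) = 0 := by
    intro i hi j hj
    by_contra h
    exact hcon ⟨i, hi, j, hj, h⟩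
  have hdisj : ∀ i ∈ I, ∀ j, j ∉ I →
      Disjoint (Set.range (Γ i).ι.base) (Set.range (Γ j).ι.base) := by
    intro i hi j hj
    have hne : Set.range (Γ i).ι.base ≠ Set.range (Γ j).ι.base := fun e => hj ((hinj e) ▸ hi)
    have h := (ArInt.inter_nonneg_and_eq_zero_iff R X hp (Γ i) (Γ j).ι.ker
      (ArInt.isInvertible_idealMod_of_isInverseOf R X _ (L j) (hL j)) (L j) (hL j)
      (ArInt.genPt_notMem R X (Γ i) (Γ j) hne)).2.1 (hcon' i hi j hj)
    rwa [Scheme.Hom.support_ker, (Γ j).ι.isClosedEmbedding.isClosed_range.closure_eq] at h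
  have hA : IsClosed (⋃ i ∈ I, Set.range (Γ i).ι.base) :=
    isClosed_biUnion_finset (fun i _ => (Γ i).ι.isClosedEmbedding.isClosed_range)
  have hB : IsClosed (⋃ j ∈ Iᶜ, Set.range (Γ j).ι.base) :=
    isClosed_biUnion_finset (fun j _ => (Γ j).ι.isClosedEmbedding.isClosed_range)
  have hcover : (⋃ i, Set.range (Γ i).ι.base) ⊆
      (⋃ i ∈ I, Set.range (Γ i).ι.base) ∪ (⋃ j ∈ Iᶜ, Set.range (Γ j).ι.base) := by
    intro x hx
    obtain ⟨i, hi⟩ := Set.mem_iUnion.1 hx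
    by_cases hiI : i ∈ I
    · exact Or.inl (Set.mem_biUnion hiI hi)
    · exact Or.inr (Set.mem_biUnion (Finset.mem_compl.2 hiI) hi)
  obtain ⟨i₀, hi₀⟩ := hI
  obtain ⟨j₀, hj₀⟩ : ∃ j, j ∉ I := by
    by_contra h
    apply hI'
    rw [Finset.eq_univ_iff_forall]
    intro j
    by_contra hj
    exact h ⟨j, hj⟩
  obtain ⟨c₁⟩ : Nonempty (Γ i₀).curve.left := inferInstance
  obtain ⟨c₂⟩ : Nonempty (Γ j₀).curve.left := inferInstance
  have hpre := isPreconnected_closed_iff.1 hconn.isPreconnected _ _ hA hB hcover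
    ⟨(Γ i₀).ι.base c₁, Set.mem_iUnion.2 ⟨i₀, ⟨c₁, rfl⟩⟩, Set.mem_biUnion hi₀ ⟨c₁, rfl⟩⟩
    ⟨(Γ j₀).ι.base c₂, Set.mem_iUnion.2 ⟨j₀, ⟨c₂, rfl⟩⟩,
      Set.mem_biUnion (Finset.mem_compl.2 hj₀) ⟨c₂, rfl⟩⟩
  obtain ⟨s, -, hsA, hsB⟩ := hpre
  obtain ⟨i, hiI, hi⟩ := Set.mem_iUnion₂.1 hsA
  obtain ⟨j, hjI, hj⟩ := Set.mem_iUnion₂.1 hsB
  exact Set.disjoint_left.1 (hdisj i hiI j (Finset.mem_compl.1 hjI)) hi hj

set_option maxHeartbeats 800000 in
/-- **`H^0` of the fundamental divisor is a field** -/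
theorem isField_fund (hp : IsProper X.hom) [Flat X.hom]
    {n : ℕ} (Γ : Fin n → ArSurf.VertComp R X)
    (hinj : Function.Injective fun i => Set.range (Γ i).ι.base)
    (hconn : _root_.IsConnected (⋃ i, Set.range (Γ i).ι.base))
    (L : Fin n → X.left.Modules)
    (hL : ∀ j, ClSub.IsInverseOf (L j) (ClSub.idealMod (Γ j).ι.ker))
    (z : Fin n → ℕ) (hz1 : ∀ i, 1 ≤ z i)
    (hz : ∀ i, ∑ j, (z j : ℤ) * ArSurf.inter R X (L j) (Γ i) ≤ 0)
    (hmin : ∀ z' : Fin n → ℕ, (∀ i, 1 ≤ z' i) →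
      (∀ i, ∑ j, (z' j : ℤ) * ArSurf.inter R X (L j) (Γ i) ≤ 0) → ∀ i, z i ≤ z' i) :
    IsField ↑Γ((∏ j, (Γ j).ι.ker ^ z j).subscheme, ⊤) := by
  classical
  have hinv : ∀ j, PicF.IsInvertible (ClSub.idealMod (Γ j).ι.ker) := fun j =>
    ArInt.isInvertible_idealMod_of_isInverseOf R X _ (L j) (hL j)
  have hprod : ∀ (a : Fin n → ℕ) (i : Fin n),
      ∏ j, (Γ j).ι.ker ^ (a j + if j = i then 1 else 0) =
        (∏ j, (Γ j).ι.ker ^ a j) * (Γ i).ι.ker := by
    intro a i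
    simp only [pow_add]
    rw [Finset.prod_mul_distrib]
    congr 1
    rw [Finset.prod_eq_single i]
    · rw [if_pos rfl, pow_one]
    · intro j _ hji
      rw [if_neg hji, pow_zero]
    · intro h
      exact absurd (Finset.mem_univ i) h
  have hc : ∀ i j, ArSurf.inter R X (L j) (Γ i) = ArSurf.inter R X (L i) (Γ j) := by
    intro i j
    by_cases hij : i = j
    · subst hij
      rfl
    · exact ArInt.inter_symm R X hp (Γ i) (Γ j) (fun e => hij (hinj e)) (L i) (L j)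
        (hL i) (hL j)
  have hoff : ∀ i j, i ≠ j → 0 ≤ ArSurf.inter R X (L j) (Γ i) := by
    intro i j hij
    have hne : Set.range (Γ i).ι.base ≠ Set.range (Γ j).ι.base := fun e => hij (hinj e)
    exact (ArInt.inter_nonneg_and_eq_zero_iff R X hp (Γ i) (Γ j).ι.ker (hinv j)
      (L j) (hL j) (ArInt.genPt_notMem R X (Γ i) (Γ j) hne)).1
  have hconn' : ∀ I : Finset (Fin n), I.Nonempty → I ≠ Finset.univ →
      ∃ i ∈ I, ∃ j ∉ I, ArSurf.inter R X (L j) (Γ i) ≠ 0 := fun I hI hI' =>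
    exists_inter_ne_zero_of_isConnected R X hp Γ hinj hconn L hL I hI hI'
  have hv := PicV.isInvertibleCl_v R X Γ L hL
  have hu := PicV.isInvertibleCl_u R X Γ L hL
  have hinter : ∀ (a : Fin n → ℕ) (i : Fin n),
      ArSurf.inter R X (ClSub.idealMod (∏ j, (Γ j).ι.ker ^ a j)) (Γ i) =
        -(∑ j, (a j : ℤ) * ArSurf.inter R X (L j) (Γ i)) := by
    intro a i
    have hB := PicV.degCl_prod_pow R X hp (Γ i)
      (fun j => PicF.cl (ClSub.idealMod (Γ j).ι.ker)) hv a Finset.univ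
    have hcl := PicV.cl_idealMod_prod_pow (fun j => (Γ j).ι.ker) a hinv Finset.univ
    have h0 : ArSurf.inter R X (ClSub.idealMod (∏ j, (Γ j).ι.ker ^ a j)) (Γ i) =
        PicV.degCl R X hp (Γ i)
          (PicF.cl (ClSub.idealMod (∏ j, (Γ j).ι.ker ^ a j))) := rfl
    rw [h0, hcl, hB.2, ← Finset.sum_neg_distrib]
    apply Finset.sum_congr rfl
    intro j _
    have hneg : PicV.degCl R X hp (Γ i)
        (PicF.cl (ClSub.idealMod (Γ j).ι.ker)) = - ArSurf.inter R X (L j) (Γ i) := by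
      have h1 := PicV.degCl_mul R X hp (Γ i) (hu j) (hv j)
      have h2 : (@PicF.cl X.left (L j)) * PicF.cl (ClSub.idealMod (Γ j).ι.ker) = 1 :=
        Groth.Agent.Lead.PicCalc.cl_eq_of_iso (hL j).some
      rw [h2, PicV.degCl_one] at h1
      have h3 : PicV.degCl R X hp (Γ i) (PicF.cl (L j)) = ArSurf.inter R X (L j) (Γ i) := rfl
      rw [h3] at h1
      linarith
    rw [hneg]
    ring
  have hadd : ∀ (a : Fin n → ℕ) (i : Fin n),
      0 < ∑ j, (a j : ℤ) * ArSurf.inter R X (L j) (Γ i) →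
      (IsField ↑Γ((∏ j, (Γ j).ι.ker ^ a j).subscheme,
          (∏ j, (Γ j).ι.ker ^ a j).subschemeι ⁻¹ᵁ ⊤) ∧
        IsArtinian R (Coh.HH X.left (ClSub.quotMod (∏ j, (Γ j).ι.ker ^ a j)) 0)) →
      (IsField ↑Γ((∏ j, (Γ j).ι.ker ^ (a j + if j = i then 1 else 0)).subscheme,
          (∏ j, (Γ j).ι.ker ^ (a j + if j = i then 1 else 0)).subschemeι ⁻¹ᵁ ⊤) ∧
        IsArtinian R (Coh.HH X.left
          (ClSub.quotMod (∏ j, (Γ j).ι.ker ^ (a j + if j = i then 1 else 0))) 0)) := by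
    intro a i hpos hPa
    have hneg : ArSurf.inter R X (ClSub.idealMod (∏ j, (Γ j).ι.ker ^ a j)) (Γ i) < 0 := by
      rw [hinter a i]
      linarith
    rw [hprod a i]
    exact isField_isArtinian_step R X hp (Γ i) (∏ j, (Γ j).ι.ker ^ a j)
      (SpFib.isInvertible_prod_pow (fun j => (Γ j).ι.ker) a hinv Finset.univ) hneg hPa.1 hPa.2
  have hstep : ∀ a : Fin n → ℕ, (∀ j, a j ≤ z j) → a ≠ z → (∃ j, a j ≠ 0) →
      (IsField ↑Γ((∏ j, (Γ j).ι.ker ^ a j).subscheme,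
          (∏ j, (Γ j).ι.ker ^ a j).subschemeι ⁻¹ᵁ ⊤) ∧
        IsArtinian R (Coh.HH X.left (ClSub.quotMod (∏ j, (Γ j).ι.ker ^ a j)) 0)) →
      ∃ i, a i < z i ∧
        (IsField ↑Γ((∏ j, (Γ j).ι.ker ^ (a j + if j = i then 1 else 0)).subscheme,
            (∏ j, (Γ j).ι.ker ^ (a j + if j = i then 1 else 0)).subschemeι ⁻¹ᵁ ⊤) ∧
          IsArtinian R (Coh.HH X.left
            (ClSub.quotMod (∏ j, (Γ j).ι.ker ^ (a j + if j = i then 1 else 0))) 0)) := by
    rintro a hae hane ⟨j0, hj0⟩ hPa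
    obtain ⟨i, hi, hpos⟩ := exists_pos_index_fund
      (fun i j => ArSurf.inter R X (L j) (Γ i)) hc hoff hconn' z hz hmin a hae j0 hj0 hane
    exact ⟨i, hi, hadd a i hpos hPa⟩
  obtain ⟨i0⟩ : Nonempty (Fin n) := by
    obtain ⟨x, hx⟩ := hconn.nonempty
    obtain ⟨i, -⟩ := Set.mem_iUnion.1 hx
    exact ⟨i⟩
  have hI0 : ∏ j, (Γ j).ι.ker ^ (if j = i0 then 1 else 0) = (Γ i0).ι.ker := by
    rw [Finset.prod_eq_single i0]
    · rw [if_pos rfl, pow_one]
    · intro j _ hji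
      rw [if_neg hji, pow_zero]
    · intro h
      exact absurd (Finset.mem_univ i0) h
  have hbase : IsField ↑Γ((∏ j, (Γ j).ι.ker ^ (if j = i0 then 1 else 0)).subscheme,
        (∏ j, (Γ j).ι.ker ^ (if j = i0 then 1 else 0)).subschemeι ⁻¹ᵁ ⊤) ∧
      IsArtinian R (Coh.HH X.left
        (ClSub.quotMod (∏ j, (Γ j).ι.ker ^ (if j = i0 then 1 else 0))) 0) := by
    rw [hI0]
    exact ⟨isField_ker R X hp (Γ i0), isArtinian_ker R X hp (Γ i0)⟩
  have key := chain_induction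
    (fun a : Fin n → ℕ => IsField ↑Γ((∏ j, (Γ j).ι.ker ^ a j).subscheme,
        (∏ j, (Γ j).ι.ker ^ a j).subschemeι ⁻¹ᵁ ⊤) ∧
      IsArtinian R (Coh.HH X.left (ClSub.quotMod (∏ j, (Γ j).ι.ker ^ a j)) 0)) z hstep
    (fun j => if j = i0 then 1 else 0) ?_ ⟨i0, ?_⟩ hbase
  · exact key.1
  · intro j
    by_cases h : j = i0
    · rw [if_pos h]
      exact hz1 j
    · rw [if_neg h]
      exact Nat.zero_le _
  · show (if i0 = i0 then 1 else 0) ≠ 0
    rw [if_pos rfl]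
    exact one_ne_zero

end Main

end Groth.Agent.Helper1.GenF
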