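import Mathlib
import Groth.Agent.Lib.Helper1.SpFib4
import Groth.Agent.Lib.Helper1.GenF3

/-!
# The ideal sheaf of the reduced closed fibre of a regular model is the product of the ideal
sheaves of the components (helper1)
-/

set_option autoImplicit false
set_option backward.isDefEq.respectTransparency.types false
universe u
open CategoryTheory CategoryTheory.Limits AlgebraicGeometry TopologicalSpace Opposite IsLocalRing

namespace Groth.Agent.Helper1.RedF

open Groth.Agent.Helper1 Groth.Agent.Helper1.SpFib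

section Alg

theorem prod_dvd_of_forall_dvd {B : Type*} [CommRing B] [IsDomain B] {ι : Type*}
    [DecidableEq ι] (q : ι → B) (S : Finset ι)
    (hq : ∀ j ∈ S, Prime (q j)) (hne : ∀ j ∈ S, ∀ j' ∈ S, j ≠ j' → ¬ q j ∣ q j')
    (x : B) (hx : ∀ j ∈ S, q j ∣ x) : ∏ j ∈ S, q j ∣ x := by
  induction S using Finset.induction_on generalizing x with
  | empty => simp
  | insert a S ha ih =>
    rw [Finset.prod_insert ha]
    obtain ⟨y, rfl⟩ := hx a (Finset.mem_insert_self a S)
    apply mul_dvd_mul_left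
    apply ih (fun j hj => hq j (Finset.mem_insert_of_mem hj))
      (fun j hj j' hj' => hne j (Finset.mem_insert_of_mem hj) j' (Finset.mem_insert_of_mem hj'))
    intro j hj
    have h1 := hx j (Finset.mem_insert_of_mem hj)
    rcases (hq j (Finset.mem_insert_of_mem hj)).dvd_or_dvd h1 with h | h
    · exact absurd h (hne j (Finset.mem_insert_of_mem hj) a (Finset.mem_insert_self a S)
        (fun e => ha (e ▸ hj)))
    · exact h

variable {A : Type u} [CommRing A]

/-- distinct height one primes in a locally factorial ring: the intersection is the product -/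
theorem iInf_le_prod (ϖ : A) (hϖ : ϖ ∈ nonZeroDivisors A) {n : ℕ} (P : Fin n → Ideal A)
    (hP : ∀ j, ϖ ∈ P j)
    (hPtop : ∀ j, ¬ (P j).IsPrime → P j = ⊤)
    (hkey : ∀ j j', (P j).IsPrime → (P j').IsPrime → P j' ≤ P j → j' = j)
    (hcov : ∀ 𝔮 : Ideal A, 𝔮.IsPrime → ϖ ∈ 𝔮 → ∃ j, (P j).IsPrime ∧ P j ≤ 𝔮)
    (hufd : ∀ 𝔭 : Ideal A, ∀ _ : 𝔭.IsMaximal, ∃ (_ : IsDomain (Localization.AtPrime 𝔭)),
      UniqueFactorizationMonoid (Localization.AtPrime 𝔭)) :
    ⨅ j, P j ≤ ∏ j, P j := by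
  classical
  apply Ideal.le_of_localization_maximal
  intro 𝔭 h𝔭
  haveI := h𝔭.isPrime
  obtain ⟨hdom, hufm⟩ := hufd 𝔭 h𝔭
  haveI := hdom
  haveI := hufm
  have hϖB : algebraMap A (Localization.AtPrime 𝔭) ϖ ≠ 0 :=
    algebraMap_ne_zero 𝔭 (Localization.AtPrime 𝔭) ϖ hϖ
  have hex : ∀ j : Fin n, ∃ q : Localization.AtPrime 𝔭, ((P j).IsPrime ∧ P j ≤ 𝔭) →
      (Prime q ∧ (P j).map (algebraMap A (Localization.AtPrime 𝔭)) = Ideal.span {q}) := by
    intro j
    by_cases h : (P j).IsPrime ∧ P j ≤ 𝔭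
    · obtain ⟨q, hq⟩ := exists_prime_gen 𝔭 (Localization.AtPrime 𝔭) ϖ P hϖB hkey hcov j h.1
        (hP j) h.2
      exact ⟨q, fun _ => hq⟩
    · exact ⟨1, fun h' => absurd h' h⟩
  choose q hq using hex
  obtain ⟨S, hmemS⟩ : ∃ S : Finset (Fin n), ∀ j, j ∈ S ↔ ((P j).IsPrime ∧ P j ≤ 𝔭) :=
    ⟨Finset.univ.filter (fun j => (P j).IsPrime ∧ P j ≤ 𝔭), fun j => by simp⟩
  have hprod : (∏ j, P j).map (algebraMap A (Localization.AtPrime 𝔭)) =
      Ideal.span {∏ j ∈ S, q j} := by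
    rw [← Ideal.mapHom_apply, map_prod, ← Ideal.prod_span_singleton,
      ← Finset.prod_subset (Finset.subset_univ S)]
    · apply Finset.prod_congr rfl
      intro j hjS
      rw [Ideal.mapHom_apply, (hq j ((hmemS j).1 hjS)).2]
    · intro j _ hjS
      rw [Ideal.mapHom_apply]
      have htop : (P j).map (algebraMap A (Localization.AtPrime 𝔭)) = ⊤ := by
        by_cases hpr : (P j).IsPrime
        · have hnle : ¬ P j ≤ 𝔭 := fun hle => hjS ((hmemS j).2 ⟨hpr, hle⟩)
          exact IsLocalization.AtPrime.map_eq_top_of_not_le (Localization.AtPrime 𝔭) hnle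
        · rw [hPtop j hpr, Ideal.map_top]
      rw [htop, Ideal.one_eq_top]
  rw [hprod, Ideal.map_le_iff_le_comap]
  intro x hx
  rw [Ideal.mem_comap, Ideal.mem_span_singleton]
  apply prod_dvd_of_forall_dvd q S
  · intro j hj
    exact (hq j ((hmemS j).1 hj)).1
  · intro j hj j' hj' hne hdvd
    have hj1 := (hmemS j).1 hj
    have hj1' := (hmemS j').1 hj'
    have hle : (P j').map (algebraMap A (Localization.AtPrime 𝔭)) ≤
        (P j).map (algebraMap A (Localization.AtPrime 𝔭)) := by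
      rw [(hq j hj1).2, (hq j' hj1').2, Ideal.span_singleton_le_span_singleton]
      exact hdvd
    have h2 : P j' ≤ P j := by
      rw [← comap_map_eq 𝔭 (Localization.AtPrime 𝔭) hj1'.1 hj1'.2,
        ← comap_map_eq 𝔭 (Localization.AtPrime 𝔭) hj1.1 hj1.2]
      exact Ideal.comap_mono hle
    exact hne (hkey j j' hj1.1 hj1'.1 h2).symm
  · intro j hj
    have hj1 := (hmemS j).1 hj
    have hxj : x ∈ P j := (Ideal.mem_iInf.1 hx) j
    have h1 : algebraMap A (Localization.AtPrime 𝔭) x ∈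
        (P j).map (algebraMap A (Localization.AtPrime 𝔭)) := Ideal.mem_map_of_mem _ hxj
    rw [(hq j hj1).2, Ideal.mem_span_singleton] at h1
    exact h1

end Alg

section Geo

theorem mem_support_prod {Y : Scheme.{u}} {n : ℕ} (I : Fin n → Y.IdealSheafData)
    (s : Finset (Fin n)) (x : Y) :
    x ∈ (∏ j ∈ s, I j).support ↔ ∃ j ∈ s, x ∈ (I j).support := by
  classical
  induction s using Finset.induction_on with
  | empty =>
    simp only [Finset.prod_empty, Finset.notMem_empty, false_and, exists_false, iff_false]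
    intro h
    have h' : x ∈ (⊤ : Y.IdealSheafData).support := h
    rw [Scheme.IdealSheafData.support_top] at h'
    exact h'
  | insert a s ha ih =>
    rw [Finset.prod_insert ha, Scheme.IdealSheafData.support_mul]
    show x ∈ ((I a).support : Set Y) ∪ ((∏ j ∈ s, I j).support : Set Y) ↔ _
    rw [Set.mem_union]
    constructor
    · rintro (h | h)
      · exact ⟨a, Finset.mem_insert_self a s, h⟩
      · obtain ⟨j, hj, hx⟩ := ih.1 h
        exact ⟨j, Finset.mem_insert_of_mem hj, hx⟩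
    · rintro ⟨j, hj, hx⟩
      rcases Finset.mem_insert.1 hj with rfl | hj
      · exact Or.inl hx
      · exact Or.inr (ih.2 ⟨j, hj, hx⟩)

variable (R : Type u) [CommRing R] [IsDomain R] [IsDiscreteValuationRing R]
  (X : Over (Spec (CommRingCat.of R)))

/-- **the reduced closed fibre is the sum of the components** -/
theorem redFibreIdeal_eq_prod
    (hreg : ∀ x : X.left, IsRegularLocalRing (X.left.presheaf.stalk x))
    [Flat X.hom] {n : ℕ} (Γ : Fin n → ArSurf.VertComp R X)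
    (hinj : Function.Injective fun i => Set.range (Γ i).ι.base)
    (hcov : ∀ x : X.left, X.hom.base x = closedPoint R → ∃ i, x ∈ Set.range (Γ i).ι.base) :
    Models.redFibreIdeal R X = ∏ i, (Γ i).ι.ker := by
  obtain ⟨ϖ, hϖ⟩ := IsDiscreteValuationRing.exists_irreducible R
  have hZ : (⟨Models.specialFibreSet R X, Models.isClosed_specialFibreSet R X⟩ :
      TopologicalSpace.Closeds X.left) = (∏ i, (Γ i).ι.ker).support := by
    apply TopologicalSpace.Closeds.ext
    ext x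
    constructor
    · intro hx
      have hx' : X.hom.base x = closedPoint R := hx
      obtain ⟨i, hi⟩ := hcov x hx'
      exact (mem_support_prod (fun i => (Γ i).ι.ker) Finset.univ x).2
        ⟨i, Finset.mem_univ i, (Γ i).ι.range_subset_ker_support hi⟩
    · intro hx
      obtain ⟨i, -, hi⟩ := (mem_support_prod (fun i => (Γ i).ι.ker) Finset.univ x).1 hx
      have hi' : x ∈ ((Γ i).ι.ker.support : Set X.left) := hi
      rw [Scheme.Hom.support_ker, (Γ i).ι.isClosedEmbedding.isClosed_range.closure_eq] at hi'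
      obtain ⟨c, rfl⟩ := hi'
      show X.hom.base ((Γ i).ι.base c) = closedPoint R
      have h := congrArg (fun φ => φ c) (Γ i).w
      simp only [Scheme.Hom.comp_apply] at h
      exact h.trans (GenF.specMap_residue_apply R _)
  unfold Models.redFibreIdeal
  rw [hZ, Scheme.IdealSheafData.vanishingIdeal_support]
  apply le_antisymm ?_ (Scheme.IdealSheafData.le_radical _)
  intro U
  rw [Scheme.IdealSheafData.radical_ideal, ideal_prod]
  have hnz : sec R X ϖ U.1 ∈ nonZeroDivisors Γ(X.left, U.1) :=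
    sec_mem_nonZeroDivisors R X ϖ hϖ.ne_zero U
  have hP : ∀ j, sec R X ϖ U.1 ∈ (Γ j).ι.ker.ideal U := fun j =>
    sec_mem_ker R X (Γ j) ϖ
      (by rw [hϖ.maximalIdeal_eq]; exact Ideal.mem_span_singleton_self ϖ) U
  have hprime_of_mem : ∀ j, (Γ j).ι.base (genericPoint (Γ j).curve.left) ∈ U.1 →
      ((Γ j).ι.ker.ideal U).IsPrime := by
    intro j h
    rw [ker_eq_pt R X (Γ j) U h]
    exact pt_isPrime U _ h
  have hmem_of_prime : ∀ j, ((Γ j).ι.ker.ideal U).IsPrime →
      (Γ j).ι.base (genericPoint (Γ j).curve.left) ∈ U.1 := by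
    intro j hj
    by_contra hn
    exact hj.ne_top (ker_eq_top_of_notMem R X (Γ j) U hn)
  have hPtop : ∀ j, ¬ ((Γ j).ι.ker.ideal U).IsPrime → (Γ j).ι.ker.ideal U = ⊤ := by
    intro j hj
    by_cases h : (Γ j).ι.base (genericPoint (Γ j).curve.left) ∈ U.1
    · exact absurd (hprime_of_mem j h) hj
    · exact ker_eq_top_of_notMem R X (Γ j) U h
  have hkey : ∀ j j', ((Γ j).ι.ker.ideal U).IsPrime → ((Γ j').ι.ker.ideal U).IsPrime →
      (Γ j').ι.ker.ideal U ≤ (Γ j).ι.ker.ideal U → j' = j := by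
    intro j j' hj hj' hle
    have h := hmem_of_prime j hj
    rw [ker_eq_pt R X (Γ j) U h] at hle
    have hsupp := (le_pt_iff U _ h (Γ j').ι.ker).1 hle
    by_contra hne
    have hr : Set.range (Γ j).ι.base ≠ Set.range (Γ j').ι.base := fun e => hne (hinj e).symm
    exact ArInt.genPt_notMem R X (Γ j) (Γ j') hr hsupp
  have hcov' : ∀ 𝔮 : Ideal Γ(X.left, U.1), 𝔮.IsPrime → sec R X ϖ U.1 ∈ 𝔮 →
      ∃ j, ((Γ j).ι.ker.ideal U).IsPrime ∧ (Γ j).ι.ker.ideal U ≤ 𝔮 := by
    intro 𝔮 h𝔮 ha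
    have hy := fromSpec_mem U (⟨𝔮, h𝔮⟩ : PrimeSpectrum Γ(X.left, U.1))
    have hpt := pt_fromSpec U (⟨𝔮, h𝔮⟩ : PrimeSpectrum Γ(X.left, U.1)) hy
    have hpt' : pt U _ hy = 𝔮 := hpt
    have hax : sec R X ϖ U.1 ∈ pt U _ hy := by rw [hpt']; exact ha
    have hfib := base_eq_closedPoint_of_mem_pt R X ϖ hϖ U _ hy hax
    obtain ⟨j, hj⟩ := hcov _ hfib
    have hsupp := (Γ j).ι.range_subset_ker_support hj
    have hle := (le_pt_iff U _ hy (Γ j).ι.ker).2 hsupp
    rw [hpt'] at hle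
    refine ⟨j, ?_, hle⟩
    by_contra hnp
    rw [hPtop j hnp] at hle
    exact h𝔮.ne_top (top_le_iff.1 hle)
  have hufd : ∀ 𝔭 : Ideal Γ(X.left, U.1), ∀ _ : 𝔭.IsMaximal,
      ∃ (_ : IsDomain (Localization.AtPrime 𝔭)),
        UniqueFactorizationMonoid (Localization.AtPrime 𝔭) := by
    intro 𝔭 h𝔭
    haveI := h𝔭.isPrime
    have hy := fromSpec_mem U (⟨𝔭, h𝔭.isPrime⟩ : PrimeSpectrum Γ(X.left, U.1))
    letI := X.left.presheaf.algebra_section_stalk
      ⟨U.2.fromSpec (⟨𝔭, h𝔭.isPrime⟩ : PrimeSpectrum Γ(X.left, U.1)), hy⟩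
    haveI : IsLocalization.AtPrime (X.left.presheaf.stalk
        (U.2.fromSpec (⟨𝔭, h𝔭.isPrime⟩ : PrimeSpectrum Γ(X.left, U.1)))) 𝔭 :=
      U.2.isLocalization_stalk' ⟨𝔭, h𝔭.isPrime⟩ hy
    haveI := hreg (U.2.fromSpec (⟨𝔭, h𝔭.isPrime⟩ : PrimeSpectrum Γ(X.left, U.1)))
    haveI : IsDomain (X.left.presheaf.stalk
        (U.2.fromSpec (⟨𝔭, h𝔭.isPrime⟩ : PrimeSpectrum Γ(X.left, U.1)))) :=
      Groth.Agent.Helper8.RLR.isDomain _
    haveI : UniqueFactorizationMonoid (X.left.presheaf.stalk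
        (U.2.fromSpec (⟨𝔭, h𝔭.isPrime⟩ : PrimeSpectrum Γ(X.left, U.1)))) :=
      Groth.Agent.Helper9.RegUFD.ufd _
    have e : X.left.presheaf.stalk
        (U.2.fromSpec (⟨𝔭, h𝔭.isPrime⟩ : PrimeSpectrum Γ(X.left, U.1))) ≃ₐ[Γ(X.left, U.1)]
        Localization.AtPrime 𝔭 := IsLocalization.algEquiv 𝔭.primeCompl _ _
    have hd : IsDomain (Localization.AtPrime 𝔭) :=
      MulEquiv.isDomain (X.left.presheaf.stalk
        (U.2.fromSpec (⟨𝔭, h𝔭.isPrime⟩ : PrimeSpectrum Γ(X.left, U.1))))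
        e.symm.toRingEquiv.toMulEquiv
    exact ⟨hd, e.toRingEquiv.toMulEquiv.uniqueFactorizationMonoid inferInstance⟩
  intro x hx
  apply iInf_le_prod (sec R X ϖ U.1) hnz (fun j => (Γ j).ι.ker.ideal U) hP hPtop hkey hcov' hufd
  rw [Ideal.mem_iInf]
  intro j
  obtain ⟨N, hN⟩ := hx
  have h1 : x ^ N ∈ (Γ j).ι.ker.ideal U :=
    (Ideal.prod_le_inf.trans (Finset.inf_le (Finset.mem_univ j))) hN
  by_cases hj : ((Γ j).ι.ker.ideal U).IsPrime
  · exact hj.mem_of_pow_mem N h1
  · rw [hPtop j hj]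
    trivial

end Geo

end Groth.Agent.Helper1.RedF
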