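import Mathlib
import Groth.Agent.Lib.Helper1.ExcC1

/-!
# Numerical characterisation of exceptional curves, at the level of the curve (helper1)
-/

set_option autoImplicit false
set_option backward.isDefEq.respectTransparency.types false
universe u
open CategoryTheory CategoryTheory.Limits AlgebraicGeometry TopologicalSpace Opposite

namespace Groth.Agent.Helper1.ExcC

open Groth.Agent.Helper1.CurveLin Groth.Agent.Helper1.Euler Groth.Agent.Helper1.Curve
open Groth.Agent.Helper1 Groth.Agent.Lib.Helper4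

section Main

variable (k : Type u) [Field k] (Y : Scheme.{u}) [Y.Over (Spec (CommRingCat.of k))]
  [IsIntegral Y] [IsProper (Y ↘ Spec (CommRingCat.of k))]

/-- a projective line with conormal degree one has the numerics of an exceptional curve -/
theorem numerics_of_exc (hdim : topologicalKrullDim Y = 1)
    (K : Type u) [Field K] (e : CohB1.ProjSpace 1 K ≅ Y) (N : Y.Modules)
    (hN : PicF.IsInvertible N)
    (φ : (Scheme.Modules.pullback e.hom).obj N ≅ Twist.twistProjSpace 1 K 1) :
    Module.finrank k (Coh.HH Y (Coh.structureModule Y) 1) = 0 ∧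
      ArSurf.curveDeg k Y N = (Module.finrank k (Coh.HH Y (Coh.structureModule Y) 0) : ℤ) := by
  letI iK : Y.Over (Spec (CommRingCat.of K)) := ⟨e.inv ≫ CohB1.ProjSpace.toSpec 1 K⟩
  have hb : Function.Bijective (Coh.toGlobal (Y ↘ Spec (CommRingCat.of K))) :=
    bijective_toGlobal_of_iso K e
  haveI : IsProper (Y ↘ Spec (CommRingCat.of K)) := by
    show IsProper (e.inv ≫ CohB1.ProjSpace.toSpec 1 K)
    infer_instance
  obtain ⟨hF, hfin, -⟩ := GlobField.main k Y
  have hwpos : 0 < w k Y := w_pos k Y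
  have he : e.hom ≫ (Y ↘ Spec (CommRingCat.of K)) =
      (CohB1.ProjSpace 1 K) ↘ Spec (CommRingCat.of K) := by
    show e.hom ≫ e.inv ≫ CohB1.ProjSpace.toSpec 1 K = _
    rw [Iso.hom_inv_id_assoc]
    rfl
  haveI := isNoetherian_of_proper K Y
  have hOc : Coh.IsCoh (Coh.structureModule Y) :=
    InvQc.isCoh_of_isInvertible _ GenLoc.isInvertible_O
  have hχN : Curv2.euler K Y N = 2 := by
    rw [← P1Iso.euler_pullback_of_isIso K Y (CohB1.ProjSpace 1 K) e.hom he N
      (InvInv2.isFinLocFree_of_isInvertible hN), euler_iso K _ φ, VBP.euler_twist]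
    norm_num
  have hχO : Curv2.euler K Y (Coh.structureModule Y) = 1 := by
    rw [← P1Iso.euler_pullback_of_isIso K Y (CohB1.ProjSpace 1 K) e.hom he _
      (InvInv2.isFinLocFree_of_isInvertible GenLoc.isInvertible_O),
      euler_iso K _ (PullSec.unitIso e.hom), VBP.euler_O]
  have hcN : ArSurf.curveDeg K Y N = 1 := by
    rw [ArInt.curveDeg_eq_deg K hdim N]
    unfold Curv2.deg
    rw [hχN, hχO]
    norm_num
  have h1 := curveDeg_eq_mul k K Y hF hb N
  rw [hcN, mul_one] at h1
  have hρ0 : Module.finrank (Coh.Γtop Y) (Coh.HH Y (Coh.structureModule Y) 0) = 1 := by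
    have a := finrank_eq_mul k Y hF (Coh.structureModule Y) 0
    rw [← w_eq_finrank_H0 k Y] at a
    have a' : w k Y * 1 = w k Y * Module.finrank (Coh.Γtop Y)
        (Coh.HH Y (Coh.structureModule Y) 0) := by rw [mul_one]; exact a
    exact (Nat.eq_of_mul_eq_mul_left hwpos a').symm
  have hKh0 : Module.finrank K (Coh.HH Y (Coh.structureModule Y) 0) = 1 := by
    rw [finrank_eq_of_bijective K Y hb]
    exact hρ0
  have hKh1 : Module.finrank K (Coh.HH Y (Coh.structureModule Y) 1) = 0 := by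
    have := euler_eq_h0_sub_h1 K Y hdim.le (Coh.structureModule Y) hOc.1
    rw [hχO, hKh0] at this
    omega
  have hh1 : Module.finrank k (Coh.HH Y (Coh.structureModule Y) 1) = 0 := by
    rw [finrank_eq_mul k Y hF, ← finrank_eq_of_bijective K Y hb, hKh1, mul_zero]
  refine ⟨hh1, ?_⟩
  rw [h1, w_eq_finrank_H0 k Y]

/-- a curve with the numerics of an exceptional curve is a projective line over its field of
constants, with conormal sheaf `O(1)` -/
theorem exc_of_numerics_aux (hdim : topologicalKrullDim Y = 1)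
    (N : Y.Modules) (hN : PicF.IsInvertible N)
    (h1 : Module.finrank k (Coh.HH Y (Coh.structureModule Y) 1) = 0)
    (hdeg : ArSurf.curveDeg k Y N =
      (Module.finrank k (Coh.HH Y (Coh.structureModule Y) 0) : ℤ))
    (K : Type u) [Field K] (ψ : K ≃+* Γ(Y, ⊤)) :
    ∃ e : CohB1.ProjSpace 1 K ≅ Y,
      Nonempty ((Scheme.Modules.pullback e.hom).obj N ≅ Twist.twistProjSpace 1 K 1) := by
  letI iK : Y.Over (Spec (CommRingCat.of K)) :=
    ⟨Y.toSpecΓ ≫ Spec.map (CommRingCat.ofHom ψ.toRingHom)⟩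
  have hb : Function.Bijective (Coh.toGlobal (Y ↘ Spec (CommRingCat.of K))) :=
    bijective_toGlobal_toSpecΓ_comp Y ψ.toRingHom ψ.bijective
  haveI : IsProper (Y ↘ Spec (CommRingCat.of K)) :=
    isProper_toSpecΓ_comp Y k (Y ↘ Spec (CommRingCat.of k)) ψ
  obtain ⟨hF, hfin, -⟩ := GlobField.main k Y
  have hwpos : 0 < w k Y := w_pos k Y
  have hw0 := w_eq_finrank_H0 k Y
  have hc := curveDeg_eq_mul k K Y hF hb N
  rw [hdeg, ← hw0] at hc
  have hcN : ArSurf.curveDeg K Y N = 1 := by
    have hwz : (w k Y : ℤ) ≠ 0 := by exact_mod_cast hwpos.ne'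
    have h2 : (w k Y : ℤ) * 1 = (w k Y : ℤ) * ArSurf.curveDeg K Y N := by
      rw [mul_one]
      exact hc
    exact (mul_left_cancel₀ hwz h2).symm
  have hdegK : Curv2.deg K Y N 1 = 1 := by
    rw [← ArInt.curveDeg_eq_deg K hdim N]
    exact hcN
  have hOc : Coh.IsCoh (Coh.structureModule Y) :=
    InvQc.isCoh_of_isInvertible _ GenLoc.isInvertible_O
  have hsub : Subsingleton (Coh.HH Y (Coh.structureModule Y) 1) := by
    haveI : Module.Finite k (Coh.HH Y (Coh.structureModule Y) 1) := T2Main1.t2 k Y _ hOc 1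
    exact Module.finrank_zero_iff.1 h1
  obtain ⟨e, he⟩ := P1Iso.iso_P1_of_deg_one K Y hdim hsub N hN hdegK
  refine ⟨e.symm, ?_⟩
  have hinv : PicF.IsInvertible ((Scheme.Modules.pullback e.inv).obj N) :=
    PullGen.isInvertible_pullback e.inv hN
  obtain ⟨θ⟩ := VBP.nonempty_iso_twist K _ hinv
  have he' : e.inv ≫ (Y ↘ Spec (CommRingCat.of K)) =
      (CohB1.ProjSpace 1 K) ↘ Spec (CommRingCat.of K) := by
    rw [← he, Iso.inv_hom_id_assoc]
    rfl
  have hd : Curv2.deg K (CohB1.ProjSpace 1 K) ((Scheme.Modules.pullback e.inv).obj N) 1 = 1 := by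
    have hO : Curv2.euler K (CohB1.ProjSpace 1 K) (Coh.structureModule _) =
        Curv2.euler K Y (Coh.structureModule Y) := by
      rw [← euler_iso K _ (PullSec.unitIso e.inv),
        P1Iso.euler_pullback_of_isIso K Y (CohB1.ProjSpace 1 K) e.inv he' _
          (InvInv2.isFinLocFree_of_isInvertible GenLoc.isInvertible_O)]
    unfold Curv2.deg
    rw [P1Iso.euler_pullback_of_isIso K Y (CohB1.ProjSpace 1 K) e.inv he' N
      (InvInv2.isFinLocFree_of_isInvertible hN), hO]
    exact hdegK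
  rw [hd] at θ
  exact ⟨θ⟩

theorem exc_of_numerics (hdim : topologicalKrullDim Y = 1)
    (N : Y.Modules) (hN : PicF.IsInvertible N)
    (h1 : Module.finrank k (Coh.HH Y (Coh.structureModule Y) 1) = 0)
    (hdeg : ArSurf.curveDeg k Y N =
      (Module.finrank k (Coh.HH Y (Coh.structureModule Y) 0) : ℤ)) :
    ∃ (K : Type u) (_ : Field K) (e : CohB1.ProjSpace 1 K ≅ Y),
      Nonempty ((Scheme.Modules.pullback e.hom).obj N ≅ Twist.twistProjSpace 1 K 1) := by
  obtain ⟨hF, -, -⟩ := GlobField.main k Y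
  letI fK : Field Γ(Y, ⊤) := hF.toField
  obtain ⟨e, he⟩ := exc_of_numerics_aux k Y hdim N hN h1 hdeg Γ(Y, ⊤) (RingEquiv.refl _)
  exact ⟨Γ(Y, ⊤), fK, e, he⟩

end Main

end Groth.Agent.Helper1.ExcC
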