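import Mathlib
import Groth.Agent.Lib.Helper1.GenF8
import Groth.Agent.Lib.Helper1.RedF1
import Groth.Agent.S3326

/-!
# `h^1` of the reduced closed fibre of a minimal regular model is at most `h^1` of the closed
fibre (helper1)
-/

set_option autoImplicit false
set_option backward.isDefEq.respectTransparency.types false
universe u
open CategoryTheory CategoryTheory.Limits AlgebraicGeometry TopologicalSpace Opposite IsLocalRing

namespace Groth.Agent.Helper1.RedF

open Groth.Agent.Helper1 Groth.Agent.Lib.Helper4 Groth.Agent.Helper1.ChiA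
open Groth.Agent.Helper1.QcCech Groth.Agent.Helper1.GenF

section Step

variable (R : Type u) [CommRing R] [IsDomain R] [IsDiscreteValuationRing R]
  (X : Over (Spec (CommRingCat.of R))) (hp : IsProper X.hom) (Γ : ArSurf.VertComp R X)
  (I : X.left.IdealSheafData) (hI : PicF.IsInvertible (ClSub.idealMod I))

include hp hI in
theorem HHlin_r_injective
    (hsub : Subsingleton (Coh.HH Γ.curve.left
      ((Scheme.Modules.pullback Γ.ι).obj (ClSub.idealMod I)) 0)) :
    Function.Injective (Canon.HHlin R (r I Γ.ι.ker) 0) := by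
  rw [injective_iff_map_eq_zero]
  intro x hx
  have h1 : (r I Γ.ι.ker).app ⊤ (HH0.equiv X.left (ClSub.quotMod (I * Γ.ι.ker)) x) = 0 := by
    rw [← KosC1.HH0_natural R (r I Γ.ι.ker) x, hx, map_zero]
    rfl
  have h2 := r_top_injective R X hp Γ I hI hsub _ h1
  exact (HH0.equiv X.left (ClSub.quotMod (I * Γ.ι.ker))).injective
    (h2.trans (map_zero _).symm)

include hp hI in
/-- `h^0` does not increase when a component of negative degree is added -/
theorem lengthH_zero_step_le
    (hle : Models.specialFibreIdeal R X ≤ I * Γ.ι.ker)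
    (hneg : ArSurf.inter R X (ClSub.idealMod I) Γ < 0) :
    Models.lengthH R X (ClSub.quotMod (I * Γ.ι.ker)) 0 ≤
      Models.lengthH R X (ClSub.quotMod I) 0 := by
  haveI : IsProper (Γ.curve.left ↘ Spec (CommRingCat.of (IsLocalRing.ResidueField R))) :=
    ArInt.isProper_curve R X hp Γ
  have hsub : Subsingleton (Coh.HH Γ.curve.left
      ((Scheme.Modules.pullback Γ.ι).obj (ClSub.idealMod I)) 0) :=
    subsingleton_H0_of_deg_neg (IsLocalRing.ResidueField R) Γ.curve.left Γ.dim_eq _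
      (PullGen.isInvertible_pullback Γ.ι hI) hneg
  have hIJ : I * Γ.ι.ker ≤ I := fun U =>
    (Ideal.mul_le_left : I.ideal U * Γ.ι.ker.ideal U ≤ I.ideal U)
  have hfin := ChiA.length_quotMod_ne_top R X hp I (hle.trans hIJ) 0
  have h := Module.length_le_of_injective (Canon.HHlin R (r I Γ.ι.ker) 0)
    (HHlin_r_injective R X hp Γ I hI hsub)
  unfold Models.lengthH
  exact ENat.toNat_le_toNat h hfin

/-- `h^0 ≠ 0` when `H^0` is a field -/
theorem lengthH_zero_ne_zero (hp : IsProper X.hom) (J : X.left.IdealSheafData)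
    (hJ : Models.specialFibreIdeal R X ≤ J)
    (hF : IsField ↑Γ(J.subscheme, J.subschemeι ⁻¹ᵁ ⊤)) :
    Models.lengthH R X (ClSub.quotMod J) 0 ≠ 0 := by
  have hfin := ChiA.length_quotMod_ne_top R X hp J hJ 0
  unfold Models.lengthH
  intro h0
  rcases (ENat.toNat_eq_zero).1 h0 with h | h
  · rw [Module.length_eq_zero_iff] at h
    obtain ⟨u, v, huv⟩ := hF.exists_pair_ne
    apply huv
    have h1 := Subsingleton.elim ((HH0.equiv X.left (ClSub.quotMod J)).symm (toQ J ⊤ u))
      ((HH0.equiv X.left (ClSub.quotMod J)).symm (toQ J ⊤ v))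
    exact (HH0.equiv X.left (ClSub.quotMod J)).symm.injective h1
  · exact hfin h

end Step

section Main

/-- `dim_k H^i` of the divisor `Σ a_j Γ_j` -/
noncomputable def hh (R : Type u) [CommRing R] [IsDomain R] [IsDiscreteValuationRing R]
    (X : Over (Spec (CommRingCat.of R))) {n : ℕ} (Γ : Fin n → ArSurf.VertComp R X)
    (a : Fin n → ℕ) (i : ℕ) : ℕ :=
  Models.lengthH R X (ClSub.quotMod (∏ j, (Γ j).ι.ker ^ a j)) i

set_option maxHeartbeats 1600000 in
/-- the main comparison along the chain from the reduced fibre to the fibre -/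
theorem h1_le (R : Type u) [CommRing R] [IsDomain R] [IsDiscreteValuationRing R]
    (C X : Scheme.{u}) (f : C ⟶ Spec (CommRingCat.of (FractionRing R)))
    (p : X ⟶ Spec (CommRingCat.of R))
    (hC : Curve.IsSmoothProperCurve (FractionRing R) C f) (hH0 : IsIso f.appTop)
    (hX : Models.IsRegularProperModel R X p C f)
    {n : ℕ} (Γ : Fin n → ArSurf.VertComp R (Over.mk p))
    (hΓ : Models.IsComponentList R (Over.mk p) Γ)
    (L : Fin n → X.Modules)
    (hL : ∀ i, ClSub.IsInverseOf (L i) (ClSub.idealMod (Γ i).ι.ker))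
    (hnoexc : ∀ i, ¬ Models.IsExcCurve (Γ i).ι)
    (hgcd : (Finset.univ.gcd fun j => Models.mult R (Over.mk p) (Γ j)) = 1)
    (hH0k : hh R (Over.mk p) Γ (fun _ => 1) 0 = 1) :
    hh R (Over.mk p) Γ (fun _ => 1) 1 ≤
        hh R (Over.mk p) Γ (fun j => Models.mult R (Over.mk p) (Γ j)) 1 ∧
      ((fun j => Models.mult R (Over.mk p) (Γ j)) ≠ (fun _ => 1) →
        hh R (Over.mk p) Γ (fun _ => 1) 1 <
          hh R (Over.mk p) Γ (fun j => Models.mult R (Over.mk p) (Γ j)) 1) := by
  classical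
  obtain ⟨⟨hflat, hlft, hqc, g', H⟩, hp, hreg⟩ := id hX
  haveI := hlft
  haveI := hp
  haveI : Flat p := hflat
  haveI : IsLocallyNoetherian (Over.mk p).left :=
    LocallyOfFiniteType.isLocallyNoetherian (Y := Spec (CommRingCat.of R)) p
  haveI : Flat (Over.mk p).hom := hflat
  have hinj := hΓ.1
  have hcov := SpFib.cover_of_isComponentList R (Over.mk p) Γ hΓ
  have hconn : ConnectedSpace ↥(Models.specialFibre R (Over.mk p).left (Over.mk p).hom) :=
    Groth.Agent.S2209.result R C X f p hC hH0 hX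
  have hn : 0 < n := pos_of_connected R (Over.mk p) hconn Γ hcov
  have hinv : ∀ j, PicF.IsInvertible (ClSub.idealMod (Γ j).ι.ker) := fun j =>
    ArInt.isInvertible_idealMod_of_isInverseOf R (Over.mk p) _ (L j) (hL j)
  have hmne : ∀ j, Models.mult R (Over.mk p) (Γ j) ≠ 0 := fun j =>
    SpFib.mult_ne_zero R (Over.mk p) hreg Γ hinj hcov j
  have hmpos : ∀ j, 1 ≤ Models.mult R (Over.mk p) (Γ j) := fun j =>
    Nat.one_le_iff_ne_zero.2 (hmne j)
  have hde : ∀ j, 1 * Models.mult R (Over.mk p) (Γ j) = Models.mult R (Over.mk p) (Γ j) :=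
    fun j => one_mul _
  have hprod : ∀ (a : Fin n → ℕ) (i : Fin n),
      ∏ j, (Γ j).ι.ker ^ (a j + if j = i then 1 else 0) =
        (∏ j, (Γ j).ι.ker ^ a j) * (Γ i).ι.ker := by
    intro a i
    simp only [pow_add]
    rw [Finset.prod_mul_distrib]
    congr 1
    rw [Finset.prod_eq_single i]
    · rw [if_pos rfl, pow_one]
    · intro j _ hji
      rw [if_neg hji, pow_zero]
    · intro h
      exact absurd (Finset.mem_univ i) h
  have hc : ∀ i j, ArSurf.inter R (Over.mk p) (L i) (Γ j) =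
      ArSurf.inter R (Over.mk p) (L j) (Γ i) := by
    intro i j
    by_cases hij : i = j
    · subst hij
      rfl
    · exact ArInt.inter_symm R (Over.mk p) hp (Γ j) (Γ i)
        (fun e => hij (hinj e).symm) (L j) (L i) (hL j) (hL i)
  have hoff : ∀ i j, i ≠ j → 0 ≤ ArSurf.inter R (Over.mk p) (L i) (Γ j) := by
    intro i j hij
    have hne : Set.range (Γ j).ι.base ≠ Set.range (Γ i).ι.base := fun e => hij (hinj e).symm
    exact (ArInt.inter_nonneg_and_eq_zero_iff R (Over.mk p) hp (Γ j) (Γ i).ι.ker (hinv i)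
      (L i) (hL i) (ArInt.genPt_notMem R (Over.mk p) (Γ j) (Γ i) hne)).1
  have hcm : ∀ i, ∑ j, (Models.mult R (Over.mk p) (Γ j) : ℤ) *
      ArSurf.inter R (Over.mk p) (L i) (Γ j) = 0 := by
    intro i
    rw [← SpFib.sum_mult_mul_inter_eq_zero R (Over.mk p) hp hreg Γ hinj hcov L hL i]
    exact Finset.sum_congr rfl (fun j _ => by rw [hc i j])
  have hconn' : ∀ I : Finset (Fin n), I.Nonempty → I ≠ Finset.univ →
      ∃ i ∈ I, ∃ j ∉ I, ArSurf.inter R (Over.mk p) (L i) (Γ j) ≠ 0 := by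
    intro I hI hI'
    obtain ⟨i, hi, j, hj, hij⟩ :=
      exists_inter_ne_zero R (Over.mk p) hp hconn Γ hinj hcov L hL I hI hI'
    exact ⟨i, hi, j, hj, by rw [hc i j]; exact hij⟩
  have mul_le : ∀ A B : X.IdealSheafData, A * B ≤ A := fun A B U =>
    (Ideal.mul_le_left : A.ideal U * B.ideal U ≤ A.ideal U)
  have hv := PicV.isInvertibleCl_v R (Over.mk p) Γ L hL
  have hu := PicV.isInvertibleCl_u R (Over.mk p) Γ L hL
  have hinter : ∀ (a : Fin n → ℕ) (i : Fin n),
      ArSurf.inter R (Over.mk p) (ClSub.idealMod (∏ j, (Γ j).ι.ker ^ a j)) (Γ i) =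
        -(∑ j, (a j : ℤ) * ArSurf.inter R (Over.mk p) (L i) (Γ j)) := by
    intro a i
    have hB := PicV.degCl_prod_pow R (Over.mk p) hp (Γ i)
      (fun j => PicF.cl (ClSub.idealMod (Γ j).ι.ker)) hv a Finset.univ
    have hcl := PicV.cl_idealMod_prod_pow (fun j => (Γ j).ι.ker) a hinv Finset.univ
    have h0 : ArSurf.inter R (Over.mk p) (ClSub.idealMod (∏ j, (Γ j).ι.ker ^ a j)) (Γ i) =
        PicV.degCl R (Over.mk p) hp (Γ i)
          (PicF.cl (ClSub.idealMod (∏ j, (Γ j).ι.ker ^ a j))) := rfl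
    rw [h0, hcl, hB.2, ← Finset.sum_neg_distrib]
    apply Finset.sum_congr rfl
    intro j _
    have hneg : PicV.degCl R (Over.mk p) hp (Γ i)
        (PicF.cl (ClSub.idealMod (Γ j).ι.ker)) = - ArSurf.inter R (Over.mk p) (L j) (Γ i) := by
      have h1 := PicV.degCl_mul R (Over.mk p) hp (Γ i) (hu j) (hv j)
      have h2 : (@PicF.cl (Over.mk p).left (L j)) * PicF.cl (ClSub.idealMod (Γ j).ι.ker) = 1 :=
        Groth.Agent.Lead.PicCalc.cl_eq_of_iso (hL j).some
      rw [h2, PicV.degCl_one] at h1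
      have h3 : PicV.degCl R (Over.mk p) hp (Γ i) (PicF.cl (L j)) =
          ArSurf.inter R (Over.mk p) (L j) (Γ i) := rfl
      rw [h3] at h1
      linarith
    rw [hneg, hc j i]
    ring
  have hsf := SpFib.specialFibreIdeal_eq_prod R (Over.mk p) hreg Γ hinj hcov
  -- the step
  have hstep : ∀ a : Fin n → ℕ, (∀ j, a j ≤ Models.mult R (Over.mk p) (Γ j)) →
      a ≠ (fun j => Models.mult R (Over.mk p) (Γ j)) → (∃ j, a j ≠ 0) →
      (IsField ↑Γ((∏ j, (Γ j).ι.ker ^ a j).subscheme,
          (∏ j, (Γ j).ι.ker ^ a j).subschemeι ⁻¹ᵁ ⊤) ∧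
        hh R (Over.mk p) Γ a 0 = 1 ∧
        hh R (Over.mk p) Γ (fun _ => 1) 1 ≤ hh R (Over.mk p) Γ a 1 ∧
        (a = (fun j => Models.mult R (Over.mk p) (Γ j)) → a ≠ (fun _ => 1) →
          hh R (Over.mk p) Γ (fun _ => 1) 1 < hh R (Over.mk p) Γ a 1)) →
      ∃ i, a i < Models.mult R (Over.mk p) (Γ i) ∧
        (IsField ↑Γ((∏ j, (Γ j).ι.ker ^ (a j + if j = i then 1 else 0)).subscheme,
            (∏ j, (Γ j).ι.ker ^ (a j + if j = i then 1 else 0)).subschemeι ⁻¹ᵁ ⊤) ∧
          hh R (Over.mk p) Γ (fun j => a j + if j = i then 1 else 0) 0 = 1 ∧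
          hh R (Over.mk p) Γ (fun _ => 1) 1 ≤
            hh R (Over.mk p) Γ (fun j => a j + if j = i then 1 else 0) 1 ∧
          ((fun j => a j + if j = i then 1 else 0) =
              (fun j => Models.mult R (Over.mk p) (Γ j)) →
            (fun j => a j + if j = i then 1 else 0) ≠ (fun _ => 1) →
            hh R (Over.mk p) Γ (fun _ => 1) 1 <
              hh R (Over.mk p) Γ (fun j => a j + if j = i then 1 else 0) 1)) := by
    rintro a hae hane ⟨j0, hj0⟩ ⟨hF, h0, h1le, -⟩
    obtain ⟨i, hi, hpos⟩ := exists_pos_index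
      (fun i j => ArSurf.inter R (Over.mk p) (L i) (Γ j)) hc hoff
      (fun j => Models.mult R (Over.mk p) (Γ j)) (fun j => Nat.pos_of_ne_zero (hmne j)) hcm
      hconn' (fun j => Models.mult R (Over.mk p) (Γ j)) 1 hgcd hde a hae j0 hj0 hane
    have hpos' : 0 < ∑ j, (a j : ℤ) * ArSurf.inter R (Over.mk p) (L i) (Γ j) := hpos
    refine ⟨i, hi, ?_⟩
    have ha : ∀ j, a j + (if j = i then 1 else 0) ≤ Models.mult R (Over.mk p) (Γ j) := by
      intro j
      by_cases hji : j = i
      · rw [hji, if_pos rfl]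
        exact hi
      · rw [if_neg hji]
        exact hae j
    have hle : Models.specialFibreIdeal R (Over.mk p) ≤
        (∏ j, (Γ j).ι.ker ^ a j) * (Γ i).ι.ker := by
      rw [← hprod a i, hsf]
      have hsplit : ∀ j, (Γ j).ι.ker ^ Models.mult R (Over.mk p) (Γ j) =
          (Γ j).ι.ker ^ (a j + if j = i then 1 else 0) *
            (Γ j).ι.ker ^ (Models.mult R (Over.mk p) (Γ j) -
              (a j + if j = i then 1 else 0)) := by
        intro j
        rw [← pow_add, Nat.add_sub_cancel' (ha j)]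
      rw [Finset.prod_congr rfl (fun j _ => hsplit j), Finset.prod_mul_distrib]
      exact mul_le _ _
    have hI : PicF.IsInvertible (ClSub.idealMod (∏ j, (Γ j).ι.ker ^ a j)) :=
      SpFib.isInvertible_prod_pow (fun j => (Γ j).ι.ker) a hinv Finset.univ
    have hneg : ArSurf.inter R (Over.mk p)
        (ClSub.idealMod (∏ j, (Γ j).ι.ker ^ a j)) (Γ i) < 0 := by
      rw [hinter a i]
      linarith
    have hF' : IsField ↑Γ((∏ j, (Γ j).ι.ker ^ (a j + if j = i then 1 else 0)).subscheme,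
        (∏ j, (Γ j).ι.ker ^ (a j + if j = i then 1 else 0)).subschemeι ⁻¹ᵁ ⊤) := by
      rw [hprod a i]
      exact isField_step R (Over.mk p) hp (Γ i) (∏ j, (Γ j).ι.ker ^ a j) hI hle hneg hF
    have hle' : Models.specialFibreIdeal R (Over.mk p) ≤
        ∏ j, (Γ j).ι.ker ^ (a j + if j = i then 1 else 0) := by
      rw [hprod a i]
      exact hle
    have h0' : hh R (Over.mk p) Γ (fun j => a j + if j = i then 1 else 0) 0 = 1 := by
      have h1 : hh R (Over.mk p) Γ (fun j => a j + if j = i then 1 else 0) 0 ≤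
          hh R (Over.mk p) Γ a 0 := by
        unfold hh
        rw [hprod a i]
        exact lengthH_zero_step_le R (Over.mk p) hp (Γ i) (∏ j, (Γ j).ι.ker ^ a j) hI hle hneg
      have h2 : hh R (Over.mk p) Γ (fun j => a j + if j = i then 1 else 0) 0 ≠ 0 :=
        lengthH_zero_ne_zero R (Over.mk p) hp _ hle' hF'
      omega
    have hchi := Groth.Agent.S3325.result R C X f p hC hH0 hX Γ hΓ L hL a i ha
    have hchi' : ((hh R (Over.mk p) Γ (fun j => a j + if j = i then 1 else 0) 0 : ℤ) -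
          (hh R (Over.mk p) Γ (fun j => a j + if j = i then 1 else 0) 1 : ℤ)) -
        ((hh R (Over.mk p) Γ a 0 : ℤ) - (hh R (Over.mk p) Γ a 1 : ℤ)) =
      -(∑ j, (a j : ℤ) * ArSurf.inter R (Over.mk p) (L i) (Γ j)) +
        ((Models.wdeg R (Over.mk p) (Γ i) : ℤ) - (Models.h1 R (Over.mk p) (Γ i) : ℤ)) := hchi
    rw [h0, h0'] at hchi'
    have hdvd : (Models.wdeg R (Over.mk p) (Γ i) : ℤ) ∣
        ∑ j, (a j : ℤ) * ArSurf.inter R (Over.mk p) (L i) (Γ j) := by
      apply Finset.dvd_sum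
      intro j _
      apply Dvd.dvd.mul_left
      rw [hc i j]
      exact wdeg_dvd_inter R (Over.mk p) hp (Γ i) (L j)
    have hwle : (Models.wdeg R (Over.mk p) (Γ i) : ℤ) ≤
        ∑ j, (a j : ℤ) * ArSurf.inter R (Over.mk p) (L i) (Γ j) := Int.le_of_dvd hpos' hdvd
    have hmono : hh R (Over.mk p) Γ a 1 ≤
        hh R (Over.mk p) Γ (fun j => a j + if j = i then 1 else 0) 1 := by
      have h3 : ((hh R (Over.mk p) Γ a 1 : ℕ) : ℤ) ≤
          ((hh R (Over.mk p) Γ (fun j => a j + if j = i then 1 else 0) 1 : ℕ) : ℤ) := by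
        have h4 : (0 : ℤ) ≤ (Models.h1 R (Over.mk p) (Γ i) : ℤ) := Int.natCast_nonneg _
        push_cast at hchi' ⊢
        linarith
      exact_mod_cast h3
    refine ⟨hF', h0', h1le.trans hmono, ?_⟩
    intro hEq _
    by_contra hnot
    have heq1 : hh R (Over.mk p) Γ (fun j => a j + if j = i then 1 else 0) 1 =
        hh R (Over.mk p) Γ a 1 := by
      have h5 := not_lt.1 hnot
      omega
    rw [heq1] at hchi'
    -- numerics of an exceptional curve
    have hsumeq : ∑ j, (a j : ℤ) * ArSurf.inter R (Over.mk p) (L i) (Γ j) =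
        -ArSurf.inter R (Over.mk p) (L i) (Γ i) := by
      have haj : ∀ j, (a j : ℤ) = (Models.mult R (Over.mk p) (Γ j) : ℤ) -
          (if j = i then 1 else 0) := by
        intro j
        have h6 := congrFun hEq j
        have h7 : ((a j + (if j = i then 1 else 0) : ℕ) : ℤ) =
            (Models.mult R (Over.mk p) (Γ j) : ℤ) := by exact_mod_cast h6
        push_cast at h7
        linarith
      calc ∑ j, (a j : ℤ) * ArSurf.inter R (Over.mk p) (L i) (Γ j)
          = ∑ j, ((Models.mult R (Over.mk p) (Γ j) : ℤ) *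
                ArSurf.inter R (Over.mk p) (L i) (Γ j) -
              (if j = i then ArSurf.inter R (Over.mk p) (L i) (Γ j) else 0)) := by
            refine Finset.sum_congr rfl (fun j _ => ?_)
            rw [haj j]
            by_cases hji : j = i
            · rw [if_pos hji, if_pos hji]
              ring
            · rw [if_neg hji, if_neg hji]
              ring
        _ = -ArSurf.inter R (Over.mk p) (L i) (Γ i) := by
            rw [Finset.sum_sub_distrib, hcm i, Finset.sum_ite_eq' Finset.univ i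
              (fun j => ArSurf.inter R (Over.mk p) (L i) (Γ j)), if_pos (Finset.mem_univ i)]
            ring
    have h8 : (0 : ℤ) ≤ (Models.h1 R (Over.mk p) (Γ i) : ℤ) := Int.natCast_nonneg _
    have hh1 : Models.h1 R (Over.mk p) (Γ i) = 0 := by
      have h9 : (Models.h1 R (Over.mk p) (Γ i) : ℤ) = 0 := by linarith
      exact_mod_cast h9
    have hself : ArSurf.inter R (Over.mk p) (L i) (Γ i) =
        -(Models.wdeg R (Over.mk p) (Γ i) : ℤ) := by
      rw [hsumeq] at hchi' hwle
      linarith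
    exact hnoexc i ((Groth.Agent.S3326.result R C X f p hC hH0 hX Γ hΓ L hL i).2 ⟨hh1, hself⟩)
  -- the base
  obtain ⟨s, ach, hach0, -, -, hachP⟩ := exists_field_chain R C X f p hC hH0 hX Γ hΓ L hL
    (fun j => Models.mult R (Over.mk p) (Γ j)) 1 hgcd hde
  have hF1 : IsField ↑Γ((∏ j, (Γ j).ι.ker ^ (fun _ : Fin n => 1) j).subscheme,
      (∏ j, (Γ j).ι.ker ^ (fun _ : Fin n => 1) j).subschemeι ⁻¹ᵁ ⊤) := by
    have h := hachP 0
    rw [hach0] at h
    exact h
  have key := chain_induction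
    (fun a : Fin n → ℕ => IsField ↑Γ((∏ j, (Γ j).ι.ker ^ a j).subscheme,
        (∏ j, (Γ j).ι.ker ^ a j).subschemeι ⁻¹ᵁ ⊤) ∧
      hh R (Over.mk p) Γ a 0 = 1 ∧
      hh R (Over.mk p) Γ (fun _ => 1) 1 ≤ hh R (Over.mk p) Γ a 1 ∧
      (a = (fun j => Models.mult R (Over.mk p) (Γ j)) → a ≠ (fun _ => 1) →
        hh R (Over.mk p) Γ (fun _ => 1) 1 < hh R (Over.mk p) Γ a 1))
    (fun j => Models.mult R (Over.mk p) (Γ j)) hstep (fun _ => 1) hmpos
    ⟨⟨0, hn⟩, one_ne_zero⟩ ⟨hF1, hH0k, le_refl _, fun _ h => absurd rfl h⟩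
  exact ⟨key.2.2.1, fun hm => key.2.2.2 rfl hm⟩

end Main

end Groth.Agent.Helper1.RedF
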