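import Mathlib
import Groth.Agent.Lib.Helper1.RedF2
import Groth.Agent.Lib.Helper1.PicV6
import Groth.Agent.Lib.Helper1.Conn1
import Groth.Agent.Lib.Helper1.VB5
import Groth.Agent.Lib.Helper1.FGAInt1
import Groth.Agent.Lib.Helper1.P1Iso1
import Groth.Agent.Lib.Helper4.FibDim1
import Groth.Agent.Lib.Helper4.DimIneq4
import Groth.Agent.Lib.Helper7.GeomConn.SchemeGlue
import Groth.Agent.S0403

/-!
# A smooth proper `K`-scheme with `h^0 = 1`, `h^1 ≠ 0` which has a model with one-dimensional
closed fibre is a smooth proper curve; `h^0 = 1` over an algebraically closed residue field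
(helper1)
-/

set_option autoImplicit false
set_option backward.isDefEq.respectTransparency.types false
universe u
open CategoryTheory CategoryTheory.Limits AlgebraicGeometry TopologicalSpace Opposite IsLocalRing

namespace Groth.Agent.Helper1.RedF

open Groth.Agent.Helper1 Groth.Agent.Lib.Helper4 Groth.Agent.Helper1.ChiA
open Groth.Agent.Helper1.QcCech Groth.Agent.Helper1.GenF

section Curve

variable (K : Type u) [Field K] (C : Scheme.{u}) (f : C ⟶ Spec (CommRingCat.of K))

/-- `dim_K H^0(C, O_C) = 1` forces `K → Γ(C, O_C)` to be an isomorphism -/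
theorem isIso_appTop_of_hRank
    (h : Models.hRank K C f (Coh.structureModule C) 0 = 1) :
    Function.Bijective (Coh.toGlobal f) ∧ IsIso f.appTop := by
  letI : C.Over (Spec (CommRingCat.of K)) := ⟨f⟩
  have h' : Module.finrank K (Coh.HH C (Coh.structureModule C) 0) = 1 := h
  obtain ⟨v, hv0, hv⟩ := finrank_eq_one_iff'.1 h'
  let e : Coh.HH C (Coh.structureModule C) 0 → Coh.Γtop C := fun x =>
    HH0.equiv C (Coh.structureModule C) x
  have hsm : ∀ (a : K) (x : Coh.HH C (Coh.structureModule C) 0),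
      e (a • x) = Coh.toGlobal f a * e x :=
    fun a x => HH0.equiv_smul_over C (Coh.structureModule C) a x
  have hes : ∀ y : Coh.Γtop C, e ((HH0.equiv C (Coh.structureModule C)).symm y) = y :=
    fun y => AddEquiv.apply_symm_apply (HH0.equiv C (Coh.structureModule C)) y
  have hne : e v ≠ 0 := fun h0 =>
    hv0 ((HH0.equiv C (Coh.structureModule C)).injective
      (h0.trans (map_zero (HH0.equiv C (Coh.structureModule C))).symm))
  haveI : Nontrivial (Coh.Γtop C) := ⟨⟨_, 0, hne⟩⟩
  have hinj : Function.Injective (Coh.toGlobal f) := (Coh.toGlobal f).injective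
  have hsurj : Function.Surjective (Coh.toGlobal f) := by
    intro y
    obtain ⟨c₁, hc₁⟩ := hv ((HH0.equiv C (Coh.structureModule C)).symm (1 : Coh.Γtop C))
    obtain ⟨c₂, hc₂⟩ := hv ((HH0.equiv C (Coh.structureModule C)).symm y)
    have h1 : Coh.toGlobal f c₁ * e v = 1 := by
      rw [← hsm, hc₁, hes]
    have h2 : Coh.toGlobal f c₂ * e v = y := by
      rw [← hsm, hc₂, hes]
    have hc₁0 : c₁ ≠ 0 := by
      rintro rfl
      rw [map_zero, zero_mul] at h1
      exact zero_ne_one h1
    refine ⟨c₂ * c₁⁻¹, ?_⟩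
    calc Coh.toGlobal f (c₂ * c₁⁻¹)
        = Coh.toGlobal f (c₂ * c₁⁻¹) * (Coh.toGlobal f c₁ * e v) := by
          rw [h1, mul_one]
      _ = Coh.toGlobal f (c₂ * c₁⁻¹ * c₁) * e v := by
          rw [map_mul (Coh.toGlobal f) (c₂ * c₁⁻¹) c₁, mul_assoc]
      _ = y := by rw [inv_mul_cancel_right₀ hc₁0, h2]
  have hb : Function.Bijective (Coh.toGlobal f) := ⟨hinj, hsurj⟩
  have h2 : Function.Bijective (Scheme.ΓSpecIso (CommRingCat.of K)).inv.hom :=
    (ConcreteCategory.isIso_iff_bijective (Scheme.ΓSpecIso (CommRingCat.of K)).inv).1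
      inferInstance
  have h1 : Function.Bijective f.appTop.hom := (Function.Bijective.of_comp_iff _ h2).1 hb
  exact ⟨hb, (ConcreteCategory.isIso_iff_bijective f.appTop).2 h1⟩

/-- a smooth proper `K`-scheme with `Γ(C, O_C) = K` is integral -/
theorem isIntegral_of_bijective [IsProper f] [Smooth f]
    (hb : Function.Bijective (Coh.toGlobal f)) : IsIntegral C := by
  haveI : IsNoetherian C := VB5.isNoetherian_of_proper K f
  haveI : Nontrivial (Coh.Γtop C) := hb.1.nontrivial
  haveI : Nontrivial Γ(C, ⊤) := ‹Nontrivial (Coh.Γtop C)›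
  haveI : Nonempty C := by
    by_contra hne
    haveI : IsEmpty C := not_nonempty_iff.1 hne
    exact not_subsingleton Γ(C, ⊤) inferInstance
  haveI : ConnectedSpace C := by
    apply Groth.Agent.Helper7.GeomConn.connectedSpace_of_idempotent_trivial C
    intro e he
    obtain ⟨a, rfl⟩ := hb.2 e
    have ha : IsIdempotentElem a := by
      apply hb.1
      rw [map_mul]
      exact he
    rcases IsIdempotentElem.iff_eq_zero_or_one.1 ha with rfl | rfl
    · left
      exact map_zero _
    · right
      exact map_one _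
  exact Conn1.isIntegral_of_connected C (fun x => VB5.isDomain_stalk_of_smooth K f x)

/-- `H^1(C, O_C) ≠ 0` forces `dim C ≥ 1` -/
theorem one_le_dim_of_H1 [IsProper f] (hg : Models.curveGenus K C f ≠ 0) :
    1 ≤ topologicalKrullDim C := by
  by_contra hlt
  rw [not_le] at hlt
  haveI : IsNoetherian C := VB5.isNoetherian_of_proper K f
  have hd : topologicalKrullDim C ≤ ((0 : ℕ) : WithBot ℕ∞) := by
    rw [Nat.cast_zero]
    exact P1Iso.withBot_le_zero_of_lt_one _ hlt
  haveI : Subsingleton (Coh.HH C (Coh.structureModule C) 1) :=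
    FGAInt.subsingleton_HH_of_dim_lt C 0 hd (Coh.structureModule C) 1 Nat.zero_lt_one
  apply hg
  letI : C.Over (Spec (CommRingCat.of K)) := ⟨f⟩
  show Module.finrank K (Coh.HH C (Coh.structureModule C) 1) = 0
  exact Module.finrank_zero_of_subsingleton

end Curve

section Dim

variable (R : Type u) [CommRing R] [IsDomain R] [IsDiscreteValuationRing R]
  (X : Over (Spec (CommRingCat.of R)))

/-- the closed fibre has dimension at most one when it is covered by vertical prime divisors -/
theorem krullDim_closedFibre_le {n : ℕ} (Γ : Fin n → ArSurf.VertComp R X)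
    (hcov : ∀ x : X.left, X.hom.base x = closedPoint R → ∃ i, x ∈ Set.range (Γ i).ι.base) :
    Order.krullDim {z : X.left // X.hom z = closedPoint R} ≤ 1 := by
  rw [Order.krullDim_eq_iSup_height]
  refine iSup_le fun a => ?_
  rw [Order.height_eq_krullDim_Iic]
  obtain ⟨i, hi⟩ := hcov a.1 a.2
  have hcl : IsClosed (Set.range (Γ i).ι.base) := (Γ i).ι.isClosedEmbedding.isClosed_range
  have hmem : ∀ z : Set.Iic a, z.1.1 ∈ Set.range (Γ i).ι.base := fun z =>
    (show a.1 ⤳ z.1.1 from z.2).mem_closed hcl hi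
  choose φ hφ using hmem
  have key : ∀ w w' : Set.Iic a, φ w ≤ φ w' ↔ w ≤ w' := by
    intro w w'
    show (φ w' ⤳ φ w) ↔ (w'.1.1 ⤳ w.1.1)
    rw [← hφ w, ← hφ w']
    exact ((Γ i).ι.isClosedEmbedding.isEmbedding.isInducing.specializes_iff).symm
  have hmono : StrictMono φ := by
    intro z z' hlt
    rw [lt_iff_le_not_ge] at hlt ⊢
    exact ⟨(key _ _).2 hlt.1, fun h => hlt.2 ((key _ _).1 h)⟩
  have h1 := Order.krullDim_le_of_strictMono φ hmono
  rw [← DimIneq4.topologicalKrullDim_eq_krullDim (Γ i).curve.left, (Γ i).dim_eq] at h1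
  exact h1

/-- the generic fibre has dimension at most one when the closed fibre has -/
theorem dim_generic_le [IsProper X.hom]
    {C : Scheme.{u}} (f : C ⟶ Spec (CommRingCat.of (FractionRing R))) (g : C ⟶ X.left)
    (hg : IsPullback g f X.hom (Spec.map (CommRingCat.ofHom (algebraMap R (FractionRing R)))))
    (hfib : Order.krullDim {z : X.left // X.hom z = closedPoint R} ≤ 1) :
    topologicalKrullDim C ≤ 1 := by
  have hopen := Groth.Agent.S0403.result X.hom (1 : WithBot ℕ∞)
  have hs : (closedPoint R : Spec (CommRingCat.of R)) ∈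
      {s : Spec (CommRingCat.of R) | topologicalKrullDim (X.hom.fiber s) ≤ 1} := by
    show topologicalKrullDim (X.hom.fiber (closedPoint R)) ≤ 1
    rw [FibDim1.topologicalKrullDim_fiber_eq]
    exact hfib
  let pt : Spec (CommRingCat.of (FractionRing R)) :=
    (⟨⊥, Ideal.isPrime_bot⟩ : PrimeSpectrum (FractionRing R))
  let η : Spec (CommRingCat.of R) :=
    (Spec.map (CommRingCat.ofHom (algebraMap R (FractionRing R)))).base pt
  have hη : topologicalKrullDim (X.hom.fiber η) ≤ 1 :=
    (IsLocalRing.specializes_closedPoint (R := R) η).mem_open hopen hs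
  rw [FibDim1.topologicalKrullDim_fiber_eq] at hη
  haveI : IsOpenImmersion g := PicV.isOpenImmersion_of_isPullback R X f g hg
  haveI hsub : Subsingleton ↥(Spec (CommRingCat.of (FractionRing R))) :=
    inferInstanceAs (Subsingleton (PrimeSpectrum (FractionRing R)))
  have hw : ∀ c : C, X.hom (g c) = η := by
    intro c
    have h1 : X.hom.base (g.base c) =
        (Spec.map (CommRingCat.ofHom (algebraMap R (FractionRing R)))).base (f.base c) :=
      congrArg (fun φ : C ⟶ Spec (CommRingCat.of R) => φ.base c) hg.w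
    show X.hom.base (g.base c) = η
    rw [h1, Subsingleton.elim (f.base c) pt]
  let ψ : C → {z : X.left // X.hom z = η} := fun c => ⟨g c, hw c⟩
  have key : ∀ w w' : C, ψ w ≤ ψ w' ↔ w ≤ w' := fun w w' =>
    g.isOpenEmbedding.isEmbedding.isInducing.specializes_iff
  have hmono : StrictMono ψ := by
    intro c c' hlt
    rw [lt_iff_le_not_ge] at hlt ⊢
    exact ⟨(key _ _).2 hlt.1, fun h => hlt.2 ((key _ _).1 h)⟩
  rw [DimIneq4.topologicalKrullDim_eq_krullDim C]
  exact (Order.krullDim_le_of_strictMono ψ hmono).trans hη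

end Dim

section AlgClosed

variable (R : Type u) [CommRing R] [IsDomain R] [IsDiscreteValuationRing R]
  (X : Over (Spec (CommRingCat.of R)))

/-- over an algebraically closed residue field, `h^0(Z, O_Z) = 1` when `H^0(Z, O_Z)` is a field -/
theorem lengthH_zero_eq_one (hk : IsAlgClosed (IsLocalRing.ResidueField R))
    (hp : IsProper X.hom) (J : X.left.IdealSheafData)
    (hF : IsField ↑Γ(J.subscheme, ⊤)) :
    Models.lengthH R X (ClSub.quotMod J) 0 = 1 := by
  haveI := hk
  haveI : IsProper X.hom := hp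
  let φ : R →+* ↑Γ(J.subscheme, ⊤) :=
    (J.subschemeι ≫ X.hom).appTop.hom.comp (Scheme.ΓSpecIso (CommRingCat.of R)).inv.hom
  have hfin : φ.Finite := finite_subscheme R X.hom J
  have hint : φ.IsIntegral := hfin.to_isIntegral
  haveI : IsDomain ↑Γ(J.subscheme, ⊤) := hF.isDomain
  have hbot : (⊥ : Ideal ↑Γ(J.subscheme, ⊤)).IsMaximal := by
    letI := hF.toField
    exact Ideal.bot_isMaximal
  haveI := hbot
  have hmax : ((⊥ : Ideal ↑Γ(J.subscheme, ⊤)).comap φ).IsMaximal :=
    Ideal.isMaximal_comap_of_isIntegral_of_isMaximal' φ hint ⊥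
  have hker : (⊥ : Ideal ↑Γ(J.subscheme, ⊤)).comap φ = maximalIdeal R :=
    IsLocalRing.eq_maximalIdeal hmax
  have hzero : ∀ a ∈ maximalIdeal R, φ a = 0 := by
    intro a ha
    rw [← hker] at ha
    exact ha
  let ψ : IsLocalRing.ResidueField R →+* ↑Γ(J.subscheme, ⊤) :=
    Ideal.Quotient.lift (maximalIdeal R) φ hzero
  have hψint : ψ.IsIntegral := by
    apply RingHom.IsIntegral.tower_top (IsLocalRing.residue R) ψ
    have hcomp : ψ.comp (IsLocalRing.residue R) = φ := RingHom.ext (fun r => rfl)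
    rw [hcomp]
    exact hint
  have hψsurj := (IsAlgClosed.ringHom_bijective_of_isIntegral ψ hψint).2
  have hφsurj : Function.Surjective φ := by
    intro b
    obtain ⟨c, hc⟩ := hψsurj b
    obtain ⟨r, rfl⟩ := IsLocalRing.residue_surjective c
    exact ⟨r, hc⟩
  let e : Coh.HH X.left (ClSub.quotMod J) 0 → ↑Γ(J.subscheme, ⊤) := fun x =>
    ofQ J ⊤ (HH0.equiv X.left (ClSub.quotMod J) x)
  have hφa : ∀ a : R, φ a =
      (J.subschemeι.app ⊤).hom (show Γ(X.left, ⊤) from Coh.toGlobal X.hom a) := by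
    intro a
    show ((J.subschemeι ≫ X.hom).appTop.hom.comp
      (Scheme.ΓSpecIso (CommRingCat.of R)).inv.hom) a = _
    rw [RingHom.comp_apply, Scheme.Hom.comp_appTop]
    rfl
  have hsm : ∀ (r : R) (x : Coh.HH X.left (ClSub.quotMod J) 0), e (r • x) = φ r * e x := by
    intro r x
    show ofQ J ⊤ (HH0.equiv X.left (ClSub.quotMod J) (r • x)) = _
    rw [HH0.equiv_smul_over, hφa r]
    exact ofQ_smul J ⊤ _ _
  have hinj : Function.Injective e := fun x y h =>
    (HH0.equiv X.left (ClSub.quotMod J)).injective h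
  have hsurj : Function.Surjective e := fun s =>
    ⟨(HH0.equiv X.left (ClSub.quotMod J)).symm (toQ J ⊤ s), by
      show ofQ J ⊤ (HH0.equiv X.left (ClSub.quotMod J)
        ((HH0.equiv X.left (ClSub.quotMod J)).symm (toQ J ⊤ s))) = s
      rw [AddEquiv.apply_symm_apply]
      rfl⟩
  have he0 : e 0 = 0 := by
    show ofQ J ⊤ (HH0.equiv X.left (ClSub.quotMod J) 0) = 0
    rw [map_zero]
    rfl
  have hlen : Module.length R (Coh.HH X.left (ClSub.quotMod J) 0) = 1 := by
    rw [Module.length_eq_one_iff, isSimpleModule_iff]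
    haveI : Nontrivial (Coh.HH X.left (ClSub.quotMod J) 0) := by
      obtain ⟨u, v, huv⟩ := hF.exists_pair_ne
      obtain ⟨x, rfl⟩ := hsurj u
      obtain ⟨y, rfl⟩ := hsurj v
      exact ⟨⟨x, y, fun h => huv (congrArg e h)⟩⟩
    refine ⟨fun N => ?_⟩
    by_cases hN : N = ⊥
    · exact Or.inl hN
    · right
      obtain ⟨x, hxN, hx0⟩ := (Submodule.ne_bot_iff N).1 hN
      rw [eq_top_iff]
      intro y _
      have hex : e x ≠ 0 := fun h => hx0 (hinj (h.trans he0.symm))
      obtain ⟨b, hb⟩ := hF.mul_inv_cancel hex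
      obtain ⟨r, hr⟩ := hφsurj (e y * b)
      have hy : r • x = y := by
        apply hinj
        rw [hsm, hr, mul_assoc, mul_comm b, hb, mul_one]
      rw [← hy]
      exact N.smul_mem r hxN
  unfold Models.lengthH
  rw [hlen]
  rfl

end AlgClosed

end Groth.Agent.Helper1.RedF
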