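import Mathlib
import Groth.Agent.Lib.Helper1.RedF3

/-!
# Two exceptional curves which meet: numerics, and the structure of a scheme theoretic
intersection of length one (helper1)
-/

set_option autoImplicit false
set_option backward.isDefEq.respectTransparency.types false
universe u
open CategoryTheory CategoryTheory.Limits AlgebraicGeometry TopologicalSpace Opposite IsLocalRing

namespace Groth.Agent.Helper1.ExcM

open Groth.Agent.Helper1 Groth.Agent.Lib.Helper4 Groth.Agent.Helper1.ChiA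
open Groth.Agent.Helper1.QcCech Groth.Agent.Helper1.GenF

section Pure

theorem meet_numerics {n : ℕ} (c : Fin n → Fin n → ℤ) (hc : ∀ a b, c a b = c b a)
    (hoff : ∀ a b, a ≠ b → 0 ≤ c a b)
    (m : Fin n → ℕ) (hm : ∀ a, 0 < m a) (hcm : ∀ a, ∑ b, (m b : ℤ) * c a b = 0)
    (w : Fin n → ℕ) (hw : ∀ a, 0 < w a) (hdvd : ∀ a b, (w b : ℤ) ∣ c a b)
    (i j : Fin n) (hij : i ≠ j) (hi : c i i = -(w i : ℤ)) (hj : c j j = -(w j : ℤ))
    (hpos : c i j ≠ 0) :
    m i = m j ∧ c i j = (w i : ℤ) ∧ w i = w j ∧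
      ∀ b, b ≠ i → b ≠ j → c i b = 0 ∧ c j b = 0 := by
  classical
  have hsplit : ∀ a b : Fin n, a ≠ b → ∑ l, (m l : ℤ) * c a l =
      (m a : ℤ) * c a a + (m b : ℤ) * c a b +
        ∑ l ∈ (Finset.univ.erase a).erase b, (m l : ℤ) * c a l := by
    intro a b hab
    rw [← Finset.add_sum_erase Finset.univ _ (Finset.mem_univ a),
      ← Finset.add_sum_erase (Finset.univ.erase a) _
        (Finset.mem_erase.2 ⟨hab.symm, Finset.mem_univ b⟩)]
    ring
  have hTterm : ∀ a b l : Fin n, l ∈ (Finset.univ.erase a).erase b →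
      0 ≤ (m l : ℤ) * c a l := by
    intro a b l hl
    have hla : l ≠ a := (Finset.mem_erase.1 (Finset.mem_erase.1 hl).2).1
    exact mul_nonneg (Int.natCast_nonneg _) (hoff a l hla.symm)
  have hT : ∀ a b : Fin n,
      0 ≤ ∑ l ∈ (Finset.univ.erase a).erase b, (m l : ℤ) * c a l :=
    fun a b => Finset.sum_nonneg (hTterm a b)
  have hcij : 0 < c i j := lt_of_le_of_ne (hoff i j hij) (Ne.symm hpos)
  have hwj : (w j : ℤ) ≤ c i j := Int.le_of_dvd hcij (hdvd i j)
  have hwi : (w i : ℤ) ≤ c i j := by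
    have h1 : 0 < c j i := by rw [← hc i j]; exact hcij
    rw [hc i j]
    exact Int.le_of_dvd h1 (hdvd j i)
  have e1 := hsplit i j hij
  rw [hcm i, hi] at e1
  have e2 := hsplit j i hij.symm
  rw [hcm j, hj, hc j i] at e2
  have hTi0 := hT i j
  have hTj0 := hT j i
  have hmi : (0 : ℤ) < m i := by exact_mod_cast hm i
  have hmj : (0 : ℤ) < m j := by exact_mod_cast hm j
  have hwipos : (0 : ℤ) < w i := by exact_mod_cast hw i
  have hwjpos : (0 : ℤ) < w j := by exact_mod_cast hw j
  have a1 : (m j : ℤ) * (w i : ℤ) ≤ (m j : ℤ) * c i j := mul_le_mul_of_nonneg_left hwi hmj.le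
  have a2 : (m i : ℤ) * (w j : ℤ) ≤ (m i : ℤ) * c i j := mul_le_mul_of_nonneg_left hwj hmi.le
  have h3 : (m j : ℤ) * w i ≤ (m i : ℤ) * w i := by linarith
  have h4 : (m i : ℤ) * w j ≤ (m j : ℤ) * w j := by linarith
  have h3' : (m j : ℤ) ≤ m i := le_of_mul_le_mul_right h3 hwipos
  have h4' : (m i : ℤ) ≤ m j := le_of_mul_le_mul_right h4 hwjpos
  have hmeq : (m i : ℤ) = m j := le_antisymm h4' h3'
  have h5 : (m i : ℤ) * ((w i : ℤ) - c i j) =
      ∑ l ∈ (Finset.univ.erase i).erase j, (m l : ℤ) * c i l := by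
    rw [← hmeq] at e1
    linarith
  have h6 : (m i : ℤ) * ((w i : ℤ) - c i j) ≤ 0 :=
    mul_nonpos_of_nonneg_of_nonpos hmi.le (by linarith)
  have hTi00 : ∑ l ∈ (Finset.univ.erase i).erase j, (m l : ℤ) * c i l = 0 :=
    le_antisymm (h5 ▸ h6) hTi0
  have h7 : (w i : ℤ) - c i j = 0 := by
    rcases mul_eq_zero.1 (h5.trans hTi00) with h | h
    · exact absurd h hmi.ne'
    · exact h
  have h5' : (m j : ℤ) * ((w j : ℤ) - c i j) =
      ∑ l ∈ (Finset.univ.erase j).erase i, (m l : ℤ) * c j l := by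
    rw [hmeq] at e2
    linarith
  have h6' : (m j : ℤ) * ((w j : ℤ) - c i j) ≤ 0 :=
    mul_nonpos_of_nonneg_of_nonpos hmj.le (by linarith)
  have hTj00 : ∑ l ∈ (Finset.univ.erase j).erase i, (m l : ℤ) * c j l = 0 :=
    le_antisymm (h5' ▸ h6') hTj0
  have h7' : (w j : ℤ) - c i j = 0 := by
    rcases mul_eq_zero.1 (h5'.trans hTj00) with h | h
    · exact absurd h hmj.ne'
    · exact h
  refine ⟨by exact_mod_cast hmeq, by linarith, ?_, ?_⟩
  · have : (w i : ℤ) = w j := by linarith
    exact_mod_cast this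
  · intro b hbi hbj
    have hb1 : b ∈ (Finset.univ.erase i).erase j :=
      Finset.mem_erase.2 ⟨hbj, Finset.mem_erase.2 ⟨hbi, Finset.mem_univ b⟩⟩
    have hb2 : b ∈ (Finset.univ.erase j).erase i :=
      Finset.mem_erase.2 ⟨hbi, Finset.mem_erase.2 ⟨hbj, Finset.mem_univ b⟩⟩
    have hmb : (m b : ℤ) ≠ 0 := by exact_mod_cast (hm b).ne'
    have z1 := (Finset.sum_eq_zero_iff_of_nonneg (hTterm i j)).1 hTi00 b hb1
    have z2 := (Finset.sum_eq_zero_iff_of_nonneg (hTterm j i)).1 hTj00 b hb2
    exact ⟨(mul_eq_zero.1 z1).resolve_left hmb, (mul_eq_zero.1 z2).resolve_left hmb⟩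

theorem univ_eq_pair {n : ℕ} (c : Fin n → Fin n → ℤ)
    (hconn : ∀ I : Finset (Fin n), I.Nonempty → I ≠ Finset.univ →
      ∃ a ∈ I, ∃ b ∉ I, c a b ≠ 0)
    (i j : Fin n) (hz : ∀ b, b ≠ i → b ≠ j → c i b = 0 ∧ c j b = 0) :
    (Finset.univ : Finset (Fin n)) = {i, j} := by
  classical
  by_contra hne
  obtain ⟨a, ha, b, hb, hab⟩ := hconn {i, j} ⟨i, Finset.mem_insert_self i _⟩
    (fun h => hne h.symm)
  have hbi : b ≠ i := fun h => hb (by rw [h]; exact Finset.mem_insert_self i _)
  have hbj : b ≠ j := fun h =>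
    hb (by rw [h]; exact Finset.mem_insert_of_mem (Finset.mem_singleton_self j))
  rcases Finset.mem_insert.1 ha with h | h
  · rw [h] at hab
    exact hab (hz b hbi hbj).1
  · rw [Finset.mem_singleton.1 h] at hab
    exact hab (hz b hbi hbj).2

theorem genus_numerics {n : ℕ} (m w h1 : Fin n → ℕ) (c : Fin n → Fin n → ℤ) (g : ℕ)
    (i j : Fin n) (hij : i ≠ j) (huniv : (Finset.univ : Finset (Fin n)) = {i, j})
    (hgen : 2 * (g : ℤ) = 2 + ∑ l, (m l : ℤ) * (2 * ((h1 l : ℤ) - (w l : ℤ)) - c l l))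
    (hmi : 0 < m i) (hwi : 0 < w i) (hm : m i = m j) (hw : w i = w j)
    (h1i : h1 i = 0) (h1j : h1 j = 0)
    (hci : c i i = -(w i : ℤ)) (hcj : c j j = -(w j : ℤ)) :
    g = 0 ∧ m i = 1 ∧ w i = 1 := by
  rw [huniv, Finset.sum_pair hij, h1i, h1j, hci, hcj, ← hm, ← hw] at hgen
  push_cast at hgen
  have h1 : (g : ℤ) + (m i : ℤ) * (w i : ℤ) = 1 := by linarith
  have h2 : (1 : ℤ) ≤ (m i : ℤ) * (w i : ℤ) := by
    have h3 : (1 : ℤ) ≤ m i := by exact_mod_cast hmi
    have h4 : (1 : ℤ) ≤ w i := by exact_mod_cast hwi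
    nlinarith
  have hg0 : (g : ℤ) = 0 := by
    have := Int.natCast_nonneg g
    linarith
  have hmw : (m i : ℤ) * (w i : ℤ) = 1 := by linarith
  have hmw' : m i * w i = 1 := by exact_mod_cast hmw
  refine ⟨by exact_mod_cast hg0, ?_, ?_⟩
  · have : m i ≤ m i * w i := Nat.le_mul_of_pos_right _ hwi
    omega
  · have : w i ≤ m i * w i := Nat.le_mul_of_pos_left _ hmi
    omega

end Pure

section Geo

variable (R : Type u) [CommRing R] [IsDomain R] [IsDiscreteValuationRing R]
  (X : Over (Spec (CommRingCat.of R)))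

/-- the scheme theoretic intersection of a vertical prime divisor with a closed subscheme not
containing its generic point has dimension at most zero -/
theorem dim_sup_le_zero (Γ : ArSurf.VertComp R X) (D : X.left.IdealSheafData)
    (hη : Γ.ι.base (genericPoint Γ.curve.left) ∉ (D.support : Set X.left)) :
    topologicalKrullDim (D ⊔ Γ.ι.ker).subscheme ≤ 0 := by
  let Y : Set Γ.curve.left := Γ.ι.base ⁻¹' (D.support : Set X.left)
  have hYcl : IsClosed Y := D.support.isClosed.preimage Γ.ι.continuous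
  have hYne : Y ≠ Set.univ := by
    intro hY
    apply hη
    have h1 : genericPoint Γ.curve.left ∈ Y := by rw [hY]; trivial
    exact h1
  have hfin : topologicalKrullDim Γ.curve.left ≠ ⊤ := by
    rw [Γ.dim_eq]
    exact WithBot.coe_injective.ne ENat.one_ne_top
  have hlt := Groth.Agent.Helper4.TD.topologicalKrullDim_lt_of_isClosed_ne_univ
    Γ.curve.left hfin Y hYcl hYne
  have hmem : ∀ z : (D ⊔ Γ.ι.ker).subscheme,
      (D ⊔ Γ.ι.ker).subschemeι.base z ∈ (D.support : Set X.left) ∩
        (Γ.ι.ker.support : Set X.left) := by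
    intro z
    have h1 : (D ⊔ Γ.ι.ker).subschemeι.base z ∈ ((D ⊔ Γ.ι.ker).support : Set X.left) := by
      rw [← (D ⊔ Γ.ι.ker).range_subschemeι]
      exact ⟨z, rfl⟩
    rw [Scheme.IdealSheafData.support_sup] at h1
    exact h1
  have hch : ∀ z : (D ⊔ Γ.ι.ker).subscheme,
      ∃ b : Γ.curve.left, Γ.ι.base b = (D ⊔ Γ.ι.ker).subschemeι.base z := by
    intro z
    have h2 := (hmem z).2
    rw [Scheme.Hom.support_ker, Γ.ι.isClosedEmbedding.isClosed_range.closure_eq] at h2
    exact h2
  choose g hg using hch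
  have hgY : ∀ z, g z ∈ Y := fun z => by
    show Γ.ι.base (g z) ∈ (D.support : Set X.left)
    rw [hg z]
    exact (hmem z).1
  let g' : (D ⊔ Γ.ι.ker).subscheme → Y := fun z => ⟨g z, hgY z⟩
  have hind : Topology.IsInducing g' := by
    have h1 : Topology.IsInducing (fun y : Y => Γ.ι.base y.1) :=
      Γ.ι.isClosedEmbedding.isInducing.comp Topology.IsInducing.subtypeVal
    have h2 : (fun y : Y => Γ.ι.base y.1) ∘ g' = (D ⊔ Γ.ι.ker).subschemeι.base := funext hg
    rw [← h1.of_comp_iff, h2]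
    exact (D ⊔ Γ.ι.ker).subschemeι.isClosedEmbedding.isInducing
  have hle := hind.topologicalKrullDim_le
  rw [Γ.dim_eq] at hlt
  exact P1Iso.withBot_le_zero_of_lt_one _ (lt_of_le_of_lt hle hlt)

set_option maxHeartbeats 800000 in
/-- a closed subscheme of dimension zero whose ring of functions has length one over `R` is a
reduced point with residue field `k` -/
theorem point_of_length_one (hp : IsProper X.hom) [IsLocallyNoetherian X.left]
    (J : X.left.IdealSheafData)
    (hdim : topologicalKrullDim J.subscheme ≤ 0)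
    (hlen : Models.lengthH R X (ClSub.quotMod J) 0 = 1) :
    ∃ x : X.left, (J.support : Set X.left) = {x} ∧
      J = Scheme.IdealSheafData.vanishingIdeal ⟨closure {x}, isClosed_closure⟩ ∧
      Function.Surjective ((X.left.residue x).hom.comp (Models.stalkHom R X x)) := by
  haveI : IsProper X.hom := hp
  haveI : IsLocallyNoetherian J.subscheme :=
    LocallyOfFiniteType.isLocallyNoetherian J.subschemeι
  haveI : CompactSpace X.left := by
    have := QuasiCompact.compactSpace_of_compactSpace X.hom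
    exact this
  haveI : CompactSpace J.subscheme := by
    have := QuasiCompact.compactSpace_of_compactSpace J.subschemeι
    exact this
  haveI : IsLocallyArtinian J.subscheme :=
    IsLocallyArtinian.of_topologicalKrullDim_le_zero hdim
  haveI : IsArtinianScheme J.subscheme := {}
  haveI : Finite J.subscheme := inferInstance
  haveI : DiscreteTopology J.subscheme := inferInstance
  haveI : IsAffine J.subscheme := inferInstance
  -- the ring of functions
  let φ : R →+* ↑Γ(J.subscheme, ⊤) :=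
    (J.subschemeι ≫ X.hom).appTop.hom.comp (Scheme.ΓSpecIso (CommRingCat.of R)).inv.hom
  let e : Coh.HH X.left (ClSub.quotMod J) 0 → ↑Γ(J.subscheme, ⊤) := fun x =>
    ofQ J ⊤ (HH0.equiv X.left (ClSub.quotMod J) x)
  have hφa : ∀ a : R, φ a =
      (J.subschemeι.app ⊤).hom (show Γ(X.left, ⊤) from Coh.toGlobal X.hom a) := by
    intro a
    show ((J.subschemeι ≫ X.hom).appTop.hom.comp
      (Scheme.ΓSpecIso (CommRingCat.of R)).inv.hom) a = _
    rw [RingHom.comp_apply, Scheme.Hom.comp_appTop]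
    rfl
  have hsm : ∀ (r : R) (x : Coh.HH X.left (ClSub.quotMod J) 0), e (r • x) = φ r * e x := by
    intro r x
    show ofQ J ⊤ (HH0.equiv X.left (ClSub.quotMod J) (r • x)) = _
    rw [HH0.equiv_smul_over, hφa r]
    exact ofQ_smul J ⊤ _ _
  have hinj : Function.Injective e := fun x y h =>
    (HH0.equiv X.left (ClSub.quotMod J)).injective h
  have hes : ∀ s : ↑Γ(J.subscheme, ⊤),
      e ((HH0.equiv X.left (ClSub.quotMod J)).symm (toQ J ⊤ s)) = s := by
    intro s
    show ofQ J ⊤ (HH0.equiv X.left (ClSub.quotMod J)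
      ((HH0.equiv X.left (ClSub.quotMod J)).symm (toQ J ⊤ s))) = s
    rw [AddEquiv.apply_symm_apply]
    rfl
  have he0 : e 0 = 0 := by
    show ofQ J ⊤ (HH0.equiv X.left (ClSub.quotMod J) 0) = 0
    rw [map_zero]
    rfl
  have hlen1 : Module.length R (Coh.HH X.left (ClSub.quotMod J) 0) = 1 := by
    unfold Models.lengthH at hlen
    exact (ENat.toNat_eq_iff one_ne_zero).1 hlen
  haveI hsimple : IsSimpleModule R (Coh.HH X.left (ClSub.quotMod J) 0) :=
    Module.length_eq_one_iff.1 hlen1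
  haveI : Nontrivial (Coh.HH X.left (ClSub.quotMod J) 0) :=
    IsSimpleModule.nontrivial R _
  haveI : Nontrivial ↑Γ(J.subscheme, ⊤) := hinj.nontrivial
  have hgen : ∀ x : Coh.HH X.left (ClSub.quotMod J) 0, x ≠ 0 →
      ∀ y : Coh.HH X.left (ClSub.quotMod J) 0, ∃ r : R, r • x = y := by
    intro x hx y
    have hspan : Submodule.span R {x} = ⊤ := by
      rcases eq_bot_or_eq_top (Submodule.span R {x}) with h | h
      · exact absurd (Submodule.span_singleton_eq_bot.1 h) hx
      · exact h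
    have hy : y ∈ Submodule.span R {x} := by rw [hspan]; trivial
    exact Submodule.mem_span_singleton.1 hy
  have hne0 : ∀ s : ↑Γ(J.subscheme, ⊤), s ≠ 0 →
      (HH0.equiv X.left (ClSub.quotMod J)).symm (toQ J ⊤ s) ≠ 0 := by
    intro s hs h0
    apply hs
    rw [← hes s, h0, he0]
  have hφsurj : Function.Surjective φ := by
    intro b
    obtain ⟨r, hr⟩ := hgen _ (hne0 1 one_ne_zero)
      ((HH0.equiv X.left (ClSub.quotMod J)).symm (toQ J ⊤ b))
    refine ⟨r, ?_⟩
    have h1 := congrArg e hr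
    rw [hsm, hes, hes, mul_one] at h1
    exact h1
  have hA : IsField ↑Γ(J.subscheme, ⊤) := by
    refine ⟨exists_pair_ne _, mul_comm, ?_⟩
    intro a ha
    obtain ⟨r, hr⟩ := hgen _ (hne0 a ha)
      ((HH0.equiv X.left (ClSub.quotMod J)).symm (toQ J ⊤ 1))
    refine ⟨φ r, ?_⟩
    have h1 := congrArg e hr
    rw [hsm, hes, hes] at h1
    rw [mul_comm]
    exact h1
  -- a single point
  have hprime : ∀ P : PrimeSpectrum ↑Γ(J.subscheme, ⊤), P.asIdeal = ⊥ := by
    intro P
    rw [eq_bot_iff]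
    intro a haP
    by_contra ha0
    obtain ⟨b, hb⟩ := hA.mul_inv_cancel (show a ≠ 0 from ha0)
    exact P.isPrime.ne_top ((Ideal.eq_top_iff_one _).2 (hb ▸ P.asIdeal.mul_mem_right b haP))
  have hsubS : Subsingleton (PrimeSpectrum ↑Γ(J.subscheme, ⊤)) :=
    ⟨fun P Q => PrimeSpectrum.ext ((hprime P).trans (hprime Q).symm)⟩
  have hsubZ : Subsingleton J.subscheme := by
    refine ⟨fun z z' => ?_⟩
    apply J.subscheme.isoSpec.hom.isOpenEmbedding.injective
    exact Subsingleton.elim (α := PrimeSpectrum ↑Γ(J.subscheme, ⊤)) _ _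
  haveI : Nonempty J.subscheme := by
    by_contra hne
    haveI : IsEmpty J.subscheme := not_nonempty_iff.1 hne
    exact not_subsingleton ↑Γ(J.subscheme, ⊤) inferInstance
  obtain ⟨z⟩ := ‹Nonempty J.subscheme›
  refine ⟨J.subschemeι.base z, ?_, ?_, ?_⟩
  · rw [← J.range_subschemeι]
    ext y
    constructor
    · rintro ⟨z', rfl⟩
      rw [Subsingleton.elim z' z]
      rfl
    · intro hy
      exact ⟨z, hy.symm⟩
  · haveI : IsDomain ↑Γ(J.subscheme, ⊤) := hA.isDomain
    haveI : IsReduced J.subscheme := isReduced_of_isAffine_isReduced _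
    have hrad : J.radical = J := by
      apply le_antisymm _ (Scheme.IdealSheafData.le_radical J)
      intro U a ha
      rw [Scheme.IdealSheafData.radical_ideal] at ha
      obtain ⟨n, hn⟩ := ha
      rw [← J.ker_subschemeι_app U, RingHom.mem_ker] at hn ⊢
      rw [map_pow] at hn
      exact IsNilpotent.eq_zero ⟨n, hn⟩
    have hsupp : (J.support : Set X.left) = {J.subschemeι.base z} := by
      rw [← J.range_subschemeι]
      ext y
      constructor
      · rintro ⟨z', rfl⟩
        rw [Subsingleton.elim z' z]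
        rfl
      · intro hy
        exact ⟨z, hy.symm⟩
    have hcl : closure ({J.subschemeι.base z} : Set X.left) = {J.subschemeι.base z} := by
      rw [← hsupp]
      exact J.support.isClosed.closure_eq
    have hC : (⟨closure {J.subschemeι.base z}, isClosed_closure⟩ : Closeds X.left) =
        J.support := Closeds.ext (hcl.trans hsupp.symm)
    rw [hC, Scheme.IdealSheafData.vanishingIdeal_support, hrad]
  · intro t
    have hρinj : Function.Injective (J.subschemeι.residueFieldMap z).hom :=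
      (J.subschemeι.residueFieldMap z).hom.injective
    obtain ⟨s, hs⟩ := J.subscheme.residue_surjective z
      ((J.subschemeι.residueFieldMap z).hom t)
    obtain ⟨V, hzV, a, ha⟩ := TopCat.Presheaf.exists_germ_eq J.subscheme.presheaf (x := z) s
    have hV : V = ⊤ := by
      ext y
      simp only [Opens.coe_top, Set.mem_univ, iff_true]
      rw [Subsingleton.elim y z]
      exact hzV
    subst hV
    obtain ⟨r, hr⟩ := hφsurj a
    refine ⟨r, hρinj ?_⟩
    have hsq := congrArg (fun ψ => ψ.hom (Models.stalkHom R X (J.subschemeι.base z) r))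
      (Scheme.residue_residueFieldMap J.subschemeι z)
    simp only [CommRingCat.hom_comp, RingHom.comp_apply] at hsq
    rw [RingHom.comp_apply]
    refine hsq.trans ?_
    rw [← hs, ← ha, ← hr, hφa r]
    congr 1
    exact Scheme.Hom.germ_stalkMap_apply J.subschemeι ⊤ z trivial _

end Geo

end Groth.Agent.Helper1.ExcM
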