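import Mathlib
import Groth.Agent.Lib.Helper1.ExcM1
import Groth.Agent.Lib.Helper7.GeomConn.ZarNormal
import Groth.Agent.Lib.Helper7.GeomConn.SteinField

/-!
# Cohomological flatness in degree zero of a regular model with coprime multiplicities over a
discrete valuation ring with perfect residue field (helper1)
-/

set_option autoImplicit false
set_option backward.isDefEq.respectTransparency.types false
universe u
open CategoryTheory CategoryTheory.Limits AlgebraicGeometry TopologicalSpace Opposite IsLocalRing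

namespace Groth.Agent.Helper1.ZarF

open Groth.Agent.Helper1 Groth.Agent.Lib.Helper4 Groth.Agent.Helper1.ChiA
open Groth.Agent.Helper1.QcCech Groth.Agent.Helper1.GenF Groth.Agent.Helper7.GeomConn
open Groth.Agent.Helper7.GeomConn.ZC

section Pure

/-- the closed fibre with coprime multiplicities is its own fundamental divisor -/
theorem mult_le_of_nonpos {n : ℕ} (c : Fin n → Fin n → ℤ) (hc : ∀ i j, c i j = c j i)
    (hoff : ∀ i j, i ≠ j → 0 ≤ c i j) (m : Fin n → ℕ) (hm : ∀ i, 0 < m i)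
    (hcm : ∀ i, ∑ j, (m j : ℤ) * c i j = 0)
    (hconn : ∀ I : Finset (Fin n), I.Nonempty → I ≠ Finset.univ →
      ∃ i ∈ I, ∃ j ∉ I, c i j ≠ 0)
    (hgcd : Finset.univ.gcd m = 1)
    (z : Fin n → ℕ) (hz1 : ∀ i, 1 ≤ z i) (hz : ∀ i, ∑ j, (z j : ℤ) * c i j ≤ 0) :
    ∀ i, m i ≤ z i := by
  classical
  -- step A
  have hS : ∑ i, (m i : ℤ) * ∑ j, (z j : ℤ) * c i j = 0 := by
    calc ∑ i, (m i : ℤ) * ∑ j, (z j : ℤ) * c i j
        = ∑ i, ∑ j, (z j : ℤ) * ((m i : ℤ) * c j i) := by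
          refine Finset.sum_congr rfl (fun i _ => ?_)
          rw [Finset.mul_sum]
          refine Finset.sum_congr rfl (fun j _ => ?_)
          rw [hc i j]
          ring
      _ = ∑ j, ∑ i, (z j : ℤ) * ((m i : ℤ) * c j i) := Finset.sum_comm
      _ = ∑ j, (z j : ℤ) * ∑ i, (m i : ℤ) * c j i := by
          refine Finset.sum_congr rfl (fun j _ => ?_)
          rw [Finset.mul_sum]
      _ = 0 := by
          refine Finset.sum_eq_zero (fun j _ => ?_)
          rw [hcm j, mul_zero]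
  have hterm : ∀ i ∈ (Finset.univ : Finset (Fin n)),
      (m i : ℤ) * ∑ j, (z j : ℤ) * c i j ≤ 0 := fun i _ =>
    mul_nonpos_of_nonneg_of_nonpos (Int.natCast_nonneg _) (hz i)
  have hA0 : ∀ i, ∑ j, (z j : ℤ) * c i j = 0 := by
    intro i
    have h1 := (Finset.sum_eq_zero_iff_of_nonpos hterm).1 hS i (Finset.mem_univ i)
    have hmi : (m i : ℤ) ≠ 0 := by exact_mod_cast (hm i).ne'
    exact (mul_eq_zero.1 h1).resolve_left hmi
  -- step B
  obtain ⟨A, hAij⟩ : ∃ A : Matrix (Fin n) (Fin n) ℝ, ∀ i j, A i j = ((c i j : ℤ) : ℝ) :=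
    ⟨Matrix.of fun i j => ((c i j : ℤ) : ℝ), fun i j => rfl⟩
  obtain ⟨mR, hmR⟩ : ∃ mR : Fin n → ℝ, ∀ j, mR j = ((m j : ℕ) : ℝ) :=
    ⟨fun j => ((m j : ℕ) : ℝ), fun j => rfl⟩
  obtain ⟨x, hx⟩ : ∃ x : Fin n → ℝ, ∀ j, x j = ((z j : ℕ) : ℝ) :=
    ⟨fun j => ((z j : ℕ) : ℝ), fun j => rfl⟩
  have Z := Groth.Agent.S2171.result A mR
    (Matrix.IsSymm.ext (fun i j => by rw [hAij, hAij, hc j i]))
    (fun i j hij => by rw [hAij]; exact_mod_cast hoff i j hij)
    (fun i => by rw [hmR]; exact_mod_cast hm i)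
    (by
      funext i
      show ∑ j, A i j * mR j = 0
      have h : ((∑ j, (m j : ℤ) * c i j : ℤ) : ℝ) = 0 := by rw [hcm i]; simp
      push_cast at h
      rw [← h]
      exact Finset.sum_congr rfl (fun j _ => by rw [hAij, hmR]; exact mul_comm _ _))
    (fun I hI hI' => by
      obtain ⟨i, hi, j, hj, hij⟩ := hconn I hI hI'
      exact ⟨i, hi, j, hj, by rw [hAij]; exact_mod_cast hij⟩)
    x
  have hmul : ∀ i, A.mulVec x i = 0 := by
    intro i
    show ∑ j, A i j * x j = 0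
    have h : ((∑ j, (z j : ℤ) * c i j : ℤ) : ℝ) = 0 := by rw [hA0 i]; simp
    push_cast at h
    rw [← h]
    exact Finset.sum_congr rfl (fun j _ => by rw [hAij, hx]; exact mul_comm _ _)
  have hQ0 : dotProduct x (A.mulVec x) = 0 := by
    show ∑ i, x i * A.mulVec x i = 0
    exact Finset.sum_eq_zero (fun i _ => by rw [hmul i, mul_zero])
  obtain ⟨q, hq⟩ := Z.2.1 hQ0
  have hxq : ∀ j, ((z j : ℕ) : ℝ) = q * ((m j : ℕ) : ℝ) := by
    intro j
    have h := congrFun hq j
    rw [Pi.smul_apply, smul_eq_mul, hx, hmR] at h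
    exact h
  have hprop : ∀ j l, z j * m l = z l * m j := by
    intro j l
    have h : ((z j : ℕ) : ℝ) * (m l : ℝ) = (z l : ℝ) * (m j : ℝ) := by
      rw [hxq j, hxq l]
      ring
    exact_mod_cast h
  have hg : ∀ l, z l * 1 = Finset.univ.gcd z * m l := by
    intro l
    have h1 : (Finset.univ.gcd fun j => z j * m l) = Finset.univ.gcd z * m l := by
      rw [Finset.gcd_mul_right, normalize_eq]
    have h2 : (Finset.univ.gcd fun j => z l * m j) = z l * 1 := by
      rw [Finset.gcd_mul_left, normalize_eq, hgcd]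
    calc z l * 1 = Finset.univ.gcd (fun j => z l * m j) := h2.symm
      _ = Finset.univ.gcd (fun j => z j * m l) := by
          congr 1
          funext j
          exact (hprop j l).symm
      _ = _ := h1
  intro i
  have hg0 : Finset.univ.gcd z ≠ 0 := by
    intro h
    have h1 := (Finset.gcd_eq_zero_iff.1 h) i (Finset.mem_univ i)
    have h2 := hz1 i
    omega
  have h3 := hg i
  rw [mul_one] at h3
  rw [h3]
  exact Nat.le_mul_of_pos_left _ (Nat.pos_of_ne_zero hg0)

/-- a field which is a purely inseparable "extension" of the image of a ring whose residue field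
is algebraic over a perfect field is that image -/
theorem surjective_of_perfect {R B A : Type u} [CommRing R] [IsLocalRing R] [CommRing B]
    [CommRing A] [PerfectField (ResidueField R)]
    (hA : IsField A) (φB : R →+* B) (ρ : B →+* A) (hint : φB.IsIntegral)
    (hm : ∀ r ∈ maximalIdeal R, ρ (φB r) = 0)
    [h𝔫 : (RingHom.ker ρ).IsMaximal]
    (hpow : ∀ a : A, ∃ (n : ℕ) (b : B),
      a ^ (ringExpChar (B ⧸ RingHom.ker ρ)) ^ n = ρ b) :
    Function.Surjective ρ := by
  letI : Field (B ⧸ RingHom.ker ρ) := Ideal.Quotient.field (RingHom.ker ρ)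
  haveI : ExpChar (B ⧸ RingHom.ker ρ) (ringExpChar (B ⧸ RingHom.ker ρ)) :=
    ringExpChar.expChar _
  haveI : ExpChar A (ringExpChar (B ⧸ RingHom.ker ρ)) :=
    expChar_of_injective_ringHom (RingHom.kerLift_injective ρ) _
  let ψ' : ResidueField R →+* B ⧸ RingHom.ker ρ :=
    Ideal.Quotient.lift (maximalIdeal R) ((Ideal.Quotient.mk (RingHom.ker ρ)).comp φB)
      (fun r hr => by
        rw [RingHom.comp_apply, Ideal.Quotient.eq_zero_iff_mem, RingHom.mem_ker]
        exact hm r hr)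
  have hψ'int : ψ'.IsIntegral := by
    apply RingHom.IsIntegral.tower_top (IsLocalRing.residue R) ψ'
    have hcomp : ψ'.comp (IsLocalRing.residue R) =
        (Ideal.Quotient.mk (RingHom.ker ρ)).comp φB := RingHom.ext (fun r => rfl)
    rw [hcomp]
    exact RingHom.IsIntegral.trans φB (Ideal.Quotient.mk (RingHom.ker ρ)) hint
      (RingHom.isIntegral_of_surjective _ Ideal.Quotient.mk_surjective)
  letI : Algebra (ResidueField R) (B ⧸ RingHom.ker ρ) := ψ'.toAlgebra
  haveI : Algebra.IsIntegral (ResidueField R) (B ⧸ RingHom.ker ρ) := ⟨hψ'int⟩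
  haveI : PerfectField (B ⧸ RingHom.ker ρ) :=
    Algebra.IsAlgebraic.perfectField (ResidueField R)
  haveI : PerfectRing (B ⧸ RingHom.ker ρ) (ringExpChar (B ⧸ RingHom.ker ρ)) :=
    PerfectField.toPerfectRing _
  haveI : IsDomain A := hA.isDomain
  intro a
  obtain ⟨n, b, hab⟩ := hpow a
  obtain ⟨c', hc'⟩ := (bijective_iterateFrobenius (B ⧸ RingHom.ker ρ)
    (ringExpChar (B ⧸ RingHom.ker ρ)) n).2 (Ideal.Quotient.mk (RingHom.ker ρ) b)
  obtain ⟨b', rfl⟩ := Ideal.Quotient.mk_surjective c'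
  refine ⟨b', ?_⟩
  have h1 : (ρ b') ^ (ringExpChar (B ⧸ RingHom.ker ρ)) ^ n =
      a ^ (ringExpChar (B ⧸ RingHom.ker ρ)) ^ n := by
    rw [hab, ← RingHom.kerLift_mk ρ b', ← map_pow, ← iterateFrobenius_def, hc',
      RingHom.kerLift_mk]
  have h2 : (ρ b' - a) ^ (ringExpChar (B ⧸ RingHom.ker ρ)) ^ n = 0 := by
    rw [sub_pow_expChar_pow, h1, sub_self]
  exact sub_eq_zero.1 (IsNilpotent.eq_zero ⟨_, h2⟩)

end Pure

section Fin

/-- the ring of global functions of a proper scheme over a Noetherian ring is a finite module -/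
theorem finite_toGlobal (A : Type u) [CommRing A] [IsNoetherianRing A] {X : Scheme.{u}}
    (p : X ⟶ Spec (CommRingCat.of A)) [hp : IsProper p] :
    (p.appTop.hom.comp (Scheme.ΓSpecIso (CommRingCat.of A)).inv.hom).Finite := by
  letI : X.Over (Spec (CommRingCat.of A)) := ⟨p⟩
  haveI : IsProper (X ↘ Spec (CommRingCat.of A)) := hp
  have hcoh : Coh.IsCoh (Coh.structureModule X) :=
    InvQc.isCoh_of_isInvertible _ GenLoc.isInvertible_O
  haveI hfin : Module.Finite A (Coh.HH X (Coh.structureModule X) 0) :=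
    T2Main1.t2 A X (Coh.structureModule X) hcoh 0
  letI := (p.appTop.hom.comp (Scheme.ΓSpecIso (CommRingCat.of A)).inv.hom).toAlgebra
  show Module.Finite A ↑Γ(X, ⊤)
  let l : Coh.HH X (Coh.structureModule X) 0 →ₗ[A] ↑Γ(X, ⊤) :=
    { toFun := fun x => (show ↑Γ(X, ⊤) from HH0.equiv X (Coh.structureModule X) x)
      map_add' := fun x y => map_add (HH0.equiv X (Coh.structureModule X)) x y
      map_smul' := fun a x => by
        rw [RingHom.id_apply, Algebra.smul_def, RingHom.algebraMap_toAlgebra]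
        exact HH0.equiv_smul_over X (Coh.structureModule X) a x }
  refine Module.Finite.of_surjective l (fun s => ?_)
  exact ⟨(HH0.equiv X (Coh.structureModule X)).symm s,
    AddEquiv.apply_symm_apply (HH0.equiv X (Coh.structureModule X)) s⟩

theorem isNoetherianRing_Γ (A : Type u) [CommRing A] [IsNoetherianRing A] {X : Scheme.{u}}
    (p : X ⟶ Spec (CommRingCat.of A)) [IsProper p] : IsNoetherianRing ↑Γ(X, ⊤) := by
  have hfin := finite_toGlobal A p
  letI := (p.appTop.hom.comp (Scheme.ΓSpecIso (CommRingCat.of A)).inv.hom).toAlgebra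
  haveI : Module.Finite A ↑Γ(X, ⊤) := hfin
  haveI : IsNoetherian A ↑Γ(X, ⊤) := isNoetherian_of_isNoetherianRing_of_finite A _
  exact isNoetherian_of_tower A inferInstance

theorem isProper_toSpecΓ {A : CommRingCat.{u}} {X : Scheme.{u}} (p : X ⟶ Spec A) [IsProper p] :
    IsProper X.toSpecΓ := by
  have h := ExcC.eq_toSpecΓ_comp X p
  haveI : IsProper (X.toSpecΓ ≫ Spec.map ((Scheme.ΓSpecIso A).inv ≫ p.appTop)) := by
    rw [← h]
    infer_instance
  exact IsProper.of_comp _ (Spec.map ((Scheme.ΓSpecIso A).inv ≫ p.appTop))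

end Fin

section Stein

variable (X : Scheme.{u})

/-- restriction to the fibre of `X → Spec Γ(X, O_X)` over `V(𝔫)` -/
theorem fst_appTop_eq (𝔫 : Ideal ↑Γ(X, ⊤)) (β : ↑Γ(X, ⊤)) :
    (pullback.fst X.toSpecΓ
        (Spec.map (CommRingCat.ofHom (Ideal.Quotient.mk 𝔫)))).appTop.hom β =
      (pullback.snd X.toSpecΓ (Spec.map (CommRingCat.ofHom (Ideal.Quotient.mk 𝔫)))).appTop.hom
        ((Scheme.ΓSpecIso (CommRingCat.of (↑Γ(X, ⊤) ⧸ 𝔫))).inv.hom (Ideal.Quotient.mk 𝔫 β)) := by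
  have h1 : X.toSpecΓ.appTop = (Scheme.ΓSpecIso Γ(X, ⊤)).hom := Scheme.toSpecΓ_appTop X
  have h2 := Scheme.ΓSpecIso_inv_naturality (CommRingCat.ofHom (Ideal.Quotient.mk 𝔫))
  have h3 : (pullback.fst X.toSpecΓ (Spec.map (CommRingCat.ofHom (Ideal.Quotient.mk 𝔫))) ≫
      X.toSpecΓ).appTop =
      (pullback.snd X.toSpecΓ (Spec.map (CommRingCat.ofHom (Ideal.Quotient.mk 𝔫))) ≫
        Spec.map (CommRingCat.ofHom (Ideal.Quotient.mk 𝔫))).appTop := by
    rw [pullback.condition]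
  rw [Scheme.Hom.comp_appTop, Scheme.Hom.comp_appTop] at h3
  have h4 := congrArg (fun ψ => ψ.hom ((Scheme.ΓSpecIso Γ(X, ⊤)).inv.hom β)) h3
  simp only [CommRingCat.hom_comp, RingHom.comp_apply] at h4
  have h5 : X.toSpecΓ.appTop.hom ((Scheme.ΓSpecIso Γ(X, ⊤)).inv.hom β) = β := by
    rw [h1, ← RingHom.comp_apply, ← CommRingCat.hom_comp, Iso.inv_hom_id]
    rfl
  have h6 : (Spec.map (CommRingCat.ofHom (Ideal.Quotient.mk 𝔫))).appTop.hom
      ((Scheme.ΓSpecIso Γ(X, ⊤)).inv.hom β) =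
      (Scheme.ΓSpecIso (CommRingCat.of (↑Γ(X, ⊤) ⧸ 𝔫))).inv.hom (Ideal.Quotient.mk 𝔫 β) := by
    have h7 := congrArg (fun ψ => ψ.hom β) h2
    simp only [CommRingCat.hom_comp, RingHom.comp_apply, CommRingCat.hom_ofHom] at h7
    exact h7.symm
  rw [h5, h6] at h4
  exact h4

set_option maxHeartbeats 1600000 in
/-- **Stein factorisation and Zariski's connectedness theorem**: if `H^0(Z, O_Z)` is a field for
a closed subscheme `Z` containing the fibre of `X → Spec Γ(X, O_X)` over a closed point, every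
element of it has a `p^n`-th power coming from a global function -/
theorem pow_mem_range [IsProper X.toSpecΓ] [IsNoetherianRing ↑Γ(X, ⊤)]
    (I : X.IdealSheafData) (hA : IsField ↑Γ(I.subscheme, ⊤))
    (𝔫 : Ideal ↑Γ(X, ⊤)) [h𝔫 : 𝔫.IsMaximal]
    (hI : I ≤ (pullback.fst X.toSpecΓ
      (Spec.map (CommRingCat.ofHom (Ideal.Quotient.mk 𝔫)))).ker) :
    ∀ a : ↑Γ(I.subscheme, ⊤), ∃ (n : ℕ) (b : ↑Γ(X, ⊤)),
      a ^ (ringExpChar (↑Γ(X, ⊤) ⧸ 𝔫)) ^ n = (I.subschemeι.app ⊤).hom b := by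
  letI : Field (↑Γ(X, ⊤) ⧸ 𝔫) := Ideal.Quotient.field 𝔫
  haveI : IsLocallyNoetherian (Spec Γ(X, ⊤)) := inferInstance
  have htop : IsIso (X.toSpecΓ.app ⊤) := by
    have h1 : X.toSpecΓ.appTop = (Scheme.ΓSpecIso Γ(X, ⊤)).hom := Scheme.toSpecΓ_appTop X
    show IsIso X.toSpecΓ.appTop
    rw [h1]
    infer_instance
  have hiso : ∀ U : (Spec Γ(X, ⊤)).Opens, IsIso (X.toSpecΓ.app U) := fun U =>
    isIso_app_of_le X.toSpecΓ ⊤ (fun W hW _ =>
      isIso_app_of_le_affine X.toSpecΓ ⊤ (isAffineOpen_top _) htop W hW le_top) U le_top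
  haveI : GeometricallyConnected X.toSpecΓ := geometricallyConnected_of_isIso_app X.toSpecΓ hiso
  haveI : IsClosedImmersion (Spec.map (CommRingCat.ofHom (Ideal.Quotient.mk 𝔫))) :=
    IsClosedImmersion.spec_of_surjective _ Ideal.Quotient.mk_surjective
  haveI : GeometricallyConnected (pullback.snd X.toSpecΓ
      (Spec.map (CommRingCat.ofHom (Ideal.Quotient.mk 𝔫)))) := inferInstance
  haveI : IsProper (pullback.snd X.toSpecΓ
      (Spec.map (CommRingCat.ofHom (Ideal.Quotient.mk 𝔫)))) := inferInstance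
  haveI : IsClosedImmersion (pullback.fst X.toSpecΓ
      (Spec.map (CommRingCat.ofHom (Ideal.Quotient.mk 𝔫)))) := inferInstance
  obtain ⟨hloc, -, hpow⟩ := (geometricallyConnected_iff_globalSections (↑Γ(X, ⊤) ⧸ 𝔫)
    (pullback.snd X.toSpecΓ (Spec.map (CommRingCat.ofHom (Ideal.Quotient.mk 𝔫))))).1
    inferInstance
  haveI := hloc
  let j : pullback X.toSpecΓ (Spec.map (CommRingCat.ofHom (Ideal.Quotient.mk 𝔫))) ⟶
      I.subscheme :=
    IsClosedImmersion.lift I.subschemeι (pullback.fst X.toSpecΓ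
      (Spec.map (CommRingCat.ofHom (Ideal.Quotient.mk 𝔫))))
      (by rw [I.ker_subschemeι]; exact hI)
  have hj : j ≫ I.subschemeι = pullback.fst X.toSpecΓ
      (Spec.map (CommRingCat.ofHom (Ideal.Quotient.mk 𝔫))) :=
    IsClosedImmersion.lift_fac _ _ _
  haveI : IsDomain ↑Γ(I.subscheme, ⊤) := hA.isDomain
  have hjinj : Function.Injective j.appTop.hom := by
    rw [injective_iff_map_eq_zero]
    intro a ha
    by_contra ha0
    obtain ⟨b, hb⟩ := hA.mul_inv_cancel ha0
    have h1 : j.appTop.hom (a * b) = 0 := by rw [map_mul, ha, zero_mul]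
    rw [hb, map_one] at h1
    exact one_ne_zero h1
  intro a
  obtain ⟨n, c, hnil⟩ := hpow (j.appTop.hom a)
  obtain ⟨b, rfl⟩ := Ideal.Quotient.mk_surjective c
  refine ⟨n, b, ?_⟩
  have key : (pullback.snd X.toSpecΓ
      (Spec.map (CommRingCat.ofHom (Ideal.Quotient.mk 𝔫)))).appTop.hom
        ((Scheme.ΓSpecIso (CommRingCat.of (↑Γ(X, ⊤) ⧸ 𝔫))).inv.hom (Ideal.Quotient.mk 𝔫 b)) =
      j.appTop.hom ((I.subschemeι.app ⊤).hom b) := by
    rw [← fst_appTop_eq X 𝔫 b]
    have h1 := congrArg (fun ψ => ψ.appTop.hom b) hj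
    simp only [Scheme.Hom.comp_appTop, CommRingCat.hom_comp, RingHom.comp_apply] at h1
    exact h1.symm
  rw [key, ← map_pow, ← map_sub] at hnil
  obtain ⟨N, hN⟩ := hnil
  rw [← map_pow] at hN
  have h2 := (injective_iff_map_eq_zero j.appTop.hom).1 hjinj _ hN
  exact sub_eq_zero.1 (IsNilpotent.eq_zero ⟨N, h2⟩)

end Stein

end Groth.Agent.Helper1.ZarF
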