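import Mathlib
import Groth.Agent.Lib.Helper1.ZarF1

/-!
# Cohomological flatness in degree zero (continued): the closed fibre (helper1)
-/

set_option autoImplicit false
set_option backward.isDefEq.respectTransparency.types false
universe u
open CategoryTheory CategoryTheory.Limits AlgebraicGeometry TopologicalSpace Opposite IsLocalRing

namespace Groth.Agent.Helper1.ZarF

open Groth.Agent.Helper1 Groth.Agent.Lib.Helper4 Groth.Agent.Helper1.ChiA
open Groth.Agent.Helper1.QcCech Groth.Agent.Helper1.GenF Groth.Agent.Helper7.GeomConn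
open Groth.Agent.Helper7.GeomConn.ZC

section Vanish

/-- the fibre of `X → Spec Γ(X, O_X)` over `V(𝔫)` lies in the closed subscheme cut out by `𝔪`
when `𝔪 Γ(X, O_X) ⊆ 𝔫` -/
theorem comap_le_ker_fst {R : Type u} [CommRing R] (X : Over (Spec (CommRingCat.of R)))
    (𝔪 : Ideal R) (𝔫 : Ideal ↑Γ(X.left, ⊤))
    (h : ∀ r ∈ 𝔪, X.hom.appTop.hom ((Scheme.ΓSpecIso (CommRingCat.of R)).inv.hom r) ∈ 𝔫) :
    (Curv2.idealSheaf R 𝔪).comap X.hom ≤
      (pullback.fst X.left.toSpecΓ
        (Spec.map (CommRingCat.ofHom (Ideal.Quotient.mk 𝔫)))).ker := by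
  haveI : IsClosedImmersion (Spec.map (CommRingCat.ofHom (Ideal.Quotient.mk 𝔫))) :=
    IsClosedImmersion.spec_of_surjective _ Ideal.Quotient.mk_surjective
  haveI : IsClosedImmersion (pullback.fst X.left.toSpecΓ
      (Spec.map (CommRingCat.ofHom (Ideal.Quotient.mk 𝔫)))) := inferInstance
  rw [← Scheme.IdealSheafData.le_map_iff_comap_le]
  have hmap : (pullback.fst X.left.toSpecΓ
      (Spec.map (CommRingCat.ofHom (Ideal.Quotient.mk 𝔫)))).ker.map X.hom =
      (pullback.fst X.left.toSpecΓ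
        (Spec.map (CommRingCat.ofHom (Ideal.Quotient.mk 𝔫))) ≫ X.hom).ker := by
    have h1 : pullback.fst X.left.toSpecΓ
        (Spec.map (CommRingCat.ofHom (Ideal.Quotient.mk 𝔫))) ≫ X.hom =
        (pullback.fst X.left.toSpecΓ
          (Spec.map (CommRingCat.ofHom (Ideal.Quotient.mk 𝔫)))).toImage ≫
        ((pullback.fst X.left.toSpecΓ
          (Spec.map (CommRingCat.ofHom (Ideal.Quotient.mk 𝔫)))).imageι ≫ X.hom) := by
      rw [← Category.assoc, Scheme.Hom.toImage_imageι]
    rw [h1, Scheme.Hom.ker_comp_of_isIso]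
    rfl
  rw [hmap, Scheme.ker_of_isAffine]
  unfold Curv2.idealSheaf
  refine Scheme.IdealSheafData.le_of_isAffine ?_
  rw [Scheme.IdealSheafData.ofIdealTop_ideal, Scheme.IdealSheafData.ofIdealTop_ideal]
  apply Ideal.map_mono
  rw [Ideal.map_le_iff_le_comap]
  intro r hr
  rw [Ideal.mem_comap, RingHom.mem_ker, Scheme.Hom.comp_appTop, CommRingCat.hom_comp,
    RingHom.comp_apply, fst_appTop_eq X.left 𝔫, (Ideal.Quotient.eq_zero_iff_mem).2 (h r hr),
    map_zero, map_zero]

end Vanish

section Main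

variable (R : Type u) [CommRing R] [IsDomain R] [IsDiscreteValuationRing R]
  (X : Over (Spec (CommRingCat.of R))) [IsLocallyNoetherian X.left] [Flat X.hom]

/-- the components cover exactly the closed fibre -/
theorem iUnion_range_eq {n : ℕ} (Γ : Fin n → ArSurf.VertComp R X)
    (hcov : ∀ x : X.left, X.hom.base x = closedPoint R → ∃ i, x ∈ Set.range (Γ i).ι.base) :
    (⋃ i, Set.range (Γ i).ι.base) = Models.specialFibreSet R X := by
  ext x
  constructor
  · intro hx
    obtain ⟨i, c, rfl⟩ := Set.mem_iUnion.1 hx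
    show X.hom.base ((Γ i).ι.base c) = closedPoint R
    have h := congrArg (fun φ => φ.base c) (Γ i).w
    simp only [Scheme.Hom.comp_base, TopCat.comp_app] at h
    rw [h]
    exact specMap_residue_apply R _
  · intro hx
    obtain ⟨i, hi⟩ := hcov x hx
    exact Set.mem_iUnion.2 ⟨i, hi⟩

/-- **`H^0` of a connected closed fibre with coprime multiplicities is a field** -/
theorem isField_specialFibre (hp : IsProper X.hom)
    (hreg : ∀ x : X.left, IsRegularLocalRing (X.left.presheaf.stalk x))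
    {n : ℕ} (Γ : Fin n → ArSurf.VertComp R X) (hΓ : Models.IsComponentList R X Γ)
    (hconn : _root_.IsConnected (Models.specialFibreSet R X))
    (hgcd : Models.multGcd R X Γ = 1) :
    IsField ↑Γ((Models.specialFibreIdeal R X).subscheme, ⊤) := by
  classical
  have hinj := hΓ.1
  have hcov := SpFib.cover_of_isComponentList R X Γ hΓ
  obtain ⟨L, hL⟩ := PicV.exists_inverse_family R X hreg Γ hinj hcov
  have hconn' : _root_.IsConnected (⋃ i, Set.range (Γ i).ι.base) := by
    rw [iUnion_range_eq R X Γ hcov]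
    exact hconn
  have hinv : ∀ j, PicF.IsInvertible (ClSub.idealMod (Γ j).ι.ker) := fun j =>
    ArInt.isInvertible_idealMod_of_isInverseOf R X _ (L j) (hL j)
  have hmne : ∀ j, Models.mult R X (Γ j) ≠ 0 := fun j =>
    SpFib.mult_ne_zero R X hreg Γ hinj hcov j
  have hc : ∀ i j, ArSurf.inter R X (L j) (Γ i) = ArSurf.inter R X (L i) (Γ j) := by
    intro i j
    by_cases hij : i = j
    · subst hij
      rfl
    · exact ArInt.inter_symm R X hp (Γ i) (Γ j) (fun e => hij (hinj e)) (L i) (L j)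
        (hL i) (hL j)
  have hoff : ∀ i j, i ≠ j → 0 ≤ ArSurf.inter R X (L j) (Γ i) := by
    intro i j hij
    have hne : Set.range (Γ i).ι.base ≠ Set.range (Γ j).ι.base := fun e => hij (hinj e)
    exact (ArInt.inter_nonneg_and_eq_zero_iff R X hp (Γ i) (Γ j).ι.ker (hinv j)
      (L j) (hL j) (ArInt.genPt_notMem R X (Γ i) (Γ j) hne)).1
  have hcm : ∀ i, ∑ j, (Models.mult R X (Γ j) : ℤ) * ArSurf.inter R X (L j) (Γ i) = 0 :=
    fun i => SpFib.sum_mult_mul_inter_eq_zero R X hp hreg Γ hinj hcov L hL i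
  have hconnI : ∀ I : Finset (Fin n), I.Nonempty → I ≠ Finset.univ →
      ∃ i ∈ I, ∃ j ∉ I, ArSurf.inter R X (L j) (Γ i) ≠ 0 := fun I hI hI' =>
    exists_inter_ne_zero_of_isConnected R X hp Γ hinj hconn' L hL I hI hI'
  have hmin : ∀ z' : Fin n → ℕ, (∀ i, 1 ≤ z' i) →
      (∀ i, ∑ j, (z' j : ℤ) * ArSurf.inter R X (L j) (Γ i) ≤ 0) →
      ∀ i, Models.mult R X (Γ i) ≤ z' i := fun z' hz1 hz =>
    mult_le_of_nonpos (fun i j => ArSurf.inter R X (L j) (Γ i)) hc hoff
      (fun j => Models.mult R X (Γ j)) (fun j => Nat.pos_of_ne_zero (hmne j)) hcm hconnI hgcd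
      z' hz1 hz
  have hF := isField_fund R X hp Γ hinj hconn' L hL (fun j => Models.mult R X (Γ j))
    (fun j => Nat.one_le_iff_ne_zero.2 (hmne j)) (fun i => (hcm i).le) hmin
  rw [SpFib.specialFibreIdeal_eq_prod R X hreg Γ hinj hcov]
  exact hF

set_option maxHeartbeats 1600000 in
/-- restriction of global functions to the closed fibre is surjective when `H^0` of the closed
fibre is a field -/
theorem surjective_app_top [PerfectField (IsLocalRing.ResidueField R)] (hp : IsProper X.hom)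
    (J : X.left.IdealSheafData) (hA : IsField ↑Γ(J.subscheme, ⊤))
    (hJ : J = (Curv2.idealSheaf R (maximalIdeal R)).comap X.hom) :
    ∀ s : ↑Γ(J.subscheme, ⊤), ∃ b : ↑Γ(X.left, ⊤), (J.subschemeι.app ⊤).hom b = s := by
  haveI : IsProper X.hom := hp
  haveI : IsProper X.left.toSpecΓ := isProper_toSpecΓ X.hom
  haveI : IsNoetherianRing ↑Γ(X.left, ⊤) := isNoetherianRing_Γ R X.hom
  let ρ : ↑Γ(X.left, ⊤) →+* ↑Γ(J.subscheme, ⊤) := (J.subschemeι.app ⊤).hom
  let φB : R →+* ↑Γ(X.left, ⊤) :=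
    X.hom.appTop.hom.comp (Scheme.ΓSpecIso (CommRingCat.of R)).inv.hom
  let φ : R →+* ↑Γ(J.subscheme, ⊤) :=
    (J.subschemeι ≫ X.hom).appTop.hom.comp (Scheme.ΓSpecIso (CommRingCat.of R)).inv.hom
  have hBint : φB.IsIntegral := (finite_toGlobal R X.hom).to_isIntegral
  have hφint : φ.IsIntegral := (finite_subscheme R X.hom J).to_isIntegral
  have hφr : ∀ r : R, φ r = ρ (φB r) := by
    intro r
    show ((J.subschemeι ≫ X.hom).appTop.hom.comp
      (Scheme.ΓSpecIso (CommRingCat.of R)).inv.hom) r = _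
    rw [RingHom.comp_apply, Scheme.Hom.comp_appTop]
    rfl
  have hcomp : ρ.comp φB = φ := RingHom.ext (fun r => (hφr r).symm)
  haveI : IsDomain ↑Γ(J.subscheme, ⊤) := hA.isDomain
  have hbot : (⊥ : Ideal ↑Γ(J.subscheme, ⊤)).IsMaximal := by
    letI := hA.toField
    exact Ideal.bot_isMaximal
  haveI := hbot
  have hmaxφ : ((⊥ : Ideal ↑Γ(J.subscheme, ⊤)).comap φ).IsMaximal :=
    Ideal.isMaximal_comap_of_isIntegral_of_isMaximal' φ hφint ⊥
  have hker : (⊥ : Ideal ↑Γ(J.subscheme, ⊤)).comap φ = maximalIdeal R :=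
    IsLocalRing.eq_maximalIdeal hmaxφ
  have hm : ∀ r ∈ maximalIdeal R, ρ (φB r) = 0 := by
    intro r hr
    rw [← hker] at hr
    have h1 : φ r = 0 := hr
    rw [hφr] at h1
    exact h1
  have hρint : ρ.IsIntegral := by
    apply RingHom.IsIntegral.tower_top φB ρ
    rw [hcomp]
    exact hφint
  haveI hmaxρ : (RingHom.ker ρ).IsMaximal :=
    Ideal.isMaximal_comap_of_isIntegral_of_isMaximal' ρ hρint ⊥
  have hI : J ≤ (pullback.fst X.left.toSpecΓ
      (Spec.map (CommRingCat.ofHom (Ideal.Quotient.mk (RingHom.ker ρ))))).ker :=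
    le_trans (le_of_eq hJ) (comap_le_ker_fst X (maximalIdeal R) (RingHom.ker ρ) (fun r hr => by
      rw [RingHom.mem_ker]
      exact hm r hr))
  have hpow : ∀ a : ↑Γ(J.subscheme, ⊤), ∃ (n : ℕ) (b : ↑Γ(X.left, ⊤)),
      a ^ (ringExpChar (↑Γ(X.left, ⊤) ⧸ RingHom.ker ρ)) ^ n = ρ b :=
    pow_mem_range X.left J hA (RingHom.ker ρ) hI
  exact surjective_of_perfect hA φB ρ hBint hm hpow

/-- **cohomological flatness in degree zero** -/
theorem surjective_H0 [PerfectField (IsLocalRing.ResidueField R)] (hp : IsProper X.hom)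
    (hreg : ∀ x : X.left, IsRegularLocalRing (X.left.presheaf.stalk x))
    {n : ℕ} (Γ : Fin n → ArSurf.VertComp R X) (hΓ : Models.IsComponentList R X Γ)
    (hconn : _root_.IsConnected (Models.specialFibreSet R X))
    (hgcd : Models.multGcd R X Γ = 1) :
    Function.Surjective (Sheaf.H.map ((SheafOfModules.toSheaf X.left.ringCatSheaf).map
      (ClSub.toSubscheme (Models.specialFibreIdeal R X))) 0) := by
  have hA := isField_specialFibre R X hp hreg Γ hΓ hconn hgcd
  have hsurj := surjective_app_top R X hp (Models.specialFibreIdeal R X) hA rfl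
  intro y
  obtain ⟨b, hb⟩ := hsurj (ofQ (Models.specialFibreIdeal R X) ⊤
    (HH0.equiv X.left (ClSub.quotMod (Models.specialFibreIdeal R X)) y))
  refine ⟨(HH0.equiv X.left (Coh.structureModule X.left)).symm b, ?_⟩
  apply (HH0.equiv X.left (ClSub.quotMod (Models.specialFibreIdeal R X))).injective
  have hnat := Sheaf.H.equiv₀_naturality (Limits.isTerminalTop (α := Opens X.left))
    ((SheafOfModules.toSheaf X.left.ringCatSheaf).map
      (ClSub.toSubscheme (Models.specialFibreIdeal R X)))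
    ((HH0.equiv X.left (Coh.structureModule X.left)).symm b)
  refine hnat.symm.trans ?_
  have h2 : HH0.equiv X.left (Coh.structureModule X.left)
      ((HH0.equiv X.left (Coh.structureModule X.left)).symm b) = b :=
    AddEquiv.apply_symm_apply _ b
  show (ClSub.toSubscheme (Models.specialFibreIdeal R X)).app ⊤
    (HH0.equiv X.left (Coh.structureModule X.left)
      ((HH0.equiv X.left (Coh.structureModule X.left)).symm b)) = _
  rw [h2]
  exact hb

end Main

end Groth.Agent.Helper1.ZarF
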