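import Mathlib
import Groth.Agent.Lib.Helper1.CompL2
import Groth.Agent.Lib.Helper1.SpFib7
import Groth.Agent.Lib.Helper1.ZarF2

/-!
# The intersection form on vertical divisors is negative semi-definite (helper1)
-/

set_option autoImplicit false
universe u
open CategoryTheory CategoryTheory.Limits AlgebraicGeometry TopologicalSpace Opposite IsLocalRing

namespace Groth.Agent.Helper1.VForm

open Groth.Agent.Helper1

section Alg

theorem quad_nonpos {n : ℕ} (N : Fin n → Fin n → ℤ) (hsymm : ∀ u v, N u v = N v u)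
    (hoff : ∀ u v, u ≠ v → 0 ≤ N u v) (m : Fin n → ℕ) (hm : ∀ u, m u ≠ 0)
    (hNm : ∀ u, ∑ v, (m v : ℤ) * N u v = 0) (x : Fin n → ℤ) :
    ∑ u, ∑ v, x u * x v * N u v ≤ 0 := by
  have hm' : ∀ u, (m u : ℚ) ≠ 0 := fun u => Nat.cast_ne_zero.2 (hm u)
  let y : Fin n → ℚ := fun u => (x u : ℚ) / m u
  let W : Fin n → Fin n → ℚ := fun u v => (N u v : ℚ) * m u * m v
  have hWsymm : ∀ u v, W u v = W v u := by
    intro u v
    show (N u v : ℚ) * m u * m v = (N v u : ℚ) * m v * m u
    rw [hsymm u v]
    ring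
  have hrow : ∀ u, ∑ v, W u v = 0 := by
    intro u
    have h : (∑ v, ((m v : ℤ) : ℚ) * (N u v : ℚ)) = 0 := by exact_mod_cast hNm u
    calc ∑ v, W u v = (m u : ℚ) * ∑ v, ((m v : ℤ) : ℚ) * (N u v : ℚ) := by
          rw [Finset.mul_sum]
          apply Finset.sum_congr rfl
          intro v _
          show (N u v : ℚ) * m u * m v = (m u : ℚ) * (((m v : ℤ) : ℚ) * (N u v : ℚ))
          push_cast
          ring
      _ = 0 := by rw [h, mul_zero]
  have hcol : ∀ v, ∑ u, W u v = 0 := fun v => by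
    rw [← hrow v]
    exact Finset.sum_congr rfl (fun u _ => hWsymm u v)
  have hterm : ∀ u v, (x u : ℚ) * x v * N u v = W u v * y u * y v := by
    intro u v
    show (x u : ℚ) * x v * N u v = (N u v : ℚ) * m u * m v * ((x u : ℚ) / m u) * ((x v : ℚ) / m v)
    have h1 := hm' u
    have h2 := hm' v
    field_simp
  have e1 : ∑ u, ∑ v, W u v * (y u) ^ 2 = 0 := by
    apply Finset.sum_eq_zero
    intro u _
    rw [← Finset.sum_mul, hrow u, zero_mul]
  have e2 : ∑ u, ∑ v, W u v * (y v) ^ 2 = 0 := by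
    rw [Finset.sum_comm]
    apply Finset.sum_eq_zero
    intro v _
    rw [← Finset.sum_mul, hcol v, zero_mul]
  have e3 : ∀ u v, W u v * (y u - y v) ^ 2 =
      W u v * (y u) ^ 2 + W u v * (y v) ^ 2 - 2 * (W u v * y u * y v) := by
    intro u v
    ring
  have hexp : ∑ u, ∑ v, W u v * (y u - y v) ^ 2 = -2 * ∑ u, ∑ v, W u v * y u * y v := by
    calc ∑ u, ∑ v, W u v * (y u - y v) ^ 2
        = ∑ u, ∑ v, (W u v * (y u) ^ 2 + W u v * (y v) ^ 2 - 2 * (W u v * y u * y v)) := by
          simp only [e3]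
      _ = (∑ u, ∑ v, W u v * (y u) ^ 2) + (∑ u, ∑ v, W u v * (y v) ^ 2) -
            2 * ∑ u, ∑ v, W u v * y u * y v := by
          simp only [Finset.sum_sub_distrib, Finset.sum_add_distrib, Finset.mul_sum]
      _ = -2 * ∑ u, ∑ v, W u v * y u * y v := by
          rw [e1, e2]
          ring
  have hnonneg : 0 ≤ ∑ u, ∑ v, W u v * (y u - y v) ^ 2 := by
    apply Finset.sum_nonneg
    intro u _
    apply Finset.sum_nonneg
    intro v _
    by_cases huv : u = v
    · rw [huv, sub_self]
      simp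
    · have h0 : (0 : ℚ) ≤ N u v := by exact_mod_cast hoff u v huv
      exact mul_nonneg (mul_nonneg (mul_nonneg h0 (Nat.cast_nonneg _)) (Nat.cast_nonneg _))
        (sq_nonneg _)
  have hq : (∑ u, ∑ v, (x u : ℚ) * x v * N u v) ≤ 0 := by
    simp only [hterm]
    linarith
  exact_mod_cast hq

theorem sum_fiber {n r : ℕ} (σ : Fin r → Fin n) (a : Fin r → ℤ) (f : Fin n → ℤ) :
    ∑ u, (∑ i, if σ i = u then a i else 0) * f u = ∑ i, a i * f (σ i) := by
  simp only [Finset.sum_mul]
  rw [Finset.sum_comm]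
  apply Finset.sum_congr rfl
  intro i _
  simp only [ite_mul, zero_mul]
  rw [Finset.sum_ite_eq]
  simp

theorem sum_regroup {n r : ℕ} (N : Fin n → Fin n → ℤ) (σ : Fin r → Fin n) (a : Fin r → ℤ) :
    ∑ p : Fin r × Fin r, a p.1 * a p.2 * N (σ p.1) (σ p.2) =
      ∑ u, ∑ v, (∑ i, if σ i = u then a i else 0) * (∑ j, if σ j = v then a j else 0) *
        N u v := by
  rw [Fintype.sum_prod_type]
  have h1 : ∀ u, ∑ v, (∑ i, if σ i = u then a i else 0) * (∑ j, if σ j = v then a j else 0) *
      N u v = (∑ i, if σ i = u then a i else 0) *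
        ∑ v, (∑ j, if σ j = v then a j else 0) * N u v := by
    intro u
    rw [Finset.mul_sum]
    apply Finset.sum_congr rfl
    intro v _
    ring
  simp only [h1]
  rw [sum_fiber σ a (fun u => ∑ v, (∑ j, if σ j = v then a j else 0) * N u v)]
  apply Finset.sum_congr rfl
  intro i _
  rw [sum_fiber σ a (fun v => N (σ i) v), Finset.mul_sum]
  apply Finset.sum_congr rfl
  intro j _
  ring

end Alg

section Geo

variable (R : Type u) [CommRing R] [IsDomain R] [IsDiscreteValuationRing R]
  (X : Over (Spec (CommRingCat.of R)))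

theorem isGenericPoint_genPt (G : ArSurf.VertComp R X) :
    IsGenericPoint (G.ι.base (genericPoint G.curve.left)) (Set.range G.ι.base) := by
  have h := (genericPoint_spec G.curve.left).image G.ι.continuous
  rw [Set.image_univ, G.ι.isClosedEmbedding.isClosed_range.closure_eq] at h
  exact h

theorem genPt_eq_of_range_eq (G G' : ArSurf.VertComp R X)
    (h : Set.range G.ι.base = Set.range G'.ι.base) :
    G.ι.base (genericPoint G.curve.left) = G'.ι.base (genericPoint G'.curve.left) := by
  have h1 := isGenericPoint_genPt R X G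
  have h2 := isGenericPoint_genPt R X G'
  rw [h] at h1
  exact h1.eq h2

theorem pt_congr {Y : Scheme.{u}} (U : Y.affineOpens) (x x' : Y) (e : x = x') (hx : x ∈ U.1)
    (hx' : x' ∈ U.1) : SpFib.pt U x hx = SpFib.pt U x' hx' := by
  subst e
  rfl

theorem ker_eq_of_range_eq (G G' : ArSurf.VertComp R X)
    (h : Set.range G.ι.base = Set.range G'.ι.base) : G.ι.ker = G'.ι.ker := by
  have hg := genPt_eq_of_range_eq R X G G' h
  apply Scheme.IdealSheafData.ext
  funext U
  by_cases hU : G.ι.base (genericPoint G.curve.left) ∈ U.1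
  · have hU' : G'.ι.base (genericPoint G'.curve.left) ∈ U.1 := by rw [← hg]; exact hU
    rw [SpFib.ker_eq_pt R X G U hU, SpFib.ker_eq_pt R X G' U hU']
    exact pt_congr U _ _ hg hU hU'
  · have hU' : G'.ι.base (genericPoint G'.curve.left) ∉ U.1 := by rw [← hg]; exact hU
    rw [SpFib.ker_eq_top_of_notMem R X G U hU, SpFib.ker_eq_top_of_notMem R X G' U hU']

variable [IsLocallyNoetherian X.left]

theorem exists_idx {n : ℕ} (C : Fin n → ArSurf.VertComp R X)
    (hcov : ∀ x : X.left, X.hom.base x = closedPoint R → ∃ i, x ∈ Set.range (C i).ι.base)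
    (G : ArSurf.VertComp R X) : ∃ u, Set.range G.ι.base = Set.range (C u).ι.base := by
  have hmem : X.hom.base (G.ι.base (genericPoint G.curve.left)) = closedPoint R :=
    SpFib.range_subset_fibre R X G _
  obtain ⟨u, hu⟩ := hcov _ hmem
  refine ⟨u, ?_⟩
  by_contra hne
  refine ArInt.genPt_notMem R X G (C u) hne ?_
  rw [Scheme.Hom.support_ker, (C u).ι.isClosedEmbedding.isClosed_range.closure_eq]
  exact hu

variable (hp : IsProper X.hom)
  (hreg : ∀ x : X.left, IsRegularLocalRing (X.left.presheaf.stalk x))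
  [Flat X.hom] {n : ℕ} (C : Fin n → ArSurf.VertComp R X)
  (hinj : Function.Injective fun i => Set.range (C i).ι.base)
  (hcov : ∀ x : X.left, X.hom.base x = closedPoint R → ∃ i, x ∈ Set.range (C i).ι.base)
  (M : Fin n → X.left.Modules)
  (hM : ∀ j, ClSub.IsInverseOf (M j) (ClSub.idealMod (C j).ι.ker))

include hp hreg hinj hcov hM in
/-- the closed fibre is numerically trivial on every vertical prime divisor -/
theorem sum_mult_mul_inter_eq_zero' (G : ArSurf.VertComp R X) :
    ∑ j, (Models.mult R X (C j) : ℤ) * ArSurf.inter R X (M j) G = 0 := by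
  haveI : IsProper (G.curve.left ↘ Spec (CommRingCat.of (IsLocalRing.ResidueField R))) :=
    ArInt.isProper_curve R X hp G
  have hinv : ∀ j, PicF.IsInvertible (ClSub.idealMod (C j).ι.ker) := fun j =>
    ArInt.isInvertible_idealMod_of_isInverseOf R X _ (M j) (hM j)
  have h1 : ∀ j, ArSurf.inter R X (M j) G =
      - SpFib.δ (IsLocalRing.ResidueField R) G.ι (C j).ι.ker := fun j =>
    ArInt.inter_eq_neg_curveDeg R X hp G _ (hinv j) (M j) (hM j)
  have h2 := (SpFib.δ_prod (IsLocalRing.ResidueField R) G.dim_eq G.ι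
    (fun j => (C j).ι.ker) (fun j => Models.mult R X (C j)) hinv Finset.univ).2
  rw [← SpFib.specialFibreIdeal_eq_prod R X hreg C hinj hcov] at h2
  obtain ⟨e⟩ := SpFib.nonempty_iso_specialFibreIdeal R X
  have h3 := SpFib.δ_eq_zero_of_iso (IsLocalRing.ResidueField R) G.dim_eq G.ι _ e
  rw [h3] at h2
  simp only [h1, mul_neg, Finset.sum_neg_distrib]
  rw [← h2, neg_zero]

include hp hreg hinj hcov hM in
theorem inter_eq_of_range_eq (G : ArSurf.VertComp R X) (u : Fin n)
    (hu : Set.range G.ι.base = Set.range (C u).ι.base) (v : Fin n) :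
    ArSurf.inter R X (M v) G = ArSurf.inter R X (M v) (C u) := by
  have hker := ker_eq_of_range_eq R X G (C u) hu
  have hinv : ∀ j, PicF.IsInvertible (ClSub.idealMod (C j).ι.ker) := fun j =>
    ArInt.isInvertible_idealMod_of_isInverseOf R X _ (M j) (hM j)
  have hoffd : ∀ w, w ≠ u → ArSurf.inter R X (M w) G = ArSurf.inter R X (M w) (C u) := by
    intro w hw
    have hne' : Set.range (C u).ι.base ≠ Set.range (C w).ι.base := fun e => hw (hinj e).symm
    have hne : Set.range G.ι.base ≠ Set.range (C w).ι.base := by rw [hu]; exact hne'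
    rw [ArInt.inter_eq_lengthH R X hp G (C w).ι.ker (hinv w) (M w) (hM w)
        (ArInt.genPt_notMem R X G (C w) hne),
      ArInt.inter_eq_lengthH R X hp (C u) (C w).ι.ker (hinv w) (M w) (hM w)
        (ArInt.genPt_notMem R X (C u) (C w) hne'), hker]
  by_cases hvu : v = u
  · subst hvu
    have hG := sum_mult_mul_inter_eq_zero' R X hp hreg C hinj hcov M hM G
    have hC := sum_mult_mul_inter_eq_zero' R X hp hreg C hinj hcov M hM (C v)
    have hdiff : ∑ j, (Models.mult R X (C j) : ℤ) *
        (ArSurf.inter R X (M j) G - ArSurf.inter R X (M j) (C v)) = 0 := by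
      simp only [mul_sub, Finset.sum_sub_distrib]
      rw [hG, hC, sub_zero]
    rw [Finset.sum_eq_single v (fun j _ hj => by rw [hoffd j hj, sub_self, mul_zero])
      (fun h => absurd (Finset.mem_univ v) h)] at hdiff
    have hm : (Models.mult R X (C v) : ℤ) ≠ 0 :=
      Int.natCast_ne_zero.2 (SpFib.mult_ne_zero R X hreg C hinj hcov v)
    have := (mul_eq_zero.1 hdiff).resolve_left hm
    linarith
  · exact hoffd v hvu

include hp hreg hinj hcov hM in
set_option maxHeartbeats 800000 in
/-- **the intersection form on vertical prime divisors is negative semi-definite** -/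
theorem form_nonpos {r : ℕ} (Γ : Fin r → ArSurf.VertComp R X) (L : Fin r → X.left.Modules)
    (hL : ∀ j, ClSub.IsInverseOf (L j) (ClSub.idealMod (Γ j).ι.ker)) (a : Fin r → ℤ) :
    (Finset.univ : Finset (Fin r × Fin r)).sum
      (fun p => a p.1 * a p.2 * ArSurf.inter R X (L p.2) (Γ p.1)) ≤ 0 := by
  classical
  choose σ hσ using fun i => exists_idx R X C hcov (Γ i)
  have hinv : ∀ j, PicF.IsInvertible (ClSub.idealMod (C j).ι.ker) := fun j =>
    ArInt.isInvertible_idealMod_of_isInverseOf R X _ (M j) (hM j)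
  have hinvΓ : ∀ j, PicF.IsInvertible (ClSub.idealMod (Γ j).ι.ker) := fun j =>
    ArInt.isInvertible_idealMod_of_isInverseOf R X _ (L j) (hL j)
  let N : Fin n → Fin n → ℤ := fun u v => ArSurf.inter R X (M v) (C u)
  have hkey : ∀ i j, ArSurf.inter R X (L j) (Γ i) = N (σ i) (σ j) := by
    intro i j
    have hk : (Γ j).ι.ker = (C (σ j)).ι.ker := ker_eq_of_range_eq R X (Γ j) (C (σ j)) (hσ j)
    have e1 := ArInt.inter_eq_neg_curveDeg R X hp (Γ i) (Γ j).ι.ker (hinvΓ j) (L j) (hL j)
    have e2 := ArInt.inter_eq_neg_curveDeg R X hp (Γ i) (C (σ j)).ι.ker (hinv (σ j))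
      (M (σ j)) (hM (σ j))
    rw [hk] at e1
    rw [e1, ← e2]
    exact inter_eq_of_range_eq R X hp hreg C hinj hcov M hM (Γ i) (σ i) (hσ i) (σ j)
  have hsum : (Finset.univ : Finset (Fin r × Fin r)).sum
      (fun p => a p.1 * a p.2 * ArSurf.inter R X (L p.2) (Γ p.1)) =
      ∑ p : Fin r × Fin r, a p.1 * a p.2 * N (σ p.1) (σ p.2) := by
    apply Finset.sum_congr rfl
    intro p _
    rw [hkey]
  rw [hsum, sum_regroup N σ a]
  have hne : ∀ i j, i ≠ j → Set.range (C i).ι.base ≠ Set.range (C j).ι.base :=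
    fun i j hij h => hij (hinj h)
  refine quad_nonpos N ?_ ?_ (fun u => Models.mult R X (C u))
    (SpFib.mult_ne_zero R X hreg C hinj hcov) ?_ _
  · intro u v
    by_cases huv : u = v
    · rw [huv]
    · exact ArInt.inter_symm R X hp (C u) (C v) (hne u v huv) (M u) (M v) (hM u) (hM v)
  · intro u v huv
    exact (ArInt.inter_nonneg_and_eq_zero_iff R X hp (C u) (C v).ι.ker (hinv v) (M v) (hM v)
      (ArInt.genPt_notMem R X (C u) (C v) (hne u v huv))).1
  · intro u
    exact SpFib.sum_mult_mul_inter_eq_zero R X hp hreg C hinj hcov M hM u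

end Geo

end Groth.Agent.Helper1.VForm
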