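import Mathlib
import Groth.Agent.Lib.Helper1.VForm1
import Groth.Agent.Lib.Helper7.GeomConn.ZarNormal

/-!
# Negative definiteness of the intersection form on contracted vertical divisors (helper1)
-/

set_option autoImplicit false
universe u
open CategoryTheory CategoryTheory.Limits AlgebraicGeometry TopologicalSpace Opposite IsLocalRing

namespace Groth.Agent.Helper1.VNeg

open Groth.Agent.Helper1

section Alg

theorem quad_identity {n : ℕ} (N : Fin n → Fin n → ℤ) (hsymm : ∀ u v, N u v = N v u)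
    (m : Fin n → ℕ) (hm : ∀ u, m u ≠ 0)
    (hNm : ∀ u, ∑ v, (m v : ℤ) * N u v = 0) (x : Fin n → ℤ) :
    ∑ u, ∑ v, ((N u v : ℚ) * m u * m v) * ((x u : ℚ) / m u - (x v : ℚ) / m v) ^ 2 =
      -2 * ∑ u, ∑ v, (x u : ℚ) * x v * N u v := by
  have hm' : ∀ u, (m u : ℚ) ≠ 0 := fun u => Nat.cast_ne_zero.2 (hm u)
  let y : Fin n → ℚ := fun u => (x u : ℚ) / m u
  let W : Fin n → Fin n → ℚ := fun u v => (N u v : ℚ) * m u * m v
  have hWsymm : ∀ u v, W u v = W v u := by
    intro u v
    show (N u v : ℚ) * m u * m v = (N v u : ℚ) * m v * m u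
    rw [hsymm u v]
    ring
  have hrow : ∀ u, ∑ v, W u v = 0 := by
    intro u
    have h : (∑ v, ((m v : ℤ) : ℚ) * (N u v : ℚ)) = 0 := by exact_mod_cast hNm u
    calc ∑ v, W u v = (m u : ℚ) * ∑ v, ((m v : ℤ) : ℚ) * (N u v : ℚ) := by
          rw [Finset.mul_sum]
          apply Finset.sum_congr rfl
          intro v _
          show (N u v : ℚ) * m u * m v = (m u : ℚ) * (((m v : ℤ) : ℚ) * (N u v : ℚ))
          push_cast
          ring
      _ = 0 := by rw [h, mul_zero]
  have hcol : ∀ v, ∑ u, W u v = 0 := fun v => by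
    rw [← hrow v]
    exact Finset.sum_congr rfl (fun u _ => hWsymm u v)
  have hterm : ∀ u v, (x u : ℚ) * x v * N u v = W u v * y u * y v := by
    intro u v
    show (x u : ℚ) * x v * N u v = (N u v : ℚ) * m u * m v * ((x u : ℚ) / m u) * ((x v : ℚ) / m v)
    have h1 := hm' u
    have h2 := hm' v
    field_simp
  have e1 : ∑ u, ∑ v, W u v * (y u) ^ 2 = 0 := by
    apply Finset.sum_eq_zero
    intro u _
    rw [← Finset.sum_mul, hrow u, zero_mul]
  have e2 : ∑ u, ∑ v, W u v * (y v) ^ 2 = 0 := by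
    rw [Finset.sum_comm]
    apply Finset.sum_eq_zero
    intro v _
    rw [← Finset.sum_mul, hcol v, zero_mul]
  have e3 : ∀ u v, W u v * (y u - y v) ^ 2 =
      W u v * (y u) ^ 2 + W u v * (y v) ^ 2 - 2 * (W u v * y u * y v) := by
    intro u v
    ring
  have hexp : ∑ u, ∑ v, W u v * (y u - y v) ^ 2 = -2 * ∑ u, ∑ v, W u v * y u * y v := by
    calc ∑ u, ∑ v, W u v * (y u - y v) ^ 2
        = ∑ u, ∑ v, (W u v * (y u) ^ 2 + W u v * (y v) ^ 2 - 2 * (W u v * y u * y v)) := by
          simp only [e3]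
      _ = (∑ u, ∑ v, W u v * (y u) ^ 2) + (∑ u, ∑ v, W u v * (y v) ^ 2) -
            2 * ∑ u, ∑ v, W u v * y u * y v := by
          simp only [Finset.sum_sub_distrib, Finset.sum_add_distrib, Finset.mul_sum]
      _ = -2 * ∑ u, ∑ v, W u v * y u * y v := by
          rw [e1, e2]
          ring
  simp only [hterm]
  exact hexp

theorem quad_eq_zero {n : ℕ} (N : Fin n → Fin n → ℤ) (hsymm : ∀ u v, N u v = N v u)
    (hoff : ∀ u v, u ≠ v → 0 ≤ N u v) (m : Fin n → ℕ) (hm : ∀ u, m u ≠ 0)
    (hNm : ∀ u, ∑ v, (m v : ℤ) * N u v = 0) (x : Fin n → ℤ)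
    (h0 : ∑ u, ∑ v, x u * x v * N u v = 0) (u v : Fin n) (huv : u ≠ v) (hN : N u v ≠ 0) :
    x u * m v = x v * m u := by
  have hid := quad_identity N hsymm m hm hNm x
  have h0' : (∑ u, ∑ v, (x u : ℚ) * x v * N u v) = 0 := by exact_mod_cast h0
  rw [h0', mul_zero] at hid
  have hnn : ∀ u v, 0 ≤ ((N u v : ℚ) * m u * m v) * ((x u : ℚ) / m u - (x v : ℚ) / m v) ^ 2 := by
    intro u v
    by_cases huv : u = v
    · rw [huv, sub_self]
      simp
    · have h0 : (0 : ℚ) ≤ N u v := by exact_mod_cast hoff u v huv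
      exact mul_nonneg (mul_nonneg (mul_nonneg h0 (Nat.cast_nonneg _)) (Nat.cast_nonneg _))
        (sq_nonneg _)
  have h1 := (Finset.sum_eq_zero_iff_of_nonneg
    (fun u _ => Finset.sum_nonneg (fun v _ => hnn u v))).1 hid u (Finset.mem_univ u)
  have h2 := (Finset.sum_eq_zero_iff_of_nonneg (fun v _ => hnn u v)).1 h1 v (Finset.mem_univ v)
  have hmu : (m u : ℚ) ≠ 0 := Nat.cast_ne_zero.2 (hm u)
  have hmv : (m v : ℚ) ≠ 0 := Nat.cast_ne_zero.2 (hm v)
  have hNq : (N u v : ℚ) ≠ 0 := by exact_mod_cast hN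
  have h3 : ((x u : ℚ) / m u - (x v : ℚ) / m v) ^ 2 = 0 := by
    rcases mul_eq_zero.1 h2 with h | h
    · exact absurd h (mul_ne_zero (mul_ne_zero hNq hmu) hmv)
    · exact h
  have h4 : (x u : ℚ) / m u = (x v : ℚ) / m v := by
    have h5 := pow_eq_zero_iff (two_ne_zero) |>.1 h3
    linarith
  have h5 : (x u : ℚ) * m v = x v * m u := by
    rw [div_eq_div_iff hmu hmv] at h4
    exact h4
  exact_mod_cast h5

end Alg

section Geo

variable (R : Type u) [CommRing R] [IsDomain R] [IsDiscreteValuationRing R]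
  (X : Over (Spec (CommRingCat.of R))) [IsLocallyNoetherian X.left]
  (hp : IsProper X.hom)
  (hreg : ∀ x : X.left, IsRegularLocalRing (X.left.presheaf.stalk x))
  [Flat X.hom] {n : ℕ} (C : Fin n → ArSurf.VertComp R X)
  (hinj : Function.Injective fun i => Set.range (C i).ι.base)
  (hcov : ∀ x : X.left, X.hom.base x = closedPoint R → ∃ i, x ∈ Set.range (C i).ι.base)
  (M : Fin n → X.left.Modules)
  (hM : ∀ j, ClSub.IsInverseOf (M j) (ClSub.idealMod (C j).ι.ker))

include hp hreg hinj hcov hM in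
set_option maxHeartbeats 800000 in
/-- the intersection form is negative definite on a family of vertical prime divisors no
subfamily of which is a union of connected components of the closed fibre -/
theorem form_neg {r : ℕ} (Γ : Fin r → ArSurf.VertComp R X)
    (hΓ : Function.Injective fun i => Set.range (Γ i).ι.base)
    (L : Fin r → X.left.Modules)
    (hL : ∀ j, ClSub.IsInverseOf (L j) (ClSub.idealMod (Γ j).ι.ker))
    (hmeet : ∀ I : Set (Fin r), I.Nonempty → ∃ i ∈ I, ∃ x ∈ Set.range (Γ i).ι.base, ∃ w,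
      (∀ j ∈ I, Set.range (C w).ι.base ≠ Set.range (Γ j).ι.base) ∧
        x ∈ Set.range (C w).ι.base)
    (a : Fin r → ℤ) (ha : a ≠ 0) :
    (Finset.univ : Finset (Fin r × Fin r)).sum
      (fun p => a p.1 * a p.2 * ArSurf.inter R X (L p.2) (Γ p.1)) < 0 := by
  classical
  have hle := VForm.form_nonpos R X hp hreg C hinj hcov M hM Γ L hL a
  refine lt_of_le_of_ne hle ?_
  intro h0
  choose σ hσ using fun i => VForm.exists_idx R X C hcov (Γ i)
  have hinv : ∀ j, PicF.IsInvertible (ClSub.idealMod (C j).ι.ker) := fun j =>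
    ArInt.isInvertible_idealMod_of_isInverseOf R X _ (M j) (hM j)
  have hinvΓ : ∀ j, PicF.IsInvertible (ClSub.idealMod (Γ j).ι.ker) := fun j =>
    ArInt.isInvertible_idealMod_of_isInverseOf R X _ (L j) (hL j)
  let N : Fin n → Fin n → ℤ := fun u v => ArSurf.inter R X (M v) (C u)
  have hkey : ∀ i j, ArSurf.inter R X (L j) (Γ i) = N (σ i) (σ j) := by
    intro i j
    have hk : (Γ j).ι.ker = (C (σ j)).ι.ker :=
      VForm.ker_eq_of_range_eq R X (Γ j) (C (σ j)) (hσ j)
    have e1 := ArInt.inter_eq_neg_curveDeg R X hp (Γ i) (Γ j).ι.ker (hinvΓ j) (L j) (hL j)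
    have e2 := ArInt.inter_eq_neg_curveDeg R X hp (Γ i) (C (σ j)).ι.ker (hinv (σ j))
      (M (σ j)) (hM (σ j))
    rw [hk] at e1
    rw [e1, ← e2]
    exact VForm.inter_eq_of_range_eq R X hp hreg C hinj hcov M hM (Γ i) (σ i) (hσ i) (σ j)
  have hsum : (Finset.univ : Finset (Fin r × Fin r)).sum
      (fun p => a p.1 * a p.2 * ArSurf.inter R X (L p.2) (Γ p.1)) =
      ∑ p : Fin r × Fin r, a p.1 * a p.2 * N (σ p.1) (σ p.2) := by
    apply Finset.sum_congr rfl
    intro p _
    rw [hkey]
  rw [hsum, VForm.sum_regroup N σ a] at h0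
  have hne : ∀ i j, i ≠ j → Set.range (C i).ι.base ≠ Set.range (C j).ι.base :=
    fun i j hij h => hij (hinj h)
  let I : Set (Fin r) := {i | a i ≠ 0}
  have hI : I.Nonempty := by
    by_contra hne'
    apply ha
    funext i
    by_contra hi
    exact hne' ⟨i, hi⟩
  obtain ⟨i, hiI, x, hxi, w, hw, hxw⟩ := hmeet I hI
  have hσinj : Function.Injective σ := by
    intro i j hij
    apply hΓ
    show Set.range (Γ i).ι.base = Set.range (Γ j).ι.base
    rw [hσ i, hσ j, hij]
  have hxu : (∑ i', if σ i' = σ i then a i' else 0) = a i := by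
    rw [Finset.sum_eq_single i]
    · simp
    · intro b _ hb
      rw [if_neg (fun h => hb (hσinj h))]
    · intro h
      exact absurd (Finset.mem_univ i) h
  have hxw0 : (∑ j, if σ j = w then a j else 0) = 0 := by
    apply Finset.sum_eq_zero
    intro j _
    split_ifs with hj
    · by_contra haj
      exact hw j haj (by rw [hσ j, hj])
    · rfl
  have huw : σ i ≠ w := by
    intro h
    exact hw i hiI (by rw [hσ i, h])
  have hNne : N (σ i) w ≠ 0 := by
    intro hN
    have hd := (ArInt.inter_nonneg_and_eq_zero_iff R X hp (C (σ i)) (C w).ι.ker (hinv w) (M w)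
      (hM w) (ArInt.genPt_notMem R X (C (σ i)) (C w) (hne _ _ huw))).2.1 hN
    rw [Scheme.Hom.support_ker, (C w).ι.isClosedEmbedding.isClosed_range.closure_eq] at hd
    exact Set.disjoint_left.1 hd (by rw [← hσ i]; exact hxi) hxw
  have hq := quad_eq_zero N
    (by
      intro u v
      by_cases huv : u = v
      · rw [huv]
      · exact ArInt.inter_symm R X hp (C u) (C v) (hne u v huv) (M u) (M v) (hM u) (hM v))
    (by
      intro u v huv
      exact (ArInt.inter_nonneg_and_eq_zero_iff R X hp (C u) (C v).ι.ker (hinv v) (M v) (hM v)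
        (ArInt.genPt_notMem R X (C u) (C v) (hne u v huv))).1)
    (fun u => Models.mult R X (C u))
    (SpFib.mult_ne_zero R X hreg C hinj hcov)
    (fun u => SpFib.sum_mult_mul_inter_eq_zero R X hp hreg C hinj hcov M hM u)
    (fun u => ∑ i, if σ i = u then a i else 0) h0 (σ i) w huw hNne
  simp only [hxu, hxw0, zero_mul] at hq
  have hm : (Models.mult R X (C w) : ℤ) ≠ 0 :=
    Int.natCast_ne_zero.2 (SpFib.mult_ne_zero R X hreg C hinj hcov w)
  exact hiI ((mul_eq_zero.1 hq).resolve_right hm)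

end Geo

section Top

/-- Zariski's connectedness theorem for a proper birational morphism to a normal point -/
theorem preconnected_fibre_of_birational {X Y : Scheme.{u}} [IsIntegral X] [IsIntegral Y]
    [IsLocallyNoetherian Y] (f : X ⟶ Y) [IsProper f] (U : Y.Opens)
    (hU : (U : Set Y).Nonempty) (hiso : IsIso (f ∣_ U)) (y : Y)
    (hy : IsIntegrallyClosed (Y.presheaf.stalk y)) :
    _root_.IsPreconnected (f.base ⁻¹' {y}) ∧ Function.Surjective f.base := by
  obtain ⟨u0, hu0⟩ := hU
  have hηU : genericPoint Y ∈ U :=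
    ((genericPoint_spec Y).mem_open_set_iff U.isOpen).mpr ⟨u0, trivial, hu0⟩
  have hsurjU : ∀ z : U, ∃ x : ↥(f ⁻¹ᵁ U), (f ∣_ U).base x = z := by
    intro z
    let e := asIso (f ∣_ U)
    refine ⟨e.inv.base z, ?_⟩
    have h1 : (e.inv ≫ e.hom).base z = z := by
      rw [e.inv_hom_id]
      rfl
    exact h1
  obtain ⟨x0, hx0⟩ := hsurjU ⟨genericPoint Y, hηU⟩
  have hηr : genericPoint Y ∈ Set.range f.base := by
    refine ⟨x0.1, ?_⟩
    have h1 := morphismRestrict_base_coe f U x0
    rw [hx0] at h1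
    exact h1.symm
  have hrange_sub : Set.range f.base ⊆ closure {f.base (genericPoint X)} := by
    rintro _ ⟨x, rfl⟩
    have hx : x ∈ closure ({genericPoint X} : Set X) := by
      rw [(genericPoint_spec X).def]
      trivial
    have h1 := image_closure_subset_closure_image f.continuous (Set.mem_image_of_mem _ hx)
    rwa [Set.image_singleton] at h1
  have hdom : f.base (genericPoint X) ⤳ genericPoint Y :=
    specializes_iff_mem_closure.2 (hrange_sub hηr)
  have hξU : genericPoint X ∈ f ⁻¹ᵁ U := hdom.mem_open U.2 hηU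
  haveI hst : IsIso (f.stalkMap (genericPoint X)) := by
    have h1 : IsIso ((f ∣_ U).stalkMap ⟨genericPoint X, hξU⟩) :=
      ((isIso_iff_isIso_stalkMap (f ∣_ U)).1 hiso).2 _
    exact ((MorphismProperty.isomorphisms CommRingCat).arrow_mk_iso_iff
      (morphismRestrictStalkMap f U ⟨genericPoint X, hξU⟩)).1 h1
  have hsurjσ : Function.Surjective (CohIII.stalkToFunctionField f (genericPoint Y) hdom) := by
    have h' : genericPoint Y ⤳ f.base (genericPoint X) :=
      (genericPoint_spec Y).specializes trivial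
    have hcomp : Y.presheaf.stalkSpecializes h' ≫ Y.presheaf.stalkSpecializes hdom = 𝟙 _ := by
      rw [TopCat.Presheaf.stalkSpecializes_comp, TopCat.Presheaf.stalkSpecializes_refl]
    intro t
    obtain ⟨s, hs⟩ := (ConcreteCategory.bijective_of_isIso (f.stalkMap (genericPoint X))).2 t
    refine ⟨(Y.presheaf.stalkSpecializes h').hom s, ?_⟩
    show (f.stalkMap (genericPoint X)).hom ((Y.presheaf.stalkSpecializes hdom).hom
      ((Y.presheaf.stalkSpecializes h').hom s)) = t
    have h2 : (Y.presheaf.stalkSpecializes hdom).hom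
        ((Y.presheaf.stalkSpecializes h').hom s) = s := by
      have h3 := congrArg (fun φ => φ.hom s) hcomp
      simpa using h3
    rw [h2]
    exact hs
  obtain ⟨-, U', hyU', hU'⟩ := Groth.Agent.Helper7.GeomConn.ZC.fibration_near_normal_point f hdom
    (fun x _ => hsurjσ x) y hy
  obtain ⟨W, hWaff, hyW, hWU'⟩ := Opens.isBasis_iff_nbhd.mp Y.isBasis_affineOpens
    (show y ∈ U' from hyU')
  refine ⟨Groth.Agent.Helper7.GeomConn.ZC.isPreconnected_preimage_singleton f y W hWaff hyW
    (hU' W hWU'), ?_⟩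
  have hcl : IsClosed (Set.range f.base) := f.isClosedMap.isClosed_range
  have h1 : closure {genericPoint Y} ⊆ Set.range f.base :=
    hcl.closure_subset_iff.mpr (Set.singleton_subset_iff.mpr hηr)
  rw [(genericPoint_spec Y).def] at h1
  intro z
  exact h1 trivial

variable (R : Type u) [CommRing R] [IsDomain R] [IsDiscreteValuationRing R]

/-- the closed fibre of a flat integral surface over a discrete valuation ring has no isolated
closed point -/
theorem not_isolated (Y : Over (Spec (CommRingCat.of R))) [IsIntegral Y.left] [Flat Y.hom]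
    [LocallyOfFiniteType Y.hom] [QuasiCompact Y.hom]
    (hdim : topologicalKrullDim Y.left = 2) (y : Y.left) (hys : Y.hom.base y = closedPoint R)
    (hy : IsClosed ({y} : Set Y.left)) (O : Set Y.left) (hO : IsOpen O)
    (hOy : O ∩ Models.specialFibreSet R Y ⊆ {y}) (hyO : y ∈ O) : False := by
  haveI : IsLocallyNoetherian Y.left :=
    LocallyOfFiniteType.isLocallyNoetherian (Y := Spec (CommRingCat.of R)) Y.hom
  haveI : CompactSpace Y.left := QuasiCompact.compactSpace_of_compactSpace Y.hom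
  haveI : IsNoetherian Y.left := {}
  have hfin := CompL.finite_fibreComponents R Y
  have hmem : ({y} : Set Y.left) ∈ Models.fibreComponents R Y := by
    refine ⟨⟨isIrreducible_singleton, ?_⟩, ?_⟩
    · intro z hz
      rw [Set.mem_singleton_iff.1 hz]
      exact hys
    · rintro S ⟨hSirr, hSs⟩ hyS z hzS
      by_contra hzy
      have hyS' : y ∈ S := hyS (Set.mem_singleton y)
      obtain ⟨w, hwS, hw1, hw2⟩ := hSirr.2 O ({y}ᶜ) hO hy.isOpen_compl ⟨y, hyS', hyO⟩
        ⟨z, hzS, hzy⟩
      exact hw2 (hOy ⟨hw1, hSs hwS⟩)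
  have h1 := CompL.one_le_dim_component R Y hfin hdim hmem
  have h2 : topologicalKrullDim ↥({y} : Set Y.left) ≤ 0 :=
    topologicalKrullDim_zero_of_discreteTopology _
  have h3 : (1 : WithBot ℕ∞) ≤ 0 := h1.trans h2
  exact absurd h3 (by norm_num)

/-- a nonempty family of vertical prime divisors contracted to a normal point meets a component
of the closed fibre outside the family -/
theorem exists_meet (X Y : Over (Spec (CommRingCat.of R))) [IsIntegral Y.left] [Flat Y.hom]
    [LocallyOfFiniteType Y.hom] [QuasiCompact Y.hom]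
    (hdim : topologicalKrullDim Y.left = 2) (f : X ⟶ Y) (y : Y.left)
    (hy : IsClosed ({y} : Set Y.left))
    (hpre : _root_.IsPreconnected (f.left.base ⁻¹' {y})) (hsurj : Function.Surjective f.left.base)
    (hcm : IsClosedMap f.left.base)
    {n : ℕ} (C : Fin n → ArSurf.VertComp R X)
    (hcov : ∀ x : X.left, X.hom.base x = closedPoint R → ∃ i, x ∈ Set.range (C i).ι.base)
    {r : ℕ} (Γ : Fin r → ArSurf.VertComp R X)
    (hΓy : ∀ i, Set.range (((Γ i).ι ≫ f.left).base : (Γ i).curve.left → Y.left) = {y})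
    (I : Set (Fin r)) (hI : I.Nonempty) :
    ∃ i ∈ I, ∃ x ∈ Set.range (Γ i).ι.base, ∃ w,
      (∀ j ∈ I, Set.range (C w).ι.base ≠ Set.range (Γ j).ι.base) ∧
        x ∈ Set.range (C w).ι.base := by
  by_contra hno
  push Not at hno
  have hXY : ∀ x : X.left, Y.hom.base (f.left.base x) = X.hom.base x := by
    intro x
    have h1 : Y.hom.base (f.left.base x) = (f.left ≫ Y.hom).base x := rfl
    rw [h1, Over.w f]
  let K : Set X.left := ⋃ i ∈ I, Set.range (Γ i).ι.base
  let Wout : Set (Fin n) := {w | ∀ j ∈ I, Set.range (C w).ι.base ≠ Set.range (Γ j).ι.base}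
  let K' : Set X.left := ⋃ w ∈ Wout, Set.range (C w).ι.base
  have hKcl : IsClosed K :=
    (Set.toFinite I).isClosed_biUnion fun i _ => (Γ i).ι.isClosedEmbedding.isClosed_range
  have hK'cl : IsClosed K' :=
    (Set.toFinite Wout).isClosed_biUnion fun w _ => (C w).ι.isClosedEmbedding.isClosed_range
  have hdisj : ∀ x, x ∈ K → x ∈ K' → False := by
    intro x hxK hxK'
    obtain ⟨i, hi, hxi⟩ := Set.mem_iUnion₂.1 hxK
    obtain ⟨w, hw, hxw⟩ := Set.mem_iUnion₂.1 hxK'
    exact hno i hi x hxi w hw hxw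
  have hcover : ∀ x : X.left, X.hom.base x = closedPoint R → x ∈ K ∪ K' := by
    intro x hx
    obtain ⟨w, hxw⟩ := hcov x hx
    by_cases hw : w ∈ Wout
    · exact Or.inr (Set.mem_iUnion₂.2 ⟨w, hw, hxw⟩)
    · have hw' : ∃ j ∈ I, Set.range (C w).ι.base = Set.range (Γ j).ι.base := by
        by_contra hcon
        push Not at hcon
        exact hw hcon
      obtain ⟨j, hj, hwj⟩ := hw'
      exact Or.inl (Set.mem_iUnion₂.2 ⟨j, hj, hwj ▸ hxw⟩)
  have hKfib : ∀ x ∈ K, f.left.base x = y := by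
    intro x hxK
    obtain ⟨i, hi, c, rfl⟩ := Set.mem_iUnion₂.1 hxK
    have h1 : ((Γ i).ι ≫ f.left).base c ∈ ({y} : Set Y.left) := by
      rw [← hΓy i]
      exact ⟨c, rfl⟩
    exact h1
  obtain ⟨i0, hi0⟩ := hI
  let c0 : (Γ i0).curve.left := genericPoint (Γ i0).curve.left
  have hx0K : (Γ i0).ι.base c0 ∈ K := Set.mem_iUnion₂.2 ⟨i0, hi0, c0, rfl⟩
  have hys : Y.hom.base y = closedPoint R := by
    rw [← hKfib _ hx0K, hXY]
    exact SpFib.range_subset_fibre R X (Γ i0) c0
  have hfibK' : ∀ x, f.left.base x = y → x ∈ K' → False := by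
    intro x hxy hxK'
    have hcovf : f.left.base ⁻¹' {y} ⊆ K ∪ K' := by
      intro z hz
      apply hcover
      rw [← hXY, Set.mem_singleton_iff.1 hz]
      exact hys
    obtain ⟨z, -, hzK, hzK'⟩ := (isPreconnected_closed_iff.1 hpre) K K' hKcl hK'cl hcovf
      ⟨_, hKfib _ hx0K, hx0K⟩ ⟨x, hxy, hxK'⟩
    exact hdisj z hzK hzK'
  have hOopen : IsOpen (f.left.base '' K')ᶜ := (hcm K' hK'cl).isOpen_compl
  refine not_isolated R Y hdim y hys hy _ hOopen ?_ ?_
  · rintro z ⟨hzO, hzs⟩
    obtain ⟨x, rfl⟩ := hsurj z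
    have hxs : X.hom.base x = closedPoint R := by
      rw [← hXY]
      exact hzs
    rcases hcover x hxs with hxK | hxK'
    · exact hKfib x hxK
    · exact absurd ⟨x, hxK', rfl⟩ hzO
  · rintro ⟨x, hxK', hxy⟩
    exact hfibK' x hxy hxK'

end Top

end Groth.Agent.Helper1.VNeg
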