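import Mathlib
import Groth.Agent.Lib.Helper1.VNeg1
import Groth.Agent.Lib.Helper1.CompL1
import Groth.Agent.Lib.Helper4.ProperPush1
import Groth.Agent.Lib.Helper7.Rigidity.Collapse

/-!
# Factorisation through a contraction of vertical prime divisors onto a normal surface (helper1)
-/

set_option autoImplicit false
universe u
open CategoryTheory CategoryTheory.Limits AlgebraicGeometry TopologicalSpace Opposite IsLocalRing

namespace Groth.Agent.Helper1.Contr

open Groth.Agent.Helper1

section Bir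

/-- a morphism of integral schemes which is an isomorphism over a nonempty open is dominant and
induces a surjection of function fields -/
theorem birational_data {X Y : Scheme.{u}} [IsIntegral X] [IsIntegral Y]
    (f : X ⟶ Y) (U : Y.Opens) (hU : (U : Set Y).Nonempty) (hiso : IsIso (f ∣_ U)) :
    ∃ hdom : f.base (genericPoint X) ⤳ genericPoint Y,
      Function.Surjective (CohIII.stalkToFunctionField f (genericPoint Y) hdom) := by
  obtain ⟨u0, hu0⟩ := hU
  have hηU : genericPoint Y ∈ U :=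
    ((genericPoint_spec Y).mem_open_set_iff U.isOpen).mpr ⟨u0, trivial, hu0⟩
  have hsurjU : ∀ z : U, ∃ x : ↥(f ⁻¹ᵁ U), (f ∣_ U).base x = z := by
    intro z
    let e := asIso (f ∣_ U)
    refine ⟨e.inv.base z, ?_⟩
    have h1 : (e.inv ≫ e.hom).base z = z := by
      rw [e.inv_hom_id]
      rfl
    exact h1
  obtain ⟨x0, hx0⟩ := hsurjU ⟨genericPoint Y, hηU⟩
  have hηr : genericPoint Y ∈ Set.range f.base := by
    refine ⟨x0.1, ?_⟩
    have h1 := morphismRestrict_base_coe f U x0
    rw [hx0] at h1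
    exact h1.symm
  have hrange_sub : Set.range f.base ⊆ closure {f.base (genericPoint X)} := by
    rintro _ ⟨x, rfl⟩
    have hx : x ∈ closure ({genericPoint X} : Set X) := by
      rw [(genericPoint_spec X).def]
      trivial
    have h1 := image_closure_subset_closure_image f.continuous (Set.mem_image_of_mem _ hx)
    rwa [Set.image_singleton] at h1
  have hdom : f.base (genericPoint X) ⤳ genericPoint Y :=
    specializes_iff_mem_closure.2 (hrange_sub hηr)
  have hξU : genericPoint X ∈ f ⁻¹ᵁ U := hdom.mem_open U.2 hηU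
  haveI hst : IsIso (f.stalkMap (genericPoint X)) := by
    have h1 : IsIso ((f ∣_ U).stalkMap ⟨genericPoint X, hξU⟩) :=
      ((isIso_iff_isIso_stalkMap (f ∣_ U)).1 hiso).2 _
    exact ((MorphismProperty.isomorphisms CommRingCat).arrow_mk_iso_iff
      (morphismRestrictStalkMap f U ⟨genericPoint X, hξU⟩)).1 h1
  refine ⟨hdom, ?_⟩
  have h' : genericPoint Y ⤳ f.base (genericPoint X) :=
    (genericPoint_spec Y).specializes trivial
  have hcomp : Y.presheaf.stalkSpecializes h' ≫ Y.presheaf.stalkSpecializes hdom = 𝟙 _ := by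
    rw [TopCat.Presheaf.stalkSpecializes_comp, TopCat.Presheaf.stalkSpecializes_refl]
  intro t
  obtain ⟨s, hs⟩ := (ConcreteCategory.bijective_of_isIso (f.stalkMap (genericPoint X))).2 t
  refine ⟨(Y.presheaf.stalkSpecializes h').hom s, ?_⟩
  show (f.stalkMap (genericPoint X)).hom ((Y.presheaf.stalkSpecializes hdom).hom
    ((Y.presheaf.stalkSpecializes h').hom s)) = t
  have h2 : (Y.presheaf.stalkSpecializes hdom).hom
      ((Y.presheaf.stalkSpecializes h').hom s) = s := by
    have h3 := congrArg (fun φ => φ.hom s) hcomp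
    simpa using h3
  rw [h2]
  exact hs

end Bir

variable (R : Type u) [CommRing R] [IsDomain R] [IsDiscreteValuationRing R]

/-- a morphism contracting the vertical prime divisors `Γ i` factors through a contraction of the
`Γ i` onto a normal flat `R`-scheme, and that contraction is an epimorphism -/
theorem exists_factor (X Y₁ Y₂ : Over (Spec (CommRingCat.of R))) [IsIntegral X.left]
    [IsIntegral Y₁.left] [IsLocallyNoetherian Y₁.left] [Flat Y₁.hom]
    (hnor : ∀ q : Y₁.left, IsIntegrallyClosed (Y₁.left.presheaf.stalk q))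
    (f₁ : X ⟶ Y₁) (f₂ : X ⟶ Y₂) [IsProper f₁.left]
    {r : ℕ} (Γ : Fin r → ArSurf.VertComp R X)
    (hpt : ∀ i, ∃ y : Y₂.left,
      Set.range (((Γ i).ι ≫ f₂.left).base : (Γ i).curve.left → Y₂.left) = {y})
    (hpre : f₁.left.base ⁻¹' (f₁.left.base '' ⋃ i, Set.range (Γ i).ι.base) =
      ⋃ i, Set.range (Γ i).ι.base)
    (hiso : ∀ V : Y₁.left.Opens,
      (V : Set Y₁.left) ∩ f₁.left.base '' (⋃ i, Set.range (Γ i).ι.base) = ∅ →
        IsIso (f₁.left ∣_ V)) :
    Epi f₁.left ∧ ∃ g : Y₁.left ⟶ Y₂.left, f₁.left ≫ g = f₂.left := by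
  classical
  let ξ : X.left ⟶ Y₁.left := f₁.left
  let E : Set X.left := ⋃ i, Set.range (Γ i).ι.base
  have hEcl : IsClosed E :=
    isClosed_iUnion_of_finite fun i => (Γ i).ι.isClosedEmbedding.isClosed_range
  have hTcl : IsClosed (ξ.base '' E) := ξ.isClosedMap _ hEcl
  let V : Y₁.left.Opens := ⟨(ξ.base '' E)ᶜ, hTcl.isOpen_compl⟩
  have hVE : (V : Set Y₁.left) ∩ ξ.base '' E = ∅ := Set.compl_inter_self _
  have hfib : ∀ i (z : (Γ i).curve.left),
      Y₁.hom.base (ξ.base ((Γ i).ι.base z)) = closedPoint R := by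
    intro i z
    have h1 : Y₁.hom.base (ξ.base ((Γ i).ι.base z)) = X.hom.base ((Γ i).ι.base z) := by
      have h2 := congrArg (fun φ : X.left ⟶ Spec (CommRingCat.of R) => φ.base ((Γ i).ι.base z))
        (Over.w f₁)
      exact h2
    rw [h1]
    exact SpFib.range_subset_fibre R X (Γ i) z
  have hVne : (V : Set Y₁.left).Nonempty := by
    refine ⟨genericPoint Y₁.left, ?_⟩
    show genericPoint Y₁.left ∈ (ξ.base '' E)ᶜ
    intro hmem
    obtain ⟨e, he, hee⟩ := hmem
    obtain ⟨i, z, rfl⟩ := Set.mem_iUnion.1 he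
    apply CompL.map_genericPoint_ne R Y₁
    rw [← hee]
    exact hfib i z
  have hVi : IsIso (ξ ∣_ V) := hiso V hVE
  obtain ⟨hdom, hsurjσ⟩ := birational_data ξ V hVne hVi
  have hY : Pi1.IsNormalScheme Y₁.left := fun q => ⟨inferInstance, hnor q⟩
  have h0 : ∀ U : Y₁.left.Opens, IsIso (ξ.app U) :=
    Groth.Agent.Lib.Helper4.ProperPush1.S2422_main hY ξ hdom (fun x _ => hsurjσ x)
  have hinj : ∀ U : Y₁.left.Opens, Function.Injective (ξ.app U).hom := fun U =>
    haveI := h0 U
    (ConcreteCategory.bijective_of_isIso (ξ.app U)).1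
  have hcl : IsClosedMap ξ := ξ.isClosedMap
  have hs : Function.Surjective ξ :=
    Groth.Agent.Helper7.Rigidity.surjective_of_isIso_app' ξ hcl h0
  have hepi : Epi ξ := Groth.Agent.Helper7.Rigidity.epi_of_surjective_of_app_injective ξ hs hinj
  choose yΓ hyΓ using hpt
  have hval : ∀ i (z : (Γ i).curve.left), f₂.left.base ((Γ i).ι.base z) = yΓ i := by
    intro i z
    have h1 : ((Γ i).ι ≫ f₂.left).base z ∈ ({yΓ i} : Set Y₂.left) := by
      rw [← hyΓ i]
      exact ⟨z, rfl⟩
    exact h1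
  have hcoll : ∀ e0 ∈ E, ∀ x : X.left, ξ.base x = ξ.base e0 →
      f₂.left.base x = f₂.left.base e0 := by
    intro e0 he0 x hx
    obtain ⟨hpc, -⟩ := VNeg.preconnected_fibre_of_birational ξ V hVne hVi (ξ.base e0)
      (hnor (ξ.base e0))
    by_contra hne
    have hmemE : ∀ z : X.left, ξ.base z = ξ.base e0 → z ∈ E := by
      intro z hz
      have h1 : z ∈ f₁.left.base ⁻¹' (f₁.left.base '' ⋃ i, Set.range (Γ i).ι.base) :=
        ⟨e0, he0, hz.symm⟩
      rw [hpre] at h1
      exact h1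
    let A : Set X.left := ⋃ i ∈ {i : Fin r | yΓ i = f₂.left.base e0}, Set.range (Γ i).ι.base
    let B : Set X.left := ⋃ i ∈ {i : Fin r | yΓ i ≠ f₂.left.base e0}, Set.range (Γ i).ι.base
    have hA : IsClosed A := Set.Finite.isClosed_biUnion (Set.toFinite _)
      fun i _ => (Γ i).ι.isClosedEmbedding.isClosed_range
    have hB : IsClosed B := Set.Finite.isClosed_biUnion (Set.toFinite _)
      fun i _ => (Γ i).ι.isClosedEmbedding.isClosed_range
    have hAval : ∀ z ∈ A, f₂.left.base z = f₂.left.base e0 := by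
      intro z hz
      obtain ⟨i, hi, c, rfl⟩ := Set.mem_iUnion₂.1 hz
      rw [hval]
      exact hi
    have hBval : ∀ z ∈ B, f₂.left.base z ≠ f₂.left.base e0 := by
      intro z hz
      obtain ⟨i, hi, c, rfl⟩ := Set.mem_iUnion₂.1 hz
      rw [hval]
      exact hi
    have hmemAB : ∀ z : X.left, ξ.base z = ξ.base e0 →
        (f₂.left.base z = f₂.left.base e0 → z ∈ A) ∧
          (f₂.left.base z ≠ f₂.left.base e0 → z ∈ B) := by
      intro z hz
      obtain ⟨i, c, rfl⟩ := Set.mem_iUnion.1 (hmemE z hz)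
      constructor
      · intro h
        refine Set.mem_iUnion₂.2 ⟨i, ?_, c, rfl⟩
        show yΓ i = _
        rw [← hval i c]
        exact h
      · intro h
        refine Set.mem_iUnion₂.2 ⟨i, ?_, c, rfl⟩
        show yΓ i ≠ _
        rw [← hval i c]
        exact h
    have hcov : ξ.base ⁻¹' {ξ.base e0} ⊆ A ∪ B := by
      intro z hz
      by_cases h : f₂.left.base z = f₂.left.base e0
      · exact Or.inl ((hmemAB z hz).1 h)
      · exact Or.inr ((hmemAB z hz).2 h)
    obtain ⟨z, hz, hzA, hzB⟩ := (isPreconnected_closed_iff.1 hpc) A B hA hB hcov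
      ⟨e0, rfl, (hmemAB e0 rfl).1 rfl⟩ ⟨x, hx, (hmemAB x hx).2 hne⟩
    exact hBval z hzB (hAval z hzA)
  have hFV : Groth.Agent.Helper7.Rigidity.Factors ξ f₂.left V := by
    haveI := hVi
    exact ⟨inv (ξ ∣_ V) ≫ (ξ ⁻¹ᵁ V).ι ≫ f₂.left, IsIso.hom_inv_id_assoc _ _⟩
  have hF : Groth.Agent.Helper7.Rigidity.Factors ξ f₂.left ⊤ := by
    apply Groth.Agent.Helper7.Rigidity.factors_of_forall_nhd hs hinj ⊤
    intro s _
    by_cases hsT : s ∈ ξ.base '' E
    · obtain ⟨e0, he0, rfl⟩ := hsT
      obtain ⟨W, hsW, hW⟩ := Groth.Agent.Helper7.Rigidity.exists_factors_nhd ξ f₂.left hcl h0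
        (ξ.base e0) (f₂.left.base e0) (fun x hx => hcoll e0 he0 x hx)
      exact ⟨W, hsW, le_top, hW⟩
    · exact ⟨V, hsT, le_top, hFV⟩
  obtain ⟨r0, hr0⟩ := hF
  refine ⟨hepi, Y₁.left.topIso.inv ≫ r0, ?_⟩
  have h1 := Groth.Agent.Helper7.Rigidity.comp_eq_of_factors r0 hr0 (𝟙 X.left)
    (ξ ≫ Y₁.left.topIso.inv) (by
      rw [Category.id_comp, Category.assoc, Scheme.toIso_inv_ι, Category.comp_id])
  rw [Category.id_comp, Category.assoc] at h1
  exact h1

end Groth.Agent.Helper1.Contr
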