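import Mathlib
import Groth.Agent.Lib.Helper1.AmpleGlue2
import Groth.Agent.Lib.Helper1.PullRel

set_option autoImplicit false
universe u
open CategoryTheory CategoryTheory.Limits AlgebraicGeometry TopologicalSpace Opposite

namespace Groth.Agent.Helper1.CoprodAmple

open Groth.Agent.Helper1.AmpleLib Groth.Agent.Helper1

/-- a clopen decomposition gives an idempotent-like function with prescribed basic open -/
theorem exists_basicOpen_eq_of_isCompl (Z : Scheme.{u}) (A B : Z.Opens) (hsup : A ⊔ B = ⊤)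
    (hinf : A ⊓ B = ⊥) : ∃ e : Γ(Z, ⊤), Z.basicOpen e = A := by
  let U : Bool → Z.Opens := fun b => if b then A else B
  let sf : ∀ b : Bool, Γ(Z, U b) := fun b => if b then 1 else 0
  have hcompat : TopCat.Presheaf.IsCompatible Z.sheaf.1 U sf := by
    intro i j
    rcases i with _ | _ <;> rcases j with _ | _
    · rfl
    · have : Subsingleton Γ(Z, U false ⊓ U true) := by
        have h : U false ⊓ U true = ⊥ := by simp only [U]; rw [inf_comm]; simpa using hinf
        rw [h]; exact inferInstanceAs (Subsingleton Γ(Z, ⊥))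
      exact @Subsingleton.elim _ this _ _
    · have : Subsingleton Γ(Z, U true ⊓ U false) := by
        have h : U true ⊓ U false = ⊥ := by simpa [U] using hinf
        rw [h]; exact inferInstanceAs (Subsingleton Γ(Z, ⊥))
      exact @Subsingleton.elim _ this _ _
    · rfl
  have hcover : (⊤ : Z.Opens) ≤ iSup U := by
    rw [← hsup]
    exact sup_le (le_iSup U true) (le_iSup U false)
  obtain ⟨e, he, -⟩ := Z.sheaf.existsUnique_gluing' U ⊤ (fun b => homOfLE le_top) hcover sf hcompat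
  refine ⟨e, ?_⟩
  have hA : A ⊓ Z.basicOpen e = A := by
    have h1 := he true
    have h2 := Z.basicOpen_res e (homOfLE (le_top : A ≤ ⊤)).op
    have h3 : Z.basicOpen ((Z.presheaf.map (homOfLE (le_top : A ≤ ⊤)).op).hom e) = A := by
      have : (Z.presheaf.map (homOfLE (le_top : A ≤ ⊤)).op).hom e = 1 := h1
      rw [this]
      exact Z.basicOpen_of_isUnit isUnit_one
    rw [← h2]; exact h3
  have hB : B ⊓ Z.basicOpen e = ⊥ := by
    have h1 := he false
    have h2 := Z.basicOpen_res e (homOfLE (le_top : B ≤ ⊤)).op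
    have h3 : Z.basicOpen ((Z.presheaf.map (homOfLE (le_top : B ≤ ⊤)).op).hom e) = ⊥ := by
      have : (Z.presheaf.map (homOfLE (le_top : B ≤ ⊤)).op).hom e = 0 := h1
      rw [this]
      exact Z.basicOpen_zero _
    rw [← h2]; exact h3
  calc Z.basicOpen e = (A ⊔ B) ⊓ Z.basicOpen e := by rw [hsup, top_inf_eq]
    _ = (A ⊓ Z.basicOpen e) ⊔ (B ⊓ Z.basicOpen e) := inf_sup_right _ _ _
    _ = A := by rw [hA, hB, sup_bot_eq]

/-- ampleness can be checked on the two pieces of a clopen decomposition -/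
theorem isAmple_of_isCompl {Z : Scheme.{u}} (A B : Z.Opens) (hsup : A ⊔ B = ⊤)
    (hinf : A ⊓ B = ⊥) (M : Z.Modules) (hA : CohB1.IsAmple (M.restrict A.ι))
    (hB : CohB1.IsAmple (M.restrict B.ι)) : CohB1.IsAmple M := by
  have hcA : IsCompact (A : Set Z) := isCompact_iff_compactSpace.mpr hA.2.1
  have hcB : IsCompact (B : Set Z) := isCompact_iff_compactSpace.mpr hB.2.1
  haveI : CompactSpace Z := ⟨by
    have : (Set.univ : Set Z) = (A : Set Z) ∪ B := by
      have := congrArg (fun O : Z.Opens => (O : Set Z)) hsup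
      simpa using this.symm
    rw [this]; exact hcA.union hcB⟩
  apply isAmple_of_basicOpen_cover
  intro x
  have hx : x ∈ A ⊔ B := by rw [hsup]; trivial
  rcases hx with hx | hx
  · obtain ⟨e, he⟩ := exists_basicOpen_eq_of_isCompl Z A B hsup hinf
    exact ⟨e, he ▸ hx, by rw [isAmple_restrict_ι_congr he]; exact hA⟩
  · obtain ⟨e, he⟩ := exists_basicOpen_eq_of_isCompl Z B A (by rwa [sup_comm]) (by rwa [inf_comm])
    exact ⟨e, he ▸ hx, by rw [isAmple_restrict_ι_congr he]; exact hB⟩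

section piece

variable {X T Y : Scheme.{u}} (j : X ⟶ T) [IsOpenImmersion j] (F : T ⟶ Y)

/-- ampleness on a piece `j : X ⟶ T` of `T` over `V`, expressed on `T` -/
theorem isAmple_piece (L'' : T.Modules) (V : Y.Opens)
    (h : CohB1.IsAmple (((Scheme.Modules.pullback j).obj L'').restrict ((j ≫ F) ⁻¹ᵁ V).ι)) :
    CohB1.IsAmple ((L''.restrict (F ⁻¹ᵁ V).ι).restrict ((F ⁻¹ᵁ V).ι ⁻¹ᵁ j.opensRange).ι) := by
  rw [isAmple_restrict_restrict_ι_iff]
  have h1 : (F ⁻¹ᵁ V).ι ''ᵁ ((F ⁻¹ᵁ V).ι ⁻¹ᵁ j.opensRange) = j ''ᵁ ((j ≫ F) ⁻¹ᵁ V) := by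
    rw [Scheme.Hom.image_preimage_eq_opensRange_inf, Scheme.Opens.opensRange_ι,
      Scheme.Hom.comp_preimage, Scheme.Hom.image_preimage_eq_opensRange_inf, inf_comm]
  rw [isAmple_restrict_ι_congr h1]
  have h2 : (((j ≫ F) ⁻¹ᵁ V).ι ≫ j).opensRange = j ''ᵁ ((j ≫ F) ⁻¹ᵁ V) := by
    rw [Scheme.Hom.opensRange_comp, Scheme.Opens.opensRange_ι]
  rw [← isAmple_restrict_iff_of_opensRange_eq (((j ≫ F) ⁻¹ᵁ V).ι ≫ j) L'' _ h2,
    ← isAmple_restrict_restrict_iff]
  exact TwistAmpleOpen.isAmple_of_iso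
    ((Scheme.Modules.restrictFunctor ((j ≫ F) ⁻¹ᵁ V).ι).mapIso
      ((Scheme.Modules.restrictFunctorIsoPullback j).app L'')).symm h

end piece

section coprod

variable {X X' Y : Scheme.{u}} (f : X ⟶ Y) (f' : X' ⟶ Y)

theorem isClosedEmbedding_inl :
    Topology.IsClosedEmbedding (coprod.inl : X ⟶ X ⨿ X') := by
  refine ⟨(coprod.inl : X ⟶ X ⨿ X').isOpenEmbedding.isEmbedding, ?_⟩
  rw [← isOpen_compl_iff, (isCompl_range_inl_inr X X').compl_eq]
  exact (coprod.inr : X' ⟶ X ⨿ X').isOpenEmbedding.isOpen_range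

theorem isClosedEmbedding_inr :
    Topology.IsClosedEmbedding (coprod.inr : X' ⟶ X ⨿ X') := by
  refine ⟨(coprod.inr : X' ⟶ X ⨿ X').isOpenEmbedding.isEmbedding, ?_⟩
  rw [← isOpen_compl_iff, (isCompl_range_inl_inr X X').symm.compl_eq]
  exact (coprod.inl : X ⟶ X ⨿ X').isOpenEmbedding.isOpen_range

instance quasiCompact_inl : QuasiCompact (coprod.inl : X ⟶ X ⨿ X') :=
  ⟨fun U _ hc => isClosedEmbedding_inl.isCompact_preimage hc⟩

instance quasiCompact_inr : QuasiCompact (coprod.inr : X' ⟶ X ⨿ X') :=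
  ⟨fun U _ hc => isClosedEmbedding_inr.isCompact_preimage hc⟩

theorem desc_inl_apply (x : X) : (coprod.desc f f') ((coprod.inl : X ⟶ X ⨿ X') x) = f x := by
  rw [← Scheme.Hom.comp_apply, coprod.inl_desc]

theorem desc_inr_apply (x : X') : (coprod.desc f f') ((coprod.inr : X' ⟶ X ⨿ X') x) = f' x := by
  rw [← Scheme.Hom.comp_apply, coprod.inr_desc]

instance quasiCompact_desc [QuasiCompact f] [QuasiCompact f'] :
    QuasiCompact (coprod.desc f f') := by
  refine ⟨fun U hU hc => ?_⟩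
  have h : (coprod.desc f f') ⁻¹' U =
      (coprod.inl : X ⟶ X ⨿ X') '' (f ⁻¹' U) ∪ (coprod.inr : X' ⟶ X ⨿ X') '' (f' ⁻¹' U) := by
    ext x
    have hx : x ∈ Set.range (coprod.inl : X ⟶ X ⨿ X') ∪ Set.range (coprod.inr : X' ⟶ X ⨿ X') := by
      have : Set.range (coprod.inl : X ⟶ X ⨿ X') ∪ Set.range (coprod.inr : X' ⟶ X ⨿ X') =
          Set.univ := (isCompl_range_inl_inr X X').sup_eq_top
      rw [this]; trivial
    rcases hx with ⟨x₀, rfl⟩ | ⟨x₀, rfl⟩
    · simp only [Set.mem_preimage, desc_inl_apply, Set.mem_union, Set.mem_image]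
      constructor
      · intro h; exact Or.inl ⟨x₀, h, rfl⟩
      · rintro (⟨y, hy, hyx⟩ | ⟨y, hy, hyx⟩)
        · have := (coprod.inl : X ⟶ X ⨿ X').isOpenEmbedding.injective hyx
          rwa [← this]
        · exact absurd hyx (inr_ne_inl _ _ _ _)
    · simp only [Set.mem_preimage, desc_inr_apply, Set.mem_union, Set.mem_image]
      constructor
      · intro h; exact Or.inr ⟨x₀, h, rfl⟩
      · rintro (⟨y, hy, hyx⟩ | ⟨y, hy, hyx⟩)
        · exact absurd hyx (inl_ne_inr _ _ _ _)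
        · have := (coprod.inr : X' ⟶ X ⨿ X').isOpenEmbedding.injective hyx
          rwa [← this]
  rw [h]
  exact ((QuasiCompact.isCompact_preimage (f := f) U hU hc).image
      (coprod.inl : X ⟶ X ⨿ X').continuous).union
    ((QuasiCompact.isCompact_preimage (f := f') U hU hc).image
      (coprod.inr : X' ⟶ X ⨿ X').continuous)

theorem isRelAmple_coprod_desc [QuasiCompact f] [QuasiCompact f'] (L'' : (X ⨿ X').Modules)
    (h1 : RelAmple.IsRelAmple f ((Scheme.Modules.pullback (coprod.inl : X ⟶ X ⨿ X')).obj L''))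
    (h2 : RelAmple.IsRelAmple f' ((Scheme.Modules.pullback (coprod.inr : X' ⟶ X ⨿ X')).obj L'')) :
    RelAmple.IsRelAmple (coprod.desc f f') L'' := by
  refine ⟨inferInstance, fun V => ?_⟩
  apply isAmple_of_isCompl
    (((coprod.desc f f') ⁻¹ᵁ V.1).ι ⁻¹ᵁ (coprod.inl : X ⟶ X ⨿ X').opensRange)
    (((coprod.desc f f') ⁻¹ᵁ V.1).ι ⁻¹ᵁ (coprod.inr : X' ⟶ X ⨿ X').opensRange)
  · rw [← Scheme.Hom.preimage_sup, (isCompl_opensRange_inl_inr X X').sup_eq_top]; rfl
  · rw [← Scheme.Hom.preimage_inf, (isCompl_opensRange_inl_inr X X').inf_eq_bot]; rfl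
  · apply isAmple_piece
    have := h1.2 V
    have e : (coprod.inl : X ⟶ X ⨿ X') ≫ coprod.desc f f' = f := coprod.inl_desc f f'
    rw [e]; exact this
  · apply isAmple_piece
    have := h2.2 V
    have e : (coprod.inr : X' ⟶ X ⨿ X') ≫ coprod.desc f f' = f' := coprod.inr_desc f f'
    rw [e]; exact this

theorem isRelAmple_coprod_iff [QuasiCompact f] [QuasiCompact f'] (L'' : (X ⨿ X').Modules) :
    RelAmple.IsRelAmple (coprod.desc f f') L'' ↔
      RelAmple.IsRelAmple f ((Scheme.Modules.pullback (coprod.inl : X ⟶ X ⨿ X')).obj L'') ∧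
        RelAmple.IsRelAmple f' ((Scheme.Modules.pullback (coprod.inr : X' ⟶ X ⨿ X')).obj L'') := by
  constructor
  · intro h
    constructor
    · have := PullAmple.isRelAmple_pullback_of_isEmbedding (coprod.inl : X ⟶ X ⨿ X') (coprod.desc f f')
        (coprod.inl : X ⟶ X ⨿ X').isOpenEmbedding.isEmbedding h
      rwa [coprod.inl_desc] at this
    · have := PullAmple.isRelAmple_pullback_of_isEmbedding (coprod.inr : X' ⟶ X ⨿ X') (coprod.desc f f')
        (coprod.inr : X' ⟶ X ⨿ X').isOpenEmbedding.isEmbedding h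
      rwa [coprod.inr_desc] at this
  · rintro ⟨h1, h2⟩
    exact isRelAmple_coprod_desc f f' L'' h1 h2

end coprod

end Groth.Agent.Helper1.CoprodAmple
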