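import Mathlib

set_option autoImplicit false
universe u

open CategoryTheory CategoryTheory.Limits AlgebraicGeometry TopologicalSpace Opposite

namespace Groth.Agent.Helper1.CoprodCI

variable {X X' Z : Scheme.{u}} (f : X ⟶ Z) (f' : X' ⟶ Z)

theorem surjectiveOnStalks_desc [SurjectiveOnStalks f] [SurjectiveOnStalks f'] :
    SurjectiveOnStalks (coprod.desc f f') := by
  apply IsZariskiLocalAtSource.of_openCover (P := @SurjectiveOnStalks)
    (coprodOpenCover.{u, u} X X')
  rintro (_ | _)
  · change SurjectiveOnStalks (coprod.inl ≫ coprod.desc f f')
    rw [coprod.inl_desc]; infer_instance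
  · change SurjectiveOnStalks (coprod.inr ≫ coprod.desc f f')
    rw [coprod.inr_desc]; infer_instance

theorem desc_comp_coprodMk :
    (coprod.desc f f').base ∘ (coprodMk X X') = Sum.elim f.base f'.base := by
  funext x
  rcases x with x | x
  · simp only [Function.comp_apply, coprodMk_inl, Sum.elim_inl]
    rw [← Scheme.Hom.comp_apply, coprod.inl_desc]
  · simp only [Function.comp_apply, coprodMk_inr, Sum.elim_inr]
    rw [← Scheme.Hom.comp_apply, coprod.inr_desc]

/-- two closed immersions with disjoint images give a closed immersion of the disjoint union -/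
theorem isClosedImmersion_desc [IsClosedImmersion f] [IsClosedImmersion f']
    (hdisj : ∀ (x : X) (x' : X'), f.base x ≠ f'.base x') :
    IsClosedImmersion (coprod.desc f f') := by
  have h1 : SurjectiveOnStalks (coprod.desc f f') := surjectiveOnStalks_desc f f'
  refine { toSurjectiveOnStalks := h1, isClosedEmbedding := ?_ }
  have h2 : Topology.IsClosedEmbedding (Sum.elim f.base f'.base) := by
    refine Topology.IsClosedEmbedding.sumElim f.isClosedEmbedding f'.isClosedEmbedding ?_
    rintro (a | a) (b | b) hab
    · exact congrArg Sum.inl (f.isClosedEmbedding.injective hab)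
    · exact absurd hab (hdisj a b)
    · exact absurd hab.symm (hdisj b a)
    · exact congrArg Sum.inr (f'.isClosedEmbedding.injective hab)
  rw [← desc_comp_coprodMk] at h2
  have h3 := h2.comp (coprodMk X X').symm.isClosedEmbedding
  convert h3 using 1
  funext x
  simp

end Groth.Agent.Helper1.CoprodCI
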