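import Mathlib
import Groth.Agent.Lib.Helper1.CoprodMod
import Groth.Agent.Lib.Helper1.AdjBC
import Groth.Agent.Lib.Helper1.TwForm1

set_option autoImplicit false
universe u

open CategoryTheory CategoryTheory.Limits AlgebraicGeometry TopologicalSpace Opposite

namespace Groth.Agent.Helper1.CoprodMod

open Groth.Agent.Helper1.QcCech Groth.Agent.Helper1.SymAlg

variable {X X' Z : Scheme.{u}} (a : X ⟶ Z) (b : X' ⟶ Z) [IsOpenImmersion a] [IsOpenImmersion b]
  (hinf : a.opensRange ⊓ b.opensRange = ⊥)

include hinf in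
theorem preimage_image_eq_bot (V : X.Opens) : b ⁻¹ᵁ (a ''ᵁ V) = ⊥ := by
  rw [eq_bot_iff]
  intro z hz
  have h1 : b.base z ∈ a.opensRange := (a.image_le_opensRange V) hz
  have h2 : b.base z ∈ b.opensRange := ⟨z, rfl⟩
  have : b.base z ∈ a.opensRange ⊓ b.opensRange := ⟨h1, h2⟩
  rw [hinf] at this
  exact this.elim

/-- the module on `Z` glued from modules on two disjoint opens -/
noncomputable def glueMod (L : X.Modules) (L' : X'.Modules) : Z.Modules :=
  (Scheme.Modules.pushforward a).obj L ⊞ (Scheme.Modules.pushforward b).obj L'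

include hinf in
theorem isIso_restrict_fst (L : X.Modules) (L' : X'.Modules) :
    IsIso ((Scheme.Modules.restrictFunctor a).map
      (biprod.fst : glueMod a b L L' ⟶ (Scheme.Modules.pushforward a).obj L)) := by
  apply TwForm.isIso_of_app_bijective
  intro V
  rw [AdjBC.restrictFunctor_map_app']
  have hsub : Subsingleton Γ((Scheme.Modules.pushforward b).obj L', a ''ᵁ V) := by
    change Subsingleton Γ(L', b ⁻¹ᵁ (a ''ᵁ V))
    exact subsingleton_of_eq_bot L' (preimage_image_eq_bot a b hinf V)
  constructor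
  · intro x y hxy
    apply biprod_ext _ _ _ hxy
    exact Subsingleton.elim _ _
  · intro s
    refine ⟨(biprod.inl : (Scheme.Modules.pushforward a).obj L ⟶ glueMod a b L L').app _ s, ?_⟩
    exact fst_inl ((Scheme.Modules.pushforward a).obj L) ((Scheme.Modules.pushforward b).obj L') (a ''ᵁ V) s


include hinf in
theorem preimage_image_eq_bot' (V : X'.Opens) : a ⁻¹ᵁ (b ''ᵁ V) = ⊥ := by
  rw [eq_bot_iff]
  intro z hz
  have h1 : a.base z ∈ b.opensRange := (b.image_le_opensRange V) hz
  have h2 : a.base z ∈ a.opensRange := ⟨z, rfl⟩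
  have : a.base z ∈ a.opensRange ⊓ b.opensRange := ⟨h2, h1⟩
  rw [hinf] at this
  exact this.elim

include hinf in
theorem isIso_restrict_snd (L : X.Modules) (L' : X'.Modules) :
    IsIso ((Scheme.Modules.restrictFunctor b).map
      (biprod.snd : glueMod a b L L' ⟶ (Scheme.Modules.pushforward b).obj L')) := by
  apply TwForm.isIso_of_app_bijective
  intro V
  rw [AdjBC.restrictFunctor_map_app']
  have hsub : Subsingleton Γ((Scheme.Modules.pushforward a).obj L, b ''ᵁ V) := by
    change Subsingleton Γ(L, a ⁻¹ᵁ (b ''ᵁ V))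
    exact subsingleton_of_eq_bot L (preimage_image_eq_bot' a b hinf V)
  constructor
  · intro x y hxy
    refine biprod_ext _ _ _ ?_ hxy
    exact Subsingleton.elim _ _
  · intro s
    refine ⟨(biprod.inr : (Scheme.Modules.pushforward b).obj L' ⟶ glueMod a b L L').app _ s, ?_⟩
    exact snd_inr ((Scheme.Modules.pushforward a).obj L) ((Scheme.Modules.pushforward b).obj L') (b ''ᵁ V) s

include hinf in
theorem nonempty_pullback_glueMod_left (L : X.Modules) (L' : X'.Modules) :
    Nonempty ((Scheme.Modules.pullback a).obj (glueMod a b L L') ≅ L) := by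
  have h := isIso_restrict_fst a b hinf L L'
  exact ⟨((Scheme.Modules.restrictFunctorIsoPullback a).app _).symm ≪≫
    @asIso _ _ _ _ _ h ≪≫
    (Scheme.Modules.restrictFunctorAdjCounitIso a).app L⟩

include hinf in
theorem nonempty_pullback_glueMod_right (L : X.Modules) (L' : X'.Modules) :
    Nonempty ((Scheme.Modules.pullback b).obj (glueMod a b L L') ≅ L') := by
  have h := isIso_restrict_snd a b hinf L L'
  exact ⟨((Scheme.Modules.restrictFunctorIsoPullback b).app _).symm ≪≫
    @asIso _ _ _ _ _ h ≪≫
    (Scheme.Modules.restrictFunctorAdjCounitIso b).app L'⟩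

end Groth.Agent.Helper1.CoprodMod
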