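import Mathlib

/-! Every module is a direct limit of finitely presented modules (helper1; S6328). -/

set_option autoImplicit false
universe u

namespace Groth.Agent.Helper1.DirLimFP

noncomputable section

variable {R : Type u} [CommRing R] {M : Type u} [AddCommGroup M] [Module R M]
variable {F : Type u} [AddCommGroup F] [Module R F] (π : F →ₗ[R] M)
variable {T : Type u} [Preorder T] (supp : T → Submodule R F)

/-- The index set: elements `t` of `T` together with finitely generated submodules of
relations inside `supp t`. -/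
abbrev Idx : Type u :=
  {p : T × Submodule R F // p.2.FG ∧ p.2 ≤ supp p.1 ⊓ LinearMap.ker π}

instance : Preorder (Idx π supp) := Subtype.preorder _

variable {π supp}

/-- The relations module inside the support. -/
abbrev Rel (i : Idx π supp) : Submodule R (supp i.1.1) := i.1.2.comap (supp i.1.1).subtype

/-- The finitely presented pieces. -/
abbrev G (i : Idx π supp) : Type u := (supp i.1.1) ⧸ (Rel i)

variable (hmono : Monotone supp)

include hmono in
lemma supp_mono {i j : Idx π supp} (h : i ≤ j) : supp i.1.1 ≤ supp j.1.1 :=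
  hmono (show i.1.1 ≤ j.1.1 from h.1)

lemma rel_le {i j : Idx π supp} (h : i ≤ j) :
    Rel i ≤ (Rel j).comap (Submodule.inclusion (supp_mono hmono h)) := by
  intro x hx
  exact (show i.1.2 ≤ j.1.2 from h.2) hx

/-- Transition maps. -/
def tr (i j : Idx π supp) (h : i ≤ j) : G i →ₗ[R] G j :=
  Submodule.mapQ _ _ (Submodule.inclusion (supp_mono hmono h)) (rel_le hmono h)

lemma tr_mk {i j : Idx π supp} (h : i ≤ j) (x : supp i.1.1) :
    tr hmono i j h (Submodule.Quotient.mk x) =
      Submodule.Quotient.mk (Submodule.inclusion (supp_mono hmono h) x) :=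
  rfl

instance : DirectedSystem (G (π := π) (supp := supp)) fun i j h => tr hmono i j h where
  map_self i x := by
    obtain ⟨x, rfl⟩ := Submodule.Quotient.mk_surjective _ x
    rfl
  map_map i j k hij hjk x := by
    obtain ⟨x, rfl⟩ := Submodule.Quotient.mk_surjective _ x
    rfl

instance [Nonempty T] : Nonempty (Idx π supp) :=
  ⟨⟨(Classical.arbitrary T, ⊥), Submodule.fg_bot, bot_le⟩⟩

include hmono in
lemma directed [IsDirectedOrder T] : IsDirectedOrder (Idx π supp) where
  directed i j := by
    obtain ⟨t, hit, hjt⟩ := exists_ge_ge i.1.1 j.1.1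
    refine ⟨⟨(t, i.1.2 ⊔ j.1.2), i.2.1.sup j.2.1, ?_⟩, ?_, ?_⟩
    · exact sup_le (le_trans i.2.2 (inf_le_inf_right _ (hmono hit)))
        (le_trans j.2.2 (inf_le_inf_right _ (hmono hjt)))
    · exact ⟨hit, le_sup_left⟩
    · exact ⟨hjt, le_sup_right⟩

lemma fp (hfree : ∀ t, Module.Free R (supp t)) (hfin : ∀ t, Module.Finite R (supp t))
    (i : Idx π supp) : Module.FinitePresentation R (G i) := by
  have := hfree i.1.1
  have := hfin i.1.1
  refine Module.finitePresentation_of_free_of_surjective (Rel i).mkQ
    (Submodule.mkQ_surjective _) ?_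
  rw [Submodule.ker_mkQ]
  have hle : i.1.2 ≤ supp i.1.1 := le_trans i.2.2 inf_le_left
  have e : Rel i ≃ₗ[R] i.1.2 := Submodule.comapSubtypeEquivOfLe hle
  have : Module.Finite R i.1.2 := Module.Finite.iff_fg.mpr i.2.1
  exact Module.Finite.iff_fg.mp (Module.Finite.equiv e.symm)

/-- The maps to `M`. -/
def toM (i : Idx π supp) : G i →ₗ[R] M :=
  Submodule.liftQ _ (π.comp (supp i.1.1).subtype) (by
    intro x hx
    exact (i.2.2 hx).2)

lemma toM_mk (i : Idx π supp) (x : supp i.1.1) : toM i (Submodule.Quotient.mk x) = π x.1 := rfl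

include hmono in
theorem general [IsDirectedOrder T] [Nonempty T]
    (hfree : ∀ t, Module.Free R (supp t)) (hfin : ∀ t, Module.Finite R (supp t))
    (hsurj : ∀ m, ∃ t, ∃ y ∈ supp t, π y = m) :
    ∃ (ι : Type u) (_ : Preorder ι) (_ : IsDirected ι (· ≤ ·)) (_ : Nonempty ι)
    (_ : DecidableEq ι) (G : ι → Type u) (_ : ∀ i, AddCommGroup (G i)) (_ : ∀ i, Module R (G i))
    (f : ∀ i j, i ≤ j → G i →ₗ[R] G j) (_ : DirectedSystem G fun i j h => f i j h),
    (∀ i, Module.FinitePresentation R (G i)) ∧ Nonempty (Module.DirectLimit G f ≃ₗ[R] M) := by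
  classical
  have := directed (π := π) hmono
  refine ⟨Idx π supp, inferInstance, inferInstance, inferInstance, inferInstance, G,
    fun i => inferInstance, fun i => inferInstance, tr hmono, inferInstance, fp hfree hfin, ⟨?_⟩⟩
  let L : Module.DirectLimit G (tr (π := π) hmono) →ₗ[R] M :=
    Module.DirectLimit.lift R (Idx π supp) G (tr hmono) toM (by
      intro i j hij x
      obtain ⟨x, rfl⟩ := Submodule.Quotient.mk_surjective _ x
      rfl)
  refine LinearEquiv.ofBijective L ⟨?_, ?_⟩
  · rw [injective_iff_map_eq_zero]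
    intro z hz
    obtain ⟨i, x, rfl⟩ := Module.DirectLimit.exists_of z
    rw [Module.DirectLimit.lift_of] at hz
    obtain ⟨y, rfl⟩ := Submodule.Quotient.mk_surjective _ x
    rw [toM_mk] at hz
    -- enlarge the relations by `y`
    let j : Idx π supp := ⟨(i.1.1, i.1.2 ⊔ Submodule.span R {y.1}),
      i.2.1.sup (Submodule.fg_span_singleton _), sup_le i.2.2 (by
        rw [Submodule.span_le, Set.singleton_subset_iff]
        exact ⟨y.2, hz⟩)⟩
    have hij : i ≤ j := ⟨le_rfl, le_sup_left⟩
    rw [← Module.DirectLimit.of_f (hij := hij), tr_mk]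
    have : (Submodule.Quotient.mk (Submodule.inclusion (supp_mono hmono hij) y) : G j) = 0 := by
      rw [Submodule.Quotient.mk_eq_zero]
      change y.1 ∈ i.1.2 ⊔ Submodule.span R {y.1}
      exact Submodule.mem_sup_right (Submodule.mem_span_singleton_self _)
    rw [this, map_zero]
  · intro m
    obtain ⟨t, y, hy, rfl⟩ := hsurj m
    let i : Idx π supp := ⟨(t, ⊥), Submodule.fg_bot, bot_le⟩
    refine ⟨Module.DirectLimit.of R (Idx π supp) G (tr hmono) i (Submodule.Quotient.mk ⟨y, hy⟩), ?_⟩
    rw [Module.DirectLimit.lift_of, toM_mk]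

end

end Groth.Agent.Helper1.DirLimFP

namespace Groth.Agent.Helper1.DirLimFP

theorem main (R : Type u) [CommRing R] (M : Type u) [AddCommGroup M] [Module R M] :
    ∃ (ι : Type u) (_ : Preorder ι) (_ : IsDirected ι (· ≤ ·)) (_ : Nonempty ι)
    (_ : DecidableEq ι) (G : ι → Type u) (_ : ∀ i, AddCommGroup (G i)) (_ : ∀ i, Module R (G i))
    (f : ∀ i j, i ≤ j → G i →ₗ[R] G j) (_ : DirectedSystem G fun i j h => f i j h),
    (∀ i, Module.FinitePresentation R (G i)) ∧ Nonempty (Module.DirectLimit G f ≃ₗ[R] M) := by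
  classical
  let π : (M →₀ R) →ₗ[R] M := Finsupp.linearCombination R id
  let supp : Finset M → Submodule R (M →₀ R) := fun S => Finsupp.supported R R (S : Set M)
  have hmono : Monotone supp := fun S S' h => Finsupp.supported_mono (by exact_mod_cast h)
  refine general (π := π) (supp := supp) hmono ?_ ?_ ?_
  · intro S
    exact Module.Free.of_equiv
      (Finsupp.supportedEquivFinsupp (R := R) (M := R) (S : Set M)).symm
  · intro S
    exact Module.Finite.equiv
      (Finsupp.supportedEquivFinsupp (R := R) (M := R) (S : Set M)).symm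
  · intro m
    refine ⟨{m}, Finsupp.single m 1, ?_, ?_⟩
    · apply Finsupp.single_mem_supported
      simp
    · simp [π]

end Groth.Agent.Helper1.DirLimFP
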