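import Mathlib
import Groth.Agent.Lib.Helper1.DirLimFP

/-! Compactness characterisations of finite / finitely presented modules (helper1; S6326…). -/

set_option autoImplicit false
universe u

open CategoryTheory CategoryTheory.Limits

namespace Groth.Agent.Helper1.CoyonFin

variable (R : Type u) [CommRing R] (N : Type u) [AddCommGroup N] [Module R N]

/-- The diagram of quotients of `N` by its finitely generated submodules. -/
noncomputable def quotFunctor : {N' : Submodule R N // N'.FG} ⥤ ModuleCat.{u} R where
  obj N' := ModuleCat.of R (N ⧸ N'.1)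
  map {a b} f := ModuleCat.ofHom (Submodule.factor (leOfHom f))
  map_id a := by
    ext x
    rfl
  map_comp f g := by
    ext x
    rfl

theorem finite_of_injective
    (h : ∀ (J : Type u) [SmallCategory J] [IsFiltered J] (F : J ⥤ ModuleCat.{u} R),
      Function.Injective (colimit.post F (coyoneda.obj (Opposite.op (ModuleCat.of R N))))) :
    Module.Finite R N := by
  classical
  let J := {N' : Submodule R N // N'.FG}
  let F : J ⥤ ModuleCat.{u} R := quotFunctor R N
  let G := coyoneda.obj (Opposite.op (ModuleCat.of R N))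
  let b0 : J := ⟨⊥, Submodule.fg_bot⟩
  let π : (F ⋙ G).obj b0 := ModuleCat.ofHom (Submodule.mkQ (⊥ : Submodule R N))
  let z : (F ⋙ G).obj b0 := (0 : ModuleCat.of R N ⟶ F.obj b0)
  have hpost : ∀ (j : J) (x : (F ⋙ G).obj j),
      colimit.post F G (colimit.ι (F ⋙ G) j x) = x ≫ colimit.ι F j := by
    intro j x
    have := ConcreteCategory.congr_hom (colimit.ι_post F G j) x
    rw [ConcreteCategory.comp_apply] at this
    rw [this]
    rfl
  have heq : colimit.post F G (colimit.ι (F ⋙ G) b0 π) =
      colimit.post F G (colimit.ι (F ⋙ G) b0 z) := by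
    rw [hpost, hpost]
    have hz : z ≫ colimit.ι F b0 = 0 := zero_comp
    rw [hz]
    apply ModuleCat.hom_ext
    apply LinearMap.ext
    intro x
    let j : J := ⟨Submodule.span R {x}, Submodule.fg_span_singleton x⟩
    have hle : b0 ≤ j := Subtype.mk_le_mk.mpr bot_le
    have hw := colimit.w F (homOfLE hle)
    rw [← hw]
    change (colimit.ι F j) ((F.map (homOfLE hle)) (Submodule.Quotient.mk x)) = 0
    have : (F.map (homOfLE hle)) (Submodule.Quotient.mk x) = 0 := by
      change Submodule.factor (show b0.1 ≤ j.1 from hle) (Submodule.Quotient.mk x) = 0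
      erw [Submodule.factor_mk]
      rw [Submodule.mkQ_apply, Submodule.Quotient.mk_eq_zero]
      exact Submodule.mem_span_singleton_self x
    rw [this, map_zero]
  have := h J F heq
  rw [Types.FilteredColimit.colimit_eq_iff] at this
  obtain ⟨k, f, g, hk⟩ := this
  have hk' : π ≫ F.map f = z ≫ F.map g := hk
  have hz : z ≫ F.map g = 0 := zero_comp
  rw [hz] at hk'
  have htop : k.1 = ⊤ := by
    rw [eq_top_iff]
    intro x _
    have := congr($hk' x)
    change Submodule.factor (show b0.1 ≤ k.1 from leOfHom f) (Submodule.Quotient.mk x) = 0 at this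
    erw [Submodule.factor_mk] at this
    rw [Submodule.mkQ_apply, Submodule.Quotient.mk_eq_zero] at this
    exact this
  exact ⟨htop ▸ k.2⟩

/-- A retract of a finitely presented module is finitely presented. -/
theorem finitePresentation_of_retract {R : Type*} [CommRing R] {P N : Type*} [AddCommGroup P]
    [Module R P] [AddCommGroup N] [Module R N] [Module.FinitePresentation R P]
    (r : P →ₗ[R] N) (s : N →ₗ[R] P) (h : ∀ n, r (s n) = n) : Module.FinitePresentation R N := by
  refine Module.finitePresentation_of_surjective r (fun n => ⟨s n, h n⟩) ?_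
  have hker : LinearMap.ker r = LinearMap.range (LinearMap.id - s ∘ₗ r) := by
    ext y
    constructor
    · intro hy
      refine ⟨y, ?_⟩
      rw [LinearMap.mem_ker] at hy
      simp [hy]
    · rintro ⟨y, rfl⟩
      rw [LinearMap.mem_ker]
      simp [h]
  rw [hker, LinearMap.range_eq_map]
  exact Submodule.FG.map _ Module.Finite.fg_top

theorem finitePresentation_of_bijective
    (h : ∀ (J : Type u) [SmallCategory J] [IsFiltered J] (F : J ⥤ ModuleCat.{u} R),
      Function.Bijective (colimit.post F (coyoneda.obj (Opposite.op (ModuleCat.of R N))))) :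
    Module.FinitePresentation R N := by
  classical
  obtain ⟨ι, _, hdir, hne, hdec, G, _, _, f, _, hfp, ⟨e⟩⟩ := DirLimFP.main R N
  haveI : IsDirectedOrder ι := hdir
  haveI : IsFiltered ι := isFiltered_of_directed_le_nonempty ι
  let F : ι ⥤ ModuleCat.{u} R := ModuleCat.directLimitDiagram G f
  let Gc := coyoneda.obj (Opposite.op (ModuleCat.of R N))
  let c : colimit F ≅ ModuleCat.of R (Module.DirectLimit G f) :=
    colimit.isoColimitCocone ⟨_, ModuleCat.directLimitIsColimit G f⟩
  have hc : ∀ j, colimit.ι F j ≫ c.hom =
      ModuleCat.ofHom (Module.DirectLimit.of R ι G f j) := fun j =>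
    colimit.isoColimitCocone_ι_hom ⟨_, ModuleCat.directLimitIsColimit G f⟩ j
  let φ : ModuleCat.of R N ⟶ colimit F := ModuleCat.ofHom e.symm.toLinearMap ≫ c.inv
  obtain ⟨a, ha⟩ := (h ι F).2 φ
  obtain ⟨j, x, rfl⟩ := Types.jointly_surjective' a
  have hpost : colimit.post F Gc (colimit.ι (F ⋙ Gc) j x) = x ≫ colimit.ι F j := by
    have := ConcreteCategory.congr_hom (colimit.ι_post F Gc j) x
    rw [ConcreteCategory.comp_apply] at this
    rw [this]
    rfl
  have hx : x ≫ colimit.ι F j = φ := hpost.symm.trans ha
  have hx2 : x ≫ ModuleCat.ofHom (Module.DirectLimit.of R ι G f j) ≫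
      ModuleCat.ofHom e.toLinearMap = 𝟙 _ := by
    rw [← hc j, Category.assoc, ← Category.assoc x, hx]
    simp only [φ, Category.assoc, Iso.inv_hom_id_assoc]
    ext n
    simp
  haveI := hfp j
  let x' : N →ₗ[R] G j := x.hom
  refine finitePresentation_of_retract (P := G j)
    (e.toLinearMap ∘ₗ Module.DirectLimit.of R ι G f j) x' ?_
  intro n
  have := congr($hx2 n)
  exact this

end Groth.Agent.Helper1.CoyonFin
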