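import Mathlib
import Groth.Prelude
import Groth.Agent.Lib.Helper7.SHens.Regular
import Groth.Agent.Lib.Helper7.SHens.CMFlat
import Groth.Agent.Lib.Helper4.FibreStalkDim1
import Groth.Agent.Lib.Helper8.CplIso2
import Groth.Agent.Lib.Helper8.AdicReg1
import Groth.Agent.Lib.Lead.RegBlow1

/-!
# Regularity and base change to the completion (S1598, S1597) (helper1)
-/

set_option autoImplicit false
set_option linter.style.haveILetI false
set_option linter.unusedSectionVars false

universe u

open CategoryTheory CategoryTheory.Limits AlgebraicGeometry IsLocalRing TensorProduct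

namespace Groth.Agent.Helper1.CplReg

/-- If `I` kills `K`, then `K → K ⊗_A Â` is bijective. -/
theorem tensor_bijective (A : Type u) [CommRing A] [IsNoetherianRing A] (I : Ideal A)
    (K : Type u) [CommRing K] [Algebra A K] (hK : ∀ a ∈ I, algebraMap A K a = 0) :
    Function.Bijective
      (Algebra.TensorProduct.includeLeftRingHom : K →+* K ⊗[A] AdicCompletion I A) := by
  constructor
  · have hIK : ∀ a ∈ I, (Algebra.ofId A K) a = 0 := hK
    let σ₀ : A ⧸ I →ₐ[A] K := Ideal.Quotient.liftₐ I (Algebra.ofId A K) hIK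
    let σ : AdicCompletion I A →ₐ[A] K := σ₀.comp (AdicCompletion.evalOneₐ I)
    let ρ : K ⊗[A] AdicCompletion I A →ₐ[A] K :=
      Algebra.TensorProduct.productMap (AlgHom.id A K) σ
    intro c c' h
    have h1 := congrArg ρ h
    have h2 : ∀ d : K, ρ (Algebra.TensorProduct.includeLeftRingHom d) = d := by
      intro d
      change ρ (d ⊗ₜ[A] (1 : AdicCompletion I A)) = d
      rw [Algebra.TensorProduct.productMap_apply_tmul, map_one, mul_one]
      rfl
    rw [h2, h2] at h1
    exact h1
  · intro z
    induction z using TensorProduct.induction_on with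
    | zero => exact ⟨0, map_zero _⟩
    | add z w hz hw =>
      obtain ⟨c, rfl⟩ := hz
      obtain ⟨c', rfl⟩ := hw
      exact ⟨c + c', map_add _ _ _⟩
    | tmul c w =>
      obtain ⟨a, ha⟩ := Groth.Agent.Helper8.CplIso.exists_sub_mem_map A I w
      have key : ∀ v ∈ I.map (algebraMap A (AdicCompletion I A)), ∀ c : K,
          c ⊗ₜ[A] v = (0 : K ⊗[A] AdicCompletion I A) := by
        intro v hv
        induction hv using Submodule.span_induction with
        | mem x h =>
          obtain ⟨i, hi, rfl⟩ := h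
          intro c
          rw [Algebra.algebraMap_eq_smul_one, ← TensorProduct.smul_tmul, Algebra.smul_def,
            hK i hi, zero_mul, TensorProduct.zero_tmul]
        | zero => intro c; exact TensorProduct.tmul_zero _ _
        | add x y _ _ hx hy => intro c; rw [TensorProduct.tmul_add, hx, hy, add_zero]
        | smul r x _ hx =>
          intro c
          have h3 : c ⊗ₜ[A] (r • x) = ((1 : K) ⊗ₜ[A] r) * (c ⊗ₜ[A] x) := by
            rw [Algebra.TensorProduct.tmul_mul_tmul, one_mul, smul_eq_mul]
          rw [h3, hx, mul_zero]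
      refine ⟨a • c, ?_⟩
      have hw : w = algebraMap A _ a + (w - algebraMap A _ a) := by ring
      rw [hw, TensorProduct.tmul_add, key _ ha, add_zero, Algebra.algebraMap_eq_smul_one,
        ← TensorProduct.smul_tmul]
      rfl

/-- The stalks of a scheme isomorphic to the spectrum of a field are fields. -/
theorem isField_stalk_of_iso {F : Scheme.{u}} (K : Type u) [CommRing K] (hK : IsField K)
    (e : F ≅ Spec (CommRingCat.of K)) (z : F) : IsField (F.presheaf.stalk z) := by
  obtain ⟨p, hp⟩ : ∃ p : PrimeSpectrum K, p = e.hom z := ⟨_, rfl⟩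
  have hfield : IsField ((Spec (CommRingCat.of K)).presheaf.stalk p) := by
    letI alg : Algebra K ((Spec (CommRingCat.of K)).presheaf.stalk p) :=
      StructureSheaf.stalkAlgebra K p
    haveI : IsLocalization.AtPrime ((Spec (CommRingCat.of K)).presheaf.stalk p) p.asIdeal :=
      StructureSheaf.IsLocalization.to_stalk K p
    have hu : p.asIdeal.primeCompl ≤ IsUnit.submonoid K := by
      intro x hx
      have hx0 : x ≠ 0 := fun h => hx (h ▸ p.asIdeal.zero_mem)
      obtain ⟨b, hb⟩ := hK.mul_inv_cancel hx0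
      exact isUnit_iff_exists_inv.mpr ⟨b, hb⟩
    let e1 : K ≃ₐ[K] ((Spec (CommRingCat.of K)).presheaf.stalk p) :=
      IsLocalization.atUnits K p.asIdeal.primeCompl hu
    exact MulEquiv.isField hK e1.symm.toMulEquiv
  subst hp
  let e2 : ((Spec (CommRingCat.of K)).presheaf.stalk (e.hom z)) ≃+* F.presheaf.stalk z :=
    (asIso (e.hom.stalkMap z)).commRingCatIsoToRingEquiv
  exact MulEquiv.isField hfield e2.symm.toMulEquiv

section Sch

variable {A : Type u} [CommRing A] [IsLocalRing A] [IsNoetherianRing A] {X : Scheme.{u}}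
  (f : X ⟶ Spec (CommRingCat.of A))

/-- The fibre of `X ×_A Â → X` over a point of the closed fibre is the spectrum of a field. -/
theorem exists_fiber_iso (x₀ : X) (hx₀ : f x₀ = closedPoint A) :
    ∃ (K : Type u) (_ : CommRing K), IsField K ∧
      Nonempty ((Curv2.bcCplFst A f).fiber x₀ ≅ Spec (CommRingCat.of K)) := by
  obtain ⟨r, hr⟩ : ∃ r : Spec (X.residueField x₀) ⟶ X, r = X.fromSpecResidueField x₀ :=
    ⟨_, rfl⟩
  obtain ⟨θ, hθ⟩ : ∃ θ : CommRingCat.of A ⟶ X.residueField x₀, Spec.map θ = r ≫ f :=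
    ⟨Spec.preimage (r ≫ f), Spec.map_preimage _⟩
  letI : Algebra A (X.residueField x₀) := θ.hom.toAlgebra
  have halg : algebraMap A (X.residueField x₀) = θ.hom := RingHom.algebraMap_toAlgebra _
  have hkill : ∀ a ∈ maximalIdeal A, algebraMap A (X.residueField x₀) a = 0 := by
    intro a ha
    rw [halg]
    obtain ⟨pt, hpt⟩ : ∃ pt : Spec (X.residueField x₀), pt = closedPoint (X.residueField x₀) :=
      ⟨_, rfl⟩
    have h1 : (Spec.map θ) pt = f x₀ := by
      rw [hθ, hr, Scheme.Hom.comp_apply, Scheme.fromSpecResidueField_apply]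
    have h2 : a ∈ PrimeSpectrum.asIdeal ((Spec.map θ) pt) := by
      rw [h1, hx₀]
      exact ha
    have h3 : θ.hom a ∈ PrimeSpectrum.asIdeal pt := h2
    have h4 : PrimeSpectrum.asIdeal pt = ⊥ := by
      rw [hpt]
      exact IsLocalRing.maximalIdeal_eq_bot
    rw [h4] at h3
    exact h3
  have hbij := tensor_bijective A (maximalIdeal A) (X.residueField x₀) hkill
  have hKf : IsField ((X.residueField x₀) ⊗[A] Curv2.cpl A) :=
    MulEquiv.isField (Field.toIsField (X.residueField x₀))
      (RingEquiv.ofBijective _ hbij).symm.toMulEquiv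
  have sq1 : IsPullback (pullback.snd (Curv2.bcCplFst A f) r)
      (pullback.fst (Curv2.bcCplFst A f) r ≫ Curv2.bcCplSnd A f) (r ≫ f)
      (Spec.map (CommRingCat.ofHom (algebraMap A (Curv2.cpl A)))) :=
    (IsPullback.of_hasPullback (Curv2.bcCplFst A f) r).flip.paste_vert
      (IsPullback.of_hasPullback f _)
  have sq2 := isPullback_SpecMap_of_isPushout _ _ _ _
    (CommRingCat.isPushout_tensorProduct A (X.residueField x₀) (Curv2.cpl A))
  have hθ' : Spec.map (CommRingCat.ofHom (algebraMap A (X.residueField x₀))) = r ≫ f := by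
    rw [← hθ, halg]
    rfl
  rw [hθ'] at sq2
  subst hr
  exact ⟨(X.residueField x₀) ⊗[A] Curv2.cpl A, inferInstance, hKf,
    ⟨sq1.isoIsPullback _ _ sq2⟩⟩

theorem maximalIdeal_le_map (x₀ : X) (hx₀ : f x₀ = closedPoint A)
    (y' : (Curv2.bcCplFst A f).fiber x₀) :
    maximalIdeal ((Curv2.bcCpl A f).presheaf.stalk ((Curv2.bcCplFst A f).fiberι x₀ y')) ≤
      (maximalIdeal (X.presheaf.stalk
        ((Curv2.bcCplFst A f) ((Curv2.bcCplFst A f).fiberι x₀ y')))).map
        ((Curv2.bcCplFst A f).stalkMap ((Curv2.bcCplFst A f).fiberι x₀ y')).hom := by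
  obtain ⟨K, _, hK, ⟨e⟩⟩ := exists_fiber_iso f x₀ hx₀
  have hF := isField_stalk_of_iso K hK e y'
  refine le_trans ?_
    (Groth.Agent.Lib.Helper4.FibreStalkDim1.ker_stalkMap_fiberι_le (Curv2.bcCplFst A f) x₀ y')
  intro b hb
  rw [RingHom.mem_ker]
  by_contra hne
  obtain ⟨c, hc⟩ := hF.mul_inv_cancel hne
  have hu : IsUnit ((((Curv2.bcCplFst A f).fiberι x₀).stalkMap y').hom b) :=
    isUnit_iff_exists_inv.mpr ⟨c, hc⟩
  have hu' : IsUnit b :=
    (isUnit_map_iff (((Curv2.bcCplFst A f).fiberι x₀).stalkMap y').hom b).mp hu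
  exact ((IsLocalRing.mem_maximalIdeal _).mp hb) hu'

end Sch

/-- Regularity along a flat morphism whose stalk map has trivial closed fibre. -/
theorem regular_iff_of_le {X Y : Scheme.{u}} [IsLocallyNoetherian X] [IsLocallyNoetherian Y]
    (h : Y ⟶ X) [Flat h] (y : Y)
    (hle : maximalIdeal (Y.presheaf.stalk y) ≤
      (maximalIdeal (X.presheaf.stalk (h y))).map (h.stalkMap y).hom) :
    IsRegularLocalRing (Y.presheaf.stalk y) ↔ IsRegularLocalRing (X.presheaf.stalk (h y)) := by
  letI : Algebra (X.presheaf.stalk (h y)) (Y.presheaf.stalk y) := (h.stalkMap y).hom.toAlgebra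
  have halg : algebraMap (X.presheaf.stalk (h y)) (Y.presheaf.stalk y) = (h.stalkMap y).hom :=
    RingHom.algebraMap_toAlgebra _
  haveI hloc : IsLocalHom (algebraMap (X.presheaf.stalk (h y)) (Y.presheaf.stalk y)) := by
    rw [halg]
    infer_instance
  haveI : Module.Flat (X.presheaf.stalk (h y)) (Y.presheaf.stalk y) := Flat.stalkMap h y
  haveI : Module.FaithfullyFlat (X.presheaf.stalk (h y)) (Y.presheaf.stalk y) :=
    Module.FaithfullyFlat.of_flat_of_isLocalHom
  have hle' : maximalIdeal (Y.presheaf.stalk y) ≤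
      (maximalIdeal (X.presheaf.stalk (h y))).map
        (algebraMap (X.presheaf.stalk (h y)) (Y.presheaf.stalk y)) := by
    rw [halg]
    exact hle
  have hm : (maximalIdeal (X.presheaf.stalk (h y))).map
      (algebraMap (X.presheaf.stalk (h y)) (Y.presheaf.stalk y)) =
      maximalIdeal (Y.presheaf.stalk y) :=
    le_antisymm (((IsLocalRing.local_hom_TFAE
      (algebraMap (X.presheaf.stalk (h y)) (Y.presheaf.stalk y))).out 0 2).mp hloc) hle'
  exact Groth.Agent.Helper7.SHens.isRegularLocalRing_iff_of_faithfullyFlat _ _ hm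
    (Groth.Agent.Helper7.SHens.ringKrullDim_eq_of_flat_of_pow_le _ _ 1
      (by rw [pow_one]; exact hle'))

section Main

variable (A : Type u) [CommRing A] [IsLocalRing A] [IsNoetherianRing A] {X : Scheme.{u}}
  (f : X ⟶ Spec (CommRingCat.of A))

theorem isLocalHom_algebraMap_cpl : IsLocalHom (algebraMap A (Curv2.cpl A)) :=
  ((IsLocalRing.local_hom_TFAE (algebraMap A (Curv2.cpl A))).out 0 2).mpr
    (le_of_eq (AdicCompletion.maximalIdeal_eq_map (R := A)).symm)

theorem map_closedPoint :
    (Spec.map (CommRingCat.ofHom (algebraMap A (Curv2.cpl A)))) (closedPoint (Curv2.cpl A)) =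
      closedPoint A := by
  haveI := isLocalHom_algebraMap_cpl A
  exact IsLocalRing.comap_closedPoint (algebraMap A (Curv2.cpl A))

theorem flat_fst : Flat (Curv2.bcCplFst A f) := by
  haveI : Flat (Spec.map (CommRingCat.ofHom (algebraMap A (Curv2.cpl A)))) := by
    rw [HasRingHomProperty.Spec_iff (P := @Flat)]
    exact (RingHom.flat_algebraMap_iff).mpr inferInstance
  exact MorphismProperty.pullback_fst _ _ inferInstance

theorem S1598_main [LocallyOfFiniteType f] (y : Curv2.bcCpl A f)
    (hy : (Curv2.bcCplSnd A f) y = closedPoint (Curv2.cpl A)) :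
    IsRegularLocalRing ((Curv2.bcCpl A f).presheaf.stalk y) ↔
      IsRegularLocalRing (X.presheaf.stalk ((Curv2.bcCplFst A f) y)) := by
  haveI : IsNoetherianRing (Curv2.cpl A) := Groth.Agent.Helper8.AdicReg.isNoetherianRing A _
  haveI : IsLocallyNoetherian X := LocallyOfFiniteType.isLocallyNoetherian f
  haveI : IsLocallyNoetherian (Curv2.bcCpl A f) :=
    inferInstanceAs (IsLocallyNoetherian
      (pullback f (Spec.map (CommRingCat.ofHom (algebraMap A (Curv2.cpl A))))))
  haveI := flat_fst A f
  have hx₀ : f ((Curv2.bcCplFst A f) y) = closedPoint A := by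
    have hc : (Curv2.bcCplFst A f ≫ f) y =
        (Curv2.bcCplSnd A f ≫ Spec.map (CommRingCat.ofHom (algebraMap A (Curv2.cpl A)))) y := by
      rw [pullback.condition]
    rw [Scheme.Hom.comp_apply, Scheme.Hom.comp_apply, hy, map_closedPoint] at hc
    exact hc
  have key := maximalIdeal_le_map f _ hx₀ ((Curv2.bcCplFst A f).asFiber y)
  have h2 := regular_iff_of_le (Curv2.bcCplFst A f) _ key
  rw [(Curv2.bcCplFst A f).fiberι_asFiber y] at h2
  exact h2

theorem S1597_main [IsProper f] :
    (∀ x : X, IsRegularLocalRing (X.presheaf.stalk x)) ↔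
      ∀ y : Curv2.bcCpl A f, IsRegularLocalRing ((Curv2.bcCpl A f).presheaf.stalk y) := by
  haveI : IsProper (Curv2.bcCplSnd A f) :=
    MorphismProperty.pullback_snd (P := @IsProper) _ _ inferInstance
  haveI : CompactSpace X := QuasiCompact.compactSpace_of_compactSpace f
  haveI : CompactSpace (Curv2.bcCpl A f) :=
    QuasiCompact.compactSpace_of_compactSpace (Curv2.bcCplSnd A f)
  constructor
  · intro hX y
    obtain ⟨y₀, hy₀, hcl⟩ := IsClosed.exists_closed_singleton
      (isClosed_closure (s := ({y} : Set (Curv2.bcCpl A f)))) ⟨y, subset_closure rfl⟩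
    have hsp : y ⤳ y₀ := specializes_iff_mem_closure.mpr hy₀
    have hcl' : IsClosed ({(Curv2.bcCplSnd A f) y₀} : Set (Spec (CommRingCat.of (Curv2.cpl A)))) := by
      have := (Curv2.bcCplSnd A f).isClosedMap _ hcl
      rwa [Set.image_singleton] at this
    have hy₀' : (Curv2.bcCplSnd A f) y₀ = closedPoint (Curv2.cpl A) := by
      have := (IsLocalRing.specializes_closedPoint ((Curv2.bcCplSnd A f) y₀)).mem_closed hcl'
        (Set.mem_singleton _)
      exact (Set.mem_singleton_iff.mp this).symm
    haveI : IsRegularLocalRing ((Curv2.bcCpl A f).presheaf.stalk y₀) :=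
      (S1598_main A f y₀ hy₀').mpr (hX _)
    exact Groth.Agent.Lead.RegBlow.isRegularLocalRing_stalk_of_specializes y₀ y hsp
  · intro hY x
    obtain ⟨x₀, hx₀, hcl⟩ := IsClosed.exists_closed_singleton
      (isClosed_closure (s := ({x} : Set X))) ⟨x, subset_closure rfl⟩
    have hsp : x ⤳ x₀ := specializes_iff_mem_closure.mpr hx₀
    have hcl' : IsClosed ({f x₀} : Set (Spec (CommRingCat.of A))) := by
      have := f.isClosedMap _ hcl
      rwa [Set.image_singleton] at this
    have hfx₀ : f x₀ = closedPoint A := by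
      have := (IsLocalRing.specializes_closedPoint (f x₀)).mem_closed hcl' (Set.mem_singleton _)
      exact (Set.mem_singleton_iff.mp this).symm
    obtain ⟨y₀, hy1, hy2⟩ := Scheme.Pullback.exists_preimage_pullback
      (f := f) (g := Spec.map (CommRingCat.ofHom (algebraMap A (Curv2.cpl A)))) x₀
      (closedPoint (Curv2.cpl A)) (by rw [hfx₀, map_closedPoint])
    have h3 := (S1598_main A f y₀ hy2).mp (hY y₀)
    have hy1' : (Curv2.bcCplFst A f) y₀ = x₀ := hy1
    rw [hy1'] at h3
    haveI := h3
    exact Groth.Agent.Lead.RegBlow.isRegularLocalRing_stalk_of_specializes x₀ x hsp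

end Main

end Groth.Agent.Helper1.CplReg
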