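import Mathlib
import Groth.Agent.Lib.Helper1.Cocyc1
import Groth.Agent.Lib.Helper1.CocycleIso
import Groth.Agent.Lib.Helper1.PullGen
import Groth.Agent.Lib.Helper1.PullSec
import Groth.Agent.Lib.Helper1.TwForm1

/-!
# Gluing invertible modules from cocycles and descending them along a morphism (helper1, PicGlueA)
-/
set_option autoImplicit false
universe u
open CategoryTheory CategoryTheory.Limits AlgebraicGeometry TopologicalSpace Opposite

namespace Groth.Agent.Helper1.PicGlue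

open Groth.Agent.Helper1.QcCech Groth.Agent.Helper1.LGen Groth.Agent.Helper1
open Groth.Agent.Helper1.PullSec Groth.Agent.Helper1.TwForm

section Core

variable {X' X : Scheme.{u}} (f : X' ⟶ X)

theorem app_resR {V V' : X.Opens} (h : V' ≤ V) (r : Γ(X, V)) :
    (f.app V').hom (resR h r) = resR (f.preimage_mono h) ((f.app V).hom r) := by
  have := congrArg (fun φ => φ.hom r) (f.naturality (homOfLE h).op)
  exact this

/-- core: a module upstairs with generators over the preimages of a cover, whose transition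
functions come from a cocycle downstairs, is the pullback of an invertible module -/
theorem core' (N : X'.Modules) {ι : Type u} (U : ι → X.Opens) (hU : iSup U = ⊤)
    (ℓ : ∀ i, Γ(N, f ⁻¹ᵁ U i)) (hℓ : ∀ i, IsGen N (f ⁻¹ᵁ U i) (ℓ i))
    (η : ∀ i j : ι, (Γ(X, U i ⊓ U j))ˣ) (hη : Cocyc.IsCocycle U η)
    (hc : ∀ i j, res N (f.preimage_mono (inf_le_left : U i ⊓ U j ≤ U i)) (ℓ i) =
      (f.app (U i ⊓ U j)).hom (η i j : Γ(X, U i ⊓ U j)) •
        res N (f.preimage_mono (inf_le_right : U i ⊓ U j ≤ U j)) (ℓ j)) :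
    ∃ (L : X.Modules) (s : ∀ i, Γ(L, U i)), PicF.IsInvertible L ∧ (∀ i, IsGen L (U i) (s i)) ∧
      (∀ i j, res L (inf_le_left : U i ⊓ U j ≤ U i) (s i) =
        (η i j : Γ(X, U i ⊓ U j)) • res L (inf_le_right : U i ⊓ U j ≤ U j) (s j)) ∧
      ∃ e : (Scheme.Modules.pullback f).obj L ≅ N,
        ∀ i, e.hom.app (f ⁻¹ᵁ U i) (σ f L (U i) (s i)) = ℓ i := by
  obtain ⟨L, s, hL, hgen, htr⟩ := Cocyc.main hη hU
  have hs : ∀ i, IsGen L (U i) (s i) := fun i V h => hgen i V h
  have htr' : ∀ i j, res L (inf_le_left : U i ⊓ U j ≤ U i) (s i) =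
        (η i j : Γ(X, U i ⊓ U j)) • res L (inf_le_right : U i ⊓ U j ≤ U j) (s j) :=
    fun i j => htr i j
  have key : ∀ i j, res ((Scheme.Modules.pullback f).obj L)
        (f.preimage_mono (inf_le_left : U i ⊓ U j ≤ U i)) (σ f L (U i) (s i)) =
      (f.app (U i ⊓ U j)).hom (η i j : Γ(X, U i ⊓ U j)) •
        res ((Scheme.Modules.pullback f).obj L)
          (f.preimage_mono (inf_le_right : U i ⊓ U j ≤ U j)) (σ f L (U j) (s j)) := by
    intro i j
    rw [σ_res f L (inf_le_left : U i ⊓ U j ≤ U i) (s i), htr' i j, σ_smul,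
      ← σ_res f L (inf_le_right : U i ⊓ U j ≤ U j) (s j)]
  let F : CocycleIso.GenFam ((Scheme.Modules.pullback f).obj L) N :=
    { ι := ι
      W := fun i => f ⁻¹ᵁ U i
      a := fun i => σ f L (U i) (s i)
      b := ℓ
      ha := fun i => PullGen.isGen_σ f (hs i)
      hb := hℓ
      cov := fun x => by
        have hx : f.base x ∈ (iSup U : X.Opens) := by rw [hU]; trivial
        obtain ⟨i, hi⟩ := Opens.mem_iSup.1 hx
        exact ⟨i, hi⟩
      compat := by
        intro i j v hv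
        have h1 : (f.app (U i ⊓ U j)).hom (η i j : Γ(X, U i ⊓ U j)) = v := by
          apply ((PullGen.isGen_σ f (hs j)) (f ⁻¹ᵁ U i ⊓ f ⁻¹ᵁ U j) inf_le_right).1
          exact (key i j).symm.trans hv
        rw [← h1]
        exact hc i j }
  exact ⟨L, s, hL, hs, htr', F.iso, fun i => F.iso_hom_a i⟩

end Core

section K

variable {X : Scheme.{u}}

/-- restriction of units -/
noncomputable def rU {O O' : X.Opens} (h : O' ≤ O) : (Γ(X, O))ˣ →* (Γ(X, O'))ˣ :=
  Units.map (resR h).toMonoidHom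

theorem rU_val {O O' : X.Opens} (h : O' ≤ O) (a : (Γ(X, O))ˣ) :
    ((rU h a : (Γ(X, O'))ˣ) : Γ(X, O')) = resR h (a : Γ(X, O)) := rfl

theorem rU_rU {O O' O'' : X.Opens} (h : O' ≤ O) (h' : O'' ≤ O') (a : (Γ(X, O))ˣ) :
    rU h' (rU h a) = rU (h'.trans h) a := by
  apply Units.ext
  rw [rU_val, rU_val, rU_val, resR_resR]

open Classical in
/-- the cocycle attached to units on `U i ⊓ V`, when distinct members of the cover meet
inside `V` -/
noncomputable def ηK {ι : Type u} (U : ι → X.Opens) (V : X.Opens)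
    (hUV : ∀ i j, i ≠ j → U i ⊓ U j ≤ V) (a : ∀ i, (Γ(X, U i ⊓ V))ˣ) (i j : ι) :
    (Γ(X, U i ⊓ U j))ˣ :=
  if h : i = j then 1 else
    rU (le_inf inf_le_left (hUV i j h)) (a i) * (rU (le_inf inf_le_right (hUV i j h)) (a j))⁻¹

theorem ηK_self {ι : Type u} (U : ι → X.Opens) (V : X.Opens)
    (hUV : ∀ i j, i ≠ j → U i ⊓ U j ≤ V) (a : ∀ i, (Γ(X, U i ⊓ V))ˣ) (i : ι) :
    ηK U V hUV a i i = 1 := by
  rw [ηK, dif_pos rfl]

theorem ηK_res {ι : Type u} (U : ι → X.Opens) (V : X.Opens)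
    (hUV : ∀ i j, i ≠ j → U i ⊓ U j ≤ V) (a : ∀ i, (Γ(X, U i ⊓ V))ˣ) (i j : ι)
    {O : X.Opens} (hO : O ≤ U i ⊓ U j) (hOV : O ≤ V) :
    rU hO (ηK U V hUV a i j) = rU (le_inf (hO.trans inf_le_left) hOV) (a i) *
      (rU (le_inf (hO.trans inf_le_right) hOV) (a j))⁻¹ := by
  by_cases h : i = j
  · subst h
    rw [ηK_self, map_one, mul_inv_cancel]
  · rw [ηK, dif_neg h, map_mul, map_inv, rU_rU, rU_rU]

theorem isCocycle_ηK {ι : Type u} (U : ι → X.Opens) (V : X.Opens)
    (hUV : ∀ i j, i ≠ j → U i ⊓ U j ≤ V) (a : ∀ i, (Γ(X, U i ⊓ V))ˣ) :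
    Cocyc.IsCocycle U (ηK U V hUV a) := by
  intro i j k
  have goalU : rU (inf_le_inf_right (U k) inf_le_left : U i ⊓ U j ⊓ U k ≤ U i ⊓ U k)
        (ηK U V hUV a i k) =
      rU (inf_le_left : U i ⊓ U j ⊓ U k ≤ U i ⊓ U j) (ηK U V hUV a i j) *
      rU (inf_le_inf_right (U k) inf_le_right : U i ⊓ U j ⊓ U k ≤ U j ⊓ U k)
        (ηK U V hUV a j k) := by
    by_cases hall : i = j ∧ j = k
    · obtain ⟨rfl, rfl⟩ := hall
      simp only [ηK_self, map_one, mul_one]
    · have hTV : U i ⊓ U j ⊓ U k ≤ V := by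
        by_cases hij : i = j
        · have hjk : j ≠ k := fun h => hall ⟨hij, h⟩
          exact (inf_le_inf_right (U k) inf_le_right).trans (hUV j k hjk)
        · exact inf_le_left.trans (hUV i j hij)
      rw [ηK_res U V hUV a i k _ hTV, ηK_res U V hUV a i j _ hTV, ηK_res U V hUV a j k _ hTV]
      rw [mul_assoc, inv_mul_cancel_left]
  exact congrArg Units.val goalU

end K

section Descend

variable {X' X : Scheme.{u}} (f : X' ⟶ X)

/-- descent of an invertible module along `f`, when `f` induces bijections on functions over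
opens of `V` and the module is trivialised over the preimages of a cover whose distinct members
meet inside `V` -/
theorem descend (N : X'.Modules) (V : X.Opens)
    (hbij : ∀ O : X.Opens, O ≤ V → Function.Bijective (f.app O).hom)
    {ι : Type u} (U : ι → X.Opens) (hU : iSup U = ⊤) (hUV : ∀ i j, i ≠ j → U i ⊓ U j ≤ V)
    (ℓ : ∀ i, Γ(N, f ⁻¹ᵁ U i)) (hℓ : ∀ i, IsGen N (f ⁻¹ᵁ U i) (ℓ i)) :
    ∃ (L : X.Modules) (s : ∀ i, Γ(L, U i)), PicF.IsInvertible L ∧ (∀ i, IsGen L (U i) (s i)) ∧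
      ∃ e : (Scheme.Modules.pullback f).obj L ≅ N,
        ∀ i, e.hom.app (f ⁻¹ᵁ U i) (σ f L (U i) (s i)) = ℓ i := by
  classical
  have hc : ∀ i j, ∃ c : (Γ(X', f ⁻¹ᵁ (U i ⊓ U j)))ˣ,
      res N (f.preimage_mono (inf_le_left : U i ⊓ U j ≤ U i)) (ℓ i) =
        (c : Γ(X', f ⁻¹ᵁ (U i ⊓ U j))) •
          res N (f.preimage_mono (inf_le_right : U i ⊓ U j ≤ U j)) (ℓ j) :=
    fun i j => IsGen.exists_unit ((hℓ j).res _) ((hℓ i).res _)
  choose c hc using hc
  have hη : ∀ i j, ∃ η : (Γ(X, U i ⊓ U j))ˣ,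
      (res N (f.preimage_mono (inf_le_left : U i ⊓ U j ≤ U i)) (ℓ i) =
        (f.app (U i ⊓ U j)).hom (η : Γ(X, U i ⊓ U j)) •
          res N (f.preimage_mono (inf_le_right : U i ⊓ U j ≤ U j)) (ℓ j)) ∧ (i = j → η = 1) := by
    intro i j
    by_cases h : i = j
    · subst h
      exact ⟨1, by rw [Units.val_one, map_one, one_smul], fun _ => rfl⟩
    · let e := RingEquiv.ofBijective (f.app (U i ⊓ U j)).hom (hbij _ (hUV i j h))
      refine ⟨Units.map e.symm.toRingHom.toMonoidHom (c i j), ?_, fun h' => absurd h' h⟩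
      have h2 : (f.app (U i ⊓ U j)).hom
          ((Units.map e.symm.toRingHom.toMonoidHom (c i j) : (Γ(X, U i ⊓ U j))ˣ) :
            Γ(X, U i ⊓ U j)) = (c i j : Γ(X', f ⁻¹ᵁ (U i ⊓ U j))) :=
        e.apply_symm_apply _
      rw [h2]
      exact hc i j
  choose η hηc hη1 using hη
  have hcoc : Cocyc.IsCocycle U η := by
    intro i j k
    by_cases hall : i = j ∧ j = k
    · obtain ⟨rfl, rfl⟩ := hall
      simp only [hη1 i i rfl, Units.val_one, map_one, mul_one]
    · have hTV : U i ⊓ U j ⊓ U k ≤ V := by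
        by_cases hij : i = j
        · have hjk : j ≠ k := fun h => hall ⟨hij, h⟩
          exact (inf_le_inf_right (U k) inf_le_right).trans (hUV j k hjk)
        · exact inf_le_left.trans (hUV i j hij)
      apply (hbij _ hTV).1
      rw [map_mul, app_resR, app_resR, app_resR]
      apply ((hℓ k) (f ⁻¹ᵁ (U i ⊓ U j ⊓ U k)) (f.preimage_mono inf_le_right)).1
      have e1 := congrArg (res N (f.preimage_mono
        (inf_le_inf_right (U k) inf_le_left : U i ⊓ U j ⊓ U k ≤ U i ⊓ U k))) (hηc i k)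
      have e2 := congrArg (res N (f.preimage_mono
        (inf_le_left : U i ⊓ U j ⊓ U k ≤ U i ⊓ U j))) (hηc i j)
      have e3 := congrArg (res N (f.preimage_mono
        (inf_le_inf_right (U k) inf_le_right : U i ⊓ U j ⊓ U k ≤ U j ⊓ U k))) (hηc j k)
      rw [res_smul, res_res, res_res] at e1 e2 e3
      change _ • res N _ (ℓ k) = (_ * _) • res N _ (ℓ k)
      rw [← e1, mul_smul, ← e3, ← e2]
  obtain ⟨L, s, hL, hs, -, e, he⟩ := core' f N U hU ℓ hℓ η hcoc hηc
  exact ⟨L, s, hL, hs, e, he⟩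

end Descend

end Groth.Agent.Helper1.PicGlue
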