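import Mathlib
import Groth.Agent.Lib.Helper1.LGen
import Groth.Agent.Lib.Helper1.LGenLoc
import Groth.Agent.Lib.Helper1.GenLoc
import Groth.Agent.Lib.Helper1.QcLoc
import Groth.Agent.Lib.Helper1.InvQc
import Groth.Agent.Lib.Helper1.TwForm1

/-!
# Trivialising an invertible module near a finite set of points of an affine open (helper1, PicGlueB)
-/
set_option autoImplicit false
universe u
open CategoryTheory CategoryTheory.Limits AlgebraicGeometry TopologicalSpace Opposite

namespace Groth.Agent.Helper1.PicGlue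

open Groth.Agent.Helper1.QcCech Groth.Agent.Helper1.LGen Groth.Agent.Helper1
open Groth.Agent.Helper1.TwForm

variable {X : Scheme.{u}}

/-- the prime ideal of functions on `W` vanishing at `x` -/
noncomputable def pt (W : X.Opens) (x : X) (hx : x ∈ W) : Ideal Γ(X, W) :=
  Ideal.comap (X.presheaf.germ W x hx).hom (IsLocalRing.maximalIdeal (X.presheaf.stalk x))

instance (W : X.Opens) (x : X) (hx : x ∈ W) : (pt W x hx).IsPrime := by
  unfold pt
  infer_instance

theorem mem_pt_iff (W : X.Opens) (x : X) (hx : x ∈ W) (f : Γ(X, W)) :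
    f ∈ pt W x hx ↔ x ∉ X.basicOpen f := by
  rw [X.mem_basicOpen f x hx]
  unfold pt
  rw [Ideal.mem_comap, IsLocalRing.mem_maximalIdeal, mem_nonunits_iff]

theorem mem_basicOpen_resR {W W' : X.Opens} (h : W' ≤ W) (f : Γ(X, W)) (x : X) (hx : x ∈ W') :
    x ∈ X.basicOpen (resR h f) ↔ x ∈ X.basicOpen f := by
  have h2 : X.basicOpen (resR h f) = W' ⊓ X.basicOpen f := by
    rw [resR]
    erw [Scheme.basicOpen_res]
  rw [h2]
  exact ⟨fun hh => hh.2, fun hh => ⟨hx, hh⟩⟩

/-- **an invertible module is trivial near any finite set of pairwise incomparable points of an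
affine open** -/
theorem exists_isGen_of_finite (L : X.Modules) (hL : PicF.IsInvertible L)
    {U : X.Opens} (hU : IsAffineOpen U) (F : Set X) (hF : F.Finite) (hFU : F ⊆ U)
    (hanti : ∀ x ∈ F, ∀ x' ∈ F, x ⤳ x' → x = x') :
    ∃ (O : X.Opens) (_ : O ≤ U) (a : Γ(L, O)), F ⊆ O ∧ IsGen L O a := by
  classical
  haveI : L.IsQuasicoherent := InvQc.isQuasicoherent_of_isInvertible L hL
  haveI : Fintype F := hF.fintype
  -- Step 1: sections over `U` generating near each point
  have h1 : ∀ x : F, ∃ (m : Γ(L, U)) (W : X.Opens) (hWU : W ≤ U), x.1 ∈ W ∧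
      IsGen L W (res L hWU m) := by
    intro x
    obtain ⟨W₀, a, hxW₀, ha⟩ := exists_isGen hL x.1
    obtain ⟨b, hbW, hxb⟩ := hU.exists_basicOpen_le (V := W₀) ⟨x.1, hxW₀⟩ (hFU x.2)
    obtain ⟨n, t, ht⟩ := QcLoc.exists_extend hU L b (res L hbW a)
    refine ⟨t, X.basicOpen b, X.basicOpen_le b, hxb, ?_⟩
    have hu : IsUnit (resR (X.basicOpen_le b) b) := X.toRingedSpace.isUnit_res_basicOpen b
    have hgen := IsGen.smul_unit (ha.res hbW) (hu.unit ^ n)
    have e : res L (X.basicOpen_le b) t =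
        ((hu.unit ^ n : (Γ(X, X.basicOpen b))ˣ) : Γ(X, X.basicOpen b)) • res L hbW a := by
      rw [Units.val_pow_eq_pow_val, IsUnit.unit_spec]
      exact ht
    rw [e]
    exact hgen
  choose m W hWU hxW hgen using h1
  -- Step 2: separating functions
  have h2 : ∀ x x' : F, ∃ e : Γ(X, U), x.1 ∈ X.basicOpen e ∧ (x' ≠ x → x'.1 ∉ X.basicOpen e) := by
    intro x x'
    by_cases hxx : x' = x
    · refine ⟨1, ?_, fun h => absurd hxx h⟩
      rw [Scheme.basicOpen_one]
      exact hFU x.2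
    · have hns : ¬ (x'.1 ⤳ x.1) := fun hs => hxx (Subtype.ext (hanti x'.1 x'.2 x.1 x.2 hs))
      rw [specializes_iff_forall_open] at hns
      push Not at hns
      obtain ⟨O, hO, hxO, hx'O⟩ := hns
      obtain ⟨e, heO, hxe⟩ := hU.exists_basicOpen_le (V := ⟨O, hO⟩) ⟨x.1, hxO⟩ (hFU x.2)
      exact ⟨e, hxe, fun _ hx'e => hx'O (heO hx'e)⟩
  choose e hxe hx'e using h2
  let b : F → Γ(X, U) := fun x => ∏ x' : F, e x x'
  have hb1 : ∀ x : F, b x ∉ pt U x.1 (hFU x.2) := by
    intro x hmem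
    obtain ⟨x', -, hx'⟩ := (Ideal.IsPrime.prod_mem_iff).1 hmem
    exact ((mem_pt_iff U x.1 (hFU x.2) _).1 hx') (hxe x x')
  have hb2 : ∀ x x' : F, x' ≠ x → b x ∈ pt U x'.1 (hFU x'.2) := by
    intro x x' hne
    apply (Ideal.IsPrime.prod_mem_iff).2
    exact ⟨x', Finset.mem_univ _, (mem_pt_iff U x'.1 (hFU x'.2) _).2 (hx'e x x' hne)⟩
  -- Step 3: the combined section
  let mm : Γ(L, U) := ∑ x : F, b x • m x
  have h3 : ∀ x : F, ∃ (O : X.Opens) (hO : O ≤ U), x.1 ∈ O ∧ IsGen L O (res L hO mm) := by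
    intro x
    have hcf : ∀ x' : F, ∃ c : Γ(X, W x), c • res L (hWU x) (m x) = res L (hWU x) (m x') :=
      fun x' => (hgen x).exists_coeff _
    choose cf hcf using hcf
    have hcfx : cf x = 1 := by
      apply (TensGen.IsGen.bijective_self (hgen x)).1
      change cf x • res L (hWU x) (m x) = (1 : Γ(X, W x)) • res L (hWU x) (m x)
      rw [hcf x, one_smul]
    let C : Γ(X, W x) := ∑ x' : F, resR (hWU x) (b x') * cf x'
    have hmm : res L (hWU x) mm = C • res L (hWU x) (m x) := by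
      change res L (hWU x) (∑ x' : F, b x' • m x') = _
      rw [map_sum, Finset.sum_smul]
      apply Finset.sum_congr rfl
      intro x' _
      rw [res_smul, mul_smul, hcf x']
    have hCx : x.1 ∈ X.basicOpen C := by
      by_contra hnot
      have hCp : C ∈ pt (W x) x.1 (hxW x) := (mem_pt_iff _ _ _ _).2 hnot
      have hsplit : resR (hWU x) (b x) * cf x +
          ∑ x' ∈ (Finset.univ : Finset F).erase x, resR (hWU x) (b x') * cf x' = C :=
        Finset.add_sum_erase Finset.univ (fun x' : F => resR (hWU x) (b x') * cf x') (Finset.mem_univ x)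
      have hrest : ∑ x' ∈ (Finset.univ : Finset F).erase x, resR (hWU x) (b x') * cf x' ∈
          pt (W x) x.1 (hxW x) := by
        apply Ideal.sum_mem
        intro x' hx'
        have hne : x ≠ x' := fun h => (Finset.ne_of_mem_erase hx') h.symm
        apply Ideal.mul_mem_right
        rw [mem_pt_iff, mem_basicOpen_resR (hWU x) (b x') x.1 (hxW x)]
        exact (mem_pt_iff U x.1 (hFU x.2) _).1 (hb2 x' x hne)
      rw [← hsplit] at hCp
      have hfirst := (Ideal.add_mem_iff_left _ hrest).1 hCp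
      rw [hcfx, mul_one, mem_pt_iff, mem_basicOpen_resR (hWU x) (b x) x.1 (hxW x)] at hfirst
      exact hfirst (by
        by_contra hh
        exact hb1 x ((mem_pt_iff U x.1 (hFU x.2) _).2 hh))
    refine ⟨X.basicOpen C, (X.basicOpen_le C).trans (hWU x), hCx, ?_⟩
    have hu : IsUnit (resR (X.basicOpen_le C) C) := X.toRingedSpace.isUnit_res_basicOpen C
    have hg := IsGen.smul_unit ((hgen x).res (X.basicOpen_le C)) hu.unit
    have e2 : res L ((X.basicOpen_le C).trans (hWU x)) mm =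
        ((hu.unit : (Γ(X, X.basicOpen C))ˣ) : Γ(X, X.basicOpen C)) •
          res L (X.basicOpen_le C) (res L (hWU x) (m x)) := by
      rw [IsUnit.unit_spec, ← res_smul, ← hmm, res_res]
    rw [e2]
    exact hg
  choose O hO hxO hOgen using h3
  refine ⟨⨆ x : F, O x, iSup_le hO, res L (iSup_le hO) mm, ?_, ?_⟩
  · intro y hy
    exact Opens.mem_iSup.2 ⟨⟨y, hy⟩, hxO ⟨y, hy⟩⟩
  · apply LGenLoc.isGen_of_locally
    intro y hy
    obtain ⟨x, hyx⟩ := Opens.mem_iSup.1 hy
    refine ⟨O x, le_iSup O x, hyx, ?_⟩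
    rw [res_res]
    exact hOgen x

end Groth.Agent.Helper1.PicGlue
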