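import Mathlib
import Groth.Agent.Lib.Helper1.DimOneAff1

/-!
# Commutative algebra around a point with one-dimensional Noetherian local ring (helper1, PicGlueF)
-/
set_option autoImplicit false
universe u

namespace Groth.Agent.Helper1.PicGlue

section Alg

variable {A : Type u} [CommRing A] (p : Ideal A) [hp : p.IsPrime]

/-- if every prime between `I` and `p` contains `g`, then `s * g ^ N ∈ I` for some `s ∉ p` -/
theorem exists_mul_pow_mem (I : Ideal A) (g : A)
    (h : ∀ q : Ideal A, q.IsPrime → I ≤ q → q ≤ p → g ∈ q) :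
    ∃ s : A, s ∉ p ∧ ∃ N : ℕ, s * g ^ N ∈ I := by
  by_contra hne
  push Not at hne
  have hdisj : Disjoint (I : Set A)
      ((p.primeCompl ⊔ Submonoid.powers g : Submonoid A) : Set A) := by
    rw [Set.disjoint_left]
    intro x hxI hxM
    obtain ⟨s, hs, z, hz, rfl⟩ := Submonoid.mem_sup.1 hxM
    obtain ⟨N, rfl⟩ := hz
    exact hne s hs N hxI
  obtain ⟨q, hq, hIq, hqM⟩ := Ideal.exists_le_prime_disjoint I _ hdisj
  have hqp : q ≤ p := by
    intro x hx
    by_contra hxp
    exact (Set.disjoint_left.1 hqM) hx (Submonoid.mem_sup_left hxp)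
  exact (Set.disjoint_left.1 hqM) (h q hq hIq hqp)
    (Submonoid.mem_sup_right (Submonoid.mem_powers g))

/-- the primes strictly below `p` are finite in number, when the localisation at `p` is
Noetherian of dimension at most one -/
theorem finite_primes_lt (B : Type u) [CommRing B] [Algebra A B] [IsLocalization.AtPrime B p]
    [IsNoetherianRing B] (hdim : ringKrullDim B ≤ 1) :
    {q : Ideal A | q.IsPrime ∧ q < p}.Finite := by
  classical
  haveI : IsLocalRing B := IsLocalization.AtPrime.isLocalRing B p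
  have hmin : (minimalPrimes B).Finite := minimalPrimes.finite_of_isNoetherianRing B
  have hd : ∀ q : Ideal A, q < p → Disjoint (p.primeCompl : Set A) (q : Set A) := by
    intro q hqp
    rw [Set.disjoint_left]
    intro x hx hxq
    exact hx (hqp.le hxq)
  apply Set.Finite.of_finite_image (f := Ideal.map (algebraMap A B)) (hmin.subset ?_) ?_
  · rintro _ ⟨q, ⟨hq, hqp⟩, rfl⟩
    have hprime : (Ideal.map (algebraMap A B) q).IsPrime :=
      IsLocalization.isPrime_of_isPrime_disjoint p.primeCompl B q hq (hd q hqp)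
    have hcomap : (Ideal.map (algebraMap A B) q).under A = q :=
      IsLocalization.under_map_of_isPrime_disjoint p.primeCompl B hq (hd q hqp)
    have hne : (⟨_, hprime⟩ : PrimeSpectrum B) ≠ IsLocalRing.closedPoint B := by
      intro h
      have h2 : Ideal.map (algebraMap A B) q = IsLocalRing.maximalIdeal B :=
        congrArg PrimeSpectrum.asIdeal h
      have h3 := IsLocalization.AtPrime.under_maximalIdeal B p
      rw [← h2, hcomap] at h3
      exact hqp.ne h3
    exact DimOneAff.mem_minimalPrimes_of_ne_closedPoint B hdim ⟨_, hprime⟩ hne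
  · rintro q ⟨hq, hqp⟩ q' ⟨hq', hq'p⟩ h
    have e1 : (Ideal.map (algebraMap A B) q).under A = q :=
      IsLocalization.under_map_of_isPrime_disjoint p.primeCompl B hq (hd q hqp)
    have e2 : (Ideal.map (algebraMap A B) q').under A = q' :=
      IsLocalization.under_map_of_isPrime_disjoint p.primeCompl B hq' (hd q' hq'p)
    have h' : Ideal.map (algebraMap A B) q = Ideal.map (algebraMap A B) q' := h
    rw [← e1, ← e2, h']

/-- **cutting out the point**: if `p` is the only prime containing the finite set `t`, there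
are `f ∈ p` and `a ∉ p` such that `p` is the only prime containing `f` but not `a` -/
theorem exists_cut (B : Type u) [CommRing B] [Algebra A B] [IsLocalization.AtPrime B p]
    [IsNoetherianRing B] (hdim : ringKrullDim B ≤ 1)
    (t : Finset A) (htp : ∀ g ∈ t, g ∈ p)
    (ht : ∀ q : Ideal A, q.IsPrime → (∀ g ∈ t, g ∈ q) → q = p) :
    ∃ f ∈ p, ∃ a : A, a ∉ p ∧ ∀ q : Ideal A, q.IsPrime → f ∈ q → a ∉ q → q = p := by
  classical
  have hQfin := finite_primes_lt p B hdim
  -- Step A: prime avoidance
  have hA : ∃ f ∈ p, ∀ q : Ideal A, q.IsPrime → q ≤ p → f ∈ q → q = p := by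
    have hnot : ¬ ((p : Set A) ⊆ ⋃ q ∈ (↑hQfin.toFinset : Set (Ideal A)), (q : Set A)) := by
      intro hsub
      have h1 := (Ideal.subset_union_prime (s := hQfin.toFinset) (f := fun q : Ideal A => q)
        p p (fun q hq _ _ => ((hQfin.mem_toFinset).1 hq).1)).1 hsub
      obtain ⟨q, hq, hpq⟩ := h1
      exact (lt_irrefl _ (lt_of_le_of_lt hpq ((hQfin.mem_toFinset).1 hq).2))
    obtain ⟨f, hfp, hf⟩ := Set.not_subset.1 hnot
    refine ⟨f, hfp, fun q hq hqp hfq => ?_⟩
    by_contra hne
    apply hf
    have hqQ : q ∈ hQfin.toFinset := (hQfin.mem_toFinset).2 ⟨hq, lt_of_le_of_ne hqp hne⟩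
    exact Set.mem_biUnion (show q ∈ (↑hQfin.toFinset : Set (Ideal A)) from hqQ) hfq
  obtain ⟨f, hfp, hf⟩ := hA
  -- Step B
  have hB : ∀ g : t, ∃ s : A, s ∉ p ∧ ∃ N : ℕ, s * g.1 ^ N ∈ Ideal.span {f} := by
    intro g
    apply exists_mul_pow_mem p
    intro q hq hfq hqp
    have hfq' : f ∈ q := hfq (Ideal.subset_span (Set.mem_singleton f))
    rw [hf q hq hqp hfq']
    exact htp g.1 g.2
  choose s hs N hN using hB
  refine ⟨f, hfp, ∏ g : t, s g, ?_, ?_⟩
  · intro hmem
    obtain ⟨g, -, hg⟩ := (Ideal.IsPrime.prod_mem_iff).1 hmem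
    exact hs g hg
  · intro q hq hfq haq
    apply ht q hq
    intro g hg
    have hsq : s ⟨g, hg⟩ ∉ q := by
      intro hsq
      apply haq
      haveI := hq
      exact (Ideal.IsPrime.prod_mem_iff).2 ⟨⟨g, hg⟩, Finset.mem_univ _, hsq⟩
    have h1 : s ⟨g, hg⟩ * g ^ N ⟨g, hg⟩ ∈ q :=
      (Ideal.span_le.2 (Set.singleton_subset_iff.2 hfq)) (hN ⟨g, hg⟩)
    exact hq.mem_of_pow_mem _ ((hq.mem_or_mem h1).resolve_left hsq)

/-- **shrinking**: if every prime below `p` not containing `f` misses some member of `t`, the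
same holds for all primes not containing `f` nor a suitable `a ∉ p` -/
theorem exists_shrink (f : A) (t : Finset A)
    (h : ∀ q : Ideal A, q.IsPrime → q ≤ p → f ∉ q → ∃ g ∈ t, g ∉ q) :
    ∃ a : A, a ∉ p ∧ ∀ q : Ideal A, q.IsPrime → a ∉ q → f ∉ q → ∃ g ∈ t, g ∉ q := by
  obtain ⟨a, hap, N, haN⟩ := exists_mul_pow_mem p (Ideal.span (t : Set A)) f (by
    intro q hq htq hqp
    by_contra hfq
    obtain ⟨g, hg, hgq⟩ := h q hq hqp hfq
    exact hgq (htq (Ideal.subset_span hg)))
  refine ⟨a, hap, fun q hq haq hfq => ?_⟩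
  by_contra hall
  push Not at hall
  have hle : Ideal.span (t : Set A) ≤ q := Ideal.span_le.2 fun g hg => hall g hg
  rcases hq.mem_or_mem (hle haN) with h1 | h1
  · exact haq h1
  · exact hfq (hq.mem_of_pow_mem _ h1)

end Alg

/-- a Noetherian local ring of dimension at most one has finitely many primes -/
theorem finite_primeSpectrum_of_dim_le_one (B : Type u) [CommRing B] [IsLocalRing B]
    [IsNoetherianRing B] (hdim : ringKrullDim B ≤ 1) : Finite (PrimeSpectrum B) := by
  classical
  have hmin : (minimalPrimes B).Finite := minimalPrimes.finite_of_isNoetherianRing B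
  have hfin : (PrimeSpectrum.asIdeal ⁻¹' (minimalPrimes B) ∪ {IsLocalRing.closedPoint B} :
      Set (PrimeSpectrum B)).Finite := by
    apply Set.Finite.union _ (Set.finite_singleton _)
    exact hmin.preimage (fun a _ b _ hab => PrimeSpectrum.ext hab)
  refine Set.finite_univ_iff.1 (hfin.subset ?_)
  intro q _
  by_cases hq : q = IsLocalRing.closedPoint B
  · exact Or.inr hq
  · exact Or.inl (DimOneAff.mem_minimalPrimes_of_ne_closedPoint B hdim q hq)

end Groth.Agent.Helper1.PicGlue
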