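import Mathlib
import Groth.Agent.Lib.Helper1.PicGlueA
import Groth.Agent.Lib.Helper1.PicGlueB
import Groth.Agent.Lib.Helper1.PicGlueF
import Groth.Agent.Lib.Helper1.TwistAmple

/-!
# An open with discrete complement at one-dimensional Noetherian points is the non-vanishing
locus of a section of an invertible module (helper1, PicGlueG)
-/
set_option autoImplicit false
universe u
open CategoryTheory CategoryTheory.Limits AlgebraicGeometry TopologicalSpace Opposite

namespace Groth.Agent.Helper1.PicGlue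

open Groth.Agent.Helper1.QcCech Groth.Agent.Helper1.LGen Groth.Agent.Helper1
open Groth.Agent.Helper1.PullSec Groth.Agent.Helper1.TwForm

variable {X : Scheme.{u}}

theorem resR_self {O : X.Opens} (h : O ≤ O) (t : Γ(X, O)) : resR h t = t :=
  QcCech.res_self (Coh.structureModule X) h t

theorem rU_self {O : X.Opens} (h : O ≤ O) (a : (Γ(X, O))ˣ) : rU h a = a := by
  apply Units.ext
  rw [rU_val, resR_self]

/-- membership in a prime ideal of the functions on an affine open, via basic opens -/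
theorem mem_prime_iff_fromSpec {W : X.Opens} (hW : IsAffineOpen W)
    (q : PrimeSpectrum Γ(X, W)) (g : Γ(X, W)) :
    g ∈ q.asIdeal ↔ hW.fromSpec q ∉ X.basicOpen g := by
  have h := hW.fromSpec_preimage_basicOpen g
  have h2 : hW.fromSpec q ∈ X.basicOpen g ↔ q ∈ PrimeSpectrum.basicOpen g := by
    rw [← h]; rfl
  rw [h2, PrimeSpectrum.mem_basicOpen]
  exact not_not.symm

theorem fromSpec_mem {W : X.Opens} (hW : IsAffineOpen W) (q : PrimeSpectrum Γ(X, W)) :
    hW.fromSpec q ∈ W := by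
  have : hW.fromSpec q ∈ Set.range hW.fromSpec := ⟨q, rfl⟩
  rw [hW.range_fromSpec] at this
  exact this

theorem mem_primeIdealOf_iff {W : X.Opens} (hW : IsAffineOpen W) (z : X) (hz : z ∈ W)
    (g : Γ(X, W)) : g ∈ (hW.primeIdealOf ⟨z, hz⟩).asIdeal ↔ z ∉ X.basicOpen g := by
  have := mem_prime_iff_fromSpec hW (hW.primeIdealOf ⟨z, hz⟩) g
  rwa [hW.fromSpec_primeIdealOf] at this

/-- **local cut**: near a point `x ∉ U` with one-dimensional Noetherian local ring, isolated in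
the complement of the retrocompact open `U`, the open `U` is a basic open of an affine
neighbourhood -/
theorem exists_local_cut (U : X.Opens) [QuasiCompact U.ι] (x : X) (hx : x ∉ U)
    (Ω : X.Opens) (hxΩ : x ∈ Ω) (hΩ : ∀ z ∈ Ω, z ∉ U → z = x)
    [hN : IsNoetherianRing (X.presheaf.stalk x)] (hd : ringKrullDim (X.presheaf.stalk x) ≤ 1) :
    ∃ (W : X.Opens) (f : Γ(X, W)), IsAffineOpen W ∧ W ≤ Ω ∧ x ∈ W ∧ X.basicOpen f = W ⊓ U := by
  classical
  obtain ⟨W₀, hW₀, hxW₀, hW₀Ω⟩ := Opens.isBasis_iff_nbhd.1 X.isBasis_affineOpens hxΩ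
  have hcomp : IsCompact ((U ⊓ W₀ : X.Opens) : Set X) := by
    have h1 : IsCompact (U.ι ⁻¹' (W₀ : Set X)) :=
      QuasiCompact.isCompact_preimage (f := U.ι) _ W₀.isOpen hW₀.isCompact
    have h2 := h1.image U.ι.continuous
    convert h2 using 1
    ext z
    constructor
    · rintro ⟨hzU, hzW⟩
      exact ⟨⟨z, hzU⟩, hzW, rfl⟩
    · rintro ⟨w, hw, rfl⟩
      exact ⟨w.2, hw⟩
  let I := {g : Γ(X, W₀) // X.basicOpen g ≤ U ⊓ W₀}
  obtain ⟨t', ht'⟩ := hcomp.elim_finite_subcover (fun g : I => (X.basicOpen g.1 : Set X))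
    (fun g => (X.basicOpen g.1).isOpen) (by
      intro z hz
      obtain ⟨g, hg, hzg⟩ := hW₀.exists_basicOpen_le (V := U ⊓ W₀) ⟨z, hz⟩ hz.2
      exact Set.mem_iUnion.2 ⟨⟨g, hg⟩, hzg⟩)
  let t : Finset Γ(X, W₀) := t'.image Subtype.val
  have P1 : ∀ g ∈ t, X.basicOpen g ≤ U ⊓ W₀ := by
    intro g hg
    obtain ⟨g', -, rfl⟩ := Finset.mem_image.1 hg
    exact g'.2
  have P2 : ∀ z ∈ U ⊓ W₀, ∃ g ∈ t, z ∈ X.basicOpen g := by
    intro z hz
    obtain ⟨g', hg', hzg'⟩ := Set.mem_iUnion₂.1 (ht' hz)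
    exact ⟨g'.1, Finset.mem_image_of_mem _ hg', hzg'⟩
  let p : Ideal Γ(X, W₀) := (hW₀.primeIdealOf ⟨x, hxW₀⟩).asIdeal
  letI : Algebra Γ(X, W₀) (X.presheaf.stalk x) := X.presheaf.algebra_section_stalk ⟨x, hxW₀⟩
  haveI : IsLocalization.AtPrime (X.presheaf.stalk x) p := hW₀.isLocalization_stalk ⟨x, hxW₀⟩
  have Mx : ∀ g, g ∈ p ↔ x ∉ X.basicOpen g := fun g => mem_primeIdealOf_iff hW₀ x hxW₀ g
  obtain ⟨f, hfp, a, hap, hcut⟩ := exists_cut p (X.presheaf.stalk x) hd t
    (fun g hg => (Mx g).2 fun hxg => hx (P1 g hg hxg).1)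
    (by
      intro q hq htq
      have hzW₀ := fromSpec_mem hW₀ ⟨q, hq⟩
      have Mq := mem_prime_iff_fromSpec hW₀ ⟨q, hq⟩
      have hzU : hW₀.fromSpec ⟨q, hq⟩ ∉ U := by
        intro hzU
        obtain ⟨g, hg, hzg⟩ := P2 _ ⟨hzU, hzW₀⟩
        exact (Mq g).1 (htq g hg) hzg
      have hzx := hΩ _ (hW₀Ω hzW₀) hzU
      ext g
      rw [Mx g, ← hzx]
      exact Mq g)
  refine ⟨X.basicOpen a, resR (X.basicOpen_le a) f, hW₀.basicOpen a,
    (X.basicOpen_le a).trans hW₀Ω, ?_, ?_⟩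
  · by_contra h
    exact hap ((Mx a).2 h)
  · have hres : X.basicOpen (resR (X.basicOpen_le a) f) = X.basicOpen a ⊓ X.basicOpen f := by
      rw [resR]
      erw [Scheme.basicOpen_res]
    rw [hres]
    apply le_antisymm
    · rintro z ⟨hza, hzf⟩
      refine ⟨hza, ?_⟩
      by_contra hzU
      have hzx := hΩ z (hW₀Ω (X.basicOpen_le a hza)) hzU
      rw [hzx] at hzf
      exact (Mx f).1 hfp hzf
    · rintro z ⟨hza, hzU⟩
      refine ⟨hza, ?_⟩
      by_contra hzf
      have hzW₀ : z ∈ W₀ := X.basicOpen_le a hza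
      have Mz := mem_primeIdealOf_iff hW₀ z hzW₀
      have hq := hcut (hW₀.primeIdealOf ⟨z, hzW₀⟩).asIdeal (hW₀.primeIdealOf ⟨z, hzW₀⟩).isPrime
        ((Mz f).2 hzf) (fun h => (Mz a).1 h hza)
      have hpt : hW₀.primeIdealOf ⟨z, hzW₀⟩ = hW₀.primeIdealOf ⟨x, hxW₀⟩ := PrimeSpectrum.ext hq
      have hzx : z = x := by
        have := congrArg (fun q => (hW₀.fromSpec q : X)) hpt
        simpa only [hW₀.fromSpec_primeIdealOf] using this
      rw [hzx] at hzU
      exact hx hzU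

/-- **S7669 (1)** -/
theorem main_S7669_1 (X : Scheme.{u}) (U : X.Opens) [QuasiCompact U.ι]
    (hdisc : DiscreteTopology ↥((U : Set X)ᶜ))
    (hloc : ∀ x : X, x ∉ U → IsNoetherianRing (X.presheaf.stalk x) ∧
      ringKrullDim (X.presheaf.stalk x) ≤ 1) :
    ∃ (L : X.Modules) (s : Coh.structureModule X ⟶ L), PicF.IsInvertible L ∧
      CohB1.genLocus L s = U := by
  classical
  have hlocal : ∀ y : X, ∃ (W : X.Opens) (f : Γ(X, W)), y ∈ W ∧ X.basicOpen f = W ⊓ U ∧
      (∀ z ∈ W, z ∉ U → z = y) := by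
    intro y
    by_cases hy : y ∈ U
    · exact ⟨U, 1, hy, by rw [Scheme.basicOpen_one, inf_idem], fun z hz hzU => absurd hz hzU⟩
    · have hyc : y ∈ ((U : Set X)ᶜ : Set X) := hy
      obtain ⟨t, ht, hts⟩ := isOpen_induced_iff.1
        (isOpen_discrete ({⟨y, hyc⟩} : Set ((U : Set X)ᶜ : Set X)))
      have hyt : y ∈ t := by
        have : (⟨y, hyc⟩ : ((U : Set X)ᶜ : Set X)) ∈ Subtype.val ⁻¹' t := by
          rw [hts]; rfl
        exact this
      have hΩ : ∀ z ∈ (⟨t, ht⟩ : X.Opens), z ∉ U → z = y := by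
        intro z hzt hzU
        have hz : (⟨z, hzU⟩ : ((U : Set X)ᶜ : Set X)) ∈ Subtype.val ⁻¹' t := hzt
        rw [hts] at hz
        exact congrArg Subtype.val hz
      haveI := (hloc y hy).1
      obtain ⟨W, f, -, hWΩ, hyW, hf⟩ := exists_local_cut U y hy ⟨t, ht⟩ hyt hΩ (hloc y hy).2
      exact ⟨W, f, hyW, hf, fun z hz hzU => hΩ z (hWΩ hz) hzU⟩
  choose W f hyW hf hW using hlocal
  have hcov : iSup W = ⊤ := by
    apply top_le_iff.1
    intro y _
    exact Opens.mem_iSup.2 ⟨y, hyW y⟩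
  have hWU : ∀ i j : X, i ≠ j → W i ⊓ W j ≤ U := by
    intro i j hij z hz
    by_contra hzU
    exact hij ((hW i z hz.1 hzU).symm.trans (hW j z hz.2 hzU))
  have hu : ∀ y, IsUnit (resR (inf_le_left : W y ⊓ U ≤ W y) (f y)) := fun y =>
    (GenLoc.isUnit_res_iff (f y) (W y ⊓ U) inf_le_left).2 (hf y).ge
  let a : ∀ y, (Γ(X, W y ⊓ U))ˣ := fun y => ((hu y).unit)⁻¹
  have hcoc := isCocycle_ηK W U hWU a
  obtain ⟨L, s, hL, hgen, htr⟩ := Cocyc.main hcoc hcov
  have hs : ∀ i, IsGen L (W i) (s i) := fun i V h => hgen i V h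
  have htr' : ∀ i j, res L (inf_le_left : W i ⊓ W j ≤ W i) (s i) =
        (ηK W U hWU a i j : Γ(X, W i ⊓ W j)) • res L (inf_le_right : W i ⊓ W j ≤ W j) (s j) :=
    fun i j => htr i j
  let τ : ∀ y, Γ(L, W y) := fun y => f y • s y
  have hcompat : ∀ y y', res L (inf_le_left : W y ⊓ W y' ≤ W y) (τ y) =
      res L (inf_le_right : W y ⊓ W y' ≤ W y') (τ y') := by
    intro y y'
    by_cases hyy : y = y'
    · subst hyy; rfl
    · have h1 : W y ⊓ W y' ≤ W y ⊓ U := le_inf inf_le_left (hWU y y' hyy)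
      have h2 : W y ⊓ W y' ≤ W y' ⊓ U := le_inf inf_le_right (hWU y y' hyy)
      have hη := ηK_res W U hWU a y y' (le_refl (W y ⊓ W y')) (hWU y y' hyy)
      rw [rU_self] at hη
      have key : rU h1 (hu y).unit * ηK W U hWU a y y' = rU h2 (hu y').unit := by
        rw [hη]
        change rU h1 (hu y).unit * (rU _ ((hu y).unit)⁻¹ * (rU _ ((hu y').unit)⁻¹)⁻¹) = _
        rw [map_inv, map_inv, inv_inv, mul_inv_cancel_left]
      have key' := congrArg Units.val key
      rw [Units.val_mul, rU_val, rU_val, IsUnit.unit_spec, IsUnit.unit_spec, resR_resR,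
        resR_resR] at key'
      change res L _ (f y • s y) = res L _ (f y' • s y')
      rw [res_smul, res_smul, htr' y y', ← mul_smul, key']
  obtain ⟨τ', hτ'⟩ := TwistSec.glue_of_compatible L W ⊤ (fun _ => le_top) hcov.ge τ hcompat
  let σ := TwistAmple.homOfSec L τ'
  have hsec : ∀ V : X.Opens, LGen.secVal σ V = res L le_top τ' := by
    intro V
    have h1 := LGen.app_eq_smul σ V 1
    rw [one_smul] at h1
    rw [← h1]
    have h2 := TwistAmple.homOfSec_app L τ' V 1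
    rw [one_smul] at h2
    exact h2
  refine ⟨L, σ, hL, ?_⟩
  have hloc2 : ∀ z : X, CohB1.genLocus L σ ⊓ W z = W z ⊓ U := by
    intro z
    rw [← hf z]
    apply LGen.genLocus_inf_eq_basicOpen σ (hs z) (f z)
    rw [hsec, hτ' z]
  apply le_antisymm
  · intro z hz
    have : z ∈ CohB1.genLocus L σ ⊓ W z := ⟨hz, hyW z⟩
    rw [hloc2 z] at this
    exact this.2
  · intro z hz
    have : z ∈ W z ⊓ U := ⟨hyW z, hz⟩
    rw [← hloc2 z] at this
    exact this.1

end Groth.Agent.Helper1.PicGlue
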