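import Groth.Prelude.Def_SchLoc
import Mathlib

/-! Helper lemmas about local immersions (helper1). -/

namespace Groth.Agent.Helper1.SchLoc

open AlgebraicGeometry CategoryTheory CategoryTheory.Limits

universe u

variable {X Y : Scheme.{u}} (f : X ⟶ Y)

/-- A morphism is a local immersion at `x` iff its restriction to some open neighbourhood of `x`
is an immersion. -/
theorem isLocalImmersionAt_iff (x : X) :
    SchLoc.IsLocalImmersionAt f x ↔ ∃ U : X.Opens, x ∈ U ∧ IsImmersion (U.ι ≫ f) := by
  constructor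
  · rintro ⟨U, V, h, hxU, hcl⟩
    refine ⟨U, hxU, ?_⟩
    rw [← Scheme.Hom.resLE_comp_ι f h]
    infer_instance
  · rintro ⟨U, hxU, himm⟩
    have hle : U ≤ f ⁻¹ᵁ (U.ι ≫ f).coborderRange := by
      intro y hy
      change f y ∈ coborder (Set.range (U.ι ≫ f))
      apply subset_coborder
      exact ⟨⟨y, hy⟩, rfl⟩
    refine ⟨U, (U.ι ≫ f).coborderRange, hle, hxU, ?_⟩
    have : f.resLE (U.ι ≫ f).coborderRange U hle = (U.ι ≫ f).liftCoborder := by
      rw [← cancel_mono (U.ι ≫ f).coborderRange.ι]
      simp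
    rw [this]
    infer_instance

theorem image_eq [IrreducibleSpace X] (U : X.Opens) (V : Y.Opens) (e : U ≤ f ⁻¹ᵁ V)
    (hne : (U : Set X).Nonempty) [IsClosedImmersion (f.resLE V U e)] :
    f '' (U : Set X) = closure {f (genericPoint X)} ∩ (V : Set Y) := by
  have hη : genericPoint X ∈ U := by
    rw [← SetLike.mem_coe, (genericPoint_spec X).mem_open_set_iff U.isOpen]
    simpa using hne
  have hcl : IsClosed (Set.range (f.resLE V U e)) :=
    (f.resLE V U e).isClosedEmbedding.isClosed_range
  obtain ⟨K, hK, hKeq⟩ := V.ι.isOpenEmbedding.isInducing.isClosed_iff.mp hcl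
  have hval : ∀ u : U, V.ι ((f.resLE V U e) u) = f (U.ι u) := by
    intro u
    rw [← Scheme.Hom.comp_apply, ← Scheme.Hom.comp_apply, Scheme.Hom.resLE_comp_ι]
  apply Set.Subset.antisymm
  · rintro _ ⟨u, hu, rfl⟩
    refine ⟨?_, e hu⟩
    have h1 : u ∈ closure ({genericPoint X} : Set X) := by
      rw [(genericPoint_spec X).def]; trivial
    have := image_closure_subset_closure_image f.continuous ⟨u, h1, rfl⟩
    simpa using this
  · rintro y ⟨hyC, hyV⟩
    have hηK : f (genericPoint X) ∈ K := by
      have : (f.resLE V U e) ⟨genericPoint X, hη⟩ ∈ V.ι ⁻¹' K := by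
        rw [hKeq]; exact ⟨_, rfl⟩
      have h2 := hval ⟨genericPoint X, hη⟩
      rw [Set.mem_preimage, h2] at this
      exact this
    have hyK : y ∈ K := closure_minimal (Set.singleton_subset_iff.mpr hηK) hK hyC
    have : (⟨y, hyV⟩ : V) ∈ V.ι ⁻¹' K := hyK
    rw [hKeq] at this
    obtain ⟨u, hu⟩ := this
    refine ⟨U.ι u, u.2, ?_⟩
    rw [← hval u, hu]
    rfl

theorem mem_closure_gen [IrreducibleSpace X] (z : X) : f z ∈ closure {f (genericPoint X)} := by
  have h1 : z ∈ closure ({genericPoint X} : Set X) := by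
    rw [(genericPoint_spec X).def]; trivial
  have := image_closure_subset_closure_image f.continuous ⟨z, h1, rfl⟩
  simpa using this

theorem preimage_eq [IrreducibleSpace X] (hi : Function.Injective f)
    (U : X.Opens) (V : Y.Opens) (e : U ≤ f ⁻¹ᵁ V)
    (hne : (U : Set X).Nonempty) [IsClosedImmersion (f.resLE V U e)] :
    U = f ⁻¹ᵁ V := by
  apply le_antisymm e
  intro z hz
  have : f z ∈ f '' (U : Set X) := by
    rw [image_eq f U V e hne]
    exact ⟨mem_closure_gen f z, hz⟩
  obtain ⟨u, hu, huz⟩ := this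
  rwa [← hi huz]

theorem isImmersion_of_injective [IrreducibleSpace X] (hf : SchLoc.IsLocalImmersion f)
    (hi : Function.Injective f) :
    IsImmersion f ∧ ∃ V : Y.Opens, Set.range f = closure {f (genericPoint X)} ∩ (V : Set Y) := by
  choose U V e hx hcl using hf
  have hrange : Set.range f ⊆ ((⨆ x, V x : Y.Opens) : Set Y) := by
    rintro _ ⟨x, rfl⟩
    rw [SetLike.mem_coe, TopologicalSpace.Opens.mem_iSup]
    exact ⟨x, e x (hx x)⟩
  constructor
  · have : MorphismProperty.RespectsRight @IsImmersion @IsOpenImmersion :=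
      ⟨fun i hi g hg => by
        have : IsOpenImmersion i := hi
        have : IsImmersion g := hg
        exact (inferInstance : IsImmersion (g ≫ i))⟩
    refine IsZariskiLocalAtTarget.of_range_subset_iSup V hrange (fun x => ?_)
    have := hcl x
    have heq := preimage_eq f hi (U x) (V x) (e x) ⟨x, hx x⟩
    rw [← Scheme.Hom.resLE_eq_morphismRestrict,
      ← Scheme.Hom.resLE_congr f (e x) rfl heq @IsImmersion]
    infer_instance
  · refine ⟨⨆ x, V x, ?_⟩
    apply Set.Subset.antisymm
    · rintro _ ⟨x, rfl⟩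
      exact ⟨mem_closure_gen f x, hrange ⟨x, rfl⟩⟩
    · rintro y ⟨hyC, hyV⟩
      rw [SetLike.mem_coe, TopologicalSpace.Opens.mem_iSup] at hyV
      obtain ⟨x, hyx⟩ := hyV
      have := hcl x
      have : y ∈ f '' (U x : Set X) := by
        rw [image_eq f (U x) (V x) (e x) ⟨x, hx x⟩]
        exact ⟨hyC, hyx⟩
      obtain ⟨u, -, rfl⟩ := this
      exact ⟨u, rfl⟩

/-- Two morphisms over a separated morphism that agree on a dominant morphism agree on points. -/
lemma apply_eq_of_isDominant_of_isSeparated {W X Y Z : Scheme.{u}} {f g : X ⟶ Y}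
    (s : Y ⟶ Z) [IsSeparated s] (h : f ≫ s = g ≫ s)
    (ι : W ⟶ X) [IsDominant ι] (hU : ι ≫ f = ι ≫ g) (t : X) : f t = g t := by
  let X' : Over Z := Over.mk (f ≫ s)
  let Y' : Over Z := Over.mk s
  let U' : Over Z := Over.mk (ι ≫ f ≫ s)
  let f' : X' ⟶ Y' := Over.homMk f
  let g' : X' ⟶ Y' := Over.homMk g
  let ι' : U' ⟶ X' := Over.homMk ι
  have : IsSeparated Y'.hom := ‹_›
  have : IsDominant (equalizer.ι f' g').left := by
    apply +allowSynthFailures IsDominant.of_comp (equalizer.lift ι' ?_).left
    · rwa [← Over.comp_left, equalizer.lift_ι]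
    · ext1; exact hU
  have hsurj : Surjective (equalizer.ι f' g').left :=
    surjective_of_isDominant_of_isClosed_range _ (Scheme.Hom.isClosedEmbedding _).isClosed_range
  obtain ⟨e, rfl⟩ := hsurj.surj t
  have hc : (equalizer.ι f' g').left ≫ f = (equalizer.ι f' g').left ≫ g :=
    congr($(equalizer.condition f' g').left)
  rw [← Scheme.Hom.comp_apply, ← Scheme.Hom.comp_apply, hc]

theorem injective_of_isSeparated [IrreducibleSpace X] [IsSeparated f]
    (hf : SchLoc.IsLocalImmersion f) : Function.Injective f := by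
  intro x y hxy
  obtain ⟨Ux, hxU, hix⟩ := (isLocalImmersionAt_iff f x).mp (hf x)
  obtain ⟨Uy, hyU, hiy⟩ := (isLocalImmersionAt_iff f y).mp (hf y)
  let a : pullback (Ux.ι ≫ f) (Uy.ι ≫ f) ⟶ X := pullback.fst _ _ ≫ Ux.ι
  let b : pullback (Ux.ι ≫ f) (Uy.ι ≫ f) ⟶ X := pullback.snd _ _ ≫ Uy.ι
  have hab : a ≫ f = b ≫ f := by simp [a, b, pullback.condition]
  let d : (Ux ⊓ Uy : X.Opens).toScheme ⟶ pullback (Ux.ι ≫ f) (Uy.ι ≫ f) :=
    pullback.lift (X.homOfLE inf_le_left) (X.homOfLE inf_le_right) (by simp)
  have hda : d ≫ a = (Ux ⊓ Uy).ι := by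
    simp only [d, a, pullback.lift_fst_assoc, Scheme.homOfLE_ι]
  have hdb : d ≫ b = (Ux ⊓ Uy).ι := by
    simp only [d, b, pullback.lift_snd_assoc, Scheme.homOfLE_ι]
  have himm : IsImmersion a := inferInstance
  have hne : ((Ux ⊓ Uy : X.Opens) : Set X).Nonempty :=
    nonempty_preirreducible_inter Ux.isOpen Uy.isOpen ⟨x, hxU⟩ ⟨y, hyU⟩
  have hdense : Dense ((Ux ⊓ Uy : X.Opens) : Set X) := (Ux ⊓ Uy).isOpen.dense hne
  have : IsDominant d := by
    rw [isDominant_iff, DenseRange, a.isEmbedding.isInducing.dense_iff]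
    intro t
    have : a '' Set.range d = ((Ux ⊓ Uy : X.Opens) : Set X) := by
      rw [← Set.range_comp]
      have : (a : _ → X) ∘ (d : _ → _) = (d ≫ a : _ → X) := by
        ext z; simp
      rw [this, hda]
      simp
    rw [this]
    exact hdense _
  obtain ⟨t, ht1, ht2⟩ := Scheme.Pullback.exists_preimage_pullback
    (f := Ux.ι ≫ f) (g := Uy.ι ≫ f) ⟨x, hxU⟩ ⟨y, hyU⟩ (by simpa using hxy)
  have key := apply_eq_of_isDominant_of_isSeparated f hab d (hda.trans hdb.symm) t
  have h1 : a t = x := by
    simp only [a, Scheme.Hom.comp_apply, ht1]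
    rfl
  have h2 : b t = y := by
    simp only [b, Scheme.Hom.comp_apply, ht2]
    rfl
  rw [← h1, ← h2, key]

end Groth.Agent.Helper1.SchLoc


universe u

open AlgebraicGeometry CategoryTheory

namespace Groth.Agent.Helper1.SchLoc

section Alg

variable {R S K : Type*} [CommRing R] [CommRing S] [CommRing K]

lemma exists_lift (f : R →+* K) (g : S →+* K) (hg : Function.Injective g)
    (h : f.range ≤ g.range) : ∃ φ : R →+* S, g.comp φ = f := by
  have hex : ∀ r, ∃ s, g s = f r := fun r => h ⟨r, rfl⟩
  choose φ hφ using hex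
  refine ⟨{ toFun := φ
            map_one' := hg (by rw [hφ]; simp)
            map_mul' := fun a b => hg (by simp [hφ])
            map_zero' := hg (by simp [hφ])
            map_add' := fun a b => hg (by simp [hφ]) }, RingHom.ext hφ⟩

lemma isDominant_SpecMap_of_injective {A B : CommRingCat.{u}} (f : A ⟶ B)
    (hf : Function.Injective f.hom) : IsDominant (Spec.map f) := by
  constructor
  have : DenseRange (PrimeSpectrum.comap f.hom) := by
    rw [PrimeSpectrum.denseRange_comap_iff_ker_le_nilRadical]
    rw [(RingHom.injective_iff_ker_eq_bot _).mp hf]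
    exact bot_le
  exact this

end Alg

section Sch

variable (X : Scheme.{u}) [IsIntegral X]

/-- The canonical map from the local ring at `x` to the function field, as a morphism. -/
noncomputable def toFF (x : X) : X.presheaf.stalk x ⟶ X.functionField :=
  X.presheaf.stalkSpecializes ((genericPoint_spec X).specializes trivial)

lemma toFF_hom (x : X) :
    (toFF X x).hom = algebraMap (X.presheaf.stalk x) X.functionField := rfl

lemma toFF_injective (x : X) : Function.Injective (toFF X x).hom :=
  IsFractionRing.injective (X.presheaf.stalk x) X.functionField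

lemma SpecMap_toFF_fromSpecStalk (x : X) :
    Spec.map (toFF X x) ≫ X.fromSpecStalk x = X.fromSpecStalk (genericPoint X) :=
  Scheme.SpecMap_stalkSpecializes_fromSpecStalk _

lemma stalkSpecializes_toFF {x y : X} (h : y ⤳ x) :
    X.presheaf.stalkSpecializes h ≫ toFF X y = toFF X x :=
  TopCat.Presheaf.stalkSpecializes_comp _ _ _

instance (x : X) : IsDominant (Spec.map (toFF X x)) :=
  isDominant_SpecMap_of_injective _ (toFF_injective X x)

lemma range_le_of_specializes {x y : X} (h : y ⤳ x) :
    (algebraMap (X.presheaf.stalk x) X.functionField).range ≤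
      (algebraMap (X.presheaf.stalk y) X.functionField).range := by
  rintro _ ⟨a, rfl⟩
  refine ⟨(X.presheaf.stalkSpecializes h).hom a, ?_⟩
  rw [← toFF_hom, ← toFF_hom, ← stalkSpecializes_toFF X h]
  rfl

/-- A ring map between local rings compatible with the maps to the function field. -/
lemma specializes_of_hom [X.IsSeparated] {x y : X} (φ : X.presheaf.stalk x ⟶ X.presheaf.stalk y)
    (hφ : φ ≫ toFF X y = toFF X x) : y ⤳ x := by
  have h12 : X.fromSpecStalk y = Spec.map φ ≫ X.fromSpecStalk x := by
    apply ext_of_isDominant (Spec.map (toFF X y))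
    rw [SpecMap_toFF_fromSpecStalk, ← Spec.map_comp_assoc, hφ, SpecMap_toFF_fromSpecStalk]
  have hy : y = (Spec.map φ ≫ X.fromSpecStalk x) (IsLocalRing.closedPoint _) := by
    rw [← h12]
    exact (Scheme.fromSpecStalk_closedPoint (x := y)).symm
  have hmem : y ∈ Set.range (X.fromSpecStalk x) := by
    rw [hy]
    exact ⟨(Spec.map φ) (IsLocalRing.closedPoint _), rfl⟩
  rw [Scheme.range_fromSpecStalk] at hmem
  exact hmem

lemma specializes_of_range_le [X.IsSeparated] {x y : X}
    (h : (algebraMap (X.presheaf.stalk x) X.functionField).range ≤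
      (algebraMap (X.presheaf.stalk y) X.functionField).range) : y ⤳ x := by
  obtain ⟨φ, hφ⟩ := exists_lift _ _ (toFF_injective X y) h
  exact specializes_of_hom X (CommRingCat.ofHom φ) (CommRingCat.hom_ext hφ)

theorem specializes_iff [X.IsSeparated] (x y : X) :
    y ⤳ x ↔ (algebraMap (X.presheaf.stalk x) X.functionField).range ≤
      (algebraMap (X.presheaf.stalk y) X.functionField).range :=
  ⟨range_le_of_specializes X, specializes_of_range_le X⟩

theorem injective_range [X.IsSeparated] :
    Function.Injective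
      (fun x : X ↦ (algebraMap (X.presheaf.stalk x) X.functionField).range) := by
  intro x y hxy
  have h1 : y ⤳ x := specializes_of_range_le X (le_of_eq hxy)
  have h2 : x ⤳ y := specializes_of_range_le X (le_of_eq hxy.symm)
  exact (h2.antisymm h1).eq

end Sch

end Groth.Agent.Helper1.SchLoc
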