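import Mathlib
import Groth.Agent.Lib.Helper1.SchLoc

universe u

open AlgebraicGeometry CategoryTheory

namespace Groth.Agent.Helper1.SchLoc

section Alg

variable {R S K : Type*} [CommRing R] [CommRing S] [Field K] [IsLocalRing R] [IsLocalRing S]

lemma isUnit_of_map_mul_eq_one (f : R →+* K) {r r' : R} (h : f r * f r' = 1) : IsUnit r := by
  have h1 : f (r * r') = 1 := by rw [map_mul, h]
  have h2 : IsUnit (r * r') := by
    by_contra hnu
    have h3 : IsUnit (1 - r * r') := IsLocalRing.isUnit_one_sub_self_of_mem_nonunits _ hnu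
    have h4 : f (1 - r * r') = 0 := by rw [map_sub, map_one, h1, sub_self]
    have h5 := h3.map f
    rw [h4] at h5
    exact not_isUnit_zero h5
  exact isUnit_of_mul_isUnit_left h2

lemma localSubring_range_le_of_hom (f : R →+* K) (g : S →+* K) (hg : Function.Injective g)
    (φ : R →+* S) (hφ : g.comp φ = f) [IsLocalHom φ] :
    LocalSubring.range f ≤ LocalSubring.range g := by
  have h : (LocalSubring.range f).toSubring ≤ (LocalSubring.range g).toSubring := by
    rintro _ ⟨r, rfl⟩
    exact ⟨φ r, by rw [← hφ]; rfl⟩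
  refine ⟨h, ⟨?_⟩⟩
  rintro ⟨_, r, rfl⟩ hu
  obtain ⟨⟨b, s, rfl⟩, hb⟩ := hu.exists_right_inv
  have hb' : f r * g s = 1 := congrArg Subtype.val hb
  have h1 : g (φ r * s) = g 1 := by
    rw [map_mul, map_one, ← hb', ← hφ]; rfl
  have h2 : IsUnit (φ r) := IsUnit.of_mul_eq_one _ (hg h1)
  have h3 : IsUnit r := isUnit_of_map_unit φ r h2
  obtain ⟨r', hr'⟩ := h3.exists_right_inv
  refine IsUnit.of_mul_eq_one (⟨f r', ⟨r', rfl⟩⟩ : (LocalSubring.range f).toSubring) ?_
  apply Subtype.ext
  change f r * f r' = 1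
  rw [← map_mul, hr', map_one]

lemma exists_hom_of_localSubring_range_le (f : R →+* K) (g : S →+* K)
    (hg : Function.Injective g) (hle : LocalSubring.range f ≤ LocalSubring.range g) :
    ∃ φ : R →+* S, g.comp φ = f ∧ IsLocalHom φ := by
  obtain ⟨h, hloc⟩ := hle
  have h' : f.range ≤ g.range := h
  obtain ⟨φ, hφ⟩ := exists_lift f g hg h'
  refine ⟨φ, hφ, ⟨?_⟩⟩
  intro r hr
  have hfr : f r = g (φ r) := by rw [← hφ]; rfl
  let a : (LocalSubring.range f).toSubring := ⟨f r, ⟨r, rfl⟩⟩
  have hua : IsUnit (Subring.inclusion h a) := by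
    obtain ⟨s, hs⟩ := hr.exists_right_inv
    refine IsUnit.of_mul_eq_one (⟨g s, ⟨s, rfl⟩⟩ : (LocalSubring.range g).toSubring) ?_
    apply Subtype.ext
    change f r * g s = 1
    rw [hfr, ← map_mul, hs, map_one]
  have hua' : IsUnit a := hloc.map_nonunit a hua
  obtain ⟨⟨_, r', rfl⟩, hb⟩ := hua'.exists_right_inv
  have hb' : f r * f r' = 1 := congrArg Subtype.val hb
  exact isUnit_of_map_mul_eq_one f hb'

lemma localSubring_range_subtype (Q : LocalSubring K) :
    LocalSubring.range Q.toSubring.subtype = Q := by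
  apply LocalSubring.toSubring_injective
  change Q.toSubring.subtype.range = Q.toSubring
  exact Subring.range_subtype _

lemma exists_hom_of_localSubring_range_le' (f : R →+* K) (Q : LocalSubring K)
    (hle : LocalSubring.range f ≤ Q) :
    ∃ φ : R →+* Q.toSubring, Q.toSubring.subtype.comp φ = f ∧ IsLocalHom φ := by
  rw [← localSubring_range_subtype Q] at hle
  exact exists_hom_of_localSubring_range_le f _ Subtype.val_injective hle

end Alg

section Sch

/-- `S2309`. -/
theorem dominated_iff {X Y : Scheme.{u}} [IsIntegral X] [IsIntegral Y] [X.IsSeparated]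
    [Y.IsSeparated] (f : X ⟶ Y) [IsDominant f] (e : f (genericPoint X) = genericPoint Y)
    (x : X) (y : Y) :
    LocalSubring.range ((Y.presheaf.stalkSpecializes (specializes_of_eq e) ≫
        f.stalkMap (genericPoint X)).hom.comp (algebraMap (Y.presheaf.stalk y) Y.functionField)) ≤
      LocalSubring.range (algebraMap (X.presheaf.stalk x) X.functionField) ↔ y = f x := by
  set ψ : Y.functionField ⟶ X.functionField :=
    Y.presheaf.stalkSpecializes (specializes_of_eq e) ≫ f.stalkMap (genericPoint X) with hψ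
  have hA : Spec.map ψ ≫ Y.fromSpecStalk (genericPoint Y) =
      X.fromSpecStalk (genericPoint X) ≫ f := by
    rw [hψ, Spec.map_comp, Category.assoc, Scheme.SpecMap_stalkSpecializes_fromSpecStalk,
      Scheme.SpecMap_stalkMap_fromSpecStalk]
  constructor
  · intro hle
    obtain ⟨φ, hφ, hloc⟩ := exists_hom_of_localSubring_range_le _ _ (toFF_injective X x) hle
    let φ' : Y.presheaf.stalk y ⟶ X.presheaf.stalk x := CommRingCat.ofHom φ
    have hφ' : φ' ≫ toFF X x = toFF Y y ≫ ψ := CommRingCat.hom_ext hφ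
    have h12 : X.fromSpecStalk x ≫ f = Spec.map φ' ≫ Y.fromSpecStalk y := by
      apply ext_of_isDominant (Spec.map (toFF X x))
      rw [← Category.assoc, SpecMap_toFF_fromSpecStalk, ← Spec.map_comp_assoc, hφ',
        Spec.map_comp_assoc, SpecMap_toFF_fromSpecStalk, hA]
    let cp : ↥(Spec (X.presheaf.stalk x)) := IsLocalRing.closedPoint (X.presheaf.stalk x)
    have h1 : (X.fromSpecStalk x ≫ f) cp = f x :=
      congrArg f Scheme.fromSpecStalk_closedPoint
    have h2 : (Spec.map φ' ≫ Y.fromSpecStalk y) cp = y := by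
      have h3 : (Spec.map φ') cp = IsLocalRing.closedPoint (Y.presheaf.stalk y) :=
        IsLocalRing.comap_closedPoint φ
      have h4 : (Spec.map φ' ≫ Y.fromSpecStalk y) cp = (Y.fromSpecStalk y) ((Spec.map φ') cp) :=
        rfl
      rw [h4, h3, Scheme.fromSpecStalk_closedPoint]
    rw [← h2, ← h12, h1]
  · rintro rfl
    have hcomp : f.stalkMap x ≫ toFF X x = toFF Y (f x) ≫ ψ := by
      rw [hψ]
      unfold toFF
      rw [TopCat.Presheaf.stalkSpecializes_comp_assoc]
      exact (Scheme.Hom.stalkSpecializes_stalkMap f _ _ _).symm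
    exact localSubring_range_le_of_hom _ _ (toFF_injective X x) (f.stalkMap x).hom
      (congrArg CommRingCat.Hom.hom hcomp)

/-- `S2246`, forward direction. -/
theorem eq_of_dominated (X : Scheme.{u}) [IsIntegral X] [X.IsSeparated] (x y : X)
    (Q : LocalSubring X.functionField)
    (hx : LocalSubring.range (algebraMap (X.presheaf.stalk x) X.functionField) ≤ Q)
    (hy : LocalSubring.range (algebraMap (X.presheaf.stalk y) X.functionField) ≤ Q) : x = y := by
  obtain ⟨φx, hφx, hlx⟩ := exists_hom_of_localSubring_range_le' _ Q hx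
  obtain ⟨φy, hφy, hly⟩ := exists_hom_of_localSubring_range_le' _ Q hy
  let QQ : CommRingCat.{u} := CommRingCat.of Q.toSubring
  let j : QQ ⟶ X.functionField := CommRingCat.ofHom Q.toSubring.subtype
  let ax : X.presheaf.stalk x ⟶ QQ := CommRingCat.ofHom φx
  let ay : X.presheaf.stalk y ⟶ QQ := CommRingCat.ofHom φy
  have hax : ax ≫ j = toFF X x := CommRingCat.hom_ext hφx
  have hay : ay ≫ j = toFF X y := CommRingCat.hom_ext hφy
  have : IsDominant (Spec.map j) :=
    isDominant_SpecMap_of_injective j Subtype.val_injective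
  have h12 : Spec.map ax ≫ X.fromSpecStalk x = Spec.map ay ≫ X.fromSpecStalk y := by
    apply ext_of_isDominant (Spec.map j)
    rw [← Spec.map_comp_assoc, ← Spec.map_comp_assoc, hax, hay, SpecMap_toFF_fromSpecStalk,
      SpecMap_toFF_fromSpecStalk]
  let cp : ↥(Spec QQ) := IsLocalRing.closedPoint Q.toSubring
  have h1 : (Spec.map ax ≫ X.fromSpecStalk x) cp = x := by
    have h3 : (Spec.map ax) cp = IsLocalRing.closedPoint (X.presheaf.stalk x) :=
      IsLocalRing.comap_closedPoint φx
    have h4 : (Spec.map ax ≫ X.fromSpecStalk x) cp = (X.fromSpecStalk x) ((Spec.map ax) cp) :=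
      rfl
    rw [h4, h3, Scheme.fromSpecStalk_closedPoint]
  have h2 : (Spec.map ay ≫ X.fromSpecStalk y) cp = y := by
    have h3 : (Spec.map ay) cp = IsLocalRing.closedPoint (X.presheaf.stalk y) :=
      IsLocalRing.comap_closedPoint φy
    have h4 : (Spec.map ay ≫ X.fromSpecStalk y) cp = (X.fromSpecStalk y) ((Spec.map ay) cp) :=
      rfl
    rw [h4, h3, Scheme.fromSpecStalk_closedPoint]
  rw [← h1, h12, h2]

end Sch

end Groth.Agent.Helper1.SchLoc
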