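import Mathlib
import Groth.Agent.Lib.Helper1.SchLoc2

universe u

open AlgebraicGeometry CategoryTheory

namespace Groth.Agent.Helper1.SchLoc

section

variable (X : Scheme.{u})

/-- Morphisms from the spectrum of a local ring factor through the spectrum of a local ring
of `X`. -/
lemma exists_factor {R : CommRingCat.{u}} [IsLocalRing R] (l : Spec R ⟶ X) :
    ∃ (x : X) (φ : X.presheaf.stalk x ⟶ R), IsLocalHom φ.hom ∧
      Spec.map φ ≫ X.fromSpecStalk x = l ∧ l (IsLocalRing.closedPoint R) = x :=
  ⟨_, Scheme.stalkClosedPointTo l, inferInstance,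
    Scheme.Spec_stalkClosedPointTo_fromSpecStalk l, rfl⟩

variable [IsIntegral X]

/-- The allied-local-rings hypothesis. -/
def Allied : Prop :=
  ∀ (x y : X) (Q : LocalSubring X.functionField),
    LocalSubring.range (algebraMap (X.presheaf.stalk x) X.functionField) ≤ Q →
    LocalSubring.range (algebraMap (X.presheaf.stalk y) X.functionField) ≤ Q → x = y

variable {X}

/-- A morphism `Spec R ⟶ X` from a local ring `R` with an injection `lam : R ⟶ K(X)` inducing the
generic point yields a local ring of `X` dominated by the range of `lam`. -/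
lemma exists_dominated {R : CommRingCat.{u}} [IsLocalRing R] (lam : R ⟶ X.functionField)
    (hlam : Function.Injective lam.hom) (m : Spec R ⟶ X)
    (hm : Spec.map lam ≫ m = X.fromSpecStalk (genericPoint X)) :
    LocalSubring.range (algebraMap (X.presheaf.stalk (m (IsLocalRing.closedPoint R)))
      X.functionField) ≤ LocalSubring.range lam.hom := by
  obtain ⟨x, φ, hloc, hφ, hx⟩ := exists_factor X m
  rw [hx]
  have hφK : φ ≫ lam = toFF X x := by
    apply Spec.map_injective
    rw [← cancel_mono (X.fromSpecStalk x), Spec.map_comp, Category.assoc, hφ, hm,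
      SpecMap_toFF_fromSpecStalk]
  exact localSubring_range_le_of_hom _ _ hlam φ.hom (congrArg CommRingCat.Hom.hom hφK)

lemma apply_eq_of_generic (H : Allied X) {CC : CommRingCat.{u}} (jC : CC ⟶ X.functionField)
    (hj : Function.Injective jC.hom) (p q : Spec CC ⟶ X)
    (hp : Spec.map jC ≫ p = X.fromSpecStalk (genericPoint X))
    (hq : Spec.map jC ≫ q = X.fromSpecStalk (genericPoint X)) (r : Spec CC) : p r = q r := by
  let P : Ideal CC := r.asIdeal
  have : P.IsPrime := r.isPrime
  let Cr := Localization.AtPrime P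
  let CrC : CommRingCat.{u} := CommRingCat.of Cr
  let loc : CC ⟶ CrC := CommRingCat.ofHom (algebraMap CC Cr)
  have hunit : ∀ s : P.primeCompl, IsUnit (jC.hom s) := by
    intro s
    apply IsUnit.mk0
    intro h0
    have : (s : CC) = 0 := hj (by rw [h0, map_zero])
    exact s.2 (by rw [this]; exact zero_mem P)
  let lam0 : Cr →+* X.functionField := IsLocalization.lift (M := P.primeCompl) hunit
  have hlam0 : Function.Injective lam0 := by
    rw [IsLocalization.lift_injective_iff]
    intro a b
    constructor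
    · intro hab
      have := congrArg lam0 hab
      rwa [IsLocalization.lift_eq, IsLocalization.lift_eq] at this
    · intro hab
      rw [hj hab]
  let lam : CrC ⟶ X.functionField := CommRingCat.ofHom lam0
  have hloclam : loc ≫ lam = jC := by
    apply CommRingCat.hom_ext
    exact IsLocalization.lift_comp hunit
  let cpr : ↥(Spec CrC) := IsLocalRing.closedPoint Cr
  have hcpr : (Spec.map loc) cpr = r := by
    apply PrimeSpectrum.ext
    exact Localization.AtPrime.under_maximalIdeal (I := P)
  have hmp : Spec.map lam ≫ (Spec.map loc ≫ p) = X.fromSpecStalk (genericPoint X) := by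
    rw [← Spec.map_comp_assoc, hloclam, hp]
  have hmq : Spec.map lam ≫ (Spec.map loc ≫ q) = X.fromSpecStalk (genericPoint X) := by
    rw [← Spec.map_comp_assoc, hloclam, hq]
  have h1 := exists_dominated lam hlam0 (Spec.map loc ≫ p) hmp
  have h2 := exists_dominated lam hlam0 (Spec.map loc ≫ q) hmq
  have h3 := H _ _ _ h1 h2
  have h4 : (Spec.map loc ≫ p) cpr = p r := by
    have : (Spec.map loc ≫ p) cpr = p ((Spec.map loc) cpr) := rfl
    rw [this, hcpr]
  have h5 : (Spec.map loc ≫ q) cpr = q r := by
    have : (Spec.map loc ≫ q) cpr = q ((Spec.map loc) cpr) := rfl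
    rw [this, hcpr]
  rw [← h4, ← h5]
  exact h3

lemma SpecMap_germToFunctionField_fromSpec (U : X.Opens) (hU : IsAffineOpen U) [Nonempty U] :
    Spec.map (X.germToFunctionField U) ≫ hU.fromSpec = X.fromSpecStalk (genericPoint X) :=
  hU.fromSpecStalk_eq_fromSpecStalk _

lemma isCompact_inter (H : Allied X) (U V : X.affineOpens) :
    IsCompact ((U : Set X) ∩ (V : Set X)) := by
  rcases Set.eq_empty_or_nonempty ((U : Set X) ∩ (V : Set X)) with h0 | ⟨z0, hz0U, hz0V⟩
  · rw [h0]; exact isCompact_empty
  have : Nonempty U.1 := ⟨⟨z0, hz0U⟩⟩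
  have : Nonempty V.1 := ⟨⟨z0, hz0V⟩⟩
  let a : Γ(X, U.1) ⟶ X.functionField := X.germToFunctionField U.1
  let b : Γ(X, V.1) ⟶ X.functionField := X.germToFunctionField V.1
  let C : Subring X.functionField := a.hom.range ⊔ b.hom.range
  let CC : CommRingCat.{u} := CommRingCat.of C
  let jC : CC ⟶ X.functionField := CommRingCat.ofHom C.subtype
  have hjC : Function.Injective jC.hom := Subtype.val_injective
  let aC : Γ(X, U.1) ⟶ CC := CommRingCat.ofHom
    (a.hom.codRestrict C (fun s => (le_sup_left : a.hom.range ≤ C) ⟨s, rfl⟩))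
  let bC : Γ(X, V.1) ⟶ CC := CommRingCat.ofHom
    (b.hom.codRestrict C (fun s => (le_sup_right : b.hom.range ≤ C) ⟨s, rfl⟩))
  have haC : aC ≫ jC = a := CommRingCat.hom_ext (RingHom.ext fun _ => rfl)
  have hbC : bC ≫ jC = b := CommRingCat.hom_ext (RingHom.ext fun _ => rfl)
  let pU : Spec CC ⟶ X := Spec.map aC ≫ U.2.fromSpec
  let pV : Spec CC ⟶ X := Spec.map bC ≫ V.2.fromSpec
  have hpU : Spec.map jC ≫ pU = X.fromSpecStalk (genericPoint X) := by
    dsimp only [pU]
    rw [← Spec.map_comp_assoc, haC]
    exact SpecMap_germToFunctionField_fromSpec U.1 U.2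
  have hpV : Spec.map jC ≫ pV = X.fromSpecStalk (genericPoint X) := by
    dsimp only [pV]
    rw [← Spec.map_comp_assoc, hbC]
    exact SpecMap_germToFunctionField_fromSpec V.1 V.2
  have hUV : ∀ r : Spec CC, pU r = pV r := apply_eq_of_generic H jC hjC pU pV hpU hpV
  have hpUmem : ∀ r : Spec CC, pU r ∈ (U : Set X) := by
    intro r
    have : pU r = U.2.fromSpec ((Spec.map aC) r) := rfl
    rw [this, ← U.2.range_fromSpec]
    exact ⟨_, rfl⟩
  have hpVmem : ∀ r : Spec CC, pV r ∈ (V : Set X) := by
    intro r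
    have : pV r = V.2.fromSpec ((Spec.map bC) r) := rfl
    rw [this, ← V.2.range_fromSpec]
    exact ⟨_, rfl⟩
  have hrange : (U : Set X) ∩ (V : Set X) = Set.range pU := by
    apply Set.Subset.antisymm
    · rintro z ⟨hzU, hzV⟩
      have hCle : C ≤ (toFF X z).hom.range := by
        apply sup_le
        · rintro _ ⟨s, rfl⟩
          exact ⟨X.presheaf.germ U.1 z hzU s,
            Scheme.algebraMap_germ_eq_germToFunctionField X hzU s⟩
        · rintro _ ⟨s, rfl⟩
          exact ⟨X.presheaf.germ V.1 z hzV s,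
            Scheme.algebraMap_germ_eq_germToFunctionField X hzV s⟩
      have hrg : jC.hom.range ≤ (toFF X z).hom.range := by
        rintro _ ⟨c, rfl⟩
        exact hCle c.2
      obtain ⟨γ, hγ⟩ := exists_lift jC.hom (toFF X z).hom (toFF_injective X z) hrg
      let γ' : CC ⟶ X.presheaf.stalk z := CommRingCat.ofHom γ
      have haγ : aC ≫ γ' = X.presheaf.germ U.1 z hzU := by
        apply CommRingCat.hom_ext
        apply RingHom.ext
        intro s
        apply toFF_injective X z
        have h1 : (toFF X z).hom (γ (aC.hom s)) = jC.hom (aC.hom s) :=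
          DFunLike.congr_fun hγ (aC.hom s)
        have h2 : (toFF X z).hom ((X.presheaf.germ U.1 z hzU).hom s) = a.hom s :=
          Scheme.algebraMap_germ_eq_germToFunctionField X hzU s
        exact h1.trans h2.symm
      refine ⟨(Spec.map γ') (IsLocalRing.closedPoint (X.presheaf.stalk z)), ?_⟩
      have h3 : pU ((Spec.map γ') (IsLocalRing.closedPoint (X.presheaf.stalk z))) =
          (Spec.map γ' ≫ pU) (IsLocalRing.closedPoint (X.presheaf.stalk z)) := rfl
      have h4 : Spec.map γ' ≫ pU = X.fromSpecStalk z := by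
        dsimp only [pU]
        rw [← Spec.map_comp_assoc, haγ]
        exact U.2.fromSpecStalk_eq_fromSpecStalk hzU
      rw [h3, h4]
      exact Scheme.fromSpecStalk_closedPoint
    · rintro _ ⟨r, rfl⟩
      exact ⟨hpUmem r, by rw [hUV r]; exact hpVmem r⟩
  rw [hrange]
  exact isCompact_range pU.continuous

lemma quasiSeparatedSpace_of_allied (H : Allied X) : QuasiSeparatedSpace X := by
  rw [quasiSeparatedSpace_iff_forall_affineOpens]
  intro U V
  exact isCompact_inter H U V

/-- Uniqueness in the valuative criterion from the allied hypothesis. -/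
lemma eq_of_comp_eq (H : Allied X) {R K' : Type u} [CommRing R] [IsLocalRing R] [Field K']
    (ι : R →+* K') (hι : Function.Injective ι) (l1 l2 : Spec (CommRingCat.of R) ⟶ X)
    (h : Spec.map (CommRingCat.ofHom ι) ≫ l1 = Spec.map (CommRingCat.ofHom ι) ≫ l2) :
    l1 = l2 := by
  let RR : CommRingCat.{u} := CommRingCat.of R
  let KK : CommRingCat.{u} := CommRingCat.of K'
  let ιι : RR ⟶ KK := CommRingCat.ofHom ι
  let i : Spec KK ⟶ X := Spec.map ιι ≫ l1
  have hi1 : Spec.map ιι ≫ l1 = i := rfl
  have hi2 : Spec.map ιι ≫ l2 = i := h.symm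
  let cpR : ↥(Spec RR) := IsLocalRing.closedPoint R
  let cpK : ↥(Spec KK) := IsLocalRing.closedPoint K'
  obtain ⟨w, θ, hθloc, hθ, hw⟩ := exists_factor X i
  obtain ⟨x, φ1, hloc1, hφ1, hx⟩ := exists_factor X l1
  obtain ⟨y, φ2, hloc2, hφ2, hy⟩ := exists_factor X l2
  have hsp : (Spec.map ιι) cpK ⤳ cpR := IsLocalRing.specializes_closedPoint _
  have hwx : w ⤳ x := by
    have h1 : w = l1 ((Spec.map ιι) cpK) := hw.symm
    have h2 : x = l1 cpR := hx.symm
    rw [h1, h2]
    exact hsp.map l1.continuous
  have hwy : w ⤳ y := by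
    have h1 : w = l2 ((Spec.map ιι) cpK) := by
      rw [← hw, ← hi2]; rfl
    have h2 : y = l2 cpR := hy.symm
    rw [h1, h2]
    exact hsp.map l2.continuous
  have hC1 : X.presheaf.stalkSpecializes hwx ≫ θ = φ1 ≫ ιι := by
    apply Spec.map_injective
    rw [← cancel_mono (X.fromSpecStalk x), Spec.map_comp, Category.assoc,
      Scheme.SpecMap_stalkSpecializes_fromSpecStalk, hθ, Spec.map_comp, Category.assoc, hφ1]
  have hC2 : X.presheaf.stalkSpecializes hwy ≫ θ = φ2 ≫ ιι := by
    apply Spec.map_injective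
    rw [← cancel_mono (X.fromSpecStalk y), Spec.map_comp, Category.assoc,
      Scheme.SpecMap_stalkSpecializes_fromSpecStalk, hθ, Spec.map_comp, Category.assoc, hφ2,
      hi2]
  -- the local subring
  let D : Subring (X.presheaf.stalk w) := Subring.comap θ.hom ι.range
  have hrg : (θ.hom.comp D.subtype).range ≤ ι.range := by
    rintro _ ⟨d, rfl⟩
    exact d.2
  obtain ⟨ρ, hρ⟩ := exists_lift (θ.hom.comp D.subtype) ι hι hrg
  have hρ' : ∀ d : D, ι (ρ d) = θ.hom d.1 := fun d => DFunLike.congr_fun hρ d
  have hρloc : IsLocalHom ρ := by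
    constructor
    intro d hd
    obtain ⟨r', hr'⟩ := hd.exists_right_inv
    have h1 : θ.hom d.1 * ι r' = 1 := by
      rw [← hρ', ← map_mul, hr', map_one]
    have hu : IsUnit (θ.hom d.1) := IsUnit.of_mul_eq_one _ h1
    have hu' : IsUnit d.1 := isUnit_of_map_unit θ.hom d.1 hu
    obtain ⟨e, he⟩ := hu'.exists_right_inv
    have heD : e ∈ D := by
      refine ⟨r', ?_⟩
      have h3 : θ.hom d.1 * θ.hom e = 1 := by rw [← map_mul, he, map_one]
      exact hu.mul_left_cancel (h1.trans h3.symm)
    exact IsUnit.of_mul_eq_one (⟨e, heD⟩ : D) (Subtype.ext he)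
  have : IsLocalRing D := RingHom.domain_isLocalRing ρ
  let g : D →+* X.functionField := (toFF X w).hom.comp D.subtype
  have hg : Function.Injective g := (toFF_injective X w).comp Subtype.val_injective
  -- domination of the local ring at x
  have hmem1 : ∀ a, (X.presheaf.stalkSpecializes hwx).hom a ∈ D := by
    intro a
    exact ⟨φ1.hom a, (DFunLike.congr_fun (congrArg CommRingCat.Hom.hom hC1) a).symm⟩
  let σ1 : X.presheaf.stalk x →+* D := (X.presheaf.stalkSpecializes hwx).hom.codRestrict D hmem1
  have hσ1 : g.comp σ1 = algebraMap (X.presheaf.stalk x) X.functionField := by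
    apply RingHom.ext
    intro a
    exact DFunLike.congr_fun (congrArg CommRingCat.Hom.hom (stalkSpecializes_toFF X hwx)) a
  have hσ1loc : IsLocalHom σ1 := by
    constructor
    intro a ha
    have h1 : ρ (σ1 a) = φ1.hom a := by
      apply hι
      rw [hρ']
      exact DFunLike.congr_fun (congrArg CommRingCat.Hom.hom hC1) a
    have h2 : IsUnit (φ1.hom a) := h1 ▸ ha.map ρ
    exact isUnit_of_map_unit φ1.hom a h2
  have hmem2 : ∀ a, (X.presheaf.stalkSpecializes hwy).hom a ∈ D := by
    intro a
    exact ⟨φ2.hom a, (DFunLike.congr_fun (congrArg CommRingCat.Hom.hom hC2) a).symm⟩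
  let σ2 : X.presheaf.stalk y →+* D := (X.presheaf.stalkSpecializes hwy).hom.codRestrict D hmem2
  have hσ2 : g.comp σ2 = algebraMap (X.presheaf.stalk y) X.functionField := by
    apply RingHom.ext
    intro a
    exact DFunLike.congr_fun (congrArg CommRingCat.Hom.hom (stalkSpecializes_toFF X hwy)) a
  have hσ2loc : IsLocalHom σ2 := by
    constructor
    intro a ha
    have h1 : ρ (σ2 a) = φ2.hom a := by
      apply hι
      rw [hρ']
      exact DFunLike.congr_fun (congrArg CommRingCat.Hom.hom hC2) a
    have h2 : IsUnit (φ2.hom a) := h1 ▸ ha.map ρ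
    exact isUnit_of_map_unit φ2.hom a h2
  have hdx := localSubring_range_le_of_hom _ g hg σ1 hσ1
  have hdy := localSubring_range_le_of_hom _ g hg σ2 hσ2
  have hxy : x = y := H x y _ hdx hdy
  have hxy' : x ⤳ y := specializes_of_eq hxy
  have e1 : (X.presheaf.stalkSpecializes hxy' ≫ φ1) ≫ ιι = φ2 ≫ ιι := by
    rw [Category.assoc, ← hC1, ← Category.assoc, TopCat.Presheaf.stalkSpecializes_comp]
    exact hC2
  have e2 : X.presheaf.stalkSpecializes hxy' ≫ φ1 = φ2 := by
    apply CommRingCat.hom_ext
    apply RingHom.ext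
    intro a
    apply hι
    exact DFunLike.congr_fun (congrArg CommRingCat.Hom.hom e1) a
  rw [← hφ1, ← hφ2, ← e2, Spec.map_comp, Category.assoc,
    Scheme.SpecMap_stalkSpecializes_fromSpecStalk]

theorem isSeparated_of_allied (H : Allied X) : X.IsSeparated := by
  have : QuasiSeparatedSpace X := quasiSeparatedSpace_of_allied H
  constructor
  apply IsSeparated.of_valuativeCriterion
  intro S
  constructor
  intro l1 l2
  ext
  exact eq_of_comp_eq H (algebraMap S.R S.K) (IsFractionRing.injective S.R S.K) l1.l l2.l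
    (l1.fac_left.trans l2.fac_left.symm)

theorem isSeparated_iff_allied : X.IsSeparated ↔ Allied X :=
  ⟨fun _ x y Q hx hy => eq_of_dominated X x y Q hx hy, isSeparated_of_allied⟩

end

end Groth.Agent.Helper1.SchLoc
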