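import Mathlib
import Groth.Agent.Lib.Helper1.SchLoc4
import Groth.Agent.Lib.Helper1.PicGlueG
import Groth.Agent.S1640

/-!
# Functions with poles along the boundary of an affine open (helper1 library, CurveGlueA)

Residue fields at generic points, the local subrings cut out by specialisations, generation of
the residue field by an affine open and a local ring outside it (separatedness), and the
application of the semilocal gluing lemma `S1640`.
-/
set_option autoImplicit false
universe u
open CategoryTheory CategoryTheory.Limits AlgebraicGeometry TopologicalSpace Opposite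

namespace Groth.Agent.Helper1.CurveGlue

open Groth.Agent.Helper1.SchLoc Groth.Agent.Helper1.PicGlue

variable {X : Scheme.{u}}

/-- the map from the local ring at a specialisation to the residue field of a generisation -/
noncomputable def toRes {η x : X} (h : η ⤳ x) : X.presheaf.stalk x ⟶ X.residueField η :=
  X.presheaf.stalkSpecializes h ≫ X.residue η

theorem germ_toRes {η x : X} (h : η ⤳ x) (W : X.Opens) (hx : x ∈ W) (a : Γ(X, W)) :
    (toRes h).hom ((X.presheaf.germ W x hx).hom a) =
      (X.evaluation W η (h.mem_open W.isOpen hx)).hom a := by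
  have h1 : X.presheaf.germ W x hx ≫ toRes h =
      X.evaluation W η (h.mem_open W.isOpen hx) := by
    unfold toRes
    rw [TopCat.Presheaf.germ_stalkSpecializes_assoc]
    rfl
  exact congrArg (fun φ : Γ(X, W) ⟶ X.residueField η => φ.hom a) h1

theorem isFractionRing_evalRange {U : X.Opens} (hU : IsAffineOpen U) {η : X} (hη : η ∈ U) :
    IsFractionRing (X.evaluation U η hη).hom.range (X.residueField η) := by
  apply IsFractionRing.of_field
  intro z
  obtain ⟨ζ, rfl⟩ := X.residue_surjective η z
  letI := TopCat.Presheaf.algebra_section_stalk X.presheaf (⟨η, hη⟩ : U)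
  haveI := hU.isLocalization_stalk ⟨η, hη⟩
  obtain ⟨⟨a, s⟩, has⟩ := IsLocalization.surj (hU.primeIdealOf ⟨η, hη⟩).asIdeal.primeCompl ζ
  have hs : IsUnit ((X.presheaf.germ U η hη).hom s.1) :=
    IsLocalization.map_units (X.presheaf.stalk η) s
  have hs' : (X.evaluation U η hη).hom s.1 ≠ 0 := (hs.map (X.residue η).hom).ne_zero
  refine ⟨⟨(X.evaluation U η hη).hom a, a, rfl⟩, ⟨(X.evaluation U η hη).hom s.1, s.1, rfl⟩, ?_⟩
  show (X.residue η).hom ζ = (X.evaluation U η hη).hom a / (X.evaluation U η hη).hom s.1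
  rw [eq_div_iff hs']
  have h2 := congrArg (X.residue η).hom has
  rw [map_mul] at h2
  exact h2

theorem isFractionRing_of_le {K : Type*} [Field K] {A B : Subring K} (hAB : A ≤ B)
    [IsFractionRing A K] : IsFractionRing B K := by
  apply IsFractionRing.of_field
  intro z
  obtain ⟨a, s, -, rfl⟩ := IsFractionRing.div_surjective (A := A) z
  exact ⟨⟨a.1, hAB a.2⟩, ⟨s.1, hAB s.2⟩, rfl⟩

theorem isFractionRing_toResRange {η x : X} (h : η ⤳ x) :
    IsFractionRing (toRes h).hom.range (X.residueField η) := by
  obtain ⟨_, ⟨W, hW, rfl⟩, hxW, -⟩ :=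
    X.isBasis_affineOpens.exists_subset_of_mem_open (Set.mem_univ x) isOpen_univ
  have hW : IsAffineOpen W := hW
  have hxW : x ∈ W := hxW
  haveI := isFractionRing_evalRange hW (h.mem_open W.isOpen hxW)
  refine isFractionRing_of_le (A := (X.evaluation W η (h.mem_open W.isOpen hxW)).hom.range) ?_
  rintro _ ⟨a, rfl⟩
  exact ⟨(X.presheaf.germ W x hxW).hom a, germ_toRes h W hxW a⟩

theorem finite_maximalSpectrum_toResRange {η x : X} (h : η ⤳ x) :
    Finite (MaximalSpectrum (toRes h).hom.range) := by
  haveI : IsLocalRing (toRes h).hom.range :=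
    IsLocalRing.of_surjective' (toRes h).hom.rangeRestrict (toRes h).hom.rangeRestrict_surjective
  haveI : Subsingleton (MaximalSpectrum (toRes h).hom.range) :=
    ⟨fun a b => MaximalSpectrum.ext ((IsLocalRing.eq_maximalIdeal a.isMaximal).trans
      (IsLocalRing.eq_maximalIdeal b.isMaximal).symm)⟩
  exact Finite.of_subsingleton

theorem ringKrullDim_toResRange {U : X.Opens} {η x : X} (hη : η ∈ U) (hx : x ∉ U) (h : η ⤳ x)
    (hdim : ringKrullDim (X.presheaf.stalk x) ≤ 1) :
    ringKrullDim (toRes h).hom.range = 1 := by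
  have hle : ringKrullDim (toRes h).hom.range ≤ 1 :=
    (ringKrullDim_le_of_surjective (toRes h).hom.rangeRestrict
      (toRes h).hom.rangeRestrict_surjective).trans hdim
  have hnf : ¬ IsField (toRes h).hom.range := by
    intro hf
    obtain ⟨_, ⟨W, hW, rfl⟩, hxW, -⟩ :=
      X.isBasis_affineOpens.exists_subset_of_mem_open (Set.mem_univ x) isOpen_univ
    have hW : IsAffineOpen W := hW
    have hxW : x ∈ W := hxW
    have hηW : η ∈ W := h.mem_open W.isOpen hxW
    obtain ⟨g, hgO, hηg⟩ := hW.exists_basicOpen_le (V := W ⊓ U) ⟨η, ⟨hηW, hη⟩⟩ hηW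
    have hxg : x ∉ X.basicOpen g := fun hxg => hx (hgO hxg).2
    obtain ⟨β, hβ⟩ : ∃ β, β = (X.presheaf.germ W x hxW).hom g := ⟨_, rfl⟩
    have hβnu : ¬ IsUnit β := fun hu => hxg ((Scheme.mem_basicOpen X g x hxW).2 (hβ ▸ hu))
    have hβ0 : (toRes h).hom β ≠ 0 := by
      rw [hβ, germ_toRes h W hxW g]
      exact (Scheme.evaluation_ne_zero_iff_mem_basicOpen X η hηW g).2 hηg
    obtain ⟨t, ht⟩ := hf.mul_inv_cancel (a := (⟨(toRes h).hom β, β, rfl⟩ : (toRes h).hom.range))
      (fun h0 => hβ0 (congrArg Subtype.val h0))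
    obtain ⟨γ, hγ⟩ := t.2
    have h1 : (toRes h).hom (β * γ) = 1 := by
      rw [map_mul, hγ]; exact congrArg Subtype.val ht
    have h2 : IsUnit (1 - β * γ) := IsLocalRing.isUnit_one_sub_self_of_mem_nonunits _
      (by rw [mem_nonunits_iff]; intro hu; exact hβnu (isUnit_of_mul_isUnit_left hu))
    have h3 := h2.map (toRes h).hom
    rw [map_sub, map_one, h1, sub_self] at h3
    exact not_isUnit_zero h3
  have hn0 : ¬ ringKrullDim (toRes h).hom.range ≤ 0 := fun h0 => by
    haveI : Ring.KrullDimLE 0 (toRes h).hom.range := Ring.krullDimLE_iff.mpr (by exact_mod_cast h0)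
    exact hnf Ring.KrullDimLE.isField_of_isDomain
  exact le_antisymm hle (Order.succ_le_of_lt (lt_of_not_ge hn0))

set_option maxHeartbeats 800000 in
/-- **generation**: on a separated scheme, the residue field at a point `η` of an affine open `U`
is generated by the functions on `U` and the local ring of a specialisation of `η` outside `U`
whose local ring has dimension at most one -/
theorem sup_eq_top [X.IsSeparated] {U : X.Opens} (hU : IsAffineOpen U) {η x : X} (hη : η ∈ U)
    (hx : x ∉ U) (h : η ⤳ x) (hdim : ringKrullDim (X.presheaf.stalk x) ≤ 1) :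
    (X.evaluation U η hη).hom.range ⊔ (toRes h).hom.range = ⊤ := by
  classical
  by_contra hne
  haveI hfrA : IsFractionRing (X.evaluation U η hη).hom.range (X.residueField η) :=
    isFractionRing_evalRange hU hη
  haveI hfrB : IsFractionRing (toRes h).hom.range (X.residueField η) :=
    isFractionRing_toResRange h
  obtain ⟨S, hSdef⟩ : ∃ S : Subring (X.residueField η),
      S = (X.evaluation U η hη).hom.range ⊔ (toRes h).hom.range := ⟨_, rfl⟩
  rw [← hSdef] at hne
  have hAS : (X.evaluation U η hη).hom.range ≤ S := hSdef ▸ le_sup_left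
  have hBS : (toRes h).hom.range ≤ S := hSdef ▸ le_sup_right
  have hnf : ¬ IsField S := by
    intro hf
    apply hne
    rw [eq_top_iff]
    intro k _
    have hinv : ∀ s : X.residueField η, s ∈ S → s⁻¹ ∈ S := by
      intro s hs
      by_cases hs0 : s = 0
      · rw [hs0, inv_zero]; exact S.zero_mem
      · obtain ⟨t, ht⟩ := hf.mul_inv_cancel (a := (⟨s, hs⟩ : S))
          (fun h0 => hs0 (congrArg Subtype.val h0))
        have h1 : s * t.1 = 1 := congrArg Subtype.val ht
        rw [inv_eq_of_mul_eq_one_right h1]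
        exact t.2
    obtain ⟨a, s, -, rfl⟩ :=
      IsFractionRing.div_surjective (A := (X.evaluation U η hη).hom.range) k
    rw [div_eq_mul_inv]
    exact S.mul_mem (hAS a.2) (hinv _ (hAS s.2))
  obtain ⟨𝔫, h𝔫0, h𝔫p⟩ := Ring.not_isField_iff_exists_prime.1 hnf
  haveI := h𝔫p
  have hunit : ∀ s : 𝔫.primeCompl, IsUnit (S.subtype s) := by
    intro s
    apply IsUnit.mk0
    intro h0
    have : (s : S) = 0 := Subtype.ext h0
    exact s.2 (by rw [this]; exact 𝔫.zero_mem)
  let lam0 : Localization.AtPrime 𝔫 →+* X.residueField η :=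
    IsLocalization.lift (M := 𝔫.primeCompl) hunit
  have hlam0 : Function.Injective lam0 := by
    rw [IsLocalization.lift_injective_iff]
    intro a b
    constructor
    · intro hab
      have := congrArg lam0 hab
      rwa [IsLocalization.lift_eq, IsLocalization.lift_eq] at this
    · intro hab
      rw [Subtype.val_injective hab]
  let RC : CommRingCat.{u} := CommRingCat.of (Localization.AtPrime 𝔫)
  let lam : RC ⟶ X.residueField η := CommRingCat.ofHom lam0
  let ψ1 : Γ(X, U) →+* S := (X.evaluation U η hη).hom.codRestrict S (fun a => hAS ⟨a, rfl⟩)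
  let ψ2 : X.presheaf.stalk x →+* S := (toRes h).hom.codRestrict S (fun b => hBS ⟨b, rfl⟩)
  let φ1 : Γ(X, U) ⟶ RC := CommRingCat.ofHom ((algebraMap S (Localization.AtPrime 𝔫)).comp ψ1)
  let φ2 : X.presheaf.stalk x ⟶ RC :=
    CommRingCat.ofHom ((algebraMap S (Localization.AtPrime 𝔫)).comp ψ2)
  have hφ1 : φ1 ≫ lam = X.evaluation U η hη := by
    apply CommRingCat.hom_ext
    ext a
    show lam0 (algebraMap S (Localization.AtPrime 𝔫) (ψ1 a)) = _
    rw [IsLocalization.lift_eq]
    rfl
  have hφ2 : φ2 ≫ lam = toRes h := by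
    apply CommRingCat.hom_ext
    ext a
    show lam0 (algebraMap S (Localization.AtPrime 𝔫) (ψ2 a)) = _
    rw [IsLocalization.lift_eq]
    rfl
  haveI : IsDominant (Spec.map lam) := isDominant_SpecMap_of_injective lam hlam0
  haveI : _root_.IsReduced (Localization.AtPrime 𝔫) := isReduced_of_injective lam0 hlam0
  haveI : IsReduced (Spec RC) := inferInstance
  have hm : Spec.map φ1 ≫ hU.fromSpec = Spec.map φ2 ≫ X.fromSpecStalk x := by
    apply ext_of_isDominant (Spec.map lam)
    rw [← Spec.map_comp_assoc, ← Spec.map_comp_assoc, hφ1, hφ2]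
    have e1 : Spec.map (X.evaluation U η hη) ≫ hU.fromSpec = X.fromSpecResidueField η := by
      unfold Scheme.evaluation Scheme.fromSpecResidueField
      rw [Spec.map_comp, Category.assoc]
      congr 1
      exact hU.fromSpecStalk_eq_fromSpecStalk hη
    have e2 : Spec.map (toRes h) ≫ X.fromSpecStalk x = X.fromSpecResidueField η := by
      unfold toRes Scheme.fromSpecResidueField
      rw [Spec.map_comp, Category.assoc, Scheme.SpecMap_stalkSpecializes_fromSpecStalk]
    rw [e1, e2]
  have hloc : IsLocalHom φ2.hom := by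
    haveI : Ring.KrullDimLE 1 (X.presheaf.stalk x) :=
      Ring.krullDimLE_iff.mpr (by exact_mod_cast hdim)
    let P : Ideal (X.presheaf.stalk x) := 𝔫.comap ψ2
    haveI hPp : P.IsPrime := Ideal.comap_isPrime ψ2 𝔫
    have hPmax : P.IsMaximal := by
      rcases Ring.krullDimLE_one_iff.1 inferInstance P hPp with hmin | hmax
      · exfalso
        obtain ⟨s, hs𝔫, hs0⟩ := Submodule.exists_mem_ne_zero_of_ne_bot h𝔫0
        obtain ⟨b1, b2, hb2, hb12⟩ :=
          IsFractionRing.div_surjective (A := (toRes h).hom.range) s.1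
        have hb2' : (b2 : X.residueField η) ≠ 0 := by
          intro h0
          have : b2 = 0 := Subtype.ext h0
          rw [this] at hb2
          exact (nonZeroDivisors.ne_zero hb2) rfl
        have hb1 : (b1 : X.residueField η) = s.1 * b2.1 := by
          have : (b1 : X.residueField η) / b2.1 = s.1 := hb12
          rw [← this, div_mul_cancel₀ _ hb2']
        obtain ⟨β1, hβ1⟩ := b1.2
        have hβP : β1 ∈ P := by
          show ψ2 β1 ∈ 𝔫
          have : ψ2 β1 = s * ⟨b2.1, hBS b2.2⟩ := Subtype.ext (hβ1.trans hb1)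
          rw [this]; exact 𝔫.mul_mem_right _ hs𝔫
        have hker : RingHom.ker (toRes h).hom ≤ P := by
          intro c hc
          show ψ2 c ∈ 𝔫
          have : ψ2 c = 0 := Subtype.ext hc
          rw [this]; exact 𝔫.zero_mem
        haveI : (RingHom.ker (toRes h).hom).IsPrime := RingHom.ker_isPrime _
        have hle := hmin.2 ⟨inferInstance, bot_le⟩ hker
        have hβk : (toRes h).hom β1 = 0 := hle hβP
        rw [hβ1, hb1] at hβk
        rcases mul_eq_zero.1 hβk with h0 | h0
        · exact hs0 (Subtype.ext h0)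
        · exact hb2' h0
      · exact hmax
    have hPeq : P = IsLocalRing.maximalIdeal _ := IsLocalRing.eq_maximalIdeal hPmax
    constructor
    intro b hb
    by_contra hnu
    have hbm : b ∈ IsLocalRing.maximalIdeal (X.presheaf.stalk x) :=
      (IsLocalRing.mem_maximalIdeal b).2 hnu
    rw [← hPeq] at hbm
    have hmem : algebraMap S (Localization.AtPrime 𝔫) (ψ2 b) ∈
        IsLocalRing.maximalIdeal (Localization.AtPrime 𝔫) :=
      (IsLocalization.AtPrime.to_map_mem_maximal_iff (Localization.AtPrime 𝔫) 𝔫 (ψ2 b)).2 hbm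
    exact ((IsLocalRing.mem_maximalIdeal _).1 hmem) hb
  let cp : ↥(Spec RC) := IsLocalRing.closedPoint (Localization.AtPrime 𝔫)
  have h1 : (Spec.map φ1 ≫ hU.fromSpec) cp ∈ U := fromSpec_mem hU _
  have h2 : (Spec.map φ2 ≫ X.fromSpecStalk x) cp = x := by
    have h3 : (Spec.map φ2) cp = IsLocalRing.closedPoint (X.presheaf.stalk x) :=
      IsLocalRing.comap_closedPoint φ2.hom
    have h4 : (Spec.map φ2 ≫ X.fromSpecStalk x) cp = (X.fromSpecStalk x) ((Spec.map φ2) cp) :=
      rfl
    rw [h4, h3, Scheme.fromSpecStalk_closedPoint]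
  rw [hm, h2] at h1
  exact hx h1

/-- **functions with poles**: on a separated scheme, for an affine open `U`, a point `η ∈ U` and
finitely many specialisations of `η` outside `U` with Noetherian local rings of dimension at most
one, some function on `U` is invertible at `η` with inverse in the maximal ideal of each of these
local rings -/
theorem exists_pole_function [X.IsSeparated] {U : X.Opens} (hU : IsAffineOpen U) {η : X}
    (hη : η ∈ U) (D : Finset X)
    (hD : ∀ x ∈ D, x ∉ U ∧ η ⤳ x ∧ IsNoetherianRing (X.presheaf.stalk x) ∧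
      ringKrullDim (X.presheaf.stalk x) ≤ 1) :
    ∃ f : Γ(X, U), (X.evaluation U η hη).hom f ≠ 0 ∧
      ∀ x (hx : x ∈ D), ∃ b : X.presheaf.stalk x,
        b ∈ IsLocalRing.maximalIdeal (X.presheaf.stalk x) ∧
          (toRes (hD x hx).2.1).hom b * (X.evaluation U η hη).hom f = 1 := by
  classical
  haveI : IsFractionRing (X.evaluation U η hη).hom.range (X.residueField η) :=
    isFractionRing_evalRange hU hη
  let e : Fin D.card ≃ D := D.equivFin.symm
  have hs : ∀ d : D, η ⤳ d.1 := fun d => (hD d.1 d.2).2.1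
  let B : Fin D.card → Subring (X.residueField η) := fun i => (toRes (hs (e i))).hom.range
  haveI : ∀ i, IsNoetherianRing (B i) := fun i => by
    haveI := (hD (e i).1 (e i).2).2.2.1
    exact isNoetherianRing_range _
  haveI : ∀ i, IsFractionRing (B i) (X.residueField η) :=
    fun i => isFractionRing_toResRange (hs (e i))
  have hdim : ∀ i, ringKrullDim (B i) = 1 := fun i =>
    ringKrullDim_toResRange hη (hD _ (e i).2).1 (hs (e i)) (hD _ (e i).2).2.2.2
  have hsl : ∀ i, Finite (MaximalSpectrum (B i)) :=
    fun i => finite_maximalSpectrum_toResRange (hs (e i))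
  have hgen : ∀ i, (X.evaluation U η hη).hom.range ⊔ B i = ⊤ := fun i =>
    sup_eq_top hU hη (hD _ (e i).2).1 (hs (e i)) (hD _ (e i).2).2.2.2
  obtain ⟨ξ, hξA, hξ0, hξ⟩ := Groth.Agent.S1640.result (X.residueField η)
    (X.evaluation U η hη).hom.range D.card B hdim hsl hgen
  obtain ⟨f, rfl⟩ := hξA
  refine ⟨f, hξ0, fun x hx => ?_⟩
  obtain ⟨i, hi⟩ : ∃ i, e i = ⟨x, hx⟩ := ⟨e.symm ⟨x, hx⟩, e.apply_symm_apply _⟩
  have key : ∃ b : X.presheaf.stalk (e i).1, b ∈ IsLocalRing.maximalIdeal _ ∧
      (toRes (hs (e i))).hom b * (X.evaluation U η hη).hom f = 1 := by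
    obtain ⟨hmem, hjac⟩ := hξ i
    obtain ⟨b, hb⟩ := id hmem
    refine ⟨b, ?_, ?_⟩
    · by_contra hnm
      have hbu : IsUnit b := by
        by_contra h'
        exact hnm ((IsLocalRing.mem_maximalIdeal _).2 h')
      have hu : IsUnit (⟨((X.evaluation U η hη).hom f)⁻¹, hmem⟩ : B i) := by
        have := hbu.map (toRes (hs (e i))).hom.rangeRestrict
        convert this using 1
        exact Subtype.ext hb.symm
      have htop := Ideal.eq_top_of_isUnit_mem _ hjac hu
      rw [Ideal.jacobson_eq_top_iff] at htop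
      exact bot_ne_top htop
    · rw [hb, inv_mul_cancel₀ hξ0]
  rw [hi] at key
  exact key

end Groth.Agent.Helper1.CurveGlue
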