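import Mathlib
import Groth.Agent.Lib.Helper1.PicGlueG
import Groth.Agent.Lib.Helper1.GenCover
import Groth.Agent.Lib.Helper1.SecOps
import Groth.Agent.Lib.Helper1.AmpleLib2

/-!
# A globally generated invertible module from a function with poles (helper1 library, CurveGlueB)
-/
set_option autoImplicit false
universe u
open CategoryTheory CategoryTheory.Limits AlgebraicGeometry TopologicalSpace Opposite

namespace Groth.Agent.Helper1.CurveGlue

open Groth.Agent.Helper1.QcCech Groth.Agent.Helper1.LGen Groth.Agent.Helper1.PicGlue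
open Groth.Agent.Helper1 Groth.Agent.Helper1.AmpleLib Groth.Agent.Helper1.SecOps

variable {X : Scheme.{u}}

/-- gluing of two sections agreeing on the intersection -/
theorem glue_two (M : X.Modules) (U V : X.Opens) (hUV : U ⊔ V = ⊤) (a : Γ(M, U)) (b : Γ(M, V))
    (h : res M (inf_le_left : U ⊓ V ≤ U) a = res M (inf_le_right : U ⊓ V ≤ V) b) :
    ∃ s : Γ(M, ⊤), res M (le_top : U ≤ ⊤) s = a ∧ res M (le_top : V ≤ ⊤) s = b := by
  let W : Bool → X.Opens := fun c => cond c U V
  let sf : ∀ c, Γ(M, W c) := fun c => Bool.rec (motive := fun c => Γ(M, W c)) b a c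
  have hcov : (⊤ : X.Opens) ≤ ⨆ c, W c := by
    rw [← hUV]; exact sup_le (le_iSup W true) (le_iSup W false)
  have hc : ∀ c d, res M (inf_le_left : W c ⊓ W d ≤ W c) (sf c) =
      res M (inf_le_right : W c ⊓ W d ≤ W d) (sf d) := by
    rintro (_ | _) (_ | _)
    · rfl
    · have h1 := congrArg (res M (show V ⊓ U ≤ U ⊓ V from le_of_eq (inf_comm _ _))) h
      rw [res_res, res_res] at h1
      exact h1.symm
    · exact h
    · rfl
  obtain ⟨s, hs⟩ := TwistSec.glue_of_compatible M W ⊤ (fun _ => le_top) hcov sf hc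
  exact ⟨s, hs true, hs false⟩

set_option maxHeartbeats 800000 in
/-- **gluing lemma**: a function `f` on `U` and a function `g` on `V` with `U ∪ V = X`, inverse to
each other on `U ∩ V`, with `g` vanishing at the points of `V` outside `U`, give an invertible
module generated by two global sections, one of which generates exactly over `U` -/
theorem exists_gg_invertible (U V : X.Opens) (hUV : U ⊔ V = ⊤) (f : Γ(X, U)) (g : Γ(X, V))
    (hfg : resR (inf_le_left : U ⊓ V ≤ U) f * resR (inf_le_right : U ⊓ V ≤ V) g = 1)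
    (hg : ∀ x ∈ V, x ∉ U → x ∉ X.basicOpen g) :
    ∃ (L : X.Modules) (s : Coh.structureModule X ⟶ L), PicF.IsInvertible L ∧
      Curv2.IsGloballyGenerated L ∧ CohB1.genLocus L s = U := by
  classical
  have hfgO : ∀ (O : X.Opens) (hO : O ≤ U ⊓ V),
      resR (hO.trans inf_le_left) f * resR (hO.trans inf_le_right) g = 1 := by
    intro O hO
    have h1 := congrArg (resR hO) hfg
    rwa [map_mul, resR_resR, resR_resR, map_one] at h1
  let Uc : Option PUnit.{u + 1} → X.Opens := fun o => o.elim U (fun _ => V)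
  have hUc : iSup Uc = ⊤ := by
    apply top_le_iff.1
    rw [← hUV]
    exact sup_le (le_iSup Uc none) (le_iSup Uc (some PUnit.unit))
  let Vf : X.Opens := U ⊓ V
  have hUcV : ∀ o o', o ≠ o' → Uc o ⊓ Uc o' ≤ Vf := by
    rintro (_ | k) (_ | k') hne
    · exact absurd rfl hne
    · exact le_rfl
    · show V ⊓ U ≤ U ⊓ V
      exact le_of_eq (inf_comm _ _)
    · exact absurd rfl hne
  have hVf : V ⊓ Vf ≤ U ⊓ V := inf_le_right
  let uV : (Γ(X, V ⊓ Vf))ˣ :=
    ⟨resR (hVf.trans inf_le_left) f, resR (hVf.trans inf_le_right) g, hfgO _ hVf,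
      by rw [mul_comm]; exact hfgO _ hVf⟩
  let a : ∀ o, (Γ(X, Uc o ⊓ Vf))ˣ :=
    fun o => Option.rec (motive := fun o => (Γ(X, Uc o ⊓ Vf))ˣ) 1 (fun _ => uV) o
  have hη := isCocycle_ηK Uc Vf hUcV a
  obtain ⟨L, s, hL, hgen, htr⟩ := Cocyc.main hη hUc
  obtain ⟨sU, hsUdef⟩ : ∃ sU : Γ(L, U), sU = s none := ⟨_, rfl⟩
  obtain ⟨sV, hsVdef⟩ : ∃ sV : Γ(L, V), sV = s (some PUnit.unit) := ⟨_, rfl⟩
  have hsU : IsGen L U sU := by
    rw [hsUdef]; exact fun W h => hgen none W h
  have hsV : IsGen L V sV := by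
    rw [hsVdef]; exact fun W h => hgen (some PUnit.unit) W h
  have hne : (none : Option PUnit.{u + 1}) ≠ some PUnit.unit := by simp
  have hηval : (ηK Uc Vf hUcV a none (some PUnit.unit)).val =
      resR (inf_le_right : U ⊓ V ≤ V) g := by
    have h1 := ηK_res Uc Vf hUcV a none (some PUnit.unit)
      (O := Uc none ⊓ Uc (some PUnit.unit)) le_rfl (hUcV _ _ hne)
    rw [rU_self] at h1
    rw [h1, Units.val_mul, ← map_inv, rU_val, rU_val]
    show resR _ (1 : Γ(X, U ⊓ Vf)) * resR _ (resR (hVf.trans inf_le_right) g) = _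
    rw [map_one, one_mul, resR_resR]
    rfl
  have htr' : res L (inf_le_left : U ⊓ V ≤ U) sU =
      resR (inf_le_right : U ⊓ V ≤ V) g • res L (inf_le_right : U ⊓ V ≤ V) sV := by
    rw [hsUdef, hsVdef, ← hηval]
    exact htr none (some PUnit.unit)
  have E1 : res L (inf_le_left : U ⊓ V ≤ U) sU = res L (inf_le_right : U ⊓ V ≤ V) (g • sV) := by
    rw [res_smul, htr']
  have E2 : res L (inf_le_left : U ⊓ V ≤ U) (f • sU) = res L (inf_le_right : U ⊓ V ≤ V) sV := by
    rw [res_smul, htr', smul_smul, hfg, one_smul]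
  obtain ⟨σ, hσU, hσV⟩ := glue_two L U V hUV sU (g • sV) E1
  obtain ⟨τ, hτU, hτV⟩ := glue_two L U V hUV (f • sU) sV E2
  have hs0U : secVal (TwistAmple.homOfSec L σ) U = sU := (secVal_homOfSec L σ U).trans hσU
  have hs0V : secVal (TwistAmple.homOfSec L σ) V = g • sV := (secVal_homOfSec L σ V).trans hσV
  have ht0V : secVal (TwistAmple.homOfSec L τ) V = sV := (secVal_homOfSec L τ V).trans hτV
  have hcov : ∀ x : X, x ∈ U ∨ x ∈ V := by
    intro x
    have hx : x ∈ U ⊔ V := by rw [hUV]; trivial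
    exact hx
  have hUle : U ≤ CohB1.genLocus L (TwistAmple.homOfSec L σ) :=
    le_genLocus_of_isGen _ (by rw [hs0U]; exact hsU)
  have hVle : V ≤ CohB1.genLocus L (TwistAmple.homOfSec L τ) :=
    le_genLocus_of_isGen _ (by rw [ht0V]; exact hsV)
  refine ⟨L, TwistAmple.homOfSec L σ, hL, ?_, ?_⟩
  · apply GenCover.isGloballyGenerated
    refine ⟨hL, fun x => ?_⟩
    rcases hcov x with hx | hx
    · exact ⟨_, hUle hx⟩
    · exact ⟨_, hVle hx⟩
  · apply le_antisymm
    · intro x hx
      by_contra hxU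
      have hxV : x ∈ V := (hcov x).resolve_left hxU
      have h1 := (mem_genLocus_iff_of_isGen (TwistAmple.homOfSec L σ) hsV g hs0V.symm x hxV).1 hx
      exact hg x hxV hxU h1
    · exact hUle

end Groth.Agent.Helper1.CurveGlue
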