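import Mathlib
import Groth.Agent.Lib.Helper1.CurveGlueA
import Groth.Agent.Lib.Helper1.CurveGlueB

/-!
# Integral case: the open complement of finitely many one-dimensional points (helper1, CurveGlueC)
-/
set_option autoImplicit false
universe u
open CategoryTheory CategoryTheory.Limits AlgebraicGeometry TopologicalSpace Opposite

namespace Groth.Agent.Helper1.CurveGlue

open Groth.Agent.Helper1.QcCech Groth.Agent.Helper1.LGen Groth.Agent.Helper1.PicGlue
open Groth.Agent.Helper1

variable {X : Scheme.{u}}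

/-- gluing of functions -/
theorem glue_functions {ι : Type*} (W : ι → X.Opens) (O : X.Opens) (hWO : ∀ i, W i ≤ O)
    (hcov : O ≤ ⨆ i, W i) (sf : ∀ i, Γ(X, W i))
    (hc : ∀ i j, resR (inf_le_left : W i ⊓ W j ≤ W i) (sf i) =
      resR (inf_le_right : W i ⊓ W j ≤ W j) (sf j)) :
    ∃ s : Γ(X, O), ∀ i, resR (hWO i) s = sf i := by
  obtain ⟨s, hs, -⟩ := X.sheaf.existsUnique_gluing' W O (fun i => homOfLE (hWO i)) hcov sf hc
  exact ⟨s, hs⟩

/-- functions agreeing locally are equal -/
theorem functions_eq_of_locally {O : X.Opens} (s t : Γ(X, O))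
    (h : ∀ x ∈ O, ∃ (W : X.Opens) (hW : W ≤ O), x ∈ W ∧ resR hW s = resR hW t) : s = t := by
  have h' : ∀ x : O, ∃ (W : X.Opens) (hW : W ≤ O), x.1 ∈ W ∧ resR hW s = resR hW t :=
    fun x => h x.1 x.2
  choose W hW hxW he using h'
  exact X.sheaf.eq_of_locally_eq' W O (fun x => homOfLE (hW x))
    (fun x hx => Opens.mem_iSup.2 ⟨⟨x, hx⟩, hxW ⟨x, hx⟩⟩) s t he

theorem germ_resR {O O' : X.Opens} (h : O' ≤ O) (x : X) (hx : x ∈ O') (r : Γ(X, O)) :
    (X.presheaf.germ O' x hx).hom (resR h r) = (X.presheaf.germ O x (h hx)).hom r :=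
  TopCat.Presheaf.germ_res_apply X.presheaf (homOfLE h) x hx r

theorem evaluation_resR {O O' : X.Opens} (h : O' ≤ O) (x : X) (hx : x ∈ O') (r : Γ(X, O)) :
    (X.evaluation O' x hx).hom (resR h r) = (X.evaluation O x (h hx)).hom r := by
  show (X.residue x).hom ((X.presheaf.germ O' x hx).hom (resR h r)) =
    (X.residue x).hom ((X.presheaf.germ O x (h hx)).hom r)
  rw [germ_resR]

theorem mem_of_genericPoint [IrreducibleSpace X] {O : X.Opens} (x : X) (hx : x ∈ O) :
    genericPoint X ∈ O :=
  ((genericPoint_spec X).mem_open_set_iff O.isOpen).mpr ⟨x, trivial, hx⟩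

/-- on an integral scheme, evaluation at the generic point is injective -/
theorem evaluation_genericPoint_injective [IsIntegral X] {O : X.Opens}
    (hO : genericPoint X ∈ O) : Function.Injective (X.evaluation O (genericPoint X) hO).hom := by
  have h1 : Function.Injective (X.presheaf.germ O (genericPoint X) hO).hom :=
    germ_injective_of_isIntegral X (genericPoint X) hO
  have h2 : Function.Injective (X.residue (genericPoint X)).hom := by
    letI : Field (X.presheaf.stalk (genericPoint X)) :=
      inferInstanceAs (Field X.functionField)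
    exact RingHom.injective _
  exact h2.comp h1

/-- on an integral scheme, functions on an open are equal when they have the same value at the
generic point -/
theorem functions_eq_of_evaluation [IsIntegral X] {O : X.Opens} (r t : Γ(X, O))
    (h : ∀ hO : genericPoint X ∈ O,
      (X.evaluation O (genericPoint X) hO).hom r = (X.evaluation O (genericPoint X) hO).hom t) :
    r = t := by
  by_cases hO : genericPoint X ∈ O
  · exact evaluation_genericPoint_injective hO (h hO)
  · have hbot : O = ⊥ := by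
      by_contra hne
      have : (O : Set X).Nonempty := by
        rw [Set.nonempty_iff_ne_empty]
        intro he
        exact hne (Opens.ext he)
      obtain ⟨x, hx⟩ := this
      exact hO (mem_of_genericPoint x hx)
    subst hbot
    haveI : Subsingleton Γ(X, ⊥) := inferInstance
    exact Subsingleton.elim _ _

set_option maxHeartbeats 800000 in
/-- **S1645** -/
theorem main_S1645 (X : Scheme.{u}) [IsIntegral X] [X.IsSeparated]
    (U : X.Opens) (hU : IsAffineOpen U) (hne : (U : Set X).Nonempty)
    (hfin : ((U : Set X)ᶜ).Finite)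
    (hloc : ∀ x : X, x ∉ U → IsNoetherianRing (X.presheaf.stalk x) ∧
      ringKrullDim (X.presheaf.stalk x) = 1) :
    ∃ (L : X.Modules) (s : Coh.structureModule X ⟶ L), PicF.IsInvertible L ∧
      Curv2.IsGloballyGenerated L ∧ CohB1.genLocus L s = U := by
  classical
  obtain ⟨x₀, hx₀⟩ := hne
  have hη : genericPoint X ∈ U := mem_of_genericPoint x₀ hx₀
  have hspec : ∀ x : X, genericPoint X ⤳ x := fun x => (genericPoint_spec X).specializes trivial
  have hD : ∀ x ∈ hfin.toFinset, x ∉ U ∧ genericPoint X ⤳ x ∧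
      IsNoetherianRing (X.presheaf.stalk x) ∧ ringKrullDim (X.presheaf.stalk x) ≤ 1 := by
    intro x hx
    have hxU : x ∉ U := (hfin.mem_toFinset).1 hx
    exact ⟨hxU, hspec x, (hloc x hxU).1, (hloc x hxU).2.le⟩
  obtain ⟨f, hf0, hfb⟩ := exists_pole_function hU hη hfin.toFinset hD
  -- spreading out the local inverses
  have hex : ∀ d : hfin.toFinset, ∃ (V : X.Opens) (hdV : d.1 ∈ V) (g : Γ(X, V)),
      (X.presheaf.germ V d.1 hdV).hom g ∈ IsLocalRing.maximalIdeal (X.presheaf.stalk d.1) ∧
      ∀ hηV : genericPoint X ∈ V, (X.evaluation V (genericPoint X) hηV).hom g *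
        (X.evaluation U (genericPoint X) hη).hom f = 1 := by
    intro d
    obtain ⟨b, hbm, hb⟩ := hfb d.1 d.2
    obtain ⟨V, hdV, g, hg⟩ := X.presheaf.exists_germ_eq b
    refine ⟨V, hdV, g, ?_, fun hηV => ?_⟩
    · rw [show (X.presheaf.germ V d.1 hdV).hom g = b from hg]; exact hbm
    · have h1 := germ_toRes (hD d.1 d.2).2.1 V hdV g
      rw [show (X.presheaf.germ V d.1 hdV).hom g = b from hg] at h1
      rw [← h1]
      exact hb
  choose V hdV g hgm hgev using hex
  obtain ⟨Vt, hVt⟩ : ∃ Vt : X.Opens, Vt = ⨆ d, V d := ⟨_, rfl⟩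
  have hVle : ∀ d, V d ≤ Vt := fun d => hVt ▸ le_iSup V d
  have hc : ∀ d d', resR (inf_le_left : V d ⊓ V d' ≤ V d) (g d) =
      resR (inf_le_right : V d ⊓ V d' ≤ V d') (g d') := by
    intro d d'
    apply functions_eq_of_evaluation
    intro hO
    rw [evaluation_resR, evaluation_resR]
    have h1 := hgev d (inf_le_left (a := V d) (b := V d') hO)
    have h2 := hgev d' (inf_le_right (a := V d) (b := V d') hO)
    exact mul_right_cancel₀ hf0 (h1.trans h2.symm)
  obtain ⟨gT, hgT⟩ := glue_functions V Vt hVle (le_of_eq hVt) g hc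
  have hUV : U ⊔ Vt = ⊤ := by
    apply top_le_iff.1
    intro x _
    by_cases hxU : x ∈ U
    · exact Opens.mem_sup.2 (Or.inl hxU)
    · exact Opens.mem_sup.2 (Or.inr (hVle ⟨x, (hfin.mem_toFinset).2 hxU⟩ (hdV _)))
  have hfg : resR (inf_le_left : U ⊓ Vt ≤ U) f * resR (inf_le_right : U ⊓ Vt ≤ Vt) gT = 1 := by
    apply functions_eq_of_evaluation
    intro hO
    rw [map_mul, evaluation_resR, evaluation_resR, map_one]
    have hηVt : genericPoint X ∈ Vt := hO.2
    rw [hVt] at hηVt
    obtain ⟨d, hd⟩ := Opens.mem_iSup.1 hηVt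
    have h1 := hgev d hd
    rw [← hgT d, evaluation_resR] at h1
    rw [mul_comm]
    exact h1
  have hg : ∀ x ∈ Vt, x ∉ U → x ∉ X.basicOpen gT := by
    intro x hxV hxU hxb
    have hu := (Scheme.mem_basicOpen X gT x hxV).1 hxb
    let d : hfin.toFinset := ⟨x, (hfin.mem_toFinset).2 hxU⟩
    have h1 := hgm d
    rw [← hgT d, germ_resR] at h1
    exact ((IsLocalRing.mem_maximalIdeal _).1 h1) hu
  exact exists_gg_invertible U Vt hUV f gT hfg hg

end Groth.Agent.Helper1.CurveGlue
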