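import Mathlib

/-!
# Inverting a function near a one-dimensional point (helper1 library, CurveGlueD)

A purely algebraic lemma: in a Noetherian ring `C` with an element `h` whose zero locus lies in
`V(𝔭)`, if an element `F / h ^ n` of `C[1/h]` has, modulo each minimal prime, an inverse coming from
`𝔭`, then some power of it has an inverse in `C[1/h]` coming from `𝔭`.
-/
set_option autoImplicit false
open Polynomial

namespace Groth.Agent.Helper1.CurveGlue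

theorem exists_prod_one_sub {R : Type*} [CommRing R] (φ : R) {ι : Type*} (s : Finset ι)
    (y : ι → R) : ∃ w : R, ∏ i ∈ s, (1 - φ * y i) = 1 - φ * w := by
  classical
  induction s using Finset.induction_on with
  | empty => exact ⟨0, by simp⟩
  | insert a s ha ih =>
    obtain ⟨w, hw⟩ := ih
    refine ⟨y a + w - φ * y a * w, ?_⟩
    rw [Finset.prod_insert ha, hw]
    ring

set_option maxHeartbeats 1600000 in
theorem exists_pow_inverse {C : Type*} [CommRing C] [IsNoetherianRing C] (h : C) (𝔭 : Ideal C)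
    (h𝔭 : 𝔭 ≤ (Ideal.span {h}).radical) (F : C) (n : ℕ)
    (hmin : ∀ 𝔮 ∈ minimalPrimes C, ∃ b ∈ 𝔭, F * b - h ^ n ∈ 𝔮) :
    ∃ (N : ℕ) (g : C) (k : ℕ), 0 < N ∧ g ∈ 𝔭 ∧ h ^ k * (F ^ N * g - h ^ (n * N)) = 0 := by
  classical
  let b : Ideal C → C := fun 𝔮 => if h𝔮 : 𝔮 ∈ minimalPrimes C then (hmin 𝔮 h𝔮).choose else 0
  have hb𝔭 : ∀ 𝔮, b 𝔮 ∈ 𝔭 := by
    intro 𝔮
    by_cases h𝔮 : 𝔮 ∈ minimalPrimes C
    · simp only [b, dif_pos h𝔮]; exact (hmin 𝔮 h𝔮).choose_spec.1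
    · simp only [b, dif_neg h𝔮]; exact 𝔭.zero_mem
  have hb𝔮 : ∀ 𝔮 ∈ minimalPrimes C, h ^ n - F * b 𝔮 ∈ 𝔮 := by
    intro 𝔮 h𝔮
    have h1 := (hmin 𝔮 h𝔮).choose_spec.2
    simp only [b, dif_pos h𝔮]
    rw [← neg_sub]; exact 𝔮.neg_mem h1
  have hfinM : (minimalPrimes C).Finite := minimalPrimes.finite_of_isNoetherianRing C
  obtain ⟨ℳ, hℳ⟩ : ∃ ℳ : Finset (Ideal C), ∀ 𝔮, 𝔮 ∈ ℳ ↔ 𝔮 ∈ minimalPrimes C :=
    ⟨hfinM.toFinset, fun 𝔮 => hfinM.mem_toFinset⟩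
  have hnil : IsNilpotent (∏ 𝔮 ∈ ℳ, (h ^ n - F * b 𝔮)) := by
    rw [← mem_nilradical]
    have h0 : nilradical C = sInf (minimalPrimes C) := by
      rw [minimalPrimes, Ideal.sInf_minimalPrimes]; rfl
    rw [h0, Ideal.mem_sInf]
    intro 𝔮 h𝔮
    obtain ⟨c, hc⟩ := Finset.dvd_prod_of_mem (fun 𝔮 => h ^ n - F * b 𝔮) ((hℳ 𝔮).2 h𝔮)
    rw [hc]
    exact 𝔮.mul_mem_right _ (hb𝔮 𝔮 h𝔮)
  obtain ⟨e, he⟩ := hnil
  -- the localisation
  obtain ⟨ι, hι⟩ : ∃ ι : C →+* Localization.Away h, ι = algebraMap C (Localization.Away h) :=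
    ⟨_, rfl⟩
  have hu : IsUnit (ι h) := hι ▸ IsLocalization.Away.algebraMap_isUnit h
  obtain ⟨uh, huh⟩ := hu
  obtain ⟨φ, hφ⟩ : ∃ φ : Localization.Away h, φ = ι F * ((uh⁻¹ : (Localization.Away h)ˣ) : _) ^ n :=
    ⟨_, rfl⟩
  have hcancel : (ι h) ^ n * ((uh⁻¹ : (Localization.Away h)ˣ) : Localization.Away h) ^ n = 1 := by
    rw [← mul_pow, ← huh, Units.mul_inv, one_pow]
  have hkey : ∀ c : C, ι (h ^ n - F * c) = (ι h) ^ n * (1 - φ * ι c) := by
    intro c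
    rw [map_sub, map_pow, map_mul, hφ]
    linear_combination (ι F * ι c) * hcancel
  obtain ⟨Z, hZdef⟩ : ∃ Z : Localization.Away h, Z = ∏ 𝔮 ∈ ℳ, (1 - φ * ι (b 𝔮)) := ⟨_, rfl⟩
  have hZ : Z ^ e = 0 := by
    have h1 : ι ((∏ 𝔮 ∈ ℳ, (h ^ n - F * b 𝔮)) ^ e) = 0 := by rw [he, map_zero]
    rw [map_pow, map_prod] at h1
    simp only [hkey] at h1
    rw [Finset.prod_mul_distrib, ← hZdef, mul_pow] at h1
    have hu2 : IsUnit ((∏ _𝔮 ∈ ℳ, (ι h) ^ n) ^ e) := by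
      apply IsUnit.pow
      rw [Finset.prod_const]
      exact (IsUnit.pow _ ⟨uh, huh⟩).pow _
    exact (hu2.mul_right_eq_zero).1 h1
  obtain ⟨w, hw⟩ := exists_prod_one_sub φ ℳ (fun 𝔮 => ι (b 𝔮))
  rw [← hZdef] at hw
  have hφw : IsUnit (φ * w) := by
    have h1 : φ * w = 1 - Z := by rw [hw]; ring
    rw [h1]
    exact IsNilpotent.isUnit_one_sub ⟨e, hZ⟩
  have hφu : IsUnit φ := isUnit_of_mul_isUnit_left hφw
  obtain ⟨uφ, huφ⟩ := hφu
  obtain ⟨q, hq⟩ : ∃ q : Localization.Away h, q = ((uφ⁻¹ : (Localization.Away h)ˣ) : _) := ⟨_, rfl⟩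
  have hqφ : q * φ = 1 := by rw [hq, ← huφ, Units.inv_mul]
  have hqb : ∀ c : C, q - ι c = q * (1 - φ * ι c) := by
    intro c
    rw [mul_sub, mul_one, ← mul_assoc, hqφ, one_mul]
  have hroot : ∏ 𝔮 ∈ ℳ, (q - ι (b 𝔮)) ^ e = 0 := by
    simp only [hqb, mul_pow]
    rw [Finset.prod_mul_distrib, Finset.prod_pow ℳ e (fun 𝔮 => 1 - φ * ι (b 𝔮)), ← hZdef, hZ,
      mul_zero]
  -- the polynomial
  obtain ⟨P, hP⟩ : ∃ P : C[X], P = ∏ 𝔮 ∈ ℳ, (X - Polynomial.C (b 𝔮)) ^ e := ⟨_, rfl⟩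
  have haeval : aeval q P = 0 := by
    rw [hP, map_prod]
    simp only [map_pow, map_sub, aeval_X, aeval_C]
    rw [← hι]
    exact hroot
  have hmonic : P.Monic := by
    rw [hP]
    exact monic_prod_of_monic _ _ (fun 𝔮 _ => (monic_X_sub_C _).pow e)
  have hdeg : P.natDegree ≤ ℳ.card * e := by
    rw [hP]
    refine (natDegree_prod_le ℳ (fun 𝔮 => (X - Polynomial.C (b 𝔮)) ^ e)).trans ?_
    have hle : ∀ 𝔮 ∈ ℳ, ((X - Polynomial.C (b 𝔮)) ^ e).natDegree ≤ e := by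
      intro 𝔮 _
      refine natDegree_pow_le.trans ?_
      have h1 := natDegree_X_sub_C_le (b 𝔮)
      calc e * (X - Polynomial.C (b 𝔮)).natDegree ≤ e * 1 := Nat.mul_le_mul_left _ h1
        _ = e := mul_one e
    calc ∑ 𝔮 ∈ ℳ, ((X - Polynomial.C (b 𝔮)) ^ e).natDegree ≤ ∑ _𝔮 ∈ ℳ, e :=
          Finset.sum_le_sum (f := fun 𝔮 => ((X - Polynomial.C (b 𝔮)) ^ e).natDegree) hle
      _ = ℳ.card * e := by rw [Finset.sum_const, smul_eq_mul]
  have hmap : P.map (Ideal.Quotient.mk 𝔭) = X ^ (ℳ.card * e) := by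
    rw [hP, Polynomial.map_prod]
    have : ∀ 𝔮 ∈ ℳ, ((X - Polynomial.C (b 𝔮)) ^ e).map (Ideal.Quotient.mk 𝔭) = X ^ e := by
      intro 𝔮 _
      rw [Polynomial.map_pow, Polynomial.map_sub, map_X, map_C,
        Ideal.Quotient.eq_zero_iff_mem.2 (hb𝔭 𝔮), map_zero, sub_zero]
    rw [Finset.prod_congr rfl this, Finset.prod_const, ← pow_mul, mul_comm]
  have hweak : P.IsWeaklyEisensteinAt 𝔭 := by
    refine ⟨fun {i} hi => ?_⟩
    rw [← Ideal.Quotient.eq_zero_iff_mem, ← coeff_map, hmap, coeff_X_pow, if_neg]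
    exact ne_of_lt (lt_of_lt_of_le hi hdeg)
  -- the finite algebra generated by `q`
  have hqmem : q ∈ Algebra.adjoin C {q} := Algebra.subset_adjoin (Set.mem_singleton q)
  have hroot' : IsRoot (P.map (algebraMap C (Algebra.adjoin C {q})))
      (⟨q, hqmem⟩ : Algebra.adjoin C {q}) := by
    rw [IsRoot.def, eval_map_algebraMap]
    apply Subtype.ext
    rw [← Subalgebra.aeval_coe]
    exact haeval
  have hmem := (hweak.map (algebraMap C (Algebra.adjoin C {q}))).pow_natDegree_le_of_root_of_monic_mem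
    hroot' (hmonic.map _)
  obtain ⟨m0, hm0⟩ : ∃ m0, m0 = (P.map (algebraMap C (Algebra.adjoin C {q}))).natDegree + 1 :=
    ⟨_, rfl⟩
  have hqm0 : (⟨q, hqmem⟩ : Algebra.adjoin C {q}) ^ m0 ∈
      𝔭.map (algebraMap C (Algebra.adjoin C {q})) := hmem m0 (by omega)
  have hint : IsIntegral C q := ⟨P, hmonic, by rw [← aeval_def]; exact haeval⟩
  obtain ⟨gs, hgs⟩ := hint.fg_adjoin_singleton
  obtain ⟨⟨_, m, rfl⟩, hintm⟩ :=
    IsLocalization.exist_integer_multiples_of_finset (Submonoid.powers h) gs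
  have hCq' : ∀ z ∈ Submodule.span C (gs : Set (Localization.Away h)),
      ∃ w : C, ι w = ι (h ^ m) * z := by
    intro z hz
    induction hz using Submodule.span_induction with
    | mem a ha =>
      obtain ⟨w, hw⟩ := hintm a ha
      exact ⟨w, by rw [hι, hw, Algebra.smul_def]⟩
    | zero => exact ⟨0, by rw [map_zero, mul_zero]⟩
    | add x y _ _ hx hy =>
      obtain ⟨w1, h1⟩ := hx
      obtain ⟨w2, h2⟩ := hy
      exact ⟨w1 + w2, by rw [map_add, h1, h2, mul_add]⟩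
    | smul c x _ hx =>
      obtain ⟨w, hw⟩ := hx
      exact ⟨c * w, by rw [map_mul, hw, Algebra.smul_def, hι]; ring⟩
  have hCq : ∀ z ∈ Algebra.adjoin C {q}, ∃ w : C, ι w = ι (h ^ m) * z := by
    intro z hz
    exact hCq' z (by rw [hgs]; exact hz)
  obtain ⟨M, hM⟩ := Ideal.exists_pow_le_of_le_radical_of_fg h𝔭 (IsNoetherian.noetherian 𝔭)
  have h𝔭l : 𝔭 ^ (M * m + 1) ≤ Ideal.span {h ^ m} * 𝔭 := by
    rw [pow_succ, pow_mul, ← Ideal.span_singleton_pow]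
    exact Ideal.mul_mono_left (Ideal.pow_right_mono hM m)
  -- elements of `𝔭 ^ l • C[q]` come from `𝔭`
  have hclaim : ∀ y ∈ (𝔭 ^ (M * m + 1)).map (algebraMap C (Algebra.adjoin C {q})),
      ∀ z : Algebra.adjoin C {q}, ∃ g ∈ 𝔭, ι g = (z : Localization.Away h) * (y : Localization.Away h) := by
    intro y hy
    induction hy using Submodule.span_induction with
    | mem a ha =>
      obtain ⟨r, hr, rfl⟩ := ha
      intro z
      obtain ⟨p, hp, hpr⟩ := Ideal.mem_span_singleton_mul.1 (h𝔭l hr)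
      obtain ⟨w, hw⟩ := hCq z z.2
      refine ⟨p * w, 𝔭.mul_mem_right _ hp, ?_⟩
      have hcoe : ((algebraMap C (Algebra.adjoin C {q}) r : Algebra.adjoin C {q}) :
          Localization.Away h) = ι r := by rw [hι]; rfl
      rw [hcoe, map_mul, hw, ← hpr, map_mul]
      ring
    | zero =>
      intro z
      exact ⟨0, 𝔭.zero_mem, by rw [map_zero, ZeroMemClass.coe_zero, mul_zero]⟩
    | add x y _ _ hx hy =>
      intro z
      obtain ⟨g1, hg1, h1⟩ := hx z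
      obtain ⟨g2, hg2, h2⟩ := hy z
      exact ⟨g1 + g2, 𝔭.add_mem hg1 hg2, by rw [map_add, h1, h2, AddMemClass.coe_add, mul_add]⟩
    | smul c x _ hx =>
      intro z
      obtain ⟨g, hg, h1⟩ := hx (z * c)
      refine ⟨g, hg, ?_⟩
      rw [h1, smul_eq_mul, MulMemClass.coe_mul, MulMemClass.coe_mul, mul_assoc]
  have hqN : ((⟨q, hqmem⟩ : Algebra.adjoin C {q}) ^ m0) ^ (M * m + 1) ∈
      (𝔭 ^ (M * m + 1)).map (algebraMap C (Algebra.adjoin C {q})) := by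
    rw [Ideal.map_pow]
    exact Ideal.pow_mem_pow hqm0 _
  obtain ⟨g, hg𝔭, hg⟩ := hclaim _ hqN 1
  have hgq : ι g = q ^ (m0 * (M * m + 1)) := by
    rw [hg, OneMemClass.coe_one, one_mul, ← pow_mul]
    rfl
  have hFq : ι F * q = (ι h) ^ n := by
    have h1 : φ * q = 1 := by rw [mul_comm]; exact hqφ
    rw [hφ] at h1
    calc ι F * q = (ι h) ^ n * (ι F * ((uh⁻¹ : (Localization.Away h)ˣ) : _) ^ n * q) := by
          rw [show (ι h) ^ n * (ι F * ((uh⁻¹ : (Localization.Away h)ˣ) : Localization.Away h) ^ n * q) =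
            ((ι h) ^ n * ((uh⁻¹ : (Localization.Away h)ˣ) : Localization.Away h) ^ n) * (ι F * q) by ring,
            hcancel, one_mul]
      _ = (ι h) ^ n := by rw [h1, mul_one]
  have hfin : ι (F ^ (m0 * (M * m + 1)) * g - h ^ (n * (m0 * (M * m + 1)))) = 0 := by
    rw [map_sub, map_mul, map_pow, map_pow, hgq, ← mul_pow, hFq, ← pow_mul, sub_self]
  rw [hι] at hfin
  obtain ⟨⟨_, k, rfl⟩, hk⟩ := (IsLocalization.map_eq_zero_iff (Submonoid.powers h) _ _).1 hfin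
  refine ⟨m0 * (M * m + 1), g, k, ?_, hg𝔭, hk⟩
  rw [hm0]
  positivity

end Groth.Agent.Helper1.CurveGlue
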