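import Mathlib
import Groth.Agent.Lib.Helper1.TwistSec
import Groth.Agent.Lib.Helper1.LGen

set_option autoImplicit false
universe u
open CategoryTheory CategoryTheory.Limits AlgebraicGeometry TopologicalSpace Opposite

namespace Groth.Agent.Helper1.InvT

open Groth.Agent.Helper1.QcCech Groth.Agent.Helper1.LGen Groth.Agent.Helper1.TwistSec

variable {X : Scheme.{u}}

/-- local equality of functions -/
theorem eqR_of_locally {O : X.Opens} (s t : Γ(X, O))
    (h : ∀ x ∈ O, ∃ (W : X.Opens) (hW : W ≤ O), x ∈ W ∧ resR hW s = resR hW t) : s = t :=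
  eq_of_locally (Coh.structureModule X) (O := O) s t h

/-- gluing of compatible functions -/
theorem glueR_of_compatible {ι : Type*} (W : ι → X.Opens) (O : X.Opens)
    (hWO : ∀ i, W i ≤ O) (hcov : O ≤ ⨆ i, W i) (sf : ∀ i, Γ(X, W i))
    (hc : ∀ i j, resR (inf_le_left : W i ⊓ W j ≤ W i) (sf i) =
      resR (inf_le_right : W i ⊓ W j ≤ W j) (sf j)) :
    ∃ s : Γ(X, O), ∀ i, resR (hWO i) s = sf i :=
  glue_of_compatible (Coh.structureModule X) W O hWO hcov sf hc

/-- a section which is a free generator on a basis of opens is a free generator -/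
theorem isGen_of_basis {L : X.Modules} {W : X.Opens} (a : Γ(L, W)) (B : Set X.Opens)
    (hB : ∀ (V : X.Opens) (x : X), x ∈ V → V ≤ W → ∃ V' ∈ B, x ∈ V' ∧ V' ≤ V)
    (hbij : ∀ V' ∈ B, ∀ h : V' ≤ W, Function.Bijective (fun r : Γ(X, V') => r • res L h a)) :
    IsGen L W a := by
  intro V hV
  have hinj : ∀ (V : X.Opens) (hV : V ≤ W) (r r' : Γ(X, V)),
      r • res L hV a = r' • res L hV a → r = r' := by
    intro V hV r r' hrr
    apply eqR_of_locally
    intro x hx
    obtain ⟨V', hV'B, hxV', hV'V⟩ := hB V x hx hV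
    refine ⟨V', hV'V, hxV', ?_⟩
    apply (hbij V' hV'B (hV'V.trans hV)).1
    change resR hV'V r • res L (hV'V.trans hV) a = resR hV'V r' • res L (hV'V.trans hV) a
    rw [← res_res L hV hV'V, ← res_smul, ← res_smul, hrr]
  refine ⟨fun r r' h => hinj V hV r r' h, ?_⟩
  intro t
  have hloc : ∀ x : V, ∃ V' ∈ B, x.1 ∈ V' ∧ V' ≤ V := fun x => hB V x.1 x.2 hV
  choose V' hV'B hxV' hV'V using hloc
  have hc : ∀ x : V, ∃ c : Γ(X, V' x), c • res L ((hV'V x).trans hV) a = res L (hV'V x) t :=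
    fun x => (hbij (V' x) (hV'B x) ((hV'V x).trans hV)).2 _
  choose c hc using hc
  obtain ⟨r, hr⟩ := glueR_of_compatible V' V hV'V
    (fun x hx => Opens.mem_iSup.2 ⟨⟨x, hx⟩, hxV' ⟨x, hx⟩⟩) c (by
      intro x y
      apply hinj (V' x ⊓ V' y) (inf_le_left.trans ((hV'V x).trans hV))
      have h1 := congrArg (res L (inf_le_left : V' x ⊓ V' y ≤ V' x)) (hc x)
      have h2 := congrArg (res L (inf_le_right : V' x ⊓ V' y ≤ V' y)) (hc y)
      rw [res_smul, res_res, res_res] at h1 h2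
      rw [h1, h2])
  refine ⟨r, ?_⟩
  apply eq_of_locally
  intro x hx
  refine ⟨V' ⟨x, hx⟩, hV'V ⟨x, hx⟩, hxV' ⟨x, hx⟩, ?_⟩
  change res L _ (r • res L hV a) = _
  rw [res_smul, res_res, hr, hc]

end Groth.Agent.Helper1.InvT
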