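import Mathlib
import Groth.Agent.Lib.Helper1.PicGlueA
import Groth.Agent.Lib.Helper1.PicGlueB

/-!
# Invertible modules are pulled back along finite morphisms which are isomorphisms off a
discrete set (helper1, PicGlueC)
-/
set_option autoImplicit false
universe u
open CategoryTheory CategoryTheory.Limits AlgebraicGeometry TopologicalSpace Opposite

namespace Groth.Agent.Helper1.PicGlue

open Groth.Agent.Helper1.QcCech Groth.Agent.Helper1.LGen Groth.Agent.Helper1
open Groth.Agent.Helper1.PullSec Groth.Agent.Helper1.TwForm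

variable {X Y : Scheme.{u}} (f : X ⟶ Y)

/-- if `f` is an isomorphism over `V`, it induces bijections on functions over opens of `V` -/
theorem bijective_app_of_isIso_restrict (V : Y.Opens) [hV : IsIso (f ∣_ V)] (O : Y.Opens)
    (hO : O ≤ V) : Function.Bijective (f.app O).hom := by
  obtain ⟨O', rfl⟩ : ∃ O' : (↑V : Scheme.{u}).Opens, O = V.ι ''ᵁ O' :=
    ⟨V.ι ⁻¹ᵁ O, (GenLoc.image_preimage_of_le V hO).symm⟩
  have h1 : Function.Bijective ((f ∣_ V).app O').hom :=
    (ConcreteCategory.isIso_iff_bijective _).1 inferInstance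
  rw [morphismRestrict_app] at h1
  have h2 : Function.Bijective
      (X.presheaf.map (eqToHom (image_morphismRestrict_preimage f V O')).op).hom := by
    have : IsIso (X.presheaf.map (eqToHom (image_morphismRestrict_preimage f V O')).op) :=
      inferInstance
    exact (ConcreteCategory.isIso_iff_bijective _).1 this
  have h3 : Function.Bijective
      ((X.presheaf.map (eqToHom (image_morphismRestrict_preimage f V O')).op).hom ∘
        (f.app (V.ι ''ᵁ O')).hom) := h1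
  exact (Function.Bijective.of_comp_iff' h2 _).1 h3

/-- local step: an invertible module upstairs is trivial over the preimage of a small
neighbourhood of any point downstairs, when `f` is finite -/
theorem exists_isGen_preimage [IsFinite f] (L : X.Modules) (hL : PicF.IsInvertible L) (y : Y)
    (Ω : Y.Opens) (hy : y ∈ Ω) :
    ∃ (U : Y.Opens) (ℓ : Γ(L, f ⁻¹ᵁ U)), U ≤ Ω ∧ y ∈ U ∧ IsGen L (f ⁻¹ᵁ U) ℓ := by
  obtain ⟨W₀, hW₀aff, hyW₀, hW₀Ω⟩ := Opens.isBasis_iff_nbhd.1 Y.isBasis_affineOpens hy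
  have hX₀ : IsAffineOpen (f ⁻¹ᵁ W₀) := hW₀aff.preimage f
  let F : Set X := f.base ⁻¹' {y}
  have hfin : F.Finite := f.finite_preimage_singleton y
  have hdiscF : _root_.IsDiscrete F := f.isDiscrete_preimage_singleton y
  have hFX₀ : F ⊆ (f ⁻¹ᵁ W₀ : X.Opens) := by
    intro x hx
    have hx' : f.base x = y := hx
    change f.base x ∈ W₀
    rw [hx']
    exact hyW₀
  have hanti : ∀ x ∈ F, ∀ x' ∈ F, x ⤳ x' → x = x' := by
    intro x hx x' hx' hs
    haveI : DiscreteTopology ↥F := hdiscF.to_subtype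
    have hs' : (⟨x, hx⟩ : F) ⤳ ⟨x', hx'⟩ := (subtype_specializes_iff _ _).2 hs
    exact congrArg Subtype.val hs'.eq
  obtain ⟨O, hO, a, hFO, ha⟩ := exists_isGen_of_finite L hL hX₀ F hfin hFX₀ hanti
  have hclosed : IsClosed (f.base '' ((O : Set X)ᶜ)) :=
    f.isClosedMap _ O.isOpen.isClosed_compl
  have hyC : y ∉ f.base '' ((O : Set X)ᶜ) := by
    rintro ⟨x, hxO, hxy⟩
    exact hxO (hFO hxy)
  let U : Y.Opens := W₀ ⊓ ⟨(f.base '' ((O : Set X)ᶜ))ᶜ, hclosed.isOpen_compl⟩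
  have hUO : f ⁻¹ᵁ U ≤ O := by
    intro x hx
    by_contra hxO
    exact hx.2 ⟨x, hxO, rfl⟩
  exact ⟨U, res L hUO a, inf_le_left.trans hW₀Ω, ⟨hyW₀, hyC⟩, ha.res hUO⟩

/-- **S1552**: finite, an isomorphism over `V`, with discrete complement of `V` -/
theorem main_S1552 [IsFinite f] (V : Y.Opens) (hV : IsIso (f ∣_ V))
    (hdisc : DiscreteTopology ((V : Set Y)ᶜ : Set Y))
    (L : X.Modules) (hL : PicF.IsInvertible L) :
    ∃ N : Y.Modules, PicF.IsInvertible N ∧ Nonempty ((Scheme.Modules.pullback f).obj N ≅ L) := by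
  classical
  have hloc : ∀ y : Y, ∃ (U : Y.Opens) (ℓ : Γ(L, f ⁻¹ᵁ U)), y ∈ U ∧ IsGen L (f ⁻¹ᵁ U) ℓ ∧
      (y ∈ V → U ≤ V) ∧ (y ∉ V → ∀ z ∈ U, z ∉ V → z = y) := by
    intro y
    by_cases hy : y ∈ V
    · obtain ⟨U, ℓ, hUV, hyU, hℓ⟩ := exists_isGen_preimage f L hL y V hy
      exact ⟨U, ℓ, hyU, hℓ, fun _ => hUV, fun h => absurd hy h⟩
    · have hyc : y ∈ ((V : Set Y)ᶜ : Set Y) := hy
      obtain ⟨t, ht, hts⟩ := isOpen_induced_iff.1
        (isOpen_discrete ({⟨y, hyc⟩} : Set ((V : Set Y)ᶜ : Set Y)))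
      have hyt : y ∈ t := by
        have : (⟨y, hyc⟩ : ((V : Set Y)ᶜ : Set Y)) ∈ Subtype.val ⁻¹' t := by
          rw [hts]; rfl
        exact this
      obtain ⟨U, ℓ, hUt, hyU, hℓ⟩ := exists_isGen_preimage f L hL y ⟨t, ht⟩ hyt
      refine ⟨U, ℓ, hyU, hℓ, fun h => absurd h hy, fun _ z hzU hzV => ?_⟩
      have hz : (⟨z, hzV⟩ : ((V : Set Y)ᶜ : Set Y)) ∈ Subtype.val ⁻¹' t := hUt hzU
      rw [hts] at hz
      exact congrArg Subtype.val hz
  choose U ℓ hyU hℓ hUin hUout using hloc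
  have hU : iSup U = ⊤ := by
    apply top_le_iff.1
    intro y _
    exact Opens.mem_iSup.2 ⟨y, hyU y⟩
  have hUV : ∀ i j : Y, i ≠ j → U i ⊓ U j ≤ V := by
    intro i j hij z hz
    by_contra hzV
    have hi : i ∉ V := fun h => hzV (hUin i h hz.1)
    have hj : j ∉ V := fun h => hzV (hUin j h hz.2)
    exact hij ((hUout i hi z hz.1 hzV).symm.trans (hUout j hj z hz.2 hzV))
  obtain ⟨N, -, hN, -, e, -⟩ := descend f L V
    (fun O hO => bijective_app_of_isIso_restrict f V O hO) U hU hUV ℓ hℓ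
  exact ⟨N, hN, ⟨e⟩⟩

end Groth.Agent.Helper1.PicGlue
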