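import Mathlib
import Groth.Agent.Lib.Helper1.PicGlueA

/-!
# Descending a family of invertible modules along a jointly bijective family of morphisms
(helper1, PicGlueD)
-/
set_option autoImplicit false
universe u
open CategoryTheory CategoryTheory.Limits AlgebraicGeometry TopologicalSpace Opposite

namespace Groth.Agent.Helper1.PicGlue

open Groth.Agent.Helper1.QcCech Groth.Agent.Helper1.LGen Groth.Agent.Helper1
open Groth.Agent.Helper1.PullSec Groth.Agent.Helper1.TwForm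

/-- comparison of a pullback with a module having matching generators -/
theorem core_iso {X' X : Scheme.{u}} (f : X' ⟶ X) (N : X'.Modules) {ι : Type u}
    (U : ι → X.Opens) (hU : iSup U = ⊤)
    (ℓ : ∀ i, Γ(N, f ⁻¹ᵁ U i)) (hℓ : ∀ i, IsGen N (f ⁻¹ᵁ U i) (ℓ i))
    (η : ∀ i j : ι, (Γ(X, U i ⊓ U j))ˣ)
    (hc : ∀ i j, res N (f.preimage_mono (inf_le_left : U i ⊓ U j ≤ U i)) (ℓ i) =
      (f.app (U i ⊓ U j)).hom (η i j : Γ(X, U i ⊓ U j)) •
        res N (f.preimage_mono (inf_le_right : U i ⊓ U j ≤ U j)) (ℓ j))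
    (L : X.Modules) (s : ∀ i, Γ(L, U i)) (hs : ∀ i, IsGen L (U i) (s i))
    (htr' : ∀ i j, res L (inf_le_left : U i ⊓ U j ≤ U i) (s i) =
        (η i j : Γ(X, U i ⊓ U j)) • res L (inf_le_right : U i ⊓ U j ≤ U j) (s j)) :
    ∃ e : (Scheme.Modules.pullback f).obj L ≅ N,
        ∀ i, e.hom.app (f ⁻¹ᵁ U i) (σ f L (U i) (s i)) = ℓ i := by
  have key : ∀ i j, res ((Scheme.Modules.pullback f).obj L)
        (f.preimage_mono (inf_le_left : U i ⊓ U j ≤ U i)) (σ f L (U i) (s i)) =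
      (f.app (U i ⊓ U j)).hom (η i j : Γ(X, U i ⊓ U j)) •
        res ((Scheme.Modules.pullback f).obj L)
          (f.preimage_mono (inf_le_right : U i ⊓ U j ≤ U j)) (σ f L (U j) (s j)) := by
    intro i j
    rw [σ_res f L (inf_le_left : U i ⊓ U j ≤ U i) (s i), htr' i j, σ_smul,
      ← σ_res f L (inf_le_right : U i ⊓ U j ≤ U j) (s j)]
  let F : CocycleIso.GenFam ((Scheme.Modules.pullback f).obj L) N :=
    { ι := ι
      W := fun i => f ⁻¹ᵁ U i
      a := fun i => σ f L (U i) (s i)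
      b := ℓ
      ha := fun i => PullGen.isGen_σ f (hs i)
      hb := hℓ
      cov := fun x => by
        have hx : f.base x ∈ (iSup U : X.Opens) := by rw [hU]; trivial
        obtain ⟨i, hi⟩ := Opens.mem_iSup.1 hx
        exact ⟨i, hi⟩
      compat := by
        intro i j v hv
        have h1 : (f.app (U i ⊓ U j)).hom (η i j : Γ(X, U i ⊓ U j)) = v := by
          apply ((PullGen.isGen_σ f (hs j)) (f ⁻¹ᵁ U i ⊓ f ⁻¹ᵁ U j) inf_le_right).1
          exact (key i j).symm.trans hv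
        rw [← h1]
        exact hc i j }
  exact ⟨F.iso, fun i => F.iso_hom_a i⟩

/-- descent of a family of invertible modules along a family of morphisms which is jointly
bijective on functions over the opens of `V` -/
theorem descendFam {X : Scheme.{u}} {A : Type*} (X' : A → Scheme.{u}) (f : ∀ a, X' a ⟶ X)
    (N : ∀ a, (X' a).Modules) (V : X.Opens)
    (hbij : ∀ O : X.Opens, O ≤ V → Function.Bijective
      (fun r : Γ(X, O) => (fun a => ((f a).app O).hom r : ∀ a, Γ(X' a, (f a) ⁻¹ᵁ O))))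
    {ι : Type u} (U : ι → X.Opens) (hU : iSup U = ⊤) (hUV : ∀ i j, i ≠ j → U i ⊓ U j ≤ V)
    (ℓ : ∀ a i, Γ(N a, (f a) ⁻¹ᵁ U i)) (hℓ : ∀ a i, IsGen (N a) ((f a) ⁻¹ᵁ U i) (ℓ a i)) :
    ∃ L : X.Modules, PicF.IsInvertible L ∧
      ∀ a, Nonempty ((Scheme.Modules.pullback (f a)).obj L ≅ N a) := by
  classical
  have hc : ∀ a i j, ∃ c : (Γ(X' a, (f a) ⁻¹ᵁ (U i ⊓ U j)))ˣ,
      res (N a) ((f a).preimage_mono (inf_le_left : U i ⊓ U j ≤ U i)) (ℓ a i) =
        (c : Γ(X' a, (f a) ⁻¹ᵁ (U i ⊓ U j))) •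
          res (N a) ((f a).preimage_mono (inf_le_right : U i ⊓ U j ≤ U j)) (ℓ a j) :=
    fun a i j => IsGen.exists_unit ((hℓ a j).res _) ((hℓ a i).res _)
  choose c hc using hc
  have hη : ∀ i j, ∃ η : (Γ(X, U i ⊓ U j))ˣ,
      (∀ a, res (N a) ((f a).preimage_mono (inf_le_left : U i ⊓ U j ≤ U i)) (ℓ a i) =
        ((f a).app (U i ⊓ U j)).hom (η : Γ(X, U i ⊓ U j)) •
          res (N a) ((f a).preimage_mono (inf_le_right : U i ⊓ U j ≤ U j)) (ℓ a j)) ∧
      (i = j → η = 1) := by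
    intro i j
    by_cases h : i = j
    · subst h
      exact ⟨1, fun a => by rw [Units.val_one, map_one, one_smul], fun _ => rfl⟩
    · have hO := hUV i j h
      obtain ⟨r, hr⟩ := (hbij _ hO).2 (fun a => ((c a i j : (Γ(X' a, (f a) ⁻¹ᵁ (U i ⊓ U j)))ˣ) :
        Γ(X' a, (f a) ⁻¹ᵁ (U i ⊓ U j))))
      obtain ⟨r', hr'⟩ := (hbij _ hO).2
        (fun a => (((c a i j)⁻¹ : (Γ(X' a, (f a) ⁻¹ᵁ (U i ⊓ U j)))ˣ) :
          Γ(X' a, (f a) ⁻¹ᵁ (U i ⊓ U j))))
      have hr1 : ∀ a, ((f a).app (U i ⊓ U j)).hom r = (c a i j : Γ(X' a, (f a) ⁻¹ᵁ (U i ⊓ U j))) :=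
        fun a => congrFun hr a
      have hr2 : ∀ a, ((f a).app (U i ⊓ U j)).hom r' =
          (((c a i j)⁻¹ : (Γ(X' a, (f a) ⁻¹ᵁ (U i ⊓ U j)))ˣ) : Γ(X' a, (f a) ⁻¹ᵁ (U i ⊓ U j))) :=
        fun a => congrFun hr' a
      have hrr : r * r' = 1 := by
        apply (hbij _ hO).1
        funext a
        change ((f a).app (U i ⊓ U j)).hom (r * r') = ((f a).app (U i ⊓ U j)).hom 1
        rw [map_mul, hr1, hr2, map_one, Units.mul_inv]
      refine ⟨⟨r, r', hrr, by rw [mul_comm]; exact hrr⟩, fun a => ?_, fun h' => absurd h' h⟩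
      change _ = ((f a).app (U i ⊓ U j)).hom r • _
      rw [hr1 a]
      exact hc a i j
  choose η hηc hη1 using hη
  have hcoc : Cocyc.IsCocycle U η := by
    intro i j k
    by_cases hall : i = j ∧ j = k
    · obtain ⟨rfl, rfl⟩ := hall
      simp only [hη1 i i rfl, Units.val_one, map_one, mul_one]
    · have hTV : U i ⊓ U j ⊓ U k ≤ V := by
        by_cases hij : i = j
        · have hjk : j ≠ k := fun h => hall ⟨hij, h⟩
          exact (inf_le_inf_right (U k) inf_le_right).trans (hUV j k hjk)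
        · exact inf_le_left.trans (hUV i j hij)
      apply (hbij _ hTV).1
      funext a
      change ((f a).app (U i ⊓ U j ⊓ U k)).hom _ = ((f a).app (U i ⊓ U j ⊓ U k)).hom (_ * _)
      rw [map_mul, app_resR, app_resR, app_resR]
      apply ((hℓ a k) ((f a) ⁻¹ᵁ (U i ⊓ U j ⊓ U k)) ((f a).preimage_mono inf_le_right)).1
      have e1 := congrArg (res (N a) ((f a).preimage_mono
        (inf_le_inf_right (U k) inf_le_left : U i ⊓ U j ⊓ U k ≤ U i ⊓ U k))) (hηc i k a)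
      have e2 := congrArg (res (N a) ((f a).preimage_mono
        (inf_le_left : U i ⊓ U j ⊓ U k ≤ U i ⊓ U j))) (hηc i j a)
      have e3 := congrArg (res (N a) ((f a).preimage_mono
        (inf_le_inf_right (U k) inf_le_right : U i ⊓ U j ⊓ U k ≤ U j ⊓ U k))) (hηc j k a)
      rw [res_smul, res_res, res_res] at e1 e2 e3
      change _ • res (N a) _ (ℓ a k) = (_ * _) • res (N a) _ (ℓ a k)
      rw [← e1, mul_smul, ← e3, ← e2]
  obtain ⟨L, s, hL, hgen, htr⟩ := Cocyc.main hcoc hU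
  have hs : ∀ i, IsGen L (U i) (s i) := fun i V h => hgen i V h
  refine ⟨L, hL, fun a => ?_⟩
  obtain ⟨e, -⟩ := core_iso (f a) (N a) U hU (ℓ a) (hℓ a) η (fun i j => hηc i j a) L s hs
    (fun i j => htr i j)
  exact ⟨e⟩

end Groth.Agent.Helper1.PicGlue
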