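import Mathlib
import Groth.Agent.Lib.Helper1.PicGlueC
import Groth.Agent.Lib.Helper1.PicGlueD
import Groth.Agent.Lib.Helper1.InvT1
import Groth.Agent.Lib.Helper1.QcsLoc

/-!
# Gluing invertible modules along a finite closed cover of a reduced scheme with discrete
overlaps (helper1, PicGlueE)
-/
set_option autoImplicit false
universe u
open CategoryTheory CategoryTheory.Limits AlgebraicGeometry TopologicalSpace Opposite

namespace Groth.Agent.Helper1.PicGlue

open Groth.Agent.Helper1.QcCech Groth.Agent.Helper1.LGen Groth.Agent.Helper1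
open Groth.Agent.Helper1.PullSec Groth.Agent.Helper1.TwForm

theorem resR_injective_of_eq {X : Scheme.{u}} {O O' : X.Opens} (h : O' = O) :
    Function.Injective (resR (le_of_eq h) : Γ(X, O) →+* Γ(X, O')) := by
  subst h
  intro x y hxy
  have e : ∀ t : Γ(X, O'), resR (le_refl O') t = t := fun t =>
    QcCech.res_self (Coh.structureModule X) (le_refl O') t
  rwa [e, e] at hxy

/-- any section over an empty open is a free generator -/
theorem isGen_of_eq_bot {X : Scheme.{u}} (N : X.Modules) {W : X.Opens} (hW : W = ⊥)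
    (a : Γ(N, W)) : IsGen N W a := by
  intro V hV
  have hVb : V = ⊥ := by
    rw [eq_bot_iff, ← hW]; exact hV
  subst hVb
  haveI : Subsingleton Γ(N, (⊥ : X.Opens)) := QcsLoc.subsingleton_bot N
  constructor
  · intro r r' _
    exact Subsingleton.elim _ _
  · intro t
    exact ⟨0, Subsingleton.elim _ _⟩

theorem mem_finset_inf {X : Scheme.{u}} {κ : Type*} (s : Finset κ) (Ω : κ → X.Opens) (y : X)
    (h : ∀ k ∈ s, y ∈ Ω k) : y ∈ s.inf Ω := by
  classical
  induction s using Finset.induction_on with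
  | empty => simp
  | insert k s hk ih =>
    rw [Finset.inf_insert]
    exact ⟨h k (Finset.mem_insert_self k s), ih fun k' hk' => h k' (Finset.mem_insert_of_mem hk')⟩

section J

variable {X : Scheme.{u}} [IsReduced X] {n : ℕ} (Z : Fin n → X.IdealSheafData)

/-- over an open where the closed subschemes `Z a` are pairwise disjoint, functions on a reduced
scheme are the same as families of functions on the `Z a` -/
theorem joint_bijective (hcov : ⋃ i, ((Z i).support : Set X) = Set.univ) (O : X.Opens)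
    (hO : ∀ a b, a ≠ b → ∀ z ∈ O, z ∈ ((Z a).support : Set X) → z ∉ ((Z b).support : Set X)) :
    Function.Bijective (fun r : Γ(X, O) => (fun a => ((Z a).subschemeι.app O).hom r :
      ∀ a, Γ((Z a).subscheme, (Z a).subschemeι ⁻¹ᵁ O))) := by
  classical
  constructor
  · intro r r' h
    have h' : ∀ a, ((Z a).subschemeι.app O).hom (r - r') = 0 := fun a => by
      rw [map_sub, sub_eq_zero]; exact congrFun h a
    have hb : X.basicOpen (r - r') = ⊥ := by
      rw [eq_bot_iff]
      intro x hx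
      have hxS : x ∈ ⋃ i, ((Z i).support : Set X) := by rw [hcov]; trivial
      obtain ⟨a, ha⟩ := Set.mem_iUnion.1 hxS
      rw [← (Z a).range_subschemeι] at ha
      obtain ⟨z, rfl⟩ := ha
      have hz : z ∈ (Z a).subschemeι ⁻¹ᵁ X.basicOpen (r - r') := hx
      rw [Scheme.preimage_basicOpen] at hz
      have h0 : (Z a).subschemeι.app O (r - r') = 0 := h' a
      rw [h0, Scheme.basicOpen_zero] at hz
      exact hz
    exact sub_eq_zero.1 ((basicOpen_eq_bot_iff _).1 hb)
  · intro c
    have hcl : ∀ a : Fin n, IsClosed (⋃ b : {b : Fin n // b ≠ a}, ((Z b.1).support : Set X)) :=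
      fun a => isClosed_iUnion_of_finite fun b => (Z b.1).support.isClosed
    let Oa : Fin n → X.Opens := fun a =>
      O ⊓ ⟨(⋃ b : {b : Fin n // b ≠ a}, ((Z b.1).support : Set X))ᶜ, (hcl a).isOpen_compl⟩
    have hOaO : ∀ a, Oa a ≤ O := fun a => inf_le_left
    have F0 : ∀ a x, x ∈ Oa a → ∀ b, b ≠ a → x ∉ ((Z b).support : Set X) := by
      intro a x hx b hb hxb
      exact hx.2 (Set.mem_iUnion.2 ⟨⟨b, hb⟩, hxb⟩)
    have F1 : ∀ a x, x ∈ Oa a → x ∈ ((Z a).support : Set X) := by
      intro a x hx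
      have hxS : x ∈ ⋃ i, ((Z i).support : Set X) := by rw [hcov]; trivial
      obtain ⟨b, hb⟩ := Set.mem_iUnion.1 hxS
      by_cases hba : b = a
      · rw [← hba]; exact hb
      · exact absurd hb (F0 a x hx b hba)
    have F2 : ∀ a x, x ∈ O → x ∈ ((Z a).support : Set X) → x ∈ Oa a := by
      intro a x hxO hxa
      refine ⟨hxO, ?_⟩
      intro hmem
      obtain ⟨b, hb⟩ := Set.mem_iUnion.1 hmem
      exact hO a b.1 (fun h => b.2 h.symm) x hxO hxa hb
    have F3 : ∀ a b, a ≠ b → Oa a ⊓ Oa b = ⊥ := by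
      intro a b hab
      rw [eq_bot_iff]
      intro x hx
      exact F0 b x hx.2 a hab (F1 a x hx.1)
    have F4 : O ≤ ⨆ a, Oa a := by
      intro x hx
      have hxS : x ∈ ⋃ i, ((Z i).support : Set X) := by rw [hcov]; trivial
      obtain ⟨a, ha⟩ := Set.mem_iUnion.1 hxS
      exact Opens.mem_iSup.2 ⟨a, F2 a x hx ha⟩
    have F5 : ∀ a, (Z a).subschemeι ⁻¹ᵁ Oa a = (Z a).subschemeι ⁻¹ᵁ O := by
      intro a
      apply le_antisymm ((Z a).subschemeι.preimage_mono (hOaO a))
      intro z hz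
      have hzr : (Z a).subschemeι z ∈ Set.range (Z a).subschemeι := ⟨z, rfl⟩
      rw [(Z a).range_subschemeι] at hzr
      exact F2 a _ hz hzr
    have hiso : ∀ a, IsIso ((Z a).subschemeι ∣_ Oa a) := by
      intro a
      haveI : Surjective ((Z a).subschemeι ∣_ Oa a) := ⟨by
        intro w
        have hw : w.1 ∈ ((Z a).support : Set X) := F1 a w.1 w.2
        rw [← (Z a).range_subschemeι] at hw
        obtain ⟨z, hz⟩ := hw
        have hzO : z ∈ (Z a).subschemeι ⁻¹ᵁ Oa a := by
          change (Z a).subschemeι z ∈ Oa a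
          rw [hz]; exact w.2
        refine ⟨⟨z, hzO⟩, ?_⟩
        apply Subtype.ext
        rw [morphismRestrict_base_coe]
        exact hz⟩
      exact isIso_of_isClosedImmersion_of_surjective _
    have hb : ∀ a, Function.Bijective ((Z a).subschemeι.app (Oa a)).hom := fun a =>
      haveI := hiso a
      bijective_app_of_isIso_restrict (Z a).subschemeι (Oa a) (Oa a) le_rfl
    have hr : ∀ a, ∃ ra : Γ(X, Oa a), ((Z a).subschemeι.app (Oa a)).hom ra =
        resR ((Z a).subschemeι.preimage_mono (hOaO a)) (c a) := fun a => (hb a).2 _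
    choose ra hra using hr
    obtain ⟨r, hrr⟩ := InvT.glueR_of_compatible Oa O hOaO F4 ra (by
      intro a b
      by_cases hab : a = b
      · subst hab; rfl
      · haveI : Subsingleton Γ(X, Oa a ⊓ Oa b) := by
          rw [F3 a b hab]; infer_instance
        exact Subsingleton.elim _ _)
    refine ⟨r, ?_⟩
    funext a
    change ((Z a).subschemeι.app O).hom r = c a
    apply resR_injective_of_eq (F5 a)
    have e1 := app_resR (Z a).subschemeι (hOaO a) r
    rw [hrr a, hra a] at e1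
    exact e1.symm

end J

/-- **S7670** -/
theorem main_S7670 (X : Scheme.{u}) [IsReduced X]
    (n : ℕ) (Z : Fin n → X.IdealSheafData)
    (hcov : ⋃ i, ((Z i).support : Set X) = Set.univ)
    (hdisc : ∀ i j, i ≠ j →
      DiscreteTopology ↥(((Z i).support : Set X) ∩ ((Z j).support : Set X)))
    (L : ∀ i, (Z i).subscheme.Modules) (hL : ∀ i, PicF.IsInvertible (L i)) :
    ∃ M : X.Modules, PicF.IsInvertible M ∧
      ∀ i, Nonempty ((Scheme.Modules.pullback (Z i).subschemeι).obj M ≅ L i) := by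
  classical
  let P := {p : Fin n × Fin n // p.1 ≠ p.2}
  let D : P → Set X := fun p => ((Z p.1.1).support : Set X) ∩ ((Z p.1.2).support : Set X)
  have hD : ∀ p, IsClosed (D p) := fun p =>
    (Z p.1.1).support.isClosed.inter (Z p.1.2).support.isClosed
  have hT : IsClosed (⋃ p, D p) := isClosed_iUnion_of_finite hD
  let V : X.Opens := ⟨(⋃ p, D p)ᶜ, hT.isOpen_compl⟩
  -- local step
  have hloc : ∀ y : X, ∃ (U : X.Opens) (ℓ : ∀ a, Γ(L a, (Z a).subschemeι ⁻¹ᵁ U)), y ∈ U ∧
      (∀ a, IsGen (L a) ((Z a).subschemeι ⁻¹ᵁ U) (ℓ a)) ∧ (∀ z ∈ U, z ∈ ⋃ p, D p → z = y) := by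
    intro y
    have h1 : ∀ a, ∃ (Ω : X.Opens) (ℓ : Γ(L a, (Z a).subschemeι ⁻¹ᵁ Ω)), y ∈ Ω ∧
        IsGen (L a) ((Z a).subschemeι ⁻¹ᵁ Ω) ℓ := by
      intro a
      by_cases hya : y ∈ ((Z a).support : Set X)
      · have hya' := hya
        rw [← (Z a).range_subschemeι] at hya'
        obtain ⟨z, hz⟩ := hya'
        obtain ⟨W', g, hzW', hg⟩ := exists_isGen (hL a) z
        obtain ⟨t, ht, hts⟩ := (Z a).subschemeι.isEmbedding.isInducing.isOpen_iff.1 W'.isOpen
        have hle : (Z a).subschemeι ⁻¹ᵁ (⟨t, ht⟩ : X.Opens) ≤ W' := by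
          intro w hw
          have : w ∈ (Z a).subschemeι ⁻¹' t := hw
          rw [hts] at this
          exact this
        refine ⟨⟨t, ht⟩, res (L a) hle g, ?_, hg.res hle⟩
        have : z ∈ (Z a).subschemeι ⁻¹' t := by rw [hts]; exact hzW'
        change y ∈ t
        rw [← hz]
        exact this
      · refine ⟨⟨((Z a).support : Set X)ᶜ, (Z a).support.isClosed.isOpen_compl⟩, 0, hya, ?_⟩
        apply isGen_of_eq_bot
        rw [eq_bot_iff]
        intro w hw
        have hwr : (Z a).subschemeι w ∈ Set.range (Z a).subschemeι := ⟨w, rfl⟩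
        rw [(Z a).range_subschemeι] at hwr
        exact hw hwr
    have h2 : ∀ p : P, ∃ Ω : X.Opens, y ∈ Ω ∧ ∀ z ∈ Ω, z ∈ D p → z = y := by
      intro p
      by_cases hyp : y ∈ D p
      · haveI := hdisc p.1.1 p.1.2 p.2
        obtain ⟨t, ht, hts⟩ := isOpen_induced_iff.1
          (isOpen_discrete ({⟨y, hyp⟩} : Set ↥(D p)))
        refine ⟨⟨t, ht⟩, ?_, ?_⟩
        · have : (⟨y, hyp⟩ : ↥(D p)) ∈ Subtype.val ⁻¹' t := by rw [hts]; rfl
          exact this
        · intro z hzt hzD
          have hz : (⟨z, hzD⟩ : ↥(D p)) ∈ Subtype.val ⁻¹' t := hzt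
          rw [hts] at hz
          exact congrArg Subtype.val hz
      · exact ⟨⟨(D p)ᶜ, (hD p).isOpen_compl⟩, hyp, fun z hz hzD => absurd hzD hz⟩
    choose Ω₁ ℓ₁ hy₁ hℓ₁ using h1
    choose Ω₂ hy₂ hΩ₂ using h2
    let U : X.Opens := (Finset.univ.inf Ω₁) ⊓ (Finset.univ.inf Ω₂)
    have hU₁ : ∀ a, U ≤ Ω₁ a := fun a => inf_le_left.trans (Finset.inf_le (Finset.mem_univ a))
    have hU₂ : ∀ p, U ≤ Ω₂ p := fun p => inf_le_right.trans (Finset.inf_le (Finset.mem_univ p))
    refine ⟨U, fun a => res (L a) ((Z a).subschemeι.preimage_mono (hU₁ a)) (ℓ₁ a),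
      ⟨mem_finset_inf _ _ _ fun a _ => hy₁ a, mem_finset_inf _ _ _ fun p _ => hy₂ p⟩,
      fun a => (hℓ₁ a).res _, ?_⟩
    intro z hzU hzT
    obtain ⟨p, hp⟩ := Set.mem_iUnion.1 hzT
    exact hΩ₂ p z (hU₂ p hzU) hp
  choose U ℓ hyU hℓ hUT using hloc
  have hU : iSup U = ⊤ := by
    apply top_le_iff.1
    intro y _
    exact Opens.mem_iSup.2 ⟨y, hyU y⟩
  have hUV : ∀ i j : X, i ≠ j → U i ⊓ U j ≤ V := by
    intro i j hij z hz hzT
    exact hij ((hUT i z hz.1 hzT).symm.trans (hUT j z hz.2 hzT))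
  have hbij : ∀ O : X.Opens, O ≤ V → Function.Bijective
      (fun r : Γ(X, O) => (fun a => ((Z a).subschemeι.app O).hom r :
        ∀ a, Γ((Z a).subscheme, (Z a).subschemeι ⁻¹ᵁ O))) := by
    intro O hOV
    apply joint_bijective Z hcov O
    intro a b hab z hzO hza hzb
    exact hOV hzO (Set.mem_iUnion.2 ⟨⟨(a, b), hab⟩, hza, hzb⟩)
  exact descendFam (fun a => (Z a).subscheme) (fun a => (Z a).subschemeι) L V hbij U hU hUV
    (fun a i => ℓ i a) (fun a i => hℓ i a)

end Groth.Agent.Helper1.PicGlue
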