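import Mathlib
import Groth.Agent.Lib.Helper1.PicGlueE
import Groth.Agent.Lib.Helper1.PicGlueG
import Groth.Agent.Lib.Helper1.GV1

/-!
# Noetherian spaces of dimension at most one: dense trivialisations and punctured
neighbourhoods (helper1, PicGlueI)
-/
set_option autoImplicit false
universe u
open CategoryTheory CategoryTheory.Limits AlgebraicGeometry TopologicalSpace Opposite

namespace Groth.Agent.Helper1.PicGlue

open Groth.Agent.Helper1.QcCech Groth.Agent.Helper1.LGen Groth.Agent.Helper1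
open Groth.Agent.Helper1.PullSec Groth.Agent.Helper1.TwForm

/-- **dense trivialisation**: on a scheme whose space is Noetherian of dimension at most one, an
invertible module is trivial off a finite set of closed points -/
theorem exists_dense_trivialization {Z : Scheme.{u}} [NoetherianSpace Z]
    (hdim : topologicalKrullDim Z ≤ 1) (L : Z.Modules) (hL : PicF.IsInvertible L) :
    ∃ (D : Z.Opens) (ℓ : Γ(L, D)), IsGen L D ℓ ∧ ((D : Set Z)ᶜ).Finite ∧
      ∀ z : Z, z ∉ D → IsClosed ({z} : Set Z) := by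
  classical
  have hfin : (irreducibleComponents Z).Finite := NoetherianSpace.finite_irreducibleComponents
  have h : ∀ C : irreducibleComponents Z, ∃ (η : Z) (W : Z.Opens) (a : Γ(L, W)),
      IsGenericPoint η C.1 ∧ η ∈ W ∧ IsGen L W a := by
    intro C
    obtain ⟨η, hη⟩ := QuasiSober.sober C.2.1 (isClosed_of_mem_irreducibleComponents C.1 C.2)
    obtain ⟨W, a, hηW, ha⟩ := exists_isGen hL η
    exact ⟨η, W, a, hη, hηW, ha⟩
  choose η W a hη hηW ha using h
  have hcl : ∀ C : irreducibleComponents Z,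
      IsClosed (⋃₀ (irreducibleComponents Z \ {C.1})) := by
    intro C
    rw [Set.sUnion_eq_biUnion]
    exact (hfin.subset Set.sdiff_subset).isClosed_biUnion fun T hT =>
      isClosed_of_mem_irreducibleComponents T hT.1
  let Wo : irreducibleComponents Z → Z.Opens := fun C =>
    W C ⊓ ⟨(⋃₀ (irreducibleComponents Z \ {C.1}))ᶜ, (hcl C).isOpen_compl⟩
  have hWo_mem : ∀ (C : irreducibleComponents Z) (x : Z), x ∈ Wo C →
      ∀ C' : irreducibleComponents Z, x ∈ C'.1 → C' = C := by
    intro C x hx C' hxC'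
    by_contra hne
    apply hx.2
    exact Set.mem_sUnion.2 ⟨C'.1, ⟨C'.2, fun h => hne (Subtype.ext h)⟩, hxC'⟩
  have hdisj : ∀ C C' : irreducibleComponents Z, C ≠ C' → Wo C ⊓ Wo C' = ⊥ := by
    intro C C' hne
    rw [eq_bot_iff]
    intro x hx
    let C'' : irreducibleComponents Z :=
      ⟨irreducibleComponent x, irreducibleComponent_mem_irreducibleComponents x⟩
    have h1 := hWo_mem C x hx.1 C'' mem_irreducibleComponent
    have h2 := hWo_mem C' x hx.2 C'' mem_irreducibleComponent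
    exact hne (h1.symm.trans h2)
  have hηWo : ∀ C : irreducibleComponents Z, η C ∈ Wo C := by
    intro C
    refine ⟨hηW C, ?_⟩
    rintro ⟨T, ⟨hT, hTC⟩, hηT⟩
    apply hTC
    have hsub : C.1 ⊆ T := by
      rw [← (hη C).def]
      exact closure_minimal (Set.singleton_subset_iff.2 hηT)
        (isClosed_of_mem_irreducibleComponents T hT)
    exact (le_antisymm hsub (C.2.2 hT.1 hsub)).symm
  obtain ⟨ℓ, hℓ⟩ := TwistSec.glue_of_compatible L Wo (⨆ C, Wo C) (fun C => le_iSup Wo C) le_rfl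
    (fun C => res L (inf_le_left : Wo C ≤ W C) (a C)) (by
      intro C C'
      by_cases hCC : C = C'
      · subst hCC; rfl
      · haveI : Subsingleton Γ(L, Wo C ⊓ Wo C') := by
          rw [hdisj C C' hCC]; exact QcsLoc.subsingleton_bot L
        exact Subsingleton.elim _ _)
  have hgen : IsGen L (⨆ C, Wo C) ℓ := by
    apply LGenLoc.isGen_of_locally
    intro y hy
    obtain ⟨C, hyC⟩ := Opens.mem_iSup.1 hy
    refine ⟨Wo C, le_iSup Wo C, hyC, ?_⟩
    rw [hℓ C]
    exact (ha C).res _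
  have hclosed : ∀ z : Z, z ∉ (⨆ C, Wo C : Z.Opens) → IsClosed ({z} : Set Z) := by
    intro z hz
    let C : irreducibleComponents Z :=
      ⟨irreducibleComponent z, irreducibleComponent_mem_irreducibleComponents z⟩
    have hne : z ≠ η C := by
      intro h
      apply hz
      rw [h]
      exact Opens.mem_iSup.2 ⟨C, hηWo C⟩
    exact GV1.isClosed_singleton_of_dim_le_one hdim z (η C) C.1
      (isClosed_of_mem_irreducibleComponents C.1 C.2) (hη C) mem_irreducibleComponent hne
  refine ⟨⨆ C, Wo C, ℓ, hgen, ?_, hclosed⟩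
  exact GV1.finite_of_forall_isClosed_singleton _ (⨆ C, Wo C : Z.Opens).isOpen.isClosed_compl
    (fun z hz => hclosed z hz)

section Punct

variable {X : Scheme.{u}} [NoetherianSpace X]

/-- proper generisations of a closed point are generic points of irreducible components -/
theorem closure_mem_irreducibleComponents (hdim : topologicalKrullDim X ≤ 1) (x z : X)
    (hzx : z ⤳ x) (hne : z ≠ x) : closure ({z} : Set X) ∈ irreducibleComponents X := by
  have hC := irreducibleComponent_mem_irreducibleComponents z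
  obtain ⟨η, hη⟩ := QuasiSober.sober hC.1 isClosed_irreducibleComponent
  by_cases hzη : z = η
  · rw [hzη, hη.def]
    exact hC
  · exfalso
    have hcl := GV1.isClosed_singleton_of_dim_le_one hdim z η _ isClosed_irreducibleComponent hη
      mem_irreducibleComponent hzη
    have hx : x ∈ closure ({z} : Set X) := specializes_iff_mem_closure.1 hzx
    rw [hcl.closure_eq] at hx
    exact hne hx.symm

theorem finite_generizations (hdim : topologicalKrullDim X ≤ 1) (x : X) :
    {z : X | z ⤳ x ∧ z ≠ x}.Finite := by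
  have hfin : (irreducibleComponents X).Finite := NoetherianSpace.finite_irreducibleComponents
  apply Set.Finite.of_finite_image (f := fun z : X => closure ({z} : Set X)) (hfin.subset ?_) ?_
  · rintro _ ⟨z, ⟨hzx, hne⟩, rfl⟩
    exact closure_mem_irreducibleComponents hdim x z hzx hne
  · intro z _ z' _ h
    exact (inseparable_iff_closure_eq.2 h).eq

theorem eq_of_specializes_of_generizations (hdim : topologicalKrullDim X ≤ 1) (x z z' : X)
    (hz : z ⤳ x ∧ z ≠ x) (hz' : z' ⤳ x ∧ z' ≠ x) (h : z ⤳ z') : z = z' := by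
  have h1 := closure_mem_irreducibleComponents hdim x z hz.1 hz.2
  have h2 := closure_mem_irreducibleComponents hdim x z' hz'.1 hz'.2
  have hsub : closure ({z'} : Set X) ⊆ closure ({z} : Set X) :=
    closure_minimal (Set.singleton_subset_iff.2 (specializes_iff_mem_closure.1 h))
      isClosed_closure
  have heq : closure ({z} : Set X) = closure ({z'} : Set X) :=
    le_antisymm (h2.2 h1.1 hsub) hsub
  exact (inseparable_iff_closure_eq.2 heq).eq

/-- **punctured neighbourhoods are principal**: a closed point of a scheme whose space is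
Noetherian of dimension at most one has an affine neighbourhood `W` and a function `f` on `W`
vanishing exactly at the point -/
theorem exists_punctured_cut (hdim : topologicalKrullDim X ≤ 1) (x : X)
    (hx : IsClosed ({x} : Set X)) (Ω : X.Opens) (hxΩ : x ∈ Ω) :
    ∃ (W : X.Opens) (f : Γ(X, W)), IsAffineOpen W ∧ W ≤ Ω ∧ x ∈ W ∧
      ∀ z ∈ W, z ∈ X.basicOpen f ↔ z ≠ x := by
  classical
  obtain ⟨W₀, hW₀, hxW₀, hW₀Ω⟩ := Opens.isBasis_iff_nbhd.1 X.isBasis_affineOpens hxΩ
  have hGfin := finite_generizations hdim x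
  have hGW : ∀ z : X, z ⤳ x ∧ z ≠ x → z ∈ W₀ := fun z hz => hz.1.mem_open W₀.isOpen hxW₀
  let fI : X → Ideal Γ(X, W₀) := fun z => if h : z ∈ W₀ then pt W₀ z h else ⊤
  have hfI : ∀ z (h : z ∈ W₀), fI z = pt W₀ z h := fun z h => dif_pos h
  -- prime avoidance
  have hnot : ¬ ((pt W₀ x hxW₀ : Set Γ(X, W₀)) ⊆
      ⋃ z ∈ (↑hGfin.toFinset : Set X), (fI z : Set Γ(X, W₀))) := by
    intro hsub
    obtain ⟨z, hzG, hle⟩ := (Ideal.subset_union_prime (s := hGfin.toFinset) (f := fI) x x
      (fun z hz _ _ => by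
        rw [hfI z (hGW z ((hGfin.mem_toFinset).1 hz))]
        infer_instance)).1 hsub
    have hz := (hGfin.mem_toFinset).1 hzG
    have hzW₀ := hGW z hz
    rw [hfI z hzW₀] at hle
    have hzO : z ∈ W₀ ⊓ (⟨({x} : Set X)ᶜ, hx.isOpen_compl⟩ : X.Opens) := ⟨hzW₀, hz.2⟩
    obtain ⟨g, hgO, hzg⟩ := hW₀.exists_basicOpen_le
      (V := W₀ ⊓ (⟨({x} : Set X)ᶜ, hx.isOpen_compl⟩ : X.Opens)) ⟨z, hzO⟩ hzW₀
    have hgx : g ∈ pt W₀ x hxW₀ := (mem_pt_iff W₀ x hxW₀ g).2 fun hxg => (hgO hxg).2 rfl
    exact (mem_pt_iff W₀ z hzW₀ g).1 (hle hgx) hzg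
  obtain ⟨f₀, hf₀x, hf₀⟩ := Set.not_subset.1 hnot
  have hf₀G : ∀ z : X, z ⤳ x ∧ z ≠ x → z ∈ X.basicOpen f₀ := by
    intro z hz
    by_contra hzf
    apply hf₀
    refine Set.mem_biUnion (show z ∈ (↑hGfin.toFinset : Set X) from (hGfin.mem_toFinset).2 hz) ?_
    rw [hfI z (hGW z hz)]
    exact (mem_pt_iff W₀ z (hGW z hz) f₀).2 hzf
  have hxf₀ : x ∉ X.basicOpen f₀ := (mem_pt_iff W₀ x hxW₀ f₀).1 hf₀x
  -- decomposition of the zero locus
  obtain ⟨S, hSirr, hSeq⟩ := NoetherianSpace.exists_finset_irreducible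
    (⟨((X.basicOpen f₀ : Set X))ᶜ, (X.basicOpen f₀).isOpen.isClosed_compl⟩ : Closeds X)
  have hKeq : ((X.basicOpen f₀ : Set X))ᶜ = ⋃ T ∈ S, (T : Set X) := by
    have := congrArg (fun c : Closeds X => (c : Set X)) hSeq
    simp only [Closeds.coe_mk] at this
    rw [this, Closeds.coe_finset_sup, Finset.sup_set_eq_biUnion]
    rfl
  have hM'' : IsClosed (⋃ T ∈ S.filter (fun T : Closeds X => x ∉ T), (T : Set X)) :=
    (S.filter (fun T : Closeds X => x ∉ T)).finite_toSet.isClosed_biUnion fun T _ => T.isClosed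
  have hxM'' : x ∉ ⋃ T ∈ S.filter (fun T : Closeds X => x ∉ T), (T : Set X) := by
    intro hmem
    obtain ⟨T, hT, hxT⟩ := Set.mem_iUnion₂.1 hmem
    exact (Finset.mem_filter.1 hT).2 hxT
  have hK : ∀ z : X, z ∉ X.basicOpen f₀ →
      z ∈ (⋃ T ∈ S.filter (fun T : Closeds X => x ∉ T), (T : Set X)) ∨ z = x := by
    intro z hz
    have hzK : z ∈ ((X.basicOpen f₀ : Set X))ᶜ := hz
    rw [hKeq] at hzK
    obtain ⟨T, hTS, hzT⟩ := Set.mem_iUnion₂.1 hzK
    by_cases hxT : x ∈ T
    · right
      obtain ⟨μ, hμ⟩ := QuasiSober.sober (hSirr ⟨T, hTS⟩) T.isClosed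
      have hμx : μ ⤳ x := by
        rw [specializes_iff_mem_closure, hμ.def]; exact hxT
      have hμK : μ ∉ X.basicOpen f₀ := by
        have : μ ∈ ((X.basicOpen f₀ : Set X))ᶜ := by
          rw [hKeq]; exact Set.mem_biUnion hTS hμ.mem
        exact this
      have hμeq : μ = x := by
        by_contra hne
        exact hμK (hf₀G μ ⟨hμx, hne⟩)
      have hT : (T : Set X) = {x} := by rw [← hμ.def, hμeq, hx.closure_eq]
      have : z ∈ ({x} : Set X) := hT ▸ hzT
      exact this
    · left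
      exact Set.mem_biUnion (Finset.mem_filter.2 ⟨hTS, hxT⟩) hzT
  have hxO₂ : x ∈ W₀ ⊓ (⟨(⋃ T ∈ S.filter (fun T : Closeds X => x ∉ T), (T : Set X))ᶜ,
      hM''.isOpen_compl⟩ : X.Opens) := ⟨hxW₀, hxM''⟩
  obtain ⟨a, haO, hxa⟩ := hW₀.exists_basicOpen_le
    (V := W₀ ⊓ (⟨(⋃ T ∈ S.filter (fun T : Closeds X => x ∉ T), (T : Set X))ᶜ,
      hM''.isOpen_compl⟩ : X.Opens)) ⟨x, hxO₂⟩ hxW₀
  refine ⟨X.basicOpen a, resR (X.basicOpen_le a) f₀, hW₀.basicOpen a,
    (X.basicOpen_le a).trans hW₀Ω, hxa, ?_⟩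
  intro z hza
  rw [mem_basicOpen_resR (X.basicOpen_le a) f₀ z hza]
  constructor
  · intro hzf hzx
    rw [hzx] at hzf
    exact hxf₀ hzf
  · intro hzx
    by_contra hzf
    rcases hK z hzf with h | h
    · exact (haO hza).2 h
    · exact hzx h

end Punct

end Groth.Agent.Helper1.PicGlue
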