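import Mathlib
import Groth.Agent.Lib.Helper1.CurveGlueA
import Groth.Agent.Lib.Helper1.CurveGlueB
import Groth.Agent.Lib.Helper1.CurveGlueC
import Groth.Agent.Lib.Helper1.CurveGlueD
import Groth.Agent.Lib.Helper1.FinCurve1
import Groth.Agent.Lib.Helper1.PicGlueI
import Groth.Agent.Lib.Helper4.Glue
import Groth.Agent.Lib.Helper4.BirationalNormal1
import Groth.Agent.Lib.Helper6.GenPt

/-!
# Noetherian separated schemes of dimension at most one: every point lies in an affine open which
is the generating locus of a section of a globally generated invertible module (helper1, CurveGlueE)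
-/
set_option autoImplicit false
universe u
open CategoryTheory CategoryTheory.Limits AlgebraicGeometry TopologicalSpace Opposite

namespace Groth.Agent.Helper1.CurveGlue

open Groth.Agent.Helper1.QcCech Groth.Agent.Helper1.LGen Groth.Agent.Helper1.PicGlue
open Groth.Agent.Helper1

variable {X : Scheme.{u}}

/-! ### topological preliminaries -/

theorem finite_genSet (X : Scheme.{u}) [NoetherianSpace X] :
    {η : X | closure ({η} : Set X) ∈ irreducibleComponents X}.Finite := by
  have hfin : (irreducibleComponents X).Finite := NoetherianSpace.finite_irreducibleComponents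
  apply Set.Finite.of_finite_image (f := fun z : X => closure ({z} : Set X)) (hfin.subset ?_) ?_
  · rintro _ ⟨z, hz, rfl⟩
    exact hz
  · intro z _ z' _ h
    exact (inseparable_iff_closure_eq.2 h).eq

theorem dense_of_generic {U : X.Opens}
    (hGU : ∀ η : X, closure ({η} : Set X) ∈ irreducibleComponents X → η ∈ U) :
    Dense (U : Set X) := by
  rw [dense_iff_inter_open]
  rintro O hO ⟨z, hz⟩
  have hC := irreducibleComponent_mem_irreducibleComponents z
  obtain ⟨η, hη⟩ := QuasiSober.sober hC.1 isClosed_irreducibleComponent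
  have hηz : η ⤳ z := by
    rw [specializes_iff_mem_closure, hη.def]
    exact mem_irreducibleComponent
  refine ⟨η, hηz.mem_open hO hz, hGU η ?_⟩
  rw [hη.def]
  exact hC

theorem closure_mem_irreducibleComponents_of_forall {T : Type*} [TopologicalSpace T]
    [QuasiSober T] {z : T} (h : ∀ ξ : T, ξ ⤳ z → ξ = z) :
    closure ({z} : Set T) ∈ irreducibleComponents T := by
  refine ⟨isIrreducible_singleton.closure, fun S hS hle => ?_⟩
  obtain ⟨ξ, hξ⟩ := QuasiSober.sober hS.closure isClosed_closure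
  have hzS : z ∈ closure S := subset_closure (hle (subset_closure (Set.mem_singleton z)))
  have hξz : ξ ⤳ z := by
    rw [specializes_iff_mem_closure, hξ.def]
    exact hzS
  have hξeq := h ξ hξz
  subst hξeq
  intro y hy
  rw [hξ.def]
  exact subset_closure hy

theorem closure_fromSpec_mem_irreducibleComponents {W : X.Opens} (hW : IsAffineOpen W)
    (q : PrimeSpectrum Γ(X, W)) (hq : q.asIdeal ∈ minimalPrimes Γ(X, W)) :
    closure ({hW.fromSpec q} : Set X) ∈ irreducibleComponents X := by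
  apply closure_mem_irreducibleComponents_of_forall
  intro ξ hξ
  have hξW : ξ ∈ W := hξ.mem_open W.isOpen (fromSpec_mem hW q)
  obtain ⟨q', hq'⟩ : ∃ q' : PrimeSpectrum Γ(X, W), hW.fromSpec q' = ξ :=
    ⟨hW.primeIdealOf ⟨ξ, hξW⟩, hW.fromSpec_primeIdealOf ⟨ξ, hξW⟩⟩
  subst hq'
  have h2 : q' ⤳ q := hW.fromSpec.isOpenEmbedding.isInducing.specializes_iff.1 hξ
  have h3 : q'.asIdeal ≤ q.asIdeal := (PrimeSpectrum.le_iff_specializes q' q).2 h2
  have h4 : q.asIdeal ≤ q'.asIdeal := hq.2 ⟨q'.2, bot_le⟩ h3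
  rw [PrimeSpectrum.ext (le_antisymm h3 h4)]

theorem exists_uniform {α : Type*} (S : Finset α) (P : α → ℕ → Prop)
    (h : ∀ a ∈ S, ∃ n, ∀ m, n ≤ m → P a m) : ∃ N, ∀ a ∈ S, P a N := by
  classical
  suffices H : ∃ N, ∀ m, N ≤ m → ∀ a ∈ S, P a m by
    obtain ⟨N, hN⟩ := H
    exact ⟨N, hN N le_rfl⟩
  induction S using Finset.induction_on with
  | empty => exact ⟨0, fun m _ a ha => absurd ha (Finset.notMem_empty a)⟩
  | insert a S ha ih =>
    obtain ⟨N₁, h₁⟩ := ih (fun b hb => h b (Finset.mem_insert_of_mem hb))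
    obtain ⟨n, hn⟩ := h a (Finset.mem_insert_self a S)
    refine ⟨max N₁ n, fun m hm b hb => ?_⟩
    rcases Finset.mem_insert.1 hb with rfl | hb
    · exact hn m ((le_max_right _ _).trans hm)
    · exact h₁ m ((le_max_left _ _).trans hm) b hb

theorem exists_common_nhd {ι : Type*} (S : Finset ι) (x : X) (β : ι → X.presheaf.stalk x) :
    ∃ (Ω : X.Opens) (hx : x ∈ Ω), ∀ i ∈ S, ∃ b : Γ(X, Ω),
      (X.presheaf.germ Ω x hx).hom b = β i := by
  classical
  induction S using Finset.induction_on with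
  | empty => exact ⟨⊤, trivial, fun i hi => absurd hi (Finset.notMem_empty i)⟩
  | insert a S ha ih =>
    obtain ⟨Ω, hx, hΩ⟩ := ih
    obtain ⟨V, hxV, b', hb'⟩ := X.presheaf.exists_germ_eq (β a)
    refine ⟨Ω ⊓ V, ⟨hx, hxV⟩, fun i hi => ?_⟩
    rcases Finset.mem_insert.1 hi with rfl | hi
    · exact ⟨resR inf_le_right b', (germ_resR _ _ _ _).trans hb'⟩
    · obtain ⟨b, hb⟩ := hΩ i hi
      exact ⟨resR inf_le_left b, (germ_resR _ _ _ _).trans hb⟩

/-! ### a dense affine neighbourhood -/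

theorem exists_affine_dense [IsNoetherian X] (x : X) :
    ∃ U : X.Opens, IsAffineOpen U ∧ x ∈ U ∧
      ∀ η : X, closure ({η} : Set X) ∈ irreducibleComponents X → η ∈ U := by
  classical
  have hfinG := finite_genSet X
  suffices H : ∀ S : Finset X, (∀ η ∈ S, closure ({η} : Set X) ∈ irreducibleComponents X) →
      ∃ U : X.Opens, IsAffineOpen U ∧ x ∈ U ∧ ∀ η ∈ S, η ∈ U by
    obtain ⟨U, hU, hxU, hS⟩ := H hfinG.toFinset (fun η hη => hfinG.mem_toFinset.1 hη)
    exact ⟨U, hU, hxU, fun η hη => hS η (hfinG.mem_toFinset.2 hη)⟩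
  intro S
  induction S using Finset.induction_on with
  | empty =>
    intro _
    obtain ⟨_, ⟨W, hW, rfl⟩, hxW, -⟩ :=
      X.isBasis_affineOpens.exists_subset_of_mem_open (Set.mem_univ x) isOpen_univ
    exact ⟨W, hW, hxW, fun η hη => absurd hη (Finset.notMem_empty η)⟩
  | insert a S ha ih =>
    intro hS
    obtain ⟨U, hU, hxU, hSU⟩ := ih (fun η hη => hS η (Finset.mem_insert_of_mem hη))
    by_cases haU : a ∈ U
    · refine ⟨U, hU, hxU, fun η hη => ?_⟩
      rcases Finset.mem_insert.1 hη with rfl | h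
      · exact haU
      · exact hSU η h
    · obtain ⟨V, hV, haV, hdisj⟩ := Groth.Agent.Helper6.GenPt.exists_affine_disjoint
        (hS a (Finset.mem_insert_self a S)) U hU.isCompact haU
      refine ⟨U ⊔ V, hU.sup_of_disjoint hV hdisj.symm, Or.inl hxU, fun η hη => ?_⟩
      rcases Finset.mem_insert.1 hη with rfl | h
      · exact Or.inr haV
      · exact Or.inl (hSU η h)

/-! ### the global function with poles at infinity -/

set_option maxHeartbeats 1600000 in
theorem exists_component_function [IsNoetherian X] [X.IsSeparated]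
    (hdim : topologicalKrullDim X ≤ 1) {U : X.Opens} (hU : IsAffineOpen U)
    (hGU : ∀ η : X, closure ({η} : Set X) ∈ irreducibleComponents X → η ∈ U)
    (η : X) (hη : closure ({η} : Set X) ∈ irreducibleComponents X) :
    ∃ F : Γ(X, U),
      (∀ (η' : X) (hη' : closure ({η'} : Set X) ∈ irreducibleComponents X), η' ≠ η →
        (X.evaluation U η' (hGU η' hη')).hom F = 0) ∧
      ∀ (x : X) (_ : x ∉ U) (h : η ⤳ x), ∃ β : X.presheaf.stalk x,
        β ∈ IsLocalRing.maximalIdeal (X.presheaf.stalk x) ∧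
          (toRes h).hom β * (X.evaluation U η (hGU η hη)).hom F = 1 := by
  classical
  have hηU : η ∈ U := hGU η hη
  have hUd : Dense (U : Set X) := dense_of_generic hGU
  have hDfin : ((U : Set X)ᶜ).Finite :=
    FinCurve.finite_of_isClosed_of_dense_compl hdim _ U.isOpen.isClosed_compl
      (by rwa [compl_compl])
  have hfinG := finite_genSet X
  obtain ⟨Dη, hDη⟩ : ∃ Dη : Finset X, Dη = hDfin.toFinset.filter (fun x => η ⤳ x) := ⟨_, rfl⟩
  have hmemD : ∀ x, x ∈ Dη ↔ x ∉ U ∧ η ⤳ x := by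
    intro x
    rw [hDη, Finset.mem_filter, hDfin.mem_toFinset]
    rfl
  have hD : ∀ x ∈ Dη, x ∉ U ∧ η ⤳ x ∧ IsNoetherianRing (X.presheaf.stalk x) ∧
      ringKrullDim (X.presheaf.stalk x) ≤ 1 := by
    intro x hx
    obtain ⟨h1, h2⟩ := (hmemD x).1 hx
    exact ⟨h1, h2, inferInstance,
      (Groth.Agent.Lib.Helper4.BirationalNormal1.ringKrullDim_stalk_le_topologicalKrullDim X
        x).trans hdim⟩
  obtain ⟨fη, hf0, hfb⟩ := exists_pole_function hU hηU Dη hD
  -- the separating function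
  obtain ⟨T, hT⟩ : ∃ T : Set X, T = ⋃ η' ∈ {η' : X | closure ({η'} : Set X) ∈
      irreducibleComponents X ∧ η' ≠ η}, closure ({η'} : Set X) := ⟨_, rfl⟩
  have hTc : IsClosed T := by
    rw [hT]
    exact (hfinG.subset (fun η' h => h.1)).isClosed_biUnion (fun _ _ => isClosed_closure)
  have hηT : η ∉ T := by
    rw [hT]
    intro hmem
    obtain ⟨η', ⟨hη'irr, hne⟩, hmem'⟩ := Set.mem_iUnion₂.1 hmem
    have hs : η' ⤳ η := specializes_iff_mem_closure.2 hmem'
    exact hne (Groth.Agent.Helper6.GenPt.eq_of_specializes hη hs)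
  obtain ⟨φ, hφO, hηφ⟩ := hU.exists_basicOpen_le
    (V := U ⊓ (⟨Tᶜ, hTc.isOpen_compl⟩ : X.Opens)) ⟨η, ⟨hηU, hηT⟩⟩ hηU
  have hφ0 : (X.evaluation U η hηU).hom φ ≠ 0 :=
    (Scheme.evaluation_ne_zero_iff_mem_basicOpen X η hηU φ).2 hηφ
  have hφ' : ∀ (η' : X) (hη' : closure ({η'} : Set X) ∈ irreducibleComponents X), η' ≠ η →
      (X.evaluation U η' (hGU η' hη')).hom φ = 0 := by
    intro η' hη' hne
    refine (Scheme.evaluation_eq_zero_iff_notMem_basicOpen X η' (hGU η' hη') φ).2 (fun hmem => ?_)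
    have h1 : η' ∈ (Tᶜ : Set X) := (hφO hmem).2
    apply h1
    rw [hT]
    exact Set.mem_iUnion₂.2 ⟨η', ⟨hη', hne⟩, subset_closure rfl⟩
  -- the exponents
  have hP : ∀ x ∈ Dη, ∃ n : ℕ, ∀ m, n ≤ m → ∀ h : η ⤳ x, ∃ β : X.presheaf.stalk x,
      β ∈ IsLocalRing.maximalIdeal (X.presheaf.stalk x) ∧
        (toRes h).hom β * (X.evaluation U η hηU).hom (φ * fη ^ m) = 1 := by
    intro x hx
    have hxU : x ∉ U := (hD x hx).1
    have h : η ⤳ x := (hD x hx).2.1
    obtain ⟨b, hbm, hb⟩ := hfb x hx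
    haveI : IsFractionRing (toRes h).hom.range (X.residueField η) := isFractionRing_toResRange h
    haveI : Ring.KrullDimLE 1 (toRes h).hom.range := by
      rw [Ring.krullDimLE_iff]
      exact (ringKrullDim_toResRange hηU hxU h (hD x hx).2.2.2).le
    have hjac : (⟨(toRes h).hom b, b, rfl⟩ : (toRes h).hom.range) ∈
        Ideal.jacobson (⊥ : Ideal (toRes h).hom.range) := by
      rw [Ideal.mem_jacobson_bot]
      rintro ⟨_, γ, rfl⟩
      have hu : IsUnit (b * γ + 1) := by
        by_contra hnu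
        have h1 : b * γ + 1 ∈ IsLocalRing.maximalIdeal (X.presheaf.stalk x) :=
          (IsLocalRing.mem_maximalIdeal _).2 hnu
        have h2 : (1 : X.presheaf.stalk x) ∈ IsLocalRing.maximalIdeal (X.presheaf.stalk x) := by
          have := Ideal.sub_mem _ h1 (Ideal.mul_mem_right γ _ hbm)
          simpa using this
        exact (Ideal.ne_top_iff_one _).1 (IsLocalRing.maximalIdeal.isMaximal _).ne_top h2
      have hu' := hu.map (toRes h).hom.rangeRestrict
      convert hu' using 1
      exact Subtype.ext (by simp)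
    obtain ⟨n, c, hc⟩ := Groth.Agent.Lib.Helper4.Glue.exists_pow_mul_mem
      (K := X.residueField η) (⟨(toRes h).hom b, b, rfl⟩ : (toRes h).hom.range) hjac
      ((X.evaluation U η hηU).hom φ)⁻¹
    obtain ⟨_, γ, rfl⟩ := c
    have hc' : ((X.evaluation U η hηU).hom φ)⁻¹ * ((toRes h).hom b) ^ n = (toRes h).hom γ := hc
    refine ⟨n + 1, fun m hm h' => ⟨γ * b ^ (m - n), ?_, ?_⟩⟩
    · exact Ideal.mul_mem_left _ _ (Ideal.pow_mem_of_mem _ hbm _ (by omega))
    · rw [map_mul, map_mul, map_pow, map_pow, ← hc']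
      have hm' : m = n + (m - n) := by omega
      have hb' : (toRes h).hom b * (X.evaluation U η hηU).hom fη = 1 := hb
      have e1 : (toRes h).hom b ^ m * (X.evaluation U η hηU).hom fη ^ m = 1 := by
        rw [← mul_pow, hb', one_pow]
      calc ((X.evaluation U η hηU).hom φ)⁻¹ * (toRes h).hom b ^ n * (toRes h).hom b ^ (m - n) *
            ((X.evaluation U η hηU).hom φ * (X.evaluation U η hηU).hom fη ^ m)
          = (((X.evaluation U η hηU).hom φ)⁻¹ * (X.evaluation U η hηU).hom φ) *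
            ((toRes h).hom b ^ (n + (m - n)) * (X.evaluation U η hηU).hom fη ^ m) := by
            rw [pow_add]; ring
        _ = 1 := by rw [← hm', e1, inv_mul_cancel₀ hφ0, one_mul]
  obtain ⟨N, hN⟩ := exists_uniform Dη (fun x m => ∀ h : η ⤳ x, ∃ β : X.presheaf.stalk x,
      β ∈ IsLocalRing.maximalIdeal (X.presheaf.stalk x) ∧
        (toRes h).hom β * (X.evaluation U η hηU).hom (φ * fη ^ m) = 1) hP
  refine ⟨φ * fη ^ N, ?_, ?_⟩
  · intro η' hη' hne
    rw [map_mul, hφ' η' hη' hne, zero_mul]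
  · intro x hx h
    exact hN x ((hmemD x).2 ⟨hx, h⟩) h

theorem exists_global_pole [IsNoetherian X] [X.IsSeparated]
    (hdim : topologicalKrullDim X ≤ 1) {U : X.Opens} (hU : IsAffineOpen U)
    (hGU : ∀ η : X, closure ({η} : Set X) ∈ irreducibleComponents X → η ∈ U) :
    ∃ f : Γ(X, U), ∀ (η x : X) (hη : closure ({η} : Set X) ∈ irreducibleComponents X)
      (_ : x ∉ U) (h : η ⤳ x), ∃ β : X.presheaf.stalk x,
        β ∈ IsLocalRing.maximalIdeal (X.presheaf.stalk x) ∧
          (toRes h).hom β * (X.evaluation U η (hGU η hη)).hom f = 1 := by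
  classical
  have hfinG := finite_genSet X
  haveI : Fintype ↥{η : X | closure ({η} : Set X) ∈ irreducibleComponents X} := hfinG.fintype
  choose Ff hFf0 hFf1 using exists_component_function hdim hU hGU
  refine ⟨∑ ξ : ↥{η : X | closure ({η} : Set X) ∈ irreducibleComponents X}, Ff ξ.1 ξ.2, ?_⟩
  intro η x hη hx h
  obtain ⟨β, hβm, hβ⟩ := hFf1 η hη x hx h
  refine ⟨β, hβm, ?_⟩
  rw [map_sum, Finset.sum_eq_single
    (⟨η, hη⟩ : ↥{η : X | closure ({η} : Set X) ∈ irreducibleComponents X})]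
  · exact hβ
  · intro ξ _ hne
    exact hFf0 ξ.1 ξ.2 η hη (fun h => hne (Subtype.ext h.symm))
  · intro h
    exact absurd (Finset.mem_univ _) h

end Groth.Agent.Helper1.CurveGlue
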