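import Mathlib
import Groth.Agent.Lib.Helper1.CurveGlueE

/-!
# Noetherian separated schemes of dimension at most one: local inverses of the pole function and
the affine generating loci (helper1, CurveGlueF)
-/
set_option autoImplicit false
universe u
open CategoryTheory CategoryTheory.Limits AlgebraicGeometry TopologicalSpace Opposite

namespace Groth.Agent.Helper1.CurveGlue

open Groth.Agent.Helper1.QcCech Groth.Agent.Helper1.LGen Groth.Agent.Helper1.PicGlue
open Groth.Agent.Helper1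

variable {X : Scheme.{u}}

set_option maxHeartbeats 1600000 in
theorem exists_local_inverse [IsNoetherian X] (hdim : topologicalKrullDim X ≤ 1) {U : X.Opens}
    (hGU : ∀ η : X, closure ({η} : Set X) ∈ irreducibleComponents X → η ∈ U) (f : Γ(X, U))
    (hf : ∀ (η x : X) (hη : closure ({η} : Set X) ∈ irreducibleComponents X) (_ : x ∉ U)
      (h : η ⤳ x), ∃ β : X.presheaf.stalk x,
        β ∈ IsLocalRing.maximalIdeal (X.presheaf.stalk x) ∧
          (toRes h).hom β * (X.evaluation U η (hGU η hη)).hom f = 1)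
    (x : X) (hx : x ∉ U) :
    ∃ (W : X.Opens) (N : ℕ) (g : Γ(X, W)), x ∈ W ∧ (∀ z ∈ W, z ∉ U → z = x) ∧ 0 < N ∧
      x ∉ X.basicOpen g ∧ ∀ (O : X.Opens) (hOW : O ≤ W) (hOU : O ≤ U),
        resR hOU f ^ N * resR hOW g = 1 := by
  classical
  have hUd : Dense (U : Set X) := dense_of_generic hGU
  have hDfin : ((U : Set X)ᶜ).Finite :=
    FinCurve.finite_of_isClosed_of_dense_compl hdim _ U.isOpen.isClosed_compl
      (by rwa [compl_compl])
  have hcl : ∀ z : X, z ∉ U → IsClosed ({z} : Set X) := fun z hz =>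
    FinCurve.isClosed_singleton_of_notMem_dense hdim U U.isOpen hUd z hz
  have hfinG := finite_genSet X
  -- closed set to avoid
  obtain ⟨T, hT⟩ : ∃ T : Set X, T = ((U : Set X)ᶜ \ {x}) ∪
      ⋃ η ∈ {η : X | closure ({η} : Set X) ∈ irreducibleComponents X ∧ ¬ η ⤳ x},
        closure ({η} : Set X) := ⟨_, rfl⟩
  have hTc : IsClosed T := by
    rw [hT]
    refine IsClosed.union ?_
      ((hfinG.subset (fun η h => h.1)).isClosed_biUnion (fun _ _ => isClosed_closure))
    rw [← Set.biUnion_of_singleton ((U : Set X)ᶜ \ {x})]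
    exact (hDfin.subset Set.sdiff_subset).isClosed_biUnion (fun z hz => hcl z hz.1)
  have hxT : x ∉ T := by
    rw [hT]
    rintro (h | h)
    · exact h.2 rfl
    · obtain ⟨η, ⟨-, hne⟩, hmem⟩ := Set.mem_iUnion₂.1 h
      exact hne (specializes_iff_mem_closure.2 hmem)
  -- sections
  have hGx : {η : X | closure ({η} : Set X) ∈ irreducibleComponents X ∧ η ⤳ x}.Finite :=
    hfinG.subset (fun η h => h.1)
  let β : X → X.presheaf.stalk x := fun η =>
    if h : closure ({η} : Set X) ∈ irreducibleComponents X ∧ η ⤳ x then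
      (hf η x h.1 hx h.2).choose else 0
  have hβ : ∀ (η : X) (hη : closure ({η} : Set X) ∈ irreducibleComponents X) (h : η ⤳ x),
      β η ∈ IsLocalRing.maximalIdeal (X.presheaf.stalk x) ∧
        (toRes h).hom (β η) * (X.evaluation U η (hGU η hη)).hom f = 1 := by
    intro η hη h
    have h1 : β η = (hf η x hη hx h).choose := dif_pos ⟨hη, h⟩
    rw [h1]
    exact (hf η x hη hx h).choose_spec
  obtain ⟨Ω₁, hxΩ₁, hΩ₁⟩ := exists_common_nhd hGx.toFinset x β
  obtain ⟨W, hcut, hW, hWΩ, hxW, hcutp⟩ := exists_punctured_cut hdim x (hcl x hx)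
    ((⟨Tᶜ, hTc.isOpen_compl⟩ : X.Opens) ⊓ Ω₁) ⟨hxT, hxΩ₁⟩
  have hWT : ∀ z ∈ W, z ∉ T := fun z hz => (hWΩ hz).1
  have hWD : ∀ z ∈ W, z ∉ U → z = x := by
    intro z hzW hzU
    by_contra hne
    exact hWT z hzW (hT ▸ Or.inl ⟨hzU, hne⟩)
  have hBW : X.basicOpen hcut ≤ W := X.basicOpen_le hcut
  have hBU : X.basicOpen hcut ≤ U := by
    intro z hz
    by_contra hzU
    exact ((hcutp z (hBW hz)).1 hz) (hWD z (hBW hz) hzU)
  have hOB : ∀ O : X.Opens, O ≤ W → O ≤ U → O ≤ X.basicOpen hcut := by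
    intro O hOW hOU z hz
    exact (hcutp z (hOW hz)).2 (fun h => hx (h ▸ hOU hz))
  haveI : IsNoetherianRing Γ(X, W) := IsLocallyNoetherian.component_noetherian ⟨W, hW⟩
  -- the fraction
  have hloc := hW.isLocalization_basicOpen hcut
  obtain ⟨⟨F, ⟨_, n, rfl⟩⟩, hF⟩ := IsLocalization.surj (Submonoid.powers hcut) (resR hBU f)
  have hF' : resR hBU f * resR hBW (hcut ^ n) = resR hBW F := hF
  -- radical
  have h𝔭 : pt W x hxW ≤ (Ideal.span {hcut}).radical := by
    intro a ha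
    rw [Ideal.radical_eq_sInf, Ideal.mem_sInf]
    rintro J ⟨hJ, hJp⟩
    have hcJ : hcut ∈ J := hJ (Ideal.mem_span_singleton_self hcut)
    obtain ⟨q, hq⟩ : ∃ q : PrimeSpectrum Γ(X, W), q = ⟨J, hJp⟩ := ⟨_, rfl⟩
    have hcq : hcut ∈ q.asIdeal := by rw [hq]; exact hcJ
    have h1 : hW.fromSpec q ∉ X.basicOpen hcut := (mem_prime_iff_fromSpec hW q hcut).1 hcq
    have h2 : hW.fromSpec q = x := by
      by_contra hne
      exact h1 ((hcutp _ (fromSpec_mem hW q)).2 hne)
    have h3 : a ∈ q.asIdeal := by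
      refine (mem_prime_iff_fromSpec hW q a).2 ?_
      rw [h2]
      exact (mem_pt_iff W x hxW a).1 ha
    rw [hq] at h3
    exact h3
  -- minimal primes
  have hmin : ∀ 𝔮 ∈ minimalPrimes Γ(X, W), ∃ b ∈ pt W x hxW, F * b - hcut ^ n ∈ 𝔮 := by
    intro 𝔮 h𝔮
    haveI : 𝔮.IsPrime := h𝔮.1.1
    obtain ⟨q, hq⟩ : ∃ q : PrimeSpectrum Γ(X, W), q = ⟨𝔮, inferInstance⟩ := ⟨_, rfl⟩
    have hq𝔮 : q.asIdeal = 𝔮 := by rw [hq]
    obtain ⟨z, hz⟩ : ∃ z : X, z = hW.fromSpec q := ⟨_, rfl⟩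
    have hzW : z ∈ W := hz ▸ fromSpec_mem hW q
    have hzgen : closure ({z} : Set X) ∈ irreducibleComponents X := by
      rw [hz]
      exact closure_fromSpec_mem_irreducibleComponents hW q (hq𝔮 ▸ h𝔮)
    have hzU : z ∈ U := hGU z hzgen
    have hzx : z ⤳ x := by
      by_contra hns
      exact hWT z hzW (hT ▸ Or.inr (Set.mem_iUnion₂.2 ⟨z, ⟨hzgen, hns⟩, subset_closure rfl⟩))
    have hzne : z ≠ x := fun h => hx (h ▸ hzU)
    have hzB : z ∈ X.basicOpen hcut := (hcutp z hzW).2 hzne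
    obtain ⟨b₁, hb₁⟩ := hΩ₁ z (hGx.mem_toFinset.2 ⟨hzgen, hzx⟩)
    obtain ⟨hβm, hβ1⟩ := hβ z hzgen hzx
    refine ⟨resR (hWΩ.trans inf_le_right) b₁, ?_, ?_⟩
    · show (X.presheaf.germ W x hxW).hom (resR (hWΩ.trans inf_le_right) b₁) ∈
        IsLocalRing.maximalIdeal _
      rw [germ_resR, hb₁]
      exact hβm
    · have hmem : F * resR (hWΩ.trans inf_le_right) b₁ - hcut ^ n ∈ q.asIdeal := by
        refine (mem_prime_iff_fromSpec hW q _).2 ?_
        rw [← hz]
        refine (Scheme.evaluation_eq_zero_iff_notMem_basicOpen X z hzW _).1 ?_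
        have e1 : (X.evaluation W z hzW).hom F =
            (X.evaluation U z hzU).hom f * (X.evaluation W z hzW).hom hcut ^ n := by
          have := congrArg (X.evaluation (X.basicOpen hcut) z hzB).hom hF'
          rw [map_mul, evaluation_resR, evaluation_resR, evaluation_resR, map_pow] at this
          exact this.symm
        have e2 : (X.evaluation W z hzW).hom (resR (hWΩ.trans inf_le_right) b₁) =
            (toRes hzx).hom (β z) := by
          rw [← hb₁, germ_toRes hzx Ω₁ hxΩ₁ b₁, evaluation_resR]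
        show (X.evaluation W z hzW).hom (F * resR (hWΩ.trans inf_le_right) b₁ - hcut ^ n) = 0
        rw [map_sub, map_mul, map_pow, e1, e2]
        linear_combination ((X.evaluation W z hzW).hom hcut ^ n) * hβ1
      rw [hq𝔮] at hmem
      exact hmem
  obtain ⟨N, g, k, hN, hg𝔭, hk⟩ := exists_pow_inverse hcut (pt W x hxW) h𝔭 F n hmin
  refine ⟨W, N, g, hxW, hWD, hN, (mem_pt_iff W x hxW g).1 hg𝔭, ?_⟩
  intro O hOW hOU
  have hOB' := hOB O hOW hOU
  have hu : IsUnit (resR hOW hcut) := (GenLoc.isUnit_res_iff hcut O hOW).2 hOB'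
  have hFO : resR hOW F = resR hOU f * resR hOW hcut ^ n := by
    have := congrArg (resR hOB') hF'
    rw [map_mul, resR_resR, resR_resR, resR_resR, map_pow] at this
    exact this.symm
  have h1 := congrArg (resR hOW) hk
  rw [map_mul, map_pow, map_sub, map_mul, map_pow, map_pow, map_zero, hFO] at h1
  have h2 := (hu.pow k).mul_right_eq_zero.1 h1
  have h3 : (resR hOU f ^ N * resR hOW g - 1) * resR hOW hcut ^ (n * N) = 0 := by
    rw [← h2]
    ring
  have h4 := (hu.pow (n * N)).mul_left_eq_zero.1 h3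
  exact sub_eq_zero.1 h4

set_option maxHeartbeats 1600000 in
/-- **affine generating loci on curves**: on a Noetherian separated scheme of dimension at most
one, every point lies in an affine open which is exactly the locus where some global section of
a globally generated invertible module generates -/
theorem exists_affine_genLocus (X : Scheme.{u}) [IsNoetherian X] [X.IsSeparated]
    (hdim : topologicalKrullDim X ≤ 1) (x₀ : X) :
    ∃ (L : X.Modules) (s : Coh.structureModule X ⟶ L), PicF.IsInvertible L ∧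
      Curv2.IsGloballyGenerated L ∧ x₀ ∈ CohB1.genLocus L s ∧
        IsAffineOpen (CohB1.genLocus L s) := by
  classical
  obtain ⟨U, hU, hx₀U, hGU⟩ := exists_affine_dense x₀
  obtain ⟨f, hf⟩ := exists_global_pole hdim hU hGU
  have hUd : Dense (U : Set X) := dense_of_generic hGU
  have hDfin : ((U : Set X)ᶜ).Finite :=
    FinCurve.finite_of_isClosed_of_dense_compl hdim _ U.isOpen.isClosed_compl
      (by rwa [compl_compl])
  haveI : Fintype ↥((U : Set X)ᶜ) := hDfin.fintype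
  have hloc : ∀ d : ↥((U : Set X)ᶜ), ∃ (W : X.Opens) (N : ℕ) (g : Γ(X, W)), d.1 ∈ W ∧
      (∀ z ∈ W, z ∉ U → z = d.1) ∧ 0 < N ∧ d.1 ∉ X.basicOpen g ∧
      ∀ (O : X.Opens) (hOW : O ≤ W) (hOU : O ≤ U), resR hOU f ^ N * resR hOW g = 1 :=
    fun d => exists_local_inverse hdim hGU f hf d.1 d.2
  choose W N g hdW hWD hN hgd hinv using hloc
  obtain ⟨NN, hNN⟩ : ∃ NN : ℕ, NN = ∏ d, N d := ⟨_, rfl⟩
  obtain ⟨Mx, hMx⟩ : ∃ Mx : ↥((U : Set X)ᶜ) → ℕ,
      Mx = fun d => ∏ e ∈ Finset.univ.erase d, N e := ⟨_, rfl⟩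
  have hNM : ∀ d, N d * Mx d = NN := fun d => by
    rw [hNN, hMx]
    exact Finset.mul_prod_erase Finset.univ N (Finset.mem_univ d)
  have hMpos : ∀ d, 0 < Mx d := fun d => by
    rw [hMx]
    exact Finset.prod_pos (fun e _ => hN e)
  have hgd' : ∀ (d : ↥((U : Set X)ᶜ)) (O : X.Opens) (hOW : O ≤ W d) (hOU : O ≤ U),
      resR hOU f ^ NN * resR hOW (g d ^ Mx d) = 1 := by
    intro d O hOW hOU
    rw [← hNM d, pow_mul, map_pow, ← mul_pow, hinv d O hOW hOU, one_pow]
  obtain ⟨Vt, hVt⟩ : ∃ Vt : X.Opens, Vt = ⨆ d, W d := ⟨_, rfl⟩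
  have hVle : ∀ d, W d ≤ Vt := fun d => hVt ▸ le_iSup W d
  have hc : ∀ d e, resR (inf_le_left : W d ⊓ W e ≤ W d) (g d ^ Mx d) =
      resR (inf_le_right : W d ⊓ W e ≤ W e) (g e ^ Mx e) := by
    intro d e
    by_cases hde : d = e
    · subst hde
      rfl
    · have hOU : W d ⊓ W e ≤ U := by
        intro z hz
        by_contra hzU
        have h1 := hWD d z hz.1 hzU
        have h2 := hWD e z hz.2 hzU
        exact hde (Subtype.ext (h1.symm.trans h2))
      have h1 := hgd' d _ inf_le_left hOU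
      have h2 := hgd' e _ inf_le_right hOU
      calc resR (inf_le_left : W d ⊓ W e ≤ W d) (g d ^ Mx d)
          = resR (inf_le_left : W d ⊓ W e ≤ W d) (g d ^ Mx d) *
            (resR hOU f ^ NN * resR (inf_le_right : W d ⊓ W e ≤ W e) (g e ^ Mx e)) := by
            rw [h2, mul_one]
        _ = (resR hOU f ^ NN * resR (inf_le_left : W d ⊓ W e ≤ W d) (g d ^ Mx d)) *
            resR (inf_le_right : W d ⊓ W e ≤ W e) (g e ^ Mx e) := by ring
        _ = resR (inf_le_right : W d ⊓ W e ≤ W e) (g e ^ Mx e) := by rw [h1, one_mul]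
  obtain ⟨gT, hgT⟩ := glue_functions W Vt hVle (le_of_eq hVt) (fun d => g d ^ Mx d) hc
  have hUV : U ⊔ Vt = ⊤ := by
    apply top_le_iff.1
    intro z _
    by_cases hzU : z ∈ U
    · exact Opens.mem_sup.2 (Or.inl hzU)
    · exact Opens.mem_sup.2 (Or.inr (hVle ⟨z, hzU⟩ (hdW ⟨z, hzU⟩)))
  have hfg : resR (inf_le_left : U ⊓ Vt ≤ U) (f ^ NN) *
      resR (inf_le_right : U ⊓ Vt ≤ Vt) gT = 1 := by
    apply functions_eq_of_locally
    intro z hz
    have hzV : z ∈ Vt := hz.2
    rw [hVt] at hzV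
    obtain ⟨d, hd⟩ := Opens.mem_iSup.1 hzV
    refine ⟨U ⊓ W d, inf_le_inf le_rfl (hVle d), ⟨hz.1, hd⟩, ?_⟩
    rw [map_mul, resR_resR, resR_resR, map_one, map_pow]
    have h1 := hgd' d (U ⊓ W d) inf_le_right inf_le_left
    rw [← hgT d, resR_resR] at h1
    exact h1
  have hg : ∀ z ∈ Vt, z ∉ U → z ∉ X.basicOpen gT := by
    intro z hzV hzU hzb
    rw [hVt] at hzV
    obtain ⟨d, hd⟩ := Opens.mem_iSup.1 hzV
    have hzd : z = d.1 := hWD d z hd hzU
    have h1 : z ∈ X.basicOpen (resR (hVle d) gT) :=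
      (mem_basicOpen_resR (hVle d) gT z hd).2 hzb
    rw [hgT d] at h1
    have h2 : z ∈ X.basicOpen (g d) := by
      rw [X.basicOpen_pow (g d) (hMpos d)] at h1
      exact h1
    exact hgd d (hzd ▸ h2)
  obtain ⟨L, s, hL, hgg, hlocus⟩ := exists_gg_invertible U Vt hUV (f ^ NN) gT hfg hg
  exact ⟨L, s, hL, hgg, hlocus ▸ hx₀U, hlocus ▸ hU⟩

end Groth.Agent.Helper1.CurveGlue
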