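import Mathlib
import Groth.Agent.Lib.Helper1.NefGG2
import Groth.Agent.Lib.Helper1.P1Iso3
import Groth.Agent.Lib.Helper1.ArVert1
import Groth.Agent.Lib.Helper1.RpTw1
import Groth.Agent.S0844

/-!
# Invertible modules of nonnegative degree on an integral proper curve with `H¹(O) = 0`
(helper1)
-/

set_option linter.style.haveILetI false
set_option linter.unusedVariables false
set_option linter.unusedSectionVars false
set_option linter.unusedSimpArgs false
set_option autoImplicit false
set_option backward.isDefEq.respectTransparency.types false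
set_option synthInstance.maxHeartbeats 400000
set_option maxHeartbeats 1600000

universe u

open CategoryTheory CategoryTheory.Limits AlgebraicGeometry Opposite TopologicalSpace
open Groth.Agent.Helper1 Groth.Agent.Helper1.QcCech Groth.Agent.Helper1.LGen
open Groth.Agent.Helper1.TwForm

namespace Groth.Agent.Helper1.CurveNonneg

theorem one_ne_top : (1 : WithBot ℕ∞) ≠ ⊤ := by
  intro h
  have h2 : ((1 : ℕ∞) : WithBot ℕ∞) = ((⊤ : ℕ∞) : WithBot ℕ∞) := h
  have h3 : (1 : ℕ∞) = ⊤ := WithBot.coe_injective h2
  exact ENat.one_ne_top h3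

section Gen

variable {X : Scheme.{u}}

theorem isGloballyGenerated_of_iso {F G : X.Modules} (e : F ≅ G)
    (h : Curv2.IsGloballyGenerated F) : Curv2.IsGloballyGenerated G := by
  obtain ⟨ι, p, hp⟩ := h
  haveI := hp
  exact ⟨ι, p ≫ e.hom, epi_comp _ _⟩

theorem genLocus_eq_top_of_isIso {N : X.Modules} (s : Coh.structureModule X ⟶ N) [IsIso s] :
    CohB1.genLocus N s = ⊤ := by
  apply le_antisymm le_top
  apply GenLoc.le_genLocus
  intro V _
  have hiso : IsIso (s.app V) := inferInstance
  exact (ConcreteCategory.isIso_iff_bijective _).1 hiso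

theorem ne_zero_of_mem_genLocus {N : X.Modules} (s : Coh.structureModule X ⟶ N) (x : X)
    (hx : x ∈ CohB1.genLocus N s) : s ≠ 0 := by
  rintro rfl
  rw [GenLoc.mem_genLocus_iff] at hx
  obtain ⟨W, hxW, hW⟩ := hx
  have hb := hW W le_rfl
  have h1 : (show Γ(Coh.structureModule X, W) from (1 : Γ(X, W))) =
      (show Γ(Coh.structureModule X, W) from (0 : Γ(X, W))) := hb.1 (by simp)
  exact CurveLin.one_ne_zero_sections W x hxW h1

end Gen

section Curve

variable (k : Type u) [Field k] (C : Scheme.{u}) [C.Over (Spec (CommRingCat.of k))]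
  [IsProper (C ↘ Spec (CommRingCat.of k))] [IsIntegral C]

/-- a one-dimensional integral closed subscheme of an integral curve is the whole curve -/
theorem isIso_subschemeι (hdim : topologicalKrullDim C = 1) (J : C.IdealSheafData)
    (hJdim : topologicalKrullDim J.subscheme = 1) : IsIso J.subschemeι := by
  haveI hsurj : Surjective J.subschemeι := ⟨by
    have hr : Set.range J.subschemeι.base = Set.univ := by
      by_contra hne
      have hfin : topologicalKrullDim C ≠ ⊤ := by rw [hdim]; exact one_ne_top
      have hlt := Groth.Agent.Helper4.TD.topologicalKrullDim_lt_of_isClosed_ne_univ C hfin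
        (Set.range J.subschemeι.base) J.subschemeι.isClosedEmbedding.isClosed_range hne
      have hle := ArVert.dim_le_of_isClosedImmersion J.subschemeι
      rw [hJdim] at hle
      rw [hdim] at hlt
      exact absurd (lt_of_le_of_lt hle hlt) (lt_irrefl _)
    exact Set.range_eq_univ.1 hr⟩
  exact isIso_of_isClosedImmersion_of_surjective J.subschemeι

/-- **invertible modules of nonnegative degree on an integral proper curve with `H¹(O) = 0`
have no `H¹` and are globally generated** -/
theorem h1_gg_of_deg_nonneg (hdim : topologicalKrullDim C = 1)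
    (h1 : Subsingleton (Coh.HH C (Coh.structureModule C) 1))
    (N : C.Modules) (hN : PicF.IsInvertible N) (hdeg : 0 ≤ Curv2.deg k C N 1) :
    Subsingleton (Coh.HH C N 1) ∧ Curv2.IsGloballyGenerated N := by
  refine NefGG.main_subscheme k C hdim h1 N hN ?_
  intro J hint hJdim
  haveI := hint
  haveI : IsIso J.subschemeι := isIso_subschemeι C hdim J hJdim
  letI oJ : J.subscheme.Over (Spec (CommRingCat.of k)) :=
    ⟨J.subschemeι ≫ (C ↘ Spec (CommRingCat.of k))⟩
  have e1 := P1Iso.euler_pullback_of_isIso k C J.subscheme J.subschemeι rfl N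
    (InvInv2.isFinLocFree_of_isInvertible hN)
  have e2 := P1Iso.euler_pullback_of_isIso k C J.subscheme J.subschemeι rfl
    (Coh.structureModule C) (InvInv2.isFinLocFree_of_isInvertible GenLoc.isInvertible_O)
  have e3 := Euler.euler_iso k J.subscheme (PullSec.unitIso J.subschemeι)
  change 0 ≤ Curv2.deg k J.subscheme ((Scheme.Modules.pullback J.subschemeι).obj N) 1
  unfold Curv2.deg at hdeg ⊢
  rw [e1, ← e3, e2]
  exact hdeg

/-- an invertible module of degree zero on such a curve is trivial -/
theorem nonempty_iso_of_deg_zero (hdim : topologicalKrullDim C = 1)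
    (h1 : Subsingleton (Coh.HH C (Coh.structureModule C) 1))
    (N : C.Modules) (hN : PicF.IsInvertible N) (hdeg : Curv2.deg k C N 1 = 0) :
    Nonempty (N ≅ Coh.structureModule C) := by
  have hgg := (h1_gg_of_deg_nonneg k C hdim h1 N hN (le_of_eq hdeg.symm)).2
  obtain ⟨x0⟩ : Nonempty C := inferInstance
  obtain ⟨s, hs⟩ := AmpleLib.exists_section_of_globallyGenerated hN hgg x0
  exact Curve.iso_of_deg_nonpos_of_section k C hdim hN s (ne_zero_of_mem_genLocus s x0 hs)
    (le_of_eq hdeg)

end Curve

section P1

/-- `H¹(O) = 0` on a scheme isomorphic to a projective line -/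
theorem subsingleton_H1_of_iso_P1 (k' : Type u) [Field k'] (C : Scheme.{u})
    (e : C ≅ CohB1.ProjSpace 1 k') :
    Subsingleton (Coh.HH C (Coh.structureModule C) 1) := by
  have h0 := Groth.Agent.S0844.result k' 1 ((0 : ℕ) : ℤ) 1
    (fun h => by have := h.1; omega) (fun h => by have := h.2; omega)
  obtain ⟨e0⟩ := SerreAmple.nonempty_twist_pow_iso 1 k' 0
  have h2 : Subsingleton (Coh.HH (CohB1.ProjSpace 1 k')
      (Coh.structureModule (CohB1.ProjSpace 1 k')) 1) :=
    Dv.subsingleton_HH_of_iso e0 1 h0
  have h3 := RpTw.subsingleton_HH_pullback_of_iso e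
    (Coh.structureModule (CohB1.ProjSpace 1 k')) 1 h2
  exact Dv.subsingleton_HH_of_iso (PullSec.unitIso e.hom).symm 1 h3

end P1

end Groth.Agent.Helper1.CurveNonneg
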