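import Mathlib
import Groth.Agent.Lib.Helper1.CurveGlueF
import Groth.Agent.Lib.Helper1.AmpleAff
import Groth.Agent.Lib.Helper1.AmpleQA
import Groth.Agent.Lib.Helper1.VB5
import Groth.Agent.Lib.Helper4.ChowPn1
import Groth.Agent.S1664
import Groth.Agent.S1497

/-!
# Separated schemes of finite type and dimension at most one over a field are quasi-projective
(helper1, CurveQP1)
-/
set_option autoImplicit false
universe u
open CategoryTheory CategoryTheory.Limits AlgebraicGeometry TopologicalSpace Opposite

namespace Groth.Agent.Helper1.CurveQP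

open Groth.Agent.Helper1

/-- a Noetherian separated scheme of dimension at most one has an ample invertible module -/
theorem exists_isAmple (X : Scheme.{u}) [IsNoetherian X] [X.IsSeparated]
    (hdim : topologicalKrullDim X ≤ 1) : ∃ L : X.Modules, CohB1.IsAmple L :=
  Groth.Agent.S1664.result X (fun x => CurveGlue.exists_affine_genLocus X hdim x)

theorem isSeparated_of_over (k : Type u) [Field k] (X : Scheme.{u})
    [X.Over (Spec (CommRingCat.of k))] [IsSeparated (X ↘ (Spec (CommRingCat.of k)))] :
    X.IsSeparated := by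
  rw [Scheme.isSeparated_iff, ← terminal.comp_from (X ↘ Spec (CommRingCat.of k))]
  infer_instance

/-- **S1667** (with quasi-compactness of the immersion) -/
theorem exists_immersion (k : Type u) [Field k] (X : Scheme.{u})
    [X.Over (Spec (CommRingCat.of k))] [IsSeparated (X ↘ (Spec (CommRingCat.of k)))]
    [LocallyOfFiniteType (X ↘ (Spec (CommRingCat.of k)))]
    [QuasiCompact (X ↘ (Spec (CommRingCat.of k)))] (hdim : topologicalKrullDim X ≤ 1) :
    ∃ (n : ℕ) (i : X ⟶ CohB1.ProjSpace n k), IsImmersion i ∧ QuasiCompact i ∧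
      i ≫ CohB1.ProjSpace.toSpec n k = X ↘ (Spec (CommRingCat.of k)) := by
  haveI : IsNoetherian X := VB5.isNoetherian_of_proper k (X ↘ (Spec (CommRingCat.of k)))
  haveI : X.IsSeparated := isSeparated_of_over k X
  obtain ⟨L, hL⟩ := exists_isAmple X hdim
  have hS : ∃ N : (Spec (CommRingCat.of k)).Modules, CohB1.IsAmple N :=
    ⟨Coh.structureModule _, AmpleLib.isAmple_of_isAffine GenLoc.isInvertible_O⟩
  obtain ⟨n, i, hi, hqi, hif⟩ := (Groth.Agent.S1497.result hS (X ↘ (Spec (CommRingCat.of k)))).2
    ⟨inferInstance, inferInstance, L, hL⟩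
  have hif' : i ≫ CohB1.ProjSpaceOver.toBase n (Spec (CommRingCat.of k)) =
      X ↘ (Spec (CommRingCat.of k)) := hif
  refine ⟨n, i ≫ (Groth.Agent.Lib.Helper4.ChowPn1.thetaIso n k).inv, inferInstance,
    inferInstance, ?_⟩
  rw [Category.assoc, Groth.Agent.Lib.Helper4.ChowPn1.thetaIso_inv_toSpec, hif']

end Groth.Agent.Helper1.CurveQP
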