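import Mathlib
import Groth.Agent.Lib.Helper1.CurveQP1
import Groth.Agent.Lib.Helper1.FinCurve2
import Groth.Agent.Lib.Helper1.VA5
import Groth.Agent.Lib.Helper3.SchDominant

/-!
# Projective completion of separated schemes of finite type and dimension at most one over a field
(helper1, CurveQP2)
-/
set_option autoImplicit false
universe u
open CategoryTheory CategoryTheory.Limits AlgebraicGeometry TopologicalSpace Opposite

namespace Groth.Agent.Helper1.CurveQP

open Groth.Agent.Helper1

/-- the range of an open immersion has the dimension of the source -/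
theorem dim_range_le {X Y : Scheme.{u}} (j : X ⟶ Y) [IsOpenImmersion j] :
    topologicalKrullDim ↥(Set.range j.base) ≤ topologicalKrullDim X :=
  (j.isOpenEmbedding.toIsEmbedding.toHomeomorph).symm.isInducing.topologicalKrullDim_le

/-- **S1625** -/
theorem exists_completion (k : Type u) [Field k] (X : Scheme.{u})
    [X.Over (Spec (CommRingCat.of k))] [IsSeparated (X ↘ (Spec (CommRingCat.of k)))]
    [LocallyOfFiniteType (X ↘ (Spec (CommRingCat.of k)))]
    [QuasiCompact (X ↘ (Spec (CommRingCat.of k)))] (hdim : topologicalKrullDim X ≤ 1) :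
    ∃ (d : ℕ) (Y : Scheme.{u}) (c : Y ⟶ CohB1.ProjSpace d k) (j : X ⟶ Y),
      IsClosedImmersion c ∧ IsOpenImmersion j ∧
      j ≫ c ≫ CohB1.ProjSpace.toSpec d k = X ↘ (Spec (CommRingCat.of k)) ∧
      Dense (Set.range j.base) ∧ IsSchemeTheoreticallyDominant j ∧
      (Set.range j.base)ᶜ.Finite ∧ ∀ y ∈ (Set.range j.base)ᶜ, IsClosed ({y} : Set Y) := by
  obtain ⟨n, i, hi, hqi, hif⟩ := exists_immersion k X hdim
  haveI := hi
  haveI := hqi
  have hcl : ∀ y ∈ (Set.range i.toImage.base)ᶜ, IsClosed ({y} : Set i.image) := by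
    intro y hy
    haveI : LocallyOfFiniteType (i.imageι ≫ CohB1.ProjSpace.toSpec n k) := inferInstance
    refine FinCurve.isClosed_singleton_of_notMem_dense_of_finiteType k
      (i.imageι ≫ CohB1.ProjSpace.toSpec n k) i.toImage.opensRange ?_ ?_ y hy
    · exact i.toImage.denseRange
    · exact (dim_range_le i.toImage).trans hdim
  haveI : IsNoetherian i.image :=
    VB5.isNoetherian_of_proper k (i.imageι ≫ CohB1.ProjSpace.toSpec n k)
  refine ⟨n, i.image, i.imageι, i.toImage, inferInstance, inferInstance, ?_, ?_,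
    ⟨Groth.Agent.Helper3.ker_toImage_eq_bot i⟩, ?_, hcl⟩
  · rw [← Category.assoc, i.toImage_imageι, hif]
  · exact i.toImage.denseRange
  · exact GV1.finite_of_forall_isClosed_singleton _
      i.toImage.isOpenEmbedding.isOpen_range.isClosed_compl hcl

end Groth.Agent.Helper1.CurveQP
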