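import Mathlib
import Groth.Agent.Lib.Helper1.PicGlueF
import Groth.Agent.Lib.Helper1.PicGlueI

/-!
# Closed immersions into Noetherian spaces of dimension at most one: every invertible module
is a pullback (helper1, PicGlueJ)
-/
set_option autoImplicit false
universe u
open CategoryTheory CategoryTheory.Limits AlgebraicGeometry TopologicalSpace Opposite

namespace Groth.Agent.Helper1.PicGlue

open Groth.Agent.Helper1.QcCech Groth.Agent.Helper1.LGen Groth.Agent.Helper1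
open Groth.Agent.Helper1.PullSec Groth.Agent.Helper1.TwForm

set_option maxHeartbeats 400000 in
/-- **unit lifting**: if `c` is invertible modulo `I` up to powers of `f`, then a translate
`c + e`, `e ∈ I`, divides `s * f ^ N` for some `s ∉ p` -/
theorem exists_unit_lift {A : Type u} [CommRing A] (p : Ideal A) [p.IsPrime] (I : Ideal A)
    (f c c' : A) (m : ℕ) (Q : Set (Ideal A)) (hQfin : Q.Finite) (hQp : ∀ q ∈ Q, q.IsPrime)
    (hQ : ∀ q : Ideal A, q.IsPrime → q ≤ p → f ∉ q → q ∈ Q)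
    (hinc : ∀ q ∈ Q, ∀ q' ∈ Q, q ≤ q' → q = q')
    (hfQ : ∀ q ∈ Q, f ∉ q)
    (hcc : c * c' - f ^ m ∈ I) :
    ∃ e ∈ I, ∃ s : A, s ∉ p ∧ ∃ N : ℕ, s * f ^ N ∈ Ideal.span {c + e} := by
  classical
  have hS₁fin : {q ∈ Q | c ∈ q}.Finite := hQfin.subset fun q hq => hq.1
  have hS₂fin : {q ∈ Q | c ∉ q}.Finite := hQfin.subset fun q hq => hq.1
  obtain ⟨J, hJdef⟩ : ∃ J : Ideal A, J = I * ∏ q ∈ hS₂fin.toFinset, q := ⟨_, rfl⟩
  have hnot : ¬ ((J : Set A) ⊆ ⋃ q ∈ {q ∈ Q | c ∈ q}, (q : Set A)) := by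
    intro hsub
    obtain ⟨q, hq, hJq⟩ := (Ideal.subset_union_prime_finite hS₁fin (f := fun q : Ideal A => q)
      p p (fun q hq _ _ => hQp q hq.1)).1 hsub
    haveI := hQp q hq.1
    rw [hJdef] at hJq
    rcases (Ideal.IsPrime.mul_le (hQp q hq.1)).1 hJq with h | h
    · have h1 : c * c' ∈ q := Ideal.mul_mem_right _ _ hq.2
      have h2 : f ^ m ∈ q := by
        have := q.sub_mem h1 (h hcc)
        rwa [sub_sub_cancel] at this
      exact hfQ q hq.1 ((hQp q hq.1).mem_of_pow_mem _ h2)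
    · obtain ⟨q', hq', hle⟩ := (Ideal.IsPrime.prod_le (hQp q hq.1)).1 h
      have hq'2 := (hS₂fin.mem_toFinset).1 hq'
      have := hinc q' hq'2.1 q hq.1 hle
      rw [this] at hq'2
      exact hq'2.2 hq.2
  obtain ⟨e, heJ, he⟩ := Set.not_subset.1 hnot
  have heJ' : e ∈ I * ∏ q ∈ hS₂fin.toFinset, q := hJdef ▸ heJ
  have heI : e ∈ I := Ideal.mul_le_left heJ'
  have he₂ : ∀ q ∈ Q, c ∉ q → e ∈ q := by
    intro q hq hcq
    have h1 : I * (∏ q ∈ hS₂fin.toFinset, q) ≤ ∏ q ∈ hS₂fin.toFinset, q := Ideal.mul_le_right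
    have h2 : (∏ q ∈ hS₂fin.toFinset, q) ≤ q :=
      Ideal.prod_le_inf.trans (Finset.inf_le ((hS₂fin.mem_toFinset).2 ⟨hq, hcq⟩))
    exact h2 (h1 heJ')
  have he₁ : ∀ q ∈ Q, c ∈ q → e ∉ q := by
    intro q hq hcq heq
    exact he (Set.mem_biUnion (show q ∈ {q ∈ Q | c ∈ q} from ⟨hq, hcq⟩) heq)
  have hce : ∀ q ∈ Q, c + e ∉ q := by
    intro q hq hmem
    by_cases hcq : c ∈ q
    · apply he₁ q hq hcq
      have := q.sub_mem hmem hcq
      rwa [add_sub_cancel_left] at this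
    · apply hcq
      have := q.sub_mem hmem (he₂ q hq hcq)
      rwa [add_sub_cancel_right] at this
  obtain ⟨s, hsp, N, hN⟩ := exists_mul_pow_mem p (Ideal.span {c + e}) f (by
    intro q hq hle hqp
    by_contra hfq
    exact hce q (hQ q hq hqp hfq) (hle (Ideal.subset_span (Set.mem_singleton _))))
  exact ⟨e, heI, s, hsp, N, hN⟩


section Geo

theorem fromSpec_specializes {X : Scheme.{u}} {W : X.Opens} (hW : IsAffineOpen W)
    (q q' : PrimeSpectrum Γ(X, W)) (h : q.asIdeal ≤ q'.asIdeal) :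
    (hW.fromSpec q : X) ⤳ hW.fromSpec q' := by
  rw [specializes_iff_forall_open]
  intro O hO hq'O
  obtain ⟨g, hgO, hq'g⟩ := hW.exists_basicOpen_le (V := ⟨O, hO⟩) ⟨hW.fromSpec q', hq'O⟩
    (fromSpec_mem hW q')
  have h1 : g ∉ q'.asIdeal := fun hg => (mem_prime_iff_fromSpec hW q' g).1 hg hq'g
  have h2 : g ∉ q.asIdeal := fun hg => h1 (h hg)
  have h3 : hW.fromSpec q ∈ X.basicOpen g := by
    by_contra hh
    exact h2 ((mem_prime_iff_fromSpec hW q g).2 hh)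
  exact hgO h3

/-- gluing along a cover whose members are each compared with a fixed open `V` -/
theorem glueK {X' X : Scheme.{u}} (f : X' ⟶ X) (N : X'.Modules) (V : X.Opens)
    (ℓV : Γ(N, f ⁻¹ᵁ V))
    {ι : Type u} (U : ι → X.Opens) (hU : iSup U = ⊤) (hUV : ∀ i j, i ≠ j → U i ⊓ U j ≤ V)
    (ℓ : ∀ i, Γ(N, f ⁻¹ᵁ U i)) (hℓ : ∀ i, IsGen N (f ⁻¹ᵁ U i) (ℓ i))
    (a : ∀ i, (Γ(X, U i ⊓ V))ˣ)
    (ha : ∀ i, res N (f.preimage_mono (inf_le_left : U i ⊓ V ≤ U i)) (ℓ i) =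
      (f.app (U i ⊓ V)).hom (a i : Γ(X, U i ⊓ V)) •
        res N (f.preimage_mono (inf_le_right : U i ⊓ V ≤ V)) ℓV) :
    ∃ L : X.Modules, PicF.IsInvertible L ∧ Nonempty ((Scheme.Modules.pullback f).obj L ≅ N) := by
  classical
  have hc : ∀ i j, res N (f.preimage_mono (inf_le_left : U i ⊓ U j ≤ U i)) (ℓ i) =
      (f.app (U i ⊓ U j)).hom (ηK U V hUV a i j : Γ(X, U i ⊓ U j)) •
        res N (f.preimage_mono (inf_le_right : U i ⊓ U j ≤ U j)) (ℓ j) := by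
    intro i j
    by_cases h : i = j
    · subst h
      rw [ηK_self, Units.val_one, map_one, one_smul]
    · have hOV : U i ⊓ U j ≤ V := hUV i j h
      have h1 : U i ⊓ U j ≤ U i ⊓ V := le_inf inf_le_left hOV
      have h2 : U i ⊓ U j ≤ U j ⊓ V := le_inf inf_le_right hOV
      have e1 := congrArg (res N (f.preimage_mono h1)) (ha i)
      have e2 := congrArg (res N (f.preimage_mono h2)) (ha j)
      rw [res_smul, res_res, res_res, ← app_resR f h1] at e1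
      rw [res_smul, res_res, res_res, ← app_resR f h2] at e2
      have hη : (ηK U V hUV a i j : Γ(X, U i ⊓ U j)) * resR h2 (a j : Γ(X, U j ⊓ V)) =
          resR h1 (a i : Γ(X, U i ⊓ V)) := by
        have h3 : ((rU h2 (a j))⁻¹ : (Γ(X, U i ⊓ U j))ˣ).val * resR h2 (a j : Γ(X, U j ⊓ V)) =
            1 := by
          rw [← rU_val]; exact Units.inv_mul _
        rw [ηK, dif_neg h, Units.val_mul, rU_val, mul_assoc, h3, mul_one]
      rw [e1, e2, smul_smul, ← map_mul, hη]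
  obtain ⟨L, s, hL, -, -, e, -⟩ := core' f N U hU ℓ hℓ (ηK U V hUV a) (isCocycle_ηK U V hUV a) hc
  exact ⟨L, hL, ⟨e⟩⟩

/-- the same with the open `V` as a distinguished member of the cover -/
theorem glueOpt {X' X : Scheme.{u}} (f : X' ⟶ X) (N : X'.Modules) (V : X.Opens)
    (ℓV : Γ(N, f ⁻¹ᵁ V)) (hℓV : IsGen N (f ⁻¹ᵁ V) ℓV)
    {κ : Type u} (Uc : κ → X.Opens) (hcov : ∀ x : X, x ∈ V ∨ ∃ k, x ∈ Uc k)
    (hdisj : ∀ k k', k ≠ k' → Uc k ⊓ Uc k' ≤ V)
    (ℓc : ∀ k, Γ(N, f ⁻¹ᵁ Uc k)) (hℓc : ∀ k, IsGen N (f ⁻¹ᵁ Uc k) (ℓc k))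
    (gc : ∀ k, (Γ(X, Uc k ⊓ V))ˣ)
    (hgc : ∀ k, res N (f.preimage_mono (inf_le_left : Uc k ⊓ V ≤ Uc k)) (ℓc k) =
      (f.app (Uc k ⊓ V)).hom (gc k : Γ(X, Uc k ⊓ V)) •
        res N (f.preimage_mono (inf_le_right : Uc k ⊓ V ≤ V)) ℓV) :
    ∃ L : X.Modules, PicF.IsInvertible L ∧ Nonempty ((Scheme.Modules.pullback f).obj L ≅ N) := by
  classical
  let U : Option κ → X.Opens := fun o => o.elim V Uc
  have hU : iSup U = ⊤ := by
    apply top_le_iff.1
    intro x _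
    rcases hcov x with h | ⟨k, hk⟩
    · exact Opens.mem_iSup.2 ⟨none, h⟩
    · exact Opens.mem_iSup.2 ⟨some k, hk⟩
  have hUV : ∀ o o', o ≠ o' → U o ⊓ U o' ≤ V := by
    rintro (_ | k) (_ | k') hne
    · exact absurd rfl hne
    · show V ⊓ Uc k' ≤ V
      exact inf_le_left
    · show Uc k ⊓ V ≤ V
      exact inf_le_right
    · exact hdisj k k' (fun h => hne (congrArg some h))
  refine glueK f N V ℓV U hU hUV
    (fun o => Option.rec (motive := fun o => Γ(N, f ⁻¹ᵁ U o)) ℓV ℓc o) ?_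
    (fun o => Option.rec (motive := fun o => (Γ(X, U o ⊓ V))ˣ) 1 gc o) ?_
  · rintro (_ | k)
    · exact hℓV
    · exact hℓc k
  · rintro (_ | k)
    · have hnone : ∀ (h1 h2 : f ⁻¹ᵁ (V ⊓ V) ≤ f ⁻¹ᵁ V), res N h1 ℓV =
          (f.app (V ⊓ V)).hom ((1 : (Γ(X, V ⊓ V))ˣ) : Γ(X, V ⊓ V)) • res N h2 ℓV := by
        intro h1 h2
        rw [Units.val_one, map_one, one_smul]
      exact hnone _ _
    · exact hgc k

variable {Z X : Scheme.{u}} (i : Z ⟶ X) [IsClosedImmersion i] [NoetherianSpace X]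

set_option maxHeartbeats 1000000 in
/-- **lifting the transition unit near a closed point** -/
theorem exists_unit_near (hdim : topologicalKrullDim X ≤ 1)
    (L : Z.Modules) (hL : PicF.IsInvertible L)
    (V : X.Opens) (ℓ : Γ(L, i ⁻¹ᵁ V)) (hℓ : IsGen L (i ⁻¹ᵁ V) ℓ)
    (z : Z) (hx : IsClosed ({i z} : Set X)) (hxV : i z ∉ V)
    (hVx : IsOpen ((V : Set X) ∪ {i z})) :
    ∃ (U : X.Opens) (ℓz : Γ(L, i ⁻¹ᵁ U)) (g : (Γ(X, U ⊓ V))ˣ), i z ∈ U ∧
      (∀ y ∈ U, y ∈ V ∨ y = i z) ∧ IsGen L (i ⁻¹ᵁ U) ℓz ∧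
      res L (i.preimage_mono (inf_le_left : U ⊓ V ≤ U)) ℓz =
        (i.app (U ⊓ V)).hom (g : Γ(X, U ⊓ V)) •
          res L (i.preimage_mono (inf_le_right : U ⊓ V ≤ V)) ℓ := by
  classical
  -- Step 1: a local generator near `z` and a punctured affine neighbourhood of `i z`
  obtain ⟨W₁, ℓ₁, hzW₁, hℓ₁⟩ := exists_isGen hL z
  obtain ⟨Ω₁, hΩ₁, hΩ₁eq⟩ := i.isClosedEmbedding.isInducing.isOpen_iff.1 W₁.isOpen
  have hxΩ : i z ∈ (⟨Ω₁, hΩ₁⟩ : X.Opens) ⊓ ⟨(V : Set X) ∪ {i z}, hVx⟩ := by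
    refine ⟨?_, Or.inr rfl⟩
    have : z ∈ i ⁻¹' Ω₁ := by rw [hΩ₁eq]; exact hzW₁
    exact this
  obtain ⟨W, f, hW, hWΩ, hxW, hf⟩ := exists_punctured_cut hdim (i z) hx _ hxΩ
  have hW' : IsAffineOpen (i ⁻¹ᵁ W) := hW.preimage i
  have hW'W₁ : i ⁻¹ᵁ W ≤ W₁ := by
    intro w hw
    have h1 := hWΩ hw
    have h2 : w ∈ i ⁻¹' Ω₁ := h1.1
    rw [hΩ₁eq] at h2
    exact h2
  obtain ⟨fb, hfb⟩ : ∃ fb : Γ(Z, i ⁻¹ᵁ W), fb = (i.app W).hom f := ⟨_, rfl⟩
  have hpre : i ⁻¹ᵁ X.basicOpen f = Z.basicOpen fb := by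
    rw [hfb]; exact Scheme.preimage_basicOpen i f
  have hDV : X.basicOpen f ≤ V := by
    intro y hy
    have hyW := X.basicOpen_le f hy
    rcases (hWΩ hyW).2 with h | h
    · exact h
    · exact absurd h ((hf y hyW).1 hy)
  have hfbV : Z.basicOpen fb ≤ i ⁻¹ᵁ V := by rw [← hpre]; exact i.preimage_mono hDV
  -- Step 2: the transition unit on the punctured neighbourhood
  have g1 : IsGen L (Z.basicOpen fb) (res L hfbV ℓ) := hℓ.res _
  have g2 : IsGen L (Z.basicOpen fb) (res L ((Z.basicOpen_le fb).trans hW'W₁) ℓ₁) := hℓ₁.res _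
  obtain ⟨u, hu⟩ := IsGen.exists_unit g1 g2
  have hloc := hW'.isLocalization_basicOpen fb
  obtain ⟨⟨b, ⟨_, k, rfl⟩⟩, hk⟩ := IsLocalization.surj (Submonoid.powers fb)
    (u : Γ(Z, Z.basicOpen fb))
  have hk' : (u : Γ(Z, Z.basicOpen fb)) * resR (Z.basicOpen_le fb) (fb ^ k) =
      resR (Z.basicOpen_le fb) b := hk
  obtain ⟨⟨b', ⟨_, k', rfl⟩⟩, hk2⟩ := IsLocalization.surj (Submonoid.powers fb)
    ((u⁻¹ : (Γ(Z, Z.basicOpen fb))ˣ) : Γ(Z, Z.basicOpen fb))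
  have hk2' : ((u⁻¹ : (Γ(Z, Z.basicOpen fb))ˣ) : Γ(Z, Z.basicOpen fb)) *
      resR (Z.basicOpen_le fb) (fb ^ k') = resR (Z.basicOpen_le fb) b' := hk2
  have hprod : resR (Z.basicOpen_le fb) (b * b' - fb ^ (k + k')) = 0 := by
    have hu1 : (u : Γ(Z, Z.basicOpen fb)) *
        ((u⁻¹ : (Γ(Z, Z.basicOpen fb))ˣ) : Γ(Z, Z.basicOpen fb)) = 1 := Units.mul_inv u
    rw [map_sub, map_mul, ← hk', ← hk2', pow_add, map_mul]
    linear_combination (resR (Z.basicOpen_le fb) (fb ^ k) *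
      resR (Z.basicOpen_le fb) (fb ^ k')) * hu1
  obtain ⟨⟨_, n, rfl⟩, hn⟩ := (IsLocalization.map_eq_zero_iff (Submonoid.powers fb)
    Γ(Z, Z.basicOpen fb) (b * b' - fb ^ (k + k'))).1 hprod
  have hn' : fb ^ n * (b * b' - fb ^ (k + k')) = 0 := hn
  have hk₁ : (u : Γ(Z, Z.basicOpen fb)) * resR (Z.basicOpen_le fb) (fb ^ (n + k)) =
      resR (Z.basicOpen_le fb) (fb ^ n * b) := by
    rw [pow_add, map_mul, map_mul, ← hk']
    ring
  -- Step 3: lifting to `X`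
  have hsurj : Function.Surjective (i.app W).hom := i.app_surjective W hW
  obtain ⟨c, hc⟩ := hsurj (fb ^ n * b)
  obtain ⟨c', hc'⟩ := hsurj b'
  have hcc : c * c' - f ^ (n + (k + k')) ∈ RingHom.ker (i.app W).hom := by
    rw [RingHom.mem_ker, map_sub, map_mul, map_pow, hc, hc', ← hfb, pow_add]
    linear_combination hn'
  -- Step 4: the primes below the point
  obtain ⟨P, hPdef⟩ : ∃ P : PrimeSpectrum Γ(X, W), P = hW.primeIdealOf ⟨i z, hxW⟩ := ⟨_, rfl⟩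
  haveI : P.asIdeal.IsPrime := P.isPrime
  have Mx : ∀ g, g ∈ P.asIdeal ↔ i z ∉ X.basicOpen g := by
    intro g; rw [hPdef]; exact mem_primeIdealOf_iff hW (i z) hxW g
  have hPx : (hW.fromSpec P : X) = i z := by
    rw [hPdef]; exact hW.fromSpec_primeIdealOf ⟨i z, hxW⟩
  have hy : ∀ q : PrimeSpectrum Γ(X, W), q.asIdeal ≤ P.asIdeal → f ∉ q.asIdeal →
      (hW.fromSpec q : X) ⤳ i z ∧ (hW.fromSpec q : X) ≠ i z := by
    intro q hqP hfq
    constructor
    · have h1 := fromSpec_specializes hW q P hqP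
      rwa [hPx] at h1
    · intro h
      have h1 : hW.fromSpec q ∈ X.basicOpen f := by
        by_contra hh; exact hfq ((mem_prime_iff_fromSpec hW q f).2 hh)
      rw [h] at h1
      exact (hf (i z) hxW).1 h1 rfl
  have hinj : ∀ q q' : PrimeSpectrum Γ(X, W), (hW.fromSpec q : X) = hW.fromSpec q' → q = q' := by
    intro q q' h
    apply PrimeSpectrum.ext
    ext g
    rw [mem_prime_iff_fromSpec hW q g, mem_prime_iff_fromSpec hW q' g, h]
  have hQ'fin : {q : PrimeSpectrum Γ(X, W) | q.asIdeal ≤ P.asIdeal ∧ f ∉ q.asIdeal}.Finite := by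
    apply Set.Finite.of_finite_image (f := fun q : PrimeSpectrum Γ(X, W) => (hW.fromSpec q : X))
      ((finite_generizations hdim (i z)).subset ?_) ?_
    · rintro _ ⟨q, hq, rfl⟩
      exact hy q hq.1 hq.2
    · intro q _ q' _ h
      exact hinj q q' h
  obtain ⟨e, heI, s, hsp, N, hN⟩ := exists_unit_lift P.asIdeal (RingHom.ker (i.app W).hom) f c c'
    (n + (k + k'))
    (PrimeSpectrum.asIdeal '' {q : PrimeSpectrum Γ(X, W) | q.asIdeal ≤ P.asIdeal ∧ f ∉ q.asIdeal})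
    (hQ'fin.image _)
    (by rintro _ ⟨q, -, rfl⟩; exact q.isPrime)
    (fun q hq hle hfq => ⟨⟨q, hq⟩, ⟨hle, hfq⟩, rfl⟩)
    (by
      rintro _ ⟨q, hq, rfl⟩ _ ⟨q', hq', rfl⟩ hle
      exact congrArg PrimeSpectrum.asIdeal (hinj q q'
        (eq_of_specializes_of_generizations hdim (i z) _ _ (hy q hq.1 hq.2) (hy q' hq'.1 hq'.2)
          (fromSpec_specializes hW q q' hle))))
    (by rintro _ ⟨q, hq, rfl⟩; exact hq.2)
    hcc
  obtain ⟨t, ht⟩ := Ideal.mem_span_singleton'.1 hN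
  have hxs : i z ∈ X.basicOpen s := by
    by_contra h; exact hsp ((Mx s).2 h)
  have hUW₁ : i ⁻¹ᵁ X.basicOpen s ≤ W₁ := (i.preimage_mono (X.basicOpen_le s)).trans hW'W₁
  -- Step 5: the unit on `D(s) ⊓ V`
  obtain ⟨O, hOdef⟩ : ∃ O : X.Opens, O = X.basicOpen s ⊓ V := ⟨_, rfl⟩
  have hOs : O ≤ X.basicOpen s := by rw [hOdef]; exact inf_le_left
  have hOV : O ≤ V := by rw [hOdef]; exact inf_le_right
  have hOW : O ≤ W := hOs.trans (X.basicOpen_le s)
  have hOf : O ≤ X.basicOpen f := fun y hy =>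
    (hf y (hOW hy)).2 (fun h => hxV (h ▸ hOV hy))
  have hO'fb : i ⁻¹ᵁ O ≤ Z.basicOpen fb := by rw [← hpre]; exact i.preimage_mono hOf
  have main : ∃ g₀ : (Γ(X, O))ˣ, (i.app O).hom (g₀ : Γ(X, O)) =
      resR hO'fb (u : Γ(Z, Z.basicOpen fb)) := by
    have hus : IsUnit (resR hOW s) := (GenLoc.isUnit_res_iff s O hOW).2 hOs
    have huf : IsUnit (resR hOW f) := (GenLoc.isUnit_res_iff f O hOW).2 hOf
    have huce : IsUnit (resR hOW (c + e)) := by
      have h1 : resR hOW t * resR hOW (c + e) = resR hOW s * resR hOW f ^ N := by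
        rw [← map_mul, ht, map_mul, map_pow]
      have h2 : IsUnit (resR hOW t * resR hOW (c + e)) := by
        rw [h1]; exact hus.mul (huf.pow N)
      exact isUnit_of_mul_isUnit_right h2
    have hO'W' : i ⁻¹ᵁ O ≤ i ⁻¹ᵁ W := i.preimage_mono hOW
    have hF : IsUnit (resR hO'W' fb) := by
      have := huf.map (i.app O).hom
      rwa [app_resR, ← hfb] at this
    obtain ⟨g₀, h3⟩ : ∃ g₀ : (Γ(X, O))ˣ, (g₀ : Γ(X, O)) * resR hOW f ^ (n + k) =
        resR hOW (c + e) := by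
      refine ⟨huce.unit * (huf.unit ^ (n + k))⁻¹, ?_⟩
      have h4 : (huce.unit * (huf.unit ^ (n + k))⁻¹) * huf.unit ^ (n + k) = huce.unit :=
        inv_mul_cancel_right _ _
      have h5 := congrArg Units.val h4
      rwa [Units.val_mul, Units.val_pow_eq_pow_val, IsUnit.unit_spec, IsUnit.unit_spec] at h5
    refine ⟨g₀, ?_⟩
    apply (hF.pow (n + k)).mul_left_inj.1
    have hL : (i.app O).hom (g₀ : Γ(X, O)) * resR hO'W' fb ^ (n + k) =
        resR hO'W' (fb ^ n * b) := by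
      have h6 := congrArg (i.app O).hom h3
      rw [map_mul, map_pow, app_resR, app_resR, ← hfb, map_add, hc,
        (RingHom.mem_ker).1 heI, add_zero] at h6
      exact h6
    have hR : resR hO'fb (u : Γ(Z, Z.basicOpen fb)) * resR hO'W' fb ^ (n + k) =
        resR hO'W' (fb ^ n * b) := by
      have h7 := congrArg (resR hO'fb) hk₁
      rw [map_mul, resR_resR, resR_resR, map_pow] at h7
      exact h7
    rw [hL, hR]
  obtain ⟨g₀, key⟩ := main
  subst hOdef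
  refine ⟨X.basicOpen s, res L hUW₁ ℓ₁, g₀, hxs, ?_, hℓ₁.res hUW₁, ?_⟩
  · intro y hy
    exact (hWΩ (X.basicOpen_le s hy)).2
  · rw [res_res, key]
    have e1 := congrArg (res L hO'fb) hu
    rw [res_smul, res_res, res_res] at e1
    exact e1

/-- **S1644** -/
theorem main_S1644 (hdim : topologicalKrullDim X ≤ 1)
    (L : Z.Modules) (hL : PicF.IsInvertible L) :
    ∃ L' : X.Modules, PicF.IsInvertible L' ∧
      Nonempty ((Scheme.Modules.pullback i).obj L' ≅ L) := by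
  classical
  have hemb := i.isClosedEmbedding
  haveI : NoetherianSpace Z := hemb.isInducing.noetherianSpace
  have hdimZ : topologicalKrullDim Z ≤ 1 := hemb.isInducing.topologicalKrullDim_le.trans hdim
  obtain ⟨D, ℓD, hℓD, hDfin, hDcl⟩ := exists_dense_trivialization hdimZ L hL
  have hFfin : (i '' ((D : Set Z)ᶜ)).Finite := hDfin.image _
  have hpt : ∀ z : Z, z ∉ D → IsClosed ({i z} : Set X) := by
    intro z hz
    have := hemb.isClosedMap _ (hDcl z hz)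
    rwa [Set.image_singleton] at this
  have hsubcl : ∀ S : Set X, S ⊆ i '' ((D : Set Z)ᶜ) → IsClosed S := by
    intro S hS
    have hSfin : S.Finite := hFfin.subset hS
    have : S = ⋃ y ∈ S, ({y} : Set X) := (Set.biUnion_of_singleton S).symm
    rw [this]
    apply hSfin.isClosed_biUnion
    intro y hy
    obtain ⟨z, hz, rfl⟩ := hS hy
    exact hpt z hz
  obtain ⟨V, hVdef⟩ : ∃ V : X.Opens, (V : Set X) = (i '' ((D : Set Z)ᶜ))ᶜ :=
    ⟨⟨(i '' ((D : Set Z)ᶜ))ᶜ, (hsubcl _ subset_rfl).isOpen_compl⟩, rfl⟩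
  have hVmem : ∀ y : X, y ∈ V ↔ y ∉ i '' ((D : Set Z)ᶜ) := by
    intro y
    have : y ∈ (V : Set X) ↔ y ∈ (i '' ((D : Set Z)ᶜ))ᶜ := by rw [hVdef]
    exact this
  have hVD : i ⁻¹ᵁ V ≤ D := by
    intro w hw
    by_contra hwD
    exact (hVmem (i w)).1 hw ⟨w, hwD, rfl⟩
  have hℓV : IsGen L (i ⁻¹ᵁ V) (res L hVD ℓD) := hℓD.res hVD
  have hloc : ∀ y : {y : X // y ∉ V}, ∃ (U : X.Opens) (ℓz : Γ(L, i ⁻¹ᵁ U))
      (g : (Γ(X, U ⊓ V))ˣ), y.1 ∈ U ∧ (∀ w ∈ U, w ∈ V ∨ w = y.1) ∧ IsGen L (i ⁻¹ᵁ U) ℓz ∧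
      res L (i.preimage_mono (inf_le_left : U ⊓ V ≤ U)) ℓz =
        (i.app (U ⊓ V)).hom (g : Γ(X, U ⊓ V)) •
          res L (i.preimage_mono (inf_le_right : U ⊓ V ≤ V)) (res L hVD ℓD) := by
    rintro ⟨y, hy⟩
    have hy' : y ∈ i '' ((D : Set Z)ᶜ) := by
      by_contra h
      exact hy ((hVmem y).2 h)
    obtain ⟨z, hz, rfl⟩ := hy'
    have hopen : IsOpen ((V : Set X) ∪ {i z}) := by
      have hcl : IsClosed (i '' ((D : Set Z)ᶜ) \ {i z}) := hsubcl _ Set.sdiff_subset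
      convert hcl.isOpen_compl using 1
      ext w
      constructor
      · rintro (h | h) h'
        · exact (hVmem w).1 h h'.1
        · exact h'.2 h
      · intro h
        by_cases hw : w ∈ i '' ((D : Set Z)ᶜ)
        · right
          by_contra hne
          exact h ⟨hw, hne⟩
        · exact Or.inl ((hVmem w).2 hw)
    exact exists_unit_near i hdim L hL V (res L hVD ℓD) hℓV z (hpt z hz) hy hopen
  choose Uc ℓc gc hyU hUc hℓc hgc using hloc
  refine glueOpt i L V (res L hVD ℓD) hℓV Uc ?_ ?_ ℓc hℓc gc hgc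
  · intro x
    by_cases hxV : x ∈ V
    · exact Or.inl hxV
    · exact Or.inr ⟨⟨x, hxV⟩, hyU ⟨x, hxV⟩⟩
  · intro k k' hne w hw
    rcases hUc k w hw.1 with h | h
    · exact h
    · rcases hUc k' w hw.2 with h' | h'
      · exact h'
      · exact absurd (Subtype.ext (h.symm.trans h')) hne

end Geo

end Groth.Agent.Helper1.PicGlue
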