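import Mathlib
import Groth.Agent.Lib.Helper1.PicGlueC
import Groth.Agent.Lib.Helper1.PicGlueJ
import Groth.Agent.Lib.Helper1.FinCurve1
import Groth.Agent.Lib.Helper1.InvT1

/-!
# Finite morphisms to Noetherian schemes of dimension at most one which are closed immersions
over a dense open (helper1, PicGlueK)
-/
set_option autoImplicit false
universe u
open CategoryTheory CategoryTheory.Limits AlgebraicGeometry TopologicalSpace Opposite

namespace Groth.Agent.Helper1.PicGlue

open Groth.Agent.Helper1.QcCech Groth.Agent.Helper1.LGen Groth.Agent.Helper1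
open Groth.Agent.Helper1.PullSec Groth.Agent.Helper1.TwForm

/-- a morphism inducing bijections on functions over a basis of opens of `V'` induces bijections
over all opens of `V'` -/
theorem bijective_app_of_basis {X Z : Scheme.{u}} (g : X ⟶ Z) (V' : Z.Opens) (𝔅 : Set Z.Opens)
    (hB : ∀ (O : Z.Opens) (z : Z), z ∈ O → O ≤ V' → ∃ B ∈ 𝔅, z ∈ B ∧ B ≤ O)
    (hbij : ∀ B ∈ 𝔅, Function.Bijective (g.app B).hom) (O : Z.Opens) (hO : O ≤ V') :
    Function.Bijective (g.app O).hom := by
  constructor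
  · intro r r' h
    apply InvT.eqR_of_locally
    intro z hz
    obtain ⟨B, hBm, hzB, hBO⟩ := hB O z hz hO
    refine ⟨B, hBO, hzB, ?_⟩
    apply (hbij B hBm).1
    rw [app_resR, app_resR, h]
  · intro t
    have hs : ∀ B : {B : Z.Opens // B ∈ 𝔅 ∧ B ≤ O}, ∃ s : Γ(Z, B.1),
        (g.app B.1).hom s = resR (g.preimage_mono B.2.2) t :=
      fun B => (hbij B.1 B.2.1).2 _
    choose sf hsf using hs
    obtain ⟨s, hs⟩ := InvT.glueR_of_compatible
      (fun B : {B : Z.Opens // B ∈ 𝔅 ∧ B ≤ O} => B.1) O (fun B => B.2.2)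
      (by
        intro z hz
        obtain ⟨B, hBm, hzB, hBO⟩ := hB O z hz hO
        exact Opens.mem_iSup.2 ⟨⟨B, hBm, hBO⟩, hzB⟩)
      sf (by
        intro B B'
        apply InvT.eqR_of_locally
        intro z hz
        obtain ⟨B'', hB''m, hzB'', hB''le⟩ := hB (B.1 ⊓ B'.1) z hz
          (inf_le_left.trans (B.2.2.trans hO))
        refine ⟨B'', hB''le, hzB'', ?_⟩
        rw [resR_resR, resR_resR]
        apply (hbij B'' hB''m).1
        rw [app_resR, app_resR, hsf B, hsf B', resR_resR, resR_resR])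
    refine ⟨s, ?_⟩
    apply InvT.eqR_of_locally
    intro x hx
    obtain ⟨B, hBm, hzB, hBO⟩ := hB O (g x) hx hO
    refine ⟨g ⁻¹ᵁ B, g.preimage_mono hBO, hzB, ?_⟩
    rw [← app_resR g hBO s, hs ⟨B, hBm, hBO⟩, hsf ⟨B, hBm, hBO⟩]

section

variable {X Y : Scheme.{u}} (f : X ⟶ Y)

/-- variant of `main_S1552` with bijectivity on functions over opens of `V` as hypothesis -/
theorem main_S1552_bij [IsFinite f] (V : Y.Opens)
    (hbij : ∀ O : Y.Opens, O ≤ V → Function.Bijective (f.app O).hom)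
    (hdisc : DiscreteTopology ((V : Set Y)ᶜ : Set Y))
    (L : X.Modules) (hL : PicF.IsInvertible L) :
    ∃ N : Y.Modules, PicF.IsInvertible N ∧ Nonempty ((Scheme.Modules.pullback f).obj N ≅ L) := by
  classical
  have hloc : ∀ y : Y, ∃ (U : Y.Opens) (ℓ : Γ(L, f ⁻¹ᵁ U)), y ∈ U ∧ IsGen L (f ⁻¹ᵁ U) ℓ ∧
      (y ∈ V → U ≤ V) ∧ (y ∉ V → ∀ z ∈ U, z ∉ V → z = y) := by
    intro y
    by_cases hy : y ∈ V
    · obtain ⟨U, ℓ, hUV, hyU, hℓ⟩ := exists_isGen_preimage f L hL y V hy
      exact ⟨U, ℓ, hyU, hℓ, fun _ => hUV, fun h => absurd hy h⟩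
    · have hyc : y ∈ ((V : Set Y)ᶜ : Set Y) := hy
      obtain ⟨t, ht, hts⟩ := isOpen_induced_iff.1
        (isOpen_discrete ({⟨y, hyc⟩} : Set ((V : Set Y)ᶜ : Set Y)))
      have hyt : y ∈ t := by
        have : (⟨y, hyc⟩ : ((V : Set Y)ᶜ : Set Y)) ∈ Subtype.val ⁻¹' t := by
          rw [hts]; rfl
        exact this
      obtain ⟨U, ℓ, hUt, hyU, hℓ⟩ := exists_isGen_preimage f L hL y ⟨t, ht⟩ hyt
      refine ⟨U, ℓ, hyU, hℓ, fun h => absurd h hy, fun _ z hzU hzV => ?_⟩
      have hz : (⟨z, hzV⟩ : ((V : Set Y)ᶜ : Set Y)) ∈ Subtype.val ⁻¹' t := hUt hzU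
      rw [hts] at hz
      exact congrArg Subtype.val hz
  choose U ℓ hyU hℓ hUin hUout using hloc
  have hU : iSup U = ⊤ := by
    apply top_le_iff.1
    intro y _
    exact Opens.mem_iSup.2 ⟨y, hyU y⟩
  have hUV : ∀ i j : Y, i ≠ j → U i ⊓ U j ≤ V := by
    intro i j hij z hz
    by_contra hzV
    have hi : i ∉ V := fun h => hzV (hUin i h hz.1)
    have hj : j ∉ V := fun h => hzV (hUin j h hz.2)
    exact hij ((hUout i hi z hz.1 hzV).symm.trans (hUout j hj z hz.2 hzV))
  obtain ⟨N, -, hN, -, e, -⟩ := descend f L V hbij U hU hUV ℓ hℓ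
  exact ⟨N, hN, ⟨e⟩⟩

/-- a morphism which is a closed immersion over `V` is surjective on functions over affine opens
of `V` -/
theorem surjective_app_of_isClosedImmersion_restrict (V : Y.Opens)
    [hV : IsClosedImmersion (f ∣_ V)] (U : Y.Opens) (hU : IsAffineOpen U) (hUV : U ≤ V) :
    Function.Surjective (f.app U).hom := by
  obtain ⟨O', rfl⟩ : ∃ O' : (↑V : Scheme.{u}).Opens, U = V.ι ''ᵁ O' :=
    ⟨V.ι ⁻¹ᵁ U, (GenLoc.image_preimage_of_le V hUV).symm⟩
  have hO' : IsAffineOpen O' := (V.ι.isAffineOpen_iff_of_isOpenImmersion).1 hU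
  have h1 : Function.Surjective ((f ∣_ V).app O').hom := (f ∣_ V).app_surjective O' hO'
  rw [morphismRestrict_app] at h1
  have h2 : Function.Bijective
      (X.presheaf.map (eqToHom (image_morphismRestrict_preimage f V O')).op).hom := by
    have : IsIso (X.presheaf.map (eqToHom (image_morphismRestrict_preimage f V O')).op) :=
      inferInstance
    exact (ConcreteCategory.isIso_iff_bijective _).1 this
  have h3 : Function.Surjective
      ((X.presheaf.map (eqToHom (image_morphismRestrict_preimage f V O')).op).hom ∘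
        (f.app (V.ι ''ᵁ O')).hom) := h1
  exact (Function.Surjective.of_comp_iff' h2 _).1 h3

set_option backward.isDefEq.respectTransparency false in
theorem toImage_app_surjective (U : Y.affineOpens)
    (h : Function.Surjective (f.app U.1).hom) :
    Function.Surjective (f.toImage.app (f.imageι ⁻¹ᵁ U)) := by
  simp only [f.toImage_app U, CommRingCat.hom_comp, CommRingCat.hom_ofHom, RingHom.coe_comp]
  exact (Ideal.Quotient.lift_surjective_of_surjective _ _ h).comp
    (f.ker.subschemeObjIso U).commRingCatIsoToRingEquiv.surjective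

end

/-- a finite set of closed points is discrete -/
theorem discreteTopology_of_finite_of_isClosed {T : Type*} [TopologicalSpace T] (S : Set T)
    (hS : S.Finite) (hcl : ∀ z ∈ S, IsClosed ({z} : Set T)) : DiscreteTopology ↥S := by
  haveI : Finite ↥S := hS.to_subtype
  haveI : T1Space ↥S := ⟨fun x => by
    have h1 : IsClosed ({x.1} : Set T) := hcl x.1 x.2
    have h2 : ({x} : Set ↥S) = Subtype.val ⁻¹' ({x.1} : Set T) := by
      ext y
      simp only [Set.mem_singleton_iff, Set.mem_preimage]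
      exact Subtype.ext_iff
    rw [h2]
    exact h1.preimage continuous_subtype_val⟩
  infer_instance

/-- **S7688** -/
theorem main_S7688 {X Y : Scheme.{u}} (f : X ⟶ Y)
    [IsFinite f] [IsNoetherian Y] (hdim : topologicalKrullDim Y ≤ 1)
    (V : Y.Opens) (hV : Dense (V : Set Y)) (hfV : IsClosedImmersion (f ∣_ V))
    (L : X.Modules) (hL : PicF.IsInvertible L) :
    ∃ N : Y.Modules, PicF.IsInvertible N ∧ Nonempty ((Scheme.Modules.pullback f).obj N ≅ L) := by
  classical
  have hθ : f.toImage ≫ f.imageι = f := f.toImage_imageι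
  have hemb := f.imageι.isClosedEmbedding
  haveI : IsFinite (f.toImage ≫ f.imageι) := by rw [hθ]; infer_instance
  haveI : IsFinite f.toImage := IsFinite.of_comp f.toImage f.imageι
  -- the complement of `V` is a finite set of closed points
  have hTfin : ((V : Set Y)ᶜ).Finite :=
    FinCurve.finite_of_isClosed_of_dense_compl hdim _ V.isOpen.isClosed_compl
      (by rw [compl_compl]; exact hV)
  have hTcl : ∀ y : Y, y ∉ V → IsClosed ({y} : Set Y) := fun y hy =>
    FinCurve.isClosed_singleton_of_notMem_dense hdim V V.isOpen hV y hy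
  have hdisc : DiscreteTopology ↥(((f.imageι ⁻¹ᵁ V : f.image.Opens) : Set f.image)ᶜ) := by
    apply discreteTopology_of_finite_of_isClosed
    · have : (((f.imageι ⁻¹ᵁ V : f.image.Opens) : Set f.image)ᶜ) =
          f.imageι ⁻¹' ((V : Set Y)ᶜ) := rfl
      rw [this]
      exact hTfin.preimage (hemb.injective.injOn)
    · intro z hz
      have h1 : IsClosed (f.imageι ⁻¹' ({f.imageι z} : Set Y)) :=
        (hTcl (f.imageι z) hz).preimage f.imageι.continuous
      have h2 : f.imageι ⁻¹' ({f.imageι z} : Set Y) = {z} := by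
        ext w
        simp only [Set.mem_preimage, Set.mem_singleton_iff]
        exact ⟨fun h => hemb.injective h, fun h => by rw [h]⟩
      rwa [h2] at h1
  -- bijectivity on functions over opens of the preimage of `V`
  have hbij : ∀ O : f.image.Opens, O ≤ f.imageι ⁻¹ᵁ V →
      Function.Bijective (f.toImage.app O).hom := by
    apply bijective_app_of_basis f.toImage (f.imageι ⁻¹ᵁ V)
      {B | ∃ U : Y.Opens, IsAffineOpen U ∧ U ≤ V ∧ B = f.imageι ⁻¹ᵁ U}
    · intro O z hzO hOV'
      obtain ⟨O₁, hO₁, hO₁eq⟩ := hemb.isInducing.isOpen_iff.1 O.isOpen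
      have hz1 : f.imageι z ∈ (⟨O₁, hO₁⟩ : Y.Opens) ⊓ V := by
        refine ⟨?_, hOV' hzO⟩
        have : z ∈ f.imageι ⁻¹' O₁ := by rw [hO₁eq]; exact hzO
        exact this
      obtain ⟨U, hU, hzU, hUle⟩ := Opens.isBasis_iff_nbhd.1 Y.isBasis_affineOpens hz1
      refine ⟨f.imageι ⁻¹ᵁ U, ⟨U, hU, hUle.trans inf_le_right, rfl⟩, hzU, ?_⟩
      intro w hw
      have : w ∈ f.imageι ⁻¹' O₁ := (hUle hw).1
      rw [hO₁eq] at this
      exact this
    · rintro _ ⟨U, hU, hUV, rfl⟩
      exact ⟨f.toImage_app_injective ⟨U, hU⟩,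
        toImage_app_surjective f ⟨U, hU⟩
          (surjective_app_of_isClosedImmersion_restrict f V U hU hUV)⟩
  obtain ⟨NZ, hNZ, ⟨e2⟩⟩ := main_S1552_bij f.toImage (f.imageι ⁻¹ᵁ V) hbij hdisc L hL
  obtain ⟨N, hN, ⟨e1⟩⟩ := main_S1644 f.imageι hdim NZ hNZ
  refine ⟨N, hN, ⟨?_⟩⟩
  exact ((Scheme.Modules.pullbackCongr hθ).app N).symm ≪≫
    ((Scheme.Modules.pullbackComp f.toImage f.imageι).app N).symm ≪≫
    (Scheme.Modules.pullback f.toImage).mapIso e1 ≪≫ e2

end Groth.Agent.Helper1.PicGlue
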