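import Mathlib
import Groth.Agent.Lib.Helper1.CurveQP2
import Groth.Agent.Lib.Helper1.CurveAmp3
import Groth.Agent.Lib.Helper1.NM2
import Groth.Agent.Lib.Helper1.PicGlueK
import Groth.Agent.Lib.Helper1.ThmB11
import Groth.Agent.Lib.Helper1.Euler3
import Groth.Agent.Lib.Helper4.DimFT4
import Groth.Agent.Lib.Helper4.BirationalNormal1

/-!
# An integral curve over a field is affine or projective (helper1, CurveQP3)
-/
set_option autoImplicit false
universe u
open CategoryTheory CategoryTheory.Limits AlgebraicGeometry TopologicalSpace Opposite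

namespace Groth.Agent.Helper1.CurveQP

open Groth.Agent.Helper1

set_option maxHeartbeats 1600000 in
/-- a nonempty proper open subset of an integral proper curve is affine -/
theorem isAffineOpen_of_ne_top (k : Type u) [Field k] (Y : Scheme.{u})
    [Y.Over (Spec (CommRingCat.of k))] [IsProper (Y ↘ (Spec (CommRingCat.of k)))]
    [IsIntegral Y] (hdim : topologicalKrullDim Y = 1) (U : Y.Opens)
    (hne : (U : Set Y).Nonempty) (y₀ : Y) (hy₀ : y₀ ∉ U) : IsAffineOpen U := by
  classical
  haveI : IsNoetherian Y := VB5.isNoetherian_of_proper k (Y ↘ (Spec (CommRingCat.of k)))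
  have hUd : Dense (U : Set Y) := U.isOpen.dense hne
  have hfin : ((U : Set Y)ᶜ).Finite :=
    FinCurve.finite_of_isClosed_of_dense_compl hdim.le _ U.isOpen.isClosed_compl
      (by rwa [compl_compl])
  have hcl : ∀ z ∈ (U : Set Y)ᶜ, IsClosed ({z} : Set Y) := fun z hz =>
    FinCurve.isClosed_singleton_of_notMem_dense hdim.le U U.isOpen hUd z hz
  have hdisc : DiscreteTopology ↥((U : Set Y)ᶜ) :=
    PicGlue.discreteTopology_of_finite_of_isClosed _ hfin hcl
  have hloc : ∀ x : Y, x ∉ U → IsNoetherianRing (Y.presheaf.stalk x) ∧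
      ringKrullDim (Y.presheaf.stalk x) ≤ 1 := fun x _ =>
    ⟨inferInstance,
      (Groth.Agent.Lib.Helper4.BirationalNormal1.ringKrullDim_stalk_le_topologicalKrullDim Y
        x).trans hdim.le⟩
  haveI : QuasiCompact U.ι := inferInstance
  obtain ⟨L, s, hL, hLs⟩ := PicGlue.main_S7669_1 Y U hdisc hloc
  have hs : s ≠ 0 := by
    intro h0
    rw [h0, SecOps.genLocus_zero hL] at hLs
    obtain ⟨z, hz⟩ := hne
    rw [← hLs] at hz
    exact hz
  have hdeg := Curve.deg_pos_of_section_vanishing k Y hdim hL s hs y₀ (hLs ▸ hy₀)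
  have hamp := CurveAmp.isAmple_of_deg_pos k Y hdim hL hdeg
  obtain ⟨n₀, hn₀⟩ := AmpleLib.eventually_globallyGenerated hamp (Coh.structureModule Y)
    (Dv.isCoh_structureModule Y)
  have hgg : Curv2.IsGloballyGenerated (CohB1.tensorPow L (n₀ + 1)) :=
    AmpleLib.isGloballyGenerated_of_iso (ThmB.unitL _) (hn₀ (n₀ + 1) (by omega))
  have hG := TwForm.isInvertible_tensorPow hL (n₀ + 1)
  obtain ⟨r, φ, hφ0, hcov⟩ := NM.exists_sections k Y _ hG hgg (SecTwist.powHom s (n₀ + 1))
  have hloc0 : CohB1.genLocus _ (φ 0) = U := by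
    rw [hφ0, AmpleLib.genLocus_powHom hL s n₀, hLs]
  have haff := NM.isAffineOpen_genLocus_of_no_curves k Y _ hG r φ hcov 0 (by
    intro ξ hξ hsub
    have hξg := Euler.eq_genericPoint_of_dim_closure Y hdim ξ hξ
    have hy : y₀ ∈ closure ({ξ} : Set Y) := by
      rw [hξg]
      exact (genericPoint_specializes y₀).mem_closure
    have := hsub hy
    rw [hloc0] at this
    exact hy₀ this)
  rw [hloc0] at haff
  exact haff

set_option maxHeartbeats 1600000 in
/-- **S1627** -/
theorem affine_or_projective (k : Type u) [Field k] (X : Scheme.{u})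
    [X.Over (Spec (CommRingCat.of k))] [IsIntegral X]
    [IsSeparated (X ↘ (Spec (CommRingCat.of k)))]
    [LocallyOfFiniteType (X ↘ (Spec (CommRingCat.of k)))]
    [QuasiCompact (X ↘ (Spec (CommRingCat.of k)))] (hdim : topologicalKrullDim X = 1) :
    IsAffine X ∨ ∃ (d : ℕ) (c : X ⟶ CohB1.ProjSpace d k), IsClosedImmersion c ∧
      c ≫ CohB1.ProjSpace.toSpec d k = X ↘ (Spec (CommRingCat.of k)) := by
  obtain ⟨n, i, hi, hqi, hif⟩ := exists_immersion k X hdim.le
  haveI := hi
  haveI := hqi
  by_cases hsurj : Function.Surjective i.toImage.base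
  · right
    haveI : Surjective i.toImage := ⟨hsurj⟩
    haveI : IsIso i.toImage :=
      (isIso_iff_isOpenImmersion_and_surjective _).2 ⟨inferInstance, inferInstance⟩
    refine ⟨n, i, ?_, hif⟩
    rw [← i.toImage_imageι]
    infer_instance
  · left
    obtain ⟨y₀, hy₀⟩ : ∃ y₀ : i.image, y₀ ∉ Set.range i.toImage.base := by
      by_contra h
      push Not at h
      exact hsurj (fun y => h y)
    letI : i.image.Over (Spec (CommRingCat.of k)) :=
      ⟨i.imageι ≫ CohB1.ProjSpace.toSpec n k⟩
    haveI : IsProper (i.image ↘ Spec (CommRingCat.of k)) := by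
      show IsProper (i.imageι ≫ CohB1.ProjSpace.toSpec n k)
      infer_instance
    haveI : LocallyOfFiniteType (i.image ↘ Spec (CommRingCat.of k)) := inferInstance
    haveI : IsSchemeTheoreticallyDominant i.toImage :=
      ⟨Groth.Agent.Helper3.ker_toImage_eq_bot i⟩
    haveI : IsReduced i.image := IsSchemeTheoreticallyDominant.isReduced i.toImage
    haveI : IrreducibleSpace i.image := by
      have h1 : IsIrreducible (Set.range i.toImage.base) := by
        rw [← Set.image_univ]
        exact (IrreducibleSpace.isIrreducible_univ X).image _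
          i.toImage.continuous.continuousOn
      have h2 : IsIrreducible (closure (Set.range i.toImage.base)) := h1.closure
      rw [i.toImage.denseRange.closure_eq] at h2
      exact (irreducibleSpace_def _).2 h2
    haveI : IsIntegral i.image := isIntegral_of_irreducibleSpace_of_isReduced _
    have hU1 : topologicalKrullDim ↥(Set.range i.toImage.base) = 1 := by
      apply le_antisymm
      · exact (dim_range_le i.toImage).trans hdim.le
      · rw [← hdim]
        exact (i.toImage.isOpenEmbedding.toIsEmbedding.toHomeomorph).isInducing.topologicalKrullDim_le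
    have hne : ((i.toImage.opensRange : i.image.Opens) : Set i.image).Nonempty :=
      ⟨i.toImage.base (genericPoint X), ⟨_, rfl⟩⟩
    have hdimY : topologicalKrullDim i.image = 1 := by
      rw [← Groth.Agent.Lib.Helper4.DimFT4.S1618_main k i.image i.toImage.opensRange hne]
      exact hU1
    have haff := isAffineOpen_of_ne_top k i.image hdimY i.toImage.opensRange hne y₀ hy₀
    haveI : IsAffine (i.toImage.opensRange : Scheme.{u}) := haff
    exact IsAffine.of_isIso i.toImage.isoOpensRange.hom

end Groth.Agent.Helper1.CurveQP
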