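import Mathlib
import Groth.Agent.Lib.Helper1.Euler5
import Groth.Agent.Lib.Helper1.Curve5
import Groth.Agent.Lib.Helper1.SnapCyc1

/-!
# The degree of a locally free module on a proper scheme of dimension at most one is the sum of
the degrees on the components, with multiplicities (helper1)
-/

set_option autoImplicit false
universe u
open CategoryTheory CategoryTheory.Limits AlgebraicGeometry TopologicalSpace Opposite

namespace Groth.Agent.Helper1.DegComp

open Groth.Agent.Helper1 Groth.Agent.Helper1.Euler Groth.Agent.Helper1.Dv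
open Groth.Agent.Helper1.FinLen Groth.Agent.Helper1.TwForm Groth.Agent.Helper1.Curve

/-- an irreducible closed subset of dimension one of a space of dimension at most one is an
irreducible component -/
theorem mem_irreducibleComponents_of_dim_one {T : Type*} [TopologicalSpace T]
    (hdim : topologicalKrullDim T ≤ 1) (ξ : T)
    (hd : topologicalKrullDim (closure ({ξ} : Set T)) = ((1 : ℕ) : WithBot ℕ∞)) :
    closure ({ξ} : Set T) ∈ irreducibleComponents T := by
  have hirr : IsIrreducible (closure ({ξ} : Set T)) := isIrreducible_singleton.closure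
  obtain ⟨Z', hZ', hsub⟩ := exists_mem_irreducibleComponents_subset_of_isIrreducible _ hirr
  by_cases heq : closure ({ξ} : Set T) = Z'
  · rw [heq]; exact hZ'
  · exfalso
    have hss : closure ({ξ} : Set T) ⊂ Z' := Set.ssubset_iff_subset_ne.2 ⟨hsub, heq⟩
    have h1 := FinLen.krullDim_add_one_le_of_ssubset hirr isClosed_closure hZ'.1 hss
    have h2 : topologicalKrullDim ↥Z' ≤ topologicalKrullDim T := topologicalKrullDim_subspace_le T Z'
    rw [hd] at h1
    have h3 := h1.trans (h2.trans hdim)
    have h5 : ((1 + 1 : ℕ∞) : WithBot ℕ∞) ≤ ((1 : ℕ∞) : WithBot ℕ∞) := by exact_mod_cast h3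
    have h6 : (1 : ℕ∞) + 1 ≤ 1 := WithBot.coe_le_coe.1 h5
    have h7 : ((1 + 1 : ℕ) : ℕ∞) ≤ ((1 : ℕ) : ℕ∞) := by exact_mod_cast h6
    have h8 : 1 + 1 ≤ 1 := by exact_mod_cast h7
    omega

theorem radical_irreducibleComponentIdeal (X : Scheme.{u}) [IsNoetherian X] (C : Set X)
    (hC : C ∈ irreducibleComponents (X : Type u)) :
    (X.irreducibleComponentIdeal C hC).radical =
      Scheme.IdealSheafData.vanishingIdeal ⟨C, isClosed_of_mem_irreducibleComponents C hC⟩ := by
  rw [← Scheme.IdealSheafData.vanishingIdeal_support]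
  congr 1

variable (k : Type u) [Field k] (X : Scheme.{u}) [X.Over (Spec (CommRingCat.of k))]
  [IsProper (X ↘ (Spec (CommRingCat.of k)))]

/-- the contribution of a point to the degree -/
noncomputable def ptTerm (n : ℕ) (E : X.Modules) (ξ : X) : ℤ :=
  if topologicalKrullDim (closure ({ξ} : Set X)) = ((1 : ℕ) : WithBot ℕ∞) then
    ((Module.length (X.presheaf.stalk ξ) ((Coh.structureModule X).presheaf.stalk ξ)).toNat : ℤ) *
      psi k X n E (Cyc.closureStructureSheaf ξ)
  else 0

theorem deg_eq_finsum_points [IsNoetherian X] (hdim : topologicalKrullDim X ≤ 1) (n : ℕ)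
    (E : X.Modules) (hE : FlatMod.IsFinLocFreeOfRank n E) :
    Curv2.deg k X E n = ∑ᶠ ξ : X, ptTerm k X n E ξ := by
  have hO := isCoh_structureModule X
  have hdimO : topologicalKrullDim ↥(CohB1.support (Coh.structureModule X)) ≤
      ((1 : ℕ) : WithBot ℕ∞) := by
    have := (topologicalKrullDim_subspace_le X (CohB1.support (Coh.structureModule X))).trans hdim
    simpa using this
  have h := k0_cycle_congr 1 (Coh.structureModule X) hO hdimO
  have hker : AddSubgroup.closure {c : KZero.K0sub (PC X) |
        ∃ G : X.Modules, Coh.IsCoh G ∧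
          topologicalKrullDim ↥(CohB1.support G) < ((1 : ℕ) : WithBot ℕ∞) ∧
          c = KZero.clSub (PC X) G} ≤ (psiHom k X n E hE).ker := by
    rw [AddSubgroup.closure_le]
    rintro _ ⟨G, hG, hd, rfl⟩
    change psiHom k X n E hE (KZero.clSub (PC X) G) = 0
    rw [psiHom_clSub k X n E hE G hG]
    exact psi_eq_zero_of_dim_lt_one k X n E hE G hG hd
  have h0 : psiHom k X n E hE (KZero.clSub (PC X) (Coh.structureModule X) -
      cyc 1 (Coh.structureModule X)) = 0 := hker h
  rw [map_sub, sub_eq_zero, psiHom_clSub k X n E hE _ hO] at h0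
  have hdeg : psi k X n E (Coh.structureModule X) = Curv2.deg k X E n := by
    unfold psi Curv2.deg
    have e0 : Curv2.euler k X (CohB1.tensorMod E (Coh.structureModule X)) = Curv2.euler k X E :=
      euler_iso k X (Groth.Agent.Lib.Helper5.LTenFlf.tensorUnitIso E)
    rw [e0]
  rw [← hdeg, h0]
  have hfin := cyc_support_finite (CohB1.support (Coh.structureModule X))
    (FtGen.isClosed_support _ hO.2) 1 hdimO (Coh.structureModule X) subset_rfl
  unfold cyc
  rw [AddMonoidHom.map_finsum (psiHom k X n E hE) hfin]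
  refine finsum_congr fun ξ => ?_
  unfold ptTerm
  by_cases hξ : topologicalKrullDim (closure ({ξ} : Set X)) = ((1 : ℕ) : WithBot ℕ∞)
  · rw [if_pos hξ, if_pos hξ, map_nsmul, nsmul_eq_mul,
      psiHom_clSub k X n E hE _ (isCoh_closureStructureSheaf ξ)]
  · rw [if_neg hξ, if_neg hξ, map_zero]

/-- `ψ` of a pushed forward structure sheaf is the degree of the pullback -/
theorem psi_pushO (Y : Scheme.{u}) [Y.Over (Spec (CommRingCat.of k))] (f : Y ⟶ X) [IsAffineHom f]
    (hf : f ≫ (X ↘ Spec (CommRingCat.of k)) = Y ↘ Spec (CommRingCat.of k)) (n : ℕ)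
    (E : X.Modules) (hE : FlatMod.IsFinLocFreeOfRank n E) :
    psi k X n E (pushO f) = Curv2.deg k Y ((Scheme.Modules.pullback f).obj E) n := by
  have hEf : FlatMod.IsFinLocFree E := isFinLocFree_of_rank hE
  haveI : (Coh.structureModule Y).IsQuasicoherent :=
    InvQc.isQuasicoherent_of_isInvertible _ GenLoc.isInvertible_O
  have h1 := Curve.euler_pullback_eq k X Y f hf E hEf
  have h2 := Curve.euler_push k X Y f hf (Coh.structureModule Y)
  unfold psi Curv2.deg
  rw [h1, ← h2]

theorem psi_closureStructureSheaf (n : ℕ) (E : X.Modules) (hE : FlatMod.IsFinLocFreeOfRank n E)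
    (ξ : X) :
    psi k X n E (Cyc.closureStructureSheaf ξ) =
      @Curv2.deg k _ (IntMult.ptIdeal ξ).subscheme
        ⟨(IntMult.ptIdeal ξ).subschemeι ≫ (X ↘ Spec (CommRingCat.of k))⟩
        ((Scheme.Modules.pullback (IntMult.ptIdeal ξ).subschemeι).obj E) n := by
  letI : (IntMult.ptIdeal ξ).subscheme.Over (Spec (CommRingCat.of k)) :=
    ⟨(IntMult.ptIdeal ξ).subschemeι ≫ (X ↘ Spec (CommRingCat.of k))⟩
  exact psi_pushO k X (IntMult.ptIdeal ξ).subscheme (IntMult.ptIdeal ξ).subschemeι rfl n E hE

omit [IsProper (X ↘ (Spec (CommRingCat.of k)))] in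
theorem deg_congr_ideal (J J' : X.IdealSheafData) (h : J = J') (n : ℕ) (E : X.Modules) :
    @Curv2.deg k _ J.subscheme ⟨J.subschemeι ≫ (X ↘ Spec (CommRingCat.of k))⟩
        ((Scheme.Modules.pullback J.subschemeι).obj E) n =
      @Curv2.deg k _ J'.subscheme ⟨J'.subschemeι ≫ (X ↘ Spec (CommRingCat.of k))⟩
        ((Scheme.Modules.pullback J'.subschemeι).obj E) n := by
  subst h; rfl

/-- **S1641** -/
theorem main [IsNoetherian X] (hdim : topologicalKrullDim X ≤ 1)
    (n : ℕ) (E : X.Modules) (hE : FlatMod.IsFinLocFreeOfRank n E) :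
    Curv2.deg k X E n = ∑ᶠ Z : irreducibleComponents (X : Type u),
      (if topologicalKrullDim (Z.1 : Set X) = 1 then
        ((Module.length (X.presheaf.stalk Z.2.1.genericPoint)
            (X.presheaf.stalk Z.2.1.genericPoint)).toNat : ℤ) *
          @Curv2.deg k _ (X.irreducibleComponentIdeal Z.1 Z.2).radical.subscheme
            ⟨(X.irreducibleComponentIdeal Z.1 Z.2).radical.subschemeι ≫
              (X ↘ (Spec (CommRingCat.of k)))⟩
            ((Scheme.Modules.pullback
              (X.irreducibleComponentIdeal Z.1 Z.2).radical.subschemeι).obj E) n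
      else 0) := by
  classical
  rw [deg_eq_finsum_points k X hdim n E hE]
  obtain ⟨e, he⟩ : ∃ e : irreducibleComponents (X : Type u) → X,
    ∀ Z, e Z = Z.2.1.genericPoint := ⟨fun Z => Z.2.1.genericPoint, fun _ => rfl⟩
  have hgen : ∀ Z : irreducibleComponents (X : Type u), closure {e Z} = Z.1 := fun Z => by
    rw [he]
    exact (Z.2.1.isGenericPoint_genericPoint (isClosed_of_mem_irreducibleComponents Z.1 Z.2)).def
  have hinj : Function.Injective e := by
    intro Z Z' h
    apply Subtype.ext
    rw [← hgen Z, ← hgen Z', h]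
  have hsupp : Function.support (ptTerm k X n E) ⊆ Set.range e := by
    intro ξ hξ
    rw [Function.mem_support] at hξ
    have hd : topologicalKrullDim (closure ({ξ} : Set X)) = ((1 : ℕ) : WithBot ℕ∞) := by
      by_contra hne
      exact hξ (if_neg hne)
    have hcomp : closure ({ξ} : Set X) ∈ irreducibleComponents (X : Type u) :=
      mem_irreducibleComponents_of_dim_one hdim ξ hd
    refine ⟨⟨closure {ξ}, hcomp⟩, ?_⟩
    have h1 : IsGenericPoint (e ⟨closure {ξ}, hcomp⟩) (closure {ξ}) := hgen ⟨closure {ξ}, hcomp⟩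
    have h2 : IsGenericPoint ξ (closure {ξ}) := rfl
    exact h1.eq h2
  have h1 : ∑ᶠ ξ, ptTerm k X n E ξ = ∑ᶠ ξ ∈ Set.range e, ptTerm k X n E ξ := by
    rw [← finsum_mem_univ]
    exact finsum_mem_inter_support_eq _ _ _
      (by rw [Set.univ_inter, Set.inter_eq_right.mpr hsupp])
  rw [h1, finsum_mem_range hinj]
  refine finsum_congr fun Z => ?_
  have hcl := hgen Z
  unfold ptTerm
  by_cases hZ1 : topologicalKrullDim (Z.1 : Set X) = 1
  · have hd : topologicalKrullDim (closure ({e Z} : Set X)) = ((1 : ℕ) : WithBot ℕ∞) := by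
      rw [hcl, hZ1]; exact Nat.cast_one.symm
    rw [if_pos hZ1, if_pos hd]
    have hlen : Module.length (X.presheaf.stalk (e Z))
        ((Coh.structureModule X).presheaf.stalk (e Z)) =
        Module.length (X.presheaf.stalk (e Z)) (X.presheaf.stalk (e Z)) :=
      ((Groth.Agent.Lib.Helper5.StalkAdj.stalkUnitIso X (e Z)).toLinearEquiv.length_eq).symm
    have hpsi : psi k X n E (Cyc.closureStructureSheaf (e Z)) =
        @Curv2.deg k _ (X.irreducibleComponentIdeal Z.1 Z.2).radical.subscheme
          ⟨(X.irreducibleComponentIdeal Z.1 Z.2).radical.subschemeι ≫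
            (X ↘ (Spec (CommRingCat.of k)))⟩
          ((Scheme.Modules.pullback
            (X.irreducibleComponentIdeal Z.1 Z.2).radical.subschemeι).obj E) n := by
      rw [psi_closureStructureSheaf k X n E hE (e Z)]
      apply deg_congr_ideal
      rw [radical_irreducibleComponentIdeal X Z.1 Z.2]
      change Scheme.IdealSheafData.vanishingIdeal _ = _
      congr 1
      exact Closeds.ext hcl
    rw [hlen, hpsi, he]
  · have hd : ¬ topologicalKrullDim (closure ({e Z} : Set X)) = ((1 : ℕ) : WithBot ℕ∞) := by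
      rw [hcl]; intro h; exact hZ1 (h.trans Nat.cast_one)
    rw [if_neg hZ1, if_neg hd]

end Groth.Agent.Helper1.DegComp
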