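import Mathlib

/-!
# Scheme-theoretic image of a morphism from a reduced scheme

Helper library of helper1.
-/

set_option autoImplicit false

namespace Groth.Agent.Helper1.SchImgRed

open AlgebraicGeometry CategoryTheory Scheme IdealSheafData TopologicalSpace

universe u

theorem mul_eq_zero_of_res_basicOpen_eq_zero {X : Scheme.{u}} [IsReduced X] {U : X.Opens}
    (x f : Γ(X, U)) (H : x |_ X.basicOpen f = 0) : f * x = 0 := by
  apply eq_zero_of_basicOpen_eq_bot
  rw [Scheme.basicOpen_mul]
  have H' : (X.presheaf.map (homOfLE (X.basicOpen_le f)).op) x = 0 := H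
  have h1 := Scheme.basicOpen_res X x (homOfLE (X.basicOpen_le f)).op
  rw [H', Scheme.basicOpen_zero] at h1
  exact h1.symm

set_option backward.defeqAttrib.useBackward true in
set_option backward.isDefEq.respectTransparency false in
theorem ker_apply_of_isReduced {X Y : Scheme.{u}} [IsReduced X] (f : X.Hom Y) (U : Y.affineOpens) :
    f.ker.ideal U = RingHom.ker (f.app U).hom := by
  let I : IdealSheafData Y := ⟨fun U ↦ RingHom.ker (f.app U).hom, ?_, _, rfl⟩
  · exact congr($(ofIdeals_ideal I).ideal U)
  intro U s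
  apply le_antisymm
  · refine Ideal.map_le_iff_le_comap.mpr fun x hx ↦ ?_
    simp_rw [RingHom.comap_ker, ← CommRingCat.hom_comp, Scheme.affineBasicOpen_coe, f.naturality,
      CommRingCat.hom_comp, ← RingHom.comap_ker]
    exact Ideal.ker_le_comap _ hx
  · intro x hx
    have := U.2.isLocalization_basicOpen s
    obtain ⟨x, ⟨_, n, rfl⟩, rfl⟩ := IsLocalization.exists_mk'_eq (.powers s) x
    refine (IsLocalization.mk'_mem_map_algebraMap_iff _ _ _ _ _).mpr ?_
    suffices ∃ (V : X.Opens) (hV : V = X.basicOpen ((f.app U).hom s)),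
        letI := hV.trans_le (X.basicOpen_le _); ((f.app U).hom x |_ V) = 0 by
      obtain ⟨_, rfl, H⟩ := this
      have hn := mul_eq_zero_of_res_basicOpen_eq_zero (X := X) (U := f ⁻¹ᵁ U)
        (f.app U x) (f.app U s) H
      exact ⟨s, ⟨1, pow_one s⟩, by simpa using hn⟩
    refine ⟨f ⁻¹ᵁ Y.basicOpen s, by simp, ?_⟩
    replace hx : (Y.presheaf.map (homOfLE (Y.basicOpen_le s)).op ≫ f.app _).hom x = 0 := by
      trans (f.app (Y.basicOpen s)).hom (algebraMap Γ(Y, U) _ x)
      · simp [-NatTrans.naturality, RingHom.algebraMap_toAlgebra]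
      · simp only [Scheme.affineBasicOpen_coe, RingHom.mem_ker] at hx
        rw [← IsLocalization.mk'_spec' (M := .powers s), map_mul, hx, mul_zero]
    rwa [f.naturality] at hx

theorem support_ker_of_isReduced {X Y : Scheme.{u}} [IsReduced X] (π : X ⟶ Y) :
    (π.ker.support : Set Y) = closure (Set.range π) := by
  apply subset_antisymm
  · intro y hy
    by_contra hyZ
    obtain ⟨_, ⟨U, hU, rfl⟩, hyU, -⟩ :=
      Y.isBasis_affineOpens.exists_subset_of_mem_open (Set.mem_univ y) isOpen_univ
    let W : Y.Opens := U ⊓ ⟨(closure (Set.range π))ᶜ, isClosed_closure.isOpen_compl⟩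
    have hyW : y ∈ W := ⟨hyU, hyZ⟩
    obtain ⟨s, hsW, hys⟩ := hU.exists_basicOpen_le ⟨y, hyW⟩ hyU
    have h0 : X.basicOpen ((π.app U).hom s) = ⊥ := by
      rw [← Scheme.preimage_basicOpen]
      ext x
      simp only [Opens.coe_bot, Set.mem_empty_iff_false, iff_false]
      intro hx
      have h1 : π x ∈ W := hsW hx
      exact h1.2 (subset_closure ⟨x, rfl⟩)
    have h1 : (π.app U).hom s = 0 := eq_zero_of_basicOpen_eq_bot _ h0
    have h2 : s ∈ π.ker.ideal ⟨U, hU⟩ := by
      rw [ker_apply_of_isReduced]
      exact h1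
    have h3 := ((coe_support_inter π.ker ⟨U, hU⟩).le ⟨hy, hyU⟩).1
    rw [Scheme.mem_zeroLocus_iff] at h3
    exact h3 s h2 hys
  · rw [(support _).isClosed.closure_subset_iff]
    exact π.range_subset_ker_support

theorem ker_radical_of_isReduced {X Y : Scheme.{u}} [IsReduced X] (f : X ⟶ Y) :
    f.ker.radical = f.ker := by
  ext U : 2
  rw [radical_ideal, ker_apply_of_isReduced]
  apply le_antisymm _ Ideal.le_radical
  rintro x ⟨n, hn⟩
  rw [RingHom.mem_ker] at hn ⊢
  rw [map_pow] at hn
  exact eq_zero_of_pow_eq_zero hn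

theorem ker_eq_of_closure_range_eq {X₁ X₂ Y : Scheme.{u}} [IsReduced X₁] [IsReduced X₂]
    (f₁ : X₁ ⟶ Y) (f₂ : X₂ ⟶ Y) (h : closure (Set.range f₁) = closure (Set.range f₂)) :
    f₁.ker = f₂.ker := by
  rw [← ker_radical_of_isReduced f₁, ← ker_radical_of_isReduced f₂, ← vanishingIdeal_support,
    ← vanishingIdeal_support]
  congr 1
  apply Closeds.ext
  rw [support_ker_of_isReduced, support_ker_of_isReduced, h]

theorem S2262 (S X : Scheme.{u}) [IsIntegral S] (p : X ⟶ S) [IsSeparated p]
    (f g : S ⟶ X) (hf : f ≫ p = 𝟙 S) (hg : g ≫ p = 𝟙 S)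
    (h : f (genericPoint S) = g (genericPoint S)) : f = g := by
  have h1 : IsClosedImmersion (f ≫ p) := by rw [hf]; infer_instance
  have h2 : IsClosedImmersion (g ≫ p) := by rw [hg]; infer_instance
  have hfc : IsClosedImmersion f := IsClosedImmersion.of_comp f p
  have hgc : IsClosedImmersion g := IsClosedImmersion.of_comp g p
  have hcl : ∀ (k : S ⟶ X), closure (Set.range k) = closure {k (genericPoint S)} := by
    intro k
    apply subset_antisymm
    · have h3 : Set.range k = k '' (closure {genericPoint S}) := by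
        rw [(genericPoint_spec S).def, Set.image_univ]
      rw [h3]
      refine closure_minimal ?_ isClosed_closure
      refine (image_closure_subset_closure_image k.continuous).trans ?_
      rw [Set.image_singleton]
    · exact closure_mono (Set.singleton_subset_iff.mpr ⟨_, rfl⟩)
  have hker : f.ker = g.ker := ker_eq_of_closure_range_eq f g (by rw [hcl f, hcl g, h])
  have hα : IsClosedImmersion.lift f g hker.le ≫ f = g := IsClosedImmersion.lift_fac f g hker.le
  have hα1 : IsClosedImmersion.lift f g hker.le = 𝟙 S := by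
    calc IsClosedImmersion.lift f g hker.le
        = IsClosedImmersion.lift f g hker.le ≫ f ≫ p := by rw [hf, Category.comp_id]
      _ = g ≫ p := by rw [← Category.assoc, hα]
      _ = 𝟙 S := hg
  rw [← hα, hα1, Category.id_comp]

theorem isReduced_subscheme_of_isRadical {X : Scheme.{u}} (I : X.IdealSheafData)
    (h : ∀ U : X.affineOpens, (I.ideal U).IsRadical) : IsReduced I.subscheme := by
  have : ∀ i, IsReduced (I.subschemeCover.openCover.X i) := by
    intro U
    have h1 : _root_.IsReduced (Γ(X, U.1) ⧸ I.ideal U) :=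
      (Ideal.isRadical_iff_quotient_reduced _).mp (h U)
    show IsReduced (Spec (.of (Γ(X, U.1) ⧸ I.ideal U)))
    infer_instance
  exact IsReduced.of_openCover _ I.subschemeCover.openCover

theorem isRadical_ideal_of_isReduced_subscheme {X : Scheme.{u}} (I : X.IdealSheafData)
    [IsReduced I.subscheme] (U : X.affineOpens) : (I.ideal U).IsRadical := by
  rw [Ideal.isRadical_iff_quotient_reduced]
  exact isReduced_of_injective (I.subschemeObjIso U).commRingCatIsoToRingEquiv.symm.toRingHom
    (I.subschemeObjIso U).commRingCatIsoToRingEquiv.symm.injective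

theorem S4368 (X : Scheme.{u}) (I : X.IdealSheafData) (hI : I.support = ⊤) :
    IsReduced I.subscheme ↔ I = X.nilradical := by
  constructor
  · intro h
    have h1 : I.radical = I := by
      ext U : 2
      rw [radical_ideal]
      exact (isRadical_ideal_of_isReduced_subscheme I U).radical
    rw [← h1, ← vanishingIdeal_support, hI, vanishingIdeal_top]
  · rintro rfl
    apply isReduced_subscheme_of_isRadical
    intro U
    show ((⊥ : X.IdealSheafData).radical.ideal U).IsRadical
    rw [radical_ideal]
    exact Ideal.radical_isRadical _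

theorem isRadical_ker_of_isReduced {R S : Type*} [CommRing R] [CommRing S] [_root_.IsReduced S]
    (φ : R →+* S) : (RingHom.ker φ).IsRadical := by
  rintro x ⟨n, hn⟩
  rw [RingHom.mem_ker] at hn ⊢
  rw [map_pow] at hn
  exact eq_zero_of_pow_eq_zero hn

theorem isReduced_image {X Y : Scheme.{u}} (f : X ⟶ Y) [IsReduced X] : IsReduced f.image := by
  apply isReduced_subscheme_of_isRadical
  intro U
  rw [ker_apply_of_isReduced]
  exact isRadical_ker_of_isReduced _

theorem S2266 {X Y : Scheme.{u}} (f : X ⟶ Y) [IsReduced X] :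
    IsReduced f.image ∧ (QuasiCompact f → IrreducibleSpace X → IrreducibleSpace f.image) := by
  refine ⟨isReduced_image f, ?_⟩
  intro hqc hirr
  have h1 : IsIrreducible (Set.range f.toImage) := by
    rw [← Set.image_univ]
    exact (irreducibleSpace_def X).mp hirr |>.image _ f.toImage.continuous.continuousOn
  have h2 := h1.closure
  rw [f.toImage.denseRange.closure_range] at h2
  exact (irreducibleSpace_def _).mpr h2

set_option backward.isDefEq.respectTransparency false in
open Scheme in
theorem isPullback_toImage_liftCoborder_of_isReduced {X Y : Scheme.{u}} (f : X ⟶ Y)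
    [IsImmersion f] [IsReduced X] :
    IsPullback f.toImage f.liftCoborder f.imageι f.coborderRange.ι := by
  refine (isPullback_of_isClosedImmersion _ _ _ _ (by simp) ?_).flip
  rw [Hom.imageι, IdealSheafData.ker_subschemeι]
  ext U : 2
  simp only [IdealSheafData.ideal_comap_of_isOpenImmersion, Opens.ι_appIso, Iso.refl_inv,
    Hom.ker_apply, ker_apply_of_isReduced, RingHom.comap_ker, ← CommRingCat.hom_comp]
  dsimp [Opens.toScheme_presheaf_obj]
  rw [RingHomCompTriple.comp_eq, liftCoborder_app,
    CommRingCat.hom_comp, RingHom.ker_comp_of_injective]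
  rw [← ConcreteCategory.mono_iff_injective_of_preservesPullback]
  infer_instance

theorem isOpenImmersion_toImage_of_isReduced {X Y : Scheme.{u}} (f : X ⟶ Y)
    [IsImmersion f] [IsReduced X] : IsOpenImmersion f.toImage :=
  MorphismProperty.of_isPullback (isPullback_toImage_liftCoborder_of_isReduced f).flip
    inferInstance

theorem S4372 {Z X : Scheme.{u}} (h : Z ⟶ X) [IsImmersion h] [IsReduced Z] :
    ∃ (W : Scheme.{u}) (j : Z ⟶ W) (i : W ⟶ X), IsOpenImmersion j ∧ IsClosedImmersion i ∧
      IsReduced W ∧ Set.range i = closure (Set.range h) ∧ j ≫ i = h := by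
  refine ⟨h.image, h.toImage, h.imageι, isOpenImmersion_toImage_of_isReduced h, inferInstance,
    isReduced_image h, ?_, h.toImage_imageι⟩
  rw [Scheme.Hom.imageι, IdealSheafData.range_subschemeι, support_ker_of_isReduced]

theorem range_eq_preimage_of_comp {Y W X : Scheme.{u}} (k : Y ⟶ W) (c : W ⟶ X) (i : Y ⟶ X)
    (hc : Function.Injective c) (h : k ≫ c = i) : Set.range k = c ⁻¹' (Set.range i) := by
  ext w
  constructor
  · rintro ⟨y, rfl⟩
    exact ⟨y, by rw [← h, Scheme.Hom.comp_apply]⟩
  · rintro ⟨y, hy⟩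
    refine ⟨y, hc ?_⟩
    rw [← hy, ← h, Scheme.Hom.comp_apply]

theorem exists_reduced_immersion (X : Scheme.{u}) (Z : Set X) (hZ : IsLocallyClosed Z) :
    ∃ (Y : Scheme.{u}) (i : Y ⟶ X), IsImmersion i ∧ IsReduced Y ∧ Set.range i = Z := by
  let C : Closeds X := ⟨closure Z, isClosed_closure⟩
  let I : X.IdealSheafData := vanishingIdeal C
  have hW : IsReduced I.subscheme := by
    apply isReduced_subscheme_of_isRadical
    intro U
    rw [vanishingIdeal_ideal]
    exact PrimeSpectrum.isRadical_vanishingIdeal _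
  let U : X.Opens := ⟨coborder Z, hZ.isOpen_coborder⟩
  let V : I.subscheme.Opens := I.subschemeι ⁻¹ᵁ U
  refine ⟨V.toScheme, V.ι ≫ I.subschemeι, inferInstance, inferInstance, ?_⟩
  rw [Scheme.Hom.comp_base, TopCat.coe_comp, Set.range_comp, Scheme.Opens.range_ι]
  show I.subschemeι '' (I.subschemeι ⁻¹' (coborder Z)) = Z
  rw [Set.image_preimage_eq_inter_range, IdealSheafData.range_subschemeι,
    coe_support_vanishingIdeal]
  exact coborder_inter_closure

theorem exists_iso_of_reduced_immersions {X : Scheme.{u}} (Z : Set X) (Y Y' : Scheme.{u})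
    (i : Y ⟶ X) (i' : Y' ⟶ X) [IsImmersion i] [IsReduced Y] [IsImmersion i'] [IsReduced Y']
    (hi : Set.range i = Z) (hi' : Set.range i' = Z) : ∃ e : Y ≅ Y', e.hom ≫ i' = i := by
  have hker : i'.imageι.ker = i.imageι.ker := by
    rw [Scheme.Hom.imageι, Scheme.Hom.imageι, IdealSheafData.ker_subschemeι,
      IdealSheafData.ker_subschemeι]
    exact ker_eq_of_closure_range_eq i' i (by rw [hi, hi'])
  have : IsIso (IsClosedImmersion.lift i'.imageι i.imageι hker.le) :=
    IsClosedImmersion.isIso_lift i'.imageι i.imageι hker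
  have hφ : IsClosedImmersion.lift i'.imageι i.imageι hker.le ≫ i'.imageι = i.imageι :=
    IsClosedImmersion.lift_fac _ _ _
  have hj : IsOpenImmersion i.toImage := isOpenImmersion_toImage_of_isReduced i
  have hj' : IsOpenImmersion i'.toImage := isOpenImmersion_toImage_of_isReduced i'
  have hc' : Function.Injective i'.imageι := i'.imageι.isClosedEmbedding.injective
  have h1 : (i.toImage ≫ IsClosedImmersion.lift i'.imageι i.imageι hker.le) ≫ i'.imageι = i := by
    rw [Category.assoc, hφ, i.toImage_imageι]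
  have hr : Set.range (i.toImage ≫ IsClosedImmersion.lift i'.imageι i.imageι hker.le) =
      Set.range i'.toImage := by
    rw [range_eq_preimage_of_comp _ i'.imageι i hc' h1,
      range_eq_preimage_of_comp _ i'.imageι i' hc' i'.toImage_imageι, hi, hi']
  refine ⟨IsOpenImmersion.isoOfRangeEq _ _ hr, ?_⟩
  calc (IsOpenImmersion.isoOfRangeEq _ _ hr).hom ≫ i'
      = (IsOpenImmersion.isoOfRangeEq _ _ hr).hom ≫ (i'.toImage ≫ i'.imageι) := by
        rw [i'.toImage_imageι]
    _ = ((IsOpenImmersion.isoOfRangeEq _ _ hr).hom ≫ i'.toImage) ≫ i'.imageι := by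
        rw [Category.assoc]
    _ = i := by rw [IsOpenImmersion.isoOfRangeEq_hom_fac, h1]

theorem S2285 (X : Scheme.{u}) (Z : Set X) (hZ : IsLocallyClosed Z) :
    (∃ (Y : Scheme.{u}) (i : Y ⟶ X), IsImmersion i ∧ IsReduced Y ∧ Set.range i = Z) ∧
      ∀ (Y Y' : Scheme.{u}) (i : Y ⟶ X) (i' : Y' ⟶ X), IsImmersion i → IsReduced Y →
        IsImmersion i' → IsReduced Y' → Set.range i = Z → Set.range i' = Z →
          ∃ e : Y ≅ Y', e.hom ≫ i' = i := by
  refine ⟨exists_reduced_immersion X Z hZ, ?_⟩
  intro Y Y' i i' h1 h2 h3 h4 h5 h6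
  exact exists_iso_of_reduced_immersions Z Y Y' i i' h5 h6

end Groth.Agent.Helper1.SchImgRed
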