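import Mathlib
import Groth.Agent.Lib.Helper1.CurveQP3
import Groth.Agent.Lib.Helper1.AmpleDev4
import Groth.Agent.Lib.Helper1.PullGen2
import Groth.Agent.Lib.Helper1.DegComp1
import Groth.Agent.Lib.Helper4.GenMap2
import Groth.Agent.Lib.Helper1.SchImgRed
import Groth.Agent.Lib.Helper4.DimFT2

/-!
# Schemes of dimension at most one over a field without proper one-dimensional components are
affine (helper1, CurveQP4)
-/
set_option autoImplicit false
universe u
open CategoryTheory CategoryTheory.Limits AlgebraicGeometry TopologicalSpace Opposite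

namespace Groth.Agent.Helper1.CurveQP

open Groth.Agent.Helper1

attribute [local instance] specializationOrder in
/-- a quasi-sober `T₀` space without chains of three distinct specialisations has dimension at
most one -/
theorem dim_le_one_of_no_chain {T : Type*} [TopologicalSpace T] [QuasiSober T] [T0Space T]
    (h : ∀ a b c : T, c ⤳ b → b ⤳ a → c ≠ b → b = a) : topologicalKrullDim T ≤ 1 := by
  rw [Groth.Agent.Helper4.GM.topologicalKrullDim_eq_krullDim_specialization]
  unfold Order.krullDim
  refine iSup_le fun p => ?_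
  by_cases h2 : p.length ≤ 1
  · have h3 : p.length = 0 ∨ p.length = 1 := by omega
    rcases h3 with h | h <;> rw [h] <;> simp
  · exfalso
    push Not at h2
    have h01 : p ⟨0, by omega⟩ < p ⟨1, by omega⟩ := p.strictMono (by simp [Fin.lt_def])
    have h12 : p ⟨1, by omega⟩ < p ⟨2, by omega⟩ := p.strictMono (by simp [Fin.lt_def])
    have hba : p ⟨1, by omega⟩ ⤳ p ⟨0, by omega⟩ := h01.le
    have hcb : p ⟨2, by omega⟩ ⤳ p ⟨1, by omega⟩ := h12.le
    have := h _ _ _ hcb hba h12.ne'
    exact h01.ne this.symm

/-- a scheme locally of finite type over a field with a dense open of dimension at most one has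
dimension at most one -/
theorem dim_le_one_of_dense_open (k : Type u) [Field k] {Y : Scheme.{u}}
    (q : Y ⟶ Spec (CommRingCat.of k)) [LocallyOfFiniteType q] (U : Y.Opens)
    (hUd : Dense (U : Set Y)) (hdimU : topologicalKrullDim ↥(U : Set Y) ≤ 1) :
    topologicalKrullDim Y ≤ 1 := by
  apply dim_le_one_of_no_chain
  intro a b c hcb hba hne
  by_contra hab
  have hbncl : ¬ IsClosed ({b} : Set Y) := fun hcl => hab (by
    have h1 : a ∈ closure ({b} : Set Y) := hba.mem_closure
    rw [hcl.closure_eq] at h1
    exact (Set.mem_singleton_iff.1 h1).symm)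
  have hbU : b ∈ U := by
    by_contra hbU
    exact hbncl (FinCurve.isClosed_singleton_of_notMem_dense_of_finiteType k q U hUd hdimU b hbU)
  have hcU : c ∈ U := hcb.mem_open U.isOpen hbU
  have hbclU : IsClosed ({(⟨b, hbU⟩ : ↥(U : Set Y))} : Set ↥(U : Set Y)) := by
    refine GV1.isClosed_singleton_of_dim_le_one hdimU ⟨b, hbU⟩ ⟨c, hcU⟩
      (closure ({(⟨c, hcU⟩ : ↥(U : Set Y))} : Set ↥(U : Set Y))) isClosed_closure
      isGenericPoint_closure ?_ ?_
    · have h1 : (⟨c, hcU⟩ : ↥(U : Set Y)) ⤳ ⟨b, hbU⟩ :=
        Topology.IsInducing.subtypeVal.specializes_iff.1 hcb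
      exact h1.mem_closure
    · intro h
      exact hne (congrArg Subtype.val h).symm
  let W' : Y.Opens := ⟨Subtype.val '' ({(⟨b, hbU⟩ : ↥(U : Set Y))}ᶜ : Set ↥(U : Set Y)),
    U.isOpen.isOpenMap_subtype_val _ hbclU.isOpen_compl⟩
  have hW'U : (W' : Set Y) ⊆ U := by
    rintro _ ⟨y, -, rfl⟩
    exact y.2
  have hbW' : b ∉ W' := by
    rintro ⟨y, hy, hyb⟩
    exact hy (Subtype.ext hyb)
  have hcW' : c ∈ W' := ⟨⟨c, hcU⟩, fun h => hne (congrArg Subtype.val h), rfl⟩
  have hW'd : Dense (W' : Set Y) := by
    have hsub : (U : Set Y) ⊆ closure (W' : Set Y) := by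
      intro y hy
      by_cases hyb : y = b
      · rw [hyb]
        exact closure_mono (Set.singleton_subset_iff.2 hcW') hcb.mem_closure
      · exact subset_closure ⟨⟨y, hy⟩, fun h => hyb (congrArg Subtype.val h), rfl⟩
    exact (hUd.mono hsub).of_closure
  have hdimW' : topologicalKrullDim ↥(W' : Set Y) ≤ 1 :=
    (Groth.Agent.Lib.Helper4.DimFT2.topologicalKrullDim_mono hW'U).trans hdimU
  exact hbncl (FinCurve.isClosed_singleton_of_notMem_dense_of_finiteType k q W' hW'd hdimW' b hbW')

/-- dimension via embeddings -/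
theorem dim_eq_range {A B : Type*} [TopologicalSpace A] [TopologicalSpace B] {f : A → B}
    (hf : Topology.IsEmbedding f) :
    topologicalKrullDim A = topologicalKrullDim ↥(Set.range f) :=
  le_antisymm hf.toHomeomorph.isInducing.topologicalKrullDim_le
    hf.toHomeomorph.symm.isInducing.topologicalKrullDim_le

theorem mem_of_dense_of_generic {T : Type*} [TopologicalSpace T] [NoetherianSpace T]
    (W : Set T) (hWo : IsOpen W) (hWd : Dense W) (η : T)
    (hη : closure ({η} : Set T) ∈ irreducibleComponents T) : η ∈ W := by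
  refine FinCurve.mem_of_dense_of_isGenericPoint W hWo hWd η η ?_
  show closure ({η} : Set T) = irreducibleComponent η
  have hsub : closure ({η} : Set T) ⊆ irreducibleComponent η :=
    closure_minimal (Set.singleton_subset_iff.2 mem_irreducibleComponent)
      isClosed_irreducibleComponent
  exact subset_antisymm hsub (hη.2 isIrreducible_irreducibleComponent hsub)

set_option maxHeartbeats 3200000 in
/-- the section cutting out a dense open whose complement meets every curve restricts to an ample
module on each irreducible component -/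
theorem isAmple_on_component (k : Type u) [Field k] (Y : Scheme.{u})
    [Y.Over (Spec (CommRingCat.of k))] [IsProper (Y ↘ (Spec (CommRingCat.of k)))]
    (hdim : topologicalKrullDim Y ≤ 1) (U : Y.Opens) (hUd : Dense (U : Set Y))
    (hcurve : ∀ ξ : Y, topologicalKrullDim ↥(closure ({ξ} : Set Y)) = ((1 : ℕ) : WithBot ℕ∞) →
      ¬ (closure ({ξ} : Set Y) ⊆ (U : Set Y)))
    (L : Y.Modules) (s : Coh.structureModule Y ⟶ L) (hL : PicF.IsInvertible L)
    (hLs : CohB1.genLocus L s = U) (Z : Closeds Y)
    (hZ : (Z : Set Y) ∈ irreducibleComponents Y) :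
    CohB1.IsAmple ((Scheme.Modules.pullback
      (Scheme.IdealSheafData.vanishingIdeal Z).subschemeι).obj L) := by
  classical
  haveI : IsNoetherian Y := VB5.isNoetherian_of_proper k (Y ↘ (Spec (CommRingCat.of k)))
  set I : Y.IdealSheafData := Scheme.IdealSheafData.vanishingIdeal Z with hI
  have hsupp : (I.support : Set Y) = Z := Scheme.IdealSheafData.coe_support_vanishingIdeal Z
  have hrange : Set.range I.subschemeι.base = (Z : Set Y) := by
    rw [← hsupp]
    exact I.range_subschemeι
  have hL' := PullGen.isInvertible_pullback I.subschemeι hL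
  letI : I.subscheme.Over (Spec (CommRingCat.of k)) :=
    ⟨I.subschemeι ≫ (Y ↘ Spec (CommRingCat.of k))⟩
  haveI : IsProper (I.subscheme ↘ Spec (CommRingCat.of k)) := by
    show IsProper (I.subschemeι ≫ (Y ↘ Spec (CommRingCat.of k)))
    infer_instance
  haveI : IsNoetherian I.subscheme :=
    VB5.isNoetherian_of_proper k (I.subscheme ↘ Spec (CommRingCat.of k))
  have hdimle : topologicalKrullDim I.subscheme ≤ 1 :=
    (I.subschemeι.isEmbedding.isInducing.topologicalKrullDim_le).trans hdim
  by_cases hd1 : topologicalKrullDim I.subscheme = 1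
  · haveI : IsReduced I.subscheme := by
      apply SchImgRed.isReduced_subscheme_of_isRadical
      intro V
      rw [hI, Scheme.IdealSheafData.vanishingIdeal_ideal]
      exact PrimeSpectrum.isRadical_vanishingIdeal _
    obtain ⟨η, hη⟩ := QuasiSober.sober hZ.1 Z.isClosed
    have hηirr : closure ({η} : Set Y) ∈ irreducibleComponents Y := by
      rw [hη.def]
      exact hZ
    have hηU : η ∈ U := mem_of_dense_of_generic U U.isOpen hUd η hηirr
    have hηZ : η ∈ Set.range I.subschemeι.base := by
      rw [hrange, ← hη.def]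
      exact subset_closure rfl
    obtain ⟨η', hη'⟩ := hηZ
    haveI : IrreducibleSpace I.subscheme := by
      have h1 : IsIrreducible (Set.range I.subschemeι.base) := by
        rw [hrange]
        exact hZ.1
      have h2 : IrreducibleSpace ↥(Set.range I.subschemeι.base) :=
        isIrreducible_iff_irreducibleSpace.1 h1
      have e := I.subschemeι.isEmbedding.toHomeomorph
      have hpre : IsPreirreducible (Set.univ : Set I.subscheme) := by
        rintro O₁ O₂ hO₁ hO₂ ⟨a, -, ha⟩ ⟨b, -, hb⟩
        have h3 := h2.toPreirreducibleSpace.isPreirreducible_univ (e.symm ⁻¹' O₁) (e.symm ⁻¹' O₂)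
          (hO₁.preimage e.symm.continuous) (hO₂.preimage e.symm.continuous)
          ⟨e a, trivial, by simpa using ha⟩ ⟨e b, trivial, by simpa using hb⟩
        obtain ⟨c, -, hc1, hc2⟩ := h3
        exact ⟨e.symm c, trivial, hc1, hc2⟩
      exact { isPreirreducible_univ := hpre, toNonempty := ⟨η'⟩ }
    haveI : IsIntegral I.subscheme := isIntegral_of_irreducibleSpace_of_isReduced _
    have hdimη : topologicalKrullDim ↥(closure ({η} : Set Y)) = ((1 : ℕ) : WithBot ℕ∞) := by
      rw [hη.def, ← hrange, ← dim_eq_range I.subschemeι.isEmbedding, hd1]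
      rfl
    obtain ⟨y, hyZ, hyU⟩ : ∃ y ∈ closure ({η} : Set Y), y ∉ U := by
      by_contra hcon
      push Not at hcon
      exact hcurve η hdimη hcon
    have hyZ' : y ∈ Set.range I.subschemeι.base := by
      rw [hrange, ← hη.def]
      exact hyZ
    obtain ⟨y', hy'⟩ := hyZ'
    have hloc := PullGen.genLocus_pullback I.subschemeι hL s (PullSec.unitIso I.subschemeι).symm
    rw [hLs] at hloc
    have hs' : ((PullSec.unitIso I.subschemeι).symm.hom ≫
        (Scheme.Modules.pullback I.subschemeι).map s) ≠ 0 := by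
      intro h0
      rw [h0, SecOps.genLocus_zero hL'] at hloc
      have h1 : η' ∈ I.subschemeι ⁻¹ᵁ U := by
        show I.subschemeι.base η' ∈ U
        rw [hη']
        exact hηU
      rw [← hloc] at h1
      exact h1
    have hy'n : y' ∉ CohB1.genLocus _ ((PullSec.unitIso I.subschemeι).symm.hom ≫
        (Scheme.Modules.pullback I.subschemeι).map s) := by
      rw [hloc]
      intro h
      apply hyU
      have h1 : I.subschemeι.base y' ∈ U := h
      rwa [hy'] at h1
    have hdeg := Curve.deg_pos_of_section_vanishing k I.subscheme hd1 hL' _ hs' y' hy'n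
    exact CurveAmp.isAmple_of_deg_pos k I.subscheme hd1 hL' hdeg
  · have h0 : topologicalKrullDim I.subscheme ≤ 0 := by
      by_contra hn0
      exact hd1 (le_antisymm hdimle (Order.succ_le_of_lt (lt_of_not_ge hn0)))
    haveI : IsLocallyArtinian I.subscheme := IsLocallyArtinian.of_topologicalKrullDim_le_zero h0
    haveI : IsArtinianScheme I.subscheme := {}
    haveI : IsAffine I.subscheme := inferInstance
    exact AmpleLib.isAmple_of_isAffine hL'

set_option maxHeartbeats 3200000 in
/-- a dense open of a proper scheme of dimension at most one over a field whose complement meets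
every one-dimensional irreducible closed subset is affine -/
theorem isAffineOpen_of_meets_curves (k : Type u) [Field k] (Y : Scheme.{u})
    [Y.Over (Spec (CommRingCat.of k))] [IsProper (Y ↘ (Spec (CommRingCat.of k)))]
    (hdim : topologicalKrullDim Y ≤ 1) (U : Y.Opens) (hUd : Dense (U : Set Y))
    (hcurve : ∀ ξ : Y, topologicalKrullDim ↥(closure ({ξ} : Set Y)) = ((1 : ℕ) : WithBot ℕ∞) →
      ¬ (closure ({ξ} : Set Y) ⊆ (U : Set Y))) :
    IsAffineOpen U := by
  classical
  haveI : IsNoetherian Y := VB5.isNoetherian_of_proper k (Y ↘ (Spec (CommRingCat.of k)))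
  have hfin : ((U : Set Y)ᶜ).Finite :=
    FinCurve.finite_of_isClosed_of_dense_compl hdim _ U.isOpen.isClosed_compl
      (by rwa [compl_compl])
  have hcl : ∀ z ∈ (U : Set Y)ᶜ, IsClosed ({z} : Set Y) := fun z hz =>
    FinCurve.isClosed_singleton_of_notMem_dense hdim U U.isOpen hUd z hz
  have hdisc : DiscreteTopology ↥((U : Set Y)ᶜ) :=
    PicGlue.discreteTopology_of_finite_of_isClosed _ hfin hcl
  have hloc : ∀ x : Y, x ∉ U → IsNoetherianRing (Y.presheaf.stalk x) ∧
      ringKrullDim (Y.presheaf.stalk x) ≤ 1 := fun x _ =>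
    ⟨inferInstance,
      (Groth.Agent.Lib.Helper4.BirationalNormal1.ringKrullDim_stalk_le_topologicalKrullDim Y
        x).trans hdim⟩
  haveI : QuasiCompact U.ι := inferInstance
  obtain ⟨L, s, hL, hLs⟩ := PicGlue.main_S7669_1 Y U hdisc hloc
  have hamp : CohB1.IsAmple L :=
    (AmpleDev.isAmple_iff_components k (Y ↘ Spec (CommRingCat.of k)) hL).2 fun Z hZ =>
      isAmple_on_component k Y hdim U hUd hcurve L s hL hLs Z hZ
  obtain ⟨n₀, hn₀⟩ := AmpleLib.eventually_globallyGenerated hamp (Coh.structureModule Y)
    (Dv.isCoh_structureModule Y)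
  have hgg : Curv2.IsGloballyGenerated (CohB1.tensorPow L (n₀ + 1)) :=
    AmpleLib.isGloballyGenerated_of_iso (ThmB.unitL _) (hn₀ (n₀ + 1) (by omega))
  have hG := TwForm.isInvertible_tensorPow hL (n₀ + 1)
  obtain ⟨r, φ, hφ0, hcov⟩ := NM.exists_sections k Y _ hG hgg (SecTwist.powHom s (n₀ + 1))
  have hloc0 : CohB1.genLocus _ (φ 0) = U := by
    rw [hφ0, AmpleLib.genLocus_powHom hL s n₀, hLs]
  have haff := NM.isAffineOpen_genLocus_of_no_curves k Y _ hG r φ hcov 0 (by
    intro ξ hξ hsub
    rw [hloc0] at hsub
    exact hcurve ξ hξ hsub)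
  rw [hloc0] at haff
  exact haff

set_option maxHeartbeats 3200000 in
/-- **S7646** -/
theorem isAffine_of_no_proper_component (k : Type u) [Field k] (X : Scheme.{u})
    [X.Over (Spec (CommRingCat.of k))] [IsSeparated (X ↘ (Spec (CommRingCat.of k)))]
    [LocallyOfFiniteType (X ↘ (Spec (CommRingCat.of k)))] [IsNoetherian X]
    (hdim : topologicalKrullDim X ≤ 1)
    (h : ∀ (C : Set X) (hC : C ∈ irreducibleComponents (X : Type u)),
      topologicalKrullDim C = 1 →
      ¬ IsProper ((X.irreducibleComponentIdeal C hC).radical.subschemeι ≫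
        (X ↘ (Spec (CommRingCat.of k))))) :
    IsAffine X := by
  classical
  haveI : QuasiCompact (X ↘ (Spec (CommRingCat.of k))) := inferInstance
  obtain ⟨n, i, hi, hqi, hif⟩ := exists_immersion k X hdim
  haveI := hi
  haveI := hqi
  letI : i.image.Over (Spec (CommRingCat.of k)) :=
    ⟨i.imageι ≫ CohB1.ProjSpace.toSpec n k⟩
  haveI : IsProper (i.image ↘ Spec (CommRingCat.of k)) := by
    show IsProper (i.imageι ≫ CohB1.ProjSpace.toSpec n k)
    infer_instance
  haveI : LocallyOfFiniteType (i.image ↘ Spec (CommRingCat.of k)) := inferInstance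
  have hjq : i.toImage ≫ (i.image ↘ Spec (CommRingCat.of k)) = X ↘ Spec (CommRingCat.of k) := by
    show i.toImage ≫ i.imageι ≫ CohB1.ProjSpace.toSpec n k = _
    rw [← Category.assoc, i.toImage_imageι, hif]
  have hUd : Dense ((i.toImage.opensRange : i.image.Opens) : Set i.image) :=
    i.toImage.denseRange
  have hdimU : topologicalKrullDim ↥((i.toImage.opensRange : i.image.Opens) : Set i.image) ≤ 1 :=
    (dim_range_le i.toImage).trans hdim
  have hdimY : topologicalKrullDim i.image ≤ 1 :=
    dim_le_one_of_dense_open k (i.image ↘ Spec (CommRingCat.of k)) i.toImage.opensRange hUd hdimU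
  have hcurve : ∀ ξ : i.image,
      topologicalKrullDim ↥(closure ({ξ} : Set i.image)) = ((1 : ℕ) : WithBot ℕ∞) →
      ¬ (closure ({ξ} : Set i.image) ⊆ ((i.toImage.opensRange : i.image.Opens) : Set i.image)) := by
    intro ξ hξ hsub
    -- a second point
    obtain ⟨z, hz, hzξ⟩ : ∃ z ∈ closure ({ξ} : Set i.image), z ≠ ξ := by
      by_contra hcon
      push Not at hcon
      have h1 : closure ({ξ} : Set i.image) = {ξ} :=
        Set.eq_singleton_iff_unique_mem.2 ⟨subset_closure rfl, hcon⟩
      rw [h1] at hξ
      have h2 : topologicalKrullDim ↥({ξ} : Set i.image) ≤ 0 :=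
        topologicalKrullDim_zero_of_discreteTopology _
      rw [hξ] at h2
      exact absurd h2 (by decide)
    obtain ⟨ξ', hξ'⟩ : ξ ∈ Set.range i.toImage.base := hsub (subset_closure rfl)
    obtain ⟨z', hz'⟩ : z ∈ Set.range i.toImage.base := hsub hz
    have hspecY : ξ ⤳ z := specializes_iff_mem_closure.2 hz
    have hspec : ξ' ⤳ z' := by
      rw [← hξ', ← hz'] at hspecY
      exact i.toImage.isOpenEmbedding.isInducing.specializes_iff.1 hspecY
    have hne : ξ' ≠ z' := by
      intro h
      apply hzξ
      rw [← hξ', ← hz', h]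
    have hC := PicGlue.closure_mem_irreducibleComponents hdim z' ξ' hspec hne
    -- the dimension of the component
    have hdimC : topologicalKrullDim ↥(closure ({ξ'} : Set X)) = 1 := by
      apply le_antisymm ((topologicalKrullDim_subspace_le X _).trans hdim)
      have hn0 : ¬ topologicalKrullDim ↥(closure ({ξ'} : Set X)) ≤ 0 := by
        intro h0
        have hmax := Order.krullDim_nonpos_iff_forall_isMax.1 h0
        have hzC : z' ∈ closure ({ξ'} : Set X) := hspec.mem_closure
        have hξC : ξ' ∈ closure ({ξ'} : Set X) := subset_closure rfl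
        have hspecC : (⟨ξ', hξC⟩ : ↥(closure ({ξ'} : Set X))) ⤳ ⟨z', hzC⟩ :=
          Topology.IsInducing.subtypeVal.specializes_iff.1 hspec
        let Z₁ : IrreducibleCloseds ↥(closure ({ξ'} : Set X)) :=
          ⟨closure {⟨z', hzC⟩}, isIrreducible_singleton.closure, isClosed_closure⟩
        let Z₂ : IrreducibleCloseds ↥(closure ({ξ'} : Set X)) :=
          ⟨closure {⟨ξ', hξC⟩}, isIrreducible_singleton.closure, isClosed_closure⟩
        have h12 : Z₁ ≤ Z₂ :=
          closure_minimal (Set.singleton_subset_iff.2 hspecC.mem_closure) isClosed_closure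
        have h21 : Z₂ ≤ Z₁ := hmax Z₁ h12
        have h3 : (⟨ξ', hξC⟩ : ↥(closure ({ξ'} : Set X))) ∈ closure {⟨z', hzC⟩} :=
          h21 (subset_closure rfl)
        have h4 : (⟨z', hzC⟩ : ↥(closure ({ξ'} : Set X))) ⤳ ⟨ξ', hξC⟩ :=
          specializes_iff_mem_closure.2 h3
        have h5 : z' ⤳ ξ' := Topology.IsInducing.subtypeVal.specializes_iff.2 h4
        exact hne (hspec.antisymm h5).eq
      exact Order.succ_le_of_lt (lt_of_not_ge hn0)
    -- properness
    apply h _ hC hdimC
    obtain ⟨ιC, hιC⟩ : ∃ ιC : (X.irreducibleComponentIdeal _ hC).radical.subscheme ⟶ X,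
        ιC = (X.irreducibleComponentIdeal _ hC).radical.subschemeι := ⟨_, rfl⟩
    have hrC : Set.range ιC.base = closure ({ξ'} : Set X) := by
      rw [hιC]
      exact (X.irreducibleComponentIdeal _ hC).radical.range_subschemeι
    haveI : IsClosedImmersion ιC := by
      rw [hιC]
      infer_instance
    have hr : Set.range (ιC ≫ i.toImage).base = closure ({ξ} : Set i.image) := by
      have h1 : Set.range (ιC ≫ i.toImage).base = i.toImage.base '' (Set.range ιC.base) := by
        rw [Scheme.Hom.comp_base, TopCat.coe_comp, Set.range_comp]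
      rw [h1, hrC]
      apply subset_antisymm
      · refine (image_closure_subset_closure_image i.toImage.continuous).trans ?_
        rw [Set.image_singleton, hξ']
      · intro y hy
        obtain ⟨y', hy'⟩ : y ∈ Set.range i.toImage.base := hsub hy
        refine ⟨y', ?_, hy'⟩
        have h2 : ξ ⤳ y := specializes_iff_mem_closure.2 hy
        rw [← hξ', ← hy'] at h2
        exact (i.toImage.isOpenEmbedding.isInducing.specializes_iff.1 h2).mem_closure
    haveI : IsClosedImmersion (ιC ≫ i.toImage) :=
      IsClosedImmersion.of_isPreimmersion _ (hr ▸ isClosed_closure)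
    have hcomp : (ιC ≫ i.toImage) ≫ (i.image ↘ Spec (CommRingCat.of k)) =
        ιC ≫ (X ↘ Spec (CommRingCat.of k)) := by
      rw [Category.assoc, hjq]
    rw [← hιC, ← hcomp]
    infer_instance
  have haff := isAffineOpen_of_meets_curves k i.image hdimY i.toImage.opensRange hUd hcurve
  haveI : IsAffine (i.toImage.opensRange : Scheme.{u}) := haff
  exact IsAffine.of_isIso i.toImage.isoOpensRange.hom

end Groth.Agent.Helper1.CurveQP
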