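import Mathlib
set_option autoImplicit false
universe v u
open CategoryTheory CategoryTheory.Limits

namespace Groth.Agent.Helper1.HomolL

section SC
variable {R : Type u} [Ring R] {S₁ S₂ : ShortComplex (ModuleCat.{v} R)} (φ : S₁ ⟶ S₂)

lemma comm₁₂_apply (y : S₁.X₁) : S₂.f.hom (φ.τ₁.hom y) = φ.τ₂.hom (S₁.f.hom y) := by
  have h := congrArg (fun ψ => ψ.hom y) φ.comm₁₂
  simpa only [ModuleCat.hom_comp, LinearMap.comp_apply] using h

lemma comm₂₃_apply (y : S₁.X₂) : S₂.g.hom (φ.τ₂.hom y) = φ.τ₃.hom (S₁.g.hom y) := by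
  have h := congrArg (fun ψ => ψ.hom y) φ.comm₂₃
  simpa only [ModuleCat.hom_comp, LinearMap.comp_apply] using h

/-- the induced map on kernels -/
def kerMap : LinearMap.ker S₁.g.hom →ₗ[R] LinearMap.ker S₂.g.hom :=
  (φ.τ₂.hom.comp (LinearMap.ker S₁.g.hom).subtype).codRestrict _ (by
    intro x
    rw [LinearMap.mem_ker, LinearMap.comp_apply, Submodule.subtype_apply, comm₂₃_apply, x.2,
      map_zero])

@[simp] lemma kerMap_coe (x : LinearMap.ker S₁.g.hom) : (kerMap φ x : S₂.X₂) = φ.τ₂.hom x.1 := rfl

lemma kerMap_range_le :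
    LinearMap.range S₁.moduleCatToCycles ≤
      (LinearMap.range S₂.moduleCatToCycles).comap (kerMap φ) := by
  rintro _ ⟨y, rfl⟩
  refine ⟨φ.τ₁.hom y, ?_⟩
  apply Subtype.ext
  exact comm₁₂_apply φ y

/-- the induced map on concrete homology -/
def homMap : (LinearMap.ker S₁.g.hom ⧸ LinearMap.range S₁.moduleCatToCycles) →ₗ[R]
    (LinearMap.ker S₂.g.hom ⧸ LinearMap.range S₂.moduleCatToCycles) :=
  Submodule.mapQ _ _ (kerMap φ) (kerMap_range_le φ)

/-- the map data -/
def mapData : ShortComplex.LeftHomologyMapData φ S₁.moduleCatLeftHomologyData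
    S₂.moduleCatLeftHomologyData where
  φK := ModuleCat.ofHom (kerMap φ)
  φH := ModuleCat.ofHom (homMap φ)
  commi := by
    ext x
    rfl
  commf' := by
    ext x
    apply Subtype.ext
    exact (comm₁₂_apply φ x).symm
  commπ := by
    ext x
    rfl

lemma φH_eq : (mapData φ).φH = S₁.moduleCatLeftHomologyData.homologyIso.inv ≫
    ShortComplex.homologyMap φ ≫ S₂.moduleCatLeftHomologyData.homologyIso.hom := by
  rw [(mapData φ).homologyMap_comm]
  simp

lemma mono_homologyMap_iff :
    Mono (ShortComplex.homologyMap φ) ↔ Function.Injective (homMap φ) := by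
  constructor
  · intro h
    have : Mono ((mapData φ).φH) := by
      rw [φH_eq]
      infer_instance
    exact (ModuleCat.mono_iff_injective _).mp this
  · intro h
    have : Mono ((mapData φ).φH) := (ModuleCat.mono_iff_injective _).mpr h
    rw [(mapData φ).homologyMap_eq]
    infer_instance

lemma epi_homologyMap_iff :
    Epi (ShortComplex.homologyMap φ) ↔ Function.Surjective (homMap φ) := by
  constructor
  · intro h
    have : Epi ((mapData φ).φH) := by
      rw [φH_eq]
      infer_instance
    exact (ModuleCat.epi_iff_surjective _).mp this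
  · intro h
    have : Epi ((mapData φ).φH) := (ModuleCat.epi_iff_surjective _).mpr h
    rw [(mapData φ).homologyMap_eq]
    infer_instance

/-- elementwise criterion for injectivity on homology -/
lemma mono_homologyMap_iff' :
    Mono (ShortComplex.homologyMap φ) ↔
      ∀ x : S₁.X₂, S₁.g.hom x = 0 → (∃ y, S₂.f.hom y = φ.τ₂.hom x) → ∃ z, S₁.f.hom z = x := by
  rw [mono_homologyMap_iff, injective_iff_map_eq_zero]
  constructor
  · intro h x hx ⟨y, hy⟩
    have h0 := h (Submodule.Quotient.mk ⟨x, hx⟩) (by
      rw [homMap, Submodule.mapQ_apply, Submodule.Quotient.mk_eq_zero]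
      exact ⟨y, Subtype.ext hy⟩)
    rw [Submodule.Quotient.mk_eq_zero] at h0
    obtain ⟨z, hz⟩ := h0
    exact ⟨z, congrArg Subtype.val hz⟩
  · intro h w hw
    induction w using Submodule.Quotient.induction_on with
    | H x =>
      rw [homMap, Submodule.mapQ_apply, Submodule.Quotient.mk_eq_zero] at hw
      obtain ⟨y, hy⟩ := hw
      obtain ⟨z, hz⟩ := h x.1 x.2 ⟨y, congrArg Subtype.val hy⟩
      rw [Submodule.Quotient.mk_eq_zero]
      exact ⟨z, Subtype.ext hz⟩

/-- elementwise criterion for surjectivity on homology -/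
lemma epi_homologyMap_iff' :
    Epi (ShortComplex.homologyMap φ) ↔
      ∀ y : S₂.X₂, S₂.g.hom y = 0 →
        ∃ x : S₁.X₂, S₁.g.hom x = 0 ∧ ∃ w, S₂.f.hom w = y - φ.τ₂.hom x := by
  rw [epi_homologyMap_iff]
  constructor
  · intro h y hy
    obtain ⟨w, hw⟩ := h (Submodule.Quotient.mk ⟨y, hy⟩)
    induction w using Submodule.Quotient.induction_on with
    | H x =>
      rw [homMap, Submodule.mapQ_apply, eq_comm, Submodule.Quotient.eq] at hw
      obtain ⟨z, hz⟩ := hw
      exact ⟨x.1, x.2, z, congrArg Subtype.val hz⟩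
  · intro h w
    induction w using Submodule.Quotient.induction_on with
    | H y =>
      obtain ⟨x, hx, z, hz⟩ := h y.1 y.2
      refine ⟨Submodule.Quotient.mk ⟨x, hx⟩, ?_⟩
      rw [homMap, Submodule.mapQ_apply, eq_comm, Submodule.Quotient.eq]
      exact ⟨z, Subtype.ext hz⟩

end SC
section HC
variable {C : Type*} [Category C] [HasZeroMorphisms C] [CategoryWithHomology C]
  {ι : Type*} {c : ComplexShape ι}
  {K L : HomologicalComplex C c} (φ : K ⟶ L)

lemma homologyMap_conj (i j k : ι) (hi : c.prev j = i) (hk : c.next j = k) :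
    ShortComplex.homologyMap ((HomologicalComplex.shortComplexFunctor C c j).map φ) ≫
      (ShortComplex.homologyMapIso (L.isoSc' i j k hi hk)).hom =
    (ShortComplex.homologyMapIso (K.isoSc' i j k hi hk)).hom ≫
      ShortComplex.homologyMap ((HomologicalComplex.shortComplexFunctor' _ c i j k).map φ) := by
  have h1 := (HomologicalComplex.natIsoSc' _ c i j k hi hk).hom.naturality φ
  have e1 := ShortComplex.homologyMap_comp ((HomologicalComplex.shortComplexFunctor C c j).map φ)
    ((HomologicalComplex.natIsoSc' C c i j k hi hk).hom.app L)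
  have e2 := ShortComplex.homologyMap_comp ((HomologicalComplex.natIsoSc' C c i j k hi hk).hom.app K)
    ((HomologicalComplex.shortComplexFunctor' C c i j k).map φ)
  rw [h1] at e1
  exact e1.symm.trans e2

lemma mono_homologyMap_iff_sc' (i j k : ι) (hi : c.prev j = i) (hk : c.next j = k) :
    Mono (HomologicalComplex.homologyMap φ j) ↔
      Mono (ShortComplex.homologyMap
        ((HomologicalComplex.shortComplexFunctor' _ c i j k).map φ)) := by
  change Mono (ShortComplex.homologyMap ((HomologicalComplex.shortComplexFunctor C c j).map φ)) ↔ _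
  have h := homologyMap_conj φ i j k hi hk
  constructor
  · intro hm
    have : ShortComplex.homologyMap ((HomologicalComplex.shortComplexFunctor' _ c i j k).map φ) =
        (ShortComplex.homologyMapIso (K.isoSc' i j k hi hk)).inv ≫
          ShortComplex.homologyMap ((HomologicalComplex.shortComplexFunctor C c j).map φ) ≫
          (ShortComplex.homologyMapIso (L.isoSc' i j k hi hk)).hom :=
      (Iso.eq_inv_comp _).mpr h.symm
    rw [this]
    infer_instance
  · intro hm
    have : ShortComplex.homologyMap ((HomologicalComplex.shortComplexFunctor C c j).map φ) =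
        ((ShortComplex.homologyMapIso (K.isoSc' i j k hi hk)).hom ≫
          ShortComplex.homologyMap ((HomologicalComplex.shortComplexFunctor' _ c i j k).map φ)) ≫
          (ShortComplex.homologyMapIso (L.isoSc' i j k hi hk)).inv :=
      (Iso.eq_comp_inv _).mpr h
    rw [this]
    infer_instance

lemma epi_homologyMap_iff_sc' (i j k : ι) (hi : c.prev j = i) (hk : c.next j = k) :
    Epi (HomologicalComplex.homologyMap φ j) ↔
      Epi (ShortComplex.homologyMap
        ((HomologicalComplex.shortComplexFunctor' _ c i j k).map φ)) := by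
  change Epi (ShortComplex.homologyMap ((HomologicalComplex.shortComplexFunctor C c j).map φ)) ↔ _
  have h := homologyMap_conj φ i j k hi hk
  constructor
  · intro hm
    have : ShortComplex.homologyMap ((HomologicalComplex.shortComplexFunctor' _ c i j k).map φ) =
        (ShortComplex.homologyMapIso (K.isoSc' i j k hi hk)).inv ≫
          ShortComplex.homologyMap ((HomologicalComplex.shortComplexFunctor C c j).map φ) ≫
          (ShortComplex.homologyMapIso (L.isoSc' i j k hi hk)).hom :=
      (Iso.eq_inv_comp _).mpr h.symm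
    rw [this]
    infer_instance
  · intro hm
    have : ShortComplex.homologyMap ((HomologicalComplex.shortComplexFunctor C c j).map φ) =
        ((ShortComplex.homologyMapIso (K.isoSc' i j k hi hk)).hom ≫
          ShortComplex.homologyMap ((HomologicalComplex.shortComplexFunctor' _ c i j k).map φ)) ≫
          (ShortComplex.homologyMapIso (L.isoSc' i j k hi hk)).inv :=
      (Iso.eq_comp_inv _).mpr h
    rw [this]
    infer_instance

end HC

section CC
variable {R : Type u} [Ring R] {C D : ChainComplex (ModuleCat.{v} R) ℕ} (f : C ⟶ D)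

lemma d00_apply (x : C.X 0) : (C.d 0 0).hom x = 0 := by
  rw [C.shape 0 0 (by simp)]
  rfl

lemma mono_H1_iff : Mono (HomologicalComplex.homologyMap f 1) ↔
    ∀ x : C.X 1, (C.d 1 0).hom x = 0 → (∃ y : D.X 2, (D.d 2 1).hom y = (f.f 1).hom x) →
      ∃ z : C.X 2, (C.d 2 1).hom z = x := by
  rw [mono_homologyMap_iff_sc' f 2 1 0 (by simp) (by simp), mono_homologyMap_iff']
  rfl

lemma epi_H1_iff : Epi (HomologicalComplex.homologyMap f 1) ↔
    ∀ y : D.X 1, (D.d 1 0).hom y = 0 →
      ∃ x : C.X 1, (C.d 1 0).hom x = 0 ∧ ∃ w : D.X 2, (D.d 2 1).hom w = y - (f.f 1).hom x := by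
  rw [epi_homologyMap_iff_sc' f 2 1 0 (by simp) (by simp), epi_homologyMap_iff']
  rfl

lemma mono_H0_iff : Mono (HomologicalComplex.homologyMap f 0) ↔
    ∀ x : C.X 0, (∃ y : D.X 1, (D.d 1 0).hom y = (f.f 0).hom x) →
      ∃ z : C.X 1, (C.d 1 0).hom z = x := by
  rw [mono_homologyMap_iff_sc' f 1 0 0 (by simp) (by simp), mono_homologyMap_iff']
  constructor
  · intro h x hx
    exact h x (d00_apply x) hx
  · intro h x _ hx
    exact h x hx

lemma epi_H0_iff : Epi (HomologicalComplex.homologyMap f 0) ↔
    ∀ y : D.X 0, ∃ x : C.X 0, ∃ w : D.X 1, (D.d 1 0).hom w = y - (f.f 0).hom x := by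
  rw [epi_homologyMap_iff_sc' f 1 0 0 (by simp) (by simp), epi_homologyMap_iff']
  constructor
  · intro h y
    obtain ⟨x, -, w, hw⟩ := h y (d00_apply y)
    exact ⟨x, w, hw⟩
  · intro h y _
    obtain ⟨x, w, hw⟩ := h y
    exact ⟨x, d00_apply x, w, hw⟩

end CC

end Groth.Agent.Helper1.HomolL
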