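import Mathlib
import Groth.Prelude.Def_W4c3biextchowCx
import Groth.Agent.Lib.Helper1.HomolL
set_option autoImplicit false
universe v u
open CategoryTheory CategoryTheory.Limits

namespace Groth.Agent.Helper1.CxGrpdL
open W4c3biextchow

section
variable {R : Type u} [Ring R] {C D : ChainComplex (ModuleCat.{v} R) ℕ} (f : C ⟶ D)

lemma q1_mk_eq_zero (x : C.X 1) :
    (Submodule.Quotient.mk x : Q1 C) = 0 ↔ ∃ z : C.X 2, (C.d 2 1).hom z = x := by
  rw [Submodule.Quotient.mk_eq_zero]
  rfl

theorem S16325 : (cxFunctor f).Faithful ↔ Mono (HomologicalComplex.homologyMap f 1) := by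
  rw [HomolL.mono_H1_iff]
  constructor
  · intro hF x hx ⟨y, hy⟩
    -- two morphisms 0 ⟶ 0
    let a : Obj C := ⟨0⟩
    let φ : a ⟶ a := ⟨Submodule.Quotient.mk x, by simp [a, hx]⟩
    have h1 : (cxFunctor f).map φ = (cxFunctor f).map (𝟙 a) := by
      apply Hom.ext
      rw [cxFunctor_map_cl, cxFunctor_map_cl]
      change q1Map f (Submodule.Quotient.mk x) = q1Map f 0
      rw [q1Map_mk, map_zero, q1_mk_eq_zero]
      exact ⟨y, hy⟩
    have h2 := hF.map_injective h1
    have h3 : (Submodule.Quotient.mk x : Q1 C) = 0 := congrArg Hom.cl h2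
    exact (q1_mk_eq_zero x).mp h3
  · intro h
    refine ⟨fun {a b} φ ψ hφψ => ?_⟩
    apply Hom.ext
    have h1 : q1Map f ((φ : Hom C a b).cl - (ψ : Hom C a b).cl) = 0 := by
      rw [map_sub, sub_eq_zero]
      exact congrArg Hom.cl hφψ
    have h2 : delta C ((φ : Hom C a b).cl - (ψ : Hom C a b).cl) = 0 := by
      rw [map_sub, (φ : Hom C a b).delta_cl, (ψ : Hom C a b).delta_cl, sub_self]
    rw [← sub_eq_zero]
    generalize (φ : Hom C a b).cl - (ψ : Hom C a b).cl = w at h1 h2
    induction w using Submodule.Quotient.induction_on with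
    | H x =>
      rw [delta_mk] at h2
      rw [q1Map_mk, q1_mk_eq_zero] at h1
      exact (q1_mk_eq_zero x).mpr (h x h2 h1)

theorem S16326 : (cxFunctor f).Full ↔
    Epi (HomologicalComplex.homologyMap f 1) ∧ Mono (HomologicalComplex.homologyMap f 0) := by
  rw [HomolL.epi_H1_iff, HomolL.mono_H0_iff]
  constructor
  · intro hF
    constructor
    · intro y hy
      let a : Obj C := ⟨0⟩
      let ψ : (cxFunctor f).obj a ⟶ (cxFunctor f).obj a :=
        ⟨Submodule.Quotient.mk y, by simp [a, hy]⟩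
      obtain ⟨φ, hφ⟩ := hF.map_surjective ψ
      have h1 : q1Map f (φ : Hom C a a).cl = Submodule.Quotient.mk y := congrArg Hom.cl hφ
      have h2 : delta C (φ : Hom C a a).cl = 0 := by
        rw [(φ : Hom C a a).delta_cl]; simp
      generalize (φ : Hom C a a).cl = w at h1 h2
      induction w using Submodule.Quotient.induction_on with
      | H x =>
        rw [delta_mk] at h2
        rw [q1Map_mk, eq_comm, Submodule.Quotient.eq] at h1
        obtain ⟨w, hw⟩ := h1
        exact ⟨x, h2, w, hw⟩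
    · intro x ⟨y, hy⟩
      let a : Obj C := ⟨0⟩
      let b : Obj C := ⟨x⟩
      let ψ : (cxFunctor f).obj a ⟶ (cxFunctor f).obj b :=
        ⟨Submodule.Quotient.mk y, by simp [a, b, hy]⟩
      obtain ⟨φ, -⟩ := hF.map_surjective ψ
      have h2 : delta C (φ : Hom C a b).cl = x := by
        rw [(φ : Hom C a b).delta_cl]; simp [a, b]
      generalize (φ : Hom C a b).cl = w at h2
      induction w using Submodule.Quotient.induction_on with
      | H z =>
        rw [delta_mk] at h2
        exact ⟨z, h2⟩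
  · rintro ⟨hE, hM⟩
    refine ⟨fun {a b} ψ => ?_⟩
    have hψ := (ψ : Hom D _ _).delta_cl
    generalize hw' : (ψ : Hom D _ _).cl = w' at hψ
    induction w' using Submodule.Quotient.induction_on with
    | H y =>
      rw [delta_mk, cxFunctor_obj_pt, cxFunctor_obj_pt, ← map_sub] at hψ
      obtain ⟨x₀, hx₀⟩ := hM (b.pt - a.pt) ⟨y, hψ⟩
      have hy' : (D.d 1 0).hom (y - (f.f 1).hom x₀) = 0 := by
        rw [map_sub, hψ, sub_eq_zero]
        have h := congrArg (fun φ => φ.hom x₀) (f.comm 1 0)
        simp only [ModuleCat.hom_comp, LinearMap.comp_apply] at h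
        rw [h, hx₀]
      obtain ⟨x₁, hx₁, w, hw⟩ := hE _ hy'
      refine ⟨⟨Submodule.Quotient.mk (x₀ + x₁), by rw [delta_mk, map_add, hx₀, hx₁, add_zero]⟩, ?_⟩
      apply Hom.ext
      rw [cxFunctor_map_cl, hw']
      change q1Map f (Submodule.Quotient.mk (x₀ + x₁)) = _
      rw [q1Map_mk, eq_comm, Submodule.Quotient.eq]
      refine ⟨w, ?_⟩
      rw [hw, map_add]
      abel

theorem S16327 : (cxFunctor f).EssSurj ↔ Epi (HomologicalComplex.homologyMap f 0) := by
  rw [HomolL.epi_H0_iff]
  constructor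
  · intro hE y
    obtain ⟨a, ⟨e⟩⟩ := hE.mem_essImage (⟨y⟩ : Obj D)
    have h := (e.hom : Hom D _ _).delta_cl
    generalize (e.hom : Hom D _ _).cl = w at h
    induction w using Submodule.Quotient.induction_on with
    | H z =>
      rw [delta_mk, cxFunctor_obj_pt] at h
      exact ⟨a.pt, z, h⟩
  · intro h
    refine ⟨fun b => ?_⟩
    obtain ⟨x, w, hw⟩ := h b.pt
    refine ⟨⟨x⟩, ⟨?_⟩⟩
    exact
      { hom := ⟨Submodule.Quotient.mk w, by rw [delta_mk, hw]; rfl⟩
        inv := ⟨Submodule.Quotient.mk (-w), by rw [delta_mk, map_neg, hw]; simp⟩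
        hom_inv_id := by
          apply Hom.ext
          rw [comp_cl, id_cl, ← Submodule.Quotient.mk_add, add_neg_cancel]
          rfl
        inv_hom_id := by
          apply Hom.ext
          rw [comp_cl, id_cl, ← Submodule.Quotient.mk_add, neg_add_cancel]
          rfl }

end
end Groth.Agent.Helper1.CxGrpdL

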