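import Mathlib
import Groth.Agent.Lib.Helper1.HomolL
set_option autoImplicit false
universe v u
open CategoryTheory CategoryTheory.Limits

namespace Groth.Agent.Helper1.SplitCxL

section Contract
variable {R : Type u} [Ring R] {Q : ℕ → Type v} [∀ q, AddCommGroup (Q q)] [∀ q, Module R (Q q)]
  (dQ : ∀ q, Q (q + 1) →ₗ[R] Q q)

/-- one step: from `t` with `d t d = d` produce `t'` with `d t' = id - t d`. -/
theorem exists_next [∀ q, Module.Projective R (Q q)]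
    (hdd : ∀ q, dQ q ∘ₗ dQ (q + 1) = 0)
    (hex : ∀ q (w : Q (q + 1)), dQ q w = 0 → ∃ w', dQ (q + 1) w' = w)
    (q : ℕ) (t : Q q →ₗ[R] Q (q + 1)) (ht : dQ q ∘ₗ t ∘ₗ dQ q = dQ q) :
    ∃ t' : Q (q + 1) →ₗ[R] Q (q + 2), dQ (q + 1) ∘ₗ t' = LinearMap.id - t ∘ₗ dQ q := by
  let g : Q (q + 1) →ₗ[R] LinearMap.range (dQ (q + 1)) :=
    (LinearMap.id - t ∘ₗ dQ q).codRestrict _ (by
      intro w
      apply hex q
      have := LinearMap.congr_fun ht w
      simp only [LinearMap.comp_apply] at this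
      simp [this])
  obtain ⟨t', ht'⟩ := Module.projective_lifting_property (dQ (q + 1)).rangeRestrict g
    (LinearMap.surjective_rangeRestrict _)
  refine ⟨t', ?_⟩
  ext w
  have := congrArg Subtype.val (LinearMap.congr_fun ht' w)
  exact this

theorem next_spec (hdd : ∀ q, dQ q ∘ₗ dQ (q + 1) = 0) (q : ℕ) (t : Q q →ₗ[R] Q (q + 1))
    (t' : Q (q + 1) →ₗ[R] Q (q + 2)) (h : dQ (q + 1) ∘ₗ t' = LinearMap.id - t ∘ₗ dQ q) :
    dQ (q + 1) ∘ₗ t' ∘ₗ dQ (q + 1) = dQ (q + 1) := by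
  rw [← LinearMap.comp_assoc, h, LinearMap.sub_comp, LinearMap.id_comp, LinearMap.comp_assoc,
    hdd, LinearMap.comp_zero, sub_zero]

variable [∀ q, Module.Projective R (Q q)]
  (hdd : ∀ q, dQ q ∘ₗ dQ (q + 1) = 0)
  (hsurj0 : Function.Surjective (dQ 0))
  (hex : ∀ q (w : Q (q + 1)), dQ q w = 0 → ∃ w', dQ (q + 1) w' = w)

include hdd hsurj0 hex in
theorem exists_contraction :
    ∃ s : ∀ q, Q q →ₗ[R] Q (q + 1), dQ 0 ∘ₗ s 0 = LinearMap.id ∧
      ∀ q, dQ (q + 1) ∘ₗ s (q + 1) + s q ∘ₗ dQ q = LinearMap.id := by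
  obtain ⟨t0, ht0⟩ := Module.projective_lifting_property (dQ 0) LinearMap.id hsurj0
  have h0 : dQ 0 ∘ₗ t0 ∘ₗ dQ 0 = dQ 0 := by
    rw [← LinearMap.comp_assoc, ht0, LinearMap.id_comp]
  let S : (q : ℕ) → {t : Q q →ₗ[R] Q (q + 1) // dQ q ∘ₗ t ∘ₗ dQ q = dQ q} := fun q =>
    Nat.rec (motive := fun q => {t : Q q →ₗ[R] Q (q + 1) // dQ q ∘ₗ t ∘ₗ dQ q = dQ q})
      ⟨t0, h0⟩
      (fun q t => ⟨(exists_next dQ hdd hex q t.1 t.2).choose,
        next_spec dQ hdd q t.1 _ (exists_next dQ hdd hex q t.1 t.2).choose_spec⟩) q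
  refine ⟨fun q => (S q).1, ht0, fun q => ?_⟩
  have : dQ (q + 1) ∘ₗ (S (q + 1)).1 = LinearMap.id - (S q).1 ∘ₗ dQ q :=
    (exists_next dQ hdd hex q (S q).1 (S q).2).choose_spec
  rw [this, sub_add_cancel]

end Contract
section Setting
variable {R : Type u} [Ring R] {A' A : ChainComplex (ModuleCat.{v} R) ℕ} (f : A' ⟶ A)

/-- the degreewise quotient -/
abbrev Qm (q : ℕ) : Type v := (A.X q) ⧸ LinearMap.range (f.f q).hom

lemma f_comm_apply (q : ℕ) (x : A'.X (q + 1)) :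
    (A.d (q + 1) q).hom ((f.f (q + 1)).hom x) = (f.f q).hom ((A'.d (q + 1) q).hom x) := by
  have h := congrArg (fun φ => φ.hom x) (f.comm (q + 1) q)
  simpa only [ModuleCat.hom_comp, LinearMap.comp_apply] using h

lemma dd_apply (C : ChainComplex (ModuleCat.{v} R) ℕ) (q : ℕ) (x : C.X (q + 2)) :
    (C.d (q + 1) q).hom ((C.d (q + 2) (q + 1)).hom x) = 0 := by
  have h := congrArg (fun φ => φ.hom x) (C.d_comp_d (q + 2) (q + 1) q)
  simp only [ModuleCat.hom_comp, LinearMap.comp_apply] at h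
  rw [h]
  rfl

/-- the differential of the quotient -/
def dQ (q : ℕ) : Qm f (q + 1) →ₗ[R] Qm f q :=
  Submodule.mapQ _ _ (A.d (q + 1) q).hom (by
    rintro _ ⟨x, rfl⟩
    exact ⟨(A'.d (q + 1) q).hom x, (f_comm_apply f q x).symm⟩)

@[simp] lemma dQ_mk (q : ℕ) (a : A.X (q + 1)) :
    dQ f q (Submodule.Quotient.mk a) = Submodule.Quotient.mk ((A.d (q + 1) q).hom a) := rfl

lemma dQ_dQ (q : ℕ) : dQ f q ∘ₗ dQ f (q + 1) = 0 := by
  ext a
  simp only [LinearMap.comp_apply, Submodule.mkQ_apply, dQ_mk, LinearMap.zero_apply]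
  rw [dd_apply, Submodule.Quotient.mk_zero]

/-- elementwise form of "quasi-isomorphism" -/
structure QIsoConds : Prop where
  M0 : ∀ x : A'.X 0, (∃ y : A.X 1, (A.d 1 0).hom y = (f.f 0).hom x) →
    ∃ z : A'.X 1, (A'.d 1 0).hom z = x
  E0 : ∀ y : A.X 0, ∃ x : A'.X 0, ∃ w : A.X 1, (A.d 1 0).hom w = y - (f.f 0).hom x
  M : ∀ q, ∀ x : A'.X (q + 1), (A'.d (q + 1) q).hom x = 0 →
    (∃ y : A.X (q + 2), (A.d (q + 2) (q + 1)).hom y = (f.f (q + 1)).hom x) →
    ∃ z : A'.X (q + 2), (A'.d (q + 2) (q + 1)).hom z = x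
  E : ∀ q, ∀ y : A.X (q + 1), (A.d (q + 1) q).hom y = 0 →
    ∃ x : A'.X (q + 1), (A'.d (q + 1) q).hom x = 0 ∧
      ∃ w : A.X (q + 2), (A.d (q + 2) (q + 1)).hom w = y - (f.f (q + 1)).hom x

lemma mono_Hsucc_iff (q : ℕ) : Mono (HomologicalComplex.homologyMap f (q + 1)) ↔
    ∀ x : A'.X (q + 1), (A'.d (q + 1) q).hom x = 0 →
      (∃ y : A.X (q + 2), (A.d (q + 2) (q + 1)).hom y = (f.f (q + 1)).hom x) →
      ∃ z : A'.X (q + 2), (A'.d (q + 2) (q + 1)).hom z = x := by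
  rw [HomolL.mono_homologyMap_iff_sc' f (q + 2) (q + 1) q (by simp) (by simp),
    HomolL.mono_homologyMap_iff']
  rfl

lemma epi_Hsucc_iff (q : ℕ) : Epi (HomologicalComplex.homologyMap f (q + 1)) ↔
    ∀ y : A.X (q + 1), (A.d (q + 1) q).hom y = 0 →
      ∃ x : A'.X (q + 1), (A'.d (q + 1) q).hom x = 0 ∧
        ∃ w : A.X (q + 2), (A.d (q + 2) (q + 1)).hom w = y - (f.f (q + 1)).hom x := by
  rw [HomolL.epi_homologyMap_iff_sc' f (q + 2) (q + 1) q (by simp) (by simp),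
    HomolL.epi_homologyMap_iff']
  rfl

theorem qIsoConds_of_quasiIso [QuasiIso f] : QIsoConds f := by
  have hiso : ∀ q, IsIso (HomologicalComplex.homologyMap f q) := fun q =>
    (quasiIsoAt_iff_isIso_homologyMap f q).mp inferInstance
  refine ⟨?_, ?_, ?_, ?_⟩
  · have := hiso 0
    exact (HomolL.mono_H0_iff f).mp inferInstance
  · have := hiso 0
    exact (HomolL.epi_H0_iff f).mp inferInstance
  · intro q
    have := hiso (q + 1)
    exact (mono_Hsucc_iff f q).mp inferInstance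
  · intro q
    have := hiso (q + 1)
    exact (epi_Hsucc_iff f q).mp inferInstance

variable (hf : ∀ q, Function.Injective (f.f q).hom) (hc : QIsoConds f)

include hc in
theorem dQ_zero_surjective : Function.Surjective (dQ f 0) := by
  intro w
  induction w using Submodule.Quotient.induction_on with
  | H a =>
    obtain ⟨x, w, hw⟩ := hc.E0 a
    refine ⟨Submodule.Quotient.mk w, ?_⟩
    rw [dQ_mk, hw, Submodule.Quotient.mk_sub, sub_eq_self, Submodule.Quotient.mk_eq_zero]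
    exact ⟨x, rfl⟩

include hf hc in
theorem dQ_exact (q : ℕ) (w : Qm f (q + 1)) (hw : dQ f q w = 0) :
    ∃ w', dQ f (q + 1) w' = w := by
  induction w using Submodule.Quotient.induction_on with
  | H a =>
    rw [dQ_mk, Submodule.Quotient.mk_eq_zero] at hw
    obtain ⟨a₀, ha₀⟩ := hw
    -- `a₀` is a boundary
    obtain ⟨a₁, ha₁⟩ : ∃ a₁ : A'.X (q + 1), (A'.d (q + 1) q).hom a₁ = a₀ := by
      cases q with
      | zero => exact hc.M0 a₀ ⟨a, ha₀.symm⟩
      | succ q' =>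
        refine hc.M q' a₀ ?_ ⟨a, ha₀.symm⟩
        apply hf q'
        rw [map_zero, ← f_comm_apply, ha₀, dd_apply]
    have hy : (A.d (q + 1) q).hom (a - (f.f (q + 1)).hom a₁) = 0 := by
      rw [map_sub, f_comm_apply, ha₁, ha₀, sub_self]
    obtain ⟨x, -, w, hw⟩ := hc.E q _ hy
    refine ⟨Submodule.Quotient.mk w, ?_⟩
    rw [dQ_mk, hw, eq_comm, Submodule.Quotient.eq]
    refine ⟨a₁ + x, ?_⟩
    rw [map_add]
    abel

end Setting

end Groth.Agent.Helper1.SplitCxL
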