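import Mathlib
import Groth.Agent.Lib.Helper1.HomolL
import Groth.Agent.Lib.Helper1.SplitCxA
set_option autoImplicit false
universe v u
open CategoryTheory CategoryTheory.Limits

namespace Groth.Agent.Helper1.SplitCxL

section Assemble
variable {R : Type u} [Ring R] {A' A : ChainComplex (ModuleCat.{v} R) ℕ} (f : A' ⟶ A)

/-- data: a contraction of the quotient and degreewise sections -/
structure SplitData where
  s : ∀ q, Qm f q →ₗ[R] Qm f (q + 1)
  s_zero : dQ f 0 ∘ₗ s 0 = LinearMap.id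
  s_succ : ∀ q, dQ f (q + 1) ∘ₗ s (q + 1) + s q ∘ₗ dQ f q = LinearMap.id
  j : ∀ q, Qm f q →ₗ[R] A.X q
  hj : ∀ q, (LinearMap.range (f.f q).hom).mkQ ∘ₗ j q = LinearMap.id

theorem exists_splitData (hf : ∀ q, Function.Injective (f.f q).hom)
    (hq : ∀ q, Module.Projective R (Qm f q)) (hc : QIsoConds f) : Nonempty (SplitData f) := by
  obtain ⟨s, hs0, hs⟩ := exists_contraction (dQ f) (dQ_dQ f) (dQ_zero_surjective f hc)
    (dQ_exact f hf hc)
  have hj : ∀ q, ∃ j : Qm f q →ₗ[R] A.X q,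
      (LinearMap.range (f.f q).hom).mkQ ∘ₗ j = LinearMap.id := fun q =>
    Module.projective_lifting_property _ _ (Submodule.mkQ_surjective _)
  choose j hj using hj
  exact ⟨⟨s, hs0, hs, j, hj⟩⟩

variable {f} (D : SplitData f)

/-- the chain-level section `Q → A` -/
noncomputable def SplitData.h : (q : ℕ) → Qm f q →ₗ[R] A.X q
  | 0 => (A.d 1 0).hom ∘ₗ D.j 1 ∘ₗ D.s 0
  | q + 1 => (A.d (q + 2) (q + 1)).hom ∘ₗ D.j (q + 2) ∘ₗ D.s (q + 1) +
      D.j (q + 1) ∘ₗ D.s q ∘ₗ dQ f q

lemma SplitData.mk_j (q : ℕ) (w : Qm f q) : (Submodule.Quotient.mk (D.j q w) : Qm f q) = w :=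
  LinearMap.congr_fun (D.hj q) w

lemma SplitData.mk_h (q : ℕ) (w : Qm f q) : (Submodule.Quotient.mk (D.h q w) : Qm f q) = w := by
  cases q with
  | zero =>
    simp only [SplitData.h, LinearMap.comp_apply]
    rw [← dQ_mk, D.mk_j]
    exact LinearMap.congr_fun D.s_zero w
  | succ q =>
    simp only [SplitData.h, LinearMap.add_apply, LinearMap.comp_apply]
    rw [Submodule.Quotient.mk_add, ← dQ_mk, D.mk_j, D.mk_j]
    exact LinearMap.congr_fun (D.s_succ q) w

lemma SplitData.d_h (q : ℕ) (w : Qm f (q + 1)) :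
    (A.d (q + 1) q).hom (D.h (q + 1) w) = D.h q (dQ f q w) := by
  have hdd : dQ f q (dQ f (q + 1) (D.s (q + 1) w)) = 0 :=
    LinearMap.congr_fun (dQ_dQ f q) _
  cases q with
  | zero =>
    simp only [SplitData.h, LinearMap.add_apply, LinearMap.comp_apply, map_add]
    rw [dd_apply, zero_add]
  | succ q =>
    simp only [SplitData.h, LinearMap.add_apply, LinearMap.comp_apply, map_add]
    rw [dd_apply, zero_add]
    have : dQ f q (dQ f (q + 1) w) = 0 := LinearMap.congr_fun (dQ_dQ f q) w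
    rw [this, map_zero, map_zero, add_zero]

variable (hf : ∀ q, Function.Injective (f.f q).hom)

lemma SplitData.sub_mem_range (q : ℕ) (a : A.X q) :
    a - D.h q (Submodule.Quotient.mk a) ∈ LinearMap.range (f.f q).hom := by
  rw [← Submodule.Quotient.mk_eq_zero, Submodule.Quotient.mk_sub, D.mk_h, sub_self]

/-- the retraction in degree `q` -/
noncomputable def SplitData.g (q : ℕ) : A.X q →ₗ[R] A'.X q :=
  (LinearEquiv.ofInjective (f.f q).hom (hf q)).symm.toLinearMap ∘ₗ
    (LinearMap.id - D.h q ∘ₗ (LinearMap.range (f.f q).hom).mkQ).codRestrict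
      (LinearMap.range (f.f q).hom) (fun a => D.sub_mem_range q a)

lemma SplitData.f_g (q : ℕ) (a : A.X q) :
    (f.f q).hom (D.g hf q a) = a - D.h q (Submodule.Quotient.mk a) := by
  have := (LinearEquiv.ofInjective (f.f q).hom (hf q)).apply_symm_apply
    ((LinearMap.id - D.h q ∘ₗ (LinearMap.range (f.f q).hom).mkQ).codRestrict
      (LinearMap.range (f.f q).hom) (fun a => D.sub_mem_range q a) a)
  exact congrArg Subtype.val this

lemma SplitData.g_f (q : ℕ) (a' : A'.X q) : D.g hf q ((f.f q).hom a') = a' := by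
  apply hf q
  rw [D.f_g]
  have : (Submodule.Quotient.mk ((f.f q).hom a') : Qm f q) = 0 := by
    rw [Submodule.Quotient.mk_eq_zero]
    exact ⟨a', rfl⟩
  rw [this, map_zero, sub_zero]

lemma SplitData.d_g (q : ℕ) (a : A.X (q + 1)) :
    (A'.d (q + 1) q).hom (D.g hf (q + 1) a) = D.g hf q ((A.d (q + 1) q).hom a) := by
  apply hf q
  rw [← f_comm_apply, D.f_g, D.f_g, map_sub, D.d_h, dQ_mk]

/-- the retraction as a chain map -/
noncomputable def SplitData.gHom : A ⟶ A' where
  f q := ModuleCat.ofHom (D.g hf q)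
  comm' := by
    rintro i j (rfl : j + 1 = i)
    ext a
    exact (D.d_g hf j a)

theorem SplitData.f_gHom : f ≫ D.gHom hf = 𝟙 A' := by
  ext q a
  exact D.g_f hf q a

end Assemble

lemma projective_of_free_int {M : Type*} [AddCommGroup M] (inst : Module ℤ M)
    (h : @Module.Free ℤ M _ _ (AddCommGroup.toIntModule M)) : @Module.Projective ℤ _ M _ inst := by
  have : inst = AddCommGroup.toIntModule M := Subsingleton.elim _ _
  subst this
  exact Module.Projective.of_free

theorem S16329 (A' A : ChainComplex (ModuleCat.{v} ℤ) ℕ) (f : A' ⟶ A)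
    [∀ q, Module.Free ℤ (A'.X q)] [∀ q, Module.Free ℤ (A.X q)]
    (hf : ∀ q, Function.Injective (f.f q).hom)
    (hq : ∀ q, Module.Free ℤ ((A.X q) ⧸ LinearMap.range (f.f q).hom)) [QuasiIso f] :
    ∃ g : A ⟶ A', f ≫ g = 𝟙 A' := by
  obtain ⟨D⟩ := exists_splitData f hf (fun q => projective_of_free_int _ (hq q))
    (qIsoConds_of_quasiIso f)
  exact ⟨D.gHom hf, D.f_gHom hf⟩
section Htpy
variable {R : Type u} [Ring R] {A' A : ChainComplex (ModuleCat.{v} R) ℕ} {f : A' ⟶ A}
  (D : SplitData f) (g₁ g₂ : A ⟶ A') (h₁ : f ≫ g₁ = 𝟙 A') (h₂ : f ≫ g₂ = 𝟙 A')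

/-- the difference of two retractions -/
def delta (q : ℕ) : A.X q →ₗ[R] A'.X q := (g₁.f q).hom - (g₂.f q).hom

include h₁ h₂ in
lemma delta_f (q : ℕ) (a' : A'.X q) : delta g₁ g₂ q ((f.f q).hom a') = 0 := by
  have e₁ := congrArg (fun φ => (φ.f q).hom a') h₁
  have e₂ := congrArg (fun φ => (φ.f q).hom a') h₂
  simp only [HomologicalComplex.comp_f, ModuleCat.hom_comp, LinearMap.comp_apply,
    HomologicalComplex.id_f, ModuleCat.hom_id, LinearMap.id_apply] at e₁ e₂
  simp only [delta, LinearMap.sub_apply, e₁, e₂, sub_self]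

include h₁ h₂ in
lemma delta_j_mk (q : ℕ) (a : A.X q) :
    delta g₁ g₂ q (D.j q (Submodule.Quotient.mk a)) = delta g₁ g₂ q a := by
  have hmem : a - D.j q (Submodule.Quotient.mk a) ∈ LinearMap.range (f.f q).hom := by
    rw [← Submodule.Quotient.mk_eq_zero, Submodule.Quotient.mk_sub, D.mk_j, sub_self]
  obtain ⟨a', ha'⟩ := hmem
  have := delta_f g₁ g₂ h₁ h₂ q a'
  rw [ha', map_sub, sub_eq_zero] at this
  exact this.symm

lemma delta_d (q : ℕ) (a : A.X (q + 1)) :
    (A'.d (q + 1) q).hom (delta g₁ g₂ (q + 1) a) = delta g₁ g₂ q ((A.d (q + 1) q).hom a) := by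
  have e₁ := congrArg (fun φ => φ.hom a) (g₁.comm (q + 1) q)
  have e₂ := congrArg (fun φ => φ.hom a) (g₂.comm (q + 1) q)
  simp only [ModuleCat.hom_comp, LinearMap.comp_apply] at e₁ e₂
  simp only [delta, LinearMap.sub_apply, map_sub, e₁, e₂]

/-- the homotopy component -/
noncomputable def Hq (q : ℕ) : A.X q →ₗ[R] A'.X (q + 1) :=
  delta g₁ g₂ (q + 1) ∘ₗ D.j (q + 1) ∘ₗ D.s q ∘ₗ (LinearMap.range (f.f q).hom).mkQ

include h₁ h₂ in
lemma d_Hq_zero (a : A.X 0) : (A'.d 1 0).hom (Hq D g₁ g₂ 0 a) = delta g₁ g₂ 0 a := by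
  simp only [Hq, LinearMap.comp_apply, Submodule.mkQ_apply]
  rw [delta_d, ← delta_j_mk D g₁ g₂ h₁ h₂ 0 ((A.d 1 0).hom _), ← dQ_mk, D.mk_j]
  have := LinearMap.congr_fun D.s_zero (Submodule.Quotient.mk a)
  simp only [LinearMap.comp_apply, LinearMap.id_apply] at this
  rw [this, delta_j_mk D g₁ g₂ h₁ h₂]

include h₁ h₂ in
lemma d_Hq_succ (q : ℕ) (a : A.X (q + 1)) :
    Hq D g₁ g₂ q ((A.d (q + 1) q).hom a) + (A'.d (q + 2) (q + 1)).hom (Hq D g₁ g₂ (q + 1) a) =
      delta g₁ g₂ (q + 1) a := by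
  simp only [Hq, LinearMap.comp_apply, Submodule.mkQ_apply]
  set x := D.j (q + 2) (D.s (q + 1) (Submodule.Quotient.mk a)) with hx
  have e1 : (A'.d (q + 2) (q + 1)).hom (delta g₁ g₂ (q + 2) x) =
      delta g₁ g₂ (q + 1) (D.j (q + 1) (dQ f (q + 1) (D.s (q + 1) (Submodule.Quotient.mk a)))) := by
    rw [delta_d, ← delta_j_mk D g₁ g₂ h₁ h₂ (q + 1) ((A.d (q + 2) (q + 1)).hom x), ← dQ_mk, hx,
      D.mk_j]
  have e2 : (Submodule.Quotient.mk ((A.d (q + 1) q).hom a) : Qm f q) =
      dQ f q (Submodule.Quotient.mk a) := rfl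
  rw [e1, e2, ← map_add, ← map_add]
  have := LinearMap.congr_fun (D.s_succ q) (Submodule.Quotient.mk a)
  simp only [LinearMap.add_apply, LinearMap.comp_apply, LinearMap.id_apply] at this
  rw [add_comm ((D.s q) _), this, delta_j_mk D g₁ g₂ h₁ h₂]

include D h₁ h₂ in
theorem exists_homotopy :
    ∃ H : Homotopy g₁ g₂, ∀ i j : ℕ, f.f i ≫ H.hom i j = 0 := by
  refine ⟨{ hom := fun i j => if h : i + 1 = j then
              ModuleCat.ofHom (Hq D g₁ g₂ i) ≫ eqToHom (by rw [h]) else 0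
            zero := ?_
            comm := ?_ }, ?_⟩
  · intro i j hij
    rw [dif_neg]
    intro h
    exact hij ((ComplexShape.down_Rel _ _ _).mpr h)
  · intro i
    cases i with
    | zero =>
      rw [Homotopy.dNext_zero_chainComplex, Homotopy.prevD_chainComplex, zero_add, dif_pos rfl]
      ext a
      simp only [eqToHom_refl, Category.comp_id, ModuleCat.hom_add, ModuleCat.hom_comp,
        LinearMap.add_apply, LinearMap.comp_apply, ModuleCat.hom_ofHom]
      rw [d_Hq_zero D g₁ g₂ h₁ h₂, delta, LinearMap.sub_apply, sub_add_cancel]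
    | succ q =>
      rw [Homotopy.dNext_succ_chainComplex, Homotopy.prevD_chainComplex, dif_pos rfl, dif_pos rfl]
      ext a
      simp only [eqToHom_refl, Category.comp_id, ModuleCat.hom_add, ModuleCat.hom_comp,
        LinearMap.add_apply, LinearMap.comp_apply, ModuleCat.hom_ofHom]
      rw [d_Hq_succ D g₁ g₂ h₁ h₂, delta, LinearMap.sub_apply, sub_add_cancel]
  · intro i j
    dsimp only
    split_ifs with h
    · subst h
      ext a'
      simp only [eqToHom_refl, Category.comp_id, ModuleCat.hom_comp, LinearMap.comp_apply,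
        ModuleCat.hom_ofHom, ModuleCat.hom_zero, LinearMap.zero_apply]
      simp only [Hq, LinearMap.comp_apply, Submodule.mkQ_apply]
      have : (Submodule.Quotient.mk ((f.f i).hom a') : Qm f i) = 0 := by
        rw [Submodule.Quotient.mk_eq_zero]
        exact ⟨a', rfl⟩
      rw [this, map_zero, map_zero, map_zero]
    · rw [comp_zero]

end Htpy

theorem S16330 (A' A : ChainComplex (ModuleCat.{v} ℤ) ℕ) (f : A' ⟶ A)
    [∀ q, Module.Free ℤ (A'.X q)] [∀ q, Module.Free ℤ (A.X q)]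
    (hf : ∀ q, Function.Injective (f.f q).hom)
    (hq : ∀ q, Module.Free ℤ ((A.X q) ⧸ LinearMap.range (f.f q).hom)) [QuasiIso f]
    (g₁ g₂ : A ⟶ A') (h₁ : f ≫ g₁ = 𝟙 A') (h₂ : f ≫ g₂ = 𝟙 A') :
    ∃ H : Homotopy g₁ g₂, ∀ i j : ℕ, f.f i ≫ H.hom i j = 0 := by
  obtain ⟨D⟩ := exists_splitData f hf (fun q => projective_of_free_int _ (hq q))
    (qIsoConds_of_quasiIso f)
  exact exists_homotopy D g₁ g₂ h₁ h₂

lemma projective_int_of_free {M : Type*} [AddCommGroup M] (inst1 inst2 : Module ℤ M)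
    (h : @Module.Free ℤ M _ _ inst1) : @Module.Projective ℤ _ M _ inst2 := by
  have : inst1 = inst2 := Subsingleton.elim _ _
  subst this
  exact Module.Projective.of_free

section Sec
variable {R : Type u} [Ring R] {A' A A'' : ChainComplex (ModuleCat.{v} R) ℕ} {f : A' ⟶ A}
  (p : A ⟶ A'') (hp : ∀ q, Function.Surjective (p.f q).hom)
  (hfp : ∀ q, Function.Exact (f.f q).hom (p.f q).hom)

include hfp in
lemma range_le_ker (q : ℕ) : LinearMap.range (f.f q).hom ≤ LinearMap.ker (p.f q).hom := by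
  rw [(LinearMap.exact_iff.mp (hfp q))]

/-- the comparison `A/A' → A''` -/
def eQ (q : ℕ) : Qm f q →ₗ[R] A''.X q :=
  (LinearMap.range (f.f q).hom).liftQ (p.f q).hom (range_le_ker p hfp q)

@[simp] lemma eQ_mk (q : ℕ) (a : A.X q) :
    eQ p hfp q (Submodule.Quotient.mk a) = (p.f q).hom a := rfl

include hp in
lemma eQ_bijective (q : ℕ) : Function.Bijective (eQ p hfp q) := by
  constructor
  · rw [← LinearMap.ker_eq_bot, eQ, Submodule.ker_liftQ_eq_bot']
    rw [(LinearMap.exact_iff.mp (hfp q))]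
  · intro a''
    obtain ⟨a, rfl⟩ := hp q a''
    exact ⟨Submodule.Quotient.mk a, rfl⟩

lemma eQ_dQ (q : ℕ) (w : Qm f (q + 1)) :
    eQ p hfp q (dQ f q w) = (A''.d (q + 1) q).hom (eQ p hfp (q + 1) w) := by
  induction w using Submodule.Quotient.induction_on with
  | H a =>
    rw [dQ_mk, eQ_mk, eQ_mk]
    have h := congrArg (fun φ => φ.hom a) (p.comm (q + 1) q)
    simpa only [ModuleCat.hom_comp, LinearMap.comp_apply] using h.symm

include hp hfp in
lemma projective_Qm (q : ℕ) (h : Module.Projective R (A''.X q)) : Module.Projective R (Qm f q) :=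
  Module.Projective.of_equiv'
    (LinearEquiv.ofBijective (eQ p hfp q) (eQ_bijective p hp hfp q)).symm

include hp hfp in
theorem exists_section (D : SplitData f) (hf : ∀ q, Function.Injective (f.f q).hom) :
    ∃ h : A'' ⟶ A, ∀ q : ℕ,
      Function.Bijective (fun x : A''.X q × A'.X q => (h.f q).hom x.1 + (f.f q).hom x.2) := by
  let e : ∀ q, Qm f q ≃ₗ[R] A''.X q := fun q =>
    LinearEquiv.ofBijective (eQ p hfp q) (eQ_bijective p hp hfp q)
  let hh : ∀ q, A''.X q →ₗ[R] A.X q := fun q => D.h q ∘ₗ (e q).symm.toLinearMap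
  have hph : ∀ q (a'' : A''.X q), (p.f q).hom (hh q a'') = a'' := by
    intro q a''
    simp only [hh, LinearMap.comp_apply, LinearEquiv.coe_coe]
    rw [← eQ_mk p hfp, D.mk_h]
    exact (e q).apply_symm_apply a''
  have hpf : ∀ q (a' : A'.X q), (p.f q).hom ((f.f q).hom a') = 0 := fun q a' =>
    (hfp q).apply_apply_eq_zero a'
  refine ⟨{ f := fun q => ModuleCat.ofHom (hh q), comm' := ?_ }, ?_⟩
  · rintro i j (rfl : j + 1 = i)
    ext a''
    simp only [ModuleCat.hom_comp, LinearMap.comp_apply, ModuleCat.hom_ofHom, hh,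
      LinearEquiv.coe_coe]
    rw [D.d_h]
    congr 1
    apply (e j).injective
    rw [LinearEquiv.apply_symm_apply]
    change eQ p hfp j _ = _
    rw [eQ_dQ]
    congr 1
    exact (e (j + 1)).apply_symm_apply a''
  · intro q
    constructor
    · rintro ⟨a'', a'⟩ ⟨b'', b'⟩ hab
      simp only [ModuleCat.hom_ofHom] at hab
      have h1 := congrArg (p.f q).hom hab
      rw [map_add, map_add, hph, hph, hpf, hpf, add_zero, add_zero] at h1
      subst h1
      have h2 := hf q (add_left_cancel hab)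
      rw [h2]
    · intro a
      have hmem : a - hh q ((p.f q).hom a) ∈ LinearMap.range (f.f q).hom := by
        rw [← (LinearMap.exact_iff.mp (hfp q)), LinearMap.mem_ker, map_sub, hph, sub_self]
      obtain ⟨a', ha'⟩ := hmem
      refine ⟨((p.f q).hom a, a'), ?_⟩
      simp only [ModuleCat.hom_ofHom]
      rw [ha']
      abel

end Sec

theorem S16328
    (A' A A'' : ChainComplex (ModuleCat.{v} ℤ) ℕ) (f : A' ⟶ A) (p : A ⟶ A'')
    [∀ q, Module.Free ℤ (A'.X q)] [∀ q, Module.Free ℤ (A.X q)] [hA'' : ∀ q, Module.Free ℤ (A''.X q)]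
    (hf : ∀ q, Function.Injective (f.f q).hom) (hp : ∀ q, Function.Surjective (p.f q).hom)
    (hfp : ∀ q, Function.Exact (f.f q).hom (p.f q).hom) [QuasiIso f] :
    ∃ h : A'' ⟶ A, ∀ q : ℕ,
      Function.Bijective (fun x : A''.X q × A'.X q => (h.f q).hom x.1 + (f.f q).hom x.2) := by
  have hproj : ∀ q, @Module.Projective ℤ _ (Qm f q) _
      (Submodule.Quotient.module (LinearMap.range (f.f q).hom)) := by
    intro q
    have h1 : @Module.Projective ℤ _ (A''.X q) _ (A''.X q).isModule :=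
      projective_int_of_free _ _ (hA'' q)
    exact projective_Qm p hp hfp q h1
  obtain ⟨D⟩ := exists_splitData f hf hproj (qIsoConds_of_quasiIso f)
  exact exists_section p hp hfp D hf

end Groth.Agent.Helper1.SplitCxL
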