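import Mathlib
import Groth.Prelude.Def_W4c3biextchowCx
import Groth.Agent.Lib.Helper1.SplitCxL
set_option autoImplicit false
universe v u
open CategoryTheory CategoryTheory.Limits

namespace Groth.Agent.Helper1.CxGrpdL2
open W4c3biextchow

section
variable {R : Type u} [Ring R] {A B : ChainComplex (ModuleCat.{v} R) ℕ} {φ₁ φ₂ : A ⟶ B}
  (K : Homotopy φ₁ φ₂)

lemma comm_zero_apply (a : A.X 0) :
    (φ₁.f 0).hom a = (B.d 1 0).hom ((K.hom 0 1).hom a) + (φ₂.f 0).hom a := by
  have h := K.comm 0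
  rw [Homotopy.dNext_zero_chainComplex, Homotopy.prevD_chainComplex, zero_add] at h
  have h' := congrArg (fun ψ => ψ.hom a) h
  simpa only [ModuleCat.hom_add, ModuleCat.hom_comp, LinearMap.add_apply,
    LinearMap.comp_apply] using h'

lemma comm_one_apply (x : A.X 1) :
    (φ₁.f 1).hom x = (K.hom 0 1).hom ((A.d 1 0).hom x) + (B.d 2 1).hom ((K.hom 1 2).hom x) +
      (φ₂.f 1).hom x := by
  have h := K.comm 1
  rw [Homotopy.dNext_succ_chainComplex, Homotopy.prevD_chainComplex] at h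
  have h' := congrArg (fun ψ => ψ.hom x) h
  simpa only [ModuleCat.hom_add, ModuleCat.hom_comp, LinearMap.add_apply,
    LinearMap.comp_apply] using h'

/-- the component of the natural isomorphism attached to a homotopy -/
def homApp (a : Obj A) : (cxFunctor φ₁).obj a ≅ (cxFunctor φ₂).obj a where
  hom := ⟨-Submodule.Quotient.mk ((K.hom 0 1).hom a.pt), by
    rw [map_neg, delta_mk, cxFunctor_obj_pt, cxFunctor_obj_pt, comm_zero_apply K a.pt]
    abel⟩
  inv := ⟨Submodule.Quotient.mk ((K.hom 0 1).hom a.pt), by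
    rw [delta_mk, cxFunctor_obj_pt, cxFunctor_obj_pt, comm_zero_apply K a.pt]
    abel⟩
  hom_inv_id := by
    apply Hom.ext
    rw [comp_cl, id_cl]
    exact neg_add_cancel _
  inv_hom_id := by
    apply Hom.ext
    rw [comp_cl, id_cl]
    exact add_neg_cancel _

/-- the natural isomorphism attached to a homotopy -/
def natIsoOfHomotopy : cxFunctor φ₁ ≅ cxFunctor φ₂ :=
  NatIso.ofComponents (homApp K) (by
    intro a b u
    apply Hom.ext
    rw [comp_cl, comp_cl, cxFunctor_map_cl, cxFunctor_map_cl]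
    have hu := (u : Hom A a b).delta_cl
    obtain ⟨x, hx⟩ := Submodule.Quotient.mk_surjective _ (u : Hom A a b).cl
    rw [← hx] at hu ⊢
    rw [delta_mk] at hu
    change q1Map φ₁ (Submodule.Quotient.mk x) + -Submodule.Quotient.mk ((K.hom 0 1).hom b.pt) =
      -Submodule.Quotient.mk ((K.hom 0 1).hom a.pt) + q1Map φ₂ (Submodule.Quotient.mk x)
    rw [q1Map_mk, q1Map_mk, ← sub_eq_zero, ← Submodule.Quotient.mk_neg,
      ← Submodule.Quotient.mk_neg, ← Submodule.Quotient.mk_add, ← Submodule.Quotient.mk_add,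
      ← Submodule.Quotient.mk_sub, Submodule.Quotient.mk_eq_zero]
    refine ⟨(K.hom 1 2).hom x, ?_⟩
    rw [comm_one_apply K x, hu, map_sub]
    abel)

lemma natIsoOfHomotopy_hom_app_cl (a : Obj A) :
    ((natIsoOfHomotopy K).hom.app a : Hom B _ _).cl =
      -Submodule.Quotient.mk ((K.hom 0 1).hom a.pt) := rfl

end

theorem S16331
    (A' A B : ChainComplex (ModuleCat.{v} ℤ) ℕ) (f : A' ⟶ A) (h' : A' ⟶ B)
    [∀ q, Module.Free ℤ (A'.X q)] [∀ q, Module.Free ℤ (A.X q)] [∀ q, Module.Free ℤ (B.X q)]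
    (hf : ∀ q, Function.Injective (f.f q).hom)
    (hq : ∀ q, Module.Free ℤ ((A.X q) ⧸ LinearMap.range (f.f q).hom)) [QuasiIso f]
    (g₁ g₂ : A ⟶ A') (h₁ : f ≫ g₁ = 𝟙 A') (h₂ : f ≫ g₂ = 𝟙 A') :
    ∃ N : W4c3biextchow.cxFunctor (g₁ ≫ h') ≅ W4c3biextchow.cxFunctor (g₂ ≫ h'),
      ∀ a : W4c3biextchow.Obj A',
        (N.hom.app ((W4c3biextchow.cxFunctor f).obj a) : W4c3biextchow.Hom B _ _).cl = 0 := by
  obtain ⟨H, hH⟩ := SplitCxL.S16330 A' A f hf hq g₁ g₂ h₁ h₂
  refine ⟨natIsoOfHomotopy (H.compRight h'), fun a => ?_⟩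
  rw [natIsoOfHomotopy_hom_app_cl, neg_eq_zero, Submodule.Quotient.mk_eq_zero]
  have h0 := congrArg (fun ψ => ψ.hom a.pt) (hH 0 1)
  simp only [ModuleCat.hom_comp, LinearMap.comp_apply, ModuleCat.hom_zero,
    LinearMap.zero_apply] at h0
  have : ((H.compRight h').hom 0 1).hom ((cxFunctor f).obj a).pt = 0 := by
    rw [cxFunctor_obj_pt]
    simp only [Homotopy.compRight_hom, ModuleCat.hom_comp, LinearMap.comp_apply]
    rw [h0, map_zero]
  rw [this]
  exact Submodule.zero_mem _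

end Groth.Agent.Helper1.CxGrpdL2
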