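import Mathlib
import Groth.Agent.Lib.Helper1.NilNak
import Groth.Agent.Lib.Helper1.FlatQuot
import Groth.Agent.Lib.Helper1.RegLift

universe u v v' w
open TensorProduct

namespace Groth.Agent.Helper1.CxLift

section V
variable {A : Type u} [CommRing A] [IsLocalRing A]
  {M : Type v} [AddCommGroup M] [Module A M] {N : Type v'} [AddCommGroup N] [Module A N]
  (φ : M →ₗ[A] N)

local notation "𝔪" => IsLocalRing.maximalIdeal A

lemma tmul_eq_zero_of_mem {P : Type w} [AddCommGroup P] [Module A P]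
    (hP : ∀ a ∈ 𝔪, ∀ n : P, a • n = 0) (n : P) {x : M} (hx : x ∈ 𝔪 • (⊤ : Submodule A M)) :
    n ⊗ₜ[A] x = 0 := by
  refine Submodule.smul_induction_on hx ?_ ?_
  · intro a ha m _
    rw [← TensorProduct.smul_tmul, hP a ha, TensorProduct.zero_tmul]
  · intro x y hx hy
    rw [TensorProduct.tmul_add, hx, hy, add_zero]

/-- vector space case -/
lemma lTensor_injective_of_torsion
    (hφ : ∀ m : M, φ m ∈ 𝔪 • (⊤ : Submodule A N) → m ∈ 𝔪 • (⊤ : Submodule A M))
    {P : Type w} [AddCommGroup P] [Module A P] (hP : ∀ a ∈ 𝔪, ∀ n : P, a • n = 0) :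
    Function.Injective (φ.lTensor P) := by
  let PM : Submodule A M := 𝔪 • ⊤
  let PN : Submodule A N := 𝔪 • ⊤
  have hle : PM ≤ PN.comap φ := Submodule.smul_top_le_comap_smul_top 𝔪 φ
  let f : (M ⧸ PM) →ₗ[A] (N ⧸ PN) := PM.mapQ PN φ hle
  have hf : Function.Injective f := by
    rw [injective_iff_map_eq_zero]
    intro x hx
    obtain ⟨m, rfl⟩ := PM.mkQ_surjective x
    have : PN.mkQ (φ m) = 0 := hx
    rw [Submodule.mkQ_apply, Submodule.Quotient.mk_eq_zero] at this
    rw [Submodule.mkQ_apply, Submodule.Quotient.mk_eq_zero]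
    exact hφ m this
  let f' : (M ⧸ PM) →ₗ[A ⧸ 𝔪] (N ⧸ PN) :=
    LinearMap.extendScalarsOfSurjective (Ideal.Quotient.mk_surjective (I := 𝔪)) f
  letI : Field (A ⧸ 𝔪) := Ideal.Quotient.field 𝔪
  obtain ⟨g', hg'⟩ := f'.exists_leftInverse_of_injective (LinearMap.ker_eq_bot.mpr hf)
  let g : (N ⧸ PN) →ₗ[A] (M ⧸ PM) := g'.restrictScalars A
  have hgf : g ∘ₗ f = LinearMap.id := by
    ext x
    exact LinearMap.congr_fun hg' (PM.mkQ x)
  rw [injective_iff_map_eq_zero]
  intro z hz
  have h1 : (f.lTensor P) (PM.mkQ.lTensor P z) = 0 := by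
    have : f ∘ₗ PM.mkQ = PN.mkQ ∘ₗ φ := by ext; rfl
    rw [← LinearMap.comp_apply, ← LinearMap.lTensor_comp, this, LinearMap.lTensor_comp,
      LinearMap.comp_apply, hz, map_zero]
  have h2 : PM.mkQ.lTensor P z = 0 := by
    have := congrArg (g.lTensor P) h1
    rw [← LinearMap.comp_apply, ← LinearMap.lTensor_comp, hgf, LinearMap.lTensor_id, map_zero]
      at this
    exact this
  have hex := lTensor_exact P (LinearMap.exact_subtype_mkQ PM) PM.mkQ_surjective
  obtain ⟨w, rfl⟩ := (hex z).mp h2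
  clear hz h1 h2
  induction w using TensorProduct.induction_on with
  | zero => simp
  | tmul n x =>
    rw [LinearMap.lTensor_tmul]
    exact tmul_eq_zero_of_mem hP n x.2
  | add x y hx hy => rw [map_add, hx, hy, add_zero]

lemma lTensor_injective_of_pow [Module.Flat A N]
    (hφ : ∀ m : M, φ m ∈ 𝔪 • (⊤ : Submodule A N) → m ∈ 𝔪 • (⊤ : Submodule A M)) (j : ℕ) :
    ∀ (P : Type w) [AddCommGroup P] [Module A P], (𝔪 ^ j • (⊤ : Submodule A P) = ⊥) →
      Function.Injective (φ.lTensor P) := by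
  induction j with
  | zero =>
    intro P _ _ h
    rw [pow_zero, Ideal.one_eq_top, Submodule.top_smul] at h
    have : Subsingleton P := by
      rw [← Submodule.subsingleton_iff A (M := P)]
      exact subsingleton_of_bot_eq_top h.symm
    have : Subsingleton (P ⊗[A] M) := inferInstance
    exact Function.injective_of_subsingleton _
  | succ j ih =>
    intro P _ _ h
    let P' : Submodule A P := 𝔪 • ⊤
    have h' : 𝔪 ^ j • (⊤ : Submodule A P') = ⊥ := by
      apply Submodule.map_injective_of_injective P'.injective_subtype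
      rw [Submodule.map_smul'', Submodule.map_subtype_top, Submodule.map_bot]
      show 𝔪 ^ j • (𝔪 • (⊤ : Submodule A P)) = ⊥
      rw [← Submodule.mul_smul, ← pow_succ, h]
    have h'' : ∀ a ∈ 𝔪, ∀ n : P ⧸ P', a • n = 0 := by
      intro a ha n
      obtain ⟨x, rfl⟩ := P'.mkQ_surjective n
      rw [← map_smul, Submodule.mkQ_apply, Submodule.Quotient.mk_eq_zero]
      exact Submodule.smul_mem_smul ha Submodule.mem_top
    have hV := lTensor_injective_of_torsion φ hφ h''
    have hI := ih P' h'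
    have hex := rTensor_exact M (LinearMap.exact_subtype_mkQ P') P'.mkQ_surjective
    have hflat := Module.Flat.rTensor_preserves_injective_linearMap (M := N) P'.subtype
      P'.injective_subtype
    rw [injective_iff_map_eq_zero]
    intro z hz
    have h1 : P'.mkQ.rTensor M z = 0 := by
      apply hV
      rw [map_zero, ← LinearMap.comp_apply, LinearMap.lTensor_comp_rTensor,
        ← LinearMap.rTensor_comp_lTensor, LinearMap.comp_apply, hz, map_zero]
    obtain ⟨z', rfl⟩ := (hex z).mp h1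
    have h2 : φ.lTensor P' z' = 0 := by
      apply hflat
      rw [map_zero, ← LinearMap.comp_apply, LinearMap.rTensor_comp_lTensor,
        ← LinearMap.lTensor_comp_rTensor, LinearMap.comp_apply, hz]
    rw [hI (h2.trans (map_zero _).symm), map_zero]

/-- `P ⊗ φ` is injective for every `P`, when `𝔪` is nilpotent. -/
lemma lTensor_injective [Module.Flat A N] (hnil : IsNilpotent 𝔪)
    (hφ : ∀ m : M, φ m ∈ 𝔪 • (⊤ : Submodule A N) → m ∈ 𝔪 • (⊤ : Submodule A M))
    (P : Type w) [AddCommGroup P] [Module A P] : Function.Injective (φ.lTensor P) := by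
  obtain ⟨j, hj⟩ := hnil
  refine lTensor_injective_of_pow φ hφ j P ?_
  rw [hj, Ideal.zero_eq_bot, Submodule.bot_smul]

lemma mem_smul_top_iff_tmul_eq_zero (I : Ideal A) (m : M) :
    m ∈ I • (⊤ : Submodule A M) ↔ (1 : A ⧸ I) ⊗ₜ[A] m = 0 := by
  rw [← (TensorProduct.quotTensorEquivQuotSMul M I).map_eq_zero_iff,
    TensorProduct.quotTensorEquivQuotSMul_mk_one_tmul, Submodule.Quotient.mk_eq_zero]

lemma mem_of_map_mem [Module.Flat A N] (hnil : IsNilpotent 𝔪)
    (hφ : ∀ m : M, φ m ∈ 𝔪 • (⊤ : Submodule A N) → m ∈ 𝔪 • (⊤ : Submodule A M))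
    (I : Ideal A) {m : M} (hm : φ m ∈ I • (⊤ : Submodule A N)) :
    m ∈ I • (⊤ : Submodule A M) := by
  rw [mem_smul_top_iff_tmul_eq_zero] at hm ⊢
  apply lTensor_injective φ hnil hφ (A ⧸ I)
  rw [LinearMap.lTensor_tmul, hm, map_zero]

lemma injective_of_mod [Module.Flat A N] (hnil : IsNilpotent 𝔪)
    (hφ : ∀ m : M, φ m ∈ 𝔪 • (⊤ : Submodule A N) → m ∈ 𝔪 • (⊤ : Submodule A M)) :
    Function.Injective φ := by
  rw [injective_iff_map_eq_zero]
  intro m hm
  have := mem_of_map_mem φ hnil hφ ⊥ (m := m) (by rw [hm]; exact Submodule.zero_mem _)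
  rwa [Submodule.bot_smul, Submodule.mem_bot] at this

/-- the cokernel is flat -/
lemma flat_coker [Module.Flat A N] (hnil : IsNilpotent 𝔪)
    (hφ : ∀ m : M, φ m ∈ 𝔪 • (⊤ : Submodule A N) → m ∈ 𝔪 • (⊤ : Submodule A M))
    {C : Type w} [AddCommGroup C] [Module A C] (p : N →ₗ[A] C) (hp : Function.Surjective p)
    (hex : Function.Exact φ p) : Module.Flat A C := by
  rw [Module.Flat.iff_rTensor_injective']
  intro I
  rw [injective_iff_map_eq_zero]
  intro c hc
  obtain ⟨m', rfl⟩ := LinearMap.lTensor_surjective I hp c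
  have hexA := lTensor_exact A hex hp
  have h1 : p.lTensor A (I.subtype.rTensor N m') = 0 := by
    rw [← LinearMap.comp_apply, LinearMap.lTensor_comp_rTensor, ← LinearMap.rTensor_comp_lTensor,
      LinearMap.comp_apply, hc]
  obtain ⟨m₁, hm₁⟩ := (hexA _).mp h1
  have hexI := rTensor_exact M (LinearMap.exact_subtype_mkQ I) I.mkQ_surjective
  have h2 : I.mkQ.rTensor M m₁ = 0 := by
    apply lTensor_injective φ hnil hφ (A ⧸ I)
    rw [map_zero, ← LinearMap.comp_apply, LinearMap.lTensor_comp_rTensor,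
      ← LinearMap.rTensor_comp_lTensor, LinearMap.comp_apply, hm₁, ← LinearMap.comp_apply,
      ← LinearMap.rTensor_comp]
    have : I.mkQ ∘ₗ I.subtype = 0 := by
      ext x
      exact Ideal.Quotient.eq_zero_iff_mem.mpr x.2
    rw [this, LinearMap.rTensor_zero, LinearMap.zero_apply]
  obtain ⟨m₁', rfl⟩ := (hexI _).mp h2
  have hflat := Module.Flat.rTensor_preserves_injective_linearMap (M := N) I.subtype
    I.injective_subtype
  have h3 : φ.lTensor I m₁' = m' := by
    apply hflat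
    rw [← hm₁, ← LinearMap.comp_apply, LinearMap.rTensor_comp_lTensor,
      ← LinearMap.lTensor_comp_rTensor, LinearMap.comp_apply]
  rw [← h3, ← LinearMap.comp_apply, ← LinearMap.lTensor_comp]
  have : p ∘ₗ φ = 0 := by
    ext x
    exact hex.apply_apply_eq_zero x
  rw [this, LinearMap.lTensor_zero, LinearMap.zero_apply]

end V


section ker
variable {R : Type u} [CommRing R] {L G X : Type*} [AddCommGroup L] [Module R L]
  [AddCommGroup G] [Module R G] [AddCommGroup X] [Module R X]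

/-- the kernel of a surjection of flat modules is flat -/
theorem flat_of_exact_left [Module.Flat R G] [Module.Flat R X]
    (i : L →ₗ[R] G) (p : G →ₗ[R] X) (hi : Function.Injective i) (hp : Function.Surjective p)
    (hip : Function.Exact i p) : Module.Flat R L := by
  rw [Module.Flat.iff_rTensor_injective']
  intro I
  have h1 : Function.Injective (i.lTensor I) :=
    Groth.Agent.Helper1.FlatQuot.lTensor_injective_of_flat_coker I i p hi hp hip
  have h2 : Function.Injective (I.subtype.rTensor G) :=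
    Module.Flat.rTensor_preserves_injective_linearMap (M := G) I.subtype I.injective_subtype
  have h3 : (i.lTensor R) ∘ₗ (I.subtype.rTensor L) = (I.subtype.rTensor G) ∘ₗ (i.lTensor I) := by
    rw [LinearMap.lTensor_comp_rTensor, LinearMap.rTensor_comp_lTensor]
  have h4 : Function.Injective ((i.lTensor R) ∘ₗ (I.subtype.rTensor L)) := by
    rw [h3]; exact h2.comp h1
  exact Function.Injective.of_comp h4

end ker

section three
variable {A : Type u} [CommRing A] [IsLocalRing A]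
  {M₂ : Type v} {M₁ : Type v} {M₀ : Type v'} [AddCommGroup M₂] [Module A M₂]
  [AddCommGroup M₁] [Module A M₁] [AddCommGroup M₀] [Module A M₀]
  [Module.Flat A M₁] [Module.Flat A M₀]
  (d₂ : M₂ →ₗ[A] M₁) (d₁ : M₁ →ₗ[A] M₀)

local notation "𝔪" => IsLocalRing.maximalIdeal A

/-- three term complexes of flat modules over a local ring with nilpotent maximal ideal:
exactness modulo `𝔪` implies exactness, with flat cokernel -/
theorem three_term (hnil : IsNilpotent 𝔪) (hd : d₁ ∘ₗ d₂ = 0)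
    (H1 : ∀ x, d₂ x ∈ 𝔪 • (⊤ : Submodule A M₁) → x ∈ 𝔪 • (⊤ : Submodule A M₂))
    (H2 : ∀ y, d₁ y ∈ 𝔪 • (⊤ : Submodule A M₀) → y ∈ LinearMap.range d₂ ⊔ 𝔪 • (⊤ : Submodule A M₁))
    {Q : Type w} [AddCommGroup Q] [Module A Q] (p : M₀ →ₗ[A] Q) (hp : Function.Surjective p)
    (hex : Function.Exact d₁ p) :
    Function.Injective d₂ ∧ LinearMap.ker d₁ = LinearMap.range d₂ ∧ Module.Flat A Q := by
  have hinj := injective_of_mod d₂ hnil H1
  have hQ1 : Module.Flat A (M₁ ⧸ LinearMap.range d₂) :=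
    flat_coker d₂ hnil H1 (LinearMap.range d₂).mkQ (Submodule.mkQ_surjective _)
      (LinearMap.exact_map_mkQ_range d₂)
  have hle : LinearMap.range d₂ ≤ LinearMap.ker d₁ := by
    rintro _ ⟨x, rfl⟩
    exact LinearMap.congr_fun hd x
  set dt : (M₁ ⧸ LinearMap.range d₂) →ₗ[A] M₀ := (LinearMap.range d₂).liftQ d₁ hle with hdt
  have Ht : ∀ q, dt q ∈ 𝔪 • (⊤ : Submodule A M₀) →
      q ∈ 𝔪 • (⊤ : Submodule A (M₁ ⧸ LinearMap.range d₂)) := by
    intro q hq
    obtain ⟨y, rfl⟩ := (LinearMap.range d₂).mkQ_surjective q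
    have h1 : d₁ y ∈ 𝔪 • (⊤ : Submodule A M₀) := hq
    obtain ⟨a, ⟨x, rfl⟩, b, hb, rfl⟩ := Submodule.mem_sup.mp (H2 y h1)
    rw [map_add]
    have h2 : (LinearMap.range d₂).mkQ (d₂ x) = 0 := by
      rw [Submodule.mkQ_apply, Submodule.Quotient.mk_eq_zero]; exact ⟨x, rfl⟩
    rw [h2, zero_add]
    have h3 : (𝔪 • (⊤ : Submodule A M₁)).map (LinearMap.range d₂).mkQ ≤
        𝔪 • (⊤ : Submodule A (M₁ ⧸ LinearMap.range d₂)) := by
      rw [Submodule.map_smul'']
      exact Submodule.smul_mono le_rfl le_top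
    exact h3 ⟨b, hb, rfl⟩
  have hinjt := injective_of_mod dt hnil Ht
  refine ⟨hinj, le_antisymm ?_ hle, ?_⟩
  · intro y hy
    have h1 : dt ((LinearMap.range d₂).mkQ y) = 0 := hy
    have h2 := hinjt (h1.trans (map_zero dt).symm)
    rw [Submodule.mkQ_apply, Submodule.Quotient.mk_eq_zero] at h2
    exact h2
  · refine flat_coker dt hnil Ht p hp ?_
    intro z
    rw [hex z]
    constructor
    · rintro ⟨y, rfl⟩
      exact ⟨(LinearMap.range d₂).mkQ y, rfl⟩
    · rintro ⟨q, rfl⟩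
      obtain ⟨y, rfl⟩ := (LinearMap.range d₂).mkQ_surjective q
      exact ⟨y, rfl⟩

end three

section down
variable {R : Type u} [CommRing R] (𝔫 : Ideal R)
  {N₂ N₁ N₀ Q : Type*} [AddCommGroup N₂] [Module R N₂]
  [AddCommGroup N₁] [Module R N₁] [AddCommGroup N₀] [Module R N₀] [AddCommGroup Q] [Module R Q]
  [Module.Flat R N₀] [Module.Flat R Q]
  (e₂ : N₂ →ₗ[R] N₁) (e₁ : N₁ →ₗ[R] N₀) (p : N₀ →ₗ[R] Q)

include p in
/-- an exact three term complex with flat cokernel stays exact modulo any ideal -/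
theorem down (he₂ : Function.Injective e₂) (hex₂ : Function.Exact e₂ e₁)
    (hp : Function.Surjective p) (hex₁ : Function.Exact e₁ p) :
    (∀ x, e₂ x ∈ 𝔫 • (⊤ : Submodule R N₁) → x ∈ 𝔫 • (⊤ : Submodule R N₂)) ∧
    (∀ y, e₁ y ∈ 𝔫 • (⊤ : Submodule R N₀) → y ∈ LinearMap.range e₂ ⊔ 𝔫 • (⊤ : Submodule R N₁)) := by
  have hkp : LinearMap.ker p = LinearMap.range e₁ := hex₁.linearMap_ker_eq
  have hke : LinearMap.ker e₁ = LinearMap.range e₂ := hex₂.linearMap_ker_eq
  -- the image of `e₁` is flat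
  have hI : Module.Flat R (LinearMap.range e₁) := by
    refine flat_of_exact_left (LinearMap.range e₁).subtype p (Submodule.subtype_injective _) hp ?_
    intro z
    rw [← LinearMap.mem_ker, hkp]
    constructor
    · intro hz; exact ⟨⟨z, hz⟩, rfl⟩
    · rintro ⟨w, rfl⟩; exact w.2
  have hf0 := LinearMap.ker_inf_smul_top_eq_smul_of_flat 𝔫 p hp
  have hf1 := LinearMap.ker_inf_smul_top_eq_smul_of_flat 𝔫 e₁.rangeRestrict
    e₁.surjective_rangeRestrict
  rw [LinearMap.ker_rangeRestrict] at hf1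
  constructor
  · intro x hx
    have h1 : e₂ x ∈ LinearMap.ker e₁ ⊓ 𝔫 • (⊤ : Submodule R N₁) :=
      ⟨hex₂.apply_apply_eq_zero x, hx⟩
    rw [hf1, hke, ← Submodule.map_top, ← Submodule.map_smul''] at h1
    obtain ⟨x', hx', hxx⟩ := h1
    rw [← he₂ hxx]
    exact hx'
  · intro y hy
    have h1 : e₁ y ∈ LinearMap.ker p ⊓ 𝔫 • (⊤ : Submodule R N₀) :=
      ⟨hex₁.apply_apply_eq_zero y, hy⟩
    rw [hf0, hkp, ← Submodule.map_top, ← Submodule.map_smul''] at h1
    obtain ⟨y', hy', hyy⟩ := h1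
    have h2 : y - y' ∈ LinearMap.ker e₁ := by
      rw [LinearMap.mem_ker, map_sub, hyy, sub_self]
    rw [hke] at h2
    have : y = (y - y') + y' := by abel
    rw [this]
    exact Submodule.add_mem_sup h2 hy'

end down


section lift
variable {R : Type u} [CommRing R] [IsLocalRing R] {S : Type u} [CommRing S] [Algebra R S]

local notation "𝔪" => IsLocalRing.maximalIdeal R

section transfer
variable {M : Type v} [AddCommGroup M] [Module R M]
  {N : Type v'} [AddCommGroup N] [Module R N] [Module S N] [IsScalarTower R S N]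
  (ρ : M →ₗ[R] N)

lemma transfer_fwd {x : M} (hx : x ∈ 𝔪 • (⊤ : Submodule R M)) :
    ρ x ∈ (Ideal.map (algebraMap R S) 𝔪) • (⊤ : Submodule S N) := by
  rw [Groth.Agent.Helper1.RegLift.mem_map_smul_top_iff]
  have : (𝔪 • (⊤ : Submodule R M)).map ρ ≤ 𝔪 • (⊤ : Submodule R N) := by
    rw [Submodule.map_smul'']
    exact Submodule.smul_mono le_rfl le_top
  exact this ⟨x, hx, rfl⟩

lemma transfer_bwd (hρ : Function.Surjective ρ) (hker : LinearMap.ker ρ ≤ 𝔪 • (⊤ : Submodule R M))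
    {x : M} (hx : ρ x ∈ (Ideal.map (algebraMap R S) 𝔪) • (⊤ : Submodule S N)) :
    x ∈ 𝔪 • (⊤ : Submodule R M) := by
  rw [Groth.Agent.Helper1.RegLift.mem_map_smul_top_iff] at hx
  have h1 : 𝔪 • (⊤ : Submodule R N) = (𝔪 • (⊤ : Submodule R M)).map ρ := by
    rw [Submodule.map_smul'', Submodule.map_top, LinearMap.range_eq_top.mpr hρ]
  rw [h1] at hx
  obtain ⟨x', hx', hxx⟩ := hx
  have h2 : x - x' ∈ LinearMap.ker ρ := by
    rw [LinearMap.mem_ker, map_sub, hxx, sub_self]
  have : x = (x - x') + x' := by abel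
  rw [this]
  exact Submodule.add_mem _ (hker h2) hx'

end transfer

variable {M₂ : Type v} {M₁ : Type v} {M₀ : Type v'} [AddCommGroup M₂] [Module R M₂]
  [AddCommGroup M₁] [Module R M₁] [AddCommGroup M₀] [Module R M₀]
  [Module.Flat R M₁] [Module.Flat R M₀]
  (d₂ : M₂ →ₗ[R] M₁) (d₁ : M₁ →ₗ[R] M₀)
  {N₂ N₁ N₀ Q : Type*} [AddCommGroup N₂] [Module R N₂] [Module S N₂] [IsScalarTower R S N₂]
  [AddCommGroup N₁] [Module R N₁] [Module S N₁] [IsScalarTower R S N₁]
  [AddCommGroup N₀] [Module R N₀] [Module S N₀] [IsScalarTower R S N₀]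
  [AddCommGroup Q] [Module S Q]
  [Module.Flat S N₀] [Module.Flat S Q]
  (e₂ : N₂ →ₗ[S] N₁) (e₁ : N₁ →ₗ[S] N₀) (p : N₀ →ₗ[S] Q)
  (ρ₂ : M₂ →ₗ[R] N₂) (ρ₁ : M₁ →ₗ[R] N₁) (ρ₀ : M₀ →ₗ[R] N₀)

include p ρ₂ ρ₁ ρ₀ e₂ e₁ in
/-- lifting exactness of a three term complex of flat modules from a quotient `S` of a local
ring `R` with nilpotent maximal ideal -/
theorem lift_three (hnil : IsNilpotent 𝔪) (hd : d₁ ∘ₗ d₂ = 0)
    (he₂ : Function.Injective e₂) (hex₂ : Function.Exact e₂ e₁)
    (hp : Function.Surjective p) (hex₁ : Function.Exact e₁ p)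
    (hρ₂ : Function.Surjective ρ₂) (hρ₁ : Function.Surjective ρ₁)
    (hk₂ : LinearMap.ker ρ₂ ≤ 𝔪 • (⊤ : Submodule R M₂))
    (hk₁ : LinearMap.ker ρ₁ ≤ 𝔪 • (⊤ : Submodule R M₁))
    (hc₂ : ∀ x, ρ₁ (d₂ x) = e₂ (ρ₂ x)) (hc₁ : ∀ y, ρ₀ (d₁ y) = e₁ (ρ₁ y))
    {Q' : Type w} [AddCommGroup Q'] [Module R Q'] (p' : M₀ →ₗ[R] Q') (hp' : Function.Surjective p')
    (hex' : Function.Exact d₁ p') :
    Function.Injective d₂ ∧ LinearMap.ker d₁ = LinearMap.range d₂ ∧ Module.Flat R Q' := by
  obtain ⟨G1, G2⟩ := down (Ideal.map (algebraMap R S) 𝔪) e₂ e₁ p he₂ hex₂ hp hex₁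
  refine three_term d₂ d₁ hnil hd ?_ ?_ p' hp' hex'
  · intro x hx
    apply transfer_bwd (S := S) ρ₂ hρ₂ hk₂
    apply G1
    rw [← hc₂]
    exact transfer_fwd ρ₁ hx
  · intro y hy
    have h1 : e₁ (ρ₁ y) ∈ (Ideal.map (algebraMap R S) 𝔪) • (⊤ : Submodule S N₀) := by
      rw [← hc₁]
      exact transfer_fwd ρ₀ hy
    obtain ⟨a, ⟨n, rfl⟩, z, hz, hyz⟩ := Submodule.mem_sup.mp (G2 _ h1)
    obtain ⟨m, rfl⟩ := hρ₂ n
    have h2 : ρ₁ (y - d₂ m) = z := by
      rw [map_sub, hc₂, ← hyz]; abel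
    have h3 : y - d₂ m ∈ 𝔪 • (⊤ : Submodule R M₁) := by
      apply transfer_bwd (S := S) ρ₁ hρ₁ hk₁
      rw [h2]; exact hz
    have : y = d₂ m + (y - d₂ m) := by abel
    rw [this]
    exact Submodule.add_mem_sup ⟨m, rfl⟩ h3

end lift


section HB
open Matrix

variable {B : Type u} [CommRing B] {r : ℕ}

/-- signed maximal minors -/
def minors (φ : Matrix (Fin (r + 1)) (Fin r) B) : Fin (r + 1) → B :=
  fun i => (-1 : B) ^ (i : ℕ) * (φ.submatrix i.succAbove id).det

lemma minors_apply (φ : Matrix (Fin (r + 1)) (Fin r) B) (i : Fin (r + 1)) :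
    minors φ i = (-1 : B) ^ (i : ℕ) * (φ.submatrix i.succAbove id).det := rfl

lemma minors_map {B' : Type*} [CommRing B'] (f : B →+* B') (φ : Matrix (Fin (r + 1)) (Fin r) B)
    (i : Fin (r + 1)) : minors (φ.map f) i = f (minors φ i) := by
  rw [minors_apply, minors_apply, map_mul, map_pow, map_neg, map_one, RingHom.map_det]
  rfl

lemma sum_minors_mul (φ : Matrix (Fin (r + 1)) (Fin r) B) (j : Fin r) :
    ∑ i, minors φ i * φ i j = 0 := by
  set Aj : Matrix (Fin (r + 1)) (Fin (r + 1)) B :=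
    Matrix.of fun i => (Fin.cons (φ i j) (fun l => φ i l) : Fin (r + 1) → B) with hAj
  have h0 : Aj.det = 0 := by
    refine Matrix.det_zero_of_column_eq (i := 0) (j := j.succ) (Fin.succ_ne_zero j).symm ?_
    intro k
    simp [hAj]
  rw [Matrix.det_succ_column_zero] at h0
  rw [← h0]
  refine Finset.sum_congr rfl fun i _ => ?_
  have h1 : Aj.submatrix i.succAbove Fin.succ = φ.submatrix i.succAbove id := by
    ext a b
    simp [hAj]
  have h2 : Aj i 0 = φ i j := by simp [hAj]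
  rw [h1, h2, minors_apply]
  ring

lemma linearCombination_minors_mulVec (φ : Matrix (Fin (r + 1)) (Fin r) B) (x : Fin r → B) :
    Fintype.linearCombination B (minors φ) (φ.mulVec x) = 0 := by
  rw [Fintype.linearCombination_apply]
  have : ∀ i, (φ.mulVec x) i • minors φ i = ∑ j, x j * (minors φ i * φ i j) := by
    intro i
    rw [Matrix.mulVec, dotProduct, smul_eq_mul, Finset.sum_mul]
    refine Finset.sum_congr rfl fun j _ => ?_
    ring
  simp_rw [this]
  rw [Finset.sum_comm]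
  refine Finset.sum_eq_zero fun j _ => ?_
  rw [← Finset.mul_sum, sum_minors_mul, mul_zero]

end HB

section pi
variable {R : Type u} [CommRing R] {B : Type v} [AddCommGroup B] [Module R B]

lemma pi_mem_smul_top (I : Ideal R) {ι : Type*} [Fintype ι] [DecidableEq ι] (x : ι → B)
    (h : ∀ i, x i ∈ I • (⊤ : Submodule R B)) : x ∈ I • (⊤ : Submodule R (ι → B)) := by
  have hx : x = ∑ i, LinearMap.single R (fun _ : ι => B) i (x i) := by
    ext k
    simp [Finset.sum_apply, Pi.single_apply]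
  rw [hx]
  refine Submodule.sum_mem _ fun i _ => ?_
  have h1 : (I • (⊤ : Submodule R B)).map (LinearMap.single R (fun _ : ι => B) i) ≤
      I • (⊤ : Submodule R (ι → B)) := by
    rw [Submodule.map_smul'']
    exact Submodule.smul_mono le_rfl le_top
  exact h1 ⟨x i, h i, rfl⟩

instance flat_pi_fin [Module.Flat R B] (n : ℕ) : Module.Flat R (Fin n → B) :=
  Module.Flat.of_linearEquiv
    (DFinsupp.linearEquivFunOnFintype (R := R) (ι := Fin n) (M := fun _ => B)).symm

end pi

section quot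
variable {R : Type u} [CommRing R] (J : Ideal R) {B : Type u} [CommRing B] [Algebra R B]

instance flat_quot_map [Module.Flat R B] : Module.Flat (R ⧸ J) (B ⧸ J.map (algebraMap R B)) :=
  Module.Flat.of_linearEquiv
    (Algebra.TensorProduct.quotIdealMapEquivQuotTensor B J).toLinearEquiv

end quot


section main
open Matrix
variable {R : Type u} [CommRing R] [IsLocalRing R] (J : Ideal R)
  {B : Type u} [CommRing B] [Algebra R B] [Module.Flat R B] {r : ℕ}

local notation "𝔪" => IsLocalRing.maximalIdeal R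

theorem hb_lift (hnil : IsNilpotent 𝔪) (hJ : J ≠ ⊤) (φ : Matrix (Fin (r + 1)) (Fin r) B)
    (hinj : Function.Injective (φ.map (Ideal.Quotient.mk (J.map (algebraMap R B)))).mulVecLin)
    (hex : LinearMap.range (φ.map (Ideal.Quotient.mk (J.map (algebraMap R B)))).mulVecLin =
      LinearMap.ker (Fintype.linearCombination (B ⧸ J.map (algebraMap R B))
        (minors (φ.map (Ideal.Quotient.mk (J.map (algebraMap R B)))))))
    [Module.Flat (R ⧸ J) ((B ⧸ J.map (algebraMap R B)) ⧸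
      Ideal.span (Set.range (minors (φ.map (Ideal.Quotient.mk (J.map (algebraMap R B)))))))] :
    Function.Injective φ.mulVecLin ∧
      LinearMap.range φ.mulVecLin = LinearMap.ker (Fintype.linearCombination B (minors φ)) ∧
      Module.Flat R (B ⧸ Ideal.span (Set.range (minors φ))) := by
  classical
  set JB : Ideal B := J.map (algebraMap R B) with hJB
  set φb : Matrix (Fin (r + 1)) (Fin r) (B ⧸ JB) := φ.map (Ideal.Quotient.mk JB) with hφb
  have hJm : J ≤ 𝔪 := IsLocalRing.le_maximalIdeal hJ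
  -- the maps
  let d₂ : (Fin r → B) →ₗ[R] (Fin (r + 1) → B) := φ.mulVecLin.restrictScalars R
  let d₁ : (Fin (r + 1) → B) →ₗ[R] B := (Fintype.linearCombination B (minors φ)).restrictScalars R
  let e₂ : (Fin r → B ⧸ JB) →ₗ[R ⧸ J] (Fin (r + 1) → B ⧸ JB) := φb.mulVecLin.restrictScalars (R ⧸ J)
  let e₁ : (Fin (r + 1) → B ⧸ JB) →ₗ[R ⧸ J] (B ⧸ JB) :=
    (Fintype.linearCombination (B ⧸ JB) (minors φb)).restrictScalars (R ⧸ J)
  let p : (B ⧸ JB) →ₗ[R ⧸ J] ((B ⧸ JB) ⧸ Ideal.span (Set.range (minors φb))) :=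
    (Submodule.mkQ (Ideal.span (Set.range (minors φb)))).restrictScalars (R ⧸ J)
  let p' : B →ₗ[R] (B ⧸ Ideal.span (Set.range (minors φ))) :=
    (Submodule.mkQ (Ideal.span (Set.range (minors φ)))).restrictScalars R
  let q : B →ₗ[R] (B ⧸ JB) := (Ideal.Quotient.mkₐ R JB).toLinearMap
  let ρ₂ : (Fin r → B) →ₗ[R] (Fin r → B ⧸ JB) := q.compLeft (Fin r)
  let ρ₁ : (Fin (r + 1) → B) →ₗ[R] (Fin (r + 1) → B ⧸ JB) := q.compLeft (Fin (r + 1))
  have hq : ∀ b, q b = Ideal.Quotient.mk JB b := fun b => rfl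
  have hqs : Function.Surjective q := Ideal.Quotient.mk_surjective
  have hρs : ∀ n : ℕ, Function.Surjective (q.compLeft (Fin n)) := by
    intro n y
    choose x hx using fun i => hqs (y i)
    exact ⟨x, funext hx⟩
  have hρk : ∀ n : ℕ, LinearMap.ker (q.compLeft (Fin n)) ≤ 𝔪 • (⊤ : Submodule R (Fin n → B)) := by
    intro n x hx
    apply pi_mem_smul_top
    intro i
    have h1 : q (x i) = 0 := congrFun hx i
    rw [hq, Ideal.Quotient.eq_zero_iff_mem, hJB] at h1
    have h2 : x i ∈ (J.map (algebraMap R B)).restrictScalars R := h1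
    rw [← Ideal.smul_top_eq_map] at h2
    exact Submodule.smul_mono hJm le_rfl h2
  have hd : d₁ ∘ₗ d₂ = 0 := by
    refine LinearMap.ext fun x => ?_
    exact linearCombination_minors_mulVec φ x
  have hc₂ : ∀ x, ρ₁ (d₂ x) = e₂ (ρ₂ x) := by
    intro x
    ext i
    show Ideal.Quotient.mk JB ((φ.mulVec x) i) = (φb.mulVec (fun j => Ideal.Quotient.mk JB (x j))) i
    rw [RingHom.map_mulVec]
    rfl
  have hc₁ : ∀ y, q (d₁ y) = e₁ (ρ₁ y) := by
    intro y
    show Ideal.Quotient.mk JB (Fintype.linearCombination B (minors φ) y) =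
      Fintype.linearCombination (B ⧸ JB) (minors φb) (fun j => Ideal.Quotient.mk JB (y j))
    rw [Fintype.linearCombination_apply, Fintype.linearCombination_apply, map_sum]
    refine Finset.sum_congr rfl fun i _ => ?_
    rw [smul_eq_mul, smul_eq_mul, map_mul, hφb, minors_map]
  have hex₂ : Function.Exact e₂ e₁ := by
    intro y
    have : y ∈ LinearMap.ker (Fintype.linearCombination (B ⧸ JB) (minors φb)) ↔
        y ∈ LinearMap.range φb.mulVecLin := by rw [hex]
    exact this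
  have hex₁ : Function.Exact e₁ p := by
    intro z
    have h1 : p z = 0 ↔ z ∈ Ideal.span (Set.range (minors φb)) := by
      show Submodule.Quotient.mk z = 0 ↔ _
      rw [Submodule.Quotient.mk_eq_zero]
    rw [h1]
    have h2 : (Ideal.span (Set.range (minors φb)) : Submodule (B ⧸ JB) (B ⧸ JB)) =
        LinearMap.range (Fintype.linearCombination (B ⧸ JB) (minors φb)) :=
      (Fintype.range_linearCombination (B ⧸ JB) (minors φb)).symm
    rw [h2]
    rfl
  have hex' : Function.Exact d₁ p' := by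
    intro z
    have h1 : p' z = 0 ↔ z ∈ Ideal.span (Set.range (minors φ)) := by
      show Submodule.Quotient.mk z = 0 ↔ _
      rw [Submodule.Quotient.mk_eq_zero]
    rw [h1]
    have h2 : (Ideal.span (Set.range (minors φ)) : Submodule B B) =
        LinearMap.range (Fintype.linearCombination B (minors φ)) :=
      (Fintype.range_linearCombination B (minors φ)).symm
    rw [h2]
    rfl
  have he₂ : Function.Injective e₂ := fun a b hab => hinj hab
  have hps : Function.Surjective p := fun y => Submodule.mkQ_surjective (Ideal.span (Set.range (minors φb))) y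
  have hps' : Function.Surjective p' := fun y => Submodule.mkQ_surjective (Ideal.span (Set.range (minors φ))) y
  have hρ₂s : Function.Surjective ρ₂ := hρs r
  have hρ₁s : Function.Surjective ρ₁ := hρs (r + 1)
  have hρ₂k : LinearMap.ker ρ₂ ≤ 𝔪 • (⊤ : Submodule R (Fin r → B)) := hρk r
  have hρ₁k : LinearMap.ker ρ₁ ≤ 𝔪 • (⊤ : Submodule R (Fin (r + 1) → B)) := hρk (r + 1)
  obtain ⟨G1, G2, G3⟩ := lift_three (R := R) (S := R ⧸ J) (M₂ := Fin r → B) (M₁ := Fin (r + 1) → B) (M₀ := B)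
    (N₂ := Fin r → B ⧸ JB) (N₁ := Fin (r + 1) → B ⧸ JB) (N₀ := B ⧸ JB)
    (Q := (B ⧸ JB) ⧸ Ideal.span (Set.range (minors φb))) d₂ d₁ e₂ e₁ p ρ₂ ρ₁ q hnil hd
    he₂ hex₂ hps hex₁ hρ₂s hρ₁s hρ₂k hρ₁k hc₂ hc₁ p' hps' hex'
  refine ⟨G1, ?_, G3⟩
  ext y
  have : y ∈ LinearMap.ker d₁ ↔ y ∈ LinearMap.range d₂ := by rw [G2]
  exact this.symm

end main

end Groth.Agent.Helper1.CxLift
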