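import Mathlib

universe u

namespace Groth.Agent.Helper1.DPowP

open Nat

lemma not_dvd_choose_one (p : ℕ) [hp : Fact p.Prime] (m : ℕ) :
    ¬ p ∣ choose (m * p + p - 1) (p - 1) := by
  have hp1 : 1 ≤ p := hp.out.one_le
  have h := Choose.choose_modEq_choose_mod_mul_choose_div_nat (n := m * p + p - 1) (k := p - 1)
    (p := p)
  have e1 : (m * p + p - 1) % p = p - 1 := by
    have : m * p + p - 1 = (p - 1) + p * m := by
      have : m * p + p - 1 = m * p + (p - 1) := by omega
      rw [this]; ring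
    rw [this, Nat.add_mul_mod_self_left, Nat.mod_eq_of_lt (by omega)]
  have e2 : (m * p + p - 1) / p = m := by
    have : m * p + p - 1 = (p - 1) + p * m := by
      have : m * p + p - 1 = m * p + (p - 1) := by omega
      rw [this]; ring
    rw [this, Nat.add_mul_div_left _ _ (by omega), Nat.div_eq_of_lt (by omega), zero_add]
  have e3 : (p - 1) % p = p - 1 := Nat.mod_eq_of_lt (by omega)
  have e4 : (p - 1) / p = 0 := Nat.div_eq_of_lt (by omega)
  rw [e1, e2, e3, e4, choose_self, choose_zero_right, mul_one] at h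
  intro hdvd
  have h0 : choose (m * p + p - 1) (p - 1) ≡ 0 [MOD p] := (Nat.modEq_zero_iff_dvd).mpr hdvd
  have h1 : (1 : ℕ) ≡ 0 [MOD p] := h.symm.trans h0
  have := (Nat.modEq_zero_iff_dvd).mp h1
  exact hp.out.one_lt.ne' (Nat.dvd_one.mp this)

lemma not_dvd_uniformBell (p : ℕ) [hp : Fact p.Prime] (q : ℕ) : ¬ p ∣ uniformBell q p := by
  rw [uniformBell_eq, hp.out.prime.dvd_finsetProd_iff]
  rintro ⟨m, -, hm⟩
  exact not_dvd_choose_one p m hm

lemma not_dvd_choose_two (p : ℕ) [hp : Fact p.Prime] (q r : ℕ) (hr : r < p) :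
    ¬ p ∣ choose (q * p + r) r := by
  have h := Choose.choose_modEq_choose_mod_mul_choose_div_nat (n := q * p + r) (k := r) (p := p)
  have e1 : (q * p + r) % p = r := by
    rw [add_comm, mul_comm, Nat.add_mul_mod_self_left, Nat.mod_eq_of_lt hr]
  have e2 : (q * p + r) / p = q := by
    rw [add_comm, mul_comm, Nat.add_mul_div_left _ _ hp.out.pos, Nat.div_eq_of_lt hr, zero_add]
  have e3 : r % p = r := Nat.mod_eq_of_lt hr
  have e4 : r / p = 0 := Nat.div_eq_of_lt hr
  rw [e1, e2, e3, e4, choose_self, choose_zero_right, mul_one] at h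
  intro hdvd
  have h0 : choose (q * p + r) r ≡ 0 [MOD p] := (Nat.modEq_zero_iff_dvd).mpr hdvd
  have h1 : (1 : ℕ) ≡ 0 [MOD p] := h.symm.trans h0
  have := (Nat.modEq_zero_iff_dvd).mp h1
  exact hp.out.one_lt.ne' (Nat.dvd_one.mp this)

theorem result {A : Type u} [CommRing A] (p : ℕ) (hp : p.Prime)
    (hA : ∀ n : ℕ, ¬ p ∣ n → IsUnit (n : A)) {I : Ideal A} (γ γ' : DividedPowers I) :
    γ = γ' ↔ ∀ x ∈ I, γ.dpow p x = γ'.dpow p x := by
  constructor
  · rintro rfl x _; rfl
  intro H
  haveI : Fact p.Prime := ⟨hp⟩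
  ext n x hx
  induction n using Nat.strong_induction_on generalizing x with
  | _ n ih =>
  obtain hq | hq := Nat.eq_zero_or_pos (n / p)
  · -- n < p
    have hnp : n < p := (Nat.div_eq_zero_iff.mp hq).resolve_left hp.ne_zero
    have hu : IsUnit ((n ! : ℕ) : A) := hA _ (fun h => by
      rw [hp.dvd_factorial] at h; omega)
    have h1 := γ.factorial_mul_dpow_eq_pow (n := n) hx
    have h2 := γ'.factorial_mul_dpow_eq_pow (n := n) hx
    exact hu.mul_left_cancel (h1.trans h2.symm)
  · set q := n / p with hqdef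
    set r := n % p with hrdef
    have hn : n = q * p + r := by rw [hqdef, hrdef, mul_comm]; exact (Nat.div_add_mod n p).symm
    have hr : r < p := Nat.mod_lt _ hp.pos
    have hqn : q < n := by
      have : q * 2 ≤ q * p := Nat.mul_le_mul_left q hp.two_le
      omega
    have hrn : r < n := by
      have : 1 * p ≤ q * p := Nat.mul_le_mul_right p hq
      omega
    -- the `q * p` part
    have hz : γ.dpow p x ∈ I := γ.dpow_mem hp.ne_zero hx
    have h1 := γ.dpow_comp (m := q) hp.ne_zero hx
    have h2 := γ'.dpow_comp (m := q) hp.ne_zero hx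
    have h3 : γ.dpow q (γ.dpow p x) = γ'.dpow q (γ'.dpow p x) := by
      rw [← H x hx]; exact ih q hqn hz
    have hu1 : IsUnit ((uniformBell q p : ℕ) : A) := hA _ (not_dvd_uniformBell p q)
    have h4 : γ.dpow (q * p) x = γ'.dpow (q * p) x :=
      hu1.mul_left_cancel (h1.symm.trans (h3.trans h2))
    have h5 : γ.dpow r x = γ'.dpow r x := ih r hrn hx
    have h6 := γ.mul_dpow (m := q * p) (n := r) hx
    have h7 := γ'.mul_dpow (m := q * p) (n := r) hx
    have hu2 : IsUnit ((choose (q * p + r) (q * p) : ℕ) : A) := by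
      rw [Nat.choose_symm_add]
      exact hA _ (not_dvd_choose_two p q r hr)
    rw [hn]
    refine hu2.mul_left_cancel ?_
    rw [← h6, ← h7, h4, h5]

end Groth.Agent.Helper1.DPowP
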