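import Mathlib

universe u v

namespace Groth.Agent.Helper1.DPowPrin

open Finset

variable {A : Type u} {B : Type v} [CommRing A] [CommRing B] [Algebra A B]
  (x : A) (γ : DividedPowers (Ideal.span {x}))

local notation "φ" => algebraMap A B

lemma mem_map_iff (y : B) :
    y ∈ (Ideal.span {x}).map (algebraMap A B) ↔ ∃ b : B, y = b * algebraMap A B x := by
  rw [Ideal.map_span, Set.image_singleton, Ideal.mem_span_singleton']
  constructor
  · rintro ⟨b, rfl⟩; exact ⟨b, rfl⟩
  · rintro ⟨b, rfl⟩; exact ⟨b, rfl⟩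

lemma pow_mul_eq {b b' : B} (h : b * algebraMap A B x = b' * algebraMap A B x) (n : ℕ) :
    b ^ n * algebraMap A B x = b' ^ n * algebraMap A B x := by
  rcases Nat.eq_zero_or_pos n with rfl | hn
  · simp
  · obtain ⟨k, rfl⟩ : ∃ k, n = k + 1 := ⟨n - 1, by omega⟩
    clear hn
    induction k with
    | zero => simpa using h
    | succ k ih =>
      calc b ^ (k + 1 + 1) * φ x = b * (b ^ (k + 1) * φ x) := by ring
        _ = b * (b' ^ (k + 1) * φ x) := by rw [ih]
        _ = b' ^ (k + 1) * (b * φ x) := by ring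
        _ = b' ^ (k + 1) * (b' * φ x) := by rw [h]
        _ = _ := by ring

include γ in
lemma exists_eq_mul {n : ℕ} (hn : n ≠ 0) : ∃ a : A, γ.dpow n x = a * x := by
  have := γ.dpow_mem hn (Ideal.mem_span_singleton_self x)
  rw [Ideal.mem_span_singleton'] at this
  obtain ⟨a, ha⟩ := this
  exact ⟨a, ha.symm⟩

lemma welldef {b b' : B} (h : b * algebraMap A B x = b' * algebraMap A B x) (n : ℕ) :
    b ^ n * algebraMap A B (γ.dpow n x) = b' ^ n * algebraMap A B (γ.dpow n x) := by
  rcases Nat.eq_zero_or_pos n with rfl | hn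
  · simp
  · obtain ⟨a, ha⟩ := exists_eq_mul x γ hn.ne'
    rw [ha, map_mul]
    calc b ^ n * (φ a * φ x) = φ a * (b ^ n * φ x) := by ring
      _ = φ a * (b' ^ n * φ x) := by rw [pow_mul_eq x h n]
      _ = _ := by ring

open scoped Classical in
/-- The extended divided power function. -/
noncomputable def dpow (n : ℕ) (y : B) : B :=
  if h : y ∈ (Ideal.span {x}).map (algebraMap A B) then
    (Classical.choose ((mem_map_iff x y).mp h)) ^ n * algebraMap A B (γ.dpow n x)
  else 0

lemma dpow_eq (n : ℕ) (b : B) :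
    dpow x γ n (b * algebraMap A B x) = b ^ n * algebraMap A B (γ.dpow n x) := by
  have h : b * φ x ∈ (Ideal.span {x}).map (algebraMap A B) := (mem_map_iff x _).mpr ⟨b, rfl⟩
  rw [dpow, dif_pos h]
  exact welldef x γ (Classical.choose_spec ((mem_map_iff x _).mp h)).symm n

/-- The extended divided power structure. -/
noncomputable def dividedPowers : DividedPowers ((Ideal.span {x}).map (algebraMap A B)) where
  dpow := dpow x γ
  dpow_null {n y} hy := by rw [dpow, dif_neg hy]
  dpow_zero {y} hy := by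
    obtain ⟨b, rfl⟩ := (mem_map_iff x y).mp hy
    rw [dpow_eq, pow_zero, one_mul, γ.dpow_zero (Ideal.mem_span_singleton_self x), map_one]
  dpow_one {y} hy := by
    obtain ⟨b, rfl⟩ := (mem_map_iff x y).mp hy
    rw [dpow_eq, pow_one, γ.dpow_one (Ideal.mem_span_singleton_self x)]
  dpow_mem {n y} hn hy := by
    obtain ⟨b, rfl⟩ := (mem_map_iff x y).mp hy
    rw [dpow_eq]
    exact Ideal.mul_mem_left _ _ (Ideal.mem_map_of_mem _
      (γ.dpow_mem hn (Ideal.mem_span_singleton_self x)))
  dpow_add {n y y'} hy hy' := by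
    obtain ⟨b, rfl⟩ := (mem_map_iff x y).mp hy
    obtain ⟨b', rfl⟩ := (mem_map_iff x y').mp hy'
    rw [← add_mul, dpow_eq, (Commute.all b b').add_pow', Finset.sum_mul]
    refine Finset.sum_congr rfl fun k hk => ?_
    rw [dpow_eq, dpow_eq]
    have hkn : k.1 + k.2 = n := Finset.HasAntidiagonal.mem_antidiagonal.mp hk
    have := γ.mul_dpow (m := k.1) (n := k.2) (Ideal.mem_span_singleton_self x)
    calc n.choose k.1 • (b ^ k.1 * b' ^ k.2) * φ (γ.dpow n x)
        = b ^ k.1 * b' ^ k.2 * φ ((n.choose k.1 : A) * γ.dpow n x) := by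
          rw [nsmul_eq_mul, map_mul, map_natCast]; ring
      _ = b ^ k.1 * b' ^ k.2 * φ (γ.dpow k.1 x * γ.dpow k.2 x) := by
          rw [this, hkn]
      _ = _ := by rw [map_mul]; ring
  dpow_mul {n c y} hy := by
    obtain ⟨b, rfl⟩ := (mem_map_iff x y).mp hy
    rw [← mul_assoc, dpow_eq, dpow_eq, mul_pow, mul_assoc]
  mul_dpow {m n y} hy := by
    obtain ⟨b, rfl⟩ := (mem_map_iff x y).mp hy
    rw [dpow_eq, dpow_eq, dpow_eq]
    have := γ.mul_dpow (m := m) (n := n) (Ideal.mem_span_singleton_self x)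
    calc b ^ m * φ (γ.dpow m x) * (b ^ n * φ (γ.dpow n x))
        = b ^ (m + n) * φ (γ.dpow m x * γ.dpow n x) := by rw [map_mul, pow_add]; ring
      _ = _ := by rw [this, map_mul, map_natCast]; ring
  dpow_comp {m n y} hn hy := by
    obtain ⟨b, rfl⟩ := (mem_map_iff x y).mp hy
    obtain ⟨a, ha⟩ := exists_eq_mul x γ hn
    have hcomp := γ.dpow_comp (m := m) hn (Ideal.mem_span_singleton_self x)
    rw [dpow_eq, dpow_eq, ha, map_mul, ← mul_assoc, dpow_eq]
    calc (b ^ n * φ a) ^ m * φ (γ.dpow m x)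
        = b ^ (m * n) * φ (a ^ m * γ.dpow m x) := by
          rw [map_mul, map_pow, mul_pow, ← pow_mul, mul_comm n m]; ring
      _ = b ^ (m * n) * φ (γ.dpow m (γ.dpow n x)) := by
          rw [ha, γ.dpow_mul (Ideal.mem_span_singleton_self x)]
      _ = _ := by rw [hcomp, map_mul, map_natCast]; ring

theorem result : ∃ δ : DividedPowers ((Ideal.span {x}).map (algebraMap A B)),
    γ.IsDPMorphism δ (algebraMap A B) := by
  refine ⟨dividedPowers x γ, le_rfl, ?_⟩
  intro n a ha
  rw [Ideal.mem_span_singleton'] at ha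
  obtain ⟨c, rfl⟩ := ha
  change dpow x γ n (φ (c * x)) = _
  rw [map_mul, dpow_eq, γ.dpow_mul (Ideal.mem_span_singleton_self x), map_mul, map_pow]

end Groth.Agent.Helper1.DPowPrin
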