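import Mathlib
import Groth.Agent.Lib.Helper1.VBQ3

set_option autoImplicit false
universe u
open CategoryTheory CategoryTheory.Limits AlgebraicGeometry TopologicalSpace Opposite

namespace Groth.Agent.Helper1.DblAlg

open Groth.Agent.Helper1.QcCech Groth.Agent.Helper1.SubSh Groth.Agent.Helper1.LGen
open Groth.Agent.Helper1 Groth.Agent.Helper1.PullSec Groth.Agent.Helper1.TwForm
open Groth.Agent.Helper1.PullGen Groth.Agent.Helper1.PFrame Groth.Agent.Helper1.ProjF
open Groth.Agent.Helper1.TensGen Groth.Agent.Helper1.TmulLib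

variable {X : Scheme.{u}}

theorem rank_two (L : X.Modules) (hL : PicF.IsInvertible L)
    (m : CohB1.tensorMod L L ⟶ Coh.structureModule X) (A : RelSpec.QCAlg X) (j : L ⟶ A.toModule)
    (h : FinCov.IsDblAlg L m A j) : FlatMod.IsFinLocFreeOfRank 2 A.toModule := by
  intro x
  obtain ⟨W, g, hxW, hg⟩ := exists_isGen hL x
  let one : Γ(A.toModule, W) := (A.str.app (op W)).hom 1
  refine ⟨W, hxW, VBQ.nonempty_restrict_iso_freeMod
    (b := fun i : Fin 2 => if i = 0 then one else (j.val.app (op W)).hom g) ?_⟩
  intro V hV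
  have hbij := h.1 V
  have hgV := hg V hV
  let toM : A.presheaf.obj (op V) → Γ(A.toModule, V) := fun a => a
  have h0 : res A.toModule hV one = toM ((A.str.app (op V)).hom 1) := by
    have := congrArg (fun f => f.hom (1 : Γ(X, W))) (A.str.naturality (homOfLE hV).op)
    rw [map_one]
    have h1' : (A.presheaf.map (homOfLE hV).op).hom ((A.str.app (op W)).hom 1) = 1 := by
      rw [map_one, map_one]
    exact h1'
  have h1 : res A.toModule hV ((j.val.app (op W)).hom g) = (j.val.app (op V)).hom (res L hV g) := by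
    have := congrArg (fun f => f.hom g) (j.val.naturality (homOfLE hV).op)
    exact this.symm
  have hsm0 : ∀ r : Γ(X, V), (r • toM ((A.str.app (op V)).hom 1)) =
      toM ((A.str.app (op V)).hom r) := by
    intro r
    change (A.str.app (op V)).hom r * (A.str.app (op V)).hom 1 = _
    rw [map_one, mul_one]
  have hsm1 : ∀ (r : Γ(X, V)) (l : Γ(L, V)), r • (j.val.app (op V)).hom l =
      (j.val.app (op V)).hom (r • l) := by
    intro r l
    exact ((j.val.app (op V)).hom.map_smul r l).symm
  have hfun : (fun r : Fin 2 → Γ(X, V) => ∑ i, r i • res A.toModule hV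
        ((fun i : Fin 2 => if i = 0 then one else (j.val.app (op W)).hom g) i)) =
      (fun p : Γ(X, V) × L.val.obj (op V) =>
        (A.str.app (op V)).hom p.1 + FinCov.toSec A ((j.val.app (op V)).hom p.2)) ∘
      (fun r : Fin 2 → Γ(X, V) => (r 0, r 1 • res L hV g)) := by
    funext r
    rw [Fin.sum_univ_two]
    simp only [Function.comp_apply, if_true, if_neg (show (1 : Fin 2) ≠ 0 by decide)]
    rw [h0, h1, hsm0]
    exact congrArg (fun z => toM ((A.str.app (op V)).hom (r 0)) + z) (hsm1 (r 1) (res L hV g))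
  rw [hfun]
  refine hbij.comp ?_
  constructor
  · intro r r' hrr
    have e0 : r 0 = r' 0 := congrArg Prod.fst hrr
    have e1 : r 1 = r' 1 := hgV.1 (congrArg Prod.snd hrr)
    funext i
    fin_cases i
    · exact e0
    · exact e1
  · rintro ⟨s, l⟩
    obtain ⟨t, ht⟩ := hgV.2 l
    refine ⟨fun i => if i = 0 then s else t, ?_⟩
    simp only [if_true, if_neg (show (1 : Fin 2) ≠ 0 by decide)]
    exact Prod.ext rfl ht

end Groth.Agent.Helper1.DblAlg
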