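import Mathlib
import Groth.Agent.Lib.Helper1.DblAlg1
import Groth.Agent.S19695

set_option autoImplicit false
universe u
open CategoryTheory CategoryTheory.Limits AlgebraicGeometry TopologicalSpace Opposite

namespace Groth.Agent.Helper1.DblAlg

open Groth.Agent.Helper1.QcCech Groth.Agent.Helper1.SubSh Groth.Agent.Helper1.LGen
open Groth.Agent.Helper1 Groth.Agent.Helper1.TmulLib

section Alg

variable {R S : Type*} [CommRing R] [CommRing S] [Algebra R S] (e : S)

/-- the linear equivalence attached to a basis `(1, e)` -/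
noncomputable def pairEquiv
    (hbij : Function.Bijective (fun p : R × R => algebraMap R S p.1 + p.2 • e)) :
    (Fin 2 → R) ≃ₗ[R] S :=
  LinearEquiv.ofBijective
    { toFun := fun r => algebraMap R S (r 0) + r 1 • e
      map_add' := by
        intro r r'
        simp only [Pi.add_apply, map_add, add_smul]
        abel
      map_smul' := by
        intro c r
        simp only [Pi.smul_apply, smul_eq_mul, map_mul, RingHom.id_apply, mul_smul, smul_add]
        rw [Algebra.smul_def c (algebraMap R S (r 0))] }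
    (by
      constructor
      · intro r r' h
        have h' := hbij.1 (a₁ := (r 0, r 1)) (a₂ := (r' 0, r' 1)) h
        funext i
        fin_cases i
        · exact congrArg Prod.fst h'
        · exact congrArg Prod.snd h'
      · intro s
        obtain ⟨p, hp⟩ := hbij.2 s
        exact ⟨![p.1, p.2], by simpa using hp⟩)

theorem pairEquiv_apply
    (hbij : Function.Bijective (fun p : R × R => algebraMap R S p.1 + p.2 • e)) (r : Fin 2 → R) :
    pairEquiv e hbij r = algebraMap R S (r 0) + r 1 • e := rfl

theorem free_finite_of_pair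
    (hbij : Function.Bijective (fun p : R × R => algebraMap R S p.1 + p.2 • e)) :
    Module.Free R S ∧ Module.Finite R S := by
  let b : Module.Basis (Fin 2) R S := Module.Basis.ofEquivFun (pairEquiv e hbij).symm
  exact ⟨Module.Free.of_basis b, Module.Finite.of_basis b⟩

theorem trace_of_pair
    (hbij : Function.Bijective (fun p : R × R => algebraMap R S p.1 + p.2 • e))
    (α β : R) (he : e * e = algebraMap R S α + β • e) :
    Algebra.trace R S e = β := by
  let b : Module.Basis (Fin 2) R S := Module.Basis.ofEquivFun (pairEquiv e hbij).symm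
  have hrepr : ∀ (s : S) (r : Fin 2 → R), s = algebraMap R S (r 0) + r 1 • e →
      ∀ i, b.repr s i = r i := by
    intro s r hs i
    have h1 : (pairEquiv e hbij).symm s = r := by
      rw [LinearEquiv.symm_apply_eq, pairEquiv_apply]
      exact hs
    have h2 : b.repr s i = (pairEquiv e hbij).symm s i := by
      simp [b, Module.Basis.ofEquivFun_repr_apply]
    rw [h2, h1]
  have hb0 : b 0 = 1 := by
    have : b 0 = (pairEquiv e hbij) (Pi.single 0 1) := by
      simp [b, Module.Basis.coe_ofEquivFun]
    rw [this, pairEquiv_apply]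
    simp
  have hb1 : b 1 = e := by
    have : b 1 = (pairEquiv e hbij) (Pi.single 1 1) := by
      simp [b, Module.Basis.coe_ofEquivFun]
    rw [this, pairEquiv_apply]
    simp
  rw [Algebra.trace_eq_matrix_trace b, Matrix.trace_fin_two]
  rw [Algebra.leftMulMatrix_eq_repr_mul, Algebra.leftMulMatrix_eq_repr_mul, hb0, hb1, mul_one, he]
  rw [hrepr e ![0, 1] (by simp) 0, hrepr (algebraMap R S α + β • e) ![α, β] (by simp) 1]
  simp

end Alg

section Sheaf

variable {X : Scheme.{u}} (A : RelSpec.QCAlg X) {K : X.Modules} (j : K ⟶ A.toModule)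

/-- `A = O ⊕ K` through the structure map and `j` -/
def IsSplit : Prop :=
  ∀ U : X.Opens, Function.Bijective fun p : Γ(X, U) × K.val.obj (op U) =>
      (A.str.app (op U)).hom p.1 + FinCov.toSec A ((j.val.app (op U)).hom p.2)

/-- the section of `A` attached to a section of `K` -/
noncomputable def jS (U : X.Opens) (l : Γ(K, U)) : A.presheaf.obj (op U) :=
  FinCov.toSec A ((j.val.app (op U)).hom l)

theorem jS_smul (U : X.Opens) (r : Γ(X, U)) (l : Γ(K, U)) :
    jS A j U (r • l) = (A.str.app (op U)).hom r * jS A j U l := by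
  have h : (j.val.app (op U)).hom (r • l) = r • (j.val.app (op U)).hom l :=
    (j.val.app (op U)).hom.map_smul r l
  unfold jS
  rw [h]
  rfl

theorem jS_add (U : X.Opens) (l l' : Γ(K, U)) :
    jS A j U (l + l') = jS A j U l + jS A j U l' := by
  have h : (j.val.app (op U)).hom (l + l') =
      (j.val.app (op U)).hom l + (j.val.app (op U)).hom l' := map_add _ l l'
  unfold jS
  rw [h]
  rfl

theorem jS_res {U V : X.Opens} (h : V ≤ U) (l : Γ(K, U)) :
    (A.presheaf.map (homOfLE h).op).hom (jS A j U l) = jS A j V (res K h l) := by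
  have := congrArg (fun f => f.hom l) (j.val.naturality (homOfLE h).op)
  exact this.symm

variable {A j}

/-- the trace of the image of a generator -/
theorem trace_jS_gen (hsplit : IsSplit A j)
    (τ : A.toModule ⟶ Coh.structureModule X) (hτ : FinCov.IsTrace A τ)
    {V : X.Opens} (hV : IsAffineOpen V) (e : Γ(K, V))
    (hgen : Function.Bijective (fun r : Γ(X, V) => r • e))
    (α β : Γ(X, V))
    (he : jS A j V e * jS A j V e = (A.str.app (op V)).hom α + jS A j V (β • e)) :
    (τ.val.app (op V)).hom ((j.val.app (op V)).hom e) = β := by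
  letI alg : Algebra Γ(X, V) (A.presheaf.obj (op V)) := (A.str.app (op V)).hom.toAlgebra
  have hsm : ∀ (r : Γ(X, V)), r • jS A j V e = jS A j V (r • e) := by
    intro r
    rw [jS_smul]
    rfl
  have hbij : Function.Bijective
      (fun p : Γ(X, V) × Γ(X, V) =>
        algebraMap Γ(X, V) (A.presheaf.obj (op V)) p.1 + p.2 • jS A j V e) := by
    have hfun : (fun p : Γ(X, V) × Γ(X, V) =>
        algebraMap Γ(X, V) (A.presheaf.obj (op V)) p.1 + p.2 • jS A j V e) =
        (fun p : Γ(X, V) × K.val.obj (op V) =>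
          (A.str.app (op V)).hom p.1 + FinCov.toSec A ((j.val.app (op V)).hom p.2)) ∘
        (fun p : Γ(X, V) × Γ(X, V) => (p.1, p.2 • e)) := by
      funext p
      simp only [Function.comp_apply]
      rw [hsm]
      rfl
    rw [hfun]
    refine (hsplit V).comp ?_
    constructor
    · rintro ⟨a, b⟩ ⟨a', b'⟩ h
      have h1 : a = a' := congrArg Prod.fst h
      have h2 : b = b' := hgen.1 (congrArg Prod.snd h)
      rw [h1, h2]
    · rintro ⟨a, l⟩
      obtain ⟨b, hb⟩ := hgen.2 l
      exact ⟨(a, b), Prod.ext rfl hb⟩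
  obtain ⟨hfree, hfin⟩ := free_finite_of_pair (jS A j V e) hbij
  have h1 := hτ V hV hfree hfin (jS A j V e)
  have h2 := trace_of_pair (jS A j V e) hbij α β (by rw [he, hsm]; rfl)
  exact h1.trans h2

end Sheaf

section Dbl

variable {X : Scheme.{u}} {L : X.Modules} {m : CohB1.tensorMod L L ⟶ Coh.structureModule X}
  {A : RelSpec.QCAlg X} {j : L ⟶ A.toModule}

theorem τ_res (τ : A.toModule ⟶ Coh.structureModule X) {U V : X.Opens} (h : V ≤ U)
    (a : Γ(A.toModule, U)) :
    res (Coh.structureModule X) h ((τ.val.app (op U)).hom a) =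
      (τ.val.app (op V)).hom (res A.toModule h a) := by
  have := congrArg (fun f => f.hom a) (τ.val.naturality (homOfLE h).op)
  exact this.symm

theorem j_res (j : L ⟶ A.toModule) {U V : X.Opens} (h : V ≤ U) (l : Γ(L, U)) :
    res A.toModule h ((j.val.app (op U)).hom l) = (j.val.app (op V)).hom (res L h l) := by
  have := congrArg (fun f => f.hom l) (j.val.naturality (homOfLE h).op)
  exact this.symm

/-- the trace vanishes on the image of `j` -/
theorem trace_j_eq_zero (hL : PicF.IsInvertible L) (h : FinCov.IsDblAlg L m A j)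
    (τ : A.toModule ⟶ Coh.structureModule X) (hτ : FinCov.IsTrace A τ)
    (U : X.Opens) (l : L.val.obj (op U)) :
    (τ.val.app (op U)).hom ((j.val.app (op U)).hom l) = 0 := by
  apply TwistSec.eq_of_locally (Coh.structureModule X)
  intro x hxU
  obtain ⟨W, g, hxW, hg⟩ := exists_isGen hL x
  obtain ⟨V, hVaff, hxV, hVsub⟩ := exists_isAffineOpen_mem_and_subset (X := X) (x := x)
    (U := W ⊓ U) ⟨hxW, hxU⟩
  have hVW : V ≤ W := fun y hy => (hVsub hy).1
  have hVU : V ≤ U := fun y hy => (hVsub hy).2
  refine ⟨V, hVU, hxV, ?_⟩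
  rw [τ_res, j_res]
  refine Eq.trans ?_ (map_zero (res (Coh.structureModule X) hVU)).symm
  set e := res L hVW g with he
  have hgen : Function.Bijective (fun r : Γ(X, V) => r • e) := hg V hVW
  have h0 : (τ.val.app (op V)).hom ((j.val.app (op V)).hom e) = 0 := by
    refine trace_jS_gen h.1 τ hτ hVaff e hgen
      ((m.val.app (op V)).hom (SecTwist.tmul L L V e e)) 0 ?_
    have h2 := h.2 V e e
    rw [zero_smul]
    have hz : jS A j V (0 : Γ(L, V)) = 0 := map_zero (j.val.app (op V)).hom
    rw [hz, add_zero]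
    exact h2
  obtain ⟨t, ht⟩ := hgen.2 (res L hVU l)
  have ht' : t • e = res L hVU l := ht
  rw [← ht']
  have h3 : (j.val.app (op V)).hom (t • e) = t • (j.val.app (op V)).hom e :=
    (j.val.app (op V)).hom.map_smul t e
  rw [h3]
  have h4 : (τ.val.app (op V)).hom (t • (j.val.app (op V)).hom e) =
      t • (τ.val.app (op V)).hom ((j.val.app (op V)).hom e) :=
    (τ.val.app (op V)).hom.map_smul t _
  rw [h4, h0, smul_zero]
  rfl

end Dbl

section Str

variable {X : Scheme.{u}} {A : RelSpec.QCAlg X}

theorem nsmul_id_val_app (k : ℕ) (U : X.Opens) (t : Γ(X, U)) :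
    (((k • 𝟙 (Coh.structureModule X) : Coh.structureModule X ⟶ _)).val.app (op U)).hom t =
      (k : Γ(X, U)) * t := by
  induction k with
  | zero =>
    rw [zero_smul, Nat.cast_zero, zero_mul]
    rfl
  | succ k ih =>
    rw [succ_nsmul, Nat.cast_succ, add_mul, one_mul, ← ih]
    rfl

theorem trace_str (hA : FlatMod.IsFinLocFreeOfRank 2 A.toModule)
    (τ : A.toModule ⟶ Coh.structureModule X) (hτ : FinCov.IsTrace A τ) (U : X.Opens)
    (s : Γ(X, U)) :
    (τ.val.app (op U)).hom (((FinCov.strMod A).val.app (op U)).hom s) = 2 * s := by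
  have h := Groth.Agent.S19695.result A 2 hA τ hτ
  have h2 := congrArg (fun φ : Coh.structureModule X ⟶ Coh.structureModule X =>
    (φ.val.app (op U)).hom s) h
  have h3 := nsmul_id_val_app (X := X) 2 U s
  refine h2.trans (h3.trans ?_)
  rw [Nat.cast_ofNat]
  rfl

theorem isUnit_two_res (h2 : IsUnit (2 : Γ(X, ⊤))) (U : X.Opens) : IsUnit (2 : Γ(X, U)) := by
  have := h2.map (X.presheaf.map (homOfLE (le_top : U ≤ ⊤)).op).hom
  rwa [map_ofNat] at this

end Str

section Main

variable {X : Scheme.{u}} {L : X.Modules} {m : CohB1.tensorMod L L ⟶ Coh.structureModule X}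
  {A : RelSpec.QCAlg X} {j : L ⟶ A.toModule}

/-- **S19700** -/
theorem trace_eq_zero_iff (hL : PicF.IsInvertible L) (h : FinCov.IsDblAlg L m A j)
    (h2 : IsUnit (2 : Γ(X, ⊤)))
    (τ : A.toModule ⟶ Coh.structureModule X) (hτ : FinCov.IsTrace A τ)
    (U : X.Opens) (a : A.toModule.val.obj (op U)) :
    (τ.val.app (op U)).hom a = 0 ↔ a ∈ Set.range (j.val.app (op U)).hom := by
  constructor
  · intro ha
    obtain ⟨⟨s, l⟩, hsl⟩ := (h.1 U).2 a
    have hA := rank_two L hL m A j h
    have hsl' : ((FinCov.strMod A).val.app (op U)).hom s + (j.val.app (op U)).hom l = a := hsl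
    rw [← hsl', map_add, trace_j_eq_zero hL h τ hτ U l, add_zero, trace_str hA τ hτ U s] at ha
    have hs : s = 0 := by
      obtain ⟨u, hu⟩ := isUnit_two_res h2 U
      have ha' : (2 : Γ(X, U)) * s = 0 := ha
      have : (↑u⁻¹ : Γ(X, U)) * ((2 : Γ(X, U)) * s) = 0 := by rw [ha', mul_zero]
      rwa [← mul_assoc, ← hu, Units.inv_mul, one_mul] at this
    refine ⟨l, ?_⟩
    rw [← hsl', hs]
    have hz : ((FinCov.strMod A).val.app (op U)).hom (0 : Γ(X, U)) = 0 :=
      map_zero ((FinCov.strMod A).val.app (op U)).hom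
    rw [hz, zero_add]
  · rintro ⟨l, rfl⟩
    exact trace_j_eq_zero hL h τ hτ U l

end Main

end Groth.Agent.Helper1.DblAlg
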