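import Mathlib
import Groth.Agent.Lib.Helper1.VT13
import Groth.Agent.Lib.Helper1.AmpleLib2
import Groth.Agent.Lib.Helper1.SymInvLoc

set_option autoImplicit false
universe u
open CategoryTheory CategoryTheory.Limits AlgebraicGeometry TopologicalSpace Opposite

namespace Groth.Agent.Helper1.SymBr

open Groth.Agent.Helper1.QcCech Groth.Agent.Helper1.LGen
open Groth.Agent.Helper1 Groth.Agent.Helper1.TmulLib Groth.Agent.Helper1.TensLib
open Groth.Agent.Helper1.TwistSec Groth.Agent.Helper1.VT

variable {X : Scheme.{u}} {A : RelSpec.QCAlg X}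

section Mul
variable {M N : X.Modules} (φ : M ⟶ A.toModule) (ψ : N ⟶ A.toModule)

/-- value of a module map into an algebra, as a ring element -/
noncomputable def val (U : X.Opens) (m : Γ(M, U)) : A.presheaf.obj (op U) := φ.app U m

theorem val_add (U : X.Opens) (m m' : Γ(M, U)) : val φ U (m + m') = val φ U m + val φ U m' :=
  map_add (φ.app U).hom m m'

theorem val_zero (U : X.Opens) : val φ U (0 : Γ(M, U)) = 0 :=
  map_zero (φ.app U).hom

theorem val_smul (U : X.Opens) (r : Γ(X, U)) (m : Γ(M, U)) :
    val φ U (r • m) = (A.str.app (op U)).hom r * val φ U m := by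
  unfold val
  rw [Scheme.Modules.Hom.app_smul]
  rfl

theorem val_res {U V : X.Opens} (h : V ≤ U) (m : Γ(M, U)) :
    val φ V (res M h m) = (A.presheaf.map (homOfLE h).op).hom (val φ U m) :=
  QcExt.app_res φ h m

/-- the pairing `m, n ↦ φ m * ψ n` -/
noncomputable def mulPairing : Pairing M N A.toModule where
  β U m n := (show (CohB1.toPMod A.toModule).obj U from
    (val φ U.unop m * val ψ U.unop n : A.presheaf.obj (op U.unop)))
  add_left U m₁ m₂ n := by
    have h := val_add φ U.unop m₁ m₂
    change (val φ U.unop (m₁ + m₂) * val ψ U.unop n : A.presheaf.obj (op U.unop)) =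
      val φ U.unop m₁ * val ψ U.unop n + val φ U.unop m₂ * val ψ U.unop n
    rw [← add_mul]
    exact congrArg (· * val ψ U.unop n) h
  smul_left U a m n := by
    have h := val_smul φ U.unop a m
    change (val φ U.unop (a • m) * val ψ U.unop n : A.presheaf.obj (op U.unop)) =
      (A.str.app (op U.unop)).hom a * (val φ U.unop m * val ψ U.unop n)
    rw [← mul_assoc]
    exact congrArg (· * val ψ U.unop n) h
  add_right U m n₁ n₂ := by
    have h := val_add ψ U.unop n₁ n₂
    change (val φ U.unop m * val ψ U.unop (n₁ + n₂) : A.presheaf.obj (op U.unop)) =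
      val φ U.unop m * val ψ U.unop n₁ + val φ U.unop m * val ψ U.unop n₂
    rw [← mul_add]
    exact congrArg (val φ U.unop m * ·) h
  smul_right U a m n := by
    have h := val_smul ψ U.unop a n
    change (val φ U.unop m * val ψ U.unop (a • n) : A.presheaf.obj (op U.unop)) =
      (A.str.app (op U.unop)).hom a * (val φ U.unop m * val ψ U.unop n)
    rw [mul_left_comm]
    exact congrArg (val φ U.unop m * ·) h
  nat {U V} f m n := by
    have hle : V.unop ≤ U.unop := f.unop.le
    change (A.presheaf.map (homOfLE hle).op).hom (val φ U.unop m * val ψ U.unop n) =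
      val φ V.unop (res M hle m) * val ψ V.unop (res N hle n)
    rw [map_mul, val_res, val_res]

/-- the morphism `M ⊗ N ⟶ A`, `m ⊗ n ↦ φ m * ψ n` -/
noncomputable def mulHom : CohB1.tensorMod M N ⟶ A.toModule := pairingHom (mulPairing φ ψ)

theorem val_mulHom_tm (U : X.Opens) (m : Γ(M, U)) (n : Γ(N, U)) :
    val (mulHom φ ψ) U (tm M N U m n) = val φ U m * val ψ U n :=
  pairingHom_tm (mulPairing φ ψ) U m n

end Mul

section Pow
variable (A)

/-- the unit map `O ⟶ A` -/
noncomputable def unitHom : Coh.structureModule X ⟶ A.toModule :=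
  TwistAmple.homOfSec A.toModule (show Γ(A.toModule, ⊤) from (1 : A.presheaf.obj (op ⊤)))

theorem val_unitHom (U : X.Opens) (r : Γ(X, U)) :
    val (unitHom A) U (show Γ(Coh.structureModule X, U) from r) = (A.str.app (op U)).hom r := by
  change (A.str.app (op U)).hom r * (A.presheaf.map (homOfLE (le_top : U ≤ ⊤)).op).hom 1 = _
  rw [map_one, mul_one]

variable {A} {M : X.Modules} (φ : M ⟶ A.toModule)

/-- the maps `M^{⊗ n} ⟶ A`, `m₁ ⊗ ⋯ ⊗ mₙ ↦ φ m₁ ⋯ φ mₙ` -/
noncomputable def powHom : (n : ℕ) → (CohB1.tensorPow M n ⟶ A.toModule)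
  | 0 => unitHom A
  | n + 1 => mulHom (powHom n) φ

theorem val_powHom_gpow {U : X.Opens} (a : Γ(M, U)) (n : ℕ) :
    val (powHom φ n) U (gpow a n) = val φ U a ^ n := by
  induction n with
  | zero =>
    rw [pow_zero]
    change val (unitHom A) U (show Γ(Coh.structureModule X, U) from (1 : Γ(X, U))) = 1
    rw [val_unitHom, map_one]
  | succ n ih =>
    rw [gpow_succ]
    change val (mulHom (powHom φ n) φ) U _ = _
    rw [val_mulHom_tm, ih, pow_succ]

end Pow

end Groth.Agent.Helper1.SymBr
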