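import Mathlib
import Groth.Agent.Lib.Helper1.DblAlg2
import Groth.Agent.Lib.Helper1.SymBr1
import Groth.Agent.S19696

set_option autoImplicit false
universe u
open CategoryTheory CategoryTheory.Limits AlgebraicGeometry TopologicalSpace Opposite

namespace Groth.Agent.Helper1.DblAlg

open Groth.Agent.Helper1.QcCech Groth.Agent.Helper1.SubSh Groth.Agent.Helper1.LGen
open Groth.Agent.Helper1 Groth.Agent.Helper1.TmulLib

section Sq

variable {X : Scheme.{u}} {A : RelSpec.QCAlg X} {K : X.Modules} {j : K ⟶ A.toModule}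

theorem jS_zero (U : X.Opens) : jS A j U (0 : Γ(K, U)) = 0 := map_zero (j.val.app (op U)).hom

/-- the square of a generator of the trace-zero part is a function -/
theorem sq_gen (hsplit : IsSplit A j)
    (τ : A.toModule ⟶ Coh.structureModule X) (hτ : FinCov.IsTrace A τ)
    (hτj : ∀ (U : X.Opens) (l : Γ(K, U)), (τ.val.app (op U)).hom ((j.val.app (op U)).hom l) = 0)
    {V : X.Opens} (hV : IsAffineOpen V) (e : Γ(K, V))
    (hgen : Function.Bijective (fun r : Γ(X, V) => r • e)) :
    ∃ α : Γ(X, V), jS A j V e * jS A j V e = (A.str.app (op V)).hom α := by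
  obtain ⟨⟨α, k⟩, hk⟩ := (hsplit V).2 (jS A j V e * jS A j V e)
  obtain ⟨β, hβ⟩ := hgen.2 k
  have hβ' : β • e = k := hβ
  have hk' : jS A j V e * jS A j V e = (A.str.app (op V)).hom α + jS A j V (β • e) := by
    rw [hβ']
    exact hk.symm
  have h1 := trace_jS_gen hsplit τ hτ hV e hgen α β hk'
  have h2 : β = 0 := h1.symm.trans (hτj V e)
  refine ⟨α, ?_⟩
  rw [hk', h2, zero_smul, jS_zero, add_zero]

theorem str_res {U V : X.Opens} (h : V ≤ U) (s : Γ(X, U)) :
    (A.presheaf.map (homOfLE h).op).hom ((A.str.app (op U)).hom s) =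
      (A.str.app (op V)).hom (X.presheaf.map (homOfLE h).op s) := by
  have := congrArg (fun f => f.hom s) (A.str.naturality (homOfLE h).op)
  exact this.symm

/-- products of trace-zero sections are functions -/
theorem mul_mem_str (hK : PicF.IsInvertible K) (hsplit : IsSplit A j)
    (τ : A.toModule ⟶ Coh.structureModule X) (hτ : FinCov.IsTrace A τ)
    (hτj : ∀ (U : X.Opens) (l : Γ(K, U)), (τ.val.app (op U)).hom ((j.val.app (op U)).hom l) = 0)
    (U : X.Opens) (l l' : Γ(K, U)) :
    ∃ s : Γ(X, U), jS A j U l * jS A j U l' = (A.str.app (op U)).hom s := by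
  obtain ⟨⟨s, k⟩, hk⟩ := (hsplit U).2 (jS A j U l * jS A j U l')
  have hk' : (A.str.app (op U)).hom s + jS A j U k = jS A j U l * jS A j U l' := hk
  refine ⟨s, ?_⟩
  have hk0 : k = 0 := by
    apply TwistSec.eq_of_locally K
    intro x hxU
    obtain ⟨W, g, hxW, hg⟩ := exists_isGen hK x
    obtain ⟨V, hVaff, hxV, hVsub⟩ := exists_isAffineOpen_mem_and_subset (X := X) (x := x)
      (U := W ⊓ U) ⟨hxW, hxU⟩
    have hVW : V ≤ W := fun y hy => (hVsub hy).1
    have hVU : V ≤ U := fun y hy => (hVsub hy).2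
    refine ⟨V, hVU, hxV, ?_⟩
    refine Eq.trans ?_ (map_zero (res K hVU)).symm
    set e := res K hVW g with he
    have hgen : Function.Bijective (fun r : Γ(X, V) => r • e) := hg V hVW
    obtain ⟨α, hα⟩ := sq_gen hsplit τ hτ hτj hVaff e hgen
    obtain ⟨a, ha⟩ := hgen.2 (res K hVU l)
    obtain ⟨b, hb⟩ := hgen.2 (res K hVU l')
    have ha' : a • e = res K hVU l := ha
    have hb' : b • e = res K hVU l' := hb
    -- restrict the decomposition
    have h1 := congrArg (fun z => (A.presheaf.map (homOfLE hVU).op).hom z) hk'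
    simp only [map_add, map_mul] at h1
    rw [str_res, jS_res, jS_res, jS_res, ← ha', ← hb', jS_smul, jS_smul] at h1
    have h2 : (A.str.app (op V)).hom a * jS A j V e * ((A.str.app (op V)).hom b * jS A j V e) =
        (A.str.app (op V)).hom (a * b * α) + jS A j V (0 : Γ(K, V)) := by
      rw [jS_zero, add_zero, map_mul, map_mul, ← hα]
      ring
    rw [h2] at h1
    have h3 := (hsplit V).1 (a₁ := (X.presheaf.map (homOfLE hVU).op s, res K hVU k))
      (a₂ := (a * b * α, 0)) h1
    exact congrArg Prod.snd h3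
  subst hk0
  exact hk'.symm.trans ((congrArg (fun z => (A.str.app (op U)).hom s + z)
    (jS_zero (A := A) (j := j) U)).trans (add_zero _))

end Sq

section Main

variable {X : Scheme.{u}} (A : RelSpec.QCAlg X)

theorem isInvertible_of_rank_one {K : X.Modules} (hK : FlatMod.IsFinLocFreeOfRank 1 K) :
    PicF.IsInvertible K := fun x => by
  obtain ⟨U, hxU, ⟨e⟩⟩ := hK x
  exact ⟨U, hxU, ⟨e ≪≫ Dv.coprodOneIso (Coh.structureModule (↑U : Scheme.{u}))⟩⟩

/-- sections of a morphism of modules, with controlled types -/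
noncomputable def ap {M N : X.Modules} (φ : M ⟶ N) (U : X.Opens) (m : Γ(M, U)) : Γ(N, U) :=
  (φ.val.app (op U)).hom m

noncomputable def apO {M : X.Modules} (φ : M ⟶ Coh.structureModule X) (U : X.Opens)
    (m : Γ(M, U)) : Γ(X, U) := (φ.val.app (op U)).hom m

noncomputable def apI {N : X.Modules} (φ : Coh.structureModule X ⟶ N) (U : X.Opens)
    (t : Γ(X, U)) : Γ(N, U) := (φ.val.app (op U)).hom t

noncomputable def apOO (φ : Coh.structureModule X ⟶ Coh.structureModule X) (U : X.Opens)
    (t : Γ(X, U)) : Γ(X, U) := (φ.val.app (op U)).hom t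

/-- **S19699** -/
theorem exists_isDblAlg_kernel (hA : FlatMod.IsFinLocFreeOfRank 2 A.toModule)
    (τ : A.toModule ⟶ Coh.structureModule X) (hτ : FinCov.IsTrace A τ)
    (h2 : IsUnit (2 : Γ(X, ⊤))) :
    ∃ m : CohB1.tensorMod (kernel τ) (kernel τ) ⟶ Coh.structureModule X,
      FinCov.IsDblAlg (kernel τ) m A (kernel.ι τ) := by
  classical
  have hd : IsUnit (((2 : ℕ) : Γ(X, ⊤))) := by rwa [Nat.cast_ofNat]
  have hφ := Groth.Agent.S19695.result A 2 hA τ hτ
  haveI : IsIso (FinCov.strMod A ≫ τ) := by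
    rw [hφ]; exact Groth.Agent.S19696.isIso_nsmul_id 2 hd
  have hK1 := (Groth.Agent.S19696.result A 2 hA τ hτ hd).2
  have hK : PicF.IsInvertible (kernel τ) := isInvertible_of_rank_one hK1
  set i := kernel.ι τ with hi
  let half : Coh.structureModule X ⟶ Coh.structureModule X := inv (FinCov.strMod A ≫ τ)
  let σ : Coh.structureModule X ⟶ A.toModule := half ≫ FinCov.strMod A
  have hσ : σ ≫ τ = 𝟙 _ := by simp [σ, half]
  let r : A.toModule ⟶ kernel τ := kernel.lift τ (𝟙 _ - τ ≫ σ) (by
    rw [Preadditive.sub_comp, Category.assoc, hσ]; simp)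
  have hri : r ≫ i = 𝟙 _ - τ ≫ σ := kernel.lift_ι _ _ _
  have hir : i ≫ r = 𝟙 _ := by
    rw [← cancel_mono i, Category.assoc, hri, Preadditive.comp_sub, ← Category.assoc,
      kernel.condition]
    simp
  -- section level
  have e1 : ∀ (U : X.Opens) (k : Γ(kernel τ, U)), ap r U (ap i U k) = k := fun U k =>
    congrArg (fun φ : kernel τ ⟶ kernel τ => (φ.val.app (op U)).hom k) hir
  have e3 : ∀ (U : X.Opens) (k : Γ(kernel τ, U)),
      (τ.val.app (op U)).hom ((i.val.app (op U)).hom k) = 0 := fun U k =>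
    congrArg (fun φ : kernel τ ⟶ Coh.structureModule X => (φ.val.app (op U)).hom k)
      (kernel.condition τ)
  have e5 : ∀ (U : X.Opens) (a : Γ(A.toModule, U)),
      ap i U (ap r U a) = a - apI (FinCov.strMod A) U (apOO half U (apO τ U a)) := fun U a =>
    congrArg (fun φ : A.toModule ⟶ A.toModule => (φ.val.app (op U)).hom a) hri
  have etr : ∀ (U : X.Opens) (s : Γ(X, U)), apO τ U (apI (FinCov.strMod A) U s) = 2 * s :=
    fun U s => trace_str hA τ hτ U s
  have ehalf : ∀ (U : X.Opens) (t : Γ(X, U)), 2 * apOO half U t = t := by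
    intro U t
    have h : half ≫ (FinCov.strMod A ≫ τ) = 𝟙 _ := IsIso.inv_hom_id _
    have h' : apO τ U (apI (FinCov.strMod A) U (apOO half U t)) = t :=
      congrArg (fun φ : Coh.structureModule X ⟶ Coh.structureModule X =>
        (φ.val.app (op U)).hom t) h
    exact (etr U _).symm.trans h'
  have hcancel : ∀ (U : X.Opens) (s s' : Γ(X, U)), 2 * s = 2 * s' → s = s' := by
    intro U s s' h
    obtain ⟨u, hu⟩ := isUnit_two_res h2 U
    have := congrArg (fun z => (↑u⁻¹ : Γ(X, U)) * z) h
    simp only [← mul_assoc, ← hu, Units.inv_mul, one_mul] at this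
    exact this
  have hsplit : IsSplit A i := by
    intro U
    constructor
    · rintro ⟨s, l⟩ ⟨s', l'⟩ h
      have h' : apI (FinCov.strMod A) U s + ap i U l = apI (FinCov.strMod A) U s' + ap i U l' := h
      have h3 : apO τ U (apI (FinCov.strMod A) U s + ap i U l) =
          apO τ U (apI (FinCov.strMod A) U s' + ap i U l') := congrArg (apO τ U) h'
      have hadd : ∀ a b : Γ(A.toModule, U), apO τ U (a + b) = apO τ U a + apO τ U b :=
        fun a b => map_add (τ.val.app (op U)).hom a b
      rw [hadd, hadd, etr, etr] at h3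
      have z1 : apO τ U (ap i U l) = 0 := e3 U l
      have z2 : apO τ U (ap i U l') = 0 := e3 U l'
      rw [z1, z2, add_zero, add_zero] at h3
      have hs : s = s' := hcancel U s s' h3
      subst hs
      have h4 : ap i U l = ap i U l' := add_left_cancel h'
      have h5 := congrArg (ap r U) h4
      rw [e1, e1] at h5
      rw [h5]
    · intro a
      refine ⟨(apOO half U (apO τ U a), ap r U a), ?_⟩
      change apI (FinCov.strMod A) U (apOO half U (apO τ U a)) + ap i U (ap r U a) = a
      rw [e5]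
      exact add_sub_cancel _ _
  let m : CohB1.tensorMod (kernel τ) (kernel τ) ⟶ Coh.structureModule X :=
    SymBr.mulHom i i ≫ τ ≫ half
  refine ⟨m, hsplit, ?_⟩
  intro U l l'
  obtain ⟨s, hs⟩ := mul_mem_str hK hsplit τ hτ e3 U l l'
  have hs2 : (show Γ(A.toModule, U) from jS A i U l * jS A i U l') =
      apI (FinCov.strMod A) U s := hs
  have hm : (m.val.app (op U)).hom (SecTwist.tmul (kernel τ) (kernel τ) U l l') =
      apOO half U (apO τ U (show Γ(A.toModule, U) from jS A i U l * jS A i U l')) := by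
    have := SymBr.val_mulHom_tm i i U l l'
    exact congrArg (fun z => apOO half U (apO τ U z)) this
  have hs' : FinCov.toSec A ((i.val.app (op U)).hom l) * FinCov.toSec A ((i.val.app (op U)).hom l') =
      (A.str.app (op U)).hom s := hs
  rw [hs', hm, hs2, etr]
  have h7 : apOO half U (2 * s) = s := hcancel U _ _ (ehalf U (2 * s))
  rw [h7]

end Main

end Groth.Agent.Helper1.DblAlg
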