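import Mathlib
import Groth.Agent.Lib.Helper1.VBQ3
import Groth.Agent.Lib.Helper1.SymAlg

set_option autoImplicit false
universe u v
open CategoryTheory CategoryTheory.Limits AlgebraicGeometry TopologicalSpace Opposite

namespace Groth.Agent.Helper1.DblCons

open Groth.Agent.Helper1.QcCech Groth.Agent.Helper1.SubSh Groth.Agent.Helper1.LGen
open Groth.Agent.Helper1 Groth.Agent.Helper1.TmulLib

/-- data for the algebra `R ⊕ M` -/
structure DblData (R : Type u) [CommRing R] (M : Type v) [AddCommGroup M] [Module R M] where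
  μ : M → M → R
  add_left : ∀ a a' b, μ (a + a') b = μ a b + μ a' b
  smul_left : ∀ (r : R) a b, μ (r • a) b = r * μ a b
  symm : ∀ a b, μ a b = μ b a
  assoc : ∀ a b c, μ a b • c = μ b c • a

variable {R : Type u} [CommRing R] {M : Type v} [AddCommGroup M] [Module R M]

namespace DblData

variable (D : DblData R M)

theorem add_right (a b b' : M) : D.μ a (b + b') = D.μ a b + D.μ a b' := by
  rw [D.symm, D.add_left, D.symm b, D.symm b']

theorem smul_right (r : R) (a b : M) : D.μ a (r • b) = r * D.μ a b := by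
  rw [D.symm, D.smul_left, D.symm]

theorem zero_left (b : M) : D.μ 0 b = 0 := by
  have := D.smul_left 0 0 b
  rwa [zero_smul, zero_mul] at this

theorem zero_right (a : M) : D.μ a 0 = 0 := by rw [D.symm, D.zero_left]

end DblData

/-- the underlying type of the algebra `R ⊕ M` -/
def Dbl (_ : DblData R M) : Type (max u v) := R × M

namespace Dbl

variable (D : DblData R M)

instance : AddCommGroup (Dbl D) := inferInstanceAs (AddCommGroup (R × M))

/-- constructor -/
def mk (s : R) (l : M) : Dbl D := (s, l)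

/-- first component -/
def fst (p : Dbl D) : R := Prod.fst p
/-- second component -/
def snd (p : Dbl D) : M := Prod.snd p

variable {D}

@[ext] theorem ext {p q : Dbl D} (h1 : p.fst = q.fst) (h2 : p.snd = q.snd) : p = q :=
  Prod.ext h1 h2

@[simp] theorem fst_mk (s : R) (l : M) : (mk D s l).fst = s := rfl
@[simp] theorem snd_mk (s : R) (l : M) : (mk D s l).snd = l := rfl
@[simp] theorem fst_add (p q : Dbl D) : (p + q).fst = p.fst + q.fst := rfl
@[simp] theorem snd_add (p q : Dbl D) : (p + q).snd = p.snd + q.snd := rfl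
@[simp] theorem fst_zero : (0 : Dbl D).fst = 0 := rfl
@[simp] theorem snd_zero : (0 : Dbl D).snd = 0 := rfl
@[simp] theorem fst_neg (p : Dbl D) : (-p).fst = -p.fst := rfl
@[simp] theorem snd_neg (p : Dbl D) : (-p).snd = -p.snd := rfl

instance : Mul (Dbl D) :=
  ⟨fun p q => mk D (p.fst * q.fst + D.μ p.snd q.snd) (p.fst • q.snd + q.fst • p.snd)⟩

instance : One (Dbl D) := ⟨mk D 1 0⟩

@[simp] theorem fst_mul (p q : Dbl D) : (p * q).fst = p.fst * q.fst + D.μ p.snd q.snd := rfl
@[simp] theorem snd_mul (p q : Dbl D) : (p * q).snd = p.fst • q.snd + q.fst • p.snd := rfl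
@[simp] theorem fst_one : (1 : Dbl D).fst = 1 := rfl
@[simp] theorem snd_one : (1 : Dbl D).snd = 0 := rfl

instance : CommRing (Dbl D) :=
  { (inferInstance : AddCommGroup (Dbl D)), (inferInstance : Mul (Dbl D)),
    (inferInstance : One (Dbl D)) with
    mul_assoc := by
      intro p q r
      ext
      · simp only [fst_mul, snd_mul, D.add_left, D.add_right, D.smul_left, D.smul_right]
        ring
      · simp only [fst_mul, snd_mul, add_smul]
        rw [D.assoc p.snd q.snd r.snd]
        module
    one_mul := by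
      intro p
      ext
      · simp [D.zero_left]
      · simp
    mul_one := by
      intro p
      ext
      · simp [D.zero_right]
      · simp
    left_distrib := by
      intro p q r
      ext
      · simp only [fst_mul, fst_add, snd_add, D.add_right]
        ring
      · simp only [snd_mul, fst_add, snd_add, smul_add, add_smul]
        abel
    right_distrib := by
      intro p q r
      ext
      · simp only [fst_mul, fst_add, snd_add, D.add_left]
        ring
      · simp only [snd_mul, fst_add, snd_add, smul_add, add_smul]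
        abel
    mul_comm := by
      intro p q
      ext
      · simp only [fst_mul]
        rw [mul_comm, D.symm]
      · simp only [snd_mul]
        abel
    zero_mul := by
      intro p
      ext
      · simp [D.zero_left]
      · simp
    mul_zero := by
      intro p
      ext
      · simp [D.zero_right]
      · simp }

end Dbl

section Maps

variable {R : Type u} [CommRing R] {M : Type v} [AddCommGroup M] [Module R M]
variable {R' : Type u} [CommRing R'] {M' : Type v} [AddCommGroup M'] [Module R' M']
variable (D : DblData R M) (D' : DblData R' M')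

/-- the structure map `R → R ⊕ M` -/
def inl : R →+* Dbl D where
  toFun s := Dbl.mk D s 0
  map_one' := rfl
  map_mul' s t := by
    ext
    · simp [D.zero_left]
    · simp
  map_zero' := rfl
  map_add' s t := by
    ext
    · simp
    · simp

/-- the inclusion `M → R ⊕ M` -/
def inr : M →+ Dbl D where
  toFun l := Dbl.mk D 0 l
  map_zero' := rfl
  map_add' l l' := by
    ext
    · simp
    · simp

@[simp] theorem fst_inl (s : R) : (inl D s).fst = s := rfl
@[simp] theorem snd_inl (s : R) : (inl D s).snd = 0 := rfl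
@[simp] theorem fst_inr (l : M) : (inr D l).fst = 0 := rfl
@[simp] theorem snd_inr (l : M) : (inr D l).snd = l := rfl

theorem inl_add_inr (p : Dbl D) : inl D p.fst + inr D p.snd = p := by
  ext
  · simp
  · simp

theorem inr_mul_inr (l l' : M) : inr D l * inr D l' = inl D (D.μ l l') := by
  ext
  · simp
  · simp

theorem inl_mul (s : R) (p : Dbl D) : inl D s * p = Dbl.mk D (s * p.fst) (s • p.snd) := by
  ext
  · simp [D.zero_left]
  · simp

variable {D D'}

/-- functoriality of the construction -/
def map (ρ : R →+* R') (ρM : M →+ M') (hsm : ∀ (r : R) (m : M), ρM (r • m) = ρ r • ρM m)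
    (hμ : ∀ a b, ρ (D.μ a b) = D'.μ (ρM a) (ρM b)) : Dbl D →+* Dbl D' where
  toFun p := Dbl.mk D' (ρ p.fst) (ρM p.snd)
  map_one' := by
    ext
    · simp
    · simp
  map_mul' p q := by
    ext
    · simp [hμ]
    · simp [hsm]
  map_zero' := by
    ext
    · simp
    · simp
  map_add' p q := by
    ext
    · simp
    · simp

@[simp] theorem fst_map (ρ : R →+* R') (ρM : M →+ M') (hsm) (hμ) (p : Dbl D) :
    (map (D := D) (D' := D') ρ ρM hsm hμ p).fst = ρ p.fst := rfl
@[simp] theorem snd_map (ρ : R →+* R') (ρM : M →+ M') (hsm) (hμ) (p : Dbl D) :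
    (map (D := D) (D' := D') ρ ρM hsm hμ p).snd = ρM p.snd := rfl

theorem map_inl (ρ : R →+* R') (ρM : M →+ M') (hsm) (hμ) (s : R) :
    map (D := D) (D' := D') ρ ρM hsm hμ (inl D s) = inl D' (ρ s) := by
  ext
  · simp
  · simp

theorem map_inr (ρ : R →+* R') (ρM : M →+ M') (hsm) (hμ) (l : M) :
    map (D := D) (D' := D') ρ ρM hsm hμ (inr D l) = inr D' (ρM l) := by
  ext
  · simp
  · simp

/-- localization of the construction -/
theorem isLocalization_away (f : R) [Algebra R R'] (hR : IsLocalization.Away f R')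
    (ρM : M →+ M') (hsm : ∀ (r : R) (m : M), ρM (r • m) = algebraMap R R' r • ρM m)
    (hμ : ∀ a b, algebraMap R R' (D.μ a b) = D'.μ (ρM a) (ρM b))
    (hext : ∀ y : M', ∃ (n : ℕ) (t : M), ρM t = (algebraMap R R' f) ^ n • y)
    (hkill : ∀ t : M, ρM t = 0 → ∃ n : ℕ, f ^ n • t = 0) :
    letI := (map (D := D) (D' := D') (algebraMap R R') ρM hsm hμ).toAlgebra
    IsLocalization.Away (inl D f) (Dbl D') := by
  letI := (map (D := D) (D' := D') (algebraMap R R') ρM hsm hμ).toAlgebra
  have halg : ∀ p : Dbl D, algebraMap (Dbl D) (Dbl D') p =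
      map (D := D) (D' := D') (algebraMap R R') ρM hsm hμ p := fun _ => rfl
  have hpow : ∀ n : ℕ, (inl D f) ^ n = inl D (f ^ n) := fun n => (map_pow (inl D) f n).symm
  refine ⟨?_, ?_, ?_⟩
  · rintro ⟨y, n, rfl⟩
    simp only
    rw [hpow, halg, map_inl]
    have hu : IsUnit (algebraMap R R' (f ^ n)) := by
      rw [map_pow]
      exact (IsLocalization.Away.algebraMap_isUnit f).pow n
    exact hu.map (inl D')
  · intro z
    obtain ⟨⟨s, ⟨c, n, rfl⟩⟩, hs⟩ := IsLocalization.surj (Submonoid.powers f) z.fst
    simp only at hs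
    obtain ⟨k, t, ht⟩ := hext z.snd
    refine ⟨(Dbl.mk D (s * f ^ k) (f ^ n • t), ⟨(inl D f) ^ (n + k), n + k, rfl⟩), ?_⟩
    simp only
    rw [hpow, halg, halg, map_inl, mul_comm, inl_mul]
    ext
    · simp only [Dbl.fst_mk, fst_map, map_mul, map_pow]
      rw [← hs, map_pow]
      ring
    · simp only [Dbl.snd_mk, snd_map, hsm, ht, map_pow, smul_smul]
      rw [pow_add]
  · intro x y hxy
    rw [halg, halg] at hxy
    have h1 : algebraMap R R' x.fst = algebraMap R R' y.fst := congrArg (Dbl.fst D') hxy
    have h2 : ρM x.snd = ρM y.snd := congrArg (Dbl.snd D') hxy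
    obtain ⟨⟨c, n, rfl⟩, hc⟩ := IsLocalization.exists_of_eq (M := Submonoid.powers f) h1
    simp only at hc
    obtain ⟨k, hk⟩ := hkill (x.snd - y.snd) (by rw [map_sub, h2, sub_self])
    refine ⟨⟨(inl D f) ^ (n + k), n + k, rfl⟩, ?_⟩
    simp only
    rw [hpow, inl_mul, inl_mul]
    ext
    · simp only [Dbl.fst_mk]
      rw [pow_add, mul_comm (f ^ n), mul_assoc, mul_assoc, hc]
    · simp only [Dbl.snd_mk]
      rw [smul_sub, sub_eq_zero] at hk
      rw [pow_add, mul_smul, mul_smul, hk]

end Maps



section Sheaf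

variable {X : Scheme.{u}} (L : X.Modules) (m : CohB1.tensorMod L L ⟶ Coh.structureModule X)

/-- the pairing on sections -/
noncomputable def μU (U : X.Opens) (l l' : Γ(L, U)) : Γ(X, U) :=
  (m.val.app (op U)).hom (tm L L U l l')

theorem μU_add_left (U : X.Opens) (a a' b : Γ(L, U)) :
    μU L m U (a + a') b = μU L m U a b + μU L m U a' b := by
  unfold μU
  rw [tm_add_left]
  exact map_add (m.val.app (op U)).hom _ _

theorem μU_smul_left (U : X.Opens) (r : Γ(X, U)) (a b : Γ(L, U)) :
    μU L m U (r • a) b = r * μU L m U a b := by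
  unfold μU
  rw [tm_smul_left]
  exact (m.val.app (op U)).hom.map_smul r _

theorem μU_smul_right (U : X.Opens) (r : Γ(X, U)) (a b : Γ(L, U)) :
    μU L m U a (r • b) = r * μU L m U a b := by
  unfold μU
  rw [tm_smul_right]
  exact (m.val.app (op U)).hom.map_smul r _

theorem μU_res {U V : X.Opens} (h : V ≤ U) (a b : Γ(L, U)) :
    resR h (μU L m U a b) = μU L m V (res L h a) (res L h b) := by
  unfold μU
  rw [← res_tm]
  have := congrArg (fun f => f.hom (tm L L U a b)) (m.val.naturality (homOfLE h).op)
  exact this.symm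

variable {L} in
theorem μU_symm (hL : PicF.IsInvertible L) (U : X.Opens) (a b : Γ(L, U)) :
    μU L m U a b = μU L m U b a := by
  apply TwistSec.eq_of_locally (Coh.structureModule X)
  intro x hx
  obtain ⟨W, g, hxW, hg⟩ := exists_isGen hL x
  have hVW : W ⊓ U ≤ W := inf_le_left
  have hVU : W ⊓ U ≤ U := inf_le_right
  refine ⟨W ⊓ U, hVU, ⟨hxW, hx⟩, ?_⟩
  change resR hVU (μU L m U a b) = resR hVU (μU L m U b a)
  rw [μU_res, μU_res]
  obtain ⟨s, hs⟩ := (hg _ hVW).2 (res L hVU a)
  obtain ⟨t, ht⟩ := (hg _ hVW).2 (res L hVU b)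
  have hs' : s • res L hVW g = res L hVU a := hs
  have ht' : t • res L hVW g = res L hVU b := ht
  rw [← hs', ← ht', μU_smul_left, μU_smul_right, μU_smul_left, μU_smul_right]
  ring

variable {L} in
theorem μU_assoc (hL : PicF.IsInvertible L) (U : X.Opens) (a b c : Γ(L, U)) :
    μU L m U a b • c = μU L m U b c • a := by
  apply TwistSec.eq_of_locally L
  intro x hx
  obtain ⟨W, g, hxW, hg⟩ := exists_isGen hL x
  have hVW : W ⊓ U ≤ W := inf_le_left
  have hVU : W ⊓ U ≤ U := inf_le_right
  refine ⟨W ⊓ U, hVU, ⟨hxW, hx⟩, ?_⟩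
  rw [res_smul, res_smul, μU_res, μU_res]
  obtain ⟨s, hs⟩ := (hg _ hVW).2 (res L hVU a)
  obtain ⟨t, ht⟩ := (hg _ hVW).2 (res L hVU b)
  obtain ⟨w, hw⟩ := (hg _ hVW).2 (res L hVU c)
  have hs' : s • res L hVW g = res L hVU a := hs
  have ht' : t • res L hVW g = res L hVU b := ht
  have hw' : w • res L hVW g = res L hVU c := hw
  rw [← hs', ← ht', ← hw', μU_smul_left, μU_smul_right, μU_smul_left, μU_smul_right,
    smul_smul, smul_smul]
  congr 1
  ring

theorem resR_self' {O : X.Opens} (h : O ≤ O) (r : Γ(X, O)) : resR h r = r := by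
  have : (homOfLE h).op = 𝟙 _ := Subsingleton.elim _ _
  change (X.presheaf.map (homOfLE h).op).hom r = r
  rw [this, CategoryTheory.Functor.map_id]
  rfl

variable (hL : PicF.IsInvertible L)

/-- the data on each open -/
noncomputable def DU (U : X.Opens) : DblData Γ(X, U) Γ(L, U) where
  μ := μU L m U
  add_left := μU_add_left L m U
  smul_left := μU_smul_left L m U
  symm := μU_symm m hL U
  assoc := μU_assoc m hL U

/-- restriction maps of the algebra -/
noncomputable def rP {U V : X.Opens} (h : V ≤ U) : Dbl (DU L m hL U) →+* Dbl (DU L m hL V) :=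
  map (D := DU L m hL U) (D' := DU L m hL V) (resR h) (res L h)
    (fun r l => res_smul L h r l) (fun a b => μU_res L m h a b)

/-- the presheaf of rings `O ⊕ L` -/
noncomputable def P : TopCat.Presheaf CommRingCat.{u} X.carrier where
  obj U := CommRingCat.of (Dbl (DU L m hL U.unop))
  map {U V} i := CommRingCat.ofHom (rP L m hL i.unop.le)
  map_id U := by
    apply CommRingCat.hom_ext
    apply RingHom.ext
    intro p
    exact Dbl.ext (D := DU L m hL U.unop)
      (resR_self' _ (Dbl.fst (DU L m hL U.unop) p))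
      (res_self L _ (Dbl.snd (DU L m hL U.unop) p))
  map_comp {U V W} i k := by
    apply CommRingCat.hom_ext
    apply RingHom.ext
    intro p
    exact Dbl.ext (D := DU L m hL W.unop)
      (resR_resR i.unop.le k.unop.le (Dbl.fst (DU L m hL U.unop) p)).symm
      (res_res L i.unop.le k.unop.le (Dbl.snd (DU L m hL U.unop) p)).symm

theorem P_map_apply {U V : (Opens X.carrier)ᵒᵖ} (i : U ⟶ V) (p : Dbl (DU L m hL U.unop)) :
    ((P L m hL).map i).hom p = rP L m hL i.unop.le p := rfl

theorem isSheaf_P : (P L m hL).IsSheaf := by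
  rw [TopCat.Presheaf.isSheaf_iff_isSheafUniqueGluing]
  intro ι U sf hsf
  -- the components
  let s1 : ∀ i, Γ(X, U i) := fun i => Dbl.fst (DU L m hL (U i)) (sf i)
  let s2 : ∀ i, Γ(L, U i) := fun i => Dbl.snd (DU L m hL (U i)) (sf i)
  have hc1 : ∀ i j, res (Coh.structureModule X) (inf_le_left : U i ⊓ U j ≤ U i) (s1 i) =
      res (Coh.structureModule X) (inf_le_right : U i ⊓ U j ≤ U j) (s1 j) := fun i j =>
    congrArg (Dbl.fst (DU L m hL (U i ⊓ U j))) (hsf i j)
  have hc2 : ∀ i j, res L (inf_le_left : U i ⊓ U j ≤ U i) (s2 i) =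
      res L (inf_le_right : U i ⊓ U j ≤ U j) (s2 j) := fun i j =>
    congrArg (Dbl.snd (DU L m hL (U i ⊓ U j))) (hsf i j)
  obtain ⟨t1, ht1⟩ := TwistSec.glue_of_compatible (Coh.structureModule X) U (iSup U)
    (fun i => le_iSup U i) le_rfl s1 hc1
  obtain ⟨t2, ht2⟩ := TwistSec.glue_of_compatible L U (iSup U)
    (fun i => le_iSup U i) le_rfl s2 hc2
  refine ⟨Dbl.mk (DU L m hL (iSup U)) t1 t2, ?_, ?_⟩
  · intro i
    exact Dbl.ext (D := DU L m hL (U i)) (ht1 i) (ht2 i)
  · intro q hq
    refine Dbl.ext (D := DU L m hL (iSup U)) ?_ ?_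
    · apply TwistSec.eq_of_locally (Coh.structureModule X)
      intro x hx
      obtain ⟨i, hi⟩ := Opens.mem_iSup.1 hx
      refine ⟨U i, le_iSup U i, hi, ?_⟩
      have h1 := congrArg (Dbl.fst (DU L m hL (U i))) (hq i)
      exact h1.trans (ht1 i).symm
    · apply TwistSec.eq_of_locally L
      intro x hx
      obtain ⟨i, hi⟩ := Opens.mem_iSup.1 hx
      refine ⟨U i, le_iSup U i, hi, ?_⟩
      have h1 := congrArg (Dbl.snd (DU L m hL (U i))) (hq i)
      exact h1.trans (ht2 i).symm

/-- the structure map -/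
noncomputable def strP : X.presheaf ⟶ P L m hL where
  app U := CommRingCat.ofHom (inl (DU L m hL U.unop))
  naturality U V i := by
    apply CommRingCat.hom_ext
    apply RingHom.ext
    intro s
    exact (map_inl (D := DU L m hL U.unop) (D' := DU L m hL V.unop) (resR i.unop.le)
      (res L i.unop.le) (fun r l => res_smul L i.unop.le r l)
      (fun a b => μU_res L m i.unop.le a b) s).symm

theorem isQC_P : RelSpec.IsQC (P L m hL) (strP L m hL) := by
  intro U hU r
  haveI : L.IsQuasicoherent := (InvQc.isCoh_of_isInvertible _ hL).1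
  exact isLocalization_away (D := DU L m hL U) (D' := DU L m hL (X.basicOpen r)) r
    (hU.isLocalization_basicOpen r) (res L (X.basicOpen_le r))
    (fun s l => res_smul L (X.basicOpen_le r) s l)
    (fun a b => μU_res L m (X.basicOpen_le r) a b)
    (fun y => QcAbel.extP_of_isQuasicoherent L U hU r (X.basicOpen r) rfl y)
    (fun t ht => QcAbel.killP_of_isQuasicoherent L U hU r (X.basicOpen r) rfl t ht)

/-- the algebra `O ⊕ L` -/
noncomputable def alg : RelSpec.QCAlg X where
  presheaf := P L m hL
  isSheaf := isSheaf_P L m hL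
  str := strP L m hL
  isQC := isQC_P L m hL

/-- the inclusion of `L` -/
noncomputable def jHom : L ⟶ (alg L m hL).toModule :=
  ⟨letI := (alg L m hL).moduleSect
   PresheafOfModules.homMk
    { app := fun U => AddCommGrpCat.ofHom (inr (DU L m hL U.unop))
      naturality := fun U V i => by
        ext l
        exact (map_inr (D := DU L m hL U.unop) (D' := DU L m hL V.unop) (resR i.unop.le)
          (res L i.unop.le) (fun r l => res_smul L i.unop.le r l)
          (fun a b => μU_res L m i.unop.le a b) l).symm }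
    (fun U r l => by
      change inr (DU L m hL U.unop) (r • l) = inl (DU L m hL U.unop) r * inr (DU L m hL U.unop) l
      rw [inl_mul]
      exact Dbl.ext (D := DU L m hL U.unop) (by simp) rfl)⟩

theorem jHom_app (U : X.Opens) (l : Γ(L, U)) :
    ((jHom L m hL).val.app (op U)).hom l = inr (DU L m hL U) l := rfl

/-- **S19697** -/
theorem isDblAlg : FinCov.IsDblAlg L m (alg L m hL) (jHom L m hL) := by
  refine ⟨fun U => ?_, fun U l l' => ?_⟩
  · change Function.Bijective (fun p : Γ(X, U) × Γ(L, U) =>
      inl (DU L m hL U) p.1 + inr (DU L m hL U) p.2)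
    constructor
    · rintro ⟨a, b⟩ ⟨a', b'⟩ h
      have h1 : a = a' := by simpa using congrArg (Dbl.fst (DU L m hL U)) h
      have h2 : b = b' := by simpa using congrArg (Dbl.snd (DU L m hL U)) h
      rw [h1, h2]
    · intro q
      exact ⟨(Dbl.fst (DU L m hL U) q, Dbl.snd (DU L m hL U) q), inl_add_inr _ q⟩
  · change inr (DU L m hL U) l * inr (DU L m hL U) l' = inl (DU L m hL U) _
    rw [inr_mul_inr]
    rfl

end Sheaf

end Groth.Agent.Helper1.DblCons
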