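import Mathlib
set_option autoImplicit false
universe u
namespace Groth.Agent.Helper1.Ded

section Dom
variable {D : Type u} [CommRing D] [IsDomain D]

/-- weak invertibility of an ideal -/
def Inv' (I : Ideal D) : Prop := ∃ (J : Ideal D) (x : D), x ≠ 0 ∧ I * J = Ideal.span {x}

lemma Inv'.of_mul_left {A B : Ideal D} (h : Inv' (A * B)) : Inv' A := by
  obtain ⟨J, x, hx, e⟩ := h
  exact ⟨B * J, x, hx, by rw [← mul_assoc, e]⟩

lemma Inv'.mul {A B : Ideal D} (hA : Inv' A) (hB : Inv' B) : Inv' (A * B) := by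
  obtain ⟨J, x, hx, e⟩ := hA
  obtain ⟨J', y, hy, e'⟩ := hB
  exact ⟨J * J', x * y, mul_ne_zero hx hy, by
    rw [mul_mul_mul_comm, e, e', Ideal.span_singleton_mul_span_singleton]⟩

lemma inv'_span {x : D} (hx : x ≠ 0) : Inv' (Ideal.span {x}) :=
  ⟨⊤, x, hx, Ideal.mul_top _⟩

lemma inv'_top : Inv' (⊤ : Ideal D) := ⟨⊤, 1, one_ne_zero, by simp⟩

lemma Inv'.of_mem_multiset {s : Multiset (Ideal D)} (h : Inv' s.prod) {P : Ideal D} (hP : P ∈ s) :
    Inv' P := by
  obtain ⟨t, rfl⟩ := Multiset.exists_cons_of_mem hP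
  rw [Multiset.prod_cons] at h
  exact h.of_mul_left

lemma Inv'.cancel {I A B : Ideal D} (h : Inv' I) (e : I * A = I * B) : A = B := by
  obtain ⟨J, x, hx, hJ⟩ := h
  have : Ideal.span {x} * A = Ideal.span {x} * B := by
    rw [← hJ, mul_comm I J, mul_assoc, e, ← mul_assoc]
  exact (Ideal.span_singleton_mul_right_inj hx).mp this

lemma prod_unique : ∀ (n : ℕ) (s t : Multiset (Ideal D)), Multiset.card s = n →
    (∀ P ∈ s, P.IsPrime ∧ Inv' P) → (∀ P ∈ t, P.IsPrime ∧ Inv' P) → s.prod = t.prod → s = t := by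
  classical
  intro n
  induction n with
  | zero =>
    intro s t hn hs ht h
    rw [Multiset.card_eq_zero] at hn
    subst hn
    by_contra hne
    obtain ⟨Q, hQ⟩ := Multiset.exists_mem_of_ne_zero (Ne.symm hne)
    have h1 : t.prod ≤ Q := Ideal.le_of_dvd (Multiset.dvd_prod hQ)
    rw [← h, Multiset.prod_zero, Ideal.one_eq_top, top_le_iff] at h1
    exact (ht Q hQ).1.ne_top h1
  | succ n ih =>
    intro s t hn hs ht h
    have hsne : s.toFinset.Nonempty := by
      rw [Multiset.toFinset_nonempty]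
      intro h0
      rw [h0] at hn
      simp at hn
    obtain ⟨P, hPs, hPmin⟩ := s.toFinset.exists_minimal hsne
    rw [Multiset.mem_toFinset] at hPs
    have hPprime := (hs P hPs).1
    have h1 : t.prod ≤ P := h ▸ Ideal.le_of_dvd (Multiset.dvd_prod hPs)
    obtain ⟨Q, hQt, hQP⟩ := hPprime.multiset_prod_le.mp h1
    have hQprime := (ht Q hQt).1
    have h2 : s.prod ≤ Q := h ▸ Ideal.le_of_dvd (Multiset.dvd_prod hQt)
    obtain ⟨P', hP's, hP'Q⟩ := hQprime.multiset_prod_le.mp h2
    have hP'P : P' = P :=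
      le_antisymm (hP'Q.trans hQP) (hPmin (Multiset.mem_toFinset.mpr hP's) (hP'Q.trans hQP))
    have hQeq : Q = P := le_antisymm hQP (hP'P ▸ hP'Q)
    subst hQeq
    obtain ⟨s', rfl⟩ := Multiset.exists_cons_of_mem hPs
    obtain ⟨t', rfl⟩ := Multiset.exists_cons_of_mem hQt
    rw [Multiset.prod_cons, Multiset.prod_cons] at h
    have h3 := (hs Q hPs).2.cancel h
    rw [Multiset.card_cons, add_left_inj] at hn
    rw [ih s' t' hn (fun P hP => hs P (Multiset.mem_cons_of_mem hP))
      (fun P hP => ht P (Multiset.mem_cons_of_mem hP)) h3]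

end Dom

section Main
variable {R : Type u} [CommRing R] [IsDomain R]
  (h : ∀ I : Ideal R, I ≠ ⊥ → ∃! s : Multiset (Ideal R), (∀ p ∈ s, p.IsPrime ∧ p ≠ ⊥) ∧ s.prod = I)

omit h in
lemma prod_ne_bot (s : Multiset (Ideal R)) (hs : ∀ p ∈ s, p.IsPrime ∧ p ≠ ⊥) : s.prod ≠ ⊥ := by
  rw [← Ideal.zero_eq_bot]
  apply Multiset.prod_ne_zero
  intro h0
  exact (hs _ h0).2 rfl

include h in
lemma uniq (s t : Multiset (Ideal R)) (hs : ∀ p ∈ s, p.IsPrime ∧ p ≠ ⊥)
    (ht : ∀ p ∈ t, p.IsPrime ∧ p ≠ ⊥) (e : s.prod = t.prod) : s = t :=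
  (h s.prod (prod_ne_bot s hs)).unique ⟨hs, rfl⟩ ⟨ht, e.symm⟩

include h in
lemma cancel (P A B : Ideal R) (hP : P.IsPrime) (hP0 : P ≠ ⊥) (hA : A ≠ ⊥) (hB : B ≠ ⊥)
    (e : P * A = P * B) : A = B := by
  obtain ⟨a, ⟨ha, rfl⟩, -⟩ := h A hA
  obtain ⟨b, ⟨hb, rfl⟩, -⟩ := h B hB
  have := uniq h (P ::ₘ a) (P ::ₘ b)
    (fun p hp => by
      rcases Multiset.mem_cons.mp hp with rfl | hp
      · exact ⟨hP, hP0⟩
      · exact ha p hp)
    (fun p hp => by
      rcases Multiset.mem_cons.mp hp with rfl | hp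
      · exact ⟨hP, hP0⟩
      · exact hb p hp)
    (by rw [Multiset.prod_cons, Multiset.prod_cons, e])
  rw [(Multiset.cons_inj_right P).mp this]

include h in
theorem isMaximal_of_prime (P : Ideal R) (hP : P.IsPrime) (hP0 : P ≠ ⊥) : P.IsMaximal := by
  have key : ∀ a : R, a ∉ P → P ⊔ Ideal.span {a} = ⊤ := by
    intro a ha
    let φ := Ideal.Quotient.mk P
    have hφ : Function.Surjective φ := Ideal.Quotient.mk_surjective
    have hker : RingHom.ker φ = P := Ideal.mk_ker
    have hφa : φ a ≠ 0 := fun h0 => ha (Ideal.Quotient.eq_zero_iff_mem.mp h0)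
    let I := P ⊔ Ideal.span {a}
    let J := P ⊔ Ideal.span {a ^ 2}
    have hI0 : I ≠ ⊥ := fun h0 => hP0 (le_bot_iff.mp (h0 ▸ le_sup_left))
    have hJ0 : J ≠ ⊥ := fun h0 => hP0 (le_bot_iff.mp (h0 ▸ le_sup_left))
    obtain ⟨s, ⟨hs, hsI⟩, -⟩ := h I hI0
    obtain ⟨t, ⟨ht, htJ⟩, -⟩ := h J hJ0
    have hmapI : Ideal.map φ I = Ideal.span {φ a} := by
      simp only [I, Ideal.map_sup, Ideal.map_span, Set.image_singleton]
      rw [Ideal.map_quotient_self, bot_sup_eq]
    have hmapJ : Ideal.map φ J = Ideal.span {φ a} * Ideal.span {φ a} := by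
      simp only [J, Ideal.map_sup, Ideal.map_span, Set.image_singleton]
      rw [Ideal.map_quotient_self, bot_sup_eq, Ideal.span_singleton_mul_span_singleton, map_pow,
        sq]
    have hPle : ∀ (u : Multiset (Ideal R)) (K : Ideal R), u.prod = K → P ≤ K → ∀ p ∈ u, P ≤ p :=
      fun u K hu hK p hp => hK.trans (hu ▸ Ideal.le_of_dvd (Multiset.dvd_prod hp))
    have hprodmap : ∀ u : Multiset (Ideal R), (u.map (Ideal.map φ)).prod = Ideal.map φ u.prod :=
      fun u => (map_multiset_prod (Ideal.mapHom φ) u).symm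
    have hgood : ∀ (u : Multiset (Ideal R)) (K : Ideal R) (x : R ⧸ P), x ≠ 0 →
        (∀ p ∈ u, p.IsPrime ∧ p ≠ ⊥) → u.prod = K → P ≤ K → Ideal.map φ K = Ideal.span {x} →
        ∀ q ∈ u.map (Ideal.map φ), q.IsPrime ∧ Inv' q := by
      intro u K x hx hu huK hPK hmap q hq
      obtain ⟨p, hp, rfl⟩ := Multiset.mem_map.mp hq
      have : p.IsPrime := (hu p hp).1
      refine ⟨Ideal.map_isPrime_of_surjective hφ (hker.trans_le (hPle u K huK hPK p hp)), ?_⟩
      have h1 : Inv' (u.map (Ideal.map φ)).prod := by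
        rw [hprodmap, huK, hmap]
        exact inv'_span hx
      exact h1.of_mem_multiset hq
    have hs' := hgood s I (φ a) hφa hs hsI le_sup_left hmapI
    have ht' := hgood t J (φ a * φ a) (mul_ne_zero hφa hφa) ht htJ le_sup_left
      (by rw [hmapJ, Ideal.span_singleton_mul_span_singleton])
    have hss : ∀ q ∈ s.map (Ideal.map φ) + s.map (Ideal.map φ), q.IsPrime ∧ Inv' q := by
      intro q hq
      rcases Multiset.mem_add.mp hq with hq | hq <;> exact hs' q hq
    have heq : s.map (Ideal.map φ) + s.map (Ideal.map φ) = t.map (Ideal.map φ) := by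
      apply prod_unique _ _ _ rfl hss ht'
      rw [Multiset.prod_add, hprodmap, hprodmap, hsI, htJ, hmapI, hmapJ]
    have hcm : ∀ (u : Multiset (Ideal R)), (∀ p ∈ u, P ≤ p) →
        (u.map (Ideal.map φ)).map (Ideal.comap φ) = u := by
      intro u hu
      rw [Multiset.map_map]
      conv_rhs => rw [← Multiset.map_id u]
      apply Multiset.map_congr rfl
      intro p hp
      simp only [Function.comp_apply, id]
      rw [Ideal.comap_map_of_surjective φ hφ, ← RingHom.ker_eq_comap_bot, hker,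
        sup_eq_left.mpr (hu p hp)]
    have hst : s + s = t := by
      have := congrArg (Multiset.map (Ideal.comap φ)) heq
      rw [Multiset.map_add, hcm s (hPle s I hsI le_sup_left), hcm t (hPle t J htJ le_sup_left)] at this
      exact this
    have hJI : J = I * I := by
      rw [← htJ, ← hst, Multiset.prod_add, hsI]
    have hPle' : P ≤ P * I := by
      intro x hx
      have hxJ : x ∈ I * I := hJI ▸ (le_sup_left : P ≤ J) hx
      have hII : I * I ≤ P * P ⊔ Ideal.span {a} := by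
        simp only [I, Ideal.sup_mul, Ideal.mul_sup]
        refine sup_le (sup_le le_sup_left ?_) (sup_le ?_ ?_)
        · exact le_sup_of_le_right Ideal.mul_le_left
        · exact le_sup_of_le_right Ideal.mul_le_right
        · exact le_sup_of_le_right Ideal.mul_le_left
      obtain ⟨y, hy, z', hz', rfl⟩ := Submodule.mem_sup.mp (hII hxJ)
      obtain ⟨z, rfl⟩ := Ideal.mem_span_singleton'.mp hz'
      have hyP : y ∈ P := Ideal.mul_le_left hy
      have hzaP : z * a ∈ P := by
        have := P.sub_mem hx hyP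
        simpa using this
      have hzP : z ∈ P := (hP.mem_or_mem hzaP).resolve_right ha
      have h1 : y ∈ P * I := Ideal.mul_mono_right le_sup_left hy
      have h2 : z * a ∈ P * I :=
        Ideal.mul_mem_mul hzP (Ideal.mem_sup_right (Ideal.mem_span_singleton_self a))
      exact (P * I).add_mem h1 h2
    have hPI : P * I = P * ⊤ := by
      rw [Ideal.mul_top]
      exact le_antisymm Ideal.mul_le_left hPle'
    exact cancel h P I ⊤ hP hP0 hI0 top_ne_bot hPI
  rw [Ideal.isMaximal_iff]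
  refine ⟨fun h1 => hP.ne_top ((Ideal.eq_top_iff_one P).mpr h1), fun J x hPJ hxP hxJ => ?_⟩
  have h1 : P ⊔ Ideal.span {x} ≤ J := sup_le hPJ ((Ideal.span_singleton_le_iff_mem J).mpr hxJ)
  rw [key x hxP] at h1
  exact h1 Submodule.mem_top

include h in
theorem inv'_of_prime (P : Ideal R) (hP : P.IsPrime) (hP0 : P ≠ ⊥) : Inv' P := by
  obtain ⟨a, haP, ha0⟩ := Submodule.exists_mem_ne_zero_of_ne_bot hP0
  have hspan : Ideal.span {a} ≠ ⊥ := by
    rw [Ne, Ideal.span_singleton_eq_bot]; exact ha0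
  obtain ⟨s, ⟨hs, hsa⟩, -⟩ := h (Ideal.span {a}) hspan
  have hle : s.prod ≤ P := hsa ▸ (Ideal.span_singleton_le_iff_mem P).mpr haP
  obtain ⟨Q, hQs, hQP⟩ := hP.multiset_prod_le.mp hle
  have hQmax : Q.IsMaximal := isMaximal_of_prime h Q (hs Q hQs).1 (hs Q hQs).2
  have hQeq : Q = P := hQmax.eq_of_le hP.ne_top hQP
  rw [← hQeq]
  have : Inv' s.prod := hsa ▸ inv'_span ha0
  exact this.of_mem_multiset hQs

include h in
theorem inv'_of_ne_bot (I : Ideal R) (hI : I ≠ ⊥) : Inv' I := by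
  obtain ⟨s, ⟨hs, rfl⟩, -⟩ := h I hI
  refine Multiset.prod_induction Inv' s (fun _ _ => Inv'.mul) ?_ ?_
  · rw [Ideal.one_eq_top]; exact inv'_top
  · exact fun p hp => inv'_of_prime h p (hs p hp).1 (hs p hp).2

include h in
theorem S6369 : IsDedekindDomain R := by
  rw [isDedekindDomain_iff_mul_inv_cancel (K := FractionRing R)]
  intro I hI
  rw [FractionalIdeal.mul_inv_cancel_iff_isUnit]
  obtain ⟨a, aI, ha, rfl⟩ := FractionalIdeal.exists_eq_spanSingleton_mul I
  have haI : aI ≠ ⊥ := by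
    rintro rfl
    apply hI
    simp
  obtain ⟨J, x, hx, e⟩ := inv'_of_ne_bot h aI haI
  have hunit : ∀ y : FractionRing R, y ≠ 0 →
      IsUnit (FractionalIdeal.spanSingleton (nonZeroDivisors R) y) := by
    intro y hy
    refine IsUnit.of_mul_eq_one (FractionalIdeal.spanSingleton (nonZeroDivisors R) y⁻¹) ?_
    rw [FractionalIdeal.spanSingleton_mul_spanSingleton, mul_inv_cancel₀ hy,
      FractionalIdeal.spanSingleton_one]
  refine IsUnit.mul (hunit _ (inv_ne_zero ?_)) ?_
  · exact (map_ne_zero_iff _ (IsFractionRing.injective R (FractionRing R))).mpr ha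
  · have h1 : ((aI : FractionalIdeal (nonZeroDivisors R) (FractionRing R)) * (J : FractionalIdeal _ _)) =
        FractionalIdeal.spanSingleton (nonZeroDivisors R) (algebraMap R (FractionRing R) x) := by
      rw [← FractionalIdeal.coeIdeal_mul, e, FractionalIdeal.coeIdeal_span_singleton]
    have h2 : IsUnit ((aI : FractionalIdeal (nonZeroDivisors R) (FractionRing R)) *
        (J : FractionalIdeal _ _)) := by
      rw [h1]
      exact hunit _ ((map_ne_zero_iff _ (IsFractionRing.injective R (FractionRing R))).mpr hx)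
    exact isUnit_of_mul_isUnit_left h2

end Main

end Groth.Agent.Helper1.Ded
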