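import Mathlib
import Groth.Agent.Lib.Helper1.NumEq1
import Groth.Agent.Lib.Helper1.NumDim1
import Groth.Agent.Lib.Helper1.NefGG2

/-!
# Intersection numbers only depend on the numerical classes (helper1)
-/

set_option autoImplicit false
universe u
open CategoryTheory CategoryTheory.Limits AlgebraicGeometry TopologicalSpace Opposite

namespace Groth.Agent.Helper1.NumInv

open Groth.Agent.Helper1 Groth.Agent.Helper1.Euler Groth.Agent.Helper1.Dv
open Groth.Agent.Helper1.FinLen Groth.Agent.Helper1.TwForm Groth.Agent.Helper1.Curve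
open Groth.Agent.Helper1.Snap Groth.Agent.Helper1.SnapPos Groth.Agent.Helper1.FGAInt
open Groth.Agent.Helper1.FGAPos Groth.Agent.Helper1.Kleiman Groth.Agent.Helper1.Big
open Groth.Agent.Lib.Helper4

section Alg

variable (X : Scheme.{u}) [AlgebraicGeometry.IsNoetherian X]

theorem opM_mem {r : ℕ} (M : Fin r → X.Modules) (hM : ∀ i, PicF.IsInvertible (M i)) (D : ℕ)
    (x : KZero.K0sub (PC X)) (hx : x ∈ FilLT X D) : opM X M hM x ∈ FilLT X (D - r) := by
  have h := prod_one_sub_T_mem M hM (List.finRange r) D x hx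
  rwa [List.length_finRange] at h

theorem T_commute_opM (A : X.Modules) (hA : PicF.IsInvertible A) {r : ℕ} (M : Fin r → X.Modules)
    (hM : ∀ i, PicF.IsInvertible (M i)) : Commute (T A hA) (opM X M hM) := by
  unfold opM
  refine Commute.list_prod_right _ _ fun y hy => ?_
  obtain ⟨i, _, rfl⟩ := List.mem_map.1 hy
  exact (Commute.one_right _).sub_right (T_comm A (M i) hA (hM i))

theorem opM_zero (M : Fin 0 → X.Modules) (hM : ∀ i, PicF.IsInvertible (M i)) :
    opM X M hM = 1 := by
  unfold opM
  rw [List.finRange_zero, List.map_nil, List.prod_nil]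

end Alg

section Num

variable (k : Type u) [Field k] (X : Scheme.{u}) [X.Over (Spec (CommRingCat.of k))]
  [IsProper (X ↘ (Spec (CommRingCat.of k)))] [AlgebraicGeometry.IsNoetherian X]

/-- numerical equivalence of two modules: equal degrees on all integral closed curves -/
def NumEquiv (M M' : X.Modules) : Prop :=
  ∀ (Y : Scheme.{u}) (ι : Y ⟶ X) [IsClosedImmersion ι], IsIntegral Y →
    topologicalKrullDim Y = 1 →
    Pic13.curveDeg k (ι ≫ (X ↘ Spec (CommRingCat.of k))) ((Scheme.Modules.pullback ι).obj M) =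
      Pic13.curveDeg k (ι ≫ (X ↘ Spec (CommRingCat.of k))) ((Scheme.Modules.pullback ι).obj M')

/-- the degree on the closure of a one-dimensional point, in `K₀` -/
theorem curveDeg_pt_eq_lam (M : X.Modules) (hM : PicF.IsInvertible M) (ξ : X)
    (hξ : topologicalKrullDim ↥(closure ({ξ} : Set X)) = ((1 : ℕ) : WithBot ℕ∞)) :
    Pic13.curveDeg k ((IntMult.ptIdeal ξ).subschemeι ≫ (X ↘ Spec (CommRingCat.of k)))
      ((Scheme.Modules.pullback (IntMult.ptIdeal ξ).subschemeι).obj M) =
    lam k X M hM 1 (KZero.clSub (PC X) (Cyc.closureStructureSheaf ξ)) := by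
  have hdim : topologicalKrullDim (IntMult.ptIdeal ξ).subscheme ≤ ((1 : ℕ) : WithBot ℕ∞) := by
    rw [NefGG.dim_ptIdeal_subscheme ξ, hξ]
  have h := NumEq.curveDeg_eq_lam_quot k X (IntMult.ptIdeal ξ).subschemeι hdim M hM
  rw [Scheme.IdealSheafData.ker_subschemeι] at h
  exact h

/-- numerically equivalent modules have the same degree functional on the classes of dimension
at most one -/
theorem lam_one_eq_of_numEquiv (M M' : X.Modules) (hM : PicF.IsInvertible M)
    (hM' : PicF.IsInvertible M') (hnum : NumEquiv k X M M') (x : KZero.K0sub (PC X))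
    (hx : x ∈ FilLT X 2) : lam k X M hM 1 x = lam k X M' hM' 1 x := by
  have h := NumDim.hom_eq_zero_of_cycle (lam k X M hM 1 - lam k X M' hM' 1) 1 ?_ ?_ x hx
  · rw [AddMonoidHom.sub_apply] at h
    exact sub_eq_zero.1 h
  · intro y hy
    rw [AddMonoidHom.sub_apply, lam_eq_zero k X M hM 1 y hy, lam_eq_zero k X M' hM' 1 y hy,
      sub_zero]
  · intro ξ hξ
    rw [AddMonoidHom.sub_apply, ← curveDeg_pt_eq_lam k X M hM ξ hξ,
      ← curveDeg_pt_eq_lam k X M' hM' ξ hξ, sub_eq_zero]
    refine hnum _ _ (isIntegral_ptIdeal_subscheme ξ) ?_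
    rw [NefGG.dim_ptIdeal_subscheme ξ, hξ]
    exact Nat.cast_one

/-- the Euler characteristic of the operator `∏ (1 - T_{M_i})` only depends on the numerical
classes, on the classes of dimension at most the number of factors -/
theorem euler_opM_eq : ∀ (r : ℕ) (M M' : Fin r → X.Modules) (hM : ∀ i, PicF.IsInvertible (M i))
    (hM' : ∀ i, PicF.IsInvertible (M' i)) (_ : ∀ i, NumEquiv k X (M i) (M' i))
    (x : KZero.K0sub (PC X)) (_ : x ∈ FilLT X (r + 1)),
    eulerHom k X (opM X M hM x) = eulerHom k X (opM X M' hM' x)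
  | 0, M, M', hM, hM', _, x, _ => by
    rw [opM_zero X M hM, opM_zero X M' hM']
  | r + 1, M, M', hM, hM', hnum, x, hx => by
    set TM := T (M (Fin.last r)) (hM (Fin.last r)) with hTM
    set TM' := T (M' (Fin.last r)) (hM' (Fin.last r)) with hTM'
    set P := opM X (fun i => M i.castSucc) (fun i => hM i.castSucc) with hP
    set P' := opM X (fun i => M' i.castSucc) (fun i => hM' i.castSucc) with hP'
    have e1 : opM X M hM x = P ((1 - TM) x) := by
      rw [opM_snoc X M hM]
      rfl
    have e2 : opM X M' hM' x = P' ((1 - TM') x) := by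
      rw [opM_snoc X M' hM']
      rfl
    have hy : (1 - TM) x ∈ FilLT X (r + 1) := by
      have h := one_sub_T_mem (M (Fin.last r)) (hM (Fin.last r)) (r + 2) x hx
      rwa [show r + 2 - 1 = r + 1 by omega] at h
    have ih := euler_opM_eq r (fun i => M i.castSucc) (fun i => M' i.castSucc)
      (fun i => hM i.castSucc) (fun i => hM' i.castSucc) (fun i => hnum i.castSucc)
      ((1 - TM) x) hy
    rw [e1, e2, ih]
    have hz : P' x ∈ FilLT X 2 := by
      have h := opM_mem X (fun i => M' i.castSucc) (fun i => hM' i.castSucc) (r + 2) x hx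
      rwa [show r + 2 - r = 2 by omega] at h
    have hc : P' (TM x) = TM (P' x) :=
      congrArg (fun f : AddMonoid.End (KZero.K0sub (PC X)) => f x)
        (T_commute_opM X (M (Fin.last r)) (hM (Fin.last r)) (fun i => M' i.castSucc)
          (fun i => hM' i.castSucc)).eq.symm
    have hc' : P' (TM' x) = TM' (P' x) :=
      congrArg (fun f : AddMonoid.End (KZero.K0sub (PC X)) => f x)
        (T_commute_opM X (M' (Fin.last r)) (hM' (Fin.last r)) (fun i => M' i.castSucc)
          (fun i => hM' i.castSucc)).eq.symm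
    have e3 : P' ((1 - TM) x) = P' x - TM (P' x) := by
      change P' (x - TM x) = _
      rw [map_sub, hc]
    have e4 : P' ((1 - TM') x) = P' x - TM' (P' x) := by
      change P' (x - TM' x) = _
      rw [map_sub, hc']
    rw [e3, e4, map_sub, map_sub]
    have hl := lam_one_eq_of_numEquiv k X (M (Fin.last r)) (M' (Fin.last r)) (hM (Fin.last r))
      (hM' (Fin.last r)) (hnum (Fin.last r)) (P' x) hz
    rw [lam_apply, lam_apply, pow_one, pow_one] at hl
    have hl' : eulerHom k X (TM (P' x) - P' x) = eulerHom k X (TM' (P' x) - P' x) := hl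
    rw [map_sub, map_sub] at hl'
    linarith

end Num

section Main

variable (k : Type u) [Field k] (X : Scheme.{u}) [X.Over (Spec (CommRingCat.of k))]
  [IsProper (X ↘ (Spec (CommRingCat.of k)))]

/-- **the intersection numbers only depend on the numerical classes of the modules** -/
theorem main (d : ℕ) (hd : topologicalKrullDim X ≤ d) {r : ℕ} (M M' : Fin r → X.Modules)
    (hM : ∀ i, PicF.IsInvertible (M i)) (hM' : ∀ i, PicF.IsInvertible (M' i))
    (hnum : ∀ i, NumEquiv k X (M i) (M' i)) (F : X.Modules) (hF : Coh.IsCoh F)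
    (hr : topologicalKrullDim (CohB1.support F) ≤ r) :
    FGA.intNum k X d M F = FGA.intNum k X d M' F := by
  haveI : AlgebraicGeometry.IsNoetherian X := isNoetherian_of_proper k X
  rw [intNum_eq k X d hd M hM F hF, intNum_eq k X d hd M' hM' F hF]
  exact euler_opM_eq k X r M M' hM hM' hnum _ (clSub_mem_FilLT r F hF hr)

end Main

end Groth.Agent.Helper1.NumInv
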