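import Mathlib
import Groth.Agent.Lib.Helper1.NumInv1
import Groth.Agent.Lib.Helper1.CurveFin1
import Groth.Agent.Lib.Helper1.FinPush
import Groth.Agent.Lib.Helper4.IntegralDim

/-!
# Numerical equivalence is stable under pullback (helper1)
-/

set_option autoImplicit false
universe u
open CategoryTheory CategoryTheory.Limits AlgebraicGeometry TopologicalSpace Opposite

namespace Groth.Agent.Helper1.NumInv

open Groth.Agent.Helper1 Groth.Agent.Helper1.Euler Groth.Agent.Helper1.Dv
open Groth.Agent.Helper1.FinLen Groth.Agent.Helper1.TwForm Groth.Agent.Helper1.Curve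
open Groth.Agent.Helper1.Snap Groth.Agent.Helper1.SnapPos Groth.Agent.Helper1.FGAInt
open Groth.Agent.Helper1.FGAPos Groth.Agent.Helper1.Kleiman Groth.Agent.Helper1.Big
open Groth.Agent.Lib.Helper4 Groth.Agent.Helper1.LGen Groth.Agent.Helper1.PullSec

section Const

variable {Y X : Scheme.{u}}

/-- a free generator over the whole scheme trivializes the module -/
theorem isIso_homOfSec_top {M : Y.Modules} {a : Γ(M, ⊤)} (ha : IsGen M ⊤ a) :
    IsIso (TwistAmple.homOfSec M a) := by
  apply TwForm.isIso_of_app_bijective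
  intro V
  exact ha V le_top

/-- the pullback of an invertible module along a constant morphism is trivial -/
theorem nonempty_iso_of_constant [Nonempty Y] (h : Y ⟶ X)
    (hconst : ∀ y y' : Y, h.base y = h.base y') (L : X.Modules) (hL : PicF.IsInvertible L) :
    Nonempty (Coh.structureModule Y ≅ (Scheme.Modules.pullback h).obj L) := by
  obtain ⟨y₀⟩ := ‹Nonempty Y›
  obtain ⟨W, a, hxW, ha⟩ := exists_isGen hL (h.base y₀)
  have hW : (⊤ : Y.Opens) ≤ h ⁻¹ᵁ W := by
    intro y _
    change h.base y ∈ W
    rw [hconst y y₀]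
    exact hxW
  have ha' := PullGen.isGen_σ h ha
  have ha'' := ha'.res hW
  haveI hiso := isIso_homOfSec_top ha''
  exact ⟨@asIso _ _ _ _ _ hiso⟩

end Const

section Curve

variable (k : Type u) [Field k] (X : Scheme.{u}) [X.Over (Spec (CommRingCat.of k))]
  [IsProper (X ↘ (Spec (CommRingCat.of k)))]

/-- numerically equivalent modules have the same degree on every proper integral curve mapping
to the scheme -/
theorem curveDeg_pullback_eq (Y : Scheme.{u}) [Y.Over (Spec (CommRingCat.of k))]
    [IsProper (Y ↘ (Spec (CommRingCat.of k)))] [IsIntegral Y]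
    (hdimY : topologicalKrullDim Y = 1) (h : Y ⟶ X)
    (hh : h ≫ (X ↘ Spec (CommRingCat.of k)) = Y ↘ Spec (CommRingCat.of k))
    (L N : X.Modules) (hL : PicF.IsInvertible L) (hN : PicF.IsInvertible N)
    (hnum : NumEquiv k X L N) :
    Pic13.curveDeg k (Y ↘ Spec (CommRingCat.of k)) ((Scheme.Modules.pullback h).obj L) =
      Pic13.curveDeg k (Y ↘ Spec (CommRingCat.of k)) ((Scheme.Modules.pullback h).obj N) := by
  haveI : AlgebraicGeometry.IsNoetherian X := isNoetherian_of_proper k X
  haveI : AlgebraicGeometry.IsNoetherian Y := isNoetherian_of_proper k Y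
  by_cases hnt : (h.base '' (Set.univ : Set Y)).Nontrivial
  · haveI : IsFinite h := CurveFin.isFinite_of_curve k Y X (Y ↘ Spec (CommRingCat.of k))
      (X ↘ Spec (CommRingCat.of k)) h hh hdimY.le (fun Z hZ _ => by
        rw [irreducibleComponents_eq_singleton, Set.mem_singleton_iff] at hZ
        rw [hZ]
        exact hnt)
    have hc : Coh.IsCoh ((Scheme.Modules.pushforward h).obj (Coh.structureModule Y)) :=
      FinPush.isCoh_pushforward h _ (isCoh_structureModule Y)
    have hd1 : topologicalKrullDim Y ≤ ((1 : ℕ) : WithBot ℕ∞) := by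
      rw [hdimY]; exact le_of_eq Nat.cast_one.symm
    have hcl : IsClosed (Set.range h.base) := h.isClosedMap.isClosed_range
    have hsupp : topologicalKrullDim
        ↥(CohB1.support ((Scheme.Modules.pushforward h).obj (Coh.structureModule Y))) ≤
        ((1 : ℕ) : WithBot ℕ∞) := by
      refine (krullDim_le_of_subset
        (support_push_subset_of_isClosed_range h (Coh.structureModule Y) hcl)).trans ?_
      rw [← (IntegralDim.S4717_main h).1]
      exact hd1
    rw [curveDeg_eq_lam k Y hd1 _ (PullGen.isInvertible_pullback h hL),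
      curveDeg_eq_lam k Y hd1 _ (PullGen.isInvertible_pullback h hN),
      NM.lam_push_eq k X Y h hh L hL hc 1, NM.lam_push_eq k X Y h hh N hN hc 1]
    exact lam_one_eq_of_numEquiv k X L N hL hN hnum _ (clSub_mem_FilLT 1 _ hc hsupp)
  · have hsub : (h.base '' (Set.univ : Set Y)).Subsingleton := Set.not_nontrivial_iff.1 hnt
    have hconst : ∀ y y' : Y, h.base y = h.base y' := fun y y' =>
      hsub ⟨y, Set.mem_univ _, rfl⟩ ⟨y', Set.mem_univ _, rfl⟩
    obtain ⟨eL⟩ := nonempty_iso_of_constant h hconst L hL
    obtain ⟨eN⟩ := nonempty_iso_of_constant h hconst N hN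
    exact curveDeg_iso k _ (eL.symm ≪≫ eN)

/-- **numerical equivalence is stable under pullback** -/
theorem numEquiv_pullback (X' : Scheme.{u}) [X'.Over (Spec (CommRingCat.of k))]
    [IsProper (X' ↘ (Spec (CommRingCat.of k)))] (g : X' ⟶ X)
    (hg : g ≫ (X ↘ Spec (CommRingCat.of k)) = X' ↘ Spec (CommRingCat.of k))
    (L N : X.Modules) (hL : PicF.IsInvertible L) (hN : PicF.IsInvertible N)
    (hnum : NumEquiv k X L N) :
    NumEquiv k X' ((Scheme.Modules.pullback g).obj L) ((Scheme.Modules.pullback g).obj N) := by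
  intro Y ι _ hY hdimY
  haveI := hY
  letI : Y.Over (Spec (CommRingCat.of k)) := ⟨ι ≫ (X' ↘ Spec (CommRingCat.of k))⟩
  haveI : IsProper (Y ↘ Spec (CommRingCat.of k)) := by
    change IsProper (ι ≫ (X' ↘ Spec (CommRingCat.of k))); infer_instance
  have hh : (ι ≫ g) ≫ (X ↘ Spec (CommRingCat.of k)) = Y ↘ Spec (CommRingCat.of k) := by
    rw [Category.assoc, hg]
    rfl
  have key := curveDeg_pullback_eq k X Y hdimY (ι ≫ g) hh L N hL hN hnum
  have eL := (Scheme.Modules.pullbackComp ι g).app L
  have eN := (Scheme.Modules.pullbackComp ι g).app N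
  rw [← curveDeg_iso k _ eL, ← curveDeg_iso k _ eN] at key
  exact key

end Curve

end Groth.Agent.Helper1.NumInv
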