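import Mathlib
import Groth.Prelude.Def_NumR
import Groth.Agent.Lib.Helper1.BigCone2

/-!
# The ample cone of a surface lies in the positive cone (helper1)
-/

set_option autoImplicit false
universe u
open CategoryTheory CategoryTheory.Limits AlgebraicGeometry TopologicalSpace Opposite

namespace Groth.Agent.Helper1.PosCone

open Groth.Agent.Helper1 Groth.Agent.Helper1.Euler Groth.Agent.Helper1.Dv
open Groth.Agent.Helper1.FinLen Groth.Agent.Helper1.TwForm Groth.Agent.Helper1.Curve
open Groth.Agent.Helper1.Snap Groth.Agent.Helper1.SnapPos Groth.Agent.Helper1.FGAInt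
open Groth.Agent.Helper1.FGAPos Groth.Agent.Helper1.Kleiman Groth.Agent.Helper1.Big
open Groth.Agent.Lib.Helper4

section Alg

variable (X : Scheme.{u}) [IsNoetherian X]

/-- for two factors, the operator in the modules `∏ (1 - T)` is the operator `∏ (T - 1)` -/
theorem opM_two_eq_opL (M : Fin 2 → X.Modules) (hM : ∀ i, PicF.IsInvertible (M i)) :
    opM X M hM = opL 2 M hM := by
  have hc : Commute (T (M 0) (hM 0)) (T (M 1) (hM 1)) := T_comm _ _ _ _
  have h1 : opM X M hM = (1 - T (M 0) (hM 0)) * ((1 - T (M 1) (hM 1)) * 1) := by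
    unfold opM
    rfl
  have h2 : opL 2 M hM = (T (M 1) (hM 1) - 1) * ((T (M 0) (hM 0) - 1) * 1) := rfl
  rw [h1, h2, mul_one, mul_one]
  have hc' : Commute (T (M 1) (hM 1) - 1) (T (M 0) (hM 0) - 1) :=
    ((hc.symm.sub_left (Commute.one_left _)).sub_right (Commute.one_right _))
  rw [hc'.eq, ← neg_mul_neg, neg_sub, neg_sub]

end Alg

section Pos

variable (k : Type u) [Field k] (X : Scheme.{u}) [X.Over (Spec (CommRingCat.of k))]
  [IsProper (X ↘ (Spec (CommRingCat.of k)))]

/-- the intersection number of two ample modules on a surface is positive -/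
theorem intNum_ample_pos (hdim : topologicalKrullDim X = 2) (A A' : X.Modules)
    (hA : CohB1.IsAmple A) (hA' : CohB1.IsAmple A') :
    0 < FGA.intNum k X 2 ![A, A'] (Coh.structureModule X) := by
  haveI : AlgebraicGeometry.IsNoetherian X := isNoetherian_of_proper k X
  have hOc := isCoh_structureModule X
  have hn : topologicalKrullDim X = ((2 : ℕ) : WithBot ℕ∞) := by
    rw [hdim]; rfl
  obtain ⟨K, hK, ⟨eK⟩⟩ := InvInv2.exists_inverse hA.1
  obtain ⟨K', hK', ⟨eK'⟩⟩ := InvInv2.exists_inverse hA'.1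
  have iA : CohB1.tensorMod A K ≅ Coh.structureModule X :=
    TildeTens.tensorModComm A K ≪≫ eK
  have iA' : CohB1.tensorMod A' K' ≅ Coh.structureModule X :=
    TildeTens.tensorModComm A' K' ≪≫ eK'
  have hsupp : CohB1.support (Coh.structureModule X) = Set.univ :=
    Set.eq_univ_of_forall fun x => mem_support_structureModule x
  have hr : topologicalKrullDim ↥(CohB1.support (Coh.structureModule X)) =
      ((2 : ℕ) : WithBot ℕ∞) := by
    rw [hsupp, ← hn]
    exact IsHomeomorph.topologicalKrullDim_eq _ (Homeomorph.Set.univ X).isHomeomorph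
  have hLa : ∀ i, CohB1.IsAmple ((![A, A'] : Fin 2 → X.Modules) i) :=
    Fin.forall_fin_two.2 ⟨hA, hA'⟩
  have hLi : ∀ i, PicF.IsInvertible ((![A, A'] : Fin 2 → X.Modules) i) := fun i => (hLa i).1
  have hMi : ∀ i, PicF.IsInvertible ((![K, K'] : Fin 2 → X.Modules) i) :=
    Fin.forall_fin_two.2 ⟨hK, hK'⟩
  have hLM : ∀ i, Nonempty (CohB1.tensorMod ((![A, A'] : Fin 2 → X.Modules) i)
      ((![K, K'] : Fin 2 → X.Modules) i) ≅ Coh.structureModule X) :=
    Fin.forall_fin_two.2 ⟨⟨iA⟩, ⟨iA'⟩⟩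
  have hpos : 0 < FGA.intNum k X 2 ![K, K'] (Coh.structureModule X) :=
    intNum_pos k X 2 hn.le ![A, A'] ![K, K'] hLa hLM _ hOc hr
  have hmem := clSub_mem_FilLT 2 (Coh.structureModule X) hOc hr.le
  rw [intNum_eq k X 2 hn.le ![K, K'] hMi _ hOc,
    opM_eq_opL X 2 ![A, A'] ![K, K'] hLi hMi hLM _ hmem] at hpos
  rw [intNum_eq k X 2 hn.le ![A, A'] hLi _ hOc, opM_two_eq_opL X ![A, A'] hLi]
  exact hpos

variable [IsIntegral X] [PicGrp.Law X]

/-- the cone of the classes pairing positively with a given class set -/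
noncomputable def pairCone (B : NumR.N1R k X →ₗ[ℝ] NumR.N1R k X →ₗ[ℝ] ℝ)
    (S : Set (NumR.N1R k X)) : ConvexCone ℝ (NumR.N1R k X) where
  carrier := {x | ∀ y ∈ S, 0 < B x y}
  smul_mem' := by
    intro c hc x hx y hy
    rw [map_smul, LinearMap.smul_apply, smul_eq_mul]
    exact mul_pos hc (hx y hy)
  add_mem' := by
    intro x hx y hy z hz
    rw [map_add, LinearMap.add_apply]
    exact add_pos (hx z hz) (hy z hz)

/-- two ample classes of a surface pair positively -/
theorem pair_pos (hdim : topologicalKrullDim X = 2)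
    (B : NumR.N1R k X →ₗ[ℝ] NumR.N1R k X →ₗ[ℝ] ℝ) (hB : NumR.IsIntForm₂ k X B)
    (x y : NumR.N1R k X) (hx : x ∈ (NumR.ampleCone k X : Set (NumR.N1R k X)))
    (hy : y ∈ (NumR.ampleCone k X : Set (NumR.N1R k X))) : 0 < B x y := by
  -- first: every ample class pairs positively with the class of an ample module
  have h1 : NumR.ampleCone k X ≤ pairCone k X B
      {y | ∃ (L : X.Modules) (hL : PicF.IsInvertible L), CohB1.IsAmple L ∧
        y = NumR.clR k X L hL} := by
    refine ConvexCone.hull_min ?_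
    rintro _ ⟨A, hAi, hA, rfl⟩ _ ⟨A', hAi', hA', rfl⟩
    rw [hB A A' hAi hAi']
    exact_mod_cast intNum_ample_pos k X hdim A A' hA hA'
  have h2 : NumR.ampleCone k X ≤ pairCone k X B.flip {x} := by
    refine ConvexCone.hull_min ?_
    rintro _ ⟨A', hAi', hA', rfl⟩ _ rfl
    rw [LinearMap.flip_apply]
    exact h1 hx _ ⟨A', hAi', hA', rfl⟩
  have h3 := h2 hy x rfl
  rwa [LinearMap.flip_apply] at h3

/-- the ample cone of a surface is open and lies in the positive cone -/
theorem main [Module.Finite ℝ (NumR.N1R k X)] (hdim : topologicalKrullDim X = 2)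
    (B : NumR.N1R k X →ₗ[ℝ] NumR.N1R k X →ₗ[ℝ] ℝ) (hB : NumR.IsIntForm₂ k X B)
    (H : X.Modules) (hH : CohB1.IsAmple H) :
    IsOpen (NumR.ampleCone k X : Set (NumR.N1R k X)) ∧
      (NumR.ampleCone k X : Set (NumR.N1R k X)) ⊆ NumR.posCone k X B H hH.1 := by
  refine ⟨BigCone.isOpen_ampleCone k X, fun x hx => ⟨pair_pos k X hdim B hB x x hx hx, ?_⟩⟩
  exact pair_pos k X hdim B hB x _ hx (ConvexCone.subset_hull ⟨H, hH.1, hH, rfl⟩)

end Pos

end Groth.Agent.Helper1.PosCone
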