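import Mathlib
import Groth.Agent.Lib.Helper1.NumInv1
import Groth.Agent.Lib.Helper1.PosCone1

/-!
# Effective classes of positive square meet ample classes positively (helper1)
-/

set_option autoImplicit false
universe u
open CategoryTheory CategoryTheory.Limits AlgebraicGeometry TopologicalSpace Opposite

namespace Groth.Agent.Helper1.SurfPos

open Groth.Agent.Helper1 Groth.Agent.Helper1.Euler Groth.Agent.Helper1.Dv
open Groth.Agent.Helper1.FinLen Groth.Agent.Helper1.TwForm Groth.Agent.Helper1.Curve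
open Groth.Agent.Helper1.Snap Groth.Agent.Helper1.SnapPos Groth.Agent.Helper1.FGAInt
open Groth.Agent.Helper1.FGAPos Groth.Agent.Helper1.Kleiman Groth.Agent.Helper1.Big
open Groth.Agent.Lib.Helper4

section Gen

variable {X : Scheme.{u}}

/-- a nonzero class in `H⁰` gives a nonzero section -/
theorem exists_section_of_nontrivial {M : X.Modules} (h : Nontrivial (Coh.HH X M 0)) :
    ∃ s : Coh.structureModule X ⟶ M, s ≠ 0 := by
  obtain ⟨x, hx⟩ := exists_ne (0 : Coh.HH X M 0)
  have ht : HH0.equiv X M x ≠ 0 := fun h =>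
    hx ((HH0.equiv X M).injective (h.trans (map_zero _).symm))
  refine ⟨(SheafOfModules.unitHomEquiv M).symm (GlobGen.secOfTop M (HH0.equiv X M x)),
    fun h0 => ht ?_⟩
  have h1 : (SheafOfModules.unitHomEquiv M ((SheafOfModules.unitHomEquiv M).symm
      (GlobGen.secOfTop M (HH0.equiv X M x)))).val (op ⊤) = HH0.equiv X M x := by
    rw [Equiv.apply_symm_apply, GlobGen.secOfTop_eval_top]
  rw [h0] at h1
  have e5 : (SheafOfModules.unitHomEquiv M 0).val (op ⊤) = 0 := by
    rw [SheafOfModules.unitHomEquiv_apply_coe]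
    rfl
  exact h1.symm.trans e5

end Gen

section Main

variable (k : Type u) [Field k] (X : Scheme.{u}) [X.Over (Spec (CommRingCat.of k))]
  [IsProper (X ↘ (Spec (CommRingCat.of k)))] [IsIntegral X]

/-- the two-fold intersection numbers of the structure sheaf of a surface through `K₀` -/
theorem intNum_two_eq [AlgebraicGeometry.IsNoetherian X]
    (hd2 : topologicalKrullDim X = ((2 : ℕ) : WithBot ℕ∞)) (A B A' B' : X.Modules)
    (hA : PicF.IsInvertible A) (hB : PicF.IsInvertible B)
    (iA : CohB1.tensorMod A A' ≅ Coh.structureModule X)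
    (iB : CohB1.tensorMod B B' ≅ Coh.structureModule X) :
    FGA.intNum k X 2 ![A', B'] (Coh.structureModule X) =
      eulerHom k X ((T B hB - 1) ((T A hA - 1)
        (KZero.clSub (PC X) (Coh.structureModule X)))) := by
  have hOc := isCoh_structureModule X
  have hA' : PicF.IsInvertible A' :=
    CurveCart.isInvertible_left_of_tensor_iso hA (TildeTens.tensorModComm A' A ≪≫ iA)
  have hB' : PicF.IsInvertible B' :=
    CurveCart.isInvertible_left_of_tensor_iso hB (TildeTens.tensorModComm B' B ≪≫ iB)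
  have ho : KZero.clSub (PC X) (Coh.structureModule X) ∈ FilLT X 3 :=
    clSub_mem_FilLT 2 _ hOc ((topologicalKrullDim_subspace_le X _).trans hd2.le)
  have hLi : ∀ i, PicF.IsInvertible ((![A, B] : Fin 2 → X.Modules) i) :=
    Fin.forall_fin_two.2 ⟨hA, hB⟩
  have hMi : ∀ i, PicF.IsInvertible ((![A', B'] : Fin 2 → X.Modules) i) :=
    Fin.forall_fin_two.2 ⟨hA', hB'⟩
  have hLM : ∀ i, Nonempty (CohB1.tensorMod ((![A, B] : Fin 2 → X.Modules) i)
      ((![A', B'] : Fin 2 → X.Modules) i) ≅ Coh.structureModule X) :=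
    Fin.forall_fin_two.2 ⟨⟨iA⟩, ⟨iB⟩⟩
  rw [intNum_eq k X 2 hd2.le ![A', B'] hMi _ hOc,
    opM_eq_opL X 2 ![A, B] ![A', B'] hLi hMi hLM _ ho]
  rfl

/-- **an effective class of positive square meets every ample class positively** -/
theorem main (hdim : topologicalKrullDim X = 2) (N N' : X.Modules) (hN : PicF.IsInvertible N)
    (hNN' : Nonempty (CohB1.tensorMod N N' ≅ Coh.structureModule X))
    (hpos : 0 < FGA.intNum k X 2 ![N', N'] (Coh.structureModule X))
    (hsec : ∃ n : ℕ, 0 < n ∧ Nontrivial (Coh.HH X (CohB1.tensorPow N n) 0))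
    (H H' : X.Modules) (hH : CohB1.IsAmple H)
    (hHH' : Nonempty (CohB1.tensorMod H H' ≅ Coh.structureModule X)) :
    0 < FGA.intNum k X 2 ![N', H'] (Coh.structureModule X) := by
  haveI : AlgebraicGeometry.IsNoetherian X := isNoetherian_of_proper k X
  obtain ⟨n, hn, hnt⟩ := hsec
  obtain ⟨iN⟩ := hNN'
  obtain ⟨iH⟩ := hHH'
  have hOc := isCoh_structureModule X
  have hO : PicF.IsInvertible (Coh.structureModule X) := GenLoc.isInvertible_O
  have hd2 : topologicalKrullDim X = ((2 : ℕ) : WithBot ℕ∞) := by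
    rw [hdim]; rfl
  set o := KZero.clSub (PC X) (Coh.structureModule X) with ho_def
  have ho : o ∈ FilLT X 3 :=
    clSub_mem_FilLT 2 _ hOc ((topologicalKrullDim_subspace_le X _).trans hd2.le)
  rw [intNum_two_eq k X hd2 N N N' N' hN hN iN iN] at hpos
  rw [intNum_two_eq k X hd2 N H N' H' hN hH.1 iN iH]
  -- the section
  set Nn := CohB1.tensorPow N n with hNn_def
  have hNn : PicF.IsInvertible Nn := isInvertible_tensorPow hN n
  have hNnc : Coh.IsCoh Nn := InvQc.isCoh_of_isInvertible _ hNn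
  obtain ⟨σ, hσ⟩ := exists_section_of_nontrivial hnt
  haveI hσm : Mono σ := mono_of_ne_zero hO hNn σ hσ
  have hη := genericPoint_notMem_support_cokernel hO hNn σ hσ
  set Q := cokernel σ with hQ_def
  have hQc : Coh.IsCoh Q := FtLocal.isCoh_cokernel hOc hNnc σ
  have hcl : IsClosed (CohB1.support Q) := FtGen.isClosed_support Q hQc.2
  have hne : CohB1.support Q ≠ Set.univ := fun he => hη (he ▸ Set.mem_univ _)
  have hdimQ := krullDim_add_one_le_of_ne_univ hcl hne
  rw [hd2] at hdimQ
  have hdQ : topologicalKrullDim ↥(CohB1.support Q) ≤ ((1 : ℕ) : WithBot ℕ∞) :=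
    le_of_add_one_le_succ _ 1 hdimQ
  let S : ShortComplex X.Modules := ShortComplex.mk σ (cokernel.π σ) (cokernel.condition σ)
  have hS : S.ShortExact :=
    { exact := ShortComplex.exact_of_g_is_cokernel _ (cokernelIsCokernel σ)
      mono_f := inferInstanceAs (Mono σ)
      epi_g := inferInstanceAs (Epi (cokernel.π σ)) }
  have hK0 : KZero.clSub (PC X) Nn = o + KZero.clSub (PC X) Q := clSub_ses S hS hOc hNnc hQc
  have hTn : ((T N hN) ^ n) o = KZero.clSub (PC X) Nn := by
    rw [← T_tensorPow hN n hNn, T_clSub _ hNn _ hOc]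
    exact (clSub_iso (Groth.Agent.Lib.Helper5.LTenFlf.tensorUnitIso Nn)
      (isCoh_tensor _ _ hNnc hOc)).symm
  have key : ((T N hN) ^ n - 1) o = KZero.clSub (PC X) Q := by
    change ((T N hN) ^ n) o - o = _
    rw [hTn, hK0]
    abel
  have g1 : (T H hH.1 - 1) (((T N hN) ^ n - 1) o) = n • (T H hH.1 - 1) ((T N hN - 1) o) :=
    opL_geom N hN 1 (fun _ => H) (fun _ => hH.1) n o ho
  have g2 : (T N hN - 1) (((T N hN) ^ n - 1) o) = n • (T N hN - 1) ((T N hN - 1) o) :=
    opL_geom N hN 1 (fun _ => N) (fun _ => hN) n o ho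
  rw [key] at g1 g2
  have hn' : (0 : ℤ) < (n : ℤ) := by exact_mod_cast hn
  by_cases h0 : topologicalKrullDim ↥(CohB1.support Q) ≤ ((0 : ℕ) : WithBot ℕ∞)
  · exfalso
    have hq : KZero.clSub (PC X) Q ∈ FilLT X 1 := clSub_mem_FilLT 0 Q hQc h0
    have hz : (T N hN - 1) (KZero.clSub (PC X) Q) = 0 :=
      (low_D N hN).eq_zero 1 le_rfl _ hq
    rw [hz] at g2
    have h3 := congrArg (eulerHom k X) g2
    rw [map_zero, map_nsmul, nsmul_eq_mul] at h3
    have : (n : ℤ) * eulerHom k X ((T N hN - 1) ((T N hN - 1) o)) > 0 := mul_pos hn' hpos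
    linarith
  · have hr : topologicalKrullDim ↥(CohB1.support Q) = ((1 : ℕ) : WithBot ℕ∞) := by
      refine le_antisymm hdQ ?_
      by_contra hlt
      exact h0 ((lt_succ_iff_le _ 0).1 (not_le.1 hlt))
    have hp := intNum_pos k X 2 hd2.le (fun _ : Fin 1 => H) (fun _ : Fin 1 => H')
      (fun _ => hH) (fun _ => ⟨iH⟩) Q hQc hr
    have hH' : PicF.IsInvertible H' :=
      CurveCart.isInvertible_left_of_tensor_iso hH.1 (TildeTens.tensorModComm H' H ≪≫ iH)
    rw [intNum_eq k X 2 hd2.le (fun _ : Fin 1 => H') (fun _ => hH') Q hQc,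
      opM_eq_opL X 1 (fun _ : Fin 1 => H) (fun _ : Fin 1 => H') (fun _ => hH.1) (fun _ => hH')
        (fun _ => ⟨iH⟩) _ (clSub_mem_FilLT 1 Q hQc hdQ)] at hp
    have hp' : 0 < eulerHom k X ((T H hH.1 - 1) (KZero.clSub (PC X) Q)) := hp
    rw [g1, map_nsmul, nsmul_eq_mul] at hp'
    by_contra hcon
    push Not at hcon
    have : (n : ℤ) * eulerHom k X ((T H hH.1 - 1) ((T N hN - 1) o)) ≤ 0 :=
      mul_nonpos_of_nonneg_of_nonpos hn'.le hcon
    linarith

end Main

end Groth.Agent.Helper1.SurfPos
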