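import Mathlib
import Groth.Agent.Lib.Helper1.SurfPos1
import Groth.Agent.Lib.Helper2.Canon.ProjDualizing
import Groth.Agent.Lib.Helper2.Dual.OmegaHom
import Groth.Agent.Lib.Helper2.Dual.OmegaPn
import Groth.Agent.S14432
import Groth.Agent.Lib.Helper4.HHFin1
import Groth.Agent.Lib.Helper1.VA8
import Groth.Agent.Lib.Helper1.ChowI

/-!
# Sections of large powers of a module of positive square on a projective surface (helper1)

`N² > 0` and `N·H > 0` for an ample `H` force `H²(X, N^m) = 0` for `m ≫ 0` (through the dualizing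
module of a projective embedding), hence `h⁰(N^m) ≥ χ(N^m) → ∞`.
-/

set_option autoImplicit false
set_option linter.style.haveILetI false
set_option linter.unusedSectionVars false
universe u
open CategoryTheory CategoryTheory.Limits AlgebraicGeometry TopologicalSpace Opposite

namespace Groth.Agent.Helper1.SurfDual

open Groth.Agent.Helper1 Groth.Agent.Helper1.Euler Groth.Agent.Helper1.Dv
open Groth.Agent.Helper1.FinLen Groth.Agent.Helper1.TwForm Groth.Agent.Helper1.Curve
open Groth.Agent.Helper1.Snap Groth.Agent.Helper1.SnapPos Groth.Agent.Helper1.FGAInt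
open Groth.Agent.Helper1.FGAPos Groth.Agent.Helper1.Kleiman Groth.Agent.Helper1.Big
open Groth.Agent.Helper1.SurfPos Groth.Agent.Helper1.LGen Groth.Agent.Helper1.QcCech
open Groth.Agent.Lib.Helper4 Groth.Agent.Helper2.HomExt Groth.Agent.Helper2.HomExt.ChangeRings

section Num

theorem two_mul_choose (m : ℕ) : 2 * (m + 1).choose 2 = m * (m + 1) := by
  induction m with
  | zero => rfl
  | succ m ih =>
    rw [Nat.choose_succ_succ' (m + 1) 1, Nat.choose_one_right, mul_add, ih]
    ring

theorem quad_pos (a b c : ℤ) (hc : 1 ≤ c) (m : ℕ) (hm : 2 * (a.natAbs + b.natAbs + 1) ≤ m) :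
    0 < a + m * b + ((m + 1).choose 2 : ℤ) * c := by
  have h2 : (2 : ℤ) * ((m + 1).choose 2 : ℤ) = (m : ℤ) * ((m : ℤ) + 1) := by
    exact_mod_cast two_mul_choose m
  obtain ⟨A, hA⟩ : ∃ A : ℤ, A = (a.natAbs : ℤ) := ⟨_, rfl⟩
  obtain ⟨B, hB⟩ : ∃ B : ℤ, B = (b.natAbs : ℤ) := ⟨_, rfl⟩
  obtain ⟨q, hq⟩ : ∃ q : ℤ, q = ((m + 1).choose 2 : ℤ) := ⟨_, rfl⟩
  obtain ⟨M, hM⟩ : ∃ M : ℤ, M = (m : ℤ) := ⟨_, rfl⟩
  have hm' : 2 * (A + B + 1) ≤ M := by
    rw [hA, hB, hM]
    exact_mod_cast hm
  have hA1 : -A ≤ a := by rw [hA]; omega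
  have hB1 : -B ≤ b := by rw [hB]; omega
  have hA0 : 0 ≤ A := by rw [hA]; exact Nat.cast_nonneg _
  have hB0 : 0 ≤ B := by rw [hB]; exact Nat.cast_nonneg _
  have hq0 : 0 ≤ q := by rw [hq]; exact Nat.cast_nonneg _
  have hM0 : 0 ≤ M := by rw [hM]; exact Nat.cast_nonneg _
  rw [← hq, ← hM] at h2 ⊢
  have f1 : 0 ≤ M * (B + b) := mul_nonneg hM0 (by linarith)
  have f2 : 0 ≤ q * (c - 1) := mul_nonneg hq0 (by linarith)
  have f4 : 0 ≤ M * (M - 2 * (A + B + 1)) := mul_nonneg hM0 (by linarith)
  have f7 : 0 ≤ A * (M - 1) := mul_nonneg hA0 (by linarith)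
  nlinarith [f1, f2, f4, f7, h2]

theorem alt_sum_le (f : ℕ → ℕ) (h : f 2 = 0) :
    (Finset.range (2 + 1)).sum (fun i => (-1 : ℤ) ^ i * (f i : ℤ)) ≤ (f 0 : ℤ) := by
  rw [Finset.sum_range_succ, Finset.sum_range_succ, Finset.sum_range_one, h]
  have h1 : (0 : ℤ) ≤ (f 1 : ℤ) := Nat.cast_nonneg _
  norm_num

end Num

section Gen

variable {X : Scheme.{u}}

/-- a map from an invertible module vanishing at the generic point vanishes near it -/
theorem exists_restrict_eq_zero [IsIntegral X] {N G : X.Modules} (hN : PicF.IsInvertible N)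
    (φ : N ⟶ G) (h : stalkL φ (genericPoint X) = 0) :
    ∃ U : X.Opens, genericPoint X ∈ U ∧ (Scheme.Modules.restrictFunctor U.ι).map φ = 0 := by
  obtain ⟨W, b, hηW, hb⟩ := exists_isGen hN (genericPoint X)
  have h1 : G.presheaf.germ W (genericPoint X) hηW (φ.app W b) =
      G.presheaf.germ W (genericPoint X) hηW 0 := by
    rw [← stalkL_germ, h, map_zero]
    rfl
  obtain ⟨V', hV', iU, iV, e⟩ :=
    TopCat.Presheaf.germ_eq G.presheaf (genericPoint X) hηW hηW _ _ h1
  have e' : res G (leOfHom iU) (φ.app W b) = 0 := by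
    have h2 : G.presheaf.map iV.op (0 : Γ(G, W)) = 0 := map_zero _
    rw [h2] at e
    exact e
  obtain ⟨V₁, hV₁⟩ : ∃ V₁ : X.Opens, V₁ = V' := ⟨V', rfl⟩
  subst hV₁
  refine ⟨V₁, hV', ?_⟩
  apply Scheme.Modules.hom_ext
  intro V
  ext t
  change φ.app (V₁.ι ''ᵁ V) t = 0
  have hle : V₁.ι ''ᵁ V ≤ V₁ := by
    rintro _ ⟨z, _, rfl⟩
    exact z.2
  have hb' := hb.res (hle.trans (leOfHom iU))
  obtain ⟨r, hr⟩ := hb'.exists_coeff t
  rw [← hr, Scheme.Modules.Hom.app_smul, QcExt.app_res φ (hle.trans (leOfHom iU)) b,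
    ← res_res G (leOfHom iU) hle, e', map_zero, smul_zero]

/-- a map from an invertible module, nonzero at the generic point, to a module of generic rank
one is bijective at the generic point -/
theorem stalkL_bijective_of_ne_zero' [IsIntegral X] {N G : X.Modules} (hN : PicF.IsInvertible N)
    (hG1 : Module.finrank (X.presheaf.stalk (genericPoint X))
      (G.presheaf.stalk (genericPoint X)) = 1)
    (φ : N ⟶ G) (hne : stalkL φ (genericPoint X) ≠ 0) :
    Function.Bijective (stalkL φ (genericPoint X)) := by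
  letI : Field (X.presheaf.stalk (genericPoint X)) := inferInstanceAs (Field X.functionField)
  have hN1 := finrank_stalk_of_rank (isFinLocFreeOfRank_one hN) (genericPoint X)
  have hNf := (Groth.Agent.Lib.Helper5.StalkFree.free_finite_stalk_of_isFinLocFree N
    (isFinLocFree_of_rank (isFinLocFreeOfRank_one hN)) (genericPoint X)).2
  haveI : Module.Finite (X.presheaf.stalk (genericPoint X)) (N.presheaf.stalk (genericPoint X)) :=
    hNf
  haveI : Module.Finite (X.presheaf.stalk (genericPoint X)) (G.presheaf.stalk (genericPoint X)) :=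
    Module.finite_of_finrank_pos (by rw [hG1]; exact Nat.one_pos)
  set f := stalkL φ (genericPoint X) with hf
  have hrk := f.finrank_range_add_finrank_ker
  have hrange : 0 < Module.finrank (X.presheaf.stalk (genericPoint X)) (LinearMap.range f) := by
    rw [Module.finrank_pos_iff]
    by_contra hsub
    rw [not_nontrivial_iff_subsingleton] at hsub
    apply hne
    ext v
    have : (⟨f v, v, rfl⟩ : LinearMap.range f) = 0 := Subsingleton.elim _ _
    exact congrArg Subtype.val this
  have hle : Module.finrank (X.presheaf.stalk (genericPoint X)) (LinearMap.range f) ≤ 1 := by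
    have := Submodule.finrank_le (LinearMap.range f)
    rw [hG1] at this
    exact this
  have hN1' : Module.finrank (X.presheaf.stalk (genericPoint X))
      (N.presheaf.stalk (genericPoint X)) = 1 := hN1
  rw [hN1'] at hrk
  have hker : Module.finrank (X.presheaf.stalk (genericPoint X)) (LinearMap.ker f) = 0 := by omega
  have hrange1 : Module.finrank (X.presheaf.stalk (genericPoint X)) (LinearMap.range f) = 1 := by
    omega
  constructor
  · rw [← LinearMap.ker_eq_bot]
    exact Submodule.finrank_eq_zero.1 hker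
  · rw [← LinearMap.range_eq_top]
    apply Submodule.eq_top_of_finrank_eq
    rw [hrange1]
    exact hG1.symm

/-- a map from an invertible module which is injective at the generic point is a monomorphism -/
theorem mono_of_stalkL_injective [IsIntegral X] {N G : X.Modules} (hN : PicF.IsInvertible N)
    (φ : N ⟶ G) (hinj : Function.Injective (stalkL φ (genericPoint X))) : Mono φ := by
  have hker : genericPoint X ∉ CohB1.support (kernel φ) :=
    notMem_support_kernel' φ (genericPoint X) hinj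
  have hsub : Subsingleton ((kernel φ).presheaf.stalk (genericPoint X)) := not_not.1 hker
  have hz : IsZero (kernel φ) := by
    apply CohACC.isZero_of_sections
    intro V t
    by_cases hV : genericPoint X ∈ V
    · apply FtLocal.app_injective_of_mono (kernel.ι φ) V
      rw [map_zero]
      apply germ_genericPoint_injective hN V hV
      rw [← stalkL_germ, Subsingleton.elim ((kernel φ).presheaf.germ V (genericPoint X) hV t) 0,
        map_zero]
    · apply TwistSec.eq_of_locally
      intro x hx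
      exact absurd (genericPoint_mem_of_nonempty V x hx) hV
  exact Preadditive.mono_of_kernel_zero (hz.eq_of_src _ _)

end Gen

section Main

variable (k : Type u) [Field k] (X : Scheme.{u}) [X.Over (Spec (CommRingCat.of k))]
  [IsProper (X ↘ (Spec (CommRingCat.of k)))] [IsIntegral X]

/-- the `H`-degree of a coherent module containing `N^m` with cokernel of smaller support -/
theorem deg_bound (hdim : topologicalKrullDim X = 2) (N N' : X.Modules)
    (hN : PicF.IsInvertible N) (iN : CohB1.tensorMod N N' ≅ Coh.structureModule X)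
    (H H' : X.Modules) (hH : CohB1.IsAmple H)
    (iH : CohB1.tensorMod H H' ≅ Coh.structureModule X)
    (W : X.Modules) (hW : Coh.IsCoh W) (m : ℕ) (φ : CohB1.tensorPow N m ⟶ W) (hφ : Mono φ)
    (hη : genericPoint X ∉ CohB1.support (cokernel φ)) :
    FGA.intNum k X 2 (fun _ : Fin 1 => H') (Coh.structureModule X) +
      m * FGA.intNum k X 2 ![N', H'] (Coh.structureModule X) ≤
        FGA.intNum k X 2 (fun _ : Fin 1 => H') W := by
  haveI : AlgebraicGeometry.IsNoetherian X := isNoetherian_of_proper k X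
  haveI := hφ
  have hOc := isCoh_structureModule X
  have hd2 : topologicalKrullDim X = ((2 : ℕ) : WithBot ℕ∞) := by
    rw [hdim]; rfl
  have hH' : PicF.IsInvertible H' :=
    CurveCart.isInvertible_left_of_tensor_iso hH.1 (TildeTens.tensorModComm H' H ≪≫ iH)
  set o := KZero.clSub (PC X) (Coh.structureModule X) with ho_def
  have ho : o ∈ FilLT X 3 :=
    clSub_mem_FilLT 2 _ hOc ((topologicalKrullDim_subspace_le X _).trans hd2.le)
  have hNm : PicF.IsInvertible (CohB1.tensorPow N m) := isInvertible_tensorPow hN m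
  have hNmc : Coh.IsCoh (CohB1.tensorPow N m) := InvQc.isCoh_of_isInvertible _ hNm
  obtain ⟨Q, hQ⟩ : ∃ Q : X.Modules, Q = cokernel φ := ⟨_, rfl⟩
  rw [← hQ] at hη
  have hQc : Coh.IsCoh Q := by
    rw [hQ]
    exact FtLocal.isCoh_cokernel hNmc hW φ
  have hcl : IsClosed (CohB1.support Q) := FtGen.isClosed_support Q hQc.2
  have hne : CohB1.support Q ≠ Set.univ := fun he => hη (he ▸ Set.mem_univ _)
  have hdimQ := krullDim_add_one_le_of_ne_univ hcl hne
  rw [hd2] at hdimQ
  have hdQ : topologicalKrullDim ↥(CohB1.support Q) ≤ ((1 : ℕ) : WithBot ℕ∞) :=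
    le_of_add_one_le_succ _ 1 hdimQ
  let S : ShortComplex X.Modules := ShortComplex.mk φ (cokernel.π φ) (cokernel.condition φ)
  have hS : S.ShortExact :=
    { exact := ShortComplex.exact_of_g_is_cokernel _ (cokernelIsCokernel φ)
      mono_f := inferInstanceAs (Mono φ)
      epi_g := inferInstanceAs (Epi (cokernel.π φ)) }
  have hK0 : KZero.clSub (PC X) W =
      KZero.clSub (PC X) (CohB1.tensorPow N m) + KZero.clSub (PC X) Q := by
    rw [hQ]
    exact clSub_ses S hS hNmc hW (FtLocal.isCoh_cokernel hNmc hW φ)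
  have hTn : ((T N hN) ^ m) o = KZero.clSub (PC X) (CohB1.tensorPow N m) := by
    rw [← T_tensorPow hN m hNm, T_clSub _ hNm _ hOc]
    exact (clSub_iso (Groth.Agent.Lib.Helper5.LTenFlf.tensorUnitIso (CohB1.tensorPow N m))
      (isCoh_tensor _ _ hNmc hOc)).symm
  obtain ⟨A, hA⟩ : ∃ A : AddMonoid.End (KZero.K0sub (PC X)),
      A = opM X (fun _ : Fin 1 => H') (fun _ => hH') := ⟨_, rfl⟩
  have eW : FGA.intNum k X 2 (fun _ : Fin 1 => H') W =
      eulerHom k X (A (KZero.clSub (PC X) W)) := by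
    rw [hA]
    exact intNum_eq k X 2 hd2.le (fun _ : Fin 1 => H') (fun _ => hH') W hW
  have eO : FGA.intNum k X 2 (fun _ : Fin 1 => H') (Coh.structureModule X) =
      eulerHom k X (A o) := by
    rw [hA]
    exact intNum_eq k X 2 hd2.le (fun _ : Fin 1 => H') (fun _ => hH') _ hOc
  have eQ : FGA.intNum k X 2 (fun _ : Fin 1 => H') Q =
      eulerHom k X (A (KZero.clSub (PC X) Q)) := by
    rw [hA]
    exact intNum_eq k X 2 hd2.le (fun _ : Fin 1 => H') (fun _ => hH') Q hQc
  have hNH : FGA.intNum k X 2 ![N', H'] (Coh.structureModule X) =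
      eulerHom k X ((T H hH.1 - 1) ((T N hN - 1) o)) :=
    intNum_two_eq k X hd2 N H N' H' hN hH.1 iN iH
  have hmem : ((T N hN) ^ m - 1) o ∈ FilLT X 2 := by
    have h := pow_sub_one_mem (CohB1.tensorPow N m) hNm 3 o ho 1
    rw [pow_one, T_tensorPow hN m hNm] at h
    exact h
  have hsplit : ((T N hN) ^ m) o = o + ((T N hN) ^ m - 1) o := by
    change _ = o + (((T N hN) ^ m) o - o)
    abel
  have hsum : A (KZero.clSub (PC X) W) =
      A o + A (((T N hN) ^ m - 1) o) + A (KZero.clSub (PC X) Q) := by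
    rw [hK0, ← hTn, map_add, hsplit, map_add]
  have hmid : A (((T N hN) ^ m - 1) o) = m • ((T H hH.1 - 1) ((T N hN - 1) o)) := by
    rw [hA, opM_eq_opL X 1 (fun _ : Fin 1 => H) (fun _ : Fin 1 => H') (fun _ => hH.1)
      (fun _ => hH') (fun _ => ⟨iH⟩) _ hmem]
    exact opL_geom N hN 1 (fun _ => H) (fun _ => hH.1) m o ho
  have hQ0 : 0 ≤ FGA.intNum k X 2 (fun _ : Fin 1 => H') Q := by
    by_cases h0 : topologicalKrullDim ↥(CohB1.support Q) ≤ ((0 : ℕ) : WithBot ℕ∞)
    · have hlt : topologicalKrullDim ↥(CohB1.support Q) < ((1 : ℕ) : WithBot ℕ∞) :=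
        lt_of_le_of_lt h0 (by exact_mod_cast Nat.zero_lt_one)
      rw [intNum_eq_zero_of_dim_lt k X 2 hd2.le (fun _ : Fin 1 => H') (fun _ => hH') Q hQc hlt]
    · have hr : topologicalKrullDim ↥(CohB1.support Q) = ((1 : ℕ) : WithBot ℕ∞) := by
        refine le_antisymm hdQ ?_
        by_contra hlt
        exact h0 ((lt_succ_iff_le _ 0).1 (not_le.1 hlt))
      exact (intNum_pos k X 2 hd2.le (fun _ : Fin 1 => H) (fun _ : Fin 1 => H')
        (fun _ => hH) (fun _ => ⟨iH⟩) Q hQc hr).le
  rw [eQ] at hQ0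
  rw [eW, eO, hNH, hsum, map_add, map_add, hmid, map_nsmul, nsmul_eq_mul]
  linarith

/-- **top cohomology of the large powers vanishes** (embedded version) -/
theorem top_vanishing_of_pos (hdim : topologicalKrullDim X = 2) (n : ℕ)
    (ι : X ⟶ CohB1.ProjSpace n k) [IsClosedImmersion ι]
    (hι : ι ≫ CohB1.ProjSpace.toSpec n k = X ↘ Spec (CommRingCat.of k))
    (N N' : X.Modules) (hN : PicF.IsInvertible N)
    (iN : CohB1.tensorMod N N' ≅ Coh.structureModule X)
    (H H' : X.Modules) (hH : CohB1.IsAmple H)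
    (iH : CohB1.tensorMod H H' ≅ Coh.structureModule X)
    (hNH : 0 < FGA.intNum k X 2 ![N', H'] (Coh.structureModule X)) :
    ∃ m₀ : ℕ, ∀ m : ℕ, m₀ ≤ m → Subsingleton (Coh.HH X (CohB1.tensorPow N m) 2) := by
  haveI : IsLocallyNoetherian (CohB1.ProjSpace n k) := SerreFin.instLN n k
  haveI : CompactSpace ↥(CohB1.ProjSpace n k) :=
    Groth.Agent.Helper1.VA5.compactSpace_projSpace n k
  haveI : AlgebraicGeometry.IsNoetherian X := isNoetherian_of_proper k X
  have hd2 : topologicalKrullDim X = ((2 : ℕ) : WithBot ℕ∞) := by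
    rw [hdim]; rfl
  have hNmc : ∀ m, Coh.IsCoh (CohB1.tensorPow N m) := fun m =>
    InvQc.isCoh_of_isInvertible _ (isInvertible_tensorPow hN m)
  by_cases hrn : 2 ≤ n
  · haveI : ModSite.HasSheafHom (O := (CohB1.ProjSpace n k).sheaf) ((Scheme.Modules.pushforward ι).obj (Coh.structureModule X)) :=
      Groth.Agent.Helper3.SHomEx.hasSheafHom _
    haveI : HasInjectiveResolutions (ModSite.Mod (CohB1.ProjSpace n k).sheaf) :=
      Groth.Agent.Helper3.LerayCol.hasInjectiveResolutions (CohB1.ProjSpace n k)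
    have hωP : Coh.IsCoh (Twist.twistProjSpace n k (-((n : ℤ) + 1))) :=
      SerreFin.isCoh_twist n k _
    obtain ⟨ω₀, hω₀⟩ : ∃ ω₀ : X.Modules, ω₀ = ((ish ι).rightDerived (n - 2)).obj
      (Twist.twistProjSpace n k (-((n : ℤ) + 1))) := ⟨_, rfl⟩
    have hω₀e : Nonempty ((Scheme.Modules.pushforward ι).obj ω₀ ≅
        (ModSite.extSh (O := (CohB1.ProjSpace n k).sheaf) ((Scheme.Modules.pushforward ι).obj (Coh.structureModule X)) (n - 2)).obj
          (Twist.twistProjSpace n k (-((n : ℤ) + 1)))) := by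
      rw [hω₀]
      exact ⟨pushRightDerivedIshIso ι _ (n - 2)⟩
    have hω₀coh : Coh.IsCoh ω₀ := by
      rw [hω₀]
      exact isCoh_rightDerived_ish ι _ hωP (n - 2)
    obtain ⟨t, ht⟩ := Groth.Agent.S14432.result k n 2 hrn X ι hι hd2 ω₀ hω₀e
    have heq : ∀ Z : Set ↥X, Z ∈ irreducibleComponents ↥X →
        topologicalKrullDim ↥Z = ((2 : ℕ) : WithBot ℕ∞) := by
      intro Z hZ
      rw [irreducibleComponents_eq_singleton, Set.mem_singleton_iff] at hZ
      rw [hZ, ← hd2]
      exact IsHomeomorph.topologicalKrullDim_eq _ (Homeomorph.Set.univ X).isHomeomorph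
    obtain ⟨-, hrk⟩ := Groth.Agent.Helper2.OmegaPn.main k n ι 2 hrn heq ω₀ hω₀e
    have hηc : closure ({genericPoint X} : Set X) ∈ irreducibleComponents X := by
      rw [irreducibleComponents_eq_singleton, Set.mem_singleton_iff]
      exact (genericPoint_spec X).def
    have hrk1 := hrk (genericPoint X) hηc
    obtain ⟨lamW, hlamW⟩ : ∃ z : ℤ, z = FGA.intNum k X 2 (fun _ : Fin 1 => H') ω₀ := ⟨_, rfl⟩
    obtain ⟨lamO, hlamO⟩ : ∃ z : ℤ,
      z = FGA.intNum k X 2 (fun _ : Fin 1 => H') (Coh.structureModule X) := ⟨_, rfl⟩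
    refine ⟨(lamW - lamO).toNat + 1, fun m hm => ?_⟩
    by_contra hns
    rw [not_subsingleton_iff_nontrivial] at hns
    obtain ⟨x, hx⟩ := exists_ne (0 : Coh.HH X (CohB1.tensorPow N m) 2)
    haveI hfree : Module.Free k (Coh.HH X (CohB1.tensorPow N m) 2) :=
      Module.Free.of_divisionRing k _
    haveI hprojm : Module.Projective k (Coh.HH X (CohB1.tensorPow N m) 2) :=
      Module.Projective.of_free
    obtain ⟨ψ, hψ⟩ : ∃ ψ : Coh.HH X (CohB1.tensorPow N m) 2 →ₗ[k] k, ψ x ≠ 0 :=
      Module.Projective.exists_dual_ne_zero k hx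
    obtain ⟨φ, hφ, -⟩ := ht _ (hNmc m) ψ
    have hφ0 : φ ≠ 0 := by
      intro h0
      apply hψ
      rw [hφ x, h0]
      have h1 := HHFin1.HHlin_zero k (F := CohB1.tensorPow N m) (G := ω₀) 2 x
      change t (Canon.HHlin k (0 : CohB1.tensorPow N m ⟶ ω₀) 2 x) = 0
      rw [h1, map_zero]
    have hNmi := isInvertible_tensorPow hN m
    have hst : stalkL φ (genericPoint X) ≠ 0 := by
      intro h0
      apply hφ0
      obtain ⟨U, hU, hUφ⟩ := exists_restrict_eq_zero hNmi φ h0
      apply Groth.Agent.Helper2.OmegaHom.main k n ι 2 hrn heq ω₀ hω₀e _ (hNmc m) φ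
      intro y hy
      rw [irreducibleComponents_eq_singleton, Set.mem_singleton_iff] at hy
      have hyg : y = genericPoint X := by
        have h1 : IsGenericPoint y (Set.univ : Set X) := hy
        exact h1.eq (genericPoint_spec X)
      rw [hyg]
      exact ⟨U, hU, hUφ⟩
    have hbij := stalkL_bijective_of_ne_zero' hNmi hrk1 φ hst
    have hmono : Mono φ := mono_of_stalkL_injective hNmi φ hbij.1
    have hη := notMem_support_cokernel' φ (genericPoint X) hbij.2
    have hb := deg_bound k X hdim N N' hN iN H H' hH iH ω₀ hω₀coh m φ hmono hη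
    rw [← hlamW, ← hlamO] at hb
    have h1 : (lamW - lamO) ≤ ((lamW - lamO).toNat : ℤ) := Int.self_le_toNat _
    have h2 : (((lamW - lamO).toNat + 1 : ℕ) : ℤ) ≤ (m : ℤ) := by exact_mod_cast hm
    have hm0 : (0 : ℤ) ≤ (m : ℤ) := Nat.cast_nonneg _
    have h3 : (m : ℤ) ≤ m * FGA.intNum k X 2 ![N', H'] (Coh.structureModule X) := by
      nlinarith
    push_cast at h2
    linarith
  · refine ⟨0, fun m _ => ?_⟩
    haveI : Coh.IsQCoh (CohB1.tensorPow N m) := (hNmc m).1
    haveI : (CohB1.tensorPow N m).IsQuasicoherent := (hNmc m).1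
    haveI : ((Scheme.Modules.pushforward ι).obj (CohB1.tensorPow N m)).IsQuasicoherent :=
      Groth.Agent.Helper1.PushQc.isQuasicoherent_pushforward (f := ι) (F := CohB1.tensorPow N m)
    haveI : IsAffineHom ι := inferInstance
    have hsub : Subsingleton (Coh.HH (CohB1.ProjSpace n k)
        ((Coh.push ι).obj (CohB1.tensorPow N m)) 2) :=
      Groth.Agent.S0022.result n k _ 2 (by omega)
    exact (LinBridge1.lerayEquiv ι (CohB1.tensorPow N m) k hι 2).symm.toEquiv.subsingleton

/-- **top cohomology of the large powers vanishes** -/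
theorem top_vanishing (hdim : topologicalKrullDim X = 2)
    (N N' : X.Modules) (hN : PicF.IsInvertible N)
    (iN : CohB1.tensorMod N N' ≅ Coh.structureModule X)
    (H H' : X.Modules) (hH : CohB1.IsAmple H)
    (iH : CohB1.tensorMod H H' ≅ Coh.structureModule X)
    (hNH : 0 < FGA.intNum k X 2 ![N', H'] (Coh.structureModule X)) :
    ∃ m₀ : ℕ, ∀ m : ℕ, m₀ ≤ m → Subsingleton (Coh.HH X (CohB1.tensorPow N m) 2) := by
  obtain ⟨n₀, h⟩ := VA8.exists_immersion_projSpace_powers (X ↘ Spec (CommRingCat.of k)) hH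
    (GenLoc.isInvertible_O (X := X))
  obtain ⟨n, r, hr, hrq, -⟩ := h n₀ le_rfl
  haveI : IsImmersion r := hr
  haveI : IsProper (r ≫ CohB1.ProjSpace.toSpec n k) := by
    rw [hrq]; infer_instance
  haveI : IsClosedImmersion r :=
    Chow.isClosedImmersion_of_isProper_comp r (CohB1.ProjSpace.toSpec n k)
  exact top_vanishing_of_pos k X hdim n r hrq N N' hN iN H H' hH iH hNH

/-- the Euler characteristic of the powers -/
theorem euler_pow (hdim : topologicalKrullDim X = 2)
    (N N' : X.Modules) (hN : PicF.IsInvertible N)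
    (iN : CohB1.tensorMod N N' ≅ Coh.structureModule X) (m : ℕ) :
    FGA.eulerCharLE k X (CohB1.tensorPow N m) 2 =
      FGA.intNum k X 2 (fun _ : Fin 0 => N') (Coh.structureModule X) +
      m * FGA.intNum k X 2 (fun _ : Fin 1 => N') (Coh.structureModule X) +
      ((m + 1).choose 2 : ℤ) * FGA.intNum k X 2 ![N', N'] (Coh.structureModule X) := by
  haveI : AlgebraicGeometry.IsNoetherian X := isNoetherian_of_proper k X
  have hOc := isCoh_structureModule X
  have hd2 : topologicalKrullDim X = ((2 : ℕ) : WithBot ℕ∞) := by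
    rw [hdim]; rfl
  have hsuppO : topologicalKrullDim ↥(CohB1.support (Coh.structureModule X)) ≤
      ((2 : ℕ) : WithBot ℕ∞) := (topologicalKrullDim_subspace_le X _).trans hd2.le
  have eU : CohB1.tensorMod (CohB1.tensorPow N m) (Coh.structureModule X) ≅
      CohB1.tensorPow N m := Groth.Agent.Lib.Helper5.LTenFlf.tensorUnitIso _
  have e1 : FGA.eulerCharLE k X (CohB1.tensorPow N m) 2 =
      FGA.eulerCharLE k X (CohB1.tensorMod (CohB1.tensorPow N m) (Coh.structureModule X)) 2 := by
    unfold FGA.eulerCharLE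
    refine Finset.sum_congr rfl fun i _ => ?_
    rw [(HHFin1.HHequiv k eU i).finrank_eq]
  have hvec : (fun _ : Fin 2 => N') = ![N', N'] := by
    ext i
    fin_cases i <;> rfl
  rw [e1, euler_tensorPow_eq_sum_intNum k X 2 hd2.le N N' hN iN _ hOc 2 hsuppO m,
    Finset.sum_range_succ, Finset.sum_range_succ, Finset.sum_range_one, hvec]
  have e0 : (m + 0 - 1).choose 0 = 1 := Nat.choose_zero_right _
  have e1' : (m + 1 - 1).choose 1 = m := by
    rw [Nat.add_sub_cancel, Nat.choose_one_right]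
  have e2 : m + 2 - 1 = m + 1 := by omega
  rw [e0, e1', e2]
  push_cast
  ring

/-- when the top cohomology vanishes, `h⁰` dominates the Euler characteristic -/
theorem euler_le_h0 (F : X.Modules) (h2 : Subsingleton (Coh.HH X F 2)) :
    FGA.eulerCharLE k X F 2 ≤ (Module.finrank k (Coh.HH X F 0) : ℤ) := by
  unfold FGA.eulerCharLE
  exact alt_sum_le (fun i => Module.finrank k (Coh.HH X F i))
    (Module.finrank_zero_of_subsingleton)

/-- **sections of all the large powers** -/
theorem main (hdim : topologicalKrullDim X = 2)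
    (N N' : X.Modules) (hN : PicF.IsInvertible N)
    (iN : CohB1.tensorMod N N' ≅ Coh.structureModule X)
    (hpos : 0 < FGA.intNum k X 2 ![N', N'] (Coh.structureModule X))
    (H H' : X.Modules) (hH : CohB1.IsAmple H)
    (iH : CohB1.tensorMod H H' ≅ Coh.structureModule X)
    (hNH : 0 < FGA.intNum k X 2 ![N', H'] (Coh.structureModule X)) :
    ∃ m₁ : ℕ, ∀ m : ℕ, m₁ ≤ m →
      Subsingleton (Coh.HH X (CohB1.tensorPow N m) 2) ∧
      0 < FGA.eulerCharLE k X (CohB1.tensorPow N m) 2 ∧
      Nontrivial (Coh.HH X (CohB1.tensorPow N m) 0) := by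
  obtain ⟨m₀, hm₀⟩ := top_vanishing k X hdim N N' hN iN H H' hH iH hNH
  obtain ⟨a, ha⟩ : ∃ z : ℤ,
    z = FGA.intNum k X 2 (fun _ : Fin 0 => N') (Coh.structureModule X) := ⟨_, rfl⟩
  obtain ⟨b, hb⟩ : ∃ z : ℤ,
    z = FGA.intNum k X 2 (fun _ : Fin 1 => N') (Coh.structureModule X) := ⟨_, rfl⟩
  refine ⟨max m₀ (2 * (a.natAbs + b.natAbs + 1)), fun m hm => ?_⟩
  have h2 := hm₀ m (le_trans (le_max_left _ _) hm)
  have hχ : 0 < FGA.eulerCharLE k X (CohB1.tensorPow N m) 2 := by
    rw [euler_pow k X hdim N N' hN iN m, ← ha, ← hb]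
    exact quad_pos a b _ hpos m (le_trans (le_max_right _ _) hm)
  refine ⟨h2, hχ, ?_⟩
  have h3 := euler_le_h0 k X _ h2
  have h4 : 0 < Module.finrank k (Coh.HH X (CohB1.tensorPow N m) 0) := by
    have : (0 : ℤ) < (Module.finrank k (Coh.HH X (CohB1.tensorPow N m) 0) : ℤ) :=
      lt_of_lt_of_le hχ h3
    exact_mod_cast this
  exact Module.nontrivial_of_finrank_pos h4

end Main

end Groth.Agent.Helper1.SurfDual
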