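import Mathlib
import Groth.Agent.Lib.Helper1.SurfDual1
import Groth.Agent.Lib.Helper1.AmpleLib4
import Groth.Agent.Lib.Helper1.PullAmple
import Groth.Agent.Lib.Helper1.VA5
import Groth.Agent.Lib.Helper1.Conn1
import Groth.Agent.Lib.Helper1.VB5

/-!
# The Hodge index theorem on a projective surface (helper1)

Bilinearity of the two-fold intersection number in `K₀`-terms, the Hodge index theorem with
respect to an ample class, and its lattice consequences.
-/

set_option autoImplicit false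
set_option linter.style.haveILetI false
set_option linter.unusedSectionVars false
universe u
open CategoryTheory CategoryTheory.Limits AlgebraicGeometry TopologicalSpace Opposite

namespace Groth.Agent.Helper1.SurfHodge

open Groth.Agent.Helper1 Groth.Agent.Helper1.Euler Groth.Agent.Helper1.Dv
open Groth.Agent.Helper1.FinLen Groth.Agent.Helper1.TwForm Groth.Agent.Helper1.Curve
open Groth.Agent.Helper1.Snap Groth.Agent.Helper1.SnapPos Groth.Agent.Helper1.FGAInt
open Groth.Agent.Helper1.FGAPos Groth.Agent.Helper1.Kleiman Groth.Agent.Helper1.Big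
open Groth.Agent.Helper1.SurfPos Groth.Agent.Helper1.SurfDual
open Groth.Agent.Lib.Helper4

section Num

theorem quad_growth (a b c : ℤ) (hc : 1 ≤ c) (m : ℕ) (hm : 4 * (a.natAbs + b.natAbs + 1) ≤ m) :
    (m : ℤ) ^ 2 < 4 * (a + m * b + ((m + 1).choose 2 : ℤ) * c) := by
  have h2 : (2 : ℤ) * ((m + 1).choose 2 : ℤ) = (m : ℤ) * ((m : ℤ) + 1) := by
    exact_mod_cast two_mul_choose m
  obtain ⟨A, hA⟩ : ∃ A : ℤ, A = (a.natAbs : ℤ) := ⟨_, rfl⟩
  obtain ⟨B, hB⟩ : ∃ B : ℤ, B = (b.natAbs : ℤ) := ⟨_, rfl⟩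
  obtain ⟨q, hq⟩ : ∃ q : ℤ, q = ((m + 1).choose 2 : ℤ) := ⟨_, rfl⟩
  obtain ⟨M, hM⟩ : ∃ M : ℤ, M = (m : ℤ) := ⟨_, rfl⟩
  have hm' : 4 * (A + B + 1) ≤ M := by
    rw [hA, hB, hM]
    exact_mod_cast hm
  have hA1 : -A ≤ a := by rw [hA]; omega
  have hB1 : -B ≤ b := by rw [hB]; omega
  have hA0 : 0 ≤ A := by rw [hA]; exact Nat.cast_nonneg _
  have hB0 : 0 ≤ B := by rw [hB]; exact Nat.cast_nonneg _
  have hq0 : 0 ≤ q := by rw [hq]; exact Nat.cast_nonneg _
  have hM0 : 0 ≤ M := by rw [hM]; exact Nat.cast_nonneg _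
  rw [← hq, ← hM] at h2 ⊢
  have f1 : 0 ≤ M * (B + b) := mul_nonneg hM0 (by linarith)
  have f2 : 0 ≤ q * (c - 1) := mul_nonneg hq0 (by linarith)
  have f4 : 0 ≤ M * (M - 4 * (A + B + 1)) := mul_nonneg hM0 (by linarith)
  have f7 : 0 ≤ A * (M - 1) := mul_nonneg hA0 (by linarith)
  nlinarith [f1, f2, f4, f7, h2]

theorem ring_id {R : Type*} [Ring R] (a b : R) :
    a * b - 1 = (a - 1) + (b - 1) + (a - 1) * (b - 1) := by
  rw [sub_mul, mul_sub, mul_one, one_mul]
  abel

end Num

section Pair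

variable (k : Type u) [Field k] (X : Scheme.{u}) [X.Over (Spec (CommRingCat.of k))]
  [IsProper (X ↘ (Spec (CommRingCat.of k)))] [IsIntegral X]

/-- the intersection number of two invertible modules through `K₀` -/
theorem intNum_eq_pair [AlgebraicGeometry.IsNoetherian X] (hdim : topologicalKrullDim X = 2)
    (A B : X.Modules) (hA : PicF.IsInvertible A) (hB : PicF.IsInvertible B) :
    FGA.intNum k X 2 ![A, B] (Coh.structureModule X) =
      eulerHom k X ((T B hB - 1) ((T A hA - 1)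
        (KZero.clSub (PC X) (Coh.structureModule X)))) := by
  have hOc := isCoh_structureModule X
  have hd2 : topologicalKrullDim X = ((2 : ℕ) : WithBot ℕ∞) := by
    rw [hdim]; rfl
  have hLi : ∀ i, PicF.IsInvertible ((![A, B] : Fin 2 → X.Modules) i) :=
    Fin.forall_fin_two.2 ⟨hA, hB⟩
  rw [intNum_eq k X 2 hd2.le ![A, B] hLi _ hOc, PosCone.opM_two_eq_opL X ![A, B] hLi]
  rfl

theorem mem_fil [AlgebraicGeometry.IsNoetherian X] (hdim : topologicalKrullDim X = 2)
    (Z : X.Modules) (hZ : PicF.IsInvertible Z) :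
    (T Z hZ - 1) (KZero.clSub (PC X) (Coh.structureModule X)) ∈ FilLT X 2 := by
  have hOc := isCoh_structureModule X
  have hd2 : topologicalKrullDim X = ((2 : ℕ) : WithBot ℕ∞) := by
    rw [hdim]; rfl
  have ho : KZero.clSub (PC X) (Coh.structureModule X) ∈ FilLT X 3 :=
    clSub_mem_FilLT 2 _ hOc ((topologicalKrullDim_subspace_le X _).trans hd2.le)
  have h := pow_sub_one_mem Z hZ 3 _ ho 1
  rw [pow_one] at h
  exact h

theorem two_zero [AlgebraicGeometry.IsNoetherian X] (A B : X.Modules)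
    (hA : PicF.IsInvertible A) (hB : PicF.IsInvertible B) (z : KZero.K0sub (PC X))
    (hz : z ∈ FilLT X 2) : (T A hA - 1) ((T B hB - 1) z) = 0 := by
  have h1 := pow_sub_one_mem B hB 2 z hz 1
  rw [pow_one] at h1
  have h2 := pow_sub_one_mem A hA 1 _ h1 1
  rw [pow_one, Nat.sub_self, FilLT_zero, AddSubgroup.mem_bot] at h2
  exact h2

theorem intNum_symm (hdim : topologicalKrullDim X = 2)
    (A B : X.Modules) (hA : PicF.IsInvertible A) (hB : PicF.IsInvertible B) :
    FGA.intNum k X 2 ![A, B] (Coh.structureModule X) =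
      FGA.intNum k X 2 ![B, A] (Coh.structureModule X) := by
  haveI : AlgebraicGeometry.IsNoetherian X := isNoetherian_of_proper k X
  rw [intNum_eq_pair k X hdim A B hA hB, intNum_eq_pair k X hdim B A hB hA]
  have hc : Commute (T A hA - 1) (T B hB - 1) :=
    ((T_comm A B hA hB).sub_left (Commute.one_left _)).sub_right (Commute.one_right _)
  exact congrArg (fun f : AddMonoid.End (KZero.K0sub (PC X)) =>
    eulerHom k X (f (KZero.clSub (PC X) (Coh.structureModule X)))) hc.eq.symm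

theorem intNum_tensor_right (hdim : topologicalKrullDim X = 2)
    (Z A B : X.Modules) (hZ : PicF.IsInvertible Z) (hA : PicF.IsInvertible A)
    (hB : PicF.IsInvertible B) :
    FGA.intNum k X 2 ![Z, CohB1.tensorMod A B] (Coh.structureModule X) =
      FGA.intNum k X 2 ![Z, A] (Coh.structureModule X) +
        FGA.intNum k X 2 ![Z, B] (Coh.structureModule X) := by
  haveI : AlgebraicGeometry.IsNoetherian X := isNoetherian_of_proper k X
  have hAB := isInvertible_tensorMod hA hB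
  rw [intNum_eq_pair k X hdim Z _ hZ hAB, intNum_eq_pair k X hdim Z A hZ hA,
    intNum_eq_pair k X hdim Z B hZ hB, T_tensor hA hB hAB, ← map_add]
  congr 1
  have hzmem := mem_fil X hdim Z hZ
  obtain ⟨z, hz⟩ : ∃ z, z = (T Z hZ - 1) (KZero.clSub (PC X) (Coh.structureModule X)) :=
    ⟨_, rfl⟩
  rw [← hz] at hzmem ⊢
  have hid : T A hA * T B hB - 1 =
      (T A hA - 1) + (T B hB - 1) + (T A hA - 1) * (T B hB - 1) := ring_id _ _
  rw [hid]
  change (T A hA - 1) z + (T B hB - 1) z + (T A hA - 1) ((T B hB - 1) z) = _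
  rw [two_zero X A B hA hB z hzmem, add_zero]

theorem intNum_inverse_right (hdim : topologicalKrullDim X = 2)
    (Z A A' : X.Modules) (hZ : PicF.IsInvertible Z) (hA : PicF.IsInvertible A)
    (hA' : PicF.IsInvertible A') (iA : CohB1.tensorMod A A' ≅ Coh.structureModule X) :
    FGA.intNum k X 2 ![Z, A'] (Coh.structureModule X) =
      - FGA.intNum k X 2 ![Z, A] (Coh.structureModule X) := by
  haveI : AlgebraicGeometry.IsNoetherian X := isNoetherian_of_proper k X
  rw [intNum_eq_pair k X hdim Z A' hZ hA', intNum_eq_pair k X hdim Z A hZ hA]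
  have hab : T A hA * T A' hA' = 1 := T_mul_of_inverse hA hA' iA
  have hzmem := mem_fil X hdim Z hZ
  obtain ⟨z, hz⟩ : ∃ z, z = (T Z hZ - 1) (KZero.clSub (PC X) (Coh.structureModule X)) :=
    ⟨_, rfl⟩
  rw [← hz] at hzmem ⊢
  have hid : T A hA * T A' hA' - 1 =
      (T A hA - 1) + (T A' hA' - 1) + (T A hA - 1) * (T A' hA' - 1) := ring_id _ _
  rw [hab, sub_self] at hid
  have h0 : (0 : KZero.K0sub (PC X)) =
      (T A hA - 1) z + (T A' hA' - 1) z + (T A hA - 1) ((T A' hA' - 1) z) :=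
    congrArg (fun f : AddMonoid.End (KZero.K0sub (PC X)) => f z) hid
  rw [two_zero X A A' hA hA' z hzmem, add_zero] at h0
  have h1 := congrArg (eulerHom k X) h0
  rw [map_zero, map_add] at h1
  linarith

theorem intNum_pow_right (hdim : topologicalKrullDim X = 2)
    (Z A : X.Modules) (hZ : PicF.IsInvertible Z) (hA : PicF.IsInvertible A) (n : ℕ) :
    FGA.intNum k X 2 ![Z, CohB1.tensorPow A n] (Coh.structureModule X) =
      n * FGA.intNum k X 2 ![Z, A] (Coh.structureModule X) := by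
  haveI : AlgebraicGeometry.IsNoetherian X := isNoetherian_of_proper k X
  have hAn := isInvertible_tensorPow hA n
  rw [intNum_eq_pair k X hdim Z _ hZ hAn, intNum_eq_pair k X hdim Z A hZ hA,
    T_tensorPow hA n hAn]
  have hzmem := mem_fil X hdim Z hZ
  obtain ⟨z, hz⟩ : ∃ z, z = (T Z hZ - 1) (KZero.clSub (PC X) (Coh.structureModule X)) :=
    ⟨_, rfl⟩
  rw [← hz] at hzmem ⊢
  have g : ((T A hA) ^ n - 1) z = n • ((T A hA - 1) z) :=
    opL_geom A hA 0 (fun i => i.elim0) (fun i => i.elim0) n z hzmem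
  rw [g, map_nsmul, nsmul_eq_mul]

theorem intNum_inv_inv (hdim : topologicalKrullDim X = 2)
    (A A' B B' : X.Modules) (hA : PicF.IsInvertible A) (hB : PicF.IsInvertible B)
    (iA : CohB1.tensorMod A A' ≅ Coh.structureModule X)
    (iB : CohB1.tensorMod B B' ≅ Coh.structureModule X) :
    FGA.intNum k X 2 ![A', B'] (Coh.structureModule X) =
      FGA.intNum k X 2 ![A, B] (Coh.structureModule X) := by
  haveI : AlgebraicGeometry.IsNoetherian X := isNoetherian_of_proper k X
  have hd2 : topologicalKrullDim X = ((2 : ℕ) : WithBot ℕ∞) := by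
    rw [hdim]; rfl
  rw [intNum_two_eq k X hd2 A B A' B' hA hB iA iB, intNum_eq_pair k X hdim A B hA hB]

/-- the integral power `A^z` formed with an inverse `A'` -/
noncomputable def zpowMod (A A' : X.Modules) (z : ℤ) : X.Modules :=
  CohB1.tensorMod (CohB1.tensorPow A z.toNat) (CohB1.tensorPow A' (-z).toNat)

theorem isInvertible_zpowMod {A A' : X.Modules} (hA : PicF.IsInvertible A)
    (hA' : PicF.IsInvertible A') (z : ℤ) : PicF.IsInvertible (zpowMod X A A' z) :=
  isInvertible_tensorMod (isInvertible_tensorPow hA _) (isInvertible_tensorPow hA' _)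

theorem intNum_zpow_right (hdim : topologicalKrullDim X = 2)
    (Z A A' : X.Modules) (hZ : PicF.IsInvertible Z) (hA : PicF.IsInvertible A)
    (hA' : PicF.IsInvertible A') (iA : CohB1.tensorMod A A' ≅ Coh.structureModule X) (z : ℤ) :
    FGA.intNum k X 2 ![Z, zpowMod X A A' z] (Coh.structureModule X) =
      z * FGA.intNum k X 2 ![Z, A] (Coh.structureModule X) := by
  unfold zpowMod
  rw [intNum_tensor_right k X hdim Z _ _ hZ (isInvertible_tensorPow hA _)
    (isInvertible_tensorPow hA' _), intNum_pow_right k X hdim Z A hZ hA,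
    intNum_pow_right k X hdim Z A' hZ hA', intNum_inverse_right k X hdim Z A A' hZ hA hA' iA]
  obtain ⟨b, hb⟩ : ∃ b : ℤ, b = FGA.intNum k X 2 ![Z, A] (Coh.structureModule X) := ⟨_, rfl⟩
  rw [← hb]
  have h := Int.toNat_sub_toNat_neg z
  have h' : (z.toNat : ℤ) * b + ((-z).toNat : ℤ) * (-b) =
      ((z.toNat : ℤ) - ((-z).toNat : ℤ)) * b := by ring
  rw [h', h]

/-- the combination `P^u ⊗ Q^v` -/
noncomputable def combo (P P' Q Q' : X.Modules) (u v : ℤ) : X.Modules :=
  CohB1.tensorMod (zpowMod X P P' u) (zpowMod X Q Q' v)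

theorem isInvertible_combo {P P' Q Q' : X.Modules} (hP : PicF.IsInvertible P)
    (hP' : PicF.IsInvertible P') (hQ : PicF.IsInvertible Q) (hQ' : PicF.IsInvertible Q')
    (u v : ℤ) : PicF.IsInvertible (combo X P P' Q Q' u v) :=
  isInvertible_tensorMod (isInvertible_zpowMod X hP hP' u) (isInvertible_zpowMod X hQ hQ' v)

theorem intNum_combo_right (hdim : topologicalKrullDim X = 2)
    (Z P P' Q Q' : X.Modules) (hZ : PicF.IsInvertible Z) (hP : PicF.IsInvertible P)
    (hP' : PicF.IsInvertible P') (hQ : PicF.IsInvertible Q) (hQ' : PicF.IsInvertible Q')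
    (iP : CohB1.tensorMod P P' ≅ Coh.structureModule X)
    (iQ : CohB1.tensorMod Q Q' ≅ Coh.structureModule X) (u v : ℤ) :
    FGA.intNum k X 2 ![Z, combo X P P' Q Q' u v] (Coh.structureModule X) =
      u * FGA.intNum k X 2 ![Z, P] (Coh.structureModule X) +
        v * FGA.intNum k X 2 ![Z, Q] (Coh.structureModule X) := by
  unfold combo
  rw [intNum_tensor_right k X hdim Z _ _ hZ (isInvertible_zpowMod X hP hP' u)
    (isInvertible_zpowMod X hQ hQ' v), intNum_zpow_right k X hdim Z P P' hZ hP hP' iP,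
    intNum_zpow_right k X hdim Z Q Q' hZ hQ hQ' iQ]

theorem intNum_combo_self (hdim : topologicalKrullDim X = 2)
    (P P' Q Q' : X.Modules) (hP : PicF.IsInvertible P)
    (hP' : PicF.IsInvertible P') (hQ : PicF.IsInvertible Q) (hQ' : PicF.IsInvertible Q')
    (iP : CohB1.tensorMod P P' ≅ Coh.structureModule X)
    (iQ : CohB1.tensorMod Q Q' ≅ Coh.structureModule X) (u v : ℤ) :
    FGA.intNum k X 2 ![combo X P P' Q Q' u v, combo X P P' Q Q' u v] (Coh.structureModule X) =
      u * u * FGA.intNum k X 2 ![P, P] (Coh.structureModule X) +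
        2 * u * v * FGA.intNum k X 2 ![P, Q] (Coh.structureModule X) +
        v * v * FGA.intNum k X 2 ![Q, Q] (Coh.structureModule X) := by
  have hE := isInvertible_combo X hP hP' hQ hQ' u v
  rw [intNum_combo_right k X hdim _ P P' Q Q' hE hP hP' hQ hQ' iP iQ u v,
    intNum_symm k X hdim _ P hE hP, intNum_symm k X hdim _ Q hE hQ,
    intNum_combo_right k X hdim P P P' Q Q' hP hP hP' hQ hQ' iP iQ u v,
    intNum_combo_right k X hdim Q P P' Q Q' hQ hP hP' hQ hQ' iP iQ u v,
    intNum_symm k X hdim Q P hQ hP]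
  ring

end Pair

section Hodge

variable (k : Type u) [Field k] (X : Scheme.{u}) [X.Over (Spec (CommRingCat.of k))]
  [IsProper (X ↘ (Spec (CommRingCat.of k)))] [IsIntegral X]

/-- **Hodge index theorem**: a class orthogonal to an ample class has non-positive square -/
theorem hodge_ample (hdim : topologicalKrullDim X = 2) (H : X.Modules) (hH : CohB1.IsAmple H)
    (L : X.Modules) (hL : PicF.IsInvertible L)
    (horth : FGA.intNum k X 2 ![L, H] (Coh.structureModule X) = 0) :
    FGA.intNum k X 2 ![L, L] (Coh.structureModule X) ≤ 0 := by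
  haveI : AlgebraicGeometry.IsNoetherian X := isNoetherian_of_proper k X
  by_contra hpos
  rw [not_le] at hpos
  obtain ⟨L', hL', ⟨eL⟩⟩ := InvInv2.exists_inverse hL
  have iL : CohB1.tensorMod L L' ≅ Coh.structureModule X := TildeTens.tensorModComm L L' ≪≫ eL
  obtain ⟨H', hH', ⟨eH⟩⟩ := InvInv2.exists_inverse hH.1
  have iH : CohB1.tensorMod H H' ≅ Coh.structureModule X := TildeTens.tensorModComm H H' ≪≫ eH
  haveI : X.IsSeparated := by
    haveI : IsSeparated (X ↘ Spec (CommRingCat.of k)) := inferInstance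
    exact ⟨by
      rw [← terminal.comp_from (X ↘ Spec (CommRingCat.of k))]
      infer_instance⟩
  obtain ⟨n₀, -, hn⟩ := Groth.Agent.Helper1.AmpleLib.eventually_ample_globallyGenerated hH hL
  obtain ⟨hH₁, -⟩ := hn n₀ le_rfl
  obtain ⟨H₁, hH₁def⟩ : ∃ H₁ : X.Modules,
    H₁ = CohB1.tensorMod (CohB1.tensorPow H n₀) L := ⟨_, rfl⟩
  rw [← hH₁def] at hH₁
  obtain ⟨H₁', hH₁', ⟨eH₁⟩⟩ := InvInv2.exists_inverse hH₁.1
  have iH₁ : CohB1.tensorMod H₁ H₁' ≅ Coh.structureModule X :=
    TildeTens.tensorModComm H₁ H₁' ≪≫ eH₁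
  have h1 : FGA.intNum k X 2 ![L, H₁] (Coh.structureModule X) =
      n₀ * FGA.intNum k X 2 ![L, H] (Coh.structureModule X) +
        FGA.intNum k X 2 ![L, L] (Coh.structureModule X) := by
    rw [hH₁def, intNum_tensor_right k X hdim L _ _ hL (isInvertible_tensorPow hH.1 _) hL,
      intNum_pow_right k X hdim L H hL hH.1]
  have hLH₁ : 0 < FGA.intNum k X 2 ![L', H₁'] (Coh.structureModule X) := by
    rw [intNum_inv_inv k X hdim L L' H₁ H₁' hL hH₁.1 iL iH₁, h1, horth, mul_zero, zero_add]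
    exact hpos
  have hLL : 0 < FGA.intNum k X 2 ![L', L'] (Coh.structureModule X) := by
    rw [intNum_inv_inv k X hdim L L' L L' hL hL iL iL]
    exact hpos
  obtain ⟨m₁, hm₁⟩ := SurfDual.main k X hdim L L' hL iL hLL H₁ H₁' hH₁ iH₁ hLH₁
  have hsec : ∃ n : ℕ, 0 < n ∧ Nontrivial (Coh.HH X (CohB1.tensorPow L n) 0) :=
    ⟨max m₁ 1, lt_of_lt_of_le Nat.one_pos (le_max_right _ _), (hm₁ _ (le_max_left _ _)).2.2⟩
  have h2 := SurfPos.main k X hdim L L' hL ⟨iL⟩ hLL hsec H H' hH ⟨iH⟩
  rw [intNum_inv_inv k X hdim L L' H H' hL hH.1 iL iH, horth] at h2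
  exact lt_irrefl _ h2

/-- the reverse Cauchy–Schwarz inequality against an ample class -/
theorem lattice_ineq (hdim : topologicalKrullDim X = 2) (H : X.Modules) (hH : CohB1.IsAmple H)
    (L : X.Modules) (hL : PicF.IsInvertible L) :
    FGA.intNum k X 2 ![L, L] (Coh.structureModule X) *
      FGA.intNum k X 2 ![H, H] (Coh.structureModule X) ≤
        FGA.intNum k X 2 ![L, H] (Coh.structureModule X) ^ 2 := by
  obtain ⟨L', hL', ⟨eL⟩⟩ := InvInv2.exists_inverse hL
  have iL : CohB1.tensorMod L L' ≅ Coh.structureModule X := TildeTens.tensorModComm L L' ≪≫ eL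
  obtain ⟨H', hH', ⟨eH⟩⟩ := InvInv2.exists_inverse hH.1
  have iH : CohB1.tensorMod H H' ≅ Coh.structureModule X := TildeTens.tensorModComm H H' ≪≫ eH
  obtain ⟨e, he⟩ : ∃ e : ℤ, e = FGA.intNum k X 2 ![H, H] (Coh.structureModule X) := ⟨_, rfl⟩
  obtain ⟨a, ha⟩ : ∃ a : ℤ, a = FGA.intNum k X 2 ![L, H] (Coh.structureModule X) := ⟨_, rfl⟩
  obtain ⟨s, hs⟩ : ∃ s : ℤ, s = FGA.intNum k X 2 ![L, L] (Coh.structureModule X) := ⟨_, rfl⟩
  have hepos : 0 < e := by
    rw [he]
    exact PosCone.intNum_ample_pos k X hdim H H hH hH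
  have hE := isInvertible_combo X hL hL' hH.1 hH' e (-a)
  have hEH : FGA.intNum k X 2 ![combo X L L' H H' e (-a), H] (Coh.structureModule X) = 0 := by
    rw [intNum_symm k X hdim _ H hE hH.1,
      intNum_combo_right k X hdim H L L' H H' hH.1 hL hL' hH.1 hH' iL iH e (-a),
      intNum_symm k X hdim H L hH.1 hL, ← he, ← ha]
    ring
  have h1 := hodge_ample k X hdim H hH _ hE hEH
  rw [intNum_combo_self k X hdim L L' H H' hL hL' hH.1 hH' iL iH e (-a), ← he, ← ha, ← hs] at h1
  rw [← he, ← ha, ← hs]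
  have h2 : e * (s * e - a ^ 2) ≤ 0 := by
    have : e * (s * e - a ^ 2) = e * e * s + 2 * e * -a * a + -a * -a * e := by ring
    rw [this]
    exact h1
  by_contra hcon
  rw [not_le] at hcon
  have h3 : 0 < e * (s * e - a ^ 2) := mul_pos hepos (by linarith)
  linarith

/-- **Hodge index theorem**: the form is negative semi-definite on the orthogonal complement of a
class of positive square -/
theorem hodge_neg (hdim : topologicalKrullDim X = 2) (H : X.Modules) (hH : CohB1.IsAmple H)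
    (L M : X.Modules) (hL : PicF.IsInvertible L) (hM : PicF.IsInvertible M)
    (hpos : 0 < FGA.intNum k X 2 ![L, L] (Coh.structureModule X))
    (horth : FGA.intNum k X 2 ![L, M] (Coh.structureModule X) = 0) :
    FGA.intNum k X 2 ![M, M] (Coh.structureModule X) ≤ 0 := by
  obtain ⟨L', hL', ⟨eL⟩⟩ := InvInv2.exists_inverse hL
  have iL : CohB1.tensorMod L L' ≅ Coh.structureModule X := TildeTens.tensorModComm L L' ≪≫ eL
  obtain ⟨M', hM', ⟨eM⟩⟩ := InvInv2.exists_inverse hM
  have iM : CohB1.tensorMod M M' ≅ Coh.structureModule X := TildeTens.tensorModComm M M' ≪≫ eM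
  obtain ⟨a, ha⟩ : ∃ a : ℤ, a = FGA.intNum k X 2 ![L, H] (Coh.structureModule X) := ⟨_, rfl⟩
  obtain ⟨c, hc⟩ : ∃ c : ℤ, c = FGA.intNum k X 2 ![M, H] (Coh.structureModule X) := ⟨_, rfl⟩
  obtain ⟨s, hs⟩ : ∃ s : ℤ, s = FGA.intNum k X 2 ![L, L] (Coh.structureModule X) := ⟨_, rfl⟩
  obtain ⟨t, ht⟩ : ∃ t : ℤ, t = FGA.intNum k X 2 ![M, M] (Coh.structureModule X) := ⟨_, rfl⟩
  rw [← hs] at hpos
  rw [← ht]
  by_cases ha0 : a = 0
  · exfalso
    have h1 := hodge_ample k X hdim H hH L hL (by rw [← ha]; exact ha0)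
    rw [← hs] at h1
    linarith
  · have hE := isInvertible_combo X hM hM' hL hL' a (-c)
    have hEH : FGA.intNum k X 2 ![combo X M M' L L' a (-c), H] (Coh.structureModule X) = 0 := by
      rw [intNum_symm k X hdim _ H hE hH.1,
        intNum_combo_right k X hdim H M M' L L' hH.1 hM hM' hL hL' iM iL a (-c),
        intNum_symm k X hdim H M hH.1 hM, intNum_symm k X hdim H L hH.1 hL, ← ha, ← hc]
      ring
    have h1 := hodge_ample k X hdim H hH _ hE hEH
    rw [intNum_combo_self k X hdim M M' L L' hM hM' hL hL' iM iL a (-c),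
      intNum_symm k X hdim M L hM hL, horth, ← hs, ← ht] at h1
    have ha2 : 0 < a * a := mul_self_pos.2 ha0
    have hc2 : 0 ≤ c * c := mul_self_nonneg c
    by_contra hcon
    rw [not_le] at hcon
    have h3 : 0 < a * a * t := mul_pos ha2 hcon
    have h4 : 0 ≤ c * c * s := mul_nonneg hc2 hpos.le
    nlinarith

/-- quadratic growth of the sections -/
theorem growth (hdim : topologicalKrullDim X = 2)
    (N N' : X.Modules) (hN : PicF.IsInvertible N)
    (iN : CohB1.tensorMod N N' ≅ Coh.structureModule X)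
    (hpos : 0 < FGA.intNum k X 2 ![N', N'] (Coh.structureModule X))
    (H H' : X.Modules) (hH : CohB1.IsAmple H)
    (iH : CohB1.tensorMod H H' ≅ Coh.structureModule X)
    (hNH : 0 < FGA.intNum k X 2 ![N', H'] (Coh.structureModule X)) :
    ∃ m₀ : ℕ, ∀ m : ℕ, m₀ ≤ m →
      (1 / 4 : ℚ) * (m : ℚ) ^ 2 <
        (Module.finrank k (Coh.HH X (CohB1.tensorPow N m) 0) : ℚ) := by
  obtain ⟨m₁, hm₁⟩ := SurfDual.main k X hdim N N' hN iN hpos H H' hH iH hNH
  obtain ⟨a, ha⟩ : ∃ z : ℤ,
    z = FGA.intNum k X 2 (fun _ : Fin 0 => N') (Coh.structureModule X) := ⟨_, rfl⟩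
  obtain ⟨b, hb⟩ : ∃ z : ℤ,
    z = FGA.intNum k X 2 (fun _ : Fin 1 => N') (Coh.structureModule X) := ⟨_, rfl⟩
  refine ⟨max m₁ (4 * (a.natAbs + b.natAbs + 1)), fun m hm => ?_⟩
  obtain ⟨h2, -, -⟩ := hm₁ m (le_trans (le_max_left _ _) hm)
  have h3 := euler_le_h0 k X _ h2
  rw [euler_pow k X hdim N N' hN iN m, ← ha, ← hb] at h3
  have h4 := quad_growth a b _ hpos m (le_trans (le_max_right _ _) hm)
  obtain ⟨f, hf⟩ : ∃ f : ℕ, f = Module.finrank k (Coh.HH X (CohB1.tensorPow N m) 0) :=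
    ⟨_, rfl⟩
  rw [← hf] at h3 ⊢
  have h5 : (m : ℤ) ^ 2 < 4 * (f : ℤ) := by linarith
  have h6 : ((m : ℚ)) ^ 2 < 4 * (f : ℚ) := by exact_mod_cast h5
  linarith

end Hodge

end Groth.Agent.Helper1.SurfHodge
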