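import Mathlib
import Groth.Agent.Lib.Helper1.SurfDual2

/-!
# Castelnuovo–Severi type inequalities from the Hodge index theorem (helper1)

On a proper integral surface with an ample class and two classes `P`, `Q` with
`P² = Q² = 0`, `P·Q = 1`: `L² ≤ 2 (L·P)(L·Q)` and the attached Cauchy–Schwarz inequality.
-/

set_option autoImplicit false
set_option linter.style.haveILetI false
set_option linter.unusedSectionVars false
universe u
open CategoryTheory CategoryTheory.Limits AlgebraicGeometry TopologicalSpace Opposite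

namespace Groth.Agent.Helper1.ProdSurf

open Groth.Agent.Helper1 Groth.Agent.Helper1.Euler Groth.Agent.Helper1.Dv
open Groth.Agent.Helper1.FinLen Groth.Agent.Helper1.TwForm Groth.Agent.Helper1.Curve
open Groth.Agent.Helper1.Snap Groth.Agent.Helper1.SnapPos Groth.Agent.Helper1.FGAInt
open Groth.Agent.Helper1.FGAPos Groth.Agent.Helper1.Kleiman Groth.Agent.Helper1.Big
open Groth.Agent.Helper1.SurfPos Groth.Agent.Helper1.SurfDual Groth.Agent.Helper1.SurfHodge
open Groth.Agent.Lib.Helper4

section Num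

/-- Cauchy–Schwarz for a negative semi-definite integral binary quadratic form -/
theorem int_cauchy (a b c : ℤ) (h : ∀ s t : ℤ, s * s * a + 2 * s * t * b + t * t * c ≤ 0) :
    b ^ 2 ≤ a * c := by
  have ha : a ≤ 0 := by
    have := h 1 0
    linarith
  have hc : c ≤ 0 := by
    have := h 0 1
    linarith
  rcases eq_or_lt_of_le hc with hc0 | hc0
  · have hb : b = 0 := by
      by_contra hb
      have h1 := h 1 ((1 - a) * b)
      rw [hc0] at h1
      have hb2 : 1 ≤ b * b := by
        have : 0 < b * b := mul_self_pos.2 hb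
        linarith
      have h3 : 0 ≤ (1 - a) * (b * b - 1) := mul_nonneg (by linarith) (by linarith)
      nlinarith [h3, ha, h1]
    rw [hb, hc0]
    simp
  · have h1 := h c (-b)
    have h2 : c * (a * c - b ^ 2) ≤ 0 := by nlinarith [h1]
    by_contra hcon
    rw [not_le] at hcon
    have h3 : 0 < c * (a * c - b ^ 2) := mul_pos_of_neg_of_neg hc0 (by linarith)
    linarith

end Num

section Lattice

variable (k : Type u) [Field k] (X : Scheme.{u}) [X.Over (Spec (CommRingCat.of k))]
  [IsProper (X ↘ (Spec (CommRingCat.of k)))] [IsIntegral X]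

/-- the square of a tensor product -/
theorem intNum_tensor_self (hdim : topologicalKrullDim X = 2) (A B : X.Modules)
    (hA : PicF.IsInvertible A) (hB : PicF.IsInvertible B) :
    FGA.intNum k X 2 ![CohB1.tensorMod A B, CohB1.tensorMod A B] (Coh.structureModule X) =
      FGA.intNum k X 2 ![A, A] (Coh.structureModule X) +
        2 * FGA.intNum k X 2 ![A, B] (Coh.structureModule X) +
        FGA.intNum k X 2 ![B, B] (Coh.structureModule X) := by
  have hAB := isInvertible_tensorMod hA hB
  rw [intNum_tensor_right k X hdim _ A B hAB hA hB,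
    intNum_symm k X hdim _ A hAB hA, intNum_symm k X hdim _ B hAB hB,
    intNum_tensor_right k X hdim A A B hA hA hB, intNum_tensor_right k X hdim B A B hB hA hB,
    intNum_symm k X hdim B A hB hA]
  ring

/-- the class `L - (L·Q) P - (L·P) Q` -/
theorem exists_orth (hdim : topologicalKrullDim X = 2) (P Q : X.Modules)
    (hP : PicF.IsInvertible P) (hQ : PicF.IsInvertible Q) (L : X.Modules)
    (hL : PicF.IsInvertible L) :
    ∃ E : X.Modules, PicF.IsInvertible E ∧
      ∀ Z : X.Modules, PicF.IsInvertible Z →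
        FGA.intNum k X 2 ![Z, E] (Coh.structureModule X) =
          FGA.intNum k X 2 ![Z, L] (Coh.structureModule X)
            - FGA.intNum k X 2 ![L, Q] (Coh.structureModule X) *
              FGA.intNum k X 2 ![Z, P] (Coh.structureModule X)
            - FGA.intNum k X 2 ![L, P] (Coh.structureModule X) *
              FGA.intNum k X 2 ![Z, Q] (Coh.structureModule X) := by
  obtain ⟨P', hP', ⟨eP⟩⟩ := InvInv2.exists_inverse hP
  have iP : CohB1.tensorMod P P' ≅ Coh.structureModule X := TildeTens.tensorModComm P P' ≪≫ eP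
  obtain ⟨Q', hQ', ⟨eQ⟩⟩ := InvInv2.exists_inverse hQ
  have iQ : CohB1.tensorMod Q Q' ≅ Coh.structureModule X := TildeTens.tensorModComm Q Q' ≪≫ eQ
  obtain ⟨a, ha⟩ : ∃ a : ℤ, a = FGA.intNum k X 2 ![L, P] (Coh.structureModule X) := ⟨_, rfl⟩
  obtain ⟨b, hb⟩ : ∃ b : ℤ, b = FGA.intNum k X 2 ![L, Q] (Coh.structureModule X) := ⟨_, rfl⟩
  have hW := isInvertible_combo X hP hP' hQ hQ' (-b) (-a)
  refine ⟨CohB1.tensorMod L (combo X P P' Q Q' (-b) (-a)), isInvertible_tensorMod hL hW,
    fun Z hZ => ?_⟩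
  rw [intNum_tensor_right k X hdim Z L _ hZ hL hW,
    intNum_combo_right k X hdim Z P P' Q Q' hZ hP hP' hQ hQ' iP iQ (-b) (-a), ← ha, ← hb]
  ring

/-- **Castelnuovo–Severi inequality and the attached Cauchy–Schwarz inequality** -/
theorem main (hdim : topologicalKrullDim X = 2) (H : X.Modules) (hH : CohB1.IsAmple H)
    (P Q : X.Modules) (hP : PicF.IsInvertible P) (hQ : PicF.IsInvertible Q)
    (hPP : FGA.intNum k X 2 ![P, P] (Coh.structureModule X) = 0)
    (hQQ : FGA.intNum k X 2 ![Q, Q] (Coh.structureModule X) = 0)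
    (hPQ : FGA.intNum k X 2 ![P, Q] (Coh.structureModule X) = 1)
    (L L' : X.Modules) (hL : PicF.IsInvertible L) (hL' : PicF.IsInvertible L') :
    FGA.intNum k X 2 ![L, L] (Coh.structureModule X) ≤
        2 * FGA.intNum k X 2 ![L, P] (Coh.structureModule X) *
          FGA.intNum k X 2 ![L, Q] (Coh.structureModule X) ∧
      (FGA.intNum k X 2 ![L, L'] (Coh.structureModule X)
        - FGA.intNum k X 2 ![L, P] (Coh.structureModule X) *
            FGA.intNum k X 2 ![L', Q] (Coh.structureModule X)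
        - FGA.intNum k X 2 ![L, Q] (Coh.structureModule X) *
            FGA.intNum k X 2 ![L', P] (Coh.structureModule X)) ^ 2 ≤
      (2 * FGA.intNum k X 2 ![L, P] (Coh.structureModule X) *
          FGA.intNum k X 2 ![L, Q] (Coh.structureModule X)
        - FGA.intNum k X 2 ![L, L] (Coh.structureModule X)) *
      (2 * FGA.intNum k X 2 ![L', P] (Coh.structureModule X) *
          FGA.intNum k X 2 ![L', Q] (Coh.structureModule X)
        - FGA.intNum k X 2 ![L', L'] (Coh.structureModule X)) := by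
  obtain ⟨E, hE, fE⟩ := exists_orth k X hdim P Q hP hQ L hL
  obtain ⟨E', hE', fE'⟩ := exists_orth k X hdim P Q hP hQ L' hL'
  obtain ⟨Ei, hEi, ⟨eE⟩⟩ := InvInv2.exists_inverse hE
  have iE : CohB1.tensorMod E Ei ≅ Coh.structureModule X := TildeTens.tensorModComm E Ei ≪≫ eE
  obtain ⟨Ei', hEi', ⟨eE'⟩⟩ := InvInv2.exists_inverse hE'
  have iE' : CohB1.tensorMod E' Ei' ≅ Coh.structureModule X :=
    TildeTens.tensorModComm E' Ei' ≪≫ eE'
  have hA := isInvertible_tensorMod hP hQ
  have hQP : FGA.intNum k X 2 ![Q, P] (Coh.structureModule X) = 1 := by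
    rw [intNum_symm k X hdim Q P hQ hP, hPQ]
  have hAA : 0 < FGA.intNum k X 2 ![CohB1.tensorMod P Q, CohB1.tensorMod P Q]
      (Coh.structureModule X) := by
    rw [intNum_tensor_self k X hdim P Q hP hQ, hPP, hQQ, hPQ]
    norm_num
  -- orthogonality of `E`, `E'` to `P`, `Q`
  have hPE : FGA.intNum k X 2 ![P, E] (Coh.structureModule X) = 0 := by
    rw [fE P hP, intNum_symm k X hdim P L hP hL, hPP, hPQ]
    ring
  have hQE : FGA.intNum k X 2 ![Q, E] (Coh.structureModule X) = 0 := by
    rw [fE Q hQ, intNum_symm k X hdim Q L hQ hL, hQP, hQQ]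
    ring
  have hPE' : FGA.intNum k X 2 ![P, E'] (Coh.structureModule X) = 0 := by
    rw [fE' P hP, intNum_symm k X hdim P L' hP hL', hPP, hPQ]
    ring
  have hQE' : FGA.intNum k X 2 ![Q, E'] (Coh.structureModule X) = 0 := by
    rw [fE' Q hQ, intNum_symm k X hdim Q L' hQ hL', hQP, hQQ]
    ring
  have hAE : FGA.intNum k X 2 ![CohB1.tensorMod P Q, E] (Coh.structureModule X) = 0 := by
    rw [intNum_symm k X hdim _ E hA hE, intNum_tensor_right k X hdim E P Q hE hP hQ,
      intNum_symm k X hdim E P hE hP, intNum_symm k X hdim E Q hE hQ, hPE, hQE]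
    ring
  have hAE' : FGA.intNum k X 2 ![CohB1.tensorMod P Q, E'] (Coh.structureModule X) = 0 := by
    rw [intNum_symm k X hdim _ E' hA hE', intNum_tensor_right k X hdim E' P Q hE' hP hQ,
      intNum_symm k X hdim E' P hE' hP, intNum_symm k X hdim E' Q hE' hQ, hPE', hQE']
    ring
  -- the values of the form on `E`, `E'`
  have hEE : FGA.intNum k X 2 ![E, E] (Coh.structureModule X) =
      FGA.intNum k X 2 ![L, L] (Coh.structureModule X)
        - 2 * FGA.intNum k X 2 ![L, P] (Coh.structureModule X) *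
          FGA.intNum k X 2 ![L, Q] (Coh.structureModule X) := by
    rw [fE E hE, intNum_symm k X hdim E P hE hP, intNum_symm k X hdim E Q hE hQ, hPE, hQE,
      intNum_symm k X hdim E L hE hL, fE L hL]
    ring
  have hEE'' : FGA.intNum k X 2 ![E', E'] (Coh.structureModule X) =
      FGA.intNum k X 2 ![L', L'] (Coh.structureModule X)
        - 2 * FGA.intNum k X 2 ![L', P] (Coh.structureModule X) *
          FGA.intNum k X 2 ![L', Q] (Coh.structureModule X) := by
    rw [fE' E' hE', intNum_symm k X hdim E' P hE' hP, intNum_symm k X hdim E' Q hE' hQ, hPE',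
      hQE', intNum_symm k X hdim E' L' hE' hL', fE' L' hL']
    ring
  have hEE' : FGA.intNum k X 2 ![E, E'] (Coh.structureModule X) =
      FGA.intNum k X 2 ![L, L'] (Coh.structureModule X)
        - FGA.intNum k X 2 ![L, P] (Coh.structureModule X) *
            FGA.intNum k X 2 ![L', Q] (Coh.structureModule X)
        - FGA.intNum k X 2 ![L, Q] (Coh.structureModule X) *
            FGA.intNum k X 2 ![L', P] (Coh.structureModule X) := by
    rw [fE' E hE, intNum_symm k X hdim E P hE hP, intNum_symm k X hdim E Q hE hQ, hPE, hQE,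
      intNum_symm k X hdim E L' hE hL', fE L' hL', intNum_symm k X hdim L' L hL' hL]
    ring
  -- negativity on the span of `E`, `E'`
  have hform : ∀ s t : ℤ,
      s * s * FGA.intNum k X 2 ![E, E] (Coh.structureModule X) +
        2 * s * t * FGA.intNum k X 2 ![E, E'] (Coh.structureModule X) +
        t * t * FGA.intNum k X 2 ![E', E'] (Coh.structureModule X) ≤ 0 := by
    intro s t
    have hF := isInvertible_combo X hE hEi hE' hEi' s t
    have horth : FGA.intNum k X 2 ![CohB1.tensorMod P Q, combo X E Ei E' Ei' s t]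
        (Coh.structureModule X) = 0 := by
      rw [intNum_combo_right k X hdim _ E Ei E' Ei' hA hE hEi hE' hEi' iE iE' s t, hAE, hAE']
      ring
    have h1 := hodge_neg k X hdim H hH _ _ hA hF hAA horth
    rw [intNum_combo_self k X hdim E Ei E' Ei' hE hEi hE' hEi' iE iE' s t] at h1
    exact h1
  have hcs := int_cauchy _ _ _ hform
  have h10 := hform 1 0
  rw [hEE, hEE', hEE''] at hcs
  rw [hEE] at h10
  obtain ⟨a, ha⟩ : ∃ a : ℤ, a = FGA.intNum k X 2 ![L, P] (Coh.structureModule X) := ⟨_, rfl⟩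
  obtain ⟨b, hb⟩ : ∃ b : ℤ, b = FGA.intNum k X 2 ![L, Q] (Coh.structureModule X) := ⟨_, rfl⟩
  obtain ⟨a', ha'⟩ : ∃ a : ℤ, a = FGA.intNum k X 2 ![L', P] (Coh.structureModule X) := ⟨_, rfl⟩
  obtain ⟨b', hb'⟩ : ∃ b : ℤ, b = FGA.intNum k X 2 ![L', Q] (Coh.structureModule X) := ⟨_, rfl⟩
  obtain ⟨l, hl⟩ : ∃ l : ℤ, l = FGA.intNum k X 2 ![L, L] (Coh.structureModule X) := ⟨_, rfl⟩
  obtain ⟨l', hl'⟩ : ∃ l : ℤ, l = FGA.intNum k X 2 ![L', L'] (Coh.structureModule X) := ⟨_, rfl⟩
  obtain ⟨m, hm⟩ : ∃ m : ℤ, m = FGA.intNum k X 2 ![L, L'] (Coh.structureModule X) := ⟨_, rfl⟩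
  rw [← ha, ← hb, ← ha', ← hb', ← hl, ← hl', ← hm] at hcs
  rw [← ha, ← hb, ← hl] at h10
  rw [← ha, ← hb, ← ha', ← hb', ← hl, ← hl', ← hm]
  constructor
  · linarith
  · linarith [hcs]

end Lattice

end Groth.Agent.Helper1.ProdSurf
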