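import Mathlib
import Groth.Agent.Lib.Helper1.FPA6
import Groth.Agent.Lib.Helper1.SubExt10

set_option autoImplicit false
universe u
open CategoryTheory CategoryTheory.Limits AlgebraicGeometry TopologicalSpace Opposite

namespace Groth.Agent.Helper1.FPA

open Scheme.Modules

variable {X : Scheme.{u}}

/-- **extension of finitely presented modules with a map** (Stacks 01PJ-type statement): on a qcqs
scheme, a map from a finitely presented module on a quasi-compact open `U` to the restriction of a
quasi-coherent module `F` extends to a map from a finitely presented module on `X` to `F`. -/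
theorem exists_fp_extension_map [CompactSpace X] [QuasiSeparatedSpace X]
    (F : X.Modules) [F.IsQuasicoherent] (U : X.Opens) (hU : IsCompact (U : Set X))
    (G : (U : Scheme.{u}).Modules) (hG : CohB1.IsFP G) (φ : G ⟶ F.restrict U.ι) :
    ∃ (G' : X.Modules) (φ' : G' ⟶ F) (e : G'.restrict U.ι ≅ G), CohB1.IsFP G' ∧
      e.hom ≫ φ = (Scheme.Modules.restrictFunctor U.ι).map φ' := by
  haveI hqc : QuasiCompact U.ι := SubSh.quasiCompact_ι_of U fun A hA hAc =>
    IsCompact.inter_of_isOpen hU hAc U.isOpen hA
  haveI := isQuasicoherent_of_isFP G hG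
  let adj := Scheme.Modules.restrictAdjunction U.ι
  let η : F ⟶ (pushforward U.ι).obj (F.restrict U.ι) := adj.unit.app F
  let φb : (pushforward U.ι).obj G ⟶ (pushforward U.ι).obj (F.restrict U.ι) :=
    (pushforward U.ι).map φ
  haveI : ((pushforward U.ι).obj G).IsQuasicoherent :=
    PushQc.isQuasicoherent_pushforward (f := U.ι) (F := G)
  haveI : ((pushforward U.ι).obj (F.restrict U.ι)).IsQuasicoherent :=
    PushQc.isQuasicoherent_pushforward (f := U.ι) (F := F.restrict U.ι)
  haveI : (pullback η φb).IsQuasicoherent := QcAbel.isQuasicoherent_pullback η φb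
  have hη : IsoOn η U := by
    have := isoOn_unit U.ι F
    rwa [Scheme.Opens.opensRange_ι] at this
  have hsnd : IsoOn (pullback.snd η φb) U := isoOn_pullback_snd η φb hη
  have hfpG : FPOn ((pushforward U.ι).obj G) U :=
    fpOn_of_isFP_restrict _ U (isFP_of_iso (asIso (adj.counit.app G)).symm hG)
  have hfpF' : FPOn (pullback η φb) U := hfpG.of_isoOn hsnd
  obtain ⟨G', ψ, hG'q, hG'fp, hψ⟩ := exists_fp_isoOn (pullback η φb) U hU hfpF'
  haveI := hψ.isIso_restrict U.ι (by rw [Scheme.Opens.opensRange_ι])
  haveI := hsnd.isIso_restrict U.ι (by rw [Scheme.Opens.opensRange_ι])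
  refine ⟨G', ψ ≫ pullback.fst η φb,
    asIso ((restrictFunctor U.ι).map ψ) ≪≫ asIso ((restrictFunctor U.ι).map (pullback.snd η φb)) ≪≫
      asIso (adj.counit.app G), hG'fp, ?_⟩
  have hnat : adj.counit.app G ≫ φ =
      (restrictFunctor U.ι).map φb ≫ adj.counit.app (F.restrict U.ι) :=
    (adj.counit.naturality φ).symm
  have htri : (restrictFunctor U.ι).map η ≫ adj.counit.app (F.restrict U.ι) = 𝟙 _ :=
    adj.left_triangle_components F
  have hcond : (restrictFunctor U.ι).map (pullback.snd η φb) ≫ (restrictFunctor U.ι).map φb =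
      (restrictFunctor U.ι).map (pullback.fst η φb) ≫ (restrictFunctor U.ι).map η := by
    rw [← Functor.map_comp, ← Functor.map_comp, pullback.condition]
  simp only [Iso.trans_hom, asIso_hom, Category.assoc, Functor.map_comp]
  rw [hnat, reassoc_of% hcond, htri, Category.comp_id]

end Groth.Agent.Helper1.FPA
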