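import Mathlib
import Groth.Agent.Lib.Helper1.FPA7
import Groth.Agent.Lib.Helper1.TwistAmple
import Groth.Agent.Lib.Helper1.AffPushEpi
import Groth.Agent.Lib.Helper1.QcProd

set_option autoImplicit false
universe u
open CategoryTheory CategoryTheory.Limits AlgebraicGeometry TopologicalSpace Opposite

namespace Groth.Agent.Helper1.FPA

open Scheme.Modules

variable {X : Scheme.{u}}

/-- a morphism of quasi-coherent modules surjective over an affine open is surjective over its basic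
opens -/
theorem surjective_basicOpen {M N : X.Modules} [N.IsQuasicoherent] (φ : M ⟶ N) {U : X.Opens}
    (hU : IsAffineOpen U) (hb : Function.Surjective (φ.app U)) (f : Γ(X, U)) :
    Function.Surjective (φ.app (X.basicOpen f)) := by
  set f' : Γ(X, X.basicOpen f) := (X.presheaf.map (homOfLE (X.basicOpen_le f)).op).hom f with hf'
  have hunit : IsUnit f' := RingedSpace.isUnit_res_basicOpen X.toRingedSpace f
  intro σ
  obtain ⟨n, t', ht'⟩ := QcLoc.exists_extend hU N f σ
  obtain ⟨m, rfl⟩ := hb t'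
  obtain ⟨w, hw⟩ := hunit.pow n
  refine ⟨(↑w⁻¹ : Γ(X, X.basicOpen f)) • M.presheaf.map (homOfLE (X.basicOpen_le f)).op m, ?_⟩
  have hres : φ.app (X.basicOpen f) (M.presheaf.map (homOfLE (X.basicOpen_le f)).op m) =
      N.presheaf.map (homOfLE (X.basicOpen_le f)).op (φ.app U m) :=
    QcExt.app_res φ (X.basicOpen_le f) m
  rw [Scheme.Modules.Hom.app_smul, hres, ht', ← hw, smul_smul, Units.inv_mul, one_smul]

/-- a morphism to a quasi-coherent module which is surjective on sections over the members of an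
affine open cover is an epimorphism -/
theorem epi_of_surjective_cover {M N : X.Modules} [N.IsQuasicoherent] (φ : M ⟶ N)
    (h : ∀ x : X, ∃ U : X.Opens, IsAffineOpen U ∧ x ∈ U ∧ Function.Surjective (φ.app U)) :
    Epi φ := by
  apply Preadditive.epi_of_cancel_zero
  intro Q g hg
  apply Scheme.Modules.hom_ext
  intro W
  ext t
  change g.app W t = 0
  apply TwistSec.eq_of_locally Q
  intro x hx
  obtain ⟨U, hU, hxU, hs⟩ := h x
  obtain ⟨f, hfV, hxf⟩ := hU.exists_basicOpen_le (V := W ⊓ U) ⟨x, ⟨hx, hxU⟩⟩ hxU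
  refine ⟨X.basicOpen f, hfV.trans inf_le_left, hxf, ?_⟩
  rw [← QcExt.app_res, map_zero]
  obtain ⟨m, hm⟩ := surjective_basicOpen φ hU hs f (QcCech.res N (hfV.trans inf_le_left) t)
  rw [← hm]
  have := congrArg (fun ψ => Scheme.Modules.Hom.app ψ (X.basicOpen f) m) hg
  exact this

/-- the structure sheaf is finitely presented -/
theorem isFP_unit (Y : Scheme.{u}) : CohB1.IsFP (Coh.structureModule Y) := by
  haveI : (Coh.structureModule Y).IsQuasicoherent := inferInstance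
  rw [Groth.Agent.Lead.FP.isFP_iff_affineOpens]
  intro T hT
  exact inferInstanceAs (Module.FinitePresentation Γ(Y, T) Γ(Y, T))

/-- on a qcqs scheme, every section of a quasi-coherent module over an affine open lifts along a map
from a finitely presented module -/
theorem exists_fp_lift_section [CompactSpace X] [QuasiSeparatedSpace X] (F : X.Modules)
    [F.IsQuasicoherent] {V : X.Opens} (hV : IsAffineOpen V) (s : Γ(F, V)) :
    ∃ (G : X.Modules) (φ : G ⟶ F), CohB1.IsFP G ∧ ∃ t : Γ(G, V), φ.app V t = s := by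
  have hle : V.ι ''ᵁ ⊤ ≤ V := V.ι_image_le ⊤
  have hge : V ≤ V.ι ''ᵁ ⊤ := by rw [Scheme.Opens.ι_image_top]
  let N : (V : Scheme.{u}).Modules := F.restrict V.ι
  let σ : Γ(N, ⊤) := F.presheaf.map (homOfLE hle).op s
  let φ0 : Coh.structureModule (V : Scheme.{u}) ⟶ N := TwistAmple.homOfSec N σ
  obtain ⟨G', φ', e, hG', hcomp⟩ := exists_fp_extension_map F V hV.isCompact _
    (isFP_unit (V : Scheme.{u})) φ0
  refine ⟨G', φ', hG', ?_⟩
  let t' : Γ(G', V.ι ''ᵁ ⊤) := e.inv.app ⊤ (1 : Γ((V : Scheme.{u}), ⊤))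
  have h1 : φ'.app (V.ι ''ᵁ ⊤) t' = σ := by
    have h2 : ((restrictFunctor V.ι).map φ').app ⊤ t' = (e.hom ≫ φ0).app ⊤ t' := by rw [hcomp]
    rw [AdjBC.restrictFunctor_map_app'] at h2
    refine h2.trans ?_
    change φ0.app ⊤ ((e.inv ≫ e.hom).app ⊤ (1 : Γ((V : Scheme.{u}), ⊤))) = σ
    rw [Iso.inv_hom_id]
    change φ0.app ⊤ (1 : Γ((V : Scheme.{u}), ⊤)) = σ
    rw [TwistAmple.homOfSec_app, one_smul]
    change (N.presheaf.map (𝟙 _)) σ = σ
    rw [CategoryTheory.Functor.map_id]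
    rfl
  refine ⟨G'.presheaf.map (homOfLE hge).op t', ?_⟩
  have h3 := QcExt.app_res φ' hge t'
  change φ'.app V (G'.presheaf.map (homOfLE hge).op t') = _ at h3
  rw [h3, h1]
  change (F.presheaf.map (homOfLE hge).op) ((F.presheaf.map (homOfLE hle).op) s) = s
  rw [← ConcreteCategory.comp_apply, ← Functor.map_comp]
  have : (homOfLE hle).op ≫ (homOfLE hge).op = 𝟙 (op V) := Subsingleton.elim _ _
  rw [this, CategoryTheory.Functor.map_id]
  rfl

/-- sections of a binary biproduct of modules -/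
noncomputable def biprodSectionsEquiv (G₁ G₂ : X.Modules) (T : X.Opens) :
    Γ(G₁ ⊞ G₂, T) ≃ₗ[Γ(X, T)] (Γ(G₁, T) × Γ(G₂, T)) where
  toFun s := ((biprod.fst : G₁ ⊞ G₂ ⟶ G₁).app T s, (biprod.snd : G₁ ⊞ G₂ ⟶ G₂).app T s)
  map_add' a b := by simp
  map_smul' r a := by simp [Scheme.Modules.Hom.app_smul]
  invFun p := (biprod.inl : G₁ ⟶ G₁ ⊞ G₂).app T p.1 + (biprod.inr : G₂ ⟶ G₁ ⊞ G₂).app T p.2
  left_inv s := by
    have := congrArg (fun ψ => Scheme.Modules.Hom.app ψ T s) (biprod.total (X := G₁) (Y := G₂))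
    exact this
  right_inv p := by
    obtain ⟨a, b⟩ := p
    have h1 := congrArg (fun ψ => Scheme.Modules.Hom.app ψ T a) (biprod.inl_fst (X := G₁) (Y := G₂))
    have h2 := congrArg (fun ψ => Scheme.Modules.Hom.app ψ T a) (biprod.inl_snd (X := G₁) (Y := G₂))
    have h3 := congrArg (fun ψ => Scheme.Modules.Hom.app ψ T b) (biprod.inr_fst (X := G₁) (Y := G₂))
    have h4 := congrArg (fun ψ => Scheme.Modules.Hom.app ψ T b) (biprod.inr_snd (X := G₁) (Y := G₂))
    simp only [Scheme.Modules.Hom.comp_app, Scheme.Modules.Hom.id_app,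
      Scheme.Modules.Hom.zero_app] at h1 h2 h3 h4
    ext
    · simp only [map_add]
      erw [h1, h3]
      simp
    · simp only [map_add]
      erw [h2, h4]
      simp

/-- a binary biproduct of finitely presented modules is finitely presented -/
theorem isFP_biprod (G₁ G₂ : X.Modules) (h₁ : CohB1.IsFP G₁) (h₂ : CohB1.IsFP G₂) :
    CohB1.IsFP (G₁ ⊞ G₂) := by
  haveI := isQuasicoherent_of_isFP G₁ h₁
  haveI := isQuasicoherent_of_isFP G₂ h₂
  haveI : (G₁ ⊞ G₂).IsQuasicoherent := QcAbel.isQuasicoherent_biprod G₁ G₂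
  rw [Groth.Agent.Lead.FP.isFP_iff_affineOpens]
  intro T hT
  haveI := Groth.Agent.Lead.FP.fp_sections_of_isFP G₁ h₁ hT
  haveI := Groth.Agent.Lead.FP.fp_sections_of_isFP G₂ h₂ hT
  exact Module.FinitePresentation.of_equiv (biprodSectionsEquiv G₁ G₂ T).symm

/-- on a qcqs scheme, finitely many sections of a quasi-coherent module over affine opens lift
simultaneously along a map from a finitely presented module -/
theorem exists_fp_lift_sections [CompactSpace X] [QuasiSeparatedSpace X] (F : X.Modules)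
    [F.IsQuasicoherent] (l : List (Σ V : X.affineOpens, Γ(F, V.1))) :
    ∃ (G : X.Modules) (φ : G ⟶ F), CohB1.IsFP G ∧
      ∀ p ∈ l, ∃ t : Γ(G, p.1.1), φ.app p.1.1 t = p.2 := by
  induction l with
  | nil =>
    obtain ⟨G, φ, hG, -⟩ := exists_fp_lift_section F (isAffineOpen_bot X) (0 : Γ(F, ⊥))
    exact ⟨G, φ, hG, by simp⟩
  | cons p l ih =>
    obtain ⟨G₁, φ₁, hG₁, h₁⟩ := ih
    obtain ⟨G₂, φ₂, hG₂, t₂, ht₂⟩ := exists_fp_lift_section F p.1.2 p.2
    refine ⟨G₂ ⊞ G₁, biprod.desc φ₂ φ₁, isFP_biprod _ _ hG₂ hG₁, ?_⟩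
    intro q hq
    rcases List.mem_cons.1 hq with rfl | hq
    · refine ⟨(biprod.inl : G₂ ⟶ G₂ ⊞ G₁).app _ t₂, ?_⟩
      have := congrArg (fun ψ => Scheme.Modules.Hom.app ψ q.1.1 t₂)
        (biprod.inl_desc (X := G₂) (Y := G₁) φ₂ φ₁)
      exact this.trans ht₂
    · obtain ⟨t₁, ht₁⟩ := h₁ q hq
      refine ⟨(biprod.inr : G₁ ⟶ G₂ ⊞ G₁).app _ t₁, ?_⟩
      have := congrArg (fun ψ => Scheme.Modules.Hom.app ψ q.1.1 t₁)
        (biprod.inr_desc (X := G₂) (Y := G₁) φ₂ φ₁)
      exact this.trans ht₁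

/-- **a quasi-coherent module of finite type on a qcqs scheme is a quotient of a finitely presented
module** -/
theorem exists_fp_epi [CompactSpace X] [QuasiSeparatedSpace X] (F : X.Modules)
    [F.IsQuasicoherent] (hF : CohB1.IsFT F) :
    ∃ (G : X.Modules) (φ : G ⟶ F), CohB1.IsFP G ∧ Epi φ := by
  classical
  obtain ⟨n, V, hV, hcov, -⟩ := SubSh.exists_fin_cover (X := X)
  have hfin : ∀ i, Module.Finite Γ(X, V i) Γ(F, V i) := fun i =>
    Groth.Agent.Lead.FLF.ft_sections F hF (hV i)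
  have hgen : ∀ i, ∃ S : Finset Γ(F, V i), Submodule.span Γ(X, V i) (S : Set Γ(F, V i)) = ⊤ :=
    fun i => (hfin i).fg_top
  choose S hS using hgen
  let l : List (Σ W : X.affineOpens, Γ(F, W.1)) :=
    (List.finRange n).flatMap (fun i => (S i).toList.map (fun s => ⟨⟨V i, hV i⟩, s⟩))
  obtain ⟨G, φ, hG, hl⟩ := exists_fp_lift_sections F l
  refine ⟨G, φ, hG, ?_⟩
  apply epi_of_surjective_cover
  intro x
  have hx : x ∈ (⨆ i, V i : X.Opens) := by rw [hcov]; trivial
  obtain ⟨i, hi⟩ := Opens.mem_iSup.1 hx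
  refine ⟨V i, hV i, hi, ?_⟩
  let L : Γ(G, V i) →ₗ[Γ(X, V i)] Γ(F, V i) :=
    { toFun := φ.app (V i)
      map_add' := map_add _
      map_smul' := fun r x => Scheme.Modules.Hom.app_smul φ r x }
  have hrange : LinearMap.range L = ⊤ := by
    rw [eq_top_iff, ← hS i, Submodule.span_le]
    intro s hs
    have hmem : (⟨⟨V i, hV i⟩, s⟩ : Σ W : X.affineOpens, Γ(F, W.1)) ∈ l := by
      refine List.mem_flatMap.2 ⟨i, List.mem_finRange i, ?_⟩
      exact List.mem_map.2 ⟨s, Finset.mem_toList.2 hs, rfl⟩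
    obtain ⟨t, ht⟩ := hl _ hmem
    exact ⟨t, ht⟩
  intro y
  have hy : y ∈ LinearMap.range L := by rw [hrange]; exact Submodule.mem_top
  obtain ⟨t, ht⟩ := hy
  exact ⟨t, ht⟩

end Groth.Agent.Helper1.FPA
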