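import Mathlib
import Groth.Agent.Lib.Helper1.ArInt1
import Groth.Agent.Lib.Helper1.FPA8
import Groth.Agent.Lib.Helper1.VB4
import Groth.Agent.Lib.Helper4.IdealComap

/-!
# The pullback of an invertible ideal sheaf is the ideal sheaf of the inverse image (helper1)
-/

set_option autoImplicit false
set_option linter.style.haveILetI false
set_option linter.unusedSectionVars false
universe u
open CategoryTheory CategoryTheory.Limits AlgebraicGeometry TopologicalSpace Opposite

namespace Groth.Agent.Helper1.ProdSurf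

open Groth.Agent.Helper1 Groth.Agent.Helper1.ArInt Groth.Agent.Helper1.PullSec
open Groth.Agent.Lead.IdM

section Ext

variable {X Y : Scheme.{u}} (f : X ⟶ Y)

/-- morphisms out of a pullback module are determined by their values on the pulled back
sections -/
theorem hom_ext_σ {M : Y.Modules} {Q : X.Modules}
    (g₁ g₂ : (Scheme.Modules.pullback f).obj M ⟶ Q)
    (h : ∀ (W : Y.Opens) (m : Γ(M, W)),
      g₁.app (f ⁻¹ᵁ W) (σ f M W m) = g₂.app (f ⁻¹ᵁ W) (σ f M W m)) : g₁ = g₂ := by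
  apply ((Scheme.Modules.pullbackPushforwardAdjunction f).homEquiv M Q).injective
  rw [Adjunction.homEquiv_unit, Adjunction.homEquiv_unit]
  apply Scheme.Modules.hom_ext
  intro W
  ext m
  exact h W m

variable (D : Y.IdealSheafData)

theorem app_app_eq_zero {Z' Z : Scheme.{u}} (p : Z' ⟶ X) (q : Z' ⟶ Z) (j : Z ⟶ Y)
    (h : q ≫ j = p ≫ f) (W : Y.Opens) (b : Γ(Y, W)) (hb : (j.app W).hom b = 0) :
    (p.app (f ⁻¹ᵁ W)).hom ((f.app W).hom b) = 0 := by
  have key : ∀ (g : Z' ⟶ Y), q ≫ j = g → (g.app W).hom b = 0 := by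
    intro g hg
    subst hg
    change (q.app (j ⁻¹ᵁ W)).hom ((j.app W).hom b) = 0
    rw [hb, map_zero]
  exact key (p ≫ f) h

theorem φ_σ_toSubscheme (W : Y.Opens) (a : Γ(ClSub.idealMod D, W)) :
    (ClSub.toSubscheme (D.comap f)).app (f ⁻¹ᵁ W)
      ((φ f D).app (f ⁻¹ᵁ W) (σ f (ClSub.idealMod D) W a)) = 0 := by
  rw [φ_σ f D W a]
  change ((D.comap f).subschemeι.app (f ⁻¹ᵁ W)).hom ((f.app W).hom (ιL D W a)) = 0
  exact app_app_eq_zero f (D.comap f).subschemeι
    (Scheme.IdealSheafData.subschemeMap (D.comap f) D f (D.le_map_comap f)) D.subschemeι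
    (Scheme.IdealSheafData.subschemeMap_subschemeι _ _ _ _) W _ (IdealModL.toSubscheme_ι D W a)

theorem φ_comp_toSubscheme : φ f D ≫ ClSub.toSubscheme (D.comap f) = 0 := by
  have key : ∀ (W : Y.Opens) (a : Γ(ClSub.idealMod D, W)),
      (show (Scheme.Modules.pullback f).obj (ClSub.idealMod D) ⟶ ClSub.quotMod (D.comap f) from
        φ f D ≫ ClSub.toSubscheme (D.comap f)).app (f ⁻¹ᵁ W) (σ f (ClSub.idealMod D) W a) =
      (0 : (Scheme.Modules.pullback f).obj (ClSub.idealMod D) ⟶
        ClSub.quotMod (D.comap f)).app (f ⁻¹ᵁ W) (σ f (ClSub.idealMod D) W a) := by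
    intro W a
    have hz : (0 : (Scheme.Modules.pullback f).obj (ClSub.idealMod D) ⟶
        ClSub.quotMod (D.comap f)).app (f ⁻¹ᵁ W) (σ f (ClSub.idealMod D) W a) = 0 := by
      rw [Scheme.Modules.Hom.zero_app]
      rfl
    exact (φ_σ_toSubscheme f D W a).trans hz.symm
  exact hom_ext_σ f (M := ClSub.idealMod D) _ _ key

/-- the comparison morphism from the pulled back ideal to the ideal of the inverse image -/
noncomputable def cmp : P f D ⟶ ClSub.idealMod (D.comap f) :=
  kernel.lift (ClSub.toSubscheme (D.comap f)) (φ f D) (φ_comp_toSubscheme f D)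

theorem cmp_ι : cmp f D ≫ ClSub.idealModι (D.comap f) = φ f D := kernel.lift_ι _ _ _

theorem cmp_app (U : X.Opens) (m : Γ(P f D, U)) :
    (ClSub.idealModι (D.comap f)).app U ((cmp f D).app U m) = (φ f D).app U m := by
  rw [← cmp_ι f D]
  rfl

theorem cmp_app_surjective (U : X.affineOpens) (V : Y.affineOpens) (hUV : U.1 ≤ f ⁻¹ᵁ V.1) :
    Function.Surjective ((cmp f D).app U.1) := by
  intro y
  have hz : ιL (D.comap f) U.1 y ∈ (D.comap f).ideal U := by
    rw [← range_ιL (D.comap f) U]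
    exact ⟨y, rfl⟩
  rw [Groth.Agent.Helper4.IdealComap.ideal_comap_eq_map f D U V hUV] at hz
  let φL : Γ(P f D, U.1) →ₗ[Γ(X, U.1)] Γ(X, U.1) :=
    { toFun := fun m => (φ f D).app U.1 m
      map_add' := fun m m' => map_add ((φ f D).app U.1).hom m m'
      map_smul' := fun r m => Scheme.Modules.Hom.app_smul (φ f D) r m }
  have hle : (D.ideal V).map (f.appLE V.1 U.1 hUV).hom ≤ LinearMap.range φL := by
    apply Ideal.span_le.2
    rintro _ ⟨b, hb, rfl⟩
    have hb' : b ∈ LinearMap.range (ιL D V.1) := by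
      rw [range_ιL D V]
      exact hb
    obtain ⟨a, rfl⟩ := hb'
    refine ⟨QcCech.res (P f D) hUV (σ f (ClSub.idealMod D) V.1 a), ?_⟩
    change (φ f D).app U.1 (QcCech.res (P f D) hUV (σ f (ClSub.idealMod D) V.1 a)) = _
    rw [QcExt.app_res (φ f D) hUV, φ_σ f D V.1 a]
    rfl
  obtain ⟨m, hm⟩ := hle hz
  refine ⟨m, ?_⟩
  apply IdealModL.ι_injective (D.comap f) U.1
  rw [cmp_app]
  exact hm

theorem epi_cmp : Epi (cmp f D) := by
  apply FPA.epi_of_surjective_cover
  intro x
  obtain ⟨_, ⟨V, hV, rfl⟩, hxV, -⟩ :=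
    Y.isBasis_affineOpens.exists_subset_of_mem_open (Set.mem_univ (f.base x)) isOpen_univ
  obtain ⟨_, ⟨U, hU, rfl⟩, hxU, hUV⟩ :=
    X.isBasis_affineOpens.exists_subset_of_mem_open (show x ∈ f ⁻¹ᵁ V from hxV) (f ⁻¹ᵁ V).isOpen
  exact ⟨U, hU, hxU, cmp_app_surjective f D ⟨U, hU⟩ ⟨V, hV⟩ hUV⟩

/-- **the pullback of an invertible ideal sheaf with invertible inverse image ideal** -/
theorem isIso_cmp [IsIntegral X] (hD : PicF.IsInvertible (ClSub.idealMod D))
    (hI : PicF.IsInvertible (ClSub.idealMod (D.comap f))) : IsIso (cmp f D) := by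
  haveI := epi_cmp f D
  have hne : cmp f D ≠ 0 := by
    intro h0
    have hz : IsZero (ClSub.idealMod (D.comap f)) := by
      rw [IsZero.iff_id_eq_zero]
      apply (cancel_epi (cmp f D)).1
      rw [h0, zero_comp, zero_comp]
    exact VB.not_isZero_of_rank_pos X Nat.one_pos (Curve.isFinLocFreeOfRank_one hI) hz
  haveI : Mono (cmp f D) :=
    Curve.mono_of_ne_zero (PullGen.isInvertible_pullback f hD) hI _ hne
  exact isIso_of_mono_of_epi _

theorem nonempty_pullback_iso [IsIntegral X] (hD : PicF.IsInvertible (ClSub.idealMod D))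
    (hI : PicF.IsInvertible (ClSub.idealMod (D.comap f))) :
    Nonempty ((Scheme.Modules.pullback f).obj (ClSub.idealMod D) ≅ ClSub.idealMod (D.comap f)) := by
  haveI := isIso_cmp f D hD hI
  have e : P f D ≅ ClSub.idealMod (D.comap f) := asIso (cmp f D)
  exact ⟨e⟩

end Ext

end Groth.Agent.Helper1.ProdSurf
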