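import Mathlib
import Groth.Agent.Lib.Helper1.ProdSurf1
import Groth.Agent.Lib.Helper1.ProdSurf2
import Groth.Agent.Lib.Helper1.PtDeg2
import Groth.Agent.Lib.Helper1.NumInv2
import Groth.Agent.S8914
import Groth.Agent.S10855

/-!
# Fibre classes of two transversal fibrations on a surface (helper1)

The ideal sheaves of two sections `i₁`, `i₂` which are fibres of two flat morphisms to smooth
proper curves: their intersection numbers.
-/

set_option autoImplicit false
set_option linter.style.haveILetI false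
set_option linter.unusedSectionVars false
universe u
open CategoryTheory CategoryTheory.Limits AlgebraicGeometry TopologicalSpace Opposite

namespace Groth.Agent.Helper1.ProdSurf

open Groth.Agent.Helper1 Groth.Agent.Helper1.Euler Groth.Agent.Helper1.Dv
open Groth.Agent.Helper1.FinLen Groth.Agent.Helper1.TwForm Groth.Agent.Helper1.Curve
open Groth.Agent.Helper1.Snap Groth.Agent.Helper1.SnapPos Groth.Agent.Helper1.FGAInt
open Groth.Agent.Helper1.FGAPos Groth.Agent.Helper1.Kleiman Groth.Agent.Helper1.Big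
open Groth.Agent.Helper1.SurfPos Groth.Agent.Helper1.SurfDual Groth.Agent.Helper1.SurfHodge
open Groth.Agent.Lib.Helper4

section Pt

variable (k : Type u) [Field k] (B : Scheme.{u}) [B.Over (Spec (CommRingCat.of k))]
  [IsProper (B ↘ (Spec (CommRingCat.of k)))] [IsIntegral B]
  [Smooth (B ↘ (Spec (CommRingCat.of k)))]

/-- the ideal sheaf of a rational point on a smooth proper curve is invertible -/
theorem isInvertible_ker_section (hdimB : topologicalKrullDim B = 1)
    (b : Spec (CommRingCat.of k) ⟶ B) (hb : b ≫ (B ↘ Spec (CommRingCat.of k)) = 𝟙 _) :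
    PicF.IsInvertible (ClSub.idealMod b.ker) := by
  haveI : AlgebraicGeometry.IsNoetherian B := isNoetherian_of_proper k B
  haveI : Nonempty ↥(Spec (CommRingCat.of k)) := inferInstanceAs (Nonempty (PrimeSpectrum k))
  obtain ⟨pt⟩ := ‹Nonempty ↥(Spec (CommRingCat.of k))›
  have hcl := PtDeg.isClosed_of_section k b hb pt
  rw [PtDeg.ker_eq_ptIdeal k b pt hcl]
  haveI : IsDomain (B.presheaf.stalk (b pt)) := inferInstance
  haveI : IsNoetherianRing (B.presheaf.stalk (b pt)) := inferInstance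
  have hv : ValuationRing (B.presheaf.stalk (b pt)) :=
    VB5.valuationRing_stalk_of_smooth k (B ↘ Spec (CommRingCat.of k)) hdimB.le (b pt)
  have hpr : (IsLocalRing.maximalIdeal (B.presheaf.stalk (b pt))).IsPrincipal :=
    ((tfae_of_isNoetherianRing_of_isLocalRing_of_isDomain
      (R := B.presheaf.stalk (b pt))).out 1 4).1 hv
  exact PtInv.isInvertible_ptIdeal (b pt) hcl hpr (PtInv.maximalIdeal_ne_bot B hdimB (b pt) hcl)

/-- the ideal sheaf of a rational point has degree `-1` -/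
theorem deg_ker_section
    (b : Spec (CommRingCat.of k) ⟶ B) (hb : b ≫ (B ↘ Spec (CommRingCat.of k)) = 𝟙 _) :
    Curv2.deg k B (ClSub.idealMod b.ker) 1 = -1 := by
  haveI : Nonempty ↥(Spec (CommRingCat.of k)) := inferInstanceAs (Nonempty (PrimeSpectrum k))
  obtain ⟨pt⟩ := ‹Nonempty ↥(Spec (CommRingCat.of k))›
  have hcl := PtDeg.isClosed_of_section k b hb pt
  rw [PtDeg.ker_eq_ptIdeal k b pt hcl, PtDeg.deg_ptIdeal' k B (b pt) hcl,
    PtDeg.finrank_residueField_of_section k b hb pt]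
  norm_num

/-- the degree in the sense of `Pic13.curveDeg` -/
theorem curveDeg_eq_deg' (hd : topologicalKrullDim B = 1) (M : B.Modules) :
    Pic13.curveDeg k (B ↘ Spec (CommRingCat.of k)) M = Curv2.deg k B M 1 := by
  haveI : AlgebraicGeometry.IsNoetherian B := isNoetherian_of_proper k B
  have hd' : topologicalKrullDim B ≤ ((1 : ℕ) : WithBot ℕ∞) := by
    rw [hd]; exact le_of_eq Nat.cast_one.symm
  unfold Pic13.curveDeg Curv2.deg
  change FGA.eulerCharLE k B M 1 - FGA.eulerCharLE k B (Coh.structureModule B) 1 = _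
  rw [FGAInt.eulerCharLE_eq_euler k B 1 hd' M, FGAInt.eulerCharLE_eq_euler k B 1 hd' _]
  simp

theorem deg_iso' {M N : B.Modules} (e : M ≅ N) : Curv2.deg k B M 1 = Curv2.deg k B N 1 := by
  unfold Curv2.deg
  rw [Euler.euler_iso k B e]

end Pt

section Pull

variable {Γ X B : Scheme.{u}}

theorem isInvertible_comap (p : X ⟶ B) [Flat p] (J : B.IdealSheafData)
    (hJ : PicF.IsInvertible (ClSub.idealMod J)) :
    PicF.IsInvertible (ClSub.idealMod (J.comap p)) :=
  (Groth.Agent.S8914.result _).2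
    (Groth.Agent.S10855.result p J ((Groth.Agent.S8914.result J).1 hJ))

theorem nonempty_pullback_comap_iso [IsIntegral X] (p : X ⟶ B) [Flat p] (J : B.IdealSheafData)
    (hJ : PicF.IsInvertible (ClSub.idealMod J)) (j : Γ ⟶ X) :
    Nonempty ((Scheme.Modules.pullback j).obj (ClSub.idealMod (J.comap p)) ≅
      (Scheme.Modules.pullback (j ≫ p)).obj (ClSub.idealMod J)) := by
  obtain ⟨e⟩ := nonempty_pullback_iso p J hJ (isInvertible_comap p J hJ)
  exact ⟨(Scheme.Modules.pullback j).mapIso e.symm ≪≫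
    (Scheme.Modules.pullbackComp j p).app (ClSub.idealMod J)⟩

end Pull

section K

variable (k : Type u) [Field k] (X : Scheme.{u}) [X.Over (Spec (CommRingCat.of k))]
  [IsProper (X ↘ (Spec (CommRingCat.of k)))] [IsIntegral X]

/-- the intersection number with the ideal sheaf of a closed curve which is a Cartier divisor -/
theorem intNum_idealMod_ker (hdim : topologicalKrullDim X = 2) {Γ : Scheme.{u}} (c : Γ ⟶ X)
    [IsClosedImmersion c] (hΓ : topologicalKrullDim Γ ≤ ((1 : ℕ) : WithBot ℕ∞))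
    (hI : PicF.IsInvertible (ClSub.idealMod c.ker)) (Z : X.Modules) (hZ : PicF.IsInvertible Z) :
    FGA.intNum k X 2 ![Z, ClSub.idealMod c.ker] (Coh.structureModule X) =
      - Pic13.curveDeg k (c ≫ (X ↘ Spec (CommRingCat.of k)))
        ((Scheme.Modules.pullback c).obj Z) := by
  haveI : AlgebraicGeometry.IsNoetherian X := isNoetherian_of_proper k X
  rw [NumEq.curveDeg_eq_lam_quot k X c hΓ Z hZ, intNum_eq_pair k X hdim Z _ hZ hI, lam_apply,
    pow_one]
  have hOc : Coh.IsCoh (Coh.structureModule X) := isCoh_structureModule X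
  have hIc : Coh.IsCoh (ClSub.idealMod c.ker) := CurveDual.isCoh_idealMod c.ker
  have hQc : Coh.IsCoh (ClSub.quotMod c.ker) := CurveDual.isCoh_quotMod c.ker
  have hses := clSub_ses (IdealModL.S c.ker) (CurveDual.shortExact_S c.ker) hIc hOc hQc
  change KZero.clSub (PC X) (Coh.structureModule X) =
    KZero.clSub (PC X) (ClSub.idealMod c.ker) + KZero.clSub (PC X) (ClSub.quotMod c.ker) at hses
  have hT : T (ClSub.idealMod c.ker) hI (KZero.clSub (PC X) (Coh.structureModule X)) =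
      KZero.clSub (PC X) (ClSub.idealMod c.ker) := by
    rw [T_clSub _ hI _ hOc]
    exact clSub_iso (Groth.Agent.Lib.Helper5.LTenFlf.tensorUnitIso _).symm hIc
  have h1 : (T (ClSub.idealMod c.ker) hI - 1) (KZero.clSub (PC X) (Coh.structureModule X)) =
      - KZero.clSub (PC X) (ClSub.quotMod c.ker) := by
    change T (ClSub.idealMod c.ker) hI (KZero.clSub (PC X) (Coh.structureModule X)) -
      KZero.clSub (PC X) (Coh.structureModule X) = _
    rw [hT, hses]
    abel
  have hc : Commute (T (ClSub.idealMod c.ker) hI - 1) (T Z hZ - 1) :=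
    ((T_comm _ Z hI hZ).sub_left (Commute.one_left _)).sub_right (Commute.one_right _)
  have h2 : (T (ClSub.idealMod c.ker) hI - 1)
      ((T Z hZ - 1) (KZero.clSub (PC X) (Coh.structureModule X))) =
      (T Z hZ - 1) ((T (ClSub.idealMod c.ker) hI - 1)
        (KZero.clSub (PC X) (Coh.structureModule X))) :=
    congrArg (fun g : AddMonoid.End (KZero.K0sub (PC X)) =>
      g (KZero.clSub (PC X) (Coh.structureModule X))) hc.eq
  rw [h2, h1, map_neg, map_neg]

end K

section Core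

variable (k : Type u) [Field k] (X : Scheme.{u}) [X.Over (Spec (CommRingCat.of k))]
  [IsProper (X ↘ (Spec (CommRingCat.of k)))] [IsIntegral X]
  (C₁ C₂ : Scheme.{u}) [C₁.Over (Spec (CommRingCat.of k))] [C₂.Over (Spec (CommRingCat.of k))]
  [IsProper (C₁ ↘ (Spec (CommRingCat.of k)))] [IsProper (C₂ ↘ (Spec (CommRingCat.of k)))]
  [IsIntegral C₁] [IsIntegral C₂]
  [Smooth (C₁ ↘ (Spec (CommRingCat.of k)))] [Smooth (C₂ ↘ (Spec (CommRingCat.of k)))]

/-- the pullback of a fibre class to a curve contracted by the fibration is trivial -/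
theorem deg_pullback_of_const (_hd₁ : topologicalKrullDim C₁ = 1)
    (hd₂ : topologicalKrullDim C₂ = 1)
    (y : Spec (CommRingCat.of k) ⟶ C₂) (hy : y ≫ (C₂ ↘ Spec (CommRingCat.of k)) = 𝟙 _)
    (p₂ : X ⟶ C₂) [Flat p₂] (i₁ : C₁ ⟶ X)
    (h12 : i₁ ≫ p₂ = (C₁ ↘ Spec (CommRingCat.of k)) ≫ y) :
    Curv2.deg k C₁ ((Scheme.Modules.pullback i₁).obj (ClSub.idealMod (y.ker.comap p₂))) 1 = 0 := by
  have hJ := isInvertible_ker_section k C₂ hd₂ y hy
  obtain ⟨e⟩ := nonempty_pullback_comap_iso p₂ y.ker hJ i₁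
  have hconst : ∀ a a' : C₁, (i₁ ≫ p₂).base a = (i₁ ≫ p₂).base a' := by
    intro a a'
    rw [h12]
    haveI : Subsingleton ↥(Spec (CommRingCat.of k)) :=
      inferInstanceAs (Subsingleton (PrimeSpectrum k))
    change y.base ((C₁ ↘ Spec (CommRingCat.of k)).base a) =
      y.base ((C₁ ↘ Spec (CommRingCat.of k)).base a')
    rw [Subsingleton.elim ((C₁ ↘ Spec (CommRingCat.of k)).base a)
      ((C₁ ↘ Spec (CommRingCat.of k)).base a')]
  obtain ⟨e2⟩ := NumInv.nonempty_iso_of_constant (i₁ ≫ p₂) hconst _ hJ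
  rw [deg_iso' k C₁ (e ≪≫ e2.symm)]
  exact Curve.deg_structureModule k C₁

/-- the pullback of a fibre class to a section of the fibration has degree `-1` -/
theorem deg_pullback_of_section (hd₂ : topologicalKrullDim C₂ = 1)
    (y : Spec (CommRingCat.of k) ⟶ C₂) (hy : y ≫ (C₂ ↘ Spec (CommRingCat.of k)) = 𝟙 _)
    (p₂ : X ⟶ C₂) [Flat p₂] (i₂ : C₂ ⟶ X) (h22 : i₂ ≫ p₂ = 𝟙 C₂) :
    Curv2.deg k C₂ ((Scheme.Modules.pullback i₂).obj (ClSub.idealMod (y.ker.comap p₂))) 1 = -1 := by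
  have hJ := isInvertible_ker_section k C₂ hd₂ y hy
  obtain ⟨e⟩ := nonempty_pullback_comap_iso p₂ y.ker hJ i₂
  have e2 : (Scheme.Modules.pullback (i₂ ≫ p₂)).obj (ClSub.idealMod y.ker) ≅
      ClSub.idealMod y.ker :=
    (Scheme.Modules.pullbackCongr h22).app _ ≪≫ (Scheme.Modules.pullbackId C₂).app _
  rw [deg_iso' k C₂ (e ≪≫ e2)]
  exact deg_ker_section k C₂ y hy

/-- **the fibre classes of two transversal fibrations** -/
theorem classes_of_fibrations (hdim : topologicalKrullDim X = 2)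
    (hd₁ : topologicalKrullDim C₁ = 1) (hd₂ : topologicalKrullDim C₂ = 1)
    (x : Spec (CommRingCat.of k) ⟶ C₁) (hx : x ≫ (C₁ ↘ Spec (CommRingCat.of k)) = 𝟙 _)
    (y : Spec (CommRingCat.of k) ⟶ C₂) (hy : y ≫ (C₂ ↘ Spec (CommRingCat.of k)) = 𝟙 _)
    (p₁ : X ⟶ C₁) (p₂ : X ⟶ C₂) [Flat p₁] [Flat p₂]
    (i₁ : C₁ ⟶ X) (i₂ : C₂ ⟶ X) [IsClosedImmersion i₁] [IsClosedImmersion i₂]
    (hi₁X : i₁ ≫ (X ↘ Spec (CommRingCat.of k)) = C₁ ↘ Spec (CommRingCat.of k))
    (hi₂X : i₂ ≫ (X ↘ Spec (CommRingCat.of k)) = C₂ ↘ Spec (CommRingCat.of k))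
    (_h11 : i₁ ≫ p₁ = 𝟙 C₁) (h12 : i₁ ≫ p₂ = (C₁ ↘ Spec (CommRingCat.of k)) ≫ y)
    (h22 : i₂ ≫ p₂ = 𝟙 C₂) (h21 : i₂ ≫ p₁ = (C₂ ↘ Spec (CommRingCat.of k)) ≫ x)
    (hk₁ : i₁.ker = y.ker.comap p₂) (hk₂ : i₂.ker = x.ker.comap p₁) :
    ∃ P Q : X.Modules, PicF.IsInvertible P ∧ PicF.IsInvertible Q ∧
      FGA.intNum k X 2 ![P, P] (Coh.structureModule X) = 0 ∧
      FGA.intNum k X 2 ![Q, Q] (Coh.structureModule X) = 0 ∧
      FGA.intNum k X 2 ![P, Q] (Coh.structureModule X) = 1 ∧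
      ∀ Z : X.Modules, PicF.IsInvertible Z →
        FGA.intNum k X 2 ![Z, P] (Coh.structureModule X) =
          - Curv2.deg k C₁ ((Scheme.Modules.pullback i₁).obj Z) 1 ∧
        FGA.intNum k X 2 ![Z, Q] (Coh.structureModule X) =
          - Curv2.deg k C₂ ((Scheme.Modules.pullback i₂).obj Z) 1 := by
  have hJy := isInvertible_ker_section k C₂ hd₂ y hy
  have hJx := isInvertible_ker_section k C₁ hd₁ x hx
  have hP := isInvertible_comap p₂ y.ker hJy
  have hQ := isInvertible_comap p₁ x.ker hJx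
  have hd₁' : topologicalKrullDim C₁ ≤ ((1 : ℕ) : WithBot ℕ∞) := by
    rw [hd₁]; exact le_of_eq Nat.cast_one.symm
  have hd₂' : topologicalKrullDim C₂ ≤ ((1 : ℕ) : WithBot ℕ∞) := by
    rw [hd₂]; exact le_of_eq Nat.cast_one.symm
  have hI₁ : PicF.IsInvertible (ClSub.idealMod i₁.ker) := by rw [hk₁]; exact hP
  have hI₂ : PicF.IsInvertible (ClSub.idealMod i₂.ker) := by rw [hk₂]; exact hQ
  have fP : ∀ Z : X.Modules, PicF.IsInvertible Z →
      FGA.intNum k X 2 ![Z, ClSub.idealMod (y.ker.comap p₂)] (Coh.structureModule X) =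
        - Curv2.deg k C₁ ((Scheme.Modules.pullback i₁).obj Z) 1 := by
    intro Z hZ
    have h := intNum_idealMod_ker k X hdim i₁ hd₁' hI₁ Z hZ
    rw [hk₁, hi₁X, curveDeg_eq_deg' k C₁ hd₁] at h
    exact h
  have fQ : ∀ Z : X.Modules, PicF.IsInvertible Z →
      FGA.intNum k X 2 ![Z, ClSub.idealMod (x.ker.comap p₁)] (Coh.structureModule X) =
        - Curv2.deg k C₂ ((Scheme.Modules.pullback i₂).obj Z) 1 := by
    intro Z hZ
    have h := intNum_idealMod_ker k X hdim i₂ hd₂' hI₂ Z hZ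
    rw [hk₂, hi₂X, curveDeg_eq_deg' k C₂ hd₂] at h
    exact h
  refine ⟨ClSub.idealMod (y.ker.comap p₂), ClSub.idealMod (x.ker.comap p₁), hP, hQ, ?_, ?_, ?_,
    fun Z hZ => ⟨fP Z hZ, fQ Z hZ⟩⟩
  · rw [fP _ hP, deg_pullback_of_const k X C₁ C₂ hd₁ hd₂ y hy p₂ i₁ h12]
    simp
  · rw [fQ _ hQ, deg_pullback_of_const k X C₂ C₁ hd₂ hd₁ x hx p₁ i₂ h21]
    simp
  · rw [fQ _ hP, deg_pullback_of_section k X C₂ hd₂ y hy p₂ i₂ h22]
    simp

end Core

end Groth.Agent.Helper1.ProdSurf
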