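import Mathlib
import Groth.Agent.Lib.Helper1.ProdSurf3
import Groth.Agent.Lib.Helper1.GenusOne2
import Groth.Agent.Lib.Helper4.DedekindOpen1
import Groth.Agent.Lib.Helper1.VA5

/-!
# Ruled surfaces: the classes of a section and of a fibre (helper1)

* `intNum_two_expand`: the four terms of the intersection number of two modules;
* `intNum_ideal_inv`: `(I_D · F) = χ(O_D) - χ(F ⊗ O_D)` for an arbitrary closed subscheme `D` and an
  invertible module `F` on a proper surface;
* `ruled_main`: `C₀.f = 1` and `f² = 0` for a section `C₀` and a closed fibre `f` of a surjective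
  morphism from a proper integral surface onto a regular proper curve.
-/

set_option autoImplicit false
set_option linter.style.haveILetI false
set_option linter.unusedSectionVars false
universe u
open CategoryTheory CategoryTheory.Limits AlgebraicGeometry TopologicalSpace Opposite

namespace Groth.Agent.Helper1.RuledSurf

open Groth.Agent.Helper1 Groth.Agent.Helper1.Euler Groth.Agent.Helper1.Dv
open Groth.Agent.Helper1.FinLen Groth.Agent.Helper1.TwForm Groth.Agent.Helper1.Curve
open Groth.Agent.Helper1.Snap Groth.Agent.Helper1.SnapPos Groth.Agent.Helper1.FGAInt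
open Groth.Agent.Helper1.FGAPos Groth.Agent.Helper1.Kleiman Groth.Agent.Helper1.Big
open Groth.Agent.Helper1.SurfPos Groth.Agent.Helper1.SurfDual Groth.Agent.Helper1.SurfHodge
open Groth.Agent.Lib.Helper4 Groth.Agent.Helper1.ProdSurf
open Groth.Agent.Helper1.CurveDual

theorem sort_pair : ({0, 1} : Finset (Fin 2)).sort (· ≤ ·) = [0, 1] := by
  rw [Finset.sort_insert (r := (· ≤ ·)) (by decide) (by decide), Finset.sort_singleton]

theorem le_one_of_add_one_le_two (a : WithBot ℕ∞) (h : a + 1 ≤ 2) :
    a ≤ ((1 : ℕ) : WithBot ℕ∞) := by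
  cases a with
  | bot => exact bot_le
  | coe m =>
    cases m with
    | top =>
      exfalso
      have h2 : ((⊤ : ℕ∞) : WithBot ℕ∞) + ((1 : ℕ∞) : WithBot ℕ∞) ≤ ((2 : ℕ∞) : WithBot ℕ∞) := h
      rw [← WithBot.coe_add, WithBot.coe_le_coe, top_add] at h2
      simp at h2
    | coe n =>
      have h2 : (((n : ℕ∞)) : WithBot ℕ∞) + ((1 : ℕ∞) : WithBot ℕ∞) ≤
          ((2 : ℕ∞) : WithBot ℕ∞) := h
      rw [← WithBot.coe_add, WithBot.coe_le_coe] at h2
      have h'' : n + 1 ≤ 2 := by exact_mod_cast h2
      have h3 : n ≤ 1 := by omega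
      exact_mod_cast h3

section Expand

variable (k : Type u) [Field k] (X : Scheme.{u}) [X.Over (Spec (CommRingCat.of k))]

/-- the four terms of the intersection number of two modules -/
theorem intNum_two_expand (A B G : X.Modules) (d : ℕ) :
    FGA.intNum k X d ![A, B] G =
      FGA.eulerCharLE k X (CohB1.tensorMod (Coh.structureModule X) G) d
      - FGA.eulerCharLE k X (CohB1.tensorMod (CohB1.tensorMod A (Coh.structureModule X)) G) d
      - FGA.eulerCharLE k X (CohB1.tensorMod (CohB1.tensorMod B (Coh.structureModule X)) G) d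
      + FGA.eulerCharLE k X (CohB1.tensorMod
          (CohB1.tensorMod A (CohB1.tensorMod B (Coh.structureModule X))) G) d := by
  unfold FGA.intNum
  have hU : (Finset.univ : Finset (Finset (Fin 2))) = {∅, {0}, {1}, {0, 1}} := by decide
  have s0 : (∅ : Finset (Fin 2)).sort (· ≤ ·) = [] := by simp
  have s1 : ({0} : Finset (Fin 2)).sort (· ≤ ·) = [0] := by simp
  have s2 : ({1} : Finset (Fin 2)).sort (· ≤ ·) = [1] := by simp
  have c0 : (∅ : Finset (Fin 2)).card = 0 := rfl
  have c1 : ({0} : Finset (Fin 2)).card = 1 := rfl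
  have c2 : ({1} : Finset (Fin 2)).card = 1 := rfl
  have c3 : ({0, 1} : Finset (Fin 2)).card = 2 := rfl
  rw [hU, Finset.sum_insert (by decide), Finset.sum_insert (by decide),
    Finset.sum_insert (by decide), Finset.sum_singleton, sort_pair, s0, s1, s2, c0, c1, c2, c3]
  have t0 : FGA.tensorList (List.map ![A, B] []) = Coh.structureModule X := rfl
  have t1 : FGA.tensorList (List.map ![A, B] [0]) = CohB1.tensorMod A (Coh.structureModule X) := rfl
  have t2 : FGA.tensorList (List.map ![A, B] [1]) = CohB1.tensorMod B (Coh.structureModule X) := rfl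
  have t3 : FGA.tensorList (List.map ![A, B] [0, 1]) =
    CohB1.tensorMod A (CohB1.tensorMod B (Coh.structureModule X)) := rfl
  rw [t0, t1, t2, t3]
  ring

variable [IsProper (X ↘ (Spec (CommRingCat.of k)))]

/-- `(I_D · F) = χ(O_D) - χ(F ⊗ O_D)` for an arbitrary closed subscheme `D` of a proper surface and
an invertible module `F` -/
theorem intNum_ideal_inv (hdim : topologicalKrullDim X ≤ ((2 : ℕ) : WithBot ℕ∞))
    (D : X.IdealSheafData) (F : X.Modules) (hF : PicF.IsInvertible F) :
    haveI : AlgebraicGeometry.IsNoetherian X := isNoetherian_of_proper k X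
    FGA.intNum k X 2 ![ClSub.idealMod D, F] (Coh.structureModule X) =
      - lam k X F hF 1 (KZero.clSub (PC X) (ClSub.quotMod D)) := by
  haveI : AlgebraicGeometry.IsNoetherian X := isNoetherian_of_proper k X
  have hOc : Coh.IsCoh (Coh.structureModule X) := isCoh_structureModule X
  have hIc : Coh.IsCoh (ClSub.idealMod D) := CurveDual.isCoh_idealMod D
  have hQc : Coh.IsCoh (ClSub.quotMod D) := CurveDual.isCoh_quotMod D
  have hFc : Coh.IsCoh F := InvQc.isCoh_of_isInvertible _ hF
  have hses := clSub_ses (IdealModL.S D) (CurveDual.shortExact_S D) hIc hOc hQc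
  change KZero.clSub (PC X) (Coh.structureModule X) =
    KZero.clSub (PC X) (ClSub.idealMod D) + KZero.clSub (PC X) (ClSub.quotMod D) at hses
  have e0 : CohB1.tensorMod (Coh.structureModule X) (Coh.structureModule X) ≅
      Coh.structureModule X :=
    Groth.Agent.Lib.Helper5.LTenFlf.tensorUnitIso (Coh.structureModule X)
  have eA : CohB1.tensorMod (CohB1.tensorMod (ClSub.idealMod D) (Coh.structureModule X))
      (Coh.structureModule X) ≅ ClSub.idealMod D :=
    Groth.Agent.Lib.Helper5.LTenFlf.tensorUnitIso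
        (CohB1.tensorMod (ClSub.idealMod D) (Coh.structureModule X)) ≪≫
      Groth.Agent.Lib.Helper5.LTenFlf.tensorUnitIso (ClSub.idealMod D)
  have eF : CohB1.tensorMod (CohB1.tensorMod F (Coh.structureModule X))
      (Coh.structureModule X) ≅ CohB1.tensorMod (Coh.structureModule X) F :=
    Groth.Agent.Lib.Helper5.LTenFlf.tensorUnitIso
        (CohB1.tensorMod F (Coh.structureModule X)) ≪≫
      TildeTens.tensorModComm F (Coh.structureModule X)
  have eAF : CohB1.tensorMod (CohB1.tensorMod (ClSub.idealMod D)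
      (CohB1.tensorMod F (Coh.structureModule X))) (Coh.structureModule X) ≅
      CohB1.tensorMod (ClSub.idealMod D) F :=
    Groth.Agent.Lib.Helper5.LTenFlf.tensorUnitIso
        (CohB1.tensorMod (ClSub.idealMod D) (CohB1.tensorMod F (Coh.structureModule X))) ≪≫
      TwistTens.tensorModCongrRight (ClSub.idealMod D)
        (Groth.Agent.Lib.Helper5.LTenFlf.tensorUnitIso F)
  rw [intNum_two_expand, eulerCharLE_eq_euler k X 2 hdim, eulerCharLE_eq_euler k X 2 hdim,
    eulerCharLE_eq_euler k X 2 hdim, eulerCharLE_eq_euler k X 2 hdim,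
    euler_iso k X e0, euler_iso k X eA, euler_iso k X eF, euler_iso k X eAF,
    ← eulerHom_clSub k X _ hOc, ← eulerHom_clSub k X _ hIc,
    ← eulerHom_clSub k X _ (Euler.isCoh_tensor _ _ hOc hFc),
    ← eulerHom_clSub k X _ (Euler.isCoh_tensor _ _ hIc hFc),
    ← T_clSub' F hF _ hOc, ← T_clSub' F hF _ hIc, lam_apply, pow_one]
  obtain ⟨a, ha⟩ : ∃ a, a = KZero.clSub (PC X) (ClSub.idealMod D) := ⟨_, rfl⟩
  obtain ⟨q, hq⟩ : ∃ q, q = KZero.clSub (PC X) (ClSub.quotMod D) := ⟨_, rfl⟩
  rw [← ha, ← hq] at hses
  rw [← ha, ← hq, hses]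
  have h1 : (T F hF - 1) q = T F hF q - q := rfl
  rw [h1]
  simp only [map_add, map_sub]
  ring

end Expand

section Pt

variable (k : Type u) [Field k] (B : Scheme.{u}) [B.Over (Spec (CommRingCat.of k))]
  [IsProper (B ↘ (Spec (CommRingCat.of k)))]

/-- the degree in the sense of `Pic13.curveDeg` -/
theorem curveDeg_eq_deg (hd : topologicalKrullDim B = 1) (M : B.Modules) :
    Pic13.curveDeg k (B ↘ Spec (CommRingCat.of k)) M = Curv2.deg k B M 1 := by
  haveI : AlgebraicGeometry.IsNoetherian B := isNoetherian_of_proper k B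
  have hd' : topologicalKrullDim B ≤ ((1 : ℕ) : WithBot ℕ∞) := by
    rw [hd]; exact le_of_eq Nat.cast_one.symm
  unfold Pic13.curveDeg Curv2.deg
  change FGA.eulerCharLE k B M 1 - FGA.eulerCharLE k B (Coh.structureModule B) 1 = _
  rw [FGAInt.eulerCharLE_eq_euler k B 1 hd' M, FGAInt.eulerCharLE_eq_euler k B 1 hd' _]
  simp

end Pt

section Main

variable (k : Type u) [Field k] [IsAlgClosed k] (X : Scheme.{u}) [X.Over (Spec (CommRingCat.of k))]
  [IsProper (X ↘ (Spec (CommRingCat.of k)))] [IsIntegral X]
  (C : Scheme.{u}) [C.Over (Spec (CommRingCat.of k))]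
  [IsProper (C ↘ (Spec (CommRingCat.of k)))] [IsIntegral C]

attribute [local instance] Curv2.resAlgebra

/-- **ruled surfaces**: `C₀.f = 1` and `f² = 0` -/
theorem ruled_main (hdim : topologicalKrullDim X = 2) (hdimC : topologicalKrullDim C = 1)
    (hregC : ∀ x : C, IsRegularLocalRing (C.presheaf.stalk x))
    (π : X ⟶ C)
    (hπ : π ≫ (C ↘ (Spec (CommRingCat.of k))) = (X ↘ (Spec (CommRingCat.of k))))
    (hsurj : Function.Surjective π) (σ : C ⟶ X) (hσ : σ ≫ π = 𝟙 C)
    (y : C) (hy : IsClosed ({y} : Set C)) :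
    FGA.intNum k X 2 ![ClSub.idealMod σ.ker,
        (ClSub.idealMod ((Scheme.IdealSheafData.vanishingIdeal ⟨{y}, hy⟩).comap π))]
        (Coh.structureModule X) = 1 ∧
      FGA.intNum k X 2 ![(ClSub.idealMod ((Scheme.IdealSheafData.vanishingIdeal ⟨{y}, hy⟩).comap π)),
        (ClSub.idealMod ((Scheme.IdealSheafData.vanishingIdeal ⟨{y}, hy⟩).comap π))]
        (Coh.structureModule X) = 0 := by
  haveI : AlgebraicGeometry.IsNoetherian X := isNoetherian_of_proper k X
  haveI : AlgebraicGeometry.IsNoetherian C := isNoetherian_of_proper k C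
  change FGA.intNum k X 2 ![ClSub.idealMod σ.ker, ClSub.idealMod ((ptIdeal y hy).comap π)]
      (Coh.structureModule X) = 1 ∧
    FGA.intNum k X 2 ![ClSub.idealMod ((ptIdeal y hy).comap π),
      ClSub.idealMod ((ptIdeal y hy).comap π)] (Coh.structureModule X) = 0
  obtain ⟨J, hJdef⟩ : ∃ J, J = ptIdeal y hy := ⟨_, rfl⟩
  rw [← hJdef]
  have hJ : PicF.IsInvertible (ClSub.idealMod J) := by
    rw [hJdef]
    exact GenusOne.isInvertible_ptIdeal_of_regular k C hdimC y hy (hregC y)
  have hJsupp : (J.support : Set C) = {y} := by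
    rw [hJdef]
    exact ptIdeal_support y hy
  -- the rational point
  let b : Spec (CommRingCat.of k) ⟶ C :=
    pointOfClosedPoint (C ↘ Spec (CommRingCat.of k)) y hy
  have hb : b ≫ (C ↘ Spec (CommRingCat.of k)) = 𝟙 _ := pointOfClosedPoint_comp _ _ _
  haveI : Nonempty ↥(Spec (CommRingCat.of k)) := inferInstanceAs (Nonempty (PrimeSpectrum k))
  obtain ⟨pt⟩ := ‹Nonempty ↥(Spec (CommRingCat.of k))›
  have hbpt : b pt = y := pointOfClosedPoint_apply _ _ _ pt
  have hfin : Module.finrank k (C.residueField y) = 1 := by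
    have h1 := PtDeg.finrank_residueField_of_section k b hb pt
    have key : ∀ z : C, z = y → Module.finrank k (C.residueField z) = 1 →
        Module.finrank k (C.residueField y) = 1 := by
      intro z hz h
      subst hz
      exact h
    exact key _ hbpt h1
  have hdegJ : Curv2.deg k C (ClSub.idealMod J) 1 = -1 := by
    rw [hJdef, PtDeg.deg_ptIdeal' k C y hy, hfin]
    norm_num
  -- flatness
  have hgen : π.base (genericPoint X) = genericPoint C := by
    have h1 : IsGenericPoint (π.base (genericPoint X)) (closure (π.base '' (⊤ : Set X))) :=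
      (genericPoint_spec X).image π.continuous
    have h2 : closure (π.base '' (⊤ : Set X)) = ⊤ := by
      rw [Set.top_eq_univ, Set.image_univ, hsurj.range_eq, closure_univ]
      rfl
    rw [h2] at h1
    exact h1.eq (genericPoint_spec C)
  haveI hflat : Flat π := by
    refine DedekindOpen1.flat_of_dominant_dedekind π hgen (fun c => ?_)
    haveI := hregC c
    exact (DedekindOpen1.isDedekindDomain_of_regular _
      (VB5.ringKrullDim_stalk_le hdimC.le c)).2
  have hFf : PicF.IsInvertible (ClSub.idealMod (J.comap π)) := isInvertible_comap π J hJ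
  have hd2' : topologicalKrullDim X = ((2 : ℕ) : WithBot ℕ∞) := by
    rw [hdim]; rfl
  have hd2 := hd2'.le
  have hC1 : topologicalKrullDim C ≤ ((1 : ℕ) : WithBot ℕ∞) := by
    rw [hdimC]; exact le_of_eq Nat.cast_one.symm
  have hσX : σ ≫ (X ↘ Spec (CommRingCat.of k)) = (C ↘ Spec (CommRingCat.of k)) := by
    rw [← hπ, ← Category.assoc, hσ, Category.id_comp]
  haveI : IsSeparated π := by
    haveI : IsSeparated (π ≫ (C ↘ Spec (CommRingCat.of k))) := by
      rw [hπ]; infer_instance
    exact IsSeparated.of_comp π (C ↘ Spec (CommRingCat.of k))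
  haveI : IsClosedImmersion σ := by
    haveI : IsClosedImmersion (σ ≫ π) := by
      rw [hσ]; infer_instance
    exact IsClosedImmersion.of_comp σ π
  have hyne : y ≠ genericPoint C := by
    intro h
    apply PtInv.maximalIdeal_ne_bot C hdimC y hy
    have hF : IsField (C.presheaf.stalk (genericPoint C)) := Field.toIsField C.functionField
    have key : ∀ z : C, z = genericPoint C →
        IsLocalRing.maximalIdeal (C.presheaf.stalk z) = ⊥ := by
      intro z hz
      subst hz
      exact IsLocalRing.isField_iff_maximalIdeal_eq.1 hF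
    exact key y h
  refine ⟨?_, ?_⟩
  · rw [intNum_ideal_inv k X hd2 σ.ker _ hFf, ← NumEq.curveDeg_eq_lam_quot k X σ hC1 _ hFf]
    obtain ⟨e⟩ := nonempty_pullback_comap_iso π J hJ σ
    have e2 : (Scheme.Modules.pullback (σ ≫ π)).obj (ClSub.idealMod J) ≅ ClSub.idealMod J :=
      (Scheme.Modules.pullbackCongr hσ).app _ ≪≫ (Scheme.Modules.pullbackId C).app _
    rw [Kleiman.curveDeg_iso k _ (e ≪≫ e2)]
    have key : ∀ p : C ⟶ Spec (CommRingCat.of k), p = (C ↘ Spec (CommRingCat.of k)) →
        Pic13.curveDeg k p (ClSub.idealMod J) = -1 := by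
      intro p hp
      subst hp
      rw [curveDeg_eq_deg k C hdimC, hdegJ]
    rw [key _ hσX]
    norm_num
  · obtain ⟨c, hc⟩ : ∃ c : (J.comap π).subscheme ⟶ X, c = (J.comap π).subschemeι := ⟨_, rfl⟩
    haveI : IsClosedImmersion c := by
      rw [hc]; infer_instance
    have hk : c.ker = J.comap π := by
      rw [hc]; exact (J.comap π).ker_subschemeι
    have hrange : Set.range c = π ⁻¹' {y} := by
      rw [hc, Scheme.IdealSheafData.range_subschemeι, Scheme.IdealSheafData.support_comap,
        TopologicalSpace.Closeds.coe_preimage, hJsupp]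
    obtain ⟨x₀, hx₀⟩ := hsurj y
    haveI : Nonempty ↥(J.comap π).subscheme := by
      have h0 : x₀ ∈ Set.range c := by
        rw [hrange]; exact hx₀
      obtain ⟨a, _⟩ := h0
      exact ⟨a⟩
    have hne : Set.range c ≠ Set.univ := by
      intro h
      obtain ⟨x₁, hx₁⟩ := hsurj (genericPoint C)
      have h0 : x₁ ∈ Set.range c := by
        rw [h]; exact Set.mem_univ _
      rw [hrange] at h0
      exact hyne (Eq.trans (Eq.symm h0) hx₁)
    have hΓ : topologicalKrullDim ↥(J.comap π).subscheme ≤ ((1 : ℕ) : WithBot ℕ∞) := by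
      have h1 := Curve.krullDim_add_one_le_of_ne_univ (T := X)
        c.isClosedEmbedding.isClosed_range hne
      have h2 : topologicalKrullDim ↥(J.comap π).subscheme =
          topologicalKrullDim ↥(Set.range c) :=
        IsHomeomorph.topologicalKrullDim_eq _
          c.isClosedEmbedding.isEmbedding.toHomeomorph.isHomeomorph
      rw [hdim, ← h2] at h1
      exact le_one_of_add_one_le_two _ h1
    have hy' : ∀ a : ↥(J.comap π).subscheme, (c ≫ π).base a = y := by
      intro a
      have h0 : c.base a ∈ Set.range c := ⟨a, rfl⟩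
      rw [hrange] at h0
      exact h0
    have hconst : ∀ a a' : ↥(J.comap π).subscheme, (c ≫ π).base a = (c ≫ π).base a' := by
      intro a a'
      rw [hy' a, hy' a']
    obtain ⟨e1⟩ := nonempty_pullback_comap_iso π J hJ c
    obtain ⟨e2⟩ := NumInv.nonempty_iso_of_constant (c ≫ π) hconst _ hJ
    rw [intNum_ideal_inv k X hd2 (J.comap π) _ hFf]
    have h2 := NumEq.curveDeg_eq_lam_quot k X c hΓ _ hFf
    rw [hk] at h2
    rw [← h2, Kleiman.curveDeg_iso k _ (e1 ≪≫ e2.symm)]
    unfold Pic13.curveDeg
    simp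

end Main

end Groth.Agent.Helper1.RuledSurf
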