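import Mathlib
import Groth.Agent.Lib.Helper1.DegFin2
import Groth.Agent.Lib.Helper1.Kl3
import Groth.Agent.Lib.Helper1.Dv39
import Groth.Agent.Lib.Helper1.RuledSurf1
import Groth.Agent.Lib.Helper4.PropDim1

/-!
# Numerical equivalence descends along surjective morphisms (helper1)
-/

set_option autoImplicit false
set_option linter.style.haveILetI false
set_option linter.unusedSectionVars false
universe u
open CategoryTheory CategoryTheory.Limits AlgebraicGeometry TopologicalSpace Opposite

namespace Groth.Agent.Helper1.NumSurj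

open Groth.Agent.Helper1 Groth.Agent.Lib.Helper4.FibDim1 Groth.Agent.Lib.Helper4.PropDim1

section Ker

variable {X W Y : Scheme.{u}}

/-- the kernel of a morphism from a reduced scheme is the vanishing ideal of the closure of its
range -/
theorem ker_eq_vanishingIdeal_of_isReduced (h : W ⟶ X) [IsReduced W] :
    h.ker = Scheme.IdealSheafData.vanishingIdeal (.closure (Set.range h)) := by
  rw [← Scheme.IdealSheafData.map_bot, ← Scheme.nilradical_eq_bot (X := W),
    ← Scheme.IdealSheafData.vanishingIdeal_top, Scheme.IdealSheafData.map_vanishingIdeal]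
  congr 2
  exact Set.image_univ

/-- a morphism from a reduced scheme whose range lies in the range of a closed immersion from a
reduced scheme factors through it -/
theorem ker_le_ker_of_range_subset (ι : Y ⟶ X) [IsReduced Y] (h : W ⟶ X) [IsReduced W]
    (hr : Set.range h ⊆ Set.range ι) : ι.ker ≤ h.ker := by
  rw [ker_eq_vanishingIdeal_of_isReduced ι, ker_eq_vanishingIdeal_of_isReduced h]
  apply Scheme.IdealSheafData.vanishingIdeal_antimono
  rw [TopologicalSpace.Closeds.closure_le]
  exact hr.trans subset_closure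

theorem closure_generic_subscheme' (C : X.IdealSheafData) [IsIntegral C.subscheme] :
    closure {C.subschemeι (genericPoint ↥C.subscheme)} = (C.support : Set X) := by
  have h1 : IsGenericPoint (C.subschemeι (genericPoint ↥C.subscheme))
      (closure (C.subschemeι '' (⊤ : Set ↥C.subscheme))) :=
    (genericPoint_spec ↥C.subscheme).image C.subschemeι.continuous
  rw [Set.top_eq_univ, Set.image_univ, Scheme.IdealSheafData.range_subschemeι,
    C.support.isClosed.closure_eq] at h1
  exact h1

/-- the residue degree at a point of a finite morphism is positive -/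
theorem residueDegree_pos_of_isFinite (p : W ⟶ Y) [IsFinite p] (w : W) :
    0 < p.residueDegree w := by
  letI a1 : Algebra (Y.residueField (p w)) (W.residueField w) :=
    (p.residueFieldMap w).hom.toAlgebra
  have h1 : LocallyQuasiFinite (Spec.map (p.residueFieldMap w) ≫ Y.fromSpecResidueField _) := by
    rw [Scheme.Hom.SpecMap_residueFieldMap_fromSpecResidueField]
    infer_instance
  have h2 : LocallyQuasiFinite (Spec.map (p.residueFieldMap w)) :=
    LocallyQuasiFinite.of_comp _ (Y.fromSpecResidueField _)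
  rw [HasRingHomProperty.Spec_iff (P := @LocallyQuasiFinite)] at h2
  haveI : Algebra.QuasiFinite (Y.residueField (p w)) (W.residueField w) := h2
  haveI : Module.Finite (Y.residueField (p w)) (W.residueField w) := Module.Finite.of_quasiFinite
  exact Module.finrank_pos

end Ker

section Main

variable (k : Type u) [Field k] (X X' : Scheme.{u})
    [X.Over (Spec (CommRingCat.of k))] [X'.Over (Spec (CommRingCat.of k))]
    [IsProper (X ↘ Spec (CommRingCat.of k))] [IsProper (X' ↘ Spec (CommRingCat.of k))]

/-- over the generic point of an integral curve in the target of a surjective morphism of proper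
schemes there is a point whose closure is a curve -/
theorem exists_curve_over (g : X' ⟶ X)
    (hg : g ≫ (X ↘ Spec (CommRingCat.of k)) = X' ↘ Spec (CommRingCat.of k)) [Surjective g]
    (Y : Scheme.{u}) (ι : Y ⟶ X) [IsClosedImmersion ι] [IsIntegral Y]
    (hY : topologicalKrullDim Y = 1) :
    ∃ ξ' : X', g ξ' = ι (genericPoint Y) ∧
      topologicalKrullDim ↥(closure ({ξ'} : Set X')) = ((1 : ℕ) : WithBot ℕ∞) := by
  haveI : AlgebraicGeometry.IsNoetherian X := Euler.isNoetherian_of_proper k X
  haveI : IsProper (g ≫ (X ↘ Spec (CommRingCat.of k))) := by rw [hg]; infer_instance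
  haveI : IsProper g := IsProper.of_comp g (X ↘ Spec (CommRingCat.of k))
  obtain ⟨η, hη⟩ : ∃ η : X, η = ι (genericPoint Y) := ⟨_, rfl⟩
  have hcl : closure ({η} : Set X) = Set.range ι := by
    rw [hη, ← Set.image_singleton, ι.isClosedEmbedding.closure_image_eq, genericPoint_closure,
      Set.image_univ]
  have hdimr : topologicalKrullDim ↥(Set.range ι) = ((1 : ℕ) : WithBot ℕ∞) := by
    rw [← IsHomeomorph.topologicalKrullDim_eq _
      (ι.isClosedEmbedding.isEmbedding.toHomeomorph).isHomeomorph, hY]
    exact Nat.cast_one.symm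
  have hcast : ∀ n : ℕ, ((n : ℕ) : WithBot ℕ∞) = ((1 : ℕ) : WithBot ℕ∞) → n = 1 := by
    intro n hn
    have h' : (((n : ℕ∞)) : WithBot ℕ∞) = (((1 : ℕ) : ℕ∞) : WithBot ℕ∞) := hn
    exact_mod_cast WithBot.coe_injective h'
  have htrη : tr (X ↘ Spec (CommRingCat.of k)) η = 1 := by
    apply hcast
    rw [← dim_closure_of_field k (X ↘ Spec (CommRingCat.of k)) η, hcl, hdimr]
  obtain ⟨x₀, hx₀⟩ := g.surjective η
  obtain ⟨ξ', -, hfx, htr0, -⟩ := exists_closed_pt g x₀
  have hgξ : g ξ' = η := hfx.trans hx₀
  refine ⟨ξ', hgξ.trans hη, ?_⟩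
  rw [dim_closure_of_field k (X' ↘ Spec (CommRingCat.of k)) ξ']
  have h2 := tr_comp g (X ↘ Spec (CommRingCat.of k)) ξ'
  rw [htr0, hgξ, htrη] at h2
  have key : ∀ (q : X' ⟶ Spec (CommRingCat.of k)) [LocallyOfFiniteType q],
      q = g ≫ (X ↘ Spec (CommRingCat.of k)) → tr q ξ' = 1 := by
    intro q _ hq
    subst hq
    exact h2
  rw [key _ hg.symm]

set_option maxHeartbeats 1600000 in
/-- **numerical equivalence descends along surjective morphisms** -/
theorem main (g : X' ⟶ X)
    (hg : g ≫ (X ↘ Spec (CommRingCat.of k)) = X' ↘ Spec (CommRingCat.of k)) [Surjective g]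
    (L N : X.Modules) (hL : PicF.IsInvertible L) (hN : PicF.IsInvertible N)
    (hnum : ∀ (Y : Scheme.{u}) (ι : Y ⟶ X') [IsClosedImmersion ι], IsIntegral Y →
      topologicalKrullDim Y = 1 →
      Pic13.curveDeg k (ι ≫ (X' ↘ Spec (CommRingCat.of k)))
        ((Scheme.Modules.pullback ι).obj ((Scheme.Modules.pullback g).obj L)) =
      Pic13.curveDeg k (ι ≫ (X' ↘ Spec (CommRingCat.of k)))
        ((Scheme.Modules.pullback ι).obj ((Scheme.Modules.pullback g).obj N)))
    (Y : Scheme.{u}) (ι : Y ⟶ X) [IsClosedImmersion ι] (hYint : IsIntegral Y)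
    (hY : topologicalKrullDim Y = 1) :
    Pic13.curveDeg k (ι ≫ (X ↘ Spec (CommRingCat.of k))) ((Scheme.Modules.pullback ι).obj L) =
      Pic13.curveDeg k (ι ≫ (X ↘ Spec (CommRingCat.of k)))
        ((Scheme.Modules.pullback ι).obj N) := by
  haveI := hYint
  obtain ⟨ξ', hξ', hdim'⟩ := exists_curve_over k X X' g hg Y ι hY
  obtain ⟨I, hI⟩ : ∃ I : X'.IdealSheafData, I = IntMult.ptIdeal ξ' := ⟨_, rfl⟩
  haveI : IsIntegral I.subscheme := by rw [hI]; exact Dv.isIntegral_ptIdeal_subscheme ξ'
  have hrangeι' : Set.range I.subschemeι = closure {ξ'} := by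
    rw [hI]; exact Dv.range_ptIdeal_subschemeι ξ'
  have hdimZ : topologicalKrullDim I.subscheme = 1 := by
    rw [IsHomeomorph.topologicalKrullDim_eq _
      (I.subschemeι.isClosedEmbedding.isEmbedding.toHomeomorph).isHomeomorph, hrangeι', hdim']
    exact Nat.cast_one
  have hgenι' : I.subschemeι (genericPoint I.subscheme) = ξ' := by
    have hc : closure {I.subschemeι (genericPoint I.subscheme)} = closure ({ξ'} : Set X') := by
      rw [closure_generic_subscheme' I, ← hrangeι',
        Scheme.IdealSheafData.range_subschemeι]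
    exact (inseparable_iff_closure_eq.2 hc).eq
  have hrange : Set.range (I.subschemeι ≫ g) ⊆ Set.range ι := by
    rintro _ ⟨z, rfl⟩
    have hz : I.subschemeι z ∈ closure ({ξ'} : Set X') := by
      rw [← hrangeι']; exact ⟨z, rfl⟩
    have h1 : g (I.subschemeι z) ∈ closure ({g ξ'} : Set X) := by
      have := image_closure_subset_closure_image g.continuous (s := {ξ'}) ⟨_, hz, rfl⟩
      rwa [Set.image_singleton] at this
    rw [hξ'] at h1
    exact (ι.isClosedEmbedding.isClosed_range.closure_subset_iff.2
      (Set.singleton_subset_iff.2 ⟨_, rfl⟩)) h1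
  have hker : ι.ker ≤ (I.subschemeι ≫ g).ker := ker_le_ker_of_range_subset ι _ hrange
  obtain ⟨g', hfac⟩ : ∃ g' : I.subscheme ⟶ Y, g' ≫ ι = I.subschemeι ≫ g :=
    ⟨IsClosedImmersion.lift ι (I.subschemeι ≫ g) hker, IsClosedImmersion.lift_fac _ _ _⟩
  letI instY : Y.Over (Spec (CommRingCat.of k)) := ⟨ι ≫ (X ↘ Spec (CommRingCat.of k))⟩
  letI instY' : I.subscheme.Over (Spec (CommRingCat.of k)) :=
    ⟨I.subschemeι ≫ (X' ↘ Spec (CommRingCat.of k))⟩
  haveI : IsProper (Y ↘ Spec (CommRingCat.of k)) := by
    change IsProper (ι ≫ (X ↘ Spec (CommRingCat.of k))); infer_instance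
  haveI : IsProper (I.subscheme ↘ Spec (CommRingCat.of k)) := by
    change IsProper (I.subschemeι ≫ (X' ↘ Spec (CommRingCat.of k))); infer_instance
  have hf : g' ≫ (Y ↘ Spec (CommRingCat.of k)) = (I.subscheme ↘ Spec (CommRingCat.of k)) := by
    change g' ≫ ι ≫ (X ↘ Spec (CommRingCat.of k)) =
      I.subschemeι ≫ (X' ↘ Spec (CommRingCat.of k))
    rw [← Category.assoc, hfac, Category.assoc, hg]
  have hgen : g'.base (genericPoint I.subscheme) = genericPoint Y := by
    apply ι.isClosedEmbedding.injective
    have h1 : ι (g' (genericPoint I.subscheme)) = g (I.subschemeι (genericPoint I.subscheme)) := by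
      rw [← Scheme.Hom.comp_apply, ← Scheme.Hom.comp_apply, hfac]
    exact h1.trans ((congrArg g hgenι').trans hξ')
  haveI : AlgebraicGeometry.IsNoetherian I.subscheme :=
    Euler.isNoetherian_of_proper k I.subscheme
  haveI : IsProper (g' ≫ (Y ↘ Spec (CommRingCat.of k))) := by rw [hf]; infer_instance
  haveI : IsProper g' := IsProper.of_comp g' (Y ↘ Spec (CommRingCat.of k))
  haveI : IsFinite g' := DegFin.isFinite_of_nonconstant g' hdimZ.le hY hgen
  have hm : 0 < g'.residueDegree (genericPoint I.subscheme) := residueDegree_pos_of_isFinite g' _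
  have dL := DegFin.deg_pullback_eq_residueDegree_mul_deg k I.subscheme Y hdimZ hY g' hf hgen 1 _
    (Curve.isFinLocFreeOfRank_one (PullGen.isInvertible_pullback ι hL))
  have dN := DegFin.deg_pullback_eq_residueDegree_mul_deg k I.subscheme Y hdimZ hY g' hf hgen 1 _
    (Curve.isFinLocFreeOfRank_one (PullGen.isInvertible_pullback ι hN))
  have hnum' := hnum I.subscheme I.subschemeι inferInstance hdimZ
  have eL : (Scheme.Modules.pullback I.subschemeι).obj ((Scheme.Modules.pullback g).obj L) ≅
      (Scheme.Modules.pullback g').obj ((Scheme.Modules.pullback ι).obj L) :=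
    (Scheme.Modules.pullbackComp I.subschemeι g).app L ≪≫
      (Scheme.Modules.pullbackCongr hfac.symm).app L ≪≫
      ((Scheme.Modules.pullbackComp g' ι).app L).symm
  have eN : (Scheme.Modules.pullback I.subschemeι).obj ((Scheme.Modules.pullback g).obj N) ≅
      (Scheme.Modules.pullback g').obj ((Scheme.Modules.pullback ι).obj N) :=
    (Scheme.Modules.pullbackComp I.subschemeι g).app N ≪≫
      (Scheme.Modules.pullbackCongr hfac.symm).app N ≪≫
      ((Scheme.Modules.pullbackComp g' ι).app N).symm
  rw [Kleiman.curveDeg_iso k _ eL, Kleiman.curveDeg_iso k _ eN] at hnum'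
  change Pic13.curveDeg k (I.subscheme ↘ Spec (CommRingCat.of k)) _ =
    Pic13.curveDeg k (I.subscheme ↘ Spec (CommRingCat.of k)) _ at hnum'
  rw [RuledSurf.curveDeg_eq_deg k I.subscheme hdimZ, RuledSurf.curveDeg_eq_deg k I.subscheme hdimZ,
    dL, dN] at hnum'
  change Pic13.curveDeg k (Y ↘ Spec (CommRingCat.of k)) _ =
    Pic13.curveDeg k (Y ↘ Spec (CommRingCat.of k)) _
  rw [RuledSurf.curveDeg_eq_deg k Y hY, RuledSurf.curveDeg_eq_deg k Y hY]
  have hm' : ((g'.residueDegree (genericPoint I.subscheme) : ℕ) : ℤ) ≠ 0 := by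
    exact_mod_cast hm.ne'
  exact mul_left_cancel₀ hm' hnum'

end Main

end Groth.Agent.Helper1.NumSurj
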