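import Mathlib
import Groth.Agent.Lib.Helper1.RuledSurf1

/-!
# The intersection number with the ideal of a curve is the degree of the restriction (helper1)
-/

set_option autoImplicit false
set_option linter.style.haveILetI false
set_option linter.unusedSectionVars false
universe u
open CategoryTheory CategoryTheory.Limits AlgebraicGeometry TopologicalSpace Opposite

namespace Groth.Agent.Helper1.RuledSurf

open Groth.Agent.Helper1 Groth.Agent.Helper1.Euler Groth.Agent.Helper1.Dv
open Groth.Agent.Helper1.FinLen Groth.Agent.Helper1.TwForm Groth.Agent.Helper1.Curve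
open Groth.Agent.Helper1.Snap Groth.Agent.Helper1.SnapPos Groth.Agent.Helper1.FGAInt
open Groth.Agent.Helper1.FGAPos Groth.Agent.Helper1.Kleiman Groth.Agent.Helper1.Big
open Groth.Agent.Helper1.SurfPos Groth.Agent.Helper1.SurfDual Groth.Agent.Helper1.SurfHodge
open Groth.Agent.Lib.Helper4 Groth.Agent.Helper1.ProdSurf
open Groth.Agent.Helper1.CurveDual

/-- the dimension of the support of the structure sheaf of a closed subscheme -/
theorem dim_support_quotMod_ker_le {X Γ : Scheme.{u}} (c : Γ ⟶ X) [IsClosedImmersion c] (n : ℕ)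
    (hΓ : topologicalKrullDim Γ ≤ ((n : ℕ) : WithBot ℕ∞)) :
    topologicalKrullDim ↥(CohB1.support (ClSub.quotMod c.ker)) ≤ ((n : ℕ) : WithBot ℕ∞) := by
  have h1 : CohB1.support (ClSub.quotMod c.ker) ⊆ Set.range c := by
    refine (CurveDual.support_quotMod_subset (Z := c.ker)).trans ?_
    rw [Scheme.Hom.support_ker, c.isClosedEmbedding.isClosed_range.closure_eq]
  have h2 : topologicalKrullDim Γ = topologicalKrullDim ↥(Set.range c) :=
    IsHomeomorph.topologicalKrullDim_eq _
      c.isClosedEmbedding.isEmbedding.toHomeomorph.isHomeomorph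
  exact (Dv.krullDim_le_of_subset h1).trans (h2 ▸ hΓ)

variable (k : Type u) [Field k] (S : Scheme.{u}) [S.Over (Spec (CommRingCat.of k))]
  [IsProper (S ↘ (Spec (CommRingCat.of k)))]

/-- `(O(C) · L) = deg L|_C`, in terms of the inverses `I_C` and `L'` -/
theorem intNum_ideal_inverse_eq_curveDeg (hdim : topologicalKrullDim S ≤ ((2 : ℕ) : WithBot ℕ∞))
    {C : Scheme.{u}} (i : C ⟶ S) [IsClosedImmersion i]
    (hC : topologicalKrullDim C ≤ ((1 : ℕ) : WithBot ℕ∞)) (L L' : S.Modules)
    (hL : PicF.IsInvertible L) (e : CohB1.tensorMod L L' ≅ Coh.structureModule S) :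
    FGA.intNum k S 2 ![ClSub.idealMod i.ker, L'] (Coh.structureModule S) =
      Pic13.curveDeg k (i ≫ (S ↘ Spec (CommRingCat.of k)))
        ((Scheme.Modules.pullback i).obj L) := by
  haveI : AlgebraicGeometry.IsNoetherian S := isNoetherian_of_proper k S
  have e' : CohB1.tensorMod L' L ≅ Coh.structureModule S := TildeTens.tensorModComm L' L ≪≫ e
  have hL' : PicF.IsInvertible L' := CurveCart.isInvertible_left_of_tensor_iso hL e'
  have hQc : Coh.IsCoh (ClSub.quotMod i.ker) := CurveDual.isCoh_quotMod i.ker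
  have hq : KZero.clSub (PC S) (ClSub.quotMod i.ker) ∈ FilLT S 2 :=
    clSub_mem_FilLT 1 _ hQc (dim_support_quotMod_ker_le i 1 hC)
  rw [intNum_ideal_inv k S hdim i.ker L' hL', NumEq.lam_one_inverse k S hL hL' e' _ hq, neg_neg,
    ← NumEq.curveDeg_eq_lam_quot k S i hC L hL]

end Groth.Agent.Helper1.RuledSurf
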