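import Mathlib
import Groth.Agent.Lib.Helper1.RuledSurf2
import Groth.Agent.Lib.Helper1.Kl4
import Groth.Agent.Lib.Helper4.DimIneq4
import Groth.Agent.Lib.Helper9.RegUFD.Main
import Groth.Agent.S1684
import Groth.Agent.S1535
import Groth.Agent.S8914

/-!
# Integral curves on smooth surfaces, given by their ideal sheaves (helper1)

Bridges between the formulation `χ(O_C ⊗ L) - χ(O_C)` of the degree of `L` on a curve `C` given by
an ideal sheaf, the `K₀` functional `lam L 1`, intersection numbers, and nefness; the ideal of an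
integral curve on a smooth surface is invertible; the equality case of the Hodge index theorem.
-/

set_option autoImplicit false
set_option linter.style.haveILetI false
set_option linter.unusedSectionVars false
universe u
open CategoryTheory CategoryTheory.Limits AlgebraicGeometry TopologicalSpace Opposite

namespace Groth.Agent.Helper1.SurfCurve

open Groth.Agent.Helper1 Groth.Agent.Helper1.Euler Groth.Agent.Helper1.Dv
open Groth.Agent.Helper1.FinLen Groth.Agent.Helper1.TwForm Groth.Agent.Helper1.Curve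
open Groth.Agent.Helper1.Snap Groth.Agent.Helper1.SnapPos Groth.Agent.Helper1.FGAInt
open Groth.Agent.Helper1.FGAPos Groth.Agent.Helper1.Kleiman Groth.Agent.Helper1.Big
open Groth.Agent.Helper1.SurfPos Groth.Agent.Helper1.SurfDual Groth.Agent.Helper1.SurfHodge
open Groth.Agent.Lib.Helper4 Groth.Agent.Helper1.ProdSurf Groth.Agent.Helper1.RuledSurf
open Groth.Agent.Helper1.CurveDual

section Num

theorem withBot_one_le_zero_false (h : (1 : WithBot ℕ∞) ≤ 0) : False := by
  have h' : ((1 : ℕ∞) : WithBot ℕ∞) ≤ ((0 : ℕ∞) : WithBot ℕ∞) := h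
  rw [WithBot.coe_le_coe] at h'
  simp at h'

theorem withBot_one_ne_two (h : (1 : WithBot ℕ∞) = 2) : False := by
  have h' : ((1 : ℕ∞) : WithBot ℕ∞) = ((2 : ℕ∞) : WithBot ℕ∞) := h
  have h2 : (1 : ℕ∞) = 2 := WithBot.coe_injective h'
  have h3 : ((1 : ℕ) : ℕ∞) = ((2 : ℕ) : ℕ∞) := by exact_mod_cast h2
  have h4 : (1 : ℕ) = 2 := by exact_mod_cast h3
  omega

theorem enat_aux (a b : ℕ∞) (h : a + b ≤ 2) (ha : 0 < a) (hb : 0 < b) : b = 1 := by
  cases a with
  | top => simp at h
  | coe m =>
    cases b with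
    | top => simp at h
    | coe n =>
      have h1 : m + n ≤ 2 := by exact_mod_cast h
      have h2 : 0 < m := by exact_mod_cast ha
      have h3 : 0 < n := by exact_mod_cast hb
      have h4 : n = 1 := by omega
      exact_mod_cast h4

theorem int_aux (m e : ℤ) (key : ∀ n : ℤ, 2 * n * m + e ≤ 0) : m = 0 := by
  by_contra hne
  rcases lt_or_gt_of_ne hne with hlt | hgt
  · have h1 := key (-(|e| + 1))
    have h2 : m ≤ -1 := by omega
    have h3 : 0 ≤ |e| := abs_nonneg e
    have h4 : -|e| ≤ e := neg_abs_le e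
    nlinarith
  · have h1 := key (|e| + 1)
    have h2 : 1 ≤ m := by omega
    have h3 : 0 ≤ |e| := abs_nonneg e
    have h4 : -|e| ≤ e := neg_abs_le e
    nlinarith

end Num

section Codim

variable {X : Scheme.{u}}

theorem closure_generic_subscheme (C : X.IdealSheafData) [IsIntegral C.subscheme] :
    closure {C.subschemeι (genericPoint ↥C.subscheme)} = (C.support : Set X) := by
  have h1 : IsGenericPoint (C.subschemeι (genericPoint ↥C.subscheme))
      (closure (C.subschemeι '' (⊤ : Set ↥C.subscheme))) :=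
    (genericPoint_spec ↥C.subscheme).image C.subschemeι.continuous
  rw [Set.top_eq_univ, Set.image_univ, Scheme.IdealSheafData.range_subschemeι,
    C.support.isClosed.closure_eq] at h1
  exact h1

/-- the generic point of an integral curve on an irreducible surface has codimension one -/
theorem ringKrullDim_stalk_generic_curve [IrreducibleSpace X] (hdim : topologicalKrullDim X = 2)
    (C : X.IdealSheafData) [IsIntegral C.subscheme]
    (hC1 : topologicalKrullDim (C.support : Set X) = 1) :
    ringKrullDim (X.presheaf.stalk (C.subschemeι (genericPoint ↥C.subscheme))) = 1 := by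
  obtain ⟨ξ, hξ⟩ : ∃ ξ : X, ξ = C.subschemeι (genericPoint ↥C.subscheme) := ⟨_, rfl⟩
  rw [← hξ]
  have hgen : closure {ξ} = (C.support : Set X) := by
    rw [hξ]; exact closure_generic_subscheme C
  have hnotmin : ¬ IsMin ξ := by
    intro hmin
    have hsub : (C.support : Set X) ⊆ {ξ} := by
      intro x hx
      rw [← hgen] at hx
      have h1 : ξ ⤳ x := specializes_iff_mem_closure.2 hx
      have h3 : ξ ≤ x := hmin (Scheme.le_iff_specializes.2 h1)
      exact ((Specializes.antisymm h1 (Scheme.le_iff_specializes.1 h3)).eq).symm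
    have hdim0 : topologicalKrullDim ↥(C.support : Set X) ≤ 0 := by
      refine (Dv.krullDim_le_of_subset hsub).trans ?_
      haveI : Nonempty ↥({ξ} : Set X) := ⟨⟨ξ, rfl⟩⟩
      exact topologicalKrullDim_zero_of_discreteTopology ↥({ξ} : Set X)
    rw [hC1] at hdim0
    exact withBot_one_le_zero_false hdim0
  have hnotmax : ¬ IsMax ξ := by
    intro hmax
    have h1 : genericPoint X ⤳ ξ := genericPoint_specializes ξ
    have h3 : genericPoint X ≤ ξ := hmax (Scheme.le_iff_specializes.2 h1)
    have h4 : genericPoint X = ξ :=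
      (Specializes.antisymm h1 (Scheme.le_iff_specializes.1 h3)).eq
    have h5 : (C.support : Set X) = Set.univ := by
      rw [← hgen, ← h4]
      exact (genericPoint_spec X).def
    have h6 : topologicalKrullDim ↥(C.support : Set X) = topologicalKrullDim X := by
      rw [h5]
      exact IsHomeomorph.topologicalKrullDim_eq _ (Homeomorph.Set.univ X).isHomeomorph
    rw [hC1, hdim] at h6
    exact withBot_one_ne_two h6
  have hle : ((Order.height ξ + Order.coheight ξ : ℕ∞) : WithBot ℕ∞) ≤
      ((2 : ℕ∞) : WithBot ℕ∞) := by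
    have h := DimIneq4.height_add_coheight_le_krullDim ξ
    rw [← DimIneq4.topologicalKrullDim_eq_krullDim X, hdim] at h
    exact h
  have hco : Order.coheight ξ = 1 :=
    enat_aux _ _ (WithBot.coe_le_coe.1 hle) (Order.height_pos.2 hnotmin)
      (Order.coheight_pos.2 hnotmax)
  rw [AlgebraicGeometry.ringKrullDim_stalk_eq_coheight, hco]
  rfl

/-- **the ideal sheaf of an integral curve on a smooth surface is invertible** -/
theorem isInvertible_idealMod_curve (k : Type u) [Field k] (X : Scheme.{u})
    [X.Over (Spec (CommRingCat.of k))] [Smooth (X ↘ (Spec (CommRingCat.of k)))] [IsIntegral X]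
    [IsLocallyNoetherian X] (hdim : topologicalKrullDim X = 2) (C : X.IdealSheafData)
    (hC : IsIntegral C.subscheme) (hC1 : topologicalKrullDim (C.support : Set X) = 1) :
    PicF.IsInvertible (ClSub.idealMod C) := by
  haveI := hC
  refine (Groth.Agent.S8914.result C).2
    (Groth.Agent.S1684.result X C (ringKrullDim_stalk_generic_curve hdim C hC1) ?_)
  intro x _
  haveI : IsRegularLocalRing (X.presheaf.stalk x) := Groth.Agent.S1535.result k X x
  exact ⟨inferInstance, Groth.Agent.Helper9.RegUFD.ufd _⟩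

end Codim

section Bridge

variable (k : Type u) [Field k] (X : Scheme.{u}) [X.Over (Spec (CommRingCat.of k))]
  [IsProper (X ↘ (Spec (CommRingCat.of k)))] [AlgebraicGeometry.IsNoetherian X]

/-- `χ(Q ⊗ L) - χ(Q)` as a functional on `K₀` -/
theorem curveInt_eq_lam (Q L : X.Modules) (hQ : Coh.IsCoh Q) (hL : PicF.IsInvertible L) :
    Curv2.euler k X (CohB1.tensorMod Q L) - Curv2.euler k X Q =
      lam k X L hL 1 (KZero.clSub (PC X) Q) := by
  have hLc : Coh.IsCoh L := InvQc.isCoh_of_isInvertible _ hL
  have h1 : (T L hL - 1) (KZero.clSub (PC X) Q) =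
      T L hL (KZero.clSub (PC X) Q) - KZero.clSub (PC X) Q := rfl
  rw [lam_apply, pow_one, h1, map_sub, T_clSub' L hL Q hQ,
    eulerHom_clSub k X _ (Euler.isCoh_tensor _ _ hQ hLc), eulerHom_clSub k X _ hQ]

/-- `(I_D · L) = -(χ(O_D ⊗ L) - χ(O_D))` -/
theorem intNum_ideal_eq_neg_curveInt (hdim : topologicalKrullDim X ≤ ((2 : ℕ) : WithBot ℕ∞))
    (D : X.IdealSheafData) (L : X.Modules) (hL : PicF.IsInvertible L) :
    FGA.intNum k X 2 ![ClSub.idealMod D, L] (Coh.structureModule X) =
      - (Curv2.euler k X (CohB1.tensorMod (ClSub.quotMod D) L) -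
        Curv2.euler k X (ClSub.quotMod D)) := by
  rw [intNum_ideal_inv k X hdim D L hL,
    curveInt_eq_lam k X _ L (CurveDual.isCoh_quotMod D) hL]

/-- nefness tested on ideal sheaves of integral curves gives nefness on closed integral curves -/
theorem nefS_of_curves (L : X.Modules) (hL : PicF.IsInvertible L)
    (hnef : ∀ C : X.IdealSheafData, IsIntegral C.subscheme →
      topologicalKrullDim (C.support : Set X) = 1 →
      0 ≤ Curv2.euler k X (CohB1.tensorMod (ClSub.quotMod C) L) -
        Curv2.euler k X (ClSub.quotMod C)) :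
    NefS k X L := by
  intro C c _ hC hdimC
  haveI := hC
  have hC1 : topologicalKrullDim C ≤ ((1 : ℕ) : WithBot ℕ∞) := by
    rw [hdimC]; exact le_of_eq Nat.cast_one.symm
  rw [NumEq.curveDeg_eq_lam_quot k X c hC1 L hL,
    ← curveInt_eq_lam k X _ L (CurveDual.isCoh_quotMod c.ker) hL]
  refine hnef c.ker ?_ ?_
  · haveI : Nonempty ↥C := inferInstance
    haveI : Nonempty ↥c.image := ⟨c.toImage.base (Classical.arbitrary ↥C)⟩
    exact isIntegral_of_isOpenImmersion (inv c.toImage)
  · rw [Scheme.Hom.support_ker, c.isClosedEmbedding.isClosed_range.closure_eq, ← hdimC]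
    exact (IsHomeomorph.topologicalKrullDim_eq _
      c.isClosedEmbedding.isEmbedding.toHomeomorph.isHomeomorph).symm

/-- a nef module has nonnegative degree on coherent modules with support of dimension `≤ 1` -/
theorem lam_nonneg_of_nef (L A : X.Modules) (hL : PicF.IsInvertible L) (hA : CohB1.IsAmple A)
    (hnef : NefS k X L) (F : X.Modules) (hF : Coh.IsCoh F)
    (hd : topologicalKrullDim ↥(CohB1.support F) ≤ ((1 : ℕ) : WithBot ℕ∞)) :
    0 ≤ lam k X L hL 1 (KZero.clSub (PC X) F) := by
  have h := km_coh k X L A hL hA hnef 1 F hF hd 1 0 rfl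
  rw [sym_apply, pow_zero, mul_one] at h
  rw [lam_apply]
  exact h

end Bridge

section HodgeNull

variable (k : Type u) [Field k] (X : Scheme.{u}) [X.Over (Spec (CommRingCat.of k))]
  [IsProper (X ↘ (Spec (CommRingCat.of k)))] [IsIntegral X]

/-- a nef module on a surface has nonnegative self-intersection -/
theorem selfInt_nonneg_of_nef (hdim : topologicalKrullDim X = 2) (L A : X.Modules)
    (hL : PicF.IsInvertible L) (hA : CohB1.IsAmple A) (hnef : NefS k X L) :
    0 ≤ FGA.intNum k X 2 ![L, L] (Coh.structureModule X) := by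
  haveI : AlgebraicGeometry.IsNoetherian X := isNoetherian_of_proper k X
  have hOc := isCoh_structureModule X
  have hd2 : topologicalKrullDim X = ((2 : ℕ) : WithBot ℕ∞) := by
    rw [hdim]; rfl
  have h := km_coh k X L A hL hA hnef 2 _ hOc
    ((topologicalKrullDim_subspace_le X _).trans hd2.le) 2 0 rfl
  rw [sym_apply, pow_zero, mul_one, pow_two] at h
  rw [intNum_eq_pair k X hdim L L hL hL]
  exact h

/-- **equality case of the Hodge index theorem**: a class of nonnegative square orthogonal to a
class of positive square is orthogonal to everything -/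
theorem hodge_null (hdim : topologicalKrullDim X = 2) (H : X.Modules) (hH : CohB1.IsAmple H)
    (D N : X.Modules) (hD : PicF.IsInvertible D) (hN : PicF.IsInvertible N)
    (hpos : 0 < FGA.intNum k X 2 ![D, D] (Coh.structureModule X))
    (horth : FGA.intNum k X 2 ![D, N] (Coh.structureModule X) = 0)
    (hN2 : 0 ≤ FGA.intNum k X 2 ![N, N] (Coh.structureModule X))
    (E : X.Modules) (hE : PicF.IsInvertible E) :
    FGA.intNum k X 2 ![N, E] (Coh.structureModule X) = 0 := by
  obtain ⟨D', hD', ⟨eD⟩⟩ := InvInv2.exists_inverse hD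
  have iD : CohB1.tensorMod D D' ≅ Coh.structureModule X := TildeTens.tensorModComm D D' ≪≫ eD
  obtain ⟨N', hN', ⟨eN⟩⟩ := InvInv2.exists_inverse hN
  have iN : CohB1.tensorMod N N' ≅ Coh.structureModule X := TildeTens.tensorModComm N N' ≪≫ eN
  obtain ⟨E', hE', ⟨eE⟩⟩ := InvInv2.exists_inverse hE
  have iE : CohB1.tensorMod E E' ≅ Coh.structureModule X := TildeTens.tensorModComm E E' ≪≫ eE
  have hN0 : FGA.intNum k X 2 ![N, N] (Coh.structureModule X) = 0 :=
    le_antisymm (hodge_neg k X hdim H hH D N hD hN hpos horth) hN2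
  obtain ⟨a, ha⟩ : ∃ a : ℤ, a = FGA.intNum k X 2 ![D, D] (Coh.structureModule X) := ⟨_, rfl⟩
  obtain ⟨b, hb⟩ : ∃ b : ℤ, b = FGA.intNum k X 2 ![D, E] (Coh.structureModule X) := ⟨_, rfl⟩
  obtain ⟨c, hc⟩ : ∃ c : ℤ, c = FGA.intNum k X 2 ![N, E] (Coh.structureModule X) := ⟨_, rfl⟩
  rw [← ha] at hpos
  rw [← hc]
  have hND : FGA.intNum k X 2 ![N, D] (Coh.structureModule X) = 0 := by
    rw [intNum_symm k X hdim N D hN hD, horth]
  obtain ⟨E₁, hE₁def⟩ : ∃ E₁, E₁ = combo X E E' D D' a (-b) := ⟨_, rfl⟩
  have hE₁ : PicF.IsInvertible E₁ := by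
    rw [hE₁def]; exact isInvertible_combo X hE hE' hD hD' a (-b)
  have hDE₁ : FGA.intNum k X 2 ![D, E₁] (Coh.structureModule X) = 0 := by
    rw [hE₁def, intNum_combo_right k X hdim D E E' D D' hD hE hE' hD hD' iE iD a (-b), ← ha, ← hb]
    ring
  have hNE₁ : FGA.intNum k X 2 ![N, E₁] (Coh.structureModule X) = a * c := by
    rw [hE₁def, intNum_combo_right k X hdim N E E' D D' hN hE hE' hD hD' iE iD a (-b), ← hc, hND]
    ring
  obtain ⟨E₁', hE₁', ⟨eE₁⟩⟩ := InvInv2.exists_inverse hE₁
  have iE₁ : CohB1.tensorMod E₁ E₁' ≅ Coh.structureModule X :=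
    TildeTens.tensorModComm E₁ E₁' ≪≫ eE₁
  obtain ⟨e, he⟩ : ∃ e : ℤ, e = FGA.intNum k X 2 ![E₁, E₁] (Coh.structureModule X) := ⟨_, rfl⟩
  have key : ∀ n : ℤ, 2 * n * (a * c) + e ≤ 0 := by
    intro n
    have hM := isInvertible_combo X hN hN' hE₁ hE₁' n 1
    have hDM : FGA.intNum k X 2 ![D, combo X N N' E₁ E₁' n 1] (Coh.structureModule X) = 0 := by
      rw [intNum_combo_right k X hdim D N N' E₁ E₁' hD hN hN' hE₁ hE₁' iN iE₁ n 1, horth, hDE₁]
      ring
    have h := hodge_neg k X hdim H hH D _ hD hM (ha ▸ hpos) hDM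
    rw [intNum_combo_self k X hdim N N' E₁ E₁' hN hN' hE₁ hE₁' iN iE₁ n 1, hN0, hNE₁, ← he] at h
    linarith
  have hac : a * c = 0 := int_aux _ _ key
  exact (mul_eq_zero.1 hac).resolve_left hpos.ne'

end HodgeNull

section Main

variable (k : Type u) [Field k] (X : Scheme.{u}) [X.Over (Spec (CommRingCat.of k))]
  [IsProper (X ↘ (Spec (CommRingCat.of k)))] [IsIntegral X]
  [Smooth (X ↘ (Spec (CommRingCat.of k)))]

/-- a nef class orthogonal to a class of positive square is numerically trivial -/
theorem nef_orth_main (hdim : topologicalKrullDim X = 2) (H : X.Modules) (hH : CohB1.IsAmple H)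
    (D N : X.Modules) (hDi : PicF.IsInvertible D) (hNi : PicF.IsInvertible N)
    (hD2 : 0 < FGA.intNum k X 2 ![D, D] (Coh.structureModule X))
    (hNnef : ∀ C : X.IdealSheafData, IsIntegral C.subscheme →
      topologicalKrullDim (C.support : Set X) = 1 →
      0 ≤ (Curv2.euler k X (CohB1.tensorMod (ClSub.quotMod C) N) -
        Curv2.euler k X (ClSub.quotMod C)))
    (hDN : FGA.intNum k X 2 ![D, N] (Coh.structureModule X) = 0) :
    ∀ C : X.IdealSheafData, IsIntegral C.subscheme →
      topologicalKrullDim (C.support : Set X) = 1 →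
      (Curv2.euler k X (CohB1.tensorMod (ClSub.quotMod C) N) -
        Curv2.euler k X (ClSub.quotMod C)) = 0 := by
  haveI : AlgebraicGeometry.IsNoetherian X := isNoetherian_of_proper k X
  have hd2 : topologicalKrullDim X = ((2 : ℕ) : WithBot ℕ∞) := by
    rw [hdim]; rfl
  have hnefS : NefS k X N := nefS_of_curves k X N hNi hNnef
  have hN2 := selfInt_nonneg_of_nef k X hdim N H hNi hH hnefS
  intro C hC hC1
  have hCinv : PicF.IsInvertible (ClSub.idealMod C) :=
    isInvertible_idealMod_curve k X hdim C hC hC1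
  have h0 := hodge_null k X hdim H hH D N hDi hNi hD2 hDN hN2 (ClSub.idealMod C) hCinv
  rw [intNum_symm k X hdim N _ hNi hCinv, intNum_ideal_eq_neg_curveInt k X hd2.le C N hNi] at h0
  linarith

end Main

end Groth.Agent.Helper1.SurfCurve
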