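import Mathlib
import Groth.Agent.Lib.Helper1.NumSurj1
import Groth.Agent.Lib.Helper1.SurfCurve1

/-!
# Nefness and surjective morphisms of proper schemes over a field (helper1)

`L` is nef on `X` iff `g^*L` is nef on `X'`, for a surjective morphism `g : X' ⟶ X` of proper
schemes over a field, nefness being tested on the ideal sheaves of integral curves.
-/

set_option autoImplicit false
set_option linter.style.haveILetI false
set_option linter.unusedSectionVars false
universe u
open CategoryTheory CategoryTheory.Limits AlgebraicGeometry TopologicalSpace Opposite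

namespace Groth.Agent.Helper1.NumSurj2

open Groth.Agent.Helper1 Groth.Agent.Lib.Helper4.FibDim1 Groth.Agent.Lib.Helper4.PropDim1
open Groth.Agent.Helper1.NumSurj

section Bridge

variable (k : Type u) [Field k] (X : Scheme.{u}) [X.Over (Spec (CommRingCat.of k))]
    [IsProper (X ↘ Spec (CommRingCat.of k))]

theorem dim_subscheme (C : X.IdealSheafData) :
    topologicalKrullDim C.subscheme = topologicalKrullDim (C.support : Set X) := by
  rw [IsHomeomorph.topologicalKrullDim_eq _
    (C.subschemeι.isClosedEmbedding.isEmbedding.toHomeomorph).isHomeomorph,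
    Scheme.IdealSheafData.range_subschemeι]

/-- the degree on an integral curve given by an ideal sheaf, in its two formulations -/
theorem eulerForm_eq_curveDeg (C : X.IdealSheafData)
    (hdim : topologicalKrullDim C.subscheme ≤ ((1 : ℕ) : WithBot ℕ∞)) (L : X.Modules)
    (hL : PicF.IsInvertible L) :
    Curv2.euler k X (CohB1.tensorMod (ClSub.quotMod C) L) - Curv2.euler k X (ClSub.quotMod C) =
      Pic13.curveDeg k (C.subschemeι ≫ (X ↘ Spec (CommRingCat.of k)))
        ((Scheme.Modules.pullback C.subschemeι).obj L) := by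
  haveI : AlgebraicGeometry.IsNoetherian X := Euler.isNoetherian_of_proper k X
  rw [SurfCurve.curveInt_eq_lam k X _ L (CurveDual.isCoh_quotMod C) hL]
  have h := NumEq.curveDeg_eq_lam_quot k X C.subschemeι hdim L hL
  rw [Scheme.IdealSheafData.ker_subschemeι] at h
  exact h.symm

end Bridge

section Main

variable (k : Type u) [Field k] (X X' : Scheme.{u})
    [X.Over (Spec (CommRingCat.of k))] [X'.Over (Spec (CommRingCat.of k))]
    [IsProper (X ↘ Spec (CommRingCat.of k))] [IsProper (X' ↘ Spec (CommRingCat.of k))]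

set_option maxHeartbeats 1600000 in
/-- the degree of a pulled back invertible module on a curve dominating a curve -/
theorem deg_transfer (g : X' ⟶ X)
    (hg : g ≫ (X ↘ Spec (CommRingCat.of k)) = X' ↘ Spec (CommRingCat.of k))
    (L : X.Modules) (hL : PicF.IsInvertible L)
    (I : X'.IdealSheafData) [IsIntegral I.subscheme]
    (hdimZ : topologicalKrullDim I.subscheme = 1)
    (Y : Scheme.{u}) (ι : Y ⟶ X) [IsClosedImmersion ι] [IsIntegral Y]
    (hY : topologicalKrullDim Y = 1)
    (hgen0 : g (I.subschemeι (genericPoint I.subscheme)) = ι (genericPoint Y)) :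
    ∃ m : ℕ, 0 < m ∧
      Pic13.curveDeg k (I.subschemeι ≫ (X' ↘ Spec (CommRingCat.of k)))
        ((Scheme.Modules.pullback I.subschemeι).obj ((Scheme.Modules.pullback g).obj L)) =
      (m : ℤ) * Pic13.curveDeg k (ι ≫ (X ↘ Spec (CommRingCat.of k)))
        ((Scheme.Modules.pullback ι).obj L) := by
  obtain ⟨ξ', hξ'def⟩ : ∃ ξ' : X', ξ' = I.subschemeι (genericPoint I.subscheme) := ⟨_, rfl⟩
  have hrangeι' : Set.range I.subschemeι = closure {ξ'} := by
    rw [hξ'def, closure_generic_subscheme' I]
    exact I.range_subschemeι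
  have hξ' : g ξ' = ι (genericPoint Y) := by rw [hξ'def]; exact hgen0
  have hrange : Set.range (I.subschemeι ≫ g) ⊆ Set.range ι := by
    rintro _ ⟨z, rfl⟩
    have hz : I.subschemeι z ∈ closure ({ξ'} : Set X') := by
      rw [← hrangeι']; exact ⟨z, rfl⟩
    have h1 : g (I.subschemeι z) ∈ closure ({g ξ'} : Set X) := by
      have := image_closure_subset_closure_image g.continuous (s := {ξ'}) ⟨_, hz, rfl⟩
      rwa [Set.image_singleton] at this
    rw [hξ'] at h1
    exact (ι.isClosedEmbedding.isClosed_range.closure_subset_iff.2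
      (Set.singleton_subset_iff.2 ⟨_, rfl⟩)) h1
  have hker : ι.ker ≤ (I.subschemeι ≫ g).ker := ker_le_ker_of_range_subset ι _ hrange
  obtain ⟨g', hfac⟩ : ∃ g' : I.subscheme ⟶ Y, g' ≫ ι = I.subschemeι ≫ g :=
    ⟨IsClosedImmersion.lift ι (I.subschemeι ≫ g) hker, IsClosedImmersion.lift_fac _ _ _⟩
  letI instY : Y.Over (Spec (CommRingCat.of k)) := ⟨ι ≫ (X ↘ Spec (CommRingCat.of k))⟩
  letI instY' : I.subscheme.Over (Spec (CommRingCat.of k)) :=
    ⟨I.subschemeι ≫ (X' ↘ Spec (CommRingCat.of k))⟩
  haveI : IsProper (Y ↘ Spec (CommRingCat.of k)) := by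
    change IsProper (ι ≫ (X ↘ Spec (CommRingCat.of k))); infer_instance
  haveI : IsProper (I.subscheme ↘ Spec (CommRingCat.of k)) := by
    change IsProper (I.subschemeι ≫ (X' ↘ Spec (CommRingCat.of k))); infer_instance
  have hf : g' ≫ (Y ↘ Spec (CommRingCat.of k)) = (I.subscheme ↘ Spec (CommRingCat.of k)) := by
    change g' ≫ ι ≫ (X ↘ Spec (CommRingCat.of k)) =
      I.subschemeι ≫ (X' ↘ Spec (CommRingCat.of k))
    rw [← Category.assoc, hfac, Category.assoc, hg]
  have hgen : g'.base (genericPoint I.subscheme) = genericPoint Y := by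
    apply ι.isClosedEmbedding.injective
    have h1 : ι (g' (genericPoint I.subscheme)) = g (I.subschemeι (genericPoint I.subscheme)) := by
      rw [← Scheme.Hom.comp_apply, ← Scheme.Hom.comp_apply, hfac]
    exact h1.trans hgen0
  haveI : AlgebraicGeometry.IsNoetherian I.subscheme :=
    Euler.isNoetherian_of_proper k I.subscheme
  haveI : IsProper (g' ≫ (Y ↘ Spec (CommRingCat.of k))) := by rw [hf]; infer_instance
  haveI : IsProper g' := IsProper.of_comp g' (Y ↘ Spec (CommRingCat.of k))
  haveI : IsFinite g' := DegFin.isFinite_of_nonconstant g' hdimZ.le hY hgen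
  have hm : 0 < g'.residueDegree (genericPoint I.subscheme) := residueDegree_pos_of_isFinite g' _
  have dL := DegFin.deg_pullback_eq_residueDegree_mul_deg k I.subscheme Y hdimZ hY g' hf hgen 1 _
    (Curve.isFinLocFreeOfRank_one (PullGen.isInvertible_pullback ι hL))
  have eL : (Scheme.Modules.pullback I.subschemeι).obj ((Scheme.Modules.pullback g).obj L) ≅
      (Scheme.Modules.pullback g').obj ((Scheme.Modules.pullback ι).obj L) :=
    (Scheme.Modules.pullbackComp I.subschemeι g).app L ≪≫
      (Scheme.Modules.pullbackCongr hfac.symm).app L ≪≫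
      ((Scheme.Modules.pullbackComp g' ι).app L).symm
  refine ⟨g'.residueDegree (genericPoint I.subscheme), hm, ?_⟩
  rw [Kleiman.curveDeg_iso k _ eL]
  change Pic13.curveDeg k (I.subscheme ↘ Spec (CommRingCat.of k)) _ =
    _ * Pic13.curveDeg k (Y ↘ Spec (CommRingCat.of k)) _
  rw [RuledSurf.curveDeg_eq_deg k I.subscheme hdimZ, RuledSurf.curveDeg_eq_deg k Y hY, dL]

theorem natCast_eq_one (n : ℕ) (hn : ((n : ℕ) : WithBot ℕ∞) = ((1 : ℕ) : WithBot ℕ∞)) : n = 1 := by
  have h' : (((n : ℕ∞)) : WithBot ℕ∞) = (((1 : ℕ) : ℕ∞) : WithBot ℕ∞) := hn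
  exact_mod_cast WithBot.coe_injective h'

/-- nefness descends along surjective morphisms -/
theorem nef_of_pullback_nef (g : X' ⟶ X)
    (hg : g ≫ (X ↘ Spec (CommRingCat.of k)) = X' ↘ Spec (CommRingCat.of k)) [Surjective g]
    (L : X.Modules) (hL : PicF.IsInvertible L)
    (h' : ∀ C' : X'.IdealSheafData, IsIntegral C'.subscheme →
      topologicalKrullDim (C'.support : Set X') = 1 →
        0 ≤ Curv2.euler k X' (CohB1.tensorMod (ClSub.quotMod C')
            ((Scheme.Modules.pullback g).obj L)) - Curv2.euler k X' (ClSub.quotMod C'))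
    (C : X.IdealSheafData) (hC : IsIntegral C.subscheme)
    (hC1 : topologicalKrullDim (C.support : Set X) = 1) :
    0 ≤ Curv2.euler k X (CohB1.tensorMod (ClSub.quotMod C) L) -
      Curv2.euler k X (ClSub.quotMod C) := by
  haveI := hC
  have hY : topologicalKrullDim C.subscheme = 1 := by rw [dim_subscheme, hC1]
  obtain ⟨ξ', hξ', hdim'⟩ := exists_curve_over k X X' g hg C.subscheme C.subschemeι hY
  obtain ⟨I, hI⟩ : ∃ I : X'.IdealSheafData, I = IntMult.ptIdeal ξ' := ⟨_, rfl⟩
  haveI : IsIntegral I.subscheme := by rw [hI]; exact Dv.isIntegral_ptIdeal_subscheme ξ'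
  have hrangeι' : Set.range I.subschemeι = closure {ξ'} := by
    rw [hI]; exact Dv.range_ptIdeal_subschemeι ξ'
  have hdimZ : topologicalKrullDim I.subscheme = 1 := by
    rw [IsHomeomorph.topologicalKrullDim_eq _
      (I.subschemeι.isClosedEmbedding.isEmbedding.toHomeomorph).isHomeomorph, hrangeι', hdim']
    exact Nat.cast_one
  have hgenι' : I.subschemeι (genericPoint I.subscheme) = ξ' := by
    have hc : closure {I.subschemeι (genericPoint I.subscheme)} = closure ({ξ'} : Set X') := by
      rw [closure_generic_subscheme' I, ← hrangeι',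
        Scheme.IdealSheafData.range_subschemeι]
    exact (inseparable_iff_closure_eq.2 hc).eq
  have hsupp : topologicalKrullDim (I.support : Set X') = 1 := by
    rw [← dim_subscheme, hdimZ]
  obtain ⟨m, hm, hdeg⟩ := deg_transfer k X X' g hg L hL I hdimZ C.subscheme C.subschemeι hY
    (by rw [hgenι']; exact hξ')
  have hle1 : topologicalKrullDim I.subscheme ≤ ((1 : ℕ) : WithBot ℕ∞) := by
    rw [hdimZ]; exact le_of_eq Nat.cast_one.symm
  have hle2 : topologicalKrullDim C.subscheme ≤ ((1 : ℕ) : WithBot ℕ∞) := by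
    rw [hY]; exact le_of_eq Nat.cast_one.symm
  have h1 := h' I inferInstance hsupp
  rw [eulerForm_eq_curveDeg k X' I hle1 _ (PullGen.isInvertible_pullback g hL), hdeg] at h1
  rw [eulerForm_eq_curveDeg k X C hle2 L hL]
  have hm' : (0 : ℤ) < m := by exact_mod_cast hm
  by_contra hneg
  rw [not_le] at hneg
  have := mul_neg_of_pos_of_neg hm' hneg
  linarith

set_option maxHeartbeats 1600000 in
/-- nefness is preserved by pullback -/
theorem pullback_nef_of_nef (g : X' ⟶ X)
    (hg : g ≫ (X ↘ Spec (CommRingCat.of k)) = X' ↘ Spec (CommRingCat.of k))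
    (L : X.Modules) (hL : PicF.IsInvertible L)
    (h : ∀ C : X.IdealSheafData, IsIntegral C.subscheme →
      topologicalKrullDim (C.support : Set X) = 1 →
        0 ≤ Curv2.euler k X (CohB1.tensorMod (ClSub.quotMod C) L) -
          Curv2.euler k X (ClSub.quotMod C))
    (C' : X'.IdealSheafData) (hC' : IsIntegral C'.subscheme)
    (hC'1 : topologicalKrullDim (C'.support : Set X') = 1) :
    0 ≤ Curv2.euler k X' (CohB1.tensorMod (ClSub.quotMod C')
        ((Scheme.Modules.pullback g).obj L)) - Curv2.euler k X' (ClSub.quotMod C') := by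
  haveI := hC'
  haveI : AlgebraicGeometry.IsNoetherian X := Euler.isNoetherian_of_proper k X
  haveI : IsProper (g ≫ (X ↘ Spec (CommRingCat.of k))) := by rw [hg]; infer_instance
  haveI : IsProper g := IsProper.of_comp g (X ↘ Spec (CommRingCat.of k))
  have hdimZ : topologicalKrullDim C'.subscheme = 1 := by rw [dim_subscheme, hC'1]
  have hle1 : topologicalKrullDim C'.subscheme ≤ ((1 : ℕ) : WithBot ℕ∞) := by
    rw [hdimZ]; exact le_of_eq Nat.cast_one.symm
  obtain ⟨ξ', hξ'def⟩ : ∃ ξ' : X', ξ' = C'.subschemeι (genericPoint C'.subscheme) := ⟨_, rfl⟩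
  have hcl' : closure {ξ'} = (C'.support : Set X') := by
    rw [hξ'def]; exact closure_generic_subscheme' C'
  have htr' : tr (X' ↘ Spec (CommRingCat.of k)) ξ' = 1 := by
    apply natCast_eq_one
    rw [← dim_closure_of_field k (X' ↘ Spec (CommRingCat.of k)) ξ', hcl', hC'1]
    exact Nat.cast_one.symm
  obtain ⟨η, hη⟩ : ∃ η : X, η = g ξ' := ⟨_, rfl⟩
  have key : ∀ (q : X' ⟶ Spec (CommRingCat.of k)) [LocallyOfFiniteType q],
      q = g ≫ (X ↘ Spec (CommRingCat.of k)) →
        tr q ξ' = tr (X ↘ Spec (CommRingCat.of k)) (g ξ') + tr g ξ' := by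
    intro q _ hq
    subst hq
    exact tr_comp g (X ↘ Spec (CommRingCat.of k)) ξ'
  have h3 := key _ hg.symm
  rw [htr', ← hη] at h3
  rw [eulerForm_eq_curveDeg k X' C' hle1 _ (PullGen.isInvertible_pullback g hL)]
  have hrange0 : ∀ z : C'.subscheme, g (C'.subschemeι z) ∈ closure ({η} : Set X) := by
    intro z
    have hz : C'.subschemeι z ∈ closure ({ξ'} : Set X') := by
      rw [hcl', ← Scheme.IdealSheafData.range_subschemeι]; exact ⟨z, rfl⟩
    have := image_closure_subset_closure_image g.continuous (s := {ξ'}) ⟨_, hz, rfl⟩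
    rwa [Set.image_singleton, ← hη] at this
  rcases Nat.eq_zero_or_pos (tr (X ↘ Spec (CommRingCat.of k)) η) with h0 | hpos
  · -- the curve is contracted to a closed point
    have hclosed : closure ({η} : Set X) = {η} := by
      refine Set.Subset.antisymm ?_ subset_closure
      intro y hy
      have hsp : η ⤳ y := specializes_iff_mem_closure.2 hy
      by_contra hne
      have hne' : η ≠ y := fun e => hne (Set.mem_singleton_iff.2 e.symm)
      have := tr_lt_of_specializes (X ↘ Spec (CommRingCat.of k)) η y hsp hne'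
        (Subsingleton.elim (α := PrimeSpectrum k) _ _)
      omega
    obtain ⟨U, hηU, ⟨e⟩⟩ := hL η
    have hrU : Set.range (C'.subschemeι ≫ g) ⊆ Set.range U.ι := by
      rintro _ ⟨z, rfl⟩
      rw [Scheme.Opens.range_ι, Scheme.Hom.comp_apply]
      have := hrange0 z
      rw [hclosed, Set.mem_singleton_iff] at this
      rw [this]; exact hηU
    obtain ⟨j, hj⟩ : ∃ j : C'.subscheme ⟶ (U : Scheme.{u}), j ≫ U.ι = C'.subschemeι ≫ g :=
      ⟨IsOpenImmersion.lift U.ι _ hrU, IsOpenImmersion.lift_fac _ _ _⟩
    have e' : (Scheme.Modules.pullback U.ι).obj L ≅ Coh.structureModule (U : Scheme.{u}) :=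
      ((Scheme.Modules.restrictFunctorIsoPullback U.ι).app L).symm ≪≫ e
    have eO : (Scheme.Modules.pullback C'.subschemeι).obj ((Scheme.Modules.pullback g).obj L) ≅
        Coh.structureModule C'.subscheme :=
      (Scheme.Modules.pullbackComp C'.subschemeι g).app L ≪≫
        (Scheme.Modules.pullbackCongr hj.symm).app L ≪≫
        ((Scheme.Modules.pullbackComp j U.ι).app L).symm ≪≫
        (Scheme.Modules.pullback j).mapIso e' ≪≫ PullSec.unitIso j
    rw [Kleiman.curveDeg_iso k _ eO]
    unfold Pic13.curveDeg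
    rw [sub_self]
  · -- the curve dominates a curve
    have htrη : tr (X ↘ Spec (CommRingCat.of k)) η = 1 := by omega
    obtain ⟨J, hJ⟩ : ∃ J : X.IdealSheafData, J = IntMult.ptIdeal η := ⟨_, rfl⟩
    haveI : IsIntegral J.subscheme := by rw [hJ]; exact Dv.isIntegral_ptIdeal_subscheme η
    have hrangeJ : Set.range J.subschemeι = closure {η} := by
      rw [hJ]; exact Dv.range_ptIdeal_subschemeι η
    have hY : topologicalKrullDim J.subscheme = 1 := by
      rw [IsHomeomorph.topologicalKrullDim_eq _
        (J.subschemeι.isClosedEmbedding.isEmbedding.toHomeomorph).isHomeomorph, hrangeJ,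
        dim_closure_of_field k (X ↘ Spec (CommRingCat.of k)) η, htrη]
      exact Nat.cast_one
    have hgenJ : J.subschemeι (genericPoint J.subscheme) = η := by
      have hc : closure {J.subschemeι (genericPoint J.subscheme)} = closure ({η} : Set X) := by
        rw [closure_generic_subscheme' J, ← hrangeJ, Scheme.IdealSheafData.range_subschemeι]
      exact (inseparable_iff_closure_eq.2 hc).eq
    obtain ⟨m, hm, hdeg⟩ := deg_transfer k X X' g hg L hL C' hdimZ J.subscheme J.subschemeι hY
      (by rw [hgenJ, hη, hξ'def])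
    rw [hdeg]
    have hJsupp : topologicalKrullDim (J.support : Set X) = 1 := by
      rw [← dim_subscheme, hY]
    have hle2 : topologicalKrullDim J.subscheme ≤ ((1 : ℕ) : WithBot ℕ∞) := by
      rw [hY]; exact le_of_eq Nat.cast_one.symm
    have h1 := h J inferInstance hJsupp
    rw [eulerForm_eq_curveDeg k X J hle2 L hL] at h1
    exact mul_nonneg (by exact_mod_cast hm.le) h1

end Main

end Groth.Agent.Helper1.NumSurj2
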