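import Mathlib
import Groth.Agent.Lib.Helper4.FibDim1
import Groth.Agent.Lib.Helper7.CurveThru.TrDim
import Groth.Agent.Lib.Helper1.DegFin2
import Groth.Agent.Lib.Helper1.ResolEuler1
import Groth.Agent.Lib.Helper1.ThmB7
import Groth.Agent.Lib.Helper4.IntSection1

/-!
# Generic behaviour of a dominant proper morphism of varieties of the same dimension (helper1)

For a dominant morphism `π : Z ⟶ W` of integral schemes locally of finite type over a field with
`dim Z = dim W`, the generic fibre is the generic point, the higher direct images vanish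
generically and the generic rank of `π_* O_Z` is the degree of the function field extension.
-/

set_option backward.isDefEq.respectTransparency.types false
set_option synthInstance.maxHeartbeats 400000
set_option autoImplicit false
set_option linter.unusedSectionVars false
set_option linter.style.haveILetI false
set_option linter.unusedVariables false
universe u
open CategoryTheory CategoryTheory.Limits AlgebraicGeometry TopologicalSpace Opposite

namespace Groth.Agent.Helper1.PullNum

open Groth.Agent.Helper1 Groth.Agent.Lib.Helper4.FibDim1 Groth.Agent.Helper1.Curve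

section Cast

theorem natCast_inj' (a b : ℕ) (h : ((a : ℕ) : WithBot ℕ∞) = ((b : ℕ) : WithBot ℕ∞)) : a = b := by
  have h' : (((a : ℕ∞)) : WithBot ℕ∞) = (((b : ℕ) : ℕ∞) : WithBot ℕ∞) := h
  exact_mod_cast WithBot.coe_injective h'

theorem natCast_le' (a b : ℕ) (h : a ≤ b) : ((a : ℕ) : WithBot ℕ∞) ≤ ((b : ℕ) : WithBot ℕ∞) := by
  have h' : (((a : ℕ∞)) : WithBot ℕ∞) ≤ (((b : ℕ) : ℕ∞) : WithBot ℕ∞) :=
    WithBot.coe_le_coe.2 (by exact_mod_cast h)
  exact h'

end Cast

section Dim

variable (k : Type u) [Field k]

theorem dim_spec_field : topologicalKrullDim ↥(Spec (CommRingCat.of k)) = 0 := by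
  change topologicalKrullDim (PrimeSpectrum k) = 0
  rw [PrimeSpectrum.topologicalKrullDim_eq_ringKrullDim]
  exact ringKrullDim_eq_zero_of_field k

/-- the dimension of an irreducible scheme locally of finite type over a field is the
transcendence degree of the residue field of its generic point -/
theorem dim_eq_tr {T : Scheme.{u}} [IrreducibleSpace T] (p : T ⟶ Spec (CommRingCat.of k))
    [LocallyOfFiniteType p] :
    topologicalKrullDim T = ((tr p (genericPoint T) : ℕ) : WithBot ℕ∞) := by
  have hsurj : Function.Surjective p.base := fun y => ⟨genericPoint T, Subsingleton.elim _ _⟩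
  have hUC := (Groth.Agent.Helper7.CurveThru.isSetup_spec_field k).2.1
  rw [dim_eq_of_surjective p hUC hsurj, dim_spec_field, zero_add]

/-- transcendence degrees of residue fields in a composite -/
theorem tr_comp {X Y S : Scheme.{u}} (f : X ⟶ Y) (g : Y ⟶ S) [LocallyOfFiniteType f]
    [LocallyOfFiniteType g] (x : X) :
    tr (f ≫ g) x = tr g (f x) + tr f x := by
  letI algAB : Algebra (S.residueField (g (f x))) (Y.residueField (f x)) :=
    (g.residueFieldMap (f x)).hom.toAlgebra
  letI algBC : Algebra (Y.residueField (f x)) (X.residueField x) :=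
    (f.residueFieldMap x).hom.toAlgebra
  letI algAC : Algebra (S.residueField (g (f x))) (X.residueField x) :=
    ((f ≫ g).residueFieldMap x).hom.toAlgebra
  haveI : IsScalarTower (S.residueField (g (f x))) (Y.residueField (f x)) (X.residueField x) :=
    IsScalarTower.of_algebraMap_eq (fun a => by
      change ((f ≫ g).residueFieldMap x).hom a =
        (f.residueFieldMap x).hom ((g.residueFieldMap (f x)).hom a)
      rw [Scheme.residueFieldMap_comp]
      rfl)
  have h := trdeg_add_eq (S.residueField (g (f x))) (Y.residueField (f x))
    (A := X.residueField x)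
  have h1 : Algebra.trdeg (S.residueField (g (f x))) (X.residueField x) =
      (tr (f ≫ g) x : Cardinal.{u}) := tr_spec (f ≫ g) x
  have h2 : Algebra.trdeg (S.residueField (g (f x))) (Y.residueField (f x)) =
      (tr g (f x) : Cardinal.{u}) := tr_spec g (f x)
  have h3 : Algebra.trdeg (Y.residueField (f x)) (X.residueField x) =
      (tr f x : Cardinal.{u}) := tr_spec f x
  rw [h1, h2, h3] at h
  exact_mod_cast h.symm

/-- the dimension of the target of a dominant morphism is at most that of the source -/
theorem dim_le (k : Type u) [Field k] {Z W : Scheme.{u}} [IsIntegral Z] [IsIntegral W] (π : Z ⟶ W)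
    (pW : W ⟶ Spec (CommRingCat.of k)) [LocallyOfFiniteType π] [LocallyOfFiniteType pW]
    (hη : π (genericPoint Z) = genericPoint W) :
    topologicalKrullDim W ≤ topologicalKrullDim Z := by
  rw [dim_eq_tr k pW, dim_eq_tr k (π ≫ pW), tr_comp π pW, hη]
  exact natCast_le' _ _ (Nat.le_add_right _ _)

/-- equality of dimensions forces the generic fibre to be algebraic -/
theorem tr_eq_zero (k : Type u) [Field k] {Z W : Scheme.{u}} [IsIntegral Z] [IsIntegral W]
    (π : Z ⟶ W) (pW : W ⟶ Spec (CommRingCat.of k)) [LocallyOfFiniteType π]
    [LocallyOfFiniteType pW] (hη : π (genericPoint Z) = genericPoint W) (d : ℕ)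
    (hZ : topologicalKrullDim Z = ((d : ℕ) : WithBot ℕ∞))
    (hW : topologicalKrullDim W = ((d : ℕ) : WithBot ℕ∞)) : tr π (genericPoint Z) = 0 := by
  have h1 := dim_eq_tr k pW
  have h2 := dim_eq_tr k (π ≫ pW)
  rw [tr_comp π pW, hη] at h2
  rw [hW] at h1
  rw [hZ] at h2
  have h1' := natCast_inj' _ _ h1
  have h2' := natCast_inj' _ _ h2
  omega

end Dim

section Generic

variable {Z W : Scheme.{u}} [IsIntegral Z] [IsIntegral W] (π : Z ⟶ W) [LocallyOfFiniteType π]

theorem fibre_eq (htr : tr π (genericPoint Z) = 0) (z : Z)
    (hz : π z = π (genericPoint Z)) : z = genericPoint Z := by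
  by_contra hne
  have h := tr_lt_of_specializes π (genericPoint Z) z (genericPoint_specializes z)
    (Ne.symm hne) hz.symm
  omega

theorem dim_fiber_le [IsLocallyNoetherian W] (htr : tr π (genericPoint Z) = 0) :
    topologicalKrullDim ↥(π.fiber (π (genericPoint Z))) ≤ ((0 : ℕ) : WithBot ℕ∞) := by
  rw [dim_generic_fibre π _ rfl, htr]

/-- the higher direct images vanish at the generic point -/
theorem generic_notMem_support_rpush [IsProper π] [IsLocallyNoetherian W]
    [HasInjectiveResolutions Z.Modules] (htr : tr π (genericPoint Z) = 0)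
    (hη : π (genericPoint Z) = genericPoint W) (M : Z.Modules) (hM : Coh.IsCoh M) (p : ℕ)
    (hp : 0 < p) : genericPoint W ∉ CohB1.support ((Coh.Rpush π p).obj M) := by
  intro hmem
  apply hmem
  rw [← hη]
  exact ResolEuler.subsingleton_stalk_rpush π M hM _ 0 (dim_fiber_le π htr) p hp

/-- the generic rank of `π_* O_Z` is the degree of the function field extension -/
theorem length_stalk_pushO [IsProper π] (htr : tr π (genericPoint Z) = 0)
    (hη : π (genericPoint Z) = genericPoint W) :
    (Module.length (W.presheaf.stalk (genericPoint W))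
      ((pushO π).presheaf.stalk (genericPoint W))).toNat = π.residueDegree (genericPoint Z) := by
  rw [Euler.toNat_length_eq_finrank]
  have key : ∀ y : W, π (genericPoint Z) = y → IsField (W.presheaf.stalk y) →
      Module.finrank (W.presheaf.stalk y) ((pushO π).presheaf.stalk y) =
        π.residueDegree (genericPoint Z) := by
    intro y hy hK
    subst hy
    exact DegFin.finrank_stalk_pushO π (genericPoint Z) π.isClosedMap
      (fun z hz => fibre_eq π htr z hz) (Field.toIsField Z.functionField) hK
  exact key _ hη (Field.toIsField W.functionField)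

end Generic

end Groth.Agent.Helper1.PullNum
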