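import Mathlib
import Groth.Agent.Lib.Helper1.DegComp1
import Groth.Agent.Lib.Helper1.NumSurj2
import Groth.Agent.Lib.Helper1.PullNum1
import Groth.Agent.Lib.Helper4.FTDim1

/-!
# Riemann–Roch for a locally free module against a coherent module on a proper scheme whose
irreducible components have dimension one (helper1)

`χ(E ⊗ F) = Σ_Z r_Z(F) deg(E|_{Z_red}) + n χ(F)`.
-/

set_option autoImplicit false
set_option linter.unusedSectionVars false
universe u
open CategoryTheory CategoryTheory.Limits AlgebraicGeometry TopologicalSpace Opposite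

namespace Groth.Agent.Helper1.DegComp2

open Groth.Agent.Helper1 Groth.Agent.Helper1.Euler Groth.Agent.Helper1.Dv
open Groth.Agent.Helper1.FinLen Groth.Agent.Helper1.TwForm Groth.Agent.Helper1.Curve
open Groth.Agent.Helper1.DegComp Groth.Agent.Lib.Helper4.FibDim1

/-- a scheme of finite type over a field whose irreducible components have dimension one has
dimension at most one -/
theorem dim_le_one_of_components (k : Type u) [Field k] (X : Scheme.{u})
    [X.Over (Spec (CommRingCat.of k))] [IsProper (X ↘ (Spec (CommRingCat.of k)))]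
    (hdimZ : ∀ Z ∈ irreducibleComponents (X : Type u), topologicalKrullDim Z = 1) :
    topologicalKrullDim X ≤ 1 := by
  apply Groth.Agent.Lib.Helper4.FTDim1.dim_le_of_forall_tr k (X ↘ Spec (CommRingCat.of k))
  intro x
  obtain ⟨Z, hZ, hxZ⟩ := exists_mem_irreducibleComponents_subset_of_isIrreducible
    ({x} : Set X) isIrreducible_singleton
  have hcl : closure {hZ.1.genericPoint} = Z :=
    (hZ.1.isGenericPoint_genericPoint (isClosed_of_mem_irreducibleComponents Z hZ)).def
  have hsp : hZ.1.genericPoint ⤳ x := by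
    rw [specializes_iff_mem_closure, hcl]; exact hxZ (Set.mem_singleton x)
  have h1 := Groth.Agent.Lib.Helper4.FTDim1.tr_le_of_specializes_of_field k
    (X ↘ Spec (CommRingCat.of k)) _ _ hsp
  have h2 := Groth.Agent.Lib.Helper4.PropDim1.dim_closure_of_field k
    (X ↘ Spec (CommRingCat.of k)) hZ.1.genericPoint
  rw [hcl, hdimZ Z hZ] at h2
  have h3 : tr (X ↘ Spec (CommRingCat.of k)) hZ.1.genericPoint = 1 :=
    NumSurj2.natCast_eq_one _ (h2.symm.trans Nat.cast_one.symm)
  rw [h3] at h1
  calc ((tr (X ↘ Spec (CommRingCat.of k)) x : ℕ) : WithBot ℕ∞)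
      ≤ ((1 : ℕ) : WithBot ℕ∞) := PullNum.natCast_le' _ _ h1
    _ = 1 := Nat.cast_one

variable (k : Type u) [Field k] (X : Scheme.{u}) [X.Over (Spec (CommRingCat.of k))]
  [IsProper (X ↘ (Spec (CommRingCat.of k)))]

/-- the contribution of a point to `ψ(F) = χ(E ⊗ F) - n χ(F)` -/
noncomputable def ptTermF (n : ℕ) (E F : X.Modules) (ξ : X) : ℤ :=
  if topologicalKrullDim (closure ({ξ} : Set X)) = ((1 : ℕ) : WithBot ℕ∞) then
    ((Module.length (X.presheaf.stalk ξ) (F.presheaf.stalk ξ)).toNat : ℤ) *
      psi k X n E (Cyc.closureStructureSheaf ξ)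
  else 0

theorem psi_eq_finsum_points [IsNoetherian X] (hdim : topologicalKrullDim X ≤ 1) (n : ℕ)
    (E : X.Modules) (hE : FlatMod.IsFinLocFreeOfRank n E) (F : X.Modules) (hF : Coh.IsCoh F) :
    psi k X n E F = ∑ᶠ ξ : X, ptTermF k X n E F ξ := by
  have hdimF : topologicalKrullDim ↥(CohB1.support F) ≤ ((1 : ℕ) : WithBot ℕ∞) := by
    have := (topologicalKrullDim_subspace_le X (CohB1.support F)).trans hdim
    simpa using this
  have h := k0_cycle_congr 1 F hF hdimF
  have hker : AddSubgroup.closure {c : KZero.K0sub (PC X) |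
        ∃ G : X.Modules, Coh.IsCoh G ∧
          topologicalKrullDim ↥(CohB1.support G) < ((1 : ℕ) : WithBot ℕ∞) ∧
          c = KZero.clSub (PC X) G} ≤ (psiHom k X n E hE).ker := by
    rw [AddSubgroup.closure_le]
    rintro _ ⟨G, hG, hd, rfl⟩
    change psiHom k X n E hE (KZero.clSub (PC X) G) = 0
    rw [psiHom_clSub k X n E hE G hG]
    exact psi_eq_zero_of_dim_lt_one k X n E hE G hG hd
  have h0 : psiHom k X n E hE (KZero.clSub (PC X) F - cyc 1 F) = 0 := hker h
  rw [map_sub, sub_eq_zero, psiHom_clSub k X n E hE _ hF] at h0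
  rw [h0]
  have hfin := cyc_support_finite (CohB1.support F) (FtGen.isClosed_support _ hF.2) 1 hdimF F
    subset_rfl
  unfold cyc
  rw [AddMonoidHom.map_finsum (psiHom k X n E hE) hfin]
  refine finsum_congr fun ξ => ?_
  unfold ptTermF
  by_cases hξ : topologicalKrullDim (closure ({ξ} : Set X)) = ((1 : ℕ) : WithBot ℕ∞)
  · rw [if_pos hξ, if_pos hξ, map_nsmul, nsmul_eq_mul,
      psiHom_clSub k X n E hE _ (isCoh_closureStructureSheaf ξ)]
  · rw [if_neg hξ, if_neg hξ, map_zero]

set_option maxHeartbeats 1600000 in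
/-- **S17659** -/
theorem s17659 [IsNoetherian X]
    (hdimZ : ∀ Z ∈ irreducibleComponents (X : Type u), topologicalKrullDim Z = 1)
    (n : ℕ) (E : X.Modules) (hE : FlatMod.IsFinLocFreeOfRank n E) (F : X.Modules)
    (hF : Coh.IsCoh F) :
    Curv2.euler k X (CohB1.tensorMod E F) =
      (∑ᶠ Z : irreducibleComponents (X : Type u),
        ((Module.length (X.presheaf.stalk Z.2.1.genericPoint)
            (F.presheaf.stalk Z.2.1.genericPoint)).toNat : ℤ) *
          @Curv2.deg k _ (X.irreducibleComponentIdeal Z.1 Z.2).radical.subscheme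
            ⟨(X.irreducibleComponentIdeal Z.1 Z.2).radical.subschemeι ≫
              (X ↘ (Spec (CommRingCat.of k)))⟩
            ((Scheme.Modules.pullback
              (X.irreducibleComponentIdeal Z.1 Z.2).radical.subschemeι).obj E) n) +
        (n : ℤ) * Curv2.euler k X F := by
  classical
  have hdim := dim_le_one_of_components k X hdimZ
  have hpsi : Curv2.euler k X (CohB1.tensorMod E F) =
      psi k X n E F + (n : ℤ) * Curv2.euler k X F := by
    unfold psi; ring
  rw [hpsi, psi_eq_finsum_points k X hdim n E hE F hF]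
  congr 1
  obtain ⟨e, he⟩ : ∃ e : irreducibleComponents (X : Type u) → X,
    ∀ Z, e Z = Z.2.1.genericPoint := ⟨fun Z => Z.2.1.genericPoint, fun _ => rfl⟩
  have hgen : ∀ Z : irreducibleComponents (X : Type u), closure {e Z} = Z.1 := fun Z => by
    rw [he]
    exact (Z.2.1.isGenericPoint_genericPoint (isClosed_of_mem_irreducibleComponents Z.1 Z.2)).def
  have hinj : Function.Injective e := by
    intro Z Z' h
    apply Subtype.ext
    rw [← hgen Z, ← hgen Z', h]
  have hsupp : Function.support (ptTermF k X n E F) ⊆ Set.range e := by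
    intro ξ hξ
    rw [Function.mem_support] at hξ
    have hd : topologicalKrullDim (closure ({ξ} : Set X)) = ((1 : ℕ) : WithBot ℕ∞) := by
      by_contra hne
      exact hξ (if_neg hne)
    have hcomp : closure ({ξ} : Set X) ∈ irreducibleComponents (X : Type u) :=
      mem_irreducibleComponents_of_dim_one hdim ξ hd
    refine ⟨⟨closure {ξ}, hcomp⟩, ?_⟩
    have h1 : IsGenericPoint (e ⟨closure {ξ}, hcomp⟩) (closure {ξ}) := hgen ⟨closure {ξ}, hcomp⟩
    have h2 : IsGenericPoint ξ (closure {ξ}) := rfl
    exact h1.eq h2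
  have h1 : ∑ᶠ ξ, ptTermF k X n E F ξ = ∑ᶠ ξ ∈ Set.range e, ptTermF k X n E F ξ := by
    rw [← finsum_mem_univ]
    exact finsum_mem_inter_support_eq _ _ _
      (by rw [Set.univ_inter, Set.inter_eq_right.mpr hsupp])
  rw [h1, finsum_mem_range hinj]
  refine finsum_congr fun Z => ?_
  have hcl := hgen Z
  unfold ptTermF
  have hd : topologicalKrullDim (closure ({e Z} : Set X)) = ((1 : ℕ) : WithBot ℕ∞) := by
    rw [hcl, hdimZ Z.1 Z.2]; exact Nat.cast_one.symm
  rw [if_pos hd]
  have hpsi' : psi k X n E (Cyc.closureStructureSheaf (e Z)) =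
      @Curv2.deg k _ (X.irreducibleComponentIdeal Z.1 Z.2).radical.subscheme
        ⟨(X.irreducibleComponentIdeal Z.1 Z.2).radical.subschemeι ≫
          (X ↘ (Spec (CommRingCat.of k)))⟩
        ((Scheme.Modules.pullback
          (X.irreducibleComponentIdeal Z.1 Z.2).radical.subschemeι).obj E) n := by
    rw [psi_closureStructureSheaf k X n E hE (e Z)]
    apply deg_congr_ideal
    rw [radical_irreducibleComponentIdeal X Z.1 Z.2]
    change Scheme.IdealSheafData.vanishingIdeal _ = _
    congr 1
    exact Closeds.ext hcl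
  rw [hpsi', he]

end Groth.Agent.Helper1.DegComp2
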