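import Mathlib
import Groth.Agent.Lib.Helper1.SurfCurve1
import Groth.Agent.Lib.Helper1.ArInt1
import Groth.Agent.Lib.Helper1.NM4
import Groth.Agent.Lib.Helper1.NumSurj1

/-!
# Negative definite configurations of curves on a smooth projective surface (helper1)
-/

set_option autoImplicit false
set_option linter.style.haveILetI false
set_option linter.unusedSectionVars false
universe u
open CategoryTheory CategoryTheory.Limits AlgebraicGeometry TopologicalSpace Opposite

namespace Groth.Agent.Helper1.NegDef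

open Groth.Agent.Helper1 Groth.Agent.Helper1.Euler Groth.Agent.Helper1.Dv
open Groth.Agent.Helper1.FinLen Groth.Agent.Helper1.TwForm Groth.Agent.Helper1.Curve
open Groth.Agent.Helper1.Snap Groth.Agent.Helper1.SnapPos Groth.Agent.Helper1.FGAInt
open Groth.Agent.Helper1.FGAPos Groth.Agent.Helper1.Kleiman
open Groth.Agent.Helper1.SurfCurve Groth.Agent.Helper1.RuledSurf
open Groth.Agent.Helper1.CurveDual

section Alg

theorem split_aux (x : ℤ) : x = max x 0 - max (-x) 0 ∧ max x 0 * max (-x) 0 = 0 := by
  rcases le_total x 0 with h0 | h0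
  · rw [max_eq_right h0, max_eq_left (by linarith : (0 : ℤ) ≤ -x)]
    constructor <;> ring
  · rw [max_eq_left h0, max_eq_right (by linarith : -x ≤ (0 : ℤ))]
    constructor <;> ring

theorem zero_of_sum_mul_neg {r : ℕ} (b h : Fin r → ℤ) (hb : ∀ i, 0 ≤ b i) (hh : ∀ i, h i < 0)
    (hs : ∑ i, b i * h i = 0) : ∀ i, b i = 0 := by
  have hterm : ∀ i ∈ Finset.univ, b i * h i ≤ 0 := fun i _ =>
    mul_nonpos_of_nonneg_of_nonpos (hb i) (hh i).le
  have h0 := (Finset.sum_eq_zero_iff_of_nonpos hterm).1 hs
  intro i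
  rcases mul_eq_zero.1 (h0 i (Finset.mem_univ i)) with h1 | h1
  · exact h1
  · exact absurd h1 (hh i).ne

theorem cross_nonneg {r : ℕ} (G : Fin r → Fin r → ℤ) (hG : ∀ i j, i ≠ j → 0 ≤ G i j)
    (p q : Fin r → ℤ) (hp : ∀ i, 0 ≤ p i) (hq : ∀ i, 0 ≤ q i) (hpq : ∀ i, p i * q i = 0) :
    0 ≤ ∑ j, ∑ i, p j * q i * G i j := by
  refine Finset.sum_nonneg fun j _ => Finset.sum_nonneg fun i _ => ?_
  by_cases hij : i = j
  · subst hij
    rw [hpq i]
    simp
  · exact mul_nonneg (mul_nonneg (hp j) (hq i)) (hG i j hij)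

/-- a negative definite form on the numerically nontrivial combinations of distinct curves is
negative definite -/
theorem alg1 {r : ℕ} (G : Fin r → Fin r → ℤ) (hG : ∀ i j, i ≠ j → 0 ≤ G i j)
    (h : Fin r → ℤ) (hh : ∀ i, h i < 0) (N : (Fin r → ℤ) → Prop)
    (hN_G : ∀ a, ¬ N a → ∀ j, ∑ i, a i * G i j = 0)
    (hN_h : ∀ a, ¬ N a → ∑ i, a i * h i = 0)
    (hneg : ∀ a, N a → ∑ i, ∑ j, a i * a j * G i j < 0) (a : Fin r → ℤ) (ha : a ≠ 0) : N a := by
  by_contra hna
  have R1 := hN_G a hna
  have R2 := hN_h a hna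
  obtain ⟨ap, hap⟩ : ∃ ap : Fin r → ℤ, ∀ i, ap i = max (a i) 0 := ⟨_, fun _ => rfl⟩
  obtain ⟨am, ham⟩ : ∃ am : Fin r → ℤ, ∀ i, am i = max (-a i) 0 := ⟨_, fun _ => rfl⟩
  have hsplit : ∀ i, a i = ap i - am i := fun i => by rw [hap, ham]; exact (split_aux (a i)).1
  have hprod : ∀ i, ap i * am i = 0 := fun i => by rw [hap, ham]; exact (split_aux (a i)).2
  have hap0 : ∀ i, 0 ≤ ap i := fun i => by rw [hap]; exact le_max_right _ _
  have ham0 : ∀ i, 0 ≤ am i := fun i => by rw [ham]; exact le_max_right _ _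
  have hnap : ¬ N ap := by
    intro hNap
    have hQ := hneg ap hNap
    have hcol : ∀ j, ∑ i, ap i * G i j = ∑ i, am i * G i j := by
      intro j
      have e : ∑ i, a i * G i j = ∑ i, ap i * G i j - ∑ i, am i * G i j := by
        rw [← Finset.sum_sub_distrib]
        refine Finset.sum_congr rfl fun i _ => ?_
        rw [hsplit i]; ring
      have := R1 j
      linarith
    have hQ' : ∑ i, ∑ j, ap i * ap j * G i j = ∑ j, ∑ i, ap j * am i * G i j := by
      rw [Finset.sum_comm]
      refine Finset.sum_congr rfl fun j _ => ?_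
      have e1 : ∑ i, ap i * ap j * G i j = ap j * ∑ i, ap i * G i j := by
        rw [Finset.mul_sum]
        refine Finset.sum_congr rfl fun i _ => ?_
        ring
      rw [e1, hcol j, Finset.mul_sum]
      refine Finset.sum_congr rfl fun i _ => ?_
      ring
    have hnn := cross_nonneg G hG ap am hap0 ham0 hprod
    linarith
  have hap_zero := zero_of_sum_mul_neg ap h hap0 hh (hN_h ap hnap)
  have ham_zero : ∀ i, am i = 0 := by
    apply zero_of_sum_mul_neg am h ham0 hh
    have e : ∑ i, a i * h i = - ∑ i, am i * h i := by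
      rw [← Finset.sum_neg_distrib]
      refine Finset.sum_congr rfl fun i _ => ?_
      rw [hsplit i, hap_zero i]; ring
    linarith
  apply ha
  funext i
  rw [hsplit i, hap_zero i, ham_zero i]
  simp

/-- coefficients of a combination orthogonal to a negative definite configuration -/
theorem alg2 {r : ℕ} (G : Fin r → Fin r → ℤ) (hG : ∀ i j, i ≠ j → 0 ≤ G i j)
    (hneg : ∀ a : Fin r → ℤ, a ≠ 0 → ∑ i, ∑ j, a i * a j * G i j < 0)
    (d : Fin r → ℤ) (hd : ∀ j, d j ≤ 0) (s : Fin r → ℤ)
    (hs : ∀ j, d j = ∑ i, s i * G i j) : ∀ i, 0 ≤ s i := by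
  obtain ⟨sp, hsp⟩ : ∃ sp : Fin r → ℤ, ∀ i, sp i = max (s i) 0 := ⟨_, fun _ => rfl⟩
  obtain ⟨b, hb⟩ : ∃ b : Fin r → ℤ, ∀ i, b i = max (-s i) 0 := ⟨_, fun _ => rfl⟩
  have hsplit : ∀ i, s i = sp i - b i := fun i => by rw [hsp, hb]; exact (split_aux (s i)).1
  have hprod : ∀ i, b i * sp i = 0 := fun i => by
    rw [hsp, hb, mul_comm]; exact (split_aux (s i)).2
  have hsp0 : ∀ i, 0 ≤ sp i := fun i => by rw [hsp]; exact le_max_right _ _
  have hb0 : ∀ i, 0 ≤ b i := fun i => by rw [hb]; exact le_max_right _ _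
  by_contra hcon
  push Not at hcon
  obtain ⟨i₀, hi₀⟩ := hcon
  have hbne : b ≠ 0 := by
    intro h0
    have h1 := congrFun h0 i₀
    rw [hb i₀] at h1
    have h2 : -s i₀ ≤ max (-s i₀) 0 := le_max_left _ _
    rw [h1] at h2
    simp only [Pi.zero_apply] at h2
    linarith
  have hQ := hneg b hbne
  have hL : ∑ j, b j * d j ≤ 0 := Finset.sum_nonpos fun j _ =>
    mul_nonpos_of_nonneg_of_nonpos (hb0 j) (hd j)
  have hR : ∑ j, b j * d j =
      ∑ j, ∑ i, b j * sp i * G i j - ∑ i, ∑ j, b i * b j * G i j := by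
    have e1 : ∑ j, b j * d j = ∑ j, ∑ i, b j * s i * G i j := by
      refine Finset.sum_congr rfl fun j _ => ?_
      rw [hs j, Finset.mul_sum]
      refine Finset.sum_congr rfl fun i _ => ?_
      ring
    have e2 : ∑ i, ∑ j, b i * b j * G i j = ∑ j, ∑ i, b j * b i * G i j := by
      rw [Finset.sum_comm]
      refine Finset.sum_congr rfl fun j _ => Finset.sum_congr rfl fun i _ => ?_
      ring
    rw [e1, e2, ← Finset.sum_sub_distrib]
    refine Finset.sum_congr rfl fun j _ => ?_
    rw [← Finset.sum_sub_distrib]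
    refine Finset.sum_congr rfl fun i _ => ?_
    rw [hsplit i]; ring
  have hnn := cross_nonneg G hG b sp hb0 hsp0 hprod
  linarith

end Alg

section Geo

variable (k : Type u) [Field k] (X : Scheme.{u}) [X.Over (Spec (CommRingCat.of k))]
  [IsProper (X ↘ (Spec (CommRingCat.of k)))]

/-- the restriction of an invertible ideal to an integral curve not contained in its support has
nonpositive degree -/
theorem curveInt_ideal_nonpos (C D : X.IdealSheafData) (hCi : IsIntegral C.subscheme)
    (hC1 : topologicalKrullDim (C.support : Set X) = 1)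
    (hD : PicF.IsInvertible (ClSub.idealMod D))
    (hη : C.subschemeι (genericPoint C.subscheme) ∉ (D.support : Set X)) :
    Curv2.euler k X (CohB1.tensorMod (ClSub.quotMod C) (ClSub.idealMod D)) -
      Curv2.euler k X (ClSub.quotMod C) ≤ 0 := by
  haveI := hCi
  haveI : AlgebraicGeometry.IsNoetherian X := isNoetherian_of_proper k X
  rw [curveInt_eq_lam k X _ _ (CurveDual.isCoh_quotMod C) hD]
  letI inst : C.subscheme.Over (Spec (CommRingCat.of k)) :=
    ⟨C.subschemeι ≫ (X ↘ Spec (CommRingCat.of k))⟩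
  haveI : IsProper (C.subscheme ↘ Spec (CommRingCat.of k)) := by
    change IsProper (C.subschemeι ≫ (X ↘ Spec (CommRingCat.of k))); infer_instance
  have hdimC : topologicalKrullDim C.subscheme = 1 := by
    rw [IsHomeomorph.topologicalKrullDim_eq _
      (C.subschemeι.isClosedEmbedding.isEmbedding.toHomeomorph).isHomeomorph,
      Scheme.IdealSheafData.range_subschemeι]
    exact hC1
  have hC1' : topologicalKrullDim C.subscheme ≤ ((1 : ℕ) : WithBot ℕ∞) := by
    rw [hdimC]; exact le_of_eq Nat.cast_one.symm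
  have h1 := NumEq.curveDeg_eq_lam_quot k X C.subschemeι hC1' (ClSub.idealMod D) hD
  rw [Scheme.IdealSheafData.ker_subschemeι] at h1
  rw [← h1]
  have h2 := ArInt.neg_curveDeg_P k hdimC C.subschemeι D hD hη
  have h3 := ArInt.euler_cokernel_nonneg k hdimC C.subschemeι D hD hη
  have h4 : Pic13.curveDeg k (C.subschemeι ≫ (X ↘ Spec (CommRingCat.of k)))
      ((Scheme.Modules.pullback C.subschemeι).obj (ClSub.idealMod D)) =
      ArSurf.curveDeg k C.subscheme (ArInt.P C.subschemeι D) := rfl
  rw [h4]
  linarith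

/-- a curve not contained in a closed set has its generic point outside -/
theorem generic_notMem_of_not_subset (C : X.IdealSheafData) (hCi : IsIntegral C.subscheme)
    (Z : Set X) (hZ : IsClosed Z) (h : ¬ (C.support : Set X) ⊆ Z) :
    C.subschemeι (genericPoint C.subscheme) ∉ Z := by
  haveI := hCi
  intro hmem
  apply h
  rw [← closure_generic_subscheme C]
  exact hZ.closure_subset_iff.2 (Set.singleton_subset_iff.2 hmem)

/-- distinct integral curves on a surface: the generic point of one is not on the other -/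
theorem generic_notMem_support [IrreducibleSpace X] (hdim : topologicalKrullDim X = 2)
    (C C' : X.IdealSheafData) (hCi : IsIntegral C.subscheme) (hCi' : IsIntegral C'.subscheme)
    (hC1 : topologicalKrullDim (C.support : Set X) = 1)
    (hC1' : topologicalKrullDim (C'.support : Set X) = 1) (hne : C ≠ C') :
    C.subschemeι (genericPoint C.subscheme) ∉ (C'.support : Set X) := by
  haveI := hCi
  haveI := hCi'
  intro hmem
  obtain ⟨η, hη⟩ : ∃ η : X, η = C.subschemeι (genericPoint C.subscheme) := ⟨_, rfl⟩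
  obtain ⟨η', hη'⟩ : ∃ η' : X, η' = C'.subschemeι (genericPoint C'.subscheme) := ⟨_, rfl⟩
  have hcl : closure {η} = (C.support : Set X) := by rw [hη]; exact closure_generic_subscheme C
  have hcl' : closure {η'} = (C'.support : Set X) := by
    rw [hη']; exact closure_generic_subscheme C'
  rw [← hη] at hmem
  have hsp : η' ⤳ η := by
    rw [specializes_iff_mem_closure, hcl']; exact hmem
  by_cases heq : η = η'
  · apply hne
    have hs : (C.support : Set X) = C'.support := by rw [← hcl, ← hcl', heq]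
    have hC := NumSurj.ker_eq_vanishingIdeal_of_isReduced C.subschemeι
    have hC' := NumSurj.ker_eq_vanishingIdeal_of_isReduced C'.subschemeι
    rw [Scheme.IdealSheafData.ker_subschemeι, Scheme.IdealSheafData.range_subschemeι] at hC hC'
    rw [hC, hC', hs]
  · have h1 := ringKrullDim_stalk_generic_curve hdim C hC1
    have h1' := ringKrullDim_stalk_generic_curve hdim C' hC1'
    rw [← hη, ringKrullDim_stalk_eq_coheight] at h1
    rw [← hη', ringKrullDim_stalk_eq_coheight] at h1'
    have e1 : Order.coheight η = 1 := by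
      have h' : ((Order.coheight η : ℕ∞) : WithBot ℕ∞) = ((1 : ℕ∞) : WithBot ℕ∞) := h1
      exact WithBot.coe_injective h'
    have e1' : Order.coheight η' = 1 := by
      have h' : ((Order.coheight η' : ℕ∞) : WithBot ℕ∞) = ((1 : ℕ∞) : WithBot ℕ∞) := h1'
      exact WithBot.coe_injective h'
    have hlt : η < η' := by
      rw [lt_iff_le_not_ge]
      refine ⟨(Scheme.le_iff_specializes).2 hsp, fun hle => heq ?_⟩
      exact ((Scheme.le_iff_specializes).1 hle).antisymm hsp |>.eq
    have h2 := Order.coheight_add_one_le hlt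
    rw [e1, e1'] at h2
    have h3 : ((1 + 1 : ℕ) : ℕ∞) ≤ ((1 : ℕ) : ℕ∞) := by exact_mod_cast h2
    have h4 : (1 + 1 : ℕ) ≤ 1 := by exact_mod_cast h3
    omega

variable [Smooth (X ↘ (Spec (CommRingCat.of k)))] [IsIntegral X]

/-- distinct integral curves on a smooth proper surface meet nonnegatively -/
theorem intNum_distinct_nonneg (hdim : topologicalKrullDim X = 2)
    (C C' : X.IdealSheafData) (hCi : IsIntegral C.subscheme) (hCi' : IsIntegral C'.subscheme)
    (hC1 : topologicalKrullDim (C.support : Set X) = 1)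
    (hC1' : topologicalKrullDim (C'.support : Set X) = 1) (hne : C ≠ C') :
    0 ≤ FGA.intNum k X 2 ![ClSub.idealMod C, ClSub.idealMod C'] (Coh.structureModule X) := by
  haveI : AlgebraicGeometry.IsNoetherian X := isNoetherian_of_proper k X
  have hd2 : topologicalKrullDim X ≤ ((2 : ℕ) : WithBot ℕ∞) := by rw [hdim]; exact le_of_eq rfl
  have hI' := isInvertible_idealMod_curve k X hdim C' hCi' hC1'
  rw [intNum_ideal_eq_neg_curveInt k X hd2 C (ClSub.idealMod C') hI']
  have := curveInt_ideal_nonpos k X C C' hCi hC1 hI'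
    (generic_notMem_support X hdim C C' hCi hCi' hC1 hC1' hne)
  linarith

/-- an integral curve meets an ample class positively -/
theorem intNum_ideal_ample_neg (hdim : topologicalKrullDim X = 2)
    (C : X.IdealSheafData) (hC1 : topologicalKrullDim (C.support : Set X) = 1)
    (H : X.Modules) (hH : CohB1.IsAmple H) :
    FGA.intNum k X 2 ![ClSub.idealMod C, H] (Coh.structureModule X) < 0 := by
  haveI : AlgebraicGeometry.IsNoetherian X := isNoetherian_of_proper k X
  have hd2 : topologicalKrullDim X ≤ ((2 : ℕ) : WithBot ℕ∞) := by rw [hdim]; exact le_of_eq rfl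
  rw [intNum_ideal_inv k X hd2 C H hH.1]
  have := NM.pos_quotMod k X H hH C 1 (by rw [hC1]; exact Nat.cast_one.symm)
  linarith

end Geo

end Groth.Agent.Helper1.NegDef
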