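import Mathlib
import Groth.Agent.Lib.Helper1.NegCfg1
import Groth.Agent.Lib.Helper4.WellInt4

/-!
# Effective divisors numerically equivalent to a negative definite combination (helper1)
-/

set_option autoImplicit false
set_option linter.style.haveILetI false
set_option linter.unusedSectionVars false
universe u
open CategoryTheory CategoryTheory.Limits AlgebraicGeometry TopologicalSpace Opposite

namespace Groth.Agent.Helper1.NegDef

open Groth.Agent.Helper1 Groth.Agent.Helper1.Euler Groth.Agent.Helper1.Dv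
open Groth.Agent.Helper1.FinLen Groth.Agent.Helper1.TwForm Groth.Agent.Helper1.Curve
open Groth.Agent.Helper1.Snap Groth.Agent.Helper1.SnapPos Groth.Agent.Helper1.FGAInt
open Groth.Agent.Helper1.FGAPos Groth.Agent.Helper1.Kleiman
open Groth.Agent.Helper1.SurfCurve Groth.Agent.Helper1.RuledSurf
open Groth.Agent.Helper1.CurveDual Groth.Agent.Helper1.SurfHodge
open Groth.Agent.Lib.Helper4.FibDim1 Groth.Agent.Lib.Helper4.PropDim1

section Alg

theorem alg3 {r : ℕ} (G : Fin r → Fin r → ℤ) (hG : ∀ i j, i ≠ j → 0 ≤ G i j)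
    (hneg : ∀ a : Fin r → ℤ, a ≠ 0 → ∑ i, ∑ j, a i * a j * G i j < 0)
    (h : Fin r → ℤ) (hh : ∀ i, h i < 0)
    (e : Fin r → ℤ) (he : ∀ j, 0 ≤ e j) (s : Fin r → ℤ)
    (hs : ∀ j, e j = ∑ i, s i * G i j)
    (eH : ℤ) (heH : eH ≤ 0) (hsH : eH = ∑ i, s i * h i) : eH = 0 ∧ ∀ i, s i = 0 := by
  obtain ⟨t, ht⟩ : ∃ t : Fin r → ℤ, ∀ i, t i = - s i := ⟨_, fun _ => rfl⟩
  obtain ⟨d, hd⟩ : ∃ d : Fin r → ℤ, ∀ j, d j = - e j := ⟨_, fun _ => rfl⟩
  have h1 : ∀ i, 0 ≤ t i := by
    refine alg2 G hG hneg d (fun j => by rw [hd j]; have := he j; linarith) t ?_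
    intro j
    rw [hd j, hs j, ← Finset.sum_neg_distrib]
    refine Finset.sum_congr rfl fun i _ => ?_
    rw [ht i]; ring
  have h2 : 0 ≤ ∑ i, s i * h i := by
    refine Finset.sum_nonneg fun i _ => ?_
    have := h1 i
    rw [ht i] at this
    exact mul_nonneg_of_nonpos_of_nonpos (by linarith) (hh i).le
  have h3 : ∑ i, s i * h i = 0 := by linarith
  refine ⟨by linarith, ?_⟩
  have h4 : ∑ i, t i * h i = 0 := by
    have e1 : ∑ i, t i * h i = - ∑ i, s i * h i := by
      rw [← Finset.sum_neg_distrib]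
      refine Finset.sum_congr rfl fun i _ => ?_
      rw [ht i]; ring
    rw [e1, h3, neg_zero]
  have h5 := zero_of_sum_mul_neg t h h1 hh h4
  intro i
  have := h5 i
  rw [ht i] at this
  linarith

end Alg

section Geo2

/-- the support of a nontrivial effective Cartier divisor on an integral proper surface has
dimension one -/
theorem dim_support_effCartier (k : Type u) [Field k] (X : Scheme.{u})
    [X.Over (Spec (CommRingCat.of k))]
    [IsProper (X ↘ (Spec (CommRingCat.of k)))] [IsIntegral X] (hdim : topologicalKrullDim X = 2) (F : X.IdealSheafData)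
    (hF : FGA.IsEffCartier F) (hne : F ≠ ⊤) :
    topologicalKrullDim (F.support : Set X) = ((1 : ℕ) : WithBot ℕ∞) := by
  haveI : AlgebraicGeometry.IsNoetherian X := isNoetherian_of_proper k X
  have hbot : F ≠ ⊥ := by
    intro h0
    obtain ⟨U, hxU, a, ha, hU⟩ := hF (genericPoint X)
    rw [h0] at hU
    have h1 : a ∈ Ideal.span {a} := Ideal.mem_span_singleton_self a
    rw [← hU] at h1
    have h2 : a = 0 := by simpa using h1
    haveI : Nonempty ↥(U : X.Opens) := ⟨⟨genericPoint X, hxU⟩⟩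
    rw [h2] at ha
    exact zero_notMem_nonZeroDivisors ha
  have hsupp_ne : (F.support : Set X) ≠ Set.univ := by
    intro h
    apply hbot
    have h1 : F.support = ⊤ := TopologicalSpace.Closeds.ext h
    exact Scheme.IdealSheafData.support_eq_top_iff.1 h1
  have hle : topologicalKrullDim (F.support : Set X) ≤ ((1 : ℕ) : WithBot ℕ∞) := by
    have h1 := Curve.krullDim_add_one_le_of_ne_univ F.support.isClosed hsupp_ne
    rw [hdim] at h1
    exact le_one_of_add_one_le_two _ h1
  have hne' : (F.support : Set X).Nonempty := by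
    by_contra hemp
    rw [Set.not_nonempty_iff_eq_empty] at hemp
    apply hne
    apply (Scheme.IdealSheafData.support_eq_bot_iff F).1
    exact TopologicalSpace.Closeds.ext hemp
  obtain ⟨x, hx⟩ := hne'
  obtain ⟨U, hxU, a, ha, hU⟩ := hF x
  obtain ⟨ξ, hξ⟩ : ∃ ξ : X, ξ = genericPoint X := ⟨_, rfl⟩
  have hsp : ξ ⤳ x := by rw [hξ]; exact genericPoint_specializes x
  have hξU : ξ ∈ U.1 := hsp.mem_open U.1.2 hxU
  have hmem : ∀ t : X, t ∈ U.1 → (t ∈ F.support ↔ t ∈ X.zeroLocus (U := U.1) {a}) := by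
    intro t ht
    rw [Scheme.IdealSheafData.mem_support_iff_of_mem ht, hU, Scheme.zeroLocus_span]
  have hξz : ξ ∉ X.zeroLocus (U := U.1) {a} := by
    rw [← hmem ξ hξU]
    intro hin
    apply hsupp_ne
    apply Set.eq_univ_of_univ_subset
    rw [← genericPoint_closure (α := X), ← hξ]
    exact F.support.isClosed.closure_subset_iff.2 (Set.singleton_subset_iff.2 hin)
  have hxz : x ∈ X.zeroLocus (U := U.1) {a} := (hmem x hxU).1 hx
  obtain ⟨y, hy1, hy2, hy3, hy4⟩ := Groth.Agent.Lib.Helper4.WellInt4.exists_hypersurface_point' k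
    (X ↘ Spec (CommRingCat.of k)) U.1 a ξ x hxU hsp hξz hxz
  have hyU : y ∈ U.1 := hy2.mem_open U.1.2 hxU
  have hyF : y ∈ F.support := (hmem y hyU).2 hy3
  have hcast : ∀ n : ℕ, ((n : ℕ) : WithBot ℕ∞) = (2 : WithBot ℕ∞) → n = 2 := by
    intro n hn
    have h' : (((n : ℕ∞)) : WithBot ℕ∞) = (((2 : ℕ) : ℕ∞) : WithBot ℕ∞) := hn
    exact_mod_cast WithBot.coe_injective h'
  have htrξ : tr (X ↘ Spec (CommRingCat.of k)) ξ = 2 := by
    apply hcast
    rw [← dim_closure_of_field k (X ↘ Spec (CommRingCat.of k)) ξ, hξ, genericPoint_closure,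
      tdim_univ, hdim]
  have htry : tr (X ↘ Spec (CommRingCat.of k)) y = 1 := by omega
  have hdimy : topologicalKrullDim ↥(closure ({y} : Set X)) = ((1 : ℕ) : WithBot ℕ∞) := by
    rw [dim_closure_of_field k (X ↘ Spec (CommRingCat.of k)) y, htry]
  apply le_antisymm hle
  rw [← hdimy]
  exact Groth.Agent.Lib.Helper4.DimFT2.topologicalKrullDim_mono
    (F.support.isClosed.closure_subset_iff.2 (Set.singleton_subset_iff.2 hyF))

/-- an effective Cartier divisor meets an ample class nonnegatively, and trivially only if it is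
zero -/
theorem intNum_effCartier_ample (k : Type u) [Field k] (X : Scheme.{u})
    [X.Over (Spec (CommRingCat.of k))]
    [IsProper (X ↘ (Spec (CommRingCat.of k)))] [IsIntegral X] (hdim : topologicalKrullDim X = 2) (F : X.IdealSheafData)
    (hF : FGA.IsEffCartier F) (H : X.Modules) (hH : CohB1.IsAmple H) :
    FGA.intNum k X 2 ![ClSub.idealMod F, H] (Coh.structureModule X) ≤ 0 ∧
      (FGA.intNum k X 2 ![ClSub.idealMod F, H] (Coh.structureModule X) = 0 → F = ⊤) := by
  haveI : AlgebraicGeometry.IsNoetherian X := isNoetherian_of_proper k X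
  have hd2 : topologicalKrullDim X ≤ ((2 : ℕ) : WithBot ℕ∞) := by rw [hdim]; exact le_of_eq rfl
  rw [intNum_ideal_inv k X hd2 F H hH.1]
  by_cases htop : F = ⊤
  · refine ⟨?_, fun _ => htop⟩
    have hmemF : KZero.clSub (PC X) (ClSub.quotMod F) ∈ FilLT X 1 := by
      refine clSub_mem_FilLT 0 _ (CurveDual.isCoh_quotMod F) ?_
      rw [NM.support_quotMod, htop, Scheme.IdealSheafData.support_top]
      haveI : IsEmpty ↥((⊥ : TopologicalSpace.Closeds X) : Set X) := by
        rw [TopologicalSpace.Closeds.coe_bot]; infer_instance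
      exact (topologicalKrullDim_zero_of_discreteTopology _).trans (le_of_eq Nat.cast_zero.symm)
    rw [lam_eq_zero k X H hH.1 1 _ hmemF]
    simp
  · have hpos := NM.pos_quotMod k X H hH F 1 (dim_support_effCartier k X hdim F hF htop)
    refine ⟨by linarith, fun h0 => ?_⟩
    linarith

end Geo2

end Groth.Agent.Helper1.NegDef
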