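import Mathlib
import Groth.Prelude.Def_NumR
import Groth.Agent.Lib.Helper1.SurfDual2
import Groth.Agent.Lib.Helper1.BigCone1

/-!
# The Hodge index theorem on `N¹(X)_ℝ` of a projective surface (helper1)
-/

set_option autoImplicit false
set_option linter.style.haveILetI false
set_option linter.unusedSectionVars false
universe u
open CategoryTheory CategoryTheory.Limits AlgebraicGeometry TopologicalSpace Opposite

namespace Groth.Agent.Helper1.SurfReal

open Groth.Agent.Helper1 Groth.Agent.Helper1.SurfHodge Groth.Agent.Helper1.BigCone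
open Groth.Agent.Helper1.TwForm

section Real

variable (k : Type u) [Field k] (X : Scheme.{u}) [X.Over (Spec (CommRingCat.of k))]
  [IsProper (X ↘ (Spec (CommRingCat.of k)))] [IsIntegral X] [PicGrp.Law X]

/-- the lattice of the classes of invertible modules -/
noncomputable def lat : AddSubgroup (NumR.N1R k X) where
  carrier := {z | ∃ (L : X.Modules) (hL : PicF.IsInvertible L), z = NumR.clR k X L hL}
  zero_mem' := ⟨Coh.structureModule X, GenLoc.isInvertible_O, (clR_unit k X _).symm⟩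
  add_mem' := by
    rintro _ _ ⟨A, hA, rfl⟩ ⟨B, hB, rfl⟩
    exact ⟨CohB1.tensorMod A B, isInvertible_tensorMod hA hB, (clR_tensor k X hA hB _).symm⟩
  neg_mem' := by
    rintro _ ⟨A, hA, rfl⟩
    obtain ⟨K, hK, ⟨e⟩⟩ := InvInv2.exists_inverse hA
    exact ⟨K, hK, (clR_inverse k X hA hK e).symm⟩

theorem span_lat : Submodule.span ℝ ((lat k X : AddSubgroup (NumR.N1R k X)) : Set (NumR.N1R k X)) = ⊤ :=
  NumR.span_clR

/-- the intersection form is symmetric -/
theorem form_symm (hdim : topologicalKrullDim X = 2)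
    (B : NumR.N1R k X →ₗ[ℝ] NumR.N1R k X →ₗ[ℝ] ℝ) (hB : NumR.IsIntForm₂ k X B)
    (u v : NumR.N1R k X) : B u v = B v u := by
  have hB' : NumR.IsIntForm₂ k X B.flip := by
    intro L M hL hM
    rw [LinearMap.flip_apply, hB M L hM hL, intNum_symm k X hdim M L hM hL]
  have h := NumR.isIntForm₂_unique hB hB'
  have h2 := congrArg (fun f : NumR.N1R k X →ₗ[ℝ] NumR.N1R k X →ₗ[ℝ] ℝ => f u v) h
  simpa using h2

/-- **the reverse Cauchy–Schwarz inequality on `N¹(X)_ℝ`** -/
theorem real_ineq [Module.Finite ℝ (NumR.N1R k X)] (hdim : topologicalKrullDim X = 2)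
    (B : NumR.N1R k X →ₗ[ℝ] NumR.N1R k X →ₗ[ℝ] ℝ) (hB : NumR.IsIntForm₂ k X B)
    (H : X.Modules) (hH : CohB1.IsAmple H) (z : NumR.N1R k X) :
    B z z * B (NumR.clR k X H hH.1) (NumR.clR k X H hH.1) ≤ (B z (NumR.clR k X H hH.1)) ^ 2 := by
  classical
  obtain ⟨h, hh⟩ : ∃ h : NumR.N1R k X, h = NumR.clR k X H hH.1 := ⟨_, rfl⟩
  rw [← hh]
  -- on the lattice
  have hlat : ∀ w ∈ lat k X, B w w * B h h ≤ (B w h) ^ 2 := by
    rintro _ ⟨L, hL, rfl⟩
    rw [hh, hB L L hL hL, hB H H hH.1 hH.1, hB L H hL hH.1]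
    exact_mod_cast lattice_ineq k X hdim H hH L hL
  -- on the rational points
  have hW : ∀ w : NumR.N1R k X, (∃ d : ℕ, 0 < d ∧ (d : ℝ) • w ∈ lat k X) →
      B w w * B h h ≤ (B w h) ^ 2 := by
    rintro w ⟨d, hd, hw⟩
    have h1 := hlat _ hw
    simp only [map_smul, LinearMap.smul_apply, smul_eq_mul] at h1
    have hD : (0 : ℝ) < (d : ℝ) := by exact_mod_cast hd
    have hD2 : (0 : ℝ) < (d : ℝ) * (d : ℝ) := mul_pos hD hD
    have e1 : (d : ℝ) * ((d : ℝ) * B w w) * B h h = ((d : ℝ) * (d : ℝ)) * (B w w * B h h) := by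
      ring
    have e2 : ((d : ℝ) * B w h) ^ 2 = ((d : ℝ) * (d : ℝ)) * (B w h) ^ 2 := by ring
    rw [e1, e2] at h1
    exact le_of_mul_le_mul_left h1 hD2
  have hWadd : ∀ w₁ w₂ : NumR.N1R k X, (∃ d : ℕ, 0 < d ∧ (d : ℝ) • w₁ ∈ lat k X) →
      (∃ d : ℕ, 0 < d ∧ (d : ℝ) • w₂ ∈ lat k X) →
      ∃ d : ℕ, 0 < d ∧ (d : ℝ) • (w₁ + w₂) ∈ lat k X := by
    rintro w₁ w₂ ⟨d₁, hd₁, h₁⟩ ⟨d₂, hd₂, h₂⟩
    refine ⟨d₁ * d₂, Nat.mul_pos hd₁ hd₂, ?_⟩
    have e : ((d₁ * d₂ : ℕ) : ℝ) • (w₁ + w₂) =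
        (d₂ : ℝ) • ((d₁ : ℝ) • w₁) + (d₁ : ℝ) • ((d₂ : ℝ) • w₂) := by
      push_cast
      module
    rw [e, Nat.cast_smul_eq_nsmul ℝ d₂ ((d₁ : ℝ) • w₁),
      Nat.cast_smul_eq_nsmul ℝ d₁ ((d₂ : ℝ) • w₂)]
    exact (lat k X).add_mem ((lat k X).nsmul_mem h₁ d₂) ((lat k X).nsmul_mem h₂ d₁)
  have hWrat : ∀ (r : ℚ) (v : NumR.N1R k X), v ∈ lat k X →
      ∃ d : ℕ, 0 < d ∧ (d : ℝ) • ((r : ℝ) • v) ∈ lat k X := by
    intro r v hv
    refine ⟨r.den, r.den_pos, ?_⟩
    have e0 : (r : ℝ) * (r.den : ℝ) = (r.num : ℝ) := by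
      have h0 := congrArg (fun q : ℚ => (q : ℝ)) (Rat.mul_den_eq_num r)
      push_cast at h0
      exact h0
    have e : (r.den : ℝ) • ((r : ℝ) • v) = (r.num : ℝ) • v := by
      rw [smul_smul, mul_comm, e0]
    rw [e, Int.cast_smul_eq_zsmul ℝ r.num v]
    exact (lat k X).zsmul_mem hv _
  -- a finite spanning family in the lattice
  have hfg : (Submodule.span ℝ ((lat k X : AddSubgroup (NumR.N1R k X)) :
      Set (NumR.N1R k X))).FG := by
    rw [span_lat]
    exact Module.Finite.fg_top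
  obtain ⟨F, hFsub, hFspan⟩ := (Submodule.fg_span_iff_fg_span_finset_subset _).1 hfg
  rw [span_lat] at hFspan
  -- the polynomial functions
  obtain ⟨φ, hφ⟩ : ∃ φ : (F → ℝ) → NumR.N1R k X,
    φ = fun t => ∑ a : F, t a • (a : NumR.N1R k X) := ⟨_, rfl⟩
  obtain ⟨p₁, hp₁d⟩ : ∃ p₁ : (F → ℝ) → ℝ,
    p₁ = fun t => ∑ a : F, t a * B (a : NumR.N1R k X) h := ⟨_, rfl⟩
  obtain ⟨p₂, hp₂d⟩ : ∃ p₂ : (F → ℝ) → ℝ,
    p₂ = fun t => ∑ a : F, t a * ∑ b : F, t b * B (b : NumR.N1R k X) (a : NumR.N1R k X) :=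
    ⟨_, rfl⟩
  have hp₁ : ∀ t, B (φ t) h = p₁ t := by
    intro t
    rw [hφ, hp₁d]
    simp only [map_sum, LinearMap.sum_apply, map_smul, LinearMap.smul_apply, smul_eq_mul]
  have hp₂ : ∀ t, B (φ t) (φ t) = p₂ t := by
    intro t
    rw [hφ, hp₂d]
    simp only [map_sum, LinearMap.sum_apply, map_smul, LinearMap.smul_apply, smul_eq_mul]
  have hc₁ : Continuous p₁ := by
    rw [hp₁d]
    exact continuous_finsetSum _ fun a _ => (continuous_apply a).mul continuous_const
  have hc₂ : Continuous p₂ := by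
    rw [hp₂d]
    exact continuous_finsetSum _ fun a _ => (continuous_apply a).mul
      (continuous_finsetSum _ fun b _ => (continuous_apply b).mul continuous_const)
  have hG : Continuous (fun t => (p₁ t) ^ 2 - p₂ t * B h h) :=
    (hc₁.pow 2).sub (hc₂.mul continuous_const)
  have hScl : IsClosed {t : F → ℝ | 0 ≤ (p₁ t) ^ 2 - p₂ t * B h h} :=
    isClosed_Ici.preimage hG
  have hDd : Dense (Set.pi Set.univ (fun _ : F => Set.range ((↑) : ℚ → ℝ))) :=
    dense_pi Set.univ (fun _ _ => Rat.denseRange_cast)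
  have hDS : Set.pi Set.univ (fun _ : F => Set.range ((↑) : ℚ → ℝ)) ⊆
      {t : F → ℝ | 0 ≤ (p₁ t) ^ 2 - p₂ t * B h h} := by
    intro t ht
    have hmem : ∃ d : ℕ, 0 < d ∧ (d : ℝ) • φ t ∈ lat k X := by
      rw [hφ]
      refine Finset.sum_induction _ (fun w => ∃ d : ℕ, 0 < d ∧ (d : ℝ) • w ∈ lat k X)
        hWadd ⟨1, Nat.one_pos, by rw [smul_zero]; exact (lat k X).zero_mem⟩ ?_
      intro a _
      obtain ⟨r, hr⟩ := ht a (Set.mem_univ a)
      rw [← hr]
      exact hWrat r _ (hFsub a.2)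
    have h1 := hW _ hmem
    rw [hp₁, hp₂] at h1
    change 0 ≤ (p₁ t) ^ 2 - p₂ t * B h h
    linarith
  have hcl := hScl.closure_subset_iff.2 hDS
  rw [hDd.closure_eq] at hcl
  -- conclusion
  have hz : z ∈ Submodule.span ℝ (F : Set (NumR.N1R k X)) := by
    rw [← hFspan]
    exact Submodule.mem_top
  obtain ⟨f, hf⟩ := Submodule.mem_span_finset'.1 hz
  have hzφ : z = φ f := by
    rw [hφ]
    exact hf.symm
  have h1 : 0 ≤ (p₁ f) ^ 2 - p₂ f * B h h := hcl (Set.mem_univ f)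
  rw [hzφ, hp₁, hp₂]
  linarith

/-- the square of an ample class is positive -/
theorem ample_sq_pos (hdim : topologicalKrullDim X = 2)
    (B : NumR.N1R k X →ₗ[ℝ] NumR.N1R k X →ₗ[ℝ] ℝ) (hB : NumR.IsIntForm₂ k X B)
    (H : X.Modules) (hH : CohB1.IsAmple H) :
    0 < B (NumR.clR k X H hH.1) (NumR.clR k X H hH.1) := by
  rw [hB H H hH.1 hH.1]
  exact_mod_cast PosCone.intNum_ample_pos k X hdim H H hH hH

/-- **the positive cone pairs positively with the closed positive cone** -/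
theorem pair_pos [Module.Finite ℝ (NumR.N1R k X)] (hdim : topologicalKrullDim X = 2)
    (B : NumR.N1R k X →ₗ[ℝ] NumR.N1R k X →ₗ[ℝ] ℝ) (hB : NumR.IsIntForm₂ k X B)
    (H : X.Modules) (hH : CohB1.IsAmple H) (x y : NumR.N1R k X)
    (hx : x ∈ NumR.posCone k X B H hH.1) (hy : 0 ≤ B y y)
    (hyH : 0 < B y (NumR.clR k X H hH.1)) : 0 < B x y := by
  have hx' : 0 < B x x ∧ 0 < B x (NumR.clR k X H hH.1) := hx
  obtain ⟨hxx, hxh⟩ := hx'
  have he := ample_sq_pos k X hdim B hB H hH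
  obtain ⟨h, hh⟩ : ∃ h : NumR.N1R k X, h = NumR.clR k X H hH.1 := ⟨_, rfl⟩
  obtain ⟨α, hα⟩ : ∃ α : ℝ, α = B x (NumR.clR k X H hH.1) := ⟨_, rfl⟩
  obtain ⟨β, hβ⟩ : ∃ β : ℝ, β = B y (NumR.clR k X H hH.1) := ⟨_, rfl⟩
  have hi := real_ineq k X hdim B hB H hH (β • x - α • y)
  rw [← hh] at hi he hα hβ hxh hyH
  rw [← hα] at hxh
  rw [← hβ] at hyH
  have hwh : B (β • x - α • y) h = 0 := by
    simp only [map_sub, map_smul, LinearMap.sub_apply, LinearMap.smul_apply, smul_eq_mul]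
    rw [← hα, ← hβ]
    ring
  have hww : B (β • x - α • y) (β • x - α • y) =
      β * β * B x x - 2 * α * β * B x y + α * α * B y y := by
    simp only [map_sub, map_smul, LinearMap.sub_apply, LinearMap.smul_apply, smul_eq_mul]
    rw [form_symm k X hdim B hB y x]
    ring
  rw [hwh, hww] at hi
  have h0 : β * β * B x x - 2 * α * β * B x y + α * α * B y y ≤ 0 := by
    by_contra hcon
    rw [not_le] at hcon
    have := mul_pos hcon he
    nlinarith
  have h1 : 0 < β * β * B x x := mul_pos (mul_pos hyH hyH) hxx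
  have h2 : 0 ≤ α * α * B y y := mul_nonneg (mul_self_nonneg α) hy
  by_contra hcon
  rw [not_lt] at hcon
  have h4 : 2 * α * β * B x y ≤ 0 :=
    mul_nonpos_of_nonneg_of_nonpos (by positivity) hcon
  linarith

/-- **the positive cone is open and convex** -/
theorem posCone_open_convex [Module.Finite ℝ (NumR.N1R k X)] (hdim : topologicalKrullDim X = 2)
    (B : NumR.N1R k X →ₗ[ℝ] NumR.N1R k X →ₗ[ℝ] ℝ) (hB : NumR.IsIntForm₂ k X B)
    (H : X.Modules) (hH : CohB1.IsAmple H) :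
    IsOpen (NumR.posCone k X B H hH.1) ∧ Convex ℝ (NumR.posCone k X B H hH.1) := by
  constructor
  · have hc : Continuous (fun p : NumR.N1R k X × NumR.N1R k X => B p.1 p.2) :=
      IsModuleTopology.continuous_bilinear_of_finite_left B
    have h1 : Continuous (fun z : NumR.N1R k X => B z z) :=
      hc.comp (continuous_id.prodMk continuous_id)
    have h2 : Continuous (fun z : NumR.N1R k X => B z (NumR.clR k X H hH.1)) :=
      hc.comp (continuous_id.prodMk continuous_const)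
    have hset : NumR.posCone k X B H hH.1 =
        {z | 0 < B z z} ∩ {z | 0 < B z (NumR.clR k X H hH.1)} := rfl
    rw [hset]
    exact (isOpen_lt continuous_const h1).inter (isOpen_lt continuous_const h2)
  · intro x hx y hy a b ha hb hab
    have hx' : 0 < B x x ∧ 0 < B x (NumR.clR k X H hH.1) := hx
    have hy' : 0 < B y y ∧ 0 < B y (NumR.clR k X H hH.1) := hy
    have hxy := pair_pos k X hdim B hB H hH x y hx hy'.1.le hy'.2
    have hyx := pair_pos k X hdim B hB H hH y x hy hx'.1.le hx'.2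
    change 0 < B (a • x + b • y) (a • x + b • y) ∧
      0 < B (a • x + b • y) (NumR.clR k X H hH.1)
    have e1 : B (a • x + b • y) (a • x + b • y) =
        a * a * B x x + a * b * (B x y + B y x) + b * b * B y y := by
      simp only [map_add, map_smul, LinearMap.add_apply, LinearMap.smul_apply, smul_eq_mul]
      ring
    have e2 : B (a • x + b • y) (NumR.clR k X H hH.1) =
        a * B x (NumR.clR k X H hH.1) + b * B y (NumR.clR k X H hH.1) := by
      simp only [map_add, map_smul, LinearMap.add_apply, LinearMap.smul_apply, smul_eq_mul]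
    rw [e1, e2]
    by_cases ha0 : a = 0
    · have hb1 : b = 1 := by rw [ha0, zero_add] at hab; exact hab
      rw [ha0, hb1]
      constructor
      · simp only [zero_mul, mul_zero, zero_add, one_mul, mul_one]
        exact hy'.1
      · simp only [zero_mul, zero_add, one_mul]
        exact hy'.2
    · have hapos : 0 < a := lt_of_le_of_ne ha (Ne.symm ha0)
      constructor
      · have t1 : 0 < a * a * B x x := mul_pos (mul_pos hapos hapos) hx'.1
        have t2 : 0 ≤ a * b * (B x y + B y x) :=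
          mul_nonneg (mul_nonneg ha hb) (by linarith)
        have t3 : 0 ≤ b * b * B y y := mul_nonneg (mul_self_nonneg b) hy'.1.le
        linarith
      · have t1 : 0 < a * B x (NumR.clR k X H hH.1) := mul_pos hapos hx'.2
        have t2 : 0 ≤ b * B y (NumR.clR k X H hH.1) := mul_nonneg hb hy'.2.le
        linarith

end Real

end Groth.Agent.Helper1.SurfReal
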