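import Mathlib
import Groth.Agent.Lib.Helper1.SurfDual3
import Groth.Agent.Lib.Helper1.SurfCurve1

/-!
# Nondegeneracy of the intersection form on `N¹(X)_ℝ` of a smooth projective surface (helper1)

* `real_form_nondeg`: a real bilinear form, integer valued and nondegenerate on a spanning lattice
  of a finite-dimensional real vector space, is nondegenerate.
* `numTriv_of_ortho`: an invertible module on a smooth proper surface which is orthogonal to all
  invertible modules is numerically trivial.
* `eq_zero_of_ortho_all`: the intersection form on `N¹(X)_ℝ` is nondegenerate.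
* `hodge_zero`: a class of nonnegative square orthogonal to a class of the positive cone vanishes.
-/

set_option autoImplicit false
set_option linter.style.haveILetI false
set_option linter.unusedSectionVars false
universe u
open CategoryTheory CategoryTheory.Limits AlgebraicGeometry TopologicalSpace Opposite

namespace Groth.Agent.Helper1.SurfReal2

open Groth.Agent.Helper1 Groth.Agent.Helper1.Euler Groth.Agent.Helper1.Dv
open Groth.Agent.Helper1.FinLen Groth.Agent.Helper1.TwForm Groth.Agent.Helper1.Curve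
open Groth.Agent.Helper1.Snap Groth.Agent.Helper1.SnapPos Groth.Agent.Helper1.FGAInt
open Groth.Agent.Helper1.FGAPos Groth.Agent.Helper1.Kleiman Groth.Agent.Helper1.Big
open Groth.Agent.Helper1.SurfPos Groth.Agent.Helper1.SurfDual Groth.Agent.Helper1.SurfHodge
open Groth.Agent.Lib.Helper4 Groth.Agent.Helper1.ProdSurf Groth.Agent.Helper1.RuledSurf
open Groth.Agent.Helper1.CurveDual Groth.Agent.Helper1.SurfCurve Groth.Agent.Helper1.SurfReal
open Groth.Agent.Helper1.BigCone

section LinAlg

theorem quad_aux (β γ : ℝ) (h : ∀ t : ℝ, 2 * t * β + t * t * γ ≤ 0) : β = 0 := by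
  by_contra hβ
  have hs : 0 < |γ| + 1 := by positivity
  have h1 := h (β / (|γ| + 1))
  have hβ2 : 0 < β * β := mul_self_pos.2 hβ
  have e : 2 * (β / (|γ| + 1)) * β + (β / (|γ| + 1)) * (β / (|γ| + 1)) * γ =
      (β * β) * (2 * (|γ| + 1) + γ) / ((|γ| + 1) * (|γ| + 1)) := by
    field_simp
  rw [e] at h1
  have h2 : 0 < 2 * (|γ| + 1) + γ := by
    have := neg_abs_le γ
    linarith [abs_nonneg γ]
  have h3 : 0 < (β * β) * (2 * (|γ| + 1) + γ) / ((|γ| + 1) * (|γ| + 1)) :=
    div_pos (mul_pos hβ2 h2) (mul_pos hs hs)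
  linarith

/-- a real bilinear form which is integer valued and nondegenerate on a spanning lattice is
nondegenerate -/
theorem real_form_nondeg {V : Type*} [AddCommGroup V] [Module ℝ V] [Module.Finite ℝ V]
    (Λ : AddSubgroup V) (hspan : Submodule.span ℝ (Λ : Set V) = ⊤)
    (B : V →ₗ[ℝ] V →ₗ[ℝ] ℝ)
    (hint : ∀ a ∈ Λ, ∀ b ∈ Λ, ∃ n : ℤ, B a b = n)
    (hnd : ∀ a ∈ Λ, (∀ b ∈ Λ, B a b = 0) → a = 0)
    (y : V) (hy : ∀ b ∈ Λ, B y b = 0) : y = 0 := by
  classical
  obtain ⟨r, f, hfΛ, hfspan, hfli⟩ : ∃ (r : ℕ) (f : Fin r → V), (∀ i, f i ∈ Λ) ∧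
      Submodule.span ℝ (Set.range f) = ⊤ ∧ LinearIndependent ℝ f := by
    obtain ⟨f, h1, h2, h3⟩ := Submodule.exists_fun_fin_finrank_span_eq ℝ (Λ : Set V)
    exact ⟨_, f, h1, h2.trans hspan, h3⟩
  choose G hG using fun i j => hint (f i) (hfΛ i) (f j) (hfΛ j)
  have hdet : (Matrix.of G).det ≠ 0 := by
    intro h0
    obtain ⟨a, ha0, haG⟩ := Matrix.exists_vecMul_eq_zero_iff.2 h0
    have hsum : ∀ j, ∑ i, a i * G i j = 0 := by
      intro j
      have := congrFun haG j
      simpa [Matrix.vecMul, dotProduct] using this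
    have hlam_mem : (∑ i, ((a i : ℤ) : ℝ) • f i) ∈ Λ := by
      refine sum_mem (fun i _ => ?_)
      rw [Int.cast_smul_eq_zsmul]
      exact Λ.zsmul_mem (hfΛ i) (a i)
    have hlam : ∀ j, B (∑ i, ((a i : ℤ) : ℝ) • f i) (f j) = 0 := by
      intro j
      simp only [map_sum, map_smul, LinearMap.sum_apply, LinearMap.smul_apply, smul_eq_mul, hG]
      have := hsum j
      exact_mod_cast this
    have hzero : B (∑ i, ((a i : ℤ) : ℝ) • f i) = 0 := by
      refine LinearMap.ext_on hfspan ?_
      rintro _ ⟨j, rfl⟩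
      rw [hlam j]; rfl
    have hl0 := hnd _ hlam_mem (fun b _ => by rw [hzero]; rfl)
    have hcoef := Fintype.linearIndependent_iff.1 hfli (fun i => ((a i : ℤ) : ℝ)) hl0
    apply ha0
    funext i
    have := hcoef i
    exact_mod_cast this
  have hymem : y ∈ Submodule.span ℝ (Set.range f) := by rw [hfspan]; exact Submodule.mem_top
  obtain ⟨c, hc⟩ := (Submodule.mem_span_range_iff_exists_fun ℝ).1 hymem
  have hdetR : ((Int.castRingHom ℝ).mapMatrix (Matrix.of G)).det ≠ 0 := by
    rw [← RingHom.map_det]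
    simpa using hdet
  have hcG : Matrix.vecMul c ((Int.castRingHom ℝ).mapMatrix (Matrix.of G)) = 0 := by
    funext j
    have h1 : B y (f j) = 0 := hy _ (hfΛ j)
    rw [← hc] at h1
    simp only [map_sum, map_smul, LinearMap.sum_apply, LinearMap.smul_apply, smul_eq_mul,
      hG] at h1
    simpa [Matrix.vecMul, dotProduct] using h1
  have hc0 := Matrix.eq_zero_of_vecMul_eq_zero hdetR hcG
  rw [← hc, hc0]
  simp

end LinAlg

section Surf

variable (k : Type u) [Field k] (X : Scheme.{u}) [X.Over (Spec (CommRingCat.of k))]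
  [IsProper (X ↘ (Spec (CommRingCat.of k)))] [IsIntegral X]

/-- an invertible module on a smooth proper surface orthogonal to all invertible modules is
numerically trivial -/
theorem numTriv_of_ortho [Smooth (X ↘ (Spec (CommRingCat.of k)))]
    (hdim : topologicalKrullDim X = 2) (L : X.Modules) (hL : PicF.IsInvertible L)
    (h : ∀ (M : X.Modules), PicF.IsInvertible M →
      FGA.intNum k X 2 ![L, M] (Coh.structureModule X) = 0) :
    Pic13.IsNumEquivZero k X L := by
  haveI : AlgebraicGeometry.IsNoetherian X := isNoetherian_of_proper k X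
  intro C c _ hC hdimC
  haveI := hC
  have hC1 : topologicalKrullDim C ≤ ((1 : ℕ) : WithBot ℕ∞) := by
    rw [hdimC]; exact le_of_eq Nat.cast_one.symm
  have hd2 : topologicalKrullDim X ≤ ((2 : ℕ) : WithBot ℕ∞) := by
    rw [hdim]; exact le_of_eq rfl
  have hCi : IsIntegral c.ker.subscheme := by
    haveI : Nonempty ↥C := inferInstance
    haveI : Nonempty ↥c.image := ⟨c.toImage.base (Classical.arbitrary ↥C)⟩
    exact isIntegral_of_isOpenImmersion (inv c.toImage)
  have hCd : topologicalKrullDim (c.ker.support : Set X) = 1 := by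
    rw [Scheme.Hom.support_ker, c.isClosedEmbedding.isClosed_range.closure_eq, ← hdimC]
    exact (IsHomeomorph.topologicalKrullDim_eq _
      c.isClosedEmbedding.isEmbedding.toHomeomorph.isHomeomorph).symm
  have hI := isInvertible_idealMod_curve k X hdim c.ker hCi hCd
  rw [NumEq.curveDeg_eq_lam_quot k X c hC1 L hL]
  have h1 := intNum_ideal_inv k X hd2 c.ker L hL
  have h2 := intNum_symm k X hdim (ClSub.idealMod c.ker) L hI hL
  have h3 := h _ hI
  rw [h2, h3] at h1
  linarith

variable [PicGrp.Law X]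

/-- **the intersection form on `N¹(X)_ℝ` of a smooth proper surface is nondegenerate** -/
theorem eq_zero_of_ortho_all [Smooth (X ↘ (Spec (CommRingCat.of k)))]
    [Module.Finite ℝ (NumR.N1R k X)] (hdim : topologicalKrullDim X = 2)
    (B : NumR.N1R k X →ₗ[ℝ] NumR.N1R k X →ₗ[ℝ] ℝ) (hB : NumR.IsIntForm₂ k X B)
    (y : NumR.N1R k X) (hy : ∀ w, B y w = 0) : y = 0 := by
  refine real_form_nondeg (lat k X) (span_lat k X) B ?_ ?_ y (fun b _ => hy b)
  · rintro _ ⟨L, hL, rfl⟩ _ ⟨M, hM, rfl⟩
    exact ⟨_, hB L M hL hM⟩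
  · rintro _ ⟨L, hL, rfl⟩ hLo
    have hnum : Pic13.IsNumEquivZero k X L := by
      refine numTriv_of_ortho k X hdim L hL (fun M hM => ?_)
      have h1 := hLo _ ⟨M, hM, rfl⟩
      rw [hB L M hL hM] at h1
      exact_mod_cast h1
    rw [NumR.clR_def, NumR.cl_eq_zero hL hnum, map_zero]

/-- **a class of nonnegative square orthogonal to a class of the positive cone vanishes** -/
theorem hodge_zero [Smooth (X ↘ (Spec (CommRingCat.of k)))]
    [Module.Finite ℝ (NumR.N1R k X)] (hdim : topologicalKrullDim X = 2)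
    (B : NumR.N1R k X →ₗ[ℝ] NumR.N1R k X →ₗ[ℝ] ℝ) (hB : NumR.IsIntForm₂ k X B)
    (H : X.Modules) (hH : CohB1.IsAmple H) (x y : NumR.N1R k X)
    (hx : x ∈ NumR.posCone k X B H hH.1) (hy : 0 ≤ B y y) (hxy : B x y = 0) : y = 0 := by
  have he := ample_sq_pos k X hdim B hB H hH
  have hyh : B y (NumR.clR k X H hH.1) = 0 := by
    rcases lt_trichotomy (B y (NumR.clR k X H hH.1)) 0 with hlt | heq | hgt
    · exfalso
      have h1 : 0 ≤ B (-y) (-y) := by
        simp only [map_neg, LinearMap.neg_apply, neg_neg]; exact hy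
      have h2 : 0 < B (-y) (NumR.clR k X H hH.1) := by
        simp only [map_neg, LinearMap.neg_apply]; linarith
      have h3 := pair_pos k X hdim B hB H hH x (-y) hx h1 h2
      simp only [map_neg] at h3
      linarith
    · exact heq
    · exfalso
      have h3 := pair_pos k X hdim B hB H hH x y hx hy hgt
      linarith
  obtain ⟨h, hh⟩ : ∃ h : NumR.N1R k X, h = NumR.clR k X H hH.1 := ⟨_, rfl⟩
  have hri : ∀ z, B z z * B h h ≤ (B z h) ^ 2 := by
    intro z; rw [hh]; exact real_ineq k X hdim B hB H hH z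
  rw [← hh] at he hyh
  have h0 : (0 : ℝ) ^ 2 = 0 := by norm_num
  have hne : B h h ≠ 0 := ne_of_gt he
  have hyy : B y y = 0 := by
    have h1 := hri y
    rw [hyh, h0] at h1
    have h3 : B y y ≤ 0 := by
      by_contra hcon
      rw [not_le] at hcon
      have := mul_pos hcon he
      linarith
    linarith
  have hall : ∀ w, B y w = 0 := by
    intro w
    obtain ⟨a, ha⟩ : ∃ a : ℝ, a = B w h / B h h := ⟨_, rfl⟩
    obtain ⟨w', hw'⟩ : ∃ w' : NumR.N1R k X, w' = w - a • h := ⟨_, rfl⟩
    have hw'h : B w' h = 0 := by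
      rw [hw']
      simp only [map_sub, map_smul, LinearMap.sub_apply, LinearMap.smul_apply, smul_eq_mul]
      rw [ha, div_mul_cancel₀ _ hne, sub_self]
    have hyw' : B y w' = B y w := by
      rw [hw']
      simp only [map_sub, map_smul, smul_eq_mul, hyh, mul_zero, sub_zero]
    have hq : ∀ t : ℝ, 2 * t * B y w' + t * t * B w' w' ≤ 0 := by
      intro t
      have h1 := hri (y + t • w')
      have e1 : B (y + t • w') h = 0 := by
        simp only [map_add, map_smul, LinearMap.add_apply, LinearMap.smul_apply, smul_eq_mul,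
          hyh, hw'h]
        ring
      have e2 : B (y + t • w') (y + t • w') = 2 * t * B y w' + t * t * B w' w' := by
        simp only [map_add, map_smul, LinearMap.add_apply, LinearMap.smul_apply, smul_eq_mul]
        rw [form_symm k X hdim B hB w' y, hyy]
        ring
      rw [e1, e2, h0] at h1
      by_contra hcon
      rw [not_le] at hcon
      have := mul_pos hcon he
      linarith
    rw [← hyw']
    exact quad_aux _ _ hq
  exact eq_zero_of_ortho_all k X hdim B hB y hall

end Surf

end Groth.Agent.Helper1.SurfReal2
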