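import Mathlib
import Groth.Agent.Lib.Helper1.SurfReal2
import Groth.Agent.Lib.Helper1.BigCone2
import Groth.Agent.Lib.Helper1.PosCone1
import Groth.Agent.Lib.Helper1.NegCfg1

/-!
# The nef cone and the ample cone in `N¹(X)_ℝ` of a smooth projective surface (helper1)

* `exists_isRat_mem`: rational classes are dense;
* `nef_add_ample`: nef + ample is ample, for real classes;
* `nef_sq_nonneg`: a nef real class has nonnegative square;
* `closure_ample`: the closure of the ample cone.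
-/

set_option autoImplicit false
set_option linter.style.haveILetI false
set_option linter.unusedSectionVars false
universe u
open CategoryTheory CategoryTheory.Limits AlgebraicGeometry TopologicalSpace Opposite

namespace Groth.Agent.Helper1.SurfNef

open Groth.Agent.Helper1 Groth.Agent.Helper1.Euler Groth.Agent.Helper1.Dv
open Groth.Agent.Helper1.FinLen Groth.Agent.Helper1.TwForm Groth.Agent.Helper1.Curve
open Groth.Agent.Helper1.Snap Groth.Agent.Helper1.SnapPos Groth.Agent.Helper1.FGAInt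
open Groth.Agent.Helper1.FGAPos Groth.Agent.Helper1.Kleiman
open Groth.Agent.Helper1.SurfDual Groth.Agent.Helper1.SurfHodge
open Groth.Agent.Helper1.SurfCurve Groth.Agent.Helper1.RuledSurf Groth.Agent.Helper1.CurveDual
open Groth.Agent.Helper1.SurfReal Groth.Agent.Helper1.SurfReal2 Groth.Agent.Helper1.BigCone

section RealLemma

theorem quad_limit (s b c : ℝ) (h : ∀ ε : ℝ, 0 < ε → 0 < s + ε * b + ε * ε * c) : 0 ≤ s := by
  by_contra hs
  rw [not_le] at hs
  obtain ⟨m, hm⟩ : ∃ m : ℝ, m = |b| + |c| + 1 := ⟨_, rfl⟩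
  have hmpos : 0 < m := by rw [hm]; positivity
  have hε1 : 0 < -s / (2 * m) := div_pos (by linarith) (by positivity)
  obtain ⟨ε, hε⟩ : ∃ ε : ℝ, ε = min 1 (-s / (2 * m)) := ⟨_, rfl⟩
  have hεpos : 0 < ε := by rw [hε]; exact lt_min one_pos hε1
  have hεle1 : ε ≤ 1 := by rw [hε]; exact min_le_left _ _
  have hεle2 : ε ≤ -s / (2 * m) := by rw [hε]; exact min_le_right _ _
  have h1 := h ε hεpos
  have hb : ε * b ≤ ε * |b| := mul_le_mul_of_nonneg_left (le_abs_self b) hεpos.le
  have hc : ε * ε * c ≤ ε * |c| := by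
    have h2 : ε * ε * c ≤ ε * ε * |c| :=
      mul_le_mul_of_nonneg_left (le_abs_self c) (mul_nonneg hεpos.le hεpos.le)
    have h3 : ε * ε * |c| ≤ ε * 1 * |c| :=
      mul_le_mul_of_nonneg_right (mul_le_mul_of_nonneg_left hεle1 hεpos.le) (abs_nonneg c)
    linarith
  have h3 : ε * |b| + ε * |c| ≤ ε * m := by
    rw [← mul_add]
    exact mul_le_mul_of_nonneg_left (by rw [hm]; linarith) hεpos.le
  have h4 : ε * m ≤ -s / 2 := by
    have h5 : ε * m ≤ (-s / (2 * m)) * m := mul_le_mul_of_nonneg_right hεle2 hmpos.le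
    have e : (-s / (2 * m)) * m = -s / 2 := by field_simp
    linarith
  linarith

end RealLemma

section Rat

variable (k : Type u) [Field k] (X : Scheme.{u}) [X.Over (Spec (CommRingCat.of k))]
  [IsProper (X ↘ (Spec (CommRingCat.of k)))] [IsIntegral X] [PicGrp.Law X]

/-- rational classes: a positive multiple is the class of an invertible module -/
def IsRat (w : NumR.N1R k X) : Prop := ∃ d : ℕ, 0 < d ∧ (d : ℝ) • w ∈ lat k X

theorem isRat_zero : IsRat k X 0 :=
  ⟨1, Nat.one_pos, by rw [smul_zero]; exact (lat k X).zero_mem⟩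

theorem isRat_add (w₁ w₂ : NumR.N1R k X) (h₁ : IsRat k X w₁) (h₂ : IsRat k X w₂) :
    IsRat k X (w₁ + w₂) := by
  obtain ⟨d₁, hd₁, h₁⟩ := h₁
  obtain ⟨d₂, hd₂, h₂⟩ := h₂
  refine ⟨d₁ * d₂, Nat.mul_pos hd₁ hd₂, ?_⟩
  have e : ((d₁ * d₂ : ℕ) : ℝ) • (w₁ + w₂) =
      (d₂ : ℝ) • ((d₁ : ℝ) • w₁) + (d₁ : ℝ) • ((d₂ : ℝ) • w₂) := by
    push_cast
    module
  rw [e, Nat.cast_smul_eq_nsmul ℝ d₂ ((d₁ : ℝ) • w₁),
    Nat.cast_smul_eq_nsmul ℝ d₁ ((d₂ : ℝ) • w₂)]
  exact (lat k X).add_mem ((lat k X).nsmul_mem h₁ d₂) ((lat k X).nsmul_mem h₂ d₁)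

theorem isRat_rat_smul (r : ℚ) (v : NumR.N1R k X) (hv : v ∈ lat k X) :
    IsRat k X ((r : ℝ) • v) := by
  refine ⟨r.den, r.den_pos, ?_⟩
  have e0 : (r : ℝ) * (r.den : ℝ) = (r.num : ℝ) := by
    have h0 := congrArg (fun q : ℚ => (q : ℝ)) (Rat.mul_den_eq_num r)
    push_cast at h0
    exact h0
  have e : (r.den : ℝ) • ((r : ℝ) • v) = (r.num : ℝ) • v := by
    rw [smul_smul, mul_comm, e0]
  rw [e, Int.cast_smul_eq_zsmul ℝ r.num v]
  exact (lat k X).zsmul_mem hv _

/-- **rational classes are dense** -/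
theorem exists_isRat_mem [Module.Finite ℝ (NumR.N1R k X)] (U : Set (NumR.N1R k X))
    (hU : IsOpen U) (hne : U.Nonempty) : ∃ w ∈ U, IsRat k X w := by
  classical
  have hfg : (Submodule.span ℝ ((lat k X : AddSubgroup (NumR.N1R k X)) :
      Set (NumR.N1R k X))).FG := by
    rw [span_lat]
    exact Module.Finite.fg_top
  obtain ⟨F, hFsub, hFspan⟩ := (Submodule.fg_span_iff_fg_span_finset_subset _).1 hfg
  rw [span_lat] at hFspan
  obtain ⟨φ, hφ⟩ : ∃ φ : (F → ℝ) → NumR.N1R k X,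
    φ = fun t => ∑ a : F, t a • (a : NumR.N1R k X) := ⟨_, rfl⟩
  have hφc : Continuous φ := by
    rw [hφ]
    exact continuous_finsetSum _ fun a _ => (continuous_apply a).smul continuous_const
  have hφs : Function.Surjective φ := by
    intro z
    have hz : z ∈ Submodule.span ℝ (F : Set (NumR.N1R k X)) := by
      rw [← hFspan]
      exact Submodule.mem_top
    obtain ⟨f, hf⟩ := Submodule.mem_span_finset'.1 hz
    exact ⟨f, by rw [hφ]; exact hf⟩
  obtain ⟨u, hu⟩ := hne
  obtain ⟨t₀, ht₀⟩ := hφs u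
  have hopen : IsOpen (φ ⁻¹' U) := hU.preimage hφc
  have hDd : Dense (Set.pi Set.univ (fun _ : F => Set.range ((↑) : ℚ → ℝ))) :=
    dense_pi Set.univ (fun _ _ => Rat.denseRange_cast)
  obtain ⟨t, htQ, htU⟩ := hDd.exists_mem_open hopen
    ⟨t₀, by rw [Set.mem_preimage, ht₀]; exact hu⟩
  refine ⟨φ t, htU, ?_⟩
  rw [hφ]
  refine Finset.sum_induction _ (fun w => IsRat k X w) (isRat_add k X) (isRat_zero k X) ?_
  intro a _
  obtain ⟨r, hr⟩ := htQ a (Set.mem_univ a)
  rw [← hr]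
  exact isRat_rat_smul k X r _ (hFsub a.2)

end Rat

section Surf

variable (k : Type u) [Field k] (X : Scheme.{u}) [X.Over (Spec (CommRingCat.of k))]
  [IsProper (X ↘ (Spec (CommRingCat.of k)))] [IsIntegral X] [PicGrp.Law X]

/-- the pairing of the class of a module with the class of a curve -/
theorem B_clR_curveCl (hdim : topologicalKrullDim X = 2)
    (B : NumR.N1R k X →ₗ[ℝ] NumR.N1R k X →ₗ[ℝ] ℝ) (hB : NumR.IsIntForm₂ k X B)
    (L : X.Modules) (hL : PicF.IsInvertible L) (I : X.IdealSheafData)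
    (hI : PicF.IsInvertible (ClSub.idealMod I)) :
    B (NumR.clR k X L hL) (NumR.curveCl k X I hI) =
      ((Curv2.euler k X (CohB1.tensorMod (ClSub.quotMod I) L) -
        Curv2.euler k X (ClSub.quotMod I) : ℤ) : ℝ) := by
  haveI : AlgebraicGeometry.IsNoetherian X := isNoetherian_of_proper k X
  have hd2 : topologicalKrullDim X ≤ ((2 : ℕ) : WithBot ℕ∞) := by rw [hdim]; exact le_of_eq rfl
  unfold NumR.curveCl
  rw [map_neg, hB L _ hL hI, intNum_symm k X hdim L _ hL hI,
    intNum_ideal_eq_neg_curveInt k X hd2 I L hL]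
  push_cast
  ring

theorem nef_add (B : NumR.N1R k X →ₗ[ℝ] NumR.N1R k X →ₗ[ℝ] ℝ) {x y : NumR.N1R k X}
    (hx : x ∈ NumR.nefCone₂ k X B) (hy : y ∈ NumR.nefCone₂ k X B) :
    x + y ∈ NumR.nefCone₂ k X B := by
  intro I hi h1 hI
  rw [map_add, LinearMap.add_apply]
  exact add_nonneg (hx I hi h1 hI) (hy I hi h1 hI)

theorem nef_smul (B : NumR.N1R k X →ₗ[ℝ] NumR.N1R k X →ₗ[ℝ] ℝ) {c : ℝ} (hc : 0 ≤ c)
    {x : NumR.N1R k X} (hx : x ∈ NumR.nefCone₂ k X B) : c • x ∈ NumR.nefCone₂ k X B := by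
  intro I hi h1 hI
  rw [map_smul, LinearMap.smul_apply, smul_eq_mul]
  exact mul_nonneg hc (hx I hi h1 hI)

variable [Smooth (X ↘ (Spec (CommRingCat.of k)))]

/-- ample classes pair positively with curves -/
theorem ample_curve_pos (hdim : topologicalKrullDim X = 2)
    (B : NumR.N1R k X →ₗ[ℝ] NumR.N1R k X →ₗ[ℝ] ℝ) (hB : NumR.IsIntForm₂ k X B)
    (a : NumR.N1R k X) (ha : a ∈ (NumR.ampleCone k X : Set (NumR.N1R k X)))
    (I : X.IdealSheafData) (hI1 : topologicalKrullDim (I.support : Set X) = 1)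
    (hI : PicF.IsInvertible (ClSub.idealMod I)) :
    0 < B a (NumR.curveCl k X I hI) := by
  have h1 : NumR.ampleCone k X ≤ PosCone.pairCone k X B {NumR.curveCl k X I hI} := by
    refine ConvexCone.hull_min ?_
    rintro _ ⟨A, hAi, hA, rfl⟩ _ rfl
    unfold NumR.curveCl
    rw [map_neg, hB A _ hAi hI, intNum_symm k X hdim A _ hAi hI]
    have h2 := NegDef.intNum_ideal_ample_neg k X hdim I hI1 A hA
    have h3 : ((FGA.intNum k X 2 ![ClSub.idealMod I, A] (Coh.structureModule X) : ℤ) : ℝ) < 0 := by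
      exact_mod_cast h2
    linarith
  exact h1 ha _ rfl

theorem ample_subset_nef (hdim : topologicalKrullDim X = 2)
    (B : NumR.N1R k X →ₗ[ℝ] NumR.N1R k X →ₗ[ℝ] ℝ) (hB : NumR.IsIntForm₂ k X B)
    {a : NumR.N1R k X} (ha : a ∈ (NumR.ampleCone k X : Set (NumR.N1R k X))) :
    a ∈ NumR.nefCone₂ k X B := by
  intro I _ h1 hI
  exact (ample_curve_pos k X hdim B hB a ha I h1 hI).le

/-- a nef lattice class is the class of a nef module -/
theorem nefS_of_mem_nefCone₂ (hdim : topologicalKrullDim X = 2)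
    (B : NumR.N1R k X →ₗ[ℝ] NumR.N1R k X →ₗ[ℝ] ℝ) (hB : NumR.IsIntForm₂ k X B)
    (L : X.Modules) (hL : PicF.IsInvertible L)
    (h : NumR.clR k X L hL ∈ NumR.nefCone₂ k X B) : NefS k X L := by
  haveI : AlgebraicGeometry.IsNoetherian X := isNoetherian_of_proper k X
  apply nefS_of_curves k X L hL
  intro C hCi hC1
  have hI := isInvertible_idealMod_curve k X hdim C hCi hC1
  have h1 := h C hCi hC1 hI
  rw [B_clR_curveCl k X hdim B hB L hL C hI] at h1
  exact_mod_cast h1

variable [Module.Finite ℝ (NumR.N1R k X)]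

/-- **nef + ample is ample**, for real classes on a smooth projective surface -/
theorem nef_add_ample (hdim : topologicalKrullDim X = 2)
    (hproj : ∃ H : X.Modules, CohB1.IsAmple H)
    (B : NumR.N1R k X →ₗ[ℝ] NumR.N1R k X →ₗ[ℝ] ℝ) (hB : NumR.IsIntForm₂ k X B)
    (x y : NumR.N1R k X) (hx : x ∈ NumR.nefCone₂ k X B)
    (hy : y ∈ (NumR.ampleCone k X : Set (NumR.N1R k X))) :
    x + y ∈ (NumR.ampleCone k X : Set (NumR.N1R k X)) := by
  haveI : AlgebraicGeometry.IsNoetherian X := isNoetherian_of_proper k X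
  haveI : IsTopologicalAddGroup (NumR.N1R k X) :=
    IsModuleTopology.topologicalAddGroup ℝ (NumR.N1R k X)
  obtain ⟨H, hH⟩ := hproj
  have hopenA := isOpen_ampleCone k X
  obtain ⟨h, hh⟩ : ∃ h : NumR.N1R k X, h = NumR.clR k X H hH.1 := ⟨_, rfl⟩
  have haH : h ∈ (NumR.ampleCone k X : Set (NumR.N1R k X)) := by
    rw [hh]; exact ConvexCone.subset_hull ⟨H, hH.1, hH, rfl⟩
  -- an open set of decompositions of `y`
  have hU : IsOpen {a : NumR.N1R k X | a ∈ (NumR.ampleCone k X : Set (NumR.N1R k X)) ∧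
      y - a ∈ (NumR.ampleCone k X : Set (NumR.N1R k X))} :=
    hopenA.inter (hopenA.preimage (continuous_const.sub continuous_id))
  have hhalf1 : (1 / 2 : ℝ) • y ∈ (NumR.ampleCone k X : Set (NumR.N1R k X)) :=
    (NumR.ampleCone k X).smul_mem (by norm_num) hy
  have hhalf2 : y - (1 / 2 : ℝ) • y ∈ (NumR.ampleCone k X : Set (NumR.N1R k X)) := by
    have e : y - (1 / 2 : ℝ) • y = (1 / 2 : ℝ) • y := by module
    rw [e]; exact hhalf1
  have hU' := (isOpenMap_add_left x) _ hU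
  obtain ⟨z, hzU, d, hd, L', hL', hdz⟩ :=
    exists_isRat_mem k X _ hU' ⟨_, _, ⟨hhalf1, hhalf2⟩, rfl⟩
  obtain ⟨a₁, ⟨ha₁, hya₁⟩, rfl⟩ := hzU
  have hdz' : (d : ℝ) • (x + a₁) = NumR.clR k X L' hL' := hdz
  have hdpos : (0 : ℝ) < (d : ℝ) := by exact_mod_cast hd
  have hznef : (d : ℝ) • (x + a₁) ∈ NumR.nefCone₂ k X B :=
    nef_smul k X B hdpos.le (nef_add k X B hx (ample_subset_nef k X hdim B hB ha₁))
  have hL'nef : NefS k X L' :=
    nefS_of_mem_nefCone₂ k X hdim B hB L' hL' (by rw [← hdz']; exact hznef)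
  obtain ⟨b, hbdef⟩ : ∃ b : NumR.N1R k X, b = (d : ℝ) • (y - a₁) := ⟨_, rfl⟩
  have hb : b ∈ (NumR.ampleCone k X : Set (NumR.N1R k X)) := by
    rw [hbdef]; exact (NumR.ampleCone k X).smul_mem hdpos hya₁
  have hcont : Continuous fun ε : ℝ => b - ε • h := by fun_prop
  have h0 : (fun ε : ℝ => b - ε • h) 0 ∈ (NumR.ampleCone k X : Set (NumR.N1R k X)) := by
    change b - (0 : ℝ) • h ∈ _
    rw [zero_smul, sub_zero]; exact hb
  have hnh := hcont.continuousAt.preimage_mem_nhds (hopenA.mem_nhds h0)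
  obtain ⟨r, hr, hball⟩ := Metric.mem_nhds_iff.1 hnh
  obtain ⟨N, hN⟩ := exists_nat_one_div_lt hr
  have hNpos : (0 : ℝ) < (N : ℝ) + 1 := by positivity
  have hmem : b - (1 / ((N : ℝ) + 1)) • h ∈ (NumR.ampleCone k X : Set (NumR.N1R k X)) := by
    refine hball ?_
    rw [Metric.mem_ball, Real.dist_eq, sub_zero, abs_of_pos (by positivity)]
    exact hN
  have hamp := isAmple_tensorPow_tensor_of_nef k X L' H hL' hH hL'nef (N + 1)
  have hLN := isInvertible_tensorPow hL' (N + 1)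
  have hcl : NumR.clR k X _ hamp.1 = ((N : ℝ) + 1) • NumR.clR k X L' hL' + h := by
    rw [clR_tensor k X hLN hH.1 hamp.1, clR_pow k X hL' (N + 1) hLN, hh, Nat.cast_succ]
  have h1 : (1 / ((N : ℝ) + 1)) • NumR.clR k X _ hamp.1 ∈
      (NumR.ampleCone k X : Set (NumR.N1R k X)) :=
    (NumR.ampleCone k X).smul_mem (by positivity)
      (ConvexCone.subset_hull ⟨_, hamp.1, hamp, rfl⟩)
  have h2 := (NumR.ampleCone k X).add_mem h1 hmem
  have e1 : ∀ c : NumR.N1R k X, (1 / ((N : ℝ) + 1)) • (((N : ℝ) + 1) • c + h) =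
      c + (1 / ((N : ℝ) + 1)) • h := by
    intro c
    rw [smul_add, smul_smul, one_div, inv_mul_cancel₀ hNpos.ne', one_smul]
  have e : (1 / ((N : ℝ) + 1)) • NumR.clR k X _ hamp.1 + (b - (1 / ((N : ℝ) + 1)) • h) =
      (d : ℝ) • (x + y) := by
    rw [hcl, e1, ← hdz', hbdef]
    module
  rw [e] at h2
  have h3 := (NumR.ampleCone k X).smul_mem (by positivity : (0 : ℝ) < 1 / (d : ℝ)) h2
  rw [smul_smul, one_div, inv_mul_cancel₀ hdpos.ne', one_smul] at h3
  exact h3

/-- **a nef real class has nonnegative square** -/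
theorem nef_sq_nonneg (hdim : topologicalKrullDim X = 2)
    (hproj : ∃ H : X.Modules, CohB1.IsAmple H)
    (B : NumR.N1R k X →ₗ[ℝ] NumR.N1R k X →ₗ[ℝ] ℝ) (hB : NumR.IsIntForm₂ k X B)
    (x : NumR.N1R k X) (hx : x ∈ NumR.nefCone₂ k X B) : 0 ≤ B x x := by
  obtain ⟨H, hH⟩ := hproj
  obtain ⟨h, hh⟩ : ∃ h : NumR.N1R k X, h = NumR.clR k X H hH.1 := ⟨_, rfl⟩
  have haH : h ∈ (NumR.ampleCone k X : Set (NumR.N1R k X)) := by
    rw [hh]; exact ConvexCone.subset_hull ⟨H, hH.1, hH, rfl⟩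
  apply quad_limit (B x x) (B x h + B h x) (B h h)
  intro ε hε
  have h1 := nef_add_ample k X hdim ⟨H, hH⟩ B hB x (ε • h) hx
    ((NumR.ampleCone k X).smul_mem hε haH)
  have h2 : 0 < B (x + ε • h) (x + ε • h) ∧ 0 < B (x + ε • h) (NumR.clR k X H hH.1) :=
    (PosCone.main k X hdim B hB H hH).2 h1
  have h3 := h2.1
  simp only [map_add, map_smul, LinearMap.add_apply, LinearMap.smul_apply, smul_eq_mul] at h3
  linarith

/-- **the closure of the ample cone** of a smooth projective surface -/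
theorem closure_ample (hdim : topologicalKrullDim X = 2)
    (B : NumR.N1R k X →ₗ[ℝ] NumR.N1R k X →ₗ[ℝ] ℝ) (hB : NumR.IsIntForm₂ k X B)
    (H : X.Modules) (hH : CohB1.IsAmple H) :
    closure (NumR.ampleCone k X : Set (NumR.N1R k X)) =
        {x | 0 ≤ B x x ∧ x ∈ NumR.nefCone₂ k X B} ∧
      closure (NumR.ampleCone k X : Set (NumR.N1R k X)) ∩ NumR.posCone k X B H hH.1 =
        {x | 0 < B x x ∧ x ∈ NumR.nefCone₂ k X B} := by
  haveI : IsTopologicalAddGroup (NumR.N1R k X) :=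
    IsModuleTopology.topologicalAddGroup ℝ (NumR.N1R k X)
  have hc : Continuous (fun p : NumR.N1R k X × NumR.N1R k X => B p.1 p.2) :=
    IsModuleTopology.continuous_bilinear_of_finite_left B
  have hsq : Continuous (fun z : NumR.N1R k X => B z z) :=
    hc.comp (continuous_id.prodMk continuous_id)
  have hlin : ∀ c : NumR.N1R k X, Continuous (fun z : NumR.N1R k X => B z c) := fun c =>
    hc.comp (continuous_id.prodMk continuous_const)
  have hmain := PosCone.main k X hdim B hB H hH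
  obtain ⟨h, hh⟩ : ∃ h : NumR.N1R k X, h = NumR.clR k X H hH.1 := ⟨_, rfl⟩
  have haH : h ∈ (NumR.ampleCone k X : Set (NumR.N1R k X)) := by
    rw [hh]; exact ConvexCone.subset_hull ⟨H, hH.1, hH, rfl⟩
  have hposA : ∀ a ∈ (NumR.ampleCone k X : Set (NumR.N1R k X)), 0 < B a a ∧ 0 < B a h := by
    intro a ha
    rw [hh]
    exact hmain.2 ha
  have hnefclosed : IsClosed (NumR.nefCone₂ k X B) := by
    have e : NumR.nefCone₂ k X B = ⋂ (I : X.IdealSheafData), ⋂ (_ : IsIntegral I.subscheme),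
        ⋂ (_ : topologicalKrullDim (I.support : Set X) = 1),
        ⋂ (hI : PicF.IsInvertible (ClSub.idealMod I)),
          {x | 0 ≤ B x (NumR.curveCl k X I hI)} := by
      ext x
      simp only [Set.mem_iInter, Set.mem_setOf_eq]
      exact Iff.rfl
    rw [e]
    exact isClosed_iInter fun I => isClosed_iInter fun _ => isClosed_iInter fun _ =>
      isClosed_iInter fun hI => isClosed_le continuous_const (hlin _)
  have hsub : closure (NumR.ampleCone k X : Set (NumR.N1R k X)) ⊆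
      {x | 0 ≤ B x x ∧ x ∈ NumR.nefCone₂ k X B} := by
    apply closure_minimal
    · intro a ha
      exact ⟨(hposA a ha).1.le, ample_subset_nef k X hdim B hB ha⟩
    · exact (isClosed_le continuous_const hsq).inter hnefclosed
  have hnefcl : ∀ x, x ∈ NumR.nefCone₂ k X B →
      x ∈ closure (NumR.ampleCone k X : Set (NumR.N1R k X)) := by
    intro x hx
    have hcont : Continuous fun ε : ℝ => x + ε • h := by fun_prop
    have htend : Filter.Tendsto (fun ε : ℝ => x + ε • h)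
        (nhdsWithin 0 (Set.Ioi 0)) (nhds x) := by
      have h0 := hcont.tendsto 0
      rw [zero_smul, add_zero] at h0
      exact tendsto_nhdsWithin_of_tendsto_nhds h0
    refine mem_closure_of_tendsto htend ?_
    filter_upwards [self_mem_nhdsWithin] with ε hε
    exact nef_add_ample k X hdim ⟨H, hH⟩ B hB x _ hx ((NumR.ampleCone k X).smul_mem hε haH)
  refine ⟨Set.Subset.antisymm hsub (fun x hx => hnefcl x hx.2), ?_⟩
  ext x
  constructor
  · rintro ⟨hcl, hpos⟩
    have hpos' : 0 < B x x ∧ 0 < B x (NumR.clR k X H hH.1) := hpos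
    exact ⟨hpos'.1, (hsub hcl).2⟩
  · rintro ⟨hxx, hnef⟩
    have hcl := hnefcl x hnef
    have hge : 0 ≤ B x h := by
      have hcl2 : closure (NumR.ampleCone k X : Set (NumR.N1R k X)) ⊆ {v | 0 ≤ B v h} :=
        closure_minimal (fun a ha => (hposA a ha).2.le) (isClosed_le continuous_const (hlin _))
      exact hcl2 hcl
    have hlt : 0 < B x h := by
      rcases hge.lt_or_eq with hlt | heq
      · exact hlt
      · exfalso
        have hhpos : h ∈ NumR.posCone k X B H hH.1 := by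
          have := ample_sq_pos k X hdim B hB H hH
          rw [← hh] at this
          rw [hh]
          exact ⟨ample_sq_pos k X hdim B hB H hH, ample_sq_pos k X hdim B hB H hH⟩
        have h0 := hodge_zero k X hdim B hB H hH h x hhpos hxx.le
          (by rw [form_symm k X hdim B hB]; exact heq.symm)
        rw [h0, map_zero] at hxx
        exact lt_irrefl _ hxx
    refine ⟨hcl, ?_⟩
    rw [hh] at hlt
    exact ⟨hxx, hlt⟩

end Surf

end Groth.Agent.Helper1.SurfNef
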