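import Mathlib
import Groth.Agent.Lib.Helper1.SurfNef1
import Groth.Agent.Lib.Helper1.NegCfg2
import Groth.Agent.Lib.Helper1.CurveCart1
import Groth.Agent.Lib.Helper1.HH0
import Groth.Agent.Lib.Helper1.AmpleLib2
import Groth.Agent.Lib.Helper2.Dual.ZeroConn

/-!
# The ample cone of a smooth projective surface: the real Nakai–Moishezon criterion (helper1)

A real class is ample iff it has positive square and is positive on all integral curves.
-/

set_option autoImplicit false
set_option linter.style.haveILetI false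
set_option linter.unusedSectionVars false
universe u
open CategoryTheory CategoryTheory.Limits AlgebraicGeometry TopologicalSpace Opposite

namespace Groth.Agent.Helper1.SurfNef2

open Groth.Agent.Helper1 Groth.Agent.Helper1.Euler Groth.Agent.Helper1.Dv
open Groth.Agent.Helper1.FinLen Groth.Agent.Helper1.TwForm Groth.Agent.Helper1.Curve
open Groth.Agent.Helper1.Snap Groth.Agent.Helper1.SnapPos Groth.Agent.Helper1.FGAInt
open Groth.Agent.Helper1.FGAPos Groth.Agent.Helper1.Kleiman
open Groth.Agent.Helper1.SurfDual Groth.Agent.Helper1.SurfHodge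
open Groth.Agent.Helper1.SurfCurve Groth.Agent.Helper1.RuledSurf Groth.Agent.Helper1.CurveDual
open Groth.Agent.Helper1.SurfReal Groth.Agent.Helper1.SurfReal2 Groth.Agent.Helper1.BigCone
open Groth.Agent.Helper1.SurfNef Groth.Agent.Lib.Helper4.PropDim1

section Sections

variable {X : Scheme.{u}}

/-- a nonzero global section from the nontriviality of `H⁰` -/
theorem exists_section_of_nontrivial (M : X.Modules) [Nontrivial (Coh.HH X M 0)] :
    ∃ s : Coh.structureModule X ⟶ M, s ≠ 0 := by
  obtain ⟨x, hx⟩ := exists_ne (0 : Coh.HH X M 0)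
  have hσ : HH0.equiv X M x ≠ 0 := fun h0 =>
    hx ((HH0.equiv X M).injective (h0.trans (map_zero _).symm))
  refine ⟨TwistAmple.homOfSec M (HH0.equiv X M x), fun h0 => hσ ?_⟩
  have h1 := AmpleLib.secVal_homOfSec M (HH0.equiv X M x) ⊤
  rw [QcCech.res_self] at h1
  rw [← h1, h0]
  have h2 := LGen.app_eq_smul (0 : Coh.structureModule X ⟶ M) ⊤ 1
  rw [one_smul] at h2
  rw [← h2]
  rfl

end Sections

section Topology

variable (X : Scheme.{u})

/-- a point of a surface specializing to the generic point of an integral curve is that point or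
the generic point of the surface -/
theorem eq_generic_curve_of_specializes [IsIntegral X] (hdim : topologicalKrullDim X = 2)
    (C : X.IdealSheafData) [IsIntegral C.subscheme]
    (hC1 : topologicalKrullDim (C.support : Set X) = 1) (η' : X)
    (hsp : η' ⤳ C.subschemeι (genericPoint C.subscheme)) (hne : η' ≠ genericPoint X) :
    η' = C.subschemeι (genericPoint C.subscheme) := by
  obtain ⟨η, hη⟩ : ∃ η : X, η = C.subschemeι (genericPoint C.subscheme) := ⟨_, rfl⟩
  have h1 := ringKrullDim_stalk_generic_curve hdim C hC1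
  rw [← hη] at hsp h1 ⊢
  by_contra heq
  rw [ringKrullDim_stalk_eq_coheight] at h1
  have e1 : Order.coheight η = 1 := by
    have h' : ((Order.coheight η : ℕ∞) : WithBot ℕ∞) = ((1 : ℕ∞) : WithBot ℕ∞) := h1
    exact WithBot.coe_injective h'
  have hlt : η < η' := by
    rw [lt_iff_le_not_ge]
    refine ⟨(Scheme.le_iff_specializes).2 hsp, fun hle => heq ?_⟩
    exact (((Scheme.le_iff_specializes).1 hle).antisymm hsp |>.eq).symm
  have hlt2 : η' < genericPoint X := by
    rw [lt_iff_le_not_ge]
    refine ⟨(Scheme.le_iff_specializes).2 (genericPoint_specializes η'), fun hle => hne ?_⟩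
    exact ((Scheme.le_iff_specializes).1 hle).antisymm (genericPoint_specializes η') |>.eq
  have h2 := Order.coheight_add_one_le hlt
  have h3 := Order.coheight_add_one_le hlt2
  rw [e1] at h2
  have h4 : Order.coheight (genericPoint X) + 1 + 1 ≤ 1 := (add_le_add h3 le_rfl).trans h2
  have h5 : (1 + 1 : ℕ∞) ≤ 1 := le_trans (by rw [add_assoc]; exact le_add_self) h4
  have h6 : ((1 + 1 : ℕ) : ℕ∞) ≤ ((1 : ℕ) : ℕ∞) := by exact_mod_cast h5
  have h7 : (1 + 1 : ℕ) ≤ 1 := by exact_mod_cast h6
  omega

/-- a proper closed subset of a Noetherian integral surface contains finitely many integral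
curves -/
theorem finite_curves_in [IsIntegral X] [AlgebraicGeometry.IsNoetherian X]
    (hdim : topologicalKrullDim X = 2) (Z : Set X)
    (hZ : IsClosed Z) (hZne : genericPoint X ∉ Z) :
    {I : X.IdealSheafData | IsIntegral I.subscheme ∧
      topologicalKrullDim (I.support : Set X) = 1 ∧ (I.support : Set X) ⊆ Z}.Finite := by
  obtain ⟨𝒮, hfin, hcl, hirr, hU⟩ :=
    NoetherianSpace.exists_finite_set_isClosed_irreducible hZ
  refine Set.Finite.of_finite_image (f := fun I : X.IdealSheafData => (I.support : Set X))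
    (hfin.subset ?_) ?_
  · rintro _ ⟨I, ⟨hIi, hI1, hIZ⟩, rfl⟩
    haveI := hIi
    obtain ⟨η, hη⟩ : ∃ η : X, η = I.subschemeι (genericPoint I.subscheme) := ⟨_, rfl⟩
    have hclη : closure {η} = (I.support : Set X) := by
      rw [hη]; exact closure_generic_subscheme I
    have hirrI : IsIrreducible (I.support : Set X) := by
      rw [← hclη]; exact isIrreducible_singleton.closure
    lift 𝒮 to Finset (Set X) using hfin
    obtain ⟨t, ht, hsub⟩ := isIrreducible_iff_sUnion_isClosed.1 hirrI 𝒮 hcl
      (by rw [← hU]; exact hIZ)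
    have htcl := hcl t ht
    have htirr := hirr t ht
    obtain ⟨η', hη'⟩ : ∃ η', IsGenericPoint η' t :=
      ⟨htirr.genericPoint, htirr.isGenericPoint_genericPoint htcl⟩
    have hη't : η' ∈ t := by rw [← hη'.def]; exact subset_closure rfl
    have hne : η' ≠ genericPoint X := fun e => hZne (by
      rw [← e, hU]; exact ⟨t, ht, hη't⟩)
    have hsp : η' ⤳ η := by
      rw [specializes_iff_mem_closure, hη'.def]
      exact hsub (by rw [← hclη]; exact subset_closure rfl)
    have heq := eq_generic_curve_of_specializes X hdim I hI1 η' (by rw [← hη]; exact hsp) hne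
    have hst : (I.support : Set X) = t := by rw [← hclη, ← hη'.def, heq, hη]
    change (I.support : Set X) ∈ (𝒮 : Set (Set X))
    rw [hst]; exact ht
  · rintro I ⟨hIi, hI1, hIZ⟩ I' ⟨hIi', hI1', hIZ'⟩ hs
    haveI := hIi
    haveI := hIi'
    have hs' : (I.support : Set X) = I'.support := hs
    have hC := NumSurj.ker_eq_vanishingIdeal_of_isReduced I.subschemeι
    have hC' := NumSurj.ker_eq_vanishingIdeal_of_isReduced I'.subschemeι
    rw [Scheme.IdealSheafData.ker_subschemeι, Scheme.IdealSheafData.range_subschemeι] at hC hC'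
    rw [hC, hC', hs']

end Topology

section Surf

variable (k : Type u) [Field k] (X : Scheme.{u}) [X.Over (Spec (CommRingCat.of k))]
  [IsProper (X ↘ (Spec (CommRingCat.of k)))] [IsIntegral X] [PicGrp.Law X]
  [Smooth (X ↘ (Spec (CommRingCat.of k)))] [Module.Finite ℝ (NumR.N1R k X)]

set_option maxHeartbeats 1600000 in
/-- **the real Nakai–Moishezon criterion on a smooth projective surface** (Campana–Peternell) -/
theorem ample_of_pos (hdim : topologicalKrullDim X = 2)
    (hproj : ∃ H : X.Modules, CohB1.IsAmple H)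
    (B : NumR.N1R k X →ₗ[ℝ] NumR.N1R k X →ₗ[ℝ] ℝ) (hB : NumR.IsIntForm₂ k X B)
    (x : NumR.N1R k X) (hxx : 0 < B x x)
    (hpos : ∀ (I : X.IdealSheafData), IsIntegral I.subscheme →
      topologicalKrullDim (I.support : Set X) = 1 →
      ∀ hI : PicF.IsInvertible (ClSub.idealMod I), 0 < B x (NumR.curveCl k X I hI)) :
    x ∈ (NumR.ampleCone k X : Set (NumR.N1R k X)) := by
  haveI : AlgebraicGeometry.IsNoetherian X := isNoetherian_of_proper k X
  haveI : IsTopologicalAddGroup (NumR.N1R k X) :=
    IsModuleTopology.topologicalAddGroup ℝ (NumR.N1R k X)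
  obtain ⟨H, hH⟩ := hproj
  have hopenA := isOpen_ampleCone k X
  obtain ⟨h, hh⟩ : ∃ h : NumR.N1R k X, h = NumR.clR k X H hH.1 := ⟨_, rfl⟩
  have haH : h ∈ (NumR.ampleCone k X : Set (NumR.N1R k X)) := by
    rw [hh]; exact ConvexCone.subset_hull ⟨H, hH.1, hH, rfl⟩
  have hc : Continuous (fun p : NumR.N1R k X × NumR.N1R k X => B p.1 p.2) :=
    IsModuleTopology.continuous_bilinear_of_finite_left B
  have hlin : ∀ c : NumR.N1R k X, Continuous (fun z : NumR.N1R k X => B z c) := fun c =>
    hc.comp (continuous_id.prodMk continuous_const)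
  have hnefx : x ∈ NumR.nefCone₂ k X B := fun I hi h1 hI => (hpos I hi h1 hI).le
  have hclos := closure_ample k X hdim B hB H hH
  have hxP : x ∈ NumR.posCone k X B H hH.1 := by
    have h1 : x ∈ closure (NumR.ampleCone k X : Set (NumR.N1R k X)) ∩
        NumR.posCone k X B H hH.1 := by
      rw [hclos.2]; exact ⟨hxx, hnefx⟩
    exact h1.2
  have hPopen := (posCone_open_convex k X hdim B hB H hH).1
  -- a rational class `w` of the positive cone with `x - w` ample
  have hW : IsOpen {w : NumR.N1R k X | w ∈ NumR.posCone k X B H hH.1 ∧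
      x - w ∈ (NumR.ampleCone k X : Set (NumR.N1R k X))} :=
    hPopen.inter (hopenA.preimage (continuous_const.sub continuous_id))
  obtain ⟨δ, hδpos, hδmem⟩ : ∃ δ : ℝ, 0 < δ ∧ x - δ • h ∈ NumR.posCone k X B H hH.1 := by
    have hcont : Continuous fun ε : ℝ => x - ε • h := by fun_prop
    have h0 : (fun ε : ℝ => x - ε • h) 0 ∈ NumR.posCone k X B H hH.1 := by
      change x - (0 : ℝ) • h ∈ _
      rw [zero_smul, sub_zero]; exact hxP
    have hnh := hcont.continuousAt.preimage_mem_nhds (hPopen.mem_nhds h0)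
    obtain ⟨r, hr, hball⟩ := Metric.mem_nhds_iff.1 hnh
    refine ⟨r / 2, by positivity, hball ?_⟩
    rw [Metric.mem_ball, Real.dist_eq, sub_zero, abs_of_pos (by positivity)]
    linarith
  have hWne : (x - δ • h) ∈ {w : NumR.N1R k X | w ∈ NumR.posCone k X B H hH.1 ∧
      x - w ∈ (NumR.ampleCone k X : Set (NumR.N1R k X))} := by
    refine ⟨hδmem, ?_⟩
    change x - (x - δ • h) ∈ _
    rw [sub_sub_cancel]
    exact (NumR.ampleCone k X).smul_mem hδpos haH
  obtain ⟨w, hwW, d, hd, M, hM, hdw⟩ := exists_isRat_mem k X _ hW ⟨_, hWne⟩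
  obtain ⟨hwP, hxw⟩ := hwW
  have hdpos : (0 : ℝ) < (d : ℝ) := by exact_mod_cast hd
  have hwP' : 0 < B w w ∧ 0 < B w (NumR.clR k X H hH.1) := hwP
  have hMM : 0 < FGA.intNum k X 2 ![M, M] (Coh.structureModule X) := by
    have h1 := hB M M hM hM
    rw [← hdw] at h1
    simp only [map_smul, LinearMap.smul_apply, smul_eq_mul] at h1
    have h2 : 0 < (d : ℝ) * ((d : ℝ) * B w w) := mul_pos hdpos (mul_pos hdpos hwP'.1)
    rw [h1] at h2
    exact_mod_cast h2
  have hMH : 0 < FGA.intNum k X 2 ![M, H] (Coh.structureModule X) := by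
    have h1 := hB M H hM hH.1
    rw [← hdw] at h1
    simp only [map_smul, LinearMap.smul_apply, smul_eq_mul] at h1
    have h2 : 0 < (d : ℝ) * B w (NumR.clR k X H hH.1) := mul_pos hdpos hwP'.2
    rw [h1] at h2
    exact_mod_cast h2
  -- sections of a power of `M`
  obtain ⟨M', hM', ⟨eM⟩⟩ := InvInv2.exists_inverse hM
  have iM : CohB1.tensorMod M M' ≅ Coh.structureModule X :=
    TildeTens.tensorModComm M M' ≪≫ eM
  obtain ⟨H', hH', ⟨eH⟩⟩ := InvInv2.exists_inverse hH.1
  have iH : CohB1.tensorMod H H' ≅ Coh.structureModule X :=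
    TildeTens.tensorModComm H H' ≪≫ eH
  have hpos' : 0 < FGA.intNum k X 2 ![M', M'] (Coh.structureModule X) := by
    rw [intNum_inv_inv k X hdim M M' M M' hM hM iM iM]; exact hMM
  have hNH' : 0 < FGA.intNum k X 2 ![M', H'] (Coh.structureModule X) := by
    rw [intNum_inv_inv k X hdim M M' H H' hM hH.1 iM iH]; exact hMH
  obtain ⟨m₁, hm₁⟩ := SurfDual.main k X hdim M M' hM iM hpos' H H' hH iH hNH'
  obtain ⟨m, hmdef⟩ : ∃ m : ℕ, m = max m₁ 1 := ⟨_, rfl⟩
  have hm1 : 1 ≤ m := by rw [hmdef]; exact le_max_right _ _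
  have hmpos : (0 : ℝ) < (m : ℝ) := by exact_mod_cast hm1
  obtain ⟨-, -, hnt⟩ := hm₁ m (by rw [hmdef]; exact le_max_left _ _)
  have hP : PicF.IsInvertible (CohB1.tensorPow M m) := isInvertible_tensorPow hM m
  haveI := hnt
  obtain ⟨s, hs⟩ := exists_section_of_nontrivial (CohB1.tensorPow M m)
  haveI : Mono s := mono_of_ne_zero GenLoc.isInvertible_O hP s hs
  obtain ⟨D, hDdef⟩ : ∃ D : X.IdealSheafData, D = PicF2.zeroScheme (CohB1.tensorPow M m) s :=
    ⟨_, rfl⟩
  have hinv : ClSub.IsInverseOf (CohB1.tensorPow M m) (ClSub.idealMod D) := by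
    rw [hDdef]
    exact Groth.Agent.Helper2.ZeroConn.isInverseOf_idealMod_zeroScheme hP s
  obtain ⟨eD⟩ := hinv
  have eD' : CohB1.tensorMod (ClSub.idealMod D) (CohB1.tensorPow M m) ≅ Coh.structureModule X :=
    TildeTens.tensorModComm _ _ ≪≫ eD
  have hDinv : PicF.IsInvertible (ClSub.idealMod D) :=
    CurveCart.isInvertible_left_of_tensor_iso hP eD'
  have hclD : NumR.clR k X (ClSub.idealMod D) hDinv = -(((m : ℝ) * (d : ℝ)) • w) := by
    rw [clR_inverse k X hP hDinv eD', clR_pow k X hM m hP, ← hdw, smul_smul]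
  -- the generic point of `X` is not in the support of `D`
  have hDsupp : genericPoint X ∉ (D.support : Set X) := by
    intro hmem
    have hEff : FGA.IsEffCartier D := (Groth.Agent.S8914.result D).1 hDinv
    by_cases hDtop : D = ⊤
    · rw [hDtop, Scheme.IdealSheafData.support_top] at hmem
      exact hmem
    · have hdimD := NegDef.dim_support_effCartier k X hdim D hEff hDtop
      have huniv : (D.support : Set X) = Set.univ := by
        apply Set.eq_univ_of_univ_subset
        rw [← genericPoint_closure (α := X)]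
        exact D.support.isClosed.closure_subset_iff.2 (Set.singleton_subset_iff.2 hmem)
      rw [huniv, tdim_univ, hdim, Nat.cast_one] at hdimD
      exact withBot_one_ne_two hdimD.symm
  have hTfin := finite_curves_in X hdim (D.support : Set X) D.support.isClosed hDsupp
  have hfopen : ∀ I : X.IdealSheafData, IsOpen {y : NumR.N1R k X |
      ∀ hI : PicF.IsInvertible (ClSub.idealMod I), 0 < B y (NumR.curveCl k X I hI)} := by
    intro I
    by_cases hI : PicF.IsInvertible (ClSub.idealMod I)
    · have e : {y : NumR.N1R k X | ∀ hI : PicF.IsInvertible (ClSub.idealMod I),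
          0 < B y (NumR.curveCl k X I hI)} = {y | 0 < B y (NumR.curveCl k X I hI)} := by
        ext y; exact ⟨fun h => h hI, fun h _ => h⟩
      rw [e]; exact isOpen_lt continuous_const (hlin _)
    · have e : {y : NumR.N1R k X | ∀ hI : PicF.IsInvertible (ClSub.idealMod I),
          0 < B y (NumR.curveCl k X I hI)} = Set.univ := by
        ext y; exact ⟨fun _ => trivial, fun _ h => absurd h hI⟩
      rw [e]; exact isOpen_univ
  obtain ⟨N, hNdef⟩ : ∃ N : Set (NumR.N1R k X), N =
      {y | y - w ∈ (NumR.ampleCone k X : Set (NumR.N1R k X))} ∩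
      ⋂ I ∈ {I : X.IdealSheafData | IsIntegral I.subscheme ∧
        topologicalKrullDim (I.support : Set X) = 1 ∧ (I.support : Set X) ⊆ D.support},
        {y : NumR.N1R k X | ∀ hI : PicF.IsInvertible (ClSub.idealMod I),
          0 < B y (NumR.curveCl k X I hI)} := ⟨_, rfl⟩
  have hNopen : IsOpen N := by
    rw [hNdef]
    exact (hopenA.preimage (continuous_id.sub continuous_const)).inter
      (hTfin.isOpen_biInter fun I _ => hfopen I)
  have hxN : x ∈ N := by
    rw [hNdef]
    refine ⟨hxw, ?_⟩
    simp only [Set.mem_iInter]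
    intro I hIT hI
    exact hpos I hIT.1 hIT.2.1 hI
  have hNnef : ∀ y ∈ N, y ∈ NumR.nefCone₂ k X B := by
    intro y hy I hIi hI1 hI
    rw [hNdef] at hy
    obtain ⟨hyw, hyT⟩ := hy
    simp only [Set.mem_iInter] at hyT
    by_cases hsub : (I.support : Set X) ⊆ D.support
    · exact (hyT I ⟨hIi, hI1, hsub⟩ hI).le
    · have hη := NegDef.generic_notMem_of_not_subset X I hIi _ D.support.isClosed hsub
      have h1 := NegDef.curveInt_ideal_nonpos k X I D hIi hI1 hDinv hη
      have h2 := B_clR_curveCl k X hdim B hB (ClSub.idealMod D) hDinv I hI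
      have h3 : B (NumR.clR k X (ClSub.idealMod D) hDinv) (NumR.curveCl k X I hI) ≤ 0 := by
        rw [h2]; exact_mod_cast h1
      rw [hclD] at h3
      have h4 : 0 ≤ B w (NumR.curveCl k X I hI) := by
        simp only [map_neg, map_smul, LinearMap.neg_apply, LinearMap.smul_apply,
          smul_eq_mul] at h3
        have hmd : 0 < (m : ℝ) * (d : ℝ) := mul_pos hmpos hdpos
        by_contra hneg
        rw [not_le] at hneg
        have := mul_neg_of_pos_of_neg hmd hneg
        linarith
      have h5 : 0 < B (y - w) (NumR.curveCl k X I hI) :=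
        ample_curve_pos k X hdim B hB _ hyw I hI1 hI
      have e : B y (NumR.curveCl k X I hI) =
          B (y - w) (NumR.curveCl k X I hI) + B w (NumR.curveCl k X I hI) := by
        rw [map_sub, LinearMap.sub_apply]; ring
      rw [e]; linarith
  have hNcl : N ⊆ closure (NumR.ampleCone k X : Set (NumR.N1R k X)) := by
    intro y hy
    rw [hclos.1]
    exact ⟨nef_sq_nonneg k X hdim ⟨H, hH⟩ B hB y (hNnef y hy), hNnef y hy⟩
  have hint : x ∈ interior (closure (NumR.ampleCone k X : Set (NumR.N1R k X))) :=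
    mem_interior.2 ⟨N, hNcl, hNopen, hxN⟩
  have hconv : Convex ℝ (NumR.ampleCone k X : Set (NumR.N1R k X)) :=
    (NumR.ampleCone k X).convex
  rw [hconv.interior_closure_eq_interior_of_nonempty_interior
    (by rw [hopenA.interior_eq]; exact ⟨h, haH⟩), hopenA.interior_eq] at hint
  exact hint

/-- **the ample cone of a smooth projective surface** -/
theorem mem_ample_iff (hdim : topologicalKrullDim X = 2)
    (hproj : ∃ H : X.Modules, CohB1.IsAmple H)
    (B : NumR.N1R k X →ₗ[ℝ] NumR.N1R k X →ₗ[ℝ] ℝ) (hB : NumR.IsIntForm₂ k X B)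
    (x : NumR.N1R k X) :
    x ∈ (NumR.ampleCone k X : Set (NumR.N1R k X)) ↔
      (0 < B x x ∧ ∀ (I : X.IdealSheafData), AlgebraicGeometry.IsIntegral I.subscheme →
        topologicalKrullDim (I.support : Set X) = 1 →
        ∀ hI : PicF.IsInvertible (ClSub.idealMod I), 0 < B x (NumR.curveCl k X I hI)) := by
  constructor
  · intro hx
    obtain ⟨H, hH⟩ := hproj
    have h1 : 0 < B x x ∧ 0 < B x (NumR.clR k X H hH.1) :=
      (PosCone.main k X hdim B hB H hH).2 hx
    exact ⟨h1.1, fun I _ hI1 hI => ample_curve_pos k X hdim B hB x hx I hI1 hI⟩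
  · rintro ⟨hxx, hpos⟩
    exact ample_of_pos k X hdim hproj B hB x hxx hpos

end Surf

end Groth.Agent.Helper1.SurfNef2
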