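import Mathlib
import Groth.Agent.Lib.Helper1.NegCfg2
import Groth.Agent.Lib.Helper1.SurfNef2
import Groth.Agent.Lib.Helper1.RuledSurf1
import Groth.Agent.Lib.Helper1.NM4
import Groth.Agent.Lib.Helper1.SpFib8
import Groth.Agent.Lib.Helper1.CurveCart1
import Groth.Agent.Lib.Helper2.Dual.ZeroConn

/-!
# An invertible module of nonpositive degree with a nonzero section is trivial (helper1)
-/

set_option autoImplicit false
set_option linter.style.haveILetI false
set_option linter.unusedSectionVars false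
universe u
open CategoryTheory CategoryTheory.Limits AlgebraicGeometry TopologicalSpace Opposite

namespace Groth.Agent.Helper1.DegSec

open Groth.Agent.Helper1 Groth.Agent.Helper1.Euler Groth.Agent.Helper1.Dv
open Groth.Agent.Helper1.FinLen Groth.Agent.Helper1.TwForm Groth.Agent.Helper1.Curve
open Groth.Agent.Helper1.Snap Groth.Agent.Helper1.SnapPos Groth.Agent.Helper1.FGAInt
open Groth.Agent.Helper1.FGAPos Groth.Agent.Helper1.Kleiman
open Groth.Agent.Helper1.SurfCurve Groth.Agent.Helper1.RuledSurf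
open Groth.Agent.Helper1.CurveDual Groth.Agent.Helper1.SurfHodge
open Groth.Agent.Lib.Helper4.FibDim1 Groth.Agent.Lib.Helper4.PropDim1

theorem le_of_add_one_le_succ (a : WithBot ℕ∞) (s : ℕ)
    (h : a + 1 ≤ ((s + 1 : ℕ) : WithBot ℕ∞)) : a ≤ ((s : ℕ) : WithBot ℕ∞) := by
  cases a with
  | bot => exact bot_le
  | coe m =>
    cases m with
    | top =>
      exfalso
      have h2 : ((⊤ : ℕ∞) : WithBot ℕ∞) + ((1 : ℕ∞) : WithBot ℕ∞) ≤
          (((s + 1 : ℕ) : ℕ∞) : WithBot ℕ∞) := h
      rw [← WithBot.coe_add, WithBot.coe_le_coe, top_add] at h2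
      simp at h2
    | coe n =>
      have h2 : (((n : ℕ∞)) : WithBot ℕ∞) + ((1 : ℕ∞) : WithBot ℕ∞) ≤
          (((s + 1 : ℕ) : ℕ∞) : WithBot ℕ∞) := h
      rw [← WithBot.coe_add, WithBot.coe_le_coe] at h2
      have h'' : n + 1 ≤ s + 1 := by exact_mod_cast h2
      have h3 : n ≤ s := by omega
      exact_mod_cast h3

section Geo

/-- the support of a nontrivial effective Cartier divisor on an integral proper scheme of
dimension `s + 1` over a field has dimension `s` -/
theorem dim_support_effCartier_gen (k : Type u) [Field k] (X : Scheme.{u})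
    [X.Over (Spec (CommRingCat.of k))]
    [IsProper (X ↘ (Spec (CommRingCat.of k)))] [IsIntegral X] (s : ℕ)
    (hdim : topologicalKrullDim X = ((s + 1 : ℕ) : WithBot ℕ∞)) (F : X.IdealSheafData)
    (hF : FGA.IsEffCartier F) (hne : F ≠ ⊤) :
    topologicalKrullDim (F.support : Set X) = ((s : ℕ) : WithBot ℕ∞) := by
  haveI : AlgebraicGeometry.IsNoetherian X := isNoetherian_of_proper k X
  have hbot : F ≠ ⊥ := by
    intro h0
    obtain ⟨U, hxU, a, ha, hU⟩ := hF (genericPoint X)
    rw [h0] at hU
    have h1 : a ∈ Ideal.span {a} := Ideal.mem_span_singleton_self a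
    rw [← hU] at h1
    have h2 : a = 0 := by simpa using h1
    haveI : Nonempty ↥(U : X.Opens) := ⟨⟨genericPoint X, hxU⟩⟩
    rw [h2] at ha
    exact zero_notMem_nonZeroDivisors ha
  have hsupp_ne : (F.support : Set X) ≠ Set.univ := by
    intro h
    apply hbot
    have h1 : F.support = ⊤ := TopologicalSpace.Closeds.ext h
    exact Scheme.IdealSheafData.support_eq_top_iff.1 h1
  have hle : topologicalKrullDim (F.support : Set X) ≤ ((s : ℕ) : WithBot ℕ∞) := by
    have h1 := Curve.krullDim_add_one_le_of_ne_univ F.support.isClosed hsupp_ne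
    rw [hdim] at h1
    exact le_of_add_one_le_succ _ s h1
  have hne' : (F.support : Set X).Nonempty := by
    by_contra hemp
    rw [Set.not_nonempty_iff_eq_empty] at hemp
    apply hne
    apply (Scheme.IdealSheafData.support_eq_bot_iff F).1
    exact TopologicalSpace.Closeds.ext hemp
  obtain ⟨x, hx⟩ := hne'
  obtain ⟨U, hxU, a, ha, hU⟩ := hF x
  obtain ⟨ξ, hξ⟩ : ∃ ξ : X, ξ = genericPoint X := ⟨_, rfl⟩
  have hsp : ξ ⤳ x := by rw [hξ]; exact genericPoint_specializes x
  have hξU : ξ ∈ U.1 := hsp.mem_open U.1.2 hxU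
  have hmem : ∀ t : X, t ∈ U.1 → (t ∈ F.support ↔ t ∈ X.zeroLocus (U := U.1) {a}) := by
    intro t ht
    rw [Scheme.IdealSheafData.mem_support_iff_of_mem ht, hU, Scheme.zeroLocus_span]
  have hξz : ξ ∉ X.zeroLocus (U := U.1) {a} := by
    rw [← hmem ξ hξU]
    intro hin
    apply hsupp_ne
    apply Set.eq_univ_of_univ_subset
    rw [← genericPoint_closure (α := X), ← hξ]
    exact F.support.isClosed.closure_subset_iff.2 (Set.singleton_subset_iff.2 hin)
  have hxz : x ∈ X.zeroLocus (U := U.1) {a} := (hmem x hxU).1 hx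
  obtain ⟨y, hy1, hy2, hy3, hy4⟩ := Groth.Agent.Lib.Helper4.WellInt4.exists_hypersurface_point' k
    (X ↘ Spec (CommRingCat.of k)) U.1 a ξ x hxU hsp hξz hxz
  have hyU : y ∈ U.1 := hy2.mem_open U.1.2 hxU
  have hyF : y ∈ F.support := (hmem y hyU).2 hy3
  have hcast : ∀ n : ℕ, ((n : ℕ) : WithBot ℕ∞) = ((s + 1 : ℕ) : WithBot ℕ∞) → n = s + 1 := by
    intro n hn
    have h' : (((n : ℕ∞)) : WithBot ℕ∞) = (((s + 1 : ℕ) : ℕ∞) : WithBot ℕ∞) := hn
    exact_mod_cast WithBot.coe_injective h'
  have htrξ : tr (X ↘ Spec (CommRingCat.of k)) ξ = s + 1 := by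
    apply hcast
    rw [← dim_closure_of_field k (X ↘ Spec (CommRingCat.of k)) ξ, hξ, genericPoint_closure,
      tdim_univ, hdim]
  have htry : tr (X ↘ Spec (CommRingCat.of k)) y = s := by omega
  have hdimy : topologicalKrullDim ↥(closure ({y} : Set X)) = ((s : ℕ) : WithBot ℕ∞) := by
    rw [dim_closure_of_field k (X ↘ Spec (CommRingCat.of k)) y, htry]
  apply le_antisymm hle
  rw [← hdimy]
  exact Groth.Agent.Lib.Helper4.DimFT2.topologicalKrullDim_mono
    (F.support.isClosed.closure_subset_iff.2 (Set.singleton_subset_iff.2 hyF))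

end Geo

section Ops

variable {X : Scheme.{u}} [IsNoetherian X]

theorem T_congr {M N : X.Modules} (h : M = N) (hM : PicF.IsInvertible M)
    (hN : PicF.IsInvertible N) : T M hM = T N hN := by
  subst h; rfl

theorem opM_cons {r : ℕ} (A B : X.Modules) (hA : PicF.IsInvertible A)
    (hB : PicF.IsInvertible B)
    (hM : ∀ i, PicF.IsInvertible ((Matrix.vecCons A (fun _ : Fin r => B)) i)) :
    opM X (Matrix.vecCons A (fun _ : Fin r => B)) hM = (1 - T A hA) * (1 - T B hB) ^ r := by
  unfold opM
  rw [List.finRange_succ, List.map_cons, List.prod_cons, List.map_map]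
  have h0 : (1 - T ((Matrix.vecCons A (fun _ : Fin r => B)) 0) (hM 0)) = 1 - T A hA :=
    congrArg (fun t => 1 - t) (T_congr (Matrix.cons_val_zero _ _) _ _)
  have h1 : ((fun i => 1 - T ((Matrix.vecCons A (fun _ : Fin r => B)) i) (hM i)) ∘ Fin.succ) =
      fun _ => 1 - T B hB := by
    funext i
    exact congrArg (fun t => 1 - t) (T_congr (Matrix.cons_val_succ _ _ _) _ _)
  rw [h0, h1, List.map_const', List.prod_replicate, List.length_finRange]

end Ops

section Main

variable (k : Type u) [Field k] (X : Scheme.{u}) [X.Over (Spec (CommRingCat.of k))]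
  [IsProper (X ↘ (Spec (CommRingCat.of k)))] [IsIntegral X]

/-- **an invertible module of nonpositive degree with a nonzero section is trivial** -/
theorem main (s : ℕ) (hdim : topologicalKrullDim X = ((s + 1 : ℕ) : WithBot ℕ∞))
    (H H' : X.Modules) (hH : CohB1.IsAmple H) (hH' : PicF.IsInvertible H')
    (iH : CohB1.tensorMod H H' ≅ Coh.structureModule X)
    (L L' : X.Modules) (hL : PicF.IsInvertible L)
    (iL : CohB1.tensorMod L L' ≅ Coh.structureModule X)
    (hdeg : FGA.intNum k X (s + 1) (Matrix.vecCons L' (fun _ : Fin s => H'))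
      (Coh.structureModule X) ≤ 0)
    (σ : Coh.structureModule X ⟶ L) (hσ : σ ≠ 0) : Nonempty (L ≅ Coh.structureModule X) := by
  haveI : AlgebraicGeometry.IsNoetherian X := isNoetherian_of_proper k X
  haveI : Mono σ := mono_of_ne_zero GenLoc.isInvertible_O hL σ hσ
  obtain ⟨D, hDdef⟩ : ∃ D : X.IdealSheafData, D = PicF2.zeroScheme L σ := ⟨_, rfl⟩
  have hinv : ClSub.IsInverseOf L (ClSub.idealMod D) := by
    rw [hDdef]
    exact Groth.Agent.Helper2.ZeroConn.isInverseOf_idealMod_zeroScheme hL σ
  obtain ⟨eD⟩ := hinv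
  have eD' : CohB1.tensorMod (ClSub.idealMod D) L ≅ Coh.structureModule X :=
    TildeTens.tensorModComm _ _ ≪≫ eD
  have hDinv : PicF.IsInvertible (ClSub.idealMod D) :=
    CurveCart.isInvertible_left_of_tensor_iso hL eD'
  by_cases htop : D = ⊤
  · rw [htop] at eD'
    obtain ⟨eT⟩ := SpFib.nonempty_iso_idealMod_top (X := X)
    exact ⟨(SecTwist.unitorR L).symm ≪≫ TildeTens.tensorModComm _ _ ≪≫
      TwistTens.tensorModCongrLeft eT L ≪≫ eD'⟩
  · exfalso
    have hEff : FGA.IsEffCartier D := (Groth.Agent.S8914.result D).1 hDinv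
    have hdimD := dim_support_effCartier_gen k X s hdim D hEff htop
    have hL' : PicF.IsInvertible L' :=
      CurveCart.isInvertible_left_of_tensor_iso hL (TildeTens.tensorModComm _ _ ≪≫ iL)
    have hOc : Coh.IsCoh (Coh.structureModule X) := isCoh_structureModule X
    have hIc : Coh.IsCoh (ClSub.idealMod D) := CurveDual.isCoh_idealMod D
    have hQc : Coh.IsCoh (ClSub.quotMod D) := CurveDual.isCoh_quotMod D
    have hses := clSub_ses (IdealModL.S D) (CurveDual.shortExact_S D) hIc hOc hQc
    change KZero.clSub (PC X) (Coh.structureModule X) =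
      KZero.clSub (PC X) (ClSub.idealMod D) + KZero.clSub (PC X) (ClSub.quotMod D) at hses
    obtain ⟨q, hq⟩ : ∃ q, q = KZero.clSub (PC X) (ClSub.quotMod D) := ⟨_, rfl⟩
    have hqmem : q ∈ FilLT X (s + 1) := by
      rw [hq]
      apply clSub_mem_FilLT s _ hQc
      rw [NM.support_quotMod, hdimD]
    -- `T_{L'} = T_{I_D}`
    have hT1 : T L hL * T L' hL' = 1 := T_mul_of_inverse hL hL' iL
    have hT2 : T L hL * T (ClSub.idealMod D) hDinv = 1 := T_mul_of_inverse hL hDinv eD
    have hTeq : T L' hL' = T (ClSub.idealMod D) hDinv := by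
      have hc : T L' hL' * T L hL = 1 := by rw [(T_comm L' L hL' hL).eq]; exact hT1
      calc T L' hL' = T L' hL' * (T L hL * T (ClSub.idealMod D) hDinv) := by rw [hT2, mul_one]
        _ = (T L' hL' * T L hL) * T (ClSub.idealMod D) hDinv := (mul_assoc _ _ _).symm
        _ = T (ClSub.idealMod D) hDinv := by rw [hc, one_mul]
    -- `(1 - T_{L'}) [O] = [O_D]`
    have h1 : (1 - T L' hL') (KZero.clSub (PC X) (Coh.structureModule X)) = q := by
      rw [hTeq]
      change KZero.clSub (PC X) (Coh.structureModule X) -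
        T (ClSub.idealMod D) hDinv (KZero.clSub (PC X) (Coh.structureModule X)) = q
      rw [T_clSub' _ hDinv _ hOc]
      have e : CohB1.tensorMod (Coh.structureModule X) (ClSub.idealMod D) ≅ ClSub.idealMod D :=
        TildeTens.tensorModComm _ _ ≪≫ Groth.Agent.Lib.Helper5.LTenFlf.tensorUnitIso _
      rw [clSub_iso e.symm hIc, hses, hq]
      abel
    -- `1 - T_{H'} = T_{H'} (T_H - 1)`
    have hTH : T H hH.1 * T H' hH' = 1 := T_mul_of_inverse hH.1 hH' iH
    have hTH' : T H' hH' * T H hH.1 = 1 := by rw [(T_comm H' H hH' hH.1).eq]; exact hTH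
    have hfac : (1 - T H' hH') = T H' hH' * (T H hH.1 - 1) := by
      rw [mul_sub, hTH', mul_one]
    have hcomm : Commute (T H' hH') (T H hH.1 - 1) :=
      (T_comm H' H hH' hH.1).sub_right (Commute.one_right _)
    have hpow : (1 - T H' hH') ^ s = (T H' hH') ^ s * (T H hH.1 - 1) ^ s := by
      rw [hfac, hcomm.mul_pow]
    have h2 : ((1 - T H' hH') ^ s) q = ((T H hH.1 - 1) ^ s) q := by
      rw [hpow]
      change ((T H' hH') ^ s) (((T H hH.1 - 1) ^ s) q) = _
      apply T_pow_fix H' hH'
      have := pow_sub_one_mem H hH.1 (s + 1) q hqmem s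
      rwa [show s + 1 - s = 1 by omega] at this
    -- the intersection number
    have hM : ∀ i, PicF.IsInvertible ((Matrix.vecCons L' (fun _ : Fin s => H')) i) := by
      intro i
      refine Fin.cases ?_ (fun j => ?_) i
      · exact hL'
      · exact hH'
    have hint := intNum_eq k X (s + 1) hdim.le _ hM (Coh.structureModule X) hOc
    rw [opM_cons L' H' hL' hH' hM] at hint
    have hAB : Commute (T L' hL') (1 - T H' hH') :=
      (Commute.one_right _).sub_right (T_comm L' H' hL' hH')
    have hc2 : Commute (1 - T L' hL') ((1 - T H' hH') ^ s) :=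
      ((Commute.one_left _).sub_left hAB).pow_right s
    rw [hc2.eq] at hint
    change FGA.intNum k X (s + 1) _ _ = eulerHom k X (((1 - T H' hH') ^ s)
      ((1 - T L' hL') (KZero.clSub (PC X) (Coh.structureModule X)))) at hint
    rw [h1, h2, ← lam_apply] at hint
    have hpos := NM.pos_quotMod k X H hH D s hdimD
    rw [← hq] at hpos
    rw [hint] at hdeg
    exact absurd hdeg (not_le.2 hpos)

end Main

end Groth.Agent.Helper1.DegSec
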