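import Mathlib
import Groth.Prelude
import Groth.Agent.Lib.Helper1.AmpleQA
import Groth.Agent.Lib.Helper1.TwistAmpleOpen

/-!
# Finite covers by dense affine opens, each quasi-projective over the base (helper1)
-/

set_option autoImplicit false
set_option backward.isDefEq.respectTransparency.types false
set_option synthInstance.maxHeartbeats 400000
set_option linter.style.haveILetI false
set_option linter.unusedSectionVars false
set_option linter.unusedVariables false

universe u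

open CategoryTheory CategoryTheory.Limits AlgebraicGeometry TopologicalSpace Opposite

namespace Groth.Agent.Helper1.DenseAffCover

/-- every point of a Noetherian scheme lies in a dense affine open -/
theorem exists_dense_affine (X : Scheme.{u}) [IsNoetherian X] (x : X) :
    ∃ W : X.Opens, x ∈ W ∧ IsAffineOpen W ∧ Dense (W : Set X) := by
  haveI : NoetherianSpace X := inferInstance
  have hwf : WellFounded (fun a b : X.Opens => a > b) := wellFounded_gt
  obtain ⟨W₀, hW₀, hxW₀⟩ : ∃ W₀ : X.Opens, IsAffineOpen W₀ ∧ x ∈ W₀ := by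
    obtain ⟨_, ⟨W, hW, rfl⟩, hxW, -⟩ := X.isBasis_affineOpens.exists_subset_of_mem_open
      (Set.mem_univ x) isOpen_univ
    exact ⟨W, hW, hxW⟩
  obtain ⟨W, ⟨hxW, hW⟩, hmax⟩ :=
    hwf.has_min {W : X.Opens | x ∈ W ∧ IsAffineOpen W} ⟨W₀, hxW₀, hW₀⟩
  refine ⟨W, hxW, hW, ?_⟩
  by_contra hnd
  have hT : ((closure (W : Set X))ᶜ).Nonempty := by
    rw [Set.nonempty_compl]
    intro h
    exact hnd (dense_iff_closure_eq.2 h)
  obtain ⟨y, hy⟩ := hT
  obtain ⟨_, ⟨W₁, hW₁, rfl⟩, hyW₁, hW₁T⟩ := X.isBasis_affineOpens.exists_subset_of_mem_open hy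
    isClosed_closure.isOpen_compl
  have hdisj : Disjoint W W₁ := by
    rw [← Opens.coe_disjoint, Set.disjoint_left]
    intro z hzW hzW₁
    exact hW₁T hzW₁ (subset_closure hzW)
  have haff : IsAffineOpen (W ⊔ W₁) := hW.sup_of_disjoint hW₁ hdisj
  have hgt : W ⊔ W₁ > W := by
    refine lt_of_le_of_ne le_sup_left ?_
    intro heq
    have hyW : y ∈ W := by
      rw [heq]
      exact Opens.mem_sup.2 (Or.inr hyW₁)
    exact hy (subset_closure hyW)
  exact hmax (W ⊔ W₁) ⟨Opens.mem_sup.2 (Or.inl hxW), haff⟩ hgt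

theorem exists_finite_dense_affine_cover (X : Scheme.{u}) [IsNoetherian X] :
    ∃ (n : ℕ) (U : Fin n → X.Opens), (⨆ i, U i) = ⊤ ∧
      ∀ i, IsAffineOpen (U i) ∧ Dense ((U i : Set X)) := by
  choose W hxW hW hWd using exists_dense_affine X
  obtain ⟨t, ht⟩ := isCompact_univ.elim_finite_subcover (fun x => (W x : Set X))
    (fun x => (W x).isOpen) (fun x _ => Set.mem_iUnion.2 ⟨x, hxW x⟩)
  refine ⟨t.card, fun i => W (t.equivFin.symm i).1, ?_, fun i => ⟨hW _, hWd _⟩⟩
  rw [eq_top_iff]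
  intro y _
  obtain ⟨x, hxt, hyx⟩ : ∃ x ∈ t, y ∈ W x := by
    have h := ht (Set.mem_univ y)
    rw [Set.mem_iUnion₂] at h
    obtain ⟨x, hxt, hyx⟩ := h
    exact ⟨x, hxt, hyx⟩
  rw [Opens.mem_iSup]
  refine ⟨t.equivFin ⟨x, hxt⟩, ?_⟩
  show y ∈ W (t.equivFin.symm (t.equivFin ⟨x, hxt⟩)).1
  rw [Equiv.symm_apply_apply]
  exact hyx

theorem isQuasiProjective_of_affine {S X : Scheme.{u}} (f : X ⟶ S) [IsNoetherian S]
    [QuasiCompact f] [LocallyOfFiniteType f] (U : X.Opens) (hU : IsAffineOpen U) :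
    RelProj.IsQuasiProjective (U.ι ≫ f) := by
  haveI : IsAffine U.toScheme := hU
  haveI : QuasiSeparatedSpace S := inferInstance
  haveI hqc : QuasiCompact (U.ι ≫ f) := quasiCompact_of_compactSpace _
  refine ⟨inferInstance, hqc, Coh.structureModule U.toScheme, hqc, fun V => ?_⟩
  haveI : CompactSpace ((U.ι ≫ f) ⁻¹ᵁ V.1).toScheme :=
    isCompact_iff_compactSpace.mp (hqc.isCompact_preimage _ V.1.isOpen V.2.isCompact)
  haveI : Scheme.IsQuasiAffine ((U.ι ≫ f) ⁻¹ᵁ V.1).toScheme :=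
    Scheme.IsQuasiAffine.of_isImmersion ((U.ι ≫ f) ⁻¹ᵁ V.1).ι
  exact Groth.Agent.Helper1.TwistAmpleOpen.isAmple_of_iso
    (Scheme.Modules.restrictUnitIso ((U.ι ≫ f) ⁻¹ᵁ V.1).ι).symm
    Groth.Agent.Helper1.GenLoc.isAmple_O_of_isQuasiAffine

theorem main {S X : Scheme.{u}} (f : X ⟶ S) [IsNoetherian S] [QuasiCompact f]
    [LocallyOfFiniteType f] :
    ∃ (n : ℕ) (U : Fin n → X.Opens), (⨆ i, U i) = ⊤ ∧
      ∀ i, IsAffineOpen (U i) ∧ Dense ((U i : Set X)) ∧
        RelProj.IsQuasiProjective ((U i).ι ≫ f) := by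
  haveI : IsLocallyNoetherian X := LocallyOfFiniteType.isLocallyNoetherian f
  haveI : CompactSpace X := QuasiCompact.compactSpace_of_compactSpace f
  haveI : IsNoetherian X := {}
  obtain ⟨n, U, hcov, hU⟩ := exists_finite_dense_affine_cover X
  exact ⟨n, U, hcov, fun i => ⟨(hU i).1, (hU i).2, isQuasiProjective_of_affine f (U i) (hU i).1⟩⟩

end Groth.Agent.Helper1.DenseAffCover
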