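import Mathlib
import Groth.Agent.Lib.Helper1.HypPnA
import Groth.Agent.Lib.Helper1.ProjSpaceH0
import Groth.Agent.Lib.Helper1.ProjUP8
import Groth.Agent.Lib.Helper1.PnVA
import Groth.Agent.Lib.Helper1.VA1
import Groth.Agent.Lib.Helper1.ProjTop
import Groth.Agent.Lib.Helper1.TwistSec
import Groth.Agent.Lib.Lead.MeroL26

/-!
# Zero schemes of sections: universal property pieces; linear forms on projective space (helper1)
-/

set_option autoImplicit false
set_option synthInstance.maxHeartbeats 400000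
universe u
open CategoryTheory CategoryTheory.Limits AlgebraicGeometry TopologicalSpace Opposite

namespace Groth.Agent.Helper1.HypPn

open Groth.Agent.Helper1.QcCech Groth.Agent.Helper1 Groth.Agent.Helper1.PullSec
open Groth.Agent.Helper1.PullGen Groth.Agent.Helper1.LGen

section Zero

variable {X : Scheme.{u}} {L : X.Modules}

theorem exists_affine_isGen (hL : PicF.IsInvertible L) (x : X) :
    ∃ U : X.affineOpens, x ∈ U.1 ∧ ∃ e : Γ(L, U.1), IsGen L U.1 e := by
  obtain ⟨W, e, hxW, he⟩ := exists_isGen hL x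
  obtain ⟨_, ⟨U, hU, rfl⟩, hxU, hUW⟩ :=
    X.isBasis_affineOpens.exists_subset_of_mem_open hxW W.isOpen
  exact ⟨⟨U, hU⟩, hxU, res L (show U ≤ W from hUW) e, he.res _⟩

theorem σ_subschemeι_secVal [IsIntegral X] (hL : PicF.IsInvertible L)
    (s : Coh.structureModule X ⟶ L) (hs : s ≠ 0) :
    σ (PicF2.zeroScheme L s).subschemeι L ⊤ (secVal s ⊤) = 0 := by
  apply TwistSec.eq_of_locally
  intro y _
  obtain ⟨U, hxU, e, he⟩ := exists_affine_isGen hL ((PicF2.zeroScheme L s).subschemeι y)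
  obtain ⟨c, hc⟩ := he.exists_coeff (secVal s U.1)
  have hI := Groth.Agent.Lead.MeroL.ideal_zeroScheme_eq_span hL s hs U he c hc.symm
  have hc0 : ((PicF2.zeroScheme L s).subschemeι.app U.1).hom c = 0 := by
    have hmem : c ∈ RingHom.ker ((PicF2.zeroScheme L s).subschemeι.app U.1).hom := by
      rw [(PicF2.zeroScheme L s).ker_subschemeι_app U, hI]
      exact Ideal.mem_span_singleton_self c
    exact hmem
  refine ⟨(PicF2.zeroScheme L s).subschemeι ⁻¹ᵁ U.1, fun _ _ => trivial, hxU, ?_⟩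
  rw [map_zero]
  have h1 := σ_res (PicF2.zeroScheme L s).subschemeι L (le_top : U.1 ≤ ⊤) (secVal s ⊤)
  rw [h1, res_secVal, ← hc, σ_smul, hc0, zero_smul]

theorem zeroScheme_le_ker [IsIntegral X] (hL : PicF.IsInvertible L)
    (s : Coh.structureModule X ⟶ L) (hs : s ≠ 0) {Y : Scheme.{u}} (f : Y ⟶ X) [QuasiCompact f]
    (h0 : σ f L ⊤ (secVal s ⊤) = 0) : PicF2.zeroScheme L s ≤ f.ker := by
  have hex := fun x : X => exists_affine_isGen hL x
  choose U hxU e he using hex
  refine Scheme.IdealSheafData.le_of_iSup_eq_top U ?_ fun x => ?_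
  · rw [eq_top_iff]
    intro x _
    exact Opens.mem_iSup.2 ⟨x, hxU x⟩
  · obtain ⟨c, hc⟩ := (he x).exists_coeff (secVal s (U x).1)
    rw [Groth.Agent.Lead.MeroL.ideal_zeroScheme_eq_span hL s hs (U x) (he x) c hc.symm,
      Scheme.Hom.ker_apply, Ideal.span_singleton_le_iff_mem]
    show (f.app (U x).1).hom c = 0
    have h1 := σ_res f L (le_top : (U x).1 ≤ ⊤) (secVal s ⊤)
    rw [h0, map_zero, res_secVal, ← hc, σ_smul] at h1
    have hg := isGen_σ f (he x)
    apply (hg _ le_rfl).1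
    show (f.app (U x).1).hom c • res _ le_rfl (σ f L (U x).1 (e x)) =
      (0 : Γ(Y, f ⁻¹ᵁ (U x).1)) • res _ le_rfl (σ f L (U x).1 (e x))
    rw [zero_smul, QcCech.res_self]
    exact h1.symm

end Zero

section Pn

variable (n : ℕ) (R : Type u) [CommRing R]

theorem exists_coeffs (t : Γ(Twist.twistProjSpace n R 1, ⊤)) :
    ∃ a : Fin (n + 1) → R,
      t = ∑ j, ProjUP.toGlobal (CohB1.ProjSpace.toSpec n R) (a j) • ProjUP.coord n R j := by
  obtain ⟨ℓ, hℓ⟩ := (ProjSpaceLib.globalOfEquiv n R 1).surjective t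
  have hmem : ℓ.1 ∈ Submodule.span R
      (Set.range (MvPolynomial.X : Fin (n + 1) → MvPolynomial (Fin (n + 1)) R)) := by
    rw [← MvPolynomial.homogeneousSubmodule_one_eq_span_X]
    exact ℓ.2
  obtain ⟨a, ha⟩ := (Submodule.mem_span_range_iff_exists_fun R).1 hmem
  refine ⟨a, ?_⟩
  have hℓ' : ℓ = ∑ j, a j •
      (⟨MvPolynomial.X j, MvPolynomial.isHomogeneous_X R j⟩ : CohB1.polyGrading n R 1) := by
    apply Subtype.ext
    rw [← ha, Submodule.coe_sum]
    rfl
  rw [← hℓ, hℓ', map_sum]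
  refine Finset.sum_congr rfl fun j _ => ?_
  exact ProjSpaceLib.globalOfEquiv_smul n R 1 (a j) _

end Pn

section Field

variable (n : ℕ) (k : Type u) [Field k]

instance isIntegral_projSpace : IsIntegral (CohB1.ProjSpace n k) := by
  show IsIntegral (Proj (CohB1.polyGrading n k))
  refine ProjTop.isIntegral_of_essIntegral (CohB1.polyGrading n k)
    (fun f _ hf => hf.eq_zero) ?_ ?_
  · refine ⟨MvPolynomial.X 0, ?_, MvPolynomial.X_ne_zero _⟩
    exact HomogeneousIdeal.mem_irrelevant_of_mem _ one_pos (MvPolynomial.isHomogeneous_X k 0)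
  · intro f _ g _ h
    exact mul_eq_zero.mp h

end Field

end Groth.Agent.Helper1.HypPn
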