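import Mathlib
import Groth.Prelude.Def_ExtPow2
import Groth.Agent.Lib.Helper2.Canon.ExtPowInv
import Groth.Agent.Lib.Helper1.PFrame3
import Groth.Agent.Lib.Helper1.FinSigma
import Groth.Agent.Lib.Helper1.AffPushEpi
import Groth.Agent.Lib.Helper1.QcIso
import Groth.Agent.Lib.Helper1.IdealModL
import Groth.Agent.Lib.Helper1.FtLocal
import Groth.Agent.Lib.Helper1.TwistSec
import Groth.Agent.Lib.Lead.FLF6
import Groth.Agent.Lib.Helper1.VA5
import Groth.Agent.Lib.Helper1.HypPnB

/-!
# Globally generated bundles with trivial determinant are trivial (helper1, S11489)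
-/

set_option autoImplicit false
set_option backward.isDefEq.respectTransparency.types false
set_option synthInstance.maxHeartbeats 400000
set_option linter.unusedSectionVars false
set_option linter.style.haveILetI false
set_option linter.unusedVariables false
universe u
open CategoryTheory CategoryTheory.Limits AlgebraicGeometry TopologicalSpace Opposite

namespace Groth.Agent.Helper1.DetTriv

open Groth.Agent.Helper1 Groth.Agent.Helper1.QcCech Groth.Agent.Helper1.PFrame

section Alg

open Module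

variable {R M : Type*} [CommRing R] [AddCommGroup M] [Module R M]

/-- if the wedge of `s` freely generates the top exterior power of a free module of rank `r`,
then `s` is a basis -/
theorem bijective_sum_of_bijective_smul_ιMulti {r : ℕ} (v : Fin r → M)
    (hv : Function.Bijective (fun ρ : Fin r → R => ∑ i, ρ i • v i)) (s : Fin r → M)
    (hs : Function.Bijective (fun a : R => a • exteriorPower.ιMulti R r s)) :
    Function.Bijective (fun ρ : Fin r → R => ∑ i, ρ i • s i) := by
  classical
  have hv' : Function.Bijective (Fintype.linearCombination R v) := by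
    have : ⇑(Fintype.linearCombination R v) = fun ρ : Fin r → R => ∑ i, ρ i • v i := by
      funext ρ
      exact Fintype.linearCombination_apply R v ρ
    rw [this]
    exact hv
  let e : (Fin r → R) ≃ₗ[R] M := LinearEquiv.ofBijective (Fintype.linearCombination R v) hv'
  let b : Basis (Fin r) R M := Basis.ofEquivFun e.symm
  have hgen := Groth.Agent.Helper2.ExtPowInv.bijective_smul_ιMulti_basis b
  obtain ⟨w₀, hw₀⟩ : ∃ w₀ : ⋀[R]^r M, w₀ = exteriorPower.ιMulti R r
      (fun j => b (Groth.Agent.Helper2.ExtPowInv.σ r j)) := ⟨_, rfl⟩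
  rw [← hw₀] at hgen
  have hc0 : Function.Bijective (LinearMap.toSpanSingleton R (⋀[R]^r M) w₀) := by
    have : ⇑(LinearMap.toSpanSingleton R (⋀[R]^r M) w₀) = fun a : R => a • w₀ := by
      funext a
      rfl
    rw [this]
    exact hgen
  let c : R ≃ₗ[R] ⋀[R]^r M := LinearEquiv.ofBijective (LinearMap.toSpanSingleton R _ w₀) hc0
  let g : M [⋀^Fin r]→ₗ[R] R :=
    c.symm.toLinearMap.compAlternatingMap (exteriorPower.ιMulti R r)
  have hg : ∀ x, g x = c.symm (exteriorPower.ιMulti R r x) := fun x => rfl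
  obtain ⟨a, ha⟩ := hs.2 w₀
  have ha' : a • exteriorPower.ιMulti R r s = w₀ := ha
  have h3 : c.symm w₀ = 1 := by
    rw [LinearEquiv.symm_apply_eq]
    change w₀ = (1 : R) • w₀
    rw [one_smul]
  have h1 : a * g s = 1 := by
    have h2 : c.symm (a • exteriorPower.ιMulti R r s) = c.symm w₀ := congrArg c.symm ha'
    rw [map_smul, h3] at h2
    exact h2
  have h1' : g s * a = 1 := by
    rw [mul_comm]
    exact h1
  have hu : IsUnit (g s) := ⟨⟨g s, a, h1', h1⟩, rfl⟩
  have h4 : g s = g b * b.det s := by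
    have h5 := g.eq_smul_basis_det b
    have h6 := congrArg (fun f : M [⋀^Fin r]→ₗ[R] R => f s) h5
    exact h6
  have hdet : IsUnit (b.det s) := by
    rw [h4] at hu
    exact isUnit_of_mul_isUnit_right hu
  have hb := (Module.Basis.is_basis_iff_det b).2 hdet
  constructor
  · intro ρ ρ' h
    have h7 : ∑ i, (ρ - ρ') i • s i = 0 := by
      simp only [Pi.sub_apply, sub_smul, Finset.sum_sub_distrib]
      exact sub_eq_zero.2 h
    have hli := Fintype.linearIndependent_iff.1 hb.1 (ρ - ρ') h7
    funext i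
    exact sub_eq_zero.1 (hli i)
  · intro y
    have hy : y ∈ Submodule.span R (Set.range s) := by
      rw [hb.2]
      trivial
    obtain ⟨ρ, hρ⟩ := (Submodule.mem_span_range_iff_exists_fun R).1 hy
    exact ⟨ρ, hρ⟩

end Alg

variable {X : Scheme.{u}}

/-- coordinates of sections of a finite free module -/
theorem coords_bijective (r : ℕ) (W : X.Opens) :
    Function.Bijective
      (fun (m : Γ(∐ (fun _ : Fin r => Coh.structureModule X), W)) (i : Fin r) =>
        (FinSigma.q (fun _ : Fin r => Coh.structureModule X) i).app W m) := by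
  constructor
  · intro m m' h
    rw [FinSigma.decomp (fun _ : Fin r => Coh.structureModule X) W m,
      FinSigma.decomp (fun _ : Fin r => Coh.structureModule X) W m']
    refine Finset.sum_congr rfl fun i _ => ?_
    have := congrFun h i
    simp only at this
    rw [this]
  · intro ρ
    refine ⟨∑ i, (Sigma.ι (fun _ : Fin r => Coh.structureModule X) i).app W (ρ i), ?_⟩
    funext j
    change (FinSigma.q (fun _ : Fin r => Coh.structureModule X) j).app W
      (∑ i, (Sigma.ι (fun _ : Fin r => Coh.structureModule X) i).app W (ρ i)) = ρ j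
    rw [map_sum, Finset.sum_eq_single j]
    · have := congrArg (fun φ : Coh.structureModule X ⟶ Coh.structureModule X =>
        φ.app W (ρ j)) (FinSigma.ι_q_self (fun _ : Fin r => Coh.structureModule X) j)
      exact this
    · intro i _ hij
      have := congrArg (fun φ : Coh.structureModule X ⟶ Coh.structureModule X =>
        φ.app W (ρ i)) (FinSigma.ι_q_ne (fun _ : Fin r => Coh.structureModule X) hij)
      exact this
    · intro h
      exact absurd (Finset.mem_univ j) h

/-- a unit value of the trivialised determinant gives a free generator -/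
theorem bijective_smul_of_isUnit {E L : X.Modules} {r : ℕ} (U : X.Opens)
    (φU : (L.val.obj (op U)) ≃ₗ[Γ(X, U)] ↥(⋀[Γ(X, U)]^r (E.val.obj (op U))))
    (ψ : L ≅ Coh.structureModule X) (z : ⋀[Γ(X, U)]^r (E.val.obj (op U)))
    (hu : IsUnit (show Γ(X, U) from ψ.hom.app U (show Γ(L, U) from φU.symm z))) :
    Function.Bijective (fun ρ : Γ(X, U) => ρ • z) := by
  let θ : ⋀[Γ(X, U)]^r (E.val.obj (op U)) → Γ(X, U) := fun y =>
    (show Γ(X, U) from ψ.hom.app U (show Γ(L, U) from φU.symm y))
  have hθ : Function.Bijective θ := by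
    constructor
    · intro y y' h
      have h1 : ψ.hom.app U (show Γ(L, U) from φU.symm y) =
          ψ.hom.app U (show Γ(L, U) from φU.symm y') := h
      exact φU.symm.injective (FtLocal.app_injective_of_mono ψ.hom U h1)
    · intro ρ
      refine ⟨φU (show L.val.obj (op U) from
        ψ.inv.app U (show Γ(Coh.structureModule X, U) from ρ)), ?_⟩
      change (show Γ(X, U) from ψ.hom.app U (show Γ(L, U) from φU.symm (φU _))) = ρ
      rw [LinearEquiv.symm_apply_apply]
      have := congrArg (fun f : Coh.structureModule X ⟶ Coh.structureModule X =>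
        f.app U (show Γ(Coh.structureModule X, U) from ρ)) ψ.inv_hom_id
      exact this
  have hθs : ∀ (ρ : Γ(X, U)) (y : ⋀[Γ(X, U)]^r (E.val.obj (op U))),
      θ (ρ • y) = ρ * θ y := by
    intro ρ y
    have e1 : φU.symm (ρ • y) = ρ • φU.symm y := map_smul φU.symm ρ y
    have e2 : ψ.hom.app U (ρ • (show Γ(L, U) from φU.symm y)) =
        ρ • ψ.hom.app U (show Γ(L, U) from φU.symm y) :=
      Scheme.Modules.Hom.app_smul ψ.hom ρ _
    change (show Γ(X, U) from ψ.hom.app U (show Γ(L, U) from φU.symm (ρ • y))) = _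
    rw [e1]
    exact e2
  have hcomp : θ ∘ (fun ρ : Γ(X, U) => ρ • z) = fun ρ => ρ * θ z := by
    funext ρ
    exact hθs ρ z
  have h2 : Function.Bijective (θ ∘ (fun ρ : Γ(X, U) => ρ • z)) := by
    rw [hcomp]
    exact IsUnit.isUnit_iff_mulRight_bijective.1 hu
  exact (Function.Bijective.of_comp_iff' hθ _).1 h2

set_option maxHeartbeats 3200000 in
/-- the key statement: among finitely many morphisms `O ⟶ E` spanning `E` one can choose `r`
which form a trivialisation, provided the determinant is trivial and nonzero global functions are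
units -/
theorem exists_isIso [Nonempty X]
    (hfield : ∀ c : Γ(X, ⊤), c ≠ 0 → IsUnit c)
    {E L : X.Modules} [E.IsQuasicoherent] {r N : ℕ}
    (hL : ExtPow.IsExtPow r E L) (ψ : L ≅ Coh.structureModule X)
    (hE : ∀ x : X, ∃ (W : X.Opens) (b : Fin r → Γ(E, W)), x ∈ W ∧ IsBasisOn E W b)
    (τ : Fin N → (Coh.structureModule X ⟶ E))
    (hspan : ∀ (W : X.Opens), IsAffineOpen W → ∀ y : Γ(E, W), ∃ ρ : Fin N → Γ(X, W),
      y = ∑ j, ρ j • res E (le_top : W ≤ ⊤)
        ((τ j).app ⊤ (show Γ(Coh.structureModule X, ⊤) from (1 : Γ(X, ⊤))))) :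
    ∃ a : Fin r → Fin N, IsIso (Sigma.desc (fun i : Fin r => τ (a i))) := by
  classical
  obtain ⟨φ, hφ⟩ := hL
  obtain ⟨t, ht⟩ : ∃ t : Fin N → Γ(E, ⊤), t = fun j =>
      (τ j).app ⊤ (show Γ(Coh.structureModule X, ⊤) from (1 : Γ(X, ⊤))) := ⟨_, rfl⟩
  -- the wedges, their images in `L` and in `O`
  let w : (Fin r → Fin N) → ∀ U : X.affineOpens, ⋀[Γ(X, U.1)]^r (E.val.obj (op U.1)) :=
    fun a U => exteriorPower.ιMulti Γ(X, U.1) r
      (fun i => (show E.val.obj (op U.1) from res E (le_top : U.1 ≤ ⊤) (t (a i))))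
  let σ : (Fin r → Fin N) → ∀ U : X.affineOpens, Γ(L, U.1) := fun a U => (φ U).symm (w a U)
  let c : (Fin r → Fin N) → ∀ U : X.affineOpens, Γ(Coh.structureModule X, U.1) :=
    fun a U => ψ.hom.app U.1 (σ a U)
  have hσ : ∀ a (U V : X.affineOpens) (h : V.1 ≤ U.1), res L h (σ a U) = σ a V := by
    intro a U V h
    have h1 : res L h (σ a U) = (φ V).symm (exteriorPower.ιMulti Γ(X, V.1) r
        (fun i => (show E.val.obj (op V.1) from
          res E h (res E (le_top : U.1 ≤ ⊤) (t (a i)))))) :=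
      hφ U V h _
    have h2 : (fun i => (show E.val.obj (op V.1) from
          res E h (res E (le_top : U.1 ≤ ⊤) (t (a i))))) =
        (fun i => (show E.val.obj (op V.1) from res E (le_top : V.1 ≤ ⊤) (t (a i)))) := by
      funext i
      exact res_res E _ _ _
    rw [h2] at h1
    exact h1
  have hc : ∀ a (U V : X.affineOpens) (h : V.1 ≤ U.1),
      res (Coh.structureModule X) h (c a U) = c a V := by
    intro a U V h
    change res _ h (ψ.hom.app U.1 (σ a U)) = ψ.hom.app V.1 (σ a V)
    rw [← QcExt.app_res, hσ a U V h]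
  have hcov : (⊤ : X.Opens) ≤ ⨆ U : X.affineOpens, U.1 := by
    intro x _
    obtain ⟨_, ⟨W, hW, rfl⟩, hxW, -⟩ := X.isBasis_affineOpens.exists_subset_of_mem_open
      (Set.mem_univ x) isOpen_univ
    exact Opens.mem_iSup.2 ⟨⟨W, hW⟩, hxW⟩
  have hcompat : ∀ a (U U' : X.affineOpens),
      res (Coh.structureModule X) (inf_le_left : U.1 ⊓ U'.1 ≤ U.1) (c a U) =
        res (Coh.structureModule X) (inf_le_right : U.1 ⊓ U'.1 ≤ U'.1) (c a U') := by
    intro a U U'
    apply TwistSec.eq_of_locally
    intro x hx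
    obtain ⟨_, ⟨V, hV, rfl⟩, hxV, hVle⟩ := X.isBasis_affineOpens.exists_subset_of_mem_open
      (show x ∈ ((U.1 ⊓ U'.1 : X.Opens) : Set X) from hx) (U.1 ⊓ U'.1).isOpen
    have hVle' : V ≤ U.1 ⊓ U'.1 := hVle
    refine ⟨V, hVle', hxV, ?_⟩
    rw [res_res, res_res]
    exact (hc a U ⟨V, hV⟩ _).trans (hc a U' ⟨V, hV⟩ _).symm
  have hglue : ∀ a, ∃ g : Γ(Coh.structureModule X, ⊤), ∀ U : X.affineOpens,
      res (Coh.structureModule X) (le_top : U.1 ≤ ⊤) g = c a U := fun a =>
    TwistSec.glue_of_compatible (Coh.structureModule X) (fun U : X.affineOpens => U.1) ⊤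
      (fun _ => le_top) hcov (c a) (hcompat a)
  choose g hg using hglue
  -- some `g a` is nonzero
  have hex : ∃ a, (show Γ(X, ⊤) from g a) ≠ 0 := by
    by_contra hall
    push Not at hall
    obtain ⟨x⟩ := (inferInstance : Nonempty X)
    obtain ⟨W₀, b₀, hxW₀, hb₀⟩ := hE x
    obtain ⟨_, ⟨W, hW, rfl⟩, hxW, hWle⟩ := X.isBasis_affineOpens.exists_subset_of_mem_open
      (show x ∈ (W₀ : Set X) from hxW₀) W₀.isOpen
    have hWW₀ : W ≤ W₀ := hWle
    have hb : IsBasisOn E W (fun i => res E hWW₀ (b₀ i)) := hb₀.res hWW₀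
    have hw0 : ∀ a, w a ⟨W, hW⟩ = 0 := by
      intro a
      have h0 : g a = 0 := hall a
      have h1 : c a ⟨W, hW⟩ = 0 := by
        rw [← hg a ⟨W, hW⟩, h0, map_zero]
      have h2 : σ a ⟨W, hW⟩ = 0 := by
        apply FtLocal.app_injective_of_mono ψ.hom W
        rw [map_zero]
        exact h1
      have h3 : (φ ⟨W, hW⟩).symm (w a ⟨W, hW⟩) = (φ ⟨W, hW⟩).symm 0 := by
        rw [map_zero]
        exact h2
      exact (φ ⟨W, hW⟩).symm.injective h3
    have hsp : Submodule.span Γ(X, W) (Set.range (fun j : Fin N =>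
        (show E.val.obj (op W) from res E (le_top : W ≤ ⊤) (t j)))) = ⊤ := by
      rw [eq_top_iff]
      intro y _
      obtain ⟨ρ, hρ⟩ := hspan W hW y
      have hρ' : y = ∑ j, ρ j • (show E.val.obj (op W) from res E (le_top : W ≤ ⊤) (t j)) := by
        rw [ht]
        exact hρ
      rw [hρ']
      exact Submodule.sum_mem _ (fun j _ => Submodule.smul_mem _ _
        (Submodule.subset_span ⟨j, rfl⟩))
    have htop := exteriorPower.ιMulti_span_of_span Γ(X, W) r (E.val.obj (op W)) hsp
    have hsub : ∀ z : ⋀[Γ(X, W)]^r (E.val.obj (op W)), z = 0 := by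
      intro z
      have hz : z ∈ Submodule.span Γ(X, W) (exteriorPower.ιMulti Γ(X, W) r ''
          {a' | Set.range a' ⊆ Set.range (fun j : Fin N =>
            (show E.val.obj (op W) from res E (le_top : W ≤ ⊤) (t j)))}) := by
        rw [htop]
        trivial
      have hle : Submodule.span Γ(X, W) (exteriorPower.ιMulti Γ(X, W) r ''
          {a' | Set.range a' ⊆ Set.range (fun j : Fin N =>
            (show E.val.obj (op W) from res E (le_top : W ≤ ⊤) (t j)))}) ≤ ⊥ := by
        rw [Submodule.span_le]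
        rintro _ ⟨a', ha', rfl⟩
        have h5 : ∀ i, ∃ j, (show E.val.obj (op W) from res E (le_top : W ≤ ⊤) (t j)) = a' i :=
          fun i => ha' ⟨i, rfl⟩
        choose j hj using h5
        have h6 : a' = fun i => (show E.val.obj (op W) from
            res E (le_top : W ≤ ⊤) (t (j i))) := funext fun i => (hj i).symm
        rw [h6]
        exact (Submodule.mem_bot _).2 (hw0 j)
      exact (Submodule.mem_bot _).1 (hle hz)
    have hb2 := Groth.Agent.Helper2.ExtPowInv.bijective_smul_ιMulti (R := Γ(X, W))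
      (M := E.val.obj (op W)) (fun i => (show E.val.obj (op W) from res E hWW₀ (b₀ i)))
      hb.bijective_self
    haveI : Nonempty W := ⟨⟨x, hxW⟩⟩
    haveI : Nontrivial Γ(X, W) := X.component_nontrivial W
    have h10 : (1 : Γ(X, W)) = 0 := by
      apply hb2.1
      simp only
      rw [hsub ((1 : Γ(X, W)) • _), hsub ((0 : Γ(X, W)) • _)]
    exact one_ne_zero h10
  obtain ⟨a, ha⟩ := hex
  have hu : IsUnit (show Γ(X, ⊤) from g a) := hfield _ ha
  refine ⟨a, ?_⟩
  haveI : ∀ i : Fin r, ((fun _ : Fin r => Coh.structureModule X) i).IsQuasicoherent := fun _ =>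
    IdealModL.isQuasicoherent_structureModule
  haveI : (∐ (fun _ : Fin r => Coh.structureModule X)).IsQuasicoherent :=
    FinSigma.isQuasicoherent_sigma _
  apply QcIso.isIso_of_bijective_cover
  intro x
  obtain ⟨W₀, b₀, hxW₀, hb₀⟩ := hE x
  obtain ⟨_, ⟨W, hW, rfl⟩, hxW, hWle⟩ := X.isBasis_affineOpens.exists_subset_of_mem_open
    (show x ∈ (W₀ : Set X) from hxW₀) W₀.isOpen
  have hWW₀ : W ≤ W₀ := hWle
  have hb : IsBasisOn E W (fun i => res E hWW₀ (b₀ i)) := hb₀.res hWW₀
  refine ⟨W, hW, hxW, ?_⟩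
  -- the wedge generates
  have hcu : IsUnit (show Γ(X, W) from c a ⟨W, hW⟩) := by
    have h1 : (show Γ(X, W) from c a ⟨W, hW⟩) = resR (le_top : W ≤ ⊤) (show Γ(X, ⊤) from g a) :=
      (hg a ⟨W, hW⟩).symm
    rw [h1]
    exact hu.map (resR (le_top : W ≤ ⊤))
  have hgenw := bijective_smul_of_isUnit W (φ ⟨W, hW⟩) ψ (w a ⟨W, hW⟩) hcu
  have hbij := bijective_sum_of_bijective_smul_ιMulti (R := Γ(X, W)) (M := E.val.obj (op W))
    (fun i => (show E.val.obj (op W) from res E hWW₀ (b₀ i))) hb.bijective_self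
    (fun i => (show E.val.obj (op W) from res E (le_top : W ≤ ⊤) (t (a i)))) hgenw
  -- the morphism on sections
  have hform : (fun m => (Sigma.desc (fun i : Fin r => τ (a i))).app W m) =
      (fun ρ : Fin r → Γ(X, W) => ∑ i, ρ i •
        (show E.val.obj (op W) from res E (le_top : W ≤ ⊤) (t (a i)))) ∘
      (fun (m : Γ(∐ (fun _ : Fin r => Coh.structureModule X), W)) (i : Fin r) =>
        (FinSigma.q (fun _ : Fin r => Coh.structureModule X) i).app W m) := by
    funext m
    rw [FinSigma.desc_app]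
    refine Finset.sum_congr rfl fun i _ => ?_
    rw [ht]
    exact PFrame.app_eq_smul (τ (a i)) W _
  change Function.Bijective (fun m => (Sigma.desc (fun i : Fin r => τ (a i))).app W m)
  rw [hform]
  exact hbij.comp (coords_bijective r W)

/-- on an integral scheme universally closed over a field, a globally generated finite locally
free module with trivial determinant is trivial -/
theorem trivial_of_gg_of_det (k : Type u) [Field k] [IsIntegral X]
    (f : X ⟶ Spec (CommRingCat.of k)) [UniversallyClosed f] {E : X.Modules} {r : ℕ}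
    (hE : FlatMod.IsFinLocFreeOfRank r E) {N : ℕ} (φ : FlatMod.freeMod X N ⟶ E) [Epi φ]
    {L : X.Modules} (hL : ExtPow.IsExtPow r E L) (ψ : L ≅ Coh.structureModule X) :
    Nonempty (E ≅ FlatMod.freeMod X r) := by
  have hF : IsField Γ(X, ⊤) := isField_of_universallyClosed (K := k) f
  have hfield : ∀ c : Γ(X, ⊤), c ≠ 0 → IsUnit c := by
    intro c hc
    obtain ⟨b, hb⟩ := hF.mul_inv_cancel hc
    exact ⟨⟨c, b, hb, by rw [mul_comm]; exact hb⟩, rfl⟩
  haveI : E.IsQuasicoherent := Groth.Agent.Lead.FLF.isQuasicoherent_of_isFinLocFree E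
    (Groth.Agent.Lead.FLF.isFinLocFree_of_isFinLocFreeOfRank E r hE)
  have hE' : ∀ x : X, ∃ (W : X.Opens) (b : Fin r → Γ(E, W)), x ∈ W ∧ IsBasisOn E W b := by
    intro x
    obtain ⟨U, hxU, ⟨e⟩⟩ := hE x
    obtain ⟨b, hb⟩ := PFrame.exists_isFrame_of_iso E U e
    exact ⟨U, b, hxU, hb.isBasisOn⟩
  haveI : ∀ i : Fin N, ((fun _ : Fin N => Coh.structureModule X) i).IsQuasicoherent := fun _ =>
    IdealModL.isQuasicoherent_structureModule
  haveI : (∐ (fun _ : Fin N => Coh.structureModule X)).IsQuasicoherent :=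
    FinSigma.isQuasicoherent_sigma _
  let τ : Fin N → (Coh.structureModule X ⟶ E) := fun j =>
    Sigma.ι (fun _ : Fin N => Coh.structureModule X) j ≫ φ
  have hφ : φ = Sigma.desc τ := by
    apply Sigma.hom_ext
    intro j
    rw [Sigma.ι_desc]
  have hspan : ∀ (W : X.Opens), IsAffineOpen W → ∀ y : Γ(E, W), ∃ ρ : Fin N → Γ(X, W),
      y = ∑ j, ρ j • res E (le_top : W ≤ ⊤)
        ((τ j).app ⊤ (show Γ(Coh.structureModule X, ⊤) from (1 : Γ(X, ⊤)))) := by
    intro W hW y
    obtain ⟨m, hm⟩ := AffPushEpi.app_surjective_of_epi φ W hW y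
    refine ⟨fun j => (show Γ(X, W) from
      (FinSigma.q (fun _ : Fin N => Coh.structureModule X) j).app W m), ?_⟩
    have h1 : y = (Sigma.desc τ).app W m := by
      rw [← hm, ← hφ]
    rw [h1, FinSigma.desc_app]
    refine Finset.sum_congr rfl fun j _ => ?_
    exact PFrame.app_eq_smul (τ j) W _
  haveI : Nonempty X := IsIntegral.nonempty
  obtain ⟨a, ha⟩ := exists_isIso hfield hL ψ hE' τ hspan
  haveI := ha
  exact ⟨(asIso (Sigma.desc (fun i : Fin r => τ (a i)))).symm⟩

/-- S11489 -/
theorem main (k : Type u) [Field k] (n r : ℕ) (E : (CohB1.ProjSpace n k).Modules)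
    (hE : FlatMod.IsFinLocFreeOfRank r E)
    (hgen : ∃ (N : ℕ) (φ : FlatMod.freeMod (CohB1.ProjSpace n k) N ⟶ E), Epi φ)
    (hdet : ∃ L : (CohB1.ProjSpace n k).Modules, ExtPow.IsExtPow r E L ∧
      Nonempty (L ≅ Coh.structureModule (CohB1.ProjSpace n k))) :
    Nonempty (E ≅ FlatMod.freeMod (CohB1.ProjSpace n k) r) := by
  obtain ⟨N, φ, hφ⟩ := hgen
  obtain ⟨L, hL, ⟨ψ⟩⟩ := hdet
  haveI := hφ
  haveI : IsIntegral (CohB1.ProjSpace n k) := HypPn.isIntegral_projSpace n k
  haveI : IsProper (CohB1.ProjSpace.toSpec n k) := VA5.isProper_toSpec n k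
  exact trivial_of_gg_of_det k (CohB1.ProjSpace.toSpec n k) hE φ hL ψ

end Groth.Agent.Helper1.DetTriv
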