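import Mathlib
import Groth.Prelude.Def_Found
set_option autoImplicit false
universe u
namespace Groth.Agent.Helper1.Kap

variable {R : Type u} [CommRing R] {M : Type u} [AddCommGroup M] [Module R M]

/-- submodule-level countable generation -/
def CG (L : Submodule R M) : Prop := ∃ t : Set M, t.Countable ∧ Submodule.span R t = L

lemma CG.map {M' : Type u} [AddCommGroup M'] [Module R M'] (f : M →ₗ[R] M') {L : Submodule R M}
    (h : CG L) : CG (L.map f) := by
  obtain ⟨t, ht, rfl⟩ := h
  exact ⟨f '' t, ht.image f, by rw [Submodule.map_span]⟩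

lemma CG.biSup {ι : Type u} {N : ι → Submodule R M} {J : Set ι} (hJ : J.Countable)
    (h : ∀ i ∈ J, CG (N i)) : CG (⨆ i ∈ J, N i) := by
  choose t ht hspan using h
  refine ⟨⋃ i, ⋃ hi : i ∈ J, t i hi, ?_, ?_⟩
  · exact hJ.biUnion (fun i hi => ht i hi)
  · rw [Submodule.span_iUnion]
    refine iSup_congr (fun i => ?_)
    rw [Submodule.span_iUnion]
    refine iSup_congr (fun hi => hspan i hi)

lemma cg_of_module {L : Submodule R M} (h : CAlg.IsCountablyGenerated R L) : CG L := by
  obtain ⟨s, hs, hspan⟩ := h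
  refine ⟨L.subtype '' s, hs.image _, ?_⟩
  rw [← Submodule.map_span, hspan, Submodule.map_top, Submodule.range_subtype]

lemma module_of_surj {A B : Type u} [AddCommGroup A] [Module R A] [AddCommGroup B] [Module R B]
    (f : A →ₗ[R] B) (hf : Function.Surjective f) (h : CAlg.IsCountablyGenerated R A) :
    CAlg.IsCountablyGenerated R B := by
  obtain ⟨s, hs, hspan⟩ := h
  refine ⟨f '' s, hs.image _, ?_⟩
  rw [← Submodule.map_span, hspan, Submodule.map_top, LinearMap.range_eq_top.mpr hf]

lemma module_of_cg {L : Submodule R M} (h : CG L) : CAlg.IsCountablyGenerated R L := by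
  obtain ⟨t, ht, rfl⟩ := h
  refine ⟨(Submodule.span R t).subtype ⁻¹' t, ?_, ?_⟩
  · exact ht.preimage (Submodule.subtype_injective _)
  · apply Submodule.map_injective_of_injective (Submodule.subtype_injective (Submodule.span R t))
    rw [Submodule.map_span, Submodule.map_top, Submodule.range_subtype,
      Set.image_preimage_eq_inter_range]
    congr 1
    rw [Set.inter_eq_left]
    intro x hx
    exact ⟨⟨x, Submodule.subset_span hx⟩, rfl⟩

section Main
variable {ι : Type u} (N : ι → Submodule R M)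

/-- partial sums -/
def MJ (J : Set ι) : Submodule R M := ⨆ i ∈ J, N i

lemma MJ_mono {J J' : Set ι} (h : J ⊆ J') : MJ N J ≤ MJ N J' := biSup_mono h

lemma MJ_union (J J' : Set ι) : MJ N (J ∪ J') = MJ N J ⊔ MJ N J' := iSup_union

lemma le_MJ {J : Set ι} {i : ι} (hi : i ∈ J) : N i ≤ MJ N J := le_biSup N hi

variable (p : M →ₗ[R] M)

/-- `J` is closed when `p` preserves the partial sum -/
def Closed (J : Set ι) : Prop := ∀ i ∈ J, (N i).map p ≤ MJ N J

variable {N p}

lemma Closed.map_le {J : Set ι} (hJ : Closed N p J) : (MJ N J).map p ≤ MJ N J := by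
  rw [MJ, Submodule.map_iSup]
  refine iSup_le fun i => ?_
  rw [Submodule.map_iSup]
  exact iSup_le fun hi => hJ i hi

variable {P : Submodule R M} (hpP : ∀ x, p x ∈ P) (hpid : ∀ x ∈ P, p x = x)

include hpP hpid in
lemma Closed.map_eq {J : Set ι} (hJ : Closed N p J) : (MJ N J).map p = P ⊓ MJ N J := by
  apply le_antisymm
  · refine le_inf ?_ hJ.map_le
    rintro _ ⟨x, -, rfl⟩
    exact hpP x
  · rintro x ⟨hxP, hxJ⟩
    exact ⟨x, hxJ, hpid x hxP⟩

variable (hind : iSupIndep N)

include hpP hpid hind in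
lemma exists_compl {J J' : Set ι} (hJ : Closed N p J) (hJ' : Closed N p J') (hJJ' : J ⊆ J')
    (hc : (J' \ J).Countable) (hcg : ∀ i, CG (N i)) (htop : ⨆ i, N i = ⊤) :
    ∃ C : Submodule R M, CG C ∧ Disjoint (P ⊓ MJ N J) C ∧ (P ⊓ MJ N J) ⊔ C = P ⊓ MJ N J' := by
  have hcompl : IsCompl (MJ N J) (MJ N Jᶜ) := by
    refine ⟨hind.disjoint_biSup_biSup disjoint_compl_right, ?_⟩
    rw [codisjoint_iff, ← MJ_union, Set.union_compl_self, MJ, ← htop]
    simp
  let e : M →ₗ[R] M := (MJ N J).projection (MJ N Jᶜ) hcompl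
  let r : M →ₗ[R] M := p ∘ₗ e
  have r_mem : ∀ x, r x ∈ P ⊓ MJ N J := by
    intro x
    rw [← hJ.map_eq hpP hpid]
    exact ⟨e x, Submodule.projection_apply_mem hcompl x, rfl⟩
  have r_id : ∀ x ∈ P ⊓ MJ N J, r x = x := by
    intro x hx
    simp only [r, e, LinearMap.comp_apply]
    rw [Submodule.projection_apply_of_mem_left hcompl hx.2, hpid x hx.1]
  have hle : P ⊓ MJ N J ≤ P ⊓ MJ N J' := inf_le_inf_left _ (MJ_mono N hJJ')
  let g : M →ₗ[R] M := (LinearMap.id - r) ∘ₗ p
  have hgJ : ∀ m ∈ MJ N J, g m = 0 := by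
    intro m hm
    have : p m ∈ P ⊓ MJ N J := by
      rw [← hJ.map_eq hpP hpid]
      exact ⟨m, hm, rfl⟩
    simp only [g, LinearMap.comp_apply, LinearMap.sub_apply, LinearMap.id_apply, r_id _ this,
      sub_self]
  have hD : MJ N (J' \ J) ≤ MJ N Jᶜ := MJ_mono N (fun i hi => hi.2)
  refine ⟨(MJ N (J' \ J)).map g, (CG.biSup hc (fun i _ => hcg i)).map g, ?_, ?_⟩
  · rw [Submodule.disjoint_def]
    rintro y hy ⟨m, hm, rfl⟩
    have h1 : r (g m) = g m := r_id _ hy
    have h2 : r (g m) = 0 := by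
      simp only [g, LinearMap.comp_apply, LinearMap.sub_apply, LinearMap.id_apply, map_sub]
      rw [r_id _ (r_mem _), sub_self]
    rw [← h1, h2]
  · apply le_antisymm
    · refine sup_le hle ?_
      rintro _ ⟨m, hm, rfl⟩
      have hpm : p m ∈ P ⊓ MJ N J' := by
        rw [← hJ'.map_eq hpP hpid]
        exact ⟨m, MJ_mono N Set.sdiff_subset hm, rfl⟩
      simp only [g, LinearMap.comp_apply, LinearMap.sub_apply, LinearMap.id_apply]
      exact Submodule.sub_mem _ hpm (hle (r_mem _))
    · intro x hx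
      rw [← hJ'.map_eq hpP hpid] at hx
      obtain ⟨m, hm, rfl⟩ := hx
      have hJ'eq : J' = J ∪ (J' \ J) := (Set.union_sdiff_cancel hJJ').symm
      rw [hJ'eq, MJ_union] at hm
      obtain ⟨m1, hm1, m2, hm2, rfl⟩ := Submodule.mem_sup.mp hm
      have : p (m1 + m2) = r (p (m1 + m2)) + g m2 := by
        have h3 : g (m1 + m2) = g m2 := by rw [map_add, hgJ m1 hm1, zero_add]
        rw [← h3]
        simp only [g, LinearMap.comp_apply, LinearMap.sub_apply, LinearMap.id_apply]
        abel
      rw [this]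
      exact Submodule.add_mem_sup (r_mem _) ⟨m2, hm2, rfl⟩

section Closure
variable (supp : ι → Set ι) (C : Set ι)

/-- steps of the closure under `supp` -/
def clStep : ℕ → Set ι
  | 0 => C
  | n + 1 => clStep n ∪ ⋃ i ∈ clStep n, supp i

/-- closure of `C` under `supp` -/
def cl : Set ι := ⋃ n, clStep supp C n

lemma subset_cl : C ⊆ cl supp C := fun x hx => Set.mem_iUnion.mpr ⟨0, hx⟩

lemma clStep_countable (hs : ∀ i, (supp i).Countable) (hC : C.Countable) (n : ℕ) :
    (clStep supp C n).Countable := by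
  induction n with
  | zero => exact hC
  | succ n ih => exact ih.union (ih.biUnion fun i _ => hs i)

lemma cl_countable (hs : ∀ i, (supp i).Countable) (hC : C.Countable) : (cl supp C).Countable :=
  Set.countable_iUnion (clStep_countable supp C hs hC)

lemma supp_subset_cl {i : ι} (hi : i ∈ cl supp C) : supp i ⊆ cl supp C := by
  obtain ⟨n, hn⟩ := Set.mem_iUnion.mp hi
  intro j hj
  refine Set.mem_iUnion.mpr ⟨n + 1, Or.inr ?_⟩
  exact Set.mem_biUnion hn hj

end Closure

lemma exists_supp (hcg : ∀ i, CG (N i)) (htop : ⨆ i, N i = ⊤) :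
    ∃ supp : ι → Set ι, (∀ i, (supp i).Countable) ∧ ∀ i, (N i).map p ≤ MJ N (supp i) := by
  classical
  have hF : ∀ x : M, ∃ F : Finset ι, x ∈ ⨆ j ∈ F, N j := by
    intro x
    have hx : x ∈ ⨆ i, N i := by rw [htop]; trivial
    exact Submodule.mem_iSup_iff_exists_finset.mp hx
  choose F hF using hF
  choose t ht hspan using hcg
  refine ⟨fun i => ⋃ x ∈ t i, (F (p x) : Set ι), fun i => ?_, fun i => ?_⟩
  · exact (ht i).biUnion fun x _ => (F (p x)).countable_toSet
  · rw [← hspan i, Submodule.map_span, Submodule.span_le]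
    rintro _ ⟨x, hx, rfl⟩
    have h1 : (⨆ j ∈ F (p x), N j) ≤ MJ N (⋃ x ∈ t i, (F (p x) : Set ι)) := by
      refine iSup₂_le fun j hj => ?_
      exact le_MJ N (Set.mem_biUnion hx (Finset.mem_coe.mpr hj))
    exact h1 (hF (p x))

lemma Closed.union_cl {J : Set ι} (hJ : Closed N p J) (supp : ι → Set ι)
    (hsupp : ∀ i, (N i).map p ≤ MJ N (supp i)) (C : Set ι) : Closed N p (J ∪ cl supp C) := by
  rintro i (hi | hi)
  · exact (hJ i hi).trans (MJ_mono N Set.subset_union_left)
  · exact (hsupp i).trans (MJ_mono N ((supp_subset_cl supp C hi).trans Set.subset_union_right))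

/-- the set of partial decompositions -/
def good (N : ι → Submodule R M) (p : M →ₗ[R] M) (P : Submodule R M) :
    Set (Set ι × Set (Submodule R M)) :=
  {x | Closed N p x.1 ∧ (∀ l ∈ x.2, CG l) ∧ sSupIndep x.2 ∧ sSup x.2 = P ⊓ MJ N x.1}

lemma MJ_sUnion (c : Set (Set ι)) : MJ N (⋃₀ c) = sSup ((fun J => MJ N J) '' c) := by
  rw [sSup_image]
  apply le_antisymm
  · refine iSup₂_le fun i hi => ?_
    obtain ⟨J, hJ, hiJ⟩ := hi
    exact (le_MJ N hiJ).trans (le_iSup₂_of_le J hJ le_rfl)
  · exact iSup₂_le fun J hJ => MJ_mono N (Set.subset_sUnion_of_mem hJ)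

lemma good_chain (c : Set (Set ι × Set (Submodule R M))) (hc : c ⊆ good N p P)
    (hchain : IsChain (· ≤ ·) c) : ∃ ub ∈ good N p P, ∀ z ∈ c, z ≤ ub := by
  refine ⟨(⋃₀ (Prod.fst '' c), ⋃₀ (Prod.snd '' c)), ⟨?_, ?_, ?_, ?_⟩, ?_⟩
  · rintro i ⟨_, ⟨x, hx, rfl⟩, hi⟩
    exact ((hc hx).1 i hi).trans (MJ_mono N (Set.subset_sUnion_of_mem ⟨x, hx, rfl⟩))
  · rintro l ⟨_, ⟨x, hx, rfl⟩, hl⟩
    exact (hc hx).2.1 l hl
  · apply iSupIndep_sUnion_of_directed
    · exact (hchain.image_of_map_rel (· ≤ ·) (· ⊆ ·) Prod.snd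
        (fun (x y : Set ι × Set (Submodule R M)) (hxy : x ≤ y) => hxy.2)).directedOn
    · rintro _ ⟨x, hx, rfl⟩
      exact (hc hx).2.2.1
  · change sSup (⋃₀ (Prod.snd '' c)) = P ⊓ MJ N (⋃₀ (Prod.fst '' c))
    rw [MJ_sUnion, sSup_sUnion, DirectedOn.inf_sSup_eq]
    · rw [iSup_image, iSup_image, iSup_image]
      refine iSup_congr fun x => iSup_congr fun hx => ?_
      exact (hc hx).2.2.2
    · have h1 : IsChain (· ≤ ·) ((fun J => MJ N J) '' (Prod.fst '' c)) := by
        apply IsChain.image_of_map_rel (· ⊆ ·) (· ≤ ·) _ (fun J J' h => MJ_mono N h)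
        exact hchain.image_of_map_rel (· ≤ ·) (· ⊆ ·) Prod.fst
          (fun (x y : Set ι × Set (Submodule R M)) (hxy : x ≤ y) => hxy.1)
      exact h1.directedOn
  · intro z hz
    exact ⟨Set.subset_sUnion_of_mem ⟨z, hz, rfl⟩, Set.subset_sUnion_of_mem ⟨z, hz, rfl⟩⟩

lemma sSupIndep_insert {L : Set (Submodule R M)} (hL : sSupIndep L) {C : Submodule R M}
    (hC : Disjoint (sSup L) C) : sSupIndep (insert C L) := by
  intro a ha
  by_cases hac : a = C
  · subst hac
    refine hC.symm.mono_right (sSup_le_sSup ?_)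
    rintro b ⟨hb, hba⟩
    rcases hb with rfl | hb
    · exact absurd rfl hba
    · exact hb
  · have haL : a ∈ L := by
      rcases ha with rfl | ha
      · exact absurd rfl hac
      · exact ha
    have h1 : Disjoint a (sSup (L \ {a})) := hL haL
    have h2 : Disjoint (a ⊔ sSup (L \ {a})) C := by
      refine hC.mono_left (sup_le (le_sSup haL) (sSup_le_sSup Set.sdiff_subset))
    have h3 := h1.disjoint_sup_right_of_disjoint_sup_left h2
    refine h3.mono_right ?_
    apply sSup_le
    rintro b ⟨hb, hba⟩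
    rcases hb with rfl | hb
    · exact le_sup_right
    · exact le_sup_of_le_left (le_sSup ⟨hb, hba⟩)

include hpP hpid hind in
theorem exists_decomp (hcg : ∀ i, CG (N i)) (htop : ⨆ i, N i = ⊤) :
    ∃ L : Set (Submodule R M), (∀ l ∈ L, CG l) ∧ sSupIndep L ∧ sSup L = P := by
  obtain ⟨supp, hsc, hsupp⟩ := exists_supp (p := p) hcg htop
  obtain ⟨⟨J, L⟩, hm⟩ := zorn_le₀ (good N p P) (fun c hc hchain => good_chain c hc hchain)
  obtain ⟨hJ, hLcg, hLind, hLsup⟩ := hm.prop
  have hJuniv : J = Set.univ := by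
    by_contra hne
    obtain ⟨i, hi⟩ : ∃ i, i ∉ J := by
      by_contra h
      push Not at h
      exact hne (Set.eq_univ_of_forall h)
    let J' := J ∪ cl supp {i}
    have hJ' : Closed N p J' := hJ.union_cl supp hsupp {i}
    have hcount : (J' \ J).Countable :=
      (cl_countable supp {i} hsc (Set.countable_singleton i)).mono (by
        rintro j ⟨hj | hj, hjJ⟩
        · exact absurd hj hjJ
        · exact hj)
    obtain ⟨C, hCcg, hCdis, hCsup⟩ := exists_compl hpP hpid hind hJ hJ' Set.subset_union_left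
      hcount hcg htop
    have hgood : (J', insert C L) ∈ good N p P := by
      refine ⟨hJ', ?_, ?_, ?_⟩
      · rintro l (rfl | hl)
        · exact hCcg
        · exact hLcg l hl
      · exact sSupIndep_insert hLind (by change Disjoint (sSup L) C; rw [hLsup]; exact hCdis)
      · change sSup (insert C L) = P ⊓ MJ N J'
        rw [sSup_insert, sup_comm]
        change sSup L ⊔ C = _
        rw [hLsup]
        exact hCsup
    have hle : ((J, L) : Set ι × Set (Submodule R M)) ≤ (J', insert C L) :=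
      ⟨Set.subset_union_left, Set.subset_insert _ _⟩
    have := hm.le_of_ge hgood hle
    exact hi (this.1 (Set.mem_union_right _ (subset_cl supp {i} rfl)))
  refine ⟨L, hLcg, hLind, ?_⟩
  change sSup L = P ⊓ MJ N J at hLsup
  rw [hLsup, hJuniv, MJ]
  simp [htop]

end Main

section Final
open scoped Classical

theorem internal_of_set (P : Submodule R M) (L : Set (Submodule R M)) (hLcg : ∀ l ∈ L, CG l)
    (hLind : sSupIndep L) (hLsup : sSup L = P) :
    ∃ (κ : Type u) (Lf : κ → Submodule R P), DirectSum.IsInternal Lf ∧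
      ∀ k, CAlg.IsCountablyGenerated R (Lf k) := by
  have hle : ∀ k : L, k.1 ≤ P := fun k => (le_sSup k.2).trans_eq hLsup
  have hmap : ∀ k : L, (Submodule.comap P.subtype k.1).map P.subtype = k.1 := by
    intro k
    rw [Submodule.map_comap_subtype, inf_eq_right.mpr (hle k)]
  have hind : iSupIndep (fun k : L => k.1) := (sSupIndep_iff L).mp hLind
  have hI : iSupIndep (fun k : L => Submodule.comap P.subtype k.1) ∧
      iSup (fun k : L => Submodule.comap P.subtype k.1) = ⊤ := by
    constructor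
    · intro k
      rw [Submodule.disjoint_def]
      intro x hxk hx
      have h1 : (x : M) ∈ k.1 := hxk
      have h2 : (x : M) ∈ ⨆ j, ⨆ (_ : j ≠ k), j.1 := by
        have h3 := Submodule.mem_map_of_mem (f := P.subtype) hx
        rw [Submodule.map_iSup] at h3
        simp_rw [Submodule.map_iSup, hmap] at h3
        exact h3
      have h4 := Submodule.disjoint_def.mp (hind k) x h1 h2
      exact Subtype.ext h4
    · apply Submodule.map_injective_of_injective P.subtype_injective
      rw [Submodule.map_iSup, Submodule.map_top, Submodule.range_subtype]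
      simp_rw [hmap]
      rw [← hLsup, sSup_eq_iSup']
  have h5 := (DirectSum.isInternal_submodule_iff_iSupIndep_and_iSup_eq_top _).mpr hI
  refine ⟨L, fun k => Submodule.comap P.subtype k.1, ?_, ?_⟩
  · convert h5 using 2
    rfl
  intro k
  exact module_of_surj (Submodule.comapSubtypeEquivOfLe (hle k)).symm.toLinearMap
    (Submodule.comapSubtypeEquivOfLe (hle k)).symm.surjective (module_of_cg (hLcg k.1 k.2))

theorem S0583 (R : Type u) [CommRing R] (M : Type u)
    [AddCommGroup M] [Module R M] (ι : Type u) (N : ι → Submodule R M) (hN : DirectSum.IsInternal N)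
    (hc : ∀ i, CAlg.IsCountablyGenerated R (N i)) (P Q : Submodule R M) (hPQ : IsCompl P Q) :
    ∃ (κ : Type u) (L : κ → Submodule R P), DirectSum.IsInternal L ∧
      ∀ k, CAlg.IsCountablyGenerated R (L k) := by
  obtain ⟨L, hLcg, hLind, hLsup⟩ := exists_decomp (N := N) (p := P.projection Q hPQ) (P := P)
    (fun x => Submodule.projection_apply_mem hPQ x)
    (fun x hx => Submodule.projection_apply_of_mem_left hPQ hx) hN.submodule_iSupIndep
    (fun i => cg_of_module (hc i)) hN.submodule_iSup_eq_top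
  exact internal_of_set P L hLcg hLind hLsup

end Final

end Groth.Agent.Helper1.Kap
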