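import Mathlib
import Groth.Prelude.Def_Found
import Groth.Agent.Lib.Helper1.Kap

/-!
# Direct sum dévissages (Kaplansky), Stacks 058U / 058V
-/

set_option autoImplicit false
universe u
namespace Groth.Agent.Helper1.Dev

variable {R : Type u} [CommRing R] {M : Type u} [AddCommGroup M] [Module R M]

/-- If `A ⊓ C = ⊥` and `A ⊔ C = B` then `C ≃ B / A`. -/
noncomputable def quotEquiv (A C B : Submodule R M) (h1 : A ⊓ C = ⊥) (h2 : A ⊔ C = B) :
    C ≃ₗ[R] (↥B ⧸ Submodule.comap B.subtype A) := by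
  have hCB : C ≤ B := h2 ▸ le_sup_right
  refine LinearEquiv.ofBijective ((Submodule.mkQ _).comp (Submodule.inclusion hCB)) ⟨?_, ?_⟩
  · rw [← LinearMap.ker_eq_bot, LinearMap.ker_eq_bot']
    intro c hc
    rw [LinearMap.comp_apply, Submodule.mkQ_apply, Submodule.Quotient.mk_eq_zero,
      Submodule.mem_comap] at hc
    have h3 : (c : M) ∈ A ⊓ C := ⟨hc, c.2⟩
    rw [h1] at h3
    exact Subtype.ext ((Submodule.mem_bot R).mp h3)
  · intro q
    obtain ⟨⟨m, hm⟩, rfl⟩ := Submodule.mkQ_surjective _ q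
    obtain ⟨a, ha, c, hc, hac⟩ := Submodule.mem_sup.mp (h2 ▸ hm : m ∈ A ⊔ C)
    refine ⟨⟨c, hc⟩, ?_⟩
    rw [LinearMap.comp_apply, Submodule.mkQ_apply, Submodule.mkQ_apply, Submodule.Quotient.eq,
      Submodule.mem_comap]
    have h4 : B.subtype (Submodule.inclusion hCB ⟨c, hc⟩ - ⟨m, hm⟩) = -a := by
      simp only [map_sub, Submodule.subtype_apply, Submodule.coe_inclusion]
      rw [← hac]; abel
    rw [h4]
    exact A.neg_mem ha

section Main

variable {S : Type u} [LinearOrder S] [WellFoundedLT S] (Mf : S → Submodule R M)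

/-- index type of successor steps -/
abbrev Step (S : Type u) [LinearOrder S] := {p : S × S // p.1 ⋖ p.2}

variable (hmono : Monotone Mf)
  (hlim : ∀ s : S, Order.IsSuccPrelimit s → Mf s = ⨆ t : {t : S // t < s}, Mf t.1)
  (C : Step S → Submodule R M)
  (hC1 : ∀ p : Step S, Mf p.1.1 ⊓ C p = ⊥) (hC2 : ∀ p : Step S, Mf p.1.1 ⊔ C p = Mf p.1.2)

include hlim hC2 in
theorem Mf_le (s : S) : Mf s ≤ ⨆ p : Step S, C p := by
  refine WellFoundedLT.induction (motive := fun s => Mf s ≤ ⨆ p : Step S, C p) s ?_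
  intro s ih
  by_cases hs : Order.IsSuccPrelimit s
  · rw [hlim s hs]
    exact iSup_le fun t => ih t.1 t.2
  · obtain ⟨b, hb⟩ := Order.not_isSuccPrelimit_iff.mp hs
    rw [← hC2 ⟨(b, s), hb⟩]
    exact sup_le (ih b hb.lt) (le_iSup C ⟨(b, s), hb⟩)

omit [WellFoundedLT S] in
include hmono hC1 hC2 in
theorem indep : iSupIndep C := by
  classical
  rw [iSupIndep_iff_finsetSum_eq_zero_imp_eq_zero]
  intro F
  induction F using Finset.induction_on_max_value (fun p : Step S => p.1.2) with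
  | empty =>
    intro v _ _ i hi
    exact absurd hi (Finset.notMem_empty i)
  | insert a F haF hmax ih =>
    intro v hv hsum i hi
    have hothers : ∀ x ∈ F, v x ∈ Mf a.1.1 := by
      intro x hx
      have hle : x.1.2 ≤ a.1.2 := hmax x hx
      have hne : x.1.2 ≠ a.1.2 := by
        intro h
        have hx2 : x.1.1 ⋖ a.1.2 := h ▸ x.2
        have h1 : x.1.1 = a.1.1 := hx2.unique_left a.2
        have h5 : x = a := Subtype.ext (Prod.ext h1 h)
        exact haF (h5 ▸ hx)
      have hlt : x.1.2 < a.1.2 := lt_of_le_of_ne hle hne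
      have hle' : x.1.2 ≤ a.1.1 := by
        by_contra hcon
        push Not at hcon
        exact a.2.2 hcon hlt
      have h6 : C x ≤ Mf x.1.2 := by rw [← hC2 x]; exact le_sup_right
      exact hmono hle' (h6 (hv x (Finset.mem_insert_of_mem hx)))
    have hva : v a = 0 := by
      rw [Finset.sum_insert haF] at hsum
      have h1 : v a = - ∑ x ∈ F, v x := eq_neg_of_add_eq_zero_left hsum
      have h2 : v a ∈ Mf a.1.1 := by
        rw [h1]; exact (Mf a.1.1).neg_mem (Submodule.sum_mem _ hothers)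
      have h3 : v a ∈ Mf a.1.1 ⊓ C a := ⟨h2, hv a (Finset.mem_insert_self a F)⟩
      rw [hC1 a] at h3
      exact (Submodule.mem_bot R).mp h3
    rcases Finset.mem_insert.mp hi with rfl | hiF
    · exact hva
    · apply ih v (fun j hj => hv j (Finset.mem_insert_of_mem hj)) _ i hiF
      rw [Finset.sum_insert haF, hva, zero_add] at hsum
      exact hsum

include hlim hC2 in
theorem iSup_C (htop : (⨆ s, Mf s) = ⊤) : ⨆ p : Step S, C p = ⊤ := by
  rw [eq_top_iff, ← htop]
  exact iSup_le (Mf_le Mf hlim C hC2)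

end Main

theorem S6389 (R : Type u) [CommRing R] (M : Type u)
    [AddCommGroup M] [Module R M] (S : Type u) [LinearOrder S] [WellFoundedLT S]
    (Mf : S → Submodule R M) (hmono : Monotone Mf) :
    (∀ s : S, Order.IsSuccPrelimit s → Mf s = ⨆ t : {t : S // t < s}, Mf t.1) →
      (⨆ s, Mf s) = ⊤ →
      (∀ s t : S, s ⋖ t → ∃ C : Submodule R M, Mf s ⊓ C = ⊥ ∧ Mf s ⊔ C = Mf t) →
      Nonempty (M ≃ₗ[R] DirectSum {p : S × S // p.1 ⋖ p.2}
        fun p => ↥(Mf p.1.2) ⧸ Submodule.comap (Mf p.1.2).subtype (Mf p.1.1)) := by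
  classical
  intro hlim htop h3
  choose C hC1 hC2 using fun p : Step S => h3 p.1.1 p.1.2 p.2
  have hind := indep Mf hmono C hC1 hC2
  have hsup := iSup_C Mf hlim C hC2 htop
  have hint := DirectSum.isInternal_submodule_of_iSupIndep_of_iSup_eq_top hind hsup
  let e1 : (DirectSum (Step S) fun p => C p) ≃ₗ[R] M :=
    LinearEquiv.ofBijective (DirectSum.coeLinearMap C) hint
  let e2 : ∀ p : Step S, C p ≃ₗ[R]
      (↥(Mf p.1.2) ⧸ Submodule.comap (Mf p.1.2).subtype (Mf p.1.1)) :=
    fun p => quotEquiv (Mf p.1.1) (C p) (Mf p.1.2) (hC1 p) (hC2 p)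
  exact ⟨e1.symm.trans (DFinsupp.mapRange.linearEquiv e2)⟩

open scoped Classical in
theorem S6390 (R : Type u) [CommRing R] (M : Type u)
    [AddCommGroup M] [Module R M] :
    (∃ (ι : Type u) (N : ι → Submodule R M), DirectSum.IsInternal N ∧
        ∀ i, CAlg.IsCountablyGenerated R (N i)) ↔
      ∃ (S : Type u) (_ : LinearOrder S) (_ : WellFoundedLT S) (Mf : S → Submodule R M),
        Monotone Mf ∧
        (∀ s : S, Order.IsSuccPrelimit s → Mf s = ⨆ t : {t : S // t < s}, Mf t.1) ∧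
        (⨆ s, Mf s) = ⊤ ∧
        (∀ s t : S, s ⋖ t → ∃ C : Submodule R M, Mf s ⊓ C = ⊥ ∧ Mf s ⊔ C = Mf t ∧
          CAlg.IsCountablyGenerated R (↥(Mf t) ⧸ Submodule.comap (Mf t).subtype (Mf s))) := by
  constructor
  · rintro ⟨ι, N, hint, hcg⟩
    have hind : iSupIndep N := hint.submodule_iSupIndep
    have hNtop : (⨆ i, N i) = ⊤ := hint.submodule_iSup_eq_top
    obtain ⟨lo, wf⟩ := exists_wellFoundedLT ι
    have hmono : Monotone (fun s : WithTop ι => ⨆ i : ι, ⨆ (_ : (i : WithTop ι) < s), N i) := by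
      intro s s' hss'
      exact iSup₂_le fun i hi => le_iSup₂_of_le i (lt_of_lt_of_le hi hss') le_rfl
    refine ⟨WithTop ι, inferInstance, inferInstance,
      fun s => ⨆ i : ι, ⨆ (_ : (i : WithTop ι) < s), N i, hmono, ?_, ?_, ?_⟩
    · intro s hs
      apply le_antisymm
      · refine iSup₂_le fun i hi => ?_
        obtain ⟨t, ht1, ht2⟩ := hs.mid hi
        exact le_iSup_of_le (⟨t, ht2⟩ : {t : WithTop ι // t < s})
          (le_iSup₂_of_le (f := fun (i : ι) (_ : (i : WithTop ι) < t) => N i) i ht1 le_rfl)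
      · exact iSup_le fun t => hmono t.2.le
    · rw [eq_top_iff, ← hNtop]
      exact iSup_le fun i => le_iSup_of_le (⊤ : WithTop ι)
        (le_iSup₂_of_le (f := fun (i : ι) (_ : (i : WithTop ι) < ⊤) => N i) i
          (WithTop.coe_lt_top i) le_rfl)
    · intro s t hst
      have hs : s ≠ ⊤ := ne_top_of_lt hst.lt
      obtain ⟨i₀, rfl⟩ := WithTop.ne_top_iff_exists.mp hs
      have hA : (⨆ i : ι, ⨆ (_ : (i : WithTop ι) < (i₀ : WithTop ι)), N i) ⊓ N i₀ = ⊥ := by
        have hle : (⨆ i : ι, ⨆ (_ : (i : WithTop ι) < (i₀ : WithTop ι)), N i) ≤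
            ⨆ j : ι, ⨆ (_ : j ≠ i₀), N j :=
          iSup₂_le fun j hj => le_iSup₂_of_le (f := fun (j : ι) (_ : j ≠ i₀) => N j) j
            (ne_of_lt (WithTop.coe_lt_coe.mp hj)) le_rfl
        exact disjoint_iff.mp ((hind i₀).mono_right hle).symm
      have hB : (⨆ i : ι, ⨆ (_ : (i : WithTop ι) < (i₀ : WithTop ι)), N i) ⊔ N i₀ =
          ⨆ i : ι, ⨆ (_ : (i : WithTop ι) < t), N i := by
        apply le_antisymm
        · exact sup_le (hmono hst.le)
            (le_iSup₂_of_le (f := fun (i : ι) (_ : (i : WithTop ι) < t) => N i) i₀ hst.lt le_rfl)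
        · refine iSup₂_le fun j hj => ?_
          by_cases hj0 : j = i₀
          · rw [hj0]; exact le_sup_right
          · have hle : (j : WithTop ι) ≤ (i₀ : WithTop ι) := by
              by_contra hcon
              push Not at hcon
              exact hst.2 hcon hj
            have hlt : (j : WithTop ι) < (i₀ : WithTop ι) :=
              lt_of_le_of_ne hle (fun h => hj0 (WithTop.coe_injective h))
            exact le_trans (le_iSup₂_of_le
              (f := fun (i : ι) (_ : (i : WithTop ι) < (i₀ : WithTop ι)) => N i) j hlt le_rfl)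
              le_sup_left
      refine ⟨N i₀, hA, hB, ?_⟩
      let e := quotEquiv _ (N i₀) _ hA hB
      exact Kap.module_of_surj e.toLinearMap e.surjective (hcg i₀)
  · rintro ⟨S, lo, wf, Mf, hmono, hlim, htop, h3⟩
    choose C hC1 hC2 hC3 using fun p : Step S => h3 p.1.1 p.1.2 p.2
    have hind := indep Mf hmono C hC1 hC2
    have hsup := iSup_C Mf hlim C hC2 htop
    refine ⟨Step S, C, ?_, fun p => ?_⟩
    · have h5 := (DirectSum.isInternal_submodule_iff_iSupIndep_and_iSup_eq_top _).mpr ⟨hind, hsup⟩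
      convert h5 using 2
    · let e := quotEquiv (Mf p.1.1) (C p) (Mf p.1.2) (hC1 p) (hC2 p)
      exact Kap.module_of_surj e.symm.toLinearMap e.symm.surjective (hC3 p)

end Groth.Agent.Helper1.Dev
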