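import Mathlib
import Groth.Agent.Lib.Helper1.SecOps

set_option autoImplicit false
universe u
open CategoryTheory CategoryTheory.Limits AlgebraicGeometry TopologicalSpace Opposite

namespace Groth.Agent.Helper1.SecOps

open Groth.Agent.Helper1.QcCech Groth.Agent.Helper1.SubSh Groth.Agent.Helper1.LGen
open Groth.Agent.Helper1.TmulLib Groth.Agent.Helper1 Groth.Agent.Helper1.TwistSec
open Groth.Agent.Helper1.TensGen Groth.Agent.Helper1.TwForm Groth.Agent.Helper1.AmpleLib

/-- a scheme covered by affine opens whose inclusions are affine morphisms has affine diagonal -/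
theorem isAffineHom_diagonal_of_cover (X : Scheme.{u})
    (h : ∀ x : X, ∃ U : X.Opens, x ∈ U ∧ IsAffineOpen U ∧ IsAffineHom U.ι) :
    IsAffineHom (pullback.diagonal (terminal.from X)) := by
  choose U hxU hU hUι using h
  have hcov : IsOpenCover U := by
    rw [IsOpenCover, eq_top_iff]
    intro x _
    exact Opens.mem_iSup.2 ⟨x, hxU x⟩
  let 𝒰 := X.openCoverOfIsOpenCover U hcov
  have : ∀ i, IsAffine (𝒰.X i) := fun i => hU i
  change MorphismProperty.diagonal @IsAffineHom (terminal.from X)
  rw [← HasAffineProperty.diagonal_iff (@IsAffineHom)]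
  have := HasAffineProperty.isLocal_affineProperty (@IsAffineHom)
  refine AffineTargetMorphismProperty.diagonal_of_openCover_source (terminal.from X) 𝒰 ?_
  intro i j
  have : IsAffineHom (𝒰.f j) := hUι j
  change IsAffine (pullback (𝒰.f i) (𝒰.f j))
  infer_instance

end Groth.Agent.Helper1.SecOps
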