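import Mathlib
import Groth.Agent.Lib.Helper1.HorrB
import Groth.Agent.Lib.Helper2.Dual.PnDepth
import Groth.Agent.Lib.Helper2.Dual.PnLocCoh
import Groth.Agent.Lib.Helper8.Acyc2
import Groth.Agent.Lib.Helper5.Perf.StalkFree
import Groth.Agent.Lib.Helper5.Perf.LocalCoh
import Groth.Agent.Lib.Lead.VBL1
import Groth.Agent.Lib.Helper1.Curve1
import Groth.Agent.Lib.Helper1.HypPnB
import Groth.Agent.Lib.Helper1.FinLen9

/-!
# The Horrocks criterion for vector bundles on projective space (helper1)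
-/

set_option backward.isDefEq.respectTransparency.types false
set_option synthInstance.maxHeartbeats 400000
set_option autoImplicit false
set_option linter.unusedSectionVars false
set_option linter.style.haveILetI false
set_option linter.unusedVariables false
universe u
open CategoryTheory CategoryTheory.Limits AlgebraicGeometry TopologicalSpace Opposite

namespace Groth.Agent.Helper1.HorrC

open Groth.Agent.Helper1.Horr Groth.Agent.Helper1.HorrB Groth.Agent.Lib.Helper4 Groth.Agent.Helper1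

variable (d : ℕ) (K : Type u) [Field K]

theorem isCoh_sigma_twists {r : ℕ} (a : Fin r → ℤ) :
    Coh.IsCoh (∐ fun j => Twist.twistProjSpace d K (a j)) := by
  have hB : ∀ j : Fin r, Coh.IsCoh (Twist.twistProjSpace d K (a j)) :=
    fun j => SerreFin.isCoh_twist d K _
  haveI : ∀ j : Fin r, ((fun j : Fin r => Twist.twistProjSpace d K (a j)) j).IsQuasicoherent :=
    fun j => (hB j).1
  exact ⟨FinSigma.isQuasicoherent_sigma _, VT.isFT_sigma _ (fun j => (hB j).2)⟩

/-- the generic rank of a sum of `r` twisting sheaves is `r` -/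
theorem grk_sigma_twists : ∀ (r : ℕ) (a : Fin r → ℤ),
    Groth.Agent.Lead.VBL.grk (∐ fun j => Twist.twistProjSpace d K (a j)) = r := by
  intro r
  induction r with
  | zero =>
    intro a
    apply Groth.Agent.Lead.VBL.grk_of_isZero
    rw [IsZero.iff_id_eq_zero]
    apply Sigma.hom_ext
    intro j
    exact j.elim0
  | succ r ih =>
    intro a
    obtain ⟨e⟩ := nonempty_coprod_cons_iso
      (fun i : Fin (r + 1) => Twist.twistProjSpace d K (a i))
    have hA : Coh.IsCoh (Twist.twistProjSpace d K (a 0)) := SerreFin.isCoh_twist d K _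
    have hB : Coh.IsCoh (∐ fun i : Fin r => Twist.twistProjSpace d K (a i.succ)) :=
      isCoh_sigma_twists d K (fun i => a i.succ)
    have hS : (ShortComplex.mk
        (biprod.inl : Twist.twistProjSpace d K (a 0) ⟶
          Twist.twistProjSpace d K (a 0) ⊞ (∐ fun i : Fin r => Twist.twistProjSpace d K (a i.succ)))
        biprod.snd (by simp)).ShortExact :=
      (ShortComplex.Splitting.ofHasBinaryBiproduct _ _).shortExact
    have h1 : Groth.Agent.Lead.VBL.grk (Twist.twistProjSpace d K (a 0) ⊞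
        (∐ fun i : Fin r => Twist.twistProjSpace d K (a i.succ))) =
        Groth.Agent.Lead.VBL.grk (Twist.twistProjSpace d K (a 0)) +
        Groth.Agent.Lead.VBL.grk (∐ fun i : Fin r => Twist.twistProjSpace d K (a i.succ)) :=
      Groth.Agent.Lead.VBL.grk_add _ hS hA hB
    have h2 : Groth.Agent.Lead.VBL.grk (Twist.twistProjSpace d K (a 0)) = 1 :=
      Groth.Agent.Lead.VBL.grk_of_rank (Curve.isFinLocFreeOfRank_one (inv_O d K (a 0)))
    have h3 := ih (fun i => a i.succ)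
    have h4 : Groth.Agent.Lead.VBL.grk (∐ fun i : Fin (r + 1) => Twist.twistProjSpace d K (a i)) =
        Groth.Agent.Lead.VBL.grk (Twist.twistProjSpace d K (a 0) ⨿
          (∐ fun i : Fin r => Twist.twistProjSpace d K (a i.succ))) :=
      (Groth.Agent.Lead.VBL.grk_of_iso e).symm
    have h5 : Groth.Agent.Lead.VBL.grk (Twist.twistProjSpace d K (a 0) ⨿
          (∐ fun i : Fin r => Twist.twistProjSpace d K (a i.succ))) =
        Groth.Agent.Lead.VBL.grk (Twist.twistProjSpace d K (a 0) ⊞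
          (∐ fun i : Fin r => Twist.twistProjSpace d K (a i.succ))) :=
      (Groth.Agent.Lead.VBL.grk_of_iso (biprod.isoCoprod _ _)).symm
    rw [h4, h5, h1, h2, h3, Nat.add_comm]

/-- `H⁰` of the negative twists of a vector bundle on `P^d`, `d ≥ 1`, vanishes -/
theorem exists_low_of_flf (hd : 1 ≤ d) (E : (CohB1.ProjSpace d K).Modules)
    (hE : FlatMod.IsFinLocFree E) : ∃ n₀ : ℤ, Low d K E n₀ := by
  have hcoh : Coh.IsCoh E := Groth.Agent.Lib.Helper5.LocalCoh.isCoh_of_isFinLocFree E hE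
  obtain ⟨m₀, hm₀⟩ := (Groth.Agent.Helper2.PnDepth.vanishing_iff_depth K d E hcoh 0).2
    (fun x hx => by
      obtain ⟨hreg, hdim, -⟩ := Groth.Agent.Helper2.PnLocCoh.stalk_facts K d E hcoh x hx
      obtain ⟨h1, h2⟩ :=
        Groth.Agent.Lib.Helper5.StalkFree.free_finite_stalk_of_isFinLocFree E hE x
      haveI := hreg
      haveI : Module.Free ((CohB1.ProjSpace d K).presheaf.stalk x) (E.presheaf.stalk x) := h1
      haveI : Module.Finite ((CohB1.ProjSpace d K).presheaf.stalk x) (E.presheaf.stalk x) := h2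
      have h3 := Groth.Agent.Helper8.Acyc.le_depth_of_free
        ((CohB1.ProjSpace d K).presheaf.stalk x) d hdim (E.presheaf.stalk x)
      exact le_trans (Nat.cast_le.2 (show 0 + 1 ≤ d by omega)) h3)
  refine ⟨-m₀, fun n hn => ?_⟩
  have h := hm₀ (-n) (by omega) 0 le_rfl
  exact KosC1.subsingleton_twist_congr d K E (neg_neg n) 0 h

section Step

/-- the splitting step with the regularity as a hypothesis -/
theorem exists_split_omega' (Q : (CohB1.ProjSpace d K).Modules) (hQ : Coh.IsCoh Q)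
    (hreg : KrrC.Reg d K ((SerreVan.Tw d K ((d : ℤ) + 1)).obj Q) 0)
    (hne : ¬ Subsingleton (Coh.HH (CohB1.ProjSpace d K) Q d)) :
    ∃ (u : Twist.twistProjSpace d K (-((d : ℤ) + 1)) ⟶ Q)
      (φ₂ : Q ⟶ Twist.twistProjSpace d K (-((d : ℤ) + 1))), u ≫ φ₂ = 𝟙 _ := by
  obtain ⟨tr, hdual⟩ := DuD5.s13309 K d
  have hfr := finrank_top_omega d K
  obtain ⟨x, hx⟩ : ∃ x : Coh.HH (CohB1.ProjSpace d K) Q d, x ≠ 0 := by
    by_contra hcon
    apply hne
    refine ⟨fun a b => ?_⟩
    have h1 : ∀ y : Coh.HH (CohB1.ProjSpace d K) Q d, y = 0 := fun y => by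
      by_contra h
      exact hcon ⟨y, h⟩
    rw [h1 a, h1 b]
  obtain ⟨f, hf⟩ : ∃ f : Module.Dual K (Coh.HH (CohB1.ProjSpace d K) Q d), f x ≠ 0 := by
    by_contra hcon
    apply hx
    apply (Module.forall_dual_apply_eq_zero_iff K x).1
    intro f
    by_contra h
    exact hcon ⟨f, h⟩
  obtain ⟨φ, hφ⟩ := (hdual.2 Q hQ.1).2 f
  have hφ0 : φ ≠ 0 := by
    intro h0
    apply hf
    rw [← hφ, h0]
    show tr (Canon.HHlin K (0 : Q ⟶ Twist.twistProjSpace d K (-((d : ℤ) + 1))) d x) = 0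
    rw [HHFin1.HHlin_zero, map_zero]
  have hG : Coh.IsCoh ((SerreVan.Tw d K ((d : ℤ) + 1)).obj Q) := SerreVan.isCoh_Tw d K _ Q hQ
  haveI : ((SerreVan.Tw d K ((d : ℤ) + 1)).obj Q).IsQuasicoherent := hG.1
  have hgg : Curv2.IsGloballyGenerated ((SerreVan.Tw d K ((d : ℤ) + 1)).obj Q) :=
    KrrG.isGloballyGenerated_of_reg d K _ hreg
  haveI : (SerreVan.Tw d K ((d : ℤ) + 1)).IsEquivalence :=
    DuF3.isEquivalence_TL_of_isInvertible (inv_O d K _)
  have hπ : (SerreVan.Tw d K ((d : ℤ) + 1)).map φ ≠ 0 := fun h =>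
    hφ0 ((CategoryTheory.Functor.map_eq_zero_iff (SerreVan.Tw d K ((d : ℤ) + 1))).1 h)
  obtain ⟨t, ht⟩ : ∃ t : Γ((SerreVan.Tw d K ((d : ℤ) + 1)).obj Q, ⊤),
      ((SerreVan.Tw d K ((d : ℤ) + 1)).map φ).app ⊤ t ≠ 0 := by
    by_contra hcon
    apply hπ
    apply Groth.Agent.Lead.GZ.eq_zero_of_isGloballyGenerated hgg
    intro t
    by_contra h
    exact hcon ⟨t, h⟩
  obtain ⟨s, hs⟩ : ∃ s : Coh.structureModule (CohB1.ProjSpace d K) ⟶
      (SerreVan.Tw d K ((d : ℤ) + 1)).obj Q,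
      s.app ⊤ (show Γ(Coh.structureModule (CohB1.ProjSpace d K), ⊤) from
        (1 : Γ(CohB1.ProjSpace d K, ⊤))) = t :=
    ⟨TwistAmple.homOfSec _ t, PFrame.homOfSec_app_one _ t⟩
  have hsπ : s ≫ (SerreVan.Tw d K ((d : ℤ) + 1)).map φ ≠ 0 := by
    intro h0
    apply ht
    rw [← hs]
    exact (congrArg (fun ψ : Coh.structureModule (CohB1.ProjSpace d K) ⟶
      (SerreVan.Tw d K ((d : ℤ) + 1)).obj (Twist.twistProjSpace d K (-((d : ℤ) + 1))) =>
        ψ.app ⊤ (show Γ(Coh.structureModule (CohB1.ProjSpace d K), ⊤) from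
          (1 : Γ(CohB1.ProjSpace d K, ⊤)))) h0 :)
  obtain ⟨e1⟩ := nonempty_OO d K (-((d : ℤ) + 1)) ((d : ℤ) + 1)
  obtain ⟨e2⟩ := PnC7.nonempty_iso_twist_zero d K
  have e : (SerreVan.Tw d K ((d : ℤ) + 1)).obj (Twist.twistProjSpace d K (-((d : ℤ) + 1))) ≅
      Coh.structureModule (CohB1.ProjSpace d K) :=
    e1 ≪≫ isoOfEq d K (neg_add_cancel _) ≪≫ e2
  obtain ⟨u, hu⟩ := (SerreVan.Tw d K ((d : ℤ) + 1)).map_surjective (e.hom ≫ s)
  have hθ : u ≫ φ ≠ 0 := by
    intro h0
    have h1 : (SerreVan.Tw d K ((d : ℤ) + 1)).map (u ≫ φ) = 0 := by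
      rw [h0, CategoryTheory.Functor.map_zero]
    rw [CategoryTheory.Functor.map_comp, hu, Category.assoc] at h1
    apply hsπ
    rw [← cancel_epi e.hom, h1, comp_zero]
  obtain ⟨φ₂, hφ₂⟩ := exists_retraction_of_dual K d _ tr hdual hfr hQ.1 u φ hθ
  exact ⟨u, φ₂, hφ₂⟩

end Step

section Zero

theorem reg0 (F : (CohB1.ProjSpace 0 K).Modules) (hF : Coh.IsCoh F) (t : ℤ) :
    KrrC.Reg 0 K (CohB1.tensorMod F (Twist.twistProjSpace 0 K t)) 0 := by
  intro i hi
  exact @Groth.Agent.S0022.result 0 K _ _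
    (SerreVan.isCoh_Tw 0 K _ _ (SerreVan.isCoh_Tw 0 K t F hF)).1 i (by omega)

/-- every coherent module on `P^0` is a sum of twisting sheaves -/
theorem core0 (c : ℕ) : ∀ (F : (CohB1.ProjSpace 0 K).Modules) (hF : Coh.IsCoh F),
    hq 0 K F 0 0 = c → IsSplit 0 K F := by
  induction c using Nat.strong_induction_on with
  | _ c ih =>
    intro F hF hc
    by_cases hF0 : IsZero F
    · exact isSplit_of_isZero 0 K hF0
    have hQ : Coh.IsCoh (CohB1.tensorMod F (Twist.twistProjSpace 0 K 0)) :=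
      SerreVan.isCoh_Tw 0 K 0 F hF
    have hne : ¬ Subsingleton (Coh.HH (CohB1.ProjSpace 0 K)
        (CohB1.tensorMod F (Twist.twistProjSpace 0 K 0)) 0) := by
      intro hs
      apply hF0
      haveI : (CohB1.tensorMod F (Twist.twistProjSpace 0 K 0)).IsQuasicoherent := hQ.1
      have hgg := KrrG.isGloballyGenerated_of_reg 0 K _ (reg0 K F hF 0)
      have hsub : Subsingleton Γ(CohB1.tensorMod F (Twist.twistProjSpace 0 K 0), ⊤) :=
        (HH0.equiv (CohB1.ProjSpace 0 K) _).symm.toEquiv.subsingleton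
      have hz : IsZero (CohB1.tensorMod F (Twist.twistProjSpace 0 K 0)) :=
        KrrL.isZero_of_globGen _ hgg hsub
      obtain ⟨e⟩ := KrrD.nonempty_twist_zero_iso 0 K F
      exact hz.of_iso e.symm
    obtain ⟨u, φ₂, hu⟩ := exists_split_omega' 0 K _ hQ (reg0 K _ hQ _) hne
    have D : Dec (CohB1.tensorMod F (Twist.twistProjSpace 0 K 0))
        (Twist.twistProjSpace 0 K (-(((0 : ℕ) : ℤ) + 1))) (kernel φ₂) := Dec.ofSplit u φ₂ hu
    have hω : Coh.IsCoh (Twist.twistProjSpace 0 K (-(((0 : ℕ) : ℤ) + 1))) :=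
      SerreFin.isCoh_twist 0 K _
    have hB : Coh.IsCoh (kernel φ₂) := FtLocal.isCoh_kernel hQ hω φ₂
    have h1 : hq 0 K (CohB1.tensorMod F (Twist.twistProjSpace 0 K 0)) 0 0 = c := by
      rw [hq_tw 0 K F 0 0 0 (by ring), hc]
    have h2 := hq_dec 0 K D hω hB 0 0
    have h3 : hq 0 K (Twist.twistProjSpace 0 K (-(((0 : ℕ) : ℤ) + 1))) 0 0 = 1 := by
      obtain ⟨e⟩ := nonempty_OO 0 K (-(((0 : ℕ) : ℤ) + 1)) 0
      have e' : Twist.twistProjSpace 0 K (-(((0 : ℕ) : ℤ) + 1) + 0) ≅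
          Twist.twistProjSpace 0 K (-(((0 : ℕ) : ℤ) + 1)) := isoOfEq 0 K (add_zero _)
      exact ((HHFin1.HHequiv K (e ≪≫ e') 0).finrank_eq).trans (finrank_top_omega 0 K)
    have hsB : IsSplit 0 K (kernel φ₂) :=
      ih (hq 0 K (kernel φ₂) 0 0) (by omega) (kernel φ₂) hB rfl
    have hsQ : IsSplit 0 K (CohB1.tensorMod F (Twist.twistProjSpace 0 K 0)) :=
      isSplit_of_dec 0 K _ D hsB
    obtain ⟨e⟩ := KrrD.nonempty_twist_zero_iso 0 K F
    exact isSplit_of_iso 0 K e hsQ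

end Zero

section Main

/-- **Horrocks' criterion for vector bundles of rank `r` on `P^n` over a field** -/
theorem main_flf (n r : ℕ) (E : (CohB1.ProjSpace n K).Modules)
    (hE : FlatMod.IsFinLocFreeOfRank r E) :
    (∃ a : Fin r → ℤ, Nonempty (E ≅ ∐ fun j : Fin r => Twist.twistProjSpace n K (a j))) ↔
      ∀ (i : ℕ) (m : ℤ), 0 < i → i < n →
        Subsingleton (Coh.HH (CohB1.ProjSpace n K)
          (CohB1.tensorMod E (Twist.twistProjSpace n K m)) i) := by
  constructor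
  · rintro ⟨a, ⟨e⟩⟩ i m h1 h2
    exact sub_of_split n K a e m i
      (fun j => ⟨fun ⟨h, _⟩ => by omega, fun ⟨h, _⟩ => by omega⟩)
  · intro h
    have hflf := FinLen.isFinLocFree_of_rank hE
    have hcoh : Coh.IsCoh E := Groth.Agent.Lib.Helper5.LocalCoh.isCoh_of_isFinLocFree E hflf
    have hmid : Mid n K E := fun m i h1 h2 => h i m (by omega) h2
    have hsplit : IsSplit n K E := by
      rcases Nat.eq_zero_or_pos n with hn | hn
      · subst hn
        exact core0 K _ E hcoh rfl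
      · obtain ⟨n₀, hlow⟩ := exists_low_of_flf n K hn E hflf
        obtain ⟨T, hT⟩ := SerreVan.serre_vanishing n K E hcoh
        exact core n K hn _ E hcoh n₀ T hmid hlow (fun m hm => hT m hm n (by omega)) rfl
    obtain ⟨r', a, ⟨e⟩⟩ := hsplit
    have h1 : Groth.Agent.Lead.VBL.grk E = r := Groth.Agent.Lead.VBL.grk_of_rank hE
    have h2 : Groth.Agent.Lead.VBL.grk E = r' :=
      (Groth.Agent.Lead.VBL.grk_of_iso e).trans (grk_sigma_twists n K r' a)
    have hr : r' = r := h2.symm.trans h1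
    subst hr
    exact ⟨a, ⟨e⟩⟩

end Main

end Groth.Agent.Helper1.HorrC
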