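import Mathlib

set_option autoImplicit false
universe u

namespace Groth.Agent.Helper1.InvT

/-- if `p` freely generates `M` after inverting `g`, it freely generates the localization at any
`h` with `D(h) ⊆ D(g)` -/
theorem bijective_smul_of_gen {R : Type u} [CommRing R] {M : Type u} [AddCommGroup M] [Module R M]
    (p : M) (g h u : R) (k : ℕ) (hk : h ^ k = u * g)
    (h1 : ∀ m : M, ∃ (n : ℕ) (c : R), g ^ n • m = c • p)
    (h2 : ∀ c : R, c • p = 0 → ∃ n : ℕ, g ^ n * c = 0)
    {A : Type u} [CommRing A] [Algebra R A] [IsLocalization.Away h A]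
    {Q : Type u} [AddCommGroup Q] [Module R Q] [Module A Q] [IsScalarTower R A Q]
    (ρ : M →ₗ[R] Q) (hρ : IsLocalizedModule (Submonoid.powers h) ρ) :
    Function.Bijective (fun r : A => r • ρ p) := by
  have hpow : ∀ n : ℕ, h ^ (k * n) = u ^ n * g ^ n := by
    intro n
    rw [pow_mul, hk, mul_pow]
  have hunit : ∀ s : Submonoid.powers h, IsUnit (algebraMap R A s.1) :=
    fun s => IsLocalization.map_units A s
  constructor
  · -- injectivity
    have hz : ∀ r : A, r • ρ p = 0 → r = 0 := by
      intro r hr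
      obtain ⟨⟨c, s⟩, hcs⟩ := IsLocalization.surj (Submonoid.powers h) r
      have hcs' : r * algebraMap R A s.1 = algebraMap R A c := hcs
      have e1 : ρ (c • p) = 0 := by
        rw [map_smul, ← algebraMap_smul A c (ρ p), ← hcs', mul_comm, mul_smul, hr, smul_zero]
      obtain ⟨s', hs'⟩ := (IsLocalizedModule.eq_zero_iff (Submonoid.powers h) ρ).1 e1
      have e2 : (s'.1 * c) • p = 0 := by
        rw [mul_smul]; exact hs'
      obtain ⟨n, hn⟩ := h2 _ e2
      have e3 : h ^ (k * n) * s'.1 * c = 0 := by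
        rw [hpow, mul_assoc, mul_assoc, hn, mul_zero]
      have e4 : algebraMap R A c = 0 := by
        have hmem : h ^ (k * n) * s'.1 ∈ Submonoid.powers h :=
          Submonoid.mul_mem _ ⟨k * n, rfl⟩ s'.2
        have := congrArg (algebraMap R A) e3
        rw [map_mul, map_zero] at this
        exact (IsUnit.mul_right_eq_zero (hunit ⟨_, hmem⟩)).1 this
      rw [e4] at hcs'
      exact (IsUnit.mul_left_eq_zero (hunit s)).1 hcs'
    intro r r' hrr
    have : (r - r') • ρ p = 0 := by
      rw [sub_smul]; exact sub_eq_zero.2 hrr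
    exact sub_eq_zero.1 (hz _ this)
  · -- surjectivity
    intro y
    obtain ⟨⟨m, s⟩, hms⟩ := IsLocalizedModule.surj (Submonoid.powers h) ρ y
    have hms' : s.1 • y = ρ m := hms
    obtain ⟨n, c, hnc⟩ := h1 m
    have hmem : h ^ (k * n) * s.1 ∈ Submonoid.powers h :=
      Submonoid.mul_mem _ ⟨k * n, rfl⟩ s.2
    let t : Submonoid.powers h := ⟨_, hmem⟩
    refine ⟨IsLocalization.mk' A (u ^ n * c) t, ?_⟩
    have hu := hunit t
    have hinj : Function.Injective (fun q : Q => algebraMap R A t.1 • q) := by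
      intro q q' hqq
      have := congrArg (fun z => (hu.unit⁻¹ : Aˣ).1 • z) hqq
      simpa only [← mul_smul, IsUnit.val_inv_mul, one_smul] using this
    apply hinj
    change algebraMap R A t.1 • (IsLocalization.mk' A (u ^ n * c) t • ρ p) = algebraMap R A t.1 • y
    rw [← mul_smul, mul_comm, IsLocalization.mk'_spec, algebraMap_smul, algebraMap_smul]
    change (u ^ n * c) • ρ p = (h ^ (k * n) * s.1) • y
    rw [mul_smul (h ^ (k * n)), hms', ← map_smul, ← map_smul, hpow, mul_smul (u ^ n) (g ^ n), hnc,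
      ← mul_smul]

end Groth.Agent.Helper1.InvT
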