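import Mathlib
import Groth.Agent.Lib.Helper1.HorrC
import Groth.Agent.Lib.Helper1.Dv28
import Groth.Agent.Lib.Lead.PnMain
import Groth.Agent.Lib.Helper4.HHFin2
import Groth.Agent.Lib.Helper4.TwExact
import Groth.Agent.Lib.Helper4.SerreVan

/-!
# Extensions of line bundles on projective space of dimension at least two split (helper1)
-/

set_option backward.isDefEq.respectTransparency.types false
set_option synthInstance.maxHeartbeats 400000
set_option autoImplicit false
set_option linter.unusedSectionVars false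
set_option linter.style.haveILetI false
set_option linter.unusedVariables false
universe u
open CategoryTheory CategoryTheory.Limits AlgebraicGeometry TopologicalSpace Opposite

namespace Groth.Agent.Helper1.RkTwoPn

open Groth.Agent.Helper1.Horr Groth.Agent.Helper1.HorrB Groth.Agent.Lib.Helper4 Groth.Agent.Helper1

section Cat

variable {C : Type*} [Category C]

theorem nonempty_coprod_zero_iso [HasZeroMorphisms C] [HasBinaryCoproducts C] (A Z : C)
    (hZ : IsZero Z) : Nonempty (A ⨿ Z ≅ A) :=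
  ⟨{ hom := coprod.desc (𝟙 A) 0
     inv := coprod.inl
     hom_inv_id := by
       apply coprod.hom_ext
       · rw [← Category.assoc, coprod.inl_desc, Category.id_comp, Category.comp_id]
       · exact hZ.eq_of_src _ _
     inv_hom_id := coprod.inl_desc _ _ }⟩

theorem isZero_sigma_fin_zero [HasZeroMorphisms C] [HasFiniteCoproducts C] (g : Fin 0 → C) :
    IsZero (∐ g) := by
  rw [IsZero.iff_id_eq_zero]
  apply Sigma.hom_ext
  intro j
  exact j.elim0

theorem nonempty_sigma_fin_two [Preadditive C] [HasFiniteCoproducts C] [HasBinaryCoproducts C]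
    [HasBinaryBiproducts C] (f : Fin 2 → C) :
    Nonempty ((∐ f) ≅ f 0 ⊞ f (0 : Fin 1).succ) := by
  obtain ⟨e1⟩ := nonempty_coprod_cons_iso f
  obtain ⟨e2⟩ := nonempty_coprod_cons_iso (fun i : Fin 1 => f i.succ)
  obtain ⟨e3⟩ := nonempty_coprod_zero_iso (f (0 : Fin 1).succ) _
    (isZero_sigma_fin_zero (fun i : Fin 0 => f i.succ.succ))
  exact ⟨e1.symm ≪≫ coprod.mapIso (Iso.refl _) (e2.symm ≪≫ e3) ≪≫ (biprod.isoCoprod _ _).symm⟩

end Cat

section Mid

variable (A : Type u) [CommRing A] {X : Scheme.{u}} [X.Over (Spec (CommRingCat.of A))]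
include A

/-- vanishing of the cohomology of the middle term of a short exact sequence -/
theorem subsingleton_mid {S : ShortComplex X.Modules} (hS : S.ShortExact) (i : ℕ)
    (h1 : Subsingleton (Coh.HH X S.X₁ i)) (h3 : Subsingleton (Coh.HH X S.X₃ i)) :
    Subsingleton (Coh.HH X S.X₂ i) := by
  refine subsingleton_of_forall_eq 0 fun x => ?_
  obtain ⟨y, hy⟩ := HHFin2.exact_f_g A hS i x (Subsingleton.elim (h := h3) _ _)
  rw [← hy, Subsingleton.elim (h := h1) y 0, map_zero]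

end Mid

variable (n : ℕ) (K : Type u) [Field K]

theorem isInvertible_of_rank_one {X : Scheme.{u}} {M : X.Modules}
    (hM : FlatMod.IsFinLocFreeOfRank 1 M) : PicF.IsInvertible M := fun x => by
  obtain ⟨U, hxU, ⟨e⟩⟩ := hM x
  exact ⟨U, hxU, ⟨e ≪≫ Dv.coprodOneIso (Coh.structureModule (↑U : Scheme.{u}))⟩⟩

/-- vanishing of the cohomology of the twists of a module isomorphic to `O(c)` -/
theorem van_of_iso (F : (CohB1.ProjSpace n K).Modules) (c : ℤ)
    (e : F ≅ Twist.twistProjSpace n K c) (m : ℤ) (i : ℕ)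
    (h1 : ¬ (i = 0 ∧ 0 ≤ c + m)) (h2 : ¬ (i = n ∧ c + m ≤ -((n : ℤ) + 1))) :
    Subsingleton (Coh.HH (CohB1.ProjSpace n K) ((SerreVan.Tw n K m).obj F) i) := by
  obtain ⟨e1⟩ := nonempty_OO n K c m
  have h := Groth.Agent.S0844.result K n (c + m) i h1 h2
  exact Dv.subsingleton_HH_of_iso ((SerreVan.Tw n K m).mapIso e ≪≫ e1) i h

set_option maxHeartbeats 1600000 in
/-- **an extension of two line bundles on `P^n`, `n ≥ 2`, splits as a sum of twisting sheaves** -/
theorem main (hn : 2 ≤ n) (S : ShortComplex (CohB1.ProjSpace n K).Modules) (hS : S.ShortExact)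
    (h₁ : FlatMod.IsFinLocFreeOfRank 1 S.X₁) (h₃ : FlatMod.IsFinLocFreeOfRank 1 S.X₃) :
    ∃ a b : ℤ, Nonempty (S.X₂ ≅ Twist.twistProjSpace n K a ⊞ Twist.twistProjSpace n K b) := by
  classical
  have hi1 : PicF.IsInvertible S.X₁ := isInvertible_of_rank_one h₁
  have hi3 : PicF.IsInvertible S.X₃ := isInvertible_of_rank_one h₃
  obtain ⟨a, ⟨ea⟩⟩ : ∃ d : ℤ, Nonempty (S.X₁ ≅ Twist.twistProjSpace n K d) :=
    Groth.Agent.Lead.PnMain.exists_iso_twist n K S.X₁ hi1
  obtain ⟨b, ⟨eb⟩⟩ : ∃ d : ℤ, Nonempty (S.X₃ ≅ Twist.twistProjSpace n K d) :=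
    Groth.Agent.Lead.PnMain.exists_iso_twist n K S.X₃ hi3
  haveI : IsLocallyNoetherian (CohB1.ProjSpace n K) := SerreFin.instLN n K
  have hc1 : Coh.IsCoh S.X₁ := Dv.isCoh_of_iso ea.symm (SerreFin.isCoh_twist n K a)
  have hc3 : Coh.IsCoh S.X₃ := Dv.isCoh_of_iso eb.symm (SerreFin.isCoh_twist n K b)
  have hc2 : Coh.IsCoh S.X₂ := Dv.isCoh_mid hS hc1 hc3
  obtain ⟨n₀, hn₀a, hn₀b⟩ : ∃ n₀ : ℤ, n₀ < -a ∧ n₀ < -b :=
    ⟨min (-a) (-b) - 1, by have := min_le_left (-a) (-b); omega,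
      by have := min_le_right (-a) (-b); omega⟩
  have hmidS : ∀ (m : ℤ) (i : ℕ), ¬ (i = 0 ∧ 0 ≤ a + m) → ¬ (i = 0 ∧ 0 ≤ b + m) → i < n →
      Subsingleton (Coh.HH (CohB1.ProjSpace n K) ((SerreVan.Tw n K m).obj S.X₂) i) := by
    intro m i ha hb hi
    have hSE := TwExact.shortExact_map (SerreVan.locGen_twist n K m) hS
    exact subsingleton_mid K hSE i
      (van_of_iso n K S.X₁ a ea m i ha (fun h => by omega))
      (van_of_iso n K S.X₃ b eb m i hb (fun h => by omega))
  have hsplit : ∃ (r : ℕ) (a' : Fin r → ℤ),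
      Nonempty (S.X₂ ≅ ∐ fun j => Twist.twistProjSpace n K (a' j)) := by
    refine (HorrB.main n K (by omega) S.X₂ hc2).2 ⟨⟨n₀, fun m hm => ?_⟩, fun m i h1 h2 => ?_⟩
    · exact hmidS m 0 (fun h => by omega) (fun h => by omega) (by omega)
    · exact hmidS m i (fun h => by omega) (fun h => by omega) h2
  obtain ⟨r, a', ⟨e⟩⟩ := hsplit
  have hr : r = 2 := by
    have h1 := Groth.Agent.Lead.VBL.grk_add S hS hc1 hc3
    rw [Groth.Agent.Lead.VBL.grk_of_rank h₁, Groth.Agent.Lead.VBL.grk_of_rank h₃,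
      Groth.Agent.Lead.VBL.grk_of_iso e, HorrC.grk_sigma_twists n K r a'] at h1
    omega
  subst hr
  obtain ⟨e'⟩ := nonempty_sigma_fin_two (fun j : Fin 2 => Twist.twistProjSpace n K (a' j))
  exact ⟨a' 0, a' (0 : Fin 1).succ, ⟨e ≪≫ e'⟩⟩

end Groth.Agent.Helper1.RkTwoPn
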