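import Mathlib
import Groth.Agent.Lib.Lead.OmSm10
import Groth.Agent.Lib.Lead.OmU13d
import Groth.Agent.Lib.Lead.OmU3
import Groth.Agent.Lib.Helper1.Curve1
import Groth.Agent.Lib.Helper1.RkTwoPn
import Groth.Agent.Lib.Helper1.PullGen2
import Groth.Agent.Lib.Helper1.TwistAmpleOpen
import Groth.Agent.Lib.Helper1.FinSupp1
import Groth.Agent.Lib.Helper1.CohAbel
import Groth.Agent.Lib.Helper1.FtSupp
import Groth.Agent.Lib.Helper1.InvFt

/-!
# The differential of a map of smooth curves is zero or generically an isomorphism (helper1, S19535)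
-/

set_option autoImplicit false
set_option backward.isDefEq.respectTransparency.types false
set_option synthInstance.maxHeartbeats 400000
set_option linter.unusedSectionVars false
set_option linter.style.haveILetI false
set_option linter.unusedVariables false
universe u
open CategoryTheory CategoryTheory.Limits AlgebraicGeometry TopologicalSpace Opposite

namespace Groth.Agent.Helper1.DiffDich

open Groth.Agent.Helper1 OmegaSh Groth.Agent.Lead.OmU

section Gen

variable {X : Scheme.{u}}

/-- the restriction of a module to an open set missing its support vanishes -/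
theorem isZero_pullback_of_disjoint (M : X.Modules) (U : X.Opens)
    (h : ∀ x ∈ U, x ∉ CohB1.support M) :
    IsZero ((Scheme.Modules.pullback U.ι).obj M) := by
  have h1 : IsZero ((Scheme.Modules.restrictFunctor U.ι).obj M) := by
    apply CohACC.isZero_of_sections
    intro V t
    haveI : Subsingleton Γ(M, U.ι ''ᵁ V) := FinSupp.subsingleton_sections M (U.ι ''ᵁ V)
      (fun x hx => not_not.1 (h x (by
        obtain ⟨y, -, rfl⟩ := hx
        exact y.2)))
    exact Subsingleton.elim (α := Γ(M, U.ι ''ᵁ V)) t 0
  exact IsZero.of_iso h1 ((Scheme.Modules.restrictFunctorIsoPullback U.ι).app M).symm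

/-- a map of invertible modules on an integral scheme is zero or a monomorphism whose cokernel
vanishes on a nonempty open set -/
theorem dichotomy [IsIntegral X] {N L : X.Modules} (hN : PicF.IsInvertible N)
    (hL : PicF.IsInvertible L) (c : N ⟶ L) :
    c = 0 ∨ (Mono c ∧ ∃ U : X.Opens, (U : Set X).Nonempty ∧
      IsZero ((Scheme.Modules.pullback U.ι).obj (cokernel c))) := by
  by_cases hc : c = 0
  · exact Or.inl hc
  · refine Or.inr ⟨Curve.mono_of_ne_zero hN hL c hc, ?_⟩
    have hcl : IsClosed (CohB1.support (cokernel c)) :=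
      FtGen.isClosed_support _ (FtLocal.isCoh_cokernel (InvQc.isCoh_of_isInvertible _ hN)
        (InvQc.isCoh_of_isInvertible _ hL) c).2
    have hgen := Curve.genericPoint_notMem_support_cokernel hN hL c hc
    refine ⟨⟨(CohB1.support (cokernel c))ᶜ, hcl.isOpen_compl⟩, ⟨genericPoint X, hgen⟩, ?_⟩
    apply isZero_pullback_of_disjoint
    intro x hx
    exact hx

end Gen

section Om

/-- the differentials of a smooth integral curve are invertible -/
theorem isInvertible_omega (k : Type u) [Field k] {X : Scheme.{u}}
    (pX : X ⟶ Spec (CommRingCat.of k)) [IsIntegral X] [Smooth pX] [IsSeparated pX]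
    (hdX : topologicalKrullDim X = 1)
    (ΩX : X.Modules) (dX : OmegaSh.Der pX ΩX) (hX : OmegaSh.IsUniversal dX) :
    PicF.IsInvertible ΩX := by
  have h1 : FlatMod.IsFinLocFreeOfRank 1 (Omega.sheaf pX) :=
    Groth.Agent.Lead.OmSm.isFinLocFreeOfRank_omega_of_smooth k pX 1 (by rw [hdX]; rfl)
  obtain ⟨e, -⟩ := exists_iso_of_universal (dOmega pX) dX (isUniversal_dOmega pX) hX
  exact TwistAmpleOpen.isInvertible_of_iso e (RkTwoPn.isInvertible_of_rank_one h1)

end Om

end Groth.Agent.Helper1.DiffDich
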