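import Mathlib
import Groth.Prelude.Def_BlowUp2
import Groth.Agent.Lib.Helper4.EffCartier

/-!
# Effective Cartier divisors on one-dimensional Noetherian Jacobson schemes (helper1)
-/

set_option autoImplicit false
universe u
open CategoryTheory CategoryTheory.Limits AlgebraicGeometry TopologicalSpace Opposite

namespace Groth.Agent.Helper1.Dim1Eff

/-- a maximal ideal that is not an associated prime contains a nonzerodivisor -/
theorem exists_nzd_mem {A : Type*} [CommRing A] [IsNoetherianRing A] (m : Ideal A)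
    [hm : m.IsMaximal] (h : m ∉ associatedPrimes A A) : ∃ f ∈ m, f ∈ nonZeroDivisors A := by
  by_contra hcon
  push Not at hcon
  have hdis : Disjoint (m : Set A) (nonZeroDivisors A : Set A) := Set.disjoint_left.mpr hcon
  obtain ⟨P, hP, hmP⟩ : ∃ P ∈ associatedPrimes A A, m ≤ P :=
    (m.subset_union_prime_finite (associatedPrimes.finite A A) (f := id) 0 0
      fun _ h _ _ ↦ h.1).1 <|
    biUnion_associatedPrimes_eq_compl_nonZeroDivisors A ▸ hdis.subset_compl_right
  have hPp : P.IsPrime := hP.1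
  have : m = P := hm.eq_of_le hPp.ne_top hmP
  exact h (this ▸ hP)

/-- in a Noetherian ring of dimension at most one, the zero locus of a nonzerodivisor is a finite
set of maximal ideals -/
theorem zeroLocus_finite {A : Type*} [CommRing A] [IsNoetherianRing A]
    (hdim : ringKrullDim A ≤ 1) (f : A) (hf : f ∈ nonZeroDivisors A) :
    (PrimeSpectrum.zeroLocus ({f} : Set A)).Finite ∧
      ∀ p ∈ PrimeSpectrum.zeroLocus ({f} : Set A), p.asIdeal.IsMaximal := by
  have h1 : ringKrullDim (A ⧸ Ideal.span {f}) + 1 ≤ ringKrullDim A :=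
    ringKrullDim_quotient_succ_le_of_nonZeroDivisor hf
  have h2 : ringKrullDim (A ⧸ Ideal.span {f}) ≤ 0 := by
    have h3 : ringKrullDim (A ⧸ Ideal.span {f}) + 1 ≤ 1 := h1.trans hdim
    revert h3
    generalize ringKrullDim (A ⧸ Ideal.span {f}) = d
    intro h3
    induction d using WithBot.recBotCoe with
    | bot => exact bot_le
    | coe n =>
      have h5 : n + 1 ≤ (1 : ℕ∞) := by exact_mod_cast h3
      have h6 : n ≤ 0 := by
        induction n using ENat.recTopCoe with
        | top => simp at h5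
        | coe m =>
          have h7 : m + 1 ≤ 1 := by exact_mod_cast h5
          have h8 : m = 0 := by omega
          subst h8
          simp
      exact_mod_cast h6
  haveI : Ring.KrullDimLE 0 (A ⧸ Ideal.span {f}) := Ring.krullDimLE_iff.mpr (by simpa using h2)
  haveI : IsArtinianRing (A ⧸ Ideal.span {f}) := isArtinianRing_iff_krullDimLE_zero.mpr inferInstance
  have hrange : Set.range (PrimeSpectrum.comap (Ideal.Quotient.mk (Ideal.span {f}))) =
      PrimeSpectrum.zeroLocus ({f} : Set A) := by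
    rw [range_comap_of_surjective _ _ Ideal.Quotient.mk_surjective, Ideal.mk_ker,
      PrimeSpectrum.zeroLocus_span]
  constructor
  · rw [← hrange]
    exact Set.finite_range _
  · intro p hp
    rw [← hrange] at hp
    obtain ⟨q, rfl⟩ := hp
    haveI : q.asIdeal.IsMaximal := Ideal.isMaximal_of_isPrime q.asIdeal
    exact Ideal.comap_isMaximal_of_surjective _ Ideal.Quotient.mk_surjective

variable {X : Scheme.{u}}

/-- off the support, an ideal sheaf is trivial on a small affine neighbourhood -/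
theorem exists_chart_of_notMem_support (I : X.IdealSheafData) (x : X)
    (hx : x ∉ I.support) :
    ∃ U : X.affineOpens, x ∈ U.1 ∧
      ∃ f : Γ(X, U.1), f ∈ nonZeroDivisors Γ(X, U.1) ∧ I.ideal U = Ideal.span {f} := by
  obtain ⟨U, hU, hxU, -⟩ := Opens.isBasis_iff_nbhd.mp (X.isBasis_affineOpens)
    (show x ∈ (⊤ : X.Opens) from trivial)
  rw [Scheme.IdealSheafData.mem_support_iff_of_mem (U := ⟨U, hU⟩) hxU,
    Scheme.mem_zeroLocus_iff] at hx
  push Not at hx
  obtain ⟨g, hg, hxg⟩ := hx
  refine ⟨X.affineBasicOpen g, hxg, 1, one_mem _, ?_⟩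
  rw [Ideal.span_singleton_one]
  have hmap := I.map_ideal_basicOpen ⟨U, hU⟩ g
  rw [← hmap]
  exact Ideal.eq_top_of_isUnit_mem _ (Ideal.mem_map_of_mem _ hg)
    (X.toRingedSpace.isUnit_res_basicOpen g)

/-- a nonzerodivisor on an affine open whose zero locus is closed in `X` defines an effective
Cartier divisor on `X` -/
theorem exists_ideal [IsLocallyNoetherian X] (V : X.Opens) (hV : IsAffineOpen V)
    (f : Γ(X, V)) (hf : f ∈ nonZeroDivisors Γ(X, V))
    (hcl : IsClosed ((V : Set X) \ (X.basicOpen f : Set X))) :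
    ∃ I : X.IdealSheafData, BlowUp.IsEffCartierIdeal I ∧
      (I.support : Set X) = (V : Set X) \ (X.basicOpen f : Set X) := by
  haveI : IsAffine ↑V := hV
  obtain ⟨I₀, hI₀⟩ : ∃ I₀ : (V : Scheme.{u}).IdealSheafData,
    I₀ = Scheme.IdealSheafData.ofIdealTop (Ideal.span {V.topIso.inv f}) := ⟨_, rfl⟩
  have key : V.ι ''ᵁ (V : Scheme.{u}).basicOpen (V.topIso.inv f) = X.basicOpen f :=
    Scheme.Opens.ι_image_basicOpen_topIso_inv V f
  have hsupp : ((I₀.map V.ι).support : Set X) = (V : Set X) \ (X.basicOpen f : Set X) := by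
    have h1 : V.ι '' (I₀.support : Set ↑V) = (V : Set X) \ (X.basicOpen f : Set X) := by
      rw [hI₀, Scheme.IdealSheafData.coe_support_ofIdealTop, Scheme.zeroLocus_span,
        Scheme.zeroLocus_singleton]
      ext y
      constructor
      · rintro ⟨z, hz, rfl⟩
        refine ⟨z.2, fun h => hz ?_⟩
        have h' : V.ι z ∈ V.ι ''ᵁ (V : Scheme.{u}).basicOpen (V.topIso.inv f) := by
          rw [key]; exact h
        exact (V.ι.apply_mem_image_iff).mp h'
      · rintro ⟨hyV, hyf⟩
        refine ⟨⟨y, hyV⟩, fun h => hyf ?_, rfl⟩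
        have h' : V.ι ⟨y, hyV⟩ ∈ V.ι ''ᵁ (V : Scheme.{u}).basicOpen (V.topIso.inv f) :=
          (V.ι.apply_mem_image_iff).mpr h
        rw [key] at h'
        exact h'
    rw [Scheme.IdealSheafData.support_map, TopologicalSpace.Closeds.coe_closure, h1,
      hcl.closure_eq]
  refine ⟨I₀.map V.ι, ?_, hsupp⟩
  intro x
  by_cases hx : x ∈ V
  · refine ⟨⟨V, hV⟩, hx, f, hf, ?_⟩
    have H : IsAffineOpen (V.ι ⁻¹ᵁ V) := by
      rw [Scheme.Opens.ι_preimage_self]; exact isAffineOpen_top _
    have hbij : Function.Bijective (V.ι.app V).hom := by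
      haveI : IsIso (V.ι.app V) := V.ι.isIso_app V (Scheme.Opens.opensRange_ι V).ge
      exact ConcreteCategory.bijective_of_isIso (V.ι.app V)
    have e1 : V.topIso.inv ≫ (V : Scheme.{u}).presheaf.map
        (homOfLE (le_top : V.ι ⁻¹ᵁ V ≤ ⊤)).op = V.ι.app V := by
      change X.presheaf.map _ ≫ X.presheaf.map _ = X.presheaf.map _
      rw [← Functor.map_comp]
      rfl
    have hel : ((V : Scheme.{u}).presheaf.map (homOfLE (le_top : V.ι ⁻¹ᵁ V ≤ ⊤)).op).hom
        (V.topIso.inv f) = (V.ι.app V).hom f := by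
      rw [← e1]; rfl
    rw [Scheme.IdealSheafData.ideal_map I₀ V.ι ⟨V, hV⟩ H, hI₀,
      Scheme.IdealSheafData.ofIdealTop_ideal, Ideal.map_span, Set.image_singleton]
    erw [hel]
    rw [← Set.image_singleton, ← Ideal.map_span, Ideal.comap_map_of_bijective _ hbij]
  · apply exists_chart_of_notMem_support
    intro hxs
    have : x ∈ ((I₀.map V.ι).support : Set X) := hxs
    rw [hsupp] at this
    exact hx this.1

/-- an irreducible component is never contained in the support of an effective Cartier divisor -/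
theorem not_subset_support [IsNoetherian X] {I : X.IdealSheafData}
    (hI : BlowUp.IsEffCartierIdeal I) (Z : Set X) (hZ : Z ∈ irreducibleComponents X) :
    ¬ Z ⊆ (I.support : Set X) := by
  intro hsub
  have hfin : (irreducibleComponents X).Finite := finite_irreducibleComponents_of_isNoetherian
  obtain ⟨O, hO⟩ : ∃ O : Set X, O = (⋃₀ (irreducibleComponents X \ {Z}))ᶜ := ⟨_, rfl⟩
  have hOopen : IsOpen O := by
    rw [hO, Set.sUnion_eq_biUnion, isOpen_compl_iff]
    exact hfin.sdiff.isClosed_biUnion fun W hW ↦ isClosed_of_mem_irreducibleComponents W hW.1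
  have hOZ : O ⊆ Z := by
    intro x hx
    have hxu : x ∈ ⋃₀ irreducibleComponents X := by
      rw [sUnion_irreducibleComponents]; trivial
    obtain ⟨W, hW, hxW⟩ := hxu
    by_cases hWZ : W = Z
    · exact hWZ ▸ hxW
    · rw [hO] at hx
      have hmem : x ∈ ⋃₀ (irreducibleComponents X \ {Z}) := ⟨W, ⟨hW, hWZ⟩, hxW⟩
      exact absurd hmem hx
  have hOne : O.Nonempty := by
    have hcl := closure_sUnion_irreducibleComponents_sdiff_singleton hfin Z hZ
    by_contra hemp
    rw [Set.not_nonempty_iff_eq_empty] at hemp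
    rw [← hO, hemp, closure_empty] at hcl
    exact hZ.1.nonempty.ne_empty hcl.symm
  obtain ⟨VO, hVO⟩ : ∃ VO : X.Opens, (VO : Set X) = O := ⟨⟨O, hOopen⟩, rfl⟩
  have hinj := Groth.Agent.Helper4.EffCartier.res_injective hI VO ⊥ bot_le
    (fun x hxV hxs => absurd (hsub (hOZ (hVO ▸ hxV))) hxs)
  obtain ⟨y, hy⟩ := hOne
  haveI : Nonempty VO := ⟨⟨y, by rw [← hVO] at hy; exact hy⟩⟩
  have h01 : (0 : Γ(X, VO)) = 1 := hinj (Subsingleton.elim _ _)
  exact zero_ne_one h01

/-- on a one-dimensional Noetherian Jacobson scheme, every irreducible closed subset with more than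
one point meets the support of some effective Cartier divisor -/
theorem exists_effCartier_through [IsNoetherian X] [JacobsonSpace X]
    (hdim : topologicalKrullDim X ≤ 1) (Z : Set X) (hZirr : IsIrreducible Z) (hZcl : IsClosed Z)
    (hns : ¬ Z.Subsingleton) :
    ∃ I : X.IdealSheafData, BlowUp.IsEffCartierIdeal I ∧
      (Z ∩ (I.support : Set X)).Nonempty := by
  classical
  obtain ⟨η, hη⟩ : ∃ η : X, closure {η} = Z :=
    ⟨hZirr.genericPoint, (hZirr.isGenericPoint_genericPoint hZcl).def⟩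
  have hηcl : ¬ IsClosed ({η} : Set X) := by
    intro hcl
    apply hns
    rw [← hη, hcl.closure_eq]
    exact Set.subsingleton_singleton
  obtain ⟨V, hV, hηV, -⟩ := Opens.isBasis_iff_nbhd.mp (X.isBasis_affineOpens)
    (show η ∈ (⊤ : X.Opens) from trivial)
  haveI : IsNoetherianRing Γ(X, V) := IsLocallyNoetherian.component_noetherian ⟨V, hV⟩
  have hAdim : ringKrullDim Γ(X, V) ≤ 1 := by
    rw [← PrimeSpectrum.topologicalKrullDim_eq_ringKrullDim Γ(X, V)]
    change topologicalKrullDim (Spec Γ(X, V)) ≤ 1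
    rw [← IsHomeomorph.topologicalKrullDim_eq _ hV.isoSpec.hom.homeomorph.isHomeomorph]
    exact (topologicalKrullDim_subspace_le X (V : Set X)).trans hdim
  -- the finite set of closed associated points
  obtain ⟨F, hF⟩ : ∃ F : Set X, F = hV.fromSpec ''
    {p : Spec Γ(X, V) | p.asIdeal ∈ associatedPrimes Γ(X, V) Γ(X, V)} := ⟨_, rfl⟩
  have hFfin : F.Finite := by
    rw [hF]
    apply Set.Finite.image
    exact Set.Finite.preimage (f := fun p : Spec Γ(X, V) => p.asIdeal)
      (fun p _ q _ h => PrimeSpectrum.ext h) (associatedPrimes.finite Γ(X, V) Γ(X, V))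
  have hFc : IsClosed (F ∩ closedPoints X) := by
    have hfin : (F ∩ closedPoints X).Finite := hFfin.subset Set.inter_subset_left
    rw [← Set.biUnion_of_singleton (F ∩ closedPoints X)]
    exact hfin.isClosed_biUnion fun y hy => hy.2
  have hT : IsLocallyClosed (closure {η} ∩ ((V : Set X) \ (F ∩ closedPoints X))) :=
    isClosed_closure.isLocallyClosed.inter (V.isOpen.sdiff hFc).isLocallyClosed
  have hηT : η ∈ closure {η} ∩ ((V : Set X) \ (F ∩ closedPoints X)) :=
    ⟨subset_closure (Set.mem_singleton η), hηV, fun h => hηcl h.2⟩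
  obtain ⟨x, ⟨hxη, hxV, hxF⟩, hxcl⟩ := nonempty_inter_closedPoints ⟨η, hηT⟩ hT
  have hxcl' : IsClosed ({x} : Set X) := hxcl
  -- the prime of `x`
  obtain ⟨p, hp⟩ : ∃ p : Spec Γ(X, V), p = hV.primeIdealOf ⟨x, hxV⟩ := ⟨_, rfl⟩
  have hpx : hV.fromSpec p = x := by rw [hp]; exact hV.fromSpec_primeIdealOf ⟨x, hxV⟩
  haveI hmax : p.asIdeal.IsMaximal := by
    rw [hp]; exact hV.primeIdealOf_isMaximal_of_isClosed ⟨x, hxV⟩ hxcl'
  have hnotass : p.asIdeal ∉ associatedPrimes Γ(X, V) Γ(X, V) := by
    intro h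
    apply hxF
    refine ⟨?_, hxcl⟩
    rw [hF]
    exact ⟨p, h, hpx⟩
  obtain ⟨f, hfm, hf⟩ := exists_nzd_mem p.asIdeal hnotass
  obtain ⟨hZfin, hZmax⟩ := zeroLocus_finite hAdim f hf
  have hmem : ∀ q : Spec Γ(X, V), hV.fromSpec q ∈ X.basicOpen f ↔ f ∉ q.asIdeal := by
    intro q
    have : q ∈ hV.fromSpec ⁻¹ᵁ X.basicOpen f ↔ f ∉ q.asIdeal := by
      rw [hV.fromSpec_preimage_basicOpen]; exact PrimeSpectrum.mem_basicOpen f q
    exact this
  obtain ⟨S, hS⟩ : ∃ S : Set X, S = hV.fromSpec '' PrimeSpectrum.zeroLocus ({f} : Set Γ(X, V)) :=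
    ⟨_, rfl⟩
  have hD : (V : Set X) \ (X.basicOpen f : Set X) = S := by
    rw [hS]
    ext y
    constructor
    · rintro ⟨hyV, hyf⟩
      refine ⟨hV.primeIdealOf ⟨y, hyV⟩, ?_, hV.fromSpec_primeIdealOf ⟨y, hyV⟩⟩
      refine (PrimeSpectrum.mem_zeroLocus _ _).mpr (Set.singleton_subset_iff.mpr ?_)
      by_contra hcon
      have h1 := (hmem (hV.primeIdealOf ⟨y, hyV⟩)).mpr hcon
      rw [hV.fromSpec_primeIdealOf] at h1
      exact hyf h1
    · rintro ⟨q, hq, rfl⟩
      refine ⟨?_, fun h => ?_⟩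
      · have : hV.fromSpec q ∈ Set.range hV.fromSpec := ⟨q, rfl⟩
        rw [hV.range_fromSpec] at this
        exact this
      · have hq' : f ∈ q.asIdeal :=
          Set.singleton_subset_iff.mp ((PrimeSpectrum.mem_zeroLocus _ _).mp hq)
        exact (hmem q).mp h hq'
  have hSfin : S.Finite := by rw [hS]; exact hZfin.image _
  have hScl : ∀ y ∈ S, IsClosed ({y} : Set X) := by
    intro y hy
    rw [hS] at hy
    obtain ⟨q, hq, rfl⟩ := hy
    apply isClosed_singleton_of_isLocallyClosed_singleton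
    rw [← Set.image_singleton]
    have hqc : IsClosed ({q} : Set (Spec Γ(X, V))) :=
      (PrimeSpectrum.isClosed_singleton_iff_isMaximal q).mpr (hZmax q hq)
    exact hqc.isLocallyClosed.image hV.fromSpec.isOpenEmbedding.isInducing
      hV.fromSpec.isOpenEmbedding.isOpen_range.isLocallyClosed
  have hDcl : IsClosed ((V : Set X) \ (X.basicOpen f : Set X)) := by
    rw [hD, ← Set.biUnion_of_singleton S]
    exact hSfin.isClosed_biUnion hScl
  obtain ⟨I, hI, hIs⟩ := exists_ideal V hV f hf hDcl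
  refine ⟨I, hI, x, hη ▸ hxη, ?_⟩
  rw [hIs]
  refine ⟨hxV, fun h => ?_⟩
  have h1 : hV.fromSpec p ∈ X.basicOpen f := by rw [hpx]; exact h
  exact (hmem p).mp h1 hfm

/-- finitely many irreducible closed subsets at once -/
theorem exists_effCartier_of_finite [IsNoetherian X] [JacobsonSpace X]
    (hdim : topologicalKrullDim X ≤ 1) (S : Set (Set X)) (hS : S.Finite) :
    ∃ I : X.IdealSheafData, BlowUp.IsEffCartierIdeal I ∧
      ∀ Z ∈ S, IsIrreducible Z → IsClosed Z → ¬ Z.Subsingleton →
        (Z ∩ (I.support : Set X)).Nonempty := by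
  induction S, hS using Set.Finite.induction_on with
  | empty =>
    exact ⟨⊤, Groth.Agent.Helper4.EffCartier.top, fun Z hZ => absurd hZ (Set.notMem_empty Z)⟩
  | @insert a s ha hs ih =>
    obtain ⟨I, hI, hIS⟩ := ih
    by_cases hcond : IsIrreducible a ∧ IsClosed a ∧ ¬ a.Subsingleton
    · obtain ⟨J, hJ, hJa⟩ := exists_effCartier_through hdim a hcond.1 hcond.2.1 hcond.2.2
      refine ⟨I * J, Groth.Agent.Helper4.EffCartier.mul hI hJ, ?_⟩
      intro Z hZ h1 h2 h3
      rcases hZ with rfl | hZ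
      · obtain ⟨x, hx1, hx2⟩ := hJa
        exact ⟨x, hx1, Or.inr hx2⟩
      · obtain ⟨x, hx1, hx2⟩ := hIS Z hZ h1 h2 h3
        exact ⟨x, hx1, Or.inl hx2⟩
    · refine ⟨I, hI, ?_⟩
      intro Z hZ h1 h2 h3
      rcases hZ with rfl | hZ
      · exact absurd ⟨h1, h2, h3⟩ hcond
      · exact hIS Z hZ h1 h2 h3

/-- an effective Cartier divisor meeting every irreducible component with more than one point -/
theorem exists_effCartier [IsNoetherian X] [JacobsonSpace X]
    (hdim : topologicalKrullDim X ≤ 1) :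
    ∃ I : X.IdealSheafData, BlowUp.IsEffCartierIdeal I ∧
      ∀ Z ∈ irreducibleComponents X, ¬ Z.Subsingleton → (Z ∩ (I.support : Set X)).Nonempty := by
  obtain ⟨I, hI, h⟩ := exists_effCartier_of_finite hdim (irreducibleComponents X)
    finite_irreducibleComponents_of_isNoetherian
  exact ⟨I, hI, fun Z hZ hns =>
    h Z hZ hZ.1 (isClosed_of_mem_irreducibleComponents Z hZ) hns⟩

end Groth.Agent.Helper1.Dim1Eff
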