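import Mathlib
import Groth.Agent.Lib.Helper1.SymBr1

set_option autoImplicit false
universe u
open CategoryTheory CategoryTheory.Limits AlgebraicGeometry TopologicalSpace Opposite

namespace Groth.Agent.Helper1.SymBr

open Groth.Agent.Helper1.QcCech Groth.Agent.Helper1.LGen
open Groth.Agent.Helper1 Groth.Agent.Helper1.TmulLib Groth.Agent.Helper1.TensLib
open Groth.Agent.Helper1.TwistSec Groth.Agent.Helper1.VT

section Homog
variable {X : Scheme.{u}} (𝒮 : RelProj.QCGrAlg X)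

/-- restriction in the algebra -/
noncomputable abbrev rs {W V : X.Opens} (h : V ≤ W) :
    𝒮.presheaf.obj (op W) →+* 𝒮.presheaf.obj (op V) :=
  (𝒮.presheaf.map (homOfLE h).op).hom

theorem rs_rs {W V V' : X.Opens} (h : V ≤ W) (h' : V' ≤ V) (σ : 𝒮.presheaf.obj (op W)) :
    rs 𝒮 h' (rs 𝒮 h σ) = rs 𝒮 (h'.trans h) σ := by
  change ((𝒮.presheaf.map (homOfLE h).op) ≫ (𝒮.presheaf.map (homOfLE h').op)).hom σ = _
  rw [← Functor.map_comp]
  rfl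

theorem rs_self {W : X.Opens} (h : W ≤ W) (σ : 𝒮.presheaf.obj (op W)) : rs 𝒮 h σ = σ := by
  have : (homOfLE h).op = 𝟙 (op W) := rfl
  change (𝒮.presheaf.map (homOfLE h).op).hom σ = σ
  rw [this, 𝒮.presheaf.map_id]
  rfl

theorem rs_str {W V : X.Opens} (h : V ≤ W) (r : Γ(X, W)) :
    rs 𝒮 h ((𝒮.str.app (op W)).hom r) = (𝒮.str.app (op V)).hom (resR h r) := by
  have := congrArg (fun ψ => ψ.hom r) (𝒮.str.naturality (homOfLE h).op)
  exact this.symm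

/-- a section of the algebra which is homogeneous of degree `n` over every affine open -/
def IsHomog (W : X.Opens) (σ : 𝒮.presheaf.obj (op W)) (n : ℕ) : Prop :=
  ∀ (V : X.Opens) (hV : IsAffineOpen V) (h : V ≤ W), rs 𝒮 h σ ∈ 𝒮.deg V hV n

variable {𝒮}

theorem IsHomog.res {W : X.Opens} {σ : 𝒮.presheaf.obj (op W)} {n : ℕ} (hσ : IsHomog 𝒮 W σ n)
    {W' : X.Opens} (h : W' ≤ W) : IsHomog 𝒮 W' (rs 𝒮 h σ) n := by
  intro V hV hVW
  rw [rs_rs]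
  exact hσ V hV _

theorem isHomog_of_mem {W : X.Opens} (hW : IsAffineOpen W) {σ : 𝒮.presheaf.obj (op W)} {n : ℕ}
    (hσ : σ ∈ 𝒮.deg W hW n) : IsHomog 𝒮 W σ n :=
  fun _ hV h => 𝒮.map_mem hW hV h hσ

theorem IsHomog.mem {W : X.Opens} (hW : IsAffineOpen W) {σ : 𝒮.presheaf.obj (op W)} {n : ℕ}
    (hσ : IsHomog 𝒮 W σ n) : σ ∈ 𝒮.deg W hW n := by
  have := hσ W hW le_rfl
  rwa [rs_self] at this

theorem IsHomog.mul {W : X.Opens} {σ τ : 𝒮.presheaf.obj (op W)} {n m : ℕ}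
    (hσ : IsHomog 𝒮 W σ n) (hτ : IsHomog 𝒮 W τ m) : IsHomog 𝒮 W (σ * τ) (n + m) := by
  intro V hV h
  rw [map_mul]
  exact SetLike.mul_mem_graded (hσ V hV h) (hτ V hV h)

theorem IsHomog.pow {W : X.Opens} {σ : 𝒮.presheaf.obj (op W)} {n : ℕ}
    (hσ : IsHomog 𝒮 W σ n) (k : ℕ) : IsHomog 𝒮 W (σ ^ k) (k * n) := by
  intro V hV h
  rw [map_pow]
  have := SetLike.pow_mem_graded k (hσ V hV h)
  rwa [smul_eq_mul] at this

theorem IsHomog.sub {W : X.Opens} {σ τ : 𝒮.presheaf.obj (op W)} {n : ℕ}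
    (hσ : IsHomog 𝒮 W σ n) (hτ : IsHomog 𝒮 W τ n) : IsHomog 𝒮 W (σ - τ) n := by
  intro V hV h
  rw [map_sub]
  exact sub_mem (hσ V hV h) (hτ V hV h)

theorem isHomog_str (W : X.Opens) (r : Γ(X, W)) : IsHomog 𝒮 W ((𝒮.str.app (op W)).hom r) 0 := by
  intro V hV h
  rw [rs_str]
  exact 𝒮.str_mem V hV _

theorem IsHomog.cast {W : X.Opens} {σ : 𝒮.presheaf.obj (op W)} {n m : ℕ}
    (hσ : IsHomog 𝒮 W σ n) (h : n = m) : IsHomog 𝒮 W σ m := h ▸ hσ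

/-- sections are determined locally -/
theorem eq_zero_of_locally {W : X.Opens} (σ : 𝒮.presheaf.obj (op W))
    (h : ∀ x ∈ W, ∃ (V : X.Opens) (hV : V ≤ W), x ∈ V ∧ rs 𝒮 hV σ = 0) : σ = 0 := by
  have := TwistSec.eq_of_locally 𝒮.toModule (O := W) (show Γ(𝒮.toModule, W) from σ) 0
    (fun x hx => by
      obtain ⟨V, hV, hxV, h0⟩ := h x hx
      refine ⟨V, hV, hxV, ?_⟩
      rw [map_zero]
      exact h0)
  exact this

theorem eq_of_locally' {W : X.Opens} (σ τ : 𝒮.presheaf.obj (op W))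
    (h : ∀ x ∈ W, ∃ (V : X.Opens) (hV : V ≤ W), x ∈ V ∧ rs 𝒮 hV σ = rs 𝒮 hV τ) : σ = τ := by
  rw [← sub_eq_zero]
  apply eq_zero_of_locally
  intro x hx
  obtain ⟨V, hV, hxV, h0⟩ := h x hx
  exact ⟨V, hV, hxV, by rw [map_sub, h0, sub_self]⟩

/-- homogeneity is a local property -/
theorem isHomog_of_locally {W : X.Opens} (σ : 𝒮.presheaf.obj (op W)) (n : ℕ)
    (h : ∀ x ∈ W, ∃ (V : X.Opens) (hV : V ≤ W), x ∈ V ∧ IsHomog 𝒮 V (rs 𝒮 hV σ) n) :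
    IsHomog 𝒮 W σ n := by
  classical
  intro V hV hVW
  set b := rs 𝒮 hVW σ with hb
  have hz : ∀ d, d ≠ n → ((DirectSum.decompose (𝒮.deg V hV) b d : 𝒮.deg V hV d) :
      𝒮.presheaf.obj (op V)) = 0 := by
    intro d hd
    apply eq_zero_of_locally
    intro x hxV
    obtain ⟨V₁, hV₁, hxV₁, hh⟩ := h x (hVW hxV)
    obtain ⟨_, ⟨V₂, hV₂, rfl⟩, hxV₂, hV₂le⟩ :=
      X.isBasis_affineOpens.exists_subset_of_mem_open (show x ∈ ((V ⊓ V₁ : X.Opens) : Set X) from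
        ⟨hxV, hxV₁⟩) (V ⊓ V₁).2
    have h2V : V₂ ≤ V := fun y hy => (hV₂le hy).1
    have h2V₁ : V₂ ≤ V₁ := fun y hy => (hV₂le hy).2
    refine ⟨V₂, h2V, hxV₂, ?_⟩
    have e1 := GradedRingHom.map_directSumDecompose (𝒮.deg V hV) (𝒮.deg V₂ hV₂)
      (𝒮.res hV hV₂ h2V) (x := b) (i := d)
    have e2 : (𝒮.res hV hV₂ h2V) b ∈ 𝒮.deg V₂ hV₂ n := by
      have := hh V₂ hV₂ h2V₁
      rw [rs_rs] at this
      change rs 𝒮 h2V (rs 𝒮 hVW σ) ∈ _
      rw [rs_rs]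
      exact this
    have e3 := DirectSum.decompose_of_mem_ne (𝒮.deg V₂ hV₂) e2 (Ne.symm hd)
    change (𝒮.res hV hV₂ h2V) _ = 0
    rw [e1, e3]
  have hsum := DirectSum.sum_support_decompose (𝒮.deg V hV) b
  have : b = ((DirectSum.decompose (𝒮.deg V hV) b n : 𝒮.deg V hV n) : 𝒮.presheaf.obj (op V)) := by
    conv_lhs => rw [← hsum]
    rw [Finset.sum_eq_single n]
    · intro d _ hd
      exact hz d hd
    · intro hn
      rw [DFinsupp.notMem_support_iff] at hn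
      rw [hn]
      rfl
  rw [this]
  exact SetLike.coe_mem _

end Homog

end Groth.Agent.Helper1.SymBr
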