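import Mathlib
import Groth.Agent.Lib.Helper1.SymBr2

set_option autoImplicit false
universe u
open CategoryTheory CategoryTheory.Limits AlgebraicGeometry TopologicalSpace Opposite

namespace Groth.Agent.Helper1.SymBr

open Groth.Agent.Helper1.QcCech Groth.Agent.Helper1.LGen
open Groth.Agent.Helper1 Groth.Agent.Helper1.TmulLib Groth.Agent.Helper1.TensLib
open Groth.Agent.Helper1.TwistSec Groth.Agent.Helper1.VT Groth.Agent.Helper1.SymAlg

section Span
variable {X : Scheme.{u}} (𝒮L : RelProj.QCGrAlg X)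

/-- the span property passes to basic opens -/
theorem span_basicOpen' (V : X.Opens) (hV : IsAffineOpen V) (n : ℕ) (t : 𝒮L.presheaf.obj (op V))
    (hsub : ((𝒮L.deg V hV n : AddSubgroup (𝒮L.presheaf.obj (op V))) :
      Set (𝒮L.presheaf.obj (op V))) ⊆ (Ideal.span {t} : Set (𝒮L.presheaf.obj (op V))))
    (g : Γ(X, V)) :
    ((𝒮L.deg (X.basicOpen g) (hV.basicOpen g) n :
        AddSubgroup (𝒮L.presheaf.obj (op (X.basicOpen g)))) :
      Set (𝒮L.presheaf.obj (op (X.basicOpen g)))) ⊆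
        (Ideal.span {rs 𝒮L (X.basicOpen_le g) t} :
          Set (𝒮L.presheaf.obj (op (X.basicOpen g)))) := by
  classical
  intro b' hb'
  let ψ := 𝒮L.res hV (hV.basicOpen g) (X.basicOpen_le g)
  let _inst := (𝒮L.presheaf.map (homOfLE (X.basicOpen_le g)).op).hom.toAlgebra
  let c := (𝒮L.str.app (op V)).hom g
  have hloc : IsLocalization.Away c (𝒮L.presheaf.obj (op (X.basicOpen g))) := 𝒮L.isQC V hV g
  obtain ⟨⟨a, t', ht⟩, hat⟩ := IsLocalization.surj (Submonoid.powers c) b'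
  obtain ⟨k, rfl⟩ := (Submonoid.mem_powers_iff _ _).mp ht
  change b' * ψ (c ^ k) = ψ a at hat
  have hu : IsUnit (ψ (c ^ k)) :=
    IsLocalization.map_units (M := Submonoid.powers c)
      (𝒮L.presheaf.obj (op (X.basicOpen g))) ⟨c ^ k, k, rfl⟩
  have hc0 : ψ (c ^ k) ∈ 𝒮L.deg (X.basicOpen g) (hV.basicOpen g) 0 := by
    rw [map_pow]
    exact SetLike.pow_mem_graded _ (ψ.map_mem (𝒮L.str_mem V hV g))
  have hgm : b' * ψ (c ^ k) ∈ 𝒮L.deg (X.basicOpen g) (hV.basicOpen g) n := by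
    simpa only [add_zero] using
      SetLike.mul_mem_graded (A := 𝒮L.deg (X.basicOpen g) (hV.basicOpen g)) hb' hc0
  have hxi : ψ (DirectSum.decompose (𝒮L.deg V hV) a n : 𝒮L.presheaf.obj (op V)) =
      b' * ψ (c ^ k) := by
    rw [GradedRingHom.map_directSumDecompose, ← hat, DirectSum.decompose_of_mem_same _ hgm]
  have hmem := hsub (SetLike.coe_mem (DirectSum.decompose (𝒮L.deg V hV) a n))
  rw [SetLike.mem_coe, Ideal.mem_span_singleton'] at hmem ⊢
  obtain ⟨d, hd⟩ := hmem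
  obtain ⟨w, hw⟩ := hu
  refine ⟨ψ d * ↑w⁻¹, ?_⟩
  change ψ d * ↑w⁻¹ * ψ t = b'
  rw [mul_assoc, mul_comm (↑w⁻¹ : 𝒮L.presheaf.obj (op (X.basicOpen g))), ← mul_assoc,
    ← map_mul, hd, hxi, ← hw, mul_assoc, Units.mul_inv, mul_one]

end Span

section Sym
variable {X : Scheme.{u}} (L : X.Modules)
  {𝒮L : RelProj.QCGrAlg X} {j : L ⟶ 𝒮L.toModule} (hj : RelProj.IsGrSymAlg L 𝒮L j)

/-- the monomial `str r * (j a)^n` -/
noncomputable def mono (j : L ⟶ 𝒮L.toModule) (V : X.Opens) (r : Γ(X, V)) (a : Γ(L, V)) (n : ℕ) :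
    𝒮L.presheaf.obj (op V) :=
  (𝒮L.str.app (op V)).hom r * val (A := 𝒮L.toQCAlg) j V a ^ n

variable {L}

theorem rs_mono {V V' : X.Opens} (h : V' ≤ V) (r : Γ(X, V)) (a : Γ(L, V)) (n : ℕ) :
    rs 𝒮L h (mono L j V r a n) = mono L j V' (resR h r) (res L h a) n := by
  unfold mono
  rw [map_mul, map_pow, rs_str, val_res]

theorem mono_mul_mono {V : X.Opens} (r r' : Γ(X, V)) (a : Γ(L, V)) (n m : ℕ) :
    mono L j V r a n * mono L j V r' a m = mono L j V (r * r') a (n + m) := by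
  unfold mono
  rw [map_mul, pow_add]
  ring

theorem mono_pow {V : X.Opens} (r : Γ(X, V)) (a : Γ(L, V)) (n k : ℕ) :
    mono L j V r a n ^ k = mono L j V (r ^ k) a (k * n) := by
  unfold mono
  rw [mul_pow, map_pow, ← pow_mul, mul_comm n k]

theorem str_mul_mono {V : X.Opens} (t r : Γ(X, V)) (a : Γ(L, V)) (n : ℕ) :
    (𝒮L.str.app (op V)).hom t * mono L j V r a n = mono L j V (t * r) a n := by
  unfold mono
  rw [map_mul, mul_assoc]

theorem mono_sub {V : X.Opens} (r r' : Γ(X, V)) (a : Γ(L, V)) (n : ℕ) :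
    mono L j V r a n - mono L j V r' a n = mono L j V (r - r') a n := by
  unfold mono
  rw [map_sub, sub_mul]

theorem mono_zero {V : X.Opens} (a : Γ(L, V)) (n : ℕ) : mono L j V 0 a n = 0 := by
  unfold mono
  rw [map_zero, zero_mul]

include hj in
theorem mono_mem {V : X.Opens} (hV : IsAffineOpen V) (r : Γ(X, V)) (a : Γ(L, V)) (n : ℕ) :
    mono L j V r a n ∈ 𝒮L.deg V hV n := by
  unfold mono
  have h1 : val (A := 𝒮L.toQCAlg) j V a ∈ 𝒮L.deg V hV 1 := hj.2 V hV a
  have h2 := SetLike.pow_mem_graded n h1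
  have h3 := SetLike.mul_mem_graded (𝒮L.str_mem V hV r) h2
  simpa using h3

variable [L.IsQuasicoherent]

include hj in
theorem exists_mono {V : X.Opens} (hV : IsAffineOpen V) {a : Γ(L, V)} (ha : IsGen L V a)
    (n : ℕ) (b : 𝒮L.presheaf.obj (op V)) (hb : b ∈ 𝒮L.deg V hV n) :
    ∃ r : Γ(X, V), b = mono L j V r a n :=
  SymInvLoc.exists_coeff L hj V hV a ha n b hb

include hj in
theorem mono_eq_zero {V : X.Opens} (hV : IsAffineOpen V) {a : Γ(L, V)} (ha : IsGen L V a)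
    (n : ℕ) (r : Γ(X, V)) (h : mono L j V r a n = 0) : r = 0 := by
  have hbij : Function.Bijective (fun r : Γ(X, V) => r • a) := by
    have := ha V le_rfl
    simpa only [res_self] using this
  obtain ⟨c, hc1, hc2, hle, hge⟩ := exists_gradedEquiv L hj V hV
  apply SymRk1.eq_zero_of_mul_pow a hbij r n
  apply c.injective
  rw [map_mul, map_pow, hc1, hc2, map_zero]
  exact h

include hj in
theorem mono_inj {V : X.Opens} (hV : IsAffineOpen V) {a : Γ(L, V)} (ha : IsGen L V a)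
    (n : ℕ) (r r' : Γ(X, V)) (h : mono L j V r a n = mono L j V r' a n) : r = r' := by
  rw [← sub_eq_zero]
  apply mono_eq_zero hj hV ha n
  rw [← mono_sub, h, sub_self]

end Sym

end Groth.Agent.Helper1.SymBr
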