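import Mathlib
import Groth.Agent.Lib.Helper1.SymBr3

set_option autoImplicit false
universe u
open CategoryTheory CategoryTheory.Limits AlgebraicGeometry TopologicalSpace Opposite

namespace Groth.Agent.Helper1.SymBr

open Groth.Agent.Helper1.QcCech Groth.Agent.Helper1.LGen
open Groth.Agent.Helper1 Groth.Agent.Helper1.TmulLib Groth.Agent.Helper1.TensLib
open Groth.Agent.Helper1.TwistSec Groth.Agent.Helper1.VT Groth.Agent.Helper1.SymAlg

section NZ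
variable {X : Scheme.{u}} (𝒮L : RelProj.QCGrAlg X)

/-- the non-vanishing locus of a section homogeneous of degree `n` -/
def nz (W : X.Opens) (n : ℕ) (σ : 𝒮L.presheaf.obj (op W)) : X.Opens :=
  ⨆ V : {V : X.affineOpens // ∃ h : (V.1 : X.Opens) ≤ W,
      ((𝒮L.deg V.1 V.2 n : AddSubgroup (𝒮L.presheaf.obj (op (V.1 : X.Opens)))) :
        Set (𝒮L.presheaf.obj (op (V.1 : X.Opens)))) ⊆
        (Ideal.span {rs 𝒮L h σ} : Set (𝒮L.presheaf.obj (op (V.1 : X.Opens))))}, (V.1.1 : X.Opens)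

variable {𝒮L}

theorem mem_nz_iff {W : X.Opens} {n : ℕ} {σ : 𝒮L.presheaf.obj (op W)} {x : X} :
    x ∈ nz 𝒮L W n σ ↔ ∃ (V : X.Opens) (hV : IsAffineOpen V) (h : V ≤ W), x ∈ V ∧
      ((𝒮L.deg V hV n : AddSubgroup (𝒮L.presheaf.obj (op V))) : Set (𝒮L.presheaf.obj (op V))) ⊆
        (Ideal.span {rs 𝒮L h σ} : Set (𝒮L.presheaf.obj (op V))) := by
  constructor
  · intro hx
    obtain ⟨⟨⟨V, (hV : IsAffineOpen V)⟩, h, hspan⟩, hxV⟩ := Opens.mem_iSup.1 hx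
    exact ⟨V, hV, h, hxV, hspan⟩
  · rintro ⟨V, hV, h, hxV, hspan⟩
    exact Opens.mem_iSup.2 ⟨⟨⟨V, hV⟩, h, hspan⟩, hxV⟩

theorem nz_le {W : X.Opens} {n : ℕ} {σ : 𝒮L.presheaf.obj (op W)} : nz 𝒮L W n σ ≤ W := by
  intro x hx
  obtain ⟨V, hV, h, hxV, -⟩ := mem_nz_iff.1 hx
  exact h hxV

theorem nz_res {W W' : X.Opens} (h : W' ≤ W) (n : ℕ) (σ : 𝒮L.presheaf.obj (op W)) :
    nz 𝒮L W' n (rs 𝒮L h σ) = nz 𝒮L W n σ ⊓ W' := by
  apply le_antisymm
  · intro x hx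
    obtain ⟨V, hV, hVW', hxV, hspan⟩ := mem_nz_iff.1 hx
    refine ⟨mem_nz_iff.2 ⟨V, hV, hVW'.trans h, hxV, ?_⟩, hVW' hxV⟩
    rwa [rs_rs] at hspan
  · rintro x ⟨hx, hxW'⟩
    obtain ⟨V, hV, hVW, hxV, hspan⟩ := mem_nz_iff.1 hx
    obtain ⟨g, hg, hxg⟩ := hV.exists_basicOpen_le (V := W' ⊓ V) ⟨x, ⟨hxW', hxV⟩⟩ hxV
    have hgW' : X.basicOpen g ≤ W' := hg.trans inf_le_left
    refine mem_nz_iff.2 ⟨X.basicOpen g, hV.basicOpen g, hgW', hxg, ?_⟩
    have := span_basicOpen' 𝒮L V hV n _ hspan g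
    rwa [rs_rs] at this ⊢

end NZ

section F1
variable {X : Scheme.{u}} {L : X.Modules} [L.IsQuasicoherent]
  {𝒮L : RelProj.QCGrAlg X} {j : L ⟶ 𝒮L.toModule} (hj : RelProj.IsGrSymAlg L 𝒮L j)

include hj in
theorem nz_mono {V : X.Opens} (hV : IsAffineOpen V) {a : Γ(L, V)} (ha : IsGen L V a)
    (n : ℕ) (r : Γ(X, V)) : nz 𝒮L V n (mono L j V r a n) = X.basicOpen r := by
  classical
  apply le_antisymm
  · intro x hx
    obtain ⟨V', hV', hV'V, hxV', hspan⟩ := mem_nz_iff.1 hx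
    have ha' := ha.res hV'V
    rw [rs_mono] at hspan
    have h1 : mono L j V' 1 (res L hV'V a) n ∈ 𝒮L.deg V' hV' n := mono_mem hj hV' _ _ _
    have h2 := hspan h1
    rw [SetLike.mem_coe, Ideal.mem_span_singleton'] at h2
    obtain ⟨y, hy⟩ := h2
    have hm : mono L j V' (resR hV'V r) (res L hV'V a) n ∈ 𝒮L.deg V' hV' n :=
      mono_mem hj hV' _ _ _
    have h3 := DirectSum.coe_decompose_mul_of_right_mem_of_le (𝒮L.deg V' hV') (a := y) hm le_rfl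
    rw [hy, DirectSum.decompose_of_mem_same _ h1, Nat.sub_self] at h3
    obtain ⟨c, hc⟩ := exists_mono hj hV' ha' 0 _
      (SetLike.coe_mem (DirectSum.decompose (𝒮L.deg V' hV') y 0))
    rw [hc, mono_mul_mono, zero_add] at h3
    have h4 := mono_inj hj hV' ha' n _ _ h3
    have hunit : IsUnit (resR hV'V r) := IsUnit.of_mul_eq_one c (by rw [mul_comm]; exact h4.symm)
    have h5 : X.basicOpen (resR hV'V r) = V' := Scheme.basicOpen_of_isUnit X hunit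
    have h6 : X.basicOpen (resR hV'V r) = V' ⊓ X.basicOpen r :=
      Scheme.basicOpen_res X r (homOfLE hV'V).op
    rw [h5] at h6
    have : x ∈ V' ⊓ X.basicOpen r := h6 ▸ hxV'
    exact this.2
  · intro x hx
    refine mem_nz_iff.2 ⟨X.basicOpen r, hV.basicOpen r, X.basicOpen_le r, hx, ?_⟩
    intro b' hb'
    have ha' := ha.res (X.basicOpen_le r)
    obtain ⟨r', hr'⟩ := exists_mono hj (hV.basicOpen r) ha' n b' hb'
    have hunit : IsUnit (resR (X.basicOpen_le r) r) :=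
      RingedSpace.isUnit_res_basicOpen X.toRingedSpace r
    obtain ⟨w, hw⟩ := hunit
    rw [SetLike.mem_coe, Ideal.mem_span_singleton', rs_mono]
    refine ⟨(𝒮L.str.app (op (X.basicOpen r))).hom (r' * (↑w⁻¹ : Γ(X, X.basicOpen r))), ?_⟩
    rw [str_mul_mono, hr', ← hw, mul_assoc, Units.inv_mul, mul_one]

include hj in
/-- **the non-vanishing locus in a chart** -/
theorem nz_inf_eq_basicOpen {W : X.Opens} {n : ℕ} {σ : 𝒮L.presheaf.obj (op W)}
    {V : X.Opens} (hV : IsAffineOpen V) (hVW : V ≤ W) {a : Γ(L, V)} (ha : IsGen L V a)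
    (r : Γ(X, V)) (hr : rs 𝒮L hVW σ = mono L j V r a n) :
    nz 𝒮L W n σ ⊓ V = X.basicOpen r := by
  rw [← nz_res hVW, hr, nz_mono hj hV ha]

end F1

end Groth.Agent.Helper1.SymBr
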