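import Mathlib
import Groth.Agent.Lib.Helper1.SymBr4

set_option autoImplicit false
universe u
open CategoryTheory CategoryTheory.Limits AlgebraicGeometry TopologicalSpace Opposite

namespace Groth.Agent.Helper1.SymBr

open Groth.Agent.Helper1.QcCech Groth.Agent.Helper1.LGen
open Groth.Agent.Helper1 Groth.Agent.Helper1.TmulLib Groth.Agent.Helper1.TensLib
open Groth.Agent.Helper1.TwistSec Groth.Agent.Helper1.VT Groth.Agent.Helper1.SymAlg

section Aff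
variable {X : Scheme.{u}}

theorem exists_pow_mul_eq_zero_aff {V : X.Opens} (hV : IsAffineOpen V) (x f : Γ(X, V))
    (H : resR (X.basicOpen_le f) x = 0) : ∃ n : ℕ, f ^ n * x = 0 :=
  exists_pow_mul_eq_zero_of_res_basicOpen_eq_zero_of_isAffineOpen X hV x f H

theorem exists_eq_pow_mul_aff {V : X.Opens} (hV : IsAffineOpen V) (f : Γ(X, V))
    (x : Γ(X, X.basicOpen f)) :
    ∃ (n : ℕ) (y : Γ(X, V)), resR (X.basicOpen_le f) y = resR (X.basicOpen_le f) f ^ n * x :=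
  exists_eq_pow_mul_of_isAffineOpen X V hV f x

end Aff

section Charts
variable {X : Scheme.{u}} (L : X.Modules) [L.IsQuasicoherent]
  {𝒮L : RelProj.QCGrAlg X} (j : L ⟶ 𝒮L.toModule) 

/-- a chart for a homogeneous section -/
structure Chart (W : X.Opens) (n : ℕ) (σ : 𝒮L.presheaf.obj (op W)) where
  V : X.Opens
  hV : IsAffineOpen V
  le : V ≤ W
  a : Γ(L, V)
  gen : IsGen L V a
  r : Γ(X, V)
  hr : rs 𝒮L le σ = mono L j V r a n

variable {L j} (hj : RelProj.IsGrSymAlg L 𝒮L j)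

include hj in
theorem exists_chart (hL : PicF.IsInvertible L) {W : X.Opens} {n : ℕ}
    {σ : 𝒮L.presheaf.obj (op W)} (hσ : IsHomog 𝒮L W σ n) (x : X) (hx : x ∈ W) :
    ∃ c : Chart L j W n σ, x ∈ c.V := by
  obtain ⟨W₀, a₀, hxW₀, ha₀⟩ := exists_isGen hL x
  obtain ⟨_, ⟨V, hV, rfl⟩, hxV, hVle⟩ :=
    X.isBasis_affineOpens.exists_subset_of_mem_open (show x ∈ ((W₀ ⊓ W : X.Opens) : Set X) from
      ⟨hxW₀, hx⟩) (W₀ ⊓ W).2
  have hVW₀ : V ≤ W₀ := fun y hy => (hVle hy).1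
  have hVW : V ≤ W := fun y hy => (hVle hy).2
  have ha := ha₀.res hVW₀
  obtain ⟨r, hr⟩ := exists_mono hj hV ha n _ (hσ V hV hVW)
  exact ⟨⟨V, hV, hVW, _, ha, r, hr⟩, hxV⟩

include hj in
theorem Chart.nz_inf {W : X.Opens} {n : ℕ} {σ : 𝒮L.presheaf.obj (op W)} (c : Chart L j W n σ) :
    nz 𝒮L W n σ ⊓ c.V = X.basicOpen c.r :=
  nz_inf_eq_basicOpen hj c.hV c.le c.gen c.r c.hr

omit [L.IsQuasicoherent] in
theorem Chart.basicOpen_le {W : X.Opens} {n : ℕ} {σ : 𝒮L.presheaf.obj (op W)}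
    (c : Chart L j W n σ) : X.basicOpen c.r ≤ W := (X.basicOpen_le c.r).trans c.le

include hj in
theorem Chart.basicOpen_le_nz {W : X.Opens} {n : ℕ} {σ : 𝒮L.presheaf.obj (op W)}
    (c : Chart L j W n σ) : X.basicOpen c.r ≤ nz 𝒮L W n σ := by
  rw [← c.nz_inf hj]; exact inf_le_left

include hj in
/-- **killing sections vanishing on the non-vanishing locus**, on a chart -/
theorem Chart.exists_kill {W : X.Opens} {n : ℕ} {σ : 𝒮L.presheaf.obj (op W)}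
    (c : Chart L j W n σ) {d : ℕ} {σ' : 𝒮L.presheaf.obj (op W)} (hσ' : IsHomog 𝒮L W σ' d)
    (h0 : rs 𝒮L (nz_le : nz 𝒮L W n σ ≤ W) σ' = 0) :
    ∃ k : ℕ, ∀ k', k ≤ k' → rs 𝒮L c.le (σ ^ k' * σ') = 0 := by
  obtain ⟨r', hr'⟩ := exists_mono hj c.hV c.gen d _ (hσ' c.V c.hV c.le)
  have h1 : rs 𝒮L (c.basicOpen_le) σ' = 0 := by
    have := congrArg (rs 𝒮L (c.basicOpen_le_nz hj)) h0
    rwa [rs_rs, map_zero] at this
  have h2 : mono L j (X.basicOpen c.r) (resR (X.basicOpen_le c.r) r')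
      (res L (X.basicOpen_le c.r) c.a) d = 0 := by
    rw [← rs_mono, ← hr', rs_rs]
    exact h1
  have h3 := mono_eq_zero hj (c.hV.basicOpen c.r) (c.gen.res (X.basicOpen_le c.r)) d _ h2
  obtain ⟨k, hk⟩ := exists_pow_mul_eq_zero_aff c.hV r' c.r h3
  refine ⟨k, fun k' hk' => ?_⟩
  rw [map_mul, map_pow, c.hr, hr', mono_pow, mono_mul_mono]
  obtain ⟨e, rfl⟩ := Nat.exists_eq_add_of_le hk'
  rw [pow_add, mul_comm (c.r ^ k), mul_assoc, hk, mul_zero, mono_zero]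

include hj in
/-- **killing sections vanishing on the non-vanishing locus** -/
theorem exists_kill (hL : PicF.IsInvertible L) {W : X.Opens} (hWc : IsCompact (W : Set X))
    {n : ℕ} {σ : 𝒮L.presheaf.obj (op W)} (hσ : IsHomog 𝒮L W σ n) {d : ℕ}
    {σ' : 𝒮L.presheaf.obj (op W)} (hσ' : IsHomog 𝒮L W σ' d)
    (h0 : rs 𝒮L (nz_le : nz 𝒮L W n σ ≤ W) σ' = 0) :
    ∃ k : ℕ, ∀ k', k ≤ k' → σ ^ k' * σ' = 0 := by
  classical
  choose c hc using fun x : W => exists_chart hj hL hσ x.1 x.2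
  obtain ⟨S, hS⟩ := hWc.elim_finite_subcover (fun x : W => ((c x).V : Set X))
    (fun x => (c x).V.isOpen) (fun x hx => Set.mem_iUnion.2 ⟨⟨x, hx⟩, hc ⟨x, hx⟩⟩)
  choose k hk using fun x : W => (c x).exists_kill hj hσ' h0
  refine ⟨S.sup k, fun k' hk' => ?_⟩
  apply eq_zero_of_locally
  intro x hx
  obtain ⟨y, hyS, hxy⟩ : ∃ y ∈ S, x ∈ (c y).V := by simpa using hS hx
  exact ⟨(c y).V, (c y).le, hxy, hk y k' ((Finset.le_sup hyS).trans hk')⟩

omit [L.IsQuasicoherent] in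
theorem glue' {ι : Type*} (Wf : ι → X.Opens) (O : X.Opens) (hWO : ∀ i, Wf i ≤ O)
    (hcov : O ≤ ⨆ i, Wf i) (sf : ∀ i, 𝒮L.presheaf.obj (op (Wf i)))
    (hc : ∀ i j, rs 𝒮L (inf_le_left : Wf i ⊓ Wf j ≤ Wf i) (sf i) =
      rs 𝒮L (inf_le_right : Wf i ⊓ Wf j ≤ Wf j) (sf j)) :
    ∃ s : 𝒮L.presheaf.obj (op O), ∀ i, rs 𝒮L (hWO i) s = sf i :=
  glue_of_compatible 𝒮L.toModule Wf O hWO hcov sf hc

include hj in
/-- local extension on a chart -/
theorem Chart.exists_local_ext {W : X.Opens} {n : ℕ} {σ : 𝒮L.presheaf.obj (op W)}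
    (c : Chart L j W n σ) (t : Γ(X, nz 𝒮L W n σ)) :
    ∃ m₀ : ℕ, ∀ m, m₀ ≤ m → ∃ e : Γ(X, c.V),
      rs 𝒮L (X.basicOpen_le c.r) (mono L j c.V e c.a (m * n)) =
        (𝒮L.str.app (op (X.basicOpen c.r))).hom (resR (c.basicOpen_le_nz hj) t) *
          rs 𝒮L c.basicOpen_le σ ^ m := by
  obtain ⟨k, y, hy⟩ := exists_eq_pow_mul_aff c.hV c.r (resR (c.basicOpen_le_nz hj) t)
  refine ⟨k, fun m hm => ?_⟩
  obtain ⟨e', rfl⟩ := Nat.exists_eq_add_of_le hm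
  refine ⟨c.r ^ e' * y, ?_⟩
  have h1 : rs 𝒮L c.basicOpen_le σ = mono L j (X.basicOpen c.r) (resR (X.basicOpen_le c.r) c.r)
      (res L (X.basicOpen_le c.r) c.a) n := by
    rw [← rs_mono, ← c.hr, rs_rs]
  rw [h1, mono_pow, str_mul_mono, rs_mono, map_mul, map_pow, hy]
  congr 1
  ring

include hj in
/-- propagation of the local extension property to smaller opens -/
theorem Chart.ext_res {W : X.Opens} {n : ℕ} {σ : 𝒮L.presheaf.obj (op W)}
    (c : Chart L j W n σ) (t : Γ(X, nz 𝒮L W n σ)) (m : ℕ) (τ : 𝒮L.presheaf.obj (op c.V))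
    (hτ : rs 𝒮L (X.basicOpen_le c.r) τ =
        (𝒮L.str.app (op (X.basicOpen c.r))).hom (resR (c.basicOpen_le_nz hj) t) *
          rs 𝒮L c.basicOpen_le σ ^ m)
    {N : X.Opens} (hN : N ≤ X.basicOpen c.r) :
    rs 𝒮L (hN.trans (X.basicOpen_le c.r)) τ =
      (𝒮L.str.app (op N)).hom (resR (hN.trans (c.basicOpen_le_nz hj)) t) *
        rs 𝒮L (hN.trans c.basicOpen_le) σ ^ m := by
  have := congrArg (rs 𝒮L hN) hτ
  rwa [rs_rs, map_mul, map_pow, rs_str, resR_resR, rs_rs] at this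

end Charts

end Groth.Agent.Helper1.SymBr
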