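import Mathlib
import Groth.Agent.Lib.Helper1.SymBr5

set_option autoImplicit false
universe u
open CategoryTheory CategoryTheory.Limits AlgebraicGeometry TopologicalSpace Opposite

namespace Groth.Agent.Helper1.SymBr

open Groth.Agent.Helper1.QcCech Groth.Agent.Helper1.LGen
open Groth.Agent.Helper1 Groth.Agent.Helper1.TmulLib Groth.Agent.Helper1.TensLib
open Groth.Agent.Helper1.TwistSec Groth.Agent.Helper1.VT Groth.Agent.Helper1.SymAlg

section Ext
variable {X : Scheme.{u}} {L : X.Modules} [L.IsQuasicoherent]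
  {𝒮L : RelProj.QCGrAlg X} {j : L ⟶ 𝒮L.toModule} (hj : RelProj.IsGrSymAlg L 𝒮L j)

include hj in
/-- **extension of functions on the non-vanishing locus after multiplication by a power** -/
theorem exists_extension (hL : PicF.IsInvertible L) {W : X.Opens} (hWc : IsCompact (W : Set X))
    (hWs : ∀ V V' : X.Opens, IsAffineOpen V → IsAffineOpen V' → V ≤ W → V' ≤ W →
      IsCompact ((V ⊓ V' : X.Opens) : Set X))
    {n : ℕ} {σ : 𝒮L.presheaf.obj (op W)} (hσ : IsHomog 𝒮L W σ n) (t : Γ(X, nz 𝒮L W n σ)) :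
    ∃ (m : ℕ) (_ : 0 < m) (σ' : 𝒮L.presheaf.obj (op W)), IsHomog 𝒮L W σ' (m * n) ∧
      rs 𝒮L (nz_le : nz 𝒮L W n σ ≤ W) σ' =
        (𝒮L.str.app (op (nz 𝒮L W n σ))).hom t * rs 𝒮L nz_le σ ^ m := by
  classical
  choose c hc using fun x : W => exists_chart hj hL hσ x.1 x.2
  obtain ⟨S, hS⟩ := hWc.elim_finite_subcover (fun x : W => ((c x).V : Set X))
    (fun x => (c x).V.isOpen) (fun x hx => Set.mem_iUnion.2 ⟨⟨x, hx⟩, hc ⟨x, hx⟩⟩)
  have hcov : ∀ x₀ ∈ W, ∃ y ∈ S, x₀ ∈ (c y).V := by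
    intro x₀ hx₀
    simpa using hS hx₀
  choose m₀ hm₀ using fun x : W => (c x).exists_local_ext hj t
  set m := S.sup m₀ + 1 with hm
  have hmx : ∀ x ∈ S, m₀ x ≤ m := fun x hx => (Finset.le_sup hx).trans (Nat.le_succ _)
  have h1 : ∀ x : W, ∃ e : Γ(X, (c x).V), x ∈ S →
      rs 𝒮L (X.basicOpen_le (c x).r) (mono L j (c x).V e (c x).a (m * n)) =
        (𝒮L.str.app (op (X.basicOpen (c x).r))).hom (resR ((c x).basicOpen_le_nz hj) t) *
          rs 𝒮L (c x).basicOpen_le σ ^ m := by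
    intro x
    by_cases hx : x ∈ S
    · obtain ⟨e, he⟩ := hm₀ x m (hmx x hx)
      exact ⟨e, fun _ => he⟩
    · exact ⟨0, fun h => absurd h hx⟩
  choose e hτ using h1
  let τ : ∀ x : W, 𝒮L.presheaf.obj (op (c x).V) :=
    fun x => mono L j (c x).V (e x) (c x).a (m * n)
  have hτh : ∀ x, IsHomog 𝒮L (c x).V (τ x) (m * n) :=
    fun x => isHomog_of_mem (c x).hV (mono_mem hj (c x).hV _ _ _)
  -- compatibility exponents
  have h2 : ∀ x y : W, ∃ k : ℕ, x ∈ S → y ∈ S → ∀ k', k ≤ k' →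
      rs 𝒮L ((inf_le_left : (c x).V ⊓ (c y).V ≤ (c x).V).trans (c x).le) σ ^ k' *
        (rs 𝒮L (inf_le_left : (c x).V ⊓ (c y).V ≤ (c x).V) (τ x) -
          rs 𝒮L (inf_le_right : (c x).V ⊓ (c y).V ≤ (c y).V) (τ y)) = 0 := by
    intro x y
    by_cases hx : x ∈ S
    · by_cases hy : y ∈ S
      · have hcomp := hWs _ _ (c x).hV (c y).hV (c x).le (c y).le
        have hle : (c x).V ⊓ (c y).V ≤ W := inf_le_left.trans (c x).le
        have hσxy := hσ.res hle
        have hδ : IsHomog 𝒮L ((c x).V ⊓ (c y).V)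
            (rs 𝒮L (inf_le_left : (c x).V ⊓ (c y).V ≤ (c x).V) (τ x) -
              rs 𝒮L (inf_le_right : (c x).V ⊓ (c y).V ≤ (c y).V) (τ y)) (m * n) :=
          ((hτh x).res _).sub ((hτh y).res _)
        have hNx : nz 𝒮L ((c x).V ⊓ (c y).V) n (rs 𝒮L hle σ) ≤ X.basicOpen (c x).r := by
          rw [nz_res, ← (c x).nz_inf hj]
          exact inf_le_inf_left _ inf_le_left
        have hNy : nz 𝒮L ((c x).V ⊓ (c y).V) n (rs 𝒮L hle σ) ≤ X.basicOpen (c y).r := by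
          rw [nz_res, ← (c y).nz_inf hj]
          exact inf_le_inf_left _ inf_le_right
        have h0 : rs 𝒮L (nz_le : nz 𝒮L ((c x).V ⊓ (c y).V) n (rs 𝒮L hle σ) ≤ _)
            (rs 𝒮L (inf_le_left : (c x).V ⊓ (c y).V ≤ (c x).V) (τ x) -
              rs 𝒮L (inf_le_right : (c x).V ⊓ (c y).V ≤ (c y).V) (τ y)) = 0 := by
          rw [map_sub, rs_rs, rs_rs]
          have e1 := (c x).ext_res hj t m (τ x) (hτ x hx) hNx
          have e2 := (c y).ext_res hj t m (τ y) (hτ y hy) hNy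
          rw [sub_eq_zero]
          exact e1.trans e2.symm
        obtain ⟨k, hk⟩ := exists_kill hj hL hcomp hσxy hδ h0
        exact ⟨k, fun _ _ => hk⟩
      · exact ⟨0, fun _ h => absurd h hy⟩
    · exact ⟨0, fun h => absurd h hx⟩
  choose k hk using h2
  let K := S.sup fun x => S.sup fun y => k x y
  have hK : ∀ x ∈ S, ∀ y ∈ S, k x y ≤ K := by
    intro x hx y hy
    have h1 : k x y ≤ S.sup fun y => k x y := Finset.le_sup (f := fun y => k x y) hy
    have h2 : (S.sup fun y => k x y) ≤ S.sup fun x => S.sup fun y => k x y :=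
      Finset.le_sup (f := fun x => S.sup fun y => k x y) hx
    exact h1.trans h2
  obtain ⟨σ', hσ'⟩ := glue' (fun x : S => (c x.1).V) W (fun x => (c x.1).le)
    (by
      intro x₀ hx₀
      obtain ⟨y, hyS, hy⟩ := hcov x₀ hx₀
      exact Opens.mem_iSup.2 ⟨⟨y, hyS⟩, hy⟩)
    (fun x => rs 𝒮L (c x.1).le σ ^ K * τ x.1)
    (by
      intro x y
      rw [map_mul, map_mul, map_pow, map_pow, rs_rs, rs_rs, ← sub_eq_zero]
      have := hk x.1 y.1 x.2 y.2 K (hK x.1 x.2 y.1 y.2)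
      rw [mul_sub] at this
      exact this)
  refine ⟨K + m, by omega, σ', ?_, ?_⟩
  · apply isHomog_of_locally
    intro x₀ hx₀
    obtain ⟨y, hyS, hy⟩ := hcov x₀ hx₀
    refine ⟨(c y).V, (c y).le, hy, ?_⟩
    rw [hσ' ⟨y, hyS⟩]
    exact (((hσ.res (c y).le).pow K).mul (hτh y)).cast (by ring)
  · apply eq_of_locally'
    intro x₀ hx₀
    obtain ⟨y, hyS, hy⟩ := hcov x₀ (nz_le hx₀)
    have hx₀r : x₀ ∈ X.basicOpen (c y).r := by
      rw [← (c y).nz_inf hj]; exact ⟨hx₀, hy⟩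
    refine ⟨X.basicOpen (c y).r, (c y).basicOpen_le_nz hj, hx₀r, ?_⟩
    rw [rs_rs, map_mul, map_pow, rs_rs, rs_str]
    have e1 : rs 𝒮L (c y).basicOpen_le σ' =
        rs 𝒮L (X.basicOpen_le (c y).r) (rs 𝒮L (c y).le σ') := by rw [rs_rs]
    rw [e1, hσ' ⟨y, hyS⟩, map_mul, map_pow, rs_rs, hτ y hyS, pow_add]
    ring

end Ext

end Groth.Agent.Helper1.SymBr
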