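import Mathlib
import Groth.Agent.Lib.Helper1.SymBr6
import Groth.Agent.Lib.Helper1.AmpleRestr

set_option autoImplicit false
universe u
open CategoryTheory CategoryTheory.Limits AlgebraicGeometry TopologicalSpace Opposite

namespace Groth.Agent.Helper1.SymBr

open Groth.Agent.Helper1.QcCech Groth.Agent.Helper1.LGen
open Groth.Agent.Helper1 Groth.Agent.Helper1.TmulLib Groth.Agent.Helper1.TensLib
open Groth.Agent.Helper1.TwistSec Groth.Agent.Helper1.VT Groth.Agent.Helper1.SymAlg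
open Groth.Agent.Helper1.AmpleLib Groth.Agent.Helper1.TwForm

section Gl
variable {X : Scheme.{u}}

/-- the generating locus of a multiple of a generator -/
theorem gl_smul_gen {L : X.Modules} {V : X.Opens} {g : Γ(L, V)} (hg : IsGen L V g)
    (c : Γ(X, V)) : gl L (c • g) = X.basicOpen c := by
  apply le_antisymm
  · intro x hx
    obtain ⟨V', hV', hxV', hgen⟩ := (mem_gl_iff L _ x).1 hx
    rw [res_smul] at hgen
    have hunit : IsUnit (resR hV' c) := isUnit_of_isGen_smul (hg.res hV') hgen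
    have h5 : X.basicOpen (resR hV' c) = V' := Scheme.basicOpen_of_isUnit X hunit
    have h6 : X.basicOpen (resR hV' c) = V' ⊓ X.basicOpen c :=
      Scheme.basicOpen_res X c (homOfLE hV').op
    rw [h5] at h6
    have : x ∈ V' ⊓ X.basicOpen c := h6 ▸ hxV'
    exact this.2
  · apply le_gl L _ (X.basicOpen_le c)
    rw [res_smul]
    have hunit : IsUnit (resR (X.basicOpen_le c) c) :=
      RingedSpace.isUnit_res_basicOpen X.toRingedSpace c
    obtain ⟨w, hw⟩ := hunit
    rw [← hw]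
    exact IsGen.smul_unit (hg.res (X.basicOpen_le c)) w

theorem genLocus_eq_gl {L : X.Modules} (s : Coh.structureModule X ⟶ L) :
    CohB1.genLocus L s = gl L (secVal s ⊤) := by
  ext x
  change x ∈ CohB1.genLocus L s ↔ x ∈ gl L (secVal s ⊤)
  rw [mem_gl_iff, mem_genLocus_iff_isGen]
  constructor
  · rintro ⟨V, hxV, hg⟩
    exact ⟨V, le_top, hxV, by rw [res_secVal]; exact hg⟩
  · rintro ⟨V, h, hxV, hg⟩
    rw [res_secVal] at hg
    exact ⟨V, hxV, hg⟩

end Gl

section Bridge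
variable {X : Scheme.{u}} {L : X.Modules} [L.IsQuasicoherent]
  {𝒮L : RelProj.QCGrAlg X} {j : L ⟶ 𝒮L.toModule} (hj : RelProj.IsGrSymAlg L 𝒮L j)

/-- the bridge from tensor powers to the symmetric algebra -/
noncomputable def br (j : L ⟶ 𝒮L.toModule) (n : ℕ) (W : X.Opens) (m : Γ(CohB1.tensorPow L n, W)) :
    𝒮L.presheaf.obj (op W) :=
  val (A := 𝒮L.toQCAlg) (powHom (A := 𝒮L.toQCAlg) j n) W m

omit [L.IsQuasicoherent] in
theorem rs_br (n : ℕ) {W V : X.Opens} (h : V ≤ W) (m : Γ(CohB1.tensorPow L n, W)) :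
    rs 𝒮L h (br j n W m) = br j n V (res (CohB1.tensorPow L n) h m) :=
  (val_res _ h m).symm

omit [L.IsQuasicoherent] in
theorem br_smul_gpow (n : ℕ) {V : X.Opens} (c : Γ(X, V)) (a : Γ(L, V)) :
    br j n V (c • gpow a n) = mono L j V c a n := by
  unfold br mono
  rw [val_smul, val_powHom_gpow]

omit [L.IsQuasicoherent] in
theorem exists_chart_pow (hL : PicF.IsInvertible L) (n : ℕ) {W : X.Opens}
    (m : Γ(CohB1.tensorPow L n, W)) (x : X) (hx : x ∈ W) :
    ∃ (V : X.Opens) (_ : IsAffineOpen V) (hVW : V ≤ W) (a : Γ(L, V)) (_ : IsGen L V a)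
      (c : Γ(X, V)), x ∈ V ∧ res (CohB1.tensorPow L n) hVW m = c • gpow a n := by
  obtain ⟨W₀, a₀, hxW₀, ha₀⟩ := exists_isGen hL x
  obtain ⟨_, ⟨V, hV, rfl⟩, hxV, hVle⟩ :=
    X.isBasis_affineOpens.exists_subset_of_mem_open (show x ∈ ((W₀ ⊓ W : X.Opens) : Set X) from
      ⟨hxW₀, hx⟩) (W₀ ⊓ W).2
  have hVW₀ : V ≤ W₀ := fun y hy => (hVle hy).1
  have hVW : V ≤ W := fun y hy => (hVle hy).2
  have ha := ha₀.res hVW₀
  obtain ⟨c, hc⟩ := (isGen_gpow ha n).exists_coeff (res (CohB1.tensorPow L n) hVW m)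
  exact ⟨V, hV, hVW, _, ha, c, hxV, hc.symm⟩

include hj in
omit [L.IsQuasicoherent] in
theorem isHomog_br (hL : PicF.IsInvertible L) (n : ℕ) {W : X.Opens}
    (m : Γ(CohB1.tensorPow L n, W)) : IsHomog 𝒮L W (br j n W m) n := by
  apply isHomog_of_locally
  intro x hx
  obtain ⟨V, hV, hVW, a, ha, c, hxV, hc⟩ := exists_chart_pow hL n m x hx
  refine ⟨V, hVW, hxV, ?_⟩
  rw [rs_br, hc, br_smul_gpow]
  exact isHomog_of_mem hV (mono_mem hj hV _ _ _)

include hj in
/-- **the generating locus of a section of a tensor power is the non-vanishing locus of the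
corresponding element of the symmetric algebra** -/
theorem gl_eq_nz (hL : PicF.IsInvertible L) (n : ℕ) {W : X.Opens}
    (m : Γ(CohB1.tensorPow L n, W)) :
    gl (CohB1.tensorPow L n) m = nz 𝒮L W n (br j n W m) := by
  have key : ∀ x ∈ W, (x ∈ gl (CohB1.tensorPow L n) m ↔ x ∈ nz 𝒮L W n (br j n W m)) := by
    intro x hx
    obtain ⟨V, hV, hVW, a, ha, c, hxV, hc⟩ := exists_chart_pow hL n m x hx
    have h1 : gl (CohB1.tensorPow L n) m ⊓ V = X.basicOpen c := by
      rw [← gl_res _ hVW, hc, gl_smul_gen (isGen_gpow ha n)]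
    have h2 : nz 𝒮L W n (br j n W m) ⊓ V = X.basicOpen c :=
      nz_inf_eq_basicOpen hj hV hVW ha c (by rw [rs_br, hc, br_smul_gpow])
    constructor
    · intro h
      have : x ∈ gl (CohB1.tensorPow L n) m ⊓ V := ⟨h, hxV⟩
      rw [h1, ← h2] at this
      exact this.1
    · intro h
      have : x ∈ nz 𝒮L W n (br j n W m) ⊓ V := ⟨h, hxV⟩
      rw [h2, ← h1] at this
      exact this.1
  ext x
  constructor
  · intro h
    exact (key x (gl_le _ _ h)).1 h
  · intro h
    exact (key x (nz_le h)).2 h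

end Bridge

end Groth.Agent.Helper1.SymBr
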