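import Mathlib
import Groth.Agent.Lib.Helper1.ProjQ5
import Groth.Agent.Lib.Helper1.SymInv

set_option autoImplicit false
universe u

open CategoryTheory CategoryTheory.Limits AlgebraicGeometry TopologicalSpace Opposite
open scoped HomogeneousIdeal

namespace Groth.Agent.Helper1.ProjQColim

open Groth.Agent.Helper1.ProjQ

section Ring
variable {A B σ τ : Type u} [CommRing A] [SetLike σ A] [AddSubgroupClass σ A] {𝒜 : ℕ → σ}
  [GradedRing 𝒜] [CommRing B] [SetLike τ B] [AddSubgroupClass τ B] {ℬ : ℕ → τ} [GradedRing ℬ]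
  (φ : 𝒜 →+*ᵍ ℬ)

/-- an element of the irrelevant ideal in the range of a graded hom has a preimage in the
irrelevant ideal -/
theorem exists_irrelevant_preimage {b : B} (hb : b ∈ ((ℬ)₊).toIdeal) (a : A) (ha : φ a = b) :
    ∃ a' ∈ ((𝒜)₊).toIdeal, φ a' = b := by
  classical
  refine ⟨a - (DirectSum.decompose 𝒜 a 0 : A), ?_, ?_⟩
  · apply (HomogeneousIdeal.mem_irrelevant_iff 𝒜 _).2
    rw [GradedRing.proj_apply, DirectSum.decompose_sub, DirectSum.sub_apply,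
      DirectSum.decompose_coe, DirectSum.of_eq_same]
    simp
  · have h0 : (DirectSum.decompose ℬ b 0 : B) = 0 := by
      have := (HomogeneousIdeal.mem_irrelevant_iff ℬ b).1 hb
      rwa [GradedRing.proj_apply] at this
    rw [map_sub, ha, GradedRingHom.map_directSumDecompose, ha, h0, sub_zero]

end Ring


section Colim
variable {Y Y' P' : Scheme.{u}} {g : Y' ⟶ Y} {𝒮 : RelProj.QCGrAlg Y} {𝒮' : RelProj.QCGrAlg Y'}
  (u : RelProj.QGrHom g 𝒮 𝒮')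
  (p' : P' ⟶ Y')
  (chart' : ∀ (U : Y'.Opens) (hU : IsAffineOpen U),
    (((p' ⁻¹ᵁ U : P'.Opens) : Scheme.{u}) ≅ Proj (𝒮'.deg U hU)))
  {Λ : Type u} [Preorder Λ] [IsDirected Λ (· ≤ ·)] [Nonempty Λ]
  (𝒮i : Λ → RelProj.QCGrAlg Y) (φ : ∀ i, (𝒮i i).toQCAlg ⟶ 𝒮.toQCAlg)
  (hφ : ∀ i, RelProj.IsGradedHom (φ i))
  (t : ∀ i j, i ≤ j → ((𝒮i i).toQCAlg ⟶ (𝒮i j).toQCAlg))
  (ht : ∀ i j (h : i ≤ j), RelProj.IsGradedHom (t i j h))
  (hφt : ∀ i j (h : i ≤ j), t i j h ≫ φ j = φ i)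
  (hsurj : ∀ (U : Y.Opens), IsAffineOpen U → ∀ x : 𝒮.presheaf.obj (op U),
      ∃ (i : Λ) (y : (𝒮i i).presheaf.obj (op U)), ((φ i).hom.app (op U)).hom y = x)
  (ui : ∀ i, RelProj.QGrHom g (𝒮i i) 𝒮')
  (hui : ∀ i (U : Y.Opens), (ui i).app U = (φ i).hom.app (op U) ≫ u.app U)

include hφ hui in
theorem domQ_ui_le (i : Λ) : RelProj.domQ (ui i) p' chart' ≤ RelProj.domQ u p' chart' :=
  domQ_comp_le u p' chart' (φ i) (hφ i) (ui i) (hui i)

include ht hφt hui in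
theorem domQ_ui_mono (i j : Λ) (h : i ≤ j) :
    RelProj.domQ (ui i) p' chart' ≤ RelProj.domQ (ui j) p' chart' := by
  refine domQ_comp_le (ui j) p' chart' (t i j h) (ht i j h) (ui i) ?_
  intro U
  rw [hui i, hui j, ← Category.assoc]
  congr 1
  have := congrArg (fun ψ : (𝒮i i).toQCAlg ⟶ 𝒮.toQCAlg => ψ.hom.app (op U)) (hφt i j h)
  exact this.symm

include hφ hsurj hui in
theorem exists_mem_domQ_ui (x : P') (hx : x ∈ RelProj.domQ u p' chart') :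
    ∃ i, x ∈ RelProj.domQ (ui i) p' chart' := by
  rw [mem_domQ_iff] at hx
  obtain ⟨π, y, hy, rfl⟩ := hx
  rw [RelCone.mem_domOpen] at hy
  obtain ⟨f, hf, hfy⟩ := hy
  obtain ⟨i, b, hb⟩ := hsurj π.U π.hU f
  obtain ⟨b', hb', hb'f⟩ := exists_irrelevant_preimage
    (RelProj.gradedHomAt (φ i) (hφ i) π.U π.hU) hf b hb
  refine ⟨i, (mem_domQ_iff _ _ _ _).2 ⟨π, y, ?_, rfl⟩⟩
  rw [RelCone.mem_domOpen]
  refine ⟨b', hb', ?_⟩
  rw [gr_comp u (φ i) (hφ i) (ui i) (hui i) π]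
  change gr u π (RelProj.gradedHomAt (φ i) (hφ i) π.U π.hU b') ∉ _
  rw [hb'f]
  exact hfy

include hφ ht hφt hsurj hui in
theorem main12159' [CompactSpace P'] :
    (RelProj.domQ u p' chart' = ⊤ ↔ ∃ i, RelProj.domQ (ui i) p' chart' = ⊤) ∧
      ∀ i, RelProj.domQ (ui i) p' chart' = ⊤ → ∀ j, i ≤ j →
        RelProj.domQ (ui j) p' chart' = ⊤ := by
  refine ⟨⟨fun h => ?_, fun ⟨i, hi⟩ => ?_⟩, fun i hi j hij => ?_⟩
  · have hcov : (Set.univ : Set P') ⊆ ⋃ i, (RelProj.domQ (ui i) p' chart' : Set P') := by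
      intro x _
      obtain ⟨i, hi⟩ := exists_mem_domQ_ui u p' chart' 𝒮i φ hφ hsurj ui hui x (by rw [h]; trivial)
      exact Set.mem_iUnion.2 ⟨i, hi⟩
    have hdir : Directed (· ⊆ ·) fun i => (RelProj.domQ (ui i) p' chart' : Set P') := by
      intro i j
      obtain ⟨k, hik, hjk⟩ := directed_of (· ≤ ·) i j
      exact ⟨k, domQ_ui_mono u p' chart' 𝒮i φ t ht hφt ui hui i k hik,
        domQ_ui_mono u p' chart' 𝒮i φ t ht hφt ui hui j k hjk⟩
    obtain ⟨i, hi⟩ := isCompact_univ.elim_directed_cover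
      (fun i => (RelProj.domQ (ui i) p' chart' : Set P')) (fun i => (RelProj.domQ (ui i) p' chart').2)
      hcov hdir
    exact ⟨i, eq_top_iff.2 fun x _ => hi (Set.mem_univ x)⟩
  · exact eq_top_iff.2 (hi ▸ domQ_ui_le u p' chart' 𝒮i φ hφ ui hui i)
  · exact eq_top_iff.2 (hi ▸ domQ_ui_mono u p' chart' 𝒮i φ t ht hφt ui hui i j hij)

end Colim

end Groth.Agent.Helper1.ProjQColim
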