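import Mathlib
import Groth.Agent.Lib.Helper1.SymInvLoc3
import Groth.Agent.Lib.Helper1.ProjQColim

set_option autoImplicit false
universe u

open CategoryTheory CategoryTheory.Limits AlgebraicGeometry TopologicalSpace Opposite
open HomogeneousLocalization
open scoped HomogeneousIdeal

namespace Groth.Agent.Helper1.SymInvLoc

section Gen
open Groth.Agent.Helper1.ProjQ
variable {Y X P PL : Scheme.{u}} {q : X ⟶ Y}
  {𝒮 : RelProj.QCGrAlg Y} {𝒮L : RelProj.QCGrAlg X} (u : RelProj.QGrHom q 𝒮 𝒮L)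
  {p : P ⟶ Y}
  {chart : ∀ (U : Y.Opens) (hU : IsAffineOpen U),
    (((p ⁻¹ᵁ U : P.Opens) : Scheme.{u}) ≅ Proj (𝒮.deg U hU))}
  {pL : PL ⟶ X}
  {chartL : ∀ (U : X.Opens) (hU : IsAffineOpen U),
    (((pL ⁻¹ᵁ U : PL.Opens) : Scheme.{u}) ≅ Proj (𝒮L.deg U hU))}
  (r : ((RelProj.domQ u pL chartL : PL.Opens) : Scheme.{u}) ⟶ P)
  (hr : RelProj.IsProjQMapOn u p chart pL chartL (RelProj.domQ u pL chartL) r)

include hr in
/-- the image of `r` meets a standard open iff the defining element survives somewhere -/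
theorem exists_mem_basicOpen_iff (hP : RelProj.IsRelProj 𝒮 p chart)
    (hPL : RelProj.IsRelProj 𝒮L pL chartL) (U : Y.Opens) (hU : IsAffineOpen U)
    (n : ℕ) (hn : 0 < n) (s : 𝒮.presheaf.obj (op U)) (hs : s ∈ 𝒮.deg U hU n) :
    (∃ x'' : ((RelProj.domQ u pL chartL : PL.Opens) : Scheme.{u}),
      r x'' ∈ (RelProj.emb p chart U hU) ''ᵁ Proj.basicOpen (𝒮.deg U hU) s) ↔
    ∃ (U' : X.Opens) (hU' : IsAffineOpen U') (hle : U' ≤ q ⁻¹ᵁ U) (y : Proj (𝒮L.deg U' hU')),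
      (u.appLE U U' hle).hom s ∉ y.asHomogeneousIdeal := by
  constructor
  · rintro ⟨x'', z, hz, hzx⟩
    have hcomp := comp_eq u p chart pL chartL hP hPL _ rfl r hr
    have hxU : q (pL ((RelProj.domQ u pL chartL).ι x'')) ∈ U := by
      have h1 : (r ≫ p) x'' ∈ U := by
        show p (r x'') ∈ U
        rw [← hzx]
        have : RelProj.emb p chart U hU z ∈ Set.range (RelProj.emb p chart U hU) := ⟨z, rfl⟩
        rw [RelCone3.range_emb] at this
        exact this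
      rw [hcomp] at h1
      exact h1
    obtain ⟨_, ⟨U', hU', rfl⟩, hxU', hle⟩ := X.isBasis_affineOpens.exists_subset_of_mem_open
      (show pL ((RelProj.domQ u pL chartL).ι x'') ∈ q ⁻¹ᵁ U from hxU) (q ⁻¹ᵁ U).2
    let π : Pair q := ⟨U, hU, U', hU', hle⟩
    obtain ⟨w, -, hrw⟩ := exists_chart_of_point q u r hr hPL π x'' hxU'
    rw [hrw] at hzx
    have hzw := (RelProj.emb p chart U hU).isOpenEmbedding.injective hzx
    rw [hzw] at hz
    have := (dmap_mem_basicOpen_iff (gr u π) hn hs w).1 hz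
    rw [Proj.mem_basicOpen] at this
    exact ⟨U', hU', hle, _, this⟩
  · rintro ⟨U', hU', hle, y, hy⟩
    let π : Pair q := ⟨U, hU, U', hU', hle⟩
    have hyd : y ∈ RelCone.domOpen (gr u π) :=
      (mem_domOpen_iff (gr u π) y).2 ⟨⟨n, hn, s, hs⟩, (Proj.mem_basicOpen _ _ _).2 hy⟩
    obtain ⟨x'', -, hrx⟩ := exists_point_of_chart q u r hr π ⟨y, hyd⟩
    refine ⟨x'', dmap (gr u π) ⟨y, hyd⟩, ?_, hrx.symm⟩
    exact (dmap_mem_basicOpen_iff (gr u π) hn hs _).2 ((Proj.mem_basicOpen _ _ _).2 hy)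

include hr in
/-- dominance in terms of standard opens -/
theorem isDominant_iff (hP : RelProj.IsRelProj 𝒮 p chart)
    (hPL : RelProj.IsRelProj 𝒮L pL chartL) :
    IsDominant r ↔ ∀ (U : Y.Opens) (hU : IsAffineOpen U) (n : ℕ) (_ : 0 < n)
      (s : 𝒮.presheaf.obj (op U)) (_ : s ∈ 𝒮.deg U hU n), ¬ IsNilpotent s →
      ∃ (U' : X.Opens) (hU' : IsAffineOpen U') (hle : U' ≤ q ⁻¹ᵁ U)
        (y : Proj (𝒮L.deg U' hU')), (u.appLE U U' hle).hom s ∉ y.asHomogeneousIdeal := by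
  constructor
  · intro hdom U hU n hn s hs hnil
    rw [← exists_mem_basicOpen_iff u r hr hP hPL U hU n hn s hs]
    obtain ⟨x₀, hx₀⟩ := ProjTop.exists_notMem_of_not_isNilpotent (𝒮.deg U hU)
      (HomogeneousIdeal.mem_irrelevant_of_mem _ hn hs) hnil
    let D : P.Opens := (RelProj.emb p chart U hU) ''ᵁ Proj.basicOpen (𝒮.deg U hU) s
    have hDne : (D : Set P).Nonempty :=
      ⟨RelProj.emb p chart U hU x₀, x₀, (Proj.mem_basicOpen _ _ _).2 hx₀, rfl⟩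
    obtain ⟨_, hzD, x'', rfl⟩ := hdom.denseRange.inter_open_nonempty _ D.2 hDne
    exact ⟨x'', hzD⟩
  · intro h
    refine ⟨dense_iff_inter_open.2 fun O hO hOne => ?_⟩
    obtain ⟨z₀, hz₀⟩ := hOne
    obtain ⟨_, ⟨U, hU, rfl⟩, hzU, -⟩ := Y.isBasis_affineOpens.exists_subset_of_mem_open
      (Set.mem_univ (p z₀)) isOpen_univ
    have hz₀r : z₀ ∈ Set.range (RelProj.emb p chart U hU) := by
      rw [RelCone3.range_emb]; exact hzU
    obtain ⟨x₀, rfl⟩ := hz₀r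
    let O' : (Proj (𝒮.deg U hU)).Opens := (RelProj.emb p chart U hU) ⁻¹ᵁ ⟨O, hO⟩
    obtain ⟨n, hn, s, hs, hx₀s, hsO⟩ := exists_basicOpen_le (𝒮.deg U hU) O' x₀ hz₀
    have hnil : ¬ IsNilpotent s := by
      rintro ⟨k, hk⟩
      rw [Proj.mem_basicOpen] at hx₀s
      apply hx₀s
      have : s ^ k ∈ x₀.asHomogeneousIdeal.toIdeal := by rw [hk]; exact Ideal.zero_mem _
      exact x₀.isPrime.mem_of_pow_mem k this
    obtain ⟨x'', z, hz, hzx⟩ := (exists_mem_basicOpen_iff u r hr hP hPL U hU n hn s hs).2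
      (h U hU n hn s hs hnil)
    exact ⟨r x'', hzx ▸ hsO hz, x'', rfl⟩

end Gen


section Colim
open Groth.Agent.Helper1.ProjQ
variable {Y X P PL : Scheme.{u}} {q : X ⟶ Y}
  {𝒮 : RelProj.QCGrAlg Y} {𝒮L : RelProj.QCGrAlg X} (u : RelProj.QGrHom q 𝒮 𝒮L)
  {p : P ⟶ Y}
  {chart : ∀ (U : Y.Opens) (hU : IsAffineOpen U),
    (((p ⁻¹ᵁ U : P.Opens) : Scheme.{u}) ≅ Proj (𝒮.deg U hU))}
  {pL : PL ⟶ X}
  {chartL : ∀ (U : X.Opens) (hU : IsAffineOpen U),
    (((pL ⁻¹ᵁ U : PL.Opens) : Scheme.{u}) ≅ Proj (𝒮L.deg U hU))}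
  (r : ((RelProj.domQ u pL chartL : PL.Opens) : Scheme.{u}) ⟶ P)
  (hr : RelProj.IsProjQMapOn u p chart pL chartL (RelProj.domQ u pL chartL) r)
  {Λ : Type u}
  (𝒮i : Λ → RelProj.QCGrAlg Y) (φ : ∀ i, (𝒮i i).toQCAlg ⟶ 𝒮.toQCAlg)
  (hφ : ∀ i, RelProj.IsGradedHom (φ i))
  (hsurj : ∀ (U : Y.Opens), IsAffineOpen U → ∀ x : 𝒮.presheaf.obj (op U),
      ∃ (i : Λ) (y : (𝒮i i).presheaf.obj (op U)), ((φ i).hom.app (op U)).hom y = x)
  (ui : ∀ i, RelProj.QGrHom q (𝒮i i) 𝒮L)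
  (hui : ∀ i (U : Y.Opens), (ui i).app U = (φ i).hom.app (op U) ≫ u.app U)
  (Pi : Λ → Scheme.{u}) (pi : ∀ i, Pi i ⟶ Y)
  (charti : ∀ i (U : Y.Opens) (hU : IsAffineOpen U),
    ((((pi i) ⁻¹ᵁ U : (Pi i).Opens) : Scheme.{u}) ≅ Proj ((𝒮i i).deg U hU)))
  (hPi : ∀ i, RelProj.IsRelProj (𝒮i i) (pi i) (charti i))
  (ri : ∀ i, ((RelProj.domQ (ui i) pL chartL : PL.Opens) : Scheme.{u}) ⟶ Pi i)
  (hri : ∀ i, RelProj.IsProjQMapOn (ui i) (pi i) (charti i) pL chartL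
    (RelProj.domQ (ui i) pL chartL) (ri i))

include hui in
theorem ui_appLE (i : Λ) (U : Y.Opens) (U' : X.Opens) (hle : U' ≤ q ⁻¹ᵁ U)
    (b : (𝒮i i).presheaf.obj (op U)) :
    ((ui i).appLE U U' hle).hom b = (u.appLE U U' hle).hom (((φ i).hom.app (op U)).hom b) := by
  rw [RelSpec.QHom.appLE, RelSpec.QHom.appLE, hui i U]
  rfl

include hr hφ hsurj hui hPi hri in
/-- **S12160** -/
theorem main12160 (hP : RelProj.IsRelProj 𝒮 p chart) (hPL : RelProj.IsRelProj 𝒮L pL chartL) :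
    ((∀ i, IsDominant (ri i)) → IsDominant r) ∧
      ((∀ i (U : Y.Opens), IsAffineOpen U → Function.Injective ((φ i).hom.app (op U)).hom) →
        IsDominant r → ∀ i, IsDominant (ri i)) := by
  classical
  constructor
  · intro hdom
    rw [isDominant_iff u r hr hP hPL]
    intro U hU n hn s hs hnil
    obtain ⟨i, b, hb⟩ := hsurj U hU s
    set g := RelProj.gradedHomAt (φ i) (hφ i) U hU with hg
    have hbn : g (DirectSum.decompose ((𝒮i i).deg U hU) b n : (𝒮i i).presheaf.obj (op U)) = s := by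
      rw [GradedRingHom.map_directSumDecompose]
      have : g b = s := hb
      rw [this, DirectSum.decompose_of_mem_same _ hs]
    have hbnil : ¬ IsNilpotent
        (DirectSum.decompose ((𝒮i i).deg U hU) b n : (𝒮i i).presheaf.obj (op U)) := by
      intro h
      apply hnil
      rw [← hbn]
      exact h.map g
    obtain ⟨U', hU', hle, y, hy⟩ := (isDominant_iff (ui i) (ri i) (hri i) (hPi i) hPL).1 (hdom i)
      U hU n hn _ (SetLike.coe_mem _) hbnil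
    refine ⟨U', hU', hle, y, ?_⟩
    rw [ui_appLE u 𝒮i φ ui hui i U U' hle] at hy
    have hbn' : ((φ i).hom.app (op U)).hom
        (DirectSum.decompose ((𝒮i i).deg U hU) b n : (𝒮i i).presheaf.obj (op U)) = s := hbn
    rw [hbn'] at hy
    exact hy
  · intro hinj hdom i
    rw [isDominant_iff (ui i) (ri i) (hri i) (hPi i) hPL]
    intro U hU n hn b hb hnil
    have hsnil : ¬ IsNilpotent (((φ i).hom.app (op U)).hom b) := by
      rintro ⟨k, hk⟩
      apply hnil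
      refine ⟨k, hinj i U hU ?_⟩
      rw [map_pow, hk, map_zero]
    obtain ⟨U', hU', hle, y, hy⟩ := (isDominant_iff u r hr hP hPL).1 hdom U hU n hn _
      (hφ i U hU n b hb) hsnil
    refine ⟨U', hU', hle, y, ?_⟩
    rw [ui_appLE u 𝒮i φ ui hui i U U' hle]
    exact hy

end Colim

end Groth.Agent.Helper1.SymInvLoc
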