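import Mathlib
import Groth.Agent.Lib.Helper1.SymInvLoc4

set_option autoImplicit false
universe u

open CategoryTheory CategoryTheory.Limits AlgebraicGeometry TopologicalSpace Opposite
open HomogeneousLocalization
open scoped HomogeneousIdeal

namespace Groth.Agent.Helper1.SymInvLoc

section Gen

/-- pullback square of a chart against a morphism factoring through an open -/
theorem isPullback_of_chart {D P T T' : Scheme.{u}} (r : D ⟶ P) (O : P.Opens) (r' : D ⟶ O)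
    (hr' : r' ≫ O.ι = r) (ιG : T ⟶ P) [IsOpenImmersion ιG] (ι' : T ⟶ O) (hι' : ι' ≫ O.ι = ιG)
    (e : T' ⟶ D) [IsOpenImmersion e] (c : T' ⟶ T) (hc : e ≫ r = c ≫ ιG)
    (hpre : r ⁻¹ᵁ ιG.opensRange = e.opensRange) :
    IsPullback c e ι' r' := by
  have : IsOpenImmersion ι' := by
    have : IsOpenImmersion (ι' ≫ O.ι) := by rw [hι']; infer_instance
    exact IsOpenImmersion.of_comp ι' O.ι
  apply IsOpenImmersion.isPullback
  · rw [← cancel_mono O.ι, Category.assoc, Category.assoc, hr', hι', hc]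
  · rw [← hpre, ← hr', Scheme.Hom.comp_preimage]
    congr 1
    subst hι'
    rw [Scheme.Hom.opensRange_comp, Scheme.Hom.preimage_image_eq]

theorem opensRange_congr {X Y : Scheme.{u}} {f g : X ⟶ Y} [IsOpenImmersion f]
    [IsOpenImmersion g] (h : f = g) : f.opensRange = g.opensRange := by
  subst h; rfl

theorem surjective_of_isClosedImmersion_SpecMap {R S : CommRingCat.{u}} (φ : R ⟶ S)
    [IsClosedImmersion (Spec.map φ)] : Function.Surjective φ.hom := by
  have h := (IsClosedImmersion.isAffine_surjective_of_isAffine (Spec.map φ)).2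
  have e : φ = (Scheme.ΓSpecIso R).inv ≫ (Spec.map φ).appTop ≫ (Scheme.ΓSpecIso S).hom := by
    rw [← Scheme.ΓSpecIso_inv_naturality_assoc, Iso.inv_hom_id, Category.comp_id]
  rw [e]
  simp only [CommRingCat.hom_comp, RingHom.coe_comp]
  exact (ConcreteCategory.bijective_of_isIso (Scheme.ΓSpecIso S).hom).2.comp
    (h.comp (ConcreteCategory.bijective_of_isIso (Scheme.ΓSpecIso R).inv).2)

end Gen

section Main
open Groth.Agent.Helper1.SymAlg Groth.Agent.Helper1.LGen Groth.Agent.Helper1.QcCech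
open Groth.Agent.Helper1.ProjQ
variable {Y X P PL : Scheme.{u}} (q : X ⟶ Y) (L : X.Modules) [L.IsQuasicoherent]
  {𝒮 : RelProj.QCGrAlg Y} {𝒮L : RelProj.QCGrAlg X} {j : L ⟶ 𝒮L.toModule}
  (hj : RelProj.IsGrSymAlg L 𝒮L j) (u : RelProj.QGrHom q 𝒮 𝒮L)
  {p : P ⟶ Y}
  {chart : ∀ (U : Y.Opens) (hU : IsAffineOpen U),
    (((p ⁻¹ᵁ U : P.Opens) : Scheme.{u}) ≅ Proj (𝒮.deg U hU))}
  {pL : PL ⟶ X}
  {chartL : ∀ (U : X.Opens) (hU : IsAffineOpen U),
    (((pL ⁻¹ᵁ U : PL.Opens) : Scheme.{u}) ≅ Proj (𝒮L.deg U hU))}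

/-- the span property passes to basic opens -/
theorem span_basicOpen (V : X.Opens) (hV : IsAffineOpen V) (n : ℕ) (s : 𝒮.presheaf.obj (op ⊤))
    (hsub : ((𝒮L.deg V hV n : AddSubgroup (𝒮L.presheaf.obj (op V))) :
      Set (𝒮L.presheaf.obj (op V))) ⊆
        (Ideal.span {(u.appLE ⊤ V (le_top.trans (Scheme.Hom.preimage_top q).ge)).hom s} :
          Set (𝒮L.presheaf.obj (op V))))
    (g : Γ(X, V)) :
    ((𝒮L.deg (X.basicOpen g) (hV.basicOpen g) n :
        AddSubgroup (𝒮L.presheaf.obj (op (X.basicOpen g)))) :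
      Set (𝒮L.presheaf.obj (op (X.basicOpen g)))) ⊆
        (Ideal.span {(u.appLE ⊤ (X.basicOpen g)
          (le_top.trans (Scheme.Hom.preimage_top q).ge)).hom s} :
          Set (𝒮L.presheaf.obj (op (X.basicOpen g)))) := by
  classical
  intro b' hb'
  let ψ := 𝒮L.res hV (hV.basicOpen g) (X.basicOpen_le g)
  let _inst := (𝒮L.presheaf.map (homOfLE (X.basicOpen_le g)).op).hom.toAlgebra
  let c := (𝒮L.str.app (op V)).hom g
  have hloc : IsLocalization.Away c (𝒮L.presheaf.obj (op (X.basicOpen g))) := 𝒮L.isQC V hV g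
  obtain ⟨⟨a, t, ht⟩, hat⟩ := IsLocalization.surj (Submonoid.powers c) b'
  obtain ⟨k, rfl⟩ := (Submonoid.mem_powers_iff _ _).mp ht
  change b' * ψ (c ^ k) = ψ a at hat
  have hu : IsUnit (ψ (c ^ k)) :=
    IsLocalization.map_units (M := Submonoid.powers c)
      (𝒮L.presheaf.obj (op (X.basicOpen g))) ⟨c ^ k, k, rfl⟩
  have hc0 : ψ (c ^ k) ∈ 𝒮L.deg (X.basicOpen g) (hV.basicOpen g) 0 := by
    rw [map_pow]
    exact SetLike.pow_mem_graded _ (ψ.map_mem (𝒮L.str_mem V hV g))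
  have hgm : b' * ψ (c ^ k) ∈ 𝒮L.deg (X.basicOpen g) (hV.basicOpen g) n := by
    simpa only [add_zero] using
      SetLike.mul_mem_graded (A := 𝒮L.deg (X.basicOpen g) (hV.basicOpen g)) hb' hc0
  have hxi : ψ (DirectSum.decompose (𝒮L.deg V hV) a n : 𝒮L.presheaf.obj (op V)) =
      b' * ψ (c ^ k) := by
    rw [GradedRingHom.map_directSumDecompose, ← hat, DirectSum.decompose_of_mem_same _ hgm]
  have hmem := hsub (SetLike.coe_mem (DirectSum.decompose (𝒮L.deg V hV) a n))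
  rw [SetLike.mem_coe, Ideal.mem_span_singleton'] at hmem ⊢
  obtain ⟨d, hd⟩ := hmem
  obtain ⟨w, hw⟩ := hu
  have e1 : (u.appLE ⊤ (X.basicOpen g) (le_top.trans (Scheme.Hom.preimage_top q).ge)).hom s =
      ψ ((u.appLE ⊤ V (le_top.trans (Scheme.Hom.preimage_top q).ge)).hom s) := by
    have := congrArg (fun φ => φ.hom s) (RelSpec.QHom.appLE_map u.toQHom
      (le_top.trans (Scheme.Hom.preimage_top q).ge : V ≤ q ⁻¹ᵁ ⊤) (X.basicOpen_le g))
    exact this.symm
  refine ⟨ψ d * ↑w⁻¹, ?_⟩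
  rw [e1, mul_assoc, mul_comm (↑w⁻¹ : 𝒮L.presheaf.obj (op (X.basicOpen g))), ← mul_assoc,
    ← map_mul, hd, hxi, ← hw, mul_assoc, Units.mul_inv, mul_one]

include hj in
/-- if the span property holds locally on the affine open `W`, then `u s` vanishes at no point of
the chart over `W` -/
theorem notMem_of_cover (hPL : RelProj.IsRelProj 𝒮L pL chartL) (W : X.Opens)
    (hW : IsAffineOpen W) (n : ℕ) (s : 𝒮.presheaf.obj (op ⊤))
    (hcov : ∀ x ∈ W, ∃ (V : X.Opens) (hV : IsAffineOpen V), x ∈ V ∧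
      ((𝒮L.deg V hV n : AddSubgroup (𝒮L.presheaf.obj (op V))) :
        Set (𝒮L.presheaf.obj (op V))) ⊆
          (Ideal.span {(u.appLE ⊤ V (le_top.trans (Scheme.Hom.preimage_top q).ge)).hom s} :
            Set (𝒮L.presheaf.obj (op V))))
    (y : Proj (𝒮L.deg W hW)) :
    (u.appLE ⊤ W (le_top.trans (Scheme.Hom.preimage_top q).ge)).hom s ∉
      y.asHomogeneousIdeal := by
  have hxW : pL (RelProj.emb pL chartL W hW y) ∈ W := by
    have : RelProj.emb pL chartL W hW y ∈ Set.range (RelProj.emb pL chartL W hW) := ⟨y, rfl⟩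
    rw [RelCone3.range_emb] at this
    exact this
  obtain ⟨V, hV, hxV, hsub⟩ := hcov _ hxW
  obtain ⟨g, g', e, hxg⟩ := AffExt.exists_basic_both hW hV hxW hxV
  have hsub' := span_basicOpen q u V hV n s hsub g'
  have key : ∀ (O : X.Opens) (hO : O = X.basicOpen g') (hOa : IsAffineOpen O),
      ((𝒮L.deg O hOa n : AddSubgroup (𝒮L.presheaf.obj (op O))) :
        Set (𝒮L.presheaf.obj (op O))) ⊆
          (Ideal.span {(u.appLE ⊤ O (le_top.trans (Scheme.Hom.preimage_top q).ge)).hom s} :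
            Set (𝒮L.presheaf.obj (op O))) := by
    intro O hO hOa
    subst hO
    exact hsub'
  have hsub'' := key _ e (hW.basicOpen g)
  have hmem : RelProj.emb pL chartL W hW y ∈
      Set.range (RelProj.emb pL chartL (X.basicOpen g) (hW.basicOpen g)) := by
    rw [RelCone3.range_emb]; exact hxg
  obtain ⟨y'', hy''⟩ := hmem
  rw [← RelProj.map_res_emb hPL W hW g] at hy''
  have hy : Proj.map (𝒮L.res hW (hW.basicOpen g) (X.basicOpen_le g))
      (𝒮L.irrelevant_le_map W hW g) y'' = y :=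
    (RelProj.emb pL chartL W hW).isOpenEmbedding.injective hy''
  have h1 := notMem_of_span L hj (X.basicOpen g) (hW.basicOpen g) n _ hsub'' y''
  have e1 : (u.appLE ⊤ (X.basicOpen g) (le_top.trans (Scheme.Hom.preimage_top q).ge)).hom s =
      𝒮L.res hW (hW.basicOpen g) (X.basicOpen_le g)
        ((u.appLE ⊤ W (le_top.trans (Scheme.Hom.preimage_top q).ge)).hom s) := by
    have := congrArg (fun φ => φ.hom s) (RelSpec.QHom.appLE_map u.toQHom
      (le_top.trans (Scheme.Hom.preimage_top q).ge : W ≤ q ⁻¹ᵁ ⊤) (X.basicOpen_le g))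
    exact this.symm
  rw [e1] at h1
  have h2 : y'' ∈ Proj.basicOpen (𝒮L.deg (X.basicOpen g) (hW.basicOpen g))
      (𝒮L.res hW (hW.basicOpen g) (X.basicOpen_le g)
        ((u.appLE ⊤ W (le_top.trans (Scheme.Hom.preimage_top q).ge)).hom s)) :=
    (Proj.mem_basicOpen _ _ _).2 h1
  rw [← Proj.map_preimage_basicOpen (𝒮L.res hW (hW.basicOpen g) (X.basicOpen_le g))
    (𝒮L.irrelevant_le_map W hW g)] at h2
  have h3 : Proj.map (𝒮L.res hW (hW.basicOpen g) (X.basicOpen_le g))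
      (𝒮L.irrelevant_le_map W hW g) y'' ∈ Proj.basicOpen (𝒮L.deg W hW)
        ((u.appLE ⊤ W (le_top.trans (Scheme.Hom.preimage_top q).ge)).hom s) := h2
  rw [hy] at h3
  exact (Proj.mem_basicOpen _ _ _).1 h3

section Chart
variable (hY : IsAffineOpen (⊤ : Y.Opens)) (W : X.Opens) (hW : IsAffineOpen W) {n : ℕ} (hn : 0 < n)
  (s : 𝒮.presheaf.obj (op ⊤)) (hs : s ∈ 𝒮.deg ⊤ hY n)
  (hnot : ∀ y : Proj (𝒮L.deg W hW),
    u.gradedAt ⊤ hY W hW (le_top.trans (Scheme.Hom.preimage_top q).ge) s ∉ y.asHomogeneousIdeal)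

instance isOpenImmersion_awayEmb :
    IsOpenImmersion (RelProj.awayEmb u pL chartL ⊤ hY W hW
      (le_top.trans (Scheme.Hom.preimage_top q).ge) hn s hs) := by
  unfold RelProj.awayEmb; infer_instance

include hnot in
theorem opensRange_awayEmb :
    (RelProj.awayEmb u pL chartL ⊤ hY W hW
      (le_top.trans (Scheme.Hom.preimage_top q).ge) hn s hs).opensRange = pL ⁻¹ᵁ W := by
  have h1 : Proj.basicOpen (𝒮L.deg W hW)
      (u.gradedAt ⊤ hY W hW (le_top.trans (Scheme.Hom.preimage_top q).ge) s) = ⊤ :=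
    eq_top_iff.2 fun y _ => (Proj.mem_basicOpen _ _ _).2 (hnot y)
  have h2 : (RelProj.emb pL chartL W hW).opensRange = pL ⁻¹ᵁ W :=
    Opens.ext (RelCone3.range_emb (pC := pL) (chartC := chartL) (U := W) (hU := hW))
  unfold RelProj.awayEmb
  rw [Scheme.Hom.opensRange_comp, Proj.opensRange_awayι, h1, Scheme.Hom.image_top_eq_opensRange, h2]

/-- the comparison map from the functions on `W` to the degree-zero localization -/
noncomputable def cmp : Γ(X, W) ⟶ CommRingCat.of (HomogeneousLocalization.Away (𝒮L.deg W hW)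
    (u.gradedAt ⊤ hY W hW (le_top.trans (Scheme.Hom.preimage_top q).ge) s)) :=
  𝒮L.strZero W hW ≫ CommRingCat.ofHom (fromZeroRingHom (𝒮L.deg W hW)
    (Submonoid.powers (u.gradedAt ⊤ hY W hW (le_top.trans (Scheme.Hom.preimage_top q).ge) s)))

theorem awayEmb_pL (hPL : RelProj.IsRelProj 𝒮L pL chartL) :
    RelProj.awayEmb u pL chartL ⊤ hY W hW
      (le_top.trans (Scheme.Hom.preimage_top q).ge) hn s hs ≫ pL =
      Spec.map (cmp q u hY W hW s) ≫ hW.fromSpec := by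
  have e : RelProj.emb pL chartL W hW ≫ pL = Proj.toSpecZero (𝒮L.deg W hW) ≫
      Spec.map (𝒮L.strZero W hW) ≫ hW.fromSpec := by
    rw [RelProj.emb, Category.assoc, ← hPL.chart_over W hW, Iso.inv_hom_id_assoc]
  unfold RelProj.awayEmb cmp
  rw [Category.assoc, e, Spec.map_comp, Category.assoc, ← Category.assoc (Proj.awayι _ _ _ _),
    Proj.awayι_toSpecZero]

include hj hnot hn hs in
theorem cmp_bijective (hL : PicF.IsInvertible L) (hPL : RelProj.IsRelProj 𝒮L pL chartL) :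
    Function.Bijective (cmp q u hY W hW s).hom := by
  have hiso : IsIso pL := main12143 L hj hL hPL
  rw [← isIso_SpecMap_iff]
  have hcomp := awayEmb_pL q u hY W hW hn s hs hPL
  have hoi : IsOpenImmersion (Spec.map (cmp q u hY W hW s) ≫ hW.fromSpec) := by
    rw [← hcomp]; infer_instance
  have hoi' : IsOpenImmersion (Spec.map (cmp q u hY W hW s)) :=
    IsOpenImmersion.of_comp _ hW.fromSpec
  rw [isIso_iff_isOpenImmersion_and_epi_base]
  refine ⟨hoi', (TopCat.epi_iff_surjective _).2 fun z => ?_⟩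
  have hzW : hW.fromSpec z ∈ W := by
    have : hW.fromSpec z ∈ Set.range hW.fromSpec := ⟨z, rfl⟩
    rw [hW.range_fromSpec] at this
    exact this
  obtain ⟨x', hx'⟩ := pL.homeomorph.surjective (hW.fromSpec z)
  have hx'W : x' ∈ (RelProj.awayEmb u pL chartL ⊤ hY W hW
      (le_top.trans (Scheme.Hom.preimage_top q).ge) hn s hs).opensRange := by
    rw [opensRange_awayEmb q u hY W hW hn s hs hnot]
    change pL x' ∈ W
    have : pL x' = hW.fromSpec z := hx'
    rw [this]; exact hzW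
  obtain ⟨t, rfl⟩ := hx'W
  refine ⟨t, ?_⟩
  apply hW.fromSpec.isOpenEmbedding.injective
  have h1 := congrArg (fun ψ : _ ⟶ X => ψ t) hcomp
  have h2 : hW.fromSpec (Spec.map (cmp q u hY W hW s) t) =
      pL (RelProj.awayEmb u pL chartL ⊤ hY W hW
        (le_top.trans (Scheme.Hom.preimage_top q).ge) hn s hs t) := h1.symm
  rw [h2]
  exact hx'

include hn hs in
theorem cond3_iff (hbij : Function.Bijective (cmp q u hY W hW s).hom) :
    (∀ t : Γ(X, W), ∃ (m : ℕ) (_ : 0 < m) (s' : 𝒮.presheaf.obj (op ⊤))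
        (_ : s' ∈ 𝒮.deg ⊤ hY (m * n)),
        (𝒮L.str.app (op W)).hom t *
          (u.gradedAt ⊤ hY W hW (le_top.trans (Scheme.Hom.preimage_top q).ge) s) ^ m =
        u.gradedAt ⊤ hY W hW (le_top.trans (Scheme.Hom.preimage_top q).ge) s') ↔
      Function.Surjective (HomogeneousLocalization.Away.map
        (u.gradedAt ⊤ hY W hW (le_top.trans (Scheme.Hom.preimage_top q).ge)) s) := by
  set g := u.gradedAt ⊤ hY W hW (le_top.trans (Scheme.Hom.preimage_top q).ge) with hg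
  have hval : ∀ t : Γ(X, W), ((cmp q u hY W hW s).hom t).val =
      Localization.mk ((𝒮L.str.app (op W)).hom t) 1 := fun t => rfl
  constructor
  · intro h x
    obtain ⟨t, rfl⟩ := hbij.2 x
    obtain ⟨m, hm, s', hs', heq⟩ := h t
    have hs'' : s' ∈ 𝒮.deg ⊤ hY (m • n) := by rwa [smul_eq_mul]
    refine ⟨Away.mk (𝒮.deg ⊤ hY) hs m s' hs'', ?_⟩
    rw [Away.map_mk]
    apply val_injective
    rw [Away.val_mk, hval, Localization.mk_eq_mk_iff, Localization.r_iff_exists]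
    refine ⟨1, ?_⟩
    simp only [OneMemClass.coe_one, one_mul]
    rw [← heq, mul_comm]
  · intro h t
    obtain ⟨x, hx⟩ := h ((cmp q u hY W hW s).hom t)
    obtain ⟨m, s', hs', rfl⟩ := Away.mk_surjective (𝒮.deg ⊤ hY) hs x
    rw [Away.map_mk] at hx
    have hx' := congrArg val hx
    rw [Away.val_mk, hval, Localization.mk_eq_mk_iff, Localization.r_iff_exists] at hx'
    obtain ⟨⟨_, k, rfl⟩, hk⟩ := hx'
    simp only [OneMemClass.coe_one, one_mul] at hk
    refine ⟨k + m + 1, Nat.succ_pos _, s ^ (k + 1) * s', ?_, ?_⟩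
    · have h1 : s ^ (k + 1) ∈ 𝒮.deg ⊤ hY ((k + 1) • n) := SetLike.pow_mem_graded (k + 1) hs
      have h2 := SetLike.mul_mem_graded h1 hs'
      have e : (k + 1) • n + m • n = (k + m + 1) * n := by
        simp only [smul_eq_mul]; ring
      rwa [e] at h2
    · rw [map_mul, map_pow]
      have e1 : (𝒮L.str.app (op W)).hom t * g s ^ (k + m + 1) =
          g s * (g s ^ k * (g s ^ m * (𝒮L.str.app (op W)).hom t)) := by ring
      rw [e1, ← hk]
      ring

end Chart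

section Chart2
variable (hY : IsAffineOpen (⊤ : Y.Opens)) (W : X.Opens) (hW : IsAffineOpen W) {n : ℕ} (hn : 0 < n)
  (s : 𝒮.presheaf.obj (op ⊤)) (hs : s ∈ 𝒮.deg ⊤ hY n)
  (hWeq : W = ⨆ V : {V : X.affineOpens //
          ((𝒮L.deg V.1 V.2 n : AddSubgroup (𝒮L.presheaf.obj (op (V.1 : X.Opens)))) :
            Set (𝒮L.presheaf.obj (op (V.1 : X.Opens)))) ⊆
            (Ideal.span {(u.appLE ⊤ (V.1 : X.Opens)
              (le_top.trans (Scheme.Hom.preimage_top q).ge)).hom s} :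
                Set (𝒮L.presheaf.obj (op (V.1 : X.Opens))))},
          (V.1.1 : X.Opens))

include hj hWeq in
theorem hnot_of_eq (hPL : RelProj.IsRelProj 𝒮L pL chartL) (y : Proj (𝒮L.deg W hW)) :
    u.gradedAt ⊤ hY W hW (le_top.trans (Scheme.Hom.preimage_top q).ge) s ∉
      y.asHomogeneousIdeal := by
  refine notMem_of_cover q L hj u hPL W hW n s ?_ y
  intro x hx
  rw [hWeq] at hx
  obtain ⟨⟨⟨V, (hV : IsAffineOpen V)⟩, hspan⟩, hxV⟩ := Opens.mem_iSup.1 hx
  exact ⟨V, hV, hxV, hspan⟩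

include hj hWeq hn hs in
theorem chart_pullback (hL : PicF.IsInvertible L) (hP : RelProj.IsRelProj 𝒮 p chart)
    (hPL : RelProj.IsRelProj 𝒮L pL chartL)
    (r : ((RelProj.domQ u pL chartL : PL.Opens) : Scheme.{u}) ⟶ P)
    (hr : RelProj.IsProjQMapOn u p chart pL chartL (RelProj.domQ u pL chartL) r)
    (O : P.Opens) (r' : ((RelProj.domQ u pL chartL : PL.Opens) : Scheme.{u}) ⟶ O)
    (hr' : r' ≫ O.ι = r)
    (hGO : (RelProj.emb p chart ⊤ hY) ''ᵁ Proj.basicOpen (𝒮.deg ⊤ hY) s ≤ O) :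
    ∃ (e : Spec (CommRingCat.of (HomogeneousLocalization.Away (𝒮L.deg W hW)
          (u.gradedAt ⊤ hY W hW (le_top.trans (Scheme.Hom.preimage_top q).ge) s))) ⟶
          ((RelProj.domQ u pL chartL : PL.Opens) : Scheme.{u})) (_ : IsOpenImmersion e)
      (ι' : Spec (CommRingCat.of (HomogeneousLocalization.Away (𝒮.deg ⊤ hY) s)) ⟶ (O : Scheme.{u}))
      (_ : IsOpenImmersion ι'),
      e.opensRange = r ⁻¹ᵁ ((RelProj.emb p chart ⊤ hY) ''ᵁ Proj.basicOpen (𝒮.deg ⊤ hY) s) ∧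
      ι'.opensRange = O.ι ⁻¹ᵁ ((RelProj.emb p chart ⊤ hY) ''ᵁ Proj.basicOpen (𝒮.deg ⊤ hY) s) ∧
      IsPullback (Spec.map (CommRingCat.ofHom (HomogeneousLocalization.Away.map
        (u.gradedAt ⊤ hY W hW (le_top.trans (Scheme.Hom.preimage_top q).ge)) s))) e ι' r' := by
  have hnot := hnot_of_eq q L hj u hY W hW s hWeq hPL
  have hsub := RelProj.range_awayEmb_subset_domQ u pL chartL ⊤ hY W hW
      (le_top.trans (Scheme.Hom.preimage_top q).ge) hn s hs
  have hfac : IsOpenImmersion.lift (RelProj.domQ u pL chartL).ι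
      (RelProj.awayEmb u pL chartL ⊤ hY W hW
        (le_top.trans (Scheme.Hom.preimage_top q).ge) hn s hs) hsub ≫
        (RelProj.domQ u pL chartL).ι = RelProj.awayEmb u pL chartL ⊤ hY W hW
        (le_top.trans (Scheme.Hom.preimage_top q).ge) hn s hs := IsOpenImmersion.lift_fac _ _ _
  have hoe' : IsOpenImmersion (IsOpenImmersion.lift (RelProj.domQ u pL chartL).ι
      (RelProj.awayEmb u pL chartL ⊤ hY W hW
        (le_top.trans (Scheme.Hom.preimage_top q).ge) hn s hs) hsub ≫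
        (RelProj.domQ u pL chartL).ι) := by rw [hfac]; infer_instance
  have hoe : IsOpenImmersion (IsOpenImmersion.lift (RelProj.domQ u pL chartL).ι
      (RelProj.awayEmb u pL chartL ⊤ hY W hW
        (le_top.trans (Scheme.Hom.preimage_top q).ge) hn s hs) hsub) :=
    IsOpenImmersion.of_comp _ (RelProj.domQ u pL chartL).ι
  have hιGr : (Proj.awayι (𝒮.deg ⊤ hY) s hs hn ≫ RelProj.emb p chart ⊤ hY).opensRange =
      (RelProj.emb p chart ⊤ hY) ''ᵁ Proj.basicOpen (𝒮.deg ⊤ hY) s := by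
    rw [Scheme.Hom.opensRange_comp, Proj.opensRange_awayι]
  have hsubO : Set.range (Proj.awayι (𝒮.deg ⊤ hY) s hs hn ≫ RelProj.emb p chart ⊤ hY) ⊆
      Set.range O.ι := by
    rw [Scheme.Opens.range_ι]
    intro x hx
    have : x ∈ (Proj.awayι (𝒮.deg ⊤ hY) s hs hn ≫ RelProj.emb p chart ⊤ hY).opensRange := hx
    rw [hιGr] at this
    exact hGO this
  have hfac' : IsOpenImmersion.lift O.ι
      (Proj.awayι (𝒮.deg ⊤ hY) s hs hn ≫ RelProj.emb p chart ⊤ hY) hsubO ≫ O.ι =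
      Proj.awayι (𝒮.deg ⊤ hY) s hs hn ≫ RelProj.emb p chart ⊤ hY :=
    IsOpenImmersion.lift_fac _ _ _
  have hoι'' : IsOpenImmersion (IsOpenImmersion.lift O.ι
      (Proj.awayι (𝒮.deg ⊤ hY) s hs hn ≫ RelProj.emb p chart ⊤ hY) hsubO ≫ O.ι) := by
    rw [hfac']; infer_instance
  have hoι' : IsOpenImmersion (IsOpenImmersion.lift O.ι
      (Proj.awayι (𝒮.deg ⊤ hY) s hs hn ≫ RelProj.emb p chart ⊤ hY) hsubO) :=
    IsOpenImmersion.of_comp _ O.ι
  have hc : IsOpenImmersion.lift (RelProj.domQ u pL chartL).ι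
      (RelProj.awayEmb u pL chartL ⊤ hY W hW
        (le_top.trans (Scheme.Hom.preimage_top q).ge) hn s hs) hsub ≫ r =
      Spec.map (CommRingCat.ofHom (HomogeneousLocalization.Away.map
        (u.gradedAt ⊤ hY W hW (le_top.trans (Scheme.Hom.preimage_top q).ge)) s)) ≫
        (Proj.awayι (𝒮.deg ⊤ hY) s hs hn ≫ RelProj.emb p chart ⊤ hY) :=
    hr ⊤ hY W hW (le_top.trans (Scheme.Hom.preimage_top q).ge) n hn s hs hsub
  have h44 := main12144 q L hj u hL hP hPL r hr hY n hn s hs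
  rw [← hWeq] at h44
  have haEr := opensRange_awayEmb (pL := pL) (chartL := chartL) q u hY W hW hn s hs hnot
  have her : (IsOpenImmersion.lift (RelProj.domQ u pL chartL).ι
      (RelProj.awayEmb u pL chartL ⊤ hY W hW
        (le_top.trans (Scheme.Hom.preimage_top q).ge) hn s hs) hsub).opensRange =
      (RelProj.domQ u pL chartL).ι ⁻¹ᵁ (pL ⁻¹ᵁ W) := by
    rw [← haEr, ← opensRange_congr hfac, Scheme.Hom.opensRange_comp,
      Scheme.Hom.preimage_image_eq]
  have hpre : r ⁻¹ᵁ (Proj.awayι (𝒮.deg ⊤ hY) s hs hn ≫ RelProj.emb p chart ⊤ hY).opensRange =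
      (IsOpenImmersion.lift (RelProj.domQ u pL chartL).ι
      (RelProj.awayEmb u pL chartL ⊤ hY W hW
        (le_top.trans (Scheme.Hom.preimage_top q).ge) hn s hs) hsub).opensRange := by
    rw [her, ← h44, Scheme.Hom.preimage_image_eq, hιGr]
  refine ⟨_, hoe, _, hoι', ?_, ?_, ?_⟩
  · rw [← hpre, hιGr]
  · rw [← hιGr, ← opensRange_congr hfac', Scheme.Hom.opensRange_comp,
      Scheme.Hom.preimage_image_eq]
  · exact isPullback_of_chart r O r' hr' _ _ hfac' _ _ hc hpre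

end Chart2

section Crit
variable (hY : IsAffineOpen (⊤ : Y.Opens))

/-- the non-vanishing locus of `u s` -/
def XTof (n : ℕ) (s : 𝒮.presheaf.obj (op ⊤)) : X.Opens :=
  ⨆ V : {V : X.affineOpens //
          ((𝒮L.deg V.1 V.2 n : AddSubgroup (𝒮L.presheaf.obj (op (V.1 : X.Opens)))) :
            Set (𝒮L.presheaf.obj (op (V.1 : X.Opens)))) ⊆
            (Ideal.span {(u.appLE ⊤ (V.1 : X.Opens)
              (le_top.trans (Scheme.Hom.preimage_top q).ge)).hom s} :
                Set (𝒮L.presheaf.obj (op (V.1 : X.Opens))))},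
          (V.1.1 : X.Opens)

include hj in
/-- points over the non-vanishing locus are sent into the basic open -/
theorem mem_preimage_iff (hL : PicF.IsInvertible L) (hP : RelProj.IsRelProj 𝒮 p chart)
    (hPL : RelProj.IsRelProj 𝒮L pL chartL)
    (r : ((RelProj.domQ u pL chartL : PL.Opens) : Scheme.{u}) ⟶ P)
    (hr : RelProj.IsProjQMapOn u p chart pL chartL (RelProj.domQ u pL chartL) r)
    {n : ℕ} (hn : 0 < n) (s : 𝒮.presheaf.obj (op ⊤)) (hs : s ∈ 𝒮.deg ⊤ hY n)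
    (x : ((RelProj.domQ u pL chartL : PL.Opens) : Scheme.{u})) :
    r x ∈ (RelProj.emb p chart ⊤ hY) ''ᵁ Proj.basicOpen (𝒮.deg ⊤ hY) s ↔
      pL ((RelProj.domQ u pL chartL).ι x) ∈ XTof q u n s := by
  have h44 := main12144 q L hj u hL hP hPL r hr hY n hn s hs
  constructor
  · intro h
    have : (RelProj.domQ u pL chartL).ι x ∈ (RelProj.domQ u pL chartL).ι ''ᵁ
        (r ⁻¹ᵁ ((RelProj.emb p chart ⊤ hY) ''ᵁ Proj.basicOpen (𝒮.deg ⊤ hY) s)) := ⟨x, h, rfl⟩
    rw [h44] at this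
    exact this
  · intro h
    have : (RelProj.domQ u pL chartL).ι x ∈ pL ⁻¹ᵁ XTof q u n s := h
    rw [XTof, ← h44] at this
    obtain ⟨x₁, hx₁, hx₁x⟩ := this
    have := (RelProj.domQ u pL chartL).ι.isOpenEmbedding.injective hx₁x
    rw [← this]
    exact hx₁

include hj in
/-- a target-local property of the charts passes to `r` corestricted to the union of the basic
opens -/
theorem local_prop (Pm : MorphismProperty Scheme.{u}) [IsZariskiLocalAtTarget Pm]
    (hL : PicF.IsInvertible L) (hP : RelProj.IsRelProj 𝒮 p chart)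
    (hPL : RelProj.IsRelProj 𝒮L pL chartL)
    (r : ((RelProj.domQ u pL chartL : PL.Opens) : Scheme.{u}) ⟶ P)
    (hr : RelProj.IsProjQMapOn u p chart pL chartL (RelProj.domQ u pL chartL) r)
    (ι : Type u) (n : ι → ℕ) (s : ι → 𝒮.presheaf.obj (op ⊤))
    (h1 : ∀ a, 0 < n a ∧ s a ∈ 𝒮.deg ⊤ hY (n a))
    (h3 : (⨆ a, XTof q u (n a) (s a)) = ⊤)
    (h4 : ∀ a, IsAffineOpen (XTof q u (n a) (s a)))
    (hloc : ∀ a, Pm (Spec.map (CommRingCat.ofHom (HomogeneousLocalization.Away.map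
      (u.gradedAt ⊤ hY (XTof q u (n a) (s a)) (h4 a)
        (le_top.trans (Scheme.Hom.preimage_top q).ge)) (s a))))) :
    ∃ (r' : ((RelProj.domQ u pL chartL : PL.Opens) : Scheme.{u}) ⟶
        ((⨆ a, (RelProj.emb p chart ⊤ hY) ''ᵁ Proj.basicOpen (𝒮.deg ⊤ hY) (s a) : P.Opens) :
          Scheme.{u})),
      r' ≫ (⨆ a, (RelProj.emb p chart ⊤ hY) ''ᵁ Proj.basicOpen (𝒮.deg ⊤ hY) (s a) : P.Opens).ι = r ∧
        Pm r' := by
  set O : P.Opens := ⨆ a, (RelProj.emb p chart ⊤ hY) ''ᵁ Proj.basicOpen (𝒮.deg ⊤ hY) (s a)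
    with hO
  have hrO : Set.range r ⊆ Set.range O.ι := by
    rw [Scheme.Opens.range_ι]
    rintro _ ⟨x, rfl⟩
    have hx : pL ((RelProj.domQ u pL chartL).ι x) ∈ (⨆ a, XTof q u (n a) (s a)) := by
      rw [h3]; trivial
    obtain ⟨a, ha⟩ := Opens.mem_iSup.1 hx
    have := (mem_preimage_iff q L hj u hY hL hP hPL r hr (h1 a).1 (s a) (h1 a).2 x).2 ha
    exact Opens.mem_iSup.2 ⟨a, this⟩
  refine ⟨IsOpenImmersion.lift O.ι r hrO, IsOpenImmersion.lift_fac _ _ _, ?_⟩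
  have hcp := fun a => chart_pullback q L hj u hY (XTof q u (n a) (s a)) (h4 a) (h1 a).1 (s a)
    (h1 a).2 rfl hL hP hPL r hr O (IsOpenImmersion.lift O.ι r hrO)
    (IsOpenImmersion.lift_fac _ _ _) (le_iSup (fun a => (RelProj.emb p chart ⊤ hY) ''ᵁ
      Proj.basicOpen (𝒮.deg ⊤ hY) (s a)) a)
  choose e he ι' hι' her hι'r hpb using hcp
  let 𝒰 : Scheme.OpenCover.{u} (O : Scheme.{u}) :=
    Scheme.Cover.mkOfCovers ι (fun a => Spec (CommRingCat.of
      (HomogeneousLocalization.Away (𝒮.deg ⊤ hY) (s a)))) ι' (by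
        intro z
        have hz : O.ι z ∈ O := z.2
        obtain ⟨a, ha⟩ := Opens.mem_iSup.1 hz
        have : z ∈ (ι' a).opensRange := by
          rw [hι'r a]; exact ha
        obtain ⟨y, hy⟩ := this
        exact ⟨a, y, hy⟩) hι'
  apply IsZariskiLocalAtTarget.of_openCover 𝒰
  intro a
  have h := (hpb a).flip
  have e1 := h.isoPullback_hom_snd
  have e2 := (Iso.inv_comp_eq _).2 e1.symm
  show Pm (pullback.snd (IsOpenImmersion.lift O.ι r hrO) (ι' a))
  rw [← e2]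
  exact (Pm.cancel_left_of_respectsIso _ _).2 (hloc a)

include hj in
/-- converse: a target-local property of a corestriction of `r` passes to the charts -/
theorem chart_prop (Pm : MorphismProperty Scheme.{u}) [IsZariskiLocalAtTarget Pm]
    (hL : PicF.IsInvertible L) (hP : RelProj.IsRelProj 𝒮 p chart)
    (hPL : RelProj.IsRelProj 𝒮L pL chartL)
    (r : ((RelProj.domQ u pL chartL : PL.Opens) : Scheme.{u}) ⟶ P)
    (hr : RelProj.IsProjQMapOn u p chart pL chartL (RelProj.domQ u pL chartL) r)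
    (O : P.Opens) (r' : ((RelProj.domQ u pL chartL : PL.Opens) : Scheme.{u}) ⟶ O)
    (hr' : r' ≫ O.ι = r) (hPm : Pm r')
    {n : ℕ} (hn : 0 < n) (s : 𝒮.presheaf.obj (op ⊤)) (hs : s ∈ 𝒮.deg ⊤ hY n)
    (hGO : (RelProj.emb p chart ⊤ hY) ''ᵁ Proj.basicOpen (𝒮.deg ⊤ hY) s ≤ O)
    (hW : IsAffineOpen (XTof q u n s)) :
    Pm (Spec.map (CommRingCat.ofHom (HomogeneousLocalization.Away.map
      (u.gradedAt ⊤ hY (XTof q u n s) hW
        (le_top.trans (Scheme.Hom.preimage_top q).ge)) s))) := by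
  obtain ⟨e, he, ι', hι', -, -, hpb⟩ := chart_pullback q L hj u hY (XTof q u n s) hW hn s hs rfl
    hL hP hPL r hr O r' hr' hGO
  exact IsZariskiLocalAtTarget.of_isPullback hpb.flip hPm

include hj in
theorem isAffineOpen_XTof (hL : PicF.IsInvertible L) (hP : RelProj.IsRelProj 𝒮 p chart)
    (hPL : RelProj.IsRelProj 𝒮L pL chartL)
    (r : ((RelProj.domQ u pL chartL : PL.Opens) : Scheme.{u}) ⟶ P)
    (hr : RelProj.IsProjQMapOn u p chart pL chartL (RelProj.domQ u pL chartL) r)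
    (O : P.Opens) (r' : ((RelProj.domQ u pL chartL : PL.Opens) : Scheme.{u}) ⟶ O)
    (hr' : r' ≫ O.ι = r) [IsAffineHom r']
    {n : ℕ} (hn : 0 < n) (s : 𝒮.presheaf.obj (op ⊤)) (hs : s ∈ 𝒮.deg ⊤ hY n)
    (hGO : (RelProj.emb p chart ⊤ hY) ''ᵁ Proj.basicOpen (𝒮.deg ⊤ hY) s ≤ O) :
    IsAffineOpen (XTof q u n s) := by
  have hiso : IsIso pL := main12143 L hj hL hPL
  have h44 := main12144 q L hj u hL hP hPL r hr hY n hn s hs
  have hG : IsAffineOpen ((RelProj.emb p chart ⊤ hY) ''ᵁ Proj.basicOpen (𝒮.deg ⊤ hY) s) :=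
    (Proj.isAffineOpen_basicOpen (𝒮.deg ⊤ hY) s hs hn).image_of_isOpenImmersion _
  have hG' : IsAffineOpen (O.ι ⁻¹ᵁ ((RelProj.emb p chart ⊤ hY) ''ᵁ
      Proj.basicOpen (𝒮.deg ⊤ hY) s)) := by
    apply hG.preimage_of_isOpenImmersion
    rw [Scheme.Opens.opensRange_ι]; exact hGO
  have h1 : IsAffineOpen (r ⁻¹ᵁ ((RelProj.emb p chart ⊤ hY) ''ᵁ
      Proj.basicOpen (𝒮.deg ⊤ hY) s)) := by
    rw [← hr', Scheme.Hom.comp_preimage]
    exact hG'.preimage r'
  have h2 := h1.image_of_isOpenImmersion (RelProj.domQ u pL chartL).ι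
  rw [h44] at h2
  have h3 := h2.image_of_isOpenImmersion pL
  rw [Scheme.Hom.image_preimage_eq_opensRange_inf, Scheme.Hom.opensRange_of_isIso,
    top_inf_eq] at h3
  exact h3

include hj in
/-- the family attached to a corestriction of `r` -/
theorem exists_family (hL : PicF.IsInvertible L) (hP : RelProj.IsRelProj 𝒮 p chart)
    (hPL : RelProj.IsRelProj 𝒮L pL chartL)
    (r : ((RelProj.domQ u pL chartL : PL.Opens) : Scheme.{u}) ⟶ P)
    (hdom : RelProj.domQ u pL chartL = ⊤)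
    (O : P.Opens) (r' : ((RelProj.domQ u pL chartL : PL.Opens) : Scheme.{u}) ⟶ O)
    (hr' : r' ≫ O.ι = r) :
    ∃ (n : ((RelProj.domQ u pL chartL : PL.Opens) : Scheme.{u}) → ℕ)
      (s : ((RelProj.domQ u pL chartL : PL.Opens) : Scheme.{u}) → 𝒮.presheaf.obj (op ⊤)),
      (∀ x, 0 < n x ∧ s x ∈ 𝒮.deg ⊤ hY (n x)) ∧
      (∀ x, r x ∈ (RelProj.emb p chart ⊤ hY) ''ᵁ Proj.basicOpen (𝒮.deg ⊤ hY) (s x)) ∧
      (∀ x, (RelProj.emb p chart ⊤ hY) ''ᵁ Proj.basicOpen (𝒮.deg ⊤ hY) (s x) ≤ O) := by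
  have hex : ∀ x : ((RelProj.domQ u pL chartL : PL.Opens) : Scheme.{u}),
      ∃ (n : ℕ) (s : 𝒮.presheaf.obj (op ⊤)), (0 < n ∧ s ∈ 𝒮.deg ⊤ hY n) ∧
        r x ∈ (RelProj.emb p chart ⊤ hY) ''ᵁ Proj.basicOpen (𝒮.deg ⊤ hY) s ∧
        (RelProj.emb p chart ⊤ hY) ''ᵁ Proj.basicOpen (𝒮.deg ⊤ hY) s ≤ O := by
    intro x
    have hrx : r x ∈ Set.range (RelProj.emb p chart ⊤ hY) := by
      rw [RelCone3.range_emb]; trivial
    obtain ⟨z, hz⟩ := hrx
    have hrO : r x ∈ O := by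
      rw [← hr']
      exact (r' x).2
    have hzO : z ∈ (RelProj.emb p chart ⊤ hY) ⁻¹ᵁ O := by
      change RelProj.emb p chart ⊤ hY z ∈ O
      rw [hz]; exact hrO
    obtain ⟨n, hn, s, hs, hzs, hle⟩ := exists_basicOpen_le (𝒮.deg ⊤ hY) _ z hzO
    refine ⟨n, s, ⟨hn, hs⟩, ⟨z, hzs, hz⟩, ?_⟩
    rintro _ ⟨z', hz', rfl⟩
    exact hle hz'
  choose n s h1 h2 h3 using hex
  exact ⟨n, s, h1, h2, h3⟩

include hj in
/-- **S12150** -/
theorem main12150 (hL : PicF.IsInvertible L) (hP : RelProj.IsRelProj 𝒮 p chart)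
    (hPL : RelProj.IsRelProj 𝒮L pL chartL)
    (r : ((RelProj.domQ u pL chartL : PL.Opens) : Scheme.{u}) ⟶ P)
    (hr : RelProj.IsProjQMapOn u p chart pL chartL (RelProj.domQ u pL chartL) r) :
    (RelProj.domQ u pL chartL = ⊤ ∧ IsImmersion r) ↔
      ∃ (ι : Type u) (n : ι → ℕ) (s : ι → 𝒮.presheaf.obj (op ⊤)) (XT : ι → X.Opens),
        (∀ a, 0 < n a ∧ s a ∈ 𝒮.deg ⊤ hY (n a)) ∧
        (∀ a, XT a = (⨆ V : {V : X.affineOpens //
          ((𝒮L.deg V.1 V.2 (n a) : AddSubgroup (𝒮L.presheaf.obj (op (V.1 : X.Opens)))) : Set (𝒮L.presheaf.obj (op (V.1 : X.Opens)))) ⊆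
            (Ideal.span {(u.appLE ⊤ (V.1 : X.Opens) (le_top.trans (Scheme.Hom.preimage_top q).ge)).hom (s a)} : Set (𝒮L.presheaf.obj (op (V.1 : X.Opens))))},
          (V.1.1 : X.Opens))) ∧
        (⨆ a, XT a) = ⊤ ∧ (∀ a, IsAffineOpen (XT a)) ∧
        (∀ (a : ι) (t : X.presheaf.obj (op (XT a))), ∃ (m : ℕ) (_ : 0 < m) (s' : 𝒮.presheaf.obj (op ⊤)) (_ : s' ∈ 𝒮.deg ⊤ hY (m * n a)),
            (𝒮L.str.app (op (XT a))).hom t * ((u.appLE ⊤ (XT a) (le_top.trans (Scheme.Hom.preimage_top q).ge)).hom (s a)) ^ m =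
              (u.appLE ⊤ (XT a) (le_top.trans (Scheme.Hom.preimage_top q).ge)).hom s') := by
  constructor
  · rintro ⟨hdom, himm⟩
    have hiso : IsIso pL := main12143 L hj hL hPL
    obtain ⟨n, s, h1, h2, h3⟩ := exists_family q L hj u hY hL hP hPL r hdom r.coborderRange
      r.liftCoborder r.liftCoborder_ι
    have h4 : ∀ x, IsAffineOpen (XTof q u (n x) (s x)) := fun x =>
      isAffineOpen_XTof q L hj u hY hL hP hPL r hr r.coborderRange r.liftCoborder
        r.liftCoborder_ι (h1 x).1 (s x) (h1 x).2 (h3 x)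
    refine ⟨_, n, s, fun x => XTof q u (n x) (s x), h1, fun x => rfl, ?_, h4, ?_⟩
    · refine eq_top_iff.2 fun x₀ _ => ?_
      obtain ⟨x', hx'⟩ := pL.homeomorph.surjective x₀
      have hx'd : x' ∈ RelProj.domQ u pL chartL := by rw [hdom]; trivial
      have := (mem_preimage_iff q L hj u hY hL hP hPL r hr (h1 ⟨x', hx'd⟩).1 (s ⟨x', hx'd⟩)
        (h1 ⟨x', hx'd⟩).2 ⟨x', hx'd⟩).1 (h2 ⟨x', hx'd⟩)
      have e : pL ((RelProj.domQ u pL chartL).ι ⟨x', hx'd⟩) = x₀ := hx'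
      rw [e] at this
      exact Opens.mem_iSup.2 ⟨⟨x', hx'd⟩, this⟩
    · intro x
      have hci := chart_prop q L hj u hY @IsClosedImmersion hL hP hPL r hr r.coborderRange
        r.liftCoborder r.liftCoborder_ι inferInstance (h1 x).1 (s x) (h1 x).2 (h3 x) (h4 x)
      have hsurj := @surjective_of_isClosedImmersion_SpecMap _ _ _ hci
      have hnot := hnot_of_eq q L hj u hY (XTof q u (n x) (s x)) (h4 x) (s x) rfl hPL
      have hbij := cmp_bijective q L hj u hY (XTof q u (n x) (s x)) (h4 x) (h1 x).1 (s x)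
        (h1 x).2 hnot hL hPL
      exact (cond3_iff q u hY (XTof q u (n x) (s x)) (h4 x) (h1 x).1 (s x) (h1 x).2 hbij).2 hsurj
  · rintro ⟨ι, n, s, XT, h1, h2, h3, h4, h5⟩
    obtain rfl : XT = fun a => XTof q u (n a) (s a) := funext h2
    have hdom : RelProj.domQ u pL chartL = ⊤ := (main12145 q L hj u hL hPL hY).2 (fun x => by
      have hx : x ∈ ⨆ a, XTof q u (n a) (s a) := by rw [h3]; trivial
      obtain ⟨a, ha⟩ := Opens.mem_iSup.1 hx
      obtain ⟨⟨⟨V, (hV : IsAffineOpen V)⟩, hspan⟩, hxV⟩ := Opens.mem_iSup.1 ha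
      exact ⟨n a, (h1 a).1, s a, (h1 a).2, V, hV, hxV, hspan⟩)
    refine ⟨hdom, ?_⟩
    obtain ⟨r', hr', hci⟩ := local_prop q L hj u hY @IsClosedImmersion hL hP hPL r hr ι n s h1
      h3 h4 (fun a => by
        apply IsClosedImmersion.spec_of_surjective
        have hnot := hnot_of_eq q L hj u hY (XTof q u (n a) (s a)) (h4 a) (s a) rfl hPL
        have hbij := cmp_bijective q L hj u hY (XTof q u (n a) (s a)) (h4 a) (h1 a).1 (s a)
          (h1 a).2 hnot hL hPL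
        exact (cond3_iff q u hY (XTof q u (n a) (s a)) (h4 a) (h1 a).1 (s a) (h1 a).2 hbij).1
          (h5 a))
    rw [← hr']
    infer_instance

end Crit

end Main

end Groth.Agent.Helper1.SymInvLoc
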