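import Mathlib
import Groth.Agent.Lib.Helper1.SymInvLoc5

set_option autoImplicit false
universe u

open CategoryTheory CategoryTheory.Limits AlgebraicGeometry TopologicalSpace Opposite
open HomogeneousLocalization
open scoped HomogeneousIdeal

namespace Groth.Agent.Helper1.SymInvLoc

theorem isIso_ι_top (P : Scheme.{u}) : IsIso (⊤ : P.Opens).ι :=
  (inferInstance : IsIso P.topIso.hom)

theorem isIso_ι_of_eq_top {P : Scheme.{u}} (O : P.Opens) (h : O = ⊤) : IsIso O.ι := by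
  subst h; exact isIso_ι_top P

section Main
open Groth.Agent.Helper1.SymAlg Groth.Agent.Helper1.LGen Groth.Agent.Helper1.QcCech
open Groth.Agent.Helper1.ProjQ
variable {Y X P PL : Scheme.{u}} (q : X ⟶ Y) (L : X.Modules) [L.IsQuasicoherent]
  {𝒮 : RelProj.QCGrAlg Y} {𝒮L : RelProj.QCGrAlg X} {j : L ⟶ 𝒮L.toModule}
  (hj : RelProj.IsGrSymAlg L 𝒮L j) (u : RelProj.QGrHom q 𝒮 𝒮L)
  {p : P ⟶ Y}
  {chart : ∀ (U : Y.Opens) (hU : IsAffineOpen U),
    (((p ⁻¹ᵁ U : P.Opens) : Scheme.{u}) ≅ Proj (𝒮.deg U hU))}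
  {pL : PL ⟶ X}
  {chartL : ∀ (U : X.Opens) (hU : IsAffineOpen U),
    (((pL ⁻¹ᵁ U : PL.Opens) : Scheme.{u}) ≅ Proj (𝒮L.deg U hU))}
  (hY : IsAffineOpen (⊤ : Y.Opens))

omit [L.IsQuasicoherent] in
theorem iSup_image_eq_top_iff {ι : Type u} (s : ι → 𝒮.presheaf.obj (op ⊤)) :
    (⨆ a, (RelProj.emb p chart ⊤ hY) ''ᵁ Proj.basicOpen (𝒮.deg ⊤ hY) (s a) : P.Opens) = ⊤ ↔
      (⨆ a, Proj.basicOpen (𝒮.deg ⊤ hY) (s a)) = ⊤ := by
  have hsurj : Function.Surjective (RelProj.emb p chart ⊤ hY) := by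
    rw [← Set.range_eq_univ, RelCone3.range_emb]; rfl
  constructor
  · intro h
    refine eq_top_iff.2 fun z _ => ?_
    have hz : RelProj.emb p chart ⊤ hY z ∈ (⨆ a, (RelProj.emb p chart ⊤ hY) ''ᵁ
        Proj.basicOpen (𝒮.deg ⊤ hY) (s a) : P.Opens) := by rw [h]; trivial
    obtain ⟨a, z', hz', hzz⟩ := Opens.mem_iSup.1 hz
    have := (RelProj.emb p chart ⊤ hY).isOpenEmbedding.injective hzz
    exact Opens.mem_iSup.2 ⟨a, this ▸ hz'⟩
  · intro h
    refine eq_top_iff.2 fun x _ => ?_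
    obtain ⟨z, rfl⟩ := hsurj x
    have hz : z ∈ (⨆ a, Proj.basicOpen (𝒮.deg ⊤ hY) (s a)) := by rw [h]; trivial
    obtain ⟨a, ha⟩ := Opens.mem_iSup.1 hz
    exact Opens.mem_iSup.2 ⟨a, z, ha, rfl⟩

include hj in
/-- **S12152** -/
theorem main12152 (hL : PicF.IsInvertible L) (hP : RelProj.IsRelProj 𝒮 p chart)
    (hPL : RelProj.IsRelProj 𝒮L pL chartL)
    (r : ((RelProj.domQ u pL chartL : PL.Opens) : Scheme.{u}) ⟶ P)
    (hr : RelProj.IsProjQMapOn u p chart pL chartL (RelProj.domQ u pL chartL) r) :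
    (RelProj.domQ u pL chartL = ⊤ ∧ IsClosedImmersion r) ↔
      ∃ (ι : Type u) (n : ι → ℕ) (s : ι → 𝒮.presheaf.obj (op ⊤)) (XT : ι → X.Opens),
        (∀ a, 0 < n a ∧ s a ∈ 𝒮.deg ⊤ hY (n a)) ∧
        (∀ a, XT a = (⨆ V : {V : X.affineOpens //
          ((𝒮L.deg V.1 V.2 (n a) : AddSubgroup (𝒮L.presheaf.obj (op (V.1 : X.Opens)))) : Set (𝒮L.presheaf.obj (op (V.1 : X.Opens)))) ⊆
            (Ideal.span {(u.appLE ⊤ (V.1 : X.Opens) (le_top.trans (Scheme.Hom.preimage_top q).ge)).hom (s a)} : Set (𝒮L.presheaf.obj (op (V.1 : X.Opens))))},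
          (V.1.1 : X.Opens))) ∧
        (⨆ a, XT a) = ⊤ ∧ (∀ a, IsAffineOpen (XT a)) ∧
        (∀ (a : ι) (t : X.presheaf.obj (op (XT a))), ∃ (m : ℕ) (_ : 0 < m) (s' : 𝒮.presheaf.obj (op ⊤)) (_ : s' ∈ 𝒮.deg ⊤ hY (m * n a)),
            (𝒮L.str.app (op (XT a))).hom t * ((u.appLE ⊤ (XT a) (le_top.trans (Scheme.Hom.preimage_top q).ge)).hom (s a)) ^ m =
              (u.appLE ⊤ (XT a) (le_top.trans (Scheme.Hom.preimage_top q).ge)).hom s') ∧
        (⨆ a, Proj.basicOpen (𝒮.deg ⊤ hY) (s a)) = ⊤ := by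
  constructor
  · rintro ⟨hdom, himm⟩
    have hiso : IsIso pL := main12143 L hj hL hPL
    have hrT : Set.range r ⊆ Set.range (⊤ : P.Opens).ι := by
      rw [Scheme.Opens.range_ι]; exact fun _ _ => trivial
    have hr' : IsOpenImmersion.lift (⊤ : P.Opens).ι r hrT ≫ (⊤ : P.Opens).ι = r :=
      IsOpenImmersion.lift_fac _ _ _
    have hci : IsClosedImmersion (IsOpenImmersion.lift (⊤ : P.Opens).ι r hrT) := by
      have := isIso_ι_top P
      have : IsOpenImmersion.lift (⊤ : P.Opens).ι r hrT = r ≫ inv (⊤ : P.Opens).ι := by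
        rw [IsIso.eq_comp_inv]; exact hr'
      rw [this]; infer_instance
    -- a family indexed by the points of `Proj`
    have hex : ∀ z : Proj (𝒮.deg ⊤ hY), ∃ (n : ℕ) (s : 𝒮.presheaf.obj (op ⊤)),
        (0 < n ∧ s ∈ 𝒮.deg ⊤ hY n) ∧ z ∈ Proj.basicOpen (𝒮.deg ⊤ hY) s := by
      intro z
      obtain ⟨n, hn, s, hs, hzs, -⟩ := exists_basicOpen_le (𝒮.deg ⊤ hY) ⊤ z trivial
      exact ⟨n, s, ⟨hn, hs⟩, hzs⟩
    choose n s h1 h2 using hex
    have h4 : ∀ z, IsAffineOpen (XTof q u (n z) (s z)) := fun z =>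
      isAffineOpen_XTof q L hj u hY hL hP hPL r hr ⊤ _ hr' (h1 z).1 (s z) (h1 z).2 le_top
    refine ⟨_, n, s, fun z => XTof q u (n z) (s z), h1, fun z => rfl, ?_, h4, ?_, ?_⟩
    · refine eq_top_iff.2 fun x₀ _ => ?_
      obtain ⟨x', hx'⟩ := pL.homeomorph.surjective x₀
      have hx'd : x' ∈ RelProj.domQ u pL chartL := by rw [hdom]; trivial
      have hrx : r ⟨x', hx'd⟩ ∈ Set.range (RelProj.emb p chart ⊤ hY) := by
        rw [RelCone3.range_emb]; trivial
      obtain ⟨z, hz⟩ := hrx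
      have hmem : r ⟨x', hx'd⟩ ∈ (RelProj.emb p chart ⊤ hY) ''ᵁ
          Proj.basicOpen (𝒮.deg ⊤ hY) (s z) := ⟨z, h2 z, hz⟩
      have := (mem_preimage_iff q L hj u hY hL hP hPL r hr (h1 z).1 (s z)
        (h1 z).2 ⟨x', hx'd⟩).1 hmem
      have e : pL ((RelProj.domQ u pL chartL).ι ⟨x', hx'd⟩) = x₀ := hx'
      rw [e] at this
      exact Opens.mem_iSup.2 ⟨z, this⟩
    · intro z
      have hci' := chart_prop q L hj u hY @IsClosedImmersion hL hP hPL r hr ⊤ _ hr' hci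
        (h1 z).1 (s z) (h1 z).2 le_top (h4 z)
      have hsurj := @surjective_of_isClosedImmersion_SpecMap _ _ _ hci'
      have hnot := hnot_of_eq q L hj u hY (XTof q u (n z) (s z)) (h4 z) (s z) rfl hPL
      have hbij := cmp_bijective q L hj u hY (XTof q u (n z) (s z)) (h4 z) (h1 z).1 (s z)
        (h1 z).2 hnot hL hPL
      exact (cond3_iff q u hY (XTof q u (n z) (s z)) (h4 z) (h1 z).1 (s z) (h1 z).2 hbij).2 hsurj
    · exact eq_top_iff.2 fun z _ => Opens.mem_iSup.2 ⟨z, h2 z⟩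
  · rintro ⟨ι, n, s, XT, h1, h2, h3, h4, h5, h6⟩
    obtain rfl : XT = fun a => XTof q u (n a) (s a) := funext h2
    have hdom : RelProj.domQ u pL chartL = ⊤ := (main12145 q L hj u hL hPL hY).2 (fun x => by
      have hx : x ∈ ⨆ a, XTof q u (n a) (s a) := by rw [h3]; trivial
      obtain ⟨a, ha⟩ := Opens.mem_iSup.1 hx
      obtain ⟨⟨⟨V, (hV : IsAffineOpen V)⟩, hspan⟩, hxV⟩ := Opens.mem_iSup.1 ha
      exact ⟨n a, (h1 a).1, s a, (h1 a).2, V, hV, hxV, hspan⟩)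
    refine ⟨hdom, ?_⟩
    obtain ⟨r', hr', hci⟩ := local_prop q L hj u hY @IsClosedImmersion hL hP hPL r hr ι n s h1
      h3 h4 (fun a => by
        apply IsClosedImmersion.spec_of_surjective
        have hnot := hnot_of_eq q L hj u hY (XTof q u (n a) (s a)) (h4 a) (s a) rfl hPL
        have hbij := cmp_bijective q L hj u hY (XTof q u (n a) (s a)) (h4 a) (h1 a).1 (s a)
          (h1 a).2 hnot hL hPL
        exact (cond3_iff q u hY (XTof q u (n a) (s a)) (h4 a) (h1 a).1 (s a) (h1 a).2 hbij).1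
          (h5 a))
    have := isIso_ι_of_eq_top _ ((iSup_image_eq_top_iff (p := p) (chart := chart) hY s).2 h6)
    rw [← hr']
    infer_instance

include hY in
theorem cond4_iff (W : X.Opens) (hW : IsAffineOpen W) {n : ℕ} (hn : 0 < n)
    (s : 𝒮.presheaf.obj (op ⊤)) (hs : s ∈ 𝒮.deg ⊤ hY n) :
    (∀ (m : ℕ), 0 < m → ∀ s' ∈ 𝒮.deg ⊤ hY (m * n),
        u.gradedAt ⊤ hY W hW (le_top.trans (Scheme.Hom.preimage_top q).ge) s' = 0 →
        ∃ (k : ℕ), 0 < k ∧ s ^ k * s' = 0) ↔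
      Function.Injective (HomogeneousLocalization.Away.map
        (u.gradedAt ⊤ hY W hW (le_top.trans (Scheme.Hom.preimage_top q).ge)) s) := by
  set g := u.gradedAt ⊤ hY W hW (le_top.trans (Scheme.Hom.preimage_top q).ge) with hg
  constructor
  · intro h
    rw [injective_iff_map_eq_zero]
    intro x hx
    obtain ⟨m, s', hs', rfl⟩ := Away.mk_surjective (𝒮.deg ⊤ hY) hs x
    rw [Away.map_mk, HomogeneousLocalization.ext_iff_val, Away.val_mk,
      HomogeneousLocalization.val_zero, Localization.mk_eq_mk', IsLocalization.mk'_eq_zero_iff] at hx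
    obtain ⟨⟨_, k, rfl⟩, hk⟩ := hx
    have h1 : s ^ (k + 1) ∈ 𝒮.deg ⊤ hY ((k + 1) • n) := SetLike.pow_mem_graded (k + 1) hs
    have h2 := SetLike.mul_mem_graded h1 hs'
    have e : (k + 1) • n + m • n = (k + 1 + m) * n := by
      simp only [smul_eq_mul]; ring
    rw [e] at h2
    have h3 : g (s ^ (k + 1) * s') = 0 := by
      have hk' : g s ^ k * g s' = 0 := hk
      rw [map_mul, map_pow, pow_succ]
      calc g s ^ k * g s * g s' = g s * (g s ^ k * g s') := by ring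
        _ = 0 := by rw [hk', mul_zero]
    obtain ⟨k', -, hk'⟩ := h (k + 1 + m) (by omega) _ h2 h3
    rw [HomogeneousLocalization.ext_iff_val, Away.val_mk,
      HomogeneousLocalization.val_zero, Localization.mk_eq_mk', IsLocalization.mk'_eq_zero_iff]
    refine ⟨⟨s ^ (k' + (k + 1)), _, rfl⟩, ?_⟩
    show s ^ (k' + (k + 1)) * s' = 0
    rw [pow_add, mul_assoc]
    exact hk'
  · intro h m hm s' hs' h0
    have hs'' : s' ∈ 𝒮.deg ⊤ hY (m • n) := by rwa [smul_eq_mul]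
    have hx : HomogeneousLocalization.Away.map g s (Away.mk (𝒮.deg ⊤ hY) hs m s' hs'') = 0 := by
      rw [Away.map_mk, HomogeneousLocalization.ext_iff_val, Away.val_mk,
        HomogeneousLocalization.val_zero, Localization.mk_eq_mk', IsLocalization.mk'_eq_zero_iff]
      exact ⟨1, by rw [h0, mul_zero]⟩
    have hx0 := h (hx.trans (map_zero _).symm)
    rw [HomogeneousLocalization.ext_iff_val, Away.val_mk,
      HomogeneousLocalization.val_zero, Localization.mk_eq_mk', IsLocalization.mk'_eq_zero_iff] at hx0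
    obtain ⟨⟨_, k, rfl⟩, hk⟩ := hx0
    refine ⟨k + 1, Nat.succ_pos _, ?_⟩
    have hk' : s ^ k * s' = 0 := hk
    calc s ^ (k + 1) * s' = s * (s ^ k * s') := by ring
      _ = 0 := by rw [hk', mul_zero]

include hj in
/-- **S12151** -/
theorem main12151 (hL : PicF.IsInvertible L) (hP : RelProj.IsRelProj 𝒮 p chart)
    (hPL : RelProj.IsRelProj 𝒮L pL chartL)
    (r : ((RelProj.domQ u pL chartL : PL.Opens) : Scheme.{u}) ⟶ P)
    (hr : RelProj.IsProjQMapOn u p chart pL chartL (RelProj.domQ u pL chartL) r) :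
    (RelProj.domQ u pL chartL = ⊤ ∧ IsOpenImmersion r) ↔
      ∃ (ι : Type u) (n : ι → ℕ) (s : ι → 𝒮.presheaf.obj (op ⊤)) (XT : ι → X.Opens),
        (∀ a, 0 < n a ∧ s a ∈ 𝒮.deg ⊤ hY (n a)) ∧
        (∀ a, XT a = (⨆ V : {V : X.affineOpens //
          ((𝒮L.deg V.1 V.2 (n a) : AddSubgroup (𝒮L.presheaf.obj (op (V.1 : X.Opens)))) : Set (𝒮L.presheaf.obj (op (V.1 : X.Opens)))) ⊆
            (Ideal.span {(u.appLE ⊤ (V.1 : X.Opens) (le_top.trans (Scheme.Hom.preimage_top q).ge)).hom (s a)} : Set (𝒮L.presheaf.obj (op (V.1 : X.Opens))))},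
          (V.1.1 : X.Opens))) ∧
        (⨆ a, XT a) = ⊤ ∧ (∀ a, IsAffineOpen (XT a)) ∧
        (∀ (a : ι) (t : X.presheaf.obj (op (XT a))), ∃ (m : ℕ) (_ : 0 < m) (s' : 𝒮.presheaf.obj (op ⊤)) (_ : s' ∈ 𝒮.deg ⊤ hY (m * n a)),
            (𝒮L.str.app (op (XT a))).hom t * ((u.appLE ⊤ (XT a) (le_top.trans (Scheme.Hom.preimage_top q).ge)).hom (s a)) ^ m =
              (u.appLE ⊤ (XT a) (le_top.trans (Scheme.Hom.preimage_top q).ge)).hom s') ∧
        (∀ (a : ι) (m : ℕ), 0 < m → ∀ s' ∈ 𝒮.deg ⊤ hY (m * n a),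
            (u.appLE ⊤ (XT a) (le_top.trans (Scheme.Hom.preimage_top q).ge)).hom s' = 0 → ∃ (k : ℕ), 0 < k ∧ (s a) ^ k * s' = 0) := by
  constructor
  · rintro ⟨hdom, himm⟩
    have hiso : IsIso pL := main12143 L hj hL hPL
    obtain ⟨n, s, h1, h2, h3⟩ := exists_family q L hj u hY hL hP hPL r hdom r.opensRange
      r.isoOpensRange.hom r.isoOpensRange_hom_ι
    have h4 : ∀ x, IsAffineOpen (XTof q u (n x) (s x)) := fun x =>
      isAffineOpen_XTof q L hj u hY hL hP hPL r hr r.opensRange r.isoOpensRange.hom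
        r.isoOpensRange_hom_ι (h1 x).1 (s x) (h1 x).2 (h3 x)
    have hbijφ : ∀ x, Function.Bijective (HomogeneousLocalization.Away.map
        (u.gradedAt ⊤ hY (XTof q u (n x) (s x)) (h4 x)
          (le_top.trans (Scheme.Hom.preimage_top q).ge)) (s x)) := by
      intro x
      have hci := chart_prop q L hj u hY (MorphismProperty.isomorphisms Scheme.{u}) hL hP hPL r hr
        r.opensRange r.isoOpensRange.hom r.isoOpensRange_hom_ι
        ((MorphismProperty.isomorphisms.iff _).2 inferInstance)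
        (h1 x).1 (s x) (h1 x).2 (h3 x) (h4 x)
      have hci' := (MorphismProperty.isomorphisms.iff _).1 hci
      exact isIso_SpecMap_iff.1 hci'
    refine ⟨_, n, s, fun x => XTof q u (n x) (s x), h1, fun x => rfl, ?_, h4, ?_, ?_⟩
    · refine eq_top_iff.2 fun x₀ _ => ?_
      obtain ⟨x', hx'⟩ := pL.homeomorph.surjective x₀
      have hx'd : x' ∈ RelProj.domQ u pL chartL := by rw [hdom]; trivial
      have := (mem_preimage_iff q L hj u hY hL hP hPL r hr (h1 ⟨x', hx'd⟩).1 (s ⟨x', hx'd⟩)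
        (h1 ⟨x', hx'd⟩).2 ⟨x', hx'd⟩).1 (h2 ⟨x', hx'd⟩)
      have e : pL ((RelProj.domQ u pL chartL).ι ⟨x', hx'd⟩) = x₀ := hx'
      rw [e] at this
      exact Opens.mem_iSup.2 ⟨⟨x', hx'd⟩, this⟩
    · intro x
      have hnot := hnot_of_eq q L hj u hY (XTof q u (n x) (s x)) (h4 x) (s x) rfl hPL
      have hbij := cmp_bijective q L hj u hY (XTof q u (n x) (s x)) (h4 x) (h1 x).1 (s x)
        (h1 x).2 hnot hL hPL
      exact (cond3_iff q u hY (XTof q u (n x) (s x)) (h4 x) (h1 x).1 (s x) (h1 x).2 hbij).2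
        (hbijφ x).2
    · intro x
      exact (cond4_iff q u hY (XTof q u (n x) (s x)) (h4 x) (h1 x).1 (s x) (h1 x).2).2 (hbijφ x).1
  · rintro ⟨ι, n, s, XT, h1, h2, h3, h4, h5, h6⟩
    obtain rfl : XT = fun a => XTof q u (n a) (s a) := funext h2
    have hdom : RelProj.domQ u pL chartL = ⊤ := (main12145 q L hj u hL hPL hY).2 (fun x => by
      have hx : x ∈ ⨆ a, XTof q u (n a) (s a) := by rw [h3]; trivial
      obtain ⟨a, ha⟩ := Opens.mem_iSup.1 hx
      obtain ⟨⟨⟨V, (hV : IsAffineOpen V)⟩, hspan⟩, hxV⟩ := Opens.mem_iSup.1 ha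
      exact ⟨n a, (h1 a).1, s a, (h1 a).2, V, hV, hxV, hspan⟩)
    refine ⟨hdom, ?_⟩
    obtain ⟨r', hr', hci⟩ := local_prop q L hj u hY @IsOpenImmersion hL hP hPL r hr ι n s h1
      h3 h4 (fun a => by
        have hnot := hnot_of_eq q L hj u hY (XTof q u (n a) (s a)) (h4 a) (s a) rfl hPL
        have hbij := cmp_bijective q L hj u hY (XTof q u (n a) (s a)) (h4 a) (h1 a).1 (s a)
          (h1 a).2 hnot hL hPL
        have hs := (cond3_iff q u hY (XTof q u (n a) (s a)) (h4 a) (h1 a).1 (s a) (h1 a).2 hbij).1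
          (h5 a)
        have hi := (cond4_iff q u hY (XTof q u (n a) (s a)) (h4 a) (h1 a).1 (s a) (h1 a).2).1
          (h6 a)
        have : IsIso (Spec.map (CommRingCat.ofHom (HomogeneousLocalization.Away.map
            (u.gradedAt ⊤ hY (XTof q u (n a) (s a)) (h4 a)
              (le_top.trans (Scheme.Hom.preimage_top q).ge)) (s a)))) :=
          isIso_SpecMap_iff.2 ⟨hi, hs⟩
        infer_instance)
    rw [← hr']
    infer_instance

end Main

end Groth.Agent.Helper1.SymInvLoc
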