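import Mathlib
import Groth.Agent.Lib.Helper1.SymBr7
import Groth.Agent.Lib.Helper1.SymInvLoc6

set_option autoImplicit false
universe u
open CategoryTheory CategoryTheory.Limits AlgebraicGeometry TopologicalSpace Opposite

namespace Groth.Agent.Helper1.SymBr

open Groth.Agent.Helper1.QcCech Groth.Agent.Helper1.LGen
open Groth.Agent.Helper1 Groth.Agent.Helper1.TmulLib Groth.Agent.Helper1.TensLib
open Groth.Agent.Helper1.TwistSec Groth.Agent.Helper1.VT Groth.Agent.Helper1.SymAlg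
open Groth.Agent.Helper1.AmpleLib Groth.Agent.Helper1.TwForm

section Hom
variable {X Y : Scheme.{u}} {f : X ⟶ Y} {𝒜 : RelProj.QCGrAlg Y} {𝒮L : RelProj.QCGrAlg X}
  (u : RelProj.QGrHom f 𝒜 𝒮L)

theorem isHomog_app (U : Y.Opens) (hU : IsAffineOpen U) {n : ℕ} {τ : 𝒜.presheaf.obj (op U)}
    (hτ : τ ∈ 𝒜.deg U hU n) : IsHomog 𝒮L (f ⁻¹ᵁ U) ((u.app U).hom τ) n :=
  fun V hV h => u.map_mem U hU V hV h hτ

/-- preimages of homogeneous sections under an injective graded morphism are homogeneous -/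
theorem mem_deg_of_isHomog (U : Y.Opens) (hU : IsAffineOpen U)
    (hinj : Function.Injective (u.app U).hom) {n : ℕ} {τ : 𝒜.presheaf.obj (op U)}
    (hτ : IsHomog 𝒮L (f ⁻¹ᵁ U) ((u.app U).hom τ) n) : τ ∈ 𝒜.deg U hU n := by
  classical
  have hz : ∀ d, d ≠ n → ((DirectSum.decompose (𝒜.deg U hU) τ d : 𝒜.deg U hU d) :
      𝒜.presheaf.obj (op U)) = 0 := by
    intro d hd
    apply hinj
    rw [map_zero]
    apply eq_zero_of_locally
    intro x hx
    obtain ⟨_, ⟨V, hV, rfl⟩, hxV, hVle⟩ :=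
      X.isBasis_affineOpens.exists_subset_of_mem_open hx (f ⁻¹ᵁ U).2
    refine ⟨V, hVle, hxV, ?_⟩
    have e1 := GradedRingHom.map_directSumDecompose (𝒜.deg U hU) (𝒮L.deg V hV)
      (u.gradedAt U hU V hV hVle) (x := τ) (i := d)
    have e2 : (u.gradedAt U hU V hV hVle) τ ∈ 𝒮L.deg V hV n := hτ V hV hVle
    have e3 := DirectSum.decompose_of_mem_ne (𝒮L.deg V hV) e2 (Ne.symm hd)
    change (u.gradedAt U hU V hV hVle) _ = 0
    rw [e1, e3]
  have hsum := DirectSum.sum_support_decompose (𝒜.deg U hU) τ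
  have : τ = ((DirectSum.decompose (𝒜.deg U hU) τ n : 𝒜.deg U hU n) :
      𝒜.presheaf.obj (op U)) := by
    conv_lhs => rw [← hsum]
    rw [Finset.sum_eq_single n]
    · intro d _ hd
      exact hz d hd
    · intro hn
      rw [DFinsupp.notMem_support_iff] at hn
      rw [hn]
      rfl
  rw [this]
  exact SetLike.coe_mem _

/-- the non-vanishing locus of the image of a section of `𝒜` over `U` -/
theorem iSup_eq_nz (U : Y.Opens) (n : ℕ) (s : 𝒜.presheaf.obj (op U)) :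
    (⨆ V : {V : X.affineOpens // ∃ hle : (V.1 : X.Opens) ≤ f ⁻¹ᵁ U,
        ((𝒮L.deg V.1 V.2 n : AddSubgroup (𝒮L.presheaf.obj (op (V.1 : X.Opens)))) :
          Set (𝒮L.presheaf.obj (op (V.1 : X.Opens)))) ⊆
          (Ideal.span {(u.appLE U (V.1 : X.Opens) hle).hom s} :
            Set (𝒮L.presheaf.obj (op (V.1 : X.Opens))))}, (V.1.1 : X.Opens)) =
      nz 𝒮L (f ⁻¹ᵁ U) n ((u.app U).hom s) := rfl

theorem XTof_eq_nz (n : ℕ) (s : 𝒜.presheaf.obj (op ⊤)) :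
    SymInvLoc.XTof f u n s = nz 𝒮L (f ⁻¹ᵁ ⊤) n ((u.app ⊤).hom s) := by
  ext x
  constructor
  · intro hx
    obtain ⟨⟨⟨V, (hV : IsAffineOpen V)⟩, hspan⟩, hxV⟩ := Opens.mem_iSup.1 hx
    exact mem_nz_iff.2 ⟨V, hV, le_top.trans (Scheme.Hom.preimage_top f).ge, hxV, hspan⟩
  · intro hx
    obtain ⟨V, hV, h, hxV, hspan⟩ := mem_nz_iff.1 hx
    exact Opens.mem_iSup.2 ⟨⟨⟨V, hV⟩, hspan⟩, hxV⟩

end Hom

end Groth.Agent.Helper1.SymBr
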