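import Mathlib
import Groth.Agent.Lib.Helper1.SymBr8
import Groth.Agent.Lib.Helper1.RP1

set_option autoImplicit false
universe u
open CategoryTheory CategoryTheory.Limits AlgebraicGeometry TopologicalSpace Opposite

namespace Groth.Agent.Helper1.SymBr

open Groth.Agent.Helper1.QcCech Groth.Agent.Helper1.LGen
open Groth.Agent.Helper1 Groth.Agent.Helper1.TmulLib Groth.Agent.Helper1.TensLib
open Groth.Agent.Helper1.TwistSec Groth.Agent.Helper1.VT Groth.Agent.Helper1.SymAlg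
open Groth.Agent.Helper1.AmpleLib Groth.Agent.Helper1.TwForm Groth.Agent.Helper1.ProjQ
open Groth.Agent.Helper1.SymInvLoc

section Nil
variable {X : Scheme.{u}} {𝒮L : RelProj.QCGrAlg X}

/-- a section which is nilpotent on every affine open of a quasi-compact open is nilpotent -/
theorem isNilpotent_of_locally {W : X.Opens} (hWc : IsCompact (W : Set X))
    (σ : 𝒮L.presheaf.obj (op W))
    (h : ∀ (V : X.Opens) (_ : IsAffineOpen V) (hVW : V ≤ W), IsNilpotent (rs 𝒮L hVW σ)) :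
    IsNilpotent σ := by
  classical
  have hex : ∀ x : W, ∃ (V : X.Opens) (_ : IsAffineOpen V) (_ : V ≤ W), x.1 ∈ V := by
    intro x
    obtain ⟨_, ⟨V, hV, rfl⟩, hxV, hVle⟩ :=
      X.isBasis_affineOpens.exists_subset_of_mem_open x.2 W.2
    exact ⟨V, hV, hVle, hxV⟩
  choose V hV hVW hxV using hex
  obtain ⟨S, hS⟩ := hWc.elim_finite_subcover (fun x : W => ((V x : X.Opens) : Set X))
    (fun x => (V x).isOpen) (fun x hx => Set.mem_iUnion.2 ⟨⟨x, hx⟩, hxV ⟨x, hx⟩⟩)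
  choose k hk using fun x : W => h (V x) (hV x) (hVW x)
  refine ⟨S.sup k, ?_⟩
  apply eq_zero_of_locally
  intro x hx
  obtain ⟨y, hyS, hxy⟩ : ∃ y ∈ S, x ∈ V y := by simpa using hS hx
  refine ⟨V y, hVW y, hxy, ?_⟩
  rw [map_pow]
  obtain ⟨e, he⟩ := Nat.exists_eq_add_of_le (Finset.le_sup (f := k) hyS)
  rw [he, pow_add, hk y, zero_mul]

end Nil

section Main
variable {Y X P PL : Scheme.{u}} (f : X ⟶ Y) (L : X.Modules) [L.IsQuasicoherent]
  {𝒜 : RelProj.QCGrAlg Y} {𝒮L : RelProj.QCGrAlg X} {j : L ⟶ 𝒮L.toModule}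
  (hj : RelProj.IsGrSymAlg L 𝒮L j) (u : RelProj.QGrHom f 𝒜 𝒮L)
  {p : P ⟶ Y}
  {chart : ∀ (U : Y.Opens) (hU : IsAffineOpen U),
    (((p ⁻¹ᵁ U : P.Opens) : Scheme.{u}) ≅ Proj (𝒜.deg U hU))}
  {pL : PL ⟶ X}
  {chartL : ∀ (U : X.Opens) (hU : IsAffineOpen U),
    (((pL ⁻¹ᵁ U : PL.Opens) : Scheme.{u}) ≅ Proj (𝒮L.deg U hU))}
  (hY : IsAffineOpen (⊤ : Y.Opens))

include hj in
/-- quasi-compactness of `r` when it is everywhere defined -/
theorem quasiCompact_r [QuasiCompact f] (hL : PicF.IsInvertible L)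
    (hP : RelProj.IsRelProj 𝒜 p chart) (hPL : RelProj.IsRelProj 𝒮L pL chartL)
    (r : ((RelProj.domQ u pL chartL : PL.Opens) : Scheme.{u}) ⟶ P)
    (hr : RelProj.IsProjQMapOn u p chart pL chartL (RelProj.domQ u pL chartL) r)
    (htop : RelProj.domQ u pL chartL = ⊤) : QuasiCompact r := by
  have hiso : IsIso pL := main12143 L hj hL hPL
  have hι : IsIso (RelProj.domQ u pL chartL).ι := isIso_ι_of_eq_top _ htop
  have hcomp := comp_eq u p chart pL chartL hP hPL _ rfl r hr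
  have hsep : IsSeparated p := RP1.isSeparated hP
  have : QuasiCompact (r ≫ p) := by
    rw [hcomp]
    infer_instance
  exact QuasiCompact.of_comp r p

omit [L.IsQuasicoherent] in
include hY in
/-- dominance of `r` when `u` is injective on global sections and `X` is quasi-compact -/
theorem isDominant_r [CompactSpace X] (hP : RelProj.IsRelProj 𝒜 p chart)
    (hPL : RelProj.IsRelProj 𝒮L pL chartL)
    (r : ((RelProj.domQ u pL chartL : PL.Opens) : Scheme.{u}) ⟶ P)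
    (hr : RelProj.IsProjQMapOn u p chart pL chartL (RelProj.domQ u pL chartL) r)
    (hinj : Function.Injective (u.app ⊤).hom) : IsDominant r := by
  refine ⟨dense_iff_inter_open.2 fun O hO hOne => ?_⟩
  obtain ⟨z₀, hz₀⟩ := hOne
  have hz₀r : z₀ ∈ Set.range (RelProj.emb p chart ⊤ hY) := by
    rw [RelCone3.range_emb]; trivial
  obtain ⟨x₀, rfl⟩ := hz₀r
  let O' : (Proj (𝒜.deg ⊤ hY)).Opens := (RelProj.emb p chart ⊤ hY) ⁻¹ᵁ ⟨O, hO⟩
  obtain ⟨n, hn, s, hs, hx₀s, hsO⟩ := exists_basicOpen_le (𝒜.deg ⊤ hY) O' x₀ hz₀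
  have hnil : ¬ IsNilpotent s := by
    rintro ⟨k, hk⟩
    rw [Proj.mem_basicOpen] at hx₀s
    apply hx₀s
    have : s ^ k ∈ x₀.asHomogeneousIdeal.toIdeal := by rw [hk]; exact Ideal.zero_mem _
    exact x₀.isPrime.mem_of_pow_mem k this
  have hnil' : ¬ IsNilpotent ((u.app ⊤).hom s) := by
    rintro ⟨k, hk⟩
    apply hnil
    refine ⟨k, hinj ?_⟩
    rw [map_pow, hk, map_zero]
  have hWc : IsCompact ((f ⁻¹ᵁ ⊤ : X.Opens) : Set X) := by
    have : ((f ⁻¹ᵁ ⊤ : X.Opens) : Set X) = Set.univ := rfl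
    rw [this]; exact isCompact_univ
  have hex : ∃ (V : X.Opens) (hV : IsAffineOpen V) (hVW : V ≤ f ⁻¹ᵁ ⊤),
      ¬ IsNilpotent (rs 𝒮L hVW ((u.app ⊤).hom s)) := by
    by_contra hcon
    push Not at hcon
    exact hnil' (isNilpotent_of_locally hWc _ hcon)
  obtain ⟨V, hV, hVW, hVnil⟩ := hex
  have hmem : rs 𝒮L hVW ((u.app ⊤).hom s) ∈ 𝒮L.deg V hV n := u.map_mem ⊤ hY V hV hVW hs
  obtain ⟨y, hy⟩ := ProjTop.exists_notMem_of_not_isNilpotent (𝒮L.deg V hV)
    (HomogeneousIdeal.mem_irrelevant_of_mem _ hn hmem) hVnil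
  obtain ⟨x'', z, hz, hzx⟩ := (exists_mem_basicOpen_iff u r hr hP hPL ⊤ hY n hn s hs).2
    ⟨V, hV, hVW, y, hy⟩
  exact ⟨r x'', hzx ▸ hsO hz, x'', rfl⟩

end Main

end Groth.Agent.Helper1.SymBr
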