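import Mathlib
import Groth.Agent.Lib.Helper1.SymBr9

set_option autoImplicit false
universe u
open CategoryTheory CategoryTheory.Limits AlgebraicGeometry TopologicalSpace Opposite

namespace Groth.Agent.Helper1.SymBr

open Groth.Agent.Helper1.QcCech Groth.Agent.Helper1.LGen
open Groth.Agent.Helper1 Groth.Agent.Helper1.TmulLib Groth.Agent.Helper1.TensLib
open Groth.Agent.Helper1.TwistSec Groth.Agent.Helper1.VT Groth.Agent.Helper1.SymAlg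
open Groth.Agent.Helper1.AmpleLib Groth.Agent.Helper1.TwForm Groth.Agent.Helper1.ProjQ
open Groth.Agent.Helper1.SymInvLoc

section Main
variable {Y X P PL : Scheme.{u}} (f : X ⟶ Y) (L : X.Modules) [L.IsQuasicoherent]
  {𝒜 : RelProj.QCGrAlg Y} {𝒮L : RelProj.QCGrAlg X} {j : L ⟶ 𝒮L.toModule}
  (hj : RelProj.IsGrSymAlg L 𝒮L j) (u : RelProj.QGrHom f 𝒜 𝒮L)
  {p : P ⟶ Y}
  {chart : ∀ (U : Y.Opens) (hU : IsAffineOpen U),
    (((p ⁻¹ᵁ U : P.Opens) : Scheme.{u}) ≅ Proj (𝒜.deg U hU))}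
  {pL : PL ⟶ X}
  {chartL : ∀ (U : X.Opens) (hU : IsAffineOpen U),
    (((pL ⁻¹ᵁ U : PL.Opens) : Scheme.{u}) ≅ Proj (𝒮L.deg U hU))}
  (hY : IsAffineOpen (⊤ : Y.Opens))

include hj hY in
/-- **S12683**, first half: for `L` ample and `u` bijective on global sections, `r` is everywhere
defined and an open immersion -/
theorem main12683a (hLa : CohB1.IsAmple L)
    (hP : RelProj.IsRelProj 𝒜 p chart) (hPL : RelProj.IsRelProj 𝒮L pL chartL)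
    (r : ((RelProj.domQ u pL chartL : PL.Opens) : Scheme.{u}) ⟶ P)
    (hr : RelProj.IsProjQMapOn u p chart pL chartL (RelProj.domQ u pL chartL) r)
    (hu : Function.Bijective (u.app ⊤).hom) :
    RelProj.domQ u pL chartL = ⊤ ∧ IsOpenImmersion r := by
  have hL : PicF.IsInvertible L := hLa.1
  have hcs : CompactSpace X := hLa.2.1
  have hqs : QuasiSeparatedSpace X := quasiSeparatedSpace_of_isAmple hLa
  have hWtop : (⊤ : X.Opens) ≤ f ⁻¹ᵁ ⊤ := (Scheme.Hom.preimage_top f).ge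
  have hWc : IsCompact ((f ⁻¹ᵁ ⊤ : X.Opens) : Set X) := by
    have : ((f ⁻¹ᵁ ⊤ : X.Opens) : Set X) = Set.univ := rfl
    rw [this]; exact isCompact_univ
  have hWs : ∀ V V' : X.Opens, IsAffineOpen V → IsAffineOpen V' → V ≤ f ⁻¹ᵁ ⊤ → V' ≤ f ⁻¹ᵁ ⊤ →
      IsCompact ((V ⊓ V' : X.Opens) : Set X) := fun V V' hV hV' _ _ =>
    QuasiSeparatedSpace.inter_isCompact V.1 V'.1 V.2 hV.isCompact V'.2 hV'.isCompact
  choose N s hxs haff using hLa.2.2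
  -- the sections of the symmetric algebra
  let σ : ∀ x : X, 𝒮L.presheaf.obj (op (f ⁻¹ᵁ ⊤)) :=
    fun x => br j (N x + 1) (f ⁻¹ᵁ ⊤) (secVal (s x) (f ⁻¹ᵁ ⊤))
  have hσh : ∀ x, IsHomog 𝒮L (f ⁻¹ᵁ ⊤) (σ x) (N x + 1) := fun x => isHomog_br hj hL _ _
  have hσnz : ∀ x, nz 𝒮L (f ⁻¹ᵁ ⊤) (N x + 1) (σ x) = CohB1.genLocus _ (s x) := by
    intro x
    rw [← gl_eq_nz hj hL, ← res_secVal (s x) (le_top : f ⁻¹ᵁ ⊤ ≤ ⊤), gl_res, ← genLocus_eq_gl]
    exact inf_eq_left.2 (le_top.trans hWtop)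
  choose τ hτ using fun x => hu.2 (σ x)
  have hτd : ∀ x, τ x ∈ 𝒜.deg ⊤ hY (N x + 1) := fun x =>
    mem_deg_of_isHomog u ⊤ hY hu.1 (by rw [hτ]; exact hσh x)
  refine (main12151 f L hj u hY hL hP hPL r hr).2
    ⟨X, fun x => N x + 1, τ, fun x => nz 𝒮L (f ⁻¹ᵁ ⊤) (N x + 1) ((u.app ⊤).hom (τ x)),
      fun x => ⟨Nat.succ_pos _, hτd x⟩, fun x => (XTof_eq_nz u _ _).symm, ?_, ?_, ?_, ?_⟩
  · refine eq_top_iff.2 fun x _ => Opens.mem_iSup.2 ⟨x, ?_⟩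
    beta_reduce
    rw [hτ, hσnz]
    exact hxs x
  · intro x
    beta_reduce
    rw [hτ, hσnz]
    exact haff x
  · intro x t
    obtain ⟨m, hm, σ', hσ'h, hσ'⟩ := exists_extension hj hL hWc hWs
      (isHomog_app u ⊤ hY (hτd x)) t
    obtain ⟨s', hs'⟩ := hu.2 σ'
    refine ⟨m, hm, s', mem_deg_of_isHomog u ⊤ hY hu.1 (by rw [hs']; exact hσ'h), ?_⟩
    change _ * rs 𝒮L _ ((u.app ⊤).hom (τ x)) ^ m = rs 𝒮L _ ((u.app ⊤).hom s')
    rw [hs']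
    exact hσ'.symm
  · intro x m hm s' hs' h0
    obtain ⟨k, hk⟩ := exists_kill hj hL hWc (isHomog_app u ⊤ hY (hτd x))
      (isHomog_app u ⊤ hY hs') h0
    refine ⟨k + 1, Nat.succ_pos _, hu.1 ?_⟩
    rw [map_mul, map_pow, map_zero]
    exact hk (k + 1) (Nat.le_succ _)

end Main

end Groth.Agent.Helper1.SymBr
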