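import Mathlib
import Groth.Agent.Lib.Helper1.SymBr10

set_option autoImplicit false
universe u
open CategoryTheory CategoryTheory.Limits AlgebraicGeometry TopologicalSpace Opposite
open HomogeneousLocalization

namespace Groth.Agent.Helper1.SymBr

open Groth.Agent.Helper1.QcCech Groth.Agent.Helper1.LGen
open Groth.Agent.Helper1 Groth.Agent.Helper1.ProjQ
open Groth.Agent.Helper1.SymInvLoc

section Gen

theorem appLE_eq_zero_of_app_eq_zero {T D P : Scheme.{u}} (h₁ : T ⟶ D) (r : D ⟶ P) (h₂ : T ⟶ P)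
    (e : h₁ ≫ r = h₂) (U : P.Opens) (hU : (⊤ : T.Opens) ≤ h₂ ⁻¹ᵁ U) (φ : Γ(P, U))
    (hφ : (r.app U).hom φ = 0) : (h₂.appLE U ⊤ hU).hom φ = 0 := by
  subst e
  have : (h₁ ≫ r).appLE U ⊤ hU = r.app U ≫ h₁.appLE (r ⁻¹ᵁ U) ⊤ (by simpa using hU) := by
    rw [Scheme.Hom.app_eq_appLE, Scheme.Hom.appLE_comp_appLE]
  rw [this, CommRingCat.comp_apply, hφ, map_zero]

end Gen

section Main
variable {Y X P PL : Scheme.{u}} (f : X ⟶ Y)
  {𝒜 : RelProj.QCGrAlg Y} {𝒮L : RelProj.QCGrAlg X} (u : RelProj.QGrHom f 𝒜 𝒮L)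
  {p : P ⟶ Y}
  {chart : ∀ (U : Y.Opens) (hU : IsAffineOpen U),
    (((p ⁻¹ᵁ U : P.Opens) : Scheme.{u}) ≅ Proj (𝒜.deg U hU))}
  {pL : PL ⟶ X}
  {chartL : ∀ (U : X.Opens) (hU : IsAffineOpen U),
    (((pL ⁻¹ᵁ U : PL.Opens) : Scheme.{u}) ≅ Proj (𝒮L.deg U hU))}
  (hY : IsAffineOpen (⊤ : Y.Opens))

include hY in
/-- an element of a degree-zero localization of `𝒜(Y)` killed by all the chart maps is zero -/
theorem away_eq_zero [CompactSpace X] (hinj : Function.Injective (u.app ⊤).hom)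
    (t : ProjDom.Idx (𝒜.deg ⊤ hY)) (x : HomogeneousLocalization.Away (𝒜.deg ⊤ hY) t.f)
    (hx : ∀ (V : X.Opens) (hV : IsAffineOpen V) (hle : V ≤ f ⁻¹ᵁ ⊤),
      HomogeneousLocalization.Away.map (u.gradedAt ⊤ hY V hV hle) t.f x = 0) : x = 0 := by
  classical
  obtain ⟨k, b, hb, rfl⟩ := Away.mk_surjective (𝒜.deg ⊤ hY) t.hf x
  have hWc : IsCompact ((f ⁻¹ᵁ ⊤ : X.Opens) : Set X) := by
    have : ((f ⁻¹ᵁ ⊤ : X.Opens) : Set X) = Set.univ := rfl
    rw [this]; exact isCompact_univ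
  have hloc : ∀ (V : X.Opens) (hV : IsAffineOpen V) (hle : V ≤ f ⁻¹ᵁ ⊤), ∃ N : ℕ,
      rs 𝒮L hle ((u.app ⊤).hom t.f) ^ N * rs 𝒮L hle ((u.app ⊤).hom b) = 0 := by
    intro V hV hle
    have h := hx V hV hle
    rw [Away.map_mk, HomogeneousLocalization.ext_iff_val, Away.val_mk,
      HomogeneousLocalization.val_zero, Localization.mk_eq_mk', IsLocalization.mk'_eq_zero_iff] at h
    obtain ⟨⟨_, N, rfl⟩, hN⟩ := h
    exact ⟨N, hN⟩
  have hex : ∀ x : (f ⁻¹ᵁ ⊤ : X.Opens), ∃ (V : X.Opens) (_ : IsAffineOpen V)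
      (_ : V ≤ f ⁻¹ᵁ ⊤), x.1 ∈ V := by
    intro x
    obtain ⟨_, ⟨V, hV, rfl⟩, hxV, hVle⟩ :=
      X.isBasis_affineOpens.exists_subset_of_mem_open x.2 (f ⁻¹ᵁ ⊤).2
    exact ⟨V, hV, hVle, hxV⟩
  choose V hV hVW hxV using hex
  obtain ⟨S, hS⟩ := hWc.elim_finite_subcover (fun x => ((V x : X.Opens) : Set X))
    (fun x => (V x).isOpen) (fun x hx => Set.mem_iUnion.2 ⟨⟨x, hx⟩, hxV ⟨x, hx⟩⟩)
  choose N hN using fun x => hloc (V x) (hV x) (hVW x)
  have hzero : (u.app ⊤).hom (t.f ^ (S.sup N) * b) = 0 := by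
    apply eq_zero_of_locally
    intro x hx
    obtain ⟨y, hyS, hxy⟩ : ∃ y ∈ S, x ∈ V y := by simpa using hS hx
    refine ⟨V y, hVW y, hxy, ?_⟩
    rw [map_mul, map_pow, map_mul, map_pow]
    obtain ⟨e, he⟩ := Nat.exists_eq_add_of_le (Finset.le_sup (f := N) hyS)
    rw [he, pow_add, mul_comm (_ ^ N y), mul_assoc, hN y, mul_zero]
  have hz := hinj (hzero.trans (map_zero _).symm)
  rw [HomogeneousLocalization.ext_iff_val, Away.val_mk, HomogeneousLocalization.val_zero,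
    Localization.mk_eq_mk', IsLocalization.mk'_eq_zero_iff]
  exact ⟨⟨t.f ^ (S.sup N), _, rfl⟩, hz⟩

/-- the standard chart `Spec 𝒜(Y)_(g) ⟶ P` -/
noncomputable def eg (t : ProjDom.Idx (𝒜.deg ⊤ hY)) :
    Spec (CommRingCat.of (HomogeneousLocalization.Away (𝒜.deg ⊤ hY) t.f)) ⟶ P :=
  Proj.awayι (𝒜.deg ⊤ hY) t.f t.hf t.hd ≫ RelProj.emb p chart ⊤ hY

instance (t : ProjDom.Idx (𝒜.deg ⊤ hY)) : IsOpenImmersion (eg (p := p) (chart := chart) hY t) := by
  unfold eg; infer_instance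

include hY in
/-- **scheme-theoretic dominance of `r`** when `u` is injective on global sections -/
theorem isSchemeTheoreticallyDominant_r [CompactSpace X]
    (r : ((RelProj.domQ u pL chartL : PL.Opens) : Scheme.{u}) ⟶ P) [QuasiCompact r]
    (hr : RelProj.IsProjQMapOn u p chart pL chartL (RelProj.domQ u pL chartL) r)
    (hinj : Function.Injective (u.app ⊤).hom) : IsSchemeTheoreticallyDominant r := by
  rw [isSchemeTheoreticallyDominant_iff]
  let Ug : ProjDom.Idx (𝒜.deg ⊤ hY) → P.affineOpens := fun t =>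
    ⟨(eg (p := p) (chart := chart) hY t) ''ᵁ ⊤, by
      rw [Scheme.Hom.image_top_eq_opensRange]
      exact isAffineOpen_opensRange _⟩
  refine Scheme.IdealSheafData.ext_of_iSup_eq_top Ug ?_ ?_
  · refine eq_top_iff.2 fun x _ => ?_
    have hxr : x ∈ Set.range (RelProj.emb p chart ⊤ hY) := by
      rw [RelCone3.range_emb]; trivial
    obtain ⟨z, rfl⟩ := hxr
    obtain ⟨n, hn, s, hs, hzs, -⟩ := exists_basicOpen_le (𝒜.deg ⊤ hY) ⊤ z trivial
    rw [← Proj.opensRange_awayι (𝒜.deg ⊤ hY) s hs hn] at hzs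
    obtain ⟨w, rfl⟩ := hzs
    exact Opens.mem_iSup.2 ⟨⟨n, hn, s, hs⟩, w, trivial, rfl⟩
  · intro t
    rw [Scheme.Hom.ker_apply]
    simp only [Scheme.IdealSheafData.ideal_bot, Pi.bot_apply]
    rw [← RingHom.injective_iff_ker_eq_bot, injective_iff_map_eq_zero]
    intro φ hφ
    -- transport to the ring
    have hbij : Function.Bijective (((eg (p := p) (chart := chart) hY t).appIso ⊤).hom.hom) :=
      (ConcreteCategory.isIso_iff_bijective _).1 inferInstance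
    apply hbij.1
    rw [map_zero]
    have hbij2 : Function.Bijective ((Scheme.ΓSpecIso (CommRingCat.of
        (HomogeneousLocalization.Away (𝒜.deg ⊤ hY) t.f))).hom.hom) :=
      (ConcreteCategory.isIso_iff_bijective _).1 inferInstance
    apply hbij2.1
    rw [map_zero]
    apply away_eq_zero f u hY hinj t
    intro V hV hle
    have hsub := RelProj.range_awayEmb_subset_domQ u pL chartL ⊤ hY V hV hle t.hd t.f t.hf
    have heq := hr ⊤ hY V hV hle t.d t.hd t.f t.hf hsub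
    set ψ' := CommRingCat.ofHom
      (HomogeneousLocalization.Away.map (u.gradedAt ⊤ hY V hV hle) t.f) with hψ'
    have heq' : IsOpenImmersion.lift (RelProj.domQ u pL chartL).ι
        (RelProj.awayEmb u pL chartL ⊤ hY V hV hle t.hd t.f t.hf) hsub ≫ r =
        Spec.map ψ' ≫ eg (p := p) (chart := chart) hY t := heq
    have hU : (⊤ : (Spec (CommRingCat.of (HomogeneousLocalization.Away (𝒮L.deg V hV)
        (u.gradedAt ⊤ hY V hV hle t.f)))).Opens) ≤
        (Spec.map ψ' ≫ eg (p := p) (chart := chart) hY t) ⁻¹ᵁ (Ug t).1 := by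
      intro w _
      exact ⟨(Spec.map ψ') w, trivial, rfl⟩
    have h0 := appLE_eq_zero_of_app_eq_zero _ r _ heq' (Ug t).1 hU φ hφ
    have h1 : (Spec.map ψ' ≫ eg (p := p) (chart := chart) hY t).appLE (Ug t).1 ⊤ hU =
        ((eg (p := p) (chart := chart) hY t).appIso ⊤).hom ≫ (Spec.map ψ').appTop := by
      have e1 : (Spec.map ψ').appTop = (Spec.map ψ').appLE ⊤ ⊤ le_rfl :=
        Scheme.Hom.app_eq_appLE (Spec.map ψ')
      rw [Scheme.Hom.appIso_hom', e1, Scheme.Hom.appLE_comp_appLE]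
    have h2 := Scheme.ΓSpecIso_naturality ψ'
    rw [h1, CommRingCat.comp_apply] at h0
    have h3 := congr($h2 (((eg (p := p) (chart := chart) hY t).appIso ⊤).hom.hom φ))
    rw [CommRingCat.comp_apply, CommRingCat.comp_apply, h0, map_zero] at h3
    exact h3.symm

end Main

end Groth.Agent.Helper1.SymBr
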