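import Mathlib
import Groth.Agent.Lib.Helper1.SymBr11

set_option autoImplicit false
universe u

open CategoryTheory CategoryTheory.Limits AlgebraicGeometry TopologicalSpace Opposite
open HomogeneousLocalization
open scoped HomogeneousIdeal

namespace Groth.Agent.Helper1.SymInvLocU

open Groth.Agent.Helper1.SymAlg Groth.Agent.Helper1.LGen Groth.Agent.Helper1.QcCech
open Groth.Agent.Helper1.ProjQ Groth.Agent.Helper1.SymInvLoc Groth.Agent.Helper1.SymBr

section Main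
variable {Y X P PL : Scheme.{u}} (q : X ⟶ Y) (L : X.Modules) [L.IsQuasicoherent]
  {𝒮 : RelProj.QCGrAlg Y} {𝒮L : RelProj.QCGrAlg X} {j : L ⟶ 𝒮L.toModule}
  (hj : RelProj.IsGrSymAlg L 𝒮L j) (u : RelProj.QGrHom q 𝒮 𝒮L)
  {p : P ⟶ Y}
  {chart : ∀ (U : Y.Opens) (hU : IsAffineOpen U),
    (((p ⁻¹ᵁ U : P.Opens) : Scheme.{u}) ≅ Proj (𝒮.deg U hU))}
  {pL : PL ⟶ X}
  {chartL : ∀ (U : X.Opens) (hU : IsAffineOpen U),
    (((pL ⁻¹ᵁ U : PL.Opens) : Scheme.{u}) ≅ Proj (𝒮L.deg U hU))}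

include hj in
/-- **S12144 over an affine open of the base** -/
theorem main12144U (hL : PicF.IsInvertible L) (hP : RelProj.IsRelProj 𝒮 p chart)
    (hPL : RelProj.IsRelProj 𝒮L pL chartL)
    (r : ((RelProj.domQ u pL chartL : PL.Opens) : Scheme.{u}) ⟶ P)
    (hr : RelProj.IsProjQMapOn u p chart pL chartL (RelProj.domQ u pL chartL) r)
    {U : Y.Opens} (hU : IsAffineOpen U) (d : ℕ) (hd : 0 < d) (g : 𝒮.presheaf.obj (op U))
    (hg : g ∈ 𝒮.deg U hU d) :
    (RelProj.domQ u pL chartL).ι ''ᵁ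
        (r ⁻¹ᵁ ((RelProj.emb p chart U hU) ''ᵁ Proj.basicOpen (𝒮.deg U hU) g)) =
      pL ⁻¹ᵁ (nz 𝒮L (q ⁻¹ᵁ U) d ((u.app U).hom g)) := by
  have hrr := (isProjQMapOn_iff u p chart pL chartL _ (range_jj_subset u pL chartL) r).1 hr
  have hpt : ∀ (π : Pair q) (w : Xi u π),
      r (IsOpenImmersion.lift (RelProj.domQ u pL chartL).ι (jj u pL chartL π)
        (range_jj_subset u pL chartL π) w) =
      RelProj.emb p chart π.U π.hU (dmap (gr u π) w) := by
    intro π w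
    have := congrArg (fun ψ : Xi u π ⟶ P => ψ w) (hrr π)
    exact this
  have hpt' : ∀ (π : Pair q) (w : Xi u π),
      (RelProj.domQ u pL chartL).ι (IsOpenImmersion.lift (RelProj.domQ u pL chartL).ι
        (jj u pL chartL π) (range_jj_subset u pL chartL π) w) =
      RelProj.emb pL chartL π.U' π.hU' ((RelCone.domOpen (gr u π)).ι w) := by
    intro π w
    have := congrArg (fun ψ : Xi u π ⟶ PL => ψ w)
      (IsOpenImmersion.lift_fac (RelProj.domQ u pL chartL).ι (jj u pL chartL π)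
        (range_jj_subset u pL chartL π))
    exact this
  apply le_antisymm
  · rintro _ ⟨x'', hx'', rfl⟩
    set x' := (RelProj.domQ u pL chartL).ι x'' with hx'def
    obtain ⟨z, hz, hzx⟩ := hx''
    have hcomp := comp_eq u p chart pL chartL hP hPL _ rfl r hr
    have hxU : q (pL x') ∈ U := by
      have h1 : (r ≫ p) x'' ∈ U := by
        show p (r x'') ∈ U
        rw [← hzx]
        have : RelProj.emb p chart U hU z ∈ Set.range (RelProj.emb p chart U hU) := ⟨z, rfl⟩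
        rw [RelCone3.range_emb] at this
        exact this
      rw [hcomp] at h1
      exact h1
    obtain ⟨W, a₀, hxW, ha₀⟩ := exists_isGen hL (pL x')
    obtain ⟨_, ⟨V, hV, rfl⟩, hxV, hVle⟩ :=
      X.isBasis_affineOpens.exists_subset_of_mem_open
        (show pL x' ∈ ((W ⊓ q ⁻¹ᵁ U : X.Opens) : Set X) from ⟨hxW, hxU⟩) (W ⊓ q ⁻¹ᵁ U).2
    have hVW : V ≤ W := fun y hy => (hVle hy).1
    have hVU : V ≤ q ⁻¹ᵁ U := fun y hy => (hVle hy).2
    have ha := ha₀.res hVW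
    let π : Pair q := ⟨U, hU, V, hV, hVU⟩
    have hmem : x' ∈ RelProj.domQ u pL chartL ⊓ pL ⁻¹ᵁ π.U' := ⟨x''.2, hxV⟩
    rw [inf_preimage_eq' u pL chartL hPL π] at hmem
    obtain ⟨y₁, hy₁, hy₁x⟩ := hmem
    let w : Xi u π := ⟨y₁, hy₁⟩
    have hw : IsOpenImmersion.lift (RelProj.domQ u pL chartL).ι (jj u pL chartL π)
        (range_jj_subset u pL chartL π) w = x'' := by
      apply (RelProj.domQ u pL chartL).ι.isOpenEmbedding.injective
      rw [hpt']
      exact hy₁x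
    have hrx : r x'' = RelProj.emb p chart U hU (dmap (gr u π) w) := by
      rw [← hw]; exact hpt π w
    rw [hrx] at hzx
    have hzw := (RelProj.emb p chart U hU).isOpenEmbedding.injective hzx
    rw [hzw] at hz
    have hy₁f := (dmap_mem_basicOpen_iff (gr u π) hd hg w).1 hz
    rw [Proj.mem_basicOpen] at hy₁f
    have hb : gr u π g ∈ 𝒮L.deg V hV d := (gr u π).map_mem hg
    obtain ⟨r₀, hr₀x, hspan⟩ := exists_basicOpen_span L hj hPL V hV _ ha y₁ d hd _ hb hy₁f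
    have hr₀x' : pL x' ∈ X.basicOpen r₀ := hy₁x ▸ hr₀x
    refine mem_nz_iff.2 ⟨X.basicOpen r₀, hV.basicOpen r₀, (X.basicOpen_le r₀).trans hVU,
      hr₀x', ?_⟩
    have e1 : rs 𝒮L ((X.basicOpen_le r₀).trans hVU) ((u.app U).hom g) =
        (𝒮L.presheaf.map (homOfLE (X.basicOpen_le r₀)).op).hom (gr u π g) := by
      rw [← rs_rs 𝒮L hVU (X.basicOpen_le r₀)]
      rfl
    rw [e1]
    exact hspan
  · intro x' hx'
    obtain ⟨V, hV, hVU, hxV, hspan⟩ := mem_nz_iff.1 hx'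
    let π : Pair q := ⟨U, hU, V, hV, hVU⟩
    have hx'r : x' ∈ Set.range (RelProj.emb pL chartL V hV) := by
      rw [RelCone3.range_emb]; exact hxV
    obtain ⟨y, rfl⟩ := hx'r
    have hyf : gr u π g ∉ y.asHomogeneousIdeal := notMem_of_span L hj V hV d _ hspan y
    have hyd : y ∈ RelCone.domOpen (gr u π) :=
      (mem_domOpen_iff (gr u π) y).2 ⟨⟨d, hd, g, hg⟩, (Proj.mem_basicOpen _ _ _).2 hyf⟩
    let w : Xi u π := ⟨y, hyd⟩
    refine ⟨IsOpenImmersion.lift (RelProj.domQ u pL chartL).ι (jj u pL chartL π)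
        (range_jj_subset u pL chartL π) w, ?_, hpt' π w⟩
    refine ⟨dmap (gr u π) w, ?_, (hpt π w).symm⟩
    exact (dmap_mem_basicOpen_iff (gr u π) hd hg w).2 ((Proj.mem_basicOpen _ _ _).2 hyf)

include hj in
theorem mem_preimage_iffU (hL : PicF.IsInvertible L) (hP : RelProj.IsRelProj 𝒮 p chart)
    (hPL : RelProj.IsRelProj 𝒮L pL chartL)
    (r : ((RelProj.domQ u pL chartL : PL.Opens) : Scheme.{u}) ⟶ P)
    (hr : RelProj.IsProjQMapOn u p chart pL chartL (RelProj.domQ u pL chartL) r)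
    {U : Y.Opens} (hU : IsAffineOpen U) {n : ℕ} (hn : 0 < n) (s : 𝒮.presheaf.obj (op U))
    (hs : s ∈ 𝒮.deg U hU n)
    (x : ((RelProj.domQ u pL chartL : PL.Opens) : Scheme.{u})) :
    r x ∈ (RelProj.emb p chart U hU) ''ᵁ Proj.basicOpen (𝒮.deg U hU) s ↔
      pL ((RelProj.domQ u pL chartL).ι x) ∈ nz 𝒮L (q ⁻¹ᵁ U) n ((u.app U).hom s) := by
  have h44 := main12144U q L hj u hL hP hPL r hr hU n hn s hs
  constructor
  · intro h
    have : (RelProj.domQ u pL chartL).ι x ∈ (RelProj.domQ u pL chartL).ι ''ᵁ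
        (r ⁻¹ᵁ ((RelProj.emb p chart U hU) ''ᵁ Proj.basicOpen (𝒮.deg U hU) s)) := ⟨x, h, rfl⟩
    rw [h44] at this
    exact this
  · intro h
    have : (RelProj.domQ u pL chartL).ι x ∈ pL ⁻¹ᵁ nz 𝒮L (q ⁻¹ᵁ U) n ((u.app U).hom s) := h
    rw [← h44] at this
    obtain ⟨x₁, hx₁, hx₁x⟩ := this
    have := (RelProj.domQ u pL chartL).ι.isOpenEmbedding.injective hx₁x
    rw [← this]
    exact hx₁

end Main

end Groth.Agent.Helper1.SymInvLocU
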