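import Mathlib
import Groth.Agent.Lib.Helper1.SymU1

set_option autoImplicit false
universe u

open CategoryTheory CategoryTheory.Limits AlgebraicGeometry TopologicalSpace Opposite
open HomogeneousLocalization
open scoped HomogeneousIdeal

namespace Groth.Agent.Helper1.SymInvLocU

open Groth.Agent.Helper1.SymAlg Groth.Agent.Helper1.LGen Groth.Agent.Helper1.QcCech
open Groth.Agent.Helper1.ProjQ Groth.Agent.Helper1.SymInvLoc Groth.Agent.Helper1.SymBr

section Main
variable {Y X P PL : Scheme.{u}} (q : X ⟶ Y) (L : X.Modules) [L.IsQuasicoherent]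
  {𝒮 : RelProj.QCGrAlg Y} {𝒮L : RelProj.QCGrAlg X} {j : L ⟶ 𝒮L.toModule}
  (hj : RelProj.IsGrSymAlg L 𝒮L j) (u : RelProj.QGrHom q 𝒮 𝒮L)
  {p : P ⟶ Y}
  {chart : ∀ (U : Y.Opens) (hU : IsAffineOpen U),
    (((p ⁻¹ᵁ U : P.Opens) : Scheme.{u}) ≅ Proj (𝒮.deg U hU))}
  {pL : PL ⟶ X}
  {chartL : ∀ (U : X.Opens) (hU : IsAffineOpen U),
    (((pL ⁻¹ᵁ U : PL.Opens) : Scheme.{u}) ≅ Proj (𝒮L.deg U hU))}

section Chart
variable {U : Y.Opens} (hY : IsAffineOpen U) (W : X.Opens) (hW : IsAffineOpen W) (hWU : W ≤ q ⁻¹ᵁ U)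
  {n : ℕ} (hn : 0 < n)
  (s : 𝒮.presheaf.obj (op U)) (hs : s ∈ 𝒮.deg U hY n)
  (hnot : ∀ y : Proj (𝒮L.deg W hW),
    u.gradedAt U hY W hW hWU s ∉ y.asHomogeneousIdeal)

instance isOpenImmersion_awayEmb :
    IsOpenImmersion (RelProj.awayEmb u pL chartL U hY W hW
      hWU hn s hs) := by
  unfold RelProj.awayEmb; infer_instance

include hnot in
theorem opensRange_awayEmb :
    (RelProj.awayEmb u pL chartL U hY W hW
      hWU hn s hs).opensRange = pL ⁻¹ᵁ W := by
  have h1 : Proj.basicOpen (𝒮L.deg W hW)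
      (u.gradedAt U hY W hW hWU s) = ⊤ :=
    eq_top_iff.2 fun y _ => (Proj.mem_basicOpen _ _ _).2 (hnot y)
  have h2 : (RelProj.emb pL chartL W hW).opensRange = pL ⁻¹ᵁ W :=
    Opens.ext (RelCone3.range_emb (pC := pL) (chartC := chartL) (U := W) (hU := hW))
  unfold RelProj.awayEmb
  rw [Scheme.Hom.opensRange_comp, Proj.opensRange_awayι, h1, Scheme.Hom.image_top_eq_opensRange, h2]

/-- the comparison map from the functions on `W` to the degree-zero localization -/
noncomputable def cmp : Γ(X, W) ⟶ CommRingCat.of (HomogeneousLocalization.Away (𝒮L.deg W hW)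
    (u.gradedAt U hY W hW hWU s)) :=
  𝒮L.strZero W hW ≫ CommRingCat.ofHom (fromZeroRingHom (𝒮L.deg W hW)
    (Submonoid.powers (u.gradedAt U hY W hW hWU s)))

theorem awayEmb_pL (hPL : RelProj.IsRelProj 𝒮L pL chartL) :
    RelProj.awayEmb u pL chartL U hY W hW
      hWU hn s hs ≫ pL =
      Spec.map (cmp q u hY W hW hWU s) ≫ hW.fromSpec := by
  have e : RelProj.emb pL chartL W hW ≫ pL = Proj.toSpecZero (𝒮L.deg W hW) ≫
      Spec.map (𝒮L.strZero W hW) ≫ hW.fromSpec := by
    rw [RelProj.emb, Category.assoc, ← hPL.chart_over W hW, Iso.inv_hom_id_assoc]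
  unfold RelProj.awayEmb cmp
  rw [Category.assoc, e, Spec.map_comp, Category.assoc, ← Category.assoc (Proj.awayι _ _ _ _),
    Proj.awayι_toSpecZero]

include hj hnot hn hs in
theorem cmp_bijective (hL : PicF.IsInvertible L) (hPL : RelProj.IsRelProj 𝒮L pL chartL) :
    Function.Bijective (cmp q u hY W hW hWU s).hom := by
  have hiso : IsIso pL := main12143 L hj hL hPL
  rw [← isIso_SpecMap_iff]
  have hcomp := awayEmb_pL q u hY W hW hWU hn s hs hPL
  have hoi : IsOpenImmersion (Spec.map (cmp q u hY W hW hWU s) ≫ hW.fromSpec) := by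
    rw [← hcomp]; infer_instance
  have hoi' : IsOpenImmersion (Spec.map (cmp q u hY W hW hWU s)) :=
    IsOpenImmersion.of_comp _ hW.fromSpec
  rw [isIso_iff_isOpenImmersion_and_epi_base]
  refine ⟨hoi', (TopCat.epi_iff_surjective _).2 fun z => ?_⟩
  have hzW : hW.fromSpec z ∈ W := by
    have : hW.fromSpec z ∈ Set.range hW.fromSpec := ⟨z, rfl⟩
    rw [hW.range_fromSpec] at this
    exact this
  obtain ⟨x', hx'⟩ := pL.homeomorph.surjective (hW.fromSpec z)
  have hx'W : x' ∈ (RelProj.awayEmb u pL chartL U hY W hW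
      hWU hn s hs).opensRange := by
    rw [opensRange_awayEmb q u hY W hW hWU hn s hs hnot]
    change pL x' ∈ W
    have : pL x' = hW.fromSpec z := hx'
    rw [this]; exact hzW
  obtain ⟨t, rfl⟩ := hx'W
  refine ⟨t, ?_⟩
  apply hW.fromSpec.isOpenEmbedding.injective
  have h1 := congrArg (fun ψ : _ ⟶ X => ψ t) hcomp
  have h2 : hW.fromSpec (Spec.map (cmp q u hY W hW hWU s) t) =
      pL (RelProj.awayEmb u pL chartL U hY W hW
        hWU hn s hs t) := h1.symm
  rw [h2]
  exact hx'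

include hn hs in
theorem cond3_iff (hbij : Function.Bijective (cmp q u hY W hW hWU s).hom) :
    (∀ t : Γ(X, W), ∃ (m : ℕ) (_ : 0 < m) (s' : 𝒮.presheaf.obj (op U))
        (_ : s' ∈ 𝒮.deg U hY (m * n)),
        (𝒮L.str.app (op W)).hom t *
          (u.gradedAt U hY W hW hWU s) ^ m =
        u.gradedAt U hY W hW hWU s') ↔
      Function.Surjective (HomogeneousLocalization.Away.map
        (u.gradedAt U hY W hW hWU) s) := by
  set g := u.gradedAt U hY W hW hWU with hg
  have hval : ∀ t : Γ(X, W), ((cmp q u hY W hW hWU s).hom t).val =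
      Localization.mk ((𝒮L.str.app (op W)).hom t) 1 := fun t => rfl
  constructor
  · intro h x
    obtain ⟨t, rfl⟩ := hbij.2 x
    obtain ⟨m, hm, s', hs', heq⟩ := h t
    have hs'' : s' ∈ 𝒮.deg U hY (m • n) := by rwa [smul_eq_mul]
    refine ⟨Away.mk (𝒮.deg U hY) hs m s' hs'', ?_⟩
    rw [Away.map_mk]
    apply HomogeneousLocalization.val_injective
    rw [Away.val_mk, hval, Localization.mk_eq_mk_iff, Localization.r_iff_exists]
    refine ⟨1, ?_⟩
    simp only [OneMemClass.coe_one, one_mul]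
    rw [← heq, mul_comm]
  · intro h t
    obtain ⟨x, hx⟩ := h ((cmp q u hY W hW hWU s).hom t)
    obtain ⟨m, s', hs', rfl⟩ := Away.mk_surjective (𝒮.deg U hY) hs x
    rw [Away.map_mk] at hx
    have hx' := congrArg HomogeneousLocalization.val hx
    rw [Away.val_mk, hval, Localization.mk_eq_mk_iff, Localization.r_iff_exists] at hx'
    obtain ⟨⟨_, k, rfl⟩, hk⟩ := hx'
    simp only [OneMemClass.coe_one, one_mul] at hk
    refine ⟨k + m + 1, Nat.succ_pos _, s ^ (k + 1) * s', ?_, ?_⟩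
    · have h1 : s ^ (k + 1) ∈ 𝒮.deg U hY ((k + 1) • n) := SetLike.pow_mem_graded (k + 1) hs
      have h2 := SetLike.mul_mem_graded h1 hs'
      have e : (k + 1) • n + m • n = (k + m + 1) * n := by
        simp only [smul_eq_mul]; ring
      rwa [e] at h2
    · rw [map_mul, map_pow]
      have e1 : (𝒮L.str.app (op W)).hom t * g s ^ (k + m + 1) =
          g s * (g s ^ k * (g s ^ m * (𝒮L.str.app (op W)).hom t)) := by ring
      rw [e1, ← hk]
      ring

end Chart

theorem cond4_iff {U : Y.Opens} (hY : IsAffineOpen U) (W : X.Opens) (hW : IsAffineOpen W) (hWU : W ≤ q ⁻¹ᵁ U)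
    {n : ℕ} (hn : 0 < n)
    (s : 𝒮.presheaf.obj (op U)) (hs : s ∈ 𝒮.deg U hY n) :
    (∀ (m : ℕ), 0 < m → ∀ s' ∈ 𝒮.deg U hY (m * n),
        u.gradedAt U hY W hW hWU s' = 0 →
        ∃ (k : ℕ), 0 < k ∧ s ^ k * s' = 0) ↔
      Function.Injective (HomogeneousLocalization.Away.map
        (u.gradedAt U hY W hW hWU) s) := by
  set g := u.gradedAt U hY W hW hWU with hg
  constructor
  · intro h
    rw [injective_iff_map_eq_zero]
    intro x hx
    obtain ⟨m, s', hs', rfl⟩ := Away.mk_surjective (𝒮.deg U hY) hs x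
    rw [Away.map_mk, HomogeneousLocalization.ext_iff_val, Away.val_mk,
      HomogeneousLocalization.val_zero, Localization.mk_eq_mk', IsLocalization.mk'_eq_zero_iff] at hx
    obtain ⟨⟨_, k, rfl⟩, hk⟩ := hx
    have h1 : s ^ (k + 1) ∈ 𝒮.deg U hY ((k + 1) • n) := SetLike.pow_mem_graded (k + 1) hs
    have h2 := SetLike.mul_mem_graded h1 hs'
    have e : (k + 1) • n + m • n = (k + 1 + m) * n := by
      simp only [smul_eq_mul]; ring
    rw [e] at h2
    have h3 : g (s ^ (k + 1) * s') = 0 := by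
      have hk' : g s ^ k * g s' = 0 := hk
      rw [map_mul, map_pow, pow_succ]
      calc g s ^ k * g s * g s' = g s * (g s ^ k * g s') := by ring
        _ = 0 := by rw [hk', mul_zero]
    obtain ⟨k', -, hk'⟩ := h (k + 1 + m) (by omega) _ h2 h3
    rw [HomogeneousLocalization.ext_iff_val, Away.val_mk,
      HomogeneousLocalization.val_zero, Localization.mk_eq_mk', IsLocalization.mk'_eq_zero_iff]
    refine ⟨⟨s ^ (k' + (k + 1)), _, rfl⟩, ?_⟩
    show s ^ (k' + (k + 1)) * s' = 0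
    rw [pow_add, mul_assoc]
    exact hk'
  · intro h m hm s' hs' h0
    have hs'' : s' ∈ 𝒮.deg U hY (m • n) := by rwa [smul_eq_mul]
    have hx : HomogeneousLocalization.Away.map g s (Away.mk (𝒮.deg U hY) hs m s' hs'') = 0 := by
      rw [Away.map_mk, HomogeneousLocalization.ext_iff_val, Away.val_mk,
        HomogeneousLocalization.val_zero, Localization.mk_eq_mk', IsLocalization.mk'_eq_zero_iff]
      exact ⟨1, by rw [h0, mul_zero]⟩
    have hx0 := h (hx.trans (map_zero _).symm)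
    rw [HomogeneousLocalization.ext_iff_val, Away.val_mk,
      HomogeneousLocalization.val_zero, Localization.mk_eq_mk', IsLocalization.mk'_eq_zero_iff] at hx0
    obtain ⟨⟨_, k, rfl⟩, hk⟩ := hx0
    refine ⟨k + 1, Nat.succ_pos _, ?_⟩
    have hk' : s ^ k * s' = 0 := hk
    calc s ^ (k + 1) * s' = s * (s ^ k * s') := by ring
      _ = 0 := by rw [hk', mul_zero]


end Main

end Groth.Agent.Helper1.SymInvLocU
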