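import Mathlib
import Groth.Agent.Lib.Helper1.SymU2

set_option autoImplicit false
universe u

open CategoryTheory CategoryTheory.Limits AlgebraicGeometry TopologicalSpace Opposite
open HomogeneousLocalization
open scoped HomogeneousIdeal

namespace Groth.Agent.Helper1.SymInvLocU

open Groth.Agent.Helper1.SymAlg Groth.Agent.Helper1.LGen Groth.Agent.Helper1.QcCech
open Groth.Agent.Helper1.ProjQ Groth.Agent.Helper1.SymInvLoc Groth.Agent.Helper1.SymBr

section Main
variable {Y X P PL : Scheme.{u}} (q : X ⟶ Y) (L : X.Modules) [L.IsQuasicoherent]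
  {𝒮 : RelProj.QCGrAlg Y} {𝒮L : RelProj.QCGrAlg X} {j : L ⟶ 𝒮L.toModule}
  (hj : RelProj.IsGrSymAlg L 𝒮L j) (u : RelProj.QGrHom q 𝒮 𝒮L)
  {p : P ⟶ Y}
  {chart : ∀ (U : Y.Opens) (hU : IsAffineOpen U),
    (((p ⁻¹ᵁ U : P.Opens) : Scheme.{u}) ≅ Proj (𝒮.deg U hU))}
  {pL : PL ⟶ X}
  {chartL : ∀ (U : X.Opens) (hU : IsAffineOpen U),
    (((pL ⁻¹ᵁ U : PL.Opens) : Scheme.{u}) ≅ Proj (𝒮L.deg U hU))}

include hj in
/-- a section whose non-vanishing locus is the whole affine open `W` vanishes at no point of the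
chart over `W` -/
theorem notMem_of_nz_eq (hPL : RelProj.IsRelProj 𝒮L pL chartL) (W : X.Opens)
    (hW : IsAffineOpen W) (n : ℕ) (σ : 𝒮L.presheaf.obj (op W)) (hnz : nz 𝒮L W n σ = W)
    (y : Proj (𝒮L.deg W hW)) : σ ∉ y.asHomogeneousIdeal := by
  have hxW : pL (RelProj.emb pL chartL W hW y) ∈ W := by
    have : RelProj.emb pL chartL W hW y ∈ Set.range (RelProj.emb pL chartL W hW) := ⟨y, rfl⟩
    rw [RelCone3.range_emb] at this
    exact this
  have hxnz : pL (RelProj.emb pL chartL W hW y) ∈ nz 𝒮L W n σ := by rw [hnz]; exact hxW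
  obtain ⟨V, hV, hVW, hxV, hsub⟩ := mem_nz_iff.1 hxnz
  obtain ⟨g, g', e, hxg⟩ := AffExt.exists_basic_both hW hV hxW hxV
  have hsub' := span_basicOpen' 𝒮L V hV n _ hsub g'
  have key : ∀ (O : X.Opens) (hO : O = X.basicOpen g') (hOa : IsAffineOpen O) (hOW : O ≤ W),
      ((𝒮L.deg O hOa n : AddSubgroup (𝒮L.presheaf.obj (op O))) :
        Set (𝒮L.presheaf.obj (op O))) ⊆
          (Ideal.span {rs 𝒮L hOW σ} : Set (𝒮L.presheaf.obj (op O))) := by
    intro O hO hOa hOW
    subst hO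
    rwa [rs_rs] at hsub'
  have hsub'' := key _ e (hW.basicOpen g) (X.basicOpen_le g)
  have hmem : RelProj.emb pL chartL W hW y ∈
      Set.range (RelProj.emb pL chartL (X.basicOpen g) (hW.basicOpen g)) := by
    rw [RelCone3.range_emb]; exact hxg
  obtain ⟨y'', hy''⟩ := hmem
  rw [← RelProj.map_res_emb hPL W hW g] at hy''
  have hy : Proj.map (𝒮L.res hW (hW.basicOpen g) (X.basicOpen_le g))
      (𝒮L.irrelevant_le_map W hW g) y'' = y :=
    (RelProj.emb pL chartL W hW).isOpenEmbedding.injective hy''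
  have h1 := notMem_of_span L hj (X.basicOpen g) (hW.basicOpen g) n _ hsub'' y''
  have h2 : y'' ∈ Proj.basicOpen (𝒮L.deg (X.basicOpen g) (hW.basicOpen g))
      (𝒮L.res hW (hW.basicOpen g) (X.basicOpen_le g) σ) :=
    (Proj.mem_basicOpen _ _ _).2 h1
  rw [← Proj.map_preimage_basicOpen (𝒮L.res hW (hW.basicOpen g) (X.basicOpen_le g))
    (𝒮L.irrelevant_le_map W hW g)] at h2
  have h3 : Proj.map (𝒮L.res hW (hW.basicOpen g) (X.basicOpen_le g))
      (𝒮L.irrelevant_le_map W hW g) y'' ∈ Proj.basicOpen (𝒮L.deg W hW) σ := h2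
  rw [hy] at h3
  exact (Proj.mem_basicOpen _ _ _).1 h3

section Chart2
variable {U : Y.Opens} (hY : IsAffineOpen U) (W : X.Opens) (hW : IsAffineOpen W)
  (hWU : W ≤ q ⁻¹ᵁ U) {n : ℕ} (hn : 0 < n)
  (s : 𝒮.presheaf.obj (op U)) (hs : s ∈ 𝒮.deg U hY n)
  (hWeq : W = nz 𝒮L (q ⁻¹ᵁ U) n ((u.app U).hom s))

include hj hWeq in
theorem hnot_of_eq (hPL : RelProj.IsRelProj 𝒮L pL chartL) (y : Proj (𝒮L.deg W hW)) :
    u.gradedAt U hY W hW hWU s ∉ y.asHomogeneousIdeal := by
  refine notMem_of_nz_eq L hj hPL W hW n (rs 𝒮L hWU ((u.app U).hom s)) ?_ y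
  rw [nz_res, ← hWeq, inf_idem]

include hj hWeq hn hs in
theorem chart_pullbackU (hL : PicF.IsInvertible L) (hP : RelProj.IsRelProj 𝒮 p chart)
    (hPL : RelProj.IsRelProj 𝒮L pL chartL)
    (r : ((RelProj.domQ u pL chartL : PL.Opens) : Scheme.{u}) ⟶ P)
    (hr : RelProj.IsProjQMapOn u p chart pL chartL (RelProj.domQ u pL chartL) r)
    (O : P.Opens) (r' : ((RelProj.domQ u pL chartL : PL.Opens) : Scheme.{u}) ⟶ O)
    (hr' : r' ≫ O.ι = r)
    (hGO : (RelProj.emb p chart U hY) ''ᵁ Proj.basicOpen (𝒮.deg U hY) s ≤ O) :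
    ∃ (e : Spec (CommRingCat.of (HomogeneousLocalization.Away (𝒮L.deg W hW)
          (u.gradedAt U hY W hW hWU s))) ⟶
          ((RelProj.domQ u pL chartL : PL.Opens) : Scheme.{u})) (_ : IsOpenImmersion e)
      (ι' : Spec (CommRingCat.of (HomogeneousLocalization.Away (𝒮.deg U hY) s)) ⟶ (O : Scheme.{u}))
      (_ : IsOpenImmersion ι'),
      e.opensRange = r ⁻¹ᵁ ((RelProj.emb p chart U hY) ''ᵁ Proj.basicOpen (𝒮.deg U hY) s) ∧
      ι'.opensRange = O.ι ⁻¹ᵁ ((RelProj.emb p chart U hY) ''ᵁ Proj.basicOpen (𝒮.deg U hY) s) ∧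
      IsPullback (Spec.map (CommRingCat.ofHom (HomogeneousLocalization.Away.map
        (u.gradedAt U hY W hW hWU) s))) e ι' r' := by
  have hnot := hnot_of_eq q L hj u hY W hW hWU s hWeq hPL
  have hsub := RelProj.range_awayEmb_subset_domQ u pL chartL U hY W hW
      hWU hn s hs
  have hfac : IsOpenImmersion.lift (RelProj.domQ u pL chartL).ι
      (RelProj.awayEmb u pL chartL U hY W hW
        hWU hn s hs) hsub ≫
        (RelProj.domQ u pL chartL).ι = RelProj.awayEmb u pL chartL U hY W hW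
        hWU hn s hs := IsOpenImmersion.lift_fac _ _ _
  have hoe' : IsOpenImmersion (IsOpenImmersion.lift (RelProj.domQ u pL chartL).ι
      (RelProj.awayEmb u pL chartL U hY W hW
        hWU hn s hs) hsub ≫
        (RelProj.domQ u pL chartL).ι) := by rw [hfac]; infer_instance
  have hoe : IsOpenImmersion (IsOpenImmersion.lift (RelProj.domQ u pL chartL).ι
      (RelProj.awayEmb u pL chartL U hY W hW
        hWU hn s hs) hsub) :=
    IsOpenImmersion.of_comp _ (RelProj.domQ u pL chartL).ι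
  have hιGr : (Proj.awayι (𝒮.deg U hY) s hs hn ≫ RelProj.emb p chart U hY).opensRange =
      (RelProj.emb p chart U hY) ''ᵁ Proj.basicOpen (𝒮.deg U hY) s := by
    rw [Scheme.Hom.opensRange_comp, Proj.opensRange_awayι]
  have hsubO : Set.range (Proj.awayι (𝒮.deg U hY) s hs hn ≫ RelProj.emb p chart U hY) ⊆
      Set.range O.ι := by
    rw [Scheme.Opens.range_ι]
    intro x hx
    have : x ∈ (Proj.awayι (𝒮.deg U hY) s hs hn ≫ RelProj.emb p chart U hY).opensRange := hx
    rw [hιGr] at this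
    exact hGO this
  have hfac' : IsOpenImmersion.lift O.ι
      (Proj.awayι (𝒮.deg U hY) s hs hn ≫ RelProj.emb p chart U hY) hsubO ≫ O.ι =
      Proj.awayι (𝒮.deg U hY) s hs hn ≫ RelProj.emb p chart U hY :=
    IsOpenImmersion.lift_fac _ _ _
  have hoι'' : IsOpenImmersion (IsOpenImmersion.lift O.ι
      (Proj.awayι (𝒮.deg U hY) s hs hn ≫ RelProj.emb p chart U hY) hsubO ≫ O.ι) := by
    rw [hfac']; infer_instance
  have hoι' : IsOpenImmersion (IsOpenImmersion.lift O.ι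
      (Proj.awayι (𝒮.deg U hY) s hs hn ≫ RelProj.emb p chart U hY) hsubO) :=
    IsOpenImmersion.of_comp _ O.ι
  have hc : IsOpenImmersion.lift (RelProj.domQ u pL chartL).ι
      (RelProj.awayEmb u pL chartL U hY W hW
        hWU hn s hs) hsub ≫ r =
      Spec.map (CommRingCat.ofHom (HomogeneousLocalization.Away.map
        (u.gradedAt U hY W hW hWU) s)) ≫
        (Proj.awayι (𝒮.deg U hY) s hs hn ≫ RelProj.emb p chart U hY) :=
    hr U hY W hW hWU n hn s hs hsub
  have h44 := main12144U q L hj u hL hP hPL r hr hY n hn s hs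
  rw [← hWeq] at h44
  have haEr := opensRange_awayEmb (pL := pL) (chartL := chartL) q u hY W hW hWU hn s hs hnot
  have her : (IsOpenImmersion.lift (RelProj.domQ u pL chartL).ι
      (RelProj.awayEmb u pL chartL U hY W hW
        hWU hn s hs) hsub).opensRange =
      (RelProj.domQ u pL chartL).ι ⁻¹ᵁ (pL ⁻¹ᵁ W) := by
    rw [← haEr, ← opensRange_congr hfac, Scheme.Hom.opensRange_comp,
      Scheme.Hom.preimage_image_eq]
  have hpre : r ⁻¹ᵁ (Proj.awayι (𝒮.deg U hY) s hs hn ≫ RelProj.emb p chart U hY).opensRange =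
      (IsOpenImmersion.lift (RelProj.domQ u pL chartL).ι
      (RelProj.awayEmb u pL chartL U hY W hW
        hWU hn s hs) hsub).opensRange := by
    rw [her, ← h44, Scheme.Hom.preimage_image_eq, hιGr]
  refine ⟨_, hoe, _, hoι', ?_, ?_, ?_⟩
  · rw [← hpre, hιGr]
  · rw [← hιGr, ← opensRange_congr hfac', Scheme.Hom.opensRange_comp,
      Scheme.Hom.preimage_image_eq]
  · exact isPullback_of_chart r O r' hr' _ _ hfac' _ _ hc hpre


end Chart2

end Main

end Groth.Agent.Helper1.SymInvLocU
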