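import Mathlib
import Groth.Agent.Lib.Helper1.SymU3

set_option autoImplicit false
universe u

open CategoryTheory CategoryTheory.Limits AlgebraicGeometry TopologicalSpace Opposite
open HomogeneousLocalization
open scoped HomogeneousIdeal

namespace Groth.Agent.Helper1.SymInvLocU

open Groth.Agent.Helper1.SymAlg Groth.Agent.Helper1.LGen Groth.Agent.Helper1.QcCech
open Groth.Agent.Helper1.ProjQ Groth.Agent.Helper1.SymInvLoc Groth.Agent.Helper1.SymBr

section Main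
variable {Y X P PL : Scheme.{u}} (q : X ⟶ Y) (L : X.Modules) [L.IsQuasicoherent]
  {𝒮 : RelProj.QCGrAlg Y} {𝒮L : RelProj.QCGrAlg X} {j : L ⟶ 𝒮L.toModule}
  (hj : RelProj.IsGrSymAlg L 𝒮L j) (u : RelProj.QGrHom q 𝒮 𝒮L)
  {p : P ⟶ Y}
  {chart : ∀ (U : Y.Opens) (hU : IsAffineOpen U),
    (((p ⁻¹ᵁ U : P.Opens) : Scheme.{u}) ≅ Proj (𝒮.deg U hU))}
  {pL : PL ⟶ X}
  {chartL : ∀ (U : X.Opens) (hU : IsAffineOpen U),
    (((pL ⁻¹ᵁ U : PL.Opens) : Scheme.{u}) ≅ Proj (𝒮L.deg U hU))}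

include hj in
/-- `r` is everywhere defined as soon as the non-vanishing loci of a family cover `X` -/
theorem domQ_eq_top_of_cover (hPL : RelProj.IsRelProj 𝒮L pL chartL)
    (h : ∀ x : X, ∃ (U : Y.Opens) (hU : IsAffineOpen U) (n : ℕ) (_ : 0 < n)
      (s : 𝒮.presheaf.obj (op U)) (_ : s ∈ 𝒮.deg U hU n),
      x ∈ nz 𝒮L (q ⁻¹ᵁ U) n ((u.app U).hom s)) :
    RelProj.domQ u pL chartL = ⊤ := by
  refine eq_top_iff.mpr fun x' _ => ?_
  obtain ⟨U, hU, n, hn, s, hs, hx⟩ := h (pL x')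
  obtain ⟨V, hV, hVU, hxV, hsub⟩ := mem_nz_iff.1 hx
  let π : Pair q := ⟨U, hU, V, hV, hVU⟩
  have hx' : x' ∈ Set.range (RelProj.emb pL chartL V hV) := by
    rw [RelCone3.range_emb]; exact hxV
  obtain ⟨y, rfl⟩ := hx'
  apply image_le_domQ u pL chartL π
  refine ⟨y, ?_, rfl⟩
  apply (RelCone.mem_domOpen _ _).2
  exact ⟨s, HomogeneousIdeal.mem_irrelevant_of_mem _ hn hs,
    notMem_of_span L hj V hV n _ hsub y⟩

include hj in
/-- a target-local property of the charts passes to `r` corestricted to the union of the basic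
opens (family over varying affine opens of the base) -/
theorem local_propU (Pm : MorphismProperty Scheme.{u}) [IsZariskiLocalAtTarget Pm]
    (hL : PicF.IsInvertible L) (hP : RelProj.IsRelProj 𝒮 p chart)
    (hPL : RelProj.IsRelProj 𝒮L pL chartL)
    (r : ((RelProj.domQ u pL chartL : PL.Opens) : Scheme.{u}) ⟶ P)
    (hr : RelProj.IsProjQMapOn u p chart pL chartL (RelProj.domQ u pL chartL) r)
    (ι : Type u) (U : ι → Y.Opens) (hU : ∀ a, IsAffineOpen (U a)) (n : ι → ℕ)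
    (s : ∀ a, 𝒮.presheaf.obj (op (U a)))
    (h1 : ∀ a, 0 < n a ∧ s a ∈ 𝒮.deg (U a) (hU a) (n a))
    (h3 : (⨆ a, nz 𝒮L (q ⁻¹ᵁ U a) (n a) ((u.app (U a)).hom (s a))) = ⊤)
    (h4 : ∀ a, IsAffineOpen (nz 𝒮L (q ⁻¹ᵁ U a) (n a) ((u.app (U a)).hom (s a))))
    (hloc : ∀ a, Pm (Spec.map (CommRingCat.ofHom (HomogeneousLocalization.Away.map
      (u.gradedAt (U a) (hU a) (nz 𝒮L (q ⁻¹ᵁ U a) (n a) ((u.app (U a)).hom (s a))) (h4 a)
        nz_le) (s a))))) :
    ∃ (r' : ((RelProj.domQ u pL chartL : PL.Opens) : Scheme.{u}) ⟶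
        ((⨆ a, (RelProj.emb p chart (U a) (hU a)) ''ᵁ
          Proj.basicOpen (𝒮.deg (U a) (hU a)) (s a) : P.Opens) : Scheme.{u})),
      r' ≫ (⨆ a, (RelProj.emb p chart (U a) (hU a)) ''ᵁ
          Proj.basicOpen (𝒮.deg (U a) (hU a)) (s a) : P.Opens).ι = r ∧ Pm r' := by
  set O : P.Opens := ⨆ a, (RelProj.emb p chart (U a) (hU a)) ''ᵁ
    Proj.basicOpen (𝒮.deg (U a) (hU a)) (s a) with hO
  have hrO : Set.range r ⊆ Set.range O.ι := by
    rw [Scheme.Opens.range_ι]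
    rintro _ ⟨x, rfl⟩
    have hx : pL ((RelProj.domQ u pL chartL).ι x) ∈
        (⨆ a, nz 𝒮L (q ⁻¹ᵁ U a) (n a) ((u.app (U a)).hom (s a))) := by
      rw [h3]; trivial
    obtain ⟨a, ha⟩ := Opens.mem_iSup.1 hx
    have := (mem_preimage_iffU q L hj u hL hP hPL r hr (hU a) (h1 a).1 (s a) (h1 a).2 x).2 ha
    exact Opens.mem_iSup.2 ⟨a, this⟩
  refine ⟨IsOpenImmersion.lift O.ι r hrO, IsOpenImmersion.lift_fac _ _ _, ?_⟩
  have hcp := fun a => chart_pullbackU q L hj u (hU a)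
    (nz 𝒮L (q ⁻¹ᵁ U a) (n a) ((u.app (U a)).hom (s a))) (h4 a) nz_le (h1 a).1 (s a)
    (h1 a).2 rfl hL hP hPL r hr O (IsOpenImmersion.lift O.ι r hrO)
    (IsOpenImmersion.lift_fac _ _ _) (le_iSup (fun a => (RelProj.emb p chart (U a) (hU a)) ''ᵁ
      Proj.basicOpen (𝒮.deg (U a) (hU a)) (s a)) a)
  choose e he ι' hι' her hι'r hpb using hcp
  let 𝒰 : Scheme.OpenCover.{u} (O : Scheme.{u}) :=
    Scheme.Cover.mkOfCovers ι (fun a => Spec (CommRingCat.of
      (HomogeneousLocalization.Away (𝒮.deg (U a) (hU a)) (s a)))) ι' (by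
        intro z
        have hz : O.ι z ∈ O := z.2
        obtain ⟨a, ha⟩ := Opens.mem_iSup.1 hz
        have : z ∈ (ι' a).opensRange := by
          rw [hι'r a]; exact ha
        obtain ⟨y, hy⟩ := this
        exact ⟨a, y, hy⟩) hι'
  apply IsZariskiLocalAtTarget.of_openCover 𝒰
  intro a
  have h := (hpb a).flip
  have e1 := h.isoPullback_hom_snd
  have e2 := (Iso.inv_comp_eq _).2 e1.symm
  show Pm (pullback.snd (IsOpenImmersion.lift O.ι r hrO) (ι' a))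
  rw [← e2]
  exact (Pm.cancel_left_of_respectsIso _ _).2 (hloc a)

include hj in
/-- converse: a target-local property of a corestriction of `r` passes to the charts -/
theorem chart_propU (Pm : MorphismProperty Scheme.{u}) [IsZariskiLocalAtTarget Pm]
    (hL : PicF.IsInvertible L) (hP : RelProj.IsRelProj 𝒮 p chart)
    (hPL : RelProj.IsRelProj 𝒮L pL chartL)
    (r : ((RelProj.domQ u pL chartL : PL.Opens) : Scheme.{u}) ⟶ P)
    (hr : RelProj.IsProjQMapOn u p chart pL chartL (RelProj.domQ u pL chartL) r)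
    (O : P.Opens) (r' : ((RelProj.domQ u pL chartL : PL.Opens) : Scheme.{u}) ⟶ O)
    (hr' : r' ≫ O.ι = r) (hPm : Pm r')
    {U : Y.Opens} (hU : IsAffineOpen U)
    {n : ℕ} (hn : 0 < n) (s : 𝒮.presheaf.obj (op U)) (hs : s ∈ 𝒮.deg U hU n)
    (hGO : (RelProj.emb p chart U hU) ''ᵁ Proj.basicOpen (𝒮.deg U hU) s ≤ O)
    (hW : IsAffineOpen (nz 𝒮L (q ⁻¹ᵁ U) n ((u.app U).hom s))) :
    Pm (Spec.map (CommRingCat.ofHom (HomogeneousLocalization.Away.map
      (u.gradedAt U hU (nz 𝒮L (q ⁻¹ᵁ U) n ((u.app U).hom s)) hW nz_le) s))) := by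
  obtain ⟨e, he, ι', hι', -, -, hpb⟩ := chart_pullbackU q L hj u hU
    (nz 𝒮L (q ⁻¹ᵁ U) n ((u.app U).hom s)) hW nz_le hn s hs rfl
    hL hP hPL r hr O r' hr' hGO
  exact IsZariskiLocalAtTarget.of_isPullback hpb.flip hPm

include hj in
theorem isAffineOpen_nzU (hL : PicF.IsInvertible L) (hP : RelProj.IsRelProj 𝒮 p chart)
    (hPL : RelProj.IsRelProj 𝒮L pL chartL)
    (r : ((RelProj.domQ u pL chartL : PL.Opens) : Scheme.{u}) ⟶ P)
    (hr : RelProj.IsProjQMapOn u p chart pL chartL (RelProj.domQ u pL chartL) r)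
    (O : P.Opens) (r' : ((RelProj.domQ u pL chartL : PL.Opens) : Scheme.{u}) ⟶ O)
    (hr' : r' ≫ O.ι = r) [IsAffineHom r']
    {U : Y.Opens} (hU : IsAffineOpen U)
    {n : ℕ} (hn : 0 < n) (s : 𝒮.presheaf.obj (op U)) (hs : s ∈ 𝒮.deg U hU n)
    (hGO : (RelProj.emb p chart U hU) ''ᵁ Proj.basicOpen (𝒮.deg U hU) s ≤ O) :
    IsAffineOpen (nz 𝒮L (q ⁻¹ᵁ U) n ((u.app U).hom s)) := by
  have hiso : IsIso pL := main12143 L hj hL hPL
  have h44 := main12144U q L hj u hL hP hPL r hr hU n hn s hs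
  have hG : IsAffineOpen ((RelProj.emb p chart U hU) ''ᵁ Proj.basicOpen (𝒮.deg U hU) s) :=
    (Proj.isAffineOpen_basicOpen (𝒮.deg U hU) s hs hn).image_of_isOpenImmersion _
  have hG' : IsAffineOpen (O.ι ⁻¹ᵁ ((RelProj.emb p chart U hU) ''ᵁ
      Proj.basicOpen (𝒮.deg U hU) s)) := by
    apply hG.preimage_of_isOpenImmersion
    rw [Scheme.Opens.opensRange_ι]; exact hGO
  have h1 : IsAffineOpen (r ⁻¹ᵁ ((RelProj.emb p chart U hU) ''ᵁ
      Proj.basicOpen (𝒮.deg U hU) s)) := by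
    rw [← hr', Scheme.Hom.comp_preimage]
    exact hG'.preimage r'
  have h2 := h1.image_of_isOpenImmersion (RelProj.domQ u pL chartL).ι
  rw [h44] at h2
  have h3 := h2.image_of_isOpenImmersion pL
  rw [Scheme.Hom.image_preimage_eq_opensRange_inf, Scheme.Hom.opensRange_of_isIso,
    top_inf_eq] at h3
  exact h3

end Main

end Groth.Agent.Helper1.SymInvLocU
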