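import Mathlib
import Groth.Agent.Lib.Helper1.SymU4

set_option autoImplicit false
universe u

open CategoryTheory CategoryTheory.Limits AlgebraicGeometry TopologicalSpace Opposite

namespace Groth.Agent.Helper1.SymInvLocU

open Groth.Agent.Helper1.SymAlg Groth.Agent.Helper1.LGen Groth.Agent.Helper1.QcCech
open Groth.Agent.Helper1.ProjQ Groth.Agent.Helper1.SymInvLoc Groth.Agent.Helper1.SymBr
open Groth.Agent.Helper1.AmpleLib Groth.Agent.Helper1.TwForm Groth.Agent.Helper1.VT Groth.Agent.Helper1.SubSh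

section RB
variable {X : Scheme.{u}}

/-- the generating locus of a section of a restricted module, seen on `X` -/
theorem image_genLocus_restrict (A : X.Modules) (W : X.Opens)
    (s : Coh.structureModule (W : Scheme.{u}) ⟶ A.restrict W.ι) :
    W.ι ''ᵁ (CohB1.genLocus (A.restrict W.ι) s) =
      gl A (show Γ(A, W.ι ''ᵁ ⊤) from secVal s ⊤) := by
  ext x
  constructor
  · rintro ⟨x', hx', rfl⟩
    obtain ⟨V', hxV', hg⟩ := (mem_genLocus_iff_isGen s x').1 hx'
    rw [← res_secVal s (le_top : V' ≤ ⊤)] at hg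
    have := isGen_image_of_isGen_restrict W.ι A V' _ hg
    exact (mem_gl_iff A _ _).2 ⟨W.ι ''ᵁ V', W.ι.image_mono le_top, ⟨x', hxV', rfl⟩, this⟩
  · intro hx
    obtain ⟨V, hV, hxV, hg⟩ := (mem_gl_iff A _ _).1 hx
    obtain ⟨V', rfl⟩ : ∃ V' : (W : Scheme.{u}).Opens, V = W.ι ''ᵁ V' :=
      ⟨W.ι ⁻¹ᵁ V, (image_preimage_eq_of_le W.ι (by
        rw [← Scheme.Hom.image_top_eq_opensRange]; exact hV)).symm⟩
    obtain ⟨x', hx'V', rfl⟩ := hxV
    refine ⟨x', ?_, rfl⟩
    have hg' := isGen_restrict_of_isGen_image W.ι A V' _ hg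
    refine (mem_genLocus_iff_isGen s x').2 ⟨V', hx'V', ?_⟩
    rw [← res_secVal s (le_top : V' ≤ ⊤)]
    exact hg'

/-- **sections of tensor powers of a restriction come from sections over the open** -/
theorem exists_section_of_restrict {L : X.Modules} (hL : PicF.IsInvertible L) (W : X.Opens)
    (N : ℕ) (s : Coh.structureModule (W : Scheme.{u}) ⟶ CohB1.tensorPow (L.restrict W.ι) N) :
    ∃ m : Γ(CohB1.tensorPow L N, W),
      gl (CohB1.tensorPow L N) m = W.ι ''ᵁ (CohB1.genLocus _ s) := by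
  let e := restrictTensorPowIso W.ι hL N
  have h1 : CohB1.genLocus _ (s ≫ e.inv) = CohB1.genLocus _ s :=
    TwistAmple.genLocus_comp_iso s e.symm
  have h2 := image_genLocus_restrict (CohB1.tensorPow L N) W (s ≫ e.inv)
  have hW : W.ι ''ᵁ ⊤ = W := Scheme.Opens.ι_image_top W
  refine ⟨res (CohB1.tensorPow L N) (le_of_eq hW.symm)
    (show Γ(CohB1.tensorPow L N, W.ι ''ᵁ ⊤) from secVal (s ≫ e.inv) ⊤), ?_⟩
  rw [← h1, h2]
  exact (gl_congr (CohB1.tensorPow L N) hW _ _ rfl).symm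

end RB

end Groth.Agent.Helper1.SymInvLocU
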