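import Mathlib
import Groth.Agent.Lib.Helper1.Dim1EffA
import Groth.Agent.Lib.Lead.ODiv3
import Groth.Agent.Lib.Helper1.AmpleDev4
import Groth.Agent.Lib.Helper1.NM14
import Groth.Agent.Lib.Helper1.CurveAmp3
import Groth.Agent.Lib.Helper1.PullGen2
import Groth.Agent.Lib.Helper1.VA8
import Groth.Agent.Lib.Helper1.ChowI

/-!
# Proper schemes of dimension at most one over a field are projective (helper1)
-/

set_option autoImplicit false
universe u
open CategoryTheory CategoryTheory.Limits AlgebraicGeometry TopologicalSpace Opposite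

namespace Groth.Agent.Helper1.Dim1Eff

open Groth.Agent.Helper1 Groth.Agent.Lead.ODiv

section Ample

variable (k : Type u) [Field k]

/-- the pullback of `O(D)` to an integral proper curve (or point) which meets `D` properly -/
theorem isAmple_pullback {X : Scheme.{u}} (W : Scheme.{u}) [W.Over (Spec (CommRingCat.of k))]
    [IsProper (W ↘ (Spec (CommRingCat.of k)))] [IsIntegral W] (v : W ⟶ X)
    (hWdim : topologicalKrullDim W ≤ 1) (I : X.IdealSheafData)
    (hI : BlowUp.IsEffCartierIdeal I)
    (h1 : ¬ topologicalKrullDim W ≤ 0 → ∃ w : W, v w ∈ I.support)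
    (h2 : ∃ z : W, v z ∉ I.support) :
    CohB1.IsAmple ((Scheme.Modules.pullback v).obj (OD I)) := by
  haveI : IsNoetherian W := Euler.isNoetherian_of_proper k W
  have hL : PicF.IsInvertible (OD I) := isInvertible_OD I hI
  have hM : PicF.IsInvertible ((Scheme.Modules.pullback v).obj (OD I)) :=
    PullGen.isInvertible_pullback v hL
  by_cases h0 : topologicalKrullDim W ≤ 0
  · exact NM.isAmple_of_dim_le_zero k W _ hM h0
  have hfin : topologicalKrullDim W < ⊤ :=
    Groth.Agent.Lib.Helper5.Misc.WeilGeo.dim_lt_top_of_finiteType (W ↘ Spec (CommRingCat.of k))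
  obtain ⟨d, hd⟩ := NM.exists_nat_eq' (NM.topologicalKrullDim_ne_bot W) hfin
  have hW1 : topologicalKrullDim W = 1 := by
    rw [hd] at hWdim h0
    have h3 : d ≤ 1 := by
      have a1 : ((d : ℕ∞) : WithBot ℕ∞) ≤ ((1 : ℕ∞) : WithBot ℕ∞) := by exact_mod_cast hWdim
      have a2 : (d : ℕ∞) ≤ 1 := WithBot.coe_le_coe.mp a1
      exact_mod_cast a2
    have h4 : ¬ d ≤ 0 := by
      intro h
      apply h0
      have b1 : (d : ℕ∞) ≤ 0 := by exact_mod_cast h
      have b2 : ((d : ℕ∞) : WithBot ℕ∞) ≤ ((0 : ℕ∞) : WithBot ℕ∞) := WithBot.coe_le_coe.mpr b1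
      exact_mod_cast b2
    have h5 : d = 1 := by omega
    rw [hd, h5]
    exact Nat.cast_one
  obtain ⟨w, hw⟩ := h1 h0
  obtain ⟨z, hz⟩ := h2
  rw [CurveAmp.isAmple_iff_deg_pos k W hW1 hM]
  obtain ⟨s', hs'⟩ : ∃ s' : Coh.structureModule W ⟶ (Scheme.Modules.pullback v).obj (OD I),
    s' = (PullSec.unitIso v).symm.hom ≫ (Scheme.Modules.pullback v).map (secHom I) := ⟨_, rfl⟩
  have hgl : CohB1.genLocus _ s' = v ⁻¹ᵁ CohB1.genLocus (OD I) (secHom I) := by
    rw [hs']
    exact PullGen.genLocus_pullback v hL (secHom I) (PullSec.unitIso v).symm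
  have hgl' : ∀ y : W, y ∈ CohB1.genLocus _ s' ↔ v y ∉ I.support := by
    intro y
    rw [hgl]
    change v y ∈ CohB1.genLocus (OD I) (secHom I) ↔ _
    rw [genLocus_secHom_eq I hI]
    rfl
  have hs0 : s' ≠ 0 := by
    intro h
    have hzg : z ∈ CohB1.genLocus _ s' := (hgl' z).2 hz
    rw [h, SecOps.genLocus_zero hM] at hzg
    exact hzg
  exact Curve.deg_pos_of_section_vanishing k W hW1 hM s' hs0 w (fun h => (hgl' w).1 h hw)

variable (X : Scheme.{u}) [X.Over (Spec (CommRingCat.of k))]
  [IsProper (X ↘ (Spec (CommRingCat.of k)))]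

include k in
/-- `O(D)` is ample when `D` meets every positive dimensional irreducible component -/
theorem isAmple_OD (hdim : topologicalKrullDim X ≤ 1) (I : X.IdealSheafData)
    (hI : BlowUp.IsEffCartierIdeal I)
    (hmeet : ∀ Z ∈ irreducibleComponents X, ¬ Z.Subsingleton →
      (Z ∩ (I.support : Set X)).Nonempty) :
    CohB1.IsAmple (OD I) := by
  haveI : IsNoetherian X := Euler.isNoetherian_of_proper k X
  have hL : PicF.IsInvertible (OD I) := isInvertible_OD I hI
  refine (AmpleDev.isAmple_iff_components k (X ↘ Spec (CommRingCat.of k)) hL).2 ?_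
  intro Z hZ
  haveI : IrreducibleSpace ↥(Scheme.IdealSheafData.vanishingIdeal Z).subscheme :=
    Dv.irreducibleSpace_vanishingIdeal_subscheme Z hZ.1
  haveI : IsReduced (Scheme.IdealSheafData.vanishingIdeal Z).subscheme :=
    Dv.isReduced_vanishingIdeal_subscheme Z
  haveI : IsIntegral (Scheme.IdealSheafData.vanishingIdeal Z).subscheme :=
    isIntegral_of_irreducibleSpace_of_isReduced _
  letI : (Scheme.IdealSheafData.vanishingIdeal Z).subscheme.Over (Spec (CommRingCat.of k)) :=
    ⟨(Scheme.IdealSheafData.vanishingIdeal Z).subschemeι ≫ (X ↘ Spec (CommRingCat.of k))⟩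
  haveI : IsProper ((Scheme.IdealSheafData.vanishingIdeal Z).subscheme ↘
      Spec (CommRingCat.of k)) := by
    change IsProper ((Scheme.IdealSheafData.vanishingIdeal Z).subschemeι ≫
      (X ↘ Spec (CommRingCat.of k)))
    infer_instance
  have hrange : Set.range (Scheme.IdealSheafData.vanishingIdeal Z).subschemeι = (Z : Set X) := by
    rw [Scheme.IdealSheafData.range_subschemeι, Scheme.IdealSheafData.coe_support_vanishingIdeal]
  have hinj : Function.Injective (Scheme.IdealSheafData.vanishingIdeal Z).subschemeι :=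
    (Scheme.IdealSheafData.vanishingIdeal Z).subschemeι.isClosedEmbedding.injective
  refine isAmple_pullback k _ (Scheme.IdealSheafData.vanishingIdeal Z).subschemeι ?_ I hI ?_ ?_
  · exact ((Scheme.IdealSheafData.vanishingIdeal
      Z).subschemeι.isClosedEmbedding.isEmbedding.isInducing.topologicalKrullDim_le).trans hdim
  · intro h0
    have hns : ¬ (Z : Set X).Subsingleton := by
      intro hsub
      apply h0
      haveI : Subsingleton ↥(Scheme.IdealSheafData.vanishingIdeal Z).subscheme :=
        ⟨fun a b => hinj (hsub (by rw [← hrange]; exact ⟨a, rfl⟩)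
          (by rw [← hrange]; exact ⟨b, rfl⟩))⟩
      exact topologicalKrullDim_zero_of_discreteTopology _
    obtain ⟨x, hxZ, hxI⟩ := hmeet Z hZ hns
    rw [← hrange] at hxZ
    obtain ⟨w, rfl⟩ := hxZ
    exact ⟨w, hxI⟩
  · have hnot := not_subset_support hI (Z : Set X) hZ
    rw [Set.not_subset] at hnot
    obtain ⟨y, hyZ, hyI⟩ := hnot
    rw [← hrange] at hyZ
    obtain ⟨z, rfl⟩ := hyZ
    exact ⟨z, hyI⟩

/-- **S7645**: a proper scheme of dimension at most one over a field is projective -/
theorem main (hdim : topologicalKrullDim X ≤ 1) :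
    ∃ (n : ℕ) (i : X ⟶ CohB1.ProjSpace n k), IsClosedImmersion i ∧
      i ≫ CohB1.ProjSpace.toSpec n k = X ↘ (Spec (CommRingCat.of k)) := by
  haveI : IsNoetherian X := Euler.isNoetherian_of_proper k X
  haveI : JacobsonSpace X := LocallyOfFiniteType.jacobsonSpace (X ↘ Spec (CommRingCat.of k))
  obtain ⟨I, hI, hmeet⟩ := exists_effCartier (X := X) hdim
  have hamp := isAmple_OD k X hdim I hI hmeet
  obtain ⟨n₀, h⟩ := VA8.exists_immersion_projSpace_powers (X ↘ Spec (CommRingCat.of k)) hamp
    (GenLoc.isInvertible_O (X := X))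
  obtain ⟨N, r, hr, hrq, -⟩ := h n₀ le_rfl
  haveI : IsImmersion r := hr
  haveI : IsProper (r ≫ CohB1.ProjSpace.toSpec N k) := by rw [hrq]; infer_instance
  haveI : IsClosedImmersion r :=
    Chow.isClosedImmersion_of_isProper_comp r (CohB1.ProjSpace.toSpec N k)
  exact ⟨N, r, inferInstance, hrq⟩

end Ample

end Groth.Agent.Helper1.Dim1Eff
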