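import Mathlib

/-!
# Chains of specializations and the topological Krull dimension (helper1)
-/

set_option autoImplicit false
universe u
open TopologicalSpace

namespace Groth.Agent.Helper1.DimCh

/-- the closure of a point as an irreducible closed subset -/
def icl {T : Type*} [TopologicalSpace T] (a : T) : IrreducibleCloseds T :=
  ⟨closure {a}, isIrreducible_singleton.closure, isClosed_closure⟩

theorem icl_lt {T : Type*} [TopologicalSpace T] [T0Space T] {a b : T} (hab : a ⤳ b)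
    (hne : a ≠ b) : icl b < icl a := by
  refine lt_of_le_of_ne ?_ ?_
  · show closure ({b} : Set T) ⊆ closure {a}
    exact specializes_iff_closure_subset.1 hab
  · intro he
    have h2 : closure ({b} : Set T) = closure {a} :=
      congrArg (fun z : IrreducibleCloseds T => (z : Set T)) he
    exact hne (hab.antisymm (specializes_iff_closure_subset.2 h2.ge)).eq

/-- a chain of `n` strict specializations forces dimension at least `n` -/
theorem chain_le_dim {T : Type*} [TopologicalSpace T] [T0Space T] (n : ℕ) (p : Fin (n + 1) → T)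
    (h : ∀ i : Fin n, p i.castSucc ⤳ p i.succ ∧ p i.castSucc ≠ p i.succ) :
    ((n : ℕ) : WithBot ℕ∞) ≤ topologicalKrullDim T := by
  unfold topologicalKrullDim
  rw [Order.le_krullDim_iff]
  refine ⟨LTSeries.mk n (fun i => icl (p i.rev)) ?_, rfl⟩
  refine Fin.strictMono_iff_lt_succ.2 (fun i => ?_)
  show icl (p (Fin.castSucc i).rev) < icl (p (Fin.succ i).rev)
  rw [Fin.rev_castSucc, Fin.rev_succ]
  exact icl_lt (h i.rev).1 (h i.rev).2

theorem two_le_dim_subtype {T : Type*} [TopologicalSpace T] [T0Space T] (W : Set T) {a b c : T}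
    (ha : a ∈ W) (hb : b ∈ W) (hc : c ∈ W) (hab : a ⤳ b) (hbc : b ⤳ c) (nab : a ≠ b)
    (nbc : b ≠ c) : ((2 : ℕ) : WithBot ℕ∞) ≤ topologicalKrullDim ↥W := by
  have hind := Topology.IsInducing.subtypeVal (t := W)
  have hab' : (⟨a, ha⟩ : W) ⤳ ⟨b, hb⟩ := hind.specializes_iff.1 hab
  have hbc' : (⟨b, hb⟩ : W) ⤳ ⟨c, hc⟩ := hind.specializes_iff.1 hbc
  refine chain_le_dim (T := ↥W) 2 ![⟨a, ha⟩, ⟨b, hb⟩, ⟨c, hc⟩] ?_
  intro i
  fin_cases i
  · exact ⟨hab', fun e => nab (congrArg Subtype.val e)⟩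
  · exact ⟨hbc', fun e => nbc (congrArg Subtype.val e)⟩

theorem three_le_dim {T : Type*} [TopologicalSpace T] [T0Space T] {a b c d : T}
    (hab : a ⤳ b) (hbc : b ⤳ c) (hcd : c ⤳ d) (nab : a ≠ b) (nbc : b ≠ c) (ncd : c ≠ d) :
    ((3 : ℕ) : WithBot ℕ∞) ≤ topologicalKrullDim T := by
  refine chain_le_dim (T := T) 3 ![a, b, c, d] ?_
  intro i
  fin_cases i
  · exact ⟨hab, nab⟩
  · exact ⟨hbc, nbc⟩
  · exact ⟨hcd, ncd⟩

end Groth.Agent.Helper1.DimCh
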