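import Mathlib
import Groth.Agent.Lib.Helper1.DimOneAff2
import Groth.Agent.Lib.Helper1.RpushComp
import Groth.Agent.Lib.Helper1.RpushZero
import Groth.Agent.Lib.Helper4.HUon1

/-!
# Higher direct images along retrocompact open immersions into schemes with local rings of
dimension at most one vanish (helper1)
-/

set_option backward.isDefEq.respectTransparency.types false
set_option synthInstance.maxHeartbeats 400000
set_option autoImplicit false
set_option linter.unusedSectionVars false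
set_option linter.style.haveILetI false
set_option linter.unusedSimpArgs false
universe u
open CategoryTheory CategoryTheory.Limits AlgebraicGeometry TopologicalSpace Opposite TensorProduct

namespace Groth.Agent.Helper1.DimOneAff

open Groth.Agent.Lead.BCU Groth.Agent.Helper1.FBC

section Main

variable (X : Scheme.{u}) [IsAffine X]

set_option maxHeartbeats 800000 in
/-- the key vanishing, for an arbitrary open immersion into an affine scheme -/
theorem subsingleton_HH_of_dimOne'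
    (hX : ∀ x : X, IsNoetherianRing (X.presheaf.stalk x) ∧ ringKrullDim (X.presheaf.stalk x) ≤ 1)
    {Y : Scheme.{u}} (j : Y ⟶ X) [IsOpenImmersion j] [CompactSpace Y] (I : Y.Modules)
    [I.IsQuasicoherent] (p : ℕ) : Subsingleton (Coh.HH Y I (p + 1)) := by
  classical
  letI oU : Y.Over (Spec (CommRingCat.of Γ(X, ⊤))) := ⟨j ≫ X.toSpecΓ⟩
  haveI : IsSeparated (Y ↘ Spec (CommRingCat.of Γ(X, ⊤))) := by
    change IsSeparated (j ≫ X.toSpecΓ)
    infer_instance
  refine subsingleton_of_forall_eq 0 fun h => ?_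
  by_contra hne
  -- the annihilator of `h`
  let Ann : Ideal Γ(X, ⊤) := LinearMap.ker (LinearMap.toSpanSingleton Γ(X, ⊤) _ h)
  have hAnn : Ann ≠ ⊤ := by
    intro htop
    have h1 : (1 : Γ(X, ⊤)) ∈ Ann := htop ▸ Submodule.mem_top
    have h2 : (1 : Γ(X, ⊤)) • h = 0 := h1
    rw [one_smul] at h2
    exact hne h2
  obtain ⟨𝔪, h𝔪, hle⟩ := Ideal.exists_le_maximal Ann hAnn
  let y : PrimeSpectrum Γ(X, ⊤) := ⟨𝔪, h𝔪.isPrime⟩
  set x : X := (isAffineOpen_top X).fromSpec y with hx
  letI algS : Algebra Γ(X, ⊤) (X.presheaf.stalk x) :=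
    TopCat.Presheaf.algebra_section_stalk X.presheaf (U := (⊤ : X.Opens)) ⟨x, trivial⟩
  have hlocS : IsLocalization.AtPrime (X.presheaf.stalk x) y.asIdeal :=
    (isAffineOpen_top X).isLocalization_stalk' y trivial
  haveI : IsNoetherianRing (X.presheaf.stalk x) := (hX x).1
  let φ : Γ(X, ⊤) →+* X.presheaf.stalk x := algebraMap Γ(X, ⊤) (X.presheaf.stalk x)
  have hfl : φ.Flat := RingHom.flat_algebraMap_iff.mpr (IsLocalization.flat _ y.asIdeal.primeCompl)
  -- the base change
  let X' : Scheme.{u} := pullback (j ≫ X.toSpecΓ) (Spec.map (CommRingCat.ofHom φ))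
  letI oX' : X'.Over (Spec (CommRingCat.of (X.presheaf.stalk x))) :=
    ⟨pullback.snd (j ≫ X.toSpecΓ) (Spec.map (CommRingCat.ofHom φ))⟩
  have hpb : IsPullback (pullback.fst (j ≫ X.toSpecΓ) (Spec.map (CommRingCat.ofHom φ)))
      (X' ↘ Spec (CommRingCat.of (X.presheaf.stalk x)))
      (Y ↘ Spec (CommRingCat.of Γ(X, ⊤))) (Spec.map (CommRingCat.ofHom φ)) :=
    IsPullback.of_hasPullback _ _
  obtain ⟨l, hl⟩ := exists_isBC_HH Γ(X, ⊤) (X.presheaf.stalk x) φ
    (pullback.fst (j ≫ X.toSpecΓ) (Spec.map (CommRingCat.ofHom φ))) I hpb hfl (p + 1)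
  haveI : IsAffine X' :=
    isAffine_of_isOpenImmersion (X.presheaf.stalk x) (hX x).2
      (pullback.snd (j ≫ X.toSpecΓ) (Spec.map (CommRingCat.ofHom φ)))
  haveI : ((Scheme.Modules.pullback
      (pullback.fst (j ≫ X.toSpecΓ) (Spec.map (CommRingCat.ofHom φ)))).obj I).IsQuasicoherent :=
    Groth.Agent.Lead.PB.isQuasicoherent_pullback _ _
  haveI := subsingleton_HH_of_isAffine X' ((Scheme.Modules.pullback
      (pullback.fst (j ≫ X.toSpecΓ) (Spec.map (CommRingCat.ofHom φ)))).obj I) p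
  have hloc' : @IsLocalization Γ(X, ⊤) _ y.asIdeal.primeCompl (X.presheaf.stalk x) _
      φ.toAlgebra := by
    have h0 : φ.toAlgebra = algS := Algebra.algebra_ext _ _ (fun _ => rfl)
    rw [h0]
    exact hlocS
  obtain ⟨s, hs, hsh⟩ := IsBC.torsion_of_subsingleton φ y.asIdeal.primeCompl hloc' hl h
  exact hs (hle hsh)

end Main

/-- stalk conditions pass to open subschemes -/
theorem stalk_cond_opens (X : Scheme.{u})
    (hX : ∀ x : X, IsNoetherianRing (X.presheaf.stalk x) ∧ ringKrullDim (X.presheaf.stalk x) ≤ 1)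
    (V : X.Opens) (x : (↑V : Scheme.{u})) :
    IsNoetherianRing ((↑V : Scheme.{u}).presheaf.stalk x) ∧
      ringKrullDim ((↑V : Scheme.{u}).presheaf.stalk x) ≤ 1 := by
  let e : X.presheaf.stalk (V.ι x) ≃+* (↑V : Scheme.{u}).presheaf.stalk x :=
    (asIso (V.ι.stalkMap x)).commRingCatIsoToRingEquiv
  haveI := (hX (V.ι x)).1
  exact ⟨isNoetherianRing_of_ringEquiv _ e, (ringKrullDim_eq_of_ringEquiv e).symm ▸ (hX (V.ι x)).2⟩

set_option maxHeartbeats 800000 in
/-- Stacks: `R^p j_* F = 0` for `p > 0`, `j` a quasi-compact open immersion into a scheme whose local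
rings are Noetherian of dimension at most one. -/
theorem isZero_rpush_of_dimOne (X : Scheme.{u})
    (hX : ∀ x : X, IsNoetherianRing (X.presheaf.stalk x) ∧ ringKrullDim (X.presheaf.stalk x) ≤ 1)
    (U : X.Opens) [QuasiCompact U.ι] [HasInjectiveResolutions (U : Scheme.{u}).Modules]
    (F : (U : Scheme.{u}).Modules) [F.IsQuasicoherent] (p : ℕ) :
    IsZero ((Coh.Rpush U.ι (p + 1)).obj F) := by
  obtain ⟨e⟩ := RpushComp.nonempty_iso U.ι F (p + 1)
  refine RpushComp.isZero_of_toAb _ (IsZero.of_iso ?_ e)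
  refine RpushZero.isZero_of_basis U.ι.base (Coh.toAb F) (p + 1) X.affineOpens
    X.isBasis_affineOpens ?_
  intro V hV
  obtain ⟨e2⟩ := Groth.Agent.Lib.Helper4.HUon1.nonempty_HU_equiv_HHon F (U.ι ⁻¹ᵁ V) (p + 1)
  haveI : IsAffine (↑V : Scheme.{u}) := hV
  haveI : CompactSpace (↑(U.ι ⁻¹ᵁ V) : Scheme.{u}) :=
    isCompact_iff_compactSpace.mp
      (QuasiCompact.isCompact_preimage (f := U.ι) _ V.2 (IsAffineOpen.isCompact hV))
  haveI : Subsingleton (Coh.HHon (↑U : Scheme.{u}) F (U.ι ⁻¹ᵁ V) (p + 1)) :=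
    subsingleton_HH_of_dimOne' (↑V : Scheme.{u}) (stalk_cond_opens X hX V) (U.ι ∣_ V)
      (F.restrict (U.ι ⁻¹ᵁ V).ι) p
  exact e2.toEquiv.subsingleton

end Groth.Agent.Helper1.DimOneAff
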