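import Mathlib

universe u

open AlgebraicGeometry CategoryTheory

namespace Groth.Agent.Helper1.DomGen

/-- A point with no proper generization. -/
def GenMax {Y : Type*} [TopologicalSpace Y] (y : Y) : Prop := ∀ y' : Y, y' ⤳ y → y' = y

lemma genMax_of_mem_irreducibleComponents {Y : Type*} [TopologicalSpace Y] [T0Space Y] (y : Y)
    (hy : closure {y} ∈ irreducibleComponents Y) : GenMax y := by
  intro y' h
  have h1 : closure {y} ⊆ closure {y'} := h.closure_subset
  have h2 : IsIrreducible (closure ({y'} : Set Y)) := isIrreducible_singleton.closure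
  have h3 : closure {y'} ⊆ closure {y} := hy.2 h2 h1
  have h4 : y ⤳ y' := by
    rw [specializes_iff_mem_closure]
    exact h3 (subset_closure rfl)
  exact (h.antisymm h4).eq

lemma exists_generic_of_mem {X : Type*} [TopologicalSpace X] [QuasiSober X] (x' : X) :
    ∃ x : X, closure {x} ∈ irreducibleComponents X ∧ x ⤳ x' := by
  have hZ := irreducibleComponent_mem_irreducibleComponents x'
  obtain ⟨x, hx⟩ := QuasiSober.sober hZ.1 (isClosed_of_mem_irreducibleComponents _ hZ)
  refine ⟨x, ?_, ?_⟩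
  · rw [hx.def]; exact hZ
  · exact hx.specializes mem_irreducibleComponent

variable {X Y : Scheme.{u}} (f : X ⟶ Y)

lemma exists_of_mem_closure_image {U : X.Opens} (hU : IsAffineOpen U) {V : Y.Opens}
    (hV : IsAffineOpen V) (e : U ≤ f ⁻¹ᵁ V) (y : Y) (hyV : y ∈ V)
    (hy : y ∈ closure (f '' (U : Set X))) (hmax : GenMax y) : ∃ x ∈ U, f x = y := by
  let φ := f.appLE V U e
  let j := hV.fromSpec
  let k := hU.fromSpec
  let s := Spec.map φ
  have hcomm : s ≫ j = k ≫ f := IsAffineOpen.SpecMap_appLE_fromSpec f hV hU e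
  have hcomm' : ∀ q, j (s q) = f (k q) := by
    intro q
    have e1 : j (s q) = (s ≫ j) q := rfl
    have e2 : f (k q) = (k ≫ f) q := rfl
    rw [e1, e2, hcomm]
  have hjinj : Function.Injective j := j.isOpenEmbedding.injective
  have hrj : Set.range j = (V : Set Y) := hV.range_fromSpec
  have hrk : Set.range k = (U : Set X) := hU.range_fromSpec
  obtain ⟨p, hp⟩ : y ∈ Set.range j := by rw [hrj]; exact hyV
  have hpre : j ⁻¹' (f '' (U : Set X)) = Set.range s := by
    ext p'
    constructor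
    · rintro ⟨x, hx, hxp⟩
      obtain ⟨q, rfl⟩ : x ∈ Set.range k := by rw [hrk]; exact hx
      refine ⟨q, hjinj ?_⟩
      rw [hcomm' q, hxp]
    · rintro ⟨q, rfl⟩
      refine ⟨k q, ?_, (hcomm' q).symm⟩
      rw [← hrk]; exact ⟨q, rfl⟩
  have hpcl : p ∈ closure (Set.range s) := by
    have h1 : p ∈ j ⁻¹' closure (f '' (U : Set X)) := by
      rw [Set.mem_preimage, hp]; exact hy
    rw [j.isOpenEmbedding.isOpenMap.preimage_closure_eq_closure_preimage j.continuous,
      hpre] at h1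
    exact h1
  have hpcl' : p ∈ PrimeSpectrum.zeroLocus (RingHom.ker φ.hom : Set _) := by
    have : closure (Set.range s) = PrimeSpectrum.zeroLocus (RingHom.ker φ.hom : Set _) :=
      PrimeSpectrum.closure_range_comap φ.hom
    rw [← this]; exact hpcl
  have hker : RingHom.ker φ.hom ≤ p.asIdeal := hpcl'
  have hmin : p.asIdeal ∈ ((⊥ : Ideal _).comap φ.hom).minimalPrimes := by
    refine ⟨⟨p.isPrime, hker⟩, ?_⟩
    rintro q ⟨hqprime, _⟩ hqp
    let q' : ↥(Spec Γ(Y, V)) := (⟨q, hqprime⟩ : PrimeSpectrum _)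
    have hsp : q' ⤳ p :=
      (PrimeSpectrum.le_iff_specializes (⟨q, hqprime⟩ : PrimeSpectrum _) p).mp hqp
    have h1 : j q' ⤳ j p := hsp.map j.continuous
    rw [hp] at h1
    have h2 := hmax _ h1
    have h3 : q' = p := hjinj (h2.trans hp.symm)
    have h4 : p.asIdeal = q := by rw [← h3]
    rw [h4]
  obtain ⟨q, hq, -, hqp⟩ := Ideal.exists_comap_eq_of_mem_minimalPrimes φ.hom p.asIdeal hmin
  let q' : ↥(Spec Γ(X, U)) := (⟨q, hq⟩ : PrimeSpectrum _)
  refine ⟨k q', ?_, ?_⟩
  · rw [← SetLike.mem_coe, ← hrk]; exact ⟨_, rfl⟩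
  · have h5 : s q' = p := PrimeSpectrum.ext hqp
    rw [← hcomm' q', h5, hp]

lemma mem_range_of_genMax [QuasiCompact f] [IsDominant f] (y : Y) (hmax : GenMax y) :
    y ∈ Set.range f := by
  obtain ⟨_, ⟨V, hV, rfl⟩, hyV, -⟩ :=
    Y.isBasis_affineOpens.exists_subset_of_mem_open (Set.mem_univ y) isOpen_univ
  have hc : IsCompact (X := X) (f ⁻¹ᵁ V) := f.isCompact_preimage hV.isCompact
  obtain ⟨S, hSfin, hS⟩ := isCompact_iff_finite_and_eq_biUnion_affineOpens.mp hc
  have hy1 : y ∈ closure (Set.range f ∩ V) := by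
    apply V.isOpen.closure_inter
    exact ⟨f.denseRange y, hyV⟩
  have heq : Set.range f ∩ V = ⋃ i ∈ S, f '' ((i : X.Opens) : Set X) := by
    ext t
    simp only [Set.mem_inter_iff, Set.mem_range, SetLike.mem_coe, Set.mem_iUnion, Set.mem_image,
      exists_prop]
    constructor
    · rintro ⟨⟨x, rfl⟩, hxV⟩
      have hx : x ∈ f ⁻¹ᵁ V := hxV
      rw [hS] at hx
      simp only [TopologicalSpace.Opens.mem_iSup, exists_prop] at hx
      obtain ⟨i, hi, hxi⟩ := hx
      exact ⟨i, hi, x, hxi, rfl⟩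
    · rintro ⟨i, hi, x, hxi, rfl⟩
      refine ⟨⟨x, rfl⟩, ?_⟩
      have hx : x ∈ f ⁻¹ᵁ V := by
        rw [hS]
        simp only [TopologicalSpace.Opens.mem_iSup, exists_prop]
        exact ⟨i, hi, hxi⟩
      exact hx
  rw [heq, hSfin.closure_biUnion] at hy1
  simp only [Set.mem_iUnion, exists_prop] at hy1
  obtain ⟨i, hi, hyi⟩ := hy1
  have hle : (i : X.Opens) ≤ f ⁻¹ᵁ V := by
    rw [hS]
    exact le_iSup₂ (f := fun (i : X.affineOpens) (_ : i ∈ S) => (i : X.Opens)) i hi
  obtain ⟨x, -, hx⟩ := exists_of_mem_closure_image f i.2 hV hle y hyV hyi hmax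
  exact ⟨x, hx⟩

theorem isDominant_iff [QuasiCompact f] :
    IsDominant f ↔ ∀ y : Y, closure {y} ∈ irreducibleComponents (Y : Type u) →
      ∃ x : X, closure {x} ∈ irreducibleComponents (X : Type u) ∧ f x = y := by
  constructor
  · intro hf y hy
    have hmax := genMax_of_mem_irreducibleComponents y hy
    obtain ⟨x', hx'⟩ := mem_range_of_genMax f y hmax
    obtain ⟨x, hx, hxx'⟩ := exists_generic_of_mem x'
    refine ⟨x, hx, ?_⟩
    apply hmax
    rw [← hx']
    exact hxx'.map f.continuous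
  · intro H
    constructor
    intro y'
    obtain ⟨y, hy, hyy'⟩ := exists_generic_of_mem y'
    obtain ⟨x, -, hx⟩ := H y hy
    have h1 : y ∈ closure (Set.range f) := subset_closure ⟨x, hx⟩
    exact hyy'.mem_closed isClosed_closure h1

end Groth.Agent.Helper1.DomGen
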