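import Mathlib
import Groth.Agent.Lib.Helper1.TorL
universe u v
open CategoryTheory Limits

namespace Groth.Agent.Helper1.TorBal

section Trunc
variable {C : Type u} [Category.{v} C] [Abelian C] {Z : C} (P : ProjectiveResolution Z)

/-- the first syzygy -/
noncomputable def syz : C := kernel (P.π.f 0)

noncomputable def syzι : syz P ⟶ P.complex.X 0 := kernel.ι (P.π.f 0)

instance : Mono (syzι P) := by
  unfold syzι
  exact equalizer.ι_mono

theorem syzι_π : syzι P ≫ P.π.f 0 = 0 := kernel.condition _

noncomputable def dLift : P.complex.X 1 ⟶ syz P :=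
  kernel.lift (P.π.f 0) (P.complex.d 1 0) P.complex_d_comp_π_f_zero

@[reassoc]
theorem dLift_ι : dLift P ≫ syzι P = P.complex.d 1 0 := kernel.lift_ι _ _ _

theorem d_dLift : P.complex.d 2 1 ≫ dLift P = 0 := by
  rw [← cancel_mono (syzι P), Category.assoc, dLift_ι, zero_comp, P.complex.d_comp_d]

instance epi_dLift : Epi (dLift P) :=
  (ShortComplex.exact_iff_epi_kernel_lift _).mp P.exact₀

theorem exact_d_dLift : (ShortComplex.mk (P.complex.d 2 1) (dLift P) (d_dLift P)).Exact := by
  let φ : ShortComplex.mk (P.complex.d 2 1) (dLift P) (d_dLift P) ⟶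
      ShortComplex.mk _ _ (P.complex.d_comp_d 2 1 0) :=
    { τ₁ := 𝟙 _, τ₂ := 𝟙 _, τ₃ := syzι P
      comm₁₂ := by simp
      comm₂₃ := by simp [dLift_ι] }
  have : Epi φ.τ₁ := by dsimp [φ]; infer_instance
  have : IsIso φ.τ₂ := by dsimp [φ]; infer_instance
  have : Mono φ.τ₃ := by dsimp [φ]; infer_instance
  exact (ShortComplex.exact_iff_of_epi_of_isIso_of_mono φ).mpr (P.exact_succ 0)

/-- the short exact sequence `0 → syz → P₀ → Z → 0` -/
noncomputable def syzSC : ShortComplex C := ShortComplex.mk (syzι P) (P.π.f 0) (syzι_π P)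

theorem syzSC_shortExact : (syzSC P).ShortExact where
  exact := ShortComplex.exact_of_f_is_kernel _ (kernelIsKernel (P.π.f 0))
  mono_f := by unfold syzSC; infer_instance
  epi_g := by unfold syzSC; infer_instance

theorem truncate_d_dLift :
    (ChainComplex.truncate.obj P.complex).d 1 0 ≫
      (show (ChainComplex.truncate.obj P.complex).X 0 ⟶ syz P from dLift P) = 0 :=
  d_dLift P

/-- the truncated resolution of the syzygy -/
noncomputable def truncRes : ProjectiveResolution (syz P) where
  complex := ChainComplex.truncate.obj P.complex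
  projective n := P.projective (n + 1)
  hasHomology := fun _ => inferInstance
  π := (ChainComplex.toSingle₀Equiv _ _).symm
    ⟨(show (ChainComplex.truncate.obj P.complex).X 0 ⟶ syz P from dLift P), truncate_d_dLift P⟩
  quasiIso := ⟨fun n => by
    cases n with
    | zero =>
      rw [ChainComplex.quasiIsoAt₀_iff, ShortComplex.quasiIso_iff_of_zeros']
      · dsimp
        refine (ShortComplex.exact_and_epi_g_iff_of_iso ?_).2
          ⟨exact_d_dLift P, epi_dLift P⟩
        exact ShortComplex.isoMk (Iso.refl _) (Iso.refl _) (Iso.refl _)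
          (by erw [Category.id_comp, Category.comp_id]; rfl)
          (by
            erw [Category.id_comp, Category.comp_id]
            exact (ChainComplex.toSingle₀Equiv_symm_apply_f_zero
              (C := ChainComplex.truncate.obj P.complex) (dLift P) (truncate_d_dLift P)).symm)
      · exact P.complex.shape _ _ (by simp)
      all_goals rfl
    | succ n =>
      rw [quasiIsoAt_iff_exactAt']
      · rw [HomologicalComplex.exactAt_iff' _ (n + 1 + 1) (n + 1) n (by simp) (by simp)]
        exact P.exact_succ (n + 1)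
      · apply ChainComplex.exactAt_succ_single_obj⟩

end Trunc
end Groth.Agent.Helper1.TorBal

namespace Groth.Agent.Helper1.TorBal
section Shift
variable {V : Type u} [Category.{v} V] [Abelian V]

/-- homology of the truncation is shifted homology -/
noncomputable def truncHomologyIso (D : ChainComplex V ℕ) (n : ℕ) :
    (ChainComplex.truncate.obj D).homology (n + 1) ≅ D.homology (n + 2) :=
  ShortComplex.homologyMapIso
    ((ChainComplex.truncate.obj D).isoSc' (n + 2) (n + 1) n (by simp) (by simp)) ≪≫
  (show ((ChainComplex.truncate.obj D).sc' (n + 2) (n + 1) n).homology ≅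
    (D.sc' (n + 3) (n + 2) (n + 1)).homology from Iso.refl _) ≪≫
  (ShortComplex.homologyMapIso (D.isoSc' (n + 3) (n + 2) (n + 1) (by simp) (by simp))).symm

end Shift
end Groth.Agent.Helper1.TorBal

namespace Groth.Agent.Helper1.TorBal
open Groth.Agent.Helper1.TorL MonoidalCategory
section Mod
variable {A : Type u} [CommRing A] (N : ModuleCat.{u} A)

/-- `H_n(C ⊗ N)` -/
noncomputable abbrev HK (C : ChainComplex (ModuleCat.{u} A) ℕ) (n : ℕ) : ModuleCat.{u} A :=
  (((tensorRight N).mapHomologicalComplex (ComplexShape.down ℕ)).obj C).homology n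

/-- degree 0 -/
noncomputable def iso0 {M : ModuleCat.{u} A} (P : ProjectiveResolution M) :
    T 0 M N ≅ HK N P.complex 0 :=
  tor0Iso M N ≪≫ ((tensorRight N).leftDerivedZeroIsoSelf.app M).symm ≪≫
    P.isoLeftDerivedObj (tensorRight N) 0

/-- shifting step -/
noncomputable def isoShift {M : ModuleCat.{u} A} (P : ProjectiveResolution M) (n : ℕ) :
    HK N (truncRes P).complex (n + 1) ≅ HK N P.complex (n + 2) :=
  truncHomologyIso (((tensorRight N).mapHomologicalComplex (ComplexShape.down ℕ)).obj P.complex) n

theorem flat_X₂ {M : ModuleCat.{u} A} (P : ProjectiveResolution M) :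
    Module.Flat A (syzSC P).X₂ := by
  have : Projective (syzSC P).X₂ := P.projective 0
  exact flat_of_projective _

/-- dimension shifting on the Tor side -/
noncomputable def torShift {M : ModuleCat.{u} A} (P : ProjectiveResolution M) (n : ℕ) :
    T (n + 2) M N ≅ T (n + 1) (syz P) N :=
  have := flat_X₂ P
  torShiftIso (syzSC P) (syzSC_shortExact P) N (n + 1)
    (isZero_tor_succ_of_flat _ _ _) (isZero_tor_succ_of_flat _ _ _)

/-- Tor side of degree one -/
noncomputable def torOne {M : ModuleCat.{u} A} (P : ProjectiveResolution M) :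
    T 1 M N ≅ kernel (syzι P ▷ N) := by
  have := flat_X₂ P
  have hS := syzSC_shortExact P
  have hF : IsZero (T 1 (syzSC P).X₂ N) := isZero_tor_succ_of_flat _ _ 0
  have hm : Mono (torδ (syzSC P) hS N 0) :=
    (tor_exact₃ (syzSC P) hS N 0).mono_g (hF.eq_of_src _ _)
  have hex := tor_exact₁ (syzSC P) hS N 0
  have hlim : IsLimit (KernelFork.ofι (torδ (syzSC P) hS N 0) (tor_δ_comp (syzSC P) hS N 0)) :=
    @ShortComplex.Exact.fIsKernel _ _ _ _ _ hex hm
  exact IsLimit.conePointUniqueUpToIso hlim (kernelIsKernel _) ≪≫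
    kernel.mapIso _ _ (tor0Iso (syzSC P).X₁ N) (tor0Iso (syzSC P).X₂ N)
      (tor0Iso_naturality (syzSC P).f N)

/-- the tensored short complex `P₂ ⊗ N → P₁ ⊗ N → syz ⊗ N` -/
noncomputable def tensSC₀ {M : ModuleCat.{u} A} (P : ProjectiveResolution M) :
    ShortComplex (ModuleCat.{u} A) :=
  ShortComplex.mk ((tensorRight N).map (P.complex.d 2 1)) ((tensorRight N).map (dLift P))
    (by rw [← Functor.map_comp, d_dLift, Functor.map_zero])

theorem surjective_dLift {M : ModuleCat.{u} A} (P : ProjectiveResolution M) :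
    Function.Surjective (dLift P).hom :=
  (ModuleCat.epi_iff_surjective _).mp (epi_dLift P)

theorem tensSC₀_exact {M : ModuleCat.{u} A} (P : ProjectiveResolution M) :
    (tensSC₀ N P).Exact := by
  have h1 := (ShortComplex.ShortExact.moduleCat_exact_iff_function_exact _).mp (exact_d_dLift P)
  exact (ShortComplex.ShortExact.moduleCat_exact_iff_function_exact _).mpr
    (rTensor_exact N h1 (surjective_dLift P))

instance {M : ModuleCat.{u} A} (P : ProjectiveResolution M) : Epi (tensSC₀ N P).g :=
  (ModuleCat.epi_iff_surjective _).mpr (LinearMap.rTensor_surjective N (surjective_dLift P))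

/-- the degree one short complex of `P ⊗ N` -/
noncomputable def tensSC₁ {M : ModuleCat.{u} A} (P : ProjectiveResolution M) :
    ShortComplex (ModuleCat.{u} A) :=
  ShortComplex.mk ((tensorRight N).map (P.complex.d 2 1)) ((tensorRight N).map (P.complex.d 1 0))
    (by rw [← Functor.map_comp, P.complex.d_comp_d, Functor.map_zero])

set_option synthInstance.maxHeartbeats 400000 in
/-- homology side of degree one -/
noncomputable def homOne {M : ModuleCat.{u} A} (P : ProjectiveResolution M) :
    HK N P.complex 1 ≅ kernel (syzι P ▷ N) := by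
  let D := ((tensorRight N).mapHomologicalComplex (ComplexShape.down ℕ)).obj P.complex
  have hp : IsColimit (CokernelCofork.ofπ (tensSC₀ N P).g (tensSC₀ N P).zero) :=
    (tensSC₀_exact N P).gIsCokernel
  have hg' : hp.desc (CokernelCofork.ofπ (tensSC₁ N P).g (tensSC₁ N P).zero) = syzι P ▷ N := by
    apply Cofork.IsColimit.hom_ext hp
    refine (Cofork.IsColimit.π_desc hp).trans ?_
    show (tensorRight N).map (P.complex.d 1 0) = (tensorRight N).map (dLift P) ≫
      (tensorRight N).map (syzι P)
    rw [← Functor.map_comp, dLift_ι]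
  let h : (tensSC₁ N P).RightHomologyData :=
    { Q := (tensSC₀ N P).X₃
      H := kernel (hp.desc (CokernelCofork.ofπ (tensSC₁ N P).g (tensSC₁ N P).zero))
      p := (tensSC₀ N P).g
      ι := kernel.ι _
      wp := (tensSC₀ N P).zero
      hp := hp
      wι := kernel.condition _
      hι := kernelIsKernel _ }
  have e1 : HK N P.complex 1 ≅ (tensSC₁ N P).homology :=
    ShortComplex.homologyMapIso (D.isoSc' 2 1 0 (by simp) (by simp))
  exact e1 ≪≫ h.homologyIso ≪≫
    kernel.mapIso _ _ (Iso.refl _) (Iso.refl _) (by rw [hg']; erw [Category.comp_id])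

/-- degree one -/
noncomputable def iso1 {M : ModuleCat.{u} A} (P : ProjectiveResolution M) :
    T 1 M N ≅ HK N P.complex 1 :=
  torOne N P ≪≫ (homOne N P).symm

/-- **Balancing of Tor** (objectwise): `Tor_n(M, N) ≅ H_n(P ⊗ N)` for any projective
resolution `P` of `M`. -/
theorem balance (n : ℕ) : ∀ {M : ModuleCat.{u} A} (P : ProjectiveResolution M),
    Nonempty (T n M N ≅ HK N P.complex n) := by
  induction n using Nat.strong_induction_on with
  | _ n ih =>
    intro M P
    match n, ih with
    | 0, _ => exact ⟨iso0 N P⟩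
    | 1, _ => exact ⟨iso1 N P⟩
    | (n + 2), ih =>
      obtain ⟨e⟩ := ih (n + 1) (by omega) (truncRes P)
      exact ⟨torShift N P n ≪≫ e ≪≫ isoShift N P n⟩

end Mod
end Groth.Agent.Helper1.TorBal

namespace Groth.Agent.Helper1.TorBal
open Groth.Agent.Helper1.TorL MonoidalCategory
section Symm
variable {A : Type u} [CommRing A]

/-- objectwise symmetry of Tor -/
theorem torSymm (n : ℕ) (M N : ModuleCat.{u} A) : Nonempty (T n M N ≅ T n N M) := by
  let P := projectiveResolution M
  obtain ⟨e⟩ := balance N n P
  let β : tensorRight N ≅ tensorLeft N := (BraidedCategory.tensorLeftIsoTensorRight N).symm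
  let γ := (NatIso.mapHomologicalComplex β (ComplexShape.down ℕ)).app P.complex
  exact ⟨e ≪≫ (HomologicalComplex.homologyFunctor _ _ n).mapIso γ ≪≫ (torIso N P n).symm⟩

theorem isZero_tor_symm (n : ℕ) (M N : ModuleCat.{u} A) :
    IsZero (T n M N) ↔ IsZero (T n N M) := by
  obtain ⟨e⟩ := torSymm n M N
  exact ⟨fun h => IsZero.of_iso h e.symm, fun h => IsZero.of_iso h e⟩

end Symm
end Groth.Agent.Helper1.TorBal
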