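import Groth.Agent.Lib.Helper1.TorL
import Groth.Agent.Lib.Helper1.TorBal

universe u
open TensorProduct CategoryTheory Limits

namespace Groth.Agent.Helper1.SqZeroDef

open Groth.Agent.Helper1.TorL Groth.Agent.Helper1.TorBal

section crit
variable {R : Type u} [CommRing R]

/-- an `R`-linear equivalence between `R ⧸ J`-modules is `R ⧸ J`-linear -/
def extendEquiv (J : Ideal R) {M N : Type*} [AddCommGroup M] [Module R M] [Module (R ⧸ J) M]
    [IsScalarTower R (R ⧸ J) M] [AddCommGroup N] [Module R N] [Module (R ⧸ J) N]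
    [IsScalarTower R (R ⧸ J) N] (e : M ≃ₗ[R] N) : M ≃ₗ[R ⧸ J] N :=
  { e with
    map_smul' := by
      intro c x
      obtain ⟨r, rfl⟩ := Ideal.Quotient.mk_surjective c
      have h1 : (Ideal.Quotient.mk J r) • x = r • x := algebraMap_smul (R ⧸ J) r x
      have h2 : (Ideal.Quotient.mk J r) • e x = r • e x := algebraMap_smul (R ⧸ J) r (e x)
      simp only [AddHom.toFun_eq_coe, LinearMap.coe_toAddHom, LinearEquiv.coe_coe, RingHom.id_apply]
      rw [h1, h2, map_smul] }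

/-- flatness criterion for a nilpotent ideal -/
theorem flat_of_nilpotent (J : Ideal R) (m : ℕ) (hJ : J ^ m = ⊥) (M : Type u) [AddCommGroup M]
    [Module R M] [Module.Flat (R ⧸ J) ((R ⧸ J) ⊗[R] M)]
    (hinj : Function.Injective (J.subtype.lTensor M)) : Module.Flat R M := by
  have hT : IsZero (T 1 (ModuleCat.of R (R ⧸ J)) (ModuleCat.of R M)) := by
    rw [isZero_tor_symm, isZero_tor_one_quotient_iff]; exact hinj
  rw [flat_iff_tor_one_quotient]
  intro 𝔞 _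
  rw [isZero_tor_symm]
  refine isZero_tor_one_of_pow_smul_eq_zero J M hT m (R ⧸ 𝔞) ?_
  intro a ha x
  rw [hJ] at ha; rw [(Submodule.mem_bot R).mp ha, zero_smul]

/-- variant with an explicit model of `M / JM` -/
theorem flat_of_nilpotent' (J : Ideal R) (m : ℕ) (hJ : J ^ m = ⊥) (M : Type u) [AddCommGroup M]
    [Module R M] (Q : Type u) [AddCommGroup Q] [Module R Q] [Module (R ⧸ J) Q]
    [IsScalarTower R (R ⧸ J) Q] [Module.Flat (R ⧸ J) Q] (g : M →ₗ[R] Q)
    (hg : Function.Surjective g) (hker : LinearMap.ker g = J • (⊤ : Submodule R M))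
    (hinj : Function.Injective (J.subtype.lTensor M)) : Module.Flat R M := by
  let e : ((R ⧸ J) ⊗[R] M) ≃ₗ[R] Q :=
    TensorProduct.quotTensorEquivQuotSMul M J ≪≫ₗ Submodule.quotEquivOfEq _ _ hker.symm ≪≫ₗ
      g.quotKerEquivOfSurjective hg
  have : Module.Flat (R ⧸ J) ((R ⧸ J) ⊗[R] M) := Module.Flat.of_linearEquiv (extendEquiv J e)
  exact flat_of_nilpotent J m hJ M hinj

end crit

section setup
variable {R : Type u} [CommRing R] (J : Ideal R) (S : Type u) [CommRing S] [Algebra R S]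

/-- `K = JS` -/
abbrev K : Ideal S := J.map (algebraMap R S)

/-- multiplication `S ⊗ J → S` -/
noncomputable def μ : S ⊗[R] J →ₗ[R] S :=
  (TensorProduct.rid R S).toLinearMap ∘ₗ (J.subtype.lTensor S)

lemma μ_tmul (s : S) (j : J) : μ J S (s ⊗ₜ j) = (j : R) • s := by
  simp [μ]

lemma μ_smul (b : S) (z : S ⊗[R] J) : μ J S (b • z) = b * μ J S z := by
  induction z using TensorProduct.induction_on with
  | zero => simp
  | tmul s j => rw [TensorProduct.smul_tmul', μ_tmul, μ_tmul, smul_eq_mul, mul_smul_comm]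
  | add x y hx hy => rw [smul_add, map_add, map_add, hx, hy, mul_add]

lemma μ_injective [Module.Flat R S] : Function.Injective (μ J S) := by
  have := Module.Flat.lTensor_preserves_injective_linearMap (M := S) J.subtype J.injective_subtype
  exact (TensorProduct.rid R S).injective.comp this

lemma μ_mem (z : S ⊗[R] J) : μ J S z ∈ K J S := by
  induction z using TensorProduct.induction_on with
  | zero => simp
  | tmul s j =>
    rw [μ_tmul, Algebra.smul_def]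
    exact Ideal.mul_mem_right _ _ (Ideal.mem_map_of_mem _ j.2)
  | add x y hx hy => rw [map_add]; exact Ideal.add_mem _ hx hy

lemma exists_μ_eq {w : S} (hw : w ∈ K J S) : ∃ z, μ J S z = w := by
  induction hw using Submodule.span_induction with
  | mem x hx =>
    obtain ⟨j, hj, rfl⟩ := hx
    exact ⟨(1 : S) ⊗ₜ ⟨j, hj⟩, by rw [μ_tmul, Algebra.smul_def, mul_one]⟩
  | zero => exact ⟨0, map_zero _⟩
  | add x y _ _ hx hy =>
    obtain ⟨a, rfl⟩ := hx; obtain ⟨b, rfl⟩ := hy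
    exact ⟨a + b, map_add _ _ _⟩
  | smul c x _ hx =>
    obtain ⟨a, rfl⟩ := hx
    exact ⟨c • a, by rw [μ_smul, smul_eq_mul]⟩

lemma smul_K_eq_zero (hJ : J * J = ⊥) (j : J) {u : S} (hu : u ∈ K J S) : (j : R) • u = 0 := by
  obtain ⟨z, rfl⟩ := exists_μ_eq J S hu
  clear hu
  induction z using TensorProduct.induction_on with
  | zero => simp
  | tmul s j' =>
    rw [μ_tmul, smul_smul]
    have : (j : R) * (j' : R) = 0 := by
      have := Ideal.mul_mem_mul j.2 j'.2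
      rw [hJ] at this
      exact this
    rw [this, zero_smul]
  | add x y hx hy => rw [map_add, smul_add, hx, hy, add_zero]

variable (I : Ideal (S ⧸ K J S))

/-- the projection `S → (S ⧸ K) ⧸ I` as a linear map -/
noncomputable abbrev πL : S →ₗ[R] (S ⧸ K J S) ⧸ I :=
  (IsScalarTower.toAlgHom R S ((S ⧸ K J S) ⧸ I)).toLinearMap

lemma πL_apply (s : S) : πL J S I s = Ideal.Quotient.mk I (Ideal.Quotient.mk (K J S) s) := rfl

lemma πL_eq_zero_iff (s : S) : πL J S I s = 0 ↔ Ideal.Quotient.mk (K J S) s ∈ I := by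
  rw [πL_apply]; exact Ideal.Quotient.eq_zero_iff_mem

lemma πL_surjective : Function.Surjective (πL J S I) := by
  intro q
  obtain ⟨b, rfl⟩ := Ideal.Quotient.mk_surjective q
  obtain ⟨s, rfl⟩ := Ideal.Quotient.mk_surjective b
  exact ⟨s, rfl⟩

/-- `π ⊗ 1` -/
noncomputable abbrev πt : S ⊗[R] J →ₗ[R] ((S ⧸ K J S) ⧸ I) ⊗[R] J := (πL J S I).rTensor J

lemma πt_smul (b : S) (z : S ⊗[R] J) : πt J S I (b • z) = b • πt J S I z := by
  induction z using TensorProduct.induction_on with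
  | zero => simp
  | tmul s j =>
    rw [TensorProduct.smul_tmul', LinearMap.rTensor_tmul, LinearMap.rTensor_tmul,
      TensorProduct.smul_tmul']
    congr 1
  | add x y hx hy => rw [smul_add, map_add, map_add, hx, hy, smul_add]

/-- inclusion `I₁ ⊗ J → S ⊗ J` -/
noncomputable abbrev incl (I₁ : Ideal S) : I₁ ⊗[R] J →ₗ[R] S ⊗[R] J :=
  (I₁.subtype.restrictScalars R).rTensor J

lemma L3 (I₁ : Ideal S) [Module.Flat R S] [Module.Flat R (S ⧸ I₁)] {w : S} (hw : w ∈ I₁)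
    (hwK : w ∈ K J S) : ∃ t : I₁ ⊗[R] J, μ J S (incl J S I₁ t) = w := by
  obtain ⟨z0, rfl⟩ := exists_μ_eq J S hwK
  let mkL : S →ₗ[R] S ⧸ I₁ := (Ideal.Quotient.mkₐ R I₁).toLinearMap
  have hex : Function.Exact (I₁.subtype.restrictScalars R) mkL := by
    intro s
    constructor
    · intro hs
      exact ⟨⟨s, Ideal.Quotient.eq_zero_iff_mem.mp hs⟩, rfl⟩
    · rintro ⟨y, rfl⟩
      exact Ideal.Quotient.eq_zero_iff_mem.mpr y.2
  have hsurj : Function.Surjective mkL := Ideal.Quotient.mk_surjective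
  have hex' := rTensor_exact J hex hsurj
  let ν : (S ⧸ I₁) ⊗[R] J →ₗ[R] S ⧸ I₁ :=
    (TensorProduct.rid R (S ⧸ I₁)).toLinearMap ∘ₗ (J.subtype.lTensor (S ⧸ I₁))
  have hν : Function.Injective ν :=
    (TensorProduct.rid R (S ⧸ I₁)).injective.comp
      (Module.Flat.lTensor_preserves_injective_linearMap (M := S ⧸ I₁) J.subtype
        J.injective_subtype)
  have hcomm : ∀ z, ν (mkL.rTensor J z) = mkL (μ J S z) := by
    intro z
    induction z using TensorProduct.induction_on with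
    | zero => simp
    | tmul s j => simp [ν, μ_tmul]
    | add x y hx hy => simp only [map_add, hx, hy]
  have h0 : mkL.rTensor J z0 = 0 := by
    apply hν
    rw [hcomm, map_zero]
    exact Ideal.Quotient.eq_zero_iff_mem.mpr hw
  obtain ⟨t, ht⟩ := (hex' z0).mp h0
  exact ⟨t, by rw [ht]⟩

lemma L4 (I₁ : Ideal S) (hI₁ : ∀ y ∈ I₁, πL J S I y = 0) (t : I₁ ⊗[R] J) :
    πt J S I (incl J S I₁ t) = 0 := by
  rw [← LinearMap.comp_apply, ← LinearMap.rTensor_comp]
  have : πL J S I ∘ₗ I₁.subtype.restrictScalars R = 0 := by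
    ext y; exact hI₁ y.1 y.2
  rw [this, LinearMap.rTensor_zero, LinearMap.zero_apply]

lemma L6 (hJ : J * J = ⊥) (I₁ : Ideal S)
    (hI₁ : ∀ s, πL J S I s = 0 → ∃ y ∈ I₁, s - y ∈ K J S) {z : S ⊗[R] J}
    (hz : πt J S I z = 0) : ∃ t : I₁ ⊗[R] J, μ J S (incl J S I₁ t) = μ J S z := by
  have hex := rTensor_exact J (LinearMap.exact_subtype_ker_map (πL J S I)) (πL_surjective J S I)
  obtain ⟨t, rfl⟩ := (hex z).mp hz
  clear hz
  induction t using TensorProduct.induction_on with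
  | zero => exact ⟨0, by simp⟩
  | tmul p j =>
    obtain ⟨y, hy, hpy⟩ := hI₁ p.1 p.2
    refine ⟨⟨y, hy⟩ ⊗ₜ j, ?_⟩
    rw [LinearMap.rTensor_tmul, LinearMap.rTensor_tmul, μ_tmul, μ_tmul]
    have := smul_K_eq_zero J S hJ j hpy
    rw [smul_sub, sub_eq_zero] at this
    exact this.symm
  | add x y hx hy =>
    obtain ⟨a, ha⟩ := hx; obtain ⟨b, hb⟩ := hy
    exact ⟨a + b, by simp only [map_add, ha, hb]⟩

end setup

section claim1
variable {R : Type u} [CommRing R] (J : Ideal R) (S : Type u) [CommRing S]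
  [Algebra R S] (I : Ideal (S ⧸ K J S)) (I' I'' : Ideal S)

/-- the defining relation of the difference map -/
def Rel (x : S ⧸ K J S) (w : ((S ⧸ K J S) ⧸ I) ⊗[R] J) : Prop :=
  ∃ x' ∈ I', ∃ x'' ∈ I'', Ideal.Quotient.mk (K J S) x' = x ∧ Ideal.Quotient.mk (K J S) x'' = x ∧
    ∃ z : S ⊗[R] J, μ J S z = x'' - x' ∧ πt J S I z = w

variable {J S I I' I''}

lemma mk_mem_of_mem {I₁ : Ideal S} (h : I₁.map (Ideal.Quotient.mk (K J S)) = I) {y : S}
    (hy : y ∈ I₁) : Ideal.Quotient.mk (K J S) y ∈ I := h ▸ Ideal.mem_map_of_mem _ hy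

lemma exists_lift {I₁ : Ideal S} (h : I₁.map (Ideal.Quotient.mk (K J S)) = I)
    {x : S ⧸ K J S} (hx : x ∈ I) : ∃ y ∈ I₁, Ideal.Quotient.mk (K J S) y = x := by
  rw [← h] at hx
  exact (Ideal.mem_map_iff_of_surjective _ Ideal.Quotient.mk_surjective).mp hx

lemma πL_eq_zero_of_mem {I₁ : Ideal S} (h : I₁.map (Ideal.Quotient.mk (K J S)) = I) :
    ∀ y ∈ I₁, πL J S I y = 0 := fun _ hy => (πL_eq_zero_iff J S I _).mpr (mk_mem_of_mem h hy)

lemma exists_sub_mem {I₁ : Ideal S} (h : I₁.map (Ideal.Quotient.mk (K J S)) = I) :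
    ∀ s, πL J S I s = 0 → ∃ y ∈ I₁, s - y ∈ K J S := by
  intro s hs
  obtain ⟨y, hy, hys⟩ := exists_lift h ((πL_eq_zero_iff J S I s).mp hs)
  refine ⟨y, hy, ?_⟩
  rw [← Ideal.Quotient.eq_zero_iff_mem, map_sub, hys, sub_self]

variable (hI' : I'.map (Ideal.Quotient.mk (K J S)) = I)
  (hI'' : I''.map (Ideal.Quotient.mk (K J S)) = I)

include hI' hI'' in
lemma rel_exists {x : S ⧸ K J S} (hx : x ∈ I) : ∃ w, Rel J S I I' I'' x w := by
  obtain ⟨x', hx', h1⟩ := exists_lift hI' hx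
  obtain ⟨x'', hx'', h2⟩ := exists_lift hI'' hx
  have : x'' - x' ∈ K J S := by
    rw [← Ideal.Quotient.eq_zero_iff_mem, map_sub, h1, h2, sub_self]
  obtain ⟨z, hz⟩ := exists_μ_eq J S this
  exact ⟨_, x', hx', x'', hx'', h1, h2, z, hz, rfl⟩

include hI' hI'' in
lemma rel_unique [Module.Flat R S] [Module.Flat R (S ⧸ I')] [Module.Flat R (S ⧸ I'')]
    {x : S ⧸ K J S} {w₁ w₂ : ((S ⧸ K J S) ⧸ I) ⊗[R] J}
    (h₁ : Rel J S I I' I'' x w₁) (h₂ : Rel J S I I' I'' x w₂) : w₁ = w₂ := by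
  obtain ⟨x'₁, hx'₁, x''₁, hx''₁, e'₁, e''₁, z₁, hz₁, rfl⟩ := h₁
  obtain ⟨x'₂, hx'₂, x''₂, hx''₂, e'₂, e''₂, z₂, hz₂, rfl⟩ := h₂
  have hd' : x'₁ - x'₂ ∈ K J S := by
    rw [← Ideal.Quotient.eq_zero_iff_mem, map_sub, e'₁, e'₂, sub_self]
  have hd'' : x''₁ - x''₂ ∈ K J S := by
    rw [← Ideal.Quotient.eq_zero_iff_mem, map_sub, e''₁, e''₂, sub_self]
  obtain ⟨t', ht'⟩ := L3 J S I' (I'.sub_mem hx'₁ hx'₂) hd'
  obtain ⟨t'', ht''⟩ := L3 J S I'' (I''.sub_mem hx''₁ hx''₂) hd''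
  have h : z₁ - z₂ = incl J S I'' t'' - incl J S I' t' := by
    apply μ_injective J S
    rw [map_sub, map_sub, hz₁, hz₂, ht', ht'']
    ring
  have := congrArg (πt J S I) h
  rw [map_sub, map_sub, L4 J S I I' (πL_eq_zero_of_mem hI') t',
    L4 J S I I'' (πL_eq_zero_of_mem hI'') t'', sub_zero, sub_eq_zero] at this
  exact this

lemma rel_add {x₁ x₂ : S ⧸ K J S} {w₁ w₂ : ((S ⧸ K J S) ⧸ I) ⊗[R] J}
    (h₁ : Rel J S I I' I'' x₁ w₁) (h₂ : Rel J S I I' I'' x₂ w₂) :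
    Rel J S I I' I'' (x₁ + x₂) (w₁ + w₂) := by
  obtain ⟨x'₁, hx'₁, x''₁, hx''₁, e'₁, e''₁, z₁, hz₁, rfl⟩ := h₁
  obtain ⟨x'₂, hx'₂, x''₂, hx''₂, e'₂, e''₂, z₂, hz₂, rfl⟩ := h₂
  refine ⟨x'₁ + x'₂, I'.add_mem hx'₁ hx'₂, x''₁ + x''₂, I''.add_mem hx''₁ hx''₂, ?_, ?_,
    z₁ + z₂, ?_, map_add _ _ _⟩
  · rw [map_add, e'₁, e'₂]
  · rw [map_add, e''₁, e''₂]
  · rw [map_add, hz₁, hz₂]; ring

lemma rel_smul (b : S) {x : S ⧸ K J S} {w : ((S ⧸ K J S) ⧸ I) ⊗[R] J}
    (h : Rel J S I I' I'' x w) :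
    Rel J S I I' I'' (Ideal.Quotient.mk (K J S) b * x) (b • w) := by
  obtain ⟨x', hx', x'', hx'', e', e'', z, hz, rfl⟩ := h
  refine ⟨b * x', I'.mul_mem_left _ hx', b * x'', I''.mul_mem_left _ hx'', ?_, ?_,
    b • z, ?_, πt_smul J S I b z⟩
  · rw [map_mul, e']
  · rw [map_mul, e'']
  · rw [μ_smul, hz]; ring

end claim1

section claim1b
variable {R : Type u} [CommRing R] (J : Ideal R) (S : Type u) [CommRing S]
  [Algebra R S] [Module.Flat R S] (I : Ideal (S ⧸ K J S)) (I' I'' : Ideal S)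
  [Module.Flat R (S ⧸ I')] [Module.Flat R (S ⧸ I'')]
  (hI' : I'.map (Ideal.Quotient.mk (K J S)) = I)
  (hI'' : I''.map (Ideal.Quotient.mk (K J S)) = I)

/-- the difference map of two deformations -/
noncomputable def diff : ↥I →ₗ[S] (((S ⧸ K J S) ⧸ I) ⊗[R] J) where
  toFun x := Classical.choose (rel_exists hI' hI'' x.2)
  map_add' x y := by
    have hx := Classical.choose_spec (rel_exists hI' hI'' x.2)
    have hy := Classical.choose_spec (rel_exists hI' hI'' y.2)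
    have hxy := Classical.choose_spec (rel_exists hI' hI'' (x + y).2)
    exact rel_unique hI' hI'' hxy (rel_add hx hy)
  map_smul' b x := by
    have hx := Classical.choose_spec (rel_exists hI' hI'' x.2)
    have hbx := Classical.choose_spec (rel_exists hI' hI'' (b • x).2)
    have h2 := rel_smul b hx
    have e : ((b • x : ↥I) : S ⧸ K J S) = Ideal.Quotient.mk (K J S) b * x.1 := by
      rw [Submodule.coe_smul_of_tower, Algebra.smul_def]; rfl
    have hbx' : Rel J S I I' I'' (Ideal.Quotient.mk (K J S) b * x.1)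
        (Classical.choose (rel_exists hI' hI'' (b • x).2)) := by
      rw [← e]; exact hbx
    exact rel_unique hI' hI'' hbx' h2

lemma diff_spec (x : ↥I) : Rel J S I I' I'' x.1 (diff J S I I' I'' hI' hI'' x) :=
  Classical.choose_spec (rel_exists hI' hI'' x.2)

include hI' hI'' in
theorem claim1 :
    ∃! φ : ↥I →ₗ[S] (((S ⧸ K J S) ⧸ I) ⊗[R] J),
      (∀ (x : S ⧸ K J S) (hx : x ∈ I) (x' x'' : S), x' ∈ I' → x'' ∈ I'' →
          Ideal.Quotient.mk (K J S) x' = x → Ideal.Quotient.mk (K J S) x'' = x →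
          ∀ z : S ⊗[R] J, TensorProduct.rid R S (LinearMap.lTensor S (Submodule.subtype J) z)
              = x'' - x' →
            LinearMap.rTensor J (IsScalarTower.toAlgHom R S ((S ⧸ K J S) ⧸ I)).toLinearMap z
              = φ ⟨x, hx⟩) := by
  refine ⟨diff J S I I' I'' hI' hI'', ?_, ?_⟩
  · intro x hx x' x'' hx' hx'' e' e'' z hz
    exact rel_unique hI' hI'' ⟨x', hx', x'', hx'', e', e'', z, hz, rfl⟩
      (diff_spec J S I I' I'' hI' hI'' ⟨x, hx⟩)
  · intro φ hφ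
    ext x
    obtain ⟨x', hx', x'', hx'', e', e'', z, hz, hw⟩ := diff_spec J S I I' I'' hI' hI'' x
    rw [← hw]
    exact (hφ x.1 x.2 x' x'' hx' hx'' e' e'' z hz).symm

end claim1b

section claim2
variable {R : Type u} [CommRing R] (J : Ideal R) (S : Type u) [CommRing S]
  [Algebra R S] (I : Ideal (S ⧸ K J S)) (I' : Ideal S)
  (φ : ↥I →ₗ[S] (((S ⧸ K J S) ⧸ I) ⊗[R] J))

/-- the deformed ideal -/
def defIdeal : Ideal S where
  carrier := {s | ∃ x' ∈ I', ∃ y : ↥I, y.1 = Ideal.Quotient.mk (K J S) x' ∧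
    ∃ z : S ⊗[R] J, πt J S I z = φ y ∧ s = x' + μ J S z}
  add_mem' := by
    rintro _ _ ⟨x'₁, hx'₁, y₁, hy₁, z₁, hz₁, rfl⟩ ⟨x'₂, hx'₂, y₂, hy₂, z₂, hz₂, rfl⟩
    refine ⟨x'₁ + x'₂, I'.add_mem hx'₁ hx'₂, y₁ + y₂, ?_, z₁ + z₂, ?_, ?_⟩
    · rw [Submodule.coe_add, hy₁, hy₂, map_add]
    · rw [map_add, map_add, hz₁, hz₂]
    · rw [map_add]; ring
  zero_mem' := ⟨0, I'.zero_mem, 0, by simp, 0, by simp, by simp⟩
  smul_mem' := by
    rintro b _ ⟨x', hx', y, hy, z, hz, rfl⟩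
    refine ⟨b * x', I'.mul_mem_left _ hx', b • y, ?_, b • z, ?_, ?_⟩
    · rw [Submodule.coe_smul_of_tower, Algebra.smul_def, hy, map_mul]; rfl
    · rw [πt_smul, hz, map_smul]
    · rw [μ_smul, smul_eq_mul, mul_add]

variable {J S I I' φ}

lemma mem_defIdeal {s : S} : s ∈ defIdeal J S I I' φ ↔ ∃ x' ∈ I', ∃ y : ↥I,
    y.1 = Ideal.Quotient.mk (K J S) x' ∧ ∃ z : S ⊗[R] J, πt J S I z = φ y ∧ s = x' + μ J S z :=
  Iff.rfl

lemma mk_μ (z : S ⊗[R] J) : Ideal.Quotient.mk (K J S) (μ J S z) = 0 :=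
  Ideal.Quotient.eq_zero_iff_mem.mpr (μ_mem J S z)

lemma μ_incl_mem (I₁ : Ideal S) (t : I₁ ⊗[R] J) : μ J S (incl J S I₁ t) ∈ I₁ := by
  induction t using TensorProduct.induction_on with
  | zero => simp
  | tmul y j =>
    rw [LinearMap.rTensor_tmul, μ_tmul, Algebra.smul_def]
    exact I₁.mul_mem_left _ y.2
  | add x y hx hy => rw [map_add, map_add]; exact I₁.add_mem hx hy

lemma πt_surjective : Function.Surjective (πt J S I) :=
  LinearMap.rTensor_surjective J (πL_surjective J S I)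

variable (hI' : I'.map (Ideal.Quotient.mk (K J S)) = I)

include hI' in
lemma defIdeal_map : (defIdeal J S I I' φ).map (Ideal.Quotient.mk (K J S)) = I := by
  apply le_antisymm
  · rw [Ideal.map_le_iff_le_comap]
    rintro _ ⟨x', hx', y, hy, z, hz, rfl⟩
    rw [Ideal.mem_comap, map_add, mk_μ, add_zero, ← hy]
    exact y.2
  · intro x hx
    obtain ⟨x', hx', e'⟩ := exists_lift hI' hx
    obtain ⟨z, hz⟩ := πt_surjective (J := J) (S := S) (I := I) (φ ⟨x, hx⟩)
    have : x' + μ J S z ∈ defIdeal J S I I' φ := ⟨x', hx', ⟨x, hx⟩, e'.symm, z, hz, rfl⟩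
    have h2 := Ideal.mem_map_of_mem (Ideal.Quotient.mk (K J S)) this
    rwa [map_add, mk_μ, add_zero, e'] at h2

include hI' in
lemma defIdeal_prop [Module.Flat R S] [Module.Flat R (S ⧸ I')]
    (x : S ⧸ K J S) (hx : x ∈ I) (x'₀ x'' : S) (hx'₀ : x'₀ ∈ I')
    (hx'' : x'' ∈ defIdeal J S I I' φ) (e'₀ : Ideal.Quotient.mk (K J S) x'₀ = x)
    (e'' : Ideal.Quotient.mk (K J S) x'' = x) (z₀ : S ⊗[R] J) (hz₀ : μ J S z₀ = x'' - x'₀) :
    πt J S I z₀ = φ ⟨x, hx⟩ := by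
  obtain ⟨x', hx', y, hy, z, hz, rfl⟩ := hx''
  have hyx : y = ⟨x, hx⟩ := by
    apply Subtype.ext
    show y.1 = x
    rw [hy, ← e'', map_add, mk_μ, add_zero]
  have hd : x' - x'₀ ∈ K J S := by
    rw [← Ideal.Quotient.eq_zero_iff_mem, map_sub, e'₀, ← e'', map_add, mk_μ, add_zero, sub_self]
  obtain ⟨t', ht'⟩ := L3 J S I' (I'.sub_mem hx' hx'₀) hd
  have h : z₀ = incl J S I' t' + z := by
    apply μ_injective J S
    rw [map_add, hz₀, ht']; ring
  rw [h, map_add, L4 J S I I' (πL_eq_zero_of_mem hI') t', zero_add, hz, hyx]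

end claim2

section claim2b
variable {R : Type u} [CommRing R] {J : Ideal R} {S : Type u} [CommRing S]
  [Algebra R S] {I : Ideal (S ⧸ K J S)} {I' : Ideal S}
  {φ : ↥I →ₗ[S] (((S ⧸ K J S) ⧸ I) ⊗[R] J)}
  (hJ : J * J = ⊥) (hI' : I'.map (Ideal.Quotient.mk (K J S)) = I)

/-- the quotient map as a linear map -/
noncomputable abbrev mkL (I₁ : Ideal S) : S →ₗ[R] S ⧸ I₁ := (Ideal.Quotient.mkₐ R I₁).toLinearMap

/-- multiplication `(S ⧸ I₁) ⊗ J → S ⧸ I₁` -/
noncomputable abbrev ν (J : Ideal R) (I₁ : Ideal S) : (S ⧸ I₁) ⊗[R] J →ₗ[R] S ⧸ I₁ :=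
  (TensorProduct.rid R (S ⧸ I₁)).toLinearMap ∘ₗ (J.subtype.lTensor (S ⧸ I₁))

lemma ν_comm (I₁ : Ideal S) (z : S ⊗[R] J) :
    ν J I₁ ((mkL I₁).rTensor J z) = mkL (R := R) I₁ (μ J S z) := by
  induction z using TensorProduct.induction_on with
  | zero => simp
  | tmul s j => simp [μ_tmul]
  | add x y hx hy => simp only [map_add, hx, hy]

include hJ hI' in
/-- key claim: `I'' ∩ JS = J I''` -/
lemma KC [Module.Flat R S] [Module.Flat R (S ⧸ I')] {w : S} (hw : w ∈ defIdeal J S I I' φ)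
    (hwK : w ∈ K J S) :
    ∃ t : (defIdeal J S I I' φ) ⊗[R] J, μ J S (incl J S (defIdeal J S I I' φ) t) = w := by
  obtain ⟨x', hx', y, hy, z₀, hz₀, rfl⟩ := hw
  have hmk : Ideal.Quotient.mk (K J S) x' = 0 := by
    have := Ideal.Quotient.eq_zero_iff_mem.mpr hwK
    rwa [map_add, mk_μ, add_zero] at this
  have hy0 : y = 0 := Subtype.ext (by rw [hy, hmk]; rfl)
  rw [hy0, map_zero] at hz₀
  obtain ⟨t', ht'⟩ := L3 J S I' hx' (Ideal.Quotient.eq_zero_iff_mem.mp hmk)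
  have h4 := L4 J S I I' (πL_eq_zero_of_mem hI') t'
  have hsub := exists_sub_mem (defIdeal_map (φ := φ) hI')
  obtain ⟨t₁, ht₁⟩ := L6 J S I hJ _ hsub hz₀
  obtain ⟨t₂, ht₂⟩ := L6 J S I hJ _ hsub h4
  exact ⟨t₂ + t₁, by rw [map_add, map_add, ht₁, ht₂, ht']⟩

include hJ hI' in
lemma defIdeal_flat [Module.Flat R S] [Module.Flat R (S ⧸ I')]
    [Module.Flat (R ⧸ J) ((S ⧸ K J S) ⧸ I)] : Module.Flat R (S ⧸ defIdeal J S I I' φ) := by
  have hle : ∀ a ∈ defIdeal J S I I' φ, (IsScalarTower.toAlgHom R S ((S ⧸ K J S) ⧸ I)) a = 0 :=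
    πL_eq_zero_of_mem (defIdeal_map (φ := φ) hI')
  let g : (S ⧸ defIdeal J S I I' φ) →ₗ[R] (S ⧸ K J S) ⧸ I :=
    (Ideal.Quotient.liftₐ (defIdeal J S I I' φ)
      (IsScalarTower.toAlgHom R S ((S ⧸ K J S) ⧸ I)) hle).toLinearMap
  have hg_mk : ∀ s : S, g (Ideal.Quotient.mk _ s) = πL J S I s := fun s => rfl
  have hg : Function.Surjective g := by
    intro q
    obtain ⟨s, rfl⟩ := πL_surjective J S I q
    exact ⟨Ideal.Quotient.mk _ s, hg_mk s⟩
  have hJ2 : J ^ 2 = ⊥ := by rw [pow_two, hJ]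
  have hker : LinearMap.ker g = J • (⊤ : Submodule R (S ⧸ defIdeal J S I I' φ)) := by
    apply le_antisymm
    · intro m hm
      obtain ⟨s, rfl⟩ := Ideal.Quotient.mk_surjective m
      rw [LinearMap.mem_ker, hg_mk] at hm
      obtain ⟨y, hy, hsy⟩ := exists_sub_mem (defIdeal_map (φ := φ) hI') s hm
      have e1 : Ideal.Quotient.mk (defIdeal J S I I' φ) s =
          Ideal.Quotient.mk (defIdeal J S I I' φ) (s - y) := by
        rw [map_sub, Ideal.Quotient.eq_zero_iff_mem.mpr hy, sub_zero]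
      rw [e1]
      obtain ⟨z, hz⟩ := exists_μ_eq J S hsy
      rw [← hz]
      clear hz hsy e1 hm
      induction z using TensorProduct.induction_on with
      | zero => simp
      | tmul s j =>
        rw [μ_tmul]
        have : Ideal.Quotient.mk (defIdeal J S I I' φ) ((j : R) • s) =
            (j : R) • Ideal.Quotient.mk (defIdeal J S I I' φ) s := rfl
        rw [this]
        exact Submodule.smul_mem_smul j.2 Submodule.mem_top
      | add x y hx hy => rw [map_add, map_add]; exact Submodule.add_mem _ hx hy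
    · rw [Submodule.smul_le]
      intro j hj m _
      rw [LinearMap.mem_ker, map_smul]
      have : (j • g m) = (Ideal.Quotient.mk J j) • g m :=
        (algebraMap_smul (R ⧸ J) j (g m)).symm
      rw [this, Ideal.Quotient.eq_zero_iff_mem.mpr hj, zero_smul]
  have hinj : Function.Injective (J.subtype.lTensor (S ⧸ defIdeal J S I I' φ)) := by
    rw [← LinearMap.ker_eq_bot, LinearMap.ker_eq_bot']
    intro t ht
    have hsurj : Function.Surjective (mkL (R := R) (defIdeal J S I I' φ)) :=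
      Ideal.Quotient.mk_surjective
    obtain ⟨z, rfl⟩ := LinearMap.rTensor_surjective J hsurj t
    have h1 : ν J (defIdeal J S I I' φ) ((mkL (defIdeal J S I I' φ)).rTensor J z) = 0 := by
      show (TensorProduct.rid R _) _ = 0
      rw [ht, map_zero]
    rw [ν_comm] at h1
    have hw : μ J S z ∈ defIdeal J S I I' φ := Ideal.Quotient.eq_zero_iff_mem.mp h1
    obtain ⟨t₁, ht₁⟩ := KC hJ hI' hw (μ_mem J S z)
    have hz : z = incl J S _ t₁ := μ_injective J S ht₁.symm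
    rw [hz, ← LinearMap.comp_apply, ← LinearMap.rTensor_comp]
    have : mkL (R := R) (defIdeal J S I I' φ) ∘ₗ
        (defIdeal J S I I' φ).subtype.restrictScalars R = 0 := by
      ext y; exact Ideal.Quotient.eq_zero_iff_mem.mpr y.2
    rw [this, LinearMap.rTensor_zero, LinearMap.zero_apply]
  exact flat_of_nilpotent' J 2 hJ2 _ ((S ⧸ K J S) ⧸ I) g hg hker hinj

end claim2b

section claim2c
variable {R : Type u} [CommRing R] (J : Ideal R) (hJ : J * J = ⊥) (S : Type u) [CommRing S]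
  [Algebra R S] [Module.Flat R S] (I : Ideal (S ⧸ K J S))
  [Module.Flat (R ⧸ J) ((S ⧸ K J S) ⧸ I)] (I' : Ideal S) [Module.Flat R (S ⧸ I')]
  (hI' : I'.map (Ideal.Quotient.mk (K J S)) = I)
  (φ : ↥I →ₗ[S] (((S ⧸ K J S) ⧸ I) ⊗[R] J))

include hJ hI' in
theorem claim2 :
    ∃! I'' : Ideal S, Module.Flat R (S ⧸ I'') ∧
      I''.map (Ideal.Quotient.mk (K J S)) = I ∧
      (∀ (x : S ⧸ K J S) (hx : x ∈ I) (x' x'' : S), x' ∈ I' → x'' ∈ I'' →
          Ideal.Quotient.mk (K J S) x' = x → Ideal.Quotient.mk (K J S) x'' = x →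
          ∀ z : S ⊗[R] J, TensorProduct.rid R S (LinearMap.lTensor S (Submodule.subtype J) z)
              = x'' - x' →
            LinearMap.rTensor J (IsScalarTower.toAlgHom R S ((S ⧸ K J S) ⧸ I)).toLinearMap z
              = φ ⟨x, hx⟩) := by
  refine ⟨defIdeal J S I I' φ, ⟨defIdeal_flat hJ hI', defIdeal_map hI', ?_⟩, ?_⟩
  · intro x hx x' x'' hx' hx'' e' e'' z hz
    exact defIdeal_prop hI' x hx x' x'' hx' hx'' e' e'' z hz
  · rintro I₂ ⟨_, hI₂, hP⟩
    apply le_antisymm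
    · intro s hs
      have hx : Ideal.Quotient.mk (K J S) s ∈ I := mk_mem_of_mem hI₂ hs
      obtain ⟨x', hx', e'⟩ := exists_lift hI' hx
      have hd : s - x' ∈ K J S := by
        rw [← Ideal.Quotient.eq_zero_iff_mem, map_sub, e', sub_self]
      obtain ⟨z, hz⟩ := exists_μ_eq J S hd
      have := hP _ hx x' s hx' hs e' rfl z hz
      exact ⟨x', hx', ⟨_, hx⟩, e'.symm, z, this, by rw [hz]; ring⟩
    · rintro _ ⟨x', hx', y, hy, z, hz, rfl⟩
      obtain ⟨s₂, hs₂, e₂⟩ := exists_lift hI₂ y.2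
      have hd : s₂ - x' ∈ K J S := by
        rw [← Ideal.Quotient.eq_zero_iff_mem, map_sub, e₂, hy, sub_self]
      obtain ⟨z₁, hz₁⟩ := exists_μ_eq J S hd
      have h1 := hP y.1 y.2 x' s₂ hx' hs₂ hy.symm e₂ z₁ hz₁
      have h0 : πt J S I (z - z₁) = 0 := by
        rw [map_sub, hz, sub_eq_zero]
        exact h1.symm
      obtain ⟨t, ht⟩ := L6 J S I hJ I₂ (exists_sub_mem hI₂) h0
      have hmem := μ_incl_mem I₂ t
      rw [ht, map_sub, hz₁] at hmem
      have : x' + μ J S z = s₂ + (μ J S z - (s₂ - x')) := by ring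
      rw [this]
      exact I₂.add_mem hs₂ hmem

end claim2c

end Groth.Agent.Helper1.SqZeroDef
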