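import Mathlib
import Groth.Agent.Lib.Helper1.SqZeroDef
import Groth.Prelude.Def_W4c6puncthilbintroLift

universe u
open TrivSqZeroExt DualNumber TensorProduct

namespace Groth.Agent.Helper1.DualFlat

section transport
variable {A : Type*} [CommRing A]

/-- flatness transported along a bijective ring hom -/
lemma flat_compHom {B : Type*} [CommRing B] (f : B →+* A) (hf : Function.Bijective f)
    (Q : Type*) [AddCommGroup Q] [Module A Q] [Module.Flat A Q] :
    @Module.Flat B Q _ _ (Module.compHom Q f) := by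
  letI : Module B Q := Module.compHom Q f
  have hsm : ∀ (b : B) (q : Q), b • q = f b • q := fun b q => rfl
  apply Module.Flat.of_forall_isTrivialRelation
  intro l c x hcx
  have h' : ∑ i, f (c i) • x i = 0 := by
    rw [← hcx]; exact Finset.sum_congr rfl fun i _ => (hsm _ _).symm
  obtain ⟨k, a, y, hxy, hay⟩ := Module.Flat.isTrivialRelation_of_sum_smul_eq_zero h'
  have hfe : ∀ t : A, f ((RingEquiv.ofBijective f hf).symm t) = t := fun t =>
    (RingEquiv.ofBijective f hf).apply_symm_apply t
  refine ⟨k, fun i j => (RingEquiv.ofBijective f hf).symm (a i j), y, ?_, ?_⟩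
  · intro i
    rw [hxy i]
    refine Finset.sum_congr rfl fun j _ => ?_
    rw [hsm, hfe]
  · intro j
    apply hf.1
    rw [map_sum, map_zero, ← hay j]
    refine Finset.sum_congr rfl fun i _ => ?_
    rw [map_mul, hfe]

end transport

section dual
variable {A : Type u} [CommRing A]

lemma eps_mul_eq_zero_iff (d : DualNumber A) : (ε : DualNumber A) * d = 0 ↔ d.fst = 0 := by
  constructor
  · intro h
    have := congrArg TrivSqZeroExt.snd h
    simpa [DualNumber.snd_mul] using this
  · intro h
    ext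
    · simp
    · simp [DualNumber.snd_mul, h]

lemma eq_eps_mul_of_fst_eq_zero (d : DualNumber A) (h : d.fst = 0) :
    d = (ε : DualNumber A) * inl d.snd := by
  ext
  · simp [h]
  · simp [DualNumber.snd_mul]

lemma exists_eps_smul_of_flat (M : Type*) [AddCommGroup M] [Module (DualNumber A) M]
    [Module.Flat (DualNumber A) M] (m : M) (h : (ε : DualNumber A) • m = 0) :
    ∃ m' : M, m = (ε : DualNumber A) • m' := by
  obtain ⟨k, a, y, hxy, hay⟩ := Module.Flat.isTrivialRelation_of_sum_smul_eq_zero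
    (R := DualNumber A) (M := M) (ι := Fin 1) (f := fun _ => ε)
    (x := fun _ => m) (by
      simp only [Finset.univ_unique, Finset.sum_singleton]
      exact h)
  have h1 : m = ∑ j, a 0 j • y j := hxy 0
  have h2 : ∀ j, a 0 j = (ε : DualNumber A) * inl (a 0 j).snd := by
    intro j
    have := hay j
    simp only [Finset.univ_unique, Finset.sum_singleton] at this
    have h3 : a default j = a 0 j := rfl
    rw [h3] at this
    exact eq_eps_mul_of_fst_eq_zero _ ((eps_mul_eq_zero_iff _).mp this)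
  refine ⟨∑ j, (inl (a 0 j).snd : DualNumber A) • y j, ?_⟩
  rw [h1, Finset.smul_sum]
  refine Finset.sum_congr rfl fun j _ => ?_
  rw [smul_smul, ← h2 j]

theorem flat_dual (M : Type u) [AddCommGroup M] [Module (DualNumber A) M]
    (Q : Type u) [AddCommGroup Q] [Module A Q] [Module.Flat A Q]
    (g : M →+ Q) (hgs : Function.Surjective g)
    (hg : ∀ (d : DualNumber A) (m : M), g (d • m) = d.fst • g m)
    (hker : ∀ m, g m = 0 → ∃ m', m = (ε : DualNumber A) • m')
    (htor : ∀ m : M, (ε : DualNumber A) • m = 0 → ∃ m', m = (ε : DualNumber A) • m') :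
    Module.Flat (DualNumber A) M := by
  set J : Ideal (DualNumber A) := Ideal.span {ε} with hJdef
  have hJ : J ^ 2 = ⊥ := by
    rw [hJdef, Ideal.span_singleton_pow, pow_two, eps_mul_eps]
    simp
  let π : DualNumber A →+* A := (fstHom A A A).toRingHom
  have hπ : ∀ d, π d = d.fst := fun d => rfl
  have hπJ : ∀ x ∈ J, π x = 0 := by
    intro x hx
    obtain ⟨d, rfl⟩ := Ideal.mem_span_singleton'.mp hx
    rw [hπ]; simp
  let πq : DualNumber A ⧸ J →+* A := Ideal.Quotient.lift J π hπJ
  have hπq : Function.Bijective πq := by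
    constructor
    · rw [injective_iff_map_eq_zero]
      intro x hx
      obtain ⟨d, rfl⟩ := Ideal.Quotient.mk_surjective x
      rw [Ideal.Quotient.eq_zero_iff_mem]
      have hd : d.fst = 0 := hx
      rw [eq_eps_mul_of_fst_eq_zero d hd, mul_comm]
      exact Ideal.mem_span_singleton'.mpr ⟨_, rfl⟩
    · intro a
      exact ⟨Ideal.Quotient.mk J (inl a), by simp [πq, π]⟩
  letI : Module (DualNumber A) Q := Module.compHom Q π
  letI : Module (DualNumber A ⧸ J) Q := Module.compHom Q πq
  haveI : IsScalarTower (DualNumber A) (DualNumber A ⧸ J) Q := ⟨fun d c q => by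
    obtain ⟨c', rfl⟩ := Ideal.Quotient.mk_surjective c
    show πq (Ideal.Quotient.mk J (d * c')) • q = π d • (πq (Ideal.Quotient.mk J c') • q)
    rw [map_mul, map_mul, mul_smul]
    rfl⟩
  haveI : Module.Flat (DualNumber A ⧸ J) Q := flat_compHom (B := DualNumber A ⧸ J) πq hπq Q
  let gl : M →ₗ[DualNumber A] Q :=
    { toFun := g, map_add' := g.map_add, map_smul' := fun d m => hg d m }
  refine SqZeroDef.flat_of_nilpotent' J 2 hJ M Q gl hgs ?_ ?_
  · ext m
    rw [hJdef, Submodule.ideal_span_singleton_smul, LinearMap.mem_ker]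
    constructor
    · intro hm
      obtain ⟨m', rfl⟩ := hker m hm
      exact Submodule.smul_mem_pointwise_smul m' ε ⊤ trivial
    · intro hm
      obtain ⟨m', -, rfl⟩ := (Submodule.mem_smul_pointwise_iff_exists _ _ _).mp hm
      show g (ε • m') = 0
      rw [hg]; simp
  · have hε : (ε : DualNumber A) ∈ J := Ideal.subset_span rfl
    have key : ∀ z : M ⊗[DualNumber A] J, ∃ m : M, z = m ⊗ₜ ⟨ε, hε⟩ := by
      intro z
      induction z using TensorProduct.induction_on with
      | zero => exact ⟨0, by simp⟩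
      | tmul m j =>
        obtain ⟨d, hd⟩ := Ideal.mem_span_singleton'.mp j.2
        refine ⟨d • m, ?_⟩
        rw [TensorProduct.smul_tmul]
        congr 1
        apply Subtype.ext
        show (j : DualNumber A) = d * ε
        rw [hd]
      | add x y hx hy =>
        obtain ⟨m₁, rfl⟩ := hx
        obtain ⟨m₂, rfl⟩ := hy
        exact ⟨m₁ + m₂, by rw [TensorProduct.add_tmul]⟩
    rw [injective_iff_map_eq_zero]
    intro z hz
    obtain ⟨m, rfl⟩ := key z
    have h1 : (ε : DualNumber A) • m = 0 := by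
      have := congrArg (TensorProduct.rid (DualNumber A) M) hz
      simpa using this
    obtain ⟨m', rfl⟩ := htor m h1
    rw [TensorProduct.smul_tmul]
    have : (ε : DualNumber A) • (⟨ε, hε⟩ : J) = 0 := by
      apply Subtype.ext
      show (ε : DualNumber A) * ε = 0
      exact eps_mul_eps
    rw [this, TensorProduct.tmul_zero]

end dual

section lift
open W4c6puncthilbintro
attribute [local instance] W4c6puncthilbintro.dualAlgebra

variable (A : Type u) [CommRing A] (R : Type u) [CommRing R] [Algebra A R]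

lemma fst_dualMap (d : DualNumber A) : (dualMap A R d).fst = algebraMap A R d.fst := by
  induction d using TrivSqZeroExt.ind with
  | _ a b =>
    have : (inl a + inr b : DualNumber A) = inl a + inl b * ε := by
      ext <;> simp
    rw [this, map_add, map_mul, dualMap_inl, dualMap_inl, dualMap_eps]
    simp [Algebra.algebraMap_eq_smul_one]

lemma snd_dualMap (d : DualNumber A) : (dualMap A R d).snd = algebraMap A R d.snd := by
  induction d using TrivSqZeroExt.ind with
  | _ a b =>
    have : (inl a + inr b : DualNumber A) = inl a + inl b * ε := by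
      ext <;> simp
    rw [this, map_add, map_mul, dualMap_inl, dualMap_inl, dualMap_eps]
    simp [Algebra.algebraMap_eq_smul_one, DualNumber.snd_mul]

lemma smul_def' (d : DualNumber A) (s : DualNumber R) : d • s = dualMap A R d * s := rfl

variable {A R}
variable (I : Ideal R)

lemma mem_liftIdeal (φ : I →ₗ[R] R ⧸ I) (x : DualNumber R) :
    x ∈ liftIdeal I φ ↔ ∃ h : x.fst ∈ I, Ideal.Quotient.mk I x.snd = φ ⟨x.fst, h⟩ := Iff.rfl

lemma exists_mem_liftIdeal (φ : I →ₗ[R] R ⧸ I) (a : R) (ha : a ∈ I) :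
    ∃ c : R, (inl a + inr c : DualNumber R) ∈ liftIdeal I φ := by
  obtain ⟨c, hc⟩ := Ideal.Quotient.mk_surjective (φ ⟨a, ha⟩)
  refine ⟨c, ?_⟩
  rw [mem_liftIdeal]
  have h1 : (inl a + inr c : DualNumber R).fst = a := by simp
  have h2 : (inl a + inr c : DualNumber R).snd = c := by simp
  have hm : (inl a + inr c : DualNumber R).fst ∈ I := by rw [h1]; exact ha
  refine ⟨hm, ?_⟩
  rw [h2, hc]
  congr 1
  exact Subtype.ext h1.symm

lemma map_fst_liftIdeal (φ : I →ₗ[R] R ⧸ I) :
    Ideal.map (TrivSqZeroExt.fstHom A R R) (liftIdeal I φ) = I := by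
  apply le_antisymm
  · rw [Ideal.map_le_iff_le_comap]
    intro x hx
    exact hx.1
  · intro a ha
    obtain ⟨c, hc⟩ := exists_mem_liftIdeal I φ a ha
    have := Ideal.mem_map_of_mem (TrivSqZeroExt.fstHom A R R) hc
    simpa using this

lemma liftIdeal_injective : Function.Injective (liftIdeal I) := by
  intro φ ψ h
  ext ⟨a, ha⟩
  obtain ⟨c, hc⟩ := exists_mem_liftIdeal I φ a ha
  have hc' : (inl a + inr c : DualNumber R) ∈ liftIdeal I ψ := h ▸ hc
  obtain ⟨h1, h2⟩ := hc
  obtain ⟨h1', h2'⟩ := hc'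
  have e : (⟨(inl a + inr c : DualNumber R).fst, h1⟩ : I) = ⟨a, ha⟩ := Subtype.ext (by simp)
  have e' : (⟨(inl a + inr c : DualNumber R).fst, h1'⟩ : I) = ⟨a, ha⟩ := Subtype.ext (by simp)
  rw [e] at h2
  rw [e'] at h2'
  rw [← h2, ← h2']

end lift

section flat1
open W4c6puncthilbintro
attribute [local instance] W4c6puncthilbintro.dualAlgebra

variable {A : Type u} [CommRing A] {R : Type u} [CommRing R] [Algebra A R] (I : Ideal R)

lemma eps_smul_mk (J : Ideal (DualNumber R)) (s : DualNumber R) :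
    (ε : DualNumber A) • Ideal.Quotient.mk J s = Ideal.Quotient.mk J (ε * s) := by
  have : (ε : DualNumber A) • Ideal.Quotient.mk J s =
      Ideal.Quotient.mk J (dualMap A R ε * s) := rfl
  rw [this, dualMap_eps]

lemma mk_eq_eps_smul (φ : I →ₗ[R] R ⧸ I) (s : DualNumber R) (ha : s.fst ∈ I) :
    ∃ m' : DualNumber R ⧸ liftIdeal I φ,
      Ideal.Quotient.mk (liftIdeal I φ) s = (ε : DualNumber A) • m' := by
  obtain ⟨c, hc⟩ := exists_mem_liftIdeal I φ s.fst ha
  refine ⟨Ideal.Quotient.mk _ (inl (s.snd - c)), ?_⟩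
  rw [eps_smul_mk, Ideal.Quotient.eq]
  have : s - ε * inl (s.snd - c) = inl s.fst + inr c := by
    ext <;> simp [DualNumber.snd_mul]
  rw [this]; exact hc

theorem flat_liftIdeal [Module.Flat A (R ⧸ I)] (φ : I →ₗ[R] R ⧸ I) :
    Module.Flat (DualNumber A) (DualNumber R ⧸ liftIdeal I φ) := by
  have hle : ∀ x ∈ liftIdeal I φ,
      ((Ideal.Quotient.mk I).comp (TrivSqZeroExt.fstHom A R R).toRingHom) x = 0 := by
    intro x hx
    exact Ideal.Quotient.eq_zero_iff_mem.mpr hx.1
  let g0 : DualNumber R ⧸ liftIdeal I φ →+* R ⧸ I := Ideal.Quotient.lift _ _ hle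
  have hg0 : ∀ s, g0 (Ideal.Quotient.mk _ s) = Ideal.Quotient.mk I s.fst := fun s => rfl
  refine flat_dual (DualNumber R ⧸ liftIdeal I φ) (R ⧸ I) g0.toAddMonoidHom ?_ ?_ ?_ ?_
  · intro q
    obtain ⟨r, rfl⟩ := Ideal.Quotient.mk_surjective q
    exact ⟨Ideal.Quotient.mk _ (inl r), by
      show g0 (Ideal.Quotient.mk _ (inl r)) = _
      rw [hg0]; simp⟩
  · intro d m
    obtain ⟨s, rfl⟩ := Ideal.Quotient.mk_surjective m
    show g0 (d • Ideal.Quotient.mk _ s) = d.fst • g0 (Ideal.Quotient.mk _ s)
    have : d • Ideal.Quotient.mk (liftIdeal I φ) s =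
        Ideal.Quotient.mk _ (dualMap A R d * s) := rfl
    rw [this, hg0, hg0, TrivSqZeroExt.fst_mul, fst_dualMap, map_mul, Algebra.smul_def]
    rfl
  · intro m hm
    obtain ⟨s, rfl⟩ := Ideal.Quotient.mk_surjective m
    have ha : s.fst ∈ I := by
      rw [← Ideal.Quotient.eq_zero_iff_mem, ← hg0]; exact hm
    exact mk_eq_eps_smul I φ s ha
  · intro m hm
    obtain ⟨s, rfl⟩ := Ideal.Quotient.mk_surjective m
    rw [eps_smul_mk, Ideal.Quotient.eq_zero_iff_mem] at hm
    obtain ⟨h0, h1⟩ := hm
    have hz : (⟨(ε * s).fst, h0⟩ : I) = 0 := Subtype.ext (by simp)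
    rw [hz, map_zero] at h1
    have ha : s.fst ∈ I := by
      rw [← Ideal.Quotient.eq_zero_iff_mem, ← h1]; simp [DualNumber.snd_mul]
    exact mk_eq_eps_smul I φ s ha

end flat1

section conv
open W4c6puncthilbintro
attribute [local instance] W4c6puncthilbintro.dualAlgebra

variable {A : Type u} [CommRing A] {R : Type u} [CommRing R] [Algebra A R] (I : Ideal R)
  (J : Ideal (DualNumber R)) (hJ : Ideal.map (TrivSqZeroExt.fstHom A R R) J = I)

include hJ in
lemma fst_mem {x : DualNumber R} (hx : x ∈ J) : x.fst ∈ I := by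
  rw [← hJ]
  exact Ideal.mem_map_of_mem (TrivSqZeroExt.fstHom A R R) hx

include hJ in
lemma exists_fst_eq {a : R} (ha : a ∈ I) : ∃ x ∈ J, x.fst = a := by
  rw [← hJ] at ha
  obtain ⟨x, hx, hxa⟩ := (Ideal.mem_map_iff_of_surjective (TrivSqZeroExt.fstHom A R R)
    (fun r => ⟨inl r, by simp⟩)).mp ha
  exact ⟨x, hx, hxa⟩

include hJ in
lemma inr_mem_of_mem {c : R} (hc : c ∈ I) : (inr c : DualNumber R) ∈ J := by
  obtain ⟨x, hx, rfl⟩ := exists_fst_eq (A := A) I J hJ hc
  have : (inr x.fst : DualNumber R) = ε * x := by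
    ext <;> simp [DualNumber.snd_mul]
  rw [this]
  exact J.mul_mem_left _ hx

include hJ in
lemma mem_of_inr_mem (hflat : Module.Flat (DualNumber A) (DualNumber R ⧸ J)) {c : R}
    (hc : (inr c : DualNumber R) ∈ J) : c ∈ I := by
  haveI := hflat
  have hεc : (ε : DualNumber A) • Ideal.Quotient.mk J (inl c) = 0 := by
    rw [eps_smul_mk, Ideal.Quotient.eq_zero_iff_mem]
    have : (ε * inl c : DualNumber R) = inr c := by
      ext <;> simp
    rw [this]; exact hc
  obtain ⟨m', h4⟩ := exists_eps_smul_of_flat (A := A) (DualNumber R ⧸ J)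
    (Ideal.Quotient.mk J (inl c)) hεc
  obtain ⟨s', rfl⟩ := Ideal.Quotient.mk_surjective m'
  rw [eps_smul_mk, Ideal.Quotient.eq] at h4
  have := fst_mem (A := A) I J hJ h4
  simpa using this

end conv

section conv2
open W4c6puncthilbintro
attribute [local instance] W4c6puncthilbintro.dualAlgebra

variable {A : Type u} [CommRing A] {R : Type u} [CommRing R] [Algebra A R] (I : Ideal R)
  (J : Ideal (DualNumber R)) (hJ : Ideal.map (TrivSqZeroExt.fstHom A R R) J = I)
  (hflat : Module.Flat (DualNumber A) (DualNumber R ⧸ J))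

include hJ hflat in
lemma snd_sub_mem {x x' : DualNumber R} (hx : x ∈ J) (hx' : x' ∈ J) (h : x.fst = x'.fst) :
    x.snd - x'.snd ∈ I := by
  apply mem_of_inr_mem I J hJ hflat
  have : (inr (x.snd - x'.snd) : DualNumber R) = x - x' := by
    ext <;> simp [h]
  rw [this]
  exact J.sub_mem hx hx'

include hJ hflat in
theorem exists_of_flat : ∃ φ : I →ₗ[R] R ⧸ I, J = liftIdeal I φ := by
  have hex : ∀ a : I, ∃ x ∈ J, x.fst = (a : R) := fun a => exists_fst_eq (A := A) I J hJ a.2
  choose X hXJ hXfst using hex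
  have huniq : ∀ (a : I) (x : DualNumber R), x ∈ J → x.fst = (a : R) →
      Ideal.Quotient.mk I x.snd = Ideal.Quotient.mk I (X a).snd := by
    intro a x hx hxa
    rw [Ideal.Quotient.eq]
    exact snd_sub_mem I J hJ hflat hx (hXJ a) (hxa.trans (hXfst a).symm)
  let φ : I →ₗ[R] R ⧸ I :=
    { toFun := fun a => Ideal.Quotient.mk I (X a).snd
      map_add' := by
        intro a b
        have := huniq (a + b) (X a + X b) (J.add_mem (hXJ a) (hXJ b)) (by
          simp [hXfst])
        rw [← this]; simp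
      map_smul' := by
        intro r a
        have := huniq (r • a) (inl r * X a) (J.mul_mem_left _ (hXJ a)) (by
          simp [hXfst])
        rw [← this]
        simp [DualNumber.snd_mul, Algebra.smul_def] }
  refine ⟨φ, ?_⟩
  apply le_antisymm
  · intro x hx
    have h1 : x.fst ∈ I := fst_mem (A := A) I J hJ hx
    refine ⟨h1, ?_⟩
    exact huniq ⟨x.fst, h1⟩ x hx rfl
  · rintro x ⟨h1, h2⟩
    have h3 : x.snd - (X ⟨x.fst, h1⟩).snd ∈ I := by
      rw [← Ideal.Quotient.eq]; exact h2
    have h4 := inr_mem_of_mem (A := A) I J hJ h3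
    have : x = X ⟨x.fst, h1⟩ + inr (x.snd - (X ⟨x.fst, h1⟩).snd) := by
      ext
      · simp [hXfst]
      · simp
    rw [this]
    exact J.add_mem (hXJ _) h4

end conv2

end Groth.Agent.Helper1.DualFlat
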