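import Mathlib

/-!
# Points of a zero-dimensional closed subset of a T0 space are closed (helper1)
-/

set_option autoImplicit false
open TopologicalSpace

namespace Groth.Agent.Helper1.Dv

theorem isClosed_singleton_of_dim_le_zero {X : Type*} [TopologicalSpace X] [T0Space X]
    (S : Set X) (hS : IsClosed S) (hdim : topologicalKrullDim S ≤ 0) (x : X) (hx : x ∈ S) :
    IsClosed ({x} : Set X) := by
  unfold topologicalKrullDim at hdim
  rw [Order.krullDim_nonpos_iff_forall_isMin] at hdim
  -- the closure of `x` in `S`
  let xs : S := ⟨x, hx⟩
  let A : IrreducibleCloseds S :=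
    ⟨closure {xs}, isIrreducible_singleton.closure, isClosed_closure⟩
  have hmin := hdim A
  have hpt : closure ({xs} : Set S) = {xs} := by
    apply Set.Subset.antisymm _ subset_closure
    intro y hy
    let B : IrreducibleCloseds S :=
      ⟨closure {y}, isIrreducible_singleton.closure, isClosed_closure⟩
    have hBA : B ≤ A := by
      change closure {y} ⊆ closure {xs}
      exact closure_minimal (Set.singleton_subset_iff.2 hy) isClosed_closure
    have hAB : A ≤ B := hmin hBA
    have hxy : xs ∈ closure ({y} : Set S) := hAB (subset_closure rfl)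
    have h1 : y ⤳ xs := specializes_iff_mem_closure.2 hxy
    have h2 : xs ⤳ y := specializes_iff_mem_closure.2 hy
    exact (h1.antisymm h2).eq
  have hcl : IsClosed ({xs} : Set S) := hpt ▸ isClosed_closure
  have h3 : ({x} : Set X) = Subtype.val '' ({xs} : Set S) := by
    rw [Set.image_singleton]
  rw [h3]
  exact hS.isClosedEmbedding_subtypeVal.isClosedMap _ hcl

end Groth.Agent.Helper1.Dv
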