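import Mathlib
import Groth.Agent.Lib.Helper1.Dv33
import Groth.Agent.Lib.Helper1.TwistSec

/-!
# The centre of the category of coherent modules (helper1)
-/

set_option autoImplicit false
universe u
open CategoryTheory CategoryTheory.Limits AlgebraicGeometry TopologicalSpace Opposite

namespace Groth.Agent.Helper1.Dv

open Groth.Agent.Helper1.QcCech Groth.Agent.Helper1.QcExt Groth.Agent.Helper1
open Groth.Agent.Helper1.CohACC Groth.Agent.Lead Groth.Agent.Helper1.SubSh

variable {X : Scheme.{u}}

/-- the category of coherent modules -/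
abbrev CohCat (X : Scheme.{u}) :=
  ObjectProperty.FullSubcategory (fun M : X.Modules => Coh.IsCoh M)

/-- restriction of a global function -/
noncomputable abbrev rres (r : Γ(X, ⊤)) (U : X.Opens) : Γ(X, U) :=
  (X.presheaf.map (homOfLE (le_top : U ≤ ⊤)).op).hom r

section center

variable [IsNoetherian X] (φ : 𝟭 (CohCat X) ⟶ 𝟭 (CohCat X))

/-- the structure sheaf as an object of `Coh(X)` -/
noncomputable def OO (X : Scheme.{u}) : CohCat X := ⟨Coh.structureModule X, isCoh_structureModule X⟩

/-- sections of the structure sheaf as a module are functions -/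
noncomputable def castO (U : X.Opens) : Γ(Coh.structureModule X, U) ≃+ Γ(X, U) := AddEquiv.refl _

theorem castO_smul (U : X.Opens) (a : Γ(X, U)) (x : Γ(Coh.structureModule X, U)) :
    castO U (a • x) = a * castO U x := rfl

theorem castO_res {U V : X.Opens} (h : V ≤ U) (x : Γ(Coh.structureModule X, U)) :
    castO V (res (Coh.structureModule X) h x) = (X.presheaf.map (homOfLE h).op).hom (castO U x) :=
  rfl

/-- the global function attached to a natural endomorphism of the identity -/
noncomputable def centerElt : Γ(X, ⊤) :=
  castO ⊤ ((φ.app (OO X)).hom.app ⊤ ((castO ⊤).symm 1))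

theorem nat_apply {M N : CohCat X} (f : M.obj ⟶ N.obj) (U : X.Opens) (s : Γ(M.obj, U)) :
    (φ.app N).hom.app U (f.app U s) = f.app U ((φ.app M).hom.app U s) := by
  have h := φ.naturality (ObjectProperty.homMk f : M ⟶ N)
  have h' := congrArg (fun g : M ⟶ N => g.hom) h
  simp only [Functor.id_obj, Functor.id_map] at h'
  have h2 : f ≫ (φ.app N).hom = (φ.app M).hom ≫ f := h'
  have h3 := congrArg (fun g => Scheme.Modules.Hom.app g U s) h2
  exact h3

/-- an endomorphism of the structure sheaf is multiplication by the image of `1` -/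
theorem endo_OO (e : Coh.structureModule X ⟶ Coh.structureModule X) (U : X.Opens)
    (x : Γ(Coh.structureModule X, U)) :
    e.app U x = rres (castO ⊤ (e.app ⊤ ((castO ⊤).symm 1))) U • x := by
  apply (castO U).injective
  have h1 : x = castO U x • (castO U).symm 1 := by
    apply (castO U).injective
    rw [castO_smul, AddEquiv.apply_symm_apply, mul_one]
  have h2 : (castO U).symm 1 =
      res (Coh.structureModule X) (le_top : U ≤ ⊤) ((castO ⊤).symm 1) := by
    apply (castO U).injective
    rw [castO_res, AddEquiv.apply_symm_apply, AddEquiv.apply_symm_apply, map_one]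
  conv_lhs => rw [h1]
  rw [Scheme.Modules.Hom.app_smul, h2, QcExt.app_res, castO_smul, castO_res, castO_smul, mul_comm]

/-- on the structure sheaf, the endomorphism is multiplication by the global function -/
theorem center_OO (U : X.Opens) (x : Γ(Coh.structureModule X, U)) :
    (φ.app (OO X)).hom.app U x = rres (centerElt φ) U • x :=
  endo_OO (φ.app (OO X)).hom U x


theorem rres_resR (r : Γ(X, ⊤)) {U V : X.Opens} (h : V ≤ U) : resR h (rres r U) = rres r V :=
  resR_resR _ _ r

/-- on an ideal-multiple of the structure sheaf, the endomorphism is multiplication -/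
theorem center_ideal (J : X.IdealSheafData) (U : X.Opens)
    (s : Γ((Dual3.idealMul J).obj (Coh.structureModule X), U)) :
    (φ.app ⟨(Dual3.idealMul J).obj (Coh.structureModule X),
      isCoh_idealMul J _ (isCoh_structureModule X)⟩).hom.app U s = rres (centerElt φ) U • s := by
  let E : CohCat X := ⟨(Dual3.idealMul J).obj (Coh.structureModule X),
      isCoh_idealMul J _ (isCoh_structureModule X)⟩
  have h1 := nat_apply φ (M := E) (N := OO X) (Dual3.idealMulι J (Coh.structureModule X)) U s
  have h2 := center_OO φ U ((Dual3.idealMulι J (Coh.structureModule X)).app U s)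
  apply FtLocal.app_injective_of_mono (Dual3.idealMulι J (Coh.structureModule X)) U
  rw [Scheme.Modules.Hom.app_smul]
  exact h1.symm.trans h2

/-- on affine opens, the endomorphism is multiplication -/
theorem center_affine (M : CohCat X) {W : X.Opens} (hW : IsAffineOpen W) (m : Γ(M.obj, W)) :
    (φ.app M).hom.app W m = rres (centerElt φ) W • m := by
  let θ : Γ(Coh.structureModule X, W) →ₗ[Γ(X, W)] Γ(M.obj, W) :=
    { toFun := fun a => castO W a • m
      map_add' := fun a b => by rw [map_add, add_smul]
      map_smul' := fun c a => by rw [castO_smul, mul_smul]; rfl }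
  obtain ⟨n, ψ, hψ⟩ := exists_hom_idealMul hW (Coh.structureModule X) M.obj
    (isCoh_structureModule X) M.property.1 (complIdeal W) (complIdeal_support W) θ
  haveI : (Coh.structureModule X).IsQuasicoherent := (isCoh_structureModule X).1
  haveI := isIso_restrict_idealMulι W n (Coh.structureModule X)
  obtain ⟨t, ht⟩ := (app_bijective_of_restrict_isIso
    (Dual3.idealMulι (complIdeal W ^ n) (Coh.structureModule X)) W W le_rfl).2 ((castO W).symm 1)
  have hm : ψ.app W t = m := by
    rw [hψ, ht]
    change castO W ((castO W).symm 1) • m = m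
    rw [AddEquiv.apply_symm_apply, one_smul]
  let E : CohCat X := ⟨(Dual3.idealMul (complIdeal W ^ n)).obj (Coh.structureModule X),
      isCoh_idealMul _ _ (isCoh_structureModule X)⟩
  have h1 := nat_apply φ (M := E) (N := M) ψ W t
  rw [center_ideal φ (complIdeal W ^ n) W t, Scheme.Modules.Hom.app_smul, hm] at h1
  exact h1

/-- on all opens, the endomorphism is multiplication -/
theorem center_app (M : CohCat X) (U : X.Opens) (m : Γ(M.obj, U)) :
    (φ.app M).hom.app U m = rres (centerElt φ) U • m := by
  apply TwistSec.eq_of_locally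
  intro x hx
  obtain ⟨_, ⟨W, hW, rfl⟩, hxW, hWU⟩ :=
    X.isBasis_affineOpens.exists_subset_of_mem_open hx U.isOpen
  refine ⟨W, hWU, hxW, ?_⟩
  rw [← QcExt.app_res, center_affine φ M hW, res_smul, rres_resR]


/-- the centre of `Coh(X)` is `Γ(X, O_X)` -/
theorem center_main :
    ∃! r : Coh.Γtop X, ∀ M : CohCat X,
      (SheafOfModules.toSheaf X.ringCatSheaf).map (φ.app M).hom = Coh.smulAb M.obj r := by
  refine ⟨centerElt φ, fun M => ?_, fun r' hr' => ?_⟩
  · ext U m
    rw [Coh.smulAb_app]
    exact center_app φ M U.unop m
  · have h := hr' (OO X)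
    have h2 := congrArg (fun g => g.hom.app (op ⊤) ((castO (X := X) ⊤).symm 1)) h
    simp only [] at h2
    rw [Coh.smulAb_app] at h2
    have h3 : Coh.resTop X (op ⊤) r' = r' := by
      change (X.ringCatSheaf.obj.map (𝟙 _)).hom r' = r'
      rw [CategoryTheory.Functor.map_id]
      rfl
    rw [h3] at h2
    have h4 : castO ⊤ ((show Γ(X, ⊤) from r') • (castO (X := X) ⊤).symm 1) = r' := by
      rw [castO_smul, AddEquiv.apply_symm_apply, mul_one]
    rw [← h4]
    unfold centerElt
    exact (congrArg (castO ⊤) h2).symm

end center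

end Groth.Agent.Helper1.Dv
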