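import Mathlib
import Groth.Agent.Lib.Helper1.Dv31
import Groth.Agent.Lib.Helper1.Dv28

/-!
# Closed subsets and Serre subcategories of coherent modules (helper1)
-/

set_option autoImplicit false
universe u
open CategoryTheory CategoryTheory.Limits AlgebraicGeometry TopologicalSpace Opposite

namespace Groth.Agent.Helper1.Dv

open Groth.Agent.Helper1.QcCech Groth.Agent.Helper1.QcExt Groth.Agent.Helper1
open Groth.Agent.Helper1.CohACC Groth.Agent.Lead Groth.Agent.Helper1.SubSh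

variable {X : Scheme.{u}}

/-- Serre classes on coherent modules -/
def IsSerreCoh (P : ObjectProperty X.Modules) : Prop :=
  ∀ S : ShortComplex X.Modules, S.ShortExact → Coh.IsCoh S.X₁ → Coh.IsCoh S.X₂ →
    Coh.IsCoh S.X₃ → (P S.X₂ ↔ P S.X₁ ∧ P S.X₃)

/-- `support ⊆ Z` is a Serre class -/
theorem isSerreCoh_support (Z : Set X) :
    IsSerreCoh (X := X) (fun M => CohB1.support M ⊆ Z) := by
  intro S hS _ _ _
  change CohB1.support S.X₂ ⊆ Z ↔ _
  rw [support_ses S hS, Set.union_subset_iff]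

/-- a coherent module with prescribed closed support -/
theorem exists_coh_support_eq (Z : TopologicalSpace.Closeds X) :
    ∃ F : X.Modules, Coh.IsCoh F ∧ CohB1.support F = (↑Z : Set X) := by
  have hr : Set.range (Scheme.IdealSheafData.vanishingIdeal Z).subschemeι = (↑Z : Set X) := by
    rw [Scheme.IdealSheafData.range_subschemeι, Scheme.IdealSheafData.coe_support_vanishingIdeal]
  refine ⟨(Scheme.Modules.pushforward (Scheme.IdealSheafData.vanishingIdeal Z).subschemeι).obj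
    (Coh.structureModule _), FinPush.isCoh_pushforward _ _ (isCoh_structureModule _), ?_⟩
  apply subset_antisymm
  · rw [← hr]
    apply support_push_subset_of_isClosed_range
    rw [hr]
    exact Z.isClosed
  · rw [← hr]
    exact range_subset_support_push_structure _


/-- closed subsets correspond to Serre subcategories of finite type of `Coh(X)` -/
theorem cohGab_bij [IsNoetherian X] :
    (∀ Z : TopologicalSpace.Closeds X,
      (IsSerreCoh (X := X) (fun M => CohB1.support M ⊆ (↑Z : Set X))) ∧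
      ∃ F : X.Modules, Coh.IsCoh F ∧ CohB1.support F ⊆ (↑Z : Set X) ∧
        ∀ Q : ObjectProperty X.Modules, IsSerreCoh Q → Q F →
          ∀ M : X.Modules, Coh.IsCoh M → CohB1.support M ⊆ (↑Z : Set X) → Q M) ∧
    (∀ P : ObjectProperty X.Modules, IsSerreCoh P →
      (∃ F : X.Modules, Coh.IsCoh F ∧ P F ∧
        ∀ Q : ObjectProperty X.Modules, IsSerreCoh Q → Q F →
          ∀ M : X.Modules, Coh.IsCoh M → P M → Q M) →
      ∃! Z : TopologicalSpace.Closeds X, ∀ M : X.Modules, Coh.IsCoh M →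
        (P M ↔ CohB1.support M ⊆ (↑Z : Set X))) := by
  refine ⟨fun Z => ⟨isSerreCoh_support _, ?_⟩, fun P hP ⟨F, hF, hPF, hgen⟩ => ?_⟩
  · obtain ⟨F, hF, hsupp⟩ := exists_coh_support_eq Z
    refine ⟨F, hF, hsupp.le, fun Q hQ hQF M hM hMZ => ?_⟩
    exact serre_of_support F M hF hM Q hQF hQ (hsupp ▸ hMZ)
  · refine ⟨⟨CohB1.support F, FtGen.isClosed_support F hF.2⟩, fun M hM => ⟨fun hPM => ?_,
      fun hMZ => serre_of_support F M hF hM P hPF hP hMZ⟩, fun Z' hZ' => ?_⟩
    · exact hgen (fun M => CohB1.support M ⊆ CohB1.support F) (isSerreCoh_support _) subset_rfl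
        M hM hPM
    · -- uniqueness
      apply TopologicalSpace.Closeds.ext
      change (↑Z' : Set X) = CohB1.support F
      apply subset_antisymm
      · obtain ⟨G, hG, hGs⟩ := exists_coh_support_eq Z'
        have h1 : P G := (hZ' G hG).2 hGs.le
        have h2 := hgen (fun M => CohB1.support M ⊆ CohB1.support F) (isSerreCoh_support _)
          subset_rfl G hG h1
        exact hGs ▸ h2
      · exact (hZ' F hF).1 hPF


/-- the class of modules supported in `Z` but not on all of `Z`, for `Z` preirreducible -/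
theorem isSerreCoh_support_ne (Z : TopologicalSpace.Closeds X) (hZ : IsPreirreducible (↑Z : Set X)) :
    IsSerreCoh (X := X) (fun M => CohB1.support M ⊆ (↑Z : Set X) ∧ CohB1.support M ≠ (↑Z : Set X)) := by
  intro S hS h1 h2 h3
  change (CohB1.support S.X₂ ⊆ (↑Z : Set X) ∧ CohB1.support S.X₂ ≠ (↑Z : Set X)) ↔
    (CohB1.support S.X₁ ⊆ (↑Z : Set X) ∧ CohB1.support S.X₁ ≠ (↑Z : Set X)) ∧
    (CohB1.support S.X₃ ⊆ (↑Z : Set X) ∧ CohB1.support S.X₃ ≠ (↑Z : Set X))
  rw [support_ses S hS, Set.union_subset_iff]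
  constructor
  · rintro ⟨⟨a, b⟩, c⟩
    refine ⟨⟨a, fun h => c ?_⟩, ⟨b, fun h => c ?_⟩⟩
    · rw [h]
      exact Set.union_eq_left.2 b
    · rw [h]
      exact Set.union_eq_right.2 a
  · rintro ⟨⟨a, a'⟩, ⟨b, b'⟩⟩
    refine ⟨⟨a, b⟩, fun h => ?_⟩
    rcases (isPreirreducible_iff_isClosed_union_isClosed.1 hZ) _ _
      (FtGen.isClosed_support S.X₁ h1.2) (FtGen.isClosed_support S.X₃ h3.2) h.ge with h' | h'
    · exact a' (subset_antisymm a h')
    · exact b' (subset_antisymm b h')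

/-- irreducible closed subsets correspond to irreducible Serre subcategories -/
theorem cohGab_irred [IsNoetherian X] (Z : TopologicalSpace.Closeds X) :
    IsPreirreducible (↑Z : Set X) ↔
    ∀ J₁ J₂ : ObjectProperty X.Modules, IsSerreCoh J₁ → IsSerreCoh J₂ →
      (∀ M : X.Modules, Coh.IsCoh M → J₁ M → CohB1.support M ⊆ (↑Z : Set X)) →
      (∀ M : X.Modules, Coh.IsCoh M → J₂ M → CohB1.support M ⊆ (↑Z : Set X)) →
      (∀ Q : ObjectProperty X.Modules, IsSerreCoh Q →
        (∀ M : X.Modules, Coh.IsCoh M → J₁ M → Q M) → (∀ M : X.Modules, Coh.IsCoh M → J₂ M → Q M) →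
        ∀ M : X.Modules, Coh.IsCoh M → CohB1.support M ⊆ (↑Z : Set X) → Q M) →
      (∀ M : X.Modules, Coh.IsCoh M → CohB1.support M ⊆ (↑Z : Set X) → J₁ M) ∨
        (∀ M : X.Modules, Coh.IsCoh M → CohB1.support M ⊆ (↑Z : Set X) → J₂ M) := by
  constructor
  · intro hZ J₁ J₂ hJ₁ hJ₂ h₁ h₂ hgen
    by_contra hcon
    rw [not_or] at hcon
    obtain ⟨c₁, c₂⟩ := hcon
    have key : ∀ J : ObjectProperty X.Modules, IsSerreCoh J →
        (∀ M : X.Modules, Coh.IsCoh M → J M → CohB1.support M ⊆ (↑Z : Set X)) →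
        ¬ (∀ M : X.Modules, Coh.IsCoh M → CohB1.support M ⊆ (↑Z : Set X) → J M) →
        ∀ M : X.Modules, Coh.IsCoh M → J M →
          CohB1.support M ⊆ (↑Z : Set X) ∧ CohB1.support M ≠ (↑Z : Set X) := by
      intro J hJ hsub hnot M hM hJM
      refine ⟨hsub M hM hJM, fun h => hnot fun E hE hEZ => ?_⟩
      exact serre_of_support M E hM hE J hJM hJ (h ▸ hEZ)
    obtain ⟨G, hG, hGs⟩ := exists_coh_support_eq Z
    exact (hgen _ (isSerreCoh_support_ne Z hZ) (key J₁ hJ₁ h₁ c₁) (key J₂ hJ₂ h₂ c₂) G hG hGs.le).2 hGs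
  · intro H
    rw [isPreirreducible_iff_isClosed_union_isClosed]
    intro z₁ z₂ hz₁ hz₂ hZz
    let Z₁ : TopologicalSpace.Closeds X := ⟨(↑Z : Set X) ∩ z₁, Z.isClosed.inter hz₁⟩
    let Z₂ : TopologicalSpace.Closeds X := ⟨(↑Z : Set X) ∩ z₂, Z.isClosed.inter hz₂⟩
    obtain ⟨G₁, hG₁, hGs₁⟩ := exists_coh_support_eq Z₁
    obtain ⟨G₂, hG₂, hGs₂⟩ := exists_coh_support_eq Z₂
    obtain ⟨G, hG, hGs⟩ := exists_coh_support_eq Z
    have hse : (ShortComplex.mk (biprod.inl : G₁ ⟶ G₁ ⊞ G₂) (biprod.snd : G₁ ⊞ G₂ ⟶ G₂)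
        (by simp)).ShortExact := (ShortComplex.Splitting.ofHasBinaryBiproduct G₁ G₂).shortExact
    have hF : Coh.IsCoh (G₁ ⊞ G₂) := isCoh_mid hse hG₁ hG₂
    have hFs : CohB1.support (G₁ ⊞ G₂) = (↑Z : Set X) := by
      rw [support_ses _ hse]
      change CohB1.support G₁ ∪ CohB1.support G₂ = _
      rw [hGs₁, hGs₂]
      change (↑Z : Set X) ∩ z₁ ∪ (↑Z : Set X) ∩ z₂ = _
      rw [← Set.inter_union_distrib_left]
      exact Set.inter_eq_left.2 hZz
    have hgen : ∀ Q : ObjectProperty X.Modules, IsSerreCoh Q →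
        (∀ M : X.Modules, Coh.IsCoh M → CohB1.support M ⊆ (↑Z : Set X) ∩ z₁ → Q M) →
        (∀ M : X.Modules, Coh.IsCoh M → CohB1.support M ⊆ (↑Z : Set X) ∩ z₂ → Q M) →
        ∀ M : X.Modules, Coh.IsCoh M → CohB1.support M ⊆ (↑Z : Set X) → Q M := by
      intro Q hQ q₁ q₂ M hM hMZ
      have hQF : Q (G₁ ⊞ G₂) :=
        (hQ _ hse hG₁ hF hG₂).2 ⟨q₁ G₁ hG₁ hGs₁.le, q₂ G₂ hG₂ hGs₂.le⟩
      exact serre_of_support (G₁ ⊞ G₂) M hF hM Q hQF hQ (hFs ▸ hMZ)
    rcases H (fun M => CohB1.support M ⊆ (↑Z : Set X) ∩ z₁)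
      (fun M => CohB1.support M ⊆ (↑Z : Set X) ∩ z₂) (isSerreCoh_support _) (isSerreCoh_support _)
      (fun M _ h => h.trans Set.inter_subset_left) (fun M _ h => h.trans Set.inter_subset_left)
      hgen with h | h
    · left
      exact fun x hx => ((h G hG hGs.le) (hGs ▸ hx)).2
    · right
      exact fun x hx => ((h G hG hGs.le) (hGs ▸ hx)).2

end Groth.Agent.Helper1.Dv
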