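import Mathlib
import Groth.Agent.Lib.Helper1.Dv39

/-!
# Generators of `K₀` of coherent modules supported in a closed subset (helper1)
-/

set_option autoImplicit false
universe u
open CategoryTheory CategoryTheory.Limits AlgebraicGeometry TopologicalSpace Opposite

namespace Groth.Agent.Helper1.Dv

open Groth.Agent.Helper1.QcCech Groth.Agent.Helper1.QcExt Groth.Agent.Helper1
open Groth.Agent.Helper1.CohACC Groth.Agent.Lead Groth.Agent.Helper1.SubSh

variable {X : Scheme.{u}}

/-- coherent with support in `Y'` -/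
abbrev PS (X : Scheme.{u}) (Y' : Set X) : ObjectProperty X.Modules :=
  fun G => Coh.IsCoh G ∧ CohB1.support G ⊆ Y'

variable {Y' : Set X}

theorem clS_of (M : X.Modules) (h : Coh.IsCoh M ∧ CohB1.support M ⊆ Y') :
    KZero.clSub (PS X Y') M = QuotientAddGroup.mk (FreeAbelianGroup.of ⟨M, h⟩) := dif_pos h

theorem clS_ses (S : ShortComplex X.Modules) (hS : S.ShortExact) (h1 : Coh.IsCoh S.X₁)
    (h2 : Coh.IsCoh S.X₂) (h3 : Coh.IsCoh S.X₃) (hs : CohB1.support S.X₂ ⊆ Y') :
    KZero.clSub (PS X Y') S.X₂ = KZero.clSub (PS X Y') S.X₁ + KZero.clSub (PS X Y') S.X₃ := by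
  have hs' := hs
  rw [support_ses S hS, Set.union_subset_iff] at hs'
  rw [clS_of _ ⟨h1, hs'.1⟩, clS_of _ ⟨h2, hs⟩, clS_of _ ⟨h3, hs'.2⟩, ← sub_eq_zero, ← sub_sub,
    ← QuotientAddGroup.mk_sub, ← QuotientAddGroup.mk_sub, QuotientAddGroup.eq_zero_iff]
  exact AddSubgroup.subset_closure ⟨S, ⟨h1, hs'.1⟩, ⟨h2, hs⟩, ⟨h3, hs'.2⟩, hS, rfl⟩

theorem clS_isZero [IsLocallyNoetherian X] (M : X.Modules) (hM : IsZero M) :
    KZero.clSub (PS X Y') M = 0 := by
  have hc : Coh.IsCoh M := isCoh_of_isZero hM _ (isCoh_structureModule X)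
  have hs : CohB1.support M ⊆ Y' := by
    rw [support_isZero hM]
    exact Set.empty_subset _
  have h := clS_ses _ (shortExact_id_zero M M hM) hc hc hc hs
  change KZero.clSub (PS X Y') M = KZero.clSub (PS X Y') M + KZero.clSub (PS X Y') M at h
  exact left_eq_add.1 h |>.symm ▸ rfl

theorem clS_iso [IsLocallyNoetherian X] {M N : X.Modules} (e : M ≅ N) (hM : Coh.IsCoh M)
    (hs : CohB1.support M ⊆ Y') :
    KZero.clSub (PS X Y') N = KZero.clSub (PS X Y') M := by
  obtain ⟨O, hO⟩ := HasZeroObject.zero (C := X.Modules)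
  have hN : Coh.IsCoh N := isCoh_of_iso e hM
  have hc : Coh.IsCoh O := isCoh_of_isZero hO _ (isCoh_structureModule X)
  have hsN : CohB1.support N ⊆ Y' := (support_iso e) ▸ hs
  have h := clS_ses _ (shortExact_iso_zero e O hO) hM hN hc hsN
  change KZero.clSub (PS X Y') N = KZero.clSub (PS X Y') M + KZero.clSub (PS X Y') O at h
  rw [h, clS_isZero O hO, add_zero]

/-- generators of `K₀` of the coherent modules supported in `Y'` -/
theorem k0_supported_generators [IsNoetherian X] {ι : Type u} (F : ι → X.Modules)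
    (hF : ∀ a : ι, Coh.IsCoh (F a) ∧ CohB1.support (F a) ⊆ Y')
    (hgen : ∀ (Z : Set X), IsClosed Z → IsIrreducible Z → Z ⊆ Y' → ∀ y : X,
      closure ({y} : Set X) = Z →
      ∃ a : ι, CohB1.support (F a) ⊆ Z ∧
        Module.length (X.presheaf.stalk y) ((F a).presheaf.stalk y) = 1) :
    AddSubgroup.closure (Set.range fun a : ι => KZero.clSub (PS X Y') (F a)) = ⊤ := by
  set H := AddSubgroup.closure (Set.range fun a : ι => KZero.clSub (PS X Y') (F a)) with hH
  have key : ∀ M : X.Modules, Coh.IsCoh M → CohB1.support M ⊆ Y' →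
      KZero.clSub (PS X Y') M ∈ H := by
    intro M hM hMs
    refine dev_simple (fun M => KZero.clSub (PS X Y') M ∈ H) ?_ ?_ Y' ?_ ?_ M hM hMs
    · intro M N e hK
      by_cases hM : Coh.IsCoh M ∧ CohB1.support M ⊆ Y'
      · rw [clS_iso e hM.1 hM.2]
        exact hK
      · have hN : ¬ (Coh.IsCoh N ∧ CohB1.support N ⊆ Y') := fun hN =>
          hM ⟨isCoh_of_iso e.symm hN.1, (support_iso e) ▸ hN.2⟩
        have : KZero.clSub (PS X Y') N = 0 := dif_neg hN
        rw [this]
        exact H.zero_mem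
    · intro M hM
      change KZero.clSub (PS X Y') M ∈ H
      rw [clS_isZero M hM]
      exact H.zero_mem
    · intro S hS h1 h2 h3 hs
      have h := clS_ses S hS h1 h2 h3 hs
      refine ⟨fun k2 k3 => ?_, fun k1 k3 => ?_⟩
      · change KZero.clSub (PS X Y') S.X₁ ∈ H
        have : KZero.clSub (PS X Y') S.X₁ =
            KZero.clSub (PS X Y') S.X₂ - KZero.clSub (PS X Y') S.X₃ := by
          rw [h, add_sub_cancel_right]
        rw [this]
        exact H.sub_mem k2 k3
      · change KZero.clSub (PS X Y') S.X₂ ∈ H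
        rw [h]
        exact H.add_mem k1 k3
    · intro Z hZ hirr hZX' ξ hξ _
      obtain ⟨a, haZ, hlen⟩ := hgen Z hZ hirr hZX' ξ hξ
      exact ⟨F a, (hF a).1, AddSubgroup.subset_closure ⟨a, rfl⟩, haZ,
        Module.length_eq_one_iff.1 hlen⟩
  rw [eq_top_iff]
  intro c hc
  clear hc
  obtain ⟨c, rfl⟩ := QuotientAddGroup.mk_surjective c
  induction c using FreeAbelianGroup.induction_on with
  | zero => exact H.zero_mem
  | of x =>
    have := key x.1 x.2.1 x.2.2
    rw [clS_of x.1 x.2] at this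
    exact this
  | neg x ih =>
    rw [QuotientAddGroup.mk_neg]
    exact H.neg_mem ih
  | add x y hx hy =>
    rw [QuotientAddGroup.mk_add]
    exact H.add_mem hx hy

end Groth.Agent.Helper1.Dv
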