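import Mathlib
import Groth.Agent.Lib.Helper5.Misc.ExtAdjAcyc
import Groth.Agent.Lib.Helper4.LinBridge1

/-!
# The Leray edge map `H¹(Y, f_* F) → H¹(X, F)` is injective (helper1)
-/

set_option autoImplicit false
set_option linter.style.haveILetI false
set_option linter.unusedSectionVars false
universe w w' v v' u u'
open CategoryTheory CategoryTheory.Limits Abelian

namespace Groth.Agent.Helper1.EdgeInj

open Groth.Agent.Lib.Helper5.ExtAdjAcyc

section Abstract

variable {A : Type u} [Category.{v} A] [Abelian A] {B : Type u'} [Category.{v'} B] [Abelian B]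
  [HasExt.{w} A] [HasExt.{w'} B]
  {L : B ⥤ A} {R : A ⥤ B} (adj : L ⊣ R) [L.Additive] [R.Additive]
  [PreservesFiniteLimits L] [PreservesFiniteColimits L]

/-- the comparison of the two connecting maps -/
theorem key' {F J : A} (i : F ⟶ J) [Mono i] [Mono (R.map i)]
    (hS : (ShortComplex.mk i (cokernel.π i) (cokernel.condition i)).ShortExact)
    (hT : (ShortComplex.mk (R.map i) (cokernel.π (R.map i))
      (cokernel.condition (R.map i))).ShortExact)
    (j : cokernel (R.map i) ⟶ R.obj (cokernel i))
    (hj : cokernel.π (R.map i) ≫ j = R.map (cokernel.π i)) :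
    (hT.extClass.mapExactFunctor L).comp (Ext.mk₀ (adj.counit.app F)) (add_zero 1) =
      (Ext.mk₀ (L.map j ≫ adj.counit.app (cokernel i))).comp hS.extClass (zero_add 1) := by
  rw [Ext.mapExactFunctor_extClass]
  let φ : (ShortComplex.mk (R.map i) (cokernel.π (R.map i))
      (cokernel.condition (R.map i))).map L ⟶
      ShortComplex.mk i (cokernel.π i) (cokernel.condition i) :=
    ShortComplex.homMk (adj.counit.app F) (adj.counit.app J)
      (L.map j ≫ adj.counit.app (cokernel i))
      (adj.counit_naturality i).symm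
      (by
        change adj.counit.app J ≫ cokernel.π i =
          L.map (cokernel.π (R.map i)) ≫ L.map j ≫ adj.counit.app (cokernel i)
        rw [← L.map_comp_assoc, hj]
        exact (adj.counit_naturality (cokernel.π i)).symm)
  exact ShortComplex.ShortExact.extClass_naturality (hT.map_of_exact L) hS φ

theorem Φ_comp_extClass' (X : B) {F J : A} (i : F ⟶ J) [Mono i] [Mono (R.map i)]
    (hS : (ShortComplex.mk i (cokernel.π i) (cokernel.condition i)).ShortExact)
    (hT : (ShortComplex.mk (R.map i) (cokernel.π (R.map i))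
      (cokernel.condition (R.map i))).ShortExact)
    (j : cokernel (R.map i) ⟶ R.obj (cokernel i))
    (hj : cokernel.π (R.map i) ≫ j = R.map (cokernel.π i))
    (e : X ⟶ cokernel (R.map i)) :
    Φ adj X F 1 ((Ext.mk₀ e).comp hT.extClass (zero_add 1)) =
      (Ext.mk₀ ((adj.homEquiv X (cokernel i)).symm (e ≫ j))).comp hS.extClass (zero_add 1) := by
  rw [Φ_apply, Ext.mapExactFunctor_comp, Ext.comp_assoc_of_third_deg_zero,
    key' adj i hS hT j hj, Ext.mapExactFunctor_mk₀, ← Ext.comp_assoc_of_second_deg_zero,
    Ext.mk₀_comp_mk₀, Adjunction.homEquiv_counit, L.map_comp, Category.assoc]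

attribute [local instance] Ext.subsingleton_of_injective in
/-- **the adjunction map on `Ext¹` is injective** -/
theorem Φ_injective_one [EnoughInjectives A] (X : B) (F : A) :
    Function.Injective (Φ adj X F 1) := by
  haveI : PreservesFiniteLimits R := by
    have := adj.rightAdjoint_preservesLimits
    infer_instance
  let I : InjectivePresentation F := Classical.arbitrary _
  haveI : Injective I.J := I.injective
  haveI : Mono I.f := I.mono
  haveI : Injective (R.obj I.J) := adj.map_injective _ I.injective
  haveI : Mono (R.map I.f) := inferInstance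
  have hS : (ShortComplex.mk I.f (cokernel.π I.f) (cokernel.condition I.f)).ShortExact :=
    { exact := ShortComplex.exact_cokernel I.f }
  have hT : (ShortComplex.mk (R.map I.f) (cokernel.π (R.map I.f))
      (cokernel.condition (R.map I.f))).ShortExact :=
    { exact := ShortComplex.exact_cokernel (R.map I.f) }
  have hw : R.map I.f ≫ R.map (cokernel.π I.f) = 0 := by
    rw [← R.map_comp, cokernel.condition, R.map_zero]
  let j : cokernel (R.map I.f) ⟶ R.obj (cokernel I.f) :=
    cokernel.desc (R.map I.f) (R.map (cokernel.π I.f)) hw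
  have hj : cokernel.π (R.map I.f) ≫ j = R.map (cokernel.π I.f) := cokernel.π_desc _ _ _
  have hex : ((ShortComplex.mk I.f (cokernel.π I.f) (cokernel.condition I.f)).map R).Exact :=
    hS.exact.map_of_mono_of_preservesKernel R hS.mono_f inferInstance
  haveI hjm : Mono j := hex.mono_cokernelDesc
  refine (injective_iff_map_eq_zero (Φ adj X F 1)).2 fun x hx => ?_
  obtain ⟨e', he'⟩ := Ext.covariant_sequence_exact₁ X hT x (Subsingleton.elim _ _) (zero_add 1)
  obtain ⟨e, rfl⟩ := (Ext.mk₀_bijective _ _).2 e'
  rw [← he', Φ_comp_extClass' adj X I.f hS hT j hj e] at hx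
  obtain ⟨g', hg'⟩ := Ext.covariant_sequence_exact₃ (L.obj X) hS _ (zero_add 1) hx
  obtain ⟨g, rfl⟩ := (Ext.mk₀_bijective _ _).2 g'
  rw [Ext.mk₀_comp_mk₀] at hg'
  have h1 : g ≫ cokernel.π I.f = (adj.homEquiv X (cokernel I.f)).symm (e ≫ j) :=
    (Ext.mk₀_bijective _ _).1 hg'
  have h2 : adj.homEquiv X I.J g ≫ R.map (cokernel.π I.f) = e ≫ j := by
    rw [← Adjunction.homEquiv_naturality_right, h1, Equiv.apply_symm_apply]
  have h3 : adj.homEquiv X I.J g ≫ cokernel.π (R.map I.f) = e := by
    rw [← cancel_mono j, Category.assoc, hj, h2]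
  rw [← he', ← h3, ← Ext.mk₀_comp_mk₀, Ext.comp_assoc_of_second_deg_zero]
  have h4 := hT.comp_extClass
  rw [h4, Ext.comp_zero]

end Abstract

section Top

variable {X Y : TopCat.{u}} (f : X ⟶ Y)

open Groth.Agent.Lib.Helper4.LinBridge1

/-- the Leray edge map is injective in degree one -/
theorem lerayMap_injective_one (F : CohTop.Ab X) : Function.Injective (lerayMap f F 1) := by
  have hΦ : Function.Injective
      (Φ.{u, u} (Groth.Agent.S0462.adj f) (Groth.Agent.S0462.ZZ Y) F 1) :=
    Φ_injective_one _ _ _
  have hpre : Function.Injective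
      (fun e : Ext ((CohTop.pull f).obj (Groth.Agent.S0462.ZZ Y)) F 1 =>
        (Ext.mk₀ (zIso f).inv).comp e (zero_add 1)) := by
    intro e e' h
    have h' := congrArg (fun t => (Ext.mk₀ (zIso f).hom).comp t (zero_add 1)) h
    beta_reduce at h'
    rwa [← Ext.comp_assoc_of_second_deg_zero, ← Ext.comp_assoc_of_second_deg_zero,
      Ext.mk₀_comp_mk₀, Iso.hom_inv_id, Ext.mk₀_id_comp, Ext.mk₀_id_comp] at h'
  exact hpre.comp hΦ

end Top

end Groth.Agent.Helper1.EdgeInj
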