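import Mathlib
set_option autoImplicit false
open TensorProduct
universe u
namespace Groth.Agent.Helper1.EpiCard

variable {R S : Type u} [CommRing R] [CommRing S] [Algebra R S]

/-- the type of codes -/
abbrev Code (R : Type u) : Type u := Σ (r : ℕ), Σ (k : ℕ), (Fin (r + 2) → Fin k → R)

/-- `s` is encoded by the code `c` -/
def Good (c : Code R) (s : S) : Prop :=
  ∃ (y : Fin c.2.1 → S) (m : Fin c.1 → S),
    s = ∑ j, c.2.2 0 j • y j ∧ (-1 : S) = ∑ j, c.2.2 1 j • y j ∧
    (∀ i : Fin c.1, (0 : S) = ∑ j, c.2.2 i.succ.succ j • y j) ∧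
    ∀ j, c.2.2 0 j • (1 : S) + c.2.2 1 j • s + ∑ i : Fin c.1, c.2.2 i.succ.succ j • m i = 0

lemma good_unique (c : Code R) (s s' : S) (h : Good c s) (h' : Good c s') : s = s' := by
  obtain ⟨r, k, a⟩ := c
  obtain ⟨y, m, h1, h2, h3, h4⟩ := h
  obtain ⟨y', m', h1', h2', h3', h4'⟩ := h'
  dsimp only at *
  have e : ∀ j, a 0 j • (1 : S) = -(a 1 j • s') - ∑ i : Fin r, a i.succ.succ j • m' i := by
    intro j
    have := h4' j
    linear_combination this
  have hy : ∀ j, a 0 j • y j = (a 0 j • (1 : S)) * y j := by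
    intro j; rw [smul_mul_assoc, one_mul]
  calc s = ∑ j, a 0 j • y j := h1
    _ = ∑ j, (-(a 1 j • s') - ∑ i : Fin r, a i.succ.succ j • m' i) * y j := by
        refine Finset.sum_congr rfl fun j _ => ?_
        rw [hy, e]
    _ = -(s' * ∑ j, a 1 j • y j) - ∑ i : Fin r, m' i * ∑ j, a i.succ.succ j • y j := by
        simp only [sub_mul, Finset.sum_sub_distrib, Finset.mul_sum, Finset.sum_mul, neg_mul,
          Finset.sum_neg_distrib]
        congr 1
        · congr 1
          refine Finset.sum_congr rfl fun j _ => ?_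
          rw [smul_mul_assoc, mul_smul_comm]
        · rw [Finset.sum_comm]
          refine Finset.sum_congr rfl fun i _ => Finset.sum_congr rfl fun j _ => ?_
          rw [smul_mul_assoc, mul_smul_comm]
    _ = s' := by
        rw [← h2]
        simp only [← h3, mul_zero, Finset.sum_const_zero]
        ring

lemma exists_good [Algebra.IsEpi R S] (s : S) : ∃ c : Code R, Good c s := by
  classical
  have hepi : (1 : S) ⊗ₜ[R] s = s ⊗ₜ[R] (1 : S) :=
    (Algebra.isEpi_iff_forall_one_tmul_eq R S).mp inferInstance s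
  let P : Submodule R S := Submodule.span R {1, s}
  have hPfg : P.FG := Submodule.fg_span (by simp)
  have h1P : (1 : S) ∈ P := Submodule.subset_span (by simp)
  have hsP : s ∈ P := Submodule.subset_span (by simp)
  let t : P ⊗[R] S := (⟨1, h1P⟩ : P) ⊗ₜ[R] s - (⟨s, hsP⟩ : P) ⊗ₜ[R] (1 : S)
  have ht : LinearMap.rTensor S P.subtype t = 0 := by
    simp only [t, map_sub, LinearMap.rTensor_tmul, Submodule.subtype_apply]
    rw [hepi, sub_self]
  obtain ⟨Q, hPQ, hQfg, hQ⟩ := TensorProduct.eq_zero_of_fg_of_subtype_eq_zero hPfg ht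
  have : Module.Finite R Q := Module.Finite.iff_fg.mpr hQfg
  obtain ⟨r, q, hq⟩ := Module.Finite.exists_fin (R := R) (M := Q)
  let m : Fin (r + 2) → Q := Fin.cons ⟨1, hPQ h1P⟩ (Fin.cons ⟨s, hPQ hsP⟩ q)
  let n : Fin (r + 2) → S := Fin.cons s (Fin.cons (-1) (fun _ => 0))
  have hm : Submodule.span R (Set.range m) = ⊤ := by
    rw [eq_top_iff, ← hq]
    apply Submodule.span_mono
    rintro _ ⟨i, rfl⟩
    exact ⟨i.succ.succ, by simp [m]⟩
  have hsum : ∑ i, m i ⊗ₜ[R] n i = (0 : Q ⊗[R] S) := by
    rw [Fin.sum_univ_succ, Fin.sum_univ_succ]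
    simp only [m, n, Fin.cons_zero, Fin.cons_succ, TensorProduct.tmul_zero, Finset.sum_const_zero,
      add_zero, TensorProduct.tmul_neg]
    have : LinearMap.rTensor S (Submodule.inclusion hPQ) t = 0 := hQ
    simp only [t, map_sub, LinearMap.rTensor_tmul] at this
    rw [sub_eq_add_neg] at this
    exact this
  obtain ⟨k, a, y, hy, ha⟩ := TensorProduct.vanishesTrivially_of_sum_tmul_eq_zero R hm hsum
  refine ⟨⟨r, k, a⟩, y, fun i => (q i : S), ?_, ?_, ?_, ?_⟩
  · have := hy 0
    simpa [n] using this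
  · have := hy 1
    simpa [n] using this
  · intro i
    have := hy i.succ.succ
    simpa [n] using this
  · intro j
    have := congrArg (fun x : Q => (x : S)) (ha j)
    simp only [Fin.sum_univ_succ, m, Fin.cons_zero, Fin.cons_succ] at this
    simpa [add_assoc] using this

open Cardinal in
lemma card_code_le [Infinite R] : #(Code R) ≤ #R := by
  have hR : ℵ₀ ≤ #R := Cardinal.aleph0_le_mk R
  have h1 : ∀ (r k : ℕ), #(Fin (r + 2) → Fin k → R) ≤ #R := by
    intro r k
    have e : (Fin (r + 2) → Fin k → R) ≃ (Fin (r + 2) × Fin k → R) :=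
      (Equiv.curry _ _ _).symm
    rw [Cardinal.mk_congr e, Cardinal.mk_arrow]
    simp only [Cardinal.mk_fintype, Fintype.card_prod, Fintype.card_fin, Cardinal.lift_natCast,
      Cardinal.lift_uzero]
    exact Cardinal.power_nat_le hR
  have h2 : ∀ r : ℕ, #(Σ (k : ℕ), (Fin (r + 2) → Fin k → R)) ≤ #R := by
    intro r
    rw [Cardinal.mk_sigma]
    refine (Cardinal.sum_le_sum _ (fun _ => #R) (h1 r)).trans ?_
    rw [Cardinal.sum_const]
    simp only [Cardinal.mk_nat, Cardinal.lift_aleph0, Cardinal.lift_uzero]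
    rw [Cardinal.aleph0_mul_eq hR]
  rw [Cardinal.mk_sigma]
  refine (Cardinal.sum_le_sum _ (fun _ => #R) h2).trans ?_
  rw [Cardinal.sum_const]
  simp only [Cardinal.mk_nat, Cardinal.lift_aleph0, Cardinal.lift_uzero]
  rw [Cardinal.aleph0_mul_eq hR]

theorem S6375 (R S : Type u) [CommRing R] [CommRing S] [Algebra R S] [Algebra.IsEpi R S]
    [Infinite R] : Cardinal.mk S ≤ Cardinal.mk R := by
  choose code hcode using exists_good (R := R) (S := S)
  have hinj : Function.Injective code := by
    intro s s' h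
    have h1 := hcode s
    have h2 := hcode s'
    rw [← h] at h2
    exact good_unique (code s) s s' h1 h2
  exact (Cardinal.mk_le_of_injective hinj).trans card_code_le

end Groth.Agent.Helper1.EpiCard
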