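import Mathlib

/-!
# Epimorphisms of commutative rings

Helper library of helper1.
-/

set_option autoImplicit false

namespace Groth.Agent.Helper1.EpiRing

open TensorProduct

universe u

section BaseChange

variable (R S T : Type*) [CommRing R] [CommRing S] [CommRing T] [Algebra R S] [Algebra R T]

/-- Base change of an epimorphism is an epimorphism. -/
theorem isEpi_baseChange [Algebra.IsEpi R S] : Algebra.IsEpi T (T ⊗[R] S) := by
  rw [Algebra.isEpi_iff_forall_one_tmul_eq]
  have key : ∀ s : S, (1 : T ⊗[R] S) ⊗ₜ[T] ((1 : T) ⊗ₜ[R] s) =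
      ((1 : T) ⊗ₜ[R] s) ⊗ₜ[T] (1 : T ⊗[R] S) := by
    intro s
    have h := congrArg (fun z => mapOfCompatibleSMul T R R (T ⊗[R] S) (T ⊗[R] S)
      (TensorProduct.map (TensorProduct.mk R T S 1) (TensorProduct.mk R T S 1) z))
      ((Algebra.isEpi_iff_forall_one_tmul_eq R S).1 inferInstance s)
    simpa [Algebra.TensorProduct.one_def] using h
  intro x
  induction x using TensorProduct.induction_on with
  | zero => simp
  | tmul c s =>
    have hcs : c ⊗ₜ[R] s = c • ((1 : T) ⊗ₜ[R] s) := by
      rw [TensorProduct.smul_tmul', smul_eq_mul, mul_one]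
    rw [hcs, TensorProduct.tmul_smul, key, TensorProduct.smul_tmul']
  | add x y hx hy => rw [TensorProduct.tmul_add, TensorProduct.add_tmul, hx, hy]

end BaseChange

/-- An epimorphism from a field to a nontrivial ring is bijective. -/
theorem bijective_algebraMap_of_isEpi_field (k B : Type*) [Field k] [CommRing B] [Algebra k B]
    [Nontrivial B] [Algebra.IsEpi k B] : Function.Bijective (algebraMap k B) := by
  refine ⟨(algebraMap k B).injective, ?_⟩
  intro b
  by_contra hb
  have hb' : b ∉ Submodule.span k {(1 : B)} := by
    intro h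
    obtain ⟨c, hc⟩ := Submodule.mem_span_singleton.1 h
    exact hb ⟨c, by rw [Algebra.algebraMap_eq_smul_one, hc]⟩
  obtain ⟨φ, hφb, hφ⟩ := Submodule.exists_dual_map_eq_bot_of_notMem hb' inferInstance
  have hφ1 : φ 1 = 0 := by
    have : φ 1 ∈ (Submodule.span k {(1 : B)}).map φ :=
      ⟨1, Submodule.mem_span_singleton_self 1, rfl⟩
    rw [hφ] at this
    exact (Submodule.mem_bot k).1 this
  have h := congrArg (fun z => TensorProduct.lid k B (φ.rTensor B z))
    ((Algebra.isEpi_iff_forall_one_tmul_eq k B).1 inferInstance b)
  simp only [LinearMap.rTensor_tmul, TensorProduct.lid_tmul, hφ1, zero_smul] at h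
  have h2 : φ b = 0 := by
    rcases smul_eq_zero.1 h.symm with h3 | h3
    · exact h3
    · exact absurd h3 one_ne_zero
  exact hφb h2

theorem S6374 (R S : Type u) [CommRing R] [CommRing S] [Algebra R S]
    [Algebra.IsEpi R S] :
    Function.Injective (PrimeSpectrum.comap (algebraMap R S)) ∧
      ∀ (p : Ideal R) [p.IsPrime],
        Subsingleton (p.Fiber S) ∨
          Function.Bijective (algebraMap p.ResidueField (p.Fiber S)) := by
  have key : ∀ (p : Ideal R) [p.IsPrime], Subsingleton (p.Fiber S) ∨
      Function.Bijective (algebraMap p.ResidueField (p.Fiber S)) := by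
    intro p _
    rcases subsingleton_or_nontrivial (p.Fiber S) with h | h
    · exact Or.inl h
    · right
      haveI := isEpi_baseChange R S p.ResidueField
      exact bijective_algebraMap_of_isEpi_field p.ResidueField (p.Fiber S)
  refine ⟨?_, key⟩
  intro q₁ q₂ h
  have hsub : Subsingleton (PrimeSpectrum
      ((PrimeSpectrum.comap (algebraMap R S) q₁).asIdeal.Fiber S)) := by
    rcases key (PrimeSpectrum.comap (algebraMap R S) q₁).asIdeal with h1 | h1
    · infer_instance
    · exact (PrimeSpectrum.comapEquiv
        (RingEquiv.ofBijective (algebraMap _ _) h1)).symm.toEquiv.subsingleton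
  have h3 : (⟨q₁, rfl⟩ : PrimeSpectrum.comap (algebraMap R S) ⁻¹'
      {PrimeSpectrum.comap (algebraMap R S) q₁}) = ⟨q₂, h.symm⟩ :=
    (PrimeSpectrum.preimageEquivFiber R S _).injective (Subsingleton.elim _ _)
  exact congrArg Subtype.val h3

section Local

variable (R S : Type u) [CommRing R] [CommRing S] [Algebra R S]

theorem isEpi_localization [Algebra.IsEpi R S] (p : Ideal R) [p.IsPrime] :
    Algebra.IsEpi (Localization.AtPrime p)
      (Localization (Algebra.algebraMapSubmonoid S p.primeCompl)) := by
  rw [Algebra.isEpi_iff_forall_one_tmul_eq]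
  -- agreement on the image of `S`
  have key : ∀ s : S,
      (1 : Localization (Algebra.algebraMapSubmonoid S p.primeCompl)) ⊗ₜ[Localization.AtPrime p]
        (algebraMap S (Localization (Algebra.algebraMapSubmonoid S p.primeCompl)) s) =
      (algebraMap S (Localization (Algebra.algebraMapSubmonoid S p.primeCompl)) s)
        ⊗ₜ[Localization.AtPrime p] 1 := by
    intro s
    have h := congrArg (fun z => mapOfCompatibleSMul (Localization.AtPrime p) R R
      (Localization (Algebra.algebraMapSubmonoid S p.primeCompl))
      (Localization (Algebra.algebraMapSubmonoid S p.primeCompl))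
      (TensorProduct.map
        (IsScalarTower.toAlgHom R S
          (Localization (Algebra.algebraMapSubmonoid S p.primeCompl))).toLinearMap
        (IsScalarTower.toAlgHom R S
          (Localization (Algebra.algebraMapSubmonoid S p.primeCompl))).toLinearMap z))
      ((Algebra.isEpi_iff_forall_one_tmul_eq R S).1 inferInstance s)
    simpa using h
  intro x
  obtain ⟨⟨s, t⟩, hst⟩ := IsLocalization.surj (Algebra.algebraMapSubmonoid S p.primeCompl) x
  obtain ⟨t₀, ht₀, ht₀'⟩ := t.2
  have hu : IsUnit (algebraMap R (Localization.AtPrime p) t₀) :=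
    IsLocalization.map_units (Localization.AtPrime p) (⟨t₀, ht₀⟩ : p.primeCompl)
  have hux : (algebraMap R (Localization.AtPrime p) t₀) • x =
      algebraMap S (Localization (Algebra.algebraMapSubmonoid S p.primeCompl)) s := by
    rw [Algebra.smul_def, ← IsScalarTower.algebraMap_apply, ← hst,
      IsScalarTower.algebraMap_apply R S (Localization (Algebra.algebraMapSubmonoid S p.primeCompl)),
      ht₀', mul_comm]
  rw [← hu.smul_left_cancel, ← TensorProduct.tmul_smul, TensorProduct.smul_tmul', hux]
  exact key s

theorem S6371 :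
    Algebra.IsEpi R S ↔ ∀ (p : Ideal R) [p.IsPrime],
      Algebra.IsEpi (Localization.AtPrime p)
        (Localization (Algebra.algebraMapSubmonoid S p.primeCompl)) := by
  constructor
  · intro h p _
    exact isEpi_localization R S p
  · intro h
    rw [Algebra.isEpi_iff_forall_one_tmul_eq]
    intro s
    rw [← sub_eq_zero]
    by_contra hne
    -- annihilator of the difference
    let I : Ideal R := LinearMap.ker (LinearMap.toSpanSingleton R (S ⊗[R] S)
      ((1 : S) ⊗ₜ[R] s - s ⊗ₜ[R] 1))
    have hI : I ≠ ⊤ := by
      intro htop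
      have h1 : (1 : R) ∈ I := htop ▸ Submodule.mem_top
      have h2 : (1 : R) • ((1 : S) ⊗ₜ[R] s - s ⊗ₜ[R] 1) = 0 := h1
      rw [one_smul] at h2
      exact hne h2
    obtain ⟨P, hP, hle⟩ := Ideal.exists_le_maximal I hI
    haveI := hP.isPrime
    have hPepi := h P
    have h3 := congrArg (fun z => mapOfCompatibleSMul R (Localization.AtPrime P) R
      (Localization (Algebra.algebraMapSubmonoid S P.primeCompl))
      (Localization (Algebra.algebraMapSubmonoid S P.primeCompl)) z)
      ((Algebra.isEpi_iff_forall_one_tmul_eq (Localization.AtPrime P)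
        (Localization (Algebra.algebraMapSubmonoid S P.primeCompl))).1 hPepi
        (algebraMap S (Localization (Algebra.algebraMapSubmonoid S P.primeCompl)) s))
    simp only [mapOfCompatibleSMul_tmul] at h3
    have h4 : (TensorProduct.map
        (IsScalarTower.toAlgHom R S
          (Localization (Algebra.algebraMapSubmonoid S P.primeCompl))).toLinearMap
        (IsScalarTower.toAlgHom R S
          (Localization (Algebra.algebraMapSubmonoid S P.primeCompl))).toLinearMap)
        ((1 : S) ⊗ₜ[R] s - s ⊗ₜ[R] 1) = 0 := by
      rw [map_sub, TensorProduct.map_tmul, TensorProduct.map_tmul]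
      simp only [AlgHom.toLinearMap_apply, IsScalarTower.coe_toAlgHom', map_one]
      rw [h3, sub_self]
    obtain ⟨t, ht⟩ := (IsLocalizedModule.eq_zero_iff P.primeCompl _).1 h4
    exact t.2 (hle ht)

end Local

end Groth.Agent.Helper1.EpiRing
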