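import Mathlib
import Groth.Prelude
import Groth.Agent.Lib.Helper1.CurveGlueC

set_option autoImplicit false
set_option backward.isDefEq.respectTransparency.types false
set_option synthInstance.maxHeartbeats 400000
set_option linter.style.haveILetI false
set_option linter.unusedSectionVars false
set_option linter.unusedVariables false

universe u

open CategoryTheory CategoryTheory.Limits AlgebraicGeometry TopologicalSpace Opposite TensorProduct

namespace Groth.Agent.Helper1.EtIntClosed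

open Groth.Agent.Helper1.QcCech (resR resR_resR)
open Groth.Agent.Helper1.CurveGlue (glue_functions functions_eq_of_locally)

/-! ### Algebra -/

theorem alg_key {R S C D : Type u} [CommRing R] [CommRing S] [CommRing C] [CommRing D]
    [Algebra R S] [Algebra.Smooth R S] [Algebra R C] [Algebra S D] (f : R)
    [IsLocalization.Away f C] [IsLocalization.Away (algebraMap R S f) D]
    (hC : ∀ c : C, IsIntegral R c → c ∈ Set.range (algebraMap R C))
    (d : D) (hd : IsIntegral S d) : d ∈ Set.range (algebraMap S D) := by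
  have e : (S ⊗[R] C) ≃ₐ[S] D :=
    IsLocalization.algEquiv (Submonoid.powers (algebraMap R S f)) (S ⊗[R] C) D
  have hd' : IsIntegral S (e.symm d) := (isIntegral_algEquiv e.symm).mpr hd
  obtain ⟨z, hz⟩ :=
    (TensorProduct.toIntegralClosure_bijective_of_smooth (R := R) (S := S) (B := C)).2
      ⟨e.symm d, hd'⟩
  have key : ∀ z : S ⊗[R] integralClosure R C,
      ((TensorProduct.toIntegralClosure R S C z : integralClosure S (S ⊗[R] C)) : S ⊗[R] C) ∈
        Set.range (algebraMap S (S ⊗[R] C)) := by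
    intro z
    induction z using TensorProduct.induction_on with
    | zero => exact ⟨0, by simp⟩
    | tmul s c =>
      obtain ⟨r, hr⟩ := hC c.1 c.2
      refine ⟨r • s, ?_⟩
      have h1 : ((TensorProduct.toIntegralClosure R S C (s ⊗ₜ[R] c) :
          integralClosure S (S ⊗[R] C)) : S ⊗[R] C) = s ⊗ₜ[R] (c : C) := rfl
      calc algebraMap S (S ⊗[R] C) (r • s) = (r • s) ⊗ₜ[R] (1 : C) := by
            rw [Algebra.TensorProduct.algebraMap_apply]; rfl
        _ = s ⊗ₜ[R] (r • (1 : C)) := TensorProduct.smul_tmul r s 1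
        _ = s ⊗ₜ[R] (c : C) := by rw [← Algebra.algebraMap_eq_smul_one, hr]
        _ = _ := h1.symm
    | add x y hx hy =>
      obtain ⟨a, ha⟩ := hx
      obtain ⟨b, hb⟩ := hy
      refine ⟨a + b, ?_⟩
      rw [map_add (TensorProduct.toIntegralClosure R S C) x y, Subalgebra.coe_add, ← ha, ← hb,
        map_add]
  obtain ⟨s, hs⟩ := key z
  refine ⟨s, ?_⟩
  have h2 : algebraMap S (S ⊗[R] C) s = e.symm d := by
    rw [hs, hz]
  calc algebraMap S D s = e (algebraMap S (S ⊗[R] C) s) := (e.commutes s).symm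
    _ = e (e.symm d) := by rw [h2]
    _ = d := e.apply_symm_apply d

theorem loc_inj {R S D : Type u} [CommRing R] [CommRing S] [CommRing D] [Algebra R S]
    [Module.Flat R S] [Algebra S D] (f : R) (hf : f ∈ nonZeroDivisors R)
    [IsLocalization.Away (algebraMap R S f) D] : Function.Injective (algebraMap S D) := by
  rw [injective_iff_map_eq_zero]
  intro s hs
  obtain ⟨⟨_, n, rfl⟩, hm⟩ :=
    (IsLocalization.map_eq_zero_iff (Submonoid.powers (algebraMap R S f)) D s).mp hs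
  have hreg : IsSMulRegular S (f ^ n) :=
    (Module.Flat.isSMulRegular_of_nonZeroDivisors (M := S) hf).pow n
  apply hreg
  show f ^ n • s = f ^ n • (0 : S)
  rw [smul_zero, Algebra.smul_def, map_pow]
  exact hm

theorem isIntegralElem_of_square {R A R' A' : Type*} [CommRing R] [CommRing A] [CommRing R']
    [CommRing A'] (φ : R →+* A) (ψ : R →+* R') (φ' : R' →+* A') (χ : A →+* A')
    (hcomm : χ.comp φ = φ'.comp ψ) (a : A) (ha : φ.IsIntegralElem a) :
    φ'.IsIntegralElem (χ a) := by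
  obtain ⟨p, hp, hpa⟩ := ha
  refine ⟨p.map ψ, hp.map ψ, ?_⟩
  rw [Polynomial.eval₂_map, ← hcomm, ← Polynomial.hom_eval₂, hpa, map_zero]

/-! ### Schemes -/

/-- `O_X(U)` is integrally closed in `O_X(O)` (via restriction), `O ≤ U`. -/
def ICI (X : Scheme.{u}) (U O : X.Opens) (h : O ≤ U) : Prop :=
  ∀ s : Γ(X, O), (resR h).IsIntegralElem s → s ∈ Set.range (resR h)

theorem inf_interior_eq_basicOpen {X : Scheme.{u}} (IX : X.IdealSheafData) (U : X.affineOpens)
    (f : Γ(X, U.1)) (hf : IX.ideal U = Ideal.span {f}) :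
    U.1 ⊓ ModPair.interior IX = X.basicOpen f := by
  refine SetLike.ext (fun x => ?_)
  constructor
  · intro hx
    have hxU : x ∈ U.1 := (Opens.mem_inf.mp hx).1
    have hxI : x ∉ IX.support := (Opens.mem_inf.mp hx).2
    by_contra hxf
    apply hxI
    rw [Scheme.IdealSheafData.mem_support_iff_of_mem (U := U) hxU, hf, Scheme.zeroLocus_span,
      Scheme.zeroLocus_singleton]
    exact hxf
  · intro hx
    have hxU : x ∈ U.1 := X.basicOpen_le f hx
    refine Opens.mem_inf.mpr ⟨hxU, ?_⟩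
    show x ∉ IX.support
    intro hxS
    rw [Scheme.IdealSheafData.mem_support_iff_of_mem (U := U) hxU, hf, Scheme.zeroLocus_span,
      Scheme.zeroLocus_singleton] at hxS
    exact hxS hx

theorem local_transfer {X Y : Scheme.{u}} (g : Y ⟶ X) [Etale g] (U : X.Opens)
    (hU : IsAffineOpen U) (f : Γ(X, U)) (O : X.Opens) (hOU : O ≤ U) (hO : O = X.basicOpen f)
    (hint : ICI X U O hOU) (V : Y.Opens) (hV : IsAffineOpen V) (e : V ≤ g ⁻¹ᵁ U)
    (O' : Y.Opens) (hO'V : O' ≤ V) (hO' : O' = V ⊓ g ⁻¹ᵁ O) : ICI Y V O' hO'V := by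
  subst hO
  have hO'' : O' = Y.basicOpen ((g.appLE U V e).hom f) :=
    hO'.trans (Scheme.basicOpen_appLE g V U e f).symm
  subst hO''
  letI : Algebra Γ(X, U) Γ(Y, V) := (g.appLE U V e).hom.toAlgebra
  haveI : Algebra.Etale Γ(X, U) Γ(Y, V) := Etale.etale_appLE g hU hV e
  haveI : Algebra.Smooth Γ(X, U) Γ(Y, V) := inferInstance
  haveI : IsLocalization.Away f Γ(X, X.basicOpen f) := hU.isLocalization_basicOpen f
  haveI : IsLocalization.Away (algebraMap Γ(X, U) Γ(Y, V) f)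
      Γ(Y, Y.basicOpen ((g.appLE U V e).hom f)) :=
    hV.isLocalization_basicOpen ((g.appLE U V e).hom f)
  intro t ht
  exact alg_key (R := Γ(X, U)) (S := Γ(Y, V)) (C := Γ(X, X.basicOpen f))
    (D := Γ(Y, Y.basicOpen ((g.appLE U V e).hom f))) f (fun c hc => hint c hc) t ht

theorem restrict_injective {X Y : Scheme.{u}} (IX : X.IdealSheafData)
    (hX : BlowUp.IsEffCartierIdeal IX) (g : Y ⟶ X) [Etale g] (A : Y.Opens) :
    Function.Injective (resR (inf_le_left : A ⊓ g ⁻¹ᵁ ModPair.interior IX ≤ A)) := by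
  rw [injective_iff_map_eq_zero]
  intro s hs
  refine functions_eq_of_locally s 0 (fun a ha => ?_)
  obtain ⟨U, hxU, f, hf, hfI⟩ := hX (g a)
  have haU : a ∈ A ⊓ g ⁻¹ᵁ U.1 := Opens.mem_inf.mpr ⟨ha, hxU⟩
  obtain ⟨B, hB, haB, hBsub⟩ := exists_isAffineOpen_mem_and_subset haU
  have hBA : B ≤ A := fun z hz => (Opens.mem_inf.mp (hBsub hz)).1
  have e : B ≤ g ⁻¹ᵁ U.1 := fun z hz => (Opens.mem_inf.mp (hBsub hz)).2
  refine ⟨B, hBA, haB, ?_⟩
  rw [map_zero]
  letI : Algebra Γ(X, U.1) Γ(Y, B) := (g.appLE U.1 B e).hom.toAlgebra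
  haveI : Algebra.Etale Γ(X, U.1) Γ(Y, B) := Etale.etale_appLE g U.2 hB e
  haveI : Module.Flat Γ(X, U.1) Γ(Y, B) := inferInstance
  haveI : IsLocalization.Away (algebraMap Γ(X, U.1) Γ(Y, B) f)
      Γ(Y, Y.basicOpen ((g.appLE U.1 B e).hom f)) :=
    hB.isLocalization_basicOpen ((g.appLE U.1 B e).hom f)
  have hinj := loc_inj (R := Γ(X, U.1)) (S := Γ(Y, B))
    (D := Γ(Y, Y.basicOpen ((g.appLE U.1 B e).hom f))) f hf
  apply hinj
  rw [map_zero]
  have hle : Y.basicOpen ((g.appLE U.1 B e).hom f) ≤ A ⊓ g ⁻¹ᵁ ModPair.interior IX := by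
    have h1 : Y.basicOpen ((g.appLE U.1 B e).hom f) = B ⊓ g ⁻¹ᵁ (X.basicOpen f) :=
      Scheme.basicOpen_appLE g B U.1 e f
    rw [h1, ← inf_interior_eq_basicOpen IX U f hfI]
    exact inf_le_inf hBA ((Opens.map g.base).map (homOfLE inf_le_right)).le
  have hle' : Y.basicOpen ((g.appLE U.1 B e).hom f) ≤ B := Y.basicOpen_le _
  show resR hle' (resR hBA s) = 0
  have h3 : resR hle' (resR hBA s) =
      resR hle (resR (inf_le_left : A ⊓ g ⁻¹ᵁ ModPair.interior IX ≤ A) s) := by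
    rw [resR_resR, resR_resR]
  rw [h3, hs, map_zero]

theorem main {X Y : Scheme.{u}} (IX : X.IdealSheafData) (hX : BlowUp.IsEffCartierIdeal IX)
    (hint : ∀ U ∈ X.affineOpens, ICI X U (U ⊓ ModPair.interior IX) inf_le_left)
    (g : Y ⟶ X) [Etale g] (V : Y.Opens) (hV : IsAffineOpen V) :
    ICI Y V (V ⊓ g ⁻¹ᵁ ModPair.interior IX) inf_le_left := by
  intro t ht
  have hloc : ∀ y : V, ∃ (B : Y.Opens) (hBV : B ≤ V), y.1 ∈ B ∧
      ∃ s : Γ(Y, B), resR (inf_le_left : B ⊓ g ⁻¹ᵁ ModPair.interior IX ≤ B) s =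
        resR (inf_le_inf_right _ hBV :
          B ⊓ g ⁻¹ᵁ ModPair.interior IX ≤ V ⊓ g ⁻¹ᵁ ModPair.interior IX) t := by
    intro y
    obtain ⟨U, hxU, f, hf, hfI⟩ := hX (g y.1)
    have hyU : y.1 ∈ V ⊓ g ⁻¹ᵁ U.1 := Opens.mem_inf.mpr ⟨y.2, hxU⟩
    obtain ⟨B, hB, hyB, hBsub⟩ := exists_isAffineOpen_mem_and_subset hyU
    have hBV : B ≤ V := fun z hz => (Opens.mem_inf.mp (hBsub hz)).1
    have e : B ≤ g ⁻¹ᵁ U.1 := fun z hz => (Opens.mem_inf.mp (hBsub hz)).2
    refine ⟨B, hBV, hyB, ?_⟩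
    have hO' : B ⊓ g ⁻¹ᵁ ModPair.interior IX = B ⊓ g ⁻¹ᵁ (U.1 ⊓ ModPair.interior IX) := by
      apply le_antisymm
      · refine le_inf inf_le_left ?_
        intro z hz
        have hzB : z ∈ B := (Opens.mem_inf.mp hz).1
        have hzI : z ∈ g ⁻¹ᵁ ModPair.interior IX := (Opens.mem_inf.mp hz).2
        exact Opens.mem_inf.mpr ⟨e hzB, hzI⟩
      · exact inf_le_inf_left _ ((Opens.map g.base).map (homOfLE inf_le_right)).le
    have hici : ICI Y B (B ⊓ g ⁻¹ᵁ ModPair.interior IX) inf_le_left :=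
      local_transfer g U.1 U.2 f (U.1 ⊓ ModPair.interior IX) inf_le_left
        (inf_interior_eq_basicOpen IX U f hfI) (hint U.1 U.2) B hB e _ inf_le_left hO'
    have hcomm : (resR (inf_le_inf_right _ hBV :
          B ⊓ g ⁻¹ᵁ ModPair.interior IX ≤ V ⊓ g ⁻¹ᵁ ModPair.interior IX)).comp
        (resR (inf_le_left : V ⊓ g ⁻¹ᵁ ModPair.interior IX ≤ V)) =
        (resR (inf_le_left : B ⊓ g ⁻¹ᵁ ModPair.interior IX ≤ B)).comp (resR hBV) := by
      refine RingHom.ext (fun r => ?_)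
      rw [RingHom.comp_apply, RingHom.comp_apply, resR_resR, resR_resR]
    have ht' : (resR (inf_le_left : B ⊓ g ⁻¹ᵁ ModPair.interior IX ≤ B)).IsIntegralElem
        (resR (inf_le_inf_right _ hBV :
          B ⊓ g ⁻¹ᵁ ModPair.interior IX ≤ V ⊓ g ⁻¹ᵁ ModPair.interior IX) t) :=
      isIntegralElem_of_square _ _ _ _ hcomm t ht
    obtain ⟨s, hs⟩ := hici _ ht'
    exact ⟨s, hs⟩
  choose B hBV hyB sB hsB using hloc
  have hc : ∀ i j : V, resR (inf_le_left : B i ⊓ B j ≤ B i) (sB i) =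
      resR (inf_le_right : B i ⊓ B j ≤ B j) (sB j) := by
    intro i j
    apply restrict_injective IX hX g (B i ⊓ B j)
    have h1 : B i ⊓ B j ⊓ g ⁻¹ᵁ ModPair.interior IX ≤ B i ⊓ g ⁻¹ᵁ ModPair.interior IX :=
      inf_le_inf_right _ inf_le_left
    have h2 : B i ⊓ B j ⊓ g ⁻¹ᵁ ModPair.interior IX ≤ B j ⊓ g ⁻¹ᵁ ModPair.interior IX :=
      inf_le_inf_right _ inf_le_right
    have e1 : resR (inf_le_left : B i ⊓ B j ⊓ g ⁻¹ᵁ ModPair.interior IX ≤ B i ⊓ B j)
        (resR (inf_le_left : B i ⊓ B j ≤ B i) (sB i)) =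
        resR h1 (resR (inf_le_left : B i ⊓ g ⁻¹ᵁ ModPair.interior IX ≤ B i) (sB i)) := by
      rw [resR_resR, resR_resR]
    have e2 : resR (inf_le_left : B i ⊓ B j ⊓ g ⁻¹ᵁ ModPair.interior IX ≤ B i ⊓ B j)
        (resR (inf_le_right : B i ⊓ B j ≤ B j) (sB j)) =
        resR h2 (resR (inf_le_left : B j ⊓ g ⁻¹ᵁ ModPair.interior IX ≤ B j) (sB j)) := by
      rw [resR_resR, resR_resR]
    rw [e1, e2, hsB i, hsB j, resR_resR, resR_resR]
  obtain ⟨s, hs⟩ := glue_functions B V hBV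
    (fun y hy => Opens.mem_iSup.2 ⟨⟨y, hy⟩, hyB ⟨y, hy⟩⟩) sB hc
  refine ⟨s, ?_⟩
  refine functions_eq_of_locally _ t (fun a ha => ?_)
  have haV : a ∈ V := (Opens.mem_inf.mp ha).1
  have haI : a ∈ g ⁻¹ᵁ ModPair.interior IX := (Opens.mem_inf.mp ha).2
  refine ⟨B ⟨a, haV⟩ ⊓ g ⁻¹ᵁ ModPair.interior IX, inf_le_inf_right _ (hBV ⟨a, haV⟩),
    Opens.mem_inf.mpr ⟨hyB ⟨a, haV⟩, haI⟩, ?_⟩
  have e3 : resR (inf_le_inf_right _ (hBV ⟨a, haV⟩) :
        B ⟨a, haV⟩ ⊓ g ⁻¹ᵁ ModPair.interior IX ≤ V ⊓ g ⁻¹ᵁ ModPair.interior IX)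
      (resR (inf_le_left : V ⊓ g ⁻¹ᵁ ModPair.interior IX ≤ V) s) =
      resR (inf_le_left : B ⟨a, haV⟩ ⊓ g ⁻¹ᵁ ModPair.interior IX ≤ B ⟨a, haV⟩)
        (resR (hBV ⟨a, haV⟩) s) := by
    rw [resR_resR, resR_resR]
  rw [e3, hs, hsB]

end Groth.Agent.Helper1.EtIntClosed
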