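import Mathlib
import Groth.Agent.Lib.Helper3.ResK0B

/-!
# Finite resolutions: chain complexes versus sequences of short exact sequences (helper1)

Conversions between a resolution `L ⟶ single₀ M` (a quasi-isomorphism of chain complexes) and
helper3's `ResData` (a sequence of short exact sequences), in any abelian category.
-/

set_option backward.isDefEq.respectTransparency.types false
set_option synthInstance.maxHeartbeats 400000
set_option maxHeartbeats 1000000
set_option autoImplicit false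
set_option linter.unusedSectionVars false
set_option linter.style.haveILetI false
set_option linter.unusedVariables false

universe v u
open CategoryTheory CategoryTheory.Limits ZeroObject
open Groth.Agent.Helper3.ResK0A Groth.Agent.Helper3.ResK0B

namespace Groth.Agent.Helper1.ResFin

variable {C : Type u} [Category.{v} C] [Abelian C]

section QI

variable {M : C} {L : ChainComplex C ℕ} (π : L ⟶ (ChainComplex.single₀ C).obj M)

theorem d_comp_π : L.d 1 0 ≫ π.f 0 = 0 := by
  rw [← π.comm 1 0, HomologicalComplex.single_obj_d, comp_zero]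

theorem quasiIsoAt₀_iff :
    QuasiIsoAt π 0 ↔
      (ShortComplex.mk (L.d 1 0) (π.f 0) (d_comp_π π)).Exact ∧ Epi (π.f 0) := by
  rw [ChainComplex.quasiIsoAt₀_iff, ShortComplex.quasiIso_iff_of_zeros']
  · exact Iff.rfl
  · exact L.shape 0 0 (by simp)
  · rfl
  · rfl

theorem quasiIso_iff_single₀ :
    QuasiIso π ↔ (∀ n, L.ExactAt (n + 1)) ∧
      (ShortComplex.mk (L.d 1 0) (π.f 0) (d_comp_π π)).Exact ∧ Epi (π.f 0) := by
  rw [quasiIso_iff]
  constructor
  · intro h
    exact ⟨fun n => (quasiIsoAt_iff_exactAt' π (n + 1)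
      (ChainComplex.exactAt_succ_single_obj _ _)).1 (h (n + 1)), (quasiIsoAt₀_iff π).1 (h 0)⟩
  · rintro ⟨h1, h2⟩ i
    cases i with
    | zero => exact (quasiIsoAt₀_iff π).2 h2
    | succ n =>
      exact (quasiIsoAt_iff_exactAt' π (n + 1)
        (ChainComplex.exactAt_succ_single_obj _ _)).2 (h1 n)

end QI

/-- an exact augmented sequence `… → A 2 → A 1 → A 0 → 0` -/
structure AugSeq (C : Type u) [Category.{v} C] [Abelian C] where
  A : ℕ → C
  δ : ∀ i, A (i + 1) ⟶ A i
  w : ∀ i, δ (i + 1) ≫ δ i = 0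
  ex : ∀ i, (ShortComplex.mk (δ (i + 1)) (δ i) (w i)).Exact
  epi : Epi (δ 0)

namespace AugSeq

variable (T : AugSeq C)

instance : Epi (T.δ 0) := T.epi

lemma epi_lift (i : ℕ) : Epi (kernel.lift (T.δ i) (T.δ (i + 1)) (T.w i)) :=
  (ShortComplex.exact_iff_epi_kernel_lift
    (ShortComplex.mk (T.δ (i + 1)) (T.δ i) (T.w i))).1 (T.ex i)

lemma w_succ (i : ℕ) :
    kernel.ι (T.δ (i + 1)) ≫ kernel.lift (T.δ i) (T.δ (i + 1)) (T.w i) = 0 := by
  rw [← cancel_mono (kernel.ι (T.δ i)), Category.assoc, kernel.lift_ι, kernel.condition,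
    zero_comp]

lemma se_succ (i : ℕ) :
    (ShortComplex.mk (kernel.ι (T.δ (i + 1))) (kernel.lift (T.δ i) (T.δ (i + 1)) (T.w i))
      (T.w_succ i)).ShortExact where
  exact := ShortComplex.exact_of_f_is_kernel _ (KernelFork.IsLimit.ofι' _ _ (fun {Z} k hk => by
    have hk' : k ≫ kernel.lift (T.δ i) (T.δ (i + 1)) (T.w i) = 0 := hk
    have hk2 : k ≫ T.δ (i + 1) = 0 := by
      have h3 := hk' =≫ kernel.ι (T.δ i)
      rwa [Category.assoc, kernel.lift_ι, zero_comp] at h3
    exact ⟨kernel.lift (T.δ (i + 1)) k hk2, kernel.lift_ι _ _ _⟩))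
  mono_f := inferInstanceAs (Mono (kernel.ι (T.δ (i + 1))))
  epi_g := T.epi_lift i

/-- the resolution datum of an exact augmented sequence -/
noncomputable def toResData {P₀ : ObjectProperty C} (hL : ∀ i, P₀ (T.A (i + 1))) :
    ResData P₀ (T.A 0) where
  K := fun | 0 => T.A 0 | (i + 1) => kernel (T.δ i)
  L := fun i => T.A (i + 1)
  p := fun | 0 => T.δ 0 | (i + 1) => kernel.lift (T.δ i) (T.δ (i + 1)) (T.w i)
  ι := fun i => kernel.ι (T.δ i)
  w := fun | 0 => kernel.condition _ | (i + 1) => T.w_succ i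
  se := fun | 0 => se_kernel (T.δ 0) | (i + 1) => T.se_succ i
  e := Iso.refl _
  hL := hL

/-- the exact augmented sequence of a resolution -/
noncomputable def ofRes {M : C} (L : ChainComplex C ℕ)
    (π : L ⟶ (ChainComplex.single₀ C).obj M) (hπ : QuasiIso π) : AugSeq C where
  A := fun | 0 => M | (i + 1) => L.X i
  δ := fun | 0 => π.f 0 | (i + 1) => L.d (i + 1) i
  w := fun | 0 => d_comp_π π | (i + 1) => L.d_comp_d _ _ _
  ex := fun
    | 0 => ((quasiIso_iff_single₀ π).1 hπ).2.1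
    | (i + 1) => (HomologicalComplex.exactAt_iff' L (i + 1 + 1) (i + 1) i (by simp) (by simp)).1
        (((quasiIso_iff_single₀ π).1 hπ).1 i)
  epi := ((quasiIso_iff_single₀ π).1 hπ).2.2

end AugSeq

/-- the resolution datum of a resolution by objects of `P₀` -/
noncomputable def resDataOfRes {P₀ : ObjectProperty C} {M : C} (L : ChainComplex C ℕ)
    (π : L ⟶ (ChainComplex.single₀ C).obj M) (hπ : QuasiIso π) (hL : ∀ i, P₀ (L.X i)) :
    ResData P₀ M :=
  (AugSeq.ofRes L π hπ).toResData hL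

theorem resDataOfRes_L {P₀ : ObjectProperty C} {M : C} (L : ChainComplex C ℕ)
    (π : L ⟶ (ChainComplex.single₀ C).obj M) (hπ : QuasiIso π) (hL : ∀ i, P₀ (L.X i)) (i : ℕ) :
    (resDataOfRes L π hπ hL).L i = L.X i := rfl

lemma se_zero_id (A : C) :
    (ShortComplex.mk (0 : (0 : C) ⟶ A) (𝟙 A) zero_comp).ShortExact where
  exact := (ShortComplex.exact_iff_mono _ rfl).2 (inferInstanceAs (Mono (𝟙 A)))
  mono_f := ⟨fun _ _ _ => (isZero_zero C).eq_of_tgt _ _⟩
  epi_g := inferInstanceAs (Epi (𝟙 A))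

lemma se_zero_zero :
    (ShortComplex.mk (0 : (0 : C) ⟶ (0 : C)) (0 : (0 : C) ⟶ (0 : C)) zero_comp).ShortExact where
  exact := ShortComplex.exact_of_isZero_X₂ _ (isZero_zero C)
  mono_f := ⟨fun _ _ _ => (isZero_zero C).eq_of_tgt _ _⟩
  epi_g := ⟨fun _ _ _ => (isZero_zero C).eq_of_src _ _⟩

/-- the trivial resolution datum of an object of `P₀` -/
noncomputable def terminal {P₀ : ObjectProperty C} (A : C) (hA : P₀ A) (hzero : P₀ (0 : C)) :
    ResData P₀ A where
  K := fun | 0 => A | (_ + 1) => 0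
  L := fun | 0 => A | (_ + 1) => 0
  p := fun | 0 => 𝟙 A | (_ + 1) => 0
  ι := fun | 0 => 0 | (_ + 1) => 0
  w := fun | 0 => zero_comp | (_ + 1) => zero_comp
  se := fun | 0 => se_zero_id A | (_ + 1) => se_zero_zero
  e := Iso.refl A
  hL := fun | 0 => hA | (_ + 1) => hzero

/-- an object of finite `P₀`-dimension has a finite resolution datum -/
theorem exists_finite_res {P₀ P₁ : ObjectProperty C} (H : Hyp P₀ P₁) (hzero : P₀ (0 : C)) :
    ∀ (n : ℕ) {A : C}, Good P₀ P₁ n A → ∃ R : ResData P₀ A, ∀ i, n < i → IsZero (R.L i)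
  | 0, A, h => ⟨terminal A h hzero, fun i hi => by
      obtain ⟨j, rfl⟩ : ∃ j, i = j + 1 := ⟨i - 1, by omega⟩
      exact isZero_zero C⟩
  | (n + 1), A, h => by
      obtain ⟨L, p, hp, hL⟩ := H.exists_pres h.1
      haveI := hp
      obtain ⟨R', hR'⟩ := exists_finite_res H hzero n (h.2 L p hp hL)
      refine ⟨ResData.cons p hL R', fun i hi => ?_⟩
      obtain ⟨j, rfl⟩ : ∃ j, i = j + 1 := ⟨i - 1, by omega⟩
      exact hR' j (by omega)

section Aug

variable {P₀ : ObjectProperty C} {A : C} (R : ResData P₀ A)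

/-- the augmentation of the chain complex of a resolution datum -/
noncomputable def augmentation : R.cx ⟶ (ChainComplex.single₀ C).obj A :=
  (ChainComplex.toSingle₀Equiv _ _).symm ⟨R.p 0 ≫ R.e.hom, by
    have h : R.cx.d 1 0 = R.p 1 ≫ R.ι 0 := R.cx_d 0
    rw [h, Category.assoc, reassoc_of% (R.w 0), zero_comp, comp_zero]⟩

theorem augmentation_f_zero : (augmentation R).f 0 = R.p 0 ≫ R.e.hom :=
  ChainComplex.toSingle₀Equiv_symm_apply_f_zero _ _

theorem quasiIso_augmentation : QuasiIso (augmentation R) := by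
  rw [quasiIso_iff_single₀]
  have h2 := augmentation_f_zero R
  refine ⟨fun n => R.exactAt n, ?_, ?_⟩
  · have h1 : R.cx.d 1 0 = R.p 1 ≫ R.ι 0 := R.cx_d 0
    rw [ShortComplex.exact_iff_exact_up_to_refinements]
    intro T x hx
    change T ⟶ R.L 0 at x
    have hx' : x ≫ R.p 0 = 0 := by
      have h5 : x ≫ (R.p 0 ≫ R.e.hom) = 0 := by
        have h6 : x ≫ (augmentation R).f 0 = 0 := hx
        rw [h2] at h6
        exact h6
      rw [← cancel_mono R.e.hom, zero_comp, Category.assoc]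
      exact h5
    obtain ⟨T₁, π₁, hπ₁, k, hk⟩ := (R.se 0).exact.exact_up_to_refinements x hx'
    dsimp at k hk
    obtain ⟨T₂, π₂, hπ₂, l, hl⟩ := surjective_up_to_refinements_of_epi (R.p 1) k
    refine ⟨T₂, π₂ ≫ π₁, inferInstance, l, ?_⟩
    change (π₂ ≫ π₁) ≫ x = l ≫ R.cx.d 1 0
    rw [h1, Category.assoc, hk, ← reassoc_of% hl]
  · have h7 : Epi (R.p 0 ≫ R.e.hom) := epi_comp _ _
    rw [h2]
    exact h7

end Aug

end Groth.Agent.Helper1.ResFin
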