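import Mathlib
import Groth.Agent.Lib.Helper1.ResFin
import Groth.Agent.Lib.Helper1.KPull1

/-!
# Euler characteristic of a finite resolution in `K₀` (helper1)
-/

set_option backward.isDefEq.respectTransparency.types false
set_option synthInstance.maxHeartbeats 400000
set_option maxHeartbeats 1000000
set_option autoImplicit false
set_option linter.unusedSectionVars false
set_option linter.style.haveILetI false
set_option linter.unusedVariables false

universe v u
open CategoryTheory CategoryTheory.Limits ZeroObject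
open Groth.Agent.Helper3.ResK0A Groth.Agent.Helper3.ResK0B Groth.Agent.Helper1.KPull

namespace Groth.Agent.Helper1.EulerK

variable {C : Type u} [Category.{v} C] [Abelian C] (P₁ : ObjectProperty C)

theorem cl_zero_of_isZero {Z : C} (hZ : IsZero Z) (hP : P₁ Z) : KZero.clSub P₁ Z = 0 := by
  have hS : (ShortComplex.mk (0 : Z ⟶ Z) (0 : Z ⟶ Z) zero_comp).ShortExact :=
    { exact := ShortComplex.exact_of_isZero_X₂ _ hZ
      mono_f := ⟨fun _ _ _ => hZ.eq_of_tgt _ _⟩
      epi_g := ⟨fun _ _ _ => hZ.eq_of_src _ _⟩ }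
  have h : KZero.clSub P₁ Z = KZero.clSub P₁ Z + KZero.clSub P₁ Z :=
    clSub_ses P₁ _ hS hP hP hP
  have h' : KZero.clSub P₁ Z + 0 = KZero.clSub P₁ Z + KZero.clSub P₁ Z := by
    rw [add_zero]; exact h
  exact (add_left_cancel h').symm

theorem cl_iso {M N : C} (e : M ≅ N) (hM : P₁ M) (hN : P₁ N) (h0 : P₁ (0 : C)) :
    KZero.clSub P₁ M = KZero.clSub P₁ N := by
  have hS : (ShortComplex.mk (0 : (0 : C) ⟶ M) e.hom zero_comp).ShortExact :=
    { exact := (ShortComplex.exact_iff_mono _ rfl).2 (inferInstanceAs (Mono e.hom))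
      mono_f := ⟨fun _ _ _ => (isZero_zero C).eq_of_tgt _ _⟩
      epi_g := inferInstanceAs (Epi e.hom) }
  have h : KZero.clSub P₁ M = KZero.clSub P₁ (0 : C) + KZero.clSub P₁ N :=
    clSub_ses P₁ _ hS h0 hM hN
  rw [cl_zero_of_isZero P₁ (isZero_zero C) h0, zero_add] at h
  exact h

theorem euler_partial {P₀ : ObjectProperty C} {A : C} (R : ResData P₀ A)
    (hK : ∀ i, P₁ (R.K i)) (hL : ∀ i, P₁ (R.L i)) :
    ∀ m : ℕ, ∑ k ∈ Finset.range m, (-1 : ℤ) ^ k • KZero.clSub P₁ (R.L k) =
      KZero.clSub P₁ (R.K 0) - (-1 : ℤ) ^ m • KZero.clSub P₁ (R.K m)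
  | 0 => by simp
  | m + 1 => by
      have hs : KZero.clSub P₁ (R.L m) =
          KZero.clSub P₁ (R.K (m + 1)) + KZero.clSub P₁ (R.K m) :=
        clSub_ses P₁ _ (R.se m) (hK (m + 1)) (hL m) (hK m)
      rw [Finset.sum_range_succ, euler_partial R hK hL m, hs, pow_succ]
      simp only [smul_add, mul_neg, mul_one, neg_smul]
      abel

/-- the alternating sum of the terms of a finite resolution is the class of the resolved object -/
theorem euler {P₀ : ObjectProperty C} {A : C} (R : ResData P₀ A)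
    (hK : ∀ i, P₁ (R.K i)) (hL : ∀ i, P₁ (R.L i)) (hA : P₁ A) (h0 : P₁ (0 : C)) (n : ℕ)
    (hz : IsZero (R.K (n + 1))) :
    ∑ k ∈ Finset.range (n + 1), (-1 : ℤ) ^ k • KZero.clSub P₁ (R.L k) = KZero.clSub P₁ A := by
  rw [euler_partial P₁ R hK hL (n + 1), cl_zero_of_isZero P₁ hz (hK (n + 1)), smul_zero,
    sub_zero]
  exact cl_iso P₁ R.e (hK 0) hA h0

end Groth.Agent.Helper1.EulerK
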