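import Mathlib
import Groth.Agent.Lib.Helper1.ExcC2
import Groth.Agent.Lib.Helper1.SpFib4

/-!
# Vertical prime divisors with the same support (helper1)
-/

set_option autoImplicit false
set_option backward.isDefEq.respectTransparency.types false
universe u
open CategoryTheory CategoryTheory.Limits AlgebraicGeometry TopologicalSpace Opposite IsLocalRing

namespace Groth.Agent.Helper1.ExcC

section Ker

variable {C₁ C₂ X : Scheme.{u}} (f₁ : C₁ ⟶ X) (f₂ : C₂ ⟶ X)

theorem ker_eq_vanishingIdeal {C : Scheme.{u}} (f : C ⟶ X) [IsReduced C] :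
    f.ker = Scheme.IdealSheafData.vanishingIdeal
      (TopologicalSpace.Closeds.closure (f.base '' ((⊤ : TopologicalSpace.Closeds C) : Set C))) := by
  rw [← Scheme.IdealSheafData.map_vanishingIdeal, Scheme.IdealSheafData.vanishingIdeal_top,
    Scheme.nilradical_eq_bot, Scheme.IdealSheafData.map_bot]

theorem ker_eq_of_range_eq [IsReduced C₁] [IsReduced C₂]
    (h : Set.range f₁.base = Set.range f₂.base) : f₁.ker = f₂.ker := by
  rw [ker_eq_vanishingIdeal f₁, ker_eq_vanishingIdeal f₂]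
  congr 2
  rw [TopologicalSpace.Closeds.coe_top, TopologicalSpace.Closeds.coe_top, Set.image_univ,
    Set.image_univ, h]

theorem exists_iso_of_ker_eq [IsClosedImmersion f₁] [IsClosedImmersion f₂]
    (h : f₁.ker = f₂.ker) : ∃ a : C₁ ≅ C₂, a.hom ≫ f₂ = f₁ := by
  have key : ∀ (I : X.IdealSheafData) (_ : f₁.ker = I),
      ∃ b : C₁ ≅ I.subscheme, b.hom ≫ I.subschemeι = f₁ := by
    intro I hI
    subst hI
    exact ⟨asIso f₁.toImage, f₁.toImage_imageι⟩
  obtain ⟨b₁, hb₁⟩ := key f₂.ker h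
  refine ⟨b₁ ≪≫ (asIso f₂.toImage).symm, ?_⟩
  have h2 : inv f₂.toImage ≫ f₂ = f₂.ker.subschemeι := by
    rw [IsIso.inv_comp_eq]
    exact f₂.toImage_imageι.symm
  rw [Iso.trans_hom, Iso.symm_hom, asIso_inv, Category.assoc, h2, hb₁]

theorem isExcCurve_of_iso (a : C₁ ≅ C₂) (ha : a.hom ≫ f₂ = f₁) (hker : f₁.ker = f₂.ker)
    (h : Models.IsExcCurve f₁) : Models.IsExcCurve f₂ := by
  obtain ⟨hE, K, hK, e, ⟨θ⟩⟩ := h
  refine ⟨hker ▸ hE, K, hK, e ≪≫ a, ?_⟩
  have hm : (e ≪≫ a).hom ≫ f₂ = e.hom ≫ f₁ := by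
    rw [Iso.trans_hom, Category.assoc, ha]
  rw [hm, ← hker]
  exact ⟨θ⟩

end Ker

section Comp

variable (R : Type u) [CommRing R] [IsDomain R] [IsDiscreteValuationRing R]
  (X : Over (Spec (CommRingCat.of R)))

/-- every vertical prime divisor is one of the components -/
theorem exists_component_of_vertComp {n : ℕ} (Γ : Fin n → ArSurf.VertComp R X)
    (hcov : ∀ x : X.left, X.hom.base x = closedPoint R → ∃ i, x ∈ Set.range (Γ i).ι.base)
    (Γ' : ArSurf.VertComp R X) :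
    ∃ i, Set.range Γ'.ι.base = Set.range (Γ i).ι.base := by
  obtain ⟨i, hi⟩ := hcov (Γ'.ι.base (genericPoint Γ'.curve.left))
    (SpFib.range_subset_fibre R X Γ' _)
  refine ⟨i, ?_⟩
  by_contra hne
  apply ArInt.genPt_notMem R X Γ' (Γ i) hne
  rw [Scheme.Hom.support_ker, (Γ i).ι.isClosedEmbedding.isClosed_range.closure_eq]
  exact hi

/-- transfer of exceptionality between vertical prime divisors with the same support -/
theorem isExcCurve_of_range_eq (Γ₁ Γ₂ : ArSurf.VertComp R X)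
    (h : Set.range Γ₁.ι.base = Set.range Γ₂.ι.base) (hexc : Models.IsExcCurve Γ₁.ι) :
    Models.IsExcCurve Γ₂.ι := by
  have hker := ker_eq_of_range_eq Γ₁.ι Γ₂.ι h
  obtain ⟨a, ha⟩ := exists_iso_of_ker_eq Γ₁.ι Γ₂.ι hker
  exact isExcCurve_of_iso Γ₁.ι Γ₂.ι a ha hker hexc

end Comp

end Groth.Agent.Helper1.ExcC
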