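import Mathlib
import Groth.Agent.Lib.Helper1.CurveNonneg
import Groth.Agent.Lib.Helper1.CartSec
import Groth.Agent.Lib.Helper1.PicV1
import Groth.Agent.Lib.Helper1.ArInt3
import Groth.Agent.Lib.Helper1.RelNakD
import Groth.Agent.Lib.Helper1.H1Ext
import Groth.Agent.Lib.Helper1.H1Surj
import Groth.Agent.Lib.Helper1.GenusOne1
import Groth.Agent.S0012

/-!
# Twisting by a vertical prime divisor isomorphic to a projective line on an arithmetic surface
(helper1)
-/

set_option linter.style.haveILetI false
set_option linter.unusedVariables false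
set_option linter.unusedSectionVars false
set_option linter.unusedSimpArgs false
set_option autoImplicit false
set_option backward.isDefEq.respectTransparency.types false
set_option synthInstance.maxHeartbeats 400000
set_option maxHeartbeats 1600000

universe u

open CategoryTheory CategoryTheory.Limits AlgebraicGeometry Opposite TopologicalSpace
open Groth.Agent.Helper1 Groth.Agent.Helper1.QcCech Groth.Agent.Helper1.PullSec
open Groth.Agent.Helper1.LGen Groth.Agent.Helper1.TmulLib Groth.Agent.Helper1.TensGen
open Groth.Agent.Helper1.CurveAmp Groth.Agent.Helper1.CurveLin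
open Groth.Agent.Helper1.TwForm Groth.Agent.Helper1.AmpleLib

namespace Groth.Agent.Helper1.ExcCurve

variable (R : Type u) [CommRing R] [IsDomain R] [IsDiscreteValuationRing R]
  (X : Over (Spec (CommRingCat.of R))) (hp : IsProper X.hom) (E : ArSurf.VertComp R X)

theorem inv_toImage_comp : inv E.ι.toImage ≫ E.ι = E.ι.ker.subschemeι := by
  rw [IsIso.inv_comp_eq]
  exact E.ι.toImage_imageι.symm

/-- the pullback to the image of the curve, as a pullback from the curve -/
noncomputable def pullIso (M : X.left.Modules) :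
    (Scheme.Modules.pullback E.ι.ker.subschemeι).obj M ≅
      (Scheme.Modules.pullback (inv E.ι.toImage)).obj ((Scheme.Modules.pullback E.ι).obj M) :=
  ((Scheme.Modules.pullbackComp (inv E.ι.toImage) E.ι).app M ≪≫
    (Scheme.Modules.pullbackCongr (inv_toImage_comp R X E)).app M).symm

include hp in
theorem deg_eq_inter (M : X.left.Modules) :
    Curv2.deg (IsLocalRing.ResidueField R) E.curve.left
      ((Scheme.Modules.pullback E.ι).obj M) 1 = ArSurf.inter R X M E := by
  haveI : IsProper (E.curve.left ↘ Spec (CommRingCat.of (IsLocalRing.ResidueField R))) :=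
    ArInt.isProper_curve R X hp E
  unfold ArSurf.inter
  exact (ArInt.curveDeg_eq_deg (IsLocalRing.ResidueField R) E.dim_eq _).symm

include hp in
theorem inter_pow (LE : X.left.Modules) (hLE : PicF.IsInvertible LE) (n : ℕ) :
    ArSurf.inter R X (CohB1.tensorPow LE n) E = n * ArSurf.inter R X LE E := by
  induction n with
  | zero =>
    change ArSurf.inter R X (Coh.structureModule X.left) E = _
    rw [PicV.inter_structureModule R X hp E]
    simp
  | succ n ih =>
    change ArSurf.inter R X (CohB1.tensorMod (CohB1.tensorPow LE n) LE) E = _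
    rw [PicV.inter_tensor R X hp E (isInvertible_tensorPow hLE n) hLE, ih]
    push_cast
    ring

variable (h1C : Subsingleton (Coh.HH E.curve.left (Coh.structureModule E.curve.left) 1))

include hp h1C in
/-- `H¹` of the restriction to the curve of an invertible module of nonnegative degree -/
theorem subsingleton_H1_push (M : X.left.Modules) (hM : PicF.IsInvertible M)
    (hdeg : 0 ≤ ArSurf.inter R X M E) :
    Subsingleton (Coh.HH X.left ((Scheme.Modules.pushforward E.ι.ker.subschemeι).obj
      ((Scheme.Modules.pullback E.ι.ker.subschemeι).obj M)) 1) := by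
  haveI : IsProper (E.curve.left ↘ Spec (CommRingCat.of (IsLocalRing.ResidueField R))) :=
    ArInt.isProper_curve R X hp E
  have hN := PullGen.isInvertible_pullback E.ι hM
  have hd : 0 ≤ Curv2.deg (IsLocalRing.ResidueField R) E.curve.left
      ((Scheme.Modules.pullback E.ι).obj M) 1 := by
    rw [deg_eq_inter R X hp E M]
    exact hdeg
  have hC1 := (CurveNonneg.h1_gg_of_deg_nonneg (IsLocalRing.ResidueField R) E.curve.left
    E.dim_eq h1C _ hN hd).1
  haveI : ((Scheme.Modules.pullback E.ι).obj M).IsQuasicoherent :=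
    InvQc.isQuasicoherent_of_isInvertible _ hN
  have hZ1 := RpTw.subsingleton_HH_pullback_of_iso (asIso E.ι.toImage).symm
    ((Scheme.Modules.pullback E.ι).obj M) 1 hC1
  have hZ2 : Subsingleton (Coh.HH E.ι.ker.subscheme
      ((Scheme.Modules.pullback E.ι.ker.subschemeι).obj M) 1) :=
    Dv.subsingleton_HH_of_iso (pullIso R X E M) 1 hZ1
  have hNZ := PullGen.isInvertible_pullback E.ι.ker.subschemeι hM
  haveI : Coh.IsQCoh ((Scheme.Modules.pullback E.ι.ker.subschemeι).obj M) :=
    InvQc.isQuasicoherent_of_isInvertible _ hNZ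
  obtain ⟨eq⟩ := Groth.Agent.S0012.result E.ι.ker.subschemeι
    ((Scheme.Modules.pullback E.ι.ker.subschemeι).obj M) 1
  haveI := hZ2
  exact eq.symm.toEquiv.subsingleton

include hp h1C in
/-- an invertible module of degree zero on the curve restricts to the trivial module -/
theorem nonempty_iso_of_inter_zero (M : X.left.Modules) (hM : PicF.IsInvertible M)
    (hdeg : ArSurf.inter R X M E = 0) :
    Nonempty ((Scheme.Modules.pullback E.ι).obj M ≅ Coh.structureModule E.curve.left) ∧
      Nonempty (Coh.structureModule E.ι.ker.subscheme ≅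
        (Scheme.Modules.pullback E.ι.ker.subschemeι).obj M) := by
  haveI : IsProper (E.curve.left ↘ Spec (CommRingCat.of (IsLocalRing.ResidueField R))) :=
    ArInt.isProper_curve R X hp E
  have hN := PullGen.isInvertible_pullback E.ι hM
  have hd : Curv2.deg (IsLocalRing.ResidueField R) E.curve.left
      ((Scheme.Modules.pullback E.ι).obj M) 1 = 0 := by
    rw [deg_eq_inter R X hp E M]
    exact hdeg
  obtain ⟨φ⟩ := CurveNonneg.nonempty_iso_of_deg_zero (IsLocalRing.ResidueField R) E.curve.left
    E.dim_eq h1C _ hN hd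
  refine ⟨⟨φ⟩, ⟨?_⟩⟩
  exact (PullSec.unitIso (inv E.ι.toImage)).symm ≪≫
    (Scheme.Modules.pullback (inv E.ι.toImage)).mapIso φ.symm ≪≫ (pullIso R X E M).symm

variable (LE : X.left.Modules)
  (eE : CohB1.tensorMod LE (ClSub.idealMod E.ι.ker) ≅ Coh.structureModule X.left)
  (hLE : PicF.IsInvertible LE) (hneg : ArSurf.inter R X LE E < 0)
  (LH : X.left.Modules) (hLH : PicF.IsInvertible LH)
  (h1 : Subsingleton (Coh.HH X.left LH 1))

include hp h1C eE hLE hneg hLH h1 in
/-- **vanishing of `H¹` of the twists by the exceptional curve** -/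
theorem h1_vanish : ∀ i : ℕ, (i : ℤ) * (-ArSurf.inter R X LE E) ≤ ArSurf.inter R X LH E →
    Subsingleton (Coh.HH X.left (CohB1.tensorMod LH (CohB1.tensorPow LE i)) 1) := by
  intro i
  induction i with
  | zero =>
    intro _
    exact Dv.subsingleton_HH_of_iso (SecTwist.unitorR LH) 1 h1
  | succ i ih =>
    intro hi
    have hexp : ((i + 1 : ℕ) : ℤ) * (-ArSurf.inter R X LE E) =
        (i : ℤ) * (-ArSurf.inter R X LE E) + (-ArSurf.inter R X LE E) := by
      push_cast
      ring
    have hF1 : Subsingleton (Coh.HH X.left (CohB1.tensorMod LH (CohB1.tensorPow LE i)) 1) :=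
      ih (by linarith)
    have hFinv : PicF.IsInvertible (CohB1.tensorMod LH (CohB1.tensorPow LE i)) :=
      isInvertible_tensorMod hLH (isInvertible_tensorPow hLE i)
    have hSE := CartSec.shortExact E.ι.ker LE eE hLE hFinv
    have hint : ArSurf.inter R X
        (CohB1.tensorMod (CohB1.tensorMod LH (CohB1.tensorPow LE i)) LE) E =
        ArSurf.inter R X LH E + i * ArSurf.inter R X LE E + ArSurf.inter R X LE E := by
      rw [PicV.inter_tensor R X hp E hFinv hLE,
        PicV.inter_tensor R X hp E hLH (isInvertible_tensorPow hLE i),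
        inter_pow R X hp E LE hLE i]
    have h3 := subsingleton_H1_push R X hp E h1C _ (isInvertible_tensorMod hFinv hLE)
      (by rw [hint]; linarith)
    have hmid := H1Ext.subsingleton_HH_mid hSE 1 hF1 h3
    exact Dv.subsingleton_HH_of_iso
      (GenusOne.assocIso LH (isInvertible_tensorPow hLE i) hLE).symm 1 hmid

include hp h1C eE hLE hneg hLH h1 in
/-- **the twist of degree zero on the exceptional curve is trivial on it and globally generated** -/
theorem gg_twist (r : ℕ) (hgg : Curv2.IsGloballyGenerated LH)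
    (hr : ArSurf.inter R X LH E = (r : ℤ) * (-ArSurf.inter R X LE E)) :
    Nonempty ((Scheme.Modules.pullback E.ι).obj (CohB1.tensorMod LH (CohB1.tensorPow LE r)) ≅
        Coh.structureModule E.curve.left) ∧
      Curv2.IsGloballyGenerated (CohB1.tensorMod LH (CohB1.tensorPow LE r)) := by
  have hMinv : PicF.IsInvertible (CohB1.tensorMod LH (CohB1.tensorPow LE r)) :=
    isInvertible_tensorMod hLH (isInvertible_tensorPow hLE r)
  have hdeg0 : ArSurf.inter R X (CohB1.tensorMod LH (CohB1.tensorPow LE r)) E = 0 := by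
    rw [PicV.inter_tensor R X hp E hLH (isInvertible_tensorPow hLE r),
      inter_pow R X hp E LE hLE r, hr]
    ring
  refine ⟨(nonempty_iso_of_inter_zero R X hp E h1C _ hMinv hdeg0).1, ?_⟩
  cases r with
  | zero => exact CurveNonneg.isGloballyGenerated_of_iso (SecTwist.unitorR LH).symm hgg
  | succ r' =>
    have hexp : ((r' + 1 : ℕ) : ℤ) * (-ArSurf.inter R X LE E) =
        (r' : ℤ) * (-ArSurf.inter R X LE E) + (-ArSurf.inter R X LE E) := by
      push_cast
      ring
    have hF1 := h1_vanish R X hp E h1C LE eE hLE hneg LH hLH h1 r' (by rw [hr]; linarith)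
    have hFinv : PicF.IsInvertible (CohB1.tensorMod LH (CohB1.tensorPow LE r')) :=
      isInvertible_tensorMod hLH (isInvertible_tensorPow hLE r')
    have hM'inv := isInvertible_tensorMod hFinv hLE
    have hint : ArSurf.inter R X
        (CohB1.tensorMod (CohB1.tensorMod LH (CohB1.tensorPow LE r')) LE) E = 0 := by
      rw [PicV.inter_tensor R X hp E hFinv hLE,
        PicV.inter_tensor R X hp E hLH (isInvertible_tensorPow hLE r'),
        inter_pow R X hp E LE hLE r', hr]
      push_cast
      ring
    apply CurveNonneg.isGloballyGenerated_of_iso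
      (GenusOne.assocIso LH (isInvertible_tensorPow hLE r') hLE)
    have hSE := CartSec.shortExact E.ι.ker LE eE hLE hFinv
    have hsurj := H1Surj.app_top_surjective_of_H1 hSE hF1
    obtain ⟨φ⟩ := (nonempty_iso_of_inter_zero R X hp E h1C _ hM'inv hint).2
    apply GenCover.isGloballyGenerated
    refine ⟨hM'inv, fun x => ?_⟩
    by_cases hx : x ∈ (E.ι.ker.support : Set X.left)
    · rw [← Scheme.IdealSheafData.range_subschemeι] at hx
      obtain ⟨z, rfl⟩ := hx
      have ht : z ∈ CohB1.genLocus _ φ.hom := by
        rw [CurveNonneg.genLocus_eq_top_of_isIso φ.hom]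
        trivial
      obtain ⟨a, ha⟩ := hsurj
        (show Γ((Scheme.Modules.pullback E.ι.ker.subschemeι).obj
            (CohB1.tensorMod (CohB1.tensorMod LH (CohB1.tensorPow LE r')) LE),
            E.ι.ker.subschemeι ⁻¹ᵁ ⊤) from
          φ.hom.app ⊤ (show Γ(Coh.structureModule E.ι.ker.subscheme, ⊤) from
            (1 : Γ(E.ι.ker.subscheme, ⊤))))
      have ha' : σ E.ι.ker.subschemeι
          (CohB1.tensorMod (CohB1.tensorMod LH (CohB1.tensorPow LE r')) LE) ⊤ a =
          φ.hom.app ⊤ (show Γ(Coh.structureModule E.ι.ker.subscheme, ⊤) from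
            (1 : Γ(E.ι.ker.subscheme, ⊤))) := ha
      have ht' : φ.hom = (PullSec.unitIso E.ι.ker.subschemeι).inv ≫
          (Scheme.Modules.pullback E.ι.ker.subschemeι).map (TwistAmple.homOfSec
            (CohB1.tensorMod (CohB1.tensorMod LH (CohB1.tensorPow LE r')) LE) a) := by
        rw [RelNak.pull_homOfSec, ha']
        exact PFrame.eq_homOfSec φ.hom
      have hgl := PullGen.genLocus_pullback E.ι.ker.subschemeι hM'inv
        (TwistAmple.homOfSec
          (CohB1.tensorMod (CohB1.tensorMod LH (CohB1.tensorPow LE r')) LE) a)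
        (PullSec.unitIso E.ι.ker.subschemeι).symm
      rw [Iso.symm_hom, ← ht'] at hgl
      rw [hgl] at ht
      exact ⟨TwistAmple.homOfSec _ a, ht⟩
    · have hgenE := CartSec.genAt_sec E.ι.ker LE eE hLE x hx
      obtain ⟨sH, hsH⟩ := AmpleLib.exists_section_of_globallyGenerated hLH hgg x
      have hxE : x ∈ CohB1.genLocus LE (TwistAmple.homOfSec LE (CartSec.sec E.ι.ker LE eE)) :=
        (RegSec.genAt_iff (CartSec.sec E.ι.ker LE eE) x).1 hgenE
      have hxEp := RegSec.genLocus_upow hLE (CartSec.sec E.ι.ker LE eE) r' hxE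
      have hsH2 : x ∈ CohB1.genLocus LH (TwistAmple.homOfSec LH
          (sH.app ⊤ (show Γ(Coh.structureModule X.left, ⊤) from (1 : Γ(X.left, ⊤))))) := by
        rw [← PFrame.eq_homOfSec sH]
        exact hsH
      have h3 := VA2.genLocus_homOfSec_tm hLH (isInvertible_tensorPow hLE r')
        (sH.app ⊤ (show Γ(Coh.structureModule X.left, ⊤) from (1 : Γ(X.left, ⊤))))
        (TwistAmple.homOfSec _ (RegSec.upow (CartSec.sec E.ι.ker LE eE) r'))
      have h2 := VA2.genLocus_homOfSec_tm hFinv hLE
        (tm LH (CohB1.tensorPow LE r') ⊤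
          (sH.app ⊤ (show Γ(Coh.structureModule X.left, ⊤) from (1 : Γ(X.left, ⊤))))
          (secVal (TwistAmple.homOfSec _ (RegSec.upow (CartSec.sec E.ι.ker LE eE) r')) ⊤))
        (TwistAmple.homOfSec LE (CartSec.sec E.ι.ker LE eE))
      refine ⟨TwistAmple.homOfSec _
        (tm (CohB1.tensorMod LH (CohB1.tensorPow LE r')) LE ⊤
          (tm LH (CohB1.tensorPow LE r') ⊤
            (sH.app ⊤ (show Γ(Coh.structureModule X.left, ⊤) from (1 : Γ(X.left, ⊤))))
            (secVal (TwistAmple.homOfSec _ (RegSec.upow (CartSec.sec E.ι.ker LE eE) r')) ⊤))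
          (secVal (TwistAmple.homOfSec LE (CartSec.sec E.ι.ker LE eE)) ⊤)), ?_⟩
      rw [h2, h3]
      exact ⟨⟨hsH2, hxEp⟩, hxE⟩

end Groth.Agent.Helper1.ExcCurve
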