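import Mathlib
import Groth.Agent.Lib.Helper1.PullQA

set_option autoImplicit false
universe u
open CategoryTheory CategoryTheory.Limits AlgebraicGeometry TopologicalSpace Opposite

namespace Groth.Agent.Helper1.PullAmple

open Groth.Agent.Helper1.QcCech Groth.Agent.Helper1.SubSh Groth.Agent.Helper1.LGen
open Groth.Agent.Helper1 Groth.Agent.Helper1.PullSec Groth.Agent.Helper1.TwForm
open Groth.Agent.Helper1.AmpleLib Groth.Agent.Helper1.PullGen Groth.Agent.Helper1.PullPow

variable {Z S : Scheme.{u}} (u : Z ⟶ S)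

/-- pullback commutes with restriction to opens, general form -/
noncomputable def restrictPullbackIso' {U' : Z.Opens} {U : S.Opens}
    (q : (↑U' : Scheme.{u}) ⟶ ↑U) (hq : q ≫ U.ι = U'.ι ≫ u) (L : S.Modules) :
    ((Scheme.Modules.pullback u).obj L).restrict U'.ι ≅
      (Scheme.Modules.pullback q).obj (L.restrict U.ι) :=
  (Scheme.Modules.restrictFunctorIsoPullback U'.ι).app _ ≪≫
    (Scheme.Modules.pullbackComp U'.ι u).app L ≪≫
    (Scheme.Modules.pullbackCongr hq.symm).app L ≪≫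
    ((Scheme.Modules.pullbackComp q U.ι).app L).symm ≪≫
    (Scheme.Modules.pullback q).mapIso
      ((Scheme.Modules.restrictFunctorIsoPullback U.ι).app L).symm

theorem isQuasiAffine_of_isAffineHom [IsAffineHom u] : Mor2.IsQuasiAffine u := by
  refine ⟨inferInstance, fun V hV => ?_⟩
  have : IsAffine (↑(u ⁻¹ᵁ V) : Scheme.{u}) := hV.preimage u
  infer_instance

end Groth.Agent.Helper1.PullAmple

namespace Groth.Agent.Helper1.PullAmple

variable {X Y Y' : Scheme.{u}}

/-- **relative ampleness is stable under base change** (EGA II 4.6.13 (iii)) -/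
theorem isRelAmple_baseChange (f : X ⟶ Y) [QuasiCompact f] (g : Y' ⟶ Y) (L : X.Modules)
    (hL : RelAmple.IsRelAmple f L) :
    RelAmple.IsRelAmple (pullback.snd f g)
      ((Scheme.Modules.pullback (pullback.fst f g)).obj L) := by
  set p := pullback.fst f g with hp
  set f' := pullback.snd f g with hf'
  refine ⟨inferInstance, fun V' => ?_⟩
  apply AmpleLib.isAmple_restrict_preimage_of_locally f' _ V'.1 V'.2
  intro x' hx'
  -- an affine open of `Y` around the image
  obtain ⟨_, ⟨V₀, hV₀, rfl⟩, hyV₀, -⟩ :=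
    Y.isBasis_affineOpens.exists_subset_of_mem_open (Set.mem_univ (g (f' x'))) isOpen_univ
  obtain ⟨V, hV, hyV⟩ : ∃ V : Y.Opens, IsAffineOpen V ∧ g (f' x') ∈ V := ⟨V₀, hV₀, hyV₀⟩
  clear hyV₀ hV₀ V₀
  obtain ⟨r, hr1, hr2⟩ := V'.2.exists_basicOpen_le (V := g ⁻¹ᵁ V) ⟨f' x', hyV⟩ hx'
  refine ⟨r, hr2, ?_⟩
  set D : Y'.Opens := Y'.basicOpen r with hD
  have hDaff : IsAffineOpen D := V'.2.basicOpen r
  set U : X.Opens := f ⁻¹ᵁ V with hU
  set U' : (pullback f g).Opens := f' ⁻¹ᵁ D with hU'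
  -- the morphism `D ⟶ V`
  have hrange : Set.range (D.ι ≫ g) ⊆ Set.range V.ι := by
    rintro _ ⟨d, rfl⟩
    rw [Scheme.Opens.range_ι]
    exact hr1 d.2
  let h : (↑D : Scheme.{u}) ⟶ ↑V := IsOpenImmersion.lift V.ι (D.ι ≫ g) hrange
  have hh : h ≫ V.ι = D.ι ≫ g := IsOpenImmersion.lift_fac _ _ _
  have : IsAffine (↑D : Scheme.{u}) := hDaff
  have : IsAffine (↑V : Scheme.{u}) := hV
  have hhaff : IsAffineHom h := inferInstance
  -- the pullback squares
  have sq1 := (isPullback_morphismRestrict f' D).paste_vert (IsPullback.of_hasPullback f g).flip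
  rw [← hh] at sq1
  have sq2 := isPullback_morphismRestrict f V
  have sq3 := IsPullback.of_bot' sq1 sq2
  set q : (↑U' : Scheme.{u}) ⟶ ↑U := sq2.lift ((f' ∣_ D) ≫ h) (U'.ι ≫ p) (by
    rw [Category.assoc, sq1.w]) with hq
  have hqι : q ≫ U.ι = U'.ι ≫ p := sq2.lift_snd _ _ _
  have hqaff : IsAffineHom q := MorphismProperty.of_isPullback (P := @IsAffineHom) sq3 hhaff
  have h1 := isAmple_pullback_of_isQuasiAffine q (isQuasiAffine_of_isAffineHom q) (hL.2 ⟨V, hV⟩)
  exact TwistAmpleOpen.isAmple_of_iso (restrictPullbackIso' p q hqι L).symm h1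

end Groth.Agent.Helper1.PullAmple
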