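import Mathlib
import Groth.Agent.Lib.Helper1.PullBC
import Groth.Agent.Lib.Helper1.SecOps

set_option autoImplicit false
universe u
open CategoryTheory CategoryTheory.Limits AlgebraicGeometry TopologicalSpace Opposite

namespace Groth.Agent.Helper1.ExtTensor

open Groth.Agent.Helper1.QcCech Groth.Agent.Helper1.SubSh Groth.Agent.Helper1.LGen
open Groth.Agent.Helper1.TmulLib Groth.Agent.Helper1 Groth.Agent.Helper1.TwistSec
open Groth.Agent.Helper1.TensGen Groth.Agent.Helper1.TwForm Groth.Agent.Helper1.AmpleLib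
open Groth.Agent.Helper1.PullAmple

/-- products of affine opens over an affine open of the base are affine opens of the fibre
product -/
theorem isAffineOpen_preimage_inf_preimage {X Y S : Scheme.{u}} (f : X ⟶ S) (g : Y ⟶ S)
    (U : X.Opens) (V : Y.Opens) (S₀ : S.Opens) (hU : IsAffineOpen U) (hV : IsAffineOpen V)
    (hS₀ : IsAffineOpen S₀) (hUS : U ≤ f ⁻¹ᵁ S₀) (hVS : V ≤ g ⁻¹ᵁ S₀) :
    IsAffineOpen ((pullback.fst f g) ⁻¹ᵁ U ⊓ (pullback.snd f g) ⁻¹ᵁ V) := by
  have : IsAffine (↑U : Scheme.{u}) := hU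
  have : IsAffine (↑V : Scheme.{u}) := hV
  have : IsAffine (↑S₀ : Scheme.{u}) := hS₀
  have h1 : Set.range (U.ι ≫ f) ⊆ Set.range S₀.ι := by
    rintro _ ⟨x, rfl⟩
    rw [Scheme.Opens.range_ι]
    exact hUS x.2
  have h2 : Set.range (V.ι ≫ g) ⊆ Set.range S₀.ι := by
    rintro _ ⟨x, rfl⟩
    rw [Scheme.Opens.range_ι]
    exact hVS x.2
  let f₀ : (↑U : Scheme.{u}) ⟶ ↑S₀ := IsOpenImmersion.lift S₀.ι (U.ι ≫ f) h1
  let g₀ : (↑V : Scheme.{u}) ⟶ ↑S₀ := IsOpenImmersion.lift S₀.ι (V.ι ≫ g) h2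
  have e₁ : f₀ ≫ S₀.ι = U.ι ≫ f := IsOpenImmersion.lift_fac _ _ h1
  have e₂ : g₀ ≫ S₀.ι = V.ι ≫ g := IsOpenImmersion.lift_fac _ _ h2
  let j := pullback.map f₀ g₀ f g U.ι V.ι S₀.ι e₁ e₂
  have hj : j.opensRange = (pullback.fst f g) ⁻¹ᵁ U ⊓ (pullback.snd f g) ⁻¹ᵁ V := by
    ext z
    have := Scheme.Pullback.range_map f₀ g₀ f g U.ι V.ι S₀.ι e₁ e₂
    change z ∈ Set.range j ↔ _
    rw [this, Scheme.Opens.range_ι, Scheme.Opens.range_ι]
    rfl
  rw [← hj]
  exact isAffineOpen_opensRange j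

/-- ampleness of a tensor product from products of sections of powers of the factors -/
theorem isAmple_tensor_of_sections {Z : Scheme.{u}} [CompactSpace Z] {A B : Z.Modules}
    (hA : PicF.IsInvertible A) (hB : PicF.IsInvertible B)
    (h : ∀ z : Z, ∃ (a b : ℕ) (s : Coh.structureModule Z ⟶ CohB1.tensorPow A (a + 1))
      (t : Coh.structureModule Z ⟶ CohB1.tensorPow B (b + 1)),
      z ∈ CohB1.genLocus _ s ⊓ CohB1.genLocus _ t ∧
        IsAffineOpen (CohB1.genLocus _ s ⊓ CohB1.genLocus _ t)) :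
    CohB1.IsAmple (CohB1.tensorMod A B) := by
  have hloc := locFrame_of_isInvertible hA hB
  refine ⟨isInvertible_tensorMod hA hB, inferInstance, fun z => ?_⟩
  obtain ⟨k, m, s, s', hz, haff⟩ := h z
  have hAk := isInvertible_tensorPow hA (k + 1)
  have hBm := isInvertible_tensorPow hB (m + 1)
  have h1 := genLocus_powHom hAk s m
  have h2 := genLocus_powHom hBm s' k
  have h3 := genLocus_tmulHom (isInvertible_tensorPow hAk (m + 1))
    (isInvertible_tensorPow hBm (k + 1)) (SecTwist.powHom s (m + 1)) (SecTwist.powHom s' (k + 1))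
  rw [h1, h2] at h3
  let e := Tw.iso
    ((((Tw.fst A B).pow (k + 1)).pow (m + 1)).tensorR (((Tw.snd A B).pow (m + 1)).pow (k + 1)))
    ((((Tw.fst A B).tensorR (Tw.snd A B)).pow (k * (m + 1) + m + 1)).cast
        (by push_cast; ring) (by push_cast; ring)) hloc
  refine ⟨k * (m + 1) + m,
    SecTwist.tmulHom (SecTwist.powHom s (m + 1)) (SecTwist.powHom s' (k + 1)) ≫ e.hom, ?_, ?_⟩
  · rw [TwistAmple.genLocus_comp_iso, h3]; exact hz
  · rw [TwistAmple.genLocus_comp_iso, h3]; exact haff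

/-- **external tensor products of ample modules are ample** (over a quasi-separated base) -/
theorem isAmple_externalTensor {X Y S : Scheme.{u}} [QuasiSeparatedSpace S]
    (f : X ⟶ S) (g : Y ⟶ S) {L : X.Modules} {N : Y.Modules} (hL : CohB1.IsAmple L)
    (hN : CohB1.IsAmple N) :
    CohB1.IsAmple (CohB1.tensorMod ((Scheme.Modules.pullback (pullback.fst f g)).obj L)
      ((Scheme.Modules.pullback (pullback.snd f g)).obj N)) := by
  have : CompactSpace X := hL.2.1
  have : CompactSpace Y := hN.2.1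
  have : CompactSpace ↑(pullback f g) := inferInstance
  apply isAmple_tensor_of_sections (PullGen.isInvertible_pullback _ hL.1)
    (PullGen.isInvertible_pullback _ hN.1)
  intro z
  obtain ⟨_, ⟨S₀, hS₀, rfl⟩, hzS₀, -⟩ := S.isBasis_affineOpens.exists_subset_of_mem_open
    (Set.mem_univ (f (pullback.fst f g z))) isOpen_univ
  have hzS₀' : g (pullback.snd f g z) ∈ S₀ := by
    have : f (pullback.fst f g z) = g (pullback.snd f g z) := by
      rw [← Scheme.Hom.comp_apply, ← Scheme.Hom.comp_apply, pullback.condition]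
    rw [← this]; exact hzS₀
  obtain ⟨a, s, hxs, hsS, haffs⟩ := exists_genLocus_nbhd hL (f ⁻¹ᵁ S₀) (pullback.fst f g z) hzS₀
  obtain ⟨b, t, hyt, htS, hafft⟩ := exists_genLocus_nbhd hN (g ⁻¹ᵁ S₀) (pullback.snd f g z) hzS₀'
  refine ⟨a, b, pullPowSec (pullback.fst f g) hL.1 (a + 1) s,
    pullPowSec (pullback.snd f g) hN.1 (b + 1) t, ?_, ?_⟩
  · rw [genLocus_pullPowSec, genLocus_pullPowSec]
    exact ⟨hxs, hyt⟩
  · rw [genLocus_pullPowSec, genLocus_pullPowSec]
    exact isAffineOpen_preimage_inf_preimage f g _ _ S₀ haffs hafft hS₀ hsS htS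

end Groth.Agent.Helper1.ExtTensor
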