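import Mathlib
import Groth.Prelude.Def_FEt

set_option autoImplicit false

open CategoryTheory Limits AlgebraicGeometry

namespace Groth.Agent.Helper1.FEtFiber

universe u

theorem fiber_finite {X : Scheme.{u}} {Ω : Type u} [Field Ω]
    (ξ : Spec (CommRingCat.of Ω) ⟶ X) (Y : FEt.Cat X) :
    Finite (FEt.fiberObj ξ Y) := by
  have hfin : IsFinite Y.hom := Y.prop.1
  have hfin2 : IsFinite (pullback.snd Y.hom ξ) := inferInstance
  have haff : IsAffine (pullback Y.hom ξ) := isAffine_of_isAffineHom (pullback.snd Y.hom ξ)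
  have hψfin : ((Scheme.ΓSpecIso (CommRingCat.of Ω)).inv ≫
      (pullback.snd Y.hom ξ).appTop).hom.Finite := by
    rw [CommRingCat.hom_comp]
    refine RingHom.Finite.comp (pullback.snd Y.hom ξ).finite_appTop ?_
    apply RingHom.Finite.of_surjective
    exact (ConcreteCategory.bijective_of_isIso (Scheme.ΓSpecIso (CommRingCat.of Ω)).inv).2
  letI : Algebra Ω Γ(pullback Y.hom ξ, ⊤) :=
    ((Scheme.ΓSpecIso (CommRingCat.of Ω)).inv ≫ (pullback.snd Y.hom ξ).appTop).hom.toAlgebra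
  haveI : Module.Finite Ω Γ(pullback Y.hom ξ, ⊤) := hψfin
  let σ : FEt.fiberObj ξ Y → (Spec (CommRingCat.of Ω) ⟶ pullback Y.hom ξ) := fun s =>
    pullback.lift s.1 (𝟙 _) (by rw [s.2, Category.id_comp])
  have hσ1 : ∀ s, σ s ≫ pullback.fst Y.hom ξ = s.1 := fun s => pullback.lift_fst _ _ _
  have hσ2 : ∀ s, σ s ≫ pullback.snd Y.hom ξ = 𝟙 _ := fun s => pullback.lift_snd _ _ _
  let Φ : FEt.fiberObj ξ Y → (Γ(pullback Y.hom ξ, ⊤) →ₐ[Ω] Ω) := fun s =>
    { toRingHom := ((σ s).appTop ≫ (Scheme.ΓSpecIso (CommRingCat.of Ω)).hom).hom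
      commutes' := fun c => by
        have h1 : ((Scheme.ΓSpecIso (CommRingCat.of Ω)).inv ≫ (pullback.snd Y.hom ξ).appTop) ≫
            (σ s).appTop ≫ (Scheme.ΓSpecIso (CommRingCat.of Ω)).hom = 𝟙 _ := by
          rw [Category.assoc, ← Category.assoc (pullback.snd Y.hom ξ).appTop,
            ← Scheme.Hom.comp_appTop, hσ2]
          simp
        exact congrArg (fun k : CommRingCat.of Ω ⟶ CommRingCat.of Ω => k.hom c) h1 }
  apply Finite.of_injective Φ
  intro s s' h
  have h1 : (σ s).appTop = (σ s').appTop := by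
    have h0 := congrArg (fun φ : Γ(pullback Y.hom ξ, ⊤) →ₐ[Ω] Ω => φ.toRingHom) h
    have h2 : (σ s).appTop ≫ (Scheme.ΓSpecIso (CommRingCat.of Ω)).hom =
        (σ s').appTop ≫ (Scheme.ΓSpecIso (CommRingCat.of Ω)).hom := CommRingCat.hom_ext h0
    exact (cancel_mono _).1 h2
  have h3 : σ s = σ s' := ext_of_isAffine h1
  apply Subtype.ext
  rw [← hσ1 s, ← hσ1 s', h3]

end Groth.Agent.Helper1.FEtFiber
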