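import Mathlib

set_option autoImplicit false
universe u
namespace Groth.Agent.Helper1.FFLim

open Ring.DirectLimit in
theorem S6321 {R : Type u} [CommRing R] {ι : Type u} [Preorder ι] [Nonempty ι]
    [IsDirected ι (· ≤ ·)] (G : ι → Type u) [∀ i, CommRing (G i)] [∀ i, Algebra R (G i)]
    (f : ∀ i j, i ≤ j → G i →+* G j) [DirectedSystem G fun i j h => f i j h]
    (hcompat : ∀ i j (h : i ≤ j), (f i j h).comp (algebraMap R (G i)) = algebraMap R (G j))
    (hff : ∀ i, (algebraMap R (G i)).FaithfullyFlat) (i : ι) :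
    ((Ring.DirectLimit.of G (fun i j h => f i j h) i).comp
      (algebraMap R (G i))).FaithfullyFlat := by
  classical
  have hffm : ∀ j, Module.FaithfullyFlat R (G j) := fun j =>
    (RingHom.faithfullyFlat_algebraMap_iff).1 (hff j)
  -- the structure map is independent of the index
  have hφ : ∀ j, (Ring.DirectLimit.of G (fun i j h => f i j h) j).comp (algebraMap R (G j)) =
      (Ring.DirectLimit.of G (fun i j h => f i j h) i).comp (algebraMap R (G i)) := by
    intro j
    obtain ⟨k, hik, hjk⟩ := exists_ge_ge i j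
    have h1 : ∀ l (hl : l ≤ k),
        (Ring.DirectLimit.of G (fun i j h => f i j h) l).comp (algebraMap R (G l)) =
        (Ring.DirectLimit.of G (fun i j h => f i j h) k).comp (algebraMap R (G k)) := by
      intro l hl
      ext r
      simp only [RingHom.comp_apply]
      rw [← hcompat l k hl, RingHom.comp_apply, Ring.DirectLimit.of_f]
    rw [h1 i hik, h1 j hjk]
  unfold RingHom.FaithfullyFlat
  let _ : Algebra R (Ring.DirectLimit G fun i j h => f i j h) :=
    ((Ring.DirectLimit.of G (fun i j h => f i j h) i).comp (algebraMap R (G i))).toAlgebra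
  have halg : ∀ j (r : R), algebraMap R (Ring.DirectLimit G fun i j h => f i j h) r =
      Ring.DirectLimit.of G (fun i j h => f i j h) j (algebraMap R (G j) r) := by
    intro j r
    have := congrArg (fun φ : R →+* _ => φ r) (hφ j)
    simpa [RingHom.algebraMap_toAlgebra] using this.symm
  have hsm : ∀ j (r : R) (x : G j),
      r • Ring.DirectLimit.of G (fun i j h => f i j h) j x =
        Ring.DirectLimit.of G (fun i j h => f i j h) j (r • x) := by
    intro j r x
    rw [Algebra.smul_def, Algebra.smul_def, halg j, map_mul]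
  have hfr : ∀ j k (h : j ≤ k) (r : R) (x : G j), f j k h (r • x) = r • f j k h x := by
    intro j k h r x
    rw [Algebra.smul_def, Algebra.smul_def, map_mul, ← hcompat j k h, RingHom.comp_apply]
  -- lifting finitely many elements to a common stage
  have hex : ∀ (l : ℕ) (x : Fin l → Ring.DirectLimit G fun i j h => f i j h), ∃ j, ∃ g : Fin l → G j,
      ∀ k, Ring.DirectLimit.of G (fun i j h => f i j h) j (g k) = x k := by
    intro l x
    choose i₀ g₀ hg₀ using fun k => Ring.DirectLimit.exists_of (x k)
    obtain ⟨j, hj⟩ := Finset.exists_le (Finset.univ.image i₀)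
    refine ⟨j, fun k => f (i₀ k) j (hj _ (Finset.mem_image_of_mem _ (Finset.mem_univ k))) (g₀ k),
      fun k => ?_⟩
    rw [Ring.DirectLimit.of_f, hg₀]
  have hflat : Module.Flat R (Ring.DirectLimit G fun i j h => f i j h) := by
    apply Module.Flat.of_forall_isTrivialRelation
    intro l r x hrx
    obtain ⟨j, g, hg⟩ := hex l x
    have h0 : Ring.DirectLimit.of G (fun i j h => f i j h) j (∑ k, r k • g k) = 0 := by
      rw [map_sum, ← hrx]
      exact Finset.sum_congr rfl fun k _ => by rw [← hsm, hg]
    obtain ⟨j', hjj', hz⟩ := Ring.DirectLimit.of.zero_exact h0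
    have hrel : ∑ k, r k • f j j' hjj' (g k) = 0 := by
      rw [← hz, map_sum]
      exact Finset.sum_congr rfl fun k _ => (hfr _ _ _ _ _).symm
    have hfl : Module.Flat R (G j') := (hffm j').toFlat
    obtain ⟨κ, a, y, hxy, hra⟩ := Module.Flat.isTrivialRelation_of_sum_smul_eq_zero (R := R) (M := G j') hrel
    refine ⟨κ, a, fun t => Ring.DirectLimit.of G (fun i j h => f i j h) j' (y t),
      fun k => ?_, hra⟩
    have hxyk : f j j' hjj' (g k) = ∑ t, a k t • y t := hxy k
    rw [← hg k, ← Ring.DirectLimit.of_f hjj', hxyk, map_sum]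
    exact Finset.sum_congr rfl fun t _ => (hsm _ _ _).symm
  refine { toFlat := hflat, submodule_ne_top := ?_ }
  intro m hm htop
  have h1 : (1 : Ring.DirectLimit G fun i j h => f i j h) ∈
      m.map (algebraMap R (Ring.DirectLimit G fun i j h => f i j h)) := by
    have := Ideal.smul_top_eq_map (R := R) (S := Ring.DirectLimit G fun i j h => f i j h) m
    rw [htop] at this
    have h2 : (1 : Ring.DirectLimit G fun i j h => f i j h) ∈
        (⊤ : Submodule R (Ring.DirectLimit G fun i j h => f i j h)) := Submodule.mem_top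
    rw [this] at h2
    exact h2
  -- every element of the extended ideal comes from an extended ideal at a finite stage
  have hmapf : ∀ j k (h : j ≤ k) (y : G j), y ∈ m.map (algebraMap R (G j)) →
      f j k h y ∈ m.map (algebraMap R (G k)) := by
    intro j k h y hy
    have := Ideal.mem_map_of_mem (f j k h) hy
    rwa [Ideal.map_map, hcompat j k h] at this
  have hP : ∀ x ∈ m.map (algebraMap R (Ring.DirectLimit G fun i j h => f i j h)),
      ∃ j y, y ∈ m.map (algebraMap R (G j)) ∧
        Ring.DirectLimit.of G (fun i j h => f i j h) j y = x := by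
    intro x hx
    refine Submodule.span_induction (p := fun x _ => ∃ j y, y ∈ m.map (algebraMap R (G j)) ∧
        Ring.DirectLimit.of G (fun i j h => f i j h) j y = x) ?_ ?_ ?_ ?_ hx
    · rintro _ ⟨r, hr, rfl⟩
      exact ⟨i, algebraMap R (G i) r, Ideal.mem_map_of_mem _ hr, (halg i r).symm⟩
    · exact ⟨i, 0, Ideal.zero_mem _, map_zero _⟩
    · rintro x y _ _ ⟨j, a, ha, rfl⟩ ⟨j', b, hb, rfl⟩
      obtain ⟨k, hjk, hj'k⟩ := exists_ge_ge j j'
      refine ⟨k, f j k hjk a + f j' k hj'k b,
        Ideal.add_mem _ (hmapf _ _ _ _ ha) (hmapf _ _ _ _ hb), ?_⟩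
      rw [map_add, Ring.DirectLimit.of_f, Ring.DirectLimit.of_f]
    · rintro s x _ ⟨j, a, ha, rfl⟩
      obtain ⟨j', b, rfl⟩ := Ring.DirectLimit.exists_of s
      obtain ⟨k, hjk, hj'k⟩ := exists_ge_ge j j'
      refine ⟨k, f j' k hj'k b * f j k hjk a,
        Ideal.mul_mem_left _ _ (hmapf _ _ _ _ ha), ?_⟩
      rw [map_mul, Ring.DirectLimit.of_f, Ring.DirectLimit.of_f, smul_eq_mul]
  obtain ⟨j, y, hy, hy1⟩ := hP 1 h1
  have h0 : Ring.DirectLimit.of G (fun i j h => f i j h) j (y - 1) = 0 := by
    rw [map_sub, hy1, map_one, sub_self]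
  obtain ⟨k, hjk, hz⟩ := Ring.DirectLimit.of.zero_exact h0
  have h1k : (1 : G k) ∈ m.map (algebraMap R (G k)) := by
    have := hmapf j k hjk y hy
    rw [map_sub, map_one, sub_eq_zero] at hz
    rwa [hz] at this
  have htopk : m.map (algebraMap R (G k)) = ⊤ := (Ideal.eq_top_iff_one _).2 h1k
  refine (hffm k).submodule_ne_top hm ?_
  rw [Ideal.smul_top_eq_map, htopk]
  rfl

end Groth.Agent.Helper1.FFLim
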