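import Mathlib
import Groth.Agent.Lib.Helper1.FGAInt3
import Groth.Agent.Lib.Helper1.P1Iso2
import Groth.Agent.Lib.Helper1.VA5
import Groth.Agent.Lib.Helper1.TwistTens
import Groth.Agent.Lib.Helper1.PullGen2
import Groth.Agent.Lib.Helper4.ClBridge2
import Groth.Agent.Lib.Helper4.PullTens1
import Groth.Agent.Lib.Helper4.SerreFin

/-!
# Top Hilbert coefficients as intersection numbers (helper1)
-/

set_option autoImplicit false
universe u
open CategoryTheory CategoryTheory.Limits AlgebraicGeometry TopologicalSpace Opposite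

namespace Groth.Agent.Helper1.FGAHilb

open Groth.Agent.Helper1 Groth.Agent.Helper1.Euler Groth.Agent.Helper1.Dv
open Groth.Agent.Helper1.FinLen Groth.Agent.Helper1.TwForm Groth.Agent.Helper1.Curve
open Groth.Agent.Helper1.Snap Groth.Agent.Helper1.SnapPos Groth.Agent.Helper1.FGAInt

section Binom

/-- uniqueness of the coefficients in the basis `C(m + j, j)` -/
theorem binom_unique : ∀ (r : ℕ) (c : ℕ → ℤ) (N : ℕ),
    (∀ m, N ≤ m → ∑ j ∈ Finset.range (r + 1), c j * ((m + j).choose j : ℤ) = 0) →
    ∀ j, j ≤ r → c j = 0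
  | 0, c, N, h => by
    intro j hj
    obtain rfl : j = 0 := by omega
    simpa using h N le_rfl
  | r + 1, c, N, h => by
    have hd : ∀ m, N + 1 ≤ m →
        ∑ j ∈ Finset.range (r + 1), c (j + 1) * ((m + j).choose j : ℤ) = 0 := by
      intro m hm
      obtain ⟨m', rfl⟩ : ∃ m', m = m' + 1 := ⟨m - 1, by omega⟩
      have h1 := h (m' + 1) (by omega)
      have h0 := h m' (by omega)
      rw [Finset.sum_range_succ'] at h1 h0
      have hkey : ∑ j ∈ Finset.range (r + 1), c (j + 1) * ((m' + 1 + j).choose j : ℤ) =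
          (∑ j ∈ Finset.range (r + 1),
            c (j + 1) * ((m' + 1 + (j + 1)).choose (j + 1) : ℤ)) -
          ∑ j ∈ Finset.range (r + 1), c (j + 1) * ((m' + (j + 1)).choose (j + 1) : ℤ) := by
        rw [← Finset.sum_sub_distrib]
        refine Finset.sum_congr rfl fun j _ => ?_
        have hp : (m' + 1 + (j + 1)).choose (j + 1) =
            (m' + 1 + j).choose j + (m' + (j + 1)).choose (j + 1) := by
          rw [show m' + 1 + (j + 1) = (m' + 1 + j) + 1 by omega, Nat.choose_succ_succ,
            show m' + 1 + j = m' + (j + 1) by omega]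
        rw [hp]
        push_cast
        ring
      rw [hkey]
      rw [Nat.choose_zero_right, Nat.cast_one, mul_one] at h1 h0
      linarith
    have ih := binom_unique r (fun j => c (j + 1)) (N + 1) hd
    intro j hj
    rcases Nat.eq_zero_or_pos j with rfl | hpos
    · have h0 := h N le_rfl
      rw [Finset.sum_range_succ'] at h0
      have hz : ∑ j ∈ Finset.range (r + 1),
          c (j + 1) * ((N + (j + 1)).choose (j + 1) : ℤ) = 0 :=
        Finset.sum_eq_zero fun j hj => by
          rw [ih j (by have := Finset.mem_range.1 hj; omega), zero_mul]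
      rw [hz, Nat.choose_zero_right, Nat.cast_one, mul_one, zero_add] at h0
      exact h0
    · obtain ⟨j', rfl⟩ : ∃ j', j = j' + 1 := ⟨j - 1, by omega⟩
      exact ih j' (by omega)

/-- from the basis `C(m + j - 1, j)` to the basis `C(m + j, j)` -/
theorem binom_basis_change (b : ℕ → ℤ) (m : ℕ) : ∀ r : ℕ,
    ∑ j ∈ Finset.range (r + 1), ((m + j - 1).choose j : ℤ) * b j =
      ∑ j ∈ Finset.range (r + 1), (b j - b (j + 1)) * ((m + j).choose j : ℤ) +
        b (r + 1) * ((m + r).choose r : ℤ)
  | 0 => by simp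
  | r + 1 => by
    rw [Finset.sum_range_succ, binom_basis_change b m r,
      Finset.sum_range_succ (fun j => (b j - b (j + 1)) * ((m + j).choose j : ℤ)) (r + 1)]
    have hp : (m + (r + 1)).choose (r + 1) = (m + r).choose r + (m + r).choose (r + 1) := by
      rw [show m + (r + 1) = (m + r) + 1 by omega, Nat.choose_succ_succ]
    rw [show m + (r + 1) - 1 = m + r by omega, hp]
    push_cast
    ring

end Binom

section K0

variable {X : Scheme.{u}} [IsNoetherian X]

/-- the negative binomial expansion of `T_L^m` on classes of dimension at most `r` -/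
theorem T_pow_eq_sum {L M : X.Modules} (hL : PicF.IsInvertible L) (hM : PicF.IsInvertible M)
    (hab : T L hL * T M hM = 1) (r : ℕ) (y : KZero.K0sub (PC X)) (hy : y ∈ FilLT X (r + 1))
    (m : ℕ) :
    ((T L hL) ^ m) y = ∑ j ∈ Finset.range (r + 1),
      (((m + j - 1).choose j : ℕ) : ℤ) • ((1 - T M hM) ^ j) y := by
  set u : AddMonoid.End (KZero.K0sub (PC X)) := 1 - T M hM with hu
  let f : ℕ → KZero.K0sub (PC X) := fun j => (u ^ j) y
  have hf : f (r + 1) = 0 := by
    have h := opM_mem X (fun _ : Fin (r + 1) => M) (fun _ => hM) (r + 1) y hy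
    rw [opM_const, Nat.sub_self, FilLT_zero, AddSubgroup.mem_bot] at h
    exact h
  have hfs : ∀ j, u (f j) = f (j + 1) := fun j => by
    change u ((u ^ j) y) = (u ^ (j + 1)) y
    rw [pow_succ']
    rfl
  change ((T L hL) ^ m) y = ∑ j ∈ Finset.range (r + 1), (((m + j - 1).choose j : ℕ) : ℤ) • f j
  induction m with
  | zero =>
    rw [pow_zero, Finset.sum_range_succ']
    have h0 : ∀ j ∈ Finset.range r,
        ((((0 + (j + 1) - 1).choose (j + 1) : ℕ) : ℤ)) • f (j + 1) = 0 := by
      intro j _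
      rw [show 0 + (j + 1) - 1 = j by omega, Nat.choose_succ_self, Nat.cast_zero, zero_smul]
    rw [Finset.sum_eq_zero h0, zero_add]
    simp only [add_zero, Nat.zero_sub, Nat.choose_self, Nat.cast_one, one_smul]
    rfl
  | succ m ih =>
    have hstep := negBinom_step f r hf (fun m j => (m + j - 1).choose j) m
      (by simp) (fun j => by
        change (m + 1 + (j + 1) - 1).choose (j + 1) =
          (m + 1 + j - 1).choose j + (m + (j + 1) - 1).choose (j + 1)
        rw [show m + 1 + (j + 1) - 1 = (m + j) + 1 by omega,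
          show m + 1 + j - 1 = m + j by omega, show m + (j + 1) - 1 = m + j by omega,
          Nat.choose_succ_succ])
    beta_reduce at hstep
    have hT : T M hM = 1 - u := by rw [hu]; abel
    have hb : (T M hM) (∑ j ∈ Finset.range (r + 1),
        (((m + 1 + j - 1).choose j : ℕ) : ℤ) • f j) =
        ∑ j ∈ Finset.range (r + 1), (((m + j - 1).choose j : ℕ) : ℤ) • f j := by
      rw [← hstep, hT]
      change (∑ j ∈ Finset.range (r + 1), (((m + 1 + j - 1).choose j : ℕ) : ℤ) • f j) -
        u (∑ j ∈ Finset.range (r + 1), (((m + 1 + j - 1).choose j : ℕ) : ℤ) • f j) = _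
      rw [map_sum u]
      congr 1
      refine Finset.sum_congr rfl fun j _ => ?_
      rw [map_zsmul, hfs]
    rw [pow_succ']
    change T L hL (((T L hL) ^ m) y) = _
    rw [ih, ← hb]
    change (T L hL * T M hM) _ = _
    rw [hab]
    rfl

/-- powers of `1 - T` kill the classes of small dimension -/
theorem one_sub_T_pow_eq_zero {M : X.Modules} (hM : PicF.IsInvertible M) (j : ℕ)
    (x : KZero.K0sub (PC X)) (hx : x ∈ FilLT X j) : ((1 - T M hM) ^ j) x = 0 := by
  have h := opM_eq_zero_of_mem X (fun _ : Fin j => M) (fun _ => hM) x hx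
  rwa [opM_const] at h

theorem one_sub_T_pow_mem {M : X.Modules} (hM : PicF.IsInvertible M) (j D : ℕ)
    (x : KZero.K0sub (PC X)) (hx : x ∈ FilLT X D) : ((1 - T M hM) ^ j) x ∈ FilLT X (D - j) := by
  have h := opM_mem X (fun _ : Fin j => M) (fun _ => hM) D x hx
  rwa [opM_const] at h

end K0

section Twists

variable (k : Type u) [Field k] (n : ℕ) (X : Scheme.{u}) (i : X ⟶ CohB1.ProjSpace n k)

/-- `i^* O(1) ⊗ i^* O(-1) ≅ O_X` -/
theorem nonempty_hyperplane_inverse :
    Nonempty (CohB1.tensorMod ((Scheme.Modules.pullback i).obj (Twist.twistProjSpace n k 1))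
      ((Scheme.Modules.pullback i).obj (Twist.twistProjSpace n k (-1))) ≅
        Coh.structureModule X) := by
  obtain ⟨hinv, hadd, hpow⟩ := TwistTens.twist_package (CohB1.polyGrading n k)
    (Groth.Agent.Lib.Helper4.SerreFin.hcov1 n k)
  obtain ⟨e1⟩ := hadd 1 (-1)
  have h0 : (1 : ℤ) + -1 = 0 := by norm_num
  rw [h0] at e1
  obtain ⟨e2⟩ := hpow 0
  rw [Nat.cast_zero] at e2
  exact ⟨(Groth.Agent.Lib.Helper4.PullTens1.pullTensIso i
      (A := Twist.twistProjSpace n k 1) (B := Twist.twistProjSpace n k (-1))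
      (hinv 1) (hinv (-1))).symm ≪≫
    (Scheme.Modules.pullback i).mapIso (e1 ≪≫ e2) ≪≫ PullSec.unitIso i⟩

/-- `F(m) ≅ F ⊗ (i^* O(1))^{⊗ m}` -/
theorem nonempty_twistOn_iso (F : X.Modules) (m : ℕ) :
    Nonempty (Pic13.twistOn k i F (m : ℤ) ≅ CohB1.tensorMod F
      (CohB1.tensorPow ((Scheme.Modules.pullback i).obj (Twist.twistProjSpace n k 1)) m)) := by
  obtain ⟨hinv, hadd, hpow⟩ := TwistTens.twist_package (CohB1.polyGrading n k)
    (Groth.Agent.Lib.Helper4.SerreFin.hcov1 n k)
  obtain ⟨e⟩ := hpow m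
  obtain ⟨e'⟩ := P1Iso.nonempty_pullback_tensorPow_iso i
    (M := Twist.twistProjSpace n k 1) (hinv 1) m
  exact ⟨Groth.Agent.Lead.TilT.tensorModCongr (Iso.refl F)
    ((Scheme.Modules.pullback i).mapIso e ≪≫ e')⟩

end Twists

section Main

variable (k : Type u) [Field k] (n : ℕ) (X : Scheme.{u}) [X.Over (Spec (CommRingCat.of k))]
  (i : X ⟶ CohB1.ProjSpace n k) [IsClosedImmersion i]

/-- **S5644** -/
theorem hilbertCoeff_top
    (hi : i ≫ CohB1.ProjSpace.toSpec n k = X ↘ Spec (CommRingCat.of k))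
    (s : ℕ) (hdim : topologicalKrullDim X = (s + 1 : ℕ))
    (L L' : X.Modules) (hL : PicF.IsInvertible L)
    (hLL' : Nonempty (CohB1.tensorMod L L' ≅ Coh.structureModule X))
    (a e : Fin (s + 2) → ℤ)
    (ha : ∀ m : ℕ, FGA.eulerCharLE k X (Pic13.twistOn k i L m) (s + 1) =
      ∑ j : Fin (s + 2), a j * ((m + j).choose j : ℤ))
    (he : ∀ m : ℕ, FGA.eulerCharLE k X (Pic13.twistOn k i (Coh.structureModule X) m) (s + 1) =
      ∑ j : Fin (s + 2), e j * ((m + j).choose j : ℤ)) :
    a (Fin.last (s + 1)) = e (Fin.last (s + 1)) ∧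
      a (Fin.last (s + 1)) = FGA.intNum k X (s + 1)
        (fun _ : Fin (s + 1) => (Scheme.Modules.pullback i).obj (Twist.twistProjSpace n k (-1)))
        (Coh.structureModule X) ∧
      a (Fin.castSucc (Fin.last s)) - e (Fin.castSucc (Fin.last s)) = FGA.intNum k X (s + 1)
        (Matrix.vecCons L' (fun _ : Fin s =>
          (Scheme.Modules.pullback i).obj (Twist.twistProjSpace n k (-1))))
        (Coh.structureModule X) := by
  haveI : IsProper (X ↘ Spec (CommRingCat.of k)) := by
    rw [← hi]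
    infer_instance
  haveI := Euler.isNoetherian_of_proper k X
  have hd : topologicalKrullDim X ≤ (s + 1 : ℕ) := hdim.le
  set H := (Scheme.Modules.pullback i).obj (Twist.twistProjSpace n k 1) with hHdef
  set H' := (Scheme.Modules.pullback i).obj (Twist.twistProjSpace n k (-1)) with hH'def
  obtain ⟨isoH⟩ := nonempty_hyperplane_inverse k n X i
  obtain ⟨isoL⟩ := hLL'
  have hH : PicF.IsInvertible H :=
    PullGen.isInvertible_pullback i (Groth.Agent.Lib.Helper4.ClBridge2.isInvertible_twist n k 1)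
  have hH' : PicF.IsInvertible H' :=
    PullGen.isInvertible_pullback i
      (Groth.Agent.Lib.Helper4.ClBridge2.isInvertible_twist n k (-1))
  have hL' : PicF.IsInvertible L' :=
    CurveCart.isInvertible_left_of_tensor_iso hL (TildeTens.tensorModComm L' L ≪≫ isoL)
  have hab : T H hH * T H' hH' = 1 := T_mul_of_inverse hH hH' isoH
  have hLab : T L hL * T L' hL' = 1 := T_mul_of_inverse hL hL' isoL
  have hLba : T L' hL' * T L hL = 1 := by
    rw [← (T_comm L L' hL hL').eq]
    exact hLab
  set u : AddMonoid.End (KZero.K0sub (PC X)) := 1 - T H' hH' with hu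
  have hOc := isCoh_structureModule X
  have hLc : Coh.IsCoh L := InvQc.isCoh_of_isInvertible _ hL
  set o := KZero.clSub (PC X) (Coh.structureModule X) with ho
  set l := KZero.clSub (PC X) L with hl
  have hdimS : ∀ S : Set X, topologicalKrullDim ↥S ≤ ((s + 1 : ℕ) : WithBot ℕ∞) :=
    fun S => (topologicalKrullDim_subspace_le X S).trans hd
  have homem : o ∈ FilLT X (s + 1 + 1) := clSub_mem_FilLT (s + 1) _ hOc (hdimS _)
  have hlmem : l ∈ FilLT X (s + 1 + 1) := clSub_mem_FilLT (s + 1) _ hLc (hdimS _)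
  -- `[L] = T_L [O]`
  have hlo : l = T L hL o := by
    rw [ho, T_clSub L hL _ hOc]
    exact clSub_iso (Groth.Agent.Lib.Helper5.LTenFlf.tensorUnitIso L) (isCoh_tensor _ _ hLc hOc)
  have hdiff : l - o = (T L hL - 1) o := by
    rw [hlo]
    rfl
  have hdmem : l - o ∈ FilLT X (s + 1) := by
    rw [hdiff]
    have h := pow_sub_one_mem L hL (s + 1 + 1) o homem 1
    rwa [pow_one, show s + 1 + 1 - 1 = s + 1 by omega] at h
  -- Euler characteristics of the twists
  have hE : ∀ (F : X.Modules) (hF : Coh.IsCoh F) (m : ℕ),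
      FGA.eulerCharLE k X (Pic13.twistOn k i F m) (s + 1) =
        eulerHom k X (((T H hH) ^ m) (KZero.clSub (PC X) F)) := by
    intro F hF m
    obtain ⟨e⟩ := nonempty_twistOn_iso k n X i F m
    rw [eulerCharLE_eq_euler k X (s + 1) hd, Euler.euler_iso k X e,
      ← clSub_tensor_tensorPow H hH F hF m, eulerHom_clSub k X _ (isCoh_tensor _ _ hF
        (InvQc.isCoh_of_isInvertible _ (isInvertible_tensorPow hH m)))]
  -- the expansions
  have hexp : ∀ (y : KZero.K0sub (PC X)) (hy : y ∈ FilLT X (s + 1 + 1)) (m : ℕ),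
      eulerHom k X (((T H hH) ^ m) y) = ∑ j ∈ Finset.range (s + 1 + 1),
        (eulerHom k X ((u ^ j) y) - eulerHom k X ((u ^ (j + 1)) y)) *
          ((m + j).choose j : ℤ) := by
    intro y hy m
    rw [T_pow_eq_sum hH hH' hab (s + 1) y hy m, map_sum]
    have h1 : ∀ j ∈ Finset.range (s + 1 + 1),
        eulerHom k X ((((m + j - 1).choose j : ℕ) : ℤ) • ((1 - T H' hH') ^ j) y) =
          ((m + j - 1).choose j : ℤ) * eulerHom k X ((u ^ j) y) := by
      intro j _
      rw [map_zsmul, smul_eq_mul]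
    rw [Finset.sum_congr rfl h1, binom_basis_change (fun j => eulerHom k X ((u ^ j) y)) m (s + 1)]
    have hz : (u ^ (s + 1 + 1)) y = 0 := one_sub_T_pow_eq_zero hH' _ y hy
    beta_reduce
    rw [hz, map_zero, zero_mul, add_zero]
  -- uniqueness of coefficients
  have huniq : ∀ (c : Fin (s + 2) → ℤ) (y : KZero.K0sub (PC X)) (hy : y ∈ FilLT X (s + 1 + 1)),
      (∀ m : ℕ, eulerHom k X (((T H hH) ^ m) y) =
        ∑ j : Fin (s + 2), c j * ((m + j).choose j : ℤ)) →
      ∀ j : Fin (s + 2), c j = eulerHom k X ((u ^ (j : ℕ)) y) -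
        eulerHom k X ((u ^ ((j : ℕ) + 1)) y) := by
    intro c y hy hc
    set c' : ℕ → ℤ := fun t => if h : t < s + 2 then c ⟨t, h⟩ else 0 with hc'
    have hcc : ∀ j : Fin (s + 2), c' j = c j := fun j => by
      rw [hc']
      exact dif_pos j.2
    have hsum : ∀ m : ℕ, ∑ j : Fin (s + 2), c j * ((m + j).choose j : ℤ) =
        ∑ t ∈ Finset.range (s + 1 + 1), c' t * ((m + t).choose t : ℤ) := by
      intro m
      have h3 := Fin.sum_univ_eq_sum_range (fun t => c' t * ((m + t).choose t : ℤ)) (s + 2)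
      refine Eq.trans (Finset.sum_congr rfl fun j _ => ?_) h3
      beta_reduce
      rw [hcc j]
    have hall := binom_unique (s + 1)
      (fun t => c' t - (eulerHom k X ((u ^ t) y) - eulerHom k X ((u ^ (t + 1)) y))) 0
      (fun m _ => by
        have h1 := hc m
        rw [hexp y hy m, hsum m] at h1
        have h2 : ∑ j ∈ Finset.range (s + 1 + 1),
            (c' j - (eulerHom k X ((u ^ j) y) - eulerHom k X ((u ^ (j + 1)) y))) *
              ((m + j).choose j : ℤ) =
            (∑ j ∈ Finset.range (s + 1 + 1), c' j * ((m + j).choose j : ℤ)) -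
              ∑ j ∈ Finset.range (s + 1 + 1),
                (eulerHom k X ((u ^ j) y) - eulerHom k X ((u ^ (j + 1)) y)) *
                  ((m + j).choose j : ℤ) := by
          rw [← Finset.sum_sub_distrib]
          exact Finset.sum_congr rfl fun j _ => sub_mul _ _ _
        exact h2.trans (by rw [h1, sub_self]))
    intro j
    have h2 := hall j (by have := j.2; omega)
    rw [← hcc j]
    exact sub_eq_zero.1 h2
  have hA := huniq a l hlmem (fun m => (hE L hLc m).symm.trans (ha m))
  have hEE := huniq e o homem (fun m => (hE _ hOc m).symm.trans (he m))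
  -- `u^(s+2)` kills everything, `u^(s+1)` kills `l - o`
  have hzl : (u ^ (s + 1 + 1)) l = 0 := one_sub_T_pow_eq_zero hH' _ l hlmem
  have hzo : (u ^ (s + 1 + 1)) o = 0 := one_sub_T_pow_eq_zero hH' _ o homem
  have htop : (u ^ (s + 1)) l = (u ^ (s + 1)) o := by
    have h := one_sub_T_pow_eq_zero hH' (s + 1) (l - o) hdmem
    rw [map_sub, sub_eq_zero] at h
    exact h
  have hal : a (Fin.last (s + 1)) = eulerHom k X ((u ^ (s + 1)) l) := by
    have h := hA (Fin.last (s + 1))
    rw [Fin.val_last, hzl, map_zero, sub_zero] at h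
    exact h
  have hel : e (Fin.last (s + 1)) = eulerHom k X ((u ^ (s + 1)) o) := by
    have h := hEE (Fin.last (s + 1))
    rw [Fin.val_last, hzo, map_zero, sub_zero] at h
    exact h
  have hint1 : FGA.intNum k X (s + 1) (fun _ : Fin (s + 1) => H') (Coh.structureModule X) =
      eulerHom k X ((u ^ (s + 1)) o) := by
    rw [intNum_eq k X (s + 1) hd _ (fun _ => hH') _ hOc, opM_const]
  refine ⟨by rw [hal, hel, htop], by rw [hal, hint1, htop], ?_⟩
  -- the second coefficient
  have has : a (Fin.castSucc (Fin.last s)) =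
      eulerHom k X ((u ^ s) l) - eulerHom k X ((u ^ (s + 1)) l) := hA (Fin.castSucc (Fin.last s))
  have hes : e (Fin.castSucc (Fin.last s)) =
      eulerHom k X ((u ^ s) o) - eulerHom k X ((u ^ (s + 1)) o) := hEE (Fin.castSucc (Fin.last s))
  have hN : ∀ j, PicF.IsInvertible
      ((Fin.cons L' (fun _ : Fin s => H') : Fin (s + 1) → X.Modules) j) := fun j =>
    Fin.cases (motive := fun j => PicF.IsInvertible
      ((Fin.cons L' (fun _ : Fin s => H') : Fin (s + 1) → X.Modules) j)) hL' (fun _ => hH') j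
  have hint2 : FGA.intNum k X (s + 1) (Matrix.vecCons L' (fun _ : Fin s => H'))
      (Coh.structureModule X) = eulerHom k X ((1 - T L' hL') ((u ^ s) o)) := by
    have h := intNum_eq k X (s + 1) hd (Fin.cons L' (fun _ : Fin s => H')) hN _ hOc
    rw [opM_cons X L' hL' (fun _ : Fin s => H') (fun _ => hH') hN, opM_const] at h
    exact h
  rw [hint2, has, hes, htop]
  -- `(1 - T_{L'}) u^s o = u^s (l - o)`
  have hcomm : Commute (T L hL - 1) (u ^ s) :=
    (((Commute.one_right _).sub_right (T_comm L H' hL hH')).sub_left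
      (Commute.one_left _)).pow_right s
  have hw : (1 - T L' hL') = T L' hL' * (T L hL - 1) := by rw [mul_sub, mul_one, hLba]
  have hmem1 : (u ^ s) (l - o) ∈ FilLT X 1 := by
    have h := one_sub_T_pow_mem hH' s (s + 1) (l - o) hdmem
    rwa [show s + 1 - s = 1 by omega] at h
  have hfin : (1 - T L' hL') ((u ^ s) o) = (u ^ s) (l - o) := by
    rw [hw]
    change T L' hL' ((T L hL - 1) ((u ^ s) o)) = _
    have h1 : (T L hL - 1) ((u ^ s) o) = (u ^ s) ((T L hL - 1) o) :=
      congrArg (fun f : AddMonoid.End (KZero.K0sub (PC X)) => f o) hcomm.eq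
    rw [h1, ← hdiff, T_fix L' hL' _ hmem1]
  rw [hfin, map_sub, map_sub]
  ring

end Main

end Groth.Agent.Helper1.FGAHilb
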