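import Mathlib
import Groth.Agent.Lib.Helper1.FPA8
import Groth.Agent.Lib.Helper1.SubExt10

set_option autoImplicit false
universe u
open CategoryTheory CategoryTheory.Limits AlgebraicGeometry TopologicalSpace Opposite

namespace Groth.Agent.Helper1.FPA

open Scheme.Modules Groth.Agent.Helper1.SubSh

variable {X : Scheme.{u}}

/-- a morphism of modules as a linear map on sections -/
noncomputable def appL {M N : X.Modules} (φ : M ⟶ N) (U : X.Opens) :
    Γ(M, U) →ₗ[Γ(X, U)] Γ(N, U) where
  toFun m := φ.app U m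
  map_add' a b := map_add _ a b
  map_smul' r m := Hom.app_smul φ r m

theorem appL_apply {M N : X.Modules} (φ : M ⟶ N) (U : X.Opens) (m : Γ(M, U)) :
    appL φ U m = φ.app U m := rfl

/-- exactness on sections of a kernel-type sequence -/
theorem range_appL_eq_ker {A B C : X.Modules} (f : A ⟶ B) (g : B ⟶ C) (w : f ≫ g = 0)
    (hS : (ShortComplex.mk f g w).Exact) [Mono f] (U : X.Opens) :
    LinearMap.range (appL f U) = LinearMap.ker (appL g U) := by
  ext y
  constructor
  · rintro ⟨z, rfl⟩
    have := congrArg (fun ψ => Scheme.Modules.Hom.app ψ U z) w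
    exact this
  · intro hy
    haveI : Mono (ShortComplex.mk f g w).f := ‹Mono f›
    obtain ⟨z, hz⟩ := QcAbel.app_exact' (S := ShortComplex.mk f g w) hS U y hy
    exact ⟨z, hz⟩

theorem appL_injective_of_mono {A B : X.Modules} (f : A ⟶ B) [Mono f] (U : X.Opens) :
    Function.Injective (appL f U) := by
  haveI : Mono (ShortComplex.mk f (0 : B ⟶ B) comp_zero).f := ‹Mono f›
  exact QcAbel.app_injective' (S := ShortComplex.mk f (0 : B ⟶ B) comp_zero) U

theorem range_kernel_ι {G H : X.Modules} (p : G ⟶ H) (U : X.Opens) :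
    LinearMap.range (appL (kernel.ι p) U) = LinearMap.ker (appL p U) :=
  range_appL_eq_ker (kernel.ι p) p (kernel.condition p)
    (ShortComplex.exact_of_f_is_kernel _ (kernelIsKernel p)) U

theorem range_eq_ker_cokernel_π {A B : X.Modules} (f : A ⟶ B) [Mono f] (U : X.Opens) :
    LinearMap.range (appL f U) = LinearMap.ker (appL (cokernel.π f) U) :=
  range_appL_eq_ker f (cokernel.π f) (cokernel.condition f)
    (ShortComplex.exact_of_g_is_cokernel _ (cokernelIsCokernel f)) U

/-- sections over an affine open of the kernel of an epimorphism from a module with finite sections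
onto a module with finitely presented sections are finite -/
theorem finite_sections_kernel {G H : X.Modules} [G.IsQuasicoherent] [H.IsQuasicoherent]
    (p : G ⟶ H) [Epi p] {U : X.Opens} (hU : IsAffineOpen U)
    (hG : Module.Finite Γ(X, U) Γ(G, U)) (hH : Module.FinitePresentation Γ(X, U) Γ(H, U)) :
    Module.Finite Γ(X, U) Γ(kernel p, U) := by
  have hsurj : Function.Surjective (appL p U) := AffPushEpi.app_surjective_of_epi p U hU
  have hfg : (LinearMap.ker (appL p U)).FG := Module.FinitePresentation.fg_ker (appL p U) hsurj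
  rw [← range_kernel_ι] at hfg
  haveI : Module.Finite Γ(X, U) ↥(LinearMap.range (appL (kernel.ι p) U)) :=
    Module.Finite.iff_fg.2 hfg
  exact Module.Finite.equiv
    (LinearEquiv.ofInjective _ (appL_injective_of_mono (kernel.ι p) U)).symm

/-- the cokernel of a monomorphism from a quasi-coherent module of finite type to a finitely presented
module is finitely presented -/
theorem isFP_cokernel_of_mono {A B : X.Modules} [A.IsQuasicoherent] (u : A ⟶ B) [Mono u]
    (hA : CohB1.IsFT A) (hB : CohB1.IsFP B) : CohB1.IsFP (cokernel u) := by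
  haveI := isQuasicoherent_of_isFP B hB
  haveI : (cokernel u).IsQuasicoherent := QcAbel.isQuasicoherent_cokernel u
  rw [Groth.Agent.Lead.FP.isFP_iff_affineOpens]
  intro T hT
  haveI := Groth.Agent.Lead.FP.fp_sections_of_isFP B hB hT
  haveI := Groth.Agent.Lead.FLF.ft_sections A hA hT
  have hsurj : Function.Surjective (appL (cokernel.π u) T) :=
    AffPushEpi.app_surjective_of_epi (cokernel.π u) T hT
  have hfg : (LinearMap.ker (appL (cokernel.π u) T)).FG := by
    rw [← range_eq_ker_cokernel_π]
    haveI : Module.Finite Γ(X, T) ↥(LinearMap.range (appL u T)) :=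
      Module.Finite.range (appL u T)
    exact Module.Finite.iff_fg.1 inferInstance
  exact Module.finitePresentation_of_surjective (appL (cokernel.π u) T) hsurj hfg

/-- **Stacks 01PI-type statement**: on a qcqs scheme a quasi-coherent module of finite type which is
finitely presented over a quasi-compact open `U` is a quotient of a finitely presented module by a
surjection which is an isomorphism over `U` -/
theorem exists_fp_epi_isoOn [CompactSpace X] [QuasiSeparatedSpace X] (F : X.Modules)
    [F.IsQuasicoherent] (hF : CohB1.IsFT F) (U : X.Opens) (hU : IsCompact (U : Set X))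
    (hFU : FPOn F U) :
    ∃ (G : X.Modules) (φ : G ⟶ F), G.IsQuasicoherent ∧ CohB1.IsFP G ∧ Epi φ ∧ IsoOn φ U := by
  obtain ⟨G₀, φ₀, hG₀, hφ₀⟩ := exists_fp_epi F hF
  haveI := hφ₀
  haveI := isQuasicoherent_of_isFP G₀ hG₀
  haveI hKq : (kernel φ₀).IsQuasicoherent := QcAbel.isQuasicoherent_kernel φ₀
  -- the kernel is of finite type over `U`
  have h0 : (LocalSub.top (kernel φ₀)).IsQcFtOn U := by
    intro x hx
    obtain ⟨_, ⟨B, hB, rfl⟩, hxB, hBU⟩ :=
      X.isBasis_affineOpens.exists_subset_of_mem_open hx U.isOpen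
    refine ⟨B, hxB, hBU, hB, (LocalSub.top_extPOn (F := kernel φ₀)).mono le_top, ?_⟩
    haveI := Groth.Agent.Lead.FP.fp_sections_of_isFP G₀ hG₀ hB
    haveI : Module.Finite Γ(X, B) Γ(kernel φ₀, B) :=
      finite_sections_kernel φ₀ hB inferInstance (hFU B hB hBU)
    exact Module.Finite.fg_top
  obtain ⟨N', hN', hcar⟩ := LocalSub.exists_extension_of_qcqs U hU (LocalSub.top (kernel φ₀)) h0
  haveI hK'q : N'.obj.IsQuasicoherent := N'.isQuasicoherent_obj hN'.isQcOn
  have hK'ft : CohB1.IsFT N'.obj := N'.isFiniteType_obj hN'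
  let u : N'.obj ⟶ G₀ := N'.ι ≫ kernel.ι φ₀
  haveI : Mono u := mono_comp _ _
  have hu : u ≫ φ₀ = 0 := by
    change (N'.ι ≫ kernel.ι φ₀) ≫ φ₀ = 0
    rw [Category.assoc, kernel.condition, comp_zero]
  let φ : cokernel u ⟶ F := cokernel.desc u φ₀ hu
  have hfac : cokernel.π u ≫ φ = φ₀ := cokernel.π_desc u φ₀ hu
  haveI hGq : (cokernel u).IsQuasicoherent := QcAbel.isQuasicoherent_cokernel u
  haveI hepi : Epi φ := epi_of_epi_fac hfac
  refine ⟨cokernel u, φ, hGq, isFP_cokernel_of_mono u hK'ft hG₀, hepi, ?_⟩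
  apply isoOn_of_cover
  intro x hx
  obtain ⟨_, ⟨T, hT, rfl⟩, hxT, hTU⟩ :=
    X.isBasis_affineOpens.exists_subset_of_mem_open hx U.isOpen
  refine ⟨T, hT, hxT, hTU, ?_, AffPushEpi.app_surjective_of_epi φ T hT⟩
  rw [injective_iff_map_eq_zero]
  intro g hg
  obtain ⟨g₀, rfl⟩ := AffPushEpi.app_surjective_of_epi (cokernel.π u) T hT g
  have h1 : φ₀.app T g₀ = 0 := by
    have := congrArg (fun ψ => Scheme.Modules.Hom.app ψ T g₀) hfac
    exact this.symm.trans hg
  have h2 : g₀ ∈ LinearMap.range (appL (kernel.ι φ₀) T) := by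
    rw [range_kernel_ι]
    exact h1
  obtain ⟨k, hk⟩ := h2
  have hkmem : k ∈ N'.carrier T := by
    rw [hcar T hTU]
    trivial
  obtain ⟨k', hk'⟩ := (N'.mem_iff k).1 hkmem
  have h3 : u.app T k' = g₀ := by
    change (kernel.ι φ₀).app T (N'.ι.app T k') = g₀
    rw [hk']
    exact hk
  rw [← h3]
  have := congrArg (fun ψ => Scheme.Modules.Hom.app ψ T k') (cokernel.condition u)
  exact this

end Groth.Agent.Helper1.FPA
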