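import Mathlib
import Groth.Agent.Lib.Helper1.SubExt9
import Groth.Agent.Lib.Helper1.FinPush

set_option autoImplicit false
universe u
open CategoryTheory CategoryTheory.Limits AlgebraicGeometry TopologicalSpace Opposite

namespace Groth.Agent.Helper1.SubSh

open Groth.Agent.Helper1.QcCech Groth.Agent.Helper1

variable {X : Scheme.{u}} {F : X.Modules}

namespace LocalSub

/-- a locally quasi-coherent subsheaf has the extension property on all affine opens -/
theorem extPOn_top_of_isQcOn [F.IsQuasicoherent] (N : LocalSub F) (h : N.IsQcOn ⊤) :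
    N.ExtPOn ⊤ := by
  intro B hB _ f y hy
  obtain ⟨n₀, t₀, ht₀⟩ := QcAbel.extP_of_isQuasicoherent F B hB f _ rfl y
  obtain ⟨m, hm⟩ := absorb_of_isCompact N (O := ⊤) (A := B) (W := B) h le_top le_rfl
    hB.isCompact f t₀ (by
      rw [res_res, res_res, ← res_res F (X.basicOpen_le f) inf_le_right, ht₀, res_smul]
      exact (N.carrier _).smul_mem _ (N.res_mem _ hy))
  refine ⟨m + n₀, f ^ m • t₀, ?_, ?_⟩
  · rwa [res_self] at hm
  · rw [res_smul, ht₀, smul_smul, map_pow, ← pow_add]

/-- sections of a quasi-coherent subsheaf of finite type over an affine open are finitely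
generated -/
theorem fg_of_isQcFtOn [F.IsQuasicoherent] (N : LocalSub F) (h : N.IsQcFtOn ⊤) {V : X.Opens}
    (hV : IsAffineOpen V) : (N.carrier V).FG := by
  have hq : N.obj.IsQuasicoherent := N.isQuasicoherent_obj h.isQcOn
  have hft := N.isFiniteType_obj h
  have hfin : Module.Finite Γ(X, V) Γ(N.obj, V) := FinPush.finite_sections N.obj ⟨hq, hft⟩ hV
  have : Module.Finite Γ(X, V) (N.carrier V) := Module.Finite.equiv (N.sectionsEquiv V).symm
  exact Module.Finite.iff_fg.1 this

/-- a quasi-coherent subsheaf of finite type is good on every affine open -/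
theorem good_of_isQcFtOn [F.IsQuasicoherent] (N : LocalSub F) (h : N.IsQcFtOn ⊤) {V : X.Opens}
    (hV : IsAffineOpen V) : N.Good V :=
  ⟨hV, (N.extPOn_top_of_isQcOn h.isQcOn).mono le_top, N.fg_of_isQcFtOn h hV⟩

/-! ### sums -/

/-- sectionwise sum of two families -/
noncomputable def supPre (G H : LocalSub F) : PreSub F where
  carrier U := G.carrier U ⊔ H.carrier U
  res_mem := by
    intro U V h t ht
    obtain ⟨g, hg, k, hk, rfl⟩ := Submodule.mem_sup.1 ht
    rw [map_add]
    exact Submodule.add_mem_sup (G.res_mem h hg) (H.res_mem h hk)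

/-- the sum of two subsheaves -/
noncomputable def sup (G H : LocalSub F) : LocalSub F := (supPre G H).loc

theorem le_sup_left (G H : LocalSub F) (U : X.Opens) : G.carrier U ≤ (sup G H).carrier U :=
  fun _ ht => (supPre G H).le_loc (Submodule.mem_sup_left ht)

theorem le_sup_right (G H : LocalSub F) (U : X.Opens) : H.carrier U ≤ (sup G H).carrier U :=
  fun _ ht => (supPre G H).le_loc (Submodule.mem_sup_right ht)

/-- over an affine open the sum of two quasi-coherent subsheaves is the sum of the sections -/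
theorem sup_carrier_of_isAffineOpen [F.IsQuasicoherent] (G H : LocalSub F)
    (hG : G.ExtPOn ⊤) (hH : H.ExtPOn ⊤) {B : X.Opens} (hB : IsAffineOpen B) :
    (sup G H).carrier B = G.carrier B ⊔ H.carrier B := by
  apply le_antisymm
  · intro y hy
    let s : Set Γ(X, B) := {f | ∃ n : ℕ, f ^ n • y ∈ G.carrier B ⊔ H.carrier B}
    have hs : Ideal.span s = ⊤ := by
      rw [← hB.self_le_iSup_basicOpen_iff]
      intro x hx
      obtain ⟨W, hWB, hxW, hm⟩ := hy x hx
      obtain ⟨f, hfW, hxf⟩ := hB.exists_basicOpen_le (V := W) ⟨x, hxW⟩ hx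
      refine Opens.mem_iSup.2 ⟨⟨f, ?_⟩, hxf⟩
      have hm' := (supPre G H).res_mem hfW hm
      rw [res_res] at hm'
      obtain ⟨g, hg, k, hk, e⟩ := Submodule.mem_sup.1 hm'
      obtain ⟨n, g', hg', eg⟩ := hG B hB le_top f g hg
      obtain ⟨m, k', hk', ek⟩ := hH B hB le_top f k hk
      have h0 : res F (X.basicOpen_le f) (f ^ (n + m) • y - (f ^ m • g' + f ^ n • k')) = 0 := by
        rw [map_sub, map_add, res_smul, res_smul, res_smul, eg, ek, ← e, smul_add, map_pow,
          map_pow, map_pow, smul_smul, smul_smul, ← pow_add, ← pow_add, add_comm m n, sub_self]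
      obtain ⟨j, hj⟩ := QcAbel.killP_of_isQuasicoherent F B hB f _ rfl _ h0
      refine ⟨j + (n + m), ?_⟩
      rw [smul_sub, sub_eq_zero] at hj
      rw [pow_add, mul_smul, hj]
      refine Submodule.smul_mem _ _ (Submodule.add_mem _ ?_ ?_)
      · exact Submodule.mem_sup_left (Submodule.smul_mem _ _ hg')
      · exact Submodule.mem_sup_right (Submodule.smul_mem _ _ hk')
    exact Submodule.mem_of_span_eq_top_of_smul_pow_mem _ s hs y (fun r => r.2)
  · exact _root_.sup_le (le_sup_left G H B) (le_sup_right G H B)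

/-- the sum of two quasi-coherent subsheaves of finite type is one -/
theorem sup_isQcFtOn [F.IsQuasicoherent] (G H : LocalSub F) (hG : G.IsQcFtOn ⊤)
    (hH : H.IsQcFtOn ⊤) : (sup G H).IsQcFtOn ⊤ := by
  have eG := G.extPOn_top_of_isQcOn hG.isQcOn
  have eH := H.extPOn_top_of_isQcOn hH.isQcOn
  intro x _
  obtain ⟨_, ⟨B, hB, rfl⟩, hxB, -⟩ :=
    X.isBasis_affineOpens.exists_subset_of_mem_open (Set.mem_univ x) isOpen_univ
  refine ⟨B, hxB, le_top, hB, ?_, ?_⟩
  · intro A hA _ f y hy
    rw [sup_carrier_of_isAffineOpen G H eG eH (hA.basicOpen f)] at hy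
    obtain ⟨g, hg, k, hk, rfl⟩ := Submodule.mem_sup.1 hy
    obtain ⟨n, g', hg', eg⟩ := eG A hA le_top f g hg
    obtain ⟨m, k', hk', ek⟩ := eH A hA le_top f k hk
    refine ⟨n + m, f ^ m • g' + f ^ n • k', ?_, ?_⟩
    · rw [sup_carrier_of_isAffineOpen G H eG eH hA]
      exact Submodule.add_mem _ (Submodule.mem_sup_left (Submodule.smul_mem _ _ hg'))
        (Submodule.mem_sup_right (Submodule.smul_mem _ _ hk'))
    · rw [map_add, res_smul, res_smul, eg, ek, smul_add, map_pow, map_pow, smul_smul, smul_smul,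
        ← pow_add, ← pow_add, add_comm m n]
  · rw [sup_carrier_of_isAffineOpen G H eG eH hB]
    exact (G.fg_of_isQcFtOn hG hB).sup (H.fg_of_isQcFtOn hH hB)

/-! ### the zero subsheaf and finite sums -/

variable (F) in
/-- the zero subsheaf -/
noncomputable def bot : LocalSub F where
  carrier U := ⊥
  res_mem := by
    intro U V h t ht
    rw [Submodule.mem_bot] at ht ⊢
    rw [ht, map_zero]
  local_mem := by
    intro U t ht
    rw [Submodule.mem_bot]
    have h' : ∀ x : U, ∃ (W : X.Opens) (hW : W ≤ U), x.1 ∈ W ∧ res F hW t = res F hW 0 := by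
      intro x
      obtain ⟨W, hW, hxW, hm⟩ := ht x.1 x.2
      exact ⟨W, hW, hxW, by rw [map_zero]; exact (Submodule.mem_bot _).1 hm⟩
    choose W hW hxW he using h'
    let FM : TopCat.Sheaf Ab X := ⟨F.presheaf, F.isSheaf⟩
    exact FM.eq_of_locally_eq' W U (fun x => homOfLE (hW x))
      (fun x hx => Opens.mem_iSup.2 ⟨⟨x, hx⟩, hxW ⟨x, hx⟩⟩) t 0 he

theorem bot_isQcFtOn : (bot F).IsQcFtOn ⊤ := by
  intro x _
  obtain ⟨_, ⟨B, hB, rfl⟩, hxB, -⟩ :=
    X.isBasis_affineOpens.exists_subset_of_mem_open (Set.mem_univ x) isOpen_univ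
  refine ⟨B, hxB, le_top, hB, ?_, Submodule.fg_bot⟩
  intro A hA _ f y hy
  refine ⟨0, 0, Submodule.zero_mem _, ?_⟩
  rw [(Submodule.mem_bot _).1 hy, map_zero, smul_zero]

/-- finite sums of subsheaves -/
noncomputable def finSup : (n : ℕ) → (Fin n → LocalSub F) → LocalSub F
  | 0, _ => bot F
  | n + 1, G => sup (finSup n (fun i => G i.castSucc)) (G (Fin.last n))

theorem le_finSup : ∀ (n : ℕ) (G : Fin n → LocalSub F) (i : Fin n) (U : X.Opens),
    (G i).carrier U ≤ (finSup n G).carrier U
  | 0, _, i, _ => i.elim0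
  | n + 1, G, i, U => by
    induction i using Fin.lastCases with
    | last => exact le_sup_right _ _ U
    | cast j => exact (le_finSup n (fun i => G i.castSucc) j U).trans (le_sup_left _ _ U)

theorem finSup_isQcFtOn [F.IsQuasicoherent] : ∀ (n : ℕ) (G : Fin n → LocalSub F)
    (_ : ∀ i, (G i).IsQcFtOn ⊤), (finSup n G).IsQcFtOn ⊤
  | 0, _, _ => bot_isQcFtOn
  | n + 1, G, h => sup_isQcFtOn _ _ (finSup_isQcFtOn n _ (fun i => h i.castSucc)) (h (Fin.last n))

end LocalSub

end Groth.Agent.Helper1.SubSh
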