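import Mathlib
import Groth.Agent.Lib.Helper1.FPA9
import Groth.Agent.Lib.Helper1.SubSum

set_option autoImplicit false
universe u
open CategoryTheory CategoryTheory.Limits AlgebraicGeometry TopologicalSpace Opposite

namespace Groth.Agent.Helper1.FPA

open Scheme.Modules Groth.Agent.Helper1.SubSh

variable {X : Scheme.{u}}

theorem localSub_ext {M : X.Modules} {N N' : LocalSub M} (h : N.carrier = N'.carrier) :
    N = N' := by
  cases N with
  | mk P hl =>
    cases N' with
    | mk P' hl' =>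
      cases P
      cases P'
      simp only at h
      subst h
      rfl

/-- the quasi-coherent subsheaves of finite type of a module, as a type -/
structure FtSub (K : X.Modules) : Type u where
  /-- the underlying subsheaf -/
  sub : LocalSub K
  ft : sub.IsQcFtOn ⊤

theorem FtSub.ext' {K : X.Modules} {N N' : FtSub K} (h : N.sub.carrier = N'.sub.carrier) :
    N = N' := by
  cases N with
  | mk a ha =>
    cases N' with
    | mk b hb =>
      have : a = b := localSub_ext h
      subst this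
      rfl

noncomputable instance (K : X.Modules) : PartialOrder (FtSub K) :=
  PartialOrder.lift (fun N : FtSub K => N.sub.carrier) (fun _ _ h => FtSub.ext' h)

theorem FtSub.le_def {K : X.Modules} {N N' : FtSub K} :
    N ≤ N' ↔ ∀ W : X.Opens, N.sub.carrier W ≤ N'.sub.carrier W := Iff.rfl

instance (K : X.Modules) [K.IsQuasicoherent] : IsDirected (FtSub K) (· ≤ ·) :=
  ⟨fun N N' => ⟨⟨LocalSub.sup N.sub N'.sub, LocalSub.sup_isQcFtOn _ _ N.ft N'.ft⟩,
    fun W => LocalSub.le_sup_left N.sub N'.sub W, fun W => LocalSub.le_sup_right N.sub N'.sub W⟩⟩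

instance (K : X.Modules) : Nonempty (FtSub K) := ⟨⟨LocalSub.bot K, LocalSub.bot_isQcFtOn⟩⟩

section Colim

variable {G₀ F : X.Modules} (φ₀ : G₀ ⟶ F)

/-- the inclusion of a finite type subsheaf of the kernel into the source -/
noncomputable def uMap (N : FtSub (kernel φ₀)) : N.sub.obj ⟶ G₀ := N.sub.ι ≫ kernel.ι φ₀

instance (N : FtSub (kernel φ₀)) : Mono (uMap φ₀ N) := mono_comp _ _

theorem uMap_comp (N : FtSub (kernel φ₀)) : uMap φ₀ N ≫ φ₀ = 0 := by
  unfold uMap
  rw [Category.assoc, kernel.condition, comp_zero]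

/-- inclusions between subsheaves -/
noncomputable def incl {N N' : FtSub (kernel φ₀)} (h : N ≤ N') : N.sub.obj ⟶ N'.sub.obj :=
  N'.sub.lift N.sub.ι (fun U s => h U (N.sub.ι_app_mem s))

theorem incl_uMap {N N' : FtSub (kernel φ₀)} (h : N ≤ N') :
    incl φ₀ h ≫ uMap φ₀ N' = uMap φ₀ N := by
  unfold incl uMap
  rw [LocalSub.lift_ι_assoc]

theorem uMap_π {N N' : FtSub (kernel φ₀)} (h : N ≤ N') :
    uMap φ₀ N ≫ cokernel.π (uMap φ₀ N') = 0 := by
  rw [← incl_uMap φ₀ h, Category.assoc, cokernel.condition, comp_zero]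

/-- the diagram of quotients of the source by the finite type subsheaves of the kernel -/
noncomputable def quotDiagram : FtSub (kernel φ₀) ⥤ X.Modules where
  obj N := cokernel (uMap φ₀ N)
  map {N N'} h := cokernel.desc (uMap φ₀ N) (cokernel.π (uMap φ₀ N')) (uMap_π φ₀ (leOfHom h))
  map_id N := by
    rw [← cancel_epi (cokernel.π (uMap φ₀ N))]
    simp
  map_comp {N N' N''} h h' := by
    rw [← cancel_epi (cokernel.π (uMap φ₀ N))]
    simp

/-- the projection to a quotient -/
noncomputable def quotπ (N : FtSub (kernel φ₀)) : G₀ ⟶ (quotDiagram φ₀).obj N :=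
  cokernel.π (uMap φ₀ N)

instance (N : FtSub (kernel φ₀)) : Epi (quotπ φ₀ N) :=
  inferInstanceAs (Epi (cokernel.π (uMap φ₀ N)))

/-- the map from a quotient to the target -/
noncomputable def quotι (N : FtSub (kernel φ₀)) : (quotDiagram φ₀).obj N ⟶ F :=
  cokernel.desc (uMap φ₀ N) φ₀ (uMap_comp φ₀ N)

@[reassoc]
theorem quotπ_map {N N' : FtSub (kernel φ₀)} (h : N ⟶ N') :
    quotπ φ₀ N ≫ (quotDiagram φ₀).map h = quotπ φ₀ N' :=
  cokernel.π_desc _ _ _

@[reassoc]
theorem quotπ_ι (N : FtSub (kernel φ₀)) : quotπ φ₀ N ≫ quotι φ₀ N = φ₀ :=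
  cokernel.π_desc _ _ _

@[reassoc]
theorem uMap_quotπ (N : FtSub (kernel φ₀)) : uMap φ₀ N ≫ quotπ φ₀ N = 0 :=
  cokernel.condition _

/-- the cocone of the diagram of quotients -/
noncomputable def quotCocone : quotDiagram φ₀ ⟶ (Functor.const (FtSub (kernel φ₀))).obj F where
  app N := quotι φ₀ N
  naturality {N N'} h := by
    refine (cancel_epi (quotπ φ₀ N)).1 ?_
    rw [quotπ_map_assoc, quotπ_ι, quotπ_ι_assoc]
    simp

/-- every section of a quasi-coherent module over an affine open lies in a quasi-coherent subsheaf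
of finite type -/
theorem exists_ftSub_mem [CompactSpace X] [QuasiSeparatedSpace X] (K : X.Modules)
    [K.IsQuasicoherent] {V : X.Opens} (hV : IsAffineOpen V) (k : Γ(K, V)) :
    ∃ N : FtSub K, k ∈ N.sub.carrier V := by
  obtain ⟨G', hG', hGU⟩ := LocalSub.exists_extension_of_qcqs (F := K) V hV.isCompact
    (LocalSub.genOn V {k}) (LocalSub.genOn_singleton_isQcFtOn hV _)
  refine ⟨⟨G', hG'⟩, ?_⟩
  change k ∈ G'.carrier V
  rw [hGU V le_rfl]
  exact LocalSub.mem_genOn_singleton _

variable (s : Cocone (quotDiagram φ₀))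

/-- the map from the source to the point of a cocone -/
noncomputable def coconeMap : G₀ ⟶ s.pt :=
  quotπ φ₀ (Classical.arbitrary _) ≫ s.ι.app (Classical.arbitrary _)

theorem coconeMap_eq [(kernel φ₀).IsQuasicoherent] (N : FtSub (kernel φ₀)) :
    coconeMap φ₀ s = quotπ φ₀ N ≫ s.ι.app N := by
  have key : ∀ {N N' : FtSub (kernel φ₀)} (h : N ≤ N'),
      quotπ φ₀ N ≫ s.ι.app N = quotπ φ₀ N' ≫ s.ι.app N' := by
    intro N N' h
    rw [← s.w (homOfLE h), quotπ_map_assoc]
  obtain ⟨N'', h1, h2⟩ := exists_ge_ge (Classical.arbitrary (FtSub (kernel φ₀))) N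
  unfold coconeMap
  rw [key h1, key h2]

theorem kernel_coconeMap [CompactSpace X] [QuasiSeparatedSpace X] [(kernel φ₀).IsQuasicoherent] :
    kernel.ι φ₀ ≫ coconeMap φ₀ s = 0 := by
  apply Scheme.Modules.hom_ext
  intro W
  ext k
  change (coconeMap φ₀ s).app W ((kernel.ι φ₀).app W k) = 0
  apply TwistSec.eq_of_locally s.pt
  intro x hx
  obtain ⟨_, ⟨V, hV, rfl⟩, hxV, hVW⟩ :=
    X.isBasis_affineOpens.exists_subset_of_mem_open hx W.isOpen
  refine ⟨V, hVW, hxV, ?_⟩
  rw [map_zero, ← QcExt.app_res, ← QcExt.app_res]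
  obtain ⟨N, hN⟩ := exists_ftSub_mem (kernel φ₀) hV (QcCech.res (kernel φ₀) hVW k)
  obtain ⟨k', hk'⟩ := (N.sub.mem_iff _).1 hN
  rw [coconeMap_eq φ₀ s N, ← hk']
  have := congrArg (fun ψ => Scheme.Modules.Hom.app ψ V k') (uMap_quotπ_assoc φ₀ N (s.ι.app N))
  rw [zero_comp] at this
  exact this

/-- the target of an epimorphism is the colimit of the quotients of the source by the finite type
quasi-coherent subsheaves of the kernel -/
noncomputable def isColimitQuot [CompactSpace X] [QuasiSeparatedSpace X]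
    [(kernel φ₀).IsQuasicoherent] [Epi φ₀] : IsColimit (Cocone.mk F (quotCocone φ₀)) where
  desc s := Abelian.epiDesc φ₀ (coconeMap φ₀ s) (kernel_coconeMap φ₀ s)
  fac s N := by
    refine (cancel_epi (quotπ φ₀ N)).1 ?_
    change quotπ φ₀ N ≫ quotι φ₀ N ≫ _ = _
    rw [quotπ_ι_assoc, Abelian.comp_epiDesc, coconeMap_eq φ₀ s N]
  uniq s m hm := by
    refine (cancel_epi φ₀).1 ?_
    rw [Abelian.comp_epiDesc, coconeMap_eq φ₀ s (Classical.arbitrary _),
      ← hm (Classical.arbitrary _)]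
    change _ = quotπ φ₀ _ ≫ quotι φ₀ _ ≫ m
    rw [quotπ_ι_assoc]

end Colim

/-- **a quasi-coherent module of finite type on a qcqs scheme is a directed colimit of finitely
presented modules with surjective transition maps** -/
theorem exists_directed_colimit_fp [CompactSpace X] [QuasiSeparatedSpace X] (F : X.Modules)
    [F.IsQuasicoherent] (hF : CohB1.IsFT F) :
    ∃ (J : Type u) (_ : PartialOrder J) (_ : IsDirected J (· ≤ ·)) (_ : Nonempty J)
      (D : J ⥤ X.Modules) (ι : D ⟶ (Functor.const J).obj F),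
      Nonempty (IsColimit (Cocone.mk F ι)) ∧
      (∀ j, CohB1.IsFP (D.obj j)) ∧ ∀ (j j' : J) (h : j ⟶ j'), Epi (D.map h) := by
  obtain ⟨G₀, φ₀, hG₀, hφ₀⟩ := exists_fp_epi F hF
  haveI := hφ₀
  haveI := isQuasicoherent_of_isFP G₀ hG₀
  haveI hKq : (kernel φ₀).IsQuasicoherent := QcAbel.isQuasicoherent_kernel φ₀
  refine ⟨FtSub (kernel φ₀), inferInstance, inferInstance, inferInstance, quotDiagram φ₀,
    quotCocone φ₀, ⟨isColimitQuot φ₀⟩, ?_, ?_⟩
  · intro N
    haveI : N.sub.obj.IsQuasicoherent := N.sub.isQuasicoherent_obj N.ft.isQcOn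
    exact isFP_cokernel_of_mono (uMap φ₀ N) (N.sub.isFiniteType_obj N.ft) hG₀
  · intro N N' h
    exact epi_of_epi_fac (quotπ_map φ₀ h)

end Groth.Agent.Helper1.FPA
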