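import Mathlib
import Groth.Agent.Lib.Helper1.FPA10

set_option autoImplicit false
universe u v w
open CategoryTheory CategoryTheory.Limits AlgebraicGeometry TopologicalSpace Opposite

namespace Groth.Agent.Helper1.FPA

open Scheme.Modules Groth.Agent.Helper1.SubSh Groth.Agent.Helper1.QcCech

variable {X : Scheme.{u}}

section Colimit

variable {J : Type v} [Category.{w} J] {D : J ⥤ X.Modules} (c : Cocone D)

/-- a subsheaf of the point of a colimit cocone through which all the legs factor is everything -/
theorem mem_of_isColimit (hc : IsColimit c) (N : LocalSub c.pt)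
    (h : ∀ (j : J) (U : X.Opens) (s : Γ(D.obj j, U)), (c.ι.app j).app U s ∈ N.carrier U)
    {U : X.Opens} (t : Γ(c.pt, U)) : t ∈ N.carrier U := by
  let l : ∀ j, D.obj j ⟶ N.obj := fun j => N.lift (c.ι.app j) (h j)
  have hl : ∀ j, l j ≫ N.ι = c.ι.app j := fun j => N.lift_ι _ _
  let s : Cocone D :=
    { pt := N.obj
      ι :=
        { app := l
          naturality := by
            intro j j' a
            rw [← cancel_mono N.ι]
            simp only [Functor.const_obj_obj, Functor.const_obj_map, Category.assoc, hl,
              Category.comp_id]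
            exact c.w a } }
  have hσ : hc.desc s ≫ N.ι = 𝟙 c.pt := by
    apply hc.hom_ext
    intro j
    rw [← Category.assoc, hc.fac, Category.comp_id]
    exact hl j
  haveI : IsSplitEpi N.ι := ⟨⟨⟨hc.desc s, hσ⟩⟩⟩
  haveI : IsIso N.ι := isIso_of_mono_of_isSplitEpi N.ι
  exact N.mem_of_isIso t

theorem ι_map_app {j j' : J} (a : j ⟶ j') (U : X.Opens) (g : Γ(D.obj j, U)) :
    (c.ι.app j').app U ((D.map a).app U g) = (c.ι.app j).app U g := by
  have := congrArg (fun ψ => Scheme.Modules.Hom.app ψ U g) (c.w a)
  exact this

end Colimit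

section Filtered

variable {J : Type v} [Category.{w} J] [IsFiltered J] {D : J ⥤ X.Modules} (c : Cocone D)

/-- the sections of the point of a cocone over a filtered diagram which come from a stage -/
noncomputable def stagePre : PreSub c.pt where
  carrier W :=
    { carrier := {t | ∃ (j : J) (g : Γ(D.obj j, W)), (c.ι.app j).app W g = t}
      zero_mem' := ⟨IsFiltered.nonempty.some, 0, map_zero _⟩
      add_mem' := by
        rintro _ _ ⟨j, g, rfl⟩ ⟨j', g', rfl⟩
        refine ⟨IsFiltered.max j j', (D.map (IsFiltered.leftToMax j j')).app W g +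
          (D.map (IsFiltered.rightToMax j j')).app W g', ?_⟩
        rw [map_add, ι_map_app, ι_map_app]
      smul_mem' := by
        rintro r _ ⟨j, g, rfl⟩
        exact ⟨j, r • g, Scheme.Modules.Hom.app_smul _ r g⟩ }
  res_mem := by
    rintro U V h _ ⟨j, g, rfl⟩
    exact ⟨j, res (D.obj j) h g, QcExt.app_res _ h g⟩

/-- **sections of a filtered colimit of modules locally come from a stage** -/
theorem exists_stage_locally (hc : IsColimit c) {U : X.Opens} (t : Γ(c.pt, U)) :
    ∀ x ∈ U, ∃ (W : X.Opens) (hW : W ≤ U), x ∈ W ∧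
      ∃ (j : J) (g : Γ(D.obj j, W)), (c.ι.app j).app W g = res c.pt hW t := by
  have := mem_of_isColimit c hc (stagePre c).loc
    (fun j U s => (stagePre c).le_loc ⟨j, s, rfl⟩) t
  exact this

end Filtered

end Groth.Agent.Helper1.FPA
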