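import Mathlib
import Groth.Agent.Lib.Helper1.FPA11

set_option autoImplicit false
universe u
open CategoryTheory CategoryTheory.Limits AlgebraicGeometry TopologicalSpace Opposite

namespace Groth.Agent.Helper1.FPA

open Scheme.Modules Groth.Agent.Helper1.SubSh Groth.Agent.Helper1.QcCech

variable {X : Scheme.{u}}

attribute [local instance] CategoryTheory.Abelian.hasFiniteBiproducts

section Biproduct

variable {ι : Type u} [Fintype ι] (f : ι → X.Modules)

/-- a finite biproduct of quasi-coherent modules is quasi-coherent -/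
theorem isQuasicoherent_biproduct [∀ i, (f i).IsQuasicoherent] : (⨁ f).IsQuasicoherent := by
  haveI : (∏ᶜ f).IsQuasicoherent := QcAbel.isQuasicoherent_pi f
  exact QcAbel.isQuasicoherent_of_iso (biproduct.isoProduct f).symm

/-- sections of a finite biproduct -/
theorem biproduct_π_bijective (T : X.Opens) :
    Function.Bijective (fun (s : Γ(⨁ f, T)) (i : ι) => (biproduct.π f i).app T s) := by
  have h1 := QcAbel.pi_bijective f T
  have h2 : Function.Bijective ((biproduct.isoProduct f).hom.app T) :=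
    ConcreteCategory.bijective_of_isIso _
  have h3 : (fun (s : Γ(⨁ f, T)) (i : ι) => (biproduct.π f i).app T s) =
      (fun (s : Γ(∏ᶜ f, T)) (i : ι) => (Pi.π f i).app T s) ∘
        ((biproduct.isoProduct f).hom.app T) := by
    funext s i
    have := congrArg (fun ψ => Scheme.Modules.Hom.app ψ T s)
      (biproduct.isoProduct_hom (f := f) ▸ (Pi.lift_π (fun b => biproduct.π f b) i))
    exact this.symm
  rw [h3]
  exact h1.comp h2

/-- a finite biproduct of finitely presented modules is finitely presented -/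
theorem isFP_biproduct (h : ∀ i, CohB1.IsFP (f i)) : CohB1.IsFP (⨁ f) := by
  haveI : ∀ i, (f i).IsQuasicoherent := fun i => isQuasicoherent_of_isFP (f i) (h i)
  haveI := isQuasicoherent_biproduct f
  rw [Groth.Agent.Lead.FP.isFP_iff_affineOpens]
  intro T hT
  haveI : ∀ i, Module.FinitePresentation Γ(X, T) Γ(f i, T) := fun i =>
    Groth.Agent.Lead.FP.fp_sections_of_isFP (f i) (h i) hT
  let L : Γ(⨁ f, T) →ₗ[Γ(X, T)] (∀ i, Γ(f i, T)) :=
    LinearMap.pi (fun i => appL (biproduct.π f i) T)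
  have hL : Function.Bijective L := biproduct_π_bijective f T
  exact Module.FinitePresentation.of_equiv (LinearEquiv.ofBijective L hL).symm

end Biproduct

section Image

variable {K K' : X.Modules} (ψ : K ⟶ K')

/-- a morphism maps a quasi-coherent subsheaf into a subsheaf as soon as it does so over the members
of an affine open cover -/
theorem maps_into_of_cover [K.IsQuasicoherent] (N : LocalSub K) (hN : N.ExtPOn ⊤)
    (N' : LocalSub K')
    (h : ∀ x : X, ∃ V : X.Opens, IsAffineOpen V ∧ x ∈ V ∧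
      ∀ t ∈ N.carrier V, ψ.app V t ∈ N'.carrier V)
    (W : X.Opens) (t : Γ(K, W)) (ht : t ∈ N.carrier W) : ψ.app W t ∈ N'.carrier W := by
  apply N'.local_mem
  intro x hx
  obtain ⟨V, hV, hxV, hmap⟩ := h x
  obtain ⟨f, hfV, hxf⟩ := hV.exists_basicOpen_le (V := W ⊓ V) ⟨x, ⟨hx, hxV⟩⟩ hxV
  refine ⟨X.basicOpen f, hfV.trans inf_le_left, hxf, ?_⟩
  rw [← QcExt.app_res]
  set y := res K (hfV.trans inf_le_left) t with hy
  have hyN : y ∈ N.carrier (X.basicOpen f) := N.res_mem _ ht
  obtain ⟨n, t₀, ht₀, e⟩ := hN V hV le_top f y hyN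
  have h1 : ψ.app V t₀ ∈ N'.carrier V := hmap t₀ ht₀
  have h2 : res K' (X.basicOpen_le f) (ψ.app V t₀) ∈ N'.carrier (X.basicOpen f) :=
    N'.res_mem _ h1
  rw [← QcExt.app_res, e, Scheme.Modules.Hom.app_smul] at h2
  have hu : IsUnit (resR (X.basicOpen_le f) f) :=
    RingedSpace.isUnit_res_basicOpen X.toRingedSpace f
  exact SubSh.mem_of_isUnit_pow_smul (N'.carrier (X.basicOpen f)) hu n h2

/-- **the image of a quasi-coherent subsheaf of finite type under a morphism is contained in a
quasi-coherent subsheaf of finite type** -/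
theorem exists_ftSub_image [CompactSpace X] [QuasiSeparatedSpace X] [K.IsQuasicoherent]
    [K'.IsQuasicoherent] (N : FtSub K) :
    ∃ N' : FtSub K', ∀ (W : X.Opens) (t : Γ(K, W)), t ∈ N.sub.carrier W →
      ψ.app W t ∈ N'.sub.carrier W := by
  classical
  obtain ⟨n, V, hV, hcov, -⟩ := SubSh.exists_fin_cover (X := X)
  have hfg : ∀ i, ∃ S : Finset Γ(K, V i),
      Submodule.span Γ(X, V i) (S : Set Γ(K, V i)) = N.sub.carrier (V i) :=
    fun i => N.sub.fg_of_isQcFtOn N.ft (hV i)
  choose S hS using hfg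
  have hN' : ∀ p : (Σ i : Fin n, S i), ∃ N' : FtSub K', ψ.app (V p.1) p.2.1 ∈ N'.sub.carrier (V p.1) :=
    fun p => exists_ftSub_mem K' (hV p.1) _
  choose N₁ hN₁ using hN'
  obtain ⟨N', hN'⟩ := Finite.exists_le N₁
  refine ⟨N', maps_into_of_cover ψ N.sub (N.sub.extPOn_top_of_isQcOn N.ft.isQcOn) N'.sub ?_⟩
  intro x
  have hx : x ∈ (⨆ i, V i : X.Opens) := by rw [hcov]; trivial
  obtain ⟨i, hi⟩ := Opens.mem_iSup.1 hx
  refine ⟨V i, hV i, hi, ?_⟩
  intro t ht
  rw [← hS i] at ht
  have : Submodule.span Γ(X, V i) (S i : Set Γ(K, V i)) ≤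
      (N'.sub.carrier (V i)).comap (appL ψ (V i)) := by
    rw [Submodule.span_le]
    intro s hs
    exact hN' ⟨i, ⟨s, hs⟩⟩ (V i) (hN₁ ⟨i, ⟨s, hs⟩⟩)
  exact this ht

end Image

end Groth.Agent.Helper1.FPA
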