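import Mathlib
import Groth.Agent.Lib.Helper1.FPA12

set_option autoImplicit false
universe u
open CategoryTheory CategoryTheory.Limits AlgebraicGeometry TopologicalSpace Opposite

namespace Groth.Agent.Helper1.FPA

open Scheme.Modules Groth.Agent.Helper1.SubSh Groth.Agent.Helper1.QcCech

variable {X : Scheme.{u}}

attribute [local instance] CategoryTheory.Abelian.hasFiniteBiproducts

section Approx

variable [CompactSpace X] [QuasiSeparatedSpace X] (F : X.Modules) [F.IsQuasicoherent]

/-- the local sections of `F` over affine opens -/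
def Base : Type u := Σ V : X.affineOpens, Γ(F, V.1)

/-- a finitely presented module with a map to `F` hitting a given local section -/
noncomputable def baseObj (b : Base F) : X.Modules :=
  (exists_fp_lift_section F b.1.2 b.2).choose

noncomputable def baseHom (b : Base F) : baseObj F b ⟶ F :=
  (exists_fp_lift_section F b.1.2 b.2).choose_spec.choose

theorem baseObj_fp (b : Base F) : CohB1.IsFP (baseObj F b) :=
  (exists_fp_lift_section F b.1.2 b.2).choose_spec.choose_spec.1

theorem baseHom_lift (b : Base F) : ∃ t : Γ(baseObj F b, b.1.1), (baseHom F b).app b.1.1 t = b.2 :=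
  (exists_fp_lift_section F b.1.2 b.2).choose_spec.choose_spec.2

/-- finite sums of the base objects -/
noncomputable def P (s : Finset (Base F)) : X.Modules := ⨁ (fun b : s => baseObj F b.1)

theorem P_fp (s : Finset (Base F)) : CohB1.IsFP (P F s) :=
  isFP_biproduct _ (fun b => baseObj_fp F b.1)

instance (s : Finset (Base F)) : (P F s).IsQuasicoherent := isQuasicoherent_of_isFP _ (P_fp F s)

/-- the map from a finite sum to `F` -/
noncomputable def φ (s : Finset (Base F)) : P F s ⟶ F :=
  biproduct.desc (fun b : s => baseHom F b.1)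

/-- the inclusions between the finite sums -/
noncomputable def inc {s s' : Finset (Base F)} (h : s ⊆ s') : P F s ⟶ P F s' :=
  biproduct.desc (fun b : s => biproduct.ι (fun b : s' => baseObj F b.1) ⟨b.1, h b.2⟩)

@[reassoc (attr := simp)]
theorem inc_φ {s s' : Finset (Base F)} (h : s ⊆ s') : inc F h ≫ φ F s' = φ F s := by
  unfold inc φ P
  apply biproduct.hom_ext'
  intro b
  rw [biproduct.ι_desc_assoc, biproduct.ι_desc, biproduct.ι_desc]

@[simp]
theorem inc_refl (s : Finset (Base F)) : inc F (Finset.Subset.refl s) = 𝟙 (P F s) := by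
  unfold inc P
  apply biproduct.hom_ext'
  intro b
  rw [biproduct.ι_desc, Category.comp_id]

@[reassoc (attr := simp)]
theorem inc_trans {s s' s'' : Finset (Base F)} (h : s ⊆ s') (h' : s' ⊆ s'') :
    inc F h ≫ inc F h' = inc F (h.trans h') := by
  unfold inc P
  apply biproduct.hom_ext'
  intro b
  rw [biproduct.ι_desc_assoc, biproduct.ι_desc, biproduct.ι_desc]

/-- the induced maps on kernels -/
noncomputable def kinc {s s' : Finset (Base F)} (h : s ⊆ s') :
    kernel (φ F s) ⟶ kernel (φ F s') :=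
  kernel.lift (φ F s') (kernel.ι (φ F s) ≫ inc F h) (by rw [Category.assoc, inc_φ, kernel.condition])

@[reassoc (attr := simp)]
theorem kinc_ι {s s' : Finset (Base F)} (h : s ⊆ s') :
    kinc F h ≫ kernel.ι (φ F s') = kernel.ι (φ F s) ≫ inc F h :=
  kernel.lift_ι _ _ _

@[simp]
theorem kinc_refl (s : Finset (Base F)) : kinc F (Finset.Subset.refl s) = 𝟙 _ := by
  rw [← cancel_mono (kernel.ι (φ F s))]
  simp

@[reassoc (attr := simp)]
theorem kinc_trans {s s' s'' : Finset (Base F)} (h : s ⊆ s') (h' : s' ⊆ s'') :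
    kinc F h ≫ kinc F h' = kinc F (h.trans h') := by
  rw [← cancel_mono (kernel.ι (φ F s''))]
  simp

instance (s : Finset (Base F)) : (kernel (φ F s)).IsQuasicoherent :=
  QcAbel.isQuasicoherent_kernel _

/-- the index set: a finite set of base objects and a finite type subsheaf of the kernel -/
structure Idx : Type u where
  s : Finset (Base F)
  N : FtSub (kernel (φ F s))

variable {F}

/-- the order on the index set -/
def Idx.le (i i' : Idx F) : Prop :=
  ∃ h : i.s ⊆ i'.s, ∀ (W : X.Opens) (t : Γ(kernel (φ F i.s), W)),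
    t ∈ i.N.sub.carrier W → (kinc F h).app W t ∈ i'.N.sub.carrier W

instance : Preorder (Idx F) where
  le := Idx.le
  le_refl i := ⟨Finset.Subset.refl _, fun W t ht => by rw [kinc_refl]; exact ht⟩
  le_trans i i' i'' := by
    rintro ⟨h, hm⟩ ⟨h', hm'⟩
    refine ⟨h.trans h', fun W t ht => ?_⟩
    rw [← kinc_trans F h h']
    exact hm' W _ (hm W t ht)

theorem Idx.le_iff {i i' : Idx F} : i ≤ i' ↔ ∃ h : i.s ⊆ i'.s, ∀ (W : X.Opens)
    (t : Γ(kernel (φ F i.s), W)), t ∈ i.N.sub.carrier W →
      (kinc F h).app W t ∈ i'.N.sub.carrier W := Iff.rfl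

/-- the object attached to an index -/
noncomputable def Idx.obj (i : Idx F) : X.Modules := (quotDiagram (φ F i.s)).obj i.N

/-- the projection from the finite sum -/
noncomputable def Idx.π (i : Idx F) : P F i.s ⟶ i.obj := quotπ (φ F i.s) i.N

instance (i : Idx F) : Epi i.π := inferInstanceAs (Epi (quotπ (φ F i.s) i.N))

/-- the map to `F` -/
noncomputable def Idx.ι (i : Idx F) : i.obj ⟶ F := quotι (φ F i.s) i.N

@[reassoc (attr := simp)]
theorem Idx.π_ι (i : Idx F) : i.π ≫ i.ι = φ F i.s := quotπ_ι _ _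

theorem Idx.obj_fp (i : Idx F) : CohB1.IsFP i.obj := by
  haveI : i.N.sub.obj.IsQuasicoherent := i.N.sub.isQuasicoherent_obj i.N.ft.isQcOn
  exact isFP_cokernel_of_mono (uMap (φ F i.s) i.N) (i.N.sub.isFiniteType_obj i.N.ft) (P_fp F i.s)

instance (i : Idx F) : i.obj.IsQuasicoherent := isQuasicoherent_of_isFP _ i.obj_fp

@[reassoc (attr := simp)]
theorem Idx.u_π (i : Idx F) : uMap (φ F i.s) i.N ≫ i.π = 0 := uMap_quotπ _ _

theorem Idx.u_inc_π {i i' : Idx F} (h : i ≤ i') :
    uMap (φ F i.s) i.N ≫ inc F h.1 ≫ i'.π = 0 := by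
  obtain ⟨hs, hm⟩ := h
  let l : i.N.sub.obj ⟶ i'.N.sub.obj :=
    i'.N.sub.lift (i.N.sub.ι ≫ kinc F hs) (fun W t => hm W _ (i.N.sub.ι_app_mem t))
  have hl : l ≫ i'.N.sub.ι = i.N.sub.ι ≫ kinc F hs := i'.N.sub.lift_ι _ _
  have h1 : uMap (φ F i.s) i.N ≫ inc F hs = l ≫ uMap (φ F i'.s) i'.N := by
    unfold uMap
    rw [Category.assoc, ← kinc_ι, ← Category.assoc, ← hl, Category.assoc]
  rw [← Category.assoc, h1, Category.assoc, Idx.u_π, comp_zero]

/-- the transition maps -/
noncomputable def Idx.trans {i i' : Idx F} (h : i ≤ i') : i.obj ⟶ i'.obj :=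
  cokernel.desc (uMap (φ F i.s) i.N) (inc F h.1 ≫ i'.π) (Idx.u_inc_π h)

@[reassoc (attr := simp)]
theorem Idx.π_trans {i i' : Idx F} (h : i ≤ i') : i.π ≫ Idx.trans h = inc F h.1 ≫ i'.π :=
  cokernel.π_desc _ _ _

@[reassoc (attr := simp)]
theorem Idx.trans_ι {i i' : Idx F} (h : i ≤ i') : Idx.trans h ≫ i'.ι = i.ι := by
  rw [← cancel_epi i.π, Idx.π_trans_assoc, Idx.π_ι, Idx.π_ι, inc_φ]

variable (F) in
/-- the diagram of finitely presented approximations -/
noncomputable def approxDiagram : Idx F ⥤ X.Modules where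
  obj i := i.obj
  map f := Idx.trans (leOfHom f)
  map_id i := by
    rw [← cancel_epi i.π, Idx.π_trans, inc_refl, Category.id_comp, Category.comp_id]
  map_comp {i i' i''} f g := by
    rw [← cancel_epi i.π, Idx.π_trans, Idx.π_trans_assoc, Idx.π_trans, inc_trans_assoc]

variable (F) in
/-- the cocone of finitely presented approximations -/
noncomputable def approxCocone : Cocone (approxDiagram F) where
  pt := F
  ι :=
    { app := fun i => i.ι
      naturality := fun i i' f => by
        change Idx.trans (leOfHom f) ≫ i'.ι = i.ι ≫ 𝟙 F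
        rw [Idx.trans_ι, Category.comp_id] }

instance : Nonempty (Idx F) := ⟨⟨∅, Classical.arbitrary _⟩⟩

instance : IsDirected (Idx F) (· ≤ ·) := by
  classical
  refine ⟨fun i i' => ?_⟩
  have h1 : i.s ⊆ i.s ∪ i'.s := Finset.subset_union_left
  have h2 : i'.s ⊆ i.s ∪ i'.s := Finset.subset_union_right
  obtain ⟨N₁, hN₁⟩ := exists_ftSub_image (kinc F h1) i.N
  obtain ⟨N₂, hN₂⟩ := exists_ftSub_image (kinc F h2) i'.N
  obtain ⟨N, hle₁, hle₂⟩ := exists_ge_ge N₁ N₂
  exact ⟨⟨i.s ∪ i'.s, N⟩, ⟨h1, fun W t ht => hle₁ W (hN₁ W t ht)⟩,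
    ⟨h2, fun W t ht => hle₂ W (hN₂ W t ht)⟩⟩

/-- every local section of `F` over an affine open comes from an approximation -/
theorem exists_idx_lift {V : X.Opens} (hV : IsAffineOpen V) (t : Γ(F, V)) :
    ∃ (i : Idx F) (g : Γ(i.obj, V)), i.ι.app V g = t := by
  classical
  let b : Base F := ⟨⟨V, hV⟩, t⟩
  obtain ⟨tb, htb⟩ := baseHom_lift F b
  let i : Idx F := ⟨{b}, Classical.arbitrary _⟩
  let ιb : baseObj F b ⟶ P F i.s :=
    biproduct.ι (fun b' : ({b} : Finset (Base F)) => baseObj F b'.1)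
      ⟨b, Finset.mem_singleton_self b⟩
  have h1 : ιb ≫ φ F i.s = baseHom F b := by
    change biproduct.ι (fun b' : ({b} : Finset (Base F)) => baseObj F b'.1)
      ⟨b, Finset.mem_singleton_self b⟩ ≫ biproduct.desc _ = _
    rw [biproduct.ι_desc]
  refine ⟨i, i.π.app V (ιb.app V tb), ?_⟩
  have h2 := congrArg (fun ψ => Scheme.Modules.Hom.app ψ V (ιb.app V tb)) (Idx.π_ι i)
  have h3 := congrArg (fun ψ => Scheme.Modules.Hom.app ψ V tb) h1
  exact h2.trans (h3.trans htb)

/-- a local section of an approximation over an affine open which dies in `F` dies in a further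
approximation -/
theorem exists_idx_kill (i : Idx F) {V : X.Opens} (hV : IsAffineOpen V) (g : Γ(i.obj, V))
    (hg : i.ι.app V g = 0) : ∃ (i' : Idx F) (h : i ≤ i'), (Idx.trans h).app V g = 0 := by
  obtain ⟨p, rfl⟩ := AffPushEpi.app_surjective_of_epi i.π V hV g
  have h1 : (φ F i.s).app V p = 0 := by
    have := congrArg (fun ψ => Scheme.Modules.Hom.app ψ V p) (Idx.π_ι i)
    exact this.symm.trans hg
  have h2 : p ∈ LinearMap.range (appL (kernel.ι (φ F i.s)) V) := by
    rw [range_kernel_ι]
    exact h1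
  obtain ⟨k, hk⟩ := h2
  obtain ⟨N₁, hN₁⟩ := exists_ftSub_mem (kernel (φ F i.s)) hV k
  obtain ⟨N', hle, hle₁⟩ := exists_ge_ge i.N N₁
  let i' : Idx F := ⟨i.s, N'⟩
  have hii' : i ≤ i' :=
    ⟨Finset.Subset.refl _, fun W t ht => by rw [kinc_refl]; exact hle W ht⟩
  refine ⟨i', hii', ?_⟩
  have h3 := congrArg (fun ψ => Scheme.Modules.Hom.app ψ V p) (Idx.π_trans hii')
  refine h3.trans ?_
  change i'.π.app V ((inc F (Finset.Subset.refl i.s)).app V p) = 0
  rw [inc_refl]
  change i'.π.app V p = 0
  obtain ⟨k', hk'⟩ := (N'.sub.mem_iff k).1 (hle₁ V hN₁)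
  have h4 : (uMap (φ F i'.s) i'.N).app V k' = p := by
    change (kernel.ι (φ F i.s)).app V (N'.sub.ι.app V k') = p
    rw [hk']
    exact hk
  rw [← h4]
  have := congrArg (fun ψ => Scheme.Modules.Hom.app ψ V k') (Idx.u_π i')
  exact this

variable (F) in
/-- the comparison map from the colimit of the approximations -/
noncomputable def approxDesc : colimit (approxDiagram F) ⟶ F :=
  colimit.desc (approxDiagram F) (approxCocone F)

theorem ι_approxDesc (i : Idx F) : colimit.ι (approxDiagram F) i ≫ approxDesc F = i.ι :=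
  colimit.ι_desc _ _

theorem ι_approxDesc_app (i : Idx F) (V : X.Opens) (g : Γ(i.obj, V)) :
    (approxDesc F).app V ((colimit.ι (approxDiagram F) i).app V g) = i.ι.app V g := by
  have := congrArg (fun ψ => Scheme.Modules.Hom.app ψ V g) (ι_approxDesc i)
  exact this

instance : Epi (approxDesc F) := by
  apply epi_of_surjective_cover
  intro x
  obtain ⟨_, ⟨U, hU, rfl⟩, hxU, -⟩ :=
    X.isBasis_affineOpens.exists_subset_of_mem_open (Set.mem_univ x) isOpen_univ
  refine ⟨U, hU, hxU, fun t => ?_⟩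
  obtain ⟨i, g, hg⟩ := exists_idx_lift hU t
  exact ⟨(colimit.ι (approxDiagram F) i).app U g, (ι_approxDesc_app i U g).trans hg⟩

instance : Mono (approxDesc F) := by
  apply SubSh.mono_of_app_injective
  intro W
  rw [injective_iff_map_eq_zero]
  intro t ht
  apply TwistSec.eq_of_locally (colimit (approxDiagram F))
  intro x hx
  obtain ⟨W₁, hW₁, hxW₁, i, g, hg⟩ :=
    exists_stage_locally (colimit.cocone (approxDiagram F)) (colimit.isColimit _) t x hx
  obtain ⟨_, ⟨V, hV, rfl⟩, hxV, hVW₁⟩ :=
    X.isBasis_affineOpens.exists_subset_of_mem_open hxW₁ W₁.isOpen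
  refine ⟨V, hVW₁.trans hW₁, hxV, ?_⟩
  rw [map_zero]
  have hg' : (colimit.ι (approxDiagram F) i).app V (res i.obj hVW₁ g) =
      res (colimit (approxDiagram F)) (hVW₁.trans hW₁) t := by
    have h1 := QcExt.app_res (colimit.ι (approxDiagram F) i) hVW₁ g
    change (colimit.ι (approxDiagram F) i).app V (res i.obj hVW₁ g) = _ at h1
    rw [h1]
    change res _ hVW₁ ((colimit.ι (approxDiagram F) i).app W₁ g) = _
    have hg2 : (colimit.ι (approxDiagram F) i).app W₁ g = res _ hW₁ t := hg
    rw [hg2, res_res]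
  rw [← hg']
  have h0 : i.ι.app V (res i.obj hVW₁ g) = 0 := by
    rw [← ι_approxDesc_app, hg', QcExt.app_res, ht, map_zero]
  obtain ⟨i', hii', hkill⟩ := exists_idx_kill i hV _ h0
  have h2 := ι_map_app (colimit.cocone (approxDiagram F)) (homOfLE hii') V (res i.obj hVW₁ g)
  change (colimit.ι (approxDiagram F) i').app V ((Idx.trans hii').app V (res i.obj hVW₁ g)) =
    (colimit.ι (approxDiagram F) i).app V (res i.obj hVW₁ g) at h2
  rw [← h2, hkill]
  exact map_zero ((colimit.ι (approxDiagram F) i').app V).hom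

/-- **a quasi-coherent module on a qcqs scheme is a filtered colimit of finitely presented modules** -/
theorem exists_filtered_colimit_fp :
    ∃ (I : Type u) (_ : SmallCategory I) (_ : IsFiltered I) (D : I ⥤ X.Modules)
      (c : Limits.Cocone D) (_ : Limits.IsColimit c), (∀ i, CohB1.IsFP (D.obj i)) ∧ c.pt = F := by
  haveI : IsIso (approxDesc F) := isIso_of_mono_of_epi _
  haveI : IsIso ((colimit.isColimit (approxDiagram F)).desc (approxCocone F)) :=
    inferInstanceAs (IsIso (approxDesc F))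
  exact ⟨Idx F, inferInstance, inferInstance, approxDiagram F, approxCocone F,
    IsColimit.ofPointIso (colimit.isColimit (approxDiagram F)), fun i => i.obj_fp, rfl⟩

end Approx

end Groth.Agent.Helper1.FPA
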