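import Mathlib
import Groth.Agent.Lib.Helper1.FPA11

set_option autoImplicit false
universe u
open CategoryTheory CategoryTheory.Limits AlgebraicGeometry TopologicalSpace Opposite

namespace Groth.Agent.Helper1.FPA

open Scheme.Modules Groth.Agent.Helper1.SubSh Groth.Agent.Helper1.QcCech

variable {X : Scheme.{u}}

/-- restrictions of generators over an affine open generate over a basic open -/
theorem span_res_basicOpen (F : X.Modules) [F.IsQuasicoherent] {V : X.Opens} (hV : IsAffineOpen V)
    (S : Set Γ(F, V)) (hS : Submodule.span Γ(X, V) S = ⊤) (f : Γ(X, V)) :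
    Submodule.span Γ(X, X.basicOpen f) ((res F (X.basicOpen_le f)) '' S) = ⊤ := by
  have key : ∀ y ∈ Submodule.span Γ(X, V) S, res F (X.basicOpen_le f) y ∈
      Submodule.span Γ(X, X.basicOpen f) ((res F (X.basicOpen_le f)) '' S) := by
    intro y hmem
    induction hmem using Submodule.span_induction with
    | mem x hx => exact Submodule.subset_span ⟨x, hx, rfl⟩
    | zero => rw [map_zero]; exact Submodule.zero_mem _
    | add x y _ _ hx hy => rw [map_add]; exact Submodule.add_mem _ hx hy
    | smul r x _ hx => rw [res_smul]; exact Submodule.smul_mem _ _ hx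
  rw [eq_top_iff]
  intro σ _
  obtain ⟨n, t', ht'⟩ := QcLoc.exists_extend hV F f σ
  have hu : IsUnit (resR (X.basicOpen_le f) f) :=
    RingedSpace.isUnit_res_basicOpen X.toRingedSpace f
  have ht : res F (X.basicOpen_le f) t' ∈
      Submodule.span Γ(X, X.basicOpen f) ((res F (X.basicOpen_le f)) '' S) :=
    key t' (by rw [hS]; trivial)
  have ht2 : resR (X.basicOpen_le f) f ^ n • σ ∈
      Submodule.span Γ(X, X.basicOpen f) ((res F (X.basicOpen_le f)) '' S) := by
    have e : res F (X.basicOpen_le f) t' = resR (X.basicOpen_le f) f ^ n • σ := ht'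
    rw [← e]
    exact ht
  exact SubSh.mem_of_isUnit_pow_smul _ hu n ht2

section Stage

variable {J : Type u} [SmallCategory J] [IsFiltered J] {D : J ⥤ X.Modules} (c : Cocone D)
  (hc : IsColimit c) [c.pt.IsQuasicoherent] (F : X.Modules) [F.IsQuasicoherent]
  (hF : CohB1.IsFT F) (u : c.pt ⟶ F) [Epi u]

include hc hF in
/-- around every point, an epimorphism from a filtered colimit onto a module of finite type is
surjective on sections already from a stage on -/
theorem exists_stage_surjective_nhds (x : X) :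
    ∃ B : X.Opens, IsAffineOpen B ∧ x ∈ B ∧ ∃ j : J, ∀ j' : J, Nonempty (j ⟶ j') →
      Function.Surjective ((c.ι.app j' ≫ u).app B) := by
  classical
  obtain ⟨_, ⟨V, hV, rfl⟩, hxV, -⟩ :=
    X.isBasis_affineOpens.exists_subset_of_mem_open (Set.mem_univ x) isOpen_univ
  haveI := Groth.Agent.Lead.FLF.ft_sections F hF hV
  obtain ⟨S, hS⟩ := (Module.Finite.fg_top : (⊤ : Submodule Γ(X, V) Γ(F, V)).FG)
  have hsurj := AffPushEpi.app_surjective_of_epi u V hV
  choose gS hgS using fun s : S => hsurj s.1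
  have hloc := fun s : S => exists_stage_locally c hc (gS s) x hxV
  choose W hWV hxW jS g' hg' using hloc
  have hxO : x ∈ V ⊓ (Finset.univ.inf W : X.Opens) := by
    refine ⟨hxV, ?_⟩
    change x ∈ ((Finset.univ.inf W : X.Opens) : Set X)
    rw [Opens.coe_finset_inf, Finset.inf_set_eq_iInter]
    simp only [Finset.mem_univ, Set.iInter_true, Set.mem_iInter, Function.comp_apply]
    exact fun s => hxW s
  obtain ⟨f, hfO, hxf⟩ := hV.exists_basicOpen_le (V := V ⊓ (Finset.univ.inf W : X.Opens))
    ⟨x, hxO⟩ hxV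
  have hfW : ∀ s : S, X.basicOpen f ≤ W s := fun s =>
    hfO.trans (inf_le_right.trans (Finset.inf_le (Finset.mem_univ s)))
  obtain ⟨j, hj⟩ := IsFiltered.sup_objs_exists (Finset.univ.image jS)
  refine ⟨X.basicOpen f, hV.basicOpen f, hxf, j, fun j' hjj' => ?_⟩
  obtain ⟨a⟩ := hjj'
  -- the range contains the restrictions of the generators
  have hgen : ∀ s : S, res F (X.basicOpen_le f) s.1 ∈
      LinearMap.range (appL (c.ι.app j' ≫ u) (X.basicOpen f)) := by
    intro s
    obtain ⟨b⟩ := hj (Finset.mem_image_of_mem jS (Finset.mem_univ s))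
    refine ⟨(D.map (b ≫ a)).app _ (res (D.obj (jS s)) (hfW s) (g' s)), ?_⟩
    change u.app _ ((c.ι.app j').app _ ((D.map (b ≫ a)).app _ (res (D.obj (jS s)) (hfW s) (g' s))))
      = _
    rw [ι_map_app]
    have e1 : (c.ι.app (jS s)).app (X.basicOpen f) (res (D.obj (jS s)) (hfW s) (g' s)) =
        res c.pt ((hfW s).trans (hWV s)) (gS s) := by
      refine (QcExt.app_res (c.ι.app (jS s)) (hfW s) (g' s)).trans ?_
      rw [hg' s]
      exact res_res c.pt (hWV s) (hfW s) (gS s)
    rw [e1, QcExt.app_res, hgS]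
  have htop : LinearMap.range (appL (c.ι.app j' ≫ u) (X.basicOpen f)) = ⊤ := by
    rw [eq_top_iff, ← span_res_basicOpen F hV (S : Set Γ(F, V)) hS f, Submodule.span_le]
    rintro _ ⟨s, hs, rfl⟩
    exact hgen ⟨s, hs⟩
  intro y
  have hy : y ∈ LinearMap.range (appL (c.ι.app j' ≫ u) (X.basicOpen f)) := by
    rw [htop]; exact Submodule.mem_top
  obtain ⟨t, ht⟩ := hy
  exact ⟨t, ht⟩

include hc hF in
/-- **an epimorphism from a filtered colimit of modules onto a quasi-coherent module of finite type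
on a quasi-compact scheme is an epimorphism from a stage on** -/
theorem exists_stage_epi [CompactSpace X] :
    ∃ j₀ : J, ∀ j : J, Nonempty (j₀ ⟶ j) → Epi (c.ι.app j ≫ u) := by
  classical
  choose B hB hxB jB hjB using exists_stage_surjective_nhds c hc F hF u
  obtain ⟨t, ht⟩ := isCompact_univ.elim_finite_subcover (fun x : X => ((B x : X.Opens) : Set X))
    (fun x => (B x).isOpen) (fun x _ => Set.mem_iUnion.2 ⟨x, hxB x⟩)
  obtain ⟨j₀, hj₀⟩ := IsFiltered.sup_objs_exists (t.image jB)
  refine ⟨j₀, fun j hj => ?_⟩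
  obtain ⟨a⟩ := hj
  apply epi_of_surjective_cover
  intro x
  obtain ⟨y, hy⟩ := Set.mem_iUnion.1 (ht (Set.mem_univ x))
  obtain ⟨hyt, hxy⟩ := Set.mem_iUnion.1 hy
  obtain ⟨b⟩ := hj₀ (Finset.mem_image_of_mem jB hyt)
  exact ⟨B y, hB y, hxy, hjB y j ⟨b ≫ a⟩⟩

end Stage

end Groth.Agent.Helper1.FPA
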