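import Mathlib
import Groth.Agent.Lib.Helper1.TorL

universe u
open CategoryTheory MonoidalCategory Limits

namespace Groth.Agent.Helper1.TorNat
open Groth.Agent.Helper1.TorL
variable {R : Type u} [CommRing R]

theorem tensCxMap_comp {X X' X'' : ModuleCat.{u} R} (f : X ⟶ X') (g : X' ⟶ X'')
    (Q : ChainComplex (ModuleCat.{u} R) ℕ) :
    tensCxMap (f ≫ g) Q = tensCxMap f Q ≫ tensCxMap g Q := by
  ext i : 1
  show (f ≫ g) ▷ Q.X i = f ▷ Q.X i ≫ g ▷ Q.X i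
  exact comp_whiskerRight f g (Q.X i)

/-- functoriality of `tensSC`. -/
noncomputable def tensSCMap {S S' : ShortComplex (ModuleCat.{u} R)} (φ : S ⟶ S')
    (Q : ChainComplex (ModuleCat.{u} R) ℕ) : tensSC S Q ⟶ tensSC S' Q where
  τ₁ := tensCxMap φ.τ₁ Q
  τ₂ := tensCxMap φ.τ₂ Q
  τ₃ := tensCxMap φ.τ₃ Q
  comm₁₂ := by
    show tensCxMap φ.τ₁ Q ≫ tensCxMap S'.f Q = tensCxMap S.f Q ≫ tensCxMap φ.τ₂ Q
    rw [← tensCxMap_comp, ← tensCxMap_comp, φ.comm₁₂]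
  comm₂₃ := by
    show tensCxMap φ.τ₂ Q ≫ tensCxMap S'.g Q = tensCxMap S.g Q ≫ tensCxMap φ.τ₃ Q
    rw [← tensCxMap_comp, ← tensCxMap_comp, φ.comm₂₃]

theorem torδ_naturality {S S' : ShortComplex (ModuleCat.{u} R)} (φ : S ⟶ S')
    (hS : S.ShortExact) (hS' : S'.ShortExact) (Y : ModuleCat.{u} R) (n : ℕ) :
    torδ S hS Y n ≫ ((Tor (ModuleCat.{u} R) n).map φ.τ₁).app Y =
      ((Tor (ModuleCat.{u} R) (n + 1)).map φ.τ₃).app Y ≫ torδ S' hS' Y n := by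
  let Q := projectiveResolution Y
  have hSQ := tensSC_shortExact S hS Q.complex (flat_res Q)
  have hSQ' := tensSC_shortExact S' hS' Q.complex (flat_res Q)
  have hnat := HomologicalComplex.HomologySequence.δ_naturality (tensSCMap φ Q.complex) hSQ hSQ'
    (n + 1) n (relDown n)
  rw [← cancel_mono (torIso S'.X₁ Q n).hom, Category.assoc, Category.assoc, torδ_hom,
    tor_map_hom φ.τ₁ Q n, reassoc_of% (torδ_hom S hS Y n),
    reassoc_of% (tor_map_hom φ.τ₃ Q (n + 1))]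
  congr 1

/-- If `Tor₁(τ₃, Y) = 0` then `τ₁ ⊗ Y` kills the kernel of `S.f ⊗ Y`. -/
theorem whisker_eq_zero_of_tor_one_map_eq_zero {S S' : ShortComplex (ModuleCat.{u} R)}
    (φ : S ⟶ S') (hS : S.ShortExact) (hS' : S'.ShortExact) (Y : ModuleCat.{u} R)
    (h : ((Tor (ModuleCat.{u} R) 1).map φ.τ₃).app Y = 0)
    (x : (S.X₁ ⊗ Y : ModuleCat.{u} R)) (hx : (S.f ▷ Y) x = 0) : (φ.τ₁ ▷ Y) x = 0 := by
  set y := (tor0Iso S.X₁ Y).inv x with hy
  have hxy : x = (tor0Iso S.X₁ Y).hom y := by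
    rw [hy, ← ModuleCat.comp_apply, Iso.inv_hom_id, ModuleCat.id_apply]
  have h1 : (((Tor (ModuleCat.{u} R) 0).map S.f).app Y) y = 0 := by
    have e := tor0Iso_naturality S.f Y
    have e2 : (tor0Iso S.X₂ Y).hom ((((Tor (ModuleCat.{u} R) 0).map S.f).app Y) y) = 0 := by
      rw [← ModuleCat.comp_apply, e, ModuleCat.comp_apply, ← hxy, hx]
    have e3 := congrArg (tor0Iso S.X₂ Y).inv e2
    rw [← ModuleCat.comp_apply, Iso.hom_inv_id, ModuleCat.id_apply, map_zero] at e3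
    exact e3
  obtain ⟨z, hz⟩ := (ShortComplex.moduleCat_exact_iff _).mp (tor_exact₁ S hS Y 0) y h1
  have hz' : torδ S hS Y 0 z = y := hz
  have h2 : (((Tor (ModuleCat.{u} R) 0).map φ.τ₁).app Y) y = 0 := by
    rw [← hz', ← ModuleCat.comp_apply, torδ_naturality φ hS hS' Y 0, h, zero_comp]
    rfl
  have e := tor0Iso_naturality φ.τ₁ Y
  rw [hxy, ← ModuleCat.comp_apply, ← e, ModuleCat.comp_apply, h2, map_zero]

end Groth.Agent.Helper1.TorNat
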