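import Mathlib
import Groth.Agent.Lib.Helper1.TorNat

universe u
open CategoryTheory MonoidalCategory Limits
open scoped TensorProduct

namespace Groth.Agent.Helper1.FactorFree
open Groth.Agent.Helper1.TorL Groth.Agent.Helper1.TorNat
variable {R : Type u} [CommRing R]

section Mat
variable {m n : ℕ} (g : (Fin m → R) →ₗ[R] (Fin n → R))

/-- the `j`-th generator -/
def kk (j : Fin m) : Fin n → R := g (Pi.single j 1)

/-- the transpose map -/
noncomputable def ρ : (Fin n → R) →ₗ[R] (Fin m → R) :=
  LinearMap.pi (fun j => Fintype.linearCombination R (fun l => kk g j l))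

theorem ρ_apply (v : Fin n → R) (j : Fin m) : ρ g v j = ∑ l, v l • kk g j l := by
  simp [ρ, Fintype.linearCombination_apply]

theorem ρ_single (l : Fin n) : ρ g (Pi.single l 1) = fun j => kk g j l := by
  ext j
  rw [ρ_apply]
  simp [Pi.single_apply]

/-- the test module -/
abbrev NN : Type u := (Fin m → R) ⧸ LinearMap.range (ρ g)

/-- first key computation -/
theorem sum_tmul_eq_zero :
    ∑ j : Fin m, (kk g j) ⊗ₜ[R] ((LinearMap.range (ρ g)).mkQ (Pi.single j 1)) = 0 := by
  apply (TensorProduct.comm R (Fin n → R) (NN g)).injective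
  apply (TensorProduct.piScalarRight R R (NN g) (Fin n)).injective
  rw [map_zero, map_zero, map_sum, map_sum]
  ext l
  simp only [TensorProduct.comm_tmul, TensorProduct.piScalarRight_apply,
    TensorProduct.piScalarRightHom_tmul, Finset.sum_apply, Pi.zero_apply]
  have : ∑ j : Fin m, kk g j l • (LinearMap.range (ρ g)).mkQ (Pi.single j (1 : R)) =
      (LinearMap.range (ρ g)).mkQ (ρ g (Pi.single l 1)) := by
    rw [ρ_single]
    simp_rw [← map_smul]
    rw [← map_sum]
    congr 1
    ext j'
    simp [Finset.sum_apply, Pi.single_apply]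
  rw [this]
  exact (Submodule.Quotient.mk_eq_zero _).mpr ⟨_, rfl⟩

/-- second key computation -/
theorem exists_coeffs {K' : Type u} [AddCommGroup K'] [Module R K'] (a : Fin m → K')
    (h : ∑ j : Fin m, (a j) ⊗ₜ[R] ((LinearMap.range (ρ g)).mkQ (Pi.single j 1)) = 0) :
    ∃ c : Fin n → K', ∀ j, a j = ∑ l, kk g j l • c l := by
  have hex : Function.Exact (ρ g) (LinearMap.range (ρ g)).mkQ := LinearMap.exact_map_mkQ_range (ρ g)
  have hex' := lTensor_exact K' hex (Submodule.mkQ_surjective _)
  have h0 : ((LinearMap.range (ρ g)).mkQ.lTensor K')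
      (∑ j : Fin m, (a j) ⊗ₜ[R] (Pi.single j (1 : R))) = 0 := by
    rw [map_sum]
    simpa using h
  obtain ⟨w, hw⟩ := (hex' _).mp h0
  refine ⟨TensorProduct.piScalarRight R R K' (Fin n) w, ?_⟩
  have key : ∀ w : K' ⊗[R] (Fin n → R), TensorProduct.piScalarRight R R K' (Fin m)
      ((ρ g).lTensor K' w) = fun j => ∑ l, kk g j l • (TensorProduct.piScalarRight R R K' (Fin n) w) l := by
    intro w
    induction w using TensorProduct.induction_on with
    | zero => ext j; simp
    | tmul x v =>
      ext j
      simp only [LinearMap.lTensor_tmul, TensorProduct.piScalarRight_apply,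
        TensorProduct.piScalarRightHom_tmul, ρ_apply]
      rw [Finset.sum_smul]
      refine Finset.sum_congr rfl fun l _ => ?_
      rw [smul_smul, smul_eq_mul, mul_comm]
    | add w w' hw hw' =>
      rw [map_add, map_add, hw, hw']
      ext j
      simp [Finset.sum_add_distrib]
  intro j
  have h1 := congrFun (key w) j
  rw [hw, map_sum] at h1
  rw [← h1]
  simp [Pi.single_apply]

end Mat

end Groth.Agent.Helper1.FactorFree
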