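import Mathlib
import Groth.Agent.Lib.Helper1.TorNat
import Groth.Agent.Lib.Helper1.FactorFreeA

universe u
open CategoryTheory MonoidalCategory Limits
open scoped TensorProduct

namespace Groth.Agent.Helper1.FactorFree
open Groth.Agent.Helper1.TorL Groth.Agent.Helper1.TorNat
variable {R : Type u} [CommRing R]

theorem exists_factor {F M G : Type*} [AddCommGroup F] [Module R F] [AddCommGroup M] [Module R M]
    [AddCommGroup G] [Module R G] (π : F →ₗ[R] M) (hπ : Function.Surjective π) (β : F →ₗ[R] G)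
    (hle : LinearMap.ker π ≤ LinearMap.ker β) : ∃ βbar : M →ₗ[R] G, ∀ v, βbar (π v) = β v := by
  refine ⟨(LinearMap.ker π).liftQ β hle ∘ₗ (π.quotKerEquivOfSurjective hπ).symm.toLinearMap, ?_⟩
  intro v
  have : (π.quotKerEquivOfSurjective hπ).symm (π v) = (LinearMap.ker π).mkQ v := by
    rw [LinearEquiv.symm_apply_eq]
    rfl
  show (LinearMap.ker π).liftQ β hle ((π.quotKerEquivOfSurjective hπ).symm (π v)) = β v
  rw [this]
  rfl

set_option maxHeartbeats 1000000 in
theorem main (M M' : Type u) [AddCommGroup M] [Module R M] [Module.FinitePresentation R M]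
    [AddCommGroup M'] [Module R M'] (α : M →ₗ[R] M')
    (h : ∀ (N : Type u) [AddCommGroup N] [Module R N],
      ((Tor (ModuleCat.{u} R) 1).map (ModuleCat.ofHom α)).app (ModuleCat.of R N) = 0) :
    ∃ (ι : Type u) (g : M →ₗ[R] (ι →₀ R)) (h : (ι →₀ R) →ₗ[R] M'), α = h ∘ₗ g := by
  obtain ⟨n, m, π, g, hπ, hgπ⟩ := Module.FinitePresentation.exists_fin' R M
  let π' : (M' →₀ R) →ₗ[R] M' := Finsupp.linearCombination R id
  have hπ' : Function.Surjective π' := Finsupp.linearCombination_id_surjective R M'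
  obtain ⟨φ, hφ⟩ := Module.projective_lifting_property π' (α ∘ₗ π) hπ'
  have hφ' : ∀ v, π' (φ v) = α (π v) := fun v => LinearMap.congr_fun hφ v
  have hS : π.shortComplexKer.ShortExact := LinearMap.shortExact_shortComplexKer hπ
  have hS' := freePres_shortExact (R := R) M'
  have hφK : ∀ x ∈ LinearMap.ker π, φ x ∈ LinearMap.ker π' := by
    intro x hx
    rw [LinearMap.mem_ker] at hx ⊢
    rw [hφ', hx, map_zero]
  let φK : LinearMap.ker π →ₗ[R] LinearMap.ker π' := φ.restrict hφK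
  let Φ : π.shortComplexKer ⟶ freePres (R := R) M' :=
    { τ₁ := ModuleCat.ofHom φK
      τ₂ := ModuleCat.ofHom φ
      τ₃ := ModuleCat.ofHom α
      comm₁₂ := by
        ext x
        rfl
      comm₂₃ := by
        apply ModuleCat.hom_ext
        apply LinearMap.ext
        intro v
        exact hφ' v }
  -- generators
  have hk : ∀ j, kk g j ∈ LinearMap.ker π := by
    intro j
    rw [LinearMap.mem_ker]
    exact hgπ.apply_apply_eq_zero _
  let Y : ModuleCat.{u} R := ModuleCat.of R (NN g)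
  let x : (π.shortComplexKer.X₁ ⊗ Y : ModuleCat.{u} R) :=
    ∑ j : Fin m, (⟨kk g j, hk j⟩ : LinearMap.ker π) ⊗ₜ[R]
      ((LinearMap.range (ρ g)).mkQ (Pi.single j 1))
  have hx : (π.shortComplexKer.f ▷ Y) x = 0 := by
    show (π.shortComplexKer.f ▷ Y) (∑ j : Fin m, (⟨kk g j, hk j⟩ : LinearMap.ker π) ⊗ₜ[R]
      ((LinearMap.range (ρ g)).mkQ (Pi.single j 1))) = 0
    rw [map_sum]
    exact sum_tmul_eq_zero g
  have hx2 := whisker_eq_zero_of_tor_one_map_eq_zero Φ hS hS' Y (h (NN g)) x hx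
  have hx3 : ∑ j : Fin m, (φK ⟨kk g j, hk j⟩) ⊗ₜ[R]
      ((LinearMap.range (ρ g)).mkQ (Pi.single j 1)) = 0 := by
    have : (Φ.τ₁ ▷ Y) (∑ j : Fin m, (⟨kk g j, hk j⟩ : LinearMap.ker π) ⊗ₜ[R]
      ((LinearMap.range (ρ g)).mkQ (Pi.single j 1))) = 0 := hx2
    rw [map_sum] at this
    exact this
  obtain ⟨c, hc⟩ := exists_coeffs g (fun j => φK ⟨kk g j, hk j⟩) hx3
  let hh : (Fin n → R) →ₗ[R] LinearMap.ker π' := Fintype.linearCombination R c
  have hhk : ∀ j, hh (kk g j) = φK ⟨kk g j, hk j⟩ := by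
    intro j
    rw [hc j]
    simp [hh, Fintype.linearCombination_apply]
  let β : (Fin n → R) →ₗ[R] (M' →₀ R) := φ - (LinearMap.ker π').subtype ∘ₗ hh
  have hβg : β ∘ₗ g = 0 := by
    apply LinearMap.pi_ext'
    intro j
    apply LinearMap.ext_ring
    have h1 : β (kk g j) = φ (kk g j) - ((hh (kk g j) : LinearMap.ker π') : M' →₀ R) := rfl
    have h2 : ((φK ⟨kk g j, hk j⟩ : LinearMap.ker π') : M' →₀ R) = φ (kk g j) := rfl
    have h3 : β (kk g j) = 0 := by rw [h1, hhk j, h2, sub_self]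
    exact h3
  have hle : LinearMap.ker π ≤ LinearMap.ker β := by
    intro y hy
    obtain ⟨p, rfl⟩ := (hgπ y).mp hy
    exact LinearMap.congr_fun hβg p
  obtain ⟨βbar, hβbar⟩ := exists_factor π hπ β hle
  refine ⟨M', βbar, π', ?_⟩
  apply LinearMap.ext
  intro y
  obtain ⟨v, rfl⟩ := hπ y
  rw [LinearMap.comp_apply, hβbar]
  show α (π v) = π' (φ v - ((hh v : LinearMap.ker π') : M' →₀ R))
  rw [map_sub, hφ', (LinearMap.mem_ker.mp (hh v).2), sub_zero]

end Groth.Agent.Helper1.FactorFree
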