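import Mathlib
import Groth.Agent.Lib.Helper4.FlatCohBC1
import Groth.Agent.Lib.Helper1.PullSec
import Groth.Agent.Lib.Helper1.RpushLoc1

/-!
# Vanishing of cohomology after extension of the base field (helper1)
-/

set_option autoImplicit false
universe u
open CategoryTheory CategoryTheory.Limits AlgebraicGeometry TopologicalSpace Opposite

namespace Groth.Agent.Helper1.GeomBC

section BC

variable (k : Type u) [Field k] {X : Scheme.{u}}

theorem isField_stalk_spec (y : Spec (CommRingCat.of k)) :
    IsField ((Spec (CommRingCat.of k)).presheaf.stalk y) := by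
  let K' := (Spec.structureSheaf k).presheaf.stalk y
  let e : k ≃ₐ[k] K' := IsLocalization.atUnits _ y.asIdeal.primeCompl
      (fun x hx ↦ by aesop (add simp IsUnit.mem_submonoid_iff))
  exact e.toRingEquiv.symm.isField (Field.toIsField k)

/-- every module on a scheme over a field is flat over the field -/
theorem isFlatOver_field (f : X ⟶ Spec (CommRingCat.of k)) (M : X.Modules) :
    FlatMod.IsFlatOver f M := by
  intro x
  unfold FlatMod.IsFlatOverAt
  letI : Field ((Spec (CommRingCat.of k)).presheaf.stalk (f.base x)) :=
    (isField_stalk_spec k (f.base x)).toField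
  letI := FlatMod.moduleStalkOver f M x
  exact Module.Flat.of_free

end BC

section Van

variable (k K : Type u) [Field k] [Field K] [Algebra k K] (X : Scheme.{u})
  [X.Over (Spec (CommRingCat.of k))]
  [QuasiCompact (X ↘ Spec (CommRingCat.of k))] [IsSeparated (X ↘ Spec (CommRingCat.of k))]

/-- vanishing of `Hⁿ(X, O_X)` is preserved by extension of the base field -/
theorem subsingleton_HH_structureModule_bc (n : ℕ)
    (h : Subsingleton (Coh.HH X (Coh.structureModule X) n)) :
    Subsingleton (Coh.HH (pullback (X ↘ Spec (CommRingCat.of k))
        (Spec.map (CommRingCat.ofHom (algebraMap k K))))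
      (Coh.structureModule (pullback (X ↘ Spec (CommRingCat.of k))
        (Spec.map (CommRingCat.ofHom (algebraMap k K))))) n) := by
  haveI : Coh.IsQCoh (Coh.structureModule X) := by
    show (Coh.structureModule X).IsQuasicoherent
    infer_instance
  obtain ⟨e⟩ := Groth.Agent.Lib.Helper4.FlatCohBC1.s2445 k K X (Coh.structureModule X)
    (isFlatOver_field k _ _) (fun p => Module.Flat.of_free) n
  haveI : Subsingleton (TensorProduct k (Coh.HH X (Coh.structureModule X) n) K) := by
    refine ⟨fun a b => ?_⟩
    have h0 : ∀ t : TensorProduct k (Coh.HH X (Coh.structureModule X) n) K, t = 0 := by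
      intro t
      induction t using TensorProduct.induction_on with
      | zero => rfl
      | tmul x y => rw [Subsingleton.elim x 0, TensorProduct.zero_tmul]
      | add x y hx hy => rw [hx, hy, add_zero]
    rw [h0 a, h0 b]
  have h2 := e.injective.subsingleton
  exact RpushLoc.subsingleton_HH_of_iso (PullSec.unitIso _) n h2

end Van

end Groth.Agent.Helper1.GeomBC
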