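import Mathlib
import Groth.Agent.Lib.Helper7.Betti.Main
import Groth.Agent.Lib.Helper1.GenF2
import Groth.Agent.Lib.Helper1.GeomBC1
import Groth.Agent.Lib.Helper1.FpLocal
import Groth.Agent.Lib.Helper4.FlatTw3
import Groth.Agent.Lib.Lead.PullTensorAll
import Groth.Agent.Lib.Helper1.NumEq1

/-!
# Algebraic equivalence preserves Euler characteristics (helper1)

* `euler_tensor_of_algEquiv`: `χ(G ⊗ A) = χ(G)` for `A` algebraically equivalent to zero;
* `tau_main`: `χ(x · [L]) = χ(x)` on `K₀` for `L` τ-equivalent to zero.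
-/

set_option autoImplicit false
set_option linter.style.haveILetI false
set_option linter.unusedSectionVars false
universe u
open CategoryTheory CategoryTheory.Limits AlgebraicGeometry TopologicalSpace Opposite

namespace Groth.Agent.Helper1.TauChi

open Groth.Agent.Helper1 Groth.Agent.Helper1.Euler Groth.Agent.Helper1.Dv
open Groth.Agent.Helper1.FinLen Groth.Agent.Helper1.TwForm Groth.Agent.Helper1.Curve
open Groth.Agent.Helper1.Snap Groth.Agent.Helper1.SnapPos Groth.Agent.Helper1.FGAInt

theorem locallyOfFinitePresentation_of_noeth {X Y : Scheme.{u}} (f : X ⟶ Y)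
    [LocallyOfFiniteType f] [IsLocallyNoetherian Y] : LocallyOfFinitePresentation f :=
  ⟨fun {U} hU {V} hV e => by
    haveI : IsNoetherianRing Γ(Y, U) := IsLocallyNoetherian.component_noetherian ⟨U, hU⟩
    exact RingHom.FinitePresentation.of_finiteType.1 (f.finiteType_appLE hU hV e)⟩

section Geo

variable (k : Type u) [Field k] (X : Scheme.{u}) [X.Over (Spec (CommRingCat.of k))]

theorem eulerChar_field [QuasiCompact (X ↘ Spec (CommRingCat.of k))]
    [QuasiSeparated (X ↘ Spec (CommRingCat.of k))]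
    (F : X.Modules) [F.IsQuasicoherent] (pt : Spec (CommRingCat.of k)) :
    PerfAux.eulerChar (X ↘ Spec (CommRingCat.of k)) F pt = Curv2.euler k X F := by
  unfold PerfAux.eulerChar Curv2.euler
  refine finsum_congr fun i => ?_
  rw [GenF.betti_field k (X ↘ Spec (CommRingCat.of k)) F pt i]
  rfl

variable {T : Scheme.{u}} (q : T ⟶ Spec (CommRingCat.of k)) (t : Spec (CommRingCat.of k) ⟶ T)
  (ht : t ≫ q = 𝟙 _)

theorem slice_fst : Pic13.sliceAt k X q t ht ≫ pullback.fst (X ↘ Spec (CommRingCat.of k)) q = 𝟙 X :=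
  pullback.lift_fst _ _ _

theorem slice_snd : Pic13.sliceAt k X q t ht ≫ pullback.snd (X ↘ Spec (CommRingCat.of k)) q =
    (X ↘ Spec (CommRingCat.of k)) ≫ t :=
  pullback.lift_snd _ _ _

theorem isPullback_slice :
    IsPullback (Pic13.sliceAt k X q t ht) (X ↘ Spec (CommRingCat.of k))
      (pullback.snd (X ↘ Spec (CommRingCat.of k)) q) t := by
  have hbig : IsPullback
      (Pic13.sliceAt k X q t ht ≫ pullback.fst (X ↘ Spec (CommRingCat.of k)) q)
      (X ↘ Spec (CommRingCat.of k)) (X ↘ Spec (CommRingCat.of k)) (t ≫ q) := by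
    rw [slice_fst, ht]
    exact IsPullback.of_horiz_isIso ⟨by rw [Category.id_comp, Category.comp_id]⟩
  exact IsPullback.of_right hbig (slice_snd k X q t ht) (IsPullback.of_hasPullback _ _)

theorem nonempty_slice_iso (G : X.Modules) (M : (Pic13.prodK k X q).Modules) :
    Nonempty (Pic13.fibreMod k X q t ht (CohB1.tensorMod
        ((Scheme.Modules.pullback (pullback.fst (X ↘ Spec (CommRingCat.of k)) q)).obj G) M) ≅
      CohB1.tensorMod G (Pic13.fibreMod k X q t ht M)) := by
  obtain ⟨e1⟩ := Groth.Agent.Lead.PullTensorAll.nonempty_tensor_pullback_iso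
    (Pic13.sliceAt k X q t ht)
    ((Scheme.Modules.pullback (pullback.fst (X ↘ Spec (CommRingCat.of k)) q)).obj G) M
  have e2 : (Scheme.Modules.pullback (Pic13.sliceAt k X q t ht)).obj
      ((Scheme.Modules.pullback (pullback.fst (X ↘ Spec (CommRingCat.of k)) q)).obj G) ≅ G :=
    (Scheme.Modules.pullbackComp (Pic13.sliceAt k X q t ht)
        (pullback.fst (X ↘ Spec (CommRingCat.of k)) q)).app G ≪≫
      (Scheme.Modules.pullbackCongr (slice_fst k X q t ht)).app G ≪≫
      (Scheme.Modules.pullbackId X).app G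
  exact ⟨e1.symm ≪≫ Groth.Agent.Lead.TilT.tensorModCongr e2 (Iso.refl _)⟩

variable [IsProper (X ↘ Spec (CommRingCat.of k))]

theorem euler_slice (G : X.Modules) (hG : Coh.IsCoh G) (M : (Pic13.prodK k X q).Modules)
    (hM : PicF.IsInvertible M) (pt : Spec (CommRingCat.of k)) :
    Curv2.euler k X (CohB1.tensorMod G (Pic13.fibreMod k X q t ht M)) =
      PerfAux.eulerChar (pullback.snd (X ↘ Spec (CommRingCat.of k)) q)
        (CohB1.tensorMod
          ((Scheme.Modules.pullback (pullback.fst (X ↘ Spec (CommRingCat.of k)) q)).obj G) M)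
        (t pt) := by
  have hGp : Coh.IsCoh
      ((Scheme.Modules.pullback (pullback.fst (X ↘ Spec (CommRingCat.of k)) q)).obj G) :=
    Groth.Agent.Helper7.ConsMod.isCoh_pullback _ G hG
  have hMc : Coh.IsCoh M := InvQc.isCoh_of_isInvertible _ hM
  have hT := Euler.isCoh_tensor _ _ hGp hMc
  haveI : (CohB1.tensorMod
      ((Scheme.Modules.pullback (pullback.fst (X ↘ Spec (CommRingCat.of k)) q)).obj G)
      M).IsQuasicoherent := hT.1
  obtain ⟨e⟩ := nonempty_slice_iso k X q t ht G M
  have hsl : Coh.IsCoh (Pic13.fibreMod k X q t ht (CohB1.tensorMod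
      ((Scheme.Modules.pullback (pullback.fst (X ↘ Spec (CommRingCat.of k)) q)).obj G) M)) :=
    Groth.Agent.Helper7.ConsMod.isCoh_pullback _ _ hT
  haveI : (Pic13.fibreMod k X q t ht (CohB1.tensorMod
      ((Scheme.Modules.pullback (pullback.fst (X ↘ Spec (CommRingCat.of k)) q)).obj G)
      M)).IsQuasicoherent := hsl.1
  rw [← euler_iso k X e, ← eulerChar_field k X _ pt]
  exact Groth.Agent.Helper7.Betti.eulerChar_baseChange
    (pullback.snd (X ↘ Spec (CommRingCat.of k)) q) t (Pic13.sliceAt k X q t ht)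
    (X ↘ Spec (CommRingCat.of k)) (isPullback_slice k X q t ht) _ pt

/-- **algebraic equivalence preserves Euler characteristics** -/
theorem euler_tensor_of_algEquiv (A : X.Modules) (halg : Pic13.IsAlgEquivZero k X A)
    (G : X.Modules) (hG : Coh.IsCoh G) :
    Curv2.euler k X (CohB1.tensorMod G A) = Curv2.euler k X G := by
  obtain ⟨T, q, hconn, hft, hqc, M, hM, t, t₀, ht, ht₀, ⟨e⟩, ⟨e₀⟩⟩ := halg
  haveI := hconn
  haveI := hft
  haveI := hqc
  haveI : Nonempty ↥(Spec (CommRingCat.of k)) := inferInstanceAs (Nonempty (PrimeSpectrum k))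
  obtain ⟨pt⟩ := ‹Nonempty ↥(Spec (CommRingCat.of k))›
  haveI : IsLocallyNoetherian T := LocallyOfFiniteType.isLocallyNoetherian q
  haveI : IsLocallyNoetherian (Pic13.prodK k X q) :=
    LocallyOfFiniteType.isLocallyNoetherian (pullback.snd (X ↘ Spec (CommRingCat.of k)) q)
  have hGp : Coh.IsCoh
      ((Scheme.Modules.pullback (pullback.fst (X ↘ Spec (CommRingCat.of k)) q)).obj G) :=
    Groth.Agent.Helper7.ConsMod.isCoh_pullback _ G hG
  have hMc : Coh.IsCoh M := InvQc.isCoh_of_isInvertible _ hM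
  have hT := Euler.isCoh_tensor _ _ hGp hMc
  have hFP := FpLocal.isFP_of_isCoh _ hT
  have hflat : FlatMod.IsFlatOver (pullback.snd (X ↘ Spec (CommRingCat.of k)) q)
      (CohB1.tensorMod
        ((Scheme.Modules.pullback (pullback.fst (X ↘ Spec (CommRingCat.of k)) q)).obj G) M) := by
    haveI : G.IsQuasicoherent := hG.1
    haveI : ((Scheme.Modules.pullback
      (pullback.fst (X ↘ Spec (CommRingCat.of k)) q)).obj G).IsQuasicoherent := hGp.1
    haveI : (CohB1.tensorMod
      ((Scheme.Modules.pullback (pullback.fst (X ↘ Spec (CommRingCat.of k)) q)).obj G)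
      M).IsQuasicoherent := hT.1
    apply Groth.Agent.Lib.Helper4.FlatTw3.isFlatOver_tensor_of_isInvertible _ _ M hM
    intro z
    exact Groth.Agent.Lead.FB.flat_baseChange
      (IsPullback.of_hasPullback (X ↘ Spec (CommRingCat.of k)) q) G z
      (GeomBC.isFlatOver_field k (X ↘ Spec (CommRingCat.of k)) G _)
  haveI : LocallyOfFinitePresentation (pullback.snd (X ↘ Spec (CommRingCat.of k)) q) :=
    locallyOfFinitePresentation_of_noeth _
  have hlc := Groth.Agent.Helper7.Betti.isLocallyConstant_eulerChar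
    (pullback.snd (X ↘ Spec (CommRingCat.of k)) q) _ hFP hflat
  have hconst := hlc.apply_eq_of_preconnectedSpace (t pt) (t₀ pt)
  have h1 := euler_slice k X q t ht G hG M hM pt
  have h2 := euler_slice k X q t₀ ht₀ G hG M hM pt
  rw [euler_iso k X (Groth.Agent.Lead.TilT.tensorModCongr (Iso.refl G) e.symm), h1, hconst, ← h2,
    euler_iso k X (Groth.Agent.Lead.TilT.tensorModCongr (Iso.refl G) e₀)]
  exact euler_iso k X (Groth.Agent.Lib.Helper5.LTenFlf.tensorUnitIso G)

end Geo

section K0

variable {X : Scheme.{u}} [IsNoetherian X]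

theorem T_mem_FilLT (L : X.Modules) (hL : PicF.IsInvertible L) (d : ℕ)
    (x : KZero.K0sub (PC X)) (hx : x ∈ FilLT X d) : T L hL x ∈ FilLT X d := by
  cases d with
  | zero =>
    rw [FilLT_zero, AddSubgroup.mem_bot] at hx ⊢
    rw [hx, map_zero]
  | succ d =>
    have h := T_sub_mem L hL d x hx
    have h2 : T L hL x = (T L hL x - x) + x := by abel
    rw [h2]
    exact (FilLT X (d + 1)).add_mem (Kleiman.FilLT_mono (Nat.le_succ d) h) hx

theorem T_pow_mem_FilLT (L : X.Modules) (hL : PicF.IsInvertible L) (d : ℕ)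
    (x : KZero.K0sub (PC X)) (hx : x ∈ FilLT X d) (i : ℕ) : ((T L hL) ^ i) x ∈ FilLT X d := by
  induction i with
  | zero => exact hx
  | succ i ih =>
    rw [pow_succ']
    exact T_mem_FilLT L hL d _ ih

end K0

section Main

variable (k : Type u) [Field k] (X : Scheme.{u}) [X.Over (Spec (CommRingCat.of k))]
  [IsProper (X ↘ (Spec (CommRingCat.of k)))] [IsNoetherian X]

/-- an Euler characteristic invariant under a positive power of a twist is invariant under the
twist -/
theorem eulerHom_T_of_pow (L : X.Modules) (hL : PicF.IsInvertible L) (n : ℕ) (hn : 0 < n)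
    (h : ∀ x, eulerHom k X (((T L hL) ^ n) x) = eulerHom k X x) :
    ∀ (D : ℕ) (x : KZero.K0sub (PC X)), x ∈ FilLT X D →
      eulerHom k X (T L hL x) = eulerHom k X x := by
  intro D
  induction D with
  | zero =>
    intro x hx
    rw [FilLT_zero, AddSubgroup.mem_bot] at hx
    rw [hx, map_zero]
  | succ D ih =>
    intro x hx
    obtain ⟨y, hy⟩ : ∃ y, y = T L hL x - x := ⟨_, rfl⟩
    have hymem : y ∈ FilLT X D := by rw [hy]; exact T_sub_mem L hL D x hx
    have hfix : ∀ i : ℕ, eulerHom k X (((T L hL) ^ i) y) = eulerHom k X y := by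
      intro i
      induction i with
      | zero => rfl
      | succ i ihi =>
        rw [pow_succ']
        change eulerHom k X (T L hL (((T L hL) ^ i) y)) = _
        rw [ih _ (T_pow_mem_FilLT L hL D y hymem i), ihi]
    have hgeom : (∑ i ∈ Finset.range n, (T L hL) ^ i) * (T L hL - 1) = (T L hL) ^ n - 1 :=
      geom_sum_mul (T L hL) n
    have h1 : eulerHom k X (((T L hL) ^ n - 1) x) = 0 := by
      change eulerHom k X (((T L hL) ^ n) x - x) = 0
      rw [map_sub, h x, sub_self]
    rw [← hgeom] at h1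
    change eulerHom k X ((∑ i ∈ Finset.range n, (T L hL) ^ i) (T L hL x - x)) = 0 at h1
    rw [← hy, end_sum_apply, map_sum, Finset.sum_congr rfl (fun i _ => hfix i), Finset.sum_const,
      Finset.card_range, nsmul_eq_mul] at h1
    have h3 : eulerHom k X y = 0 := by
      rcases mul_eq_zero.1 h1 with h2 | h2
      · exfalso
        have : (n : ℤ) ≠ 0 := by exact_mod_cast hn.ne'
        exact this h2
      · exact h2
    rw [hy, map_sub] at h3
    linarith

/-- **τ-equivalence to zero preserves Euler characteristics** -/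
theorem tau_main (L : X.Modules) (hL : PicF.IsInvertible L) (hτ : Pic13.IsTauEquivZero k X L) :
    ∀ (D : ℕ) (x : KZero.K0sub (PC X)), x ∈ FilLT X D →
      eulerHom k X (T L hL x) = eulerHom k X x := by
  obtain ⟨n, hn, halg⟩ := hτ
  have hLn : PicF.IsInvertible (CohB1.tensorPow L n) := isInvertible_tensorPow hL n
  have hLnc : Coh.IsCoh (CohB1.tensorPow L n) := InvQc.isCoh_of_isInvertible _ hLn
  refine eulerHom_T_of_pow k X L hL n hn ?_
  have key : (eulerHom k X).comp (((T L hL) ^ n : AddMonoid.End (KZero.K0sub (PC X))) :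
      KZero.K0sub (PC X) →+ KZero.K0sub (PC X)) = eulerHom k X := by
    apply k0_hom_ext
    intro M hM
    change eulerHom k X (((T L hL) ^ n) (KZero.clSub (PC X) M)) = _
    rw [← T_tensorPow hL n hLn, T_clSub' _ hLn M hM,
      eulerHom_clSub k X _ (Euler.isCoh_tensor _ _ hM hLnc), eulerHom_clSub k X _ hM]
    exact euler_tensor_of_algEquiv k X _ halg M hM
  intro x
  exact DFunLike.congr_fun key x

theorem tau_pow (L : X.Modules) (hL : PicF.IsInvertible L) (hτ : Pic13.IsTauEquivZero k X L)
    (D : ℕ) (x : KZero.K0sub (PC X)) (hx : x ∈ FilLT X D) (m : ℕ) :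
    eulerHom k X (((T L hL) ^ m) x) = eulerHom k X x := by
  induction m with
  | zero => rfl
  | succ m ih =>
    rw [pow_succ']
    change eulerHom k X (T L hL (((T L hL) ^ m) x)) = _
    rw [tau_main k X L hL hτ D _ (T_pow_mem_FilLT L hL D x hx m), ih]

/-- the same for an inverse of `L` -/
theorem tau_inv (L L' : X.Modules) (hL : PicF.IsInvertible L) (hL' : PicF.IsInvertible L')
    (i : CohB1.tensorMod L L' ≅ Coh.structureModule X) (hτ : Pic13.IsTauEquivZero k X L)
    (D : ℕ) (x : KZero.K0sub (PC X)) (hx : x ∈ FilLT X D) :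
    eulerHom k X (T L' hL' x) = eulerHom k X x := by
  have h1 : T L hL * T L' hL' = 1 := T_mul_of_inverse hL hL' i
  have h2 := tau_main k X L hL hτ D _ (T_mem_FilLT L' hL' D x hx)
  have h3 : T L hL (T L' hL' x) = x := by
    change (T L hL * T L' hL') x = x
    rw [h1]; rfl
  rw [h3] at h2
  exact h2.symm

theorem tau_inv_pow (L L' : X.Modules) (hL : PicF.IsInvertible L) (hL' : PicF.IsInvertible L')
    (i : CohB1.tensorMod L L' ≅ Coh.structureModule X) (hτ : Pic13.IsTauEquivZero k X L)
    (D : ℕ) (x : KZero.K0sub (PC X)) (hx : x ∈ FilLT X D) (m : ℕ) :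
    eulerHom k X (((T L' hL') ^ m) x) = eulerHom k X x := by
  induction m with
  | zero => rfl
  | succ m ih =>
    rw [pow_succ']
    change eulerHom k X (T L' hL' (((T L' hL') ^ m) x)) = _
    rw [tau_inv k X L L' hL hL' i hτ D _ (T_pow_mem_FilLT L' hL' D x hx m), ih]

end Main

end Groth.Agent.Helper1.TauChi
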