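import Mathlib
import Groth.Agent.S2431
import Groth.Agent.S4495
import Groth.Agent.Lib.Helper7.GeomConn.H0One
import Groth.Agent.Lib.Helper7.Betti.Main
import Groth.Agent.Lib.Helper2.Sch.SmoothRelDim2
import Groth.Agent.Lib.Helper4.Chev3
import Groth.Agent.Lib.Helper4.PropDim1
import Groth.Agent.Lib.Helper4.SerreVan
import Groth.Agent.Lib.Helper1.Conn1
import Groth.Agent.Lib.Helper1.VB5
import Groth.Agent.Lib.Helper1.Big5
import Groth.Agent.Lib.Helper1.DegSec1
import Groth.Agent.Lib.Helper1.TauChi1
import Groth.Agent.Lib.Helper1.FPA8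
import Groth.Agent.Lib.Lead.TrivLocus
import Groth.Agent.Lib.Lead.HP9

/-!
# Betti numbers of the reduced closed fibres of a fibred surface (helper1)
-/

set_option autoImplicit false
set_option backward.isDefEq.respectTransparency.types false
set_option linter.style.haveILetI false
set_option linter.unusedSectionVars false
universe u
open CategoryTheory CategoryTheory.Limits AlgebraicGeometry TopologicalSpace Opposite

namespace Groth.Agent.Helper1.FibBetti

open Groth.Agent.Helper1 Groth.Agent.Lib.Helper4 Groth.Agent.Helper7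

section H0

variable (k : Type u) [Field k] (X : Scheme.{u}) [X.Over (Spec (CommRingCat.of k))]
  [IsProper (X ↘ (Spec (CommRingCat.of k)))]

theorem one_le_finrank_H0 [Nonempty X] :
    1 ≤ Module.finrank k (Coh.HH X (Coh.structureModule X) 0) := by
  haveI hfinHH : Module.Finite k (Coh.HH X (Coh.structureModule X) 0) :=
    Groth.Agent.S0002.result k X (Coh.structureModule X) (GeomConn.isCoh_structureModule' X) 0
  haveI : Nonempty ↥(⊤ : X.Opens) := by
    obtain ⟨x⟩ : Nonempty ↥X := inferInstance
    exact ⟨⟨x, trivial⟩⟩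
  haveI : Nontrivial Γ(X, ⊤) := inferInstance
  let E := HH0.equiv X (Coh.structureModule X)
  let ofG : Γ(X, ⊤) → ↑((Coh.structureModule X).val.obj (op ⊤)) := fun m => m
  haveI : Nontrivial (Coh.HH X (Coh.structureModule X) 0) := by
    refine ⟨⟨E.symm (ofG 1), E.symm (ofG 0), fun h => ?_⟩⟩
    have h' : ofG 1 = ofG 0 := E.symm.injective h
    exact one_ne_zero (α := Γ(X, ⊤)) h'
  exact Nat.one_le_iff_ne_zero.2 ((Module.finrank_pos_iff (R := k)).2 inferInstance).ne'

theorem finrank_H0_eq_one [IsAlgClosed k] [IsReduced X] [ConnectedSpace X] :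
    Module.finrank k (Coh.HH X (Coh.structureModule X) 0) = 1 := by
  let f := X ↘ Spec (CommRingCat.of k)
  letI a1 : Algebra k Γ(X, ⊤) := (GeomConn.toΓ k X f).toAlgebra
  let E := HH0.equiv X (Coh.structureModule X)
  let toG : ↑((Coh.structureModule X).val.obj (op ⊤)) → Γ(X, ⊤) := fun m => m
  let ofG : Γ(X, ⊤) → ↑((Coh.structureModule X).val.obj (op ⊤)) := fun m => m
  let L : Coh.HH X (Coh.structureModule X) 0 ≃ₗ[k] Γ(X, ⊤) :=
    { toFun := fun x => toG (E x)
      invFun := fun s => E.symm (ofG s)
      map_add' := fun x y => by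
        show toG (E (x + y)) = toG (E x) + toG (E y)
        rw [map_add]; rfl
      map_smul' := fun a x => by
        show toG (E (a • x)) = GeomConn.toΓ k X f a * toG (E x)
        rw [HH0.equiv_smul_over]
        rfl
      left_inv := fun x => E.left_inv x
      right_inv := fun s => E.right_inv (ofG s) }
  haveI hfinHH : Module.Finite k (Coh.HH X (Coh.structureModule X) 0) :=
    Groth.Agent.S0002.result k X (Coh.structureModule X) (GeomConn.isCoh_structureModule' X) 0
  haveI hfinΓ : Module.Finite k Γ(X, ⊤) := Module.Finite.equiv L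
  rw [L.finrank_eq]
  haveI : Nonempty ↥(⊤ : X.Opens) := by
    obtain ⟨x⟩ : Nonempty ↥X := inferInstance
    exact ⟨⟨x, trivial⟩⟩
  haveI : Nontrivial Γ(X, ⊤) := inferInstance
  exact GeomConn.finrank_eq_one_of_reduced_connected
    (fun e he => GeomConn.idempotent_trivial_of_connected X e he)

end H0

section Fib

variable {X S : Scheme.{u}} (π : X ⟶ S)

theorem betti_structure (t : S) (i : ℕ)
    [inst : (π.fiber t).Over (Spec (CommRingCat.of (S.residueField t)))]
    (hinst : inst = ⟨π.fiberToSpecResidueField t⟩) :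
    PerfAux.betti π (Coh.structureModule X) t i =
      Module.finrank (S.residueField t)
        (Coh.HH (π.fiber t) (Coh.structureModule (π.fiber t)) i) := by
  subst hinst
  letI inst' : (π.fiber t).Over (Spec (CommRingCat.of (S.residueField t))) :=
    ⟨π.fiberToSpecResidueField t⟩
  exact (HHFin1.HHequiv (S.residueField t) (PullSec.unitIso (π.fiberι t)) i).finrank_eq

theorem betti_eq_zero_of_dim [IsProper π] (t : S) (d : ℕ)
    (hdim : topologicalKrullDim ↥(π.fiber t) ≤ ((d : ℕ) : WithBot ℕ∞)) (i : ℕ) (hi : d < i) :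
    PerfAux.betti π (Coh.structureModule X) t i = 0 := by
  letI inst : (π.fiber t).Over (Spec (CommRingCat.of (S.residueField t))) :=
    ⟨π.fiberToSpecResidueField t⟩
  haveI : IsProper ((π.fiber t) ↘ Spec (CommRingCat.of (S.residueField t))) :=
    inferInstanceAs (IsProper (pullback.snd π (S.fromSpecResidueField t)))
  haveI : IsNoetherian (π.fiber t) :=
    Euler.isNoetherian_of_proper (S.residueField t) (π.fiber t)
  rw [betti_structure π t i rfl]
  have hsupp : topologicalKrullDim ↥(CohB1.support (Coh.structureModule (π.fiber t))) ≤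
      ((d : ℕ) : WithBot ℕ∞) :=
    (Groth.Agent.Lead.HP.dim_le_of_subset (Set.subset_univ _)).trans
      ((PropDim1.tdim_univ _).le.trans hdim)
  haveI := Big.subsingleton_HH_of_dim_support_lt (Coh.structureModule (π.fiber t))
    (GeomConn.isCoh_structureModule' _) d hsupp i hi
  exact Module.finrank_zero_of_subsingleton

theorem eulerChar_eq_sub (F : X.Modules) (t : S)
    (h : ∀ i, 2 ≤ i → PerfAux.betti π F t i = 0) :
    PerfAux.eulerChar π F t =
      (PerfAux.betti π F t 0 : ℤ) - (PerfAux.betti π F t 1 : ℤ) := by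
  unfold PerfAux.eulerChar
  rw [finsum_eq_sum_of_support_subset (s := Finset.range 2)]
  · rw [Finset.sum_range_succ, Finset.sum_range_one, pow_zero, pow_one, one_mul]
    ring
  · intro i hi
    rw [Function.mem_support] at hi
    by_contra hni
    apply hi
    have h2 : 2 ≤ i := by
      simp only [Finset.coe_range, Set.mem_Iio, not_lt] at hni
      exact hni
    rw [h i h2]
    simp

theorem dim_le_of_smoothRelDim (n : ℕ) (k : Type u) [Field k] {Y : Scheme.{u}}
    (h : Y ⟶ Spec (CommRingCat.of k)) [SmoothOfRelativeDimension n h] :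
    topologicalKrullDim Y ≤ ((n : ℕ) : WithBot ℕ∞) :=
  Chev3.topologicalKrullDim_le_of_forall_localDim_le _ fun a =>
    (Groth.Agent.Helper2.SmoothRelDim.localDim_eq_of_smoothOfRelativeDimension_field n k h a).le

theorem dim_fiber_le [IrreducibleSpace X] (n : ℕ)
    (hX : topologicalKrullDim X ≤ ((n + 1 : ℕ) : WithBot ℕ∞)) (t : S)
    (hcl : IsClosed ({t} : Set S)) (x₀ : X) (hx₀ : π x₀ ≠ t) :
    topologicalKrullDim ↥(π.fiber t) ≤ ((n : ℕ) : WithBot ℕ∞) := by
  have hA : IsClosed (π ⁻¹' {t}) := hcl.preimage π.continuous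
  have hne : π ⁻¹' {t} ≠ Set.univ := by
    intro h
    apply hx₀
    have : x₀ ∈ π ⁻¹' {t} := h ▸ Set.mem_univ _
    exact this
  have h1 := Curve.krullDim_add_one_le_of_ne_univ hA hne
  have h2 : topologicalKrullDim ↥(π ⁻¹' {t}) ≤ ((n : ℕ) : WithBot ℕ∞) :=
    DegSec.le_of_add_one_le_succ _ n (h1.trans hX)
  rw [(π.fiberHomeo t).isHomeomorph.topologicalKrullDim_eq]
  exact h2

end Fib

set_option maxHeartbeats 1000000 in
theorem main {k : Type u} [Field k] [IsAlgClosed k] {X S : Scheme.{u}}
    (π : X ⟶ S) (g : S ⟶ Spec (CommRingCat.of k))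
    [SmoothOfRelativeDimension 1 g] [IrreducibleSpace S]
    [SmoothOfRelativeDimension 2 (π ≫ g)] [IsProper (π ≫ g)]
    [IsProper π] [Flat π]
    (hO : ∀ U : S.Opens, Function.Bijective (π.app U))
    (s : S) (hs : IsClosed ({s} : Set S)) [AlgebraicGeometry.IsReduced (π.fiber s)] :
    PerfAux.betti π (Coh.structureModule X) s 0 = 1 ∧
      PerfAux.betti π (Coh.structureModule X) s 1 =
        PerfAux.betti π (Coh.structureModule X) (genericPoint S) 1 := by
  haveI : Smooth g := SmoothOfRelativeDimension.smooth (n := 1) (f := g)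
  haveI : Smooth (π ≫ g) := SmoothOfRelativeDimension.smooth (n := 2) (f := π ≫ g)
  haveI : LocallyOfFiniteType g := inferInstance
  haveI : IsLocallyNoetherian S := LocallyOfFiniteType.isLocallyNoetherian g
  haveI : LocallyOfFinitePresentation π := TauChi.locallyOfFinitePresentation_of_noeth π
  have hIso : ∀ U : S.Opens, IsIso (π.app U) := fun U =>
    (ConcreteCategory.isIso_iff_bijective _).2 (hO U)
  obtain ⟨hconn, -⟩ := Groth.Agent.S2431.result π hIso
  have hFP : CohB1.IsFP (Coh.structureModule X) := FPA.isFP_unit X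
  have hflat : FlatMod.IsFlatOver π (Coh.structureModule X) := GenF.isFlatOver_structureModule π
  -- (a)
  have ha : PerfAux.betti π (Coh.structureModule X) s 0 = 1 := by
    letI inst : (π.fiber s).Over (Spec (CommRingCat.of (S.residueField s))) :=
      ⟨π.fiberToSpecResidueField s⟩
    haveI : IsProper ((π.fiber s) ↘ Spec (CommRingCat.of (S.residueField s))) :=
      inferInstanceAs (IsProper (pullback.snd π (S.fromSpecResidueField s)))
    haveI : IsAlgClosed (S.residueField s) :=
      IsAlgClosed.of_ringEquiv (k := k) (S.residueField s)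
        (residueFieldIsoBase g s hs).symm.commRingCatIsoToRingEquiv
    haveI := hconn s
    rw [betti_structure π s 0 rfl]
    exact finrank_H0_eq_one (S.residueField s) (π.fiber s)
  refine ⟨ha, ?_⟩
  by_cases hsη : s = genericPoint S
  · rw [← hsη]
  -- X is integral
  haveI : IsNoetherian X := VB5.isNoetherian_of_proper k (π ≫ g)
  obtain ⟨yη⟩ := (hconn (genericPoint S)).toNonempty
  obtain ⟨x₀, hx₀def⟩ : ∃ x₀ : X, x₀ = π.fiberι (genericPoint S) yη := ⟨_, rfl⟩
  have hx₀ : π x₀ = genericPoint S := by
    rw [hx₀def]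
    exact (π.fiberHomeo (genericPoint S) yη).2
  haveI : Nonempty X := ⟨x₀⟩
  have hpre : PreconnectedSpace X := by
    refine (Groth.Agent.S4495.result X.toLocallyRingedSpace).2 ?_
    intro e he
    obtain ⟨e', he'⟩ := (hO ⊤).2 e
    have hid : IsIdempotentElem e' := by
      apply (hO ⊤).1
      show (π.app ⊤) (e' * e') = (π.app ⊤) e'
      rw [map_mul, he']
      exact he
    rcases GeomConn.idempotent_trivial_of_connected S e' hid with h | h
    · left
      rw [← he', h, map_zero]
      rfl
    · right
      rw [← he', h, map_one]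
      rfl
  haveI : ConnectedSpace X := { toPreconnectedSpace := hpre, toNonempty := inferInstance }
  haveI : IsIntegral X := Conn1.isIntegral_of_connected X
    (fun x => VB5.isDomain_stalk_of_smooth k (π ≫ g) x)
  have hdimX : topologicalKrullDim X ≤ ((1 + 1 : ℕ) : WithBot ℕ∞) :=
    dim_le_of_smoothRelDim 2 k (π ≫ g)
  have hdim_s : topologicalKrullDim ↥(π.fiber s) ≤ ((1 : ℕ) : WithBot ℕ∞) :=
    dim_fiber_le π 1 hdimX s hs x₀ (by rw [hx₀]; exact Ne.symm hsη)
  have hopen := Chev3.S0403_main π ((1 : ℕ) : WithBot ℕ∞)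
  have hdim_η : topologicalKrullDim ↥(π.fiber (genericPoint S)) ≤ ((1 : ℕ) : WithBot ℕ∞) :=
    ((genericPoint_spec S).mem_open_set_iff hopen).2 ⟨s, trivial, hdim_s⟩
  have hv_s : ∀ i, 2 ≤ i → PerfAux.betti π (Coh.structureModule X) s i = 0 :=
    fun i hi => betti_eq_zero_of_dim π s 1 hdim_s i hi
  have hv_η : ∀ i, 2 ≤ i → PerfAux.betti π (Coh.structureModule X) (genericPoint S) i = 0 :=
    fun i hi => betti_eq_zero_of_dim π (genericPoint S) 1 hdim_η i hi
  have hopen0 := Betti.isOpen_betti_lt π (Coh.structureModule X) hFP hflat 0 2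
  have hb0le : PerfAux.betti π (Coh.structureModule X) (genericPoint S) 0 < 2 :=
    ((genericPoint_spec S).mem_open_set_iff hopen0).2 ⟨s, trivial, by
      show PerfAux.betti π (Coh.structureModule X) s 0 < 2
      rw [ha]; norm_num⟩
  have hb0ge : 1 ≤ PerfAux.betti π (Coh.structureModule X) (genericPoint S) 0 := by
    letI inst : (π.fiber (genericPoint S)).Over
        (Spec (CommRingCat.of (S.residueField (genericPoint S)))) :=
      ⟨π.fiberToSpecResidueField (genericPoint S)⟩
    haveI : IsProper ((π.fiber (genericPoint S)) ↘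
        Spec (CommRingCat.of (S.residueField (genericPoint S)))) :=
      inferInstanceAs (IsProper (pullback.snd π (S.fromSpecResidueField (genericPoint S))))
    haveI : Nonempty ↥(π.fiber (genericPoint S)) := ⟨yη⟩
    rw [betti_structure π (genericPoint S) 0 rfl]
    exact one_le_finrank_H0 (S.residueField (genericPoint S)) (π.fiber (genericPoint S))
  have hχ := (Betti.isLocallyConstant_eulerChar π (Coh.structureModule X) hFP
    hflat).apply_eq_of_preconnectedSpace s (genericPoint S)
  rw [eulerChar_eq_sub π _ s hv_s, eulerChar_eq_sub π _ (genericPoint S) hv_η] at hχ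
  omega

end Groth.Agent.Helper1.FibBetti
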