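import Mathlib
import Groth.Prelude.Def_FibCat2
import Groth.Prelude.Def_W4stkcategoriessitesFib

set_option autoImplicit false
open CategoryTheory CategoryTheory.Functor CategoryTheory.Limits
universe v₄ u₄ v₃ u₃ v₂ u₂ v u

namespace Groth.Agent.Helper1.FibCatL

section Plain

variable {C : Type u} [Category.{v} C] {S : Type u₂} [Category.{v₂} S] (p : S ⥤ C)

theorem isStronglyCartesian_of_map
    {R T : C} (f : R ⟶ T) {a b : S} (φ : a ⟶ b) [p.IsHomLift f φ]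
    (h : p.IsStronglyCartesian (p.map φ) φ) : p.IsStronglyCartesian f φ := by
  subst_hom_lift p f φ
  exact h

theorem isStronglyCartesian_map_of
    {R T : C} (f : R ⟶ T) {a b : S} (φ : a ⟶ b)
    [h : p.IsStronglyCartesian f φ] : p.IsStronglyCartesian (p.map φ) φ := by
  subst_hom_lift p f φ
  exact h

theorem isStronglyCartesian_congr
    {R T : C} {f f' : R ⟶ T} (hf : f = f') {a b : S} (φ : a ⟶ b)
    (h : p.IsStronglyCartesian f φ) : p.IsStronglyCartesian f' φ := by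
  subst hf
  exact h

/-- In a category fibred in groupoids, any morphism is strongly cartesian over any morphism it lifts. -/
theorem isStronglyCartesian_of_isFibGrpd [hp : FibCat.IsFibGrpd p]
    {R T : C} (f : R ⟶ T) {a b : S} (φ : a ⟶ b) [p.IsHomLift f φ] : p.IsStronglyCartesian f φ :=
  isStronglyCartesian_of_map p f φ (hp.isStronglyCartesian φ)

theorem isHomLift_congr 
    {R T : C} {f f' : R ⟶ T} (hf : f = f') {a b : S} (φ : a ⟶ b)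
    (h : p.IsHomLift f φ) : p.IsHomLift f' φ := by
  subst hf
  exact h

/-- In a category fibred in groupoids every morphism lying over an isomorphism is an isomorphism. -/
theorem isIso_of_isFibGrpd [hp : FibCat.IsFibGrpd p]
    {R T : C} (f : R ⟶ T) [IsIso f] {a b : S} (φ : a ⟶ b) [p.IsHomLift f φ] : IsIso φ := by
  have := isStronglyCartesian_of_isFibGrpd p f φ
  exact IsStronglyCartesian.isIso_of_base_isIso p f φ

end Plain

section Based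

variable {C : Type u} [Category.{v} C] {𝒳 : BasedCategory.{v₂, u₂} C} {𝒴 : BasedCategory.{v₃, u₃} C}

theorem isEquivOver_symm {F : 𝒳 ⥤ᵇ 𝒴} {G : 𝒴 ⥤ᵇ 𝒳}
    (h₁ : Nonempty (BasedFunctor.comp F G ≅ BasedFunctor.id 𝒳))
    (h₂ : Nonempty (BasedFunctor.comp G F ≅ BasedFunctor.id 𝒴)) : FibCat.IsEquivOver G :=
  ⟨F, h₂, h₁⟩

/-- The underlying functor of an equivalence over `C` is an equivalence. -/
theorem isEquivalence_of_isEquivOver {F : 𝒳 ⥤ᵇ 𝒴} (hF : FibCat.IsEquivOver F) :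
    F.toFunctor.IsEquivalence := by
  obtain ⟨G, ⟨α⟩, ⟨β⟩⟩ := hF
  let η : 𝟭 𝒳.obj ≅ F.toFunctor ⋙ G.toFunctor := ((BasedNatTrans.forgetful _ _).mapIso α).symm
  let ε : G.toFunctor ⋙ F.toFunctor ≅ 𝟭 𝒴.obj := (BasedNatTrans.forgetful _ _).mapIso β
  exact (CategoryTheory.Equivalence.mk F.toFunctor G.toFunctor η ε).isEquivalence_functor

/-- Essential surjectivity over the base: every object is isomorphic, over an identity, to one in
the image. -/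
theorem exists_iso_over_of_isEquivOver {F : 𝒳 ⥤ᵇ 𝒴} (hF : FibCat.IsEquivOver F) (y : 𝒴.obj) :
    ∃ (x : 𝒳.obj) (θ : F.obj x ≅ y), 𝒴.p.IsHomLift (𝟙 (𝒴.p.obj y)) θ.hom := by
  obtain ⟨G, ⟨α⟩, ⟨β⟩⟩ := hF
  refine ⟨G.obj y, ((BasedNatTrans.forgetful _ _).mapIso β).app y, ?_⟩
  exact BasedNatTrans.isHomLift β.hom rfl

/-- An equivalence over the base preserves strongly cartesian morphisms. -/
theorem isStronglyCartesian_map_of_isEquivOver (F : 𝒳 ⥤ᵇ 𝒴) (hF : FibCat.IsEquivOver F)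
    {R S : C} (f : R ⟶ S) {a b : 𝒳.obj} (φ : a ⟶ b) [𝒳.p.IsStronglyCartesian f φ] :
    𝒴.p.IsStronglyCartesian f (F.map φ) := by
  have hequiv : F.toFunctor.IsEquivalence := isEquivalence_of_isEquivOver hF
  refine ⟨?_⟩
  intro a' g φ' hφ'
  obtain ⟨a'', θ, hθ⟩ := exists_iso_over_of_isEquivOver hF a'
  have hθ' : 𝒴.p.IsHomLift (g ≫ f) (θ.hom ≫ φ') :=
    isHomLift_congr 𝒴.p (Category.id_comp _) _ inferInstance
  obtain ⟨φ'', hφ''⟩ := F.toFunctor.map_surjective (θ.hom ≫ φ')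
  have hφ''lift : 𝒳.p.IsHomLift (g ≫ f) φ'' := by
    rw [← BasedFunctor.isHomLift_iff F, hφ'']
    exact hθ'
  obtain ⟨χ₀, ⟨hχ₀lift, hχ₀⟩, huniq⟩ :=
    IsStronglyCartesian.universal_property 𝒳.p f φ g (g ≫ f) rfl φ''
  refine ⟨θ.inv ≫ F.map χ₀, ⟨?_, ?_⟩, ?_⟩
  · exact isHomLift_congr 𝒴.p (Category.id_comp _) _ inferInstance
  · rw [Category.assoc, ← F.map_comp, hχ₀, hφ'', Iso.inv_hom_id_assoc]
  · rintro χ' ⟨hχ'lift, hχ'⟩
    obtain ⟨χ₁, hχ₁⟩ := F.toFunctor.map_surjective (θ.hom ≫ χ')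
    have h1 : 𝒳.p.IsHomLift g χ₁ := by
      rw [← BasedFunctor.isHomLift_iff F, hχ₁]
      exact isHomLift_congr 𝒴.p (Category.id_comp _) _ inferInstance
    have h2 : χ₁ ≫ φ = φ'' := by
      apply F.toFunctor.map_injective
      rw [F.map_comp, hχ₁, hφ'', Category.assoc, hχ']
    have h3 : χ₁ = χ₀ := huniq χ₁ ⟨h1, h2⟩
    rw [← h3, hχ₁, Iso.inv_hom_id_assoc]

theorem isFibered_of_isEquivOver (F : 𝒳 ⥤ᵇ 𝒴) (hF : FibCat.IsEquivOver F)
    [h𝒳 : 𝒳.p.IsFibered] : 𝒴.p.IsFibered := by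
  apply IsFibered.of_exists_isStronglyCartesian
  intro y R f
  obtain ⟨x, θ, hθ⟩ := exists_iso_over_of_isEquivOver hF y
  have hx : 𝒳.p.obj x = 𝒴.p.obj y := by
    rw [← F.w_obj x]
    exact IsHomLift.domain_eq 𝒴.p (𝟙 (𝒴.p.obj y)) θ.hom
  obtain ⟨x', φ, hφ⟩ := IsPreFibered.exists_isCartesian 𝒳.p hx f
  have h1 : 𝒳.p.IsStronglyCartesian f φ := inferInstance
  have h2 : 𝒴.p.IsStronglyCartesian f (F.map φ) := isStronglyCartesian_map_of_isEquivOver F hF f φ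
  have h3 : 𝒴.p.IsStronglyCartesian (𝟙 (𝒴.p.obj y)) θ.hom := IsStronglyCartesian.of_iso 𝒴.p _ θ
  have h4 : 𝒴.p.IsStronglyCartesian (f ≫ 𝟙 (𝒴.p.obj y)) (F.map φ ≫ θ.hom) := inferInstance
  exact ⟨F.obj x', F.map φ ≫ θ.hom, isStronglyCartesian_congr 𝒴.p (Category.comp_id _) _ h4⟩

theorem fiberFunctor_faithful_of_faithful (G : 𝒳 ⥤ᵇ 𝒴) [hG : G.toFunctor.Faithful] (U : C) :
    (FibCat.fiberFunctor G U).Faithful := by
  refine ⟨fun {x y} φ ψ h => ?_⟩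
  apply Fiber.hom_ext
  apply G.toFunctor.map_injective
  have := congrArg Subtype.val h
  exact this

theorem faithful_of_fiberFunctor_faithful (G : 𝒳 ⥤ᵇ 𝒴) (h𝒳 : FibCat.IsFibGrpd 𝒳.p)
    (h𝒴 : FibCat.IsFibGrpd 𝒴.p) (h : ∀ U : C, (FibCat.fiberFunctor G U).Faithful) :
    G.toFunctor.Faithful := by
  refine ⟨fun {a b} φ ψ hφψ => ?_⟩
  -- φ lifts 𝒳.p.map ψ
  have hφ : 𝒳.p.IsHomLift (𝒳.p.map ψ) φ := by
    rw [← BasedFunctor.isHomLift_iff G]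
    have : G.map φ = G.map ψ := hφψ
    rw [this]
    infer_instance
  have hsc : 𝒳.p.IsStronglyCartesian (𝒳.p.map ψ) ψ := h𝒳.isStronglyCartesian ψ
  obtain ⟨χ, ⟨hχlift, hχ⟩, -⟩ :=
    IsStronglyCartesian.universal_property 𝒳.p (𝒳.p.map ψ) ψ (𝟙 (𝒳.p.obj a)) (𝒳.p.map ψ)
      (Category.id_comp _).symm φ
  -- G χ = 𝟙
  have hGsc : 𝒴.p.IsStronglyCartesian (𝒳.p.map ψ) (G.map ψ) :=
    isStronglyCartesian_of_isFibGrpd 𝒴.p _ _
  have hGχ : G.map χ = 𝟙 (G.obj a) := by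
    apply IsStronglyCartesian.ext 𝒴.p (𝒳.p.map ψ) (G.map ψ) (𝟙 (𝒳.p.obj a))
    rw [Category.id_comp, ← G.map_comp, hχ]
    exact hφψ
  -- χ, 𝟙 in the fibre
  let a' : 𝒳.p.Fiber (𝒳.p.obj a) := Fiber.mk rfl
  let χ' : a' ⟶ a' := Fiber.homMk 𝒳.p _ χ
  have hχ' : χ' = 𝟙 a' := by
    apply (h (𝒳.p.obj a)).map_injective
    apply Fiber.hom_ext
    change G.map χ = G.map (𝟙 a)
    rw [hGχ, G.map_id]
  have hχ1 : χ = 𝟙 a := congrArg Subtype.val hχ'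
  rw [← hχ, hχ1, Category.id_comp]

theorem fiberFunctor_full_of_full (G : 𝒳 ⥤ᵇ 𝒴) [hG : G.toFunctor.Full] (U : C) :
    (FibCat.fiberFunctor G U).Full := by
  refine ⟨fun {x y} ψ => ?_⟩
  obtain ⟨φ, hφ⟩ := G.toFunctor.map_surjective ψ.1
  have hψ : 𝒴.p.IsHomLift (𝟙 U) ψ.1 := ψ.2
  have hlift : 𝒳.p.IsHomLift (𝟙 U) φ := by
    rw [← BasedFunctor.isHomLift_iff G]
    have : G.map φ = ψ.1 := hφ
    rw [this]
    exact hψ
  refine ⟨⟨φ, hlift⟩, ?_⟩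
  apply Fiber.hom_ext
  exact hφ

theorem full_of_fiberFunctor_full (G : 𝒳 ⥤ᵇ 𝒴) (h𝒳 : FibCat.IsFibGrpd 𝒳.p)
    (h𝒴 : FibCat.IsFibGrpd 𝒴.p) (h : ∀ U : C, (FibCat.fiberFunctor G U).Full) :
    G.toFunctor.Full := by
  refine ⟨fun {a b} ψ => ?_⟩
  -- ψ : G a ⟶ G b
  let f : 𝒳.p.obj a ⟶ 𝒳.p.obj b := eqToHom (G.w_obj a).symm ≫ 𝒴.p.map ψ ≫ eqToHom (G.w_obj b)
  have hψ : 𝒴.p.IsHomLift f ψ := by
    change 𝒴.p.IsHomLift (eqToHom (G.w_obj a).symm ≫ 𝒴.p.map ψ ≫ eqToHom (G.w_obj b)) ψ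
    infer_instance
  obtain ⟨a', φ₀, hφ₀⟩ := h𝒳.exists_lift f
  have hGsc : 𝒴.p.IsStronglyCartesian f (G.map φ₀) :=
    isStronglyCartesian_of_isFibGrpd 𝒴.p _ _
  obtain ⟨χ, ⟨hχlift, hχ⟩, -⟩ :=
    IsStronglyCartesian.universal_property 𝒴.p f (G.map φ₀) (𝟙 (𝒳.p.obj a)) f
      (Category.id_comp _).symm ψ
  have ha' : 𝒳.p.obj a' = 𝒳.p.obj a := IsHomLift.domain_eq 𝒳.p f φ₀
  let x : 𝒳.p.Fiber (𝒳.p.obj a) := Fiber.mk rfl
  let x' : 𝒳.p.Fiber (𝒳.p.obj a) := Fiber.mk ha'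
  let χ' : (FibCat.fiberFunctor G (𝒳.p.obj a)).obj x ⟶ (FibCat.fiberFunctor G (𝒳.p.obj a)).obj x' :=
    ⟨χ, hχlift⟩
  obtain ⟨χ₀, hχ₀⟩ := (h (𝒳.p.obj a)).map_surjective χ'
  have hχ₀' : G.map χ₀.1 = χ := congrArg Subtype.val hχ₀
  refine ⟨χ₀.1 ≫ φ₀, ?_⟩
  change G.map (χ₀.1 ≫ φ₀) = ψ
  rw [G.map_comp, hχ₀']
  exact hχ

theorem essSurj_of_fiberFunctor_essSurj (G : 𝒳 ⥤ᵇ 𝒴)
    (h : ∀ U : C, (FibCat.fiberFunctor G U).EssSurj) : G.toFunctor.EssSurj := by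
  refine ⟨fun y => ?_⟩
  let y' : 𝒴.p.Fiber (𝒴.p.obj y) := Fiber.mk rfl
  obtain ⟨x, ⟨e⟩⟩ := (h (𝒴.p.obj y)).mem_essImage y'
  exact ⟨x.1, ⟨(Fiber.fiberInclusion (p := 𝒴.p) (S := 𝒴.p.obj y)).mapIso e⟩⟩

theorem fiberFunctor_essSurj_of_essSurj (G : 𝒳 ⥤ᵇ 𝒴) (h𝒳 : FibCat.IsFibGrpd 𝒳.p)
    [hG : G.toFunctor.EssSurj] (U : C) :
    (FibCat.fiberFunctor G U).EssSurj := by
  refine ⟨fun y => ?_⟩
  obtain ⟨x, ⟨θ⟩⟩ := hG.mem_essImage y.1
  -- θ : G x ≅ y.1, lying over some iso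
  have hy : 𝒴.p.obj y.1 = U := y.2
  let f : 𝒳.p.obj x ⟶ U := eqToHom (G.w_obj x).symm ≫ 𝒴.p.map θ.hom ≫ eqToHom hy
  have hθ : 𝒴.p.IsHomLift f θ.hom := by
    change 𝒴.p.IsHomLift (eqToHom (G.w_obj x).symm ≫ 𝒴.p.map θ.hom ≫ eqToHom hy) θ.hom
    infer_instance
  have hf : IsIso f := by
    change IsIso (eqToHom (G.w_obj x).symm ≫ 𝒴.p.map θ.hom ≫ eqToHom hy)
    infer_instance
  obtain ⟨x', φ, hφ⟩ := h𝒳.exists_lift (CategoryTheory.inv f)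
  have hφiso : IsIso φ := isIso_of_isFibGrpd 𝒳.p (CategoryTheory.inv f) φ
  have hx' : 𝒳.p.obj x' = U := IsHomLift.domain_eq 𝒳.p (CategoryTheory.inv f) φ
  have hlift : 𝒴.p.IsHomLift (𝟙 U) (G.map φ ≫ θ.hom) :=
    isHomLift_congr 𝒴.p (IsIso.inv_hom_id f) _ inferInstance
  refine ⟨Fiber.mk hx', ⟨?_⟩⟩
  have hiso : IsIso (G.map φ ≫ θ.hom) := inferInstance
  let m : (FibCat.fiberFunctor G U).obj (Fiber.mk hx') ⟶ y := ⟨G.map φ ≫ θ.hom, hlift⟩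
  let k : y.1 ⟶ G.obj x' := CategoryTheory.inv (G.map φ ≫ θ.hom)
  have hinv : 𝒴.p.IsHomLift (𝟙 U) k := by
    change 𝒴.p.IsHomLift (𝟙 U) (CategoryTheory.inv (G.map φ ≫ θ.hom))
    infer_instance
  let m' : y ⟶ (FibCat.fiberFunctor G U).obj (Fiber.mk hx') := ⟨k, hinv⟩
  refine ⟨m, m', ?_, ?_⟩
  · apply Fiber.hom_ext
    exact IsIso.hom_inv_id (G.map φ ≫ θ.hom)
  · apply Fiber.hom_ext
    exact IsIso.inv_hom_id (G.map φ ≫ θ.hom)

theorem isEquivOver_diag_of_fullyFaithful (G : 𝒳 ⥤ᵇ 𝒴) [G.toFunctor.Full] [G.toFunctor.Faithful] :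
    FibCat.IsEquivOver (FibCat.diag G) := by
  refine ⟨FibCat.fpFst G G, ⟨?_⟩, ⟨?_⟩⟩
  · refine BasedNatIso.mkNatIso (NatIso.ofComponents (fun x => Iso.refl x) ?_) ?_
    · intro x y f
      exact (Category.comp_id f).trans (Category.id_comp f).symm
    · intro a
      change 𝒳.p.IsHomLift (𝟙 (𝒳.p.obj a)) (𝟙 a)
      infer_instance
  · refine BasedNatIso.mkNatIso (NatIso.ofComponents (fun z => ObjectProperty.isoMk _
      (CategoricalPullback.mkIso (Iso.refl _) (G.toFunctor.preimageIso z.obj.iso) ?_)) ?_) ?_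
    · change G.map (𝟙 z.obj.fst) ≫ z.obj.iso.hom =
        𝟙 (G.obj z.obj.fst) ≫ G.map (G.preimage z.obj.iso.hom)
      rw [G.map_id, Category.id_comp, Category.id_comp, Functor.map_preimage]
    · intro z z' f
      apply ObjectProperty.hom_ext
      apply CategoricalPullback.hom_ext
      · exact (Category.comp_id _).trans (Category.id_comp _).symm
      · change f.hom.fst ≫ G.preimage z'.obj.iso.hom = G.preimage z.obj.iso.hom ≫ f.hom.snd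
        apply G.toFunctor.map_injective
        simp only [Functor.map_comp, Functor.map_preimage]
        exact f.hom.w
    · intro z
      rw [← BasedFunctor.isHomLift_iff (FibCat.fpFst G G)]
      change 𝒳.p.IsHomLift (𝟙 (𝒳.p.obj z.obj.fst)) (𝟙 z.obj.fst)
      infer_instance

theorem fiberFunctor_full_of_isEquivOver_diag (G : 𝒳 ⥤ᵇ 𝒴) (h𝒴 : FibCat.IsFibGrpd 𝒴.p)
    (hD : FibCat.IsEquivOver (FibCat.diag G)) (U : C) : (FibCat.fiberFunctor G U).Full := by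
  refine ⟨fun {a b} ψ => ?_⟩
  obtain ⟨a1, ha⟩ := a
  obtain ⟨b1, hb⟩ := b
  subst ha
  let ψ1 : G.obj a1 ⟶ G.obj b1 := ψ.1
  have hψ : 𝒴.p.IsHomLift (𝟙 (𝒳.p.obj a1)) ψ1 := ψ.2
  have hiso : IsIso ψ1 := isIso_of_isFibGrpd 𝒴.p (𝟙 (𝒳.p.obj a1)) ψ1
  let z : (FibCat.fp G G).obj := ⟨⟨a1, b1, asIso ψ1⟩, hψ⟩
  obtain ⟨x, θ, hθ⟩ := exists_iso_over_of_isEquivOver hD z
  have hθ' : (FibCat.fp G G).p.IsHomLift (𝟙 (𝒳.p.obj a1)) θ.hom := hθ
  let u : x ⟶ a1 := θ.hom.hom.fst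
  let v : x ⟶ b1 := θ.hom.hom.snd
  have hw : G.map u ≫ ψ1 = 𝟙 (G.obj x) ≫ G.map v := θ.hom.hom.w
  have hu : 𝒳.p.IsHomLift (𝟙 (𝒳.p.obj a1)) u :=
    BasedFunctor.preserves_isHomLift (FibCat.fpFst G G) (𝟙 (𝒳.p.obj a1)) θ.hom
  have hv : 𝒳.p.IsHomLift (𝟙 (𝒳.p.obj a1)) v :=
    BasedFunctor.preserves_isHomLift (FibCat.fpSnd G G) (𝟙 (𝒳.p.obj a1)) θ.hom
  have huiso : IsIso u := by
    change IsIso θ.hom.hom.fst
    infer_instance
  have hlift : 𝒳.p.IsHomLift (𝟙 (𝒳.p.obj a1)) (CategoryTheory.inv u ≫ v) := inferInstance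
  refine ⟨⟨CategoryTheory.inv u ≫ v, hlift⟩, ?_⟩
  apply Fiber.hom_ext
  change G.map (CategoryTheory.inv u ≫ v) = ψ1
  rw [G.map_comp, Functor.map_inv, IsIso.inv_comp_eq, hw, Category.id_comp]

theorem fiberFunctor_faithful_of_isEquivOver_diag (G : 𝒳 ⥤ᵇ 𝒴) (h𝒴 : FibCat.IsFibGrpd 𝒴.p)
    (hD : FibCat.IsEquivOver (FibCat.diag G)) (U : C) : (FibCat.fiberFunctor G U).Faithful := by
  refine ⟨fun {a b} φ₁ φ₂ h => ?_⟩
  obtain ⟨a1, ha⟩ := a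
  obtain ⟨b1, hb⟩ := b
  subst ha
  let f₁ : a1 ⟶ b1 := φ₁.1
  let f₂ : a1 ⟶ b1 := φ₂.1
  have hf₁ : 𝒳.p.IsHomLift (𝟙 (𝒳.p.obj a1)) f₁ := φ₁.2
  have h12 : G.map f₁ = G.map f₂ := congrArg Subtype.val h
  let ψ1 : G.obj a1 ⟶ G.obj b1 := G.map f₁
  have hψ : 𝒴.p.IsHomLift (𝟙 (𝒳.p.obj a1)) ψ1 := inferInstance
  have hiso : IsIso ψ1 := isIso_of_isFibGrpd 𝒴.p (𝟙 (𝒳.p.obj a1)) ψ1
  let z : (FibCat.fp G G).obj := ⟨⟨a1, b1, asIso ψ1⟩, hψ⟩
  have hequiv : (FibCat.diag G).toFunctor.IsEquivalence := isEquivalence_of_isEquivOver hD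
  obtain ⟨x, θ, hθ⟩ := exists_iso_over_of_isEquivOver hD z
  let m₁ : (FibCat.diag G).obj a1 ⟶ z :=
    ObjectProperty.homMk ⟨𝟙 a1, f₁, by
      change G.map (𝟙 a1) ≫ ψ1 = 𝟙 (G.obj a1) ≫ G.map f₁
      rw [G.map_id]⟩
  let m₂ : (FibCat.diag G).obj a1 ⟶ z :=
    ObjectProperty.homMk ⟨𝟙 a1, f₂, by
      change G.map (𝟙 a1) ≫ ψ1 = 𝟙 (G.obj a1) ≫ G.map f₂
      rw [G.map_id, ← h12]⟩
  let v' : b1 ⟶ x := θ.inv.hom.snd
  let u' : a1 ⟶ x := θ.inv.hom.fst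
  have hv' : IsIso v' := by
    change IsIso θ.inv.hom.snd
    infer_instance
  have key : ∀ (m : (FibCat.diag G).obj a1 ⟶ z),
      (m ≫ θ.inv).hom.snd = (m ≫ θ.inv).hom.fst := by
    intro m
    obtain ⟨n, hn⟩ := (FibCat.diag G).toFunctor.map_surjective (m ≫ θ.inv)
    have e1 : n = (m ≫ θ.inv).hom.fst := congrArg (fun t => t.hom.fst) hn
    have e2 : n = (m ≫ θ.inv).hom.snd := congrArg (fun t => t.hom.snd) hn
    exact e2.symm.trans e1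
  have k1 : f₁ ≫ v' = 𝟙 a1 ≫ u' := key m₁
  have k2 : f₂ ≫ v' = 𝟙 a1 ≫ u' := key m₂
  have : f₁ = f₂ := by
    rw [← cancel_mono v', k1, k2]
  apply Fiber.hom_ext
  exact this

end Based

section Comp
variable {C : Type u} [Category.{v} C] {B : Type u₂} [Category.{v₂} B] {A : Type u₃} [Category.{v₃} A]
  (p : A ⥤ B) (q : B ⥤ C)

theorem isHomLift_comp_of {R T : C} (f : R ⟶ T) {b b' : B} (φ' : b ⟶ b') {a a' : A} (φ : a ⟶ a')
    [hp : p.IsHomLift φ' φ] [hq : q.IsHomLift f φ'] : (p ⋙ q).IsHomLift f φ := by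
  subst_hom_lift p φ' φ
  subst_hom_lift q f (p.map φ)
  exact IsHomLift.map (p ⋙ q) φ

theorem isHomLift_map_of_comp {R T : C} (f : R ⟶ T) {a a' : A} (φ : a ⟶ a')
    [h : (p ⋙ q).IsHomLift f φ] : q.IsHomLift f (p.map φ) := by
  subst_hom_lift (p ⋙ q) f φ
  exact IsHomLift.map q (p.map φ)

theorem isFibGrpd_comp (hp : FibCat.IsFibGrpd p) (hq : FibCat.IsFibGrpd q) :
    FibCat.IsFibGrpd (p ⋙ q) := by
  refine ⟨?_, ?_⟩
  · intro x V f
    obtain ⟨y', φ', hφ'⟩ := hq.exists_lift (x := p.obj x) f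
    obtain ⟨y, φ, hφ⟩ := hp.exists_lift φ'
    exact ⟨y, φ, isHomLift_comp_of p q f φ' φ⟩
  · intro y x φ
    refine ⟨?_⟩
    intro a' g φ' hφ'
    have hφ'' : (p ⋙ q).IsHomLift (g ≫ q.map (p.map φ)) φ' := hφ'
    have h1 : q.IsHomLift (g ≫ q.map (p.map φ)) (p.map φ') := isHomLift_map_of_comp p q _ φ'
    have hsc := hq.isStronglyCartesian (p.map φ)
    obtain ⟨h, ⟨hhlift, hh⟩, hhuniq⟩ :=
      IsStronglyCartesian.universal_property q (q.map (p.map φ)) (p.map φ) g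
        (g ≫ q.map (p.map φ)) rfl (p.map φ')
    have hsc' := hp.isStronglyCartesian φ
    have h2 : p.IsHomLift (h ≫ p.map φ) φ' := by
      rw [hh]
      infer_instance
    obtain ⟨χ, ⟨hχlift, hχ⟩, hχuniq⟩ :=
      IsStronglyCartesian.universal_property p (p.map φ) φ h (h ≫ p.map φ) rfl φ'
    refine ⟨χ, ⟨isHomLift_comp_of p q g h χ, hχ⟩, ?_⟩
    rintro χ' ⟨hχ'lift, hχ'⟩
    have h3 : q.IsHomLift g (p.map χ') := isHomLift_map_of_comp p q g χ'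
    have h4 : p.map χ' = h := hhuniq _ ⟨h3, by rw [← p.map_comp, hχ']⟩
    have h5 : p.IsHomLift h χ' := by
      rw [← h4]
      infer_instance
    exact hχuniq χ' ⟨h5, hχ'⟩

end Comp

section Pull
variable {S : Type u} [Category.{v} S] {X : Type u₂} [Category.{v₂} X] {Y : Type u₃} [Category.{v₃} Y]
  (πX : X ⥤ S) (F : Y ⥤ X)

theorem isFibGrpd_π₂ (hX : FibCat.IsFibGrpd πX) (hY : FibCat.IsFibGrpd (F ⋙ πX)) :
    FibCat.IsFibGrpd (CategoricalPullback.π₂ F (𝟭 X)) := by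
  refine ⟨?_, ?_⟩
  · intro z' V f
    let f' : V ⟶ z'.snd := f
    let g : πX.obj V ⟶ (F ⋙ πX).obj z'.fst := πX.map (f' ≫ z'.iso.inv)
    obtain ⟨y, a, ha⟩ := hY.exists_lift (x := z'.fst) g
    have ha' : πX.IsHomLift g (F.map a) := isHomLift_map_of_comp F πX g a
    have hsc : πX.IsStronglyCartesian g (F.map a) := isStronglyCartesian_of_isFibGrpd πX g (F.map a)
    obtain ⟨χ, ⟨hχlift, hχ⟩, -⟩ :=
      IsStronglyCartesian.universal_property πX g (F.map a) (𝟙 (πX.obj V)) g (Category.id_comp g).symm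
        (f' ≫ z'.iso.inv)
    have hχiso : IsIso χ := isIso_of_isFibGrpd πX (𝟙 (πX.obj V)) χ
    let z : CategoricalPullback F (𝟭 X) := ⟨y, V, (asIso χ).symm⟩
    have w : F.map a ≫ z'.iso.hom = z.iso.hom ≫ (𝟭 X).map f' := by
      change F.map a ≫ z'.iso.hom = CategoryTheory.inv χ ≫ f'
      rw [IsIso.eq_inv_comp, ← Category.assoc, hχ, Category.assoc, Iso.inv_hom_id, Category.comp_id]
    let m : z ⟶ z' := ⟨a, f', w⟩
    exact ⟨z, m, IsHomLift.map (CategoricalPullback.π₂ F (𝟭 X)) m⟩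
  · intro z z' m
    refine ⟨?_⟩
    intro z'' g m'' hm''
    let g' : z''.snd ⟶ z.snd := g
    have hsnd : g' ≫ m.snd = m''.snd :=
      IsHomLift.eq_of_isHomLift (CategoricalPullback.π₂ F (𝟭 X)) (g ≫ (CategoricalPullback.π₂ F (𝟭 X)).map m) m''
    let h : F.obj z''.fst ⟶ F.obj z.fst := z''.iso.hom ≫ g' ≫ z.iso.inv
    have hcomp : h ≫ F.map m.fst = F.map m''.fst := by
      have e1 : m.snd ≫ z'.iso.inv = z.iso.inv ≫ F.map m.fst := m.w'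
      have e2 : F.map m''.fst ≫ z'.iso.hom = z''.iso.hom ≫ m''.snd := m''.w
      have e1' : z.iso.inv ≫ F.map m.fst ≫ z'.iso.hom = m.snd := by
        rw [← Category.assoc, ← e1, Category.assoc, Iso.inv_hom_id, Category.comp_id]
      rw [← cancel_mono z'.iso.hom, e2, ← hsnd]
      simp only [h, Category.assoc]
      rw [e1']
    have hsc := hY.isStronglyCartesian m.fst
    have hlift'' : (F ⋙ πX).IsHomLift (πX.map h ≫ (F ⋙ πX).map m.fst) m''.fst := by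
      have : πX.map h ≫ (F ⋙ πX).map m.fst = (F ⋙ πX).map m''.fst := by
        change πX.map h ≫ πX.map (F.map m.fst) = πX.map (F.map m''.fst)
        rw [← πX.map_comp, hcomp]
      rw [this]
      infer_instance
    obtain ⟨c, ⟨hclift, hc⟩, hcuniq⟩ :=
      IsStronglyCartesian.universal_property (F ⋙ πX) ((F ⋙ πX).map m.fst) m.fst (πX.map h)
        (πX.map h ≫ (F ⋙ πX).map m.fst) rfl m''.fst
    have hFc : F.map c = h := by
      have hsc' : πX.IsStronglyCartesian (πX.map (F.map m.fst)) (F.map m.fst) :=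
        hX.isStronglyCartesian (F.map m.fst)
      have l1 : πX.IsHomLift (πX.map h) (F.map c) := isHomLift_map_of_comp F πX _ c
      apply IsStronglyCartesian.ext πX (πX.map (F.map m.fst)) (F.map m.fst) (πX.map h)
      rw [hcomp, ← F.map_comp, hc]
    have w : F.map c ≫ z.iso.hom = z''.iso.hom ≫ (𝟭 X).map g' := by
      rw [hFc]
      simp [h]
    let c' : z'' ⟶ z := ⟨c, g', w⟩
    refine ⟨c', ⟨IsHomLift.map (CategoricalPullback.π₂ F (𝟭 X)) c', ?_⟩, ?_⟩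
    · apply CategoricalPullback.hom_ext
      · exact hc
      · exact hsnd
    · rintro c'' ⟨hc''lift, hc''⟩
      have hs : g' = c''.snd := IsHomLift.eq_of_isHomLift (CategoricalPullback.π₂ F (𝟭 X)) g c''
      have hf : c''.fst ≫ m.fst = m''.fst := congrArg (fun t => t.fst) hc''
      have hF'' : F.map c''.fst = h := by
        have e : F.map c''.fst ≫ z.iso.hom = z''.iso.hom ≫ c''.snd := c''.w
        simp only [h]
        rw [hs, ← Category.assoc, ← e, Category.assoc, Iso.hom_inv_id, Category.comp_id]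
      have l2 : (F ⋙ πX).IsHomLift (πX.map h) c''.fst := by
        rw [← hF'']
        exact IsHomLift.map (F ⋙ πX) c''.fst
      have hfst : c''.fst = c := hcuniq _ ⟨l2, hf⟩
      apply CategoricalPullback.hom_ext
      · exact hfst
      · exact hs.symm

end Pull

end Groth.Agent.Helper1.FibCatL
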