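import Mathlib

/-! Finite free resolutions over a Noetherian ring (helper1; S6318). -/

set_option autoImplicit false
universe u

open CategoryTheory CategoryTheory.Limits

namespace Groth.Agent.Helper1.FinFreeRes

variable {R : Type u} [CommRing R]

/-- A projective cover-like object: finite free if the module is finite. -/
noncomputable def cover (K : ModuleCat.{u} R) : Σ' (P : ModuleCat.{u} R), (P ⟶ K) := by
  classical
  exact if h : Module.Finite R K then
    ⟨ModuleCat.of R (Fin (Classical.choose (Module.Finite.exists_fin' R K)) → R),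
      ModuleCat.ofHom (Classical.choose (Classical.choose_spec (Module.Finite.exists_fin' R K)))⟩
  else ⟨Projective.over K, Projective.π K⟩

lemma cover_epi (K : ModuleCat.{u} R) : Epi (cover K).2 := by
  classical
  unfold cover
  by_cases h : Module.Finite R K
  · rw [dif_pos h]
    rw [ModuleCat.epi_iff_surjective]
    exact Classical.choose_spec (Classical.choose_spec (Module.Finite.exists_fin' R K))
  · rw [dif_neg h]
    dsimp only
    infer_instance

lemma cover_projective (K : ModuleCat.{u} R) : Projective (cover K).1 := by
  classical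
  unfold cover
  by_cases h : Module.Finite R K
  · rw [dif_pos h]
    dsimp only
    exact ModuleCat.projective_of_free (Pi.basisFun R _)
  · rw [dif_neg h]
    dsimp only
    infer_instance

lemma cover_finite_free (K : ModuleCat.{u} R) (h : Module.Finite R K) :
    Module.Finite R (cover K).1 ∧ Module.Free R (cover K).1 := by
  classical
  unfold cover
  rw [dif_pos h]
  dsimp only
  exact ⟨inferInstance, inferInstance⟩

/-- The inductive step. -/
noncomputable def succ' {X₀ X₁ : ModuleCat.{u} R} (f : X₁ ⟶ X₀) :
    Σ' (X₂ : ModuleCat.{u} R) (d : X₂ ⟶ X₁), d ≫ f = 0 :=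
  ⟨(cover (kernel f)).1, (cover (kernel f)).2 ≫ kernel.ι f, by simp⟩

set_option backward.isDefEq.respectTransparency false in
theorem exact_succ {X Y : ModuleCat.{u} R} (f : X ⟶ Y) :
    (ShortComplex.mk (succ' f).2.1 f (succ' f).2.2).Exact := by
  haveI := cover_epi (kernel f)
  let α : ShortComplex.mk (succ' f).2.1 f (succ' f).2.2 ⟶
      ShortComplex.mk (kernel.ι f) f (by simp) :=
    { τ₁ := (cover (kernel f)).2
      τ₂ := 𝟙 _
      τ₃ := 𝟙 _
      comm₁₂ := by simp [succ'] }
  rw [ShortComplex.exact_iff_of_epi_of_isIso_of_mono α]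
  apply ShortComplex.exact_of_f_is_kernel
  apply kernelIsKernel

variable (Z : ModuleCat.{u} R)

set_option backward.isDefEq.respectTransparency.types false in
/-- The complex. -/
noncomputable def cx : ChainComplex (ModuleCat.{u} R) ℕ :=
  ChainComplex.mk' (cover Z).1 (succ' (cover Z).2).1 (succ' (cover Z).2).2.1
    (fun f => succ' f)

lemma cx_d_1_0 : (cx Z).d 1 0 = (succ' (cover Z).2).2.1 := by
  simp [cx]

set_option backward.isDefEq.respectTransparency.types false in
lemma cx_exactAt_succ (n : ℕ) : (cx Z).ExactAt (n + 1) := by
  rw [HomologicalComplex.exactAt_iff' _ (n + 1 + 1) (n + 1) n (by simp) (by simp)]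
  simp only [HomologicalComplex.sc', HomologicalComplex.shortComplexFunctor', cx,
    ChainComplex.mk', ChainComplex.mk, ChainComplex.of_d]
  match n with
  | 0 => apply exact_succ
  | n + 1 => apply exact_succ

set_option backward.isDefEq.respectTransparency.types false in
lemma cx_projective (n : ℕ) : Projective ((cx Z).X n) := by
  obtain (_ | _ | _ | n) := n <;> apply cover_projective

end Groth.Agent.Helper1.FinFreeRes

namespace Groth.Agent.Helper1.FinFreeRes

variable {R : Type u} [CommRing R] (Z : ModuleCat.{u} R)

set_option backward.defeqAttrib.useBackward true in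
set_option backward.isDefEq.respectTransparency false in
/-- The resolution. -/
noncomputable def res : ProjectiveResolution Z where
  complex := cx Z
  projective := cx_projective Z
  π := (ChainComplex.toSingle₀Equiv _ _).symm ⟨(cover Z).2, by
          rw [cx_d_1_0]; exact (succ' (cover Z).2).2.2⟩
  quasiIso := ⟨fun n => by
    haveI := cover_epi Z
    cases n
    · rw [ChainComplex.quasiIsoAt₀_iff, ShortComplex.quasiIso_iff_of_zeros']
      · dsimp
        refine (ShortComplex.exact_and_epi_g_iff_of_iso ?_).2
          ⟨exact_succ (cover Z).2, by dsimp; infer_instance⟩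
        exact ShortComplex.isoMk (Iso.refl _) (Iso.refl _) (Iso.refl _)
          (by simp [cx]) (by simp)
      all_goals rfl
    · rw [quasiIsoAt_iff_exactAt']
      · apply cx_exactAt_succ
      · apply ChainComplex.exactAt_succ_single_obj⟩

lemma kernel_finite [IsNoetherianRing R] {X Y : ModuleCat.{u} R} (f : X ⟶ Y)
    (hX : Module.Finite R X) : Module.Finite R (kernel f : ModuleCat.{u} R) := by
  haveI : IsNoetherian R X := isNoetherian_of_isNoetherianRing_of_finite R X
  haveI : Module.Finite R (LinearMap.ker f.hom) := Module.IsNoetherian.finite R _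
  exact Module.Finite.equiv (ModuleCat.kernelIsoKer f).symm.toLinearEquiv

theorem cx_finite_free [IsNoetherianRing R] (hZ : Module.Finite R Z) (n : ℕ) :
    Module.Finite R ((cx Z).X n) ∧ Module.Free R ((cx Z).X n) := by
  have h0 : Module.Finite R ((cx Z).X 0) ∧ Module.Free R ((cx Z).X 0) :=
    cover_finite_free Z hZ
  have h1 : Module.Finite R ((cx Z).X 1) ∧ Module.Free R ((cx Z).X 1) :=
    cover_finite_free _ (kernel_finite _ h0.1)
  have hstep : ∀ n, Module.Finite R ((cx Z).X (n + 1)) →
      Module.Finite R ((cx Z).X (n + 2)) ∧ Module.Free R ((cx Z).X (n + 2)) := by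
    intro n hn
    let e : (cx Z).X (n + 2) ≅ (succ' ((cx Z).d (n + 1) n)).1 :=
      ChainComplex.mk'XIso (cover Z).1 (succ' (cover Z).2).1 (succ' (cover Z).2).2.1
        (fun f => succ' f) n
    have hcf := cover_finite_free _ (kernel_finite ((cx Z).d (n + 1) n) hn)
    haveI : Module.Finite R (succ' ((cx Z).d (n + 1) n)).1 := hcf.1
    haveI : Module.Free R (succ' ((cx Z).d (n + 1) n)).1 := hcf.2
    exact ⟨Module.Finite.equiv e.symm.toLinearEquiv, Module.Free.of_equiv e.symm.toLinearEquiv⟩
  induction n using Nat.twoStepInduction with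
  | zero => exact h0
  | one => exact h1
  | more n _ ih => exact hstep n ih.1

theorem main (R : Type u) [CommRing R] [IsNoetherianRing R] (M : Type u) [AddCommGroup M]
    [Module R M] [Module.Finite R M] :
    ∃ F : ProjectiveResolution (ModuleCat.of R M),
      ∀ n : ℕ, Module.Finite R (F.complex.X n) ∧ Module.Free R (F.complex.X n) :=
  ⟨res (ModuleCat.of R M), fun n => cx_finite_free (ModuleCat.of R M) ‹_› n⟩

end Groth.Agent.Helper1.FinFreeRes
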