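import Mathlib

/-!
# Fields of characteristic p: p-th powers, Artin–Schreier

Helper library of helper1.
-/

set_option autoImplicit false

namespace Groth.Agent.Helper1.FieldsP

open Polynomial IntermediateField Module

universe u

theorem S6335 {K L : Type u} [Field K] [Field L] [Algebra K L]
    (p : ℕ) [Fact p.Prime] [CharP K p] [Algebra.IsSeparable K L] (a : L) (P : Polynomial K)
    (hroot : Polynomial.aeval a P = 0) (hsep : P.Separable)
    (hcoeff : ∀ i : ℕ, ∃ b : K, b ^ p = P.coeff i) :
    ∃ c : L, c ^ p = a := by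
  haveI : CharP L p := charP_of_injective_algebraMap (algebraMap K L).injective p
  haveI : ExpChar L p := ExpChar.prime Fact.out
  haveI : ExpChar K p := ExpChar.prime Fact.out
  haveI : CharP (AlgebraicClosure L) p :=
    charP_of_injective_algebraMap (algebraMap L (AlgebraicClosure L)).injective p
  haveI : ExpChar (AlgebraicClosure L) p := ExpChar.prime Fact.out
  have hlift : P ∈ Polynomial.lifts (frobenius K p) := by
    rw [Polynomial.lifts_iff_coeff_lifts]
    intro n
    obtain ⟨b, hb⟩ := hcoeff n
    exact ⟨b, by rw [frobenius_def, hb]⟩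
  obtain ⟨Q, hQ⟩ := (Polynomial.mem_lifts _).1 hlift
  have hQsep : Q.Separable := (Polynomial.separable_map (frobenius K p)).1 (hQ ▸ hsep)
  obtain ⟨c, hc⟩ := IsAlgClosed.exists_pow_nat_eq (algebraMap L (AlgebraicClosure L) a)
    (Fact.out : p.Prime).pos
  have hcQ : Polynomial.aeval c Q = 0 := by
    have h1 : (Polynomial.aeval c Q) ^ p = 0 := by
      have h2 : frobenius (AlgebraicClosure L) p (Polynomial.aeval c Q) =
          Polynomial.aeval (c ^ p) P := by
        rw [Polynomial.aeval_def, Polynomial.hom_eval₂, ← hQ, Polynomial.aeval_def,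
          Polynomial.eval₂_map, frobenius_def]
        congr 1
        ext x
        simp [frobenius_def]
      rw [← frobenius_def, h2, hc, Polynomial.aeval_algebraMap_apply, hroot, map_zero]
    exact (pow_eq_zero_iff (Fact.out : p.Prime).ne_zero).1 h1
  have hcsepK : IsSeparable K c := hQsep.of_dvd (minpoly.dvd K c hcQ)
  have hcsepL : IsSeparable L c := hcsepK.tower_top L
  have hmem1 : c ∈ separableClosure L (AlgebraicClosure L) := hcsepL
  have hmem2 : c ∈ perfectClosure L (AlgebraicClosure L) :=
    (mem_perfectClosure_iff_pow_mem p).2 ⟨1, a, by rw [pow_one, hc]⟩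
  have hbot : c ∈ (⊥ : IntermediateField L (AlgebraicClosure L)) := by
    rw [← separableClosure_inf_perfectClosure]; exact ⟨hmem1, hmem2⟩
  obtain ⟨l, hl⟩ := IntermediateField.mem_bot.1 hbot
  refine ⟨l, (algebraMap L (AlgebraicClosure L)).injective ?_⟩
  rw [map_pow, hl, hc]

/-- The monoid hom sending an algebra automorphism to the underlying linear endomorphism. -/
def autToEnd (K L : Type*) [Field K] [Field L] [Algebra K L] : (L ≃ₐ[K] L) →* Module.End K L where
  toFun σ := σ.toLinearMap
  map_one' := LinearMap.ext fun _ => rfl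
  map_mul' _ _ := LinearMap.ext fun _ => rfl

theorem autToEnd_apply {K L : Type*} [Field K] [Field L] [Algebra K L] (σ : L ≃ₐ[K] L) (x : L) :
    autToEnd K L σ x = σ x := rfl

theorem S6332 {K L : Type u} [Field K] [Field L] [Algebra K L] (p : ℕ)
    [Fact p.Prime] [CharP K p] [FiniteDimensional K L] [IsGalois K L]
    (hdeg : Module.finrank K L = p) :
    ∃ z : L, z ^ p - z ∈ Set.range (algebraMap K L) ∧ K⟮z⟯ = ⊤ := by
  have hp : p.Prime := Fact.out
  haveI : CharP L p := charP_of_injective_algebraMap (algebraMap K L).injective p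
  haveI : CharP (Module.End K L) p :=
    charP_of_injective_algebraMap (FaithfulSMul.algebraMap_injective K (Module.End K L)) p
  have hcard : Nat.card (L ≃ₐ[K] L) = p := by rw [IsGalois.card_aut_eq_finrank, hdeg]
  -- a nontrivial automorphism
  have hnt : ∃ σ : L ≃ₐ[K] L, σ ≠ 1 := by
    haveI : Finite (L ≃ₐ[K] L) := Nat.finite_of_card_ne_zero (by rw [hcard]; exact hp.ne_zero)
    haveI : Nontrivial (L ≃ₐ[K] L) := by
      rw [← Finite.one_lt_card_iff_nontrivial, hcard]; exact hp.one_lt
    exact exists_ne 1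
  obtain ⟨σ, hσ⟩ := hnt
  have hgen : ∀ τ : L ≃ₐ[K] L, τ ∈ Subgroup.zpowers σ := fun τ =>
    mem_zpowers_of_prime_card hcard hσ
  -- an element fixed by σ lies in K
  have hfixed : ∀ x : L, σ x = x → x ∈ Set.range (algebraMap K L) := by
    intro x hx
    rw [IsGalois.mem_range_algebraMap_iff_fixed]
    intro τ
    have h1 : Subgroup.zpowers σ ≤ MulAction.stabilizer (L ≃ₐ[K] L) x := by
      rw [Subgroup.zpowers_le]
      exact hx
    exact h1 (hgen τ)
  -- the nilpotent operator T = σ - 1
  set T : Module.End K L := autToEnd K L σ - 1 with hT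
  have hTp : T ^ p = 0 := by
    rw [hT, sub_pow_char_of_commute p (Commute.one_right _), one_pow, ← map_pow]
    have : σ ^ p = 1 := by rw [← hcard]; exact pow_card_eq_one'
    rw [this, map_one, sub_self]
  have hTapply : ∀ x : L, T x = σ x - x := fun x => rfl
  have hT1 : T ≠ 0 := by
    intro h0
    apply hσ
    ext x
    have := hTapply x
    rw [h0, LinearMap.zero_apply] at this
    rw [AlgEquiv.one_apply]
    exact (sub_eq_zero.1 this.symm)
  have hex : ∃ k, T ^ k = 0 := ⟨p, hTp⟩
  classical
  have hk0 : Nat.find hex ≠ 0 := by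
    intro h
    have := Nat.find_spec hex
    rw [h, pow_zero] at this
    exact one_ne_zero this
  have hk1 : Nat.find hex ≠ 1 := by
    intro h
    have := Nat.find_spec hex
    rw [h, pow_one] at this
    exact hT1 this
  obtain ⟨m, hm⟩ : ∃ m, Nat.find hex = m + 2 := ⟨Nat.find hex - 2, by omega⟩
  have hmin : T ^ (m + 1) ≠ 0 := Nat.find_min hex (by omega)
  have hzero : T ^ (m + 2) = 0 := hm ▸ Nat.find_spec hex
  obtain ⟨u, hu⟩ : ∃ u, (T ^ (m + 1)) u ≠ 0 := by
    by_contra hcon
    simp only [not_exists, not_not] at hcon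
    exact hmin (LinearMap.ext hcon)
  set w := (T ^ m) u with hw
  have hx0 : T w ≠ 0 := by
    rw [hw, ← Module.End.mul_apply, ← pow_succ']; exact hu
  have hTx : T (T w) = 0 := by
    rw [hw, ← Module.End.mul_apply, ← Module.End.mul_apply, mul_assoc, ← pow_succ', ← pow_succ', hzero]
    rfl
  have hσx : σ (T w) = T w := by
    have := hTapply (T w)
    rw [hTx] at this
    exact (sub_eq_zero.1 this.symm)
  have hσw : σ w = w + T w := by rw [hTapply w]; ring
  have hσz : σ (w * (T w)⁻¹) = w * (T w)⁻¹ + 1 := by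
    rw [map_mul, map_inv₀, hσx, hσw, add_mul, mul_inv_cancel₀ hx0]
  refine ⟨w * (T w)⁻¹, ?_, ?_⟩
  · apply hfixed
    rw [map_sub, map_pow, hσz, add_pow_char, one_pow]
    ring
  · have htower := Module.finrank_mul_finrank K K⟮w * (T w)⁻¹⟯ L
    rw [hdeg] at htower
    have hdvd : Module.finrank K K⟮w * (T w)⁻¹⟯ ∣ p := Dvd.intro _ htower
    rcases (Nat.dvd_prime hp).1 hdvd with h1 | h1
    · exfalso
      rw [IntermediateField.finrank_eq_one_iff] at h1
      have hz : w * (T w)⁻¹ ∈ (⊥ : IntermediateField K L) := by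
        rw [← h1]; exact mem_adjoin_simple_self K _
      obtain ⟨y, hy⟩ := IntermediateField.mem_bot.1 hz
      have : σ (w * (T w)⁻¹) = w * (T w)⁻¹ := by rw [← hy, AlgEquiv.commutes]
      rw [hσz] at this
      exact one_ne_zero (add_eq_left.1 this)
    · rw [h1] at htower
      have h2 : Module.finrank K⟮w * (T w)⁻¹⟯ L = 1 := by
        have := Nat.eq_of_mul_eq_mul_left hp.pos (htower.trans (mul_one p).symm)
        exact this
      exact IntermediateField.finrank_eq_one_iff_eq_top.1 h2

end Groth.Agent.Helper1.FieldsP
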