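import Mathlib

/-!
# Tensor products of fields

Helper library of helper1.
-/

set_option autoImplicit false

namespace Groth.Agent.Helper1.FieldsT

open Polynomial IntermediateField Module
open scoped TensorProduct

universe u

section S6362

variable {F K L : Type u} [Field F] [Field K] [Field L]
    [Algebra F K] [Algebra F L] [FiniteDimensional F K] [Algebra.IsSeparable F K] [IsAlgClosed L]

theorem card_algHom : Nat.card (K →ₐ[F] L) = finrank F K := by
  rw [← Field.finSepDegree_eq_of_isAlgClosed F K L, Field.finSepDegree_eq_finrank_of_isSeparable]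

/-- the algebra homs span the space of linear maps. -/
theorem span_algHom_eq_top :
    Submodule.span L (Set.range (AlgHom.toLinearMap : (K →ₐ[F] L) → K →ₗ[F] L)) = ⊤ := by
  classical
  haveI : Finite (K →ₐ[F] L) := Nat.finite_of_card_ne_zero (by
    rw [card_algHom]; exact (Module.finrank_pos).ne')
  letI : Fintype (K →ₐ[F] L) := Fintype.ofFinite _
  apply (linearIndependent_toLinearMap F K L).span_eq_top_of_card_eq_finrank'
  rw [Module.finrank_linearMap_self, ← card_algHom (F := F) (K := K) (L := L),
    Nat.card_eq_fintype_card]

theorem S6362 :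
    Function.Bijective (fun x : K ⊗[F] L => fun σ : K →ₐ[F] L =>
      Algebra.TensorProduct.lift σ (AlgHom.id F L) (fun a b => Commute.all (σ a) b) x) := by
  classical
  haveI : Finite (K →ₐ[F] L) := Nat.finite_of_card_ne_zero (by
    rw [card_algHom]; exact (Module.finrank_pos).ne')
  letI : Fintype (K →ₐ[F] L) := Fintype.ofFinite _
  set n := finrank F K with hn
  let b : Basis (Fin n) F K := Module.finBasis F K
  -- parametrization of the tensor product
  let Θ : (Fin n → L) → K ⊗[F] L := fun f => ∑ i, b i ⊗ₜ[F] f i
  have hΘ : Function.Bijective Θ := by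
    have h1 : Θ = (TensorProduct.equivFinsuppOfBasisLeft b).symm ∘
        (Finsupp.equivFunOnFinite (α := Fin n) (M := L)).symm := by
      funext f
      simp only [Θ, Function.comp_apply, TensorProduct.equivFinsuppOfBasisLeft_symm_apply]
      rw [Finsupp.sum_fintype _ _ (by simp)]
      rfl
    rw [h1]
    exact (TensorProduct.equivFinsuppOfBasisLeft b).symm.bijective.comp
      (Finsupp.equivFunOnFinite).symm.bijective
  rw [← Function.Bijective.of_comp_iff _ hΘ]
  -- the composite as an `L`-linear map
  let Φ' : (Fin n → L) →ₗ[L] ((K →ₐ[F] L) → L) :=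
    { toFun := fun f σ => ∑ i, σ (b i) * f i
      map_add' := fun f g => by
        funext σ
        simp only [Pi.add_apply, mul_add, Finset.sum_add_distrib]
      map_smul' := fun c f => by
        funext σ
        simp only [Pi.smul_apply, smul_eq_mul, RingHom.id_apply, Finset.mul_sum]
        refine Finset.sum_congr rfl fun i _ => ?_
        ring }
  have hcomp : (fun x : K ⊗[F] L => fun σ : K →ₐ[F] L =>
      Algebra.TensorProduct.lift σ (AlgHom.id F L) (fun a b => Commute.all (σ a) b) x) ∘ Θ
      = Φ' := by
    funext f σ
    simp only [Θ, Function.comp_apply, map_sum, Algebra.TensorProduct.lift_tmul, AlgHom.id_apply]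
    rfl
  rw [hcomp]
  have hinj : Function.Injective Φ' := by
    rw [injective_iff_map_eq_zero]
    intro f hf
    -- the functional Λ on linear maps
    let Λ : (K →ₗ[F] L) →ₗ[L] L :=
      { toFun := fun φ => ∑ i, φ (b i) * f i
        map_add' := fun φ ψ => by
          simp only [LinearMap.add_apply, add_mul, Finset.sum_add_distrib]
        map_smul' := fun c φ => by
          simp only [LinearMap.smul_apply, smul_eq_mul, RingHom.id_apply, Finset.mul_sum]
          refine Finset.sum_congr rfl fun i _ => ?_
          ring }
    have hΛ : Λ = 0 := by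
      apply LinearMap.ext_on_range (span_algHom_eq_top (F := F) (K := K) (L := L))
      intro σ
      have := congrFun hf σ
      simpa [Λ, Φ'] using this
    funext j
    have h2 : Λ ((Algebra.linearMap F L) ∘ₗ (b.coord j)) = f j := by
      simp only [Λ, LinearMap.coe_mk, AddHom.coe_mk, LinearMap.comp_apply, Basis.coord_apply,
        Basis.repr_self, Algebra.linearMap_apply]
      rw [Finset.sum_eq_single j]
      · simp
      · intro i _ hij
        simp [Finsupp.single_apply, hij]
      · intro h; exact absurd (Finset.mem_univ j) h
    rw [← h2, hΛ]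
    rfl
  have hfin : finrank L (Fin n → L) = finrank L ((K →ₐ[F] L) → L) := by
    rw [Module.finrank_fintype_fun_eq_card, Module.finrank_fintype_fun_eq_card, Fintype.card_fin,
      ← Nat.card_eq_fintype_card, card_algHom]
  exact ⟨hinj, (LinearMap.injective_iff_surjective_of_finrank_eq_finrank hfin).1 hinj⟩

end S6362

end Groth.Agent.Helper1.FieldsT
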