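import Mathlib
import Groth.Agent.Lib.Helper1.RegLift

universe u v
open TensorProduct

namespace Groth.Agent.Helper1.FiltLift

section general
variable {R : Type u} [CommRing R]

/-- a submodule with projective quotient has a complement, with a projection -/
lemma exists_proj {M : Type v} [AddCommGroup M] [Module R M] (N : Submodule R M)
    [Module.Projective R (M ⧸ N)] :
    ∃ π : M →ₗ[R] N, (∀ x : N, π x = x) := by
  obtain ⟨s, hs⟩ := Module.projective_lifting_property N.mkQ LinearMap.id N.mkQ_surjective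
  have hmem : ∀ x : M, x - s (N.mkQ x) ∈ N := by
    intro x
    rw [← Submodule.Quotient.mk_eq_zero, Submodule.Quotient.mk_sub]
    have : Submodule.Quotient.mk (p := N) (s (N.mkQ x)) = Submodule.Quotient.mk x :=
      LinearMap.congr_fun hs (N.mkQ x)
    rw [this, sub_self]
  refine ⟨LinearMap.codRestrict N (LinearMap.id - s ∘ₗ N.mkQ) hmem, fun x => ?_⟩
  apply Subtype.ext
  show (x : M) - s (N.mkQ x) = x
  have : N.mkQ (x : M) = 0 := (Submodule.Quotient.mk_eq_zero N).mpr x.2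
  rw [this, map_zero, sub_zero]

variable (𝔫 : Ideal R)

lemma one_tmul_eq_zero_iff {M : Type v} [AddCommGroup M] [Module R M] (m : M) :
    (1 : R ⧸ 𝔫) ⊗ₜ[R] m = 0 ↔ m ∈ 𝔫 • (⊤ : Submodule R M) := by
  rw [← (TensorProduct.quotTensorEquivQuotSMul M 𝔫).map_eq_zero_iff,
    TensorProduct.quotTensorEquivQuotSMul_mk_one_tmul, Submodule.Quotient.mk_eq_zero]

lemma exists_one_tmul {M : Type v} [AddCommGroup M] [Module R M] (w : (R ⧸ 𝔫) ⊗[R] M) :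
    ∃ m : M, w = (1 : R ⧸ 𝔫) ⊗ₜ[R] m := by
  obtain ⟨m, rfl⟩ := TensorProduct.mk_surjective R M (R ⧸ 𝔫) Ideal.Quotient.mk_surjective w
  exact ⟨m, rfl⟩

lemma mem_baseChange_iff {M : Type v} [AddCommGroup M] [Module R M] (N : Submodule R M)
    (w : (R ⧸ 𝔫) ⊗[R] M) :
    w ∈ N.baseChange (R ⧸ 𝔫) ↔ ∃ a ∈ N, w = (1 : R ⧸ 𝔫) ⊗ₜ[R] a := by
  constructor
  · rintro ⟨t, rfl⟩
    obtain ⟨a, rfl⟩ := exists_one_tmul 𝔫 t
    exact ⟨a.1, a.2, rfl⟩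
  · rintro ⟨a, ha, rfl⟩
    exact Submodule.tmul_mem_baseChange_of_mem _ ha

end general


section setup
variable {R : Type u} [CommRing R]
  {H₁ H H₂ : Type v} [AddCommGroup H₁] [Module R H₁] [AddCommGroup H] [Module R H]
  [AddCommGroup H₂] [Module R H₂] [Module.Projective R H₂]
  (f : H₁ →ₗ[R] H) (g : H →ₗ[R] H₂) (hf : Function.Injective f) (hg : Function.Surjective g)
  (hfg : Function.Exact f g) (𝔫 : Ideal R)

include hg in
lemma exists_section : ∃ s : H₂ →ₗ[R] H, ∀ y, g (s y) = y := by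
  obtain ⟨s, hs⟩ := Module.projective_lifting_property g LinearMap.id hg
  exact ⟨s, fun y => LinearMap.congr_fun hs y⟩

include hf hg hfg in
lemma exists_retraction : ∃ r : H →ₗ[R] H₁, ∀ a, r (f a) = a := by
  obtain ⟨s, hs⟩ := exists_section g hg
  have hmem : ∀ x : H, x - s (g x) ∈ LinearMap.range f := by
    intro x
    rw [← hfg.linearMap_ker_eq, LinearMap.mem_ker, map_sub, hs, sub_self]
  let e := LinearEquiv.ofInjective f hf
  refine ⟨e.symm.toLinearMap ∘ₗ LinearMap.codRestrict (LinearMap.range f)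
    (LinearMap.id - s ∘ₗ g) hmem, fun a => ?_⟩
  show e.symm _ = a
  rw [LinearEquiv.symm_apply_eq]
  apply Subtype.ext
  show f a - s (g (f a)) = f a
  rw [hfg.apply_apply_eq_zero, map_zero, sub_zero]

include hf hg hfg in
lemma fbar_injective : Function.Injective (f.baseChange (R ⧸ 𝔫)) := by
  obtain ⟨r, hr⟩ := exists_retraction f g hf hg hfg
  have h : (r.baseChange (R ⧸ 𝔫)) ∘ₗ (f.baseChange (R ⧸ 𝔫)) = LinearMap.id := by
    rw [← LinearMap.baseChange_comp]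
    have : r ∘ₗ f = LinearMap.id := LinearMap.ext hr
    rw [this, LinearMap.baseChange_id]
  intro a b hab
  have := congrArg (r.baseChange (R ⧸ 𝔫)) hab
  rwa [← LinearMap.comp_apply, ← LinearMap.comp_apply, h] at this

include hg in
lemma exists_smul_top_lift {y : H₂} (hy : y ∈ 𝔫 • (⊤ : Submodule R H₂)) :
    ∃ n ∈ 𝔫 • (⊤ : Submodule R H), g n = y := by
  have : (𝔫 • (⊤ : Submodule R H)).map g = 𝔫 • (⊤ : Submodule R H₂) := by
    rw [Submodule.map_smul'', Submodule.map_top, LinearMap.range_eq_top.mpr hg]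
  rw [← this] at hy
  exact hy

include hg hfg in
lemma ker_gbar {w : (R ⧸ 𝔫) ⊗[R] H} (hw : g.baseChange (R ⧸ 𝔫) w = 0) :
    ∃ v, f.baseChange (R ⧸ 𝔫) v = w := by
  obtain ⟨x, rfl⟩ := exists_one_tmul 𝔫 w
  rw [LinearMap.baseChange_tmul, one_tmul_eq_zero_iff] at hw
  obtain ⟨n, hn, hgn⟩ := exists_smul_top_lift g hg 𝔫 hw
  have h1 : x - n ∈ LinearMap.range f := by
    rw [← hfg.linearMap_ker_eq, LinearMap.mem_ker, map_sub, hgn, sub_self]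
  obtain ⟨e, he⟩ := h1
  refine ⟨(1 : R ⧸ 𝔫) ⊗ₜ[R] e, ?_⟩
  rw [LinearMap.baseChange_tmul, he, TensorProduct.tmul_sub, (one_tmul_eq_zero_iff 𝔫 n).mpr hn,
    sub_zero]

end setup


section exist
variable {R : Type u} [CommRing R]
  {H₁ H H₂ : Type v} [AddCommGroup H₁] [Module R H₁] [AddCommGroup H] [Module R H]
  [AddCommGroup H₂] [Module R H₂] [Module.Projective R H₂]
  (f : H₁ →ₗ[R] H) (g : H →ₗ[R] H₂) (hf : Function.Injective f) (hg : Function.Surjective g)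
  (hfg : Function.Exact f g)
  (F₁ : Submodule R H₁) (F₂ : Submodule R H₂) [Module.Projective R (H₁ ⧸ F₁)]
  [Module.Projective R (H₂ ⧸ F₂)]
  (𝔫 : Ideal R)
  (Fb : Submodule (R ⧸ 𝔫) ((R ⧸ 𝔫) ⊗[R] H))
  (h1 : Fb ⊓ LinearMap.range (f.baseChange (R ⧸ 𝔫)) =
      Submodule.map (f.baseChange (R ⧸ 𝔫)) (F₁.baseChange (R ⧸ 𝔫)))
  (h2 : Submodule.map (g.baseChange (R ⧸ 𝔫)) Fb = F₂.baseChange (R ⧸ 𝔫))

/-- the submodule of `H` of elements reducing into `Fb` and mapping into `F₂` -/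
def PP : Submodule R H :=
  ((Fb.restrictScalars R).comap (TensorProduct.mk R (R ⧸ 𝔫) H 1)) ⊓ F₂.comap g

lemma mem_PP {x : H} : x ∈ PP g F₂ 𝔫 Fb ↔ (1 : R ⧸ 𝔫) ⊗ₜ[R] x ∈ Fb ∧ g x ∈ F₂ := Iff.rfl

include hg h2 in
lemma PP_surj (y : F₂) : ∃ x ∈ PP g F₂ 𝔫 Fb, g x = y := by
  have hy : (1 : R ⧸ 𝔫) ⊗ₜ[R] (y : H₂) ∈ F₂.baseChange (R ⧸ 𝔫) :=
    Submodule.tmul_mem_baseChange_of_mem _ y.2
  rw [← h2] at hy
  obtain ⟨w, hw, hwy⟩ := hy
  obtain ⟨x', rfl⟩ := exists_one_tmul 𝔫 w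
  rw [LinearMap.baseChange_tmul] at hwy
  have h3 : g x' - y ∈ 𝔫 • (⊤ : Submodule R H₂) := by
    rw [← one_tmul_eq_zero_iff, TensorProduct.tmul_sub, hwy, sub_self]
  obtain ⟨n, hn, hgn⟩ := exists_smul_top_lift g hg 𝔫 h3
  refine ⟨x' - n, ⟨?_, ?_⟩, ?_⟩
  · show (1 : R ⧸ 𝔫) ⊗ₜ[R] (x' - n) ∈ Fb
    rw [TensorProduct.tmul_sub, (one_tmul_eq_zero_iff 𝔫 n).mpr hn, sub_zero]
    exact hw
  · show g (x' - n) ∈ F₂
    rw [map_sub, hgn, sub_sub_cancel]; exact y.2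
  · rw [map_sub, hgn, sub_sub_cancel]

include hg h2 in
lemma exists_z : ∃ z : F₂ →ₗ[R] H, (∀ y, g (z y) = y) ∧ ∀ y, (1 : R ⧸ 𝔫) ⊗ₜ[R] z y ∈ Fb := by
  obtain ⟨π₂, hπ₂⟩ := exists_proj F₂
  obtain ⟨s, hs⟩ := exists_section g hg
  haveI : Module.Projective R F₂ :=
    Module.Projective.of_split F₂.subtype π₂ (LinearMap.ext hπ₂)
  let q : PP g F₂ 𝔫 Fb →ₗ[R] F₂ := (g.domRestrict _).codRestrict F₂ (fun x => x.2.2)
  have hq : Function.Surjective q := by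
    intro y
    obtain ⟨x, hx, hxy⟩ := PP_surj g hg F₂ 𝔫 Fb h2 y
    exact ⟨⟨x, hx⟩, Subtype.ext hxy⟩
  obtain ⟨z, hz⟩ := Module.projective_lifting_property q LinearMap.id hq
  refine ⟨(PP g F₂ 𝔫 Fb).subtype ∘ₗ z, fun y => ?_, fun y => (z y).2.1⟩
  have := congrArg Subtype.val (LinearMap.congr_fun hz y)
  exact this


section props
variable (z : F₂ →ₗ[R] H) (hz1 : ∀ y, g (z y) = y)

omit [Module.Projective R H₂] [Module.Projective R (H₁ ⧸ F₁)] [Module.Projective R (H₂ ⧸ F₂)] in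
lemma mem_FF {x : H} : x ∈ F₁.map f ⊔ LinearMap.range z ↔ ∃ a ∈ F₁, ∃ y : F₂, x = f a + z y := by
  rw [Submodule.mem_sup]
  constructor
  · rintro ⟨_, ⟨a, ha, rfl⟩, _, ⟨y, rfl⟩, rfl⟩
    exact ⟨a, ha, y, rfl⟩
  · rintro ⟨a, ha, y, rfl⟩
    exact ⟨f a, ⟨a, ha, rfl⟩, z y, ⟨y, rfl⟩, rfl⟩

omit [Module.Projective R H₂] [Module.Projective R (H₁ ⧸ F₁)] [Module.Projective R (H₂ ⧸ F₂)] in
include hfg hz1 in
lemma FF_map_g : (F₁.map f ⊔ LinearMap.range z).map g = F₂ := by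
  ext y
  constructor
  · rintro ⟨x, hx, rfl⟩
    obtain ⟨a, _, y', rfl⟩ := (mem_FF f F₁ F₂ z).mp hx
    rw [map_add, hfg.apply_apply_eq_zero, zero_add, hz1]
    exact y'.2
  · intro hy
    exact ⟨z ⟨y, hy⟩, (mem_FF f F₁ F₂ z).mpr ⟨0, F₁.zero_mem, ⟨y, hy⟩, by simp⟩, hz1 _⟩

omit [Module.Projective R H₂] [Module.Projective R (H₁ ⧸ F₁)] [Module.Projective R (H₂ ⧸ F₂)] in
include hfg hz1 in
lemma FF_inf : (F₁.map f ⊔ LinearMap.range z) ⊓ LinearMap.range f = F₁.map f := by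
  apply le_antisymm
  · rintro x ⟨hx, ⟨e, rfl⟩⟩
    obtain ⟨a, ha, y, hxy⟩ := (mem_FF f F₁ F₂ z).mp hx
    have h3 := congrArg g hxy
    rw [hfg.apply_apply_eq_zero, map_add, hfg.apply_apply_eq_zero, zero_add, hz1] at h3
    have hy : y = 0 := Subtype.ext h3.symm
    rw [hy, map_zero, add_zero] at hxy
    rw [hxy]
    exact ⟨a, ha, rfl⟩
  · rintro _ ⟨a, ha, rfl⟩
    exact ⟨Submodule.mem_sup_left ⟨a, ha, rfl⟩, ⟨a, rfl⟩⟩

omit [Module.Projective R (H₁ ⧸ F₁)] [Module.Projective R (H₂ ⧸ F₂)] in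
include hg hfg hz1 h1 h2 in
lemma FF_baseChange (hz2 : ∀ y, (1 : R ⧸ 𝔫) ⊗ₜ[R] z y ∈ Fb) :
    (F₁.map f ⊔ LinearMap.range z).baseChange (R ⧸ 𝔫) = Fb := by
  have hF1 : ∀ a ∈ F₁, (1 : R ⧸ 𝔫) ⊗ₜ[R] f a ∈ Fb := by
    intro a ha
    have : (1 : R ⧸ 𝔫) ⊗ₜ[R] f a ∈ Submodule.map (f.baseChange (R ⧸ 𝔫)) (F₁.baseChange (R ⧸ 𝔫)) :=
      ⟨(1 : R ⧸ 𝔫) ⊗ₜ[R] a, Submodule.tmul_mem_baseChange_of_mem _ ha, LinearMap.baseChange_tmul _ _ _⟩
    rw [← h1] at this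
    exact this.1
  apply le_antisymm
  · intro w hw
    obtain ⟨x, hx, rfl⟩ := (mem_baseChange_iff 𝔫 _ w).mp hw
    obtain ⟨a, ha, y, rfl⟩ := (mem_FF f F₁ F₂ z).mp hx
    rw [TensorProduct.tmul_add]
    exact Fb.add_mem (hF1 a ha) (hz2 y)
  · intro w hw
    have h3 : g.baseChange (R ⧸ 𝔫) w ∈ F₂.baseChange (R ⧸ 𝔫) := by
      rw [← h2]; exact ⟨w, hw, rfl⟩
    obtain ⟨y, hy, hwy⟩ := (mem_baseChange_iff 𝔫 _ _).mp h3
    have h4 : w - (1 : R ⧸ 𝔫) ⊗ₜ[R] z ⟨y, hy⟩ ∈ Fb := Fb.sub_mem hw (hz2 _)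
    have h5 : g.baseChange (R ⧸ 𝔫) (w - (1 : R ⧸ 𝔫) ⊗ₜ[R] z ⟨y, hy⟩) = 0 := by
      rw [map_sub, hwy, LinearMap.baseChange_tmul, hz1, sub_self]
    obtain ⟨v, hv⟩ := ker_gbar f g hg hfg 𝔫 h5
    have h6 : w - (1 : R ⧸ 𝔫) ⊗ₜ[R] z ⟨y, hy⟩ ∈
        Submodule.map (f.baseChange (R ⧸ 𝔫)) (F₁.baseChange (R ⧸ 𝔫)) := by
      rw [← h1]; exact ⟨h4, ⟨v, hv⟩⟩
    obtain ⟨v', hv', hv'w⟩ := h6
    obtain ⟨a, ha, rfl⟩ := (mem_baseChange_iff 𝔫 _ _).mp hv'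
    rw [LinearMap.baseChange_tmul] at hv'w
    have : w = (1 : R ⧸ 𝔫) ⊗ₜ[R] (f a + z ⟨y, hy⟩) := by
      rw [TensorProduct.tmul_add, hv'w]; abel
    rw [this]
    exact Submodule.tmul_mem_baseChange_of_mem _ ((mem_FF f F₁ F₂ z).mpr ⟨a, ha, _, rfl⟩)

include hf hg hfg hz1 in
lemma FF_compl : ∃ C : Submodule R H, IsCompl (F₁.map f ⊔ LinearMap.range z) C := by
  obtain ⟨π₁, hπ₁⟩ := exists_proj F₁
  obtain ⟨π₂, hπ₂⟩ := exists_proj F₂
  obtain ⟨s, hs⟩ := exists_section g hg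
  refine ⟨(LinearMap.ker π₁).map f ⊔ (LinearMap.ker π₂).map s, ?_⟩
  rw [isCompl_iff]
  constructor
  · rw [Submodule.disjoint_def]
    intro x hx hxC
    obtain ⟨a, ha, y, rfl⟩ := (mem_FF f F₁ F₂ z).mp hx
    obtain ⟨_, ⟨c, hc, rfl⟩, _, ⟨y', hy', rfl⟩, hsum⟩ := Submodule.mem_sup.mp hxC
    have h3 := congrArg g hsum
    rw [map_add, map_add, hfg.apply_apply_eq_zero, hfg.apply_apply_eq_zero, zero_add, zero_add,
      hs, hz1] at h3
    have hy0 : y = 0 := by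
      have h4 : π₂ y' = 0 := hy'
      rw [h3, hπ₂] at h4
      exact h4
    rw [hy0] at h3
    rw [hy0, map_zero, add_zero] at hsum ⊢
    have h3' : y' = 0 := h3
    rw [h3', map_zero, add_zero] at hsum
    have hac : c = a := hf hsum
    have h5 : π₁ a = 0 := by rw [← hac]; exact hc
    have h6 : π₁ a = ⟨a, ha⟩ := hπ₁ ⟨a, ha⟩
    rw [h5] at h6
    have : a = 0 := (congrArg Subtype.val h6).symm
    rw [this, map_zero]
  · rw [codisjoint_iff, eq_top_iff]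
    intro x _
    set y := g x with hy
    set y₁ : F₂ := π₂ y with hy₁
    have hy₂ : y - y₁ ∈ LinearMap.ker π₂ := by
      rw [LinearMap.mem_ker, map_sub, hπ₂, sub_self]
    have hk : x - z y₁ - s (y - y₁) ∈ LinearMap.range f := by
      rw [← hfg.linearMap_ker_eq, LinearMap.mem_ker, map_sub, map_sub, hz1, hs, ← hy]
      abel
    obtain ⟨e, he⟩ := hk
    have he₂ : e - π₁ e ∈ LinearMap.ker π₁ := by
      rw [LinearMap.mem_ker, map_sub, hπ₁, sub_self]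
    have : x = (f (π₁ e) + z y₁) + (f (e - π₁ e) + s (y - y₁)) := by
      rw [map_sub, ← add_assoc]
      have : f e = x - z y₁ - s (y - y₁) := he
      rw [this]; abel
    rw [this]
    refine Submodule.add_mem_sup ((mem_FF f F₁ F₂ z).mpr ⟨_, (π₁ e).2, y₁, rfl⟩)
      (Submodule.add_mem_sup ⟨_, he₂, rfl⟩ ⟨_, hy₂, rfl⟩)

end props

include hf hg hfg h1 h2 in
theorem exists_F : ∃ F : Submodule R H, (∃ C : Submodule R H, IsCompl F C) ∧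
    F ⊓ LinearMap.range f = Submodule.map f F₁ ∧
    F.baseChange (R ⧸ 𝔫) = Fb ∧ Submodule.map g F = F₂ := by
  obtain ⟨z, hz1, hz2⟩ := exists_z g hg F₂ 𝔫 Fb h2
  exact ⟨F₁.map f ⊔ LinearMap.range z, FF_compl f g hf hg hfg F₁ F₂ z hz1,
    FF_inf f g hfg F₁ F₂ z hz1, FF_baseChange f g hg hfg F₁ F₂ 𝔫 Fb h1 h2 z hz1 hz2,
    FF_map_g f g hfg F₁ F₂ z hz1⟩


end exist


section torsor
variable {R : Type u} [CommRing R]
  {H₁ H H₂ : Type v} [AddCommGroup H₁] [Module R H₁] [AddCommGroup H] [Module R H]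
  [AddCommGroup H₂] [Module R H₂]
  (f : H₁ →ₗ[R] H) (g : H →ₗ[R] H₂) (hf : Function.Injective f) (hg : Function.Surjective g)
  (hfg : Function.Exact f g)
  (F₁ : Submodule R H₁) (F₂ : Submodule R H₂)
  (𝔫 : Ideal R)

/-- the transvection `1 + f u g` -/
def TT (u : H₂ →ₗ[R] H₁) : H →ₗ[R] H := LinearMap.id + f ∘ₗ u ∘ₗ g

lemma TT_apply (u : H₂ →ₗ[R] H₁) (x : H) : TT f g u x = x + f (u (g x)) := rfl

include hfg in
lemma TT_f (u : H₂ →ₗ[R] H₁) (a : H₁) : TT f g u (f a) = f a := by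
  rw [TT_apply, hfg.apply_apply_eq_zero, map_zero, map_zero, add_zero]

include hfg in
lemma g_TT (u : H₂ →ₗ[R] H₁) (x : H) : g (TT f g u x) = g x := by
  rw [TT_apply, map_add, hfg.apply_apply_eq_zero, add_zero]

include hfg in
lemma TT_neg_TT (u : H₂ →ₗ[R] H₁) (x : H) : TT f g (-u) (TT f g u x) = x := by
  rw [TT_apply, g_TT f g hfg, TT_apply]
  simp

/-- `TT u` as an equivalence -/
def TTe (u : H₂ →ₗ[R] H₁) : H ≃ₗ[R] H :=
  LinearEquiv.ofLinearMap (TT f g u) (TT f g (-u))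
    (LinearMap.ext fun x => by
      have := TT_neg_TT f g hfg (-u) x
      rwa [neg_neg] at this)
    (LinearMap.ext fun x => TT_neg_TT f g hfg u x)

include hfg in
lemma compl_TT (u : H₂ →ₗ[R] H₁) (F : Submodule R H) (hc : ∃ C : Submodule R H, IsCompl F C) :
    ∃ C : Submodule R H, IsCompl (F.map (TT f g u)) C := by
  obtain ⟨C, hC⟩ := hc
  refine ⟨C.map (TT f g u), ?_⟩
  exact (Submodule.orderIsoMapComap (TTe f g hfg u)).isCompl hC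

include hfg in
lemma inf_TT (u : H₂ →ₗ[R] H₁) (F : Submodule R H)
    (hFi : F ⊓ LinearMap.range f = Submodule.map f F₁) :
    (F.map (TT f g u)) ⊓ LinearMap.range f = Submodule.map f F₁ := by
  apply le_antisymm
  · rintro _ ⟨⟨x, hx, rfl⟩, ⟨e, he⟩⟩
    have h1 : x ∈ LinearMap.range f := by
      have : x = f e - f (u (g x)) := by rw [he, TT_apply]; abel
      rw [this]
      exact Submodule.sub_mem _ ⟨e, rfl⟩ ⟨_, rfl⟩
    have h2 : x ∈ Submodule.map f F₁ := by rw [← hFi]; exact ⟨hx, h1⟩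
    obtain ⟨a, ha, rfl⟩ := h2
    rw [TT_f f g hfg]
    exact ⟨a, ha, rfl⟩
  · rintro _ ⟨a, ha, rfl⟩
    have h1 : f a ∈ F := by
      have : f a ∈ Submodule.map f F₁ := ⟨a, ha, rfl⟩
      rw [← hFi] at this
      exact this.1
    exact ⟨⟨f a, h1, TT_f f g hfg u a⟩, ⟨a, rfl⟩⟩

lemma one_tmul_TT (u : H₂ →ₗ[R] H₁) (hu : ∀ y, u y ∈ 𝔫 • (⊤ : Submodule R H₁)) (x : H) :
    (1 : R ⧸ 𝔫) ⊗ₜ[R] (TT f g u x) = (1 : R ⧸ 𝔫) ⊗ₜ[R] x := by
  rw [TT_apply, TensorProduct.tmul_add]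
  have h1 : f (u (g x)) ∈ 𝔫 • (⊤ : Submodule R H) := by
    have := Submodule.mem_map_of_mem (f := f) (hu (g x))
    rw [Submodule.map_smul''] at this
    exact Submodule.smul_mono le_rfl le_top this
  rw [(one_tmul_eq_zero_iff 𝔫 _).mpr h1, add_zero]

lemma baseChange_TT (u : H₂ →ₗ[R] H₁) (hu : ∀ y, u y ∈ 𝔫 • (⊤ : Submodule R H₁))
    (F : Submodule R H) :
    (F.map (TT f g u)).baseChange (R ⧸ 𝔫) = F.baseChange (R ⧸ 𝔫) := by
  ext w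
  rw [mem_baseChange_iff, mem_baseChange_iff]
  constructor
  · rintro ⟨_, ⟨x, hx, rfl⟩, rfl⟩
    exact ⟨x, hx, one_tmul_TT f g 𝔫 u hu x⟩
  · rintro ⟨x, hx, rfl⟩
    exact ⟨TT f g u x, ⟨x, hx, rfl⟩, (one_tmul_TT f g 𝔫 u hu x).symm⟩

include hfg in
lemma map_g_TT (u : H₂ →ₗ[R] H₁) (F : Submodule R H) :
    (F.map (TT f g u)).map g = F.map g := by
  ext y
  constructor
  · rintro ⟨_, ⟨x, hx, rfl⟩, rfl⟩
    exact ⟨x, hx, (g_TT f g hfg u x).symm⟩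
  · rintro ⟨x, hx, rfl⟩
    exact ⟨TT f g u x, ⟨x, hx, rfl⟩, g_TT f g hfg u x⟩


include hf hfg in
lemma stab_iff [Module.Flat R (H₁ ⧸ F₁)] (u : H₂ →ₗ[R] H₁)
    (hu : ∀ y, u y ∈ 𝔫 • (⊤ : Submodule R H₁)) (F : Submodule R H)
    (hFi : F ⊓ LinearMap.range f = Submodule.map f F₁) (hFg : Submodule.map g F = F₂) :
    F.map (TT f g u) = F ↔ ∀ y ∈ F₂, u y ∈ 𝔫 • F₁ := by
  have hF1 : ∀ a ∈ F₁, f a ∈ F := by
    intro a ha
    have : f a ∈ Submodule.map f F₁ := ⟨a, ha, rfl⟩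
    rw [← hFi] at this
    exact this.1
  constructor
  · intro h y hy
    rw [← hFg] at hy
    obtain ⟨x, hx, rfl⟩ := hy
    have h1 : TT f g u x ∈ F := by rw [← h]; exact ⟨x, hx, rfl⟩
    have h2 : f (u (g x)) ∈ F := by
      have : f (u (g x)) = TT f g u x - x := by rw [TT_apply]; abel
      rw [this]; exact F.sub_mem h1 hx
    have h3 : f (u (g x)) ∈ Submodule.map f F₁ := by rw [← hFi]; exact ⟨h2, ⟨_, rfl⟩⟩
    obtain ⟨a, ha, hau⟩ := h3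
    have h4 : u (g x) ∈ F₁ := by rw [← hf hau]; exact ha
    have h5 := LinearMap.ker_inf_smul_top_eq_smul_of_flat 𝔫 F₁.mkQ F₁.mkQ_surjective
    rw [Submodule.ker_mkQ] at h5
    rw [← h5]
    exact ⟨h4, hu _⟩
  · intro h
    have key : ∀ v : H₂ →ₗ[R] H₁, (∀ y ∈ F₂, v y ∈ 𝔫 • F₁) → F.map (TT f g v) ≤ F := by
      rintro v hv _ ⟨x, hx, rfl⟩
      rw [TT_apply]
      have h1 : g x ∈ F₂ := by rw [← hFg]; exact ⟨x, hx, rfl⟩
      have h2 : v (g x) ∈ F₁ := Submodule.smul_le_right (hv _ h1)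
      exact F.add_mem hx (hF1 _ h2)
    apply le_antisymm (key u h)
    intro x hx
    have h1 : TT f g (-u) x ∈ F := by
      apply key (-u) _ ⟨x, hx, rfl⟩
      intro y hy
      rw [LinearMap.neg_apply]
      exact Submodule.neg_mem _ (h y hy)
    refine ⟨TT f g (-u) x, h1, ?_⟩
    have := TT_neg_TT f g hfg (-u) x
    rwa [neg_neg] at this


/-- a section of `g` with values in `F` -/
lemma exists_chi [Module.Projective R (H₂ ⧸ F₂)] [Module.Projective R H₂] (F : Submodule R H)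
    (hFg : Submodule.map g F = F₂) :
    ∃ χ : F₂ →ₗ[R] H, (∀ y, χ y ∈ F) ∧ ∀ y, g (χ y) = y := by
  obtain ⟨π₂, hπ₂⟩ := exists_proj F₂
  haveI : Module.Projective R F₂ :=
    Module.Projective.of_split F₂.subtype π₂ (LinearMap.ext hπ₂)
  let q : F →ₗ[R] F₂ := (g.domRestrict F).codRestrict F₂ (fun x => by
    rw [← hFg]; exact ⟨x.1, x.2, rfl⟩)
  have hq : Function.Surjective q := by
    intro y
    have hy : (y : H₂) ∈ Submodule.map g F := by rw [hFg]; exact y.2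
    obtain ⟨x, hx, hxy⟩ := hy
    exact ⟨⟨x, hx⟩, Subtype.ext hxy⟩
  obtain ⟨χ, hχ⟩ := Module.projective_lifting_property q LinearMap.id hq
  refine ⟨F.subtype ∘ₗ χ, fun y => (χ y).2, fun y => ?_⟩
  exact congrArg Subtype.val (LinearMap.congr_fun hχ y)

include hfg in
lemma eq_sup_of_chi (F : Submodule R H) (hFi : F ⊓ LinearMap.range f = Submodule.map f F₁)
    (χ : F₂ →ₗ[R] H) (hχ1 : ∀ y, χ y ∈ F) (hχ2 : ∀ y, g (χ y) = y)
    (hFg : Submodule.map g F = F₂) {x : H} :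
    x ∈ F ↔ ∃ a ∈ F₁, ∃ y : F₂, x = f a + χ y := by
  constructor
  · intro hx
    have hy : g x ∈ F₂ := by rw [← hFg]; exact ⟨x, hx, rfl⟩
    have h1 : x - χ ⟨g x, hy⟩ ∈ F ⊓ LinearMap.range f := by
      refine ⟨F.sub_mem hx (hχ1 _), ?_⟩
      show x - χ ⟨g x, hy⟩ ∈ LinearMap.range f
      rw [← hfg.linearMap_ker_eq, LinearMap.mem_ker, map_sub, hχ2, sub_self]
    rw [hFi] at h1
    obtain ⟨a, ha, hax⟩ := h1
    exact ⟨a, ha, ⟨g x, hy⟩, by rw [hax]; abel⟩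
  · rintro ⟨a, ha, y, rfl⟩
    have : f a ∈ Submodule.map f F₁ := ⟨a, ha, rfl⟩
    rw [← hFi] at this
    exact F.add_mem this.1 (hχ1 y)

include hf hg hfg in
theorem transitive [Module.Projective R H₂] [Module.Projective R (H₂ ⧸ F₂)]
    (Fb : Submodule (R ⧸ 𝔫) ((R ⧸ 𝔫) ⊗[R] H))
    (h1 : Fb ⊓ LinearMap.range (f.baseChange (R ⧸ 𝔫)) =
      Submodule.map (f.baseChange (R ⧸ 𝔫)) (F₁.baseChange (R ⧸ 𝔫)))
    (F F' : Submodule R H)
    (hFi : F ⊓ LinearMap.range f = Submodule.map f F₁) (hFb : F.baseChange (R ⧸ 𝔫) = Fb)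
    (hFg : Submodule.map g F = F₂)
    (hFi' : F' ⊓ LinearMap.range f = Submodule.map f F₁) (hFb' : F'.baseChange (R ⧸ 𝔫) = Fb)
    (hFg' : Submodule.map g F' = F₂) :
    ∃ u : H₂ →ₗ[R] H₁, (∀ y : H₂, u y ∈ 𝔫 • (⊤ : Submodule R H₁)) ∧
      F' = Submodule.map (TT f g u) F := by
  obtain ⟨χ, hχ1, hχ2⟩ := exists_chi g F₂ F hFg
  obtain ⟨χ', hχ'1, hχ'2⟩ := exists_chi g F₂ F' hFg'
  obtain ⟨r, hr⟩ := exists_retraction f g hf hg hfg
  obtain ⟨π₂, hπ₂⟩ := exists_proj F₂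
  haveI : Module.Projective R F₂ :=
    Module.Projective.of_split F₂.subtype π₂ (LinearMap.ext hπ₂)
  -- `e : F₂ → H₁` with `f e = χ' - χ`
  let e : F₂ →ₗ[R] H₁ := r ∘ₗ (χ' - χ)
  have he : ∀ y, f (e y) = χ' y - χ y := by
    intro y
    have h2 : χ' y - χ y ∈ LinearMap.range f := by
      rw [← hfg.linearMap_ker_eq, LinearMap.mem_ker, map_sub, hχ2, hχ'2, sub_self]
    obtain ⟨a, ha⟩ := h2
    show f (r (χ' y - χ y)) = _
    rw [← ha, hr]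
  -- values of `e` lie in `F₁ + 𝔫 H₁`
  let σ : (F₁ × (𝔫 • (⊤ : Submodule R H₁) : Submodule R H₁)) →ₗ[R] H₁ :=
    F₁.subtype.coprod (𝔫 • (⊤ : Submodule R H₁) : Submodule R H₁).subtype
  have hemem : ∀ y, e y ∈ LinearMap.range σ := by
    intro y
    have h2 : (1 : R ⧸ 𝔫) ⊗ₜ[R] χ y ∈ Fb := by
      rw [← hFb]; exact Submodule.tmul_mem_baseChange_of_mem _ (hχ1 y)
    have h3 : (1 : R ⧸ 𝔫) ⊗ₜ[R] χ' y ∈ Fb := by
      rw [← hFb']; exact Submodule.tmul_mem_baseChange_of_mem _ (hχ'1 y)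
    have h4 : f.baseChange (R ⧸ 𝔫) ((1 : R ⧸ 𝔫) ⊗ₜ[R] e y) ∈
        Fb ⊓ LinearMap.range (f.baseChange (R ⧸ 𝔫)) := by
      refine ⟨?_, ⟨_, rfl⟩⟩
      rw [LinearMap.baseChange_tmul, he, TensorProduct.tmul_sub]
      exact Fb.sub_mem h3 h2
    rw [h1] at h4
    obtain ⟨v, hv, hve⟩ := h4
    obtain ⟨a, ha, rfl⟩ := (mem_baseChange_iff 𝔫 _ _).mp hv
    have h5 := fbar_injective f g hf hg hfg 𝔫 hve
    have h6 : e y - a ∈ 𝔫 • (⊤ : Submodule R H₁) := by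
      rw [← one_tmul_eq_zero_iff, TensorProduct.tmul_sub, h5, sub_self]
    refine ⟨(⟨a, ha⟩, ⟨e y - a, h6⟩), ?_⟩
    show a + (e y - a) = e y
    abel
  obtain ⟨l, hl⟩ := Module.projective_lifting_property σ.rangeRestrict
    (e.codRestrict (LinearMap.range σ) hemem) (LinearMap.surjective_rangeRestrict σ)
  have hl' : ∀ y, ((l y).1 : H₁) + ((l y).2 : H₁) = e y := by
    intro y
    exact congrArg Subtype.val (LinearMap.congr_fun hl y)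
  let u : H₂ →ₗ[R] H₁ :=
    (𝔫 • (⊤ : Submodule R H₁) : Submodule R H₁).subtype ∘ₗ LinearMap.snd R _ _ ∘ₗ l ∘ₗ π₂
  have hu : ∀ y, u y ∈ 𝔫 • (⊤ : Submodule R H₁) := fun y => ((l (π₂ y)).2).2
  have hu' : ∀ y : F₂, u y = ((l y).2 : H₁) := by
    intro y
    show (((l (π₂ y)).2 : _) : H₁) = _
    rw [hπ₂]
  refine ⟨u, hu, ?_⟩
  have key : ∀ (a : H₁) (y : F₂), TT f g u (f a + χ y) = f (a - (l y).1) + χ' y := by
    intro a y
    rw [TT_apply, map_add, hfg.apply_apply_eq_zero, zero_add, hχ2, hu']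
    have h2 : χ' y = χ y + f (e y) := by rw [he]; abel
    rw [h2, ← hl' y, map_sub, map_add]
    abel
  ext x
  constructor
  · intro hx
    obtain ⟨a, ha, y, rfl⟩ := (eq_sup_of_chi f g hfg F₁ F₂ F' hFi' χ' hχ'1 hχ'2 hFg').mp hx
    refine ⟨f (a + (l y).1) + χ y,
      (eq_sup_of_chi f g hfg F₁ F₂ F hFi χ hχ1 hχ2 hFg).mpr
        ⟨_, F₁.add_mem ha (l y).1.2, y, rfl⟩, ?_⟩
    rw [key, add_sub_cancel_right]
  · rintro ⟨x, hx, rfl⟩
    obtain ⟨a, ha, y, rfl⟩ := (eq_sup_of_chi f g hfg F₁ F₂ F hFi χ hχ1 hχ2 hFg).mp hx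
    rw [key]
    exact (eq_sup_of_chi f g hfg F₁ F₂ F' hFi' χ' hχ'1 hχ'2 hFg').mpr
      ⟨_, F₁.sub_mem ha (l y).1.2, y, rfl⟩

end torsor



end Groth.Agent.Helper1.FiltLift
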