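import Mathlib
import Groth.Agent.Lib.Helper1.FinLen2

/-!
# Local finiteness of the irreducible components of the support (helper1)
-/

set_option autoImplicit false
universe u
open CategoryTheory CategoryTheory.Limits AlgebraicGeometry TopologicalSpace Opposite

namespace Groth.Agent.Helper1.FinLen

/-- in a space covered by noetherian opens, the irreducible components of any subspace form a
locally finite family -/
theorem locallyFinite_irreducibleComponents_image {X : Type*} [TopologicalSpace X] (S : Set X)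
    (hloc : ∀ x : X, ∃ U : Set X, IsOpen U ∧ x ∈ U ∧ NoetherianSpace ↥U) :
    LocallyFinite (fun Z : irreducibleComponents ↥S => ((↑) '' (Z : Set ↥S) : Set X)) := by
  intro x
  obtain ⟨U, hUo, hxU, hUn⟩ := hloc x
  refine ⟨U, hUo.mem_nhds hxU, ?_⟩
  let V : Set ↥S := (↑) ⁻¹' U
  have hVo : IsOpen V := hUo.preimage continuous_subtype_val
  have hf : Topology.IsOpenEmbedding (Subtype.val : ↥V → ↥S) := hVo.isOpenEmbedding_subtypeVal
  haveI : NoetherianSpace ↥V := by
    let g : ↥V → ↥U := fun v => ⟨v.1.1, v.2⟩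
    have hg : Topology.IsInducing g := by
      have h1 : Topology.IsInducing (fun v : ↥V => (v.1.1 : X)) :=
        Topology.IsInducing.subtypeVal.comp Topology.IsInducing.subtypeVal
      have h2 : (fun v : ↥V => (v.1.1 : X)) = Subtype.val ∘ g := rfl
      rw [h2] at h1
      exact Topology.IsInducing.of_comp (by fun_prop) continuous_subtype_val h1
    exact hg.noetherianSpace
  have hfin : (irreducibleComponents ↥V).Finite := NoetherianSpace.finite_irreducibleComponents
  refine Set.Finite.of_injOn (f := fun Z : irreducibleComponents ↥S =>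
    ((Subtype.val : ↥V → ↥S) ⁻¹' (Z : Set ↥S))) (t := irreducibleComponents ↥V) ?_ ?_ hfin
  · intro Z hZ
    obtain ⟨y, ⟨s, hsZ, rfl⟩, hyU⟩ := hZ
    apply preimage_mem_irreducibleComponents Z.2 hf
    exact ⟨s, hsZ, ⟨⟨s, hyU⟩, rfl⟩⟩
  · intro Z hZ Z' hZ' heq
    have key : ∀ W : irreducibleComponents ↥S,
        (((↑) '' (W : Set ↥S) : Set X) ∩ U).Nonempty →
        closure ((Subtype.val : ↥V → ↥S) '' ((Subtype.val : ↥V → ↥S) ⁻¹' (W : Set ↥S))) =
          (W : Set ↥S) := by
      intro W hW
      obtain ⟨y, ⟨s, hsW, rfl⟩, hyU⟩ := hW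
      exact closure_image_preimage_of_isPreirreducible _ hf.isOpenMap _ ⟨⟨s, hyU⟩, hsW⟩
        W.2.1.2 (isClosed_of_mem_irreducibleComponents _ W.2)
    apply Subtype.ext
    rw [← key Z hZ, ← key Z' hZ']
    simp only at heq
    rw [heq]

end Groth.Agent.Helper1.FinLen

namespace Groth.Agent.Helper1.FinLen

open Groth.Agent.Lead

theorem exists_noetherian_nhd {X : Scheme.{u}} [IsLocallyNoetherian X] (x : X) :
    ∃ U : Set X, IsOpen U ∧ x ∈ U ∧ NoetherianSpace ↥U := by
  obtain ⟨_, ⟨U, hU, rfl⟩, hxU, -⟩ :=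
    X.isBasis_affineOpens.exists_subset_of_mem_open (Set.mem_univ x) isOpen_univ
  refine ⟨U, U.isOpen, hxU, ?_⟩
  haveI : IsAffine (U : Scheme.{u}) := hU
  haveI : IsLocallyNoetherian (U : Scheme.{u}) := inferInstance
  haveI : IsNoetherian (U : Scheme.{u}) := {}
  exact (inferInstance : NoetherianSpace (U : Scheme.{u}))

/-- S1916 -/
theorem length_stalk_lt_top_of_generic_support (X : Scheme.{u}) [IsLocallyNoetherian X]
    (F : X.Modules) (hF : Coh.IsCoh F) :
    LocallyFinite (fun Z : irreducibleComponents {x : X | Nontrivial (F.presheaf.stalk x)} =>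
      ((↑) '' (Z : Set {x : X | Nontrivial (F.presheaf.stalk x)}) : Set X)) ∧
    ∀ ξ : X, Nontrivial (F.presheaf.stalk ξ) →
      (∀ x : X, Nontrivial (F.presheaf.stalk x) → x ⤳ ξ → x = ξ) →
      Module.length (X.presheaf.stalk ξ) (F.presheaf.stalk ξ) < ⊤ := by
  refine ⟨locallyFinite_irreducibleComponents_image _ exists_noetherian_nhd, ?_⟩
  intro ξ _ hmax
  rw [lt_top_iff_ne_top, Module.length_ne_top_iff]
  exact isFiniteLength_stalk F hF ξ
    (fun y hy hyξ => hmax y (not_subsingleton_iff_nontrivial.1 hy) hyξ)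

end Groth.Agent.Helper1.FinLen
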