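import Mathlib
import Groth.Agent.Lib.Helper1.FinLen1
import Groth.Prelude.Def_Cyc

/-!
# Local rings at maximal points are artinian (helper1)
-/

set_option autoImplicit false
universe u
open CategoryTheory CategoryTheory.Limits AlgebraicGeometry TopologicalSpace Opposite

namespace Groth.Agent.Helper1.FinLen

theorem isFiniteLength_stalk_self_aux {Z : Scheme.{u}} [IsLocallyNoetherian Z] {U : Z.Opens}
    (hU : IsAffineOpen U) (x : U) (hx : ∀ y : Z, y ⤳ x.1 → y = x.1) :
    IsFiniteLength (Z.presheaf.stalk x.1) (Z.presheaf.stalk x.1) := by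
  haveI : IsNoetherianRing Γ(Z, U) := IsLocallyNoetherian.component_noetherian ⟨U, hU⟩
  haveI := hU.isLocalization_stalk x
  haveI : IsLocalizedModule (hU.primeIdealOf x).asIdeal.primeCompl
      (Algebra.linearMap Γ(Z, U) (Z.presheaf.stalk x.1)) :=
    (isLocalizedModule_iff_isLocalization).2 inferInstance
  refine isFiniteLength_localized (hU.primeIdealOf x).asIdeal (Z.presheaf.stalk x.1)
    (Algebra.linearMap Γ(Z, U) (Z.presheaf.stalk x.1)) ?_
  intro q hq _ hqP
  set Q : PrimeSpectrum Γ(Z, U) := ⟨q, hq⟩ with hQ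
  have hyU : hU.fromSpec Q ∈ U := by
    have := hU.range_fromSpec
    rw [← SetLike.mem_coe, ← this]
    exact Set.mem_range_self Q
  obtain ⟨y, hy⟩ : ∃ y : U, y.1 = hU.fromSpec Q := ⟨⟨_, hyU⟩, rfl⟩
  have hprime : hU.primeIdealOf y = Q := by
    apply hU.fromSpec.isOpenEmbedding.injective
    rw [hU.fromSpec_primeIdealOf y, hy]
  have hspec : y.1 ⤳ x.1 := by
    have h1 : Q ⤳ hU.primeIdealOf x :=
      (PrimeSpectrum.le_iff_specializes _ _).1 hqP
    have h2 := h1.map hU.fromSpec.continuous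
    rw [hU.fromSpec_primeIdealOf x, ← hy] at h2
    exact h2
  have hyx := hx _ hspec
  have : Q = hU.primeIdealOf x := by
    rw [← hprime]
    congr 1
    exact Subtype.ext hyx
  rw [← this]

/-- the local ring at a maximal point of a locally noetherian scheme has finite length -/
theorem isFiniteLength_stalk_self {Z : Scheme.{u}} [IsLocallyNoetherian Z] (x : Z)
    (hx : ∀ y : Z, y ⤳ x → y = x) :
    IsFiniteLength (Z.presheaf.stalk x) (Z.presheaf.stalk x) := by
  obtain ⟨_, ⟨U, hU, rfl⟩, hxU, -⟩ :=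
    Z.isBasis_affineOpens.exists_subset_of_mem_open (Set.mem_univ x) isOpen_univ
  exact isFiniteLength_stalk_self_aux hU ⟨x, hxU⟩ hx

/-- S6493 -/
theorem maximal_and_length_finite_of_delta_eq (X Z : Scheme.{u}) (δ : X → ℤ)
    (hX : Cyc.IsSetup X δ) (i : Z ⟶ X) [IsClosedImmersion i] (k : ℤ)
    (hZ : ∀ z : Z, δ (i z) ≤ k) (ξ : Z) (hξ : δ (i ξ) = k) :
    (∀ z : Z, z ⤳ ξ → z = ξ) ∧ ∀ ξ' : Z, (∀ z : Z, z ⤳ ξ' → z = ξ') →
      Module.length ↑(Z.presheaf.stalk ξ') ↑(Z.presheaf.stalk ξ') < ⊤ := by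
  haveI : IsLocallyNoetherian X := hX.1
  haveI : IsLocallyNoetherian Z := LocallyOfFiniteType.isLocallyNoetherian i
  refine ⟨fun z hz => ?_, fun ξ' hmax => ?_⟩
  · have h1 : i z ⤳ i ξ := hz.map i.continuous
    by_contra hne
    have hne' : i z ≠ i ξ := fun h => hne (i.isClosedEmbedding.injective h)
    have h2 := (hX.2.2 (i z) (i ξ) h1 hne').1
    have h3 := hZ z
    omega
  · rw [lt_top_iff_ne_top, Module.length_ne_top_iff]
    exact isFiniteLength_stalk_self ξ' hmax

end Groth.Agent.Helper1.FinLen
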