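import Mathlib
import Groth.Agent.Lib.Helper1.Dv39
import Groth.Agent.Lib.Helper1.Dv41
import Groth.Prelude.Def_Cyc

/-!
# The length of the stalk of `i_* O_Z` for a closed immersion (helper1)
-/

set_option autoImplicit false
universe u
open CategoryTheory CategoryTheory.Limits AlgebraicGeometry TopologicalSpace Opposite

namespace Groth.Agent.Helper1.FinLen

open Groth.Agent.Lead Groth.Agent.Helper1.Dv

variable {Z X : Scheme.{u}} (i : Z ⟶ X)

theorem germ_push_eq_zero_iff [IsClosedImmersion i] (z : Z) (W : X.Opens) (hzW : i z ∈ W)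
    (t : Γ(Z, i ⁻¹ᵁ W)) :
    ((Scheme.Modules.pushforward i).obj (Coh.structureModule Z)).presheaf.germ W (i z) hzW
        (show Γ((Scheme.Modules.pushforward i).obj (Coh.structureModule Z), W) from t) = 0 ↔
      Z.presheaf.germ (i ⁻¹ᵁ W) z hzW t = 0 := by
  set G := (Scheme.Modules.pushforward i).obj (Coh.structureModule Z) with hG
  constructor
  · intro h
    have h1 : G.presheaf.germ W (i z) hzW (show Γ(G, W) from t) =
        G.presheaf.germ W (i z) hzW 0 := by rw [h, map_zero]
    obtain ⟨W', hW', iU, iV, e⟩ := TopCat.Presheaf.germ_eq G.presheaf (i z) hzW hzW _ _ h1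
    have hle : W' ≤ W := leOfHom iU
    have e' : (Z.presheaf.map (homOfLE (i.preimage_mono hle)).op).hom t = 0 := by
      have h2 : G.presheaf.map iV.op (0 : Γ(G, W)) = 0 := map_zero _
      rw [h2] at e
      exact e
    rw [← TopCat.Presheaf.germ_res_apply Z.presheaf (homOfLE (i.preimage_mono hle)) z hW' t]
    rw [e', map_zero]
  · intro h
    have h1 : Z.presheaf.germ (i ⁻¹ᵁ W) z hzW t = Z.presheaf.germ (i ⁻¹ᵁ W) z hzW 0 := by
      rw [h, map_zero]
    obtain ⟨V, hV, iU, iV, e⟩ := TopCat.Presheaf.germ_eq Z.presheaf z hzW hzW _ _ h1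
    obtain ⟨W'', hW''o, hW''⟩ := i.isClosedEmbedding.isInducing.isOpen_iff.1 V.isOpen
    let W' : X.Opens := W ⊓ ⟨W'', hW''o⟩
    have hzW' : i z ∈ W' := by
      refine ⟨hzW, ?_⟩
      change z ∈ ⇑i ⁻¹' W''
      rw [hW'']
      exact hV
    have hle : i ⁻¹ᵁ W' ≤ V := by
      intro y hy
      have : y ∈ ⇑i ⁻¹' W'' := hy.2
      rw [hW''] at this
      exact this
    have hle' : W' ≤ W := inf_le_left
    have e' : (Z.presheaf.map (homOfLE (i.preimage_mono hle')).op).hom t = 0 := by
      have h2 : (Z.presheaf.map iV.op).hom (0 : Γ(Z, i ⁻¹ᵁ W)) = 0 := map_zero _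
      have e2 : (Z.presheaf.map iU.op).hom t = 0 := by
        rw [← h2]
        exact e
      have : (homOfLE (i.preimage_mono hle')).op = iU.op ≫ (homOfLE hle).op := rfl
      rw [this, Z.presheaf.map_comp]
      change (Z.presheaf.map (homOfLE hle).op).hom ((Z.presheaf.map iU.op).hom t) = 0
      rw [e2, map_zero]
    rw [← TopCat.Presheaf.germ_res_apply G.presheaf (homOfLE hle') (i z) hzW' _]
    have : G.presheaf.map (homOfLE hle').op (show Γ(G, W) from t) = 0 := e'
    rw [this, map_zero]

attribute [local instance] SD.stalkModule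

/-- the annihilator of the unit germ of `i_* O_Z` is the kernel of the stalk map -/
theorem smul_germ_oneSec_eq_zero_iff [IsClosedImmersion i] (z : Z) (a : X.presheaf.stalk (i z)) :
    a • ((Scheme.Modules.pushforward i).obj (Coh.structureModule Z)).presheaf.germ ⊤ (i z)
        (Set.mem_univ _) (oneSec i ⊤) = 0 ↔ (i.stalkMap z).hom a = 0 := by
  set G := (Scheme.Modules.pushforward i).obj (Coh.structureModule Z) with hG
  obtain ⟨V, hzV, s, rfl⟩ := TopCat.Presheaf.exists_germ_eq X.presheaf a
  have h3 : G.presheaf.germ ⊤ (i z) (Set.mem_univ _) (oneSec i ⊤) =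
      G.presheaf.germ V (i z) hzV (oneSec i V) := by
    rw [← TopCat.Presheaf.germ_res_apply G.presheaf (homOfLE (le_top : V ≤ ⊤)) (i z) hzV
      (oneSec i ⊤)]
    congr 1
    exact map_one (Z.presheaf.map (homOfLE (i.preimage_mono (le_top : V ≤ ⊤))).op).hom
  rw [h3, ← SD.germ_smul G (i z) V hzV s (oneSec i V), smul_oneSec]
  have h1 : Z.presheaf.germ (i ⁻¹ᵁ V) z hzV ((i.app V).hom s) =
      i.stalkMap z (X.presheaf.germ V (i z) hzV s) :=
    (Scheme.Hom.germ_stalkMap_apply i V z hzV s).symm
  rw [germ_push_eq_zero_iff i z V hzV ((i.app V).hom s), h1]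

/-- the length of the stalk of `i_* O_Z` at `i z` is the length of the local ring of `Z` at `z` -/
theorem length_stalk_push_structure [IsClosedImmersion i] (z : Z) :
    Module.length (X.presheaf.stalk (i z))
        (((Scheme.Modules.pushforward i).obj (Coh.structureModule Z)).presheaf.stalk (i z)) =
      Module.length (Z.presheaf.stalk z) (Z.presheaf.stalk z) := by
  set G := (Scheme.Modules.pushforward i).obj (Coh.structureModule Z) with hG
  set g := G.presheaf.germ ⊤ (i z) (Set.mem_univ _) (oneSec i ⊤) with hg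
  letI : Algebra (X.presheaf.stalk (i z)) (Z.presheaf.stalk z) := (i.stalkMap z).hom.toAlgebra
  have hsurj : Function.Surjective (algebraMap (X.presheaf.stalk (i z)) (Z.presheaf.stalk z)) :=
    i.stalkMap_surjective z
  rw [← Module.length_eq_of_surjective hsurj]
  let f1 : X.presheaf.stalk (i z) →ₗ[X.presheaf.stalk (i z)] G.presheaf.stalk (i z) :=
    LinearMap.toSpanSingleton _ _ g
  let f2 : X.presheaf.stalk (i z) →ₗ[X.presheaf.stalk (i z)] Z.presheaf.stalk z :=
    Algebra.linearMap _ _
  have hf1 : Function.Surjective f1 := by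
    intro v
    obtain ⟨a, ha⟩ := stalk_push_structure_cyclic i z v
    exact ⟨a, ha.symm⟩
  have hker : LinearMap.ker f1 = LinearMap.ker f2 := by
    ext a
    rw [LinearMap.mem_ker, LinearMap.mem_ker]
    exact smul_germ_oneSec_eq_zero_iff i z a
  have e1 := f1.quotKerEquivOfSurjective hf1
  have e2 := f2.quotKerEquivOfSurjective hsurj
  rw [← e1.length_eq, ← e2.length_eq, hker]

/-- S1899 -/
theorem subschemeFun_eq_sheafFun (X Z : Scheme.{u}) (δ : X → ℤ) (i : Z ⟶ X)
    [IsClosedImmersion i] (k : ℤ) :
    Cyc.subschemeFun δ k i =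
      Cyc.sheafFun δ k ((Coh.push i).obj (Coh.structureModule Z)) := by
  funext x
  unfold Cyc.subschemeFun Cyc.sheafFun
  by_cases hx : δ x = k
  · rw [if_pos hx, if_pos hx]
    by_cases hr : x ∈ Set.range ⇑i
    · obtain ⟨z, rfl⟩ := hr
      have hset : {z' : Z | i z' = i z} = {z} := by
        ext z'
        simp only [Set.mem_ofPred_eq, Set.mem_singleton_iff]
        exact ⟨fun h => i.isClosedEmbedding.injective h, fun h => by rw [h]⟩
      rw [hset, finsum_mem_singleton, length_stalk_push_structure i z]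
    · have hempty : {z' : Z | i z' = x} = ∅ := by
        ext z'
        simp only [Set.mem_ofPred_eq, Set.mem_empty_iff_false, iff_false]
        exact fun h => hr ⟨z', h⟩
      rw [hempty, finsum_mem_empty]
      have hns : x ∉ CohB1.support ((Scheme.Modules.pushforward i).obj (Coh.structureModule Z)) :=
        fun h => hr (support_push_subset_of_isClosed_range i _ i.isClosedEmbedding.isClosed_range h)
      have hsub : Subsingleton
          (((Scheme.Modules.pushforward i).obj (Coh.structureModule Z)).presheaf.stalk x) :=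
        not_not.1 hns
      rw [Module.length_eq_zero_iff.2 hsub]
      rfl
  · rw [if_neg hx, if_neg hx]

end Groth.Agent.Helper1.FinLen
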