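import Mathlib
import Groth.Prelude.Def_RelProj
import Groth.Agent.Lib.Helper1.PolyAlg
import Groth.Agent.Lib.Helper1.AffExt

set_option autoImplicit false
universe u
open CategoryTheory CategoryTheory.Limits AlgebraicGeometry TopologicalSpace Opposite
open scoped HomogeneousIdeal

/-!
# The polynomial algebra over a quasi-coherent algebra: general restrictions, global variables
-/

namespace Groth.Agent.Helper1.PolyAlg

open Groth.Agent.Helper1 MvPolynomial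

variable {S : Scheme.{u}} (𝒜 : RelSpec.QCAlg S) (σ : Type)

/-- local equality in `F` -/
theorem eq_of_locally (V : S.AffineZariskiSite) (a b : (F 𝒜 σ).obj (op V))
    (h : ∀ v ∈ V.1, ∃ (W : S.AffineZariskiSite) (i : W ⟶ V), v ∈ W.1 ∧
      ((F 𝒜 σ).map i.op).hom a = ((F 𝒜 σ).map i.op).hom b) : a = b := by
  rw [← sub_eq_zero]
  apply GrGlue.eq_zero_of_locally (coequifibered 𝒜 σ) V
  intro v hv
  obtain ⟨W, i, hvW, hab⟩ := h v hv
  refine ⟨W, i, hvW, ?_⟩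
  rw [map_sub, hab, sub_self]

/-- compatibility of the presentations with restriction between arbitrary affine opens -/
theorem sec_res_general {U V : S.AffineZariskiSite} (h : V.1 ≤ U.1)
    (x : MvPolynomial σ (𝒜.presheaf.obj (op U.1))) :
    ((poly 𝒜 σ).presheaf.map (homOfLE h).op).hom (sec 𝒜 σ U x) =
      sec 𝒜 σ V (MvPolynomial.map (𝒜.presheaf.map (homOfLE h).op).hom x) := by
  apply (sec 𝒜 σ V).symm.injective
  rw [RingEquiv.symm_apply_apply]
  apply eq_of_locally 𝒜 σ V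
  intro v hv
  obtain ⟨f, g, e, hvf⟩ := AffExt.exists_basic_both U.2 V.2 (h hv) hv
  let W : S.AffineZariskiSite := ⟨S.basicOpen g, V.2.basicOpen g⟩
  let iV : W ⟶ V := homOfLE ⟨g, rfl⟩
  let iU : W ⟶ U := homOfLE ⟨f, e⟩
  refine ⟨W, iV, (show v ∈ S.basicOpen g from e ▸ hvf), ?_⟩
  have h0 := GrGlue.secEquiv_symm_res (coequifibered 𝒜 σ) iV
    (((poly 𝒜 σ).presheaf.map (homOfLE h).op).hom (sec 𝒜 σ U x))
  refine h0.symm.trans ?_
  have h1 : ((poly 𝒜 σ).presheaf.map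
      (homOfLE (Scheme.AffineZariskiSite.toOpens_mono iV.le)).op).hom
      (((poly 𝒜 σ).presheaf.map (homOfLE h).op).hom (sec 𝒜 σ U x)) =
      ((poly 𝒜 σ).presheaf.map
        (homOfLE (Scheme.AffineZariskiSite.toOpens_mono iU.le)).op).hom (sec 𝒜 σ U x) := by
    change ((poly 𝒜 σ).presheaf.map (homOfLE h).op ≫ (poly 𝒜 σ).presheaf.map _).hom _ = _
    rw [← Functor.map_comp]
    rfl
  have h2 := sec_res 𝒜 σ iU x
  refine (congrArg (sec 𝒜 σ W).symm (h1.trans h2)).trans ?_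
  rw [RingEquiv.symm_apply_apply, F_map_apply, MvPolynomial.map_map]
  congr 2
  change _ = ((𝒜.presheaf.map (homOfLE h).op ≫ 𝒜.presheaf.map _).hom : _ →+* _)
  rw [← Functor.map_comp]
  rfl


/-- the inclusion of constants -/
noncomputable def ιHom : 𝒜 ⟶ (poly 𝒜 σ).toQCAlg :=
  GrGlue.homInto (coequifibered 𝒜 σ) 𝒜 (c 𝒜 σ) (fun _ => rfl)

theorem ιHom_apply (U : S.AffineZariskiSite) (a : 𝒜.presheaf.obj (op U.1)) :
    ((ιHom 𝒜 σ).hom.app (op U.1)).hom a = sec 𝒜 σ U (C a) :=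
  GrGlue.homInto_apply (coequifibered 𝒜 σ) 𝒜 (c 𝒜 σ) (fun _ => rfl) U a

/-- the variables are global sections -/
theorem exists_global (k : σ) : ∃ z : (poly 𝒜 σ).presheaf.obj (op ⊤),
    ∀ (U : S.Opens) (hU : IsAffineOpen U),
      ((poly 𝒜 σ).presheaf.map (homOfLE le_top).op).hom z = sec 𝒜 σ ⟨U, hU⟩ (X k) := by
  let Fsh : TopCat.Sheaf CommRingCat.{u} S.carrier := ⟨(poly 𝒜 σ).presheaf, (poly 𝒜 σ).isSheaf⟩
  let Uf : S.affineOpens → Opens S := fun U => U.1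
  let sf : ∀ U : S.affineOpens, (poly 𝒜 σ).presheaf.obj (op U.1) :=
    fun U => sec 𝒜 σ ⟨U.1, U.2⟩ (X k)
  have hcompat : TopCat.Presheaf.IsCompatible Fsh.1 Uf sf := by
    intro U V
    refine Fsh.eq_of_locally_eq' (fun W : {W : S.affineOpens // W.1 ≤ U.1 ⊓ V.1} => W.1.1)
      (U.1 ⊓ V.1) (fun W => homOfLE W.2) ?_ _ _ ?_
    · intro x hx
      obtain ⟨_, ⟨W, hW : IsAffineOpen W, rfl⟩, hxW, hWUV⟩ :=
        (S.isBasis_affineOpens).exists_subset_of_mem_open hx (U.1 ⊓ V.1).isOpen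
      exact Opens.mem_iSup.mpr ⟨⟨⟨W, hW⟩, hWUV⟩, hxW⟩
    · rintro ⟨W, hW⟩
      have hWU : W.1 ≤ U.1 := hW.trans inf_le_left
      have hWV : W.1 ≤ V.1 := hW.trans inf_le_right
      have h1 := sec_res_general 𝒜 σ (U := ⟨U.1, U.2⟩) (V := ⟨W.1, W.2⟩) hWU (X k)
      have h2 := sec_res_general 𝒜 σ (U := ⟨V.1, V.2⟩) (V := ⟨W.1, W.2⟩) hWV (X k)
      rw [MvPolynomial.map_X] at h1 h2
      change ((poly 𝒜 σ).presheaf.map _ ≫ (poly 𝒜 σ).presheaf.map _).hom _ =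
        ((poly 𝒜 σ).presheaf.map _ ≫ (poly 𝒜 σ).presheaf.map _).hom _
      rw [← Functor.map_comp, ← Functor.map_comp]
      exact h1.trans h2.symm
  obtain ⟨z, hz, -⟩ := Fsh.existsUnique_gluing' Uf ⊤ (fun U => homOfLE le_top) (by
    intro x _
    have : x ∈ (⨆ i : S.affineOpens, (i : S.Opens)) := by
      rw [iSup_affineOpens_eq_top]; trivial
    exact this) sf hcompat
  exact ⟨z, fun U hU => hz ⟨U, hU⟩⟩

end Groth.Agent.Helper1.PolyAlg
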