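import Mathlib
import Groth.Prelude.Def_RelProj

/-!
# The trivial grading (everything in degree zero) (helper1 library)
-/

universe u

open CategoryTheory CategoryTheory.Limits AlgebraicGeometry TopologicalSpace Opposite

namespace Groth.Agent.Helper1.TrivGr

section Ring
variable (A : Type*) [CommRing A]

/-- the trivial grading -/
def gr : ℕ → AddSubgroup A := fun d => if d = 0 then ⊤ else ⊥

variable {A}

theorem mem_gr_zero (a : A) : a ∈ gr A 0 := by
  simp [gr]

theorem eq_zero_of_mem_gr {d : ℕ} (hd : d ≠ 0) {a : A} (ha : a ∈ gr A d) : a = 0 := by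
  simpa [gr, hd] using ha

instance : SetLike.GradedMonoid (gr A) where
  one_mem := mem_gr_zero 1
  mul_mem := by
    intro i j a b ha hb
    by_cases hi : i = 0
    · by_cases hj : j = 0
      · subst hi hj
        exact mem_gr_zero _
      · rw [eq_zero_of_mem_gr hj hb, mul_zero]
        exact zero_mem _
    · rw [eq_zero_of_mem_gr hi ha, zero_mul]
      exact zero_mem _

/-- the inclusion into degree zero -/
def toZero : A →+ gr A 0 where
  toFun a := ⟨a, mem_gr_zero a⟩
  map_zero' := rfl
  map_add' _ _ := rfl

open DirectSum in
noncomputable instance : DirectSum.Decomposition (gr A) := by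
  classical
  refine DirectSum.Decomposition.ofAddHom (gr A)
    ((DirectSum.of (fun i => gr A i) 0).comp toZero) ?_ ?_
  · ext a
    simp [toZero]
  · refine DirectSum.addHom_ext fun i x => ?_
    simp only [AddMonoidHom.comp_apply, DirectSum.coeAddMonoidHom_of, AddMonoidHom.id_apply]
    by_cases hi : i = 0
    · subst hi
      rfl
    · have hx : x = 0 := Subtype.ext (eq_zero_of_mem_gr hi x.2)
      subst hx
      simp only [toZero, ZeroMemClass.coe_zero, map_zero]

noncomputable instance : GradedRing (gr A) where

end Ring

section Sch
variable {Y : Scheme.{u}} (𝒜 : RelSpec.QCAlg Y)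

/-- a quasi-coherent algebra as a graded algebra concentrated in degree zero -/
noncomputable def alg : RelProj.QCGrAlg Y where
  toQCAlg := 𝒜
  deg U _ := gr (𝒜.presheaf.obj (op U))
  graded U _ := inferInstance
  map_mem := by
    intro U V hU hV i d x hx
    by_cases hd : d = 0
    · subst hd
      exact mem_gr_zero _
    · rw [eq_zero_of_mem_gr hd hx, map_zero]
      exact zero_mem _
  str_mem U hU r := mem_gr_zero _

end Sch

end Groth.Agent.Helper1.TrivGr
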