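import Mathlib
import Groth.Prelude.Def_RelSpec2
import Groth.Agent.Lib.Helper1.TrivGr
import Groth.Agent.Lib.Helper1.RelCone5

/-!
# `Spec 𝒜 ≅ Proj 𝒜[T]` (helper1 library)
-/

universe u

open CategoryTheory CategoryTheory.Limits AlgebraicGeometry TopologicalSpace Opposite Polynomial
open scoped HomogeneousIdeal

namespace Groth.Agent.Helper1.SpecProjPoly

open Groth.Agent.Helper1.RelCone3 Groth.Agent.Helper1.RelCone4 Groth.Agent.Helper1.RelCone5

section
variable {Y P : Scheme.{u}} (𝒜 : RelSpec.QCAlg Y) (Sh : RelProj.QCGrAlg Y)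
  (ι : 𝒜 ⟶ Sh.toQCAlg)
  (hι : ∀ (U : Y.Opens) (hU : IsAffineOpen U) (a : 𝒜.presheaf.obj (op U)),
    (ι.hom.app (op U)).hom a ∈ Sh.deg U hU 0)
  (z : Sh.presheaf.obj (op ⊤))
  (hz : ∀ (U : Y.Opens) (hU : IsAffineOpen U),
    (Sh.presheaf.map (homOfLE le_top).op).hom z ∈ Sh.deg U hU 1)
  (hpoly : ∀ (U : Y.Opens) (hU : IsAffineOpen U),
    Function.Bijective (Polynomial.eval₂RingHom (ι.hom.app (op U)).hom
      ((Sh.presheaf.map (homOfLE le_top).op).hom z)))

include hι hz hpoly in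
theorem isPolyOver : RelCone.IsPolyOver (TrivGr.alg 𝒜) Sh ι z where
  graded := by
    intro U hU d x hx
    by_cases hd : d = 0
    · subst hd
      exact hι U hU x
    · have : x = 0 := TrivGr.eq_zero_of_mem_gr hd hx
      rw [this, map_zero]
      exact zero_mem _
  deg_z := hz
  bij := hpoly

variable (p : P ⟶ Y)
  (chart : ∀ (U : Y.Opens) (hU : IsAffineOpen U),
    (((p ⁻¹ᵁ U : P.Opens) : Scheme.{u}) ≅ Proj (Sh.deg U hU)))
  (hP : RelProj.IsRelProj Sh p chart)
  (θ : ∀ (U : Y.Opens) (hU : IsAffineOpen U),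
    CommRingCat.of (HomogeneousLocalization.Away (Sh.deg U hU)
      ((Sh.presheaf.map (homOfLE le_top).op).hom z)) ⟶ 𝒜.presheaf.obj (op U))
  (hθ : ∀ (U : Y.Opens) (hU : IsAffineOpen U)
    (q : HomogeneousLocalization.Away (Sh.deg U hU) ((Sh.presheaf.map (homOfLE le_top).op).hom z))
    (k : ℕ) (a : 𝒜.presheaf.obj (op U)),
      q.val = Localization.mk ((ι.hom.app (op U)).hom a *
          (Sh.presheaf.map (homOfLE le_top).op).hom z ^ k)
        ⟨(Sh.presheaf.map (homOfLE le_top).op).hom z ^ k,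
          pow_mem (Submonoid.mem_powers ((Sh.presheaf.map (homOfLE le_top).op).hom z)) k⟩ →
      (θ U hU).hom q = a)

include hθ in
theorem θ_eq' (U : Y.Opens) (hU : IsAffineOpen U) :
    θ U hU = CommRingCat.ofHom ((isPolyOver 𝒜 Sh ι hι z hz hpoly).awayZToBase U hU) := by
  refine RelCone5.θ_eq (isPolyOver 𝒜 Sh ι hι z hz hpoly) U hU (θ U hU) ?_
  intro q k x hx hq
  by_cases hk : k = 0
  · subst hk
    refine hθ U hU q 0 x ?_
    rw [hq]
    congr 1
    rw [pow_zero, mul_one]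
    rfl
  · have hx0 : x = 0 := TrivGr.eq_zero_of_mem_gr hk hx
    subst hx0
    refine hθ U hU q k 0 ?_
    have e1 : (ι.hom.app (op U)).hom (0 : 𝒜.presheaf.obj (op U)) = 0 := map_zero _
    rw [hq]
    show Localization.mk ((ι.hom.app (op U)).hom (0 : 𝒜.presheaf.obj (op U))) _ =
      Localization.mk ((ι.hom.app (op U)).hom (0 : 𝒜.presheaf.obj (op U)) * _) _
    rw [e1, zero_mul]

include hι hpoly in
theorem not_mem (U : Y.Opens) (hU : IsAffineOpen U) (x : Proj (Sh.deg U hU)) :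
    RelCone.restrictTop Sh z U ∉ x.asHomogeneousIdeal := by
  classical
  intro hzx
  apply x.not_irrelevant_le
  rw [HomogeneousIdeal.irrelevant_le]
  intro k hk b hb
  change b ∈ x.asHomogeneousIdeal
  obtain ⟨q, rfl⟩ := (hpoly U hU).2 b
  set zU := (Sh.presheaf.map (homOfLE le_top).op).hom z with hzU
  have hq : q = q.divX * X + C (q.coeff 0) := (Polynomial.divX_mul_X_add q).symm
  have hb' : (eval₂RingHom (ι.hom.app (op U)).hom zU) q =
      eval₂ (ι.hom.app (op U)).hom zU q.divX * zU + (ι.hom.app (op U)).hom (q.coeff 0) := by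
    conv_lhs => rw [hq]
    simp
  have h1 : eval₂ (ι.hom.app (op U)).hom zU q.divX * zU ∈ x.asHomogeneousIdeal :=
    Ideal.mul_mem_left _ _ hzx
  have h2 := x.asHomogeneousIdeal.isHomogeneous k h1
  have h3 : (DirectSum.decompose (Sh.deg U hU) ((ι.hom.app (op U)).hom (q.coeff 0)) k :
      Sh.presheaf.obj (op U)) = 0 := by
    rw [DirectSum.decompose_of_mem_ne (Sh.deg U hU) (hι U hU _) (Nat.pos_iff_ne_zero.mp hk).symm]
  have h4 : (DirectSum.decompose (Sh.deg U hU)
      ((eval₂RingHom (ι.hom.app (op U)).hom zU) q) k : Sh.presheaf.obj (op U)) =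
      (eval₂RingHom (ι.hom.app (op U)).hom zU) q := by
    rw [DirectSum.decompose_of_mem_same (Sh.deg U hU) hb]
  rw [← h4, hb', DirectSum.decompose_add, DirectSum.add_apply, AddMemClass.coe_add, h3, add_zero]
  exact h2

include hι hz hpoly hP hθ in
theorem main :
    (∃! i : 𝒜.spec ⟶ P, ∀ (U : Y.Opens) (hU : IsAffineOpen U),
        𝒜.ι U hU ≫ i =
          Spec.map (θ U hU) ≫
            Proj.awayι (Sh.deg U hU) ((Sh.presheaf.map (homOfLE le_top).op).hom z) (hz U hU)
              one_pos ≫ RelProj.emb p chart U hU) ∧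
      ∀ i : 𝒜.spec ⟶ P, (∀ (U : Y.Opens) (hU : IsAffineOpen U),
        𝒜.ι U hU ≫ i =
          Spec.map (θ U hU) ≫
            Proj.awayι (Sh.deg U hU) ((Sh.presheaf.map (homOfLE le_top).op).hom z) (hz U hU)
              one_pos ≫ RelProj.emb p chart U hU) →
        IsIso i ∧ i ≫ p = 𝒜.π := by
  have h := isPolyOver 𝒜 Sh ι hι z hz hpoly
  have hiff : ∀ i : 𝒜.spec ⟶ P, (∀ (U : Y.Opens) (hU : IsAffineOpen U),
        𝒜.ι U hU ≫ i =
          Spec.map (θ U hU) ≫
            Proj.awayι (Sh.deg U hU) ((Sh.presheaf.map (homOfLE le_top).op).hom z) (hz U hU)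
              one_pos ≫ RelProj.emb p chart U hU) ↔
      RelCone.IsConeImm (TrivGr.alg 𝒜) h p chart i := by
    intro i
    constructor
    · intro H U hU
      rw [← θ_eq' 𝒜 Sh ι hι z hz hpoly θ hθ U hU]
      exact H U hU
    · intro H U hU
      rw [θ_eq' 𝒜 Sh ι hι z hz hpoly θ hθ U hU]
      exact H U hU
  refine ⟨?_, ?_⟩
  · obtain ⟨i, hi⟩ := RelCone5.exists_coneImm h hP
    refine ⟨i, (hiff i).mpr hi, fun i' hi' => ?_⟩
    exact RelCone5.coneImm_unique h ((hiff i').mp hi') hi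
  · intro i hi
    have hi' := (hiff i).mp hi
    refine ⟨?_, RelCone3.coneImm_comp h hP i hi'⟩
    have : IsOpenImmersion i := RelCone5.isOpenImmersion_coneImm h hP i hi'
    apply isIso_of_isOpenImmersion_of_opensRange_eq_top
    refine eq_top_iff.mpr fun c _ => ?_
    obtain ⟨U, (hU : IsAffineOpen U), hcU, -⟩ := Opens.isBasis_iff_nbhd.mp Y.isBasis_affineOpens
      (show p c ∈ (⊤ : Y.Opens) from trivial)
    have hc' : c ∈ Set.range (RelProj.emb p chart U hU) := by
      rw [RelCone3.range_emb]; exact hcU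
    obtain ⟨x, rfl⟩ := hc'
    exact (RelCone5.emb_mem_range_iff h U hU hP i hi' x).mpr
      (not_mem 𝒜 Sh ι hι z hpoly U hU x)

end

end Groth.Agent.Helper1.SpecProjPoly
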