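import Mathlib
import Groth.Prelude.Def_RelProj
import Groth.Agent.Lib.Helper1.PolyAlg2
import Groth.Agent.Lib.Helper1.AffSpecIso
import Groth.Agent.Lib.Helper1.SpecProjPoly
import Groth.Agent.Lib.Helper1.RP2

set_option autoImplicit false
universe u
open CategoryTheory CategoryTheory.Limits AlgebraicGeometry TopologicalSpace Opposite
open scoped HomogeneousIdeal

/-!
# Finite morphisms are projective
-/

namespace Groth.Agent.Helper1.FinProj

open Groth.Agent.Helper1 Groth.Agent.Helper1.RelCone3 Groth.Agent.Helper1.RelCone4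
  Groth.Agent.Helper1.RelCone5

section Gen
variable {Y P : Scheme.{u}} (𝒜 : RelSpec.QCAlg Y) (Sh : RelProj.QCGrAlg Y)
  (ι : 𝒜 ⟶ Sh.toQCAlg)
  (hι : ∀ (U : Y.Opens) (hU : IsAffineOpen U) (a : 𝒜.presheaf.obj (op U)),
    (ι.hom.app (op U)).hom a ∈ Sh.deg U hU 0)
  (z : Sh.presheaf.obj (op ⊤))
  (hz : ∀ (U : Y.Opens) (hU : IsAffineOpen U),
    (Sh.presheaf.map (homOfLE le_top).op).hom z ∈ Sh.deg U hU 1)
  (hpoly : ∀ (U : Y.Opens) (_ : IsAffineOpen U),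
    Function.Bijective (Polynomial.eval₂RingHom (ι.hom.app (op U)).hom
      ((Sh.presheaf.map (homOfLE le_top).op).hom z)))
  (p : P ⟶ Y)
  (chart : ∀ (U : Y.Opens) (hU : IsAffineOpen U),
    (((p ⁻¹ᵁ U : P.Opens) : Scheme.{u}) ≅ Proj (Sh.deg U hU)))
  (hP : RelProj.IsRelProj Sh p chart)

include hι hz hpoly hP in
/-- `Spec 𝒜 ≅ Proj 𝒜[T]` over the base, without auxiliary data -/
theorem exists_iso : ∃ i : 𝒜.spec ⟶ P, IsIso i ∧ i ≫ p = 𝒜.π := by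
  have h := SpecProjPoly.isPolyOver 𝒜 Sh ι hι z hz hpoly
  obtain ⟨i, hi⟩ : ∃ i : 𝒜.spec ⟶ P, RelCone.IsConeImm (TrivGr.alg 𝒜) h p chart i :=
    RelCone5.exists_coneImm h hP
  refine ⟨i, ?_, RelCone3.coneImm_comp h hP i hi⟩
  have : IsOpenImmersion i := RelCone5.isOpenImmersion_coneImm h hP i hi
  apply isIso_of_isOpenImmersion_of_opensRange_eq_top
  refine eq_top_iff.mpr fun c _ => ?_
  obtain ⟨U, (hU : IsAffineOpen U), hcU, -⟩ := Opens.isBasis_iff_nbhd.mp Y.isBasis_affineOpens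
    (show p c ∈ (⊤ : Y.Opens) from trivial)
  have hc' : c ∈ Set.range (RelProj.emb p chart U hU) := by
    rw [RelCone3.range_emb]; exact hcU
  obtain ⟨x, rfl⟩ := hc'
  exact (RelCone5.emb_mem_range_iff h U hU hP i hi x).mpr
    (SpecProjPoly.not_mem 𝒜 Sh ι hι z hpoly U hU x)

end Gen


section Poly
variable {Y : Scheme.{u}} (𝒜 : RelSpec.QCAlg Y)

theorem hι (U : Y.Opens) (hU : IsAffineOpen U) (a : 𝒜.presheaf.obj (op U)) :
    ((PolyAlg.ιHom 𝒜 Unit).hom.app (op U)).hom a ∈ (PolyAlg.poly 𝒜 Unit).deg U hU 0 := by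
  rw [PolyAlg.ιHom_apply 𝒜 Unit ⟨U, hU⟩ a]
  exact (PolyAlg.sec_mem_iff 𝒜 Unit ⟨U, hU⟩ 0 _).2 (MvPolynomial.isHomogeneous_C _ a)

theorem hpoly (U : Y.Opens) (hU : IsAffineOpen U) :
    Function.Bijective (Polynomial.eval₂RingHom ((PolyAlg.ιHom 𝒜 Unit).hom.app (op U)).hom
      (PolyAlg.sec 𝒜 Unit ⟨U, hU⟩ (MvPolynomial.X ()))) := by
  have heq : Polynomial.eval₂RingHom ((PolyAlg.ιHom 𝒜 Unit).hom.app (op U)).hom
      (PolyAlg.sec 𝒜 Unit ⟨U, hU⟩ (MvPolynomial.X ())) =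
      (PolyAlg.sec 𝒜 Unit ⟨U, hU⟩).toRingHom.comp
        (MvPolynomial.uniqueAlgEquiv (𝒜.presheaf.obj (op U)) Unit).symm.toAlgHom.toRingHom := by
    apply Polynomial.ringHom_ext
    · intro a
      rw [Polynomial.coe_eval₂RingHom, Polynomial.eval₂_C, PolyAlg.ιHom_apply 𝒜 Unit ⟨U, hU⟩ a]
      change _ = PolyAlg.sec 𝒜 Unit ⟨U, hU⟩
        ((MvPolynomial.uniqueAlgEquiv (𝒜.presheaf.obj (op U)) Unit).symm (Polynomial.C a))
      congr 1
      change _ = Polynomial.eval₂ MvPolynomial.C (MvPolynomial.X (default : Unit)) (Polynomial.C a)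
      rw [Polynomial.eval₂_C]
    · rw [Polynomial.coe_eval₂RingHom, Polynomial.eval₂_X]
      change _ = PolyAlg.sec 𝒜 Unit ⟨U, hU⟩
        ((MvPolynomial.uniqueAlgEquiv (𝒜.presheaf.obj (op U)) Unit).symm Polynomial.X)
      congr 1
      change _ = Polynomial.eval₂ MvPolynomial.C (MvPolynomial.X (default : Unit)) Polynomial.X
      rw [Polynomial.eval₂_X]
  rw [heq]
  exact (PolyAlg.sec 𝒜 Unit ⟨U, hU⟩).bijective.comp
    (MvPolynomial.uniqueAlgEquiv (𝒜.presheaf.obj (op U)) Unit).symm.bijective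

/-- **`Spec 𝒜` is the relative Proj of `𝒜[T]`** -/
theorem exists_iso_poly {P : Scheme.{u}} (p : P ⟶ Y)
    (chart : ∀ (U : Y.Opens) (hU : IsAffineOpen U),
      (((p ⁻¹ᵁ U : P.Opens) : Scheme.{u}) ≅ Proj ((PolyAlg.poly 𝒜 Unit).deg U hU)))
    (hP : RelProj.IsRelProj (PolyAlg.poly 𝒜 Unit) p chart) :
    ∃ i : 𝒜.spec ⟶ P, IsIso i ∧ i ≫ p = 𝒜.π := by
  obtain ⟨z, hz⟩ := PolyAlg.exists_global 𝒜 Unit ()
  refine exists_iso 𝒜 (PolyAlg.poly 𝒜 Unit) (PolyAlg.ιHom 𝒜 Unit) (hι 𝒜) z ?_ ?_ p chart hP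
  · intro U hU
    rw [hz U hU]
    exact (PolyAlg.sec_mem_iff 𝒜 Unit ⟨U, hU⟩ 1 _).2 (MvPolynomial.isHomogeneous_X _ ())
  · intro U hU
    rw [hz U hU]
    exact hpoly 𝒜 U hU

end Poly


section Fin
variable {X Y : Scheme.{u}} (f : X ⟶ Y) [IsFinite f]

/-- **S4452**: finite morphisms are projective -/
theorem isProjective_of_isFinite : RelProj.IsProjective f := by
  classical
  obtain ⟨P, p, chart, hP⟩ := RP2.exists_isRelProj (PolyAlg.poly (AffSpecIso.alg f) Unit)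
  obtain ⟨i, hi, hip⟩ := exists_iso_poly (AffSpecIso.alg f) p chart hP
  refine ⟨PolyAlg.poly (AffSpecIso.alg f) Unit, P, p, chart,
    (AffSpecIso.iso f).symm ≪≫ asIso i, PolyAlg.isGenDegOne _ _,
    PolyAlg.isFTDeg_one _ _ ?_, hP, ?_⟩
  · intro U hU
    have hfin : (f.app U).hom.Finite := IsFinite.finite_app f U hU
    letI := (f.app U).hom.toAlgebra
    have hmf : Module.Finite Γ(Y, U) Γ(X, f ⁻¹ᵁ U) := hfin
    obtain ⟨G, hG⟩ := hmf.fg_top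
    refine ⟨G, fun a => ?_⟩
    have ha : (show Γ(X, f ⁻¹ᵁ U) from a) ∈ Submodule.span Γ(Y, U) (G : Set Γ(X, f ⁻¹ᵁ U)) := by
      rw [hG]; trivial
    obtain ⟨c, -, hc⟩ := Submodule.mem_span_finset.1 ha
    refine ⟨c, ?_⟩
    refine hc.symm.trans ?_
    refine Finset.sum_congr rfl fun g _ => ?_
    rw [Algebra.smul_def]
    rfl
  · rw [Iso.trans_hom, Iso.symm_hom, asIso_hom, Category.assoc, hip, AffSpecIso.iso_inv_π]

end Fin

end Groth.Agent.Helper1.FinProj
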