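import Mathlib

set_option autoImplicit false
universe u
open CategoryTheory CategoryTheory.Limits AlgebraicGeometry TopologicalSpace Opposite

namespace Groth.Agent.Helper1.FinSpec

/-- if `x` has an affine open neighbourhood all of whose points specialize to `x`, then
`Spec 𝒪_{X,x} ⟶ X` is an open immersion -/
theorem isOpenImmersion_fromSpecStalk_of_forall_specializes {X : Scheme.{u}} (x : X)
    (D : X.Opens) (hD : IsAffineOpen D) (hx : x ∈ D) (h : ∀ y ∈ D, y ⤳ x) :
    IsOpenImmersion (X.fromSpecStalk x) := by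
  rw [← hD.fromSpecStalk_eq_fromSpecStalk hx, IsAffineOpen.fromSpecStalk]
  suffices hiso : IsIso (X.presheaf.germ D x hx) by infer_instance
  letI : Algebra Γ(X, D) (X.presheaf.stalk x) := (X.presheaf.germ D x hx).hom.toAlgebra
  haveI := hD.isLocalization_stalk ⟨x, hx⟩
  rw [ConcreteCategory.isIso_iff_bijective]
  have hunits : (hD.primeIdealOf ⟨x, hx⟩).asIdeal.primeCompl ≤ IsUnit.submonoid Γ(X, D) := by
    intro s hs
    by_contra hns
    obtain ⟨m, hm, hsm⟩ := exists_max_ideal_of_mem_nonunits hns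
    let ym : ↥(Spec Γ(X, D)) := (⟨m, hm.isPrime⟩ : PrimeSpectrum Γ(X, D))
    have h1 : hD.fromSpec ym ∈ D := by
      have := hD.range_fromSpec
      have h' : hD.fromSpec ym ∈ Set.range hD.fromSpec := ⟨ym, rfl⟩
      rw [this] at h'
      exact h'
    have h2 : hD.fromSpec ym ⤳ x := h _ h1
    have h3 : ym ⤳ hD.primeIdealOf ⟨x, hx⟩ := by
      rw [← hD.fromSpec.isOpenEmbedding.isInducing.specializes_iff, hD.fromSpec_primeIdealOf]
      exact h2
    have h4 : (⟨m, hm.isPrime⟩ : PrimeSpectrum Γ(X, D)) ≤ hD.primeIdealOf ⟨x, hx⟩ :=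
      (PrimeSpectrum.le_iff_specializes _ _).2 h3
    exact hs (h4 hsm)
  exact (IsLocalization.atUnits Γ(X, D) _ hunits).bijective

end Groth.Agent.Helper1.FinSpec
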