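import Mathlib
import Groth.Agent.Lib.Helper1.FinSpec1

set_option autoImplicit false
universe u
open CategoryTheory CategoryTheory.Limits AlgebraicGeometry TopologicalSpace Opposite

namespace Groth.Agent.Helper1.FinSpec

/-- A locally quasi-finite scheme over a finite base: affine opens are finite sets. -/
theorem finite_of_affine_of_locallyQuasiFinite {X S : Scheme.{u}} (f : X ⟶ S)
    [LocallyQuasiFinite f] [Finite S] (U : X.Opens) (hU : IsAffineOpen U) :
    (U : Set X).Finite := by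
  haveI : IsAffine U.toScheme := hU
  haveI : QuasiCompact (U.ι ≫ f) := quasiCompact_of_compactSpace _
  have h1 : ∀ s : S, ((U.ι ≫ f) ⁻¹' {s}).Finite := fun s =>
    Scheme.Hom.finite_preimage_singleton (U.ι ≫ f) s
  have h2 : (Set.univ : Set U.toScheme).Finite := by
    have : (Set.univ : Set U.toScheme) = ⋃ s : S, (U.ι ≫ f) ⁻¹' {s} := by
      ext y; simp
    rw [this]
    exact Set.finite_iUnion h1
  have h3 : (U : Set X) = U.ι '' Set.univ := by
    rw [Set.image_univ, Scheme.Opens.range_ι]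
  rw [h3]
  exact h2.image _

theorem isOpenImmersion_fromSpecStalk_of_finite {X S : Scheme.{u}} (f : X ⟶ S)
    [LocallyQuasiFinite f] [Finite S] (x : X) :
    IsOpenImmersion (X.fromSpecStalk x) := by
  obtain ⟨U₀, hU₀, hxU₀⟩ : ∃ U : X.Opens, IsAffineOpen U ∧ x ∈ U := by
    obtain ⟨U, hU, hxU, -⟩ := (X.isBasis_affineOpens).exists_subset_of_mem_open
      (Set.mem_univ x) isOpen_univ
    obtain ⟨V, hV, rfl⟩ := hU
    exact ⟨V, hV, hxU⟩
  have hfin := finite_of_affine_of_locallyQuasiFinite f U₀ hU₀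
  -- the bad set
  let B : Set X := ⋃ y ∈ {y : X | y ∈ U₀ ∧ ¬ y ⤳ x}, closure {y}
  have hBfin : {y : X | y ∈ U₀ ∧ ¬ y ⤳ x}.Finite := hfin.subset (fun y hy => hy.1)
  have hBclosed : IsClosed B := hBfin.isClosed_biUnion (fun y _ => isClosed_closure)
  have hxB : x ∉ B := by
    intro hx
    simp only [B, Set.mem_iUnion] at hx
    obtain ⟨y, ⟨-, hy⟩, hxy⟩ := hx
    exact hy (specializes_iff_mem_closure.2 hxy)
  let G : X.Opens := U₀ ⊓ ⟨Bᶜ, hBclosed.isOpen_compl⟩
  have hxG : x ∈ G := ⟨hxU₀, hxB⟩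
  obtain ⟨g, hgG, hxg⟩ := hU₀.exists_basicOpen_le (V := G) ⟨x, hxG⟩ hxU₀
  refine isOpenImmersion_fromSpecStalk_of_forall_specializes x (X.basicOpen g)
    (hU₀.basicOpen g) hxg ?_
  intro y hy
  by_contra hyx
  have hyG : y ∈ G := hgG hy
  have : y ∈ B := by
    simp only [B, Set.mem_iUnion]
    exact ⟨y, ⟨hyG.1, hyx⟩, subset_closure rfl⟩
  exact hyG.2 this

end Groth.Agent.Helper1.FinSpec
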