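import Mathlib
import Groth.Agent.Lib.Helper1.TorL

universe u
open CategoryTheory MonoidalCategory Limits

namespace Groth.Agent.Helper1.FlatCyc
open Groth.Agent.Helper1.TorL
variable {A : Type u} [CommRing A]

theorem flat_X₁ (S : ShortComplex (ModuleCat.{u} A)) (hS : S.ShortExact)
    (h₂ : Module.Flat A S.X₂) (h₃ : Module.Flat A S.X₃) : Module.Flat A S.X₁ := by
  rw [flat_iff_tor_one_quotient]
  intro I _
  exact isZero_tor_X₁ S hS _ 1 (isZero_tor_succ_of_flat _ _ 1) (isZero_tor_succ_of_flat _ _ 0)

variable (F : CochainComplex (ModuleCat.{u} A) ℤ)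

theorem iCycles_toCycles (p : ℤ) : F.iCycles p ≫ F.toCycles p (p + 1) = 0 := by
  rw [← cancel_mono (F.iCycles (p + 1)), Category.assoc, F.toCycles_i, F.iCycles_d, zero_comp]

theorem cycSC_shortExact (p : ℤ) (h : IsZero (F.homology (p + 1))) :
    (ShortComplex.mk (F.iCycles p) (F.toCycles p (p + 1)) (iCycles_toCycles F p)).ShortExact := by
  have hnext : (ComplexShape.up ℤ).next p = p + 1 := by simp
  have hprev : (ComplexShape.up ℤ).prev (p + 1) = p := by simp
  have hepi : Epi (F.toCycles p (p + 1)) := by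
    have hex : (ShortComplex.mk (F.toCycles p (p + 1)) (F.homologyπ (p + 1))
        (F.toCycles_comp_homologyπ p (p + 1))).Exact :=
      ShortComplex.exact_of_g_is_cokernel _ (F.homologyIsCokernel p (p + 1) hprev)
    exact hex.epi_f (h.eq_of_tgt _ _)
  have hex : (ShortComplex.mk (F.iCycles p) (F.toCycles p (p + 1)) (iCycles_toCycles F p)).Exact := by
    have hex2 : (ShortComplex.mk (F.iCycles p) (F.d p (p + 1)) (F.iCycles_d p (p + 1))).Exact :=
      ShortComplex.exact_of_f_is_kernel _ (F.cyclesIsKernel p (p + 1) hnext)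
    let φ : ShortComplex.mk (F.iCycles p) (F.toCycles p (p + 1)) (iCycles_toCycles F p) ⟶
        ShortComplex.mk (F.iCycles p) (F.d p (p + 1)) (F.iCycles_d p (p + 1)) :=
      { τ₁ := 𝟙 _, τ₂ := 𝟙 _, τ₃ := F.iCycles (p + 1)
        comm₁₂ := by simp
        comm₂₃ := by simp }
    have : Epi φ.τ₁ := by dsimp [φ]; infer_instance
    have : IsIso φ.τ₂ := by dsimp [φ]; infer_instance
    have : Mono φ.τ₃ := by dsimp [φ]; infer_instance
    exact (ShortComplex.exact_iff_of_epi_of_isIso_of_mono φ).mpr hex2
  exact { exact := hex, mono_f := by dsimp; infer_instance, epi_g := hepi }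

theorem main (hF : ∀ i, Module.Flat A (F.X i))
    (hb : ∃ b : ℤ, ∀ i, b < i → IsZero (F.X i)) (d : ℤ) (hac : ∀ p, d < p → IsZero (F.homology p)) :
    Module.Flat A (F.cycles d) := by
  obtain ⟨b, hb⟩ := hb
  have key : ∀ (k : ℕ) (p : ℤ), d ≤ p → b - k < p → Module.Flat A (F.cycles p) := by
    intro k
    induction k with
    | zero =>
      intro p _ hp
      have hz : IsZero (F.cycles p) := by
        have h0 := hb p (by simpa using hp)
        exact IsZero.of_mono (F.iCycles p) h0
      have : Subsingleton (F.cycles p) := ModuleCat.subsingleton_of_isZero hz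
      infer_instance
    | succ k ih =>
      intro p hdp hp
      have h1 : Module.Flat A (F.cycles (p + 1)) := ih (p + 1) (by omega) (by push_cast at hp ⊢; omega)
      have hS := cycSC_shortExact F p (hac (p + 1) (by omega))
      exact flat_X₁ _ hS (hF p) h1
  exact key (b - d + 1).toNat d le_rfl (by omega)

end Groth.Agent.Helper1.FlatCyc
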