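import Mathlib
import Groth.Agent.Lib.Helper1.LocalCrit

set_option autoImplicit false
universe u
namespace Groth.Agent.Helper1.FlatDesc

open TensorProduct Groth.Agent.Helper1.LocalCrit

section Crit

/-- Local criterion: flatness over a cofinal system of Artinian quotients. -/
theorem flat_of_forall_exists_le_pow (A B M : Type u) [CommRing A] [CommRing B]
    [IsNoetherianRing A] [IsLocalRing A]
    [IsNoetherianRing B] [IsLocalRing B] [Algebra A B] [IsLocalHom (algebraMap A B)]
    [AddCommGroup M] [Module A M] [Module B M] [IsScalarTower A B M] [Module.Finite B M]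
    (H : ∀ n : ℕ, ∃ J : Ideal A, J ≤ IsLocalRing.maximalIdeal A ^ n ∧
      Module.Flat (A ⧸ J) ((A ⧸ J) ⊗[A] M)) : Module.Flat A M := by
  set m := IsLocalRing.maximalIdeal A with hm
  have hmap : m.map (algebraMap A B) ≠ ⊤ :=
    map_ne_top_of_isLocalHom m (IsLocalRing.maximalIdeal.isMaximal A).ne_top
  have : Module.Flat (A ⧸ m) ((A ⧸ m) ⊗[A] M) := by
    let _ : Field (A ⧸ m) := Ideal.Quotient.field m
    infer_instance
  refine flat_of_rTensor_injective_of_flat_quotient (R := A) (S := B) (M := M) m hmap ?_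
  rw [injective_iff_map_eq_zero]
  intro x hx
  have hmem : ∀ n : ℕ, x ∈ m ^ n • (⊤ : Submodule A (m ⊗[A] M)) := by
    intro n
    obtain ⟨J, hJ, hflat⟩ := H (n + 1)
    have hF : ∀ Q : Submodule A (A ⧸ J), Function.Injective (Q.subtype.rTensor M) := fun Q =>
      rTensor_subtype_injective_of_surjective (A ⧸ J) M Ideal.Quotient.mk_surjective Q
    have hmem := mem_range_rTensor_ker M (Submodule.mkQ J) hF m x hx
    refine range_rTensor_subtype_le_smul_top M (m ^ n) _ ?_ hmem
    intro y hy
    have hy' : (y : A) ∈ J := by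
      have := LinearMap.mem_ker.mp hy
      rw [LinearMap.comp_apply, Submodule.mkQ_apply, Submodule.Quotient.mk_eq_zero] at this
      exact this
    have h2 : (y : A) ∈ m ^ n • (m : Submodule A A) := by
      have := hJ hy'
      rwa [pow_succ] at this
    have h3 : m ^ n • (m : Submodule A A) =
        Submodule.map m.subtype (m ^ n • (⊤ : Submodule A m)) := by
      rw [Submodule.map_smul'', Submodule.map_subtype_top]
    rw [h3] at h2
    obtain ⟨y', hy'', hyy'⟩ := h2
    have : y' = y := Subtype.ext hyy'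
    rw [← this]
    exact hy''
  have hfin : Module.Finite A m := Module.Finite.of_fg (IsNoetherian.noetherian m)
  have := finite_tensorProduct (R := A) (S := B) M m
  have h0 : TensorProduct.comm A m M x = 0 := by
    apply iInf_pow_smul_top_eq_bot (S := B) m hmap (M ⊗[A] m)
    intro n
    have h3 : Submodule.map (TensorProduct.comm A m M).toLinearMap
        (m ^ n • (⊤ : Submodule A (m ⊗[A] M))) = m ^ n • ⊤ := by
      rw [Submodule.map_smul'', Submodule.map_top, LinearEquiv.range]
    rw [← h3]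
    exact Submodule.mem_map_of_mem (hmem n)
  exact (TensorProduct.comm A m M).injective (by rw [h0, map_zero])

end Crit

theorem isArtinianRing_quotient_of_pow_le {A : Type u} [CommRing A] [IsNoetherianRing A]
    [IsLocalRing A] (J : Ideal A) (hJ : J ≠ ⊤) (N : ℕ) (hN : IsLocalRing.maximalIdeal A ^ N ≤ J) :
    IsArtinianRing (A ⧸ J) := by
  have : Nontrivial (A ⧸ J) := Ideal.Quotient.nontrivial_iff.mpr hJ
  have := IsLocalRing.of_surjective' (Ideal.Quotient.mk J) Ideal.Quotient.mk_surjective
  have := IsLocalHom.of_surjective (Ideal.Quotient.mk J) Ideal.Quotient.mk_surjective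
  rw [isArtinianRing_iff_isNilpotent_maximalIdeal]
  have hmap : (IsLocalRing.maximalIdeal A).map (Ideal.Quotient.mk J) =
      IsLocalRing.maximalIdeal (A ⧸ J) := by
    ext x
    obtain ⟨x, rfl⟩ := Ideal.Quotient.mk_surjective x
    simp [sup_eq_left.mpr (IsLocalRing.le_maximalIdeal hJ)]
  refine ⟨N, ?_⟩
  rw [← hmap, ← Ideal.map_pow, Ideal.zero_eq_bot, Ideal.map_eq_bot_iff_le_ker, Ideal.mk_ker]
  exact hN

section Desc
variable (A B A' : Type u) [CommRing A] [CommRing B] [CommRing A'] [IsNoetherianRing A]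
  [IsLocalRing A] [IsNoetherianRing B] [IsLocalRing B] [Algebra A B]
  [IsLocalHom (algebraMap A B)] [Algebra A A']

/-- General descent: if the `m`-adic topology of `A` is induced from ideals of `A'`. -/
theorem flat_of_flat_baseChange_of_cofinal [Module.Flat A' (A' ⊗[A] B)]
    (H : ∀ n : ℕ, ∃ (K : Ideal A') (N : ℕ),
      K.comap (algebraMap A A') ≤ IsLocalRing.maximalIdeal A ^ (n + 1) ∧
      IsLocalRing.maximalIdeal A ^ N ≤ K.comap (algebraMap A A')) : Module.Flat A B := by
  have Hn : ∀ n : ℕ, ∃ J : Ideal A, J ≤ IsLocalRing.maximalIdeal A ^ n ∧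
      Module.Flat (A ⧸ J) ((A ⧸ J) ⊗[A] B) := by
    intro n
    obtain ⟨K, N, hK1, hK2⟩ := H n
    set J := K.comap (algebraMap A A') with hJ
    refine ⟨J, hK1.trans (Ideal.pow_le_pow_right (Nat.le_succ n)), ?_⟩
    have hJtop : J ≠ ⊤ := by
      intro h
      have h1 : (⊤ : Ideal A) ≤ IsLocalRing.maximalIdeal A := by
        rw [← h]
        exact hK1.trans (Ideal.pow_le_self (Nat.succ_ne_zero n))
      exact (IsLocalRing.maximalIdeal.isMaximal A).ne_top (top_le_iff.mp h1)
    have hArt : IsArtinianRing (A ⧸ J) := isArtinianRing_quotient_of_pow_le J hJtop N hK2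
    have hinj : Function.Injective (algebraMap (A ⧸ J) (A' ⧸ K)) :=
      Ideal.algebraMap_quotient_injective
    have : IsScalarTower A (A ⧸ J) (A' ⧸ K) := IsScalarTower.of_algebraMap_eq fun x => rfl
    let e1 : (A' ⧸ K) ⊗[A'] (A' ⊗[A] B) ≃ₗ[A' ⧸ K] (A' ⧸ K) ⊗[A] B :=
      AlgebraTensorModule.cancelBaseChange A A' (A' ⧸ K) (A' ⧸ K) B
    let e2 : (A' ⧸ K) ⊗[A ⧸ J] ((A ⧸ J) ⊗[A] B) ≃ₗ[A' ⧸ K] (A' ⧸ K) ⊗[A] B :=
      AlgebraTensorModule.cancelBaseChange A (A ⧸ J) (A' ⧸ K) (A' ⧸ K) B
    have hfl : Module.Flat (A' ⧸ K) ((A' ⧸ K) ⊗[A ⧸ J] ((A ⧸ J) ⊗[A] B)) :=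
      Module.Flat.of_linearEquiv (e2.trans e1.symm)
    exact flat_of_flat_baseChange_of_injective_of_isArtinianRing (R := A ⧸ J) (S := A' ⧸ K)
      (M := (A ⧸ J) ⊗[A] B) hinj
  exact flat_of_forall_exists_le_pow A B B Hn

theorem S12419 [IsNoetherianRing A'] [Finite (MaximalSpectrum A')]
    (hrad : (Ideal.jacobson (⊥ : Ideal A')).comap (algebraMap A A') = IsLocalRing.maximalIdeal A)
    (htop : ∀ n : ℕ, ∃ N : ℕ,
      ((Ideal.jacobson (⊥ : Ideal A')) ^ N).comap (algebraMap A A') ≤
        (IsLocalRing.maximalIdeal A) ^ n) :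
    Module.Flat A B ↔ Module.Flat A' (A' ⊗[A] B) := by
  constructor
  · intro h; infer_instance
  · intro h
    refine flat_of_flat_baseChange_of_cofinal A B A' ?_
    intro n
    obtain ⟨N, hN⟩ := htop (n + 1)
    refine ⟨(Ideal.jacobson (⊥ : Ideal A')) ^ N, N, hN, ?_⟩
    have h1 : (IsLocalRing.maximalIdeal A).map (algebraMap A A') ≤ Ideal.jacobson ⊥ := by
      rw [Ideal.map_le_iff_le_comap, hrad]
    rw [← Ideal.map_le_iff_le_comap, Ideal.map_pow]
    exact Ideal.pow_right_mono h1 N

theorem S10876 [Module.Finite A A'] (hinj : Function.Injective (algebraMap A A')) :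
    Module.Flat A B ↔ Module.Flat A' (A' ⊗[A] B) := by
  constructor
  · intro h; infer_instance
  · intro h
    refine flat_of_flat_baseChange_of_cofinal A B A' ?_
    intro n
    set m := IsLocalRing.maximalIdeal A with hm
    -- Artin–Rees for the submodule `A ⊆ A'`
    let Nsub : Submodule A A' := LinearMap.range (Algebra.linearMap A A')
    obtain ⟨k, hk⟩ := Ideal.exists_pow_inf_eq_pow_smul m Nsub
    refine ⟨(m.map (algebraMap A A')) ^ (n + 1 + k), n + 1 + k, ?_, ?_⟩
    · intro a ha
      rw [Ideal.mem_comap] at ha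
      have h1 : algebraMap A A' a ∈ m ^ (n + 1 + k) • (⊤ : Submodule A A') := by
        have := pow_smul_top_restrictScalars (R := A) (S := A') m A' (n + 1 + k)
        rw [← this]
        show algebraMap A A' a ∈ (m.map (algebraMap A A')) ^ (n + 1 + k) • (⊤ : Submodule A' A')
        rw [smul_eq_mul, Ideal.mul_top]
        exact ha
      have h2 : algebraMap A A' a ∈ m ^ (n + 1 + k) • (⊤ : Submodule A A') ⊓ Nsub :=
        ⟨h1, ⟨a, rfl⟩⟩
      rw [hk (n + 1 + k) (by omega)] at h2
      have h3 : algebraMap A A' a ∈ m ^ (n + 1) • Nsub := by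
        have hle : m ^ (n + 1 + k - k) • (m ^ k • (⊤ : Submodule A A') ⊓ Nsub) ≤
            m ^ (n + 1) • Nsub := by
          have : n + 1 + k - k = n + 1 := by omega
          rw [this]
          exact Submodule.smul_mono le_rfl inf_le_right
        exact hle h2
      have h4 : m ^ (n + 1) • Nsub = Submodule.map (Algebra.linearMap A A') (m ^ (n + 1)) := by
        show m ^ (n + 1) • LinearMap.range (Algebra.linearMap A A') = _
        rw [← Submodule.map_top, ← Submodule.map_smul'', smul_eq_mul, Ideal.mul_top]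
      rw [h4] at h3
      obtain ⟨a', ha', haa'⟩ := h3
      have : a' = a := hinj haa'
      rw [← this]
      exact ha'
    · rw [← Ideal.map_le_iff_le_comap, Ideal.map_pow]

end Desc

end Groth.Agent.Helper1.FlatDesc
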