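import Mathlib

/-!
# Lengths of Artinian local rings along flat local homomorphisms (helper1)
-/

set_option autoImplicit false
universe u
open IsLocalRing

namespace Groth.Agent.Helper1.FlatLen

/-- the length of `A` divides the length of `B` for a flat local homomorphism `A → B` -/
theorem length_dvd_of_flat {A B : Type u} [CommRing A] [CommRing B] [IsLocalRing A]
    [IsLocalRing B] (φ : A →+* B) [hloc : IsLocalHom φ] (hφ : φ.Flat) :
    (Module.length A A).toNat ∣ (Module.length B B).toNat := by
  letI := φ.toAlgebra
  haveI : IsLocalHom (algebraMap A B) := hloc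
  haveI : Module.Flat A B := hφ
  have h := IsLocalRing.length_baseChange A B A
  rw [(TensorProduct.AlgebraTensorModule.rid A B B).length_eq] at h
  rw [h, ENat.toNat_mul]
  exact dvd_mul_right _ _

/-- a finite local algebra over an algebraically closed field has length equal to its dimension -/
theorem length_eq_finrank {F B : Type u} [Field F] [IsAlgClosed F] [CommRing B] [IsLocalRing B]
    [Algebra F B] [Module.Finite F B] :
    Module.length B B = (Module.finrank F B : ℕ∞) := by
  haveI : IsLocalHom (algebraMap F B) := inferInstance
  have h := IsLocalRing.length_restrictScalars F B B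
  rw [Module.length_eq_finrank] at h
  have hs : Function.Surjective (algebraMap (ResidueField F) (ResidueField B)) := by
    have hb : Function.Bijective (algebraMap F (ResidueField B)) :=
      IsAlgClosed.algebraMap_bijective_of_isIntegral
    intro w
    obtain ⟨a, ha⟩ := hb.2 w
    refine ⟨residue F a, ?_⟩
    rw [← ha, IsLocalRing.ResidueField.algebraMap_residue]
    rfl
  have h1 : Module.length (ResidueField F) (ResidueField B) = 1 := by
    rw [Module.length_eq_of_surjective (S := ResidueField F) (R := ResidueField B)
      (M := ResidueField B) hs]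
    exact Module.length_eq_one _ _
  rw [h1, mul_one] at h
  exact h.symm

/-- an Artinian ring with connected spectrum is local -/
theorem isLocalRing_of_connectedSpace {B : Type u} [CommRing B] [IsArtinianRing B] [Nontrivial B]
    [ConnectedSpace (PrimeSpectrum B)] : IsLocalRing B := by
  haveI : Subsingleton (PrimeSpectrum B) := PreconnectedSpace.trivial_of_discrete
  obtain ⟨M, hM⟩ := Ideal.exists_maximal B
  refine IsLocalRing.of_unique_max_ideal ⟨M, hM, fun M' hM' => ?_⟩
  exact congrArg PrimeSpectrum.asIdeal
    (Subsingleton.elim (⟨M', hM'.isPrime⟩ : PrimeSpectrum B) ⟨M, hM.isPrime⟩)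

/-- elements of the maximal ideal of an Artinian local ring are nilpotent -/
theorem isNilpotent_of_mem_maximalIdeal {B : Type u} [CommRing B] [IsLocalRing B]
    [IsArtinianRing B] {a : B} (ha : a ∈ maximalIdeal B) : IsNilpotent a := by
  obtain ⟨n, hn⟩ := IsArtinianRing.isNilpotent_jacobson_bot (R := B)
  rw [IsLocalRing.jacobson_eq_maximalIdeal ⊥ bot_ne_top] at hn
  refine ⟨n, ?_⟩
  have : a ^ n ∈ maximalIdeal B ^ n := Ideal.pow_mem_pow ha n
  rw [hn] at this
  exact this

/-- a flat ring homomorphism from an Artinian local ring to a local ring is local, and the length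
of the source divides the length of the target -/
theorem length_dvd_of_flat_artinian {A B : Type u} [CommRing A] [CommRing B] [IsLocalRing A]
    [IsArtinianRing A] [IsLocalRing B] (φ : A →+* B) (hφ : φ.Flat) :
    (Module.length A A).toNat ∣ (Module.length B B).toNat := by
  haveI : IsLocalHom φ := by
    constructor
    intro a ha
    by_contra hna
    have hm : a ∈ maximalIdeal A := (IsLocalRing.mem_maximalIdeal a).2 hna
    obtain ⟨n, hn⟩ := isNilpotent_of_mem_maximalIdeal hm
    have h0 : IsUnit ((φ a) ^ n) := ha.pow n
    rw [← map_pow, hn, map_zero] at h0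
    exact not_isUnit_zero h0
  exact length_dvd_of_flat φ hφ

end Groth.Agent.Helper1.FlatLen
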