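import Mathlib

set_option autoImplicit false
universe u
namespace Groth.Agent.Helper1.FlatLim

theorem S12209 {ι : Type u} [Preorder ι] [Nonempty ι] [IsDirectedOrder ι]
    (G : ι → Type u) [∀ i, CommRing (G i)] (f : ∀ i j, i ≤ j → G i →+* G j)
    [DirectedSystem G fun i j h => f i j h]
    (M : Type u) [AddCommGroup M] [Module (Ring.DirectLimit G fun i j h => f i j h) M]
    (hflat : ∀ i, letI : Module (G i) M :=
        Module.compHom M (Ring.DirectLimit.of G (fun i j h => f i j h) i);
      Module.Flat (G i) M) :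
    Module.Flat (Ring.DirectLimit G fun i j h => f i j h) M := by
  classical
  apply Module.Flat.of_forall_isTrivialRelation
  intro l r x hrx
  have hex : ∃ i, ∃ g : Fin l → G i,
      ∀ k, Ring.DirectLimit.of G (fun i j h => f i j h) i (g k) = r k := by
    choose i₀ g₀ hg₀ using fun k => Ring.DirectLimit.exists_of (r k)
    obtain ⟨i, hi⟩ := Finset.exists_le (Finset.univ.image i₀)
    refine ⟨i, fun k => f (i₀ k) i (hi _ (Finset.mem_image_of_mem _ (Finset.mem_univ k))) (g₀ k),
      fun k => ?_⟩
    rw [Ring.DirectLimit.of_f, hg₀]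
  obtain ⟨i, g, hg⟩ := hex
  letI : Module (G i) M := Module.compHom M (Ring.DirectLimit.of G (fun i j h => f i j h) i)
  have hfl : Module.Flat (G i) M := hflat i
  have hsmul : ∀ (a : G i) (m : M),
      a • m = Ring.DirectLimit.of G (fun i j h => f i j h) i a • m := fun a m => rfl
  have hrel : ∑ k, g k • x k = 0 := by
    simp_rw [hsmul, hg]; exact hrx
  obtain ⟨κ, a, y, hxy, hra⟩ := Module.Flat.isTrivialRelation_of_sum_smul_eq_zero hrel
  refine ⟨κ, fun k j => Ring.DirectLimit.of G (fun i j h => f i j h) i (a k j), y,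
    fun k => ?_, fun j => ?_⟩
  · rw [hxy k]
    exact Finset.sum_congr rfl fun j _ => hsmul _ _
  · simp_rw [← hg, ← map_mul, ← map_sum, hra j, map_zero]

end Groth.Agent.Helper1.FlatLim
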