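import Mathlib
import Groth.Agent.Lib.Helper1.LocalCrit

/-!
# Flatness modulo nilpotents and injective ring maps

Helper library of helper1 (Stacks 051C / 051D style statements).
-/

set_option autoImplicit false

namespace Groth.Agent.Helper1.FlatNil

open TensorProduct Groth.Agent.Helper1.LocalCrit

universe u

/-- If `M/IM` is flat over `R/I`, then `- ⊗ M` preserves injections into modules killed by `I`. -/
theorem rTensor_injective_of_smul_eq_zero {R : Type*} [CommRing R] (I : Ideal R) (M : Type*)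
    [AddCommGroup M] [Module R M] [Module.Flat (R ⧸ I) ((R ⧸ I) ⊗[R] M)] {N' N : Type*}
    [AddCommGroup N'] [Module R N'] [AddCommGroup N] [Module R N] (f : N' →ₗ[R] N)
    (hf : Function.Injective f) (hN : ∀ a ∈ I, ∀ y : N, a • y = 0) :
    Function.Injective (f.rTensor M) := by
  have hT : Module.IsTorsionBySet R N (I : Set R) := fun y a => hN a.1 a.2 y
  letI : Module (R ⧸ I) N := hT.module
  haveI : IsScalarTower R (R ⧸ I) N := hT.isScalarTower
  apply rTensor_injective_of_range M f hf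
  exact rTensor_subtype_injective_of_surjective (R ⧸ I) M Ideal.Quotient.mk_surjective
    (LinearMap.range f)

/-- Core case: `I² = 0` and `R → R'` injective. -/
theorem flat_of_sq_eq_bot_of_injective {R R' : Type*} [CommRing R] [CommRing R'] [Algebra R R']
    (hinj : Function.Injective (algebraMap R R')) (I : Ideal R) (hI : I ^ 2 = ⊥) (M : Type*)
    [AddCommGroup M] [Module R M] [Module.Flat (R ⧸ I) ((R ⧸ I) ⊗[R] M)]
    [Module.Flat R' (R' ⊗[R] M)] : Module.Flat R M := by
  refine flat_of_rTensor_injective_of_flat_quotient_of_pow_eq_bot I M ?_ 2 hI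
  let I' : Ideal R' := I.map (algebraMap R R')
  let ψ : I →ₗ[R] I' := LinearMap.codRestrict (I'.restrictScalars R)
    ((Algebra.linearMap R R') ∘ₗ I.subtype) (fun x => Ideal.mem_map_of_mem _ x.2)
  have hψ : Function.Injective ψ := by
    intro x y hxy
    apply Subtype.ext
    apply hinj
    exact congrArg Subtype.val hxy
  have hP : ∀ a ∈ I, ∀ y : I', a • y = 0 := by
    intro a ha y
    apply Subtype.ext
    show a • (y : R') = 0
    rw [Algebra.smul_def]
    have h1 : algebraMap R R' a * (y : R') ∈ I' * I' :=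
      Ideal.mul_mem_mul (Ideal.mem_map_of_mem _ ha) y.2
    rw [← pow_two, ← Ideal.map_pow, hI, Ideal.map_bot] at h1
    exact h1
  have h2 : Function.Injective (ψ.rTensor M) := rTensor_injective_of_smul_eq_zero I M ψ hψ hP
  have h3 : Function.Injective (((I'.subtype).restrictScalars R).rTensor M) :=
    rTensor_restrictScalars_injective R' M I'.subtype I'.subtype_injective
  have hcomp : ((I'.subtype).restrictScalars R) ∘ₗ ψ = (Algebra.linearMap R R') ∘ₗ I.subtype :=
    LinearMap.ext fun x => rfl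
  rw [injective_iff_map_eq_zero]
  intro x hx
  apply h2
  apply h3
  rw [map_zero, map_zero, ← LinearMap.comp_apply, ← LinearMap.rTensor_comp, hcomp,
    LinearMap.rTensor_comp, LinearMap.comp_apply, hx, map_zero]

theorem S6384 (R R' : Type u) [CommRing R] [CommRing R'] [Algebra R R']
    (I : Ideal R) (M : Type u) [AddCommGroup M] [Module R M]
    [Module.Flat (R ⧸ I) ((R ⧸ I) ⊗[R] M)] [Module.Flat R' (R' ⊗[R] M)] :
    Module.Flat (R ⧸ ((I ^ 2).map (algebraMap R R')).comap (algebraMap R R'))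
      ((R ⧸ ((I ^ 2).map (algebraMap R R')).comap (algebraMap R R')) ⊗[R] M) := by
  generalize hJ' : (I ^ 2).map (algebraMap R R') = J'
  have hle : I ^ 2 ≤ J'.comap (algebraMap R R') := by
    rw [← hJ']; exact Ideal.le_comap_map
  have hinj : Function.Injective (algebraMap (R ⧸ J'.comap (algebraMap R R')) (R' ⧸ J')) :=
    Ideal.algebraMap_quotient_injective
  have hI2 : (I.map (Ideal.Quotient.mk (J'.comap (algebraMap R R')))) ^ 2 = ⊥ := by
    rw [← Ideal.map_pow, Ideal.map_eq_bot_iff_le_ker, Ideal.mk_ker]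
    exact hle
  -- flatness modulo the image of `I`
  haveI ha : Module.Flat ((R ⧸ J'.comap (algebraMap R R')) ⧸
      (I.map (Ideal.Quotient.mk (J'.comap (algebraMap R R')))))
      (((R ⧸ J'.comap (algebraMap R R')) ⧸
        (I.map (Ideal.Quotient.mk (J'.comap (algebraMap R R'))))) ⊗[R ⧸ J'.comap (algebraMap R R')]
        ((R ⧸ J'.comap (algebraMap R R')) ⊗[R] M)) := by
    apply flat_baseChange_of_forall_ideal
    intro 𝔞
    rw [rTensor_baseChange_injective_iff (R := R) (A := R ⧸ J'.comap (algebraMap R R')) M]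
    apply rTensor_injective_of_smul_eq_zero I M
    · exact Subtype.val_injective
    · intro a ha y
      rw [Algebra.smul_def]
      have : algebraMap R ((R ⧸ J'.comap (algebraMap R R')) ⧸
          (I.map (Ideal.Quotient.mk (J'.comap (algebraMap R R'))))) a = 0 := by
        show Ideal.Quotient.mk _ (Ideal.Quotient.mk _ a) = 0
        rw [Ideal.Quotient.eq_zero_iff_mem]
        exact Ideal.mem_map_of_mem _ ha
      rw [this, zero_mul]
  haveI hb : Module.Flat (R' ⧸ J') ((R' ⧸ J') ⊗[R ⧸ J'.comap (algebraMap R R')]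
      ((R ⧸ J'.comap (algebraMap R R')) ⊗[R] M)) := by
    have e1 : (R' ⧸ J') ⊗[R'] (R' ⊗[R] M) ≃ₗ[R' ⧸ J'] (R' ⧸ J') ⊗[R] M :=
      AlgebraTensorModule.cancelBaseChange R R' (R' ⧸ J') (R' ⧸ J') M
    have e2 : (R' ⧸ J') ⊗[R ⧸ J'.comap (algebraMap R R')]
        ((R ⧸ J'.comap (algebraMap R R')) ⊗[R] M) ≃ₗ[R' ⧸ J'] (R' ⧸ J') ⊗[R] M :=
      AlgebraTensorModule.cancelBaseChange R (R ⧸ J'.comap (algebraMap R R')) (R' ⧸ J')
        (R' ⧸ J') M
    exact Module.Flat.of_linearEquiv (e2.trans e1.symm)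
  exact flat_of_sq_eq_bot_of_injective hinj
    (I.map (Ideal.Quotient.mk (J'.comap (algebraMap R R')))) hI2
    ((R ⧸ J'.comap (algebraMap R R')) ⊗[R] M)

/-- The sequence of ideals `I₀ = I`, `Iₖ₊₁ = φ⁻¹(φ(Iₖ²)R')`. -/
noncomputable def idealSeq (R R' : Type u) [CommRing R] [CommRing R'] [Algebra R R']
    (I : Ideal R) : ℕ → Ideal R
  | 0 => I
  | (k + 1) => (((idealSeq R R' I k) ^ 2).map (algebraMap R R')).comap (algebraMap R R')

theorem flat_idealSeq (R R' : Type u) [CommRing R] [CommRing R'] [Algebra R R']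
    (I : Ideal R) (M : Type u) [AddCommGroup M] [Module R M]
    [Module.Flat (R ⧸ I) ((R ⧸ I) ⊗[R] M)] [Module.Flat R' (R' ⊗[R] M)] (k : ℕ) :
    Module.Flat (R ⧸ idealSeq R R' I k) ((R ⧸ idealSeq R R' I k) ⊗[R] M) := by
  induction k with
  | zero => exact (inferInstance : Module.Flat (R ⧸ I) ((R ⧸ I) ⊗[R] M))
  | succ k ih =>
    haveI := ih
    exact S6384 R R' (idealSeq R R' I k) M

theorem map_idealSeq_le (R R' : Type u) [CommRing R] [CommRing R'] [Algebra R R']
    (I : Ideal R) (k : ℕ) :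
    (idealSeq R R' I k).map (algebraMap R R') ≤ (I.map (algebraMap R R')) ^ (2 ^ k) := by
  induction k with
  | zero => rw [pow_zero, pow_one]; exact le_rfl
  | succ k ih =>
    calc (idealSeq R R' I (k + 1)).map (algebraMap R R')
        ≤ ((idealSeq R R' I k) ^ 2).map (algebraMap R R') := Ideal.map_comap_le
      _ = ((idealSeq R R' I k).map (algebraMap R R')) ^ 2 := Ideal.map_pow _ _ _
      _ ≤ ((I.map (algebraMap R R')) ^ (2 ^ k)) ^ 2 := Ideal.pow_right_mono ih 2
      _ = (I.map (algebraMap R R')) ^ (2 ^ (k + 1)) := by rw [← pow_mul, pow_succ]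

theorem S6352 (R R' : Type u) [CommRing R] [CommRing R']
    [Algebra R R'] (hinj : Function.Injective (algebraMap R R')) (I : Ideal R) (hI : IsNilpotent I)
    (M : Type u) [AddCommGroup M] [Module R M] [Module.Flat (R ⧸ I) ((R ⧸ I) ⊗[R] M)]
    [Module.Flat R' (R' ⊗[R] M)] : Module.Flat R M := by
  obtain ⟨n, hn⟩ := hI
  have hn' : I ^ n = ⊥ := hn
  have hbot : idealSeq R R' I n = ⊥ := by
    rw [eq_bot_iff]
    have h1 : (idealSeq R R' I n).map (algebraMap R R') ≤ ⊥ := by
      calc (idealSeq R R' I n).map (algebraMap R R')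
          ≤ (I.map (algebraMap R R')) ^ (2 ^ n) := map_idealSeq_le R R' I n
        _ ≤ (I.map (algebraMap R R')) ^ n := Ideal.pow_le_pow_right Nat.lt_two_pow_self.le
        _ = ⊥ := by rw [← Ideal.map_pow, hn', Ideal.map_bot]
    have h2 := Ideal.map_eq_bot_iff_le_ker (algebraMap R R') |>.mp (le_bot_iff.mp h1)
    rwa [(RingHom.injective_iff_ker_eq_bot _).mp hinj] at h2
  haveI := flat_idealSeq R R' I M n
  rw [Module.Flat.iff_rTensor_injective']
  intro 𝔞
  apply rTensor_injective_of_smul_eq_zero (idealSeq R R' I n) M 𝔞.subtype 𝔞.subtype_injective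
  intro a ha y
  rw [hbot] at ha
  rw [Ideal.mem_bot.mp ha, zero_smul]

end Groth.Agent.Helper1.FlatNil
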