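import Groth.Agent.Lib.Helper1.SqZeroDef

universe u
open TensorProduct

namespace Groth.Agent.Helper1.FlatP2

/-- if `R →r R →r R` is exact and `M` is flat then `r m = 0 → m ∈ r M` -/
lemma exists_of_smul_eq_zero {R : Type*} [CommRing R] (r : R)
    (hr : ∀ x : R, r * x = 0 → ∃ y, x = r * y) (hr2 : r * r = 0)
    {M : Type*} [AddCommGroup M] [Module R M] [Module.Flat R M] {m : M} (hm : r • m = 0) :
    ∃ m', m = r • m' := by
  have hex : Function.Exact (LinearMap.mulLeft R r) (LinearMap.mulLeft R r) := by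
    intro a
    constructor
    · intro h
      obtain ⟨y, rfl⟩ := hr a h
      exact ⟨y, rfl⟩
    · rintro ⟨y, rfl⟩
      show r * (r * y) = 0
      rw [← mul_assoc, hr2, zero_mul]
  have hex' := Module.Flat.lTensor_exact M hex
  have h1 : (LinearMap.mulLeft R r).lTensor M (m ⊗ₜ[R] (1 : R)) = 0 := by
    rw [LinearMap.lTensor_tmul]
    apply (TensorProduct.rid R M).injective
    rw [TensorProduct.rid_tmul, map_zero]
    show (r * 1) • m = 0
    rw [mul_one, hm]
  obtain ⟨w, hw⟩ := (hex' _).mp h1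
  refine ⟨TensorProduct.rid R M w, ?_⟩
  have h2 : TensorProduct.rid R M ((LinearMap.mulLeft R r).lTensor M w) =
      r • TensorProduct.rid R M w := by
    clear hw
    induction w using TensorProduct.induction_on with
    | zero => simp
    | tmul x a =>
      rw [LinearMap.lTensor_tmul, TensorProduct.rid_tmul, TensorProduct.rid_tmul]
      show (r * a) • x = _
      rw [mul_smul]
    | add x y hx hy => rw [map_add, map_add, hx, hy, map_add, smul_add]
  rw [← h2, hw, TensorProduct.rid_tmul, one_smul]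

lemma zmod_sq (p : ℕ) [Fact p.Prime] (x : ZMod (p ^ 2)) (hx : (p : ZMod (p ^ 2)) * x = 0) :
    ∃ y, x = (p : ZMod (p ^ 2)) * y := by
  have hp : p.Prime := Fact.out
  haveI : NeZero (p ^ 2) := ⟨pow_ne_zero _ hp.ne_zero⟩
  have h1 : ((p * x.val : ℕ) : ZMod (p ^ 2)) = 0 := by
    rw [Nat.cast_mul, ZMod.natCast_zmod_val]; exact hx
  rw [ZMod.natCast_eq_zero_iff] at h1
  have h2 : p ∣ x.val := by
    have h1' : p * p ∣ p * x.val := by
      have e : p ^ 2 = p * p := pow_two p
      exact e ▸ h1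
    exact (Nat.mul_dvd_mul_iff_left hp.pos).mp h1'
  obtain ⟨k, hk⟩ := h2
  refine ⟨(k : ZMod (p ^ 2)), ?_⟩
  rw [← ZMod.natCast_zmod_val x, hk, Nat.cast_mul]

end Groth.Agent.Helper1.FlatP2
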