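import Groth.Agent.Lib.Helper1.FlatQuot
import Groth.Agent.Lib.Helper1.QuasiReg

namespace Groth.Agent.Helper1.FlatQuotQR

open TensorProduct MvPolynomial

universe u
variable {B : Type u} [CommRing B] {r : ℕ} (f : Fin r → B)

/-- exponent vectors of degree `n` -/
abbrev D (r n : ℕ) : Finset (Fin r →₀ ℕ) := (Finset.univ : Finset (Fin r)).finsuppAntidiag n

lemma mem_D {n : ℕ} (d : Fin r →₀ ℕ) : d ∈ D r n ↔ d.degree = n := by
  rw [Finset.mem_finsuppAntidiag, Finsupp.degree_eq_sum]
  simp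

/-- value of the monomial -/
def mon (d : Fin r →₀ ℕ) : B := ∏ i, f i ^ d i

/-- evaluation of a coefficient vector -/
def ev (n : ℕ) : (D r n → B) →ₗ[B] B where
  toFun c := ∑ d, c d * mon f d
  map_add' a b := by simp [add_mul, Finset.sum_add_distrib]
  map_smul' c a := by simp [Finset.mul_sum, mul_assoc]

lemma ev_apply (n : ℕ) (c : D r n → B) : ev f n c = ∑ d, c d * mon f d := rfl

/-- polynomial attached to a coefficient vector -/
noncomputable def pol (n : ℕ) (c : D r n → B) : MvPolynomial (Fin r) B :=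
  ∑ d : D r n, monomial d.1 (c d)

lemma pol_isHomogeneous (n : ℕ) (c : D r n → B) : (pol n c).IsHomogeneous n := by
  refine IsHomogeneous.sum _ _ _ fun d _ => ?_
  exact isHomogeneous_monomial _ ((mem_D d.1).mp d.2)

lemma eval_pol (n : ℕ) (c : D r n → B) : eval f (pol n c) = ev f n c := by
  simp only [pol, map_sum, eval_monomial, ev, LinearMap.coe_mk, AddHom.coe_mk, mon]
  refine Finset.sum_congr rfl fun d _ => ?_
  rw [Finsupp.prod_fintype]
  intro i; exact pow_zero _

lemma coeff_pol (n : ℕ) (c : D r n → B) (d : D r n) : (pol n c).coeff d.1 = c d := by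
  classical
  simp only [pol, coeff_sum, coeff_monomial]
  rw [Finset.sum_eq_single d]
  · simp
  · intro e _ hne
    rw [if_neg]
    intro h
    exact hne (Subtype.ext h)
  · intro h; exact absurd (Finset.mem_univ d) h

/-- evaluation of a homogeneous polynomial through its coefficient vector -/
lemma eval_eq_ev {n : ℕ} (P : MvPolynomial (Fin r) B) (hP : P.IsHomogeneous n) :
    eval f P = ev f n (fun d => P.coeff d.1) := by
  rw [eval_eq']
  simp only [ev, LinearMap.coe_mk, AddHom.coe_mk, mon]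
  rw [Finset.sum_coe_sort (D r n) (fun d => P.coeff d * ∏ i, f i ^ d i)]
  refine Finset.sum_subset ?_ ?_
  · intro d hd
    rw [mem_D, Finsupp.degree_eq_weight_one]
    exact hP (mem_support_iff.mp hd)
  · intro d _ hd
    rw [notMem_support_iff.mp hd, zero_mul]

lemma ev_mem (n : ℕ) (c : D r n → B) : ev f n c ∈ Ideal.span (Set.range f) ^ n := by
  rw [Ideal.mem_span_pow_iff_exists_isHomogeneous]
  exact ⟨pol n c, pol_isHomogeneous n c, eval_pol f n c⟩

lemma mem_pow_iff (n : ℕ) (x : B) :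
    x ∈ Ideal.span (Set.range f) ^ n ↔ ∃ c : D r n → B, ev f n c = x := by
  constructor
  · intro hx
    rw [Ideal.mem_span_pow_iff_exists_isHomogeneous] at hx
    obtain ⟨P, hP, rfl⟩ := hx
    exact ⟨_, (eval_eq_ev f P hP).symm⟩
  · rintro ⟨c, rfl⟩
    exact ev_mem f n c

lemma ev_mem_succ_iff (hq : CAlgX.IsQuasiRegular f) (n : ℕ) (c : D r n → B) :
    ev f n c ∈ Ideal.span (Set.range f) ^ (n + 1) ↔ ∀ d, c d ∈ Ideal.span (Set.range f) := by
  constructor
  · intro h d
    rw [← eval_pol] at h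
    have := hq n (pol n c) (pol_isHomogeneous n c) h d.1
    rwa [coeff_pol] at this
  · intro h
    rw [← eval_pol, pow_succ']
    refine QuasiReg.eval_mem_mul_pow f _ (pol n c) (pol_isHomogeneous n c) ?_
    intro d
    by_cases hd : d ∈ D r n
    · have := coeff_pol n c ⟨d, hd⟩
      simp only at this
      rw [this]; exact h _
    · have : (pol n c).coeff d = 0 := by
        by_contra hne
        apply hd
        rw [mem_D, Finsupp.degree_eq_weight_one]
        exact pol_isHomogeneous n c hne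
      rw [this]; exact Ideal.zero_mem _

section modules
variable (A : Type u) [CommRing A] [Algebra A B]

/-- `Ψ n : (D n → B) → B ⧸ J^(n+1)` -/
noncomputable def Ψ (n : ℕ) : (D r n → B) →ₗ[A] B ⧸ (Ideal.span (Set.range f)) ^ (n + 1) :=
  (Ideal.Quotient.mkₐ A _).toLinearMap ∘ₗ (ev f n).restrictScalars A

lemma Ψ_apply (n : ℕ) (c : D r n → B) :
    Ψ f A n c = Ideal.Quotient.mk _ (ev f n c) := rfl

lemma Ψ_eq_zero_iff (hq : CAlgX.IsQuasiRegular f) (n : ℕ) (c : D r n → B) :
    Ψ f A n c = 0 ↔ ∀ d, c d ∈ Ideal.span (Set.range f) := by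
  rw [← ev_mem_succ_iff f hq, Ψ_apply]
  exact Ideal.Quotient.eq_zero_iff_mem

/-- `q n : B ⧸ J^(n+1) → B ⧸ J^n` -/
noncomputable def q (n : ℕ) : (B ⧸ (Ideal.span (Set.range f)) ^ (n + 1)) →ₗ[A]
    B ⧸ (Ideal.span (Set.range f)) ^ n :=
  (Ideal.Quotient.factorₐ A (Ideal.pow_le_pow_right (Nat.le_succ n))).toLinearMap

lemma q_mk (n : ℕ) (x : B) : q f A n (Ideal.Quotient.mk _ x) = Ideal.Quotient.mk _ x := rfl

lemma q_surjective (n : ℕ) : Function.Surjective (q f A n) :=
  Ideal.Quotient.factor_surjective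
    (Ideal.pow_le_pow_right (I := Ideal.span (Set.range f)) (Nat.le_succ n))

lemma exact_Ψ_q (n : ℕ) : Function.Exact (Ψ f A n) (q f A n) := by
  intro y
  obtain ⟨x, rfl⟩ := Ideal.Quotient.mk_surjective y
  constructor
  · intro h
    rw [q_mk] at h
    have hx : x ∈ Ideal.span (Set.range f) ^ n := Ideal.Quotient.eq_zero_iff_mem.mp h
    obtain ⟨c, rfl⟩ := (mem_pow_iff f n x).mp hx
    exact ⟨c, rfl⟩
  · rintro ⟨c, hc⟩
    rw [← hc, Ψ_apply, q_mk]
    exact Ideal.Quotient.eq_zero_iff_mem.mpr (ev_mem f n c)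

lemma exact_range_q (n : ℕ) :
    Function.Exact (LinearMap.range (Ψ f A n)).subtype (q f A n) := by
  intro y
  rw [exact_Ψ_q f A n y]
  constructor
  · rintro ⟨c, rfl⟩
    exact ⟨⟨_, c, rfl⟩, rfl⟩
  · rintro ⟨⟨_, c, rfl⟩, rfl⟩
    exact ⟨c, rfl⟩

lemma flat_range_Ψ (hflat : Module.Flat A (B ⧸ Ideal.span (Set.range f)))
    (hq : CAlgX.IsQuasiRegular f) (n : ℕ) : Module.Flat A (LinearMap.range (Ψ f A n)) := by
  classical
  have hker : LinearMap.ker (Ψ f A n) =
      Submodule.pi Set.univ (fun _ : D r n => (Ideal.span (Set.range f)).restrictScalars A) := by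
    ext c
    simp [Submodule.mem_pi, Ψ_eq_zero_iff f A hq n c]
  let e1 := (Ψ f A n).quotKerEquivRange
  let e2 := Submodule.quotEquivOfEq _ _ hker
  let e3 := Submodule.quotientPi (fun _ : D r n => (Ideal.span (Set.range f)).restrictScalars A)
  let e4 : (∀ _ : D r n, B ⧸ (Ideal.span (Set.range f)).restrictScalars A) ≃ₗ[A]
      (D r n → B ⧸ Ideal.span (Set.range f)) :=
    LinearEquiv.piCongrRight (fun _ => Submodule.Quotient.restrictScalarsEquiv A _)
  have : Module.Flat A (D r n → B ⧸ Ideal.span (Set.range f)) :=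
    Module.Flat.of_linearEquiv
      (DirectSum.linearEquivFunOnFintype A (D r n) (fun _ => B ⧸ Ideal.span (Set.range f))).symm
  exact Module.Flat.of_linearEquiv (e1.symm ≪≫ₗ e2 ≪≫ₗ e3 ≪≫ₗ e4)

lemma flat_quot_pow (hflat : Module.Flat A (B ⧸ Ideal.span (Set.range f)))
    (hq : CAlgX.IsQuasiRegular f) : ∀ n : ℕ, Module.Flat A (B ⧸ (Ideal.span (Set.range f)) ^ n)
  | 0 => by
    have : Subsingleton (B ⧸ (Ideal.span (Set.range f)) ^ 0) := by
      rw [pow_zero]; exact Ideal.Quotient.subsingleton_iff.mpr Ideal.one_eq_top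
    infer_instance
  | n + 1 => by
    have h1 := flat_range_Ψ f A hflat hq n
    have h2 := flat_quot_pow hflat hq n
    exact FlatQuot.flat_of_exact (LinearMap.range (Ψ f A n)).subtype (q f A n)
      (Submodule.subtype_injective _) (q_surjective f A n) (exact_range_q f A n)

end modules

section basechange
variable (A A' : Type u) [CommRing A] [CommRing A'] [Algebra A B] [Algebra A A']

/-- the base-changed sequence -/
abbrev f' : Fin r → A' ⊗[A] B := fun i => (1 : A') ⊗ₜ[A] f i

lemma mon_f' (d : Fin r →₀ ℕ) : mon (f' f A A') d = (1 : A') ⊗ₜ[A] mon f d := by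
  have : ∀ b : B, (1 : A') ⊗ₜ[A] b = (Algebra.TensorProduct.includeRight : B →ₐ[A] A' ⊗[A] B) b :=
    fun b => rfl
  simp only [mon, this, map_prod, map_pow]

lemma mon_mem {n : ℕ} (d : D r n) : mon f d.1 ∈ Ideal.span (Set.range f) ^ n := by
  classical
  have : ev f n (Pi.single d 1) = mon f d.1 := by
    simp only [ev_apply, Pi.single_apply, ite_mul, one_mul, zero_mul,
      Finset.sum_ite_eq', Finset.mem_univ, if_true]
  rw [← this]
  exact ev_mem f n _

/-- `ρ : A' ⊗ B → A' ⊗ (B ⧸ J^(n+1))` -/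
noncomputable def ρ (n : ℕ) :
    A' ⊗[A] B →ₐ[A] A' ⊗[A] (B ⧸ (Ideal.span (Set.range f)) ^ (n + 1)) :=
  Algebra.TensorProduct.map (AlgHom.id A A') (Ideal.Quotient.mkₐ A _)

lemma ρ_tmul (n : ℕ) (x : A') (b : B) :
    ρ f A A' n (x ⊗ₜ[A] b) = x ⊗ₜ[A] (Ideal.Quotient.mk _ b) := rfl

lemma ρ_eq_zero (n : ℕ) (y : A' ⊗[A] B)
    (hy : y ∈ Ideal.span (Set.range (f' f A A')) ^ (n + 1)) : ρ f A A' n y = 0 := by
  obtain ⟨c, rfl⟩ := (mem_pow_iff (f' f A A') (n + 1) y).mp hy
  rw [ev_apply, map_sum]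
  simp only [map_mul]
  refine Finset.sum_eq_zero fun d _ => ?_
  rw [mon_f', ρ_tmul, Ideal.Quotient.eq_zero_iff_mem.mpr (mon_mem f d), TensorProduct.tmul_zero,
    mul_zero]

lemma ρ_ev (n : ℕ) (w : A' ⊗[A] (D r n → B)) :
    ρ f A A' n (ev (f' f A A') n (TensorProduct.piRight A A A' (fun _ : D r n => B) w)) =
      (Ψ f A n).lTensor A' w := by
  induction w using TensorProduct.induction_on with
  | zero => simp
  | tmul x g =>
    rw [LinearMap.lTensor_tmul, Ψ_apply, TensorProduct.piRight_apply,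
      TensorProduct.piRightHom_tmul]
    have : ev (f' f A A') n (fun d => x ⊗ₜ[A] g d) = x ⊗ₜ[A] ev f n g := by
      simp only [ev_apply, mon_f',
        Algebra.TensorProduct.tmul_mul_tmul, mul_one, TensorProduct.tmul_sum]
    rw [this, ρ_tmul]
  | add x y hx hy =>
    rw [map_add, map_add, map_add, hx, hy, map_add]

lemma tmul_mem (x : A') (b : B) (hb : b ∈ Ideal.span (Set.range f)) :
    x ⊗ₜ[A] b ∈ Ideal.span (Set.range (f' f A A')) := by
  have h1 : (1 : A') ⊗ₜ[A] b ∈ Ideal.span (Set.range (f' f A A')) := by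
    have := Ideal.mem_map_of_mem
      ((Algebra.TensorProduct.includeRight : B →ₐ[A] A' ⊗[A] B) : B →+* A' ⊗[A] B) hb
    rw [Ideal.map_span, ← Set.range_comp] at this
    exact this
  have h2 : x ⊗ₜ[A] b = (x ⊗ₜ[A] (1 : B)) * ((1 : A') ⊗ₜ[A] b) := by
    rw [Algebra.TensorProduct.tmul_mul_tmul, mul_one, one_mul]
  rw [h2]
  exact Ideal.mul_mem_left _ _ h1

theorem main (hflat : Module.Flat A (B ⧸ Ideal.span (Set.range f)))
    (hq : CAlgX.IsQuasiRegular f) :
    CAlgX.IsQuasiRegular (fun i => ((1 : A') ⊗ₜ[A] f i : A' ⊗[A] B)) := by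
  classical
  intro n P hP hPe d
  by_cases hd : d ∈ D r n
  swap
  · have : P.coeff d = 0 := by
      by_contra hne
      apply hd
      rw [mem_D, Finsupp.degree_eq_weight_one]
      exact hP hne
    rw [this]; exact Ideal.zero_mem _
  suffices h : ∀ e : D r n, P.coeff e.1 ∈ Ideal.span (Set.range (f' f A A')) from h ⟨d, hd⟩
  rw [eval_eq_ev (f' f A A') P hP] at hPe
  obtain ⟨w, hw⟩ := (TensorProduct.piRight A A A' (fun _ : D r n => B)).surjective
    (fun e : D r n => P.coeff e.1)
  rw [← hw] at hPe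
  suffices h : ∀ e : D r n, (TensorProduct.piRight A A A' (fun _ : D r n => B) w) e ∈
      Ideal.span (Set.range (f' f A A')) by
    intro e; rw [← congrFun hw e]; exact h e
  have h1 := ρ_eq_zero f A A' n _ hPe
  rw [ρ_ev] at h1
  have hcomp : Ψ f A n = (LinearMap.range (Ψ f A n)).subtype ∘ₗ (Ψ f A n).rangeRestrict :=
    LinearMap.ext fun a => rfl
  rw [hcomp, LinearMap.lTensor_comp, LinearMap.comp_apply] at h1
  have hfl := flat_quot_pow f A hflat hq n
  have hinj := FlatQuot.lTensor_injective_of_flat_coker A' (LinearMap.range (Ψ f A n)).subtype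
    (q f A n) (Submodule.subtype_injective _) (q_surjective f A n) (exact_range_q f A n)
  have h2 : (Ψ f A n).rangeRestrict.lTensor A' w = 0 := hinj (h1.trans (map_zero _).symm)
  obtain ⟨u, rfl⟩ := (lTensor_exact A' (LinearMap.exact_subtype_ker_map (Ψ f A n).rangeRestrict)
    (LinearMap.surjective_rangeRestrict _) w).mp h2
  clear h1 h2 hPe hw
  induction u using TensorProduct.induction_on with
  | zero =>
    intro e
    rw [map_zero, map_zero]; exact Ideal.zero_mem _
  | tmul x z =>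
    intro e
    rw [LinearMap.lTensor_tmul, TensorProduct.piRight_apply, TensorProduct.piRightHom_tmul]
    apply tmul_mem
    have hz : (Ψ f A n).rangeRestrict z.1 = 0 := z.2
    have hz' : Ψ f A n z.1 = 0 := congrArg Subtype.val hz
    exact (Ψ_eq_zero_iff f A hq n z.1).mp hz' e
  | add x y hx hy =>
    intro e
    rw [map_add, map_add]; exact Ideal.add_mem _ (hx e) (hy e)

end basechange

end Groth.Agent.Helper1.FlatQuotQR
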