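import Groth.Agent.Lib.Helper1.FlatQuot
import Groth.Prelude.Def_CAlgX

namespace Groth.Agent.Helper1.FlatQuotReg

open TensorProduct

universe u
variable {A B A' : Type u} [CommRing A] [CommRing B] [CommRing A'] [Algebra A B] [Algebra A A']
  {r : ℕ} (f : Fin r → B)

/-- the Koszul map `B^r → B` -/
noncomputable def φ : (Fin r → B) →ₗ[B] B where
  toFun a := ∑ i, a i * f i
  map_add' a b := by simp [add_mul, Finset.sum_add_distrib]
  map_smul' c a := by simp [Finset.mul_sum, mul_assoc]

/-- trivial relations -/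
def T : Set (Fin r → B) := {v | ∃ i j : Fin r, v = Pi.single i (f j) - Pi.single j (f i)}

lemma span_T_le_ker : Submodule.span B (T f) ≤ LinearMap.ker (φ f) := by
  rw [Submodule.span_le]
  rintro v ⟨i, j, rfl⟩
  simp only [SetLike.mem_coe, LinearMap.mem_ker, φ, LinearMap.coe_mk, AddHom.coe_mk, Pi.sub_apply,
    sub_mul, Finset.sum_sub_distrib]
  simp only [Pi.single_apply, ite_mul, zero_mul, Finset.sum_ite_eq', Finset.mem_univ, if_true]
  ring

lemma ker_eq (hq : CAlgX.IsH1Regular f) : LinearMap.ker (φ f) = Submodule.span B (T f) := by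
  apply le_antisymm _ (span_T_le_ker f)
  intro a ha
  exact hq a ha

variable (A)

/-- the ideal as an `A`-submodule -/
abbrev Jr : Submodule A B := (Ideal.span (Set.range f)).restrictScalars A

/-- `φ̄ : B^r → J` -/
noncomputable def φbar : (Fin r → B) →ₗ[A] Jr A f :=
  LinearMap.codRestrict (Jr A f) ((φ f).restrictScalars A) (by
    intro a
    show ∑ i, a i * f i ∈ Ideal.span (Set.range f)
    exact Ideal.sum_mem _ fun i _ => Ideal.mul_mem_left _ _ (Ideal.subset_span ⟨i, rfl⟩))

lemma φbar_surjective : Function.Surjective (φbar A f) := by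
  rintro ⟨b, hb⟩
  obtain ⟨c, hc⟩ := (Ideal.mem_span_range_iff_exists_fun (R := B)).mp hb
  exact ⟨c, Subtype.ext hc⟩

/-- the relations as an `A`-submodule -/
noncomputable abbrev Zr : Submodule A (Fin r → B) := (LinearMap.ker (φ f)).restrictScalars A

lemma exact_Zr : Function.Exact (Zr A f).subtype (φbar A f) := by
  intro a
  constructor
  · intro ha
    have : φ f a = 0 := congrArg Subtype.val ha
    exact ⟨⟨a, this⟩, rfl⟩
  · rintro ⟨z, rfl⟩
    exact Subtype.ext z.2

/-- the quotient map as `A`-linear map -/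
noncomputable abbrev mkA : B →ₗ[A] B ⧸ Ideal.span (Set.range f) :=
  (Ideal.Quotient.mkₐ A (Ideal.span (Set.range f))).toLinearMap

lemma exact_Jr : Function.Exact (Jr A f).subtype (mkA A f) := by
  intro b
  constructor
  · intro hb
    exact ⟨⟨b, Ideal.Quotient.eq_zero_iff_mem.mp hb⟩, rfl⟩
  · rintro ⟨c, rfl⟩
    exact Ideal.Quotient.eq_zero_iff_mem.mpr c.2

variable (A')

lemma lTensor_φ_apply (w : A' ⊗[A] (Fin r → B)) :
    (((φ f).restrictScalars A).lTensor A') w =
      ∑ i, (TensorProduct.piRight A A A' (fun _ : Fin r => B) w) i * ((1 : A') ⊗ₜ[A] f i) := by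
  induction w using TensorProduct.induction_on with
  | zero => simp
  | tmul x g =>
    simp only [LinearMap.lTensor_tmul, LinearMap.coe_restrictScalars, TensorProduct.piRight_apply,
      TensorProduct.piRightHom_tmul, Algebra.TensorProduct.tmul_mul_tmul, mul_one]
    show x ⊗ₜ[A] (∑ i, g i * f i) = _
    rw [TensorProduct.tmul_sum]
  | add x y hx hy =>
    rw [map_add, hx, hy, map_add, ← Finset.sum_add_distrib]
    simp only [Pi.add_apply, add_mul]

/-- the base-changed sequence -/
abbrev f' : Fin r → A' ⊗[A] B := fun i => (1 : A') ⊗ₜ[A] f i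

lemma claim2 (x : A') (v : Fin r → B) (hv : v ∈ Submodule.span B (T f)) :
    (fun k => x ⊗ₜ[A] v k : Fin r → A' ⊗[A] B) ∈
      Submodule.span (A' ⊗[A] B) (T (f' A A' f)) := by
  induction hv using Submodule.span_induction with
  | mem v hv =>
    obtain ⟨i, j, rfl⟩ := hv
    have : (fun k => x ⊗ₜ[A] (Pi.single i (f j) - Pi.single j (f i) : Fin r → B) k) =
        (x ⊗ₜ[A] (1 : B)) • (Pi.single i (f' A A' f j) - Pi.single j (f' A A' f i)) := by
      ext k
      simp only [Pi.sub_apply, Pi.smul_apply, smul_eq_mul, Pi.single_apply,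
        TensorProduct.tmul_sub, mul_sub]
      split_ifs <;> simp [Algebra.TensorProduct.tmul_mul_tmul]
    rw [this]
    exact Submodule.smul_mem _ _ (Submodule.subset_span ⟨i, j, rfl⟩)
  | zero =>
    have : (fun k => x ⊗ₜ[A] (0 : Fin r → B) k) = 0 := by
      ext k; simp
    rw [this]; exact Submodule.zero_mem _
  | add u v _ _ hu hv =>
    have : (fun k => x ⊗ₜ[A] (u + v) k) = (fun k => x ⊗ₜ[A] u k) + (fun k => x ⊗ₜ[A] v k) := by
      ext k; simp [TensorProduct.tmul_add]
    rw [this]; exact Submodule.add_mem _ hu hv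
  | smul b v _ hv =>
    have : (fun k => x ⊗ₜ[A] (b • v) k) = ((1 : A') ⊗ₜ[A] b) • (fun k => x ⊗ₜ[A] v k) := by
      ext k; simp [Algebra.TensorProduct.tmul_mul_tmul]
    rw [this]; exact Submodule.smul_mem _ _ hv

theorem main (hflat : Module.Flat A (B ⧸ Ideal.span (Set.range f))) (hq : CAlgX.IsH1Regular f) :
    CAlgX.IsH1Regular (fun i => ((1 : A') ⊗ₜ[A] f i : A' ⊗[A] B)) := by
  intro a' ha'
  obtain ⟨w, rfl⟩ := (TensorProduct.piRight A A A' (fun _ : Fin r => B)).surjective a'
  have h1 : (((φ f).restrictScalars A).lTensor A') w = 0 := by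
    rw [lTensor_φ_apply]; exact ha'
  have hcomp : (φ f).restrictScalars A = (Jr A f).subtype ∘ₗ φbar A f :=
    LinearMap.ext fun a => rfl
  rw [hcomp, LinearMap.lTensor_comp, LinearMap.comp_apply] at h1
  have hinj := FlatQuot.lTensor_injective_of_flat_coker A' (Jr A f).subtype (mkA A f)
    (Submodule.subtype_injective _) Ideal.Quotient.mk_surjective (exact_Jr A f)
  have h2 : (φbar A f).lTensor A' w = 0 := hinj (h1.trans (map_zero _).symm)
  obtain ⟨u, rfl⟩ := (lTensor_exact A' (exact_Zr A f) (φbar_surjective A f) w).mp h2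
  clear h1 h2 ha'
  induction u using TensorProduct.induction_on with
  | zero =>
    rw [map_zero, map_zero]; exact Submodule.zero_mem _
  | tmul x z =>
    rw [LinearMap.lTensor_tmul, TensorProduct.piRight_apply, TensorProduct.piRightHom_tmul]
    exact claim2 A A' f x z.1 (by rw [← ker_eq f hq]; exact z.2)
  | add x y hx hy =>
    rw [map_add, map_add]; exact Submodule.add_mem _ hx hy

end Groth.Agent.Helper1.FlatQuotReg
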