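import Mathlib
set_option autoImplicit false
universe u
namespace Groth.Agent.Helper1.FlatSub
open Cardinal

variable {A B : Type u} [CommRing A] [CommRing B] [Algebra A B]

section Card

lemma kappa_ge : ℵ₀ ≤ max #A ℵ₀ := le_max_right _ _

lemma mul_le_kappa {c a b : Cardinal.{u}} (hc : ℵ₀ ≤ c) (ha : a ≤ c) (hb : b ≤ c) : a * b ≤ c :=
  (mul_le_mul' ha hb).trans_eq (Cardinal.mul_eq_self hc)

lemma add_le_kappa {c a b : Cardinal.{u}} (hc : ℵ₀ ≤ c) (ha : a ≤ c) (hb : b ≤ c) : a + b ≤ c :=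
  (add_le_add ha hb).trans_eq (Cardinal.add_eq_self hc)

lemma mk_fin_arrow_le {X : Type u} {c : Cardinal.{u}} (hc : ℵ₀ ≤ c) (hX : #X ≤ c) (l : ℕ) :
    #(Fin l → X) ≤ c := by
  rw [Cardinal.mk_arrow]
  simp only [Cardinal.mk_fintype, Fintype.card_fin, Cardinal.lift_natCast, Cardinal.lift_uzero]
  exact Cardinal.power_nat_le_max.trans (max_le hX hc)

lemma sum_nat_le {c : Cardinal.{u}} (hc : ℵ₀ ≤ c) (f : ℕ → Cardinal.{u}) (hf : ∀ n, f n ≤ c) :
    Cardinal.sum f ≤ c := by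
  refine (Cardinal.sum_le_sum _ (fun _ => c) hf).trans ?_
  rw [Cardinal.sum_const]
  simp only [Cardinal.mk_nat, Cardinal.lift_aleph0, Cardinal.lift_uzero]
  rw [Cardinal.aleph0_mul_eq hc]

end Card

section Main
variable (A B)

/-- index type for relations -/
abbrev Rel : Type u := Σ l : ℕ, (Fin l → A) × (Fin l → B)

/-- trivialization data for all relations -/
structure Triv where
  k : Rel A B → ℕ
  a : ∀ p : Rel A B, Fin p.1 → Fin (k p) → A
  y : ∀ p : Rel A B, Fin (k p) → B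
  h : ∀ p : Rel A B, (∑ i, p.2.1 i • p.2.2 i = 0) →
    (∀ i, p.2.2 i = ∑ j, a p i j • y p j) ∧ ∀ j, ∑ i, p.2.1 i * a p i j = 0

lemma exists_triv [Module.Flat A B] : Nonempty (Triv A B) := by
  have H : ∀ p : Rel A B, ∃ (k : ℕ) (a : Fin p.1 → Fin k → A) (y : Fin k → B),
      (∑ i, p.2.1 i • p.2.2 i = 0) →
        (∀ i, p.2.2 i = ∑ j, a i j • y j) ∧ ∀ j, ∑ i, p.2.1 i * a i j = 0 := by
    intro p
    by_cases h : ∑ i, p.2.1 i • p.2.2 i = 0
    · obtain ⟨k, a, y, h1, h2⟩ := Module.Flat.iff_forall_isTrivialRelation.mp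
        (inferInstance : Module.Flat A B) h
      exact ⟨k, a, y, fun _ => ⟨h1, h2⟩⟩
    · exact ⟨0, fun _ _ => 0, fun _ => 0, fun h' => absurd h' h⟩
  choose k a y h using H
  exact ⟨⟨k, a, y, h⟩⟩

variable {A B} (τ : Triv A B)

/-- parameter type for the new elements over `E` -/
abbrev Par (E : Subalgebra A B) : Type u := Σ _ : ℕ, (Σ l : ℕ, (Fin l → A) × (Fin l → E))

/-- the relation attached to a parameter -/
def Par.rel {E : Subalgebra A B} (t : Par E) : Rel A B :=
  ⟨t.2.1, t.2.2.1, fun i => (t.2.2.2 i : B)⟩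

/-- the new elements -/
noncomputable def gen (E : Subalgebra A B) (t : Par E) : B :=
  if h : t.1 < τ.k t.rel then τ.y t.rel ⟨t.1, h⟩ else 0

/-- one step of the closure -/
noncomputable def next (E : Subalgebra A B) : Subalgebra A B :=
  Algebra.adjoin A ((E : Set B) ∪ Set.range (gen τ E))

lemma le_next (E : Subalgebra A B) : E ≤ next τ E :=
  fun _ hx => Algebra.subset_adjoin (Or.inl hx)

lemma y_mem_next (E : Subalgebra A B) (p : Rel A B) (hp : ∀ i, p.2.2 i ∈ E) (j : Fin (τ.k p)) :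
    τ.y p j ∈ next τ E := by
  apply Algebra.subset_adjoin
  right
  let t : Par E := ⟨j.1, p.1, p.2.1, fun i => ⟨p.2.2 i, hp i⟩⟩
  have ht : t.rel = p := rfl
  refine ⟨t, ?_⟩
  have hj : t.1 < τ.k t.rel := by rw [ht]; exact j.2
  rw [gen, dif_pos hj]
  rfl

lemma card_par_le {c : Cardinal.{u}} (hc : ℵ₀ ≤ c) (hA : #A ≤ c) (E : Subalgebra A B)
    (hE : #E ≤ c) : #(Par E) ≤ c := by
  rw [Cardinal.mk_sigma]
  refine sum_nat_le hc _ fun _ => ?_
  rw [Cardinal.mk_sigma]
  refine sum_nat_le hc _ fun l => ?_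
  rw [Cardinal.mk_prod, Cardinal.lift_id, Cardinal.lift_id]
  exact mul_le_kappa hc (mk_fin_arrow_le hc hA l) (mk_fin_arrow_le hc hE l)

lemma card_next_le {c : Cardinal.{u}} (hc : ℵ₀ ≤ c) (hA : #A ≤ c) (E : Subalgebra A B)
    (hE : #E ≤ c) : #(next τ E) ≤ c := by
  refine (Algebra.cardinalMk_adjoin_le A _).trans ?_
  refine max_le (max_le hA ?_) hc
  refine (Cardinal.mk_union_le _ _).trans (add_le_kappa hc hE ?_)
  exact Cardinal.mk_range_le.trans (card_par_le hc hA E hE)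

/-- the chain of subalgebras -/
noncomputable def chain (E : Subalgebra A B) : ℕ → Subalgebra A B
  | 0 => E
  | n + 1 => next τ (chain E n)

lemma chain_mono (E : Subalgebra A B) : Monotone (chain τ E) :=
  monotone_nat_of_le_succ fun n => le_next τ (chain τ E n)

lemma card_chain_le {c : Cardinal.{u}} (hc : ℵ₀ ≤ c) (hA : #A ≤ c) (E : Subalgebra A B)
    (hE : #E ≤ c) (n : ℕ) : #(chain τ E n) ≤ c := by
  induction n with
  | zero => exact hE
  | succ n ih => exact card_next_le τ hc hA _ ih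

theorem S6386 (A B : Type u) [CommRing A] [CommRing B] [Algebra A B]
    [Module.Flat A B] (E : Subalgebra A B) (hE : Cardinal.mk E ≤ max (Cardinal.mk A) Cardinal.aleph0) :
    ∃ B' : Subalgebra A B, E ≤ B' ∧ Module.Flat A B' ∧
      Cardinal.mk B' ≤ max (Cardinal.mk A) Cardinal.aleph0 := by
  obtain ⟨τ⟩ := exists_triv A B
  have hc : ℵ₀ ≤ max #A ℵ₀ := le_max_right _ _
  have hA : #A ≤ max #A ℵ₀ := le_max_left _ _
  have hdir : Directed (· ≤ ·) (chain τ E) := (chain_mono τ E).directed_le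
  let B' : Subalgebra A B := ⨆ n, chain τ E n
  have hset : ((B' : Set B)) = ⋃ n, (chain τ E n : Set B) :=
    Subalgebra.coe_iSup_of_directed hdir
  have hmem : ∀ x : B, x ∈ B' ↔ ∃ n, x ∈ chain τ E n := by
    intro x
    rw [← SetLike.mem_coe, hset, Set.mem_iUnion]
    rfl
  refine ⟨B', le_iSup (chain τ E) 0, ?_, ?_⟩
  · rw [Module.Flat.iff_forall_isTrivialRelation]
    intro l f x hrel
    have hx : ∀ i, ∃ n, (x i : B) ∈ chain τ E n := fun i => (hmem _).mp (x i).2
    choose n hn using hx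
    let N := Finset.univ.sup n
    have hN : ∀ i, (x i : B) ∈ chain τ E N := fun i =>
      chain_mono τ E (Finset.le_sup (Finset.mem_univ i)) (hn i)
    let p : Rel A B := ⟨l, f, fun i => (x i : B)⟩
    have hp : ∑ i, p.2.1 i • p.2.2 i = 0 := by
      have := congrArg (Subtype.val) hrel
      simpa using this
    obtain ⟨h1, h2⟩ := τ.h p hp
    have hy : ∀ j, τ.y p j ∈ B' := fun j =>
      (hmem _).mpr ⟨N + 1, y_mem_next τ (chain τ E N) p hN j⟩
    refine ⟨τ.k p, τ.a p, fun j => ⟨τ.y p j, hy j⟩, fun i => ?_, h2⟩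
    apply Subtype.ext
    refine (h1 i).trans ?_
    simp
  · have : #B' = #(↥(⋃ n, (chain τ E n : Set B))) := by
      apply Cardinal.mk_congr
      exact Equiv.setCongr hset
    rw [this]
    have h3 := Cardinal.mk_iUnion_le_sum_mk_lift (f := fun n => (chain τ E n : Set B))
    rw [Cardinal.lift_uzero] at h3
    exact h3.trans (sum_nat_le hc _ fun n => card_chain_le τ hc hA E hE n)

end Main

end Groth.Agent.Helper1.FlatSub
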