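import Mathlib
import Groth.Prelude.Def_Coh
import Groth.Agent.Lib.Helper4.T2Main1
import Groth.Agent.Lib.Helper1.Dv21

/-!
# Frobenius split proper schemes: the cokernel of Frobenius has no cohomology (helper1)
-/

set_option backward.isDefEq.respectTransparency.types false
set_option synthInstance.maxHeartbeats 400000
set_option autoImplicit false
set_option linter.unusedSectionVars false
set_option linter.style.haveILetI false
set_option linter.unusedVariables false
universe u
open CategoryTheory CategoryTheory.Limits AlgebraicGeometry TopologicalSpace Opposite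

namespace Groth.Agent.Helper1.FrobSplit

/-- An injective additive `p`-semilinear endomorphism of a finite-dimensional vector space over a
perfect field of characteristic `p` is surjective. -/
theorem surjective_of_semilinear {k : Type*} [Field k] (p : ℕ) [Fact p.Prime] [CharP k p]
    [PerfectField k] {V : Type*} [AddCommGroup V] [Module k V] [Module.Finite k V]
    (F : V →+ V) (hF : Function.Injective F)
    (hsl : ∀ (c : k) (v : V), F (c • v) = c ^ p • F v) :
    Function.Surjective F := by
  haveI : ExpChar k p := ExpChar.prime Fact.out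
  haveI : PerfectRing k p := PerfectField.toPerfectRing p
  have hbij : Function.Bijective (frobenius k p) := bijective_frobenius k p
  obtain ⟨W, hW⟩ : ∃ W : Submodule k V, ∀ v, v ∈ W ↔ ∃ y, F y = v := by
    refine ⟨{ carrier := Set.range F, add_mem' := ?_, zero_mem' := ⟨0, map_zero F⟩,
              smul_mem' := ?_ }, fun v => Iff.rfl⟩
    · rintro _ _ ⟨a, rfl⟩ ⟨b, rfl⟩
      exact ⟨a + b, map_add F a b⟩
    · rintro c _ ⟨y, rfl⟩
      obtain ⟨d, hd⟩ := hbij.2 c
      refine ⟨d • y, ?_⟩
      rw [hsl, ← hd, frobenius_def]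
  have hmem : ∀ v, F v ∈ W := fun v => (hW _).mpr ⟨v, rfl⟩
  obtain ⟨j, hj⟩ : ∃ j : V ≃+ W, ∀ v, (j v : V) = F v := by
    refine ⟨AddEquiv.ofBijective
      (AddMonoidHom.mk' (fun v => (⟨F v, hmem v⟩ : W))
        (fun a b => Subtype.ext (map_add F a b))) ⟨?_, ?_⟩, fun v => rfl⟩
    · intro a b hab
      exact hF (congrArg Subtype.val hab)
    · rintro ⟨w, hw⟩
      obtain ⟨y, hy⟩ := (hW w).mp hw
      exact ⟨y, Subtype.ext hy⟩
  have hrank : Module.rank k V = Module.rank k W :=
    rank_eq_of_equiv_equiv (frobenius k p) j hbij (fun r m => Subtype.ext (by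
      rw [hj, Submodule.coe_smul, hj, hsl, frobenius_def]))
  have hfin : Module.finrank k W = Module.finrank k V := by
    unfold Module.finrank
    rw [hrank]
  have htop : W = ⊤ := Submodule.eq_top_of_finrank_eq hfin
  intro v
  exact (hW v).mp (htop ▸ Submodule.mem_top)

theorem Hmap_zero {C : Type*} [Category C] {J : GrothendieckTopology C}
    {F G : Sheaf J AddCommGrpCat.{u}} [HasSheafify J AddCommGrpCat.{u}]
    [HasExt.{u} (Sheaf J AddCommGrpCat.{u})] (n : ℕ) (x : Sheaf.H F n) :
    Sheaf.H.map (0 : F ⟶ G) n x = 0 := by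
  change ((Sheaf.functorH J n).map (0 : F ⟶ G)).hom x = 0
  rw [Functor.map_zero]
  rfl

section Geom

variable (p : ℕ) [Fact p.Prime] (k : Type u) [Field k] [CharP k p] [PerfectField k]
  (X : Scheme.{u}) [X.Over (Spec (CommRingCat.of k))]

theorem smulAb_comm_frob
    (φ : Coh.toAb (Coh.structureModule X) ⟶ Coh.toAb (Coh.structureModule X))
    (hφ : ∀ (U : X.Opens) (t : Γ(X, U)), φ.hom.app (op U) t = t ^ p) (r : Coh.Γtop X) :
    Coh.smulAb (Coh.structureModule X) r ≫ φ =
      φ ≫ Coh.smulAb (Coh.structureModule X) (r ^ p) := by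
  ext U m
  induction U using Opposite.rec with
  | _ U =>
  change φ.hom.app (op U) ((Coh.smulAb (Coh.structureModule X) r).hom.app (op U) m) =
    (Coh.smulAb (Coh.structureModule X) (r ^ p)).hom.app (op U) (φ.hom.app (op U) m)
  rw [Coh.smulAb_app, Coh.smulAb_app]
  have e1 : φ.hom.app (op U) m = (show Γ(X, U) from m) ^ p := hφ U m
  have e2 : φ.hom.app (op U)
      ((show Γ(X, U) from Coh.resTop X (op U) r) * (show Γ(X, U) from m)) =
      ((show Γ(X, U) from Coh.resTop X (op U) r) * (show Γ(X, U) from m)) ^ p := hφ U _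
  have e3 : Coh.resTop X (op U) (r ^ p) = (Coh.resTop X (op U) r) ^ p := map_pow _ r p
  rw [e1, e3]
  refine e2.trans ?_
  exact mul_pow (show Γ(X, U) from Coh.resTop X (op U) r) (show Γ(X, U) from m) p

theorem smul_def (M : X.Modules) (i : ℕ) (c : k) (x : Coh.HH X M i) :
    c • x = Sheaf.H.map (Coh.smulAb M (Coh.toGlobal (X ↘ Spec (CommRingCat.of k)) c)) i x := rfl

theorem Hmap_semilinear
    (φ : Coh.toAb (Coh.structureModule X) ⟶ Coh.toAb (Coh.structureModule X))
    (hφ : ∀ (U : X.Opens) (t : Γ(X, U)), φ.hom.app (op U) t = t ^ p) (i : ℕ) (c : k)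
    (x : Coh.HH X (Coh.structureModule X) i) :
    Sheaf.H.map φ i (c • x) = c ^ p • Sheaf.H.map φ i x := by
  rw [smul_def, smul_def, ← Sheaf.H.map_comp_apply, ← Sheaf.H.map_comp_apply, map_pow,
    smulAb_comm_frob p X φ hφ]

variable [IsProper (X ↘ Spec (CommRingCat.of k))]

include k in
theorem main
    (φ : Coh.toAb (Coh.structureModule X) ⟶ Coh.toAb (Coh.structureModule X))
    (hφ : ∀ (U : X.Opens) (t : Γ(X, U)), φ.hom.app (op U) t = t ^ p)
    (s : Coh.toAb (Coh.structureModule X) ⟶ Coh.toAb (Coh.structureModule X))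
    (hs : φ ≫ s = 𝟙 _) (i : ℕ) : Subsingleton (Sheaf.H (Limits.cokernel φ) i) := by
  haveI : Module.Finite k (Coh.HH X (Coh.structureModule X) i) :=
    Groth.Agent.Lib.Helper4.T2Main1.t2 k X _ (Groth.Agent.Helper1.Dv.isCoh_structureModule X) i
  have hinj : Function.Injective (Sheaf.H.map φ i) := by
    intro x y hxy
    have := congrArg (Sheaf.H.map s i) hxy
    rwa [← Sheaf.H.map_comp_apply, ← Sheaf.H.map_comp_apply, hs, Sheaf.H.map_id_apply,
      Sheaf.H.map_id_apply] at this
  have hsurj : Function.Surjective (Sheaf.H.map φ i) :=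
    surjective_of_semilinear (k := k) (V := Coh.HH X (Coh.structureModule X) i) p
      (Sheaf.H.map φ i) hinj (Hmap_semilinear p k X φ hφ i)
  have h0 : φ ≫ (𝟙 _ - s ≫ φ) = 0 := by
    rw [Preadditive.comp_sub, Category.comp_id, ← Category.assoc, hs, Category.id_comp, sub_self]
  obtain ⟨t, ht⟩ : ∃ t : cokernel φ ⟶ Coh.toAb (Coh.structureModule X),
      cokernel.π φ ≫ t = 𝟙 _ - s ≫ φ := ⟨cokernel.desc φ _ h0, cokernel.π_desc _ _ _⟩
  have htπ : t ≫ cokernel.π φ = 𝟙 _ := by
    rw [← cancel_epi (cokernel.π φ), ← Category.assoc, ht, Preadditive.sub_comp, Category.id_comp,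
      Category.assoc, cokernel.condition, comp_zero, sub_zero, Category.comp_id]
  have hx : ∀ x : Sheaf.H (cokernel φ) i, x = 0 := by
    intro x
    have e1 : x = Sheaf.H.map (cokernel.π φ) i (Sheaf.H.map t i x) := by
      rw [← Sheaf.H.map_comp_apply, htπ, Sheaf.H.map_id_apply]
    obtain ⟨y, hy⟩ := hsurj (Sheaf.H.map t i x)
    rw [e1, ← hy, ← Sheaf.H.map_comp_apply, cokernel.condition]
    exact Hmap_zero i y
  exact ⟨fun x y => by rw [hx x, hx y]⟩

end Geom

end Groth.Agent.Helper1.FrobSplit
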