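import Mathlib
import Groth.Agent.Lib.Helper1.CurveNonneg
import Groth.Agent.Lib.Helper1.GenusOne2
import Groth.Agent.Lib.Helper1.PtInv2
import Groth.Agent.Lib.Helper4.Japanese2
import Groth.Agent.Lib.Helper4.CurveTop1
import Groth.Agent.Lib.Helper2.Norm.ResolveCurveC

/-!
# Genus-zero curves over an infinite field: the Picard group and regular points of minimal degree
(helper1)
-/

set_option linter.style.haveILetI false
set_option linter.unusedVariables false
set_option linter.unusedSectionVars false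
set_option linter.unusedSimpArgs false
set_option autoImplicit false
set_option backward.isDefEq.respectTransparency.types false
set_option synthInstance.maxHeartbeats 400000
set_option maxHeartbeats 1600000

universe u

open CategoryTheory CategoryTheory.Limits AlgebraicGeometry Opposite TopologicalSpace
open Groth.Agent.Helper1 Groth.Agent.Helper1.QcCech Groth.Agent.Helper1.LGen
open Groth.Agent.Helper1.TwForm Groth.Agent.Helper1.CurveDual Groth.Agent.Helper1.CurvePt
open Groth.Agent.Helper1.CurveLin Groth.Agent.Helper1.Euler Groth.Agent.Helper1.Curve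
open Groth.Agent.Lib.Helper4 Groth.Agent.Lib.Helper4.TwExact
open Groth.Agent.Helper1.SubSh Groth.Agent.Helper1.TmulLib Groth.Agent.Helper1.TensGen
open Groth.Agent.Helper1.Dv Groth.Agent.Helper1.CurveAmp Groth.Agent.Helper1.FinSupp
open Groth.Agent.Helper1.PtInv Groth.Agent.Helper1.PtDeg Groth.Agent.Helper1.GenusOne

attribute [local instance] Curv2.resAlgebra

namespace Groth.Agent.Helper1.GZPic

theorem one_le_zero_false (h : (1 : WithBot ℕ∞) ≤ 0) : False := by
  have h' : ((1 : ℕ∞) : WithBot ℕ∞) ≤ ((0 : ℕ∞) : WithBot ℕ∞) := h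
  rw [WithBot.coe_le_coe] at h'
  simp at h'

section Sing

variable (k : Type u) [Field k] (X : Scheme.{u}) [X.Over (Spec (CommRingCat.of k))]
  [IsIntegral X] [IsProper (X ↘ (Spec (CommRingCat.of k)))]

theorem ne_genericPoint_of_isClosed (hdim : topologicalKrullDim X = 1) (x : X)
    (hx : IsClosed ({x} : Set X)) : x ≠ genericPoint X := by
  intro h
  have h1 : closure ({x} : Set X) = Set.univ := by
    rw [h]; exact (genericPoint_spec X).def
  rw [hx.closure_eq] at h1
  haveI : Subsingleton X := by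
    constructor
    intro a b
    have ha : a ∈ ({x} : Set X) := by rw [h1]; exact Set.mem_univ a
    have hb : b ∈ ({x} : Set X) := by rw [h1]; exact Set.mem_univ b
    rw [Set.mem_singleton_iff] at ha hb
    rw [ha, hb]
  haveI : Nonempty X := ⟨x⟩
  have h0 := topologicalKrullDim_zero_of_discreteTopology X
  rw [hdim] at h0
  exact one_le_zero_false h0

include k in
/-- the non-regular points of an integral proper curve lie in a finite set of closed points -/
theorem exists_finite_nonregular (hdim : topologicalKrullDim X = 1) :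
    ∃ T : Set X, T.Finite ∧ (∀ x ∈ T, IsClosed ({x} : Set X)) ∧ IsClosed T ∧ (∃ x : X, x ∉ T) ∧
      ∀ x : X, x ∉ T → IsRegularLocalRing (X.presheaf.stalk x) := by
  haveI : AlgebraicGeometry.IsNoetherian X := isNoetherian_of_proper k X
  haveI qc : QuasiCompact (X.fromSpecStalk (genericPoint X)) := by
    constructor
    intro U _ _
    have : Finite (Spec (X.presheaf.stalk (genericPoint X))) :=
      inferInstanceAs (Finite (PrimeSpectrum X.functionField))
    exact (Set.toFinite _).isCompact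
  haveI qs : QuasiSeparated (X.fromSpecStalk (genericPoint X)) := inferInstance
  have hfin : IsFinite (Curv2.normalizationι X) :=
    Groth.Agent.Lib.Helper4.Japanese2.isFinite_normalizationι k X (X ↘ Spec (CommRingCat.of k))
  obtain ⟨hprop, hint, ⟨V, hVne, hViso⟩, hreg⟩ :=
    Groth.Agent.Helper2.ResolveCurve.resolution_of_isFinite_normalization X hdim hfin
  have hcurve : ∀ x : X, IsClosed ({x} : Set X) → ringKrullDim (X.presheaf.stalk x) = 1 :=
    fun x hx => Groth.Agent.Helper2.ResolveCurve.ringKrullDim_stalk_eq_one X hdim x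
      (ne_genericPoint_of_isClosed X hdim x hx)
  have hT := (Groth.Agent.Lib.Helper4.CurveTop1.S4443_main' k X hcurve).2 ((V : Set X)ᶜ)
    V.isOpen.isClosed_compl
  have hne : ((V : Set X)ᶜ) ≠ Set.univ := by
    intro h
    obtain ⟨v, hv⟩ := hVne
    have : v ∈ ((V : Set X)ᶜ) := by rw [h]; exact Set.mem_univ v
    exact this hv
  obtain ⟨hTfin, hTcl⟩ := hT.1 hne
  refine ⟨(V : Set X)ᶜ, hTfin, hTcl, V.isOpen.isClosed_compl,
    ⟨hVne.some, fun h => h hVne.some_mem⟩, ?_⟩
  intro x hx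
  have hxV : x ∈ V := by
    by_contra h
    exact hx h
  set ν := (X.fromSpecStalk (genericPoint X)).fromNormalization with hν
  haveI := hViso
  -- the restriction of `ν` over `V` is an open immersion
  have hcomp : (ν ⁻¹ᵁ V).ι ≫ ν = (ν ∣_ V) ≫ V.ι := (morphismRestrict_ι ν V).symm
  haveI : IsOpenImmersion ((ν ⁻¹ᵁ V).ι ≫ ν) := by
    rw [hcomp]; infer_instance
  obtain ⟨x', hx'⟩ : ∃ x' : ↥(ν ⁻¹ᵁ V), (ν ∣_ V) x' = ⟨x, hxV⟩ :=
    (ConcreteCategory.bijective_of_isIso (ν ∣_ V).base).2 ⟨x, hxV⟩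
  have hgx : ((ν ⁻¹ᵁ V).ι ≫ ν) x' = x := by
    rw [hcomp]
    change V.ι ((ν ∣_ V) x') = x
    rw [hx']
    rfl
  haveI h1 : IsRegularLocalRing ((ν ⁻¹ᵁ V).toScheme.presheaf.stalk x') :=
    @IsRegularLocalRing.of_ringEquiv _ _ (hreg x'.1) _ _
      ((ν ⁻¹ᵁ V).stalkIso x').symm.commRingCatIsoToRingEquiv
  have h2 : IsRegularLocalRing (X.presheaf.stalk (((ν ⁻¹ᵁ V).ι ≫ ν) x')) :=
    IsRegularLocalRing.of_ringEquiv
      (asIso (((ν ⁻¹ᵁ V).ι ≫ ν).stalkMap x')).symm.commRingCatIsoToRingEquiv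
  rw [hgx] at h2
  exact h2

end Sing

section Gen

variable {X : Scheme.{u}}

theorem ne_zero_of_genAt {M : X.Modules} (σ : Γ(M, ⊤)) (x : X) (h : GenAt M σ x) : σ ≠ 0 := by
  rintro rfl
  obtain ⟨V, hxV, hV⟩ := h
  have hinj := (hV V le_rfl).1
  have h1 : (1 : Γ(X, V)) = 0 := by
    apply hinj
    show (1 : Γ(X, V)) • res M le_rfl (res M (le_top : V ≤ ⊤) (0 : Γ(M, ⊤))) =
      (0 : Γ(X, V)) • res M le_rfl (res M (le_top : V ≤ ⊤) (0 : Γ(M, ⊤)))
    rw [map_zero, map_zero, smul_zero, smul_zero]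
  exact one_ne_zero_sections V x hxV h1

end Gen

section Key

variable (k : Type u) [Field k] (X : Scheme.{u}) [X.Over (Spec (CommRingCat.of k))]
  [IsIntegral X] [IsProper (X ↘ (Spec (CommRingCat.of k)))]

include k in
theorem forall_genAt_of_closed' {M : X.Modules} (σ : Γ(M, ⊤))
    (h : ∀ (Q : X), IsClosed ({Q} : Set X) → GenAt M σ Q) (x : X) : GenAt M σ x := by
  haveI := isNoetherian_of_proper k X
  obtain ⟨x₀, hx₀mem, hx₀⟩ := IsClosed.exists_closed_singleton
    (isClosed_closure : IsClosed (closure ({x} : Set X))) ⟨x, subset_closure rfl⟩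
  obtain ⟨V, hxV, hV⟩ := h x₀ hx₀
  exact ⟨V, (specializes_iff_mem_closure.2 hx₀mem).mem_open V.isOpen hxV, hV⟩

/-- the degree of a closed point is positive -/
theorem finrank_quotMod_pt_pos (x : X) (hx : IsClosed ({x} : Set X)) :
    0 < Module.finrank k (Coh.HH X (ClSub.quotMod (ptIdeal x hx)) 0) := by
  haveI := isNoetherian_of_proper k X
  haveI : IsLocallyNoetherian X := (isNoetherian_of_proper k X).toIsLocallyNoetherian
  letI a1 : Algebra k Γ((ptIdeal x hx).subscheme, ⊤) :=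
    (toΓ' k (ptIdeal x hx).subscheme
      ((ptIdeal x hx).subschemeι ≫ (X ↘ Spec (CommRingCat.of k)))).toAlgebra
  obtain ⟨E⟩ := nonempty_HH_quotMod_linearEquiv k X (ptIdeal x hx)
  obtain ⟨E'⟩ := nonempty_linearEquiv_residueField k X x hx
  haveI : Module.Finite k (Coh.HH X (ClSub.quotMod (ptIdeal x hx)) 0) :=
    T2Main1.t2 k X _ (isCoh_quotMod _) 0
  haveI : Nontrivial (Coh.HH X (ClSub.quotMod (ptIdeal x hx)) 0) :=
    (E.trans E').toEquiv.nontrivial
  exact Module.finrank_pos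

/-- the degree of the ideal sheaf of a closed point -/
theorem deg_ptIdeal_eq (Q : X) (hQ : IsClosed ({Q} : Set X)) :
    Curv2.deg k X (ClSub.idealMod (ptIdeal Q hQ)) 1 =
      -(Module.finrank k (Coh.HH X (ClSub.quotMod (ptIdeal Q hQ)) 0) : ℤ) := by
  rw [deg_ptIdeal' k X Q hQ, finrank_quotMod_pt' k X Q hQ]

/-- a finite set of closed points is avoided by the zeros of some global section of a globally
generated invertible module, over an infinite field -/
theorem exists_section_genAt_finite [Infinite k] (M : X.Modules) (hM : PicF.IsInvertible M)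
    (hgg : Curv2.IsGloballyGenerated M) (T : Set X) (hT : T.Finite)
    (hTcl : ∀ x ∈ T, IsClosed ({x} : Set X)) :
    ∃ σ : Γ(M, ⊤), ∀ x ∈ T, GenAt M σ x := by
  obtain ⟨e'⟩ := TwistAmpleOpen.nonempty_tensorMod_unit_iso M
  haveI : Finite ↥T := hT.to_subtype
  have hex : ∃ s'' : Coh.HH X ((TL M).obj (Coh.structureModule X)) 0,
      ∀ t : ↥T, Canon.HHlin k ((TL M).map
        (ClSub.toSubscheme (ptIdeal t.1 (hTcl t.1 t.2)))) 0 s'' ≠ 0 := by
    by_contra hcon
    push Not at hcon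
    have hcov : ⋃ t : ↥T, ((LinearMap.ker (Canon.HHlin k ((TL M).map
        (ClSub.toSubscheme (ptIdeal t.1 (hTcl t.1 t.2)))) 0) :
          Subspace k (Coh.HH X ((TL M).obj (Coh.structureModule X)) 0)) :
          Set (Coh.HH X ((TL M).obj (Coh.structureModule X)) 0)) = Set.univ := by
      ext s''
      simp only [Set.mem_iUnion, SetLike.mem_coe, LinearMap.mem_ker, Set.mem_univ, iff_true]
      exact hcon s''
    obtain ⟨t, ht⟩ := Subspace.exists_eq_top_of_iUnion_eq_univ hcov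
    have hf0 := LinearMap.ker_eq_top.1 ht
    obtain ⟨σ, hσ⟩ := CurvePt.exists_genAt_of_gg X M hM hgg t.1
    have hgen' : GenAt (CohB1.tensorMod (Coh.structureModule X) M) (e'.symm.hom.app ⊤ σ) t.1 :=
      genAt_of_iso e'.symm σ t.1 hσ
    have hne := image_ne_zero_of_genAt hM t.1 (hTcl t.1 t.2) _ hgen'
    apply hne
    have h2 := equiv_HHlin k ((TL M).map (ClSub.toSubscheme (ptIdeal t.1 (hTcl t.1 t.2))))
      ((HH0.equiv X ((TL M).obj (Coh.structureModule X))).symm (e'.symm.hom.app ⊤ σ))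
    have h3 : Canon.HHlin k ((TL M).map (ClSub.toSubscheme (ptIdeal t.1 (hTcl t.1 t.2)))) 0
        ((HH0.equiv X ((TL M).obj (Coh.structureModule X))).symm (e'.symm.hom.app ⊤ σ)) = 0 :=
      LinearMap.congr_fun hf0 _
    have h4 := h2.symm.trans ((congrArg (HH0.equiv X _) h3).trans (map_zero _))
    have h5 : HH0.equiv X ((TL M).obj (Coh.structureModule X))
        ((HH0.equiv X ((TL M).obj (Coh.structureModule X))).symm (e'.symm.hom.app ⊤ σ)) =
        e'.symm.hom.app ⊤ σ := AddEquiv.apply_symm_apply _ _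
    exact (congrArg (fun y => ((TL M).map
      (ClSub.toSubscheme (ptIdeal t.1 (hTcl t.1 t.2)))).app ⊤ y) h5).symm.trans h4
  obtain ⟨s'', hs''⟩ := hex
  refine ⟨e'.hom.app ⊤ (HH0.equiv X ((TL M).obj (Coh.structureModule X)) s''), fun x hx => ?_⟩
  have hne : ((TL M).map (ClSub.toSubscheme (ptIdeal x (hTcl x hx)))).app ⊤
      (HH0.equiv X ((TL M).obj (Coh.structureModule X)) s'') ≠ 0 := by
    intro h
    apply hs'' ⟨x, hx⟩
    apply (HH0.equiv X _).injective
    exact ((equiv_HHlin k _ s'').trans h).trans (map_zero _).symm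
  exact genAt_of_iso e' _ x (genAt_of_image_ne_zero hM x (hTcl x hx) _ hne)

/-- if a nonzero section of `M` does not generate at the closed point `Q` then
`deg Q ≤ deg M` -/
theorem deg_le_of_not_genAt (hdim : topologicalKrullDim X = 1) (M : X.Modules)
    (hM : PicF.IsInvertible M) (σ : Γ(M, ⊤)) (hσ : σ ≠ 0) (Q : X) (hQ : IsClosed ({Q} : Set X))
    (hI : PicF.IsInvertible (ClSub.idealMod (ptIdeal Q hQ))) (hng : ¬ GenAt M σ Q) :
    (Module.finrank k (Coh.HH X (ClSub.quotMod (ptIdeal Q hQ)) 0) : ℤ) ≤ Curv2.deg k X M 1 := by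
  haveI := isNoetherian_of_proper k X
  haveI : IsLocallyNoetherian X := (isNoetherian_of_proper k X).toIsLocallyNoetherian
  obtain ⟨e'⟩ := TwistAmpleOpen.nonempty_tensorMod_unit_iso M
  have hSE := shortExact_map (locGen_of_isInvertible M hM) (shortExact_S (ptIdeal Q hQ))
  obtain ⟨s', hs'⟩ : ∃ s' : Γ(CohB1.tensorMod (Coh.structureModule X) M, ⊤),
      s' = e'.symm.hom.app ⊤ σ := ⟨_, rfl⟩
  have hback : e'.hom.app ⊤ s' = σ := by
    rw [hs']
    have h := congrArg (fun φ => (Scheme.Modules.Hom.app φ ⊤) σ) e'.inv_hom_id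
    exact h
  have hng' : ¬ GenAt (CohB1.tensorMod (Coh.structureModule X) M) s' Q := by
    intro h
    apply hng
    have h2 := genAt_of_iso e' s' Q h
    rwa [hback] at h2
  have himg : ((TL M).map (ClSub.toSubscheme (ptIdeal Q hQ))).app ⊤ s' = 0 := by
    by_contra hne
    exact hng' (genAt_of_image_ne_zero hM Q hQ s' hne)
  obtain ⟨s'', hs''⟩ : ∃ s'' : Coh.HH X (CohB1.tensorMod (Coh.structureModule X) M) 0,
      s'' = (HH0.equiv X (CohB1.tensorMod (Coh.structureModule X) M)).symm s' := ⟨_, rfl⟩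
  have hes : HH0.equiv X (CohB1.tensorMod (Coh.structureModule X) M) s'' = s' := by
    rw [hs'', AddEquiv.apply_symm_apply]
  have hs''0 : s'' ≠ 0 := by
    intro h
    apply hσ
    have e1 : s' = 0 := by
      rw [← hes, h]
      exact map_zero _
    rw [← hback, e1]
    exact map_zero _
  have hg0 : Canon.HHlin k ((IdealModL.S (ptIdeal Q hQ)).map (TL M)).g 0 s'' = 0 := by
    apply (HH0.equiv X _).injective
    rw [map_zero]
    refine (equiv_HHlin k _ s'').trans ?_
    rw [hes]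
    exact himg
  obtain ⟨t, ht⟩ := HHFin2.exact_f_g k hSE 0 s'' hg0
  have ht0 : t ≠ 0 := by
    intro h
    apply hs''0
    rw [← ht, h]
    exact map_zero _
  have hN : PicF.IsInvertible (CohB1.tensorMod (ClSub.idealMod (ptIdeal Q hQ)) M) :=
    isInvertible_tensorMod hI hM
  obtain ⟨τ, hτ⟩ : ∃ τ : Γ(CohB1.tensorMod (ClSub.idealMod (ptIdeal Q hQ)) M, ⊤),
      τ = HH0.equiv X _ t := ⟨_, rfl⟩
  have hτ0 : τ ≠ 0 := by
    intro h
    apply ht0
    apply (HH0.equiv X _).injective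
    exact (hτ.symm.trans h).trans (map_zero _).symm
  have hs : TwistAmple.homOfSec (CohB1.tensorMod (ClSub.idealMod (ptIdeal Q hQ)) M) τ ≠ 0 := by
    intro h
    apply hτ0
    have h3 := PFrame.homOfSec_app_one (CohB1.tensorMod (ClSub.idealMod (ptIdeal Q hQ)) M) τ
    rw [h] at h3
    exact h3.symm
  have h0 := deg_nonneg_of_section k X hdim hN _ hs
  rw [deg_tensor_inv k X hdim hI hM, deg_ptIdeal_eq k X Q hQ] at h0
  linarith

/-- **key lemma** -/
theorem key [Infinite k] (hdim : topologicalKrullDim X = 1)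
    (h1 : Subsingleton (Coh.HH X (Coh.structureModule X) 1))
    (M : X.Modules) (hM : PicF.IsInvertible M) (hdeg : 0 ≤ Curv2.deg k X M 1)
    (T : Set X) (hT : T.Finite) (hTcl : ∀ x ∈ T, IsClosed ({x} : Set X)) :
    Nonempty (M ≅ Coh.structureModule X) ∨
      ∃ (Q : X) (hQ : IsClosed ({Q} : Set X)), Q ∉ T ∧
        (PicF.IsInvertible (ClSub.idealMod (ptIdeal Q hQ)) →
          (Module.finrank k (Coh.HH X (ClSub.quotMod (ptIdeal Q hQ)) 0) : ℤ) ≤
            Curv2.deg k X M 1) := by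
  have hgg := (CurveNonneg.h1_gg_of_deg_nonneg k X hdim h1 M hM hdeg).2
  obtain ⟨x0⟩ : Nonempty X := inferInstance
  obtain ⟨P0, -, hP0⟩ := exists_closedPoint_mem k (X ↘ Spec (CommRingCat.of k)) ⊤ x0 trivial
  obtain ⟨σ, hσ⟩ := exists_section_genAt_finite k X M hM hgg (T ∪ {P0})
    (hT.union (Set.finite_singleton P0)) (by
      rintro x (hx | hx)
      · exact hTcl x hx
      · rw [Set.mem_singleton_iff] at hx
        rw [hx]; exact hP0)
  have hσ0 : σ ≠ 0 := ne_zero_of_genAt σ P0 (hσ P0 (Or.inr rfl))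
  by_cases hall : ∀ Q : X, IsClosed ({Q} : Set X) → GenAt M σ Q
  · left
    have hall' : ∀ x : X, GenAt M σ x := forall_genAt_of_closed' k X σ hall
    haveI := isIso_homOfSec_of_forall_genAt σ hall'
    exact ⟨(asIso (TwistAmple.homOfSec M σ)).symm⟩
  · right
    push Not at hall
    obtain ⟨Q, hQ, hng⟩ := hall
    exact ⟨Q, hQ, fun hQT => hng (hσ Q (Or.inl hQT)),
      fun hI => deg_le_of_not_genAt k X hdim M hM σ hσ0 Q hQ hI hng⟩

end Key

section Main

variable (k : Type u) [Field k] [Infinite k] (X : Scheme.{u}) [X.Over (Spec (CommRingCat.of k))]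
  [IsIntegral X] [IsProper (X ↘ (Spec (CommRingCat.of k)))]

/-- there is no invertible module of degree strictly between `0` and the least degree of a regular
closed point -/
theorem no_small_degree (hdim : topologicalKrullDim X = 1)
    (h1 : Subsingleton (Coh.HH X (Coh.structureModule X) 1)) (d : ℕ)
    (hmin : ∀ (Q : X) (hQc : IsClosed ({Q} : Set X)), IsRegularLocalRing (X.presheaf.stalk Q) →
      d ≤ Module.finrank k (Coh.HH X (ClSub.quotMod (ptIdeal Q hQc)) 0))
    (M : X.Modules) (hM : PicF.IsInvertible M) (hpos : 0 < Curv2.deg k X M 1)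
    (hlt : Curv2.deg k X M 1 < d) : False := by
  obtain ⟨T₀, hT₀fin, hT₀cl, -, -, hT₀reg⟩ := exists_finite_nonregular k X hdim
  rcases key k X hdim h1 M hM hpos.le T₀ hT₀fin hT₀cl with ⟨⟨e⟩⟩ | ⟨Q, hQ, hQT, hbound⟩
  · have h0 : Curv2.deg k X M 1 = 0 := by
      rw [deg_iso k X e 1, deg_structureModule]
    omega
  · have hreg := hT₀reg Q hQT
    have hI := isInvertible_ptIdeal_of_regular k X hdim Q hQ hreg
    have h2 := hbound hI
    have h3 := hmin Q hQ hreg
    have h4 : (d : ℤ) ≤ (Module.finrank k (Coh.HH X (ClSub.quotMod (ptIdeal Q hQ)) 0) : ℤ) := by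
      exact_mod_cast h3
    omega

/-- an invertible module of nonnegative degree is inverse to a power of the ideal of a regular
closed point of least degree -/
theorem exists_pow_inverse (hdim : topologicalKrullDim X = 1)
    (h1 : Subsingleton (Coh.HH X (Coh.structureModule X) 1))
    (P : X) (hPc : IsClosed ({P} : Set X))
    (hmin : ∀ (Q : X) (hQc : IsClosed ({Q} : Set X)), IsRegularLocalRing (X.presheaf.stalk Q) →
      Module.finrank k (Coh.HH X (ClSub.quotMod (ptIdeal P hPc)) 0) ≤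
        Module.finrank k (Coh.HH X (ClSub.quotMod (ptIdeal Q hQc)) 0))
    (hI : PicF.IsInvertible (ClSub.idealMod (ptIdeal P hPc)))
    (N : X.Modules) (hN : PicF.IsInvertible N) (hdeg : 0 ≤ Curv2.deg k X N 1) :
    ∃ m : ℕ, Nonempty (CohB1.tensorMod N (CohB1.tensorPow (ClSub.idealMod (ptIdeal P hPc)) m) ≅
      Coh.structureModule X) := by
  obtain ⟨d, hd⟩ : ∃ d : ℕ, d = Module.finrank k (Coh.HH X (ClSub.quotMod (ptIdeal P hPc)) 0) :=
    ⟨_, rfl⟩
  have hdpos : 0 < d := by rw [hd]; exact finrank_quotMod_pt_pos k X P hPc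
  obtain ⟨n, hn⟩ : ∃ n : ℤ, n = Curv2.deg k X N 1 := ⟨_, rfl⟩
  rw [← hn] at hdeg
  have hq0 : 0 ≤ n / (d : ℤ) := Int.ediv_nonneg hdeg (by positivity)
  obtain ⟨m, hm⟩ : ∃ m : ℕ, (m : ℤ) = n / (d : ℤ) := ⟨(n / (d : ℤ)).toNat, Int.toNat_of_nonneg hq0⟩
  have hpow := isInvertible_tensorPow hI m
  have hMinv : PicF.IsInvertible
      (CohB1.tensorMod N (CohB1.tensorPow (ClSub.idealMod (ptIdeal P hPc)) m)) :=
    isInvertible_tensorMod hN hpow
  have hdegM : Curv2.deg k X
      (CohB1.tensorMod N (CohB1.tensorPow (ClSub.idealMod (ptIdeal P hPc)) m)) 1 = n % (d : ℤ) := by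
    rw [deg_tensor_inv k X hdim hN hpow, deg_tensorPow k X hdim.le hI m, deg_ptIdeal_eq k X P hPc,
      ← hd, ← hn, hm, Int.emod_def]
    ring
  have hd' : (0 : ℤ) < (d : ℤ) := by exact_mod_cast hdpos
  have hr0 : 0 ≤ n % (d : ℤ) := Int.emod_nonneg n hd'.ne'
  have hrlt : n % (d : ℤ) < (d : ℤ) := Int.emod_lt_of_pos n hd'
  refine ⟨m, ?_⟩
  rcases hr0.lt_or_eq with hpos | hzero
  · exfalso
    refine no_small_degree k X hdim h1 d ?_ _ hMinv (by rw [hdegM]; exact hpos)
      (by rw [hdegM]; exact hrlt)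
    intro Q hQc hQreg
    rw [hd]
    exact hmin Q hQc hQreg
  · exact CurveNonneg.nonempty_iso_of_deg_zero k X hdim h1 _ hMinv (by rw [hdegM]; exact hzero.symm)

/-- **S16301**: the Picard group of a genus-zero curve over an infinite field is generated by the
ideal of a regular closed point of least degree -/
theorem mem_zpowers (hdim : topologicalKrullDim X = 1)
    (h1 : Subsingleton (Coh.HH X (Coh.structureModule X) 1))
    (P : X) (hPc : IsClosed ({P} : Set X))
    (hmin : ∀ (Q : X) (hQc : IsClosed ({Q} : Set X)), IsRegularLocalRing (X.presheaf.stalk Q) →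
      Module.finrank k (Coh.HH X (ClSub.quotMod (ptIdeal P hPc)) 0) ≤
        Module.finrank k (Coh.HH X (ClSub.quotMod (ptIdeal Q hQc)) 0))
    (hI : PicF.IsInvertible (ClSub.idealMod (ptIdeal P hPc))) [PicGrp.Law X]
    (c : PicLoc.PicSet X) :
    c ∈ Subgroup.zpowers (PicGrp.cls (ClSub.idealMod (ptIdeal P hPc)) hI) := by
  obtain ⟨N, hN, rfl⟩ := PicGrp.exists_eq_cls c
  obtain ⟨g, hg⟩ : ∃ g : PicLoc.PicSet X, g = PicGrp.cls (ClSub.idealMod (ptIdeal P hPc)) hI :=
    ⟨_, rfl⟩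
  rw [← hg]
  have hpow : ∀ m : ℕ, PicGrp.cls (CohB1.tensorPow (ClSub.idealMod (ptIdeal P hPc)) m)
      (isInvertible_tensorPow hI m) = g ^ m := by
    intro m
    apply Subtype.ext
    rw [PicGrp.cls_val, hg, PicGrp.cls_pow_val]
  have hA : ∀ (N' : X.Modules) (hN' : PicF.IsInvertible N'), 0 ≤ Curv2.deg k X N' 1 →
      ∃ m : ℕ, PicGrp.cls N' hN' * g ^ m = 1 := by
    intro N' hN' hd
    obtain ⟨m, hm⟩ := exists_pow_inverse k X hdim h1 P hPc hmin hI N' hN' hd
    refine ⟨m, ?_⟩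
    rw [← hpow m]
    exact (PicGrp.cls_mul_cls_eq_one_iff hN' _).2 hm
  rw [Subgroup.mem_zpowers_iff]
  rcases le_total 0 (Curv2.deg k X N 1) with hd | hd
  · obtain ⟨m, hm⟩ := hA N hN hd
    refine ⟨-(m : ℤ), ?_⟩
    rw [zpow_neg, zpow_natCast]
    exact (eq_inv_of_mul_eq_one_left hm).symm
  · obtain ⟨K, hK, ⟨eK⟩⟩ := InvInv2.exists_inverse hN
    have hdK : 0 ≤ Curv2.deg k X K 1 := by
      rw [deg_of_inverse k X hdim hK hN eK]
      linarith
    obtain ⟨m, hm⟩ := hA K hK hdK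
    have hKN : PicGrp.cls K hK * PicGrp.cls N hN = 1 :=
      (PicGrp.cls_mul_cls_eq_one_iff hK hN).2 ⟨eK⟩
    refine ⟨(m : ℤ), ?_⟩
    rw [zpow_natCast]
    exact mul_left_cancel (a := PicGrp.cls K hK) (hm.trans hKN.symm)

/-- **S16302**: a genus-zero curve over an infinite field has infinitely many regular closed points
of least degree -/
theorem infinite_min (hdim : topologicalKrullDim X = 1)
    (h1 : Subsingleton (Coh.HH X (Coh.structureModule X) 1)) :
    {P : X | ∃ hPc : IsClosed ({P} : Set X), IsRegularLocalRing (X.presheaf.stalk P) ∧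
      ∀ (Q : X) (hQc : IsClosed ({Q} : Set X)), IsRegularLocalRing (X.presheaf.stalk Q) →
        Module.finrank k (Coh.HH X (ClSub.quotMod (ptIdeal P hPc)) 0) ≤
          Module.finrank k (Coh.HH X (ClSub.quotMod (ptIdeal Q hQc)) 0)}.Infinite := by
  intro hFfin
  obtain ⟨T₀, hT₀fin, hT₀cl, hT₀closed, ⟨y, hy⟩, hT₀reg⟩ := exists_finite_nonregular k X hdim
  -- a regular closed point
  obtain ⟨P1, hP1U, hP1c⟩ := exists_closedPoint_mem k (X ↘ Spec (CommRingCat.of k))
    (⟨T₀ᶜ, hT₀closed.isOpen_compl⟩ : X.Opens) y hy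
  have hP1reg := hT₀reg P1 hP1U
  -- the least degree
  let S : Set ℕ := {n | ∃ (Q : X) (hQc : IsClosed ({Q} : Set X)),
    IsRegularLocalRing (X.presheaf.stalk Q) ∧
      Module.finrank k (Coh.HH X (ClSub.quotMod (ptIdeal Q hQc)) 0) = n}
  have hSne : S.Nonempty := ⟨_, P1, hP1c, hP1reg, rfl⟩
  obtain ⟨d, ⟨P₀, hP₀c, hP₀r, hP₀d⟩, hdmin⟩ := WellFounded.has_min Nat.lt_wfRel.wf S hSne
  have hmin : ∀ (Q : X) (hQc : IsClosed ({Q} : Set X)), IsRegularLocalRing (X.presheaf.stalk Q) →
      d ≤ Module.finrank k (Coh.HH X (ClSub.quotMod (ptIdeal Q hQc)) 0) := by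
    intro Q hQc hQr
    exact not_lt.1 (hdmin _ ⟨Q, hQc, hQr, rfl⟩)
  have hdpos : 0 < d := by rw [← hP₀d]; exact finrank_quotMod_pt_pos k X P₀ hP₀c
  have hI₀ := isInvertible_ptIdeal_of_regular k X hdim P₀ hP₀c hP₀r
  obtain ⟨K, hK, ⟨eK⟩⟩ := InvInv2.exists_inverse hI₀
  have hdegK : Curv2.deg k X K 1 = d := by
    rw [deg_of_inverse k X hdim hK hI₀ eK, deg_ptIdeal_eq k X P₀ hP₀c, hP₀d]
    ring
  have hTcl : ∀ x ∈ T₀ ∪ {P : X | ∃ hPc : IsClosed ({P} : Set X),
      IsRegularLocalRing (X.presheaf.stalk P) ∧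
      ∀ (Q : X) (hQc : IsClosed ({Q} : Set X)), IsRegularLocalRing (X.presheaf.stalk Q) →
        Module.finrank k (Coh.HH X (ClSub.quotMod (ptIdeal P hPc)) 0) ≤
          Module.finrank k (Coh.HH X (ClSub.quotMod (ptIdeal Q hQc)) 0)},
      IsClosed ({x} : Set X) := by
    rintro x (hx | ⟨hxc, -⟩)
    · exact hT₀cl x hx
    · exact hxc
  rcases key k X hdim h1 K hK (by rw [hdegK]; positivity) _ (hT₀fin.union hFfin) hTcl with
    ⟨⟨e⟩⟩ | ⟨Q, hQ, hQT, hbound⟩
  · have h0 : Curv2.deg k X K 1 = 0 := by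
      rw [deg_iso k X e 1, deg_structureModule]
    rw [hdegK] at h0
    have : d = 0 := by exact_mod_cast h0
    omega
  · have hQT₀ : Q ∉ T₀ := fun h => hQT (Or.inl h)
    have hreg := hT₀reg Q hQT₀
    have hI := isInvertible_ptIdeal_of_regular k X hdim Q hQ hreg
    have h2 := hbound hI
    rw [hdegK] at h2
    have h3 : Module.finrank k (Coh.HH X (ClSub.quotMod (ptIdeal Q hQ)) 0) ≤ d := by
      exact_mod_cast h2
    have h4 := hmin Q hQ hreg
    have h5 : Module.finrank k (Coh.HH X (ClSub.quotMod (ptIdeal Q hQ)) 0) = d := le_antisymm h3 h4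
    apply hQT
    right
    refine ⟨hQ, hreg, fun Q' hQ'c hQ'r => ?_⟩
    rw [h5]
    exact hmin Q' hQ'c hQ'r

end Main

end Groth.Agent.Helper1.GZPic
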