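import Mathlib
import Groth.Prelude.Def_CGrpSh2
import Groth.Agent.Lib.Helper6.GaGm.GaGrp
import Groth.Agent.Lib.Helper1.Eps3

set_option autoImplicit false
set_option linter.unusedSectionVars false
set_option linter.unusedVariables false
set_option maxHeartbeats 400000
universe u
open CategoryTheory CategoryTheory.Limits AlgebraicGeometry Opposite TopologicalSpace

namespace Groth.Agent.Helper1.GaT

open Groth.Agent.Lib.Helper6.GaGm Groth.Agent.Helper1.Eps Groth.Agent.Helper1.Car

variable (S : Scheme.{u})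

/-- points of the additive group over `T` are the global functions of `T` -/
noncomputable def ptsEquiv (T : Over S) :
    ((CGrpSh.pts Scheme.fppfPrecoverage (Red.Ga S)).obj.obj (op T)) ≃+ ((Oab S).obj.obj (op T)) where
  toFun x := (ULift.up (Red.gaFn x.down.toMul) : ULift.{u + 1} Γ(T.left, ⊤))
  invFun a := ULift.up (Additive.ofMul (ptOfFn (S := S) (T := T) (ULift.down (α := Γ(T.left, ⊤)) a)))
  left_inv x := by
    apply ULift.ext
    exact congrArg Additive.ofMul (ptOfFn_fnOfPt x.down.toMul)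
  right_inv a := by
    apply ULift.ext
    exact fnOfPt_ptOfFn (ULift.down (α := Γ(T.left, ⊤)) a)
  map_add' x y := by
    apply ULift.ext
    exact gaFn_mul x.down.toMul y.down.toMul

theorem ptsEquiv_nat {T T' : Over S} (f : T' ⟶ T)
    (x : (CGrpSh.pts Scheme.fppfPrecoverage (Red.Ga S)).obj.obj (op T)) :
    ptsEquiv S T' (((CGrpSh.pts Scheme.fppfPrecoverage (Red.Ga S)).obj.map f.op).hom x) =
      ((Oab S).obj.map f.op).hom (ptsEquiv S T x) := by
  apply ULift.ext
  exact gaFn_comp f x.down.toMul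

/-- the sheaf of points of the additive group is the structure sheaf -/
noncomputable def ptsGaPreIso :
    (CGrpSh.pts Scheme.fppfPrecoverage (Red.Ga S)).obj ≅ (Oab S).obj :=
  NatIso.ofComponents (fun T => AddEquiv.toAddCommGrpIso
      (X := (CGrpSh.pts Scheme.fppfPrecoverage (Red.Ga S)).obj.obj (op T.unop))
      (Y := (Oab S).obj.obj (op T.unop)) (ptsEquiv S T.unop))
    (fun {T T'} f => by
      ext x
      exact ptsEquiv_nat S f.unop x)

/-- the sheaf of points of the additive group is the structure sheaf -/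
noncomputable def ptsGaIso : CGrpSh.pts Scheme.fppfPrecoverage (Red.Ga S) ≅ Oab S :=
  (fullyFaithfulSheafToPresheaf (QuotSh.J Scheme.fppfPrecoverage S) AddCommGrpCat.{u + 1}).preimageIso
    (X := CGrpSh.pts Scheme.fppfPrecoverage (Red.Ga S)) (Y := Oab S) (ptsGaPreIso S)

/-- isomorphic sheaves have isomorphic cohomology -/
noncomputable def HEquivOfIso {F G : BigSite.Ab Scheme.fppfPrecoverage S} (e : F ≅ G) (n : ℕ) :
    BigSite.H Scheme.fppfPrecoverage S F n ≃+ BigSite.H Scheme.fppfPrecoverage S G n :=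
  AddMonoidHom.toAddEquiv (Sheaf.H.map e.hom n) (Sheaf.H.map e.inv n)
    (by
      ext x
      change Sheaf.H.map e.inv n (Sheaf.H.map e.hom n x) = x
      rw [← Sheaf.H.map_comp_apply, e.hom_inv_id, Sheaf.H.map_id_apply])
    (by
      ext x
      change Sheaf.H.map e.hom n (Sheaf.H.map e.inv n x) = x
      rw [← Sheaf.H.map_comp_apply, e.inv_hom_id, Sheaf.H.map_id_apply])

/-- the additive group has no higher fppf cohomology over an affine base -/
theorem subsingleton_H_Ga [IsAffine S] (i : ℕ) (hi : 0 < i) :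
    Subsingleton (BigSite.H Scheme.fppfPrecoverage S
      (CGrpSh.pts Scheme.fppfPrecoverage (Red.Ga S)) i) := by
  obtain ⟨n, rfl⟩ : ∃ n, i = n + 1 := ⟨i - 1, by omega⟩
  let e : BigSite.H Scheme.fppfPrecoverage S (CGrpSh.pts Scheme.fppfPrecoverage (Red.Ga S)) (n + 1) ≃+
      BigSite.H Scheme.fppfPrecoverage S (Oab S) (n + 1) :=
    HEquivOfIso S (ptsGaIso S) (n + 1)
  haveI : Subsingleton (BigSite.H Scheme.fppfPrecoverage S (Oab S) (n + 1)) :=
    ⟨fun x y => (ext_eq_zero_of_PA (Oab S) (PA_O S) n x).trans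
      (ext_eq_zero_of_PA (Oab S) (PA_O S) n y).symm⟩
  exact e.toEquiv.subsingleton

/-- cohomology vanishing passes to extensions -/
theorem subsingleton_H_of_shortExact (C : ShortComplex (BigSite.Ab Scheme.fppfPrecoverage S))
    (hC : C.ShortExact) (i : ℕ)
    (h₁ : Subsingleton (BigSite.H Scheme.fppfPrecoverage S C.X₁ i))
    (h₃ : Subsingleton (BigSite.H Scheme.fppfPrecoverage S C.X₃ i)) :
    Subsingleton (BigSite.H Scheme.fppfPrecoverage S C.X₂ i) := by
  refine ⟨fun x y => ?_⟩
  have hz : ∀ z : BigSite.H Scheme.fppfPrecoverage S C.X₂ i, z = 0 := by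
    intro z
    obtain ⟨w, hw⟩ := Abelian.Ext.covariant_sequence_exact₂ _ hC z (Subsingleton.elim _ _)
    rw [← hw, Subsingleton.elim w 0, Abelian.Ext.zero_comp]
  rw [hz x, hz y]

end Groth.Agent.Helper1.GaT
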