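import Mathlib
import Groth.Prelude
import Groth.Agent.Lib.Helper1.SecOps

/-!
# Invariant affine opens for finite group actions on quasi-projective schemes (helper1)
-/

set_option autoImplicit false
set_option backward.isDefEq.respectTransparency.types false
set_option synthInstance.maxHeartbeats 400000
set_option linter.style.haveILetI false
set_option linter.unusedSectionVars false
set_option linter.unusedVariables false

universe u

open CategoryTheory CategoryTheory.Limits AlgebraicGeometry TopologicalSpace Opposite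

namespace Groth.Agent.Helper1.GammaAffine

/-- a finite set of points of a scheme carrying a relatively ample module over an affine base lies
in an affine open -/
theorem exists_affine_of_finite {X S : Scheme.{u}} [IsAffine S] (f : X ⟶ S) (L : X.Modules)
    (hL : RelAmple.IsRelAmple f L) (E : Set X) (hE : E.Finite) :
    ∃ U₀ : X.Opens, E ⊆ (U₀ : Set X) ∧ IsAffineOpen U₀ := by
  have hA : CohB1.IsAmple (L.restrict (f ⁻¹ᵁ (⊤ : S.Opens)).ι) :=
    hL.2 ⟨⊤, isAffineOpen_top S⟩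
  have hZfin : ((f ⁻¹ᵁ (⊤ : S.Opens)).ι ⁻¹' E).Finite :=
    hE.preimage ((f ⁻¹ᵁ (⊤ : S.Opens)).ι.isOpenEmbedding.injective.injOn)
  obtain ⟨n, s, hZs, -, haff⟩ := Groth.Agent.Helper1.SecOps.exists_affine_genLocus_of_finite hA _
    hZfin ⊤ (fun _ _ => trivial)
  refine ⟨(f ⁻¹ᵁ (⊤ : S.Opens)).ι ''ᵁ (CohB1.genLocus _ s), ?_,
    haff.image_of_isOpenImmersion _⟩
  intro e he
  have hmem : e ∈ Set.range (f ⁻¹ᵁ (⊤ : S.Opens)).ι := by
    rw [Scheme.Opens.range_ι]
    exact (show f e ∈ (⊤ : S.Opens) from trivial)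
  obtain ⟨y, rfl⟩ := hmem
  exact ⟨y, hZs he, rfl⟩

theorem main (k : Type u) [Field k]
    (X : Over (Spec (CommRingCat.of k))) [IsSeparated X.hom]
    (hX : RelProj.IsQuasiProjective X.hom)
    (Γgrp : Type u) [Group Γgrp] [Finite Γgrp] (ρ : Γgrp →* Aut X.left) (x : ↥X.left) :
    ∃ U : X.left.Opens, x ∈ U ∧ IsAffineOpen U ∧ ∀ σ : Γgrp, (ρ σ).hom ⁻¹ᵁ U = U := by
  obtain ⟨-, -, L, hL⟩ := hX
  obtain ⟨U₀, hEU₀, hU₀⟩ := exists_affine_of_finite X.hom L hL
    (Set.range fun σ : Γgrp => (ρ σ).hom x) (Set.finite_range _)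
  haveI : X.left.IsSeparated :=
    (HasAffineProperty.iff_of_isAffine (P := @IsSeparated)).mp ‹IsSeparated X.hom›
  haveI : IsClosedImmersion (pullback.diagonal (terminal.from X.left)) :=
    (inferInstance : IsSeparated (terminal.from X.left)).isClosedImmersion_diagonal
  haveI : IsAffineHom (pullback.diagonal (terminal.from X.left)) := inferInstance
  haveI : Nonempty Γgrp := ⟨1⟩
  have hmem : ∀ y : X.left, y ∈ (⨅ σ : Γgrp, (ρ σ).hom ⁻¹ᵁ U₀) ↔
      ∀ σ : Γgrp, (ρ σ).hom y ∈ U₀ := by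
    intro y
    rw [← SetLike.mem_coe, Opens.coe_iInf, Set.mem_iInter]
    rfl
  refine ⟨⨅ σ : Γgrp, (ρ σ).hom ⁻¹ᵁ U₀, ?_, ?_, ?_⟩
  · exact (hmem x).2 (fun σ => hEU₀ ⟨σ, rfl⟩)
  · exact IsAffineOpen.iInf (fun σ => hU₀.preimage_of_isIso (ρ σ).hom)
  · intro τ
    ext y
    show (ρ τ).hom y ∈ (⨅ σ : Γgrp, (ρ σ).hom ⁻¹ᵁ U₀) ↔ y ∈ (⨅ σ : Γgrp, (ρ σ).hom ⁻¹ᵁ U₀)
    rw [hmem, hmem]
    have key : ∀ σ : Γgrp, (ρ σ).hom ((ρ τ).hom y) = (ρ (σ * τ)).hom y := by
      intro σ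
      rw [map_mul, Aut.Aut_mul_def]
      rfl
    constructor
    · intro h σ
      have h' := h (σ * τ⁻¹)
      rw [key, inv_mul_cancel_right] at h'
      exact h'
    · intro h σ
      rw [key]
      exact h (σ * τ)

end Groth.Agent.Helper1.GammaAffine
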