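import Mathlib
import Groth.Agent.Lib.Helper1.GrAlg

set_option autoImplicit false
universe u
namespace Groth.Agent.Helper1.GrNat

open DirectSum Groth.Agent.Helper1.GrAlg Polynomial

section Basic
variable {R A : Type u} [CommRing R] [CommRing A] [Algebra R A]
    (𝒜 : ℕ → Submodule R A) [GradedAlgebra 𝒜]

/-- `S_[n] = ⊕_{m ≥ n} S_m`. -/
def Sge (n : ℕ) : Submodule R A := ⨆ (m : ℕ) (_ : n ≤ m), 𝒜 m

theorem le_Sge {n m : ℕ} (h : n ≤ m) : 𝒜 m ≤ Sge 𝒜 n :=
  le_iSup₂ (f := fun m (_ : n ≤ m) => 𝒜 m) m h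

theorem Sge_induction {n : ℕ} {P : A → Prop} (hmem : ∀ m, n ≤ m → ∀ a ∈ 𝒜 m, P a) (h0 : P 0)
    (hadd : ∀ a b, P a → P b → P (a + b)) {a : A} (ha : a ∈ Sge 𝒜 n) : P a := by
  unfold Sge at ha
  rw [iSup_subtype'] at ha
  exact Submodule.iSup_induction (fun m : {m // n ≤ m} => 𝒜 m) (motive := P) ha
    (fun m x hx => hmem m.1 m.2 x hx) h0 hadd

theorem mem_Sge_iff {n : ℕ} {a : A} :
    a ∈ Sge 𝒜 n ↔ ∀ m < n, (DirectSum.decompose 𝒜 a m : A) = 0 := by
  classical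
  constructor
  · intro ha
    refine Sge_induction 𝒜 (P := fun a => ∀ m < n, (DirectSum.decompose 𝒜 a m : A) = 0)
      ?_ ?_ ?_ ha
    · intro m' hm' a ha m hm
      exact DirectSum.decompose_of_mem_ne 𝒜 ha (by omega)
    · intro m _; simp
    · intro a b ha hb m hm
      rw [DirectSum.decompose_add, DirectSum.add_apply, Submodule.coe_add, ha m hm, hb m hm,
        add_zero]
  · intro h
    rw [← DirectSum.sum_support_decompose 𝒜 a]
    refine sum_mem fun i hi => ?_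
    rw [DFinsupp.mem_support_iff] at hi
    have hni : n ≤ i := by
      by_contra hlt
      exact hi (Subtype.ext (h i (by omega)))
    exact le_Sge 𝒜 hni (DirectSum.decompose 𝒜 a i).2

theorem Sge_zero : Sge 𝒜 0 = ⊤ := by
  rw [eq_top_iff]
  intro a _
  exact (mem_Sge_iff 𝒜).2 fun m hm => absurd hm (Nat.not_lt_zero _)

theorem mem_Sge_one_iff {a : A} :
    a ∈ Sge 𝒜 1 ↔ a ∈ (HomogeneousIdeal.irrelevant 𝒜).toIdeal := by
  rw [mem_Sge_iff]
  constructor
  · intro h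
    exact h 0 Nat.one_pos
  · intro h m hm
    obtain rfl : m = 0 := by omega
    exact h

theorem Sge_anti {i j : ℕ} (h : i ≤ j) : Sge 𝒜 j ≤ Sge 𝒜 i := by
  intro a ha
  rw [mem_Sge_iff] at ha ⊢
  exact fun m hm => ha m (by omega)

theorem Sge_mul_le (i j : ℕ) : Sge 𝒜 i * Sge 𝒜 j ≤ Sge 𝒜 (i + j) := by
  refine Submodule.mul_le.2 fun u hu v hv => ?_
  refine Sge_induction 𝒜 (P := fun u => u * v ∈ Sge 𝒜 (i + j)) ?_ ?_ ?_ hu
  · intro i' hi' u hu
    refine Sge_induction 𝒜 (P := fun v => u * v ∈ Sge 𝒜 (i + j)) ?_ ?_ ?_ hv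
    · intro j' hj' v hv
      exact le_Sge 𝒜 (by omega) (SetLike.mul_mem_graded hu hv)
    · simp
    · intro a b ha hb; rw [mul_add]; exact add_mem ha hb
  · simp
  · intro a b ha hb; rw [add_mul]; exact add_mem ha hb

/-- degree `i₀ + j₀` component of a product of elements of `S_[i₀]` and `S_[j₀]`. -/
theorem pr_mul {i₀ j₀ : ℕ} {u v : A} (hu : u ∈ Sge 𝒜 i₀) (hv : v ∈ Sge 𝒜 j₀) :
    pr 𝒜 (i₀ + j₀) (u * v) = pr 𝒜 i₀ u * pr 𝒜 j₀ v := by
  refine Sge_induction 𝒜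
    (P := fun u => pr 𝒜 (i₀ + j₀) (u * v) = pr 𝒜 i₀ u * pr 𝒜 j₀ v) ?_ ?_ ?_ hu
  · intro i hi u' hu'
    refine Sge_induction 𝒜
      (P := fun v => pr 𝒜 (i₀ + j₀) (u' * v) = pr 𝒜 i₀ u' * pr 𝒜 j₀ v) ?_ ?_ ?_ hv
    · intro j hj v' hv'
      have huv : u' * v' ∈ 𝒜 (i + j) := SetLike.mul_mem_graded hu' hv'
      by_cases h1 : i = i₀
      · by_cases h2 : j = j₀
        · have huv' : u' * v' ∈ 𝒜 (i₀ + j₀) := by rw [← h1, ← h2]; exact huv
          have hu'' : u' ∈ 𝒜 i₀ := h1 ▸ hu'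
          have hv'' : v' ∈ 𝒜 j₀ := h2 ▸ hv'
          rw [pr_of_mem_same 𝒜 huv', pr_of_mem_same 𝒜 hu'', pr_of_mem_same 𝒜 hv'']
        · rw [pr_of_mem_ne 𝒜 huv (by omega), pr_of_mem_ne 𝒜 hv' h2, mul_zero]
      · rw [pr_of_mem_ne 𝒜 huv (by omega), pr_of_mem_ne 𝒜 hu' h1, zero_mul]
    · simp
    · intro a b ha hb
      rw [mul_add, map_add, map_add, ha, hb, mul_add]
  · simp
  · intro a b ha hb
    rw [add_mul, map_add, map_add, ha, hb, add_mul]

theorem pr_mem (n : ℕ) (a : A) : pr 𝒜 n a ∈ 𝒜 n := (DirectSum.decompose 𝒜 a n).2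

theorem pow_le_graded (t i : ℕ) : (𝒜 i : Submodule R A) ^ t ≤ 𝒜 (t * i) := by
  induction t with
  | zero =>
    rw [pow_zero, Nat.zero_mul, Submodule.one_le]
    exact SetLike.GradedOne.one_mem
  | succ t ih =>
    rw [pow_succ, Nat.succ_mul]
    refine (mul_le_mul' ih le_rfl).trans ?_
    exact Submodule.mul_le.2 fun a ha b hb => SetLike.mul_mem_graded ha hb

theorem Sge_one_pow_le (n : ℕ) : (Sge 𝒜 1) ^ n ≤ Sge 𝒜 n := by
  induction n with
  | zero => rw [Sge_zero]; exact le_top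
  | succ n ih =>
    rw [pow_succ]
    exact (mul_le_mul' ih le_rfl).trans (Sge_mul_le 𝒜 n 1)

/-- pure statement for S8277. -/
theorem succ_iff (n₀ : ℕ) :
    (∀ n : ℕ, n₀ ≤ n → Sge 𝒜 (n + 1) = Sge 𝒜 1 * Sge 𝒜 n) ↔
      (∀ n : ℕ, n₀ ≤ n → 𝒜 (n + 1) = 𝒜 1 * 𝒜 n) := by
  constructor
  · intro h n hn
    refine le_antisymm ?_ ?_
    · intro x hx
      have hx' : x ∈ Sge 𝒜 1 * Sge 𝒜 n := by
        rw [← h n hn]; exact le_Sge 𝒜 le_rfl hx
      have key : ∀ z ∈ Sge 𝒜 1 * Sge 𝒜 n, pr 𝒜 (1 + n) z ∈ 𝒜 1 * 𝒜 n := by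
        intro z hz
        refine Submodule.mul_induction_on hz ?_ ?_
        · intro u hu v hv
          rw [pr_mul 𝒜 hu hv]
          exact Submodule.mul_mem_mul (pr_mem 𝒜 _ _) (pr_mem 𝒜 _ _)
        · intro a b ha hb
          rw [map_add]; exact add_mem ha hb
      have := key x hx'
      rwa [add_comm 1 n, pr_of_mem_same 𝒜 hx] at this
    · have : (𝒜 1 : Submodule R A) * 𝒜 n ≤ 𝒜 (1 + n) :=
        Submodule.mul_le.2 fun a ha b hb => SetLike.mul_mem_graded ha hb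
      rwa [add_comm] at this
  · intro h n hn
    refine le_antisymm ?_ ?_
    · intro x hx
      refine Sge_induction 𝒜 (P := fun x => x ∈ Sge 𝒜 1 * Sge 𝒜 n) ?_ (zero_mem _)
        (fun a b ha hb => add_mem ha hb) hx
      intro m hm a ha
      obtain ⟨m', rfl⟩ : ∃ m', m = m' + 1 := ⟨m - 1, by omega⟩
      rw [h m' (by omega)] at ha
      exact mul_le_mul' (le_Sge 𝒜 le_rfl) (le_Sge 𝒜 (by omega)) ha
    · have := Sge_mul_le 𝒜 1 n
      rwa [add_comm] at this

/-- pure statement for S8278. -/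
theorem pow_iff (n₀ : ℕ) (hn₀ : 1 ≤ n₀) :
    (∀ n : ℕ, n₀ ≤ n → Sge 𝒜 n = Sge 𝒜 1 ^ n) ↔
      (∀ n : ℕ, n₀ ≤ n → 𝒜 n = (𝒜 1 : Submodule R A) ^ n) := by
  have key : ∀ n : ℕ, ∀ z ∈ Sge 𝒜 1 ^ n, pr 𝒜 n z ∈ (𝒜 1 : Submodule R A) ^ n := by
    intro n
    induction n with
    | zero =>
      intro z hz
      rw [pow_zero] at hz ⊢
      obtain ⟨r, rfl⟩ := Submodule.mem_one.1 hz
      have : algebraMap R A r ∈ 𝒜 0 := SetLike.algebraMap_mem_graded 𝒜 r
      rw [pr_of_mem_same 𝒜 this]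
      exact Submodule.mem_one.2 ⟨r, rfl⟩
    | succ n ih =>
      intro z hz
      rw [pow_succ] at hz ⊢
      refine Submodule.mul_induction_on hz ?_ ?_
      · intro u hu v hv
        rw [pr_mul 𝒜 (Sge_one_pow_le 𝒜 n hu) hv]
        exact Submodule.mul_mem_mul (ih u hu) (pr_mem 𝒜 _ _)
      · intro a b ha hb
        rw [map_add]; exact add_mem ha hb
  have hideal : ∀ n : ℕ, 1 ≤ n → Sge 𝒜 1 ^ n * (⊤ : Submodule R A) ≤ Sge 𝒜 1 ^ n := by
    intro n hn
    obtain ⟨n', rfl⟩ : ∃ n', n = n' + 1 := ⟨n - 1, by omega⟩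
    rw [pow_succ, mul_assoc]
    refine mul_le_mul' le_rfl ?_
    have := Sge_mul_le 𝒜 1 0
    rwa [Sge_zero] at this
  constructor
  · intro h n hn
    refine le_antisymm ?_ ?_
    · intro x hx
      have hx' : x ∈ Sge 𝒜 1 ^ n := by
        rw [← h n hn]; exact le_Sge 𝒜 le_rfl hx
      have := key n x hx'
      rwa [pr_of_mem_same 𝒜 hx] at this
    · have := pow_le_graded 𝒜 n 1
      rwa [mul_one] at this
  · intro h n hn
    refine le_antisymm ?_ (Sge_one_pow_le 𝒜 n)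
    intro x hx
    refine Sge_induction 𝒜 (P := fun x => x ∈ Sge 𝒜 1 ^ n) ?_ (zero_mem _)
      (fun a b ha hb => add_mem ha hb) hx
    intro m hm a ha
    rw [h m (by omega)] at ha
    obtain ⟨k, rfl⟩ : ∃ k, m = n + k := ⟨m - n, by omega⟩
    rw [pow_add] at ha
    refine hideal n (by omega) ?_
    exact mul_le_mul' (pow_le_pow_left' (le_Sge 𝒜 le_rfl) n) le_top ha

end Basic

section Transfer
variable {R A B : Type u} [CommRing R] [CommRing A] [Algebra R A]
    (𝒜 : ℕ → Submodule R A) [GradedAlgebra 𝒜] [CommRing B] [Algebra R B]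
    (ℬ : ℕ → Submodule R B) [GradedAlgebra ℬ] (φ : B →ₐ[R] Polynomial A)

/-- `a ↦ a X^n` as an `R`-linear map. -/
noncomputable abbrev monoR (R : Type u) {A : Type u} [CommRing R] [CommRing A] [Algebra R A]
    (n : ℕ) : A →ₗ[R] Polynomial A :=
  (Polynomial.monomial n : A →ₗ[A] Polynomial A).restrictScalars R

theorem monoR_injective (n : ℕ) : Function.Injective (monoR R (A := A) n) :=
  Polynomial.monomial_injective n

theorem map_mono_mul (i j : ℕ) (P Q : Submodule R A) :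
    Submodule.map (monoR R i) P * Submodule.map (monoR R j) Q =
      Submodule.map (monoR R (i + j)) (P * Q) := by
  refine le_antisymm ?_ ?_
  · refine Submodule.mul_le.2 ?_
    rintro _ ⟨p, hp, rfl⟩ _ ⟨q, hq, rfl⟩
    refine ⟨p * q, Submodule.mul_mem_mul hp hq, ?_⟩
    simp [Polynomial.monomial_mul_monomial]
  · rw [Submodule.map_le_iff_le_comap]
    refine Submodule.mul_le.2 fun p hp q hq => ?_
    show monoR R (i + j) (p * q) ∈ Submodule.map (monoR R i) P * Submodule.map (monoR R j) Q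
    have : monoR R (i + j) (p * q) = monoR R i p * monoR R j q := by
      simp [Polynomial.monomial_mul_monomial]
    rw [this]
    exact Submodule.mul_mem_mul ⟨p, hp, rfl⟩ ⟨q, hq, rfl⟩

theorem map_mono_pow (P : Submodule R A) (n : ℕ) (hn : 1 ≤ n) :
    Submodule.map (monoR R 1) P ^ n = Submodule.map (monoR R n) (P ^ n) := by
  induction n, hn using Nat.le_induction with
  | base => simp
  | succ n hn ih => rw [pow_succ, ih, map_mono_mul, pow_succ]

variable (hφ : Function.Injective φ)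
  (hdeg : ∀ n : ℕ, Submodule.map φ.toLinearMap (ℬ n) =
      Submodule.map ((Polynomial.monomial n : A →ₗ[A] Polynomial A).restrictScalars R)
        (⨆ (m : ℕ) (_ : n ≤ m), 𝒜 m))

include hdeg in
theorem exists_of_mem_B {n : ℕ} {b : B} (hb : b ∈ ℬ n) :
    ∃ a ∈ Sge 𝒜 n, φ b = Polynomial.monomial n a := by
  have : φ b ∈ Submodule.map φ.toLinearMap (ℬ n) := ⟨b, hb, rfl⟩
  rw [hdeg] at this
  obtain ⟨a, ha, h⟩ := this
  exact ⟨a, ha, h.symm⟩

include hdeg in
theorem exists_of_mem_Sge {n : ℕ} {a : A} (ha : a ∈ Sge 𝒜 n) :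
    ∃ b ∈ ℬ n, φ b = Polynomial.monomial n a := by
  have : Polynomial.monomial n a ∈ Submodule.map (monoR R n) (Sge 𝒜 n) := ⟨a, ha, rfl⟩
  have h2 : Polynomial.monomial n a ∈ Submodule.map φ.toLinearMap (ℬ n) := by
    rw [hdeg]; exact this
  obtain ⟨b, hb, h⟩ := h2
  exact ⟨b, hb, h⟩

include hφ hdeg in
theorem B_mul_iff (i j k : ℕ) (hk : i + j = k) :
    ℬ k = ℬ i * ℬ j ↔ Sge 𝒜 k = Sge 𝒜 i * Sge 𝒜 j := by
  have hinj := Submodule.map_injective_of_injective (f := φ.toLinearMap) hφ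
  rw [← hinj.eq_iff, Submodule.map_mul, hdeg, hdeg, hdeg]
  have := map_mono_mul (R := R) i j (Sge 𝒜 i) (Sge 𝒜 j)
  rw [hk] at this
  show Submodule.map (monoR R k) (Sge 𝒜 k) =
    Submodule.map (monoR R i) (Sge 𝒜 i) * Submodule.map (monoR R j) (Sge 𝒜 j) ↔ _
  rw [this]
  exact (Submodule.map_injective_of_injective (monoR_injective k)).eq_iff

include hφ hdeg in
theorem B_pow_iff (n : ℕ) (hn : 1 ≤ n) :
    ℬ n = ℬ 1 ^ n ↔ Sge 𝒜 n = Sge 𝒜 1 ^ n := by
  have hinj := Submodule.map_injective_of_injective (f := φ.toLinearMap) hφ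
  rw [← hinj.eq_iff, Submodule.map_pow, hdeg, hdeg]
  show Submodule.map (monoR R n) (Sge 𝒜 n) = Submodule.map (monoR R 1) (Sge 𝒜 1) ^ n ↔ _
  rw [map_mono_pow _ n hn]
  exact (Submodule.map_injective_of_injective (monoR_injective n)).eq_iff

include hφ hdeg in
theorem S8277 (n₀ : ℕ) :
    (∀ n : ℕ, n₀ ≤ n → ℬ (n + 1) = ℬ 1 * ℬ n) ↔
      (∀ n : ℕ, n₀ ≤ n → 𝒜 (n + 1) = 𝒜 1 * 𝒜 n) := by
  rw [← succ_iff 𝒜 n₀]
  refine forall₂_congr fun n _ => ?_
  exact B_mul_iff 𝒜 ℬ φ hφ hdeg 1 n (n + 1) (add_comm 1 n)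

include hφ hdeg in
theorem S8278 (n₀ : ℕ) (hn₀ : 1 ≤ n₀) :
    (∀ n : ℕ, n₀ ≤ n → ℬ n = ℬ 1 ^ n) ↔ (∀ n : ℕ, n₀ ≤ n → 𝒜 n = 𝒜 1 ^ n) := by
  rw [← pow_iff 𝒜 n₀ hn₀]
  refine forall₂_congr fun n hn => ?_
  exact B_pow_iff 𝒜 ℬ φ hφ hdeg n (by omega)

include hdeg in
theorem phi_decompose (b : B) (k : ℕ) :
    (φ b).coeff k ∈ Sge 𝒜 k ∧
      φ (DirectSum.decompose ℬ b k : B) = Polynomial.monomial k ((φ b).coeff k) := by
  classical
  choose a' ha' hφa' using fun n => exists_of_mem_B 𝒜 ℬ φ hdeg (DirectSum.decompose ℬ b n).2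
  have hb : φ b = ∑ n ∈ (DirectSum.decompose ℬ b).support, Polynomial.monomial n (a' n) := by
    conv_lhs => rw [← DirectSum.sum_support_decompose ℬ b]
    rw [map_sum]
    exact Finset.sum_congr rfl fun n _ => hφa' n
  have hcoeff : (φ b).coeff k = a' k := by
    rw [hb, Polynomial.finsetSum_coeff]
    simp only [Polynomial.coeff_monomial]
    rw [Finset.sum_ite_eq']
    split_ifs with hk
    · rfl
    · rw [DFinsupp.notMem_support_iff] at hk
      have h0 : Polynomial.monomial k (a' k) = 0 := by rw [← hφa' k, hk]; simp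
      exact ((Polynomial.monomial_eq_zero_iff _ _).1 h0).symm
  rw [hcoeff]
  exact ⟨ha' k, hφa' k⟩

include hdeg in
theorem coeff_zero_of_mem_irrelevant {b : B}
    (hb : b ∈ (HomogeneousIdeal.irrelevant ℬ).toIdeal) : (φ b).coeff 0 = 0 := by
  have h1 := (phi_decompose 𝒜 ℬ φ hdeg b 0).2
  have h2 : (DirectSum.decompose ℬ b 0 : B) = 0 := hb
  rw [h2, map_zero] at h1
  exact (Polynomial.monomial_eq_zero_iff _ _).1 h1.symm

include hdeg in
theorem irr_fg_of_fg (h : (HomogeneousIdeal.irrelevant ℬ).toIdeal.FG) :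
    (HomogeneousIdeal.irrelevant 𝒜).toIdeal.FG := by
  classical
  obtain ⟨F, hF⟩ := h
  refine ⟨F.image (fun b => (φ b).coeff 1), ?_⟩
  set G : Set A := ((F.image fun b => (φ b).coeff 1 : Finset A) : Set A) with hG
  have hQ : ∀ b ∈ (HomogeneousIdeal.irrelevant ℬ).toIdeal,
      (φ b).coeff 1 ∈ Ideal.span G ∧ (φ b).coeff 0 = 0 := by
    intro b hb
    rw [← hF] at hb
    refine Submodule.span_induction
      (p := fun b _ => (φ b).coeff 1 ∈ Ideal.span G ∧ (φ b).coeff 0 = 0) ?_ ?_ ?_ ?_ hb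
    · intro b hbF
      refine ⟨Ideal.subset_span ?_, coeff_zero_of_mem_irrelevant 𝒜 ℬ φ hdeg ?_⟩
      · rw [hG]
        exact Finset.mem_coe.2 (Finset.mem_image_of_mem _ hbF)
      · rw [← hF]; exact Ideal.subset_span hbF
    · simp
    · intro x y _ _ hx hy
      rw [map_add, Polynomial.coeff_add, Polynomial.coeff_add, hx.2, hy.2, add_zero]
      exact ⟨add_mem hx.1 hy.1, rfl⟩
    · intro c x _ hx
      rw [smul_eq_mul, map_mul, Polynomial.mul_coeff_one, Polynomial.mul_coeff_zero, hx.2,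
        mul_zero, mul_zero, add_zero]
      exact ⟨Ideal.mul_mem_left _ _ hx.1, rfl⟩
  refine le_antisymm ?_ ?_
  · refine Ideal.span_le.2 ?_
    intro g hg
    rw [Finset.mem_coe, Finset.mem_image] at hg
    obtain ⟨b, _, rfl⟩ := hg
    exact (mem_Sge_one_iff 𝒜).1 (phi_decompose 𝒜 ℬ φ hdeg b 1).1
  · intro g hg
    obtain ⟨b, hb, hφb⟩ := exists_of_mem_Sge 𝒜 ℬ φ hdeg ((mem_Sge_one_iff 𝒜).2 hg)
    have hbirr : b ∈ (HomogeneousIdeal.irrelevant ℬ).toIdeal :=
      HomogeneousIdeal.mem_irrelevant_of_mem ℬ Nat.one_pos hb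
    have := (hQ b hbirr).1
    rwa [hφb, Polynomial.coeff_monomial, if_pos rfl] at this

include hφ hdeg in
theorem irr_fg_of_finiteType [Algebra.FiniteType (𝒜 0) A] :
    (HomogeneousIdeal.irrelevant ℬ).toIdeal.FG := by
  classical
  obtain ⟨s, hs, hs'⟩ := GradedAlgebra.exists_finset_adjoin_eq_top_and_homogeneous_ne_zero 𝒜
  have hE : ∀ e ∈ (s : Set A), ∃ d : ℕ, 0 < d ∧ e ∈ 𝒜 d := fun e he => by
    obtain ⟨n, hn, hen⟩ := hs' e he
    exact ⟨n, Nat.pos_of_ne_zero hn, hen⟩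
  have hirr := (GrAlg.S4389 𝒜 _ hE).2 hs
  choose! d hdpos hdmem using hE
  have hsel : ∀ e ∈ s, ∀ k, k ≤ d e → ∃ b ∈ ℬ k, φ b = Polynomial.monomial k e :=
    fun e he k hk => exists_of_mem_Sge 𝒜 ℬ φ hdeg (le_Sge 𝒜 hk (hdmem e he))
  let bsel : A → ℕ → B := fun e k =>
    if h : e ∈ s ∧ k ≤ d e then (hsel e h.1 k h.2).choose else 0
  have hbsel : ∀ e ∈ s, ∀ k, k ≤ d e →
      bsel e k ∈ ℬ k ∧ φ (bsel e k) = Polynomial.monomial k e := by
    intro e he k hk
    simp only [bsel, dif_pos (And.intro he hk)]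
    exact (hsel e he k hk).choose_spec
  let T : Finset B := s.biUnion fun e => (Finset.Icc 1 (d e)).image fun k => bsel e k
  have hT : ∀ e ∈ s, ∀ k, 1 ≤ k → k ≤ d e → bsel e k ∈ (T : Set B) := by
    intro e he k h1 h2
    simp only [T, Finset.coe_biUnion, Finset.coe_image, Set.mem_iUnion, Set.mem_image,
      Finset.mem_coe, exists_prop]
    exact ⟨e, he, k, Finset.mem_Icc.2 ⟨h1, h2⟩, rfl⟩
  refine ⟨T, le_antisymm ?_ ?_⟩
  · refine Ideal.span_le.2 ?_
    intro b hb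
    simp only [T, Finset.coe_biUnion, Finset.coe_image, Set.mem_iUnion, Set.mem_image,
      Finset.mem_coe, exists_prop] at hb
    obtain ⟨e, he, k, hk, rfl⟩ := hb
    rw [Finset.mem_Icc] at hk
    exact HomogeneousIdeal.mem_irrelevant_of_mem ℬ hk.1 (hbsel e he k hk.2).1
  · have claim : ∀ n : ℕ, 0 < n → ∀ a ∈ Sge 𝒜 n,
        ∃ b' ∈ Ideal.span (T : Set B), φ b' = Polynomial.monomial n a := by
      intro n hn a ha
      refine Sge_induction 𝒜
        (P := fun a => ∃ b' ∈ Ideal.span (T : Set B), φ b' = Polynomial.monomial n a)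
        ?_ ⟨0, zero_mem _, by simp⟩ ?_ ha
      · intro m hm a ha
        have haI : a ∈ Ideal.span (s : Set A) := by
          rw [← hirr]
          exact HomogeneousIdeal.mem_irrelevant_of_mem 𝒜 (by omega) ha
        obtain ⟨t, c, y, hcy, rfl⟩ :=
          exists_sum_of_mem_span 𝒜 𝒜 (s : Set A) d hdmem ha haI
        have hex : ∀ i, ∃ β ∈ Ideal.span (T : Set B),
            φ β = Polynomial.monomial n (c i • y i) := by
          intro i
          obtain ⟨hyE, hc, hor⟩ := hcy i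
          have hcS : c i ∈ Sge 𝒜 (n - min (d (y i)) n) := by
            rcases hor with hle | h0
            · refine le_Sge 𝒜 ?_ hc
              rcases le_total (d (y i)) n with h | h
              · rw [min_eq_left h]; omega
              · rw [min_eq_right h]; omega
            · rw [h0]; exact zero_mem _
          obtain ⟨β, _, hφβ⟩ := exists_of_mem_Sge 𝒜 ℬ φ hdeg hcS
          have hk1 : 1 ≤ min (d (y i)) n := le_min (hdpos _ hyE) hn
          obtain ⟨_, hb2⟩ := hbsel (y i) hyE (min (d (y i)) n) (min_le_left _ _)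
          refine ⟨β * bsel (y i) (min (d (y i)) n),
            Ideal.mul_mem_left _ _ (Ideal.subset_span (hT _ hyE _ hk1 (min_le_left _ _))), ?_⟩
          rw [map_mul, hφβ, hb2, Polynomial.monomial_mul_monomial, smul_eq_mul,
            Nat.sub_add_cancel (min_le_right _ _)]
        choose β hβ hφβ using hex
        refine ⟨∑ i, β i, sum_mem fun i _ => hβ i, ?_⟩
        rw [map_sum, map_sum]
        exact Finset.sum_congr rfl fun i _ => hφβ i
      · rintro a b ⟨a', ha', hφa'⟩ ⟨b', hb', hφb'⟩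
        exact ⟨a' + b', add_mem ha' hb', by rw [map_add, map_add, hφa', hφb']⟩
    rw [HomogeneousIdeal.toIdeal_irrelevant_le]
    intro n hn b hb
    obtain ⟨a, ha, hφb⟩ := exists_of_mem_B 𝒜 ℬ φ hdeg (show b ∈ ℬ n from hb)
    obtain ⟨b', hb', hφb'⟩ := claim n hn a ha
    have : b = b' := hφ (hφb.trans hφb'.symm)
    rw [this]
    exact hb'

include hφ hdeg in
theorem S8275 : Algebra.FiniteType (ℬ 0) B ↔ Algebra.FiniteType (𝒜 0) A := by
  rw [← GrAlg.S4390 ℬ, ← GrAlg.S4390 𝒜]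
  constructor
  · exact irr_fg_of_fg 𝒜 ℬ φ hdeg
  · intro h
    have := (GrAlg.S4390 𝒜).1 h
    exact irr_fg_of_finiteType 𝒜 ℬ φ hφ hdeg

include hφ hdeg in
theorem S8276 : IsNoetherianRing B ↔ IsNoetherianRing A := by
  let ψ : B →+* A := (Polynomial.constantCoeff).comp (φ : B →+* Polynomial A)
  have hψ : ∀ b, ψ b = (φ b).coeff 0 := fun b => rfl
  have hψsurj : Function.Surjective ψ := by
    intro a
    obtain ⟨b, _, hφb⟩ := exists_of_mem_Sge 𝒜 ℬ φ hdeg (n := 0) (a := a)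
      (by rw [Sge_zero]; trivial)
    exact ⟨b, by rw [hψ, hφb, Polynomial.coeff_monomial, if_pos rfl]⟩
  constructor
  · intro h
    exact isNoetherianRing_of_surjective B A ψ hψsurj
  · intro h
    obtain ⟨h0, hft⟩ := (GrAlg.S4391 𝒜).1 h
    have hftB : Algebra.FiniteType (ℬ 0) B := (S8275 𝒜 ℬ φ hφ hdeg).2 hft
    let ψ0 : ℬ 0 →+* A := ψ.comp (algebraMap (ℬ 0) B)
    have hψ0 : ∀ b : ℬ 0, ψ0 b = (φ (b : B)).coeff 0 := fun b => rfl
    have hbij : Function.Bijective ψ0 := by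
      constructor
      · rw [injective_iff_map_eq_zero]
        intro b hb
        obtain ⟨a, _, hφb⟩ := exists_of_mem_B 𝒜 ℬ φ hdeg b.2
        have ha0 : a = 0 := by
          rw [hψ0, hφb, Polynomial.coeff_monomial, if_pos rfl] at hb
          exact hb
        apply Subtype.ext
        apply hφ
        rw [hφb, ha0]
        simp
      · intro a
        obtain ⟨b, hb, hφb⟩ := exists_of_mem_Sge 𝒜 ℬ φ hdeg (n := 0) (a := a)
          (by rw [Sge_zero]; trivial)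
        exact ⟨⟨b, hb⟩, by rw [hψ0, hφb, Polynomial.coeff_monomial, if_pos rfl]⟩
    have hB0 : IsNoetherianRing (ℬ 0) :=
      isNoetherianRing_of_ringEquiv A (RingEquiv.ofBijective ψ0 hbij).symm
    exact (GrAlg.S4391 ℬ).2 ⟨hB0, hftB⟩

include hφ hdeg in
theorem S8312 {ι : Type u} (d : ι → ℕ) (f : ι → A) (hf : ∀ a, f a ∈ 𝒜 (d a))
    (hrad : ∀ g ∈ (HomogeneousIdeal.irrelevant 𝒜).toIdeal,
      ∃ n : ℕ, 0 < n ∧ g ^ n ∈ Ideal.span (Set.range f))
    (fn : ι → B) (hfn : ∀ a, φ (fn a) = Polynomial.monomial (d a) (f a)) :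
    ∀ g ∈ (HomogeneousIdeal.irrelevant ℬ).toIdeal,
      ∃ n : ℕ, 0 < n ∧ g ^ n ∈ Ideal.span (Set.range fn) := by
  classical
  set J' : Ideal B := Ideal.span (Set.range fn) with hJ'
  suffices hle : (HomogeneousIdeal.irrelevant ℬ).toIdeal ≤ J'.radical by
    intro g hg
    obtain ⟨n, hn⟩ := hle hg
    exact ⟨n + 1, Nat.succ_pos _, by rw [pow_succ]; exact Ideal.mul_mem_right _ _ hn⟩
  let e : A → ℕ := fun y => if h : y ∈ Set.range f then d h.choose else 0
  let fsel : A → B := fun y => if h : y ∈ Set.range f then fn h.choose else 0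
  have hX : ∀ y ∈ Set.range f, y ∈ 𝒜 (e y) := by
    intro y hy
    have := hf hy.choose
    rw [hy.choose_spec] at this
    simpa only [e, dif_pos hy] using this
  have hfsel : ∀ y ∈ Set.range f, fsel y ∈ Set.range fn ∧
      φ (fsel y) = Polynomial.monomial (e y) y := by
    intro y hy
    simp only [e, fsel, dif_pos hy]
    refine ⟨⟨_, rfl⟩, ?_⟩
    rw [hfn, hy.choose_spec]
  have claim : ∀ n : ℕ, 0 < n → ∀ a ∈ Sge 𝒜 n,
      ∃ b' ∈ J'.radical, φ b' = Polynomial.monomial n a := by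
    intro n hn a ha
    refine Sge_induction 𝒜
      (P := fun a => ∃ b' ∈ J'.radical, φ b' = Polynomial.monomial n a)
      ?_ ⟨0, zero_mem _, by simp⟩ ?_ ha
    · intro m hm a ha
      obtain ⟨b₀, _, hφb₀⟩ := exists_of_mem_Sge 𝒜 ℬ φ hdeg (le_Sge 𝒜 hm ha)
      refine ⟨b₀, ?_, hφb₀⟩
      have haI : a ∈ (HomogeneousIdeal.irrelevant 𝒜).toIdeal :=
        HomogeneousIdeal.mem_irrelevant_of_mem 𝒜 (by omega) ha
      obtain ⟨k, _, hak⟩ := hrad a haI
      have hakmem : a ^ k ∈ 𝒜 (k * m) := by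
        have := SetLike.pow_mem_graded (A := 𝒜) k ha
        rwa [smul_eq_mul] at this
      obtain ⟨t, c, y, hcy, hsum⟩ :=
        exists_sum_of_mem_span 𝒜 𝒜 (Set.range f) e hX hakmem hak
      have hapmem : a ^ (k * m) ∈ 𝒜 (k * m * m) := by
        have := SetLike.pow_mem_graded (A := 𝒜) (k * m) ha
        rwa [smul_eq_mul] at this
      have h1 : n * k ≤ k * m := by rw [mul_comm n k]; exact Nat.mul_le_mul_left k hm
      have h2 : n * (k * m) ≤ k * m * m := by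
        rw [mul_comm n (k * m)]; exact Nat.mul_le_mul_left (k * m) hm
      have h3 : k * m ≤ n * (k * m) := Nat.le_mul_of_pos_left (k * m) hn
      have hN : n * (k + k * m) = n * k + n * (k * m) := Nat.mul_add n k (k * m)
      refine ⟨k + k * m, ?_⟩
      have hex : ∀ i, ∃ δ ∈ J',
          φ δ = Polynomial.monomial (n * (k + k * m)) (a ^ (k * m) * (c i • y i)) := by
        intro i
        obtain ⟨hyE, hc, hor⟩ := hcy i
        rcases hor with hle | h0
        · have hmem : a ^ (k * m) * c i ∈ Sge 𝒜 (n * (k + k * m) - e (y i)) := by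
            refine le_Sge 𝒜 ?_ (SetLike.mul_mem_graded hapmem hc)
            rw [hN]
            omega
          obtain ⟨γ, _, hφγ⟩ := exists_of_mem_Sge 𝒜 ℬ φ hdeg hmem
          obtain ⟨hfs1, hfs2⟩ := hfsel _ hyE
          refine ⟨γ * fsel (y i), Ideal.mul_mem_left _ _ (Ideal.subset_span hfs1), ?_⟩
          have hle' : e (y i) ≤ n * (k + k * m) := by rw [hN]; omega
          rw [map_mul, hφγ, hfs2, Polynomial.monomial_mul_monomial, smul_eq_mul,
            mul_assoc, Nat.sub_add_cancel hle']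
        · exact ⟨0, zero_mem _, by rw [h0]; simp⟩
      choose δ hδ hφδ using hex
      have : b₀ ^ (k + k * m) = ∑ i, δ i := by
        apply hφ
        rw [map_pow, hφb₀, Polynomial.monomial_pow, map_sum]
        simp_rw [hφδ]
        rw [← map_sum, ← Finset.mul_sum, ← hsum, pow_add, mul_comm (a ^ k)]
      rw [this]
      exact sum_mem fun i _ => hδ i
    · rintro a b ⟨a', ha', hφa'⟩ ⟨b', hb', hφb'⟩
      exact ⟨a' + b', add_mem ha' hb', by rw [map_add, map_add, hφa', hφb']⟩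
  rw [HomogeneousIdeal.toIdeal_irrelevant_le]
  intro n hn b hb
  obtain ⟨a, ha, hφb⟩ := exists_of_mem_B 𝒜 ℬ φ hdeg (show b ∈ ℬ n from hb)
  obtain ⟨b', hb', hφb'⟩ := claim n hn a ha
  have : b = b' := hφ (hφb.trans hφb'.symm)
  rw [this]
  exact hb'

end Transfer

end Groth.Agent.Helper1.GrNat
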