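import Mathlib
import Groth.Agent.Lib.Helper1.GrAlg
import Groth.Agent.Lib.Helper1.GrNat

/-!
# Graded algebras eventually generated in degree one (helper1 library)

Algebra behind EGA II 3.1.10-type statements: if `φ : A → B` is an injective graded homomorphism,
bijective in degrees `0`, `1`, with `A` generated in degree one, `B` of finite type over `B_0`, such
that `Proj B` is covered by the `D_+(φ f)` and `A_(f) → B_(φ f)` is surjective for `f ∈ A_1`, then
`B_n = B_1 ^ n` for `n` large.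
-/

set_option autoImplicit false
universe u
namespace Groth.Agent.Helper1.GenDeg1

open DirectSum Groth.Agent.Helper1.GrAlg

section Pieces
variable {R B : Type u} [CommRing R] [CommRing B] [Algebra R B]
  (ℬ : ℕ → Submodule R B) [GradedAlgebra ℬ]

/-- graded pieces of a graded algebra of finite type over degree zero are finitely generated
over the degree-zero part. -/
theorem piece_fg [Algebra.FiniteType (ℬ 0) B] (n : ℕ) :
    ∃ Y : Finset B, (∀ y ∈ Y, y ∈ ℬ n) ∧ ∀ x ∈ ℬ n, x ∈ Submodule.span (ℬ 0) (Y : Set B) := by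
  classical
  obtain ⟨s, hs, hs'⟩ := GradedAlgebra.exists_finset_adjoin_eq_top_and_homogeneous_ne_zero ℬ
  have hE : ∀ e ∈ (s : Set B), ∃ d : ℕ, 0 < d ∧ e ∈ ℬ d := fun e he => by
    obtain ⟨n, hn, hen⟩ := hs' e he
    exact ⟨n, Nat.pos_of_ne_zero hn, hen⟩
  have hirr := (S4389 ℬ _ hE).2 hs
  choose! d hdpos hdmem using hE
  induction n using Nat.strong_induction_on with
  | _ n ih =>
    rcases Nat.eq_zero_or_pos n with h0 | hpos
    · subst h0
      refine ⟨{1}, ?_, ?_⟩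
      · intro y hy
        rw [Finset.mem_singleton] at hy
        rw [hy]; exact SetLike.GradedOne.one_mem
      · intro x hx
        have : x = (⟨x, hx⟩ : ℬ 0) • (1 : B) := by
          show x = x * 1
          rw [mul_one]
        rw [this]
        exact Submodule.smul_mem _ _ (Submodule.subset_span (by simp))
    · choose Y hY1 hY2 using ih
      let Y' : ℕ → Finset B := fun m => if h : m < n then Y m h else ∅
      refine ⟨s.biUnion fun y => if d y ≤ n then (Y' (n - d y)).image (fun z => z * y) else ∅,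
        ?_, ?_⟩
      · intro z hz
        rw [Finset.mem_biUnion] at hz
        obtain ⟨y, hy, hz⟩ := hz
        split_ifs at hz with hle
        · rw [Finset.mem_image] at hz
          obtain ⟨w, hw, rfl⟩ := hz
          have hlt : n - d y < n := by have := hdpos y hy; omega
          simp only [Y', dif_pos hlt] at hw
          have := SetLike.mul_mem_graded (hY1 _ hlt w hw) (hdmem y hy)
          rwa [Nat.sub_add_cancel hle] at this
        · simp at hz
      · intro x hx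
        have hxI : x ∈ Ideal.span (s : Set B) := by
          rw [← hirr]
          exact HomogeneousIdeal.mem_irrelevant_of_mem ℬ hpos hx
        obtain ⟨t, c, y, hcy, rfl⟩ := exists_sum_of_mem_span ℬ ℬ (s : Set B) d hdmem hx hxI
        refine sum_mem fun i _ => ?_
        obtain ⟨hyE, hc, hor⟩ := hcy i
        rcases hor with hle | h0
        · have hlt : n - d (y i) < n := by have := hdpos _ hyE; omega
          have hcs := hY2 _ hlt _ hc
          rw [smul_eq_mul]
          refine Submodule.span_induction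
            (p := fun c _ => c * y i ∈ Submodule.span (ℬ 0) _) ?_ ?_ ?_ ?_ hcs
          · intro w hw
            refine Submodule.subset_span ?_
            rw [Finset.mem_coe, Finset.mem_biUnion]
            refine ⟨y i, hyE, ?_⟩
            rw [if_pos hle, Finset.mem_image]
            refine ⟨w, ?_, rfl⟩
            simp only [Y', dif_pos hlt]
            exact hw
          · rw [zero_mul]; exact zero_mem _
          · intro u v _ _ hu hv
            rw [add_mul]; exact add_mem hu hv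
          · intro a u _ hu
            rw [smul_mul_assoc]
            exact Submodule.smul_mem _ _ hu
        · rw [h0, zero_smul]; exact zero_mem _

end Pieces

section Pow
variable {R A : Type u} [CommRing R] [CommRing A] [Algebra R A]

/-- `P ^ t ⊆ (Ideal.span P) ^ t` -/
theorem pow_le_span_pow (P : Submodule R A) (t : ℕ) :
    ∀ a ∈ P ^ t, a ∈ (Ideal.span (P : Set A)) ^ t := by
  induction t with
  | zero => intro a _; simp
  | succ t ih =>
    intro a ha
    rw [pow_succ] at ha ⊢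
    refine Submodule.mul_induction_on ha ?_ ?_
    · intro u hu v hv
      exact Ideal.mul_mem_mul (ih u hu) (Ideal.subset_span hv)
    · intro x y hx hy
      exact add_mem hx hy

theorem pow_le_span (P : Submodule R A) (t : ℕ) (ht : 1 ≤ t) :
    ∀ a ∈ P ^ t, a ∈ Ideal.span (P : Set A) := fun a ha =>
  Ideal.pow_le_self (by omega) (pow_le_span_pow P t a ha)

end Pow

section Main
variable {R A B : Type u} [CommRing R] [CommRing A] [Algebra R A]
  (𝒜 : ℕ → Submodule R A) [GradedAlgebra 𝒜] [CommRing B] [Algebra R B]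
  (ℬ : ℕ → Submodule R B) [GradedAlgebra ℬ] (φ : 𝒜 →+*ᵍ ℬ)

theorem map_pow_mem (t : ℕ) (ht : 1 ≤ t) : ∀ a ∈ 𝒜 1 ^ t, φ a ∈ ℬ 1 ^ t := by
  induction t, ht using Nat.le_induction with
  | base => intro a ha; rw [pow_one] at ha ⊢; exact φ.map_mem ha
  | succ t ht ih =>
    intro a ha
    rw [pow_succ] at ha ⊢
    refine Submodule.mul_induction_on ha ?_ ?_
    · intro u hu v hv
      rw [map_mul]
      exact Submodule.mul_mem_mul (ih u hu) (φ.map_mem hv)
    · intro x y hx hy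
      rw [map_add]; exact add_mem hx hy

theorem exists_of_mem_pow (h1 : Set.SurjOn φ (𝒜 1) (ℬ 1)) (t : ℕ) (ht : 1 ≤ t) :
    ∀ u ∈ ℬ 1 ^ t, ∃ a ∈ 𝒜 1 ^ t, φ a = u := by
  induction t, ht using Nat.le_induction with
  | base => intro u hu; rw [pow_one] at hu ⊢; exact h1 hu
  | succ t ht ih =>
    intro u hu
    rw [pow_succ] at hu ⊢
    refine Submodule.mul_induction_on hu ?_ ?_
    · intro x hx y hy
      obtain ⟨a, ha, rfl⟩ := ih x hx
      obtain ⟨b, hb, rfl⟩ := h1 hy
      exact ⟨a * b, Submodule.mul_mem_mul ha hb, map_mul φ a b⟩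
    · rintro x y ⟨a, ha, rfl⟩ ⟨b, hb, rfl⟩
      exact ⟨a + b, add_mem ha hb, map_add φ a b⟩

/-- the conductor of `y` into the image of `φ` -/
def cond (y : B) : Ideal A where
  carrier := {a | φ a * y ∈ Set.range φ}
  zero_mem' := ⟨0, by simp⟩
  add_mem' := by
    rintro a b ⟨u, hu⟩ ⟨v, hv⟩
    exact ⟨u + v, by rw [map_add, hu, hv, map_add, add_mul]⟩
  smul_mem' := by
    rintro c a ⟨u, hu⟩
    exact ⟨c * u, by rw [map_mul, hu, smul_eq_mul, map_mul, mul_assoc]⟩

theorem main [Algebra.FiniteType (ℬ 0) B] (hφ : Function.Injective φ)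
    (h0 : Set.BijOn φ (𝒜 0) (ℬ 0)) (h1 : Set.BijOn φ (𝒜 1) (ℬ 1))
    (hgen : ∀ n : ℕ, 1 ≤ n → 𝒜 n = 𝒜 1 ^ n)
    (H2 : ∀ J : Ideal B, J.IsHomogeneous ℬ → J.IsPrime →
      ¬ (HomogeneousIdeal.irrelevant ℬ).toIdeal ≤ J → ∃ d : ℕ, 0 < d ∧ ∃ f ∈ 𝒜 d, φ f ∉ J)
    (H3 : ∀ f ∈ 𝒜 1, ∀ (m : ℕ), ∀ b ∈ ℬ m, ∃ K : ℕ, φ f ^ K * b ∈ Set.range φ) :
    ∃ n₀ : ℕ, ∀ n : ℕ, n₀ ≤ n → ℬ n = ℬ 1 ^ n := by
  classical
  set I : Ideal B := Ideal.span (ℬ 1 : Set B) with hI
  have hIhom : I.IsHomogeneous ℬ := Ideal.homogeneous_span ℬ _ fun x hx => ⟨1, hx⟩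
  have hrad : (HomogeneousIdeal.irrelevant ℬ).toIdeal ≤ I.radical := by
    rw [HomogeneousIdeal.toIdeal_irrelevant_le]
    intro m hm b hb
    show b ∈ I.radical
    rw [hIhom.radical_eq, Ideal.mem_sInf]
    rintro J ⟨hJhom, hIJ, hJprime⟩
    by_contra hbJ
    have hnot : ¬ (HomogeneousIdeal.irrelevant ℬ).toIdeal ≤ J := fun hle =>
      hbJ (hle (HomogeneousIdeal.mem_irrelevant_of_mem ℬ hm hb))
    obtain ⟨d, hd, f, hf, hfJ⟩ := H2 J hJhom hJprime hnot
    apply hfJ
    apply hIJ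
    rw [hgen d hd] at hf
    exact pow_le_span (ℬ 1) d hd _ (map_pow_mem 𝒜 ℬ φ d hd f hf)
  have hfg : (HomogeneousIdeal.irrelevant ℬ).toIdeal.FG := (S4390 ℬ).2 inferInstance
  obtain ⟨N, hN⟩ := Ideal.exists_pow_le_of_le_radical_of_fg hrad hfg
  obtain ⟨k₀, hk₀⟩ := exists_le_irrelevant_pow ℬ N
  have hstep : ∀ k, k₀ ≤ k → ℬ (k + 1) ≤ ℬ 1 * ℬ k := by
    intro k hk x hx
    have hxI : x ∈ I := hN (hk₀ (k + 1) (by omega) x hx)
    obtain ⟨t, c, y, hcy, rfl⟩ :=
      exists_sum_of_mem_span ℬ ℬ (ℬ 1 : Set B) (fun _ => 1) (fun y hy => hy) hx hxI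
    refine sum_mem fun i _ => ?_
    obtain ⟨hy, hc, -⟩ := hcy i
    rw [smul_eq_mul, mul_comm (c i) (y i)]
    rw [Nat.add_sub_cancel] at hc
    exact Submodule.mul_mem_mul hy hc
  have hiter : ∀ t, ℬ (k₀ + t) ≤ ℬ 1 ^ t * ℬ k₀ := by
    intro t
    induction t with
    | zero => simp
    | succ t ih =>
      rw [← add_assoc, pow_succ', mul_assoc]
      exact (hstep (k₀ + t) (by omega)).trans (mul_le_mul' le_rfl ih)
  obtain ⟨Y1, hY1, hY1'⟩ := piece_fg ℬ 1
  obtain ⟨Yk, hYk, hYk'⟩ := piece_fg ℬ k₀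
  set 𝔪 : Ideal A := Ideal.span (𝒜 1 : Set A) with h𝔪
  have h𝔪fg : 𝔪.FG := by
    choose! g hg hφg using fun y (hy : y ∈ ℬ 1) => h1.surjOn hy
    refine ⟨Y1.image g, le_antisymm ?_ ?_⟩
    · refine Ideal.span_le.2 ?_
      intro a ha
      rw [Finset.coe_image] at ha
      obtain ⟨y, hy, rfl⟩ := ha
      exact Ideal.subset_span (hg y (hY1 y hy))
    · refine Ideal.span_le.2 ?_
      intro a ha
      have hmem := hY1' (φ a) (φ.map_mem ha)
      have : ∃ a' ∈ Ideal.span ((Y1.image g : Finset A) : Set A), φ a' = φ a := by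
        refine Submodule.span_induction
          (p := fun x _ => ∃ a' ∈ Ideal.span ((Y1.image g : Finset A) : Set A), φ a' = x)
          ?_ ?_ ?_ ?_ hmem
        · intro y hy
          refine ⟨g y, Ideal.subset_span ?_, hφg y (hY1 y hy)⟩
          rw [Finset.coe_image]; exact ⟨y, hy, rfl⟩
        · exact ⟨0, zero_mem _, map_zero φ⟩
        · rintro x y _ _ ⟨a₁, ha₁, rfl⟩ ⟨a₂, ha₂, rfl⟩
          exact ⟨a₁ + a₂, add_mem ha₁ ha₂, map_add φ _ _⟩
        · rintro c x _ ⟨a₁, ha₁, rfl⟩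
          obtain ⟨c', hc', hφc'⟩ := h0.surjOn c.2
          refine ⟨c' * a₁, Ideal.mul_mem_left _ _ ha₁, ?_⟩
          rw [map_mul, hφc']; rfl
      obtain ⟨a', ha', heq⟩ := this
      rw [← hφ heq]; exact ha'
  have hcondrad : ∀ (m : ℕ), ∀ y ∈ ℬ m, 𝔪 ≤ (cond 𝒜 ℬ φ y).radical := by
    intro m y hy
    refine Ideal.span_le.2 ?_
    intro f hf
    obtain ⟨K, hK⟩ := H3 f hf m y hy
    refine ⟨K, ?_⟩
    show φ (f ^ K) * y ∈ Set.range φ
    rwa [map_pow]
  have hM : ∀ y ∈ Yk, ∃ M, 𝔪 ^ M ≤ cond 𝒜 ℬ φ y := fun y hy =>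
    Ideal.exists_pow_le_of_le_radical_of_fg (hcondrad k₀ y (hYk y hy)) h𝔪fg
  choose! Mf hMf using hM
  set M := Yk.sup Mf + 1 with hMdef
  have hcondM : ∀ y ∈ ℬ k₀, 𝔪 ^ M ≤ cond 𝒜 ℬ φ y := by
    intro y hy a ha
    have hmem := hYk' y hy
    refine Submodule.span_induction (p := fun y _ => φ a * y ∈ Set.range φ) ?_ ?_ ?_ ?_ hmem
    · intro w hw
      have : 𝔪 ^ M ≤ 𝔪 ^ Mf w :=
        Ideal.pow_le_pow_right (by have := Finset.le_sup (f := Mf) hw; omega)
      exact hMf w hw (this ha)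
    · exact ⟨0, by simp⟩
    · rintro x y _ _ ⟨u, hu⟩ ⟨v, hv⟩
      exact ⟨u + v, by rw [map_add, hu, hv, mul_add]⟩
    · rintro c x _ ⟨u, hu⟩
      obtain ⟨c', hc', hφc'⟩ := h0.surjOn c.2
      refine ⟨c' * u, ?_⟩
      rw [map_mul, hu, hφc']
      show (c : B) * (φ a * x) = φ a * ((c : B) * x)
      ring
  refine ⟨k₀ + M, fun n hn => le_antisymm ?_ ?_⟩
  · intro x hx
    obtain ⟨t, rfl⟩ : ∃ t, n = k₀ + t := ⟨n - k₀, by omega⟩
    have ht : M ≤ t := by omega
    have ht1 : 1 ≤ t := by omega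
    have hxr : x ∈ Set.range φ := by
      refine Submodule.mul_induction_on (hiter t hx) ?_ ?_
      · intro u hu v hv
        obtain ⟨a, ha, rfl⟩ := exists_of_mem_pow 𝒜 ℬ φ h1.surjOn t ht1 u hu
        have ha' : a ∈ 𝔪 ^ M := Ideal.pow_le_pow_right ht (pow_le_span_pow (𝒜 1) t a ha)
        exact hcondM v hv ha'
      · rintro x y ⟨u, hu⟩ ⟨v, hv⟩
        exact ⟨u + v, by rw [map_add, hu, hv]⟩
    obtain ⟨a, rfl⟩ := hxr
    have h2 : φ a = φ (DirectSum.decompose 𝒜 a (k₀ + t) : A) := by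
      rw [GradedRingHom.map_directSumDecompose 𝒜 ℬ φ]
      exact (DirectSum.decompose_of_mem_same ℬ hx).symm
    rw [h2]
    have h3 : (DirectSum.decompose 𝒜 a (k₀ + t) : A) ∈ 𝒜 1 ^ (k₀ + t) := by
      rw [← hgen (k₀ + t) (by omega)]
      exact (DirectSum.decompose 𝒜 a (k₀ + t)).2
    exact map_pow_mem 𝒜 ℬ φ (k₀ + t) (by omega) _ h3
  · have := GrNat.pow_le_graded ℬ n 1
    rwa [mul_one] at this

end Main

end Groth.Agent.Helper1.GenDeg1
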