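import Mathlib
import Groth.Prelude.Def_PCone
import Groth.Agent.Lib.Helper1.ProjDom
import Groth.Agent.Lib.Helper1.GenDeg1

/-!
# Geometry input for "eventually generated in degree one" (helper1 library)
-/

universe u

open CategoryTheory CategoryTheory.Limits AlgebraicGeometry TopologicalSpace Opposite
open Groth.Agent.Helper1.ProjDom

namespace Groth.Agent.Helper1.GenDeg1Geo

section Geo
variable {A B σ τ : Type u} [CommRing A] [SetLike σ A] [AddSubgroupClass σ A] {𝒜 : ℕ → σ}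
  [GradedRing 𝒜] [CommRing B] [SetLike τ B] [AddSubgroupClass τ B] {ℬ : ℕ → τ} [GradedRing ℬ]
  (φ : 𝒜 →+*ᵍ ℬ) (W : (Proj ℬ).Opens)
  (c : ∀ t : Idx 𝒜,
    Spec (CommRingCat.of (HomogeneousLocalization.Away ℬ (φ t.f))) ⟶ (W : Scheme.{u}))

theorem awayMap_bijective_of_isIso
    (hW : ∀ x : Proj ℬ, x ∈ W → ∃ t : Idx 𝒜, x ∈ Proj.basicOpen ℬ (φ t.f))
    (hc : ∀ t, c t ≫ W.ι = Proj.awayι ℬ (φ t.f) (φ.2 t.hf) t.hd)
    (p : (W : Scheme.{u}) ⟶ Proj 𝒜) (hp : ∀ t, c t ≫ p = gmap φ t) [IsIso p] (t : Idx 𝒜) :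
    Function.Bijective (HomogeneousLocalization.Away.map φ t.f) := by
  have hoi := isOpenImmersion_chart φ W c hc t
  have hpre := preimage_basicOpen_eq φ W c hW hc p hp t
  set g := Spec.map (CommRingCat.ofHom (HomogeneousLocalization.Away.map φ t.f)) with hg
  have hcomp : c t ≫ p = g ≫ Proj.awayι 𝒜 t.f t.hf t.hd := hp t
  have h1 : IsOpenImmersion (g ≫ Proj.awayι 𝒜 t.f t.hf t.hd) := by
    rw [← hcomp]; infer_instance
  have h2 : IsOpenImmersion g := IsOpenImmersion.of_comp g (Proj.awayι 𝒜 t.f t.hf t.hd)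
  have h3 : Surjective g := by
    refine ⟨fun z => ?_⟩
    obtain ⟨w, hw⟩ := p.surjective (Proj.awayι 𝒜 t.f t.hf t.hd z)
    have hwmem : w ∈ p ⁻¹ᵁ Proj.basicOpen 𝒜 t.f := by
      show p w ∈ Proj.basicOpen 𝒜 t.f
      rw [hw, ← Proj.opensRange_awayι 𝒜 t.f t.hf t.hd]
      exact ⟨z, rfl⟩
    rw [hpre] at hwmem
    obtain ⟨y, rfl⟩ := hwmem
    refine ⟨y, ?_⟩
    apply (Proj.awayι 𝒜 t.f t.hf t.hd).isOpenEmbedding.injective
    rw [← hw]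
    show (g ≫ Proj.awayι 𝒜 t.f t.hf t.hd) y = (c t ≫ p) y
    rw [hcomp]
  have h4 : IsIso g := (isIso_iff_isOpenImmersion_and_surjective g).2 ⟨h2, h3⟩
  exact isIso_SpecMap_iff.1 h4

omit W c in
theorem exists_pow_mul_mem_range {f : A} (hf : f ∈ 𝒜 1)
    (hsurj : Function.Surjective (HomogeneousLocalization.Away.map φ f)) (m : ℕ) (b : B)
    (hb : b ∈ ℬ m) : ∃ K : ℕ, φ f ^ K * b ∈ Set.range φ := by
  have hb' : b ∈ ℬ (m • 1) := by rwa [smul_eq_mul, mul_one]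
  obtain ⟨q, hq⟩ := hsurj (HomogeneousLocalization.Away.mk ℬ (φ.2 hf) m b hb')
  obtain ⟨n, a, ha, rfl⟩ := HomogeneousLocalization.Away.mk_surjective 𝒜 hf q
  rw [HomogeneousLocalization.Away.map_mk] at hq
  have hv := congrArg HomogeneousLocalization.val hq
  rw [HomogeneousLocalization.Away.val_mk, HomogeneousLocalization.Away.val_mk,
    Localization.mk_eq_mk_iff, Localization.r_iff_exists] at hv
  obtain ⟨⟨_, k, rfl⟩, hk⟩ := hv
  refine ⟨k + n, f ^ (k + m) * a, ?_⟩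
  simp only at hk
  rw [map_mul, map_pow, pow_add, pow_add, mul_assoc, mul_assoc, hk]

end Geo

section PCone
variable {R A B : Type u} [CommRing R] [CommRing A] [Algebra R A]
  (𝒜 : ℕ → Submodule R A) [GradedAlgebra 𝒜] [CommRing B] [Algebra R B]
  (ℬ : ℕ → Submodule R B) [GradedAlgebra ℬ] (φ : 𝒜 →+*ᵍ ℬ)

theorem eventually_eq_pow [Algebra.FiniteType (ℬ 0) B] (hφ : Function.Injective φ)
    (h0 : Set.BijOn φ (𝒜 0) (ℬ 0)) (h1 : Set.BijOn φ (𝒜 1) (ℬ 1))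
    (hgen : ∀ n : ℕ, 1 ≤ n → 𝒜 n = 𝒜 1 ^ n)
    (hdom : PCone.dom φ = ⊤)
    (p : (PCone.dom φ : Scheme.{u}) ⟶ Proj 𝒜)
    (hp : ∀ (d : ℕ) (f : A) (hd : 0 < d) (hf : f ∈ 𝒜 d),
      PCone.chart φ hf hd ≫ p =
        Spec.map (CommRingCat.ofHom (HomogeneousLocalization.Away.map φ f)) ≫
          Proj.awayι 𝒜 f hf hd)
    [IsIso p] :
    ∃ n₀ : ℕ, ∀ n : ℕ, n₀ ≤ n → ℬ n = ℬ 1 ^ n := by
  have hW : ∀ x : Proj ℬ, x ∈ PCone.dom φ → ∃ t : Idx 𝒜, x ∈ Proj.basicOpen ℬ (φ t.f) := by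
    intro x hx
    obtain ⟨⟨f, d, hd, hf⟩, hxf⟩ := Opens.mem_iSup.1 hx
    exact ⟨⟨d, hd, f, hf⟩, hxf⟩
  have hc : ∀ t : Idx 𝒜, PCone.chart φ t.hf t.hd ≫ (PCone.dom φ).ι =
      Proj.awayι ℬ (φ t.f) (φ.2 t.hf) t.hd := fun t =>
    IsOpenImmersion.lift_fac _ _ _
  have hp' : ∀ t : Idx 𝒜, PCone.chart φ t.hf t.hd ≫ p = gmap φ t := fun t => hp t.d t.f t.hd t.hf
  refine GenDeg1.main 𝒜 ℬ φ hφ h0 h1 hgen ?_ ?_
  · intro J hJhom hJprime hnot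
    let x : Proj ℬ := (⟨⟨J, hJhom⟩, hJprime, fun h => hnot h⟩ : ProjectiveSpectrum ℬ)
    have hx : x ∈ PCone.dom φ := by rw [hdom]; trivial
    obtain ⟨t, ht⟩ := hW x hx
    exact ⟨t.d, t.hd, t.f, t.hf, (Proj.mem_basicOpen ℬ _ x).1 ht⟩
  · intro f hf m b hb
    have hbij := awayMap_bijective_of_isIso φ (PCone.dom φ)
      (fun t => PCone.chart φ t.hf t.hd) hW hc p hp' ⟨1, Nat.one_pos, f, hf⟩
    exact exists_pow_mul_mem_range φ hf hbij.surjective m b hb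

end PCone

end Groth.Agent.Helper1.GenDeg1Geo
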