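import Mathlib
import Groth.Agent.Lib.Helper1.GenusOne2
import Groth.Agent.Lib.Helper1.PtInv2
import Groth.Agent.Lib.Helper1.CurveLin4
import Groth.Agent.Lib.Helper1.DegFin1
import Groth.Agent.Lib.Helper1.AmpleRestr
import Groth.Agent.Lib.Helper1.PtDeg2

/-!
# Base points of invertible modules of degree `≥ 2` on a curve of genus one (helper1)
-/

set_option autoImplicit false
universe u
open CategoryTheory CategoryTheory.Limits AlgebraicGeometry TopologicalSpace Opposite

namespace Groth.Agent.Helper1.GenusOneBpf

open Groth.Agent.Helper1.QcCech Groth.Agent.Helper1.SubSh Groth.Agent.Helper1.LGen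
open Groth.Agent.Helper1.TmulLib Groth.Agent.Helper1 Groth.Agent.Helper1.TwForm
open Groth.Agent.Helper1.TensGen Groth.Agent.Lib.Helper4.TwExact Groth.Agent.Helper1.Dv
open Groth.Agent.Lib.Helper4 Groth.Agent.Helper1.CurveAmp Groth.Agent.Helper1.FinSupp
open Groth.Agent.Helper1.Euler Groth.Agent.Helper1.Curve Groth.Agent.Helper1.CurveLin
open Groth.Agent.Helper1.CurveDual Groth.Agent.Helper1.CurvePt Groth.Agent.Helper1.PtInv
open Groth.Agent.Helper1.GenusOne Groth.Agent.Helper1.AmpleLib Groth.Agent.Helper1.PtDeg

attribute [local instance] Curv2.resAlgebra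

section Local

variable {X : Scheme.{u}}

/-- a global section generating near `x` gives a morphism `O ⟶ L` with `x` in its locus of
generation -/
theorem mem_genLocus_of_genAt {L : X.Modules} (σ : Γ(L, ⊤)) (x : X) (h : GenAt L σ x) :
    x ∈ CohB1.genLocus L (TwistAmple.homOfSec L σ) := by
  obtain ⟨V, hxV, hV⟩ := h
  rw [mem_genLocus_iff_isGen]
  refine ⟨V, hxV, ?_⟩
  rw [secVal_homOfSec]
  exact hV

end Local

section Curve

variable (k : Type u) [Field k] (X : Scheme.{u}) [X.Over (Spec (CommRingCat.of k))]
  [IsIntegral X] [IsProper (X ↘ (Spec (CommRingCat.of k)))]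

/-- on an integral proper curve with `h¹(O) = 1` the global functions are the constants -/
theorem finrank_H0_eq_one_of_genus_one (hg : Curv2.genus k X = 1) :
    Module.finrank k (Coh.HH X (Coh.structureModule X) 0) = 1 := by
  letI a1 : Algebra k Γ(X, ⊤) := (toΓ' k X (X ↘ Spec (CommRingCat.of k))).toAlgebra
  obtain ⟨Le⟩ := nonempty_HH_zero_linearEquiv' k X
  obtain ⟨hF, -, -, -, -⟩ := GlobField.main k X
  have h := GlobField.finrank_HH_dvd k X hF (Coh.structureModule X) 1
  have hg' : Module.finrank k (Coh.HH X (Coh.structureModule X) 1) = 1 := hg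
  rw [hg'] at h
  rw [Le.finrank_eq]
  exact Nat.dvd_one.1 h

/-- an invertible module of degree `≥ 2` on a curve of genus one has a section generating it at a
given closed point with invertible ideal -/
theorem exists_genAt_of_deg_ge_two (hdim : topologicalKrullDim X = 1)
    (hg : Curv2.genus k X = 1) (L : X.Modules) (hL : PicF.IsInvertible L)
    (hdeg : 2 ≤ Curv2.deg k X L 1) (x : X) (hx : IsClosed ({x} : Set X))
    (hI : PicF.IsInvertible (ClSub.idealMod (ptIdeal x hx))) :
    ∃ s : Γ(L, ⊤), GenAt L s x := by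
  haveI := isNoetherian_of_proper k X
  have h0 := finrank_H0_eq_one_of_genus_one k X hg
  have eO := euler_O_eq_zero k X hdim hg h0
  have hLc := InvQc.isCoh_of_isInvertible _ hL
  haveI hL1 : Subsingleton (Coh.HH X L 1) :=
    subsingleton_H1_of_deg_ge k X hdim L hL (by rw [hg]; push_cast; linarith)
  have eL := euler_eq_h0_sub_h1 k X hdim.le L hLc.1
  have hb1 : Module.finrank k (Coh.HH X L 1) = 0 := Module.finrank_zero_of_subsingleton
  rw [hb1] at eL
  have hh0L : (Module.finrank k (Coh.HH X L 0) : ℤ) = Curv2.deg k X L 1 := by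
    unfold Curv2.deg
    rw [eO, eL]
    push_cast
    ring
  obtain ⟨E, hEdef⟩ : ∃ E : X.Modules, E = CohB1.tensorMod (ClSub.idealMod (ptIdeal x hx)) L :=
    ⟨_, rfl⟩
  have hE : PicF.IsInvertible E := hEdef ▸ isInvertible_tensorMod hI hL
  have hEc := InvQc.isCoh_of_isInvertible _ hE
  have hdE : Curv2.deg k X E 1 = Curv2.deg k X L 1 - (Module.finrank k (X.residueField x) : ℤ) := by
    rw [hEdef, deg_tensor_inv k X hdim hI hL, deg_ptIdeal' k X x hx]
    ring
  have hpos := finrank_residueField_pos k X x hx
  obtain ⟨u⟩ := TwistAmpleOpen.nonempty_tensorMod_unit_iso L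
  apply exists_genAt_of_lt k X L hL x hx
  rw [(HHFin1.HHequiv k u 0).finrank_eq, ← hEdef]
  have eE := euler_eq_h0_sub_h1 k X hdim.le E hEc.1
  have hdE' : Curv2.euler k X E = Curv2.deg k X E 1 := by
    unfold Curv2.deg
    rw [eO]
    ring
  by_cases hcase : 1 ≤ Curv2.deg k X E 1
  · haveI : Subsingleton (Coh.HH X E 1) :=
      subsingleton_H1_of_deg_ge k X hdim E hE (by rw [hg]; push_cast; linarith)
    have hb : Module.finrank k (Coh.HH X E 1) = 0 := Module.finrank_zero_of_subsingleton
    rw [hb] at eE
    have : (Module.finrank k (Coh.HH X E 0) : ℤ) < (Module.finrank k (Coh.HH X L 0) : ℤ) := by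
      push_cast at eE
      have : (0 : ℤ) < (Module.finrank k (X.residueField x) : ℤ) := by exact_mod_cast hpos
      linarith
    exact_mod_cast this
  · have hle1 : Module.finrank k (Coh.HH X E 0) ≤ 1 := by
      by_contra hgt
      haveI : Module.Finite k (Coh.HH X E 0) := T2Main1.t2 k X E hEc 0
      obtain ⟨s', hs'⟩ := (Module.finrank_pos_iff_exists_ne_zero (R := k)).1
        (by omega : 0 < Module.finrank k (Coh.HH X E 0))
      have hσ' : HH0.equiv X E s' ≠ 0 := fun h =>
        hs' ((HH0.equiv X E).injective (h.trans (map_zero _).symm))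
      have hφ : TwistAmple.homOfSec E (HH0.equiv X E s') ≠ 0 := by
        intro h
        apply hσ'
        have h2 := PFrame.homOfSec_app_one E (HH0.equiv X E s')
        rw [h] at h2
        exact h2.symm
      obtain ⟨i⟩ := iso_of_deg_nonpos_of_section k X hdim hE _ hφ (by omega)
      have := (HHFin1.HHequiv k i 0).finrank_eq
      omega
    have h2 : 2 ≤ Module.finrank k (Coh.HH X L 0) := by
      have : (2 : ℤ) ≤ (Module.finrank k (Coh.HH X L 0) : ℤ) := by rw [hh0L]; exact hdeg
      exact_mod_cast this
    omega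

/-- **S16299**: on a curve of genus one, an invertible module of degree `≥ 2` is generated by a
global section at every regular point -/
theorem exists_section_generating_at_regular (hdim : topologicalKrullDim X = 1)
    (hg : Curv2.genus k X = 1) (L : X.Modules) (hL : PicF.IsInvertible L)
    (hdeg : 2 ≤ Curv2.deg k X L 1) (x : X) (hx : IsRegularLocalRing (X.presheaf.stalk x)) :
    ∃ s : Coh.structureModule X ⟶ L, x ∈ CohB1.genLocus L s := by
  haveI := isNoetherian_of_proper k X
  by_cases hxc : IsClosed ({x} : Set X)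
  · have hI := isInvertible_ptIdeal_of_regular k X hdim x hxc hx
    obtain ⟨σ, hσ⟩ := exists_genAt_of_deg_ge_two k X hdim hg L hL hdeg x hxc hI
    exact ⟨TwistAmple.homOfSec L σ, mem_genLocus_of_genAt σ x hσ⟩
  · have hxη : x = genericPoint X := by
      by_contra hne
      exact hxc (DegFin.isClosed_singleton_of_ne_genericPoint hdim.le x hne)
    have h0 := finrank_H0_eq_one_of_genus_one k X hg
    have eO := euler_O_eq_zero k X hdim hg h0
    have hLc := InvQc.isCoh_of_isInvertible _ hL
    haveI hL1 : Subsingleton (Coh.HH X L 1) :=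
      subsingleton_H1_of_deg_ge k X hdim L hL (by rw [hg]; push_cast; linarith)
    have eL := euler_eq_h0_sub_h1 k X hdim.le L hLc.1
    have hb1 : Module.finrank k (Coh.HH X L 1) = 0 := Module.finrank_zero_of_subsingleton
    rw [hb1] at eL
    have hh0L : (Module.finrank k (Coh.HH X L 0) : ℤ) = Curv2.deg k X L 1 := by
      unfold Curv2.deg
      rw [eO, eL]
      push_cast
      ring
    have hposL : 0 < Module.finrank k (Coh.HH X L 0) := by
      have : (0 : ℤ) < (Module.finrank k (Coh.HH X L 0) : ℤ) := by rw [hh0L]; linarith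
      exact_mod_cast this
    haveI : Module.Finite k (Coh.HH X L 0) := T2Main1.t2 k X L hLc 0
    obtain ⟨s', hs'⟩ := (Module.finrank_pos_iff_exists_ne_zero (R := k)).1 hposL
    have hσ' : HH0.equiv X L s' ≠ 0 := fun h =>
      hs' ((HH0.equiv X L).injective (h.trans (map_zero _).symm))
    refine ⟨TwistAmple.homOfSec L (HH0.equiv X L s'), mem_genLocus_of_genAt _ x ?_⟩
    rw [hxη]
    exact genAt_genericPoint_of_ne_zero hL _ hσ'

end Curve

end Groth.Agent.Helper1.GenusOneBpf
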