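import Mathlib
import Groth.Agent.Lib.Helper1.GenusOneBpf1
import Groth.Agent.Lib.Helper1.NegVan1
import Groth.Agent.Lib.Helper1.Dv30

/-!
# Global generation on a curve of genus one: products of two modules of positive degree (helper1)

On an integral proper curve `X` over a field `k` with `h¹(O) = 1`, the tensor product `M ⊗ N` of
two invertible modules of degree `≥ 1` is globally generated.  If all global sections of `M` vanish
at a closed point `x`, a nonzero section of `I_x ⊗ M` gives `O ⊗ N ↪ (I_x ⊗ M) ⊗ N` with cokernel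
of finite support, and `H¹(N) = 0` gives `h⁰(I_x ⊗ (M ⊗ N)) ≤ χ(I_x ⊗ (M ⊗ N)) < h⁰(M ⊗ N)`.
-/

set_option autoImplicit false
universe u
open CategoryTheory CategoryTheory.Limits AlgebraicGeometry TopologicalSpace Opposite

namespace Groth.Agent.Helper1.GenusOneBpf2

open Groth.Agent.Helper1.QcCech Groth.Agent.Helper1.SubSh Groth.Agent.Helper1.LGen
open Groth.Agent.Helper1.TmulLib Groth.Agent.Helper1 Groth.Agent.Helper1.TwForm
open Groth.Agent.Helper1.TensGen Groth.Agent.Lib.Helper4.TwExact Groth.Agent.Helper1.Dv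
open Groth.Agent.Lib.Helper4 Groth.Agent.Helper1.CurveAmp Groth.Agent.Helper1.FinSupp
open Groth.Agent.Helper1.Euler Groth.Agent.Helper1.Curve Groth.Agent.Helper1.CurveLin
open Groth.Agent.Helper1.CurveDual Groth.Agent.Helper1.CurvePt Groth.Agent.Helper1.PtInv
open Groth.Agent.Helper1.GenusOne Groth.Agent.Helper1.AmpleLib Groth.Agent.Helper1.PtDeg
open Groth.Agent.Helper1.GenusOneBpf

attribute [local instance] Curv2.resAlgebra

section LinAlg

variable {k A B C : Type*} [Field k] [AddCommGroup A] [AddCommGroup B] [AddCommGroup C]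
  [Module k A] [Module k B] [Module k C]
  [FiniteDimensional k A] [FiniteDimensional k B] [FiniteDimensional k C]

theorem finrank_le_add_of_exact (f : A →ₗ[k] B) (g : B →ₗ[k] C)
    (hex : ∀ x, g x = 0 → ∃ y, f y = x) :
    Module.finrank k B ≤ Module.finrank k A + Module.finrank k C := by
  have h1 := LinearMap.finrank_range_add_finrank_ker g
  have h3 : Module.finrank k (LinearMap.ker g) ≤ Module.finrank k (LinearMap.range f) := by
    apply Submodule.finrank_mono
    intro x hx
    exact hex x hx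
  have h4 : Module.finrank k (LinearMap.range f) ≤ Module.finrank k A :=
    LinearMap.finrank_range_le f
  have h2 : Module.finrank k (LinearMap.range g) ≤ Module.finrank k C := Submodule.finrank_le _
  omega

end LinAlg

section General

variable {X : Scheme.{u}}

/-- the product of two generating sections generates the tensor product -/
theorem genAt_tm {M N : X.Modules} (t : Γ(M, ⊤)) (u : Γ(N, ⊤)) (x : X) (ht : GenAt M t x)
    (hu : GenAt N u x) : GenAt (CohB1.tensorMod M N) (tm M N ⊤ t u) x := by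
  obtain ⟨V₁, hx₁, h₁⟩ := ht
  obtain ⟨V₂, hx₂, h₂⟩ := hu
  refine ⟨V₁ ⊓ V₂, ⟨hx₁, hx₂⟩, ?_⟩
  rw [res_tm]
  have a₁ := h₁.res (inf_le_left : V₁ ⊓ V₂ ≤ V₁)
  have a₂ := h₂.res (inf_le_right : V₁ ⊓ V₂ ≤ V₂)
  rw [res_res] at a₁ a₂
  exact isGen_tm a₁ a₂

end General

section Curve

variable (k : Type u) [Field k] (X : Scheme.{u}) [X.Over (Spec (CommRingCat.of k))]
  [IsIntegral X] [IsProper (X ↘ (Spec (CommRingCat.of k)))]

omit [IsIntegral X] [IsProper (X ↘ (Spec (CommRingCat.of k)))] [X.Over (Spec (CommRingCat.of k))] in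
/-- generation at all closed points by global sections gives global generation -/
theorem isGloballyGenerated_of_forall_closed (k : Type u) [Field k] (X : Scheme.{u})
    [X.Over (Spec (CommRingCat.of k))] [IsProper (X ↘ (Spec (CommRingCat.of k)))]
    (L : X.Modules)
    (h : ∀ (x₀ : X), IsClosed ({x₀} : Set X) → ∃ s : Γ(L, ⊤), GenAt L s x₀) :
    Curv2.IsGloballyGenerated L := by
  haveI := isNoetherian_of_proper k X
  apply AmpleLib.isGloballyGenerated_of_spannedOn
  intro x
  obtain ⟨x₀, hx₀mem, hx₀⟩ := IsClosed.exists_closed_singleton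
    (isClosed_closure : IsClosed (closure ({x} : Set X))) ⟨x, subset_closure rfl⟩
  obtain ⟨s, V, hxV, hV⟩ := h x₀ hx₀
  have hxV' : x ∈ V := (specializes_iff_mem_closure.2 hx₀mem).mem_open V.isOpen hxV
  refine ⟨V, hxV', ?_⟩
  intro O hO t y hy
  refine ⟨O, le_rfl, hy, ?_⟩
  obtain ⟨r, hr⟩ := (hV.res hO).exists_coeff t
  rw [res_self, ← hr]
  apply Submodule.smul_mem
  apply Submodule.subset_span
  exact ⟨s, by rw [res_res]⟩

/-- on a curve of genus one an invertible module of degree `≥ 1` has `H¹ = 0`, `h⁰ = deg = χ` -/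
theorem deg_package (hdim : topologicalKrullDim X = 1) (hg : Curv2.genus k X = 1)
    (F : X.Modules) (hF : PicF.IsInvertible F) (hd : 1 ≤ Curv2.deg k X F 1) :
    Subsingleton (Coh.HH X F 1) ∧
      (Module.finrank k (Coh.HH X F 0) : ℤ) = Curv2.deg k X F 1 ∧
      Curv2.euler k X F = Curv2.deg k X F 1 := by
  haveI := isNoetherian_of_proper k X
  have h0 := finrank_H0_eq_one_of_genus_one k X hg
  have eO := euler_O_eq_zero k X hdim hg h0
  haveI hF1 : Subsingleton (Coh.HH X F 1) :=
    subsingleton_H1_of_deg_ge k X hdim F hF (by rw [hg]; push_cast; linarith)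
  have eF := euler_eq_h0_sub_h1 k X hdim.le F (InvQc.isCoh_of_isInvertible _ hF).1
  have hb1 : Module.finrank k (Coh.HH X F 1) = 0 := Module.finrank_zero_of_subsingleton
  rw [hb1] at eF
  have hdF : Curv2.euler k X F = Curv2.deg k X F 1 := by
    unfold Curv2.deg
    rw [eO]
    ring
  refine ⟨hF1, ?_, hdF⟩
  rw [← hdF, eF]
  push_cast
  ring

set_option maxHeartbeats 1600000 in
/-- if all global sections of `M` vanish at the closed point `x`, then `M ⊗ N` is generated at `x`
by a global section -/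
theorem exists_genAt_tensor_of_forall_not_genAt (hdim : topologicalKrullDim X = 1)
    (hg : Curv2.genus k X = 1) {M N : X.Modules} (hM : PicF.IsInvertible M)
    (hN : PicF.IsInvertible N) (hdM : 1 ≤ Curv2.deg k X M 1) (hdN : 1 ≤ Curv2.deg k X N 1)
    (x : X) (hx : IsClosed ({x} : Set X)) (hgen : ∀ σ : Γ(M, ⊤), ¬ GenAt M σ x) :
    ∃ s : Γ(CohB1.tensorMod M N, ⊤), GenAt (CohB1.tensorMod M N) s x := by
  haveI := isNoetherian_of_proper k X
  haveI : IsLocallyNoetherian X := (isNoetherian_of_proper k X).toIsLocallyNoetherian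
  have hOi : PicF.IsInvertible (Coh.structureModule X) := GenLoc.isInvertible_O
  have hOc : Coh.IsCoh (Coh.structureModule X) := InvQc.isCoh_of_isInvertible _ hOi
  have hMc := InvQc.isCoh_of_isInvertible _ hM
  have hNc := InvQc.isCoh_of_isInvertible _ hN
  have hL : PicF.IsInvertible (CohB1.tensorMod M N) := isInvertible_tensorMod hM hN
  have hLc := InvQc.isCoh_of_isInvertible _ hL
  have hIc : Coh.IsCoh (ClSub.idealMod (ptIdeal x hx)) := isCoh_idealMod _
  have hQc : Coh.IsCoh (ClSub.quotMod (ptIdeal x hx)) := isCoh_quotMod _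
  have hOMi : PicF.IsInvertible (CohB1.tensorMod (Coh.structureModule X) M) :=
    isInvertible_tensorMod hOi hM
  have hAc : Coh.IsCoh (CohB1.tensorMod (ClSub.idealMod (ptIdeal x hx)) M) :=
    isCoh_tensor _ _ hIc hMc
  obtain ⟨hM1, hM0, hMe⟩ := deg_package k X hdim hg M hM hdM
  obtain ⟨hN1, hN0, hNe⟩ := deg_package k X hdim hg N hN hdN
  have hdL : Curv2.deg k X (CohB1.tensorMod M N) 1 = Curv2.deg k X M 1 + Curv2.deg k X N 1 :=
    deg_tensor_inv k X hdim hM hN
  obtain ⟨hL1, hL0, hLe⟩ := deg_package k X hdim hg _ hL (by rw [hdL]; linarith)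
  -- a nonzero section of `I ⊗ M`
  obtain ⟨uM⟩ := TwistAmpleOpen.nonempty_tensorMod_unit_iso M
  have e1 := finrank_eq_of_not_genAt' k X M hM x hx hgen
  have e2 := (HHFin1.HHequiv k uM 0).finrank_eq
  have hApos : 0 < Module.finrank k
      (Coh.HH X (CohB1.tensorMod (ClSub.idealMod (ptIdeal x hx)) M) 0) := by
    rw [e1, e2]
    have : (0 : ℤ) < (Module.finrank k (Coh.HH X M 0) : ℤ) := by rw [hM0]; linarith
    exact_mod_cast this
  haveI : Module.Finite k (Coh.HH X (CohB1.tensorMod (ClSub.idealMod (ptIdeal x hx)) M) 0) :=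
    T2Main1.t2 k X _ hAc 0
  obtain ⟨s', hs'⟩ := (Module.finrank_pos_iff_exists_ne_zero (R := k)).1 hApos
  have hσ' : HH0.equiv X (CohB1.tensorMod (ClSub.idealMod (ptIdeal x hx)) M) s' ≠ 0 := fun h =>
    hs' ((HH0.equiv X _).injective (h.trans (map_zero _).symm))
  obtain ⟨τ, hτdef⟩ : ∃ τ : Coh.structureModule X ⟶
      CohB1.tensorMod (ClSub.idealMod (ptIdeal x hx)) M,
      τ = TwistAmple.homOfSec _ (HH0.equiv X
        (CohB1.tensorMod (ClSub.idealMod (ptIdeal x hx)) M) s') := ⟨_, rfl⟩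
  have hτ : τ ≠ 0 := by
    intro h
    apply hσ'
    have h2 := PFrame.homOfSec_app_one (CohB1.tensorMod (ClSub.idealMod (ptIdeal x hx)) M)
      (HH0.equiv X (CohB1.tensorMod (ClSub.idealMod (ptIdeal x hx)) M) s')
    rw [← hτdef, h] at h2
    exact h2.symm
  -- `τ` is a monomorphism with cokernel of finite support
  have hSE := shortExact_map (locGen_of_isInvertible M hM) (shortExact_S (ptIdeal x hx))
  obtain ⟨ι, hιdef⟩ : ∃ ι : CohB1.tensorMod (ClSub.idealMod (ptIdeal x hx)) M ⟶
      CohB1.tensorMod (Coh.structureModule X) M,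
      ι = ((IdealModL.S (ptIdeal x hx)).map (TL M)).f := ⟨_, rfl⟩
  haveI hιm : Mono ι := by rw [hιdef]; exact hSE.mono_f
  have hτ₂ : τ ≫ ι ≠ 0 := by
    intro h
    apply hτ
    rw [← cancel_mono ι, h, zero_comp]
  obtain ⟨hm2, -, -, -⟩ := cokernel_package k X hdim hOi hOMi (τ ≫ ι) hτ₂
  haveI hτm : Mono τ := by
    haveI := hm2
    exact mono_of_mono τ ι
  have hC0c : Coh.IsCoh (cokernel τ) := FtLocal.isCoh_cokernel hOc hAc τ
  have hη2 := genericPoint_notMem_support_cokernel hOi hOMi (τ ≫ ι) hτ₂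
  have hsurj2 := stalkL_surjective_of_notMem_support (τ ≫ ι) (genericPoint X) hη2
  have hinjι := Dv.stalkL_injective_of_mono ι (genericPoint X)
  have hsurjτ : Function.Surjective (stalkL τ (genericPoint X)) := by
    intro y
    obtain ⟨z, hz⟩ := hsurj2 (stalkL ι (genericPoint X) y)
    rw [Dv.stalkL_comp] at hz
    exact ⟨z, hinjι hz⟩
  have hηC : genericPoint X ∉ CohB1.support (cokernel τ) :=
    notMem_support_cokernel' τ (genericPoint X) hsurjτ
  have hC0d := dim_support_le_zero hdim (cokernel τ) hC0c hηC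
  -- tensor the cokernel sequence of `τ` with `N`
  let S₀ : ShortComplex X.Modules := ShortComplex.mk τ (cokernel.π τ) (cokernel.condition τ)
  have hS₀ : S₀.ShortExact := by
    have hS : S₀.Exact := ShortComplex.exact_cokernel τ
    haveI : Mono S₀.f := hτm
    haveI : Epi S₀.g := inferInstanceAs (Epi (cokernel.π τ))
    exact { exact := hS }
  have hSN := shortExact_map (locGen_of_isInvertible N hN) hS₀
  have hX1c : Coh.IsCoh (CohB1.tensorMod (Coh.structureModule X) N) := isCoh_tensor _ _ hOc hNc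
  have hX2c : Coh.IsCoh (CohB1.tensorMod
      (CohB1.tensorMod (ClSub.idealMod (ptIdeal x hx)) M) N) := isCoh_tensor _ _ hAc hNc
  have hX3c : Coh.IsCoh (CohB1.tensorMod (cokernel τ) N) := isCoh_tensor _ _ hC0c hNc
  have hX3d : topologicalKrullDim ↥(CohB1.support (CohB1.tensorMod (cokernel τ) N)) ≤ 0 :=
    (Dv.krullDim_le_of_subset (fun y hy => NegVan.support_tensor_subset hN y hy)).trans hC0d
  have ea : Curv2.euler k X (CohB1.tensorMod
      (CohB1.tensorMod (ClSub.idealMod (ptIdeal x hx)) M) N) =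
      Curv2.euler k X (CohB1.tensorMod (Coh.structureModule X) N) +
      Curv2.euler k X (CohB1.tensorMod (cokernel τ) N) :=
    euler_additive k X (S₀.map (TL N)) hSN hX1c hX2c hX3c
  have e3 := euler_eq_finrank_of_dim_le_zero k X _ hX3c hX3d
  obtain ⟨uN⟩ := TwistAmpleOpen.nonempty_tensorMod_unit_iso N
  have e4 : Curv2.euler k X (CohB1.tensorMod (Coh.structureModule X) N) =
      (Module.finrank k (Coh.HH X (CohB1.tensorMod (Coh.structureModule X) N) 0) : ℤ) := by
    rw [euler_iso k X uN, (HHFin1.HHequiv k uN 0).finrank_eq, hNe, hN0]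
  haveI : Module.Finite k (Coh.HH X (CohB1.tensorMod (Coh.structureModule X) N) 0) :=
    T2Main1.t2 k X _ hX1c 0
  haveI : Module.Finite k (Coh.HH X (CohB1.tensorMod
      (CohB1.tensorMod (ClSub.idealMod (ptIdeal x hx)) M) N) 0) := T2Main1.t2 k X _ hX2c 0
  haveI : Module.Finite k (Coh.HH X (CohB1.tensorMod (cokernel τ) N) 0) :=
    T2Main1.t2 k X _ hX3c 0
  haveI : Module.Finite k (Coh.HH X (S₀.map (TL N)).X₁ 0) := T2Main1.t2 k X _ hX1c 0
  haveI : Module.Finite k (Coh.HH X (S₀.map (TL N)).X₂ 0) := T2Main1.t2 k X _ hX2c 0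
  haveI : Module.Finite k (Coh.HH X (S₀.map (TL N)).X₃ 0) := T2Main1.t2 k X _ hX3c 0
  have hle : Module.finrank k (Coh.HH X (CohB1.tensorMod
      (CohB1.tensorMod (ClSub.idealMod (ptIdeal x hx)) M) N) 0) ≤
      Module.finrank k (Coh.HH X (CohB1.tensorMod (Coh.structureModule X) N) 0) +
      Module.finrank k (Coh.HH X (CohB1.tensorMod (cokernel τ) N) 0) :=
    finrank_le_add_of_exact (Canon.HHlin k (S₀.map (TL N)).f 0)
      (Canon.HHlin k (S₀.map (TL N)).g 0) (fun y hy => HHFin2.exact_f_g k hSN 0 y hy)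
  -- the Euler characteristic of `I ⊗ (M ⊗ N)`
  have eas := assocIso (ClSub.idealMod (ptIdeal x hx)) hM hN
  have hSL := shortExact_map (locGen_of_isInvertible _ hL) (shortExact_S (ptIdeal x hx))
  have hILc : Coh.IsCoh (CohB1.tensorMod (ClSub.idealMod (ptIdeal x hx))
      (CohB1.tensorMod M N)) := isCoh_tensor _ _ hIc hLc
  have hOLc : Coh.IsCoh (CohB1.tensorMod (Coh.structureModule X) (CohB1.tensorMod M N)) :=
    isCoh_tensor _ _ hOc hLc
  have hQLc : Coh.IsCoh (CohB1.tensorMod (ClSub.quotMod (ptIdeal x hx))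
      (CohB1.tensorMod M N)) := isCoh_tensor _ _ hQc hLc
  have eb : Curv2.euler k X (CohB1.tensorMod (Coh.structureModule X) (CohB1.tensorMod M N)) =
      Curv2.euler k X (CohB1.tensorMod (ClSub.idealMod (ptIdeal x hx)) (CohB1.tensorMod M N)) +
      Curv2.euler k X (CohB1.tensorMod (ClSub.quotMod (ptIdeal x hx)) (CohB1.tensorMod M N)) :=
    euler_additive k X ((IdealModL.S (ptIdeal x hx)).map (TL (CohB1.tensorMod M N))) hSL
      hILc hOLc hQLc
  have hZ : topologicalKrullDim ((ptIdeal x hx).support : Set X) ≤ 0 := by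
    rw [ptIdeal_support]
    haveI : Nonempty ↥({x} : Set X) := ⟨⟨x, rfl⟩⟩
    exact topologicalKrullDim_zero_of_discreteTopology ↥({x} : Set X)
  have hQd : topologicalKrullDim ↥(CohB1.support (ClSub.quotMod (ptIdeal x hx))) ≤ 0 :=
    (Dv.krullDim_le_of_subset (support_quotMod_subset _)).trans hZ
  have e5 := euler_tensor_of_dim_zero k X (ClSub.quotMod (ptIdeal x hx)) hQc hQd 1
    (CohB1.tensorMod M N) (isFinLocFreeOfRank_one hL)
  rw [Nat.cast_one, one_mul] at e5
  have e6 := euler_eq_finrank_of_dim_le_zero k X (ClSub.quotMod (ptIdeal x hx)) hQc hQd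
  have e7 := finrank_quotMod_pt' k X x hx
  have hpos := finrank_residueField_pos k X x hx
  obtain ⟨uL⟩ := TwistAmpleOpen.nonempty_tensorMod_unit_iso (CohB1.tensorMod M N)
  have e8 : Curv2.euler k X (CohB1.tensorMod (Coh.structureModule X) (CohB1.tensorMod M N)) =
      (Module.finrank k (Coh.HH X (CohB1.tensorMod (Coh.structureModule X)
        (CohB1.tensorMod M N)) 0) : ℤ) := by
    rw [euler_iso k X uL, (HHFin1.HHequiv k uL 0).finrank_eq, hLe, hL0]
  have e9 := (HHFin1.HHequiv k eas 0).finrank_eq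
  have e10 := euler_iso k X eas
  apply exists_genAt_of_lt k X _ hL x hx
  have hfin : (Module.finrank k (Coh.HH X (CohB1.tensorMod (ClSub.idealMod (ptIdeal x hx))
      (CohB1.tensorMod M N)) 0) : ℤ) <
      (Module.finrank k (Coh.HH X (CohB1.tensorMod (Coh.structureModule X)
        (CohB1.tensorMod M N)) 0) : ℤ) := by
    have hle' : (Module.finrank k (Coh.HH X (CohB1.tensorMod
      (CohB1.tensorMod (ClSub.idealMod (ptIdeal x hx)) M) N) 0) : ℤ) ≤
      (Module.finrank k (Coh.HH X (CohB1.tensorMod (Coh.structureModule X) N) 0) : ℤ) +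
      (Module.finrank k (Coh.HH X (CohB1.tensorMod (cokernel τ) N) 0) : ℤ) := by
      exact_mod_cast hle
    have hpos' : (0 : ℤ) < (Module.finrank k (X.residueField x) : ℤ) := by exact_mod_cast hpos
    rw [e7] at e6
    rw [← e9]
    linarith
  exact_mod_cast hfin

/-- on a curve of genus one, the tensor product of two invertible modules of degree `≥ 1` is
generated by a global section at every closed point -/
theorem exists_genAt_tensor (hdim : topologicalKrullDim X = 1)
    (hg : Curv2.genus k X = 1) {M N : X.Modules} (hM : PicF.IsInvertible M)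
    (hN : PicF.IsInvertible N) (hdM : 1 ≤ Curv2.deg k X M 1) (hdN : 1 ≤ Curv2.deg k X N 1)
    (x : X) (hx : IsClosed ({x} : Set X)) :
    ∃ s : Γ(CohB1.tensorMod M N, ⊤), GenAt (CohB1.tensorMod M N) s x := by
  by_cases h1 : ∃ t : Γ(M, ⊤), GenAt M t x
  · by_cases h2 : ∃ u : Γ(N, ⊤), GenAt N u x
    · obtain ⟨t, ht⟩ := h1
      obtain ⟨u, hu⟩ := h2
      exact ⟨tm M N ⊤ t u, genAt_tm t u x ht hu⟩
    · obtain ⟨s, hs⟩ := exists_genAt_tensor_of_forall_not_genAt k X hdim hg hN hM hdN hdM x hx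
        (not_exists.1 h2)
      exact ⟨(TildeTens.tensorModComm N M).hom.app ⊤ s,
        genAt_of_iso (TildeTens.tensorModComm N M) s x hs⟩
  · exact exists_genAt_tensor_of_forall_not_genAt k X hdim hg hM hN hdM hdN x hx
      (not_exists.1 h1)

/-- **S16300** -/
theorem s16300 (hdim : topologicalKrullDim X = 1) (hg : Curv2.genus k X = 1)
    (L : X.Modules) (hL : PicF.IsInvertible L)
    (P : X) (hPc : IsClosed ({P} : Set X)) (hPreg : IsRegularLocalRing (X.presheaf.stalk P))
    (hdegP : (Module.finrank k (Coh.HH X (ClSub.quotMod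
      (Scheme.IdealSheafData.vanishingIdeal ⟨{P}, hPc⟩)) 0) : ℤ) < Curv2.deg k X L 1) :
    Curv2.IsGloballyGenerated L := by
  haveI := isNoetherian_of_proper k X
  have hI := isInvertible_ptIdeal_of_regular k X hdim P hPc hPreg
  obtain ⟨K, hK, ⟨eK⟩⟩ := InvInv2.exists_inverse hI
  have hMi : PicF.IsInvertible (CohB1.tensorMod L (ClSub.idealMod (ptIdeal P hPc))) :=
    isInvertible_tensorMod hL hI
  have hdM : Curv2.deg k X (CohB1.tensorMod L (ClSub.idealMod (ptIdeal P hPc))) 1 =
      Curv2.deg k X L 1 - (Module.finrank k (X.residueField P) : ℤ) := by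
    rw [deg_tensor_inv k X hdim hL hI, deg_ptIdeal' k X P hPc]
    ring
  have hdK : Curv2.deg k X K 1 = (Module.finrank k (X.residueField P) : ℤ) := by
    rw [deg_of_inverse k X hdim hK hI eK, deg_ptIdeal' k X P hPc]
    ring
  have hpos := finrank_residueField_pos k X P hPc
  have hpos' : (0 : ℤ) < (Module.finrank k (X.residueField P) : ℤ) := by exact_mod_cast hpos
  have e7 : Module.finrank k (Coh.HH X (ClSub.quotMod (ptIdeal P hPc)) 0) =
      Module.finrank k (X.residueField P) := finrank_quotMod_pt' k X P hPc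
  have hdegP' : (Module.finrank k (X.residueField P) : ℤ) < Curv2.deg k X L 1 := by
    rw [← e7]
    exact hdegP
  let e : CohB1.tensorMod (CohB1.tensorMod L (ClSub.idealMod (ptIdeal P hPc))) K ≅ L :=
    assocIso L hI hK ≪≫ TwistTens.tensorModCongrRight L
      (TildeTens.tensorModComm (ClSub.idealMod (ptIdeal P hPc)) K ≪≫ eK) ≪≫ SecTwist.unitorR L
  apply isGloballyGenerated_of_forall_closed k X L
  intro x₀ hx₀
  obtain ⟨s, hs⟩ := exists_genAt_tensor k X hdim hg hMi hK (by rw [hdM]; linarith)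
    (by rw [hdK]; linarith) x₀ hx₀
  exact ⟨e.hom.app ⊤ s, genAt_of_iso e s x₀ hs⟩

end Curve

end Groth.Agent.Helper1.GenusOneBpf2
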