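import Mathlib
import Groth.Agent.Lib.Helper1.PtDeg5
import Groth.Agent.Lib.Helper1.RegPt1
import Groth.Agent.Lib.Helper1.P1Smooth

/-!
# Integral proper curves of genus zero over an algebraically closed field (helper1)
-/

set_option autoImplicit false
universe u
open CategoryTheory CategoryTheory.Limits AlgebraicGeometry TopologicalSpace Opposite

namespace Groth.Agent.Helper1.GenusZero

open Groth.Agent.Helper1.CurveDual Groth.Agent.Helper1.CurvePt Groth.Agent.Helper1.CurveLin
open Groth.Agent.Helper1.PtInv Groth.Agent.Helper1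

section AlgClosed

variable (k : Type u) [Field k] [IsAlgClosed k] (X : Scheme.{u})
  [X.Over (Spec (CommRingCat.of k))] [IsIntegral X] [IsProper (X ↘ (Spec (CommRingCat.of k)))]

/-- an integral proper curve with `H¹(O) = 0` over an algebraically closed field is the
projective line -/
theorem iso_P1_of_isAlgClosed (hdim : topologicalKrullDim X = 1)
    (h1 : Subsingleton (Coh.HH X (Coh.structureModule X) 1)) :
    ∃ e : X ≅ CohB1.ProjSpace 1 k,
      e.hom ≫ CohB1.ProjSpace.toSpec 1 k = X ↘ (Spec (CommRingCat.of k)) := by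
  obtain ⟨P, hP, hI⟩ := RegPt.exists_closedPoint_isInvertible_ptIdeal k X hdim
  have hmem : (-1 : ℤ) ∈ PtDeg.degGroup k X hdim.le := ⟨_, hI, deg_ptIdeal k X P hP⟩
  have h1' := (PtDeg.degGroup k X hdim.le).neg_mem hmem
  rw [neg_neg] at h1'
  obtain ⟨L, hL, hdeg⟩ := h1'
  exact P1Iso.iso_P1_of_deg_one k X hdim h1 L hL hdeg

/-- S14512 -/
theorem smooth_of_genus_zero (hdim : topologicalKrullDim X = 1) (hg : Curv2.genus k X = 0) :
    Smooth (X ↘ (Spec (CommRingCat.of k))) := by
  haveI := Euler.isNoetherian_of_proper k X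
  have hOc : Coh.IsCoh (Coh.structureModule X) :=
    InvQc.isCoh_of_isInvertible _ GenLoc.isInvertible_O
  haveI : Module.Finite k (Coh.HH X (Coh.structureModule X) 1) :=
    Groth.Agent.Lib.Helper4.T2Main1.t2 k X _ hOc 1
  have h1 : Subsingleton (Coh.HH X (Coh.structureModule X) 1) := by
    unfold Curv2.genus at hg
    exact Module.finrank_zero_iff.1 hg
  obtain ⟨e, he⟩ := iso_P1_of_isAlgClosed k X hdim h1
  rw [← he]
  haveI := P1Smooth.smooth_projSpace_one k
  infer_instance

end AlgClosed

end Groth.Agent.Helper1.GenusZero
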