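import Mathlib
import Groth.Agent.Lib.Helper1.GenusZero1
import Groth.Agent.Lib.Helper1.GeomBC1
import Groth.Agent.Lib.Helper2.Sch.FieldBCDim

/-!
# Geometrically integral curves of arithmetic genus zero (helper1)
-/

set_option autoImplicit false
universe u
open CategoryTheory CategoryTheory.Limits AlgebraicGeometry TopologicalSpace Opposite

namespace Groth.Agent.Helper1.GenusZero

open Groth.Agent.Helper1.CurveDual Groth.Agent.Helper1.CurvePt Groth.Agent.Helper1.CurveLin
open Groth.Agent.Helper1.PtInv Groth.Agent.Helper1 Groth.Agent.Helper1.Euler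
open Groth.Agent.Helper1.Curve

section H1

variable (k : Type u) [Field k] (X : Scheme.{u})
  [X.Over (Spec (CommRingCat.of k))] [IsIntegral X] [IsProper (X ↘ (Spec (CommRingCat.of k)))]

/-- an integral proper curve with `χ(O) ≥ 1` has `H¹(O) = 0` -/
theorem subsingleton_H1_of_pa_le_zero (hdim : topologicalKrullDim X ≤ 1)
    (hpa : 1 - Curv2.euler k X (Coh.structureModule X) ≤ 0) :
    Subsingleton (Coh.HH X (Coh.structureModule X) 1) := by
  haveI := Euler.isNoetherian_of_proper k X
  letI a1 : Algebra k Γ(X, ⊤) := (toΓ' k X (X ↘ Spec (CommRingCat.of k))).toAlgebra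
  obtain ⟨Le⟩ := nonempty_HH_zero_linearEquiv' k X
  obtain ⟨hF, -, -, -, -⟩ := GlobField.main k X
  have hdvd := GlobField.finrank_HH_dvd k X hF (Coh.structureModule X) 1
  have hOc : Coh.IsCoh (Coh.structureModule X) :=
    InvQc.isCoh_of_isInvertible _ GenLoc.isInvertible_O
  have eO := euler_eq_h0_sub_h1 k X hdim _ hOc.1
  rw [Le.finrank_eq] at eO
  haveI : Module.Finite k (Coh.HH X (Coh.structureModule X) 1) :=
    Groth.Agent.Lib.Helper4.T2Main1.t2 k X _ hOc 1
  apply (Module.finrank_zero_iff (R := k)).1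
  obtain ⟨m, hm⟩ := hdvd
  rw [eO] at hpa
  rcases Nat.eq_zero_or_pos m with rfl | hpos
  · rw [hm, mul_zero]
  · exfalso
    have h1 : Module.finrank k Γ(X, ⊤) ≤ Module.finrank k Γ(X, ⊤) * m :=
      Nat.le_mul_of_pos_right _ hpos
    rw [← hm] at h1
    have h2 : (Module.finrank k Γ(X, ⊤) : ℤ) ≤
        (Module.finrank k (Coh.HH X (Coh.structureModule X) 1) : ℤ) := by exact_mod_cast h1
    linarith

end H1

section Geom

variable (k : Type u) [Field k] (X : Scheme.{u})
  [X.Over (Spec (CommRingCat.of k))] [IsProper (X ↘ (Spec (CommRingCat.of k)))]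
  [GeometricallyIntegral (X ↘ (Spec (CommRingCat.of k)))]

theorem surjective_specMap_field (K : Type u) [Field K] [Algebra k K] :
    Surjective (Spec.map (CommRingCat.ofHom (algebraMap k K))) := by
  constructor
  intro x
  haveI : Subsingleton ↥(Spec (CommRingCat.of k)) :=
    inferInstanceAs (Subsingleton (PrimeSpectrum k))
  haveI : Nonempty ↥(Spec (CommRingCat.of K)) :=
    inferInstanceAs (Nonempty (PrimeSpectrum K))
  obtain ⟨y⟩ := ‹Nonempty ↥(Spec (CommRingCat.of K))›
  exact ⟨y, Subsingleton.elim _ _⟩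

theorem flat_specMap_field (K : Type u) [Field K] [Algebra k K] :
    Flat (Spec.map (CommRingCat.ofHom (algebraMap k K))) := by
  rw [HasRingHomProperty.Spec_iff (P := @Flat)]
  show (algebraMap k K).Flat
  rw [RingHom.flat_algebraMap_iff]
  infer_instance

set_option maxHeartbeats 1000000 in
/-- a geometrically integral proper curve with `H¹(O) = 0` is smooth -/
theorem smooth_of_geometricallyIntegral (hdim : topologicalKrullDim X = 1)
    (h1 : Subsingleton (Coh.HH X (Coh.structureModule X) 1)) :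
    Smooth (X ↘ (Spec (CommRingCat.of k))) := by
  let K := AlgebraicClosure k
  letI : (pullback (X ↘ Spec (CommRingCat.of k))
      (Spec.map (CommRingCat.ofHom (algebraMap k K)))).Over (Spec (CommRingCat.of K)) :=
    ⟨pullback.snd _ _⟩
  haveI : IsProper ((pullback (X ↘ Spec (CommRingCat.of k))
      (Spec.map (CommRingCat.ofHom (algebraMap k K)))) ↘ Spec (CommRingCat.of K)) :=
    inferInstanceAs (IsProper (pullback.snd (X ↘ Spec (CommRingCat.of k))
      (Spec.map (CommRingCat.ofHom (algebraMap k K)))))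
  haveI : IsIntegral (pullback (X ↘ Spec (CommRingCat.of k))
      (Spec.map (CommRingCat.ofHom (algebraMap k K)))) :=
    pullback_of_geometrically
      (GeometricallyIntegral.geometrically_isIntegral (f := X ↘ Spec (CommRingCat.of k))) K _
  have hdim' : topologicalKrullDim ↥(pullback (X ↘ Spec (CommRingCat.of k))
      (Spec.map (CommRingCat.ofHom (algebraMap k K))) : Scheme.{u}) = 1 :=
    (Groth.Agent.Helper2.FieldBCDim.S4642_main (K := K) (X ↘ Spec (CommRingCat.of k))).trans hdim
  have h1' := GeomBC.subsingleton_HH_structureModule_bc k K X 1 h1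
  obtain ⟨e, he⟩ := iso_P1_of_isAlgClosed K _ hdim' h1'
  have hsm : Smooth (pullback.snd (X ↘ Spec (CommRingCat.of k))
      (Spec.map (CommRingCat.ofHom (algebraMap k K)))) := by
    have he' : e.hom ≫ CohB1.ProjSpace.toSpec 1 K = pullback.snd (X ↘ Spec (CommRingCat.of k))
      (Spec.map (CommRingCat.ofHom (algebraMap k K))) := he
    rw [← he']
    haveI := P1Smooth.smooth_projSpace_one K
    infer_instance
  exact MorphismProperty.of_pullback_snd_of_descendsAlong (P := @Smooth)
    (Q := @Surjective ⊓ @Flat ⊓ @QuasiCompact)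
    ⟨⟨surjective_specMap_field k K, flat_specMap_field k K⟩, inferInstance⟩ hsm

end Geom

section Sect

variable (k : Type u) [Field k]

/-- the projective line has a rational point -/
theorem exists_section_P1 :
    ∃ r : Spec (CommRingCat.of k) ⟶ CohB1.ProjSpace 1 k,
      r ≫ CohB1.ProjSpace.toSpec 1 k = 𝟙 _ := by
  let s : Fin (1 + 1) → Γ(Coh.structureModule (Spec (CommRingCat.of k)), ⊤) :=
    fun i => if i = 0 then TwForm.one' ⊤ else 0
  have hcov : ∀ x : Spec (CommRingCat.of k), ∃ i, x ∈ CohB1.genLocus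
      (Coh.structureModule (Spec (CommRingCat.of k))) (TwistAmple.homOfSec _ (s i)) := by
    intro x
    refine ⟨0, (AmpleLib.mem_genLocus_iff_isGen _ x).2 ⟨⊤, trivial, ?_⟩⟩
    rw [AmpleLib.secVal_homOfSec, QcCech.res_self]
    exact AmpleLib.isGen_one' ⊤
  have hs := VA1.generatedBy_of_cover s hcov
  obtain ⟨r, hr, -, -⟩ := Groth.Agent.S3572.result (R := k) 1 (𝟙 (Spec (CommRingCat.of k)))
    (Coh.structureModule _) GenLoc.isInvertible_O s hs
  exact ⟨r, hr⟩

end Sect

section Main

variable (k : Type u) [Field k] (X : Scheme.{u})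
  [X.Over (Spec (CommRingCat.of k))] [IsProper (X ↘ (Spec (CommRingCat.of k)))]
  [GeometricallyIntegral (X ↘ (Spec (CommRingCat.of k)))]

/-- S11575 (for proper curves) -/
theorem smooth_and_iso_P1_iff (hdim : topologicalKrullDim X = 1)
    (hpa : 1 - Curv2.euler k X (Coh.structureModule X) ≤ 0) :
    Smooth (X ↘ (Spec (CommRingCat.of k))) ∧
      ((∃ e : X ≅ CohB1.ProjSpace 1 k,
          e.hom ≫ CohB1.ProjSpace.toSpec 1 k = X ↘ (Spec (CommRingCat.of k))) ↔
        ∃ s : Spec (CommRingCat.of k) ⟶ X, s ≫ (X ↘ (Spec (CommRingCat.of k))) = 𝟙 _) := by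
  haveI : Subsingleton ↥(Spec (CommRingCat.of k)) :=
    inferInstanceAs (Subsingleton (PrimeSpectrum k))
  haveI : IsIntegral X :=
    GeometricallyIntegral.isIntegral_of_subsingleton (X ↘ (Spec (CommRingCat.of k)))
  haveI := Euler.isNoetherian_of_proper k X
  have h1 := subsingleton_H1_of_pa_le_zero k X hdim.le hpa
  have hsm := smooth_of_geometricallyIntegral k X hdim h1
  refine ⟨hsm, ⟨?_, ?_⟩⟩
  · rintro ⟨e, he⟩
    obtain ⟨r, hr⟩ := exists_section_P1 k
    refine ⟨r ≫ e.inv, ?_⟩
    rw [Category.assoc, ← he, Iso.inv_hom_id_assoc, hr]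
  · rintro ⟨s, hs⟩
    let pt : Spec (CommRingCat.of k) := default
    have hP := PtDeg.isClosed_of_section k s hs pt
    haveI : IsLocallyNoetherian X := inferInstance
    have hI := isInvertible_ptIdeal_of_smooth k X hdim (s pt) hP
    have hdegI : Curv2.deg k X (ClSub.idealMod (ptIdeal (s pt) hP)) 1 = -1 := by
      rw [PtDeg.deg_ptIdeal' k X (s pt) hP, PtDeg.finrank_residueField_of_section k s hs pt]
      norm_num
    have hmem : (-1 : ℤ) ∈ PtDeg.degGroup k X hdim.le := ⟨_, hI, hdegI⟩
    have h1' := (PtDeg.degGroup k X hdim.le).neg_mem hmem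
    rw [neg_neg] at h1'
    obtain ⟨L, hL, hdeg⟩ := h1'
    exact P1Iso.iso_P1_of_deg_one k X hdim h1 L hL hdeg

end Main

end Groth.Agent.Helper1.GenusZero
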