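import Mathlib
import Groth.Agent.Lib.Helper1.GenusZero2
import Groth.Agent.Lib.Helper7.SepPt.Dense

/-!
# Geometrically integral curves of genus zero over a separably closed field (helper1)
-/

set_option autoImplicit false
universe u
open CategoryTheory CategoryTheory.Limits AlgebraicGeometry TopologicalSpace Opposite

namespace Groth.Agent.Helper1.GenusZero

open Groth.Agent.Helper1.CurveDual Groth.Agent.Helper1.CurvePt Groth.Agent.Helper1.CurveLin
open Groth.Agent.Helper1.PtInv Groth.Agent.Helper1 Groth.Agent.Helper1.Euler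
open Groth.Agent.Helper1.Curve

attribute [local instance] Curv2.resAlgebra

section SepClosed

variable (k : Type u) [Field k] [IsSepClosed k] (X : Scheme.{u})
  [X.Over (Spec (CommRingCat.of k))] [IsProper (X ↘ (Spec (CommRingCat.of k)))]
  [GeometricallyIntegral (X ↘ (Spec (CommRingCat.of k)))]

/-- S7834 -/
theorem iso_P1_of_isSepClosed (hdim : topologicalKrullDim X = 1) (hg : Curv2.genus k X = 0) :
    ∃ e : X ≅ CohB1.ProjSpace 1 k,
      e.hom ≫ CohB1.ProjSpace.toSpec 1 k = X ↘ (Spec (CommRingCat.of k)) := by
  haveI : Subsingleton ↥(Spec (CommRingCat.of k)) :=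
    inferInstanceAs (Subsingleton (PrimeSpectrum k))
  haveI : IsIntegral X :=
    GeometricallyIntegral.isIntegral_of_subsingleton (X ↘ (Spec (CommRingCat.of k)))
  haveI := Euler.isNoetherian_of_proper k X
  have hOc : Coh.IsCoh (Coh.structureModule X) :=
    InvQc.isCoh_of_isInvertible _ GenLoc.isInvertible_O
  haveI : Module.Finite k (Coh.HH X (Coh.structureModule X) 1) :=
    Groth.Agent.Lib.Helper4.T2Main1.t2 k X _ hOc 1
  have h1 : Subsingleton (Coh.HH X (Coh.structureModule X) 1) := by
    unfold Curv2.genus at hg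
    exact (Module.finrank_zero_iff (R := k)).1 hg
  haveI hsm := smooth_of_geometricallyIntegral k X hdim h1
  haveI : Nonempty X := inferInstance
  obtain ⟨P, hP, hfd, hsep⟩ := (Groth.Agent.Helper7.SepPt.dense_closedPoints_separable k X).nonempty
  have hfr : Module.finrank k (X.residueField P) = 1 := by
    have hsurj := IsSepClosed.algebraMap_surjective k (X.residueField P)
    have hb : Function.Bijective (algebraMap k (X.residueField P)) :=
      ⟨(algebraMap k (X.residueField P)).injective, hsurj⟩
    let e : k ≃ₗ[k] X.residueField P :=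
      LinearEquiv.ofBijective (Algebra.linearMap k (X.residueField P)) hb
    rw [← e.finrank_eq, Module.finrank_self]
  haveI : IsLocallyNoetherian X := inferInstance
  have hI := isInvertible_ptIdeal_of_smooth k X hdim P hP
  have hdegI : Curv2.deg k X (ClSub.idealMod (ptIdeal P hP)) 1 = -1 := by
    rw [PtDeg.deg_ptIdeal' k X P hP, hfr]
    norm_num
  have hmem : (-1 : ℤ) ∈ PtDeg.degGroup k X hdim.le := ⟨_, hI, hdegI⟩
  have h1' := (PtDeg.degGroup k X hdim.le).neg_mem hmem
  rw [neg_neg] at h1'
  obtain ⟨L, hL, hdeg⟩ := h1'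
  exact P1Iso.iso_P1_of_deg_one k X hdim h1 L hL hdeg

end SepClosed

end Groth.Agent.Helper1.GenusZero
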