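import Mathlib
import Groth.Agent.Lib.Helper1.CompL2

/-!
# Multiplicities of the components of the closed fibre as lengths of local rings of the
scheme-theoretic closed fibre (helper1)
-/

set_option autoImplicit false
universe u
open CategoryTheory CategoryTheory.Limits AlgebraicGeometry TopologicalSpace Opposite IsLocalRing

namespace Groth.Agent.Helper1.GeoM

open Groth.Agent.Helper1

section Alg

theorem isArtinianRing_of_not_dvd {B : Type u} [CommRing B] {ℓ : ℕ}
    (h : ¬ ℓ ∣ (Module.length B B).toNat) : IsArtinianRing B := by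
  have hne : Module.length B B ≠ ⊤ := by
    intro htop
    rw [htop] at h
    exact h (by simp)
  exact (isFiniteLength_iff_isNoetherian_isArtinian.1 (Module.length_ne_top_iff.1 hne)).2

theorem length_quot_ker {A B : Type u} [CommRing A] [CommRing B] (φ : A →+* B)
    (hφ : Function.Surjective φ) :
    Module.length A (A ⧸ RingHom.ker φ) = Module.length B B := by
  letI := φ.toAlgebra
  have h1 : Module.length A B = Module.length B B :=
    Module.length_eq_of_surjective (S := A) (R := B) (M := B) hφ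
  rw [← h1]
  exact LinearEquiv.length_eq
    ((Ideal.quotientKerAlgEquivOfSurjective (f := Algebra.ofId A B) hφ).toLinearEquiv)

end Alg

section Sch

theorem isMax_of_flat {Z W : Scheme.{u}} (g : Z ⟶ W) [Flat g] (z : Z)
    (hz : ∀ y : Z, y ⤳ z → y = z) : ∀ w : W, w ⤳ g.base z → w = g.base z := by
  intro w hw
  obtain ⟨y, hy, rfl⟩ := (Flat.generalizingMap (f := g)) hw
  rw [hz y hy]

variable (R : Type u) [CommRing R] [IsDomain R] [IsDiscreteValuationRing R]
  (X : Over (Spec (CommRingCat.of R))) {Y : Scheme.{u}} (ι : Y ⟶ X.left) [IsClosedImmersion ι]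
  (hker : ι.ker = Models.specialFibreIdeal R X)

include hker in
set_option maxHeartbeats 800000 in
theorem ker_stalkMap_eq (y : Y) :
    RingHom.ker (ι.stalkMap y).hom =
      Ideal.map (Models.stalkHom R X (ι.base y)) (maximalIdeal R) := by
  obtain ⟨ϖ, hϖ⟩ := IsDiscreteValuationRing.exists_irreducible R
  have hU : ∀ U : X.left.affineOpens,
      RingHom.ker (ι.app U.1).hom = Ideal.span {SpFib.sec R X ϖ U.1} := by
    intro U
    rw [← Scheme.Hom.ker_apply, hker, SpFib.specialFibreIdeal_ideal R X ϖ hϖ U]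
  have hgerm : ∀ (U : X.left.Opens) (hx : ι.base y ∈ U),
      X.left.presheaf.germ U (ι.base y) hx (SpFib.sec R X ϖ U) =
        Models.stalkHom R X (ι.base y) ϖ := by
    intro U hx
    exact X.left.presheaf.germ_res_apply (homOfLE (le_top : U ≤ ⊤)) (ι.base y) hx _
  rw [hϖ.maximalIdeal_eq, Ideal.map_span, Set.image_singleton]
  apply le_antisymm
  · intro a ha
    rw [RingHom.mem_ker] at ha
    obtain ⟨V, hxV, s, rfl⟩ := TopCat.Presheaf.exists_germ_eq X.left.presheaf (x := ι.base y) a
    have ha' : Y.presheaf.germ (ι ⁻¹ᵁ V) y hxV ((ι.app V).hom s) = 0 := by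
      rw [← ha]
      exact (Scheme.Hom.germ_stalkMap_apply ι V y hxV s).symm
    have h0 : Y.presheaf.germ (ι ⁻¹ᵁ V) y hxV ((ι.app V).hom s) =
        Y.presheaf.germ (ι ⁻¹ᵁ V) y hxV 0 := by
      rw [ha', map_zero]
    obtain ⟨W, hyW, iU, iV, hres⟩ := TopCat.Presheaf.germ_eq Y.presheaf y hxV hxV _ _ h0
    rw [map_zero] at hres
    obtain ⟨t, ht, htW⟩ := ι.isClosedEmbedding.isEmbedding.isInducing.isOpen_iff.1 W.2
    let V'' : X.left.Opens := ⟨t, ht⟩
    have hxV'' : ι.base y ∈ V'' := by
      have : y ∈ ι.base ⁻¹' t := by rw [htW]; exact hyW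
      exact this
    obtain ⟨_, ⟨V₁, hV₁, rfl⟩, hxV₁, hV₁le⟩ :=
      X.left.isBasis_affineOpens.exists_subset_of_mem_open
        (show ι.base y ∈ ((V ⊓ V'' : X.left.Opens) : Set X.left) from ⟨hxV, hxV''⟩) (V ⊓ V'').2
    have hV₁V : V₁ ≤ V := fun z hz => (hV₁le hz).1
    have e1 : ι ⁻¹ᵁ V₁ ≤ W := by
      intro z hz
      have hz2 : ι.base z ∈ t := (hV₁le hz).2
      have : z ∈ ι.base ⁻¹' t := hz2
      rw [htW] at this
      exact this
    have hnat := ι.naturality (homOfLE hV₁V).op
    have e2 : ((Opens.map ι.base).map (homOfLE hV₁V)).op = iU.op ≫ (homOfLE e1).op :=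
      Subsingleton.elim _ _
    have h1 : (ι.app V₁).hom ((X.left.presheaf.map (homOfLE hV₁V).op).hom s) = 0 := by
      have h2 := congrArg (fun φ => φ.hom s) hnat
      simp only [CommRingCat.hom_comp, RingHom.comp_apply] at h2
      rw [h2]
      show (Y.presheaf.map ((Opens.map ι.base).map (homOfLE hV₁V)).op).hom ((ι.app V).hom s) = 0
      rw [e2, Functor.map_comp, CommRingCat.hom_comp, RingHom.comp_apply, hres, map_zero]
    have h3 : (X.left.presheaf.map (homOfLE hV₁V).op).hom s ∈
        RingHom.ker (ι.app V₁).hom := h1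
    rw [hU ⟨V₁, hV₁⟩, Ideal.mem_span_singleton'] at h3
    obtain ⟨c, hc⟩ := h3
    have h4 : X.left.presheaf.germ V (ι.base y) hxV s =
        X.left.presheaf.germ V₁ (ι.base y) hxV₁
          ((X.left.presheaf.map (homOfLE hV₁V).op).hom s) :=
      (X.left.presheaf.germ_res_apply (homOfLE hV₁V) (ι.base y) hxV₁ s).symm
    rw [h4, ← hc, map_mul, hgerm V₁ hxV₁]
    exact Ideal.mem_span_singleton'.2 ⟨_, rfl⟩
  · rw [Ideal.span_le, Set.singleton_subset_iff]
    show Models.stalkHom R X (ι.base y) ϖ ∈ RingHom.ker (ι.stalkMap y).hom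
    rw [RingHom.mem_ker]
    obtain ⟨_, ⟨U, hUa, rfl⟩, hxU, -⟩ :=
      X.left.isBasis_affineOpens.exists_subset_of_mem_open (Set.mem_univ (ι.base y))
        isOpen_univ
    rw [← hgerm U hxU]
    have h5 : (ι.app U).hom (SpFib.sec R X ϖ U) = 0 := by
      have : SpFib.sec R X ϖ U ∈ RingHom.ker (ι.app U).hom := by
        rw [hU ⟨U, hUa⟩]
        exact Ideal.mem_span_singleton_self _
      exact this
    have h6 := Scheme.Hom.germ_stalkMap_apply ι U y hxU (SpFib.sec R X ϖ U)
    rw [h5, map_zero] at h6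
    exact h6

include hker in
theorem length_stalk_eq (y : Y) :
    Module.length (X.left.presheaf.stalk (ι.base y))
      (X.left.presheaf.stalk (ι.base y) ⧸
        Ideal.map (Models.stalkHom R X (ι.base y)) (maximalIdeal R)) =
      Module.length (Y.presheaf.stalk y) (Y.presheaf.stalk y) := by
  rw [← ker_stalkMap_eq R X ι hker y]
  exact length_quot_ker (ι.stalkMap y).hom (ι.stalkMap_surjective y)

include hker in
theorem mult_eq_of_genPt (Γ : ArSurf.VertComp R X) (y : Y)
    (hy : ι.base y = Models.genPtOf R X Γ) :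
    Models.mult R X Γ = (Module.length (Y.presheaf.stalk y) (Y.presheaf.stalk y)).toNat := by
  rw [← length_stalk_eq R X ι hker y]
  unfold Models.mult
  rw [hy]

end Sch

end Groth.Agent.Helper1.GeoM
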