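import Mathlib
import Groth.Agent.Lib.Helper1.GeoM1
import Groth.Agent.Lib.Helper1.FlatLen1
import Groth.Agent.Lib.Helper1.ZarF2
import Groth.Agent.Lib.Helper1.ExcC1

/-!
# Cohomological flatness in degree zero from the geometric multiplicities of the closed fibre
(helper1)
-/

set_option autoImplicit false
universe u
open CategoryTheory CategoryTheory.Limits AlgebraicGeometry TopologicalSpace Opposite IsLocalRing
open TensorProduct

namespace Groth.Agent.Helper1.GeoM

open Groth.Agent.Helper1

section Gcd

theorem length_stalk_dvd {Z W : Scheme.{u}} (g : Z ⟶ W) [Flat g] (z : Z) :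
    (Module.length (W.presheaf.stalk (g.base z)) (W.presheaf.stalk (g.base z))).toNat ∣
      (Module.length (Z.presheaf.stalk z) (Z.presheaf.stalk z)).toNat :=
  FlatLen.length_dvd_of_flat (g.stalkMap z).hom (Flat.stalkMap g z)

variable (R : Type u) [CommRing R] [IsDomain R] [IsDiscreteValuationRing R]
  (X : Over (Spec (CommRingCat.of R))) {Y Yb : Scheme.{u}} (ι : Y ⟶ X.left) [IsClosedImmersion ι]
  (hker : ι.ker = Models.specialFibreIdeal R X)

include hker in
theorem range_eq_specialFibreSet : Set.range ι.base = Models.specialFibreSet R X := by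
  rw [← CompL.support_specialFibreIdeal R X, ← hker, Scheme.Hom.support_ker]
  exact ι.isClosedEmbedding.isClosed_range.closure_eq.symm

include hker in
set_option maxHeartbeats 800000 in
theorem multGcd_eq_one (g : Yb ⟶ Y) [Flat g]
    (hd : ∀ ℓ : ℕ, ℓ.Prime → ∃ x : Yb, (∀ y : Yb, y ⤳ x → y = x) ∧
      ¬ (ℓ ∣ (Module.length (Yb.presheaf.stalk x) (Yb.presheaf.stalk x)).toNat))
    {n : ℕ} (Γ : Fin n → ArSurf.VertComp R X)
    (hcov : ∀ x : X.left, X.hom.base x = closedPoint R → ∃ i, x ∈ Set.range (Γ i).ι.base) :
    Models.multGcd R X Γ = 1 := by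
  have hrange := range_eq_specialFibreSet R X ι hker
  by_contra hne
  obtain ⟨ℓ, hℓ, hdvd⟩ := Nat.exists_prime_and_dvd hne
  obtain ⟨x, hmax, hnd⟩ := hd ℓ hℓ
  have h1 := length_stalk_dvd g x
  have hmax' := isMax_of_flat g x hmax
  have hyF : X.hom.base (ι.base (g.base x)) = closedPoint R := by
    have : ι.base (g.base x) ∈ Models.specialFibreSet R X := by
      rw [← hrange]
      exact Set.mem_range_self _
    exact this
  obtain ⟨i, c, hc⟩ := hcov _ hyF
  have hsp : Models.genPtOf R X (Γ i) ⤳ ι.base (g.base x) := by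
    rw [← hc]
    exact ((genericPoint_spec (Γ i).curve.left).specializes (Set.mem_univ c)).map
      (Γ i).ι.continuous
  have hgF : Models.genPtOf R X (Γ i) ∈ Set.range ι.base := by
    rw [hrange]
    exact SpFib.range_subset_fibre R X (Γ i) _
  obtain ⟨y', hy'⟩ := hgF
  have hsp' : y' ⤳ g.base x := by
    rw [← ι.isClosedEmbedding.isEmbedding.isInducing.specializes_iff, hy']
    exact hsp
  have hyy : y' = g.base x := hmax' y' hsp'
  have hgen : ι.base (g.base x) = Models.genPtOf R X (Γ i) := by rw [← hyy, hy']
  have hm := mult_eq_of_genPt R X ι hker (Γ i) (g.base x) hgen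
  have h2 : ℓ ∣ Models.mult R X (Γ i) :=
    hdvd.trans (Finset.gcd_dvd (Finset.mem_univ i))
  rw [hm] at h2
  exact hnd (h2.trans h1)

end Gcd

section Main

variable (R : Type u) [CommRing R] [IsDomain R] [IsDiscreteValuationRing R]

theorem subsingleton_spec_of_isField {T : Type u} [CommRing T] (hT : IsField T) :
    Subsingleton ↥(Spec (CommRingCat.of T)) := by
  have hbot : ∀ p : PrimeSpectrum T, p.asIdeal = ⊥ := by
    intro p
    by_contra hne
    obtain ⟨x, hx, hx0⟩ := Submodule.exists_mem_ne_zero_of_ne_bot hne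
    obtain ⟨y, hy⟩ := hT.mul_inv_cancel hx0
    exact p.isPrime.ne_top (Ideal.eq_top_of_isUnit_mem _ hx (isUnit_iff_exists_inv.2 ⟨y, hy⟩))
  constructor
  intro a c
  exact PrimeSpectrum.ext ((hbot a).trans (hbot c).symm)

set_option maxHeartbeats 3200000 in
/-- **cohomological flatness in degree zero**: `k = H^0(X_s, O)` when the closed fibre is
geometrically connected and the geometric multiplicities have no common prime factor -/
theorem bijective_appTop {X : Scheme.{u}} (f : X ⟶ Spec (CommRingCat.of R)) [IsProper f] [Flat f]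
    [IsIntegral X] (hreg : ∀ x : X, IsRegularLocalRing (X.presheaf.stalk x))
    (hdim : topologicalKrullDim X = 2)
    (kb : Type u) [Field kb] [IsAlgClosed kb] [Algebra (ResidueField R) kb]
    (hconn1 : ConnectedSpace ↥(pullback f (Spec.map (CommRingCat.ofHom (residue R)))))
    (hconn2 : ConnectedSpace ↥(pullback f
      (Spec.map (CommRingCat.ofHom (algebraMap (ResidueField R) kb)) ≫
        Spec.map (CommRingCat.ofHom (residue R)))))
    (hd : ∀ ℓ : ℕ, ℓ.Prime → ∃ x : ↥(pullback f
        (Spec.map (CommRingCat.ofHom (algebraMap (ResidueField R) kb)) ≫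
          Spec.map (CommRingCat.ofHom (residue R)))),
      (∀ y, y ⤳ x → y = x) ∧
        ¬ (ℓ ∣ (Module.length ((pullback f
          (Spec.map (CommRingCat.ofHom (algebraMap (ResidueField R) kb)) ≫
            Spec.map (CommRingCat.ofHom (residue R)))).presheaf.stalk x)
          ((pullback f
          (Spec.map (CommRingCat.ofHom (algebraMap (ResidueField R) kb)) ≫
            Spec.map (CommRingCat.ofHom (residue R)))).presheaf.stalk x)).toNat)) :
    Function.Bijective
      (pullback.snd f (Spec.map (CommRingCat.ofHom (residue R)))).appTop.hom := by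
  classical
  let k := ResidueField R
  let res : Spec (CommRingCat.of k) ⟶ Spec (CommRingCat.of R) :=
    Spec.map (CommRingCat.ofHom (residue R))
  let b : Spec (CommRingCat.of kb) ⟶ Spec (CommRingCat.of k) :=
    Spec.map (CommRingCat.ofHom (algebraMap k kb))
  let Xo : Over (Spec (CommRingCat.of R)) := Over.mk f
  haveI : IsIntegral Xo.left := ‹IsIntegral X›
  haveI : Flat Xo.hom := ‹Flat f›
  haveI hprop : IsProper Xo.hom := ‹IsProper f›
  haveI : IsLocallyNoetherian Xo.left :=
    LocallyOfFiniteType.isLocallyNoetherian (Y := Spec (CommRingCat.of R)) f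
  obtain ⟨n, Γ, hΓ⟩ := CompL.exists_componentList R Xo hdim
  have hcov := SpFib.cover_of_isComponentList R Xo Γ hΓ
  haveI : IsClosedImmersion res :=
    IsClosedImmersion.spec_of_surjective _ IsLocalRing.residue_surjective
  let ιs : pullback f res ⟶ X := pullback.fst f res
  let p2 : pullback f res ⟶ Spec (CommRingCat.of k) := pullback.snd f res
  have hker : ιs.ker = Models.specialFibreIdeal R Xo := by
    rw [Scheme.IdealSheafData.ker_fst_of_isClosedImmersion res f, SemiF.ker_Spec_residue R]
    rfl
  let sq := IsPullback.of_hasPullback f res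
  let sqb := IsPullback.of_hasPullback f (b ≫ res)
  let g1 : pullback f (b ≫ res) ⟶ pullback f res :=
    sq.lift (pullback.fst f (b ≫ res)) (pullback.snd f (b ≫ res) ≫ b)
      (by rw [sqb.w, Category.assoc])
  have hleft : IsPullback g1 (pullback.snd f (b ≫ res)) p2 b := IsPullback.of_right' sqb sq
  haveI : Flat b := by
    apply Flat.SpecMap_iff.2
    exact RingHom.flat_algebraMap_iff.2 inferInstance
  haveI : Flat g1 := MorphismProperty.of_isPullback (P := @Flat) hleft.flip ‹Flat b›
  have hgcd : Models.multGcd R Xo Γ = 1 := multGcd_eq_one R Xo ιs hker g1 hd Γ hcov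
  have hrange := range_eq_specialFibreSet R Xo ιs hker
  have hconnF : _root_.IsConnected (Models.specialFibreSet R Xo) := by
    rw [← hrange]
    exact isConnected_range ιs.continuous
  have hF0 := ZarF.isField_specialFibre R Xo hprop hreg Γ hΓ hconnF hgcd
  have hF : IsField ↑Γ(pullback f res, ⊤) := by
    have h1 : IsField ↑Γ(ιs.ker.subscheme, ⊤) := by
      rw [hker]
      exact hF0
    haveI : IsClosedImmersion ιs := inferInstanceAs (IsClosedImmersion (pullback.fst f res))
    haveI : IsIso ιs.toImage := inferInstance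
    haveI : IsIso ιs.toImage.appTop := by
      show IsIso (ιs.toImage.app ⊤)
      infer_instance
    exact MulEquiv.isField h1
      (asIso ιs.toImage.appTop).commRingCatIsoToRingEquiv.symm.toMulEquiv
  -- the field of constants
  let T : Type u := ↑Γ(pullback f res, ⊤)
  let φ : k →+* T := p2.appTop.hom.comp (Scheme.ΓSpecIso (CommRingCat.of k)).inv.hom
  have hφfin : φ.Finite := ZarF.finite_toGlobal k p2
  letI : Algebra k T := φ.toAlgebra
  haveI : Module.Finite k T := hφfin
  have hFT : IsField T := hF
  haveI : IsDomain T := hFT.isDomain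
  haveI : Nontrivial T := hFT.nontrivial
  suffices hd1 : Module.finrank k T = 1 by
    have hsurj : Function.Surjective (algebraMap k T) := by
      rw [Algebra.surjective_algebraMap_iff]
      exact (Subalgebra.bot_eq_top_of_finrank_eq_one hd1).symm
    have hinj : Function.Injective (algebraMap k T) := (algebraMap k T).injective
    have hbij : Function.Bijective
        (p2.appTop.hom ∘ (Scheme.ΓSpecIso (CommRingCat.of k)).inv.hom) := ⟨hinj, hsurj⟩
    exact (Function.Bijective.of_comp_iff _
      (ConcreteCategory.bijective_of_isIso (Scheme.ΓSpecIso (CommRingCat.of k)).inv)).1 hbij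
  by_contra hd1
  have hdpos : 0 < Module.finrank k T := Module.finrank_pos
  obtain ⟨ℓ, hℓ, hℓd⟩ := Nat.exists_prime_and_dvd hd1
  obtain ⟨x, -, hx⟩ := hd ℓ hℓ
  -- the morphism to Spec of the tensor product
  let u : Spec (CommRingCat.of T) ⟶ Spec (CommRingCat.of k) :=
    Spec.map (CommRingCat.ofHom (algebraMap k T))
  let q : pullback f res ⟶ Spec (CommRingCat.of T) := (pullback f res).toSpecΓ
  have hqu : q ≫ u = p2 := (ExcC.eq_toSpecΓ_comp (pullback f res) p2).symm
  let sqP := IsPullback.of_hasPullback b u
  let g2 : pullback f (b ≫ res) ⟶ pullback b u :=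
    sqP.lift (pullback.snd f (b ≫ res)) (g1 ≫ q)
      (by rw [Category.assoc, hqu]; exact hleft.w.symm)
  have hsq2 : IsPullback g2 g1 (pullback.snd b u) q := by
    refine IsPullback.of_right ?_ (sqP.lift_snd _ _ _) sqP
    rw [sqP.lift_fst, hqu]
    exact hleft.flip
  haveI := subsingleton_spec_of_isField hFT
  haveI : IsIntegral (Spec (CommRingCat.of T)) := inferInstance
  haveI : Flat q := inferInstance
  haveI : Surjective q := ⟨fun y => ⟨g1.base x, Subsingleton.elim _ _⟩⟩
  haveI : Flat g2 := MorphismProperty.of_isPullback (P := @Flat) hsq2.flip ‹Flat q›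
  haveI : Surjective g2 := MorphismProperty.of_isPullback (P := @Surjective) hsq2.flip ‹Surjective q›
  let B : Type u := kb ⊗[k] T
  let e : pullback b u ≅ Spec (CommRingCat.of B) := pullbackSpecIso k kb T
  let g2' : pullback f (b ≫ res) ⟶ Spec (CommRingCat.of B) := g2 ≫ e.hom
  haveI : Flat g2' := inferInstance
  haveI : Surjective g2' := inferInstance
  haveI : Module.Finite kb B := inferInstance
  haveI : IsArtinianRing B := IsArtinianRing.of_finite kb B
  have hrank : Module.finrank kb B = Module.finrank k T := Module.finrank_baseChange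
  haveI : Nontrivial B := Module.nontrivial_of_finrank_pos (R := kb) (by rw [hrank]; exact hdpos)
  haveI : ConnectedSpace (PrimeSpectrum B) :=
    (Function.Surjective.connectedSpace (f := g2'.base) g2'.surjective g2'.continuous :
      ConnectedSpace ↥(Spec (CommRingCat.of B)))
  haveI : IsLocalRing B := FlatLen.isLocalRing_of_connectedSpace
  have hlenB : Module.length B B = (Module.finrank kb B : ℕ∞) :=
    FlatLen.length_eq_finrank (F := kb)
  let S : Scheme.{u} := Spec (CommRingCat.of B)
  let y : S := g2'.base x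
  let ψ₀ : B →+* ↑((pullback f (b ≫ res)).presheaf.stalk x) :=
    (g2'.stalkMap x).hom.comp
      ((S.presheaf.germ ⊤ y trivial).hom.comp (Scheme.ΓSpecIso (CommRingCat.of B)).inv.hom)
  have hflat : ψ₀.Flat := by
    have ha : ((Scheme.ΓSpecIso (CommRingCat.of B)).inv.hom).Flat :=
      RingHom.Flat.of_bijective (ConcreteCategory.bijective_of_isIso _)
    have hb : ((S.presheaf.germ ⊤ y trivial).hom).Flat := by
      letI := S.presheaf.algebra_section_stalk (U := ⊤) ⟨y, trivial⟩
      haveI := (isAffineOpen_top S).isLocalization_stalk ⟨y, trivial⟩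
      have hfl : Module.Flat ↑Γ(S, ⊤) ↑(S.presheaf.stalk y) :=
        IsLocalization.flat _ ((isAffineOpen_top S).primeIdealOf ⟨y, trivial⟩).asIdeal.primeCompl
      exact RingHom.flat_algebraMap_iff.2 hfl
    have hc : ((g2'.stalkMap x).hom).Flat := Flat.stalkMap g2' x
    exact (ha.comp hb).comp hc
  have hdvd := FlatLen.length_dvd_of_flat_artinian ψ₀ hflat
  rw [hlenB, hrank, ENat.toNat_natCast] at hdvd
  exact hx (hℓd.trans hdvd)

end Main

end Groth.Agent.Helper1.GeoM
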