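import Mathlib
import Groth.Agent.Lib.Helper1.CompL2
import Groth.Agent.Lib.Helper4.ProperPush1
import Groth.Agent.Lib.Helper4.ZMTBirational

/-!
# Going down for finite morphisms onto normal schemes; components of closed fibres (helper1)
-/

set_option autoImplicit false
universe u
open CategoryTheory CategoryTheory.Limits AlgebraicGeometry TopologicalSpace Opposite IsLocalRing

namespace Groth.Agent.Helper1.GoDown

open Groth.Agent.Helper1

set_option maxHeartbeats 800000 in
/-- a finite dominant morphism of integral schemes with normal target is generalizing -/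
theorem generalizingMap_of_finite {X Y : Scheme.{u}} [IsIntegral X] [IsIntegral Y]
    (hN : ∀ y : Y, IsIntegrallyClosed (Y.presheaf.stalk y)) (f : X ⟶ Y) [IsFinite f]
    (hdom : f.base (genericPoint X) ⤳ genericPoint Y) : GeneralizingMap f.base := by
  have := HasRingHomProperty.of_isZariskiLocalAtSource_of_isZariskiLocalAtTarget.{u}
    (topologically GeneralizingMap)
  change topologically GeneralizingMap f
  rw [HasRingHomProperty.iff_appLE (P := topologically GeneralizingMap)]
  intro U V e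
  refine (?_ : GeneralizingMap (PrimeSpectrum.comap (f.appLE U.1 V.1 e).hom))
  by_cases hV : Nonempty ↥V.1
  swap
  · intro p
    exfalso
    apply hV
    have h1 : V.2.fromSpec p ∈ Set.range V.2.fromSpec := ⟨p, rfl⟩
    rw [V.2.range_fromSpec] at h1
    exact ⟨⟨_, h1⟩⟩
  obtain ⟨⟨v, hv⟩⟩ := hV
  haveI hU'ne : Nonempty ↥(f ⁻¹ᵁ U.1) := ⟨⟨v, e hv⟩⟩
  haveI hUne : Nonempty ↥U.1 := ⟨⟨f v, e hv⟩⟩
  have hηU : genericPoint Y ∈ U.1 :=
    ((genericPoint_spec Y).mem_open_set_iff U.1.isOpen).mpr ⟨f v, trivial, e hv⟩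
  have hU' : IsAffineOpen (f ⁻¹ᵁ U.1) := U.2.preimage f
  have hflat : (X.presheaf.map (homOfLE e).op).hom.Flat := by
    have h := HasRingHomProperty.appLE @Flat (𝟙 X) inferInstance ⟨f ⁻¹ᵁ U.1, hU'⟩ V e
    have e2 : Scheme.Hom.appLE (𝟙 X) (f ⁻¹ᵁ U.1) V.1 e = X.presheaf.map (homOfLE e).op := by
      simp only [Scheme.Hom.appLE, Scheme.Hom.id_app]
      exact Category.id_comp _
    rw [e2] at h
    exact h
  have h1 : GeneralizingMap (PrimeSpectrum.comap (f.app U.1).hom) := by
    letI := (f.app U.1).hom.toAlgebra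
    haveI : IsIntegrallyClosed Γ(Y, U.1) :=
      @Groth.Agent.Lib.Helper4.ZMTBirational.isIntegrallyClosed_sections Y _ hN U.1 U.2
        ⟨⟨f v, e hv⟩⟩
    haveI : IsDomain Γ(X, f ⁻¹ᵁ U.1) :=
      @IsIntegral.component_integral X _ (f ⁻¹ᵁ U.1) ⟨⟨v, e hv⟩⟩
    haveI : Module.Finite Γ(Y, U.1) Γ(X, f ⁻¹ᵁ U.1) := IsFinite.finite_app f U.1 U.2
    haveI : FaithfulSMul Γ(Y, U.1) Γ(X, f ⁻¹ᵁ U.1) :=
      (faithfulSMul_iff_algebraMap_injective _ _).2
        (Groth.Agent.Lib.Helper4.ProperPush1.app_injective_of_dominant f hdom U.1 hηU)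
    haveI : Algebra.IsIntegral Γ(Y, U.1) Γ(X, f ⁻¹ᵁ U.1) := inferInstance
    exact Algebra.HasGoingDown.iff_generalizingMap_primeSpectrumComap.mp inferInstance
  exact GeneralizingMap.comp (RingHom.Flat.generalizingMap_comap hflat) h1

variable (R : Type u) [CommRing R] [IsDomain R] [IsDiscreteValuationRing R]

/-- for a finite surjective morphism onto a normal scheme, every component of the closed fibre of
the target through `ψ w` is the image of a component of the closed fibre of the source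
through `w` -/
theorem exists_component_over (W Z : Over (Spec (CommRingCat.of R))) [IsIntegral W.left]
    [IsIntegral Z.left]
    (hZn : ∀ q : Z.left, IsIntegrallyClosed (Z.left.presheaf.stalk q))
    (ψ : W ⟶ Z) [IsFinite ψ.left] [Surjective ψ.left]
    (w : W.left) (Δ : Set Z.left) (hΔ : Δ ∈ Models.fibreComponents R Z)
    (hzΔ : ψ.left.base w ∈ Δ) :
    ∃ Γ ∈ Models.fibreComponents R W, w ∈ Γ ∧ ψ.left.base '' Γ = Δ := by
  have hWZ : ∀ x : W.left, Z.hom.base (ψ.left.base x) = W.hom.base x := by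
    intro x
    have h1 : Z.hom.base (ψ.left.base x) = (ψ.left ≫ Z.hom).base x := rfl
    rw [h1, Over.w ψ]
  have hdom : ψ.left.base (genericPoint W.left) ⤳ genericPoint Z.left := by
    obtain ⟨x, hx⟩ := ψ.left.surjective (genericPoint Z.left)
    have h1 : genericPoint W.left ⤳ x := (genericPoint_spec W.left).specializes trivial
    have h2 := h1.map ψ.left.continuous
    rwa [hx] at h2
  have hgen := generalizingMap_of_finite hZn ψ.left hdom
  have hΔcl : IsClosed Δ := CompL.isClosed_of_mem R Z hΔ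
  obtain ⟨δ, hδ⟩ := QuasiSober.sober hΔ.1.1 hΔcl
  have hδz : δ ⤳ ψ.left.base w := by
    rw [specializes_iff_mem_closure, hδ.def]
    exact hzΔ
  obtain ⟨γ, hγw, hγδ⟩ := hgen hδz
  have hγs : γ ∈ Models.specialFibreSet R W := by
    show W.hom.base γ = closedPoint R
    rw [← hWZ, hγδ]
    exact hΔ.1.2 hδ.mem
  obtain ⟨Γ, hΓ, hγΓ⟩ := SpFib.exists_fibreComponent R W γ hγs
  have hΓcl : IsClosed Γ := CompL.isClosed_of_mem R W hΓ
  have hwΓ : w ∈ Γ := hγw.mem_closed hΓcl hγΓ
  refine ⟨Γ, hΓ, hwΓ, ?_⟩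
  have himg_cl : IsClosed (ψ.left.base '' Γ) := ψ.left.isClosedMap _ hΓcl
  have himg_irr : IsIrreducible (ψ.left.base '' Γ) :=
    hΓ.1.1.image _ ψ.left.continuous.continuousOn
  have himg_s : ψ.left.base '' Γ ⊆ Models.specialFibreSet R Z := by
    rintro _ ⟨x, hx, rfl⟩
    show Z.hom.base (ψ.left.base x) = closedPoint R
    rw [hWZ]
    exact hΓ.1.2 hx
  have hsub : Δ ⊆ ψ.left.base '' Γ := by
    rw [← hδ.def]
    exact closure_minimal (Set.singleton_subset_iff.2 ⟨γ, hγΓ, hγδ⟩) himg_cl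
  exact Set.Subset.antisymm (hΔ.2 ⟨himg_irr, himg_s⟩ hsub) hsub

end Groth.Agent.Helper1.GoDown
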