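import Mathlib

/-!
# Nakayama-type generation statements after localization

Helper library of helper1.
-/

set_option autoImplicit false

namespace Groth.Agent.Helper1.NakLoc

open Polynomial

universe u

/-- If `s • M ≤ N ⊔ I • ⊤` with `M` finite, then some `f = s ^ n + i`, `i ∈ I`, maps `M` into `N`. -/
theorem exists_pow_add_smul_mem {R : Type*} [CommRing R] (I : Ideal R) (M : Type*) [AddCommGroup M]
    [Module R M] [Module.Finite R M] (N : Submodule R M) (s : R)
    (hs : ∀ m : M, s • m ∈ N ⊔ I • (⊤ : Submodule R M)) :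
    ∃ (n : ℕ) (i : R), i ∈ I ∧ ∀ m : M, (s ^ n + i) • m ∈ N := by
  have hrange : LinearMap.range (algebraMap R (Module.End R (M ⧸ N)) s) ≤
      I • (⊤ : Submodule R (M ⧸ N)) := by
    rintro _ ⟨q, rfl⟩
    obtain ⟨m, rfl⟩ := N.mkQ_surjective q
    rw [Module.algebraMap_end_apply, ← map_smul]
    obtain ⟨y, hy, z, hz, hyz⟩ := Submodule.mem_sup.1 (hs m)
    have hy0 : N.mkQ y = 0 := (Submodule.Quotient.mk_eq_zero N).2 hy
    rw [← hyz, map_add, hy0, zero_add]
    have h1 : N.mkQ z ∈ (I • (⊤ : Submodule R M)).map N.mkQ := Submodule.mem_map_of_mem hz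
    rw [Submodule.map_smul''] at h1
    exact Submodule.smul_mono le_rfl le_top h1
  obtain ⟨p, hpm, -, hpc, hp0⟩ :=
    LinearMap.exists_monic_and_natDegree_eq_and_coeff_mem_pow_and_aeval_eq_zero R
      (algebraMap R (Module.End R (M ⧸ N)) s) I hrange
  rw [aeval_algebraMap_apply_eq_algebraMap_eval] at hp0
  refine ⟨p.natDegree, ∑ k ∈ Finset.range p.natDegree, p.coeff k * s ^ k, ?_, ?_⟩
  · refine Ideal.sum_mem _ fun k hk => ?_
    have hk' : p.natDegree - k ≠ 0 := by
      have := Finset.mem_range.1 hk; omega
    exact Ideal.mul_mem_right _ _ (Ideal.pow_le_self hk' (hpc k))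
  · intro m
    have h2 : s ^ p.natDegree + ∑ k ∈ Finset.range p.natDegree, p.coeff k * s ^ k = p.eval s := by
      rw [eval_eq_sum_range, Finset.sum_range_succ, hpm.coeff_natDegree, one_mul, add_comm]
    rw [h2, ← Submodule.Quotient.mk_eq_zero, Submodule.Quotient.mk_smul,
      ← Module.algebraMap_end_apply (S := R), hp0]
    rfl

theorem S6310 {R : Type u} [CommRing R] (S : Submonoid R) (I : Ideal R) (M : Type u)
    [AddCommGroup M] [Module R M] [Module.Finite R M] {r : ℕ} (x : Fin r → M)
    (hx : Submodule.span (Localization S) (Set.range fun j =>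
      LocalizedModule.mkLinearMap S (M ⧸ (I • (⊤ : Submodule R M)))
        (Submodule.Quotient.mk (x j))) = ⊤) :
    ∃ (s : R) (i : R), s ∈ S ∧ i ∈ I ∧ Submodule.span (Localization.Away (s + i))
      (Set.range fun j => LocalizedModule.mkLinearMap (Submonoid.powers (s + i)) M (x j)) = ⊤ := by
  classical
  -- Step A
  have hA : ∀ m : M, ∃ u : R, u ∈ S ∧
      u • m ∈ Submodule.span R (Set.range x) ⊔ I • (⊤ : Submodule R M) := by
    intro m
    have h1 : Submodule.span (Localization S) (Set.range fun j =>
        LocalizedModule.mkLinearMap S (M ⧸ (I • (⊤ : Submodule R M)))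
          (Submodule.Quotient.mk (x j))) =
        (Submodule.span R (Set.range fun j => ((I • (⊤ : Submodule R M)).mkQ (x j)))).localized'
          (Localization S) S (LocalizedModule.mkLinearMap S (M ⧸ (I • (⊤ : Submodule R M)))) := by
      rw [Submodule.localized'_span]
      congr 1
      ext y
      simp only [Set.mem_range, Set.mem_image]
      constructor
      · rintro ⟨j, rfl⟩; exact ⟨_, ⟨j, rfl⟩, rfl⟩
      · rintro ⟨_, ⟨j, rfl⟩, rfl⟩; exact ⟨j, rfl⟩
    have h2 : LocalizedModule.mkLinearMap S (M ⧸ (I • (⊤ : Submodule R M)))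
        ((I • (⊤ : Submodule R M)).mkQ m) ∈
        (Submodule.span R (Set.range fun j => ((I • (⊤ : Submodule R M)).mkQ (x j)))).localized'
          (Localization S) S (LocalizedModule.mkLinearMap S (M ⧸ (I • (⊤ : Submodule R M)))) := by
      rw [← h1, hx]; exact Submodule.mem_top
    obtain ⟨n, hn, t, hnt⟩ := h2
    rw [IsLocalizedModule.mk'_eq_iff, Submonoid.smul_def, ← map_smul] at hnt
    obtain ⟨c, hc⟩ := (IsLocalizedModule.eq_iff_exists S _).1 hnt
    refine ⟨(c : R) * (t : R), S.mul_mem c.2 t.2, ?_⟩
    have h3 : (I • (⊤ : Submodule R M)).mkQ (((c : R) * (t : R)) • m) ∈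
        Submodule.span R (Set.range fun j => ((I • (⊤ : Submodule R M)).mkQ (x j))) := by
      rw [map_smul, mul_smul]
      have hc' : (c : R) • (t : R) • (I • (⊤ : Submodule R M)).mkQ m = (c : R) • n := hc.symm
      rw [hc']
      exact Submodule.smul_mem _ _ hn
    have h4 : Submodule.span R (Set.range fun j => ((I • (⊤ : Submodule R M)).mkQ (x j))) =
        (Submodule.span R (Set.range x)).map (I • (⊤ : Submodule R M)).mkQ := by
      rw [Submodule.map_span, ← Set.range_comp]; rfl
    rw [h4] at h3
    obtain ⟨n', hn', hn'm⟩ := h3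
    have h5 : ((c : R) * (t : R)) • m - n' ∈ I • (⊤ : Submodule R M) := by
      rw [← Submodule.Quotient.mk_eq_zero, Submodule.Quotient.mk_sub]
      exact sub_eq_zero.2 hn'm.symm
    rw [Submodule.mem_sup]
    exact ⟨n', hn', _, h5, by abel⟩
  choose u huS hu using hA
  -- Step B
  obtain ⟨G, hG⟩ := (Module.Finite.fg_top : (⊤ : Submodule R M).FG)
  have hB : ∀ m : M, (∏ g ∈ G, u g) • m ∈
      Submodule.span R (Set.range x) ⊔ I • (⊤ : Submodule R M) := by
    intro m
    have hm : m ∈ Submodule.span R (G : Set M) := hG ▸ Submodule.mem_top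
    induction hm using Submodule.span_induction with
    | mem g hg =>
      rw [← Finset.mul_prod_erase G u hg, mul_comm, mul_smul]
      exact Submodule.smul_mem _ _ (hu g)
    | zero => rw [smul_zero]; exact Submodule.zero_mem _
    | add a b _ _ ha hb => rw [smul_add]; exact Submodule.add_mem _ ha hb
    | smul c a _ ha => rw [smul_comm]; exact Submodule.smul_mem _ _ ha
  obtain ⟨n, i, hi, hf⟩ := exists_pow_add_smul_mem I M (Submodule.span R (Set.range x))
    (∏ g ∈ G, u g) hB
  refine ⟨(∏ g ∈ G, u g) ^ n, i, S.pow_mem (S.prod_mem fun g _ => huS g) n, hi, ?_⟩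
  -- Step F
  rw [eq_top_iff]
  intro y _
  have hN : ∀ m ∈ Submodule.span R (Set.range x),
      LocalizedModule.mkLinearMap (Submonoid.powers ((∏ g ∈ G, u g) ^ n + i)) M m ∈
      Submodule.span (Localization.Away ((∏ g ∈ G, u g) ^ n + i))
        (Set.range fun j => LocalizedModule.mkLinearMap
          (Submonoid.powers ((∏ g ∈ G, u g) ^ n + i)) M (x j)) := by
    intro m hm
    induction hm using Submodule.span_induction with
    | mem g hg =>
      obtain ⟨j, rfl⟩ := hg
      exact Submodule.subset_span ⟨j, rfl⟩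
    | zero => rw [map_zero]; exact Submodule.zero_mem _
    | add a b _ _ ha hb => rw [map_add]; exact Submodule.add_mem _ ha hb
    | smul c a _ ha =>
      rw [map_smul, ← algebraMap_smul (Localization.Away ((∏ g ∈ G, u g) ^ n + i))]
      exact Submodule.smul_mem _ _ ha
  induction y using LocalizedModule.induction_on with
  | h m t =>
    have h1 : LocalizedModule.mk m t =
        Localization.mk (1 : R) (⟨(∏ g ∈ G, u g) ^ n + i, Submonoid.mem_powers _⟩ * t) •
          LocalizedModule.mkLinearMap (Submonoid.powers ((∏ g ∈ G, u g) ^ n + i)) M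
            (((∏ g ∈ G, u g) ^ n + i) • m) := by
      rw [LocalizedModule.mkLinearMap_apply, LocalizedModule.mk_smul_mk, one_smul, mul_one]
      exact (LocalizedModule.mk_cancel_common_left
        (⟨(∏ g ∈ G, u g) ^ n + i, Submonoid.mem_powers _⟩ :
          Submonoid.powers ((∏ g ∈ G, u g) ^ n + i)) t m).symm
    rw [h1]
    exact Submodule.smul_mem _ _ (hN _ (hf m))

theorem S6308 {R : Type u} [CommRing R] {M N : Type u} [AddCommGroup M] [Module R M]
    [AddCommGroup N] [Module R N] [Module.Finite R N] (φ : M →ₗ[R] N) :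
    (∀ p : PrimeSpectrum R, Function.Surjective (LocalizedModule.map p.asIdeal.primeCompl φ) ↔
      Function.Surjective (φ.lTensor p.asIdeal.ResidueField)) ∧
    IsOpen {p : PrimeSpectrum R |
      Function.Surjective (LocalizedModule.map p.asIdeal.primeCompl φ)} ∧
    (∀ f : R, (↑(PrimeSpectrum.basicOpen f) : Set (PrimeSpectrum R)) ⊆
      {p : PrimeSpectrum R | Function.Surjective (LocalizedModule.map p.asIdeal.primeCompl φ)} →
      Function.Surjective (LocalizedModule.map (Submonoid.powers f) φ)) := by
  have hmem : ∀ p : PrimeSpectrum R,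
      Function.Surjective (LocalizedModule.map p.asIdeal.primeCompl φ) ↔
        p ∉ Module.support R (N ⧸ LinearMap.range φ) := by
    intro p
    rw [Module.notMem_support_iff,
      LinearMap.localizedMap_surjective_iff_subsingleton_localized_coker]
  have hset : {p : PrimeSpectrum R |
      Function.Surjective (LocalizedModule.map p.asIdeal.primeCompl φ)} =
      (Module.support R (N ⧸ LinearMap.range φ))ᶜ := by
    ext p
    rw [Set.mem_compl_iff, ← hmem]; rfl
  refine ⟨fun p => ?_, ?_, fun f hf => ?_⟩
  · rw [hmem, Module.mem_support_iff_nontrivial_residueField_tensorProduct,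
      not_nontrivial_iff_subsingleton]
    have hex : Function.Exact φ (LinearMap.range φ).mkQ := LinearMap.exact_map_mkQ_range φ
    have hex' := lTensor_exact p.asIdeal.ResidueField hex (Submodule.mkQ_surjective _)
    have hsurj := LinearMap.lTensor_surjective p.asIdeal.ResidueField
      (Submodule.mkQ_surjective (LinearMap.range φ))
    constructor
    · intro hs z
      have h0 : (LinearMap.lTensor p.asIdeal.ResidueField (LinearMap.range φ).mkQ) z = 0 :=
        Subsingleton.elim _ _
      exact (hex' z).1 h0
    · intro hs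
      refine ⟨fun a b => ?_⟩
      obtain ⟨a', rfl⟩ := hsurj a
      obtain ⟨b', rfl⟩ := hsurj b
      obtain ⟨a'', rfl⟩ := hs a'
      obtain ⟨b'', rfl⟩ := hs b'
      rw [(hex' _).2 ⟨a'', rfl⟩, (hex' _).2 ⟨b'', rfl⟩]
  · rw [hset]; exact (Module.isClosed_support).isOpen_compl
  · rw [LinearMap.localizedMap_surjective_iff_subsingleton_localized_coker,
      LocalizedModule.subsingleton_iff_support_subset]
    intro p hp
    by_contra hpf
    have h1 : p ∈ (PrimeSpectrum.basicOpen f : Set (PrimeSpectrum R)) := by
      rw [PrimeSpectrum.mem_zeroLocus, Set.singleton_subset_iff] at hpf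
      exact hpf
    have h2 := hf h1
    rw [hset] at h2
    exact h2 hp

/-- The kernel of a surjection onto a projective module from a finite projective module is
finite projective. -/
theorem ker_finite_projective_of_surjective {A : Type*} [CommRing A] {L₁ L₂ : Type*}
    [AddCommGroup L₁] [Module A L₁] [AddCommGroup L₂] [Module A L₂] [Module.Finite A L₁]
    [Module.Projective A L₁] [Module.Projective A L₂] (ψ : L₁ →ₗ[A] L₂)
    (hψ : Function.Surjective ψ) :
    Module.Finite A (LinearMap.ker ψ) ∧ Module.Projective A (LinearMap.ker ψ) := by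
  obtain ⟨h, hh⟩ := Module.projective_lifting_property ψ LinearMap.id hψ
  have hh' : ∀ y, ψ (h y) = y := fun y => congrArg (fun g => g y) hh
  let r' : L₁ →ₗ[A] LinearMap.ker ψ :=
    (LinearMap.id - h ∘ₗ ψ).codRestrict (LinearMap.ker ψ) (fun y => by
      rw [LinearMap.mem_ker, LinearMap.sub_apply, map_sub, LinearMap.id_apply,
        LinearMap.comp_apply, hh', sub_self])
  have hr' : r' ∘ₗ (LinearMap.ker ψ).subtype = LinearMap.id := by
    ext ⟨y, hy⟩
    rw [LinearMap.mem_ker] at hy
    simp [r', hy]
  refine ⟨Module.Finite.of_surjective r' (fun y => ⟨y.1, ?_⟩),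
    Module.Projective.of_split (LinearMap.ker ψ).subtype r' hr'⟩
  exact congrArg (fun g => g y) hr'

theorem S6330 {R : Type u} [CommRing R] {P₁ P₂ : Type u} [AddCommGroup P₁] [Module R P₁]
    [AddCommGroup P₂] [Module R P₂] [Module.Finite R P₁] [Module.Projective R P₁]
    [Module.Finite R P₂] [Module.Projective R P₂] (φ : P₁ →ₗ[R] P₂) :
    IsOpen {p : PrimeSpectrum R | Function.Surjective (φ.lTensor p.asIdeal.ResidueField)} ∧
    ∀ f : R, (↑(PrimeSpectrum.basicOpen f) : Set (PrimeSpectrum R)) ⊆
      {p : PrimeSpectrum R | Function.Surjective (φ.lTensor p.asIdeal.ResidueField)} →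
      Function.Surjective (LocalizedModule.map (Submonoid.powers f) φ) ∧
      Module.Finite (Localization.Away f)
        (LocalizedModule (Submonoid.powers f) (LinearMap.ker φ)) ∧
      Module.Projective (Localization.Away f)
        (LocalizedModule (Submonoid.powers f) (LinearMap.ker φ)) := by
  obtain ⟨h1, h2, h3⟩ := S6308 φ
  have hset : {p : PrimeSpectrum R | Function.Surjective (φ.lTensor p.asIdeal.ResidueField)} =
      {p : PrimeSpectrum R |
        Function.Surjective (LocalizedModule.map p.asIdeal.primeCompl φ)} := by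
    ext p
    exact (h1 p).symm
  rw [hset]
  refine ⟨h2, fun f hf => ?_⟩
  have hψ := h3 f hf
  refine ⟨hψ, ?_⟩
  have hι : Function.Injective
      (LocalizedModule.map (Submonoid.powers f) (LinearMap.ker φ).subtype) :=
    LocalizedModule.map_injective _ _ (Submodule.injective_subtype _)
  have hex : Function.Exact
      (LocalizedModule.map (Submonoid.powers f) (LinearMap.ker φ).subtype)
      (LocalizedModule.map (Submonoid.powers f) φ) :=
    LocalizedModule.map_exact (Submonoid.powers f) _ _ (LinearMap.exact_subtype_ker_map φ)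
  have hker : LinearMap.ker (LocalizedModule.map (Submonoid.powers f) φ) =
      LinearMap.range (LocalizedModule.map (Submonoid.powers f) (LinearMap.ker φ).subtype) := by
    ext y
    rw [LinearMap.mem_ker, LinearMap.mem_range]
    exact hex y
  obtain ⟨hfin, hproj⟩ :=
    ker_finite_projective_of_surjective (LocalizedModule.map (Submonoid.powers f) φ) hψ
  let e : LocalizedModule (Submonoid.powers f) (LinearMap.ker φ) ≃ₗ[Localization.Away f]
      LinearMap.ker (LocalizedModule.map (Submonoid.powers f) φ) :=
    (LinearEquiv.ofInjective _ hι).trans (LinearEquiv.ofEq _ _ hker.symm)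
  exact ⟨Module.Finite.equiv e.symm, Module.Projective.of_equiv' e.symm⟩

end Groth.Agent.Helper1.NakLoc
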