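import Mathlib
import Groth.Agent.Lib.Helper1.NakLoc

/-! Going down for the support of a finite module flat over the base (helper1; S6263). -/

set_option autoImplicit false
universe u

namespace Groth.Agent.Helper1.GoingDownSupp

open TensorProduct

/-- If `N` is flat over `R`, `p` is prime and `r ∉ p`, then `r` is a nonzerodivisor on `N / pN`. -/
lemma mem_smul_top_of_smul_mem {R : Type*} [CommRing R] (N : Type*) [AddCommGroup N] [Module R N]
    [Module.Flat R N] (p : Ideal R) [p.IsPrime] (r : R) (hr : r ∉ p) (n : N)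
    (h : r • n ∈ p • (⊤ : Submodule R N)) : n ∈ p • (⊤ : Submodule R N) := by
  let μ : (R ⧸ p) →ₗ[R] (R ⧸ p) := LinearMap.lsmul R (R ⧸ p) r
  have hμ : Function.Injective μ := by
    rw [injective_iff_map_eq_zero]
    intro x hx
    obtain ⟨x, rfl⟩ := Ideal.Quotient.mk_surjective x
    have : Ideal.Quotient.mk p (r * x) = 0 := hx
    rw [Ideal.Quotient.eq_zero_iff_mem] at this ⊢
    exact (Ideal.IsPrime.mem_or_mem ‹_› this).resolve_left hr
  have hμN : Function.Injective (μ.rTensor N) := Module.Flat.rTensor_preserves_injective_linearMap μ hμ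
  let e := TensorProduct.quotTensorEquivQuotSMul N p
  have h1 : e ((1 : R ⧸ p) ⊗ₜ n) = Submodule.Quotient.mk n :=
    TensorProduct.quotTensorEquivQuotSMul_mk_one_tmul p n
  have h2 : (μ.rTensor N) ((1 : R ⧸ p) ⊗ₜ n) = r • ((1 : R ⧸ p) ⊗ₜ[R] n) := by
    rw [LinearMap.rTensor_tmul]
    rfl
  have h3 : (μ.rTensor N) ((1 : R ⧸ p) ⊗ₜ n) = 0 := by
    rw [h2]
    apply e.injective
    rw [map_smul, h1, map_zero, ← Submodule.Quotient.mk_smul, Submodule.Quotient.mk_eq_zero]
    exact h
  have h4 : ((1 : R ⧸ p) ⊗ₜ[R] n) = 0 := hμN (h3.trans (map_zero _).symm)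
  rw [← Submodule.Quotient.mk_eq_zero, ← h1, h4, map_zero]

theorem main {R S : Type u} [CommRing R] [CommRing S] [Algebra R S] (N : Type u)
    [AddCommGroup N] [Module S N] [Module R N] [IsScalarTower R S N] [Module.Finite S N]
    [Module.Flat R N] (p p' : Ideal R) [p.IsPrime] [p'.IsPrime] (hle : p ≤ p')
    (q' : PrimeSpectrum S) (hq' : q' ∈ Module.support S N) (hover : q'.asIdeal.under R = p') :
    ∃ q : PrimeSpectrum S, q ≤ q' ∧ q ∈ Module.support S N ∧ q.asIdeal.under R = p := by
  set J : Ideal S := p.map (algebraMap R S) with hJ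
  set W : Submodule S N := J • ⊤ with hW
  have hWr : W.restrictScalars R = p • (⊤ : Submodule R N) := by
    rw [hW, hJ, Submodule.restrictScalars_map_smul_eq, Submodule.restrictScalars_top]
  set I : Ideal S := Module.annihilator S (N ⧸ W) with hI
  have hmemI : ∀ a : S, a ∈ I ↔ ∀ n : N, a • n ∈ W := by
    intro a
    rw [hI, Module.mem_annihilator]
    constructor
    · intro h n
      have := h (Submodule.Quotient.mk n)
      rwa [← Submodule.Quotient.mk_smul, Submodule.Quotient.mk_eq_zero] at this
    · intro h x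
      obtain ⟨n, rfl⟩ := Submodule.Quotient.mk_surjective _ x
      rw [← Submodule.Quotient.mk_smul, Submodule.Quotient.mk_eq_zero]
      exact h n
  have hannq' : Module.annihilator S N ≤ q'.asIdeal := Module.mem_support_iff_of_finite.mp hq'
  have hJq' : J ≤ q'.asIdeal := by
    rw [hJ, Ideal.map_le_iff_le_comap]
    exact le_trans hle (le_of_eq hover.symm)
  -- (a) `I ≤ q'`
  have hIq' : I ≤ q'.asIdeal := by
    intro a ha
    by_contra haq
    obtain ⟨n, i, hi, hn⟩ := NakLoc.exists_pow_add_smul_mem J N ⊥ a (fun m => by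
      rw [bot_sup_eq]; exact (hmemI a).mp ha m)
    have h1 : a ^ n + i ∈ Module.annihilator S N := by
      rw [Module.mem_annihilator]
      intro m
      simpa using hn m
    have h2 : a ^ n ∈ q'.asIdeal := by
      have := sub_mem (hannq' h1) (hJq' hi)
      simpa using this
    exact haq (q'.2.mem_of_pow_mem n h2)
  -- (b) a minimal prime
  obtain ⟨q, hqmin, hqle⟩ := Ideal.exists_minimalPrimes_le hIq'
  haveI hqprime : q.IsPrime := hqmin.1.1
  have hIq : I ≤ q := hqmin.1.2
  refine ⟨⟨q, hqprime⟩, hqle, ?_, ?_⟩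
  · -- (c)
    rw [Module.mem_support_iff_of_finite]
    refine le_trans ?_ hIq
    intro a ha
    rw [hmemI]
    intro n
    rw [Module.mem_annihilator.mp ha n]
    exact zero_mem _
  · -- (d)
    apply le_antisymm
    · intro r hr
      by_contra hrp
      have hreg : IsSMulRegular (N ⧸ W) (algebraMap R S r) := by
        intro x y hxy
        obtain ⟨x, rfl⟩ := Submodule.Quotient.mk_surjective _ x
        obtain ⟨y, rfl⟩ := Submodule.Quotient.mk_surjective _ y
        simp only [← Submodule.Quotient.mk_smul] at hxy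
        rw [Submodule.Quotient.eq] at hxy ⊢
        rw [← smul_sub, algebraMap_smul] at hxy
        have h1 : r • (x - y) ∈ p • (⊤ : Submodule R N) := by
          rw [← hWr]; exact hxy
        have h2 := mem_smul_top_of_smul_mem N p r hrp (x - y) h1
        rw [← hWr] at h2
        exact h2
      exact hreg.notMem_of_mem_minimalPrimes hqmin hr
    · intro r hr
      change algebraMap R S r ∈ q
      apply hIq
      rw [hmemI]
      intro n
      exact Submodule.smul_mem_smul (Ideal.mem_map_of_mem _ hr) Submodule.mem_top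

end Groth.Agent.Helper1.GoingDownSupp
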