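import Mathlib

/-!
# Base change of graded rings: the algebraic input for base change of twisting sheaves (helper1 library)
-/

set_option autoImplicit false
universe u

open CategoryTheory CategoryTheory.Limits

namespace Groth.Agent.Helper1.GrBCAlg

variable {R' R B A : Type u} [CommRing R'] [CommRing R] [CommRing B] [CommRing A]
  {τB τA : Type u} [SetLike τB B] [AddSubgroupClass τB B] [SetLike τA A] [AddSubgroupClass τA A]
  {ℬ : ℕ → τB} [GradedRing ℬ] {𝒜 : ℕ → τA} [GradedRing 𝒜]
  (ρ : R' →+* R) (σB : R' →+* B) (σA : R →+* A) (φ : ℬ →+*ᵍ 𝒜)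

/-- `φ` as a semilinear map -/
def vφ : B →ₛₗ[φ.toRingHom] A where
  toFun := φ
  map_add' := map_add φ
  map_smul' := fun b x => by
    change φ (b * x) = φ b * φ x
    exact map_mul φ b x

theorem vφ_apply (b : B) : vφ φ b = φ b := rfl

theorem vφ_mem (i : ℕ) (m : B) (hm : m ∈ ℬ i) : vφ φ m ∈ 𝒜 i := φ.map_mem hm

variable (hpo : IsPushout (CommRingCat.ofHom ρ) (CommRingCat.ofHom σB) (CommRingCat.ofHom σA)
  (CommRingCat.ofHom φ.toRingHom))

include hpo in
theorem hcomm (r' : R') : φ (σB r') = σA (ρ r') :=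
  (congrArg (fun F => F.hom r') hpo.w).symm

include hpo in
theorem hBCmod (Q' : Type u) [AddCommGroup Q'] [Module R Q'] (g : B →+ Q')
    (hg : ∀ (r' : R') (m : B), g (σB r' * m) = ρ r' • g m) :
    ∃! gt : A →+ Q', (∀ (r : R) (y : A), gt (σA r * y) = r • gt y) ∧ ∀ m, gt (φ m) = g m := by
  classical
  have hw : ∀ r', φ (σB r') = σA (ρ r') := hcomm ρ σB σA φ hpo
  let _ : Algebra R' R := ρ.toAlgebra
  let _ : Algebra R' B := σB.toAlgebra
  let _ : Algebra R A := σA.toAlgebra
  let _ : Algebra B A := φ.toRingHom.toAlgebra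
  let _ : Algebra R' A := (φ.toRingHom.comp σB).toAlgebra
  have : IsScalarTower R' B A := .of_algebraMap_eq' rfl
  have : IsScalarTower R' R A := by
    refine .of_algebraMap_eq' ?_
    refine RingHom.ext fun r => ?_
    exact hw r
  have hALG : Algebra.IsPushout R' R B A := CommRingCat.isPushout_iff_isPushout.mp hpo
  have hbase : IsBaseChange R (IsScalarTower.toAlgHom R' B A).toLinearMap := hALG.out
  letI : Module R' Q' := Module.compHom Q' (algebraMap R' R)
  haveI : IsScalarTower R' R Q' := IsScalarTower.of_algebraMap_smul fun _ _ => rfl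
  let gl : B →ₗ[R'] Q' :=
    { toFun := g
      map_add' := map_add g
      map_smul' := fun r' m => (congrArg g (Algebra.smul_def r' m)).trans (hg r' m) }
  refine ⟨(hbase.lift gl).toAddMonoidHom, ⟨?_, ?_⟩, ?_⟩
  · intro r y
    have h1 : σA r * y = r • y := (Algebra.smul_def r y).symm
    change hbase.lift gl (σA r * y) = r • hbase.lift gl y
    rw [h1, map_smul]
  · intro m
    exact hbase.lift_eq gl m
  · rintro gt ⟨h1, h2⟩
    let gtl : A →ₗ[R] Q' :=
      { toFun := gt
        map_add' := map_add gt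
        map_smul' := fun r y => (congrArg gt (Algebra.smul_def r y)).trans (h1 r y) }
    have : gtl = hbase.lift gl := by
      apply hbase.algHom_ext
      intro x
      rw [hbase.lift_eq]
      exact h2 x
    ext y
    exact LinearMap.congr_fun this y

include hpo in
theorem hgen (hσA : ∀ r, σA r ∈ 𝒜 0) (j : ℕ) (c : A) (hc : c ∈ 𝒜 j) :
    c ∈ AddSubgroup.closure {c' : A | ∃ (r : R) (x : B), x ∈ ℬ j ∧ c' = σA r * φ x} := by
  classical
  have hw : ∀ r', φ (σB r') = σA (ρ r') := hcomm ρ σB σA φ hpo
  let _ : Algebra R' R := ρ.toAlgebra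
  let _ : Algebra R' B := σB.toAlgebra
  let _ : Algebra R A := σA.toAlgebra
  let _ : Algebra B A := φ.toRingHom.toAlgebra
  let _ : Algebra R' A := (φ.toRingHom.comp σB).toAlgebra
  have : IsScalarTower R' B A := .of_algebraMap_eq' rfl
  have : IsScalarTower R' R A := by
    refine .of_algebraMap_eq' ?_
    refine RingHom.ext fun r => ?_
    exact hw r
  have hALG : Algebra.IsPushout R' R B A := CommRingCat.isPushout_iff_isPushout.mp hpo
  have hbase : IsBaseChange R (IsScalarTower.toAlgHom R' B A).toLinearMap := hALG.out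
  have key : ∀ y : A, (DirectSum.decompose 𝒜 y j : A) ∈
      AddSubgroup.closure {c' : A | ∃ (r : R) (x : B), x ∈ ℬ j ∧ c' = σA r * φ x} := by
    intro y
    refine hbase.inductionOn y _ ?_ ?_ ?_ ?_
    · rw [DirectSum.decompose_zero]
      exact zero_mem _
    · intro b
      show (DirectSum.decompose 𝒜 (φ b) j : A) ∈ _
      rw [← φ.map_directSumDecompose]
      apply AddSubgroup.subset_closure
      exact ⟨1, (DirectSum.decompose ℬ b j : B), SetLike.coe_mem _, by rw [map_one, one_mul]⟩
    · intro r y hy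
      show (DirectSum.decompose 𝒜 (σA r * y) j : A) ∈ _
      rw [DirectSum.coe_decompose_mul_of_left_mem_of_le 𝒜 (hσA r) (Nat.zero_le _), Nat.sub_zero]
      refine AddSubgroup.closure_induction (p := fun z _ => σA r * z ∈
        AddSubgroup.closure {c' : A | ∃ (r : R) (x : B), x ∈ ℬ j ∧ c' = σA r * φ x})
        ?_ ?_ ?_ ?_ hy
      · rintro _ ⟨r₀, x, hx, rfl⟩
        apply AddSubgroup.subset_closure
        exact ⟨r * r₀, x, hx, by rw [map_mul, mul_assoc]⟩
      · rw [mul_zero]; exact zero_mem _
      · intro a b _ _ ha hb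
        rw [mul_add]; exact add_mem ha hb
      · intro a _ ha
        rw [mul_neg]; exact neg_mem ha
    · intro a b ha hb
      rw [DirectSum.decompose_add, DirectSum.add_apply, AddMemClass.coe_add]
      exact add_mem ha hb
  have := key c
  rwa [DirectSum.decompose_of_mem_same 𝒜 hc] at this

end Groth.Agent.Helper1.GrBCAlg
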