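import Mathlib

set_option autoImplicit false
universe u
namespace Groth.Agent.Helper1.GrInt

open DirectSum

section
variable {R A : Type u} [CommRing R] [CommRing A] [Algebra R A]
    (𝒜 : ℤ → Submodule R A) [GradedAlgebra 𝒜]

/-- projection onto the `n`-th graded piece, as an additive map. -/
noncomputable def pr (n : ℤ) : A →+ A :=
  AddMonoidHom.mk' (fun x => ((DirectSum.decompose 𝒜 x) n : A)) (by
    intro a b
    rw [DirectSum.decompose_add, DirectSum.add_apply, Submodule.coe_add])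

theorem pr_of_mem_same {n : ℤ} {x : A} (hx : x ∈ 𝒜 n) : pr 𝒜 n x = x :=
  DirectSum.decompose_of_mem_same 𝒜 hx

theorem pr_mul_of_mem (a : A) {y : A} {e : ℤ} (hy : y ∈ 𝒜 e) (n : ℤ) :
    pr 𝒜 n (a * y) = (DirectSum.decompose 𝒜 a (n - e) : A) * y := by
  have := DirectSum.coe_decompose_mul_add_of_right_mem 𝒜 (i := n - e) (a := a) hy
  rw [sub_add_cancel] at this
  exact this

variable {p : ℕ} (f : Fin p → A) (deg : Fin p → ℤ) (hf : ∀ i, f i ∈ 𝒜 (deg i))

include hf in
/-- homogeneous elements of the ideal generated by homogeneous `f i` have homogeneous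
coefficients. -/
theorem exists_coeff {n : ℤ} {x : A} (hx : x ∈ 𝒜 n) (hxs : x ∈ Ideal.span (Set.range f)) :
    ∃ c : Fin p → A, (∀ i, c i ∈ 𝒜 (n - deg i)) ∧ x = ∑ i, c i * f i := by
  obtain ⟨c, rfl⟩ := (Ideal.mem_span_range_iff_exists_fun).1 hxs
  refine ⟨fun i => (DirectSum.decompose 𝒜 (c i) (n - deg i) : A),
    fun i => (DirectSum.decompose 𝒜 (c i) (n - deg i)).2, ?_⟩
  have h1 : ∑ i, c i * f i = pr 𝒜 n (∑ i, c i * f i) := (pr_of_mem_same 𝒜 hx).symm
  rw [h1, map_sum]
  exact Finset.sum_congr rfl fun i _ => pr_mul_of_mem 𝒜 (c i) (hf i) n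

theorem prod_update_succ (α : Fin p → ℕ) (j : Fin p) :
    ∏ i, f i ^ (Function.update α j (α j + 1)) i = f j * ∏ i, f i ^ α i := by
  classical
  rw [← Finset.mul_prod_erase Finset.univ _ (Finset.mem_univ j),
    ← Finset.mul_prod_erase Finset.univ (fun i => f i ^ α i) (Finset.mem_univ j),
    Function.update_self, pow_succ]
  have : ∏ i ∈ Finset.univ.erase j, f i ^ (Function.update α j (α j + 1)) i =
      ∏ i ∈ Finset.univ.erase j, f i ^ α i :=
    Finset.prod_congr rfl fun i hi => by rw [Function.update_of_ne (Finset.ne_of_mem_erase hi)]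
  rw [this]; ring

theorem sum_update_succ (α : Fin p → ℕ) (j : Fin p) (w : Fin p → ℤ) :
    ∑ i, ((Function.update α j (α j + 1)) i : ℤ) * w i = ∑ i, (α i : ℤ) * w i + w j := by
  classical
  rw [← Finset.add_sum_erase Finset.univ _ (Finset.mem_univ j),
    ← Finset.add_sum_erase Finset.univ (fun i => (α i : ℤ) * w i) (Finset.mem_univ j),
    Function.update_self]
  have : ∑ i ∈ Finset.univ.erase j, ((Function.update α j (α j + 1)) i : ℤ) * w i =
      ∑ i ∈ Finset.univ.erase j, (α i : ℤ) * w i :=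
    Finset.sum_congr rfl fun i hi => by rw [Function.update_of_ne (Finset.ne_of_mem_erase hi)]
  rw [this]; push_cast; ring

theorem sum_update_succ' (α : Fin p → ℕ) (j : Fin p) :
    ∑ i, (Function.update α j (α j + 1)) i = ∑ i, α i + 1 := by
  classical
  rw [← Finset.add_sum_erase Finset.univ _ (Finset.mem_univ j),
    ← Finset.add_sum_erase Finset.univ (fun i => α i) (Finset.mem_univ j),
    Function.update_self]
  have : ∑ i ∈ Finset.univ.erase j, (Function.update α j (α j + 1)) i =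
      ∑ i ∈ Finset.univ.erase j, α i :=
    Finset.sum_congr rfl fun i hi => by rw [Function.update_of_ne (Finset.ne_of_mem_erase hi)]
  rw [this]; ring

include hf in
theorem monomial_mem (α : Fin p → ℕ) : ∏ i, f i ^ α i ∈ 𝒜 (∑ i, (α i : ℤ) * deg i) := by
  have := SetLike.prod_pow_mem_graded (A := 𝒜) (F := Finset.univ) (i := deg) (g := f) α
    (fun k _ => hf k)
  simpa [smul_eq_mul] using this

include hf in
theorem S13663 (hdeg : ∀ i, 0 < deg i)
    (hgen : Ideal.span {a : A | ∃ n : ℤ, 0 < n ∧ a ∈ 𝒜 n} = Ideal.span (Set.range f))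
    (d : ℤ) (hd : 0 < d) (hdvd : ∀ i, deg i ∣ d) (N : ℤ) (hN : d * p - ∑ i, deg i < N) :
    𝒜 N = 𝒜 d * 𝒜 (N - d) := by
  classical
  refine le_antisymm ?_ ?_
  swap
  · refine Submodule.mul_le.2 fun a ha b hb => ?_
    have := SetLike.mul_mem_graded ha hb
    rwa [add_sub_cancel] at this
  -- exponents
  let Q : Fin p → ℕ := fun i => (d / deg i).toNat
  have hQ : ∀ i, (Q i : ℤ) * deg i = d := by
    intro i
    have h1 : 0 ≤ d / deg i := Int.ediv_nonneg hd.le (hdeg i).le
    show ((d / deg i).toNat : ℤ) * deg i = d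
    rw [Int.toNat_of_nonneg h1, Int.ediv_mul_cancel (hdvd i)]
  have hQpos : ∀ i, 1 ≤ Q i := by
    intro i
    by_contra hlt
    have h0 : Q i = 0 := by omega
    have := hQ i
    rw [h0] at this
    simp at this
    omega
  have claim : ∀ k : ℕ, ∀ α : Fin p → ℕ, (∀ i, α i < Q i) → ∑ i, Q i ≤ k + ∑ i, α i →
      ∀ c ∈ 𝒜 (N - ∑ i, (α i : ℤ) * deg i), c * ∏ i, f i ^ α i ∈ 𝒜 d * 𝒜 (N - d) := by
    intro k
    induction k using Nat.strong_induction_on with
    | _ k ih =>
    intro α hα hk c hc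
    have hbound : ∑ i, (α i : ℤ) * deg i ≤ d * p - ∑ i, deg i := by
      calc ∑ i, (α i : ℤ) * deg i ≤ ∑ i, (d - deg i) := by
            refine Finset.sum_le_sum fun i _ => ?_
            have h1 : ((α i + 1 : ℕ) : ℤ) ≤ (Q i : ℤ) := by exact_mod_cast hα i
            have h2 := mul_le_mul_of_nonneg_right h1 (hdeg i).le
            rw [hQ i] at h2
            push_cast at h2
            linarith
        _ = d * p - ∑ i, deg i := by
            rw [Finset.sum_sub_distrib, Finset.sum_const, Finset.card_univ, Fintype.card_fin,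
              nsmul_eq_mul, mul_comm]
    have hn'pos : 0 < N - ∑ i, (α i : ℤ) * deg i := by linarith
    have hcI : c ∈ Ideal.span (Set.range f) := by
      rw [← hgen]; exact Ideal.subset_span ⟨_, hn'pos, hc⟩
    obtain ⟨cc, hcc, rfl⟩ := exists_coeff 𝒜 f deg hf hc hcI
    rw [Finset.sum_mul]
    refine sum_mem fun j _ => ?_
    by_cases hj : α j + 1 < Q j
    · have hlt : ∑ i, α i < ∑ i, Q i :=
        Finset.sum_lt_sum_of_nonempty ⟨j, Finset.mem_univ j⟩ fun i _ => hα i
      have hk1 : 1 ≤ k := by omega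
      have key := ih (k - 1) (by omega) (Function.update α j (α j + 1)) ?_ ?_ (cc j) ?_
      · rw [prod_update_succ] at key
        have heq : cc j * f j * ∏ i, f i ^ α i = cc j * (f j * ∏ i, f i ^ α i) := by ring
        rw [heq]; exact key
      · intro i
        by_cases hij : i = j
        · subst hij; rw [Function.update_self]; exact hj
        · rw [Function.update_of_ne hij]; exact hα i
      · rw [sum_update_succ']; omega
      · rw [sum_update_succ]
        have h1 := hcc j
        have hidx : N - ∑ i, (α i : ℤ) * deg i - deg j =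
            N - (∑ i, (α i : ℤ) * deg i + deg j) := by ring
        rwa [hidx] at h1
    · have hQj : α j + 1 = Q j := by have := hα j; omega
      have hsplit : ∏ i, f i ^ α i = f j ^ α j * ∏ i ∈ Finset.univ.erase j, f i ^ α i :=
        (Finset.mul_prod_erase Finset.univ (fun i => f i ^ α i) (Finset.mem_univ j)).symm
      have heq : cc j * f j * ∏ i, f i ^ α i =
          f j ^ Q j * (cc j * ∏ i ∈ Finset.univ.erase j, f i ^ α i) := by
        rw [hsplit, ← hQj, pow_succ]; ring
      rw [heq]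
      refine Submodule.mul_mem_mul ?_ ?_
      · have := SetLike.pow_mem_graded (A := 𝒜) (Q j) (hf j)
        rwa [nsmul_eq_mul, hQ j] at this
      · have h2 : ∏ i ∈ Finset.univ.erase j, f i ^ α i ∈
            𝒜 (∑ i ∈ Finset.univ.erase j, (α i : ℤ) * deg i) := by
          have := SetLike.prod_pow_mem_graded (A := 𝒜) (F := Finset.univ.erase j) (i := deg)
            (g := f) α (fun k _ => hf k)
          simpa [smul_eq_mul] using this
        have h3 := SetLike.mul_mem_graded (hcc j) h2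
        have hsum : ∑ i, (α i : ℤ) * deg i =
            (α j : ℤ) * deg j + ∑ i ∈ Finset.univ.erase j, (α i : ℤ) * deg i :=
          (Finset.add_sum_erase Finset.univ (fun i => (α i : ℤ) * deg i)
            (Finset.mem_univ j)).symm
        have hidx : N - ∑ i, (α i : ℤ) * deg i - deg j +
            ∑ i ∈ Finset.univ.erase j, (α i : ℤ) * deg i = N - d := by
          have h4 : ((α j : ℤ) + 1) * deg j = d := by
            rw [← hQ j, ← hQj]; push_cast; ring
          linarith
        rwa [hidx] at h3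
  intro x hx
  have := claim (∑ i, Q i) (fun _ => 0) (fun i => hQpos i) (by simp) x (by simpa using hx)
  simpa using this

include hf in
theorem exists_le_pow (hdeg : ∀ i, 0 < deg i)
    (hgen : Ideal.span {a : A | ∃ n : ℤ, 0 < n ∧ a ∈ 𝒜 n} = Ideal.span (Set.range f)) (k : ℕ) :
    ∃ s : ℤ, ∀ n : ℤ, s ≤ n → ∀ r ∈ 𝒜 n, r ∈ Ideal.span (Set.range f) ^ k := by
  set D : ℤ := 1 + ∑ i, deg i with hD
  have hDj : ∀ j, deg j < D := by
    intro j
    have : deg j ≤ ∑ i, deg i :=
      Finset.single_le_sum (f := deg) (fun i _ => (hdeg i).le) (Finset.mem_univ j)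
    omega
  have hDpos : 1 ≤ D := by
    have : 0 ≤ ∑ i, deg i := Finset.sum_nonneg fun i _ => (hdeg i).le
    omega
  refine ⟨k * D, ?_⟩
  induction k with
  | zero => intro n _ r _; simp
  | succ k ih =>
    intro n hn r hr
    have hn' : (k : ℤ) * D + D ≤ n := by push_cast at hn; linarith
    have hkD : 0 ≤ (k : ℤ) * D := by positivity
    have hnpos : 0 < n := by linarith
    have hrI : r ∈ Ideal.span (Set.range f) := by
      rw [← hgen]; exact Ideal.subset_span ⟨n, hnpos, hr⟩
    obtain ⟨c, hc, rfl⟩ := exists_coeff 𝒜 f deg hf hr hrI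
    refine sum_mem fun j _ => ?_
    rw [pow_succ]
    refine Ideal.mul_mem_mul (ih _ ?_ _ (hc j)) (Ideal.subset_span ⟨j, rfl⟩)
    have := hDj j
    linarith

theorem pow_le_graded (t : ℕ) (i : ℤ) : (𝒜 i : Submodule R A) ^ t ≤ 𝒜 (t * i) := by
  induction t with
  | zero =>
    rw [pow_zero, Nat.cast_zero, zero_mul, Submodule.one_le]
    exact SetLike.GradedOne.one_mem
  | succ t ih =>
    rw [pow_succ]
    refine (mul_le_mul' ih le_rfl).trans ?_
    refine Submodule.mul_le.2 fun a ha b hb => ?_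
    have := SetLike.mul_mem_graded ha hb
    have hidx : (t : ℤ) * i + i = ((t + 1 : ℕ) : ℤ) * i := by push_cast; ring
    rwa [hidx] at this

theorem span_pow_le (d : ℤ) (n : ℕ) :
    Ideal.span (𝒜 d : Set A) ^ n ≤ Ideal.span (((𝒜 d : Submodule R A) ^ n : Submodule R A) : Set A) := by
  induction n with
  | zero =>
    rw [pow_zero, Ideal.one_eq_top, pow_zero]
    have : (1 : A) ∈ Ideal.span (((1 : Submodule R A) : Submodule R A) : Set A) :=
      Ideal.subset_span (Submodule.one_le.1 le_rfl)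
    rw [(Ideal.eq_top_iff_one _).2 this]
  | succ n ih =>
    rw [pow_succ]
    refine (Ideal.mul_mono_left ih).trans ?_
    rw [Ideal.span_mul_span']
    refine Ideal.span_mono ?_
    rintro _ ⟨a, ha, b, hb, rfl⟩
    rw [pow_succ]
    exact Submodule.mul_mem_mul ha hb

include hf in
theorem S13664 (hdeg : ∀ i, 0 < deg i)
    (hgen : Ideal.span {a : A | ∃ n : ℤ, 0 < n ∧ a ∈ 𝒜 n} = Ideal.span (Set.range f))
    (d : ℤ) (hd : 0 < d) (hdvd : ∀ i, deg i ∣ d)
    {M : Type u} [AddCommGroup M] [Module A M] (x : M) :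
    [∃ n : ℕ, ∀ r ∈ Ideal.span (Set.range f) ^ n, r • x = 0,
     ∃ n₀ : ℕ, ∀ n : ℕ, n₀ ≤ n → ∀ r ∈ (𝒜 d) ^ n, r • x = 0,
     ∃ s : ℤ, ∀ n : ℤ, s ≤ n → ∀ r ∈ 𝒜 n, r • x = 0].TFAE := by
  classical
  tfae_have 1 → 3 := by
    rintro ⟨k, hk⟩
    obtain ⟨s, hs⟩ := exists_le_pow 𝒜 f deg hf hdeg hgen k
    exact ⟨s, fun n hn r hr => hk r (hs n hn r hr)⟩
  tfae_have 3 → 2 := by
    rintro ⟨s, hs⟩
    refine ⟨s.toNat, fun n hn r hr => ?_⟩
    refine hs ((n : ℤ) * d) ?_ r (pow_le_graded 𝒜 n d hr)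
    have h1 : s ≤ (s.toNat : ℤ) := Int.self_le_toNat s
    have h2 : (s.toNat : ℤ) ≤ (n : ℤ) := by exact_mod_cast hn
    have h3 : (n : ℤ) * 1 ≤ (n : ℤ) * d := mul_le_mul_of_nonneg_left (by omega) (by positivity)
    linarith
  tfae_have 2 → 1 := by
    rintro ⟨n₀, hn₀⟩
    let Q : Fin p → ℕ := fun i => (d / deg i).toNat
    have hQ : ∀ i, (Q i : ℤ) * deg i = d := by
      intro i
      have h1 : 0 ≤ d / deg i := Int.ediv_nonneg hd.le (hdeg i).le
      show ((d / deg i).toNat : ℤ) * deg i = d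
      rw [Int.toNat_of_nonneg h1, Int.ediv_mul_cancel (hdvd i)]
    have hfQ : ∀ i, f i ^ Q i ∈ 𝒜 d := by
      intro i
      have := SetLike.pow_mem_graded (A := 𝒜) (Q i) (hf i)
      rwa [nsmul_eq_mul, hQ i] at this
    set J : Ideal A := Ideal.span (Set.range fun i => f i ^ Q i) with hJ
    have hrad : Ideal.span (Set.range f) ≤ J.radical := by
      refine Ideal.span_le.2 ?_
      rintro _ ⟨i, rfl⟩
      exact ⟨Q i, Ideal.subset_span ⟨i, rfl⟩⟩
    have hfg : (Ideal.span (Set.range f)).FG := ⟨Finset.univ.image f, by simp⟩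
    obtain ⟨t, ht⟩ := Ideal.exists_pow_le_of_le_radical_of_fg hrad hfg
    have hJd : J ≤ Ideal.span (𝒜 d : Set A) := by
      refine Ideal.span_le.2 ?_
      rintro _ ⟨i, rfl⟩
      exact Ideal.subset_span (hfQ i)
    refine ⟨t * n₀, fun r hr => ?_⟩
    have h1 : r ∈ Ideal.span (((𝒜 d : Submodule R A) ^ n₀ : Submodule R A) : Set A) := by
      refine span_pow_le 𝒜 d n₀ ?_
      rw [pow_mul] at hr
      exact Ideal.pow_right_mono (ht.trans hJd) n₀ hr
    refine Submodule.span_induction (p := fun r _ => r • x = 0) ?_ ?_ ?_ ?_ h1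
    · intro m hm
      exact hn₀ n₀ le_rfl m hm
    · exact zero_smul _ _
    · intro a b _ _ ha hb
      rw [add_smul, ha, hb, add_zero]
    · intro a b _ hb
      rw [smul_eq_mul, mul_smul, hb, smul_zero]
  tfae_finish

end

end Groth.Agent.Helper1.GrInt
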