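import Mathlib
import Groth.Agent.Lib.Helper1.GrAlg

set_option autoImplicit false
universe u v w
namespace Groth.Agent.Helper1.GrMisc

open DirectSum HomogeneousLocalization

theorem S15122
    (R : Type u) (A : Type v) (B : Type w) [CommRing R] [CommRing A] [CommRing B] [Algebra R A]
    [Algebra R B] [Algebra A B] [IsScalarTower R A B]
    (𝒜 : ℕ → Submodule R A) [GradedAlgebra 𝒜] (ℬ : ℕ → Submodule R B) [GradedAlgebra ℬ]
    (σ : A) (hσ0 : σ ∈ 𝒜 0) [IsLocalization.Away σ B]
    (ι : 𝒜 →+*ᵍ ℬ) (hι : ∀ a : A, ι a = algebraMap A B a) :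
    (HomogeneousIdeal.irrelevant 𝒜).map ι = HomogeneousIdeal.irrelevant ℬ := by
  classical
  apply HomogeneousIdeal.ext
  rw [HomogeneousIdeal.toIdeal_map]
  refine le_antisymm ?_ ?_
  · rw [Ideal.map_le_iff_le_comap]
    intro a ha
    rw [Ideal.mem_comap]
    show ι a ∈ (HomogeneousIdeal.irrelevant ℬ).toIdeal
    have h0 : (DirectSum.decompose 𝒜 a 0 : A) = 0 := ha
    show (DirectSum.decompose ℬ (ι a) 0 : B) = 0
    rw [← ι.map_directSumDecompose, h0, ι.map_zero]
  · rw [HomogeneousIdeal.toIdeal_irrelevant_le]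
    intro n hn b hb
    have hb' : b ∈ ℬ n := hb
    obtain ⟨⟨a, ⟨_, k, rfl⟩⟩, hab⟩ := IsLocalization.surj (Submonoid.powers σ) b
    simp only at hab
    -- b * σ^k = a in B
    have hσB : ι σ ∈ ℬ 0 := ι.map_mem hσ0
    have hσk : (ι σ) ^ k ∈ ℬ 0 := by
      have := SetLike.pow_mem_graded (A := ℬ) k hσB
      rwa [smul_zero] at this
    have hmem : b * (ι σ) ^ k ∈ ℬ n := by
      have := SetLike.mul_mem_graded hb' hσk
      rwa [add_zero] at this
    have hab' : b * (ι σ) ^ k = ι a := by
      rw [hι, hι, ← map_pow]; exact hab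
    have han : ι a = ι (DirectSum.decompose 𝒜 a n : A) := by
      rw [ι.map_directSumDecompose, ← hab', DirectSum.decompose_of_mem_same ℬ hmem]
    have hunit : IsUnit ((ι σ) ^ k) := by
      rw [hι]
      exact (IsLocalization.Away.algebraMap_isUnit σ).pow k
    obtain ⟨u, hu⟩ := hunit
    have hb_eq : b = ι (DirectSum.decompose 𝒜 a n : A) * (u⁻¹ : Bˣ) := by
      rw [← han, ← hab', ← hu, mul_assoc, Units.mul_inv, mul_one]
    show b ∈ Ideal.map ι (HomogeneousIdeal.irrelevant 𝒜).toIdeal
    rw [hb_eq]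
    refine Ideal.mul_mem_right _ _ (Ideal.mem_map_of_mem _ ?_)
    exact HomogeneousIdeal.mem_irrelevant_of_mem 𝒜 hn (DirectSum.decompose 𝒜 a n).2

open Groth.Agent.Helper1.GrAlg in
theorem S11277 (K : Type u) [Field K] (R : Type v) [CommRing R]
    [IsDomain R] [Algebra K R] (𝒜 : ℕ → Submodule K R) [GradedAlgebra 𝒜] (e : ℕ) (he : 0 < e)
    (s : R) (hs : s ∈ 𝒜 e) :
    Transcendental (HomogeneousLocalization.Away 𝒜 s) (algebraMap R (Localization.Away s) s) := by
  classical
  rintro ⟨p, hp0, hp⟩
  by_cases hs0 : s = 0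
  · have : Subsingleton (HomogeneousLocalization.Away 𝒜 s) :=
      HomogeneousLocalization.subsingleton 𝒜 (x := .powers s) ⟨1, by show s ^ 1 = 0; rw [pow_one, hs0]⟩
    exact hp0 (Subsingleton.elim _ _)
  have hinj : Function.Injective (algebraMap R (Localization.Away s)) :=
    IsLocalization.injective _ (powers_le_nonZeroDivisors_of_noZeroDivisors hs0)
  choose k n hn hkn using fun i => Away.mk_surjective 𝒜 hs (p.coeff i)
  set N := p.support.sup k with hN
  -- the relation in R
  have hrel : ∑ i ∈ p.support, n i * s ^ (N - k i + i) = 0 := by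
    apply hinj
    rw [map_zero, map_sum]
    have h1 : (algebraMap R (Localization.Away s) s) ^ N *
        Polynomial.aeval (algebraMap R (Localization.Away s) s) p = 0 := by rw [hp, mul_zero]
    rw [Polynomial.aeval_def, Polynomial.eval₂_eq_sum, Polynomial.sum, Finset.mul_sum] at h1
    rw [← h1]
    refine Finset.sum_congr rfl fun i hi => ?_
    have hki : k i ≤ N := Finset.le_sup (f := k) hi
    rw [HomogeneousLocalization.algebraMap_apply, ← hkn i, Away.val_mk, Localization.mk_eq_mk']
    have hspec : IsLocalization.mk' (Localization.Away s) (n i)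
        (⟨s ^ k i, ⟨k i, rfl⟩⟩ : Submonoid.powers s) * algebraMap R _ (s ^ k i) =
        algebraMap R _ (n i) := IsLocalization.mk'_spec _ _ _
    have hNk : N = k i + (N - k i) := by omega
    rw [map_mul, map_pow, ← hspec, map_pow]
    conv_rhs => rw [hNk]
    ring
  -- each term vanishes
  have hterm : ∀ j ∈ p.support, n j * s ^ (N - k j + j) = 0 := by
    intro j hj
    have hdeg : ∀ i ∈ p.support, n i * s ^ (N - k i + i) ∈ 𝒜 ((N + i) * e) := by
      intro i hi
      have hki : k i ≤ N := Finset.le_sup (f := k) hi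
      have h1 : s ^ (N - k i + i) ∈ 𝒜 ((N - k i + i) * e) := by
        have := SetLike.pow_mem_graded (A := 𝒜) (N - k i + i) hs
        rwa [smul_eq_mul] at this
      have h2 := SetLike.mul_mem_graded (hn i) h1
      have hidx : k i • e + (N - k i + i) * e = (N + i) * e := by
        rw [smul_eq_mul, ← Nat.add_mul]; congr 1; omega
      rwa [hidx] at h2
    have h3 := congrArg (pr 𝒜 ((N + j) * e)) hrel
    rw [map_sum, map_zero, Finset.sum_eq_single j] at h3
    · rwa [pr_of_mem_same 𝒜 (hdeg j hj)] at h3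
    · intro i hi hij
      refine pr_of_mem_ne 𝒜 (hdeg i hi) ?_
      intro heq
      have := Nat.eq_of_mul_eq_mul_right he heq
      omega
    · intro hj'; exact absurd hj hj'
  apply hp0
  refine Polynomial.ext fun j => ?_
  rw [Polynomial.coeff_zero]
  by_contra hne
  have hj : j ∈ p.support := Polynomial.mem_support_iff.2 hne
  have h1 := hterm j hj
  have hn0 : n j = 0 := by
    rcases mul_eq_zero.1 h1 with h | h
    · exact h
    · exact absurd h (pow_ne_zero _ hs0)
  apply hne
  rw [← hkn j]
  apply HomogeneousLocalization.val_injective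
  rw [Away.val_mk, HomogeneousLocalization.val_zero, hn0, Localization.mk_zero]

end Groth.Agent.Helper1.GrMisc
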