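import Mathlib
import Groth.Agent.Lib.Helper1.GrModQC

universe u
open AlgebraicGeometry CategoryTheory Limits TopologicalSpace HomogeneousLocalization Opposite

namespace Groth.Agent.Helper1.GrModFT

open Groth.Agent.Helper1.GrModQC

set_option synthInstance.maxHeartbeats 400000
variable {A σ : Type u} [CommRing A] [SetLike σ A] [AddSubgroupClass σ A] (𝒜 : ℕ → σ)
  [GradedRing 𝒜]
variable {M τ : Type u} [AddCommGroup M] [Module A M] [SetLike τ M] [AddSubgroupClass τ M]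
  (ℳ : ℕ → τ) [DirectSum.Decomposition ℳ] [SetLike.GradedSMul 𝒜 ℳ]
variable (f : A) (hf : f ∈ 𝒜 1)

/-- sections of `M~` over `D₊(f)` as a module over `A_(f)` -/
abbrev Γ₀ : Type u := Γ((GrMod.tilde 𝒜 ℳ 0).restrict (Proj.awayι 𝒜 f hf Nat.one_pos), ⊤)

/-- value of a section -/
noncomputable abbrev v₀ (s : Γ₀ 𝒜 ℳ f hf) (p : ProjectiveSpectrum 𝒜)
    (hp : p ∈ (Proj.awayι 𝒜 f hf Nat.one_pos) ''ᵁ ⊤) : GrMod.LocMod 𝒜 (M := M) p :=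
  ((((show GrMod.sect 𝒜 ℳ 0 (op ((Proj.awayι 𝒜 f hf Nat.one_pos) ''ᵁ ⊤)) from s)).1
    ⟨p, hp⟩ : GrMod.tildeAt 𝒜 ℳ 0 p) : GrMod.LocMod 𝒜 (M := M) p)

omit [DirectSum.Decomposition ℳ] in
theorem ext₀ (s t : Γ₀ 𝒜 ℳ f hf)
    (h : ∀ (p : ProjectiveSpectrum 𝒜) (hp : p ∈ (Proj.awayι 𝒜 f hf Nat.one_pos) ''ᵁ ⊤),
      v₀ 𝒜 ℳ f hf s p hp = v₀ 𝒜 ℳ f hf t p hp) : s = t := by
  apply Subtype.ext
  funext p
  apply Subtype.ext
  exact h p.1 p.2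

theorem notMem (p : ProjectiveSpectrum 𝒜) (hp : p ∈ (Proj.awayι 𝒜 f hf Nat.one_pos) ''ᵁ ⊤) :
    f ∉ p.asHomogeneousIdeal :=
  (Proj.mem_basicOpen 𝒜 f p).mp (image_le 𝒜 f hf Nat.one_pos ⊤ hp)

theorem pow_notMem (k : ℕ) (p : ProjectiveSpectrum 𝒜)
    (hp : p ∈ (Proj.awayι 𝒜 f hf Nat.one_pos) ''ᵁ ⊤) :
    f ^ k ∉ p.asHomogeneousIdeal := fun h =>
  notMem 𝒜 f hf p hp (p.isPrime.mem_of_pow_mem k h)

include hf in
theorem pow_mem (k : ℕ) : f ^ k ∈ 𝒜 (k • 1) := SetLike.pow_mem_graded k hf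

/-- the section `x_k / f^k` -/
noncomputable def Φ (k : ℕ) (x : M) : Γ₀ 𝒜 ℳ f hf :=
  fracS 𝒜 ℳ 0 ((Proj.awayι 𝒜 f hf Nat.one_pos) ''ᵁ ⊤) (DirectSum.decompose ℳ x k)
    ⟨f ^ k, pow_mem 𝒜 f hf k⟩ (by simp) (fun p => pow_notMem 𝒜 f hf k p.1 p.2)

theorem Φ_val (k : ℕ) (x : M) (p : ProjectiveSpectrum 𝒜)
    (hp : p ∈ (Proj.awayι 𝒜 f hf Nat.one_pos) ''ᵁ ⊤) :
    v₀ 𝒜 ℳ f hf (Φ 𝒜 ℳ f hf k x) p hp =
      LocalizedModule.mk (DirectSum.decompose ℳ x k : M) ⟨f ^ k, pow_notMem 𝒜 f hf k p hp⟩ := rfl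

omit [DirectSum.Decomposition ℳ] in
theorem v₀_add (s t : Γ₀ 𝒜 ℳ f hf) (p : ProjectiveSpectrum 𝒜)
    (hp : p ∈ (Proj.awayι 𝒜 f hf Nat.one_pos) ''ᵁ ⊤) :
    v₀ 𝒜 ℳ f hf (s + t) p hp = v₀ 𝒜 ℳ f hf s p hp + v₀ 𝒜 ℳ f hf t p hp := rfl

omit [DirectSum.Decomposition ℳ] in
theorem v₀_zero (p : ProjectiveSpectrum 𝒜)
    (hp : p ∈ (Proj.awayι 𝒜 f hf Nat.one_pos) ''ᵁ ⊤) :
    v₀ 𝒜 ℳ f hf 0 p hp = 0 := rfl


omit [AddSubgroupClass τ M] [DirectSum.Decomposition ℳ] [SetLike.GradedSMul 𝒜 ℳ] in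
theorem mk_add_same (p : ProjectiveSpectrum 𝒜) (a b : M) (s : p.asHomogeneousIdeal.toIdeal.primeCompl) :
    (LocalizedModule.mk (a + b) s : GrMod.LocMod 𝒜 (M := M) p) =
      LocalizedModule.mk a s + LocalizedModule.mk b s := by
  rw [LocalizedModule.mk_add_mk, LocalizedModule.mk_eq]
  refine ⟨1, ?_⟩
  simp only [one_smul, mul_smul, smul_add]

theorem Φ_add (k : ℕ) (x y : M) : Φ 𝒜 ℳ f hf k (x + y) = Φ 𝒜 ℳ f hf k x + Φ 𝒜 ℳ f hf k y := by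
  apply ext₀
  intro p hp
  rw [v₀_add, Φ_val, Φ_val, Φ_val, ← mk_add_same]
  simp only [DirectSum.decompose_add, DirectSum.add_apply, AddMemClass.coe_add]

theorem Φ_eq_zero (k : ℕ) (x : M) (h : (DirectSum.decompose ℳ x k : M) = 0) :
    Φ 𝒜 ℳ f hf k x = 0 := by
  apply ext₀
  intro p hp
  rw [v₀_zero, Φ_val, h, LocalizedModule.zero_mk]

theorem pr_smul_lt {j : ℕ} {a : A} (ha : a ∈ 𝒜 j) (k : ℕ) (hk : k < j) (z : M) :
    (DirectSum.decompose ℳ (a • z) k : M) = 0 := by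
  classical
  induction z using DirectSum.Decomposition.inductionOn ℳ with
  | zero => simp
  | @homogeneous i z =>
    have hmem : a • (z : M) ∈ ℳ (j + i) := SetLike.GradedSMul.smul_mem ha z.2
    exact DirectSum.decompose_of_mem_ne ℳ hmem (by omega)
  | add x y hx hy =>
    rw [smul_add, DirectSum.decompose_add, DirectSum.add_apply, AddMemClass.coe_add, hx, hy, add_zero]

theorem mem_smul_one {j : ℕ} {a : A} (ha : a ∈ 𝒜 j) : a ∈ 𝒜 (j • 1) := by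
  rw [smul_eq_mul, mul_one]; exact ha

theorem Φ_smul {j : ℕ} {a : A} (ha : a ∈ 𝒜 j) (k : ℕ) (x : M) :
    Φ 𝒜 ℳ f hf (j + k) (a • x) =
      act (R' := .of (Away 𝒜 f)) ((GrMod.tilde 𝒜 ℳ 0).restrict (Proj.awayι 𝒜 f hf Nat.one_pos)) ⊤
        (Away.mk 𝒜 hf j a (mem_smul_one 𝒜 ha)) (Φ 𝒜 ℳ f hf k x) := by
  apply ext₀
  intro p hp
  have hfp := notMem 𝒜 f hf p hp
  refine Eq.trans ?_ (act_val 𝒜 ℳ 0 f hf Nat.one_pos ⊤ _ (Φ 𝒜 ℳ f hf k x) p hp hfp).symm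
  have h1 : (HomogeneousLocalization.mapId 𝒜 (show Submonoid.powers f ≤
      p.asHomogeneousIdeal.toIdeal.primeCompl from Submonoid.powers_le.mpr hfp)
        (Away.mk 𝒜 hf j a (mem_smul_one 𝒜 ha))).val =
      Localization.mk a (⟨f ^ j, pow_notMem 𝒜 f hf j p hp⟩ :
        p.asHomogeneousIdeal.toIdeal.primeCompl) := rfl
  rw [h1]
  have h2 := Φ_val 𝒜 ℳ f hf k x p hp
  have h3 := Φ_val 𝒜 ℳ f hf (j + k) (a • x) p hp
  refine h3.trans ?_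
  refine Eq.trans ?_ (congrArg _ h2.symm)
  rw [mk_smul_mk']
  have h4 : (DirectSum.decompose ℳ (a • x) (j + k) : M) = a • (DirectSum.decompose ℳ x k : M) :=
    GrModSect.pr_smul_left 𝒜 ℳ ha k x
  rw [h4]
  congr 1
  exact Subtype.ext (pow_add f j k)


noncomputable instance instModΓ₀ : Module (CommRingCat.of (Away 𝒜 f)) (Γ₀ 𝒜 ℳ f hf) :=
  Scheme.Modules.instModuleCarrierCarrierObjOppositeOpensCarrierCarrierCommRingCatSpecAbPresheafOp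
    (R := CommRingCat.of (Away 𝒜 f))

theorem Φ_smul_mem (S : Submodule (CommRingCat.of (Away 𝒜 f)) (Γ₀ 𝒜 ℳ f hf)) (a : A) (x : M)
    (hx : ∀ k, Φ 𝒜 ℳ f hf k x ∈ S) (k : ℕ) : Φ 𝒜 ℳ f hf k (a • x) ∈ S := by
  classical
  induction a using DirectSum.Decomposition.inductionOn 𝒜 generalizing k with
  | zero => rw [zero_smul]; exact (Φ_eq_zero 𝒜 ℳ f hf k 0 (by simp)) ▸ S.zero_mem
  | @homogeneous j a =>
    by_cases hjk : j ≤ k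
    · obtain ⟨k', rfl⟩ := Nat.exists_eq_add_of_le hjk
      rw [Φ_smul 𝒜 ℳ f hf a.2 k' x, act_def]
      exact S.smul_mem _ (hx k')
    · rw [Φ_eq_zero 𝒜 ℳ f hf k _ (pr_smul_lt 𝒜 ℳ a.2 k (by omega) x)]
      exact S.zero_mem
  | add a b ha hb =>
    rw [add_smul, Φ_add]
    exact S.add_mem (ha k) (hb k)

theorem Φ_of_mem_ne {d : ℕ} {t : M} (ht : t ∈ ℳ d) (k : ℕ) (hk : d ≠ k) :
    Φ 𝒜 ℳ f hf k t = 0 :=
  Φ_eq_zero 𝒜 ℳ f hf k t (DirectSum.decompose_of_mem_ne ℳ ht hk)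

/-- every section over `D₊(f)` is of the form `x/f^k` -/
theorem exists_eq_Φ (s : Γ₀ 𝒜 ℳ f hf) : ∃ (k : ℕ) (x : M), x ∈ ℳ k ∧ s = Φ 𝒜 ℳ f hf k x := by
  have hW : ((Proj.awayι 𝒜 f hf Nat.one_pos) ''ᵁ ⊤ : Opens (ProjectiveSpectrum.top 𝒜)) =
      (ProjectiveSpectrum.basicOpen 𝒜 f : Opens (ProjectiveSpectrum.top 𝒜)) := by
    rw [Scheme.Hom.image_top_eq_opensRange, Proj.opensRange_awayι]
    rfl
  obtain ⟨k, i, m, hi, hval⟩ := main' 𝒜 ℳ 0 ((Proj.awayι 𝒜 f hf Nat.one_pos) ''ᵁ ⊤)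
    Nat.one_pos hf hW (show GrMod.sect 𝒜 ℳ 0 (op ((Proj.awayι 𝒜 f hf Nat.one_pos) ''ᵁ ⊤)) from s)
  have hik : i = k := by
    have : (i : ℤ) = k := by rw [hi]; simp
    exact_mod_cast this
  subst hik
  refine ⟨i, m.1, m.2, ?_⟩
  apply ext₀
  intro p hp
  rw [Φ_val, DirectSum.decompose_of_mem_same ℳ m.2]
  exact hval p hp (notMem 𝒜 f hf p hp)

theorem Φ_shift (n₀ k : ℕ) (x : M) :
    Φ 𝒜 ℳ f hf k x = Φ 𝒜 ℳ f hf (n₀ + k) (f ^ n₀ • x) := by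
  apply ext₀
  intro p hp
  rw [Φ_val, Φ_val]
  have hmem : f ^ n₀ ∈ 𝒜 n₀ := by
    have := pow_mem 𝒜 f hf n₀
    rwa [smul_eq_mul, mul_one] at this
  have h4 : (DirectSum.decompose ℳ (f ^ n₀ • x) (n₀ + k) : M) =
      f ^ n₀ • (DirectSum.decompose ℳ x k : M) := GrModSect.pr_smul_left 𝒜 ℳ hmem k x
  rw [h4, LocalizedModule.mk_eq]
  refine ⟨1, ?_⟩
  simp only [one_smul, Submonoid.smul_def, smul_smul]
  congr 1
  rw [pow_add, mul_comm]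

/-- (TF) implies finiteness of the sections over `D₊(f)`, `f` of degree one -/
theorem finite_of_TF
    (hTF : ∃ n₀ : ℕ, (Submodule.span A (⋃ k ∈ Set.Ici n₀, (ℳ k : Set M))).FG) :
    Module.Finite (CommRingCat.of (Away 𝒜 f)) (Γ₀ 𝒜 ℳ f hf) := by
  classical
  obtain ⟨n₀, hFG⟩ := hTF
  rw [Submodule.fg_span_iff_fg_span_finset_subset] at hFG
  obtain ⟨T, hTsub, hTspan⟩ := hFG
  have hdeg : ∀ t : T, ∃ d : ℕ, n₀ ≤ d ∧ (t : M) ∈ ℳ d := by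
    intro t
    have := hTsub t.2
    simp only [Set.mem_iUnion, Set.mem_Ici, SetLike.mem_coe, exists_prop] at this
    exact this
  choose dg hdg hmem using hdeg
  let S : Submodule (CommRingCat.of (Away 𝒜 f)) (Γ₀ 𝒜 ℳ f hf) :=
    Submodule.span _ (Set.range fun t : T => Φ 𝒜 ℳ f hf (dg t) (t : M))
  have key : ∀ m ∈ Submodule.span A (T : Set M), ∀ k, Φ 𝒜 ℳ f hf k m ∈ S := by
    intro m hm
    induction hm using Submodule.span_induction with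
    | mem t ht =>
      intro k
      by_cases hk : dg ⟨t, ht⟩ = k
      · subst hk
        exact Submodule.subset_span ⟨⟨t, ht⟩, rfl⟩
      · rw [Φ_of_mem_ne 𝒜 ℳ f hf (hmem ⟨t, ht⟩) k hk]
        exact S.zero_mem
    | zero => intro k; rw [Φ_eq_zero 𝒜 ℳ f hf k 0 (by simp)]; exact S.zero_mem
    | add x y _ _ hx hy => intro k; rw [Φ_add]; exact S.add_mem (hx k) (hy k)
    | smul a x _ hx => intro k; exact Φ_smul_mem 𝒜 ℳ f hf S a x hx k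
  have htop : S = ⊤ := by
    rw [eq_top_iff]
    intro s _
    obtain ⟨k, x, hx, rfl⟩ := exists_eq_Φ 𝒜 ℳ f hf s
    rw [Φ_shift 𝒜 ℳ f hf n₀ k x]
    apply key
    rw [← hTspan]
    apply Submodule.subset_span
    simp only [Set.mem_iUnion, Set.mem_Ici, SetLike.mem_coe, exists_prop]
    refine ⟨n₀ + k, Nat.le_add_right _ _, ?_⟩
    have hmem' : f ^ n₀ ∈ 𝒜 n₀ := by
      have := pow_mem 𝒜 f hf n₀
      rwa [smul_eq_mul, mul_one] at this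
    exact SetLike.GradedSMul.smul_mem hmem' hx
  rw [Module.finite_def, ← htop]
  exact Submodule.fg_span (Set.finite_range _)

end Groth.Agent.Helper1.GrModFT
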