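import Mathlib
import Groth.Prelude.Def_GrMod3

/-!
# Sections of `M(n)~` over basic opens, for gradings by additive subgroups (helper1 library)
Port of `GrTildeLib`/`GrSect` to the `GrMod` prelude.
-/

open DirectSum CategoryTheory AlgebraicGeometry TopologicalSpace Opposite

universe u

namespace Groth.Agent.Helper1.GrModLib

section
variable {A σ : Type u} [CommRing A] [SetLike σ A] [AddSubgroupClass σ A] (𝒜 : ℕ → σ)
  [GradedRing 𝒜] {M τ : Type u} [AddCommGroup M] [Module A M] [SetLike τ M]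
  [AddSubgroupClass τ M] (ℳ : ℕ → τ) [SetLike.GradedSMul 𝒜 ℳ] [DirectSum.Decomposition ℳ]

/-- projection onto the `n`-th graded piece, as an additive map `M → M`. -/
noncomputable def pr (n : ℕ) : M →+ M :=
  AddMonoidHom.mk' (fun x => ((DirectSum.decompose ℳ x) n : M)) (by
    intro a b
    rw [DirectSum.decompose_add, DirectSum.add_apply, AddMemClass.coe_add])

omit [SetLike.GradedSMul 𝒜 ℳ] in
theorem pr_of_mem_same {n : ℕ} {x : M} (hx : x ∈ ℳ n) : pr ℳ n x = x :=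
  DirectSum.decompose_of_mem_same ℳ hx

omit [SetLike.GradedSMul 𝒜 ℳ] in
theorem pr_of_mem_ne {i n : ℕ} {x : M} (hx : x ∈ ℳ i) (h : i ≠ n) : pr ℳ n x = 0 :=
  DirectSum.decompose_of_mem_ne ℳ hx h

omit [SetLike.GradedSMul 𝒜 ℳ] in
theorem pr_mem (n : ℕ) (x : M) : pr ℳ n x ∈ ℳ n := SetLike.coe_mem _

theorem pr_smul (a : A) {y : M} {e : ℕ} (hy : y ∈ ℳ e) (n : ℕ) :
    pr ℳ n (a • y) = if e ≤ n then ((DirectSum.decompose 𝒜 a (n - e) : A)) • y else 0 := by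
  classical
  have ha : a • y = ∑ i ∈ (DirectSum.decompose 𝒜 a).support,
      (DirectSum.decompose 𝒜 a i : A) • y := by
    rw [← Finset.sum_smul, DirectSum.sum_support_decompose]
  have hterm : ∀ i, pr ℳ n ((DirectSum.decompose 𝒜 a i : A) • y) =
      if i + e = n then (DirectSum.decompose 𝒜 a i : A) • y else 0 := by
    intro i
    have hmem : (DirectSum.decompose 𝒜 a i : A) • y ∈ ℳ (i + e) := by
      have := SetLike.GradedSMul.smul_mem (A := 𝒜) (B := ℳ) (DirectSum.decompose 𝒜 a i).2 hy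
      simpa [vadd_eq_add] using this
    split_ifs with h
    · exact pr_of_mem_same ℳ (h ▸ hmem)
    · exact pr_of_mem_ne ℳ hmem h
  rw [ha, map_sum]
  simp_rw [hterm]
  split_ifs with hen
  · rw [Finset.sum_eq_single (n - e)]
    · rw [if_pos (Nat.sub_add_cancel hen)]
    · intro i _ hi
      rw [if_neg]
      omega
    · intro hns
      rw [DFinsupp.notMem_support_iff] at hns
      rw [if_pos (Nat.sub_add_cancel hen), hns]
      simp
  · apply Finset.sum_eq_zero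
    intro i _
    rw [if_neg]
    omega

theorem pr_smul_left {e : ℕ} {h : A} (hh : h ∈ 𝒜 e) (I : ℕ) (z : M) :
    pr ℳ (e + I) (h • z) = h • pr ℳ I z := by
  classical
  induction z using DirectSum.Decomposition.inductionOn ℳ with
  | zero => simp
  | @homogeneous j z =>
    have hmem : h • (z : M) ∈ ℳ (e + j) := SetLike.GradedSMul.smul_mem hh z.2
    by_cases hj : j = I
    · subst hj
      rw [pr_of_mem_same ℳ hmem, pr_of_mem_same ℳ z.2]
    · rw [pr_of_mem_ne ℳ hmem (by omega), pr_of_mem_ne ℳ z.2 hj, smul_zero]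
  | add a b ha hb => rw [smul_add, map_add, map_add, smul_add, ha, hb]

/-- if `t • m = 0` with `m` homogeneous then every homogeneous component of `t` kills `m` -/
theorem comp_smul_eq_zero {i : ℕ} {m : M} (hm : m ∈ ℳ i) {t : A} (ht : t • m = 0) (j : ℕ) :
    (decompose 𝒜 t j : A) • m = 0 := by
  have h := pr_smul 𝒜 ℳ t hm (j + i)
  rw [ht, map_zero, if_pos (Nat.le_add_left i j), Nat.add_sub_cancel] at h
  exact h.symm

omit [AddSubgroupClass τ M] [SetLike.GradedSMul 𝒜 ℳ] [DirectSum.Decomposition ℳ] in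
/-- a homogeneous prime avoiding `f` and containing a given homogeneous ideal disjoint from the
powers of `f` -/
theorem exists_point_of_disjoint {d : ℕ} (hd : 0 < d) {f : A} (hf : f ∈ 𝒜 d) (I : Ideal A)
    (hIhom : I.IsHomogeneous 𝒜) (hdisj : ∀ N : ℕ, f ^ N ∉ I) :
    ∃ x : ProjectiveSpectrum 𝒜, f ∉ x.asHomogeneousIdeal ∧ I ≤ x.asHomogeneousIdeal.toIdeal := by
  classical
  have hdisj' : Disjoint (I : Set A) (Submonoid.powers f) := by
    rw [Set.disjoint_right]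
    rintro _ ⟨N, rfl⟩ hmem
    exact hdisj N hmem
  obtain ⟨P, hP, hIP, hPf⟩ := Ideal.exists_le_prime_disjoint I (Submonoid.powers f) hdisj'
  have hfP : f ∉ P := fun h => Set.disjoint_right.mp hPf ⟨1, pow_one f⟩ h
  have hcore : (Ideal.homogeneousCore 𝒜 P).toIdeal.IsPrime := hP.homogeneousCore
  have hfcore : f ∉ (Ideal.homogeneousCore 𝒜 P).toIdeal := fun h =>
    hfP (Ideal.toIdeal_homogeneousCore_le 𝒜 P h)
  have hIcore : I ≤ (Ideal.homogeneousCore 𝒜 P).toIdeal := by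
    have h1 := Ideal.homogeneousCore_mono 𝒜 hIP
    have h2 : (Ideal.homogeneousCore 𝒜 I).toIdeal = I :=
      hIhom.toIdeal_homogeneousCore_eq_self
    rw [← h2]
    exact h1
  let x : ProjectiveSpectrum 𝒜 :=
    { asHomogeneousIdeal := Ideal.homogeneousCore 𝒜 P
      isPrime := hcore
      not_irrelevant_le := fun hle =>
        hfcore (hle (HomogeneousIdeal.mem_irrelevant_of_mem 𝒜 hd hf)) }
  exact ⟨x, hfcore, hIcore⟩

/-- a homogeneous prime avoiding `f` and containing all annihilators of `m`, if no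
power of `f` kills `m` -/
theorem exists_point_of_forall_pow_smul_ne {d : ℕ} (hd : 0 < d) {f : A} (hf : f ∈ 𝒜 d)
    {i : ℕ} {m : M} (hm : m ∈ ℳ i) (hne : ∀ N : ℕ, f ^ N • m ≠ 0) :
    ∃ x : ProjectiveSpectrum 𝒜, f ∉ x.asHomogeneousIdeal ∧
      ∀ t : A, t • m = 0 → t ∈ x.asHomogeneousIdeal := by
  classical
  let G : Set A := {t | SetLike.IsHomogeneousElem 𝒜 t ∧ t • m = 0}
  let I : Ideal A := Ideal.span G
  have hIhom : I.IsHomogeneous 𝒜 := Ideal.homogeneous_span 𝒜 G fun t ht => ht.1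
  have hIann : ∀ t ∈ I, t • m = 0 := by
    intro t ht
    refine Submodule.span_induction (p := fun t _ => t • m = 0) ?_ ?_ ?_ ?_ ht
    · intro t ht
      exact ht.2
    · exact zero_smul _ _
    · intro a b _ _ ha hb
      rw [add_smul, ha, hb, add_zero]
    · intro a b _ hb
      rw [smul_eq_mul, mul_smul, hb, smul_zero]
  obtain ⟨x, hxf, hIx⟩ := exists_point_of_disjoint 𝒜 hd hf I hIhom
    (fun N hmem => hne N (hIann _ hmem))
  refine ⟨x, hxf, fun t ht => ?_⟩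
  rw [← DirectSum.sum_support_decompose 𝒜 t]
  refine Ideal.sum_mem _ fun j _ => ?_
  apply hIx
  exact Ideal.subset_span ⟨⟨j, SetLike.coe_mem _⟩, comp_smul_eq_zero 𝒜 ℳ hm ht j⟩

/-- a homogeneous element whose fraction vanishes at all points of `D₊(f)` is killed by a power
of `f` -/
theorem exists_pow_smul_eq_zero {d : ℕ} (hd : 0 < d) {f : A} (hf : f ∈ 𝒜 d) {i : ℕ} {m : M}
    (hm : m ∈ ℳ i)
    (h : ∀ x : ProjectiveSpectrum 𝒜, f ∉ x.asHomogeneousIdeal →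
      ∃ u : A, u ∉ x.asHomogeneousIdeal ∧ u • m = 0) :
    ∃ N : ℕ, f ^ N • m = 0 := by
  by_contra hcon
  push Not at hcon
  obtain ⟨x, hxf, hx⟩ := exists_point_of_forall_pow_smul_ne 𝒜 ℳ hd hf hm hcon
  obtain ⟨u, hu, hum⟩ := h x hxf
  exact hu (hx u hum)

omit [AddSubgroupClass τ M] [SetLike.GradedSMul 𝒜 ℳ] [DirectSum.Decomposition ℳ] in
theorem exists_pow_mem_span {d : ℕ} (hd : 0 < d) {f : A} (hf : f ∈ 𝒜 d) {ι : Type*} (g : ι → A)
    (hg : ∀ a, SetLike.IsHomogeneousElem 𝒜 (g a))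
    (hcov : ∀ y : ProjectiveSpectrum 𝒜, f ∉ y.asHomogeneousIdeal →
      ∃ a, g a ∉ y.asHomogeneousIdeal) :
    ∃ K : ℕ, f ^ K ∈ Ideal.span (Set.range g) := by
  classical
  by_contra hcon
  push Not at hcon
  have hIhom : (Ideal.span (Set.range g)).IsHomogeneous 𝒜 :=
    Ideal.homogeneous_span 𝒜 _ (by rintro _ ⟨a, rfl⟩; exact hg a)
  obtain ⟨x, hxf, hIx⟩ := exists_point_of_disjoint 𝒜 hd hf _ hIhom hcon
  obtain ⟨a, ha⟩ := hcov x hxf
  exact ha (hIx (Ideal.subset_span ⟨a, rfl⟩))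

/-- local description of a section near a point of `D₊(f)` by a fraction `m / h`
with `D₊(h)` a neighbourhood -/
theorem local_data (n : ℤ) {d : ℕ} (hd : 0 < d) {f : A} (hf : f ∈ 𝒜 d)
    (s : GrMod.sect 𝒜 ℳ n (op (ProjectiveSpectrum.basicOpen 𝒜 f)))
    (x : ProjectiveSpectrum.basicOpen 𝒜 f) :
    ∃ (e : ℕ) (h : A) (i : ℕ) (m : M), 0 < e ∧ h ∈ 𝒜 e ∧ m ∈ ℳ i ∧ (i : ℤ) = e + n ∧
      h ∉ x.1.asHomogeneousIdeal ∧
      (∀ y : ProjectiveSpectrum 𝒜, h ∉ y.asHomogeneousIdeal → f ∉ y.asHomogeneousIdeal) ∧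
      ∀ (y : ProjectiveSpectrum.basicOpen 𝒜 f) (hy : h ∉ y.1.asHomogeneousIdeal),
        ((s.1 y : GrMod.tildeAt 𝒜 ℳ n y.1) : GrMod.LocMod 𝒜 (M := M) y.1) =
          LocalizedModule.mk m ⟨h, hy⟩ := by
  classical
  obtain ⟨V, hxV, ι, i', j', m, t, t_nin, hdeg, hw⟩ := s.2 x
  obtain ⟨_, ⟨r, rfl⟩, hxr, hrV⟩ :=
    (ProjectiveSpectrum.isTopologicalBasis_basic_opens 𝒜).exists_subset_of_mem_open hxV V.isOpen
  -- a homogeneous component of r not in x
  obtain ⟨c, hc⟩ : ∃ c : ℕ, (decompose 𝒜 r c : A) ∉ x.1.asHomogeneousIdeal := by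
    by_contra hcon
    push Not at hcon
    apply hxr
    show r ∈ x.1.asHomogeneousIdeal
    rw [← DirectSum.sum_support_decompose 𝒜 r]
    exact Ideal.sum_mem _ fun i _ => hcon i
  set g : A := (decompose 𝒜 r c : A) with hgdef
  have hg : g ∈ 𝒜 c := SetLike.coe_mem _
  have hgV : ∀ y : ProjectiveSpectrum 𝒜, g ∉ y.asHomogeneousIdeal → y ∈ V := by
    intro y hy
    apply hrV
    show r ∉ y.asHomogeneousIdeal
    intro hr
    exact hy (y.asHomogeneousIdeal.isHomogeneous c hr)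
  set N : ℕ := 1 + n.natAbs with hN
  have hfN : f ^ N ∈ 𝒜 (N * d) := by
    have := SetLike.pow_mem_graded N hf
    simpa [smul_eq_mul] using this
  have hfx : f ∉ x.1.asHomogeneousIdeal := x.2
  set h : A := f ^ N * g * t.1 with hh
  have hhmem : h ∈ 𝒜 (N * d + c + j') :=
    SetLike.mul_mem_graded (SetLike.mul_mem_graded hfN hg) t.2
  have hhx : h ∉ x.1.asHomogeneousIdeal := by
    intro hmem
    rcases x.1.isPrime.mem_or_mem hmem with h1 | h1
    · rcases x.1.isPrime.mem_or_mem h1 with h2 | h2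
      · exact hfx (x.1.isPrime.mem_of_pow_mem N h2)
      · exact hc h2
    · exact t_nin ⟨x.1, hxV⟩ h1
  have hgy : ∀ y : ProjectiveSpectrum 𝒜, h ∉ y.asHomogeneousIdeal → g ∉ y.asHomogeneousIdeal := by
    intro y hy hgy
    apply hy
    rw [hh]
    exact Ideal.mul_mem_right _ _ (Ideal.mul_mem_left _ _ hgy)
  have key : ∀ (y : ProjectiveSpectrum.basicOpen 𝒜 f) (hy : h ∉ y.1.asHomogeneousIdeal),
      ((s.1 y : GrMod.tildeAt 𝒜 ℳ n y.1) : GrMod.LocMod 𝒜 (M := M) y.1) =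
        LocalizedModule.mk ((f ^ N * g) • m.1) ⟨h, hy⟩ := by
    intro y hy
    have hyV : y.1 ∈ V := hgV y.1 (hgy y.1 hy)
    have h1 : ((s.1 y : GrMod.tildeAt 𝒜 ℳ n y.1) : GrMod.LocMod 𝒜 (M := M) y.1) =
        LocalizedModule.mk m.1 ⟨t.1, t_nin ⟨y.1, hyV⟩⟩ := hw ⟨y.1, hyV⟩
    rw [h1, LocalizedModule.mk_eq]
    refine ⟨1, ?_⟩
    simp only [one_smul]
    show h • m.1 = t.1 • (f ^ N * g) • m.1
    rw [hh, smul_smul]
    congr 1
    ring
  have hfy : ∀ y : ProjectiveSpectrum 𝒜, h ∉ y.asHomogeneousIdeal → f ∉ y.asHomogeneousIdeal := by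
    intro y hy hfy
    apply hy
    rw [hh]
    refine Ideal.mul_mem_right _ _ (Ideal.mul_mem_right _ _ ?_)
    exact Ideal.pow_mem_of_mem _ hfy N (by omega)
  have hNd : N ≤ N * d := Nat.le_mul_of_pos_right N hd
  have hepos : 0 < N * d + c + j' := by omega
  rcases hdeg with hdeg | hm0
  · exact ⟨N * d + c + j', h, N * d + c + i', (f ^ N * g) • m.1, hepos, hhmem,
      SetLike.GradedSMul.smul_mem (SetLike.mul_mem_graded hfN hg) m.2, by push_cast; omega,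
      hhx, hfy, key⟩
  · refine ⟨N * d + c + j', h, (((N * d + c + j' : ℕ) : ℤ) + n).toNat, 0, hepos, hhmem,
      zero_mem _, ?_, hhx, hfy, ?_⟩
    · rw [Int.toNat_of_nonneg]
      push_cast
      omega
    · intro y hy
      rw [key y hy, hm0, smul_zero]

theorem main (n : ℤ) {d : ℕ} (hd : 0 < d) {f : A} (hf : f ∈ 𝒜 d)
    (s : GrMod.sect 𝒜 ℳ n (op (ProjectiveSpectrum.basicOpen 𝒜 f))) :
    ∃ (k i : ℕ) (m : ℳ i), (i : ℤ) = k * d + n ∧
      ∀ x : ProjectiveSpectrum.basicOpen 𝒜 f,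
        ((s.1 x : GrMod.tildeAt 𝒜 ℳ n x.1) : GrMod.LocMod 𝒜 (M := M) x.1) =
          (LocalizedModule.mk m.1 ⟨f ^ k, fun h => (ProjectiveSpectrum.mem_basicOpen 𝒜 f x.1).mp x.2
            (x.1.isPrime.mem_of_pow_mem k h)⟩ : GrMod.LocMod 𝒜 (M := M) x.1) := by
  classical
  choose e h i m hepos hhmem hmmem hdeg hhx hhf hloc using local_data 𝒜 ℳ n hd hf s
  -- finite subcover
  obtain ⟨K₀, hK₀⟩ := exists_pow_mem_span 𝒜 hd hf h (fun a => ⟨e a, hhmem a⟩)
    (fun y hy => ⟨⟨y, hy⟩, hhx ⟨y, hy⟩⟩)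
  obtain ⟨c₀, hc₀⟩ := (Finsupp.mem_ideal_span_range_iff_exists_finsupp).1 hK₀
  set T : Finset (ProjectiveSpectrum.basicOpen 𝒜 f) := c₀.support with hT
  have hcovT : ∀ y : ProjectiveSpectrum 𝒜, f ∉ y.asHomogeneousIdeal →
      ∃ a ∈ T, h a ∉ y.asHomogeneousIdeal := by
    intro y hy
    by_contra hcon
    push Not at hcon
    apply hy
    apply y.isPrime.mem_of_pow_mem K₀
    rw [← hc₀]
    exact Ideal.sum_mem _ fun a ha => Ideal.mul_mem_left _ _ (hcon a ha)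
  -- gluing exponents
  have hpair : ∀ a b : ProjectiveSpectrum.basicOpen 𝒜 f,
      ∃ N : ℕ, (h a * h b) ^ N • (h b • m a - h a • m b) = 0 := by
    intro a b
    have hab : h a * h b ∈ 𝒜 (e a + e b) := SetLike.mul_mem_graded (hhmem a) (hhmem b)
    have h1 : h b • m a ∈ ℳ (e b + i a) := SetLike.GradedSMul.smul_mem (hhmem b) (hmmem a)
    have h2 : h a • m b ∈ ℳ (e b + i a) := by
      have : h a • m b ∈ ℳ (e a + i b) := SetLike.GradedSMul.smul_mem (hhmem a) (hmmem b)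
      have e1 : e a + i b = e b + i a := by
        have := hdeg a
        have := hdeg b
        omega
      rwa [e1] at this
    refine exists_pow_smul_eq_zero 𝒜 ℳ (d := e a + e b) (by have := hepos a; omega) hab
      (sub_mem h1 h2) ?_
    intro x hx
    have hxa : h a ∉ x.asHomogeneousIdeal := fun hmem => hx (Ideal.mul_mem_right _ _ hmem)
    have hxb : h b ∉ x.asHomogeneousIdeal := fun hmem => hx (Ideal.mul_mem_left _ _ hmem)
    have hxf : f ∉ x.asHomogeneousIdeal := hhf a x hxa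
    have ea := hloc a ⟨x, hxf⟩ hxa
    have eb := hloc b ⟨x, hxf⟩ hxb
    rw [ea, LocalizedModule.mk_eq] at eb
    obtain ⟨u, hu⟩ := eb
    refine ⟨u.1, u.2, ?_⟩
    show u • (h b • m a - h a • m b) = 0
    rw [smul_sub]
    exact sub_eq_zero.2 hu
  choose Nab hNab using hpair
  set N : ℕ := T.sup (fun a => T.sup (fun b => Nab a b)) with hNdef
  have hN : ∀ a ∈ T, ∀ b ∈ T, (h a * h b) ^ N • (h b • m a - h a • m b) = 0 := by
    intro a ha b hb
    have hle : Nab a b ≤ N :=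
      (Finset.le_sup (f := fun b => Nab a b) hb).trans
        (Finset.le_sup (f := fun a => T.sup (fun b => Nab a b)) ha)
    obtain ⟨k, hk⟩ := Nat.exists_eq_add_of_le hle
    rw [hk, pow_add, mul_comm, mul_smul, hNab, smul_zero]
  have hcross : ∀ a ∈ T, ∀ b ∈ T,
      h b ^ (N + 1) • h a ^ N • m a = h a ^ (N + 1) • h b ^ N • m b := by
    intro a ha b hb
    have := hN a ha b hb
    rw [smul_sub, sub_eq_zero] at this
    calc h b ^ (N + 1) • h a ^ N • m a = (h a * h b) ^ N • h b • m a := by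
          rw [smul_smul, smul_smul]; congr 1; ring
      _ = (h a * h b) ^ N • h a • m b := this
      _ = h a ^ (N + 1) • h b ^ N • m b := by
          rw [smul_smul, smul_smul]; congr 1; ring
  -- second cover
  obtain ⟨K₁, hK₁⟩ := exists_pow_mem_span 𝒜 hd hf (fun a : T => h a.1 ^ (N + 1))
    (fun a => ⟨(N + 1) • e a.1, SetLike.pow_mem_graded _ (hhmem a.1)⟩)
    (fun y hy => by
      obtain ⟨a, ha, hay⟩ := hcovT y hy
      exact ⟨⟨a, ha⟩, fun hmem => hay (y.isPrime.mem_of_pow_mem _ hmem)⟩)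
  obtain ⟨c, hc⟩ := (Ideal.mem_span_range_iff_exists_fun).1 hK₁
  set K : ℕ := K₁ + n.natAbs with hKdef
  set C : T → A := fun a => f ^ n.natAbs * c a with hCdef
  have hC : ∑ a : T, C a * h a.1 ^ (N + 1) = f ^ K := by
    rw [hKdef, pow_add, ← hc, Finset.sum_mul, Finset.sum_congr rfl]
    intro a _
    rw [hCdef]
    ring
  set I : ℕ := ((K * d : ℕ) + n).toNat with hIdef
  have hKd : K ≤ K * d := Nat.le_mul_of_pos_right K hd
  have hI : (I : ℤ) = K * d + n := by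
    rw [hIdef, Int.toNat_of_nonneg]
    · push_cast; rfl
    · push_cast
      omega
  set z : M := ∑ a : T, C a • h a.1 ^ N • m a.1 with hzdef
  have hfin : ∀ b : T, h b.1 ^ (N + 1) • pr ℳ I z = f ^ K • h b.1 ^ N • m b.1 := by
    intro b
    have hb1 : h b.1 ^ (N + 1) ∈ 𝒜 ((N + 1) * e b.1) := by
      have := SetLike.pow_mem_graded (N + 1) (hhmem b.1)
      simpa [smul_eq_mul] using this
    rw [← pr_smul_left 𝒜 ℳ hb1 I z]
    have hz : h b.1 ^ (N + 1) • z = f ^ K • h b.1 ^ N • m b.1 := by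
      rw [hzdef, Finset.smul_sum, ← hC, Finset.sum_smul]
      refine Finset.sum_congr rfl fun a _ => ?_
      rw [smul_comm, hcross a.1 a.2 b.1 b.2, smul_smul]
    rw [hz]
    apply pr_of_mem_same
    have hfK : f ^ K ∈ 𝒜 (K * d) := by
      have := SetLike.pow_mem_graded K hf
      simpa [smul_eq_mul] using this
    have hbN : h b.1 ^ N ∈ 𝒜 (N * e b.1) := by
      have := SetLike.pow_mem_graded N (hhmem b.1)
      simpa [smul_eq_mul] using this
    have hmem : f ^ K • h b.1 ^ N • m b.1 ∈ ℳ (K * d + (N * e b.1 + i b.1)) :=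
      SetLike.GradedSMul.smul_mem hfK (SetLike.GradedSMul.smul_mem hbN (hmmem b.1))
    have e1 : K * d + (N * e b.1 + i b.1) = (N + 1) * e b.1 + I := by
      have := hdeg b.1
      zify
      rw [hI, this]
      ring
    rwa [e1] at hmem
  refine ⟨K, I, ⟨pr ℳ I z, SetLike.coe_mem _⟩, hI, fun x => ?_⟩
  obtain ⟨b, hbT, hbx⟩ := hcovT x.1 x.2
  rw [hloc b x hbx, LocalizedModule.mk_eq]
  refine ⟨⟨h b ^ N, fun hmem => hbx (x.1.isPrime.mem_of_pow_mem _ hmem)⟩, ?_⟩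
  show h b ^ N • f ^ K • m b = h b ^ N • h b • pr ℳ I z
  rw [smul_smul (h b ^ N) (h b), ← pow_succ, hfin ⟨b, hbT⟩, smul_comm]


end

section Exact
variable {A σ : Type u} [CommRing A] [SetLike σ A] [AddSubgroupClass σ A] (𝒜 : ℕ → σ)
  [GradedRing 𝒜]

/-- a degree-preserving map commutes with the projections -/
theorem map_pr {M₁ τ₁ : Type u} [AddCommGroup M₁] [Module A M₁] [SetLike τ₁ M₁]
    [AddSubgroupClass τ₁ M₁] (ℳ₁ : ℕ → τ₁) [DirectSum.Decomposition ℳ₁]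
    {M₂ τ₂ : Type u} [AddCommGroup M₂] [Module A M₂] [SetLike τ₂ M₂] [AddSubgroupClass τ₂ M₂]
    (ℳ₂ : ℕ → τ₂) [DirectSum.Decomposition ℳ₂]
    (u : M₁ →ₗ[A] M₂) (hu : ∀ (i : ℕ) (m : M₁), m ∈ ℳ₁ i → u m ∈ ℳ₂ i) (j : ℕ) (z : M₁) :
    u (pr ℳ₁ j z) = pr ℳ₂ j (u z) := by
  classical
  induction z using DirectSum.Decomposition.inductionOn ℳ₁ with
  | zero => simp
  | @homogeneous i z =>
    by_cases hij : i = j
    · subst hij
      rw [pr_of_mem_same ℳ₁ z.2, pr_of_mem_same ℳ₂ (hu _ _ z.2)]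
    · rw [pr_of_mem_ne ℳ₁ z.2 hij, pr_of_mem_ne ℳ₂ (hu _ _ z.2) hij, map_zero]
  | add a b ha hb => rw [map_add, map_add, map_add, map_add, ha, hb]

variable {M τ : Type u} [AddCommGroup M] [Module A M] [SetLike τ M]
  [AddSubgroupClass τ M] (ℳ : ℕ → τ) [SetLike.GradedSMul 𝒜 ℳ]

/-- the section `m / f^k` of `M(n)~` over `D₊(f)` -/
noncomputable def fracSect {d : ℕ} {f : A} (hf : f ∈ 𝒜 d) (n : ℤ) (k : ℕ) {i : ℕ} {m : M}
    (hm : m ∈ ℳ i) (hi : (i : ℤ) = k * d + n) :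
    GrMod.sect 𝒜 ℳ n (op (ProjectiveSpectrum.basicOpen 𝒜 f)) :=
  have hfk : f ^ k ∈ 𝒜 (k * d) := by
    have := SetLike.pow_mem_graded k hf
    simpa [smul_eq_mul] using this
  have hnin : ∀ y : ProjectiveSpectrum.basicOpen 𝒜 f, f ^ k ∉ y.1.asHomogeneousIdeal :=
    fun y hmem => y.2 (y.1.isPrime.mem_of_pow_mem k hmem)
  have hmem : ∀ y : ProjectiveSpectrum.basicOpen 𝒜 f,
      (LocalizedModule.mk m ⟨f ^ k, hnin y⟩ : GrMod.LocMod 𝒜 (M := M) y.1) ∈
        GrMod.tildeAt 𝒜 ℳ n y.1 := fun y =>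
    Submodule.subset_span ⟨i, k * d, ⟨m, hm⟩, ⟨f ^ k, hfk⟩, hnin y, by push_cast; exact hi, rfl⟩
  ⟨fun y => ⟨LocalizedModule.mk m ⟨f ^ k, hnin y⟩, hmem y⟩,
    fun y => ⟨ProjectiveSpectrum.basicOpen 𝒜 f, y.2, 𝟙 _, i, k * d, ⟨m, hm⟩, ⟨f ^ k, hfk⟩, hnin,
      Or.inl (by push_cast; exact hi), fun _ => rfl⟩⟩

end Exact

section Exact2
variable {A σ : Type u} [CommRing A] [SetLike σ A] [AddSubgroupClass σ A] (𝒜 : ℕ → σ)
    [GradedRing 𝒜] {M₁ τ₁ : Type u} [AddCommGroup M₁] [Module A M₁] [SetLike τ₁ M₁] [AddSubgroupClass τ₁ M₁]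
    (ℳ₁ : ℕ → τ₁) [SetLike.GradedSMul 𝒜 ℳ₁] [DirectSum.Decomposition ℳ₁]
    {M₂ τ₂ : Type u} [AddCommGroup M₂] [Module A M₂] [SetLike τ₂ M₂] [AddSubgroupClass τ₂ M₂]
    (ℳ₂ : ℕ → τ₂) [SetLike.GradedSMul 𝒜 ℳ₂] [DirectSum.Decomposition ℳ₂]
    {M₃ τ₃ : Type u} [AddCommGroup M₃] [Module A M₃] [SetLike τ₃ M₃] [AddSubgroupClass τ₃ M₃]
    (ℳ₃ : ℕ → τ₃) [SetLike.GradedSMul 𝒜 ℳ₃] [DirectSum.Decomposition ℳ₃]

theorem exact_app
    (u : M₁ →ₗ[A] M₂) (hu : ∀ (i : ℕ) (m : M₁), m ∈ ℳ₁ i → u m ∈ ℳ₂ i)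
    (v : M₂ →ₗ[A] M₃) (hv : ∀ (i : ℕ) (m : M₂), m ∈ ℳ₂ i → v m ∈ ℳ₃ i)
    (hex : Function.Exact u v) (n : ℤ) {d : ℕ} (hd : 0 < d) (f : A) (hf : f ∈ 𝒜 d) :
    Function.Exact ((GrMod.map 𝒜 u hu n).app (Proj.basicOpen 𝒜 f))
      ((GrMod.map 𝒜 v hv n).app (Proj.basicOpen 𝒜 f)) := by
  intro y
  constructor
  · intro hy
    -- y = m / f^k
    obtain ⟨k, i, m, hi, hm⟩ := main 𝒜 ℳ₂ n hd hf (y : GrMod.sect 𝒜 ℳ₂ n (op (Proj.basicOpen 𝒜 f)))
    have hvm : ∀ x : ProjectiveSpectrum 𝒜, f ∉ x.asHomogeneousIdeal →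
        ∃ w : A, w ∉ x.asHomogeneousIdeal ∧ w • v m.1 = 0 := by
      intro x hx
      have h0 : GrMod.val ((GrMod.map 𝒜 v hv n).app (Proj.basicOpen 𝒜 f) y) ⟨x, hx⟩ = 0 := by
        rw [hy]; rfl
      rw [GrMod.map_app_val] at h0
      have h1 : GrMod.val y ⟨x, hx⟩ = (LocalizedModule.mk m.1 ⟨f ^ k, fun h =>
          hx (x.isPrime.mem_of_pow_mem k h)⟩ : GrMod.LocMod 𝒜 (M := M₂) x) := hm ⟨x, hx⟩
      rw [h1, GrMod.locMap_mk, ← LocalizedModule.zero_mk
        (1 : x.asHomogeneousIdeal.toIdeal.primeCompl), LocalizedModule.mk_eq] at h0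
      obtain ⟨w, hw⟩ := h0
      rw [smul_zero, smul_zero, one_smul] at hw
      exact ⟨w.1, w.2, hw⟩
    obtain ⟨N, hN⟩ := exists_pow_smul_eq_zero 𝒜 ℳ₃ hd hf (hv _ _ m.2) hvm
    have hN' : v (f ^ N • m.1) = 0 := by rw [map_smul, hN]
    obtain ⟨m', hm'⟩ := (hex _).1 hN'
    have hfN : f ^ N ∈ 𝒜 (N * d) := by
      have := SetLike.pow_mem_graded N hf
      simpa [smul_eq_mul] using this
    have hmem2 : f ^ N • m.1 ∈ ℳ₂ (N * d + i) := SetLike.GradedSMul.smul_mem hfN m.2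
    have hum'' : u (pr ℳ₁ (N * d + i) m') = f ^ N • m.1 := by
      rw [map_pr ℳ₁ ℳ₂ u hu, hm', pr_of_mem_same ℳ₂ hmem2]
    have hi' : ((N * d + i : ℕ) : ℤ) = ((N + k : ℕ) : ℤ) * d + n := by
      push_cast
      rw [hi]
      ring
    refine ⟨fracSect 𝒜 ℳ₁ hf n (N + k) (pr_mem ℳ₁ (N * d + i) m') hi', ?_⟩
    refine Subtype.ext (funext fun x => Subtype.ext ?_)
    have h1 : GrMod.val y x = (LocalizedModule.mk m.1 ⟨f ^ k, fun h =>
        x.2 (x.1.isPrime.mem_of_pow_mem k h)⟩ : GrMod.LocMod 𝒜 (M := M₂) x.1) := hm x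
    refine Eq.trans ?_ h1.symm
    refine (GrMod.locMap_mk u x.1 _ _).trans ?_
    rw [hum'', LocalizedModule.mk_eq]
    refine ⟨1, ?_⟩
    simp only [one_smul]
    show f ^ k • f ^ N • m.1 = f ^ (N + k) • m.1
    rw [smul_smul, ← pow_add, add_comm]
  · rintro ⟨t, rfl⟩
    refine Subtype.ext (funext fun x => Subtype.ext ?_)
    show GrMod.locMap v x.1 (GrMod.locMap u x.1 (GrMod.val t x)) = 0
    induction GrMod.val t x using LocalizedModule.induction_on with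
    | h a s =>
      show (LocalizedModule.map _ v) ((LocalizedModule.map _ u) (LocalizedModule.mk a s)) = 0
      rw [LocalizedModule.map_mk, LocalizedModule.map_mk, hex.apply_apply_eq_zero,
        LocalizedModule.zero_mk]

end Exact2
end Groth.Agent.Helper1.GrModLib
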