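import Mathlib
import Groth.Agent.Lib.Helper1.GrModLib
import Groth.Agent.Lib.Helper1.ProjTop

open DirectSum CategoryTheory AlgebraicGeometry TopologicalSpace Opposite

universe u

namespace Groth.Agent.Helper1.GrModLib2
open Groth.Agent.Helper1.GrModLib

theorem alpha_eq_zero_iff {R σ : Type u} [CommRing R] [IsNoetherianRing R] [SetLike σ R] [AddSubgroupClass σ R]
    (𝒜 : ℕ → σ) [GradedRing 𝒜] {M τ : Type u} [AddCommGroup M] [Module R M] [SetLike τ M] [AddSubgroupClass τ M]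
    (ℳ : ℕ → τ) [SetLike.GradedSMul 𝒜 ℳ] [DirectSum.Decomposition ℳ]
    (i : ℕ) (m : ℳ i) :
    GrMod.alpha 𝒜 ℳ i m = 0 ↔
      ∃ k : ℕ, ∀ r : R, r ∈ (HomogeneousIdeal.irrelevant 𝒜).toIdeal ^ k → r • (m : M) = 0 := by
  classical
  constructor
  · intro h
    have hpt : ∀ x : ProjectiveSpectrum 𝒜, ∃ w : R, w ∉ x.asHomogeneousIdeal ∧ w • (m : M) = 0 := by
      intro x
      have h0 : GrMod.val (GrMod.alpha 𝒜 ℳ i m) ⟨x, trivial⟩ = 0 := by rw [h]; rfl
      have h1 : (LocalizedModule.mk (m : M) 1 : GrMod.LocMod 𝒜 (M := M) x) = 0 := h0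
      rw [← LocalizedModule.zero_mk (1 : x.asHomogeneousIdeal.toIdeal.primeCompl),
        LocalizedModule.mk_eq] at h1
      obtain ⟨w, hw⟩ := h1
      rw [smul_zero, smul_zero, one_smul] at hw
      exact ⟨w.1, w.2, hw⟩
    let J : Ideal R := (Submodule.span R {(m : M)}).annihilator
    have hJ : ∀ r : R, r ∈ J ↔ r • (m : M) = 0 := fun r => Submodule.mem_annihilator_span_singleton _ _
    have hhom : ∀ (e : ℕ), 0 < e → ∀ f ∈ 𝒜 e, f ∈ J.radical := by
      intro e he f hf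
      obtain ⟨N, hN⟩ := exists_pow_smul_eq_zero 𝒜 ℳ he hf m.2 (fun x _ => hpt x)
      exact ⟨N, (hJ _).2 hN⟩
    have hle : (HomogeneousIdeal.irrelevant 𝒜).toIdeal ≤ J.radical := by
      intro r hr
      rw [← DirectSum.sum_support_decompose 𝒜 r]
      refine Ideal.sum_mem _ fun j _ => ?_
      by_cases hj : j = 0
      · subst hj
        have : (decompose 𝒜 r 0 : R) = 0 := (HomogeneousIdeal.mem_irrelevant_iff 𝒜 r).1 hr
        rw [this]; exact zero_mem _
      · exact hhom j (Nat.pos_of_ne_zero hj) _ (SetLike.coe_mem _)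
    obtain ⟨k, hk⟩ := Ideal.exists_pow_le_of_le_radical_of_fg hle (IsNoetherian.noetherian _)
    exact ⟨k, fun r hr => (hJ r).1 (hk hr)⟩
  · rintro ⟨k, hk⟩
    have hz : ∀ x : ProjectiveSpectrum 𝒜,
        (LocalizedModule.mk (m : M) 1 : GrMod.LocMod 𝒜 (M := M) x) = 0 := by
      intro x
      obtain ⟨e, he, f, hf, hfx⟩ := ProjTop.exists_homogeneous_notMem 𝒜 x
      have hfk : f ^ k • (m : M) = 0 :=
        hk _ (Ideal.pow_mem_pow (HomogeneousIdeal.mem_irrelevant_of_mem 𝒜 he hf) k)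
      rw [← LocalizedModule.zero_mk (1 : x.asHomogeneousIdeal.toIdeal.primeCompl),
        LocalizedModule.mk_eq]
      refine ⟨⟨f ^ k, fun hmem => hfx (x.isPrime.mem_of_pow_mem k hmem)⟩, ?_⟩
      rw [smul_zero, smul_zero, one_smul]
      exact hfk
    refine Subtype.ext (funext fun x => Subtype.ext ?_)
    exact hz x.1

end Groth.Agent.Helper1.GrModLib2
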