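import Mathlib
import Groth.Agent.Lib.Helper1.GrModLibN
import Groth.Agent.Lib.Helper1.RelProjFT

universe u
open AlgebraicGeometry CategoryTheory Limits TopologicalSpace Opposite
open scoped HomogeneousIdeal

namespace Groth.Agent.Helper1.GrModTN

variable {A σ : Type u} [CommRing A] [SetLike σ A] [AddSubgroupClass σ A] (𝒜 : ℕ → σ)
  [GradedRing 𝒜]
variable {M τ : Type u} [AddCommGroup M] [Module A M] [SetLike τ M] [AddSubgroupClass τ M]
  (ℳ : ℕ → τ) [DirectSum.Decomposition ℳ] [SetLike.GradedSMul 𝒜 ℳ]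

/-- elements of degree `e` lie in the `e`-th power of the ideal spanned by degree one generators -/
theorem deg_le_pow (T : Finset A) (hT : (↑T : Set A) ⊆ 𝒜 1)
    (hirr : ((𝒜)₊).toIdeal ≤ Ideal.span (T : Set A)) (e : ℕ) (a : A) (ha : a ∈ 𝒜 e) :
    a ∈ (Ideal.span (T : Set A)) ^ e := by
  classical
  induction e generalizing a with
  | zero => rw [pow_zero, Ideal.one_eq_top]; trivial
  | succ e ih =>
    have h1 : a ∈ Ideal.span (T : Set A) :=
      hirr (HomogeneousIdeal.mem_irrelevant_of_mem 𝒜 (Nat.succ_pos e) ha)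
    obtain ⟨c, -, hc⟩ := Submodule.mem_span_finset.1 h1
    have h2 : a = ∑ t ∈ T, (DirectSum.decompose 𝒜 (c t) e : A) * t := by
      have h3 : (DirectSum.decompose 𝒜 a (e + 1) : A) = a := DirectSum.decompose_of_mem_same 𝒜 ha
      rw [← h3, ← hc, DirectSum.decompose_sum, DFinsupp.finsetSum_apply,
        AddSubmonoidClass.coe_finsetSum]
      refine Finset.sum_congr rfl fun t ht => ?_
      rw [smul_eq_mul]
      exact DirectSum.coe_decompose_mul_add_of_right_mem 𝒜 (hT ht)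
    rw [h2, pow_succ]
    exact Ideal.sum_mem _ fun t ht =>
      Ideal.mul_mem_mul (ih _ (SetLike.coe_mem _)) (Ideal.subset_span ht)

/-- (TF) and `M~ = 0` give (TN), for an algebra generated by finitely many degree one elements -/
theorem exists_bound {R : Type*} [CommRing R] (φ : R →+* 𝒜 0)
    (hgen : Subring.closure ((𝒜 0 : Set A) ∪ (𝒜 1 : Set A)) = ⊤)
    (T : Finset A) (hT : (↑T : Set A) ⊆ 𝒜 1)
    (hspan : ∀ x ∈ 𝒜 1, ∃ c : A → R, x = ∑ t ∈ T, (φ (c t) : A) * t)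
    (hTF : ∃ n₀ : ℕ, (Submodule.span A (⋃ k ∈ Set.Ici n₀, (ℳ k : Set M))).FG)
    (hz : Limits.IsZero (GrMod.tilde 𝒜 ℳ 0)) :
    ∃ B : ℕ, ∀ k : ℕ, B ≤ k → ∀ m ∈ ℳ k, m = 0 := by
  classical
  have hirr := RelProjFT.irrelevant_le_span 𝒜 φ hgen T hT hspan
  have hgen' : ((𝒜)₊).toIdeal = Ideal.span (𝒜 1 : Set A) := by
    apply le_antisymm
    · exact hirr.trans (Ideal.span_mono hT)
    · rw [Ideal.span_le]
      intro a ha
      exact HomogeneousIdeal.mem_irrelevant_of_mem 𝒜 Nat.one_pos ha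
  obtain ⟨n₀, hFG⟩ := hTF
  rw [Submodule.fg_span_iff_fg_span_finset_subset] at hFG
  obtain ⟨X, hXsub, hXspan⟩ := hFG
  have hdeg : ∀ x : X, ∃ d : ℕ, n₀ ≤ d ∧ (x : M) ∈ ℳ d := by
    intro x
    have := hXsub x.2
    simp only [Set.mem_iUnion, Set.mem_Ici, SetLike.mem_coe, exists_prop] at this
    exact this
  choose dg hdg hmem using hdeg
  -- annihilators
  have hK : ∀ x : X, ∃ K : ℕ, ∀ a ∈ (Ideal.span (T : Set A)) ^ K, a • (x : M) = 0 := by
    intro x
    let J : Ideal A := LinearMap.ker (LinearMap.toSpanSingleton A M (x : M))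
    have hJ : Ideal.span (T : Set A) ≤ J.radical := by
      rw [Ideal.span_le]
      intro t ht
      obtain ⟨k, hk⟩ := GrModLibN.exists_pow_smul_eq_zero_of_isZero 𝒜 ℳ hgen' hz (x : M) 1 t
        Nat.one_pos (hT ht)
      refine ⟨k, ?_⟩
      change (LinearMap.toSpanSingleton A M (x : M)) (t ^ k) = 0
      rw [LinearMap.toSpanSingleton_apply]
      exact hk
    obtain ⟨K, hK⟩ := Ideal.exists_pow_le_of_le_radical_of_fg hJ ⟨T, rfl⟩
    refine ⟨K, fun a ha => ?_⟩
    have := hK ha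
    change (LinearMap.toSpanSingleton A M (x : M)) a = 0 at this
    rwa [LinearMap.toSpanSingleton_apply] at this
  choose K hK using hK
  let K₀ : ℕ := Finset.univ.sup K
  let D₀ : ℕ := Finset.univ.sup dg
  refine ⟨n₀ + D₀ + K₀, fun k hk m hm => ?_⟩
  have hmN : m ∈ Submodule.span A (X : Set M) := by
    rw [← hXspan]
    apply Submodule.subset_span
    simp only [Set.mem_iUnion, Set.mem_Ici, SetLike.mem_coe, exists_prop]
    exact ⟨k, by omega, hm⟩
  obtain ⟨c, -, hc⟩ := Submodule.mem_span_finset.1 hmN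
  have h3 : GrAlgG.pr ℳ k m = m := GrAlgG.pr_of_mem_same ℳ hm
  rw [← h3, ← hc, map_sum]
  refine Finset.sum_eq_zero fun x hx => ?_
  have hxd : dg ⟨x, hx⟩ ≤ D₀ := Finset.le_sup (f := dg) (Finset.mem_univ _)
  have hxK : K ⟨x, hx⟩ ≤ K₀ := Finset.le_sup (f := K) (Finset.mem_univ _)
  rw [GrAlgG.pr_smul 𝒜 ℳ (c x) (hmem ⟨x, hx⟩) k, if_pos (by omega)]
  apply hK ⟨x, hx⟩
  have h4 := deg_le_pow 𝒜 T hT hirr (k - dg ⟨x, hx⟩) _
    (SetLike.coe_mem (DirectSum.decompose 𝒜 (c x) (k - dg ⟨x, hx⟩)))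
  exact Ideal.pow_le_pow_right (by omega) h4

end Groth.Agent.Helper1.GrModTN
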