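import Mathlib
import Groth.Agent.Lib.Helper1.GrAlg
import Groth.Agent.Lib.Helper1.GrNat

set_option autoImplicit false
universe u
namespace Groth.Agent.Helper1.GrMon

open DirectSum Groth.Agent.Helper1.GrAlg AlgebraicGeometry

section
variable {R A : Type u} [CommRing R] [CommRing A] [Algebra R A] (𝒜 : ℕ → Submodule R A)
    [GradedAlgebra 𝒜] {s : ℕ} (f : Fin s → A) (deg : Fin s → ℕ)
    (hf : ∀ i, f i ∈ 𝒜 (deg i))
    (hgen : Algebra.adjoin R (Set.range f) = ⊤)

include hf in
theorem monomial_mem (α : Fin s → ℕ) : ∏ i, f i ^ α i ∈ 𝒜 (∑ i, α i * deg i) := by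
  have := SetLike.prod_pow_mem_graded (A := 𝒜) (F := Finset.univ) (i := deg) (g := f) α
    (fun k _ => hf k)
  simpa [smul_eq_mul] using this

include hf hgen in
/-- every homogeneous element of degree `m` is an `R`-combination of monomials of degree `m`. -/
theorem mem_span_monomials {m : ℕ} {x : A} (hx : x ∈ 𝒜 m) :
    x ∈ Submodule.span R {y : A | ∃ α : Fin s → ℕ, (∑ i, α i * deg i = m) ∧ y = ∏ i, f i ^ α i} := by
  classical
  have hx' : x ∈ Submodule.span R (Submonoid.closure (Set.range f) : Set A) := by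
    rw [← Algebra.adjoin_eq_span, hgen]; trivial
  obtain ⟨t, r, g, rfl⟩ := Submodule.mem_span_set'.1 hx'
  have h1 : ∑ j, r j • (g j : A) = pr 𝒜 m (∑ j, r j • (g j : A)) := (pr_of_mem_same 𝒜 hx).symm
  rw [h1, map_sum]
  refine sum_mem fun j _ => ?_
  obtain ⟨α, hα⟩ := Submonoid.exists_of_mem_closure_range f _ (g j).2
  have hmem : r j • (g j : A) ∈ 𝒜 (∑ i, α i * deg i) := by
    rw [hα]; exact Submodule.smul_mem _ _ (monomial_mem 𝒜 f deg hf α)
  by_cases hm : ∑ i, α i * deg i = m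
  · rw [pr_of_mem_same 𝒜 (hm ▸ hmem)]
    exact Submodule.smul_mem _ _ (Submodule.subset_span ⟨α, hm, hα⟩)
  · rw [pr_of_mem_ne 𝒜 hmem hm]
    exact zero_mem _

include hf hgen in
theorem S13164 (hdeg : ∀ i, 0 < deg i) (n : ℕ)
    (hn : (s - 1) * (Finset.univ.lcm deg - 1) ≤ n) :
    𝒜 (n + Finset.univ.lcm deg) = 𝒜 n * 𝒜 (Finset.univ.lcm deg) := by
  classical
  set l := Finset.univ.lcm deg with hl
  have hlpos : 0 < l := by
    refine Nat.pos_of_ne_zero fun h0 => ?_
    rw [hl, Finset.lcm_eq_zero_iff] at h0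
    obtain ⟨i, _, hi⟩ := h0
    exact (hdeg i).ne' hi
  refine le_antisymm ?_ (Submodule.mul_le.2 fun a ha b hb => SetLike.mul_mem_graded ha hb)
  intro x hx
  have hspan := mem_span_monomials 𝒜 f deg hf hgen hx
  refine Submodule.span_le.2 ?_ hspan
  rintro _ ⟨α, hα, rfl⟩
  -- pigeonhole
  have hex : ∃ i, l ≤ α i * deg i := by
    by_contra hcon
    push Not at hcon
    have hsum : ∑ i, α i * deg i ≤ ∑ _i : Fin s, (l - 1) :=
      Finset.sum_le_sum fun i _ => by have := hcon i; omega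
    rw [Finset.sum_const, Finset.card_univ, Fintype.card_fin, smul_eq_mul, hα] at hsum
    rcases Nat.eq_zero_or_pos s with h0 | hpos
    · rw [h0, Nat.zero_mul] at hsum; omega
    · have h2 : s * (l - 1) = (s - 1) * (l - 1) + (l - 1) := by
        conv_lhs => rw [show s = (s - 1) + 1 by omega, Nat.succ_mul]
      omega
  obtain ⟨i, hi⟩ := hex
  have hdvd : deg i ∣ l := Finset.dvd_lcm (Finset.mem_univ i)
  obtain ⟨c, hc⟩ := hdvd
  have hcle : c ≤ α i := by
    have h1 : deg i * c ≤ deg i * α i := by rw [← hc, mul_comm (deg i) (α i)]; exact hi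
    exact Nat.le_of_mul_le_mul_left h1 (hdeg i)
  have hprod : ∏ j, f j ^ α j =
      (f i ^ (α i - c) * ∏ j ∈ Finset.univ.erase i, f j ^ α j) * f i ^ c := by
    rw [← Finset.mul_prod_erase Finset.univ _ (Finset.mem_univ i)]
    have : f i ^ α i = f i ^ (α i - c) * f i ^ c := by rw [← pow_add, Nat.sub_add_cancel hcle]
    rw [this]; ring
  rw [hprod]
  refine Submodule.mul_mem_mul ?_ ?_
  · have h1 : f i ^ (α i - c) ∈ 𝒜 ((α i - c) * deg i) := by
      have := SetLike.pow_mem_graded (A := 𝒜) (α i - c) (hf i)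
      rwa [smul_eq_mul] at this
    have h2 : ∏ j ∈ Finset.univ.erase i, f j ^ α j ∈
        𝒜 (∑ j ∈ Finset.univ.erase i, α j * deg j) := by
      have := SetLike.prod_pow_mem_graded (A := 𝒜) (F := Finset.univ.erase i) (i := deg)
        (g := f) α (fun k _ => hf k)
      simpa [smul_eq_mul] using this
    have h3 := SetLike.mul_mem_graded h1 h2
    have hsplit : ∑ j, α j * deg j = α i * deg i + ∑ j ∈ Finset.univ.erase i, α j * deg j :=
      (Finset.add_sum_erase Finset.univ _ (Finset.mem_univ i)).symm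
    have hidx : (α i - c) * deg i + ∑ j ∈ Finset.univ.erase i, α j * deg j = n := by
      rw [Nat.sub_mul, mul_comm c (deg i), ← hc]
      omega
    rwa [hidx] at h3
  · have := SetLike.pow_mem_graded (A := 𝒜) c (hf i)
    rwa [smul_eq_mul, mul_comm c (deg i), ← hc] at this

include hf hgen in
theorem zero_eq_one (hdeg : ∀ i, 0 < deg i) : (𝒜 0 : Submodule R A) = 1 := by
  refine le_antisymm ?_ (Submodule.one_le.2 SetLike.GradedOne.one_mem)
  intro x hx
  have hspan := mem_span_monomials 𝒜 f deg hf hgen hx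
  refine Submodule.span_le.2 ?_ hspan
  rintro _ ⟨α, hα, rfl⟩
  have hα0 : ∀ i, α i = 0 := by
    intro i
    have h1 := (Finset.sum_eq_zero_iff.1 hα) i (Finset.mem_univ i)
    rcases Nat.mul_eq_zero.1 h1 with h | h
    · exact h
    · exact absurd h (hdeg i).ne'
  simp only [hα0, pow_zero, Finset.prod_const_one]
  exact Submodule.one_le.1 le_rfl

include hf hgen in
theorem S13165 (hdeg : ∀ i, 0 < deg i) (a : ℕ) (ha : s - 1 ≤ a) (k : ℕ) :
    𝒜 (k * (a * Finset.univ.lcm deg)) = 𝒜 (a * Finset.univ.lcm deg) ^ k := by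
  classical
  set l := Finset.univ.lcm deg with hl
  have hlpos : 0 < l := by
    refine Nat.pos_of_ne_zero fun h0 => ?_
    rw [hl, Finset.lcm_eq_zero_iff] at h0
    obtain ⟨i, _, hi⟩ := h0
    exact (hdeg i).ne' hi
  have hstep : ∀ m, (s - 1) * (l - 1) ≤ m → ∀ t, 𝒜 (m + t * l) ≤ 𝒜 m * 𝒜 (t * l) := by
    intro m hm t
    induction t with
    | zero =>
      rw [Nat.zero_mul, add_zero, zero_eq_one 𝒜 f deg hf hgen hdeg, mul_one]
    | succ t ih =>
      have h1 : m + (t + 1) * l = (m + t * l) + l := by ring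
      rw [h1, S13164 𝒜 f deg hf hgen hdeg (m + t * l) (le_trans hm (Nat.le_add_right _ _))]
      refine (mul_le_mul' ih le_rfl).trans ?_
      rw [mul_assoc]
      refine mul_le_mul' le_rfl ?_
      rw [Nat.succ_mul]
      exact Submodule.mul_le.2 fun a ha b hb => SetLike.mul_mem_graded ha hb
  rcases Nat.eq_zero_or_pos k with hk0 | hkpos
  · rw [hk0, Nat.zero_mul, pow_zero]
    exact zero_eq_one 𝒜 f deg hf hgen hdeg
  · refine le_antisymm ?_ (GrNat.pow_le_graded 𝒜 k _)
    induction k, hkpos using Nat.le_induction with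
    | base => simp
    | succ k hk ih =>
      have h1 : (k + 1) * (a * l) = k * (a * l) + a * l := by ring
      rw [h1, pow_succ]
      have hm : (s - 1) * (l - 1) ≤ k * (a * l) := by
        have h2 : (s - 1) * (l - 1) ≤ a * l := Nat.mul_le_mul ha (Nat.sub_le _ _)
        have h3 : 1 * (a * l) ≤ k * (a * l) := Nat.mul_le_mul_right _ hk
        omega
      exact (hstep _ hm a).trans (mul_le_mul' ih le_rfl)

include hf hgen in
theorem S13168 (hdeg : ∀ i, 0 < deg i) (a : ℕ) (ha : 0 < a) :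
    (⨆ g : 𝒜 (a * Finset.univ.lcm deg), Proj.basicOpen 𝒜 (g : A)) = ⊤ := by
  classical
  set l := Finset.univ.lcm deg with hl
  have hgen0 : Algebra.adjoin (𝒜 0) (Set.range f) = ⊤ := by
    rw [eq_top_iff]
    intro x hxtop
    clear hxtop
    have hx : x ∈ Algebra.adjoin R (Set.range f) := by rw [hgen]; trivial
    induction hx using Algebra.adjoin_induction with
    | mem y hy => exact Algebra.subset_adjoin hy
    | algebraMap r =>
      exact Subalgebra.algebraMap_mem _ (⟨algebraMap R A r, SetLike.algebraMap_mem_graded 𝒜 r⟩ : 𝒜 0)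
    | add y z _ _ hy hz => exact add_mem hy hz
    | mul y z _ _ hy hz => exact mul_mem hy hz
  have htop := Proj.iSup_basicOpen_eq_top' 𝒜 f (fun i => ⟨deg i, hf i⟩) hgen0
  rw [eq_top_iff, ← htop]
  refine iSup_le fun i => ?_
  obtain ⟨c, hc⟩ : deg i ∣ l := Finset.dvd_lcm (Finset.mem_univ i)
  have hcpos : 0 < c := by
    refine Nat.pos_of_ne_zero fun h0 => ?_
    have hlpos : l ≠ 0 := by
      intro h0'
      rw [hl, Finset.lcm_eq_zero_iff] at h0'
      obtain ⟨j, _, hj⟩ := h0'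
      exact (hdeg j).ne' hj
    rw [h0, mul_zero] at hc
    exact hlpos hc
  have hmem : f i ^ (a * c) ∈ 𝒜 (a * l) := by
    have := SetLike.pow_mem_graded (A := 𝒜) (a * c) (hf i)
    rwa [smul_eq_mul, mul_assoc, mul_comm c (deg i), ← hc] at this
  have h1 : Proj.basicOpen 𝒜 (f i) = Proj.basicOpen 𝒜 (f i ^ (a * c)) :=
    (Proj.basicOpen_pow 𝒜 (f i) (a * c) (Nat.mul_pos ha hcpos)).symm
  rw [h1]
  exact le_iSup (fun g : 𝒜 (a * l) => Proj.basicOpen 𝒜 (g : A)) ⟨_, hmem⟩

end

end Groth.Agent.Helper1.GrMon
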