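import Mathlib
import Groth.Agent.Lib.Helper1.GrAlg

set_option autoImplicit false
universe u
namespace Groth.Agent.Helper1.GrPrime

open DirectSum Groth.Agent.Helper1.GrAlg

variable {R A : Type u} [CommRing R] [CommRing A] [Algebra R A]
    (𝒜 : ℕ → Submodule R A) [GradedAlgebra 𝒜]

/-- a homogeneous prime not containing the irrelevant ideal misses a homogeneous element of
positive degree. -/
theorem exists_homogeneous_not_mem (𝔮 : HomogeneousIdeal 𝒜)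
    (h : ¬ HomogeneousIdeal.irrelevant 𝒜 ≤ 𝔮) : ∃ e : ℕ, 0 < e ∧ ∃ g ∈ 𝒜 e, g ∉ 𝔮.toIdeal := by
  by_contra hcon
  push Not at hcon
  apply h
  rw [HomogeneousIdeal.irrelevant_le]
  intro i hi x hx
  exact hcon i hi x hx

theorem uniqueness (n₀ : ℕ) (p : ℕ → AddSubgroup A)
    (𝔭 𝔮 : HomogeneousIdeal 𝒜) (h𝔮 : 𝔮.toIdeal.IsPrime)
    (hirr : ¬ HomogeneousIdeal.irrelevant 𝒜 ≤ 𝔮)
    (hp1 : ∀ n : ℕ, n₀ ≤ n → (𝔭.toIdeal : Set A) ∩ 𝒜 n = p n)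
    (hp2 : ∀ n : ℕ, n₀ ≤ n → (𝔮.toIdeal : Set A) ∩ 𝒜 n = p n) :
    𝔭.toIdeal ≤ 𝔮.toIdeal := by
  classical
  obtain ⟨e, he, g, hg, hgq⟩ := exists_homogeneous_not_mem 𝒜 𝔮 hirr
  have hgn : g ^ n₀ ∉ 𝔮.toIdeal := fun h => hgq (h𝔮.mem_of_pow_mem _ h)
  have hgmem : g ^ n₀ ∈ 𝒜 (n₀ * e) := by
    have := SetLike.pow_mem_graded (A := 𝒜) n₀ hg
    rwa [smul_eq_mul] at this
  have hhom : ∀ m, ∀ x ∈ 𝒜 m, x ∈ 𝔭.toIdeal → x ∈ 𝔮.toIdeal := by
    intro m x hxm hx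
    have h1 : g ^ n₀ * x ∈ (𝔭.toIdeal : Set A) ∩ 𝒜 (n₀ * e + m) :=
      ⟨Ideal.mul_mem_left _ _ hx, SetLike.mul_mem_graded hgmem hxm⟩
    have hle : n₀ ≤ n₀ * e + m := by
      have : n₀ * 1 ≤ n₀ * e := Nat.mul_le_mul_left n₀ he
      omega
    rw [hp1 _ hle, ← hp2 _ hle] at h1
    exact (h𝔮.mem_or_mem h1.1).resolve_left hgn
  intro x hx
  rw [← DirectSum.sum_support_decompose 𝒜 x]
  refine sum_mem fun i _ => ?_
  exact hhom i _ (DirectSum.decompose 𝒜 x i).2 (𝔭.isHomogeneous i hx)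

theorem S4395
    (n₀ : ℕ) (hn₀ : 0 < n₀) (p : ℕ → AddSubgroup A)
    (hp : ∀ n : ℕ, n₀ ≤ n → (p n : Set A) ⊆ 𝒜 n) :
    ((∃ 𝔭 : HomogeneousIdeal 𝒜, 𝔭.toIdeal.IsPrime ∧ ¬ HomogeneousIdeal.irrelevant 𝒜 ≤ 𝔭 ∧
        ∀ n : ℕ, n₀ ≤ n → (𝔭.toIdeal : Set A) ∩ 𝒜 n = p n) ↔
      ((∀ m n : ℕ, n₀ ≤ n → ∀ a ∈ 𝒜 m, ∀ b ∈ p n, a * b ∈ p (m + n)) ∧
        (∀ m n : ℕ, n₀ ≤ m → n₀ ≤ n → ∀ f ∈ 𝒜 m, ∀ g ∈ 𝒜 n,
          f * g ∈ p (m + n) → f ∈ p m ∨ g ∈ p n) ∧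
        ∃ n : ℕ, n₀ ≤ n ∧ (p n : Set A) ≠ 𝒜 n)) ∧
    ∀ 𝔭 𝔮 : HomogeneousIdeal 𝒜, 𝔭.toIdeal.IsPrime → 𝔮.toIdeal.IsPrime →
      ¬ HomogeneousIdeal.irrelevant 𝒜 ≤ 𝔭 → ¬ HomogeneousIdeal.irrelevant 𝒜 ≤ 𝔮 →
      (∀ n : ℕ, n₀ ≤ n → (𝔭.toIdeal : Set A) ∩ 𝒜 n = p n) →
      (∀ n : ℕ, n₀ ≤ n → (𝔮.toIdeal : Set A) ∩ 𝒜 n = p n) →
      𝔭 = 𝔮 := by
  classical
  refine ⟨⟨?_, ?_⟩, ?_⟩
  · -- forward
    rintro ⟨𝔭, hprime, hirr, hpn⟩
    have hmem : ∀ n, n₀ ≤ n → ∀ x, x ∈ p n ↔ x ∈ 𝔭.toIdeal ∧ x ∈ 𝒜 n := by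
      intro n hn x
      have := Set.ext_iff.1 (hpn n hn) x
      exact this.symm
    refine ⟨?_, ?_, ?_⟩
    · intro m n hn a ha b hb
      rw [hmem n hn] at hb
      rw [hmem (m + n) (by omega)]
      exact ⟨Ideal.mul_mem_left _ _ hb.1, SetLike.mul_mem_graded ha hb.2⟩
    · intro m n hm hn f hf g hg hfg
      rw [hmem (m + n) (by omega)] at hfg
      rcases hprime.mem_or_mem hfg.1 with h | h
      · exact Or.inl ((hmem m hm f).2 ⟨h, hf⟩)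
      · exact Or.inr ((hmem n hn g).2 ⟨h, hg⟩)
    · obtain ⟨e, he, g, hg, hgq⟩ := exists_homogeneous_not_mem 𝒜 𝔭 hirr
      have hgn : g ^ n₀ ∉ 𝔭.toIdeal := fun h => hgq (hprime.mem_of_pow_mem _ h)
      have hgmem : g ^ n₀ ∈ 𝒜 (n₀ * e) := by
        have := SetLike.pow_mem_graded (A := 𝒜) n₀ hg
        rwa [smul_eq_mul] at this
      have hle : n₀ ≤ n₀ * e := by
        have : n₀ * 1 ≤ n₀ * e := Nat.mul_le_mul_left n₀ he
        omega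
      refine ⟨n₀ * e, hle, fun heq => hgn ?_⟩
      have : g ^ n₀ ∈ (p (n₀ * e) : Set A) := by rw [heq]; exact hgmem
      exact ((hmem _ hle _).1 this).1
  · -- backward
    rintro ⟨h1, h2, n₁, hn₁, hne⟩
    -- an element of degree n₁ outside p n₁
    obtain ⟨f, hf, hfp⟩ : ∃ f ∈ 𝒜 n₁, f ∉ p n₁ := by
      by_contra hcon
      push Not at hcon
      exact hne (Set.Subset.antisymm (hp n₁ hn₁) fun x hx => hcon x hx)
    let H : Set A := {x | ∃ m, x ∈ 𝒜 m ∧ f * x ∈ p (n₁ + m)}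
    have hH : ∀ x ∈ H, SetLike.IsHomogeneousElem 𝒜 x := fun x ⟨m, hm, _⟩ => ⟨m, hm⟩
    let 𝔭 : HomogeneousIdeal 𝒜 := ⟨Ideal.span H, Ideal.homogeneous_span 𝒜 H hH⟩
    have h𝔭 : 𝔭.toIdeal = Ideal.span H := rfl
    have hHdeg : ∀ y ∈ H, ∃ m, y ∈ 𝒜 m ∧ f * y ∈ p (n₁ + m) := fun y hy => hy
    choose! e he1 he2 using hHdeg
    -- membership criterion for homogeneous elements
    have hM : ∀ m, ∀ x ∈ 𝒜 m, (x ∈ 𝔭.toIdeal ↔ f * x ∈ p (n₁ + m)) := by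
      intro m x hx
      constructor
      · intro hxp
        rw [h𝔭] at hxp
        obtain ⟨t, c, y, hcy, rfl⟩ := exists_sum_of_mem_span 𝒜 𝒜 H e he1 hx hxp
        rw [Finset.mul_sum]
        refine sum_mem fun i _ => ?_
        obtain ⟨hyH, hc, hor⟩ := hcy i
        rcases hor with hle | h0
        · have := h1 (m - e (y i)) (n₁ + e (y i)) (by omega) (c i) hc _ (he2 _ hyH)
          have hidx : m - e (y i) + (n₁ + e (y i)) = n₁ + m := by omega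
          rw [hidx] at this
          have heq : f * c i • y i = c i * (f * y i) := by rw [smul_eq_mul]; ring
          rw [heq]
          exact this
        · rw [h0, zero_smul, mul_zero]
          exact zero_mem _
      · intro hfx
        rw [h𝔭]
        exact Ideal.subset_span ⟨m, hx, hfx⟩
    have hfirr : f ∉ 𝔭.toIdeal := by
      intro hfm
      have := (hM n₁ f hf).1 hfm
      rcases h2 n₁ n₁ hn₁ hn₁ f hf f hf this with h | h <;> exact hfp h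
    refine ⟨𝔭, ?_, ?_, ?_⟩
    · refine Ideal.IsHomogeneous.isPrime_of_homogeneous_mem_or_mem 𝔭.isHomogeneous ?_ ?_
      · intro htop
        have h1mem : (1 : A) ∈ 𝔭.toIdeal := by rw [htop]; trivial
        have := (hM 0 1 SetLike.GradedOne.one_mem).1 h1mem
        rw [mul_one, add_zero] at this
        exact hfp this
      · rintro x y ⟨m, hxm⟩ ⟨k, hyk⟩ hxy
        have hxy' := (hM (m + k) (x * y) (SetLike.mul_mem_graded hxm hyk)).1 hxy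
        have h3 := h1 n₁ (n₁ + (m + k)) (by omega) f hf _ hxy'
        have heq : f * (f * (x * y)) = (f * x) * (f * y) := by ring
        have hidx : n₁ + (n₁ + (m + k)) = (n₁ + m) + (n₁ + k) := by omega
        rw [heq, hidx] at h3
        rcases h2 (n₁ + m) (n₁ + k) (by omega) (by omega) (f * x)
          (SetLike.mul_mem_graded hf hxm) (f * y) (SetLike.mul_mem_graded hf hyk) h3 with h | h
        · exact Or.inl ((hM m x hxm).2 h)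
        · exact Or.inr ((hM k y hyk).2 h)
    · intro hle
      exact hfirr (hle (HomogeneousIdeal.mem_irrelevant_of_mem 𝒜 (by omega) hf))
    · intro n hn
      ext x
      constructor
      · rintro ⟨hx1, hx2⟩
        have := (hM n x hx2).1 hx1
        rcases h2 n₁ n hn₁ hn f hf x hx2 this with h | h
        · exact absurd h hfp
        · exact h
      · intro hx
        have hx2 : x ∈ 𝒜 n := hp n hn hx
        exact ⟨(hM n x hx2).2 (h1 n₁ n hn f hf x hx), hx2⟩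
  · intro 𝔭 𝔮 hpp hqp hpi hqi hp1 hp2
    apply HomogeneousIdeal.ext
    exact le_antisymm (uniqueness 𝒜 n₀ p 𝔭 𝔮 hqp hqi hp1 hp2)
      (uniqueness 𝒜 n₀ p 𝔮 𝔭 hpp hpi hp2 hp1)

end Groth.Agent.Helper1.GrPrime
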