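import Mathlib
import Groth.Prelude.Def_GrMod2
import Groth.Prelude.Def_ega3
import Groth.Agent.Lib.Helper1.GrTailE
import Groth.Agent.Lib.Helper1.ProjSerre
import Groth.Agent.Lib.Helper1.TildeTens
import Groth.Agent.Lib.Helper1.TwistTens

/-!
# Euler characteristic of `M(n)~` on `Proj` over an Artinian base, `n ≫ 0` (helper1)
-/

set_option backward.isDefEq.respectTransparency.types false
set_option synthInstance.maxHeartbeats 400000
set_option autoImplicit false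
universe u
open CategoryTheory CategoryTheory.Limits AlgebraicGeometry TopologicalSpace Opposite

namespace Groth.Agent.Helper1.GrTailF

open Groth.Agent.Helper1 Groth.Agent.Helper1.GrTailA

section Gen

/-- transfer of vanishing along an isomorphism of modules -/
theorem subsingleton_HH_of_iso {Y : Scheme.{u}} {F G : Y.Modules} (e : F ≅ G) (i : ℕ)
    (h : Subsingleton (Coh.HH Y F i)) : Subsingleton (Coh.HH Y G i) := by
  let T := SheafOfModules.toSheaf Y.ringCatSheaf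
  refine subsingleton_of_forall_eq 0 fun x => ?_
  have h1 : Sheaf.H.map (T.map e.hom) i (Sheaf.H.map (T.map e.inv) i x) = x := by
    have e1 : T.map e.inv ≫ T.map e.hom = 𝟙 _ :=
      (Functor.map_comp _ _ _).symm.trans ((congrArg (fun f => T.map f) e.inv_hom_id).trans
        (CategoryTheory.Functor.map_id _ _))
    exact (Sheaf.H.map_comp_apply _ _ _).symm.trans
      ((congrArg (fun f => Sheaf.H.map f i x) e1).trans (Sheaf.H.map_id_apply _))
  have h2 : Sheaf.H.map (T.map e.inv) i x = (0 : Coh.HH Y F i) := Subsingleton.elim _ _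
  rw [← h1, h2, map_zero]

/-- the ring map to global functions of a composite with a morphism of affine schemes -/
theorem toGlobal_comp_specMap {A B : Type u} [CommRing A] [CommRing B] (α : A →+* B)
    {Z : Scheme.{u}} (q : Z ⟶ Spec (CommRingCat.of B)) (a : A) :
    Coh.toGlobal (q ≫ Spec.map (CommRingCat.ofHom α)) a = Coh.toGlobal q (α a) := by
  have h := Scheme.ΓSpecIso_inv_naturality (CommRingCat.ofHom α)
  have h2 : ((Spec.map (CommRingCat.ofHom α)).appTop).hom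
      ((Scheme.ΓSpecIso (CommRingCat.of A)).inv.hom a) =
      (Scheme.ΓSpecIso (CommRingCat.of B)).inv.hom (α a) :=
    (congrArg (fun m => m.hom a) h).symm
  change (q ≫ Spec.map (CommRingCat.ofHom α)).appTop.hom
      ((Scheme.ΓSpecIso (CommRingCat.of A)).inv.hom a) =
    q.appTop.hom ((Scheme.ΓSpecIso (CommRingCat.of B)).inv.hom (α a))
  rw [← h2]
  rfl

end Gen

section
variable {R A : Type u} [CommRing R] [CommRing A] [Algebra R A] (𝒜 : ℕ → Submodule R A)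
  [GradedAlgebra 𝒜]
variable {M : Type u} [AddCommGroup M] [Module R M] [Module A M] [IsScalarTower R A M]
  (ℳ : ℕ → Submodule R M) [DirectSum.Decomposition ℳ] [SetLike.GradedSMul 𝒜 ℳ]

theorem globalOf_add {i : ℕ} (m m' : ℳ i) :
    GrTilde.globalOf 𝒜 ℳ (m + m') = GrTilde.globalOf 𝒜 ℳ m + GrTilde.globalOf 𝒜 ℳ m' := by
  refine Subtype.ext (funext fun x => Subtype.ext ?_)
  have h3 : (LocalizedModule.mk (m.1 + m'.1) 1 : GrTilde.LocMod 𝒜 (M := M) x.1) =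
      LocalizedModule.mk m.1 1 + LocalizedModule.mk m'.1 1 :=
    map_add (LocalizedModule.mkLinearMap _ M) m.1 m'.1
  exact h3

theorem smul_globalOf {i : ℕ} (c0 : 𝒜 0) (m m' : ℳ i) (hm' : (m' : M) = (c0 : A) • (m : M)) :
    (show GrTilde.sect 𝒜 ℳ (i : ℤ) (op ⊤) from
      (Coh.smulAb (GrTilde.tilde 𝒜 ℳ (i : ℤ))
        (Coh.toGlobal (Proj.toSpecZero 𝒜) c0)).hom.app (op ⊤) (GrTilde.globalOf 𝒜 ℳ m)) =
      GrTilde.globalOf 𝒜 ℳ m' := by
  refine Subtype.ext (funext fun x => Subtype.ext ?_)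
  have h1 := GrTailD.vt_smul_toGlobal 𝒜 ℳ (i : ℤ) c0 (GrTilde.globalOf 𝒜 ℳ m) x.1
  refine h1.trans ?_
  have h2 : (c0 : A) • (LocalizedModule.mk m.1 1 : GrTilde.LocMod 𝒜 (M := M) x.1) =
      LocalizedModule.mk ((c0 : A) • m.1) 1 := LocalizedModule.smul'_mk _ _ _
  refine h2.trans ?_
  rw [← hm']
  rfl

/-- `m ↦ m/1`, as an `R`-linear map `M_n → H⁰(Proj, M(n)~)` -/
noncomputable def Phi (n : ℕ) :
    ℳ n →ₗ[R] Coh.HH (Proj 𝒜) (GrTilde.tilde 𝒜 ℳ (n : ℤ)) 0 :=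
  IsLinearMap.mk' (fun m : ℳ n =>
    (Sheaf.H.equiv₀ (Coh.toAb (GrTilde.tilde 𝒜 ℳ (n : ℤ)))
      (Limits.isTerminalTop (α := Opens (Proj 𝒜)))).symm (GrTilde.globalOf 𝒜 ℳ m))
    ⟨fun m m' => by
      rw [globalOf_add]
      exact map_add _ _ _,
    fun a m => by
      let hT := Limits.isTerminalTop (α := Opens (Proj 𝒜))
      have h2 : Coh.toGlobal ((Proj 𝒜) ↘ Spec (CommRingCat.of R)) a =
          Coh.toGlobal (Proj.toSpecZero 𝒜) (algebraMap R (𝒜 0) a) :=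
        toGlobal_comp_specMap (algebraMap R (𝒜 0)) (Proj.toSpecZero 𝒜) a
      have h1 : ∀ y : Coh.HH (Proj 𝒜) (GrTilde.tilde 𝒜 ℳ (n : ℤ)) 0, a • y =
          Sheaf.H.map (Coh.smulAb (GrTilde.tilde 𝒜 ℳ (n : ℤ))
            (Coh.toGlobal (Proj.toSpecZero 𝒜) (algebraMap R (𝒜 0) a))) 0 y := by
        intro y
        have h0 : a • y = Sheaf.H.map (Coh.smulAb (GrTilde.tilde 𝒜 ℳ (n : ℤ))
            (Coh.toGlobal ((Proj 𝒜) ↘ Spec (CommRingCat.of R)) a)) 0 y := rfl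
        rw [h0, h2]
      have hm' : ((a • m : ℳ n) : M) = ((algebraMap R (𝒜 0) a : 𝒜 0) : A) • (m : M) := by
        show a • (m : M) = (algebraMap R A a) • (m : M)
        exact (algebraMap_smul A a (m : M)).symm
      refine Eq.symm ((h1 _).trans ?_)
      refine (Sheaf.H.equiv₀_symm_naturality hT (Coh.smulAb (GrTilde.tilde 𝒜 ℳ (n : ℤ))
            (Coh.toGlobal (Proj.toSpecZero 𝒜) (algebraMap R (𝒜 0) a)))
            (GrTilde.globalOf 𝒜 ℳ m)).trans ?_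
      exact congrArg (Sheaf.H.equiv₀ (Coh.toAb (GrTilde.tilde 𝒜 ℳ (n : ℤ))) hT).symm
        (smul_globalOf 𝒜 ℳ (algebraMap R (𝒜 0) a) m (a • m) hm')⟩

theorem length_H0_eq (n : ℕ)
    (hbij : Function.Bijective (fun m : ℳ n => GrTilde.globalOf 𝒜 ℳ m)) :
    Module.length R (Coh.HH (Proj 𝒜) (GrTilde.tilde 𝒜 ℳ (n : ℤ)) 0) = Module.length R (ℳ n) := by
  have hb : Function.Bijective (Phi 𝒜 ℳ n) :=
    ((Sheaf.H.equiv₀ (Coh.toAb (GrTilde.tilde 𝒜 ℳ (n : ℤ)))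
      (Limits.isTerminalTop (α := Opens (Proj 𝒜)))).symm.bijective).comp hbij
  exact (LinearEquiv.ofBijective (Phi 𝒜 ℳ n) hb).length_eq.symm

theorem eventually_vanish [IsNoetherianRing A] [Module.Finite A M]
    (hcov1 : ∀ x : ProjectiveSpectrum 𝒜, ∃ f ∈ 𝒜 1, f ∉ x.asHomogeneousIdeal) (r : ℕ) :
    ∃ N : ℕ, ∀ n : ℕ, N ≤ n → ∀ j : ℕ, j < r →
      Subsingleton (Coh.HH (Proj 𝒜) (GrTilde.tilde 𝒜 ℳ (n : ℤ)) (j + 1)) := by
  classical
  haveI : IsNoetherian A M := isNoetherian_of_isNoetherianRing_of_finite A M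
  have hcoh : Coh.IsCoh (GrTilde.tilde 𝒜 ℳ 0) :=
    ⟨TildeQC.tilde_isQuasicoherent 𝒜 ℳ 0,
      (show SheafOfModules.IsFiniteType.{u, u, u} (GrMod.tilde 𝒜 ℳ 0) from
        GrModFTd.tilde_isFiniteType 𝒜 ℳ 0)⟩
  induction r with
  | zero => exact ⟨0, fun n _ j hj => absurd hj (Nat.not_lt_zero _)⟩
  | succ r ih =>
    obtain ⟨N, hN⟩ := ih
    obtain ⟨d₀, hd₀⟩ := ProjSerre.serre_vanishing_proj 𝒜 (GrTilde.tilde 𝒜 ℳ 0) hcoh (r + 1)
      (Nat.succ_pos _)
    refine ⟨max N d₀.toNat, fun n hn j hj => ?_⟩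
    rcases Nat.lt_succ_iff_lt_or_eq.1 hj with hj' | hj'
    · exact hN n (le_trans (le_max_left _ _) hn) j hj'
    · obtain ⟨e⟩ := TildeTens.nonempty_tilde_iso_twistBy 𝒜 ℳ (n := (n : ℤ))
        (fun x => GrTailC.exists_unit_frac 𝒜 hcov1 (n : ℤ) x)
      have hle : d₀ ≤ (n : ℤ) := by
        have h1 : d₀.toNat ≤ n := le_trans (le_max_right _ _) hn
        have h2 := Int.self_le_toNat d₀
        omega
      rw [hj']
      exact subsingleton_HH_of_iso e.symm (r + 1) (hd₀ (n : ℤ) hle)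

end

/-- S4482 -/
theorem euler_char {A S : Type u} [CommRing A] [IsArtinianRing A] [CommRing S] [Algebra A S]
    (𝒜 : ℕ → Submodule A S) [GradedAlgebra 𝒜] (r : ℕ) (g : Fin (r + 1) → S)
    (hg1 : ∀ i, g i ∈ 𝒜 1) (hgen : Algebra.adjoin A (Set.range g) = ⊤)
    {M : Type u} [AddCommGroup M] [Module A M] [Module S M]
    [IsScalarTower A S M] [Module.Finite S M] (ℳ : ℕ → Submodule A M) [DirectSum.Decomposition ℳ]
    [SetLike.GradedSMul 𝒜 ℳ] :
    ∃ N : ℕ, ∀ n : ℕ, N ≤ n →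
      ((Finset.range (r + 1)).sum fun j => (-1 : ℤ) ^ j *
          ((Module.length A (Coh.HH (Proj 𝒜) (GrTilde.tilde 𝒜 ℳ (n : ℤ)) j)).toNat : ℤ)) =
        ((Module.length A ↥(ℳ n)).toNat : ℤ) := by
  classical
  haveI : Algebra.FiniteType A S := ⟨⟨Finset.univ.image g, by
    rw [Finset.coe_image, Finset.coe_univ, Set.image_univ]
    exact hgen⟩⟩
  haveI : IsNoetherianRing S := Algebra.FiniteType.isNoetherianRing A S
  have hcov1 : ∀ x : ProjectiveSpectrum 𝒜, ∃ f ∈ 𝒜 1, f ∉ x.asHomogeneousIdeal := fun x => by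
    obtain ⟨i, hi⟩ := TwistTens.exists_gen_not_mem 𝒜 g (fun i => ⟨1, hg1 i⟩) hgen x
    exact ⟨g i, hg1 i, hi⟩
  obtain ⟨N₁, hN₁⟩ := GrTailE.main_of_adjoin 𝒜 ℳ g hg1 hgen
  obtain ⟨N₂, hN₂⟩ := eventually_vanish 𝒜 ℳ hcov1 r
  refine ⟨max N₁ N₂, fun n hn => ?_⟩
  rw [Finset.sum_range_succ']
  have hz : ∀ j ∈ Finset.range r, (-1 : ℤ) ^ (j + 1) *
      ((Module.length A (Coh.HH (Proj 𝒜) (GrTilde.tilde 𝒜 ℳ (n : ℤ)) (j + 1))).toNat : ℤ) = 0 := by
    intro j hj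
    haveI := hN₂ n (le_trans (le_max_right _ _) hn) j (Finset.mem_range.1 hj)
    rw [Module.length_eq_zero]
    simp
  rw [Finset.sum_eq_zero hz, zero_add, pow_zero, one_mul,
    length_H0_eq 𝒜 ℳ n (hN₁ n (le_trans (le_max_left _ _) hn))]

end Groth.Agent.Helper1.GrTailF
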