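import Mathlib
import Groth.Prelude.Def_GrTwist

open DirectSum CategoryTheory AlgebraicGeometry TopologicalSpace Opposite HomogeneousLocalization

universe u

namespace Groth.Agent.Helper1.GrTwLib

section
variable {A σ : Type u} [CommRing A] [SetLike σ A] [AddSubgroupClass σ A] (𝒜 : ℕ → σ)
  [GradedRing 𝒜]

theorem span_globalOf_eq_top_of_mem {d : ℕ} (f : 𝒜 d) (p : ProjectiveSpectrum 𝒜)
    (hp : p ∈ ProjectiveSpectrum.basicOpen 𝒜 (f : A)) :
    Submodule.span (GrTwist.A0 𝒜 p) {(GrTwist.globalOf 𝒜 f).1 ⟨p, trivial⟩} = ⊤ := by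
  rw [eq_top_iff]
  rintro ⟨q, hq⟩ -
  have hfp : (f : A) ∉ p.asHomogeneousIdeal := hp
  induction hq using Submodule.span_induction with
  | mem q hq =>
    obtain ⟨i, j, a, s, hs, hij, rfl⟩ := hq
    have hij' : i = j + d := by exact_mod_cast hij
    have hsf : s.1 * f.1 ∉ p.asHomogeneousIdeal := fun h =>
      (p.isPrime.mem_or_mem h).elim hs hfp
    let c : GrTwist.A0 𝒜 p := HomogeneousLocalization.mk
      ⟨i, a, ⟨s.1 * f.1, hij' ▸ SetLike.mul_mem_graded s.2 f.2⟩, hsf⟩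
    rw [Submodule.mem_span_singleton]
    refine ⟨c, ?_⟩
    apply Subtype.ext
    rw [GrTwist.coe_smul_val]
    show Localization.mk a.1 ⟨s.1 * f.1, hsf⟩ * Localization.mk f.1 ⟨1, _⟩ = _
    rw [Localization.mk_mul, Localization.mk_eq_mk_iff, Localization.r_iff_exists]
    refine ⟨1, ?_⟩
    simp only [OneMemClass.coe_one, Submonoid.coe_mul, one_mul, mul_one]
    ring
  | zero => exact Submodule.zero_mem _
  | add x y hx hy ihx ihy => exact Submodule.add_mem _ ihx ihy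
  | smul c x hx ih => exact Submodule.smul_mem _ c ih


theorem mem_of_span_globalOf_eq_top
    (hgen : (HomogeneousIdeal.irrelevant 𝒜).toIdeal = Ideal.span (𝒜 1 : Set A))
    {d : ℕ} (f : 𝒜 d) (p : ProjectiveSpectrum 𝒜)
    (h : Submodule.span (GrTwist.A0 𝒜 p) {(GrTwist.globalOf 𝒜 f).1 ⟨p, trivial⟩} = ⊤) :
    p ∈ ProjectiveSpectrum.basicOpen 𝒜 (f : A) := by
  intro hfp
  have hfp' : (f : A) ∈ p.asHomogeneousIdeal.toIdeal := hfp
  obtain ⟨g, hg, hgp⟩ : ∃ g ∈ 𝒜 1, g ∉ p.asHomogeneousIdeal := by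
    by_contra hno
    push Not at hno
    apply p.not_irrelevant_le
    intro a ha
    have ha' : a ∈ (HomogeneousIdeal.irrelevant 𝒜).toIdeal := ha
    rw [hgen] at ha'
    have : Ideal.span (𝒜 1 : Set A) ≤ p.asHomogeneousIdeal.toIdeal :=
      Ideal.span_le.mpr fun g hg => hno g hg
    exact this ha'
  have hgd : g ^ d ∈ 𝒜 d := by
    have := SetLike.pow_mem_graded d hg
    rwa [smul_eq_mul, mul_one] at this
  have h1p : (1 : A) ∉ p.asHomogeneousIdeal := fun h1 =>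
    p.isPrime.ne_top ((Ideal.eq_top_iff_one _).mpr h1)
  let q₀ : GrTwist.twistAt 𝒜 (d : ℤ) p := ⟨Localization.mk (g ^ d) ⟨1, h1p⟩,
    Submodule.subset_span ⟨d, 0, ⟨g ^ d, hgd⟩, ⟨1, SetLike.GradedOne.one_mem⟩, h1p, by simp, rfl⟩⟩
  have hq₀ : q₀ ∈ Submodule.span (GrTwist.A0 𝒜 p) {(GrTwist.globalOf 𝒜 f).1 ⟨p, trivial⟩} := by
    rw [h]; trivial
  rw [Submodule.mem_span_singleton] at hq₀
  obtain ⟨c, hc⟩ := hq₀
  have hc' := congr(($hc).1)
  rw [GrTwist.coe_smul_val, HomogeneousLocalization.eq_num_div_den] at hc'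
  have hc2 : Localization.mk c.num ⟨c.den, c.den_mem⟩ * Localization.mk f.1 ⟨1, h1p⟩ =
      Localization.mk (g ^ d) ⟨1, h1p⟩ := hc'
  rw [Localization.mk_mul, Localization.mk_eq_mk_iff, Localization.r_iff_exists] at hc2
  obtain ⟨t, ht⟩ := hc2
  simp only [OneMemClass.coe_one, Submonoid.coe_mul, one_mul, mul_one] at ht
  have hmem : (t : A) * (c.num * f.1) ∈ p.asHomogeneousIdeal.toIdeal :=
    Ideal.mul_mem_left _ _ (Ideal.mul_mem_left _ _ hfp')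
  rw [ht] at hmem
  rcases p.isPrime.mem_or_mem hmem with h1 | h1
  · exact t.2 h1
  · rcases p.isPrime.mem_or_mem h1 with h2 | h2
    · exact c.den_mem h2
    · exact hgp (p.isPrime.mem_of_pow_mem d h2)

/-- general form: a unit fraction `a/b` of degree `D` at `p` -/
theorem mem_of_span_globalOf_eq_top' {D i j : ℕ} {a b : A} (ha : a ∈ 𝒜 i) (hb : b ∈ 𝒜 j)
    (hij : i = j + D) (p : ProjectiveSpectrum 𝒜) (hap : a ∉ p.asHomogeneousIdeal)
    (hbp : b ∉ p.asHomogeneousIdeal) (f : 𝒜 D)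
    (h : Submodule.span (GrTwist.A0 𝒜 p) {(GrTwist.globalOf 𝒜 f).1 ⟨p, trivial⟩} = ⊤) :
    p ∈ ProjectiveSpectrum.basicOpen 𝒜 (f : A) := by
  intro hfp
  have hfp' : (f : A) ∈ p.asHomogeneousIdeal.toIdeal := hfp
  have h1p : (1 : A) ∉ p.asHomogeneousIdeal := fun h1 =>
    p.isPrime.ne_top ((Ideal.eq_top_iff_one _).mpr h1)
  let q₀ : GrTwist.twistAt 𝒜 (D : ℤ) p := ⟨Localization.mk a ⟨b, hbp⟩,
    Submodule.subset_span ⟨i, j, ⟨a, ha⟩, ⟨b, hb⟩, hbp, by exact_mod_cast hij, rfl⟩⟩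
  have hq₀ : q₀ ∈ Submodule.span (GrTwist.A0 𝒜 p) {(GrTwist.globalOf 𝒜 f).1 ⟨p, trivial⟩} := by
    rw [h]; trivial
  rw [Submodule.mem_span_singleton] at hq₀
  obtain ⟨c, hc⟩ := hq₀
  have hc' := congr(($hc).1)
  rw [GrTwist.coe_smul_val, HomogeneousLocalization.eq_num_div_den] at hc'
  have hc2 : Localization.mk c.num ⟨c.den, c.den_mem⟩ * Localization.mk f.1 ⟨1, h1p⟩ =
      Localization.mk a ⟨b, hbp⟩ := hc'
  rw [Localization.mk_mul, Localization.mk_eq_mk_iff, Localization.r_iff_exists] at hc2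
  obtain ⟨t, ht⟩ := hc2
  simp only [Submonoid.coe_mul, one_mul, mul_one] at ht
  have hmem : (t : A) * (b * (c.num * f.1)) ∈ p.asHomogeneousIdeal.toIdeal :=
    Ideal.mul_mem_left _ _ (Ideal.mul_mem_left _ _ (Ideal.mul_mem_left _ _ hfp'))
  rw [ht] at hmem
  rcases p.isPrime.mem_or_mem hmem with h1 | h1
  · exact t.2 h1
  · rcases p.isPrime.mem_or_mem h1 with h2 | h2
    · exact c.den_mem h2
    · exact hap h2

theorem S9571 {d : ℕ} {i j : ℕ} {a b : A} (ha : a ∈ 𝒜 i) (hb : b ∈ 𝒜 j) (hij : i = j + d)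
    (p : ProjectiveSpectrum 𝒜) (hp : p ∈ ProjectiveSpectrum.basicOpen 𝒜 (a * b))
    {n : ℕ} (f : 𝒜 (n * d)) :
    p ∈ ProjectiveSpectrum.basicOpen 𝒜 (f : A) ↔
      Submodule.span (GrTwist.A0 𝒜 p) {(GrTwist.globalOf 𝒜 f).1 ⟨p, trivial⟩} = ⊤ := by
  refine ⟨span_globalOf_eq_top_of_mem 𝒜 f p, ?_⟩
  have hab : a * b ∉ p.asHomogeneousIdeal := hp
  have hap : a ∉ p.asHomogeneousIdeal := fun h => hab (Ideal.mul_mem_right _ _ h)
  have hbp : b ∉ p.asHomogeneousIdeal := fun h => hab (Ideal.mul_mem_left _ _ h)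
  refine mem_of_span_globalOf_eq_top' 𝒜 (SetLike.pow_mem_graded n ha) (SetLike.pow_mem_graded n hb)
    ?_ p (fun h => hap (p.isPrime.mem_of_pow_mem n h))
    (fun h => hbp (p.isPrime.mem_of_pow_mem n h)) f
  rw [hij, smul_eq_mul, smul_eq_mul, mul_add]

theorem S3555 (hgen : (HomogeneousIdeal.irrelevant 𝒜).toIdeal = Ideal.span (𝒜 1 : Set A))
    {d : ℕ} (f : 𝒜 d) (p : ProjectiveSpectrum 𝒜) :
    p ∈ ProjectiveSpectrum.basicOpen 𝒜 (f : A) ↔
      Submodule.span (GrTwist.A0 𝒜 p) {(GrTwist.globalOf 𝒜 f).1 ⟨p, trivial⟩} = ⊤ :=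
  ⟨span_globalOf_eq_top_of_mem 𝒜 f p, mem_of_span_globalOf_eq_top 𝒜 hgen f p⟩

end

end Groth.Agent.Helper1.GrTwLib
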