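import Mathlib

set_option autoImplicit false
universe u
namespace Groth.Agent.Helper1.GrVer

open DirectSum HomogeneousLocalization

theorem S4396 {R A : Type u} [CommRing R] [CommRing A] [Algebra R A] (𝒜 : ℕ → Submodule R A)
    [GradedAlgebra 𝒜] {B : Type u} [CommRing B] [Algebra R B] (ℬ : ℕ → Submodule R B)
    [GradedAlgebra ℬ] (d : ℕ) (φ : B →ₐ[R] A) (hφ : Function.Injective φ)
    (hdeg : ∀ n : ℕ, Submodule.map φ.toLinearMap (ℬ n) = 𝒜 (n * d)) (f' : B) (hf' : f' ∈ ℬ 1) :
    ∃ e : HomogeneousLocalization.Away 𝒜 (φ f') ≃+* B ⧸ Ideal.span {f' - 1},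
      ∀ (n : ℕ) (x : B), x ∈ ℬ n →
        (e.symm (Ideal.Quotient.mk (Ideal.span {f' - 1}) x)).val =
          Localization.mk (φ x) ⟨φ f' ^ n, pow_mem (Submonoid.mem_powers (φ f')) n⟩ := by
  classical
  have hmem : ∀ n, ∀ x ∈ ℬ n, φ x ∈ 𝒜 (n • d) := by
    intro n x hx
    rw [smul_eq_mul, ← hdeg n]
    exact ⟨x, hx, rfl⟩
  have hf : φ f' ∈ 𝒜 d := by
    have := hmem 1 f' hf'
    rwa [one_smul] at this
  -- the component maps
  let ψn : ∀ n, ℬ n →+ Away 𝒜 (φ f') := fun n =>
    AddMonoidHom.mk' (fun x => Away.mk 𝒜 hf n (φ x) (hmem n x x.2)) (by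
      intro a b
      apply HomogeneousLocalization.val_injective
      rw [HomogeneousLocalization.val_add, Away.val_mk, Away.val_mk, Away.val_mk,
        Localization.add_mk_self]
      congr 1
      simp)
  have hψn : ∀ n (x : ℬ n), (ψn n x).val =
      Localization.mk (φ x) ⟨φ f' ^ n, pow_mem (Submonoid.mem_powers (φ f')) n⟩ := fun n x => rfl
  have hone : ψn 0 (GradedMonoid.GOne.one (A := fun i => ℬ i)) = 1 := by
    apply HomogeneousLocalization.val_injective
    rw [hψn, HomogeneousLocalization.val_one]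
    have h1 : (⟨φ f' ^ 0, pow_mem (Submonoid.mem_powers (φ f')) 0⟩ : Submonoid.powers (φ f')) = 1 :=
      Subtype.ext (pow_zero _)
    rw [h1]
    have h2 : φ ((GradedMonoid.GOne.one (A := fun i => ℬ i) : ℬ 0) : B) = 1 := map_one φ
    rw [h2]
    exact Localization.mk_one
  have hmul : ∀ {i j} (ai : ℬ i) (aj : ℬ j),
      ψn _ (GradedMonoid.GMul.mul (A := fun i => ℬ i) ai aj) = ψn _ ai * ψn _ aj := by
    intro i j ai aj
    apply HomogeneousLocalization.val_injective
    rw [HomogeneousLocalization.val_mul, hψn, hψn, hψn, Localization.mk_mul]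
    have h1 : (⟨φ f' ^ (i + j), pow_mem (Submonoid.mem_powers (φ f')) (i + j)⟩ :
        Submonoid.powers (φ f')) =
        ⟨φ f' ^ i, pow_mem (Submonoid.mem_powers (φ f')) i⟩ *
          ⟨φ f' ^ j, pow_mem (Submonoid.mem_powers (φ f')) j⟩ := Subtype.ext (pow_add _ _ _)
    rw [h1]
    have h2 : φ ((GradedMonoid.GMul.mul (A := fun i => ℬ i) ai aj : ℬ (i + j)) : B) = φ ai * φ aj :=
      map_mul φ _ _
    rw [h2]
  let ψ : B →+* Away 𝒜 (φ f') :=
    (DirectSum.toSemiring ψn hone hmul).comp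
      ((DirectSum.decomposeRingEquiv ℬ : B ≃+* ⨁ i, ℬ i) : B →+* ⨁ i, ℬ i)
  have hψ : ∀ n, ∀ x (hx : x ∈ ℬ n), ψ x = ψn n ⟨x, hx⟩ := by
    intro n x hx
    show DirectSum.toSemiring ψn hone hmul (DirectSum.decompose ℬ x) = _
    rw [DirectSum.decompose_of_mem ℬ hx, DirectSum.toSemiring_of]
  have hψf : ψ f' = 1 := by
    rw [hψ 1 f' hf']
    apply HomogeneousLocalization.val_injective
    rw [hψn, HomogeneousLocalization.val_one]
    have h1 : (⟨φ f' ^ 1, pow_mem (Submonoid.mem_powers (φ f')) 1⟩ : Submonoid.powers (φ f')) =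
        ⟨φ f', Submonoid.mem_powers _⟩ := Subtype.ext (pow_one _)
    rw [h1]
    exact Localization.mk_self (⟨φ f', Submonoid.mem_powers _⟩ : Submonoid.powers (φ f'))
  have hker : ∀ a ∈ Ideal.span {f' - 1}, ψ a = 0 := by
    intro a ha
    obtain ⟨c, rfl⟩ := Ideal.mem_span_singleton'.1 ha
    rw [map_mul, map_sub, hψf, map_one, sub_self, mul_zero]
  let ψq : B ⧸ Ideal.span {f' - 1} →+* Away 𝒜 (φ f') := Ideal.Quotient.lift _ ψ hker
  have hψq : ∀ x, ψq (Ideal.Quotient.mk _ x) = ψ x := fun x => Ideal.Quotient.lift_mk _ _ _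
  have hπf : Ideal.Quotient.mk (Ideal.span {f' - 1}) f' = 1 := by
    rw [← sub_eq_zero, ← map_one (Ideal.Quotient.mk (Ideal.span {f' - 1})), ← map_sub,
      Ideal.Quotient.eq_zero_iff_mem]
    exact Ideal.subset_span rfl
  have hsurj : Function.Surjective ψq := by
    intro z
    obtain ⟨n, a, ha, rfl⟩ := Away.mk_surjective 𝒜 hf z
    have ha' : a ∈ Submodule.map φ.toLinearMap (ℬ n) := by
      rw [hdeg n, ← smul_eq_mul]; exact ha
    obtain ⟨x, hx, rfl⟩ := ha'
    refine ⟨Ideal.Quotient.mk _ x, ?_⟩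
    rw [hψq, hψ n x hx]
    rfl
  have hinj : Function.Injective ψq := by
    rw [injective_iff_map_eq_zero]
    intro q hq
    obtain ⟨x, rfl⟩ := Ideal.Quotient.mk_surjective q
    -- homogenize
    obtain ⟨N, hN⟩ : ∃ N, ∀ n ∈ (DirectSum.decompose ℬ x).support, n ≤ N :=
      ⟨(DirectSum.decompose ℬ x).support.sup id, fun n hn => Finset.le_sup (f := id) hn⟩
    set y : B := ∑ n ∈ (DirectSum.decompose ℬ x).support,
      (DirectSum.decompose ℬ x n : B) * f' ^ (N - n) with hy
    have hyN : y ∈ ℬ N := by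
      refine sum_mem fun n hn => ?_
      have h1 : f' ^ (N - n) ∈ ℬ (N - n) := by
        have := SetLike.pow_mem_graded (A := ℬ) (N - n) hf'
        rwa [smul_eq_mul, mul_one] at this
      have h2 := SetLike.mul_mem_graded (DirectSum.decompose ℬ x n).2 h1
      have h3 : n + (N - n) = N := by have := hN n hn; omega
      rwa [h3] at h2
    have hπy : Ideal.Quotient.mk (Ideal.span {f' - 1}) y = Ideal.Quotient.mk _ x := by
      conv_rhs => rw [← DirectSum.sum_support_decompose ℬ x]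
      rw [hy, map_sum, map_sum]
      refine Finset.sum_congr rfl fun n _ => ?_
      rw [map_mul, map_pow, hπf, one_pow, mul_one]
    rw [← hπy] at hq ⊢
    rw [hψq, hψ N y hyN] at hq
    have hval := congrArg HomogeneousLocalization.val hq
    rw [hψn, HomogeneousLocalization.val_zero, Localization.mk_eq_mk', IsLocalization.mk'_eq_zero_iff]
      at hval
    obtain ⟨⟨_, k, rfl⟩, hk⟩ := hval
    have hk' : φ (f' ^ k * y) = 0 := by
      rw [map_mul, map_pow]; exact hk
    have hzero : f' ^ k * y = 0 := hφ (by rw [hk', map_zero])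
    have : Ideal.Quotient.mk (Ideal.span {f' - 1}) (f' ^ k * y) = Ideal.Quotient.mk _ y := by
      rw [map_mul, map_pow, hπf, one_pow, one_mul]
    rw [← this, hzero, map_zero]
  refine ⟨(RingEquiv.ofBijective ψq ⟨hinj, hsurj⟩).symm, ?_⟩
  intro n x hx
  rw [RingEquiv.symm_symm]
  show (ψq (Ideal.Quotient.mk _ x)).val = _
  rw [hψq, hψ n x hx, hψn]

end Groth.Agent.Helper1.GrVer
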