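import Mathlib

/-! Averaging over a finite group whose order is invertible; S13141, S13142. -/

namespace Groth.Agent.Helper1.GrpAvg

open scoped TensorProduct

universe u v w w'

section Avg

variable {R : Type u} [CommRing R] {G : Type v} [Group G] [Fintype G]
  {M : Type w} [AddCommGroup M] [Module R M]

/-- averaging operator -/
noncomputable def avg (σ : G → M →ₗ[R] M) (c : R) : M →ₗ[R] M := c • ∑ g, σ g

theorem avg_apply (σ : G → M →ₗ[R] M) (c : R) (x : M) : avg σ c x = c • ∑ g, σ g x := by
  simp [avg, LinearMap.sum_apply]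

theorem map_avg (σ : G → M →ₗ[R] M) (hmul : ∀ h g x, σ h (σ g x) = σ (h * g) x) (c : R) (h : G)
    (x : M) : σ h (avg σ c x) = avg σ c x := by
  rw [avg_apply, map_smul, map_sum]
  congr 1
  simp only [hmul]
  exact Fintype.sum_equiv (Equiv.mulLeft h) _ _ (fun g => by simp)

theorem avg_of_fixed (σ : G → M →ₗ[R] M) (c : R) (hc : c * (Fintype.card G : R) = 1) (x : M)
    (hx : ∀ g, σ g x = x) : avg σ c x = x := by
  rw [avg_apply]
  simp only [hx, Finset.sum_const, Finset.card_univ]
  rw [← Nat.cast_smul_eq_nsmul R, smul_smul, hc, one_smul]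

end Avg

theorem S13142 (R : Type u) [CommRing R] (G : Type v) [Group G] [Finite G]
    (hG : IsUnit ((Nat.card G : ℕ) : R))
    (n : ℕ) (ρ : G →* (MvPolynomial (Fin n) R ≃ₐ[R] MvPolynomial (Fin n) R)) :
    Module.Flat R ↥(⨅ g : G, LinearMap.eqLocus (ρ g).toLinearMap
      (LinearMap.id : MvPolynomial (Fin n) R →ₗ[R] MvPolynomial (Fin n) R)) := by
  classical
  haveI : Fintype G := Fintype.ofFinite G
  obtain ⟨c, hc⟩ := hG.exists_left_inv
  rw [Nat.card_eq_fintype_card] at hc
  let σ : G → MvPolynomial (Fin n) R →ₗ[R] MvPolynomial (Fin n) R := fun g => (ρ g).toLinearMap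
  have hmul : ∀ h g x, σ h (σ g x) = σ (h * g) x := by
    intro h g x
    simp [σ, map_mul]
  have hmem : ∀ x, x ∈ (⨅ g : G, LinearMap.eqLocus (ρ g).toLinearMap
      (LinearMap.id : MvPolynomial (Fin n) R →ₗ[R] MvPolynomial (Fin n) R)) ↔ ∀ g, σ g x = x := by
    intro x
    simp [Submodule.mem_iInf, LinearMap.mem_eqLocus, σ]
  let r : MvPolynomial (Fin n) R →ₗ[R] ↥(⨅ g : G, LinearMap.eqLocus (ρ g).toLinearMap
      (LinearMap.id : MvPolynomial (Fin n) R →ₗ[R] MvPolynomial (Fin n) R)) :=
    (avg σ c).codRestrict _ (fun x => (hmem _).mpr (fun g => map_avg σ hmul c g x))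
  refine Module.Flat.of_retract (Submodule.subtype _) r ?_
  ext1 x
  apply Subtype.ext
  exact avg_of_fixed σ c hc x ((hmem x).mp x.2)

theorem S13141 (R : Type u) [CommRing R] (G : Type v) [Group G] [Finite G]
    (hG : IsUnit ((Nat.card G : ℕ) : R))
    (M : Type w) [AddCommGroup M] [Module R M] (ρ : Representation R G M)
    (S : Type w') [CommRing S] [Algebra R S] :
    Function.Injective (TensorProduct.map ρ.invariants.subtype (LinearMap.id : S →ₗ[R] S)) ∧
    LinearMap.range (TensorProduct.map ρ.invariants.subtype (LinearMap.id : S →ₗ[R] S)) =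
      ⨅ g : G, LinearMap.eqLocus (LinearMap.rTensor S (ρ g)) LinearMap.id := by
  classical
  haveI : Fintype G := Fintype.ofFinite G
  obtain ⟨c, hc⟩ := hG.exists_left_inv
  rw [Nat.card_eq_fintype_card] at hc
  let σ : G → M →ₗ[R] M := fun g => ρ g
  have hmul : ∀ h g x, σ h (σ g x) = σ (h * g) x := by
    intro h g x
    simp [σ, map_mul]
  have hmem : ∀ x, x ∈ ρ.invariants ↔ ∀ g, σ g x = x := fun x => Representation.mem_invariants ρ x
  let r : M →ₗ[R] ρ.invariants :=
    (avg σ c).codRestrict _ (fun x => (hmem _).mpr (fun g => map_avg σ hmul c g x))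
  have hri : r ∘ₗ ρ.invariants.subtype = LinearMap.id := by
    ext1 x
    apply Subtype.ext
    exact avg_of_fixed σ c hc x ((hmem x).mp x.2)
  have hir : ρ.invariants.subtype ∘ₗ r = avg σ c := by
    ext x; rfl
  constructor
  · apply Function.LeftInverse.injective (g := TensorProduct.map r LinearMap.id)
    intro t
    rw [← LinearMap.comp_apply, ← TensorProduct.map_comp, hri, LinearMap.id_comp,
      TensorProduct.map_id, LinearMap.id_apply]
  · apply le_antisymm
    · rintro _ ⟨t, rfl⟩
      rw [Submodule.mem_iInf]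
      intro g
      rw [LinearMap.mem_eqLocus, LinearMap.id_apply]
      show (TensorProduct.map (ρ g) LinearMap.id) _ = _
      rw [← LinearMap.comp_apply, ← TensorProduct.map_comp, LinearMap.id_comp]
      congr 2
      ext x
      exact (hmem x).mp x.2 g
    · intro y hy
      rw [Submodule.mem_iInf] at hy
      have hy' : ∀ g, (σ g).rTensor S y = y := fun g => by
        have := hy g
        rwa [LinearMap.mem_eqLocus, LinearMap.id_apply] at this
      have h1 : (avg σ c).rTensor S y = y := by
        have h2 : (avg σ c).rTensor S = avg (fun g => (σ g).rTensor S) c := by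
          show LinearMap.rTensorHom S (c • ∑ g, σ g) = c • ∑ g, LinearMap.rTensorHom S (σ g)
          rw [map_smul, map_sum]
        rw [h2]
        exact avg_of_fixed _ c hc y hy'
      rw [← h1, ← hir, LinearMap.rTensor_comp]
      exact ⟨r.rTensor S y, rfl⟩

end Groth.Agent.Helper1.GrpAvg
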