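import Mathlib
import Groth.Agent.Lib.Helper1.NM8
import Groth.Agent.Lib.Helper1.CurveCart1
import Groth.Agent.Lib.Helper1.CurveDual2
import Groth.Agent.Lib.Helper4.SubPush1
import Groth.Agent.Lib.Helper4.ClBridge2

/-!
# Powers of `O(D)` are globally generated when `O(D)|_D` is ample (helper1)
-/

set_option autoImplicit false
universe u

open CategoryTheory CategoryTheory.Limits AlgebraicGeometry TopologicalSpace Opposite

namespace Groth.Agent.Helper1.NM

open Groth.Agent.Helper1.QcCech Groth.Agent.Helper1 Groth.Agent.Helper1.TwForm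
open Groth.Agent.Lib.Helper4

section Killed

variable {X : Scheme.{u}}

theorem killedByIdeal_of_iso {I : X.IdealSheafData} {M N : X.Modules} (e : M ≅ N)
    (h : ClSub.KilledByIdeal I M) : ClSub.KilledByIdeal I N := by
  intro U a ha n
  have h1 : e.hom.app U.1 (e.inv.app U.1 n) = n :=
    congrArg (fun ψ => (Scheme.Modules.Hom.app ψ U.1) n) e.inv_hom_id
  have h2 := Scheme.Modules.Hom.app_smul e.hom a (e.inv.app U.1 n)
  rw [h1] at h2
  have h3 : a • (e.inv.app U.1 n) = 0 := h U a ha (e.inv.app U.1 n)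
  have h4 : (a • (show Γ(N, U.1) from n)) = 0 := by
    rw [← h2, h3, map_zero]
  exact h4

end Killed

section Cartier

variable (k : Type u) [Field k] (X : Scheme.{u}) [X.Over (Spec (CommRingCat.of k))]
  [IsProper (X ↘ (Spec (CommRingCat.of k)))]

include k in
/-- **S17288** -/
theorem gg_of_cartier (D : X.IdealSheafData) (hD : PicF.IsInvertible (ClSub.idealMod D))
    (LD : X.Modules) (hLD : ClSub.IsInverseOf LD (ClSub.idealMod D))
    (hample : CohB1.IsAmple ((Scheme.Modules.pullback D.subschemeι).obj LD)) :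
    ∃ n₀ : ℕ, ∀ n, n₀ ≤ n → Curv2.IsGloballyGenerated (CohB1.tensorPow LD n) := by
  obtain ⟨i⟩ := hLD
  have hLDi : PicF.IsInvertible LD := CurveCart.isInvertible_left_of_tensor_iso hD i
  let S'' := (IdealModL.S D).map (TwExact.TL LD)
  have hS'' : S''.ShortExact :=
    TwExact.shortExact_map (TwExact.locGen_of_isInvertible _ hLDi) (CurveDual.shortExact_S D)
  let α : Coh.structureModule X ≅ S''.X₁ :=
    i.symm ≪≫ TildeTens.tensorModComm LD (ClSub.idealMod D)
  let β : S''.X₂ ≅ LD :=
    TildeTens.tensorModComm _ _ ≪≫ Groth.Agent.Lib.Helper5.LTenFlf.tensorUnitIso LD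
  let s : Coh.structureModule X ⟶ LD := α.hom ≫ S''.f ≫ β.hom
  haveI : Mono S''.f := hS''.mono_f
  haveI : Epi S''.g := hS''.epi_g
  haveI : Mono s := by
    change Mono (α.hom ≫ S''.f ≫ β.hom)
    infer_instance
  let ec : cokernel s ≅ S''.X₃ :=
    cokernelEpiComp α.hom (S''.f ≫ β.hom) ≪≫ cokernelCompIsIso S''.f β.hom ≪≫
      (cokernelIsCokernel S''.f).coconePointUniqueUpToIso hS''.exact.gIsCokernel
  obtain ⟨pf⟩ := ClBridge2.nonempty_projFormula D.subschemeι
    (Coh.structureModule D.subscheme) LD hLDi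
  have hk : ClSub.KilledByIdeal D (cokernel s) :=
    killedByIdeal_of_iso (pf.symm ≪≫ ec.symm) (SubPush1.killedByIdeal_push D _)
  exact gg_of_section k X hLDi s D hk hample

end Cartier

end Groth.Agent.Helper1.NM
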