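import Mathlib
import Groth.Agent.Lib.Helper1.NegVan1
import Groth.Agent.Lib.Helper1.NM9
import Groth.Agent.Lib.Helper1.NM4

/-!
# Vanishing of `H⁰` of very negative twists: separating sections (helper1)
-/

set_option autoImplicit false
universe u

open CategoryTheory CategoryTheory.Limits AlgebraicGeometry TopologicalSpace Opposite

namespace Groth.Agent.Helper1.NegVan

open Groth.Agent.Helper1.QcCech Groth.Agent.Helper1 Groth.Agent.Helper1.TwForm
open Groth.Agent.Helper1.LGen Groth.Agent.Helper1.SecOps Groth.Agent.Helper1.AmpleLib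
open Groth.Agent.Helper1.NM Groth.Agent.Lib.Helper4

section Sep

variable {X : Scheme.{u}}

/-- a section killed by an epimorphism onto a module does not generate at the points of the
support of the target -/
theorem notMem_genLocus_of_comp_eq_zero {M C : X.Modules} (σ : Coh.structureModule X ⟶ M)
    (ρ : M ⟶ C) [Epi ρ] (h0 : σ ≫ ρ = 0) (y : X) (hy : y ∈ CohB1.support C) :
    y ∉ CohB1.genLocus M σ := by
  intro hmem
  obtain ⟨W', hyW', hW'⟩ := (GenLoc.mem_genLocus_iff M σ y).1 hmem
  apply hy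
  have hz : ∀ z : ↑(C.presheaf.stalk y), z = 0 := by
    intro z
    obtain ⟨V, hyV, n, rfl⟩ := TopCat.Presheaf.exists_germ_eq C.presheaf z
    obtain ⟨V', hV', n', hyV', hn'⟩ :=
      Groth.Agent.Lib.Helper5.LocLift.exists_local_lift ρ (V ⊓ W')
        (res C (inf_le_left : V ⊓ W' ≤ V) n) y ⟨hyV, hyW'⟩
    have hV'W : V' ≤ W' := hV'.trans inf_le_right
    obtain ⟨r, hr⟩ := (hW' V' hV'W).2 n'
    have h1 : ρ.app V' n' = 0 := by
      rw [← hr]
      change (σ ≫ ρ).app V' r = 0
      rw [h0]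
      rfl
    have h2 : res C (hV'.trans inf_le_left) n = 0 := by
      rw [← res_res C (inf_le_left : V ⊓ W' ≤ V) hV' n]
      exact hn'.symm.trans h1
    have e1 := TopCat.Presheaf.germ_res_apply C.presheaf (homOfLE (hV'.trans inf_le_left)) y
      hyV' n
    rw [← e1]
    change (C.presheaf.germ V' y hyV') (res C (hV'.trans inf_le_left) n) = 0
    rw [h2, map_zero]
  constructor
  intro z₁ z₂
  rw [hz z₁, hz z₂]

/-- sections of the middle term of a short exact sequence lift locally away from the support of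
the right term -/
theorem exists_lift_of_notMem_support (S : ShortComplex X.Modules) (hS : S.ShortExact) (x : X)
    (hx : x ∉ CohB1.support S.X₃) {W : X.Opens} (hxW : x ∈ W) (a : Γ(S.X₂, W)) :
    ∃ (W₁ : X.Opens) (h : W₁ ≤ W) (_ : x ∈ W₁) (b : Γ(S.X₁, W₁)),
      S.f.app W₁ b = res S.X₂ h a := by
  have hsub : Subsingleton ↑(S.X₃.presheaf.stalk x) := not_not.1 hx
  set c : Γ(S.X₃, W) := S.g.app W a with hc
  have h1 : S.X₃.presheaf.germ W x hxW c = S.X₃.presheaf.germ W x hxW 0 :=
    Subsingleton.elim _ _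
  obtain ⟨W', hxW', iU, iV, e⟩ :=
    TopCat.Presheaf.germ_eq S.X₃.presheaf x hxW hxW _ _ h1
  have hW'W : W' ≤ W := leOfHom iU
  have e' : res S.X₃ hW'W c = 0 := by
    have h2 : S.X₃.presheaf.map iV.op (0 : Γ(S.X₃, W)) = 0 := map_zero _
    rw [h2] at e
    exact e
  haveI : Mono S.f := hS.mono_f
  obtain ⟨y, hy⟩ := QcAbel.app_exact' hS.exact W' (res S.X₂ hW'W a) (by
    rw [QcExt.app_res]
    exact e')
  exact ⟨W', hW'W, hxW', y, hy⟩

/-- if a local generator is locally a combination of global sections, one of them generates -/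
theorem exists_mem_genLocus_of_mem_span {M : X.Modules} {ι : Type*} (τ : ι → Γ(M, ⊤))
    {W : X.Opens} {a : Γ(M, W)} (ha : IsGen M W a) (x : X) {W' : X.Opens} (hW' : W' ≤ W)
    (hxW' : x ∈ W') (hmem : res M hW' a ∈ (GlobGen.spanPre τ).carrier W') :
    ∃ i, x ∈ CohB1.genLocus M (TwistAmple.homOfSec M (τ i)) := by
  by_contra hcon
  rw [not_exists] at hcon
  have hxW : x ∈ W := hW' hxW'
  have key : ∀ m : Γ(M, W'), m ∈ (GlobGen.spanPre τ).carrier W' →
      ∃ g : Γ(X, W'), x ∉ X.basicOpen g ∧ m = g • res M hW' a := by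
    intro m hm
    induction hm using Submodule.span_induction with
    | mem m hm =>
      obtain ⟨i, rfl⟩ := hm
      obtain ⟨φ, hφ⟩ := ha.exists_coeff (res M (le_top : W ≤ ⊤) (τ i))
      have hφ' : φ • a = secVal (TwistAmple.homOfSec M (τ i)) W := by
        rw [secVal_homOfSec]
        exact hφ
      have hxφ : x ∉ X.basicOpen φ := fun h =>
        hcon i ((mem_genLocus_iff_of_isGen _ ha φ hφ' x hxW).2 h)
      refine ⟨resR hW' φ, ?_, ?_⟩
      · intro h
        have h2 : X.basicOpen (resR hW' φ) = W' ⊓ X.basicOpen φ :=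
          Scheme.basicOpen_res X φ (homOfLE hW').op
        rw [h2] at h
        exact hxφ h.2
      · change res M (le_top : W' ≤ ⊤) (τ i) = _
        rw [← res_res M (le_top : W ≤ ⊤) hW' (τ i), ← hφ, res_smul]
    | zero =>
      refine ⟨0, ?_, by rw [zero_smul]⟩
      rw [Scheme.basicOpen_zero]
      exact fun h => h
    | add m₁ m₂ _ _ h₁ h₂ =>
      obtain ⟨g₁, hg₁, e₁⟩ := h₁
      obtain ⟨g₂, hg₂, e₂⟩ := h₂
      refine ⟨g₁ + g₂, fun h => ?_, by rw [add_smul, ← e₁, ← e₂]⟩
      exact (mem_basicOpen_add_cases g₁ g₂ x h).elim hg₁ hg₂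
    | smul r m _ h₁ =>
      obtain ⟨g₁, hg₁, e₁⟩ := h₁
      refine ⟨r * g₁, fun h => ?_, by rw [mul_smul, ← e₁]⟩
      rw [Scheme.basicOpen_mul] at h
      exact hg₁ h.2
  obtain ⟨g, hg, hm'⟩ := key _ hmem
  have h1 : g = 1 := by
    apply (ha W' hW').1
    change g • res M hW' a = (1 : Γ(X, W')) • res M hW' a
    rw [one_smul, ← hm']
  rw [h1, Scheme.basicOpen_one] at hg
  exact hg hxW'

/-- a section of an invertible module `N` vanishing along `V(J)` and generating at a given point
outside `V(J)`, when `J ⊗ N` is globally generated -/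
theorem exists_separating_section {N : X.Modules} (hN : PicF.IsInvertible N)
    (J : X.IdealSheafData)
    (hgg : Curv2.IsGloballyGenerated (CohB1.tensorMod (ClSub.idealMod J) N))
    (x : X) (hx : x ∉ (J.support : Set X)) :
    ∃ σ : Coh.structureModule X ⟶ N, x ∈ CohB1.genLocus N σ ∧
      ∀ y ∈ (J.support : Set X), y ∉ CohB1.genLocus N σ := by
  let S'' := (IdealModL.S J).map (TwExact.TL N)
  have hS'' : S''.ShortExact :=
    TwExact.shortExact_map (TwExact.locGen_of_isInvertible _ hN) (CurveDual.shortExact_S J)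
  let β : S''.X₂ ≅ N :=
    TildeTens.tensorModComm _ _ ≪≫ Groth.Agent.Lib.Helper5.LTenFlf.tensorUnitIso N
  let q : CohB1.tensorMod (ClSub.idealMod J) N ⟶ N := S''.f ≫ β.hom
  let ρ : N ⟶ S''.X₃ := β.inv ≫ S''.g
  haveI : Epi S''.g := hS''.epi_g
  haveI : Epi ρ := epi_comp β.inv S''.g
  have hqρ : q ≫ ρ = 0 := by
    change (S''.f ≫ β.hom) ≫ β.inv ≫ S''.g = 0
    rw [Category.assoc, β.hom_inv_id_assoc, S''.zero]
  have hsuppX₃ : ∀ y, y ∈ CohB1.support S''.X₃ ↔ y ∈ (J.support : Set X) := by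
    intro y
    constructor
    · intro h
      have h1 : y ∈ CohB1.support (ClSub.quotMod J) :=
        support_tensor_subset (C := ClSub.quotMod J) hN y h
      rwa [support_quotMod] at h1
    · intro h
      apply mem_support_tensor (C := ClSub.quotMod J) hN y
      rw [support_quotMod]
      exact h
  obtain ⟨I, p, hp⟩ := hgg
  set σs : I → Γ(CohB1.tensorMod (ClSub.idealMod J) N, ⊤) := fun i =>
    ((CohB1.tensorMod (ClSub.idealMod J) N).freeHomEquiv p i).1 (op ⊤) with hσs
  haveI : Epi (GlobGen.ofSections σs) := by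
    rw [← GlobGen.eq_ofSections p]
    exact hp
  -- vanishing along the support of `J`
  have hvan : ∀ i, ∀ y ∈ (J.support : Set X),
      y ∉ CohB1.genLocus N (TwistAmple.homOfSec N (q.app ⊤ (σs i))) := by
    intro i y hy
    apply notMem_genLocus_of_comp_eq_zero _ ρ _ y ((hsuppX₃ y).2 hy)
    rw [← homOfSec_comp q (σs i), Category.assoc, hqρ, comp_zero]
  -- generation at `x`
  obtain ⟨W, a, hxW, ha⟩ := exists_isGen hN x
  obtain ⟨W₁, hW₁, hxW₁, b, hb⟩ := exists_lift_of_notMem_support S'' hS'' x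
    (fun h => hx ((hsuppX₃ x).1 h)) hxW (β.inv.app W a)
  obtain ⟨W₂, hW₂, hxW₂, hm⟩ := GlobGen.mem_loc_of_epi σs b x hxW₁
  have hqb : q.app W₂ (res (CohB1.tensorMod (ClSub.idealMod J) N) hW₂ b) =
      res N (hW₂.trans hW₁) a := by
    rw [QcExt.app_res]
    change res N hW₂ (β.hom.app W₁ (S''.f.app W₁ b)) = _
    rw [hb, QcExt.app_res, res_res]
    congr 1
    have : (β.inv ≫ β.hom).app W a = a := by
      rw [β.inv_hom_id]
      rfl
    exact this
  have hmem : res N (hW₂.trans hW₁) a ∈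
      (GlobGen.spanPre (fun i => q.app ⊤ (σs i))).carrier W₂ := by
    rw [← hqb]
    exact app_mem_spanPre q σs W₂ _ hm
  obtain ⟨i, hi⟩ := exists_mem_genLocus_of_mem_span (fun i => q.app ⊤ (σs i)) ha x
    (hW₂.trans hW₁) hxW₂ hmem
  exact ⟨TwistAmple.homOfSec N (q.app ⊤ (σs i)), hi, hvan i⟩

/-- **separating sections**: for a finite set `T` of closed points and `L` ample, for all large
`n` and every `x ∈ T` there is a section of `L^n` generating at `x` and vanishing at the other
points of `T` -/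
theorem exists_separating_sections [IsLocallyNoetherian X] {L : X.Modules}
    (hL : CohB1.IsAmple L) (T : Finset X) (hT : ∀ x ∈ T, IsClosed ({x} : Set X)) :
    ∃ n₀ : ℕ, ∀ n, n₀ ≤ n → ∀ x ∈ T,
      ∃ σ : Coh.structureModule X ⟶ CohB1.tensorPow L n,
        x ∈ CohB1.genLocus _ σ ∧ ∀ y ∈ T, y ≠ x → y ∉ CohB1.genLocus _ σ := by
  classical
  have hcl : ∀ x : X, IsClosed ((T.erase x : Finset X) : Set X) := fun x => by
    rw [← Set.biUnion_of_singleton ((T.erase x : Finset X) : Set X)]
    exact (T.erase x).finite_toSet.isClosed_biUnion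
      (fun y hy => hT y (Finset.mem_of_mem_erase hy))
  let J : X → X.IdealSheafData := fun x =>
    Scheme.IdealSheafData.vanishingIdeal ⟨((T.erase x : Finset X) : Set X), hcl x⟩
  have hJ : ∀ x, ((J x).support : Set X) = ((T.erase x : Finset X) : Set X) := fun x =>
    Scheme.IdealSheafData.coe_support_vanishingIdeal _
  have hn : ∀ x : X, ∃ n₀ : ℕ, ∀ n, n₀ ≤ n → Curv2.IsGloballyGenerated
      (CohB1.tensorMod (ClSub.idealMod (J x)) (CohB1.tensorPow L n)) := fun x =>
    AmpleLib.eventually_globallyGenerated hL _ (CurveDual.isCoh_idealMod (J x))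
  choose n₀ hn₀ using hn
  refine ⟨T.sup n₀, fun n hn x hx => ?_⟩
  have hgg := hn₀ x n ((Finset.le_sup hx).trans hn)
  obtain ⟨σ, h1, h2⟩ := exists_separating_section (isInvertible_tensorPow hL.1 n) (J x) hgg x
    (by
      rw [hJ]
      intro h
      exact (Finset.ne_of_mem_erase (Finset.mem_coe.1 h)) rfl)
  refine ⟨σ, h1, fun y hy hyx => h2 y ?_⟩
  rw [hJ]
  exact Finset.mem_coe.2 (Finset.mem_erase.2 ⟨hyx, hy⟩)

end Sep

end Groth.Agent.Helper1.NegVan
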