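import Mathlib
import Groth.Agent.Lib.Helper1.NegVan2
import Groth.Agent.Lib.Helper1.CurveAmp1
import Groth.Agent.Lib.Helper1.CurveCart1
import Groth.Agent.Lib.Helper4.T2Main1
import Groth.Agent.Lib.Helper4.KosC1

/-!
# Vanishing of `H⁰` of very negative twists (helper1)
-/

set_option autoImplicit false
universe u

open CategoryTheory CategoryTheory.Limits AlgebraicGeometry TopologicalSpace Opposite

namespace Groth.Agent.Helper1.NegVan

open Groth.Agent.Helper1.QcCech Groth.Agent.Helper1 Groth.Agent.Helper1.TwForm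
open Groth.Agent.Helper1.LGen Groth.Agent.Helper1.SecOps Groth.Agent.Helper1.AmpleLib
open Groth.Agent.Helper1.NM Groth.Agent.Lib.Helper4

section Iso

variable {X : Scheme.{u}} {L M : X.Modules}

/-- `O` as a form of `O` of degree `(1,1)` in `(L, M)`, given `L ⊗ M ≅ O` -/
noncomputable def unitTw (i : CohB1.tensorMod L M ≅ Coh.structureModule X) :
    Tw L M (Coh.structureModule X) 1 1 (Coh.structureModule X) :=
  (((Tw.fst L M).tensorR (Tw.snd L M)).ofIso i).cast (add_zero 1) (zero_add 1)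

/-- `F` as a form of itself of degree `(n,n)` -/
noncomputable def selfTw (i : CohB1.tensorMod L M ≅ Coh.structureModule X) (F : X.Modules) :
    (n : ℕ) → Tw L M F (n : ℤ) (n : ℤ) F
  | 0 => (Tw.self L M F).cast Nat.cast_zero.symm Nat.cast_zero.symm
  | n + 1 => (((selfTw i F n).tensorR (unitTw i)).ofIso
      (show CohB1.tensorMod F (Coh.structureModule X) ≅ F from
        Groth.Agent.Lib.Helper5.LTenFlf.tensorUnitIso F)).cast
      (Nat.cast_succ n).symm (Nat.cast_succ n).symm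

/-- `(F ⊗ M^n) ⊗ L^n ≅ F` when `L ⊗ M ≅ O` -/
noncomputable def cancelIso (hL : PicF.IsInvertible L) (hM : PicF.IsInvertible M)
    (i : CohB1.tensorMod L M ≅ Coh.structureModule X) (F : X.Modules) (n : ℕ) :
    CohB1.tensorMod (CohB1.tensorMod F (CohB1.tensorPow M n)) (CohB1.tensorPow L n) ≅ F :=
  Tw.iso ((((Tw.self L M F).tensorR ((Tw.snd L M).pow n)).tensorR ((Tw.fst L M).pow n)).cast
      (by ring) (by ring))
    (selfTw i F n) (locFrame_of_isInvertible hL hM)

end Iso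

section Main

variable (k : Type u) [Field k] (X : Scheme.{u}) [X.Over (Spec (CommRingCat.of k))]
  [IsProper (X ↘ (Spec (CommRingCat.of k)))] [IsNoetherian X]

/-- the main step: vanishing of `H⁰(F ⊗ M^n)` from separating sections of `L^n` -/
theorem subsingleton_H0_of_sections {L M F : X.Modules} (hLi : PicF.IsInvertible L)
    (hMi : PicF.IsInvertible M) (i : CohB1.tensorMod L M ≅ Coh.structureModule X)
    (hF : Coh.IsCoh F) (n D : ℕ) (hD : Module.finrank k (Coh.HH X F 0) = D)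
    (hsec : ∀ ξ : X, Curv2.IsAssPoint F ξ →
      ∃ (p : Fin (D + 1) → X) (σ : Fin (D + 1) → (Coh.structureModule X ⟶ CohB1.tensorPow L n)),
        (∀ j, ξ ⤳ p j) ∧ (∀ j, p j ∈ CohB1.genLocus _ (σ j)) ∧
          (∀ j j', j' ≠ j → p j ∉ CohB1.genLocus _ (σ j'))) :
    Subsingleton (Coh.HH X (CohB1.tensorMod F (CohB1.tensorPow M n)) 0) := by
  classical
  have hLn : PicF.IsInvertible (CohB1.tensorPow L n) := isInvertible_tensorPow hLi n
  have hMn : PicF.IsInvertible (CohB1.tensorPow M n) := isInvertible_tensorPow hMi n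
  have hGc : Coh.IsCoh (CohB1.tensorMod F (CohB1.tensorPow M n)) :=
    Euler.isCoh_tensor _ _ hF (InvQc.isCoh_of_isInvertible _ hMn)
  have e := cancelIso hLi hMi i F n
  haveI : Module.Finite k (Coh.HH X F 0) := T2Main1.t2 k X F hF 0
  haveI : Module.Finite k (Coh.HH X (CohB1.tensorMod (CohB1.tensorMod F (CohB1.tensorPow M n))
      (CohB1.tensorPow L n)) 0) := Module.Finite.equiv (HHFin1.HHequiv k e 0).symm
  have hrank : Module.finrank k (Coh.HH X (CohB1.tensorMod
      (CohB1.tensorMod F (CohB1.tensorPow M n)) (CohB1.tensorPow L n)) 0) = D := by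
    rw [← hD]
    exact (HHFin1.HHequiv k e 0).finrank_eq
  suffices h : ∀ v : Coh.HH X (CohB1.tensorMod F (CohB1.tensorPow M n)) 0, v = 0 from
    ⟨fun v₁ v₂ => by rw [h v₁, h v₂]⟩
  intro v
  by_contra hv
  have ht0 : HH0.equiv X (CohB1.tensorMod F (CohB1.tensorPow M n)) v ≠ 0 := fun h =>
    hv ((HH0.equiv X _).injective (h.trans (map_zero _).symm))
  obtain ⟨ξ, hξass, hξt⟩ := exists_assPoint_germ_ne_zero
    (CohB1.tensorMod F (CohB1.tensorPow M n)) hGc.1
    (HH0.equiv X (CohB1.tensorMod F (CohB1.tensorPow M n)) v) ht0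
  have hξF : Curv2.IsAssPoint F ξ := (isAssPoint_tensor_right hMn F ξ).1 hξass
  obtain ⟨p, σ, hspec, hgen, hvan⟩ := hsec ξ hξF
  -- the sections and their classes
  let y : Fin (D + 1) → Coh.HH X (CohB1.tensorPow L n) 0 := fun j =>
    (HH0.equiv X (CohB1.tensorPow L n)).symm (secVal (σ j) ⊤)
  let w : Fin (D + 1) → Coh.HH X (CohB1.tensorMod (CohB1.tensorMod F (CohB1.tensorPow M n))
      (CohB1.tensorPow L n)) 0 := fun j =>
    CurveAmp.mulH k (CohB1.tensorMod F (CohB1.tensorPow M n)) (CohB1.tensorPow L n) 0 v (y j)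
  have hnli : ¬ LinearIndependent k w := fun hli => by
    have h1 := hli.fintype_card_le_finrank
    rw [Fintype.card_fin, hrank] at h1
    omega
  obtain ⟨c, hc0, j₀, hcj⟩ := Fintype.not_linearIndependent_iff.1 hnli
  have h1 : CurveAmp.mulH k (CohB1.tensorMod F (CohB1.tensorPow M n)) (CohB1.tensorPow L n) 0 v
      (∑ j, c j • y j) = 0 := by
    rw [map_sum]
    simp_rw [map_smul]
    exact hc0
  let r : Fin (D + 1) → Γ(X, ⊤) := fun j => Coh.toGlobal (X ↘ Spec (CommRingCat.of k)) (c j)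
  have hτ₀ : HH0.equiv X (CohB1.tensorPow L n) (∑ j, c j • y j) =
      ∑ j, r j • secVal (σ j) ⊤ := by
    rw [map_sum]
    refine Finset.sum_congr rfl fun j _ => ?_
    refine (HH0.equiv_smul_over X (CohB1.tensorPow L n) (c j) (y j)).trans ?_
    have h5 : HH0.equiv X (CohB1.tensorPow L n) (y j) = secVal (σ j) ⊤ :=
      (HH0.equiv X (CohB1.tensorPow L n)).apply_symm_apply (secVal (σ j) ⊤)
    rw [h5]
    rfl
  set τ₀ := HH0.equiv X (CohB1.tensorPow L n) (∑ j, c j • y j) with hτ₀def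
  have h2 : (CurveAmp.mulΓ (CohB1.tensorMod F (CohB1.tensorPow M n)) (CohB1.tensorPow L n)
      τ₀).app ⊤ (HH0.equiv X (CohB1.tensorMod F (CohB1.tensorPow M n)) v) = 0 := by
    rw [CurveAmp.mulH_apply] at h1
    have h3 := KosC1.HH0_natural k (CurveAmp.mulΓ (CohB1.tensorMod F (CohB1.tensorPow M n))
      (CohB1.tensorPow L n) τ₀) v
    rw [h1, map_zero] at h3
    exact h3.symm
  -- `p j₀` lies in the generating locus of `τ₀`
  have hu : IsUnit (r j₀) :=
    (IsUnit.mk0 (c j₀) hcj).map (Coh.toGlobal (X ↘ Spec (CommRingCat.of k)))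
  have h3 : p j₀ ∈ CohB1.genLocus (CohB1.tensorPow L n)
      (TwistAmple.homOfSec (CohB1.tensorPow L n) τ₀) := by
    rw [hτ₀]
    exact mem_genLocus_sum hLn σ r j₀ hu (p j₀) (hgen j₀) (fun j hj => hvan j₀ j hj)
  set V := CohB1.genLocus (CohB1.tensorPow L n)
    (TwistAmple.homOfSec (CohB1.tensorPow L n) τ₀) with hVdef
  have hξV : ξ ∈ V := (hspec j₀).mem_open V.isOpen h3
  have hV : IsGen (CohB1.tensorPow L n) V (res (CohB1.tensorPow L n) (le_top : V ≤ ⊤) τ₀) := by
    have h4 := AmpleLib.isGen_secVal (TwistAmple.homOfSec (CohB1.tensorPow L n) τ₀) (le_refl V)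
    rwa [secVal_homOfSec] at h4
  have hbij := CurveAmp.mulΓ_app_bijective (CohB1.tensorMod F (CohB1.tensorPow M n))
    (CohB1.tensorPow L n) τ₀ hV
  have h4 : res (CohB1.tensorMod F (CohB1.tensorPow M n)) (le_top : V ≤ ⊤)
      (HH0.equiv X (CohB1.tensorMod F (CohB1.tensorPow M n)) v) = 0 := by
    apply hbij.1
    rw [QcExt.app_res, h2, map_zero, map_zero]
  apply hξt
  have h5 := TopCat.Presheaf.germ_res_apply
    (CohB1.tensorMod F (CohB1.tensorPow M n)).presheaf (homOfLE (le_top : V ≤ ⊤)) ξ hξV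
    (HH0.equiv X (CohB1.tensorMod F (CohB1.tensorPow M n)) v)
  rw [← h5]
  change (CohB1.tensorMod F (CohB1.tensorPow M n)).presheaf.germ V ξ hξV
    (res (CohB1.tensorMod F (CohB1.tensorPow M n)) (le_top : V ≤ ⊤)
      (HH0.equiv X (CohB1.tensorMod F (CohB1.tensorPow M n)) v)) = 0
  rw [h4, map_zero]

end Main

section Final

variable (k : Type u) [Field k] (X : Scheme.{u}) [X.Over (Spec (CommRingCat.of k))]
  [IsProper (X ↘ (Spec (CommRingCat.of k)))]

include k in
/-- **vanishing of `H⁰` of very negative twists** of a coherent module without closed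
associated points -/
theorem h0_negative_twist_vanishes (L : X.Modules) (hL : CohB1.IsAmple L) (M : X.Modules)
    (hM : ClSub.IsInverseOf L M) (F : X.Modules) (hF : Coh.IsCoh F)
    (hass : ∀ x : X, IsClosed ({x} : Set X) → ¬ Curv2.IsAssPoint F x) :
    ∃ n₀ : ℕ, ∀ n : ℕ, n₀ ≤ n →
      Subsingleton (Coh.HH X (CohB1.tensorMod F (CohB1.tensorPow M n)) 0) := by
  classical
  haveI : IsNoetherian X := Euler.isNoetherian_of_proper k X
  haveI : JacobsonSpace X := LocallyOfFiniteType.jacobsonSpace (X ↘ Spec (CommRingCat.of k))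
  obtain ⟨i⟩ := hM
  have hLi : PicF.IsInvertible L := hL.1
  have hMi : PicF.IsInvertible M :=
    CurveCart.isInvertible_left_of_tensor_iso hLi (TildeTens.tensorModComm M L ≪≫ i)
  set D := Module.finrank k (Coh.HH X F 0) with hD
  have hfin : {x : X | Curv2.IsAssPoint F x}.Finite :=
    (Groth.Agent.S1576.result X F hF ⊤ (by rw [Opens.coe_top]; exact isCompact_univ)).subset
      (fun x hx => ⟨trivial, hx⟩)
  have hpts : ∀ ξ : X, ∃ p : Fin (D + 1) → X, Curv2.IsAssPoint F ξ →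
      (Function.Injective p ∧ ∀ j, IsClosed ({p j} : Set X) ∧ p j ∈ closure ({ξ} : Set X)) := by
    intro ξ
    by_cases hξ : Curv2.IsAssPoint F ξ
    · obtain ⟨p, h1, h2⟩ := exists_closedPoints ξ (fun hcl => hass ξ hcl hξ) (D + 1)
      exact ⟨p, fun _ => ⟨h1, h2⟩⟩
    · exact ⟨fun _ => ξ, fun h => absurd h hξ⟩
  choose p hp using hpts
  let T : Finset X := hfin.toFinset.biUnion (fun ξ => Finset.univ.image (p ξ))
  have hTmem : ∀ ξ, Curv2.IsAssPoint F ξ → ∀ j, p ξ j ∈ T := by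
    intro ξ hξ j
    exact Finset.mem_biUnion.2 ⟨ξ, hfin.mem_toFinset.2 hξ,
      Finset.mem_image.2 ⟨j, Finset.mem_univ j, rfl⟩⟩
  have hTcl : ∀ x ∈ T, IsClosed ({x} : Set X) := by
    intro x hx
    obtain ⟨ξ, hξ, hx'⟩ := Finset.mem_biUnion.1 hx
    obtain ⟨j, -, rfl⟩ := Finset.mem_image.1 hx'
    exact ((hp ξ (hfin.mem_toFinset.1 hξ)).2 j).1
  obtain ⟨n₀, hn₀⟩ := exists_separating_sections hL T hTcl
  refine ⟨n₀, fun n hn => ?_⟩
  apply subsingleton_H0_of_sections k X hLi hMi i hF n D hD.symm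
  intro ξ hξ
  have hsec := fun j => hn₀ n hn (p ξ j) (hTmem ξ hξ j)
  choose σ hσ1 hσ2 using hsec
  refine ⟨p ξ, σ, fun j => ?_, hσ1, fun j j' hjj' => ?_⟩
  · exact specializes_iff_mem_closure.2 ((hp ξ hξ).2 j).2
  · exact hσ2 j' (p ξ j) (hTmem ξ hξ j) (fun h => hjj' ((hp ξ hξ).1 h).symm)

end Final

end Groth.Agent.Helper1.NegVan
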