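import Mathlib
import Groth.Agent.Lib.Helper1.NegVan3

/-!
# `h⁰(F ⊗ L⁻¹) ≤ h⁰(F) - 1` from a pencil of sections of `L` (helper1)

If a two-dimensional family of sections of an invertible module `L` on a proper scheme over an
algebraically closed field generates `L` at all the associated points of a coherent `F`
(every nonzero member), then `h⁰(F ⊗ L⁻¹) ≤ h⁰(F) - 1`.
-/

set_option autoImplicit false
universe u

open CategoryTheory CategoryTheory.Limits AlgebraicGeometry TopologicalSpace Opposite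

namespace Groth.Agent.Helper1.H0Neg

open Groth.Agent.Helper1.QcCech Groth.Agent.Helper1 Groth.Agent.Helper1.TwForm
open Groth.Agent.Helper1.LGen Groth.Agent.Helper1.SecOps Groth.Agent.Helper1.AmpleLib
open Groth.Agent.Helper1.NM Groth.Agent.Lib.Helper4 Groth.Agent.Helper1.NegVan

section Iso

variable {X : Scheme.{u}} {L M : X.Modules}

/-- `(F ⊗ M) ⊗ L ≅ F` when `L ⊗ M ≅ O` -/
noncomputable def cancelIso1 (hL : PicF.IsInvertible L) (hM : PicF.IsInvertible M)
    (i : CohB1.tensorMod L M ≅ Coh.structureModule X) (F : X.Modules) :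
    CohB1.tensorMod (CohB1.tensorMod F M) L ≅ F :=
  Tw.iso ((((Tw.self L M F).tensorR (Tw.snd L M)).tensorR (Tw.fst L M)).cast
      (by norm_num) (by norm_num))
    (selfTw i F 1) (locFrame_of_isInvertible hL hM)

end Iso

section Main

variable (k : Type u) [Field k] (X : Scheme.{u}) [X.Over (Spec (CommRingCat.of k))]
  [IsNoetherian X]

/-- multiplication by a section generating at the associated points is injective on `H⁰` -/
theorem mulH_eq_zero {L G : X.Modules} (hG : Coh.IsQCoh G) (y : Coh.HH X L 0)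
    (hgen : ∀ ξ : X, Curv2.IsAssPoint G ξ →
      ξ ∈ CohB1.genLocus L (TwistAmple.homOfSec L (HH0.equiv X L y)))
    (v : Coh.HH X G 0) (hv : CurveAmp.mulH k G L 0 v y = 0) : v = 0 := by
  by_contra hv0
  have ht0 : HH0.equiv X G v ≠ 0 := fun h =>
    hv0 ((HH0.equiv X G).injective (h.trans (map_zero _).symm))
  obtain ⟨ξ, hξass, hξt⟩ := exists_assPoint_germ_ne_zero G hG (HH0.equiv X G v) ht0
  have h2 : (CurveAmp.mulΓ G L (HH0.equiv X L y)).app ⊤ (HH0.equiv X G v) = 0 := by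
    rw [CurveAmp.mulH_apply] at hv
    have h3 := KosC1.HH0_natural k (CurveAmp.mulΓ G L (HH0.equiv X L y)) v
    rw [hv, map_zero] at h3
    exact h3.symm
  set V := CohB1.genLocus L (TwistAmple.homOfSec L (HH0.equiv X L y)) with hVdef
  have hξV : ξ ∈ V := hgen ξ hξass
  have hV : IsGen L V (res L (le_top : V ≤ ⊤) (HH0.equiv X L y)) := by
    have h4 := AmpleLib.isGen_secVal (TwistAmple.homOfSec L (HH0.equiv X L y)) (le_refl V)
    rwa [secVal_homOfSec] at h4
  have hbij := CurveAmp.mulΓ_app_bijective G L (HH0.equiv X L y) hV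
  have h4 : res G (le_top : V ≤ ⊤) (HH0.equiv X G v) = 0 := by
    apply hbij.1
    rw [QcExt.app_res, h2, map_zero, map_zero]
  apply hξt
  have h5 := TopCat.Presheaf.germ_res_apply G.presheaf (homOfLE (le_top : V ≤ ⊤)) ξ hξV
    (HH0.equiv X G v)
  rw [← h5]
  change G.presheaf.germ V ξ hξV (res G (le_top : V ≤ ⊤) (HH0.equiv X G v)) = 0
  rw [h4, map_zero]

variable [IsAlgClosed k] [IsProper (X ↘ (Spec (CommRingCat.of k)))]

/-- **the pencil argument**: `h⁰(F ⊗ M) ≤ h⁰(F) - 1` -/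
theorem finrank_tensor_le {L M F : X.Modules} (hLi : PicF.IsInvertible L)
    (hMi : PicF.IsInvertible M) (i : CohB1.tensorMod L M ≅ Coh.structureModule X)
    (hF : Coh.IsCoh F) (y₁ y₂ : Coh.HH X L 0)
    (hgen : ∀ a b : k, (a ≠ 0 ∨ b ≠ 0) → ∀ ξ : X, Curv2.IsAssPoint F ξ →
      ξ ∈ CohB1.genLocus L (TwistAmple.homOfSec L (HH0.equiv X L (a • y₁ + b • y₂)))) :
    Module.finrank k (Coh.HH X (CohB1.tensorMod F M) 0) ≤
      Module.finrank k (Coh.HH X F 0) - 1 := by
  classical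
  have hGc : Coh.IsCoh (CohB1.tensorMod F M) :=
    Euler.isCoh_tensor _ _ hF (InvQc.isCoh_of_isInvertible _ hMi)
  have e := cancelIso1 hLi hMi i F
  haveI : Module.Finite k (Coh.HH X F 0) := T2Main1.t2 k X F hF 0
  haveI : Module.Finite k (Coh.HH X (CohB1.tensorMod F M) 0) := T2Main1.t2 k X _ hGc 0
  let Ψ : Coh.HH X L 0 → (Coh.HH X (CohB1.tensorMod F M) 0 →ₗ[k] Coh.HH X F 0) := fun y =>
    (HHFin1.HHequiv k e 0).toLinearMap ∘ₗ
      Canon.HHlin k (CurveAmp.mulΓ (CohB1.tensorMod F M) L (HH0.equiv X L y)) 0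
  have hΨ : ∀ y v, Ψ y v =
      HHFin1.HHequiv k e 0 (CurveAmp.mulH k (CohB1.tensorMod F M) L 0 v y) := fun y v => rfl
  have hlin : ∀ (a b : k) v, Ψ (a • y₁ + b • y₂) v = a • Ψ y₁ v + b • Ψ y₂ v := by
    intro a b v
    rw [hΨ, hΨ, hΨ, map_add, map_smul, map_smul, map_add, map_smul, map_smul]
  have hinj : ∀ a b : k, (a ≠ 0 ∨ b ≠ 0) → Function.Injective (Ψ (a • y₁ + b • y₂)) := by
    intro a b hab
    rw [injective_iff_map_eq_zero]
    intro v hv
    rw [hΨ] at hv
    have hv' : CurveAmp.mulH k (CohB1.tensorMod F M) L 0 v (a • y₁ + b • y₂) = 0 :=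
      (HHFin1.HHequiv k e 0).injective (hv.trans (map_zero _).symm)
    exact mulH_eq_zero k X hGc.1 (a • y₁ + b • y₂)
      (fun ξ hξ => hgen a b hab ξ ((isAssPoint_tensor_right hMi F ξ).1 hξ)) v hv'
  have hy₁ : Ψ y₁ = Ψ ((1 : k) • y₁ + (0 : k) • y₂) := by rw [one_smul, zero_smul, add_zero]
  have hinj₁ : Function.Injective (Ψ y₁) := by
    rw [hy₁]
    exact hinj 1 0 (Or.inl one_ne_zero)
  have hle : Module.finrank k (Coh.HH X (CohB1.tensorMod F M) 0) ≤
      Module.finrank k (Coh.HH X F 0) := LinearMap.finrank_le_finrank_of_injective hinj₁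
  by_contra hcon
  have heq : Module.finrank k (Coh.HH X (CohB1.tensorMod F M) 0) =
      Module.finrank k (Coh.HH X F 0) := by omega
  have hpos : 0 < Module.finrank k (Coh.HH X (CohB1.tensorMod F M) 0) := by omega
  have hbij : Function.Bijective (Ψ y₁) :=
    ⟨hinj₁, (LinearMap.injective_iff_surjective_of_finrank_eq_finrank heq).1 hinj₁⟩
  let E := LinearEquiv.ofBijective (Ψ y₁) hbij
  let T : Module.End k (Coh.HH X (CohB1.tensorMod F M) 0) := E.symm.toLinearMap ∘ₗ Ψ y₂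
  haveI : Nontrivial (Coh.HH X (CohB1.tensorMod F M) 0) :=
    Module.nontrivial_of_finrank_pos (R := k) hpos
  obtain ⟨μ, hμ⟩ := Module.End.exists_eigenvalue T
  obtain ⟨v, hv⟩ := hμ.exists_hasEigenvector
  have hv1 : T v = μ • v := hv.apply_eq_smul
  have hv0 : v ≠ 0 := hv.2
  have h1 : Ψ y₂ v = μ • Ψ y₁ v := by
    have h2 : E (T v) = Ψ y₂ v := E.apply_symm_apply (Ψ y₂ v)
    rw [← h2, hv1, map_smul]
    rfl
  have h3 : Ψ ((-μ) • y₁ + (1 : k) • y₂) v = 0 := by
    rw [hlin, h1, one_smul, neg_smul, neg_add_cancel]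
  exact hv0 ((injective_iff_map_eq_zero _).1 (hinj (-μ) 1 (Or.inr one_ne_zero)) v h3)

end Main

end Groth.Agent.Helper1.H0Neg
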