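import Mathlib
import Groth.Agent.Lib.Helper1.H0NegA
import Groth.Agent.Lib.Helper1.CIcB
import Groth.Agent.Lib.Helper1.TwistTens
import Groth.Agent.Lib.Helper1.ProjSerre
import Groth.Agent.Lib.Helper4.SerreFin
import Groth.Agent.S1576

/-!
# `h⁰(F(-1)) ≤ h⁰(F) - 1` on projective space (helper1)
-/

set_option autoImplicit false
universe u

open CategoryTheory CategoryTheory.Limits AlgebraicGeometry TopologicalSpace Opposite

namespace Groth.Agent.Helper1.H0Neg

open Groth.Agent.Helper1.QcCech Groth.Agent.Helper1 Groth.Agent.Helper1.TwForm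
open Groth.Agent.Helper1.LGen Groth.Agent.Helper1.SecOps Groth.Agent.Helper1.AmpleLib
open Groth.Agent.Helper1.NM Groth.Agent.Lib.Helper4 Groth.Agent.Helper1.NegVan
open Groth.Agent.Helper1.CIc

section Pn

variable (n : ℕ) (k : Type u) [Field k]

theorem ℓ_add (i : Fin (n + 1)) (c c' : Fin (n + 1) → k) :
    ℓ n k i (c + c') = ℓ n k i c + ℓ n k i c' := by
  unfold ℓ
  simp only [Pi.add_apply, map_add, add_mul, Finset.sum_add_distrib]

theorem ℓ_zero (i : Fin (n + 1)) : ℓ n k i 0 = 0 := by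
  unfold ℓ
  simp only [Pi.zero_apply, map_zero, zero_mul, Finset.sum_const_zero]

theorem tc_add (c c' : Fin (n + 1) → k) : tc n k (c + c') = tc n k c + tc n k c' := by
  unfold tc
  simp only [Pi.add_apply, map_add, add_smul, Finset.sum_add_distrib]

theorem tc_smul (a : k) (c : Fin (n + 1) → k) :
    tc n k (a • c) = ProjUP.toGlobal (CohB1.ProjSpace.toSpec n k) a • tc n k c := by
  unfold tc
  rw [Finset.smul_sum]
  refine Finset.sum_congr rfl fun j _ => ?_
  rw [Pi.smul_apply, smul_eq_mul, map_mul, mul_smul]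

/-- the chart criterion for a linear form to generate `O(1)` at a point -/
theorem mem_genLocus_tc_iff (i : Fin (n + 1)) (x : CohB1.ProjSpace n k) (hx : x ∈ Dc n k i)
    (c : Fin (n + 1) → k) :
    x ∈ CohB1.genLocus (Twist.twistProjSpace n k 1)
        (TwistAmple.homOfSec (Twist.twistProjSpace n k 1) (tc n k c)) ↔
      ℓ n k i c ∉ ((isAffineOpen_Dc n k i).primeIdealOf ⟨x, hx⟩).asIdeal := by
  have hφ : ℓ n k i c • res (Twist.twistProjSpace n k 1) (le_top : Dc n k i ≤ ⊤)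
      (ProjUP.coord n k i) =
      secVal (TwistAmple.homOfSec (Twist.twistProjSpace n k 1) (tc n k c)) (Dc n k i) := by
    rw [secVal_homOfSec]
    exact (res_tc n k i c).symm
  rw [SecOps.mem_genLocus_iff_of_isGen
    (TwistAmple.homOfSec (Twist.twistProjSpace n k 1) (tc n k c)) (isGen_coord n k i)
    (ℓ n k i c) hφ x hx]
  rw [Scheme.mem_basicOpen _ _ _ hx, mem_prime_iff n k i x hx]
  exact (IsLocalRing.notMem_maximalIdeal).symm

/-- the linear forms that do not generate `O(1)` at `x` -/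
def Zset (x : CohB1.ProjSpace n k) : Set (Fin (n + 1) → k) :=
  {c | x ∉ CohB1.genLocus (Twist.twistProjSpace n k 1)
    (TwistAmple.homOfSec (Twist.twistProjSpace n k 1) (tc n k c))}

theorem mem_Zset_iff (i : Fin (n + 1)) (x : CohB1.ProjSpace n k) (hx : x ∈ Dc n k i)
    (c : Fin (n + 1) → k) :
    c ∈ Zset n k x ↔ ℓ n k i c ∈ ((isAffineOpen_Dc n k i).primeIdealOf ⟨x, hx⟩).asIdeal := by
  unfold Zset
  rw [Set.mem_setOf_eq, mem_genLocus_tc_iff n k i x hx c, not_not]

/-- the subspace of linear forms vanishing at `x` -/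
noncomputable def Zsub (x : CohB1.ProjSpace n k) : Submodule k (Fin (n + 1) → k) where
  carrier := Zset n k x
  zero_mem' := by
    obtain ⟨i, hi⟩ := ProjUP8.hcov n k x
    have hi' : x ∈ Dc n k i := hi
    rw [mem_Zset_iff n k i x hi', ℓ_zero]
    exact Ideal.zero_mem _
  add_mem' := by
    intro c c' hc hc'
    obtain ⟨i, hi⟩ := ProjUP8.hcov n k x
    have hi' : x ∈ Dc n k i := hi
    rw [mem_Zset_iff n k i x hi'] at hc hc' ⊢
    rw [ℓ_add]
    exact Ideal.add_mem _ hc hc'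
  smul_mem' := by
    intro a c hc
    obtain ⟨i, hi⟩ := ProjUP8.hcov n k x
    have hi' : x ∈ Dc n k i := hi
    rw [mem_Zset_iff n k i x hi'] at hc ⊢
    rw [ℓ_smul]
    exact Ideal.mul_mem_left _ _ hc

theorem mem_Zsub (x : CohB1.ProjSpace n k) (c : Fin (n + 1) → k) :
    c ∈ Zsub n k x ↔ x ∉ CohB1.genLocus (Twist.twistProjSpace n k 1)
      (TwistAmple.homOfSec (Twist.twistProjSpace n k 1) (tc n k c)) := Iff.rfl

theorem mem_Zsub_iff (i : Fin (n + 1)) (x : CohB1.ProjSpace n k) (hx : x ∈ Dc n k i)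
    (c : Fin (n + 1) → k) :
    c ∈ Zsub n k x ↔ ℓ n k i c ∈ ((isAffineOpen_Dc n k i).primeIdealOf ⟨x, hx⟩).asIdeal :=
  mem_Zset_iff n k i x hx c

theorem Zsub_ne_top (x : CohB1.ProjSpace n k) : Zsub n k x ≠ ⊤ := by
  intro h
  obtain ⟨i, hi⟩ := ProjUP8.hcov n k x
  have hi' : x ∈ Dc n k i := hi
  have h1 : (Pi.single i 1 : Fin (n + 1) → k) ∈ Zsub n k x := by rw [h]; trivial
  have h2 := (mem_Zsub_iff n k i x hi' _).1 h1
  rw [ℓ_single, cc_self] at h2
  exact ((isAffineOpen_Dc n k i).primeIdealOf ⟨x, hi'⟩).isPrime.ne_top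
    ((Ideal.eq_top_iff_one _).2 h2)

theorem Zsub_le_of_specializes {x z : CohB1.ProjSpace n k} (h : x ⤳ z) :
    Zsub n k x ≤ Zsub n k z := by
  intro c hc
  rw [mem_Zsub] at hc ⊢
  intro hz
  exact hc (h.mem_open (CohB1.genLocus _ _).isOpen hz)

theorem vanAt_iff_mem_Zsub (z : CohB1.ProjSpace n k) (c : Fin (n + 1) → k) :
    VanAt n k (tc n k c) z ↔ c ∈ Zsub n k z := by
  obtain ⟨i, hi⟩ := ProjUP8.hcov n k z
  have hi' : z ∈ Dc n k i := hi
  rw [vanAt_tc_iff n k i z hi' c, mem_Zsub_iff n k i z hi' c]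

variable [IsAlgClosed k]

/-- the linear forms vanishing at a non-closed point have codimension at least two -/
theorem Zsub_sup_span_ne_top (x : CohB1.ProjSpace n k)
    (hx : ¬ IsClosed ({x} : Set (CohB1.ProjSpace n k))) (c₁ : Fin (n + 1) → k) :
    Zsub n k x ⊔ Submodule.span k {c₁} ≠ ⊤ := by
  intro htop
  haveI : IsProper ((CohB1.ProjSpace n k) ↘ Spec (CommRingCat.of k)) := VA5.isProper_toSpec n k
  haveI : JacobsonSpace (CohB1.ProjSpace n k) :=
    LocallyOfFiniteType.jacobsonSpace ((CohB1.ProjSpace n k) ↘ Spec (CommRingCat.of k))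
  obtain ⟨p, hpinj, hp⟩ := NegVan.exists_closedPoints x hx 2
  have hzw : p 0 ≠ p 1 := fun h => by
    have := hpinj h
    exact absurd this (by decide)
  have hxz : x ⤳ p 0 := specializes_iff_mem_closure.2 (hp 0).2
  have hxw : x ⤳ p 1 := specializes_iff_mem_closure.2 (hp 1).2
  obtain ⟨c, hcz, hcw⟩ := exists_sep n k (p 0) (p 1) (hp 0).1 (hp 1).1 hzw
  obtain ⟨c', hcw', hcz'⟩ := exists_sep n k (p 1) (p 0) (hp 1).1 (hp 0).1 hzw.symm
  rw [vanAt_iff_mem_Zsub] at hcz hcw hcw' hcz'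
  have hc : c ∈ Zsub n k x ⊔ Submodule.span k {c₁} := by rw [htop]; trivial
  obtain ⟨u, hu, t, ht, rfl⟩ := Submodule.mem_sup.1 hc
  obtain ⟨a, rfl⟩ := Submodule.mem_span_singleton.1 ht
  have hc' : c' ∈ Zsub n k x ⊔ Submodule.span k {c₁} := by rw [htop]; trivial
  obtain ⟨u', hu', t', ht', rfl⟩ := Submodule.mem_sup.1 hc'
  obtain ⟨a', rfl⟩ := Submodule.mem_span_singleton.1 ht'
  have huz := Zsub_le_of_specializes n k hxz hu
  have huw := Zsub_le_of_specializes n k hxw hu
  have hu'z := Zsub_le_of_specializes n k hxz hu'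
  have hu'w := Zsub_le_of_specializes n k hxw hu'
  have h1 : a • c₁ ∈ Zsub n k (p 0) := by
    have := Submodule.sub_mem _ hcz huz
    rwa [add_sub_cancel_left] at this
  have h2 : a • c₁ ∉ Zsub n k (p 1) := fun h => hcw (Submodule.add_mem _ huw h)
  have ha : a ≠ 0 := fun h => h2 (by rw [h, zero_smul]; exact Submodule.zero_mem _)
  have h3 : c₁ ∈ Zsub n k (p 0) := (Submodule.smul_mem_iff _ ha).1 h1
  have h2' : a' • c₁ ∉ Zsub n k (p 0) := fun h => hcz' (Submodule.add_mem _ hu'z h)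
  exact h2' (Submodule.smul_mem _ _ h3)

/-- a pencil of linear forms, every nonzero member of which generates `O(1)` at each of
finitely many non-closed points -/
theorem exists_pencil (S : Set (CohB1.ProjSpace n k)) (hS : S.Finite)
    (hcl : ∀ x ∈ S, ¬ IsClosed ({x} : Set (CohB1.ProjSpace n k))) :
    ∃ c₁ c₂ : Fin (n + 1) → k, ∀ a b : k, (a ≠ 0 ∨ b ≠ 0) → ∀ x ∈ S,
      x ∈ CohB1.genLocus (Twist.twistProjSpace n k 1)
        (TwistAmple.homOfSec (Twist.twistProjSpace n k 1) (tc n k (a • c₁ + b • c₂))) := by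
  haveI : Finite S := hS.to_subtype
  obtain ⟨c₁, hc₁⟩ := Submodule.exists_forall_notMem_of_forall_ne_top
    (fun x : S => Zsub n k x.1) (fun x => Zsub_ne_top n k x.1)
  obtain ⟨c₂, hc₂⟩ := Submodule.exists_forall_notMem_of_forall_ne_top
    (fun x : S => Zsub n k x.1 ⊔ Submodule.span k {c₁})
    (fun x => Zsub_sup_span_ne_top n k x.1 (hcl x.1 x.2) c₁)
  refine ⟨c₁, c₂, fun a b hab x hx => ?_⟩
  by_contra hcon
  have hmem : a • c₁ + b • c₂ ∈ Zsub n k x := hcon
  by_cases hb : b = 0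
  · subst hb
    rw [zero_smul, add_zero] at hmem
    have ha : a ≠ 0 := hab.resolve_right (not_not.2 rfl)
    exact hc₁ ⟨x, hx⟩ ((Submodule.smul_mem_iff _ ha).1 hmem)
  · apply hc₂ ⟨x, hx⟩
    have h1 : b • c₂ ∈ Zsub n k x ⊔ Submodule.span k {c₁} := by
      have h2 : b • c₂ = (a • c₁ + b • c₂) + (-a) • c₁ := by rw [neg_smul]; abel
      rw [h2]
      exact Submodule.add_mem _ (Submodule.mem_sup_left hmem)
        (Submodule.mem_sup_right (Submodule.smul_mem _ _ (Submodule.mem_span_singleton_self c₁)))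
    exact (Submodule.smul_mem_iff _ hb).1 h1

/-- the class of a linear combination of two linear forms -/
theorem equiv_comb (c₁ c₂ : Fin (n + 1) → k) (a b : k) :
    HH0.equiv (CohB1.ProjSpace n k) (Twist.twistProjSpace n k 1)
      (a • (HH0.equiv (CohB1.ProjSpace n k) (Twist.twistProjSpace n k 1)).symm (tc n k c₁) +
        b • (HH0.equiv (CohB1.ProjSpace n k) (Twist.twistProjSpace n k 1)).symm (tc n k c₂)) =
      tc n k (a • c₁ + b • c₂) := by
  rw [map_add, HH0.equiv_smul_over, HH0.equiv_smul_over, AddEquiv.apply_symm_apply,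
    AddEquiv.apply_symm_apply, tc_add, tc_smul, tc_smul]
  rfl

/-- **`h⁰(F(-1)) ≤ h⁰(F) - 1`** for coherent `F` on `ℙⁿ` without closed associated points -/
theorem finrank_twist_neg_one_le (F : (CohB1.ProjSpace n k).Modules) (hF : Coh.IsCoh F)
    (hass : ∀ x : ↥(CohB1.ProjSpace n k), Curv2.IsAssPoint F x →
      ¬ IsClosed ({x} : Set ↥(CohB1.ProjSpace n k))) :
    Module.finrank k (Coh.HH (CohB1.ProjSpace n k)
      (CohB1.tensorMod F (Twist.twistProjSpace n k (-1))) 0) ≤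
      Module.finrank k (Coh.HH (CohB1.ProjSpace n k) F 0) - 1 := by
  haveI : IsProper ((CohB1.ProjSpace n k) ↘ Spec (CommRingCat.of k)) := VA5.isProper_toSpec n k
  haveI : IsNoetherian (CohB1.ProjSpace n k) := Euler.isNoetherian_of_proper k _
  obtain ⟨hinv, hadd, -⟩ := TwistTens.twist_package (CohB1.polyGrading n k)
    (SerreFin.hcov1 n k)
  obtain ⟨e1⟩ := hadd 1 (-1)
  have h0' : (1 : ℤ) + -1 = 0 := by norm_num
  rw [h0'] at e1
  obtain ⟨e2⟩ := TwistTens.nonempty_twist_zero_iso (CohB1.polyGrading n k)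
  have i : CohB1.tensorMod (Twist.twistProjSpace n k 1) (Twist.twistProjSpace n k (-1)) ≅
      Coh.structureModule (CohB1.ProjSpace n k) := e1 ≪≫ e2
  have hfin : {x : CohB1.ProjSpace n k | Curv2.IsAssPoint F x}.Finite :=
    (Groth.Agent.S1576.result (CohB1.ProjSpace n k) F hF ⊤
      (by rw [Opens.coe_top]; exact isCompact_univ)).subset (fun x hx => ⟨trivial, hx⟩)
  obtain ⟨c₁, c₂, hc⟩ := exists_pencil n k _ hfin (fun x hx => hass x hx)
  refine finrank_tensor_le k (CohB1.ProjSpace n k) (L := Twist.twistProjSpace n k 1)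
    (hinv 1) (hinv (-1)) i hF
    ((HH0.equiv (CohB1.ProjSpace n k) (Twist.twistProjSpace n k 1)).symm (tc n k c₁))
    ((HH0.equiv (CohB1.ProjSpace n k) (Twist.twistProjSpace n k 1)).symm (tc n k c₂)) ?_
  intro a b hab ξ hξ
  rw [equiv_comb]
  exact hc a b hab ξ hξ

/-- iterated version: `h⁰(F(-j)) ≤ h⁰(F) - j` -/
theorem finrank_twist_neg_le (F : (CohB1.ProjSpace n k).Modules) (hF : Coh.IsCoh F)
    (hass : ∀ x : ↥(CohB1.ProjSpace n k), Curv2.IsAssPoint F x →
      ¬ IsClosed ({x} : Set ↥(CohB1.ProjSpace n k))) (j : ℕ) :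
    Module.finrank k (Coh.HH (CohB1.ProjSpace n k)
      (CohB1.tensorMod F (Twist.twistProjSpace n k (-(j : ℤ)))) 0) ≤
      Module.finrank k (Coh.HH (CohB1.ProjSpace n k) F 0) - j := by
  haveI : IsProper ((CohB1.ProjSpace n k) ↘ Spec (CommRingCat.of k)) := VA5.isProper_toSpec n k
  haveI : IsNoetherian (CohB1.ProjSpace n k) := Euler.isNoetherian_of_proper k _
  obtain ⟨hinv, hadd, -⟩ := TwistTens.twist_package (CohB1.polyGrading n k)
    (SerreFin.hcov1 n k)
  induction j with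
  | zero =>
    obtain ⟨e2⟩ := TwistTens.nonempty_twist_zero_iso (CohB1.polyGrading n k)
    have e : CohB1.tensorMod F (Twist.twistProjSpace n k (-((0 : ℕ) : ℤ))) ≅ F := by
      rw [Nat.cast_zero, neg_zero]
      exact TwistTens.tensorModCongrRight F e2 ≪≫
        Groth.Agent.Lib.Helper5.LTenFlf.tensorUnitIso F
    rw [(HHFin1.HHequiv k e 0).finrank_eq]
    exact le_of_eq (Nat.sub_zero _).symm
  | succ j ih =>
    obtain ⟨e1⟩ := hadd (-(j : ℤ)) (-1)
    have hj : -(j : ℤ) + -1 = -((j + 1 : ℕ) : ℤ) := by push_cast; ring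
    rw [hj] at e1
    have e : CohB1.tensorMod (CohB1.tensorMod F (Twist.twistProjSpace n k (-(j : ℤ))))
        (Twist.twistProjSpace n k (-1)) ≅
        CohB1.tensorMod F (Twist.twistProjSpace n k (-((j + 1 : ℕ) : ℤ))) :=
      ProjSerre.tensorModAssoc F _ _ ≪≫ TwistTens.tensorModCongrRight F e1
    have hFj : Coh.IsCoh (CohB1.tensorMod F (Twist.twistProjSpace n k (-(j : ℤ)))) :=
      Euler.isCoh_tensor _ _ hF (InvQc.isCoh_of_isInvertible _ (hinv _))
    have hassj : ∀ x : ↥(CohB1.ProjSpace n k),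
        Curv2.IsAssPoint (CohB1.tensorMod F (Twist.twistProjSpace n k (-(j : ℤ)))) x →
          ¬ IsClosed ({x} : Set ↥(CohB1.ProjSpace n k)) := fun x hx =>
      hass x ((isAssPoint_tensor_right (hinv _) F x).1 hx)
    have h1 := finrank_twist_neg_one_le n k _ hFj hassj
    rw [(HHFin1.HHequiv k e 0).finrank_eq] at h1
    omega

end Pn

end Groth.Agent.Helper1.H0Neg
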