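import Mathlib
import Groth.Agent.Lib.Helper1.H0NegB

/-!
# vanishing of `H⁰(F(-n))` for `n ≥ h⁰(F)` on projective space (helper1)
-/

set_option autoImplicit false
universe u

open CategoryTheory CategoryTheory.Limits AlgebraicGeometry TopologicalSpace Opposite

namespace Groth.Agent.Helper1.H0Neg

open Groth.Agent.Helper1.QcCech Groth.Agent.Helper1 Groth.Agent.Helper1.TwForm
open Groth.Agent.Helper1.LGen Groth.Agent.Helper1.SecOps Groth.Agent.Helper1.AmpleLib
open Groth.Agent.Helper1.NM Groth.Agent.Lib.Helper4 Groth.Agent.Helper1.NegVan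
open Groth.Agent.Helper1.CIc

variable (n : ℕ) (k : Type u) [Field k] [IsAlgClosed k]

theorem finrank_twist_neg_one_lt (F : (CohB1.ProjSpace n k).Modules) (hF : Coh.IsCoh F)
    (hass : ∀ x : ↥(CohB1.ProjSpace n k), Curv2.IsAssPoint F x →
      ¬ IsClosed ({x} : Set ↥(CohB1.ProjSpace n k)))
    (h0 : 1 ≤ Module.finrank k (Coh.HH (CohB1.ProjSpace n k) F 0)) :
    Module.finrank k (Coh.HH (CohB1.ProjSpace n k)
      (CohB1.tensorMod F (Twist.twistProjSpace n k (-1))) 0) + 1 ≤
      Module.finrank k (Coh.HH (CohB1.ProjSpace n k) F 0) := by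
  have h := finrank_twist_neg_one_le n k F hF hass
  omega

theorem subsingleton_twist_neg (F : (CohB1.ProjSpace n k).Modules) (hF : Coh.IsCoh F)
    (hass : ∀ x : ↥(CohB1.ProjSpace n k), Curv2.IsAssPoint F x →
      ¬ IsClosed ({x} : Set ↥(CohB1.ProjSpace n k)))
    (m : ℕ) (hm : Module.finrank k (Coh.HH (CohB1.ProjSpace n k) F 0) ≤ m) :
    Subsingleton (Coh.HH (CohB1.ProjSpace n k)
      (CohB1.tensorMod F (Twist.twistProjSpace n k (-(m : ℤ)))) 0) := by
  haveI : IsProper ((CohB1.ProjSpace n k) ↘ Spec (CommRingCat.of k)) := VA5.isProper_toSpec n k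
  haveI : IsNoetherian (CohB1.ProjSpace n k) := Euler.isNoetherian_of_proper k _
  have hinv := (TwistTens.twist_package (CohB1.polyGrading n k) (SerreFin.hcov1 n k)).1
  have hc : Coh.IsCoh (CohB1.tensorMod F (Twist.twistProjSpace n k (-(m : ℤ)))) :=
    Euler.isCoh_tensor _ _ hF (InvQc.isCoh_of_isInvertible _ (hinv _))
  haveI : Module.Finite k (Coh.HH (CohB1.ProjSpace n k)
      (CohB1.tensorMod F (Twist.twistProjSpace n k (-(m : ℤ)))) 0) :=
    T2Main1.t2 k _ _ hc 0
  have h := finrank_twist_neg_le n k F hF hass m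
  have h0 : Module.finrank k (Coh.HH (CohB1.ProjSpace n k)
      (CohB1.tensorMod F (Twist.twistProjSpace n k (-(m : ℤ)))) 0) = 0 := by omega
  exact Module.finrank_zero_iff.1 h0

end Groth.Agent.Helper1.H0Neg
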