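import Mathlib

universe u
open CategoryTheory Limits

namespace Groth.Agent.Helper1.HomFilt
variable {A : Type u} [CommRing A] {ι : Type} {c : ComplexShape ι}

section Elem
variable (C : HomologicalComplex (ModuleCat.{u} A) c) (p : ι)

theorem exists_cycle (z : C.X p) (hz : (C.d p (c.next p)) z = 0) :
    ∃ y : C.cycles p, C.iCycles p y = z := by
  have hex : (ShortComplex.mk (C.iCycles p) (C.d p (c.next p)) (C.iCycles_d p (c.next p))).Exact :=
    ShortComplex.exact_of_f_is_kernel _ (C.cyclesIsKernel p (c.next p) rfl)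
  exact (ShortComplex.moduleCat_exact_iff _).mp hex z hz

theorem exists_homologyπ (x : C.homology p) : ∃ y : C.cycles p, C.homologyπ p y = x :=
  (ModuleCat.epi_iff_surjective _).mp inferInstance x

theorem exists_boundary (y : C.cycles p) (hy : C.homologyπ p y = 0) :
    ∃ w : C.X (c.prev p), C.toCycles (c.prev p) p w = y := by
  have hex : (ShortComplex.mk (C.toCycles (c.prev p) p) (C.homologyπ p)
      (C.toCycles_comp_homologyπ (c.prev p) p)).Exact :=
    ShortComplex.exact_of_g_is_cokernel _ (C.homologyIsCokernel (c.prev p) p rfl)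
  exact (ShortComplex.moduleCat_exact_iff _).mp hex y hy

theorem iCycles_injective : Function.Injective (C.iCycles p) :=
  (ModuleCat.mono_iff_injective _).mp inferInstance

theorem iCycles_d_apply (y : C.cycles p) (q : ι) : C.d p q (C.iCycles p y) = 0 := by
  rw [← ModuleCat.comp_apply, HomologicalComplex.iCycles_d]; rfl

theorem toCycles_i_apply (q : ι) (b : C.X q) : C.iCycles p (C.toCycles q p b) = C.d q p b := by
  rw [← ModuleCat.comp_apply, HomologicalComplex.toCycles_i]

theorem homologyπ_toCycles_apply (q : ι) (b : C.X q) : C.homologyπ p (C.toCycles q p b) = 0 := by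
  rw [← ModuleCat.comp_apply, HomologicalComplex.toCycles_comp_homologyπ]; rfl

variable {C} {D : HomologicalComplex (ModuleCat.{u} A) c} (φ : C ⟶ D)

theorem comm_apply (q : ι) (x : C.X p) : φ.f q (C.d p q x) = D.d p q (φ.f p x) := by
  rw [← ModuleCat.comp_apply, ← φ.comm, ModuleCat.comp_apply]

theorem cyclesMap_i_apply (y : C.cycles p) :
    D.iCycles p (HomologicalComplex.cyclesMap φ p y) = φ.f p (C.iCycles p y) := by
  rw [← ModuleCat.comp_apply, HomologicalComplex.cyclesMap_i, ModuleCat.comp_apply]

theorem homologyπ_naturality_apply (y : C.cycles p) :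
    HomologicalComplex.homologyMap φ p (C.homologyπ p y) =
      D.homologyπ p (HomologicalComplex.cyclesMap φ p y) := by
  rw [← ModuleCat.comp_apply, HomologicalComplex.homologyπ_naturality, ModuleCat.comp_apply]

end Elem

section Colim
variable {J : Type u} [SmallCategory J] [IsFiltered J]
  (K : J ⥤ HomologicalComplex (ModuleCat.{u} A) c) (t : Cocone K) (ht : IsColimit t)

omit [IsFiltered J] in
theorem w_apply {j k : J} (f : j ⟶ k) (i : ι) (x : (K.obj j).X i) :
    (t.ι.app k).f i ((K.map f).f i x) = (t.ι.app j).f i x := by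
  rw [← ModuleCat.comp_apply, ← HomologicalComplex.comp_f, t.w f]

include ht in
theorem exists_rep (i : ι) (x : t.pt.X i) :
    ∃ (j : J) (y : (K.obj j).X i), (t.ι.app j).f i y = x := by
  have h := isColimitOfPreserves (HomologicalComplex.eval _ c i) ht
  exact Concrete.isColimit_exists_rep (K ⋙ HomologicalComplex.eval _ c i) h x

include ht in
theorem exists_map_eq_zero (i : ι) (j : J) (y : (K.obj j).X i) (hy : (t.ι.app j).f i y = 0) :
    ∃ (k : J) (f : j ⟶ k), (K.map f).f i y = 0 := by
  have h := isColimitOfPreserves (HomologicalComplex.eval _ c i) ht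
  obtain ⟨k, f, g, hfg⟩ := Concrete.isColimit_exists_of_rep_eq
    (K ⋙ HomologicalComplex.eval _ c i) h y (0 : (K.obj j).X i) (by
      show (t.ι.app j).f i y = (t.ι.app j).f i 0
      rw [hy, map_zero])
  refine ⟨k, f, ?_⟩
  have : (K.map f).f i y = (K.map g).f i 0 := hfg
  rw [this, map_zero]

include ht in
theorem homology_surj (p : ι) (x : t.pt.homology p) :
    ∃ (j : J) (y : (K.obj j).homology p),
      HomologicalComplex.homologyMap (t.ι.app j) p y = x := by
  obtain ⟨y, rfl⟩ := exists_homologyπ t.pt p x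
  obtain ⟨j, z, hz⟩ := exists_rep K t ht p (t.pt.iCycles p y)
  have hdz : (t.ι.app j).f (c.next p) ((K.obj j).d p (c.next p) z) = 0 := by
    rw [comm_apply, hz]
    exact iCycles_d_apply t.pt p y _
  obtain ⟨k, f, hk⟩ := exists_map_eq_zero K t ht (c.next p) j _ hdz
  have hzk : (K.obj k).d p (c.next p) ((K.map f).f p z) = 0 := by
    rw [← comm_apply, hk]
  obtain ⟨yk, hyk⟩ := exists_cycle (K.obj k) p _ hzk
  refine ⟨k, (K.obj k).homologyπ p yk, ?_⟩
  rw [homologyπ_naturality_apply]
  congr 1
  apply iCycles_injective t.pt p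
  rw [cyclesMap_i_apply, hyk, w_apply]
  exact hz

include ht in
theorem homology_inj (p : ι) (i : J) (w : (K.obj i).homology p)
    (hw : HomologicalComplex.homologyMap (t.ι.app i) p w = 0) :
    ∃ (k : J) (f : i ⟶ k), HomologicalComplex.homologyMap (K.map f) p w = 0 := by
  obtain ⟨y, rfl⟩ := exists_homologyπ (K.obj i) p w
  rw [homologyπ_naturality_apply] at hw
  obtain ⟨b, hb⟩ := exists_boundary t.pt p _ hw
  obtain ⟨j, bj, hbj⟩ := exists_rep K t ht (c.prev p) b
  let k := IsFiltered.max i j
  let fi : i ⟶ k := IsFiltered.leftToMax i j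
  let fj : j ⟶ k := IsFiltered.rightToMax i j
  let e : (K.obj k).X p := (K.map fi).f p ((K.obj i).iCycles p y) -
    (K.obj k).d (c.prev p) p ((K.map fj).f (c.prev p) bj)
  have he : (t.ι.app k).f p e = 0 := by
    show (t.ι.app k).f p (_ - _) = 0
    have h1 : (t.ι.app k).f p ((K.map fi).f p ((K.obj i).iCycles p y)) =
        t.pt.iCycles p (HomologicalComplex.cyclesMap (t.ι.app i) p y) := by
      rw [w_apply]; exact (cyclesMap_i_apply p (t.ι.app i) y).symm
    have h2 : (t.ι.app k).f p ((K.obj k).d (c.prev p) p ((K.map fj).f (c.prev p) bj)) =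
        t.pt.d (c.prev p) p b := by
      rw [← comm_apply, w_apply, ← hbj]; exact comm_apply _ (t.ι.app j) _ _
    rw [map_sub, sub_eq_zero, h1, h2, ← hb, toCycles_i_apply]
  obtain ⟨l, g, hl⟩ := exists_map_eq_zero K t ht p k e he
  refine ⟨l, fi ≫ g, ?_⟩
  rw [homologyπ_naturality_apply]
  have key : HomologicalComplex.cyclesMap (K.map (fi ≫ g)) p y =
      (K.obj l).toCycles (c.prev p) p ((K.map (fj ≫ g)).f (c.prev p) bj) := by
    apply iCycles_injective (K.obj l) p
    have hl' : (K.map g).f p (_ - _) = 0 := hl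
    rw [map_sub, sub_eq_zero] at hl'
    rw [cyclesMap_i_apply, toCycles_i_apply, K.map_comp, K.map_comp, HomologicalComplex.comp_f,
      HomologicalComplex.comp_f, ModuleCat.comp_apply, ModuleCat.comp_apply, hl', comm_apply]
  rw [key, homologyπ_toCycles_apply]

end Colim

theorem preserves (J : Type u) [SmallCategory J] [IsFiltered J] (p : ι) :
    PreservesColimitsOfShape J (HomologicalComplex.homologyFunctor (ModuleCat.{u} A) c p) := by
  constructor
  intro K
  constructor
  intro t ht
  constructor
  apply isColimitOfReflects (forget (ModuleCat.{u} A))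
  apply Types.FilteredColimit.isColimitOf'
  · intro x
    obtain ⟨j, y, hy⟩ := homology_surj K t ht p x
    exact ⟨j, y, hy.symm⟩
  · intro i (x : (K.obj i).homology p) (y : (K.obj i).homology p) hxy
    have hxy' : HomologicalComplex.homologyMap (t.ι.app i) p x =
        HomologicalComplex.homologyMap (t.ι.app i) p y := hxy
    obtain ⟨k, f, hk⟩ := homology_inj K t ht p i (x - y) (by
      rw [map_sub]; exact sub_eq_zero.mpr hxy')
    refine ⟨k, f, ?_⟩
    rw [map_sub] at hk
    exact sub_eq_zero.mp hk

end Groth.Agent.Helper1.HomFilt
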