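import Mathlib
import Groth.Agent.Lib.Helper1.GrQuot

open HomogeneousLocalization MvPolynomial

universe u

namespace Groth.Agent.Helper1.HomogFT

section
variable {R R' : Type u} [CommRing R] [CommRing R'] [Algebra R R'] {n : ℕ}
  (π : MvPolynomial (Fin n) R →ₐ[R] R')

/-- the graded polynomial ring in one more variable -/
abbrev PA (R : Type u) [CommRing R] (n : ℕ) : Type u := MvPolynomial (Option (Fin n)) R

abbrev gA (R : Type u) [CommRing R] (n : ℕ) : ℕ → Submodule R (PA R n) :=
  homogeneousSubmodule (Option (Fin n)) R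

noncomputable instance : GradedAlgebra (gA R n) := MvPolynomial.gradedAlgebra

/-- dehomogenization followed by `π` -/
noncomputable def π' : PA R n →ₐ[R] R' :=
  aeval (fun o : Option (Fin n) => o.elim (1 : R') (fun i => π (X i)))

@[simp] theorem π'_X_none : π' π (X none : PA R n) = 1 := by simp [π']
@[simp] theorem π'_X_some (i : Fin n) : π' π (X (some i) : PA R n) = π (X i) := by simp [π']

/-- the homogeneous ideal generated by the homogeneous elements of positive degree killed by `π'` -/
noncomputable def J : Ideal (PA R n) :=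
  Ideal.span {a | ∃ k : ℕ, 0 < k ∧ a ∈ gA R n k ∧ π' π a = 0}

theorem J_isHomogeneous : (J π).IsHomogeneous (gA R n) :=
  Ideal.homogeneous_span _ _ (fun a ⟨k, _, hk, _⟩ => ⟨k, hk⟩)

theorem J_le_ker : J π ≤ RingHom.ker (π' π).toRingHom := by
  rw [J, Ideal.span_le]
  rintro a ⟨k, _, _, ha⟩
  exact ha

theorem J_le_ker_constantCoeff : J π ≤ RingHom.ker (constantCoeff : PA R n →+* R) := by
  rw [J, Ideal.span_le]
  rintro a ⟨k, hk, hak, _⟩
  rw [SetLike.mem_coe, RingHom.mem_ker, constantCoeff_eq]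
  have hak' : a.IsHomogeneous k := hak
  apply hak'.coeff_eq_zero
  simp only [map_zero]
  omega

/-- the graded quotient ring -/
abbrev S : Type u := PA R n ⧸ J π

noncomputable abbrev gS : ℕ → Submodule R (S π) := GrQuot.gr (gA R n) (J π)

noncomputable instance : GradedAlgebra (gS π) :=
  GrQuot.gradedAlgebra (gA R n) (J π) (J_isHomogeneous π)

noncomputable def πbar : S π →+* R' :=
  Ideal.Quotient.lift (J π) (π' π).toRingHom (fun a ha => J_le_ker π ha)

@[simp] theorem πbar_mk (a : PA R n) : πbar π (Ideal.Quotient.mk (J π) a) = π' π a := rfl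

noncomputable def f : S π := Ideal.Quotient.mk (J π) (X none)

theorem f_mem : f π ∈ gS π 1 := GrQuot.mk_mem_gr _ _ (isHomogeneous_X R none)

theorem πbar_f : πbar π (f π) = 1 := by simp [f]

noncomputable def lift : Localization.Away (f π) →+* R' :=
  IsLocalization.Away.lift (f π) (g := πbar π) (by rw [πbar_f]; exact isUnit_one)

theorem lift_mk (a : S π) (k : ℕ) :
    lift π (Localization.mk a ⟨f π ^ k, ⟨k, rfl⟩⟩) = πbar π a := by
  rw [Localization.mk_eq_mk', lift, IsLocalization.Away.lift, IsLocalization.lift_mk'_spec]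
  simp [πbar_f]

noncomputable def ψ : Away (gS π) (f π) →+* R' :=
  (lift π).comp (algebraMap (Away (gS π) (f π)) (Localization.Away (f π)))

theorem ψ_mk (k : ℕ) (a : S π) (ha : a ∈ gS π (k • 1)) :
    ψ π (Away.mk (gS π) (f_mem π) k a ha) = πbar π a := by
  change lift π (Away.mk (gS π) (f_mem π) k a ha).val = _
  rw [Away.val_mk]
  exact lift_mk π a k

theorem ψ_injective : Function.Injective (ψ π) := by
  rw [injective_iff_map_eq_zero]
  intro z hz
  obtain ⟨k, a, ha, rfl⟩ := Away.mk_surjective (gS π) (f_mem π) z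
  rw [ψ_mk] at hz
  obtain ⟨ã, hã, hae⟩ := id ha
  have hae' : a = Ideal.Quotient.mk (J π) ã := hae.symm
  have hz' : π' π ã = 0 := by rw [hae'] at hz; exact hz
  have hJ : ã * X none ∈ J π := Ideal.subset_span ⟨k • 1 + 1, by omega,
    SetLike.mul_mem_graded hã (isHomogeneous_X R none), by rw [map_mul, hz', zero_mul]⟩
  have h0 : f π * a = 0 := by
    rw [hae', f, ← map_mul, mul_comm]
    exact Ideal.Quotient.eq_zero_iff_mem.2 hJ
  apply HomogeneousLocalization.val_injective
  rw [Away.val_mk, HomogeneousLocalization.val_zero, Localization.mk_eq_mk',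
    IsLocalization.mk'_eq_zero_iff]
  exact ⟨⟨f π, 1, pow_one _⟩, h0⟩

theorem ψ_surjective (hπ : Function.Surjective π) : Function.Surjective (ψ π) := by
  intro x'
  obtain ⟨p, rfl⟩ := hπ x'
  induction p using MvPolynomial.induction_on with
  | C r =>
    refine ⟨Away.mk (gS π) (f_mem π) 0 (Ideal.Quotient.mk (J π) (C r))
      (GrQuot.mk_mem_gr _ _ (by simp [isHomogeneous_C])), ?_⟩
    rw [ψ_mk, πbar_mk]
    simp [π']
  | add p q hp hq =>
    obtain ⟨a, ha⟩ := hp
    obtain ⟨b, hb⟩ := hq
    exact ⟨a + b, by rw [map_add, ha, hb, map_add]⟩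
  | mul_X p i hp =>
    obtain ⟨a, ha⟩ := hp
    refine ⟨a * Away.mk (gS π) (f_mem π) 1 (Ideal.Quotient.mk (J π) (X (some i)))
      (GrQuot.mk_mem_gr _ _ (by simpa using isHomogeneous_X R (some i))), ?_⟩
    rw [map_mul, ha, ψ_mk, πbar_mk, π'_X_some, map_mul]

theorem algebraMap_injective : Function.Injective (algebraMap R (S π)) := by
  rw [injective_iff_map_eq_zero]
  intro c hc
  have h1 : (C c : PA R n) ∈ J π := Ideal.Quotient.eq_zero_iff_mem.1 hc
  have h2 := J_le_ker_constantCoeff π h1
  rwa [RingHom.mem_ker, constantCoeff_C] at h2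

theorem mem_range_of_mem_zero (x : S π) (hx : x ∈ gS π 0) : x ∈ Set.range (algebraMap R (S π)) := by
  obtain ⟨a, ha, rfl⟩ := hx
  have ha' : a ∈ homogeneousSubmodule (Option (Fin n)) R 0 := ha
  rw [homogeneousSubmodule_zero] at ha'
  obtain ⟨c, rfl⟩ := Submodule.mem_one.1 ha'
  exact ⟨c, rfl⟩

end

theorem main (R R' : Type u) [CommRing R] [CommRing R'] [Algebra R R'] [Algebra.FiniteType R R'] :
    ∃ (S : Type u) (_ : CommRing S) (_ : Algebra R S) (𝒜 : ℕ → Submodule R S) (_ : GradedAlgebra 𝒜)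
      (f : S) (_ : f ∈ 𝒜 1) (s : Finset S)
      (e : HomogeneousLocalization.Away 𝒜 f ≃+* R'),
      Function.Injective (algebraMap R S) ∧ (∀ x ∈ 𝒜 0, x ∈ Set.range (algebraMap R S)) ∧
      (↑s ⊆ (𝒜 1 : Set S)) ∧ Algebra.adjoin R (s : Set S) = ⊤ ∧
      ∀ r : R, (e.symm (algebraMap R R' r)).val =
        algebraMap S (Localization.Away f) (algebraMap R S r) := by
  classical
  obtain ⟨n, π, hπ⟩ := Algebra.FiniteType.iff_quotient_mvPolynomial''.1
    (inferInstance : Algebra.FiniteType R R')
  let e : Away (gS π) (f π) ≃+* R' :=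
    RingEquiv.ofBijective (ψ π) ⟨ψ_injective π, ψ_surjective π hπ⟩
  refine ⟨S π, inferInstance, inferInstance, gS π, inferInstance, f π, f_mem π,
    Finset.univ.image (fun o : Option (Fin n) => Ideal.Quotient.mk (J π) (X o)), e,
    algebraMap_injective π, mem_range_of_mem_zero π, ?_, ?_, ?_⟩
  · intro x hx
    simp only [Finset.coe_image, Finset.coe_univ, Set.image_univ, Set.mem_range] at hx
    obtain ⟨o, rfl⟩ := hx
    exact GrQuot.mk_mem_gr _ _ (isHomogeneous_X R o)
  · have h1 : Algebra.adjoin R (Set.range (X : Option (Fin n) → PA R n)) = ⊤ := adjoin_range_X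
    have h2 := congrArg (Subalgebra.map (Ideal.Quotient.mkₐ R (J π))) h1
    rw [AlgHom.map_adjoin, Algebra.map_top,
      (AlgHom.range_eq_top _).2 (Ideal.Quotient.mkₐ_surjective R _)] at h2
    rw [← h2]
    congr 1
    ext x
    simp
  · intro r
    have hmem : algebraMap R (S π) r ∈ gS π (0 • 1) :=
      GrQuot.mk_mem_gr _ _ (by simp)
    have h1 : e.symm (algebraMap R R' r) =
        Away.mk (gS π) (f_mem π) 0 (algebraMap R (S π) r) hmem := by
      apply e.injective
      rw [e.apply_symm_apply]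
      refine Eq.symm ((ψ_mk π 0 _ hmem).trans ?_)
      change π' π (C r) = _
      simp [π']
    rw [h1, Away.val_mk]
    rw [← Localization.mk_one_eq_algebraMap]
    congr 1

section
end
end Groth.Agent.Helper1.HomogFT
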