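import Mathlib
import Groth.Agent.Lib.Helper4.PnX1
import Groth.Agent.Lib.Helper4.PnC7
import Groth.Agent.Lib.Helper4.SerreVan
import Groth.Agent.Lib.Helper4.TwExact
import Groth.Agent.Lib.Helper4.HHFin3
import Groth.Agent.Lib.Lead.HZ1
import Groth.Agent.Lib.Lead.HP9
import Groth.Agent.Lib.Lead.TilT6
import Groth.Agent.Lib.Helper5.LTen.Flf
import Groth.Agent.Lib.Helper1.Big5
import Groth.Agent.Lib.Helper1.DegSec1
import Groth.Agent.Lib.Helper1.HypPnB
import Groth.Agent.Lib.Helper1.CurveDual2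
import Groth.Agent.Lib.Helper1.TwistAmpleOpen
import Groth.Agent.Lib.Helper1.TildeTens
import Groth.Agent.S8914
import Groth.Agent.S10829
import Groth.Agent.S0844

/-!
# Cohomology of the twists of the structure sheaf of a hypersurface in projective space (helper1)
-/

set_option autoImplicit false
set_option backward.isDefEq.respectTransparency.types false
set_option synthInstance.maxHeartbeats 400000
set_option linter.style.haveILetI false
set_option linter.unusedSectionVars false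
universe u
open CategoryTheory CategoryTheory.Limits AlgebraicGeometry TopologicalSpace Opposite

namespace Groth.Agent.Helper1.HypCoh

open Groth.Agent.Helper1 Groth.Agent.Lib.Helper4

theorem finrank_of_exact {K : Type*} {U : Type*} {V : Type*} {W : Type*} [Field K]
    [AddCommGroup U] [Module K U]
    [AddCommGroup V] [Module K V] [AddCommGroup W] [Module K W] [FiniteDimensional K V]
    (f : U →ₗ[K] V) (g : V →ₗ[K] W) (hf : Function.Injective f) (hg : Function.Surjective g)
    (hex : LinearMap.ker g = LinearMap.range f) :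
    Module.finrank K W + Module.finrank K U = Module.finrank K V := by
  have h1 := LinearMap.finrank_range_add_finrank_ker g
  rw [LinearMap.range_eq_top.2 hg, finrank_top, hex, LinearMap.finrank_range_of_inj hf] at h1
  exact h1

section Pn

variable (F : Type u) [Field F] (d : ℕ)

theorem h0f (m : ℤ) :
    Module.finrank F (Coh.HH (CohB1.ProjSpace (d + 1) F) (Twist.twistProjSpace (d + 1) F m) 0) =
      Nat.choose (m + ((d : ℤ) + 1)).toNat (d + 1) := by
  by_cases hm : 0 ≤ m
  · obtain ⟨m', rfl⟩ := Int.eq_ofNat_of_zero_le hm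
    rw [PnX1.fr_H0]
    rfl
  · rw [PnX1.fr_zero F (d + 1) m 0 (fun h => hm h.2) (fun h => by omega)]
    symm
    apply Nat.choose_eq_zero_of_lt
    omega

theorem hrf (m : ℤ) :
    Module.finrank F (Coh.HH (CohB1.ProjSpace (d + 1) F) (Twist.twistProjSpace (d + 1) F m)
      (d + 1)) = Nat.choose (-m - 1).toNat (d + 1) := by
  by_cases hm : m ≤ -(((d + 1 : ℕ) : ℤ) + 1)
  · obtain ⟨m', hm'⟩ : ∃ m' : ℕ, m = -(((d + 1 : ℕ) : ℤ) + 1 + m') :=
      ⟨(-m - (((d + 1 : ℕ) : ℤ) + 1)).toNat, by omega⟩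
    subst hm'
    rw [PnX1.fr_Hr]
    congr 1 <;> omega
  · rw [PnX1.fr_zero F (d + 1) m (d + 1) (fun h => by omega) (fun h => hm h.2)]
    symm
    apply Nat.choose_eq_zero_of_lt
    omega

theorem vanf (m : ℤ) (j : ℕ) (h0 : j ≠ 0) (h1 : j ≠ d + 1) :
    Subsingleton (Coh.HH (CohB1.ProjSpace (d + 1) F) (Twist.twistProjSpace (d + 1) F m) j) :=
  Groth.Agent.S0844.result F (d + 1) m j (fun h => h0 h.1) (fun h => h1 h.1)

end Pn

theorem dim_support_le (F : Type u) [Field F] (d : ℕ)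
    (I : (CohB1.ProjSpace (d + 1) F).IdealSheafData)
    (hinv : PicF.IsInvertible (ClSub.idealMod I)) :
    topologicalKrullDim ((I.support : Set (CohB1.ProjSpace (d + 1) F))) ≤
      ((d : ℕ) : WithBot ℕ∞) := by
  have hEff : BlowUp.IsEffCartierIdeal I := (Groth.Agent.S8914.result I).1 hinv
  haveI : IsIntegral (CohB1.ProjSpace (d + 1) F) := HypPn.isIntegral_projSpace (d + 1) F
  have hbot : I ≠ ⊥ := by
    intro h0
    obtain ⟨U, hxU, a, ha, hU⟩ := hEff (genericPoint (CohB1.ProjSpace (d + 1) F))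
    rw [h0] at hU
    have h1 : a ∈ Ideal.span {a} := Ideal.mem_span_singleton_self a
    rw [← hU] at h1
    have h2 : a = 0 := by simpa using h1
    haveI : Nonempty ↥(U : (CohB1.ProjSpace (d + 1) F).Opens) :=
      ⟨⟨genericPoint (CohB1.ProjSpace (d + 1) F), hxU⟩⟩
    rw [h2] at ha
    exact zero_notMem_nonZeroDivisors ha
  have hsupp_ne : (I.support : Set (CohB1.ProjSpace (d + 1) F)) ≠ Set.univ := by
    intro h
    apply hbot
    have h1 : I.support = ⊤ := TopologicalSpace.Closeds.ext h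
    exact Scheme.IdealSheafData.support_eq_top_iff.1 h1
  have h1 := Curve.krullDim_add_one_le_of_ne_univ I.support.isClosed hsupp_ne
  rw [Groth.Agent.S10829.result F (d + 1)] at h1
  exact DegSec.le_of_add_one_le_succ _ d h1

section Core

variable (F : Type u) [Field F] (d : ℕ)

set_option maxHeartbeats 800000 in
theorem core (hd : 1 ≤ d) (T : ShortComplex (CohB1.ProjSpace (d + 1) F).Modules)
    (hT : T.ShortExact) (a b : ℤ)
    (e1 : T.X₁ ≅ Twist.twistProjSpace (d + 1) F a)
    (e2 : T.X₂ ≅ Twist.twistProjSpace (d + 1) F b)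
    (hvan_top : Subsingleton (Coh.HH (CohB1.ProjSpace (d + 1) F) T.X₃ (d + 1))) :
    (∀ p : ℕ, p ≠ 0 → p ≠ d → Subsingleton (Coh.HH (CohB1.ProjSpace (d + 1) F) T.X₃ p)) ∧
    (Module.Finite F (Coh.HH (CohB1.ProjSpace (d + 1) F) T.X₃ 0) ∧
      Module.finrank F (Coh.HH (CohB1.ProjSpace (d + 1) F) T.X₃ 0) +
        Nat.choose (a + ((d : ℤ) + 1)).toNat (d + 1) =
        Nat.choose (b + ((d : ℤ) + 1)).toNat (d + 1)) ∧
    (Module.Finite F (Coh.HH (CohB1.ProjSpace (d + 1) F) T.X₃ d) ∧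
      Nat.choose (-b - 1).toNat (d + 1) +
        Module.finrank F (Coh.HH (CohB1.ProjSpace (d + 1) F) T.X₃ d) =
        Nat.choose (-a - 1).toNat (d + 1)) := by
  have fa : ∀ j, Module.finrank F (Coh.HH (CohB1.ProjSpace (d + 1) F) T.X₁ j) =
      Module.finrank F (Coh.HH (CohB1.ProjSpace (d + 1) F)
        (Twist.twistProjSpace (d + 1) F a) j) :=
    fun j => (HHFin1.HHequiv F e1 j).finrank_eq
  have fb : ∀ j, Module.finrank F (Coh.HH (CohB1.ProjSpace (d + 1) F) T.X₂ j) =
      Module.finrank F (Coh.HH (CohB1.ProjSpace (d + 1) F)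
        (Twist.twistProjSpace (d + 1) F b) j) :=
    fun j => (HHFin1.HHequiv F e2 j).finrank_eq
  have sa : ∀ j, j ≠ 0 → j ≠ d + 1 →
      Subsingleton (Coh.HH (CohB1.ProjSpace (d + 1) F) T.X₁ j) :=
    fun j h0 h1 => SerreVan.subsingleton_of_iso F e1.symm j (vanf F d _ j h0 h1)
  have sb : ∀ j, j ≠ 0 → j ≠ d + 1 →
      Subsingleton (Coh.HH (CohB1.ProjSpace (d + 1) F) T.X₂ j) :=
    fun j h0 h1 => SerreVan.subsingleton_of_iso F e2.symm j (vanf F d _ j h0 h1)
  have fina : ∀ j, Module.Finite F (Coh.HH (CohB1.ProjSpace (d + 1) F) T.X₁ j) := fun j => by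
    haveI := SerreFin.finite_twist (d + 1) F a j
    exact Module.Finite.equiv (HHFin1.HHequiv F e1 j).symm
  have finb : ∀ j, Module.Finite F (Coh.HH (CohB1.ProjSpace (d + 1) F) T.X₂ j) := fun j => by
    haveI := SerreFin.finite_twist (d + 1) F b j
    exact Module.Finite.equiv (HHFin1.HHequiv F e2 j).symm
  refine ⟨?_, ⟨?_, ?_⟩, ⟨?_, ?_⟩⟩
  · intro p hp0 hpd
    by_cases hpr : p = d + 1
    · subst hpr
      exact hvan_top
    · exact SerreVan.subsingleton_X₃ F hT p (sb p hp0 hpr)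
        (sa (p + 1) (by omega) (by omega))
  · exact HHFin2.finite_X₃ F hT 0 (finb 0) (fina 1)
  · haveI := finb 0
    haveI := sa 1 (by omega) (by omega)
    have hsum := finrank_of_exact (Canon.HHlin F T.f 0) (Canon.HHlin F T.g 0)
      (HHFin3.HHlin_f_zero_injective F hT)
      (fun x => HHFin2.exact_g_delta F hT 0 x (Subsingleton.elim _ _))
      (by
        ext x
        constructor
        · intro hx
          exact HHFin2.exact_f_g F hT 0 x hx
        · rintro ⟨y, rfl⟩
          exact HHFin2.g_f F 0 y)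
    rw [fa, fb, h0f, h0f] at hsum
    exact hsum
  · exact HHFin2.finite_X₃ F hT d (finb d) (fina (d + 1))
  · haveI := fina (d + 1)
    haveI := sb d (by omega) (by omega)
    haveI := hvan_top
    have hsum := finrank_of_exact (HHFin2.deltaLin F hT d) (Canon.HHlin F T.f (d + 1))
      ((injective_iff_map_eq_zero _).2 fun x hx => by
        obtain ⟨y, rfl⟩ := HHFin2.exact_g_delta F hT d x hx
        rw [Subsingleton.elim y 0, map_zero])
      (fun x => HHFin2.exact_f_g F hT (d + 1) x (Subsingleton.elim _ _))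
      (by
        ext x
        constructor
        · intro hx
          exact HHFin3.exact_delta_f F hT d x hx
        · rintro ⟨y, rfl⟩
          exact HHFin3.f_delta F hT d y)
    rw [fa, fb, hrf, hrf] at hsum
    exact hsum

theorem isCoh_C (I : (CohB1.ProjSpace (d + 1) F).IdealSheafData) (n : ℤ) :
    Coh.IsCoh (CohB1.tensorMod (ClSub.quotMod I) (Twist.twistProjSpace (d + 1) F n)) := by
  have hcohQ := CurveDual.isCoh_quotMod I
  have hcohO := SerreFin.isCoh_twist (d + 1) F n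
  haveI hq1 : (ClSub.quotMod I).IsQuasicoherent := hcohQ.1
  haveI hq2 : (Twist.twistProjSpace (d + 1) F n).IsQuasicoherent := hcohO.1
  exact ⟨Groth.Agent.Lead.TilT.isQuasicoherent_tensorMod (ClSub.quotMod I)
      (Twist.twistProjSpace (d + 1) F n),
    Groth.Agent.Lead.TilT.isFT_tensorMod (ClSub.quotMod I) (Twist.twistProjSpace (d + 1) F n)
      hcohQ.2 hcohO.2⟩

theorem support_C (I : (CohB1.ProjSpace (d + 1) F).IdealSheafData) (n : ℤ) :
    CohB1.support (CohB1.tensorMod (ClSub.quotMod I)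
      (Twist.twistProjSpace (d + 1) F n)) ⊆ (I.support : Set (CohB1.ProjSpace (d + 1) F)) := by
  have hcohQ := CurveDual.isCoh_quotMod I
  have hcohO := SerreFin.isCoh_twist (d + 1) F n
  haveI hq1 : (ClSub.quotMod I).IsQuasicoherent := hcohQ.1
  haveI hq2 : (Twist.twistProjSpace (d + 1) F n).IsQuasicoherent := hcohO.1
  have hs := Groth.Agent.Lead.TilT.support_tensorMod (ClSub.quotMod I)
    (Twist.twistProjSpace (d + 1) F n) hcohQ.2 hcohO.2
  intro x hx
  rw [hs] at hx
  exact CurveDual.support_quotMod_subset I hx.1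

theorem vanTop (I : (CohB1.ProjSpace (d + 1) F).IdealSheafData)
    (hinv : PicF.IsInvertible (ClSub.idealMod I)) (n : ℤ) :
    Subsingleton (Coh.HH (CohB1.ProjSpace (d + 1) F)
      (CohB1.tensorMod (ClSub.quotMod I) (Twist.twistProjSpace (d + 1) F n)) (d + 1)) := by
  haveI : AlgebraicGeometry.IsNoetherian (CohB1.ProjSpace (d + 1) F) :=
    Euler.isNoetherian_of_proper F (CohB1.ProjSpace (d + 1) F)
  have hle := dim_support_le F d I hinv
  have hdimC := (Groth.Agent.Lead.HP.dim_le_of_subset (support_C F d I n)).trans hle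
  exact Big.subsingleton_HH_of_dim_support_lt _ (isCoh_C F d I n) d hdimC (d + 1)
    (Nat.lt_succ_self d)

end Core

set_option maxHeartbeats 800000 in
theorem main (F : Type u) [Field F] (d k : ℕ)
    (hd : 1 ≤ d) (hk : 1 ≤ k) (I : (CohB1.ProjSpace (d + 1) F).IdealSheafData)
    (hI : Nonempty (ClSub.idealMod I ≅ Twist.twistProjSpace (d + 1) F (-(k : ℤ)))) (n : ℤ) :
    (∀ p : ℕ, p ≠ 0 → p ≠ d →
      Subsingleton (Coh.HH (CohB1.ProjSpace (d + 1) F)
        (CohB1.tensorMod (ClSub.quotMod I) (Twist.twistProjSpace (d + 1) F n)) p)) ∧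
    (Module.Finite F (Coh.HH (CohB1.ProjSpace (d + 1) F)
        (CohB1.tensorMod (ClSub.quotMod I) (Twist.twistProjSpace (d + 1) F n)) 0) ∧
      Module.finrank F (Coh.HH (CohB1.ProjSpace (d + 1) F)
        (CohB1.tensorMod (ClSub.quotMod I) (Twist.twistProjSpace (d + 1) F n)) 0) =
        (Nat.choose (n + ((d : ℤ) + 1)).toNat (d + 1) - Nat.choose (n - (k : ℤ) + ((d : ℤ) + 1)).toNat (d + 1))) ∧
    (Module.Finite F (Coh.HH (CohB1.ProjSpace (d + 1) F)
        (CohB1.tensorMod (ClSub.quotMod I) (Twist.twistProjSpace (d + 1) F n)) d) ∧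
      Module.finrank F (Coh.HH (CohB1.ProjSpace (d + 1) F)
        (CohB1.tensorMod (ClSub.quotMod I) (Twist.twistProjSpace (d + 1) F n)) d) =
        (Nat.choose (((k : ℤ) - 2 - (d : ℤ) - n) + ((d : ℤ) + 1)).toNat (d + 1) - Nat.choose (((k : ℤ) - 2 - (d : ℤ) - n) - (k : ℤ) + ((d : ℤ) + 1)).toNat (d + 1))) := by
  obtain ⟨eI⟩ := hI
  have hS := CurveDual.shortExact_S I
  have hT : ((IdealModL.S I).map (SerreVan.Tw (d + 1) F n)).ShortExact :=
    TwExact.shortExact_map (SerreVan.locGen_twist (d + 1) F n) hS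
  obtain ⟨ea⟩ := Groth.Agent.Lead.HZ.pn_add (d + 1) F (-(k : ℤ)) n
  have e1 : CohB1.tensorMod (ClSub.idealMod I) (Twist.twistProjSpace (d + 1) F n) ≅
      Twist.twistProjSpace (d + 1) F (-(k : ℤ) + n) :=
    Groth.Agent.Lead.TilT.tensorModCongr eI (Iso.refl _) ≪≫ ea
  have e2 : CohB1.tensorMod (Coh.structureModule (CohB1.ProjSpace (d + 1) F))
      (Twist.twistProjSpace (d + 1) F n) ≅ Twist.twistProjSpace (d + 1) F n :=
    TildeTens.tensorModComm _ _ ≪≫
      Groth.Agent.Lib.Helper5.LTenFlf.tensorUnitIso (Twist.twistProjSpace (d + 1) F n)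
  have hinv : PicF.IsInvertible (ClSub.idealMod I) :=
    TwistAmpleOpen.isInvertible_of_iso eI.symm (Groth.Agent.Lead.HZ.pn_inv (d + 1) F (-(k : ℤ)))
  have hvan := vanTop F d I hinv n
  have h := core F d hd _ hT (-(k : ℤ) + n) n e1 e2 hvan
  have h0 : Module.finrank F (Coh.HH (CohB1.ProjSpace (d + 1) F)
        (CohB1.tensorMod (ClSub.quotMod I) (Twist.twistProjSpace (d + 1) F n)) 0) +
        Nat.choose (-(k : ℤ) + n + ((d : ℤ) + 1)).toNat (d + 1) =
        Nat.choose (n + ((d : ℤ) + 1)).toNat (d + 1) := h.2.1.2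
  have hdd : Nat.choose (-n - 1).toNat (d + 1) +
        Module.finrank F (Coh.HH (CohB1.ProjSpace (d + 1) F)
        (CohB1.tensorMod (ClSub.quotMod I) (Twist.twistProjSpace (d + 1) F n)) d) =
        Nat.choose (-(-(k : ℤ) + n) - 1).toNat (d + 1) := h.2.2.2
  refine ⟨h.1, ⟨h.2.1.1, ?_⟩, ⟨h.2.2.1, ?_⟩⟩
  · have e : (-(k : ℤ) + n) = n - (k : ℤ) := by ring
    rw [e] at h0
    omega
  · have e1' : ((k : ℤ) - 2 - (d : ℤ) - n) + ((d : ℤ) + 1) = -(-(k : ℤ) + n) - 1 := by ring
    have e2' : ((k : ℤ) - 2 - (d : ℤ) - n) - (k : ℤ) + ((d : ℤ) + 1) = -n - 1 := by ring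
    rw [e1', e2']
    omega

end Groth.Agent.Helper1.HypCoh
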