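import Mathlib
import Groth.Prelude.Def_LefPen
import Groth.Agent.Lib.Helper1.HypBridge1
import Groth.Agent.Lib.Helper1.HypCoh1
import Groth.Agent.Lib.Helper1.FibBetti1
import Groth.Agent.Lib.Helper4.ClBridge5
import Groth.Agent.Lib.Helper4.Chev3
import Groth.Agent.Lib.Helper2.Sch.SmoothRelDim2
import Groth.Agent.Lib.Helper2.Dual.ZeroConn
import Groth.Agent.Lib.Helper9.FE.ClopenIdem
import Groth.Agent.Lib.Helper7.GeomConn.H0One
import Groth.Agent.S10829

/-!
# Hypersurfaces in projective space: the structure sheaf of the subscheme (helper1)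

Bridges from the cohomology of `O_X ⊗ O(0)` on `P^n` to the cohomology of the structure sheaf of
the closed subscheme, global functions and connectedness; the zero form.
-/

set_option autoImplicit false
set_option backward.isDefEq.respectTransparency.types false
set_option synthInstance.maxHeartbeats 400000
set_option linter.style.haveILetI false
set_option linter.unusedSectionVars false
universe u
open CategoryTheory CategoryTheory.Limits AlgebraicGeometry TopologicalSpace Opposite

namespace Groth.Agent.Helper1.HypBridge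

open Groth.Agent.Helper1.QcCech Groth.Agent.Helper1.LGen
open Groth.Agent.Helper1 Groth.Agent.Lib.Helper4

section Zero

variable (r : ℕ) (k : Type u) [Field k] {d : ℕ}

theorem dehom_zero (i : Fin (r + 1)) : LefPen.dehom (0 : LefPen.Form r k d) i = 0 := by
  unfold LefPen.dehom
  have h : ∀ hx, HomogeneousLocalization.Away.mk (CohB1.polyGrading r k) (LefPen.X_mem r k i) d
      ((0 : LefPen.Form r k d) : MvPolynomial (Fin (r + 1)) k) hx = 0 := fun hx =>
    HomogeneousLocalization.mk_eq_zero_of_num _ (Subtype.ext rfl)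
  rw [h, map_zero]
  rfl

theorem hypIdeal_zero : LefPen.hypIdeal (0 : LefPen.Form r k d) = ⊥ := by
  rw [eq_bot_iff]
  refine Scheme.IdealSheafData.le_of_iSup_eq_top (chartA r k) (iSup_chartA r k) (fun i => ?_)
  intro a ha
  have h1 : a ∈ LefPen.hypFamily (0 : LefPen.Form r k d) (chartA r k i) :=
    Scheme.IdealSheafData.ideal_ofIdeals_le (LefPen.hypFamily _) (chartA r k i) ha
  unfold LefPen.hypFamily at h1
  rw [Ideal.mem_iInf] at h1
  have h2 := h1 i
  rw [Ideal.mem_comap, dehom_zero, map_zero, Ideal.mem_span_singleton'] at h2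
  obtain ⟨b, hb⟩ := h2
  rw [mul_zero] at hb
  have hW : LefPen.chart r k i ≤ (chartA r k i).1 ⊓ LefPen.chart r k i := le_inf le_rfl le_rfl
  have hb' : resR (inf_le_left : (chartA r k i).1 ⊓ LefPen.chart r k i ≤ (chartA r k i).1) a =
      0 := hb.symm
  have h3 := congrArg (resR hW) hb'
  have h4 : resR (hW.trans inf_le_left : LefPen.chart r k i ≤ (chartA r k i).1) a = a :=
    resR_self' _ a
  rw [resR_resR, map_zero] at h3
  show a ∈ (⊥ : Ideal _)
  rw [Ideal.mem_bot]
  exact h4.symm.trans h3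

theorem ne_zero_of_smooth (n : ℕ) (Q : LefPen.Form (n + 1) k d)
    [SmoothOfRelativeDimension n
      ((LefPen.hypIdeal Q).subschemeι ≫ CohB1.ProjSpace.toSpec (n + 1) k)] : Q ≠ 0 := by
  intro hQ
  have hI : LefPen.hypIdeal Q = ⊥ := by rw [hQ]; exact hypIdeal_zero (n + 1) k
  haveI : IsIso (LefPen.hypIdeal Q).subschemeι :=
    (Scheme.isIso_subschemeι_iff_eq_bot _).2 hI
  have h1 : topologicalKrullDim ↥(LefPen.hypIdeal Q).subscheme ≤ ((n : ℕ) : WithBot ℕ∞) :=
    Chev3.topologicalKrullDim_le_of_forall_localDim_le _ (fun z => le_of_eq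
      (Groth.Agent.Helper2.SmoothRelDim.localDim_eq_of_smoothOfRelativeDimension_field n k
        ((LefPen.hypIdeal Q).subschemeι ≫ CohB1.ProjSpace.toSpec (n + 1) k) z))
  have h2 : topologicalKrullDim ↥(LefPen.hypIdeal Q).subscheme =
      topologicalKrullDim ↥(CohB1.ProjSpace (n + 1) k) :=
    IsHomeomorph.topologicalKrullDim_eq _
      (LefPen.hypIdeal Q).subschemeι.homeomorph.isHomeomorph
  rw [h2, Groth.Agent.S10829.result k (n + 1)] at h1
  have h3 : (((n + 1 : ℕ) : ℕ∞) : WithBot ℕ∞) ≤ (((n : ℕ) : ℕ∞) : WithBot ℕ∞) := h1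
  rw [WithBot.coe_le_coe, Nat.cast_le] at h3
  omega

end Zero

section Bridge

variable (k : Type u) [Field k] (n : ℕ)

theorem nonempty_linearEquiv_structure (I : (CohB1.ProjSpace n k).IdealSheafData)
    [inst : I.subscheme.Over (Spec (CommRingCat.of k))]
    (hinst : I.subscheme ↘ Spec (CommRingCat.of k) =
      I.subschemeι ≫ CohB1.ProjSpace.toSpec n k) (j : ℕ) :
    Nonempty (Coh.HH (CohB1.ProjSpace n k)
      (CohB1.tensorMod (ClSub.quotMod I) (Twist.twistProjSpace n k 0)) j ≃ₗ[k]
        Coh.HH I.subscheme (Coh.structureModule I.subscheme) j) := by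
  obtain ⟨e⟩ := ClBridge5.nonempty_linearEquiv_twOn k n I.subschemeι hinst.symm
    (Coh.structureModule I.subscheme) 0 j
  obtain ⟨e3⟩ : Nonempty (Twist.twistProjSpace n k 0 ≅
      Coh.structureModule (CohB1.ProjSpace n k)) :=
    TwistTens.nonempty_twist_zero_iso (CohB1.polyGrading n k)
  let φ : ClBridge2.twOn n k I.subschemeι (Coh.structureModule I.subscheme) 0 ≅
      Coh.structureModule I.subscheme :=
    Groth.Agent.Lead.PicCalc.lunitIso _ ≪≫
      (Scheme.Modules.pullback I.subschemeι).mapIso e3 ≪≫ PullSec.unitIso I.subschemeι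
  exact ⟨e.trans (HHFin1.HHequiv k φ j)⟩

end Bridge

section H0

variable (k : Type u) [Field k] (X : Scheme.{u}) [X.Over (Spec (CommRingCat.of k))]

theorem toΓ_bijective_of_finrank_one
    (h : Module.finrank k (Coh.HH X (Coh.structureModule X) 0) = 1) :
    Function.Bijective (Groth.Agent.Helper7.GeomConn.toΓ k X (X ↘ Spec (CommRingCat.of k))) := by
  let f := X ↘ Spec (CommRingCat.of k)
  letI a1 : Algebra k Γ(X, ⊤) := (Groth.Agent.Helper7.GeomConn.toΓ k X f).toAlgebra
  let E := HH0.equiv X (Coh.structureModule X)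
  let toG : ↑((Coh.structureModule X).val.obj (op ⊤)) → Γ(X, ⊤) := fun m => m
  let ofG : Γ(X, ⊤) → ↑((Coh.structureModule X).val.obj (op ⊤)) := fun m => m
  let L : Coh.HH X (Coh.structureModule X) 0 ≃ₗ[k] Γ(X, ⊤) :=
    { toFun := fun x => toG (E x)
      invFun := fun s => E.symm (ofG s)
      map_add' := fun x y => by
        show toG (E (x + y)) = toG (E x) + toG (E y)
        rw [map_add]; rfl
      map_smul' := fun a x => by
        show toG (E (a • x)) = Groth.Agent.Helper7.GeomConn.toΓ k X f a * toG (E x)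
        rw [HH0.equiv_smul_over]
        rfl
      left_inv := fun x => E.left_inv x
      right_inv := fun s => E.right_inv (ofG s) }
  have hΓ : Module.finrank k Γ(X, ⊤) = 1 := by rw [← L.finrank_eq]; exact h
  haveI : Nontrivial Γ(X, ⊤) :=
    Module.nontrivial_of_finrank_pos (R := k) (by rw [hΓ]; exact one_pos)
  refine ⟨(Groth.Agent.Helper7.GeomConn.toΓ k X f).injective, ?_⟩
  intro w
  obtain ⟨c, hc⟩ := (finrank_eq_one_iff_of_nonzero' (1 : Γ(X, ⊤)) one_ne_zero).1 hΓ w
  refine ⟨c, ?_⟩
  rw [Algebra.smul_def, mul_one] at hc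
  exact hc

theorem connectedSpace_of_finrank_one
    (h : Module.finrank k (Coh.HH X (Coh.structureModule X) 0) = 1) : ConnectedSpace X := by
  obtain ⟨hinj, hsurj⟩ := toΓ_bijective_of_finrank_one k X h
  have hne : Nonempty X := by
    by_contra hne
    haveI : IsEmpty X := not_nonempty_iff.1 hne
    have h10 : (1 : Γ(X, ⊤)) = 0 := Subsingleton.elim _ _
    have h01 : Groth.Agent.Helper7.GeomConn.toΓ k X (X ↘ Spec (CommRingCat.of k)) 1 =
        Groth.Agent.Helper7.GeomConn.toΓ k X (X ↘ Spec (CommRingCat.of k)) 0 := by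
      rw [map_one, map_zero]; exact h10
    exact one_ne_zero (hinj h01)
  rw [connectedSpace_iff_clopen]
  refine ⟨hne, fun T hT => ?_⟩
  obtain ⟨e, he, heT⟩ := H9FE.exists_idem_of_isClopen T hT
  obtain ⟨c, rfl⟩ := hsurj e
  have hc : IsIdempotentElem c := hinj (by rw [map_mul]; exact he.eq)
  rcases IsIdempotentElem.iff_eq_zero_or_one.1 hc with h0 | h1
  · left
    rw [← heT, h0, map_zero, Scheme.basicOpen_zero]
    rfl
  · right
    rw [← heT, h1, map_one, Scheme.basicOpen_of_isUnit _ isUnit_one]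
    rfl

theorem appTop_bijective_of_toΓ {X : Scheme.{u}} (f : X ⟶ Spec (CommRingCat.of k))
    (h : Function.Bijective (Groth.Agent.Helper7.GeomConn.toΓ k X f)) :
    Function.Bijective f.appTop.hom := by
  have hg : Function.Bijective ⇑(Scheme.ΓSpecIso (CommRingCat.of k)).inv.hom :=
    ConcreteCategory.bijective_of_isIso (Scheme.ΓSpecIso (CommRingCat.of k)).inv
  have hcomp : (⇑(Groth.Agent.Helper7.GeomConn.toΓ k X f) : k → Γ(X, ⊤)) =
      ⇑f.appTop.hom ∘ ⇑(Scheme.ΓSpecIso (CommRingCat.of k)).inv.hom := rfl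
  rw [hcomp] at h
  exact (Function.Bijective.of_comp_iff _ hg).1 h

end H0

section Arith

theorem key_top (m : ℕ) (hm : 0 < m) (a b : ℤ) (ha : a = (m : ℤ)) (hb : b < (m : ℤ)) :
    Nat.choose a.toNat m - Nat.choose b.toNat m = 1 := by
  have h1 : a.toNat = m := by omega
  have h2 : b.toNat < m := by omega
  rw [h1, Nat.choose_eq_zero_of_lt h2, Nat.choose_self]

theorem key_zero (m : ℕ) (a b : ℤ) (ha : a < (m : ℤ)) (h0 : 0 ≤ a) :
    Nat.choose a.toNat m - Nat.choose b.toNat m = 0 := by
  have h1 : a.toNat < m := by omega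
  rw [Nat.choose_eq_zero_of_lt h1, Nat.zero_sub]

theorem key_genus (d : ℕ) (hd : 1 ≤ d) (a b : ℤ) (ha : a = (d : ℤ) - 1) (hb : b ≤ 1) :
    Nat.choose a.toNat 2 - Nat.choose b.toNat 2 = (d - 1) * (d - 2) / 2 := by
  have h1 : a.toNat = d - 1 := by omega
  have h2 : b.toNat < 2 := by omega
  have h3 : d - 1 - 1 = d - 2 := by omega
  rw [h1, Nat.choose_eq_zero_of_lt h2, Nat.sub_zero, Nat.choose_two_right, h3]

end Arith

end Groth.Agent.Helper1.HypBridge
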