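import Mathlib
import Groth.Agent.Lib.Helper1.HypPnB
import Groth.Agent.S3572
import Groth.Agent.S3573

/-!
# A hyperplane in projective space is a projective space (helper1)
-/

set_option autoImplicit false
set_option synthInstance.maxHeartbeats 400000
universe u
open CategoryTheory CategoryTheory.Limits AlgebraicGeometry TopologicalSpace Opposite

namespace Groth.Agent.Helper1.HypPn

open Groth.Agent.Helper1.QcCech Groth.Agent.Helper1 Groth.Agent.Helper1.PullSec
open Groth.Agent.Helper1.PullGen Groth.Agent.Helper1.LGen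

theorem Carries.of_comp {X Y Z : Scheme.{u}} {f : X ⟶ Y} {g : Y ⟶ Z} {M : Z.Modules}
    {Q : X.Modules} {θ : (Scheme.Modules.pullback (f ≫ g)).obj M ≅ Q} {t : Γ(M, ⊤)} {u : Γ(Q, ⊤)}
    (h : Carries (f ≫ g) M Q θ t u) :
    Carries f ((Scheme.Modules.pullback g).obj M) Q
      ((Scheme.Modules.pullbackComp f g).app M ≪≫ θ) (ProjUP.pullSec g M t) u := by
  have e : ((Scheme.Modules.pullbackComp f g).inv.app M).app ⊤ (ProjUP.pullSec (f ≫ g) M t) =
      ProjUP.pullSec f _ (ProjUP.pullSec g M t) := σ_comp f g M ⊤ t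
  show θ.hom.app ⊤ (((Scheme.Modules.pullbackComp f g).hom.app M).app ⊤
    (ProjUP.pullSec f _ (ProjUP.pullSec g M t))) = u
  rw [← e]
  have e2 := iso_hom_inv_app ((Scheme.Modules.pullbackComp f g).app M) ⊤
    (ProjUP.pullSec (f ≫ g) M t)
  have e3 : ((Scheme.Modules.pullbackComp f g).hom.app M).app ⊤
      (((Scheme.Modules.pullbackComp f g).inv.app M).app ⊤ (ProjUP.pullSec (f ≫ g) M t)) =
      ProjUP.pullSec (f ≫ g) M t := e2
  rw [e3, h.eq]

/-- uniqueness of morphisms to projective space, in terms of `Carries` -/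
theorem hom_ext_of_carries {R : Type u} [CommRing R] (n : ℕ) {X : Scheme.{u}}
    (r r' : X ⟶ CohB1.ProjSpace n R)
    (hrr' : r ≫ CohB1.ProjSpace.toSpec n R = r' ≫ CohB1.ProjSpace.toSpec n R)
    (N : X.Modules)
    (θ : (Scheme.Modules.pullback r).obj (Twist.twistProjSpace n R 1) ≅ N)
    (θ' : (Scheme.Modules.pullback r').obj (Twist.twistProjSpace n R 1) ≅ N)
    (u : Fin (n + 1) → Γ(N, ⊤))
    (h : ∀ i, Carries r _ N θ (ProjUP.coord n R i) (u i))
    (h' : ∀ i, Carries r' _ N θ' (ProjUP.coord n R i) (u i)) : r = r' := by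
  refine Groth.Agent.S3573.result n r r' hrr' (θ ≪≫ θ'.symm) fun i => ?_
  show θ'.inv.app ⊤ (θ.hom.app ⊤ (ProjUP.pullSec r _ (ProjUP.coord n R i))) = _
  rw [(h i).eq, ← (h' i).eq, iso_inv_hom_app]

variable (k : Type u) [Field k] (n : ℕ)

local notation "P" => CohB1.ProjSpace (n + 1) k
local notation "P'" => CohB1.ProjSpace n k
local notation "L" => Twist.twistProjSpace (n + 1) k 1
local notation "L'" => Twist.twistProjSpace n k 1
local notation "q" => CohB1.ProjSpace.toSpec (n + 1) k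
local notation "q'" => CohB1.ProjSpace.toSpec n k

set_option maxHeartbeats 1600000 in
theorem main (s : Coh.structureModule P ⟶ L) (hs : s ≠ 0) :
    ∃ φ : P' ≅ (PicF2.zeroScheme _ s).subscheme,
      Nonempty ((Scheme.Modules.pullback (φ.hom ≫ (PicF2.zeroScheme _ s).subschemeι)).obj L ≅
        L') := by
  classical
  have hL : PicF.IsInvertible L := PnVA.isInvertible_O1 (n + 1) k
  have hL' : PicF.IsInvertible L' := PnVA.isInvertible_O1 n k
  -- Step 1: the linear form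
  obtain ⟨a, ha⟩ := exists_coeffs (n + 1) k (secVal s ⊤)
  have ha0 : ∃ p, a p ≠ 0 := by
    by_contra hcon
    push Not at hcon
    apply hs
    apply RP11.hom_ext_of_secVal
    rw [ha]
    have hz : secVal (0 : Coh.structureModule P ⟶ L) ⊤ = 0 := by
      rw [RP11.secVal_top]
      rfl
    rw [hz]
    apply Finset.sum_eq_zero
    intro j _
    rw [hcon j, map_zero, zero_smul]
  obtain ⟨p, hp⟩ := ha0
  -- the sections on `P'`
  let ρ : k →+* Γ(P, ⊤) := ProjUP.toGlobal q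
  let ρ' : k →+* Γ(P', ⊤) := ProjUP.toGlobal q'
  let S : Fin (n + 1) → Γ(L', ⊤) := ProjUP.coord n k
  let m : Fin (n + 2) → Γ(L', ⊤) :=
    Fin.insertNth p (-∑ j, ρ' (a (p.succAbove j) / a p) • S j) S
  have hm_rel : ∑ l, ρ' (a l) • m l = 0 := alg_rel ρ' a p hp S
  have hmS : ∀ j, m (p.succAbove j) = S j := fun j => Fin.insertNth_apply_succAbove _ _ _ _
  have hmp : m p = -∑ j, ρ' (a (p.succAbove j) / a p) • S j := Fin.insertNth_apply_same _ _ _
  have hm_gen : ProjUP.GeneratedBy L' m := by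
    apply VA1.generatedBy_of_cover
    intro x
    obtain ⟨j, hj⟩ := ProjUP8.hcov n k x
    refine ⟨p.succAbove j, ?_⟩
    rw [hmS]
    have hg := ProjUP7.genLocus_T (CohB1.polyGrading n k) (ProjUP8.tX n k) (ProjUP8.htX n k)
      (ProjUP8.hcov n k) j
    exact hg.ge hj
  obtain ⟨φ₀, hφ₀, τ₀, hτ₀⟩ := Groth.Agent.S3572.result (R := k) (n + 1) q' L' hL' m hm_gen
  have hC0 : ∀ l, Carries φ₀ L L' τ₀ (ProjUP.coord (n + 1) k l) (m l) := hτ₀
  -- `φ₀` pulls `s` back to zero
  have hφ₀s : σ φ₀ L ⊤ (secVal s ⊤) = 0 := by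
    have hc : Carries φ₀ L L' τ₀ (secVal s ⊤) (∑ l, ρ' (a l) • m l) := by
      rw [ha]
      refine Carries.sum _ fun l _ => ?_
      have h1 := (hC0 l).smul (ρ (a l))
      have e : φ₀.appTop.hom (ρ (a l)) = ρ' (a l) := by
        show φ₀.appTop.hom (ProjUP.toGlobal q (a l)) = ProjUP.toGlobal q' (a l)
        rw [toGlobal_comp, hφ₀]
      rw [e] at h1
      exact h1
    rw [hm_rel] at hc
    have h2 : τ₀.inv.app ⊤ (τ₀.hom.app ⊤ (ProjUP.pullSec φ₀ L (secVal s ⊤))) =
        τ₀.inv.app ⊤ 0 := congrArg (fun x => τ₀.inv.app ⊤ x) hc.eq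
    rw [iso_inv_hom_app, map_zero] at h2
    exact h2
  haveI : QuasiCompact φ₀ := by
    haveI : QuasiCompact (φ₀ ≫ q) := by
      rw [hφ₀]
      infer_instance
    exact QuasiCompact.of_comp φ₀ q
  have hle : PicF2.zeroScheme L s ≤ φ₀.ker := zeroScheme_le_ker hL s hs φ₀ hφ₀s
  have hle' : (PicF2.zeroScheme L s).subschemeι.ker ≤ φ₀.ker := by
    rw [Scheme.IdealSheafData.ker_subschemeι]
    exact hle
  obtain ⟨φ, hφ⟩ : ∃ φ : P' ⟶ (PicF2.zeroScheme L s).subscheme,
      φ ≫ (PicF2.zeroScheme L s).subschemeι = φ₀ :=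
    ⟨IsClosedImmersion.lift _ φ₀ hle', IsClosedImmersion.lift_fac _ φ₀ hle'⟩
  subst hφ
  -- the sections on the hyperplane
  let ι := (PicF2.zeroScheme L s).subschemeι
  let ρH : k →+* Γ((PicF2.zeroScheme L s).subscheme, ⊤) := ProjUP.toGlobal (ι ≫ q)
  let v : Fin (n + 2) → Γ((Scheme.Modules.pullback ι).obj L, ⊤) :=
    fun l => ProjUP.pullSec ι L (ProjUP.coord (n + 1) k l)
  have hv_rel : ∑ l, ρH (a l) • v l = 0 := by
    have h0 := σ_subschemeι_secVal hL s hs
    rw [ha, σ_sum] at h0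
    refine Eq.trans (Finset.sum_congr rfl fun l _ => ?_) h0
    rw [σ_smul]
    have e : ι.appTop.hom (ρ (a l)) = ρH (a l) := toGlobal_comp ι q (a l)
    rw [← e]
    rfl
  have hvp := alg_solve ρH a p hp v hv_rel
  let w : Fin (n + 1) → Γ((Scheme.Modules.pullback ι).obj L, ⊤) := fun j => v (p.succAbove j)
  have hiL : PicF.IsInvertible ((Scheme.Modules.pullback ι).obj L) :=
    PullGen.isInvertible_pullback ι hL
  have hv_gen : ProjUP.GeneratedBy ((Scheme.Modules.pullback ι).obj L) v := by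
    apply VA1.generatedBy_of_cover
    intro y
    obtain ⟨l, hl⟩ := ProjUP8.hcov (n + 1) k (ι y)
    refine ⟨l, ?_⟩
    have hg := ProjUP7.genLocus_pt (CohB1.polyGrading (n + 1) k) (ProjUP8.tX (n + 1) k)
      (ProjUP8.htX (n + 1) k) (ProjUP8.hcov (n + 1) k) ι l
    exact hg.ge hl
  have hw_gen : ProjUP.GeneratedBy ((Scheme.Modules.pullback ι).obj L) w := by
    intro y
    rw [eq_top_iff, ← hv_gen y, Submodule.span_le]
    rintro _ ⟨l, rfl⟩
    rcases Fin.eq_self_or_eq_succAbove p l with h | ⟨j, h⟩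
    · rw [h]
      show (((Scheme.Modules.pullback ι).obj L).presheaf.germ ⊤ y trivial).hom (v p) ∈ _
      rw [hvp, map_neg, map_sum]
      apply Submodule.neg_mem
      apply Submodule.sum_mem
      intro j _
      rw [ProjUP4.germ_smul']
      exact Submodule.smul_mem _ _ (Submodule.subset_span ⟨j, rfl⟩)
    · rw [h]
      exact Submodule.subset_span ⟨j, rfl⟩
  obtain ⟨ψ, hψ, τ₁, hτ₁⟩ := Groth.Agent.S3572.result (R := k) n (ι ≫ q)
    ((Scheme.Modules.pullback ι).obj L) hiL w hw_gen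
  have hC1 : ∀ j, Carries ψ L' ((Scheme.Modules.pullback ι).obj L) τ₁ (S j) (w j) := hτ₁
  -- `φ ≫ ψ = 𝟙`
  have hC0' : ∀ l, Carries φ ((Scheme.Modules.pullback ι).obj L) L'
      ((Scheme.Modules.pullbackComp φ ι).app L ≪≫ τ₀) (v l) (m l) := fun l => (hC0 l).of_comp
  have h1 : φ ≫ ψ = 𝟙 P' := by
    refine hom_ext_of_carries n (φ ≫ ψ) (𝟙 P') ?_ L' _ _ S
      (fun j => (hC1 j).comp (by rw [← hmS j]; exact hC0' (p.succAbove j)))
      (fun j => Carries.id L' (S j))
    rw [Category.assoc, hψ, Category.id_comp, ← Category.assoc]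
    exact hφ₀
  -- `ψ ≫ φ ≫ ι = ι`
  have hC1' : ∀ l, Carries ψ L' ((Scheme.Modules.pullback ι).obj L) τ₁ (m l) (v l) := by
    intro l
    rcases Fin.eq_self_or_eq_succAbove p l with h | ⟨j, h⟩
    · rw [h, hmp, hvp]
      refine Carries.neg (Carries.sum _ fun j _ => ?_)
      have h1 := (hC1 j).smul (ρ' (a (p.succAbove j) / a p))
      have e : ψ.appTop.hom (ρ' (a (p.succAbove j) / a p)) = ρH (a (p.succAbove j) / a p) := by
        show ψ.appTop.hom (ProjUP.toGlobal q' _) = ProjUP.toGlobal (ι ≫ q) _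
        rw [toGlobal_comp, hψ]
      rw [e] at h1
      exact h1
    · rw [h, hmS]
      exact hC1 j
  have h2 : ψ ≫ (φ ≫ ι) = ι := by
    refine hom_ext_of_carries (n + 1) (ψ ≫ (φ ≫ ι)) ι ?_ ((Scheme.Modules.pullback ι).obj L) _ _ v
      (fun l => (hC0 l).comp (hC1' l)) (fun l => Carries.refl ι L _)
    rw [Category.assoc, hφ₀, hψ]
  have h3 : ψ ≫ φ = 𝟙 _ := by
    apply (cancel_mono ι).1
    rw [Category.assoc, h2, Category.id_comp]
  exact ⟨⟨φ, ψ, h1, h3⟩, ⟨τ₀⟩⟩

end Groth.Agent.Helper1.HypPn
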