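import Mathlib
import Groth.Agent.Lib.Helper1.ProdSurf3
import Groth.Agent.Lib.Helper1.CurveQP1
import Groth.Agent.S9816
import Groth.Agent.S4643
import Groth.Agent.S2500

/-!
# The Castelnuovo–Severi inequality on a product of two smooth proper curves (helper1)
-/

set_option autoImplicit false
set_option linter.style.haveILetI false
set_option linter.unusedSectionVars false
universe u
open CategoryTheory CategoryTheory.Limits AlgebraicGeometry TopologicalSpace Opposite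

namespace Groth.Agent.Helper1.ProdSurf

open Groth.Agent.Helper1 Groth.Agent.Helper1.SurfHodge

section Prod

variable (k : Type u) [Field k] [IsAlgClosed k] (C₁ C₂ : Scheme.{u})
  [C₁.Over (Spec (CommRingCat.of k))] [C₂.Over (Spec (CommRingCat.of k))]

local notation "S₀" =>
  pullback (C₁ ↘ Spec (CommRingCat.of k)) (C₂ ↘ Spec (CommRingCat.of k))

set_option maxHeartbeats 1600000 in
/-- **Castelnuovo–Severi and the equivalence defect inequality on `C₁ × C₂`** -/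
theorem prod_main
    (h₁ : Curve.IsSmoothProperCurve k C₁ (C₁ ↘ Spec (CommRingCat.of k)))
    (h₂ : Curve.IsSmoothProperCurve k C₂ (C₂ ↘ Spec (CommRingCat.of k)))
    (x : Spec (CommRingCat.of k) ⟶ C₁) (hx : x ≫ (C₁ ↘ Spec (CommRingCat.of k)) = 𝟙 _)
    (y : Spec (CommRingCat.of k) ⟶ C₂) (hy : y ≫ (C₂ ↘ Spec (CommRingCat.of k)) = 𝟙 _)
    (i₁ : C₁ ⟶ S₀)
    (hi₁ : i₁ ≫ pullback.fst _ _ = 𝟙 C₁ ∧
      i₁ ≫ pullback.snd _ _ = (C₁ ↘ Spec (CommRingCat.of k)) ≫ y)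
    (i₂ : C₂ ⟶ S₀)
    (hi₂ : i₂ ≫ pullback.snd _ _ = 𝟙 C₂ ∧
      i₂ ≫ pullback.fst _ _ = (C₂ ↘ Spec (CommRingCat.of k)) ≫ x)
    (L M L' M' : (S₀).Modules)
    (hL : PicF.IsInvertible L) (hM : Nonempty (CohB1.tensorMod L M ≅ Coh.structureModule _))
    (hL' : PicF.IsInvertible L')
    (hM' : Nonempty (CohB1.tensorMod L' M' ≅ Coh.structureModule _)) :
    letI : (S₀).Over (Spec (CommRingCat.of k)) :=
      ⟨pullback.fst _ _ ≫ (C₁ ↘ Spec (CommRingCat.of k))⟩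
    (FGA.intNum k (S₀) 2 ![M, M] (Coh.structureModule _) ≤
      2 * Curv2.deg k C₁ ((Scheme.Modules.pullback i₁).obj L) 1 *
        Curv2.deg k C₂ ((Scheme.Modules.pullback i₂).obj L) 1) ∧
    ((FGA.intNum k (S₀) 2 ![M, M'] (Coh.structureModule _)
        - Curv2.deg k C₁ ((Scheme.Modules.pullback i₁).obj L) 1
            * Curv2.deg k C₂ ((Scheme.Modules.pullback i₂).obj L') 1
        - Curv2.deg k C₂ ((Scheme.Modules.pullback i₂).obj L) 1
            * Curv2.deg k C₁ ((Scheme.Modules.pullback i₁).obj L') 1) ^ 2 ≤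
      (2 * Curv2.deg k C₁ ((Scheme.Modules.pullback i₁).obj L) 1
            * Curv2.deg k C₂ ((Scheme.Modules.pullback i₂).obj L) 1
          - FGA.intNum k (S₀) 2 ![M, M] (Coh.structureModule _))
        * (2 * Curv2.deg k C₁ ((Scheme.Modules.pullback i₁).obj L') 1
            * Curv2.deg k C₂ ((Scheme.Modules.pullback i₂).obj L') 1
          - FGA.intNum k (S₀) 2 ![M', M'] (Coh.structureModule _))) := by
  obtain ⟨hp₁, hs₁, hint₁, hd₁⟩ := h₁
  obtain ⟨hp₂, hs₂, hint₂, hd₂⟩ := h₂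
  haveI := hp₁
  haveI := hs₁
  haveI := hint₁
  haveI := hp₂
  haveI := hs₂
  haveI := hint₂
  letI inst : (S₀).Over (Spec (CommRingCat.of k)) :=
    ⟨pullback.fst _ _ ≫ (C₁ ↘ Spec (CommRingCat.of k))⟩
  have hS : ((S₀) ↘ Spec (CommRingCat.of k)) =
      pullback.fst _ _ ≫ (C₁ ↘ Spec (CommRingCat.of k)) := rfl
  haveI : IsProper ((S₀) ↘ Spec (CommRingCat.of k)) := by rw [hS]; infer_instance
  haveI : Smooth ((S₀) ↘ Spec (CommRingCat.of k)) := by rw [hS]; infer_instance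
  haveI : AlgebraicGeometry.IsNoetherian (S₀) := Euler.isNoetherian_of_proper k (S₀)
  haveI : GeometricallyIrreducible (C₁ ↘ Spec (CommRingCat.of k)) := Groth.Agent.S2500.result _
  haveI : IrreducibleSpace ↥(S₀) := inferInstance
  haveI : IsIntegral (S₀) := Conn1.isIntegral_of_connected (S₀)
    (fun z => VB5.isDomain_stalk_of_smooth k ((S₀) ↘ Spec (CommRingCat.of k)) z)
  have hdim : topologicalKrullDim ↥(S₀) = 2 := by
    rw [Groth.Agent.S4643.result (C₁ ↘ Spec (CommRingCat.of k)) (C₂ ↘ Spec (CommRingCat.of k)),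
      hd₁, hd₂]
    exact one_add_one_eq_two
  -- an ample module
  haveI : AlgebraicGeometry.IsNoetherian C₁ := Euler.isNoetherian_of_proper k C₁
  haveI : AlgebraicGeometry.IsNoetherian C₂ := Euler.isNoetherian_of_proper k C₂
  haveI : C₁.IsSeparated := CurveQP.isSeparated_of_over k C₁
  haveI : C₂.IsSeparated := CurveQP.isSeparated_of_over k C₂
  obtain ⟨A₁, hA₁⟩ := CurveQP.exists_isAmple C₁ hd₁.le
  obtain ⟨A₂, hA₂⟩ := CurveQP.exists_isAmple C₂ hd₂.le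
  have hH := Groth.Agent.S9816.result (C₁ ↘ Spec (CommRingCat.of k))
    (C₂ ↘ Spec (CommRingCat.of k)) A₁ A₂ hA₁ hA₂
  -- closed immersions
  haveI : IsClosedImmersion (i₁ ≫ pullback.fst (C₁ ↘ Spec (CommRingCat.of k))
      (C₂ ↘ Spec (CommRingCat.of k))) := by rw [hi₁.1]; infer_instance
  haveI : IsClosedImmersion i₁ := IsClosedImmersion.of_comp i₁
    (pullback.fst (C₁ ↘ Spec (CommRingCat.of k)) (C₂ ↘ Spec (CommRingCat.of k)))
  haveI : IsClosedImmersion (i₂ ≫ pullback.snd (C₁ ↘ Spec (CommRingCat.of k))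
      (C₂ ↘ Spec (CommRingCat.of k))) := by rw [hi₂.1]; infer_instance
  haveI : IsClosedImmersion i₂ := IsClosedImmersion.of_comp i₂
    (pullback.snd (C₁ ↘ Spec (CommRingCat.of k)) (C₂ ↘ Spec (CommRingCat.of k)))
  haveI : IsClosedImmersion y := PtDeg.isClosedImmersion_of_section k y hy
  haveI : IsClosedImmersion x := PtDeg.isClosedImmersion_of_section k x hx
  have hi₁X : i₁ ≫ ((S₀) ↘ Spec (CommRingCat.of k)) = C₁ ↘ Spec (CommRingCat.of k) := by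
    rw [hS, ← Category.assoc, hi₁.1, Category.id_comp]
  have hi₂X : i₂ ≫ ((S₀) ↘ Spec (CommRingCat.of k)) = C₂ ↘ Spec (CommRingCat.of k) := by
    rw [hS, pullback.condition, ← Category.assoc, hi₂.1, Category.id_comp]
  -- the kernels
  have hright : IsPullback (pullback.fst (C₁ ↘ Spec (CommRingCat.of k))
      (C₂ ↘ Spec (CommRingCat.of k))) (pullback.snd _ _) (C₁ ↘ Spec (CommRingCat.of k))
      (C₂ ↘ Spec (CommRingCat.of k)) := IsPullback.of_hasPullback _ _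
  have hleft₁ : IsPullback i₁ (C₁ ↘ Spec (CommRingCat.of k))
      (pullback.snd (C₁ ↘ Spec (CommRingCat.of k)) (C₂ ↘ Spec (CommRingCat.of k))) y := by
    refine IsPullback.of_right ?_ hi₁.2 hright
    rw [hi₁.1, hy]
    exact IsPullback.of_horiz_isIso ⟨by rw [Category.id_comp, Category.comp_id]⟩
  have hleft₂ : IsPullback i₂ (C₂ ↘ Spec (CommRingCat.of k))
      (pullback.fst (C₁ ↘ Spec (CommRingCat.of k)) (C₂ ↘ Spec (CommRingCat.of k))) x := by
    refine IsPullback.of_right ?_ hi₂.2 hright.flip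
    rw [hi₂.1, hx]
    exact IsPullback.of_horiz_isIso ⟨by rw [Category.id_comp, Category.comp_id]⟩
  have hk₁ : i₁.ker = y.ker.comap (pullback.snd (C₁ ↘ Spec (CommRingCat.of k))
      (C₂ ↘ Spec (CommRingCat.of k))) := by
    rw [← Scheme.IdealSheafData.ker_fst_of_isClosedImmersion y
      (pullback.snd (C₁ ↘ Spec (CommRingCat.of k)) (C₂ ↘ Spec (CommRingCat.of k)))]
    conv_lhs => rw [← hleft₁.isoPullback_hom_fst]
    exact Scheme.Hom.ker_comp_of_isIso _ _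
  have hk₂ : i₂.ker = x.ker.comap (pullback.fst (C₁ ↘ Spec (CommRingCat.of k))
      (C₂ ↘ Spec (CommRingCat.of k))) := by
    rw [← Scheme.IdealSheafData.ker_fst_of_isClosedImmersion x
      (pullback.fst (C₁ ↘ Spec (CommRingCat.of k)) (C₂ ↘ Spec (CommRingCat.of k)))]
    conv_lhs => rw [← hleft₂.isoPullback_hom_fst]
    exact Scheme.Hom.ker_comp_of_isIso _ _
  obtain ⟨P, Q, hP, hQ, hPP, hQQ, hPQ, hZ⟩ := classes_of_fibrations k (S₀) C₁ C₂ hdim hd₁ hd₂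
    x hx y hy (pullback.fst _ _) (pullback.snd _ _) i₁ i₂ hi₁X hi₂X hi₁.1 hi₁.2 hi₂.1 hi₂.2
    hk₁ hk₂
  have key := main k (S₀) hdim _ hH P Q hP hQ hPP hQQ hPQ L L' hL hL'
  obtain ⟨iL⟩ := hM
  obtain ⟨iL'⟩ := hM'
  rw [(hZ L hL).1, (hZ L hL).2, (hZ L' hL').1, (hZ L' hL').2] at key
  change (FGA.intNum k (S₀) 2 ![M, M] (Coh.structureModule _) ≤ _) ∧ _
  rw [intNum_inv_inv k (S₀) hdim L M L M hL hL iL iL,
    intNum_inv_inv k (S₀) hdim L M L' M' hL hL' iL iL',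
    intNum_inv_inv k (S₀) hdim L' M' L' M' hL' hL' iL' iL']
  obtain ⟨d₁, hd₁e⟩ : ∃ d : ℤ, d = Curv2.deg k C₁ ((Scheme.Modules.pullback i₁).obj L) 1 :=
    ⟨_, rfl⟩
  obtain ⟨d₂, hd₂e⟩ : ∃ d : ℤ, d = Curv2.deg k C₂ ((Scheme.Modules.pullback i₂).obj L) 1 :=
    ⟨_, rfl⟩
  obtain ⟨d₁', hd₁e'⟩ : ∃ d : ℤ, d = Curv2.deg k C₁ ((Scheme.Modules.pullback i₁).obj L') 1 :=
    ⟨_, rfl⟩
  obtain ⟨d₂', hd₂e'⟩ : ∃ d : ℤ, d = Curv2.deg k C₂ ((Scheme.Modules.pullback i₂).obj L') 1 :=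
    ⟨_, rfl⟩
  obtain ⟨l, hl⟩ : ∃ l : ℤ, l = FGA.intNum k (S₀) 2 ![L, L] (Coh.structureModule _) := ⟨_, rfl⟩
  obtain ⟨l', hl'⟩ : ∃ l : ℤ, l = FGA.intNum k (S₀) 2 ![L', L'] (Coh.structureModule _) :=
    ⟨_, rfl⟩
  obtain ⟨m, hm⟩ : ∃ m : ℤ, m = FGA.intNum k (S₀) 2 ![L, L'] (Coh.structureModule _) := ⟨_, rfl⟩
  rw [← hd₁e, ← hd₂e, ← hd₁e', ← hd₂e', ← hl, ← hl', ← hm] at key
  rw [← hd₁e, ← hd₂e, ← hd₁e', ← hd₂e', ← hl, ← hl', ← hm]
  obtain ⟨k1, k2⟩ := key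
  constructor
  · linarith
  · linarith [k2]

end Prod

end Groth.Agent.Helper1.ProdSurf
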