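import Mathlib
import Groth.Agent.Lib.Helper1.ProdSurf4
import Groth.Agent.Lib.Helper1.CurveCart1
import Groth.Agent.Lib.Helper1.PullSec
import Groth.Agent.Lib.Helper1.PullGen2
import Groth.Agent.Lib.Helper1.TildeTens
import Groth.Agent.Lib.Helper1.TwistTens
import Groth.Agent.Lib.Lead.PullTensorAll

/-!
# Intersection numbers with a vertical fibre on `C × C` (helper1)
-/

set_option autoImplicit false
set_option linter.style.haveILetI false
set_option linter.unusedSectionVars false
universe u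
open CategoryTheory CategoryTheory.Limits AlgebraicGeometry TopologicalSpace Opposite

namespace Groth.Agent.Helper1.HypSq

open Groth.Agent.Helper1 Groth.Agent.Helper1.SurfHodge

section Inv

variable {X B : Scheme.{u}}

/-- the pullback of an inverse of an invertible ideal along a flat morphism is an inverse of the
inverse image ideal -/
theorem isInverseOf_pullback_comap [IsIntegral X] (p : X ⟶ B) [Flat p] (J : B.IdealSheafData)
    (hJ : PicF.IsInvertible (ClSub.idealMod J)) (A : B.Modules)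
    (hAinv : ClSub.IsInverseOf A (ClSub.idealMod J)) :
    ClSub.IsInverseOf ((Scheme.Modules.pullback p).obj A) (ClSub.idealMod (J.comap p)) := by
  obtain ⟨e⟩ := hAinv
  obtain ⟨t⟩ := Groth.Agent.Lead.PullTensorAll.nonempty_tensor_pullback_iso p A (ClSub.idealMod J)
  obtain ⟨eQ⟩ := ProdSurf.nonempty_pullback_iso p J hJ (ProdSurf.isInvertible_comap p J hJ)
  exact ⟨TwistTens.tensorModCongrRight _ eQ.symm ≪≫ t ≪≫
    (Scheme.Modules.pullback p).mapIso e ≪≫ PullSec.unitIso p⟩

end Inv

section Prod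

variable (k : Type u) [Field k] [IsAlgClosed k] (C : Scheme.{u})
  [C.Over (Spec (CommRingCat.of k))]
  [IsProper (C ↘ Spec (CommRingCat.of k))] [Smooth (C ↘ Spec (CommRingCat.of k))] [IsIntegral C]

local notation "S₀" =>
  pullback (C ↘ Spec (CommRingCat.of k)) (C ↘ Spec (CommRingCat.of k))
local notation "p₁" =>
  pullback.fst (C ↘ Spec (CommRingCat.of k)) (C ↘ Spec (CommRingCat.of k))
local notation "p₂" =>
  pullback.snd (C ↘ Spec (CommRingCat.of k)) (C ↘ Spec (CommRingCat.of k))

set_option maxHeartbeats 1600000 in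
/-- **the intersection numbers of the vertical fibre class on `C × C`** -/
theorem vertical_table (hd : topologicalKrullDim C = 1)
    (x : Spec (CommRingCat.of k) ⟶ C) (hx : x ≫ (C ↘ Spec (CommRingCat.of k)) = 𝟙 _)
    (A : C.Modules) (hA : PicF.IsInvertible A)
    (hAinv : ClSub.IsInverseOf A (ClSub.idealMod x.ker)) :
    letI : (S₀).Over (Spec (CommRingCat.of k)) := ⟨p₁ ≫ (C ↘ Spec (CommRingCat.of k))⟩
    (∀ (c : C ⟶ S₀) (M : (S₀).Modules), c ≫ p₁ = 𝟙 C → PicF.IsInvertible M →
      ClSub.IsInverseOf M (ClSub.idealMod c.ker) →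
      FGA.intNum k (S₀) 2 ![(Scheme.Modules.pullback p₁).obj A, M] (Coh.structureModule _) = 1) ∧
    FGA.intNum k (S₀) 2 ![(Scheme.Modules.pullback p₁).obj A, (Scheme.Modules.pullback p₁).obj A]
      (Coh.structureModule _) = 0 ∧
    FGA.intNum k (S₀) 2 ![(Scheme.Modules.pullback p₁).obj A, (Scheme.Modules.pullback p₂).obj A]
      (Coh.structureModule _) = 1 := by
  letI inst : (S₀).Over (Spec (CommRingCat.of k)) := ⟨p₁ ≫ (C ↘ Spec (CommRingCat.of k))⟩
  have hS : ((S₀) ↘ Spec (CommRingCat.of k)) = p₁ ≫ (C ↘ Spec (CommRingCat.of k)) := rfl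
  haveI : IsProper ((S₀) ↘ Spec (CommRingCat.of k)) := by rw [hS]; infer_instance
  haveI : Smooth ((S₀) ↘ Spec (CommRingCat.of k)) := by rw [hS]; infer_instance
  haveI : AlgebraicGeometry.IsNoetherian (S₀) := Euler.isNoetherian_of_proper k (S₀)
  haveI : GeometricallyIrreducible (C ↘ Spec (CommRingCat.of k)) := Groth.Agent.S2500.result _
  haveI : IrreducibleSpace ↥(S₀) := inferInstance
  haveI : IsIntegral (S₀) := Conn1.isIntegral_of_connected (S₀)
    (fun z => VB5.isDomain_stalk_of_smooth k ((S₀) ↘ Spec (CommRingCat.of k)) z)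
  have hdim : topologicalKrullDim ↥(S₀) = 2 := by
    rw [Groth.Agent.S4643.result (C ↘ Spec (CommRingCat.of k)) (C ↘ Spec (CommRingCat.of k)), hd]
    exact one_add_one_eq_two
  have hd' : topologicalKrullDim C ≤ ((1 : ℕ) : WithBot ℕ∞) := by
    rw [hd]; exact le_of_eq Nat.cast_one.symm
  have hJ := ProdSurf.isInvertible_ker_section k C hd x hx
  have hQ := ProdSurf.isInvertible_comap p₁ x.ker hJ
  have hV : PicF.IsInvertible ((Scheme.Modules.pullback p₁).obj A) :=
    PullGen.isInvertible_pullback p₁ hA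
  have hH : PicF.IsInvertible ((Scheme.Modules.pullback p₂).obj A) :=
    PullGen.isInvertible_pullback p₂ hA
  have hVinv := isInverseOf_pullback_comap p₁ x.ker hJ A hAinv
  have hHinv := isInverseOf_pullback_comap p₂ x.ker hJ A hAinv
  obtain ⟨iV⟩ := hVinv
  -- the common part
  have common : ∀ (c : C ⟶ S₀) (M : (S₀).Modules), IsClosedImmersion c →
      c ≫ ((S₀) ↘ Spec (CommRingCat.of k)) = (C ↘ Spec (CommRingCat.of k)) →
      PicF.IsInvertible M → ClSub.IsInverseOf M (ClSub.idealMod c.ker) →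
      FGA.intNum k (S₀) 2 ![(Scheme.Modules.pullback p₁).obj A, M] (Coh.structureModule _) =
        - Curv2.deg k C
          ((Scheme.Modules.pullback c).obj (ClSub.idealMod (x.ker.comap p₁))) 1 := by
    intro c M hc hcX hM hMinv
    obtain ⟨eM⟩ := hMinv
    have hI : PicF.IsInvertible (ClSub.idealMod c.ker) :=
      CurveCart.isInvertible_left_of_tensor_iso hM (TildeTens.tensorModComm _ _ ≪≫ eM)
    rw [← intNum_inv_inv k (S₀) hdim _ _ _ _ hV hM iV eM]
    have h := ProdSurf.intNum_idealMod_ker k (S₀) hdim c hd' hI _ hQ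
    rw [hcX, ProdSurf.curveDeg_eq_deg' k C hd] at h
    exact h
  have partA : ∀ (c : C ⟶ S₀) (M : (S₀).Modules), c ≫ p₁ = 𝟙 C → PicF.IsInvertible M →
      ClSub.IsInverseOf M (ClSub.idealMod c.ker) →
      FGA.intNum k (S₀) 2 ![(Scheme.Modules.pullback p₁).obj A, M] (Coh.structureModule _) = 1 := by
    intro c M h1 hM hMinv
    haveI : IsClosedImmersion (c ≫ p₁) := by rw [h1]; infer_instance
    haveI : IsClosedImmersion c := IsClosedImmersion.of_comp c p₁
    have hcX : c ≫ ((S₀) ↘ Spec (CommRingCat.of k)) = (C ↘ Spec (CommRingCat.of k)) := by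
      rw [hS, ← Category.assoc, h1, Category.id_comp]
    rw [common c M inferInstance hcX hM hMinv,
      ProdSurf.deg_pullback_of_section k (S₀) C hd x hx p₁ c h1]
    norm_num
  haveI : IsClosedImmersion x := PtDeg.isClosedImmersion_of_section k x hx
  have hright : IsPullback p₁ p₂ (C ↘ Spec (CommRingCat.of k))
      (C ↘ Spec (CommRingCat.of k)) := IsPullback.of_hasPullback _ _
  refine ⟨partA, ?_, ?_⟩
  · -- the vertical fibre itself
    have hw : ((C ↘ Spec (CommRingCat.of k)) ≫ x) ≫ (C ↘ Spec (CommRingCat.of k)) =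
        𝟙 C ≫ (C ↘ Spec (CommRingCat.of k)) := by
      rw [Category.assoc, hx, Category.comp_id, Category.id_comp]
    obtain ⟨i₂, hi₂⟩ : ∃ i : C ⟶ S₀, i = pullback.lift ((C ↘ Spec (CommRingCat.of k)) ≫ x) (𝟙 C) hw :=
      ⟨_, rfl⟩
    have h21 : i₂ ≫ p₁ = (C ↘ Spec (CommRingCat.of k)) ≫ x := by
      rw [hi₂]; exact pullback.lift_fst _ _ _
    have h22 : i₂ ≫ p₂ = 𝟙 C := by
      rw [hi₂]; exact pullback.lift_snd _ _ _
    haveI : IsClosedImmersion (i₂ ≫ p₂) := by rw [h22]; infer_instance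
    haveI : IsClosedImmersion i₂ := IsClosedImmersion.of_comp i₂ p₂
    have hleft₂ : IsPullback i₂ (C ↘ Spec (CommRingCat.of k)) p₁ x := by
      refine IsPullback.of_right ?_ h21 hright.flip
      rw [h22, hx]
      exact IsPullback.of_horiz_isIso ⟨by rw [Category.id_comp, Category.comp_id]⟩
    have hk₂ : i₂.ker = x.ker.comap p₁ := by
      rw [← Scheme.IdealSheafData.ker_fst_of_isClosedImmersion x p₁]
      conv_lhs => rw [← hleft₂.isoPullback_hom_fst]
      exact Scheme.Hom.ker_comp_of_isIso _ _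
    have hcX : i₂ ≫ ((S₀) ↘ Spec (CommRingCat.of k)) = (C ↘ Spec (CommRingCat.of k)) := by
      rw [hS, ← Category.assoc, h21, Category.assoc, hx, Category.comp_id]
    have hinv : ClSub.IsInverseOf ((Scheme.Modules.pullback p₁).obj A) (ClSub.idealMod i₂.ker) := by
      rw [hk₂]; exact ⟨iV⟩
    rw [common i₂ _ inferInstance hcX hV hinv,
      ProdSurf.deg_pullback_of_const k (S₀) C C hd hd x hx p₁ i₂ h21]
    norm_num
  · -- the horizontal fibre
    have hw : 𝟙 C ≫ (C ↘ Spec (CommRingCat.of k)) =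
        ((C ↘ Spec (CommRingCat.of k)) ≫ x) ≫ (C ↘ Spec (CommRingCat.of k)) := by
      rw [Category.assoc, hx, Category.comp_id, Category.id_comp]
    obtain ⟨i₁, hi₁⟩ : ∃ i : C ⟶ S₀, i = pullback.lift (𝟙 C) ((C ↘ Spec (CommRingCat.of k)) ≫ x) hw :=
      ⟨_, rfl⟩
    have h11 : i₁ ≫ p₁ = 𝟙 C := by
      rw [hi₁]; exact pullback.lift_fst _ _ _
    have h12 : i₁ ≫ p₂ = (C ↘ Spec (CommRingCat.of k)) ≫ x := by
      rw [hi₁]; exact pullback.lift_snd _ _ _
    haveI : IsClosedImmersion (i₁ ≫ p₁) := by rw [h11]; infer_instance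
    haveI : IsClosedImmersion i₁ := IsClosedImmersion.of_comp i₁ p₁
    have hleft₁ : IsPullback i₁ (C ↘ Spec (CommRingCat.of k)) p₂ x := by
      refine IsPullback.of_right ?_ h12 hright
      rw [h11, hx]
      exact IsPullback.of_horiz_isIso ⟨by rw [Category.id_comp, Category.comp_id]⟩
    have hk₁ : i₁.ker = x.ker.comap p₂ := by
      rw [← Scheme.IdealSheafData.ker_fst_of_isClosedImmersion x p₂]
      conv_lhs => rw [← hleft₁.isoPullback_hom_fst]
      exact Scheme.Hom.ker_comp_of_isIso _ _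
    have hinv : ClSub.IsInverseOf ((Scheme.Modules.pullback p₂).obj A) (ClSub.idealMod i₁.ker) := by
      rw [hk₁]; exact hHinv
    exact partA i₁ _ h11 hH hinv

end Prod

end Groth.Agent.Helper1.HypSq
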