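import Mathlib
import Groth.Prelude.Def_MoreMor

set_option autoImplicit false
universe u
open CategoryTheory CategoryTheory.Limits AlgebraicGeometry TopologicalSpace Opposite

namespace Groth.Agent.Helper1.IQA

/-- quasi-affineness is invariant under isomorphisms -/
theorem isQuasiAffine_of_iso {X Y : Scheme.{u}} (e : X ≅ Y) [Y.IsQuasiAffine] : X.IsQuasiAffine :=
  Scheme.IsQuasiAffine.of_isAffineHom e.hom

/-- **a quasi-compact scheme covered by quasi-affine basic opens of global functions is quasi-affine** -/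
theorem isQuasiAffine_of_basicOpen_cover (W : Scheme.{u}) [CompactSpace W]
    (H : ∀ x : W, ∃ a : Γ(W, ⊤), x ∈ W.basicOpen a ∧ Scheme.IsQuasiAffine (W.basicOpen a : Scheme.{u})) :
    W.IsQuasiAffine := by
  choose a hxa hqa using H
  have hqs : QuasiSeparatedSpace W := by
    refine .of_isOpenCover (U := (W.basicOpen <| a ·))
      (eq_top_iff.mpr fun x _ ↦ Opens.mem_iSup.mpr ⟨x, hxa x⟩)
      (fun _ ↦ isRetrocompact_basicOpen _) (fun x ↦ ?_)
    haveI := hqa x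
    haveI h1 : QuasiSeparatedSpace ((W.basicOpen (a x) : Scheme.{u})) := inferInstance
    exact (isQuasiSeparated_iff_quasiSeparatedSpace _ (W.basicOpen (a x)).2).2 h1
  refine Scheme.IsQuasiAffine.of_forall_exists_mem_basicOpen W fun x ↦ ?_
  haveI := hqa x
  set O : W.Opens := W.basicOpen (a x) with hO
  -- an affine basic open of the quasi-affine scheme `O` around `x`
  obtain ⟨_, ⟨_, ⟨r₀, hr₀, rfl⟩, rfl⟩, hxr₀, -⟩ :=
    (Scheme.IsQuasiAffine.isBasis_basicOpen (O : Scheme.{u})).exists_subset_of_mem_open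
      (Set.mem_univ (⟨x, hxa x⟩ : O)) isOpen_univ
  have himg : O.ι ''ᵁ ⊤ = O := Scheme.Opens.ι_image_top O
  let s'' : Γ(W, O.ι ''ᵁ ⊤) := (O.ι.appIso ⊤).inv r₀
  have hs'' : O.ι ''ᵁ (O : Scheme.{u}).basicOpen r₀ = W.basicOpen s'' :=
    Scheme.image_basicOpen O.ι r₀
  have haff : IsAffineOpen (W.basicOpen s'') := by
    rw [← hs'']
    exact hr₀.image_of_isOpenImmersion O.ι
  have hxs : x ∈ W.basicOpen s'' := by
    rw [← hs'']
    exact ⟨⟨x, hxa x⟩, hxr₀, rfl⟩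
  let s' : Γ(W, W.basicOpen (a x)) := W.presheaf.map (eqToHom himg.symm).op s''
  have hs' : W.basicOpen s' = W.basicOpen s'' := Scheme.basicOpen_res_eq _ _ _
  obtain ⟨n, y, hy⟩ := exists_eq_pow_mul_of_isCompact_of_isQuasiSeparated W ⊤ isCompact_univ
    isQuasiSeparated_univ (a x) s'
  refine ⟨a x * y, ?_⟩
  have hunit : IsUnit ((a x) |_ W.basicOpen (a x)) :=
    RingedSpace.isUnit_res_basicOpen W.toRingedSpace (a x)
  have hkey : W.basicOpen (a x * y) = W.basicOpen s'' := by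
    rw [Scheme.basicOpen_mul, ← hs']
    have h1 : W.basicOpen (y |_ W.basicOpen (a x)) = W.basicOpen (a x) ⊓ W.basicOpen y :=
      Scheme.basicOpen_res _ _ _
    rw [← h1, hy, Scheme.basicOpen_mul, Scheme.basicOpen_of_isUnit _ (hunit.pow n)]
    exact inf_eq_right.2 (W.basicOpen_le s')
  rw [hkey]
  exact ⟨haff, hxs⟩

/-- a quasi-compact scheme with a morphism to a scheme such that every point has a basic open
neighbourhood (of a global function on the target) with quasi-affine preimage is quasi-affine -/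
theorem isQuasiAffine_of_preimage_basicOpen {W Q : Scheme.{u}} (φ : W ⟶ Q) [CompactSpace W]
    (H : ∀ x : W, ∃ r : Γ(Q, ⊤), φ x ∈ Q.basicOpen r ∧
      Scheme.IsQuasiAffine (φ ⁻¹ᵁ Q.basicOpen r : Scheme.{u})) : W.IsQuasiAffine := by
  apply isQuasiAffine_of_basicOpen_cover
  intro x
  obtain ⟨r, hxr, hq⟩ := H x
  have e : φ ⁻¹ᵁ Q.basicOpen r = W.basicOpen (φ.appTop r) := Scheme.preimage_basicOpen_top φ r
  refine ⟨φ.appTop r, ?_, ?_⟩
  · rw [← e]; exact hxr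
  · rw [← e]; exact hq

/-- ind-quasi-affineness of an open subscheme in terms of opens of the ambient scheme -/
theorem isIndQuasiAffine_opens_iff {X : Scheme.{u}} (O : X.Opens) :
    MoreMor.IsIndQuasiAffine (O : Scheme.{u}) ↔
      ∀ W : X.Opens, W ≤ O → IsCompact (W : Set X) → Scheme.IsQuasiAffine (W : Scheme.{u}) := by
  constructor
  · intro h W hWO hW
    have hc : IsCompact ((O.ι ⁻¹ᵁ W : (O : Scheme.{u}).Opens) : Set (O : Scheme.{u})) := by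
      refine (O.ι.isOpenEmbedding.isInducing.isCompact_preimage_iff ?_).2 hW
      rw [Scheme.Opens.range_ι]
      exact hWO
    haveI := h (O.ι ⁻¹ᵁ W) hc
    have himg : O.ι ''ᵁ (O.ι ⁻¹ᵁ W) = W := by
      rw [Scheme.Hom.image_preimage_eq_opensRange_inf, Scheme.Opens.opensRange_ι]
      exact inf_eq_right.2 hWO
    exact isQuasiAffine_of_iso (X.isoOfEq himg.symm ≪≫ (O.ι.isoImage (O.ι ⁻¹ᵁ W)).symm)
  · intro h U hU
    haveI := h (O.ι ''ᵁ U) (O.ι_image_le U) (hU.image O.ι.continuous)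
    exact isQuasiAffine_of_iso (O.ι.isoImage U)

/-- ind-quasi-affine morphisms in terms of opens of the source -/
theorem isIndQuasiAffineHom_iff {X Y : Scheme.{u}} (f : X ⟶ Y) :
    MoreMor.IsIndQuasiAffineHom f ↔ ∀ V : Y.Opens, IsAffineOpen V → ∀ W : X.Opens, W ≤ f ⁻¹ᵁ V →
      IsCompact (W : Set X) → Scheme.IsQuasiAffine (W : Scheme.{u}) :=
  forall₂_congr fun V _ => isIndQuasiAffine_opens_iff (f ⁻¹ᵁ V)

/-- a compact subset of an open subset of a scheme lies in a quasi-compact open inside it -/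
theorem exists_compact_open_between {Y : Scheme.{u}} {K : Set Y} (hK : IsCompact K) (O : Y.Opens)
    (hKO : K ⊆ (O : Set Y)) :
    ∃ U : Y.Opens, U ≤ O ∧ IsCompact (U : Set Y) ∧ K ⊆ (U : Set Y) := by
  have hA : ∀ y : K, ∃ A : Y.Opens, IsAffineOpen A ∧ (y : Y) ∈ A ∧ A ≤ O := by
    intro y
    obtain ⟨_, ⟨A, hA, rfl⟩, hyA, hAO⟩ :=
      Y.isBasis_affineOpens.exists_subset_of_mem_open (hKO y.2) O.isOpen
    exact ⟨A, hA, hyA, hAO⟩
  choose A hA hyA hAO using hA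
  obtain ⟨t, ht⟩ := hK.elim_finite_subcover (fun y : K => ((A y : Y.Opens) : Set Y))
    (fun y => (A y).isOpen) (fun y hy => Set.mem_iUnion.2 ⟨⟨y, hy⟩, hyA ⟨y, hy⟩⟩)
  refine ⟨⨆ y ∈ t, A y, iSup₂_le fun y _ => hAO y, ?_, ?_⟩
  · have : ((⨆ y ∈ t, A y : Y.Opens) : Set Y) = ⋃ y ∈ t, ((A y : Y.Opens) : Set Y) := by
      simp
    rw [this]
    exact t.isCompact_biUnion fun y _ => (hA y).isCompact
  · have : ((⨆ y ∈ t, A y : Y.Opens) : Set Y) = ⋃ y ∈ t, ((A y : Y.Opens) : Set Y) := by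
      simp
    rw [this]
    exact ht

/-- **ind-quasi-affine morphisms are stable under composition** -/
theorem isIndQuasiAffineHom_comp {X Y Z : Scheme.{u}} (f : X ⟶ Y) (g : Y ⟶ Z)
    (hf : MoreMor.IsIndQuasiAffineHom f) (hg : MoreMor.IsIndQuasiAffineHom g) :
    MoreMor.IsIndQuasiAffineHom (f ≫ g) := by
  rw [isIndQuasiAffineHom_iff] at hf hg ⊢
  intro V hV W hWV hW
  obtain ⟨U, hUV, hU, hWU'⟩ := exists_compact_open_between (hW.image f.continuous) (g ⁻¹ᵁ V)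
    (by
      rintro _ ⟨x, hx, rfl⟩
      exact hWV hx)
  have hWU : W ≤ f ⁻¹ᵁ U := fun x hx => hWU' ⟨x, hx, rfl⟩
  haveI hUq : (U : Scheme.{u}).IsQuasiAffine := hg V hV U hUV hU
  haveI : CompactSpace (W : Scheme.{u}) := isCompact_iff_compactSpace.mp hW
  let φ : (W : Scheme.{u}) ⟶ (U : Scheme.{u}) := f.resLE U W hWU
  apply isQuasiAffine_of_preimage_basicOpen φ
  intro x
  obtain ⟨_, ⟨_, ⟨r, hr, rfl⟩, rfl⟩, hxr, -⟩ :=
    (Scheme.IsQuasiAffine.isBasis_basicOpen (U : Scheme.{u})).exists_subset_of_mem_open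
      (Set.mem_univ (φ x)) isOpen_univ
  refine ⟨r, hxr, ?_⟩
  have haff : IsAffineOpen (U.ι ''ᵁ (U : Scheme.{u}).basicOpen r) :=
    hr.image_of_isOpenImmersion U.ι
  have hc : IsCompact ((W.ι ''ᵁ (φ ⁻¹ᵁ (U : Scheme.{u}).basicOpen r) : X.Opens) : Set X) := by
    refine IsCompact.image ?_ W.ι.continuous
    rw [Scheme.preimage_basicOpen_top]
    have := isRetrocompact_basicOpen (φ.appTop r) isCompact_univ isOpen_univ
    rwa [Set.inter_univ] at this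
  have hle : W.ι ''ᵁ (φ ⁻¹ᵁ (U : Scheme.{u}).basicOpen r) ≤
      f ⁻¹ᵁ (U.ι ''ᵁ (U : Scheme.{u}).basicOpen r) := by
    rintro _ ⟨w, hw, rfl⟩
    refine ⟨φ w, hw, ?_⟩
    have := congrArg (fun ψ : (W : Scheme.{u}) ⟶ Y => ψ w) (Scheme.Hom.resLE_comp_ι f hWU)
    exact this
  haveI := hf _ haff _ hle hc
  exact isQuasiAffine_of_iso (W.ι.isoImage _)

/-- compactness of the preimage of a basic open of global functions, as an open of the ambient scheme -/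
theorem isCompact_image_preimage_basicOpen {X Q : Scheme.{u}} {W : X.Opens}
    (hW : IsCompact (W : Set X)) (φ : (W : Scheme.{u}) ⟶ Q) (r : Γ(Q, ⊤)) :
    IsCompact ((W.ι ''ᵁ (φ ⁻¹ᵁ Q.basicOpen r) : X.Opens) : Set X) := by
  haveI : CompactSpace (W : Scheme.{u}) := isCompact_iff_compactSpace.mp hW
  refine IsCompact.image ?_ W.ι.continuous
  rw [Scheme.preimage_basicOpen_top]
  have := isRetrocompact_basicOpen (φ.appTop r) isCompact_univ isOpen_univ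
  rwa [Set.inter_univ] at this

/-- **if a composite is ind-quasi-affine then so is its first morphism** -/
theorem isIndQuasiAffineHom_of_comp {X Y Z : Scheme.{u}} (f : X ⟶ Y) (g : Y ⟶ Z)
    (h : MoreMor.IsIndQuasiAffineHom (f ≫ g)) : MoreMor.IsIndQuasiAffineHom f := by
  rw [isIndQuasiAffineHom_iff] at h ⊢
  intro V hV W hWV hW
  haveI : CompactSpace (W : Scheme.{u}) := isCompact_iff_compactSpace.mp hW
  haveI : IsAffine (V : Scheme.{u}) := hV
  let φ : (W : Scheme.{u}) ⟶ (V : Scheme.{u}) := f.resLE V W hWV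
  have hφ : φ ≫ V.ι = W.ι ≫ f := Scheme.Hom.resLE_comp_ι f hWV
  apply isQuasiAffine_of_preimage_basicOpen φ
  intro x
  obtain ⟨_, ⟨VZ, hVZ, rfl⟩, hzVZ, -⟩ := Z.isBasis_affineOpens.exists_subset_of_mem_open
    (Set.mem_univ (g (V.ι (φ x)))) isOpen_univ
  obtain ⟨_, ⟨_, ⟨r, rfl⟩, rfl⟩, hxr, hrO⟩ := (isBasis_basicOpen (V : Scheme.{u})).exists_subset_of_mem_open
    (show φ x ∈ (V.ι ⁻¹ᵁ (g ⁻¹ᵁ VZ) : (V : Scheme.{u}).Opens) from hzVZ) (V.ι ⁻¹ᵁ (g ⁻¹ᵁ VZ)).isOpen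
  refine ⟨r, hxr, ?_⟩
  have hle : W.ι ''ᵁ (φ ⁻¹ᵁ (V : Scheme.{u}).basicOpen r) ≤ (f ≫ g) ⁻¹ᵁ VZ := by
    rintro _ ⟨w, hw, rfl⟩
    have h1 : V.ι (φ w) ∈ g ⁻¹ᵁ VZ := hrO hw
    have h2 : V.ι (φ w) = f (W.ι w) :=
      congrArg (fun ψ : (W : Scheme.{u}) ⟶ Y => ψ w) hφ
    rw [h2] at h1
    exact h1
  haveI := h VZ hVZ _ hle (isCompact_image_preimage_basicOpen hW φ r)
  exact isQuasiAffine_of_iso (W.ι.isoImage _)

/-- base change of ind-quasi-affine morphisms, over affine opens of the bases -/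
theorem isQuasiAffine_of_isPullback_affine {X S X' S' : Scheme.{u}} (f : X ⟶ S) (f' : X' ⟶ S')
    (g' : X' ⟶ X) (g : S' ⟶ S) (hc : IsPullback g' f' f g) (hf : MoreMor.IsIndQuasiAffineHom f)
    {V : S.Opens} (hV : IsAffineOpen V) {V' : S'.Opens} (hV' : IsAffineOpen V')
    (hVV' : V' ≤ g ⁻¹ᵁ V) {W' : X'.Opens} (hW'V' : W' ≤ f' ⁻¹ᵁ V')
    (hW' : IsCompact (W' : Set X')) : Scheme.IsQuasiAffine (W' : Scheme.{u}) := by
  rw [isIndQuasiAffineHom_iff] at hf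
  have hsub : g' '' (W' : Set X') ⊆ ((f ⁻¹ᵁ V : X.Opens) : Set X) := by
    rintro _ ⟨w, hw, rfl⟩
    have h1 : f (g' w) = g (f' w) := congrArg (fun ψ : X' ⟶ S => ψ w) hc.w
    change f (g' w) ∈ V
    rw [h1]
    exact hVV' (hW'V' hw)
  obtain ⟨U, hUV, hU, hWU'⟩ := exists_compact_open_between (hW'.image g'.continuous) (f ⁻¹ᵁ V) hsub
  haveI hUq : (U : Scheme.{u}).IsQuasiAffine := hf V hV U hUV hU
  have H := Scheme.Hom.isPullback_resLE hc (US := V) (UT := V') (UX := U) hVV' hUV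
    (UY := g' ⁻¹ᵁ U ⊓ f' ⁻¹ᵁ V') rfl
  haveI : IsAffine (V : Scheme.{u}) := hV
  haveI : IsAffine (V' : Scheme.{u}) := hV'
  haveI : IsAffineHom (g.resLE V V' hVV') := inferInstance
  haveI : IsAffineHom (g'.resLE U (g' ⁻¹ᵁ U ⊓ f' ⁻¹ᵁ V') inf_le_left) :=
    MorphismProperty.of_isPullback (P := @IsAffineHom) H.flip inferInstance
  haveI hPq : ((g' ⁻¹ᵁ U ⊓ f' ⁻¹ᵁ V' : X'.Opens) : Scheme.{u}).IsQuasiAffine :=
    Scheme.IsQuasiAffine.of_isAffineHom (g'.resLE U (g' ⁻¹ᵁ U ⊓ f' ⁻¹ᵁ V') inf_le_left)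
  have hWP : W' ≤ g' ⁻¹ᵁ U ⊓ f' ⁻¹ᵁ V' :=
    le_inf (fun w hw => hWU' ⟨w, hw, rfl⟩) hW'V'
  haveI : CompactSpace (W' : Scheme.{u}) := isCompact_iff_compactSpace.mp hW'
  exact Scheme.IsQuasiAffine.of_isImmersion (X'.homOfLE hWP)

/-- **the base change of an ind-quasi-affine morphism is ind-quasi-affine** -/
theorem isIndQuasiAffineHom_of_isPullback {X S X' S' : Scheme.{u}} (f : X ⟶ S) (f' : X' ⟶ S')
    (g' : X' ⟶ X) (g : S' ⟶ S) (hc : IsPullback g' f' f g) (hf : MoreMor.IsIndQuasiAffineHom f) :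
    MoreMor.IsIndQuasiAffineHom f' := by
  rw [isIndQuasiAffineHom_iff]
  intro V' hV' W' hW'V' hW'
  haveI : CompactSpace (W' : Scheme.{u}) := isCompact_iff_compactSpace.mp hW'
  haveI : IsAffine (V' : Scheme.{u}) := hV'
  let φ : (W' : Scheme.{u}) ⟶ (V' : Scheme.{u}) := f'.resLE V' W' hW'V'
  have hφ : φ ≫ V'.ι = W'.ι ≫ f' := Scheme.Hom.resLE_comp_ι f' hW'V'
  apply isQuasiAffine_of_preimage_basicOpen φ
  intro x
  obtain ⟨_, ⟨V, hV, rfl⟩, hsV, -⟩ := S.isBasis_affineOpens.exists_subset_of_mem_open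
    (Set.mem_univ (g (V'.ι (φ x)))) isOpen_univ
  obtain ⟨_, ⟨_, ⟨r, rfl⟩, rfl⟩, hxr, hrO⟩ := (isBasis_basicOpen (V' : Scheme.{u})).exists_subset_of_mem_open
    (show φ x ∈ (V'.ι ⁻¹ᵁ (g ⁻¹ᵁ V) : (V' : Scheme.{u}).Opens) from hsV) (V'.ι ⁻¹ᵁ (g ⁻¹ᵁ V)).isOpen
  refine ⟨r, hxr, ?_⟩
  have haff : IsAffineOpen (V'.ι ''ᵁ (V' : Scheme.{u}).basicOpen r) :=
    (IsAffineOpen.basicOpen (isAffineOpen_top _) r).image_of_isOpenImmersion V'.ι
  have hle1 : V'.ι ''ᵁ (V' : Scheme.{u}).basicOpen r ≤ g ⁻¹ᵁ V := by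
    rintro _ ⟨v, hv, rfl⟩
    exact hrO hv
  have hle2 : W'.ι ''ᵁ (φ ⁻¹ᵁ (V' : Scheme.{u}).basicOpen r) ≤
      f' ⁻¹ᵁ (V'.ι ''ᵁ (V' : Scheme.{u}).basicOpen r) := by
    rintro _ ⟨w, hw, rfl⟩
    refine ⟨φ w, hw, ?_⟩
    exact congrArg (fun ψ : (W' : Scheme.{u}) ⟶ S' => ψ w) hφ
  haveI := isQuasiAffine_of_isPullback_affine f f' g' g hc hf hV haff hle1 hle2
    (isCompact_image_preimage_basicOpen hW' φ r)
  exact isQuasiAffine_of_iso (W'.ι.isoImage _)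

/-- **ind-quasi-affine morphisms in terms of quasi-affine restrictions over qcqs opens** -/
theorem isIndQuasiAffineHom_iff_resLE {X Y : Scheme.{u}} (f : X ⟶ Y) :
    MoreMor.IsIndQuasiAffineHom f ↔ ∀ (V : Y.Opens), IsCompact (V : Set ↑Y) →
      IsQuasiSeparated (V : Set ↑Y) → ∀ (U : X.Opens) (hUV : U ≤ f ⁻¹ᵁ V),
        IsCompact (U : Set ↑X) → MoreMor.IsQuasiAffineHom (f.resLE V U hUV) := by
  rw [isIndQuasiAffineHom_iff]
  constructor
  · intro hf V hVc hVqs U hUV hU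
    haveI : CompactSpace (U : Scheme.{u}) := isCompact_iff_compactSpace.mp hU
    haveI : QuasiSeparatedSpace (V : Scheme.{u}) :=
      (isQuasiSeparated_iff_quasiSeparatedSpace _ V.2).1 hVqs
    haveI hqc : QuasiCompact (f.resLE V U hUV) := inferInstance
    refine ⟨hqc, fun V' hV' => ?_⟩
    have haff : IsAffineOpen (V.ι ''ᵁ V') := hV'.image_of_isOpenImmersion V.ι
    have hφ : f.resLE V U hUV ≫ V.ι = U.ι ≫ f := Scheme.Hom.resLE_comp_ι f hUV
    have hle : U.ι ''ᵁ (f.resLE V U hUV ⁻¹ᵁ V') ≤ f ⁻¹ᵁ (V.ι ''ᵁ V') := by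
      rintro _ ⟨w, hw, rfl⟩
      refine ⟨f.resLE V U hUV w, hw, ?_⟩
      exact congrArg (fun ψ : (U : Scheme.{u}) ⟶ Y => ψ w) hφ
    have hc : IsCompact ((U.ι ''ᵁ (f.resLE V U hUV ⁻¹ᵁ V') : X.Opens) : Set X) :=
      IsCompact.image (QuasiCompact.isCompact_preimage (f := f.resLE V U hUV) _ V'.isOpen
        hV'.isCompact) U.ι.continuous
    haveI := hf _ haff _ hle hc
    exact isQuasiAffine_of_iso (U.ι.isoImage _)
  · intro h V hV W hWV hW
    haveI : IsAffine (V : Scheme.{u}) := hV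
    have h1 := (h V hV.isCompact hV.isQuasiSeparated W hWV hW).2 ⊤ (isAffineOpen_top _)
    rw [Scheme.Hom.preimage_top] at h1
    haveI := h1
    exact isQuasiAffine_of_iso (Scheme.topIso _).symm

end Groth.Agent.Helper1.IQA
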