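import Mathlib
import Groth.Agent.Lib.Helper1.AmpleCrit2

set_option autoImplicit false
universe u
open CategoryTheory CategoryTheory.Limits AlgebraicGeometry TopologicalSpace Opposite

namespace Groth.Agent.Helper1.IdSh

open Groth.Agent.Helper1.QcCech Groth.Agent.Helper1.SubSh Groth.Agent.Helper1
open Groth.Agent.Helper1.AmpleLib

variable {X : Scheme.{u}}

/-- the complement of the support of an ideal sheaf of finite type on a quasi-compact scheme is
quasi-compact -/
theorem isCompact_of_fg [CompactSpace X] (I : X.IdealSheafData)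
    (hfg : ∀ V : X.affineOpens, (I.ideal V).FG) (U : X.Opens)
    (hs : (I.support : Set X) = (U : Set X)ᶜ) : IsCompact (U : Set X) := by
  classical
  choose S hS using hfg
  obtain ⟨t, ht⟩ := isCompact_univ.elim_finite_subcover (fun B : X.affineOpens => (B.1 : Set X))
    (fun B => B.1.isOpen) (by
      intro x _
      obtain ⟨_, ⟨W, hW, rfl⟩, hxW, -⟩ := X.isBasis_affineOpens.exists_subset_of_mem_open
        (Set.mem_univ x) isOpen_univ
      exact Set.mem_iUnion.2 ⟨⟨W, hW⟩, hxW⟩)
  have hU : (U : Set X) = ⋃ B ∈ t, ⋃ f ∈ S B, (X.basicOpen f : Set X) := by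
    ext z
    simp only [Set.mem_iUnion]
    constructor
    · intro hz
      obtain ⟨B, hBt, hzB⟩ : ∃ B ∈ t, z ∈ (B.1 : Set X) := by
        have := ht (Set.mem_univ z)
        simpa only [Set.mem_iUnion, exists_prop] using this
      have hz' : z ∉ I.support := by
        intro h
        have h' : z ∈ (I.support : Set X) := h
        rw [hs] at h'
        exact h' hz
      rw [Scheme.IdealSheafData.mem_support_iff_of_mem (U := B) hzB, ← hS B,
        Scheme.zeroLocus_span, Scheme.mem_zeroLocus_iff] at hz'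
      push Not at hz'
      obtain ⟨f, hf, hzf⟩ := hz'
      exact ⟨B, hBt, f, hf, hzf⟩
    · rintro ⟨B, hBt, f, hf, hzf⟩
      by_contra hzU
      have h' : z ∈ (I.support : Set X) := by rw [hs]; exact hzU
      have hzB : z ∈ B.1 := X.basicOpen_le f hzf
      rw [SetLike.mem_coe, Scheme.IdealSheafData.mem_support_iff_of_mem (U := B) hzB,
        Scheme.mem_zeroLocus_iff] at h'
      refine h' f ?_ hzf
      rw [← hS B]
      exact Ideal.subset_span hf
  rw [hU]
  exact t.isCompact_biUnion (fun B _ => (S B).isCompact_biUnion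
    (fun f _ => (B.2.basicOpen f).isCompact))

/-- on a quasi-compact quasi-separated scheme, the complement of a quasi-compact open is the
support of an ideal sheaf of finite type -/
theorem exists_fg_of_isCompact [CompactSpace X] [QuasiSeparatedSpace X] (U : X.Opens)
    (hU : IsCompact (U : Set X)) :
    ∃ I : X.IdealSheafData, (∀ V : X.affineOpens, (I.ideal V).FG) ∧
      (I.support : Set X) = (U : Set X)ᶜ := by
  set I := Scheme.IdealSheafData.vanishingIdeal ⟨(U : Set X)ᶜ, U.isOpen.isClosed_compl⟩ with hI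
  have hrange : Set.range I.subschemeι = (U : Set X)ᶜ := by
    rw [I.range_subschemeι]
    simp [hI]
  have hpre : ∀ B : X.Opens, B ≤ U → I.subschemeι ⁻¹ᵁ B = ⊥ := by
    intro B hB
    ext z
    simp only [Scheme.Hom.mem_preimage, SetLike.mem_coe, Opens.coe_bot, Set.mem_empty_iff_false,
      iff_false]
    intro hz
    have : I.subschemeι z ∈ Set.range I.subschemeι := ⟨z, rfl⟩
    rw [hrange] at this
    exact this (hB hz)
  -- over opens inside `U`, the ideal module contains `1`
  have hone : ∀ B : X.Opens, B ≤ U →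
      ∃ y : Γ(ClSub.idealMod I, B), (ClSub.idealModι I).app B y = (1 : Γ(X, B)) := by
    intro B hB
    have hsub : Subsingleton Γ(I.subscheme, I.subschemeι ⁻¹ᵁ B) := by
      rw [hpre B hB]
      infer_instance
    exact IdealModL.exists_of_app_eq_zero I B 1 (Subsingleton.elim _ _)
  have h0 : (LocalSub.top (ClSub.idealMod I)).IsQcFtOn U := by
    intro x hx
    obtain ⟨_, ⟨B, hB, rfl⟩, hxB, hBU⟩ :=
      X.isBasis_affineOpens.exists_subset_of_mem_open hx U.isOpen
    have hBU' : B ≤ U := hBU
    refine ⟨B, hxB, hBU', hB, LocalSub.top_extPOn.mono le_top, ?_⟩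
    obtain ⟨y, hy⟩ := hone B hBU'
    refine ⟨{y}, ?_⟩
    apply le_antisymm le_top
    intro t _
    have : t = (show Γ(X, B) from (ClSub.idealModι I).app B t) • y := by
      apply IdealModL.ι_injective I B
      rw [Scheme.Modules.Hom.app_smul, hy]
      exact (mul_one (show Γ(X, B) from (ClSub.idealModι I).app B t)).symm
    rw [this]
    exact Submodule.smul_mem _ _ (Submodule.subset_span (by simp))
  obtain ⟨G', hG', hGU⟩ := LocalSub.exists_extension_of_qcqs (F := ClSub.idealMod I) U hU
    (LocalSub.top _) h0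
  haveI hqcJ : G'.obj.IsQuasicoherent := G'.isQuasicoherent_obj hG'.isQcOn
  let i : G'.obj ⟶ Coh.structureModule X := G'.ι ≫ ClSub.idealModι I
  have hvan0 : ∀ (V : X.Opens) (j : Γ(G'.obj, V)) (z : X),
      z ∈ X.basicOpen (show Γ(X, V) from i.app V j) → z ∈ U := by
    intro V j z hz
    by_contra hzU
    have : z ∈ Set.range I.subschemeι := by rw [hrange]; exact hzU
    obtain ⟨z', rfl⟩ := this
    have h0 : (I.subschemeι.app V).hom (show Γ(X, V) from i.app V j) = 0 :=
      IdealModL.toSubscheme_ι I V (G'.ι.app V j)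
    have h4 : z' ∈ I.subschemeι ⁻¹ᵁ X.basicOpen (show Γ(X, V) from i.app V j) := hz
    rw [Scheme.preimage_basicOpen, h0, Scheme.basicOpen_zero] at h4
    exact h4
  refine ⟨imageIdeal G'.obj i, isFiniteTypeIdeal_imageIdeal G'.obj (G'.isFiniteType_obj hG') i, ?_⟩
  ext z
  simp only [SetLike.mem_coe, Set.mem_compl_iff]
  constructor
  · intro hz hzU
    obtain ⟨_, ⟨B, hB, rfl⟩, hzB, hBU⟩ :=
      X.isBasis_affineOpens.exists_subset_of_mem_open hzU U.isOpen
    have hBU' : B ≤ U := hBU
    obtain ⟨y, hy⟩ := hone B hBU'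
    have hs : y ∈ G'.carrier B := by
      rw [hGU B hBU']
      trivial
    rw [Scheme.IdealSheafData.mem_support_iff_of_mem (U := ⟨B, hB⟩) hzB,
      Scheme.mem_zeroLocus_iff] at hz
    refine hz 1 ⟨G'.mkSec y hs, hy⟩ ?_
    rw [Scheme.basicOpen_of_isUnit _ isUnit_one]
    exact hzB
  · intro hzU
    rw [Scheme.IdealSheafData.mem_support_iff]
    intro V
    rw [Scheme.mem_zeroLocus_iff]
    rintro _ ⟨j, rfl⟩ hz
    exact hzU (hvan0 V.1 j z hz)

end Groth.Agent.Helper1.IdSh
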