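import Mathlib

universe u

open TensorProduct

namespace Groth.Agent.Helper1.ImgBasic

variable (k : Type u) [Field k] (R S : Type u) [CommRing R] [Algebra k R] [CommRing S]
  [Algebra k S]

/-- Non-nilpotency in the fibre from a prime. -/
lemma not_isNilpotent_fibre (T : Type u) [CommRing T] [Algebra k T] (f : R ⊗[k] T)
    (p : PrimeSpectrum R) (q' : PrimeSpectrum (R ⊗[k] T)) (hf : f ∉ q'.asIdeal)
    (hq' : q'.asIdeal.comap (algebraMap R (R ⊗[k] T)) = p.asIdeal) :
    ¬ IsNilpotent (Algebra.TensorProduct.map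
      (IsScalarTower.toAlgHom k R p.asIdeal.ResidueField) (AlgHom.id k T) f) := by
  let κ := p.asIdeal.ResidueField
  let κ' := q'.asIdeal.ResidueField
  have hp : p.asIdeal = q'.asIdeal.comap
      (Algebra.TensorProduct.includeLeft : R →ₐ[k] R ⊗[k] T).toRingHom := hq'.symm
  let φ : κ →ₐ[k] κ' := Ideal.ResidueField.mapₐ p.asIdeal q'.asIdeal
    (Algebra.TensorProduct.includeLeft : R →ₐ[k] R ⊗[k] T) hp
  let ψ : T →ₐ[k] κ' := (IsScalarTower.toAlgHom k (R ⊗[k] T) κ').comp
    Algebra.TensorProduct.includeRight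
  let h : κ ⊗[k] T →ₐ[k] κ' := Algebra.TensorProduct.lift φ ψ (fun _ _ => Commute.all _ _)
  have hcomp : h.comp (Algebra.TensorProduct.map
      (IsScalarTower.toAlgHom k R κ) (AlgHom.id k T)) = IsScalarTower.toAlgHom k (R ⊗[k] T) κ' := by
    apply Algebra.TensorProduct.ext'
    intro r t
    simp only [AlgHom.coe_comp, Function.comp_apply, Algebra.TensorProduct.map_tmul,
      IsScalarTower.coe_toAlgHom', AlgHom.coe_id, id_eq, h, Algebra.TensorProduct.lift_tmul, φ, ψ,
      Algebra.TensorProduct.includeRight_apply]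
    have e1 : (Ideal.ResidueField.mapₐ p.asIdeal q'.asIdeal
        (Algebra.TensorProduct.includeLeft : R →ₐ[k] R ⊗[k] T) hp) ((algebraMap R κ) r) =
        algebraMap (R ⊗[k] T) κ' (r ⊗ₜ 1) := by
      rw [Ideal.ResidueField.mapₐ_apply]
      exact Ideal.ResidueField.map_algebraMap _ _ _ _ r
    rw [e1, ← map_mul]
    congr 1
    simp
  intro hnil
  have h1 : IsNilpotent (h (Algebra.TensorProduct.map
      (IsScalarTower.toAlgHom k R κ) (AlgHom.id k T) f)) := hnil.map h
  have h2 : h (Algebra.TensorProduct.map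
      (IsScalarTower.toAlgHom k R κ) (AlgHom.id k T) f) = algebraMap (R ⊗[k] T) κ' f :=
    congr($hcomp f)
  rw [h2] at h1
  have h3 : algebraMap (R ⊗[k] T) κ' f = 0 := h1.eq_zero
  exact hf (Ideal.algebraMap_residueField_eq_zero.mp h3)

/-- Existence of a prime in the total space from non-nilpotency in the fibre. -/
lemma exists_prime_of_not_isNilpotent (T : Type u) [CommRing T] [Algebra k T] (f : R ⊗[k] T)
    (p : PrimeSpectrum R)
    (hf : ¬ IsNilpotent (Algebra.TensorProduct.map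
      (IsScalarTower.toAlgHom k R p.asIdeal.ResidueField) (AlgHom.id k T) f)) :
    ∃ q : PrimeSpectrum (R ⊗[k] T), f ∉ q.asIdeal ∧
      q.asIdeal.comap (algebraMap R (R ⊗[k] T)) = p.asIdeal := by
  let κ := p.asIdeal.ResidueField
  let g : R ⊗[k] T →ₐ[k] κ ⊗[k] T := Algebra.TensorProduct.map
      (IsScalarTower.toAlgHom k R κ) (AlgHom.id k T)
  rw [nilpotent_iff_mem_prime] at hf
  push Not at hf
  obtain ⟨Q, hQ, hfQ⟩ := hf
  refine ⟨⟨Q.comap g.toRingHom, inferInstance⟩, hfQ, ?_⟩
  ext x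
  simp only [Ideal.mem_comap]
  have h1 : g.toRingHom (algebraMap R (R ⊗[k] T) x) =
      (Algebra.TensorProduct.includeLeft : κ →ₐ[k] κ ⊗[k] T) (algebraMap R κ x) := by
    simp [g]
  rw [h1]
  have h2 : Q.comap (Algebra.TensorProduct.includeLeft : κ →ₐ[k] κ ⊗[k] T).toRingHom = ⊥ :=
    Ideal.eq_bot_of_prime _
  have h3 : (Algebra.TensorProduct.includeLeft : κ →ₐ[k] κ ⊗[k] T) (algebraMap R κ x) ∈ Q ↔
      algebraMap R κ x ∈ Q.comap
        (Algebra.TensorProduct.includeLeft : κ →ₐ[k] κ ⊗[k] T).toRingHom := Iff.rfl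
  rw [h3, h2, Ideal.mem_bot, Ideal.algebraMap_residueField_eq_zero]

theorem result (S' : Subalgebra k S) (f : R ⊗[k] S') (p : PrimeSpectrum R) :
    (∃ q : PrimeSpectrum (R ⊗[k] S), Algebra.TensorProduct.map (AlgHom.id k R) S'.val f ∉ q.asIdeal ∧
      q.asIdeal.comap (algebraMap R (R ⊗[k] S)) = p.asIdeal) ↔
    (∃ q' : PrimeSpectrum (R ⊗[k] S'), f ∉ q'.asIdeal ∧
      q'.asIdeal.comap (algebraMap R (R ⊗[k] S')) = p.asIdeal) := by
  let i : R ⊗[k] S' →ₐ[k] R ⊗[k] S := Algebra.TensorProduct.map (AlgHom.id k R) S'.val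
  constructor
  · rintro ⟨q, hfq, hq⟩
    refine ⟨⟨q.asIdeal.comap i.toRingHom, inferInstance⟩, hfq, ?_⟩
    rw [← hq]
    ext x
    simp only [Ideal.mem_comap]
    have : i.toRingHom (algebraMap R (R ⊗[k] S') x) = algebraMap R (R ⊗[k] S) x := by
      simp [i]
    rw [this]
  · rintro ⟨q', hfq', hq'⟩
    apply exists_prime_of_not_isNilpotent k R S
    have h1 := not_isNilpotent_fibre k R S' f p q' hfq' hq'
    let κ := p.asIdeal.ResidueField
    let j : κ ⊗[k] S' →ₐ[k] κ ⊗[k] S := Algebra.TensorProduct.map (AlgHom.id k κ) S'.val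
    have hj : Function.Injective j :=
      Module.Flat.lTensor_preserves_injective_linearMap (M := κ) S'.val.toLinearMap
        Subtype.val_injective
    have hcomm : (Algebra.TensorProduct.map (IsScalarTower.toAlgHom k R κ) (AlgHom.id k S))
        (i f) = j (Algebra.TensorProduct.map (IsScalarTower.toAlgHom k R κ) (AlgHom.id k S') f) := by
      have : (Algebra.TensorProduct.map (IsScalarTower.toAlgHom k R κ) (AlgHom.id k S)).comp i =
          j.comp (Algebra.TensorProduct.map (IsScalarTower.toAlgHom k R κ) (AlgHom.id k S')) := by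
        apply Algebra.TensorProduct.ext'
        intro r s
        simp [i, j]
      exact congr($this f)
    rw [hcomm]
    intro hnil
    exact h1 ((IsNilpotent.map_iff hj).mp hnil)

end Groth.Agent.Helper1.ImgBasic
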