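import Mathlib

/-!
# Cancelling a (pre)immersion on the right of an open immersion (helper1 library)
-/

universe u

open CategoryTheory CategoryTheory.Limits AlgebraicGeometry TopologicalSpace Opposite

namespace Groth.Agent.Helper1.ImmComp

theorem isOpenImmersion_of_comp {X Y Z : Scheme.{u}} (f : X ⟶ Y) (g : Y ⟶ Z)
    [IsPreimmersion g] [IsOpenImmersion (f ≫ g)] : IsOpenImmersion f := by
  have : IsPreimmersion f := IsPreimmersion.of_comp f g
  have hemb : Topology.IsOpenEmbedding f := by
    refine ⟨f.isEmbedding, ?_⟩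
    have hr : Set.range f = g ⁻¹' Set.range (f ≫ g) := by
      ext y
      constructor
      · rintro ⟨x, rfl⟩
        exact ⟨x, by simp⟩
      · rintro ⟨x, hx⟩
        refine ⟨x, g.isEmbedding.injective ?_⟩
        simpa using hx
    rw [hr]
    exact (f ≫ g).isOpenEmbedding.isOpen_range.preimage g.continuous
  have : ∀ x, IsIso (f.stalkMap x) := by
    intro x
    have hb : Function.Bijective ((f ≫ g).stalkMap x) := ConcreteCategory.bijective_of_isIso _
    have hinj := hb.1
    rw [Scheme.Hom.stalkMap_comp] at hinj
    have hsg := g.stalkMap_surjective (f x)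
    refine (ConcreteCategory.isIso_iff_bijective _).mpr ⟨?_, f.stalkMap_surjective x⟩
    intro a b hab
    obtain ⟨a', rfl⟩ := hsg a
    obtain ⟨b', rfl⟩ := hsg b
    have : a' = b' := hinj hab
    rw [this]
  exact IsOpenImmersion.of_isIso_stalkMap f hemb

theorem isDominant_of_comp_isInducing {X Y Z : Scheme.{u}} (f : X ⟶ Y) (g : Y ⟶ Z)
    (hg : Topology.IsInducing g) [H : IsDominant (f ≫ g)] : IsDominant f := by
  refine ⟨?_⟩
  rw [DenseRange, dense_iff_closure_eq, hg.closure_eq_preimage_closure_image]
  have h1 : (g : Y → Z) '' Set.range f = Set.range (f ≫ g) := by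
    rw [← Set.range_comp]; rfl
  rw [h1, (H.denseRange).closure_range, Set.preimage_univ]

end Groth.Agent.Helper1.ImmComp
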