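import Mathlib
import Groth.Agent.Lib.Helper1.NakLoc

/-! The locus where a map of finite projective modules is fibrewise injective
(helper1; S6309). -/

set_option autoImplicit false
universe u

namespace Groth.Agent.Helper1.InjLocus

open TensorProduct PrimeSpectrum

variable {R : Type u} [CommRing R] {P₁ P₂ : Type u} [AddCommGroup P₁] [Module R P₁]
  [AddCommGroup P₂] [Module R P₂] (φ : P₁ →ₗ[R] P₂)

/-- the locus where `ker φ` vanishes -/
def V : Set (PrimeSpectrum R) :=
  {p | ∀ x ∈ LinearMap.ker φ, ∃ s ∉ p.asIdeal, s • x = 0}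

/-- fibrewise injectivity over `κ(p)` can be tested after localizing at `p`. -/
lemma lTensor_iff (p : PrimeSpectrum R) :
    Function.Injective (φ.lTensor p.asIdeal.ResidueField) ↔
      Function.Injective ((φ.baseChange (Localization.AtPrime p.asIdeal)).lTensor
        (IsLocalRing.ResidueField (Localization.AtPrime p.asIdeal))) := by
  let e₁ := AlgebraTensorModule.cancelBaseChange R (Localization.AtPrime p.asIdeal)
    p.asIdeal.ResidueField p.asIdeal.ResidueField P₁
  let e₂ := AlgebraTensorModule.cancelBaseChange R (Localization.AtPrime p.asIdeal)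
    p.asIdeal.ResidueField p.asIdeal.ResidueField P₂
  have hcomm : ∀ z, e₂ (((φ.baseChange (Localization.AtPrime p.asIdeal)).lTensor _) z) =
      (φ.lTensor _) (e₁ z) := by
    intro z
    induction z using TensorProduct.induction_on with
    | zero => simp
    | add x y hx hy => simp only [map_add, hx, hy]
    | tmul a w =>
      induction w using TensorProduct.induction_on with
      | zero => simp
      | add x y hx hy => simp only [tmul_add, map_add, hx, hy]
      | tmul b x =>
        simp [e₁, e₂]
  constructor
  · intro h z w hzw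
    apply e₁.injective
    apply h
    rw [← hcomm, ← hcomm, hzw]
  · intro h z w hzw
    apply e₁.symm.injective
    apply h
    apply e₂.injective
    rw [hcomm, hcomm]
    simpa using hzw

/-- the localized map is injective exactly on `V`. -/
lemma baseChange_injective_iff (p : PrimeSpectrum R) :
    Function.Injective (φ.baseChange (Localization.AtPrime p.asIdeal)) ↔ p ∈ V φ := by
  set Rp := Localization.AtPrime p.asIdeal
  constructor
  · intro h x hx
    have h1 : (φ.baseChange Rp) ((1 : Rp) ⊗ₜ x) = 0 := by
      rw [LinearMap.baseChange_tmul, LinearMap.mem_ker.mp hx, tmul_zero]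
    have h2 : (TensorProduct.mk R Rp P₁ 1) x = 0 := h (h1.trans (map_zero _).symm)
    obtain ⟨s, hs⟩ := (IsLocalizedModule.eq_zero_iff p.asIdeal.primeCompl
      (TensorProduct.mk R Rp P₁ 1)).mp h2
    exact ⟨s.1, s.2, hs⟩
  · intro hV
    rw [injective_iff_map_eq_zero]
    intro z hz
    obtain ⟨⟨x, s⟩, hxs⟩ := IsLocalizedModule.surj p.asIdeal.primeCompl
      (TensorProduct.mk R Rp P₁ 1) z
    -- `s • z = 1 ⊗ x`
    have h1 : (φ.baseChange Rp) ((1 : Rp) ⊗ₜ x) = 0 := by
      have : (1 : Rp) ⊗ₜ[R] x = s • z := hxs.symm
      rw [this, LinearMap.map_smul_of_tower, hz, smul_zero]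
    rw [LinearMap.baseChange_tmul] at h1
    obtain ⟨t, ht⟩ := (IsLocalizedModule.eq_zero_iff p.asIdeal.primeCompl
      (TensorProduct.mk R Rp P₂ 1)).mp h1
    have htx : t.1 • x ∈ LinearMap.ker φ := by
      rw [LinearMap.mem_ker, map_smul]; exact ht
    obtain ⟨s', hs', hs'0⟩ := hV _ htx
    have h2 : (TensorProduct.mk R Rp P₁ 1) x = 0 := by
      rw [IsLocalizedModule.eq_zero_iff p.asIdeal.primeCompl]
      refine ⟨⟨s', hs'⟩ * t, ?_⟩
      change (s' * t.1) • x = 0
      rw [mul_smul, hs'0]
    have h3 : s • z = 0 := hxs.trans h2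
    exact ((Module.End.isUnit_iff _).mp
      (IsLocalizedModule.map_units (TensorProduct.mk R Rp P₁ 1) s)).1
        (h3.trans (map_zero _).symm)

end Groth.Agent.Helper1.InjLocus

namespace Groth.Agent.Helper1.InjLocus

open TensorProduct PrimeSpectrum

variable {R : Type u} [CommRing R] {P₁ P₂ : Type u} [AddCommGroup P₁] [Module R P₁]
  [AddCommGroup P₂] [Module R P₂] [Module.Finite R P₁] [Module.Projective R P₁]
  [Module.Finite R P₂] [Module.Projective R P₂] (φ : P₁ →ₗ[R] P₂)

lemma exact_baseChange (A : Type*) [CommRing A] [Algebra R A] :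
    Function.Exact (φ.baseChange A) ((LinearMap.range φ).mkQ.baseChange A) := by
  rw [LinearMap.baseChange_eq_ltensor, LinearMap.baseChange_eq_ltensor]
  exact lTensor_exact A (LinearMap.exact_map_mkQ_range φ) (Submodule.mkQ_surjective _)

lemma surjective_baseChange (A : Type*) [CommRing A] [Algebra R A] :
    Function.Surjective ((LinearMap.range φ).mkQ.baseChange A) := by
  rw [LinearMap.baseChange_eq_ltensor]
  exact LinearMap.lTensor_surjective A (Submodule.mkQ_surjective _)

/-- fibrewise injectivity at `p` iff the cokernel is free at `p` and the kernel vanishes at `p`. -/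
theorem mem_iff (p : PrimeSpectrum R) :
    Function.Injective (φ.lTensor p.asIdeal.ResidueField) ↔
      p ∈ Module.freeLocus R (P₂ ⧸ LinearMap.range φ) ∧ p ∈ V φ := by
  set Rp := Localization.AtPrime p.asIdeal
  haveI : Module.Free Rp (Rp ⊗[R] P₂) := Module.free_of_flat_of_isLocalRing
  rw [lTensor_iff, Module.mem_freeLocus_iff_tensor p Rp, ← baseChange_injective_iff]
  constructor
  · intro h
    refine ⟨Module.free_of_lTensor_residueField_injective (φ.baseChange Rp)
      ((LinearMap.range φ).mkQ.baseChange Rp) (surjective_baseChange φ Rp)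
      (exact_baseChange φ Rp) h, ?_⟩
    obtain ⟨l', hl'⟩ :=
      (IsLocalRing.split_injective_iff_lTensor_residueField_injective (φ.baseChange Rp)).mpr h
    exact Function.HasLeftInverse.injective ⟨l', fun x => congr($hl' x)⟩
  · rintro ⟨hfree, hinj⟩
    rw [← IsLocalRing.split_injective_iff_lTensor_residueField_injective]
    have := (Function.Exact.split_tfae (exact_baseChange φ Rp) hinj
      (surjective_baseChange φ Rp)).out 0 1
    rw [← this]
    exact Module.projective_lifting_property _ _ (surjective_baseChange φ Rp)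

end Groth.Agent.Helper1.InjLocus

namespace Groth.Agent.Helper1.InjLocus

open TensorProduct PrimeSpectrum

variable {R : Type u} [CommRing R] {P₁ P₂ : Type u} [AddCommGroup P₁] [Module R P₁]
  [AddCommGroup P₂] [Module R P₂] [Module.Finite R P₁] [Module.Projective R P₁]
  [Module.Finite R P₂] [Module.Projective R P₂] (φ : P₁ →ₗ[R] P₂)

omit [Module.Projective R P₁] in
lemma fp_coker : Module.FinitePresentation R (P₂ ⧸ LinearMap.range φ) := by
  haveI : Module.FinitePresentation R P₂ := Module.finitePresentation_of_projective R P₂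
  refine Module.finitePresentation_of_surjective (LinearMap.range φ).mkQ
    (Submodule.mkQ_surjective _) ?_
  rw [Submodule.ker_mkQ, LinearMap.range_eq_map]
  exact Submodule.FG.map _ Module.Finite.fg_top

lemma mk_eq_zero_iff {R : Type*} [CommRing R] (S : Submonoid R) {M : Type*} [AddCommGroup M]
    [Module R M] (x : M) (s : S) :
    LocalizedModule.mk x s = 0 ↔ ∃ u : S, u • x = 0 := by
  rw [← LocalizedModule.zero_mk (1 : S), LocalizedModule.mk_eq]
  simp

omit [Module.Finite R P₁] [Module.Projective R P₁] [Module.Finite R P₂]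
  [Module.Projective R P₂] in
/-- if the kernel vanishes at all points of `D(f)`, the localized map is injective. -/
lemma map_injective_of_subset (f : R) (h : (↑(basicOpen f) : Set (PrimeSpectrum R)) ⊆ V φ) :
    Function.Injective (LocalizedModule.map (Submonoid.powers f) φ) := by
  rw [injective_iff_map_eq_zero]
  intro z hz
  induction z using LocalizedModule.induction_on with
  | h x s =>
    rw [LocalizedModule.map_mk, mk_eq_zero_iff] at hz
    obtain ⟨t, ht⟩ := hz
    obtain ⟨b, hb⟩ := t.2
    have hb' : f ^ b = t.1 := hb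
    have hy : f ^ b • x ∈ LinearMap.ker φ := by
      rw [LinearMap.mem_ker, map_smul, hb']; exact ht
    -- `f` is in the radical of the annihilator of `y`
    have hrad : f ∈ (Submodule.span R {f ^ b • x}).annihilator.radical := by
      rw [← PrimeSpectrum.vanishingIdeal_zeroLocus_eq_radical, PrimeSpectrum.mem_vanishingIdeal]
      intro q hq
      by_contra hfq
      obtain ⟨s', hs', hs'0⟩ := h (show q ∈ (basicOpen f : Set _) from hfq) _ hy
      apply hs'
      apply hq
      rw [SetLike.mem_coe, Submodule.mem_annihilator_span_singleton]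
      exact hs'0
    obtain ⟨k, hk⟩ := hrad
    rw [Submodule.mem_annihilator_span_singleton] at hk
    rw [mk_eq_zero_iff]
    refine ⟨⟨f ^ (k + b), ⟨k + b, rfl⟩⟩, ?_⟩
    change f ^ (k + b) • x = 0
    rw [pow_add, mul_smul]
    exact hk

theorem part2 (f : R) (hf : (↑(basicOpen f) : Set (PrimeSpectrum R)) ⊆
      {p : PrimeSpectrum R | Function.Injective (φ.lTensor p.asIdeal.ResidueField)}) :
    Function.Injective (LocalizedModule.map (Submonoid.powers f) φ) ∧
      Module.Finite (Localization.Away f)
        (LocalizedModule (Submonoid.powers f) (P₂ ⧸ LinearMap.range φ)) ∧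
      Module.Projective (Localization.Away f)
        (LocalizedModule (Submonoid.powers f) (P₂ ⧸ LinearMap.range φ)) := by
  haveI := fp_coker φ
  refine ⟨map_injective_of_subset φ f fun p hp => ((mem_iff φ p).mp (hf hp)).2, inferInstance, ?_⟩
  exact Module.basicOpen_subset_freeLocus_iff.mp fun p hp => ((mem_iff φ p).mp (hf hp)).1

end Groth.Agent.Helper1.InjLocus

namespace Groth.Agent.Helper1.InjLocus

open TensorProduct PrimeSpectrum

variable {R : Type u} [CommRing R] {P₁ P₂ : Type u} [AddCommGroup P₁] [Module R P₁]
  [AddCommGroup P₂] [Module R P₂] [Module.Finite R P₁] [Module.Projective R P₁]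
  [Module.Finite R P₂] [Module.Projective R P₂] (φ : P₁ →ₗ[R] P₂)

/-- If the cokernel becomes projective after inverting `f`, the kernel of the localized map
is a finite module. -/
lemma ker_map_finite (f : R)
    (hproj : Module.Projective (Localization.Away f)
      (LocalizedModule (Submonoid.powers f) (P₂ ⧸ LinearMap.range φ))) :
    Module.Finite (Localization.Away f)
      (LinearMap.ker (LocalizedModule.map (Submonoid.powers f) φ)) := by
  set S := Submonoid.powers f
  set φf := LocalizedModule.map S φ
  set qf := LocalizedModule.map S (LinearMap.range φ).mkQ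
  have hex : Function.Exact φf qf :=
    LocalizedModule.map_exact S φ _ (LinearMap.exact_map_mkQ_range φ)
  have hsurj : Function.Surjective qf :=
    LocalizedModule.map_surjective S _ (Submodule.mkQ_surjective _)
  obtain ⟨hKfin, hKproj⟩ := NakLoc.ker_finite_projective_of_surjective qf hsurj
  -- corestriction of `φf` to `ker qf`
  let φ' : LocalizedModule S P₁ →ₗ[Localization.Away f] LinearMap.ker qf :=
    φf.codRestrict (LinearMap.ker qf) (fun z => by
      rw [LinearMap.mem_ker]; exact (hex _).mpr ⟨z, rfl⟩)
  have hφ'surj : Function.Surjective φ' := by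
    rintro ⟨y, hy⟩
    obtain ⟨z, rfl⟩ := (hex y).mp hy
    exact ⟨z, rfl⟩
  obtain ⟨hfin, -⟩ := NakLoc.ker_finite_projective_of_surjective φ' hφ'surj
  have hker : LinearMap.ker φ' = LinearMap.ker φf := LinearMap.ker_codRestrict _ _ _
  rw [← hker]
  exact hfin

theorem isOpen_locus :
    IsOpen {p : PrimeSpectrum R | Function.Injective (φ.lTensor p.asIdeal.ResidueField)} := by
  classical
  haveI := fp_coker φ
  rw [isOpen_iff_forall_mem_open]
  intro p hp
  obtain ⟨hpfree, hpV⟩ := (mem_iff φ p).mp hp
  obtain ⟨_, ⟨f, rfl⟩, hpf, hfsub⟩ := PrimeSpectrum.isTopologicalBasis_basic_opens.exists_subset_of_mem_open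
    hpfree (Module.isOpen_freeLocus (M := P₂ ⧸ LinearMap.range φ))
  have hproj := Module.basicOpen_subset_freeLocus_iff.mp hfsub
  haveI := ker_map_finite φ f hproj
  set S := Submonoid.powers f
  set φf := LocalizedModule.map S φ
  obtain ⟨n, z, hz⟩ := Module.Finite.exists_fin (R := Localization.Away f)
    (M := LinearMap.ker φf)
  -- each generator is killed by some element outside `p`
  have hkill : ∀ i, ∃ s ∉ p.asIdeal, s • (z i : LocalizedModule S P₁) = 0 := by
    intro i
    have hzi : φf (z i : LocalizedModule S P₁) = 0 := (z i).2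
    revert hzi
    generalize (z i : LocalizedModule S P₁) = w
    induction w using LocalizedModule.induction_on with
    | h x t =>
      intro hw
      rw [LocalizedModule.map_mk, mk_eq_zero_iff] at hw
      obtain ⟨u, hu⟩ := hw
      have hux : u.1 • x ∈ LinearMap.ker φ := by
        rw [LinearMap.mem_ker, map_smul]; exact hu
      obtain ⟨s, hs, hs0⟩ := hpV _ hux
      refine ⟨s, hs, ?_⟩
      rw [LocalizedModule.smul'_mk, mk_eq_zero_iff]
      refine ⟨u, ?_⟩
      change u.1 • s • x = 0
      rw [smul_comm]; exact hs0
  choose s hs hs0 using hkill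
  set g : R := ∏ i, s i with hg
  have hgp : g ∉ p.asIdeal := by
    intro hmem
    obtain ⟨i, -, hi⟩ := (Ideal.IsPrime.prod_mem_iff).mp hmem
    exact hs i hi
  -- `g` kills the kernel
  have hgker : ∀ w : LinearMap.ker φf, g • (w : LocalizedModule S P₁) = 0 := by
    intro w
    have hw : w ∈ Submodule.span (Localization.Away f) (Set.range z) := by rw [hz]; trivial
    induction hw using Submodule.span_induction with
    | mem w hw =>
      obtain ⟨i, rfl⟩ := hw
      rw [hg, ← Finset.mul_prod_erase _ _ (Finset.mem_univ i), mul_comm, mul_smul, hs0, smul_zero]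
    | zero => simp
    | add a b _ _ ha hb => simp only [Submodule.coe_add, smul_add, ha, hb, add_zero]
    | smul a b _ hb =>
      simp only [Submodule.coe_smul]
      rw [smul_comm, hb, smul_zero]
  refine ⟨(basicOpen (f * g) : Set _), ?_, (basicOpen (f * g)).2, ?_⟩
  · intro q hq
    have hq' : f * g ∉ q.asIdeal := hq
    have hfq : f ∉ q.asIdeal := fun h => hq' (Ideal.mul_mem_right _ _ h)
    have hgq : g ∉ q.asIdeal := fun h => hq' (Ideal.mul_mem_left _ _ h)
    rw [Set.mem_setOf_eq, mem_iff φ q]
    refine ⟨hfsub hfq, ?_⟩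
    intro x hx
    have hmem : LocalizedModule.mk x (1 : S) ∈ LinearMap.ker φf := by
      rw [LinearMap.mem_ker, LocalizedModule.map_mk, LinearMap.mem_ker.mp hx,
        LocalizedModule.zero_mk]
    have := hgker ⟨_, hmem⟩
    rw [LocalizedModule.smul'_mk, mk_eq_zero_iff] at this
    obtain ⟨u, hu⟩ := this
    obtain ⟨k, hk⟩ := u.2
    refine ⟨f ^ k * g, ?_, ?_⟩
    · intro hmem'
      rcases q.2.mem_or_mem hmem' with h | h
      · exact hfq (q.2.mem_of_pow_mem k h)
      · exact hgq h
    · have hk' : f ^ k = u.1 := hk
      rw [mul_smul, hk']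
      exact hu
  · exact fun h => (p.2.mem_or_mem h).elim hpf hgp

end Groth.Agent.Helper1.InjLocus
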