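import Mathlib
import Groth.Agent.Lib.Helper1.VBP11
import Groth.Agent.Lib.Helper1.CurveAmp3
import Groth.Agent.Lib.Helper1.P1Iso2

/-!
# Intersection number of an invertible module with a closed subscheme of dimension ≤ 1 (helper1)
-/

set_option autoImplicit false
universe u
open CategoryTheory CategoryTheory.Limits AlgebraicGeometry TopologicalSpace Opposite

namespace Groth.Agent.Helper1.IntNum

open Groth.Agent.Helper1 Groth.Agent.Helper1.TwForm

theorem coeff_of_eval_affine (P : MvPolynomial (Fin 1) ℚ) (a b : ℚ)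
    (h : ∀ n : Fin 1 → ℕ, MvPolynomial.eval (fun i => (n i : ℚ)) P = a * (n 0 : ℚ) + b) :
    MvPolynomial.coeff (Finsupp.equivFunOnFinite.symm fun _ : Fin 1 => 1) P = a := by
  have hP : P = MvPolynomial.C a * MvPolynomial.X 0 + MvPolynomial.C b := by
    apply MvPolynomial.funext_set (fun _ => Set.range (Nat.cast : ℕ → ℚ))
      (fun _ => Set.infinite_range_of_injective Nat.cast_injective)
    intro x hx
    have hx' : ∀ i, ∃ n : ℕ, (n : ℚ) = x i := fun i => hx i (Set.mem_univ i)
    choose n hn using hx'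
    have : x = fun i => (n i : ℚ) := funext fun i => (hn i).symm
    rw [this, h n]
    simp
  rw [hP]
  have hm : (Finsupp.equivFunOnFinite.symm fun _ : Fin 1 => 1) = Finsupp.single (0 : Fin 1) 1 := by
    refine Finsupp.ext fun i => ?_
    fin_cases i
    simp
  have hne : (0 : Fin 1 →₀ ℕ) ≠ Finsupp.single (0 : Fin 1) 1 := by
    intro h0
    have := congrArg (fun f => f 0) h0
    simp at this
  rw [hm, MvPolynomial.coeff_add, MvPolynomial.coeff_C_mul, MvPolynomial.coeff_X' ,
    MvPolynomial.coeff_C, if_neg hne, if_pos rfl, mul_one, add_zero]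

variable (k : Type u) [Field k] (X : Scheme.{u}) [X.Over (Spec (CommRingCat.of k))]
  [IsProper (X ↘ (Spec (CommRingCat.of k)))]

theorem main (D : X.IdealSheafData) (hD : topologicalKrullDim (D.support : Set X) ≤ 1)
    (L : X.Modules) (hL : PicF.IsInvertible L) (P : MvPolynomial (Fin 1) ℚ)
    (hP : ∀ n : Fin 1 → ℕ, (Curv2.euler k X (Curv2.tensorPows (ClSub.quotMod D) 1 (fun _ => L) n) : ℚ) = MvPolynomial.eval (fun i => (n i : ℚ)) P) :
    MvPolynomial.coeff (Finsupp.equivFunOnFinite.symm fun _ : Fin 1 => 1) P =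
      (@Curv2.deg k _ D.subscheme ⟨D.subschemeι ≫ (X ↘ (Spec (CommRingCat.of k)))⟩
        ((Scheme.Modules.pullback D.subschemeι).obj L) 1 : ℚ) := by
  let ι := D.subschemeι
  letI : D.subscheme.Over (Spec (CommRingCat.of k)) := ⟨ι ≫ (X ↘ Spec (CommRingCat.of k))⟩
  haveI : IsProper (D.subscheme ↘ Spec (CommRingCat.of k)) := by
    change IsProper (ι ≫ (X ↘ Spec (CommRingCat.of k))); infer_instance
  have hdimZ : topologicalKrullDim D.subscheme ≤ 1 := hD
  have hM : PicF.IsInvertible ((Scheme.Modules.pullback ι).obj L) :=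
    PullGen.isInvertible_pullback ι hL
  have key : ∀ m : ℕ, Curv2.euler k X (CohB1.tensorMod (ClSub.quotMod D) (CohB1.tensorPow L m)) =
      m * Curv2.deg k D.subscheme ((Scheme.Modules.pullback ι).obj L) 1 +
        Curv2.euler k D.subscheme (Coh.structureModule D.subscheme) := by
    intro m
    have h1 := VBP.euler_push_tensor k ι rfl (M := Coh.structureModule D.subscheme)
      GenLoc.isInvertible_O (N := CohB1.tensorPow L m) (isInvertible_tensorPow hL m)
    rw [← h1]
    obtain ⟨e⟩ := P1Iso.nonempty_pullback_tensorPow_iso ι hL m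
    have e2 : CohB1.tensorMod (Coh.structureModule D.subscheme)
        ((Scheme.Modules.pullback ι).obj (CohB1.tensorPow L m)) ≅
        CohB1.tensorPow ((Scheme.Modules.pullback ι).obj L) m :=
      TildeTens.tensorModComm _ _ ≪≫ Groth.Agent.Lib.Helper5.LTenFlf.tensorUnitIso _ ≪≫ e
    rw [Euler.euler_iso k D.subscheme e2]
    have := CurveAmp.deg_tensorPow k D.subscheme hdimZ hM m
    unfold Curv2.deg at this ⊢
    push_cast at this ⊢
    linarith
  apply coeff_of_eval_affine P _ ((Curv2.euler k D.subscheme (Coh.structureModule D.subscheme) : ℤ) : ℚ)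
  intro n
  rw [← hP n]
  change ((Curv2.euler k X (CohB1.tensorMod (ClSub.quotMod D) (CohB1.tensorPow L (n 0))) : ℤ) : ℚ) = _
  rw [key]
  push_cast
  ring

end Groth.Agent.Helper1.IntNum
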