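import Mathlib
universe u v w w'
open scoped TensorProduct

namespace Groth.Agent.Helper1.InvL

section Avg
variable {A : Type u} [CommRing A] {Γ : Type v} [Group Γ] [Fintype Γ]
variable {M : Type w} [AddCommGroup M] [Module A M] [DistribMulAction Γ M] [SMulCommClass Γ A M]

/-- the averaging operator -/
noncomputable def avg (v : A) : M →ₗ[A] M := v • ∑ γ : Γ, DistribSMul.toLinearMap A M γ

omit [Fintype Γ] in
theorem avg_apply [Fintype Γ] (v : A) (m : M) : avg (Γ := Γ) v m = v • ∑ γ : Γ, γ • m := by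
  simp only [avg, LinearMap.smul_apply, LinearMap.sum_apply, DistribSMul.toLinearMap_apply]

theorem smul_avg (v : A) (m : M) (γ : Γ) : γ • avg (Γ := Γ) v m = avg (Γ := Γ) v m := by
  rw [avg_apply, smul_comm, Finset.smul_sum]
  congr 1
  simp_rw [← mul_smul]
  exact Fintype.sum_bijective (fun γ' => γ * γ') (Group.mulLeft_bijective γ) _ _ (fun _ => rfl)

theorem avg_of_fixed (v : A) (hv : v * (Fintype.card Γ : A) = 1) (m : M) (hm : ∀ γ : Γ, γ • m = m) :
    avg (Γ := Γ) v m = m := by
  rw [avg_apply]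
  simp_rw [hm]
  rw [Finset.sum_const, Finset.card_univ, ← Nat.cast_smul_eq_nsmul A, ← mul_smul, hv, one_smul]

theorem sub_avg (v : A) (hv : v * (Fintype.card Γ : A) = 1) (m : M) :
    m - avg (Γ := Γ) v m = v • ∑ γ : Γ, (m - γ • m) := by
  rw [avg_apply, Finset.sum_sub_distrib, smul_sub, Finset.sum_const, Finset.card_univ,
    ← Nat.cast_smul_eq_nsmul A, ← mul_smul, hv, one_smul]

end Avg

theorem exists_inv_card {A : Type u} [CommRing A] {Γ : Type v} [Group Γ] [Fintype Γ]
    (hΓ : IsUnit (Nat.card Γ : A)) : ∃ v : A, v * (Fintype.card Γ : A) = 1 := by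
  obtain ⟨v, hv⟩ := hΓ.exists_left_inv
  exact ⟨v, by rwa [Nat.card_eq_fintype_card] at hv⟩

theorem invariants_surjective
    (A : Type u) [CommRing A] (Γ : Type v) [Group Γ] [Finite Γ] (hΓ : IsUnit (Nat.card Γ : A))
    (M : Type w) [AddCommGroup M] [Module A M] [DistribMulAction Γ M] [SMulCommClass Γ A M]
    (N : Type w') [AddCommGroup N] [Module A N] [DistribMulAction Γ N] [SMulCommClass Γ A N]
    (f : M →ₗ[A] N) (hf : ∀ (γ : Γ) (m : M), f (γ • m) = γ • f m)
    (hsurj : Function.Surjective f) (n : N) (hn : ∀ γ : Γ, γ • n = n) :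
    ∃ m : M, (∀ γ : Γ, γ • m = m) ∧ f m = n := by
  classical
  let := Fintype.ofFinite Γ
  obtain ⟨v, hv⟩ := exists_inv_card (Γ := Γ) hΓ
  obtain ⟨m0, rfl⟩ := hsurj n
  refine ⟨avg (Γ := Γ) v m0, fun γ => smul_avg v m0 γ, ?_⟩
  rw [avg_apply, map_smul, map_sum]
  simp_rw [hf, hn]
  rw [Finset.sum_const, Finset.card_univ, ← Nat.cast_smul_eq_nsmul A, ← mul_smul, hv, one_smul]

theorem invariants_mod_ideal
    (A : Type u) [CommRing A] (Γ : Type v) [Group Γ] [Finite Γ] (hΓ : IsUnit (Nat.card Γ : A))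
    (M : Type w) [AddCommGroup M] [Module A M] [DistribMulAction Γ M] [SMulCommClass Γ A M]
    (I : Ideal A) :
    (∀ x : M, (∀ γ : Γ, γ • x - x ∈ I • (⊤ : Submodule A M)) →
        ∃ y : M, (∀ γ : Γ, γ • y = y) ∧ x - y ∈ I • (⊤ : Submodule A M)) ∧
      ∀ y : M, (∀ γ : Γ, γ • y = y) → y ∈ I • (⊤ : Submodule A M) →
        y ∈ I • Submodule.span A {m : M | ∀ γ : Γ, γ • m = m} := by
  classical
  let := Fintype.ofFinite Γ
  obtain ⟨v, hv⟩ := exists_inv_card (Γ := Γ) hΓ
  constructor
  · intro x hx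
    refine ⟨avg (Γ := Γ) v x, fun γ => smul_avg v x γ, ?_⟩
    rw [sub_avg v hv]
    apply Submodule.smul_mem
    apply Submodule.sum_mem
    intro γ _
    rw [← neg_sub]
    exact Submodule.neg_mem _ (hx γ)
  · intro y hy hyI
    have h1 : avg (Γ := Γ) v y ∈ (I • (⊤ : Submodule A M)).map (avg (Γ := Γ) v) :=
      Submodule.mem_map_of_mem hyI
    rw [avg_of_fixed v hv y hy, Submodule.map_smul''] at h1
    refine Submodule.smul_mono le_rfl ?_ h1
    rintro _ ⟨m, -, rfl⟩
    exact Submodule.subset_span (fun γ => smul_avg v m γ)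


theorem invariants_baseChange
    (A : Type u) [CommRing A] (R : Type v) [CommRing R] [Algebra A R]
    (Γ : Type w) [Group Γ] [Finite Γ] [MulSemiringAction Γ R] [SMulCommClass Γ A R]
    [Algebra.IsInvariant A R Γ] (hinj : Function.Injective (algebraMap A R))
    (hΓ : IsUnit (Nat.card Γ : R))
    (S : Type w') [CommRing S] [Algebra A S] :
    Function.Injective (fun s : S => s ⊗ₜ[A] (1 : R)) ∧
      ∀ x : S ⊗[A] R,
        (∀ γ : Γ, Algebra.TensorProduct.map (AlgHom.id A S) (MulSemiringAction.toAlgHom A R γ) x = x) →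
          x ∈ Set.range (fun s : S => s ⊗ₜ[A] (1 : R)) := by
  classical
  let := Fintype.ofFinite Γ
  -- the inverse of |Γ| lies in A
  obtain ⟨u, hu⟩ := hΓ.exists_left_inv
  have hfixA : ∀ (a : A) (γ : Γ), γ • algebraMap A R a = algebraMap A R a := by
    intro a γ
    rw [Algebra.algebraMap_eq_smul_one, smul_comm, smul_one]
  have hcardfix : ∀ γ : Γ, γ • (Nat.card Γ : R) = (Nat.card Γ : R) := by
    intro γ
    have := hfixA (Nat.card Γ : A) γ
    simpa using this
  have hufix : ∀ γ : Γ, γ • u = u := by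
    intro γ
    have h1 : (γ • u) * (Nat.card Γ : R) = 1 := by
      rw [← hcardfix γ, ← smul_mul', hu, smul_one]
    calc γ • u = (γ • u) * (u * (Nat.card Γ : R)) := by rw [hu, mul_one]
      _ = ((γ • u) * (Nat.card Γ : R)) * u := by ring
      _ = u := by rw [h1, one_mul]
  obtain ⟨v, hv⟩ := Algebra.IsInvariant.isInvariant (A := A) (G := Γ) u hufix
  have hvcard : v * (Fintype.card Γ : A) = 1 := by
    apply hinj
    rw [map_mul, hv, map_natCast, map_one, ← Nat.card_eq_fintype_card]
    exact hu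
  -- the retraction ρ : R → A
  have hex : ∀ r : R, ∃ a : A, algebraMap A R a = avg (Γ := Γ) v r := fun r =>
    Algebra.IsInvariant.isInvariant (A := A) (G := Γ) _ (fun γ => smul_avg v r γ)
  choose ρ0 hρ0 using hex
  let ρ : R →ₗ[A] A :=
    { toFun := ρ0
      map_add' := fun r r' => hinj (by rw [map_add, hρ0, hρ0, hρ0, map_add])
      map_smul' := fun a r => hinj (by
        rw [RingHom.id_apply, hρ0, map_smul, smul_eq_mul, map_mul, hρ0, Algebra.smul_def]) }
  have hρ : ∀ r, algebraMap A R (ρ r) = avg (Γ := Γ) v r := hρ0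
  have hρalg : ∀ a : A, ρ (algebraMap A R a) = a := by
    intro a
    apply hinj
    rw [hρ, avg_of_fixed v hvcard _ (hfixA a)]
  -- the composite S → S ⊗ R → S ⊗ A ≅ S is the identity
  let τ : S ⊗[A] R →ₗ[A] S := (TensorProduct.rid A S).toLinearMap ∘ₗ (LinearMap.lTensor S ρ)
  have hτ : ∀ s : S, τ (s ⊗ₜ[A] (1 : R)) = s := by
    intro s
    simp only [τ, LinearMap.comp_apply, LinearMap.lTensor_tmul, LinearEquiv.coe_coe]
    have : ρ (1 : R) = 1 := by
      have := hρalg 1
      rwa [map_one] at this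
    rw [this, TensorProduct.rid_tmul, one_smul]
  constructor
  · intro s s' h
    have := congrArg τ h
    simpa [hτ] using this
  · intro x hx
    refine ⟨τ x, ?_⟩
    -- x = (id ⊗ avg) x
    have hgen : ∀ y : S ⊗[A] R, LinearMap.lTensor S (avg (Γ := Γ) (M := R) v) y =
        v • ∑ γ : Γ, Algebra.TensorProduct.map (AlgHom.id A S) (MulSemiringAction.toAlgHom A R γ) y := by
      intro y
      induction y using TensorProduct.induction_on with
      | zero => simp
      | tmul s r =>
        simp only [LinearMap.lTensor_tmul, avg_apply, Algebra.TensorProduct.map_tmul, AlgHom.coe_id, id_eq,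
          MulSemiringAction.toAlgHom_apply, TensorProduct.tmul_smul, TensorProduct.tmul_sum]
      | add a b ha hb =>
        simp only [map_add, ha, hb, Finset.sum_add_distrib, smul_add]
    have h1 : LinearMap.lTensor S (avg (Γ := Γ) (M := R) v) x = x := by
      rw [hgen]
      simp_rw [hx]
      rw [Finset.sum_const, Finset.card_univ, ← Nat.cast_smul_eq_nsmul A, ← mul_smul, hvcard, one_smul]
    -- avg = algebraMap ∘ ρ
    have h2 : avg (Γ := Γ) (M := R) v = (Algebra.linearMap A R) ∘ₗ ρ := by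
      ext r
      simp only [LinearMap.comp_apply, Algebra.linearMap_apply, hρ]
    rw [h2, LinearMap.lTensor_comp, LinearMap.comp_apply] at h1
    have hz : ∀ z : S ⊗[A] A, (TensorProduct.rid A S z) ⊗ₜ[A] (1 : R) =
        LinearMap.lTensor S (Algebra.linearMap A R) z := by
      intro z
      induction z using TensorProduct.induction_on with
      | zero => simp
      | tmul s a =>
        simp only [TensorProduct.rid_tmul, LinearMap.lTensor_tmul, Algebra.linearMap_apply]
        rw [TensorProduct.smul_tmul, Algebra.smul_def, mul_one]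
      | add a b ha hb =>
        simp only [map_add, TensorProduct.add_tmul, ha, hb]
    change (TensorProduct.rid A S (LinearMap.lTensor S ρ x)) ⊗ₜ[A] (1 : R) = x
    rw [hz, h1]

end Groth.Agent.Helper1.InvL
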