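import Mathlib

set_option autoImplicit false
universe u

namespace Groth.Agent.Helper1.InvT

open Module

/-- a module which is free of rank one on a spanning family of basic localizations is projective
of rank one -/
theorem projective_rank_one_of_span {R : Type u} [CommRing R] {M : Type u} [AddCommGroup M] [Module R M]
    (s : Set R) (hs : Ideal.span s = ⊤)
    {Mₚ : ∀ (_ : s), Type u} [∀ (g : s), AddCommGroup (Mₚ g)] [∀ (g : s), Module R (Mₚ g)]
    {Rₚ : ∀ (_ : s), Type u} [∀ (g : s), CommRing (Rₚ g)] [∀ (g : s), Algebra R (Rₚ g)]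
    [∀ (g : s), IsLocalization.Away g.val (Rₚ g)]
    [∀ (g : s), Module (Rₚ g) (Mₚ g)] [∀ (g : s), IsScalarTower R (Rₚ g) (Mₚ g)]
    (ϕ : ∀ (g : s), M →ₗ[R] Mₚ g) (hϕ : ∀ (g : s), IsLocalizedModule (Submonoid.powers g.val) (ϕ g))
    (h : ∀ (g : s), Nonempty (Mₚ g ≃ₗ[Rₚ g] Rₚ g)) :
    Module.Projective R M ∧ ∀ p : PrimeSpectrum R, Module.rankAtStalk M p = 1 := by
  haveI := hϕ
  have hfp : Module.FinitePresentation R M := by
    refine Module.FinitePresentation.of_localizationSpan' s hs (Rₚ := Rₚ) ϕ (fun g => ?_)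
    obtain ⟨e⟩ := h g
    exact Module.finitePresentation_of_surjective e.symm.toLinearMap e.symm.surjective
      (by rw [LinearEquiv.ker e.symm]; exact Submodule.fg_bot)
  have hflat : Module.Flat R M := by
    refine Module.flat_of_isLocalized_span (R := R) (S := R) (M := M) s hs Mₚ ϕ (fun g => ?_)
    obtain ⟨e⟩ := h g
    have : Module.Flat R (Rₚ g) := IsLocalization.flat (Rₚ g) (Submonoid.powers g.val)
    exact Module.Flat.of_linearEquiv (e.restrictScalars R)
  have hproj : Module.Projective R M := Module.Flat.projective_of_finitePresentation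
  have hfin : Module.Finite R M := inferInstance
  refine ⟨hproj, fun p => ?_⟩
  -- some `g ∈ s` is not in `p`
  obtain ⟨g, hgs, hgp⟩ : ∃ g ∈ s, g ∉ p.asIdeal := by
    by_contra hcon
    push Not at hcon
    have : Ideal.span s ≤ p.asIdeal := Ideal.span_le.2 hcon
    rw [hs] at this
    exact p.isPrime.ne_top (top_le_iff.1 this)
  let g' : s := ⟨g, hgs⟩
  have hloc : IsLocalization (Submonoid.powers g) (Rₚ g') :=
    inferInstanceAs (IsLocalization.Away g'.val (Rₚ g'))
  have hdisj : Disjoint (Submonoid.powers g : Set R) (p.asIdeal : Set R) := by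
    rw [Set.disjoint_left]
    rintro _ ⟨n, rfl⟩ hmem
    exact hgp (p.isPrime.mem_of_pow_mem n hmem)
  have hprime : (Ideal.map (algebraMap R (Rₚ g')) p.asIdeal).IsPrime :=
    IsLocalization.isPrime_of_isPrime_disjoint (Submonoid.powers g) (Rₚ g') _ p.isPrime hdisj
  let p' : PrimeSpectrum (Rₚ g') := ⟨Ideal.map (algebraMap R (Rₚ g')) p.asIdeal, hprime⟩
  have hcomap : p'.comap (algebraMap R (Rₚ g')) = p := by
    apply PrimeSpectrum.ext
    exact IsLocalization.under_map_of_isPrime_disjoint (Submonoid.powers g) (Rₚ g') p.isPrime hdisj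
  have hlocM : IsLocalizedModule (Submonoid.powers g) (ϕ g') :=
    inferInstanceAs (IsLocalizedModule (Submonoid.powers g'.val) (ϕ g'))
  have hbc : IsBaseChange (Rₚ g') (ϕ g') :=
    IsLocalizedModule.isBaseChange (Submonoid.powers g) (Rₚ g') (ϕ g')
  have h1 := Module.rankAtStalk_isBaseChange hbc p'
  rw [hcomap] at h1
  rw [← h1]
  obtain ⟨e⟩ := h g'
  have : Nontrivial (Rₚ g') := ⟨⟨0, 1, fun h01 => hprime.ne_top ((Ideal.eq_top_iff_one _).2 (h01 ▸ Ideal.zero_mem _))⟩⟩
  rw [Module.rankAtStalk_eq_of_equiv e, Module.rankAtStalk_self]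
  rfl

end Groth.Agent.Helper1.InvT
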