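import Mathlib
import Groth.Agent.Lib.Helper1.InvT1
import Groth.Agent.Lib.Helper1.InvT2

set_option autoImplicit false
universe u
open CategoryTheory CategoryTheory.Limits AlgebraicGeometry TopologicalSpace Opposite

namespace Groth.Agent.Helper1.InvT

open Groth.Agent.Helper1.QcCech Groth.Agent.Helper1.LGen Groth.Agent.Helper1.TwistSec PrimeSpectrum

variable {R : CommRingCat.{u}}

/-- the restriction map to a basic open, as an `R`-linear map -/
noncomputable def rho (N : (Spec R).Modules) (g : R) :=
  ((modulesSpecToSheaf.obj N).obj.map (basicOpen g).leTop.op).hom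

theorem rho_apply (N : (Spec R).Modules) (g : R) (t : Γ(N, ⊤)) :
    (rho N g t : Γ(N, basicOpen g)) = res N (le_top : basicOpen g ≤ ⊤) t := rfl

instance (N : (Spec R).Modules) [N.IsQuasicoherent] (g : R) :
    IsLocalizedModule (Submonoid.powers g) (rho N g) :=
  (isIso_fromTildeΓ_iff_isLocalizing N).1 inferInstance g

/-- the global sections of an invertible module on `Spec R` form a projective module of rank one -/
theorem projective_rank_one_of_isInvertible (N : (Spec R).Modules) [N.IsQuasicoherent]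
    (hN : PicF.IsInvertible N) :
    Module.Projective R Γ(N, ⊤) ∧
      ∀ p : PrimeSpectrum R, Module.rankAtStalk (R := R) Γ(N, ⊤) p = 1 := by
  let s : Set R := {g : R | ∃ a : Γ(N, basicOpen g), IsGen N (basicOpen g) a}
  have hs : Ideal.span s = ⊤ := by
    by_contra hne
    obtain ⟨m, hm, hle⟩ := Ideal.exists_le_maximal _ hne
    let x : Spec R := (⟨m, hm.isPrime⟩ : PrimeSpectrum R)
    obtain ⟨W, a, hxW, ha⟩ := exists_isGen hN x
    obtain ⟨_, ⟨_, ⟨g, rfl⟩, rfl⟩, hxg, hgW : basicOpen _ ≤ _⟩ :=
      PrimeSpectrum.isBasis_basic_opens.exists_subset_of_mem_open hxW W.2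
    have hgs : g ∈ s := ⟨res N hgW a, ha.res hgW⟩
    exact hxg (hle (Ideal.subset_span hgs))
  have hI : ∀ g : s, IsLocalizedModule (Submonoid.powers g.1) (rho N g.1) := fun g => inferInstance
  refine projective_rank_one_of_span (M := ↑((modulesSpecToSheaf.obj N).obj.obj (op ⊤))) s hs
    (Mₚ := fun g => Γ(N, basicOpen g.1)) (Rₚ := fun g => Γ(Spec R, basicOpen g.1))
    (fun g => rho N g.1) hI (fun g => ?_)
  obtain ⟨a, ha⟩ := g.2
  have hb := ha (basicOpen g.1) le_rfl
  rw [res_self] at hb
  exact ⟨(LinearEquiv.ofBijective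
    (LinearMap.toSpanSingleton Γ(Spec R, basicOpen g.1) Γ(N, basicOpen g.1) a) hb).symm⟩

end Groth.Agent.Helper1.InvT
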