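import Mathlib

set_option autoImplicit false
universe u

namespace Groth.Agent.Helper1.InvT

/-- a trivialization of the localization at `r` provides an element which freely generates
after inverting `r` -/
theorem exists_gen_of_equiv {R : Type u} [CommRing R] {M : Type u} [AddCommGroup M] [Module R M]
    (r : R) (e : LocalizedModule.Away r M ≃ₗ[Localization.Away r] Localization.Away r) :
    ∃ p : M, (∀ m : M, ∃ (n : ℕ) (c : R), r ^ n • m = c • p) ∧
      (∀ c : R, c • p = 0 → ∃ n : ℕ, r ^ n * c = 0) := by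
  let S := Submonoid.powers r
  let ρ := LocalizedModule.mkLinearMap S M
  obtain ⟨⟨m₀, s₀⟩, hm₀⟩ := IsLocalizedModule.surj S ρ (e.symm 1)
  have hm₀' : s₀.1 • e.symm 1 = ρ m₀ := hm₀
  -- `e (ρ m₀) = s₀`
  have he0 : e (ρ m₀) = algebraMap R (Localization.Away r) s₀.1 := by
    rw [← hm₀', ← algebraMap_smul (Localization.Away r) s₀.1 (e.symm 1), map_smul,
      LinearEquiv.apply_symm_apply, smul_eq_mul, mul_one]
  have hunit : ∀ s : S, IsUnit (algebraMap R (Localization.Away r) s.1) :=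
    fun s => IsLocalization.map_units _ s
  have hρe : ∀ (x : R) (m : M), e (ρ (x • m)) = algebraMap R (Localization.Away r) x * e (ρ m) := by
    intro x m
    rw [LinearMap.map_smul ρ x m, ← algebraMap_smul (Localization.Away r) x (ρ m),
      LinearEquiv.map_smul, smul_eq_mul]
  refine ⟨m₀, ?_, ?_⟩
  · intro m
    obtain ⟨⟨c, s⟩, hcs⟩ := IsLocalization.surj S (e (ρ m))
    have hcs' : e (ρ m) * algebraMap R _ s.1 = algebraMap R _ c := hcs
    -- `e (ρ ((s * s₀) • m)) = e (ρ (c • m₀))`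
    have e1 : e (ρ ((s.1 * s₀.1) • m)) = e (ρ (c • m₀)) := by
      rw [hρe, hρe, he0, ← hcs', map_mul]
      ring
    have e2 := e.injective e1
    obtain ⟨t, ht⟩ := (IsLocalizedModule.eq_iff_exists S ρ).1 e2
    obtain ⟨a, ha⟩ := t.2
    obtain ⟨b, hb⟩ := s.2
    obtain ⟨d, hd⟩ := s₀.2
    simp only at ha hb hd
    refine ⟨a + (b + d), t.1 * c, ?_⟩
    have ht' : t.1 • (s.1 * s₀.1) • m = t.1 • c • m₀ := ht
    rw [mul_smul, ← ht', ← mul_smul, pow_add, pow_add]
    change (r ^ a * (r ^ b * r ^ d)) • m = _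
    rw [ha, hb, hd]
  · intro c hc
    have e1 : e (ρ (c • m₀)) = 0 := by rw [hc, map_zero, map_zero]
    rw [hρe, he0, ← map_mul] at e1
    obtain ⟨t, ht⟩ := (IsLocalization.map_eq_zero_iff S _ _).1 e1
    obtain ⟨a, ha⟩ := t.2
    obtain ⟨d, hd⟩ := s₀.2
    simp only at ha hd
    refine ⟨a + d, ?_⟩
    rw [pow_add]
    change r ^ a * r ^ d * c = 0
    rw [ha, hd, mul_assoc, mul_comm s₀.1 c]
    exact ht

end Groth.Agent.Helper1.InvT
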