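import Mathlib
import Groth.Agent.Lib.Helper1.InvT3
import Groth.Agent.Lib.Helper1.InvT4
import Groth.Agent.Lib.Helper1.InvT5
import Groth.Agent.Lib.Helper1.TwForm4

set_option autoImplicit false
universe u
open CategoryTheory CategoryTheory.Limits AlgebraicGeometry TopologicalSpace Opposite

namespace Groth.Agent.Helper1.InvT

open Groth.Agent.Helper1.QcCech Groth.Agent.Helper1.LGen Groth.Agent.Helper1.TwistSec PrimeSpectrum

variable {R : CommRingCat.{u}}

set_option backward.isDefEq.respectTransparency.types false in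
/-- the restriction map to a basic open, as an `R`-linear map between modules of sections -/
noncomputable def rho' (N : (Spec R).Modules) (g : R) : Γ(N, ⊤) →ₗ[R] Γ(N, basicOpen g) :=
  rho N g

theorem rho'_apply (N : (Spec R).Modules) (g : R) (t : Γ(N, ⊤)) :
    rho' N g t = res N (le_top : basicOpen g ≤ ⊤) t := rfl

set_option backward.isDefEq.respectTransparency.types false in
instance (N : (Spec R).Modules) [N.IsQuasicoherent] (g : R) :
    IsLocalizedModule (Submonoid.powers g) (rho' N g) :=
  (isIso_fromTildeΓ_iff_isLocalizing N).1 inferInstance g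

theorem isGen_of_gen (N : (Spec R).Modules) [N.IsQuasicoherent] (p : Γ(N, ⊤)) (g : R)
    (h1 : ∀ m : Γ(N, ⊤), ∃ (n : ℕ) (c : R), g ^ n • m = c • p)
    (h2 : ∀ c : R, c • p = 0 → ∃ n : ℕ, g ^ n * c = 0) :
    IsGen N (basicOpen g) (res N (le_top : basicOpen g ≤ ⊤) p) := by
  apply isGen_of_basis _ (Set.range (fun h : R => basicOpen h))
  · intro V x hx hVW
    obtain ⟨_, ⟨_, ⟨h, rfl⟩, rfl⟩, hxh, hhV : basicOpen _ ≤ _⟩ :=
      PrimeSpectrum.isBasis_basic_opens.exists_subset_of_mem_open hx V.2
    exact ⟨basicOpen h, ⟨h, rfl⟩, hxh, hhV⟩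
  · rintro _ ⟨h, rfl⟩ hle
    have hrad : h ∈ (Ideal.span {g}).radical := (PrimeSpectrum.basicOpen_le_basicOpen_iff h g).1 hle
    obtain ⟨k, hk⟩ := hrad
    obtain ⟨u, hu⟩ := Ideal.mem_span_singleton'.1 hk
    have hb := bijective_smul_of_gen (A := Γ(Spec R, basicOpen h))
      p g h u k hu.symm h1 h2 (rho' N h) inferInstance
    have e : res N hle (res N (le_top : basicOpen g ≤ ⊤) p) = rho' N h p := by
      rw [res_res]; rfl
    simp only [e]
    exact hb

/-- a quasi-coherent module on `Spec R` with invertible module of global sections is invertible -/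
theorem isInvertible_of_invertible (N : (Spec R).Modules) [N.IsQuasicoherent]
    (hN : Module.Invertible R Γ(N, ⊤)) : PicF.IsInvertible N := by
  apply TwForm.isInvertible_of_locGen
  intro x
  obtain ⟨s, hs, hfree⟩ := Module.Invertible.exists_finset_free_localization R Γ(N, ⊤)
  obtain ⟨r, hrs, hrx⟩ : ∃ r ∈ s, r ∉ (x : PrimeSpectrum R).asIdeal := by
    by_contra hcon
    push Not at hcon
    have : Ideal.span (s : Set R) ≤ (x : PrimeSpectrum R).asIdeal := Ideal.span_le.2 hcon
    rw [hs] at this
    exact (x : PrimeSpectrum R).isPrime.ne_top (top_le_iff.1 this)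
  have hf := hfree r hrs
  obtain ⟨e⟩ := (Module.Invertible.free_iff_linearEquiv (R := Localization.Away r)
    (M := LocalizedModule.Away r Γ(N, ⊤))).1 hf
  obtain ⟨p, h1, h2⟩ := exists_gen_of_equiv r e
  exact ⟨basicOpen r, res N (le_top : basicOpen r ≤ ⊤) p, hrx, isGen_of_gen N p r h1 h2⟩

end Groth.Agent.Helper1.InvT
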