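import Mathlib
import Groth.Agent.Lib.Helper1.InvT6
import Groth.Agent.Lib.Helper1.ProjUP4
import Groth.Prelude.Def_ProjUP

set_option autoImplicit false
universe u
open CategoryTheory CategoryTheory.Limits AlgebraicGeometry TopologicalSpace Opposite

namespace Groth.Agent.Helper1.InvT

open Groth.Agent.Helper1.QcCech Groth.Agent.Helper1.LGen Groth.Agent.Helper1.TwistSec PrimeSpectrum

variable {R : CommRingCat.{u}}

/-- on global sections, the action of `R` is the action of `Γ(Spec R, ⊤)` through `ΓSpecIso` -/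
theorem top_smul (N : (Spec R).Modules) (r : R) (x : Γ(N, ⊤)) :
    (Scheme.ΓSpecIso R).inv.hom r • x = r • x := by
  rw [Scheme.Modules.smul_Spec_def]
  congr 1

/-- elements spanning a module give generating sections of the associated module -/
theorem generatedBy_tilde (PM : ModuleCat.{u} R) {ι : Type*} (c : ι → PM)
    (hc : Submodule.span R (Set.range c) = ⊤) :
    ProjUP.GeneratedBy (tilde PM) (fun i => (tilde.toOpen PM ⊤).hom (c i)) := by
  intro x
  rw [eq_top_iff]
  intro z _
  obtain ⟨V, -, hxV, m, rfl⟩ := TopCat.Presheaf.exists_le_germ_eq (tilde PM).presheaf z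
    (show x ∈ (⊤ : (Spec R).Opens) from trivial)
  obtain ⟨_, ⟨_, ⟨h, rfl⟩, rfl⟩, hxh, hhV : basicOpen _ ≤ _⟩ :=
    PrimeSpectrum.isBasis_basic_opens.exists_subset_of_mem_open hxV V.2
  have hgerm : ((tilde PM).presheaf.germ V x hxV).hom m =
      ((tilde PM).presheaf.germ (basicOpen h) x hxh).hom (res (tilde PM) hhV m) :=
    (TopCat.Presheaf.germ_res_apply (tilde PM).presheaf (homOfLE hhV) x hxh m).symm
  rw [hgerm]
  generalize res (tilde PM) hhV m = m'
  obtain ⟨⟨m0, s⟩, hms⟩ := IsLocalizedModule.surj (Submonoid.powers h) (rho' (tilde PM) h) m'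
  have hms' : s.1 • m' = rho' (tilde PM) h m0 := hms
  -- `m0` comes from `PM`
  obtain ⟨p0, rfl⟩ : ∃ p0 : PM, (tilde.toOpen PM ⊤).hom p0 = m0 := by
    have hb := (ConcreteCategory.isIso_iff_bijective (tilde.toOpen PM ⊤)).1 inferInstance
    exact hb.2 m0
  set T := Submodule.span ((Spec R).presheaf.stalk x)
    (Set.range fun i => ((tilde PM).presheaf.germ ⊤ x trivial).hom ((tilde.toOpen PM ⊤).hom (c i)))
    with hT
  let G : PM →ₗ[R] Γ(tilde PM, basicOpen h) := (rho' (tilde PM) h).comp (tilde.toOpen PM ⊤).hom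
  let γ : Γ(tilde PM, basicOpen h) →+ ↑((tilde PM).presheaf.stalk x) :=
    ((tilde PM).presheaf.germ (basicOpen h) x hxh).hom
  have hγ : ∀ (a : Γ(Spec R, basicOpen h)) (y : Γ(tilde PM, basicOpen h)),
      γ (a • y) = ((Spec R).presheaf.germ (basicOpen h) x hxh).hom a • γ y :=
    fun a y => ProjUP4.germ_smul' (tilde PM) x (basicOpen h) hxh a y
  have key : ∀ p : PM, p ∈ Submodule.span R (Set.range c) → γ (G p) ∈ T := by
    intro p hp
    induction hp using Submodule.span_induction with
    | mem y hy =>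
      obtain ⟨i, rfl⟩ := hy
      apply Submodule.subset_span
      refine ⟨i, ?_⟩
      exact (TopCat.Presheaf.germ_res_apply (tilde PM).presheaf
        (homOfLE (le_top : basicOpen h ≤ ⊤)) x hxh _).symm
    | zero => rw [map_zero, map_zero]; exact Submodule.zero_mem _
    | add y z _ _ hy hz => rw [map_add, map_add]; exact Submodule.add_mem _ hy hz
    | smul r y _ hy =>
      rw [map_smul, ← algebraMap_smul Γ(Spec R, basicOpen h) r (G y), hγ]
      exact Submodule.smul_mem _ _ hy
  have h1 := key p0 (by rw [hc]; trivial)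
  have h1' : G p0 = algebraMap R Γ(Spec R, basicOpen h) s.1 • m' := by
    rw [algebraMap_smul]; exact hms'.symm
  rw [h1', hγ] at h1
  have hu : IsUnit (((Spec R).presheaf.germ (basicOpen h) x hxh).hom
      (algebraMap R Γ(Spec R, basicOpen h) s.1)) :=
    (IsLocalization.map_units Γ(Spec R, basicOpen h) s).map _
  have h2 := Submodule.smul_mem T (hu.unit⁻¹ : ((Spec R).presheaf.stalk x)ˣ).1 h1
  rwa [← mul_smul, IsUnit.val_inv_mul, one_smul] at h2

end Groth.Agent.Helper1.InvT
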