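import Mathlib
import Groth.Agent.Lib.Helper1.InvT7
import Groth.Agent.Lib.Helper1.VA1
import Groth.Agent.Lib.Helper1.ProjUP10
import Groth.Agent.Lib.Helper1.InvQc
import Groth.Agent.Lib.Helper2.Alg.RankOne
import Groth.Agent.S3572

set_option autoImplicit false
universe u
open CategoryTheory CategoryTheory.Limits AlgebraicGeometry TopologicalSpace Opposite

namespace Groth.Agent.Helper1.InvT

open Groth.Agent.Helper1.QcCech Groth.Agent.Helper1.LGen Groth.Agent.Helper1.TwistSec PrimeSpectrum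
open Groth.Agent.Helper1 Groth.Agent.Helper1.AmpleLib

variable (R : CommRingCat.{u}) (n : ℕ)

theorem mem_secKernel_iff (s : Spec R ⟶ CohB1.ProjSpace n R) (c : Fin (n + 1) → R) :
    c ∈ ProjUP.secKernel n R s ↔
      ∑ j, (Scheme.ΓSpecIso R).inv.hom (c j) •
        ProjUP.pullSec s (Twist.twistProjSpace n R 1) (ProjUP.coord n R j) = 0 := by
  let _ : Module R (ProjUP.Γm ((Scheme.Modules.pullback s).obj (Twist.twistProjSpace n R 1))) :=
    Module.compHom _ (Scheme.ΓSpecIso R).inv.hom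
  change Fintype.linearCombination R _ c = 0 ↔ _
  rw [Fintype.linearCombination_apply]
  rfl

theorem backward (F : Submodule R (Fin (n + 1) → R))
    (hproj : Module.Projective R ((Fin (n + 1) → R) ⧸ F))
    (hrank : ∀ p : PrimeSpectrum R, Module.rankAtStalk ((Fin (n + 1) → R) ⧸ F) p = 1) :
    ∃ s : Spec R ⟶ CohB1.ProjSpace n R,
      s ≫ CohB1.ProjSpace.toSpec n R = 𝟙 (Spec R) ∧ ProjUP.secKernel n R s = F := by
  set PM : ModuleCat.{u} R := ModuleCat.of R ((Fin (n + 1) → R) ⧸ F) with hPM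
  have hinvP : Module.Invertible R ((Fin (n + 1) → R) ⧸ F) :=
    Groth.Agent.Helper2.RankOne.invertible hrank
  let e : PM ≃ₗ[R] ↑((modulesSpecToSheaf.obj (tilde PM)).presheaf.obj (op ⊤)) :=
    (tilde.isoTop PM).toLinearEquiv
  have hinvΓ : Module.Invertible R Γ(tilde PM, ⊤) := Module.Invertible.congr e
  have hN : PicF.IsInvertible (tilde PM) := isInvertible_of_invertible (tilde PM) hinvΓ
  let c : Fin (n + 1) → PM := fun i => F.mkQ (Pi.single i 1)
  have hsum : ∀ a : Fin (n + 1) → R, ∑ j, a j • c j = F.mkQ a := by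
    intro a
    simp only [c, ← map_smul]
    rw [← map_sum]
    congr 1
    ext i
    simp [Finset.sum_apply, Pi.single_apply]
  have hc : Submodule.span R (Set.range c) = ⊤ := by
    rw [eq_top_iff]
    rintro y -
    obtain ⟨a, rfl⟩ := F.mkQ_surjective y
    rw [← hsum a]
    exact Submodule.sum_mem _ fun j _ => Submodule.smul_mem _ _ (Submodule.subset_span ⟨j, rfl⟩)
  let t : Fin (n + 1) → ProjUP.Γm (tilde PM) := fun i => (tilde.toOpen PM ⊤).hom (c i)
  have ht : ProjUP.GeneratedBy (tilde PM) t := generatedBy_tilde PM c hc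
  obtain ⟨r, hr, τ, hτ⟩ := Groth.Agent.S3572.result (R := R) n (X := Spec R) (𝟙 (Spec R)) (tilde PM) hN t ht
  refine ⟨r, hr, ?_⟩
  ext a
  rw [mem_secKernel_iff]
  have hbij : Function.Bijective (τ.hom.app ⊤) :=
    (ConcreteCategory.isIso_iff_bijective (τ.hom.app ⊤)).1 inferInstance
  have hinj0 : Function.Bijective (tilde.toOpen PM ⊤).hom :=
    (ConcreteCategory.isIso_iff_bijective (tilde.toOpen PM ⊤)).1 tilde.isIso_toOpen_top
  have h1 : τ.hom.app ⊤ (∑ j, (Scheme.ΓSpecIso R).inv.hom (a j) •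
        ProjUP.pullSec r (Twist.twistProjSpace n R 1) (ProjUP.coord n R j)) =
      (tilde.toOpen PM ⊤).hom (F.mkQ a) := by
    rw [map_sum, ← hsum a, map_sum]
    refine Finset.sum_congr rfl fun j _ => ?_
    rw [Scheme.Modules.Hom.app_smul, hτ, map_smul]
    exact top_smul (tilde PM) (a j) (t j)
  constructor
  · intro h
    rw [h, map_zero] at h1
    have := hinj0.1 (h1.symm.trans (map_zero _).symm)
    exact (Submodule.Quotient.mk_eq_zero F).1 this
  · intro h
    apply hbij.1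
    rw [h1, map_zero]
    have : F.mkQ a = 0 := (Submodule.Quotient.mk_eq_zero F).2 h
    rw [this, map_zero]
    rfl


theorem forward (s : Spec R ⟶ CohB1.ProjSpace n R) :
    Module.Projective R ((Fin (n + 1) → R) ⧸ ProjUP.secKernel n R s) ∧
      ∀ p : PrimeSpectrum R,
        Module.rankAtStalk ((Fin (n + 1) → R) ⧸ ProjUP.secKernel n R s) p = 1 := by
  classical
  let 𝒮 := CohB1.polyGrading n R
  set L : (Spec R).Modules := (Scheme.Modules.pullback s).obj (Twist.twistProjSpace n R 1) with hL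
  let t : Fin (n + 1) → Γ(L, ⊤) := fun k =>
    ProjUP.pullSec s (Twist.twistProjSpace n R 1) (ProjUP.coord n R k)
  have hinv : PicF.IsInvertible L := by
    apply Groth.Agent.Helper1.TwForm.isInvertible_of_locGen
    intro x
    obtain ⟨k, hk⟩ := Groth.Agent.Helper1.ProjUP8.hcov n R (s x)
    exact ⟨_, _, hk, Groth.Agent.Helper1.ProjUP7.isGen_g 𝒮 (Groth.Agent.Helper1.ProjUP8.tX n R)
      (Groth.Agent.Helper1.ProjUP8.htX n R) s k⟩
  have hcov : ∀ x : Spec R, ∃ k, x ∈ CohB1.genLocus L (TwistAmple.homOfSec L (t k)) := by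
    intro x
    obtain ⟨k, hk⟩ := Groth.Agent.Helper1.ProjUP8.hcov n R (s x)
    refine ⟨k, ?_⟩
    have hg := Groth.Agent.Helper1.ProjUP7.genLocus_pt 𝒮 (Groth.Agent.Helper1.ProjUP8.tX n R)
      (Groth.Agent.Helper1.ProjUP8.htX n R) (Groth.Agent.Helper1.ProjUP8.hcov n R) s k
    exact hg.ge hk
  have hqc : L.IsQuasicoherent := InvQc.isQuasicoherent_of_isInvertible L hinv
  obtain ⟨hP, hR⟩ := projective_rank_one_of_isInvertible L hinv
  -- the linear map
  let φ : (Fin (n + 1) → R) →ₗ[R] Γ(L, ⊤) := Fintype.linearCombination R t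
  have hφ : ∀ a : Fin (n + 1) → R, φ a = ∑ j, a j • t j := fun a =>
    Fintype.linearCombination_apply R t a
  have hker : ProjUP.secKernel n R s = LinearMap.ker φ := by
    ext a
    rw [mem_secKernel_iff, LinearMap.mem_ker, hφ]
    have : ∀ j, (Scheme.ΓSpecIso R).inv.hom (a j) • t j = a j • t j := fun j => top_smul L (a j) (t j)
    simp only [t] at this
    simp only [this]
    rfl
  -- surjectivity
  have hsurj : Function.Surjective φ := by
    intro m
    let I : Ideal R := (LinearMap.range φ).comap (LinearMap.toSpanSingleton R Γ(L, ⊤) m)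
    have hI : ∀ r : R, r ∈ I ↔ r • m ∈ LinearMap.range φ := fun r => Iff.rfl
    suffices h1 : (1 : R) ∈ I by
      have := (hI 1).1 h1
      rwa [one_smul] at this
    rw [← Ideal.eq_top_iff_one]
    by_contra hne
    obtain ⟨𝔪, h𝔪, hle⟩ := Ideal.exists_le_maximal _ hne
    let x : Spec R := (⟨𝔪, h𝔪.isPrime⟩ : PrimeSpectrum R)
    obtain ⟨k, hk⟩ := hcov x
    obtain ⟨W, hxW, hW⟩ := (mem_genLocus_iff_isGen _ x).1 hk
    rw [secVal_homOfSec] at hW
    obtain ⟨_, ⟨_, ⟨h, rfl⟩, rfl⟩, hxh, hhW : basicOpen _ ≤ _⟩ :=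
      PrimeSpectrum.isBasis_basic_opens.exists_subset_of_mem_open hxW W.2
    obtain ⟨ρ, hρ⟩ := (hW (basicOpen h) hhW).2 (rho' L h m)
    have hρ' : ρ • rho' L h (t k) = rho' L h m := by
      rw [← hρ, res_res]; rfl
    obtain ⟨⟨c, s'⟩, hcs⟩ := IsLocalization.surj (Submonoid.powers h) ρ
    have hcs' : ρ * algebraMap R Γ(Spec R, basicOpen h) s'.1 = algebraMap R _ c := hcs
    have e1 : rho' L h (s'.1 • m - c • t k) = 0 := by
      rw [map_sub, map_smul, map_smul, ← hρ', ← algebraMap_smul Γ(Spec R, basicOpen h) s'.1,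
        ← algebraMap_smul Γ(Spec R, basicOpen h) c, ← mul_smul, ← hcs', mul_comm, sub_self]
    obtain ⟨s'', hs''⟩ := (IsLocalizedModule.eq_zero_iff (Submonoid.powers h) (rho' L h)).1 e1
    have e2 : (s''.1 * s'.1) • m = φ (Pi.single k (s''.1 * c)) := by
      have e3 : s''.1 • (s'.1 • m - c • t k) = 0 := hs''
      rw [smul_sub, sub_eq_zero, ← mul_smul, ← mul_smul] at e3
      rw [e3, hφ, Finset.sum_eq_single k]
      · rw [Pi.single_eq_same]
      · intro j _ hj
        rw [Pi.single_eq_of_ne hj, zero_smul]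
      · intro hk'; exact absurd (Finset.mem_univ k) hk'
    have hmem : s''.1 * s'.1 ∈ I := (hI _).2 ⟨_, e2.symm⟩
    have hmem' : s''.1 * s'.1 ∈ 𝔪 := hle hmem
    obtain ⟨a, ha⟩ := s''.2
    obtain ⟨b, hb⟩ := s'.2
    simp only at ha hb
    rw [← ha, ← hb, ← pow_add] at hmem'
    exact hxh (h𝔪.isPrime.mem_of_pow_mem _ hmem')
  let e := φ.quotKerEquivOfSurjective hsurj
  rw [hker]
  refine ⟨Module.Projective.of_equiv e.symm, fun p => ?_⟩
  rw [Module.rankAtStalk_eq_of_equiv e]
  exact hR p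

end Groth.Agent.Helper1.InvT
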