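import Mathlib
import Groth.Prelude.Def_PLie

namespace Groth.Agent.Helper1.JacForm

open Polynomial

universe u v w

section Choose

theorem two_neg_one {B : Type*} [Ring B] (h2 : ((2 : ℕ) : B) = 0) : (-1 : B) = 1 := by
  have : (1 : B) + 1 = 0 := by
    have := h2
    push_cast at this
    rw [← this]; norm_num
  exact neg_eq_of_add_eq_zero_left this

theorem neg_one_pow_pred {B : Type*} [Ring B] {p : ℕ} (hp : p.Prime) (hpB : (p : B) = 0) :
    (-1 : B) ^ (p - 1) = 1 := by
  rcases hp.eq_two_or_odd' with h2 | hodd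
  · subst h2
    rw [two_neg_one hpB, one_pow]
  · have : Even (p - 1) := by
      obtain ⟨k, hk⟩ := hodd
      exact ⟨k, by omega⟩
    exact this.neg_one_pow

theorem choose_pred_cast {B : Type*} [Ring B] {p : ℕ} (hp : p.Prime) (hpB : (p : B) = 0) :
    ∀ m, m ≤ p - 1 → ((-1 : B)) ^ (p - 1 - m) * ((p - 1).choose m : B) = 1 := by
  intro m
  induction m with
  | zero =>
    intro _
    rw [Nat.choose_zero_right, Nat.cast_one, mul_one, Nat.sub_zero, neg_one_pow_pred hp hpB]
  | succ m ih =>
    intro hm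
    have h1 : (p - 1).choose (m + 1) + (p - 1).choose m = p.choose (m + 1) := by
      have hp1 : p = (p - 1) + 1 := by have := hp.pos; omega
      conv_rhs => rw [hp1]
      rw [Nat.choose_succ_succ, add_comm]
    have h2 : ((p.choose (m + 1) : ℕ) : B) = 0 := by
      have hdvd : p ∣ p.choose (m + 1) :=
        hp.dvd_choose_self (Nat.succ_ne_zero m) (by have := hp.pos; omega)
      obtain ⟨c, hc⟩ := hdvd
      rw [hc, Nat.cast_mul, hpB, zero_mul]
    have h3 : (((p - 1).choose (m + 1) : ℕ) : B) = -(((p - 1).choose m : ℕ) : B) := by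
      rw [eq_neg_iff_add_eq_zero, ← Nat.cast_add, h1, h2]
    have h4 : p - 1 - m = (p - 1 - (m + 1)) + 1 := by omega
    have := ih (by omega)
    rw [h4, pow_succ, mul_neg_one] at this
    rw [h3, mul_neg, ← neg_mul]
    exact this

theorem sub_pow_pred {B : Type*} [Ring B] {p : ℕ} (hp : p.Prime) (hpB : (p : B) = 0) {a b : B}
    (h : Commute a b) :
    (a - b) ^ (p - 1) = ∑ j ∈ Finset.range p, a ^ j * b ^ (p - 1 - j) := by
  have hp1 : p - 1 + 1 = p := by have := hp.pos; omega
  rw [sub_eq_add_neg, (h.neg_right).add_pow (p - 1), hp1]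
  refine Finset.sum_congr rfl fun j hj => ?_
  rw [Finset.mem_range] at hj
  have hc := choose_pred_cast hp hpB j (by omega)
  rw [neg_pow, mul_assoc]
  congr 1
  have hcomm : Commute ((-1 : B) ^ (p - 1 - j)) (b ^ (p - 1 - j)) :=
    (Commute.neg_one_left _).pow_left _
  rw [hcomm.eq, mul_assoc, hc, mul_one]

theorem sub_pow_prime {B : Type*} [Ring B] {p : ℕ} (hp : p.Prime) (hpB : (p : B) = 0) {a b : B}
    (h : Commute a b) : (a - b) ^ p = a ^ p - b ^ p := by
  have hp1 : p = (p - 1) + 1 := by have := hp.pos; omega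
  conv_lhs => rw [hp1, pow_succ']
  rw [sub_pow_pred hp hpB h, h.mul_geom_sum₂]

end Choose

section Assoc

variable {B : Type*} [Ring B]

/-- The commutator `ad u`. -/
def adB (u : B) : B → B := fun w => u * w - w * u

theorem natCast_end_eq_zero {p : ℕ} (hpB : (p : B) = 0) : ((p : ℕ) : Module.End ℤ B) = 0 := by
  ext w
  rw [Module.End.natCast_apply, LinearMap.zero_apply, nsmul_eq_mul, hpB, zero_mul]

theorem mulLeft_pow (u : B) (n : ℕ) :
    (LinearMap.mulLeft ℤ u : Module.End ℤ B) ^ n = LinearMap.mulLeft ℤ (u ^ n) := by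
  induction n with
  | zero => rw [pow_zero, pow_zero, LinearMap.mulLeft_one]; rfl
  | succ n ih => rw [pow_succ, ih, pow_succ, LinearMap.mulLeft_mul]; rfl

theorem mulRight_pow (u : B) (n : ℕ) :
    (LinearMap.mulRight ℤ u : Module.End ℤ B) ^ n = LinearMap.mulRight ℤ (u ^ n) := by
  induction n with
  | zero => rw [pow_zero, pow_zero, LinearMap.mulRight_one]; rfl
  | succ n ih => rw [pow_succ', ih, pow_succ, LinearMap.mulRight_mul]; rfl

theorem adB_eq (u : B) :
    adB u = ⇑((LinearMap.mulLeft ℤ u : Module.End ℤ B) - LinearMap.mulRight ℤ u) := by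
  funext w
  simp [adB]

theorem adB_iterate (u : B) (n : ℕ) (w : B) :
    (adB u)^[n] w = (((LinearMap.mulLeft ℤ u : Module.End ℤ B) - LinearMap.mulRight ℤ u) ^ n) w := by
  rw [Module.End.pow_apply, adB_eq]

/-- `Σ_{j<p} u^j v u^{p-1-j} = (ad u)^{p-1} v` when `p = 0` in `B`. -/
theorem sum_pow_mul_pow {p : ℕ} (hp : p.Prime) (hpB : (p : B) = 0) (u v : B) :
    ∑ j ∈ Finset.range p, u ^ j * v * u ^ (p - 1 - j) = (adB u)^[p - 1] v := by
  rw [adB_iterate, sub_pow_pred hp (natCast_end_eq_zero hpB)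
    (LinearMap.commute_mulLeft_right (R := ℤ) u u), LinearMap.sum_apply]
  refine Finset.sum_congr rfl fun j _ => ?_
  rw [mulLeft_pow, mulRight_pow, Module.End.mul_apply, LinearMap.mulLeft_apply,
    LinearMap.mulRight_apply, mul_assoc]

/-- `(ad u)^p = ad (u^p)` when `p = 0` in `B`. -/
theorem adB_iterate_prime {p : ℕ} (hp : p.Prime) (hpB : (p : B) = 0) (u v : B) :
    (adB u)^[p] v = adB (u ^ p) v := by
  rw [adB_iterate, sub_pow_prime hp (natCast_end_eq_zero hpB)
    (LinearMap.commute_mulLeft_right (R := ℤ) u u), mulLeft_pow, mulRight_pow]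
  simp [adB]

/-- Noncommutative power rule. -/
theorem derivative_pow_noncomm (u : B[X]) (n : ℕ) :
    derivative (u ^ n) = ∑ j ∈ Finset.range n, u ^ j * derivative u * u ^ (n - 1 - j) := by
  induction n with
  | zero => simp
  | succ n ih =>
    rw [pow_succ, derivative_mul, ih, Finset.sum_range_succ, Finset.sum_mul]
    congr 1
    · refine Finset.sum_congr rfl fun j hj => ?_
      rw [Finset.mem_range] at hj
      have : n + 1 - 1 - j = (n - 1 - j) + 1 := by omega
      rw [this, pow_succ]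
      simp only [mul_assoc]
    · have : n + 1 - 1 - n = 0 := by omega
      rw [this, pow_zero, mul_one]

end Assoc

section LieExp

variable {M : Type*} [LieRing M]

theorem iterate_lie_add (y₀ y₁ v : M) : ∀ n : ℕ,
    (fun w => ⁅y₀ + y₁, w⁆)^[n] v =
      ∑ t : Fin n → Bool, PLie.bracketWord (PLie.pair y₀ y₁) v (List.ofFn t) := by
  intro n
  induction n with
  | zero =>
    simp
  | succ n ih =>
    rw [Function.iterate_succ_apply', ih, ← (Fin.consEquiv (fun _ => Bool)).sum_comp,
      Fintype.sum_prod_type, Fintype.sum_bool, lie_sum]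
    rw [← Finset.sum_add_distrib]
    refine Finset.sum_congr rfl fun t _ => ?_
    simp only [Fin.consEquiv, Equiv.coe_fn_mk, List.ofFn_cons, PLie.bracketWord_cons, PLie.pair]
    simp [add_lie, add_comm]

end LieExp

section PolyWord

attribute [local instance] LieRing.ofAssociativeRing

variable {A : Type*} [Ring A]

theorem lie_eq_adB (a b : A) : ⁅a, b⁆ = adB a b := rfl

theorem bracketWord_poly (x₀ x₁ v : A) (l : List Bool) :
    PLie.bracketWord (PLie.pair (C x₀) (C x₁ * X)) (C v) l =
      C (PLie.bracketWord (PLie.pair x₀ x₁) v l) * X ^ (l.count true) := by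
  induction l with
  | nil => simp
  | cons b l ih =>
    rw [PLie.bracketWord_cons, PLie.bracketWord_cons, ih, Ring.lie_def, Ring.lie_def]
    cases b
    · have hc : (false :: l).count true = l.count true := by simp
      rw [hc]
      simp only [PLie.pair, Bool.false_eq_true, if_false]
      rw [C_sub, C_mul, C_mul, sub_mul]
      congr 1
      · simp only [mul_assoc]
      · rw [mul_assoc, mul_assoc, (commute_X_pow (C x₀) _).eq]
    · have hc : (true :: l).count true = l.count true + 1 := by simp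
      rw [hc]
      simp only [PLie.pair, if_true]
      rw [C_sub, C_mul, C_mul, sub_mul]
      congr 1
      · rw [mul_assoc (C x₁) X, ← mul_assoc X, (commute_X (C _)).eq]
        simp only [mul_assoc]
        rw [← pow_succ']
      · simp only [mul_assoc]
        rw [← mul_assoc (X ^ _) (C x₁), (commute_X_pow (C x₁) _).eq]
        simp only [mul_assoc]
        rw [← pow_succ]

end PolyWord

section Count

theorem count_false_ofFn : ∀ (n : ℕ) (t : Fin n → Bool),
    (List.ofFn t).count false = Fintype.card {i // t i = false} := by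
  intro n
  induction n with
  | zero => intro t; simp
  | succ n ih =>
    intro t
    rw [List.ofFn_succ, List.count_cons, ih, Fintype.card_subtype, Fintype.card_subtype,
      Finset.card_filter, Finset.card_filter, Fin.sum_univ_succ, add_comm]
    congr 1
    cases t 0 <;> simp

theorem card_false_eq (n : ℕ) (t : Fin n → Bool) :
    Fintype.card {i // t i = false} = n - (List.ofFn t).count true := by
  have h := List.count_true_add_count_false (List.ofFn t)
  rw [List.length_ofFn, count_false_ofFn] at h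
  omega

theorem count_true_le (n : ℕ) (t : Fin n → Bool) : (List.ofFn t).count true ≤ n := by
  have h := List.count_true_add_count_false (List.ofFn t)
  rw [List.length_ofFn] at h
  omega

end Count

section Main

attribute [local instance] LieRing.ofAssociativeRing

variable {A : Type*} [Ring A] {p : ℕ}

/-- `u = x₀ + x₁ X`. -/
noncomputable def uu (x₀ x₁ : A) : A[X] := C x₀ + C x₁ * X

theorem derivative_uu (x₀ x₁ : A) : derivative (uu x₀ x₁) = C x₁ := by simp [uu]

theorem natCast_poly_eq_zero (hpA : (p : A) = 0) : ((p : ℕ) : A[X]) = 0 := by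
  rw [← C_eq_natCast, hpA, C_0]

theorem derivative_uu_pow (hp : p.Prime) (hpA : (p : A) = 0) (x₀ x₁ : A) :
    derivative ((uu x₀ x₁) ^ p) = ∑ t : Fin (p - 1) → Bool,
      C (PLie.bracketWord (PLie.pair x₀ x₁) x₁ (List.ofFn t)) * X ^ ((List.ofFn t).count true) := by
  rw [derivative_pow_noncomm, derivative_uu, sum_pow_mul_pow hp (natCast_poly_eq_zero hpA)]
  have h := iterate_lie_add (C x₀) (C x₁ * X) (C x₁) (p - 1)
  change (adB (uu x₀ x₁))^[p - 1] (C x₁) = _ at h
  rw [h]
  refine Finset.sum_congr rfl fun t _ => ?_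
  rw [bracketWord_poly]

theorem coeff_succ_mul (hp : p.Prime) (hpA : (p : A) = 0) (x₀ x₁ : A) (k : ℕ) :
    coeff ((uu x₀ x₁) ^ p) (k + 1) * ((k : A) + 1) = ∑ t : Fin (p - 1) → Bool,
      if (List.ofFn t).count true = k then
        PLie.bracketWord (PLie.pair x₀ x₁) x₁ (List.ofFn t) else 0 := by
  rw [← coeff_derivative, derivative_uu_pow hp hpA, finsetSum_coeff]
  refine Finset.sum_congr rfl fun t _ => ?_
  rw [coeff_C_mul_X_pow]
  by_cases h : (List.ofFn t).count true = k
  · rw [if_pos h, if_pos h.symm]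
  · rw [if_neg h, if_neg (fun h' => h h'.symm)]

theorem natDegree_uu_pow_le (x₀ x₁ : A) (n : ℕ) : ((uu x₀ x₁) ^ n).natDegree ≤ n := by
  have h1 : (uu x₀ x₁).natDegree ≤ 1 := by
    unfold uu
    refine (natDegree_add_le _ _).trans ?_
    rw [natDegree_C]
    exact max_le (Nat.zero_le _) ((natDegree_C_mul_le _ _).trans natDegree_X_le)
  calc ((uu x₀ x₁) ^ n).natDegree ≤ n * (uu x₀ x₁).natDegree := natDegree_pow_le
    _ ≤ n * 1 := Nat.mul_le_mul_left _ h1
    _ = n := mul_one n

theorem coeff_uu_pow_top (x₀ x₁ : A) (n : ℕ) : coeff ((uu x₀ x₁) ^ n) n = x₁ ^ n := by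
  induction n with
  | zero => simp
  | succ n ih =>
    have h0 : coeff ((uu x₀ x₁) ^ n) (n + 1) = 0 :=
      coeff_eq_zero_of_natDegree_lt (lt_of_le_of_lt (natDegree_uu_pow_le x₀ x₁ n) (Nat.lt_succ_self n))
    rw [pow_succ]
    conv_lhs => rw [uu, mul_add, ← mul_assoc, coeff_add, coeff_mul_C, coeff_mul_X, coeff_mul_C]
    rw [← uu, h0, ih, zero_mul, zero_add, pow_succ]

/-- Evaluation at a central element as a ring hom. -/
noncomputable def evc (c : A) (hc : ∀ a : A, Commute a c) : A[X] →+* A :=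
  eval₂RingHom' (RingHom.id A) c hc

theorem evc_apply (c : A) (hc : ∀ a : A, Commute a c) (f : A[X]) : evc c hc f = eval c f := rfl

theorem coeff_uu_pow_zero (x₀ x₁ : A) (n : ℕ) : coeff ((uu x₀ x₁) ^ n) 0 = x₀ ^ n := by
  rw [coeff_zero_eq_eval_zero, ← evc_apply 0 (fun a => Commute.zero_right a), map_pow, evc_apply]
  simp [uu]

theorem eval_one_uu_pow (x₀ x₁ : A) (n : ℕ) : eval 1 ((uu x₀ x₁) ^ n) = (x₀ + x₁) ^ n := by
  rw [← evc_apply 1 (fun a => Commute.one_right a), map_pow, evc_apply]
  simp [uu]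

theorem add_pow_eq_sum_coeff (x₀ x₁ : A) (hp : 1 ≤ p) :
    (x₀ + x₁) ^ p = x₀ ^ p + x₁ ^ p +
      ∑ k ∈ Finset.range (p - 1), coeff ((uu x₀ x₁) ^ p) (k + 1) := by
  rw [← eval_one_uu_pow,
    eval_eq_sum_range' (lt_of_le_of_lt (natDegree_uu_pow_le x₀ x₁ p) (Nat.lt_succ_self p))]
  simp only [one_pow, mul_one]
  rw [Finset.sum_range_succ', coeff_uu_pow_zero]
  have hp1 : p = (p - 1) + 1 := by omega
  conv_lhs => rw [hp1, Finset.sum_range_succ]
  rw [← hp1, coeff_uu_pow_top]
  abel

end Main

section Final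

attribute [local instance] LieRing.ofAssociativeRing

variable (R : Type u) [CommRing R] (p : ℕ) [hp : Fact p.Prime] [CharP R p]
variable {A : Type v} [Ring A] [Algebra R A]

omit hp in
theorem natCast_alg_eq_zero (A : Type v) [Ring A] [Algebra R A] : ((p : ℕ) : A) = 0 := by
  rw [← map_natCast (algebraMap R A), CharP.cast_eq_zero, map_zero]

/-- the coefficient `1/r`. -/
noncomputable def cf (r : ℕ) : R := (ZMod.castHom (dvd_refl p) R) ((r : ZMod p)⁻¹)

theorem cf_zero : cf R p 0 = 0 := by simp [cf]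

theorem cf_smul (k : ℕ) (hk : k + 1 < p) (s : A) :
    cf R p (p - 1 - k) • (s * ((k : A) + 1)) = -s := by
  have ha : ((k + 1 : ℕ) : ZMod p) ≠ 0 := by
    rw [Ne, ZMod.natCast_eq_zero_iff]
    exact Nat.not_dvd_of_pos_of_lt (Nat.succ_pos k) hk
  have h1 : ((p - 1 - k : ℕ) : ZMod p) = -((k + 1 : ℕ) : ZMod p) := by
    rw [eq_neg_iff_add_eq_zero, ← Nat.cast_add]
    have : p - 1 - k + (k + 1) = p := by omega
    rw [this, ZMod.natCast_self]
  have h2 : s * ((k : A) + 1) = (((k + 1 : ℕ) : ZMod p).cast : R) • s := by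
    rw [ZMod.cast_natCast' , Nat.cast_smul_eq_nsmul, nsmul_eq_mul', Nat.cast_succ]
  have h3 : (ZMod.castHom (dvd_refl p) R) (((k + 1 : ℕ) : ZMod p)) = (((k + 1 : ℕ) : ZMod p).cast : R) := rfl
  rw [cf, h1, inv_neg, map_neg, neg_smul, h2, ← h3, smul_smul, ← map_mul, inv_mul_cancel₀ ha,
    map_one, one_smul]

theorem jacobson_eq_neg_sum (x₀ x₁ : A) :
    PLie.jacobson R p x₀ x₁ =
      -∑ k ∈ Finset.range (p - 1), coeff ((uu x₀ x₁) ^ p) (k + 1) := by
  have hpA : ((p : ℕ) : A) = 0 := natCast_alg_eq_zero R p A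
  have hp1 : p = (p - 1) + 1 := by have := hp.out.pos; omega
  unfold PLie.jacobson
  have step1 : ∀ t : Fin (p - 1) → Bool,
      ((ZMod.castHom (dvd_refl p) R) ((Fintype.card {i // t i = false} : ZMod p)⁻¹)) •
        PLie.bracketWord (PLie.pair x₀ x₁) x₁ (List.ofFn t) =
      ∑ k ∈ Finset.range p, cf R p (p - 1 - k) •
        (if (List.ofFn t).count true = k then
          PLie.bracketWord (PLie.pair x₀ x₁) x₁ (List.ofFn t) else 0) := by
    intro t
    have hle := count_true_le (p - 1) t
    rw [Finset.sum_eq_single ((List.ofFn t).count true)]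
    · rw [if_pos rfl, card_false_eq]
      rfl
    · intro k _ hk
      rw [if_neg (fun h => hk h.symm), smul_zero]
    · intro h
      exfalso
      apply h
      rw [Finset.mem_range]
      omega
  rw [Finset.sum_congr rfl (fun t _ => step1 t), Finset.sum_comm]
  have step2 : ∀ k ∈ Finset.range p,
      ∑ t : Fin (p - 1) → Bool, cf R p (p - 1 - k) •
        (if (List.ofFn t).count true = k then
          PLie.bracketWord (PLie.pair x₀ x₁) x₁ (List.ofFn t) else 0) =
      cf R p (p - 1 - k) • (coeff ((uu x₀ x₁) ^ p) (k + 1) * ((k : A) + 1)) := by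
    intro k _
    rw [coeff_succ_mul hp.out hpA, Finset.smul_sum]
  rw [Finset.sum_congr rfl step2]
  have hsplit : ∀ f : ℕ → A, ∑ k ∈ Finset.range p, f k =
      ∑ k ∈ Finset.range (p - 1), f k + f (p - 1) := by
    intro f
    conv_lhs => rw [hp1]
    exact Finset.sum_range_succ f (p - 1)
  rw [hsplit]
  have : p - 1 - (p - 1) = 0 := by omega
  rw [this, cf_zero, zero_smul, add_zero, ← Finset.sum_neg_distrib]
  refine Finset.sum_congr rfl fun k hk => ?_
  rw [Finset.mem_range] at hk
  exact cf_smul R p k (by omega) _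

/-- **Jacobson's formula** in an associative algebra of characteristic `p`. -/
theorem add_pow_prime_eq (x₀ x₁ : A) :
    (x₀ + x₁) ^ p = x₀ ^ p + x₁ ^ p - PLie.jacobson R p x₀ x₁ := by
  rw [jacobson_eq_neg_sum, sub_neg_eq_add]
  exact add_pow_eq_sum_coeff x₀ x₁ hp.out.one_le

end Final

section Transport

attribute [local instance] LieRing.ofAssociativeRing

variable {R : Type u} [CommRing R] {p : ℕ} [hp : Fact p.Prime] [CharP R p]
variable {L : Type v} [LieRing L] [LieAlgebra R L] {A : Type w} [Ring A] [Algebra R A]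

omit hp [CharP R p] in
theorem map_bracketWord (e : L →ₗ[R] A) (he : ∀ x y : L, e ⁅x, y⁆ = e x * e y - e y * e x)
    (x₀ x₁ v : L) (l : List Bool) :
    e (PLie.bracketWord (PLie.pair x₀ x₁) v l) =
      PLie.bracketWord (PLie.pair (e x₀) (e x₁)) (e v) l := by
  induction l with
  | nil => rfl
  | cons b l ih =>
    rw [PLie.bracketWord_cons, PLie.bracketWord_cons, he, ih, Ring.lie_def]
    cases b <;> simp [PLie.pair]

omit hp in
theorem map_jacobson (e : L →ₗ[R] A) (he : ∀ x y : L, e ⁅x, y⁆ = e x * e y - e y * e x)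
    (x₀ x₁ : L) :
    e (PLie.jacobson R p x₀ x₁) = PLie.jacobson R p (e x₀) (e x₁) := by
  unfold PLie.jacobson
  rw [map_sum]
  refine Finset.sum_congr rfl fun t _ => ?_
  rw [map_smul, map_bracketWord e he]

omit hp [CharP R p] in
theorem map_ad_pow (e : L →ₗ[R] A) (he : ∀ x y : L, e ⁅x, y⁆ = e x * e y - e y * e x)
    (x y : L) (n : ℕ) :
    e ((LieAlgebra.ad R L x ^ n) y) = (adB (e x))^[n] (e y) := by
  induction n with
  | zero => simp
  | succ n ih =>
    rw [pow_succ', Module.End.mul_apply, LieAlgebra.ad_apply, he, ih,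
      Function.iterate_succ_apply']
    rfl

/-- **Transport of the `p`-structure**: a Lie algebra embedded in an associative algebra of
characteristic `p`, stable under `p`-th powers, carries the induced `p`-mapping. -/
theorem exists_pmap_of_assoc (e : L →ₗ[R] A) (hinj : Function.Injective e)
    (he : ∀ x y : L, e ⁅x, y⁆ = e x * e y - e y * e x)
    (φ₀ : L → L) (hφ : ∀ x, e (φ₀ x) = e x ^ p) :
    ∃ φ : PLie.PMap R p L, (∀ x, φ x = φ₀ x) ∧ PLie.IsPSubOfAssoc φ e := by
  refine ⟨⟨φ₀, ?_, ?_, ?_⟩, fun _ => rfl, hinj, he, hφ⟩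
  · intro c x
    apply hinj
    rw [hφ, map_smul, map_smul, hφ, _root_.smul_pow]
  · intro x
    refine LinearMap.ext fun y => hinj ?_
    rw [LieAlgebra.ad_apply, he, hφ, map_ad_pow e he,
      adB_iterate_prime hp.out (natCast_alg_eq_zero R p A)]
    rfl
  · intro x₀ x₁
    apply hinj
    rw [hφ, map_add, add_pow_prime_eq R p, map_sub, map_add, hφ, hφ, map_jacobson e he]

end Transport

end Groth.Agent.Helper1.JacForm
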