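import Mathlib
import Groth.Prelude.Def_K0Var

set_option linter.style.haveILetI false
set_option linter.unusedSectionVars false
set_option linter.unusedVariables false

universe u

open CategoryTheory CategoryTheory.Limits AlgebraicGeometry TopologicalSpace

namespace Groth.Agent.Helper1.K0Fib

variable {S : Scheme.{u}}

theorem cl_eq_of_eq {X : Scheme.{u}} {f f' : X ⟶ S} [LocallyOfFiniteType f] [QuasiCompact f]
    [LocallyOfFiniteType f'] [QuasiCompact f'] (h : f = f') : K0Var.cl f = K0Var.cl f' := by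
  subst h; rfl

theorem range_aux {X Y T Z : Scheme.{u}} (f : X ⟶ Y) (g : T ⟶ Y) (i : Z ⟶ T) :
    Set.range ((pullbackRightPullbackFstIso g f i).inv ≫ pullback.snd i (pullback.fst g f)) =
      (pullback.fst g f) ⁻¹' (Set.range i) := by
  rw [← AlgebraicGeometry.Scheme.Pullback.range_snd i (pullback.fst g f)]
  ext x
  constructor
  · rintro ⟨a, rfl⟩
    exact ⟨(pullbackRightPullbackFstIso g f i).inv a, (Scheme.Hom.comp_apply _ _ _).symm⟩
  · rintro ⟨b, rfl⟩
    refine ⟨(pullbackRightPullbackFstIso g f i).hom b, ?_⟩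
    rw [← Scheme.Hom.comp_apply, Iso.hom_inv_id_assoc]

/-- Cut-and-paste is compatible with base change to `X`. -/
theorem cl_pullback_scissor {X Y T Z W : Scheme.{u}} (pY : Y ⟶ S) [LocallyOfFiniteType pY]
    [QuasiCompact pY] (f : X ⟶ Y) [LocallyOfFiniteType f] [QuasiCompact f]
    (g : T ⟶ Y) [LocallyOfFiniteType g] [QuasiCompact g]
    (i : Z ⟶ T) [IsClosedImmersion i] (j : W ⟶ T) [IsOpenImmersion j] [QuasiCompact j]
    (hr : Set.range i = (Set.range j)ᶜ) :
    K0Var.cl (pullback.fst g f ≫ g ≫ pY) =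
      K0Var.cl (pullback.fst (i ≫ g) f ≫ (i ≫ g) ≫ pY) +
        K0Var.cl (pullback.fst (j ≫ g) f ≫ (j ≫ g) ≫ pY) := by
  have hi' : ((pullbackRightPullbackFstIso g f i).inv ≫ pullback.snd i (pullback.fst g f)) ≫
      pullback.fst g f = pullback.fst (i ≫ g) f ≫ i := by
    rw [Category.assoc]
    exact pullbackRightPullbackFstIso_inv_snd_fst g f i
  have hj' : ((pullbackRightPullbackFstIso g f j).inv ≫ pullback.snd j (pullback.fst g f)) ≫
      pullback.fst g f = pullback.fst (j ≫ g) f ≫ j := by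
    rw [Category.assoc]
    exact pullbackRightPullbackFstIso_inv_snd_fst g f j
  have hrange : Set.range ((pullbackRightPullbackFstIso g f i).inv ≫
        pullback.snd i (pullback.fst g f)) =
      (Set.range ((pullbackRightPullbackFstIso g f j).inv ≫
        pullback.snd j (pullback.fst g f)))ᶜ := by
    rw [range_aux, range_aux, hr, Set.preimage_compl]
  have h := K0Var.cl_scissor (pullback.fst g f ≫ g ≫ pY)
    ((pullbackRightPullbackFstIso g f i).inv ≫ pullback.snd i (pullback.fst g f))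
    ((pullbackRightPullbackFstIso g f j).inv ≫ pullback.snd j (pullback.fst g f)) hrange
  rw [h]
  congr 1
  · apply cl_eq_of_eq
    rw [← Category.assoc, hi']
    simp only [Category.assoc]
  · apply cl_eq_of_eq
    rw [← Category.assoc, hj']
    simp only [Category.assoc]

/-- A piece mapping into a trivialising open has class `[T]·[F]`. -/
theorem cl_pullback_trivial {X Y T F : Scheme.{u}} (pY : Y ⟶ S) [LocallyOfFiniteType pY]
    [QuasiCompact pY] (pF : F ⟶ S) [LocallyOfFiniteType pF] [QuasiCompact pF]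
    (f : X ⟶ Y) [LocallyOfFiniteType f] [QuasiCompact f]
    (U : Y.Opens) (e : (f ⁻¹ᵁ U).toScheme ≅ pullback (U.ι ≫ pY) pF)
    (he : e.hom ≫ pullback.fst (U.ι ≫ pY) pF = f ∣_ U)
    (g : T ⟶ Y) [LocallyOfFiniteType g] [QuasiCompact g] (hg : Set.range g ⊆ (U : Set Y)) :
    K0Var.cl (pullback.fst g f ≫ g ≫ pY) = K0Var.cl (g ≫ pY) * K0Var.cl pF := by
  have hgU : Set.range g ⊆ Set.range U.ι := by rw [Scheme.Opens.range_ι]; exact hg
  obtain ⟨g', hg'⟩ : ∃ g' : T ⟶ U.toScheme, g' ≫ U.ι = g :=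
    ⟨IsOpenImmersion.lift U.ι g hgU, IsOpenImmersion.lift_fac _ _ _⟩
  have H1 : IsPullback (pullback.fst (U.ι ≫ pY) pF) (pullback.snd (U.ι ≫ pY) pF) (U.ι ≫ pY) pF :=
    IsPullback.of_hasPullback _ _
  have H2 : IsPullback (pullback.fst g' (pullback.fst (U.ι ≫ pY) pF))
      (pullback.snd g' (pullback.fst (U.ι ≫ pY) pF)) g' (pullback.fst (U.ι ≫ pY) pF) :=
    IsPullback.of_hasPullback _ _
  have H3 := H2.paste_vert H1
  have H4 : IsPullback (pullback.fst g' (pullback.fst (U.ι ≫ pY) pF))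
      (pullback.snd g' (pullback.fst (U.ι ≫ pY) pF) ≫ e.inv) g' (f ∣_ U) :=
    H2.of_iso (Iso.refl _) (Iso.refl _) e.symm (Iso.refl _) (by simp) (by simp) (by simp)
      (by rw [← he]; simp)
  have H5 := H4.paste_vert (isPullback_morphismRestrict f U)
  have hA : g' ≫ U.ι ≫ pY = g ≫ pY := by rw [← Category.assoc, hg']
  rw [hA] at H3
  rw [hg'] at H5
  have hφ : (H5.isoPullback.symm ≪≫ H3.isoPullback).hom ≫ pullback.fst (g ≫ pY) pF =
      pullback.fst g f := by
    rw [Iso.trans_hom, Iso.symm_hom, Category.assoc, IsPullback.isoPullback_hom_fst,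
      IsPullback.isoPullback_inv_fst]
  calc K0Var.cl (pullback.fst g f ≫ g ≫ pY)
      = K0Var.cl (pullback.fst (g ≫ pY) pF ≫ g ≫ pY) :=
        K0Var.cl_congr _ _ (H5.isoPullback.symm ≪≫ H3.isoPullback)
          (by rw [← Category.assoc, hφ])
    _ = K0Var.cl (g ≫ pY) * K0Var.cl pF := K0Var.cl_mul (g ≫ pY) pF

theorem main (k : Type u) [Field k] {X Y F : Scheme.{u}}
    (pY : Y ⟶ Spec (CommRingCat.of k)) [LocallyOfFiniteType pY] [QuasiCompact pY]
    (pF : F ⟶ Spec (CommRingCat.of k)) [LocallyOfFiniteType pF] [QuasiCompact pF]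
    (f : X ⟶ Y) [LocallyOfFiniteType f] [QuasiCompact f]
    (hf : ∀ y : Y, ∃ (U : Y.Opens) (e : (f ⁻¹ᵁ U).toScheme ≅ pullback (U.ι ≫ pY) pF),
      y ∈ U ∧ e.hom ≫ pullback.fst (U.ι ≫ pY) pF = f ∣_ U) :
    K0Var.cl (f ≫ pY) = K0Var.cl pY * K0Var.cl pF := by
  classical
  choose 𝒰 e h𝒰 he using hf
  have key : ∀ (s : Finset Y) (T : Scheme.{u}) (g : T ⟶ Y) [LocallyOfFiniteType g]
      [QuasiCompact g], (∀ t : T, ∃ y ∈ s, g t ∈ 𝒰 y) →
      K0Var.cl (pullback.fst g f ≫ g ≫ pY) = K0Var.cl (g ≫ pY) * K0Var.cl pF := by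
    intro s
    induction s using Finset.induction_on with
    | empty =>
      intro T g _ _ hcov
      have hT : IsEmpty T := ⟨fun t => by obtain ⟨y, hy, _⟩ := hcov t; simp at hy⟩
      have hP : IsEmpty ↥(pullback g f) := ⟨fun x => hT.false ((pullback.fst g f) x)⟩
      have h1 : K0Var.cl (pullback.fst g f ≫ g ≫ pY) = 0 :=
        @K0Var.Gen.cl_eq_zero_of_isEmpty _ (K0Var.Gen.mk _ (pullback.fst g f ≫ g ≫ pY)) hP
      have h2 : K0Var.cl (g ≫ pY) = 0 :=
        @K0Var.Gen.cl_eq_zero_of_isEmpty _ (K0Var.Gen.mk _ (g ≫ pY)) hT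
      rw [h1, h2, zero_mul]
    | insert y₀ s hy₀ ih =>
      intro T g _ _ hcov
      haveI : IsLocallyNoetherian T := LocallyOfFiniteType.isLocallyNoetherian (g ≫ pY)
      obtain ⟨W, hW⟩ : ∃ W : T.Opens, ∀ x : T, x ∈ W ↔ ∃ y ∈ s, g x ∈ 𝒰 y :=
        ⟨g ⁻¹ᵁ (⨆ y ∈ s, 𝒰 y), fun x => by
          rw [show (x ∈ g ⁻¹ᵁ (⨆ y ∈ s, 𝒰 y)) ↔ g x ∈ (⨆ y ∈ s, 𝒰 y) from Iff.rfl]
          simp only [Opens.mem_iSup, exists_prop]⟩
      obtain ⟨I, hI⟩ : ∃ I : T.IdealSheafData, Set.range I.subschemeι = (Set.range W.ι)ᶜ := by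
        refine ⟨Scheme.IdealSheafData.vanishingIdeal ⟨(W : Set T)ᶜ, W.isOpen.isClosed_compl⟩, ?_⟩
        rw [Scheme.IdealSheafData.range_subschemeι,
          Scheme.IdealSheafData.coe_support_vanishingIdeal, Scheme.Opens.range_ι]
        rfl
      have hsc := cl_pullback_scissor pY f g I.subschemeι W.ι hI
      have hZ : Set.range (I.subschemeι ≫ g) ⊆ (𝒰 y₀ : Set Y) := by
        rintro _ ⟨z, rfl⟩
        rw [Scheme.Hom.comp_apply]
        have hz : I.subschemeι z ∉ W := by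
          have hz' : I.subschemeι z ∈ Set.range I.subschemeι := ⟨z, rfl⟩
          rw [hI, Scheme.Opens.range_ι] at hz'
          exact hz'
        obtain ⟨y, hy, hgy⟩ := hcov (I.subschemeι z)
        rcases Finset.mem_insert.mp hy with rfl | hys
        · exact hgy
        · exact absurd ((hW _).mpr ⟨y, hys, hgy⟩) hz
      have hA := cl_pullback_trivial pY pF f (𝒰 y₀) (e y₀) (he y₀) (I.subschemeι ≫ g) hZ
      have hB := ih W.toScheme (W.ι ≫ g) (by
        intro w
        have hw : W.ι w ∈ Set.range W.ι := ⟨w, rfl⟩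
        rw [Scheme.Opens.range_ι] at hw
        obtain ⟨y, hy, hgy⟩ := (hW _).mp hw
        exact ⟨y, hy, by rw [Scheme.Hom.comp_apply]; exact hgy⟩)
      have hT := K0Var.cl_scissor (g ≫ pY) I.subschemeι W.ι hI
      have h1 : K0Var.cl ((I.subschemeι ≫ g) ≫ pY) = K0Var.cl (I.subschemeι ≫ g ≫ pY) :=
        cl_eq_of_eq (Category.assoc _ _ _)
      have h2 : K0Var.cl ((W.ι ≫ g) ≫ pY) = K0Var.cl (W.ι ≫ g ≫ pY) :=
        cl_eq_of_eq (Category.assoc _ _ _)
      rw [hsc, hA, hB, h1, h2, hT, add_mul]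
  haveI : CompactSpace Y :=
    (HasAffineProperty.iff_of_isAffine (P := @QuasiCompact)).mp (inferInstance : QuasiCompact pY)
  obtain ⟨s, hs⟩ := CompactSpace.elim_nhds_subcover (fun y => (𝒰 y : Set Y))
    (fun y => (𝒰 y).isOpen.mem_nhds (h𝒰 y))
  have h0 := key s Y (𝟙 Y) (fun t => by
    have ht : t ∈ ⋃ x ∈ s, (𝒰 x : Set Y) := by rw [hs]; exact Set.mem_univ t
    simp only [Set.mem_iUnion, exists_prop] at ht
    obtain ⟨y, hy, hty⟩ := ht
    exact ⟨y, hy, by first | exact hty | simpa using hty⟩)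
  have e1 : K0Var.cl (pullback.fst (𝟙 Y) f ≫ 𝟙 Y ≫ pY) = K0Var.cl (f ≫ pY) := by
    refine K0Var.cl_congr _ _ (asIso (pullback.snd (𝟙 Y) f)) ?_
    rw [asIso_hom, ← Category.assoc, ← pullback.condition, Category.assoc]
  have e2 : K0Var.cl (𝟙 Y ≫ pY) = K0Var.cl pY := cl_eq_of_eq (Category.id_comp _)
  rw [← e1, h0, e2]

end Groth.Agent.Helper1.K0Fib
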