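import Mathlib
import Groth.Prelude.Def_Found
import Groth.Agent.Lib.Helper1.Kap
set_option autoImplicit false
open TensorProduct
universe u
namespace Groth.Agent.Helper1.Kap2
open Groth.Agent.Helper1.Kap

variable {R S : Type u} [CommRing R] [CommRing S] [Algebra R S]
variable {M : Type u} [AddCommGroup M] [Module R M]

lemma exists_finset_mem_span (y : S ⊗[R] M) :
    ∃ G : Finset M, y ∈ Submodule.span S ((TensorProduct.mk R S M 1) '' (G : Set M)) := by
  classical
  induction y using TensorProduct.induction_on with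
  | zero => exact ⟨∅, Submodule.zero_mem _⟩
  | tmul s m =>
    refine ⟨{m}, ?_⟩
    have : s ⊗ₜ[R] m = s • ((TensorProduct.mk R S M 1) m) := by
      rw [TensorProduct.mk_apply, TensorProduct.smul_tmul', smul_eq_mul, mul_one]
    rw [this]
    exact Submodule.smul_mem _ _ (Submodule.subset_span ⟨m, by simp, rfl⟩)
  | add a b ha hb =>
    obtain ⟨G1, h1⟩ := ha
    obtain ⟨G2, h2⟩ := hb
    refine ⟨G1 ∪ G2, Submodule.add_mem _ ?_ ?_⟩
    · exact Submodule.span_mono (Set.image_mono (by simp)) h1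
    · exact Submodule.span_mono (Set.image_mono (by simp)) h2

lemma span_mk_span (A : Set M) :
    Submodule.span S ((TensorProduct.mk R S M 1) '' ((Submodule.span R A : Submodule R M) : Set M)) =
      Submodule.span S ((TensorProduct.mk R S M 1) '' A) := by
  have h1 := Submodule.baseChange_span (R := R) S A
  rw [Submodule.baseChange_eq_span, Submodule.map_coe] at h1
  exact h1

theorem S6383' {I : Type u} (Q : I → Submodule S (S ⊗[R] M))
    (hQtop : ⨆ i, Q i = ⊤)
    (hQc : ∀ i, ∃ t : Set (S ⊗[R] M), t.Countable ∧ Submodule.span S t = Q i)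
    (N : Submodule R M) (hN : ∃ s : Set M, s.Countable ∧ Submodule.span R s = N) :
    ∃ (N' : Submodule R M) (I' : Set I), N ≤ N' ∧ I'.Countable ∧
      (∃ s : Set M, s.Countable ∧ Submodule.span R s = N') ∧
      Submodule.span S ((TensorProduct.mk R S M 1) '' (N' : Set M)) = ⨆ i ∈ I', Q i := by
  classical
  have hF : ∀ y : S ⊗[R] M, ∃ F : Finset I, y ∈ ⨆ j ∈ F, Q j := by
    intro y
    have hy : y ∈ ⨆ i, Q i := by rw [hQtop]; trivial
    exact Submodule.mem_iSup_iff_exists_finset.mp hy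
  choose F hF using hF
  choose G hG using exists_finset_mem_span (R := R) (S := S) (M := M)
  choose t ht hspan using hQc
  obtain ⟨s0, hs0, rfl⟩ := hN
  let supp : M → Set M := fun m => ⋃ i ∈ F ((1 : S) ⊗ₜ[R] m), ⋃ y ∈ t i, (G y : Set M)
  have hsupp : ∀ m, (supp m).Countable := by
    intro m
    refine (Finset.countable_toSet _).biUnion fun i _ => ?_
    exact (ht i).biUnion fun y _ => Finset.countable_toSet _
  let A := cl supp s0
  have hA : A.Countable := cl_countable supp s0 hsupp hs0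
  refine ⟨Submodule.span R A, ⋃ m ∈ A, (F ((1 : S) ⊗ₜ[R] m) : Set I),
    Submodule.span_mono (subset_cl supp s0), ?_, ⟨A, hA, rfl⟩, ?_⟩
  · exact hA.biUnion fun m _ => Finset.countable_toSet _
  rw [span_mk_span]
  apply le_antisymm
  · rw [Submodule.span_le]
    rintro _ ⟨m, hm, rfl⟩
    have h1 := hF ((1 : S) ⊗ₜ[R] m)
    have h2 : (⨆ j ∈ F ((1 : S) ⊗ₜ[R] m), Q j) ≤
        ⨆ i ∈ (⋃ m ∈ A, (F ((1 : S) ⊗ₜ[R] m) : Set I)), Q i :=
      biSup_mono (fun i hi => Set.mem_biUnion hm (Finset.mem_coe.mpr hi))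
    exact h2 h1
  · refine iSup₂_le fun i hi => ?_
    obtain ⟨m, hm, him⟩ := Set.mem_iUnion₂.mp hi
    rw [← hspan i, Submodule.span_le]
    intro y hy
    refine Submodule.span_mono (Set.image_mono ?_) (hG y)
    intro g hg
    exact supp_subset_cl supp s0 hm (Set.mem_biUnion (Finset.mem_coe.mp him) (Set.mem_biUnion hy hg))

theorem S6383 (R S : Type u) [CommRing R] [CommRing S] [Algebra R S]
    (M : Type u) [AddCommGroup M] [Module R M] {I : Type u} [DecidableEq I]
    (Q : I → Submodule S (S ⊗[R] M))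
    (hQ : DirectSum.IsInternal Q)
    (hQc : ∀ i, ∃ t : Set (S ⊗[R] M), t.Countable ∧ Submodule.span S t = Q i)
    (N : Submodule R M) (hN : ∃ s : Set M, s.Countable ∧ Submodule.span R s = N) :
    ∃ (N' : Submodule R M) (I' : Set I), N ≤ N' ∧
      (∃ s : Set M, s.Countable ∧ Submodule.span R s = N') ∧
      Submodule.span S ((TensorProduct.mk R S M 1) '' (N' : Set M)) = ⨆ i ∈ I', Q i := by
  obtain ⟨N', I', h1, -, h2, h3⟩ := S6383' Q hQ.submodule_iSup_eq_top hQc N hN
  exact ⟨N', I', h1, h2, h3⟩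

end Groth.Agent.Helper1.Kap2
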