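import Mathlib
import Groth.Prelude.Def_RelSpec
import Groth.Prelude.Def_AffAlg
import Groth.Agent.Lib.Helper1.AlgOf
import Groth.Agent.Lib.Helper1.RelSpecGamma

set_option autoImplicit false
universe u
open CategoryTheory CategoryTheory.Limits AlgebraicGeometry TopologicalSpace Opposite

namespace Groth.Agent.Helper1.KerImm

variable {X Y : Scheme.{u}} (f : X ⟶ Y) [QuasiCompact f] [QuasiSeparated f]
  (C : RelSpec.QCAlg Y) (g : X ⟶ C.spec) (w : g ≫ C.π = f)
  (φ : C ⟶ RelSpec.QCAlg.directImage f)
  (hφ : C.gammaMap ≫ φ.hom = AffAlg.algHom C.π f g w)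

include hφ in
theorem inj_iff (V : Y.Opens) :
    Function.Injective (φ.hom.app (op V)).hom ↔ Function.Injective (g.app (C.π ⁻¹ᵁ V)).hom := by
  have h1 : IsIso C.gammaMap := RelSpecGamma.isIso_gammaMap _
  have h2 : IsIso (C.gammaMap.app (op V)) := inferInstance
  have hpre : f ⁻¹ᵁ V = g ⁻¹ᵁ (C.π ⁻¹ᵁ V) := congrArg (fun k => k ⁻¹ᵁ V) w.symm
  have h3 : IsIso (X.presheaf.map (homOfLE hpre.le).op) := by
    have : IsIso (homOfLE hpre.le) :=
      ⟨homOfLE hpre.ge, Subsingleton.elim _ _, Subsingleton.elim _ _⟩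
    infer_instance
  have h4 : C.gammaMap.app (op V) ≫ φ.hom.app (op V) = (AffAlg.algHom C.π f g w).app (op V) :=
    congrArg (fun k => k.app (op V)) hφ
  rw [AlgOf.algHom_app', Scheme.Hom.appLE] at h4
  have b2 : Function.Bijective (C.gammaMap.app (op V)).hom :=
    ConcreteCategory.bijective_of_isIso (C.gammaMap.app (op V))
  have b3 : Function.Bijective (X.presheaf.map (homOfLE hpre.le).op).hom :=
    ConcreteCategory.bijective_of_isIso (X.presheaf.map (homOfLE hpre.le).op)
  have h5 : (φ.hom.app (op V)).hom ∘ (C.gammaMap.app (op V)).hom =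
      (X.presheaf.map (homOfLE hpre.le).op).hom ∘ (g.app (C.π ⁻¹ᵁ V)).hom := by
    funext x
    exact congrArg (fun k => k.hom x) h4
  constructor
  · intro h
    have : Function.Injective ((X.presheaf.map (homOfLE hpre.le).op).hom ∘ (g.app (C.π ⁻¹ᵁ V)).hom) := by
      rw [← h5]; exact h.comp b2.1
    exact Function.Injective.of_comp this
  · intro h
    have : Function.Injective ((φ.hom.app (op V)).hom ∘ (C.gammaMap.app (op V)).hom) := by
      rw [h5]; exact b3.1.comp h
    exact (Function.Injective.of_comp_iff' _ b2).1 this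

include hφ in
theorem main [IsImmersion g] :
    (g.ker = ⊥ ↔ ∀ U : Y.Opens, Function.Injective (φ.hom.app (Opposite.op U)).hom) ∧
      (g.ker = ⊥ → IsOpenImmersion g) := by
  have hqc : QuasiCompact g := by
    have : QuasiCompact (g ≫ C.π) := by rw [w]; infer_instance
    exact QuasiCompact.of_comp g C.π
  have hker : g.ker = ⊥ ↔ ∀ V : Y.affineOpens, Function.Injective (g.app (C.π ⁻¹ᵁ V.1)).hom := by
    constructor
    · intro h V
      have h1 := Scheme.Hom.ker_apply g ⟨C.π ⁻¹ᵁ V.1, V.2.preimage _⟩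
      rw [h] at h1
      rw [RingHom.injective_iff_ker_eq_bot]
      exact h1.symm
    · intro h
      refine Scheme.IdealSheafData.ext_of_iSup_eq_top
        (fun V : Y.affineOpens => (⟨C.π ⁻¹ᵁ V.1, V.2.preimage _⟩ : C.spec.affineOpens))
        (AlgOf.iSup_preimage_affineOpens _) fun V => ?_
      rw [Scheme.Hom.ker_apply]
      exact ((RingHom.injective_iff_ker_eq_bot _).1 (h V))
  refine ⟨?_, fun h => ?_⟩
  · rw [hker]
    constructor
    · intro h U
      rw [injective_iff_map_eq_zero]
      intro s hs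
      let Csh : TopCat.Sheaf CommRingCat Y := ⟨C.presheaf, C.isSheaf⟩
      refine Csh.eq_of_locally_eq' (fun W : {W : Y.affineOpens // W.1 ≤ U} => W.1.1)
        U (fun W => homOfLE W.2) ?_ _ _ ?_
      · intro x hx
        obtain ⟨_, ⟨W, hW : IsAffineOpen W, rfl⟩, hxW, hWU⟩ :=
          (Y.isBasis_affineOpens).exists_subset_of_mem_open hx U.isOpen
        exact Opens.mem_iSup.mpr ⟨⟨⟨W, hW⟩, hWU⟩, hxW⟩
      · rintro ⟨W, hW⟩
        have h1 := (inj_iff f C g w φ hφ W.1).2 (h W)
        apply h1
        have h2 := congrArg (fun k => k.hom s) (φ.hom.naturality (homOfLE hW).op)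
        simp only [CommRingCat.hom_comp, RingHom.comp_apply] at h2
        rw [map_zero, map_zero]
        refine h2.trans ?_
        rw [hs, map_zero]
    · intro h V
      exact (inj_iff f C g w φ hφ V.1).1 (h V.1)
  · have : IsIso g.imageι := by
      delta Scheme.Hom.imageι Scheme.Hom.image; rw [h]; infer_instance
    rw [← g.toImage_imageι]; infer_instance

end Groth.Agent.Helper1.KerImm
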