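import Mathlib

set_option autoImplicit false

open CategoryTheory CategoryTheory.Limits MonoidalCategory CartesianMonoidalCategory MonObj GrpObj

namespace Groth.Agent.Helper1.KerProd

lemma group_aux {H : Type*} [CommGroup H] (x y : H) (a b : ℕ) (u v : ℤ)
    (huv : (a : ℤ) * u + b * v = 1)
    (hx : x ^ a = 1) (hy : y ^ b = 1) :
    (x * y) ^ ((b : ℤ) * v) = x ∧ (x * y) ^ ((a : ℤ) * u) = y := by
  have hx' : x ^ ((a : ℤ) * u) = 1 := by rw [zpow_mul, zpow_natCast, hx, one_zpow]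
  have hy' : y ^ ((b : ℤ) * v) = 1 := by rw [zpow_mul, zpow_natCast, hy, one_zpow]
  constructor
  · rw [mul_zpow, hy', _root_.mul_one]
    have h3 : (b : ℤ) * v = 1 - a * u := by linarith
    rw [h3, zpow_sub, zpow_one, hx', inv_one, _root_.mul_one]
  · rw [mul_zpow, hx', _root_.one_mul]
    have h3 : (a : ℤ) * u = 1 - b * v := by linarith
    rw [h3, zpow_sub, zpow_one, hy', inv_one, _root_.mul_one]

variable {C : Type*} [Category C] [CartesianMonoidalCategory C] [BraidedCategory C]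

theorem isIso_kernelProd {G Ga Gb : C} [GrpObj G] [IsCommMonObj G] (n a b : ℕ)
    (hn : n = a * b) (hab : Nat.Coprime a b)
    (hG : (𝟙 G) ^ n = 1)
    (ia : Ga ⟶ G) (hia : IsPullback ia (toUnit Ga) ((𝟙 G) ^ a) η[G])
    (ib : Gb ⟶ G) (hib : IsPullback ib (toUnit Gb) ((𝟙 G) ^ b) η[G]) :
    IsIso ((fst Ga Gb ≫ ia) * (snd Ga Gb ≫ ib)) := by
  obtain ⟨u, v, huv⟩ : ∃ u v : ℤ, (a : ℤ) * u + b * v = 1 := by
    refine ⟨Nat.gcdA a b, Nat.gcdB a b, ?_⟩
    have h0 := Nat.gcd_eq_gcd_ab a b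
    rw [hab] at h0
    simpa using h0.symm
  have hpow : ∀ {T : C} (f : T ⟶ G) (k : ℕ), f ≫ (𝟙 G) ^ k = f ^ k := by
    intro T f k
    rw [MonObj.comp_pow, Category.comp_id]
  have hzpow : ∀ {T : C} (f : T ⟶ G) (k : ℤ), f ≫ (𝟙 G) ^ k = f ^ k := by
    intro T f k
    rw [GrpObj.comp_zpow, Category.comp_id]
  have hone : ∀ (T : C), toUnit T ≫ η[G] = 1 := fun T => rfl
  have hiaa : ia ^ a = 1 := by rw [← hpow, hia.w]; rfl
  have hibb : ib ^ b = 1 := by rw [← hpow, hib.w]; rfl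
  have hgaa : ((𝟙 G) ^ ((b : ℤ) * v) : G ⟶ G) ≫ (𝟙 G) ^ a = toUnit G ≫ η[G] := by
    rw [hpow, hone, ← zpow_natCast, ← zpow_mul]
    have h3 : (b : ℤ) * v * a = (n : ℤ) * v := by rw [hn]; push_cast; ring
    rw [h3, zpow_mul, zpow_natCast, hG, one_zpow]
  have hgbb : ((𝟙 G) ^ ((a : ℤ) * u) : G ⟶ G) ≫ (𝟙 G) ^ b = toUnit G ≫ η[G] := by
    rw [hpow, hone, ← zpow_natCast, ← zpow_mul]
    have h3 : (a : ℤ) * u * b = (n : ℤ) * u := by rw [hn]; push_cast; ring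
    rw [h3, zpow_mul, zpow_natCast, hG, one_zpow]
  have hka : hia.lift _ (toUnit G) hgaa ≫ ia = (𝟙 G) ^ ((b : ℤ) * v) := hia.lift_fst _ _ _
  have hkb : hib.lift _ (toUnit G) hgbb ≫ ib = (𝟙 G) ^ ((a : ℤ) * u) := hib.lift_fst _ _ _
  have hx : (fst Ga Gb ≫ ia) ^ a = 1 := by rw [← MonObj.comp_pow, hiaa, MonObj.comp_one]
  have hy : (snd Ga Gb ≫ ib) ^ b = 1 := by rw [← MonObj.comp_pow, hibb, MonObj.comp_one]
  obtain ⟨h1, h2⟩ := group_aux (fst Ga Gb ≫ ia) (snd Ga Gb ≫ ib) a b u v huv hx hy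
  refine ⟨lift (hia.lift _ (toUnit G) hgaa) (hib.lift _ (toUnit G) hgbb), ?_, ?_⟩
  · apply CartesianMonoidalCategory.hom_ext
    · rw [Category.assoc, lift_fst, Category.id_comp]
      apply hia.hom_ext
      · rw [Category.assoc, hka, hzpow]; exact h1
      · exact toUnit_unique _ _
    · rw [Category.assoc, lift_snd, Category.id_comp]
      apply hib.hom_ext
      · rw [Category.assoc, hkb, hzpow]; exact h2
      · exact toUnit_unique _ _
  · rw [MonObj.comp_mul, ← Category.assoc, lift_fst, ← Category.assoc, lift_snd, hka, hkb,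
      ← zpow_add]
    have h3 : (b : ℤ) * v + a * u = 1 := by linarith
    rw [h3, zpow_one]

end Groth.Agent.Helper1.KerProd
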