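import Mathlib
import Groth.Agent.Lib.Helper1.KosCurveB
import Groth.Agent.Lib.Helper1.RatPt1
import Groth.Agent.Lib.Helper1.Bdd2
import Groth.Agent.Lib.Helper1.InvFt
import Groth.Agent.Lib.Helper1.PicV1
import Groth.Agent.Lib.Helper1.H1Ext
import Groth.Agent.Lib.Helper4.HHFin3
import Groth.Agent.Lib.Helper4.TwExact
import Groth.Agent.Lib.Lead.VBL9
import Groth.Agent.Lib.Lead.PicCalc

/-!
# The full Koszul complex of a globally generated invertible module and multiplication of
sections (helper1)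

For sections `s_j`, `j ∈ I`, `|I| = r`, generating an invertible module `A`, and any module `G`,
if `H^{r-n}(G ⊗ A^n) = 0` for `1 ≤ n ≤ r - 1` then every global section of `(G ⊗ A^r) ⊗ A` is a sum
of products `y_j ⊗ s_j`.
-/

set_option backward.isDefEq.respectTransparency.types false
set_option synthInstance.maxHeartbeats 400000
set_option autoImplicit false
set_option linter.unusedSectionVars false
universe u v w
open CategoryTheory CategoryTheory.Limits AlgebraicGeometry TopologicalSpace Opposite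
open Groth.Agent.Helper1 Groth.Agent.Helper1.QcCech Groth.Agent.Helper1.LGen
open Groth.Agent.Helper1.TmulLib Groth.Agent.Helper1.TensGen
open Groth.Agent.Lib.Helper4 Groth.Agent.Lib.Helper4.KosA1 Groth.Agent.Lib.Helper4.KosA1.Datum
open Groth.Agent.Helper1.KosCurve Groth.Agent.Helper1.CurveLin
open Groth.Agent.Lib.Helper4.TwExact Groth.Agent.Lead.PicCalc

namespace Groth.Agent.Helper1.KosGen

section LES
variable (k : Type u) [Field k] {X : Scheme.{u}} [X.Over (Spec (CommRingCat.of k))]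

include k in
/-- a piece of the long exact cohomology sequence -/
theorem subsingleton_X₃ {S : ShortComplex X.Modules} (hS : S.ShortExact) (q : ℕ)
    (h2 : Subsingleton (Coh.HH X S.X₂ q)) (h1 : Subsingleton (Coh.HH X S.X₁ (q + 1))) :
    Subsingleton (Coh.HH X S.X₃ q) := by
  refine subsingleton_of_forall_eq 0 fun x => ?_
  obtain ⟨y, hy⟩ := HHFin2.exact_g_delta k hS q x (Subsingleton.elim _ _)
  rw [← hy, Subsingleton.elim y 0, map_zero]

include k in
/-- **the chase along an exact complex**: an exact complex `0 → K^{c+1} → ⋯ → K^{c+r+1} → 0`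
with `H^{r-n}(K^{c+n}) = 0` for `1 ≤ n ≤ r - 1` has its last map onto on global sections -/
theorem chase (K : ℤ → X.Modules) (d : ∀ i, K i ⟶ K (i + 1)) (hd : ∀ i, d i ≫ d (i + 1) = 0)
    (c : ℤ) (r : ℕ) (hz : IsZero (K c))
    (hex : ∀ i : ℤ, c ≤ i → i ≤ c + r → (ShortComplex.mk (d i) (d (i + 1)) (hd i)).Exact)
    (hzr : ∀ j : ℤ, j = c + r + 1 + 1 → IsZero (K j))
    (hK : ∀ (n : ℕ) (i : ℤ), i = c + n → 1 ≤ n → n + 1 ≤ r →
      Subsingleton (Coh.HH X (K i) (r - n)))
    (i : ℤ) (hi : i = c + r) : Function.Surjective ((d i).app ⊤) := by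
  have claim : ∀ n : ℕ, n ≤ r → ∀ j : ℤ, j = c + n →
      Subsingleton (Coh.HH X (kernel (d j)) (r + 1 - n)) := by
    intro n
    induction n with
    | zero =>
      intro _ j hj
      have hj' : j = c := by simpa using hj
      subst hj'
      exact H1Ext.subsingleton_HH_of_isZero (IsZero.of_mono (kernel.ι (d j)) hz) _
    | succ n ih =>
      intro hn j' hj'
      obtain ⟨j, rfl⟩ : ∃ j, j' = j + 1 := ⟨j' - 1, by ring⟩
      have hj : j = c + n := by push_cast at hj'; omega
      have ih' := ih (by omega) j hj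
      have hex' := hex j (by omega) (by omega)
      have hepi : Epi (kernel.lift (d (j + 1)) (d j) (hd j)) :=
        (ShortComplex.exact_iff_epi_kernel_lift _).1 hex'
      let S : ShortComplex X.Modules :=
        ShortComplex.mk (kernel.ι (d j)) (kernel.lift (d (j + 1)) (d j) (hd j)) (by
          rw [← cancel_mono (kernel.ι (d (j + 1))), Category.assoc, kernel.lift_ι,
            kernel.condition, zero_comp])
      haveI : Mono S.f := inferInstanceAs (Mono (kernel.ι (d j)))
      haveI : Epi S.g := hepi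
      have hS : S.ShortExact :=
        { exact := ShortComplex.exact_of_f_is_kernel _
            (isKernelOfComp (kernel.ι (d (j + 1))) (d j) (kernelIsKernel (d j)) S.zero
              (kernel.lift_ι _ _ _)) }
      have hKj : Subsingleton (Coh.HH X (K j) (r - n)) := by
        rcases Nat.eq_zero_or_pos n with h0 | hpos
        · subst h0
          have hjc : j = c := by simpa using hj
          subst hjc
          exact H1Ext.subsingleton_HH_of_isZero hz _
        · exact hK n j hj hpos (by omega)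
      have e1 : r + 1 - (n + 1) = r - n := by omega
      have e2 : r + 1 - n = (r - n) + 1 := by omega
      rw [e1]
      rw [e2] at ih'
      exact subsingleton_X₃ k hS (r - n) hKj ih'
  have h1 := claim r le_rfl i hi
  have e3 : r + 1 - r = 1 := by omega
  rw [e3] at h1
  have hexi := hex i (by omega) (by omega)
  have hepi : Epi (d i) := hexi.epi_f ((hzr (i + 1 + 1) (by omega)).eq_of_tgt _ _)
  let S : ShortComplex X.Modules := ShortComplex.mk (kernel.ι (d i)) (d i) (kernel.condition _)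
  haveI : Mono S.f := inferInstanceAs (Mono (kernel.ι (d i)))
  haveI : Epi S.g := hepi
  have hS : S.ShortExact :=
    { exact := ShortComplex.exact_of_f_is_kernel _ (kernelIsKernel _) }
  exact H1Surj.app_top_surjective_of_H1 hS h1

end LES

section Coh
variable (k : Type u) [Field k] (X : Scheme.{u}) [X.Over (Spec (CommRingCat.of k))]
  [IsProper (X ↘ (Spec (CommRingCat.of k)))]
variable {I : Type w} [Fintype I] [LinearOrder I]

attribute [local instance] Abelian.hasFiniteBiproducts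

include k in
/-- every global section of `(G ⊗ A^r) ⊗ A` is a sum of products with the `r` generating
sections, when `H^{r-n}(G ⊗ A^n) = 0` for `1 ≤ n ≤ r - 1` -/
theorem exists_sum_tm_gen {A : X.Modules} (hA : PicF.IsInvertible A) (s : I → Γ(A, ⊤))
    (hs : ∀ x : X, ∃ (j : I) (V : X.Opens), x ∈ V ∧ IsGen A V (res A (le_top : V ≤ ⊤) (s j)))
    (G : X.Modules) (r : ℕ) (hr : Fintype.card I = r)
    (hvan : ∀ n : ℕ, 1 ≤ n → n + 1 ≤ r → Subsingleton (Coh.HH X (Nfam A G n) (r - n)))
    (t : Γ(CohB1.tensorMod (Nfam A G r) A, ⊤)) :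
    ∃ y : I → Γ(Nfam A G r, ⊤), t = ∑ j, tm (Nfam A G r) A ⊤ (y j) (s j) := by
  obtain ⟨c, hc⟩ : ∃ c : ℤ, c = -1 := ⟨_, rfl⟩
  obtain ⟨e, he⟩ : ∃ e : ℤ, (r : ℤ) = e + 1 := ⟨(r : ℤ) - 1, by ring⟩
  have hφ := phi_comm A G s c hA
  have hsurj : Function.Surjective (((dat A G I c).d (phi A G s c) e).app ⊤) := by
    refine chase k (dat A G I c).K ((dat A G I c).d (phi A G s c))
      ((dat A G I c).d_comp_d (phi A G s c) hφ) c r ?_ ?_ ?_ ?_ e (by omega)
    · apply Datum.isZero_K
      intro S hS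
      have : (0 : ℤ) ≤ (S.card : ℤ) := by positivity
      omega
    · intro i h1 _
      exact exact_at A G s c hA hs i h1
    · intro i hi
      apply Datum.isZero_K
      intro S hS
      have h1 := Finset.card_le_univ S
      rw [hr] at h1
      have h2 : (S.card : ℤ) ≤ (r : ℤ) := by exact_mod_cast h1
      omega
    · intro n i hi h1 h2
      apply subsingleton_HH_K k (dat A G I c) i (r - n)
      have hn : (i - c).toNat = n := by omega
      have e0 : Mfam A G c i = Nfam A G n := congrArg (Nfam A G) hn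
      rw [e0]
      exact hvan n h1 h2
  have hcard : ((Finset.univ : Finset I).card : ℤ) = e + 1 := by
    rw [Finset.card_univ, hr]; exact he
  have hιπ : (dat A G I c).ι Finset.univ (e + 1) ≫ (dat A G I c).π Finset.univ (e + 1) =
      𝟙 _ := by
    rw [(dat A G I c).ι_π, if_pos ⟨rfl, hcard⟩]
  have hQ : ∀ t : Γ(Mfam A G c (e + 1), ⊤), ∃ y : I → Γ(Mfam A G c e, ⊤),
      t = ∑ j, (phi A G s c j e).app ⊤ (y j) := by
    intro t
    obtain ⟨z, hz⟩ := hsurj (((dat A G I c).ι Finset.univ (e + 1)).app ⊤ t)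
    have h1 : ((dat A G I c).π Finset.univ (e + 1)).app ⊤
        (((dat A G I c).ι Finset.univ (e + 1)).app ⊤ t) = t :=
      congrArg (fun f => appAt ⊤ t f) hιπ
    rw [← hz] at h1
    have h2 : ((dat A G I c).π Finset.univ (e + 1)).app ⊤
        (((dat A G I c).d (phi A G s c) e).app ⊤ z) =
        appAt ⊤ z ((dat A G I c).d (phi A G s c) e ≫
          (dat A G I c).π Finset.univ (e + 1)) := rfl
    rw [h2, KosA3.d_π, map_sum] at h1
    refine ⟨fun j => sgn ((Finset.univ : Finset I).erase j) j •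
      ((dat A G I c).π ((Finset.univ : Finset I).erase j) e).app ⊤ z, ?_⟩
    rw [← h1]
    refine Finset.sum_congr rfl (fun j _ => ?_)
    rw [map_zsmul, map_zsmul]
    rfl
  have hk1 : c ≤ e := by omega
  have hQ' : ∀ (a b : ℕ) (h : b = a + 1), a = (e - c).toNat → b = (e + 1 - c).toNat →
      ∀ t : Γ(Nfam A G b, ⊤), ∃ y : I → Γ(Nfam A G a, ⊤),
        t = ∑ j, (step A G (s j) a b h).app ⊤ (y j) := by
    intro a b h ha hb
    subst ha
    subst hb
    intro t
    obtain ⟨y, hy⟩ := hQ t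
    refine ⟨y, ?_⟩
    rw [hy]
    refine Finset.sum_congr rfl (fun j _ => ?_)
    rw [phi_eq A G s c j e hk1]
    rfl
  obtain ⟨y, hy⟩ := hQ' r (r + 1) rfl (by omega) (by omega) t
  refine ⟨y, ?_⟩
  rw [hy]
  refine Finset.sum_congr rfl (fun j _ => ?_)
  exact step_app_top A G (s j) r (y j)

/-- a spanning family of `h⁰(L)` global sections of a globally generated invertible module
generates it everywhere -/
theorem exists_basis_gen (L : X.Modules) (hL : PicF.IsInvertible L)
    (hgg : Curv2.IsGloballyGenerated L) (r : ℕ) (hr : Module.finrank k (Coh.HH X L 0) = r) :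
    ∃ s : Fin r → Γ(L, ⊤), ∀ x : X, ∃ (j : Fin r) (V : X.Opens), x ∈ V ∧
      IsGen L V (res L (le_top : V ≤ ⊤) (s j)) := by
  classical
  have hcoh : Coh.IsCoh L := InvQc.isCoh_of_isInvertible L hL
  letI := Groth.Agent.Lead.VBL.modΓ k X L
  haveI := Groth.Agent.Lead.VBL.finite_Γ k X L hcoh
  let e : Coh.HH X L 0 ≃ₗ[k] L.val.obj (op ⊤) :=
    { HH0.equiv X L with
      map_smul' := fun a x => HH0.equiv_smul_over X L a x }
  have hN' : Module.finrank k (L.val.obj (op ⊤)) ≤ r := by rw [← e.finrank_eq, hr]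
  obtain ⟨σ, hσ⟩ := Bdd.exists_spanning_fin k (L.val.obj (op ⊤)) r hN'
  refine ⟨σ, fun x => ?_⟩
  obtain ⟨τ, hτ⟩ := CurvePt.exists_genAt_of_gg X L hL hgg x
  by_contra hcon
  have hno : ∀ j, ¬ GenAt L (σ j) x := by
    intro j hj
    obtain ⟨V', h1, h2⟩ := hj
    exact hcon ⟨j, V', h1, h2⟩
  obtain ⟨c, hc⟩ := (Submodule.mem_span_range_iff_exists_fun k).1
    (show (show L.val.obj (op ⊤) from τ) ∈ Submodule.span k (Set.range σ) by rw [hσ]; trivial)
  have h1 := RatPt.not_genAt_sum (L := L) Finset.univ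
    (fun j => Coh.toGlobal (X ↘ Spec (CommRingCat.of k)) (c j)) σ x (fun j _ => hno j)
    (RatPt.not_genAt_zero x)
  apply h1
  have h2 : ∑ j, (fun j => Coh.toGlobal (X ↘ Spec (CommRingCat.of k)) (c j)) j • σ j = τ := hc
  exact (congrArg (fun t => GenAt L t x) h2).mpr hτ

end Coh

section Main
variable (k : Type u) [Field k] (X : Scheme.{u}) [X.Over (Spec (CommRingCat.of k))]
  [IsProper (X ↘ (Spec (CommRingCat.of k)))]

variable {X} in
theorem app_sum {P Q : X.Modules} (f : P ⟶ Q) (U : X.Opens) {ι : Type*} (t : Finset ι)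
    (w : ι → Γ(P, U)) : f.app U (∑ j ∈ t, w j) = ∑ j ∈ t, f.app U (w j) := map_sum _ _ _

theorem pow_calc {α : Type*} [CommMonoid α] (m l : α) (h : m * l = 1) (a b c : ℕ) :
    m ^ (a + c) * l ^ (b + c) = m ^ a * l ^ b := by
  rw [pow_add, pow_add]
  calc m ^ a * m ^ c * (l ^ b * l ^ c) = m ^ a * l ^ b * (m * l) ^ c := by
        rw [mul_pow]; ac_rfl
    _ = m ^ a * l ^ b := by rw [h, one_pow, mul_one]

theorem pow_calc' {α : Type*} [CommMonoid α] (m l : α) (h : m * l = 1) (r b n a' b' c : ℕ)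
    (h1 : r = a' + c) (h2 : b + n = b' + c) :
    m ^ r * l ^ b * l ^ n = m ^ a' * l ^ b' := by
  rw [mul_assoc, ← pow_add, h1, h2]
  exact pow_calc m l h a' b' c

variable {X} in
theorem cl_Nfam (A G : X.Modules) : ∀ n : ℕ, PicF.cl (Nfam A G n) = PicF.cl G * PicF.cl A ^ n
  | 0 => by rw [pow_zero, mul_one]; rfl
  | n + 1 => by
    change PicF.cl (CohB1.tensorMod (Nfam A G n) A) = _
    rw [cl_tensor, cl_Nfam A G n, pow_succ, mul_assoc]

/-- **multiplication of sections is onto** under the vanishing of the cohomology of the terms of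
the Koszul complex -/
theorem s14054 (L : X.Modules) (hL : PicF.IsInvertible L) (hgg : Curv2.IsGloballyGenerated L)
    (M : X.Modules) (hM : ClSub.IsInverseOf M L)
    (b : ℕ)
    (hvan₁ : ∀ q : ℕ, 1 ≤ q → q ≤ b → q < Module.finrank k (Coh.HH X L 0) →
      Subsingleton (Coh.HH X (CohB1.tensorPow L (b - q)) q))
    (hvan₂ : ∀ q : ℕ, b < q → q < Module.finrank k (Coh.HH X L 0) →
      Subsingleton (Coh.HH X (CohB1.tensorPow M (q - b)) q)) :
    Function.Surjective
      ((toSheafify (Opens.grothendieckTopology X)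
        (CohB1.tensorPre (CohB1.tensorPow L b) L).presheaf).app (Opposite.op ⊤)) := by
  classical
  obtain ⟨r, hr⟩ : ∃ r, Module.finrank k (Coh.HH X L 0) = r := ⟨_, rfl⟩
  rw [hr] at hvan₁ hvan₂
  obtain ⟨s, hs⟩ := exists_basis_gen k X L hL hgg r hr
  obtain ⟨eML⟩ := hM
  have hml : PicF.cl M * PicF.cl L = 1 :=
    (cl_tensor M L).symm.trans ((cl_eq_of_iso eML).trans cl_one)
  obtain ⟨G, hG⟩ : ∃ G : X.Modules,
      G = CohB1.tensorMod (CohB1.tensorPow M r) (CohB1.tensorPow L b) := ⟨_, rfl⟩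
  have hclG : PicF.cl G = PicF.cl M ^ r * PicF.cl L ^ b := by
    rw [hG, cl_tensor, PicV.cl_tensorPow, PicV.cl_tensorPow]
  have hN : ∀ n, PicF.cl (Nfam L G n) = PicF.cl M ^ r * PicF.cl L ^ b * PicF.cl L ^ n := by
    intro n
    rw [cl_Nfam, hclG]
  have hvan : ∀ n : ℕ, 1 ≤ n → n + 1 ≤ r →
      Subsingleton (Coh.HH X (Nfam L G n) (r - n)) := by
    intro n h1 h2
    by_cases hq : r - n ≤ b
    · have hcl : PicF.cl (Nfam L G n) = PicF.cl (CohB1.tensorPow L (b - (r - n))) := by
        rw [hN, PicV.cl_tensorPow,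
          pow_calc' _ _ hml r b n 0 (b - (r - n)) r (by omega) (by omega), pow_zero, one_mul]
      obtain ⟨ε⟩ := nonempty_iso_of_cl_eq hcl
      haveI := hvan₁ (r - n) (by omega) hq (by omega)
      exact (HHFin1.HHequiv k ε (r - n)).toEquiv.subsingleton
    · have hcl : PicF.cl (Nfam L G n) = PicF.cl (CohB1.tensorPow M (r - n - b)) := by
        rw [hN, PicV.cl_tensorPow,
          pow_calc' _ _ hml r b n (r - n - b) 0 (b + n) (by omega) (by omega), pow_zero, mul_one]
      obtain ⟨ε⟩ := nonempty_iso_of_cl_eq hcl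
      haveI := hvan₂ (r - n) (by omega) (by omega)
      exact (HHFin1.HHequiv k ε (r - n)).toEquiv.subsingleton
  have hcl₀ : PicF.cl (Nfam L G r) = PicF.cl (CohB1.tensorPow L b) := by
    rw [hN, PicV.cl_tensorPow,
      pow_calc' _ _ hml r b r 0 b r (by omega) (by omega), pow_zero, one_mul]
  obtain ⟨e₀⟩ := nonempty_iso_of_cl_eq hcl₀
  have key : ∀ u : Γ(CohB1.tensorMod (CohB1.tensorPow L b) L, ⊤),
      ∃ y : Fin r → Γ(CohB1.tensorPow L b, ⊤),
        u = ∑ j, tm (CohB1.tensorPow L b) L ⊤ (y j) (s j) := by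
    intro u
    obtain ⟨y, hy⟩ := exists_sum_tm_gen k X hL s hs G r (Fintype.card_fin r) hvan
      (((TL L).map e₀.inv).app ⊤ u)
    refine ⟨fun j => e₀.hom.app ⊤ (y j), ?_⟩
    have h1 : ((TL L).map e₀.hom).app ⊤ (((TL L).map e₀.inv).app ⊤ u) = u := by
      have h : (TL L).map e₀.inv ≫ (TL L).map e₀.hom = 𝟙 _ := by
        rw [← CategoryTheory.Functor.map_comp, e₀.inv_hom_id, CategoryTheory.Functor.map_id]
      exact congrArg (fun f => appAt ⊤ u f) h
    have e1 : u = ((TL L).map e₀.hom).app ⊤ (((TL L).map e₀.inv).app ⊤ u) := h1.symm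
    have e2 : ((TL L).map e₀.hom).app ⊤ (((TL L).map e₀.inv).app ⊤ u) =
        ((TL L).map e₀.hom).app ⊤ (∑ j, tm (Nfam L G r) L ⊤ (y j) (s j)) := congrArg _ hy
    have e3 := app_sum ((TL L).map e₀.hom) ⊤ Finset.univ
      (fun j => tm (Nfam L G r) L ⊤ (y j) (s j))
    have e4 : ∑ j, ((TL L).map e₀.hom).app ⊤ (tm (Nfam L G r) L ⊤ (y j) (s j)) =
        ∑ j, tm (CohB1.tensorPow L b) L ⊤ (e₀.hom.app ⊤ (y j)) (s j) :=
      Finset.sum_congr rfl fun j _ => TL_map_tm L e₀.hom ⊤ (y j) (s j)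
    exact e1.trans (e2.trans (e3.trans e4))
  intro u
  obtain ⟨y, hy⟩ := key u
  refine ⟨∑ j, TmulLib.pure (CohB1.tensorPow L b) L ⊤ (y j) (s j), ?_⟩
  rw [map_sum]
  exact (hy.trans (Finset.sum_congr rfl fun j _ => rfl)).symm

end Main

end Groth.Agent.Helper1.KosGen
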