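import Mathlib
import Groth.Agent.Lib.Helper1.KosGen
import Groth.Agent.Lib.Helper1.FinSigma
import Groth.Agent.Lib.Helper1.AmpleLib3
import Groth.Agent.Lib.Helper1.FtLocal
import Groth.Agent.Lib.Helper1.TwistSec
import Groth.Agent.Lib.Helper4.TwExact

/-!
# The twisted kernel of a generating family of sections is globally generated (helper1, S9569)

For sections `s_i : O ⟶ L` of an invertible module generating it, the kernel `F` of
`O^k ⟶ L` twisted by `L` is generated by the global sections `ε_i ⊗ s_l - ε_l ⊗ s_i`.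
-/

set_option backward.isDefEq.respectTransparency.types false
set_option synthInstance.maxHeartbeats 400000
set_option autoImplicit false
set_option linter.unusedSectionVars false
set_option linter.style.haveILetI false
set_option linter.unusedVariables false
universe u
open CategoryTheory CategoryTheory.Limits AlgebraicGeometry TopologicalSpace Opposite
open Groth.Agent.Helper1 Groth.Agent.Helper1.QcCech Groth.Agent.Helper1.LGen
open Groth.Agent.Helper1.TmulLib Groth.Agent.Helper1.TensGen
open Groth.Agent.Lib.Helper4 Groth.Agent.Lib.Helper4.TwExact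

namespace Groth.Agent.Helper1.KerTw

section Alg
variable {R M : Type*} [CommRing R] [AddCommGroup M] [Module R M] {ι : Type*} [Fintype ι]

/-- the partition of unity identity behind the generation of the syzygies -/
theorem alg_identity (ε : ι → M) (f c a : ι → R) (h1 : ∑ l, c l * a l = 1)
    (h0 : ∑ i, f i * a i = 0) :
    ∑ i, ∑ l, (f i * c l) • (a l • ε i - a i • ε l) = ∑ i, f i • ε i := by
  have e1 : ∀ i, ∑ l, (f i * c l) • (a l • ε i) = f i • ε i := by
    intro i
    have h : ∀ l, (f i * c l) • (a l • ε i) = (f i * (c l * a l)) • ε i := by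
      intro l
      rw [smul_smul, mul_assoc]
    rw [Finset.sum_congr rfl fun l _ => h l, ← Finset.sum_smul, ← Finset.mul_sum, h1, mul_one]
  have e2 : ∑ i, ∑ l, (f i * c l) • (a i • ε l) = 0 := by
    rw [Finset.sum_comm]
    apply Finset.sum_eq_zero
    intro l _
    have h : ∀ i, (f i * c l) • (a i • ε l) = (c l * (f i * a i)) • ε l := by
      intro i
      rw [smul_smul]
      congr 1
      ring
    rw [Finset.sum_congr rfl fun i _ => h i, ← Finset.sum_smul, ← Finset.mul_sum, h0, mul_zero,
      zero_smul]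
  have e3 : ∀ i, ∑ l, (f i * c l) • (a l • ε i - a i • ε l) =
      ∑ l, (f i * c l) • (a l • ε i) - ∑ l, (f i * c l) • (a i • ε l) := by
    intro i
    rw [← Finset.sum_sub_distrib]
    exact Finset.sum_congr rfl fun l _ => smul_sub _ _ _
  rw [Finset.sum_congr rfl fun i _ => e3 i, Finset.sum_sub_distrib, e2, sub_zero]
  exact Finset.sum_congr rfl fun i _ => e1 i

end Alg

variable {X : Scheme.{u}}

theorem secVal_eq {L : X.Modules} (s : Coh.structureModule X ⟶ L) (U : X.Opens) :
    secVal s U = s.app U (show Γ(Coh.structureModule X, U) from (1 : Γ(X, U))) := by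
  have h := app_eq_smul s U (1 : Γ(X, U))
  rw [one_smul] at h
  exact h.symm

theorem app_secVal {L L' : X.Modules} (s : Coh.structureModule X ⟶ L) (φ : L ⟶ L')
    (U : X.Opens) : φ.app U (secVal s U) = secVal (s ≫ φ) U := by
  rw [secVal_eq, secVal_eq]
  rfl

/-- products of sections of an invertible module commute -/
theorem tm_comm {L : X.Modules} (hL : PicF.IsInvertible L) (U : X.Opens) (σ t : Γ(L, U)) :
    tm L L U σ t = tm L L U t σ := by
  apply TwistSec.eq_of_locally
  intro x hx
  obtain ⟨W, a, hxW, ha⟩ := exists_isGen hL x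
  have hWU : W ⊓ U ≤ U := inf_le_right
  have hW' : W ⊓ U ≤ W := inf_le_left
  refine ⟨W ⊓ U, hWU, ⟨hxW, hx⟩, ?_⟩
  obtain ⟨f, hf⟩ := (ha.res hW').exists_coeff (res L hWU t)
  obtain ⟨g, hg⟩ := (ha.res hW').exists_coeff (res L hWU σ)
  rw [res_tm, res_tm, ← hf, ← hg]
  have hl : tm L L (W ⊓ U) (g • res L hW' a) (f • res L hW' a) =
      (f * g) • tm L L (W ⊓ U) (res L hW' a) (res L hW' a) := by
    rw [tm_smul_right, tm_smul_left, smul_smul]
  have hr : tm L L (W ⊓ U) (f • res L hW' a) (g • res L hW' a) =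
      (g * f) • tm L L (W ⊓ U) (res L hW' a) (res L hW' a) := by
    rw [tm_smul_right, tm_smul_left, smul_smul]
  rw [hl, hr, mul_comm]

theorem tm_sum_left (M N : X.Modules) (U : X.Opens) {ι : Type*} (t : Finset ι)
    (m : ι → Γ(M, U)) (e : Γ(N, U)) :
    tm M N U (∑ j ∈ t, m j) e = ∑ j ∈ t, tm M N U (m j) e := by
  classical
  induction t using Finset.induction_on with
  | empty =>
    simp only [Finset.sum_empty]
    exact tm_zero_left M N U e
  | insert a t ha ih =>
    rw [Finset.sum_insert ha, Finset.sum_insert ha, tm_add_left, ih]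

theorem tm_sum_smul_left (M N : X.Modules) (U : X.Opens) {ι : Type*} (t : Finset ι)
    (r : ι → Γ(X, U)) (m : ι → Γ(M, U)) (e : Γ(N, U)) :
    tm M N U (∑ j ∈ t, r j • m j) e = ∑ j ∈ t, r j • tm M N U (m j) e := by
  rw [tm_sum_left]
  exact Finset.sum_congr rfl fun j _ => tm_smul_left M N U (r j) (m j) e

section TLapp
variable (L : X.Modules) {M M' : X.Modules} (φ : M ⟶ M') (U : X.Opens)

/-- `(TL L).map φ` on sections, between the groups of sections of the tensor products -/
noncomputable def TLapp : Γ(CohB1.tensorMod M L, U) →+ Γ(CohB1.tensorMod M' L, U) :=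
  AddMonoidHom.mk' (fun z => ((TL L).map φ).app U z) (fun a b => map_add _ a b)

theorem TLapp_tm (m : Γ(M, U)) (σ : Γ(L, U)) :
    TLapp L φ U (tm M L U m σ) = tm M' L U (φ.app U m) σ := TL_map_tm L φ U m σ

theorem TLapp_smul (r : Γ(X, U)) (z : Γ(CohB1.tensorMod M L, U)) :
    TLapp L φ U (r • z) = r • TLapp L φ U z :=
  Scheme.Modules.Hom.app_smul ((TL L).map φ) r z

theorem TLapp_res {O O' : X.Opens} (h : O' ≤ O) (z : Γ(CohB1.tensorMod M L, O)) :
    TLapp L φ O' (res (CohB1.tensorMod M L) h z) =
      res (CohB1.tensorMod M' L) h (TLapp L φ O z) :=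
  QcExt.app_res ((TL L).map φ) h z

theorem TLapp_injective (hL : LocGen L) [Mono φ] : Function.Injective (TLapp L φ U) := by
  haveI := mono_map hL φ
  intro a b h
  exact FtLocal.app_injective_of_mono ((TL L).map φ) U h

theorem TLapp_exact (hL : LocGen L) {S : ShortComplex X.Modules} (hS : S.ShortExact)
    (x : Γ(CohB1.tensorMod S.X₂ L, U)) (hx : TLapp L S.g U x = 0) :
    ∃ y : Γ(CohB1.tensorMod S.X₁ L, U), TLapp L S.f U y = x := by
  obtain ⟨y, hy⟩ := QcExt.app_exact (shortExact_map hL hS) U x hx
  exact ⟨y, hy⟩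

end TLapp

set_option maxHeartbeats 1600000 in
/-- **the twisted kernel is globally generated** -/
theorem main' (L : X.Modules) (hL : PicF.IsInvertible L) (k : ℕ)
    (s : Fin k → (Coh.structureModule X ⟶ L))
    (p : (∐ fun _ : Fin k => Coh.structureModule X) ⟶ L) [Epi p]
    (hp : ∀ i, Sigma.ι (fun _ : Fin k => Coh.structureModule X) i ≫ p = s i) :
    Curv2.IsGloballyGenerated (CohB1.tensorMod (kernel p) L) := by
  classical
  have hLG : LocGen L := locGen_of_isInvertible L hL
  have hS : (ShortComplex.mk (kernel.ι p) p (kernel.condition p)).ShortExact :=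
    ShortComplex.ShortExact.mk' (ShortComplex.exact_kernel p) inferInstance inferInstance
  have hpd : p = Sigma.desc s := by
    apply Sigma.hom_ext
    intro i
    rw [hp, Sigma.ι_desc]
  -- the global sections
  have hw : ∀ i l : Fin k, TLapp L p ⊤
      (tm (∐ fun _ : Fin k => Coh.structureModule X) L ⊤
          (secVal (Sigma.ι (fun _ : Fin k => Coh.structureModule X) i) ⊤) (secVal (s l) ⊤) -
        tm (∐ fun _ : Fin k => Coh.structureModule X) L ⊤
          (secVal (Sigma.ι (fun _ : Fin k => Coh.structureModule X) l) ⊤)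
          (secVal (s i) ⊤)) = 0 := by
    intro i l
    rw [map_sub, TLapp_tm, TLapp_tm, app_secVal, app_secVal, hp, hp, tm_comm hL, sub_self]
  have hG : ∀ i l : Fin k, ∃ g : Γ(CohB1.tensorMod (kernel p) L, ⊤),
      TLapp L (kernel.ι p) ⊤ g =
        tm (∐ fun _ : Fin k => Coh.structureModule X) L ⊤
          (secVal (Sigma.ι (fun _ : Fin k => Coh.structureModule X) i) ⊤) (secVal (s l) ⊤) -
        tm (∐ fun _ : Fin k => Coh.structureModule X) L ⊤
          (secVal (Sigma.ι (fun _ : Fin k => Coh.structureModule X) l) ⊤)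
          (secVal (s i) ⊤) := by
    intro i l
    obtain ⟨g, hg⟩ := TLapp_exact L ⊤ hLG hS _ (hw i l)
    exact ⟨g, hg⟩
  choose G hG using hG
  apply AmpleLib.isGloballyGenerated_of_spannedOn
  intro x
  obtain ⟨W, e, hxW, he⟩ := exists_isGen hL x
  refine ⟨W, hxW, ?_⟩
  intro O hO t y hy
  obtain ⟨O', hO', v', hyO', hv'⟩ :=
    Groth.Agent.Lib.Helper5.LocLift.exists_local_lift p O (res L hO e) y hy
  have hv'' : p.app O' v' = res L hO' (res L hO e) := hv'
  obtain ⟨e', he'def⟩ : ∃ e' : Γ(L, O'), e' = res L hO' (res L hO e) := ⟨_, rfl⟩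
  have he' : IsGen L O' e' := by
    rw [he'def]
    exact (he.res hO).res hO'
  rw [← he'def] at hv''
  have ha : ∀ l : Fin k, ∃ a : Γ(X, O'), a • e' = secVal (s l) O' :=
    fun l => he'.exists_coeff _
  choose a ha using ha
  obtain ⟨f, hf⟩ := (bijective_tm_of_isGen (kernel p) he').2
    (res (CohB1.tensorMod (kernel p) L) hO' t)
  have hf' : tm (kernel p) L O' f e' = res (CohB1.tensorMod (kernel p) L) hO' t := hf
  obtain ⟨v, hv⟩ : ∃ v : Γ(∐ fun _ : Fin k => Coh.structureModule X, O'),
      v = (kernel.ι p).app O' f := ⟨_, rfl⟩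
  have hpv : p.app O' v = 0 := by
    rw [hv]
    exact QcExt.app_zero (ShortComplex.mk (kernel.ι p) p (kernel.condition p)) O' f
  obtain ⟨fc, hfc⟩ : ∃ fc : Fin k → Γ(X, O'), ∀ i, (show Γ(Coh.structureModule X, O') from fc i) =
      (FinSigma.q (fun _ : Fin k => Coh.structureModule X) i).app O' v :=
    ⟨fun i => (FinSigma.q (fun _ : Fin k => Coh.structureModule X) i).app O' v, fun _ => rfl⟩
  obtain ⟨cc, hcc⟩ : ∃ cc : Fin k → Γ(X, O'), ∀ i, (show Γ(Coh.structureModule X, O') from cc i) =
      (FinSigma.q (fun _ : Fin k => Coh.structureModule X) i).app O' v' :=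
    ⟨fun i => (FinSigma.q (fun _ : Fin k => Coh.structureModule X) i).app O' v', fun _ => rfl⟩
  have hdec : v = ∑ i, fc i • secVal (Sigma.ι (fun _ : Fin k => Coh.structureModule X) i) O' := by
    have h := FinSigma.decomp (fun _ : Fin k => Coh.structureModule X) O' v
    refine h.trans (Finset.sum_congr rfl fun i _ => ?_)
    have h2 := app_eq_smul (Sigma.ι (fun _ : Fin k => Coh.structureModule X) i) O' (fc i)
    rw [← hfc i]
    exact h2
  have happ : ∀ (u : Γ(∐ fun _ : Fin k => Coh.structureModule X, O')) (g : Fin k → Γ(X, O')),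
      (∀ i, (show Γ(Coh.structureModule X, O') from g i) =
        (FinSigma.q (fun _ : Fin k => Coh.structureModule X) i).app O' u) →
      p.app O' u = (∑ i, g i * a i) • e' := by
    intro u g hg
    rw [hpd, FinSigma.desc_app, Finset.sum_smul]
    refine Finset.sum_congr rfl fun i _ => ?_
    have h2 := app_eq_smul (s i) O' (g i)
    rw [← hg i, h2, ← ha i, smul_smul]
  have hinj : Function.Injective (fun r : Γ(X, O') => r • e') := (IsGen.bijective_self he').1
  have h1 : ∑ l, cc l * a l = 1 := by
    apply hinj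
    change (∑ l, cc l * a l) • e' = (1 : Γ(X, O')) • e'
    rw [← happ v' cc hcc, hv'', one_smul]
  have h0 : ∑ i, fc i * a i = 0 := by
    apply hinj
    change (∑ i, fc i * a i) • e' = (0 : Γ(X, O')) • e'
    rw [← happ v fc hfc, hpv, zero_smul]
  refine ⟨O', hO', hyO', ?_⟩
  have hGres : ∀ i l : Fin k, TLapp L (kernel.ι p) O'
      (res (CohB1.tensorMod (kernel p) L) (le_top : O' ≤ ⊤) (G i l)) =
      tm (∐ fun _ : Fin k => Coh.structureModule X) L O'
        (a l • secVal (Sigma.ι (fun _ : Fin k => Coh.structureModule X) i) O' -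
          a i • secVal (Sigma.ι (fun _ : Fin k => Coh.structureModule X) l) O') e' := by
    intro i l
    rw [TLapp_res, hG i l, map_sub, res_tm, res_tm, res_secVal, res_secVal, res_secVal,
      res_secVal, ← ha l, ← ha i, tm_smul_right, tm_smul_right, tm_sub_left, tm_smul_left,
      tm_smul_left]
  have e2 : tm (∐ fun _ : Fin k => Coh.structureModule X) L O' v e' =
      ∑ i, ∑ l, (fc i * cc l) • tm (∐ fun _ : Fin k => Coh.structureModule X) L O'
        (a l • secVal (Sigma.ι (fun _ : Fin k => Coh.structureModule X) i) O' -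
          a i • secVal (Sigma.ι (fun _ : Fin k => Coh.structureModule X) l) O') e' := by
    have h3 : v = ∑ i, ∑ l, (fc i * cc l) •
        (a l • secVal (Sigma.ι (fun _ : Fin k => Coh.structureModule X) i) O' -
          a i • secVal (Sigma.ι (fun _ : Fin k => Coh.structureModule X) l) O') := by
      rw [alg_identity
        (fun i => secVal (Sigma.ι (fun _ : Fin k => Coh.structureModule X) i) O') fc cc a h1 h0]
      exact hdec
    conv_lhs => rw [h3]
    rw [tm_sum_left]
    refine Finset.sum_congr rfl fun i _ => ?_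
    rw [tm_sum_smul_left]
  have hfin : res (CohB1.tensorMod (kernel p) L) hO' t =
      ∑ i, ∑ l, (fc i * cc l) •
        res (CohB1.tensorMod (kernel p) L) (le_top : O' ≤ ⊤) (G i l) := by
    apply TLapp_injective L (kernel.ι p) O' hLG
    rw [← hf', TLapp_tm, ← hv, e2, map_sum]
    refine Finset.sum_congr rfl fun i _ => ?_
    rw [map_sum]
    refine Finset.sum_congr rfl fun l _ => ?_
    rw [TLapp_smul, hGres]
  rw [hfin]
  exact Submodule.sum_mem _ fun i _ => Submodule.sum_mem _ fun l _ =>
    Submodule.smul_mem _ _ (Submodule.subset_span ⟨G i l, rfl⟩)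

/-- the statement of S9569 -/
theorem main (L : X.Modules) (hL : PicF.IsInvertible L) (n : ℕ)
    (s : Fin (n + 1) → (Coh.structureModule X ⟶ L))
    (hs : Epi (Sigma.desc s : FlatMod.freeMod X (n + 1) ⟶ L)) :
    Curv2.IsGloballyGenerated
      (CohB1.tensorMod (kernel (Sigma.desc s : FlatMod.freeMod X (n + 1) ⟶ L)) L) := by
  haveI := hs
  exact main' L hL (n + 1) s (Sigma.desc s) (fun i => Sigma.ι_desc _ _)

end Groth.Agent.Helper1.KerTw
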