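import Mathlib
import Groth.Agent.Lib.Helper1.VAngB
import Groth.Agent.Lib.Helper1.VA3
import Groth.Agent.Lib.Helper1.VA8

/-!
# Normally generated ample modules over a Noetherian affine base are very ample (helper1)
-/

set_option backward.isDefEq.respectTransparency.types false
set_option synthInstance.maxHeartbeats 400000
set_option autoImplicit false
set_option linter.unusedSectionVars false
universe u
open CategoryTheory CategoryTheory.Limits AlgebraicGeometry TopologicalSpace Opposite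
  HomogeneousLocalization

namespace Groth.Agent.Helper1.VAng

open Groth.Agent.Helper1.QcCech Groth.Agent.Helper1.SubSh Groth.Agent.Helper1.LGen
open Groth.Agent.Helper1 Groth.Agent.Helper1.AmpleLib Groth.Agent.Helper1.TwForm
open Groth.Agent.Helper1.TmulLib Groth.Agent.Helper1.TwistSec Groth.Agent.Helper1.TensGen
open Groth.Agent.Helper1.VA1 Groth.Agent.Helper1.VA2
open Groth.Agent.Helper1.ProjUP5 Groth.Agent.Helper1.PullSec Groth.Agent.Helper1.PullGen
open Groth.Agent.Helper1.ProjUP7

section Affine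

/-- a quasi-affine scheme proper over an affine scheme is affine -/
theorem isAffine_of_isQuasiAffine_of_isProper {U B : Scheme.{u}} [IsAffine B] (g : U ⟶ B)
    [IsProper g] [U.IsQuasiAffine] : IsAffine U := by
  have hnat : U.toSpecΓ ≫ Spec.map g.appTop = g ≫ B.toSpecΓ := (Scheme.toSpecΓ_naturality g).symm
  haveI : IsProper (U.toSpecΓ ≫ Spec.map g.appTop) := by rw [hnat]; infer_instance
  haveI : IsProper U.toSpecΓ := IsProper.of_comp U.toSpecΓ (Spec.map g.appTop)
  have hcl : IsClosed (Set.range U.toSpecΓ) := U.toSpecΓ.isClosedMap.isClosed_range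
  have hdense : DenseRange U.toSpecΓ := U.toSpecΓ.denseRange
  have hsurj : Function.Surjective U.toSpecΓ := by
    rw [← Set.range_eq_univ, ← hcl.closure_eq]
    exact hdense.closure_range
  haveI : Surjective U.toSpecΓ := ⟨hsurj⟩
  haveI : IsIso U.toSpecΓ :=
    (isIso_iff_isOpenImmersion_and_surjective _).2 ⟨inferInstance, inferInstance⟩
  exact ⟨inferInstance⟩

/-- the locus of generation of a section of an ample module is affine as soon as it is the
preimage of an affine open under a proper morphism -/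
theorem isAffineOpen_genLocus_of_isProper {X P : Scheme.{u}} (r : X ⟶ P) [IsProper r]
    (V : P.Opens) (hV : IsAffineOpen V) {L : X.Modules} (hL : CohB1.IsAmple L)
    (s : Coh.structureModule X ⟶ L) (hpre : CohB1.genLocus L s = r ⁻¹ᵁ V)
    (hc : IsCompact ((CohB1.genLocus L s : X.Opens) : Set X)) :
    IsAffineOpen (CohB1.genLocus L s) := by
  have hamp : CohB1.IsAmple (L.restrict (CohB1.genLocus L s).ι) :=
    isAmple_restrict_of_isCompact hL _ hc
  have hgl : CohB1.genLocus (L.restrict (CohB1.genLocus L s).ι)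
      (restrictSec (CohB1.genLocus L s).ι s) = ⊤ := by
    rw [genLocus_restrictSec]
    exact Scheme.Opens.ι_preimage_self _
  haveI : IsIso (restrictSec (CohB1.genLocus L s).ι s) :=
    Groth.Agent.Lead.SurfSec.isIso_of_genLocus_eq_top _ hgl
  have hO : CohB1.IsAmple (Coh.structureModule (↑(CohB1.genLocus L s) : Scheme.{u})) :=
    TwistAmpleOpen.isAmple_of_iso (asIso (restrictSec (CohB1.genLocus L s).ι s)).symm hamp
  haveI : (↑(CohB1.genLocus L s) : Scheme.{u}).IsQuasiAffine :=
    GenLoc.isQuasiAffine_of_isAmple_O hO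
  haveI : IsAffine (↑V : Scheme.{u}) := hV
  let g : (↑(CohB1.genLocus L s) : Scheme.{u}) ⟶ (↑V : Scheme.{u}) :=
    (X.isoOfEq hpre).hom ≫ (r ∣_ V)
  haveI : IsProper g := by
    change IsProper ((X.isoOfEq hpre).hom ≫ (r ∣_ V))
    infer_instance
  exact isAffine_of_isQuasiAffine_of_isProper g

end Affine

section Closure

variable {X : Scheme.{u}}

theorem tm_neg_left (M N : X.Modules) (U : X.Opens) (m : Γ(M, U)) (n : Γ(N, U)) :
    tm M N U (-m) n = -tm M N U m n := by
  have h := tm_add_left M N U (-m) m n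
  rw [neg_add_cancel, tm_zero_left] at h
  exact eq_neg_of_add_eq_zero_left h.symm

/-- additive generation by pure tensors, as an induction principle -/
theorem ind_of_closure {M N : X.Modules}
    (hs : AddSubgroup.closure {t | ∃ (m : M.val.obj (op ⊤)) (s : N.val.obj (op ⊤)),
      t = SecTwist.tmul M N ⊤ m s} = ⊤)
    (P : Γ(CohB1.tensorMod M N, ⊤) → Prop) (h0 : P 0) (hadd : ∀ x y, P x → P y → P (x + y))
    (hmul : ∀ (m : Γ(M, ⊤)) (n : Γ(N, ⊤)), P (tm M N ⊤ m n)) : ∀ t, P t := by
  have key : ∀ t : (CohB1.tensorMod M N).val.obj (op ⊤), P t ∧ P (-t) := by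
    intro t
    have ht : t ∈ AddSubgroup.closure {t | ∃ (m : M.val.obj (op ⊤)) (s : N.val.obj (op ⊤)),
        t = SecTwist.tmul M N ⊤ m s} := by
      rw [hs]; trivial
    refine AddSubgroup.closure_induction
      (p := fun (x : (CohB1.tensorMod M N).val.obj (op ⊤)) _ => P x ∧ P (-x)) ?_ ?_ ?_ ?_ ht
    · rintro _ ⟨m, s, rfl⟩
      refine ⟨hmul m s, ?_⟩
      have e : -SecTwist.tmul M N ⊤ m s = tm M N ⊤ (-m) s := (tm_neg_left M N ⊤ m s).symm
      rw [e]
      exact hmul _ _
    · refine ⟨h0, ?_⟩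
      rw [neg_zero]
      exact h0
    · rintro x y _ _ ⟨hx, hx'⟩ ⟨hy, hy'⟩
      refine ⟨hadd x y hx hy, ?_⟩
      rw [neg_add]
      exact hadd _ _ hx' hy'
    · rintro x _ ⟨hx, hx'⟩
      refine ⟨hx', ?_⟩
      rw [neg_neg]
      exact hx
  exact fun t => (key t).1

end Closure

section Cover

variable {X : Scheme.{u}}

theorem mem_genLocus_of_tm {M L : X.Modules} (hM : PicF.IsInvertible M)
    (hL : PicF.IsInvertible L) (x : X) (m : Γ(M, ⊤)) (s : Γ(L, ⊤))
    (h : x ∈ CohB1.genLocus (CohB1.tensorMod M L) (TwistAmple.homOfSec _ (tm M L ⊤ m s))) :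
    x ∈ CohB1.genLocus L (TwistAmple.homOfSec L s) := by
  have e : secVal (TwistAmple.homOfSec L s) ⊤ = s := by
    rw [secVal_homOfSec]
    exact res_self L le_top s
  have h2 := genLocus_homOfSec_tm hM hL m (TwistAmple.homOfSec L s)
  rw [e] at h2
  rw [h2] at h
  exact h.2

theorem genLocus_homOfSec_zero {M : X.Modules} (hM : PicF.IsInvertible M) :
    CohB1.genLocus M (TwistAmple.homOfSec M 0) = ⊥ := by
  rw [← SecOps.genLocus_zero hM]
  apply genLocus_congr
  intro W
  rw [secVal_homOfSec, map_zero, SecOps.secVal_zero]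

theorem genLocus_homOfSec_add_le {M : X.Modules} (hM : PicF.IsInvertible M) (a b : Γ(M, ⊤)) :
    CohB1.genLocus M (TwistAmple.homOfSec M (a + b)) ≤
      CohB1.genLocus M (TwistAmple.homOfSec M a) ⊔ CohB1.genLocus M (TwistAmple.homOfSec M b) := by
  have e : CohB1.genLocus M (TwistAmple.homOfSec M (a + b)) =
      CohB1.genLocus M (TwistAmple.homOfSec M a + TwistAmple.homOfSec M b) := by
    apply genLocus_congr
    intro W
    rw [secVal_homOfSec, SecOps.secVal_add, secVal_homOfSec, secVal_homOfSec, map_add]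
  rw [e]
  exact SecOps.genLocus_add_le hM _ _

/-- for a normally generated module, a point where a section of a power generates lies in the
locus of generation of a section of the module itself -/
theorem exists_section_of_mem_genLocus {L : X.Modules} (hL : PicF.IsInvertible L)
    (hng : ∀ (n : ℕ) (P : Γ(CohB1.tensorPow L (n + 1 + 1), ⊤) → Prop), P 0 →
      (∀ x y, P x → P y → P (x + y)) →
      (∀ (m : Γ(CohB1.tensorPow L (n + 1), ⊤)) (s : Γ(L, ⊤)),
        P (tm (CohB1.tensorPow L (n + 1)) L ⊤ m s)) → ∀ t, P t)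
    (x : X) : ∀ (n : ℕ) (τ : Γ(CohB1.tensorPow L (n + 1), ⊤)),
      x ∈ CohB1.genLocus _ (TwistAmple.homOfSec (CohB1.tensorPow L (n + 1)) τ) →
      ∃ s : Γ(L, ⊤), x ∈ CohB1.genLocus L (TwistAmple.homOfSec L s)
  | 0, τ, hx => by
    obtain ⟨s, hs⟩ := (bijective_tm_of_isGen_left L (isGen_one' (X := X) ⊤)).2 τ
    have hs' : tm (Coh.structureModule X) L ⊤ (one' ⊤) s = τ := hs
    refine ⟨s, mem_genLocus_of_tm GenLoc.isInvertible_O hL x (one' ⊤) s ?_⟩
    rw [hs']
    exact hx
  | n + 1, τ, hx => by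
    have hP := hng n (fun t => x ∈ CohB1.genLocus _
        (TwistAmple.homOfSec (CohB1.tensorPow L (n + 1 + 1)) t) →
        ∃ s : Γ(L, ⊤), x ∈ CohB1.genLocus L (TwistAmple.homOfSec L s)) ?_ ?_ ?_ τ
    · exact hP hx
    · intro h
      rw [genLocus_homOfSec_zero (isInvertible_tensorPow hL (n + 1 + 1))] at h
      exact absurd h (by simp)
    · intro a b ha hb h
      have h3 : x ∈ CohB1.genLocus _ (TwistAmple.homOfSec (CohB1.tensorPow L (n + 1 + 1)) a) ∨
          x ∈ CohB1.genLocus _ (TwistAmple.homOfSec (CohB1.tensorPow L (n + 1 + 1)) b) :=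
        genLocus_homOfSec_add_le (isInvertible_tensorPow hL (n + 1 + 1)) a b h
      rcases h3 with h3 | h3
      · exact ha h3
      · exact hb h3
    · intro m s h
      exact ⟨s, mem_genLocus_of_tm (isInvertible_tensorPow hL (n + 1)) hL x m s h⟩

end Cover

section Charts

variable {R : Type u} [CommRing R] {X : Scheme.{u}}

/-- the loci of generation of a finite generating family of global sections of an ample
module on a scheme proper over an affine base are affine -/
theorem isAffineOpen_genLocus_of_cover (q : X ⟶ Spec (CommRingCat.of R)) [IsProper q]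
    {L : X.Modules} (hL : CohB1.IsAmple L) {ι : Type*} [Fintype ι] (σ : ι → Γ(L, ⊤))
    (hcov : ∀ x : X, ∃ l, x ∈ CohB1.genLocus L (TwistAmple.homOfSec L (σ l))) (l : ι) :
    IsAffineOpen (CohB1.genLocus L (TwistAmple.homOfSec L (σ l))) := by
  classical
  let e : Option ι ≃ Fin (Fintype.card ι + 1) :=
    (Fintype.equivFin (Option ι)).trans (finCongr Fintype.card_option)
  let s : Fin (Fintype.card ι + 1) → Γ(L, ⊤) := fun i => (e.symm i).elim 0 σ
  have hs : ∀ l : ι, s (e (some l)) = σ l := by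
    intro l
    change (e.symm (e (some l))).elim 0 σ = σ l
    rw [Equiv.symm_apply_apply]
    rfl
  have hgen : ProjUP.GeneratedBy L s := by
    apply generatedBy_of_cover
    intro x
    obtain ⟨a, ha⟩ := hcov x
    exact ⟨e (some a), by rw [hs]; exact ha⟩
  obtain ⟨r, hr, τ, hτ⟩ := Groth.Agent.S3572.result (R := R) (Fintype.card ι) q L hL.1 s hgen
  let 𝒮 := CohB1.polyGrading (Fintype.card ι) R
  have hτ' : ∀ k, τ.hom.app ⊤ (pt 𝒮 (ProjUP8.tX (Fintype.card ι) _)
      (ProjUP8.htX (Fintype.card ι) _) r k) = s k := hτ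
  have hpre : ∀ k, r ⁻¹ᵁ D 𝒮 (ProjUP8.tX (Fintype.card ι) _) k =
      CohB1.genLocus L (TwistAmple.homOfSec L (s k)) :=
    preimage_D 𝒮 (ProjUP8.tX (Fintype.card ι) _) (ProjUP8.htX (Fintype.card ι) _)
      (ProjUP8.hcov (Fintype.card ι) _) r τ s hτ'
  haveI : IsProper (r ≫ CohB1.ProjSpace.toSpec (Fintype.card ι) R) := by
    rw [hr]; infer_instance
  haveI : IsSeparated (CohB1.ProjSpace.toSpec (Fintype.card ι) R) :=
    (VA5.isProper_toSpec (Fintype.card ι) R).toIsSeparated
  haveI : IsProper r := IsProper.of_comp r (CohB1.ProjSpace.toSpec (Fintype.card ι) R)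
  have haffD : IsAffineOpen (D 𝒮 (ProjUP8.tX (Fintype.card ι) _) (e (some l))) :=
    Proj.isAffineOpen_basicOpen 𝒮 _ (ProjUP8.htX (Fintype.card ι) _ (e (some l))) one_pos
  have hc : IsCompact ((CohB1.genLocus L (TwistAmple.homOfSec L (s (e (some l)))) : X.Opens) :
      Set X) := by
    rw [← hpre]
    exact r.isCompact_preimage haffD.isCompact
  have h := isAffineOpen_genLocus_of_isProper r _ haffD hL
    (TwistAmple.homOfSec L (s (e (some l)))) (hpre _).symm hc
  rwa [hs] at h

end Charts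

section Main

variable (R : Type u) [CommRing R] [IsNoetherianRing R] (X : Scheme.{u})
  [X.Over (Spec (CommRingCat.of R))] [IsProper (X ↘ Spec (CommRingCat.of R))]

/-- **a normally generated ample invertible module on a scheme proper over a Noetherian ring
is very ample relative to the base** -/
theorem isRelVeryAmplePn_of_normallyGenerated (L : X.Modules) (hLa : CohB1.IsAmple L)
    (hng : ∀ (n : ℕ) (P : Γ(CohB1.tensorPow L (n + 1 + 1), ⊤) → Prop), P 0 →
      (∀ x y, P x → P y → P (x + y)) →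
      (∀ (m : Γ(CohB1.tensorPow L (n + 1), ⊤)) (s : Γ(L, ⊤)),
        P (tm (CohB1.tensorPow L (n + 1)) L ⊤ m s)) → ∀ t, P t) :
    RelAmple.IsRelVeryAmplePn (X ↘ Spec (CommRingCat.of R)) L := by
  classical
  have hL := hLa.1
  haveI : CompactSpace X := hLa.2.1
  haveI : QuasiSeparatedSpace X := quasiSeparatedSpace_of_isAmple hLa
  -- sections covering X
  have hpt : ∀ x : X, ∃ s : Γ(L, ⊤), x ∈ CohB1.genLocus L (TwistAmple.homOfSec L s) := by
    intro x
    obtain ⟨n, t, hxt, -⟩ := hLa.2.2 x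
    have hxt' : x ∈ CohB1.genLocus _ (TwistAmple.homOfSec (CohB1.tensorPow L (n + 1))
        (t.app ⊤ (show Γ(Coh.structureModule X, ⊤) from (1 : Γ(X, ⊤))))) := by
      rw [← PFrame.eq_homOfSec t]
      exact hxt
    exact exists_section_of_mem_genLocus hL hng x n _ hxt'
  choose sx hsx using hpt
  obtain ⟨F, hF⟩ := isCompact_univ.elim_finite_subcover
    (fun x => ((CohB1.genLocus L (TwistAmple.homOfSec L (sx x)) : X.Opens) : Set X))
    (fun x => (CohB1.genLocus L (TwistAmple.homOfSec L (sx x))).isOpen)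
    (fun x _ => Set.mem_iUnion.2 ⟨x, hsx x⟩)
  -- generators of the module of sections
  haveI : Module.Finite R (Coh.HH X L 0) :=
    Groth.Agent.Lib.Helper4.T2Main1.t2 R X L (InvQc.isCoh_of_isInvertible _ hL) 0
  obtain ⟨d, g, hg⟩ := Module.Finite.exists_fin (R := R) (M := Coh.HH X L 0)
  let σ : ↥F ⊕ Fin d → Γ(L, ⊤) := Sum.elim (fun x => sx x.1) (fun l => HH0.equiv X L (g l))
  have hspan : ∀ τ : Γ(L, ⊤), ∃ c : ↥F ⊕ Fin d → R,
      τ = ∑ l, ProjUP.toGlobal (X ↘ Spec (CommRingCat.of R)) (c l) • σ l := by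
    intro τ
    have hmem : (HH0.equiv X L).symm τ ∈ Submodule.span R (Set.range g) := by
      rw [hg]; trivial
    obtain ⟨c, hc⟩ := (Submodule.mem_span_range_iff_exists_fun R).1 hmem
    refine ⟨Sum.elim 0 c, ?_⟩
    rw [Fintype.sum_sum_type]
    have h2 := congrArg (HH0.equiv X L) hc
    rw [AddEquiv.apply_symm_apply, map_sum] at h2
    have h3 : ∑ a₁ : ↥F, ProjUP.toGlobal (X ↘ Spec (CommRingCat.of R))
        ((Sum.elim (0 : ↥F → R) c) (Sum.inl a₁)) • σ (Sum.inl a₁) = 0 := by
      refine Finset.sum_eq_zero fun j _ => ?_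
      change ProjUP.toGlobal (X ↘ Spec (CommRingCat.of R)) 0 • sx j.1 = 0
      rw [map_zero, zero_smul]
    rw [h3, zero_add]
    refine h2.symm.trans (Finset.sum_congr rfl fun j _ => ?_)
    rw [HH0.equiv_smul_over]
    rfl
  have hcovσ : ∀ x : X, ∃ l, x ∈ CohB1.genLocus L (TwistAmple.homOfSec L (σ l)) := by
    intro y
    obtain ⟨x, hx⟩ := Set.mem_iUnion.1 (hF (Set.mem_univ y))
    obtain ⟨hxF, hy⟩ := Set.mem_iUnion.1 hx
    exact ⟨Sum.inl ⟨x, hxF⟩, hy⟩
  apply VA3.isRelVeryAmplePn_of_charts' (X ↘ Spec (CommRingCat.of R)) hL σ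
    (fun a : ↥F => Sum.inl a) (fun _ => ⊤) (fun _ => isAffineOpen_top _)
  · intro a
    exact isAffineOpen_genLocus_of_cover (X ↘ Spec (CommRingCat.of R)) hLa σ hcovσ (Sum.inl a)
  · intro a
    change _ ≤ (X ↘ Spec (CommRingCat.of R)) ⁻¹ᵁ ⊤
    rw [Scheme.Hom.preimage_top]
    exact le_top
  · intro y
    obtain ⟨x, hx⟩ := Set.mem_iUnion.1 (hF (Set.mem_univ y))
    obtain ⟨hxF, hy⟩ := Set.mem_iUnion.1 hx
    exact ⟨⟨x, hxF⟩, hy⟩
  · intro a U hU hUS T hT1 hT2
    exact subring_eq_top (X ↘ Spec (CommRingCat.of R)) hL σ hspan hng (σ (Sum.inl a)) U hU T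
      hT1 hT2

end Main

end Groth.Agent.Helper1.VAng
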