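import Mathlib
import Groth.Agent.Lib.Helper1.KosCurveB
import Groth.Agent.Lib.Helper1.RelNakC
import Groth.Agent.Lib.Helper4.HilbP4
import Groth.Agent.Lib.Helper1.SerreAmple1
import Groth.Agent.Lib.Helper1.CurveAmp3
import Groth.Agent.Lib.Helper1.PullAmple
import Groth.Agent.Lib.Helper1.VAngD
import Groth.Agent.Lib.Helper1.AmpleRestr

/-!
# Relative normal generation: ample invertible modules are very ample over a Noetherian ring when
`H¹(O) = 0` and the fibres have dimension at most one (helper1)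
-/

set_option backward.isDefEq.respectTransparency.types false
set_option synthInstance.maxHeartbeats 400000
set_option maxHeartbeats 1600000
set_option autoImplicit false
set_option linter.unusedSectionVars false
set_option linter.style.haveILetI false
set_option linter.unusedVariables false
universe u v w
open CategoryTheory CategoryTheory.Limits AlgebraicGeometry TopologicalSpace Opposite
open Groth.Agent.Helper1 Groth.Agent.Helper1.QcCech Groth.Agent.Helper1.LGen
open Groth.Agent.Helper1.TmulLib Groth.Agent.Helper1.TensGen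
open Groth.Agent.Lib.Helper4 Groth.Agent.Lib.Helper4.KosA1 Groth.Agent.Lib.Helper4.KosA1.Datum
open Groth.Agent.Helper1.KosCurve

namespace Groth.Agent.Helper1.KosRel

section Coh
variable (R : Type u) [CommRing R] [IsNoetherianRing R] (X : Scheme.{u})
  [X.Over (Spec (CommRingCat.of R))] [IsProper (X ↘ (Spec (CommRingCat.of R)))]
variable {I : Type} [Fintype I] [LinearOrder I]

attribute [local instance] Abelian.hasFiniteBiproducts

include R in
/-- cohomology of the terms of a Koszul datum, over a ring -/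
theorem subsingleton_HH_K' {M : ℤ → X.Modules} (D : Datum I M) (i : ℤ) (q : ℕ)
    (h : Subsingleton (Coh.HH X (M i) q)) : Subsingleton (Coh.HH X (D.K i) q) := by
  have key : ∀ z : Coh.HH X (D.K i) q, z = 0 := by
    intro z
    have h1 := HHFin1.HHlin_id R (D.K i) q z
    rw [← D.total i, HHFin1.HHlin_sum] at h1
    rw [← h1]
    apply Finset.sum_eq_zero
    intro S _
    rw [HHFin1.HHlin_comp]
    have : Canon.HHlin R (D.π S i) q z = 0 := Subsingleton.elim _ _
    rw [this, map_zero]
  exact ⟨fun x y => by rw [key x, key y]⟩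

variable (hH2 : ∀ M : X.Modules, Coh.IsCoh M → Subsingleton (Coh.HH X M 2))

include R hH2 in
/-- `H¹` is right exact on coherent modules when `H²` vanishes -/
theorem subsingleton_H1_of_epi' {F G : X.Modules} (p : F ⟶ G) (hp : Epi p)
    (hk : Coh.IsCoh (kernel p)) (hF : Subsingleton (Coh.HH X F 1)) :
    Subsingleton (Coh.HH X G 1) := by
  haveI := hp
  let S : ShortComplex X.Modules := ShortComplex.mk (kernel.ι p) p (kernel.condition p)
  have hS : S.Exact := ShortComplex.exact_of_f_is_kernel _ (kernelIsKernel p)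
  haveI : Mono S.f := inferInstanceAs (Mono (kernel.ι p))
  haveI : Epi S.g := hp
  have hSE : S.ShortExact := { exact := hS }
  exact SerreVan.subsingleton_X₃ R hSE 1 hF (hH2 _ hk)

omit [IsNoetherianRing R] [X.Over (Spec (CommRingCat.of R))]
  [IsProper (X ↘ (Spec (CommRingCat.of R)))] in
theorem isCoh_Nfam {A G : X.Modules} (hA : PicF.IsInvertible A) (hG : Coh.IsCoh G) :
    ∀ n, Coh.IsCoh (Nfam A G n)
  | 0 => hG
  | n + 1 => SerreAmple.isCoh_tensor (Nfam A G n) A (isCoh_Nfam hA hG n)
      (InvQc.isCoh_of_isInvertible _ hA)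

include R in
theorem isCoh_K {A G : X.Modules} (hA : PicF.IsInvertible A) (hG : Coh.IsCoh G) (c i : ℤ) :
    Coh.IsCoh ((dat A G I c).K i) := by
  haveI : IsLocallyNoetherian X :=
    LocallyOfFiniteType.isLocallyNoetherian (X ↘ Spec (CommRingCat.of R))
  exact HilbP4.isCoh_biproduct (J := Idx I i) (Mfam A G c i) (isCoh_Nfam X hA hG _)

include R hH2 in
/-- every global section of `(G ⊗ A) ⊗ A` is a sum of products with the generating sections,
when `H¹(G) = 0` and `H²` vanishes on coherent modules -/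
theorem exists_sum_tm'
    {A : X.Modules} (hA : PicF.IsInvertible A) (s : I → Γ(A, ⊤))
    (hs : ∀ x : X, ∃ (j : I) (V : X.Opens), x ∈ V ∧ IsGen A V (res A (le_top : V ≤ ⊤) (s j)))
    (G : X.Modules) (hGc : Coh.IsCoh G) (hG : Subsingleton (Coh.HH X G 1))
    (t : Γ(CohB1.tensorMod (CohB1.tensorMod G A) A, ⊤)) :
    ∃ y : I → Γ(CohB1.tensorMod G A, ⊤),
      t = ∑ j, tm (CohB1.tensorMod G A) A ⊤ (y j) (s j) := by
  haveI : IsLocallyNoetherian X :=
    LocallyOfFiniteType.isLocallyNoetherian (X ↘ Spec (CommRingCat.of R))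
  obtain ⟨c, hc⟩ : ∃ c : ℤ, (Fintype.card I : ℤ) = c + 1 + 1 :=
    ⟨(Fintype.card I : ℤ) - 2, by ring⟩
  have hφ := phi_comm A G s c hA
  have hex0 := exact_at A G s c hA hs c le_rfl
  have hex1 := exact_at A G s c hA hs (c + 1) (by omega)
  have hz : IsZero ((dat A G I c).K (c + 1 + 1 + 1)) := by
    apply Datum.isZero_K
    intro S hS
    have h1 := Finset.card_le_univ S
    have h2 : (S.card : ℤ) ≤ (Fintype.card I : ℤ) := by exact_mod_cast h1
    omega
  have hepi1 : Epi ((dat A G I c).d (phi A G s c) (c + 1)) := hex1.epi_f (hz.eq_of_tgt _ _)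
  have hepi0 : Epi (kernel.lift ((dat A G I c).d (phi A G s c) (c + 1))
      ((dat A G I c).d (phi A G s c) c) ((dat A G I c).d_comp_d (phi A G s c) hφ c)) :=
    (ShortComplex.exact_iff_epi_kernel_lift _).1 hex0
  have h0 : (c - c).toNat = 0 := by omega
  have e0 : Mfam A G c c = G := congrArg (Nfam A G) h0
  have hM0 : Subsingleton (Coh.HH X (Mfam A G c c) 1) := by rw [e0]; exact hG
  have hK0 := subsingleton_HH_K' R X (dat A G I c) c 1 hM0
  have hker : Coh.IsCoh (kernel (kernel.lift ((dat A G I c).d (phi A G s c) (c + 1))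
      ((dat A G I c).d (phi A G s c) c) ((dat A G I c).d_comp_d (phi A G s c) hφ c))) :=
    FtLocal.isCoh_kernel (isCoh_K R X hA hGc c c)
      (FtLocal.isCoh_kernel (isCoh_K R X hA hGc c (c + 1)) (isCoh_K R X hA hGc c (c + 1 + 1)) _) _
  have hZ : Subsingleton (Coh.HH X (kernel ((dat A G I c).d (phi A G s c) (c + 1))) 1) :=
    subsingleton_H1_of_epi' R X hH2 _ hepi0 hker hK0
  let S : ShortComplex X.Modules :=
    ShortComplex.mk (kernel.ι ((dat A G I c).d (phi A G s c) (c + 1)))
      ((dat A G I c).d (phi A G s c) (c + 1)) (kernel.condition _)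
  haveI : Mono S.f := inferInstanceAs (Mono (kernel.ι ((dat A G I c).d (phi A G s c) (c + 1))))
  haveI : Epi S.g := hepi1
  have hS : S.ShortExact :=
    { exact := ShortComplex.exact_of_f_is_kernel _ (kernelIsKernel _) }
  have hsurj : Function.Surjective (((dat A G I c).d (phi A G s c) (c + 1)).app ⊤) :=
    H1Surj.app_top_surjective_of_H1 hS hZ
  have hcard : ((Finset.univ : Finset I).card : ℤ) = c + 1 + 1 := by
    rw [Finset.card_univ]; exact hc
  have hιπ : (dat A G I c).ι Finset.univ (c + 1 + 1) ≫ (dat A G I c).π Finset.univ (c + 1 + 1) =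
      𝟙 _ := by
    rw [(dat A G I c).ι_π, if_pos ⟨rfl, hcard⟩]
  have hQ : ∀ t : Γ(Mfam A G c (c + 1 + 1), ⊤), ∃ y : I → Γ(Mfam A G c (c + 1), ⊤),
      t = ∑ j, (phi A G s c j (c + 1)).app ⊤ (y j) := by
    intro t
    obtain ⟨z, hz⟩ := hsurj (((dat A G I c).ι Finset.univ (c + 1 + 1)).app ⊤ t)
    have h1 : ((dat A G I c).π Finset.univ (c + 1 + 1)).app ⊤
        (((dat A G I c).ι Finset.univ (c + 1 + 1)).app ⊤ t) = t :=
      congrArg (fun f => appAt ⊤ t f) hιπ
    rw [← hz] at h1
    have h2 : ((dat A G I c).π Finset.univ (c + 1 + 1)).app ⊤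
        (((dat A G I c).d (phi A G s c) (c + 1)).app ⊤ z) =
        appAt ⊤ z ((dat A G I c).d (phi A G s c) (c + 1) ≫
          (dat A G I c).π Finset.univ (c + 1 + 1)) := rfl
    rw [h2, KosA3.d_π, map_sum] at h1
    refine ⟨fun j => sgn ((Finset.univ : Finset I).erase j) j •
      ((dat A G I c).π ((Finset.univ : Finset I).erase j) (c + 1)).app ⊤ z, ?_⟩
    rw [← h1]
    refine Finset.sum_congr rfl (fun j _ => ?_)
    rw [map_zsmul, map_zsmul]
    rfl
  have hk1 : c ≤ c + 1 := by omega
  have hQ' : ∀ (a b : ℕ) (h : b = a + 1), a = (c + 1 - c).toNat → b = (c + 1 + 1 - c).toNat →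
      ∀ t : Γ(Nfam A G b, ⊤), ∃ y : I → Γ(Nfam A G a, ⊤),
        t = ∑ j, (step A G (s j) a b h).app ⊤ (y j) := by
    intro a b h ha hb
    subst ha
    subst hb
    intro t
    obtain ⟨y, hy⟩ := hQ t
    refine ⟨y, ?_⟩
    rw [hy]
    refine Finset.sum_congr rfl (fun j _ => ?_)
    rw [phi_eq A G s c j (c + 1) hk1]
    rfl
  obtain ⟨y, hy⟩ := hQ' 1 2 rfl (by omega) (by omega) t
  refine ⟨y, ?_⟩
  rw [hy]
  refine Finset.sum_congr rfl (fun j _ => ?_)
  exact step_app_top A G (s j) 1 (y j)

end Coh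

section Main
variable (R : Type u) [CommRing R] [IsNoetherianRing R] (X : Scheme.{u})
  [X.Over (Spec (CommRingCat.of R))] [IsProper (X ↘ (Spec (CommRingCat.of R)))]

/-- ample invertible modules have nonnegative (in fact positive) degree on the integral curves
over fields in the fibres -/
theorem nef_of_isAmple (M : X.Modules) (hM : CohB1.IsAmple M)
    (K : Type u) [Field K] (i : R →+* K) (J : X.IdealSheafData)
    (t : J.subscheme ⟶ Spec (CommRingCat.of K))
    (hint : AlgebraicGeometry.IsIntegral J.subscheme)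
    (hdim : topologicalKrullDim ↥J.subscheme = 1)
    (hcompat : t ≫ Spec.map (CommRingCat.ofHom i) =
      J.subschemeι ≫ (X ↘ Spec (CommRingCat.of R))) :
    0 ≤ @Curv2.deg K _ J.subscheme ⟨t⟩ ((Scheme.Modules.pullback J.subschemeι).obj M) 1 := by
  haveI : IsProper (t ≫ Spec.map (CommRingCat.ofHom i)) := by rw [hcompat]; infer_instance
  haveI : IsProper t := IsProper.of_comp t (Spec.map (CommRingCat.ofHom i))
  letI : J.subscheme.Over (Spec (CommRingCat.of K)) := ⟨t⟩
  haveI : IsProper (J.subscheme ↘ Spec (CommRingCat.of K)) := ‹IsProper t›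
  haveI := hint
  haveI : CompactSpace J.subscheme := QuasiCompact.compactSpace_of_compactSpace t
  have hamp := PullAmple.isAmple_pullback_of_isEmbedding J.subschemeι
    J.subschemeι.isEmbedding hM
  exact (CurveAmp.deg_pos_of_isAmple K J.subscheme hdim hamp).le

/-- **relatively ample implies relatively very ample** over a Noetherian ring, when `H¹(O) = 0`
and the fibres have dimension at most one -/
theorem isRelVeryAmplePn (h1 : Subsingleton (Coh.HH X (Coh.structureModule X) 1))
    (hfib : ∀ y : ↥(Spec (CommRingCat.of R)),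
      topologicalKrullDim ↥((X ↘ Spec (CommRingCat.of R)).fiber y) ≤ 1)
    (L : X.Modules) (hL : RelAmple.IsRelAmple (X ↘ Spec (CommRingCat.of R)) L) :
    RelAmple.IsRelVeryAmplePn (X ↘ Spec (CommRingCat.of R)) L := by
  have htop : IsAffineOpen (⊤ : (Spec (CommRingCat.of R)).Opens) := isAffineOpen_top _
  have hA0 := hL.2 ⟨⊤, htop⟩
  have hinv : PicF.IsInvertible L :=
    AmpleLib.isInvertible_of_restrict_top ((X ↘ Spec (CommRingCat.of R)) ⁻¹ᵁ ⊤) rfl hA0.1
  have hLa : CohB1.IsAmple L :=
    AmpleLib.isAmple_of_restrict_top hinv ((X ↘ Spec (CommRingCat.of R)) ⁻¹ᵁ ⊤) rfl hA0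
  have hH2 : ∀ M : X.Modules, Coh.IsCoh M → Subsingleton (Coh.HH X M 2) := fun M hM =>
    RelNak.subsingleton_HH_of_fibre_dim R X 1
      (fun y => (hfib y).trans (le_of_eq Nat.cast_one.symm)) M hM 2 (by norm_num)
  have hamp : ∀ j : ℕ, 0 < j → CohB1.IsAmple (CohB1.tensorPow L j) := fun j hj =>
    (AmpleLib.isAmple_tensorPow_iff hinv j hj).1 hLa
  have hmain : ∀ j : ℕ, 0 < j → Curv2.IsGloballyGenerated (CohB1.tensorPow L j) ∧
      Subsingleton (Coh.HH X (CohB1.tensorPow L j) 1) := fun j hj =>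
    RelNak.main R X h1 hfib _ (hamp j hj).1
      (fun K _ i J t hint hdim hc => nef_of_isAmple R X _ (hamp j hj) K i J t hint hdim hc)
  have hpow : ∀ j : ℕ, Subsingleton (Coh.HH X (CohB1.tensorPow L j) 1) := by
    intro j
    rcases Nat.eq_zero_or_pos j with rfl | hj
    · exact h1
    · exact (hmain j hj).2
  have hgg : Curv2.IsGloballyGenerated L := by
    have h := (RelNak.main R X h1 hfib L hinv
      (fun K _ i J t hint hdim hc => nef_of_isAmple R X L hLa K i J t hint hdim hc)).1
    exact h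
  haveI : CompactSpace X := hLa.2.1
  obtain ⟨N, s, hs⟩ := KosCurve.exists_finite_gen X L hinv hgg
  have hcohpow : ∀ j : ℕ, Coh.IsCoh (CohB1.tensorPow L j) := fun j =>
    InvQc.isCoh_of_isInvertible _ (TwForm.isInvertible_tensorPow hinv j)
  refine VAng.isRelVeryAmplePn_of_normallyGenerated R X L hLa ?_
  intro n P h0 hadd hmul t
  obtain ⟨y, hy⟩ := exists_sum_tm' R X hH2 hinv s hs (CohB1.tensorPow L n) (hcohpow n)
    (hpow n) t
  rw [hy]
  exact Finset.sum_induction _ P hadd h0 (fun j _ => hmul (y j) (s j))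

end Main

end Groth.Agent.Helper1.KosRel
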