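import Mathlib

/-!
# Intermediate fields of a Kummer-type extension

Helper library of helper1.
-/

set_option autoImplicit false

namespace Groth.Agent.Helper1.Kummer

open Polynomial IntermediateField Module

universe u

/-- A product of elements each of which is a root of unity (from `K`) times `a`. -/
theorem prod_eq_of_pow_eq {K L : Type*} [Field K] [Field L] [Algebra K L] (e : ℕ) (he0 : 0 < e)
    (hroots : (X ^ e - 1 : K[X]).Splits) (a : L) (ha0 : a ≠ 0) (R : Multiset L)
    (h : ∀ b ∈ R, b ^ e = a ^ e) :
    ∃ z : K, z ≠ 0 ∧ R.prod = algebraMap K L z * a ^ Multiset.card R := by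
  induction R using Multiset.induction_on with
  | empty => exact ⟨1, one_ne_zero, by simp⟩
  | cons b R ih =>
    obtain ⟨z, hz0, hz⟩ := ih (fun b' hb' => h b' (Multiset.mem_cons_of_mem hb'))
    have hb : b ^ e = a ^ e := h b (Multiset.mem_cons_self b R)
    have hr : ((X ^ e - 1 : K[X]).map (algebraMap K L)).IsRoot (b * a⁻¹) := by
      simp only [Polynomial.map_sub, Polynomial.map_pow, map_X, Polynomial.map_one, IsRoot.def,
        eval_sub, eval_pow, eval_X, eval_one]
      rw [mul_pow, hb, ← mul_pow, mul_inv_cancel₀ ha0, one_pow, sub_self]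
    have hP0 : (X ^ e - 1 : K[X]) ≠ 0 := by
      have := (monic_X_pow_sub_C (1 : K) he0.ne').ne_zero
      rwa [C_1] at this
    obtain ⟨ζ, hζ⟩ := hroots.mem_range_of_isRoot hP0 hr
    have hbζ : b = algebraMap K L ζ * a := by
      rw [hζ, mul_assoc, inv_mul_cancel₀ ha0, mul_one]
    have hb0 : b ≠ 0 := by
      intro hb0
      rw [hb0, zero_pow he0.ne'] at hb
      exact ha0 (pow_eq_zero_iff he0.ne' |>.1 hb.symm)
    have hζ0 : ζ ≠ 0 := by
      rintro rfl
      rw [map_zero, zero_mul] at hbζ
      exact hb0 hbζ
    refine ⟨ζ * z, mul_ne_zero hζ0 hz0, ?_⟩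
    rw [Multiset.prod_cons, Multiset.card_cons, hz, map_mul, pow_succ, hbζ]
    ring

theorem S6336 {K L : Type u} [Field K] [Field L] [Algebra K L]
    [FiniteDimensional K L] (a : L) (ha : K⟮a⟯ = ⊤)
    (hpow : a ^ Module.finrank K L ∈ Set.range (algebraMap K L))
    (hroots : (X ^ Module.finrank K L - 1 : K[X]).Splits) (L' : IntermediateField K L) :
    ∃ d : ℕ, d ∣ Module.finrank K L ∧ L' = K⟮a ^ d⟯ := by
  classical
  have he0 : 0 < Module.finrank K L := Module.finrank_pos
  obtain ⟨c, hc⟩ := hpow
  -- adjoining `a` to any intermediate field gives everything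
  have htop : ∀ M : IntermediateField K L, (M⟮a⟯ : IntermediateField M L) = ⊤ := by
    intro M
    rw [← IntermediateField.restrictScalars_eq_top_iff (K := K), eq_top_iff, ← ha,
      adjoin_simple_le_iff]
    exact mem_adjoin_simple_self M a
  have hint : IsIntegral L' a := IsIntegral.of_finite L' a
  have hgm : (minpoly L' a).Monic := minpoly.monic hint
  have hdpos : 0 < (minpoly L' a).natDegree := minpoly.natDegree_pos hint
  have hdeg : (minpoly L' a).natDegree = finrank L' L :=
    (Field.primitive_element_iff_minpoly_natDegree_eq L' a).1 (htop L')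
  have htower : finrank K L' * finrank L' L = finrank K L := Module.finrank_mul_finrank K L' L
  -- a ^ d ∈ L'
  have hmem : a ^ (minpoly L' a).natDegree ∈ L' := by
    by_cases ha0 : a = 0
    · rw [show a ^ (minpoly L' a).natDegree = (0 : L) ^ (minpoly L' a).natDegree from
        congrArg (· ^ (minpoly L' a).natDegree) ha0, zero_pow hdpos.ne']
      exact L'.zero_mem
    have hsplit : (X ^ finrank K L - C (a ^ finrank K L) : L[X]).Splits := by
      have h1 : ((X ^ finrank K L - 1 : K[X]).map (algebraMap K L)).Splits := hroots.map _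
      have h2 := h1.comp_of_natDegree_le_one (g := C a⁻¹ * X) (natDegree_C_mul_X a⁻¹ (inv_ne_zero ha0)).le
      have h3 : (X ^ finrank K L - C (a ^ finrank K L) : L[X]) = C (a ^ finrank K L) *
          ((X ^ finrank K L - 1 : K[X]).map (algebraMap K L)).comp (C a⁻¹ * X) := by
        simp only [Polynomial.map_sub, Polynomial.map_pow, map_X, Polynomial.map_one, sub_comp,
          pow_comp, X_comp, one_comp, mul_pow, ← C_pow]
        rw [mul_sub, ← mul_assoc, ← C_mul, ← mul_pow, mul_inv_cancel₀ ha0, one_pow, C_1, one_mul,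
          mul_one]
      rw [h3]; exact h2.C_mul _
    have hgdvd : minpoly L' a ∣ (X ^ finrank K L - C (algebraMap K L' c) : L'[X]) := by
      apply minpoly.dvd
      rw [map_sub, map_pow, aeval_X, aeval_C, ← IsScalarTower.algebraMap_apply, hc, sub_self]
    have hmapdvd : (minpoly L' a).map (algebraMap L' L) ∣
        (X ^ finrank K L - C (a ^ finrank K L) : L[X]) := by
      have := Polynomial.map_dvd (algebraMap L' L) hgdvd
      rwa [Polynomial.map_sub, Polynomial.map_pow, map_X, map_C,
        ← IsScalarTower.algebraMap_apply, hc] at this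
    have hne : (X ^ finrank K L - C (a ^ finrank K L) : L[X]) ≠ 0 :=
      (monic_X_pow_sub_C _ he0.ne').ne_zero
    have hgs : ((minpoly L' a).map (algebraMap L' L)).Splits := hsplit.of_dvd hne hmapdvd
    have hgmm : ((minpoly L' a).map (algebraMap L' L)).Monic := hgm.map _
    have hroot : ∀ b ∈ ((minpoly L' a).map (algebraMap L' L)).roots,
        b ^ finrank K L = a ^ finrank K L := by
      intro b hb
      have h1 : (X ^ finrank K L - C (a ^ finrank K L) : L[X]).IsRoot b :=
        ((mem_roots hgmm.ne_zero).1 hb).dvd hmapdvd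
      simpa [sub_eq_zero] using h1
    obtain ⟨z, hz0, hz⟩ := prod_eq_of_pow_eq (finrank K L) he0 hroots a ha0 _ hroot
    have hcard : Multiset.card ((minpoly L' a).map (algebraMap L' L)).roots =
        (minpoly L' a).natDegree := by
      rw [← hgs.natDegree_eq_card_roots, natDegree_map]
    have hcoeff := hgs.coeff_zero_eq_prod_roots_of_monic hgmm
    rw [natDegree_map, coeff_map, hz, hcard] at hcoeff
    have hzL : algebraMap K L z ≠ 0 := by
      rwa [Ne, map_eq_zero]
    have hfin : a ^ (minpoly L' a).natDegree = algebraMap K L z⁻¹ *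
        ((-1) ^ (minpoly L' a).natDegree * algebraMap L' L ((minpoly L' a).coeff 0)) := by
      have h1 : ((-1 : L) ^ (minpoly L' a).natDegree) * ((-1) ^ (minpoly L' a).natDegree) = 1 := by
        rw [← mul_pow]; simp
      rw [hcoeff, map_inv₀, ← mul_assoc ((-1 : L) ^ _), h1, one_mul, ← mul_assoc,
        inv_mul_cancel₀ hzL, one_mul]
    rw [hfin]
    exact L'.mul_mem (L'.algebraMap_mem _)
      (L'.mul_mem (pow_mem (neg_mem (one_mem L')) _) ((minpoly L' a).coeff 0).2)
  refine ⟨(minpoly L' a).natDegree, ?_, ?_⟩
  · rw [hdeg]; exact Dvd.intro_left _ htower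
  · symm
    have hFle : K⟮a ^ (minpoly L' a).natDegree⟯ ≤ L' := adjoin_simple_le_iff.2 hmem
    apply IntermediateField.eq_of_le_of_finrank_le hFle
    have htower2 : finrank K K⟮a ^ (minpoly L' a).natDegree⟯ *
        finrank K⟮a ^ (minpoly L' a).natDegree⟯ L = finrank K L :=
      Module.finrank_mul_finrank K _ L
    have h4 : finrank K⟮a ^ (minpoly L' a).natDegree⟯ L ≤ (minpoly L' a).natDegree := by
      rw [← (Field.primitive_element_iff_minpoly_natDegree_eq K⟮a ^ (minpoly L' a).natDegree⟯ a).1
        (htop _)]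
      have hdvd : minpoly K⟮a ^ (minpoly L' a).natDegree⟯ a ∣
          (X ^ (minpoly L' a).natDegree -
            C (⟨a ^ (minpoly L' a).natDegree, mem_adjoin_simple_self K _⟩ :
              K⟮a ^ (minpoly L' a).natDegree⟯)) := by
        apply minpoly.dvd
        rw [map_sub, map_pow, aeval_X, aeval_C]
        exact sub_self _
      exact (natDegree_le_of_dvd hdvd (monic_X_pow_sub_C _ hdpos.ne').ne_zero).trans
        (by rw [natDegree_X_pow_sub_C])
    -- finrank K L' * d = finrank K F * finrank F L ≤ finrank K F * d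
    have h5 : finrank K L' * (minpoly L' a).natDegree ≤
        finrank K K⟮a ^ (minpoly L' a).natDegree⟯ * (minpoly L' a).natDegree := by
      calc finrank K L' * (minpoly L' a).natDegree = finrank K L := by rw [hdeg, htower]
        _ = finrank K K⟮a ^ (minpoly L' a).natDegree⟯ *
              finrank K⟮a ^ (minpoly L' a).natDegree⟯ L := htower2.symm
        _ ≤ _ := Nat.mul_le_mul_left _ h4
    exact Nat.le_of_mul_le_mul_right h5 hdpos

end Groth.Agent.Helper1.Kummer
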