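import Mathlib
import Groth.Prelude.Def_W4c1bouilletffgsL3

namespace Groth.Agent.Helper1.L3

open MvPolynomial Lie3Mod

universe u

variable (A : Type u) [CommRing A]

/-- adjugate identities -/
theorem detM_mul_L1 : detM A * L1 A =
    (-(vh * vc) + vb * vi) * Q1 A + (vg * vc - vi ^ 2) * Q2 A + (-(vg * vb) + vi * vh) * Q3 A := by
  simp only [detM, L1, Q1, Q2, Q3]; ring

theorem detM_mul_L2 : detM A * L2 A =
    (ve * vc - vb * vf) * Q1 A + (vh * vc + vi * vf) * Q2 A + (-(vh * vb + vi * ve)) * Q3 A := by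
  simp only [detM, L2, Q1, Q2, Q3]; ring

theorem detM_mul_L3 : detM A * L3 A =
    (ve * vi - vh * vf) * Q1 A + (vh * vi + vg * vf) * Q2 A + (-(vh ^ 2) - vg * ve) * Q3 A := by
  simp only [detM, L3, Q1, Q2, Q3]; ring

theorem Q1_eq : Q1 A = vh * L1 A - vg * L2 A + vi * L3 A := by
  simp only [L1, L2, L3, Q1]; ring

theorem Q2_eq : Q2 A = -ve * L1 A - vh * L2 A + vb * L3 A := by
  simp only [L1, L2, L3, Q2]; ring

theorem Q3_eq : Q3 A = -vf * L1 A - vi * L2 A + vc * L3 A := by
  simp only [L1, L2, L3, Q3]; ring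

section Ideals

theorem L1_mem : L1 A ∈ idL A := Ideal.subset_span (by simp)
theorem L2_mem : L2 A ∈ idL A := Ideal.subset_span (by simp)
theorem L3_mem : L3 A ∈ idL A := Ideal.subset_span (by simp)
theorem Q1_mem : Q1 A ∈ idI A := Ideal.subset_span (by simp)
theorem Q2_mem : Q2 A ∈ idI A := Ideal.subset_span (by simp)
theorem Q3_mem : Q3 A ∈ idI A := Ideal.subset_span (by simp)
theorem detM_mem : detM A ∈ idJ A := Ideal.subset_span (by simp)

theorem idI_le_idJ : idI A ≤ idJ A := by
  unfold idI idJ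
  apply Ideal.span_mono
  intro x hx
  rcases hx with rfl | rfl | rfl
  · exact Or.inl rfl
  · exact Or.inr (Or.inl rfl)
  · exact Or.inr (Or.inr (Or.inl rfl))

theorem idI_le_idL : idI A ≤ idL A := by
  rw [idI, Ideal.span_le]
  intro x hx
  simp only [Set.mem_insert_iff, Set.mem_singleton_iff] at hx
  have h1 := L1_mem A
  have h2 := L2_mem A
  have h3 := L3_mem A
  rcases hx with rfl | rfl | rfl
  · rw [Q1_eq]
    exact (idL A).add_mem ((idL A).sub_mem ((idL A).mul_mem_left _ h1) ((idL A).mul_mem_left _ h2))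
      ((idL A).mul_mem_left _ h3)
  · rw [Q2_eq]
    exact (idL A).add_mem ((idL A).sub_mem ((idL A).mul_mem_left _ h1) ((idL A).mul_mem_left _ h2))
      ((idL A).mul_mem_left _ h3)
  · rw [Q3_eq]
    exact (idL A).add_mem ((idL A).sub_mem ((idL A).mul_mem_left _ h1) ((idL A).mul_mem_left _ h2))
      ((idL A).mul_mem_left _ h3)

/-- `detM * L ⊆ I`. -/
theorem detM_mul_mem {x : D A} (hx : x ∈ idL A) : detM A * x ∈ idI A := by
  have h1 := Q1_mem A
  have h2 := Q2_mem A
  have h3 := Q3_mem A
  have key : ∀ y ∈ ({L1 A, L2 A, L3 A} : Set (D A)), detM A * y ∈ idI A := by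
    intro y hy
    simp only [Set.mem_insert_iff, Set.mem_singleton_iff] at hy
    rcases hy with rfl | rfl | rfl
    · rw [detM_mul_L1]
      exact (idI A).add_mem ((idI A).add_mem ((idI A).mul_mem_left _ h1)
        ((idI A).mul_mem_left _ h2)) ((idI A).mul_mem_left _ h3)
    · rw [detM_mul_L2]
      exact (idI A).add_mem ((idI A).add_mem ((idI A).mul_mem_left _ h1)
        ((idI A).mul_mem_left _ h2)) ((idI A).mul_mem_left _ h3)
    · rw [detM_mul_L3]
      exact (idI A).add_mem ((idI A).add_mem ((idI A).mul_mem_left _ h1)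
        ((idI A).mul_mem_left _ h2)) ((idI A).mul_mem_left _ h3)
  unfold idL at hx
  induction hx using Submodule.span_induction with
  | mem y hy => exact key y hy
  | zero => simp
  | add y z _ _ hy hz => rw [mul_add]; exact (idI A).add_mem hy hz
  | smul r y _ hy =>
    rw [smul_eq_mul, mul_left_comm]
    exact (idI A).mul_mem_left _ hy

/-- `J = I + (detM)`. -/
theorem mem_idJ_iff {x : D A} : x ∈ idJ A ↔ ∃ q ∈ idI A, ∃ r : D A, x = q + r * detM A := by
  have hJ : idJ A = idI A ⊔ Ideal.span {detM A} := by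
    unfold idJ idI
    simp only [Ideal.span_insert, sup_assoc]
  rw [hJ, Submodule.mem_sup]
  constructor
  · rintro ⟨q, hq, z, hz, rfl⟩
    obtain ⟨r, rfl⟩ := Ideal.mem_span_singleton'.mp hz
    exact ⟨q, hq, r, rfl⟩
  · rintro ⟨q, hq, r, rfl⟩
    exact ⟨q, hq, r * detM A, Ideal.mem_span_singleton'.mpr ⟨r, rfl⟩, rfl⟩

end Ideals

section Sigma

theorem sub_aeval_mem {ι : Type*} (L : Ideal (MvPolynomial ι A)) (τ : ι → MvPolynomial ι A)
    (h : ∀ j, X j - τ j ∈ L) (x : MvPolynomial ι A) : x - aeval τ x ∈ L := by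
  induction x using MvPolynomial.induction_on with
  | C r => simp
  | add p q hp hq =>
    have : p + q - aeval τ (p + q) = (p - aeval τ p) + (q - aeval τ q) := by
      rw [map_add]; ring
    rw [this]
    exact L.add_mem hp hq
  | mul_X p j hp =>
    have : p * X j - aeval τ (p * X j) = (p - aeval τ p) * X j + aeval τ p * (X j - τ j) := by
      rw [map_mul, aeval_X]; ring
    rw [this]
    exact L.add_mem (L.mul_mem_right _ hp) (L.mul_mem_left _ (h j))

/-- the substitution `a ↦ i, f ↦ -b, h ↦ -d`. -/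
noncomputable def sigv : Fin 9 → D A := ![X 8, X 1, X 2, X 3, X 4, -X 1, X 6, -X 3, X 8]

noncomputable def sig : D A →ₐ[A] D A := aeval (sigv A)

theorem sig_X (j : Fin 9) : sig A (X j) = sigv A j := by
  simp [sig]

theorem sig_L1 : sig A (L1 A) = 0 := by
  simp [L1, sig_X, sigv]

theorem sig_L2 : sig A (L2 A) = 0 := by
  simp [L2, sig_X, sigv]

theorem sig_L3 : sig A (L3 A) = 0 := by
  simp [L3, sig_X, sigv]

theorem sub_sig_mem (x : D A) : x - sig A x ∈ idL A := by
  apply sub_aeval_mem
  intro j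
  have h1 := L1_mem A
  have h2 := L2_mem A
  have h3 := L3_mem A
  fin_cases j
  · simpa [sigv, L1] using h1
  · simp [sigv]
  · simp [sigv]
  · simp [sigv]
  · simp [sigv]
  · have : (X 5 : D A) - sigv A 5 = L2 A := by simp [sigv, L2]; ring
    simpa [this] using h2
  · simp [sigv]
  · have : (X 7 : D A) - sigv A 7 = L3 A := by simp [sigv, L3]; ring
    simpa [this] using h3
  · simp [sigv]

theorem idL_le_ker : idL A ≤ RingHom.ker (sig A) := by
  unfold idL
  rw [Ideal.span_le]
  intro x hx
  simp only [Set.mem_insert_iff, Set.mem_singleton_iff] at hx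
  rcases hx with rfl | rfl | rfl
  · exact sig_L1 A
  · exact sig_L2 A
  · exact sig_L3 A

theorem mem_idL_iff (x : D A) : x ∈ idL A ↔ sig A x = 0 := by
  constructor
  · intro hx; exact idL_le_ker A hx
  · intro hx
    have := sub_sig_mem A x
    rwa [hx, sub_zero] at this

end Sigma

section NZD

/-- shift `e ↦ e + U`, `i ↦ i + T` into `D[T][U]`. -/
noncomputable def psiv : Fin 9 → Polynomial (Polynomial (D A)) := fun j =>
  if j = 4 then Polynomial.C (Polynomial.C (X 4)) + Polynomial.X
  else if j = 8 then Polynomial.C (Polynomial.C (X 8) + Polynomial.X)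
  else Polynomial.C (Polynomial.C (X j))

noncomputable def psi : D A →ₐ[A] Polynomial (Polynomial (D A)) := aeval (psiv A)

noncomputable def ppi : Polynomial (Polynomial (D A)) →+* D A :=
  (Polynomial.evalRingHom (0 : D A)).comp (Polynomial.evalRingHom (0 : Polynomial (D A)))

theorem ppi_psi (x : D A) : ppi A (psi A x) = x := by
  have : (ppi A).comp (psi A).toRingHom = RingHom.id (D A) := by
    apply MvPolynomial.ringHom_ext
    · intro r
      simp [ppi, psi, Polynomial.algebraMap_apply]
    · intro j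
      simp only [RingHom.coe_comp, AlgHom.toRingHom_eq_coe, RingHom.coe_coe, Function.comp_apply,
        psi, aeval_X, RingHom.id_apply, ppi, psiv]
      split_ifs with h1 h2
      · subst h1; simp
      · subst h2; simp
      · simp
  exact RingHom.congr_fun this x

theorem nzd_of_psi {s : D A}
    (h : ∀ y : Polynomial (Polynomial (D A)), y * psi A s = 0 → y = 0) :
    ∀ x : D A, x * s = 0 → x = 0 := by
  intro x hx
  have h1 : psi A x * psi A s = 0 := by rw [← map_mul, hx, map_zero]
  have h2 := h _ h1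
  rw [← ppi_psi A x, h2, map_zero]

end NZD

section NZD2

theorem sig_detM : sig A (detM A) =
    X 4 * (X 8 ^ 2 - X 6 * X 2) - 2 * X 1 * X 3 * X 8 - X 2 * X 3 ^ 2 - X 6 * X 1 ^ 2 := by
  simp only [detM, map_add, map_sub, map_mul, map_neg, map_pow, sig_X]
  simp only [sigv, Matrix.cons_val_zero, Matrix.cons_val_one]
  simp
  ring

/-- the coefficient `q = (i + T)^2 - g c`. -/
noncomputable def qq : Polynomial (D A) :=
  Polynomial.X ^ 2 + (Polynomial.C (X 8 + X 8) * Polynomial.X + Polynomial.C (X 8 ^ 2 - X 6 * X 2))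

theorem qq_monic : (qq A).Monic := by
  apply Polynomial.monic_X_pow_add
  exact lt_of_le_of_lt (Polynomial.degree_linear_le) (by norm_num)

theorem psi_sig_detM : ∃ p0 : Polynomial (D A), psi A (sig A (detM A)) =
    Polynomial.C (qq A) * Polynomial.X + Polynomial.C p0 := by
  refine ⟨Polynomial.C (X 4) * qq A - Polynomial.C (X 1 * X 3 + X 1 * X 3) * (Polynomial.C (X 8) + Polynomial.X)
    - Polynomial.C (X 2 * X 3 ^ 2 + X 6 * X 1 ^ 2), ?_⟩
  have h2 : (2 : D A) = 1 + 1 := by norm_num
  rw [sig_detM, h2]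
  simp only [map_add, map_sub, map_mul, map_pow, map_one, psi, aeval_X, psiv, qq]
  simp
  ring

theorem sig_detM_nzd (x : D A) (hx : x * sig A (detM A) = 0) : x = 0 := by
  refine nzd_of_psi A ?_ x hx
  obtain ⟨p0, hp0⟩ := psi_sig_detM A
  rw [hp0]
  intro y hy
  by_cases h01 : (1 : D A) = 0
  · have : (1 : Polynomial (Polynomial (D A))) = 0 := by
      rw [← Polynomial.C_1, ← Polynomial.C_1, h01, Polynomial.C_0, Polynomial.C_0]
    rw [← mul_one y, this, mul_zero]
  · have hn : Nontrivial (D A) := ⟨⟨1, 0, h01⟩⟩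
    have hq : qq A ≠ 0 := by
      intro hq0
      have h1 := qq_monic A
      rw [hq0] at h1
      exact Polynomial.not_monic_zero h1
    have hlc : (Polynomial.C (qq A) * Polynomial.X + Polynomial.C p0).leadingCoeff = qq A :=
      Polynomial.leadingCoeff_linear hq
    have hmem : (Polynomial.C (qq A) * Polynomial.X + Polynomial.C p0) ∈
        nonZeroDivisors (Polynomial (Polynomial (D A))) := by
      apply Polynomial.mem_nonZeroDivisors_of_leadingCoeff
      rw [hlc]
      exact (qq_monic A).mem_nonZeroDivisors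
    exact (mul_right_mem_nonZeroDivisors_eq_zero_iff hmem).mp hy

/-- `detM` is a nonzerodivisor modulo `L`. -/
theorem mem_idL_of_mul_detM {r : D A} (h : r * detM A ∈ idL A) : r ∈ idL A := by
  rw [mem_idL_iff] at h ⊢
  rw [map_mul] at h
  exact sig_detM_nzd A _ h

end NZD2

section Results

theorem idI_eq_inf : idI A = idJ A ⊓ idL A := by
  apply le_antisymm
  · exact le_inf (idI_le_idJ A) (idI_le_idL A)
  · rintro x ⟨hJ, hL⟩
    obtain ⟨q, hq, r, rfl⟩ := (mem_idJ_iff A).mp hJ
    have h1 : r * detM A ∈ idL A := by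
      have := (idL A).sub_mem hL (idI_le_idL A hq)
      simpa using this
    have h2 : r ∈ idL A := mem_idL_of_mul_detM A h1
    have h3 := detM_mul_mem A h2
    rw [mul_comm] at h3
    exact (idI A).add_mem hq h3

theorem colon_idJ : (idI A).colon (idJ A : Set (D A)) = idL A := by
  ext x
  rw [Submodule.mem_colon]
  constructor
  · intro h
    have h1 := h (detM A) (detM_mem A)
    rw [smul_eq_mul] at h1
    exact mem_idL_of_mul_detM A (idI_le_idL A h1)
  · intro hx s hs
    rw [smul_eq_mul]
    obtain ⟨q, hq, r, rfl⟩ := (mem_idJ_iff A).mp hs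
    rw [mul_add]
    refine (idI A).add_mem ((idI A).mul_mem_left _ hq) ?_
    have h3 := detM_mul_mem A hx
    have : x * (r * detM A) = r * (detM A * x) := by ring
    rw [this]
    exact (idI A).mul_mem_left _ h3

theorem idL_isPrime [IsDomain A] : (idL A).IsPrime := by
  have : idL A = RingHom.ker (sig A).toRingHom := by
    ext x
    rw [mem_idL_iff, RingHom.mem_ker]
    rfl
  rw [this]
  exact RingHom.ker_isPrime _

theorem detM_notMem_idL [Nontrivial A] : detM A ∉ idL A := by
  intro h
  have h1 : (1 : D A) * detM A ∈ idL A := by rwa [one_mul]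
  have h2 := mem_idL_of_mul_detM A h1
  rw [mem_idL_iff, map_one] at h2
  exact one_ne_zero h2

theorem idL_minimal [IsDomain A] : idL A ∈ (idI A).minimalPrimes := by
  refine ⟨⟨idL_isPrime A, idI_le_idL A⟩, ?_⟩
  rintro P ⟨hP, hIP⟩ hPL
  unfold idL
  rw [Ideal.span_le]
  have hd : detM A ∉ P := fun h => detM_notMem_idL A (hPL h)
  intro y hy
  simp only [Set.mem_insert_iff, Set.mem_singleton_iff] at hy
  have key : detM A * y ∈ P := by
    apply hIP
    apply detM_mul_mem
    rcases hy with rfl | rfl | rfl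
    · exact L1_mem A
    · exact L2_mem A
    · exact L3_mem A
  exact (hP.mem_or_mem key).resolve_left hd

end Results

end Groth.Agent.Helper1.L3
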