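import Mathlib
import Groth.Agent.Lib.Helper1.Blow

namespace Groth.Agent.Helper1.L3T

open Groth.Agent.Helper1.Blow

universe u

set_option maxSynthPendingDepth 10

variable (A : Type u) [CommRing A]

/-! ### Level `S = A[w, v1, v3, c]` -/

abbrev S : Type u := MvPolynomial (Fin 4) A
abbrev R1 : Type u := Polynomial (S A)
abbrev R2 : Type u := Polynomial (R1 A)
abbrev R3 : Type u := Polynomial (R2 A)
abbrev R4 : Type u := Polynomial (R3 A)
abbrev R5 : Type u := Polynomial (R4 A)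

noncomputable instance i1 : CommRing (R1 A) := Polynomial.commRing
noncomputable instance i2 : CommRing (R2 A) := Polynomial.commRing
noncomputable instance i3 : CommRing (R3 A) := Polynomial.commRing
noncomputable instance i4 : CommRing (R4 A) := Polynomial.commRing
noncomputable instance i5 : CommRing (R5 A) := Polynomial.commRing

section LevelS

open MvPolynomial

noncomputable abbrev sW : S A := X 0
noncomputable abbrev sV1 : S A := X 1
noncomputable abbrev sV3 : S A := X 2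
noncomputable abbrev sC : S A := X 3

/-- kill the variables in `Z`. -/
noncomputable def kill (Z : Finset (Fin 4)) : S A →ₐ[A] S A :=
  aeval (fun j => if j ∈ Z then 0 else X j)

theorem kill_X_mem {Z : Finset (Fin 4)} {j : Fin 4} (hj : j ∈ Z) : kill A Z (X j) = 0 := by
  simp [kill, hj]

theorem kill_X_notMem {Z : Finset (Fin 4)} {j : Fin 4} (hj : j ∉ Z) : kill A Z (X j) = X j := by
  simp [kill, hj]

theorem sub_kill_mem (Z : Finset (Fin 4)) (x : S A) :
    x - kill A Z x ∈ Ideal.span ((X : Fin 4 → S A) '' (Z : Set (Fin 4))) := by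
  induction x using MvPolynomial.induction_on with
  | C r => simp [kill]
  | add p q hp hq =>
    have : p + q - kill A Z (p + q) = (p - kill A Z p) + (q - kill A Z q) := by
      rw [map_add]; ring
    rw [this]
    exact Ideal.add_mem _ hp hq
  | mul_X p j hp =>
    have : p * X j - kill A Z (p * X j) =
        (p - kill A Z p) * X j + kill A Z p * (X j - kill A Z (X j)) := by
      rw [map_mul]; ring
    rw [this]
    refine Ideal.add_mem _ (Ideal.mul_mem_right _ _ hp) (Ideal.mul_mem_left _ _ ?_)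
    by_cases hj : j ∈ Z
    · rw [kill_X_mem A hj, sub_zero]
      exact Ideal.subset_span ⟨j, hj, rfl⟩
    · rw [kill_X_notMem A hj, sub_self]
      exact Ideal.zero_mem _

theorem kill_eq_zero_of_mem (Z : Finset (Fin 4)) {x : S A}
    (hx : x ∈ Ideal.span ((X : Fin 4 → S A) '' (Z : Set (Fin 4)))) : kill A Z x = 0 := by
  have : Ideal.span ((X : Fin 4 → S A) '' (Z : Set (Fin 4))) ≤ RingHom.ker (kill A Z).toRingHom := by
    rw [Ideal.span_le]
    rintro _ ⟨j, hj, rfl⟩
    exact kill_X_mem A hj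
  exact this hx

theorem mem_iff_kill (Z : Finset (Fin 4)) (x : S A) :
    x ∈ Ideal.span ((X : Fin 4 → S A) '' (Z : Set (Fin 4))) ↔ kill A Z x = 0 := by
  constructor
  · exact kill_eq_zero_of_mem A Z
  · intro h
    have := sub_kill_mem A Z x
    rwa [h, sub_zero] at this

end LevelS

section LevelSFacts

open MvPolynomial

/-- the ideal generated by the variables in `Z`. -/
noncomputable def IZ (Z : Finset (Fin 4)) : Ideal (S A) :=
  Ideal.span ((X : Fin 4 → S A) '' (Z : Set (Fin 4)))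

theorem X_mem_IZ {Z : Finset (Fin 4)} {j : Fin 4} (hj : j ∈ Z) : (X j : S A) ∈ IZ A Z :=
  Ideal.subset_span ⟨j, hj, rfl⟩

/-- a cancellable element not involving `Z` is a nonzerodivisor modulo `IZ Z`. -/
theorem col_IZ (Z : Finset (Fin 4)) (s : S A) (hs : kill A Z s = s)
    (hc : ∀ p : S A, s * p = 0 → p = 0) : Col s (IZ A Z) (IZ A Z) := by
  intro y hy
  have h1 := kill_eq_zero_of_mem A Z hy
  rw [map_mul, hs] at h1
  exact (mem_iff_kill A Z y).mpr (hc _ h1)

theorem X_cancel (j : Fin 4) (p : S A) (h : X j * p = 0) : p = 0 := by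
  have : (X j : S A) * p = X j * 0 := by rw [h, mul_zero]
  exact X_mul_cancel_left_iff.mp this

/-- (t1) -/
theorem t1 : Col (sV1 A) (IZ A {0}) (IZ A {0}) :=
  col_IZ A {0} _ (kill_X_notMem A (by decide)) (X_cancel A 1)

/-- (t2) -/
theorem t2 : Col (-(sC A * sV3 A)) (IZ A {0, 1}) (IZ A {0, 1}) := by
  apply col_IZ
  · rw [map_neg, map_mul, kill_X_notMem A (by decide), kill_X_notMem A (by decide)]
  · intro p hp
    rw [neg_mul, neg_eq_zero, mul_assoc] at hp
    exact X_cancel A 2 p (X_cancel A 3 _ hp)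

/-- (t5) -/
theorem t5 : Col (sC A) (IZ A {0, 1, 2}) (IZ A {0, 1, 2}) :=
  col_IZ A {0, 1, 2} _ (kill_X_notMem A (by decide)) (X_cancel A 3)

/-- (t3) -/
theorem t3 : Col (sV3 A) (IZ A {0, 1} ⊔ Ideal.span {sC A * sV3 A}) (IZ A {0, 1} ⊔ Ideal.span {sC A}) := by
  intro y hy
  obtain ⟨k, hk, t, ht⟩ := mem_sup_span_singleton.mp hy
  have h1 := congrArg (kill A {0, 1}) ht
  rw [map_add, kill_eq_zero_of_mem A _ hk, zero_add, map_mul, map_mul, map_mul,
    kill_X_notMem A (by decide), kill_X_notMem A (by decide)] at h1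
  have h2 : kill A {0, 1} y = sC A * kill A {0, 1} t := by
    apply (X_mul_cancel_left_iff (i := (2 : Fin 4))).mp
    rw [h1]; ring
  rw [mem_sup_span_singleton]
  refine ⟨y - kill A {0, 1} y, sub_kill_mem A _ y, kill A {0, 1} t, ?_⟩
  rw [← h2]; ring

/-- (t4) -/
theorem t4 : Col (sC A) (IZ A {0, 1} ⊔ Ideal.span {sC A * sV3 A}) (IZ A {0, 1, 2}) := by
  intro y hy
  obtain ⟨k, hk, t, ht⟩ := mem_sup_span_singleton.mp hy
  have h1 := congrArg (kill A {0, 1}) ht
  rw [map_add, kill_eq_zero_of_mem A _ hk, zero_add, map_mul, map_mul, map_mul,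
    kill_X_notMem A (by decide), kill_X_notMem A (by decide)] at h1
  have h2 : kill A {0, 1} y = sV3 A * kill A {0, 1} t := by
    apply (X_mul_cancel_left_iff (i := (3 : Fin 4))).mp
    rw [h1]; ring
  have h3 : y = (y - kill A {0, 1} y) + sV3 A * kill A {0, 1} t := by rw [← h2]; ring
  rw [h3]
  refine Ideal.add_mem _ ?_ (Ideal.mul_mem_right _ _ (X_mem_IZ A (by decide)))
  have : IZ A {0, 1} ≤ IZ A {0, 1, 2} := by
    apply Ideal.span_mono
    apply Set.image_mono
    intro j hj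
    simp only [Finset.coe_insert, Finset.coe_singleton, Set.mem_insert_iff,
      Set.mem_singleton_iff] at hj ⊢
    tauto
  exact this (sub_kill_mem A _ y)

end LevelSFacts

/-! ### Level `R1 = S[b]` and `R2 = R1[e]` -/

section LevelR12

open Polynomial

theorem IZ_mono {Z Z' : Finset (Fin 4)} (h : Z ⊆ Z') : IZ A Z ≤ IZ A Z' := by
  apply Ideal.span_mono
  apply Set.image_mono
  exact_mod_cast h

theorem IZ_le {Z : Finset (Fin 4)} {T : Ideal (S A)} (h : ∀ j ∈ Z, (MvPolynomial.X j : S A) ∈ T) :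
    IZ A Z ≤ T := by
  rw [IZ, Ideal.span_le]
  rintro _ ⟨j, hj, rfl⟩
  exact h j (by exact_mod_cast hj)

/-- `q₁ = v1 b + c v3` (this is `β₁`). -/
noncomputable def beta1 : R1 A := C (sV1 A) * X - C (-(sC A * sV3 A))

noncomputable def K1 : Ideal (R1 A) := (IZ A {0}).map C ⊔ Ideal.span {beta1 A}

theorem r1_0 : Col (C (sV1 A)) (K1 A) (K1 A) := by
  refine col_blow' (t1 A) (t2 A) ?_ ?_
  · refine sup_le (IZ_mono A (by decide)) ?_
    rw [Ideal.span_le, Set.singleton_subset_iff]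
    exact X_mem_IZ A (by decide)
  · apply IZ_le
    intro j hj
    fin_cases hj
    · exact Ideal.mem_sup_left (X_mem_IZ A (by decide))
    · exact Ideal.mem_sup_right (Ideal.subset_span rfl)

theorem beta1_mem_K1 : beta1 A ∈ K1 A := Ideal.mem_sup_right (Ideal.subset_span rfl)

noncomputable def beta2' : R2 A := C (C (sV1 A)) * X - C (X * C (sV3 A))
noncomputable def R0' : R2 A := C (C (sC A)) * X - C (-X ^ 2)

noncomputable def K2 : Ideal (R2 A) :=
  (K1 A).map C ⊔ Ideal.span {beta2' A} ⊔ Ideal.span {R0' A}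

theorem r2_A : Col (C (C (sV1 A))) (K2 A) (K2 A) := by
  refine col_blow2' (w := C (sV1 A)) (β := X * C (sV3 A)) (R₀ := C (sC A)) (P₀ := -X ^ 2)
    (ℓ₁ := C (sV3 A)) (ℓ₂ := C (sV3 A)) (m₁ := -X) (m₂ := -X) (K := K1 A)
    (Kw := (IZ A {0, 1} ⊔ Ideal.span {sC A * sV3 A}).map C)
    (KR := (IZ A {0, 1} ⊔ Ideal.span {sC A}).map C)
    (Kn := (IZ A {0, 1, 2}).map C) (r1_0 A) ?_ ?_ ?_ ?_ ?_ ?_ ?_ ?_ ?_
  · have : X * C (sV3 A) * C (sC A) - C (sV1 A) * -X ^ 2 = X * beta1 A := by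
      rw [beta1, map_neg, map_mul]; ring
    rw [this]
    exact Ideal.mul_mem_left _ _ (beta1_mem_K1 A)
  · have : C (sV3 A) * C (sC A) - C (sV1 A) * -X = beta1 A := by
      rw [beta1, map_neg, map_mul]; ring
    rw [this]
    exact beta1_mem_K1 A
  · have : C (sV3 A) * C (sC A) - C (sV1 A) * -X = beta1 A := by
      rw [beta1, map_neg, map_mul]; ring
    rw [this]
    exact beta1_mem_K1 A
  · -- hKw
    have hV1 : C (sV1 A) ∈ (IZ A {0, 1} ⊔ Ideal.span {sC A * sV3 A}).map (C : S A →+* R1 A) :=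
      Ideal.mem_map_of_mem _ (Ideal.mem_sup_left (X_mem_IZ A (by decide)))
    have hcv : C (sC A * sV3 A) ∈ (IZ A {0, 1} ⊔ Ideal.span {sC A * sV3 A}).map (C : S A →+* R1 A) :=
      Ideal.mem_map_of_mem _ (Ideal.mem_sup_right (Ideal.subset_span rfl))
    refine sup_le (sup_le (Ideal.map_mono (le_trans (IZ_mono A (by decide)) le_sup_left)) ?_) ?_
    · rw [Ideal.span_le, Set.singleton_subset_iff, beta1, map_neg, sub_neg_eq_add]
      exact Ideal.add_mem _ (Ideal.mul_mem_right _ _ hV1) hcv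
    · rw [Ideal.span_le, Set.singleton_subset_iff]
      exact hV1
  · -- h2
    have := col_linear (κ := 0) (t3 A) (fun y _ => by rw [mul_zero]; exact Ideal.zero_mem _)
    have e : C (sV3 A) * X + C 0 = (X : R1 A) * C (sV3 A) := by rw [map_zero]; ring
    rw [e] at this
    exact this
  · -- hKR
    rw [Ideal.map_sup, Ideal.map_span, Set.image_singleton]
    refine sup_le ?_ ?_
    · rw [Ideal.map_le_iff_le_comap]
      apply IZ_le
      intro j hj
      rw [Ideal.mem_comap]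
      fin_cases hj
      · exact Ideal.mem_sup_left (Ideal.mem_sup_left (Ideal.mem_sup_left
          (Ideal.mem_map_of_mem _ (X_mem_IZ A (by decide)))))
      · exact Ideal.mem_sup_left (Ideal.mem_sup_right (Ideal.subset_span rfl))
    · rw [Ideal.span_le, Set.singleton_subset_iff]
      exact Ideal.mem_sup_right (Ideal.subset_span rfl)
  · exact (t4 A).mapC
  · exact (t5 A).mapC
  · -- hKn
    rw [Ideal.map_le_iff_le_comap]
    apply IZ_le
    intro j hj
    rw [Ideal.mem_comap]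
    fin_cases hj
    · exact Ideal.mem_sup_left (Ideal.mem_sup_left (Ideal.mem_sup_left (Ideal.mem_sup_left
        (Ideal.mem_map_of_mem _ (X_mem_IZ A (by decide))))))
    · exact Ideal.mem_sup_left (Ideal.mem_sup_left (Ideal.mem_sup_right (Ideal.subset_span rfl)))
    · exact Ideal.mem_sup_right (Ideal.subset_span rfl)

end LevelR12

/-! ### Facts at level `R2` for the top level -/

section LevelR2Facts

open Polynomial

noncomputable def Kw2 : Ideal (R2 A) := (K1 A).map C ⊔ Ideal.span {beta2' A}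

noncomputable def Kn2 : Ideal (R2 A) := ((IZ A {0, 1, 2}).map (C : S A →+* R1 A)).map C

theorem Kw2_def : Kw2 A = (K1 A).map C ⊔ Ideal.span {beta2' A} := rfl

theorem Kw2_le_K2 : Kw2 A ≤ K2 A := le_sup_left

theorem K2_eq : K2 A = Kw2 A ⊔ Ideal.span {R0' A} := rfl

/-- (r2-A') -/
theorem r2_A' : Col (C (C (sV1 A))) (Kw2 A) (K2 A) := (r2_A A).mono (Kw2_le_K2 A) le_rfl

/-- (r2-B) `R₀` is a nonzerodivisor modulo `(w, v1, v3)`. -/
theorem r2_B : Col (R0' A) (Kn2 A) (Kn2 A) := by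
  have := col_linear (u := C (sC A)) (κ := X ^ 2) (t5 A).mapC
    (fun y hy => Ideal.mul_mem_right _ _ hy)
  have e : C (C (sC A)) * X + C (X ^ 2) = R0' A := by rw [R0', map_neg, sub_neg_eq_add]
  rw [e] at this
  exact this

theorem beta1_mem_n : beta1 A ∈ (IZ A {0, 1, 2}).map (C : S A →+* R1 A) := by
  rw [beta1, map_neg, sub_neg_eq_add]
  refine Ideal.add_mem _ (Ideal.mul_mem_right _ _ (Ideal.mem_map_of_mem _ (X_mem_IZ A (by decide))))
    (Ideal.mem_map_of_mem _ (Ideal.mul_mem_left _ _ (X_mem_IZ A (by decide))))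

/-- (r2-C) -/
theorem Kw2_le_Kn2 : Kw2 A ≤ Kn2 A := by
  refine sup_le (Ideal.map_mono (sup_le (Ideal.map_mono (IZ_mono A (by decide))) ?_)) ?_
  · rw [Ideal.span_le, Set.singleton_subset_iff]
    exact beta1_mem_n A
  · rw [Ideal.span_le, Set.singleton_subset_iff, beta2', Kn2]
    have h1 : C (sV1 A) ∈ (IZ A {0, 1, 2}).map (C : S A →+* R1 A) :=
      Ideal.mem_map_of_mem _ (X_mem_IZ A (by decide))
    have h3 : C (sV3 A) ∈ (IZ A {0, 1, 2}).map (C : S A →+* R1 A) :=
      Ideal.mem_map_of_mem _ (X_mem_IZ A (by decide))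
    exact sub_mem (Ideal.mul_mem_right _ _ (Ideal.mem_map_of_mem (C : R1 A →+* R2 A) h1))
      (Ideal.mem_map_of_mem (C : R1 A →+* R2 A) (Ideal.mul_mem_left _ _ h3))

theorem beta2'_mem : beta2' A ∈ Kw2 A := Ideal.mem_sup_right (Ideal.subset_span rfl)

theorem Cbeta1_mem : C (beta1 A) ∈ Kw2 A :=
  Ideal.mem_sup_left (Ideal.mem_map_of_mem _ (beta1_mem_K1 A))

theorem v1_mul_R0 : C (C (sV1 A)) * R0' A ∈ Kw2 A := by
  have : C (C (sV1 A)) * R0' A = C X * C (beta1 A) + C (C (sC A)) * beta2' A := by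
    simp only [R0', beta1, beta2', map_sub, map_mul, map_neg, map_pow]; ring
  rw [this]
  exact (Kw2 A).add_mem ((Kw2 A).mul_mem_left _ (Cbeta1_mem A))
    ((Kw2 A).mul_mem_left _ (beta2'_mem A))

theorem v3_mul_R0 : C (C (sV3 A)) * R0' A ∈ Kw2 A := by
  have : C (C (sV3 A)) * R0' A = X * C (beta1 A) - C X * beta2' A := by
    simp only [R0', beta1, beta2', map_sub, map_mul, map_neg, map_pow]; ring
  rw [this]
  exact sub_mem ((Kw2 A).mul_mem_left _ (Cbeta1_mem A))
    ((Kw2 A).mul_mem_left _ (beta2'_mem A))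

/-- `R₀ y ∈ (w, β₁, β₂) → y ∈ (w, v1, v3)`. -/
theorem r2_3a : Col (R0' A) (Kw2 A) (Kn2 A) := (r2_B A).mono (Kw2_le_Kn2 A) le_rfl

/-- (r2-D) `β₁` is a nonzerodivisor modulo `w`. -/
theorem r2_D : Col (C (beta1 A)) (((IZ A {0}).map (C : S A →+* R1 A)).map C)
    (((IZ A {0}).map (C : S A →+* R1 A)).map C) := by
  have := col_linear (u := sV1 A) (κ := sC A * sV3 A) (t1 A)
    (fun y hy => Ideal.mul_mem_right _ _ hy)
  have e : C (sV1 A) * X + C (sC A * sV3 A) = beta1 A := by rw [beta1, map_neg, sub_neg_eq_add]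
  rw [e] at this
  exact this.mapC

/-- (r2-E) `β₂` is a nonzerodivisor modulo `(w, β₁)`. -/
theorem r2_E : Col (beta2' A) ((K1 A).map C) ((K1 A).map C) := by
  have := col_linear (u := C (sV1 A)) (κ := -(X * C (sV3 A))) (r1_0 A)
    (fun y hy => Ideal.mul_mem_right _ _ hy)
  have e : C (C (sV1 A)) * X + C (-(X * C (sV3 A))) = beta2' A := by
    rw [beta2', map_neg, ← sub_eq_add_neg]
  rw [e] at this
  exact this

end LevelR2Facts

/-! ### Levels `R3 = R2[a]`, `R4 = R3[h]` -/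

section LevelR34

open Polynomial

noncomputable def w2 : R2 A := C (C (sW A))

theorem IZ0_eq : IZ A {0} = Ideal.span {sW A} := by
  rw [IZ, Finset.coe_singleton, Set.image_singleton]

noncomputable def Iw2 : Ideal (R2 A) := ((IZ A {0}).map (C : S A →+* R1 A)).map C

theorem Iw2_eq : Iw2 A = Ideal.span {w2 A} := by
  rw [Iw2, IZ0_eq, Ideal.map_span, Set.image_singleton, Ideal.map_span, Set.image_singleton, w2]

theorem col_w2 : Col (w2 A) ⊥ ⊥ := by
  have h0 : Col (sW A) ⊥ ⊥ := by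
    intro y hy
    rw [Ideal.mem_bot] at hy ⊢
    exact X_cancel A 0 y hy
  have := h0.mapC.mapC
  rw [Ideal.map_bot, Ideal.map_bot] at this
  exact this

noncomputable def q3 : R3 A := C (w2 A) * X - C (C (beta1 A))

noncomputable def K3 : Ideal (R3 A) := (⊥ : Ideal (R2 A)).map C ⊔ Ideal.span {q3 A}

theorem r3_0 : Col (C (w2 A)) (K3 A) (K3 A) := by
  refine col_blow' (col_w2 A) (r2_D A) ?_ ?_
  · rw [bot_sup_eq]; exact (Iw2_eq A).ge
  · rw [bot_sup_eq]; exact (Iw2_eq A).le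

theorem q3_mem_K3 : q3 A ∈ K3 A := Ideal.mem_sup_right (Ideal.subset_span rfl)

noncomputable def q2 : R4 A := C (C (w2 A)) * X - C (C (-beta2' A))

noncomputable def K4 : Ideal (R4 A) := (K3 A).map C ⊔ Ideal.span {q2 A}

theorem w2_mem_K1map : w2 A ∈ (K1 A).map (C : R1 A →+* R2 A) :=
  Ideal.mem_map_of_mem _ (Ideal.mem_sup_left (Ideal.mem_map_of_mem _ (X_mem_IZ A (by decide))))

theorem r4_0 : Col (C (C (w2 A))) (K4 A) (K4 A) := by
  refine col_blow' (K₀ := K3 A) (w := C (w2 A)) (β := C (-beta2' A))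
    (Kw := ((K1 A).map (C : R1 A →+* R2 A)).map C) (Kw' := ((K1 A).map (C : R1 A →+* R2 A)).map C)
    (r3_0 A) (Col.mapC (Col.neg (r2_E A))) ?_ ?_
  · have hw : C (w2 A) ∈ ((K1 A).map (C : R1 A →+* R2 A)).map (C : R2 A →+* R3 A) :=
      Ideal.mem_map_of_mem _ (w2_mem_K1map A)
    refine sup_le (sup_le ?_ ?_) ?_
    · rw [Ideal.map_bot]; exact bot_le
    · rw [Ideal.span_le, Set.singleton_subset_iff, q3]
      refine sub_mem (Ideal.mul_mem_right _ _ hw) (Ideal.mem_map_of_mem _ (Ideal.mem_map_of_mem _ ?_))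
      exact beta1_mem_K1 A
    · rw [Ideal.span_le, Set.singleton_subset_iff]; exact hw
  · rw [Ideal.map_le_iff_le_comap, Ideal.map_le_iff_le_comap, K1]
    refine sup_le ?_ ?_
    · rw [Ideal.map_le_iff_le_comap]
      apply IZ_le
      intro j hj
      fin_cases hj
      exact Ideal.mem_sup_right (Ideal.subset_span rfl)
    · rw [Ideal.span_le, Set.singleton_subset_iff]
      show C (C (beta1 A)) ∈ K3 A ⊔ Ideal.span {C (w2 A)}
      have : C (C (beta1 A)) = C (w2 A) * X - q3 A := by rw [q3]; ring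
      rw [this]
      exact sub_mem (Ideal.mul_mem_right _ _ (Ideal.mem_sup_right (Ideal.subset_span rfl)))
        (Ideal.mem_sup_left (q3_mem_K3 A))

end LevelR34

/-! ### Level `R5 = R4[g]` -/

section LevelR5

open Polynomial

noncomputable def w4 : R4 A := C (C (w2 A))
noncomputable def v13 : R3 A := C (C (C (sV1 A)))
noncomputable def v33 : R3 A := C (C (C (sV3 A)))
noncomputable def v14 : R4 A := C (v13 A)
noncomputable def v34 : R4 A := C (v33 A)
noncomputable def c4 : R4 A := C (C (C (C (sC A))))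
noncomputable def b4 : R4 A := C (C (C X))
noncomputable def e4 : R4 A := C (C X)
noncomputable def a4 : R4 A := C X
noncomputable def h4 : R4 A := X
noncomputable def kap3 : R3 A := v33 A * X - v13 A * v33 A
noncomputable def beta3 : R4 A := C (v13 A) * X + C (kap3 A)
noncomputable def R04 : R4 A := C (C (R0' A))
noncomputable def P04 : R4 A :=
  e4 A * a4 A ^ 2 + 2 * a4 A * b4 A * h4 A - c4 A * h4 A ^ 2 - v14 A * (b4 A * h4 A + e4 A * a4 A)
noncomputable def m1 : R4 A := b4 A * a4 A - c4 A * h4 A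
noncomputable def m2 : R4 A := b4 A * h4 A + e4 A * a4 A

theorem Cq3_mem_K4 : C (q3 A) ∈ K4 A := Ideal.mem_sup_left (Ideal.mem_map_of_mem _ (q3_mem_K3 A))
theorem q2_mem_K4 : q2 A ∈ K4 A := Ideal.mem_sup_right (Ideal.subset_span rfl)

theorem h1_id : beta3 A * R04 A - w4 A * P04 A =
    -(h4 A * b4 A + a4 A * e4 A - v14 A * e4 A) * C (q3 A)
      - (-(c4 A * h4 A) + a4 A * b4 A - v14 A * b4 A) * q2 A := by
  simp only [beta3, R04, w4, P04, q3, q2, kap3, v14, v13, v33, c4, b4, e4, a4, h4, R0', beta1,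
    beta2', w2, map_sub, map_mul, map_neg, map_pow, map_add]
  ring

theorem h1a_id : v14 A * R04 A - w4 A * m1 A = -(b4 A) * C (q3 A) + c4 A * q2 A := by
  simp only [R04, w4, m1, q3, q2, v14, v13, c4, b4, a4, h4, R0', beta1,
    beta2', w2, map_sub, map_mul, map_neg, map_pow, map_add]
  ring

theorem h1b_id : v34 A * R04 A - w4 A * m2 A = -(b4 A) * q2 A - e4 A * C (q3 A) := by
  simp only [R04, w4, m2, q3, q2, v34, v33, b4, e4, a4, h4, R0', beta1,
    beta2', w2, map_sub, map_mul, map_neg, map_pow, map_add]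
  ring

end LevelR5

section LevelR5Main

open Polynomial

noncomputable def q1 : R5 A := C (w4 A) * X - C (beta3 A)
noncomputable def del5 : R5 A := C (R04 A) * X - C (P04 A)

noncomputable def K5 : Ideal (R5 A) :=
  (K4 A).map C ⊔ Ideal.span {q1 A} ⊔ Ideal.span {del5 A}

noncomputable def Kw4 : Ideal (R4 A) := ((Kw2 A).map (C : R2 A →+* R3 A)).map C
noncomputable def KR4 : Ideal (R4 A) := ((K2 A).map (C : R2 A →+* R3 A)).map C
noncomputable def Kn4 : Ideal (R4 A) := ((Kn2 A).map (C : R2 A →+* R3 A)).map C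

theorem w4_mem_Kw4 : w4 A ∈ Kw4 A := by
  refine Ideal.mem_map_of_mem _ (Ideal.mem_map_of_mem _ ?_)
  exact Ideal.mem_sup_left (w2_mem_K1map A)

theorem CCbeta1_mem_Kw4 : C (C (C (beta1 A))) ∈ Kw4 A :=
  Ideal.mem_map_of_mem _ (Ideal.mem_map_of_mem _ (Cbeta1_mem A))

theorem CCbeta2_mem_Kw4 : C (C (beta2' A)) ∈ Kw4 A :=
  Ideal.mem_map_of_mem _ (Ideal.mem_map_of_mem _ (beta2'_mem A))

theorem hKw4 : K4 A ⊔ Ideal.span {w4 A} ≤ Kw4 A := by
  refine sup_le (sup_le ?_ ?_) ?_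
  · rw [Ideal.map_le_iff_le_comap, K3]
    refine sup_le ?_ ?_
    · rw [Ideal.map_bot]; exact bot_le
    · rw [Ideal.span_le, Set.singleton_subset_iff]
      show C (q3 A) ∈ Kw4 A
      have : C (q3 A) = w4 A * C X - C (C (C (beta1 A))) := by
        simp only [q3, w4, map_sub, map_mul]
      rw [this]
      exact sub_mem (Ideal.mul_mem_right _ _ (w4_mem_Kw4 A)) (CCbeta1_mem_Kw4 A)
  · rw [Ideal.span_le, Set.singleton_subset_iff]
    have : q2 A = w4 A * X + C (C (beta2' A)) := by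
      simp only [q2, w4, map_neg]; ring
    rw [this]
    exact add_mem (Ideal.mul_mem_right _ _ (w4_mem_Kw4 A)) (CCbeta2_mem_Kw4 A)
  · rw [Ideal.span_le, Set.singleton_subset_iff]
    exact w4_mem_Kw4 A

theorem hκ4 : ∀ y ∈ (K2 A).map (C : R2 A →+* R3 A), y * kap3 A ∈ (Kw2 A).map (C : R2 A →+* R3 A) := by
  intro y hy
  rw [K2_eq, map_sup_span] at hy
  obtain ⟨k, hk, t, rfl⟩ := mem_sup_span_singleton.mp hy
  have h3 : C (R0' A) * kap3 A ∈ (Kw2 A).map (C : R2 A →+* R3 A) := by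
    have : C (R0' A) * kap3 A = C (C (C (sV3 A)) * R0' A) * X
        - C (C (C (sV1 A))) * C (C (C (sV3 A)) * R0' A) := by
      simp only [kap3, v33, v13, map_mul]; ring
    rw [this]
    have hm : C (C (C (sV3 A)) * R0' A) ∈ (Kw2 A).map (C : R2 A →+* R3 A) :=
      Ideal.mem_map_of_mem _ (v3_mul_R0 A)
    exact sub_mem (Ideal.mul_mem_right _ _ hm) (Ideal.mul_mem_left _ _ hm)
  have : (k + C (R0' A) * t) * kap3 A = k * kap3 A + t * (C (R0' A) * kap3 A) := by ring
  rw [this]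
  exact add_mem (Ideal.mul_mem_right _ _ hk) (Ideal.mul_mem_left _ _ h3)

theorem h2_4 : Col (beta3 A) (Kw4 A) (KR4 A) :=
  col_linear (u := v13 A) (κ := kap3 A) (Col.mapC (r2_A' A)) (hκ4 A)

theorem hKR4 : KR4 A ≤ K4 A ⊔ Ideal.span {w4 A} ⊔ Ideal.span {R04 A} := by
  have hw : w4 A ∈ K4 A ⊔ Ideal.span {w4 A} ⊔ Ideal.span {R04 A} :=
    Ideal.mem_sup_left (Ideal.mem_sup_right (Ideal.subset_span rfl))
  have hq3 : C (q3 A) ∈ K4 A ⊔ Ideal.span {w4 A} ⊔ Ideal.span {R04 A} :=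
    Ideal.mem_sup_left (Ideal.mem_sup_left (Cq3_mem_K4 A))
  have hq2 : q2 A ∈ K4 A ⊔ Ideal.span {w4 A} ⊔ Ideal.span {R04 A} :=
    Ideal.mem_sup_left (Ideal.mem_sup_left (q2_mem_K4 A))
  rw [KR4, Ideal.map_le_iff_le_comap, Ideal.map_le_iff_le_comap, K2]
  refine sup_le (sup_le ?_ ?_) ?_
  · rw [Ideal.map_le_iff_le_comap, K1]
    refine sup_le ?_ ?_
    · rw [Ideal.map_le_iff_le_comap]
      apply IZ_le
      intro j hj
      fin_cases hj
      exact hw
    · rw [Ideal.span_le, Set.singleton_subset_iff]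
      simp only [SetLike.mem_coe, Ideal.mem_comap]
      have : C (C (C (beta1 A))) = w4 A * C X - C (q3 A) := by
        simp only [q3, w4, map_sub, map_mul]; ring
      rw [this]
      exact sub_mem (Ideal.mul_mem_right _ _ hw) hq3
  · rw [Ideal.span_le, Set.singleton_subset_iff]
    simp only [SetLike.mem_coe, Ideal.mem_comap]
    have : C (C (beta2' A)) = q2 A - w4 A * X := by
      simp only [q2, w4, map_neg]; ring
    rw [this]
    exact sub_mem hq2 (Ideal.mul_mem_right _ _ hw)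
  · rw [Ideal.span_le, Set.singleton_subset_iff]
    exact Ideal.mem_sup_right (Ideal.subset_span rfl)

theorem hKn4 : Kn4 A ≤ K4 A ⊔ Ideal.span {w4 A} ⊔ Ideal.span {v14 A} ⊔ Ideal.span {v34 A} := by
  rw [Kn4, Kn2, Ideal.map_le_iff_le_comap, Ideal.map_le_iff_le_comap, Ideal.map_le_iff_le_comap,
    Ideal.map_le_iff_le_comap]
  apply IZ_le
  intro j hj
  fin_cases hj
  · exact Ideal.mem_sup_left (Ideal.mem_sup_left (Ideal.mem_sup_right (Ideal.subset_span rfl)))
  · exact Ideal.mem_sup_left (Ideal.mem_sup_right (Ideal.subset_span rfl))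
  · exact Ideal.mem_sup_right (Ideal.subset_span rfl)

/-- **Main nonzerodivisor theorem**: `w` is a nonzerodivisor modulo `K5 = J`. -/
theorem W5 : Col (C (w4 A)) (K5 A) (K5 A) := by
  refine col_blow2' (w := w4 A) (β := beta3 A) (R₀ := R04 A) (P₀ := P04 A)
    (ℓ₁ := v14 A) (ℓ₂ := v34 A) (m₁ := m1 A) (m₂ := m2 A) (K := K4 A)
    (Kw := Kw4 A) (KR := KR4 A) (Kn := Kn4 A) (r4_0 A) ?_ ?_ ?_ (hKw4 A) (h2_4 A) (hKR4 A)
    (Col.mapC (Col.mapC (r2_3a A))) (Col.mapC (Col.mapC (r2_B A))) (hKn4 A)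
  · rw [h1_id]
    exact sub_mem (Ideal.mul_mem_left _ _ (Cq3_mem_K4 A)) (Ideal.mul_mem_left _ _ (q2_mem_K4 A))
  · rw [h1a_id]
    exact add_mem (Ideal.mul_mem_left _ _ (Cq3_mem_K4 A)) (Ideal.mul_mem_left _ _ (q2_mem_K4 A))
  · rw [h1b_id]
    exact sub_mem (Ideal.mul_mem_left _ _ (q2_mem_K4 A)) (Ideal.mul_mem_left _ _ (Cq3_mem_K4 A))

end LevelR5Main

end Groth.Agent.Helper1.L3T
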