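import Mathlib
import Groth.Prelude.Def_W4c1bouilletffgsL3
import Groth.Agent.Lib.Helper1.L3
import Groth.Agent.Lib.Helper1.L3T

namespace Groth.Agent.Helper1.L3U

open Groth.Agent.Helper1.Blow Groth.Agent.Helper1.L3T Lie3Mod

universe u

set_option maxSynthPendingDepth 10

variable (A : Type u) [CommRing A]

section Transfer

open Polynomial

/-- images of the nine variables in the tower. -/
noncomputable def a5 : R5 A := C (a4 A)
noncomputable def b5 : R5 A := C (b4 A)
noncomputable def c5 : R5 A := C (c4 A)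
noncomputable def e5 : R5 A := C (e4 A)
noncomputable def h5 : R5 A := C (h4 A)
noncomputable def g5 : R5 A := X
noncomputable def wW5 : R5 A := C (w4 A)
noncomputable def v15 : R5 A := C (v14 A)
noncomputable def v35 : R5 A := C (v34 A)

noncomputable def thv : Fin 9 → R5 A :=
  ![a5 A, b5 A, c5 A, v35 A - h5 A, e5 A, wW5 A - b5 A, g5 A, h5 A, a5 A - v15 A]

noncomputable def Th : D A →ₐ[A] R5 A := MvPolynomial.aeval (thv A)

noncomputable def rhoS : S A →ₐ[A] D A :=
  MvPolynomial.aeval ![MvPolynomial.X 1 + MvPolynomial.X 5, MvPolynomial.X 0 - MvPolynomial.X 8,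
    MvPolynomial.X 3 + MvPolynomial.X 7, MvPolynomial.X 2]

noncomputable def rho1 : R1 A →+* D A := eval₂RingHom (rhoS A).toRingHom (MvPolynomial.X 1)
noncomputable def rho2 : R2 A →+* D A := eval₂RingHom (rho1 A) (MvPolynomial.X 4)
noncomputable def rho3 : R3 A →+* D A := eval₂RingHom (rho2 A) (MvPolynomial.X 0)
noncomputable def rho4 : R4 A →+* D A := eval₂RingHom (rho3 A) (MvPolynomial.X 7)
noncomputable def rho5 : R5 A →+* D A := eval₂RingHom (rho4 A) (MvPolynomial.X 6)

theorem rho5_Th (x : D A) : rho5 A (Th A x) = x := by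
  have : (rho5 A).comp (Th A).toRingHom = RingHom.id (D A) := by
    apply MvPolynomial.ringHom_ext
    · intro r
      simp [rho5, rho4, rho3, rho2, rho1, rhoS, Th, Polynomial.algebraMap_apply]
    · intro j
      fin_cases j <;>
      simp [rho5, rho4, rho3, rho2, rho1, rhoS, Th, thv, a5, b5, c5, e5, h5, g5, wW5, v15, v35,
        a4, b4, c4, e4, h4, w4, v14, v34, v13, v33, w2]
  exact RingHom.congr_fun this x

end Transfer


section Gens

open Polynomial

theorem Th_X (j : Fin 9) : Th A (MvPolynomial.X j) = thv A j := by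
  simp [Th]

theorem Th_Q1 : Th A (Q1 A) = -q1 A := by
  simp only [Q1, map_sub, map_add, map_mul, Th_X]
  simp only [thv, Matrix.cons_val_zero, Matrix.cons_val_one, Matrix.cons_val]
  simp only [q1, beta3, kap3, a5, b5, c5, e5, h5, g5, wW5, v15, v35,
        a4, b4, c4, e4, h4, w4, v14, v34, v13, v33, w2, map_sub, map_add, map_mul]
  ring

end Gens


section Gens2

open Polynomial

theorem Th_Q2 : Th A (Q2 A) = -C (q2 A) := by
  simp only [Q2, map_sub, map_add, map_mul, Th_X]
  simp only [thv, Matrix.cons_val_zero, Matrix.cons_val_one, Matrix.cons_val]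
  simp only [q2, beta2', a5, b5, c5, e5, h5, g5, wW5, v15, v35,
        a4, b4, c4, e4, h4, w4, v14, v34, v13, v33, w2, map_sub, map_add, map_mul, map_neg]
  ring

theorem Th_Q3 : Th A (Q3 A) = -C (C (q3 A)) := by
  simp only [Q3, map_sub, map_add, map_mul, Th_X]
  simp only [thv, Matrix.cons_val_zero, Matrix.cons_val_one, Matrix.cons_val]
  simp only [q3, beta1, a5, b5, c5, e5, h5, g5, wW5, v15, v35,
        a4, b4, c4, e4, h4, w4, v14, v34, v13, v33, w2, map_sub, map_add, map_mul, map_neg]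
  ring

theorem Th_detM : Th A (detM A) = b5 A * q1 A - (a5 A - v15 A) * C (q2 A) - del5 A := by
  simp only [detM, map_sub, map_add, map_mul, map_neg, map_pow, Th_X]
  simp only [thv, Matrix.cons_val_zero, Matrix.cons_val_one, Matrix.cons_val]
  simp only [q1, q2, del5, beta3, kap3, R04, P04, R0', beta2', a5, b5, c5, e5, h5, g5, wW5, v15, v35,
        a4, b4, c4, e4, h4, w4, v14, v34, v13, v33, w2, map_sub, map_add, map_mul, map_neg, map_pow,
        map_ofNat]
  ring

theorem Th_L2 : Th A (L2 A) = C (w4 A) := by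
  simp only [L2, map_add, Th_X]
  simp only [thv, Matrix.cons_val_zero, Matrix.cons_val_one, Matrix.cons_val]
  simp only [wW5]
  ring

end Gens2


section IdealTransfer

open Polynomial

theorem Q1_memJ : Q1 A ∈ idJ A := L3.idI_le_idJ A (L3.Q1_mem A)
theorem Q2_memJ : Q2 A ∈ idJ A := L3.idI_le_idJ A (L3.Q2_mem A)
theorem Q3_memJ : Q3 A ∈ idJ A := L3.idI_le_idJ A (L3.Q3_mem A)

theorem q1_mem_K5 : q1 A ∈ K5 A := Ideal.mem_sup_left (Ideal.mem_sup_right (Ideal.subset_span rfl))
theorem del5_mem_K5 : del5 A ∈ K5 A := Ideal.mem_sup_right (Ideal.subset_span rfl)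
theorem K4map_le_K5 : (K4 A).map (C : R4 A →+* R5 A) ≤ K5 A := le_sup_of_le_left le_sup_left
theorem Cq2_mem_K5 : C (q2 A) ∈ K5 A := K4map_le_K5 A (Ideal.mem_map_of_mem _ (q2_mem_K4 A))
theorem CCq3_mem_K5 : C (C (q3 A)) ∈ K5 A := K4map_le_K5 A (Ideal.mem_map_of_mem _ (Cq3_mem_K4 A))

theorem idJ_le_comap : idJ A ≤ (K5 A).comap (Th A).toRingHom := by
  rw [idJ, Ideal.span_le]
  intro x hx
  simp only [Set.mem_insert_iff, Set.mem_singleton_iff] at hx
  simp only [SetLike.mem_coe, Ideal.mem_comap, AlgHom.toRingHom_eq_coe, RingHom.coe_coe]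
  rcases hx with rfl | rfl | rfl | rfl
  · rw [Th_Q1]; exact neg_mem (q1_mem_K5 A)
  · rw [Th_Q2]; exact neg_mem (Cq2_mem_K5 A)
  · rw [Th_Q3]; exact neg_mem (CCq3_mem_K5 A)
  · rw [Th_detM]
    exact sub_mem (sub_mem (Ideal.mul_mem_left _ _ (q1_mem_K5 A))
      (Ideal.mul_mem_left _ _ (Cq2_mem_K5 A))) (del5_mem_K5 A)

theorem rho5_q1 : rho5 A (q1 A) = -Q1 A := by
  have : q1 A = Th A (-Q1 A) := by rw [map_neg, Th_Q1, neg_neg]
  rw [this, rho5_Th]

theorem rho5_q2 : rho5 A (C (q2 A)) = -Q2 A := by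
  have : C (q2 A) = Th A (-Q2 A) := by rw [map_neg, Th_Q2, neg_neg]
  rw [this, rho5_Th]

theorem rho5_q3 : rho5 A (C (C (q3 A))) = -Q3 A := by
  have : C (C (q3 A)) = Th A (-Q3 A) := by rw [map_neg, Th_Q3, neg_neg]
  rw [this, rho5_Th]

theorem rho5_del5 : rho5 A (del5 A) =
    -(MvPolynomial.X 1 * Q1 A) + MvPolynomial.X 8 * Q2 A - detM A := by
  have : del5 A = Th A (-(MvPolynomial.X 1 * Q1 A) + MvPolynomial.X 8 * Q2 A - detM A) := by
    rw [map_sub, map_add, map_neg, map_mul, map_mul, Th_detM, Th_Q1, Th_Q2, Th_X, Th_X]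
    simp only [thv, Matrix.cons_val_zero, Matrix.cons_val_one, Matrix.cons_val]
    ring
  rw [this, rho5_Th]

theorem K5_le_comap : K5 A ≤ (idJ A).comap (rho5 A) := by
  rw [K5]
  refine sup_le (sup_le ?_ ?_) ?_
  · rw [Ideal.map_le_iff_le_comap, K4]
    refine sup_le ?_ ?_
    · rw [Ideal.map_le_iff_le_comap, K3]
      refine sup_le ?_ ?_
      · rw [Ideal.map_bot]; exact bot_le
      · rw [Ideal.span_le, Set.singleton_subset_iff]
        simp only [SetLike.mem_coe, Ideal.mem_comap]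
        rw [rho5_q3]
        exact neg_mem (Q3_memJ A)
    · rw [Ideal.span_le, Set.singleton_subset_iff]
      simp only [SetLike.mem_coe, Ideal.mem_comap]
      rw [rho5_q2]
      exact neg_mem (Q2_memJ A)
  · rw [Ideal.span_le, Set.singleton_subset_iff]
    simp only [SetLike.mem_coe, Ideal.mem_comap]
    rw [rho5_q1]
    exact neg_mem (Q1_memJ A)
  · rw [Ideal.span_le, Set.singleton_subset_iff]
    simp only [SetLike.mem_coe, Ideal.mem_comap]
    rw [rho5_del5]
    exact sub_mem (add_mem (neg_mem (Ideal.mul_mem_left _ _ (Q1_memJ A)))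
      (Ideal.mul_mem_left _ _ (Q2_memJ A))) (L3.detM_mem A)

theorem mem_idJ_iff_Th (x : D A) : x ∈ idJ A ↔ Th A x ∈ K5 A := by
  constructor
  · intro hx
    exact idJ_le_comap A hx
  · intro hx
    have := K5_le_comap A hx
    rwa [Ideal.mem_comap, rho5_Th] at this

theorem idJ_eq_comap : idJ A = (K5 A).comap (Th A).toRingHom := by
  ext x
  rw [mem_idJ_iff_Th]
  rfl

/-- **(W)**: `b + f` is a nonzerodivisor modulo `J` (over any commutative ring). -/
theorem L2_nzd_mod_J {x : D A} (hx : L2 A * x ∈ idJ A) : x ∈ idJ A := by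
  rw [mem_idJ_iff_Th] at hx ⊢
  rw [map_mul, Th_L2] at hx
  exact W5 A _ hx

end IdealTransfer


section Colon

theorem colon_idL : (idI A).colon (idL A : Set (D A)) = idJ A := by
  ext x
  rw [Submodule.mem_colon]
  constructor
  · intro h
    have h1 := h (L2 A) (L3.L2_mem A)
    rw [smul_eq_mul, mul_comm] at h1
    exact L2_nzd_mod_J A (L3.idI_le_idJ A h1)
  · intro hx s hs
    rw [smul_eq_mul]
    obtain ⟨q, hq, r, rfl⟩ := (L3.mem_idJ_iff A).mp hx
    rw [add_mul]
    refine (idI A).add_mem ((idI A).mul_mem_right _ hq) ?_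
    have h3 := L3.detM_mul_mem A hs
    rw [mul_assoc]
    exact (idI A).mul_mem_left _ h3

end Colon

end Groth.Agent.Helper1.L3U
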