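import Mathlib
import Groth.Agent.Lib.Helper1.L3U

namespace Groth.Agent.Helper1.L3P

open Groth.Agent.Helper1.Blow Groth.Agent.Helper1.L3T Groth.Agent.Helper1.L3U Lie3Mod

universe u

set_option maxSynthPendingDepth 10

variable (A : Type u) [CommRing A]

section Clearing

open Polynomial

/-- inclusion of `R2` in `R5`. -/
noncomputable def iota : R2 A →+* R5 A := (C : R4 A →+* R5 A).comp ((C : R3 A →+* R4 A).comp C)

theorem iota_apply (r : R2 A) : iota A r = C (C (C r)) := rfl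

theorem iota_w2 : iota A (w2 A) = C (w4 A) := rfl

/-- the subring of elements whose denominators can be cleared by a power of `w`. -/
noncomputable def T : Subring (R5 A) where
  carrier := {y | ∃ (N : ℕ) (y₀ : R2 A), C (w4 A) ^ N * y - iota A y₀ ∈ K5 A}
  mul_mem' := by
    rintro y y' ⟨N, y₀, h⟩ ⟨N', y₀', h'⟩
    refine ⟨N + N', y₀ * y₀', ?_⟩
    have : C (w4 A) ^ (N + N') * (y * y') - iota A (y₀ * y₀') =
        (C (w4 A) ^ N * y - iota A y₀) * (C (w4 A) ^ N' * y') +
          iota A y₀ * (C (w4 A) ^ N' * y' - iota A y₀') := by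
      rw [map_mul, pow_add]; ring
    rw [this]
    exact add_mem (Ideal.mul_mem_right _ _ h) (Ideal.mul_mem_left _ _ h')
  one_mem' := ⟨0, 1, by simp⟩
  add_mem' := by
    rintro y y' ⟨N, y₀, h⟩ ⟨N', y₀', h'⟩
    refine ⟨N + N', w2 A ^ N' * y₀ + w2 A ^ N * y₀', ?_⟩
    have : C (w4 A) ^ (N + N') * (y + y') - iota A (w2 A ^ N' * y₀ + w2 A ^ N * y₀') =
        C (w4 A) ^ N' * (C (w4 A) ^ N * y - iota A y₀) +
          C (w4 A) ^ N * (C (w4 A) ^ N' * y' - iota A y₀') := by
      rw [map_add, map_mul, map_mul, map_pow, map_pow, iota_w2, pow_add]; ring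
    rw [this]
    exact add_mem (Ideal.mul_mem_left _ _ h) (Ideal.mul_mem_left _ _ h')
  zero_mem' := ⟨0, 0, by simp⟩
  neg_mem' := by
    rintro y ⟨N, y₀, h⟩
    refine ⟨N, -y₀, ?_⟩
    have : C (w4 A) ^ N * -y - iota A (-y₀) = -(C (w4 A) ^ N * y - iota A y₀) := by
      rw [map_neg]; ring
    rw [this]
    exact neg_mem h

theorem mem_T_iff (y : R5 A) :
    y ∈ T A ↔ ∃ (N : ℕ) (y₀ : R2 A), C (w4 A) ^ N * y - iota A y₀ ∈ K5 A := Iff.rfl

theorem iota_mem_T (r : R2 A) : iota A r ∈ T A := ⟨0, r, by simp⟩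

theorem K5_le_T {y : R5 A} (hy : y ∈ K5 A) : y ∈ T A := ⟨0, 0, by simpa using hy⟩

theorem T_sat {y : R5 A} (hy : C (w4 A) * y ∈ T A) : y ∈ T A := by
  obtain ⟨N, y₀, h⟩ := hy
  refine ⟨N + 1, y₀, ?_⟩
  have : C (w4 A) ^ (N + 1) * y - iota A y₀ = C (w4 A) ^ N * (C (w4 A) * y) - iota A y₀ := by
    rw [pow_succ]; ring
  rw [this]
  exact h

theorem a5_mem_T : a5 A ∈ T A := by
  apply T_sat
  have : C (w4 A) * a5 A = C (C (q3 A)) + iota A (C (beta1 A)) := by
    simp only [a5, a4, w4, q3, iota_apply, map_sub, map_mul]; ring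
  rw [this]
  exact (T A).add_mem (K5_le_T A (CCq3_mem_K5 A)) (iota_mem_T A _)

theorem h5_mem_T : h5 A ∈ T A := by
  apply T_sat
  have : C (w4 A) * h5 A = C (q2 A) + iota A (-beta2' A) := by
    simp only [h5, h4, w4, q2, iota_apply, map_sub, map_mul, map_neg]; ring
  rw [this]
  exact (T A).add_mem (K5_le_T A (Cq2_mem_K5 A)) (iota_mem_T A _)

theorem lvl3 (p : R3 A) : C (C p) ∈ T A := by
  induction p using Polynomial.induction_on with
  | C r => exact iota_mem_T A r
  | add p q hp hq => rw [map_add, map_add]; exact (T A).add_mem hp hq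
  | monomial n r h =>
    have : (C (C (C r * X ^ (n + 1))) : R5 A) = C (C (C r * X ^ n)) * a5 A := by
      simp only [a5, a4, map_mul, map_pow, pow_succ]; ring
    rw [this]
    exact (T A).mul_mem h (a5_mem_T A)

theorem lvl4 (p : R4 A) : C p ∈ T A := by
  induction p using Polynomial.induction_on with
  | C r => exact lvl3 A r
  | add p q hp hq => rw [map_add]; exact (T A).add_mem hp hq
  | monomial n r h =>
    have : (C (C r * X ^ (n + 1)) : R5 A) = C (C r * X ^ n) * h5 A := by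
      simp only [h5, h4, map_mul, map_pow, pow_succ]; ring
    rw [this]
    exact (T A).mul_mem h (h5_mem_T A)

theorem g5_mem_T : (X : R5 A) ∈ T A := by
  apply T_sat
  have : C (w4 A) * X = q1 A + C (beta3 A) := by
    simp only [q1]; ring
  rw [this]
  exact (T A).add_mem (K5_le_T A (q1_mem_K5 A)) (lvl4 A _)

theorem lvl5 (p : R5 A) : p ∈ T A := by
  induction p using Polynomial.induction_on with
  | C r => exact lvl4 A r
  | add p q hp hq => exact (T A).add_mem hp hq
  | monomial n r h =>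
    have : (C r * X ^ (n + 1) : R5 A) = C r * X ^ n * X := by
      rw [pow_succ]; ring
    rw [this]
    exact (T A).mul_mem h (g5_mem_T A)

end Clearing


section Prime

open Polynomial

variable [IsDomain A]

abbrev F : Type u := FractionRing (R2 A)

noncomputable def jj : R2 A →+* F A := algebraMap (R2 A) (F A)

theorem jj_inj : Function.Injective (jj A) := IsFractionRing.injective (R2 A) (F A)

theorem w2_ne : w2 A ≠ 0 := by
  intro h
  simp only [w2, sW] at h
  rw [C_eq_zero, C_eq_zero] at h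
  exact MvPolynomial.X_ne_zero _ h

theorem jw_ne : jj A (w2 A) ≠ 0 := by
  intro h
  rw [← map_zero (jj A)] at h
  exact w2_ne A (jj_inj A h)

noncomputable def ep3 : R3 A →+* F A := eval₂RingHom (jj A) (jj A (C (beta1 A)) / jj A (w2 A))
noncomputable def ep4 : R4 A →+* F A := eval₂RingHom (ep3 A) (jj A (-beta2' A) / jj A (w2 A))
noncomputable def ep5 : R5 A →+* F A := eval₂RingHom (ep4 A) (ep4 A (beta3 A) / jj A (w2 A))

theorem ep5_iota (r : R2 A) : ep5 A (iota A r) = jj A r := by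
  simp [ep5, ep4, ep3, iota_apply]

theorem ep5_w : ep5 A (C (w4 A)) = jj A (w2 A) := by
  rw [← iota_w2, ep5_iota]

theorem ep5_C (p : R4 A) : ep5 A (C p) = ep4 A p := by simp [ep5]
theorem ep4_C (p : R3 A) : ep4 A (C p) = ep3 A p := by simp [ep4]
theorem ep3_C (p : R2 A) : ep3 A (C p) = jj A p := by simp [ep3]

theorem ep3_q3 : ep3 A (q3 A) = 0 := by
  have := jw_ne A
  simp only [q3, map_sub, map_mul, ep3_C]
  simp only [ep3, coe_eval₂RingHom, eval₂_X]
  field_simp
  ring

theorem ep4_q2 : ep4 A (q2 A) = 0 := by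
  have := jw_ne A
  simp only [q2, map_sub, map_mul, ep4_C, ep3_C]
  simp only [ep4, coe_eval₂RingHom, eval₂_X]
  field_simp
  ring

theorem ep5_q1 : ep5 A (q1 A) = 0 := by
  have := jw_ne A
  simp only [q1, map_sub, map_mul, ep5_C]
  simp only [ep5, coe_eval₂RingHom, eval₂_X, w4, ep4_C, ep3_C]
  field_simp
  ring

theorem K4_le_ker : K4 A ≤ RingHom.ker (ep4 A) := by
  rw [K4]
  refine sup_le ?_ ?_
  · rw [Ideal.map_le_iff_le_comap, K3]
    refine sup_le ?_ ?_
    · rw [Ideal.map_bot]; exact bot_le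
    · rw [Ideal.span_le, Set.singleton_subset_iff]
      simp only [SetLike.mem_coe, Ideal.mem_comap, RingHom.mem_ker]
      rw [ep4_C, ep3_q3]
  · rw [Ideal.span_le, Set.singleton_subset_iff]
    simp only [SetLike.mem_coe, RingHom.mem_ker]
    exact ep4_q2 A

theorem ep5_del5 : ep5 A (del5 A) = 0 := by
  have hw := jw_ne A
  have h1 : ep4 A (beta3 A * R04 A - w4 A * P04 A) = 0 := by
    have : beta3 A * R04 A - w4 A * P04 A ∈ K4 A := by
      rw [h1_id]
      exact sub_mem (Ideal.mul_mem_left _ _ (Cq3_mem_K4 A)) (Ideal.mul_mem_left _ _ (q2_mem_K4 A))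
    exact K4_le_ker A this
  have hw4 : ep4 A (w4 A) = jj A (w2 A) := by simp only [w4, ep4_C, ep3_C]
  rw [map_sub, map_mul, map_mul, hw4] at h1
  simp only [del5, map_sub, map_mul, ep5_C]
  simp only [ep5, coe_eval₂RingHom, eval₂_X]
  field_simp
  linear_combination h1

theorem K5_le_ker : K5 A ≤ RingHom.ker (ep5 A) := by
  rw [K5]
  refine sup_le (sup_le ?_ ?_) ?_
  · rw [Ideal.map_le_iff_le_comap]
    intro x hx
    simp only [Ideal.mem_comap, RingHom.mem_ker]
    rw [ep5_C]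
    exact K4_le_ker A hx
  · rw [Ideal.span_le, Set.singleton_subset_iff]
    simp only [SetLike.mem_coe, RingHom.mem_ker]
    exact ep5_q1 A
  · rw [Ideal.span_le, Set.singleton_subset_iff]
    simp only [SetLike.mem_coe, RingHom.mem_ker]
    exact ep5_del5 A

theorem W5_pow (N : ℕ) {y : R5 A} (hy : C (w4 A) ^ N * y ∈ K5 A) : y ∈ K5 A := by
  induction N with
  | zero => simpa using hy
  | succ n ih =>
    apply ih
    apply W5 A
    rw [← mul_assoc, ← pow_succ']
    exact hy

theorem ker_le_K5 : RingHom.ker (ep5 A) ≤ K5 A := by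
  intro y hy
  rw [RingHom.mem_ker] at hy
  obtain ⟨N, y₀, h⟩ := lvl5 A y
  have h1 := K5_le_ker A h
  rw [RingHom.mem_ker, map_sub, map_mul, hy, mul_zero, zero_sub, neg_eq_zero, ep5_iota] at h1
  have h2 : y₀ = 0 := by
    apply jj_inj A
    rw [h1, map_zero]
  rw [h2, map_zero, sub_zero] at h
  exact W5_pow A N h

theorem K5_eq_ker : K5 A = RingHom.ker (ep5 A) := le_antisymm (K5_le_ker A) (ker_le_K5 A)

theorem K5_isPrime : (K5 A).IsPrime := by
  rw [K5_eq_ker]
  exact RingHom.ker_isPrime _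

theorem idJ_isPrime : (idJ A).IsPrime := by
  rw [idJ_eq_comap]
  haveI := K5_isPrime A
  exact Ideal.comap_isPrime _ _

end Prime


section Results

variable [IsDomain A]

theorem L2_notMem_idJ : L2 A ∉ idJ A := by
  intro h
  have h1 : L2 A * 1 ∈ idJ A := by rwa [mul_one]
  have h2 := L2_nzd_mod_J A h1
  exact (idJ_isPrime A).ne_top ((Ideal.eq_top_iff_one _).mpr h2)

theorem idJ_minimal : idJ A ∈ (idI A).minimalPrimes := by
  refine ⟨⟨idJ_isPrime A, L3.idI_le_idJ A⟩, ?_⟩
  rintro P ⟨hP, hIP⟩ hPJ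
  unfold idJ
  rw [Ideal.span_le]
  have hd : L2 A ∉ P := fun h => L2_notMem_idJ A (hPJ h)
  intro y hy
  simp only [Set.mem_insert_iff, Set.mem_singleton_iff] at hy
  have key : y * L2 A ∈ P := by
    apply hIP
    rcases hy with rfl | rfl | rfl | rfl
    · exact Ideal.mul_mem_right _ _ (L3.Q1_mem A)
    · exact Ideal.mul_mem_right _ _ (L3.Q2_mem A)
    · exact Ideal.mul_mem_right _ _ (L3.Q3_mem A)
    · exact L3.detM_mul_mem A (L3.L2_mem A)
  exact (hP.mem_or_mem key).resolve_right hd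

theorem idI_isRadical : (idI A).IsRadical := by
  rw [L3.idI_eq_inf]
  exact Ideal.IsRadical.inf (idJ_isPrime A).isRadical (L3.idL_isPrime A).isRadical

end Results


section Flat

theorem idJ_le_ker_cc : idJ A ≤ RingHom.ker (MvPolynomial.constantCoeff : D A →+* A) := by
  rw [idJ, Ideal.span_le]
  intro x hx
  simp only [Set.mem_insert_iff, Set.mem_singleton_iff] at hx
  simp only [SetLike.mem_coe, RingHom.mem_ker]
  rcases hx with rfl | rfl | rfl | rfl
  · simp [Q1]
  · simp [Q2]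
  · simp [Q3]
  · simp [detM]

theorem idL_le_ker_cc : idL A ≤ RingHom.ker (MvPolynomial.constantCoeff : D A →+* A) := by
  rw [idL, Ideal.span_le]
  intro x hx
  simp only [Set.mem_insert_iff, Set.mem_singleton_iff] at hx
  simp only [SetLike.mem_coe, RingHom.mem_ker]
  rcases hx with rfl | rfl | rfl
  · simp [L1]
  · simp [L2]
  · simp [L3]

theorem intCast_notMem_idJ {n : ℤ} (hn : n ≠ 0) : (n : D ℤ) ∉ idJ ℤ := by
  intro h
  have := idJ_le_ker_cc ℤ h
  rw [RingHom.mem_ker, map_intCast, Int.cast_id] at this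
  exact hn this

theorem intCast_notMem_idL {n : ℤ} (hn : n ≠ 0) : (n : D ℤ) ∉ idL ℤ := by
  intro h
  have := idL_le_ker_cc ℤ h
  rw [RingHom.mem_ker, map_intCast, Int.cast_id] at this
  exact hn this

theorem torsionFree_of (K : Ideal (D ℤ))
    (hK : ∀ (n : ℤ) (x : D ℤ), n ≠ 0 → (n : D ℤ) * x ∈ K → x ∈ K) :
    Module.IsTorsionFree ℤ (D ℤ ⧸ K) := by
  apply Module.IsTorsionFree.of_smul_eq_zero
  intro n m h
  obtain ⟨x, rfl⟩ := Ideal.Quotient.mk_surjective m
  by_cases hn : n = 0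
  · exact Or.inl hn
  · right
    rw [← map_zsmul, Ideal.Quotient.eq_zero_iff_mem, zsmul_eq_mul] at h
    rw [Ideal.Quotient.eq_zero_iff_mem]
    exact hK n x hn h

theorem flat_J : Module.Flat ℤ (D ℤ ⧸ idJ ℤ) := by
  haveI : Module.IsTorsionFree ℤ (D ℤ ⧸ idJ ℤ) := by
    apply torsionFree_of
    intro n x hn h
    exact ((idJ_isPrime ℤ).mem_or_mem h).resolve_left (intCast_notMem_idJ hn)
  infer_instance

theorem flat_I : Module.Flat ℤ (D ℤ ⧸ idI ℤ) := by
  haveI : Module.IsTorsionFree ℤ (D ℤ ⧸ idI ℤ) := by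
    apply torsionFree_of
    intro n x hn h
    rw [L3.idI_eq_inf] at h ⊢
    exact ⟨((idJ_isPrime ℤ).mem_or_mem h.1).resolve_left (intCast_notMem_idJ hn),
      ((L3.idL_isPrime ℤ).mem_or_mem h.2).resolve_left (intCast_notMem_idL hn)⟩
  infer_instance

end Flat

end Groth.Agent.Helper1.L3P
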