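import Mathlib
import Groth.Agent.Lib.Helper1.MumC
import Groth.Agent.Lib.Helper4.HilbP4
import Groth.Agent.Lib.Lead.MuRef1
import Groth.Agent.Lib.Helper1.PullAmple
import Groth.Agent.Lib.Helper1.VA5
import Groth.Agent.Lib.Helper1.FGAInt1

/-!
# ℓ-stable sheaves are simple (helper1)
-/

set_option backward.isDefEq.respectTransparency.types false
set_option synthInstance.maxHeartbeats 400000
set_option autoImplicit false
set_option linter.unusedSectionVars false
set_option linter.style.haveILetI false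
set_option linter.unusedVariables false
universe u
open CategoryTheory CategoryTheory.Limits AlgebraicGeometry TopologicalSpace Opposite Polynomial

namespace Groth.Agent.Helper1.LSt

open Groth.Agent.Lib.Helper4 Groth.Agent.Helper1 Groth.Agent.Lead

/-- the see-saw for lexicographic order: a strict convex combination of two vectors cannot be
strictly bigger than both -/
theorem lex_seesaw {ℓ : ℕ} (a b c : Fin ℓ → ℚ) (t : ℚ) (ht0 : 0 < t) (ht1 : t < 1)
    (hc : ∀ j, c j = t * a j + (1 - t) * b j)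
    (ha : toLex a < toLex c) (hb : toLex b < toLex c) : False := by
  obtain ⟨i, hi1, hi2⟩ := ha
  obtain ⟨j, hj1, hj2⟩ := hb
  have hi1' : ∀ j', j' < i → a j' = c j' := hi1
  have hi2' : a i < c i := hi2
  have hj1' : ∀ j', j' < j → b j' = c j' := hj1
  have hj2' : b j < c j := hj2
  have ht1' : 0 < 1 - t := sub_pos.mpr ht1
  rcases lt_trichotomy i j with h | h | h
  · have hb' := hj1' i h
    have hci := hc i
    rw [hb'] at hci
    have := mul_pos ht0 (sub_pos.mpr hi2')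
    linarith
  · subst h
    have h1 := mul_lt_mul_of_pos_left hi2' ht0
    have h2 := mul_lt_mul_of_pos_left hj2' ht1'
    have hci := hc i
    linarith
  · have ha' := hi1' j h
    have hcj := hc j
    rw [ha'] at hcj
    have := mul_pos ht1' (sub_pos.mpr hj2')
    linarith

variable (k : Type u) [Field k] {X : Scheme.{u}} [X.Over (Spec (CommRingCat.of k))]
  (n : ℕ) (ι : X ⟶ CohB1.ProjSpace n k) [IsClosedImmersion ι]

/-- the Hilbert polynomial, for all integer twists -/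
theorem exists_hilb_int [IsProper (X ↘ Spec (CommRingCat.of k))]
    (hι : ι ≫ CohB1.ProjSpace.toSpec n k = X ↘ Spec (CommRingCat.of k))
    (F : X.Modules) (hF : Coh.IsCoh F) :
    ∃ Q : ℚ[X], ∀ m : ℤ,
      (Curv2.euler k X (Pic13.twistOn k ι F m) : ℚ) = Q.eval (m : ℚ) := by
  haveI : IsNoetherian X := Euler.isNoetherian_of_proper k X
  have hdim : topologicalKrullDim X ≤ (n : WithBot ℕ∞) :=
    (ι.isClosedEmbedding.isInducing.topologicalKrullDim_le).trans
      (Groth.Agent.Helper2.CMDuality.dim_projSpace_le k n)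
  obtain ⟨Q, hQ⟩ := Groth.Agent.Lib.Helper4.HilbP4.s2426 k n X ι hι F hF
  refine ⟨Q, fun m => ?_⟩
  rw [← hQ m, ← FGAInt.eulerCharLE_eq_euler k X n hdim]
  unfold FGA.eulerCharLE
  push_cast
  refine Finset.sum_congr rfl fun j _ => ?_
  congr 1
  have h3 := Module.length_eq_rank k (Coh.HH X (Pic13.twistOn k ι F m) j)
  have h4 : (Module.length k (Coh.HH X (Pic13.twistOn k ι F m) j)).toNat =
      Module.finrank k (Coh.HH X (Pic13.twistOn k ι F m) j) := by
    rw [h3, Cardinal.toNat_toENat]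
    rfl
  exact congrArg (fun z : ℕ => (z : ℚ)) h4.symm

/-- from integer twists to the polarised Hilbert polynomial -/
theorem isHilbPoly_of_int (F : X.Modules) (Q : ℚ[X])
    (hQ : ∀ m : ℤ, (Curv2.euler k X (Pic13.twistOn k ι F m) : ℚ) = Q.eval (m : ℚ)) :
    ShStab.IsHilbPoly k X ((Scheme.Modules.pullback ι).obj (Twist.twistProjSpace n k 1)) F Q := by
  intro m
  obtain ⟨e⟩ := MumC.nonempty_twist_iso k n ι ⟨Iso.refl _⟩ F m
  rw [Euler.euler_iso k X e]
  have h := hQ (m : ℤ)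
  rw [Int.cast_natCast] at h
  exact h

/-- a nonzero endomorphism of an ℓ-stable pure sheaf is an isomorphism -/
theorem isIso_of_ne_zero [IsProper (X ↘ Spec (CommRingCat.of k))]
    (hι : ι ≫ CohB1.ProjSpace.toSpec n k = X ↘ Spec (CommRingCat.of k))
    (d ℓ : ℕ) (E : X.Modules) (hE : Coh.IsCoh E) (P : ℚ[X])
    (hP : ∀ m : ℤ, (Curv2.euler k X (Pic13.twistOn k ι E m) : ℚ) = P.eval (m : ℚ))
    (hpure : ∀ (F : X.Modules) (j : F ⟶ E), Mono j → Coh.IsCoh F → ¬ IsZero F →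
      topologicalKrullDim (CohB1.support F) = (d : WithBot ℕ∞))
    (hst : ∀ (F : X.Modules) (j : F ⟶ E), Mono j → Coh.IsCoh F → ∀ Q : ℚ[X],
      (∀ m : ℤ, (Curv2.euler k X (Pic13.twistOn k ι F m) : ℚ) = Q.eval (m : ℚ)) →
        0 < Q.coeff d → Q.coeff d < P.coeff d →
          toLex (fun j : Fin ℓ => ((Q).coeff (d - 1 - (j : ℕ)) * (Nat.factorial (d - 1 - (j : ℕ)) : ℚ)) / ((Q).coeff d * (Nat.factorial d : ℚ))) < toLex (fun j : Fin ℓ => ((P).coeff (d - 1 - (j : ℕ)) * (Nat.factorial (d - 1 - (j : ℕ)) : ℚ)) / ((P).coeff d * (Nat.factorial d : ℚ))))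
    (ψ : E ⟶ E) (hψ : ψ ≠ 0) : IsIso ψ := by
  haveI : CompactSpace X :=
    QuasiCompact.compactSpace_of_compactSpace (X ↘ Spec (CommRingCat.of k))
  obtain ⟨L, hL⟩ : ∃ L : X.Modules,
      L = (Scheme.Modules.pullback ι).obj (Twist.twistProjSpace n k 1) := ⟨_, rfl⟩
  have hLa : CohB1.IsAmple L := by
    rw [hL]
    exact PullAmple.isAmple_pullback_of_isEmbedding ι ι.isClosedEmbedding.isEmbedding
      (VA5.isAmple_twistProjSpace n k)
  have hKc := HP.isCoh_kernel k X hE hE ψ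
  have hIc := HP.isCoh_image k X hE hE ψ
  have hpE : ShStab.IsHilbPoly k X L E P := by
    rw [hL]; exact isHilbPoly_of_int k n ι E P hP
  by_cases hK0 : IsZero (kernel ψ)
  · haveI : Mono ψ := HP.mono_of_isZero_kernel X ψ hK0
    exact HP.isIso_of_mono_of_isHilbPoly k X L hLa hE hE ψ hpE hpE
  · exfalso
    obtain ⟨QK, hQK⟩ := exists_hilb_int k n ι hι (kernel ψ) hKc
    obtain ⟨QI, hQI⟩ := exists_hilb_int k n ι hι (Abelian.image ψ) hIc
    have hpK : ShStab.IsHilbPoly k X L (kernel ψ) QK := by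
      rw [hL]; exact isHilbPoly_of_int k n ι _ QK hQK
    have hpI : ShStab.IsHilbPoly k X L (Abelian.image ψ) QI := by
      rw [hL]; exact isHilbPoly_of_int k n ι _ QI hQI
    have hpI' := HP.isHilbPoly_image k X L hLa.1 hE hE ψ hpE hpK
    have hsum : QI = P - QK := HP.isHilbPoly_unique k X L hpI hpI'
    have hPsum : P = QK + QI := by rw [hsum]; ring
    have hcoef : ∀ i : ℕ, P.coeff i = QK.coeff i + QI.coeff i := fun i => by
      rw [hPsum, Polynomial.coeff_add]
    have hdK := hpure (kernel ψ) (kernel.ι ψ) inferInstance hKc hK0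
    have hdI := hpure (Abelian.image ψ) (Abelian.image.ι ψ) inferInstance hIc
      (HP.not_isZero_image X ψ hψ)
    have haK := HP.alpha_pos_of_dim k X L hLa _ hKc d hdK hpK
    have haI := HP.alpha_pos_of_dim k X L hLa _ hIc d hdI hpI
    unfold StabCat.alpha at haK haI
    have hfac : (0 : ℚ) < (d.factorial : ℚ) := Nat.cast_pos.mpr (Nat.factorial_pos d)
    have hcK : 0 < QK.coeff d := (mul_pos_iff_of_pos_left hfac).1 haK
    have hcI : 0 < QI.coeff d := (mul_pos_iff_of_pos_left hfac).1 haI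
    have hstK := hst (kernel ψ) (kernel.ι ψ) inferInstance hKc QK hQK hcK
      (by rw [hcoef d]; linarith)
    have hstI := hst (Abelian.image ψ) (Abelian.image.ι ψ) inferInstance hIc QI hQI hcI
      (by rw [hcoef d]; linarith)
    have hck' : QK.coeff d ≠ 0 := ne_of_gt hcK
    have hci' : QI.coeff d ≠ 0 := ne_of_gt hcI
    have hsum' : QK.coeff d + QI.coeff d ≠ 0 := ne_of_gt (add_pos hcK hcI)
    have hfac' : (d.factorial : ℚ) ≠ 0 := ne_of_gt hfac
    refine lex_seesaw _ _ _ (QK.coeff d / (QK.coeff d + QI.coeff d))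
      (div_pos hcK (add_pos hcK hcI)) ?_ ?_ hstK hstI
    · rw [div_lt_one (add_pos hcK hcI)]
      linarith
    · intro j
      change P.coeff (d - 1 - (j : ℕ)) * (Nat.factorial (d - 1 - (j : ℕ)) : ℚ) /
          (P.coeff d * (Nat.factorial d : ℚ)) = _
      rw [hcoef (d - 1 - (j : ℕ)), hcoef d]
      field_simp
      ring

/-- ℓ-stable sheaves are simple (morphism form) -/
theorem end_eq_smul [IsAlgClosed k] [IsProper (X ↘ Spec (CommRingCat.of k))]
    (hι : ι ≫ CohB1.ProjSpace.toSpec n k = X ↘ Spec (CommRingCat.of k))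
    (d ℓ : ℕ) (E : X.Modules) (hE : Coh.IsCoh E) (P : ℚ[X]) (hP0 : P ≠ 0)
    (hP : ∀ m : ℤ, (Curv2.euler k X (Pic13.twistOn k ι E m) : ℚ) = P.eval (m : ℚ))
    (hpure : ∀ (F : X.Modules) (j : F ⟶ E), Mono j → Coh.IsCoh F → ¬ IsZero F →
      topologicalKrullDim (CohB1.support F) = (d : WithBot ℕ∞))
    (hst : ∀ (F : X.Modules) (j : F ⟶ E), Mono j → Coh.IsCoh F → ∀ Q : ℚ[X],
      (∀ m : ℤ, (Curv2.euler k X (Pic13.twistOn k ι F m) : ℚ) = Q.eval (m : ℚ)) →
        0 < Q.coeff d → Q.coeff d < P.coeff d →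
          toLex (fun j : Fin ℓ => ((Q).coeff (d - 1 - (j : ℕ)) * (Nat.factorial (d - 1 - (j : ℕ)) : ℚ)) / ((Q).coeff d * (Nat.factorial d : ℚ))) < toLex (fun j : Fin ℓ => ((P).coeff (d - 1 - (j : ℕ)) * (Nat.factorial (d - 1 - (j : ℕ)) : ℚ)) / ((P).coeff d * (Nat.factorial d : ℚ))))
    (φ : E ⟶ E) : ∃ c : k, φ = c • 𝟙 E := by
  have hpE : ShStab.IsHilbPoly k X
      ((Scheme.Modules.pullback ι).obj (Twist.twistProjSpace n k 1)) E P :=
    isHilbPoly_of_int k n ι E P hP
  have hE0 : ¬ IsZero E := fun h => hP0 (HP.isHilbPoly_zero_unique k X _ h hpE)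
  haveI : Module.Finite k (End E) := Groth.Agent.Lead.VBL.finite_hom k X E E hE hE
  haveI : Nontrivial (End E) := by
    refine ⟨⟨(1 : End E), 0, ?_⟩⟩
    intro h
    exact hE0 ((IsZero.iff_id_eq_zero E).2 h)
  obtain ⟨c, hc⟩ := spectrum.nonempty_of_isAlgClosed_of_finiteDimensional k (show End E from φ)
  refine ⟨c, ?_⟩
  by_contra hne
  have hψ : c • 𝟙 E - φ ≠ 0 := fun h => hne (sub_eq_zero.mp h).symm
  have hiso := isIso_of_ne_zero k n ι hι d ℓ E hE P hP hpure hst (c • 𝟙 E - φ) hψ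
  rw [spectrum.mem_iff] at hc
  apply hc
  have : (algebraMap k (End E) c - (show End E from φ)) = (show End E from c • 𝟙 E - φ) := by
    rw [Algebra.algebraMap_eq_smul_one]
    rfl
  rw [this]
  exact (isUnit_iff_isIso _).2 hiso

/-- ℓ-stable sheaves are simple (sectionwise form) -/
theorem end_scalar [IsAlgClosed k] [IsProper (X ↘ Spec (CommRingCat.of k))]
    (hι : ι ≫ CohB1.ProjSpace.toSpec n k = X ↘ Spec (CommRingCat.of k))
    (d ℓ : ℕ) (E : X.Modules) (hE : Coh.IsCoh E) (P : ℚ[X]) (hP0 : P ≠ 0)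
    (hP : ∀ m : ℤ, (Curv2.euler k X (Pic13.twistOn k ι E m) : ℚ) = P.eval (m : ℚ))
    (hpure : ∀ (F : X.Modules) (j : F ⟶ E), Mono j → Coh.IsCoh F → ¬ IsZero F →
      topologicalKrullDim (CohB1.support F) = (d : WithBot ℕ∞))
    (hst : ∀ (F : X.Modules) (j : F ⟶ E), Mono j → Coh.IsCoh F → ∀ Q : ℚ[X],
      (∀ m : ℤ, (Curv2.euler k X (Pic13.twistOn k ι F m) : ℚ) = Q.eval (m : ℚ)) →
        0 < Q.coeff d → Q.coeff d < P.coeff d →
          toLex (fun j : Fin ℓ => ((Q).coeff (d - 1 - (j : ℕ)) * (Nat.factorial (d - 1 - (j : ℕ)) : ℚ)) / ((Q).coeff d * (Nat.factorial d : ℚ))) < toLex (fun j : Fin ℓ => ((P).coeff (d - 1 - (j : ℕ)) * (Nat.factorial (d - 1 - (j : ℕ)) : ℚ)) / ((P).coeff d * (Nat.factorial d : ℚ))))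
    (φ : E ⟶ E) :
    ∃ c : k, ∀ (V : X.Opens) (s : E.val.obj (Opposite.op V)),
      (φ.val.app (Opposite.op V)) s =
        (X.ringCatSheaf.obj.map (homOfLE (le_top : V ≤ ⊤)).op
          (Coh.toGlobal (X ↘ Spec (CommRingCat.of k)) c :
            X.ringCatSheaf.obj.obj (Opposite.op ⊤))) • s := by
  obtain ⟨c, hc⟩ := end_eq_smul k n ι hι d ℓ E hE P hP0 hP hpure hst φ
  refine ⟨c, fun V s => ?_⟩
  rw [hc]
  exact KLin.smul_app_apply c (𝟙 E) V s

end Groth.Agent.Helper1.LSt
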