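import Mathlib

/-!
# Two elementary ring-theoretic lemmas (nilradical power, powers of ideals under ring maps)
-/

set_option autoImplicit false
universe u
namespace Groth.Agent.Helper1.LV

theorem S18387 (F A : Type u) [Field F] [CommRing A] [Algebra F A]
    [FiniteDimensional F A] : nilradical A ^ Module.finrank F A = ⊥ := by
  have hart : IsArtinianRing A := IsArtinianRing.of_finite F A
  have hnoeth : IsNoetherianRing A := inferInstance
  set N := nilradical A with hN
  have hjac : N ≤ Ideal.jacobson (⊥ : Ideal A) := by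
    rw [hN, nilradical]
    exact Ideal.radical_le_jacobson
  have key : ∀ k : ℕ, N ^ k = ⊥ ∨
      Module.finrank F ((N ^ k).restrictScalars F) + k ≤ Module.finrank F A := by
    intro k
    induction k with
    | zero =>
      right
      rw [pow_zero, Ideal.one_eq_top, Submodule.restrictScalars_top, finrank_top, add_zero]
    | succ k ih =>
      rcases ih with h | h
      · left
        rw [pow_succ, h, Ideal.bot_mul]
      · by_cases hk : N ^ (k + 1) = N ^ k
        · left
          have h1 : N ^ k ≤ N • N ^ k := by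
            rw [smul_eq_mul, ← pow_succ']
            exact hk.ge
          have h2 := Submodule.eq_bot_of_le_smul_of_le_jacobson_bot N (N ^ k)
            (IsNoetherian.noetherian _) h1 hjac
          rw [pow_succ, h2, Ideal.bot_mul]
        · right
          have hle : N ^ (k + 1) ≤ N ^ k := Ideal.pow_le_pow_right (Nat.le_succ k)
          have hlt : (N ^ (k + 1)).restrictScalars F < (N ^ k).restrictScalars F := by
            refine lt_of_le_of_ne (fun x hx => hle hx) ?_
            intro heq
            apply hk
            exact Submodule.restrictScalars_injective F A A heq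
          have := Submodule.finrank_lt_finrank_of_lt hlt
          omega
  rcases key (Module.finrank F A) with h | h
  · exact h
  · have h0 : Module.finrank F ((N ^ Module.finrank F A).restrictScalars F) = 0 := by omega
    rw [Submodule.finrank_eq_zero] at h0
    apply Submodule.restrictScalars_injective F A A
    rw [h0, Submodule.restrictScalars_bot]

section P

variable {A : Type u} [CommRing A]

theorem pow_add_le (J₁ J₂ : Ideal A) (a b : ℕ) :
    (J₁ ⊔ J₂) ^ (a + b) ≤ J₁ ^ a * (J₁ ⊔ J₂) ^ b ⊔ J₂ ^ b * (J₁ ⊔ J₂) ^ a := by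
  obtain ⟨n, hn⟩ : ∃ n, n = a + b := ⟨_, rfl⟩
  induction n generalizing a b with
  | zero =>
    have ha : a = 0 := by omega
    have hb : b = 0 := by omega
    subst ha hb
    simp
  | succ n ih =>
    rcases Nat.eq_zero_or_pos a with ha | ha
    · subst ha
      simp only [zero_add, pow_zero, one_mul, mul_one]
      exact le_sup_left
    rcases Nat.eq_zero_or_pos b with hb | hb
    · subst hb
      simp only [add_zero, pow_zero, one_mul, mul_one]
      exact le_sup_right
    obtain ⟨a, rfl⟩ : ∃ a', a = a' + 1 := ⟨a - 1, by omega⟩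
    obtain ⟨b, rfl⟩ : ∃ b', b = b' + 1 := ⟨b - 1, by omega⟩
    set J := J₁ ⊔ J₂ with hJ
    have h1 := ih a (b + 1) (by omega)
    have h2 := ih (a + 1) b (by omega)
    have e : a + 1 + (b + 1) = (a + (b + 1)) + 1 := by omega
    rw [e, pow_succ']
    nth_rewrite 1 [hJ]
    rw [Ideal.sup_mul]
    apply sup_le
    · -- J₁ * J^(a + (b+1))
      refine (Ideal.mul_mono_right h1).trans ?_
      rw [Ideal.mul_sup]
      apply sup_le
      · rw [← mul_assoc, ← pow_succ']
        exact le_sup_left
      · refine le_trans ?_ le_sup_right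
        rw [← mul_assoc, mul_comm J₁, mul_assoc, pow_succ' J a]
        exact Ideal.mul_mono_right (Ideal.mul_mono_left le_sup_left)
    · have e2 : a + (b + 1) = (a + 1) + b := by omega
      rw [e2]
      refine (Ideal.mul_mono_right h2).trans ?_
      rw [Ideal.mul_sup]
      apply sup_le
      · refine le_trans ?_ le_sup_left
        rw [← mul_assoc, mul_comm J₂, mul_assoc, pow_succ' J b]
        exact Ideal.mul_mono_right (Ideal.mul_mono_left le_sup_right)
      · rw [← mul_assoc, ← pow_succ']
        exact le_sup_right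

end P

theorem S18390 (A' A : Type u) [CommRing A'] [CommRing A]
    (φ : A' →+* A) (I' : Ideal A') (hI' : I'.FG) (I : Ideal A) (hle : I'.map φ ≤ I) :
    (∃ k : ℕ, (I' ^ k).map φ ≤ I ^ (k + 1)) ↔
      ∀ n : ℕ, 1 ≤ n → ∀ a ∈ I' ^ n, ∃ k : ℕ, 1 ≤ k ∧ φ a ^ k ∈ I ^ (n * k + 1) := by
  constructor
  · rintro ⟨k₀, hk₀⟩ n hn a ha
    rcases Nat.eq_zero_or_pos k₀ with h0 | h0
    · subst h0
      rw [pow_zero, Ideal.one_eq_top, Ideal.map_top, zero_add, pow_one, top_le_iff] at hk₀
      refine ⟨1, le_rfl, ?_⟩
      rw [hk₀, Ideal.top_pow]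
      trivial
    · refine ⟨k₀, h0, ?_⟩
      have h1 : a ^ k₀ ∈ (I' ^ k₀) ^ n := by
        rw [← pow_mul, mul_comm, pow_mul]
        exact Ideal.pow_mem_pow ha k₀
      have h2 : φ (a ^ k₀) ∈ ((I' ^ k₀) ^ n).map φ := Ideal.mem_map_of_mem φ h1
      rw [Ideal.map_pow] at h2
      have h3 : ((I' ^ k₀).map φ) ^ n ≤ I ^ (n * k₀ + 1) := by
        refine (Ideal.pow_right_mono hk₀ n).trans ?_
        rw [← pow_mul]
        apply Ideal.pow_le_pow_right
        nlinarith
      rw [map_pow] at h2
      exact h3 h2
  · intro h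
    -- property P(J): J.map φ ≤ I → (∀ a ∈ J, ∃ k ≥ 1, φ a ^ k ∈ I^(k+1)) → ∃ K, (J^K).map φ ≤ I^(K+1)
    obtain ⟨s, rfl⟩ := hI'
    have hgen : ∀ a ∈ s, ∃ k : ℕ, 1 ≤ k ∧ φ a ^ k ∈ I ^ (k + 1) := by
      intro a ha
      have := h 1 le_rfl a (by rw [pow_one]; exact Ideal.subset_span ha)
      simpa using this
    clear h
    classical
    induction s using Finset.induction_on with
    | empty =>
      refine ⟨1, ?_⟩
      simp
    | insert a s has ih =>
      have hs_le : (Ideal.span (s : Set A')).map φ ≤ I := by
        refine le_trans (Ideal.map_mono (Ideal.span_mono ?_)) hle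
        simp
      obtain ⟨K₁, hK₁⟩ := ih hs_le (fun b hb => hgen b (Finset.mem_insert_of_mem hb))
      obtain ⟨k, hk1, hk⟩ := hgen a (Finset.mem_insert_self a s)
      refine ⟨k + K₁, ?_⟩
      have hJ : Ideal.span ((insert a s : Finset A') : Set A') =
          Ideal.span {a} ⊔ Ideal.span (s : Set A') := by
        rw [Finset.coe_insert, Ideal.span_insert]
      rw [hJ] at hle ⊢
      set J₁ := Ideal.span ({a} : Set A')
      set J₂ := Ideal.span (s : Set A')
      have hJm : ∀ m : ℕ, ((J₁ ⊔ J₂) ^ m).map φ ≤ I ^ m := by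
        intro m
        rw [Ideal.map_pow]
        exact Ideal.pow_right_mono hle m
      have hJ₁ : (J₁ ^ k).map φ ≤ I ^ (k + 1) := by
        rw [Ideal.span_singleton_pow, Ideal.map_span, Set.image_singleton, Ideal.span_le,
          Set.singleton_subset_iff, map_pow]
        exact hk
      refine (Ideal.map_mono (pow_add_le J₁ J₂ k K₁)).trans ?_
      rw [Ideal.map_sup, Ideal.map_mul, Ideal.map_mul]
      apply sup_le
      · refine (Ideal.mul_mono hJ₁ (hJm K₁)).trans ?_
        rw [← pow_add]
        exact le_of_eq (by congr 1; omega)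
      · refine (Ideal.mul_mono hK₁ (hJm k)).trans ?_
        rw [← pow_add]
        exact le_of_eq (by congr 1; omega)

end Groth.Agent.Helper1.LV
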