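import Mathlib
import Groth.Prelude.Def_LieS

set_option autoImplicit false

open CategoryTheory MonObj AlgebraicGeometry
open LieS

namespace Groth.Agent.Helper1.LieSLib

universe u

theorem lie_exact (S : Scheme.{u}) (G' G G'' : Over S) [GrpObj G'] [GrpObj G] [GrpObj G'']
    (i : G' ⟶ G) [IsMonHom i] (q : G ⟶ G'') [IsMonHom q]
    (hex : ∀ T : Over S, Function.Injective (fun a : T ⟶ G' => a ≫ i) ∧
      Function.Surjective (fun b : T ⟶ G => b ≫ q) ∧ ∀ b : T ⟶ G, b ≫ q = 1 ↔ ∃ a : T ⟶ G', a ≫ i = b)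
    (B : Type u) [CommRing B] (f : Spec (CommRingCat.of B) ⟶ S) :
    Function.Injective (LieS.map B f i) ∧ Function.Surjective (LieS.map B f q) ∧
      ∀ v : LieS.Lie G B f, LieS.map B f q v = 1 ↔ ∃ w : LieS.Lie G' B f, LieS.map B f i w = v := by
  have hmapi : ∀ w : LieS.Lie G' B f, (LieS.map B f i w).1 = w.1 ≫ i := fun w => rfl
  have hmapq : ∀ v : LieS.Lie G B f, (LieS.map B f q v).1 = v.1 ≫ q := fun v => rfl
  refine ⟨?_, ?_, ?_⟩
  · intro w₁ w₂ h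
    apply Subtype.ext
    apply (hex (LieS.dpt B f)).1
    show w₁.1 ≫ i = w₂.1 ≫ i
    rw [← hmapi, ← hmapi, h]
  · intro w
    obtain ⟨b, hb⟩ := (hex (LieS.dpt B f)).2.1 w.1
    have hb2 : b ≫ q = w.1 := hb
    have hw : LieS.zeroSec B f ≫ w.1 = 1 := w.2
    obtain ⟨c, hc⟩ : ∃ c : LieS.pt B f ⟶ G, c = LieS.zeroSec B f ≫ b := ⟨_, rfl⟩
    have hcq : c ≫ q = 1 := by rw [hc, Category.assoc, hb2, hw]
    have hb' : LieS.zeroSec B f ≫ (b * (LieS.proj B f ≫ c)⁻¹) = 1 := by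
      rw [MonObj.comp_mul, GrpObj.comp_inv, ← Category.assoc, LieS.zeroSec_proj, Category.id_comp,
        ← hc, _root_.mul_inv_cancel]
    refine ⟨⟨b * (LieS.proj B f ≫ c)⁻¹, hb'⟩, ?_⟩
    apply Subtype.ext
    rw [hmapq]
    show (b * (LieS.proj B f ≫ c)⁻¹) ≫ q = w.1
    rw [MonObj.mul_comp, GrpObj.inv_comp, Category.assoc, hcq, MonObj.comp_one, inv_one,
      _root_.mul_one, hb2]
  · intro v
    constructor
    · intro hv
      have hv' : v.1 ≫ q = 1 := by rw [← hmapq, hv]; rfl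
      obtain ⟨a, ha⟩ := ((hex (LieS.dpt B f)).2.2 v.1).1 hv'
      have ha0 : LieS.zeroSec B f ≫ a = 1 := by
        apply (hex (LieS.pt B f)).1
        show (LieS.zeroSec B f ≫ a) ≫ i = 1 ≫ i
        rw [Category.assoc, ha, MonObj.one_comp]
        exact v.2
      refine ⟨⟨a, ha0⟩, ?_⟩
      apply Subtype.ext
      rw [hmapi]; exact ha
    · rintro ⟨w, rfl⟩
      apply Subtype.ext
      rw [hmapq, hmapi]
      show (w.1 ≫ i) ≫ q = 1
      exact ((hex (LieS.dpt B f)).2.2 (w.1 ≫ i)).2 ⟨w.1, rfl⟩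

end Groth.Agent.Helper1.LieSLib
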