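import Mathlib
set_option autoImplicit false

namespace Groth.Agent.Helper1.LinDualL
universe u v

variable {k : Type u} {M : Type v} [Field k]
    [TopologicalSpace k] [DiscreteTopology k] [AddCommGroup M] [Module k M] [TopologicalSpace M]
    [IsTopologicalAddGroup M]

/-- a linear functional vanishing on an open submodule is continuous -/
theorem continuous_of_open_le_ker (f : M →ₗ[k] k) (U : Submodule k M) (hU : IsOpen (U : Set M))
    (h : U ≤ LinearMap.ker f) : Continuous f := by
  refine continuous_of_continuousAt_zero f.toAddMonoidHom ?_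
  rw [ContinuousAt]
  change Filter.Tendsto f (nhds 0) (nhds (f 0))
  rw [map_zero]
  refine Filter.Tendsto.mono_left (tendsto_const_nhds (x := (0 : k)) |>.congr' ?_) le_rfl
  filter_upwards [hU.mem_nhds U.zero_mem] with y hy
  exact (h hy).symm

theorem mem_of_dual_annihilator [IsLinearTopology k M]
    (M₁ : Submodule k M) (hM₁ : IsClosed (M₁ : Set M)) (x : M)
    (hx : ∀ φ : M →L[k] k, (∀ m ∈ M₁, φ m = 0) → φ x = 0) : x ∈ M₁ := by
  by_contra hxn
  -- open submodule `U` with `x + U` disjoint from `M₁`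
  have hnb : {y : M | x + y ∉ M₁} ∈ nhds (0 : M) := by
    have hc : Continuous fun y : M => x + y := continuous_const.add continuous_id
    have h1 : (M₁ : Set M)ᶜ ∈ nhds (x + 0) := by
      rw [add_zero]; exact hM₁.isOpen_compl.mem_nhds hxn
    exact hc.continuousAt.preimage_mem_nhds h1
  obtain ⟨U, hUo, hU⟩ := (IsLinearTopology.hasBasis_open_submodule k (M := M)).mem_iff.mp hnb
  set N := M₁ ⊔ U with hN
  have hxN : x ∉ N := by
    intro h
    obtain ⟨m, hm, u, hu, rfl⟩ := Submodule.mem_sup.mp h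
    have := hU (U.neg_mem hu)
    apply this
    simpa [add_assoc] using hm
  -- functional on the quotient
  have hq : N.mkQ x ≠ 0 := by
    rwa [Ne, Submodule.mkQ_apply, Submodule.Quotient.mk_eq_zero]
  obtain ⟨f, hf⟩ : ∃ f : Module.Dual k (M ⧸ N), f (N.mkQ x) ≠ 0 := by
    by_contra hcon
    push Not at hcon
    exact hq ((Module.forall_dual_apply_eq_zero_iff k _).mp hcon)
  let g : M →ₗ[k] k := f.comp N.mkQ
  have hker : U ≤ LinearMap.ker g := by
    intro u hu
    rw [LinearMap.mem_ker]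
    change f (N.mkQ u) = 0
    have : N.mkQ u = 0 := by
      rw [Submodule.mkQ_apply, Submodule.Quotient.mk_eq_zero]
      exact Submodule.mem_sup_right hu
    rw [this, map_zero]
  have hgc : Continuous g := continuous_of_open_le_ker g U hUo hker
  let φ : M →L[k] k := ⟨g, hgc⟩
  have h0 := hx φ (fun m hm => by
    change f (N.mkQ m) = 0
    have : N.mkQ m = 0 := by
      rw [Submodule.mkQ_apply, Submodule.Quotient.mk_eq_zero]
      exact Submodule.mem_sup_left hm
    rw [this, map_zero])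
  exact hf h0

theorem exists_dual_extension [IsLinearTopology k M]
    (M₁ M₂ : Submodule k M) (h₁₂ : M₁ ≤ M₂) (ψ : M₂ →L[k] k)
    (hψ : ∀ m : M₂, (m : M) ∈ M₁ → ψ m = 0) :
    ∃ φ : M →L[k] k, (∀ m ∈ M₁, φ m = 0) ∧ ∀ m : M₂, φ (m : M) = ψ m := by
  -- `ker ψ` is open in `M₂`
  have hko : IsOpen ((LinearMap.ker (ψ : M₂ →ₗ[k] k) : Submodule k M₂) : Set M₂) := by
    have : ((LinearMap.ker (ψ : M₂ →ₗ[k] k) : Submodule k M₂) : Set M₂) = ψ ⁻¹' {0} := by
      ext m; simp
    rw [this]
    exact (isOpen_discrete _).preimage ψ.continuous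
  -- open nbhd of 0 in M whose trace on M₂ lies in ker ψ
  obtain ⟨W, hW, hWk⟩ : ∃ W : Set M, W ∈ nhds (0 : M) ∧ ∀ m : M₂, (m : M) ∈ W → ψ m = 0 := by
    have h0 : ((LinearMap.ker (ψ : M₂ →ₗ[k] k) : Submodule k M₂) : Set M₂) ∈ nhds (0 : M₂) :=
      hko.mem_nhds (Submodule.zero_mem _)
    rw [nhds_subtype_eq_comap] at h0
    obtain ⟨W, hW, hWs⟩ := h0
    exact ⟨W, hW, fun m hm => hWs hm⟩
  obtain ⟨U, hUo, hU⟩ := (IsLinearTopology.hasBasis_open_submodule k (M := M)).mem_iff.mp hW
  -- functional on the quotient `M₂ / (U ∩ M₂)`... instead extend from `M₂ ⊔ U`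
  -- define on M₂ × U and descend
  let P : Submodule k M := M₂ ⊔ U
  -- linear map M₂ × U → k
  let F : (M₂ × U) →ₗ[k] k := (ψ : M₂ →ₗ[k] k).comp (LinearMap.fst k M₂ U)
  let S : (M₂ × U) →ₗ[k] M := (M₂.subtype).coprod (U.subtype)
  have hSker : LinearMap.ker S ≤ LinearMap.ker F := by
    rintro ⟨m, u⟩ h
    rw [LinearMap.mem_ker] at h ⊢
    have h1 : (m : M) + (u : M) = 0 := by simpa [S] using h
    change ψ m = 0
    apply hWk
    apply hU
    have : (m : M) = -(u : M) := eq_neg_of_add_eq_zero_left h1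
    rw [this]
    exact U.neg_mem u.2
  -- extend: use a complement / `LinearMap.exists_extend` on range S
  obtain ⟨G, hG⟩ : ∃ G : M →ₗ[k] k, G.comp S = F := by
    -- factor F through range S then extend
    let F' : LinearMap.range S →ₗ[k] k :=
      ((LinearMap.ker S).liftQ F hSker).comp (S.quotKerEquivRange.symm : LinearMap.range S →ₗ[k] _)
    obtain ⟨G, hG⟩ := LinearMap.exists_extend F'
    refine ⟨G, ?_⟩
    refine LinearMap.ext fun z => ?_
    have : G (S z) = (G.comp (LinearMap.range S).subtype) ⟨S z, LinearMap.mem_range_self S z⟩ := rfl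
    rw [LinearMap.comp_apply, this, hG]
    change ((LinearMap.ker S).liftQ F hSker) (S.quotKerEquivRange.symm ⟨S z, _⟩) = F z
    have h2 : S.quotKerEquivRange.symm ⟨S z, LinearMap.mem_range_self S z⟩ =
        (LinearMap.ker S).mkQ z := by
      rw [LinearEquiv.symm_apply_eq]
      rfl
    rw [h2]
    rfl
  have hGU : U ≤ LinearMap.ker G := by
    intro u hu
    rw [LinearMap.mem_ker]
    have := LinearMap.congr_fun hG ((0 : M₂), (⟨u, hu⟩ : U))
    simpa [S, F] using this
  have hGc : Continuous G := continuous_of_open_le_ker G U hUo hGU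
  have hGM₂ : ∀ m : M₂, G (m : M) = ψ m := by
    intro m
    have := LinearMap.congr_fun hG (m, (0 : U))
    simpa [S, F] using this
  refine ⟨⟨G, hGc⟩, fun m hm => ?_, hGM₂⟩
  change G m = 0
  have := hGM₂ ⟨m, h₁₂ hm⟩
  rw [this]
  exact hψ ⟨m, h₁₂ hm⟩ hm

end Groth.Agent.Helper1.LinDualL
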