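import Mathlib
import Groth.Agent.Lib.Helper4.GenMap2
import Groth.Agent.Lib.Helper4.LocalDimEtale1

/-!
# Chains of specializations, generic points of closed subsets (helper1)
-/

set_option autoImplicit false
universe u
open CategoryTheory AlgebraicGeometry TopologicalSpace

namespace Groth.Agent.Helper1.LinProj

theorem nat_le_of_cast_le {a b : ℕ} (h : (a : WithBot ℕ∞) ≤ (b : WithBot ℕ∞)) : a ≤ b := by
  exact_mod_cast h

section Top

variable {T : Type*} [TopologicalSpace T]

/-- generic points of a closed subset of a Noetherian quasi-sober space -/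
theorem exists_finite_gen [NoetherianSpace T] [QuasiSober T] [T0Space T] (F : Set T)
    (hF : IsClosed F) : ∃ G : Set T, G.Finite ∧ G ⊆ F ∧ ∀ x ∈ F, ∃ g ∈ G, g ⤳ x := by
  haveI : QuasiSober F := hF.isClosedEmbedding_subtypeVal.quasiSober
  have hfin : (irreducibleComponents F).Finite := NoetherianSpace.finite_irreducibleComponents
  let G' : Set F := {η | closure ({η} : Set F) ∈ irreducibleComponents F}
  have hG' : G'.Finite := by
    apply Set.Finite.of_finite_image (f := fun z : F => closure ({z} : Set F)) (hfin.subset ?_) ?_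
    · rintro _ ⟨z, hz, rfl⟩
      exact hz
    · intro z _ z' _ h
      exact (inseparable_iff_closure_eq.2 h).eq
  refine ⟨Subtype.val '' G', hG'.image _, ?_, ?_⟩
  · rintro _ ⟨z, -, rfl⟩
    exact z.2
  · intro x hx
    let z : F := ⟨x, hx⟩
    have hC := irreducibleComponent_mem_irreducibleComponents z
    obtain ⟨η, hη⟩ := QuasiSober.sober hC.1 isClosed_irreducibleComponent
    have hηz : η ⤳ z := by
      rw [specializes_iff_mem_closure, hη.def]
      exact mem_irreducibleComponent
    refine ⟨η.1, ⟨η, ?_, rfl⟩, Topology.IsInducing.subtypeVal.specializes_iff.2 hηz⟩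
    show closure ({η} : Set F) ∈ irreducibleComponents F
    rw [hη.def]
    exact hC

attribute [local instance] specializationOrder in
/-- every chain of specializations inside `F` has length at most `d - j` -/
def ChainLe [T0Space T] (F : Set T) (d j : ℕ) : Prop :=
  ∀ p : LTSeries T, (∀ x ∈ p, x ∈ F) → p.length + j ≤ d

attribute [local instance] specializationOrder in
theorem ChainLe.step [T0Space T] {F : Set T} {d j : ℕ} (h : ChainLe F d j) (G : Set T)
    (hGF : G ⊆ F) (hG : ∀ x ∈ F, ∃ g ∈ G, g ⤳ x) (Z : Set T) (hZ : Disjoint Z G) :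
    ChainLe (F ∩ Z) d (j + 1) := by
  intro p hp
  obtain ⟨g, hg, hgl⟩ := hG p.last (hp _ p.last_mem).1
  have hne : p.last ≠ g := fun e => Set.disjoint_left.1 hZ (hp _ p.last_mem).2 (e ▸ hg)
  have hle : p.last ≤ g := hgl
  have hlt : p.last < g := lt_of_le_of_ne hle hne
  have h1 := h (p.snoc g hlt) (fun x hx => by
    rcases RelSeries.mem_snoc.1 hx with hx | rfl
    · exact (hp x hx).1
    · exact hGF hg)
  rw [RelSeries.snoc_length] at h1
  omega

attribute [local instance] specializationOrder in
theorem chainLe_univ [QuasiSober T] [T0Space T] {d : ℕ} (hd : topologicalKrullDim T ≤ d) :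
    ChainLe (Set.univ : Set T) d 0 := by
  intro p _
  have h1 := Order.LTSeries.length_le_krullDim p
  rw [← Groth.Agent.Helper4.GM.topologicalKrullDim_eq_krullDim_specialization] at h1
  have h2 : ((p.length : ℕ) : WithBot ℕ∞) ≤ ((d : ℕ) : WithBot ℕ∞) := h1.trans hd
  have h3 : p.length ≤ d := nat_le_of_cast_le h2
  omega

attribute [local instance] specializationOrder in
theorem ChainLe.eq_empty [T0Space T] {F : Set T} {d : ℕ} (h : ChainLe F d (d + 1)) : F = ∅ := by
  rw [Set.eq_empty_iff_forall_notMem]
  intro x hx
  have h1 := h (RelSeries.singleton _ x) (fun y hy => by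
    obtain ⟨i, rfl⟩ := hy
    exact hx)
  simp at h1

attribute [local instance] specializationOrder in
/-- a chain of length `d` exists when the dimension is `d` -/
theorem exists_chain [QuasiSober T] [T0Space T] {d : ℕ} (hd : topologicalKrullDim T = d) :
    ∃ p : LTSeries T, p.length = d := by
  rw [Groth.Agent.Helper4.GM.topologicalKrullDim_eq_krullDim_specialization] at hd
  exact Order.le_krullDim_iff.1 hd.ge

end Top

end Groth.Agent.Helper1.LinProj
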