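import Mathlib
import Groth.Agent.Lib.Helper1.LinProjA
import Groth.Agent.Lib.Helper1.HypPnB
import Groth.Agent.S3572
import Groth.Agent.S10829

/-!
# Finite surjective linear projections of closed subschemes of projective space (helper1)
-/

set_option autoImplicit false
set_option synthInstance.maxHeartbeats 400000
universe u
open CategoryTheory CategoryTheory.Limits AlgebraicGeometry TopologicalSpace Opposite

namespace Groth.Agent.Helper1.LinProj

open Groth.Agent.Helper1.QcCech Groth.Agent.Helper1 Groth.Agent.Helper1.PullSec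
open Groth.Agent.Helper1.PullGen Groth.Agent.Helper1.LGen

section Forms

variable (k : Type u) [Field k] (N : ℕ)

local notation "𝒮" => CohB1.polyGrading N k

/-- the linear forms vanishing at a point -/
def Wsub (y : ProjectiveSpectrum 𝒮) : Submodule k (𝒮 1) where
  carrier := {ℓ | ℓ.1 ∈ y.asHomogeneousIdeal.toIdeal}
  add_mem' := fun {a b} ha hb => by
    show (a + b).1 ∈ y.asHomogeneousIdeal.toIdeal
    rw [Submodule.coe_add]
    exact Ideal.add_mem _ ha hb
  zero_mem' := by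
    show (0 : 𝒮 1).1 ∈ y.asHomogeneousIdeal.toIdeal
    rw [Submodule.coe_zero]
    exact Ideal.zero_mem _
  smul_mem' := fun c ℓ h => by
    show (c • ℓ).1 ∈ y.asHomogeneousIdeal.toIdeal
    rw [Submodule.coe_smul, Algebra.smul_def]
    exact Ideal.mul_mem_left _ _ h

theorem Wsub_ne_top (y : ProjectiveSpectrum 𝒮) : Wsub k N y ≠ ⊤ := by
  obtain ⟨i, hi⟩ := ProjSpaceLib.exists_X_notMem N k y
  intro h
  have h1 : (⟨MvPolynomial.X i, MvPolynomial.isHomogeneous_X k i⟩ : 𝒮 1) ∈ Wsub k N y := by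
    rw [h]
    exact Submodule.mem_top
  exact hi h1

theorem exists_form_avoiding [Infinite k] (G : Set (ProjectiveSpectrum 𝒮)) (hG : G.Finite) :
    ∃ ℓ : 𝒮 1, ∀ y ∈ G, ℓ.1 ∉ y.asHomogeneousIdeal := by
  haveI : Finite G := hG.to_subtype
  obtain ⟨ℓ, hℓ⟩ := Submodule.exists_forall_notMem_of_forall_ne_top
    (fun y : G => Wsub k N y.1) (fun y => Wsub_ne_top k N y.1)
  exact ⟨ℓ, fun y hy => hℓ ⟨y, hy⟩⟩

end Forms

section Main

variable (k : Type u) [Field k] {N : ℕ} {X : Scheme.{u}} (ι : X ⟶ CohB1.ProjSpace N k)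

local notation "𝒮" => CohB1.polyGrading N k

/-- the common zero locus in `X` of a family of linear forms -/
def VF {j : ℕ} (ℓ : Fin j → 𝒮 1) : Set X :=
  {x | ∀ i, x ∉ ι ⁻¹ᵁ Proj.basicOpen 𝒮 (ℓ i).1}

theorem isClosed_VF {j : ℕ} (ℓ : Fin j → 𝒮 1) : IsClosed (VF k ι ℓ) := by
  have h : VF k ι ℓ = ⋂ i, ((ι ⁻¹ᵁ Proj.basicOpen 𝒮 (ℓ i).1 : X.Opens) : Set X)ᶜ := by
    ext x
    simp [VF]
  rw [h]
  exact isClosed_iInter fun i => (ι ⁻¹ᵁ Proj.basicOpen 𝒮 (ℓ i).1).isOpen.isClosed_compl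

theorem exists_forms [Infinite k] [NoetherianSpace X] (d : ℕ) (hd : topologicalKrullDim X ≤ d) :
    ∀ j : ℕ, ∃ ℓ : Fin j → 𝒮 1, ChainLe (VF k ι ℓ) d j := by
  intro j
  induction j with
  | zero =>
    refine ⟨fun i => i.elim0, ?_⟩
    have h : VF k ι (fun i : Fin 0 => (i.elim0 : 𝒮 1)) = Set.univ := by
      ext x
      simp [VF]
    rw [h]
    exact chainLe_univ hd
  | succ j ih =>
    obtain ⟨ℓ, hℓ⟩ := ih
    obtain ⟨G, hGfin, hGF, hG⟩ := exists_finite_gen (VF k ι ℓ) (isClosed_VF k ι ℓ)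
    obtain ⟨ℓ', hℓ'⟩ := exists_form_avoiding k N
      (ι.base '' G : Set (ProjectiveSpectrum 𝒮)) (hGfin.image _)
    refine ⟨Fin.snoc (α := fun _ => 𝒮 1) ℓ ℓ', ?_⟩
    have heq : VF k ι (Fin.snoc (α := fun _ => 𝒮 1) ℓ ℓ') =
        VF k ι ℓ ∩ {x | x ∉ ι ⁻¹ᵁ Proj.basicOpen 𝒮 ℓ'.1} := by
      ext x
      simp only [VF, Set.mem_inter_iff, Fin.forall_fin_succ',
        Fin.snoc_castSucc, Fin.snoc_last]
      exact Iff.rfl
    rw [heq]
    refine hℓ.step G hGF hG _ (Set.disjoint_left.2 fun x hx hxG => hx ?_)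
    exact (Proj.mem_basicOpen 𝒮 ℓ'.1 (ι.base x)).2 (hℓ' _ ⟨x, hxG, rfl⟩)

attribute [local instance] specializationOrder in
set_option maxHeartbeats 1600000 in
theorem exists_finite_projection [Infinite k] [IsClosedImmersion ι] (d : ℕ)
    (hd : topologicalKrullDim X = d) :
    ∃ π : X ⟶ CohB1.ProjSpace d k,
      π ≫ CohB1.ProjSpace.toSpec d k = ι ≫ CohB1.ProjSpace.toSpec N k ∧ IsFinite π ∧
      Surjective π ∧
      Nonempty ((Scheme.Modules.pullback π).obj (Twist.twistProjSpace d k 1) ≅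
        (Scheme.Modules.pullback ι).obj (Twist.twistProjSpace N k 1)) := by
  classical
  haveI hιaff : IsAffineHom ι := inferInstance
  haveI : IsProper (ι ≫ CohB1.ProjSpace.toSpec N k) := inferInstance
  haveI : IsNoetherian X := by
    haveI : IsLocallyNoetherian X :=
      LocallyOfFiniteType.isLocallyNoetherian (ι ≫ CohB1.ProjSpace.toSpec N k)
    haveI : CompactSpace X :=
      QuasiCompact.compactSpace_of_compactSpace (ι ≫ CohB1.ProjSpace.toSpec N k)
    exact {}
  obtain ⟨ℓ, hℓ⟩ := exists_forms k ι d hd.le (d + 1)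
  have hempty := hℓ.eq_empty
  have hcov : ∀ x : X, ∃ i, x ∈ ι ⁻¹ᵁ Proj.basicOpen 𝒮 (ℓ i).1 := by
    intro x
    by_contra hcon
    push Not at hcon
    have hx : x ∈ VF k ι ℓ := hcon
    rw [hempty] at hx
    exact hx
  -- the sections
  let t : 𝒮 1 → MvPolynomial (Fin (N + 1)) k := Subtype.val
  have ht : ∀ a : 𝒮 1, t a ∈ 𝒮 1 := fun a => a.2
  have hcovP : ∀ x : Proj 𝒮, ∃ a : 𝒮 1, x ∈ ProjUP7.D 𝒮 t a := fun x => by
    obtain ⟨i, hi⟩ := ProjUP8.hcov N k x
    exact ⟨⟨MvPolynomial.X i, MvPolynomial.isHomogeneous_X k i⟩, hi⟩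
  let L := (Scheme.Modules.pullback ι).obj (Twist.twistProjSpace N k 1)
  let s : Fin (d + 1) → Γ(L, ⊤) := fun i => ProjUP7.pt 𝒮 t ht ι (ℓ i)
  have hgl : ∀ i, CohB1.genLocus L (TwistAmple.homOfSec L (s i)) =
      ι ⁻¹ᵁ Proj.basicOpen 𝒮 (ℓ i).1 := fun i => ProjUP7.genLocus_pt 𝒮 t ht hcovP ι (ℓ i)
  have hs : ProjUP.GeneratedBy L s := by
    apply VA1.generatedBy_of_cover
    intro x
    obtain ⟨i, hi⟩ := hcov x
    exact ⟨i, by rw [hgl]; exact hi⟩
  have hL : PicF.IsInvertible L :=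
    PullGen.isInvertible_pullback ι (PnVA.isInvertible_O1 N k)
  obtain ⟨π, hπ, τ, hτ⟩ := Groth.Agent.S3572.result (R := k) d
    (ι ≫ CohB1.ProjSpace.toSpec N k) L hL s hs
  have hτ' : ∀ i, τ.hom.app ⊤ (ProjUP7.pt (CohB1.polyGrading d k) (ProjUP8.tX d k)
      (ProjUP8.htX d k) π i) = s i := hτ
  have hpre : ∀ i, π ⁻¹ᵁ ProjUP7.D (CohB1.polyGrading d k) (ProjUP8.tX d k) i =
      CohB1.genLocus L (TwistAmple.homOfSec L (s i)) :=
    VA1.preimage_D (CohB1.polyGrading d k) (ProjUP8.tX d k) (ProjUP8.htX d k)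
      (ProjUP8.hcov d k) π τ s hτ'
  haveI : IsAffineHom π := by
    apply isAffineHom_of_forall_exists_isAffineOpen
    intro y
    obtain ⟨i, hi⟩ := ProjUP8.hcov d k y
    refine ⟨ProjUP7.D (CohB1.polyGrading d k) (ProjUP8.tX d k) i, hi,
      Proj.isAffineOpen_basicOpen (CohB1.polyGrading d k) _ (ProjUP8.htX d k i) one_pos, ?_⟩
    rw [hpre i, hgl i]
    exact @IsAffineOpen.preimage X (CohB1.ProjSpace N k) _
      (Proj.isAffineOpen_basicOpen 𝒮 (ℓ i).1 (ℓ i).2 one_pos) ι hιaff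
  haveI : IsProper π := by
    haveI : IsProper (π ≫ CohB1.ProjSpace.toSpec d k) := by
      rw [hπ]
      infer_instance
    exact IsProper.of_comp π (CohB1.ProjSpace.toSpec d k)
  haveI hfin : IsFinite π := IsFinite.iff_isProper_and_isAffineHom.2 ⟨inferInstance, inferInstance⟩
  refine ⟨π, hπ, hfin, ?_, ⟨τ⟩⟩
  -- surjectivity
  haveI : IsIntegral (CohB1.ProjSpace d k) := HypPn.isIntegral_projSpace d k
  have hcl : IsClosed (Set.range π.base) := π.isClosedMap.isClosed_range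
  have hgen := genericPoint_spec (CohB1.ProjSpace d k)
  by_cases hη : genericPoint (CohB1.ProjSpace d k) ∈ Set.range π.base
  · constructor
    intro y
    have h1 : closure ({genericPoint (CohB1.ProjSpace d k)} : Set (CohB1.ProjSpace d k)) ⊆
        Set.range π.base := hcl.closure_subset_iff.2 (Set.singleton_subset_iff.2 hη)
    apply h1
    rw [hgen.def]
    trivial
  · exfalso
    obtain ⟨p, hp⟩ := exists_chain hd
    have hmono : StrictMono π.base := by
      intro x x' hlt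
      have h1 : x' ⤳ x := hlt.le
      have h2 : π.base x' ⤳ π.base x := h1.map π.continuous
      have h2' : π.base x ≤ π.base x' := h2
      refine lt_of_le_of_ne h2' fun he => ?_
      have h3 := Groth.Agent.Lib.Helper4.LocalDimEtale1.eq_of_specializes_of_isDiscrete_fibre π h1
        he.symm
      exact hlt.ne h3.symm
    have hlast : (p.map π.base hmono).last < genericPoint (CohB1.ProjSpace d k) := by
      have h1 : genericPoint (CohB1.ProjSpace d k) ⤳ (p.map π.base hmono).last :=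
        hgen.specializes trivial
      have h1' : (p.map π.base hmono).last ≤ genericPoint (CohB1.ProjSpace d k) := h1
      refine lt_of_le_of_ne h1' fun he => hη ?_
      rw [← he]
      exact ⟨p.last, rfl⟩
    have h5 := chainLe_univ (Groth.Agent.S10829.result k d).le
      ((p.map π.base hmono).snoc _ hlast) (fun _ _ => trivial)
    rw [RelSeries.snoc_length, LTSeries.map_length, hp] at h5
    omega

end Main

end Groth.Agent.Helper1.LinProj
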