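import Mathlib
import Groth.Agent.Lib.Helper1.DegFin2
import Groth.Agent.Lib.Helper1.VBP1
import Groth.Agent.Lib.Helper1.HH0
import Groth.Agent.Lib.Helper1.ProjUP8
import Groth.Agent.Lib.Helper1.PnVA
import Groth.Prelude.Def_LinSer
import Groth.Prelude.Def_Omega3

/-!
# S6579: the degree of the morphism attached to a `g^1_d` (helper1)
-/

set_option autoImplicit false
set_option synthInstance.maxHeartbeats 400000
universe u
open CategoryTheory CategoryTheory.Limits AlgebraicGeometry TopologicalSpace Opposite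

namespace Groth.Agent.Helper1.LinSerDeg

open Groth.Agent.Helper1.QcCech Groth.Agent.Helper1 Groth.Agent.Helper1.LGen
open Groth.Agent.Helper1.PullSec Groth.Agent.Helper1.PullGen

section Rank

variable {X Y : Scheme.{u}} (f : X ⟶ Y) (x : X)

theorem finrank_stalk_eq_residueDegree (hKX : IsField (X.presheaf.stalk x))
    (hKY : IsField (Y.presheaf.stalk (f x))) :
    (letI := (f.stalkMap x).hom.toAlgebra
     Module.finrank (Y.presheaf.stalk (f x)) (X.presheaf.stalk x)) = f.residueDegree x := by
  letI : Algebra (Y.presheaf.stalk (f x)) (X.presheaf.stalk x) := (f.stalkMap x).hom.toAlgebra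
  letI : Algebra (Y.residueField (f x)) (X.residueField x) :=
    (f.residueFieldMap x).hom.toAlgebra
  change Module.finrank (Y.presheaf.stalk (f x)) (X.presheaf.stalk x) =
    Module.finrank (Y.residueField (f x)) (X.residueField x)
  refine Algebra.finrank_eq_of_equiv_equiv
    (RingEquiv.ofBijective (IsLocalRing.residue (Y.presheaf.stalk (f x)))
      (DegFin.residue_bijective_of_isField _ hKY))
    (RingEquiv.ofBijective (IsLocalRing.residue (X.presheaf.stalk x))
      (DegFin.residue_bijective_of_isField _ hKX)) ?_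
  ext r
  have h := congrArg (fun ψ => ψ.hom r) (Scheme.residue_residueFieldMap f x)
  exact h

end Rank

section Lin

variable (k : Type u) [Field k] (X : Scheme.{u}) [X.Over (Spec (CommRingCat.of k))]

theorem sect_ne_zero {L : X.Modules} {n : ℕ} (s : Fin n → LinSer.Sect X L)
    (h : LinSer.LinIndep k X L s) (i : Fin n) : s i ≠ 0 := by
  intro h0
  have h1 := h (Pi.single i 1) (by
    apply Finset.sum_eq_zero
    intro j _
    by_cases hj : j = i
    · subst hj
      rw [h0, smul_zero]
    · rw [Pi.single_eq_of_ne hj, map_zero, zero_smul])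
  have h2 := congrFun h1 i
  rw [Pi.single_eq_same] at h2
  exact one_ne_zero h2

theorem exists_const [IsIntegral X]
    (h1 : Module.finrank k (Coh.HH X (Coh.structureModule X) 0) = 1) (h : Γ(X, ⊤)) :
    ∃ c : k, Coh.toGlobal (X ↘ Spec (CommRingCat.of k)) c = h := by
  let e := HH0.equiv X (Coh.structureModule X)
  have hone : (1 : Γ(X, ⊤)) ≠ 0 := one_ne_zero
  let v := e.symm (TwForm.one' (X := X) ⊤)
  have hv : v ≠ 0 := by
    intro h0
    apply hone
    have := congrArg e h0
    rw [e.apply_symm_apply, map_zero] at this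
    exact this
  obtain ⟨c, hc⟩ := (finrank_eq_one_iff_of_nonzero' v hv).1 h1
    (e.symm (show (Coh.structureModule X).val.obj (op ⊤) from h))
  refine ⟨c, ?_⟩
  have h2 := congrArg e hc
  rw [HH0.equiv_smul_over, e.apply_symm_apply, e.apply_symm_apply] at h2
  have h3 := TwForm.smul_one' (X := X) ⊤ (Coh.toGlobal (X ↘ Spec (CommRingCat.of k)) c)
  exact h3.symm.trans h2

end Lin

section Main

set_option maxHeartbeats 3200000 in
theorem s6579 (k : Type u) [Field k] (X : Scheme.{u}) [X.Over (Spec (CommRingCat.of k))]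
    [IsIntegral X] [IsProper (X ↘ (Spec (CommRingCat.of k)))] (hdim : topologicalKrullDim X = 1)
    (d : ℕ) (L : X.Modules) (s : Fin (1 + 1) → LinSer.Sect X L)
    (hL : LinSer.IsLinSer k X L d 1 s)
    (φ : X ⟶ CohB1.ProjSpace 1 k)
    (α : (Scheme.Modules.pullback φ).obj (Twist.twistProjSpace 1 k 1) ⟶ L)
    (hφ : φ ≫ CohB1.ProjSpace.toSpec 1 k = X ↘ (Spec (CommRingCat.of k)) ∧
        ∀ i : Fin (1 + 1), (α.val.app (Opposite.op ⊤)).hom
          (OmegaSh.pullSect φ (Twist.twistProjSpace 1 k 1) ⊤
            (Twist.globalOf (CohB1.polyGrading 1 k)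
              (⟨MvPolynomial.X i, MvPolynomial.isHomogeneous_X k i⟩ :
                (CohB1.polyGrading 1 k) 1))) = s i) :
    ((¬ ∃ p : CohB1.ProjSpace 1 k, IsClosed ({p} : Set (CohB1.ProjSpace 1 k)) ∧
        Set.range φ ⊆ {p}) ∧
      (letI := (φ.stalkMap (genericPoint X)).hom.toAlgebra
       Module.finrank ((CohB1.ProjSpace 1 k).presheaf.stalk (φ (genericPoint X)))
        X.functionField ≤ d)) ∨
    ((∃ p : CohB1.ProjSpace 1 k, IsClosed ({p} : Set (CohB1.ProjSpace 1 k)) ∧
        Set.range φ ⊆ {p}) ∧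
      Module.finrank k (Coh.HH X (Coh.structureModule X) 0) ≠ 1) := by
  classical
  obtain ⟨hLinv, hdeg, hindep⟩ := hL
  obtain ⟨hφ1, hφ2⟩ := hφ
  have hO1 : PicF.IsInvertible (Twist.twistProjSpace 1 k 1) := PnVA.isInvertible_O1 1 k
  have hN : PicF.IsInvertible ((Scheme.Modules.pullback φ).obj (Twist.twistProjSpace 1 k 1)) :=
    PullGen.isInvertible_pullback φ hO1
  let pt : Fin (1 + 1) → Γ((Scheme.Modules.pullback φ).obj (Twist.twistProjSpace 1 k 1), ⊤) :=
    fun i => ProjUP.pullSec φ (Twist.twistProjSpace 1 k 1) (ProjUP.coord 1 k i)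
  have hα : ∀ i, α.app ⊤ (pt i) = s i := hφ2
  by_cases hξ : φ (genericPoint X) = genericPoint (CohB1.ProjSpace 1 k)
  · left
    constructor
    · rintro ⟨p, hp, hrange⟩
      have h1 : genericPoint (CohB1.ProjSpace 1 k) = p := by
        have := hrange ⟨genericPoint X, rfl⟩
        rw [← hξ]
        exact this
      subst h1
      have huniv : (Set.univ : Set (CohB1.ProjSpace 1 k)) =
          {genericPoint (CohB1.ProjSpace 1 k)} := by
        rw [← (genericPoint_spec (CohB1.ProjSpace 1 k)).def, hp.closure_eq]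
      haveI : Subsingleton (CohB1.ProjSpace 1 k) := ⟨fun a b => by
        have ha : a ∈ ({genericPoint (CohB1.ProjSpace 1 k)} : Set (CohB1.ProjSpace 1 k)) :=
          huniv ▸ Set.mem_univ a
        have hb : b ∈ ({genericPoint (CohB1.ProjSpace 1 k)} : Set (CohB1.ProjSpace 1 k)) :=
          huniv ▸ Set.mem_univ b
        rw [Set.mem_singleton_iff.1 ha, Set.mem_singleton_iff.1 hb]⟩
      haveI : Subsingleton (IrreducibleCloseds (CohB1.ProjSpace 1 k)) :=
        ⟨fun S T => IrreducibleCloseds.ext (by
          obtain ⟨a, ha⟩ := S.isIrreducible.nonempty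
          obtain ⟨b, hb⟩ := T.isIrreducible.nonempty
          ext z
          constructor
          · intro _
            rw [Subsingleton.elim z b]
            exact hb
          · intro _
            rw [Subsingleton.elim z a]
            exact ha)⟩
      have h2 : topologicalKrullDim (CohB1.ProjSpace 1 k) ≤ 0 :=
        Order.krullDim_nonpos_of_subsingleton
      rw [P1Iso.dim_P1 k] at h2
      exact absurd h2 (by norm_num)
    · have hα0 : α ≠ 0 := by
        rintro rfl
        exact sect_ne_zero k X s hindep 0 (hα 0).symm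
      have h1 := (Curve.deg_le_of_hom k X hdim hN hLinv α hα0).1
      have h2 := DegFin.deg_pullback_eq_residueDegree_mul_deg k X (CohB1.ProjSpace 1 k) hdim
        (P1Iso.dim_P1 k) φ hφ1 hξ 1 (Twist.twistProjSpace 1 k 1)
        (Curve.isFinLocFreeOfRank_one hO1)
      rw [VBP.deg_twist k 1, mul_one] at h2
      have h3 : (φ.residueDegree (genericPoint X) : ℤ) ≤ d := by
        rw [← h2, ← hdeg]
        exact h1
      have h4 : φ.residueDegree (genericPoint X) ≤ d := by exact_mod_cast h3
      have h5 := finrank_stalk_eq_residueDegree φ (genericPoint X)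
        (Field.toIsField X.functionField)
        (by rw [hξ]; exact Field.toIsField (CohB1.ProjSpace 1 k).functionField)
      exact le_of_eq_of_le h5 h4
  · right
    have hp : IsClosed ({φ (genericPoint X)} : Set (CohB1.ProjSpace 1 k)) :=
      P1Iso.isClosed_of_ne_genericPoint k _ hξ
    have hrange : Set.range φ ⊆ {φ (genericPoint X)} := by
      rintro _ ⟨x, rfl⟩
      have hx : x ∈ closure ({genericPoint X} : Set X) := by
        rw [(genericPoint_spec X).def]
        trivial
      have h1 := image_closure_subset_closure_image φ.continuous ⟨x, hx, rfl⟩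
      rw [Set.image_singleton, hp.closure_eq] at h1
      exact h1
    refine ⟨⟨_, hp, hrange⟩, fun h1 => ?_⟩
    obtain ⟨j, hj⟩ := ProjUP8.hcov 1 k (φ (genericPoint X))
    obtain ⟨l, hl⟩ : ∃ l : Fin (1 + 1), l ≠ j := exists_ne j
    have hU : (⊤ : X.Opens) ≤
        φ ⁻¹ᵁ ProjUP7.D (CohB1.polyGrading 1 k) (ProjUP8.tX 1 k) j := by
      intro x _
      have h2 := hrange ⟨x, rfl⟩
      show φ x ∈ ProjUP7.D (CohB1.polyGrading 1 k) (ProjUP8.tX 1 k) j
      rw [Set.mem_singleton_iff.1 h2]
      exact hj
    let hh : Γ(X, φ ⁻¹ᵁ ProjUP7.D (CohB1.polyGrading 1 k) (ProjUP8.tX 1 k) j) :=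
      (φ.app (ProjUP7.D (CohB1.polyGrading 1 k) (ProjUP8.tX 1 k) j)).hom
        (ProjUP7.c (CohB1.polyGrading 1 k) (ProjUP8.tX 1 k) (ProjUP8.htX 1 k) j l)
    have e1 : res ((Scheme.Modules.pullback φ).obj (Twist.twistProjSpace 1 k 1))
        (le_top : φ ⁻¹ᵁ ProjUP7.D (CohB1.polyGrading 1 k) (ProjUP8.tX 1 k) j ≤ ⊤) (pt l) =
        hh • res ((Scheme.Modules.pullback φ).obj (Twist.twistProjSpace 1 k 1))
          (le_top : φ ⁻¹ᵁ ProjUP7.D (CohB1.polyGrading 1 k) (ProjUP8.tX 1 k) j ≤ ⊤) (pt j) := by
      have a1 := ProjUP7.res_pt (CohB1.polyGrading 1 k) (ProjUP8.tX 1 k) (ProjUP8.htX 1 k) φ j l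
        le_top
      have a2 : res ((Scheme.Modules.pullback φ).obj (Twist.twistProjSpace 1 k 1))
          (le_top : φ ⁻¹ᵁ ProjUP7.D (CohB1.polyGrading 1 k) (ProjUP8.tX 1 k) j ≤ ⊤) (pt j) =
          ProjUP7.g (CohB1.polyGrading 1 k) (ProjUP8.tX 1 k) (ProjUP8.htX 1 k) φ j :=
        σ_res φ _ (le_top : ProjUP7.D (CohB1.polyGrading 1 k) (ProjUP8.tX 1 k) j ≤ ⊤) _
      exact a1.trans (congrArg (fun z : Γ((Scheme.Modules.pullback φ).obj
        (Twist.twistProjSpace 1 k 1),
        φ ⁻¹ᵁ ProjUP7.D (CohB1.polyGrading 1 k) (ProjUP8.tX 1 k) j) => hh • z) a2.symm)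
    have e3 := congrArg (res _ hU) e1
    rw [res_smul, res_res, res_res] at e3
    have e4 : ∀ i, res _ (hU.trans le_top) (pt i) = pt i := fun i => res_self _ _ _
    have e3' : pt l = resR hU hh • pt j := by
      have := e3
      rw [e4 j] at this
      exact (e4 l).symm.trans this
    obtain ⟨c, hc⟩ := exists_const k X h1 (resR hU hh)
    rw [← hc] at e3'
    have e5 := congrArg (fun z => α.app ⊤ z) e3'
    simp only [Scheme.Modules.Hom.app_smul] at e5
    rw [hα l, hα j] at e5
    -- contradiction with linear independence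
    have h6 := hindep (fun i => if i = l then 1 else -c) (by
      rw [Finset.sum_eq_add l j hl]
      · rw [if_pos rfl, if_neg hl.symm, map_one, one_smul, map_neg, neg_smul, e5]
        exact add_neg_cancel _
      · intro i _ hi
        exfalso
        have h7 : i.val < 2 := i.isLt
        have h8 : l.val < 2 := l.isLt
        have h9 : j.val < 2 := j.isLt
        have h10 : i.val ≠ l.val := fun h => hi.1 (Fin.ext h)
        have h11 : i.val ≠ j.val := fun h => hi.2 (Fin.ext h)
        have h12 : l.val ≠ j.val := fun h => hl (Fin.ext h)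
        omega
      · intro h
        exact absurd (Finset.mem_univ l) h
      · intro h
        exact absurd (Finset.mem_univ j) h)
    have h7 := congrFun h6 l
    simp only [Pi.zero_apply] at h7
    exact one_ne_zero h7

end Main

end Groth.Agent.Helper1.LinSerDeg
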