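import Mathlib
import Groth.Agent.Lib.Helper1.GlobGenLoc
import Groth.Agent.Lib.Helper1.InvT1
import Groth.Agent.Lib.Helper1.Curve1
import Groth.Agent.Lib.Helper1.TwForm4
import Groth.Agent.Lib.Helper1.VA1
import Groth.Agent.S3572

/-!
# The morphism to projective space attached to a linear series on a regular curve (helper1)

On an integral scheme all of whose local rings are valuation rings, the submodule of an invertible
module generated by finitely many global sections (not all zero) is invertible.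
-/

set_option autoImplicit false
set_option synthInstance.maxHeartbeats 400000
universe u
open CategoryTheory CategoryTheory.Limits AlgebraicGeometry TopologicalSpace Opposite

namespace Groth.Agent.Helper1.LinSerMap

open Groth.Agent.Helper1.QcCech Groth.Agent.Helper1 Groth.Agent.Helper1.LGen
open Groth.Agent.Helper1.SubSh Groth.Agent.Helper1.AmpleLib Groth.Agent.Helper1.TwForm

section Alg

theorem exists_dvd_all {V : Type*} [CommRing V] [IsDomain V] [ValuationRing V] :
    ∀ (m : ℕ) (f : Fin (m + 1) → V), ∃ i0, ∀ i, f i0 ∣ f i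
  | 0, f => ⟨0, fun i => by rw [Subsingleton.elim i 0]⟩
  | m + 1, f => by
    obtain ⟨j0, hj0⟩ := exists_dvd_all m (fun j => f j.succ)
    rcases ValuationRing.dvd_total (f 0) (f j0.succ) with h | h
    · refine ⟨0, fun i => ?_⟩
      refine Fin.cases (dvd_refl _) (fun j => h.trans (hj0 j)) i
    · refine ⟨j0.succ, fun i => ?_⟩
      refine Fin.cases h (fun j => hj0 j) i

end Alg

section Geo

variable {X : Scheme.{u}} [IsIntegral X] {L : X.Modules}

set_option maxHeartbeats 1600000 in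
theorem exists_local_gen (hval : ∀ x : X, ValuationRing (X.presheaf.stalk x))
    (hL : PicF.IsInvertible L) {r : ℕ} (s : Fin (r + 1) → Γ(L, ⊤)) (hs0 : ∃ i, s i ≠ 0) (x : X) :
    ∃ (W : X.Opens) (i0 : Fin (r + 1)) (c : Fin (r + 1) → Γ(X, W)), x ∈ W ∧
      (∀ i, res L (le_top : W ≤ ⊤) (s i) = c i • res L (le_top : W ≤ ⊤) (s i0)) ∧
      (∀ (V : X.Opens) (_ : V ≤ W) (ρ ρ' : Γ(X, V)),
        ρ • res L (le_top : V ≤ ⊤) (s i0) = ρ' • res L (le_top : V ≤ ⊤) (s i0) → ρ = ρ') := by
  classical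
  obtain ⟨W0, g, hxW0, hg⟩ := exists_isGen hL x
  have hf : ∀ i, ∃ f : Γ(X, W0), f • g = res L (le_top : W0 ≤ ⊤) (s i) :=
    fun i => hg.exists_coeff _
  choose f hf using hf
  have hξ : genericPoint X ∈ W0 := Curve.genericPoint_mem_of_nonempty W0 x hxW0
  obtain ⟨j, hj⟩ := hs0
  have hfj : f j ≠ 0 := by
    intro h0
    apply hj
    apply Curve.eq_zero_of_res_eq_zero hL (le_top : W0 ≤ ⊤) hξ (s j)
    rw [← hf j, h0, zero_smul]
  let γ : Fin (r + 1) → X.presheaf.stalk x := fun i => (X.presheaf.germ W0 x hxW0).hom (f i)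
  have hγj : γ j ≠ 0 := by
    intro h0
    apply hfj
    apply germ_injective_of_isIntegral X x hxW0
    rw [map_zero]
    exact h0
  haveI := hval x
  obtain ⟨i0, hi0⟩ := exists_dvd_all r γ
  have hγ0 : γ i0 ≠ 0 := by
    intro h0
    apply hγj
    have := hi0 j
    rw [h0] at this
    exact zero_dvd_iff.1 this
  have hf0 : f i0 ≠ 0 := by
    intro h0
    apply hγ0
    show (X.presheaf.germ W0 x hxW0).hom (f i0) = 0
    rw [h0, map_zero]
  have hloc : ∀ i, ∃ (W' : X.Opens) (h : W' ≤ W0) (c : Γ(X, W')), x ∈ W' ∧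
      resR h (f i) = c * resR h (f i0) := by
    intro i
    obtain ⟨q, hq⟩ := hi0 i
    obtain ⟨V, hVW, hxV, m, hm⟩ := TopCat.Presheaf.exists_le_germ_eq X.presheaf q hxW0
    have e1 : ∀ l, (X.presheaf.germ V x hxV).hom (resR hVW (f l)) = γ l := fun l =>
      TopCat.Presheaf.germ_res_apply X.presheaf (homOfLE hVW) x hxV (f l)
    have h1 : (X.presheaf.germ V x hxV).hom (resR hVW (f i)) =
        (X.presheaf.germ V x hxV).hom (m * resR hVW (f i0)) := by
      rw [map_mul, e1, e1, hq, mul_comm]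
      congr 1
      exact hm.symm
    obtain ⟨W', hxW', iU, iV, e⟩ := TopCat.Presheaf.germ_eq X.presheaf x hxV hxV _ _ h1
    refine ⟨W', (leOfHom iU).trans hVW, resR (leOfHom iU) m, hxW', ?_⟩
    have e' : resR (leOfHom iU) (resR hVW (f i)) = resR (leOfHom iU) (m * resR hVW (f i0)) := by
      have hiV : iV = iU := Subsingleton.elim _ _
      rw [hiV] at e
      exact e
    rw [resR_resR, map_mul, resR_resR] at e'
    exact e'
  choose W' hW' c' hxW' hc' using hloc
  let W : X.Opens := Finset.univ.inf W'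
  have hWle : ∀ i, W ≤ W' i := fun i => Finset.inf_le (Finset.mem_univ i)
  have hxW : x ∈ W :=
    Finset.inf_induction (p := fun U : X.Opens => x ∈ U) trivial
      (fun a ha b hb => ⟨ha, hb⟩) (fun i _ => hxW' i)
  have hW0 : W ≤ W0 := (hWle i0).trans (hW' i0)
  refine ⟨W, i0, fun i => resR (hWle i) (c' i), hxW, ?_, ?_⟩
  · intro i
    have e1 : ∀ l, res L (le_top : W ≤ ⊤) (s l) = resR hW0 (f l) • res L hW0 g := by
      intro l
      rw [← res_smul, hf l, res_res]
    rw [e1 i, e1 i0, smul_smul]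
    congr 1
    have := congrArg (resR (hWle i)) (hc' i)
    rw [resR_resR, map_mul, resR_resR] at this
    exact this
  · intro V hV ρ ρ' h
    apply InvT.eqR_of_locally
    intro y hy
    refine ⟨V, le_rfl, hy, ?_⟩
    have hVW0 : V ≤ W0 := hV.trans hW0
    have e1 : res L (le_top : V ≤ ⊤) (s i0) = resR hVW0 (f i0) • res L hVW0 g := by
      rw [← res_smul, hf i0, res_res]
    rw [e1, smul_smul, smul_smul] at h
    have h2 : ρ * resR hVW0 (f i0) = ρ' * resR hVW0 (f i0) := (hg V hVW0).1 h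
    haveI : Nonempty (↑V : Scheme.{u}) := ⟨⟨y, hy⟩⟩
    have hne : resR hVW0 (f i0) ≠ 0 := by
      intro h0
      apply hf0
      apply map_injective_of_isIntegral X (homOfLE hVW0)
      rw [map_zero]
      exact h0
    haveI : IsDomain Γ(X, V) := inferInstance
    exact congrArg _ (mul_right_cancel₀ hne h2)

variable (hval : ∀ x : X, ValuationRing (X.presheaf.stalk x)) (hL : PicF.IsInvertible L)
  {r : ℕ} (s : Fin (r + 1) → Γ(L, ⊤)) (hs0 : ∃ i, s i ≠ 0)

/-- the submodule generated by the sections -/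
noncomputable abbrev N : LocalSub L := (GlobGen.spanPre s).loc

/-- the sections, as sections of the submodule -/
noncomputable def σs (i : Fin (r + 1)) : Γ((N s).obj, ⊤) :=
  (N s).mkSec (s i) ((GlobGen.spanPre s).le_loc (Submodule.subset_span ⟨i, res_self L _ (s i)⟩))

theorem ι_σs (i : Fin (r + 1)) : (N s).ι.app ⊤ (σs s i) = s i := rfl

include hval hL hs0 in
set_option maxHeartbeats 1600000 in
theorem exists_isGen_span (x : X) :
    ∃ (W : X.Opens) (i0 : Fin (r + 1)), x ∈ W ∧
      IsGen (N s).obj W (res (N s).obj (le_top : W ≤ ⊤) (σs s i0)) := by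
  classical
  obtain ⟨W, i0, c, hxW, hc, hinj⟩ := exists_local_gen hval hL s hs0 x
  refine ⟨W, i0, hxW, ?_⟩
  have hι : ∀ (V : X.Opens) (hV : V ≤ W),
      (N s).ι.app V (res (N s).obj hV (res (N s).obj (le_top : W ≤ ⊤) (σs s i0))) =
        res L (le_top : V ≤ ⊤) (s i0) := by
    intro V hV
    rw [res_res, QcExt.app_res, ι_σs]
  intro V hV
  constructor
  · intro ρ ρ' h
    apply hinj V hV
    have h2 := congrArg (fun z => (N s).ι.app V z) h
    simp only [Scheme.Modules.Hom.app_smul] at h2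
    rw [hι V hV] at h2
    exact h2
  · intro t
    have ht := (N s).ι_app_mem t
    -- elements of the span are multiples of `s i0`
    have hspan : ∀ (O : X.Opens) (_ : O ≤ W) (u : Γ(L, O)),
        u ∈ (GlobGen.spanPre s).carrier O → ∃ ρ : Γ(X, O), ρ • res L (le_top : O ≤ ⊤) (s i0) = u := by
      intro O hO u hu
      induction hu using Submodule.span_induction with
      | mem u hu =>
        obtain ⟨i, rfl⟩ := hu
        refine ⟨resR hO (c i), ?_⟩
        have := congrArg (res L hO) (hc i)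
        rw [res_res, res_smul, res_res] at this
        exact this.symm
      | zero => exact ⟨0, zero_smul _ _⟩
      | add a b _ _ ha hb =>
        obtain ⟨ρa, hρa⟩ := ha
        obtain ⟨ρb, hρb⟩ := hb
        exact ⟨ρa + ρb, by rw [add_smul, hρa, hρb]⟩
      | smul a b _ hb =>
        obtain ⟨ρb, hρb⟩ := hb
        exact ⟨a * ρb, by rw [mul_smul, hρb]⟩
    have hloc : ∀ y : V, ∃ (Wy : X.Opens) (hWy : Wy ≤ V) (ρ : Γ(X, Wy)), y.1 ∈ Wy ∧
        ρ • res L (le_top : Wy ≤ ⊤) (s i0) = res L hWy ((N s).ι.app V t) := by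
      intro y
      obtain ⟨Wy, hWy, hyWy, hm⟩ := ht y.1 y.2
      obtain ⟨ρ, hρ⟩ := hspan Wy (hWy.trans hV) _ hm
      exact ⟨Wy, hWy, ρ, hyWy, hρ⟩
    choose Wy hWy ρy hyWy hρy using hloc
    have hcompat : ∀ y y', resR (inf_le_left : Wy y ⊓ Wy y' ≤ Wy y) (ρy y) =
        resR (inf_le_right : Wy y ⊓ Wy y' ≤ Wy y') (ρy y') := by
      intro y y'
      apply hinj (Wy y ⊓ Wy y') ((inf_le_left.trans (hWy y)).trans hV)
      have h1 := congrArg (res L (inf_le_left : Wy y ⊓ Wy y' ≤ Wy y)) (hρy y)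
      have h2 := congrArg (res L (inf_le_right : Wy y ⊓ Wy y' ≤ Wy y')) (hρy y')
      rw [res_smul, res_res, res_res] at h1 h2
      rw [h1, h2]
    obtain ⟨ρ, hρ⟩ := InvT.glueR_of_compatible Wy V hWy
      (fun z hz => Opens.mem_iSup.2 ⟨⟨z, hz⟩, hyWy ⟨z, hz⟩⟩) ρy hcompat
    refine ⟨ρ, ?_⟩
    apply (N s).ι_app_injective V
    show (N s).ι.app V (ρ • res (N s).obj hV (res (N s).obj (le_top : W ≤ ⊤) (σs s i0))) =
      (N s).ι.app V t
    rw [Scheme.Modules.Hom.app_smul, hι V hV]
    apply TwistSec.eq_of_locally L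
    intro z hz
    refine ⟨Wy ⟨z, hz⟩, hWy ⟨z, hz⟩, hyWy ⟨z, hz⟩, ?_⟩
    rw [res_smul, res_res, hρ, hρy]

include hval hL hs0 in
theorem isInvertible_span : PicF.IsInvertible (N s).obj := by
  apply isInvertible_of_locGen
  intro x
  obtain ⟨W, i0, hxW, hg⟩ := exists_isGen_span hval hL s hs0 x
  exact ⟨W, _, hxW, hg⟩

include hval hL hs0 in
theorem generatedBy_span : ProjUP.GeneratedBy (N s).obj (σs s) := by
  apply VA1.generatedBy_of_cover
  intro x
  obtain ⟨W, i0, hxW, hg⟩ := exists_isGen_span hval hL s hs0 x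
  refine ⟨i0, ?_⟩
  apply le_genLocus_of_isGen _ _ hxW
  rw [secVal_homOfSec]
  exact hg

include hval hL hs0 in
/-- **the morphism attached to a family of sections of an invertible module** -/
theorem main (k : Type u) [Field k] (q : X ⟶ Spec (CommRingCat.of k)) :
    ∃ (φ : X ⟶ CohB1.ProjSpace r k)
      (α : (Scheme.Modules.pullback φ).obj (Twist.twistProjSpace r k 1) ⟶ L),
      φ ≫ CohB1.ProjSpace.toSpec r k = q ∧
        ∀ i, α.app ⊤ (ProjUP.pullSec φ (Twist.twistProjSpace r k 1) (ProjUP.coord r k i)) = s i := by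
  obtain ⟨φ, hφ, τ, hτ⟩ := Groth.Agent.S3572.result (R := k) r q (N s).obj
    (isInvertible_span hval hL s hs0) (σs s) (generatedBy_span hval hL s hs0)
  refine ⟨φ, τ.hom ≫ (N s).ι, hφ, fun i => ?_⟩
  show (N s).ι.app ⊤ (τ.hom.app ⊤ (ProjUP.pullSec φ _ (ProjUP.coord r k i))) = s i
  rw [hτ i, ι_σs]

end Geo

end Groth.Agent.Helper1.LinSerMap
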