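import Mathlib
import Groth.Agent.Lib.Helper1.LinSerMapA
import Groth.Prelude.Def_LinSer
import Groth.Prelude.Def_Omega3

/-!
# S6578: the morphism attached to a `g^r_d` on a regular proper curve (helper1)
-/

set_option autoImplicit false
set_option synthInstance.maxHeartbeats 400000
universe u
open CategoryTheory CategoryTheory.Limits AlgebraicGeometry TopologicalSpace Opposite IsLocalRing

namespace Groth.Agent.Helper1.LinSerMap

theorem coheight_le_topologicalKrullDim' {Y : Scheme.{u}} (y : Y) :
    (Order.coheight y : WithBot ℕ∞) ≤ topologicalKrullDim Y := by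
  letI := specializationOrder Y
  have h1 := Order.coheight_orderIso (irreducibleSetEquivPoints (α := Y)).symm y
  have h2 := Order.coheight_le_krullDim ((irreducibleSetEquivPoints (α := Y)).symm y)
  rw [h1] at h2
  exact h2

theorem valuationRing_of_regular' (R : Type u) [CommRing R] [IsDomain R] [IsRegularLocalRing R]
    (h : ringKrullDim R ≤ 1) : ValuationRing R := by
  have h1 : (Module.finrank (ResidueField R) (CotangentSpace R) : WithBot ℕ∞) = ringKrullDim R :=
    (IsRegularLocalRing.iff_finrank_cotangentSpace R).1 inferInstance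
  have h2 : Module.finrank (ResidueField R) (CotangentSpace R) ≤ 1 := by
    have : (Module.finrank (ResidueField R) (CotangentSpace R) : WithBot ℕ∞) ≤ 1 := h1 ▸ h
    exact_mod_cast this
  exact ((tfae_of_isNoetherianRing_of_isLocalRing_of_isDomain (R := R)).out 5 1).1 h2

theorem ringKrullDim_stalk_le' {X : Scheme.{u}} (hdim : topologicalKrullDim X ≤ 1) (x : X) :
    ringKrullDim (X.presheaf.stalk x) ≤ 1 := by
  rw [ringKrullDim_stalk_eq_coheight x]
  exact (coheight_le_topologicalKrullDim' x).trans hdim

theorem s6578 (k : Type u) [Field k] (X : Scheme.{u}) [X.Over (Spec (CommRingCat.of k))]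
    [IsIntegral X] [IsProper (X ↘ (Spec (CommRingCat.of k)))] (hdim : topologicalKrullDim X = 1)
    (hreg : ∀ x : X, IsRegularLocalRing (X.presheaf.stalk x))
    (d r : ℕ) (L : X.Modules) (s : Fin (r + 1) → LinSer.Sect X L)
    (hL : LinSer.IsLinSer k X L d r s) :
    ∃ (φ : X ⟶ CohB1.ProjSpace r k)
      (α : (Scheme.Modules.pullback φ).obj (Twist.twistProjSpace r k 1) ⟶ L),
      φ ≫ CohB1.ProjSpace.toSpec r k = X ↘ (Spec (CommRingCat.of k)) ∧
        ∀ i : Fin (r + 1), (α.val.app (Opposite.op ⊤)).hom
          (OmegaSh.pullSect φ (Twist.twistProjSpace r k 1) ⊤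
            (Twist.globalOf (CohB1.polyGrading r k)
              (⟨MvPolynomial.X i, MvPolynomial.isHomogeneous_X k i⟩ :
                (CohB1.polyGrading r k) 1))) = s i := by
  obtain ⟨hLinv, -, hindep⟩ := hL
  have hval : ∀ x : X, ValuationRing (X.presheaf.stalk x) := fun x => by
    haveI := hreg x
    exact valuationRing_of_regular' _ (ringKrullDim_stalk_le' hdim.le x)
  have hs0 : ∃ i, (show Γ(L, ⊤) from s i) ≠ 0 := by
    refine ⟨0, fun h0 => ?_⟩
    have h1 := hindep (Pi.single 0 1) (by
      apply Finset.sum_eq_zero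
      intro i _
      by_cases h : i = 0
      · subst h
        have : s 0 = 0 := h0
        rw [this, smul_zero]
      · rw [Pi.single_eq_of_ne h, map_zero, zero_smul])
    have h2 := congrFun h1 0
    rw [Pi.single_eq_same] at h2
    exact one_ne_zero h2
  obtain ⟨φ, α, hφ, hα⟩ := main hval hLinv (fun i => (show Γ(L, ⊤) from s i)) hs0 k
    (X ↘ (Spec (CommRingCat.of k)))
  exact ⟨φ, α, hφ, hα⟩

end Groth.Agent.Helper1.LinSerMap
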