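import Groth.Prelude.Def_LinTop
import Mathlib

/-! Helper lemmas about ideals of definition in linearly topologized rings (helper1). -/

namespace Groth.Agent.Helper1.LinTop

open Filter Topology

universe u

variable {A : Type u} [CommRing A] [TopologicalSpace A]

theorem iod_open {I : Ideal A} (hI : LinTop.IsIdealOfDefinition A I) : IsOpen (I : Set A) := hI.1

theorem iod_mem_nhds {I : Ideal A} (hI : LinTop.IsIdealOfDefinition A I) : (I : Set A) ∈ 𝓝 (0 : A) :=
  hI.1.mem_nhds I.zero_mem

/-- For ideals of definition `I`, `J`, some positive power of `J` is in `I`. -/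
theorem iod_pow_le {I J : Ideal A} (hI : IsOpen (I : Set A)) (hJ : LinTop.IsIdealOfDefinition A J) :
    ∃ n : ℕ, 0 < n ∧ J ^ n ≤ I := by
  obtain ⟨n, hn, h⟩ := hJ.2 I (hI.mem_nhds I.zero_mem)
  exact ⟨n, hn, fun x hx => h hx⟩

theorem isOpen_of_le [IsTopologicalRing A] {I J : Ideal A} (hI : IsOpen (I : Set A)) (h : I ≤ J) :
    IsOpen (J : Set A) :=
  AddSubgroup.isOpen_mono (H₁ := I.toAddSubgroup) (H₂ := J.toAddSubgroup) h hI

/-- An open ideal some power of which lies in an ideal of definition is an ideal of definition. -/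
theorem iod_of_pow_le {I J : Ideal A} (hI : LinTop.IsIdealOfDefinition A I)
    (hJ : IsOpen (J : Set A)) {n : ℕ} (hn : 0 < n) (h : J ^ n ≤ I) :
    LinTop.IsIdealOfDefinition A J := by
  refine ⟨hJ, fun U hU => ?_⟩
  obtain ⟨m, hm, hmU⟩ := hI.2 U hU
  refine ⟨n * m, Nat.mul_pos hn hm, ?_⟩
  intro x hx
  apply hmU
  have : J ^ (n * m) ≤ I ^ m := by
    rw [pow_mul]
    exact Ideal.pow_right_mono h m
  exact this hx

theorem add_pow_le (I I' : Ideal A) {n : ℕ} (h : I' ^ n ≤ I) : (I ⊔ I') ^ n ≤ I := by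
  induction n generalizing I with
  | zero =>
    simp only [pow_zero, Ideal.one_eq_top, top_le_iff] at h ⊢
    exact h
  | succ k ih =>
    -- (I ⊔ I')^(k+1) = (I ⊔ I')^k * (I ⊔ I') ≤ (I ⊔ I'^k) * (I ⊔ I') ≤ I ⊔ I'^(k+1)
    have key : ∀ m : ℕ, (I ⊔ I') ^ m ≤ I ⊔ I' ^ m := by
      intro m
      induction m with
      | zero => simp
      | succ m ihm =>
        rw [pow_succ]
        calc (I ⊔ I') ^ m * (I ⊔ I') ≤ (I ⊔ I' ^ m) * (I ⊔ I') := Ideal.mul_mono_left ihm
          _ ≤ I ⊔ I' ^ (m + 1) := by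
            rw [Ideal.sup_mul, Ideal.mul_sup, Ideal.mul_sup]
            refine sup_le (sup_le ?_ ?_) (sup_le ?_ ?_)
            · exact le_sup_of_le_left Ideal.mul_le_right
            · exact le_sup_of_le_left Ideal.mul_le_left
            · exact le_sup_of_le_left Ideal.mul_le_right
            · rw [pow_succ]; exact le_sup_right
    exact (key _).trans (sup_le le_rfl h)

theorem iod_sup [IsTopologicalRing A] {I I' : Ideal A} (hI : LinTop.IsIdealOfDefinition A I)
    {n : ℕ} (hn : 0 < n) (h : I' ^ n ≤ I) : LinTop.IsIdealOfDefinition A (I ⊔ I') :=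
  iod_of_pow_le hI (isOpen_of_le hI.1 le_sup_left) hn (add_pow_le I I' h)

/-- Elements of an ideal of definition are topologically nilpotent. -/
theorem isTopNilp_of_mem {J : Ideal A} (hJ : LinTop.IsIdealOfDefinition A J) {x : A} (hx : x ∈ J) :
    IsTopologicallyNilpotent x := by
  intro U hU
  obtain ⟨m, -, hm⟩ := hJ.2 U (mem_nhds_iff.mpr (mem_nhds_iff.mp hU))
  rw [Filter.mem_map, Filter.mem_atTop_sets]
  refine ⟨m, fun k hk => ?_⟩
  apply hm
  exact Ideal.pow_le_pow_right hk (Ideal.pow_mem_pow hx k)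

/-- If `x ^ n ∈ I` for an ideal of definition `I` then `x` is topologically nilpotent. -/
theorem isTopNilp_of_pow_mem {I : Ideal A} (hI : LinTop.IsIdealOfDefinition A I) {x : A} {n : ℕ}
    (hx : x ^ n ∈ I) : IsTopologicallyNilpotent x := by
  intro U hU
  obtain ⟨m, -, hm⟩ := hI.2 U hU
  rw [Filter.mem_map, Filter.mem_atTop_sets]
  refine ⟨n * m, fun k hk => ?_⟩
  apply hm
  obtain ⟨d, rfl⟩ := Nat.exists_eq_add_of_le hk
  change x ^ (n * m + d) ∈ I ^ m
  rw [pow_add, pow_mul]
  exact Ideal.mul_mem_right _ _ (Ideal.pow_mem_pow hx m)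

theorem exists_pow_mem_of_isTopNilp {I : Ideal A} (hI : IsOpen (I : Set A)) {x : A}
    (hx : IsTopologicallyNilpotent x) : ∃ n : ℕ, 0 < n ∧ x ^ n ∈ I := by
  have := hx (hI.mem_nhds I.zero_mem)
  rw [Filter.mem_map, Filter.mem_atTop_sets] at this
  obtain ⟨a, ha⟩ := this
  exact ⟨a + 1, Nat.succ_pos _, ha (a + 1) (Nat.le_succ _)⟩

theorem isTopNilp_iff {I : Ideal A} (hI : LinTop.IsIdealOfDefinition A I) (x : A) :
    IsTopologicallyNilpotent x ↔ IsNilpotent (Ideal.Quotient.mk I x) := by
  constructor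
  · intro hx
    obtain ⟨n, -, hn⟩ := exists_pow_mem_of_isTopNilp hI.1 hx
    exact ⟨n, by rw [← map_pow]; exact Ideal.Quotient.eq_zero_iff_mem.mpr hn⟩
  · rintro ⟨n, hn⟩
    rw [← map_pow, Ideal.Quotient.eq_zero_iff_mem] at hn
    exact isTopNilp_of_pow_mem hI hn

/-- An ideal contained in some ideal of definition iff a power is in `I`. -/
theorem le_iod_iff [IsTopologicalRing A] {I : Ideal A} (hI : LinTop.IsIdealOfDefinition A I)
    (I' : Ideal A) :
    (∃ J : Ideal A, LinTop.IsIdealOfDefinition A J ∧ I' ≤ J) ↔ ∃ n : ℕ, 0 < n ∧ I' ^ n ≤ I := by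
  constructor
  · rintro ⟨J, hJ, hle⟩
    obtain ⟨n, hn, h⟩ := iod_pow_le hI.1 hJ
    exact ⟨n, hn, (Ideal.pow_right_mono hle n).trans h⟩
  · rintro ⟨n, hn, h⟩
    exact ⟨I ⊔ I', iod_sup hI hn h, le_sup_right⟩

theorem mem_iod_iff [IsTopologicalRing A] {I : Ideal A} (hI : LinTop.IsIdealOfDefinition A I)
    (x : A) :
    (∃ J : Ideal A, LinTop.IsIdealOfDefinition A J ∧ x ∈ J) ↔ IsTopologicallyNilpotent x := by
  constructor
  · rintro ⟨J, hJ, hx⟩
    exact isTopNilp_of_mem hJ hx
  · intro hx
    obtain ⟨n, hn, hxn⟩ := exists_pow_mem_of_isTopNilp hI.1 hx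
    have : (Ideal.span {x}) ^ n ≤ I := by
      rw [Ideal.span_singleton_pow, Ideal.span_singleton_le_iff_mem]
      exact hxn
    obtain ⟨J, hJ, hle⟩ := (le_iod_iff hI _).mpr ⟨n, hn, this⟩
    exact ⟨J, hJ, hle (Ideal.mem_span_singleton_self x)⟩

theorem eq_topologicalNilradical_of_largest [IsTopologicalRing A] [IsLinearTopology A A]
    {I₀ : Ideal A} (h₀ : LinTop.IsIdealOfDefinition A I₀)
    (hmax : ∀ J : Ideal A, LinTop.IsIdealOfDefinition A J → J ≤ I₀) :
    I₀ = topologicalNilradical A := by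
  apply le_antisymm
  · intro x hx
    exact isTopNilp_of_mem h₀ hx
  · intro x hx
    obtain ⟨J, hJ, hxJ⟩ := (mem_iod_iff h₀ x).mpr hx
    exact hmax J hJ hxJ

theorem topologicalNilradical_eq_comap [IsTopologicalRing A] [IsLinearTopology A A]
    {I : Ideal A} (hI : LinTop.IsIdealOfDefinition A I) :
    topologicalNilradical A = Ideal.comap (Ideal.Quotient.mk I) (nilradical (A ⧸ I)) := by
  ext x
  rw [Ideal.mem_comap, mem_nilradical]
  exact isTopNilp_iff hI x

theorem largest_iff [IsTopologicalRing A] [IsLinearTopology A A]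
    {I : Ideal A} (hI : LinTop.IsIdealOfDefinition A I) :
    (∃ I₀ : Ideal A, LinTop.IsIdealOfDefinition A I₀ ∧
        ∀ J : Ideal A, LinTop.IsIdealOfDefinition A J → J ≤ I₀) ↔
      IsNilpotent (nilradical (A ⧸ I)) := by
  have hmap : Ideal.map (Ideal.Quotient.mk I) (topologicalNilradical A) = nilradical (A ⧸ I) := by
    rw [topologicalNilradical_eq_comap hI]
    exact Ideal.map_comap_of_surjective _ Ideal.Quotient.mk_surjective _
  constructor
  · rintro ⟨I₀, h₀, hmax⟩
    have heq := eq_topologicalNilradical_of_largest h₀ hmax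
    obtain ⟨n, -, hn⟩ := iod_pow_le hI.1 h₀
    refine ⟨n, ?_⟩
    rw [← hmap, ← Ideal.map_pow, Ideal.zero_eq_bot, Ideal.map_eq_bot_iff_le_ker, Ideal.mk_ker,
      ← heq]
    exact hn
  · rintro ⟨n, hn⟩
    have hle : (topologicalNilradical A) ^ (n + 1) ≤ I := by
      have : (topologicalNilradical A) ^ n ≤ I := by
        rw [← hmap, ← Ideal.map_pow, Ideal.zero_eq_bot, Ideal.map_eq_bot_iff_le_ker,
          Ideal.mk_ker] at hn
        exact hn
      exact (Ideal.pow_le_pow_right (Nat.le_succ n)).trans this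
    have hopen : IsOpen ((topologicalNilradical A : Ideal A) : Set A) :=
      isOpen_of_le hI.1 (fun x hx => isTopNilp_of_mem hI hx)
    refine ⟨topologicalNilradical A, iod_of_pow_le hI hopen (Nat.succ_pos n) hle, ?_⟩
    intro J hJ x hx
    exact isTopNilp_of_mem hJ hx

section Unif

variable {B : Type u} [CommRing B] [UniformSpace B] [IsUniformAddGroup B] [IsTopologicalRing B]

theorem nonarch_of_linear [IsLinearTopology B B] : NonarchimedeanAddGroup B where
  is_nonarchimedean := by
    intro U hU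
    obtain ⟨J, hJo, hJU⟩ :=
      (IsLinearTopology.hasBasis_open_ideal (R := B)).mem_iff.mp hU
    exact ⟨⟨J.toAddSubgroup, hJo⟩, hJU⟩

/-- In an admissible ring, `1 + x` is a unit for `x` in an ideal of definition. -/
theorem isUnit_one_add (hA : LinTop.IsAdmissible B) {I : Ideal B}
    (hI : LinTop.IsIdealOfDefinition B I) {x : B} (hx : x ∈ I) : IsUnit (1 + x) := by
  obtain ⟨⟨hlin, -⟩, hT2, hC⟩ := hA
  have := hlin
  have := hT2
  have := hC
  have : NonarchimedeanAddGroup B := nonarch_of_linear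
  have hnil : IsTopologicallyNilpotent (-x) := isTopNilp_of_mem hI (I.neg_mem hx)
  have hsum : Summable ((-x) ^ ·) := by
    apply NonarchimedeanAddGroup.summable_of_tendsto_cofinite_zero
    rw [Nat.cofinite_eq_atTop]
    exact hnil
  have h := hsum.one_sub_mul_tsum_pow
  rw [sub_neg_eq_add] at h
  exact IsUnit.of_mul_eq_one _ h

theorem le_jacobson (hA : LinTop.IsAdmissible B) {I : Ideal B}
    (hI : LinTop.IsIdealOfDefinition B I) : I ≤ (⊥ : Ideal B).jacobson := by
  intro x hx
  rw [Ideal.mem_jacobson_bot]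
  intro y
  have : x * y ∈ I := I.mul_mem_right y hx
  have h := isUnit_one_add hA hI this
  rwa [add_comm] at h

end Unif

/-- Nakayama: surjectivity can be tested modulo an ideal in the Jacobson radical. -/
theorem surjective_of_rTensor_quot {R : Type u} [CommRing R] {J : Ideal R}
    (hJ : J ≤ (⊥ : Ideal R).jacobson) {M N : Type u} [AddCommGroup M] [Module R M]
    [AddCommGroup N] [Module R N] [Module.Finite R N] (f : M →ₗ[R] N)
    (h : Function.Surjective (f.rTensor (R ⧸ J))) : Function.Surjective f := by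
  rw [← LinearMap.range_eq_top]
  set C := N ⧸ LinearMap.range f
  have hsub : Subsingleton (TensorProduct R C (R ⧸ J)) := by
    refine ⟨fun a b => ?_⟩
    have hq : Function.Surjective ((LinearMap.range f).mkQ.rTensor (R ⧸ J)) :=
      LinearMap.rTensor_surjective _ (Submodule.mkQ_surjective _)
    have hz : ∀ c : TensorProduct R C (R ⧸ J), c = 0 := by
      intro c
      obtain ⟨n, rfl⟩ := hq c
      obtain ⟨m, rfl⟩ := h n
      rw [← LinearMap.comp_apply, ← LinearMap.rTensor_comp]
      have : (LinearMap.range f).mkQ ∘ₗ f = 0 := by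
        ext x
        simp
      rw [this, LinearMap.rTensor_zero, LinearMap.zero_apply]
    rw [hz a, hz b]
  have hsub2 : Subsingleton (C ⧸ (J • (⊤ : Submodule R C))) :=
    ((TensorProduct.comm R C (R ⧸ J)).trans
      (TensorProduct.quotTensorEquivQuotSMul C J)).symm.toEquiv.subsingleton
  have htop : J • (⊤ : Submodule R C) = ⊤ := Submodule.Quotient.subsingleton_iff.mp hsub2
  have hbot : (⊤ : Submodule R C) = ⊥ :=
    Submodule.eq_bot_of_le_smul_of_le_jacobson_bot J ⊤ Module.Finite.fg_top htop.ge hJ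
  have : Subsingleton C := by
    rw [← Submodule.subsingleton_iff R]
    exact subsingleton_of_bot_eq_top hbot.symm
  exact Submodule.Quotient.subsingleton_iff.mp this

section Unif2

variable {B : Type u} [CommRing B] [UniformSpace B] [IsUniformAddGroup B] [IsTopologicalRing B]

omit [IsUniformAddGroup B] [IsTopologicalRing B] in
theorem tendsto_zero_of_mem_pow {J : Ideal B} (hJ : LinTop.IsIdealOfDefinition B J)
    (c : ℕ → B) (hc : ∀ j, c j ∈ J ^ j) : Tendsto c cofinite (𝓝 0) := by
  rw [Nat.cofinite_eq_atTop]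
  intro U hU
  obtain ⟨N, -, hN⟩ := hJ.2 U hU
  rw [Filter.mem_map, Filter.mem_atTop_sets]
  refine ⟨N, fun j hj => ?_⟩
  exact hN (Ideal.pow_le_pow_right hj (hc j))

theorem isAdicComplete_of_fg_of_le (hA : LinTop.IsAdmissible B) {J : Ideal B}
    (hJ : LinTop.IsIdealOfDefinition B J) {I : Ideal B} (hI : I.FG) (hIJ : I ≤ J) :
    IsAdicComplete I B := by
  obtain ⟨⟨hlin, -⟩, hT2, hC⟩ := hA
  have := hlin
  have := hT2
  have := hC
  have : NonarchimedeanAddGroup B := nonarch_of_linear
  have hsmul : ∀ n : ℕ, (I ^ n • ⊤ : Submodule B B) = I ^ n := fun n => by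
    rw [smul_eq_mul, Ideal.mul_top]
  have hH : IsHausdorff I B := by
    refine ⟨fun x hx => ?_⟩
    by_contra hne
    have hU : ({x}ᶜ : Set B) ∈ 𝓝 (0 : B) :=
      isOpen_compl_singleton.mem_nhds (fun h => hne (Set.mem_singleton_iff.mp h).symm)
    obtain ⟨N, -, hN⟩ := hJ.2 _ hU
    have h1 := hx N
    rw [SModEq.sub_mem, sub_zero, hsmul] at h1
    exact hN (Ideal.pow_right_mono hIJ N h1) rfl
  have hP : IsPrecomplete I B := by
    refine ⟨fun f hf => ?_⟩
    have hf' : ∀ m n, m ≤ n → f n - f m ∈ I ^ m := fun m n hmn => by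
      have h1 := (hf hmn).symm
      rwa [SModEq.sub_mem, hsmul] at h1
    set d : ℕ → B := fun m => f (m + 1) - f m with hd
    have hdI : ∀ m, d m ∈ I ^ m := fun m => hf' m (m + 1) (Nat.le_succ m)
    have hsum : Summable d := by
      apply NonarchimedeanAddGroup.summable_of_tendsto_cofinite_zero
      exact tendsto_zero_of_mem_pow hJ d (fun m => Ideal.pow_right_mono hIJ m (hdI m))
    have htel : ∀ n, f n = f 0 + ∑ i ∈ Finset.range n, d i := fun n => by
      rw [Finset.sum_range_sub]; ring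
    refine ⟨f 0 + ∑' i, d i, fun n => ?_⟩
    rw [SModEq.sub_mem, hsmul]
    have hsplit := hsum.sum_add_tsum_nat_add n
    have key : ∑' j, d (j + n) ∈ I ^ n := by
      obtain ⟨r, g, hg⟩ := Submodule.fg_iff_exists_fin_generating_family.mp (hI.pow (n := n))
      have hex : ∀ j, ∃ a : Fin r → B, (∀ k, a k ∈ I ^ j) ∧ ∑ k, a k * g k = d (j + n) := by
        intro j
        have hmem : d (j + n) ∈ I ^ j • Submodule.span B (Set.range g) := by
          rw [hg, smul_eq_mul, ← pow_add]
          exact hdI (j + n)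
        obtain ⟨a, ha, hasum⟩ := (Submodule.mem_ideal_smul_span_iff_exists_sum _ _ _).mp hmem
        refine ⟨fun k => a k, ha, ?_⟩
        rw [← hasum]
        symm
        rw [Finsupp.sum_fintype a (fun i c => c • g i) (fun i => zero_smul _ _)]
        rfl
      choose a ha hasum using hex
      have hsk : ∀ k, Summable (fun j => a j k) := fun k => by
        apply NonarchimedeanAddGroup.summable_of_tendsto_cofinite_zero
        exact tendsto_zero_of_mem_pow hJ _ (fun j => Ideal.pow_right_mono hIJ j (ha j k))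
      have h2 : ∑' j, d (j + n) = ∑ k, (∑' j, a j k) * g k := by
        have : (fun j => d (j + n)) = fun j => ∑ k, a j k * g k := by
          funext j; exact (hasum j).symm
        rw [this, Summable.tsum_finsetSum (fun k _ => (hsk k).mul_right (g k))]
        refine Finset.sum_congr rfl (fun k _ => ?_)
        exact (hsk k).tsum_mul_right (g k)
      rw [h2, ← hg]
      refine Submodule.sum_mem _ (fun k _ => ?_)
      have : (∑' j, a j k) * g k = (∑' j, a j k) • g k := rfl
      rw [this]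
      exact Submodule.smul_mem _ _ (Submodule.subset_span ⟨k, rfl⟩)
    have : f n - (f 0 + ∑' i, d i) = - ∑' j, d (j + n) := by
      rw [htel n, ← hsplit]; ring
    rw [this]
    exact (I ^ n).neg_mem key
  exact { toIsHausdorff := hH, toIsPrecomplete := hP }

end Unif2

end Groth.Agent.Helper1.LinTop
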