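import Groth.Agent.Lib.Helper1.QuasiReg
universe u
open MvPolynomial
namespace Groth.Agent.Helper1.LinType
variable {A : Type u} [CommRing A]

/-- the ideal of linear (Koszul) relations -/
noncomputable def L {n : ℕ} (a : Fin n → A) : Ideal (MvPolynomial (Fin n) A) :=
  Ideal.span {q | ∃ i j : Fin n, q = C (a i) * X j - C (a j) * X i}

/-- every homogeneous form vanishing at `a` lies in `L a` -/
def LinearType {n : ℕ} (a : Fin n → A) : Prop :=
  ∀ (d : ℕ) (P : MvPolynomial (Fin n) A), P.IsHomogeneous d → eval a P = 0 → P ∈ L a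

theorem rename_mem_L {m n : ℕ} (τ : Fin m → Fin n) (a : Fin n → A) {P : MvPolynomial (Fin m) A}
    (hP : P ∈ L (a ∘ τ)) : rename τ P ∈ L a := by
  have : (L (a ∘ τ)).map (rename τ : MvPolynomial (Fin m) A →ₐ[A] _).toRingHom ≤ L a := by
    rw [L, Ideal.map_span, Ideal.span_le]
    rintro _ ⟨_, ⟨i, j, rfl⟩, rfl⟩
    apply Ideal.subset_span
    refine ⟨τ i, τ j, ?_⟩
    simp
  exact this (Ideal.mem_map_of_mem _ hP)

theorem linearType_comp_equiv {n : ℕ} (a : Fin n → A) (σ : Fin n ≃ Fin n) (h : LinearType a) :
    LinearType (a ∘ σ) := by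
  intro d P hP hev
  have h1 : rename σ P ∈ L a := h d _ hP.rename_isHomogeneous (by rwa [eval_rename])
  have h2 : (a ∘ σ) ∘ σ.symm = a := by funext i; simp
  have h3 := rename_mem_L σ.symm (a ∘ σ) (P := rename σ P) (by rw [h2]; exact h1)
  rw [rename_rename] at h3
  have : (σ.symm ∘ σ) = id := by funext i; simp
  rwa [this, rename_id_apply] at h3

theorem exists_sum_of_mem_mul {c : ℕ} (f : Fin c → A) (N : Ideal A) (x : A)
    (hx : x ∈ Ideal.span (Set.range f) * N) :
    ∃ y : Fin c → A, (∀ i, y i ∈ N) ∧ x = ∑ i, f i * y i := by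
  refine Submodule.mul_induction_on hx ?_ ?_
  · intro r hr n hn
    obtain ⟨c', hc'⟩ := Ideal.mem_span_range_iff_exists_fun.mp hr
    refine ⟨fun i => c' i * n, fun i => Ideal.mul_mem_left _ _ hn, ?_⟩
    rw [← hc', Finset.sum_mul]
    exact Finset.sum_congr rfl fun i _ => by ring
  · rintro x y ⟨y1, h1, rfl⟩ ⟨y2, h2, rfl⟩
    exact ⟨y1 + y2, fun i => Ideal.add_mem _ (h1 i) (h2 i), by
      simp [mul_add, Finset.sum_add_distrib]⟩

theorem finSuccEquiv_rename_succ {c : ℕ} (q : MvPolynomial (Fin c) A) :
    finSuccEquiv A c (rename Fin.succ q) = Polynomial.C q := by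
  induction q using MvPolynomial.induction_on with
  | C r => simp [finSuccEquiv_apply]
  | add p q hp hq => rw [map_add, map_add, hp, hq, map_add]
  | mul_X p i hp => rw [map_mul, map_mul, hp, rename_X, finSuccEquiv_X_succ, map_mul]

theorem linearType_fin_zero (f : Fin 0 → A) : LinearType f := by
  intro d P _ hev
  have hP' : P = C (P.coeff 0) := by
    ext e
    have he : e = 0 := Subsingleton.elim _ _
    rw [he, coeff_C]; simp
  rw [hP', eval_C] at hev
  rw [hP', hev, map_zero]
  exact Ideal.zero_mem _

theorem isHomogeneous_of_X_mul {n : ℕ} (i : Fin n) (G : MvPolynomial (Fin n) A) (d : ℕ)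
    (h : (X i * G).IsHomogeneous (d + 1)) : G.IsHomogeneous d := by
  classical
  intro m hm
  have h1 : coeff (Finsupp.single i 1 + m) (X i * G) ≠ 0 := by rwa [coeff_X_mul]
  have h2 := h h1
  rw [map_add] at h2
  have h3 : Finsupp.weight (1 : Fin n → ℕ) (Finsupp.single i 1) = 1 := by
    simp [Finsupp.weight_single]
  omega

theorem linearType_cons {c : ℕ} (f' : Fin c → A) (hq : CAlgX.IsQuasiRegular f') (g : A)
    (hg : ∀ x, g * x ∈ Ideal.span (Set.range f') → x ∈ Ideal.span (Set.range f'))
    (hK : LinearType f') : LinearType (Fin.cons g f' : Fin (c + 1) → A) := by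
  classical
  intro d
  induction d with
  | zero =>
    intro P hP hev
    have hPC : P = C (P.coeff 0) :=
      (totalDegree_eq_zero_iff_eq_C).mp (Nat.le_zero.mp hP.totalDegree_le)
    rw [hPC, eval_C] at hev
    rw [hPC, hev, map_zero]
    exact Ideal.zero_mem _
  | succ d ih =>
    intro F hF hev
    set f : Fin (c + 1) → A := Fin.cons g f' with hf
    have hfs : f ∘ Fin.succ = f' := by funext i; simp [hf]
    have hf0 : f 0 = g := by simp [hf]
    set p := finSuccEquiv A c F with hp
    set H₀ := p.coeff 0 with hH₀d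
    set G := (finSuccEquiv A c).symm p.divX with hGd
    have hH₀ : H₀.IsHomogeneous (d + 1) := hF.finSuccEquiv_coeff_isHomogeneous 0 (d + 1) (by omega)
    have hFdec : F = X 0 * G + rename Fin.succ H₀ := by
      apply (finSuccEquiv A c).injective
      rw [map_add, map_mul, hGd, AlgEquiv.apply_symm_apply, finSuccEquiv_X_zero,
        finSuccEquiv_rename_succ, mul_comm]
      exact (Polynomial.divX_mul_X_add p).symm
    have hXG : (X 0 * G).IsHomogeneous (d + 1) := by
      have h1 := hF.sub (hH₀.rename_isHomogeneous (f := Fin.succ))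
      have h2 : F - rename Fin.succ H₀ = X 0 * G := by rw [hFdec]; ring
      rwa [h2] at h1
    have hG : G.IsHomogeneous d := isHomogeneous_of_X_mul 0 G d hXG
    have hevF : g * eval f G + eval f' H₀ = 0 := by
      have := hev
      rw [hFdec, map_add, map_mul, eval_X, eval_rename, hfs, hf0] at this
      exact this
    -- g * eval f G ∈ J'^(d+1)
    have h1 : g * eval f G ∈ Ideal.span (Set.range f') ^ (d + 1) := by
      have : g * eval f G = - eval f' H₀ := by linear_combination hevF
      rw [this]
      exact Ideal.neg_mem_iff _ |>.mpr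
        ((Ideal.mem_span_pow_iff_exists_isHomogeneous _ _).mpr ⟨H₀, hH₀, rfl⟩)
    have h2 := QuasiReg.mem_pow_of_mul_mem f' hq g hg (d + 1) _ h1
    rw [pow_succ'] at h2
    obtain ⟨y, hy, hyG⟩ := exists_sum_of_mem_mul f' _ _ h2
    have hH' : ∀ i, ∃ Hi : MvPolynomial (Fin c) A, Hi.IsHomogeneous d ∧ eval f' Hi = y i := fun i =>
      (Ideal.mem_span_pow_iff_exists_isHomogeneous _ _).mp (hy i)
    choose H' hH'h hH'e using hH'
    -- H' := Σ X_i H'_i,  H'' := Σ C(f'_i) rename succ H'_i
    set Hs : MvPolynomial (Fin c) A := ∑ i, X i * H' i with hHs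
    set Hss : MvPolynomial (Fin (c + 1)) A := ∑ i, C (f' i) * rename Fin.succ (H' i) with hHss
    have hHsh : Hs.IsHomogeneous (d + 1) := by
      refine IsHomogeneous.sum _ _ _ fun i _ => ?_
      have := (isHomogeneous_X A i).mul (hH'h i)
      have h1d : 1 + d = d + 1 := by omega
      exact h1d ▸ this
    have hHssh : Hss.IsHomogeneous d := by
      refine IsHomogeneous.sum _ _ _ fun i _ => ?_
      have := (isHomogeneous_C (Fin (c + 1)) (f' i)).mul
        ((hH'h i).rename_isHomogeneous (f := Fin.succ))
      rwa [zero_add] at this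
    have hHse : eval f' Hs = eval f G := by
      rw [hHs, map_sum, hyG]
      refine Finset.sum_congr rfl fun i _ => ?_
      rw [map_mul, eval_X, hH'e]
    have hHsse : eval f Hss = eval f G := by
      rw [hHss, map_sum, hyG]
      refine Finset.sum_congr rfl fun i _ => ?_
      rw [map_mul, eval_C, eval_rename, hfs, hH'e]
    -- first piece: C g * Hs + H₀ ∈ L f'
    have hA : C g * Hs + H₀ ∈ L f' := by
      refine hK (d + 1) _ ?_ ?_
      · have := (isHomogeneous_C (Fin c) g).mul hHsh
        rw [zero_add] at this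
        exact this.add hH₀
      · rw [map_add, map_mul, eval_C, hHse]
        exact hevF
    have hA' : rename Fin.succ (C g * Hs + H₀) ∈ L f :=
      rename_mem_L Fin.succ f (by rw [hfs]; exact hA)
    -- second piece
    have hB : G - Hss ∈ L f := by
      refine ih _ (hG.sub hHssh) ?_
      rw [map_sub, hHsse, sub_self]
    -- third piece
    have hC : C g * rename Fin.succ Hs - X 0 * Hss ∈ L f := by
      have : C g * rename Fin.succ Hs - X 0 * Hss =
          ∑ i, (C (f 0) * X i.succ - C (f i.succ) * X 0) * rename Fin.succ (H' i) := by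
        rw [hHs, hHss, map_sum, Finset.mul_sum, Finset.mul_sum, ← Finset.sum_sub_distrib]
        refine Finset.sum_congr rfl fun i _ => ?_
        rw [map_mul, rename_X, hf0]
        have : f i.succ = f' i := by simp [hf]
        rw [this]
        ring
      rw [this]
      refine Ideal.sum_mem _ fun i _ => Ideal.mul_mem_right _ _ (Ideal.subset_span ⟨0, i.succ, rfl⟩)
    have : F = X 0 * (G - Hss) + rename Fin.succ (C g * Hs + H₀) -
        (C g * rename Fin.succ Hs - X 0 * Hss) := by
      rw [hFdec, map_add, map_mul, rename_C]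
      ring
    rw [this]
    exact Ideal.sub_mem _ (Ideal.add_mem _ (Ideal.mul_mem_left _ _ hB) hA') hC

theorem linearType_of_isWeaklyRegular : ∀ (c : ℕ) (f : Fin c → A),
    RingTheory.Sequence.IsWeaklyRegular A (List.ofFn f) → LinearType f := by
  intro c
  induction c with
  | zero => intro f _; exact linearType_fin_zero f
  | succ c ih =>
    intro f hf
    have hf0 := hf
    rw [List.ofFn_succ', List.concat_eq_append,
      RingTheory.Sequence.isWeaklyRegular_append_iff] at hf
    obtain ⟨hf1, hf2⟩ := hf
    rw [RingTheory.Sequence.isWeaklyRegular_singleton_iff] at hf2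
    set f' : Fin c → A := fun i => f (Fin.castSucc i) with hf'
    have hq' := QuasiReg.isQuasiRegular_of_isWeaklyRegular c f' hf1
    have hN : (Ideal.ofList (List.ofFn f') • (⊤ : Submodule A A)) = Ideal.span (Set.range f') := by
      rw [QuasiReg.ofList_ofFn, smul_eq_mul, Ideal.mul_top]
    have hg : ∀ x, f (Fin.last c) * x ∈ Ideal.span (Set.range f') →
        x ∈ Ideal.span (Set.range f') := by
      intro x hx
      rw [← hN] at hx ⊢
      have h1 : f (Fin.last c) • (Submodule.Quotient.mk x :
          A ⧸ (Ideal.ofList (List.ofFn f') • (⊤ : Submodule A A))) =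
          f (Fin.last c) • (0 : A ⧸ (Ideal.ofList (List.ofFn f') • (⊤ : Submodule A A))) := by
        rw [smul_zero, ← Submodule.Quotient.mk_smul, Submodule.Quotient.mk_eq_zero]
        exact hx
      exact (Submodule.Quotient.mk_eq_zero _).mp (hf2 h1)
    have hcons := linearType_cons f' hq' (f (Fin.last c)) hg (ih f' hf1)
    have hperm : f = (Fin.cons (f (Fin.last c)) f' : Fin (c + 1) → A) ∘ (finRotate (c + 1)) := by
      funext i
      refine Fin.lastCases ?_ (fun j => ?_) i
      · simp
      · simp [hf']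
    rw [hperm]
    exact linearType_comp_equiv _ _ hcons

/-- the Rees map -/
noncomputable def φ {n : ℕ} (a : Fin n → A) : MvPolynomial (Fin n) A →ₐ[A] Polynomial A :=
  aeval (fun i : Fin n => Polynomial.C (a i) * (Polynomial.X : Polynomial A))

theorem φ_apply {n : ℕ} (a : Fin n → A) (P : MvPolynomial (Fin n) A) :
    φ a P = ∑ d ∈ P.support, Polynomial.C (P.coeff d * ∏ i, a i ^ d i) *
      Polynomial.X ^ (∑ i, d i) := by
  unfold φ
  rw [aeval_def, eval₂_eq']
  refine Finset.sum_congr rfl fun d _ => ?_
  have : ∏ i, (Polynomial.C (a i) * (Polynomial.X : Polynomial A)) ^ d i =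
      Polynomial.C (∏ i, a i ^ d i) * Polynomial.X ^ (∑ i, d i) := by
    simp only [mul_pow, Finset.prod_mul_distrib, Finset.prod_pow_eq_pow_sum, map_prod, map_pow]
  rw [this, Polynomial.algebraMap_apply, Algebra.algebraMap_self_apply, map_mul, mul_assoc]

theorem coeff_φ {n : ℕ} (a : Fin n → A) (P : MvPolynomial (Fin n) A) (k : ℕ) :
    (φ a P).coeff k = eval a (homogeneousComponent k P) := by
  classical
  rw [φ_apply, Polynomial.finsetSum_coeff, homogeneousComponent_apply, map_sum,
    Finset.sum_filter]
  refine Finset.sum_congr rfl fun d _ => ?_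
  rw [Polynomial.coeff_C_mul, Polynomial.coeff_X_pow, Finsupp.degree_eq_sum]
  split_ifs with h1 h2 h2
  · rw [eval_monomial, Finsupp.prod_fintype _ _ (fun i => pow_zero _), mul_one]
  · exact absurd h1.symm h2
  · exact absurd h2.symm h1
  · rw [mul_zero]

theorem ker_φ_eq {n : ℕ} (a : Fin n → A)
    (ha : RingTheory.Sequence.IsWeaklyRegular A (List.ofFn a)) :
    RingHom.ker (φ a) = L a := by
  apply le_antisymm
  · intro F hF
    rw [RingHom.mem_ker] at hF
    have hlt := linearType_of_isWeaklyRegular n a ha
    have hk : ∀ k, homogeneousComponent k F ∈ L a := by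
      intro k
      refine hlt k _ (homogeneousComponent_isHomogeneous k F) ?_
      rw [← coeff_φ, hF, Polynomial.coeff_zero]
    rw [← sum_homogeneousComponent F]
    exact Ideal.sum_mem _ fun k _ => hk k
  · unfold L
    rw [Ideal.span_le]
    rintro _ ⟨i, j, rfl⟩
    rw [SetLike.mem_coe, RingHom.mem_ker]
    unfold φ
    rw [map_sub, map_mul, map_mul, aeval_X, aeval_X, aeval_C, aeval_C,
      Polynomial.algebraMap_apply, Polynomial.algebraMap_apply, Algebra.algebraMap_self_apply,
      Algebra.algebraMap_self_apply]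
    ring

end Groth.Agent.Helper1.LinType
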