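import Mathlib
import Groth.Agent.Lib.Helper1.LocalCrit

/-!
# Local criterion of flatness for bounded complexes (Stacks 00MK)
-/

set_option autoImplicit false

namespace Groth.Agent.Helper1.LocCx

open TensorProduct CategoryTheory

universe u

section Mod

variable {R S : Type u} [CommRing R] [CommRing S] [IsLocalRing R] [IsLocalRing S]
  [IsNoetherianRing S] [Algebra R S] [IsLocalHom (algebraMap R S)]
  {X₂ X₁ X₀ : Type u} [AddCommGroup X₂] [Module S X₂]
  [AddCommGroup X₁] [Module S X₁] [Module R X₁] [IsScalarTower R S X₁]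
  [AddCommGroup X₀] [Module S X₀] [Module R X₀] [IsScalarTower R S X₀]

theorem key (f : X₂ →ₗ[S] X₁) (g : X₁ →ₗ[S] X₀) (hgf : ∀ z, g (f z) = 0)
    [Module.Finite S X₁] [Module.Flat R X₀]
    (hex : ∀ y : X₁,
      g y ∈ ((IsLocalRing.maximalIdeal R).map (algebraMap R S)) • (⊤ : Submodule S X₀) →
      ∃ z : X₂, y - f z ∈
        ((IsLocalRing.maximalIdeal R).map (algebraMap R S)) • (⊤ : Submodule S X₁)) :
    (∀ y, g y = 0 → ∃ z, f z = y) ∧ Module.Flat R (X₀ ⧸ LinearMap.range g) := by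
  have hle : LinearMap.range f ≤ LinearMap.ker g := by
    rintro _ ⟨z, rfl⟩; exact hgf z
  let ū : (X₁ ⧸ LinearMap.range f) →ₗ[S] X₀ := Submodule.liftQ _ g hle
  let u : (X₁ ⧸ LinearMap.range f) →ₗ[R] X₀ := ū.restrictScalars R
  have hu_mk : ∀ y : X₁, u (Submodule.mkQ (LinearMap.range f) y) = g y := fun y => rfl
  have hu : Function.Injective (u.lTensor (IsLocalRing.ResidueField R)) := by
    rw [LocalCrit.lTensor_residueField_injective_iff]
    intro x hx
    obtain ⟨y, rfl⟩ := Submodule.mkQ_surjective _ x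
    have h1 : g y ∈ IsLocalRing.maximalIdeal R • (⊤ : Submodule R X₀) := hx
    rw [← pow_one (IsLocalRing.maximalIdeal R),
      ← LocalCrit.pow_smul_top_restrictScalars (S := S), pow_one] at h1
    obtain ⟨z, hz⟩ := hex y h1
    have h2 : y - f z ∈ IsLocalRing.maximalIdeal R • (⊤ : Submodule R X₁) := by
      rw [← pow_one (IsLocalRing.maximalIdeal R),
        ← LocalCrit.pow_smul_top_restrictScalars (S := S), pow_one]
      exact hz
    have h3 : (Submodule.mkQ (LinearMap.range f)) y =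
        ((Submodule.mkQ (LinearMap.range f)).restrictScalars R) (y - f z) := by
      have : (Submodule.mkQ (LinearMap.range f)) (f z) = 0 := by
        rw [Submodule.mkQ_apply, Submodule.Quotient.mk_eq_zero]; exact ⟨z, rfl⟩
      simp only [LinearMap.coe_restrictScalars, map_sub, this, sub_zero]
    rw [h3]
    have h4 := Submodule.mem_map_of_mem
      (f := ((Submodule.mkQ (LinearMap.range f)).restrictScalars R)) h2
    rw [Submodule.map_smul''] at h4
    exact Submodule.smul_mono le_rfl le_top h4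
  have hinj := LocalCrit.injective_of_lTensor_residueField_injective (S := S) u hu
  have hflat := LocalCrit.flat_quotient_range_of_lTensor_residueField_injective (S := S) u hu
  refine ⟨fun y hy => ?_, ?_⟩
  · have h0 : Submodule.mkQ (LinearMap.range f) y = 0 := by
      apply hinj
      rw [hu_mk, hy, map_zero]
    rw [Submodule.mkQ_apply, Submodule.Quotient.mk_eq_zero] at h0
    exact h0
  · have hr : LinearMap.range u = (LinearMap.range g).restrictScalars R := by
      ext x
      constructor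
      · rintro ⟨q, rfl⟩
        obtain ⟨y, rfl⟩ := Submodule.mkQ_surjective _ q
        exact ⟨y, rfl⟩
      · rintro ⟨y, rfl⟩
        exact ⟨Submodule.mkQ _ y, rfl⟩
    exact Module.Flat.of_linearEquiv
      ((Submodule.quotEquivOfEq _ _ hr).trans
        (Submodule.Quotient.restrictScalarsEquiv R (LinearMap.range g))).symm

end Mod

section Tens

variable {S : Type u} [CommRing S] (I : Ideal S)
  {X₂ X₁ X₀ : Type u} [AddCommGroup X₂] [Module S X₂]
  [AddCommGroup X₁] [Module S X₁] [AddCommGroup X₀] [Module S X₀]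

theorem one_tmul_eq_zero_iff (X : Type u) [AddCommGroup X] [Module S X] (x : X) :
    (1 : S ⧸ I) ⊗ₜ[S] x = 0 ↔ x ∈ I • (⊤ : Submodule S X) := by
  rw [← (quotTensorEquivQuotSMul X I).map_eq_zero_iff, quotTensorEquivQuotSMul_mk_one_tmul,
    Submodule.Quotient.mk_eq_zero]

theorem exists_one_tmul (X : Type u) [AddCommGroup X] [Module S X] (s : (S ⧸ I) ⊗[S] X) :
    ∃ z : X, (1 : S ⧸ I) ⊗ₜ[S] z = s := by
  obtain ⟨z, hz⟩ := Submodule.Quotient.mk_surjective _ (quotTensorEquivQuotSMul X I s)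
  refine ⟨z, ?_⟩
  apply (quotTensorEquivQuotSMul X I).injective
  rw [quotTensorEquivQuotSMul_mk_one_tmul, hz]

theorem hex_of_exact (f : X₂ →ₗ[S] X₁) (g : X₁ →ₗ[S] X₀)
    (h : ∀ t : (S ⧸ I) ⊗[S] X₁, g.lTensor (S ⧸ I) t = 0 → ∃ s, f.lTensor (S ⧸ I) s = t) :
    ∀ y : X₁, g y ∈ I • (⊤ : Submodule S X₀) →
      ∃ z : X₂, y - f z ∈ I • (⊤ : Submodule S X₁) := by
  intro y hy
  have h1 : g.lTensor (S ⧸ I) ((1 : S ⧸ I) ⊗ₜ[S] y) = 0 := by
    rw [LinearMap.lTensor_tmul, one_tmul_eq_zero_iff]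
    exact hy
  obtain ⟨s, hs⟩ := h _ h1
  obtain ⟨z, rfl⟩ := exists_one_tmul I X₂ s
  refine ⟨z, ?_⟩
  rw [← one_tmul_eq_zero_iff, tmul_sub, sub_eq_zero, ← hs, LinearMap.lTensor_tmul]

end Tens

section Cat

variable {S : Type u} [CommRing S]

theorem exact_elim (C : ChainComplex (ModuleCat.{u} S) ℕ) (A : ModuleCat.{u} S) (j : ℕ)
    (h : (((MonoidalCategory.tensorLeft A).mapHomologicalComplex
      (ComplexShape.down ℕ)).obj C).ExactAt (j + 1)) :
    ∀ t : A ⊗[S] C.X (j + 1), (C.d (j + 1) j).hom.lTensor A t = 0 →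
      ∃ s : A ⊗[S] C.X (j + 2), (C.d (j + 2) (j + 1)).hom.lTensor A s = t := by
  rw [HomologicalComplex.exactAt_iff' _ (j + 2) (j + 1) j (by simp) (by simp),
    ShortComplex.moduleCat_exact_iff] at h
  intro t ht
  exact h t ht

theorem exactAt_intro (C : ChainComplex (ModuleCat.{u} S) ℕ) (j : ℕ)
    (h : ∀ y : C.X (j + 1), (C.d (j + 1) j).hom y = 0 →
      ∃ z : C.X (j + 2), (C.d (j + 2) (j + 1)).hom z = y) : C.ExactAt (j + 1) := by
  rw [HomologicalComplex.exactAt_iff' _ (j + 2) (j + 1) j (by simp) (by simp),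
    ShortComplex.moduleCat_exact_iff]
  intro t ht
  exact h t ht

/-- `H₀` of a chain complex of modules is the cokernel of `d₁`. -/
noncomputable def homologyZeroIso (C : ChainComplex (ModuleCat.{u} S) ℕ) :
    C.homology 0 ≅ ModuleCat.of S (C.X 0 ⧸ LinearMap.range (C.d 1 0).hom) :=
  C.isoHomologyι₀ ≪≫
    (Limits.IsColimit.coconePointUniqueUpToIso (C.opcyclesIsCokernel 1 0 (by simp))
      (ModuleCat.cokernelIsColimit (C.d 1 0)))

end Cat

section Main

theorem S6387 {R S : Type u} [CommRing R] [CommRing S]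
    [IsLocalRing R] [IsLocalRing S] [IsNoetherianRing R] [IsNoetherianRing S] [Algebra R S]
    [IsLocalHom (algebraMap R S)] (C : ChainComplex (ModuleCat.{u} S) ℕ) (e : ℕ)
    (hzero : ∀ j, e < j → Limits.IsZero (C.X j)) (hfin : ∀ j, Module.Finite S (C.X j))
    (hflat : ∀ j, Module.Flat R ((ModuleCat.restrictScalars (algebraMap R S)).obj (C.X j)))
    (hex : ∀ j, 1 ≤ j → j ≤ e →
      (((MonoidalCategory.tensorLeft
          (ModuleCat.of S (S ⧸ (IsLocalRing.maximalIdeal R).map (algebraMap R S)))).mapHomologicalComplex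
          (ComplexShape.down ℕ)).obj C).ExactAt j) :
    (∀ j, 1 ≤ j → j ≤ e → C.ExactAt j) ∧
      Module.Flat R ((ModuleCat.restrictScalars (algebraMap R S)).obj (C.homology 0)) := by
  letI modR : ∀ i, Module R (C.X i) := fun i => Module.compHom (C.X i) (algebraMap R S)
  haveI hst : ∀ i, IsScalarTower R S (C.X i) := fun i =>
    IsScalarTower.of_algebraMap_smul fun r x => rfl
  haveI hfl : ∀ i, Module.Flat R (C.X i) := fun i => hflat i
  haveI := hfin
  have hk : ∀ j : ℕ, (∀ y : C.X (j + 1), (C.d (j + 1) j).hom y = 0 →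
      ∃ z : C.X (j + 2), (C.d (j + 2) (j + 1)).hom z = y) ∧
      Module.Flat R (C.X j ⧸ LinearMap.range (C.d (j + 1) j).hom) := by
    intro j
    apply key (C.d (j + 2) (j + 1)).hom (C.d (j + 1) j).hom
    · intro z
      have := C.d_comp_d (j + 2) (j + 1) j
      exact congrArg (fun φ => φ.hom z) this
    · by_cases hj : j + 1 ≤ e
      · exact hex_of_exact _ _ _ (exact_elim C _ j (hex (j + 1) (by omega) hj))
      · intro y _
        have hy : y = 0 := (ModuleCat.isZero_iff_subsingleton.mp (hzero (j + 1) (by omega))).elim _ _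
        exact ⟨0, by rw [hy, map_zero, sub_zero]; exact zero_mem _⟩
  refine ⟨fun j hj1 hje => ?_, ?_⟩
  · obtain ⟨j, rfl⟩ : ∃ k, j = k + 1 := ⟨j - 1, by omega⟩
    exact exactAt_intro C j (hk j).1
  · have hQ := (hk 0).2
    let iso := (ModuleCat.restrictScalars (algebraMap R S)).mapIso (homologyZeroIso C)
    let e₂ : ((ModuleCat.restrictScalars (algebraMap R S)).obj
        (ModuleCat.of S (C.X 0 ⧸ LinearMap.range (C.d 1 0).hom))) ≃ₗ[R]
        (C.X 0 ⧸ LinearMap.range (C.d 1 0).hom) :=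
      { AddEquiv.refl (C.X 0 ⧸ LinearMap.range (C.d 1 0).hom) with
        map_smul' := fun r x => by
          obtain ⟨x, rfl⟩ := Submodule.Quotient.mk_surjective _ x
          rfl }
    exact Module.Flat.of_linearEquiv (iso.toLinearEquiv.trans e₂)

end Main

end Groth.Agent.Helper1.LocCx
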