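import Mathlib
import Groth.Prelude.Def_W4c5cptfessfintypeLocImm

set_option autoImplicit false
universe u
open CategoryTheory CategoryTheory.Limits AlgebraicGeometry TopologicalSpace Opposite

namespace Groth.Agent.Helper1.LocImmL

/-- the local ring homomorphism induced by a localization map is bijective -/
theorem localRingHom_bijective_of_isLocHom {A B : Type u} [CommRing A] [CommRing B] (φ : A →+* B)
    (hφ : LocImm.IsLocHom φ) (q : Ideal B) [q.IsPrime] (p : Ideal A) [p.IsPrime]
    (hpq : p = q.comap φ) :
    Function.Bijective (Localization.localRingHom p q φ hpq) := by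
  subst hpq
  let _ := φ.toAlgebra
  obtain ⟨S, hS⟩ := hφ
  let C := Localization.AtPrime (q.comap φ)
  let D := Localization.AtPrime q
  have hD : IsLocalization.AtPrime D (q.comap (algebraMap A B)) :=
    IsLocalization.isLocalization_isLocalization_atPrime_isLocalization (M := S) (T := D) (p := q)
  have hD' : IsLocalization (q.comap φ).primeCompl D := hD
  let ψ := IsLocalization.algEquiv (q.comap φ).primeCompl C D
  have : Localization.localRingHom (q.comap φ) q φ rfl = (ψ : C →+* D) := by
    apply IsLocalization.ringHom_ext (q.comap φ).primeCompl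
    ext a
    simp only [RingHom.comp_apply, Localization.localRingHom_to_map]
    have := ψ.commutes a
    rw [RingHom.coe_coe, this]
    rfl
  rw [this]
  exact ψ.bijective

variable {X Y : Scheme.{u}}

/-- the stalk maps of a localizing morphism are isomorphisms -/
theorem isIso_stalkMap_of_isLocalizing (f : X ⟶ Y) (hf : LocImm.IsLocalizing f) (x : X) :
    IsIso (f.stalkMap x) := by
  obtain ⟨U, V, hx, e, hloc⟩ := hf x
  have h1 := (MorphismProperty.isomorphisms CommRingCat).arrow_mk_iso_iff
    (IsAffineOpen.arrowStalkMapIso f U.1 U.2 V.1 V.2 e hx)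
  change IsIso _ ↔ IsIso _ at h1
  rw [h1, ConcreteCategory.isIso_iff_bijective]
  exact localRingHom_bijective_of_isLocHom _ hloc _ _
    (congr($(IsAffineOpen.comap_primeIdealOf_appLE U.1 U.2 V.1 V.2 e hx).1).symm)

/-- generizations of an image point lift along a localizing morphism -/
theorem exists_specializes_of_isLocalizing (f : X ⟶ Y) (hf : LocImm.IsLocalizing f) (x : X)
    (y : Y) (hy : y ⤳ f x) : ∃ x' : X, x' ⤳ x ∧ f x' = y := by
  have := isIso_stalkMap_of_isLocalizing f hf x
  have hy' : y ∈ Set.range (Y.fromSpecStalk (f x)) := by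
    rw [Scheme.range_fromSpecStalk]; exact hy
  obtain ⟨z, rfl⟩ := hy'
  have hsurj : Function.Surjective (Spec.map (f.stalkMap x)) := by
    have : IsIso (Spec.map (f.stalkMap x)) := inferInstance
    exact (asIso (Spec.map (f.stalkMap x))).schemeIsoToHomeo.surjective
  obtain ⟨w, rfl⟩ := hsurj z
  refine ⟨X.fromSpecStalk x w, ?_, ?_⟩
  · have : X.fromSpecStalk x w ∈ Set.range (X.fromSpecStalk x) := ⟨w, rfl⟩
    rw [Scheme.range_fromSpecStalk] at this
    exact this
  · rw [← Scheme.Hom.comp_apply, ← Scheme.SpecMap_stalkMap_fromSpecStalk, Scheme.Hom.comp_apply]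

/-- the image of a localizing morphism is stable under generization -/
theorem stableUnderGeneralization_range (f : X ⟶ Y) (hf : LocImm.IsLocalizing f) :
    StableUnderGeneralization (Set.range (fun x => f x)) := by
  rintro _ y hy ⟨x, rfl⟩
  obtain ⟨x', -, rfl⟩ := exists_specializes_of_isLocalizing f hf x y hy
  exact ⟨x', rfl⟩

/-- preimage of the closure of an image point under a localizing immersion -/
theorem preimage_closure_singleton (f : X ⟶ Y) (hf : LocImm.IsLocImmersion f) (ξ : X) :
    (fun x => f x) ⁻¹' (closure {f ξ}) = closure {ξ} := by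
  ext x
  simp only [Set.mem_preimage, ← specializes_iff_mem_closure]
  constructor
  · intro h
    obtain ⟨x', hx', he⟩ := exists_specializes_of_isLocalizing f hf.1 x (f ξ) h
    have : x' = ξ := hf.2 he
    exact this ▸ hx'
  · intro h
    exact h.map f.continuous

theorem isInducing_of_closed {α β : Type*} [TopologicalSpace α] [TopologicalSpace β] {g : α → β}
    (hc : Continuous g) (h : ∀ Z : Set α, IsClosed Z → ∃ C : Set β, IsClosed C ∧ g ⁻¹' C = Z) :
    Topology.IsInducing g := by
  constructor
  apply le_antisymm hc.le_induced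
  intro s hs
  obtain ⟨C, hC, hCs⟩ := h sᶜ hs.isClosed_compl
  rw [isOpen_induced_iff]
  refine ⟨Cᶜ, hC.isOpen_compl, ?_⟩
  rw [Set.preimage_compl, hCs, compl_compl]

/-- a localizing immersion with Noetherian source is a topological embedding -/
theorem isEmbedding_of_isLocImmersion [IsNoetherian X] (f : X ⟶ Y) (hf : LocImm.IsLocImmersion f) :
    Topology.IsEmbedding (fun x => f x) := by
  refine ⟨isInducing_of_closed f.continuous ?_, hf.2⟩
  intro Z hZ
  obtain ⟨S, hSfin, hScl, hSirr, rfl⟩ := NoetherianSpace.exists_finite_set_isClosed_irreducible hZ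
  refine ⟨⋃ t : S, closure {f ((hSirr t.1 t.2).genericPoint)}, ?_, ?_⟩
  · haveI : Finite S := hSfin
    exact isClosed_iUnion_of_finite fun _ => isClosed_closure
  · rw [Set.preimage_iUnion, Set.sUnion_eq_iUnion]
    refine Set.iUnion_congr fun t => ?_
    rw [preimage_closure_singleton f hf]
    exact (hSirr t.1 t.2).closure_genericPoint (hScl t.1 t.2)

end Groth.Agent.Helper1.LocImmL
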