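import Mathlib
import Groth.Prelude.Def_W4c5cptfessfintypeLocImm

set_option autoImplicit false
universe u
open CategoryTheory AlgebraicGeometry

namespace Groth.Agent.Helper1.LocImmL

section Frac

variable {A D : Type u} [CommRing A] [CommRing D] (ψ : A →+* D)

/-- `z` is a fraction of images of elements of `A` with invertible denominator -/
def IsFrac (z : D) : Prop := ∃ a σ : A, IsUnit (ψ σ) ∧ z * ψ σ = ψ a

variable {ψ}

theorem IsFrac.map (a : A) : IsFrac ψ (ψ a) := ⟨a, 1, by simp, by simp⟩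

theorem IsFrac.add {z w : D} (hz : IsFrac ψ z) (hw : IsFrac ψ w) : IsFrac ψ (z + w) := by
  obtain ⟨a, σ, hσ, h⟩ := hz
  obtain ⟨a', σ', hσ', h'⟩ := hw
  refine ⟨a * σ' + a' * σ, σ * σ', by rw [map_mul]; exact hσ.mul hσ', ?_⟩
  simp only [map_add, map_mul, ← h, ← h']
  ring

theorem IsFrac.mul {z w : D} (hz : IsFrac ψ z) (hw : IsFrac ψ w) : IsFrac ψ (z * w) := by
  obtain ⟨a, σ, hσ, h⟩ := hz
  obtain ⟨a', σ', hσ', h'⟩ := hw
  refine ⟨a * a', σ * σ', by rw [map_mul]; exact hσ.mul hσ', ?_⟩
  simp only [map_mul, ← h, ← h']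
  ring

theorem IsFrac.pow {z : D} (hz : IsFrac ψ z) (n : ℕ) : IsFrac ψ (z ^ n) := by
  induction n with
  | zero => simpa using IsFrac.map (ψ := ψ) 1
  | succ n ih => rw [pow_succ]; exact ih.mul hz

theorem IsFrac.inv {z w : D} (hz : IsFrac ψ z) (hzw : z * w = 1) : IsFrac ψ w := by
  obtain ⟨a, σ, hσ, h⟩ := hz
  refine ⟨σ, a, ?_, ?_⟩
  · rw [← h]
    exact (IsUnit.of_mul_eq_one w hzw).mul hσ
  · rw [← h]
    calc w * (z * ψ σ) = (z * w) * ψ σ := by ring
      _ = ψ σ := by rw [hzw, one_mul]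

end Frac

section Main

variable {A B : Type u} [CommRing A] [CommRing B] (φ : A →+* B) (q : Ideal B) [q.IsPrime]

/-- surjectivity of the local map gives local fraction expressions -/
theorem exists_frac_of_surjective
    (hsurj : Function.Surjective (Localization.localRingHom (q.comap φ) q φ rfl)) (s : B) :
    ∃ (a u : A) (c : B), u ∉ q.comap φ ∧ c ∉ q ∧ c * φ a = c * (s * φ u) := by
  obtain ⟨z, hz⟩ := hsurj (algebraMap B (Localization.AtPrime q) s)
  obtain ⟨a, u, rfl⟩ := IsLocalization.exists_mk'_eq (q.comap φ).primeCompl z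
  rw [Localization.localRingHom_mk', IsLocalization.mk'_eq_iff_eq_mul, ← map_mul,
    IsLocalization.eq_iff_exists q.primeCompl] at hz
  obtain ⟨c, hc⟩ := hz
  exact ⟨a, u.1, c.1, u.2, c.2, hc⟩

/-- injectivity of the local map gives annihilators -/
theorem exists_ann_of_injective
    (hinj : Function.Injective (Localization.localRingHom (q.comap φ) q φ rfl)) (a : A)
    (ha : algebraMap B (Localization.AtPrime q) (φ a) = 0) :
    ∃ v : A, v ∉ q.comap φ ∧ v * a = 0 := by
  have h1 : Localization.localRingHom (q.comap φ) q φ rfl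
      (algebraMap A (Localization.AtPrime (q.comap φ)) a) = 0 := by
    rw [Localization.localRingHom_to_map, ha]
  have h2 : algebraMap A (Localization.AtPrime (q.comap φ)) a = 0 :=
    hinj (by rw [h1, map_zero])
  obtain ⟨m, hm⟩ := (IsLocalization.map_eq_zero_iff (q.comap φ).primeCompl _ a).1 h2
  exact ⟨m.1, m.2, hm⟩

set_option maxHeartbeats 800000 in
/-- spreading out an isomorphism of local rings for an essentially finite type ring map -/
theorem exists_isLocHom_away [IsNoetherianRing A] (hφ : φ.EssFiniteType)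
    (hbij : Function.Bijective (Localization.localRingHom (q.comap φ) q φ rfl)) :
    ∃ b : B, b ∉ q ∧
      LocImm.IsLocHom ((algebraMap B (Localization.Away b)).comp φ) := by
  classical
  letI := φ.toAlgebra
  have hφ' : Algebra.EssFiniteType A B := hφ
  obtain ⟨σ, hσ⟩ := (Algebra.essFiniteType_iff A B).1 hφ'
  choose a u c hu hc hcau using exists_frac_of_surjective φ q hbij.2
  set b₀ : B := ∏ s ∈ σ, (c s * φ (u s)) with hb₀
  have hb₀q : b₀ ∉ q := by
    rw [hb₀]
    intro h
    obtain ⟨s, -, hs⟩ := (Ideal.IsPrime.prod_mem_iff).1 h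
    rcases (Ideal.IsPrime.mem_or_mem inferInstance hs) with h1 | h1
    · exact hc s h1
    · exact hu s h1
  -- the kernel
  let I : Ideal A := RingHom.ker ((algebraMap B (Localization.Away b₀)).comp φ)
  obtain ⟨G, hG⟩ := (IsNoetherian.noetherian I : I.FG)
  have hGv : ∀ g ∈ G, ∃ v : A, v ∉ q.comap φ ∧ v * g = 0 := by
    intro g hg
    have hgI : g ∈ I := hG ▸ Ideal.subset_span hg
    have h0 : algebraMap B (Localization.Away b₀) (φ g) = 0 := hgI
    obtain ⟨⟨_, n, rfl⟩, hn⟩ := (IsLocalization.map_eq_zero_iff (Submonoid.powers b₀) _ _).1 h0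
    apply exists_ann_of_injective φ q hbij.1
    have hunit : IsUnit (algebraMap B (Localization.AtPrime q) (b₀ ^ n)) :=
      IsLocalization.map_units (Localization.AtPrime q)
        (⟨b₀ ^ n, fun h => hb₀q (Ideal.IsPrime.mem_of_pow_mem inferInstance n h)⟩ : q.primeCompl)
    have := congrArg (algebraMap B (Localization.AtPrime q)) hn
    rw [map_mul, map_zero] at this
    exact (hunit.mul_right_eq_zero).1 this
  choose! v hv hvg using hGv
  set w : A := ∏ g ∈ G, v g with hw
  have hwp : w ∉ q.comap φ := by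
    rw [hw]
    intro h
    obtain ⟨g, hg, hg'⟩ := (Ideal.IsPrime.prod_mem_iff).1 h
    exact hv g hg hg'
  have hwI : ∀ x ∈ I, w * x = 0 := by
    intro x hx
    rw [← hG] at hx
    refine Submodule.span_induction (p := fun x _ => w * x = 0) ?_ ?_ ?_ ?_ hx
    · intro g hg
      obtain ⟨r, hr⟩ := Finset.dvd_prod_of_mem v hg
      rw [hw, hr, mul_right_comm, hvg g hg, zero_mul]
    · exact mul_zero _
    · intro x y _ _ hx hy
      rw [mul_add, hx, hy, add_zero]
    · intro r x _ hx
      rw [smul_eq_mul, mul_left_comm, hx, mul_zero]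
  set b : B := b₀ * φ w with hb
  have hbq : b ∉ q := by
    intro h
    rcases Ideal.IsPrime.mem_or_mem inferInstance h with h1 | h1
    · exact hb₀q h1
    · exact hwp h1
  refine ⟨b, hbq, ?_⟩
  set D := Localization.Away b
  set ψ : A →+* D := (algebraMap B D).comp φ with hψ
  have hbunit : IsUnit (algebraMap B D b) := IsLocalization.Away.algebraMap_isUnit b
  have hunit_of_dvd : ∀ x : B, x ∣ b → IsUnit (algebraMap B D x) := by
    rintro x ⟨y, hy⟩
    have h1 : algebraMap B D b = algebraMap B D x * algebraMap B D y := by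
      rw [← map_mul]; exact congrArg _ hy
    rw [h1] at hbunit
    exact isUnit_of_mul_isUnit_left hbunit
  have hdvd_b₀ : b₀ ∣ b := ⟨φ w, rfl⟩
  have hcs : ∀ s ∈ σ, IsUnit (algebraMap B D (c s)) ∧ IsUnit (ψ (u s)) := by
    intro s hs
    have h1 : c s * φ (u s) ∣ b := (Finset.dvd_prod_of_mem _ hs).trans hdvd_b₀
    exact ⟨hunit_of_dvd _ ((dvd_mul_right _ _).trans h1), hunit_of_dvd _ ((dvd_mul_left _ _).trans h1)⟩
  -- fractions
  have hfrac_adj : ∀ x ∈ Algebra.adjoin A (σ : Set B), IsFrac ψ (algebraMap B D x) := by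
    intro x hx
    refine Algebra.adjoin_induction (p := fun x _ => IsFrac ψ (algebraMap B D x)) ?_ ?_ ?_ ?_ hx
    · intro s hs
      obtain ⟨h1, h2⟩ := hcs s hs
      refine ⟨a s, u s, h2, ?_⟩
      have := congrArg (algebraMap B D) (hcau s)
      simp only [map_mul] at this
      exact (h1.mul_right_inj.1 this).symm
    · intro r
      exact IsFrac.map (ψ := ψ) r
    · intro x y _ _ hx hy
      rw [map_add]; exact hx.add hy
    · intro x y _ _ hx hy
      rw [map_mul]; exact hx.mul hy
  have hfracB : ∀ x : B, IsFrac ψ (algebraMap B D x) := by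
    intro x
    obtain ⟨t, ht, htu, hxt⟩ := hσ x
    have h1 := hfrac_adj _ hxt
    have h2 := hfrac_adj _ ht
    obtain ⟨t', ht'⟩ := htu.exists_right_inv
    have h3 : IsFrac ψ (algebraMap B D t') :=
      h2.inv (by rw [← map_mul, ht', map_one])
    have : algebraMap B D x = algebraMap B D (x * t) * algebraMap B D t' := by
      rw [← map_mul, mul_assoc, ht', mul_one]
    rw [this]
    exact h1.mul h3
  have hfracD : ∀ z : D, IsFrac ψ z := by
    intro z
    obtain ⟨x, ⟨_, n, rfl⟩, rfl⟩ := IsLocalization.exists_mk'_eq (Submonoid.powers b) z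
    obtain ⟨binv, hbinv⟩ := hbunit.exists_right_inv
    have h1 : IsFrac ψ binv := (hfracB b).inv hbinv
    have : IsLocalization.mk' D x (⟨b ^ n, n, rfl⟩ : Submonoid.powers b) =
        algebraMap B D x * binv ^ n := by
      rw [IsLocalization.mk'_eq_iff_eq_mul, mul_assoc, map_pow, ← mul_pow, mul_comm binv, hbinv,
        one_pow, mul_one]
    rw [this]
    exact (hfracB x).mul (h1.pow n)
  -- the localization property
  letI := ψ.toAlgebra
  refine ⟨(IsUnit.submonoid D).comap ψ, ?_⟩
  rw [isLocalization_iff]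
  refine ⟨fun y => y.2, fun z => ?_, fun {x y} hxy => ?_⟩
  · obtain ⟨a', σ', hσ', h⟩ := hfracD z
    exact ⟨(a', ⟨σ', hσ'⟩), h⟩
  · have hxy' : ψ (x - y) = 0 := by
      rw [map_sub, sub_eq_zero]; exact hxy
    have h0 : algebraMap B D (φ (x - y)) = 0 := hxy'
    obtain ⟨⟨_, n, rfl⟩, hn⟩ := (IsLocalization.map_eq_zero_iff (Submonoid.powers b) _ _).1 h0
    have h1 : b₀ ^ n * φ (w ^ n * (x - y)) = 0 := by
      rw [map_mul, map_pow, ← mul_assoc, ← mul_pow]; exact hn
    have h2 : w ^ n * (x - y) ∈ I := by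
      change algebraMap B (Localization.Away b₀) (φ (w ^ n * (x - y))) = 0
      rw [IsLocalization.map_eq_zero_iff (Submonoid.powers b₀)]
      exact ⟨⟨b₀ ^ n, n, rfl⟩, h1⟩
    have h3 := hwI _ h2
    have hwunit : IsUnit (ψ (w ^ (n + 1))) := by
      rw [map_pow]
      exact (hunit_of_dvd _ ⟨b₀, mul_comm _ _⟩).pow _
    refine ⟨⟨w ^ (n + 1), hwunit⟩, ?_⟩
    have : w ^ (n + 1) * (x - y) = 0 := by
      rw [pow_succ', mul_assoc]; exact h3
    rw [mul_sub, sub_eq_zero] at this
    exact this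

end Main

end Groth.Agent.Helper1.LocImmL
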