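import Mathlib
import Groth.Prelude.Def_W4c5cptfessfintypeLocImm

set_option autoImplicit false

open CategoryTheory AlgebraicGeometry Limits

namespace Groth.Agent.Helper1.LocImmLib

universe u

lemma epi_of_isLocHom {A B : CommRingCat.{u}} (φ : A ⟶ B) (h : LocImm.IsLocHom φ.hom) :
    Epi φ := by
  let _ := φ.hom.toAlgebra
  obtain ⟨S, hS⟩ := h
  have h1 : Epi (CommRingCat.ofHom (algebraMap A B)) := IsLocalization.epi S B
  exact h1

lemma flat_of_isLocHom {A B : CommRingCat.{u}} (φ : A ⟶ B) (h : LocImm.IsLocHom φ.hom) :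
    φ.hom.Flat := by
  let _ := φ.hom.toAlgebra
  obtain ⟨S, hS⟩ := h
  have h1 : Module.Flat A B := IsLocalization.flat B S
  exact h1

lemma mono_SpecMap_of_epi {A B : CommRingCat.{u}} (φ : A ⟶ B) [Epi φ] : Mono (Spec.map φ) :=
  inferInstanceAs (Mono (Scheme.Spec.map φ.op))

lemma mono_resLE {X Y : Scheme.{u}} (f : X ⟶ Y) (U : Y.Opens) (V : X.Opens)
    (hU : IsAffineOpen U) (hV : IsAffineOpen V) (e : V ≤ f ⁻¹ᵁ U)
    (h : LocImm.IsLocHom (f.appLE U V e).hom) : Mono (f.resLE U V e) := by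
  have := epi_of_isLocHom _ h
  have := mono_SpecMap_of_epi (f.appLE U V e)
  have h1 : f.resLE U V e = (hV.isoSpec.hom ≫ Spec.map (f.appLE U V e)) ≫ hU.isoSpec.inv := by
    rw [IsAffineOpen.isoSpec_hom, Scheme.Opens.toSpecΓ_SpecMap_appLE, Category.assoc,
      IsAffineOpen.toSpecΓ_isoSpec_inv, Category.comp_id]
  rw [h1]
  infer_instance

theorem mono_of_isLocImmersion {X Y : Scheme.{u}} (f : X ⟶ Y) (hf : LocImm.IsLocImmersion f) :
    Mono f := by
  obtain ⟨hloc, hinj⟩ := hf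
  constructor
  intro T g₁ g₂ hg
  have hpt : ∀ t : T, g₁ t = g₂ t := fun t => hinj (by
    have := congrArg (fun k : T ⟶ Y => k t) hg
    simpa using this)
  apply Scheme.hom_ext_of_forall
  intro t
  obtain ⟨U, V, hxV, e, hlh⟩ := hloc (g₁ t)
  refine ⟨g₁ ⁻¹ᵁ V.1 ⊓ g₂ ⁻¹ᵁ V.1, ⟨hxV, by show g₂ t ∈ V.1; rw [← hpt]; exact hxV⟩, ?_⟩
  set W : T.Opens := g₁ ⁻¹ᵁ V.1 ⊓ g₂ ⁻¹ᵁ V.1 with hW
  have hr1 : Set.range (W.ι ≫ g₁) ⊆ Set.range V.1.ι := by
    rintro _ ⟨w, rfl⟩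
    rw [Scheme.Opens.range_ι]
    exact w.2.1
  have hr2 : Set.range (W.ι ≫ g₂) ⊆ Set.range V.1.ι := by
    rintro _ ⟨w, rfl⟩
    rw [Scheme.Opens.range_ι]
    exact w.2.2
  have hmono : Mono (f.resLE U.1 V.1 e) := mono_resLE f U.1 V.1 U.2 V.2 e hlh
  have hk : IsOpenImmersion.lift V.1.ι (W.ι ≫ g₁) hr1 = IsOpenImmersion.lift V.1.ι (W.ι ≫ g₂) hr2 := by
    rw [← cancel_mono (f.resLE U.1 V.1 e), ← cancel_mono U.1.ι]
    simp only [Category.assoc, Scheme.Hom.resLE_comp_ι]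
    rw [IsOpenImmersion.lift_fac_assoc, IsOpenImmersion.lift_fac_assoc, Category.assoc,
      Category.assoc, hg]
  calc W.ι ≫ g₁ = IsOpenImmersion.lift V.1.ι (W.ι ≫ g₁) hr1 ≫ V.1.ι :=
        (IsOpenImmersion.lift_fac _ _ _).symm
    _ = IsOpenImmersion.lift V.1.ι (W.ι ≫ g₂) hr2 ≫ V.1.ι := by rw [hk]
    _ = W.ι ≫ g₂ := IsOpenImmersion.lift_fac _ _ _

theorem isLocImmersion_iff {X Y : Scheme.{u}} (f : X ⟶ Y) :
    LocImm.IsLocImmersion f ↔ (LocImm.IsLocalizing f ∧ Mono f) := by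
  constructor
  · intro h
    exact ⟨h.1, mono_of_isLocImmersion f h⟩
  · rintro ⟨h1, h2⟩
    exact ⟨h1, f.injective⟩

theorem flat_of_isLocalizing {X Y : Scheme.{u}} (f : X ⟶ Y) (hf : LocImm.IsLocalizing f) :
    Flat f := by
  have hQ : RingHom.StableUnderCompositionWithLocalizationAwaySource
      (fun {R S : Type u} [CommRing R] [CommRing S] => (RingHom.Flat : (R →+* S) → Prop)) := by
    intro R S T _ _ _ _ r _ g hg
    exact RingHom.Flat.comp (RingHom.Flat.holdsForLocalizationAway S r) hg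
  rw [HasRingHomProperty.iff_exists_appLE (P := @Flat) hQ]
  intro x
  obtain ⟨U, V, hxV, e, hlh⟩ := hf x
  exact ⟨U, V, hxV, e, flat_of_isLocHom _ hlh⟩

theorem isOpenImmersion_of_locallyOfFiniteType {X Y : Scheme.{u}} [IsLocallyNoetherian Y]
    (f : X ⟶ Y) (hf : LocImm.IsLocImmersion f) [LocallyOfFiniteType f] : IsOpenImmersion f := by
  have := mono_of_isLocImmersion f hf
  have := flat_of_isLocalizing f hf.1
  have : LocallyOfFinitePresentation f :=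
    LocallyOfFinitePresentation.iff_locallyOfFiniteType.2 inferInstance
  exact IsOpenImmersion.of_flat_of_mono f

end Groth.Agent.Helper1.LocImmLib
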