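import Mathlib
import Groth.Agent.Lib.Helper1.LocImm1
import Groth.Agent.Lib.Helper1.LocImmLib

set_option autoImplicit false
universe u
open CategoryTheory CategoryTheory.Limits AlgebraicGeometry TopologicalSpace Opposite

namespace Groth.Agent.Helper1.LocImmL

/-- localizing a localization map at an element gives a localization map -/
theorem isLocHom_of_away {A B A' B' : Type u} [CommRing A] [CommRing B] [CommRing A'] [CommRing B']
    (φ : A →+* B) (hφ : LocImm.IsLocHom φ) (a : A)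
    (α : A →+* A') (β : B →+* B') (ψ : A' →+* B')
    (hα : letI := α.toAlgebra; IsLocalization.Away a A')
    (hβ : letI := β.toAlgebra; IsLocalization.Away (φ a) B')
    (hcomm : ψ.comp α = β.comp φ) : LocImm.IsLocHom ψ := by
  letI iAB : Algebra A B := φ.toAlgebra
  letI iAA' : Algebra A A' := α.toAlgebra
  letI iBB' : Algebra B B' := β.toAlgebra
  letI iAB' : Algebra A B' := (β.comp φ).toAlgebra
  letI iA'B' : Algebra A' B' := ψ.toAlgebra
  haveI : IsScalarTower A B B' := IsScalarTower.of_algebraMap_eq (fun _ => rfl)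
  haveI : IsScalarTower A A' B' := IsScalarTower.of_algebraMap_eq (fun x => by
    change (β.comp φ) x = ψ (α x)
    rw [← hcomm]; rfl)
  obtain ⟨S, hS⟩ := hφ
  haveI : IsLocalization S B := hS
  haveI : IsLocalization (Submonoid.powers (φ a)) B' := hβ
  haveI : IsLocalization (Submonoid.powers a) A' := hα
  let M := IsLocalization.localizationLocalizationSubmodule S (Submonoid.powers (φ a))
  haveI hM : IsLocalization M B' :=
    IsLocalization.localization_localization_isLocalization S (Submonoid.powers (φ a)) B'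
  have hle : Submonoid.powers a ≤ M := by
    rw [Submonoid.powers_le]
    rw [IsLocalization.mem_localizationLocalizationSubmodule]
    exact ⟨⟨φ a, Submonoid.mem_powers _⟩, 1, by simp; rfl⟩
  exact ⟨M.map (algebraMap A A'),
    IsLocalization.isLocalization_of_submonoid_le A' B' (Submonoid.powers a) M hle⟩


variable {X Y : Scheme.{u}}

/-- a localizing immersion of Noetherian schemes is affine-locally on the target a localization -/
theorem exists_affine_nhd [IsNoetherian X] (f : X ⟶ Y) (hf : LocImm.IsLocImmersion f) (x : X) :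
    ∃ V : Y.Opens, f x ∈ V ∧ IsAffineOpen V ∧ IsAffineOpen (f ⁻¹ᵁ V) ∧
      LocImm.IsLocHom (f.app V).hom := by
  obtain ⟨U, V0, hx, e, hloc⟩ := hf.1 x
  have hemb := isEmbedding_of_isLocImmersion f hf
  obtain ⟨W, hWopen, hW⟩ := hemb.isInducing.isOpen_iff.1 V0.1.2
  let W' : Y.Opens := ⟨W, hWopen⟩ ⊓ U.1
  have hxW : f x ∈ W := by
    have : x ∈ (fun x => f x) ⁻¹' W := by rw [hW]; exact hx
    exact this
  have hxW' : f x ∈ W' := ⟨hxW, e hx⟩
  obtain ⟨a, ha_le, hxa⟩ := U.2.exists_basicOpen_le (V := W') ⟨f x, hxW'⟩ (e hx)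
  set b := (f.appLE U.1 V0.1 e).hom a with hb
  have hle0 : f ⁻¹ᵁ Y.basicOpen a ≤ V0.1 := by
    intro z hz
    have h1 : f z ∈ W := (ha_le hz).1
    have : z ∈ (fun x => f x) ⁻¹' W := h1
    rw [hW] at this
    exact this
  have heq : f ⁻¹ᵁ Y.basicOpen a = X.basicOpen b := by
    rw [hb, Scheme.basicOpen_appLE]
    exact (inf_eq_right.2 hle0).symm
  refine ⟨Y.basicOpen a, hxa, U.2.basicOpen a, ?_, ?_⟩
  · rw [heq]; exact V0.2.basicOpen b
  · refine isLocHom_of_away (f.appLE U.1 V0.1 e).hom hloc a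
      (Y.presheaf.map (homOfLE (Y.basicOpen_le a)).op).hom
      (X.presheaf.map (homOfLE hle0).op).hom (f.app (Y.basicOpen a)).hom
      (U.2.isLocalization_of_eq_basicOpen a (homOfLE (Y.basicOpen_le a)) rfl)
      (V0.2.isLocalization_of_eq_basicOpen b (homOfLE hle0) heq) ?_
    rw [← CommRingCat.hom_comp, ← CommRingCat.hom_comp, Scheme.Hom.appLE_map,
      Scheme.Hom.app_eq_appLE, Scheme.Hom.map_appLE]


/-- conversely, a morphism which is affine-locally on the target a localization is a localizing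
immersion -/
theorem isLocImmersion_of_affine_nhds (f : X ⟶ Y)
    (h : ∀ x : X, ∃ V : Y.Opens, f x ∈ V ∧ IsAffineOpen V ∧ IsAffineOpen (f ⁻¹ᵁ V) ∧
      LocImm.IsLocHom (f.app V).hom) : LocImm.IsLocImmersion f := by
  constructor
  · intro x
    obtain ⟨V, hxV, hV, hV', hloc⟩ := h x
    refine ⟨⟨V, hV⟩, ⟨f ⁻¹ᵁ V, hV'⟩, hxV, le_rfl, ?_⟩
    rw [Scheme.Hom.appLE_eq_app]
    exact hloc
  · intro x₁ x₂ hx
    obtain ⟨V, hxV, hV, hV', hloc⟩ := h x₁
    have hx₂V : f x₂ ∈ V := hx ▸ hxV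
    have hloc' : LocImm.IsLocHom (f.appLE V (f ⁻¹ᵁ V) le_rfl).hom := by
      rw [Scheme.Hom.appLE_eq_app]; exact hloc
    have hmono : Mono (f.resLE V (f ⁻¹ᵁ V) le_rfl) :=
      LocImmLib.mono_resLE f V (f ⁻¹ᵁ V) hV hV' le_rfl hloc'
    let p₁ : ↥(f ⁻¹ᵁ V) := ⟨x₁, hxV⟩
    let p₂ : ↥(f ⁻¹ᵁ V) := ⟨x₂, hx₂V⟩
    have key : ∀ p : ↥(f ⁻¹ᵁ V), V.ι (f.resLE V (f ⁻¹ᵁ V) le_rfl p) = f p.1 := by
      intro p
      rw [← Scheme.Hom.comp_apply, Scheme.Hom.resLE_comp_ι, Scheme.Hom.comp_apply]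
      rfl
    have h12 : f.resLE V (f ⁻¹ᵁ V) le_rfl p₁ = f.resLE V (f ⁻¹ᵁ V) le_rfl p₂ := by
      apply V.ι.injective
      rw [key, key]
      exact hx
    have := (f.resLE V (f ⁻¹ᵁ V) le_rfl).injective h12
    exact congrArg Subtype.val this

end Groth.Agent.Helper1.LocImmL
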