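import Mathlib
import Groth.Prelude.Def_W4c5cptfessfintypeLocImm

set_option autoImplicit false
universe u
open CategoryTheory CategoryTheory.Limits AlgebraicGeometry TopologicalSpace Opposite

namespace Groth.Agent.Helper1.LocImmL

/-- localization maps are stable under cobase change -/
theorem isLocHom_of_isPushout {A B A' B' : CommRingCat.{u}} (a : A ⟶ B) (c : A ⟶ A')
    (b' : B ⟶ B') (a' : A' ⟶ B') (h : IsPushout a c b' a') (ha : LocImm.IsLocHom a.hom) :
    LocImm.IsLocHom a'.hom := by
  letI iAB : Algebra A B := a.hom.toAlgebra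
  letI iAA' : Algebra A A' := c.hom.toAlgebra
  letI iBB' : Algebra B B' := b'.hom.toAlgebra
  letI iA'B' : Algebra A' B' := a'.hom.toAlgebra
  letI iAB' : Algebra A B' := (b'.hom.comp a.hom).toAlgebra
  haveI : IsScalarTower A B B' := IsScalarTower.of_algebraMap_eq (fun _ => rfl)
  haveI : IsScalarTower A A' B' := IsScalarTower.of_algebraMap_eq (fun x => by
    change (b'.hom.comp a.hom) x = a'.hom (c.hom x)
    have := congr($(h.w).hom x)
    exact this)
  obtain ⟨S, hS⟩ := ha
  haveI : IsLocalization S B := hS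
  have h1 : Algebra.IsPushout A B A' B' := by
    rw [← CommRingCat.isPushout_iff_isPushout]
    exact h
  have h2 : Algebra.IsPushout A A' B B' := h1.symm
  exact ⟨Algebra.algebraMapSubmonoid A' S, (Algebra.isLocalization_iff_isPushout S B).2 h2⟩

/-- localization maps are stable under composition with isomorphisms -/
theorem isLocHom_of_iso {A B A' B' : CommRingCat.{u}} (φ : A ⟶ B) (hφ : LocImm.IsLocHom φ.hom)
    (e₁ : A' ≅ A) (e₂ : B ≅ B') (ψ : A' ⟶ B') (hψ : ψ = e₁.hom ≫ φ ≫ e₂.hom) :
    LocImm.IsLocHom ψ.hom := by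
  have hpo : IsPushout φ e₁.inv e₂.hom ψ := by
    refine IsPushout.of_vert_isIso ⟨?_⟩
    rw [hψ, Iso.inv_hom_id_assoc]
  exact isLocHom_of_isPushout φ e₁.inv e₂.hom ψ hpo hφ

end Groth.Agent.Helper1.LocImmL
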