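import Mathlib

set_option autoImplicit false
universe u
open CategoryTheory CategoryTheory.Limits AlgebraicGeometry TopologicalSpace Opposite

namespace Groth.Agent.Helper1.LocImmL

variable {X Y Y' : Scheme.{u}} (f : X ⟶ Y) (g : Y' ⟶ Y)

/-- the open of the fibre product lying over given opens of the factors -/
noncomputable def boxOpen (V : X.Opens) (U' : Y'.Opens) : (pullback f g).Opens :=
  pullback.fst f g ⁻¹ᵁ V ⊓ pullback.snd f g ⁻¹ᵁ U'

/-- the box open is the fibre product of the opens -/
theorem isPullback_boxOpen (U : Y.Opens) (V : X.Opens) (U' : Y'.Opens) (hV : V ≤ f ⁻¹ᵁ U)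
    (hU' : U' ≤ g ⁻¹ᵁ U) :
    IsPullback ((pullback.fst f g).resLE V (boxOpen f g V U') inf_le_left)
      ((pullback.snd f g).resLE U' (boxOpen f g V U') inf_le_right)
      (f.resLE U V hV) (g.resLE U U' hU') := by
  have comm : (pullback.fst f g).resLE V (boxOpen f g V U') inf_le_left ≫ f.resLE U V hV =
      (pullback.snd f g).resLE U' (boxOpen f g V U') inf_le_right ≫ g.resLE U U' hU' := by
    rw [← cancel_mono U.ι]
    simp only [Category.assoc, Scheme.Hom.resLE_comp_ι, Scheme.Hom.resLE_comp_ι_assoc,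
      pullback.condition]
  refine ⟨⟨comm⟩, ⟨PullbackCone.IsLimit.mk _ (fun s => ?_) (fun s => ?_) (fun s => ?_)
    (fun s m h₁ h₂ => ?_)⟩⟩
  · have hc : (s.fst ≫ V.ι) ≫ f = (s.snd ≫ U'.ι) ≫ g := by
      have := s.condition
      rw [Category.assoc, Category.assoc, ← Scheme.Hom.resLE_comp_ι f hV,
        ← Scheme.Hom.resLE_comp_ι g hU', reassoc_of% this]
    refine IsOpenImmersion.lift (boxOpen f g V U').ι (pullback.lift _ _ hc) ?_
    rintro _ ⟨t, rfl⟩
    rw [Scheme.Opens.range_ι]
    constructor
    · change pullback.fst f g (pullback.lift _ _ hc t) ∈ V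
      rw [← Scheme.Hom.comp_apply, pullback.lift_fst, Scheme.Hom.comp_apply]
      exact (s.fst t).2
    · change pullback.snd f g (pullback.lift _ _ hc t) ∈ U'
      rw [← Scheme.Hom.comp_apply, pullback.lift_snd, Scheme.Hom.comp_apply]
      exact (s.snd t).2
  · rw [← cancel_mono V.ι]
    simp only [Category.assoc, Scheme.Hom.resLE_comp_ι, IsOpenImmersion.lift_fac_assoc,
      pullback.lift_fst]
  · rw [← cancel_mono U'.ι]
    simp only [Category.assoc, Scheme.Hom.resLE_comp_ι, IsOpenImmersion.lift_fac_assoc,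
      pullback.lift_snd]
  · rw [← cancel_mono (boxOpen f g V U').ι, IsOpenImmersion.lift_fac]
    apply pullback.hom_ext
    · rw [pullback.lift_fst, Category.assoc, ← h₁, Category.assoc, Scheme.Hom.resLE_comp_ι]
    · rw [pullback.lift_snd, Category.assoc, ← h₂, Category.assoc, Scheme.Hom.resLE_comp_ι]

end Groth.Agent.Helper1.LocImmL
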