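import Mathlib
import Groth.Agent.Lib.Helper1.LocImm3
import Groth.Agent.Lib.Helper1.LocImm4
import Groth.Agent.Lib.Helper1.LocImm5

set_option autoImplicit false
universe u
open CategoryTheory CategoryTheory.Limits AlgebraicGeometry TopologicalSpace Opposite

namespace Groth.Agent.Helper1.LocImmL

variable {X Y Y' : Scheme.{u}} (f : X ⟶ Y) (g : Y' ⟶ Y)

theorem appLE_eq_resLE_appTop {X Y : Scheme.{u}} (f : X ⟶ Y) (U : Y.Opens) (V : X.Opens)
    (e : V ≤ f ⁻¹ᵁ U) :
    f.appLE U V e = (Scheme.Opens.topIso U).inv ≫ (f.resLE U V e).appTop ≫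
      (Scheme.Opens.topIso V).hom := by
  have := Scheme.Hom.resLE_app_top f e
  rw [Scheme.Hom.appTop, this]
  simp only [Category.assoc, Iso.inv_hom_id, Category.comp_id, Iso.inv_hom_id_assoc]

/-- localizing morphisms are stable under base change -/
theorem isLocalizing_pullback_snd (hf : LocImm.IsLocalizing f) :
    LocImm.IsLocalizing (pullback.snd f g) := by
  intro z
  obtain ⟨U, V, hx, e, hloc⟩ := hf (pullback.fst f g z)
  have hgz : g (pullback.snd f g z) ∈ U.1 := by
    rw [← Scheme.Hom.comp_apply, ← pullback.condition, Scheme.Hom.comp_apply]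
    exact e hx
  obtain ⟨_, ⟨U', hU'aff, rfl⟩, hzU', hU'le⟩ :=
    Y'.isBasis_affineOpens.exists_subset_of_mem_open hgz (g ⁻¹ᵁ U.1).isOpen
  have hU'le' : U' ≤ g ⁻¹ᵁ U.1 := hU'le
  have hpb := isPullback_boxOpen f g U.1 V.1 U' e hU'le'
  haveI : IsAffine ↑V.1 := V.2
  haveI : IsAffine ↑U.1 := U.2
  haveI : IsAffine ↑U' := hU'aff
  have hPaff : IsAffine ↑(boxOpen f g V.1 U') := IsAffine.of_isPullback hpb
  have hpo := isPushout_appTop_of_isPullback hpb
  have h1 : LocImm.IsLocHom (f.resLE U.1 V.1 e).appTop.hom :=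
    isLocHom_of_iso (f.appLE U.1 V.1 e) hloc U.1.topIso V.1.topIso.symm _
      (Scheme.Hom.resLE_app_top f e)
  have h2 := isLocHom_of_isPushout _ _ _ _ hpo h1
  have h3 : LocImm.IsLocHom
      ((pullback.snd f g).appLE U' (boxOpen f g V.1 U') inf_le_right).hom := by
    exact isLocHom_of_iso _ h2 (Scheme.Opens.topIso U').symm (boxOpen f g V.1 U').topIso _
      (appLE_eq_resLE_appTop _ _ _ _)
  exact ⟨⟨U', hU'aff⟩, ⟨boxOpen f g V.1 U', hPaff⟩, ⟨hx, hzU'⟩, inf_le_right, h3⟩

/-- localizing immersions are stable under base change -/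
theorem isLocImmersion_pullback_snd (hf : LocImm.IsLocImmersion f) :
    LocImm.IsLocImmersion (pullback.snd f g) := by
  rw [LocImmLib.isLocImmersion_iff] at hf ⊢
  obtain ⟨h1, h2⟩ := hf
  exact ⟨isLocalizing_pullback_snd f g h1, inferInstance⟩

end Groth.Agent.Helper1.LocImmL
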