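import Mathlib
import Groth.Agent.Lib.Helper1.LocImm6

set_option autoImplicit false
universe u
open CategoryTheory CategoryTheory.Limits AlgebraicGeometry TopologicalSpace Opposite

namespace Groth.Agent.Helper1.LocImmL

section
variable {X Y Y' : Scheme.{u}} (f : X ⟶ Y) (g : Y' ⟶ Y)

/-- the base change of a localizing ring map on a box open -/
theorem isLocHom_boxOpen (U : Y.Opens) (hU : IsAffineOpen U) (V : X.Opens) (hV : IsAffineOpen V)
    (e : V ≤ f ⁻¹ᵁ U) (hloc : LocImm.IsLocHom (f.appLE U V e).hom)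
    (U' : Y'.Opens) (hU' : IsAffineOpen U') (hU'le : U' ≤ g ⁻¹ᵁ U) :
    IsAffineOpen (boxOpen f g V U') ∧
      LocImm.IsLocHom ((pullback.snd f g).appLE U' (boxOpen f g V U') inf_le_right).hom := by
  have hpb := isPullback_boxOpen f g U V U' e hU'le
  haveI : IsAffine ↑V := hV
  haveI : IsAffine ↑U := hU
  haveI : IsAffine ↑U' := hU'
  have hPaff : IsAffine ↑(boxOpen f g V U') := IsAffine.of_isPullback hpb
  have hpo := isPushout_appTop_of_isPullback hpb
  have h1 : LocImm.IsLocHom (f.resLE U V e).appTop.hom :=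
    isLocHom_of_iso (f.appLE U V e) hloc U.topIso V.topIso.symm _
      (Scheme.Hom.resLE_app_top f e)
  have h2 := isLocHom_of_isPushout _ _ _ _ hpo h1
  refine ⟨hPaff, ?_⟩
  exact isLocHom_of_iso _ h2 (Scheme.Opens.topIso U').symm (boxOpen f g V U').topIso _
    (appLE_eq_resLE_appTop _ _ _ _)

theorem boxOpen_preimage_eq (U : Y.Opens) (U' : Y'.Opens) (hU'le : U' ≤ g ⁻¹ᵁ U) :
    boxOpen f g (f ⁻¹ᵁ U) U' = pullback.snd f g ⁻¹ᵁ U' := by
  apply le_antisymm inf_le_right
  intro w hw
  refine ⟨?_, hw⟩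
  change f (pullback.fst f g w) ∈ U
  rw [← Scheme.Hom.comp_apply, pullback.condition, Scheme.Hom.comp_apply]
  exact hU'le hw

/-- affine neighbourhoods adapted to the base change of a localizing immersion -/
theorem exists_affine_nhd_pullback_snd [IsNoetherian X] (hf : LocImm.IsLocImmersion f)
    (w : ↥(pullback f g)) :
    ∃ U' : Y'.Opens, pullback.snd f g w ∈ U' ∧ IsAffineOpen U' ∧
      IsAffineOpen (pullback.snd f g ⁻¹ᵁ U') ∧ LocImm.IsLocHom ((pullback.snd f g).app U').hom := by
  obtain ⟨U, hxU, hU, hV, hloc⟩ := exists_affine_nhd f hf (pullback.fst f g w)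
  have hgz : g (pullback.snd f g w) ∈ U := by
    rw [← Scheme.Hom.comp_apply, ← pullback.condition, Scheme.Hom.comp_apply]
    exact hxU
  obtain ⟨_, ⟨U', hU'aff, rfl⟩, hzU', hU'le⟩ :=
    Y'.isBasis_affineOpens.exists_subset_of_mem_open hgz (g ⁻¹ᵁ U).isOpen
  have hU'le' : U' ≤ g ⁻¹ᵁ U := hU'le
  have hloc' : LocImm.IsLocHom (f.appLE U (f ⁻¹ᵁ U) le_rfl).hom := by
    rw [← Scheme.Hom.app_eq_appLE]; exact hloc
  obtain ⟨h1, h2⟩ := isLocHom_boxOpen f g U hU (f ⁻¹ᵁ U) hV le_rfl hloc' U' hU'aff hU'le'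
  have heq := boxOpen_preimage_eq f g U U' hU'le'
  refine ⟨U', hzU', hU'aff, heq ▸ h1, ?_⟩
  have key : ∀ (P : (pullback f g).Opens) (hP : P = pullback.snd f g ⁻¹ᵁ U')
      (hle : P ≤ pullback.snd f g ⁻¹ᵁ U'),
      LocImm.IsLocHom ((pullback.snd f g).appLE U' P hle).hom →
      LocImm.IsLocHom ((pullback.snd f g).app U').hom := by
    intro P hP hle h
    subst hP
    rw [Scheme.Hom.app_eq_appLE]; exact h
  exact key _ heq _ h2

end

/-- a ring map out of a localization is injective as soon as its restriction is -/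
theorem injective_of_isLocalization {C B D : Type*} [CommRing C] [CommRing B] [CommRing D]
    [Algebra C B] (S : Submonoid C) [IsLocalization S B] (ψ : B →+* D)
    (h : Function.Injective (ψ.comp (algebraMap C B))) : Function.Injective ψ := by
  rw [injective_iff_map_eq_zero]
  intro b hb
  obtain ⟨c, s, rfl⟩ := IsLocalization.exists_mk'_eq S b
  have h1 : ψ (algebraMap C B c) = 0 := by
    have : algebraMap C B c = IsLocalization.mk' B c s * algebraMap C B s := by
      rw [IsLocalization.mk'_spec]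
    rw [this, map_mul, hb, zero_mul]
  have h2 : c = 0 := h (by simpa using h1)
  rw [h2, IsLocalization.mk'_zero]

end Groth.Agent.Helper1.LocImmL

namespace Groth.Agent.Helper1.LocImmL

/-- a bijective ring map after a localizing one is localizing -/
theorem isLocHom_comp_bijective {A B D : CommRingCat.{u}} (φ : A ⟶ B) (hφ : LocImm.IsLocHom φ.hom)
    (ψ : B ⟶ D) (hψ : Function.Bijective ψ.hom) : LocImm.IsLocHom (φ ≫ ψ).hom := by
  haveI : IsIso ψ := by
    rw [← ConcreteCategory.isIso_iff_bijective] at hψ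
    exact hψ
  exact isLocHom_of_iso φ hφ (Iso.refl A) (asIso ψ) _ (by simp)

variable {X W Y : Scheme.{u}}

/-- a schematically dominant composite of a closed immersion and a morphism with adapted
affine localizing neighbourhoods is a localizing immersion -/
theorem isLocImmersion_comp_of_closedImmersion (i : X ⟶ W) [IsClosedImmersion i] (k : W ⟶ Y)
    (hk : ∀ x : X, ∃ U : Y.Opens, k (i x) ∈ U ∧ IsAffineOpen U ∧
      IsAffineOpen (k ⁻¹ᵁ U) ∧ LocImm.IsLocHom (k.app U).hom)
    (hd : ∀ U : Y.Opens, Function.Injective ((i ≫ k).app U).hom) :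
    LocImm.IsLocImmersion (i ≫ k) := by
  apply isLocImmersion_of_affine_nhds
  intro x
  obtain ⟨U, hxU, hU, hkU, hloc⟩ := hk x
  refine ⟨U, ?_, hU, ?_, ?_⟩
  · rw [Scheme.Hom.comp_apply]; exact hxU
  · exact hkU.preimage i
  · rw [Scheme.Hom.comp_app]
    apply isLocHom_comp_bijective _ hloc
    have hsurj : Function.Surjective (i.app (k ⁻¹ᵁ U)).hom := Scheme.Hom.app_surjective i _ hkU
    refine ⟨?_, hsurj⟩
    obtain ⟨S, hS⟩ := hloc
    letI := (k.app U).hom.toAlgebra
    refine injective_of_isLocalization S (i.app (k ⁻¹ᵁ U)).hom ?_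
    have := hd U
    rw [Scheme.Hom.comp_app] at this
    exact this

end Groth.Agent.Helper1.LocImmL
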