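import Mathlib
import Groth.Agent.Lib.Helper1.LocImm7
import Groth.Agent.Lib.Helper1.LocImmLib

set_option autoImplicit false
universe u
open CategoryTheory CategoryTheory.Limits AlgebraicGeometry TopologicalSpace Opposite

namespace Groth.Agent.Helper1.LocImmL

/-- every point of a quasi-sober T0 space has a maximal generization -/
theorem exists_maximal_generization {α : Type*} [TopologicalSpace α] [QuasiSober α] [T0Space α]
    (x : α) : ∃ ξ : α, ξ ⤳ x ∧ ∀ x' : α, x' ⤳ ξ → x' = ξ := by
  have hirr : IsIrreducible (irreducibleComponent x) := isIrreducible_irreducibleComponent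
  have hcl : IsClosed (irreducibleComponent x) := isClosed_irreducibleComponent
  have hgen := hirr.isGenericPoint_genericPoint hcl
  refine ⟨hirr.genericPoint, ?_, ?_⟩
  · rw [specializes_iff_mem_closure, hgen.def]
    exact mem_irreducibleComponent
  · intro x' hx'
    have h1 : irreducibleComponent x ⊆ closure {x'} := by
      rw [← hgen.def]
      exact Specializes.closure_subset hx'
    have h2 : closure {x'} = irreducibleComponent x :=
      eq_irreducibleComponent (isIrreducible_singleton.closure).2 h1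
    have h3 : IsGenericPoint x' (irreducibleComponent x) := h2
    exact h3.eq hgen

variable {X Y : Scheme.{u}}

/-- a localizing morphism is injective on the generizations of a point -/
theorem eq_of_specializes_of_isLocalizing (f : X ⟶ Y) (hf : LocImm.IsLocalizing f) (x x' x'' : X)
    (h' : x' ⤳ x) (h'' : x'' ⤳ x) (he : f x' = f x'') : x' = x'' := by
  obtain ⟨U, V, hx, e, hloc⟩ := hf x
  have hm := LocImmLib.mono_resLE f U.1 V.1 U.2 V.2 e hloc
  have hx' : x' ∈ V.1 := h'.mem_open V.1.2 hx
  have hx'' : x'' ∈ V.1 := h''.mem_open V.1.2 hx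
  have hinj := (f.resLE U.1 V.1 e).injective
  have key : f.resLE U.1 V.1 e ⟨x', hx'⟩ = f.resLE U.1 V.1 e ⟨x'', hx''⟩ := by
    apply Subtype.ext
    have h1 : ∀ v : ↥V.1, ((f.resLE U.1 V.1 e) v).1 = f v.1 := by
      intro v
      have := Scheme.Hom.resLE_comp_ι f e
      have h2 := congr($(this) v)
      simpa only [Scheme.Hom.comp_apply, Scheme.Opens.ι_apply] using h2
    rw [h1, h1]; exact he
  have := hinj key
  exact congr($(this).1)

end Groth.Agent.Helper1.LocImmL

namespace Groth.Agent.Helper1.LocImmL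

variable {X Y : Scheme.{u}}

/-- a point of `X ×_Y X` both of whose projections lie in an open on which `f` is a
monomorphism lies on the diagonal -/
theorem mem_range_diagonal (f : X ⟶ Y) (U : Y.Opens) (V : X.Opens) (e : V ≤ f ⁻¹ᵁ U)
    [Mono (f.resLE U V e)] (η : ↥(pullback f f)) (h1 : pullback.fst f f η ∈ V)
    (h2 : pullback.snd f f η ∈ V) : η ∈ Set.range (pullback.diagonal f) := by
  have hpb := isPullback_boxOpen f f U V V e e
  set B := boxOpen f f V V with hB
  set p := (pullback.fst f f).resLE V B inf_le_left with hp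
  set q := (pullback.snd f f).resLE V B inf_le_right with hq
  have hpq : p = q := by
    rw [← cancel_mono (f.resLE U V e)]
    exact hpb.w
  let d : (V : Scheme.{u}) ⟶ B := hpb.lift (𝟙 _) (𝟙 _) rfl
  have hd1 : d ≫ p = 𝟙 _ := hpb.lift_fst _ _ _
  have hpd : p ≫ d = 𝟙 _ := by
    apply hpb.hom_ext
    · rw [Category.assoc, hd1, Category.comp_id, Category.id_comp]
    · rw [Category.assoc, ← hpq, hd1, Category.comp_id, Category.id_comp, hpq]
  have hdi : d ≫ B.ι = V.ι ≫ pullback.diagonal f := by
    apply pullback.hom_ext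
    · rw [Category.assoc, Category.assoc, pullback.diagonal_fst, Category.comp_id,
        ← Scheme.Hom.resLE_comp_ι (pullback.fst f f) (U := V) (V := B) inf_le_left,
        ← Category.assoc, ← hp, hd1, Category.id_comp]
    · rw [Category.assoc, Category.assoc, pullback.diagonal_snd, Category.comp_id,
        ← Scheme.Hom.resLE_comp_ι (pullback.snd f f) (U := V) (V := B) inf_le_right,
        ← Category.assoc, ← hq, ← hpq, hd1, Category.id_comp]
  have hηB : η ∈ B := ⟨h1, h2⟩
  let η' : ↥B := ⟨η, hηB⟩
  have h3 : d (p η') = η' := by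
    rw [← Scheme.Hom.comp_apply, hpd]; rfl
  refine ⟨V.ι (p η'), ?_⟩
  rw [← Scheme.Hom.comp_apply, ← hdi, Scheme.Hom.comp_apply, h3]
  rfl

/-- a separated localizing morphism that is injective on maximal points is injective -/
theorem injective_of_isSeparated (f : X ⟶ Y) (hf : LocImm.IsLocalizing f) [IsSeparated f]
    (hmax : Set.InjOn (fun x => f x) {x : X | ∀ x' : X, x' ⤳ x → x' = x}) :
    Function.Injective f := by
  intro x₁ x₂ h12
  obtain ⟨w, hw1, hw2⟩ := Scheme.Pullback.exists_preimage_pullback (f := f) (g := f) x₁ x₂ h12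
  obtain ⟨ξ, hξ, hξmax⟩ := exists_maximal_generization x₂
  have hloc2 := isLocalizing_pullback_snd f f hf
  obtain ⟨η, hηw, hηξ⟩ := exists_specializes_of_isLocalizing (pullback.snd f f) hloc2 w ξ
    (hw2 ▸ hξ)
  set ξ' := pullback.fst f f η with hξ'
  have hfξ : f ξ' = f ξ := by
    rw [hξ', ← hηξ, ← Scheme.Hom.comp_apply, ← Scheme.Hom.comp_apply, pullback.condition]
  have hξ'max : ∀ x' : X, x' ⤳ ξ' → x' = ξ' := by
    intro x' hx'
    have h1 : f x' ⤳ f ξ := hfξ ▸ hx'.map f.continuous
    obtain ⟨x'', hx'', he⟩ := exists_specializes_of_isLocalizing f hf ξ (f x') h1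
    have h2 : x'' = ξ := hξmax x'' hx''
    have h3 : f x' = f ξ' := by rw [← he, h2, hfξ]
    exact eq_of_specializes_of_isLocalizing f hf ξ' x' ξ' hx' specializes_rfl h3
  have hξξ' : ξ' = ξ := hmax hξ'max hξmax hfξ
  obtain ⟨U, V, hx, e, hloc⟩ := hf ξ
  haveI := LocImmLib.mono_resLE f U.1 V.1 U.2 V.2 e hloc
  have hη : η ∈ Set.range (pullback.diagonal f) :=
    mem_range_diagonal f U.1 V.1 e η (by rw [← hξ', hξξ']; exact hx) (by rw [hηξ]; exact hx)
  have hcl : IsClosed (Set.range (pullback.diagonal f)) :=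
    (pullback.diagonal f).isClosedEmbedding.isClosed_range
  obtain ⟨x, rfl⟩ := hηw.mem_closed hcl hη
  rw [← hw1, ← hw2, ← Scheme.Hom.comp_apply, ← Scheme.Hom.comp_apply, pullback.diagonal_fst,
    pullback.diagonal_snd]

end Groth.Agent.Helper1.LocImmL
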