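import Mathlib
import Groth.Prelude.Def_EssFT
import Groth.Agent.Lib.Helper1.LocImm8
import Groth.Agent.Lib.Helper1.LocImm10

set_option autoImplicit false
universe u
open CategoryTheory CategoryTheory.Limits AlgebraicGeometry TopologicalSpace Opposite

namespace Groth.Agent.Helper1.LocImmL

/-- a localizing ring map followed by the localization at one element is localizing -/
theorem isLocHom_comp_away {A B B' : Type u} [CommRing A] [CommRing B] [CommRing B']
    (φ : A →+* B) (hφ : LocImm.IsLocHom φ) (β : B →+* B') (b : B)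
    (hβ : letI := β.toAlgebra; IsLocalization.Away b B') : LocImm.IsLocHom (β.comp φ) := by
  letI iAB : Algebra A B := φ.toAlgebra
  letI iBB' : Algebra B B' := β.toAlgebra
  letI iAB' : Algebra A B' := (β.comp φ).toAlgebra
  haveI : IsScalarTower A B B' := IsScalarTower.of_algebraMap_eq fun _ => rfl
  obtain ⟨S, hS⟩ := hφ
  haveI : IsLocalization (Submonoid.powers b) B' := hβ
  exact ⟨_, IsLocalization.localization_localization_isLocalization S (Submonoid.powers b) B'⟩

/-- variant of `exists_isLocHom_away` with a general description of the contracted prime -/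
theorem exists_isLocHom_away' {A B : Type u} [CommRing A] [CommRing B] [IsNoetherianRing A]
    (φ : A →+* B) (hφ : φ.EssFiniteType) (q : Ideal B) [q.IsPrime] (p : Ideal A) [p.IsPrime]
    (hpq : p = q.comap φ)
    (hbij : Function.Bijective (Localization.localRingHom p q φ hpq)) :
    ∃ b : B, b ∉ q ∧ LocImm.IsLocHom ((algebraMap B (Localization.Away b)).comp φ) := by
  subst hpq
  exact exists_isLocHom_away φ q hφ hbij

/-- transfer of a localizing property along an isomorphism of targets -/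
theorem isLocHom_ringEquiv_comp {A D D' : Type u} [CommRing A] [CommRing D] [CommRing D']
    (ψ : A →+* D) (hψ : LocImm.IsLocHom ψ) (e : D ≃+* D') :
    LocImm.IsLocHom (e.toRingHom.comp ψ) :=
  isLocHom_comp_bijective (CommRingCat.ofHom ψ) hψ (CommRingCat.ofHom e.toRingHom) e.bijective

/-- replacing `Localization.Away b` by any localization away from `b` -/
theorem isLocHom_away_of_localization {A B B' : Type u} [CommRing A] [CommRing B] [CommRing B']
    (φ : A →+* B) (b : B)
    (hloc : LocImm.IsLocHom ((algebraMap B (Localization.Away b)).comp φ))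
    (β : B →+* B') (hβ : letI := β.toAlgebra; IsLocalization.Away b B') :
    LocImm.IsLocHom (β.comp φ) := by
  letI := β.toAlgebra
  haveI : IsLocalization (Submonoid.powers b) B' := hβ
  let e₀ : Localization.Away b ≃ₐ[B] B' :=
    IsLocalization.algEquiv (Submonoid.powers b) (Localization.Away b) B'
  have h1 : β.comp φ = e₀.toRingEquiv.toRingHom.comp ((algebraMap B (Localization.Away b)).comp φ) := by
    ext a
    simp only [RingHom.comp_apply]
    exact (e₀.commutes (φ a)).symm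
  rw [h1]
  exact isLocHom_ringEquiv_comp _ hloc e₀.toRingEquiv

variable {X Y : Scheme.{u}}

/-- `g` is localizing near `y` -/
def LocAt (g : X ⟶ Y) (y : X) : Prop :=
  ∃ (U : Y.affineOpens) (V : X.affineOpens) (_ : y ∈ V.1) (e : V.1 ≤ g ⁻¹ᵁ U.1),
    LocImm.IsLocHom (g.appLE U.1 V.1 e).hom

/-- shrinking the source affine open to a basic open -/
theorem LocAt.exists_le {g : X ⟶ Y} {y : X} (h : LocAt g y) (W : X.Opens) (hy : y ∈ W) :
    ∃ (U : Y.affineOpens) (V : X.affineOpens) (_ : y ∈ V.1) (_ : V.1 ≤ W) (e : V.1 ≤ g ⁻¹ᵁ U.1),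
      LocImm.IsLocHom (g.appLE U.1 V.1 e).hom := by
  obtain ⟨U, V, hyV, e, hloc⟩ := h
  obtain ⟨b, hbW, hyb⟩ := V.2.exists_basicOpen_le ⟨y, hy⟩ hyV
  have hle : X.basicOpen b ≤ V.1 := X.basicOpen_le b
  refine ⟨U, ⟨X.basicOpen b, V.2.basicOpen b⟩, hyb, hbW, hle.trans e, ?_⟩
  have h1 : g.appLE U.1 (X.basicOpen b) (hle.trans e) =
      g.appLE U.1 V.1 e ≫ X.presheaf.map (homOfLE hle).op := by
    rw [Scheme.Hom.appLE_map]
  rw [h1]
  exact isLocHom_comp_away _ hloc (X.presheaf.map (homOfLE hle).op).hom b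
    (V.2.isLocalization_basicOpen b)

/-- the restriction of `g` to an open contained in its localizing locus is localizing -/
theorem isLocalizing_ι_comp (g : X ⟶ Y) (U : X.Opens) (h : ∀ y ∈ U, LocAt g y) :
    LocImm.IsLocalizing (U.ι ≫ g) := by
  intro z
  obtain ⟨U', V, hyV, hVU, e, hloc⟩ := (h z.1 z.2).exists_le U z.2
  have hVr : V.1 ≤ U.ι.opensRange := by rw [Scheme.Opens.opensRange_ι]; exact hVU
  have hW : IsAffineOpen (U.ι ⁻¹ᵁ V.1) := V.2.preimage_of_isOpenImmersion U.ι hVr
  have e' : U.ι ⁻¹ᵁ V.1 ≤ (U.ι ≫ g) ⁻¹ᵁ U'.1 := by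
    intro w hw
    exact e hw
  refine ⟨U', ⟨U.ι ⁻¹ᵁ V.1, hW⟩, hyV, e', ?_⟩
  have h1 : (U.ι ≫ g).appLE U'.1 (U.ι ⁻¹ᵁ V.1) e' =
      g.appLE U'.1 V.1 e ≫ U.ι.appLE V.1 (U.ι ⁻¹ᵁ V.1) le_rfl := by
    rw [Scheme.Hom.appLE_comp_appLE]
  rw [h1]
  apply isLocHom_comp_bijective _ hloc
  rw [← Scheme.Hom.app_eq_appLE]
  haveI := U.ι.isIso_app V.1 hVr
  exact ConcreteCategory.bijective_of_isIso (U.ι.app V.1)

/-- a locally essentially finite type morphism to a locally Noetherian scheme is localizing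
near any point at which it induces an isomorphism of local rings -/
theorem locAt_of_isIso_stalkMap [IsLocallyNoetherian Y] (g : X ⟶ Y)
    [EssFT.LocallyEssFiniteType g] (y : X) [IsIso (g.stalkMap y)] : LocAt g y := by
  obtain ⟨U', V, hyV, e, hess⟩ :=
    EssFT.LocallyEssFiniteType.exists_appLE_essFiniteType (f := g) y
  haveI : IsNoetherianRing Γ(Y, U'.1) := IsLocallyNoetherian.component_noetherian U'
  have h1 := (MorphismProperty.isomorphisms CommRingCat).arrow_mk_iso_iff
    (IsAffineOpen.arrowStalkMapIso g U'.1 U'.2 V.1 V.2 e hyV)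
  change IsIso _ ↔ IsIso _ at h1
  have h2 := h1.1 inferInstance
  rw [ConcreteCategory.isIso_iff_bijective] at h2
  obtain ⟨b, hbq, hloc⟩ := exists_isLocHom_away' (g.appLE U'.1 V.1 e).hom hess
    (V.2.primeIdealOf ⟨y, hyV⟩).asIdeal (U'.2.primeIdealOf ⟨g y, e hyV⟩).asIdeal
    (congr($(IsAffineOpen.comap_primeIdealOf_appLE U'.1 U'.2 V.1 V.2 e hyV).1).symm) h2
  have hyb : y ∈ X.basicOpen b := by
    have h3 : V.2.primeIdealOf ⟨y, hyV⟩ ∈ V.2.fromSpec ⁻¹ᵁ X.basicOpen b := by
      rw [V.2.fromSpec_preimage_basicOpen]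
      exact hbq
    have h4 : V.2.fromSpec (V.2.primeIdealOf ⟨y, hyV⟩) = y := V.2.fromSpec_primeIdealOf ⟨y, hyV⟩
    have h5 : V.2.fromSpec (V.2.primeIdealOf ⟨y, hyV⟩) ∈ X.basicOpen b := h3
    rwa [h4] at h5
  have hle : X.basicOpen b ≤ V.1 := X.basicOpen_le b
  refine ⟨U', ⟨X.basicOpen b, V.2.basicOpen b⟩, hyb, hle.trans e, ?_⟩
  have h6 : g.appLE U'.1 (X.basicOpen b) (hle.trans e) =
      g.appLE U'.1 V.1 e ≫ X.presheaf.map (homOfLE hle).op := by
    rw [Scheme.Hom.appLE_map]
  rw [h6]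
  exact isLocHom_away_of_localization _ b hloc (X.presheaf.map (homOfLE hle).op).hom
    (V.2.isLocalization_basicOpen b)

end Groth.Agent.Helper1.LocImmL
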