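import Mathlib
import Groth.Agent.Lib.Helper1.LocImm11

set_option autoImplicit false
universe u
open CategoryTheory CategoryTheory.Limits AlgebraicGeometry TopologicalSpace Opposite

namespace Groth.Agent.Helper1.LocImmL

/-- a Noetherian quasi-sober T0 space has finitely many maximal points -/
theorem finite_maximal_points (α : Type*) [TopologicalSpace α] [NoetherianSpace α] [QuasiSober α]
    [T0Space α] : {ξ : α | ∀ ξ' : α, ξ' ⤳ ξ → ξ' = ξ}.Finite := by
  have hfin : (irreducibleComponents α).Finite := NoetherianSpace.finite_irreducibleComponents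
  refine Set.Finite.of_finite_image (f := fun ξ : α => closure ({ξ} : Set α))
    (hfin.subset ?_) ?_
  · rintro _ ⟨ξ, hξ, rfl⟩
    refine ⟨isIrreducible_singleton.closure, fun t ht hle => ?_⟩
    have hct : IsIrreducible (closure t) := ht.closure
    have hgen := hct.isGenericPoint_genericPoint isClosed_closure
    have h1 : hct.genericPoint ⤳ ξ := by
      rw [specializes_iff_mem_closure, hgen.def]
      exact subset_closure (hle (subset_closure rfl))
    have h2 : hct.genericPoint = ξ := hξ _ h1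
    have h3 : closure t = closure {ξ} := by rw [← hgen.def, h2]
    change t ⊆ closure {ξ}
    rw [← h3]
    exact subset_closure
  · intro ξ _ ξ' _ h
    have h1 : closure ({ξ} : Set α) = closure {ξ'} := h
    have : IsGenericPoint ξ (closure {ξ'}) := h1
    exact this.eq rfl

variable {X Y₁ Y₂ : Scheme.{u}}

/-- the localizing locus of a morphism, as an open -/
noncomputable def locLocus (g : Y₁ ⟶ Y₂) : Y₁.Opens :=
  ⨆ V : {V : Y₁.affineOpens // ∃ (U : Y₂.affineOpens) (e : V.1 ≤ g ⁻¹ᵁ U.1),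
    LocImm.IsLocHom (g.appLE U.1 V.1 e).hom}, V.1.1

theorem mem_locLocus_iff (g : Y₁ ⟶ Y₂) (y : Y₁) : y ∈ locLocus g ↔ LocAt g y := by
  rw [locLocus, Opens.mem_iSup]
  constructor
  · rintro ⟨⟨V, U, e, hloc⟩, hy⟩
    exact ⟨U, V, hy, e, hloc⟩
  · rintro ⟨U, V, hy, e, hloc⟩
    exact ⟨⟨V, U, e, hloc⟩, hy⟩

/-- **S18194** -/
theorem exists_open_isLocImmersion [IsNoetherian Y₁] [IsNoetherian Y₂]
    (f₁ : X ⟶ Y₁) (f₂ : X ⟶ Y₂) (g : Y₁ ⟶ Y₂) (hf₁ : LocImm.IsLocImmersion f₁)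
    (hf₂ : LocImm.IsLocImmersion f₂) [IsSeparated g] [EssFT.LocallyEssFiniteType g]
    (h : f₁ ≫ g = f₂) :
    ∃ U : Y₁.Opens, Set.range (fun x => f₁ x) ⊆ (U : Set Y₁) ∧
      LocImm.IsLocImmersion (U.ι ≫ g) := by
  subst h
  -- step 1: the image lies in the localizing locus
  have hL : ∀ x : X, f₁ x ∈ locLocus g := by
    intro x
    rw [mem_locLocus_iff]
    have i1 := isIso_stalkMap_of_isLocalizing f₁ hf₁.1 x
    have i2 := isIso_stalkMap_of_isLocalizing (f₁ ≫ g) hf₂.1 x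
    have i3 : IsIso (g.stalkMap (f₁ x)) := by
      have h1 : (f₁ ≫ g).stalkMap x = g.stalkMap (f₁ x) ≫ f₁.stalkMap x :=
        Scheme.Hom.stalkMap_comp f₁ g x
      have h2 : IsIso (g.stalkMap (f₁ x) ≫ f₁.stalkMap x) := by rw [← h1]; exact i2
      exact IsIso.of_isIso_comp_right (g.stalkMap (f₁ x)) (f₁.stalkMap x)
    exact locAt_of_isIso_stalkMap g (f₁ x)
  -- step 2: remove the components that do not meet the image
  let E : Set Y₁ := {ξ | (∀ ξ' : Y₁, ξ' ⤳ ξ → ξ' = ξ) ∧ ξ ∉ Set.range (fun x => f₁ x)}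
  have hEfin : E.Finite := (finite_maximal_points Y₁).subset fun ξ hξ => hξ.1
  have hC : IsClosed (closure E) := isClosed_closure
  let U' : Y₁.Opens := locLocus g ⊓ ⟨(closure E)ᶜ, hC.isOpen_compl⟩
  have hrange : Set.range (fun x => f₁ x) ⊆ (U' : Set Y₁) := by
    rintro _ ⟨x, rfl⟩
    refine ⟨hL x, ?_⟩
    change f₁ x ∉ closure E
    intro hx
    have h1 : closure E = ⋃ ξ ∈ E, closure ({ξ} : Set Y₁) := by
      conv_lhs => rw [← Set.biUnion_of_singleton E]
      exact hEfin.closure_biUnion _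
    rw [h1] at hx
    simp only [Set.mem_iUnion, exists_prop] at hx
    obtain ⟨ξ, hξE, hξ⟩ := hx
    have h2 : ξ ⤳ f₁ x := specializes_iff_mem_closure.2 hξ
    exact hξE.2 (stableUnderGeneralization_range f₁ hf₁.1 h2 ⟨x, rfl⟩)
  refine ⟨U', hrange, ?_⟩
  have hloc : LocImm.IsLocalizing (U'.ι ≫ g) :=
    isLocalizing_ι_comp g U' fun y hy => (mem_locLocus_iff g y).1 hy.1
  refine ⟨hloc, ?_⟩
  apply injective_of_isSeparated (U'.ι ≫ g) hloc
  have hmem : ∀ z : ↥(U'.toScheme), (∀ z' : ↥(U'.toScheme), z' ⤳ z → z' = z) →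
      z.1 ∈ Set.range (fun x => f₁ x) := by
    intro z hz
    by_contra hnot
    have hzE : z.1 ∈ E := by
      refine ⟨fun ξ' hξ' => ?_, hnot⟩
      have hξU : ξ' ∈ U' := hξ'.mem_open U'.2 z.2
      have hξr : ξ' ∈ U'.ι.opensRange := by rw [Scheme.Opens.opensRange_ι]; exact hξU
      obtain ⟨z', hz'⟩ := hξr
      have h3 : z' ⤳ z := by
        rw [← U'.ι.isOpenEmbedding.isInducing.specializes_iff]
        change U'.ι z' ⤳ z.1
        have hz'' : U'.ι z' = ξ' := hz'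
        rw [hz'']
        exact hξ'
      have hz'' : U'.ι z' = ξ' := hz'
      rw [← hz'', hz z' h3]
      rfl
    exact z.2.2 (subset_closure hzE)
  intro z₁ hz₁ z₂ hz₂ h12
  obtain ⟨x₁, hx₁⟩ := hmem z₁ hz₁
  obtain ⟨x₂, hx₂⟩ := hmem z₂ hz₂
  have h4 : (f₁ ≫ g) x₁ = (f₁ ≫ g) x₂ := by
    have h5 : g z₁.1 = g z₂.1 := h12
    rw [Scheme.Hom.comp_apply, Scheme.Hom.comp_apply]
    change g ((fun x => f₁ x) x₁) = g ((fun x => f₁ x) x₂)
    rw [hx₁, hx₂, h5]
  have h6 : x₁ = x₂ := hf₂.2 h4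
  apply Subtype.ext
  rw [← hx₁, ← hx₂, h6]

end Groth.Agent.Helper1.LocImmL
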