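import Mathlib
import Groth.Agent.Lib.Helper1.LocImm12
import Groth.Agent.Lib.Helper1.InvT1

set_option autoImplicit false
universe u
open CategoryTheory CategoryTheory.Limits AlgebraicGeometry TopologicalSpace Opposite

namespace Groth.Agent.Helper1.LocImmL

open Groth.Agent.Helper1.QcCech

variable {X Y Z : Scheme.{u}}

/-- **S18195** in library form -/
theorem isLocImmersion_of_comp [IsNoetherian X] (f : X ⟶ Y) (g : Y ⟶ Z)
    (hfg : LocImm.IsLocImmersion (f ≫ g)) [IsSeparated g]
    (hd : ∀ U : Y.Opens, Function.Injective (f.app U).hom) : LocImm.IsLocImmersion f := by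
  let i : X ⟶ pullback (f ≫ g) g := pullback.lift (𝟙 _) f (Category.id_comp (f ≫ g))
  have hfac : i ≫ pullback.snd (f ≫ g) g = f := pullback.lift_snd _ _ _
  have := isLocImmersion_comp_of_closedImmersion i (pullback.snd (f ≫ g) g)
    (fun x => exists_affine_nhd_pullback_snd (f ≫ g) g hfg (i x)) (by rw [hfac]; exact hd)
  rwa [hfac] at this

/-- locally of finite type morphisms are locally essentially of finite type -/
theorem locallyEssFiniteType_of_locallyOfFiniteType (f : X ⟶ Y) [LocallyOfFiniteType f] :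
    EssFT.LocallyEssFiniteType f := by
  constructor
  intro x
  obtain ⟨_, ⟨U, hU, rfl⟩, hxU, -⟩ := Y.isBasis_affineOpens.exists_subset_of_mem_open
    (Set.mem_univ (f x)) isOpen_univ
  obtain ⟨_, ⟨V, hV, rfl⟩, hxV, hVU⟩ := X.isBasis_affineOpens.exists_subset_of_mem_open
    (show x ∈ (f ⁻¹ᵁ U : Set X) from hxU) (f ⁻¹ᵁ U).isOpen
  have hVU' : V ≤ f ⁻¹ᵁ U := hVU
  refine ⟨⟨U, hU⟩, ⟨V, hV⟩, hxV, hVU', ?_⟩
  have h1 : (f.appLE U V hVU').hom.FiniteType := f.finiteType_appLE hU hV hVU'
  letI := (f.appLE U V hVU').hom.toAlgebra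
  have h2 : Algebra.FiniteType Γ(Y, U) Γ(X, V) := h1
  exact (inferInstance : Algebra.EssFiniteType Γ(Y, U) Γ(X, V))

/-- the morphism to the scheme theoretic image is injective on sections over all opens -/
theorem toImage_app_injective_all (f : X ⟶ Y) [QuasiCompact f] (W : f.image.Opens) :
    Function.Injective (f.toImage.app W).hom := by
  rw [injective_iff_map_eq_zero]
  intro s hs
  apply Groth.Agent.Helper1.InvT.eqR_of_locally
  intro z hz
  have hbasis := Y.isBasis_affineOpens.of_isInducing f.imageι.isEmbedding.isInducing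
  obtain ⟨_, ⟨_, ⟨U, hU, rfl⟩, rfl⟩, hzU, hUW⟩ := hbasis.exists_subset_of_mem_open hz W.isOpen
  have hle : f.imageι ⁻¹ᵁ U ≤ W := hUW
  refine ⟨f.imageι ⁻¹ᵁ U, hle, hzU, ?_⟩
  rw [map_zero]
  apply f.toImage_app_injective ⟨U, hU⟩
  rw [map_zero]
  have hnat := f.toImage.naturality (homOfLE hle).op
  have h2 := congr($(hnat).hom s)
  simp only [CommRingCat.hom_comp, RingHom.comp_apply] at h2
  change (f.toImage.app (f.imageι ⁻¹ᵁ U)).hom ((f.image.presheaf.map (homOfLE hle).op).hom s) = 0
  rw [h2, hs, map_zero]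

/-- a schematically dominant localizing immersion stays one after shrinking the target to an
open containing its image -/
theorem isLocImmersion_lift [IsNoetherian X] (k₀ : X ⟶ Z) (hk₀ : LocImm.IsLocImmersion k₀)
    (hd₀ : ∀ U : Z.Opens, Function.Injective (k₀.app U).hom) (W : Z.Opens)
    (k : X ⟶ W) (hfac : k ≫ W.ι = k₀) : LocImm.IsLocImmersion k := by
  refine isLocImmersion_of_comp k W.ι (hfac ▸ hk₀) ?_
  have key : ∀ V : Z.Opens, V ≤ W.ι.opensRange →
      Function.Injective (k.app (W.ι ⁻¹ᵁ V)).hom := by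
    intro V hV
    have h0 := Scheme.Hom.congr_app hfac.symm V
    have h1 : Function.Injective ((k ≫ W.ι).app V).hom := by
      have h2 := hd₀ V
      rw [h0, CommRingCat.hom_comp, RingHom.coe_comp] at h2
      exact Function.Injective.of_comp h2
    have h1' : Function.Injective ((k.app (W.ι ⁻¹ᵁ V)).hom ∘ (W.ι.app V).hom) := h1
    haveI := W.ι.isIso_app V hV
    exact Function.Injective.of_comp_right h1'
      (ConcreteCategory.bijective_of_isIso (W.ι.app V)).2
  intro U
  have hU : W.ι ⁻¹ᵁ (W.ι ''ᵁ U) = U := W.ι.preimage_image_eq U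
  have h3 := key (W.ι ''ᵁ U) (by
    rintro _ ⟨x, -, rfl⟩
    exact ⟨x, rfl⟩)
  have gen : ∀ U₀ U₁ : (W : Scheme.{u}).Opens, U₀ = U₁ →
      Function.Injective (k.app U₀).hom → Function.Injective (k.app U₁).hom := by
    intro U₀ U₁ h; subst h; exact id
  exact gen _ _ hU h3

end Groth.Agent.Helper1.LocImmL
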