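import Mathlib
import Groth.Agent.Lib.Helper1.LocImm13
import Groth.Agent.Lib.Helper1.LocImmLib

set_option autoImplicit false
universe u
open CategoryTheory CategoryTheory.Limits AlgebraicGeometry TopologicalSpace Opposite

namespace Groth.Agent.Helper1.LocImmL

variable {X Y₁ Y₂ S : Scheme.{u}}

set_option maxHeartbeats 800000 in
/-- **S18193** -/
theorem exists_common_open [IsNoetherian X] [IsNoetherian Y₁] [IsNoetherian Y₂]
    (f₁ : X ⟶ Y₁) (f₂ : X ⟶ Y₂) (π₁ : Y₁ ⟶ S) (π₂ : Y₂ ⟶ S)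
    (hf₁ : LocImm.IsLocImmersion f₁) (hf₂ : LocImm.IsLocImmersion f₂)
    [IsSeparated π₁] [IsSeparated π₂] [LocallyOfFiniteType π₁] [LocallyOfFiniteType π₂]
    (h : f₁ ≫ π₁ = f₂ ≫ π₂) :
    ∃ (W : Scheme.{u}) (k : X ⟶ W) (g₁ : W ⟶ Y₁) (g₂ : W ⟶ Y₂), LocImm.IsLocImmersion k ∧
      IsOpenImmersion g₁ ∧ IsOpenImmersion g₂ ∧ g₁ ≫ π₁ = g₂ ≫ π₂ ∧ k ≫ g₁ = f₁ ∧ k ≫ g₂ = f₂ := by
  let φ : X ⟶ pullback π₁ π₂ := pullback.lift f₁ f₂ h
  let k₀ : X ⟶ φ.image := φ.toImage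
  let p₁ : φ.image ⟶ Y₁ := φ.imageι ≫ pullback.fst π₁ π₂
  let p₂ : φ.image ⟶ Y₂ := φ.imageι ≫ pullback.snd π₁ π₂
  have hk₁ : k₀ ≫ p₁ = f₁ := by
    simp only [k₀, p₁, Scheme.Hom.toImage_imageι_assoc, φ, pullback.lift_fst]
  have hk₂ : k₀ ≫ p₂ = f₂ := by
    simp only [k₀, p₂, Scheme.Hom.toImage_imageι_assoc, φ, pullback.lift_snd]
  haveI : QuasiCompact π₁ := inferInstance
  haveI : QuasiCompact π₂ := inferInstance
  haveI : IsSeparated p₁ := inferInstance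
  haveI : IsSeparated p₂ := inferInstance
  haveI : LocallyOfFiniteType p₁ := inferInstance
  haveI : LocallyOfFiniteType p₂ := inferInstance
  haveI : QuasiCompact p₁ := inferInstance
  haveI : IsLocallyNoetherian φ.image := LocallyOfFiniteType.isLocallyNoetherian p₁
  haveI : CompactSpace φ.image := QuasiCompact.compactSpace_of_compactSpace p₁
  haveI : IsNoetherian φ.image := {}
  have hd := toImage_app_injective_all φ
  have hk₀ : LocImm.IsLocImmersion k₀ :=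
    isLocImmersion_of_comp k₀ p₁ (by rw [hk₁]; exact hf₁) hd
  haveI := locallyEssFiniteType_of_locallyOfFiniteType p₁
  haveI := locallyEssFiniteType_of_locallyOfFiniteType p₂
  obtain ⟨U₁, hU₁r, hU₁⟩ := exists_open_isLocImmersion k₀ f₁ p₁ hk₀ hf₁ hk₁
  obtain ⟨U₂, hU₂r, hU₂⟩ := exists_open_isLocImmersion k₀ f₂ p₂ hk₀ hf₂ hk₂
  haveI : IsOpenImmersion (U₁.ι ≫ p₁) :=
    LocImmLib.isOpenImmersion_of_locallyOfFiniteType _ hU₁
  haveI : IsOpenImmersion (U₂.ι ≫ p₂) :=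
    LocImmLib.isOpenImmersion_of_locallyOfFiniteType _ hU₂
  let W : φ.image.Opens := U₁ ⊓ U₂
  have hW₁ : W.ι ≫ p₁ = φ.image.homOfLE (inf_le_left : W ≤ U₁) ≫ U₁.ι ≫ p₁ := by
    rw [Scheme.homOfLE_ι_assoc]
  have hW₂ : W.ι ≫ p₂ = φ.image.homOfLE (inf_le_right : W ≤ U₂) ≫ U₂.ι ≫ p₂ := by
    rw [Scheme.homOfLE_ι_assoc]
  have hrange : Set.range k₀ ⊆ Set.range W.ι := by
    rw [Scheme.Opens.range_ι]
    rintro _ ⟨x, rfl⟩
    exact ⟨hU₁r ⟨x, rfl⟩, hU₂r ⟨x, rfl⟩⟩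
  let k : X ⟶ W := IsOpenImmersion.lift W.ι k₀ hrange
  have hfac : k ≫ W.ι = k₀ := IsOpenImmersion.lift_fac _ _ _
  refine ⟨W, k, W.ι ≫ p₁, W.ι ≫ p₂, isLocImmersion_lift k₀ hk₀ hd W k hfac, ?_, ?_, ?_, ?_, ?_⟩
  · rw [hW₁]; infer_instance
  · rw [hW₂]; infer_instance
  · simp only [p₁, p₂, Category.assoc, pullback.condition]
  · rw [reassoc_of% hfac, hk₁]
  · rw [reassoc_of% hfac, hk₂]

end Groth.Agent.Helper1.LocImmL
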