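import Mathlib
import Groth.Prelude.Def_EssFT
import Groth.Agent.Lib.Helper1.LocImm14

set_option autoImplicit false
universe u
open CategoryTheory CategoryTheory.Limits AlgebraicGeometry TopologicalSpace Opposite

namespace Groth.Agent.Helper1.LocImmL

/-- composition of localizing ring maps -/
theorem isLocHom_comp {A B C : Type u} [CommRing A] [CommRing B] [CommRing C]
    (φ : A →+* B) (hφ : LocImm.IsLocHom φ) (ψ : B →+* C) (hψ : LocImm.IsLocHom ψ) :
    LocImm.IsLocHom (ψ.comp φ) := by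
  letI iAB : Algebra A B := φ.toAlgebra
  letI iBC : Algebra B C := ψ.toAlgebra
  letI iAC : Algebra A C := (ψ.comp φ).toAlgebra
  haveI : IsScalarTower A B C := IsScalarTower.of_algebraMap_eq fun _ => rfl
  obtain ⟨S, hS⟩ := hφ
  obtain ⟨T, hT⟩ := hψ
  exact ⟨_, IsLocalization.localization_localization_isLocalization S T C⟩

theorem isLocHom_id (A : Type u) [CommRing A] : LocImm.IsLocHom (RingHom.id A) :=
  ⟨⊥, IsLocalization.self bot_le⟩

theorem isLocHom_of_bijective {A B : CommRingCat.{u}} (φ : A ⟶ B)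
    (hφ : Function.Bijective φ.hom) : LocImm.IsLocHom φ.hom := by
  have := isLocHom_comp_bijective (𝟙 A) (isLocHom_id A) φ hφ
  simpa using this

variable {X Y Z : Scheme.{u}}

/-- composition of localizing morphisms -/
theorem isLocalizing_comp (f : X ⟶ Y) (g : Y ⟶ Z) (hf : LocImm.IsLocalizing f)
    (hg : LocImm.IsLocalizing g) : LocImm.IsLocalizing (f ≫ g) := by
  intro x
  obtain ⟨UY, VX, hxV, ef, hlf⟩ := hf x
  obtain ⟨UZ, VY, hyV, eg, hlg⟩ := hg (f x)
  obtain ⟨a, b, hab, hya⟩ := exists_basicOpen_le_affine_inter UY.2 VY.2 (f x) ⟨ef hxV, hyV⟩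
  -- D = D(a) = D(b)
  set D : Y.Opens := Y.basicOpen a with hDdef
  have hDU : D ≤ UY.1 := Y.basicOpen_le a
  have hDV : D ≤ VY.1 := hab ▸ Y.basicOpen_le b
  have hD : IsAffineOpen D := UY.2.basicOpen a
  have eg' : D ≤ g ⁻¹ᵁ UZ.1 := hDV.trans eg
  -- g part
  have h1 : LocImm.IsLocHom (g.appLE UZ.1 D eg').hom := by
    have h2 : g.appLE UZ.1 D eg' =
        g.appLE UZ.1 VY.1 eg ≫ Y.presheaf.map (homOfLE hDV).op := by
      rw [Scheme.Hom.appLE_map]
    rw [h2]
    exact isLocHom_comp_away _ hlg (Y.presheaf.map (homOfLE hDV).op).hom b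
      (VY.2.isLocalization_of_eq_basicOpen b (homOfLE hDV) hab)
  -- f part
  set a' : Γ(X, VX.1) := (f.appLE UY.1 VX.1 ef).hom a with ha'
  set V' : X.Opens := X.basicOpen a' with hV'def
  have hV'le : V' ≤ VX.1 := X.basicOpen_le a'
  have hV' : IsAffineOpen V' := VX.2.basicOpen a'
  have hV'eq : V' = VX.1 ⊓ f ⁻¹ᵁ D := Scheme.basicOpen_appLE f VX.1 UY.1 ef a
  have hV'D : V' ≤ f ⁻¹ᵁ D := hV'eq ▸ inf_le_right
  have h3 : LocImm.IsLocHom (f.appLE D V' hV'D).hom := by
    refine isLocHom_of_away (f.appLE UY.1 VX.1 ef).hom hlf a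
      (Y.presheaf.map (homOfLE hDU).op).hom
      (X.presheaf.map (homOfLE hV'le).op).hom (f.appLE D V' hV'D).hom
      (UY.2.isLocalization_of_eq_basicOpen a (homOfLE hDU) rfl)
      (VX.2.isLocalization_of_eq_basicOpen a' (homOfLE hV'le) rfl) ?_
    rw [← CommRingCat.hom_comp, ← CommRingCat.hom_comp, Scheme.Hom.appLE_map,
      Scheme.Hom.map_appLE]
  have hxV' : x ∈ V' := by
    rw [hV'eq]
    exact ⟨hxV, hya⟩
  have e' : V' ≤ (f ≫ g) ⁻¹ᵁ UZ.1 := fun z hz => eg' (hV'D hz)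
  refine ⟨UZ, ⟨V', hV'⟩, hxV', e', ?_⟩
  have h4 : (f ≫ g).appLE UZ.1 V' e' = g.appLE UZ.1 D eg' ≫ f.appLE D V' hV'D := by
    rw [Scheme.Hom.appLE_comp_appLE]
  rw [h4]
  exact isLocHom_comp _ h1 _ h3

/-- an open immersion is localizing -/
theorem isLocalizing_of_isOpenImmersion (f : X ⟶ Y) [IsOpenImmersion f] :
    LocImm.IsLocalizing f := by
  intro x
  obtain ⟨V, hxV⟩ : ∃ V : X.affineOpens, x ∈ V.1 := by
    obtain ⟨_, ⟨V, hV, rfl⟩, hxV, -⟩ :=
      X.isBasis_affineOpens.exists_subset_of_mem_open (Set.mem_univ x) isOpen_univ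
    exact ⟨⟨V, hV⟩, hxV⟩
  have e : V.1 ≤ f ⁻¹ᵁ (f ''ᵁ V.1) := by rw [Scheme.Hom.preimage_image_eq]
  refine ⟨⟨f ''ᵁ V.1, V.2.image_of_isOpenImmersion f⟩, V, hxV, e, ?_⟩
  apply isLocHom_of_bijective
  have h1 : f.appLE (f ''ᵁ V.1) V.1 e = (f.appIso V.1).hom := by
    rw [Scheme.Hom.appIso_hom']
  rw [h1]
  exact ConcreteCategory.bijective_of_isIso (f.appIso V.1).hom

theorem isLocImmersion_of_isOpenImmersion (f : X ⟶ Y) [IsOpenImmersion f] :
    LocImm.IsLocImmersion f :=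
  ⟨isLocalizing_of_isOpenImmersion f, f.isOpenEmbedding.injective⟩

theorem isLocImmersion_comp (f : X ⟶ Y) (g : Y ⟶ Z) (hf : LocImm.IsLocImmersion f)
    (hg : LocImm.IsLocImmersion g) : LocImm.IsLocImmersion (f ≫ g) := by
  refine ⟨isLocalizing_comp f g hf.1 hg.1, ?_⟩
  rw [Scheme.Hom.comp_base]
  exact hg.2.comp hf.2

/-- the source of a localizing morphism to a locally Noetherian scheme is locally Noetherian -/
theorem isLocallyNoetherian_of_isLocalizing (f : X ⟶ Y) (hf : LocImm.IsLocalizing f)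
    [IsLocallyNoetherian Y] : IsLocallyNoetherian X := by
  choose U V hxV e hloc using hf
  refine isLocallyNoetherian_of_affine_cover (S := V) ?_ ?_
  · rw [eq_top_iff]
    intro x _
    exact Opens.mem_iSup.2 ⟨x, hxV x⟩
  · intro x
    haveI : IsNoetherianRing Γ(Y, (U x).1) := IsLocallyNoetherian.component_noetherian (U x)
    letI := (f.appLE (U x).1 (V x).1 (e x)).hom.toAlgebra
    obtain ⟨S, hS⟩ := hloc x
    exact IsLocalization.isNoetherianRing S _ inferInstance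

end Groth.Agent.Helper1.LocImmL
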