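import Mathlib
import Groth.Prelude.Def_EssFT
import Groth.Agent.Lib.Helper1.LocImm15

set_option autoImplicit false
universe u
open CategoryTheory CategoryTheory.Limits AlgebraicGeometry TopologicalSpace Opposite

namespace Groth.Agent.Helper1.LocImmL

/-- localizing immersions as a morphism property -/
def locImm : MorphismProperty Scheme.{u} := fun _ _ f => LocImm.IsLocImmersion f

theorem locImm_iff {X Y : Scheme.{u}} (f : X ⟶ Y) : locImm f ↔ LocImm.IsLocImmersion f := Iff.rfl

instance : locImm.{u}.IsStableUnderComposition where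
  comp_mem f g hf hg := isLocImmersion_comp f g hf hg

instance : locImm.{u}.RespectsIso :=
  MorphismProperty.respectsIso_of_isStableUnderComposition (fun _ _ f hf => by
    haveI : IsIso f := hf
    exact isLocImmersion_of_isOpenImmersion f)

instance : locImm.{u}.IsStableUnderBaseChange := by
  refine .mk' ?_
  intro X Y S f g _ hg
  have h1 : pullback.fst f g = (pullbackSymmetry f g).hom ≫ pullback.snd g f := by simp
  rw [h1]
  exact isLocImmersion_comp _ _ (isLocImmersion_of_isOpenImmersion _)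
    (isLocImmersion_pullback_snd g f hg)

variable {S A₁ A₂ B₁ B₂ : Scheme.{u}}

/-- products of localizing immersions -/
theorem isLocImmersion_pullback_map (q₁ : A₁ ⟶ S) (q₂ : A₂ ⟶ S) (p₁ : B₁ ⟶ S) (p₂ : B₂ ⟶ S)
    (k₁ : A₁ ⟶ B₁) (k₂ : A₂ ⟶ B₂) (hk₁ : LocImm.IsLocImmersion k₁)
    (hk₂ : LocImm.IsLocImmersion k₂) (e₁ : q₁ = k₁ ≫ p₁) (e₂ : q₂ = k₂ ≫ p₂) :
    LocImm.IsLocImmersion (pullback.map q₁ q₂ p₁ p₂ k₁ k₂ (𝟙 S)
      ((Category.comp_id _).trans e₁) ((Category.comp_id _).trans e₂)) :=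
  MorphismProperty.pullbackMap (P := locImm.{u}) hk₁ hk₂ e₁ e₂

end Groth.Agent.Helper1.LocImmL
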