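import Mathlib
import Groth.Prelude.Def_EssFT
import Groth.Agent.Lib.Helper1.LocImm16

set_option autoImplicit false
universe u
open CategoryTheory CategoryTheory.Limits AlgebraicGeometry TopologicalSpace Opposite

namespace Groth.Agent.Helper1.LocImmL

/-- a point of the image of a localizing immersion `ψ` which lies in the closure of the image of a
closed subset lies in the image of that closed subset -/
theorem mem_range_of_mem_closure {Q P D : Scheme.{u}} [IsNoetherian Q] (ψ : Q ⟶ P)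
    (hψ : LocImm.IsLocImmersion ψ) (δ : D ⟶ Q) (hδ : IsClosed (Set.range δ)) (t : P)
    (ht : t ∈ closure (Set.range (δ ≫ ψ))) (htr : t ∈ Set.range ψ) :
    t ∈ Set.range (δ ≫ ψ) := by
  obtain ⟨z, rfl⟩ := htr
  have hemb := isEmbedding_of_isLocImmersion ψ hψ
  have h1 : Set.range (δ ≫ ψ) = (fun x => ψ x) '' Set.range δ := by
    ext y
    simp only [Set.mem_range, Set.mem_image, exists_exists_eq_and, Scheme.Hom.comp_apply]
  rw [h1] at ht
  have h2 : z ∈ closure (Set.range δ) := by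
    rw [hemb.isInducing.closure_eq_preimage_closure_image]
    exact ht
  rw [hδ.closure_eq] at h2
  obtain ⟨d, rfl⟩ := h2
  exact ⟨d, by rw [Scheme.Hom.comp_apply]⟩

variable {S A₁ A₂ B₁ B₂ : Scheme.{u}}

/-- the fibre product of two Noetherian schemes localizing-immersed into finite type pieces is
Noetherian -/
theorem isNoetherian_pullback_of_isLocImmersion [IsNoetherian A₁] [IsNoetherian A₂]
    (q₁ : A₁ ⟶ S) (q₂ : A₂ ⟶ S) (p₁ : B₁ ⟶ S) (p₂ : B₂ ⟶ S)
    [IsLocallyNoetherian (pullback p₁ p₂)]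
    (k₁ : A₁ ⟶ B₁) (k₂ : A₂ ⟶ B₂) (hk₁ : LocImm.IsLocImmersion k₁)
    (hk₂ : LocImm.IsLocImmersion k₂) (e₁ : q₁ = k₁ ≫ p₁) (e₂ : q₂ = k₂ ≫ p₂) :
    IsNoetherian (pullback q₁ q₂) := by
  have hψ := isLocImmersion_pullback_map q₁ q₂ p₁ p₂ k₁ k₂ hk₁ hk₂ e₁ e₂
  haveI : IsLocallyNoetherian (pullback q₁ q₂) := isLocallyNoetherian_of_isLocalizing _ hψ.1
  haveI : QuasiCompact q₂ := inferInstance
  haveI : QuasiCompact (pullback.fst q₁ q₂) := inferInstance
  haveI : CompactSpace ↥(pullback q₁ q₂ : Scheme.{u}) :=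
    QuasiCompact.compactSpace_of_compactSpace (pullback.fst q₁ q₂)
  exact {}

end Groth.Agent.Helper1.LocImmL
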