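import Mathlib
import Groth.Prelude.Def_EssFT
import Groth.Agent.Lib.Helper1.LocImm17

set_option autoImplicit false
universe u
open CategoryTheory CategoryTheory.Limits AlgebraicGeometry TopologicalSpace Opposite

namespace Groth.Agent.Helper1.LocImmL

/-- cancellation of a monomorphism on the right -/
theorem isLocImmersion_of_comp_mono {X Y Z : Scheme.{u}} (k : X ⟶ Y) (j : Y ⟶ Z) [Mono j]
    (h : LocImm.IsLocImmersion (k ≫ j)) : LocImm.IsLocImmersion k :=
  MorphismProperty.of_postcomp (W := locImm.{u}) (W' := MorphismProperty.monomorphisms Scheme.{u})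
    k j ‹Mono j› h

/-- **Lemma A**: an open containing a generization-stable set and contained in its closure -/
theorem exists_open_between {α : Type*} [TopologicalSpace α] [NoetherianSpace α] [QuasiSober α]
    [T0Space α] (R : Set α) (hR : StableUnderGeneralization R) :
    ∃ W : Set α, IsOpen W ∧ R ⊆ W ∧ W ⊆ closure R := by
  let E : Set α := {ξ | (∀ ξ' : α, ξ' ⤳ ξ → ξ' = ξ) ∧ ξ ∉ R}
  have hEfin : E.Finite := (finite_maximal_points α).subset fun ξ hξ => hξ.1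
  have h1 : closure E = ⋃ ξ ∈ E, closure ({ξ} : Set α) := by
    conv_lhs => rw [← Set.biUnion_of_singleton E]
    exact hEfin.closure_biUnion _
  refine ⟨(closure E)ᶜ, isClosed_closure.isOpen_compl, ?_, ?_⟩
  · intro x hx hxE
    rw [h1] at hxE
    simp only [Set.mem_iUnion, exists_prop] at hxE
    obtain ⟨ξ, hξE, hξ⟩ := hxE
    exact hξE.2 (hR (specializes_iff_mem_closure.2 hξ) hx)
  · intro w hw
    obtain ⟨ξ, hξw, hξmax⟩ := exists_maximal_generization w
    have hξW : ξ ∈ (closure E)ᶜ := hξw.mem_open isClosed_closure.isOpen_compl hw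
    have hξR : ξ ∈ R := by
      by_contra hnot
      exact hξW (subset_closure ⟨hξmax, hnot⟩)
    exact closure_mono (Set.singleton_subset_iff.2 hξR) (specializes_iff_mem_closure.1 hξw)

/-- **Lemma B**: finitely many generic points of a closed subset -/
theorem exists_finite_generic {α : Type*} [TopologicalSpace α] [NoetherianSpace α] [QuasiSober α]
    (Z : Set α) (hZ : IsClosed Z) :
    ∃ G : Set α, G.Finite ∧ G ⊆ Z ∧ ∀ t ∈ Z, ∃ τ ∈ G, τ ⤳ t := by
  obtain ⟨S, hSfin, hScl, hSirr, rfl⟩ := NoetherianSpace.exists_finite_set_isClosed_irreducible hZ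
  haveI : Finite S := hSfin
  refine ⟨Set.range (fun t : S => (hSirr t.1 t.2).genericPoint), Set.finite_range _, ?_, ?_⟩
  · rintro _ ⟨t, rfl⟩
    have hgen := (hSirr t.1 t.2).isGenericPoint_genericPoint (hScl t.1 t.2)
    refine ⟨t.1, t.2, ?_⟩
    have : (hSirr t.1 t.2).genericPoint ∈ closure {(hSirr t.1 t.2).genericPoint} :=
      subset_closure rfl
    rwa [hgen.def] at this
  · rintro x ⟨t, ht, hxt⟩
    refine ⟨_, ⟨⟨t, ht⟩, rfl⟩, ?_⟩
    have hgen := (hSirr t ht).isGenericPoint_genericPoint (hScl t ht)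
    rw [specializes_iff_mem_closure, hgen.def]
    exact hxt

/-- **Lemma C**: separating the boundary -/
theorem exists_separating_closed {α β₁ β₂ : Type*} [TopologicalSpace α] [TopologicalSpace β₁]
    [TopologicalSpace β₂] [NoetherianSpace α] [QuasiSober α] (π₁ : α → β₁) (π₂ : α → β₂)
    (hπ₁ : Continuous π₁) (hπ₂ : Continuous π₂) (R₁ : Set β₁) (R₂ : Set β₂)
    (hR₁ : StableUnderGeneralization R₁) (hR₂ : StableUnderGeneralization R₂)
    (Z : Set α) (hZ : IsClosed Z) (hZR : ∀ t ∈ Z, ¬ (π₁ t ∈ R₁ ∧ π₂ t ∈ R₂)) :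
    ∃ (C₁ : Set β₁) (C₂ : Set β₂), IsClosed C₁ ∧ IsClosed C₂ ∧ Disjoint C₁ R₁ ∧ Disjoint C₂ R₂ ∧
      Z ⊆ π₁ ⁻¹' C₁ ∪ π₂ ⁻¹' C₂ := by
  classical
  obtain ⟨G, hGfin, hGZ, hG⟩ := exists_finite_generic Z hZ
  refine ⟨⋃ τ ∈ {τ ∈ G | π₁ τ ∉ R₁}, closure {π₁ τ}, ⋃ τ ∈ {τ ∈ G | π₁ τ ∈ R₁}, closure {π₂ τ},
    ?_, ?_, ?_, ?_, ?_⟩
  · exact (hGfin.subset (Set.sep_subset _ _)).isClosed_biUnion fun _ _ => isClosed_closure
  · exact (hGfin.subset (Set.sep_subset _ _)).isClosed_biUnion fun _ _ => isClosed_closure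
  · rw [Set.disjoint_left]
    intro y hy hyR
    simp only [Set.mem_iUnion, exists_prop] at hy
    obtain ⟨τ, ⟨hτG, hτ⟩, hyτ⟩ := hy
    exact hτ (hR₁ (specializes_iff_mem_closure.2 hyτ) hyR)
  · rw [Set.disjoint_left]
    intro y hy hyR
    simp only [Set.mem_iUnion, exists_prop] at hy
    obtain ⟨τ, ⟨hτG, hτ⟩, hyτ⟩ := hy
    exact hZR τ (hGZ hτG) ⟨hτ, hR₂ (specializes_iff_mem_closure.2 hyτ) hyR⟩
  · intro t ht
    obtain ⟨τ, hτG, hτt⟩ := hG t ht
    by_cases hτ : π₁ τ ∈ R₁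
    · right
      simp only [Set.mem_preimage, Set.mem_iUnion, exists_prop]
      exact ⟨τ, ⟨hτG, hτ⟩, specializes_iff_mem_closure.1 (hτt.map hπ₂)⟩
    · left
      simp only [Set.mem_preimage, Set.mem_iUnion, exists_prop]
      exact ⟨τ, ⟨hτG, hτ⟩, specializes_iff_mem_closure.1 (hτt.map hπ₁)⟩

end Groth.Agent.Helper1.LocImmL
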