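import Mathlib
import Groth.Prelude.Def_EssFT
import Groth.Agent.Lib.Helper1.LocImm18

set_option autoImplicit false
universe u
open CategoryTheory CategoryTheory.Limits AlgebraicGeometry TopologicalSpace Opposite

namespace Groth.Agent.Helper1.LocImmL

theorem isNoetherian_of_isOpenImmersion {X Y : Scheme.{u}} (j : X ⟶ Y) [IsOpenImmersion j]
    [IsNoetherian Y] : IsNoetherian X := by
  haveI : IsLocallyNoetherian X := isLocallyNoetherian_of_isOpenImmersion j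
  haveI : CompactSpace X := QuasiCompact.compactSpace_of_compactSpace j
  exact {}

theorem isNoetherian_pullback_of_locallyOfFiniteType {Y₁ Y₂ S : Scheme.{u}} [IsNoetherian Y₁]
    (p₁ : Y₁ ⟶ S) (p₂ : Y₂ ⟶ S) [LocallyOfFiniteType p₂] [QuasiCompact p₂] :
    IsNoetherian (pullback p₁ p₂) := by
  haveI : IsLocallyNoetherian (pullback p₁ p₂) :=
    LocallyOfFiniteType.isLocallyNoetherian (pullback.fst p₁ p₂)
  haveI : CompactSpace ↥(pullback p₁ p₂ : Scheme.{u}) :=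
    QuasiCompact.compactSpace_of_compactSpace (pullback.fst p₁ p₂)
  exact {}

variable {X S : Scheme.{u}}

set_option maxHeartbeats 1600000 in
/-- the key fact -/
theorem key_fact [IsNoetherian X] (f : X ⟶ S) [IsSeparated f]
    (U₁ U₂ : X.Opens) (Y₁ Y₂ : Scheme.{u}) [IsNoetherian Y₁] [IsNoetherian Y₂]
    (k₁ : (U₁ : Scheme.{u}) ⟶ Y₁) (k₂ : (U₂ : Scheme.{u}) ⟶ Y₂) (p₁ : Y₁ ⟶ S) (p₂ : Y₂ ⟶ S)
    (hk₁ : LocImm.IsLocImmersion k₁) (hk₂ : LocImm.IsLocImmersion k₂)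
    [LocallyOfFiniteType p₂] [QuasiCompact p₂]
    (h₁ : k₁ ≫ p₁ = U₁.ι ≫ f) (h₂ : k₂ ≫ p₂ = U₂.ι ≫ f)
    (θ : pullback U₁.ι U₂.ι ⟶ pullback p₁ p₂)
    (hθ₁ : θ ≫ pullback.fst p₁ p₂ = pullback.fst U₁.ι U₂.ι ≫ k₁)
    (hθ₂ : θ ≫ pullback.snd p₁ p₂ = pullback.snd U₁.ι U₂.ι ≫ k₂)
    (t : ↥(pullback p₁ p₂)) (ht : t ∈ closure (Set.range θ))
    (ht₁ : pullback.fst p₁ p₂ t ∈ Set.range k₁) (ht₂ : pullback.snd p₁ p₂ t ∈ Set.range k₂) :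
    t ∈ Set.range θ := by
  haveI : AlgebraicGeometry.IsNoetherian (U₁ : Scheme.{u}) := isNoetherian_of_isOpenImmersion U₁.ι
  haveI : AlgebraicGeometry.IsNoetherian (U₂ : Scheme.{u}) := isNoetherian_of_isOpenImmersion U₂.ι
  haveI : IsNoetherian (pullback p₁ p₂) := isNoetherian_pullback_of_locallyOfFiniteType p₁ p₂
  have hψ := isLocImmersion_pullback_map (U₁.ι ≫ f) (U₂.ι ≫ f) p₁ p₂ k₁ k₂ hk₁ hk₂ h₁.symm h₂.symm
  haveI := isNoetherian_pullback_of_isLocImmersion (U₁.ι ≫ f) (U₂.ι ≫ f) p₁ p₂ k₁ k₂ hk₁ hk₂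
    h₁.symm h₂.symm
  set ψ := pullback.map (U₁.ι ≫ f) (U₂.ι ≫ f) p₁ p₂ k₁ k₂ (𝟙 S)
      ((Category.comp_id _).trans h₁.symm) ((Category.comp_id _).trans h₂.symm) with hψdef
  let δ : pullback U₁.ι U₂.ι ⟶ pullback (U₁.ι ≫ f) (U₂.ι ≫ f) := pullback.mapDesc U₁.ι U₂.ι f
  haveI : IsClosedImmersion δ :=
    MorphismProperty.of_isPullback (P := @IsClosedImmersion)
      (pullback_map_diagonal_isPullback U₁.ι U₂.ι f) inferInstance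
  have hδψ : δ ≫ ψ = θ := by
    apply pullback.hom_ext
    · rw [hθ₁]
      simp only [δ, ψ, pullback.mapDesc, pullback.map, Category.assoc]
      rw [pullback.lift_fst, pullback.lift_fst_assoc, Category.comp_id]
    · rw [hθ₂]
      simp only [δ, ψ, pullback.mapDesc, pullback.map, Category.assoc]
      rw [pullback.lift_snd, pullback.lift_snd_assoc, Category.comp_id]
  have hrange : t ∈ Set.range ψ := by
    rw [hψdef, Scheme.Pullback.range_map]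
    exact ⟨ht₁, ht₂⟩
  rw [← hδψ] at ht ⊢
  exact mem_range_of_mem_closure ψ hψ δ δ.isClosedEmbedding.isClosed_range t ht hrange


set_option maxHeartbeats 3200000 in
/-- **Part I** of the gluing lemma: shrinking the targets -/
theorem exists_glue_data [IsNoetherian X] (f : X ⟶ S) [IsSeparated f]
    (U₁ U₂ : X.Opens) (Y₁ Y₂ : Scheme.{u}) [IsNoetherian Y₁] [IsNoetherian Y₂]
    (k₁ : (U₁ : Scheme.{u}) ⟶ Y₁) (k₂ : (U₂ : Scheme.{u}) ⟶ Y₂) (p₁ : Y₁ ⟶ S) (p₂ : Y₂ ⟶ S)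
    (hk₁ : LocImm.IsLocImmersion k₁) (hk₂ : LocImm.IsLocImmersion k₂)
    [IsSeparated p₁] [IsSeparated p₂] [LocallyOfFiniteType p₁] [LocallyOfFiniteType p₂]
    [QuasiCompact p₁] [QuasiCompact p₂]
    (h₁ : k₁ ≫ p₁ = U₁.ι ≫ f) (h₂ : k₂ ≫ p₂ = U₂.ι ≫ f) :
    ∃ (V₁ : Y₁.Opens) (V₂ : Y₂.Opens) (W : Scheme.{u}) (g₁ : W ⟶ V₁) (g₂ : W ⟶ V₂)
      (κ₁ : (U₁ : Scheme.{u}) ⟶ V₁) (κ₂ : (U₂ : Scheme.{u}) ⟶ V₂)
      (κ₀ : pullback U₁.ι U₂.ι ⟶ W) (hc : g₁ ≫ V₁.ι ≫ p₁ = g₂ ≫ V₂.ι ≫ p₂),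
      IsOpenImmersion g₁ ∧ IsOpenImmersion g₂ ∧ κ₁ ≫ V₁.ι = k₁ ∧ κ₂ ≫ V₂.ι = k₂ ∧
      IsClosedImmersion (pullback.lift g₁ g₂ hc) ∧
      pullback.fst U₁.ι U₂.ι ≫ κ₁ = κ₀ ≫ g₁ ∧ pullback.snd U₁.ι U₂.ι ≫ κ₂ = κ₀ ≫ g₂ ∧
      ∀ (w : W) (x : U₁) (x' : U₂), g₁ w = κ₁ x → g₂ w = κ₂ x' → U₁.ι x = U₂.ι x' := by
  haveI : AlgebraicGeometry.IsNoetherian (U₁ : Scheme.{u}) := isNoetherian_of_isOpenImmersion U₁.ι
  haveI : AlgebraicGeometry.IsNoetherian (U₂ : Scheme.{u}) := isNoetherian_of_isOpenImmersion U₂.ι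
  haveI : AlgebraicGeometry.IsNoetherian (pullback U₁.ι U₂.ι) :=
    isNoetherian_of_isOpenImmersion (pullback.fst U₁.ι U₂.ι)
  haveI : AlgebraicGeometry.IsNoetherian (pullback p₁ p₂) :=
    isNoetherian_pullback_of_locallyOfFiniteType p₁ p₂
  set j₁ := pullback.fst U₁.ι U₂.ι with hj₁
  set j₂ := pullback.snd U₁.ι U₂.ι with hj₂
  have hf₁ : LocImm.IsLocImmersion (j₁ ≫ k₁) :=
    isLocImmersion_comp _ _ (isLocImmersion_of_isOpenImmersion j₁) hk₁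
  have hf₂ : LocImm.IsLocImmersion (j₂ ≫ k₂) :=
    isLocImmersion_comp _ _ (isLocImmersion_of_isOpenImmersion j₂) hk₂
  have hf : (j₁ ≫ k₁) ≫ p₁ = (j₂ ≫ k₂) ≫ p₂ := by
    rw [Category.assoc, Category.assoc, h₁, h₂, ← Category.assoc, ← Category.assoc,
      pullback.condition]
  obtain ⟨W₀, k₀, γ₁, γ₂, hk₀, hγ₁, hγ₂, hg, hkg₁, hkg₂⟩ :=
    exists_common_open (j₁ ≫ k₁) (j₂ ≫ k₂) p₁ p₂ hf₁ hf₂ hf
  haveI : AlgebraicGeometry.IsNoetherian W₀ := isNoetherian_of_isOpenImmersion γ₁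
  -- Lemma A
  obtain ⟨Wset, hWopen, hRW, hWcl⟩ := exists_open_between (Set.range (fun x => k₀ x))
    (stableUnderGeneralization_range k₀ hk₀.1)
  let Wo : W₀.Opens := ⟨Wset, hWopen⟩
  -- the immersion into the product
  let ι₀ : W₀ ⟶ pullback p₁ p₂ := pullback.lift γ₁ γ₂ hg
  have hι₀₁ : ι₀ ≫ pullback.fst p₁ p₂ = γ₁ := pullback.lift_fst _ _ _
  have hι₀₂ : ι₀ ≫ pullback.snd p₁ p₂ = γ₂ := pullback.lift_snd _ _ _
  haveI : IsImmersion ι₀ := by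
    haveI : IsImmersion (ι₀ ≫ pullback.fst p₁ p₂) := by rw [hι₀₁]; infer_instance
    exact IsImmersion.of_comp ι₀ (pullback.fst p₁ p₂)
  have hfstι₀ : ∀ y, pullback.fst p₁ p₂ (ι₀ y) = γ₁ y := fun y => by
    rw [← Scheme.Hom.comp_apply, hι₀₁]
  have hsndι₀ : ∀ y, pullback.snd p₁ p₂ (ι₀ y) = γ₂ y := fun y => by
    rw [← Scheme.Hom.comp_apply, hι₀₂]
  let θ : pullback U₁.ι U₂.ι ⟶ pullback p₁ p₂ := k₀ ≫ ι₀
  have hθ₁ : θ ≫ pullback.fst p₁ p₂ = j₁ ≫ k₁ := by rw [Category.assoc, hι₀₁, hkg₁]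
  have hθ₂ : θ ≫ pullback.snd p₁ p₂ = j₂ ≫ k₂ := by rw [Category.assoc, hι₀₂, hkg₂]
  set T : Set ↥(pullback p₁ p₂) := closure (Set.range θ) with hT
  let ι : (Wo : Scheme.{u}) ⟶ pullback p₁ p₂ := Wo.ι ≫ ι₀
  have hιT : Set.range ι ⊆ T := by
    rintro _ ⟨w, rfl⟩
    have hw : (Wo.ι w) ∈ closure (Set.range (fun x => k₀ x)) := hWcl w.2
    have h3 := image_closure_subset_closure_image ι₀.continuous ⟨_, hw, rfl⟩
    have h4 : (fun x => ι₀ x) '' Set.range (fun x => k₀ x) = Set.range θ := by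
      ext y
      simp only [Set.mem_image, Set.mem_range, exists_exists_eq_and, θ, Scheme.Hom.comp_apply]
    change ι₀ (Wo.ι w) ∈ closure ((fun x => ι₀ x) '' Set.range (fun x => k₀ x)) at h3
    rw [h4] at h3
    exact h3
  have hθι : Set.range θ ⊆ Set.range ι := by
    rintro _ ⟨u, rfl⟩
    exact ⟨⟨k₀ u, hRW ⟨u, rfl⟩⟩, rfl⟩
  have hTcl : T = closure (Set.range ι) :=
    subset_antisymm (closure_mono hθι) (closure_minimal hιT isClosed_closure)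
  let Bd : Set ↥(pullback p₁ p₂) := T \ Set.range ι
  have hBd : IsClosed Bd := by
    have hlc : IsLocallyClosed (Set.range ι) := ι.isLocallyClosed_range
    have h5 := hlc.isOpen_coborder
    rw [coborder, isOpen_compl_iff] at h5
    change IsClosed (T \ Set.range ι)
    rw [hTcl]
    exact h5
  -- key fact
  have key : ∀ t ∈ T, pullback.fst p₁ p₂ t ∈ Set.range k₁ →
      pullback.snd p₁ p₂ t ∈ Set.range k₂ → t ∈ Set.range θ :=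
    fun t ht ht₁ ht₂ =>
      key_fact f U₁ U₂ Y₁ Y₂ k₁ k₂ p₁ p₂ hk₁ hk₂ h₁ h₂ θ hθ₁ hθ₂ t ht ht₁ ht₂
  -- Lemma C
  obtain ⟨C₁, C₂, hC₁, hC₂, hCR₁, hCR₂, hBdC⟩ := exists_separating_closed
    (fun t => pullback.fst p₁ p₂ t) (fun t => pullback.snd p₁ p₂ t)
    (pullback.fst p₁ p₂).continuous (pullback.snd p₁ p₂).continuous
    (Set.range (fun x => k₁ x)) (Set.range (fun x => k₂ x))
    (stableUnderGeneralization_range k₁ hk₁.1) (stableUnderGeneralization_range k₂ hk₂.1)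
    Bd hBd (fun t ht hR => ht.2 (hθι (key t ht.1 hR.1 hR.2)))
  let V₁ : Y₁.Opens := ⟨C₁ᶜ, hC₁.isOpen_compl⟩
  let V₂ : Y₂.Opens := ⟨C₂ᶜ, hC₂.isOpen_compl⟩
  have hkV₁ : ∀ x, k₁ x ∈ V₁ := fun x hx => Set.disjoint_left.1 hCR₁ hx ⟨x, rfl⟩
  have hkV₂ : ∀ x, k₂ x ∈ V₂ := fun x hx => Set.disjoint_left.1 hCR₂ hx ⟨x, rfl⟩
  let W' : W₀.Opens := Wo ⊓ γ₁ ⁻¹ᵁ V₁ ⊓ γ₂ ⁻¹ᵁ V₂
  have hW'Wo : W' ≤ Wo := inf_le_left.trans inf_le_left
  have hW'V₁ : ∀ w : W', γ₁ (W'.ι w) ∈ V₁ := fun w => w.2.1.2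
  have hW'V₂ : ∀ w : W', γ₂ (W'.ι w) ∈ V₂ := fun w => w.2.2
  let g₁ : (W' : Scheme.{u}) ⟶ V₁ := IsOpenImmersion.lift V₁.ι (W'.ι ≫ γ₁) (by
    rw [Scheme.Opens.range_ι]; rintro _ ⟨w, rfl⟩; exact hW'V₁ w)
  let g₂ : (W' : Scheme.{u}) ⟶ V₂ := IsOpenImmersion.lift V₂.ι (W'.ι ≫ γ₂) (by
    rw [Scheme.Opens.range_ι]; rintro _ ⟨w, rfl⟩; exact hW'V₂ w)
  have hg₁ : g₁ ≫ V₁.ι = W'.ι ≫ γ₁ := IsOpenImmersion.lift_fac _ _ _
  have hg₂ : g₂ ≫ V₂.ι = W'.ι ≫ γ₂ := IsOpenImmersion.lift_fac _ _ _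
  haveI : IsOpenImmersion g₁ := by
    haveI : IsOpenImmersion (g₁ ≫ V₁.ι) := by rw [hg₁]; infer_instance
    exact IsOpenImmersion.of_comp g₁ V₁.ι
  haveI : IsOpenImmersion g₂ := by
    haveI : IsOpenImmersion (g₂ ≫ V₂.ι) := by rw [hg₂]; infer_instance
    exact IsOpenImmersion.of_comp g₂ V₂.ι
  let κ₁ : (U₁ : Scheme.{u}) ⟶ V₁ := IsOpenImmersion.lift V₁.ι k₁ (by
    rw [Scheme.Opens.range_ι]; rintro _ ⟨x, rfl⟩; exact hkV₁ x)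
  let κ₂ : (U₂ : Scheme.{u}) ⟶ V₂ := IsOpenImmersion.lift V₂.ι k₂ (by
    rw [Scheme.Opens.range_ι]; rintro _ ⟨x, rfl⟩; exact hkV₂ x)
  have hκ₁ : κ₁ ≫ V₁.ι = k₁ := IsOpenImmersion.lift_fac _ _ _
  have hκ₂ : κ₂ ≫ V₂.ι = k₂ := IsOpenImmersion.lift_fac _ _ _
  have hγ₁k₀ : ∀ u, γ₁ (k₀ u) = k₁ (j₁ u) := fun u => by
    rw [← Scheme.Hom.comp_apply, hkg₁, Scheme.Hom.comp_apply]
  have hγ₂k₀ : ∀ u, γ₂ (k₀ u) = k₂ (j₂ u) := fun u => by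
    rw [← Scheme.Hom.comp_apply, hkg₂, Scheme.Hom.comp_apply]
  have hk₀W' : ∀ u, k₀ u ∈ W' := by
    intro u
    refine ⟨⟨hRW ⟨u, rfl⟩, ?_⟩, ?_⟩
    · change γ₁ (k₀ u) ∈ V₁
      rw [hγ₁k₀]; exact hkV₁ _
    · change γ₂ (k₀ u) ∈ V₂
      rw [hγ₂k₀]; exact hkV₂ _
  let κ₀ : pullback U₁.ι U₂.ι ⟶ W' := IsOpenImmersion.lift W'.ι k₀ (by
    rw [Scheme.Opens.range_ι]; rintro _ ⟨u, rfl⟩; exact hk₀W' u)
  have hκ₀ : κ₀ ≫ W'.ι = k₀ := IsOpenImmersion.lift_fac _ _ _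
  have hc : g₁ ≫ V₁.ι ≫ p₁ = g₂ ≫ V₂.ι ≫ p₂ := by
    rw [reassoc_of% hg₁, reassoc_of% hg₂, hg]
  refine ⟨V₁, V₂, W', g₁, g₂, κ₁, κ₂, κ₀, hc, inferInstance, inferInstance, hκ₁, hκ₂, ?_, ?_, ?_, ?_⟩
  · set lam := pullback.lift g₁ g₂ hc with hlam
    have hlam₁ : lam ≫ pullback.fst (V₁.ι ≫ p₁) (V₂.ι ≫ p₂) = g₁ := pullback.lift_fst _ _ _
    have hlam₂ : lam ≫ pullback.snd (V₁.ι ≫ p₁) (V₂.ι ≫ p₂) = g₂ := pullback.lift_snd _ _ _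
    haveI : IsImmersion lam := by
      haveI : IsImmersion (lam ≫ pullback.fst (V₁.ι ≫ p₁) (V₂.ι ≫ p₂)) := by
        rw [hlam₁]; infer_instance
      exact IsImmersion.of_comp lam (pullback.fst _ _)
    apply IsClosedImmersion.of_isPreimmersion
    let m' : pullback (V₁.ι ≫ p₁) (V₂.ι ≫ p₂) ⟶ pullback p₁ p₂ :=
      pullback.map _ _ _ _ V₁.ι V₂.ι (𝟙 S) (by simp) (by simp)
    have hm'₁ : m' ≫ pullback.fst p₁ p₂ = pullback.fst _ _ ≫ V₁.ι := pullback.lift_fst _ _ _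
    have hm'₂ : m' ≫ pullback.snd p₁ p₂ = pullback.snd _ _ ≫ V₂.ι := pullback.lift_snd _ _ _
    have hlm : lam ≫ m' = W'.ι ≫ ι₀ := by
      apply pullback.hom_ext
      · rw [Category.assoc, hm'₁, reassoc_of% hlam₁, hg₁, Category.assoc, hι₀₁]
      · rw [Category.assoc, hm'₂, reassoc_of% hlam₂, hg₂, Category.assoc, hι₀₂]
    have hm'fst : ∀ z, pullback.fst p₁ p₂ (m' z) ∈ V₁ := by
      intro z
      have e1 := congrArg (fun φ : pullback (V₁.ι ≫ p₁) (V₂.ι ≫ p₂) ⟶ Y₁ => φ z) hm'₁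
      simp only [Scheme.Hom.comp_apply] at e1
      rw [e1]
      exact (pullback.fst (V₁.ι ≫ p₁) (V₂.ι ≫ p₂) z).2
    have hm'snd : ∀ z, pullback.snd p₁ p₂ (m' z) ∈ V₂ := by
      intro z
      have e1 := congrArg (fun φ : pullback (V₁.ι ≫ p₁) (V₂.ι ≫ p₂) ⟶ Y₂ => φ z) hm'₂
      simp only [Scheme.Hom.comp_apply] at e1
      rw [e1]
      exact (pullback.snd (V₁.ι ≫ p₁) (V₂.ι ≫ p₂) z).2
    have hrange : Set.range lam = (fun z => m' z) ⁻¹' T := by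
      ext z
      constructor
      · rintro ⟨w, rfl⟩
        change m' (lam w) ∈ T
        rw [← Scheme.Hom.comp_apply, hlm]
        exact hιT ⟨⟨W'.ι w, hW'Wo w.2⟩, rfl⟩
      · intro hz
        have hz' : m' z ∈ T := hz
        have hnot : m' z ∉ Bd := by
          intro hB
          rcases hBdC hB with h | h
          · exact hm'fst z h
          · exact hm'snd z h
        have hzι : m' z ∈ Set.range ι := by
          by_contra h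
          exact hnot ⟨hz', h⟩
        obtain ⟨w, hw⟩ := hzι
        have hw' : ι₀ (Wo.ι w) = m' z := hw
        have hw₁ : γ₁ (Wo.ι w) ∈ V₁ := by
          have : γ₁ (Wo.ι w) = pullback.fst p₁ p₂ (m' z) := by
            rw [← hw', hfstι₀]
          rw [this]; exact hm'fst z
        have hw₂ : γ₂ (Wo.ι w) ∈ V₂ := by
          have : γ₂ (Wo.ι w) = pullback.snd p₁ p₂ (m' z) := by
            rw [← hw', hsndι₀]
          rw [this]; exact hm'snd z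
        let w' : W' := ⟨Wo.ι w, ⟨⟨w.2, hw₁⟩, hw₂⟩⟩
        refine ⟨w', ?_⟩
        apply m'.isOpenEmbedding.injective
        change m' (lam w') = m' z
        rw [← Scheme.Hom.comp_apply, hlm, ← hw']
        rfl
    rw [hrange]
    exact isClosed_closure.preimage m'.continuous
  · rw [← cancel_mono V₁.ι, Category.assoc, Category.assoc, hκ₁, hg₁, reassoc_of% hκ₀, hkg₁]
  · rw [← cancel_mono V₂.ι, Category.assoc, Category.assoc, hκ₂, hg₂, reassoc_of% hκ₀, hkg₂]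
  · intro w x x' hw₁ hw₂
    have hw₁' : γ₁ (W'.ι w) = k₁ x := by
      have e1 := congrArg (fun φ : (W' : Scheme.{u}) ⟶ Y₁ => φ w) hg₁
      simp only [Scheme.Hom.comp_apply] at e1
      have e2 := congrArg (fun φ : (U₁ : Scheme.{u}) ⟶ Y₁ => φ x) hκ₁
      simp only [Scheme.Hom.comp_apply] at e2
      rw [← e1, hw₁, e2]
    have hw₂' : γ₂ (W'.ι w) = k₂ x' := by
      have e1 := congrArg (fun φ : (W' : Scheme.{u}) ⟶ Y₂ => φ w) hg₂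
      simp only [Scheme.Hom.comp_apply] at e1
      have e2 := congrArg (fun φ : (U₂ : Scheme.{u}) ⟶ Y₂ => φ x') hκ₂
      simp only [Scheme.Hom.comp_apply] at e2
      rw [← e1, hw₂, e2]
    have ht : ι₀ (W'.ι w) ∈ T := hιT ⟨⟨W'.ι w, hW'Wo w.2⟩, rfl⟩
    have hfst : pullback.fst p₁ p₂ (ι₀ (W'.ι w)) = γ₁ (W'.ι w) := by
      rw [← Scheme.Hom.comp_apply, hι₀₁]
    have hsnd : pullback.snd p₁ p₂ (ι₀ (W'.ι w)) = γ₂ (W'.ι w) := by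
      rw [← Scheme.Hom.comp_apply, hι₀₂]
    obtain ⟨u, hu⟩ := key _ ht (by rw [hfst, hw₁']; exact ⟨x, rfl⟩)
      (by rw [hsnd, hw₂']; exact ⟨x', rfl⟩)
    have hx : x = j₁ u := by
      have e3 := congrArg (fun φ : pullback U₁.ι U₂.ι ⟶ Y₁ => φ u) hθ₁
      simp only [Scheme.Hom.comp_apply] at e3
      have : k₁ x = k₁ (j₁ u) := by rw [← hw₁', ← hfst, ← hu, e3]
      exact hk₁.2 this
    have hx' : x' = j₂ u := by
      have e3 := congrArg (fun φ : pullback U₁.ι U₂.ι ⟶ Y₂ => φ u) hθ₂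
      simp only [Scheme.Hom.comp_apply] at e3
      have : k₂ x' = k₂ (j₂ u) := by rw [← hw₂', ← hsnd, ← hu, e3]
      exact hk₂.2 this
    rw [hx, hx', ← Scheme.Hom.comp_apply, ← Scheme.Hom.comp_apply, pullback.condition]

end Groth.Agent.Helper1.LocImmL
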