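import Mathlib
import Groth.Agent.Lib.Helper1.LocImm1

set_option autoImplicit false
universe u
open CategoryTheory CategoryTheory.Limits AlgebraicGeometry TopologicalSpace Opposite

namespace Groth.Agent.Helper1.LocImmL

/-- in a quasi-sober space with finitely many irreducible components, a closed set stable under
generization is open -/
theorem isOpen_of_isClosed_of_stableUnderGeneralization {α : Type*} [TopologicalSpace α]
    [QuasiSober α] (hfin : (irreducibleComponents α).Finite) {T : Set α} (hT : IsClosed T)
    (hg : StableUnderGeneralization T) : IsOpen T := by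
  have key : Tᶜ = ⋃ C ∈ {C ∈ irreducibleComponents α | ¬ C ⊆ T}, C := by
    ext y
    simp only [Set.mem_compl_iff, Set.mem_iUnion, Set.mem_ofPred_eq, exists_prop]
    constructor
    · intro hy
      refine ⟨irreducibleComponent y, ⟨irreducibleComponent_mem_irreducibleComponents y, ?_⟩,
        mem_irreducibleComponent⟩
      intro hsub
      exact hy (hsub mem_irreducibleComponent)
    · rintro ⟨C, ⟨hC, hCT⟩, hyC⟩ hyT
      apply hCT
      have hCirr : IsIrreducible C := hC.1
      have hCcl : IsClosed C := isClosed_of_mem_irreducibleComponents C hC
      have hgen := hCirr.isGenericPoint_genericPoint hCcl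
      have hspec : hCirr.genericPoint ⤳ y := hgen.specializes hyC
      have hηT : hCirr.genericPoint ∈ T := hg hspec hyT
      rw [← hgen.def]
      exact hT.closure_subset_iff.2 (Set.singleton_subset_iff.2 hηT)
  rw [← isClosed_compl_iff, key]
  refine Set.Finite.isClosed_biUnion (hfin.subset fun C hC => hC.1) fun C hC => ?_
  exact isClosed_of_mem_irreducibleComponents C hC.1

variable {X Y : Scheme.{u}}

/-- a localizing immersion of Noetherian schemes with closed image is an open immersion -/
theorem isOpenImmersion_of_isClosed_range [IsNoetherian X] [IsNoetherian Y] (f : X ⟶ Y)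
    (hf : LocImm.IsLocImmersion f) (hc : IsClosed (Set.range (fun x => f x))) :
    IsOpenImmersion f := by
  have hemb := isEmbedding_of_isLocImmersion f hf
  have hopen : IsOpen (Set.range (fun x => f x)) :=
    isOpen_of_isClosed_of_stableUnderGeneralization
      NoetherianSpace.finite_irreducibleComponents hc
      (stableUnderGeneralization_range f hf.1)
  have : ∀ x, IsIso (f.stalkMap x) := fun x => isIso_stalkMap_of_isLocalizing f hf.1 x
  exact IsOpenImmersion.of_isIso_stalkMap f ⟨hemb, hopen⟩

end Groth.Agent.Helper1.LocImmL
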