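import Mathlib
import Groth.Prelude.Def_EssFT
import Groth.Agent.Lib.Helper1.LocImm19

set_option autoImplicit false
universe u
open CategoryTheory CategoryTheory.Limits AlgebraicGeometry TopologicalSpace Opposite

namespace Groth.Agent.Helper1.LocImmL

variable {Y S : Scheme.{u}}

/-- separatedness can be checked on an open cover of the source -/
theorem isSeparated_of_openCover (p : Y ⟶ S) (𝒰 : Y.OpenCover)
    (h : ∀ i j, IsClosedImmersion (pullback.mapDesc (𝒰.f i) (𝒰.f j) p)) : IsSeparated p := by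
  constructor
  let 𝒱 := Scheme.Pullback.openCoverOfLeftRight 𝒰 𝒰 p p
  rw [IsZariskiLocalAtTarget.iff_of_openCover (P := @IsClosedImmersion) 𝒱]
  rintro ⟨i, j⟩
  have sq := pullback_map_diagonal_isPullback (𝒰.f i) (𝒰.f j) p
  have h1 : 𝒱.pullbackHom (pullback.diagonal p) (i, j) =
      sq.isoPullback.inv ≫ pullback.mapDesc (𝒰.f i) (𝒰.f j) p :=
    (Iso.eq_inv_comp _).2 sq.isoPullback_hom_snd
  rw [h1]
  exact (MorphismProperty.cancel_left_of_respectsIso @IsClosedImmersion sq.isoPullback.inv _).2
    (h i j)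


/-- diagonal case -/
theorem isClosedImmersion_mapDesc_self {A : Scheme.{u}} (a : A ⟶ Y) [Mono a] (p : Y ⟶ S)
    [IsSeparated (a ≫ p)] : IsClosedImmersion (pullback.mapDesc a a p) := by
  have hfs : pullback.fst a a = pullback.snd a a := by
    rw [← cancel_mono a, pullback.condition]
  have h : pullback.mapDesc a a p = pullback.fst a a ≫ pullback.diagonal (a ≫ p) := by
    apply pullback.hom_ext
    · simp only [pullback.mapDesc, pullback.map, Category.assoc]
      rw [pullback.lift_fst, pullback.diagonal_fst]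
    · simp only [pullback.mapDesc, pullback.map, Category.assoc]
      rw [pullback.lift_snd, pullback.diagonal_snd]
      simp [hfs]
  rw [h]
  infer_instance

/-- symmetry -/
theorem isClosedImmersion_mapDesc_symm {A B : Scheme.{u}} (a : A ⟶ Y) (b : B ⟶ Y) (p : Y ⟶ S)
    (h : IsClosedImmersion (pullback.mapDesc a b p)) :
    IsClosedImmersion (pullback.mapDesc b a p) := by
  have h1 : pullback.mapDesc b a p = (pullbackSymmetry b a).hom ≫ pullback.mapDesc a b p ≫
      (pullbackSymmetry (a ≫ p) (b ≫ p)).hom := by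
    apply pullback.hom_ext
    · simp only [pullback.mapDesc, pullback.map, Category.assoc]
      rw [pullback.lift_fst, pullbackSymmetry_hom_comp_fst, pullback.lift_snd,
        pullbackSymmetry_hom_comp_snd_assoc]
    · simp only [pullback.mapDesc, pullback.map, Category.assoc]
      rw [pullback.lift_snd, pullbackSymmetry_hom_comp_snd, pullback.lift_fst,
        pullbackSymmetry_hom_comp_fst_assoc]
  rw [h1]
  infer_instance

/-- two-chart version -/
theorem isSeparated_of_two {Z₁ Z₂ : Scheme.{u}} (a₁ : Z₁ ⟶ Y) (a₂ : Z₂ ⟶ Y)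
    [IsOpenImmersion a₁] [IsOpenImmersion a₂]
    (hcov : ∀ y : Y, y ∈ Set.range a₁ ∨ y ∈ Set.range a₂) (p : Y ⟶ S)
    [IsSeparated (a₁ ≫ p)] [IsSeparated (a₂ ≫ p)]
    (h₁₂ : IsClosedImmersion (pullback.mapDesc a₁ a₂ p)) : IsSeparated p := by
  let obj : Bool → Scheme.{u} := fun b => Bool.rec Z₂ Z₁ b
  let map : (b : Bool) → obj b ⟶ Y := fun b => Bool.rec a₂ a₁ b
  have hmap : ∀ b, IsOpenImmersion (map b) := by
    rintro (_ | _)
    · exact (inferInstance : IsOpenImmersion a₂)
    · exact (inferInstance : IsOpenImmersion a₁)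
  let 𝒰 : Y.OpenCover := Scheme.Cover.mkOfCovers Bool obj map (by
    intro y
    rcases hcov y with ⟨z, hz⟩ | ⟨z, hz⟩
    · exact ⟨true, z, hz⟩
    · exact ⟨false, z, hz⟩) hmap
  apply isSeparated_of_openCover p 𝒰
  rintro (_ | _) (_ | _)
  · exact isClosedImmersion_mapDesc_self a₂ p
  · exact isClosedImmersion_mapDesc_symm a₁ a₂ p h₁₂
  · exact h₁₂
  · exact isClosedImmersion_mapDesc_self a₁ p

end Groth.Agent.Helper1.LocImmL
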