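import Mathlib
import Groth.Prelude.Def_EssFT
import Groth.Agent.Lib.Helper1.LocImm20

set_option autoImplicit false
universe u
open CategoryTheory CategoryTheory.Limits AlgebraicGeometry TopologicalSpace Opposite

namespace Groth.Agent.Helper1.LocImmL

variable {W Z₁ Z₂ : Scheme.{u}} (g₁ : W ⟶ Z₁) (g₂ : W ⟶ Z₂) [IsOpenImmersion g₁]
  [IsOpenImmersion g₂]

instance isOpenImmersion_pushout_inl : IsOpenImmersion (pushout.inl g₁ g₂) :=
  inferInstanceAs (IsOpenImmersion (colimit.ι (span g₁ g₂) WalkingSpan.left))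

instance isOpenImmersion_pushout_inr : IsOpenImmersion (pushout.inr g₁ g₂) :=
  inferInstanceAs (IsOpenImmersion (colimit.ι (span g₁ g₂) WalkingSpan.right))

theorem pushout_cover (y : ↥(pushout g₁ g₂)) :
    y ∈ Set.range (pushout.inl g₁ g₂) ∨ y ∈ Set.range (pushout.inr g₁ g₂) := by
  obtain ⟨i, xi, rfl⟩ := Scheme.IsLocallyDirected.ι_jointly_surjective (span g₁ g₂) y
  rcases i with _ | (_ | _)
  · left
    refine ⟨g₁ xi, ?_⟩
    have h := colimit.w (span g₁ g₂) (WidePushoutShape.Hom.init WalkingPair.left)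
    have h2 := congrArg (fun φ : (span g₁ g₂).obj none ⟶ colimit (span g₁ g₂) => φ xi) h
    simp only [Scheme.Hom.comp_apply] at h2
    exact h2
  · left
    exact ⟨xi, rfl⟩
  · right
    exact ⟨xi, rfl⟩

theorem inl_eq_inr_iff (z₁ : Z₁) (z₂ : Z₂) :
    pushout.inl g₁ g₂ z₁ = pushout.inr g₁ g₂ z₂ ↔ ∃ w : W, g₁ w = z₁ ∧ g₂ w = z₂ := by
  constructor
  · intro h
    obtain ⟨k, fi, fj, x, hx₁, hx₂⟩ := (Scheme.IsLocallyDirected.ι_eq_ι_iff (span g₁ g₂)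
      (i := WalkingSpan.left) (j := WalkingSpan.right)).1 h
    rcases fi with _ | _
    · rcases fj with _ | _
    · rcases fj with _ | _
      exact ⟨x, hx₁, hx₂⟩
  · rintro ⟨w, rfl, rfl⟩
    rw [← Scheme.Hom.comp_apply, ← Scheme.Hom.comp_apply, pushout.condition]

theorem isPullback_pushout : IsPullback g₁ g₂ (pushout.inl g₁ g₂) (pushout.inr g₁ g₂) := by
  refine IsOpenImmersion.isPullback g₁ g₂ (pushout.inl g₁ g₂) (pushout.inr g₁ g₂)
    pushout.condition.symm ?_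
  ext z
  simp only [Scheme.Hom.coe_preimage, Scheme.Hom.coe_opensRange, Set.mem_preimage, Set.mem_range]
  constructor
  · rintro ⟨z₁, hz⟩
    obtain ⟨w, -, hw⟩ := (inl_eq_inr_iff g₁ g₂ z₁ z).1 hz
    exact ⟨w, hw⟩
  · rintro ⟨w, rfl⟩
    exact ⟨g₁ w, (inl_eq_inr_iff g₁ g₂ _ _).2 ⟨w, rfl, rfl⟩⟩


/-- being localizing is local on the source -/
theorem isLocalizing_of_openCover {X Y : Scheme.{u}} (k : X ⟶ Y) (𝒰 : X.OpenCover)
    (h : ∀ i, LocImm.IsLocalizing (𝒰.f i ≫ k)) : LocImm.IsLocalizing k := by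
  intro x
  obtain ⟨i, y, rfl⟩ := 𝒰.exists_eq x
  obtain ⟨U, V, hyV, e, hloc⟩ := h i y
  set j := 𝒰.f i with hj
  let V' : X.Opens := j ''ᵁ V.1
  have hV' : IsAffineOpen V' := V.2.image_of_isOpenImmersion j
  have e' : V' ≤ k ⁻¹ᵁ U.1 := by
    rintro _ ⟨v, hv, rfl⟩
    exact e hv
  refine ⟨U, ⟨V', hV'⟩, ⟨y, hyV, rfl⟩, e', ?_⟩
  have e'' : V.1 ≤ j ⁻¹ᵁ V' := by rw [Scheme.Hom.preimage_image_eq]
  have h1 : (j ≫ k).appLE U.1 V.1 e = k.appLE U.1 V' e' ≫ j.appLE V' V.1 e'' := by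
    rw [Scheme.Hom.appLE_comp_appLE]
  have h3 : j.appLE V' V.1 e'' = (j.appIso V.1).hom := by
    rw [Scheme.Hom.appIso_hom']
  haveI hiso : IsIso (j.appLE V' V.1 e'') := by rw [h3]; infer_instance
  have h2 : k.appLE U.1 V' e' = (j ≫ k).appLE U.1 V.1 e ≫ inv (j.appLE V' V.1 e'') := by
    rw [h1, Category.assoc, IsIso.hom_inv_id, Category.comp_id]
  rw [h2]
  exact isLocHom_comp_bijective _ hloc _ (ConcreteCategory.bijective_of_isIso _)

/-- the two-chart cover -/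
noncomputable def twoCover {Y Z₁ Z₂ : Scheme.{u}} (a₁ : Z₁ ⟶ Y) (a₂ : Z₂ ⟶ Y)
    [IsOpenImmersion a₁] [IsOpenImmersion a₂]
    (hcov : ∀ y : Y, y ∈ Set.range a₁ ∨ y ∈ Set.range a₂) : Y.OpenCover :=
  Scheme.Cover.mkOfCovers Bool (fun b => Bool.rec Z₂ Z₁ b) (fun b => Bool.rec a₂ a₁ b) (by
    intro y
    rcases hcov y with ⟨z, hz⟩ | ⟨z, hz⟩
    · exact ⟨true, z, hz⟩
    · exact ⟨false, z, hz⟩) (by
    rintro (_ | _)
    · exact (inferInstance : IsOpenImmersion a₂)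
    · exact (inferInstance : IsOpenImmersion a₁))

end Groth.Agent.Helper1.LocImmL
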