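import Mathlib
import Groth.Prelude.Def_EssFT
import Groth.Agent.Lib.Helper1.LocImm21

set_option autoImplicit false
universe u
open CategoryTheory CategoryTheory.Limits AlgebraicGeometry TopologicalSpace Opposite

namespace Groth.Agent.Helper1.LocImmL

variable {W Z₁ Z₂ S : Scheme.{u}} (g₁ : W ⟶ Z₁) (g₂ : W ⟶ Z₂) [IsOpenImmersion g₁]
  [IsOpenImmersion g₂]

/-- the glued scheme is Noetherian -/
theorem isNoetherian_pushout [IsNoetherian Z₁] [IsNoetherian Z₂] :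
    IsNoetherian (pushout g₁ g₂) := by
  haveI : IsLocallyNoetherian (pushout g₁ g₂) := by
    rw [isLocallyNoetherian_iff_openCover
      (twoCover (pushout.inl g₁ g₂) (pushout.inr g₁ g₂) (pushout_cover g₁ g₂))]
    rintro (_ | _)
    · exact (inferInstance : IsLocallyNoetherian Z₂)
    · exact (inferInstance : IsLocallyNoetherian Z₁)
  haveI : CompactSpace ↥(pushout g₁ g₂ : Scheme.{u}) := by
    constructor
    have h : (Set.univ : Set ↥(pushout g₁ g₂ : Scheme.{u})) =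
        Set.range (pushout.inl g₁ g₂) ∪ Set.range (pushout.inr g₁ g₂) := by
      ext y
      simp only [Set.mem_univ, Set.mem_union, true_iff]
      exact pushout_cover g₁ g₂ y
    rw [h]
    exact (isCompact_range (pushout.inl g₁ g₂).continuous).union
      (isCompact_range (pushout.inr g₁ g₂).continuous)
  exact {}

/-- the glued structure morphism is separated -/
theorem isSeparated_pushout_desc (q₁ : Z₁ ⟶ S) (q₂ : Z₂ ⟶ S) [IsSeparated q₁] [IsSeparated q₂]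
    (hc : g₁ ≫ q₁ = g₂ ≫ q₂) (hcl : IsClosedImmersion (pullback.lift g₁ g₂ hc)) :
    IsSeparated (pushout.desc q₁ q₂ hc) := by
  set p := pushout.desc q₁ q₂ hc with hp
  have hp₁ : pushout.inl g₁ g₂ ≫ p = q₁ := pushout.inl_desc _ _ _
  have hp₂ : pushout.inr g₁ g₂ ≫ p = q₂ := pushout.inr_desc _ _ _
  haveI : IsSeparated (pushout.inl g₁ g₂ ≫ p) := by rw [hp₁]; infer_instance
  haveI : IsSeparated (pushout.inr g₁ g₂ ≫ p) := by rw [hp₂]; infer_instance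
  refine isSeparated_of_two (pushout.inl g₁ g₂) (pushout.inr g₁ g₂) (pushout_cover g₁ g₂) p ?_
  have aux : ∀ (q₁' : Z₁ ⟶ S) (q₂' : Z₂ ⟶ S) (e₁ : q₁' = q₁) (e₂ : q₂' = q₂)
      (hc' : g₁ ≫ q₁' = g₂ ≫ q₂'), IsClosedImmersion (pullback.lift g₁ g₂ hc') := by
    intro q₁' q₂' e₁ e₂ hc'
    subst e₁ e₂
    exact hcl
  have hc' : g₁ ≫ (pushout.inl g₁ g₂ ≫ p) = g₂ ≫ (pushout.inr g₁ g₂ ≫ p) := by
    rw [hp₁, hp₂, hc]
  have h1 := aux _ _ hp₁ hp₂ hc'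
  have sq := isPullback_pushout g₁ g₂
  have h2 : pullback.mapDesc (pushout.inl g₁ g₂) (pushout.inr g₁ g₂) p =
      sq.isoPullback.inv ≫ pullback.lift g₁ g₂ hc' := by
    rw [Iso.eq_inv_comp]
    apply pullback.hom_ext
    · simp only [pullback.mapDesc, pullback.map, Category.assoc]
      rw [pullback.lift_fst, pullback.lift_fst, Category.comp_id, sq.isoPullback_hom_fst]
    · simp only [pullback.mapDesc, pullback.map, Category.assoc]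
      rw [pullback.lift_snd, pullback.lift_snd, Category.comp_id, sq.isoPullback_hom_snd]
  rw [h2]
  infer_instance


set_option maxHeartbeats 1600000 in
/-- **Part II** of the gluing lemma -/
theorem glue_main {X : Scheme.{u}} (f : X ⟶ S) (U₁ U₂ : X.Opens) (hU : U₁ ⊔ U₂ = ⊤)
    [IsNoetherian Z₁] [IsNoetherian Z₂]
    (q₁ : Z₁ ⟶ S) (q₂ : Z₂ ⟶ S) [IsSeparated q₁] [IsSeparated q₂] [LocallyOfFiniteType q₁]
    [LocallyOfFiniteType q₂]
    (hc : g₁ ≫ q₁ = g₂ ≫ q₂) (hcl : IsClosedImmersion (pullback.lift g₁ g₂ hc))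
    (κ₁ : (U₁ : Scheme.{u}) ⟶ Z₁) (κ₂ : (U₂ : Scheme.{u}) ⟶ Z₂)
    (hκ₁ : LocImm.IsLocImmersion κ₁) (hκ₂ : LocImm.IsLocImmersion κ₂)
    (h₁ : κ₁ ≫ q₁ = U₁.ι ≫ f) (h₂ : κ₂ ≫ q₂ = U₂.ι ≫ f)
    (κ₀ : pullback U₁.ι U₂.ι ⟶ W) (hκ₀₁ : pullback.fst U₁.ι U₂.ι ≫ κ₁ = κ₀ ≫ g₁)
    (hκ₀₂ : pullback.snd U₁.ι U₂.ι ≫ κ₂ = κ₀ ≫ g₂)
    (hinj : ∀ (w : W) (x : U₁) (x' : U₂), g₁ w = κ₁ x → g₂ w = κ₂ x' → U₁.ι x = U₂.ι x') :
    ∃ (Y : Scheme.{u}) (k : X ⟶ Y) (p : Y ⟶ S), IsNoetherian Y ∧ LocImm.IsLocImmersion k ∧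
      IsSeparated p ∧ LocallyOfFiniteType p ∧ QuasiCompact p ∧ k ≫ p = f := by
  set inl := pushout.inl g₁ g₂ with hinl
  set inr := pushout.inr g₁ g₂ with hinr
  set p := pushout.desc q₁ q₂ hc with hp
  have hp₁ : inl ≫ p = q₁ := pushout.inl_desc _ _ _
  have hp₂ : inr ≫ p = q₂ := pushout.inr_desc _ _ _
  haveI hN : IsNoetherian (pushout g₁ g₂) := isNoetherian_pushout g₁ g₂
  have hcovX : ∀ x : X, x ∈ Set.range U₁.ι ∨ x ∈ Set.range U₂.ι := by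
    intro x
    have hx : x ∈ U₁ ⊔ U₂ := by rw [hU]; trivial
    rcases hx with hx | hx
    · left; rw [Scheme.Opens.range_ι]; exact hx
    · right; rw [Scheme.Opens.range_ι]; exact hx
  let 𝒰 : X.OpenCover := twoCover U₁.ι U₂.ι hcovX
  let φ : ∀ b, 𝒰.X b ⟶ pushout g₁ g₂ := fun b =>
    Bool.rec (motive := fun b => 𝒰.X b ⟶ pushout g₁ g₂) (κ₂ ≫ inr) (κ₁ ≫ inl) b
  have hfs₁ : pullback.fst U₁.ι U₁.ι = pullback.snd U₁.ι U₁.ι := by
    rw [← cancel_mono U₁.ι, pullback.condition]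
  have hfs₂ : pullback.fst U₂.ι U₂.ι = pullback.snd U₂.ι U₂.ι := by
    rw [← cancel_mono U₂.ι, pullback.condition]
  have h12 : pullback.fst U₁.ι U₂.ι ≫ κ₁ ≫ inl = pullback.snd U₁.ι U₂.ι ≫ κ₂ ≫ inr := by
    rw [reassoc_of% hκ₀₁, reassoc_of% hκ₀₂, pushout.condition]
  have hφ : ∀ x y, pullback.fst (𝒰.f x) (𝒰.f y) ≫ φ x = pullback.snd (𝒰.f x) (𝒰.f y) ≫ φ y := by
    rintro (_ | _) (_ | _)
    · change pullback.fst U₂.ι U₂.ι ≫ κ₂ ≫ inr = pullback.snd U₂.ι U₂.ι ≫ κ₂ ≫ inr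
      rw [hfs₂]
    · change pullback.fst U₂.ι U₁.ι ≫ κ₂ ≫ inr = pullback.snd U₂.ι U₁.ι ≫ κ₁ ≫ inl
      rw [← cancel_epi (pullbackSymmetry U₁.ι U₂.ι).hom, pullbackSymmetry_hom_comp_fst_assoc,
        pullbackSymmetry_hom_comp_snd_assoc, h12]
    · exact h12
    · change pullback.fst U₁.ι U₁.ι ≫ κ₁ ≫ inl = pullback.snd U₁.ι U₁.ι ≫ κ₁ ≫ inl
      rw [hfs₁]
  let k : X ⟶ pushout g₁ g₂ := 𝒰.glueMorphisms φ hφ
  have hk₁ : U₁.ι ≫ k = κ₁ ≫ inl := 𝒰.ι_glueMorphisms φ hφ true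
  have hk₂ : U₂.ι ≫ k = κ₂ ≫ inr := 𝒰.ι_glueMorphisms φ hφ false
  have hkp : k ≫ p = f := by
    apply Scheme.Cover.hom_ext 𝒰
    rintro (_ | _)
    · change U₂.ι ≫ k ≫ p = U₂.ι ≫ f
      rw [reassoc_of% hk₂, hp₂, h₂]
    · change U₁.ι ≫ k ≫ p = U₁.ι ≫ f
      rw [reassoc_of% hk₁, hp₁, h₁]
  have hkx₁ : ∀ a : U₁, k (U₁.ι a) = inl (κ₁ a) := fun a => by
    rw [← Scheme.Hom.comp_apply, hk₁, Scheme.Hom.comp_apply]
  have hkx₂ : ∀ a : U₂, k (U₂.ι a) = inr (κ₂ a) := fun a => by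
    rw [← Scheme.Hom.comp_apply, hk₂, Scheme.Hom.comp_apply]
  refine ⟨pushout g₁ g₂, k, p, hN, ⟨?_, ?_⟩, isSeparated_pushout_desc g₁ g₂ q₁ q₂ hc hcl, ?_,
    inferInstance, hkp⟩
  · -- localizing
    apply isLocalizing_of_openCover k 𝒰
    rintro (_ | _)
    · change LocImm.IsLocalizing (U₂.ι ≫ k)
      rw [hk₂]
      exact isLocalizing_comp _ _ hκ₂.1 (isLocalizing_of_isOpenImmersion inr)
    · change LocImm.IsLocalizing (U₁.ι ≫ k)
      rw [hk₁]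
      exact isLocalizing_comp _ _ hκ₁.1 (isLocalizing_of_isOpenImmersion inl)
  · -- injective
    have hinj' : ∀ x x' : X, k x = k x' → x = x' := by
      intro x x' hxx'
      rcases hcovX x with ⟨a, rfl⟩ | ⟨a, rfl⟩ <;> rcases hcovX x' with ⟨a', rfl⟩ | ⟨a', rfl⟩
      · rw [hkx₁, hkx₁] at hxx'
        rw [hκ₁.2 (inl.isOpenEmbedding.injective hxx')]
      · rw [hkx₁, hkx₂] at hxx'
        obtain ⟨w, hw₁, hw₂⟩ := (inl_eq_inr_iff g₁ g₂ _ _).1 hxx'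
        exact hinj w a a' hw₁ hw₂
      · rw [hkx₂, hkx₁] at hxx'
        obtain ⟨w, hw₁, hw₂⟩ := (inl_eq_inr_iff g₁ g₂ _ _).1 hxx'.symm
        exact (hinj w a' a hw₁ hw₂).symm
      · rw [hkx₂, hkx₂] at hxx'
        rw [hκ₂.2 (inr.isOpenEmbedding.injective hxx')]
    exact fun x x' h => hinj' x x' h
  · -- finite type
    apply IsZariskiLocalAtSource.of_openCover (P := @LocallyOfFiniteType)
      (twoCover inl inr (pushout_cover g₁ g₂))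
    rintro (_ | _)
    · change LocallyOfFiniteType (inr ≫ p)
      rw [hp₂]; infer_instance
    · change LocallyOfFiniteType (inl ≫ p)
      rw [hp₁]; infer_instance

end Groth.Agent.Helper1.LocImmL
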