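import Mathlib
import Groth.Prelude.Def_EssFT
import Groth.Agent.Lib.Helper1.LocImm22

set_option autoImplicit false
universe u
open CategoryTheory CategoryTheory.Limits AlgebraicGeometry TopologicalSpace Opposite

namespace Groth.Agent.Helper1.LocImmL

/-- **S18192**: the gluing lemma -/
theorem gluing_lemma {X S : Scheme.{u}} [IsNoetherian X] (f : X ⟶ S) [IsSeparated f]
    (U₁ U₂ : X.Opens) (hU : U₁ ⊔ U₂ = ⊤) (Y₁ Y₂ : Scheme.{u}) [IsNoetherian Y₁] [IsNoetherian Y₂]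
    (k₁ : (U₁ : Scheme.{u}) ⟶ Y₁) (k₂ : (U₂ : Scheme.{u}) ⟶ Y₂) (p₁ : Y₁ ⟶ S) (p₂ : Y₂ ⟶ S)
    (hk₁ : LocImm.IsLocImmersion k₁) (hk₂ : LocImm.IsLocImmersion k₂)
    [IsSeparated p₁] [IsSeparated p₂] [LocallyOfFiniteType p₁] [LocallyOfFiniteType p₂]
    [QuasiCompact p₁] [QuasiCompact p₂]
    (h₁ : k₁ ≫ p₁ = U₁.ι ≫ f) (h₂ : k₂ ≫ p₂ = U₂.ι ≫ f) :
    ∃ (Y : Scheme.{u}) (k : X ⟶ Y) (p : Y ⟶ S), IsNoetherian Y ∧ LocImm.IsLocImmersion k ∧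
      IsSeparated p ∧ LocallyOfFiniteType p ∧ QuasiCompact p ∧ k ≫ p = f := by
  obtain ⟨V₁, V₂, W, g₁, g₂, κ₁, κ₂, κ₀, hc, hg₁, hg₂, hκ₁, hκ₂, hcl, hκ₀₁, hκ₀₂, hinj⟩ :=
    exists_glue_data f U₁ U₂ Y₁ Y₂ k₁ k₂ p₁ p₂ hk₁ hk₂ h₁ h₂
  haveI := hg₁
  haveI := hg₂
  have hκ₁' : LocImm.IsLocImmersion κ₁ := isLocImmersion_of_comp_mono κ₁ V₁.ι (hκ₁ ▸ hk₁)
  have hκ₂' : LocImm.IsLocImmersion κ₂ := isLocImmersion_of_comp_mono κ₂ V₂.ι (hκ₂ ▸ hk₂)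
  haveI : IsNoetherian (V₁ : Scheme.{u}) := isNoetherian_of_isOpenImmersion V₁.ι
  haveI : IsNoetherian (V₂ : Scheme.{u}) := isNoetherian_of_isOpenImmersion V₂.ι
  exact glue_main g₁ g₂ f U₁ U₂ hU (V₁.ι ≫ p₁) (V₂.ι ≫ p₂) hc hcl κ₁ κ₂ hκ₁' hκ₂'
    (by rw [← Category.assoc, hκ₁, h₁]) (by rw [← Category.assoc, hκ₂, h₂]) κ₀ hκ₀₁ hκ₀₂ hinj

end Groth.Agent.Helper1.LocImmL
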