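import Mathlib
import Groth.Prelude.Def_EssFT
import Groth.Agent.Lib.Helper1.LocImm23

set_option autoImplicit false
universe u
open CategoryTheory CategoryTheory.Limits AlgebraicGeometry TopologicalSpace Opposite

namespace Groth.Agent.Helper1.LocImmL

/-- `Spec` of a localizing ring map is a localizing immersion -/
theorem isLocImmersion_SpecMap {C B : CommRingCat.{u}} (ψ : C ⟶ B) (h : LocImm.IsLocHom ψ.hom) :
    LocImm.IsLocImmersion (Spec.map ψ) := by
  rw [LocImmLib.isLocImmersion_iff]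
  haveI := LocImmLib.epi_of_isLocHom ψ h
  refine ⟨?_, LocImmLib.mono_SpecMap_of_epi ψ⟩
  intro x
  refine ⟨⟨⊤, isAffineOpen_top _⟩, ⟨⊤, isAffineOpen_top _⟩, trivial, le_top, ?_⟩
  apply isLocHom_of_iso ψ h (Scheme.ΓSpecIso C) (Scheme.ΓSpecIso B).symm
  have h1 : (Spec.map ψ).appLE ⊤ ⊤ le_top = (Spec.map ψ).appTop := by
    simp [Scheme.Hom.appLE, Scheme.Hom.appTop]
  rw [h1, Iso.symm_hom, ← Scheme.ΓSpecIso_naturality_assoc, Iso.hom_inv_id, Category.comp_id]


variable {X S : Scheme.{u}}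

/-- the restriction of `f` to `U` factors as a localizing immersion followed by a separated
morphism of finite type -/
def FacOn (f : X ⟶ S) (U : X.Opens) : Prop :=
  ∃ (Y : Scheme.{u}) (k : (U : Scheme.{u}) ⟶ Y) (p : Y ⟶ S), IsNoetherian Y ∧
    LocImm.IsLocImmersion k ∧ IsSeparated p ∧ LocallyOfFiniteType p ∧ QuasiCompact p ∧
    k ≫ p = U.ι ≫ f

set_option maxHeartbeats 1600000 in
/-- local factorization -/
theorem exists_facOn_nhd [IsLocallyNoetherian S] (f : X ⟶ S) [EssFT.LocallyEssFiniteType f]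
    (x : X) : ∃ V : X.Opens, x ∈ V ∧ FacOn f V := by
  obtain ⟨U, V, hxV, e, hess⟩ := EssFT.LocallyEssFiniteType.exists_appLE_essFiniteType (f := f) x
  haveI : IsNoetherianRing Γ(S, U.1) := IsLocallyNoetherian.component_noetherian U
  set φ := f.appLE U.1 V.1 e with hφ
  letI : Algebra Γ(S, U.1) Γ(X, V.1) := φ.hom.toAlgebra
  have hess' : Algebra.EssFiniteType Γ(S, U.1) Γ(X, V.1) := hess
  obtain ⟨s, hs⟩ := hess'.cond
  let C : Subalgebra Γ(S, U.1) Γ(X, V.1) := Algebra.adjoin _ (s : Set Γ(X, V.1))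
  let C' : CommRingCat.{u} := CommRingCat.of C
  let α : Γ(S, U.1) ⟶ C' := CommRingCat.ofHom (algebraMap Γ(S, U.1) C)
  let β : C' ⟶ Γ(X, V.1) := CommRingCat.ofHom (algebraMap C Γ(X, V.1))
  have hαβ : α ≫ β = φ := by
    ext a
    rfl
  have hβ : LocImm.IsLocHom β.hom := ⟨_, hs⟩
  haveI : Algebra.FiniteType Γ(S, U.1) C :=
    (Subalgebra.fg_iff_finiteType _).1 (Subalgebra.fg_adjoin_finset s)
  haveI : IsNoetherianRing C := Algebra.FiniteType.isNoetherianRing Γ(S, U.1) C
  haveI : IsNoetherianRing C' := inferInstanceAs (IsNoetherianRing C)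
  refine ⟨V.1, hxV, Spec C', V.2.isoSpec.hom ≫ Spec.map β, Spec.map α ≫ U.2.fromSpec,
    inferInstance, ?_, inferInstance, ?_, inferInstance, ?_⟩
  · exact isLocImmersion_comp _ _ (isLocImmersion_of_isOpenImmersion _)
      (isLocImmersion_SpecMap β hβ)
  · haveI : LocallyOfFiniteType (Spec.map α) := by
      rw [HasRingHomProperty.Spec_iff (P := @LocallyOfFiniteType)]
      exact (inferInstance : Algebra.FiniteType Γ(S, U.1) C)
    infer_instance
  · rw [Category.assoc, ← Spec.map_comp_assoc, hαβ, hφ,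
      IsAffineOpen.SpecMap_appLE_fromSpec f U.2 V.2 e, IsAffineOpen.isoSpec_hom_fromSpec_assoc]

end Groth.Agent.Helper1.LocImmL
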