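import Mathlib
import Groth.Prelude.Def_EssFT
import Groth.Agent.Lib.Helper1.LocImm24

set_option autoImplicit false
universe u
open CategoryTheory CategoryTheory.Limits AlgebraicGeometry TopologicalSpace Opposite

namespace Groth.Agent.Helper1.LocImmL

variable {X S : Scheme.{u}}

theorem locallyOfFiniteType_of_isEmpty {A : Scheme.{u}} (g : A ⟶ S) [IsEmpty A] :
    LocallyOfFiniteType g := by
  apply IsZariskiLocalAtSource.of_openCover (P := @LocallyOfFiniteType) A.affineCover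
  intro i
  exact isEmptyElim (α := A) i

theorem facOn_bot [IsNoetherian X] (f : X ⟶ S) [IsSeparated f] : FacOn f ⊥ := by
  haveI : IsNoetherian ((⊥ : X.Opens) : Scheme.{u}) :=
    isNoetherian_of_isOpenImmersion (⊥ : X.Opens).ι
  haveI : IsEmpty ((⊥ : X.Opens) : Scheme.{u}) := ⟨fun z => z.2⟩
  refine ⟨((⊥ : X.Opens) : Scheme.{u}), 𝟙 _, (⊥ : X.Opens).ι ≫ f, inferInstance,
    isLocImmersion_of_isOpenImmersion _, inferInstance, locallyOfFiniteType_of_isEmpty _,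
    inferInstance, Category.id_comp _⟩

set_option maxHeartbeats 1600000 in
theorem facOn_sup [IsNoetherian X] (f : X ⟶ S) [IsSeparated f] (U U' : X.Opens)
    (h : FacOn f U) (h' : FacOn f U') : FacOn f (U ⊔ U') := by
  obtain ⟨Y₁, k₁, p₁, hY₁, hk₁, hp₁s, hp₁f, hp₁q, hkp₁⟩ := h
  obtain ⟨Y₂, k₂, p₂, hY₂, hk₂, hp₂s, hp₂f, hp₂q, hkp₂⟩ := h'
  set T : X.Opens := U ⊔ U' with hT
  haveI : IsNoetherian (T : Scheme.{u}) := isNoetherian_of_isOpenImmersion T.ι
  let O₁ : (T : Scheme.{u}).Opens := T.ι ⁻¹ᵁ U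
  let O₂ : (T : Scheme.{u}).Opens := T.ι ⁻¹ᵁ U'
  have hO : O₁ ⊔ O₂ = ⊤ := by
    rw [eq_top_iff]
    intro z _
    rcases z.2 with hz | hz
    · exact Or.inl hz
    · exact Or.inr hz
  have hr₁ : Set.range (O₁.ι ≫ T.ι) = Set.range U.ι := by
    rw [Scheme.Opens.range_ι]
    ext y
    constructor
    · rintro ⟨z, rfl⟩
      exact z.2
    · intro hy
      exact ⟨⟨⟨y, Or.inl hy⟩, hy⟩, rfl⟩
  have hr₂ : Set.range (O₂.ι ≫ T.ι) = Set.range U'.ι := by
    rw [Scheme.Opens.range_ι]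
    ext y
    constructor
    · rintro ⟨z, rfl⟩
      exact z.2
    · intro hy
      exact ⟨⟨⟨y, Or.inr hy⟩, hy⟩, rfl⟩
  let e₁ : (O₁ : Scheme.{u}) ≅ U := IsOpenImmersion.isoOfRangeEq (O₁.ι ≫ T.ι) U.ι hr₁
  let e₂ : (O₂ : Scheme.{u}) ≅ U' := IsOpenImmersion.isoOfRangeEq (O₂.ι ≫ T.ι) U'.ι hr₂
  have he₁ : e₁.hom ≫ U.ι = O₁.ι ≫ T.ι := IsOpenImmersion.isoOfRangeEq_hom_fac _ _ _
  have he₂ : e₂.hom ≫ U'.ι = O₂.ι ≫ T.ι := IsOpenImmersion.isoOfRangeEq_hom_fac _ _ _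
  exact gluing_lemma (T.ι ≫ f) O₁ O₂ hO Y₁ Y₂ (e₁.hom ≫ k₁) (e₂.hom ≫ k₂) p₁ p₂
    (isLocImmersion_comp _ _ (isLocImmersion_of_isOpenImmersion _) hk₁)
    (isLocImmersion_comp _ _ (isLocImmersion_of_isOpenImmersion _) hk₂)
    (by rw [Category.assoc, hkp₁, reassoc_of% he₁])
    (by rw [Category.assoc, hkp₂, reassoc_of% he₂])

set_option maxHeartbeats 1600000 in
/-- **S18191** -/
theorem exists_factorization [IsNoetherian X] [IsNoetherian S] (f : X ⟶ S) [IsSeparated f]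
    [EssFT.LocallyEssFiniteType f] :
    ∃ (Y : Scheme.{u}) (k : X ⟶ Y) (p : Y ⟶ S), IsNoetherian Y ∧ LocImm.IsLocImmersion k ∧
      IsSeparated p ∧ LocallyOfFiniteType p ∧ QuasiCompact p ∧ k ≫ p = f := by
  classical
  choose V hxV hV using exists_facOn_nhd f
  have key : ∀ s : Finset X, FacOn f (⨆ x ∈ s, V x) := by
    intro s
    induction s using Finset.induction_on with
    | empty =>
      simp only [Finset.notMem_empty, iSup_false, iSup_bot]
      exact facOn_bot f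
    | insert a s ha ih =>
      rw [Finset.iSup_insert]
      exact facOn_sup f _ _ (hV a) ih
  obtain ⟨s, hs⟩ : ∃ s : Finset X, (⨆ x ∈ s, V x) = ⊤ := by
    obtain ⟨s, hs⟩ := (isCompact_univ (X := X)).elim_finite_subcover (fun x => (V x : Set X))
      (fun x => (V x).2) (fun x _ => Set.mem_iUnion.2 ⟨x, hxV x⟩)
    refine ⟨s, ?_⟩
    rw [eq_top_iff]
    intro y _
    have hy := hs (Set.mem_univ y)
    simp only [Set.mem_iUnion, exists_prop] at hy
    obtain ⟨x, hxs, hyx⟩ := hy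
    simp only [Opens.mem_iSup, exists_prop]
    exact ⟨x, hxs, hyx⟩
  have h := key s
  rw [hs] at h
  obtain ⟨Y, k, p, hY, hk, hps, hpf, hpq, hkp⟩ := h
  refine ⟨Y, X.topIso.inv ≫ k, p, hY,
    isLocImmersion_comp _ _ (isLocImmersion_of_isOpenImmersion _) hk, hps, hpf, hpq, ?_⟩
  rw [Category.assoc, hkp, ← Scheme.topIso_hom, Iso.inv_hom_id_assoc]

end Groth.Agent.Helper1.LocImmL
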