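import Mathlib
import Groth.Prelude.Def_EssFT
import Groth.Agent.Lib.Helper1.LocImm25

set_option autoImplicit false
universe u
open CategoryTheory CategoryTheory.Limits AlgebraicGeometry TopologicalSpace Opposite

namespace Groth.Agent.Helper1.LocImmL

/-- (L1) the canonical morphism from the spectrum of a local ring is a localizing immersion -/
theorem isLocImmersion_fromSpecStalk (X : Scheme.{u}) (x : X) :
    LocImm.IsLocImmersion (X.fromSpecStalk x) := by
  obtain ⟨_, ⟨U, hU, rfl⟩, hxU, -⟩ :=
    X.isBasis_affineOpens.exists_subset_of_mem_open (Set.mem_univ x) isOpen_univ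
  rw [← hU.fromSpecStalk_eq_fromSpecStalk hxU]
  unfold IsAffineOpen.fromSpecStalk
  refine isLocImmersion_comp _ _ (isLocImmersion_SpecMap _ ?_)
    (isLocImmersion_of_isOpenImmersion _)
  have := hU.isLocalization_stalk ⟨x, hxU⟩
  exact ⟨_, this⟩

variable {X Y Z : Scheme.{u}}

/-- (L2) localizing morphisms are locally essentially of finite type -/
theorem locallyEssFiniteType_of_isLocalizing (k : X ⟶ Y) (hk : LocImm.IsLocalizing k) :
    EssFT.LocallyEssFiniteType k := by
  constructor
  intro x
  obtain ⟨U, V, hxV, e, hloc⟩ := hk x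
  refine ⟨U, V, hxV, e, ?_⟩
  letI := (k.appLE U.1 V.1 e).hom.toAlgebra
  obtain ⟨M, hM⟩ := hloc
  have : Algebra.EssFiniteType Γ(Y, U.1) Γ(X, V.1) := Algebra.EssFiniteType.of_isLocalization _ M
  exact this

theorem essFiniteType_of_isLocalizing [IsNoetherian X] (k : X ⟶ Y) (hk : LocImm.IsLocalizing k) :
    EssFT.EssFiniteType k := by
  haveI := locallyEssFiniteType_of_isLocalizing k hk
  exact {}

/-- (L3) composition -/
instance locallyEssFiniteType_isStableUnderComposition :
    MorphismProperty.IsStableUnderComposition @EssFT.LocallyEssFiniteType :=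
  HasRingHomProperty.stableUnderComposition
    (RingHom.locally_stableUnderComposition RingHom.EssFiniteType.respectsIso
      RingHom.EssFiniteType.isStableUnderBaseChange.localizationPreserves
      RingHom.EssFiniteType.stableUnderComposition)

theorem locallyEssFiniteType_comp (f : X ⟶ Y) (g : Y ⟶ Z) [EssFT.LocallyEssFiniteType f]
    [EssFT.LocallyEssFiniteType g] : EssFT.LocallyEssFiniteType (f ≫ g) :=
  MorphismProperty.comp_mem _ f g inferInstance inferInstance

end Groth.Agent.Helper1.LocImmL
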