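import Mathlib
import Groth.Prelude.Def_EssFT
import Groth.Agent.Lib.Helper1.LocImm26

set_option autoImplicit false
universe u
open CategoryTheory CategoryTheory.Limits AlgebraicGeometry TopologicalSpace Opposite

namespace Groth.Agent.Helper1.LocImmL

variable {X Y Z : Scheme.{u}}

theorem essFiniteType_comp (f : X ⟶ Y) (g : Y ⟶ Z) [EssFT.EssFiniteType f]
    [EssFT.EssFiniteType g] : EssFT.EssFiniteType (f ≫ g) := by
  haveI := locallyEssFiniteType_comp f g
  exact {}

theorem essFiniteType_of_finiteType (p : X ⟶ Y) [LocallyOfFiniteType p] [QuasiCompact p] :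
    EssFT.EssFiniteType p := by
  haveI := locallyEssFiniteType_of_locallyOfFiniteType p
  exact {}

section

variable (P : MorphismProperty Scheme.{u})
  (hα : ∀ {W X Y : Scheme.{u}} [IsNoetherian W] [IsNoetherian X] [IsNoetherian Y] (i : W ⟶ X)
    (f : X ⟶ Y) [IsSeparated f] [EssFT.EssFiniteType f], LocImm.IsLocImmersion i → P f → P (i ≫ f))

include hα in
/-- (L5) -/
theorem P_iso_comp_iff {A A' B : Scheme.{u}} [IsNoetherian A] [IsNoetherian A'] [IsNoetherian B]
    (e : A ⟶ A') [IsIso e] (g : A' ⟶ B) [IsSeparated g] [EssFT.EssFiniteType g] :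
    P (e ≫ g) ↔ P g := by
  constructor
  · intro h
    haveI : EssFT.EssFiniteType e :=
      essFiniteType_of_isLocalizing e (isLocalizing_of_isOpenImmersion e)
    haveI : EssFT.EssFiniteType (e ≫ g) := essFiniteType_comp e g
    have := hα (inv e) (e ≫ g) (isLocImmersion_of_isOpenImmersion _) h
    rwa [IsIso.inv_hom_id_assoc] at this
  · intro h
    exact hα e g (isLocImmersion_of_isOpenImmersion _) h


set_option maxHeartbeats 3200000 in
include hα in
/-- **S18201** in library form -/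
theorem main_P
    (hβ₁ : ∀ {X Y : Scheme.{u}} [IsNoetherian X] [IsNoetherian Y] (f : X ⟶ Y) [IsSeparated f]
      [LocallyOfFiniteType f], (∀ x : X, P (X.fromSpecStalk x ≫ f)) → P f)
    (hβ₂ : ∀ {X Y : Scheme.{u}} [IsNoetherian X] [IsNoetherian Y] (f : X ⟶ Y) [IsSeparated f]
      [LocallyOfFiniteType f], IsOpen {x : X | P (X.fromSpecStalk x ≫ f)})
    {X Y : Scheme.{u}} [IsNoetherian X] [IsNoetherian Y] (f : X ⟶ Y) [IsSeparated f]
    [EssFT.EssFiniteType f] :
    ((∀ x : X, P (X.fromSpecStalk x ≫ f)) → P f) ∧ IsOpen {x : X | P (X.fromSpecStalk x ≫ f)} ∧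
      (P f → ∃ (Z : Scheme.{u}) (i : X ⟶ Z) (h : Z ⟶ Y), IsNoetherian Z ∧
        LocImm.IsLocImmersion i ∧ IsSeparated h ∧ LocallyOfFiniteType h ∧ QuasiCompact h ∧ P h ∧
        i ≫ h = f) := by
  obtain ⟨Y', k, p, hY', hk, hps, hpf, hpq, hkp⟩ := exists_factorization f
  subst hkp
  haveI := hY'
  haveI := hps
  haveI := hpf
  haveI := hpq
  haveI : EssFT.EssFiniteType p := essFiniteType_of_finiteType p
  have hstalk : ∀ x : X, P (X.fromSpecStalk x ≫ k ≫ p) ↔ P (Y'.fromSpecStalk (k x) ≫ p) := by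
    intro x
    haveI := isIso_stalkMap_of_isLocalizing k hk.1 x
    have h1 : X.fromSpecStalk x ≫ k ≫ p =
        Spec.map (k.stalkMap x) ≫ Y'.fromSpecStalk (k x) ≫ p := by
      rw [← Category.assoc, ← Scheme.SpecMap_stalkMap_fromSpecStalk, Category.assoc]
    rw [h1]
    haveI : EssFT.EssFiniteType (Y'.fromSpecStalk (k x)) :=
      essFiniteType_of_isLocalizing _ (isLocImmersion_fromSpecStalk Y' (k x)).1
    haveI : EssFT.EssFiniteType (Y'.fromSpecStalk (k x) ≫ p) := essFiniteType_comp _ _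
    exact P_iso_comp_iff P hα (Spec.map (k.stalkMap x)) (Y'.fromSpecStalk (k x) ≫ p)
  let SY : Set Y' := {y | P (Y'.fromSpecStalk y ≫ p)}
  have hSY : IsOpen SY := hβ₂ p
  have hSX : {x : X | P (X.fromSpecStalk x ≫ k ≫ p)} = (fun x => k x) ⁻¹' SY := by
    ext x
    exact hstalk x
  have hcore : (∀ x : X, P (X.fromSpecStalk x ≫ k ≫ p)) →
      ∃ (Z : Scheme.{u}) (i : X ⟶ Z) (h : Z ⟶ Y), IsNoetherian Z ∧
        LocImm.IsLocImmersion i ∧ IsSeparated h ∧ LocallyOfFiniteType h ∧ QuasiCompact h ∧ P h ∧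
        i ≫ h = k ≫ p := by
    intro hall
    let O : Y'.Opens := ⟨SY, hSY⟩
    have hkO : ∀ x, k x ∈ O := fun x => (hstalk x).1 (hall x)
    let k'' : X ⟶ O := IsOpenImmersion.lift O.ι k (by
      rw [Scheme.Opens.range_ι]; rintro _ ⟨x, rfl⟩; exact hkO x)
    have hk'' : k'' ≫ O.ι = k := IsOpenImmersion.lift_fac _ _ _
    haveI : IsNoetherian (O : Scheme.{u}) := isNoetherian_of_isOpenImmersion O.ι
    have hPp'' : P (O.ι ≫ p) := by
      apply hβ₁ (O.ι ≫ p)
      intro y
      have h1 : (O : Scheme.{u}).fromSpecStalk y ≫ O.ι ≫ p =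
          Spec.map (O.ι.stalkMap y) ≫ Y'.fromSpecStalk (O.ι y) ≫ p := by
        rw [← Category.assoc, ← Scheme.SpecMap_stalkMap_fromSpecStalk, Category.assoc]
      rw [h1]
      haveI : EssFT.EssFiniteType (Y'.fromSpecStalk (O.ι y)) :=
        essFiniteType_of_isLocalizing _ (isLocImmersion_fromSpecStalk Y' (O.ι y)).1
      haveI : EssFT.EssFiniteType (Y'.fromSpecStalk (O.ι y) ≫ p) := essFiniteType_comp _ _
      exact (P_iso_comp_iff P hα (Spec.map (O.ι.stalkMap y))
        (Y'.fromSpecStalk (O.ι y) ≫ p)).2 y.2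
    refine ⟨O, k'', O.ι ≫ p, inferInstance,
      isLocImmersion_of_comp_mono k'' O.ι (hk''.symm ▸ hk), inferInstance, inferInstance,
      inferInstance, hPp'', by rw [reassoc_of% hk'']⟩
  refine ⟨?_, ?_, ?_⟩
  · intro hall
    obtain ⟨Z, i, h, hZ, hi, hhs, hhf, hhq, hPh, hih⟩ := hcore hall
    rw [← hih]
    haveI := hZ
    haveI := hhs
    haveI := hhf
    haveI := hhq
    haveI : EssFT.EssFiniteType h := essFiniteType_of_finiteType h
    exact hα i h hi hPh
  · rw [hSX]
    exact hSY.preimage k.continuous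
  · intro hPf
    apply hcore
    intro x
    exact hα (X.fromSpecStalk x) (k ≫ p) (isLocImmersion_fromSpecStalk X x) hPf

end

end Groth.Agent.Helper1.LocImmL
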