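import Mathlib
import Groth.Prelude.Def_EssFT
import Groth.Agent.Lib.Helper1.LocImm27
import Groth.Agent.Lib.Lead.FlatLoc13

set_option autoImplicit false
universe u
open CategoryTheory CategoryTheory.Limits AlgebraicGeometry TopologicalSpace Opposite

namespace Groth.Agent.Helper1.LocImmL

variable {X Y : Scheme.{u}}

/-- flatness of `Spec O_{X,x} ⟶ X ⟶ Y` is flatness of the stalk map -/
theorem flat_fromSpecStalk_comp_iff (f : X ⟶ Y) (x : X) :
    Flat (X.fromSpecStalk x ≫ f) ↔ (f.stalkMap x).hom.Flat := by
  constructor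
  · intro hg
    set z : ↥(Spec (X.presheaf.stalk x)) := IsLocalRing.closedPoint (X.presheaf.stalk x) with hz
    have hzx : X.fromSpecStalk x z = x := Scheme.fromSpecStalk_closedPoint
    have h1 : ((X.fromSpecStalk x ≫ f).stalkMap z).hom.Flat := Flat.stalkMap _ z
    rw [Scheme.Hom.stalkMap_comp] at h1
    haveI := isIso_stalkMap_of_isLocalizing (X.fromSpecStalk x)
      (isLocImmersion_fromSpecStalk X x).1 z
    have h2 : (f.stalkMap (X.fromSpecStalk x z)).hom.Flat := by
      have h3 : f.stalkMap (X.fromSpecStalk x z) =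
          (f.stalkMap (X.fromSpecStalk x z) ≫ (X.fromSpecStalk x).stalkMap z) ≫
            inv ((X.fromSpecStalk x).stalkMap z) := by
        rw [Category.assoc, IsIso.hom_inv_id, Category.comp_id]
      rw [h3, CommRingCat.hom_comp]
      exact RingHom.Flat.comp h1 (RingHom.Flat.of_bijective
        (ConcreteCategory.bijective_of_isIso (inv ((X.fromSpecStalk x).stalkMap z))))
    have gen : ∀ x' : X, x' = x → (f.stalkMap x').hom.Flat → (f.stalkMap x).hom.Flat := by
      rintro x' rfl h
      exact h
    exact gen _ hzx h2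
  · intro h
    rw [← Scheme.SpecMap_stalkMap_fromSpecStalk]
    haveI : Flat (Spec.map (f.stalkMap x)) := by
      rw [HasRingHomProperty.Spec_iff (P := @Flat)]
      exact h
    haveI : Flat (Y.fromSpecStalk (f x)) :=
      LocImmLib.flat_of_isLocalizing _ (isLocImmersion_fromSpecStalk Y (f x)).1
    infer_instance

set_option maxHeartbeats 1600000 in
/-- **S18213** -/
theorem flat_main [IsNoetherian X] [IsNoetherian Y] (f : X ⟶ Y) [IsSeparated f]
    [EssFT.EssFiniteType f] :
    IsOpen {x : X | Flat (X.fromSpecStalk x ≫ f)} ∧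
      (Flat f → ∃ (Z : Scheme.{u}) (i : X ⟶ Z) (h : Z ⟶ Y), IsNoetherian Z ∧
        LocImm.IsLocImmersion i ∧ IsSeparated h ∧ LocallyOfFiniteType h ∧ QuasiCompact h ∧
        Flat h ∧ i ≫ h = f) := by
  have hmain := main_P (@Flat : MorphismProperty Scheme.{u})
    (fun {W X Y} _ _ _ i f _ _ hi hf => by
      haveI : Flat f := hf
      haveI : Flat i := LocImmLib.flat_of_isLocalizing i hi.1
      exact (inferInstance : Flat (i ≫ f)))
    (fun {X Y} _ _ f _ _ hall => by
      rw [Flat.iff_flat_stalkMap]
      intro x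
      exact (flat_fromSpecStalk_comp_iff f x).1 (hall x))
    (fun {X Y} _ _ f _ _ => by
      haveI : LocallyOfFinitePresentation f :=
        LocallyOfFinitePresentation.iff_locallyOfFiniteType.2 inferInstance
      have h1 : {x : X | Flat (X.fromSpecStalk x ≫ f)} = {x : X | (f.stalkMap x).hom.Flat} := by
        ext x
        exact flat_fromSpecStalk_comp_iff f x
      change IsOpen {x : X | Flat (X.fromSpecStalk x ≫ f)}
      rw [h1]
      exact Groth.Agent.Lead.FlatLoc.isOpen_flatLocus_of_locallyOfFinitePresentation f)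
    f
  exact ⟨hmain.2.1, hmain.2.2⟩

end Groth.Agent.Helper1.LocImmL
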