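import Mathlib
import Groth.Agent.Lib.Helper1.LocImm3

set_option autoImplicit false
universe u
open CategoryTheory CategoryTheory.Limits AlgebraicGeometry TopologicalSpace Opposite

namespace Groth.Agent.Helper1.LocImmL

variable {X Y : Scheme.{u}}

/-- local inclusion `I ≤ (I.map f).comap f` over an affine open with localizing section map -/
theorem ideal_le_comap_map (f : X ⟶ Y) [QuasiCompact f] (I : X.IdealSheafData) (U : Y.Opens)
    (hU : IsAffineOpen U) (hV : IsAffineOpen (f ⁻¹ᵁ U)) (hloc : LocImm.IsLocHom (f.app U).hom) :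
    I.ideal ⟨f ⁻¹ᵁ U, hV⟩ ≤ ((I.map f).comap f).ideal ⟨f ⁻¹ᵁ U, hV⟩ := by
  intro b hb
  set J := I.map f with hJ
  have hJU : J.ideal ⟨U, hU⟩ = (I.ideal ⟨f ⁻¹ᵁ U, hV⟩).comap (f.app U).hom :=
    Scheme.IdealSheafData.ideal_map I f ⟨U, hU⟩ hV
  change b ∈ (pullback.fst f J.subschemeι).ker.ideal ⟨f ⁻¹ᵁ U, hV⟩
  rw [Scheme.Hom.ker_apply, RingHom.mem_ker]
  obtain ⟨S, hS⟩ := hloc
  letI := (f.app U).hom.toAlgebra
  obtain ⟨a, s, rfl⟩ := IsLocalization.exists_mk'_eq S b
  have ha : a ∈ J.ideal ⟨U, hU⟩ := by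
    rw [hJU, Ideal.mem_comap]
    have : (f.app U).hom a = IsLocalization.mk' Γ(X, f ⁻¹ᵁ U) a s * (f.app U).hom s := by
      change algebraMap _ _ a = _ * algebraMap _ _ _
      rw [IsLocalization.mk'_spec]
    rw [this]
    exact Ideal.mul_mem_right _ _ hb
  have h0 : (J.subschemeι.app U).hom a = 0 := by
    have := J.ker_subschemeι_app ⟨U, hU⟩
    rw [← RingHom.mem_ker, this]; exact ha
  have h1 : ((pullback.fst f J.subschemeι).app (f ⁻¹ᵁ U)).hom ((f.app U).hom a) = 0 := by
    have hc := Scheme.Hom.congr_app (pullback.condition (f := f) (g := J.subschemeι)) U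
    rw [Scheme.Hom.comp_app, Scheme.Hom.comp_app] at hc
    have hc' : ((pullback.fst f J.subschemeι).app (f ⁻¹ᵁ U)).hom ((f.app U).hom a) =
        ((pullback f J.subschemeι).presheaf.map (eqToHom
          (by
            change (pullback.fst f J.subschemeι ≫ f) ⁻¹ᵁ U =
              (pullback.snd f J.subschemeι ≫ J.subschemeι) ⁻¹ᵁ U
            rw [pullback.condition])).op).hom
          (((pullback.snd f J.subschemeι).app (J.subschemeι ⁻¹ᵁ U)).hom
            ((J.subschemeι.app U).hom a)) := congr($(hc).hom a)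
    rw [hc', h0, map_zero, map_zero]
  have hu : IsUnit ((f.app U).hom s) := IsLocalization.map_units (M := S) _ s
  have h2 : (f.app U).hom a = IsLocalization.mk' Γ(X, f ⁻¹ᵁ U) a s * (f.app U).hom s := by
    change algebraMap _ _ a = _ * algebraMap _ _ _
    rw [IsLocalization.mk'_spec]
  rw [h2, map_mul] at h1
  exact (hu.map ((pullback.fst f J.subschemeι).app (f ⁻¹ᵁ U)).hom).mul_left_eq_zero.1 h1

/-- every ideal sheaf on the source of a localizing immersion is a pulled back ideal sheaf -/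
theorem comap_map_eq [IsNoetherian X] (f : X ⟶ Y) (hf : LocImm.IsLocImmersion f)
    (I : X.IdealSheafData) : (I.map f).comap f = I := by
  apply le_antisymm (Scheme.IdealSheafData.comap_map_le I f)
  choose U hxU hU hV hloc using exists_affine_nhd f hf
  refine Scheme.IdealSheafData.le_of_iSup_eq_top (fun x : X => ⟨f ⁻¹ᵁ U x, hV x⟩) ?_ ?_
  · rw [eq_top_iff]
    intro x _
    exact Opens.mem_iSup.2 ⟨x, hxU x⟩
  · intro x
    exact ideal_le_comap_map f I (U x) (hU x) (hV x) (hloc x)

end Groth.Agent.Helper1.LocImmL
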