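import Mathlib

universe u

open PrimeSpectrum Topology

namespace Groth.Agent.Helper1.LocProd

theorem isOpen_range {R : Type u} [CommRing R] (S : Submonoid R) (A : Type u) [CommRing A]
    [Algebra R A] [IsLocalization S A]
    (hcl : IsClosed (Set.range (PrimeSpectrum.comap (algebraMap R A))))
    (h : TopologicalSpace.NoetherianSpace (PrimeSpectrum R) ∨ S.FG) :
    IsOpen (Set.range (PrimeSpectrum.comap (algebraMap R A))) := by
  have hZ := PrimeSpectrum.localization_comap_range A S
  rcases h with h | h
  · have hgen : StableUnderGeneralization (Set.range (PrimeSpectrum.comap (algebraMap R A))) := by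
      rw [hZ]
      intro x y hyx hx
      rw [← PrimeSpectrum.le_iff_specializes] at hyx
      exact Disjoint.mono_right (SetLike.coe_subset_coe.mpr hyx) hx
    have hcons : IsConstructible (Set.range (PrimeSpectrum.comap (algebraMap R A))) :=
      isConstructible_compl.mp
        (IsCompact.isConstructible (TopologicalSpace.NoetherianSpace.isCompact _) hcl.isOpen_compl)
    exact isOpen_of_stableUnderGeneralization_of_isConstructible hgen hcons
  · obtain ⟨T, hT⟩ := h
    have : Set.range (PrimeSpectrum.comap (algebraMap R A)) =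
        (zeroLocus {∏ t ∈ T, t})ᶜ := by
      rw [hZ]
      ext p
      simp only [Set.mem_ofPred_eq, Set.mem_compl_iff, mem_zeroLocus, Set.singleton_subset_iff,
        SetLike.mem_coe]
      constructor
      · intro hd hmem
        have hS : ∏ t ∈ T, t ∈ S := by
          rw [← hT]
          exact Submonoid.prod_mem _ (fun t ht => Submonoid.subset_closure ht)
        exact Set.disjoint_left.mp hd hS hmem
      · intro hnot
        rw [Set.disjoint_left]
        intro s hs hsp
        apply hnot
        have key : ∀ s ∈ Submonoid.closure (T : Set R), s ∈ p.asIdeal → ∃ t ∈ T, t ∈ p.asIdeal := by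
          intro s hs
          induction hs using Submonoid.closure_induction with
          | mem x hx => exact fun hxp => ⟨x, hx, hxp⟩
          | one => exact fun h1 => absurd h1 (p.asIdeal.ne_top_iff_one.mp p.2.ne_top)
          | mul x y _ _ hx hy =>
            intro hxy
            rcases p.2.mem_or_mem hxy with h | h
            · exact hx h
            · exact hy h
        obtain ⟨t, htT, htp⟩ := key s (hT ▸ hs) hsp
        exact Ideal.mem_of_dvd _ (Finset.dvd_prod_of_mem _ htT) htp
    rw [this]
    exact (isClosed_zeroLocus _).isOpen_compl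

theorem result {R : Type u} [CommRing R] (S : Submonoid R) (A : Type u) [CommRing A]
    [Algebra R A] [IsLocalization S A]
    (hcl : IsClosed (Set.range (PrimeSpectrum.comap (algebraMap R A))))
    (h : TopologicalSpace.NoetherianSpace (PrimeSpectrum R) ∨ S.FG) :
    ∃ (R' : Type u) (_ : CommRing R') (e : R ≃+* A × R'),
      ∀ x : R, (e x).1 = algebraMap R A x := by
  have hopen := isOpen_range S A hcl h
  have hZ := PrimeSpectrum.localization_comap_range A S
  obtain ⟨e, he, hZe⟩ := PrimeSpectrum.isClopen_iff.mp ⟨hcl, hopen⟩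
  have hee : e * (1 - e) = 0 := by rw [mul_sub, mul_one, he.eq, sub_self]
  -- step 3
  have h3 : algebraMap R A (1 - e) = 0 := by
    have hnil : IsNilpotent (algebraMap R A (1 - e)) := by
      rw [nilpotent_iff_mem_prime]
      intro P hP
      have hmem : PrimeSpectrum.comap (algebraMap R A) ⟨P, hP⟩ ∈
          Set.range (PrimeSpectrum.comap (algebraMap R A)) := ⟨_, rfl⟩
      rw [hZe] at hmem
      have hmem' : e ∉ (PrimeSpectrum.comap (algebraMap R A) ⟨P, hP⟩).asIdeal := hmem
      have h0 : e * (1 - e) ∈ (PrimeSpectrum.comap (algebraMap R A) ⟨P, hP⟩).asIdeal := by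
        rw [hee]; exact zero_mem _
      rcases (PrimeSpectrum.comap (algebraMap R A) ⟨P, hP⟩).2.mem_or_mem h0 with h1 | h1
      · exact absurd h1 hmem'
      · exact h1
    have hid : IsIdempotentElem (algebraMap R A (1 - e)) := he.one_sub.map (algebraMap R A)
    obtain ⟨n, hn⟩ := hnil
    rcases Nat.eq_zero_or_pos n with rfl | hpos
    · rw [pow_zero] at hn
      have : (algebraMap R A (1 - e)) = (algebraMap R A (1 - e)) * 1 := (mul_one _).symm
      rw [this, hn, mul_zero]
    · rw [← hid.pow_eq hpos.ne'] 
      exact hn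
  have h3' : algebraMap R A e = 1 := by
    have : algebraMap R A e = 1 - algebraMap R A (1 - e) := by
      rw [map_sub, map_one, sub_sub_cancel]
    rw [this, h3, sub_zero]
  -- step 4
  have h4 : ∀ s ∈ S, ∃ a b : R, a * s + b * (1 - e) = 1 := by
    intro s hs
    have : Ideal.span {s, 1 - e} = ⊤ := by
      by_contra hne
      obtain ⟨m, hm, hle⟩ := Ideal.exists_le_maximal _ hne
      have hsm : s ∈ m := hle (Ideal.subset_span (by simp))
      have hem : 1 - e ∈ m := hle (Ideal.subset_span (by simp))
      have hnem : e ∉ m := fun hem' => hm.ne_top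
        ((Ideal.eq_top_iff_one _).mpr (by simpa using add_mem hem hem'))
      have hmem : (⟨m, hm.isPrime⟩ : PrimeSpectrum R) ∈
          Set.range (PrimeSpectrum.comap (algebraMap R A)) := by
        rw [hZe]; exact hnem
      rw [hZ] at hmem
      exact Set.disjoint_left.mp hmem hs hsm
    have h1 : (1 : R) ∈ Ideal.span {s, 1 - e} := by rw [this]; trivial
    rw [Ideal.mem_span_pair] at h1
    exact h1
  let Φ : R →+* A × (R ⧸ Ideal.span {e}) := (algebraMap R A).prod (Ideal.Quotient.mk _)
  have hinj : Function.Injective Φ := by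
    rw [injective_iff_map_eq_zero]
    intro x hx
    have hx1 : algebraMap R A x = 0 := congrArg Prod.fst hx
    have hx2 : Ideal.Quotient.mk (Ideal.span {e}) x = 0 := congrArg Prod.snd hx
    rw [Ideal.Quotient.eq_zero_iff_mem, Ideal.mem_span_singleton'] at hx2
    obtain ⟨y, rfl⟩ := hx2
    obtain ⟨s, hs⟩ := (IsLocalization.map_eq_zero_iff S A _).mp hx1
    obtain ⟨a, b, hab⟩ := h4 s s.2
    calc y * e = (a * s + b * (1 - e)) * (y * e) := by rw [hab, one_mul]
      _ = a * (s * (y * e)) + b * y * (e * (1 - e)) := by ring
      _ = 0 := by rw [hs, hee]; ring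
  have hsurj : Function.Surjective Φ := by
    rintro ⟨a, r'⟩
    obtain ⟨r, rfl⟩ := Ideal.Quotient.mk_surjective r'
    obtain ⟨⟨r₀, s₀⟩, hrs⟩ := IsLocalization.surj S a
    obtain ⟨c, b, hcb⟩ := h4 s₀ s₀.2
    have h1 : algebraMap R A c * algebraMap R A s₀ = 1 := by
      have := congrArg (algebraMap R A) hcb
      rw [map_add, map_mul, map_mul, h3, mul_zero, add_zero, map_one] at this
      exact this
    have ha : a = algebraMap R A (c * r₀) := by
      rw [map_mul, ← hrs]
      calc a = a * (algebraMap R A c * algebraMap R A s₀) := by rw [h1, mul_one]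
        _ = _ := by ring
    refine ⟨e * (c * r₀) + (1 - e) * r, ?_⟩
    refine Prod.ext ?_ ?_
    · show algebraMap R A (e * (c * r₀) + (1 - e) * r) = a
      rw [map_add, map_mul, map_mul _ (1 - e), h3, h3', zero_mul, add_zero, one_mul, ← ha]
    · show Ideal.Quotient.mk (Ideal.span {e}) (e * (c * r₀) + (1 - e) * r) =
        Ideal.Quotient.mk (Ideal.span {e}) r
      rw [Ideal.Quotient.eq]
      have : e * (c * r₀) + (1 - e) * r - r = e * (c * r₀ - r) := by ring
      rw [this]
      exact Ideal.mul_mem_right _ _ (Ideal.subset_span rfl)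
  exact ⟨R ⧸ Ideal.span {e}, inferInstance, RingEquiv.ofBijective Φ ⟨hinj, hsurj⟩, fun x => rfl⟩

end Groth.Agent.Helper1.LocProd
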