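import Mathlib

namespace Groth.Agent.Helper1.LocSub

universe u

open IsLocalRing

variable {R : Type u} [Field R]

/-- The center of a local subring `Q` on a subring `A ≤ Q`. -/
noncomputable abbrev center (Q : LocalSubring R) (A : Subring R) (hA : A ≤ Q.toSubring) : Ideal A :=
  (maximalIdeal Q.toSubring).comap (Subring.inclusion hA)

theorem ofPrime_congr (A : Subring R) {P P' : Ideal A} [P.IsPrime] [P'.IsPrime] (h : P = P') :
    LocalSubring.ofPrime A P = LocalSubring.ofPrime A P' := by
  subst h; rfl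

theorem mem_ofPrime_iff (A : Subring R) (P : Ideal A) [P.IsPrime] (x : R) :
    x ∈ (LocalSubring.ofPrime A P).toSubring ↔ ∃ a s : A, s ∉ P ∧ x * s = a := by
  constructor
  · intro hx
    obtain ⟨a, s, hs⟩ := IsLocalization.exists_mk'_eq P.primeCompl
      (⟨x, hx⟩ : (LocalSubring.ofPrime A P).toSubring)
    refine ⟨a, s.1, s.2, ?_⟩
    have := IsLocalization.mk'_spec (LocalSubring.ofPrime A P).toSubring a s
    rw [hs] at this
    exact congrArg Subtype.val this
  · rintro ⟨a, s, hs, h⟩
    have h1 := IsLocalization.mk'_spec (LocalSubring.ofPrime A P).toSubring a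
      (⟨s, hs⟩ : P.primeCompl)
    have h2 := congrArg Subtype.val h1
    have hs0 : (s : R) ≠ 0 := by
      intro h0
      apply hs
      have : s = 0 := Subtype.ext h0
      rw [this]; exact P.zero_mem
    have h3 : x = ((IsLocalization.mk' (LocalSubring.ofPrime A P).toSubring a
        (⟨s, hs⟩ : P.primeCompl) : (LocalSubring.ofPrime A P).toSubring) : R) := by
      apply mul_right_cancel₀ hs0
      rw [h]
      exact h2.symm
    rw [h3]
    exact Subtype.property _

theorem coe_algebraMap_ofPrime (A : Subring R) (P : Ideal A) [P.IsPrime] (a : A) :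
    ((algebraMap A (LocalSubring.ofPrime A P).toSubring a : (LocalSubring.ofPrime A P).toSubring) : R)
      = a := rfl

/-- `a ∈ A` lies in the maximal ideal of `A_P` iff `a ∈ P`. -/
theorem center_ofPrime (A : Subring R) (P : Ideal A) [P.IsPrime]
    (hA : A ≤ (LocalSubring.ofPrime A P).toSubring) :
    center (LocalSubring.ofPrime A P) A hA = P := by
  ext a
  rw [Ideal.mem_comap]
  exact IsLocalization.AtPrime.to_map_mem_maximal_iff (LocalSubring.ofPrime A P).toSubring P a

theorem mem_maximalIdeal_iff (Q : LocalSubring R) (x : Q.toSubring) :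
    x ∈ maximalIdeal Q.toSubring ↔ ¬ ((x : R)⁻¹ ∈ Q.toSubring ∧ (x : R) ≠ 0) := by
  rw [mem_maximalIdeal, mem_nonunits_iff, not_iff_not]
  constructor
  · intro hu
    obtain ⟨u, rfl⟩ := hu
    have h1 : ((u : Q.toSubring) : R) * ((u⁻¹ : (Q.toSubring)ˣ) : Q.toSubring) = 1 := by
      rw [← Subring.coe_mul, Units.mul_inv, Subring.coe_one]
    have hne : ((u : Q.toSubring) : R) ≠ 0 := left_ne_zero_of_mul_eq_one h1
    refine ⟨?_, hne⟩
    have : (((u : Q.toSubring) : R))⁻¹ = ((u⁻¹ : (Q.toSubring)ˣ) : Q.toSubring) :=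
      inv_eq_of_mul_eq_one_right h1
    rw [this]
    exact Subtype.property _
  · rintro ⟨hinv, hne⟩
    refine ⟨⟨x, ⟨_, hinv⟩, ?_, ?_⟩, rfl⟩
    · apply Subtype.ext; simp [mul_inv_cancel₀ hne]
    · apply Subtype.ext; simp [inv_mul_cancel₀ hne]

/-- `A_P ≤ Q` where `P` is the center of `Q` on `A`. -/
theorem ofPrime_center_le (Q : LocalSubring R) (A : Subring R) (hA : A ≤ Q.toSubring) :
    LocalSubring.ofPrime A (center Q A hA) ≤ Q := by
  have hsub : (LocalSubring.ofPrime A (center Q A hA)).toSubring ≤ Q.toSubring := by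
    intro x hx
    obtain ⟨a, s, hs, h⟩ := (mem_ofPrime_iff A _ x).mp hx
    have hs' : ¬ Subring.inclusion hA s ∈ maximalIdeal Q.toSubring := hs
    rw [mem_maximalIdeal_iff, not_not] at hs'
    obtain ⟨hinv, hne⟩ := hs'
    have hx' : x = (a : R) * ((s : R))⁻¹ := by
      have hne' : (s : R) ≠ 0 := hne
      rw [← h, mul_assoc, mul_inv_cancel₀ hne', mul_one]
    rw [hx']
    exact Q.toSubring.mul_mem (hA a.2) hinv
  refine ⟨hsub, ⟨fun z hz => ?_⟩⟩
  obtain ⟨a, s, hzs⟩ := IsLocalization.exists_mk'_eq (center Q A hA).primeCompl z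
  rw [← hzs, IsLocalization.AtPrime.isUnit_mk'_iff (LocalSubring.ofPrime A (center Q A hA)).toSubring
    (center Q A hA)]
  intro ha
  -- a ∈ center, so a ∈ m_Q, so z = a / s ∈ m_Q, contradiction
  have ha' : Subring.inclusion hA a ∈ maximalIdeal Q.toSubring := ha
  have hspec := IsLocalization.mk'_spec (LocalSubring.ofPrime A (center Q A hA)).toSubring a s
  rw [hzs] at hspec
  have h2 : Subring.inclusion hsub z * Subring.inclusion hA s.1 = Subring.inclusion hA a := by
    apply Subtype.ext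
    have h5 := congrArg Subtype.val hspec
    exact h5
  have h3 : Subring.inclusion hsub z * Subring.inclusion hA s.1 ∈ maximalIdeal Q.toSubring := by
    rw [h2]; exact ha'
  have h4 : IsUnit (Subring.inclusion hsub z * Subring.inclusion hA s.1) := by
    refine hz.mul ?_
    have hs : ¬ Subring.inclusion hA s.1 ∈ maximalIdeal Q.toSubring := s.2
    rwa [mem_maximalIdeal, mem_nonunits_iff, not_not] at hs
  exact (mem_nonunits_iff.mp ((mem_maximalIdeal _).mp h3)) h4

/-- If `A_P ≤ Q` then `A ≤ Q` and the center of `Q` on `A` is `P`. -/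
theorem center_eq_of_ofPrime_le (Q : LocalSubring R) (A : Subring R) (P : Ideal A) [P.IsPrime]
    (h : LocalSubring.ofPrime A P ≤ Q) (hA : A ≤ Q.toSubring) : center Q A hA = P := by
  obtain ⟨hsub, hloc⟩ := h
  ext a
  rw [Ideal.mem_comap]
  have key : Subring.inclusion hA a =
      Subring.inclusion hsub (algebraMap A (LocalSubring.ofPrime A P).toSubring a) := rfl
  rw [key]
  constructor
  · intro hm
    by_contra haP
    have hu : IsUnit (algebraMap A (LocalSubring.ofPrime A P).toSubring a) :=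
      (IsLocalization.AtPrime.isUnit_to_map_iff _ P a).mpr haP
    have hu' := hu.map (Subring.inclusion hsub)
    exact (mem_nonunits_iff.mp ((mem_maximalIdeal _).mp hm)) hu'
  · intro haP
    rw [mem_maximalIdeal, mem_nonunits_iff]
    intro hu
    have hu' := hloc.map_nonunit _ hu
    exact ((IsLocalization.AtPrime.isUnit_to_map_iff _ P a).mp hu') haP

theorem le_of_ofPrime_le (Q : LocalSubring R) (A : Subring R) (P : Ideal A) [P.IsPrime]
    (h : LocalSubring.ofPrime A P ≤ Q) : A ≤ Q.toSubring :=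
  le_trans (LocalSubring.le_ofPrime A P) h.1

theorem isUnit_iff_inv_mem (S : Subring R) (x : S) :
    IsUnit x ↔ ((x : R)⁻¹ ∈ S ∧ (x : R) ≠ 0) := by
  constructor
  · intro hu
    obtain ⟨u, rfl⟩ := hu
    have h1 : ((u : S) : R) * ((u⁻¹ : Sˣ) : S) = 1 := by
      rw [← Subring.coe_mul, Units.mul_inv, Subring.coe_one]
    have hne : ((u : S) : R) ≠ 0 := left_ne_zero_of_mul_eq_one h1
    refine ⟨?_, hne⟩
    have : (((u : S) : R))⁻¹ = ((u⁻¹ : Sˣ) : S) := inv_eq_of_mul_eq_one_right h1
    rw [this]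
    exact Subtype.property _
  · rintro ⟨hinv, hne⟩
    refine ⟨⟨x, ⟨_, hinv⟩, ?_, ?_⟩, rfl⟩
    · apply Subtype.ext; simp [mul_inv_cancel₀ hne]
    · apply Subtype.ext; simp [inv_mul_cancel₀ hne]

theorem center_comap (Q : LocalSubring R) {A C : Subring R} (hAC : A ≤ C) (hC : C ≤ Q.toSubring)
    (hA : A ≤ Q.toSubring) :
    center Q A hA = (center Q C hC).comap (Subring.inclusion hAC) := by
  ext a
  exact Iff.rfl

theorem center_ofPrime_sub {A C : Subring R} (hAC : A ≤ C) (r : Ideal C) [r.IsPrime]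
    (hA : A ≤ (LocalSubring.ofPrime C r).toSubring) :
    center (LocalSubring.ofPrime C r) A hA = r.comap (Subring.inclusion hAC) := by
  rw [center_comap (LocalSubring.ofPrime C r) hAC (LocalSubring.le_ofPrime C r) hA,
    center_ofPrime]

/-- `A_{r ∩ A} ≤ C_r` (domination). -/
theorem ofPrime_comap_le {A C : Subring R} (hAC : A ≤ C) (r : Ideal C) [r.IsPrime] :
    LocalSubring.ofPrime A (r.comap (Subring.inclusion hAC)) ≤ LocalSubring.ofPrime C r := by
  have hA : A ≤ (LocalSubring.ofPrime C r).toSubring := hAC.trans (LocalSubring.le_ofPrime C r)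
  have h := ofPrime_center_le (LocalSubring.ofPrime C r) A hA
  rwa [ofPrime_congr A (center_ofPrime_sub hAC r hA)] at h

/-- If `C ≤ A_p` where `p = r ∩ A`, then `A_p = C_r`. -/
theorem ofPrime_comap_eq {A C : Subring R} (hAC : A ≤ C) (r : Ideal C) [r.IsPrime]
    (hC : C ≤ (LocalSubring.ofPrime A (r.comap (Subring.inclusion hAC))).toSubring) :
    LocalSubring.ofPrime A (r.comap (Subring.inclusion hAC)) = LocalSubring.ofPrime C r := by
  have hDE := ofPrime_comap_le hAC r
  apply LocalSubring.toSubring_injective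
  refine le_antisymm hDE.1 ?_
  intro x hx
  obtain ⟨c, s, hs, h⟩ := (mem_ofPrime_iff C r x).mp hx
  set D := LocalSubring.ofPrime A (r.comap (Subring.inclusion hAC)) with hD
  have hloc := hDE.2
  have hu : IsUnit (algebraMap C (LocalSubring.ofPrime C r).toSubring s) :=
    (IsLocalization.AtPrime.isUnit_to_map_iff _ r s).mpr hs
  have hu' : IsUnit (Subring.inclusion hDE.1 ⟨(s : R), hC s.2⟩) := by
    convert hu using 1
    exact Subtype.ext rfl
  have hu2 : IsUnit (⟨(s : R), hC s.2⟩ : D.toSubring) := hloc.map_nonunit _ hu'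
  obtain ⟨hinv, hne⟩ := (isUnit_iff_inv_mem D.toSubring _).mp hu2
  have hx' : x = (c : R) * ((s : R))⁻¹ := by
    have hne' : (s : R) ≠ 0 := hne
    rw [← h, mul_assoc, mul_inv_cancel₀ hne', mul_one]
  rw [hx']
  exact D.toSubring.mul_mem (hC c.2) hinv

theorem tfae (A B : Subring R) :
    [ ∀ (Q : LocalSubring R) (hA : A ≤ Q.toSubring) (hB : B ≤ Q.toSubring),
        LocalSubring.ofPrime A ((IsLocalRing.maximalIdeal Q.toSubring).comap (Subring.inclusion hA)) =
          LocalSubring.ofPrime B ((IsLocalRing.maximalIdeal Q.toSubring).comap (Subring.inclusion hB)),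
      ∀ r : PrimeSpectrum ↥(A ⊔ B),
        LocalSubring.ofPrime A (r.asIdeal.comap (Subring.inclusion (le_sup_left : A ≤ A ⊔ B))) =
          LocalSubring.ofPrime B (r.asIdeal.comap (Subring.inclusion (le_sup_right : B ≤ A ⊔ B))),
      ∀ (p : PrimeSpectrum A) (q : PrimeSpectrum B),
        (∃ Q : LocalSubring R, LocalSubring.ofPrime A p.asIdeal ≤ Q ∧ LocalSubring.ofPrime B q.asIdeal ≤ Q) →
          LocalSubring.ofPrime A p.asIdeal = LocalSubring.ofPrime B q.asIdeal,
      Set.range (fun p : PrimeSpectrum A ↦ LocalSubring.ofPrime A p.asIdeal) ∩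
          Set.range (fun q : PrimeSpectrum B ↦ LocalSubring.ofPrime B q.asIdeal) =
        Set.range (fun r : PrimeSpectrum ↥(A ⊔ B) ↦ LocalSubring.ofPrime (A ⊔ B) r.asIdeal) ].TFAE := by
  have hAC : A ≤ A ⊔ B := le_sup_left
  have hBC : B ≤ A ⊔ B := le_sup_right
  tfae_have 1 → 2 := by
    intro H r
    have hA : A ≤ (LocalSubring.ofPrime (A ⊔ B) r.asIdeal).toSubring :=
      hAC.trans (LocalSubring.le_ofPrime _ _)
    have hB : B ≤ (LocalSubring.ofPrime (A ⊔ B) r.asIdeal).toSubring :=
      hBC.trans (LocalSubring.le_ofPrime _ _)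
    have h := H _ hA hB
    exact (ofPrime_congr A (center_ofPrime_sub hAC r.asIdeal hA)).symm.trans
      (h.trans (ofPrime_congr B (center_ofPrime_sub hBC r.asIdeal hB)))
  tfae_have 2 → 1 := by
    intro H Q hA hB
    have hC : A ⊔ B ≤ Q.toSubring := sup_le hA hB
    have h := H ⟨center Q (A ⊔ B) hC, inferInstance⟩
    exact (ofPrime_congr A (center_comap Q hAC hC hA)).trans
      (h.trans (ofPrime_congr B (center_comap Q hBC hC hB)).symm)
  tfae_have 1 → 3 := by
    rintro H p q ⟨Q, hp, hq⟩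
    have hA := le_of_ofPrime_le Q A p.asIdeal hp
    have hB := le_of_ofPrime_le Q B q.asIdeal hq
    have h := H Q hA hB
    exact (ofPrime_congr A (center_eq_of_ofPrime_le Q A p.asIdeal hp hA)).symm.trans
      (h.trans (ofPrime_congr B (center_eq_of_ofPrime_le Q B q.asIdeal hq hB)))
  tfae_have 3 → 1 := by
    intro H Q hA hB
    exact H ⟨center Q A hA, inferInstance⟩ ⟨center Q B hB, inferInstance⟩
      ⟨Q, ofPrime_center_le Q A hA, ofPrime_center_le Q B hB⟩
  tfae_have 2 → 4 := by
    intro H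
    ext X
    constructor
    · rintro ⟨⟨p, rfl⟩, ⟨q, hq⟩⟩
      have hA : A ≤ (LocalSubring.ofPrime A p.asIdeal).toSubring := LocalSubring.le_ofPrime _ _
      have hB : B ≤ (LocalSubring.ofPrime A p.asIdeal).toSubring :=
        le_of_ofPrime_le _ B q.asIdeal (le_of_eq hq)
      have hC : A ⊔ B ≤ (LocalSubring.ofPrime A p.asIdeal).toSubring := sup_le hA hB
      refine ⟨⟨center _ (A ⊔ B) hC, inferInstance⟩, ?_⟩
      have hp : (center (LocalSubring.ofPrime A p.asIdeal) (A ⊔ B) hC).comap
          (Subring.inclusion hAC) = p.asIdeal := by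
        rw [← center_comap _ hAC hC hA, center_ofPrime]
      have hC' : A ⊔ B ≤ (LocalSubring.ofPrime A ((center (LocalSubring.ofPrime A p.asIdeal)
          (A ⊔ B) hC).comap (Subring.inclusion hAC))).toSubring := by
        rw [ofPrime_congr A hp]; exact hC
      have := ofPrime_comap_eq hAC (center (LocalSubring.ofPrime A p.asIdeal) (A ⊔ B) hC) hC'
      exact this.symm.trans (ofPrime_congr A hp)
    · rintro ⟨r, rfl⟩
      have hB : B ≤ (LocalSubring.ofPrime A (r.asIdeal.comap (Subring.inclusion hAC))).toSubring := by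
        rw [H r]; exact LocalSubring.le_ofPrime _ _
      have hC : A ⊔ B ≤ (LocalSubring.ofPrime A
          (r.asIdeal.comap (Subring.inclusion hAC))).toSubring :=
        sup_le (LocalSubring.le_ofPrime _ _) hB
      have h1 := ofPrime_comap_eq hAC r.asIdeal hC
      exact ⟨⟨⟨r.asIdeal.comap (Subring.inclusion hAC), inferInstance⟩, h1⟩,
        ⟨⟨r.asIdeal.comap (Subring.inclusion hBC), inferInstance⟩, (H r).symm.trans h1⟩⟩
  tfae_have 4 → 2 := by
    intro H r
    have hmem : LocalSubring.ofPrime (A ⊔ B) r.asIdeal ∈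
        Set.range (fun r : PrimeSpectrum ↥(A ⊔ B) ↦ LocalSubring.ofPrime (A ⊔ B) r.asIdeal) :=
      ⟨r, rfl⟩
    rw [← H] at hmem
    obtain ⟨⟨p, hp⟩, ⟨q, hq⟩⟩ := hmem
    have hA : A ≤ (LocalSubring.ofPrime (A ⊔ B) r.asIdeal).toSubring :=
      hAC.trans (LocalSubring.le_ofPrime _ _)
    have hB : B ≤ (LocalSubring.ofPrime (A ⊔ B) r.asIdeal).toSubring :=
      hBC.trans (LocalSubring.le_ofPrime _ _)
    have h1 : r.asIdeal.comap (Subring.inclusion hAC) = p.asIdeal := by
      rw [← center_ofPrime_sub hAC r.asIdeal hA]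
      exact center_eq_of_ofPrime_le _ A p.asIdeal (le_of_eq hp) hA
    have h2 : r.asIdeal.comap (Subring.inclusion hBC) = q.asIdeal := by
      rw [← center_ofPrime_sub hBC r.asIdeal hB]
      exact center_eq_of_ofPrime_le _ B q.asIdeal (le_of_eq hq) hB
    exact (ofPrime_congr A h1).trans (hp.trans (hq.symm.trans (ofPrime_congr B h2).symm))
  tfae_finish

end Groth.Agent.Helper1.LocSub
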