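import Groth.Prelude.Def_Found
import Groth.Prelude.Def_CAlgX
import Mathlib

/-! Helper lemmas about Mittag-Leffler modules in the sense of `CAlg.IsMittagLeffler` (helper1). -/

namespace Groth.Agent.Helper1.ML

open TensorProduct

universe u

variable {R : Type u} [CommRing R]

/-- Naturality of `piRightHom` in the module variable. -/
theorem piRightHom_natural {M₁ M₂ : Type u} [AddCommGroup M₁] [Module R M₁] [AddCommGroup M₂]
    [Module R M₂] (f : M₁ →ₗ[R] M₂) {ι : Type u} (Q : ι → Type u) [∀ i, AddCommGroup (Q i)]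
    [∀ i, Module R (Q i)] (x : M₁ ⊗[R] (∀ i, Q i)) (i : ι) :
    (TensorProduct.piRightHom R R M₂ Q) (f.rTensor (∀ i, Q i) x) i =
      (f.rTensor (Q i)) ((TensorProduct.piRightHom R R M₁ Q) x i) := by
  induction x using TensorProduct.induction_on with
  | zero => simp
  | tmul m q => simp
  | add x y hx hy => simp only [map_add, Pi.add_apply, hx, hy]

theorem of_univInj {M₁ M₂ : Type u} [AddCommGroup M₁] [Module R M₁] [AddCommGroup M₂]
    [Module R M₂] (f : M₁ →ₗ[R] M₂) (hf : CAlgX.UniversallyInjective R f)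
    (h₂ : CAlg.IsMittagLeffler R M₂) : CAlg.IsMittagLeffler R M₁ := by
  intro ι Q _ _
  rw [injective_iff_map_eq_zero]
  intro x hx
  apply hf (∀ i, Q i)
  apply h₂ ι Q
  rw [map_zero, map_zero]
  funext i
  rw [piRightHom_natural, hx]
  simp

theorem of_univExact {M₁ M₂ M₃ : Type u}
    [AddCommGroup M₁] [Module R M₁] [AddCommGroup M₂] [Module R M₂] [AddCommGroup M₃] [Module R M₃]
    (f : M₁ →ₗ[R] M₂) (g : M₂ →ₗ[R] M₃) (hf : CAlgX.UniversallyInjective R f)
    (hg : Function.Surjective g) (hfg : Function.Exact f g)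
    (h₁ : CAlg.IsMittagLeffler R M₁) (h₃ : CAlg.IsMittagLeffler R M₃) :
    CAlg.IsMittagLeffler R M₂ := by
  intro ι Q _ _
  rw [injective_iff_map_eq_zero]
  intro x hx
  -- image of x in M₃ ⊗ ∏ Q is zero
  have h3 : (g.rTensor (∀ i, Q i)) x = 0 := by
    apply h₃ ι Q
    rw [map_zero]
    funext i
    rw [piRightHom_natural, hx]
    simp
  obtain ⟨w, rfl⟩ := (rTensor_exact (∀ i, Q i) hfg hg x).mp h3
  have hw : w = 0 := by
    apply h₁ ι Q
    rw [map_zero]
    funext i
    apply hf (Q i)
    rw [← piRightHom_natural, hx]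
    simp
  rw [hw, map_zero]

/-- Elements of `N ⊗ P` can be written using a fixed finite generating family of `N`. -/
theorem exists_sum_tmul {N : Type u} [AddCommGroup N] [Module R N] {n : ℕ} (s : Fin n → N)
    (hs : Submodule.span R (Set.range s) = ⊤) {P : Type u} [AddCommGroup P] [Module R P]
    (t : N ⊗[R] P) : ∃ p : Fin n → P, t = ∑ k, s k ⊗ₜ[R] p k := by
  induction t using TensorProduct.induction_on with
  | zero => exact ⟨0, by simp⟩
  | tmul m q =>
    have hm : m ∈ Submodule.span R (Set.range s) := by rw [hs]; trivial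
    obtain ⟨c, rfl⟩ := (Submodule.mem_span_range_iff_exists_fun R).mp hm
    refine ⟨fun k => c k • q, ?_⟩
    rw [TensorProduct.sum_tmul]
    refine Finset.sum_congr rfl (fun k _ => ?_)
    rw [TensorProduct.smul_tmul]
  | add x y hx hy =>
    obtain ⟨p, rfl⟩ := hx
    obtain ⟨q, rfl⟩ := hy
    refine ⟨p + q, ?_⟩
    rw [← Finset.sum_add_distrib]
    refine Finset.sum_congr rfl (fun k _ => ?_)
    rw [Pi.add_apply, TensorProduct.tmul_add]

theorem piRightHom_surjective_of_finite {N : Type u} [AddCommGroup N] [Module R N]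
    [Module.Finite R N] {ι : Type u} (Q : ι → Type u) [∀ i, AddCommGroup (Q i)]
    [∀ i, Module R (Q i)] : Function.Surjective (TensorProduct.piRightHom R R N Q) := by
  obtain ⟨n, s, hs⟩ := Module.Finite.exists_fin (R := R) (M := N)
  intro z
  choose p hp using fun i => exists_sum_tmul s hs (z i)
  refine ⟨∑ k, s k ⊗ₜ[R] (fun i => p i k), ?_⟩
  funext i
  rw [map_sum, Finset.sum_apply, hp i]
  refine Finset.sum_congr rfl (fun k _ => ?_)
  rw [TensorProduct.piRightHom_tmul]

theorem quotient_fg {M : Type u} [AddCommGroup M] [Module R M]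
    (N : Submodule R M) (hN : N.FG) (hM : CAlg.IsMittagLeffler R M) :
    CAlg.IsMittagLeffler R (M ⧸ N) := by
  have : Module.Finite R N := Module.Finite.iff_fg.mpr hN
  intro ι Q _ _
  rw [injective_iff_map_eq_zero]
  intro x hx
  obtain ⟨y, rfl⟩ := LinearMap.rTensor_surjective (∀ i, Q i) N.mkQ_surjective x
  have hex : Function.Exact N.subtype N.mkQ := LinearMap.exact_subtype_mkQ N
  have hz : ∀ i, ∃ z : N ⊗[R] Q i,
      (N.subtype.rTensor (Q i)) z = TensorProduct.piRightHom R R M Q y i := by
    intro i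
    apply (rTensor_exact (Q i) hex N.mkQ_surjective _).mp
    rw [← piRightHom_natural, hx]
    simp
  choose z hz using hz
  obtain ⟨w, hw⟩ := piRightHom_surjective_of_finite Q z
  have hy : y = (N.subtype.rTensor (∀ i, Q i)) w := by
    apply hM ι Q
    funext i
    rw [piRightHom_natural, hw, hz]
  rw [hy, ← LinearMap.comp_apply, ← LinearMap.rTensor_comp, hex.linearMap_comp_eq_zero,
    LinearMap.rTensor_zero, LinearMap.zero_apply]

end Groth.Agent.Helper1.ML
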