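import Mathlib
import Groth.Prelude.Def_Found
import Groth.Prelude.Def_CAlgX
import Groth.Agent.Lib.Helper1.ML
set_option autoImplicit false
open TensorProduct
universe u
namespace Groth.Agent.Helper1.ML2

variable {R : Type u} [CommRing R]

/-- Elements of `M ⊗ L` can be written using a fixed finite generating family of `L`. -/
theorem exists_sum_tmul_right {M : Type u} [AddCommGroup M] [Module R M]
    {L : Type u} [AddCommGroup L] [Module R L] {n : ℕ} (s : Fin n → L)
    (hs : Submodule.span R (Set.range s) = ⊤) (t : M ⊗[R] L) :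
    ∃ p : Fin n → M, t = ∑ k, p k ⊗ₜ[R] s k := by
  obtain ⟨p, hp⟩ := ML.exists_sum_tmul s hs (TensorProduct.comm R M L t)
  refine ⟨p, ?_⟩
  apply (TensorProduct.comm R M L).injective
  rw [hp, map_sum]
  simp

/-- Purity: finite linear systems with constants in `M₁` solvable in `M₂` are solvable in `M₁`. -/
theorem pure_solve {M₁ M₂ : Type u} [AddCommGroup M₁] [Module R M₁] [AddCommGroup M₂] [Module R M₂]
    (f : M₁ →ₗ[R] M₂) (hf : CAlgX.UniversallyInjective R f) {m n : ℕ}
    (A : Fin m → Fin n → R) (t : Fin m → M₁) (x : Fin n → M₂)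
    (hx : ∀ j, ∑ i, A j i • x i = f (t j)) :
    ∃ r : Fin n → M₁, ∀ j, ∑ i, A j i • r i = t j := by
  classical
  -- columns
  let c : Fin n → (Fin m → R) := fun i j => A j i
  let L : Submodule R (Fin m → R) := Submodule.span R (Set.range c)
  let Q := (Fin m → R) ⧸ L
  let T₁ : M₁ ⊗[R] (Fin m → R) := ∑ j, t j ⊗ₜ[R] (Pi.single j (1 : R))
  have h0 : (f.rTensor Q) ((L.mkQ.lTensor M₁) T₁) = 0 := by
    have e1 : (f.rTensor Q) ((L.mkQ.lTensor M₁) T₁) =
        (L.mkQ.lTensor M₂) (∑ j, f (t j) ⊗ₜ[R] (Pi.single j (1 : R))) := by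
      simp only [T₁, map_sum, LinearMap.lTensor_tmul, LinearMap.rTensor_tmul]
    have e2 : (∑ j, f (t j) ⊗ₜ[R] (Pi.single j (1 : R)) : M₂ ⊗[R] (Fin m → R)) =
        ∑ i, x i ⊗ₜ[R] c i := by
      simp_rw [← hx, TensorProduct.sum_tmul, TensorProduct.smul_tmul]
      rw [Finset.sum_comm]
      refine Finset.sum_congr rfl (fun i _ => ?_)
      rw [← TensorProduct.tmul_sum]
      congr 1
      funext j
      simp [c, Finset.sum_apply, Pi.single_apply]
    rw [e1, e2, map_sum]
    refine Finset.sum_eq_zero (fun i _ => ?_)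
    rw [LinearMap.lTensor_tmul]
    have : L.mkQ (c i) = 0 := by
      rw [Submodule.mkQ_apply, Submodule.Quotient.mk_eq_zero]
      exact Submodule.subset_span ⟨i, rfl⟩
    rw [this, TensorProduct.tmul_zero]
  have h1 : (L.mkQ.lTensor M₁) T₁ = 0 := by
    apply hf Q
    rw [h0, map_zero]
  obtain ⟨w, hw⟩ := (lTensor_exact M₁ (LinearMap.exact_subtype_mkQ L) L.mkQ_surjective T₁).mp h1
  -- generators of L
  let c' : Fin n → L := fun i => ⟨c i, Submodule.subset_span ⟨i, rfl⟩⟩
  have hc' : Submodule.span R (Set.range c') = ⊤ := by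
    rw [eq_top_iff]
    rintro ⟨v, hv⟩ -
    induction hv using Submodule.span_induction with
    | mem v hv' =>
      obtain ⟨i, rfl⟩ := hv'
      exact Submodule.subset_span ⟨i, rfl⟩
    | zero => exact Submodule.zero_mem _
    | add a b ha hb iha ihb => exact Submodule.add_mem _ iha ihb
    | smul r a ha iha => exact Submodule.smul_mem _ r iha
  obtain ⟨r, hr⟩ := exists_sum_tmul_right c' hc' w
  refine ⟨r, fun j => ?_⟩
  have e3 : T₁ = ∑ i, r i ⊗ₜ[R] c i := by
    rw [← hw, hr, map_sum]
    simp [c']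
  have e4 := congrArg (fun z => TensorProduct.piScalarRightHom R R M₁ (Fin m) z j) e3
  simp only [T₁, map_sum, TensorProduct.piScalarRightHom_tmul, Finset.sum_apply] at e4
  simp only [Pi.single_apply, ite_smul, one_smul, zero_smul, Finset.sum_ite_eq,
    Finset.mem_univ, if_true] at e4
  rw [e4]

/-- A universally exact sequence with finitely presented cokernel splits. -/
theorem exists_section_of_univInj {M₁ M₂ M₃ : Type u} [AddCommGroup M₁] [Module R M₁]
    [AddCommGroup M₂] [Module R M₂] [AddCommGroup M₃] [Module R M₃]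
    [Module.FinitePresentation R M₃] (f : M₁ →ₗ[R] M₂) (g : M₂ →ₗ[R] M₃)
    (hexact : Function.Exact f g) (hg : Function.Surjective g)
    (hf : CAlgX.UniversallyInjective R f) : ∃ s : M₃ →ₗ[R] M₂, g.comp s = LinearMap.id := by
  classical
  obtain ⟨n, m, π, A', hπ, hex⟩ := Module.FinitePresentation.exists_fin' R M₃
  let bn := Pi.basisFun R (Fin n)
  let bm := Pi.basisFun R (Fin m)
  choose y hy using fun i : Fin n => hg (π (bn i))
  let σ₀ : (Fin n → R) →ₗ[R] M₂ := bn.constr R y
  have hσ₀ : g ∘ₗ σ₀ = π := by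
    apply bn.ext
    intro i
    simp [σ₀, hy]
  let A : Fin m → Fin n → R := fun j i => A' (bm j) i
  have hσ₀A : ∀ j, σ₀ (A' (bm j)) = ∑ i, A j i • y i := by
    intro j
    simp only [σ₀, Module.Basis.constr_apply_fintype, A]
    simp [bn]
  have ht : ∀ j, ∃ t : M₁, f t = σ₀ (A' (bm j)) := by
    intro j
    apply (hexact _).mp
    have : g (σ₀ (A' (bm j))) = π (A' (bm j)) := LinearMap.congr_fun hσ₀ _
    rw [this]
    exact hex.apply_apply_eq_zero _
  choose t ht using ht
  obtain ⟨r, hr⟩ := pure_solve f hf A t y (fun j => by rw [ht, hσ₀A])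
  let ρ : (Fin n → R) →ₗ[R] M₁ := bn.constr R r
  let σ : (Fin n → R) →ₗ[R] M₂ := σ₀ - f ∘ₗ ρ
  have hρA : ∀ j, ρ (A' (bm j)) = t j := by
    intro j
    rw [← hr j]
    simp only [ρ, Module.Basis.constr_apply_fintype, A]
    simp [bn]
  have hσA : σ ∘ₗ A' = 0 := by
    apply bm.ext
    intro j
    simp only [σ, LinearMap.comp_apply, LinearMap.sub_apply, LinearMap.zero_apply, hρA, ht, sub_self]
  have hker : LinearMap.ker π ≤ LinearMap.ker σ := by
    intro v hv
    obtain ⟨w, rfl⟩ := (hex v).mp hv
    exact LinearMap.congr_fun hσA w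
  let s : M₃ →ₗ[R] M₂ := (LinearMap.ker π).liftQ σ hker ∘ₗ (π.quotKerEquivOfSurjective hπ).symm.toLinearMap
  have hs : ∀ v, s (π v) = σ v := by
    intro v
    simp only [s, LinearMap.comp_apply, LinearEquiv.coe_coe]
    have : (π.quotKerEquivOfSurjective hπ).symm (π v) = (LinearMap.ker π).mkQ v := by
      rw [LinearEquiv.symm_apply_eq]
      simp
    rw [this]
    simp
  refine ⟨s, ?_⟩
  ext z
  obtain ⟨v, rfl⟩ := hπ z
  rw [LinearMap.comp_apply, hs]
  simp only [σ, LinearMap.sub_apply, map_sub, LinearMap.comp_apply, LinearMap.id_apply]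
  rw [hexact.apply_apply_eq_zero, sub_zero]
  exact LinearMap.congr_fun hσ₀ v

/-- Domination implies factorization when the cokernel is finitely presented. -/
theorem exists_factor_of_dominates {M N M' : Type u}
    [AddCommGroup M] [Module R M] [AddCommGroup N] [Module R N] [AddCommGroup M'] [Module R M']
    (f : M →ₗ[R] N) (g : M →ₗ[R] M') [Module.FinitePresentation R (N ⧸ LinearMap.range f)]
    (hdom : ∀ (Q : Type u) [AddCommGroup Q] [Module R Q],
      LinearMap.ker (f.rTensor Q) ≤ LinearMap.ker (g.rTensor Q)) :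
    ∃ h : N →ₗ[R] M', g = h ∘ₗ f := by
  -- pushout
  let ι : M →ₗ[R] N × M' := f.prod (-g)
  let K : Submodule R (N × M') := LinearMap.range ι
  let N' := (N × M') ⧸ K
  let f' : M' →ₗ[R] N' := K.mkQ ∘ₗ LinearMap.inr R N M'
  let g' : N →ₗ[R] N' := K.mkQ ∘ₗ LinearMap.inl R N M'
  have hsq : ∀ m, g' (f m) = f' (g m) := by
    intro m
    simp only [f', g', LinearMap.comp_apply, LinearMap.inl_apply, LinearMap.inr_apply]
    rw [← sub_eq_zero, ← map_sub, Submodule.mkQ_apply, Submodule.Quotient.mk_eq_zero]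
    refine ⟨m, ?_⟩
    simp [ι]
  -- f' universally injective
  have hf' : CAlgX.UniversallyInjective R f' := by
    intro Q _ _
    rw [injective_iff_map_eq_zero]
    intro z hz
    have hex : Function.Exact ι K.mkQ := by
      intro x
      rw [Submodule.mkQ_apply, Submodule.Quotient.mk_eq_zero]
      exact Iff.rfl
    have h1 : (K.mkQ.rTensor Q) ((LinearMap.inr R N M').rTensor Q z) = 0 := by
      rw [← LinearMap.comp_apply, ← LinearMap.rTensor_comp]
      exact hz
    obtain ⟨w, hw⟩ := (rTensor_exact Q hex K.mkQ_surjective _).mp h1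
    have h2 : (f.rTensor Q) w = 0 := by
      have := congrArg ((LinearMap.fst R N M').rTensor Q) hw
      rw [← LinearMap.comp_apply, ← LinearMap.rTensor_comp, ← LinearMap.comp_apply,
        ← LinearMap.rTensor_comp] at this
      have e1 : LinearMap.fst R N M' ∘ₗ ι = f := by ext; simp [ι]
      have e2 : LinearMap.fst R N M' ∘ₗ LinearMap.inr R N M' = 0 := by ext; simp
      rw [e1, e2, LinearMap.rTensor_zero, LinearMap.zero_apply] at this
      exact this
    have h3 : (g.rTensor Q) w = 0 := hdom Q h2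
    have := congrArg ((LinearMap.snd R N M').rTensor Q) hw
    rw [← LinearMap.comp_apply, ← LinearMap.rTensor_comp, ← LinearMap.comp_apply,
      ← LinearMap.rTensor_comp] at this
    have e1 : LinearMap.snd R N M' ∘ₗ ι = -g := by ext; simp [ι]
    have e2 : LinearMap.snd R N M' ∘ₗ LinearMap.inr R N M' = LinearMap.id := by ext; simp
    rw [e1, e2, LinearMap.rTensor_id, LinearMap.id_apply, LinearMap.rTensor_neg,
      LinearMap.neg_apply, h3, neg_zero] at this
    exact this.symm
  -- the cokernel map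
  let q₀ : N × M' →ₗ[R] N ⧸ LinearMap.range f := (LinearMap.range f).mkQ ∘ₗ LinearMap.fst R N M'
  have hq₀ : K ≤ LinearMap.ker q₀ := by
    rintro _ ⟨m, rfl⟩
    change (LinearMap.range f).mkQ (f m) = 0
    rw [Submodule.mkQ_apply, Submodule.Quotient.mk_eq_zero]
    exact ⟨m, rfl⟩
  let q' : N' →ₗ[R] N ⧸ LinearMap.range f := K.liftQ q₀ hq₀
  have hq'mk : ∀ x, q' (K.mkQ x) = (LinearMap.range f).mkQ x.1 := fun x => rfl
  have hq'surj : Function.Surjective q' := by
    intro c
    obtain ⟨n, rfl⟩ := (LinearMap.range f).mkQ_surjective c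
    exact ⟨K.mkQ (n, 0), hq'mk _⟩
  have hexact : Function.Exact f' q' := by
    intro x
    constructor
    · intro hx
      obtain ⟨⟨n, m'⟩, rfl⟩ := K.mkQ_surjective x
      have hn : n ∈ LinearMap.range f := by
        rw [hq'mk, Submodule.mkQ_apply, Submodule.Quotient.mk_eq_zero] at hx
        exact hx
      obtain ⟨m, rfl⟩ := hn
      refine ⟨m' + g m, ?_⟩
      simp only [f', LinearMap.comp_apply, LinearMap.inr_apply]
      rw [← sub_eq_zero, ← map_sub, Submodule.mkQ_apply, Submodule.Quotient.mk_eq_zero]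
      refine ⟨-m, ?_⟩
      simp [ι]
    · rintro ⟨m', rfl⟩
      change q' (K.mkQ (0, m')) = 0
      rw [hq'mk]
      simp
  obtain ⟨s, hs⟩ := exists_section_of_univInj f' q' hexact hq'surj hf'
  -- retraction of f'
  have hf'inj : Function.Injective f' := by
    have := hf' R
    intro a b hab
    have h1 : (f'.rTensor R) (a ⊗ₜ 1) = (f'.rTensor R) (b ⊗ₜ 1) := by simp [hab]
    have h2 := this h1
    have h3 := congrArg (TensorProduct.rid R M') h2
    simpa using h3
  have hmem : ∀ x : N', x - s (q' x) ∈ LinearMap.range f' := by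
    intro x
    apply (hexact _).mp
    rw [map_sub]
    have : q' (s (q' x)) = q' x := LinearMap.congr_fun hs (q' x)
    rw [this, sub_self]
  let e := LinearEquiv.ofInjective f' hf'inj
  let ρ : N' →ₗ[R] M' := e.symm.toLinearMap ∘ₗ
    (LinearMap.codRestrict (LinearMap.range f') (LinearMap.id - s ∘ₗ q') hmem)
  have hρ : ∀ m', ρ (f' m') = m' := by
    intro m'
    simp only [ρ, LinearMap.comp_apply, LinearEquiv.coe_coe]
    rw [LinearEquiv.symm_apply_eq]
    apply Subtype.ext
    simp only [LinearMap.codRestrict_apply, LinearMap.sub_apply, LinearMap.id_apply,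
      LinearMap.comp_apply, e, LinearEquiv.ofInjective_apply]
    rw [hexact.apply_apply_eq_zero, map_zero, sub_zero]
  refine ⟨ρ ∘ₗ g', ?_⟩
  ext m
  rw [LinearMap.comp_apply, LinearMap.comp_apply, hsq, hρ]

section KL
variable {P M : Type u} [AddCommGroup P] [Module R P] [AddCommGroup M] [Module R M]

/-- A finitely presented factorization datum of `f : P → M` through `(P × R^s) / L`. -/
structure Fact (f : P →ₗ[R] M) : Type u where
  s : ℕ
  π : (Fin s → R) →ₗ[R] M
  L : Submodule R (P × (Fin s → R))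
  hL : L.FG
  hle : L ≤ LinearMap.ker (f.coprod π)

variable {f : P →ₗ[R] M}

/-- The middle module of a factorization. -/
abbrev Fact.Q (j : Fact f) : Type u := (P × (Fin j.s → R)) ⧸ j.L

/-- The first map of a factorization. -/
def Fact.g (j : Fact f) : P →ₗ[R] j.Q := j.L.mkQ ∘ₗ LinearMap.inl R P (Fin j.s → R)

/-- The second map of a factorization. -/
def Fact.h (j : Fact f) : j.Q →ₗ[R] M := j.L.liftQ (f.coprod j.π) j.hle

theorem Fact.h_comp_g (j : Fact f) : j.h ∘ₗ j.g = f := by
  ext p
  simp [Fact.h, Fact.g]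

theorem Fact.finitePresentation [Module.FinitePresentation R P] (j : Fact f) :
    Module.FinitePresentation R j.Q := by
  apply Module.finitePresentation_of_surjective j.L.mkQ j.L.mkQ_surjective
  rw [Submodule.ker_mkQ]
  exact j.hL

theorem Fact.ker_le (j : Fact f) (N : Type u) [AddCommGroup N] [Module R N] :
    LinearMap.ker (j.g.rTensor N) ≤ LinearMap.ker (f.rTensor N) := by
  intro x hx
  rw [LinearMap.mem_ker] at hx ⊢
  rw [← j.h_comp_g, LinearMap.rTensor_comp, LinearMap.comp_apply, hx, map_zero]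

/-- Key lemma: any element of the kernel of `f ⊗ N` is killed by some f.p. factorization. -/
theorem Fact.exists_kills [Module.Finite R P] (f : P →ₗ[R] M) (N : Type u) [AddCommGroup N]
    [Module R N] (y : P ⊗[R] N) (hy : (f.rTensor N) y = 0) :
    ∃ j : Fact f, (j.g.rTensor N) y = 0 := by
  classical
  -- the f.g. submodule range f
  have hP₀ : (LinearMap.range f).FG := by
    rw [LinearMap.range_eq_map]
    exact Module.Finite.fg_top.map f
  let t : (LinearMap.range f) ⊗[R] N := (f.rangeRestrict.rTensor N) y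
  have ht : ((LinearMap.range f).subtype.rTensor N) t = 0 := by
    simp only [t]
    rw [← LinearMap.comp_apply, ← LinearMap.rTensor_comp]
    have : (LinearMap.range f).subtype ∘ₗ f.rangeRestrict = f := by ext; rfl
    rw [this]
    exact hy
  obtain ⟨Q₀, hPQ, hQ₀, hzero⟩ := TensorProduct.eq_zero_of_fg_of_subtype_eq_zero hP₀ ht
  let f₁ : P →ₗ[R] Q₀ := Submodule.inclusion hPQ ∘ₗ f.rangeRestrict
  have hf₁ : (f₁.rTensor N) y = 0 := by
    simp only [f₁]
    rw [LinearMap.rTensor_comp, LinearMap.comp_apply]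
    exact hzero
  have hf₁f : Q₀.subtype ∘ₗ f₁ = f := by
    ext p
    simp [f₁]
  have : Module.Finite R Q₀ := Module.Finite.iff_fg.mpr hQ₀
  obtain ⟨s, π₀, hπ₀⟩ := Module.Finite.exists_fin' R Q₀
  let φ : P × (Fin s → R) →ₗ[R] Q₀ := f₁.coprod π₀
  have hφsurj : Function.Surjective φ := by
    intro q
    obtain ⟨v, rfl⟩ := hπ₀ q
    exact ⟨(0, v), by simp [φ]⟩
  let K₁ : Submodule R (P × (Fin s → R)) := LinearMap.ker φ
  have hex : Function.Exact K₁.subtype φ := by
    intro x
    constructor
    · intro hx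
      exact ⟨⟨x, hx⟩, rfl⟩
    · rintro ⟨k, rfl⟩
      exact k.2
  let z : (P × (Fin s → R)) ⊗[R] N := ((LinearMap.inl R P (Fin s → R)).rTensor N) y
  have hz : (φ.rTensor N) z = 0 := by
    simp only [z]
    rw [← LinearMap.comp_apply, ← LinearMap.rTensor_comp]
    have : φ ∘ₗ LinearMap.inl R P (Fin s → R) = f₁ := by ext; simp [φ]
    rw [this]
    exact hf₁
  obtain ⟨w, hw⟩ := (rTensor_exact N hex hφsurj z).mp hz
  obtain ⟨L₀, hL₀, w₀, hw₀⟩ := TensorProduct.exists_of_fg w
  let L : Submodule R (P × (Fin s → R)) := L₀.map K₁.subtype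
  have hLK : L ≤ K₁ := by
    rintro _ ⟨k, -, rfl⟩
    exact k.2
  have hker : LinearMap.ker (f.coprod (Q₀.subtype ∘ₗ π₀)) = K₁ := by
    have : f.coprod (Q₀.subtype ∘ₗ π₀) = Q₀.subtype ∘ₗ φ := by
      ext <;> simp [φ, ← hf₁f]
    rw [this, LinearMap.ker_comp, Submodule.ker_subtype, Submodule.comap_bot]
  let j : Fact f := ⟨s, Q₀.subtype ∘ₗ π₀, L, hL₀.map _, by rw [hker]; exact hLK⟩
  refine ⟨j, ?_⟩
  have e1 : (j.g.rTensor N) y = (L.mkQ.rTensor N) z := by
    simp only [z, Fact.g]
    rw [LinearMap.rTensor_comp, LinearMap.comp_apply]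
  rw [e1, ← hw, ← hw₀, ← LinearMap.comp_apply, ← LinearMap.comp_apply, ← LinearMap.rTensor_comp,
    ← LinearMap.rTensor_comp]
  have : (L.mkQ ∘ₗ K₁.subtype) ∘ₗ L₀.subtype = 0 := by
    ext l
    simp only [LinearMap.comp_apply, Submodule.subtype_apply, Submodule.mkQ_apply,
      LinearMap.zero_apply, Submodule.Quotient.mk_eq_zero]
    exact ⟨l.1, l.2, rfl⟩
  rw [this, LinearMap.rTensor_zero, LinearMap.zero_apply]

end KL

section KL2
variable {P M : Type u} [AddCommGroup P] [Module R P] [AddCommGroup M] [Module R M]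

theorem Fact.exists_dominating [Module.FinitePresentation R P] (f : P →ₗ[R] M)
    (hM : CAlg.IsMittagLeffler R M) :
    ∃ j : Fact f, ∀ (N : Type u) [AddCommGroup N] [Module R N],
      LinearMap.ker (f.rTensor N) ≤ LinearMap.ker (j.g.rTensor N) := by
  classical
  by_contra hcon
  have hcon' : ∀ j : Fact f, ∃ (N : Type u) (_ : AddCommGroup N) (_ : Module R N) (y : P ⊗[R] N),
      (f.rTensor N) y = 0 ∧ (j.g.rTensor N) y ≠ 0 := by
    intro j
    by_contra hj
    apply hcon
    refine ⟨j, fun N _ _ y hy => ?_⟩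
    by_contra hy'
    exact hj ⟨N, inferInstance, inferInstance, y, hy, hy'⟩
  choose N instA instM y hy1 hy2 using hcon'
  -- the product
  obtain ⟨Y, hY⟩ := ML.piRightHom_surjective_of_finite (N := P) N y
  have h0 : (f.rTensor (∀ j, N j)) Y = 0 := by
    apply hM (Fact f) N
    rw [map_zero]
    funext j
    rw [ML.piRightHom_natural, hY, hy1]
    rfl
  obtain ⟨j₀, hj₀⟩ := Fact.exists_kills f (∀ j, N j) Y h0
  apply hy2 j₀
  have := congrFun (congrArg (TensorProduct.piRightHom R R j₀.Q N) hj₀) j₀
  rw [ML.piRightHom_natural, hY] at this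
  rw [this]
  simp

end KL2

section FP

theorem univInj_of_equiv {M M' : Type u} [AddCommGroup M] [Module R M] [AddCommGroup M'] [Module R M']
    (e : M ≃ₗ[R] M') : CAlgX.UniversallyInjective R e.toLinearMap := by
  intro Q _ _
  exact (LinearEquiv.rTensor Q e).injective

theorem ml_of_equiv {M M' : Type u} [AddCommGroup M] [Module R M] [AddCommGroup M'] [Module R M']
    (e : M ≃ₗ[R] M') (h : CAlg.IsMittagLeffler R M') : CAlg.IsMittagLeffler R M :=
  ML.of_univInj e.toLinearMap (univInj_of_equiv e) h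

theorem ml_self : CAlg.IsMittagLeffler R R := by
  intro ι Q _ _
  rw [injective_iff_map_eq_zero]
  intro x hx
  have hx1 : x = (1 : R) ⊗ₜ[R] (TensorProduct.lid R (∀ i, Q i) x) := by
    rw [← TensorProduct.lid_symm_apply, LinearEquiv.symm_apply_apply]
  rw [hx1] at hx ⊢
  rw [TensorProduct.piRightHom_tmul] at hx
  have : TensorProduct.lid R (∀ i, Q i) x = 0 := by
    funext i
    have := congrArg (TensorProduct.lid R (Q i)) (congrFun hx i)
    simpa using this
  rw [this, TensorProduct.tmul_zero]

theorem ml_directSum {ι : Type u} (M : ι → Type u)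
    [∀ i, AddCommGroup (M i)] [∀ i, Module R (M i)] (h : ∀ i, CAlg.IsMittagLeffler R (M i)) :
    CAlg.IsMittagLeffler R (DirectSum ι M) := by
  classical
  intro κ Q _ _
  rw [injective_iff_map_eq_zero]
  intro x hx
  have hcomp : ∀ (N : Type u) [AddCommGroup N] [Module R N] (y : TensorProduct R (DirectSum ι M) N)
      (i : ι), TensorProduct.directSumLeft R R M N y i =
        ((DirectSum.component R ι M i).rTensor N) y := by
    intro N _ _ y i
    induction y using TensorProduct.induction_on with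
    | zero => simp
    | tmul m n =>
      rw [TensorProduct.directSumLeft_tmul, LinearMap.rTensor_tmul]
      rfl
    | add y z hy hz => simp only [map_add, DirectSum.add_apply, hy, hz]
  apply (TensorProduct.directSumLeft R R M (∀ k, Q k)).injective
  rw [map_zero]
  ext i
  rw [hcomp, DirectSum.zero_apply]
  apply h i κ Q
  rw [map_zero]
  funext k
  rw [ML.piRightHom_natural, hx]
  simp

theorem ml_fin_free (n : ℕ) : CAlg.IsMittagLeffler R (Fin n → R) := by
  classical
  have h1 : CAlg.IsMittagLeffler R (DirectSum (ULift.{u} (Fin n)) (fun _ => R)) :=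
    ml_directSum _ (fun _ => ml_self)
  have e : (Fin n → R) ≃ₗ[R] DirectSum (ULift.{u} (Fin n)) (fun _ => R) :=
    (LinearEquiv.funCongrLeft R R (Equiv.ulift)) ≪≫ₗ
      (DirectSum.linearEquivFunOnFintype R (ULift.{u} (Fin n)) (fun _ => R)).symm
  exact ml_of_equiv e h1

/-- finitely presented modules are Mittag-Leffler -/
theorem ml_of_finitePresentation (Q : Type u) [AddCommGroup Q] [Module R Q]
    [Module.FinitePresentation R Q] : CAlg.IsMittagLeffler R Q := by
  obtain ⟨n, K, e, hK⟩ := Module.FinitePresentation.exists_fin R Q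
  exact ml_of_equiv e (ML.quotient_fg K hK (ml_fin_free n))

end FP
section Crit
variable {M : Type u} [AddCommGroup M] [Module R M]

theorem exists_mutually_dominating (hM : CAlg.IsMittagLeffler R M)
    (P : Type u) [AddCommGroup P] [Module R P] [Module.FinitePresentation R P] (f : P →ₗ[R] M) :
    ∃ (Q : Type u) (_ : AddCommGroup Q) (_ : Module R Q) (_ : Module.FinitePresentation R Q)
      (g : P →ₗ[R] Q), ∀ (N : Type u) [AddCommGroup N] [Module R N],
        LinearMap.ker (f.rTensor N) = LinearMap.ker (g.rTensor N) := by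
  obtain ⟨j, hj⟩ := Fact.exists_dominating f hM
  exact ⟨j.Q, inferInstance, inferInstance, j.finitePresentation, j.g,
    fun N _ _ => le_antisymm (hj N) (j.ker_le N)⟩

/-- the criterion with finite free sources suffices -/
theorem ml_of_fin_free_dominating
    (h : ∀ (n : ℕ) (f : (Fin n → R) →ₗ[R] M),
        ∃ (Q : Type u) (_ : AddCommGroup Q) (_ : Module R Q) (_ : Module.FinitePresentation R Q)
          (g : (Fin n → R) →ₗ[R] Q),
          ∀ (N : Type u) [AddCommGroup N] [Module R N],
            LinearMap.ker (f.rTensor N) = LinearMap.ker (g.rTensor N)) :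
    CAlg.IsMittagLeffler R M := by
  classical
  intro ι Q _ _
  rw [injective_iff_map_eq_zero]
  intro x hx
  obtain ⟨n, m, q, rfl⟩ := TensorProduct.exists_sum_tmul_eq x
  let f : (Fin n → R) →ₗ[R] M := (Pi.basisFun R (Fin n)).constr R m
  let x' : (Fin n → R) ⊗[R] (∀ i, Q i) := ∑ k, (Pi.basisFun R (Fin n) k) ⊗ₜ[R] q k
  have hfx : (f.rTensor (∀ i, Q i)) x' = ∑ k, m k ⊗ₜ[R] q k := by
    simp only [x', map_sum, LinearMap.rTensor_tmul, f]
    refine Finset.sum_congr rfl (fun k _ => ?_)
    rw [Module.Basis.constr_basis]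
  obtain ⟨Q', _, _, _, g, hg⟩ := h n f
  have hker : x' ∈ LinearMap.ker (g.rTensor (∀ i, Q i)) := by
    rw [LinearMap.mem_ker]
    apply ml_of_finitePresentation Q' ι Q
    rw [map_zero]
    funext i
    rw [ML.piRightHom_natural]
    have : (TensorProduct.piRightHom R R (Fin n → R) Q) x' i ∈ LinearMap.ker (f.rTensor (Q i)) := by
      rw [LinearMap.mem_ker, ← ML.piRightHom_natural, hfx, hx]
      rfl
    rw [hg (Q i)] at this
    exact this
  rw [← hg] at hker
  rw [← hfx]
  exact hker

end Crit
set_option linter.unusedSectionVars false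
section DL
variable {ι : Type u} [Preorder ι] [IsDirected ι (· ≤ ·)] [Nonempty ι] [DecidableEq ι]
  (G : ι → Type u) [∀ i, AddCommGroup (G i)] [∀ i, Module R (G i)]
  (f : ∀ i j, i ≤ j → G i →ₗ[R] G j) [DirectedSystem G fun i j h => f i j h]

/-- an element of `G i ⊗ N` dying in the colimit dies at a finite stage -/
theorem dl_zero (N : Type u) [AddCommGroup N] [Module R N] (i : ι) (x : G i ⊗[R] N)
    (hx : ((Module.DirectLimit.of R ι G f i).rTensor N) x = 0) :
    ∃ (k : ι) (hik : i ≤ k), ((f i k hik).rTensor N) x = 0 := by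
  have h1 := congrArg (TensorProduct.directLimitLeft f N) hx
  rw [TensorProduct.directLimitLeft_rTensor_of, map_zero] at h1
  exact Module.DirectLimit.of.zero_exact h1

theorem dl_exists_of (N : Type u) [AddCommGroup N] [Module R N]
    (x : (Module.DirectLimit G f) ⊗[R] N) :
    ∃ (i : ι) (y : G i ⊗[R] N), x = ((Module.DirectLimit.of R ι G f i).rTensor N) y := by
  obtain ⟨i, y, hy⟩ := Module.DirectLimit.exists_of (TensorProduct.directLimitLeft f N x)
  refine ⟨i, y, ?_⟩
  apply (TensorProduct.directLimitLeft f N).injective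
  rw [TensorProduct.directLimitLeft_rTensor_of, hy]

theorem dl_of_comp (i j : ι) (hij : i ≤ j) :
    Module.DirectLimit.of R ι G f j ∘ₗ f i j hij = Module.DirectLimit.of R ι G f i := by
  ext x
  exact Module.DirectLimit.of_f

theorem dl_ml_of_factor [∀ i, Module.FinitePresentation R (G i)]
    (h : ∀ i, ∃ (j : ι) (hij : i ≤ j), ∀ (k : ι) (hik : i ≤ k),
        ∃ h : G k →ₗ[R] G j, f i j hij = h ∘ₗ f i k hik) :
    CAlg.IsMittagLeffler R (Module.DirectLimit G f) := by
  intro κ Q _ _
  rw [injective_iff_map_eq_zero]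
  intro x hx
  obtain ⟨i, xi, rfl⟩ := dl_exists_of G f (∀ a, Q a) x
  obtain ⟨j, hij, hj⟩ := h i
  have h0 : ((f i j hij).rTensor (∀ a, Q a)) xi = 0 := by
    apply ml_of_finitePresentation (G j) κ Q
    rw [map_zero]
    funext a
    rw [ML.piRightHom_natural]
    have h1 : ((Module.DirectLimit.of R ι G f i).rTensor (Q a))
        ((TensorProduct.piRightHom R R (G i) Q) xi a) = 0 := by
      rw [← ML.piRightHom_natural, hx]
      rfl
    obtain ⟨k, hik, hk⟩ := dl_zero G f (Q a) i _ h1
    obtain ⟨h', hh'⟩ := hj k hik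
    rw [hh', LinearMap.rTensor_comp, LinearMap.comp_apply, hk, map_zero]
    rfl
  rw [← dl_of_comp G f i j hij, LinearMap.rTensor_comp, LinearMap.comp_apply, h0, map_zero]

theorem dl_factor_of_ml [∀ i, Module.FinitePresentation R (G i)]
    (hM : CAlg.IsMittagLeffler R (Module.DirectLimit G f)) (i : ι) :
    ∃ (j : ι) (hij : i ≤ j), ∀ (k : ι) (hik : i ≤ k),
        ∃ h : G k →ₗ[R] G j, f i j hij = h ∘ₗ f i k hik := by
  classical
  -- first: some j with ker (of_i ⊗ N) ≤ ker (f_ij ⊗ N) for all N
  have key : ∃ (j : ι) (hij : i ≤ j), ∀ (N : Type u) [AddCommGroup N] [Module R N],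
      LinearMap.ker ((Module.DirectLimit.of R ι G f i).rTensor N) ≤
        LinearMap.ker ((f i j hij).rTensor N) := by
    by_contra hcon
    have hcon' : ∀ j : {j : ι // i ≤ j}, ∃ (N : Type u) (_ : AddCommGroup N) (_ : Module R N)
        (y : G i ⊗[R] N), ((Module.DirectLimit.of R ι G f i).rTensor N) y = 0 ∧
          ((f i j.1 j.2).rTensor N) y ≠ 0 := by
      intro j
      by_contra hj
      apply hcon
      refine ⟨j.1, j.2, fun N _ _ y hy => ?_⟩
      by_contra hy'
      exact hj ⟨N, inferInstance, inferInstance, y, hy, hy'⟩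
    choose N instA instM y hy1 hy2 using hcon'
    obtain ⟨Y, hY⟩ := ML.piRightHom_surjective_of_finite (N := G i) N y
    have h0 : ((Module.DirectLimit.of R ι G f i).rTensor (∀ j, N j)) Y = 0 := by
      apply hM {j : ι // i ≤ j} N
      rw [map_zero]
      funext j
      rw [ML.piRightHom_natural, hY, hy1]
      rfl
    obtain ⟨k, hik, hk⟩ := dl_zero G f (∀ j, N j) i Y h0
    apply hy2 ⟨k, hik⟩
    have := congrFun (congrArg (TensorProduct.piRightHom R R (G k) N) hk) ⟨k, hik⟩
    rw [ML.piRightHom_natural, hY] at this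
    rw [this]
    simp
  obtain ⟨j, hij, hj⟩ := key
  refine ⟨j, hij, fun k hik => ?_⟩
  have : Module.FinitePresentation R (G k ⧸ LinearMap.range (f i k hik)) := by
    apply Module.finitePresentation_of_surjective (LinearMap.range (f i k hik)).mkQ
      (LinearMap.range (f i k hik)).mkQ_surjective
    rw [Submodule.ker_mkQ, LinearMap.range_eq_map]
    exact Module.Finite.fg_top.map _
  apply exists_factor_of_dominates (f i k hik) (f i j hij)
  intro Q _ _ x hx
  apply hj Q
  rw [LinearMap.mem_ker] at hx ⊢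
  rw [← dl_of_comp G f i k hik, LinearMap.rTensor_comp, LinearMap.comp_apply, hx, map_zero]

end DL
section Prod
variable (A : Type u)

/-- the comparison map `(A → R) ⊗ N → (A → N)` -/
noncomputable def piScalarLeftHom (N : Type u) [AddCommGroup N] [Module R N] :
    (A → R) ⊗[R] N →ₗ[R] (A → N) :=
  LinearMap.pi (fun a => (TensorProduct.lid R N).toLinearMap ∘ₗ
    (LinearMap.proj (R := R) (φ := fun _ : A => R) a).rTensor N)

@[simp] theorem piScalarLeftHom_tmul (N : Type u) [AddCommGroup N] [Module R N] (v : A → R) (n : N)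
    (a : A) : piScalarLeftHom (R := R) A N (v ⊗ₜ[R] n) a = v a • n := by
  simp [piScalarLeftHom]

theorem piScalarLeftHom_natural {N N' : Type u} [AddCommGroup N] [Module R N] [AddCommGroup N']
    [Module R N'] (g : N →ₗ[R] N') (x : (A → R) ⊗[R] N) (a : A) :
    piScalarLeftHom (R := R) A N' ((g.lTensor (A → R)) x) a = g (piScalarLeftHom (R := R) A N x a) := by
  induction x using TensorProduct.induction_on with
  | zero => simp
  | tmul v n => simp
  | add x y hx hy => simp only [map_add, Pi.add_apply, hx, hy]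

/-- relation with `piRightHom` for the constant family `R` -/
theorem piScalarLeftHom_eq (N : Type u) [AddCommGroup N] [Module R N] (x : (A → R) ⊗[R] N) (a : A) :
    piScalarLeftHom (R := R) A N x a =
      TensorProduct.rid R N (TensorProduct.piRightHom R R N (fun _ : A => R)
        (TensorProduct.comm R (A → R) N x) a) := by
  induction x using TensorProduct.induction_on with
  | zero => simp
  | tmul v n => simp
  | add x y hx hy => simp only [map_add, Pi.add_apply, hx, hy]

theorem piScalarLeftHom_injective_of_fp (N : Type u) [AddCommGroup N] [Module R N]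
    [Module.FinitePresentation R N] : Function.Injective (piScalarLeftHom (R := R) A N) := by
  rw [injective_iff_map_eq_zero]
  intro x hx
  apply (TensorProduct.comm R (A → R) N).injective
  apply ml_of_finitePresentation (R := R) N A (fun _ => R)
  rw [map_zero, map_zero]
  funext a
  apply (TensorProduct.rid R N).injective
  rw [← piScalarLeftHom_eq, hx]
  simp

theorem piScalarLeftHom_injective [IsNoetherianRing R] (N : Type u) [AddCommGroup N] [Module R N] :
    Function.Injective (piScalarLeftHom (R := R) A N) := by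
  rw [injective_iff_map_eq_zero]
  intro x hx
  obtain ⟨N', hN', hxN'⟩ := TensorProduct.exists_finite_submodule_right_of_setFinite {x}
    (Set.finite_singleton x)
  obtain ⟨x', rfl⟩ := hxN' (Set.mem_singleton x)
  have : Module.FinitePresentation R N' := Module.finitePresentation_of_finite R N'
  have hx' : x' = 0 := by
    apply piScalarLeftHom_injective_of_fp (R := R) A N'
    rw [map_zero]
    funext a
    apply N'.subtype_injective
    rw [← piScalarLeftHom_natural, hx]
    simp
  rw [hx', map_zero]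

theorem ml_pi [IsNoetherianRing R] : CAlg.IsMittagLeffler R (A → R) := by
  intro ι Q _ _
  rw [injective_iff_map_eq_zero]
  intro x hx
  apply piScalarLeftHom_injective (R := R) A (∀ i, Q i)
  rw [map_zero]
  funext a i
  have key : ∀ y : (A → R) ⊗[R] (∀ i, Q i), piScalarLeftHom (R := R) A (∀ i, Q i) y a i =
      piScalarLeftHom (R := R) A (Q i) (TensorProduct.piRightHom R R (A → R) Q y i) a := by
    intro y
    induction y using TensorProduct.induction_on with
    | zero => simp
    | tmul v n => simp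
    | add x y hx hy => simp only [map_add, Pi.add_apply, hx, hy]
  rw [key, hx]
  simp

theorem flat_pi [IsNoetherianRing R] : Module.Flat R (A → R) := by
  rw [Module.Flat.iff_rTensor_injective']
  intro I
  rw [injective_iff_map_eq_zero]
  intro x hx
  have : Module.FinitePresentation R I := Module.finitePresentation_of_finite R I
  apply ml_of_finitePresentation (R := R) I A (fun _ => R)
  rw [map_zero]
  funext a
  have hinj : Function.Injective (I.subtype.rTensor R) :=
    Module.Flat.rTensor_preserves_injective_linearMap _ I.subtype_injective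
  apply hinj
  have h1 := ML.piRightHom_natural I.subtype (fun _ : A => R) x a
  rw [hx] at h1
  rw [← h1]
  simp

end Prod
section Tens

theorem finitePresentation_tensor (Q₁ Q₂ : Type u) [AddCommGroup Q₁] [Module R Q₁]
    [AddCommGroup Q₂] [Module R Q₂] [Module.FinitePresentation R Q₁]
    [Module.FinitePresentation R Q₂] : Module.FinitePresentation R (Q₁ ⊗[R] Q₂) := by
  obtain ⟨n₁, m₁, π₁, A₁, hπ₁, hex₁⟩ := Module.FinitePresentation.exists_fin' R Q₁
  obtain ⟨n₂, m₂, π₂, A₂, hπ₂, hex₂⟩ := Module.FinitePresentation.exists_fin' R Q₂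
  have : Module.FinitePresentation R ((Fin n₁ → R) ⊗[R] (Fin n₂ → R)) :=
    Module.finitePresentation_of_projective R _
  apply Module.finitePresentation_of_surjective (TensorProduct.map π₁ π₂)
    (TensorProduct.map_surjective hπ₁ hπ₂)
  rw [TensorProduct.map_ker hex₁ hπ₁ hex₂ hπ₂]
  apply Submodule.FG.sup
  · rw [LinearMap.range_eq_map]
    exact Module.Finite.fg_top.map _
  · rw [LinearMap.range_eq_map]
    exact Module.Finite.fg_top.map _

/-- mutual domination -/
def MutDom {P M Q : Type u} [AddCommGroup P] [Module R P] [AddCommGroup M] [Module R M]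
    [AddCommGroup Q] [Module R Q] (f : P →ₗ[R] M) (g : P →ₗ[R] Q) : Prop :=
  ∀ (T : Type u) [AddCommGroup T] [Module R T] (z : P ⊗[R] T),
    (f.rTensor T) z = 0 ↔ (g.rTensor T) z = 0

variable {P M Q : Type u} [AddCommGroup P] [Module R P] [AddCommGroup M] [Module R M]
    [AddCommGroup Q] [Module R Q]

theorem MutDom.rTensor {f : P →ₗ[R] M} {g : P →ₗ[R] Q} (h : MutDom f g)
    (N : Type u) [AddCommGroup N] [Module R N] : MutDom (f.rTensor N) (g.rTensor N) := by
  intro T _ _ z
  have e1 : ∀ (X : Type u) [AddCommGroup X] [Module R X] (k : P →ₗ[R] X) (z : (P ⊗[R] N) ⊗[R] T),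
      TensorProduct.assoc R X N T (((k.rTensor N).rTensor T) z) =
        (k.rTensor (N ⊗[R] T)) (TensorProduct.assoc R P N T z) := by
    intro X _ _ k z
    rw [LinearMap.rTensor_tensor]
    simp
  rw [← (TensorProduct.assoc R M N T).map_eq_zero_iff, e1, h (N ⊗[R] T), ← e1,
    (TensorProduct.assoc R Q N T).map_eq_zero_iff]

theorem MutDom.lTensor {f : P →ₗ[R] M} {g : P →ₗ[R] Q} (h : MutDom f g)
    (N : Type u) [AddCommGroup N] [Module R N] : MutDom (f.lTensor N) (g.lTensor N) := by
  intro T _ _ z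
  have hr := h.rTensor N T ((TensorProduct.comm R N P).toLinearMap.rTensor T z)
  have e1 : ∀ (X : Type u) [AddCommGroup X] [Module R X] (k : P →ₗ[R] X),
      ((k.rTensor N).rTensor T) ((TensorProduct.comm R N P).toLinearMap.rTensor T z) =
        ((TensorProduct.comm R N X).toLinearMap.rTensor T) (((k.lTensor N).rTensor T) z) := by
    intro X _ _ k
    rw [← LinearMap.comp_apply, ← LinearMap.comp_apply, ← LinearMap.rTensor_comp,
      ← LinearMap.rTensor_comp]
    congr 2
    ext n p
    simp
  rw [e1, e1] at hr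
  have e2 : ∀ (X : Type u) [AddCommGroup X] [Module R X] (w : (N ⊗[R] X) ⊗[R] T),
      ((TensorProduct.comm R N X).toLinearMap.rTensor T) w = 0 ↔ w = 0 := by
    intro X _ _ w
    exact (LinearEquiv.rTensor T (TensorProduct.comm R N X)).map_eq_zero_iff
  rw [e2, e2] at hr
  exact hr

theorem MutDom.comp {P' : Type u} [AddCommGroup P'] [Module R P'] {f : P →ₗ[R] M} {g : P →ₗ[R] Q}
    (h : MutDom f g) (u : P' →ₗ[R] P) : MutDom (f ∘ₗ u) (g ∘ₗ u) := by
  intro T _ _ z
  rw [LinearMap.rTensor_comp, LinearMap.rTensor_comp, LinearMap.comp_apply, LinearMap.comp_apply]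
  exact h T _

theorem MutDom.map {P₂ M₂ Q₂ : Type u} [AddCommGroup P₂] [Module R P₂] [AddCommGroup M₂]
    [Module R M₂] [AddCommGroup Q₂] [Module R Q₂]
    {f : P →ₗ[R] M} {g : P →ₗ[R] Q} (h : MutDom f g)
    {f₂ : P₂ →ₗ[R] M₂} {g₂ : P₂ →ₗ[R] Q₂} (h₂ : MutDom f₂ g₂) :
    MutDom (TensorProduct.map f f₂) (TensorProduct.map g g₂) := by
  intro T _ _ z
  have s1 : TensorProduct.map f f₂ = (f.rTensor M₂) ∘ₗ (f₂.lTensor P) :=
    by rw [LinearMap.rTensor_comp_lTensor]
  have s2 : (g.rTensor M₂) ∘ₗ (f₂.lTensor P) = (f₂.lTensor Q) ∘ₗ (g.rTensor P₂) := by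
    rw [LinearMap.rTensor_comp_lTensor, LinearMap.lTensor_comp_rTensor]
  have s3 : TensorProduct.map g g₂ = (g₂.lTensor Q) ∘ₗ (g.rTensor P₂) :=
    by rw [LinearMap.lTensor_comp_rTensor]
  rw [s1, LinearMap.rTensor_comp, LinearMap.comp_apply, h.rTensor M₂ T,
    ← LinearMap.comp_apply, ← LinearMap.rTensor_comp, s2, LinearMap.rTensor_comp,
    LinearMap.comp_apply, h₂.lTensor Q T, s3, LinearMap.rTensor_comp, LinearMap.comp_apply]

end Tens
section Tens2

theorem exists_mutDom {M : Type u} [AddCommGroup M] [Module R M] (hM : CAlg.IsMittagLeffler R M)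
    (P : Type u) [AddCommGroup P] [Module R P] [Module.FinitePresentation R P] (f : P →ₗ[R] M) :
    ∃ (Q : Type u) (_ : AddCommGroup Q) (_ : Module R Q) (_ : Module.FinitePresentation R Q)
      (g : P →ₗ[R] Q), MutDom f g := by
  obtain ⟨Q, i1, i2, i3, g, hg⟩ := exists_mutually_dominating hM P f
  refine ⟨Q, i1, i2, i3, g, fun T _ _ z => ?_⟩
  have := hg T
  rw [← LinearMap.mem_ker, ← LinearMap.mem_ker, this]

theorem ml_tensor {M N : Type u} [AddCommGroup M] [Module R M] [AddCommGroup N] [Module R N]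
    (hM : CAlg.IsMittagLeffler R M) (hN : CAlg.IsMittagLeffler R N) :
    CAlg.IsMittagLeffler R (M ⊗[R] N) := by
  classical
  apply ml_of_fin_free_dominating
  intro n f
  let b := Pi.basisFun R (Fin n)
  obtain ⟨M', N', hM', hN', hsub⟩ := TensorProduct.exists_finite_submodule_of_setFinite
    (Set.range (fun a => f (b a))) (Set.finite_range _)
  obtain ⟨s₁, π₁, hπ₁⟩ := Module.Finite.exists_fin' R M'
  obtain ⟨s₂, π₂, hπ₂⟩ := Module.Finite.exists_fin' R N'
  let f₁ : (Fin s₁ → R) →ₗ[R] M := M'.subtype ∘ₗ π₁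
  let f₂ : (Fin s₂ → R) →ₗ[R] N := N'.subtype ∘ₗ π₂
  have hmap : TensorProduct.map f₁ f₂ = TensorProduct.mapIncl M' N' ∘ₗ TensorProduct.map π₁ π₂ := by
    rw [TensorProduct.mapIncl, ← TensorProduct.map_comp]
  have ht : ∀ a, ∃ t' : (Fin s₁ → R) ⊗[R] (Fin s₂ → R), TensorProduct.map f₁ f₂ t' = f (b a) := by
    intro a
    obtain ⟨t, ht⟩ := hsub ⟨a, rfl⟩
    obtain ⟨t', rfl⟩ := TensorProduct.map_surjective hπ₁ hπ₂ t
    exact ⟨t', by rw [hmap, LinearMap.comp_apply, ht]⟩
  choose t' ht' using ht
  let u : (Fin n → R) →ₗ[R] (Fin s₁ → R) ⊗[R] (Fin s₂ → R) := b.constr R t'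
  have hu : TensorProduct.map f₁ f₂ ∘ₗ u = f := by
    apply b.ext
    intro a
    simp only [u, LinearMap.comp_apply, Module.Basis.constr_basis, ht']
  obtain ⟨Q₁, _, _, _, g₁, hg₁⟩ := exists_mutDom hM (Fin s₁ → R) f₁
  obtain ⟨Q₂, _, _, _, g₂, hg₂⟩ := exists_mutDom hN (Fin s₂ → R) f₂
  have hdom : MutDom f (TensorProduct.map g₁ g₂ ∘ₗ u) := by
    rw [← hu]
    exact (hg₁.map hg₂).comp u
  refine ⟨Q₁ ⊗[R] Q₂, inferInstance, inferInstance, finitePresentation_tensor Q₁ Q₂,
    TensorProduct.map g₁ g₂ ∘ₗ u, fun T _ _ => ?_⟩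
  ext z
  rw [LinearMap.mem_ker, LinearMap.mem_ker]
  exact hdom T z

end Tens2
section Restrict
variable (R S : Type u) [CommRing R] [CommRing S] [Algebra R S]

theorem piRightHom_restrict {N : Type u} [AddCommGroup N] [Module R N] [Module S N]
    [IsScalarTower R S N] {ι : Type u} (Q : ι → Type u)
    [∀ i, AddCommGroup (Q i)] [∀ i, Module R (Q i)] (x : N ⊗[R] (∀ i, Q i)) :
    TensorProduct.piRightHom R S N Q x = TensorProduct.piRightHom R R N Q x := by
  induction x using TensorProduct.induction_on with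
  | zero => simp
  | tmul m q => simp
  | add x y hx hy => simp only [map_add, hx, hy]

theorem ml_restrictScalars_of_fp [Module.FinitePresentation R S] (M : Type u) [AddCommGroup M]
    [Module S M] [Module R M] [IsScalarTower R S M] (hM : CAlg.IsMittagLeffler S M) :
    CAlg.IsMittagLeffler R M := by
  intro ι Q _ _
  rw [injective_iff_map_eq_zero]
  intro x hx
  -- the S-linear bijection S ⊗ ∏ Q → ∏ S ⊗ Q
  have hbij : Function.Bijective (TensorProduct.piRightHom R S S Q) := by
    constructor
    · intro a b hab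
      rw [piRightHom_restrict, piRightHom_restrict] at hab
      exact ml_of_finitePresentation (R := R) S ι Q hab
    · intro z
      obtain ⟨w, hw⟩ := ML.piRightHom_surjective_of_finite (R := R) (N := S) Q z
      exact ⟨w, by rw [piRightHom_restrict, hw]⟩
  let e : S ⊗[R] (∀ i, Q i) ≃ₗ[S] (∀ i, S ⊗[R] Q i) :=
    LinearEquiv.ofBijective (TensorProduct.piRightHom R S S Q) hbij
  let x₁ : M ⊗[S] (S ⊗[R] (∀ i, Q i)) :=
    (TensorProduct.AlgebraTensorModule.cancelBaseChange R S S M (∀ i, Q i)).symm x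
  let x₂ : M ⊗[S] (∀ i, S ⊗[R] Q i) := (LinearEquiv.lTensor M e) x₁
  have key : ∀ (y : M ⊗[R] (∀ i, Q i)) (i : ι),
      TensorProduct.AlgebraTensorModule.cancelBaseChange R S S M (Q i)
        (TensorProduct.piRightHom S S M (fun i => S ⊗[R] Q i)
          ((LinearEquiv.lTensor M e)
            ((TensorProduct.AlgebraTensorModule.cancelBaseChange R S S M (∀ i, Q i)).symm y)) i) =
        TensorProduct.piRightHom R R M Q y i := by
    intro y i
    induction y using TensorProduct.induction_on with
    | zero => simp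
    | tmul m q => simp [e]
    | add y z hy hz => simp only [map_add, Pi.add_apply, hy, hz]
  have hx₂ : x₂ = 0 := by
    apply hM ι (fun i => S ⊗[R] Q i)
    rw [map_zero]
    funext i
    apply (TensorProduct.AlgebraTensorModule.cancelBaseChange R S S M (Q i)).injective
    rw [key x i, hx]
    simp
  have hx₁ : x₁ = 0 := (LinearEquiv.lTensor M e).injective (by rw [map_zero]; exact hx₂)
  have := congrArg (TensorProduct.AlgebraTensorModule.cancelBaseChange R S S M (∀ i, Q i)) hx₁
  simpa [x₁] using this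

end Restrict
section Surj
variable (R S : Type u) [CommRing R] [CommRing S] [Algebra R S]

theorem ml_of_surjective (hsurj : Function.Surjective (algebraMap R S)) (M : Type u)
    [AddCommGroup M] [Module S M] [Module R M] [IsScalarTower R S M]
    (hM : CAlg.IsMittagLeffler R M) : CAlg.IsMittagLeffler S M := by
  intro ι Q _ _
  let instR : ∀ i, Module R (Q i) := fun i => Module.compHom (Q i) (algebraMap R S)
  have instT : ∀ i, IsScalarTower R S (Q i) := fun i =>
    IsScalarTower.of_algebraMap_smul (fun r q => rfl)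
  have hcompat : ∀ (N : Type u) [AddCommGroup N] [Module S N] [Module R N] [IsScalarTower R S N],
      TensorProduct.CompatibleSMul R S M N := by
    intro N _ _ _ _
    refine ⟨fun s m n => ?_⟩
    obtain ⟨r, rfl⟩ := hsurj s
    rw [algebraMap_smul, algebraMap_smul, TensorProduct.smul_tmul]
  have c1 := hcompat (∀ i, Q i)
  have c2 := fun i => hcompat (Q i)
  rw [injective_iff_map_eq_zero]
  intro x hx
  have key : ∀ (y : M ⊗[S] (∀ i, Q i)) (i : ι),
      TensorProduct.piRightHom R R M Q (TensorProduct.equivOfCompatibleSMul R S S M (∀ i, Q i) y) i =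
        TensorProduct.equivOfCompatibleSMul R S S M (Q i) (TensorProduct.piRightHom S S M Q y i) := by
    intro y i
    induction y using TensorProduct.induction_on with
    | zero => simp
    | tmul m q => simp [TensorProduct.equivOfCompatibleSMul]
    | add y z hy hz => simp only [map_add, Pi.add_apply, hy, hz]
  apply (TensorProduct.equivOfCompatibleSMul R S S M (∀ i, Q i)).injective
  rw [map_zero]
  apply hM ι Q
  rw [map_zero]
  funext i
  rw [key, hx]
  simp

end Surj
section FlatCrit
variable {M : Type u} [AddCommGroup M] [Module R M]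

theorem ker_rTensor_eq_range [Module.Flat R M] {F Q : Type u} [AddCommGroup F] [Module R F]
    [AddCommGroup Q] [Module R Q] (φ : F →ₗ[R] Q) :
    LinearMap.ker (φ.rTensor M) = LinearMap.range ((LinearMap.ker φ).subtype.rTensor M) := by
  let K := LinearMap.ker φ
  let ι : (F ⧸ K) →ₗ[R] Q := K.liftQ φ le_rfl
  have hι : Function.Injective ι := by
    rw [← LinearMap.ker_eq_bot]
    exact Submodule.ker_liftQ_eq_bot _ _ _ le_rfl
  have hφ : φ = ι ∘ₗ K.mkQ := by
    ext v
    simp [ι]
  have hinj : Function.Injective (ι.rTensor M) :=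
    Module.Flat.rTensor_preserves_injective_linearMap ι hι
  have hex := rTensor_exact M (LinearMap.exact_subtype_mkQ K) K.mkQ_surjective
  ext z
  rw [LinearMap.mem_ker]
  conv_lhs => rw [hφ, LinearMap.rTensor_comp, LinearMap.comp_apply]
  rw [← map_zero (ι.rTensor M), hinj.eq_iff]
  exact hex z

theorem flat_ml_exists_smallest [Module.Flat R M] (hM : CAlg.IsMittagLeffler R M) (n : ℕ)
    (x : (Fin n → R) ⊗[R] M) :
    ∃ F' : Submodule R (Fin n → R),
      x ∈ LinearMap.range (F'.subtype.rTensor M) ∧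
      ∀ F'' : Submodule R (Fin n → R), x ∈ LinearMap.range (F''.subtype.rTensor M) → F' ≤ F'' := by
  let S : Set (Submodule R (Fin n → R)) := {α | x ∈ LinearMap.range (α.subtype.rTensor M)}
  refine ⟨sInf S, ?_, fun F'' h => sInf_le h⟩
  let φ : (Fin n → R) →ₗ[R] (∀ α : S, (Fin n → R) ⧸ α.1) := LinearMap.pi (fun α => α.1.mkQ)
  have hker : LinearMap.ker φ = sInf S := by
    ext v
    rw [LinearMap.mem_ker, Submodule.mem_sInf]
    constructor
    · intro hv α hα
      have := congrFun hv ⟨α, hα⟩
      simpa [φ] using this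
    · intro hv
      funext α
      simpa [φ] using hv α.1 α.2
  rw [← hker, ← ker_rTensor_eq_range, LinearMap.mem_ker]
  apply (TensorProduct.comm R (∀ α : S, (Fin n → R) ⧸ α.1) M).injective
  apply hM S (fun α => (Fin n → R) ⧸ α.1)
  rw [map_zero, map_zero]
  funext α
  have key : ∀ y : (Fin n → R) ⊗[R] M,
      TensorProduct.piRightHom R R M (fun α : S => (Fin n → R) ⧸ α.1)
        (TensorProduct.comm R _ M ((φ.rTensor M) y)) α =
      TensorProduct.comm R _ M ((α.1.mkQ.rTensor M) y) := by
    intro y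
    induction y using TensorProduct.induction_on with
    | zero => simp
    | tmul v m => simp [φ]
    | add y z hy hz => simp only [map_add, Pi.add_apply, hy, hz]
  rw [key]
  obtain ⟨w, hw⟩ := α.2
  rw [← hw, ← LinearMap.comp_apply, ← LinearMap.rTensor_comp]
  have : α.1.mkQ ∘ₗ α.1.subtype = 0 := by
    ext v
    simp
  rw [this, LinearMap.rTensor_zero, LinearMap.zero_apply, map_zero]
  rfl

theorem ml_of_flat_of_smallest [Module.Flat R M]
    (h : ∀ (n : ℕ) (x : (Fin n → R) ⊗[R] M), ∃ F' : Submodule R (Fin n → R),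
        x ∈ LinearMap.range (F'.subtype.rTensor M) ∧
        ∀ F'' : Submodule R (Fin n → R), x ∈ LinearMap.range (F''.subtype.rTensor M) → F' ≤ F'') :
    CAlg.IsMittagLeffler R M := by
  classical
  intro ι Q _ _
  rw [injective_iff_map_eq_zero]
  intro x hx
  obtain ⟨n, m, q, rfl⟩ := TensorProduct.exists_sum_tmul_eq x
  let b := Pi.basisFun R (Fin n)
  let y : (Fin n → R) ⊗[R] M := ∑ k, b k ⊗ₜ[R] m k
  obtain ⟨F', hyF', hmin⟩ := h n y
  let φ : (Fin n → R) →ₗ[R] (∀ i, Q i) := b.constr R q
  have hφy : (φ.rTensor M) y = TensorProduct.comm R M _ (∑ k, m k ⊗ₜ[R] q k) := by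
    simp only [y, map_sum, LinearMap.rTensor_tmul, TensorProduct.comm_tmul, φ]
    refine Finset.sum_congr rfl (fun k _ => ?_)
    rw [Module.Basis.constr_basis]
  have hle : F' ≤ LinearMap.ker φ := by
    intro v hv
    rw [LinearMap.mem_ker]
    funext i
    have hi : F' ≤ LinearMap.ker (LinearMap.proj i ∘ₗ φ) := by
      apply hmin
      rw [← ker_rTensor_eq_range, LinearMap.mem_ker, LinearMap.rTensor_comp, LinearMap.comp_apply,
        hφy]
      have := congrFun hx i
      have key : ∀ z : M ⊗[R] (∀ i, Q i),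
          ((LinearMap.proj i : (∀ i, Q i) →ₗ[R] Q i).rTensor M) (TensorProduct.comm R M _ z) =
            TensorProduct.comm R M _ (TensorProduct.piRightHom R R M Q z i) := by
        intro z
        induction z using TensorProduct.induction_on with
        | zero => simp
        | tmul a c => simp
        | add z z' hz hz' => simp only [map_add, Pi.add_apply, hz, hz']
      rw [key, this]
      simp
    have := hi hv
    rw [LinearMap.mem_ker] at this
    exact this
  have h0 : (φ.rTensor M) y = 0 := by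
    obtain ⟨w, hw⟩ := hyF'
    rw [← hw, ← LinearMap.comp_apply, ← LinearMap.rTensor_comp]
    have : φ ∘ₗ F'.subtype = 0 := by
      ext v : 1
      exact hle v.2
    rw [this, LinearMap.rTensor_zero, LinearMap.zero_apply]
  rw [hφy] at h0
  exact (TensorProduct.comm R M _).map_eq_zero_iff.mp h0

end FlatCrit
section DomFP
variable {M N M' : Type u} [AddCommGroup M] [Module R M] [AddCommGroup N] [Module R N]
  [AddCommGroup M'] [Module R M']

theorem dominates_of_fp (f : M →ₗ[R] N) (g : M →ₗ[R] M')
    (h : ∀ (Q : Type u) [AddCommGroup Q] [Module R Q], Module.FinitePresentation R Q →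
        LinearMap.ker (f.rTensor Q) ≤ LinearMap.ker (g.rTensor Q))
    (Q : Type u) [AddCommGroup Q] [Module R Q] :
    LinearMap.ker (f.rTensor Q) ≤ LinearMap.ker (g.rTensor Q) := by
  classical
  intro y hy
  rw [LinearMap.mem_ker] at hy ⊢
  obtain ⟨n, m, q, rfl⟩ := TensorProduct.exists_sum_tmul_eq y
  let b := Pi.basisFun R (Fin n)
  let π : (Fin n → R) →ₗ[R] Q := b.constr R q
  let yt : M ⊗[R] (Fin n → R) := ∑ k, m k ⊗ₜ[R] b k
  have hyt : (π.lTensor M) yt = ∑ k, m k ⊗ₜ[R] q k := by
    simp only [yt, map_sum, LinearMap.lTensor_tmul, π]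
    refine Finset.sum_congr rfl (fun k _ => ?_)
    rw [Module.Basis.constr_basis]
  let z : N ⊗[R] (Fin n → R) := (f.rTensor (Fin n → R)) yt
  have hz : (π.lTensor N) z = 0 := by
    simp only [z]
    rw [← LinearMap.comp_apply, LinearMap.lTensor_comp_rTensor, ← LinearMap.rTensor_comp_lTensor,
      LinearMap.comp_apply, hyt]
    exact hy
  have hz' : (π.rTensor N) (TensorProduct.comm R N _ z) = 0 := by
    have := congrArg (TensorProduct.comm R N Q) hz
    rw [map_zero] at this
    rw [← this, ← LinearMap.comm_comp_rTensor_comp_comm_eq]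
    simp
  obtain ⟨j, hj⟩ := Fact.exists_kills π N _ hz'
  have hjfp : Module.FinitePresentation R j.Q := j.finitePresentation
  let y' : M ⊗[R] j.Q := (j.g.lTensor M) yt
  have hy'1 : (j.h.lTensor M) y' = ∑ k, m k ⊗ₜ[R] q k := by
    simp only [y']
    rw [← LinearMap.comp_apply, ← LinearMap.lTensor_comp, j.h_comp_g, hyt]
  have hy'2 : (f.rTensor j.Q) y' = 0 := by
    simp only [y']
    rw [← LinearMap.comp_apply, LinearMap.rTensor_comp_lTensor, ← LinearMap.lTensor_comp_rTensor,
      LinearMap.comp_apply]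
    change (j.g.lTensor N) z = 0
    rw [← LinearMap.comm_comp_rTensor_comp_comm_eq]
    simp only [LinearMap.comp_apply, LinearEquiv.coe_coe]
    rw [hj, map_zero]
  have hy'3 : (g.rTensor j.Q) y' = 0 := h j.Q hjfp hy'2
  rw [← hy'1, ← LinearMap.comp_apply, LinearMap.rTensor_comp_lTensor,
    ← LinearMap.lTensor_comp_rTensor, LinearMap.comp_apply, hy'3, map_zero]

end DomFP
end Groth.Agent.Helper1.ML2
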