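import Mathlib
import Groth.Prelude.Def_Found
import Groth.Prelude.Def_CAlgX
import Groth.Agent.Lib.Helper1.ML2
set_option autoImplicit false
open TensorProduct
universe u
namespace Groth.Agent.Helper1.ML3
open Groth.Agent.Helper1

variable {R : Type u} [CommRing R]

section Smallest
variable {M : Type u} [AddCommGroup M] [Module R M]

theorem flat_ml_exists_smallest' [Module.Flat R M] (hM : CAlg.IsMittagLeffler R M)
    (F : Type u) [AddCommGroup F] [Module R F] (x : F ⊗[R] M) :
    ∃ F' : Submodule R F,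
      x ∈ LinearMap.range (F'.subtype.rTensor M) ∧
      ∀ F'' : Submodule R F, x ∈ LinearMap.range (F''.subtype.rTensor M) → F' ≤ F'' := by
  let S : Set (Submodule R F) := {α | x ∈ LinearMap.range (α.subtype.rTensor M)}
  refine ⟨sInf S, ?_, fun F'' h => sInf_le h⟩
  let φ : F →ₗ[R] (∀ α : S, F ⧸ α.1) := LinearMap.pi (fun α => α.1.mkQ)
  have hker : LinearMap.ker φ = sInf S := by
    ext v
    rw [LinearMap.mem_ker, Submodule.mem_sInf]
    constructor
    · intro hv α hα
      have := congrFun hv ⟨α, hα⟩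
      simpa [φ] using this
    · intro hv
      funext α
      simpa [φ] using hv α.1 α.2
  rw [← hker, ← ML2.ker_rTensor_eq_range, LinearMap.mem_ker]
  apply (TensorProduct.comm R (∀ α : S, F ⧸ α.1) M).injective
  apply hM S (fun α => F ⧸ α.1)
  rw [map_zero, map_zero]
  funext α
  have key : ∀ y : F ⊗[R] M,
      TensorProduct.piRightHom R R M (fun α : S => F ⧸ α.1)
        (TensorProduct.comm R _ M ((φ.rTensor M) y)) α =
      TensorProduct.comm R _ M ((α.1.mkQ.rTensor M) y) := by
    intro y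
    induction y using TensorProduct.induction_on with
    | zero => simp
    | tmul v m => simp [φ]
    | add y z hy hz => simp only [map_add, Pi.add_apply, hy, hz]
  rw [key]
  obtain ⟨w, hw⟩ := α.2
  rw [← hw, ← LinearMap.comp_apply, ← LinearMap.rTensor_comp]
  have : α.1.mkQ ∘ₗ α.1.subtype = 0 := by
    ext v
    simp
  rw [this, LinearMap.rTensor_zero, LinearMap.zero_apply, map_zero]
  rfl

theorem S6379 (R : Type u) [CommRing R] (M : Type u)
    [AddCommGroup M] [Module R M] [Module.Flat R M] (hM : CAlg.IsMittagLeffler R M)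
    (F : Type u) [AddCommGroup F] [Module R F] (x : F ⊗[R] M) :
    ∃ F' : Submodule R F, F'.FG ∧ x ∈ LinearMap.range (F'.subtype.rTensor M) ∧
      ∀ F'' : Submodule R F, x ∈ LinearMap.range (F''.subtype.rTensor M) → F' ≤ F'' := by
  classical
  obtain ⟨F', hx, hmin⟩ := flat_ml_exists_smallest' hM F x
  refine ⟨F', ?_, hx, hmin⟩
  obtain ⟨w, hw⟩ := hx
  obtain ⟨n, a, b, rfl⟩ := TensorProduct.exists_sum_tmul_eq w
  let F'' : Submodule R F := Submodule.span R (Set.range fun k => (a k : F))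
  have hF''le : F'' ≤ F' := by
    rw [Submodule.span_le]
    rintro _ ⟨k, rfl⟩
    exact (a k).2
  have hxF'' : x ∈ LinearMap.range (F''.subtype.rTensor M) := by
    refine ⟨∑ k, (⟨(a k : F), Submodule.subset_span ⟨k, rfl⟩⟩ : F'') ⊗ₜ[R] b k, ?_⟩
    rw [← hw, map_sum, map_sum]
    refine Finset.sum_congr rfl fun k _ => ?_
    simp
  have : F' = F'' := le_antisymm (hmin F'' hxF'') hF''le
  rw [this]
  exact Submodule.fg_span (Set.finite_range _)

end Smallest

section Closure
variable {ι : Type u} (s0 : Set ι) (j : ι → ι) (ub : ι → ι → ι)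

/-- iterated closure of a set under a unary and a binary operation -/
def clStep : ℕ → Set ι
  | 0 => s0
  | n + 1 => clStep n ∪ j '' clStep n ∪ (fun p : ι × ι => ub p.1 p.2) '' (clStep n ×ˢ clStep n)

def cl : Set ι := ⋃ n, clStep s0 j ub n

theorem clStep_mono : Monotone (clStep s0 j ub) := by
  refine monotone_nat_of_le_succ fun n => ?_
  intro x hx
  exact Or.inl (Or.inl hx)

theorem clStep_countable (h0 : s0.Countable) (n : ℕ) : (clStep s0 j ub n).Countable := by
  induction n with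
  | zero => exact h0
  | succ n ih => exact (ih.union (ih.image _)).union ((ih.prod ih).image _)

theorem cl_countable (h0 : s0.Countable) : (cl s0 j ub).Countable :=
  Set.countable_iUnion fun n => clStep_countable s0 j ub h0 n

theorem subset_cl : s0 ⊆ cl s0 j ub := fun x hx => Set.mem_iUnion.mpr ⟨0, hx⟩

theorem j_mem_cl {x : ι} (hx : x ∈ cl s0 j ub) : j x ∈ cl s0 j ub := by
  obtain ⟨n, hn⟩ := Set.mem_iUnion.mp hx
  exact Set.mem_iUnion.mpr ⟨n + 1, Or.inl (Or.inr ⟨x, hn, rfl⟩)⟩

theorem ub_mem_cl {x y : ι} (hx : x ∈ cl s0 j ub) (hy : y ∈ cl s0 j ub) :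
    ub x y ∈ cl s0 j ub := by
  obtain ⟨n, hn⟩ := Set.mem_iUnion.mp hx
  obtain ⟨m, hm⟩ := Set.mem_iUnion.mp hy
  have h1 := clStep_mono s0 j ub (le_max_left n m) hn
  have h2 := clStep_mono s0 j ub (le_max_right n m) hm
  exact Set.mem_iUnion.mpr ⟨max n m + 1, Or.inr ⟨(x, y), ⟨h1, h2⟩, rfl⟩⟩

end Closure

theorem S6392 (R : Type u) [CommRing R]
    {ι : Type u} [Preorder ι] [IsDirected ι (· ≤ ·)] [Nonempty ι] [DecidableEq ι] (G : ι → Type u)
    [∀ i, AddCommGroup (G i)] [∀ i, Module R (G i)] [∀ i, Module.FinitePresentation R (G i)]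
    (f : ∀ i j, i ≤ j → G i →ₗ[R] G j) [DirectedSystem G fun i j h => f i j h]
    (hML : CAlg.IsMittagLeffler R (Module.DirectLimit G f))
    (hc : CAlg.IsCountablyGenerated R (Module.DirectLimit G f)) :
    ∃ I' : Set ι, I'.Countable ∧ DirectedOn (· ≤ ·) I' ∧
      Function.Bijective (Module.DirectLimit.lift R I' (fun i : I' => G i.1)
        (fun (i j : I') (h : i ≤ j) => f i.1 j.1 h)
        (fun i : I' => Module.DirectLimit.of R ι G f i.1)
        (fun (i j : I') (h : i ≤ j) (x : G i.1) => Module.DirectLimit.of_f)) := by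
  classical
  obtain ⟨s, hs, hspan⟩ := hc
  -- choose preimages of generators
  have hex : ∀ x : Module.DirectLimit G f, ∃ i, ∃ y : G i, Module.DirectLimit.of R ι G f i y = x :=
    fun x => Module.DirectLimit.exists_of x
  choose ix yx hyx using hex
  -- ML indices
  have hfac := fun i => ML2.dl_factor_of_ml G f hML i
  choose j hij hj using hfac
  -- upper bounds
  have hub : ∀ a b : ι, ∃ c, a ≤ c ∧ b ≤ c := fun a b => exists_ge_ge a b
  choose ub hub1 hub2 using hub
  let i₀ : ι := Classical.arbitrary ι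
  let s0 : Set ι := insert i₀ (ix '' s)
  let I' : Set ι := cl s0 j ub
  have hI'c : I'.Countable := cl_countable s0 j ub ((hs.image ix).insert i₀)
  have hdir : DirectedOn (· ≤ ·) I' := by
    intro a ha b hb
    exact ⟨ub a b, ub_mem_cl s0 j ub ha hb, hub1 a b, hub2 a b⟩
  refine ⟨I', hI'c, hdir, ?_⟩
  have hne : Nonempty I' := ⟨⟨i₀, subset_cl s0 j ub (Set.mem_insert _ _)⟩⟩
  have hdir' : IsDirected I' (· ≤ ·) :=
    ⟨fun a b => ⟨⟨ub a.1 b.1, ub_mem_cl s0 j ub a.2 b.2⟩, hub1 a.1 b.1, hub2 a.1 b.1⟩⟩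
  constructor
  · -- injective
    rw [← LinearMap.ker_eq_bot, LinearMap.ker_eq_bot']
    intro z hz
    obtain ⟨i', y, rfl⟩ := Module.DirectLimit.exists_of z
    rw [Module.DirectLimit.lift_of] at hz
    obtain ⟨k, hik, hk⟩ := Module.DirectLimit.of.zero_exact hz
    obtain ⟨h, hh⟩ := hj i'.1 k hik
    have hjmem : j i'.1 ∈ I' := j_mem_cl s0 j ub i'.2
    have h0 : f i'.1 (j i'.1) (hij i'.1) y = 0 := by
      rw [hh, LinearMap.comp_apply, hk, map_zero]
    have hle : i' ≤ (⟨j i'.1, hjmem⟩ : I') := hij i'.1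
    have h1 := Module.DirectLimit.of_f (R := R) (ι := I') (G := fun i : I' => G i.1)
      (f := fun (i j : I') (h : i ≤ j) => f i.1 j.1 h) (hij := hle) (x := y)
    rw [← h1]
    change Module.DirectLimit.of R I' (fun i : I' => G i.1) _ ⟨j i'.1, hjmem⟩
      (f i'.1 (j i'.1) (hij i'.1) y) = 0
    rw [h0, map_zero]
  · -- surjective
    rw [← LinearMap.range_eq_top, eq_top_iff, ← hspan, Submodule.span_le]
    intro x hx
    have hmem : ix x ∈ I' := subset_cl s0 j ub (Set.mem_insert_of_mem _ ⟨x, hx, rfl⟩)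
    refine ⟨Module.DirectLimit.of R I' (fun i : I' => G i.1) _ ⟨ix x, hmem⟩ (yx x), ?_⟩
    rw [Module.DirectLimit.lift_of]
    exact hyx x


end Groth.Agent.Helper1.ML3
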