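import Mathlib
import Groth.Prelude.Def_Found
import Groth.Prelude.Def_CAlgX
import Groth.Agent.Lib.Helper1.ML2
set_option autoImplicit false
open TensorProduct
universe u
namespace Groth.Agent.Helper1.ML4
open Groth.Agent.Helper1 Groth.Agent.Helper1.ML2

variable {R : Type u} [CommRing R]

/-- domination (for all `N`) implies inclusion of plain kernels -/
theorem ker_le_of_dominates {P M Q : Type u} [AddCommGroup P] [Module R P] [AddCommGroup M]
    [Module R M] [AddCommGroup Q] [Module R Q] (f : P →ₗ[R] M) (g : P →ₗ[R] Q)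
    (h : LinearMap.ker (f.rTensor R) ≤ LinearMap.ker (g.rTensor R)) :
    LinearMap.ker f ≤ LinearMap.ker g := by
  intro x hx
  rw [LinearMap.mem_ker] at hx ⊢
  have h1 : x ⊗ₜ[R] (1 : R) ∈ LinearMap.ker (f.rTensor R) := by
    rw [LinearMap.mem_ker, LinearMap.rTensor_tmul, hx, zero_tmul]
  have h2 := h h1
  rw [LinearMap.mem_ker, LinearMap.rTensor_tmul] at h2
  have h3 := congrArg (TensorProduct.rid R Q) h2
  simpa using h3

section Seq
variable {M : Type u} [AddCommGroup M] [Module R M] (z : ℕ → M)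

/-- the finite-level maps -/
noncomputable def fm (m : ℕ) : (Fin m → R) →ₗ[R] M :=
  (Pi.basisFun R (Fin m)).constr R (fun i => z i.val)

lemma fm_single (m : ℕ) (i : Fin m) : fm z m (Pi.single i (1 : R)) = z i.val := by
  have := (Pi.basisFun R (Fin m)).constr_basis R (fun i => z i.val) i
  rwa [Pi.basisFun_apply] at this

/-- extension by zero in the last coordinate -/
noncomputable def incl (m : ℕ) : (Fin m → R) →ₗ[R] (Fin (m + 1) → R) :=
  (Pi.basisFun R (Fin m)).constr R (fun i => Pi.single i.castSucc 1)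

lemma incl_single (m : ℕ) (i : Fin m) :
    incl (R := R) m (Pi.single i 1) = Pi.single i.castSucc 1 := by
  have := (Pi.basisFun R (Fin m)).constr_basis R (fun i => (Pi.single i.castSucc 1 : Fin (m+1) → R)) i
  rwa [Pi.basisFun_apply] at this

lemma fm_incl (m : ℕ) : fm (R := R) z (m + 1) ∘ₗ incl m = fm z m := by
  apply (Pi.basisFun R (Fin m)).ext
  intro i
  rw [Pi.basisFun_apply, LinearMap.comp_apply, incl_single, fm_single, fm_single]
  rfl

/-- embedding into finitely supported functions -/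
noncomputable def emb (m : ℕ) : (Fin m → R) →ₗ[R] (ℕ →₀ R) :=
  (Pi.basisFun R (Fin m)).constr R (fun i => Finsupp.single i.val 1)

lemma emb_single (m : ℕ) (i : Fin m) :
    emb (R := R) m (Pi.single i 1) = Finsupp.single i.val 1 := by
  have := (Pi.basisFun R (Fin m)).constr_basis R (fun i => (Finsupp.single i.val 1 : ℕ →₀ R)) i
  rwa [Pi.basisFun_apply] at this

lemma lc_emb (m : ℕ) {N : Type u} [AddCommGroup N] [Module R N] (y : ℕ → N)
    (β : (Fin m → R) →ₗ[R] N) (hβ : ∀ i : Fin m, β (Pi.single i 1) = y i.val) :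
    Finsupp.linearCombination R y ∘ₗ emb m = β := by
  apply (Pi.basisFun R (Fin m)).ext
  intro i
  rw [Pi.basisFun_apply, LinearMap.comp_apply, emb_single, Finsupp.linearCombination_single,
    one_smul, hβ]

lemma exists_emb (k : ℕ) (c : ℕ →₀ R) : ∃ m, ∃ c' : Fin (k + m) → R, emb (k + m) c' = c := by
  classical
  obtain ⟨m, hm⟩ : ∃ m, ∀ i ∈ c.support, i < k + m := by
    refine ⟨c.support.sup id + 1, fun i hi => ?_⟩
    have := Finset.le_sup (f := id) hi
    simp only [id] at this
    omega
  refine ⟨m, fun i => c i.val, ?_⟩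
  have : (fun i : Fin (k + m) => c i.val) =
      ∑ i : Fin (k + m), c i.val • (Pi.single i 1 : Fin (k + m) → R) := by
    ext j
    simp [Finset.sum_apply, Pi.single_apply]
  rw [this, map_sum]
  simp_rw [map_smul, emb_single]
  ext j
  simp only [Finsupp.coe_finsetSum, Finsupp.coe_smul, Finset.sum_apply, Pi.smul_apply,
    Finsupp.single_apply, smul_eq_mul, mul_ite, mul_one, mul_zero]
  by_cases hj : j < k + m
  · rw [Finset.sum_eq_single ⟨j, hj⟩]
    · simp
    · intro b _ hb
      rw [if_neg]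
      intro h
      exact hb (Fin.ext h)
    · intro h
      exact absurd (Finset.mem_univ _) h
  · rw [Finset.sum_eq_zero]
    · by_contra hne
      exact hj (hm j (Finsupp.mem_support_iff.mpr (Ne.symm hne)))
    · intro b _
      rw [if_neg]
      intro h
      exact hj (h ▸ b.2)

end Seq

section Main
variable {M : Type u} [AddCommGroup M] [Module R M]

theorem exists_endo_free (hM : CAlg.IsMittagLeffler R M) (z : ℕ → M)
    (hz : Submodule.span R (Set.range z) = ⊤) (n : ℕ) :
    ∃ (Q : Type u) (_ : AddCommGroup Q) (_ : Module R Q) (_ : Module.FinitePresentation R Q)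
      (b : M →ₗ[R] Q) (c : Q →ₗ[R] M), (c ∘ₗ b) ∘ₗ fm z n = fm z n := by
  classical
  -- dominating factorizations at every level
  have hex : ∀ m, ∃ j : Fact (fm (R := R) z (n + m)), ∀ (N : Type u) [AddCommGroup N] [Module R N],
      LinearMap.ker ((fm (R := R) z (n + m)).rTensor N) ≤ LinearMap.ker (j.g.rTensor N) :=
    fun m => Fact.exists_dominating _ hM
  choose j hj using hex
  have hfp : ∀ m, Module.FinitePresentation R (j m).Q := fun m => (j m).finitePresentation
  -- the backward maps
  have hu : ∀ m, ∃ u : (j (m + 1)).Q →ₗ[R] (j m).Q,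
      (j m).g = u ∘ₗ ((j (m + 1)).g ∘ₗ incl (n + m)) := by
    intro m
    have : Module.FinitePresentation R
        ((j (m + 1)).Q ⧸ LinearMap.range ((j (m + 1)).g ∘ₗ incl (R := R) (n + m))) := by
      apply Module.finitePresentation_of_surjective
        (LinearMap.range ((j (m + 1)).g ∘ₗ incl (R := R) (n + m))).mkQ
        (Submodule.mkQ_surjective _)
      rw [Submodule.ker_mkQ, LinearMap.range_eq_map]
      exact Module.Finite.fg_top.map _
    apply exists_factor_of_dominates
    intro N _ _ x hx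
    apply hj m N
    rw [LinearMap.mem_ker] at hx ⊢
    have h1 : ((fm (R := R) z (n + (m + 1))).rTensor N) ((incl (n + m)).rTensor N x) = 0 := by
      have := (j (m + 1)).ker_le N (x := (incl (n + m)).rTensor N x) (by
        rw [LinearMap.mem_ker, ← LinearMap.comp_apply, ← LinearMap.rTensor_comp]
        exact hx)
      exact this
    rw [← LinearMap.comp_apply, ← LinearMap.rTensor_comp] at h1
    have h2 : fm (R := R) z (n + (m + 1)) ∘ₗ incl (n + m) = fm z (n + m) := fm_incl z (n + m)
    rw [h2] at h1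
    exact h1
  choose u hu using hu
  -- the maps to level zero
  obtain ⟨γ, hγ0, hγs⟩ : ∃ γ : ∀ m, (j m).Q →ₗ[R] (j 0).Q, γ 0 = LinearMap.id ∧
      ∀ m, γ (m + 1) = γ m ∘ₗ u m :=
    ⟨fun m => Nat.rec (motive := fun m => (j m).Q →ₗ[R] (j 0).Q) LinearMap.id
      (fun m γm => γm ∘ₗ u m) m, rfl, fun m => rfl⟩
  obtain ⟨β, hβ⟩ : ∃ β : ∀ m, (Fin (n + m) → R) →ₗ[R] (j 0).Q, ∀ m, β m = γ m ∘ₗ (j m).g :=
    ⟨fun m => γ m ∘ₗ (j m).g, fun m => rfl⟩
  have hβc : ∀ m, β (m + 1) ∘ₗ incl (n + m) = β m := by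
    intro m
    rw [hβ, hβ, hγs, LinearMap.comp_assoc, LinearMap.comp_assoc, ← hu m]
  -- the value on the `i`-th basis vector does not depend on the level
  have hv : ∀ (m m' : ℕ) (_ : m ≤ m') (i : ℕ) (h : i < n + m) (h' : i < n + m'),
      β m' (Pi.single ⟨i, h'⟩ 1) = β m (Pi.single ⟨i, h⟩ 1) := by
    intro m m' hmm'
    induction m', hmm' using Nat.le_induction with
    | base => intro i h h'; rfl
    | succ m' hm' ih =>
      intro i h h'
      have h'' : i < n + m' := by omega
      have e1 : β (m' + 1) (Pi.single ⟨i, h'⟩ 1) =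
          β (m' + 1) (incl (n + m') (Pi.single ⟨i, h''⟩ 1)) := by
        rw [incl_single]; rfl
      rw [e1, ← LinearMap.comp_apply, hβc]
      exact ih i h h''
  let y : ℕ → (j 0).Q := fun i => β (i + 1) (Pi.single ⟨i, by omega⟩ 1)
  have hy : ∀ m (i : Fin (n + m)), β m (Pi.single i 1) = y i.val := by
    intro m i
    rcases le_total m (i.val + 1) with h | h
    · exact (hv m (i.val + 1) h i.val i.2 (by omega)).symm
    · exact hv (i.val + 1) m h i.val (by omega) i.2
  let B : (ℕ →₀ R) →ₗ[R] (j 0).Q := Finsupp.linearCombination R y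
  let F : (ℕ →₀ R) →ₗ[R] M := Finsupp.linearCombination R z
  have hB : ∀ m, B ∘ₗ emb (n + m) = β m := fun m => lc_emb (n + m) y (β m) (hy m)
  have hF : ∀ m, F ∘ₗ emb (n + m) = fm z (n + m) := fun m =>
    lc_emb (n + m) z (fm z (n + m)) (fm_single z (n + m))
  have hFsurj : Function.Surjective F := by
    rw [← LinearMap.range_eq_top, Finsupp.range_linearCombination, hz]
  have hker : LinearMap.ker F ≤ LinearMap.ker B := by
    intro c hc
    obtain ⟨m, c', rfl⟩ := exists_emb n c
    rw [LinearMap.mem_ker] at hc ⊢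
    rw [← LinearMap.comp_apply, hF] at hc
    rw [← LinearMap.comp_apply, hB]
    have h1 : c' ∈ LinearMap.ker (j m).g :=
      ker_le_of_dominates _ _ (hj m R) hc
    rw [hβ, LinearMap.comp_apply, LinearMap.mem_ker.mp h1, map_zero]
  let b : M →ₗ[R] (j 0).Q :=
    (LinearMap.ker F).liftQ B hker ∘ₗ (F.quotKerEquivOfSurjective hFsurj).symm.toLinearMap
  have hb : ∀ c, b (F c) = B c := by
    intro c
    simp only [b, LinearMap.comp_apply, LinearEquiv.coe_coe]
    have : (F.quotKerEquivOfSurjective hFsurj).symm (F c) = Submodule.Quotient.mk c := by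
      rw [LinearEquiv.symm_apply_eq]
      rfl
    rw [this, Submodule.liftQ_apply]
  refine ⟨(j 0).Q, inferInstance, inferInstance, hfp 0, b, (j 0).h, ?_⟩
  refine LinearMap.ext fun x => ?_
  have e1 : fm z n x = F (emb (n + 0) x) := by
    rw [← LinearMap.comp_apply, hF 0]
    rfl
  rw [LinearMap.comp_apply, LinearMap.comp_apply, e1, hb, ← LinearMap.comp_apply B, hB 0]
  rw [hβ, hγ0, LinearMap.id_comp, ← LinearMap.comp_apply, (j 0).h_comp_g]
  exact e1

end Main

theorem S6361 (R : Type u)
    [CommRing R] (M : Type u) [AddCommGroup M] [Module R M] (hML : CAlg.IsMittagLeffler R M)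
    (hc : CAlg.IsCountablyGenerated R M) {P : Type u} [AddCommGroup P] [Module R P] [Module.Finite R P]
    (f : P →ₗ[R] M) :
    ∃ (Q : Type u) (_ : AddCommGroup Q) (_ : Module R Q) (_ : Module.FinitePresentation R Q)
      (b : M →ₗ[R] Q) (c : Q →ₗ[R] M), (c ∘ₗ b) ∘ₗ f = f := by
  classical
  obtain ⟨s, hs, hspan⟩ := hc
  obtain ⟨n, π, hπ⟩ := Module.Finite.exists_fin' R P
  -- enumerate the generators
  have hs' : (insert (0 : M) s).Countable := hs.insert 0
  obtain ⟨z₀, hz₀⟩ := hs'.exists_eq_range (Set.insert_nonempty _ _)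
  let z : ℕ → M := fun i =>
    if h : i < n then f (π (Pi.single ⟨i, h⟩ 1)) else z₀ (i - n)
  have hz : Submodule.span R (Set.range z) = ⊤ := by
    rw [eq_top_iff, ← hspan]
    apply Submodule.span_mono
    intro x hx
    have : x ∈ Set.range z₀ := by rw [← hz₀]; exact Set.mem_insert_of_mem _ hx
    obtain ⟨k, rfl⟩ := this
    refine ⟨n + k, ?_⟩
    simp only [z]
    rw [dif_neg (by omega)]
    congr 1
    omega
  have hfm : fm z n = f ∘ₗ π := by
    apply (Pi.basisFun R (Fin n)).ext
    intro i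
    rw [Pi.basisFun_apply, fm_single, LinearMap.comp_apply]
    simp only [z]
    rw [dif_pos i.2]
  obtain ⟨Q, i1, i2, i3, b, c, hbc⟩ := exists_endo_free hML z hz n
  refine ⟨Q, i1, i2, i3, b, c, ?_⟩
  refine LinearMap.ext fun p => ?_
  obtain ⟨x, rfl⟩ := hπ p
  have := LinearMap.congr_fun hbc x
  rw [hfm] at this
  exact this

end Groth.Agent.Helper1.ML4
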