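import Mathlib
import Groth.Prelude.Def_Found
import Groth.Prelude.Def_CAlgX
import Groth.Agent.Lib.Helper1.ML2
set_option autoImplicit false
open TensorProduct
universe u
namespace Groth.Agent.Helper1.ML5
open Groth.Agent.Helper1 Groth.Agent.Helper1.ML2

variable {R : Type u} [CommRing R] {S : Type u} [CommRing S] [Algebra R S]

section Psi
variable (M : Type u) [AddCommGroup M] [Module R M]
variable (N : Type u) [AddCommGroup N] [Module R N] [Module S N] [IsScalarTower R S N]

/-- the comparison `M ⊗[R] N ≃ (S ⊗[R] M) ⊗[S] N` for an `S`-module `N` -/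
noncomputable def psi : M ⊗[R] N ≃+ (S ⊗[R] M) ⊗[S] N :=
  (TensorProduct.comm R M N).toAddEquiv.trans
    ((TensorProduct.AlgebraTensorModule.cancelBaseChange R S S N M).symm.toAddEquiv.trans
      (TensorProduct.comm S N (S ⊗[R] M)).toAddEquiv)

lemma psi_tmul (m : M) (n : N) : psi (S := S) M N (m ⊗ₜ[R] n) = ((1 : S) ⊗ₜ[R] m) ⊗ₜ[S] n := by
  simp [psi]

end Psi

/-- Mittag-Leffler property tested only against families of `S`-modules -/
def MLS (R : Type u) [CommRing R] (S : Type u) [CommRing S] [Algebra R S]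
    (M : Type u) [AddCommGroup M] [Module R M] : Prop :=
  ∀ (ι : Type u) (Q : ι → Type u) [∀ i, AddCommGroup (Q i)] [∀ i, Module R (Q i)]
    [∀ i, Module S (Q i)] [∀ i, IsScalarTower R S (Q i)],
    Function.Injective (TensorProduct.piRightHom R R M Q)

theorem mls_of_ml (M : Type u) [AddCommGroup M] [Module R M]
    (h : CAlg.IsMittagLeffler S (S ⊗[R] M)) : MLS R S M := by
  intro ι Q _ _ _ _
  rw [injective_iff_map_eq_zero]
  intro x hx
  have key : ∀ (x : M ⊗[R] (∀ i, Q i)) (i : ι),
      TensorProduct.piRightHom S S (S ⊗[R] M) Q (psi (S := S) M (∀ i, Q i) x) i =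
        psi (S := S) M (Q i) (TensorProduct.piRightHom R R M Q x i) := by
    intro x i
    induction x using TensorProduct.induction_on with
    | zero => simp
    | tmul m q => simp [psi_tmul]
    | add a b ha hb => simp only [map_add, Pi.add_apply, ha, hb]
  have h0 : TensorProduct.piRightHom S S (S ⊗[R] M) Q (psi (S := S) M (∀ i, Q i) x) = 0 := by
    funext i
    rw [key, hx]
    simp
  have h1 := h ι Q (a₁ := psi (S := S) M (∀ i, Q i) x) (a₂ := 0) (by rw [h0, map_zero])
  exact (psi (S := S) M (∀ i, Q i)).map_eq_zero_iff.mp h1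

section Dom
variable {P M : Type u} [AddCommGroup P] [Module R P] [AddCommGroup M] [Module R M]

theorem exists_dominating_S [Module.FinitePresentation R P] (f : P →ₗ[R] M)
    (hM : MLS R S M) :
    ∃ j : Fact f, ∀ (N : Type u) [AddCommGroup N] [Module R N] [Module S N] [IsScalarTower R S N],
      LinearMap.ker (f.rTensor N) ≤ LinearMap.ker (j.g.rTensor N) := by
  classical
  by_contra hcon
  have hcon' : ∀ j : Fact f, ∃ (N : Type u) (_ : AddCommGroup N) (_ : Module R N) (_ : Module S N)
      (_ : IsScalarTower R S N) (y : P ⊗[R] N),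
      (f.rTensor N) y = 0 ∧ (j.g.rTensor N) y ≠ 0 := by
    intro j
    by_contra hj
    apply hcon
    refine ⟨j, fun N _ _ _ _ y hy => ?_⟩
    by_contra hy'
    exact hj ⟨N, inferInstance, inferInstance, inferInstance, inferInstance, y, hy, hy'⟩
  choose N instA instM instS instT y hy1 hy2 using hcon'
  -- the product
  obtain ⟨Y, hY⟩ := ML.piRightHom_surjective_of_finite (N := P) N y
  have h0 : (f.rTensor (∀ j, N j)) Y = 0 := by
    apply hM (Fact f) N
    rw [map_zero]
    funext j
    rw [ML.piRightHom_natural, hY, hy1]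
    rfl
  obtain ⟨j₀, hj₀⟩ := Fact.exists_kills f (∀ j, N j) Y h0
  apply hy2 j₀
  have := congrFun (congrArg (TensorProduct.piRightHom R R j₀.Q N) hj₀) j₀
  rw [ML.piRightHom_natural, hY] at this
  rw [this]
  simp

/-- purity of `N → S ⊗ N` for faithfully flat `S` -/
theorem lTensor_mk_injective [Module.FaithfullyFlat R S] (Q N : Type u) [AddCommGroup Q] [Module R Q]
    [AddCommGroup N] [Module R N] :
    Function.Injective ((TensorProduct.mk R S N 1).lTensor Q) := by
  have : ((TensorProduct.mk R S N 1).lTensor Q) =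
      (TensorProduct.leftComm R S Q N).toLinearMap ∘ₗ (TensorProduct.mk R S (Q ⊗[R] N) 1) := by
    apply TensorProduct.ext'
    intro q n
    simp
  rw [this, LinearMap.coe_comp, LinearEquiv.coe_coe, EmbeddingLike.comp_injective]
  exact Module.FaithfullyFlat.tensorProduct_mk_injective (A := R) (B := S) (Q ⊗[R] N)

theorem exists_dominating_of_mls [Module.FaithfullyFlat R S] [Module.FinitePresentation R P]
    (f : P →ₗ[R] M) (hM : MLS R S M) :
    ∃ j : Fact f, ∀ (N : Type u) [AddCommGroup N] [Module R N],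
      LinearMap.ker (f.rTensor N) ≤ LinearMap.ker (j.g.rTensor N) := by
  obtain ⟨j, hj⟩ := exists_dominating_S (S := S) f hM
  refine ⟨j, fun N _ _ y hy => ?_⟩
  rw [LinearMap.mem_ker] at hy ⊢
  have h1 := hj (S ⊗[R] N)
  have h2 : ((TensorProduct.mk R S N 1).lTensor P) y ∈ LinearMap.ker (f.rTensor (S ⊗[R] N)) := by
    rw [LinearMap.mem_ker, ← LinearMap.comp_apply, LinearMap.rTensor_comp_lTensor,
      ← LinearMap.lTensor_comp_rTensor, LinearMap.comp_apply, hy, map_zero]
  have h3 := h1 h2
  rw [LinearMap.mem_ker, ← LinearMap.comp_apply, LinearMap.rTensor_comp_lTensor,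
      ← LinearMap.lTensor_comp_rTensor, LinearMap.comp_apply] at h3
  apply lTensor_mk_injective (S := S) j.Q N
  rw [h3, map_zero]

end Dom

theorem S0586 (R : Type u) [CommRing R] (S : Type u)
    [CommRing S] [Algebra R S] [Module.FaithfullyFlat R S] (M : Type u) [AddCommGroup M] [Module R M]
    (h : CAlg.IsMittagLeffler S (TensorProduct R S M)) : CAlg.IsMittagLeffler R M := by
  apply ml_of_fin_free_dominating
  intro n f
  obtain ⟨j, hj⟩ := exists_dominating_of_mls (S := S) f (mls_of_ml M h)
  exact ⟨j.Q, inferInstance, inferInstance, j.finitePresentation, j.g,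
    fun N _ _ => le_antisymm (hj N) (j.ker_le N)⟩

end Groth.Agent.Helper1.ML5
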