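import Mathlib
import Groth.Prelude.Def_Found
import Groth.Prelude.Def_CAlgX
import Groth.Agent.Lib.Helper1.ML2
set_option autoImplicit false
open TensorProduct
universe u
namespace Groth.Agent.Helper1.ML6
open Groth.Agent.Helper1 Groth.Agent.Helper1.ML2

variable {R : Type u} [CommRing R]

/-- if `M ⊗ R^M → (M ⊗ R)^M` is surjective then `M` is finitely generated -/
theorem finite_of_surj (M : Type u) [AddCommGroup M] [Module R M]
    (h : Function.Surjective (TensorProduct.piRightHom R R M (fun _ : M => R))) :
    Module.Finite R M := by
  obtain ⟨x, hx⟩ := h (fun m => m ⊗ₜ[R] (1 : R))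
  obtain ⟨n, m, q, rfl⟩ := TensorProduct.exists_sum_tmul_eq x
  rw [Module.finite_def, Submodule.fg_def]
  refine ⟨Set.range m, Set.finite_range m, ?_⟩
  rw [eq_top_iff]
  intro y _
  have h1 := congrArg (TensorProduct.rid R M) (congrFun hx y)
  simp only [map_sum, Finset.sum_apply, TensorProduct.piRightHom_tmul, TensorProduct.rid_tmul,
    one_smul] at h1
  rw [← h1]
  exact Submodule.sum_mem _ (fun k _ => Submodule.smul_mem _ _ (Submodule.subset_span ⟨k, rfl⟩))

theorem S0587 (M : Type u) [AddCommGroup M] [Module R M] :
    Module.Finite R M ↔ ∀ (ι : Type u) (Q : ι → Type u) [∀ i, AddCommGroup (Q i)]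
      [∀ i, Module R (Q i)], Function.Surjective (TensorProduct.piRightHom R R M Q) := by
  constructor
  · intro _ ι Q _ _
    exact ML.piRightHom_surjective_of_finite Q
  · intro h
    exact finite_of_surj M (h M (fun _ => R))

theorem S0588 (M : Type u) [AddCommGroup M] [Module R M] :
    Module.FinitePresentation R M ↔ ∀ (ι : Type u) (Q : ι → Type u) [∀ i, AddCommGroup (Q i)]
      [∀ i, Module R (Q i)], Function.Bijective (TensorProduct.piRightHom R R M Q) := by
  constructor
  · intro _ ι Q _ _
    exact ⟨ml_of_finitePresentation M ι Q, ML.piRightHom_surjective_of_finite Q⟩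
  · intro h
    have hfin : Module.Finite R M := finite_of_surj M (h M (fun _ => R)).2
    obtain ⟨n, π, hπ⟩ := Module.Finite.exists_fin' R M
    let K := LinearMap.ker π
    have hex : Function.Exact K.subtype π := LinearMap.exact_subtype_ker_map π
    have hKfin : Module.Finite R K := by
      apply finite_of_surj
      intro y
      let Q : K → Type u := fun _ => R
      let z : ∀ a : K, (Fin n → R) ⊗[R] Q a := fun a => (K.subtype.rTensor R) (y a)
      obtain ⟨z', hz'⟩ := ML.piRightHom_surjective_of_finite (N := Fin n → R) Q z
      have hw : (π.rTensor (∀ a, Q a)) z' = 0 := by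
        apply (h K Q).1
        rw [map_zero]
        funext a
        rw [ML.piRightHom_natural, hz']
        simp only [z]
        rw [← LinearMap.comp_apply, ← LinearMap.rTensor_comp, hex.linearMap_comp_eq_zero,
          LinearMap.rTensor_zero, LinearMap.zero_apply]
        rfl
      obtain ⟨y', hy'⟩ := (rTensor_exact (∀ a, Q a) hex hπ z').mp hw
      refine ⟨y', ?_⟩
      funext a
      have hinj : Function.Injective (K.subtype.rTensor R) :=
        Module.Flat.rTensor_preserves_injective_linearMap _ K.subtype_injective
      apply hinj
      have e1 := ML.piRightHom_natural K.subtype Q y' a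
      rw [hy', hz'] at e1
      exact e1.symm
    exact Module.finitePresentation_of_surjective π hπ (Module.Finite.iff_fg.mp hKfin)

end Groth.Agent.Helper1.ML6
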