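import Mathlib
import Groth.Prelude.Def_Found
import Groth.Prelude.Def_CAlgX
import Groth.Agent.Lib.Helper1.ML4
set_option autoImplicit false
open TensorProduct
universe u
namespace Groth.Agent.Helper1.ML7
open Groth.Agent.Helper1

variable {R : Type u} [CommRing R] {M : Type u} [AddCommGroup M] [Module R M]

theorem exists_factor_of_ker_le {A B C : Type u} [AddCommGroup A] [Module R A] [AddCommGroup B]
    [Module R B] [AddCommGroup C] [Module R C] (p : A →ₗ[R] B) (hp : Function.Surjective p)
    (f : A →ₗ[R] C) (h : LinearMap.ker p ≤ LinearMap.ker f) :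
    ∃ g : B →ₗ[R] C, ∀ a, g (p a) = f a := by
  let e := LinearMap.quotKerEquivOfSurjective p hp
  refine ⟨((LinearMap.ker p).liftQ f h) ∘ₗ e.symm.toLinearMap, fun v => ?_⟩
  have h1 : e.symm (p v) = Submodule.Quotient.mk v := by
    rw [LinearEquiv.symm_apply_eq]
    exact (LinearMap.quotKerEquivOfSurjective_apply_mk _ hp v).symm
  rw [LinearMap.comp_apply, LinearEquiv.coe_coe, h1, Submodule.liftQ_apply]

/-- a factorization of an endomorphism through a finite free module -/
structure Datum (R : Type u) [CommRing R] (M : Type u) [AddCommGroup M] [Module R M] : Type u where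
  k : ℕ
  b : M →ₗ[R] (Fin k →₀ R)
  c : (Fin k →₀ R) →ₗ[R] M

/-- the endomorphism of a datum -/
noncomputable def Datum.a (D : Datum R M) : M →ₗ[R] M := D.c ∘ₗ D.b

section Tele
variable (z : ℕ → M) (hz : Submodule.span R (Set.range z) = ⊤)
  (D : ℕ → Datum R M) (hD0 : (D 0).a = 0)
  (hDz : ∀ n j, j ≤ n → (D (n + 1)).a (z j) = z j)
  (hDc : ∀ n, (D (n + 1)).a ∘ₗ (D n).c = (D n).c)

/-- the free module `⊕ F_n` -/
abbrev T : Type u := (Σ n, Fin (D n).k) →₀ R

/-- the inclusion of the `n`-th summand -/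
noncomputable def lofT (n : ℕ) : (Fin (D n).k →₀ R) →ₗ[R] T D :=
  Finsupp.lmapDomain R R (fun i : Fin (D n).k => (⟨n, i⟩ : Σ n, Fin (D n).k))

/-- the summation map `⊕ F_n → M` -/
noncomputable def sMap : T D →ₗ[R] M :=
  Finsupp.linearCombination R (fun p : Σ n, Fin (D n).k => (D p.1).c (Finsupp.single p.2 1))

lemma sMap_lofT (n : ℕ) (y : Fin (D n).k →₀ R) : sMap D (lofT D n y) = (D n).c y := by
  have : sMap D ∘ₗ lofT D n = (D n).c := by
    ext i
    simp [sMap, lofT]
  rw [← this, LinearMap.comp_apply]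

/-- partial sections -/
noncomputable def iMap (N : ℕ) : M →ₗ[R] T D :=
  ∑ n ∈ Finset.range N, (lofT D (n + 1)) ∘ₗ (D (n + 1)).b ∘ₗ (LinearMap.id - (D n).a)

include hD0 hDc in
lemma sMap_iMap (N : ℕ) : sMap D ∘ₗ iMap D N = (D N).a := by
  induction N with
  | zero => simp [iMap, hD0]
  | succ N ih =>
    rw [iMap, Finset.sum_range_succ, ← iMap, LinearMap.comp_add, ih]
    ext x
    have h1 : (D (N + 1)).a ((D N).a x) = (D N).a x := by
      have := LinearMap.congr_fun (hDc N) ((D N).b x)
      simpa [Datum.a] using this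
    simp only [LinearMap.add_apply, LinearMap.comp_apply, sMap_lofT,
      LinearMap.sub_apply, LinearMap.id_apply, map_sub]
    change (D N).a x + ((D (N+1)).a x - (D (N+1)).a ((D N).a x)) = _
    rw [h1]
    abel

include hDz in
lemma iMap_z (j N : ℕ) (hjN : j + 1 ≤ N) : iMap D N (z j) = iMap D (j + 1) (z j) := by
  induction N, hjN using Nat.le_induction with
  | base => rfl
  | succ N hN ih =>
    rw [iMap, Finset.sum_range_succ, ← iMap, LinearMap.add_apply, ih]
    simp only [LinearMap.comp_apply, LinearMap.sub_apply, LinearMap.id_apply]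
    obtain ⟨N', rfl⟩ : ∃ N', N = N' + 1 := ⟨N - 1, by omega⟩
    rw [hDz N' j (by omega), sub_self, map_zero, map_zero, add_zero]

/-- the map on the free module `ℕ →₀ R` -/
noncomputable def psiT : (ℕ →₀ R) →ₗ[R] T D :=
  Finsupp.linearCombination R (fun j => iMap D (j + 1) (z j))

include hDz in
lemma psiT_eq (v : ℕ →₀ R) (m : ℕ) (hm : ∀ j ∈ v.support, j + 1 ≤ m) :
    psiT z D v = iMap D m (Finsupp.linearCombination R z v) := by
  rw [psiT, Finsupp.linearCombination_apply, Finsupp.linearCombination_apply, Finsupp.sum,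
    Finsupp.sum, map_sum]
  refine Finset.sum_congr rfl (fun j hj => ?_)
  rw [map_smul, iMap_z z D hDz j m (hm j hj)]

lemma exists_bound (v : ℕ →₀ R) : ∃ m, ∀ j ∈ v.support, j + 1 ≤ m :=
  ⟨v.support.sup id + 1, fun j hj => by
    have : j ≤ v.support.sup id := Finset.le_sup (f := id) hj
    omega⟩

include hz in
lemma lc_surj : Function.Surjective (Finsupp.linearCombination R z) := by
  rw [← LinearMap.range_eq_top, Finsupp.range_linearCombination, hz]

include hDz in
lemma ker_le_ker_psiT :
    LinearMap.ker (Finsupp.linearCombination R z) ≤ LinearMap.ker (psiT z D) := by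
  intro v hv
  obtain ⟨m, hm⟩ := exists_bound v
  rw [LinearMap.mem_ker] at hv ⊢
  rw [psiT_eq z D hDz v m hm, hv, map_zero]

include hz hDz in
lemma exists_psi : ∃ ψ : M →ₗ[R] T D, ∀ v, ψ (Finsupp.linearCombination R z v) = psiT z D v :=
  exists_factor_of_ker_le (Finsupp.linearCombination R z) (lc_surj z hz) (psiT z D)
    (ker_le_ker_psiT z D hDz)

include hz hD0 hDz hDc in
theorem projective_of_data : Module.Projective R M := by
  have hsurj := lc_surj z hz
  obtain ⟨ψ, hψ⟩ := exists_psi z hz D hDz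
  apply Module.Projective.of_split ψ (sMap D)
  refine LinearMap.ext fun x => ?_
  obtain ⟨v, rfl⟩ := hsurj x
  obtain ⟨m, hm⟩ := exists_bound v
  rw [LinearMap.comp_apply, hψ, psiT_eq z D hDz v m hm, ← LinearMap.comp_apply,
    sMap_iMap D hD0 hDc m, LinearMap.id_apply]
  rw [Finsupp.linearCombination_apply, Finsupp.sum, map_sum]
  refine Finset.sum_congr rfl (fun j hj => ?_)
  have hjm := hm j hj
  obtain ⟨m', rfl⟩ : ∃ m', m = m' + 1 := ⟨m - 1, by omega⟩
  rw [map_smul, hDz m' j (by omega)]

end Tele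

section Main

/-- local dual bases suffice for projectivity of countably generated modules -/
theorem projective_of_local (hc : CAlg.IsCountablyGenerated R M)
    (h : ∀ P : Submodule R M, P.FG → ∃ D : Datum R M, ∀ x ∈ P, D.a x = x) :
    Module.Projective R M := by
  classical
  obtain ⟨s, hs, hspan⟩ := hc
  -- enumerate generators
  obtain ⟨z, hz⟩ : ∃ z : ℕ → M, Submodule.span R (Set.range z) = ⊤ := by
    rcases Set.eq_empty_or_nonempty s with rfl | hne
    · refine ⟨fun _ => 0, ?_⟩
      rw [eq_top_iff, ← hspan]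
      simp
    · obtain ⟨z, hz⟩ := hs.exists_eq_range hne
      exact ⟨z, by rw [← hz, hspan]⟩
  choose next hnext using fun P : {P : Submodule R M // P.FG} => h P.1 P.2
  let Pn : ℕ → Datum R M → Submodule R M := fun n D =>
    Submodule.span R (z '' {j | j ≤ n}) ⊔ LinearMap.range D.c
  have hPn : ∀ n D, (Pn n D).FG := by
    intro n D
    refine Submodule.FG.sup ?_ ?_
    · exact Submodule.fg_span ((Set.finite_le_nat n).image z)
    · rw [LinearMap.range_eq_map]
      exact (Module.Finite.fg_top).map _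
  let D : ℕ → Datum R M := fun n => Nat.rec ⟨0, 0, 0⟩ (fun n D => next ⟨Pn n D, hPn n D⟩) n
  have hDsucc : ∀ n, D (n + 1) = next ⟨Pn n (D n), hPn n (D n)⟩ := fun n => rfl
  refine projective_of_data z hz D ?_ ?_ ?_
  · simp [D, Datum.a]
  · intro n j hj
    rw [hDsucc]
    apply hnext
    exact Submodule.mem_sup_left (Submodule.subset_span ⟨j, hj, rfl⟩)
  · intro n
    ext x
    rw [hDsucc]
    simp only [LinearMap.comp_apply]
    apply hnext
    exact Submodule.mem_sup_right ⟨_, rfl⟩

theorem exists_datum [Module.Flat R M] (hML : CAlg.IsMittagLeffler R M)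
    (hc : CAlg.IsCountablyGenerated R M) (P : Submodule R M) (hP : P.FG) :
    ∃ D : Datum R M, ∀ x ∈ P, D.a x = x := by
  have : Module.Finite R P := Module.Finite.iff_fg.mpr hP
  obtain ⟨Q, _, _, _, b', c', hbc⟩ := ML4.S6361 R M hML hc P.subtype
  obtain ⟨k, h₂, h₃, h23⟩ := Module.Flat.exists_factorization_of_finitePresentation c'
  refine ⟨⟨k, h₂ ∘ₗ b', h₃⟩, fun x hx => ?_⟩
  have := LinearMap.congr_fun hbc ⟨x, hx⟩
  simp only [LinearMap.comp_apply, Submodule.subtype_apply] at this
  rw [h23] at this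
  exact this

/-- countably generated flat Mittag-Leffler modules are projective -/
theorem projective_of_flat_ml_cg [Module.Flat R M] (hML : CAlg.IsMittagLeffler R M)
    (hc : CAlg.IsCountablyGenerated R M) : Module.Projective R M :=
  projective_of_local hc (fun P hP => exists_datum hML hc P hP)

end Main

end Groth.Agent.Helper1.ML7
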