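import Mathlib
import Groth.Prelude.Def_Found
import Groth.Prelude.Def_CAlgX
import Groth.Agent.Lib.Helper1.ML7
import Groth.Agent.Lib.Helper1.Kap
set_option autoImplicit false
open TensorProduct
universe u
namespace Groth.Agent.Helper1.ML8
open Groth.Agent.Helper1 Groth.Agent.Helper1.ML2 Groth.Agent.Helper1.Kap

variable {R : Type u} [CommRing R] {M : Type u} [AddCommGroup M] [Module R M]

theorem ml_of_retract {N : Type u} [AddCommGroup N] [Module R N] (i : N →ₗ[R] M) (r : M →ₗ[R] N)
    (h : r ∘ₗ i = LinearMap.id) (hM : CAlg.IsMittagLeffler R M) : CAlg.IsMittagLeffler R N := by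
  refine ML.of_univInj i ?_ hM
  intro Q _ _
  have h1 : r.rTensor Q ∘ₗ i.rTensor Q = LinearMap.id := by
    rw [← LinearMap.rTensor_comp, h, LinearMap.rTensor_id]
  intro a b hab
  have h2 := congrArg (r.rTensor Q) hab
  rw [← LinearMap.comp_apply, ← LinearMap.comp_apply, h1] at h2
  exact h2

lemma CG.comap_of_injective {M' : Type u} [AddCommGroup M'] [Module R M'] (s : M' →ₗ[R] M)
    (hs : Function.Injective s) {k : Submodule R M} (hk : k ≤ LinearMap.range s) (h : CG k) :
    CG (k.comap s) := by
  obtain ⟨t, ht, rfl⟩ := h
  refine ⟨s ⁻¹' t, ht.preimage hs, ?_⟩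
  apply Submodule.map_injective_of_injective hs
  rw [Submodule.map_span, Submodule.map_comap_eq, inf_eq_right.mpr hk,
    Set.image_preimage_eq_inter_range]
  congr 1
  rw [Set.inter_eq_left]
  exact fun x hx => hk (Submodule.subset_span hx)

open scoped Classical in
theorem internal_of_set' {M' : Type u} [AddCommGroup M'] [Module R M'] (s : M' →ₗ[R] M)
    (hs : Function.Injective s) (L : Set (Submodule R M)) (hLcg : ∀ l ∈ L, CG l)
    (hLind : sSupIndep L) (hLsup : sSup L = LinearMap.range s) :
    ∃ (κ : Type u) (Lf : κ → Submodule R M'), DirectSum.IsInternal Lf ∧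
      ∀ k, CAlg.IsCountablyGenerated R (Lf k) := by
  have hle : ∀ k : L, k.1 ≤ LinearMap.range s := fun k => (le_sSup k.2).trans_eq hLsup
  have hmap : ∀ k : L, (Submodule.comap s k.1).map s = k.1 := by
    intro k
    rw [Submodule.map_comap_eq, inf_eq_right.mpr (hle k)]
  have hind : iSupIndep (fun k : L => k.1) := (sSupIndep_iff L).mp hLind
  have hI : iSupIndep (fun k : L => Submodule.comap s k.1) ∧
      iSup (fun k : L => Submodule.comap s k.1) = ⊤ := by
    constructor
    · intro k
      rw [Submodule.disjoint_def]
      intro x hxk hx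
      have h1 : s x ∈ k.1 := hxk
      have h2 : s x ∈ ⨆ j, ⨆ (_ : j ≠ k), j.1 := by
        have h3 := Submodule.mem_map_of_mem (f := s) hx
        rw [Submodule.map_iSup] at h3
        simp_rw [Submodule.map_iSup, hmap] at h3
        exact h3
      have h4 := Submodule.disjoint_def.mp (hind k) (s x) h1 h2
      exact hs (by rw [h4, map_zero])
    · apply Submodule.map_injective_of_injective hs
      rw [Submodule.map_iSup, Submodule.map_top]
      simp_rw [hmap]
      rw [← hLsup, sSup_eq_iSup']
  have h5 := (DirectSum.isInternal_submodule_iff_iSupIndep_and_iSup_eq_top _).mpr hI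
  refine ⟨L, fun k => Submodule.comap s k.1, ?_, ?_⟩
  · convert h5 using 2
  intro k
  exact module_of_cg (CG.comap_of_injective s hs (hle k) (hLcg k.1 k.2))

theorem ml_finsupp (A : Type u) : CAlg.IsMittagLeffler R (A →₀ R) := by
  classical
  exact ml_of_equiv (finsuppLEquivDirectSum R R A) (ml_directSum _ (fun _ => ml_self))

theorem ml_of_projective [Module.Projective R M] : CAlg.IsMittagLeffler R M := by
  obtain ⟨s, hs⟩ := Module.projective_def'.mp (inferInstance : Module.Projective R M)
  exact ml_of_retract s (Finsupp.linearCombination R id) hs (ml_finsupp M)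

open scoped Classical in
theorem exists_internal_cg_of_projective [Module.Projective R M] :
    ∃ (ι : Type u) (N : ι → Submodule R M), DirectSum.IsInternal N ∧
      ∀ i, CAlg.IsCountablyGenerated R (N i) := by
  obtain ⟨s, hs⟩ := Module.projective_def'.mp (inferInstance : Module.Projective R M)
  have hs' : ∀ m, Finsupp.linearCombination R id (s m) = m := fun m => LinearMap.congr_fun hs m
  have hsinj : Function.Injective s := by
    intro a b hab
    rw [← hs' a, ← hs' b, hab]
  obtain ⟨L, hLcg, hLind, hLsup⟩ := exists_decomp
    (N := fun m : M => LinearMap.range (Finsupp.lsingle (R := R) (M := R) m))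
    (p := s ∘ₗ Finsupp.linearCombination R id) (P := LinearMap.range s)
    (fun x => ⟨_, rfl⟩)
    (fun x hx => by
      obtain ⟨m, rfl⟩ := hx
      rw [LinearMap.comp_apply, hs'])
    (iSupIndep_range_lsingle M R R)
    (fun m => ⟨{Finsupp.single m 1}, Set.countable_singleton _, by
      rw [LinearMap.range_eq_map, ← Ideal.span_singleton_one, Submodule.map_span,
        Set.image_singleton]
      rfl⟩)
    Finsupp.iSup_lsingle_range
  exact internal_of_set' s hsinj L hLcg hLind hLsup

open scoped Classical in
theorem projective_of_internal [Module.Flat R M] (hML : CAlg.IsMittagLeffler R M) {ι : Type u}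
    (N : ι → Submodule R M) (hN : DirectSum.IsInternal N)
    (hcg : ∀ i, CAlg.IsCountablyGenerated R (N i)) : Module.Projective R M := by
  let e : (DirectSum ι fun i => N i) ≃ₗ[R] M := LinearEquiv.ofBijective (DirectSum.coeLinearMap N) hN
  have hr : ∀ i, (DirectSum.component R ι (fun i => N i) i ∘ₗ e.symm.toLinearMap) ∘ₗ (N i).subtype =
      LinearMap.id := by
    intro i
    ext x
    have : e.symm (x : M) = DirectSum.lof R ι (fun i => N i) i x := by
      rw [LinearEquiv.symm_apply_eq]
      change (x : M) = DirectSum.coeLinearMap N (DirectSum.lof R ι (fun i => N i) i x)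
      rw [DirectSum.coeLinearMap_lof]
    simp [this]
  have hproj : ∀ i, Module.Projective R (N i) := by
    intro i
    have : Module.Flat R (N i) := Module.Flat.of_retract (N i).subtype _ (hr i)
    exact ML7.projective_of_flat_ml_cg (ml_of_retract (N i).subtype _ (hr i) hML) (hcg i)
  exact Module.Projective.of_equiv e

open scoped Classical in
theorem S0584 (R : Type u) [CommRing R] (M : Type u) [AddCommGroup M] [Module R M] :
    Module.Projective R M ↔ (Module.Flat R M ∧ CAlg.IsMittagLeffler R M ∧
      ∃ (ι : Type u) (N : ι → Submodule R M), DirectSum.IsInternal N ∧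
        ∀ i, CAlg.IsCountablyGenerated R (N i)) := by
  constructor
  · intro _
    exact ⟨inferInstance, ml_of_projective, exists_internal_cg_of_projective⟩
  · rintro ⟨_, hML, ι, N, hN, hcg⟩
    exact projective_of_internal hML N hN hcg

end Groth.Agent.Helper1.ML8
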