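import Mathlib

set_option autoImplicit false

open CategoryTheory Limits Opposite

namespace Groth.Agent.Helper1.MLRange

universe u

section
variable (G : ℕᵒᵖ ⥤ Type u)

/-- transition map -/
def tr {a b : ℕ} (h : a ≤ b) : G.obj (op b) → G.obj (op a) := G.map (homOfLE h).op

lemma tr_tr {a b c : ℕ} (h₁ : a ≤ b) (h₂ : b ≤ c) (e : G.obj (op c)) :
    tr G h₁ (tr G h₂ e) = tr G (h₁.trans h₂) e := by
  unfold tr
  rw [← FunctorToTypes.map_comp_apply]
  rfl

lemma tr_refl {a : ℕ} (e : G.obj (op a)) : tr G (le_refl a) e = e := by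
  unfold tr
  have h : (homOfLE (le_refl a)).op = 𝟙 (op a) := rfl
  rw [h, FunctorToTypes.map_id_apply]

lemma map_eq_tr {n m : ℕ} (f : op n ⟶ op m) (e : G.obj (op n)) :
    G.map f e = tr G (leOfHom f.unop) e := by
  unfold tr
  have h : f = (homOfLE (leOfHom f.unop)).op := by
    apply Quiver.Hom.unop_inj
    exact Subsingleton.elim _ _
  rw [← h]

theorem exists_section (hG : G.IsMittagLeffler) (j : ℕ) (a : G.obj (op j))
    (ha : a ∈ G.eventualRange (op j)) :
    ∃ s ∈ G.sections, s (op j) = a := by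
  have hstep : ∀ (m : ℕ) (e : G.obj (op (j + m))), e ∈ G.eventualRange (op (j + m)) →
      ∃ e' : G.obj (op (j + (m + 1))), e' ∈ G.eventualRange (op (j + (m + 1))) ∧
        tr G (Nat.le_succ (j + m)) e' = e := by
    intro m e he
    obtain ⟨e', he', h⟩ := hG.subset_image_eventualRange G (homOfLE (Nat.le_succ (j + m))).op he
    exact ⟨e', he', h⟩
  let y : ∀ m : ℕ, {e : G.obj (op (j + m)) // e ∈ G.eventualRange (op (j + m))} :=
    fun m => Nat.rec (motive := fun m => {e : G.obj (op (j + m)) //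
        e ∈ G.eventualRange (op (j + m))}) ⟨a, ha⟩
      (fun m ym => ⟨(hstep m ym.1 ym.2).choose, (hstep m ym.1 ym.2).choose_spec.1⟩) m
  have hy0 : (y 0).1 = a := rfl
  have hysucc : ∀ m, tr G (Nat.le_succ (j + m)) (y (m + 1)).1 = (y m).1 :=
    fun m => (hstep m (y m).1 (y m).2).choose_spec.2
  have hy : ∀ m n (h : m ≤ n), tr G (Nat.add_le_add_left h j) (y n).1 = (y m).1 := by
    intro m n h
    induction n, h using Nat.le_induction with
    | base => exact tr_refl G _
    | succ n hmn ih =>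
      rw [← ih, ← hysucc n, tr_tr]
  refine ⟨fun k => tr G (Nat.le_add_left k.unop j) (y k.unop).1, ?_, ?_⟩
  · rintro ⟨n⟩ ⟨m⟩ f
    have hmn : m ≤ n := leOfHom f.unop
    rw [map_eq_tr, tr_tr]
    show tr G _ (y n).1 = tr G _ (y m).1
    rw [← hy m n hmn, tr_tr]
  · show tr G _ (y j).1 = a
    exact hy 0 j (Nat.zero_le j)

end

theorem main (F : ℕᵒᵖ ⥤ AddCommGrpCat.{u})
    (hF : (F ⋙ forget AddCommGrpCat).IsMittagLeffler) :
    (limit.π F (op 0)).hom.range = ⨅ k : ℕ, (F.map (homOfLE (Nat.zero_le k)).op).hom.range ∧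
      ∀ p : ℕ, (limit.π F (op (p + 1))).hom.range ⊓ (F.map (homOfLE (Nat.le_succ p)).op).hom.ker =
        ⨅ (k : ℕ) (hk : p + 1 ≤ k),
          (F.map (homOfLE hk).op).hom.range ⊓ (F.map (homOfLE (Nat.le_succ p)).op).hom.ker := by
  have key : ∀ (j : ℕ) (a : F.obj (op j)),
      (∀ k (hk : j ≤ k), a ∈ (F.map (homOfLE hk).op).hom.range) →
      a ∈ (limit.π F (op j)).hom.range := by
    intro j a ha
    have hev : a ∈ (F ⋙ forget AddCommGrpCat).eventualRange (op j) := by
      rw [Functor.mem_eventualRange_iff]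
      rintro ⟨k⟩ f
      have hk : j ≤ k := leOfHom f.unop
      obtain ⟨b, hb⟩ := AddMonoidHom.mem_range.1 (ha k hk)
      refine ⟨b, ?_⟩
      have h1 : f = (homOfLE hk).op := by
        apply Quiver.Hom.unop_inj
        exact Subsingleton.elim _ _
      rw [h1]; exact hb
    obtain ⟨s, hs, hsj⟩ := exists_section _ hF j a hev
    refine AddMonoidHom.mem_range.2 ⟨(Types.isLimitEquivSections
      (isLimitOfPreserves (forget AddCommGrpCat) (limit.isLimit F))).symm ⟨s, hs⟩, ?_⟩
    have h2 := Types.isLimitEquivSections_symm_apply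
      (isLimitOfPreserves (forget AddCommGrpCat) (limit.isLimit F)) ⟨s, hs⟩ (op j)
    rw [← hsj]; exact h2
  have easy : ∀ (j k : ℕ) (hk : j ≤ k),
      (limit.π F (op j)).hom.range ≤ (F.map (homOfLE hk).op).hom.range := by
    intro j k hk b hb
    obtain ⟨x, rfl⟩ := AddMonoidHom.mem_range.1 hb
    refine AddMonoidHom.mem_range.2 ⟨(limit.π F (op k)).hom x, ?_⟩
    rw [← limit.w F (homOfLE hk).op]
    rfl
  constructor
  · apply le_antisymm
    · exact le_iInf fun k => easy 0 k _
    · intro a ha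
      rw [AddSubgroup.mem_iInf] at ha
      exact key 0 a fun k hk => ha k
  · intro p
    apply le_antisymm
    · refine le_iInf fun k => le_iInf fun hk => ?_
      exact inf_le_inf_right _ (easy (p + 1) k hk)
    · intro a ha
      simp only [AddSubgroup.mem_iInf] at ha
      exact ⟨key (p + 1) a fun k hk => (ha k hk).1, (ha (p + 1) le_rfl).2⟩

end Groth.Agent.Helper1.MLRange
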