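import Mathlib
import Groth.Agent.Lib.Helper1.SpFib6
import Groth.Agent.Lib.Helper1.ExcC2
import Groth.Agent.Lib.Helper3.FibStalk
import Groth.Agent.S1535
import Groth.Agent.S4991

/-!
# Smooth proper models are minimal (helper1)
-/

set_option autoImplicit false
set_option backward.isDefEq.respectTransparency.types false
universe u
open CategoryTheory CategoryTheory.Limits AlgebraicGeometry TopologicalSpace Opposite IsLocalRing

namespace Groth.Agent.Helper1.MinSm

open Groth.Agent.Lead.IdM Groth.Agent.Helper1.QcCech Groth.Agent.Helper1.LGen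
open Groth.Agent.Helper1.TensGen Groth.Agent.Helper1.CocycleIso Groth.Agent.Helper1
open Groth.Agent.Helper1.TmulLib Groth.Agent.Helper1.SpFib

section Alg

theorem isUnit_of_prime_eq_mul {B : Type*} [CommRing B] [IsDomain B] {p d t : B} (hp : Prime p)
    (h : d * t = p) (ht : ¬ IsUnit t) : IsUnit d := by
  have hdvd : p ∣ d * t := ⟨1, by rw [h, mul_one]⟩
  rcases hp.dvd_or_dvd hdvd with ⟨c, hc⟩ | ⟨c, hc⟩
  · exfalso
    apply ht
    have h1 : p * (c * t) = p * 1 := by
      rw [mul_one, ← mul_assoc, ← hc, h]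
    have h2 := mul_left_cancel₀ hp.ne_zero h1
    exact IsUnit.of_mul_eq_one c (by rw [mul_comm]; exact h2)
  · have h1 : p * (d * c) = p * 1 := by
      rw [mul_one, ← mul_assoc, mul_comm p d, mul_assoc, ← hc, h]
    have h2 := mul_left_cancel₀ hp.ne_zero h1
    exact IsUnit.of_mul_eq_one c h2

end Alg

section SpecStalk

variable (R : Type u) [CommRing R] [IsDomain R] [IsDiscreteValuationRing R]

/-- the local rings of the spectrum of a discrete valuation ring are regular -/
theorem isRegularLocalRing_stalk_spec (y : Spec (CommRingCat.of R)) :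
    IsRegularLocalRing ((Spec (CommRingCat.of R)).presheaf.stalk y) := by
  haveI : (PrimeSpectrum.asIdeal y).IsPrime := PrimeSpectrum.isPrime y
  haveI : IsRegularLocalRing (Localization.AtPrime (PrimeSpectrum.asIdeal y)) :=
    IsRegularRing.isRegularLocalRing_localization (PrimeSpectrum.asIdeal y)
  exact IsRegularLocalRing.of_ringEquiv (StructureSheaf.stalkIso R y).toRingEquiv

/-- the maximal ideal of the local ring of `Spec R` at the closed point -/
theorem maximalIdeal_stalk_spec (ϖ : R) (hϖ : Irreducible ϖ) (y : Spec (CommRingCat.of R))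
    (hy : y = closedPoint R) :
    maximalIdeal ((Spec (CommRingCat.of R)).presheaf.stalk y) =
      Ideal.span {((Spec (CommRingCat.of R)).presheaf.germ ⊤ y trivial).hom
        ((Scheme.ΓSpecIso (CommRingCat.of R)).inv.hom ϖ)} := by
  subst hy
  let T : (Spec (CommRingCat.of R)).affineOpens := ⟨⊤, isAffineOpen_top _⟩
  letI := (Spec (CommRingCat.of R)).presheaf.algebra_section_stalk
    (⟨closedPoint R, trivial⟩ : (⊤ : (Spec (CommRingCat.of R)).Opens))
  haveI : (pt T (closedPoint R) trivial).IsPrime := pt_isPrime _ _ _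
  haveI := isLocalization_pt T (closedPoint R) trivial
  have h1 : (pt T (closedPoint R) trivial).map (algebraMap Γ(Spec (CommRingCat.of R), ⊤)
      ((Spec (CommRingCat.of R)).presheaf.stalk (closedPoint R))) =
      maximalIdeal ((Spec (CommRingCat.of R)).presheaf.stalk (closedPoint R)) :=
    IsLocalization.AtPrime.map_eq_maximalIdeal (pt T (closedPoint R) trivial) _
  have hhi : ∀ a : Γ(Spec (CommRingCat.of R), ⊤), (Scheme.ΓSpecIso (CommRingCat.of R)).inv.hom
      ((Scheme.ΓSpecIso (CommRingCat.of R)).hom.hom a) = a := by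
    intro a
    rw [← RingHom.comp_apply, ← CommRingCat.hom_comp, Iso.hom_inv_id]
    rfl
  have hih : ∀ r : R, (Scheme.ΓSpecIso (CommRingCat.of R)).hom.hom
      ((Scheme.ΓSpecIso (CommRingCat.of R)).inv.hom r) = r := by
    intro r
    rw [← RingHom.comp_apply, ← CommRingCat.hom_comp, Iso.inv_hom_id]
    rfl
  have hmem : ∀ a : Γ(Spec (CommRingCat.of R), ⊤), a ∈ pt T (closedPoint R) trivial ↔
      (Scheme.ΓSpecIso (CommRingCat.of R)).hom.hom a ∈ maximalIdeal R := by
    intro a
    rw [mem_pt_iff]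
    have hb : (Spec (CommRingCat.of R)).basicOpen a = PrimeSpectrum.basicOpen
        ((Scheme.ΓSpecIso (CommRingCat.of R)).hom.hom a) := basicOpen_eq_of_affine' _
    have h3 : closedPoint R ∈ PrimeSpectrum.basicOpen
        ((Scheme.ΓSpecIso (CommRingCat.of R)).hom.hom a) ↔
        (Scheme.ΓSpecIso (CommRingCat.of R)).hom.hom a ∉ maximalIdeal R := Iff.rfl
    constructor
    · intro hn
      by_contra hc
      apply hn
      have h4 := h3.2 hc
      rw [← hb] at h4
      exact h4
    · intro hm hmem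
      have h4 : closedPoint R ∈ (Spec (CommRingCat.of R)).basicOpen a := hmem
      rw [hb] at h4
      exact h3.1 h4 hm
  have h2 : pt T (closedPoint R) trivial =
      Ideal.span {(Scheme.ΓSpecIso (CommRingCat.of R)).inv.hom ϖ} := by
    ext a
    rw [hmem, hϖ.maximalIdeal_eq, Ideal.mem_span_singleton', Ideal.mem_span_singleton']
    constructor
    · rintro ⟨c, hc⟩
      refine ⟨(Scheme.ΓSpecIso (CommRingCat.of R)).inv.hom c, ?_⟩
      rw [← map_mul, hc, hhi]
    · rintro ⟨c, hc⟩
      refine ⟨(Scheme.ΓSpecIso (CommRingCat.of R)).hom.hom c, ?_⟩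
      rw [← hc, map_mul, hih]
  rw [← h1, h2, Ideal.map_span, Set.image_singleton]
  rfl

end SpecStalk

section Fib

variable (R : Type u) [CommRing R] [IsDomain R] [IsDiscreteValuationRing R]
  (X : Over (Spec (CommRingCat.of R)))

/-- the kernel of the stalk map of the closed fibre is generated by the uniformizer -/
theorem ker_stalkMap_fiberι_eq (ϖ : R) (hϖ : Irreducible ϖ)
    (x' : X.hom.fiber (closedPoint R)) :
    RingHom.ker ((X.hom.fiberι (closedPoint R)).stalkMap x').hom =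
      Ideal.span {Models.stalkHom R X (X.hom.fiberι (closedPoint R) x') ϖ} := by
  rw [Groth.Agent.Helper3.FibStalk.ker_stalkMap_fiberι X.hom (closedPoint R) x']
  have hfx : X.hom (X.hom.fiberι (closedPoint R) x') = closedPoint R := by
    have : X.hom.fiberι (closedPoint R) x' ∈ Set.range (X.hom.fiberι (closedPoint R)) := ⟨x', rfl⟩
    rw [Scheme.Hom.range_fiberι] at this
    exact this
  rw [maximalIdeal_stalk_spec R ϖ hϖ _ hfx, Ideal.map_span, Set.image_singleton]
  have h3 : (X.hom.stalkMap (X.hom.fiberι (closedPoint R) x')).hom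
      (((Spec (CommRingCat.of R)).presheaf.germ ⊤ (X.hom (X.hom.fiberι (closedPoint R) x'))
        trivial).hom ((Scheme.ΓSpecIso (CommRingCat.of R)).inv.hom ϖ)) =
      Models.stalkHom R X (X.hom.fiberι (closedPoint R) x') ϖ :=
    Scheme.Hom.germ_stalkMap_apply X.hom ⊤ (X.hom.fiberι (closedPoint R) x') trivial _
  rw [h3]

theorem stalkHom_ne_zero [Flat X.hom] (r : R) (hr : r ≠ 0) (x : X.left) :
    Models.stalkHom R X x r ≠ 0 := by
  obtain ⟨_, ⟨W, hW, rfl⟩, hxW, -⟩ := X.left.isBasis_affineOpens.exists_subset_of_mem_open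
    (show x ∈ ((⊤ : X.left.Opens) : Set X.left) from trivial) (⊤ : X.left.Opens).2
  have h2 : (X.left.presheaf.germ W x hxW).hom (sec R X r W) = Models.stalkHom R X x r :=
    X.left.presheaf.germ_res_apply (homOfLE (le_top : W ≤ ⊤)) _ hxW _
  rw [← h2]
  letI := X.left.presheaf.algebra_section_stalk ⟨x, hxW⟩
  haveI : (pt ⟨W, hW⟩ x hxW).IsPrime := pt_isPrime _ _ _
  haveI := isLocalization_pt ⟨W, hW⟩ x hxW
  exact algebraMap_ne_zero (pt ⟨W, hW⟩ x hxW) (X.left.presheaf.stalk x) (sec R X r W)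
    (sec_mem_nonZeroDivisors R X r hr ⟨W, hW⟩)

/-- **the uniformizer is a prime element of the local rings of a smooth scheme at the points of the
closed fibre** -/
theorem prime_stalkHom [Smooth X.hom] (ϖ : R) (hϖ : Irreducible ϖ) (x : X.left)
    (hx : X.hom x = closedPoint R) : Prime (Models.stalkHom R X x ϖ) := by
  obtain ⟨x', rfl⟩ : x ∈ Set.range (X.hom.fiberι (closedPoint R)) := by
    rw [Scheme.Hom.range_fiberι]
    exact hx
  letI iO : (X.hom.fiber (closedPoint R)).Over
      (Spec (CommRingCat.of ((Spec (CommRingCat.of R)).residueField (closedPoint R)))) :=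
    ⟨X.hom.fiberToSpecResidueField (closedPoint R)⟩
  haveI : Smooth ((X.hom.fiber (closedPoint R)) ↘
      Spec (CommRingCat.of ((Spec (CommRingCat.of R)).residueField (closedPoint R)))) := by
    show Smooth (X.hom.fiberToSpecResidueField (closedPoint R))
    unfold Scheme.Hom.fiberToSpecResidueField
    exact MorphismProperty.pullback_snd (P := @Smooth) _ _ ‹Smooth X.hom›
  haveI hregZ : IsRegularLocalRing ((X.hom.fiber (closedPoint R)).presheaf.stalk x') :=
    Groth.Agent.S1535.result ((Spec (CommRingCat.of R)).residueField (closedPoint R))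
      (X.hom.fiber (closedPoint R)) x'
  haveI : IsDomain ((X.hom.fiber (closedPoint R)).presheaf.stalk x') :=
    Groth.Agent.Helper8.RLR.isDomain _
  have hprime : (RingHom.ker ((X.hom.fiberι (closedPoint R)).stalkMap x').hom).IsPrime :=
    RingHom.ker_isPrime _
  rw [ker_stalkMap_fiberι_eq R X ϖ hϖ x'] at hprime
  have hne : Models.stalkHom R X (X.hom.fiberι (closedPoint R) x') ϖ ≠ 0 :=
    stalkHom_ne_zero R X ϖ hϖ.ne_zero _
  exact (Ideal.span_singleton_prime hne).1 hprime

/-- a smooth scheme over a discrete valuation ring is regular -/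
theorem isRegular_of_smooth [Smooth X.hom] (x : X.left) :
    IsRegularLocalRing (X.left.presheaf.stalk x) := by
  refine (Groth.Agent.S4991.result X.hom x ⟨⊤, trivial, inferInstance⟩).2 ?_
  exact isRegularLocalRing_stalk_spec R _

end Fib

section Conormal

variable (R : Type u) [CommRing R] [IsDomain R] [IsDiscreteValuationRing R]
  (X : Over (Spec (CommRingCat.of R))) [Smooth X.hom]
  (Γ : ArSurf.VertComp R X) (hinv : PicF.IsInvertible (ClSub.idealMod Γ.ι.ker))

include hinv in
theorem exists_pidx_sec (ϖ : R) (hϖ : Irreducible ϖ) (z : Γ.curve.left) :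
    ∃ i : PIdx Γ.ι.ker (sec R X ϖ), Γ.ι.base z ∈ i.W.1 := by
  obtain ⟨W₁, g₁, hx₁, hg₁⟩ := exists_isGen hinv (Γ.ι.base z)
  obtain ⟨_, ⟨W, hW, rfl⟩, hxW, hWle⟩ :=
    X.left.isBasis_affineOpens.exists_subset_of_mem_open hx₁ W₁.2
  have hle : W ≤ W₁ := hWle
  have hg := hg₁.res hle
  have hspan : Γ.ι.ker.ideal ⟨W, hW⟩ =
      Ideal.span {ιL Γ.ι.ker W (res (ClSub.idealMod Γ.ι.ker) hle g₁)} :=
    IdealMul.ideal_eq_span_of_isGen Γ.ι.ker ⟨W, hW⟩ hg
  have hϖm : ϖ ∈ maximalIdeal R := by
    rw [hϖ.maximalIdeal_eq]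
    exact Ideal.mem_span_singleton_self ϖ
  have hsec : sec R X ϖ W ∈ Γ.ι.ker.ideal ⟨W, hW⟩ := sec_mem_ker R X Γ ϖ hϖm ⟨W, hW⟩
  rw [hspan] at hsec
  obtain ⟨d, hd⟩ := Ideal.mem_span_singleton'.1 hsec
  have hfx : X.hom (Γ.ι.base z) = closedPoint R := range_subset_fibre R X Γ z
  have hp : Prime (Models.stalkHom R X (Γ.ι.base z) ϖ) :=
    prime_stalkHom R X ϖ hϖ (Γ.ι.base z) hfx
  have h2 : (X.left.presheaf.germ W (Γ.ι.base z) hxW).hom (sec R X ϖ W) =
      Models.stalkHom R X (Γ.ι.base z) ϖ :=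
    X.left.presheaf.germ_res_apply (homOfLE (le_top : W ≤ ⊤)) _ hxW _
  haveI := isRegular_of_smooth R X (Γ.ι.base z)
  haveI : IsDomain (X.left.presheaf.stalk (Γ.ι.base z)) := Groth.Agent.Helper8.RLR.isDomain _
  have htm : ιL Γ.ι.ker W (res (ClSub.idealMod Γ.ι.ker) hle g₁) ∈
      pt ⟨W, hW⟩ (Γ.ι.base z) hxW := by
    have hsupp : Γ.ι.base z ∈ Γ.ι.ker.support :=
      Scheme.Hom.range_subset_ker_support Γ.ι ⟨z, rfl⟩
    have hle' := (le_pt_iff ⟨W, hW⟩ (Γ.ι.base z) hxW Γ.ι.ker).2 hsupp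
    apply hle'
    rw [hspan]
    exact Ideal.mem_span_singleton_self _
  have htnu : ¬ IsUnit ((X.left.presheaf.germ W (Γ.ι.base z) hxW).hom
      (ιL Γ.ι.ker W (res (ClSub.idealMod Γ.ι.ker) hle g₁))) :=
    (IsLocalRing.mem_maximalIdeal _).1 htm
  have hdu : IsUnit ((X.left.presheaf.germ W (Γ.ι.base z) hxW).hom d) := by
    refine isUnit_of_prime_eq_mul hp ?_ htnu
    rw [← map_mul, hd, h2]
  have hxd : Γ.ι.base z ∈ X.left.basicOpen d :=
    (Scheme.mem_basicOpen X.left d (Γ.ι.base z) hxW).2 hdu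
  have hW'aff : IsAffineOpen (X.left.basicOpen d) := hW.basicOpen d
  have hle' : X.left.basicOpen d ≤ W := X.left.basicOpen_le d
  have hdu' : IsUnit (resR hle' d) := X.left.toRingedSpace.isUnit_res_basicOpen d
  obtain ⟨u, hu⟩ := hdu'
  have hg' := hg.res hle'
  refine ⟨⟨⟨X.left.basicOpen d, hW'aff⟩,
    (u : Γ(X.left, X.left.basicOpen d)) • res (ClSub.idealMod Γ.ι.ker) hle'
      (res (ClSub.idealMod Γ.ι.ker) hle g₁),
    TwForm.IsGen.smul_unit hg' u, ?_⟩, hxd⟩
  show ιL Γ.ι.ker (X.left.basicOpen d) (_ • _) = sec R X ϖ (X.left.basicOpen d)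
  rw [map_smul, smul_eq_mul, hu, IdealMul.ιL_res', ← map_mul, hd]
  exact resR_resR _ _ _

include hinv in
/-- **the conormal sheaf of a vertical prime divisor of a smooth model is trivial** -/
theorem nonempty_pullback_iso :
    Nonempty (Coh.structureModule Γ.curve.left ≅
      (Scheme.Modules.pullback Γ.ι).obj (ClSub.idealMod Γ.ι.ker)) := by
  obtain ⟨ϖ, hϖ⟩ := IsDiscreteValuationRing.exists_irreducible R
  have hres : ∀ (U V : X.left.Opens) (h : V ≤ U), resR h (sec R X ϖ U) = sec R X ϖ V :=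
    fun U V h => resR_resR _ _ _
  let F : GenFam (Coh.structureModule Γ.curve.left)
      ((Scheme.Modules.pullback Γ.ι).obj (ClSub.idealMod Γ.ι.ker)) :=
    { ι := PIdx Γ.ι.ker (sec R X ϖ)
      W := fun i => Γ.ι ⁻¹ᵁ i.W.1
      a := fun i => TwForm.one' (Γ.ι ⁻¹ᵁ i.W.1)
      b := fun i => PullSec.σ Γ.ι (ClSub.idealMod Γ.ι.ker) i.W.1 i.b
      ha := fun i => AmpleLib.isGen_one' _
      hb := fun i => PullGen.isGen_σ Γ.ι i.hb
      cov := fun z => exists_pidx_sec R X Γ hinv ϖ hϖ z
      compat := by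
        intro i j v hv
        rw [TwForm.res_one', TwForm.res_one', TwForm.smul_one'] at hv
        have hv1 : v = 1 := hv.symm
        subst hv1
        rw [one_smul]
        have hb_eq : res (ClSub.idealMod Γ.ι.ker) (inf_le_left : i.W.1 ⊓ j.W.1 ≤ i.W.1) i.b =
            res (ClSub.idealMod Γ.ι.ker) (inf_le_right : i.W.1 ⊓ j.W.1 ≤ j.W.1) j.b := by
          apply ιL_injective Γ.ι.ker (i.W.1 ⊓ j.W.1)
          rw [IdealMul.ιL_res', IdealMul.ιL_res', i.eq, j.eq, hres, hres]
        have h1 := PullSec.σ_res Γ.ι (ClSub.idealMod Γ.ι.ker)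
          (inf_le_left : i.W.1 ⊓ j.W.1 ≤ i.W.1) i.b
        have h2 := PullSec.σ_res Γ.ι (ClSub.idealMod Γ.ι.ker)
          (inf_le_right : i.W.1 ⊓ j.W.1 ≤ j.W.1) j.b
        exact h1.trans ((congrArg (PullSec.σ Γ.ι (ClSub.idealMod Γ.ι.ker) (i.W.1 ⊓ j.W.1))
          hb_eq).trans h2.symm) }
  exact ⟨F.iso⟩

/-- **a smooth proper scheme over a discrete valuation ring has no exceptional curves of the first
kind in its closed fibre** -/
theorem not_isExcCurve (hp : IsProper X.hom) : ¬ Models.IsExcCurve Γ.ι := by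
  rintro ⟨hEff, K, hK, e, ⟨φ'⟩⟩
  letI := hK
  haveI : IsProper (Γ.curve.left ↘ Spec (CommRingCat.of (IsLocalRing.ResidueField R))) :=
    ArInt.isProper_curve R X hp Γ
  have hDinv : PicF.IsInvertible (ClSub.idealMod Γ.ι.ker) := Groth.Agent.S8914.backward _ hEff
  have hN : PicF.IsInvertible ((Scheme.Modules.pullback Γ.ι).obj (ClSub.idealMod Γ.ι.ker)) :=
    PullGen.isInvertible_pullback Γ.ι hDinv
  have φ : (Scheme.Modules.pullback e.hom).obj ((Scheme.Modules.pullback Γ.ι).obj
      (ClSub.idealMod Γ.ι.ker)) ≅ Twist.twistProjSpace 1 K 1 :=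
    (Scheme.Modules.pullbackComp e.hom Γ.ι).app _ ≪≫ φ'
  obtain ⟨-, h2⟩ := ExcC.numerics_of_exc (IsLocalRing.ResidueField R) Γ.curve.left Γ.dim_eq K e _
    hN φ
  obtain ⟨θ⟩ := nonempty_pullback_iso R X Γ hDinv
  have h0 : ArSurf.curveDeg (IsLocalRing.ResidueField R) Γ.curve.left
      ((Scheme.Modules.pullback Γ.ι).obj (ClSub.idealMod Γ.ι.ker)) = 0 := by
    rw [ArInt.curveDeg_eq_deg (IsLocalRing.ResidueField R) Γ.dim_eq,
      GenusOne.deg_iso (IsLocalRing.ResidueField R) Γ.curve.left θ.symm 1,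
      Curve.deg_structureModule]
  have hpos := ExcC.w_pos (IsLocalRing.ResidueField R) Γ.curve.left
  rw [ExcC.w_eq_finrank_H0] at hpos
  rw [h0] at h2
  have h3 : (0 : ℤ) < (Module.finrank (IsLocalRing.ResidueField R)
      (Coh.HH Γ.curve.left (Coh.structureModule Γ.curve.left) 0) : ℤ) := Int.natCast_pos.2 hpos
  rw [← h2] at h3
  exact lt_irrefl _ h3

end Conormal

end Groth.Agent.Helper1.MinSm
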