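import Groth.Prelude.Def_CAlgX
import Mathlib

/-! Minors and one-sided inverses (helper1). -/

namespace Groth.Agent.Helper1.Minors
universe u
open Matrix

theorem weak_cauchy_binet {R : Type u} [CommRing R] {n m : ℕ}
    (B : Matrix (Fin m) (Fin n) R) (A : Matrix (Fin n) (Fin m) R) :
    (B * A).det = ∑ k : Fin m → Fin n, (∏ i, B i (k i)) * (A.submatrix k id).det := by
  rw [← Matrix.det_transpose, Matrix.det_apply']
  simp only [Matrix.transpose_apply, Matrix.mul_apply]
  simp_rw [Finset.prod_univ_sum, Finset.mul_sum]
  rw [Finset.sum_comm]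
  refine Finset.sum_congr rfl (fun k _ => ?_)
  rw [← Matrix.det_transpose (A.submatrix k id), Matrix.det_apply', Finset.mul_sum]
  refine Finset.sum_congr rfl (fun σ _ => ?_)
  simp only [Matrix.transpose_apply, Matrix.submatrix_apply, id_eq]
  rw [Finset.prod_mul_distrib]
  ring

theorem exists_left_inv_of_minor {R : Type u} [CommRing R] {n m : ℕ}
    (A : Matrix (Fin n) (Fin m) R) (r : Fin m → Fin n) (c : Fin m → Fin m) :
    ∃ B : Matrix (Fin m) (Fin n) R, B * A = (A.submatrix r c).det • (1 : Matrix (Fin m) (Fin m) R) := by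
  by_cases hc : Function.Injective c
  · have hb : Function.Bijective c := Finite.injective_iff_bijective.mp hc
    let σ : Equiv.Perm (Fin m) := Equiv.ofBijective c hb
    have h1 : A.submatrix r c = (A.submatrix r id).submatrix id σ := by
      ext i j; rfl
    let P : Matrix (Fin m) (Fin n) R := fun i j => if r i = j then 1 else 0
    have hP : P * A = A.submatrix r id := by
      ext i j
      simp [P, Matrix.mul_apply]
    refine ⟨((Equiv.Perm.sign σ : ℤ) : R) • ((A.submatrix r id).adjugate * P), ?_⟩
    rw [h1, Matrix.det_permute', Matrix.smul_mul, Matrix.mul_assoc, hP, Matrix.adjugate_mul,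
      smul_smul]
  · refine ⟨0, ?_⟩
    rw [Function.Injective] at hc
    push Not at hc
    obtain ⟨i, j, hij, hne⟩ := hc
    rw [Matrix.det_zero_of_column_eq hne, zero_smul, Matrix.zero_mul]
    intro k
    simp [hij]

end Groth.Agent.Helper1.Minors
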