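import Mathlib
set_option autoImplicit false
universe u

namespace Groth.Agent.Helper1.MiscL2

theorem finite_lattice_points_cone (n : ℕ)
    (N : Set (EuclideanSpace ℝ (Fin n))) (hN : IsClosed N)
    (hcone : ∀ x ∈ N, ∀ r : ℝ, 0 ≤ r → r • x ∈ N)
    (f : EuclideanSpace ℝ (Fin n) → ℝ) (hf : ContinuousOn f N)
    (hpos : ∀ x ∈ N, x ≠ 0 → 0 < f x)
    (hhom : ∀ x ∈ N, ∀ r : ℝ, 0 ≤ r → f (r • x) = r * f x)
    (Λ : Submodule ℤ (EuclideanSpace ℝ (Fin n))) [DiscreteTopology Λ] (c : ℝ) :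
    ({x : EuclideanSpace ℝ (Fin n) | x ∈ N ∧ f x ≤ c} ∩ (Λ : Set (EuclideanSpace ℝ (Fin n)))).Finite := by
  -- the compact set `N ∩ sphere`
  set K : Set (EuclideanSpace ℝ (Fin n)) := N ∩ Metric.sphere 0 1 with hK
  have hKc : IsCompact K := (isCompact_sphere 0 1).inter_left hN
  have hclosedΛ : IsClosed (Λ : Set (EuclideanSpace ℝ (Fin n))) := by
    rw [← Submodule.coe_toAddSubgroup]
    have : DiscreteTopology Λ.toAddSubgroup := inferInstanceAs (DiscreteTopology Λ)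
    exact AddSubgroup.isClosed_of_discrete
  have hdisc : IsDiscrete (Λ : Set (EuclideanSpace ℝ (Fin n))) := DiscreteTopology.isDiscrete
  -- bounded set
  suffices hb : Bornology.IsBounded {x : EuclideanSpace ℝ (Fin n) | x ∈ N ∧ f x ≤ c} from
    Metric.finite_isBounded_inter_isClosed hdisc hb hclosedΛ
  by_cases hKe : K = ∅
  · -- then `N ⊆ {0}`
    refine (Bornology.isBounded_singleton (x := (0 : EuclideanSpace ℝ (Fin n)))).subset ?_
    rintro x ⟨hxN, -⟩
    by_contra hx0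
    have hx0' : x ≠ 0 := hx0
    have hnorm : 0 < ‖x‖ := norm_pos_iff.mpr hx0'
    have hmem : (‖x‖⁻¹ • x) ∈ K := by
      refine ⟨hcone x hxN _ (inv_nonneg.mpr hnorm.le), ?_⟩
      rw [mem_sphere_zero_iff_norm, norm_smul, norm_inv, norm_norm, inv_mul_cancel₀ hnorm.ne']
    rw [hKe] at hmem
    exact hmem
  · have hKne : K.Nonempty := Set.nonempty_iff_ne_empty.mpr hKe
    obtain ⟨x₀, hx₀K, hx₀min⟩ := hKc.exists_isMinOn hKne (hf.mono Set.inter_subset_left)
    have hx₀ne : x₀ ≠ 0 := by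
      intro h
      have := hx₀K.2
      rw [h, mem_sphere_zero_iff_norm, norm_zero] at this
      exact zero_ne_one this
    have hμ : 0 < f x₀ := hpos x₀ hx₀K.1 hx₀ne
    -- `f x ≥ μ ‖x‖` on `N`
    have hge : ∀ x ∈ N, f x₀ * ‖x‖ ≤ f x := by
      intro x hxN
      by_cases hx0 : x = 0
      · subst hx0
        have h0 := hhom 0 hxN 0 le_rfl
        simp at h0
        simp [h0]
      · have hnorm : 0 < ‖x‖ := norm_pos_iff.mpr hx0
        have hmem : (‖x‖⁻¹ • x) ∈ K := by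
          refine ⟨hcone x hxN _ (inv_nonneg.mpr hnorm.le), ?_⟩
          rw [mem_sphere_zero_iff_norm, norm_smul, norm_inv, norm_norm, inv_mul_cancel₀ hnorm.ne']
        have h1 : f x₀ ≤ f (‖x‖⁻¹ • x) := hx₀min hmem
        rw [hhom x hxN _ (inv_nonneg.mpr hnorm.le)] at h1
        calc f x₀ * ‖x‖ ≤ (‖x‖⁻¹ * f x) * ‖x‖ := by gcongr
          _ = f x := by field_simp
    rw [Metric.isBounded_iff_subset_closedBall (0 : EuclideanSpace ℝ (Fin n))]
    refine ⟨c / f x₀, ?_⟩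
    rintro x ⟨hxN, hxc⟩
    rw [mem_closedBall_zero_iff, le_div_iff₀ hμ]
    calc ‖x‖ * f x₀ = f x₀ * ‖x‖ := mul_comm _ _
      _ ≤ f x := hge x hxN
      _ ≤ c := hxc

end Groth.Agent.Helper1.MiscL2
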