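import Mathlib
set_option autoImplicit false
universe u
open scoped TensorProduct
namespace Groth.Agent.Helper1.MiscL3

section
variable {k K : Type*} [Field k] [Field K] [Algebra k K] {ι : Type*} [Fintype ι] [DecidableEq ι]

theorem exists_functionals_aux (N : Matrix ι ι K) (hN : N.det ≠ 0) (S : Finset ι) :
    ∃ lam : ι → (K →ₗ[k] k),
      (Matrix.of fun i j => if i ∈ S then algebraMap k K (lam i (N i j)) else N i j).det ≠ 0 := by
  classical
  induction S using Finset.induction_on with
  | empty =>
    refine ⟨fun _ => 0, ?_⟩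
    convert hN using 2
    ext i j
    simp
  | insert i0 S hi0 ih =>
    obtain ⟨lam, hlam⟩ := ih
    set N' : Matrix ι ι K :=
      Matrix.of fun i j => if i ∈ S then algebraMap k K (lam i (N i j)) else N i j with hN'
    let ε := Module.Basis.ofVectorSpace k K
    let T : Finset (Module.Basis.ofVectorSpaceIndex k K) :=
      Finset.univ.biUnion fun j => (ε.repr (N i0 j)).support
    have hrow : N' i0 = ∑ l ∈ T, ε l • (fun j => algebraMap k K (ε.coord l (N i0 j))) := by
      ext j
      simp only [hN', Matrix.of_apply, if_neg hi0, Finset.sum_apply, Pi.smul_apply, smul_eq_mul]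
      conv_lhs => rw [← ε.linearCombination_repr (N i0 j), Finsupp.linearCombination_apply,
        Finsupp.sum]
      rw [Finset.sum_subset (s₂ := T)]
      · refine Finset.sum_congr rfl fun l _ => ?_
        rw [Module.Basis.coord_apply, Algebra.smul_def, mul_comm]
      · intro l hl
        exact Finset.mem_biUnion.mpr ⟨j, Finset.mem_univ _, hl⟩
      · intro l _ hl
        rw [Finsupp.notMem_support_iff.mp hl, zero_smul]
    have hdet : N'.det = ∑ l ∈ T, ε l *
        (N'.updateRow i0 (fun j => algebraMap k K (ε.coord l (N i0 j)))).det := by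
      conv_lhs => rw [← Matrix.updateRow_eq_self N' i0, hrow]
      have := (Matrix.detRowAlternating (n := ι) (R := K)).toMultilinearMap.map_update_sum
        T i0 (fun l => ε l • (fun j => algebraMap k K (ε.coord l (N i0 j)))) N'
      refine Eq.trans this (Finset.sum_congr rfl fun l _ => ?_)
      exact Matrix.det_updateRow_smul N' i0 (ε l) _
    obtain ⟨l, -, hl⟩ : ∃ l ∈ T, ε l *
        (N'.updateRow i0 (fun j => algebraMap k K (ε.coord l (N i0 j)))).det ≠ 0 := by
      by_contra hcon
      push Not at hcon
      exact hlam (hdet.trans (Finset.sum_eq_zero hcon))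
    refine ⟨Function.update lam i0 (ε.coord l), ?_⟩
    convert right_ne_zero_of_mul hl using 2
    ext i j
    by_cases hi : i = i0
    · subst hi
      simp
    · simp [hN', Finset.mem_insert, hi]

theorem exists_vec_forall_ne_zero (N : Matrix ι ι K) (hN : N.det ≠ 0) :
    ∃ x : ι → k, ∀ i, ∑ j, N i j * algebraMap k K (x j) ≠ 0 := by
  classical
  obtain ⟨lam, hlam⟩ := exists_functionals_aux (k := k) N hN Finset.univ
  let P0 : Matrix ι ι k := Matrix.of fun i j => lam i (N i j)
  have hP : (Matrix.of fun i j => if i ∈ (Finset.univ : Finset ι) then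
      algebraMap k K (lam i (N i j)) else N i j) = (algebraMap k K).mapMatrix P0 := by
    ext i j
    simp [P0]
  rw [hP, ← RingHom.map_det] at hlam
  have hP0 : P0.det ≠ 0 := fun h => hlam (by rw [h, map_zero])
  have hu : IsUnit P0.det := isUnit_iff_ne_zero.mpr hP0
  refine ⟨P0⁻¹.mulVec 1, fun i hi => ?_⟩
  have h1 : P0.mulVec (P0⁻¹.mulVec 1) = 1 := by
    rw [Matrix.mulVec_mulVec, Matrix.mul_nonsing_inv _ hu, Matrix.one_mulVec]
  have h2 : P0.mulVec (P0⁻¹.mulVec 1) i = 1 := by rw [h1]; rfl
  have h3 : lam i (∑ j, N i j * algebraMap k K ((P0⁻¹.mulVec 1) j)) = 1 := by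
    rw [map_sum]
    rw [← h2]
    simp only [Matrix.mulVec, dotProduct, P0, Matrix.of_apply]
    refine Finset.sum_congr rfl fun j _ => ?_
    rw [mul_comm (N i j), ← Algebra.smul_def, map_smul, smul_eq_mul, mul_comm]
  rw [hi, map_zero] at h3
  exact zero_ne_one h3

end

theorem S8383 (k : Type u) [Field k]
    (V : Type u) [AddCommGroup V] [Module k V] [Module.Finite k V] {ι : Type} [Fintype ι]
    (K : Type u) [Field K] [Algebra k K]
    (θ : Module.Basis ι K (Module.Dual K (K ⊗[k] V))) :
    ∃ x : V, ∀ i : ι, θ i ((1 : K) ⊗ₜ[k] x) ≠ 0 := by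
  classical
  let b := Module.finBasis k V
  let B := Algebra.TensorProduct.basis K b
  let e : ι ≃ Fin (Module.finrank k V) := θ.indexEquiv B.dualBasis
  let N : Matrix ι ι K := Matrix.of fun i i' => θ i (B (e i'))
  have hN : N.det ≠ 0 := by
    intro h0
    obtain ⟨v, hv, hvN⟩ := Matrix.exists_vecMul_eq_zero_iff.mpr h0
    apply hv
    have hzero : ∑ i, v i • θ i = 0 := by
      apply B.ext
      intro j
      obtain ⟨i', rfl⟩ := e.surjective j
      have := congrFun hvN i'
      simp only [Matrix.vecMul, dotProduct, N, Matrix.of_apply, Pi.zero_apply] at this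
      simpa [LinearMap.sum_apply] using this
    have hli := θ.linearIndependent
    rw [Fintype.linearIndependent_iff] at hli
    ext i
    exact hli v hzero i
  obtain ⟨x, hx⟩ := exists_vec_forall_ne_zero (k := k) N hN
  refine ⟨∑ i', x i' • b (e i'), fun i => ?_⟩
  convert hx i using 1
  rw [TensorProduct.tmul_sum, map_sum]
  refine Finset.sum_congr rfl fun i' _ => ?_
  simp only [N, Matrix.of_apply, B, Algebra.TensorProduct.basis_apply]
  rw [TensorProduct.tmul_smul, ← algebraMap_smul K (x i'), map_smul, smul_eq_mul, mul_comm]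

end Groth.Agent.Helper1.MiscL3
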