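import Mathlib

set_option autoImplicit false

namespace Groth.Agent.Helper1.ModifDec

open scoped Pointwise

universe u

lemma mem_ker_mkLinearMap_mkQ_iff {A : Type*} [CommRing A] (S : Submonoid A) {M : Type*}
    [AddCommGroup M] [Module A M] (P : Submodule A M) (x : M) :
    P.mkQ x ∈ LinearMap.ker (LocalizedModule.mkLinearMap S (M ⧸ P)) ↔ ∃ s ∈ S, s • x ∈ P := by
  rw [LinearMap.mem_ker, IsLocalizedModule.eq_zero_iff S]
  constructor
  · rintro ⟨s, hs⟩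
    refine ⟨s.1, s.2, ?_⟩
    rw [Submonoid.smul_def, ← map_smul, Submodule.mkQ_apply, Submodule.Quotient.mk_eq_zero] at hs
    exact hs
  · rintro ⟨s, hs, h⟩
    refine ⟨⟨s, hs⟩, ?_⟩
    rw [Submonoid.smul_def, ← map_smul, Submodule.mkQ_apply, Submodule.Quotient.mk_eq_zero]
    exact h

lemma exists_mul_mem_span {A : Type*} [CommRing A] [IsNoetherianRing A] (π : A) {ι : Type*}
    [Finite ι] (𝔓 : ι → Ideal A) [∀ i, (𝔓 i).IsPrime]
    (h𝔓 : ∀ i, 𝔓 i ∈ (Ideal.span {π}).minimalPrimes) (h𝔓inj : Function.Injective 𝔓)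
    (h𝔓surj : ∀ 𝔔 ∈ (Ideal.span {π}).minimalPrimes, ∃ i, 𝔓 i = 𝔔) (i : ι) :
    ∃ s ∉ 𝔓 i, ∀ j, j ≠ i → ∃ t ∉ 𝔓 j, t * s ∈ Ideal.span {π} := by
  classical
  cases nonempty_fintype ι
  have hne : ∀ l i : ι, ∃ a, l ≠ i → a ∈ 𝔓 l ∧ a ∉ 𝔓 i := by
    intro l i
    by_cases hli : l = i
    · exact ⟨0, fun h => absurd hli h⟩
    by_contra hcon
    push Not at hcon
    have hle : 𝔓 l ≤ 𝔓 i := fun a ha => (hcon a).2 ha
    have := (h𝔓 i).2 ⟨inferInstance, (h𝔓 l).1.2⟩ hle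
    exact hli (h𝔓inj (le_antisymm hle this))
  choose a ha using hne
  obtain ⟨N, hN⟩ := Ideal.exists_radical_pow_le_of_fg (Ideal.span {π})
    ((isNoetherianRing_iff_ideal_fg A).1 inferInstance _)
  set s0 : ι → A := fun i => ∏ l ∈ Finset.univ.erase i, a l i with hs0
  have hs0_notMem : ∀ i, s0 i ∉ 𝔓 i := by
    intro i hmem
    obtain ⟨l, hl, hla⟩ := (Ideal.IsPrime.prod_mem_iff).1 hmem
    exact (ha l i (Finset.ne_of_mem_erase hl)).2 hla
  have hs0_mem : ∀ i l, l ≠ i → s0 i ∈ 𝔓 l := by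
    intro i l hli
    exact Ideal.mem_of_dvd _ (Finset.dvd_prod_of_mem _
      (Finset.mem_erase.2 ⟨hli, Finset.mem_univ l⟩)) (ha l i hli).1
  refine ⟨s0 i ^ N, fun h => hs0_notMem i (Ideal.IsPrime.mem_of_pow_mem inferInstance N h), ?_⟩
  intro j hji
  refine ⟨s0 j ^ N, fun h => hs0_notMem j (Ideal.IsPrime.mem_of_pow_mem inferInstance N h), ?_⟩
  rw [← mul_pow]
  apply hN
  apply Ideal.pow_mem_pow
  rw [← Ideal.sInf_minimalPrimes, Ideal.mem_sInf]
  intro 𝔔 h𝔔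
  obtain ⟨l, rfl⟩ := h𝔓surj 𝔔 h𝔔
  by_cases hli : l = i
  · subst hli
    exact Ideal.mul_mem_right _ _ (hs0_mem j l (Ne.symm hji))
  · exact Ideal.mul_mem_left _ _ (hs0_mem i l hli)

theorem main
    (A : Type u) [CommRing A] [IsNoetherianRing A] (π : A)
    (ι : Type) [Finite ι] (𝔓 : ι → Ideal A) [∀ i, (𝔓 i).IsPrime]
    (h𝔓 : ∀ i, 𝔓 i ∈ (Ideal.span {π}).minimalPrimes) (h𝔓inj : Function.Injective 𝔓)
    (h𝔓surj : ∀ 𝔔 ∈ (Ideal.span {π}).minimalPrimes, ∃ i, 𝔓 i = 𝔔)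
    (M : Type u) [AddCommGroup M] [Module A M]
    (K : Set ι → Submodule A (M ⧸ Ideal.span {π} • (⊤ : Submodule A M)))
    (hK : ∀ T : Set ι, K T = ⨅ i ∈ T, LinearMap.ker
      (LocalizedModule.mkLinearMap (𝔓 i).primeCompl (M ⧸ Ideal.span {π} • (⊤ : Submodule A M))))
    (htf : K Set.univ = ⊥)
    (N : Set ι → Submodule A M)
    (hN : ∀ T : Set ι, N T = (K T).comap (Submodule.mkQ (Ideal.span {π} • (⊤ : Submodule A M))))
    (Y : Set ι) :
    N Y ⊓ N Yᶜ = Ideal.span {π} • (⊤ : Submodule A M) ∧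
    Submodule.map (N Y).subtype
      ((⨅ i ∈ Yᶜ, LinearMap.ker (LocalizedModule.mkLinearMap (𝔓 i).primeCompl
          (↥(N Y) ⧸ Ideal.span {π} • (⊤ : Submodule A ↥(N Y))))).comap
        (Submodule.mkQ (Ideal.span {π} • (⊤ : Submodule A ↥(N Y)))))
      = N Y ⊓ N Yᶜ := by
  have hmemN : ∀ (T : Set ι) (x : M), x ∈ N T ↔
      ∀ i ∈ T, ∃ s ∉ 𝔓 i, s • x ∈ Ideal.span {π} • (⊤ : Submodule A M) := by
    intro T x
    rw [hN, Submodule.mem_comap, hK]
    simp only [Submodule.mem_iInf]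
    refine forall₂_congr fun i _ => ?_
    exact mem_ker_mkLinearMap_mkQ_iff (𝔓 i).primeCompl _ x
  have htf' : ∀ x : M, (∀ i, ∃ s ∉ 𝔓 i, s • x ∈ Ideal.span {π} • (⊤ : Submodule A M)) →
      x ∈ Ideal.span {π} • (⊤ : Submodule A M) := by
    intro x hx
    have h1 : x ∈ N Set.univ := (hmemN _ x).2 fun i _ => hx i
    rw [hN, Submodule.mem_comap, htf, Submodule.mem_bot, Submodule.mkQ_apply,
      Submodule.Quotient.mk_eq_zero] at h1
    exact h1
  have hPle : ∀ T, Ideal.span {π} • (⊤ : Submodule A M) ≤ N T := by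
    intro T x hx
    exact (hmemN T x).2 fun i _ => ⟨1, fun h => (Ideal.IsPrime.ne_top inferInstance)
      ((Ideal.eq_top_iff_one _).2 h), by rwa [one_smul]⟩
  have part1 : N Y ⊓ N Yᶜ = Ideal.span {π} • (⊤ : Submodule A M) := by
    apply le_antisymm
    · rintro x ⟨hx1, hx2⟩
      apply htf'
      intro i
      by_cases hi : i ∈ Y
      · exact (hmemN Y x).1 hx1 i hi
      · exact (hmemN Yᶜ x).1 hx2 i hi
    · exact le_inf (hPle _) (hPle _)
  refine ⟨part1, ?_⟩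
  apply le_antisymm
  · rintro _ ⟨y, hy, rfl⟩
    refine ⟨y.2, ?_⟩
    rw [SetLike.mem_coe, hmemN]
    intro i hi
    rw [SetLike.mem_coe, Submodule.mem_comap] at hy
    simp only [Submodule.mem_iInf] at hy
    obtain ⟨s, hs, hsy⟩ := (mem_ker_mkLinearMap_mkQ_iff (𝔓 i).primeCompl _ y).1 (hy i hi)
    refine ⟨s, hs, ?_⟩
    have h2 : (N Y).subtype (s • y) ∈
        Submodule.map (N Y).subtype (Ideal.span {π} • (⊤ : Submodule A (N Y))) :=
      Submodule.mem_map_of_mem hsy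
    rw [Submodule.map_smul''] at h2
    exact Submodule.smul_mono le_rfl le_top h2
  · intro x hx
    have hxP : x ∈ Ideal.span {π} • (⊤ : Submodule A M) := by rw [← part1]; exact hx
    have hxY : x ∈ N Y := hx.1
    rw [Submodule.ideal_span_singleton_smul, Submodule.mem_smul_pointwise_iff_exists] at hxP
    obtain ⟨m, -, rfl⟩ := hxP
    refine ⟨⟨π • m, hxY⟩, ?_, rfl⟩
    rw [SetLike.mem_coe, Submodule.mem_comap]
    simp only [Submodule.mem_iInf]
    intro i hi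
    rw [mem_ker_mkLinearMap_mkQ_iff]
    obtain ⟨s, hs, hst⟩ := exists_mul_mem_span π 𝔓 h𝔓 h𝔓inj h𝔓surj i
    refine ⟨s, hs, ?_⟩
    have hsm : s • m ∈ N Y := by
      rw [hmemN]
      intro j hj
      have hji : j ≠ i := fun h => hi (h ▸ hj)
      obtain ⟨t, ht, hts⟩ := hst j hji
      refine ⟨t, ht, ?_⟩
      rw [smul_smul]
      exact Submodule.smul_mem_smul hts trivial
    have h3 : s • (⟨π • m, hxY⟩ : N Y) = π • (⟨s • m, hsm⟩ : N Y) := by
      ext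
      show s • π • m = π • s • m
      exact smul_comm s π m
    rw [h3]
    exact Submodule.smul_mem_smul (Ideal.mem_span_singleton_self π) trivial

theorem main2
    (A : Type u) [CommRing A] (π : A)
    (ι : Type) (𝔓 : ι → Ideal A) [∀ i, (𝔓 i).IsPrime]
    (M : Type u) [AddCommGroup M] [Module A M]
    (hπ : ∀ m : M, π • m = 0 → m = 0)
    (K : Set ι → Submodule A (M ⧸ Ideal.span {π} • (⊤ : Submodule A M)))
    (hK : ∀ T : Set ι, K T = ⨅ i ∈ T, LinearMap.ker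
      (LocalizedModule.mkLinearMap (𝔓 i).primeCompl (M ⧸ Ideal.span {π} • (⊤ : Submodule A M))))
    (htf : K Set.univ = ⊥)
    (N : Set ι → Submodule A M)
    (hN : ∀ T : Set ι, N T = (K T).comap (Submodule.mkQ (Ideal.span {π} • (⊤ : Submodule A M))))
    (Y Z : Set ι) (hY : K Y ⊔ K Yᶜ = ⊤)
    (K' : Set ι → Submodule A (↥(N Y) ⧸ Ideal.span {π} • (⊤ : Submodule A ↥(N Y))))
    (hK' : ∀ T : Set ι, K' T = ⨅ i ∈ T, LinearMap.ker
      (LocalizedModule.mkLinearMap (𝔓 i).primeCompl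
        (↥(N Y) ⧸ Ideal.span {π} • (⊤ : Submodule A ↥(N Y)))))
    (hZ : K' Z ⊔ K' Zᶜ = ⊤) :
    K Z ⊔ K Zᶜ = ⊤ := by
  have hmemN : ∀ (T : Set ι) (x : M), x ∈ N T ↔
      ∀ i ∈ T, ∃ s ∉ 𝔓 i, s • x ∈ Ideal.span {π} • (⊤ : Submodule A M) := by
    intro T x
    rw [hN, Submodule.mem_comap, hK]
    simp only [Submodule.mem_iInf]
    refine forall₂_congr fun i _ => ?_
    exact mem_ker_mkLinearMap_mkQ_iff (𝔓 i).primeCompl _ x
  have htf' : ∀ x : M, (∀ i, ∃ s ∉ 𝔓 i, s • x ∈ Ideal.span {π} • (⊤ : Submodule A M)) →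
      x ∈ Ideal.span {π} • (⊤ : Submodule A M) := by
    intro x hx
    have h1 : x ∈ N Set.univ := (hmemN _ x).2 fun i _ => hx i
    rw [hN, Submodule.mem_comap, htf, Submodule.mem_bot, Submodule.mkQ_apply,
      Submodule.Quotient.mk_eq_zero] at h1
    exact h1
  have hPle : ∀ T, Ideal.span {π} • (⊤ : Submodule A M) ≤ N T := by
    intro T x hx
    exact (hmemN T x).2 fun i _ => ⟨1, fun h => (Ideal.IsPrime.ne_top inferInstance)
      ((Ideal.eq_top_iff_one _).2 h), by rwa [one_smul]⟩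
  have hinter : ∀ T : Set ι, ∀ x, x ∈ N T → x ∈ N Tᶜ →
      x ∈ Ideal.span {π} • (⊤ : Submodule A M) := by
    intro T x hx1 hx2
    apply htf'
    intro i
    by_cases hi : i ∈ T
    · exact (hmemN T x).1 hx1 i hi
    · exact (hmemN Tᶜ x).1 hx2 i hi
  have hdecY : ∀ m : M, ∃ p ∈ N Y, ∃ q ∈ N Yᶜ, m = p + q := by
    intro m
    have h0 : Submodule.mkQ (Ideal.span {π} • (⊤ : Submodule A M)) m ∈ K Y ⊔ K Yᶜ := by
      rw [hY]; trivial
    obtain ⟨κ₁, h1, κ₂, h2, h12⟩ := Submodule.mem_sup.1 h0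
    obtain ⟨p, rfl⟩ := Submodule.mkQ_surjective _ κ₁
    refine ⟨p, ?_, m - p, ?_, by abel⟩
    · rw [hN]; exact h1
    · rw [hN, Submodule.mem_comap, map_sub, ← h12, add_sub_cancel_left]; exact h2
  have hmemK' : ∀ (T : Set ι) (y : N Y),
      Submodule.mkQ (Ideal.span {π} • (⊤ : Submodule A (N Y))) y ∈ K' T ↔
      ∀ i ∈ T, ∃ s ∉ 𝔓 i, s • y ∈ Ideal.span {π} • (⊤ : Submodule A (N Y)) := by
    intro T y
    rw [hK']
    simp only [Submodule.mem_iInf]
    refine forall₂_congr fun i _ => ?_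
    exact mem_ker_mkLinearMap_mkQ_iff (𝔓 i).primeCompl _ y
  have hdecZ : ∀ y : N Y, ∃ a b : N Y,
      y - a - b ∈ Ideal.span {π} • (⊤ : Submodule A (N Y)) ∧
      (∀ i ∈ Z, ∃ s ∉ 𝔓 i, s • a ∈ Ideal.span {π} • (⊤ : Submodule A (N Y))) ∧
      (∀ i ∈ Zᶜ, ∃ s ∉ 𝔓 i, s • b ∈ Ideal.span {π} • (⊤ : Submodule A (N Y))) := by
    intro y
    have h0 : Submodule.mkQ (Ideal.span {π} • (⊤ : Submodule A (N Y))) y ∈ K' Z ⊔ K' Zᶜ := by
      rw [hZ]; trivial
    obtain ⟨α, h1, β, h2, h12⟩ := Submodule.mem_sup.1 h0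
    obtain ⟨a, rfl⟩ := Submodule.mkQ_surjective _ α
    obtain ⟨b, rfl⟩ := Submodule.mkQ_surjective _ β
    refine ⟨a, b, ?_, (hmemK' Z a).1 h1, (hmemK' Zᶜ b).1 h2⟩
    rw [← Submodule.Quotient.mk_eq_zero, ← Submodule.mkQ_apply, map_sub, map_sub, ← h12]
    abel
  have hsub : ∀ y : N Y, y ∈ Ideal.span {π} • (⊤ : Submodule A (N Y)) →
      (y : M) ∈ Ideal.span {π} • (⊤ : Submodule A M) := by
    intro y hy
    have h2 : (N Y).subtype y ∈
        Submodule.map (N Y).subtype (Ideal.span {π} • (⊤ : Submodule A (N Y))) :=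
      Submodule.mem_map_of_mem hy
    rw [Submodule.map_smul''] at h2
    exact Submodule.smul_mono le_rfl le_top h2
  have hN'N : ∀ (T : Set ι) (y : N Y),
      (∀ i ∈ T, ∃ s ∉ 𝔓 i, s • y ∈ Ideal.span {π} • (⊤ : Submodule A (N Y))) →
      (y : M) ∈ N T := by
    intro T y hy
    rw [hmemN]
    intro i hi
    obtain ⟨s, hs, hsy⟩ := hy i hi
    exact ⟨s, hs, hsub _ hsy⟩
  have stepA : N Y ≤ N Z ⊔ N Zᶜ := by
    intro u hu
    obtain ⟨a, b, hab, ha, hb⟩ := hdecZ ⟨u, hu⟩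
    have h1 : u = (u - a.1 - b.1) + a.1 + b.1 := by abel
    rw [h1]
    refine Submodule.add_mem _ (Submodule.add_mem _ ?_ ?_) ?_
    · exact Submodule.mem_sup_left (hPle Z (hsub _ hab))
    · exact Submodule.mem_sup_left (hN'N Z a ha)
    · exact Submodule.mem_sup_right (hN'N Zᶜ b hb)
  have hkey : ∀ (y : N Y) (z : M), y ∈ Ideal.span {π} • (⊤ : Submodule A (N Y)) →
      (y : M) = π • z → z ∈ N Y := by
    intro y z hy hyz
    rw [Submodule.ideal_span_singleton_smul, Submodule.mem_smul_pointwise_iff_exists] at hy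
    obtain ⟨n, -, rfl⟩ := hy
    have h3 : π • (n.1 - z) = 0 := by
      rw [smul_sub, ← hyz]
      exact sub_self _
    have h4 := hπ _ h3
    rw [sub_eq_zero] at h4
    rw [← h4]; exact n.2
  have stepS : ∀ m : M, ∃ a' b' : M, m - a' - b' ∈ N Y ∧
      (∀ i ∈ Z, ∃ s ∉ 𝔓 i, s • a' ∈ N Y) ∧ (∀ i ∈ Zᶜ, ∃ s ∉ 𝔓 i, s • b' ∈ N Y) := by
    intro m
    have hπm : π • m ∈ Ideal.span {π} • (⊤ : Submodule A M) :=
      Submodule.smul_mem_smul (Ideal.mem_span_singleton_self π) trivial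
    obtain ⟨a, b, hab, ha, hb⟩ := hdecZ ⟨π • m, hPle Y hπm⟩
    have haZ : (a : M) ∈ N Z := hN'N Z a ha
    have hbZ : (b : M) ∈ N Zᶜ := hN'N Zᶜ b hb
    have habP : π • m - a.1 - b.1 ∈ Ideal.span {π} • (⊤ : Submodule A M) := hsub _ hab
    have haP : (a : M) ∈ Ideal.span {π} • (⊤ : Submodule A M) := by
      refine hinter Z _ haZ ?_
      have h5 : (a : M) = π • m - b.1 - (π • m - a.1 - b.1) := by abel
      rw [h5]
      exact Submodule.sub_mem _ (Submodule.sub_mem _ (hPle _ hπm) hbZ) (hPle _ habP)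
    have hbP : (b : M) ∈ Ideal.span {π} • (⊤ : Submodule A M) := by
      refine hinter Z _ ?_ hbZ
      have h5 : (b : M) = π • m - a.1 - (π • m - a.1 - b.1) := by abel
      rw [h5]
      exact Submodule.sub_mem _ (Submodule.sub_mem _ (hPle _ hπm) haZ) (hPle _ habP)
    rw [Submodule.ideal_span_singleton_smul, Submodule.mem_smul_pointwise_iff_exists] at haP hbP
    obtain ⟨a', -, ha'⟩ := haP
    obtain ⟨b', -, hb'⟩ := hbP
    refine ⟨a', b', ?_, ?_, ?_⟩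
    · apply hkey _ _ hab
      show π • m - a.1 - b.1 = _
      rw [← ha', ← hb', smul_sub, smul_sub]
    · intro i hi
      obtain ⟨s, hs, hsa⟩ := ha i hi
      refine ⟨s, hs, hkey _ _ hsa ?_⟩
      show s • a.1 = _
      rw [← ha', smul_comm]
    · intro i hi
      obtain ⟨s, hs, hsb⟩ := hb i hi
      refine ⟨s, hs, hkey _ _ hsb ?_⟩
      show s • b.1 = _
      rw [← hb', smul_comm]
  have stepB : ∀ m : M, m ∈ N Z ⊔ N Zᶜ := by
    intro v
    obtain ⟨a', b', hvab, ha', hb'⟩ := stepS v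
    obtain ⟨a1, ha1, a2, ha2, haa⟩ := hdecY a'
    obtain ⟨b1, hb1, b2, hb2, hbb⟩ := hdecY b'
    have ha2Z : a2 ∈ N Z := by
      rw [hmemN]
      intro i hi
      obtain ⟨s, hs, hsa⟩ := ha' i hi
      refine ⟨s, hs, hinter Y _ ?_ (Submodule.smul_mem _ _ ha2)⟩
      have h6 : s • a2 = s • a' - s • a1 := by rw [haa, smul_add, add_sub_cancel_left]
      rw [h6]
      exact Submodule.sub_mem _ hsa (Submodule.smul_mem _ _ ha1)
    have hb2Z : b2 ∈ N Zᶜ := by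
      rw [hmemN]
      intro i hi
      obtain ⟨s, hs, hsb⟩ := hb' i hi
      refine ⟨s, hs, hinter Y _ ?_ (Submodule.smul_mem _ _ hb2)⟩
      have h6 : s • b2 = s • b' - s • b1 := by rw [hbb, smul_add, add_sub_cancel_left]
      rw [h6]
      exact Submodule.sub_mem _ hsb (Submodule.smul_mem _ _ hb1)
    have h7 : v = ((v - a' - b') + a1 + b1) + a2 + b2 := by rw [haa, hbb]; abel
    rw [h7]
    refine Submodule.add_mem _ (Submodule.add_mem _ (stepA ?_) (Submodule.mem_sup_left ha2Z))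
      (Submodule.mem_sup_right hb2Z)
    exact Submodule.add_mem _ (Submodule.add_mem _ hvab ha1) hb1
  rw [eq_top_iff]
  rintro x -
  obtain ⟨m, rfl⟩ := Submodule.mkQ_surjective _ x
  obtain ⟨p, hp, q, hq, hpq⟩ := Submodule.mem_sup.1 (stepB m)
  rw [← hpq, map_add]
  refine Submodule.add_mem _ (Submodule.mem_sup_left ?_) (Submodule.mem_sup_right ?_)
  · rw [hN] at hp; exact hp
  · rw [hN] at hq; exact hq

end Groth.Agent.Helper1.ModifDec
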