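import Mathlib
universe u v u₁ u₂ v₁ v₂
open CategoryTheory CategoryTheory.Limits

namespace Groth.Agent.Helper1.MoritaL

section Center
variable {C : Type u₁} [Category.{v₁} C] {D : Type u₂} [Category.{v₂} D]

/-- two central elements agreeing on the essential image of an essentially surjective functor agree. -/
theorem center_ext_of_essSurj (F : C ⥤ D) [F.EssSurj] (z w : CatCenter D)
    (h : ∀ X : C, z.app (F.obj X) = w.app (F.obj X)) : z = w := by
  apply CatCenter.ext
  intro Y
  let e := F.objObjPreimageIso Y
  have h1 : z.app Y = e.inv ≫ z.app (F.obj (F.objPreimage Y)) ≫ e.hom := by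
    rw [← z.naturality e.hom, e.inv_hom_id_assoc]
  have h2 : w.app Y = e.inv ≫ w.app (F.obj (F.objPreimage Y)) ≫ e.hom := by
    rw [← w.naturality e.hom, e.inv_hom_id_assoc]
  rw [h1, h2, h]

/-- transport of central elements along a fully faithful essentially surjective functor -/
noncomputable def centerMap (F : C ⥤ D) [F.Full] [F.Faithful] (z' : CatCenter D) : CatCenter C where
  app X := F.preimage (z'.app (F.obj X))
  naturality X Y f := by
    apply F.map_injective
    simp only [Functor.id_obj, Functor.id_map, Functor.map_comp, Functor.map_preimage]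
    exact z'.naturality (F.map f)

@[simp] theorem map_centerMap_app (F : C ⥤ D) [F.Full] [F.Faithful] (z' : CatCenter D) (X : C) :
    F.map ((centerMap F z').app X) = z'.app (F.obj X) := by
  change F.map (F.preimage (z'.app (F.obj X))) = _
  rw [Functor.map_preimage]


/-- extension of central elements along a fully faithful essentially surjective functor -/
noncomputable def centerLift (F : C ⥤ D) [F.Full] [F.Faithful] [F.EssSurj] (z : CatCenter C) :
    CatCenter D where
  app Y := (F.objObjPreimageIso Y).inv ≫ F.map (z.app (F.objPreimage Y)) ≫ (F.objObjPreimageIso Y).hom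
  naturality Y Y' f := by
    simp only [Functor.id_obj, Functor.id_map]
    let e := F.objObjPreimageIso Y
    let e' := F.objObjPreimageIso Y'
    let g := F.preimage (e.hom ≫ f ≫ e'.inv)
    have hg : F.map g = e.hom ≫ f ≫ e'.inv := F.map_preimage _
    have hz : g ≫ z.app (F.objPreimage Y') = z.app (F.objPreimage Y) ≫ g := z.naturality g
    have hz' := congrArg F.map hz
    rw [F.map_comp, F.map_comp, hg] at hz'
    change f ≫ e'.inv ≫ F.map (z.app (F.objPreimage Y')) ≫ e'.hom =
      (e.inv ≫ F.map (z.app (F.objPreimage Y)) ≫ e.hom) ≫ f
    have h1 : f ≫ e'.inv = e.inv ≫ (e.hom ≫ f ≫ e'.inv) := by simp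
    rw [← Category.assoc f, h1]
    simp only [Category.assoc]
    have hz'' : e.hom ≫ f ≫ e'.inv ≫ F.map (z.app (F.objPreimage Y')) =
        F.map (z.app (F.objPreimage Y)) ≫ e.hom ≫ f ≫ e'.inv := by
      simpa only [Category.assoc] using hz'
    rw [reassoc_of% hz'']
    simp

theorem centerMap_centerLift (F : C ⥤ D) [F.Full] [F.Faithful] [F.EssSurj] (z : CatCenter C) :
    centerMap F (centerLift F z) = z := by
  apply CatCenter.ext; intro X
  apply F.map_injective
  rw [map_centerMap_app]
  let e := F.objObjPreimageIso (F.obj X)
  let h := F.preimage e.hom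
  have hh : F.map h = e.hom := F.map_preimage _
  have hz : h ≫ z.app X = z.app (F.objPreimage (F.obj X)) ≫ h := z.naturality h
  have hz' := congrArg F.map hz
  rw [F.map_comp, F.map_comp, hh] at hz'
  change e.inv ≫ F.map (z.app (F.objPreimage (F.obj X))) ≫ e.hom = _
  rw [← hz', e.inv_hom_id_assoc]

variable [Preadditive C] [Preadditive D]

noncomputable def centerRingEquiv (F : C ⥤ D) [F.Full] [F.Faithful] [F.EssSurj] [F.Additive] :
    CatCenter D ≃+* CatCenter C := by
  refine RingEquiv.ofBijective
    ({ toFun := centerMap F
       map_one' := ?_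
       map_mul' := ?_
       map_zero' := ?_
       map_add' := ?_ } : CatCenter D →+* CatCenter C) ⟨?_, ?_⟩
  · apply CatCenter.ext; intro X
    apply F.map_injective
    rw [map_centerMap_app]
    simp
  · intro z w
    apply CatCenter.ext; intro X
    apply F.map_injective
    rw [map_centerMap_app, CatCenter.mul_app, CatCenter.mul_app, F.map_comp, map_centerMap_app,
      map_centerMap_app]
  · apply CatCenter.ext; intro X
    apply F.map_injective
    rw [map_centerMap_app]
    simp
  · intro z w
    apply CatCenter.ext; intro X
    apply F.map_injective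
    rw [map_centerMap_app, CatCenter.app_add, CatCenter.app_add, F.map_add, map_centerMap_app,
      map_centerMap_app]
  · intro z w h
    apply center_ext_of_essSurj F
    intro X
    have := congrArg (fun t : CatCenter C => F.map (t.app X)) h
    simpa using this
  · intro z
    exact ⟨centerLift F z, centerMap_centerLift F z⟩

end Center

section ModuleCenter

theorem toCatCenter_bijective (A : Type u) [CommRing A] :
    Function.Bijective (Linear.toCatCenter A (ModuleCat.{u} A)) := by
  constructor
  · intro a a' h
    have h1 := congrArg (fun z : CatCenter (ModuleCat.{u} A) => (z.app (ModuleCat.of A A)).hom (1 : A)) h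
    simpa using h1
  · intro z
    refine ⟨(z.app (ModuleCat.of A A)).hom (1 : A), ?_⟩
    apply CatCenter.ext
    intro M
    ext m
    let f : ModuleCat.of A A ⟶ M := ModuleCat.ofHom (LinearMap.toSpanSingleton A M m)
    have hnat := z.naturality f
    have h1 := congrArg (fun g : ModuleCat.of A A ⟶ M => g.hom (1 : A)) hnat
    simp only [ModuleCat.hom_comp, LinearMap.comp_apply] at h1
    have hf1 : f.hom (1 : A) = m := by simp [f]
    rw [hf1] at h1
    rw [h1]
    simp [f, LinearMap.toSpanSingleton_apply]

end ModuleCenter

theorem morita_commutative (A B : Type u) [CommRing A] [CommRing B]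
    (F : ModuleCat.{u} A ≌ ModuleCat.{u} B) : Nonempty (A ≃+* B) := by
  let eA : A ≃+* CatCenter (ModuleCat.{u} A) := RingEquiv.ofBijective _ (toCatCenter_bijective A)
  let eB : B ≃+* CatCenter (ModuleCat.{u} B) := RingEquiv.ofBijective _ (toCatCenter_bijective B)
  have : F.functor.Additive := Functor.additive_of_preserves_binary_products _
  exact ⟨eA.trans ((centerRingEquiv F.functor).symm.trans eB.symm)⟩

end Groth.Agent.Helper1.MoritaL
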