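import Mathlib
import Groth.Agent.Lib.Helper1.KerTw
import Groth.Agent.Lib.Helper1.Euler3
import Groth.Agent.Lib.Helper1.H1Surj
import Groth.Agent.Lib.Helper1.FinSupp1
import Groth.Agent.Lib.Helper1.InvInv2
import Groth.Agent.Lib.Helper1.InvFt
import Groth.Agent.Lib.Helper1.HH0
import Groth.Agent.Lib.Helper1.AmpleLib2
import Groth.Agent.Lib.Helper1.TensGenL
import Groth.Agent.Lib.Lead.TilT4
import Groth.Agent.Lib.Lead.PicCalc
import Groth.Agent.Lib.Lead.VBL9
import Groth.Agent.Lib.Helper4.HHFin1
import Groth.Agent.Lib.Helper5.Misc.TensorSES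
import Groth.Agent.Lib.Helper5.Misc.StalkFlatSch
import Groth.Agent.Lib.Helper5.Stalk.FlatFree

/-!
# Multiplication of sections and the kernel bundle (helper1, S18223)

For an epimorphism `ev : O^J ⟶ L` onto an invertible module on a proper scheme over a field which
is injective on global sections, with kernel `K`, and any module `G` with `H¹(K ⊗ G) = 0`, the
multiplication map `Γ(L) ⊗ Γ(G) ⟶ Γ(L ⊗ G)` is onto.
-/

set_option backward.isDefEq.respectTransparency.types false
set_option synthInstance.maxHeartbeats 400000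
set_option autoImplicit false
set_option linter.unusedSectionVars false
set_option linter.style.haveILetI false
set_option linter.unusedVariables false
universe u
open CategoryTheory CategoryTheory.Limits AlgebraicGeometry TopologicalSpace Opposite
open Groth.Agent.Helper1 Groth.Agent.Helper1.QcCech Groth.Agent.Helper1.LGen
open Groth.Agent.Helper1.TmulLib Groth.Agent.Helper1.TensGen
open Groth.Agent.Lib.Helper4 Groth.Agent.Lib.Helper4.TwExact
open Groth.Agent.Helper1.KerTw

namespace Groth.Agent.Helper1.MulKer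

section Sig
variable {X : Scheme.{u}} {J : Type u} [DecidableEq J] (B : J → X.Modules)

/-- the projections of a coproduct -/
noncomputable def q (i : J) : (∐ B) ⟶ B i :=
  Sigma.desc (fun j => if h : j = i then eqToHom (by rw [h]) else 0)

theorem ι_q_self (i : J) : Sigma.ι B i ≫ q B i = 𝟙 _ := by
  rw [q, Sigma.ι_desc, dif_pos rfl]
  rfl

theorem ι_q_ne {i j : J} (h : j ≠ i) : Sigma.ι B j ≫ q B i = 0 := by
  rw [q, Sigma.ι_desc, dif_neg h]

theorem sum_q_ι [Fintype J] : ∑ i, q B i ≫ Sigma.ι B i = 𝟙 (∐ B) := by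
  apply Sigma.hom_ext
  intro j
  rw [Preadditive.comp_sum, Category.comp_id]
  rw [Finset.sum_eq_single j]
  · rw [← Category.assoc, ι_q_self, Category.id_comp]
  · intro i _ hij
    rw [← Category.assoc, ι_q_ne B hij.symm, zero_comp]
  · intro h
    exact (h (Finset.mem_univ j)).elim

end Sig

section Basic
variable {X : Scheme.{u}}

theorem secVal_id (U : X.Opens) :
    secVal (𝟙 (Coh.structureModule X)) U = TwForm.one' U := by
  rw [secVal_eq]
  rfl

theorem secVal_zero (L : X.Modules) (U : X.Opens) :
    secVal (0 : Coh.structureModule X ⟶ L) U = 0 := by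
  rw [secVal_eq, Scheme.Modules.Hom.zero_app]
  rfl

theorem HH0_nat {M N : X.Modules} (φ : M ⟶ N) (x : Coh.HH X M 0) :
    HH0.equiv X N (Sheaf.H.map ((SheafOfModules.toSheaf X.ringCatSheaf).map φ) 0 x) =
      φ.app ⊤ (HH0.equiv X M x) :=
  (Sheaf.H.equiv₀_naturality (Limits.isTerminalTop (α := Opens X))
    ((SheafOfModules.toSheaf X.ringCatSheaf).map φ) x).symm

theorem app_top_injective_of_H0 {M N : X.Modules} (φ : M ⟶ N)
    (h : Function.Injective (Sheaf.H.map ((SheafOfModules.toSheaf X.ringCatSheaf).map φ) 0)) :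
    Function.Injective (φ.app ⊤) := by
  intro a b hab
  obtain ⟨x, rfl⟩ := (HH0.equiv X M).surjective a
  obtain ⟨y, rfl⟩ := (HH0.equiv X M).surjective b
  rw [← HH0_nat, ← HH0_nat] at hab
  rw [h ((HH0.equiv X N).injective hab)]

end Basic

section Fin
variable (k : Type u) [Field k] (X : Scheme.{u}) [X.Over (Spec (CommRingCat.of k))]
  [IsProper (X ↘ (Spec (CommRingCat.of k)))]

set_option maxHeartbeats 1600000 in
include k in
/-- a free module injecting on global sections into a coherent module has finite rank -/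
theorem finite_index [Nonempty X] (L : X.Modules) (hL : Coh.IsCoh L) (J : Type u)
    (ev : (∐ fun _ : J => Coh.structureModule X) ⟶ L)
    (hinj : Function.Injective (ev.app ⊤)) : Finite J := by
  classical
  letI := Groth.Agent.Lead.VBL.modΓ k X L
  haveI := Groth.Agent.Lead.VBL.finite_Γ k X L hL
  haveI : Nonempty (⊤ : X.Opens) := ⟨⟨Classical.arbitrary X, trivial⟩⟩
  haveI : Nontrivial (Coh.Γtop X) := Scheme.component_nontrivial X ⊤
  have htg : Function.Injective (Coh.toGlobal (X ↘ Spec (CommRingCat.of k))) :=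
    RingHom.injective _
  have hli : LinearIndependent k (fun j : J => (show L.val.obj (op ⊤) from
      ev.app ⊤ (secVal (Sigma.ι (fun _ : J => Coh.structureModule X) j) ⊤))) := by
    rw [linearIndependent_iff']
    intro s g hg j hj
    have h1 : ev.app ⊤ (∑ i ∈ s,
        (show Γ(X, ⊤) from Coh.toGlobal (X ↘ Spec (CommRingCat.of k)) (g i)) •
        secVal (Sigma.ι (fun _ : J => Coh.structureModule X) i) ⊤) = 0 := by
      rw [map_sum]
      refine Eq.trans (Finset.sum_congr rfl fun i _ => ?_) hg
      exact Scheme.Modules.Hom.app_smul ev _ _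
    have h0 : ev.app ⊤ 0 = 0 := by rw [map_zero]
    have h2 := hinj (h1.trans h0.symm)
    have h3 := congrArg
      (fun m => (q (fun _ : J => Coh.structureModule X) j).app ⊤ m) h2
    simp only at h3
    rw [map_sum, map_zero] at h3
    have h4 : ∀ i ∈ s, (q (fun _ : J => Coh.structureModule X) j).app ⊤
        ((show Γ(X, ⊤) from Coh.toGlobal (X ↘ Spec (CommRingCat.of k)) (g i)) •
          secVal (Sigma.ι (fun _ : J => Coh.structureModule X) i) ⊤) =
        if i = j then (show Γ(Coh.structureModule X, ⊤) from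
          Coh.toGlobal (X ↘ Spec (CommRingCat.of k)) (g i)) else 0 := by
      intro i _
      obtain ⟨c, hc⟩ : ∃ c : Γ(X, ⊤), c = Coh.toGlobal (X ↘ Spec (CommRingCat.of k)) (g i) :=
        ⟨_, rfl⟩
      rw [← hc]
      refine (Scheme.Modules.Hom.app_smul _ _ _).trans ?_
      rw [app_secVal]
      by_cases hij : i = j
      · subst hij
        rw [ι_q_self, if_pos rfl, secVal_id]
        change c * 1 = c
        exact mul_one c
      · rw [ι_q_ne _ hij, if_neg hij, secVal_zero, smul_zero]
    rw [Finset.sum_congr rfl h4, Finset.sum_ite_eq' s j, if_pos hj] at h3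
    have h5 : Coh.toGlobal (X ↘ Spec (CommRingCat.of k)) (g j) = 0 := h3
    exact htg (h5.trans (map_zero _).symm)
  exact hli.finite

end Fin

section Decomp
variable {X : Scheme.{u}} (G : X.Modules) (J : Type u) [Fintype J] [DecidableEq J]

set_option maxHeartbeats 1600000 in
/-- global sections of `O^J ⊗ G` are sums of `ε_j ⊗ g_j` -/
theorem decomp_tensor (w : Γ(CohB1.tensorMod (∐ fun _ : J => Coh.structureModule X) G, ⊤)) :
    ∃ g : J → Γ(G, ⊤), w = ∑ j, tm (∐ fun _ : J => Coh.structureModule X) G ⊤
      (secVal (Sigma.ι (fun _ : J => Coh.structureModule X) j) ⊤) (g j) := by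
  have hid : ∑ j, (TL G).map (q (fun _ : J => Coh.structureModule X) j) ≫
      (TL G).map (Sigma.ι (fun _ : J => Coh.structureModule X) j) = 𝟙 _ := by
    have h : ∀ j, (TL G).map (q (fun _ : J => Coh.structureModule X) j) ≫
        (TL G).map (Sigma.ι (fun _ : J => Coh.structureModule X) j) =
        (TL G).map (q (fun _ : J => Coh.structureModule X) j ≫
          Sigma.ι (fun _ : J => Coh.structureModule X) j) := fun j => ((TL G).map_comp _ _).symm
    rw [Finset.sum_congr rfl fun j _ => h j, ← CategoryTheory.Functor.map_sum, sum_q_ι, CategoryTheory.Functor.map_id]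
  have h2 : ∑ j, TLapp G (Sigma.ι (fun _ : J => Coh.structureModule X) j) ⊤
      (TLapp G (q (fun _ : J => Coh.structureModule X) j) ⊤ w) = w := by
    have h1 := congrArg (fun φ : (TL G).obj (∐ fun _ : J => Coh.structureModule X) ⟶
      (TL G).obj (∐ fun _ : J => Coh.structureModule X) => φ.app ⊤ w) hid
    simp only at h1
    rw [FinSigma.sum_app] at h1
    exact h1
  have hg : ∀ j, ∃ g : Γ(G, ⊤), tm (Coh.structureModule X) G ⊤ (TwForm.one' ⊤) g =
      TLapp G (q (fun _ : J => Coh.structureModule X) j) ⊤ w := fun j =>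
    (bijective_tm_of_isGen_left G (AmpleLib.isGen_one' ⊤)).2 _
  choose g hg using hg
  refine ⟨g, h2.symm.trans (Finset.sum_congr rfl fun j _ => ?_)⟩
  rw [← hg j, TLapp_tm, secVal_eq]
  rfl

end Decomp

section Main
variable (k : Type u) [Field k] (X : Scheme.{u}) [X.Over (Spec (CommRingCat.of k))]
  [IsProper (X ↘ (Spec (CommRingCat.of k)))]

set_option maxHeartbeats 1600000 in
include k in
/-- **multiplication of sections is onto** when `H¹(K ⊗ G) = 0` for the kernel `K` of the
evaluation map -/
theorem main (L : X.Modules) (hL : PicF.IsInvertible L) (J : Type u)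
    (ev : (∐ fun _ : J => Coh.structureModule X) ⟶ L) (hepi : Epi ev)
    (hinj : Function.Injective (ev.app ⊤)) (G : X.Modules)
    (hvan : Subsingleton (Coh.HH X (CohB1.tensorMod (kernel ev) G) 1)) :
    Function.Surjective ((toSheafify (Opens.grothendieckTopology X)
      (CohB1.tensorPre L G).presheaf).app (op ⊤)) := by
  classical
  by_cases hX : Nonempty X
  swap
  · have hsub : Subsingleton Γ(CohB1.tensorMod L G, ⊤) :=
      FinSupp.subsingleton_sections _ ⊤ (fun x _ => (hX ⟨x⟩).elim)
    intro u
    exact ⟨0, hsub.elim _ _⟩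
  haveI := hX
  haveI : Finite J := finite_index k X L (InvQc.isCoh_of_isInvertible L hL) J ev hinj
  haveI : Fintype J := Fintype.ofFinite J
  have hS : (ShortComplex.mk (kernel.ι ev) ev (kernel.condition ev)).ShortExact :=
    ShortComplex.ShortExact.mk' (ShortComplex.exact_kernel ev) inferInstance hepi
  have hflat : ModSite.IsFlat (O := X.sheaf) L :=
    Groth.Agent.Lib.Helper5.Misc.StalkFlatSch.isFlat_of_flatMod L
      (Groth.Agent.Lib.Helper5.StalkAdj.flatMod_of_isFinLocFree L
        (InvInv2.isFinLocFree_of_isInvertible hL))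
  have hT : ((ShortComplex.mk (kernel.ι ev) ev (kernel.condition ev)).map (TL G)).ShortExact :=
    Groth.Agent.Lib.Helper5.TensorSES.shortExact_map (O := X.sheaf) _ hS hflat G
  have hsurj : Function.Surjective (((TL G).map ev).app ⊤) :=
    H1Surj.app_top_surjective_of_H1 hT hvan
  have key : ∀ u : Γ(CohB1.tensorMod L G, ⊤), ∃ g : J → Γ(G, ⊤),
      u = ∑ j, tm L G ⊤
        (ev.app ⊤ (secVal (Sigma.ι (fun _ : J => Coh.structureModule X) j) ⊤)) (g j) := by
    intro u
    obtain ⟨w, hw⟩ := hsurj u
    obtain ⟨g, hg⟩ := decomp_tensor G J w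
    refine ⟨g, ?_⟩
    have hw' : TLapp G ev ⊤ w = u := hw
    rw [← hw', hg, map_sum]
    exact Finset.sum_congr rfl fun j _ => TLapp_tm G ev ⊤ _ _
  intro u
  obtain ⟨g, hg⟩ := key u
  refine ⟨∑ j, TmulLib.pure L G ⊤
    (ev.app ⊤ (secVal (Sigma.ι (fun _ : J => Coh.structureModule X) j) ⊤)) (g j), ?_⟩
  rw [map_sum]
  exact (hg.trans (Finset.sum_congr rfl fun j _ => rfl)).symm

set_option maxHeartbeats 1600000 in
include k in
/-- the statement of S18223 -/
theorem s18223 (L : X.Modules) (hL : PicF.IsInvertible L)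
    (J : Type u) (ev : (SheafOfModules.free J : X.Modules) ⟶ L) [Epi ev]
    (hev : Function.Bijective
      (Sheaf.H.map ((SheafOfModules.toSheaf X.ringCatSheaf).map ev) 0))
    (i h : ℕ)
    (hvan : Subsingleton (Coh.HH X (CohB1.tensorMod (CohB1.tensorPow (kernel ev) (i + 1))
      (CohB1.tensorPow L h)) 1)) :
    Function.Surjective ((toSheafify (Opens.grothendieckTopology ↥X)
      (CohB1.tensorPre L (CohB1.tensorMod (CohB1.tensorPow (kernel ev) i)
        (CohB1.tensorPow L h))).presheaf).app (Opposite.op ⊤)) := by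
  have e : CohB1.tensorMod (kernel ev)
      (CohB1.tensorMod (CohB1.tensorPow (kernel ev) i) (CohB1.tensorPow L h)) ≅
      CohB1.tensorMod (CohB1.tensorPow (kernel ev) (i + 1)) (CohB1.tensorPow L h) :=
    (Groth.Agent.Lead.PicCalc.assocIso _ _ _).symm ≪≫
      Groth.Agent.Lead.TilT.tensorModCongr (Groth.Agent.Lead.PicCalc.commIso _ _) (Iso.refl _)
  haveI := hvan
  have hvan' : Subsingleton (Coh.HH X (CohB1.tensorMod (kernel ev)
      (CohB1.tensorMod (CohB1.tensorPow (kernel ev) i) (CohB1.tensorPow L h))) 1) :=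
    (HHFin1.HHequiv k e 1).toEquiv.subsingleton
  exact main k X L hL J ev ‹Epi ev› (app_top_injective_of_H0 ev hev.1) _ hvan'

end Main

end Groth.Agent.Helper1.MulKer
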