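import Mathlib
import Groth.Agent.Lib.Helper1.NM15

/-!
# Strictly nef and effective on all subvarieties implies ample (helper1)
-/

set_option autoImplicit false
universe u

open CategoryTheory CategoryTheory.Limits AlgebraicGeometry TopologicalSpace Opposite

namespace Groth.Agent.Helper1.NM

open Groth.Agent.Helper1.QcCech Groth.Agent.Helper1 Groth.Agent.Helper1.TwForm
open Groth.Agent.Helper1.Snap Groth.Agent.Helper1.SnapPos Groth.Agent.Helper1.Dv
open Groth.Agent.Lib.Helper4

section Main

variable (k : Type u) [Field k] (X : Scheme.{u}) [X.Over (Spec (CommRingCat.of k))]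
  [IsProper (X ↘ (Spec (CommRingCat.of k)))] [IsNoetherian X]

/-- positivity on curves -/
def CurvePos (L : X.Modules) (hL : PicF.IsInvertible L) : Prop :=
  ∀ (Z : X.IdealSheafData) [IsIntegral Z.subscheme],
    topologicalKrullDim (Z.support : Set X) = ((1 : ℕ) : WithBot ℕ∞) →
    0 < lam k X L hL 1 (KZero.clSub (PC X) (ClSub.quotMod Z))

/-- a positive power of the restriction to every integral closed subscheme is effective -/
def EffOn (L : X.Modules) : Prop :=
  ∀ (Z : X.IdealSheafData), IsIntegral Z.subscheme →
    ∃ (m : ℕ) (s : Coh.structureModule Z.subscheme ⟶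
      CohB1.tensorPow ((Scheme.Modules.pullback Z.subschemeι).obj L) (m + 1)), s ≠ 0

theorem main_step_eff (L : X.Modules) (hL : PicF.IsInvertible L) (H : CurvePos k X L hL)
    (J : X.IdealSheafData) [IsIntegral J.subscheme]
    (hIH : ∀ S' : Set X, IsClosed S' → S' ⊂ (J.support : Set X) → AmpleOn L S')
    (m : ℕ) (s : Coh.structureModule J.subscheme ⟶
      CohB1.tensorPow ((Scheme.Modules.pullback J.subschemeι).obj L) (m + 1)) (hs : s ≠ 0) :
    CohB1.IsAmple ((Scheme.Modules.pullback J.subschemeι).obj L) := by
  letI : J.subscheme.Over (Spec (CommRingCat.of k)) :=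
    ⟨J.subschemeι ≫ (X ↘ Spec (CommRingCat.of k))⟩
  haveI : IsProper (J.subscheme ↘ Spec (CommRingCat.of k)) := by
    change IsProper (J.subschemeι ≫ (X ↘ Spec (CommRingCat.of k)))
    infer_instance
  haveI : IsNoetherian J.subscheme := Euler.isNoetherian_of_proper k J.subscheme
  have hM : PicF.IsInvertible ((Scheme.Modules.pullback J.subschemeι).obj L) :=
    PullGen.isInvertible_pullback J.subschemeι hL
  -- ampleness on proper closed subschemes
  have IH' : ∀ K : J.subscheme.IdealSheafData, genericPoint J.subscheme ∉ K.support →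
      CohB1.IsAmple ((Scheme.Modules.pullback K.subschemeι).obj
        ((Scheme.Modules.pullback J.subschemeι).obj L)) := by
    intro K hK
    have hcl : IsClosed (Set.range (K.subschemeι ≫ J.subschemeι)) :=
      (K.subschemeι ≫ J.subschemeι).isClosedEmbedding.isClosed_range
    have hss : Set.range (K.subschemeι ≫ J.subschemeι) ⊂ (J.support : Set X) := by
      rw [← J.range_subschemeι]
      refine ⟨?_, fun h => hK ?_⟩
      · rintro _ ⟨z, rfl⟩
        exact ⟨K.subschemeι z, rfl⟩
      · obtain ⟨z, hz⟩ := h ⟨genericPoint J.subscheme, rfl⟩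
        have hz' : J.subschemeι (K.subschemeι z) = J.subschemeι (genericPoint J.subscheme) := hz
        have h2 : K.subschemeι z = genericPoint J.subscheme :=
          J.subschemeι.isClosedEmbedding.injective hz'
        have h3 : K.subschemeι z ∈ (K.support : Set J.subscheme) := by
          rw [← K.range_subschemeι]
          exact ⟨z, rfl⟩
        rw [h2] at h3
        exact h3
    have h1 := hIH _ hcl hss K.subscheme (K.subschemeι ≫ J.subschemeι) subset_rfl
    exact TwistAmpleOpen.isAmple_of_iso
      ((Scheme.Modules.pullbackComp K.subschemeι J.subschemeι).app L).symm h1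
  have e1 : topologicalKrullDim ↥J.subscheme = topologicalKrullDim ↥(J.support : Set X) := by
    have := IsHomeomorph.topologicalKrullDim_eq _
      (J.subschemeι.isClosedEmbedding.isEmbedding.toHomeomorph).isHomeomorph
    rwa [J.range_subschemeι] at this
  have hOc := Dv.isCoh_structureModule J.subscheme
  have hG : PicF.IsInvertible
      (CohB1.tensorPow ((Scheme.Modules.pullback J.subschemeι).obj L) (m + 1)) :=
    isInvertible_tensorPow hM (m + 1)
  have hGc := InvQc.isCoh_of_isInvertible _ hG
  haveI : Mono s := Curve.mono_of_ne_zero GenLoc.isInvertible_O hG s hs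
  have hbij := Curve.stalkL_bijective_of_ne_zero GenLoc.isInvertible_O hG s hs
  have hηC : genericPoint J.subscheme ∉ CohB1.support (cokernel s) :=
    Dv.notMem_support_cokernel' s _ hbij.2
  have hCc : Coh.IsCoh (cokernel s) := FtLocal.isCoh_cokernel hOc hGc s
  obtain ⟨K, hk, hηK⟩ := exists_ideal_of_notMem_support (cokernel s) hCc _ hηC
  have hampK : CohB1.IsAmple ((Scheme.Modules.pullback K.subschemeι).obj
      (CohB1.tensorPow ((Scheme.Modules.pullback J.subschemeι).obj L) (m + 1))) := by
    have h1 := IH' K hηK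
    have h2 := (AmpleLib.isAmple_tensorPow_iff
      (PullGen.isInvertible_pullback K.subschemeι hM) (m + 1) (Nat.succ_pos m)).1 h1
    exact TwistAmpleOpen.isAmple_of_iso (PullPow.powIso K.subschemeι hM (m + 1)).symm h2
  obtain ⟨n₀, hn₀⟩ := gg_of_section k J.subscheme hG s K hk hampK
  have hgg : Curv2.IsGloballyGenerated
      (CohB1.tensorPow ((Scheme.Modules.pullback J.subschemeι).obj L) ((m + 1) * (n₀ + 1))) :=
    AmpleLib.isGloballyGenerated_of_iso (SecOps.powIso' hM (m + 1) (n₀ + 1))
      (hn₀ (n₀ + 1) (by omega))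
  obtain ⟨m', hm'⟩ : ∃ m', (m + 1) * (n₀ + 1) = m' + 1 :=
    ⟨(m + 1) * (n₀ + 1) - 1,
      (Nat.sub_add_cancel (Nat.mul_pos (Nat.succ_pos m) (Nat.succ_pos n₀))).symm⟩
  rw [hm'] at hgg
  apply isAmple_of_strictly_nef k J.subscheme _ hM m' hgg
  intro ξ hξ
  by_cases hcl : genericPoint J.subscheme ∈ closure ({ξ} : Set J.subscheme)
  · have hcl' : closure ({ξ} : Set J.subscheme) = Set.univ := by
      apply Set.eq_univ_of_univ_subset
      rw [← (genericPoint_spec J.subscheme).def]
      exact closure_minimal (Set.singleton_subset_iff.2 hcl) isClosed_closure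
    have h1 : topologicalKrullDim ↥(closure ({ξ} : Set J.subscheme)) =
        topologicalKrullDim ↥J.subscheme := by
      rw [hcl']
      exact IsHomeomorph.topologicalKrullDim_eq _ (Homeomorph.Set.univ _).isHomeomorph
    have hdimJ : topologicalKrullDim ↥(J.support : Set X) = ((1 : ℕ) : WithBot ℕ∞) := by
      rw [← e1, ← h1, hξ]
    have hposX := H J hdimJ
    have hposY : 0 < lam k J.subscheme _ hM 1
        (KZero.clSub (PC J.subscheme) (Coh.structureModule J.subscheme)) := by
      rw [lam_push_eq k X J.subscheme J.subschemeι rfl L hL (CurveDual.isCoh_quotMod J) 1]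
      exact hposX
    exact lam_one_ne_zero_of_dense k J.subscheme _ hM ξ hcl' hξ hposY
  · have hK : genericPoint J.subscheme ∉ (IntMult.ptIdeal ξ).support := by
      intro h
      apply hcl
      have h' : genericPoint J.subscheme ∈ ((IntMult.ptIdeal ξ).support : Set J.subscheme) := h
      rwa [coe_support_ptIdeal] at h'
    exact (pos_of_ample_restriction k J.subscheme _ hM ξ 1 hξ (IH' _ hK)).ne'

theorem ampleOn_closed_eff (L : X.Modules) (hL : PicF.IsInvertible L) (H : CurvePos k X L hL)
    (E : EffOn X L) :
    ∀ S : Closeds X, AmpleOn L (S : Set X) := by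
  intro S
  induction S using WellFoundedLT.induction with
  | _ S ih =>
    intro V c _ hc
    have hMV : PicF.IsInvertible ((Scheme.Modules.pullback c).obj L) :=
      PullGen.isInvertible_pullback c hL
    refine (AmpleDev.isAmple_iff_components k (c ≫ (X ↘ Spec (CommRingCat.of k))) hMV).2 ?_
    intro Z' hZ'
    haveI : IrreducibleSpace ↥(Scheme.IdealSheafData.vanishingIdeal Z').subscheme :=
      Dv.irreducibleSpace_vanishingIdeal_subscheme Z' hZ'.1
    haveI : IsReduced (Scheme.IdealSheafData.vanishingIdeal Z').subscheme :=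
      Dv.isReduced_vanishingIdeal_subscheme Z'
    haveI : IsIntegral (Scheme.IdealSheafData.vanishingIdeal Z').subscheme :=
      isIntegral_of_irreducibleSpace_of_isReduced _
    let v := (Scheme.IdealSheafData.vanishingIdeal Z').subschemeι
    let c' := v ≫ c
    haveI : IsClosedImmersion c' := inferInstanceAs (IsClosedImmersion (v ≫ c))
    haveI : IsIso c'.toImage := inferInstance
    haveI : Nonempty ↥c'.ker.subscheme :=
      ⟨c'.toImage (genericPoint (Scheme.IdealSheafData.vanishingIdeal Z').subscheme)⟩
    haveI : IsIntegral c'.ker.subscheme := isIntegral_of_isOpenImmersion (inv c'.toImage)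
    have hsub : (c'.ker.support : Set X) ⊆ (S : Set X) := by
      rw [Scheme.Hom.support_ker, c'.isClosedEmbedding.isClosed_range.closure_eq]
      rintro _ ⟨z, rfl⟩
      exact hc ⟨v z, rfl⟩
    obtain ⟨m, s, hs⟩ := E c'.ker inferInstance
    have hJ := main_step_eff k X L hL H c'.ker (fun S' hS'cl hS' =>
      ih ⟨S', hS'cl⟩ (lt_of_lt_of_le
        (show (⟨S', hS'cl⟩ : Closeds X) < c'.ker.support from SetLike.coe_ssubset_coe.1 hS')
        (SetLike.coe_subset_coe.1 hsub))) m s hs
    have h1 := isAmple_pullback_of_ker k X c' hL hJ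
    exact TwistAmpleOpen.isAmple_of_iso ((Scheme.Modules.pullbackComp v c).app L).symm h1

theorem isAmple_of_curvePos_of_effOn (L : X.Modules) (hL : PicF.IsInvertible L)
    (H : CurvePos k X L hL) (E : EffOn X L) : CohB1.IsAmple L := by
  have h := ampleOn_closed_eff k X L hL H E ⊤ X (𝟙 X) (Set.subset_univ _)
  exact TwistAmpleOpen.isAmple_of_iso ((Scheme.Modules.pullbackId X).app L) h

end Main

section Final

variable (k : Type u) [Field k] (X : Scheme.{u}) [X.Over (Spec (CommRingCat.of k))]
  [IsProper (X ↘ (Spec (CommRingCat.of k)))]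

/-- strictly nef and effective on all integral closed subschemes implies ample -/
theorem isAmple_of_strictlyNef_of_eff (L : X.Modules) (hL : PicF.IsInvertible L)
    (hnef : ∀ C : X.IdealSheafData, IsIntegral C.subscheme →
      topologicalKrullDim (C.support : Set X) = 1 →
        0 < Curv2.euler k X (CohB1.tensorMod (ClSub.quotMod C) L) -
          Curv2.euler k X (ClSub.quotMod C))
    (heff : ∀ Z : X.IdealSheafData, IsIntegral Z.subscheme →
      ∃ (m : ℕ) (s : Coh.structureModule Z.subscheme ⟶
          CohB1.tensorPow ((Scheme.Modules.pullback Z.subschemeι).obj L) (m + 1)), s ≠ 0) :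
    CohB1.IsAmple L := by
  haveI : IsNoetherian X := Euler.isNoetherian_of_proper k X
  apply isAmple_of_curvePos_of_effOn k X L hL ?_ heff
  intro Z hZ hdim
  rw [lam_one_clSub k X L hL _ (CurveDual.isCoh_quotMod Z)]
  exact hnef Z hZ (hdim.trans Nat.cast_one)

end Final

end Groth.Agent.Helper1.NM
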