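import Mathlib
import Groth.Agent.Lib.Helper4.Noether1
set_option autoImplicit false
universe u
namespace Groth.Agent.Helper1.NNPrime

theorem S6385 (k S : Type u) [Field k] [CommRing S] [Algebra k S]
    [Algebra.FiniteType k S] (q : Ideal S) [q.IsPrime] :
    ∃ (g : S) (d : ℕ), g ∉ q ∧ ringKrullDim (Localization.Away g) = d ∧
      (∀ g' : S, g' ∉ q → ringKrullDim (Localization.Away g) ≤ ringKrullDim (Localization.Away g')) ∧
      ∃ φ : MvPolynomial (Fin d) k →ₐ[k] Localization.Away g, Function.Injective φ ∧ φ.toRingHom.Finite := by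
  have key : ∀ g : {g : S // g ∉ q}, ∃ (s : ℕ) (φ : MvPolynomial (Fin s) k →ₐ[k] Localization.Away g.1),
      Function.Injective φ ∧ φ.toRingHom.Finite := by
    intro g
    have hnt : Nontrivial (Localization.Away g.1) := by
      by_contra hcon
      rw [not_nontrivial_iff_subsingleton] at hcon
      have h0 : (0 : S) ∈ Submonoid.powers g.1 :=
        (IsLocalization.subsingleton_iff (S := Localization.Away g.1) (M := Submonoid.powers g.1)).mp hcon
      obtain ⟨n, hn⟩ := h0
      have hn' : g.1 ^ n = 0 := hn
      exact g.2 (Ideal.IsPrime.mem_of_pow_mem inferInstance n (by rw [hn']; exact q.zero_mem))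
    have : Algebra.FinitePresentation S (Localization.Away g.1) :=
      IsLocalization.Away.finitePresentation g.1
    have : Algebra.FiniteType S (Localization.Away g.1) := inferInstance
    have : Algebra.FiniteType k (Localization.Away g.1) := Algebra.FiniteType.trans (R := k) (S := S) (A := Localization.Away g.1) inferInstance inferInstance
    exact exists_finite_inj_algHom_of_fg k (Localization.Away g.1)
  choose D φ hinj hfin using key
  have hdim : ∀ g, ringKrullDim (Localization.Away g.1) = (D g : WithBot ℕ∞) := by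
    intro g
    rw [Groth.Agent.Helper4.NN.ringKrullDim_eq_of_finite_injective (φ g).toRingHom (hfin g) (hinj g),
      Groth.Agent.Helper4.NN.ringKrullDim_mvPolynomial_fin]
  have hne : (Set.range D).Nonempty := ⟨_, ⟨⟨1, fun h => Ideal.IsPrime.ne_top inferInstance ((Ideal.eq_top_iff_one q).mpr h)⟩, rfl⟩⟩
  obtain ⟨g, hg⟩ := Nat.sInf_mem hne
  refine ⟨g.1, D g, g.2, hdim g, ?_, φ g, hinj g, hfin g⟩
  intro g' hg'
  rw [hdim g, hdim ⟨g', hg'⟩, hg]
  have h1 : sInf (Set.range D) ≤ D ⟨g', hg'⟩ := Nat.sInf_le (Set.mem_range_self _)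
  exact_mod_cast h1

end Groth.Agent.Helper1.NNPrime
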