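import Mathlib
import Groth.Agent.Lib.Helper1.PullNum1
import Groth.Agent.Lib.Helper1.ProjF5
import Groth.Agent.Lib.Helper1.SnapCyc2
import Groth.Agent.Lib.Helper1.H1Ext
import Groth.Agent.Lib.Helper4.RpushCoh1
import Groth.Agent.S0031

/-!
# The intersection number of pulled back invertible modules (helper1)

`(f^*L_1 ⋯ f^*L_d · Z) = deg(Z → f(Z)) (L_1 ⋯ L_d · f(Z))`, by the Leray spectral sequence,
the projection formula and the cycle formula for the top coefficient of Snapper polynomials.
-/

set_option backward.isDefEq.respectTransparency.types false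
set_option synthInstance.maxHeartbeats 400000
set_option autoImplicit false
set_option linter.unusedSectionVars false
set_option linter.style.haveILetI false
set_option linter.unusedVariables false
universe u
open CategoryTheory CategoryTheory.Limits AlgebraicGeometry TopologicalSpace Opposite

namespace Groth.Agent.Helper1.PullNum

open Groth.Agent.Helper1 Groth.Agent.Lib.Helper4.FibDim1 Groth.Agent.Helper1.Curve
open Groth.Agent.Helper1.SnapAlg

section Res

/-- composing with a closed immersion does not change residue degrees -/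
theorem residueDegree_comp_closedImmersion {Z W X : Scheme.{u}} (π : Z ⟶ W) (j : W ⟶ X)
    [IsClosedImmersion j] (z : Z) : (π ≫ j).residueDegree z = π.residueDegree z := by
  letI a1 : Algebra (X.residueField (j (π z))) (Z.residueField z) :=
    ((π ≫ j).residueFieldMap z).hom.toAlgebra
  letI a2 : Algebra (W.residueField (π z)) (Z.residueField z) :=
    (π.residueFieldMap z).hom.toAlgebra
  have hsurj : Function.Surjective (j.residueFieldMap (π z)).hom := by
    intro a
    obtain ⟨b, hb⟩ : ∃ b, (W.residue (π z)).hom b = a := IsLocalRing.residue_surjective a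
    obtain ⟨c, hc⟩ := j.stalkMap_surjective (π z) b
    refine ⟨(X.residue (j (π z))).hom c, ?_⟩
    have h := congrArg (fun ψ => ψ.hom c) (Scheme.residue_residueFieldMap j (π z))
    rw [← hb, ← hc]
    exact h
  have hbij : Function.Bijective (j.residueFieldMap (π z)).hom :=
    ⟨(j.residueFieldMap (π z)).hom.injective, hsurj⟩
  change Module.finrank (X.residueField (j (π z))) (Z.residueField z) =
    Module.finrank (W.residueField (π z)) (Z.residueField z)
  refine Algebra.finrank_eq_of_equiv_equiv (RingEquiv.ofBijective _ hbij) (RingEquiv.refl _) ?_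
  ext a
  change (π.residueFieldMap z).hom ((j.residueFieldMap (π z)).hom a) =
    ((π ≫ j).residueFieldMap z).hom a
  rw [Scheme.residueFieldMap_comp]
  rfl

end Res

section Congr

variable {X : Scheme.{u}}

theorem nonempty_tensorPows_congr {F F' : X.Modules} (e : F ≅ F') :
    ∀ (r : ℕ) (A B : Fin r → X.Modules) (_ : ∀ i, Nonempty (A i ≅ B i)) (n : Fin r → ℕ),
      Nonempty (Curv2.tensorPows F r A n ≅ Curv2.tensorPows F' r B n)
  | 0, _, _, _, _ => ⟨e⟩
  | r + 1, A, B, h, n => by
    obtain ⟨e1⟩ := nonempty_tensorPows_congr e r (fun i => A i.castSucc) (fun i => B i.castSucc)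
      (fun i => h i.castSucc) (fun i => n i.castSucc)
    obtain ⟨e2⟩ := h (Fin.last r)
    obtain ⟨e3⟩ := P1Iso.nonempty_tensorPow_iso_of_iso e2 (n (Fin.last r))
    exact ⟨Groth.Agent.Lead.TilT.tensorModCongr e1 e3⟩

end Congr

section Key

variable (k : Type u) [Field k] (W Z : Scheme.{u}) [W.Over (Spec (CommRingCat.of k))]
  [Z.Over (Spec (CommRingCat.of k))] [IsProper (W ↘ Spec (CommRingCat.of k))]
  [IsProper (Z ↘ Spec (CommRingCat.of k))]

/-- the Leray spectral sequence and the projection formula for Euler characteristics of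
pulled back twists -/
theorem euler_pullback_tensorPows (π : Z ⟶ W)
    (hπ : π ≫ (W ↘ Spec (CommRingCat.of k)) = Z ↘ Spec (CommRingCat.of k))
    (d : ℕ) (M : Fin d → W.Modules) (hM : ∀ i, PicF.IsInvertible (M i)) (n : Fin d → ℕ) :
    Curv2.euler k Z (Curv2.tensorPows (Coh.structureModule Z) d
        (fun i => (Scheme.Modules.pullback π).obj (M i)) n) =
      ∑ᶠ i : ℕ, (-1 : ℤ) ^ i * Curv2.euler k W
        (Curv2.tensorPows ((Coh.Rpush π i).obj (Coh.structureModule Z)) d M n) := by
  haveI : HasInjectiveResolutions Z.Modules := inferInstance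
  obtain ⟨N, hN⟩ : ∃ N : W.Modules, N = Curv2.tensorPows (Coh.structureModule W) d M n :=
    ⟨_, rfl⟩
  have hNinv : PicF.IsInvertible N := hN ▸ Snap.isInvertible_tensorPows d M hM n
  have hNflf : FlatMod.IsFinLocFree N := InvInv2.isFinLocFree_of_isInvertible hNinv
  obtain ⟨e2⟩ := Snap.nonempty_pullback_tensorPows_iso π d M hM n
  rw [← hN] at e2
  have hcoh : Coh.IsCoh ((Scheme.Modules.pullback π).obj N) :=
    InvQc.isCoh_of_isInvertible _ (PullGen.isInvertible_pullback π hNinv)
  rw [← Euler.euler_iso k Z e2, EulerLeray.main k W Z π hπ _ hcoh]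
  refine finsum_congr fun i => ?_
  obtain ⟨e3⟩ := ProjF.nonempty_rpush_pullback_iso π N hNflf i
  obtain ⟨e4⟩ := Snap.nonempty_tensorPows_iso ((Coh.Rpush π i).obj (Coh.structureModule Z)) d M
    hM n
  rw [← hN] at e4
  rw [Euler.euler_iso k W (e3 ≪≫ TildeTens.tensorModComm _ _ ≪≫ e4.symm)]

/-- the top coefficient of a Snapper polynomial on an integral scheme is the generic length times
a constant -/
theorem coeff_formula [IsIntegral W] (d : ℕ)
    (hdim : topologicalKrullDim W ≤ ((d : ℕ) : WithBot ℕ∞))
    (M : Fin d → W.Modules) (hM : ∀ i, PicF.IsInvertible (M i)) :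
    ∃ c : ℚ, ∀ (G : W.Modules) (hG : Coh.IsCoh G) (P : MvPolynomial (Fin d) ℚ),
      (∀ n : Fin d → ℕ, (Curv2.euler k W (Curv2.tensorPows G d M n) : ℚ) =
        MvPolynomial.eval (fun i => (n i : ℚ)) P) →
      MvPolynomial.coeff (ones d) P =
        if topologicalKrullDim W = ((d : ℕ) : WithBot ℕ∞) then
          ((Module.length (W.presheaf.stalk (genericPoint W))
            (G.presheaf.stalk (genericPoint W))).toNat : ℚ) * c
        else 0 := by
  classical
  haveI : AlgebraicGeometry.IsNoetherian W := Euler.isNoetherian_of_proper k W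
  have hQ : ∀ ξ : W, ∃ Q : MvPolynomial (Fin d) ℚ, ∀ n : Fin d → ℕ,
      (Curv2.euler k W (Curv2.tensorPows (Cyc.closureStructureSheaf ξ) d M n) : ℚ) =
        MvPolynomial.eval (fun i => (n i : ℚ)) Q := by
    intro ξ
    obtain ⟨Q, -, hQ⟩ := Snap.snapper k W (Cyc.closureStructureSheaf ξ)
      (Dv.isCoh_closureStructureSheaf ξ) d
      ((topologicalKrullDim_subspace_le W _).trans hdim) d M hM
    exact ⟨Q, hQ⟩
  choose Q hQ using hQ
  refine ⟨MvPolynomial.coeff (ones d) (Q (genericPoint W)), fun G hG P hP => ?_⟩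
  have hsupp : topologicalKrullDim ↥(CohB1.support G) ≤ ((d : ℕ) : WithBot ℕ∞) :=
    (topologicalKrullDim_subspace_le W _).trans hdim
  rw [Snap.coeff_eq_finsum k W G hG d hsupp M hM P hP Q (fun ξ _ n => hQ ξ n)]
  by_cases hd : topologicalKrullDim W = ((d : ℕ) : WithBot ℕ∞)
  · rw [if_pos hd]
    have hgen : ∀ ξ : W, topologicalKrullDim ↥(closure ({ξ} : Set W)) = ((d : ℕ) : WithBot ℕ∞) →
        ξ = genericPoint W := by
      intro ξ hξ
      have h1 : topologicalKrullDim ↥(Set.univ : Set W) ≤ ((d : ℕ) : WithBot ℕ∞) :=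
        (topologicalKrullDim_subspace_le W _).trans hd.le
      exact (FinLen.eq_of_specializes_of_dim_eq (Set.univ : Set W) isClosed_univ d h1 ξ hξ
        (genericPoint W) (Set.mem_univ _)
        ((genericPoint_spec W).specializes (Set.mem_univ ξ))).symm
    have hdimη : topologicalKrullDim ↥(closure ({genericPoint W} : Set W)) =
        ((d : ℕ) : WithBot ℕ∞) := by
      rw [genericPoint_closure]
      have := IsHomeomorph.topologicalKrullDim_eq _ (Homeomorph.Set.univ W).isHomeomorph
      rw [this, hd]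
    rw [finsum_eq_single _ (genericPoint W) (fun ξ hξ => if_neg (fun h => hξ (hgen ξ h))),
      if_pos hdimη]
  · rw [if_neg hd]
    refine (finsum_congr fun ξ => ?_).trans finsum_zero
    rw [if_neg]
    intro h
    apply hd
    apply le_antisymm hdim
    rw [← h]
    exact topologicalKrullDim_subspace_le W _

end Key

section Main

/-- the higher direct images of the structure sheaf -/
noncomputable abbrev RO {Z W : Scheme.{u}} (π : Z ⟶ W) [HasInjectiveResolutions Z.Modules] (i : ℕ) :
    W.Modules := (Coh.Rpush π i).obj (Coh.structureModule Z)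

/-- the pulled back family -/
noncomputable abbrev pullFam {W X : Scheme.{u}} (j : W ⟶ X) {d : ℕ} (L : Fin d → X.Modules) :
    Fin d → W.Modules := fun i => (Scheme.Modules.pullback j).obj (L i)

variable (k : Type u) [Field k] (X Y : Scheme.{u})
    [X.Over (Spec (CommRingCat.of k))] [Y.Over (Spec (CommRingCat.of k))]
    [IsProper (X ↘ (Spec (CommRingCat.of k)))] [IsProper (Y ↘ (Spec (CommRingCat.of k)))]

theorem euler_of_isZero (M : X.Modules) (hM : IsZero M) : Curv2.euler k X M = 0 := by
  unfold Curv2.euler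
  refine (finsum_congr fun i => ?_).trans finsum_zero
  haveI := H1Ext.subsingleton_HH_of_isZero hM i
  rw [Module.finrank_zero_of_subsingleton]
  simp

set_option maxHeartbeats 1600000 in
/-- S7682: the intersection number of pulled back invertible modules against an integral closed
subscheme -/
theorem s7682 (f : Y ⟶ X)
    (hf : f ≫ (X ↘ (Spec (CommRingCat.of k))) = Y ↘ (Spec (CommRingCat.of k)))
    (Z : Y.IdealSheafData) [IsIntegral Z.subscheme] (d : ℕ)
    (hZ : topologicalKrullDim (Z.support : Set Y) = d)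
    (L : Fin d → X.Modules) (hL : ∀ i, PicF.IsInvertible (L i))
    (PY PX : MvPolynomial (Fin d) ℚ)
    (hPY : ∀ n : Fin d → ℕ, (Curv2.euler k Y (Curv2.tensorPows (ClSub.quotMod Z) d
      (fun i => (Scheme.Modules.pullback f).obj (L i)) n) : ℚ) =
        MvPolynomial.eval (fun i => (n i : ℚ)) PY)
    (hPX : ∀ n : Fin d → ℕ, (Curv2.euler k X (Curv2.tensorPows
      (ClSub.quotMod (Z.subschemeι ≫ f).ker) d L n) : ℚ) =
        MvPolynomial.eval (fun i => (n i : ℚ)) PX) :
    MvPolynomial.coeff (Finsupp.equivFunOnFinite.symm fun _ : Fin d => 1) PY =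
      ((Z.subschemeι ≫ f).residueDegree (genericPoint Z.subscheme) : ℚ) *
        MvPolynomial.coeff (Finsupp.equivFunOnFinite.symm fun _ : Fin d => 1) PX := by
  classical
  obtain ⟨g, hg⟩ : ∃ g : Z.subscheme ⟶ X, g = Z.subschemeι ≫ f := ⟨_, rfl⟩
  rw [← hg] at hPX ⊢
  haveI hintW : IsIntegral g.ker.subscheme :=
    Groth.Agent.Lib.Helper4.IntSection1.isIntegral_image g
  letI instZ : Z.subscheme.Over (Spec (CommRingCat.of k)) :=
    ⟨Z.subschemeι ≫ (Y ↘ Spec (CommRingCat.of k))⟩
  letI instW : g.ker.subscheme.Over (Spec (CommRingCat.of k)) :=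
    ⟨g.ker.subschemeι ≫ (X ↘ Spec (CommRingCat.of k))⟩
  haveI : IsProper (Z.subscheme ↘ Spec (CommRingCat.of k)) := by
    change IsProper (Z.subschemeι ≫ (Y ↘ Spec (CommRingCat.of k))); infer_instance
  haveI : IsProper (g.ker.subscheme ↘ Spec (CommRingCat.of k)) := by
    change IsProper (g.ker.subschemeι ≫ (X ↘ Spec (CommRingCat.of k))); infer_instance
  have hgp : g ≫ (X ↘ Spec (CommRingCat.of k)) = Z.subscheme ↘ Spec (CommRingCat.of k) := by
    change g ≫ (X ↘ Spec (CommRingCat.of k)) = Z.subschemeι ≫ (Y ↘ Spec (CommRingCat.of k))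
    rw [hg, Category.assoc, hf]
  haveI : IsProper (g ≫ (X ↘ Spec (CommRingCat.of k))) := by rw [hgp]; infer_instance
  haveI : IsProper g := IsProper.of_comp g (X ↘ Spec (CommRingCat.of k))
  obtain ⟨π, hπdef⟩ : ∃ π : Z.subscheme ⟶ g.ker.subscheme, π = g.toImage := ⟨_, rfl⟩
  have hfac : π ≫ g.ker.subschemeι = g := by rw [hπdef]; exact g.toImage_imageι
  have hπ : π ≫ (g.ker.subscheme ↘ Spec (CommRingCat.of k)) =
      Z.subscheme ↘ Spec (CommRingCat.of k) := by
    change π ≫ g.ker.subschemeι ≫ (X ↘ Spec (CommRingCat.of k)) =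
      Z.subschemeι ≫ (Y ↘ Spec (CommRingCat.of k))
    rw [← Category.assoc, hfac]
    exact hgp
  haveI : IsProper (π ≫ (g.ker.subscheme ↘ Spec (CommRingCat.of k))) := by
    rw [hπ]; infer_instance
  haveI : IsProper π := IsProper.of_comp π (g.ker.subscheme ↘ Spec (CommRingCat.of k))
  haveI : IsDominant π := by rw [hπdef]; infer_instance
  have hη : π (genericPoint Z.subscheme) = genericPoint g.ker.subscheme :=
    Groth.Agent.Lib.Helper4.CurveTop1.map_genericPoint_of_isDominant π
  haveI : AlgebraicGeometry.IsNoetherian g.ker.subscheme :=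
    Euler.isNoetherian_of_proper k g.ker.subscheme
  haveI : HasInjectiveResolutions Z.subscheme.Modules := inferInstance
  have hres : g.residueDegree (genericPoint Z.subscheme) =
      π.residueDegree (genericPoint Z.subscheme) := by
    have h := residueDegree_comp_closedImmersion π g.ker.subschemeι (genericPoint Z.subscheme)
    rw [hfac] at h
    exact h
  -- dimensions
  have hdZ : topologicalKrullDim Z.subscheme = ((d : ℕ) : WithBot ℕ∞) := by
    rw [IsHomeomorph.topologicalKrullDim_eq _
      (Z.subschemeι.isClosedEmbedding.isEmbedding.toHomeomorph).isHomeomorph,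
      Scheme.IdealSheafData.range_subschemeι]
    exact hZ
  have hWle : topologicalKrullDim g.ker.subscheme ≤ ((d : ℕ) : WithBot ℕ∞) := by
    rw [← hdZ]
    exact dim_le k π (g.ker.subscheme ↘ Spec (CommRingCat.of k)) hη
  -- the modules on the image
  have hM : ∀ i, PicF.IsInvertible (pullFam g.ker.subschemeι L i) := fun i =>
    PullGen.isInvertible_pullback _ (hL i)
  have hcohO : Coh.IsCoh (Coh.structureModule Z.subscheme) := Dv.isCoh_structureModule _
  have hG : ∀ i, Coh.IsCoh (RO π i) := fun i =>
    Groth.Agent.Lib.Helper4.RpushCoh1.s0036 π _ hcohO i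
  obtain ⟨Df, hDf⟩ := Groth.Agent.S0031.result π
  have hGz : ∀ i, Df ≤ i → IsZero (RO π i) := fun i hi => by
    obtain ⟨e⟩ := RpushComp.nonempty_iso π (Coh.structureModule Z.subscheme) i
    exact RpushComp.isZero_of_toAb _ (IsZero.of_iso (hDf _ hcohO.1 i hi) e)
  have hPex : ∀ i, ∃ P : MvPolynomial (Fin d) ℚ, ∀ n : Fin d → ℕ,
      (Curv2.euler k g.ker.subscheme (Curv2.tensorPows (RO π i) d
        (pullFam g.ker.subschemeι L) n) : ℚ) = MvPolynomial.eval (fun j => (n j : ℚ)) P :=
    fun i => by
      obtain ⟨P, -, hP⟩ := Snap.snapper k g.ker.subscheme (RO π i) (hG i) d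
        ((topologicalKrullDim_subspace_le _ _).trans hWle) d (pullFam g.ker.subschemeι L) hM
      exact ⟨P, hP⟩
  choose P hP using hPex
  -- the Euler characteristics
  have hchain : ∀ n : Fin d → ℕ, Curv2.euler k Y (Curv2.tensorPows (ClSub.quotMod Z) d
      (fun i => (Scheme.Modules.pullback f).obj (L i)) n) =
      ∑ i ∈ Finset.range (Df + 1), (-1 : ℤ) ^ i * Curv2.euler k g.ker.subscheme
        (Curv2.tensorPows (RO π i) d (pullFam g.ker.subschemeι L) n) := by
    intro n
    rw [← Snap.euler_tensorPows_subscheme k Y Z d (fun i => (Scheme.Modules.pullback f).obj (L i))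
      (fun i => PullGen.isInvertible_pullback f (hL i)) n]
    obtain ⟨ec⟩ := nonempty_tensorPows_congr (Iso.refl (Coh.structureModule Z.subscheme)) d
      (fun i => (Scheme.Modules.pullback π).obj (pullFam g.ker.subschemeι L i))
      (fun i => (Scheme.Modules.pullback Z.subschemeι).obj
        ((Scheme.Modules.pullback f).obj (L i)))
      (fun i => ⟨(Scheme.Modules.pullbackComp π g.ker.subschemeι).app (L i) ≪≫
          (Scheme.Modules.pullbackCongr (hfac.trans hg)).app (L i) ≪≫
          ((Scheme.Modules.pullbackComp Z.subschemeι f).app (L i)).symm⟩) n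
    rw [← Euler.euler_iso k Z.subscheme ec,
      euler_pullback_tensorPows k g.ker.subscheme Z.subscheme π hπ d
        (pullFam g.ker.subschemeι L) hM n]
    rw [finsum_eq_sum_of_support_subset]
    intro i hi
    rw [Function.mem_support] at hi
    rw [Finset.coe_range, Set.mem_Iio]
    by_contra hlt
    apply hi
    have hz : IsZero (RO π i) := hGz i (by omega)
    obtain ⟨e4⟩ := Snap.nonempty_tensorPows_iso (RO π i) d (pullFam g.ker.subschemeι L) hM n
    have hz2 : IsZero (Curv2.tensorPows (RO π i) d (pullFam g.ker.subschemeι L) n) :=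
      ((ProjF.isZero_tensorMod_right _ _ hz).of_iso (TildeTens.tensorModComm _ _)).of_iso e4
    rw [euler_of_isZero k _ _ hz2, mul_zero]
  -- the polynomial identity
  have hpoly : PY = ∑ i ∈ Finset.range (Df + 1), MvPolynomial.C ((-1 : ℚ) ^ i) * P i := by
    apply eq_of_eval_nat_eq
    intro n
    rw [← hPY n, hchain n, map_sum]
    push_cast
    refine Finset.sum_congr rfl fun i _ => ?_
    rw [map_mul, MvPolynomial.eval_C, hP i n]
  obtain ⟨c, hc⟩ := coeff_formula k g.ker.subscheme d hWle (pullFam g.ker.subschemeι L) hM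
  have hcoefY : MvPolynomial.coeff (ones d) PY =
      ∑ i ∈ Finset.range (Df + 1), (-1 : ℚ) ^ i * MvPolynomial.coeff (ones d) (P i) := by
    rw [hpoly, MvPolynomial.coeff_sum]
    refine Finset.sum_congr rfl fun i _ => ?_
    rw [MvPolynomial.coeff_C_mul]
  have hPX' : ∀ n : Fin d → ℕ, (Curv2.euler k g.ker.subscheme (Curv2.tensorPows
      (Coh.structureModule g.ker.subscheme) d (pullFam g.ker.subschemeι L) n) : ℚ) =
      MvPolynomial.eval (fun i => (n i : ℚ)) PX := by
    intro n
    rw [← hPX n]
    exact congrArg (Int.cast : ℤ → ℚ) (Snap.euler_tensorPows_subscheme k X g.ker d L hL n)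
  have hcX := hc (Coh.structureModule g.ker.subscheme) (Dv.isCoh_structureModule _) PX hPX'
  rw [Euler.length_stalk_structureModule] at hcX
  change MvPolynomial.coeff (ones d) PY =
    (g.residueDegree (genericPoint Z.subscheme) : ℚ) * MvPolynomial.coeff (ones d) PX
  rw [hcoefY, hcX, hres]
  by_cases hd : topologicalKrullDim g.ker.subscheme = ((d : ℕ) : WithBot ℕ∞)
  · have htr : tr π (genericPoint Z.subscheme) = 0 :=
      tr_eq_zero k π (g.ker.subscheme ↘ Spec (CommRingCat.of k)) hη d hdZ hd
    rw [if_pos hd, Finset.sum_range_succ']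
    have hrest : ∑ i ∈ Finset.range Df,
        (-1 : ℚ) ^ (i + 1) * MvPolynomial.coeff (ones d) (P (i + 1)) = 0 := by
      refine Finset.sum_eq_zero fun i _ => ?_
      rw [hc (RO π (i + 1)) (hG (i + 1)) (P (i + 1)) (hP (i + 1)), if_pos hd,
        FinLen.length_stalk_eq_zero (generic_notMem_support_rpush π htr hη _ hcohO (i + 1)
          (Nat.succ_pos i))]
      simp
    have e0 : RO π 0 ≅ pushO π :=
      (Scheme.Modules.pushforward π).rightDerivedZeroIsoSelf.app
        (Coh.structureModule Z.subscheme)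
    rw [hrest, zero_add, pow_zero, one_mul, hc (RO π 0) (hG 0) (P 0) (hP 0), if_pos hd,
      FinLen.length_stalk_iso e0, length_stalk_pushO π htr hη]
    simp
  · rw [if_neg hd, mul_zero]
    refine Finset.sum_eq_zero fun i _ => ?_
    rw [hc (RO π i) (hG i) (P i) (hP i), if_neg hd, mul_zero]

end Main

end Groth.Agent.Helper1.PullNum
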