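import Mathlib
import Groth.Agent.Lib.Helper1.PullNum2
import Groth.Agent.Lib.Helper1.Kl4
import Groth.Agent.Lib.Helper1.NumSurj2
import Groth.Agent.Lib.Helper1.SnapPos7
import Groth.Agent.Lib.Helper4.ChowPn1
import Groth.Agent.Lib.Helper1.VA5
import Groth.Agent.Lib.Helper1.CurveDual2

/-!
# Nonnegativity of the top self-intersection of a nef invertible module (helper1)

On a proper scheme over a field, an invertible module which is nonnegative on all integral
curves has nonnegative top self-intersection on every integral closed subscheme: by Chow's lemma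
one passes to a projective modification, where Kleiman's theorem applies, and the pullback
formula for intersection numbers brings the result back.
-/

set_option backward.isDefEq.respectTransparency.types false
set_option synthInstance.maxHeartbeats 400000
set_option autoImplicit false
set_option linter.unusedSectionVars false
set_option linter.style.haveILetI false
set_option linter.unusedVariables false
universe u
open CategoryTheory CategoryTheory.Limits AlgebraicGeometry TopologicalSpace Opposite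

namespace Groth.Agent.Helper1.NefPos

open Groth.Agent.Helper1 Groth.Agent.Lib.Helper4.FibDim1 Groth.Agent.Helper1.Curve
open Groth.Agent.Helper1.SnapAlg Groth.Agent.Helper1.Euler Groth.Agent.Helper1.Dv
open Groth.Agent.Helper1.FinLen Groth.Agent.Helper1.TwForm
open Groth.Agent.Helper1.Snap Groth.Agent.Helper1.SnapPos Groth.Agent.Helper1.FGAInt
open Groth.Agent.Helper1.FGAPos Groth.Agent.Helper1.PullNum

section Res

/-- closed immersions are surjective on residue fields -/
theorem residueFieldMap_surjective_of_isClosedImmersion {W X : Scheme.{u}} (j : W ⟶ X)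
    [IsClosedImmersion j] (w : W) : Function.Surjective (j.residueFieldMap w).hom := by
  intro a
  obtain ⟨b, hb⟩ : ∃ b, (W.residue w).hom b = a := IsLocalRing.residue_surjective a
  obtain ⟨c, hc⟩ := j.stalkMap_surjective w b
  refine ⟨(X.residue (j w)).hom c, ?_⟩
  have h := congrArg (fun ψ => ψ.hom c) (Scheme.residue_residueFieldMap j w)
  rw [← hb, ← hc]
  exact h

/-- a morphism which is an isomorphism over an open induces isomorphisms of residue fields at
the points over that open -/
theorem residueFieldMap_surjective_of_isIso_restrict {Z W : Scheme.{u}} (π : Z ⟶ W) (U : W.Opens)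
    [IsIso (π ∣_ U)] (z : Z) (hz : π z ∈ U) :
    Function.Surjective (π.residueFieldMap z).hom := by
  obtain ⟨zV, hzV⟩ : ∃ zV : ↥(π ⁻¹ᵁ U), (π ⁻¹ᵁ U).ι zV = z := ⟨⟨z, hz⟩, rfl⟩
  subst hzV
  have hsq : (π ⁻¹ᵁ U).ι ≫ π = (π ∣_ U) ≫ U.ι := (morphismRestrict_ι π U).symm
  haveI : IsOpenImmersion ((π ⁻¹ᵁ U).ι ≫ π) := by rw [hsq]; infer_instance
  intro y
  obtain ⟨x, hx⟩ := (ConcreteCategory.bijective_of_isIso
    (((π ⁻¹ᵁ U).ι ≫ π).residueFieldMap zV)).2 (((π ⁻¹ᵁ U).ι.residueFieldMap zV).hom y)
  refine ⟨x, ?_⟩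
  have e : (((π ⁻¹ᵁ U).ι ≫ π).residueFieldMap zV).hom x =
      ((π ⁻¹ᵁ U).ι.residueFieldMap zV).hom ((π.residueFieldMap ((π ⁻¹ᵁ U).ι zV)).hom x) := by
    rw [Scheme.residueFieldMap_comp]
    rfl
  apply ((π ⁻¹ᵁ U).ι.residueFieldMap zV).hom.injective
  rw [← e]
  exact hx

theorem residueFieldMap_surjective_comp {A B C : Scheme.{u}} (c : A ⟶ B) (π : B ⟶ C) (a : A)
    (h1 : Function.Surjective (c.residueFieldMap a).hom)
    (h2 : Function.Surjective (π.residueFieldMap (c a)).hom) :
    Function.Surjective ((c ≫ π).residueFieldMap a).hom := by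
  intro y
  obtain ⟨b, hb⟩ := h1 y
  obtain ⟨x, hx⟩ := h2 b
  refine ⟨x, ?_⟩
  have e : ((c ≫ π).residueFieldMap a).hom x =
      (c.residueFieldMap a).hom ((π.residueFieldMap (c a)).hom x) := by
    rw [Scheme.residueFieldMap_comp]
    rfl
  rw [e, hx, hb]

/-- a surjective residue field map has positive degree and transcendence degree zero -/
theorem residueDegree_pos_and_tr_eq_zero {A C : Scheme.{u}} (p : A ⟶ C) [LocallyOfFiniteType p]
    (a : A) (hs : Function.Surjective (p.residueFieldMap a).hom) :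
    0 < p.residueDegree a ∧ tr p a = 0 := by
  letI a1 : Algebra (C.residueField (p a)) (A.residueField a) :=
    (p.residueFieldMap a).hom.toAlgebra
  haveI : Module.Finite (C.residueField (p a)) (A.residueField a) :=
    Module.Finite.of_surjective (Algebra.linearMap _ _) hs
  refine ⟨Module.finrank_pos, ?_⟩
  haveI : Algebra.IsAlgebraic (C.residueField (p a)) (A.residueField a) :=
    Algebra.IsAlgebraic.of_finite _ _
  apply tr_eq_of_trdeg_eq p a 0
  rw [Nat.cast_zero]
  exact trdeg_eq_zero

end Res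

section Coeff

variable (k : Type u) [Field k] (X : Scheme.{u}) [X.Over (Spec (CommRingCat.of k))]
  [IsProper (X ↘ (Spec (CommRingCat.of k)))] [AlgebraicGeometry.IsNoetherian X]

/-- the top coefficient of the Snapper polynomial of `d` copies of `L` against a coherent module,
as the value of the `d`-fold difference operator -/
theorem coeff_eq_lam_coh (L : X.Modules) (hL : PicF.IsInvertible L) (d : ℕ) (G : X.Modules)
    (hG : Coh.IsCoh G)
    (hsupp : topologicalKrullDim ↥(CohB1.support G) ≤ ((d : ℕ) : WithBot ℕ∞))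
    (P : MvPolynomial (Fin d) ℚ)
    (hP : ∀ n : Fin d → ℕ, (Curv2.euler k X (Curv2.tensorPows G d (fun _ => L) n) : ℚ) =
      MvPolynomial.eval (fun i => (n i : ℚ)) P) :
    MvPolynomial.coeff (ones d) P = ((lam k X L hL d (KZero.clSub (PC X) G) : ℤ) : ℚ) := by
  obtain ⟨P₀, hP₀d, hP₀⟩ := snapper k X G hG d hsupp d (fun _ => L) (fun _ => hL)
  have hPP₀ : P = P₀ := eq_of_eval_nat_eq P P₀ (fun n => by rw [← hP n, ← hP₀ n])
  have hPd : P.totalDegree ≤ d := hPP₀ ▸ hP₀d
  have hval : ∀ n : Fin d → ℕ, ((gfun k X L hL (KZero.clSub (PC X) G) (∑ i, n i) : ℤ) : ℚ) =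
      MvPolynomial.eval (fun i => (n i : ℚ)) P := by
    intro n
    rw [← hP n]
    congr 1
    unfold gfun
    rw [← Tn_const L hL d n, ← clSub_tensorPows _ hG d (fun _ => L) (fun _ => hL) n,
      eulerHom_clSub k X _ (isCoh_tensorPows _ hG d _ (fun _ => hL) n)]
  exact coeff_eq_lam k X L hL d _ P hPd hval

/-- Kleiman's theorem for the top coefficient of Snapper polynomials -/
theorem coeff_nonneg_of_nef (L A : X.Modules) (hL : PicF.IsInvertible L) (hA : CohB1.IsAmple A)
    (hnef : Kleiman.NefS k X L) (d : ℕ) (G : X.Modules) (hG : Coh.IsCoh G)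
    (hsupp : topologicalKrullDim ↥(CohB1.support G) ≤ ((d : ℕ) : WithBot ℕ∞))
    (P : MvPolynomial (Fin d) ℚ)
    (hP : ∀ n : Fin d → ℕ, (Curv2.euler k X (Curv2.tensorPows G d (fun _ => L) n) : ℚ) =
      MvPolynomial.eval (fun i => (n i : ℚ)) P) :
    0 ≤ MvPolynomial.coeff (ones d) P := by
  rw [coeff_eq_lam_coh k X L hL d G hG hsupp P hP]
  have h := Kleiman.km_coh k X L A hL hA hnef d G hG hsupp d 0 (by omega)
  rw [Kleiman.sym_apply, pow_zero, mul_one] at h
  rw [lam_apply]
  exact_mod_cast h

end Coeff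

section Main

set_option maxHeartbeats 1600000 in
/-- S11370: a nef invertible module has nonnegative top self-intersection on every integral
closed subscheme of a proper scheme over a field -/
theorem s11370 (k : Type u) [Field k] (X : Scheme.{u})
    [X.Over (Spec (CommRingCat.of k))] [IsProper (X ↘ (Spec (CommRingCat.of k)))]
    (L : X.Modules) (hL : PicF.IsInvertible L)
    (hnef : ∀ C : X.IdealSheafData, IsIntegral C.subscheme →
      topologicalKrullDim (C.support : Set X) = 1 →
      0 ≤ (Curv2.euler k X (CohB1.tensorMod (ClSub.quotMod C) L) -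
        Curv2.euler k X (ClSub.quotMod C)))
    (Z : X.IdealSheafData) [IsIntegral Z.subscheme] (d : ℕ)
    (hZ : topologicalKrullDim (Z.support : Set X) = d)
    (P : MvPolynomial (Fin d) ℚ)
    (hP : ∀ n : Fin d → ℕ,
      (Curv2.euler k X (Curv2.tensorPows (ClSub.quotMod Z) d (fun _ => L) n) : ℚ) =
        MvPolynomial.eval (fun i => (n i : ℚ)) P) :
    0 ≤ MvPolynomial.coeff (Finsupp.equivFunOnFinite.symm fun _ : Fin d => 1) P := by
  classical
  obtain ⟨ι, hι⟩ : ∃ ι : Z.subscheme ⟶ X, ι = Z.subschemeι := ⟨_, rfl⟩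
  haveI : IsClosedImmersion ι := by rw [hι]; infer_instance
  obtain ⟨fZ, hfZ⟩ : ∃ fZ : Z.subscheme ⟶ Spec (CommRingCat.of k),
    fZ = ι ≫ (X ↘ Spec (CommRingCat.of k)) := ⟨_, rfl⟩
  haveI : IsProper fZ := by rw [hfZ]; infer_instance
  obtain ⟨n, Z', π, j, hj, hjf, hπ, hπs, U, hU, hUi⟩ :=
    Groth.Agent.Lib.Helper4.ChowPn1.exists_chow fZ
  haveI := hj
  haveI := hπ
  haveI := hπs
  haveI := hUi
  letI instZ' : Z'.Over (Spec (CommRingCat.of k)) := ⟨π ≫ fZ⟩
  haveI : IsProper (Z' ↘ Spec (CommRingCat.of k)) := by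
    change IsProper (π ≫ fZ); infer_instance
  haveI : AlgebraicGeometry.IsNoetherian Z' := Euler.isNoetherian_of_proper k Z'
  -- the morphism to `X`
  obtain ⟨f, hf⟩ : ∃ f : Z' ⟶ X, f = π ≫ ι := ⟨_, rfl⟩
  have hfo : f ≫ (X ↘ Spec (CommRingCat.of k)) = Z' ↘ Spec (CommRingCat.of k) := by
    change f ≫ (X ↘ Spec (CommRingCat.of k)) = π ≫ fZ
    rw [hf, hfZ, Category.assoc]
  -- the modules
  have hL' : PicF.IsInvertible ((Scheme.Modules.pullback f).obj L) :=
    PullGen.isInvertible_pullback f hL
  have hA : CohB1.IsAmple ((Scheme.Modules.pullback j).obj (Twist.twistProjSpace n k 1)) :=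
    PullAmple.isAmple_pullback_of_isEmbedding j j.isClosedEmbedding.isEmbedding
      (VA5.isAmple_twistProjSpace n k)
  have hnef' : Kleiman.NefS k Z' ((Scheme.Modules.pullback f).obj L) :=
    SurfCurve.nefS_of_curves k Z' _ hL'
      (fun C' hC' hC'1 => NumSurj2.pullback_nef_of_nef k X Z' f hfo L hL hnef C' hC' hC'1)
  -- the generic point
  have hηU : genericPoint Z.subscheme ∈ U := by
    obtain ⟨x0, hx0⟩ := hU.nonempty
    exact genericPoint_mem_of_mem U x0 hx0
  obtain ⟨η', hη'⟩ := hπs.surj (genericPoint Z.subscheme)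
  obtain ⟨I, hI⟩ : ∃ I : Z'.IdealSheafData, I = IntMult.ptIdeal η' := ⟨_, rfl⟩
  haveI : IsIntegral I.subscheme := by rw [hI]; exact Dv.isIntegral_ptIdeal_subscheme η'
  have hrangeI : Set.range I.subschemeι = closure {η'} := by
    rw [hI]; exact Dv.range_ptIdeal_subschemeι η'
  obtain ⟨c, hc⟩ : ∃ c : I.subscheme ⟶ Z', c = I.subschemeι := ⟨_, rfl⟩
  haveI : IsClosedImmersion c := by rw [hc]; infer_instance
  have hcζ : c (genericPoint I.subscheme) = η' := by
    have hcl : closure {c (genericPoint I.subscheme)} = closure ({η'} : Set Z') := by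
      rw [hc, NumSurj.closure_generic_subscheme' I, ← hrangeI,
        Scheme.IdealSheafData.range_subschemeι]
    exact (inseparable_iff_closure_eq.2 hcl).eq
  obtain ⟨π₂, hπ₂⟩ : ∃ π₂ : I.subscheme ⟶ Z.subscheme, π₂ = c ≫ π := ⟨_, rfl⟩
  have hπ₂ζ : π₂ (genericPoint I.subscheme) = genericPoint Z.subscheme := by
    rw [hπ₂, Scheme.Hom.comp_apply, hcζ, hη']
  haveI : LocallyOfFiniteType π₂ := by rw [hπ₂]; infer_instance
  -- residue fields
  have hs : Function.Surjective (π₂.residueFieldMap (genericPoint I.subscheme)).hom := by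
    have h := residueFieldMap_surjective_comp c π (genericPoint I.subscheme)
      (residueFieldMap_surjective_of_isClosedImmersion c _)
      (residueFieldMap_surjective_of_isIso_restrict π U _ (by rw [hcζ, hη']; exact hηU))
    rw [← hπ₂] at h
    exact h
  obtain ⟨hdegpos, htr0⟩ := residueDegree_pos_and_tr_eq_zero π₂ _ hs
  -- dimensions
  have hdZ₀ : topologicalKrullDim Z.subscheme = ((d : ℕ) : WithBot ℕ∞) := by
    rw [IsHomeomorph.topologicalKrullDim_eq _
      (Z.subschemeι.isClosedEmbedding.isEmbedding.toHomeomorph).isHomeomorph,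
      Scheme.IdealSheafData.range_subschemeι]
    exact hZ
  have hdI : topologicalKrullDim I.subscheme = ((d : ℕ) : WithBot ℕ∞) := by
    rw [dim_eq_tr k (π₂ ≫ fZ), tr_comp π₂ fZ, hπ₂ζ, htr0, add_zero, ← dim_eq_tr k fZ, hdZ₀]
  have hIsupp : topologicalKrullDim (I.support : Set Z') = ((d : ℕ) : WithBot ℕ∞) := by
    rw [← hdI, IsHomeomorph.topologicalKrullDim_eq _
      (I.subschemeι.isClosedEmbedding.isEmbedding.toHomeomorph).isHomeomorph,
      Scheme.IdealSheafData.range_subschemeι]
  -- the quotient module on `Z'`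
  have hQc : Coh.IsCoh (ClSub.quotMod I) := CurveDual.isCoh_quotMod I
  have hQd : topologicalKrullDim ↥(CohB1.support (ClSub.quotMod I)) ≤
      ((d : ℕ) : WithBot ℕ∞) := by
    rw [← hIsupp]
    exact (Topology.IsEmbedding.inclusion
      (CurveDual.support_quotMod_subset I)).isInducing.topologicalKrullDim_le
  obtain ⟨PY, -, hPY⟩ := Snap.snapper k Z' (ClSub.quotMod I) hQc d hQd d
    (fun _ => (Scheme.Modules.pullback f).obj L) (fun _ => hL')
  have hPYnn : 0 ≤ MvPolynomial.coeff (ones d) PY :=
    coeff_nonneg_of_nef k Z' _ _ hL' hA hnef' d _ hQc hQd PY hPY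
  -- the kernel
  have hker : (I.subschemeι ≫ f).ker = Z := by
    obtain ⟨g, hg⟩ : ∃ g : I.subscheme ⟶ X, g = I.subschemeι ≫ f := ⟨_, rfl⟩
    rw [← hg]
    have hgζ : g (genericPoint I.subscheme) = ι (genericPoint Z.subscheme) := by
      rw [hg, hf, ← hc, Scheme.Hom.comp_apply, Scheme.Hom.comp_apply, hcζ, hη']
    have hsub : Set.range g ⊆ Set.range ι := by
      rintro _ ⟨x, rfl⟩
      refine ⟨π (c x), ?_⟩
      rw [hg, hf, ← hc, Scheme.Hom.comp_apply, Scheme.Hom.comp_apply]
    have hcl : closure (Set.range g) = closure (Set.range ι) := by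
      apply subset_antisymm (closure_mono hsub)
      rw [ι.isClosedEmbedding.isClosed_range.closure_eq, hι,
        Scheme.IdealSheafData.range_subschemeι, ← NumSurj.closure_generic_subscheme' Z]
      apply closure_mono
      rw [Set.singleton_subset_iff]
      exact ⟨genericPoint I.subscheme, by rw [hgζ, hι]⟩
    rw [NumSurj.ker_eq_vanishingIdeal_of_isReduced g]
    conv_rhs => rw [← Scheme.IdealSheafData.ker_subschemeι Z, ← hι,
      NumSurj.ker_eq_vanishingIdeal_of_isReduced ι]
    exact congrArg Scheme.IdealSheafData.vanishingIdeal (TopologicalSpace.Closeds.ext hcl)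
  have hPX : ∀ n : Fin d → ℕ, (Curv2.euler k X (Curv2.tensorPows
      (ClSub.quotMod (I.subschemeι ≫ f).ker) d (fun _ => L) n) : ℚ) =
      MvPolynomial.eval (fun i => (n i : ℚ)) P := by
    rw [hker]
    exact hP
  have key := s7682 k X Z' f hfo I d hIsupp (fun _ => L) (fun _ => hL) PY P hPY hPX
  have hdeg : (I.subschemeι ≫ f).residueDegree (genericPoint I.subscheme) =
      π₂.residueDegree (genericPoint I.subscheme) := by
    have h := residueDegree_comp_closedImmersion π₂ ι (genericPoint I.subscheme)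
    have e : π₂ ≫ ι = I.subschemeι ≫ f := by rw [hπ₂, hf, hc, Category.assoc]
    rw [e] at h
    exact h
  rw [hdeg] at key
  have hpos : (0 : ℚ) < (π₂.residueDegree (genericPoint I.subscheme) : ℚ) := by
    exact_mod_cast hdegpos
  change 0 ≤ MvPolynomial.coeff (ones d) P
  by_contra hneg
  rw [not_le] at hneg
  have h1 := mul_neg_of_pos_of_neg hpos hneg
  change MvPolynomial.coeff (ones d) PY = _ at key
  rw [← key] at h1
  linarith

end Main

end Groth.Agent.Helper1.NefPos
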