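import Mathlib
import Groth.Agent.Lib.Helper1.NefPos1
import Groth.Agent.Lib.Helper1.FBC5
import Groth.Agent.Lib.Helper1.BCurve1
import Groth.Agent.Lib.Helper1.NumEq1
import Groth.Agent.Lib.Helper1.PullBC
import Groth.Agent.Lib.Helper4.FibDimBC1
import Groth.Agent.Lib.Helper4.FTDim1
import Groth.Agent.Lib.Helper4.PullTens1

/-!
# Nefness and numerical triviality under extension of the base field (helper1)

An invertible module on a proper scheme over a field `k` is nef if and only if its pullback to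
the base change to an extension field `k'` is nef.  One direction uses the invariance of the
Euler characteristic under flat base change; the other one uses Chow's lemma and Kleiman's
characterisation of nefness by the ampleness of the `L^ν ⊗ A`, ampleness being preserved by
affine base change.
-/

set_option backward.isDefEq.respectTransparency.types false
set_option synthInstance.maxHeartbeats 400000
set_option autoImplicit false
set_option linter.unusedSectionVars false
set_option linter.style.haveILetI false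
set_option linter.unusedVariables false
universe u
open CategoryTheory CategoryTheory.Limits AlgebraicGeometry TopologicalSpace Opposite

namespace Groth.Agent.Helper1.NefBC

open Groth.Agent.Helper1 Groth.Agent.Helper1.Euler Groth.Agent.Helper1.Dv
open Groth.Agent.Helper1.Snap Groth.Agent.Helper1.SnapPos Groth.Agent.Helper1.FGAInt
open Groth.Agent.Helper1.Kleiman Groth.Agent.Helper1.TwForm Groth.Agent.Helper1.Curve

section BCMap

variable (k : Type u) [Field k] (k' : Type u) [Field k'] [Algebra k k']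
  (X Y : Scheme.{u}) [X.Over (Spec (CommRingCat.of k))] [Y.Over (Spec (CommRingCat.of k))]
  (v : Y ⟶ X) (hv : v ≫ (X ↘ Spec (CommRingCat.of k)) = Y ↘ Spec (CommRingCat.of k))

/-- the base change of a morphism of `k`-schemes to an extension field -/
noncomputable def bcMap : Curv2.bc k Y k' ⟶ Curv2.bc k X k' :=
  pullback.lift (Curv2.bcFst k Y k' ≫ v) (Curv2.bcSnd k Y k')
    (by rw [Category.assoc, hv]; exact pullback.condition)

theorem bcMap_fst : bcMap k k' X Y v hv ≫ Curv2.bcFst k X k' = Curv2.bcFst k Y k' ≫ v :=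
  pullback.lift_fst _ _ _

theorem bcMap_snd : bcMap k k' X Y v hv ≫ Curv2.bcSnd k X k' = Curv2.bcSnd k Y k' :=
  pullback.lift_snd _ _ _

theorem isPullback_bcMap :
    IsPullback (Curv2.bcFst k Y k') (bcMap k k' X Y v hv) v (Curv2.bcFst k X k') := by
  have h1 : IsPullback (Curv2.bcFst k Y k') (bcMap k k' X Y v hv ≫ Curv2.bcSnd k X k')
      (v ≫ (X ↘ Spec (CommRingCat.of k)))
      (Spec.map (CommRingCat.ofHom (algebraMap k k'))) := by
    rw [bcMap_snd, hv]
    exact FBC.isPullback_bc k Y k'
  exact IsPullback.of_bot h1 (bcMap_fst k k' X Y v hv).symm (FBC.isPullback_bc k X k')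

end BCMap

section Dim

variable (k : Type u) [Field k] (k' : Type u) [Field k'] [Algebra k k']
  (Y : Scheme.{u}) [Y.Over (Spec (CommRingCat.of k))]

/-- base change to an extension field does not increase the dimension -/
theorem dim_bc_le [LocallyOfFiniteType (Y ↘ Spec (CommRingCat.of k))] :
    topologicalKrullDim (Curv2.bc k Y k') ≤ topologicalKrullDim Y := by
  haveI : LocallyOfFiniteType (Curv2.bcSnd k Y k') :=
    MorphismProperty.of_isPullback (FBC.isPullback_bc k Y k') inferInstance
  apply Groth.Agent.Lib.Helper4.FTDim1.dim_le_of_forall_tr k' (Curv2.bcSnd k Y k')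
  intro x'
  refine (Groth.Agent.Lib.Helper4.FibDimBC1.tr_le_dim_fiber' (Curv2.bcSnd k Y k') x').trans ?_
  rw [Groth.Agent.Lib.Helper4.FibDimBC1.S9777_main (Y ↘ Spec (CommRingCat.of k))
    (Spec.map (CommRingCat.ofHom (algebraMap k k'))) (Curv2.bcSnd k Y k') (Curv2.bcFst k Y k')
    (FBC.isPullback_bc k Y k') (Curv2.bcSnd k Y k' x'),
    IsHomeomorph.topologicalKrullDim_eq _
      ((Y ↘ Spec (CommRingCat.of k)).fiberHomeo _).isHomeomorph]
  exact topologicalKrullDim_subspace_le _ _

end Dim

section NefS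

variable (k : Type u) [Field k]

theorem nefS_of_iso {X : Scheme.{u}} [X.Over (Spec (CommRingCat.of k))] {L L' : X.Modules}
    (e : L ≅ L') (h : NefS k X L) : NefS k X L' := by
  intro C c _ hC hdim
  rw [← curveDeg_iso k _ ((Scheme.Modules.pullback c).mapIso e)]
  exact h C c hC hdim

theorem nefS_congr_over {X : Scheme.{u}} (p q : X ⟶ Spec (CommRingCat.of k)) (hpq : p = q)
    (L : X.Modules) (h : @NefS k _ X ⟨p⟩ L) : @NefS k _ X ⟨q⟩ L := by
  subst hpq
  exact h

/-- nefness tested on the ideal sheaves of the integral curves -/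
def NefI (X : Scheme.{u}) [X.Over (Spec (CommRingCat.of k))] (L : X.Modules) : Prop :=
  ∀ C : X.IdealSheafData, IsIntegral C.subscheme →
    topologicalKrullDim (C.support : Set X) = 1 →
      0 ≤ Curv2.euler k X (CohB1.tensorMod (ClSub.quotMod C) L) - Curv2.euler k X (ClSub.quotMod C)

end NefS

section Curve

variable (k : Type u) [Field k] (k' : Type u) [Field k'] [Algebra k k']
  (Y : Scheme.{u}) [Y.Over (Spec (CommRingCat.of k))] [IsProper (Y ↘ Spec (CommRingCat.of k))]

theorem curveDeg_eq_euler_sub (hd : topologicalKrullDim Y ≤ ((1 : ℕ) : WithBot ℕ∞))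
    (M : Y.Modules) :
    Pic13.curveDeg k (Y ↘ Spec (CommRingCat.of k)) M =
      Curv2.euler k Y M - Curv2.euler k Y (Coh.structureModule Y) := by
  haveI : AlgebraicGeometry.IsNoetherian Y := Euler.isNoetherian_of_proper k Y
  change FGA.eulerCharLE k Y M 1 - FGA.eulerCharLE k Y (Coh.structureModule Y) 1 = _
  rw [eulerCharLE_eq_euler k Y 1 hd, eulerCharLE_eq_euler k Y 1 hd]

set_option maxHeartbeats 1600000 in
/-- on a proper scheme of dimension at most one, a module whose base change is nef has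
nonnegative degree -/
theorem curveDeg_nonneg_of_nefS_bc (hd : topologicalKrullDim Y ≤ ((1 : ℕ) : WithBot ℕ∞))
    (M : Y.Modules) (hM : PicF.IsInvertible M)
    (hnef : @NefS k' _ (Curv2.bc k Y k') ⟨Curv2.bcSnd k Y k'⟩
      ((Scheme.Modules.pullback (Curv2.bcFst k Y k')).obj M)) :
    0 ≤ Pic13.curveDeg k (Y ↘ Spec (CommRingCat.of k)) M := by
  letI instY' : (Curv2.bc k Y k').Over (Spec (CommRingCat.of k')) := ⟨Curv2.bcSnd k Y k'⟩
  haveI : IsProper ((Curv2.bc k Y k') ↘ Spec (CommRingCat.of k')) :=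
    BCurve.isProper_bc (FBC.isPullback_bc k Y k')
  haveI : AlgebraicGeometry.IsNoetherian Y := Euler.isNoetherian_of_proper k Y
  haveI : AlgebraicGeometry.IsNoetherian (Curv2.bc k Y k') :=
    Euler.isNoetherian_of_proper k' (Curv2.bc k Y k')
  have hd' : topologicalKrullDim (Curv2.bc k Y k') ≤ ((1 : ℕ) : WithBot ℕ∞) :=
    (dim_bc_le k k' Y).trans hd
  obtain ⟨N, hNdef⟩ : ∃ N : (Curv2.bc k Y k').Modules,
    N = (Scheme.Modules.pullback (Curv2.bcFst k Y k')).obj M := ⟨_, rfl⟩
  have hN : PicF.IsInvertible N := by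
    rw [hNdef]; exact PullGen.isInvertible_pullback _ hM
  haveI : M.IsQuasicoherent := InvQc.isQuasicoherent_of_isInvertible _ hM
  have h3 : Curv2.euler k' (Curv2.bc k Y k') N = Curv2.euler k Y M := by
    rw [hNdef]; exact FBC.euler_bc k Y k' M
  have h4 : Curv2.euler k' (Curv2.bc k Y k') (Coh.structureModule (Curv2.bc k Y k')) =
      Curv2.euler k Y (Coh.structureModule Y) := by
    rw [← FBC.euler_bc k Y k' (Coh.structureModule Y)]
    exact Euler.euler_iso k' _ (PullSec.unitIso (Curv2.bcFst k Y k')).symm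
  have hnefN : NefS k' (Curv2.bc k Y k') N := by
    rw [hNdef]; exact hnef
  rw [curveDeg_eq_euler_sub k Y hd M, ← h3, ← h4,
    ← curveDeg_eq_euler_sub k' (Curv2.bc k Y k') hd' N,
    curveDeg_eq_lam k' (Curv2.bc k Y k') hd' N hN]
  have hOc := isCoh_structureModule (Curv2.bc k Y k')
  have hd1 : topologicalKrullDim ↥(CohB1.support (Coh.structureModule (Curv2.bc k Y k'))) ≤
      ((1 : ℕ) : WithBot ℕ∞) := (topologicalKrullDim_subspace_le _ _).trans hd'
  refine hom_nonneg_of_cycle (lam k' (Curv2.bc k Y k') N hN 1) 1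
    (fun x hx => lam_eq_zero k' (Curv2.bc k Y k') N hN 1 x hx) _ hOc hd1 (fun ξ hξ => ?_)
  exact nefK_of_nefS k' (Curv2.bc k Y k') N hN hnefN ξ hξ

end Curve

section Main

variable (k : Type u) [Field k] (X : Scheme.{u}) [X.Over (Spec (CommRingCat.of k))]
  [IsProper (X ↘ Spec (CommRingCat.of k))] (L : X.Modules)

set_option maxHeartbeats 1600000 in
/-- nefness descends from the base change to an extension field -/
theorem nefI_of_nefI_bc (hL : PicF.IsInvertible L) (k' : Type u) [Field k'] [Algebra k k']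
    (h' : @NefI k' _ (Curv2.bc k X k') ⟨Curv2.bcSnd k X k'⟩
      ((Scheme.Modules.pullback (Curv2.bcFst k X k')).obj L)) : NefI k X L := by
  intro C hC hC1
  haveI := hC
  letI instX' : (Curv2.bc k X k').Over (Spec (CommRingCat.of k')) := ⟨Curv2.bcSnd k X k'⟩
  haveI : IsProper ((Curv2.bc k X k') ↘ Spec (CommRingCat.of k')) :=
    BCurve.isProper_bc (FBC.isPullback_bc k X k')
  haveI : AlgebraicGeometry.IsNoetherian (Curv2.bc k X k') :=
    Euler.isNoetherian_of_proper k' (Curv2.bc k X k')
  have hL' : PicF.IsInvertible ((Scheme.Modules.pullback (Curv2.bcFst k X k')).obj L) :=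
    PullGen.isInvertible_pullback _ hL
  have hnefS' : NefS k' (Curv2.bc k X k')
      ((Scheme.Modules.pullback (Curv2.bcFst k X k')).obj L) :=
    SurfCurve.nefS_of_curves k' (Curv2.bc k X k') _ hL' h'
  letI instY : C.subscheme.Over (Spec (CommRingCat.of k)) :=
    ⟨C.subschemeι ≫ (X ↘ Spec (CommRingCat.of k))⟩
  haveI : IsProper (C.subscheme ↘ Spec (CommRingCat.of k)) := by
    change IsProper (C.subschemeι ≫ (X ↘ Spec (CommRingCat.of k))); infer_instance
  have hY : topologicalKrullDim C.subscheme = 1 := by rw [NumSurj2.dim_subscheme, hC1]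
  have hle : topologicalKrullDim C.subscheme ≤ ((1 : ℕ) : WithBot ℕ∞) := by
    rw [hY]; exact le_of_eq Nat.cast_one.symm
  rw [NumSurj2.eulerForm_eq_curveDeg k X C hle L hL]
  have hv : C.subschemeι ≫ (X ↘ Spec (CommRingCat.of k)) =
      C.subscheme ↘ Spec (CommRingCat.of k) := rfl
  obtain ⟨ι', hι'⟩ : ∃ ι' : Curv2.bc k C.subscheme k' ⟶ Curv2.bc k X k',
    ι' = bcMap k k' X C.subscheme C.subschemeι hv := ⟨_, rfl⟩
  have hfst : ι' ≫ Curv2.bcFst k X k' = Curv2.bcFst k C.subscheme k' ≫ C.subschemeι := by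
    rw [hι']; exact bcMap_fst k k' X C.subscheme C.subschemeι hv
  have hsnd : ι' ≫ Curv2.bcSnd k X k' = Curv2.bcSnd k C.subscheme k' := by
    rw [hι']; exact bcMap_snd k k' X C.subscheme C.subschemeι hv
  haveI : IsClosedImmersion ι' := by
    rw [hι']
    exact MorphismProperty.of_isPullback
      (isPullback_bcMap k k' X C.subscheme C.subschemeι hv) inferInstance
  have hn1 := nefS_pullback k' ι' _ hnefS'
  have hn2 : @NefS k' _ (Curv2.bc k C.subscheme k') ⟨Curv2.bcSnd k C.subscheme k'⟩
      ((Scheme.Modules.pullback ι').obj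
        ((Scheme.Modules.pullback (Curv2.bcFst k X k')).obj L)) :=
    nefS_congr_over k' _ _ hsnd _ hn1
  have e : (Scheme.Modules.pullback ι').obj
        ((Scheme.Modules.pullback (Curv2.bcFst k X k')).obj L) ≅
      (Scheme.Modules.pullback (Curv2.bcFst k C.subscheme k')).obj
        ((Scheme.Modules.pullback C.subschemeι).obj L) :=
    (Scheme.Modules.pullbackComp ι' (Curv2.bcFst k X k')).app L ≪≫
      (Scheme.Modules.pullbackCongr hfst).app L ≪≫
      ((Scheme.Modules.pullbackComp (Curv2.bcFst k C.subscheme k') C.subschemeι).app L).symm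
  have hn3 := @nefS_of_iso k' _ (Curv2.bc k C.subscheme k')
    ⟨Curv2.bcSnd k C.subscheme k'⟩ _ _ e hn2
  exact curveDeg_nonneg_of_nefS_bc k k' C.subscheme hle _
    (PullGen.isInvertible_pullback _ hL) hn3

set_option maxHeartbeats 3200000 in
/-- nefness is preserved by base change to an extension field -/
theorem nefI_bc_of_nefI (hL : PicF.IsInvertible L) (k' : Type u) [Field k'] [Algebra k k']
    (h : NefI k X L) :
    @NefI k' _ (Curv2.bc k X k') ⟨Curv2.bcSnd k X k'⟩
      ((Scheme.Modules.pullback (Curv2.bcFst k X k')).obj L) := by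
  letI instX' : (Curv2.bc k X k').Over (Spec (CommRingCat.of k')) := ⟨Curv2.bcSnd k X k'⟩
  haveI : IsProper ((Curv2.bc k X k') ↘ Spec (CommRingCat.of k')) :=
    BCurve.isProper_bc (FBC.isPullback_bc k X k')
  have hL' : PicF.IsInvertible ((Scheme.Modules.pullback (Curv2.bcFst k X k')).obj L) :=
    PullGen.isInvertible_pullback _ hL
  obtain ⟨n, Z, π, j, hj, hjf, hπ, hπs, U, hU, hUi⟩ :=
    Groth.Agent.Lib.Helper4.ChowPn1.exists_chow (X ↘ Spec (CommRingCat.of k))
  haveI := hj
  haveI := hπ
  haveI := hπs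
  letI instZ : Z.Over (Spec (CommRingCat.of k)) := ⟨π ≫ (X ↘ Spec (CommRingCat.of k))⟩
  haveI : IsProper (Z ↘ Spec (CommRingCat.of k)) := by
    change IsProper (π ≫ (X ↘ Spec (CommRingCat.of k))); infer_instance
  haveI : AlgebraicGeometry.IsNoetherian Z := Euler.isNoetherian_of_proper k Z
  have hfo : π ≫ (X ↘ Spec (CommRingCat.of k)) = Z ↘ Spec (CommRingCat.of k) := rfl
  have hLZ : PicF.IsInvertible ((Scheme.Modules.pullback π).obj L) :=
    PullGen.isInvertible_pullback π hL
  have hA : CohB1.IsAmple ((Scheme.Modules.pullback j).obj (Twist.twistProjSpace n k 1)) :=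
    PullAmple.isAmple_pullback_of_isEmbedding j j.isClosedEmbedding.isEmbedding
      (VA5.isAmple_twistProjSpace n k)
  have hnefZ : NefS k Z ((Scheme.Modules.pullback π).obj L) :=
    SurfCurve.nefS_of_curves k Z _ hLZ
      (fun C' hC' hC'1 => NumSurj2.pullback_nef_of_nef k X Z π hfo L hL h C' hC' hC'1)
  -- the base change of `Z`
  letI instZ' : (Curv2.bc k Z k').Over (Spec (CommRingCat.of k')) := ⟨Curv2.bcSnd k Z k'⟩
  haveI : IsProper ((Curv2.bc k Z k') ↘ Spec (CommRingCat.of k')) :=
    BCurve.isProper_bc (FBC.isPullback_bc k Z k')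
  haveI : IsAffineHom (Curv2.bcFst k Z k') :=
    BCurve.isAffineHom_bc (k := k) (K := k') (X := Z) (XK := Curv2.bc k Z k')
      (FBC.isPullback_bc k Z k')
  have hqa := VA5.isQuasiAffine_of_isAffineHom (Curv2.bcFst k Z k')
  have hM' : PicF.IsInvertible ((Scheme.Modules.pullback (Curv2.bcFst k Z k')).obj
      ((Scheme.Modules.pullback π).obj L)) := PullGen.isInvertible_pullback _ hLZ
  have hA' : CohB1.IsAmple ((Scheme.Modules.pullback (Curv2.bcFst k Z k')).obj
      ((Scheme.Modules.pullback j).obj (Twist.twistProjSpace n k 1))) :=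
    PullAmple.isAmple_pullback_of_isQuasiAffine (Curv2.bcFst k Z k') hqa hA
  have hamp : ∀ ν : ℕ, 0 < ν → CohB1.IsAmple (CohB1.tensorMod
      (CohB1.tensorPow ((Scheme.Modules.pullback (Curv2.bcFst k Z k')).obj
        ((Scheme.Modules.pullback π).obj L)) ν)
      ((Scheme.Modules.pullback (Curv2.bcFst k Z k')).obj
        ((Scheme.Modules.pullback j).obj (Twist.twistProjSpace n k 1)))) := by
    intro ν _
    have h1 := isAmple_tensorPow_tensor_of_nef k Z _ _ hLZ hA hnefZ ν
    have h2 := PullAmple.isAmple_pullback_of_isQuasiAffine (Curv2.bcFst k Z k') hqa h1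
    exact TwistAmpleOpen.isAmple_of_iso
      (Groth.Agent.Lib.Helper4.PullTens1.pullTensIso (Curv2.bcFst k Z k')
          (isInvertible_tensorPow hLZ ν) hA.1 ≪≫
        Groth.Agent.Lead.TilT.tensorModCongr (PullPow.powIso (Curv2.bcFst k Z k') hLZ ν)
          (Iso.refl _)) h2
  have hnefZ' : NefS k' (Curv2.bc k Z k') ((Scheme.Modules.pullback (Curv2.bcFst k Z k')).obj
      ((Scheme.Modules.pullback π).obj L)) :=
    nefS_of_forall_isAmple k' (Curv2.bc k Z k') _ _ hM' hA' hamp
  -- the base change of `π`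
  obtain ⟨π', hπ'⟩ : ∃ π' : Curv2.bc k Z k' ⟶ Curv2.bc k X k', π' = bcMap k k' X Z π hfo :=
    ⟨_, rfl⟩
  have hfst : π' ≫ Curv2.bcFst k X k' = Curv2.bcFst k Z k' ≫ π := by
    rw [hπ']; exact bcMap_fst k k' X Z π hfo
  have hsnd : π' ≫ Curv2.bcSnd k X k' = Curv2.bcSnd k Z k' := by
    rw [hπ']; exact bcMap_snd k k' X Z π hfo
  haveI : Surjective π' := by
    rw [hπ']
    exact MorphismProperty.of_isPullback (isPullback_bcMap k k' X Z π hfo) inferInstance
  have hπ'o : π' ≫ ((Curv2.bc k X k') ↘ Spec (CommRingCat.of k')) =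
      (Curv2.bc k Z k') ↘ Spec (CommRingCat.of k') := hsnd
  have e : (Scheme.Modules.pullback (Curv2.bcFst k Z k')).obj
        ((Scheme.Modules.pullback π).obj L) ≅
      (Scheme.Modules.pullback π').obj
        ((Scheme.Modules.pullback (Curv2.bcFst k X k')).obj L) :=
    (Scheme.Modules.pullbackComp (Curv2.bcFst k Z k') π).app L ≪≫
      (Scheme.Modules.pullbackCongr hfst.symm).app L ≪≫
      ((Scheme.Modules.pullbackComp π' (Curv2.bcFst k X k')).app L).symm
  have hnef'' := nefS_of_iso k' e hnefZ'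
  have hπL' : PicF.IsInvertible ((Scheme.Modules.pullback π').obj
      ((Scheme.Modules.pullback (Curv2.bcFst k X k')).obj L)) :=
    PullGen.isInvertible_pullback π' hL'
  have hideal : ∀ D : (Curv2.bc k Z k').IdealSheafData, IsIntegral D.subscheme →
      topologicalKrullDim (D.support : Set ↥(Curv2.bc k Z k')) = 1 →
      0 ≤ Curv2.euler k' (Curv2.bc k Z k') (CohB1.tensorMod (ClSub.quotMod D)
          ((Scheme.Modules.pullback π').obj
            ((Scheme.Modules.pullback (Curv2.bcFst k X k')).obj L))) -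
        Curv2.euler k' (Curv2.bc k Z k') (ClSub.quotMod D) := by
    intro D hD hD1
    haveI := hD
    have hdimD : topologicalKrullDim D.subscheme = 1 := by rw [NumSurj2.dim_subscheme, hD1]
    have hle : topologicalKrullDim D.subscheme ≤ ((1 : ℕ) : WithBot ℕ∞) := by
      rw [hdimD]; exact le_of_eq Nat.cast_one.symm
    rw [NumSurj2.eulerForm_eq_curveDeg k' (Curv2.bc k Z k') D hle _ hπL']
    exact hnef'' D.subscheme D.subschemeι inferInstance hdimD
  intro C' hC' hC'1
  exact NumSurj2.nef_of_pullback_nef k' (Curv2.bc k X k') (Curv2.bc k Z k') π' hπ'o _ hL'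
    hideal C' hC' hC'1

/-- **nefness is invariant under extension of the base field** -/
theorem s16716 (hL : PicF.IsInvertible L) (k' : Type u) [Field k'] [Algebra k k'] :
    NefI k X L ↔ @NefI k' _ (Curv2.bc k X k') ⟨Curv2.bcSnd k X k'⟩
      ((Scheme.Modules.pullback (Curv2.bcFst k X k')).obj L) :=
  ⟨nefI_bc_of_nefI k X L hL k', nefI_of_nefI_bc k X L hL k'⟩

end Main

section NumZero

variable (k : Type u) [Field k] (X : Scheme.{u}) [X.Over (Spec (CommRingCat.of k))]
  [IsProper (X ↘ Spec (CommRingCat.of k))] (L : X.Modules)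

theorem eulerForm_inverse (hL : PicF.IsInvertible L) (K : X.Modules) (hK : PicF.IsInvertible K)
    (e : CohB1.tensorMod K L ≅ Coh.structureModule X) (C : X.IdealSheafData)
    (hC1 : topologicalKrullDim (C.support : Set X) = 1) :
    Curv2.euler k X (CohB1.tensorMod (ClSub.quotMod C) K) - Curv2.euler k X (ClSub.quotMod C) =
      - (Curv2.euler k X (CohB1.tensorMod (ClSub.quotMod C) L) -
        Curv2.euler k X (ClSub.quotMod C)) := by
  haveI : AlgebraicGeometry.IsNoetherian X := Euler.isNoetherian_of_proper k X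
  have hQ : Coh.IsCoh (ClSub.quotMod C) := CurveDual.isCoh_quotMod C
  have hsupp : topologicalKrullDim ↥(CohB1.support (ClSub.quotMod C)) ≤
      ((1 : ℕ) : WithBot ℕ∞) := by
    refine ((Topology.IsEmbedding.inclusion
      (CurveDual.support_quotMod_subset C)).isInducing.topologicalKrullDim_le).trans ?_
    rw [hC1]; exact le_of_eq Nat.cast_one.symm
  have hx : KZero.clSub (PC X) (ClSub.quotMod C) ∈ FilLT X 2 := clSub_mem_FilLT 1 _ hQ hsupp
  rw [← NumEq.lam_one_clSub k X K hK _ hQ, ← NumEq.lam_one_clSub k X L hL _ hQ]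
  exact NumEq.lam_one_inverse k X hL hK e _ hx

set_option maxHeartbeats 1600000 in
theorem numZero_iff_ideal (hL : PicF.IsInvertible L) :
    Pic13.IsNumEquivZero k X L ↔ ∀ C : X.IdealSheafData, IsIntegral C.subscheme →
      topologicalKrullDim (C.support : Set X) = 1 →
        Curv2.euler k X (CohB1.tensorMod (ClSub.quotMod C) L) -
          Curv2.euler k X (ClSub.quotMod C) = 0 := by
  haveI : AlgebraicGeometry.IsNoetherian X := Euler.isNoetherian_of_proper k X
  constructor
  · intro h C hC hC1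
    haveI := hC
    have hY : topologicalKrullDim C.subscheme = 1 := by rw [NumSurj2.dim_subscheme, hC1]
    have hle : topologicalKrullDim C.subscheme ≤ ((1 : ℕ) : WithBot ℕ∞) := by
      rw [hY]; exact le_of_eq Nat.cast_one.symm
    rw [NumSurj2.eulerForm_eq_curveDeg k X C hle L hL]
    exact h C.subscheme C.subschemeι inferInstance hY
  · intro h Y i _ hY hdim
    haveI := hY
    have hle : topologicalKrullDim Y ≤ ((1 : ℕ) : WithBot ℕ∞) := by
      rw [hdim]; exact le_of_eq Nat.cast_one.symm
    rw [NumEq.curveDeg_eq_lam_quot k X i hle L hL,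
      NumEq.lam_one_clSub k X L hL _ (CurveDual.isCoh_quotMod i.ker)]
    refine h i.ker ?_ ?_
    · haveI : Nonempty ↥Y := inferInstance
      haveI : Nonempty ↥i.image := ⟨i.toImage.base (Classical.arbitrary ↥Y)⟩
      exact isIntegral_of_isOpenImmersion (inv i.toImage)
    · rw [Scheme.Hom.support_ker, i.isClosedEmbedding.isClosed_range.closure_eq, ← hdim]
      exact (IsHomeomorph.topologicalKrullDim_eq _
        i.isClosedEmbedding.isEmbedding.toHomeomorph.isHomeomorph).symm

theorem numZero_iff_nefI (hL : PicF.IsInvertible L) (K : X.Modules) (hK : PicF.IsInvertible K)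
    (e : CohB1.tensorMod K L ≅ Coh.structureModule X) :
    Pic13.IsNumEquivZero k X L ↔ NefI k X L ∧ NefI k X K := by
  rw [numZero_iff_ideal k X L hL]
  constructor
  · intro h
    refine ⟨fun C hC hC1 => le_of_eq (h C hC hC1).symm, fun C hC hC1 => ?_⟩
    rw [eulerForm_inverse k X L hL K hK e C hC1, h C hC hC1]
    exact le_of_eq neg_zero.symm
  · rintro ⟨h1, h2⟩ C hC hC1
    have a := h1 C hC hC1
    have b := h2 C hC hC1
    rw [eulerForm_inverse k X L hL K hK e C hC1] at b
    linarith

set_option maxHeartbeats 1600000 in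
/-- **numerical triviality is invariant under extension of the base field** -/
theorem s14811 (hL : PicF.IsInvertible L) (E : Type u) [Field E] [Algebra k E] :
    Pic13.IsNumEquivZero k X L ↔
      @Pic13.IsNumEquivZero E _ (Curv2.bc k X E) ⟨Curv2.bcSnd k X E⟩
        ((Scheme.Modules.pullback (Curv2.bcFst k X E)).obj L) := by
  letI instX' : (Curv2.bc k X E).Over (Spec (CommRingCat.of E)) := ⟨Curv2.bcSnd k X E⟩
  haveI : IsProper ((Curv2.bc k X E) ↘ Spec (CommRingCat.of E)) :=
    BCurve.isProper_bc (FBC.isPullback_bc k X E)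
  obtain ⟨K, hK, ⟨e⟩⟩ := InvInv2.exists_inverse hL
  have hL' : PicF.IsInvertible ((Scheme.Modules.pullback (Curv2.bcFst k X E)).obj L) :=
    PullGen.isInvertible_pullback _ hL
  have hK' : PicF.IsInvertible ((Scheme.Modules.pullback (Curv2.bcFst k X E)).obj K) :=
    PullGen.isInvertible_pullback _ hK
  have e' : CohB1.tensorMod ((Scheme.Modules.pullback (Curv2.bcFst k X E)).obj K)
      ((Scheme.Modules.pullback (Curv2.bcFst k X E)).obj L) ≅
        Coh.structureModule (Curv2.bc k X E) :=
    (Groth.Agent.Lib.Helper4.PullTens1.pullTensIso (Curv2.bcFst k X E) hK hL).symm ≪≫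
      (Scheme.Modules.pullback (Curv2.bcFst k X E)).mapIso e ≪≫
      PullSec.unitIso (Curv2.bcFst k X E)
  refine (numZero_iff_nefI k X L hL K hK e).trans
    (Iff.trans ?_ (numZero_iff_nefI E (Curv2.bc k X E) _ hL' _ hK' e').symm)
  exact ⟨fun ⟨h1, h2⟩ => ⟨nefI_bc_of_nefI k X L hL E h1, nefI_bc_of_nefI k X K hK E h2⟩,
    fun ⟨h1, h2⟩ => ⟨nefI_of_nefI_bc k X L hL E h1, nefI_of_nefI_bc k X K hK E h2⟩⟩

end NumZero

end Groth.Agent.Helper1.NefBC
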