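import Mathlib
import Groth.Agent.Lib.Helper1.SurfNef1
import Groth.Agent.Lib.Helper1.NegCfg2

/-!
# Walls of the nef cone and negative definite configurations (helper1)

* `alg4`: solving a linear system with a negative definite integer matrix, up to a positive factor;
* `walls_iff`: the closure of the ample cone inside the positive cone meets the walls of distinct
  curves iff the curves form a negative definite configuration.
-/

set_option autoImplicit false
set_option linter.style.haveILetI false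
set_option linter.unusedSectionVars false
universe u
open CategoryTheory CategoryTheory.Limits AlgebraicGeometry TopologicalSpace Opposite

namespace Groth.Agent.Helper1.NegCfg3

open Groth.Agent.Helper1 Groth.Agent.Helper1.Euler
open Groth.Agent.Helper1.SurfDual Groth.Agent.Helper1.SurfHodge
open Groth.Agent.Helper1.SurfCurve
open Groth.Agent.Helper1.SurfReal Groth.Agent.Helper1.SurfReal2 Groth.Agent.Helper1.SurfNef

section Alg

/-- a linear system with a negative definite integer matrix can be solved up to a positive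
integer factor -/
theorem alg4 {r : ℕ} (G : Fin r → Fin r → ℤ)
    (hneg : ∀ a : Fin r → ℤ, a ≠ 0 → ∑ i, ∑ j, a i * a j * G i j < 0) (v : Fin r → ℤ) :
    ∃ (m : ℤ) (s : Fin r → ℤ), 0 < m ∧ ∀ j, ∑ i, s i * G i j = m * v j := by
  classical
  have hdet : (Matrix.of G).det ≠ 0 := by
    intro h0
    obtain ⟨a, ha0, haG⟩ := Matrix.exists_vecMul_eq_zero_iff.2 h0
    have hsum : ∀ j, ∑ i, a i * G i j = 0 := by
      intro j
      have := congrFun haG j
      simpa [Matrix.vecMul, dotProduct] using this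
    have hQ := hneg a ha0
    have e : ∑ i, ∑ j, a i * a j * G i j = ∑ j, a j * ∑ i, a i * G i j := by
      rw [Finset.sum_comm]
      refine Finset.sum_congr rfl fun j _ => ?_
      rw [Finset.mul_sum]
      refine Finset.sum_congr rfl fun i _ => ?_
      ring
    rw [e] at hQ
    simp only [hsum, mul_zero, Finset.sum_const_zero] at hQ
    exact lt_irrefl _ hQ
  obtain ⟨δ, hδ⟩ : ∃ δ : ℤ, δ = (Matrix.of G).det := ⟨_, rfl⟩
  obtain ⟨w, hw⟩ : ∃ w : Fin r → ℤ,
    w = Matrix.vecMul v (Matrix.adjugate (Matrix.of G)) := ⟨_, rfl⟩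
  have h1 : Matrix.vecMul w (Matrix.of G) = δ • v := by
    rw [hw, Matrix.vecMul_vecMul, Matrix.adjugate_mul, Matrix.vecMul_smul, Matrix.vecMul_one, hδ]
  have h2 : ∀ j, ∑ i, w i * G i j = δ * v j := by
    intro j
    have := congrFun h1 j
    simpa [Matrix.vecMul, dotProduct] using this
  refine ⟨δ * δ, fun i => δ * w i, mul_self_pos.2 (by rw [hδ]; exact hdet), ?_⟩
  intro j
  calc ∑ i, δ * w i * G i j = δ * ∑ i, w i * G i j := by
        rw [Finset.mul_sum]
        refine Finset.sum_congr rfl fun i _ => ?_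
        ring
    _ = δ * δ * v j := by rw [h2 j]; ring

end Alg

section Surf

variable (k : Type u) [Field k] (X : Scheme.{u}) [X.Over (Spec (CommRingCat.of k))]
  [IsProper (X ↘ (Spec (CommRingCat.of k)))] [IsIntegral X] [PicGrp.Law X]
  [Smooth (X ↘ (Spec (CommRingCat.of k)))] [Module.Finite ℝ (NumR.N1R k X)]

set_option maxHeartbeats 1600000 in
/-- **the closure of the ample cone inside the positive cone meets the walls of distinct integral
curves iff the curves form a negative definite configuration** -/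
theorem walls_iff (hdim : topologicalKrullDim X = 2)
    (B : NumR.N1R k X →ₗ[ℝ] NumR.N1R k X →ₗ[ℝ] ℝ) (hB : NumR.IsIntForm₂ k X B)
    (H : X.Modules) (hH : CohB1.IsAmple H)
    (r : ℕ) (C : Fin r → X.IdealSheafData) (hC : Function.Injective C)
    (hCi : ∀ i, IsIntegral (C i).subscheme)
    (hCd : ∀ i, topologicalKrullDim ((C i).support : Set X) = 1)
    (hCinv : ∀ i, PicF.IsInvertible (ClSub.idealMod (C i))) :
    (∃ x : NumR.N1R k X, x ∈ closure (NumR.ampleCone k X : Set (NumR.N1R k X)) ∧
        x ∈ NumR.posCone k X B H hH.1 ∧ ∀ i, x ∈ NumR.wall k X B (C i) (hCinv i)) ↔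
      (∀ a : Fin r → ℤ, a ≠ 0 →
      ∑ i, ∑ j, a i * a j * FGA.intNum k X 2 ![(ClSub.idealMod (C i)), (ClSub.idealMod (C j))]
        (Coh.structureModule X) < 0) := by
  classical
  obtain ⟨h, hh⟩ : ∃ h : NumR.N1R k X, h = NumR.clR k X H hH.1 := ⟨_, rfl⟩
  obtain ⟨xs, hxs⟩ : ∃ xs : Fin r → NumR.N1R k X,
    ∀ i, xs i = NumR.clR k X (ClSub.idealMod (C i)) (hCinv i) := ⟨_, fun _ => rfl⟩
  obtain ⟨G, hGdef⟩ : ∃ G : Fin r → Fin r → ℤ, ∀ i j, G i j =
    FGA.intNum k X 2 ![(ClSub.idealMod (C i)), (ClSub.idealMod (C j))] (Coh.structureModule X) :=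
    ⟨_, fun _ _ => rfl⟩
  obtain ⟨hv, hvdef⟩ : ∃ hv : Fin r → ℤ, ∀ i, hv i =
    FGA.intNum k X 2 ![(ClSub.idealMod (C i)), H] (Coh.structureModule X) := ⟨_, fun _ => rfl⟩
  have hBG : ∀ i j, B (xs i) (xs j) = (G i j : ℝ) := by
    intro i j; rw [hxs, hxs, hGdef, hB]
  have hBh : ∀ i, B (xs i) h = (hv i : ℝ) := by
    intro i; rw [hxs, hh, hvdef, hB]
  have hBh' : ∀ i, B h (xs i) = (hv i : ℝ) := fun i => by
    rw [form_symm k X hdim B hB, hBh]
  have hG : ∀ i j, i ≠ j → 0 ≤ G i j := by
    intro i j hij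
    rw [hGdef]
    exact NegDef.intNum_distinct_nonneg k X hdim (C i) (C j) (hCi i) (hCi j) (hCd i) (hCd j)
      (fun e => hij (hC e))
  have hhv : ∀ i, hv i < 0 := by
    intro i
    rw [hvdef]
    exact NegDef.intNum_ideal_ample_neg k X hdim (C i) (hCd i) H hH
  have hwall : ∀ (x : NumR.N1R k X) (i : Fin r),
      x ∈ NumR.wall k X B (C i) (hCinv i) ↔ B x (xs i) = 0 := by
    intro x i
    change B x (NumR.curveCl k X (C i) (hCinv i)) = 0 ↔ _
    unfold NumR.curveCl
    rw [map_neg, neg_eq_zero, hxs]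
  have hlinR : ∀ (a : Fin r → ℤ) (y : NumR.N1R k X),
      B (∑ i, (a i : ℝ) • xs i) y = ∑ i, (a i : ℝ) * B (xs i) y := by
    intro a y
    rw [map_sum, LinearMap.sum_apply]
    refine Finset.sum_congr rfl fun i _ => ?_
    rw [map_smul, LinearMap.smul_apply, smul_eq_mul]
  have hq : ∀ a : Fin r → ℤ, B (∑ i, (a i : ℝ) • xs i) (∑ j, (a j : ℝ) • xs j) =
      ((∑ i, ∑ j, a i * a j * G i j : ℤ) : ℝ) := by
    intro a
    rw [hlinR]
    push_cast
    refine Finset.sum_congr rfl fun i _ => ?_
    rw [map_sum, Finset.mul_sum]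
    refine Finset.sum_congr rfl fun j _ => ?_
    rw [map_smul, smul_eq_mul, hBG]
    ring
  simp only [← hGdef]
  constructor
  · rintro ⟨x, hxcl, hxpos, hxw⟩
    have hxi : ∀ i, B x (xs i) = 0 := fun i => (hwall x i).1 (hxw i)
    have hnegN : ∀ a : Fin r → ℤ, (∑ i, (a i : ℝ) • xs i ≠ 0) →
        ∑ i, ∑ j, a i * a j * G i j < 0 := by
      intro a hD
      by_contra hcon
      rw [not_lt] at hcon
      apply hD
      have hDD : 0 ≤ B (∑ i, (a i : ℝ) • xs i) (∑ j, (a j : ℝ) • xs j) := by
        rw [hq a]; exact_mod_cast hcon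
      have hxD : B x (∑ i, (a i : ℝ) • xs i) = 0 := by
        rw [map_sum]
        refine Finset.sum_eq_zero fun i _ => ?_
        rw [map_smul, hxi i, smul_zero]
      exact hodge_zero k X hdim B hB H hH x _ hxpos hDD hxD
    intro a ha
    refine hnegN a (NegDef.alg1 G hG hv hhv (fun a => ∑ i, (a i : ℝ) • xs i ≠ 0) ?_ ?_ hnegN a ha)
    · intro a hna j
      have hD0 : ∑ i, (a i : ℝ) • xs i = 0 := not_not.1 hna
      have h1 : ∑ i, (a i : ℝ) * (G i j : ℝ) = 0 := by
        calc ∑ i, (a i : ℝ) * (G i j : ℝ) = ∑ i, (a i : ℝ) * B (xs i) (xs j) := by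
              simp only [hBG]
          _ = B (∑ i, (a i : ℝ) • xs i) (xs j) := (hlinR a _).symm
          _ = 0 := by rw [hD0, map_zero, LinearMap.zero_apply]
      exact_mod_cast h1
    · intro a hna
      have hD0 : ∑ i, (a i : ℝ) • xs i = 0 := not_not.1 hna
      have h1 : ∑ i, (a i : ℝ) * (hv i : ℝ) = 0 := by
        calc ∑ i, (a i : ℝ) * (hv i : ℝ) = ∑ i, (a i : ℝ) * B (xs i) h := by
              simp only [hBh]
          _ = B (∑ i, (a i : ℝ) • xs i) h := (hlinR a _).symm
          _ = 0 := by rw [hD0, map_zero, LinearMap.zero_apply]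
      exact_mod_cast h1
  · intro hneg
    obtain ⟨m, s, hm, hs⟩ := alg4 G hneg hv
    have hs0 : ∀ i, 0 ≤ s i := NegDef.alg2 G hG hneg (fun j => m * hv j)
      (fun j => mul_nonpos_of_nonneg_of_nonpos hm.le (hhv j).le) s (fun j => (hs j).symm)
    have hmR : (0 : ℝ) < (m : ℝ) := by exact_mod_cast hm
    obtain ⟨t, ht⟩ : ∃ t : Fin r → ℝ, ∀ i, t i = (s i : ℝ) / (m : ℝ) := ⟨_, fun _ => rfl⟩
    have ht0 : ∀ i, 0 ≤ t i := fun i => by
      rw [ht]; exact div_nonneg (by exact_mod_cast hs0 i) hmR.le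
    obtain ⟨x, hx⟩ : ∃ x : NumR.N1R k X, x = h - ∑ i, t i • xs i := ⟨_, rfl⟩
    have hsum : ∀ j, ∑ i, t i * (G i j : ℝ) = (hv j : ℝ) := by
      intro j
      have h1 : ((∑ i, s i * G i j : ℤ) : ℝ) = ((m * hv j : ℤ) : ℝ) := by rw [hs j]
      push_cast at h1
      have h2 : ∑ i, t i * (G i j : ℝ) = (∑ i, (s i : ℝ) * (G i j : ℝ)) / (m : ℝ) := by
        rw [Finset.sum_div]
        refine Finset.sum_congr rfl fun i _ => ?_
        rw [ht]; ring
      rw [h2, h1]
      field_simp
    have hxy : ∀ y, B x y = B h y - ∑ i, t i * B (xs i) y := by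
      intro y
      rw [hx, map_sub, LinearMap.sub_apply, map_sum, LinearMap.sum_apply]
      congr 1
      refine Finset.sum_congr rfl fun i _ => ?_
      rw [map_smul, LinearMap.smul_apply, smul_eq_mul]
    have hxxs : ∀ j, B x (xs j) = 0 := by
      intro j
      rw [hxy, hBh']
      simp only [hBG]
      rw [hsum j, sub_self]
    have hxh : 0 < B x h := by
      rw [hxy]
      have he : 0 < B h h := by rw [hh]; exact ample_sq_pos k X hdim B hB H hH
      have hnn : ∑ i, t i * B (xs i) h ≤ 0 := Finset.sum_nonpos fun i _ => by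
        rw [hBh]
        exact mul_nonpos_of_nonneg_of_nonpos (ht0 i) (by exact_mod_cast (hhv i).le)
      linarith
    have hxx : B x x = B x h := by
      have e : B x (h - ∑ i, t i • xs i) = B x h - ∑ i, t i * B x (xs i) := by
        rw [map_sub, map_sum]
        congr 1
        refine Finset.sum_congr rfl fun i _ => ?_
        rw [map_smul, smul_eq_mul]
      rw [← hx] at e
      rw [e]
      simp only [hxxs, mul_zero, Finset.sum_const_zero, sub_zero]
    have hnef : x ∈ NumR.nefCone₂ k X B := by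
      intro I hIi hI1 hI
      by_cases hex : ∃ j, I = C j
      · obtain ⟨j, rfl⟩ := hex
        have h0 := hxxs j
        unfold NumR.curveCl
        rw [map_neg, ← hxs j, h0, neg_zero]
      · have hex' : ∀ j, I ≠ C j := fun j e => hex ⟨j, e⟩
        have h1 : 0 < B h (NumR.curveCl k X I hI) := by
          rw [hh]
          exact ample_curve_pos k X hdim B hB _
            (ConvexCone.subset_hull ⟨H, hH.1, hH, rfl⟩) I hI1 hI
        rw [hxy]
        have h2 : ∑ i, t i * B (xs i) (NumR.curveCl k X I hI) ≤ 0 :=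
          Finset.sum_nonpos fun i _ => by
            have h3 : B (xs i) (NumR.curveCl k X I hI) ≤ 0 := by
              unfold NumR.curveCl
              rw [map_neg, hxs, hB]
              have h5 := NegDef.intNum_distinct_nonneg k X hdim (C i) I (hCi i) hIi (hCd i) hI1
                (fun e => hex' i e.symm)
              have h4 : (0 : ℝ) ≤ ((FGA.intNum k X 2 ![ClSub.idealMod (C i), ClSub.idealMod I]
                  (Coh.structureModule X) : ℤ) : ℝ) := by exact_mod_cast h5
              linarith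
            exact mul_nonpos_of_nonneg_of_nonpos (ht0 i) h3
        linarith
    have hcl : x ∈ closure (NumR.ampleCone k X : Set (NumR.N1R k X)) := by
      rw [(closure_ample k X hdim B hB H hH).1]
      exact ⟨by rw [hxx]; exact hxh.le, hnef⟩
    refine ⟨x, hcl, ?_, fun i => (hwall x i).2 (hxxs i)⟩
    have hp : 0 < B x x ∧ 0 < B x (NumR.clR k X H hH.1) :=
      ⟨by rw [hxx]; exact hxh, by rw [← hh]; exact hxh⟩
    exact hp

end Surf

end Groth.Agent.Helper1.NegCfg3
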