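import Mathlib
import Groth.Agent.Lib.Helper1.NegCfg3

/-!
# A nef and big class orthogonal to a negative definite configuration (helper1)
-/

set_option autoImplicit false
set_option linter.style.haveILetI false
set_option linter.unusedSectionVars false
universe u
open CategoryTheory CategoryTheory.Limits AlgebraicGeometry TopologicalSpace Opposite

namespace Groth.Agent.Helper1.NegCfg4

open Groth.Agent.Helper1 Groth.Agent.Helper1.Euler Groth.Agent.Helper1.Dv
open Groth.Agent.Helper1.FinLen Groth.Agent.Helper1.TwForm Groth.Agent.Helper1.Curve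
open Groth.Agent.Helper1.Snap Groth.Agent.Helper1.SnapPos Groth.Agent.Helper1.FGAInt
open Groth.Agent.Helper1.FGAPos Groth.Agent.Helper1.Kleiman
open Groth.Agent.Helper1.SurfDual Groth.Agent.Helper1.SurfHodge
open Groth.Agent.Helper1.SurfCurve Groth.Agent.Helper1.RuledSurf Groth.Agent.Helper1.CurveDual
open Groth.Agent.Helper1.NegDef Groth.Agent.Helper1.NegCfg3 Groth.Agent.Helper1.PosCone

section Surf

variable (k : Type u) [Field k] (X : Scheme.{u}) [X.Over (Spec (CommRingCat.of k))]
  [IsProper (X ↘ (Spec (CommRingCat.of k)))] [IsIntegral X]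

theorem isInvertible_tensorList {A : X.Modules} (hA : PicF.IsInvertible A) (l : List X.Modules)
    (hl : ∀ M ∈ l, PicF.IsInvertible M) : PicF.IsInvertible (FGA.tensorList l) := by
  induction l with
  | nil => exact isInvertible_tensorPow hA 0
  | cons M l ih =>
    show PicF.IsInvertible (CohB1.tensorMod M (FGA.tensorList l))
    exact isInvertible_tensorMod (hl M List.mem_cons_self)
      (ih fun N hN => hl N (List.mem_cons_of_mem _ hN))

theorem intNum_tensorList (hdim : topologicalKrullDim X = 2) (Z : X.Modules)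
    (hZ : PicF.IsInvertible Z) (l : List X.Modules) (hl : ∀ M ∈ l, PicF.IsInvertible M) :
    FGA.intNum k X 2 ![Z, FGA.tensorList l] (Coh.structureModule X) =
      (l.map fun M => FGA.intNum k X 2 ![Z, M] (Coh.structureModule X)).sum := by
  induction l with
  | nil =>
    have h := intNum_pow_right k X hdim Z Z hZ hZ 0
    rw [Nat.cast_zero, zero_mul] at h
    rw [List.map_nil, List.sum_nil]
    exact h
  | cons M l ih =>
    have hM := hl M List.mem_cons_self
    have hl' : ∀ N ∈ l, PicF.IsInvertible N := fun N hN => hl N (List.mem_cons_of_mem _ hN)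
    show FGA.intNum k X 2 ![Z, CohB1.tensorMod M (FGA.tensorList l)] _ = _
    rw [intNum_tensor_right k X hdim Z M _ hZ hM (isInvertible_tensorList X hZ l hl'), ih hl',
      List.map_cons, List.sum_cons]

variable [Smooth (X ↘ (Spec (CommRingCat.of k)))]

set_option maxHeartbeats 1600000 in
/-- a nef and big invertible module orthogonal exactly to a negative definite configuration -/
theorem main (hdim : topologicalKrullDim X = 2) (H : X.Modules) (hH : CohB1.IsAmple H)
    (r : ℕ) (C : Fin r → X.IdealSheafData) (hC : Function.Injective C)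
    (hCi : ∀ i, IsIntegral (C i).subscheme)
    (hCd : ∀ i, topologicalKrullDim ((C i).support : Set X) = 1)
    (hneg : ∀ a : Fin r → ℤ, a ≠ 0 →
      ∑ i, ∑ j, a i * a j * FGA.intNum k X 2 ![(ClSub.idealMod (C i)), (ClSub.idealMod (C j))]
        (Coh.structureModule X) < 0) :
    ∃ L : X.Modules, PicF.IsInvertible L ∧
      (∀ D : X.IdealSheafData, IsIntegral D.subscheme →
        topologicalKrullDim (D.support : Set X) = 1 →
        0 ≤ Curv2.euler k X (CohB1.tensorMod (ClSub.quotMod D) L) -
          Curv2.euler k X (ClSub.quotMod D)) ∧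
      0 < FGA.intNum k X 2 ![L, L] (Coh.structureModule X) ∧
      (∀ D : X.IdealSheafData, IsIntegral D.subscheme →
        topologicalKrullDim (D.support : Set X) = 1 →
        (Curv2.euler k X (CohB1.tensorMod (ClSub.quotMod D) L) -
          Curv2.euler k X (ClSub.quotMod D) = 0 ↔ ∃ i, D = C i)) := by
  haveI : AlgebraicGeometry.IsNoetherian X := isNoetherian_of_proper k X
  have hd2 : topologicalKrullDim X ≤ ((2 : ℕ) : WithBot ℕ∞) := by rw [hdim]; exact le_of_eq rfl
  have hI : ∀ i, PicF.IsInvertible (ClSub.idealMod (C i)) := fun i =>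
    isInvertible_idealMod_curve k X hdim (C i) (hCi i) (hCd i)
  have hK : ∀ i, ∃ K : X.Modules, PicF.IsInvertible K ∧
      Nonempty (CohB1.tensorMod (ClSub.idealMod (C i)) K ≅ Coh.structureModule X) := fun i => by
    obtain ⟨K, hK, ⟨e⟩⟩ := InvInv2.exists_inverse (hI i)
    exact ⟨K, hK, ⟨TildeTens.tensorModComm _ _ ≪≫ e⟩⟩
  choose K hKinv hKiso using hK
  obtain ⟨G, hG⟩ : ∃ G : Fin r → Fin r → ℤ, ∀ i j, G i j =
      FGA.intNum k X 2 ![ClSub.idealMod (C i), ClSub.idealMod (C j)] (Coh.structureModule X) :=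
    ⟨_, fun _ _ => rfl⟩
  obtain ⟨hv, hhv⟩ : ∃ hv : Fin r → ℤ, ∀ i, hv i =
      FGA.intNum k X 2 ![ClSub.idealMod (C i), H] (Coh.structureModule X) := ⟨_, fun _ => rfl⟩
  have hneg' : ∀ a : Fin r → ℤ, a ≠ 0 → ∑ i, ∑ j, a i * a j * G i j < 0 := by
    intro a ha
    simp only [hG]
    exact hneg a ha
  have hGnn : ∀ i j, i ≠ j → 0 ≤ G i j := fun i j hij => by
    rw [hG]
    exact intNum_distinct_nonneg k X hdim (C i) (C j) (hCi i) (hCi j) (hCd i) (hCd j)
      (fun h => hij (hC h))
  have hGsymm : ∀ i j, G i j = G j i := fun i j => by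
    rw [hG, hG]; exact intNum_symm k X hdim _ _ (hI i) (hI j)
  have hvneg : ∀ i, hv i < 0 := fun i => by
    rw [hhv]; exact intNum_ideal_ample_neg k X hdim (C i) (hCd i) H hH
  obtain ⟨m, s, hm, hs⟩ := alg4 G hneg' hv
  have hs0 : ∀ i, 0 ≤ s i :=
    alg2 G hGnn hneg' (fun j => m * hv j)
      (fun j => mul_nonpos_of_nonneg_of_nonpos hm.le (hvneg j).le) s (fun j => (hs j).symm)
  obtain ⟨L, hLdef⟩ : ∃ L : X.Modules, L = CohB1.tensorMod (CohB1.tensorPow H m.toNat)
      (FGA.tensorList ((List.finRange r).map fun i => CohB1.tensorPow (K i) (s i).toNat)) :=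
    ⟨_, rfl⟩
  have hlist : ∀ M ∈ (List.finRange r).map (fun i => CohB1.tensorPow (K i) (s i).toNat),
      PicF.IsInvertible M := by
    intro M hM
    obtain ⟨i, _, rfl⟩ := List.mem_map.1 hM
    exact isInvertible_tensorPow (hKinv i) _
  have hLinv : PicF.IsInvertible L := by
    rw [hLdef]
    exact isInvertible_tensorMod (isInvertible_tensorPow hH.1 _)
      (isInvertible_tensorList X hH.1 _ hlist)
  have hmnat : ((m.toNat : ℕ) : ℤ) = m := Int.toNat_of_nonneg hm.le
  have hform : ∀ Z : X.Modules, PicF.IsInvertible Z →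
      FGA.intNum k X 2 ![Z, L] (Coh.structureModule X) =
        m * FGA.intNum k X 2 ![Z, H] (Coh.structureModule X) -
          ∑ i, s i * FGA.intNum k X 2 ![Z, ClSub.idealMod (C i)] (Coh.structureModule X) := by
    intro Z hZ
    rw [hLdef, intNum_tensor_right k X hdim Z _ _ hZ (isInvertible_tensorPow hH.1 _)
      (isInvertible_tensorList X hH.1 _ hlist),
      intNum_pow_right k X hdim Z H hZ hH.1, intNum_tensorList k X hdim Z hZ _ hlist,
      List.map_map, ← Fin.sum_univ_def, hmnat, sub_eq_add_neg, ← Finset.sum_neg_distrib]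
    congr 1
    refine Finset.sum_congr rfl fun i _ => ?_
    show FGA.intNum k X 2 ![Z, CohB1.tensorPow (K i) (s i).toNat] (Coh.structureModule X) = _
    rw [intNum_pow_right k X hdim Z (K i) hZ (hKinv i),
      intNum_inverse_right k X hdim Z _ (K i) hZ (hI i) (hKinv i) (hKiso i).some,
      Int.toNat_of_nonneg (hs0 i)]
    ring
  -- orthogonality to the configuration
  have horth : ∀ j, FGA.intNum k X 2 ![ClSub.idealMod (C j), L] (Coh.structureModule X) = 0 := by
    intro j
    rw [hform _ (hI j), ← hhv j]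
    have e : ∑ i, s i * FGA.intNum k X 2 ![ClSub.idealMod (C j), ClSub.idealMod (C i)]
        (Coh.structureModule X) = ∑ i, s i * G i j := by
      refine Finset.sum_congr rfl fun i _ => ?_
      rw [← hG j i, hGsymm j i]
    rw [e, hs j]
    ring
  -- positivity off the configuration
  have hoff : ∀ D : X.IdealSheafData, IsIntegral D.subscheme →
      topologicalKrullDim (D.support : Set X) = 1 → (¬ ∃ i, D = C i) →
      FGA.intNum k X 2 ![ClSub.idealMod D, L] (Coh.structureModule X) < 0 := by
    intro D hDi hD1 hne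
    have hID := isInvertible_idealMod_curve k X hdim D hDi hD1
    rw [hform _ hID]
    have h1 := intNum_ideal_ample_neg k X hdim D hD1 H hH
    have h2 : 0 ≤ ∑ i, s i * FGA.intNum k X 2 ![ClSub.idealMod D, ClSub.idealMod (C i)]
        (Coh.structureModule X) := Finset.sum_nonneg fun i _ =>
      mul_nonneg (hs0 i) (intNum_distinct_nonneg k X hdim D (C i) hDi (hCi i) hD1 (hCd i)
        (fun h => hne ⟨i, h⟩))
    have h3 : m * FGA.intNum k X 2 ![ClSub.idealMod D, H] (Coh.structureModule X) < 0 :=
      mul_neg_of_pos_of_neg hm h1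
    linarith
  have hdeg : ∀ D : X.IdealSheafData,
      Curv2.euler k X (CohB1.tensorMod (ClSub.quotMod D) L) - Curv2.euler k X (ClSub.quotMod D) =
        - FGA.intNum k X 2 ![ClSub.idealMod D, L] (Coh.structureModule X) := by
    intro D
    rw [intNum_ideal_eq_neg_curveInt k X hd2 D L hLinv]
    ring
  refine ⟨L, hLinv, ?_, ?_, ?_⟩
  · intro D hDi hD1
    rw [hdeg D]
    by_cases hex : ∃ i, D = C i
    · obtain ⟨i, rfl⟩ := hex
      rw [horth i]
      simp
    · have := hoff D hDi hD1 hex
      linarith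
  · rw [hform L hLinv]
    have e1 : ∑ i, s i * FGA.intNum k X 2 ![L, ClSub.idealMod (C i)] (Coh.structureModule X) = 0 := by
      refine Finset.sum_eq_zero fun i _ => ?_
      rw [intNum_symm k X hdim L _ hLinv (hI i), horth i, mul_zero]
    rw [e1, sub_zero, intNum_symm k X hdim L H hLinv hH.1, hform H hH.1]
    have h1 := intNum_ample_pos k X hdim H H hH hH
    have h2 : ∑ i, s i * FGA.intNum k X 2 ![H, ClSub.idealMod (C i)] (Coh.structureModule X) ≤ 0 := by
      refine Finset.sum_nonpos fun i _ => ?_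
      rw [intNum_symm k X hdim H _ hH.1 (hI i), ← hhv i]
      exact mul_nonpos_of_nonneg_of_nonpos (hs0 i) (hvneg i).le
    have h3 : 0 < m * FGA.intNum k X 2 ![H, H] (Coh.structureModule X) := mul_pos hm h1
    exact mul_pos hm (by linarith)
  · intro D hDi hD1
    rw [hdeg D]
    constructor
    · intro h0
      by_contra hex
      have := hoff D hDi hD1 hex
      linarith
    · rintro ⟨i, rfl⟩
      rw [horth i]
      simp

end Surf

end Groth.Agent.Helper1.NegCfg4
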