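import Mathlib
import Groth.Prelude.Def_NumR
import Groth.Agent.Lib.Helper1.PosCone1

/-!
# Negative definite configurations of curves and the Picard number (helper1)
-/

set_option autoImplicit false
universe u
open CategoryTheory CategoryTheory.Limits AlgebraicGeometry TopologicalSpace Opposite TensorProduct

namespace Groth.Agent.Helper1.NegDef

open Groth.Agent.Helper1

section Main

variable (k : Type u) [Field k] (X : Scheme.{u}) [X.Over (Spec (CommRingCat.of k))]
  [IsProper (X ↘ (Spec (CommRingCat.of k)))] [IsIntegral X] [PicGrp.Law X]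

/-- invertible modules spanning a negative definite lattice, together with an ample module, are
linearly independent in `N¹(X)_ℝ` -/
theorem main [Module.Finite ℝ (NumR.N1R k X)] (hdim : topologicalKrullDim X = 2)
    (B : NumR.N1R k X →ₗ[ℝ] NumR.N1R k X →ₗ[ℝ] ℝ) (hB : NumR.IsIntForm₂ k X B)
    (H : X.Modules) (hH : CohB1.IsAmple H)
    (r : ℕ) (M : Fin r → X.Modules) (hM : ∀ i, PicF.IsInvertible (M i))
    (hneg : ∀ a : Fin r → ℤ, a ≠ 0 →
      ∑ i, ∑ j, a i * a j * FGA.intNum k X 2 ![M i, M j] (Coh.structureModule X) < 0) :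
    r + 1 ≤ Module.finrank ℝ (NumR.N1R k X) := by
  classical
  set h : NumR.N1R k X := NumR.clR k X H hH.1 with hh
  set x : Fin r → NumR.N1R k X := fun i => NumR.clR k X (M i) (hM i) with hx
  have hHmem : h ∈ (NumR.ampleCone k X : Set (NumR.N1R k X)) :=
    ConvexCone.subset_hull ⟨H, hH.1, hH, rfl⟩
  have hHH : 0 < B h h := PosCone.pair_pos k X hdim B hB h h hHmem hHmem
  have hq : ∀ a : Fin r → ℤ, B (∑ i, (a i : ℝ) • x i) (∑ j, (a j : ℝ) • x j) =
      ((∑ i, ∑ j, a i * a j * FGA.intNum k X 2 ![M i, M j] (Coh.structureModule X) : ℤ) : ℝ) := by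
    intro a
    have e1 : ∀ y, B (∑ i, (a i : ℝ) • x i) y = ∑ i, (a i : ℝ) * B (x i) y := by
      intro y
      rw [map_sum, LinearMap.sum_apply]
      refine Finset.sum_congr rfl fun i _ => ?_
      rw [map_smul, LinearMap.smul_apply, smul_eq_mul]
    rw [e1]
    push_cast
    refine Finset.sum_congr rfl fun i _ => ?_
    rw [map_sum, Finset.mul_sum]
    refine Finset.sum_congr rfl fun j _ => ?_
    rw [map_smul, smul_eq_mul, hB (M i) (M j) (hM i) (hM j)]
    ring
  let w : Fin (r + 1) → NumR.N1 k X :=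
    Fin.snoc (fun i => NumR.cl k X (M i) (hM i)) (NumR.cl k X H hH.1)
  have hw1 : ∀ i : Fin r, NumR.toN1R k X (w i.castSucc) = x i := fun i => by
    change NumR.toN1R k X (Fin.snoc (α := fun _ => NumR.N1 k X)
      (fun i => NumR.cl k X (M i) (hM i)) (NumR.cl k X H hH.1) i.castSucc) = _
    rw [Fin.snoc_castSucc]
    rfl
  have hw2 : NumR.toN1R k X (w (Fin.last r)) = h := by
    change NumR.toN1R k X (Fin.snoc (α := fun _ => NumR.N1 k X)
      (fun i => NumR.cl k X (M i) (hM i)) (NumR.cl k X H hH.1) (Fin.last r)) = _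
    rw [Fin.snoc_last]
    rfl
  have hli : LinearIndependent ℤ w := by
    rw [Fintype.linearIndependent_iff]
    intro g hg
    have h1 := congrArg (NumR.toN1R k X) hg
    rw [map_sum, Fin.sum_univ_castSucc, map_zero] at h1
    simp only [map_zsmul, hw1, hw2] at h1
    set a : Fin r → ℤ := fun i => g i.castSucc with ha
    set b : ℤ := g (Fin.last r) with hb
    have h2 : ∑ i, (a i : ℝ) • x i + (b : ℝ) • h = 0 := by
      rw [← h1]
      congr 1
      · refine Finset.sum_congr rfl fun i _ => ?_
        exact Int.cast_smul_eq_zsmul ℝ (a i) (x i)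
      · exact Int.cast_smul_eq_zsmul ℝ b h
    have hv : ∑ i, (a i : ℝ) • x i = -((b : ℝ) • h) := eq_neg_of_add_eq_zero_left h2
    have hvv := hq a
    rw [hv, map_neg, map_neg, LinearMap.neg_apply, neg_neg, map_smul, map_smul,
      LinearMap.smul_apply, smul_eq_mul, smul_eq_mul] at hvv
    have hnn : (0 : ℝ) ≤ (b : ℝ) * ((b : ℝ) * B h h) := by
      have : (b : ℝ) * ((b : ℝ) * B h h) = (b : ℝ) ^ 2 * B h h := by ring
      rw [this]
      exact mul_nonneg (sq_nonneg _) hHH.le
    have ha0 : a = 0 := by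
      by_contra hne
      have hlt := hneg a hne
      have hlt' : ((∑ i, ∑ j, a i * a j *
          FGA.intNum k X 2 ![M i, M j] (Coh.structureModule X) : ℤ) : ℝ) < 0 := by
        exact_mod_cast hlt
      rw [← hvv] at hlt'
      exact absurd hnn (not_le.2 hlt')
    have hb0 : b = 0 := by
      have h3 : (b : ℝ) • h = 0 := by
        have : ∑ i, (a i : ℝ) • x i = 0 := by
          rw [ha0]
          simp
        rw [this, zero_add] at h2
        exact h2
      have hne : h ≠ 0 := by
        intro h0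
        rw [h0, map_zero] at hHH
        exact lt_irrefl _ hHH
      rcases smul_eq_zero.1 h3 with h4 | h4
      · exact_mod_cast h4
      · exact absurd h4 hne
    intro i
    refine Fin.lastCases ?_ (fun j => ?_) i
    · exact hb0
    · exact congrFun ha0 j
  haveI : Module.Finite ℝ (ℝ ⊗[ℤ] NumR.N1 k X) := ‹Module.Finite ℝ (NumR.N1R k X)›
  have hli' : LinearIndependent ℝ (fun i => ((1 : ℝ) ⊗ₜ[ℤ] w i : ℝ ⊗[ℤ] NumR.N1 k X)) :=
    Module.Flat.linearIndependent_one_tmul hli
  have hle := hli'.fintype_card_le_finrank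
  rw [Fintype.card_fin] at hle
  exact hle

end Main

end Groth.Agent.Helper1.NegDef
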