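import Mathlib
import Groth.Agent.Lib.Helper1.MumA
import Groth.Agent.Lib.Helper1.MumC
import Groth.Agent.Lib.Helper1.LesBound1
import Groth.Agent.Lib.Helper1.LSt1
import Groth.Agent.Lib.Helper1.Big5
import Groth.Agent.Lib.Helper1.SSC1
import Groth.Agent.Lib.Lead.HP9

/-!
# Non-vanishing of the top cohomology of negative twists on projective space (helper1)

For a coherent module `G` on `P^n_k` (`k` infinite) with support of dimension `a ≥ 1`, the
cohomology `H^a(G(-j))` is nonzero for large `j`: the lower cohomology groups of the negative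
twists grow at most like `j^{a-1}` (hyperplane sections), while `(-1)^a χ(G(-j))` grows like `j^a`.
-/

set_option backward.isDefEq.respectTransparency.types false
set_option synthInstance.maxHeartbeats 400000
set_option autoImplicit false
set_option linter.unusedSectionVars false
set_option linter.style.haveILetI false
set_option linter.unusedVariables false
universe u
open CategoryTheory CategoryTheory.Limits AlgebraicGeometry TopologicalSpace Opposite

namespace Groth.Agent.Helper1.NegTw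

open Groth.Agent.Lib.Helper4 Groth.Agent.Helper1 Groth.Agent.Helper1.HorrB
open Groth.Agent.Helper1.MumA

section Pn

variable (n : ℕ) (k : Type u) [Field k]

/-- dimension of the `i`-th cohomology of the twist `M(t)` -/
noncomputable def hh (M : (CohB1.ProjSpace n k).Modules) (i : ℕ) (t : ℤ) : ℕ :=
  Module.finrank k (Coh.HH (CohB1.ProjSpace n k) ((SerreVan.Tw n k t).obj M) i)

/-- the two inequalities coming from the hyperplane sequence -/
theorem hh_hyp (D : (CohB1.ProjSpace n k).IdealSheafData)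
    (e : ClSub.idealMod D ≅ Twist.twistProjSpace n k (-1)) (M : (CohB1.ProjSpace n k).Modules)
    (hM : Coh.IsCoh M) (hm : Mono (SnapCart2.tι D M)) (t : ℤ) :
    hh n k M 0 (-1 + t) ≤ hh n k M 0 t ∧
      ∀ i : ℕ, hh n k M (i + 1) (-1 + t) ≤
        hh n k ((DCoh.tensorBi.obj M).obj (ClSub.quotMod D)) i t + hh n k M (i + 1) t := by
  have hS := hypC_tw_shortExact D e M hm t
  have h₁ : Coh.IsCoh ((hypC D e M).map (SerreVan.Tw n k t)).X₁ :=
    SerreVan.isCoh_Tw n k t _ (SerreVan.isCoh_Tw n k (-1) M hM)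
  have h₂ : Coh.IsCoh ((hypC D e M).map (SerreVan.Tw n k t)).X₂ := SerreVan.isCoh_Tw n k t M hM
  have h₃ : Coh.IsCoh ((hypC D e M).map (SerreVan.Tw n k t)).X₃ :=
    SerreVan.isCoh_Tw n k t _ (Euler.isCoh_tensor _ _ hM (CurveDual.isCoh_quotMod D))
  obtain ⟨φ⟩ := KosC3.nonempty_twist_twist_iso n k M (-1) t
  have hφ : ∀ i : ℕ, Module.finrank k (Coh.HH (CohB1.ProjSpace n k)
      ((hypC D e M).map (SerreVan.Tw n k t)).X₁ i) = hh n k M i (-1 + t) := fun i => by
    unfold hh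
    exact (HHFin1.HHequiv k φ i).finrank_eq
  refine ⟨?_, fun i => ?_⟩
  · rw [← hφ 0]
    exact LesBound.finrank_X₁_zero_le k _ _ hS h₁ h₂ h₃
  · rw [← hφ (i + 1)]
    exact LesBound.finrank_X₁_succ_le k _ _ hS h₁ h₂ h₃ i

/-- the cohomology of the negative twists grows at most polynomially of the degree of the
cohomological index -/
theorem neg_bound [Infinite k] : ∀ (i : ℕ) (M : (CohB1.ProjSpace n k).Modules), Coh.IsCoh M →
    ∃ C : ℕ, ∀ j : ℕ, hh n k M i (-(j : ℤ)) ≤ C * (1 + j) ^ i := by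
  intro i
  induction i with
  | zero =>
    intro M hM
    obtain ⟨D, hDinv, ⟨e⟩, hm, -⟩ := exists_hyperplane n k M M hM hM
    refine ⟨hh n k M 0 0, fun j => ?_⟩
    rw [pow_zero, mul_one]
    induction j with
    | zero => simp
    | succ j ih =>
      have h := (hh_hyp n k D e M hM hm (-(j : ℤ))).1
      have e1 : (-((j + 1 : ℕ) : ℤ)) = -1 + -(j : ℤ) := by push_cast; ring
      rw [e1]
      exact h.trans ih
  | succ i ihi =>
    intro M hM
    obtain ⟨D, hDinv, ⟨e⟩, hm, -⟩ := exists_hyperplane n k M M hM hM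
    have hMD : Coh.IsCoh ((DCoh.tensorBi.obj M).obj (ClSub.quotMod D)) :=
      Euler.isCoh_tensor _ _ hM (CurveDual.isCoh_quotMod D)
    obtain ⟨C, hC⟩ := ihi _ hMD
    refine ⟨hh n k M (i + 1) 0 + C, fun j => ?_⟩
    induction j with
    | zero =>
      simp only [Nat.cast_zero, neg_zero, add_zero, one_pow, mul_one]
      exact Nat.le_add_right _ _
    | succ j ih =>
      have h := (hh_hyp n k D e M hM hm (-(j : ℤ))).2 i
      have e1 : (-((j + 1 : ℕ) : ℤ)) = -1 + -(j : ℤ) := by push_cast; ring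
      rw [e1]
      have hCj := hC j
      have hp : (1 + j) ^ i ≤ (1 + (j + 1)) ^ i := Nat.pow_le_pow_left (by omega) i
      obtain ⟨K, hK⟩ : ∃ K : ℕ, K = hh n k M (i + 1) 0 + C := ⟨_, rfl⟩
      rw [← hK] at ih ⊢
      have hCK : C ≤ K := by rw [hK]; exact Nat.le_add_left _ _
      have h2 : (1 + (j + 1)) ^ (i + 1) = (1 + (j + 1)) ^ i * (1 + j) + (1 + (j + 1)) ^ i := by
        ring
      have h3 : (1 + j) ^ (i + 1) = (1 + j) ^ i * (1 + j) := pow_succ _ _
      have h4 : C * (1 + j) ^ i ≤ K * (1 + (j + 1)) ^ i := Nat.mul_le_mul hCK hp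
      have h5 : K * ((1 + j) ^ i * (1 + j)) ≤ K * ((1 + (j + 1)) ^ i * (1 + j)) :=
        Nat.mul_le_mul_left K (Nat.mul_le_mul_right (1 + j) hp)
      calc hh n k M (i + 1) (-1 + -(j : ℤ))
          ≤ C * (1 + j) ^ i + K * (1 + j) ^ (i + 1) := h.trans (Nat.add_le_add hCj ih)
        _ = C * (1 + j) ^ i + K * ((1 + j) ^ i * (1 + j)) := by rw [h3]
        _ ≤ K * (1 + (j + 1)) ^ i + K * ((1 + (j + 1)) ^ i * (1 + j)) := Nat.add_le_add h4 h5
        _ = K * (1 + (j + 1)) ^ (i + 1) := by rw [h2]; ring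

/-- the Euler characteristic of all integer twists is a polynomial -/
theorem chi_poly (G : (CohB1.ProjSpace n k).Modules) (hG : Coh.IsCoh G) :
    ∃ Q : Polynomial ℚ, ∀ m : ℤ, (chi n k G m : ℚ) = Q.eval (m : ℚ) := by
  obtain ⟨Q, hQ⟩ := LSt.exists_hilb_int k n (𝟙 (CohB1.ProjSpace n k)) (Category.id_comp _) G hG
  refine ⟨Q, fun m => ?_⟩
  rw [← hQ m]
  have e : Pic13.twistOn k (𝟙 (CohB1.ProjSpace n k)) G m ≅ (SerreVan.Tw n k m).obj G :=
    Groth.Agent.Lead.TilT.tensorModCongr (Iso.refl G)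
      ((Scheme.Modules.pullbackId (CohB1.ProjSpace n k)).app (Twist.twistProjSpace n k m))
  unfold chi
  rw [Euler.euler_iso k _ e]

/-- from integer twists to the Hilbert polynomial with respect to `O(1)` -/
theorem isHilbPoly_of_chi (G : (CohB1.ProjSpace n k).Modules) (Q : Polynomial ℚ)
    (hQ : ∀ m : ℤ, (chi n k G m : ℚ) = Q.eval (m : ℚ)) :
    ShStab.IsHilbPoly k (CohB1.ProjSpace n k) (Twist.twistProjSpace n k 1) G Q := by
  intro m
  obtain ⟨e3⟩ := SerreAmple.nonempty_twist_pow_iso n k m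
  have e : ShStab.twist (CohB1.ProjSpace n k) (Twist.twistProjSpace n k 1) G m ≅
      (SerreVan.Tw n k (m : ℤ)).obj G :=
    Groth.Agent.Lead.TilT.tensorModCongr (Iso.refl G) e3
  rw [Euler.euler_iso k _ e]
  have h := hQ (m : ℤ)
  rw [Int.cast_natCast] at h
  exact h

/-- **the top cohomology of a sufficiently negative twist is nonzero** -/
theorem exists_top_nontrivial [Infinite k] (G : (CohB1.ProjSpace n k).Modules) (hG : Coh.IsCoh G)
    (a : ℕ) (ha : 1 ≤ a)
    (hdim : topologicalKrullDim ↥(CohB1.support G) = ((a : ℕ) : WithBot ℕ∞)) :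
    ∃ m : ℤ, Nontrivial (Coh.HH (CohB1.ProjSpace n k)
      (CohB1.tensorMod G (Twist.twistProjSpace n k m)) a) := by
  classical
  haveI := Euler.isNoetherian_of_proper k (CohB1.ProjSpace n k)
  obtain ⟨Q, hQ⟩ := chi_poly n k G hG
  have hHP := isHilbPoly_of_chi n k G Q hQ
  have hamp : CohB1.IsAmple (Twist.twistProjSpace n k 1) := VA5.isAmple_twistProjSpace n k
  have hdeg : Q.natDegree = a :=
    Groth.Agent.Lead.HP.natDegree_eq_of_dim k _ _ hamp G hG a hdim hHP
  have halpha := Groth.Agent.Lead.HP.alpha_pos_of_dim k _ _ hamp G hG a hdim hHP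
  have hlc : 0 < Q.leadingCoeff := by
    unfold StabCat.alpha at halpha
    rw [Polynomial.leadingCoeff, hdeg]
    exact (mul_pos_iff_of_pos_left (by exact_mod_cast Nat.factorial_pos a)).1 halpha
  -- the bounds for the lower cohomology groups
  have hbd : ∀ i : ℕ, ∃ C : ℕ, ∀ j : ℕ, hh n k G i (-(j : ℤ)) ≤ C * (1 + j) ^ i :=
    fun i => neg_bound n k i G hG
  choose Cf hCf using hbd
  obtain ⟨Ct, hCt⟩ : ∃ Ct : ℕ, Ct = ∑ i ∈ Finset.range a, Cf i := ⟨_, rfl⟩
  have hsum : ∀ j : ℕ, ∑ i ∈ Finset.range a, hh n k G i (-(j : ℤ)) ≤ Ct * (1 + j) ^ (a - 1) := by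
    intro j
    rw [hCt, Finset.sum_mul]
    apply Finset.sum_le_sum
    intro i hi
    have hia : i ≤ a - 1 := by
      have := Finset.mem_range.1 hi
      omega
    exact (hCf i j).trans (Nat.mul_le_mul_left _ (Nat.pow_le_pow_right (by omega) hia))
  -- the comparison polynomial
  have hnX : (-Polynomial.X : Polynomial ℚ).natDegree = 1 := by
    rw [Polynomial.natDegree_neg, Polynomial.natDegree_X]
  have hlX : (-Polynomial.X : Polynomial ℚ).leadingCoeff = -1 := by
    rw [Polynomial.leadingCoeff_neg, Polynomial.leadingCoeff_X]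
  have hR1 : (Q.comp (-Polynomial.X)).natDegree = a := by
    rw [Polynomial.natDegree_comp, hnX, mul_one, hdeg]
  have hR2 : (Q.comp (-Polynomial.X)).leadingCoeff = Q.leadingCoeff * (-1) ^ a := by
    rw [Polynomial.leadingCoeff_comp (by rw [hnX]; exact one_ne_zero), hlX, hdeg]
  have hu : ((-1 : ℚ) ^ a) ≠ 0 := pow_ne_zero _ (by norm_num)
  have hss : ((-1 : ℚ) ^ a) * ((-1) ^ a) = 1 := by rw [← mul_pow]; norm_num
  obtain ⟨R, hR⟩ : ∃ R : Polynomial ℚ, R = Polynomial.C ((-1 : ℚ) ^ a) * Q.comp (-Polynomial.X) :=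
    ⟨_, rfl⟩
  obtain ⟨T, hT⟩ : ∃ T : Polynomial ℚ,
      T = Polynomial.C (Ct : ℚ) * (Polynomial.X + 1) ^ (a - 1) := ⟨_, rfl⟩
  have hR3 : R.natDegree = a := by rw [hR, Polynomial.natDegree_C_mul hu, hR1]
  have hR4 : R.leadingCoeff = Q.leadingCoeff := by
    rw [hR, Polynomial.leadingCoeff_mul, Polynomial.leadingCoeff_C, hR2]
    calc (-1 : ℚ) ^ a * (Q.leadingCoeff * (-1) ^ a)
        = Q.leadingCoeff * ((-1) ^ a * (-1) ^ a) := by ring
      _ = Q.leadingCoeff := by rw [hss, mul_one]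
  have hX1 : (Polynomial.X + 1 : Polynomial ℚ).natDegree = 1 := by
    have := Polynomial.natDegree_X_add_C (1 : ℚ)
    simpa using this
  have hT1 : T.natDegree ≤ a - 1 := by
    rw [hT]
    refine (Polynomial.natDegree_C_mul_le _ _).trans ?_
    exact (Polynomial.natDegree_pow_le).trans (le_of_eq (by rw [hX1, mul_one]))
  have hdeglt : T.degree < R.degree := by
    apply Polynomial.degree_lt_degree
    rw [hR3]
    omega
  have hSlc : 0 < (R - T).leadingCoeff := by
    rw [Polynomial.leadingCoeff_sub_of_degree_lt hdeglt, hR4]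
    exact hlc
  obtain ⟨N, hN⟩ := Groth.Agent.Lead.HP.evPos_of_leadingCoeff_pos (R - T) hSlc
  have hpos := hN N le_rfl
  have hSev : (R - T).eval (N : ℚ) =
      (-1 : ℚ) ^ a * Q.eval (-(N : ℚ)) - (Ct : ℚ) * ((N : ℚ) + 1) ^ (a - 1) := by
    rw [hR, hT]
    simp only [Polynomial.eval_sub, Polynomial.eval_mul, Polynomial.eval_C, Polynomial.eval_comp,
      Polynomial.eval_neg, Polynomial.eval_X, Polynomial.eval_pow, Polynomial.eval_add,
      Polynomial.eval_one]
  rw [hSev] at hpos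
  have hχ : (chi n k G (-(N : ℤ)) : ℚ) = Q.eval (-(N : ℚ)) := by
    have h := hQ (-(N : ℤ))
    rw [Int.cast_neg, Int.cast_natCast] at h
    exact h
  -- the Euler characteristic as a finite alternating sum
  have hvan : ∀ p : ℕ, a + 1 ≤ p → Subsingleton (Coh.HH (CohB1.ProjSpace n k)
      ((SerreVan.Tw n k (-(N : ℤ))).obj G) p) := by
    intro p hp
    have hc := SerreVan.isCoh_Tw n k (-(N : ℤ)) G hG
    have hsupp : CohB1.support ((SerreVan.Tw n k (-(N : ℤ))).obj G) = CohB1.support G :=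
      SSC.support_tensor_eq (inv_O n k (-(N : ℤ)))
    have hd : topologicalKrullDim ↥(CohB1.support ((SerreVan.Tw n k (-(N : ℤ))).obj G)) ≤
        ((a : ℕ) : WithBot ℕ∞) := by
      rw [hsupp]
      exact hdim.le
    exact Big.subsingleton_HH_of_dim_support_lt _ hc a hd p (by omega)
  have hsumχ : chi n k G (-(N : ℤ)) =
      ∑ i ∈ Finset.range (a + 1), (-1 : ℤ) ^ i * (hh n k G i (-(N : ℤ)) : ℤ) := by
    unfold chi hh
    exact Euler.euler_eq_sum k _ (a + 1) _ hvan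
  rw [Finset.sum_range_succ] at hsumχ
  obtain ⟨A, hA⟩ : ∃ A : ℤ,
      A = ∑ i ∈ Finset.range a, (-1 : ℤ) ^ i * (hh n k G i (-(N : ℤ)) : ℤ) := ⟨_, rfl⟩
  rw [← hA] at hsumχ
  obtain ⟨B, hB⟩ : ∃ B : ℕ, B = ∑ i ∈ Finset.range a, hh n k G i (-(N : ℤ)) := ⟨_, rfl⟩
  have hAB : (-1 : ℤ) ^ a * A ≤ (B : ℤ) := by
    rw [hA, hB, Finset.mul_sum]
    push_cast
    apply Finset.sum_le_sum
    intro i _
    have hsgn : (-1 : ℤ) ^ a * (-1) ^ i ≤ 1 := by
      rw [← pow_add]
      rcases neg_one_pow_eq_or ℤ (a + i) with h | h <;> rw [h] <;> norm_num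
    have hnn : (0 : ℤ) ≤ (hh n k G i (-(N : ℤ)) : ℤ) := Int.natCast_nonneg _
    calc (-1 : ℤ) ^ a * ((-1) ^ i * (hh n k G i (-(N : ℤ)) : ℤ))
        = ((-1) ^ a * (-1) ^ i) * (hh n k G i (-(N : ℤ)) : ℤ) := by ring
      _ ≤ 1 * (hh n k G i (-(N : ℤ)) : ℤ) := mul_le_mul_of_nonneg_right hsgn hnn
      _ = (hh n k G i (-(N : ℤ)) : ℤ) := one_mul _
  have hssZ : ((-1 : ℤ) ^ a) * ((-1) ^ a) = 1 := by rw [← mul_pow]; norm_num
  have hha : ((hh n k G a (-(N : ℤ)) : ℕ) : ℤ) =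
      (-1) ^ a * chi n k G (-(N : ℤ)) - (-1) ^ a * A := by
    rw [hsumχ]
    calc ((hh n k G a (-(N : ℤ)) : ℕ) : ℤ)
        = ((-1) ^ a * (-1) ^ a) * (hh n k G a (-(N : ℤ)) : ℤ) := by rw [hssZ, one_mul]
      _ = (-1) ^ a * (A + (-1) ^ a * (hh n k G a (-(N : ℤ)) : ℤ)) - (-1) ^ a * A := by ring
  have hBle : (B : ℤ) ≤ (Ct : ℤ) * ((1 + N : ℕ) : ℤ) ^ (a - 1) := by
    have h := hsum N
    rw [← hB] at h
    exact_mod_cast h
  have hfin : (0 : ℚ) < ((hh n k G a (-(N : ℤ)) : ℕ) : ℚ) := by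
    have h1 : (((hh n k G a (-(N : ℤ)) : ℕ) : ℤ) : ℚ) =
        (-1 : ℚ) ^ a * (chi n k G (-(N : ℤ)) : ℚ) - (((-1 : ℤ) ^ a * A : ℤ) : ℚ) := by
      rw [hha]
      push_cast
      ring
    have h2 : (((-1 : ℤ) ^ a * A : ℤ) : ℚ) ≤ (Ct : ℚ) * ((N : ℚ) + 1) ^ (a - 1) := by
      have h := hAB.trans hBle
      have h3 : (((-1 : ℤ) ^ a * A : ℤ) : ℚ) ≤
          (((Ct : ℤ) * ((1 + N : ℕ) : ℤ) ^ (a - 1) : ℤ) : ℚ) := by exact_mod_cast h
      refine h3.trans (le_of_eq ?_)
      push_cast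
      ring
    rw [← Int.cast_natCast (R := ℚ) (hh n k G a (-(N : ℤ))), h1, hχ]
    linarith
  have hpos' : 0 < hh n k G a (-(N : ℤ)) := by exact_mod_cast hfin
  unfold hh at hpos'
  have hnt : Nontrivial (Coh.HH (CohB1.ProjSpace n k) ((SerreVan.Tw n k (-(N : ℤ))).obj G) a) :=
    Module.nontrivial_of_finrank_pos (R := k) hpos'
  exact ⟨-(N : ℤ), hnt⟩

end Pn

end Groth.Agent.Helper1.NegTw
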