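import Mathlib
import Groth.Agent.Lib.Helper1.TorL
import Groth.Agent.Lib.Helper1.TorBal

universe u
open CategoryTheory MonoidalCategory Limits
open scoped TensorProduct

namespace Groth.Agent.Helper1.NilFlat
open Groth.Agent.Helper1.TorL Groth.Agent.Helper1.TorBal

variable {R S M : Type u} [CommRing R] [CommRing S] [Algebra R S] (I : Ideal R)
    [AddCommGroup M] [Module S M] [Module R M] [IsScalarTower R S M]

/-- the map `I → IS`. -/
noncomputable def ι : I →ₗ[R] (I.map (algebraMap R S)) where
  toFun a := ⟨algebraMap R S a.1, Ideal.mem_map_of_mem _ a.2⟩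
  map_add' a b := by ext; simp
  map_smul' r a := by ext; simp [Algebra.smul_def]

/-- the map `M ⊗[R] I → M ⊗[S] IS`. -/
noncomputable def ψ : M ⊗[R] I →ₗ[R] M ⊗[S] (I.map (algebraMap R S)) :=
  (TensorProduct.mapOfCompatibleSMul S R R M (I.map (algebraMap R S))) ∘ₗ (LinearMap.lTensor M (ι I))

theorem ψ_tmul (m : M) (a : I) : ψ (S := S) I (m ⊗ₜ[R] a) = m ⊗ₜ[S] (ι I a) := rfl

theorem ψ_surjective : Function.Surjective (ψ (S := S) (M := M) I) := by
  have key : ∀ (x : S) (hx : x ∈ I.map (algebraMap R S)) (m : M),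
      m ⊗ₜ[S] (⟨x, hx⟩ : I.map (algebraMap R S)) ∈ LinearMap.range (ψ (S := S) (M := M) I) := by
    intro x hx
    unfold Ideal.map at hx
    induction hx using Submodule.span_induction with
    | mem x h =>
      obtain ⟨a, ha, rfl⟩ := h
      intro m
      exact ⟨m ⊗ₜ[R] ⟨a, ha⟩, rfl⟩
    | zero =>
      intro m
      have : (⟨0, Submodule.zero_mem _⟩ : I.map (algebraMap R S)) = 0 := rfl
      rw [this, TensorProduct.tmul_zero]
      exact Submodule.zero_mem _
    | add x y hx hy ihx ihy =>
      intro m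
      have : (⟨x + y, Submodule.add_mem _ hx hy⟩ : I.map (algebraMap R S)) =
          ⟨x, hx⟩ + ⟨y, hy⟩ := rfl
      rw [this, TensorProduct.tmul_add]
      exact Submodule.add_mem _ (ihx m) (ihy m)
    | smul s x hx ih =>
      intro m
      have : (⟨s • x, Submodule.smul_mem _ s hx⟩ : I.map (algebraMap R S)) =
          s • ⟨x, hx⟩ := rfl
      rw [this, ← TensorProduct.smul_tmul]
      exact ih (s • m)
  intro z
  induction z using TensorProduct.induction_on with
  | zero => exact ⟨0, map_zero _⟩
  | tmul m x => exact key x.1 x.2 m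
  | add z w hz hw =>
    obtain ⟨a, rfl⟩ := hz
    obtain ⟨b, rfl⟩ := hw
    exact ⟨a + b, map_add _ _ _⟩

theorem comp_eq (w : M ⊗[R] I) :
    TensorProduct.rid S M (((I.map (algebraMap R S)).subtype.lTensor M) (ψ (S := S) I w)) =
      TensorProduct.rid R M ((I.subtype.lTensor M) w) := by
  induction w using TensorProduct.induction_on with
  | zero => simp
  | tmul m a =>
    rw [ψ_tmul]
    simp [ι]
  | add z w hz hw => simp only [map_add, hz, hw]

theorem injective_lTensor [Module.Flat R M] :
    Function.Injective ((I.map (algebraMap R S)).subtype.lTensor M) := by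
  rw [injective_iff_map_eq_zero]
  intro z hz
  obtain ⟨w, rfl⟩ := ψ_surjective (S := S) (M := M) I z
  have h1 := comp_eq (S := S) (M := M) I w
  rw [hz, map_zero] at h1
  have h2 : (I.subtype.lTensor M) w = 0 := (TensorProduct.rid R M).injective (h1.symm.trans (map_zero _).symm)
  have h3 : w = 0 := Module.Flat.lTensor_preserves_injective_linearMap I.subtype
    I.injective_subtype (h2.trans (map_zero _).symm)
  rw [h3, map_zero]

theorem main (hI : IsNilpotent I) [Module.Flat R M]
    (h : Module.Flat (S ⧸ I.map (algebraMap R S)) ((S ⧸ I.map (algebraMap R S)) ⊗[S] M)) :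
    Module.Flat S M := by
  obtain ⟨m, hm⟩ := hI
  have hJ : (I.map (algebraMap R S)) ^ m = ⊥ := by
    rw [← Ideal.map_pow, hm]
    exact Ideal.map_bot
  have hT : IsZero (T 1 (ModuleCat.of S (S ⧸ I.map (algebraMap R S))) (ModuleCat.of S M)) := by
    rw [isZero_tor_symm, isZero_tor_one_quotient_iff]
    exact injective_lTensor I
  rw [flat_iff_tor_one_quotient]
  intro 𝔞 _
  rw [isZero_tor_symm]
  refine isZero_tor_one_of_pow_smul_eq_zero (I.map (algebraMap R S)) M hT m (S ⧸ 𝔞) ?_
  intro a ha x
  rw [hJ] at ha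
  rw [(Submodule.mem_bot S).mp ha, zero_smul]

end Groth.Agent.Helper1.NilFlat
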