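import Mathlib

/-!
# n-th roots modulo a nil ideal (Stacks 0AME-type lemma)
-/

set_option autoImplicit false
universe u
namespace Groth.Agent.Helper1.NilRoot

open Polynomial

theorem isAdicComplete_of_pow_eq_bot {R : Type*} [CommRing R] (J : Ideal R) (N : ℕ)
    (hN : J ^ N = ⊥) : IsAdicComplete J R := by
  have hbot : (J ^ N • ⊤ : Submodule R R) = ⊥ := by rw [hN, Submodule.bot_smul]
  refine { toIsHausdorff := ⟨?_⟩, toIsPrecomplete := ⟨?_⟩ }
  · intro x hx
    have := hx N
    rw [SModEq.zero, hbot] at this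
    exact (Submodule.mem_bot R).mp this
  · intro f hf
    refine ⟨f N, fun n => ?_⟩
    rcases le_or_gt n N with h | h
    · exact hf h
    · have h1 := hf (le_of_lt h)
      rw [hbot, SModEq.bot] at h1
      rw [← h1]

theorem S6331 {R : Type u} [CommRing R] (I : Ideal R) (hI : ∀ x ∈ I, IsNilpotent x) (n : ℕ)
    (hn : 1 ≤ n) (hinv : IsUnit ((n : ℕ) : R ⧸ I)) :
    (∀ y ∈ I, ∃! x : R, x ∈ I ∧ (1 + x) ^ n = 1 + y) ∧
    (∀ u : Rˣ, (∃ v : R, v ^ n = (u : R)) ↔
      ∃ w : R ⧸ I, w ^ n = Ideal.Quotient.mk I (u : R)) := by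
  have hjac : I ≤ Ideal.jacobson (⊥ : Ideal R) := by
    refine le_trans (fun x hx => ?_) (Ideal.radical_le_jacobson (I := (⊥ : Ideal R)))
    exact (mem_nilradical.mpr (hI x hx) : x ∈ nilradical R)
  have hloc : IsLocalHom (Ideal.Quotient.mk I) := isLocalHom_of_le_jacobson_bot I hjac
  have hnunit : IsUnit ((n : ℕ) : R) := by
    apply hloc.map_nonunit
    simpa using hinv
  have hone : ∀ x ∈ I, Ideal.Quotient.mk I (1 + x) = 1 := by
    intro x hx
    rw [map_add, map_one, Ideal.Quotient.eq_zero_iff_mem.mpr hx, add_zero]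
  have part1 : ∀ y ∈ I, ∃! x : R, x ∈ I ∧ (1 + x) ^ n = 1 + y := by
    intro y hy
    -- uniqueness
    have huniq : ∀ x x' : R, x ∈ I → x' ∈ I → (1 + x) ^ n = (1 + x') ^ n → x = x' := by
      intro x x' hx hx' h
      have hg := Commute.geom_sum₂_mul (Commute.all (1 + x) (1 + x')) n
      rw [h, sub_self] at hg
      have hs : IsUnit (∑ i ∈ Finset.range n, (1 + x) ^ i * (1 + x') ^ (n - 1 - i)) := by
        apply hloc.map_nonunit
        rw [map_sum]
        have : ∀ i ∈ Finset.range n, Ideal.Quotient.mk I ((1 + x) ^ i * (1 + x') ^ (n - 1 - i))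
            = 1 := by
          intro i _
          rw [map_mul, map_pow, map_pow, hone x hx, hone x' hx', one_pow, one_pow, one_mul]
        rw [Finset.sum_congr rfl this]
        simpa using hinv
      have h0 : (1 + x) - (1 + x') = 0 := by
        rcases hs with ⟨s, hs⟩
        have : (s : R) * ((1 + x) - (1 + x')) = 0 := by rw [hs]; exact hg
        exact (Units.mul_right_eq_zero s).mp this
      linear_combination h0
    -- existence
    have hex : ∃ x : R, x ∈ I ∧ (1 + x) ^ n = 1 + y := by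
      rcases subsingleton_or_nontrivial R with hsub | hnt
      · exact ⟨0, I.zero_mem, Subsingleton.elim _ _⟩
      obtain ⟨N, hN⟩ := hI y hy
      have hJN : Ideal.span {y} ^ N = ⊥ := by
        rw [Ideal.span_singleton_pow, hN, Ideal.span_singleton_eq_bot]
      have := isAdicComplete_of_pow_eq_bot (Ideal.span {y}) N hJN
      have hJI : Ideal.span {y} ≤ I := (Ideal.span_singleton_le_iff_mem I).mpr hy
      let f : R[X] := (X + C 1) ^ n - C (1 + y)
      have hdeg : ((X + C (1 : R)) ^ n).degree = (n : WithBot ℕ) := by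
        rw [degree_eq_natDegree ((monic_X_add_C (1 : R)).pow n).ne_zero, natDegree_pow_X_add_C]
      have hfm : f.Monic := by
        apply Polynomial.Monic.sub_of_left ((monic_X_add_C (1 : R)).pow n)
        rw [hdeg]
        exact lt_of_le_of_lt degree_C_le (by exact_mod_cast (show 0 < n from hn))
      have hf0 : f.eval 0 ∈ Ideal.span {y} := by
        have : f.eval 0 = -y := by simp [f]
        rw [this]
        exact (Ideal.span {y}).neg_mem (Ideal.subset_span rfl)
      have hf' : IsUnit (Ideal.Quotient.mk (Ideal.span {y}) (f.derivative.eval 0)) := by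
        have : f.derivative.eval 0 = (n : R) := by
          simp [f, derivative_pow]
        rw [this]
        exact hnunit.map _
      obtain ⟨a, ha, haJ⟩ := HenselianRing.is_henselian (I := Ideal.span {y}) f hfm 0 hf0 hf'
      rw [sub_zero] at haJ
      refine ⟨a, hJI haJ, ?_⟩
      have : f.eval a = 0 := ha
      simp only [f, eval_sub, eval_pow, eval_add, eval_X, eval_C] at this
      rw [add_comm]
      exact sub_eq_zero.mp this
    obtain ⟨x, hxI, hx⟩ := hex
    refine ⟨x, ⟨hxI, hx⟩, ?_⟩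
    rintro x' ⟨hx'I, hx'⟩
    exact huniq x' x hx'I hxI (hx'.trans hx.symm)
  refine ⟨part1, fun u => ⟨?_, ?_⟩⟩
  · rintro ⟨v, hv⟩
    exact ⟨Ideal.Quotient.mk I v, by rw [← map_pow, hv]⟩
  · rintro ⟨w, hw⟩
    obtain ⟨v₀, rfl⟩ := Ideal.Quotient.mk_surjective w
    rw [← map_pow, Ideal.Quotient.eq] at hw
    -- v₀ ^ n - u ∈ I
    set i := v₀ ^ n - (u : R) with hi
    -- v₀^n = u + i = u (1 + u⁻¹ i); v₀ ^ n is a unit
    have hv₀n : IsUnit (v₀ ^ n) := by
      apply hloc.map_nonunit
      have : Ideal.Quotient.mk I (v₀ ^ n) = Ideal.Quotient.mk I (u : R) :=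
        Ideal.Quotient.eq.mpr hw
      rw [this]
      exact u.isUnit.map _
    obtain ⟨t, ht⟩ := hv₀n
    -- u = v₀^n * (1 + j') with j' = - t⁻¹ i
    have hj' : -((t⁻¹ : Rˣ) : R) * i ∈ I := I.mul_mem_left _ hw
    obtain ⟨x, ⟨hxI, hx⟩, -⟩ := part1 _ hj'
    refine ⟨v₀ * (1 + x), ?_⟩
    rw [mul_pow, hx, mul_add, mul_one]
    have h1 : v₀ ^ n * (-((t⁻¹ : Rˣ) : R) * i) = -i := by
      rw [← ht]
      have : (t : R) * ((t⁻¹ : Rˣ) : R) = 1 := by simp
      linear_combination (-i) * this
    rw [h1, hi]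
    ring

end Groth.Agent.Helper1.NilRoot
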