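import Mathlib
import Groth.Agent.Lib.Helper8.ThickNode1
import Groth.Agent.Lib.Helper8.Node1
import Groth.Agent.Lib.Helper8.CohenStr1
import Groth.Agent.Lib.Helper8.AdicReg1
import Groth.Agent.Lib.Helper2.AdicUniv
import Groth.Agent.Lib.Helper3.SchlO

/-!
# Formal structure of a node in a family: successive approximation (helper1)

`A → D` a local homomorphism of Noetherian local rings, `D` complete, with the same residue field,
`𝔪_D = (u₀, v₀) + 𝔪_A D` and `u₀ v₀ ∈ 𝔪_A D`.  Then `D` is a quotient of `Â[[x, y]]/(xy - α)`.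
-/

set_option autoImplicit false
universe u

namespace Groth.Agent.Helper1.NodeCpl

open IsLocalRing

section General

theorem telescoping {R : Type*} [CommRing R] (I : Ideal R) (f : ℕ → R)
    (h : ∀ k, f (k + 1) - f k ∈ I ^ (k + 1)) :
    ∀ m n, m ≤ n → f n - f m ∈ I ^ (m + 1) := by
  intro m n hmn
  induction n, hmn using Nat.le_induction with
  | base => rw [sub_self]; exact zero_mem _
  | succ n hmn ih =>
    have e : f (n + 1) - f m = (f (n + 1) - f n) + (f n - f m) := by ring
    rw [e]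
    exact add_mem (Ideal.pow_le_pow_right (by omega) (h n)) ih

theorem exists_limit {R : Type*} [CommRing R] (K : Ideal R) [IsPrecomplete K R] (I : Ideal R)
    (hIK : I ≤ K) (f : ℕ → R) (h : ∀ k, f (k + 1) - f k ∈ I ^ (k + 1)) :
    ∃ L : R, ∀ n, f n - L ∈ K ^ n := by
  obtain ⟨L, hL⟩ := IsPrecomplete.prec' (I := K) (M := R) f (by
    intro m n hmn
    rw [SModEq.sub_mem, smul_eq_mul, Ideal.mul_top]
    have h1 := telescoping I f h m n hmn
    have h2 : f n - f m ∈ K ^ m :=
      Ideal.pow_le_pow_right (Nat.le_succ m) (Ideal.pow_right_mono hIK _ h1)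
    have e : f m - f n = -(f n - f m) := by ring
    rw [e]
    exact neg_mem h2)
  refine ⟨L, fun n => ?_⟩
  have := hL n
  rwa [SModEq.sub_mem, smul_eq_mul, Ideal.mul_top] at this

theorem sub_mem_of_residue_eq {R : Type*} [CommRing R] [IsLocalRing R] {x y : R}
    (h : residue R x = residue R y) : x - y ∈ maximalIdeal R :=
  Ideal.Quotient.eq.mp h

end General

section Approx

variable {A : Type u} [CommRing A] [IsLocalRing A]
  {D : Type u} [CommRing D] [IsLocalRing D] [Algebra A D]

theorem exists_decomp_elem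
    (hres : ∀ d : D, ∃ a : A, d - algebraMap A D a ∈ maximalIdeal D)
    (u₀ v₀ : D)
    (hgen : maximalIdeal D = Ideal.span {u₀, v₀} ⊔ (maximalIdeal A).map (algebraMap A D))
    (u' v' : D) (hu' : u' - u₀ ∈ (maximalIdeal A).map (algebraMap A D))
    (hv' : v' - v₀ ∈ (maximalIdeal A).map (algebraMap A D)) (d : D) :
    ∃ (a : A) (b₁ b₂ : D) (j : D), j ∈ (maximalIdeal A).map (algebraMap A D) ∧
      d = algebraMap A D a + u' * b₁ + v' * b₂ + j := by
  obtain ⟨a, ha⟩ := hres d
  rw [hgen] at ha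
  obtain ⟨y, hy, j, hj, hyj⟩ := Submodule.mem_sup.mp ha
  obtain ⟨b₁, b₂, hb⟩ := Ideal.mem_span_pair.mp hy
  refine ⟨a, b₁, b₂, j - (u' - u₀) * b₁ - (v' - v₀) * b₂, ?_, ?_⟩
  · exact sub_mem (sub_mem hj (Ideal.mul_mem_right _ _ hu')) (Ideal.mul_mem_right _ _ hv')
  · have h1 : d = algebraMap A D a + (y + j) := by rw [hyj]; ring
    rw [h1, ← hb]; ring

/-- decomposition of elements of `(𝔪_A D)^N` -/
def Dec (A : Type u) [CommRing A] [IsLocalRing A] {D : Type u} [CommRing D] [Algebra A D]
    (u' v' : D) (N : ℕ) (x : D) : Prop :=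
  ∃ (δ : A) (p q r : D), δ ∈ maximalIdeal A ^ N ∧
    p ∈ ((maximalIdeal A).map (algebraMap A D)) ^ N ∧
    q ∈ ((maximalIdeal A).map (algebraMap A D)) ^ N ∧
    r ∈ ((maximalIdeal A).map (algebraMap A D)) ^ (N + 1) ∧
    x = algebraMap A D δ + u' * p + v' * q + r

theorem dec_of_mem_pow
    (hres : ∀ d : D, ∃ a : A, d - algebraMap A D a ∈ maximalIdeal D)
    (u₀ v₀ : D)
    (hgen : maximalIdeal D = Ideal.span {u₀, v₀} ⊔ (maximalIdeal A).map (algebraMap A D))
    (u' v' : D) (hu' : u' - u₀ ∈ (maximalIdeal A).map (algebraMap A D))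
    (hv' : v' - v₀ ∈ (maximalIdeal A).map (algebraMap A D)) (N : ℕ) (x : D)
    (hx : x ∈ ((maximalIdeal A).map (algebraMap A D)) ^ N) : Dec A u' v' N x := by
  rw [← Ideal.map_pow] at hx
  have hmapN : ∀ μ ∈ maximalIdeal A ^ N,
      algebraMap A D μ ∈ ((maximalIdeal A).map (algebraMap A D)) ^ N := by
    intro μ hμ
    rw [← Ideal.map_pow]
    exact Ideal.mem_map_of_mem _ hμ
  have key : ∀ y ∈ (maximalIdeal A ^ N).map (algebraMap A D), ∀ d : D, Dec A u' v' N (d * y) := by
    intro y hy
    change y ∈ Submodule.span D _ at hy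
    induction hy using Submodule.span_induction with
    | mem y hy =>
      obtain ⟨μ, hμ, rfl⟩ := hy
      intro d
      obtain ⟨a, b₁, b₂, j, hj, hd⟩ := exists_decomp_elem hres u₀ v₀ hgen u' v' hu' hv' d
      refine ⟨μ * a, algebraMap A D μ * b₁, algebraMap A D μ * b₂, algebraMap A D μ * j,
        Ideal.mul_mem_right _ _ hμ, Ideal.mul_mem_right _ _ (hmapN μ hμ),
        Ideal.mul_mem_right _ _ (hmapN μ hμ), ?_, ?_⟩
      · rw [pow_succ]
        exact Ideal.mul_mem_mul (hmapN μ hμ) hj
      · rw [hd, map_mul]; ring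
    | zero =>
      intro d
      exact ⟨0, 0, 0, 0, zero_mem _, zero_mem _, zero_mem _, zero_mem _, by simp⟩
    | add y z hy hz ihy ihz =>
      intro d
      obtain ⟨δ, p, q, r, h1, h2, h3, h4, h5⟩ := ihy d
      obtain ⟨δ', p', q', r', h1', h2', h3', h4', h5'⟩ := ihz d
      exact ⟨δ + δ', p + p', q + q', r + r', add_mem h1 h1', add_mem h2 h2', add_mem h3 h3',
        add_mem h4 h4', by rw [mul_add, h5, h5', map_add]; ring⟩
    | smul e y hy ih =>
      intro d
      have := ih (d * e)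
      rwa [smul_eq_mul, ← mul_assoc]
  have := key x hx 1
  rwa [one_mul] at this

theorem exists_next
    (hres : ∀ d : D, ∃ a : A, d - algebraMap A D a ∈ maximalIdeal D)
    (u₀ v₀ : D)
    (hgen : maximalIdeal D = Ideal.span {u₀, v₀} ⊔ (maximalIdeal A).map (algebraMap A D))
    (N : ℕ) (hN : 1 ≤ N) (u' v' : D) (α' : A)
    (hu' : u' - u₀ ∈ (maximalIdeal A).map (algebraMap A D))
    (hv' : v' - v₀ ∈ (maximalIdeal A).map (algebraMap A D)) (hα' : α' ∈ maximalIdeal A)
    (h : u' * v' - algebraMap A D α' ∈ ((maximalIdeal A).map (algebraMap A D)) ^ N) :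
    ∃ (u'' v'' : D) (α'' : A), u'' - u₀ ∈ (maximalIdeal A).map (algebraMap A D) ∧
      v'' - v₀ ∈ (maximalIdeal A).map (algebraMap A D) ∧ α'' ∈ maximalIdeal A ∧
      u'' * v'' - algebraMap A D α'' ∈ ((maximalIdeal A).map (algebraMap A D)) ^ (N + 1) ∧
      u'' - u' ∈ ((maximalIdeal A).map (algebraMap A D)) ^ N ∧
      v'' - v' ∈ ((maximalIdeal A).map (algebraMap A D)) ^ N ∧
      α'' - α' ∈ maximalIdeal A ^ N := by
  obtain ⟨δ, p, q, r, hδ, hp, hq, hr, hx⟩ :=
    dec_of_mem_pow hres u₀ v₀ hgen u' v' hu' hv' N _ h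
  have hN0 : N ≠ 0 := by omega
  have hJN : ((maximalIdeal A).map (algebraMap A D)) ^ N ≤ (maximalIdeal A).map (algebraMap A D) :=
    Ideal.pow_le_self hN0
  refine ⟨u' - q, v' - p, α' + δ, ?_, ?_, ?_, ?_, ?_, ?_, ?_⟩
  · have e : u' - q - u₀ = (u' - u₀) - q := by ring
    rw [e]; exact sub_mem hu' (hJN hq)
  · have e : v' - p - v₀ = (v' - v₀) - p := by ring
    rw [e]; exact sub_mem hv' (hJN hp)
  · exact add_mem hα' (Ideal.pow_le_self hN0 hδ)
  · have e : (u' - q) * (v' - p) - algebraMap A D (α' + δ) = r + q * p := by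
      rw [map_add]; linear_combination hx
    rw [e]
    refine add_mem hr ?_
    have h2 : q * p ∈ ((maximalIdeal A).map (algebraMap A D)) ^ (N + N) := by
      rw [pow_add]; exact Ideal.mul_mem_mul hq hp
    exact Ideal.pow_le_pow_right (by omega) h2
  · have e : u' - q - u' = -q := by ring
    rw [e]; exact neg_mem hq
  · have e : v' - p - v' = -p := by ring
    rw [e]; exact neg_mem hp
  · have e : α' + δ - α' = δ := by ring
    rw [e]; exact hδ

/-- the approximation at stage `k` -/
def Good (A : Type u) [CommRing A] [IsLocalRing A] {D : Type u} [CommRing D] [Algebra A D]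
    (u₀ v₀ : D) (k : ℕ) (t : D × D × A) : Prop :=
  t.1 - u₀ ∈ (maximalIdeal A).map (algebraMap A D) ∧
  t.2.1 - v₀ ∈ (maximalIdeal A).map (algebraMap A D) ∧ t.2.2 ∈ maximalIdeal A ∧
    t.1 * t.2.1 - algebraMap A D t.2.2 ∈ ((maximalIdeal A).map (algebraMap A D)) ^ (k + 1)

def Close (A : Type u) [CommRing A] [IsLocalRing A] {D : Type u} [CommRing D] [Algebra A D]
    (k : ℕ) (t t' : D × D × A) : Prop :=
  t'.1 - t.1 ∈ ((maximalIdeal A).map (algebraMap A D)) ^ (k + 1) ∧
  t'.2.1 - t.2.1 ∈ ((maximalIdeal A).map (algebraMap A D)) ^ (k + 1) ∧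
  t'.2.2 - t.2.2 ∈ maximalIdeal A ^ (k + 1)

theorem exists_seq
    (hres : ∀ d : D, ∃ a : A, d - algebraMap A D a ∈ maximalIdeal D)
    (u₀ v₀ : D)
    (hgen : maximalIdeal D = Ideal.span {u₀, v₀} ⊔ (maximalIdeal A).map (algebraMap A D))
    (huv : u₀ * v₀ ∈ (maximalIdeal A).map (algebraMap A D)) :
    ∃ s : ℕ → D × D × A, ∀ k, Good A u₀ v₀ k (s k) ∧ Close A k (s k) (s (k + 1)) := by
  have hstep : ∀ (k : ℕ) (t : {t : D × D × A // Good A u₀ v₀ k t}),
      ∃ t' : {t' : D × D × A // Good A u₀ v₀ (k + 1) t'}, Close A k t.1 t'.1 := by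
    rintro k ⟨⟨u', v', α'⟩, h1, h2, h3, h4⟩
    obtain ⟨u'', v'', α'', g1, g2, g3, g4, g5, g6, g7⟩ :=
      exists_next hres u₀ v₀ hgen (k + 1) (by omega) u' v' α' h1 h2 h3 h4
    exact ⟨⟨(u'', v'', α''), g1, g2, g3, g4⟩, g5, g6, g7⟩
  choose next hnext using hstep
  have h0 : Good A u₀ v₀ 0 (u₀, v₀, 0) := by
    refine ⟨by simp, by simp, zero_mem _, ?_⟩
    simpa using huv
  let s : (k : ℕ) → {t : D × D × A // Good A u₀ v₀ k t} := fun k =>
    @Nat.rec (fun k => {t : D × D × A // Good A u₀ v₀ k t}) ⟨_, h0⟩ (fun k t => next k t) k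
  exact ⟨fun k => (s k).1, fun k => ⟨(s k).2, hnext k (s k)⟩⟩

end Approx

section Main

theorem mem_maximalIdeal_ps_iff {R : Type*} [CommRing R] [IsLocalRing R]
    (x : MvPowerSeries (Fin 2) R) :
    x ∈ maximalIdeal (MvPowerSeries (Fin 2) R) ↔
      MvPowerSeries.constantCoeff x ∈ maximalIdeal R := by
  rw [mem_maximalIdeal, mem_nonunits_iff, MvPowerSeries.isUnit_iff_constantCoeff,
    ← mem_nonunits_iff, ← mem_maximalIdeal]

theorem main_abstract
    (A : Type u) [CommRing A] [IsLocalRing A] [IsNoetherianRing A]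
    (D : Type u) [CommRing D] [IsLocalRing D] [IsNoetherianRing D] [Algebra A D]
    [IsLocalHom (algebraMap A D)] [IsAdicComplete (maximalIdeal D) D]
    (hres : ∀ d : D, ∃ a : A, d - algebraMap A D a ∈ maximalIdeal D)
    (u₀ v₀ : D)
    (huv : u₀ * v₀ ∈ (maximalIdeal A).map (algebraMap A D))
    (hgen : maximalIdeal D = Ideal.span {u₀, v₀} ⊔ (maximalIdeal A).map (algebraMap A D)) :
    ∃ (α : AdicCompletion (maximalIdeal A) A)
      (_ : α ∈ (maximalIdeal A).map (algebraMap A (AdicCompletion (maximalIdeal A) A)))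
      (ψ : (MvPowerSeries (Fin 2) (AdicCompletion (maximalIdeal A) A) ⧸ Ideal.span
          {(MvPowerSeries.X 0 * MvPowerSeries.X 1 - MvPowerSeries.C α :
              MvPowerSeries (Fin 2) (AdicCompletion (maximalIdeal A) A))}) →ₐ[A] D),
      Function.Surjective ψ ∧
        ψ (Ideal.Quotient.mk _ (MvPowerSeries.X 0)) - u₀ ∈
          (maximalIdeal A).map (algebraMap A D) ∧
        ψ (Ideal.Quotient.mk _ (MvPowerSeries.X 1)) - v₀ ∈
          (maximalIdeal A).map (algebraMap A D) := by
  classical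
  have hJn : (maximalIdeal A).map (algebraMap A D) ≤ maximalIdeal D :=
    ((IsLocalRing.local_hom_TFAE (algebraMap A D)).out 0 2).mp ‹IsLocalHom (algebraMap A D)›
  obtain ⟨s, hs⟩ := exists_seq hres u₀ v₀ hgen huv
  have hg : (maximalIdeal A).map (Algebra.ofId A D) ≤ maximalIdeal D := by
    rw [Ideal.map_le_iff_le_comap]
    intro a ha
    rw [Ideal.mem_comap]
    exact hJn (Ideal.mem_map_of_mem _ ha)
  obtain ⟨χ, hχ⟩ := Groth.Agent.Helper2.AdicUniv.exists_lift (R := A) (maximalIdeal A)
    (maximalIdeal D) (Algebra.ofId A D) hg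
  have hχ' : ∀ a : A, χ (algebraMap A (AdicCompletion (maximalIdeal A) A) a) =
      algebraMap A D a := fun a => hχ a
  letI algAhD : Algebra (AdicCompletion (maximalIdeal A) A) D := χ.toRingHom.toAlgebra
  haveI : IsScalarTower A (AdicCompletion (maximalIdeal A) A) D :=
    IsScalarTower.of_algebraMap_eq (fun a => (hχ' a).symm)
  have hmh : maximalIdeal (AdicCompletion (maximalIdeal A) A) =
      (maximalIdeal A).map (algebraMap A (AdicCompletion (maximalIdeal A) A)) :=
    AdicCompletion.maximalIdeal_eq_map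
  have hχm : (maximalIdeal (AdicCompletion (maximalIdeal A) A)).map
      (χ : AdicCompletion (maximalIdeal A) A →+* D) ≤ (maximalIdeal A).map (algebraMap A D) := by
    rw [hmh, Ideal.map_map, Ideal.map_le_iff_le_comap]
    intro a ha
    rw [Ideal.mem_comap, RingHom.comp_apply]
    show χ (algebraMap A (AdicCompletion (maximalIdeal A) A) a) ∈ _
    rw [hχ' a]
    exact Ideal.mem_map_of_mem _ ha
  have hχpow : ∀ (n : ℕ) (x : AdicCompletion (maximalIdeal A) A),
      x ∈ maximalIdeal (AdicCompletion (maximalIdeal A) A) ^ n → χ x ∈ maximalIdeal D ^ n := by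
    intro n x hx
    have h1 : (χ : AdicCompletion (maximalIdeal A) A →+* D) x ∈
        ((maximalIdeal (AdicCompletion (maximalIdeal A) A)) ^ n).map
          (χ : AdicCompletion (maximalIdeal A) A →+* D) := Ideal.mem_map_of_mem _ hx
    rw [Ideal.map_pow] at h1
    exact Ideal.pow_right_mono (hχm.trans hJn) n h1
  obtain ⟨U, hU⟩ := exists_limit (maximalIdeal D) ((maximalIdeal A).map (algebraMap A D)) hJn
    (fun k => (s k).1) (fun k => (hs k).2.1)
  obtain ⟨V, hV⟩ := exists_limit (maximalIdeal D) ((maximalIdeal A).map (algebraMap A D)) hJn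
    (fun k => (s k).2.1) (fun k => (hs k).2.2.1)
  obtain ⟨α, hα⟩ := exists_limit (maximalIdeal (AdicCompletion (maximalIdeal A) A))
    ((maximalIdeal A).map (algebraMap A (AdicCompletion (maximalIdeal A) A))) (le_of_eq hmh.symm)
    (fun k => algebraMap A (AdicCompletion (maximalIdeal A) A) (s k).2.2) (fun k => by
      show algebraMap A (AdicCompletion (maximalIdeal A) A) (s (k + 1)).2.2 -
        algebraMap A (AdicCompletion (maximalIdeal A) A) (s k).2.2 ∈ _
      rw [← map_sub, ← Ideal.map_pow]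
      exact Ideal.mem_map_of_mem _ (hs k).2.2.2)
  have hα0 : α ∈ (maximalIdeal A).map (algebraMap A (AdicCompletion (maximalIdeal A) A)) := by
    have h1 : algebraMap A (AdicCompletion (maximalIdeal A) A) (s 1).2.2 - α ∈
        maximalIdeal (AdicCompletion (maximalIdeal A) A) ^ 1 := hα 1
    rw [pow_one, hmh] at h1
    have h2 : algebraMap A (AdicCompletion (maximalIdeal A) A) (s 1).2.2 ∈
        (maximalIdeal A).map (algebraMap A (AdicCompletion (maximalIdeal A) A)) :=
      Ideal.mem_map_of_mem _ (hs 1).1.2.2.1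
    have e : α = algebraMap A (AdicCompletion (maximalIdeal A) A) (s 1).2.2 -
        (algebraMap A (AdicCompletion (maximalIdeal A) A) (s 1).2.2 - α) := by ring
    rw [e]; exact sub_mem h2 h1
  have hUJ : U - u₀ ∈ (maximalIdeal A).map (algebraMap A D) := by
    apply Groth.Agent.Helper8.Node.mem_of_forall_mem_sup_pow
    intro N
    have h1 : (s N).1 - u₀ ∈ (maximalIdeal A).map (algebraMap A D) := (hs N).1.1
    have h2 : (s N).1 - U ∈ maximalIdeal D ^ N := hU N
    have e : U - u₀ = ((s N).1 - u₀) - ((s N).1 - U) := by ring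
    rw [e]
    exact sub_mem (Ideal.mem_sup_left h1) (Ideal.mem_sup_right h2)
  have hVJ : V - v₀ ∈ (maximalIdeal A).map (algebraMap A D) := by
    apply Groth.Agent.Helper8.Node.mem_of_forall_mem_sup_pow
    intro N
    have h1 : (s N).2.1 - v₀ ∈ (maximalIdeal A).map (algebraMap A D) := (hs N).1.2.1
    have h2 : (s N).2.1 - V ∈ maximalIdeal D ^ N := hV N
    have e : V - v₀ = ((s N).2.1 - v₀) - ((s N).2.1 - V) := by ring
    rw [e]
    exact sub_mem (Ideal.mem_sup_left h1) (Ideal.mem_sup_right h2)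
  have hu₀n : u₀ ∈ maximalIdeal D := by
    rw [hgen]; exact Ideal.mem_sup_left (Ideal.subset_span (by simp))
  have hv₀n : v₀ ∈ maximalIdeal D := by
    rw [hgen]; exact Ideal.mem_sup_left (Ideal.subset_span (by simp))
  have hUn : U ∈ maximalIdeal D := by
    have e : U = (U - u₀) + u₀ := by ring
    rw [e]; exact add_mem (hJn hUJ) hu₀n
  have hVn : V ∈ maximalIdeal D := by
    have e : V = (V - v₀) + v₀ := by ring
    rw [e]; exact add_mem (hJn hVJ) hv₀n
  have hUV : U * V = χ α := by
    rw [← sub_eq_zero]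
    apply Groth.Agent.Helper2.AdicUniv.eq_zero_of_forall_mem_pow (maximalIdeal D)
    intro n
    have h1 : (s n).1 - U ∈ maximalIdeal D ^ n := hU n
    have h2 : (s n).2.1 - V ∈ maximalIdeal D ^ n := hV n
    have h3 : χ (algebraMap A (AdicCompletion (maximalIdeal A) A) (s n).2.2 - α) ∈
        maximalIdeal D ^ n := hχpow n _ (hα n)
    have h4 : (s n).1 * (s n).2.1 - algebraMap A D (s n).2.2 ∈ maximalIdeal D ^ n :=
      Ideal.pow_le_pow_right (Nat.le_succ n) (Ideal.pow_right_mono hJn _ (hs n).1.2.2.2)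
    have e : U * V - χ α = ((s n).1 * (s n).2.1 - algebraMap A D (s n).2.2) -
        ((s n).1 - U) * (s n).2.1 - (s n).1 * ((s n).2.1 - V) +
        ((s n).1 - U) * ((s n).2.1 - V) +
        χ (algebraMap A (AdicCompletion (maximalIdeal A) A) (s n).2.2 - α) := by
      rw [map_sub, hχ']; ring
    rw [e]
    exact add_mem (add_mem (sub_mem (sub_mem h4 (Ideal.mul_mem_right _ _ h1))
      (Ideal.mul_mem_left _ _ h2)) (Ideal.mul_mem_left _ _ h2)) h3
  obtain ⟨Ψ, hΨ⟩ := Groth.Agent.Helper8.CohenStr.exists_algHom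
    (AdicCompletion (maximalIdeal A) A) D 2 ![U, V] (by
    intro i
    fin_cases i
    · exact hUn
    · exact hVn)
  have hΨ0 : Ψ (MvPowerSeries.X 0) = U := hΨ 0
  have hΨ1 : Ψ (MvPowerSeries.X 1) = V := hΨ 1
  have hΨC : ∀ a : AdicCompletion (maximalIdeal A) A, Ψ (MvPowerSeries.C a) = χ a := by
    intro a
    rw [MvPowerSeries.c_eq_algebraMap, Ψ.commutes]
    rfl
  have hker : Ideal.span {(MvPowerSeries.X 0 * MvPowerSeries.X 1 - MvPowerSeries.C α :
      MvPowerSeries (Fin 2) (AdicCompletion (maximalIdeal A) A))} ≤ RingHom.ker Ψ.toRingHom := by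
    rw [Ideal.span_singleton_le_iff_mem, RingHom.mem_ker]
    show Ψ (MvPowerSeries.X 0 * MvPowerSeries.X 1 - MvPowerSeries.C α) = 0
    rw [map_sub, map_mul, hΨ0, hΨ1, hΨC, hUV, sub_self]
  let ψ₀ : (MvPowerSeries (Fin 2) (AdicCompletion (maximalIdeal A) A) ⧸ Ideal.span
      {(MvPowerSeries.X 0 * MvPowerSeries.X 1 - MvPowerSeries.C α :
        MvPowerSeries (Fin 2) (AdicCompletion (maximalIdeal A) A))})
        →ₐ[AdicCompletion (maximalIdeal A) A] D :=
    Ideal.Quotient.liftₐ _ Ψ (fun a ha => RingHom.mem_ker.mp (hker ha))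
  have hψ₀ : ∀ x, ψ₀ (Ideal.Quotient.mk _ x) = Ψ x := fun x => rfl
  -- surjectivity of Ψ
  have hJle : (maximalIdeal A).map (algebraMap A D) ≤
      (maximalIdeal (MvPowerSeries (Fin 2) (AdicCompletion (maximalIdeal A) A))).map
        Ψ.toRingHom := by
    rw [Ideal.map_le_iff_le_comap]
    intro a ha
    rw [Ideal.mem_comap]
    have e : algebraMap A D a = Ψ.toRingHom
        (MvPowerSeries.C (algebraMap A (AdicCompletion (maximalIdeal A) A) a)) := by
      show _ = Ψ (MvPowerSeries.C (algebraMap A (AdicCompletion (maximalIdeal A) A) a))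
      rw [hΨC, hχ']
    rw [e]
    apply Ideal.mem_map_of_mem
    rw [mem_maximalIdeal_ps_iff, MvPowerSeries.constantCoeff_C, hmh]
    exact Ideal.mem_map_of_mem _ ha
  have hX : ∀ i : Fin 2, Ψ (MvPowerSeries.X i) ∈
      (maximalIdeal (MvPowerSeries (Fin 2) (AdicCompletion (maximalIdeal A) A))).map
        Ψ.toRingHom := by
    intro i
    have h1 : (MvPowerSeries.X i : MvPowerSeries (Fin 2) (AdicCompletion (maximalIdeal A) A)) ∈
        maximalIdeal (MvPowerSeries (Fin 2) (AdicCompletion (maximalIdeal A) A)) := by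
      rw [mem_maximalIdeal_ps_iff, MvPowerSeries.constantCoeff_X]
      exact zero_mem _
    exact Ideal.mem_map_of_mem Ψ.toRingHom h1
  have hmap : (maximalIdeal (MvPowerSeries (Fin 2) (AdicCompletion (maximalIdeal A) A))).map
      Ψ.toRingHom = maximalIdeal D := by
    apply le_antisymm
    · rw [Ideal.map_le_iff_le_comap]
      intro x hx
      rw [Ideal.mem_comap]
      obtain ⟨E, G, hEG⟩ := Groth.Agent.Helper8.ThickNode.exists_decomp x
      have hc : MvPowerSeries.constantCoeff x ∈
          maximalIdeal (AdicCompletion (maximalIdeal A) A) := (mem_maximalIdeal_ps_iff x).mp hx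
      show Ψ x ∈ maximalIdeal D
      rw [hEG, map_add, map_add, map_mul, map_mul, hΨ0, hΨ1, hΨC]
      exact add_mem (add_mem ((hχm.trans hJn) (Ideal.mem_map_of_mem _ hc))
        (Ideal.mul_mem_right _ _ hUn)) (Ideal.mul_mem_right _ _ hVn)
    · rw [hgen, sup_le_iff, Ideal.span_le, Set.insert_subset_iff, Set.singleton_subset_iff]
      refine ⟨⟨?_, ?_⟩, hJle⟩
      · have e : u₀ = Ψ (MvPowerSeries.X 0) - (U - u₀) := by rw [hΨ0]; ring
        rw [e]
        exact sub_mem (hX 0) (hJle hUJ)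
      · have e : v₀ = Ψ (MvPowerSeries.X 1) - (V - v₀) := by rw [hΨ1]; ring
        rw [e]
        exact sub_mem (hX 1) (hJle hVJ)
  have hΨsurj : Function.Surjective Ψ.toRingHom := by
    haveI hPc : IsPrecomplete
        (maximalIdeal (MvPowerSeries (Fin 2) (AdicCompletion (maximalIdeal A) A)))
        (MvPowerSeries (Fin 2) (AdicCompletion (maximalIdeal A) A)) :=
      Groth.Agent.Helper3.ArtFunLib.isPrecomplete_ps_local
    haveI : IsHausdorff ((maximalIdeal (MvPowerSeries (Fin 2)
        (AdicCompletion (maximalIdeal A) A))).map Ψ.toRingHom) D := by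
      rw [hmap]; infer_instance
    apply surjective_of_mk_map_comp_surjective Ψ.toRingHom
      (I := maximalIdeal (MvPowerSeries (Fin 2) (AdicCompletion (maximalIdeal A) A)))
    intro y
    obtain ⟨d, rfl⟩ := Ideal.Quotient.mk_surjective y
    obtain ⟨a, ha⟩ := hres d
    refine ⟨MvPowerSeries.C (algebraMap A (AdicCompletion (maximalIdeal A) A) a), ?_⟩
    rw [RingHom.comp_apply, Ideal.Quotient.eq, hmap]
    show Ψ (MvPowerSeries.C (algebraMap A (AdicCompletion (maximalIdeal A) A) a)) - d ∈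
      maximalIdeal D
    rw [hΨC, hχ']
    have e : algebraMap A D a - d = -(d - algebraMap A D a) := by ring
    rw [e]; exact neg_mem ha
  refine ⟨α, hα0, ψ₀.restrictScalars A, ?_, ?_, ?_⟩
  · intro d
    obtain ⟨x, hx⟩ := hΨsurj d
    exact ⟨Ideal.Quotient.mk _ x, hx⟩
  · show ψ₀ (Ideal.Quotient.mk _ (MvPowerSeries.X 0)) - u₀ ∈ _
    rw [hψ₀, hΨ0]; exact hUJ
  · show ψ₀ (Ideal.Quotient.mk _ (MvPowerSeries.X 1)) - v₀ ∈ _
    rw [hψ₀, hΨ1]; exact hVJ

end Main

section Concrete

theorem S7924_main (A B : Type u) [CommRing A] [IsLocalRing A] [IsNoetherianRing A]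
    [CommRing B] [IsLocalRing B] [IsNoetherianRing B] [Algebra A B] [IsLocalHom (algebraMap A B)]
    (hres : Function.Bijective (IsLocalRing.ResidueField.map (algebraMap A B)))
    (u v : B)
    (huv : u * v ∈ (IsLocalRing.maximalIdeal A).map (algebraMap A B))
    (hgen : IsLocalRing.maximalIdeal B = Ideal.span {u, v} ⊔ (IsLocalRing.maximalIdeal A).map (algebraMap A B)) :
    ∃ (α : AdicCompletion (IsLocalRing.maximalIdeal A) A)
      (_ : α ∈ (IsLocalRing.maximalIdeal A).map (algebraMap A (AdicCompletion (IsLocalRing.maximalIdeal A) A)))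
      (ψ : (MvPowerSeries (Fin 2) (AdicCompletion (IsLocalRing.maximalIdeal A) A) ⧸ Ideal.span
          {(MvPowerSeries.X 0 * MvPowerSeries.X 1 -
            MvPowerSeries.C α :
              MvPowerSeries (Fin 2) (AdicCompletion (IsLocalRing.maximalIdeal A) A))}) →ₐ[A]
        AdicCompletion (IsLocalRing.maximalIdeal B) B),
      Function.Surjective ψ ∧
        ψ (Ideal.Quotient.mk _ (MvPowerSeries.X 0)) -
            algebraMap B (AdicCompletion (IsLocalRing.maximalIdeal B) B) u ∈
          (IsLocalRing.maximalIdeal A).map (algebraMap A (AdicCompletion (IsLocalRing.maximalIdeal B) B)) ∧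
        ψ (Ideal.Quotient.mk _ (MvPowerSeries.X 1)) -
            algebraMap B (AdicCompletion (IsLocalRing.maximalIdeal B) B) v ∈
          (IsLocalRing.maximalIdeal A).map (algebraMap A (AdicCompletion (IsLocalRing.maximalIdeal B) B)) := by
  haveI : IsNoetherianRing (AdicCompletion (maximalIdeal B) B) :=
    Groth.Agent.Helper8.AdicReg.isNoetherianRing B _
  have htower : algebraMap A (AdicCompletion (maximalIdeal B) B) =
      (algebraMap B (AdicCompletion (maximalIdeal B) B)).comp (algebraMap A B) :=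
    RingHom.ext (fun a => rfl)
  haveI : IsLocalHom (algebraMap A (AdicCompletion (maximalIdeal B) B)) := by
    rw [htower]; exact RingHom.isLocalHom_comp _ _
  have hmapJ : ((maximalIdeal A).map (algebraMap A B)).map
      (algebraMap B (AdicCompletion (maximalIdeal B) B)) =
      (maximalIdeal A).map (algebraMap A (AdicCompletion (maximalIdeal B) B)) := by
    rw [Ideal.map_map, ← htower]
  refine main_abstract A (AdicCompletion (maximalIdeal B) B) ?_
    (algebraMap B (AdicCompletion (maximalIdeal B) B) u)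
    (algebraMap B (AdicCompletion (maximalIdeal B) B) v) ?_ ?_
  · intro d
    obtain ⟨b', hb'⟩ := (AdicCompletion.residueField_map_bijective B).2 (residue _ d)
    obtain ⟨b, rfl⟩ := residue_surjective b'
    rw [IsLocalRing.ResidueField.map_residue] at hb'
    obtain ⟨a', ha'⟩ := hres.2 (residue B b)
    obtain ⟨a, rfl⟩ := residue_surjective a'
    rw [IsLocalRing.ResidueField.map_residue] at ha'
    refine ⟨a, ?_⟩
    have h1 : d - algebraMap B (AdicCompletion (maximalIdeal B) B) b ∈
        maximalIdeal (AdicCompletion (maximalIdeal B) B) := sub_mem_of_residue_eq hb'.symm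
    have h2 : b - algebraMap A B a ∈ maximalIdeal B := sub_mem_of_residue_eq ha'.symm
    have h3 : algebraMap B (AdicCompletion (maximalIdeal B) B) (b - algebraMap A B a) ∈
        maximalIdeal (AdicCompletion (maximalIdeal B) B) := by
      rw [AdicCompletion.maximalIdeal_eq_map]; exact Ideal.mem_map_of_mem _ h2
    have e : d - algebraMap A (AdicCompletion (maximalIdeal B) B) a =
        (d - algebraMap B (AdicCompletion (maximalIdeal B) B) b) +
          algebraMap B (AdicCompletion (maximalIdeal B) B) (b - algebraMap A B a) := by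
      rw [htower, RingHom.comp_apply, map_sub]; ring
    rw [e]; exact add_mem h1 h3
  · rw [← map_mul, ← hmapJ]; exact Ideal.mem_map_of_mem _ huv
  · rw [AdicCompletion.maximalIdeal_eq_map]
    have h := congrArg (Ideal.map (algebraMap B (AdicCompletion (maximalIdeal B) B))) hgen
    rw [Ideal.map_sup, Ideal.map_span, Set.image_pair, hmapJ] at h
    exact h

end Concrete

end Groth.Agent.Helper1.NodeCpl
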