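import Mathlib
import Groth.Agent.Lib.Helper1.NodeCpl1
import Groth.Agent.Lib.Helper4.FibreIso1

/-!
# Formal structure of a node in a flat family: injectivity (helper1)
-/

set_option autoImplicit false
universe u

namespace Groth.Agent.Helper1.NodeCpl

open IsLocalRing

section Endo

/-- a surjective endomorphism of a Noetherian ring is injective -/
theorem injective_of_surjective_endo {R : Type*} [CommRing R] [IsNoetherianRing R] (f : R →+* R)
    (hf : Function.Surjective f) : Function.Injective f := by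
  let K : ℕ →o Ideal R :=
    { toFun := fun n => RingHom.ker (f ^ n)
      monotone' := by
        apply monotone_nat_of_le_succ
        intro n x hx
        rw [RingHom.mem_ker] at hx ⊢
        rw [pow_succ', RingHom.mul_def, RingHom.comp_apply, hx, map_zero] }
  obtain ⟨n, hn⟩ := monotone_stabilizes_iff_noetherian.mpr (inferInstance : IsNoetherian R R) K
  have hsurj : Function.Surjective (f ^ n) := by
    rw [RingHom.coe_pow]; exact hf.iterate n
  rw [injective_iff_map_eq_zero]
  intro x hx
  obtain ⟨y, rfl⟩ := hsurj x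
  have h1 : y ∈ K (n + 1) := by
    show y ∈ RingHom.ker (f ^ (n + 1))
    rw [RingHom.mem_ker, pow_succ', RingHom.mul_def, RingHom.comp_apply, hx]
  rw [← hn (n + 1) (Nat.le_succ n)] at h1
  exact RingHom.mem_ker.mp h1

end Endo

section PS

variable {R : Type*} [CommRing R]

/-- a power series with all coefficients in a finitely generated ideal `I` lies in `I R[[X,Y]]` -/
theorem mem_map_C_of_coeff_mem (I : Ideal R) (hI : I.FG) (f : MvPowerSeries (Fin 2) R)
    (hf : ∀ n, MvPowerSeries.coeff n f ∈ I) :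
    f ∈ I.map (MvPowerSeries.C : R →+* MvPowerSeries (Fin 2) R) := by
  classical
  obtain ⟨S, hS⟩ := hI
  have h1 : ∀ n, ∃ g : R → R, Function.support g ⊆ ↑S ∧ ∑ a ∈ S, g a • a = MvPowerSeries.coeff n f := by
    intro n
    apply Submodule.mem_span_finset.mp
    have := hf n
    rw [← hS] at this
    exact this
  choose g _ hg using h1
  let F : R → MvPowerSeries (Fin 2) R := fun a n => g n a
  have hF : ∀ a n, MvPowerSeries.coeff n (F a) = g n a := fun a n => rfl
  have e : f = ∑ a ∈ S, (MvPowerSeries.C a : MvPowerSeries (Fin 2) R) * F a := by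
    ext n
    rw [map_sum, ← hg n]
    apply Finset.sum_congr rfl
    intro a _
    rw [MvPowerSeries.coeff_C_mul, smul_eq_mul, mul_comm, hF]
  rw [e]
  apply Ideal.sum_mem
  intro a ha
  apply Ideal.mul_mem_right
  apply Ideal.mem_map_of_mem
  rw [← hS]
  exact Ideal.subset_span ha

theorem map_surjective_of_surjective {k : Type*} [CommRing k] (ρ₀ : R →+* k)
    (h : Function.Surjective ρ₀) :
    Function.Surjective (MvPowerSeries.map (σ := Fin 2) ρ₀) := by
  intro g
  choose c hc using h
  let G : MvPowerSeries (Fin 2) R := fun n => c (MvPowerSeries.coeff n g)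
  have hG : ∀ n, MvPowerSeries.coeff n G = c (MvPowerSeries.coeff n g) := fun n => rfl
  refine ⟨G, ?_⟩
  ext n
  rw [MvPowerSeries.coeff_map, hG]
  exact hc _

/-- if the reduction of `f` is a multiple of `XY` then `f ∈ I R[[X,Y]] + (XY)` -/
theorem mem_sup_of_map_mem {k : Type*} [CommRing k] (ρ₀ : R →+* k)
    (h : Function.Surjective ρ₀) (hfg : (RingHom.ker ρ₀).FG) (f : MvPowerSeries (Fin 2) R)
    (hf : MvPowerSeries.map ρ₀ f ∈
      Ideal.span {(MvPowerSeries.X 0 * MvPowerSeries.X 1 : MvPowerSeries (Fin 2) k)}) :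
    f ∈ (RingHom.ker ρ₀).map (MvPowerSeries.C : R →+* MvPowerSeries (Fin 2) R) ⊔
      Ideal.span {(MvPowerSeries.X 0 * MvPowerSeries.X 1 : MvPowerSeries (Fin 2) R)} := by
  obtain ⟨g', hg'⟩ := Ideal.mem_span_singleton'.mp hf
  obtain ⟨g, rfl⟩ := map_surjective_of_surjective ρ₀ h g'
  have h1 : f - g * (MvPowerSeries.X 0 * MvPowerSeries.X 1) ∈
      (RingHom.ker ρ₀).map (MvPowerSeries.C : R →+* MvPowerSeries (Fin 2) R) := by
    apply mem_map_C_of_coeff_mem _ hfg
    intro n
    rw [RingHom.mem_ker, ← MvPowerSeries.coeff_map, map_sub, map_mul, map_mul,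
      MvPowerSeries.map_X, MvPowerSeries.map_X, hg', sub_self, map_zero]
  have e : f = (f - g * (MvPowerSeries.X 0 * MvPowerSeries.X 1)) +
      g * (MvPowerSeries.X 0 * MvPowerSeries.X 1) := by ring
  rw [e]
  exact add_mem (Ideal.mem_sup_left h1)
    (Ideal.mem_sup_right (Ideal.mul_mem_left _ _ (Ideal.subset_span rfl)))

end PS

section Inj

/-- the completion of `A` -/
abbrev Ah (A : Type u) [CommRing A] [IsLocalRing A] : Type u :=
  AdicCompletion (maximalIdeal A) A

/-- the power series ring -/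
abbrev PA (A : Type u) [CommRing A] [IsLocalRing A] : Type u := MvPowerSeries (Fin 2) (Ah A)

/-- the relation `xy - α` -/
noncomputable abbrev gen (A : Type u) [CommRing A] [IsLocalRing A] (α : Ah A) : PA A :=
  MvPowerSeries.X 0 * MvPowerSeries.X 1 - MvPowerSeries.C α

/-- the formal node over `Â` -/
abbrev QA (A : Type u) [CommRing A] [IsLocalRing A] (α : Ah A) : Type u :=
  PA A ⧸ Ideal.span {gen A α}

/-- the formal node over a field -/
abbrev R0 (k : Type u) [CommRing k] : Type u :=
  MvPowerSeries (Fin 2) k ⧸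
    Ideal.span {(MvPowerSeries.X 0 * MvPowerSeries.X 1 : MvPowerSeries (Fin 2) k)}

theorem injective_of_flat_of_fibre
    (A : Type u) [CommRing A] [IsLocalRing A] [IsNoetherianRing A]
    (D : Type u) [CommRing D] [IsLocalRing D] [Algebra A D]
    [IsLocalHom (algebraMap A D)] [Module.Flat A D]
    (α : Ah A) (hα : α ∈ (maximalIdeal A).map (algebraMap A (Ah A)))
    (ψ : QA A α →ₐ[A] D) (hψ : Function.Surjective ψ)
    (ε : D →+* R0 (ResidueField A)) (hε : Function.Surjective ε)
    (hεm : ∀ μ ∈ maximalIdeal A, ε (algebraMap A D μ) = 0) :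
    Function.Injective ψ := by
  classical
  haveI : IsNoetherianRing (Ah A) := Groth.Agent.Helper8.AdicReg.isNoetherianRing A _
  have hfg : (maximalIdeal A).FG := IsNoetherian.noetherian _
  let ρ₀ : Ah A →+* ResidueField A := (AdicCompletion.evalOneₐ (maximalIdeal A)).toRingHom
  have hρ₀s : Function.Surjective ρ₀ := AdicCompletion.evalOneₐ_surjective _
  have hρ₀k : RingHom.ker ρ₀ = (maximalIdeal A).map (algebraMap A (Ah A)) :=
    AdicCompletion.ker_evalOneₐ_eq_map _ hfg
  have hkfg : (RingHom.ker ρ₀).FG := by rw [hρ₀k]; exact hfg.map _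
  let ρ : PA A →+* MvPowerSeries (Fin 2) (ResidueField A) := MvPowerSeries.map ρ₀
  let θ₁ : PA A →+* R0 (ResidueField A) := (Ideal.Quotient.mk _).comp ρ
  have hθ₁s : Function.Surjective θ₁ :=
    Ideal.Quotient.mk_surjective.comp (map_surjective_of_surjective ρ₀ hρ₀s)
  let θ₂ : PA A →+* R0 (ResidueField A) :=
    ε.comp ((ψ : QA A α →+* D).comp (Ideal.Quotient.mk _))
  have hθ₂ : ∀ f, θ₂ f = ε (ψ (Ideal.Quotient.mk _ f)) := fun f => rfl
  have hθ₂s : Function.Surjective θ₂ := by
    intro y
    obtain ⟨d, rfl⟩ := hε y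
    obtain ⟨q, rfl⟩ := hψ d
    obtain ⟨f, rfl⟩ := Ideal.Quotient.mk_surjective q
    exact ⟨f, rfl⟩
  have hCcomp : (MvPowerSeries.C : Ah A →+* PA A).comp (algebraMap A (Ah A)) =
      algebraMap A (PA A) :=
    RingHom.ext fun a => (MvPowerSeries.algebraMap_apply (r := a)).symm
  have hQcomp : (Ideal.Quotient.mk (Ideal.span {gen A α})).comp (algebraMap A (PA A)) =
      algebraMap A (QA A α) := rfl
  have hmapC : ((maximalIdeal A).map (algebraMap A (Ah A))).map
      (MvPowerSeries.C : Ah A →+* PA A) = (maximalIdeal A).map (algebraMap A (PA A)) := by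
    rw [Ideal.map_map, hCcomp]
  have hmapQ : ((maximalIdeal A).map (algebraMap A (PA A))).map
      (Ideal.Quotient.mk (Ideal.span {gen A α})) = (maximalIdeal A).map (algebraMap A (QA A α)) := by
    rw [Ideal.map_map, hQcomp]
  have hmker : (maximalIdeal A).map (algebraMap A (PA A)) ≤ RingHom.ker θ₂ := by
    rw [Ideal.map_le_iff_le_comap]
    intro μ hμ
    rw [Ideal.mem_comap, RingHom.mem_ker, hθ₂]
    have e : (Ideal.Quotient.mk (Ideal.span {gen A α})) (algebraMap A (PA A) μ) =
        algebraMap A (QA A α) μ := rfl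
    rw [e, ψ.commutes]
    exact hεm μ hμ
  have hCα : (MvPowerSeries.C α : PA A) ∈ (maximalIdeal A).map (algebraMap A (PA A)) := by
    rw [← hmapC]; exact Ideal.mem_map_of_mem _ hα
  have hXYker : (MvPowerSeries.X 0 * MvPowerSeries.X 1 : PA A) ∈ RingHom.ker θ₂ := by
    have e : (MvPowerSeries.X 0 * MvPowerSeries.X 1 : PA A) = gen A α + MvPowerSeries.C α := by
      simp only [gen]; ring
    rw [e]
    refine add_mem ?_ (hmker hCα)
    have hz : (Ideal.Quotient.mk (Ideal.span {gen A α})) (gen A α) = 0 :=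
      Ideal.Quotient.eq_zero_iff_mem.mpr (Ideal.subset_span (Set.mem_singleton _))
    rw [RingHom.mem_ker, hθ₂, hz, map_zero, map_zero]
  have hker12 : RingHom.ker θ₁ ≤ RingHom.ker θ₂ := by
    intro f hf
    rw [RingHom.mem_ker] at hf
    have h1 : ρ f ∈ Ideal.span {(MvPowerSeries.X 0 * MvPowerSeries.X 1 :
        MvPowerSeries (Fin 2) (ResidueField A))} := Ideal.Quotient.eq_zero_iff_mem.mp hf
    have h2 := mem_sup_of_map_mem ρ₀ hρ₀s hkfg f h1
    rw [hρ₀k, hmapC] at h2
    exact (sup_le hmker ((Ideal.span_singleton_le_iff_mem _).mpr hXYker)) h2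
  let σ : R0 (ResidueField A) →+* R0 (ResidueField A) :=
    θ₁.liftOfSurjective hθ₁s ⟨θ₂, hker12⟩
  have hσ : ∀ f, σ (θ₁ f) = θ₂ f := fun f =>
    θ₁.liftOfSurjective_comp_apply hθ₁s ⟨θ₂, hker12⟩ f
  have hσs : Function.Surjective σ := by
    intro y
    obtain ⟨f, rfl⟩ := hθ₂s y
    exact ⟨θ₁ f, hσ f⟩
  have hσi : Function.Injective σ := injective_of_surjective_endo σ hσs
  have hker : RingHom.ker (ψ : QA A α →+* D) ≤ (maximalIdeal A).map (algebraMap A (QA A α)) := by
    intro q hq
    obtain ⟨f, rfl⟩ := Ideal.Quotient.mk_surjective q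
    have h1 : θ₂ f = 0 := by
      rw [RingHom.mem_ker] at hq
      rw [hθ₂, show ψ (Ideal.Quotient.mk _ f) = 0 from hq, map_zero]
    have h2 : θ₁ f = 0 := by
      apply hσi; rw [hσ, h1, map_zero]
    have h3 : ρ f ∈ Ideal.span {(MvPowerSeries.X 0 * MvPowerSeries.X 1 :
        MvPowerSeries (Fin 2) (ResidueField A))} := Ideal.Quotient.eq_zero_iff_mem.mp h2
    have h4 := mem_sup_of_map_mem ρ₀ hρ₀s hkfg f h3
    rw [hρ₀k, hmapC] at h4
    have h5 := Ideal.mem_map_of_mem (Ideal.Quotient.mk (Ideal.span {gen A α})) h4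
    rw [Ideal.map_sup, hmapQ, Ideal.map_span, Set.image_singleton] at h5
    have h6 : Ideal.span {Ideal.Quotient.mk (Ideal.span {gen A α})
        (MvPowerSeries.X 0 * MvPowerSeries.X 1 : PA A)} ≤
        (maximalIdeal A).map (algebraMap A (QA A α)) := by
      rw [Ideal.span_singleton_le_iff_mem]
      have e : Ideal.Quotient.mk (Ideal.span {gen A α})
          (MvPowerSeries.X 0 * MvPowerSeries.X 1 : PA A) =
          Ideal.Quotient.mk (Ideal.span {gen A α}) (MvPowerSeries.C α) := by
        rw [Ideal.Quotient.eq]; exact Ideal.subset_span (Set.mem_singleton_iff.mpr rfl)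
      rw [e, ← hmapQ]
      exact Ideal.mem_map_of_mem _ hCα
    exact (sup_le le_rfl h6) h5
  haveI : Nontrivial (QA A α) := hψ.nontrivial
  haveI : IsLocalRing (QA A α) :=
    IsLocalRing.of_surjective' (Ideal.Quotient.mk _) Ideal.Quotient.mk_surjective
  have hcomp : (ψ : QA A α →+* D).comp (algebraMap A (QA A α)) = algebraMap A D :=
    ψ.comp_algebraMap
  haveI : IsLocalHom ((ψ : QA A α →+* D).comp (algebraMap A (QA A α))) := by
    rw [hcomp]; infer_instance
  haveI : IsLocalHom (algebraMap A (QA A α)) := isLocalHom_of_comp _ (ψ : QA A α →+* D)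
  have hflat : ((ψ : QA A α →+* D).comp (algebraMap A (QA A α))).Flat := by
    rw [hcomp]; exact RingHom.flat_algebraMap_iff.mpr inferInstance
  exact Groth.Agent.Lib.Helper4.FibreIso1.injective_of_flat_of_ker_le (algebraMap A (QA A α))
    (ψ : QA A α →+* D) hψ hflat hker

end Inj

section Quot

/-- the maximal ideal of the quotient -/
abbrev nbar (B : Type u) [CommRing B] [IsLocalRing B] (I : Ideal B) : Ideal (B ⧸ I) :=
  (maximalIdeal B).map (Ideal.Quotient.mk I)

/-- the completion of the quotient -/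
abbrev Cbar (B : Type u) [CommRing B] [IsLocalRing B] (I : Ideal B) : Type u :=
  AdicCompletion (nbar B I) (B ⧸ I)

theorem exists_surjective_to_completion_quotient (B : Type u) [CommRing B] [IsLocalRing B]
    [IsNoetherianRing B] (I : Ideal B) :
    ∃ ε' : AdicCompletion (maximalIdeal B) B →+* Cbar B I,
      Function.Surjective ε' ∧
        ∀ b ∈ I, ε' (algebraMap B (AdicCompletion (maximalIdeal B) B) b) = 0 := by
  have hnfg : (nbar B I).FG := IsNoetherian.noetherian _
  haveI hKc : IsAdicComplete ((nbar B I).map (algebraMap (B ⧸ I) (Cbar B I))) (Cbar B I) :=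
    AdicCompletion.isAdicComplete_self (nbar B I) hnfg
  have hofId : ∀ b : B, (Algebra.ofId B (Cbar B I)) b =
      algebraMap (B ⧸ I) (Cbar B I) (Ideal.Quotient.mk I b) := fun b => rfl
  have hg : (maximalIdeal B).map (Algebra.ofId B (Cbar B I)) ≤
      (nbar B I).map (algebraMap (B ⧸ I) (Cbar B I)) := by
    rw [Ideal.map_le_iff_le_comap]
    intro b hb
    rw [Ideal.mem_comap, hofId]
    exact Ideal.mem_map_of_mem _ (Ideal.mem_map_of_mem _ hb)
  obtain ⟨χ, hχ⟩ := Groth.Agent.Helper2.AdicUniv.exists_lift (R := B) (maximalIdeal B)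
    ((nbar B I).map (algebraMap (B ⧸ I) (Cbar B I))) (Algebra.ofId B (Cbar B I)) hg
  have hχ' : ∀ b : B, χ (algebraMap B (AdicCompletion (maximalIdeal B) B) b) =
      algebraMap (B ⧸ I) (Cbar B I) (Ideal.Quotient.mk I b) := fun b => hχ b
  refine ⟨χ.toRingHom, ?_, ?_⟩
  · have hc : χ.toRingHom.comp (algebraMap B (AdicCompletion (maximalIdeal B) B)) =
        (algebraMap (B ⧸ I) (Cbar B I)).comp (Ideal.Quotient.mk I) :=
      RingHom.ext fun b => hχ' b
    have hmap : (maximalIdeal (AdicCompletion (maximalIdeal B) B)).map χ.toRingHom =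
        (nbar B I).map (algebraMap (B ⧸ I) (Cbar B I)) := by
      rw [AdicCompletion.maximalIdeal_eq_map, Ideal.map_map, hc, ← Ideal.map_map]
    haveI : IsHausdorff ((maximalIdeal (AdicCompletion (maximalIdeal B) B)).map χ.toRingHom)
        (Cbar B I) := by rw [hmap]; infer_instance
    apply surjective_of_mk_map_comp_surjective χ.toRingHom
      (I := maximalIdeal (AdicCompletion (maximalIdeal B) B))
    intro y
    obtain ⟨c, rfl⟩ := Ideal.Quotient.mk_surjective y
    obtain ⟨b', hb'⟩ := Ideal.Quotient.mk_surjective (AdicCompletion.evalOneₐ (nbar B I) c)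
    obtain ⟨b, rfl⟩ := Ideal.Quotient.mk_surjective b'
    refine ⟨algebraMap B (AdicCompletion (maximalIdeal B) B) b, ?_⟩
    rw [RingHom.comp_apply, Ideal.Quotient.eq, hmap,
      ← AdicCompletion.ker_evalOneₐ_eq_map (nbar B I) hnfg, RingHom.mem_ker]
    show (AdicCompletion.evalOneₐ (nbar B I))
      (χ (algebraMap B (AdicCompletion (maximalIdeal B) B) b) - c) = 0
    rw [map_sub, hχ', ← hb', sub_eq_zero]
    rfl
  · intro b hb
    show χ (algebraMap B (AdicCompletion (maximalIdeal B) B) b) = 0
    rw [hχ', Ideal.Quotient.eq_zero_iff_mem.mpr hb, map_zero]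

end Quot

section Concrete2

theorem S7925_main (A B : Type u) [CommRing A] [IsLocalRing A] [IsNoetherianRing A]
    [CommRing B] [IsLocalRing B] [IsNoetherianRing B] [Algebra A B] [IsLocalHom (algebraMap A B)]
    (hres : Function.Bijective (IsLocalRing.ResidueField.map (algebraMap A B)))
    (u v : B)
    (huv : u * v ∈ (IsLocalRing.maximalIdeal A).map (algebraMap A B))
    (hgen : IsLocalRing.maximalIdeal B = Ideal.span {u, v} ⊔ (IsLocalRing.maximalIdeal A).map (algebraMap A B)) [Module.Flat A B]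
    (hfib : ∃ e : AdicCompletion ((IsLocalRing.maximalIdeal B).map (Ideal.Quotient.mk
          ((IsLocalRing.maximalIdeal A).map (algebraMap A B))))
          (B ⧸ (IsLocalRing.maximalIdeal A).map (algebraMap A B)) ≃+*
        (MvPowerSeries (Fin 2) (IsLocalRing.ResidueField A) ⧸
          Ideal.span {(MvPowerSeries.X 0 * MvPowerSeries.X 1 : MvPowerSeries (Fin 2) (IsLocalRing.ResidueField A))}),
      ∀ a : A, e (algebraMap (B ⧸ (IsLocalRing.maximalIdeal A).map (algebraMap A B)) _
          (Ideal.Quotient.mk _ (algebraMap A B a))) =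
        Ideal.Quotient.mk _ (MvPowerSeries.C (IsLocalRing.residue A a))) :
    ∃ (α : AdicCompletion (IsLocalRing.maximalIdeal A) A)
      (_ : α ∈ (IsLocalRing.maximalIdeal A).map (algebraMap A (AdicCompletion (IsLocalRing.maximalIdeal A) A)))
      (ψ : (MvPowerSeries (Fin 2) (AdicCompletion (IsLocalRing.maximalIdeal A) A) ⧸ Ideal.span
          {(MvPowerSeries.X 0 * MvPowerSeries.X 1 -
            MvPowerSeries.C α :
              MvPowerSeries (Fin 2) (AdicCompletion (IsLocalRing.maximalIdeal A) A))}) ≃ₐ[A]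
        AdicCompletion (IsLocalRing.maximalIdeal B) B),
      ψ (Ideal.Quotient.mk _ (MvPowerSeries.X 0)) -
            algebraMap B (AdicCompletion (IsLocalRing.maximalIdeal B) B) u ∈
          (IsLocalRing.maximalIdeal A).map (algebraMap A (AdicCompletion (IsLocalRing.maximalIdeal B) B)) ∧
        ψ (Ideal.Quotient.mk _ (MvPowerSeries.X 1)) -
            algebraMap B (AdicCompletion (IsLocalRing.maximalIdeal B) B) v ∈
          (IsLocalRing.maximalIdeal A).map (algebraMap A (AdicCompletion (IsLocalRing.maximalIdeal B) B)) := by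
  obtain ⟨α, hα, ψ, hψs, h0, h1⟩ := S7924_main A B hres u v huv hgen
  obtain ⟨e, -⟩ := hfib
  have htower : algebraMap A (AdicCompletion (maximalIdeal B) B) =
      (algebraMap B (AdicCompletion (maximalIdeal B) B)).comp (algebraMap A B) :=
    RingHom.ext (fun a => rfl)
  haveI : IsLocalHom (algebraMap A (AdicCompletion (maximalIdeal B) B)) := by
    rw [htower]; exact RingHom.isLocalHom_comp _ _
  haveI : IsScalarTower A B (AdicCompletion (maximalIdeal B) B) :=
    IsScalarTower.of_algebraMap_eq (fun a => rfl)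
  haveI : Module.Flat A (AdicCompletion (maximalIdeal B) B) :=
    Module.Flat.trans A B (AdicCompletion (maximalIdeal B) B)
  obtain ⟨ε', hε's, hε'0⟩ := exists_surjective_to_completion_quotient B
    ((maximalIdeal A).map (algebraMap A B))
  have hinj : Function.Injective ψ := by
    refine injective_of_flat_of_fibre A (AdicCompletion (maximalIdeal B) B) α hα ψ hψs
      (e.toRingHom.comp ε') ?_ ?_
    · intro y
      obtain ⟨c, rfl⟩ := e.surjective y
      obtain ⟨d, rfl⟩ := hε's c
      exact ⟨d, rfl⟩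
    · intro μ hμ
      have e1 : algebraMap A (AdicCompletion (maximalIdeal B) B) μ =
          algebraMap B (AdicCompletion (maximalIdeal B) B) (algebraMap A B μ) := rfl
      rw [RingHom.comp_apply, e1, hε'0 _ (Ideal.mem_map_of_mem _ hμ), map_zero]
  exact ⟨α, hα, AlgEquiv.ofBijective ψ ⟨hinj, hψs⟩, h0, h1⟩

end Concrete2

end Groth.Agent.Helper1.NodeCpl
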