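import Mathlib
import Groth.Prelude.Def_CurvBase
import Groth.Agent.Lib.Helper1.NodeCpl2

/-!
# Formal structure of a split node in a flat family: the algebraic core (helper1)

`A → B` flat local homomorphism of Noetherian local rings, `B → C` a surjection with kernel
`𝔪_A B`, `C` an ordinary double point over a field `K` which is a quotient of `A`.
Then `B̂ ≅ Â[[x, y]]/(xy - h)` with `h ∈ 𝔪_Â`.
-/

set_option autoImplicit false
universe u

namespace Groth.Agent.Helper1.NodeCpl

open IsLocalRing

section Density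

theorem exists_sub_mem_map_pow {B : Type u} [CommRing B] (I : Ideal B) (hfg : I.FG)
    (d : AdicCompletion I B) (N : ℕ) :
    ∃ b : B, d - algebraMap B (AdicCompletion I B) b ∈
      (I ^ N).map (algebraMap B (AdicCompletion I B)) := by
  obtain ⟨b, hb⟩ := Submodule.mkQ_surjective (I ^ N • ⊤ : Submodule B B)
    (AdicCompletion.eval I B N d)
  refine ⟨b, ?_⟩
  have e0 : algebraMap B (AdicCompletion I B) b = AdicCompletion.of I B b := rfl
  have h1 : d - algebraMap B (AdicCompletion I B) b ∈
      LinearMap.ker (AdicCompletion.eval I B N) := by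
    rw [LinearMap.mem_ker, map_sub, e0, AdicCompletion.eval_of, hb, sub_self]
  rw [← AdicCompletion.pow_smul_top_eq_ker_eval hfg] at h1
  have h2 : d - algebraMap B (AdicCompletion I B) b ∈
      ((I ^ N).map (algebraMap B (AdicCompletion I B))).restrictScalars B := by
    rw [← Ideal.smul_top_eq_map]; exact h1
  exact h2

end Density

section Quot2

variable (B C : Type u) [CommRing B] [IsLocalRing B] [IsNoetherianRing B]
  [CommRing C] [IsLocalRing C] [IsNoetherianRing C] [Algebra B C]

theorem exists_completion_map (hπ : Function.Surjective (algebraMap B C)) :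
    ∃ ε' : AdicCompletion (maximalIdeal B) B →+* AdicCompletion (maximalIdeal C) C,
      Function.Surjective ε' ∧
      (∀ b : B, ε' (algebraMap B (AdicCompletion (maximalIdeal B) B) b) =
        algebraMap C (AdicCompletion (maximalIdeal C) C) (algebraMap B C b)) ∧
      RingHom.ker ε' = (RingHom.ker (algebraMap B C)).map
        (algebraMap B (AdicCompletion (maximalIdeal B) B)) := by
  have hnfg : (maximalIdeal C).FG := IsNoetherian.noetherian _
  have hmfg : (maximalIdeal B).FG := IsNoetherian.noetherian _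
  have hmax : (maximalIdeal B).map (algebraMap B C) = maximalIdeal C :=
    IsLocalRing.map_maximalIdeal_of_surjective _ hπ
  haveI hKc : IsAdicComplete
      ((maximalIdeal C).map (algebraMap C (AdicCompletion (maximalIdeal C) C)))
      (AdicCompletion (maximalIdeal C) C) :=
    AdicCompletion.isAdicComplete_self (maximalIdeal C) hnfg
  have hofId : ∀ b : B, (Algebra.ofId B (AdicCompletion (maximalIdeal C) C)) b =
      algebraMap C (AdicCompletion (maximalIdeal C) C) (algebraMap B C b) := fun b => rfl
  have hg : (maximalIdeal B).map (Algebra.ofId B (AdicCompletion (maximalIdeal C) C)) ≤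
      (maximalIdeal C).map (algebraMap C (AdicCompletion (maximalIdeal C) C)) := by
    rw [Ideal.map_le_iff_le_comap]
    intro b hb
    rw [Ideal.mem_comap, hofId]
    refine Ideal.mem_map_of_mem _ ?_
    rw [← hmax]; exact Ideal.mem_map_of_mem _ hb
  obtain ⟨χ, hχ⟩ := Groth.Agent.Helper2.AdicUniv.exists_lift (R := B) (maximalIdeal B)
    ((maximalIdeal C).map (algebraMap C (AdicCompletion (maximalIdeal C) C)))
    (Algebra.ofId B (AdicCompletion (maximalIdeal C) C)) hg
  have hχ' : ∀ b : B, χ (algebraMap B (AdicCompletion (maximalIdeal B) B) b) =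
      algebraMap C (AdicCompletion (maximalIdeal C) C) (algebraMap B C b) := fun b => hχ b
  have hc : χ.toRingHom.comp (algebraMap B (AdicCompletion (maximalIdeal B) B)) =
      (algebraMap C (AdicCompletion (maximalIdeal C) C)).comp (algebraMap B C) :=
    RingHom.ext fun b => hχ' b
  have hmap : (maximalIdeal (AdicCompletion (maximalIdeal B) B)).map χ.toRingHom =
      (maximalIdeal C).map (algebraMap C (AdicCompletion (maximalIdeal C) C)) := by
    rw [AdicCompletion.maximalIdeal_eq_map, Ideal.map_map, hc, ← Ideal.map_map, hmax]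
  have hsurj : Function.Surjective χ.toRingHom := by
    haveI : IsHausdorff ((maximalIdeal (AdicCompletion (maximalIdeal B) B)).map χ.toRingHom)
        (AdicCompletion (maximalIdeal C) C) := by rw [hmap]; infer_instance
    apply surjective_of_mk_map_comp_surjective χ.toRingHom
      (I := maximalIdeal (AdicCompletion (maximalIdeal B) B))
    intro y
    obtain ⟨c, rfl⟩ := Ideal.Quotient.mk_surjective y
    obtain ⟨c', hc'⟩ := Ideal.Quotient.mk_surjective
      (AdicCompletion.evalOneₐ (maximalIdeal C) c)
    obtain ⟨b, rfl⟩ := hπ c'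
    refine ⟨algebraMap B (AdicCompletion (maximalIdeal B) B) b, ?_⟩
    rw [RingHom.comp_apply, Ideal.Quotient.eq, hmap,
      ← AdicCompletion.ker_evalOneₐ_eq_map (maximalIdeal C) hnfg, RingHom.mem_ker]
    show (AdicCompletion.evalOneₐ (maximalIdeal C))
      (χ (algebraMap B (AdicCompletion (maximalIdeal B) B) b) - c) = 0
    rw [map_sub, hχ', ← hc', sub_eq_zero]
    rfl
  have hpowmap : ∀ N : ℕ, ∀ x ∈ maximalIdeal (AdicCompletion (maximalIdeal B) B) ^ N,
      χ x ∈ (maximalIdeal C ^ N).map (algebraMap C (AdicCompletion (maximalIdeal C) C)) := by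
    intro N x hx
    have h := Ideal.mem_map_of_mem χ.toRingHom hx
    rw [Ideal.map_pow, hmap, ← Ideal.map_pow] at h
    exact h
  refine ⟨χ.toRingHom, hsurj, hχ', ?_⟩
  apply le_antisymm
  · intro d hd
    rw [RingHom.mem_ker] at hd
    have hd' : χ d = 0 := hd
    haveI : IsNoetherianRing (AdicCompletion (maximalIdeal B) B) :=
      Groth.Agent.Helper8.AdicReg.isNoetherianRing B _
    apply Groth.Agent.Helper8.Node.mem_of_forall_mem_sup_pow
    intro N
    obtain ⟨b, hb⟩ := exists_sub_mem_map_pow (maximalIdeal B) hmfg d N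
    rw [Ideal.map_pow, ← AdicCompletion.maximalIdeal_eq_map] at hb
    have h1 : χ (algebraMap B (AdicCompletion (maximalIdeal B) B) b) ∈
        (maximalIdeal C ^ N).map (algebraMap C (AdicCompletion (maximalIdeal C) C)) := by
      have h2 := hpowmap N _ hb
      rw [map_sub, hd', zero_sub] at h2
      exact neg_mem_iff.mp h2
    rw [hχ'] at h1
    have h3 : algebraMap B C b ∈ maximalIdeal C ^ N := by
      have hle : (maximalIdeal C ^ N).map (algebraMap C (AdicCompletion (maximalIdeal C) C)) ≤
          RingHom.ker (AdicCompletion.evalₐ (maximalIdeal C) N).toRingHom := by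
        rw [Ideal.map_le_iff_le_comap]
        intro c hc
        rw [Ideal.mem_comap, RingHom.mem_ker]
        show AdicCompletion.evalₐ (maximalIdeal C) N
          (AdicCompletion.of (maximalIdeal C) C c) = 0
        rw [AdicCompletion.evalₐ_of]
        exact Ideal.Quotient.eq_zero_iff_mem.mpr hc
      have h4 := hle h1
      rw [RingHom.mem_ker] at h4
      have h5 : AdicCompletion.evalₐ (maximalIdeal C) N
          (AdicCompletion.of (maximalIdeal C) C (algebraMap B C b)) = 0 := h4
      rw [AdicCompletion.evalₐ_of] at h5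
      exact Ideal.Quotient.eq_zero_iff_mem.mp h5
    rw [← hmax, ← Ideal.map_pow] at h3
    obtain ⟨m, hm, hmb⟩ := (Ideal.mem_map_iff_of_surjective _ hπ).mp h3
    have h6 : b - m ∈ RingHom.ker (algebraMap B C) := by
      rw [RingHom.mem_ker, map_sub, hmb, sub_self]
    have e : d = algebraMap B (AdicCompletion (maximalIdeal B) B) (b - m) +
        ((d - algebraMap B (AdicCompletion (maximalIdeal B) B) b) +
          algebraMap B (AdicCompletion (maximalIdeal B) B) m) := by
      rw [map_sub]; ring
    rw [e]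
    refine Ideal.add_mem _ (Ideal.mem_sup_left (Ideal.mem_map_of_mem _ h6))
      (Ideal.mem_sup_right ?_)
    refine Ideal.add_mem _ hb ?_
    rw [AdicCompletion.maximalIdeal_eq_map, ← Ideal.map_pow]
    exact Ideal.mem_map_of_mem _ hm
  · rw [Ideal.map_le_iff_le_comap]
    intro b hb
    rw [Ideal.mem_comap, RingHom.mem_ker]
    show χ (algebraMap B (AdicCompletion (maximalIdeal B) B) b) = 0
    rw [hχ', (RingHom.mem_ker).mp hb, map_zero]

end Quot2

section R0

variable (K : Type u) [Field K]

/-- the constant coefficient on the formal node -/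
noncomputable def ccR0 : R0 K →+* K :=
  Ideal.Quotient.lift _ (MvPowerSeries.constantCoeff : MvPowerSeries (Fin 2) K →+* K) (by
    intro f hf
    obtain ⟨g, rfl⟩ := Ideal.mem_span_singleton'.mp hf
    rw [map_mul, map_mul, MvPowerSeries.constantCoeff_X, zero_mul, mul_zero])

theorem ccR0_mk (f : MvPowerSeries (Fin 2) K) :
    ccR0 K (Ideal.Quotient.mk _ f) = MvPowerSeries.constantCoeff f := rfl

theorem exists_decomp_R0 (z : R0 K) (hz : ccR0 K z = 0) :
    ∃ p q : R0 K, z = Ideal.Quotient.mk _ (MvPowerSeries.X 0) * p +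
      Ideal.Quotient.mk _ (MvPowerSeries.X 1) * q := by
  obtain ⟨F, rfl⟩ := Ideal.Quotient.mk_surjective z
  obtain ⟨E, G, hF⟩ := Groth.Agent.Helper8.ThickNode.exists_decomp F
  rw [ccR0_mk] at hz
  rw [hz, map_zero, zero_add] at hF
  refine ⟨Ideal.Quotient.mk _ E, Ideal.Quotient.mk _ G, ?_⟩
  have h := congrArg (Ideal.Quotient.mk (Ideal.span
    {(MvPowerSeries.X 0 * MvPowerSeries.X 1 : MvPowerSeries (Fin 2) K)})) hF
  rw [map_add, map_mul, map_mul] at h
  exact h

end R0

section Transport

/-- power series over isomorphic rings -/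
noncomputable def psMapEquiv {K L : Type u} [CommRing K] [CommRing L] (j : K ≃+* L) :
    MvPowerSeries (Fin 2) K ≃+* MvPowerSeries (Fin 2) L :=
  RingEquiv.ofRingHom (MvPowerSeries.map j.toRingHom) (MvPowerSeries.map j.symm.toRingHom)
    (RingHom.ext fun p => MvPowerSeries.ext fun n => by
      simp)
    (RingHom.ext fun p => MvPowerSeries.ext fun n => by
      simp)

/-- the formal node over isomorphic rings -/
noncomputable def R0Equiv {K L : Type u} [CommRing K] [CommRing L] (j : K ≃+* L) :
    R0 K ≃+* R0 L :=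
  Ideal.quotientEquiv _ _ (psMapEquiv j) (by
    have h : (psMapEquiv j : MvPowerSeries (Fin 2) K →+* MvPowerSeries (Fin 2) L)
        (MvPowerSeries.X 0 * MvPowerSeries.X 1) = MvPowerSeries.X 0 * MvPowerSeries.X 1 := by
      show MvPowerSeries.map j.toRingHom (MvPowerSeries.X 0 * MvPowerSeries.X 1) = _
      rw [map_mul, MvPowerSeries.map_X, MvPowerSeries.map_X]
    rw [Ideal.map_span, Set.image_singleton, h])

end Transport

section Core

theorem node_family_core (A B C K : Type u) [CommRing A] [IsLocalRing A] [IsNoetherianRing A]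
    [CommRing B] [IsLocalRing B] [IsNoetherianRing B] [Algebra A B]
    [IsLocalHom (algebraMap A B)] [Module.Flat A B]
    [CommRing C] [IsLocalRing C] [Field K] [Algebra K C]
    (ρ : A →+* K) (hρ : Function.Surjective ρ)
    (π : B →+* C) (hπ : Function.Surjective π)
    (hker : RingHom.ker π = (maximalIdeal A).map (algebraMap A B))
    (hcompat : ∀ a : A, π (algebraMap A B a) = algebraMap K C (ρ a))
    (hC : Curv2.IsOrdDoublePt K C) :
    ∃ h ∈ maximalIdeal (AdicCompletion (maximalIdeal A) A),
      ∃ e : AdicCompletion (maximalIdeal B) B ≃+*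
          (MvPowerSeries (Fin 2) (AdicCompletion (maximalIdeal A) A) ⧸
            Ideal.span {(MvPowerSeries.X 0 * MvPowerSeries.X 1 - MvPowerSeries.C h :
              MvPowerSeries (Fin 2) (AdicCompletion (maximalIdeal A) A))}),
        ∀ a : A, e (algebraMap B (AdicCompletion (maximalIdeal B) B) (algebraMap A B a)) =
          Ideal.Quotient.mk _
            (MvPowerSeries.C (algebraMap A (AdicCompletion (maximalIdeal A) A) a)) := by
  classical
  letI : Algebra B C := π.toAlgebra
  have hπ' : Function.Surjective (algebraMap B C) := hπ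
  haveI : IsNoetherianRing C := isNoetherianRing_of_surjective B C π hπ
  obtain ⟨ε', hε's, hε'c, hε'k⟩ := exists_completion_map B C hπ'
  obtain ⟨e₀, he₀⟩ := hC
  have htower : algebraMap A (AdicCompletion (maximalIdeal B) B) =
      (algebraMap B (AdicCompletion (maximalIdeal B) B)).comp (algebraMap A B) :=
    RingHom.ext (fun a => rfl)
  haveI : IsLocalHom (algebraMap A (AdicCompletion (maximalIdeal B) B)) := by
    rw [htower]; exact RingHom.isLocalHom_comp _ _
  haveI : IsScalarTower A B (AdicCompletion (maximalIdeal B) B) :=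
    IsScalarTower.of_algebraMap_eq (fun a => rfl)
  haveI : Module.Flat A (AdicCompletion (maximalIdeal B) B) :=
    Module.Flat.trans A B (AdicCompletion (maximalIdeal B) B)
  haveI : IsNoetherianRing (AdicCompletion (maximalIdeal B) B) :=
    Groth.Agent.Helper8.AdicReg.isNoetherianRing B _
  have hmapJ : ((maximalIdeal A).map (algebraMap A B)).map
      (algebraMap B (AdicCompletion (maximalIdeal B) B)) =
      (maximalIdeal A).map (algebraMap A (AdicCompletion (maximalIdeal B) B)) := by
    rw [Ideal.map_map, ← htower]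
  let εK : AdicCompletion (maximalIdeal B) B →+* R0 K := e₀.toRingHom.comp ε'
  have hεK : ∀ d, εK d = e₀ (ε' d) := fun d => rfl
  have hεKs : Function.Surjective εK := by
    intro y
    obtain ⟨c, rfl⟩ := e₀.surjective y
    obtain ⟨d, rfl⟩ := hε's c
    exact ⟨d, rfl⟩
  have hεKker : RingHom.ker εK =
      (maximalIdeal A).map (algebraMap A (AdicCompletion (maximalIdeal B) B)) := by
    rw [← hmapJ, ← hker]
    have hkk : RingHom.ker (algebraMap B C) = RingHom.ker π := rfl
    rw [← hkk, ← hε'k]
    ext d
    rw [RingHom.mem_ker, RingHom.mem_ker, hεK]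
    exact map_eq_zero_iff e₀ e₀.injective
  have hεKalg : ∀ a : A, εK (algebraMap A (AdicCompletion (maximalIdeal B) B) a) =
      Ideal.Quotient.mk _ (MvPowerSeries.C (ρ a)) := by
    intro a
    have e1 : algebraMap A (AdicCompletion (maximalIdeal B) B) a =
        algebraMap B (AdicCompletion (maximalIdeal B) B) (algebraMap A B a) := rfl
    have e2 : algebraMap B C (algebraMap A B a) = algebraMap K C (ρ a) := hcompat a
    rw [hεK, e1, hε'c, e2]
    exact he₀ (ρ a)
  let φK : AdicCompletion (maximalIdeal B) B →+* K := (ccR0 K).comp εK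
  have hφK : ∀ d, φK d = ccR0 K (εK d) := fun d => rfl
  have hφKs : Function.Surjective φK := by
    intro c
    obtain ⟨d, hd⟩ := hεKs (Ideal.Quotient.mk _ (MvPowerSeries.C c))
    refine ⟨d, ?_⟩
    rw [hφK, hd, ccR0_mk, MvPowerSeries.constantCoeff_C]
  have hφKker : RingHom.ker φK = maximalIdeal (AdicCompletion (maximalIdeal B) B) :=
    IsLocalRing.ker_eq_maximalIdeal φK hφKs
  have hmem : ∀ d : AdicCompletion (maximalIdeal B) B,
      d ∈ maximalIdeal (AdicCompletion (maximalIdeal B) B) ↔ ccR0 K (εK d) = 0 := by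
    intro d; rw [← hφKker, RingHom.mem_ker, hφK]
  have hres' : ∀ d : AdicCompletion (maximalIdeal B) B, ∃ a : A,
      d - algebraMap A (AdicCompletion (maximalIdeal B) B) a ∈
        maximalIdeal (AdicCompletion (maximalIdeal B) B) := by
    intro d
    obtain ⟨a, ha⟩ := hρ (ccR0 K (εK d))
    refine ⟨a, ?_⟩
    rw [hmem, map_sub, map_sub, hεKalg, ccR0_mk, MvPowerSeries.constantCoeff_C, ha, sub_self]
  obtain ⟨u₀, hu₀⟩ := hεKs (Ideal.Quotient.mk _ (MvPowerSeries.X 0))
  obtain ⟨v₀, hv₀⟩ := hεKs (Ideal.Quotient.mk _ (MvPowerSeries.X 1))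
  have huv : u₀ * v₀ ∈
      (maximalIdeal A).map (algebraMap A (AdicCompletion (maximalIdeal B) B)) := by
    rw [← hεKker, RingHom.mem_ker, map_mul, hu₀, hv₀, ← map_mul]
    exact Ideal.Quotient.eq_zero_iff_mem.mpr (Ideal.subset_span (Set.mem_singleton _))
  have hJle : (maximalIdeal A).map (algebraMap A (AdicCompletion (maximalIdeal B) B)) ≤
      maximalIdeal (AdicCompletion (maximalIdeal B) B) :=
    ((IsLocalRing.local_hom_TFAE (algebraMap A (AdicCompletion (maximalIdeal B) B))).out 0 2).mp
      ‹IsLocalHom (algebraMap A (AdicCompletion (maximalIdeal B) B))›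
  have hu₀m : u₀ ∈ maximalIdeal (AdicCompletion (maximalIdeal B) B) := by
    rw [hmem, hu₀, ccR0_mk, MvPowerSeries.constantCoeff_X]
  have hv₀m : v₀ ∈ maximalIdeal (AdicCompletion (maximalIdeal B) B) := by
    rw [hmem, hv₀, ccR0_mk, MvPowerSeries.constantCoeff_X]
  have hgen : maximalIdeal (AdicCompletion (maximalIdeal B) B) = Ideal.span {u₀, v₀} ⊔
      (maximalIdeal A).map (algebraMap A (AdicCompletion (maximalIdeal B) B)) := by
    apply le_antisymm
    · intro d hd
      rw [hmem] at hd
      obtain ⟨p, q, hpq⟩ := exists_decomp_R0 K (εK d) hd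
      obtain ⟨P, rfl⟩ := hεKs p
      obtain ⟨Q, rfl⟩ := hεKs q
      have hk : d - (u₀ * P + v₀ * Q) ∈ RingHom.ker εK := by
        rw [RingHom.mem_ker, map_sub, map_add, map_mul, map_mul, hu₀, hv₀, ← hpq, sub_self]
      rw [hεKker] at hk
      have e : d = (u₀ * P + v₀ * Q) + (d - (u₀ * P + v₀ * Q)) := by ring
      rw [e]
      refine Ideal.add_mem _ (Ideal.mem_sup_left ?_) (Ideal.mem_sup_right hk)
      exact Ideal.mem_span_pair.mpr ⟨P, Q, by ring⟩
    · refine sup_le ?_ hJle
      exact Ideal.span_le.mpr (Set.insert_subset_iff.mpr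
        ⟨hu₀m, Set.singleton_subset_iff.mpr hv₀m⟩)
  obtain ⟨α, hα, ψ, hψs, -, -⟩ :=
    main_abstract A (AdicCompletion (maximalIdeal B) B) hres' u₀ v₀ huv hgen
  let j : ResidueField A ≃+* K :=
    (Ideal.quotEquivOfEq (IsLocalRing.ker_eq_maximalIdeal ρ hρ).symm).trans
      (RingHom.quotientKerEquivOfSurjective hρ)
  let ε : AdicCompletion (maximalIdeal B) B →+* R0 (ResidueField A) :=
    (R0Equiv j.symm).toRingHom.comp εK
  have hε : ∀ d, ε d = R0Equiv j.symm (εK d) := fun d => rfl
  have hεs : Function.Surjective ε := by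
    intro y
    obtain ⟨z, rfl⟩ := (R0Equiv j.symm).surjective y
    obtain ⟨d, rfl⟩ := hεKs z
    exact ⟨d, rfl⟩
  have hεm : ∀ μ ∈ maximalIdeal A,
      ε (algebraMap A (AdicCompletion (maximalIdeal B) B) μ) = 0 := by
    intro μ hμ
    have h1 : εK (algebraMap A (AdicCompletion (maximalIdeal B) B) μ) = 0 := by
      rw [← RingHom.mem_ker, hεKker]; exact Ideal.mem_map_of_mem _ hμ
    rw [hε, h1, map_zero]
  have hinj := injective_of_flat_of_fibre A (AdicCompletion (maximalIdeal B) B) α hα ψ hψs ε
    hεs hεm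
  let E : QA A α ≃ₐ[A] AdicCompletion (maximalIdeal B) B :=
    AlgEquiv.ofBijective ψ ⟨hinj, hψs⟩
  refine ⟨α, ?_, E.symm.toRingEquiv, ?_⟩
  · rw [AdicCompletion.maximalIdeal_eq_map]; exact hα
  · intro a
    have e1 : algebraMap B (AdicCompletion (maximalIdeal B) B) (algebraMap A B a) =
        algebraMap A (AdicCompletion (maximalIdeal B) B) a := rfl
    rw [e1]
    show E.symm (algebraMap A (AdicCompletion (maximalIdeal B) B) a) = _
    rw [E.symm.commutes]
    show Ideal.Quotient.mk _ (algebraMap A (PA A) a) = _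
    rw [MvPowerSeries.algebraMap_apply]

end Core

end Groth.Agent.Helper1.NodeCpl
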