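import Mathlib
import Groth.Prelude
import Groth.Agent.Lib.Helper1.NodeCpl3
import Groth.Agent.Lib.Helper3.FibStalk

/-!
# Completion of a flat family at a split node of a fibre (helper1)
-/

set_option autoImplicit false
universe u

open CategoryTheory CategoryTheory.Limits AlgebraicGeometry IsLocalRing Opposite

namespace Groth.Agent.Helper1.NodeCpl

section Plumbing

variable {T S : Scheme.{u}}

/-- sections of the spectrum of the residue field -/
theorem app_fromSpecResidueField' {V : S.Opens} (s : S) (hs : s ∈ V) :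
    (S.fromSpecResidueField s).app V = S.evaluation V s hs ≫
      (Scheme.ΓSpecIso (S.residueField s)).inv ≫
        (Spec (S.residueField s)).presheaf.map (homOfLE le_top).op := by
  change (Spec.map (S.residue s) ≫ S.fromSpecStalk s).app V = _
  rw [Scheme.Hom.comp_app, Scheme.fromSpecStalk_app hs]
  rw [← Scheme.germ_residue, Category.assoc, Category.assoc, Category.assoc]
  congr 1
  rw [Scheme.Hom.naturality, ← Category.assoc, ← Category.assoc]
  have h1 : (Scheme.ΓSpecIso (S.presheaf.stalk s)).inv ≫ (Spec.map (S.residue s)).app ⊤ =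
      S.residue s ≫ (Scheme.ΓSpecIso (S.residueField s)).inv :=
    (Scheme.ΓSpecIso_inv_naturality (S.residue s)).symm
  rw [h1, Category.assoc]
  rfl

theorem map_fiberι_apply (f : T ⟶ S) (y : S) (x' : f.fiber y) : f (f.fiberι y x') = y := by
  have := congr($(f.fiber_fac y) x')
  rw [Scheme.Hom.comp_apply, Scheme.Hom.comp_apply, Scheme.Hom.fiberToSpecResidueField_apply,
    Scheme.fromSpecResidueField_apply] at this
  exact this

theorem comp_germ {F Z : Scheme.{u}} (ι : F ⟶ T) (f : T ⟶ S) (q : F ⟶ Z) (r : Z ⟶ S)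
    (e : ι ≫ f = q ≫ r) (V : S.Opens) (x' : F) (hx : f (ι x') ∈ V)
    (hx' : r (q x') ∈ V) :
    f.app V ≫ ι.app (f ⁻¹ᵁ V) ≫ F.presheaf.germ (ι ⁻¹ᵁ (f ⁻¹ᵁ V)) x' hx =
      r.app V ≫ q.app (r ⁻¹ᵁ V) ≫ F.presheaf.germ (q ⁻¹ᵁ (r ⁻¹ᵁ V)) x' hx' := by
  have key : ∀ (g : F ⟶ S) (_ : g = q ≫ r) (hg : g x' ∈ V),
      g.app V ≫ F.presheaf.germ (g ⁻¹ᵁ V) x' hg =
        r.app V ≫ q.app (r ⁻¹ᵁ V) ≫ F.presheaf.germ (q ⁻¹ᵁ (r ⁻¹ᵁ V)) x' hx' := by
    intro g eg hg
    subst eg
    show (r.app V ≫ q.app (r ⁻¹ᵁ V)) ≫ F.presheaf.germ (q ⁻¹ᵁ (r ⁻¹ᵁ V)) x' hx' = _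
    exact Category.assoc _ _ _
  refine Eq.trans ?_ (key (ι ≫ f) e hx)
  show _ = (f.app V ≫ ι.app (f ⁻¹ᵁ V)) ≫ F.presheaf.germ (ι ⁻¹ᵁ (f ⁻¹ᵁ V)) x' hx
  exact (Category.assoc _ _ _).symm

theorem fibre_compat (f : T ⟶ S) (y : S) (x' : f.fiber y) (hy : f (f.fiberι y x') = y)
    (a : S.presheaf.stalk (f (f.fiberι y x'))) :
    ((f.fiberι y).stalkMap x').hom ((f.stalkMap (f.fiberι y x')).hom a) =
      ((f.fiber y).presheaf.germ ⊤ x' trivial).hom
        (((f.fiberToSpecResidueField y).appTop).hom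
          ((Scheme.ΓSpecIso (S.residueField y)).inv.hom
            ((S.residue y).hom ((S.presheaf.stalkCongr (Inseparable.of_eq hy)).hom.hom a)))) := by
  obtain ⟨V, hV, s, rfl⟩ := S.presheaf.exists_germ_eq a
  have hyV : y ∈ V := hy ▸ hV
  have hrq : (S.fromSpecResidueField y) ((f.fiberToSpecResidueField y) x') ∈ V := by
    rw [Scheme.fromSpecResidueField_apply]; exact hyV
  have M2 : S.presheaf.germ V _ hV ≫ (S.presheaf.stalkCongr (Inseparable.of_eq hy)).hom ≫
      S.residue y = S.evaluation V y hyV := by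
    have e1 : S.presheaf.germ V _ hV ≫ (S.presheaf.stalkCongr (Inseparable.of_eq hy)).hom =
        S.presheaf.germ V y hyV :=
      S.presheaf.germ_stalkSpecializes hV (Inseparable.of_eq hy).ge
    rw [← Category.assoc, e1]; rfl
  have N : (Spec (S.residueField y)).presheaf.map
        (homOfLE (le_top : (S.fromSpecResidueField y) ⁻¹ᵁ V ≤ ⊤)).op ≫
      (f.fiberToSpecResidueField y).app ((S.fromSpecResidueField y) ⁻¹ᵁ V) ≫
        (f.fiber y).presheaf.germ
          ((f.fiberToSpecResidueField y) ⁻¹ᵁ ((S.fromSpecResidueField y) ⁻¹ᵁ V)) x' hrq =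
      (f.fiberToSpecResidueField y).appTop ≫ (f.fiber y).presheaf.germ ⊤ x' trivial := by
    rw [← Category.assoc, Scheme.Hom.naturality, Category.assoc, TopCat.Presheaf.germ_res]
    rfl
  have M1 : S.presheaf.germ V _ hV ≫ f.stalkMap _ ≫ (f.fiberι y).stalkMap x' =
      S.evaluation V y hyV ≫ (Scheme.ΓSpecIso (S.residueField y)).inv ≫
        (f.fiberToSpecResidueField y).appTop ≫ (f.fiber y).presheaf.germ ⊤ x' trivial := by
    rw [Scheme.Hom.germ_stalkMap_assoc, Scheme.Hom.germ_stalkMap]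
    have G := comp_germ (f.fiberι y) f (f.fiberToSpecResidueField y)
      (S.fromSpecResidueField y) (f.fiber_fac y) V x' hV hrq
    refine G.trans ?_
    rw [app_fromSpecResidueField' y hyV, Category.assoc, Category.assoc, N]
  have h1 := congrArg (fun φ => φ.hom s) M1
  have h2 := congrArg (fun φ => φ.hom s) M2
  have h2' : (S.residue y).hom ((S.presheaf.stalkCongr (Inseparable.of_eq hy)).hom.hom
      ((S.presheaf.germ V _ hV).hom s)) = (S.evaluation V y hyV).hom s := h2
  refine Eq.trans (b := ((f.fiber y).presheaf.germ ⊤ x' trivial).hom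
    (((f.fiberToSpecResidueField y).appTop).hom
      ((Scheme.ΓSpecIso (S.residueField y)).inv.hom ((S.evaluation V y hyV).hom s)))) h1 ?_
  rw [← h2']
  try rfl

end Plumbing

section Main

variable {T S : Scheme.{u}}

/-- the conclusion of S6573 as a predicate on the point -/
def NodeConcl (f : T ⟶ S) (t : T) : Prop :=
  ∀ [IsNoetherianRing (S.presheaf.stalk (f t))], ∃ h ∈ IsLocalRing.maximalIdeal (Curv2.cpl (S.presheaf.stalk (f t))),
      ∃ e : Curv2.cpl (T.presheaf.stalk t) ≃+*
          (MvPowerSeries (Fin 2) (Curv2.cpl (S.presheaf.stalk (f t))) ⧸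
            Ideal.span {(MvPowerSeries.X 0 * MvPowerSeries.X 1 - MvPowerSeries.C h : MvPowerSeries (Fin 2) (Curv2.cpl (S.presheaf.stalk (f t))))}),
        ∀ a : S.presheaf.stalk (f t),
          e (algebraMap (T.presheaf.stalk t) (Curv2.cpl (T.presheaf.stalk t)) ((f.stalkMap t).hom a)) =
            Ideal.Quotient.mk _ (MvPowerSeries.C (algebraMap (S.presheaf.stalk (f t)) (Curv2.cpl (S.presheaf.stalk (f t))) a))

theorem nodeConcl_fiberι (f : T ⟶ S) [LocallyOfFiniteType f] (y : S) (x' : f.fiber y)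
    (hfl : (f.stalkMap (f.fiberι y x')).hom.Flat)
    (hC : letI : (f.fiber y).Over (Spec (S.residueField y)) := ⟨f.fiberToSpecResidueField y⟩
      letI := Curv2.stalkAlgebra (S.residueField y) (f.fiber y) x'
      Curv2.IsOrdDoublePt (S.residueField y) ((f.fiber y).presheaf.stalk x')) :
    NodeConcl f (f.fiberι y x') := by
  intro _inst
  have hy : f (f.fiberι y x') = y := map_fiberι_apply f y x'
  letI : (f.fiber y).Over (Spec (S.residueField y)) := ⟨f.fiberToSpecResidueField y⟩
  letI algKC : Algebra (S.residueField y) ((f.fiber y).presheaf.stalk x') :=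
    Curv2.stalkAlgebra (S.residueField y) (f.fiber y) x'
  letI algAB : Algebra (S.presheaf.stalk (f (f.fiberι y x')))
      (T.presheaf.stalk (f.fiberι y x')) := (f.stalkMap (f.fiberι y x')).hom.toAlgebra
  haveI : IsLocalHom (algebraMap (S.presheaf.stalk (f (f.fiberι y x')))
      (T.presheaf.stalk (f.fiberι y x'))) :=
    (inferInstance : IsLocalHom (f.stalkMap (f.fiberι y x')).hom)
  haveI : Module.Flat (S.presheaf.stalk (f (f.fiberι y x')))
      (T.presheaf.stalk (f.fiberι y x')) := hfl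
  haveI : Algebra.EssFiniteType (S.presheaf.stalk (f (f.fiberι y x')))
      (T.presheaf.stalk (f.fiberι y x')) := LocallyOfFiniteType.stalkMap f (f.fiberι y x')
  haveI : IsNoetherianRing (T.presheaf.stalk (f.fiberι y x')) :=
    Algebra.EssFiniteType.isNoetherianRing (S.presheaf.stalk (f (f.fiberι y x'))) _
  let ρ : S.presheaf.stalk (f (f.fiberι y x')) →+* S.residueField y :=
    (S.residue y).hom.comp (S.presheaf.stalkCongr (Inseparable.of_eq hy)).hom.hom
  have hρ : Function.Surjective ρ := by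
    have h1 : Function.Bijective (S.presheaf.stalkCongr (Inseparable.of_eq hy)).hom.hom :=
      ConcreteCategory.bijective_of_isIso (S.presheaf.stalkCongr (Inseparable.of_eq hy)).hom
    exact (S.residue_surjective y).comp h1.2
  exact node_family_core _ _ ((f.fiber y).presheaf.stalk x') (S.residueField y) ρ hρ
    ((f.fiberι y).stalkMap x').hom ((f.fiberι y).stalkMap_surjective x')
    (Groth.Agent.Helper3.FibStalk.ker_stalkMap_fiberι f y x')
    (fun a => fibre_compat f y x' hy a) hC

theorem S6573_main (f : T ⟶ S) [LocallyOfFiniteType f] (t : T)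
    [IsNoetherianRing (S.presheaf.stalk (f t))] (hfl : (f.stalkMap t).hom.Flat)
    (ht : letI : (f.fiber (f t)).Over (Spec (S.residueField (f t))) := ⟨f.fiberToSpecResidueField (f t)⟩
      letI := Curv2.stalkAlgebra (S.residueField (f t)) (f.fiber (f t)) (f.asFiber t)
      IsClosed ({f.asFiber t} : Set (f.fiber (f t))) ∧
        Curv2.IsOrdDoublePt (S.residueField (f t)) ((f.fiber (f t)).presheaf.stalk (f.asFiber t))) :
    ∃ h ∈ IsLocalRing.maximalIdeal (Curv2.cpl (S.presheaf.stalk (f t))),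
      ∃ e : Curv2.cpl (T.presheaf.stalk t) ≃+*
          (MvPowerSeries (Fin 2) (Curv2.cpl (S.presheaf.stalk (f t))) ⧸
            Ideal.span {(MvPowerSeries.X 0 * MvPowerSeries.X 1 - MvPowerSeries.C h : MvPowerSeries (Fin 2) (Curv2.cpl (S.presheaf.stalk (f t))))}),
        ∀ a : S.presheaf.stalk (f t),
          e (algebraMap (T.presheaf.stalk t) (Curv2.cpl (T.presheaf.stalk t)) ((f.stalkMap t).hom a)) =
            Ideal.Quotient.mk _ (MvPowerSeries.C (algebraMap (S.presheaf.stalk (f t)) (Curv2.cpl (S.presheaf.stalk (f t))) a)) := by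
  have h := f.fiberι_asFiber t
  have hfl' : (f.stalkMap (f.fiberι (f t) (f.asFiber t))).hom.Flat := by
    rw [h]; exact hfl
  have key : NodeConcl f (f.fiberι (f t) (f.asFiber t)) :=
    nodeConcl_fiberι f (f t) (f.asFiber t) hfl' ht.2
  rw [h] at key
  unfold NodeConcl at key
  exact key

end Main

end Groth.Agent.Helper1.NodeCpl
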