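import Mathlib
import Groth.Agent.Lib.Helper1.NodeCpl2

/-!
# Equivariant formal structure of a node in a family (helper1)

`A → D` a local homomorphism of complete Noetherian local rings with the same residue field,
`σ` an `A`-algebra involution of `D`, `u₀, v₀` eigenvectors of `σ` with `𝔪_D = (u₀, v₀) + 𝔪_A D` and
`u₀ v₀ ∈ 𝔪_A D`.  Then `D` is a quotient of `A[[x, y]]/(xy - t)` with `σ` diagonal on `x, y`.
-/

set_option autoImplicit false
universe u

namespace Groth.Agent.Helper1.NodeEq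

open IsLocalRing Groth.Agent.Helper1.NodeCpl

section Approx

variable {A : Type u} [CommRing A] [IsLocalRing A]
  {D : Type u} [CommRing D] [IsLocalRing D] [Algebra A D]

/-- an `A`-algebra endomorphism preserves extended ideals -/
theorem map_mem_map (σ : D →ₐ[A] D) (I : Ideal A) {x : D} (hx : x ∈ I.map (algebraMap A D)) :
    σ x ∈ I.map (algebraMap A D) := by
  have h1 : (σ : D →+* D) x ∈ (I.map (algebraMap A D)).map (σ : D →+* D) :=
    Ideal.mem_map_of_mem _ hx
  rw [Ideal.map_map, AlgHom.comp_algebraMap] at h1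
  exact h1

theorem exists_next_eq
    (hres : ∀ d : D, ∃ a : A, d - algebraMap A D a ∈ maximalIdeal D)
    (σ : D →ₐ[A] D) (hσσ : ∀ s, σ (σ s) = s)
    (h c₁ c₂ : A) (hh : 2 * h = 1) (hc₁ : c₁ * c₁ = 1) (hc₂ : c₂ * c₂ = 1)
    (u₀ v₀ : D)
    (hgen : maximalIdeal D = Ideal.span {u₀, v₀} ⊔ (maximalIdeal A).map (algebraMap A D))
    (N : ℕ) (hN : 1 ≤ N) (u' v' : D) (α' : A)
    (hu' : u' - u₀ ∈ (maximalIdeal A).map (algebraMap A D))
    (hv' : v' - v₀ ∈ (maximalIdeal A).map (algebraMap A D)) (hα' : α' ∈ maximalIdeal A)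
    (h4 : u' * v' - algebraMap A D α' ∈ ((maximalIdeal A).map (algebraMap A D)) ^ N)
    (h5 : σ u' = algebraMap A D c₂ * u') (h6 : σ v' = algebraMap A D c₁ * v')
    (h7 : (1 - c₁ * c₂) * α' = 0) :
    ∃ (u'' v'' : D) (α'' : A), u'' - u₀ ∈ (maximalIdeal A).map (algebraMap A D) ∧
      v'' - v₀ ∈ (maximalIdeal A).map (algebraMap A D) ∧ α'' ∈ maximalIdeal A ∧
      u'' * v'' - algebraMap A D α'' ∈ ((maximalIdeal A).map (algebraMap A D)) ^ (N + 1) ∧
      σ u'' = algebraMap A D c₂ * u'' ∧ σ v'' = algebraMap A D c₁ * v'' ∧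
      (1 - c₁ * c₂) * α'' = 0 ∧
      u'' - u' ∈ ((maximalIdeal A).map (algebraMap A D)) ^ N ∧
      v'' - v' ∈ ((maximalIdeal A).map (algebraMap A D)) ^ N ∧
      α'' - α' ∈ maximalIdeal A ^ N := by
  obtain ⟨δ, p, q, r, hδ, hp, hq, hr, hx⟩ :=
    dec_of_mem_pow hres u₀ v₀ hgen u' v' hu' hv' N _ h4
  have hN0 : N ≠ 0 := by omega
  have hJN : ((maximalIdeal A).map (algebraMap A D)) ^ N ≤ (maximalIdeal A).map (algebraMap A D) :=
    Ideal.pow_le_self hN0
  have hσJ : ∀ (n : ℕ) (z : D), z ∈ ((maximalIdeal A).map (algebraMap A D)) ^ n →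
      σ z ∈ ((maximalIdeal A).map (algebraMap A D)) ^ n := by
    intro n z hz
    rw [← Ideal.map_pow] at hz ⊢
    exact map_mem_map σ _ hz
  have H4 : (2 : D) * algebraMap A D h = 1 := by
    have := congrArg (algebraMap A D) hh
    rwa [map_mul, map_ofNat, map_one] at this
  have H5 : algebraMap A D c₁ * algebraMap A D c₁ = 1 := by
    rw [← map_mul, hc₁, map_one]
  have H6 : algebraMap A D c₂ * algebraMap A D c₂ = 1 := by
    rw [← map_mul, hc₂, map_one]
  have H3 : (1 - algebraMap A D c₁ * algebraMap A D c₂) * algebraMap A D α' = 0 := by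
    have := congrArg (algebraMap A D) h7
    rwa [map_mul, map_sub, map_one, map_mul, map_zero] at this
  have H2 : algebraMap A D c₂ * u' * (algebraMap A D c₁ * v') - algebraMap A D α' =
      algebraMap A D δ + algebraMap A D c₂ * u' * σ p + algebraMap A D c₁ * v' * σ q + σ r := by
    have e := congrArg σ hx
    simp only [map_sub, map_mul, map_add, AlgHom.commutes, h5, h6] at e
    exact e
  have key : u' * v' - algebraMap A D α' =
      algebraMap A D (h * (1 + c₁ * c₂) * δ) +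
      u' * (algebraMap A D h * (p + algebraMap A D c₁ * σ p)) +
      v' * (algebraMap A D h * (q + algebraMap A D c₂ * σ q)) +
      algebraMap A D h * (r + algebraMap A D c₁ * algebraMap A D c₂ * σ r) := by
    rw [map_mul, map_mul, map_add, map_one, map_mul]
    linear_combination (algebraMap A D h) * hx +
      (algebraMap A D h * algebraMap A D c₁ * algebraMap A D c₂) * H2 +
      (algebraMap A D h * algebraMap A D c₁ * u' * σ p - u' * v' * algebraMap A D h) * H6 +
      (algebraMap A D h * algebraMap A D c₂ * v' * σ q -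
        u' * v' * algebraMap A D h * algebraMap A D c₂ * algebraMap A D c₂) * H5 +
      (algebraMap A D α' - u' * v') * H4 - algebraMap A D h * H3
  have hp' : algebraMap A D h * (p + algebraMap A D c₁ * σ p) ∈
      ((maximalIdeal A).map (algebraMap A D)) ^ N :=
    Ideal.mul_mem_left _ _ (add_mem hp (Ideal.mul_mem_left _ _ (hσJ N p hp)))
  have hq' : algebraMap A D h * (q + algebraMap A D c₂ * σ q) ∈
      ((maximalIdeal A).map (algebraMap A D)) ^ N :=
    Ideal.mul_mem_left _ _ (add_mem hq (Ideal.mul_mem_left _ _ (hσJ N q hq)))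
  have hr' : algebraMap A D h * (r + algebraMap A D c₁ * algebraMap A D c₂ * σ r) ∈
      ((maximalIdeal A).map (algebraMap A D)) ^ (N + 1) :=
    Ideal.mul_mem_left _ _ (add_mem hr (Ideal.mul_mem_left _ _ (hσJ (N + 1) r hr)))
  have hδ' : h * (1 + c₁ * c₂) * δ ∈ maximalIdeal A ^ N := Ideal.mul_mem_left _ _ hδ
  refine ⟨u' - algebraMap A D h * (q + algebraMap A D c₂ * σ q),
    v' - algebraMap A D h * (p + algebraMap A D c₁ * σ p), α' + h * (1 + c₁ * c₂) * δ,
    ?_, ?_, ?_, ?_, ?_, ?_, ?_, ?_, ?_, ?_⟩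
  · have e : u' - algebraMap A D h * (q + algebraMap A D c₂ * σ q) - u₀ =
        (u' - u₀) - algebraMap A D h * (q + algebraMap A D c₂ * σ q) := by ring
    rw [e]; exact sub_mem hu' (hJN hq')
  · have e : v' - algebraMap A D h * (p + algebraMap A D c₁ * σ p) - v₀ =
        (v' - v₀) - algebraMap A D h * (p + algebraMap A D c₁ * σ p) := by ring
    rw [e]; exact sub_mem hv' (hJN hp')
  · exact add_mem hα' (Ideal.pow_le_self hN0 hδ')
  · have e : (u' - algebraMap A D h * (q + algebraMap A D c₂ * σ q)) *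
        (v' - algebraMap A D h * (p + algebraMap A D c₁ * σ p)) -
        algebraMap A D (α' + h * (1 + c₁ * c₂) * δ) =
        algebraMap A D h * (r + algebraMap A D c₁ * algebraMap A D c₂ * σ r) +
        (algebraMap A D h * (q + algebraMap A D c₂ * σ q)) *
          (algebraMap A D h * (p + algebraMap A D c₁ * σ p)) := by
      rw [map_add]; linear_combination key
    rw [e]
    refine add_mem hr' ?_
    have h2 : (algebraMap A D h * (q + algebraMap A D c₂ * σ q)) *
        (algebraMap A D h * (p + algebraMap A D c₁ * σ p)) ∈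
        ((maximalIdeal A).map (algebraMap A D)) ^ (N + N) := by
      rw [pow_add]; exact Ideal.mul_mem_mul hq' hp'
    exact Ideal.pow_le_pow_right (by omega) h2
  · simp only [map_sub, map_mul, map_add, AlgHom.commutes, hσσ, h5]
    linear_combination (algebraMap A D h * σ q) * H6
  · simp only [map_sub, map_mul, map_add, AlgHom.commutes, hσσ, h6]
    linear_combination (algebraMap A D h * σ p) * H5
  · linear_combination h7 - (h * δ * c₂ * c₂) * hc₁ - (h * δ) * hc₂
  · have e : u' - algebraMap A D h * (q + algebraMap A D c₂ * σ q) - u' =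
        -(algebraMap A D h * (q + algebraMap A D c₂ * σ q)) := by ring
    rw [e]; exact neg_mem hq'
  · have e : v' - algebraMap A D h * (p + algebraMap A D c₁ * σ p) - v' =
        -(algebraMap A D h * (p + algebraMap A D c₁ * σ p)) := by ring
    rw [e]; exact neg_mem hp'
  · have e : α' + h * (1 + c₁ * c₂) * δ - α' = h * (1 + c₁ * c₂) * δ := by ring
    rw [e]; exact hδ'

/-- the equivariant approximation at stage `k` -/
def GoodE (A : Type u) [CommRing A] [IsLocalRing A] {D : Type u} [CommRing D] [Algebra A D]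
    (σ : D →ₐ[A] D) (c₁ c₂ : A) (u₀ v₀ : D) (k : ℕ) (t : D × D × A) : Prop :=
  t.1 - u₀ ∈ (maximalIdeal A).map (algebraMap A D) ∧
  t.2.1 - v₀ ∈ (maximalIdeal A).map (algebraMap A D) ∧ t.2.2 ∈ maximalIdeal A ∧
    t.1 * t.2.1 - algebraMap A D t.2.2 ∈ ((maximalIdeal A).map (algebraMap A D)) ^ (k + 1) ∧
    σ t.1 = algebraMap A D c₂ * t.1 ∧ σ t.2.1 = algebraMap A D c₁ * t.2.1 ∧
    (1 - c₁ * c₂) * t.2.2 = 0

theorem exists_seq_eq
    (hres : ∀ d : D, ∃ a : A, d - algebraMap A D a ∈ maximalIdeal D)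
    (σ : D →ₐ[A] D) (hσσ : ∀ s, σ (σ s) = s)
    (h c₁ c₂ : A) (hh : 2 * h = 1) (hc₁ : c₁ * c₁ = 1) (hc₂ : c₂ * c₂ = 1)
    (u₀ v₀ : D) (hσu : σ u₀ = algebraMap A D c₂ * u₀) (hσv : σ v₀ = algebraMap A D c₁ * v₀)
    (hgen : maximalIdeal D = Ideal.span {u₀, v₀} ⊔ (maximalIdeal A).map (algebraMap A D))
    (huv : u₀ * v₀ ∈ (maximalIdeal A).map (algebraMap A D)) :
    ∃ s : ℕ → D × D × A, ∀ k, GoodE A σ c₁ c₂ u₀ v₀ k (s k) ∧ Close A k (s k) (s (k + 1)) := by
  have hstep : ∀ (k : ℕ) (t : {t : D × D × A // GoodE A σ c₁ c₂ u₀ v₀ k t}),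
      ∃ t' : {t' : D × D × A // GoodE A σ c₁ c₂ u₀ v₀ (k + 1) t'}, Close A k t.1 t'.1 := by
    rintro k ⟨⟨u', v', α'⟩, h1, h2, h3, h4, h5, h6, h7⟩
    obtain ⟨u'', v'', α'', g1, g2, g3, g4, g5, g6, g7, g8, g9, g10⟩ :=
      exists_next_eq hres σ hσσ h c₁ c₂ hh hc₁ hc₂ u₀ v₀ hgen (k + 1) (by omega) u' v' α'
        h1 h2 h3 h4 h5 h6 h7
    exact ⟨⟨(u'', v'', α''), g1, g2, g3, g4, g5, g6, g7⟩, g8, g9, g10⟩
  choose next hnext using hstep
  have h0 : GoodE A σ c₁ c₂ u₀ v₀ 0 (u₀, v₀, 0) := by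
    refine ⟨by simp, by simp, zero_mem _, ?_, hσu, hσv, mul_zero _⟩
    simpa using huv
  let s : (k : ℕ) → {t : D × D × A // GoodE A σ c₁ c₂ u₀ v₀ k t} := fun k =>
    @Nat.rec (fun k => {t : D × D × A // GoodE A σ c₁ c₂ u₀ v₀ k t}) ⟨_, h0⟩
      (fun k t => next k t) k
  exact ⟨fun k => (s k).1, fun k => ⟨(s k).2, hnext k (s k)⟩⟩

end Approx

section Main

theorem main_abstract_eq
    (A : Type u) [CommRing A] [IsLocalRing A] [IsNoetherianRing A]
    [IsAdicComplete (maximalIdeal A) A]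
    (D : Type u) [CommRing D] [IsLocalRing D] [IsNoetherianRing D] [Algebra A D]
    [IsLocalHom (algebraMap A D)] [IsAdicComplete (maximalIdeal D) D]
    (hres : ∀ d : D, ∃ a : A, d - algebraMap A D a ∈ maximalIdeal D)
    (σ : D →ₐ[A] D) (hσσ : ∀ s, σ (σ s) = s)
    (h c₁ c₂ : A) (hh : 2 * h = 1) (hc₁ : c₁ * c₁ = 1) (hc₂ : c₂ * c₂ = 1)
    (u₀ v₀ : D) (hσu : σ u₀ = algebraMap A D c₂ * u₀) (hσv : σ v₀ = algebraMap A D c₁ * v₀)
    (huv : u₀ * v₀ ∈ (maximalIdeal A).map (algebraMap A D))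
    (hgen : maximalIdeal D = Ideal.span {u₀, v₀} ⊔ (maximalIdeal A).map (algebraMap A D)) :
    ∃ (t : A) (_ : t ∈ maximalIdeal A) (_ : (1 - c₁ * c₂) * t = 0)
      (ψ : (MvPowerSeries (Fin 2) A ⧸ Ideal.span
          {(MvPowerSeries.X 0 * MvPowerSeries.X 1 - MvPowerSeries.C t :
              MvPowerSeries (Fin 2) A)}) →ₐ[A] D),
      Function.Surjective ψ ∧
        σ (ψ (Ideal.Quotient.mk _ (MvPowerSeries.X 0))) =
          algebraMap A D c₂ * ψ (Ideal.Quotient.mk _ (MvPowerSeries.X 0)) ∧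
        σ (ψ (Ideal.Quotient.mk _ (MvPowerSeries.X 1))) =
          algebraMap A D c₁ * ψ (Ideal.Quotient.mk _ (MvPowerSeries.X 1)) := by
  classical
  have hJn : (maximalIdeal A).map (algebraMap A D) ≤ maximalIdeal D :=
    ((IsLocalRing.local_hom_TFAE (algebraMap A D)).out 0 2).mp ‹IsLocalHom (algebraMap A D)›
  obtain ⟨s, hs⟩ := exists_seq_eq hres σ hσσ h c₁ c₂ hh hc₁ hc₂ u₀ v₀ hσu hσv hgen huv
  have hpowA : ∀ (n : ℕ) (x : A), x ∈ maximalIdeal A ^ n → algebraMap A D x ∈ maximalIdeal D ^ n := by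
    intro n x hx
    have h1 : algebraMap A D x ∈ (maximalIdeal A ^ n).map (algebraMap A D) :=
      Ideal.mem_map_of_mem _ hx
    rw [Ideal.map_pow] at h1
    exact Ideal.pow_right_mono hJn n h1
  have hσloc : (maximalIdeal D).map (σ : D →+* D) ≤ maximalIdeal D := by
    rw [Ideal.map_le_iff_le_comap]
    intro x hx
    rw [Ideal.mem_comap, mem_maximalIdeal, mem_nonunits_iff]
    intro hu
    have h1 : IsUnit (σ (σ x)) := hu.map σ
    rw [hσσ] at h1
    exact (mem_nonunits_iff.mp ((mem_maximalIdeal x).mp hx)) h1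
  have hσm : ∀ (n : ℕ) (x : D), x ∈ maximalIdeal D ^ n → σ x ∈ maximalIdeal D ^ n := by
    intro n x hx
    have h1 : (σ : D →+* D) x ∈ (maximalIdeal D ^ n).map (σ : D →+* D) :=
      Ideal.mem_map_of_mem _ hx
    rw [Ideal.map_pow] at h1
    exact Ideal.pow_right_mono hσloc n h1
  obtain ⟨U, hU⟩ := exists_limit (maximalIdeal D) ((maximalIdeal A).map (algebraMap A D)) hJn
    (fun k => (s k).1) (fun k => (hs k).2.1)
  obtain ⟨V, hV⟩ := exists_limit (maximalIdeal D) ((maximalIdeal A).map (algebraMap A D)) hJn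
    (fun k => (s k).2.1) (fun k => (hs k).2.2.1)
  obtain ⟨t, ht⟩ := exists_limit (maximalIdeal A) (maximalIdeal A) le_rfl
    (fun k => (s k).2.2) (fun k => (hs k).2.2.2)
  have ht0 : t ∈ maximalIdeal A := by
    have h1 : (s 1).2.2 - t ∈ maximalIdeal A ^ 1 := ht 1
    rw [pow_one] at h1
    have h2 : (s 1).2.2 ∈ maximalIdeal A := (hs 1).1.2.2.1
    have e : t = (s 1).2.2 - ((s 1).2.2 - t) := by ring
    rw [e]; exact sub_mem h2 h1
  have ht7 : (1 - c₁ * c₂) * t = 0 := by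
    apply Groth.Agent.Helper2.AdicUniv.eq_zero_of_forall_mem_pow (maximalIdeal A)
    intro n
    have h1 : (s n).2.2 - t ∈ maximalIdeal A ^ n := ht n
    have h2 : (1 - c₁ * c₂) * (s n).2.2 = 0 := (hs n).1.2.2.2.2.2.2
    have e : (1 - c₁ * c₂) * t = -((1 - c₁ * c₂) * ((s n).2.2 - t)) := by
      linear_combination h2
    rw [e]
    exact neg_mem (Ideal.mul_mem_left _ _ h1)
  have hUJ : U - u₀ ∈ (maximalIdeal A).map (algebraMap A D) := by
    apply Groth.Agent.Helper8.Node.mem_of_forall_mem_sup_pow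
    intro N
    have h1 : (s N).1 - u₀ ∈ (maximalIdeal A).map (algebraMap A D) := (hs N).1.1
    have h2 : (s N).1 - U ∈ maximalIdeal D ^ N := hU N
    have e : U - u₀ = ((s N).1 - u₀) - ((s N).1 - U) := by ring
    rw [e]
    exact sub_mem (Ideal.mem_sup_left h1) (Ideal.mem_sup_right h2)
  have hVJ : V - v₀ ∈ (maximalIdeal A).map (algebraMap A D) := by
    apply Groth.Agent.Helper8.Node.mem_of_forall_mem_sup_pow
    intro N
    have h1 : (s N).2.1 - v₀ ∈ (maximalIdeal A).map (algebraMap A D) := (hs N).1.2.1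
    have h2 : (s N).2.1 - V ∈ maximalIdeal D ^ N := hV N
    have e : V - v₀ = ((s N).2.1 - v₀) - ((s N).2.1 - V) := by ring
    rw [e]
    exact sub_mem (Ideal.mem_sup_left h1) (Ideal.mem_sup_right h2)
  have hu₀n : u₀ ∈ maximalIdeal D := by
    rw [hgen]; exact Ideal.mem_sup_left (Ideal.subset_span (by simp))
  have hv₀n : v₀ ∈ maximalIdeal D := by
    rw [hgen]; exact Ideal.mem_sup_left (Ideal.subset_span (by simp))
  have hUn : U ∈ maximalIdeal D := by
    have e : U = (U - u₀) + u₀ := by ring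
    rw [e]; exact add_mem (hJn hUJ) hu₀n
  have hVn : V ∈ maximalIdeal D := by
    have e : V = (V - v₀) + v₀ := by ring
    rw [e]; exact add_mem (hJn hVJ) hv₀n
  have hUV : U * V = algebraMap A D t := by
    rw [← sub_eq_zero]
    apply Groth.Agent.Helper2.AdicUniv.eq_zero_of_forall_mem_pow (maximalIdeal D)
    intro n
    have h1 : (s n).1 - U ∈ maximalIdeal D ^ n := hU n
    have h2 : (s n).2.1 - V ∈ maximalIdeal D ^ n := hV n
    have h3 : algebraMap A D ((s n).2.2 - t) ∈ maximalIdeal D ^ n := hpowA n _ (ht n)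
    have h4 : (s n).1 * (s n).2.1 - algebraMap A D (s n).2.2 ∈ maximalIdeal D ^ n :=
      Ideal.pow_le_pow_right (Nat.le_succ n) (Ideal.pow_right_mono hJn _ (hs n).1.2.2.2.1)
    have e : U * V - algebraMap A D t = ((s n).1 * (s n).2.1 - algebraMap A D (s n).2.2) -
        ((s n).1 - U) * (s n).2.1 - (s n).1 * ((s n).2.1 - V) +
        ((s n).1 - U) * ((s n).2.1 - V) + algebraMap A D ((s n).2.2 - t) := by
      rw [map_sub]; ring
    rw [e]
    exact add_mem (add_mem (sub_mem (sub_mem h4 (Ideal.mul_mem_right _ _ h1))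
      (Ideal.mul_mem_left _ _ h2)) (Ideal.mul_mem_left _ _ h2)) h3
  have hσU : σ U = algebraMap A D c₂ * U := by
    rw [← sub_eq_zero]
    apply Groth.Agent.Helper2.AdicUniv.eq_zero_of_forall_mem_pow (maximalIdeal D)
    intro n
    have h1 : (s n).1 - U ∈ maximalIdeal D ^ n := hU n
    have h2 : σ (s n).1 = algebraMap A D c₂ * (s n).1 := (hs n).1.2.2.2.2.1
    have e : σ U - algebraMap A D c₂ * U =
        algebraMap A D c₂ * ((s n).1 - U) - σ ((s n).1 - U) := by
      rw [map_sub, h2]; ring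
    rw [e]
    exact sub_mem (Ideal.mul_mem_left _ _ h1) (hσm n _ h1)
  have hσV : σ V = algebraMap A D c₁ * V := by
    rw [← sub_eq_zero]
    apply Groth.Agent.Helper2.AdicUniv.eq_zero_of_forall_mem_pow (maximalIdeal D)
    intro n
    have h1 : (s n).2.1 - V ∈ maximalIdeal D ^ n := hV n
    have h2 : σ (s n).2.1 = algebraMap A D c₁ * (s n).2.1 := (hs n).1.2.2.2.2.2.1
    have e : σ V - algebraMap A D c₁ * V =
        algebraMap A D c₁ * ((s n).2.1 - V) - σ ((s n).2.1 - V) := by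
      rw [map_sub, h2]; ring
    rw [e]
    exact sub_mem (Ideal.mul_mem_left _ _ h1) (hσm n _ h1)
  obtain ⟨Ψ, hΨ⟩ := Groth.Agent.Helper8.CohenStr.exists_algHom A D 2 ![U, V] (by
    intro i
    fin_cases i
    · exact hUn
    · exact hVn)
  have hΨ0 : Ψ (MvPowerSeries.X 0) = U := hΨ 0
  have hΨ1 : Ψ (MvPowerSeries.X 1) = V := hΨ 1
  have hΨC : ∀ a : A, Ψ (MvPowerSeries.C a) = algebraMap A D a := by
    intro a
    rw [MvPowerSeries.c_eq_algebraMap]
    exact Ψ.commutes a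
  have hker : Ideal.span {(MvPowerSeries.X 0 * MvPowerSeries.X 1 - MvPowerSeries.C t :
      MvPowerSeries (Fin 2) A)} ≤ RingHom.ker Ψ.toRingHom := by
    rw [Ideal.span_singleton_le_iff_mem, RingHom.mem_ker]
    show Ψ (MvPowerSeries.X 0 * MvPowerSeries.X 1 - MvPowerSeries.C t) = 0
    rw [map_sub, map_mul, hΨ0, hΨ1, hΨC, hUV, sub_self]
  let ψ₀ : (MvPowerSeries (Fin 2) A ⧸ Ideal.span
      {(MvPowerSeries.X 0 * MvPowerSeries.X 1 - MvPowerSeries.C t :
        MvPowerSeries (Fin 2) A)}) →ₐ[A] D :=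
    Ideal.Quotient.liftₐ _ Ψ (fun a ha => RingHom.mem_ker.mp (hker ha))
  have hψ₀ : ∀ x, ψ₀ (Ideal.Quotient.mk _ x) = Ψ x := fun x => rfl
  have hJle : (maximalIdeal A).map (algebraMap A D) ≤
      (maximalIdeal (MvPowerSeries (Fin 2) A)).map Ψ.toRingHom := by
    rw [Ideal.map_le_iff_le_comap]
    intro a ha
    rw [Ideal.mem_comap]
    have e : algebraMap A D a = Ψ.toRingHom (MvPowerSeries.C a) := (hΨC a).symm
    rw [e]
    apply Ideal.mem_map_of_mem
    rw [mem_maximalIdeal_ps_iff, MvPowerSeries.constantCoeff_C]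
    exact ha
  have hX : ∀ i : Fin 2, Ψ (MvPowerSeries.X i) ∈
      (maximalIdeal (MvPowerSeries (Fin 2) A)).map Ψ.toRingHom := by
    intro i
    have h1 : (MvPowerSeries.X i : MvPowerSeries (Fin 2) A) ∈
        maximalIdeal (MvPowerSeries (Fin 2) A) := by
      rw [mem_maximalIdeal_ps_iff, MvPowerSeries.constantCoeff_X]
      exact zero_mem _
    exact Ideal.mem_map_of_mem Ψ.toRingHom h1
  have hmap : (maximalIdeal (MvPowerSeries (Fin 2) A)).map Ψ.toRingHom = maximalIdeal D := by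
    apply le_antisymm
    · rw [Ideal.map_le_iff_le_comap]
      intro x hx
      rw [Ideal.mem_comap]
      obtain ⟨E, G, hEG⟩ := Groth.Agent.Helper8.ThickNode.exists_decomp x
      have hc : MvPowerSeries.constantCoeff x ∈ maximalIdeal A :=
        (mem_maximalIdeal_ps_iff x).mp hx
      show Ψ x ∈ maximalIdeal D
      rw [hEG, map_add, map_add, map_mul, map_mul, hΨ0, hΨ1, hΨC]
      exact add_mem (add_mem (hJn (Ideal.mem_map_of_mem _ hc))
        (Ideal.mul_mem_right _ _ hUn)) (Ideal.mul_mem_right _ _ hVn)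
    · rw [hgen, sup_le_iff, Ideal.span_le, Set.insert_subset_iff, Set.singleton_subset_iff]
      refine ⟨⟨?_, ?_⟩, hJle⟩
      · have e : u₀ = Ψ (MvPowerSeries.X 0) - (U - u₀) := by rw [hΨ0]; ring
        rw [e]
        exact sub_mem (hX 0) (hJle hUJ)
      · have e : v₀ = Ψ (MvPowerSeries.X 1) - (V - v₀) := by rw [hΨ1]; ring
        rw [e]
        exact sub_mem (hX 1) (hJle hVJ)
  have hΨsurj : Function.Surjective Ψ.toRingHom := by
    haveI hPc : IsPrecomplete (maximalIdeal (MvPowerSeries (Fin 2) A))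
        (MvPowerSeries (Fin 2) A) :=
      Groth.Agent.Helper3.ArtFunLib.isPrecomplete_ps_local
    haveI : IsHausdorff ((maximalIdeal (MvPowerSeries (Fin 2) A)).map Ψ.toRingHom) D := by
      rw [hmap]; infer_instance
    apply surjective_of_mk_map_comp_surjective Ψ.toRingHom
      (I := maximalIdeal (MvPowerSeries (Fin 2) A))
    intro y
    obtain ⟨d, rfl⟩ := Ideal.Quotient.mk_surjective y
    obtain ⟨a, ha⟩ := hres d
    refine ⟨MvPowerSeries.C a, ?_⟩
    rw [RingHom.comp_apply, Ideal.Quotient.eq, hmap]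
    show Ψ (MvPowerSeries.C a) - d ∈ maximalIdeal D
    rw [hΨC]
    have e : algebraMap A D a - d = -(d - algebraMap A D a) := by ring
    rw [e]; exact neg_mem ha
  refine ⟨t, ht0, ht7, ψ₀, ?_, ?_, ?_⟩
  · intro d
    obtain ⟨x, hx⟩ := hΨsurj d
    exact ⟨Ideal.Quotient.mk _ x, hx⟩
  · rw [hψ₀, hΨ0]; exact hσU
  · rw [hψ₀, hΨ1]; exact hσV

end Main

section Inj

theorem injective_of_flat_of_fibre_R
    (A : Type u) [CommRing A] [IsLocalRing A] [IsNoetherianRing A]
    (D : Type u) [CommRing D] [IsLocalRing D] [Algebra A D]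
    [IsLocalHom (algebraMap A D)] [Module.Flat A D]
    (K : Type u) [Field K] (ρ₀ : A →+* K) (hρ₀s : Function.Surjective ρ₀)
    (t : A) (ht : t ∈ maximalIdeal A)
    (ψ : (MvPowerSeries (Fin 2) A ⧸ Ideal.span
          {(MvPowerSeries.X 0 * MvPowerSeries.X 1 - MvPowerSeries.C t :
              MvPowerSeries (Fin 2) A)}) →ₐ[A] D)
    (hψ : Function.Surjective ψ)
    (ε : D →+* R0 K) (hε : Function.Surjective ε)
    (hεm : ∀ μ ∈ maximalIdeal A, ε (algebraMap A D μ) = 0) :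
    Function.Injective ψ := by
  classical
  have hfg : (maximalIdeal A).FG := IsNoetherian.noetherian _
  have hρ₀k : RingHom.ker ρ₀ = maximalIdeal A :=
    IsLocalRing.eq_maximalIdeal (RingHom.ker_isMaximal_of_surjective ρ₀ hρ₀s)
  have hkfg : (RingHom.ker ρ₀).FG := by rw [hρ₀k]; exact hfg
  let g : MvPowerSeries (Fin 2) A := MvPowerSeries.X 0 * MvPowerSeries.X 1 - MvPowerSeries.C t
  let ρ : MvPowerSeries (Fin 2) A →+* MvPowerSeries (Fin 2) K := MvPowerSeries.map ρ₀
  let θ₁ : MvPowerSeries (Fin 2) A →+* R0 K := (Ideal.Quotient.mk _).comp ρ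
  have hθ₁s : Function.Surjective θ₁ :=
    Ideal.Quotient.mk_surjective.comp (map_surjective_of_surjective ρ₀ hρ₀s)
  let θ₂ : MvPowerSeries (Fin 2) A →+* R0 K :=
    ε.comp ((ψ : (MvPowerSeries (Fin 2) A ⧸ Ideal.span {g}) →+* D).comp (Ideal.Quotient.mk _))
  have hθ₂ : ∀ f, θ₂ f = ε (ψ (Ideal.Quotient.mk _ f)) := fun f => rfl
  have hθ₂s : Function.Surjective θ₂ := by
    intro y
    obtain ⟨d, rfl⟩ := hε y
    obtain ⟨q, rfl⟩ := hψ d
    obtain ⟨f, rfl⟩ := Ideal.Quotient.mk_surjective q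
    exact ⟨f, rfl⟩
  have hmapC : (maximalIdeal A).map (MvPowerSeries.C : A →+* MvPowerSeries (Fin 2) A) =
      (maximalIdeal A).map (algebraMap A (MvPowerSeries (Fin 2) A)) := by
    rw [MvPowerSeries.c_eq_algebraMap]
  have hQcomp : (Ideal.Quotient.mk (Ideal.span {g})).comp
      (algebraMap A (MvPowerSeries (Fin 2) A)) =
      algebraMap A (MvPowerSeries (Fin 2) A ⧸ Ideal.span {g}) := rfl
  have hmapQ : ((maximalIdeal A).map (algebraMap A (MvPowerSeries (Fin 2) A))).map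
      (Ideal.Quotient.mk (Ideal.span {g})) =
      (maximalIdeal A).map (algebraMap A (MvPowerSeries (Fin 2) A ⧸ Ideal.span {g})) := by
    rw [Ideal.map_map, hQcomp]
  have hmker : (maximalIdeal A).map (algebraMap A (MvPowerSeries (Fin 2) A)) ≤
      RingHom.ker θ₂ := by
    rw [Ideal.map_le_iff_le_comap]
    intro μ hμ
    rw [Ideal.mem_comap, RingHom.mem_ker, hθ₂]
    have e : (Ideal.Quotient.mk (Ideal.span {g})) (algebraMap A (MvPowerSeries (Fin 2) A) μ) =
        algebraMap A (MvPowerSeries (Fin 2) A ⧸ Ideal.span {g}) μ := rfl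
    rw [e, ψ.commutes]
    exact hεm μ hμ
  have hCt : (MvPowerSeries.C t : MvPowerSeries (Fin 2) A) ∈
      (maximalIdeal A).map (algebraMap A (MvPowerSeries (Fin 2) A)) := by
    rw [← hmapC]; exact Ideal.mem_map_of_mem _ ht
  have hXYker : (MvPowerSeries.X 0 * MvPowerSeries.X 1 : MvPowerSeries (Fin 2) A) ∈
      RingHom.ker θ₂ := by
    have e : (MvPowerSeries.X 0 * MvPowerSeries.X 1 : MvPowerSeries (Fin 2) A) =
        g + MvPowerSeries.C t := by
      simp only [g]; ring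
    rw [e]
    refine add_mem ?_ (hmker hCt)
    have hz : (Ideal.Quotient.mk (Ideal.span {g})) g = 0 :=
      Ideal.Quotient.eq_zero_iff_mem.mpr (Ideal.subset_span (Set.mem_singleton _))
    rw [RingHom.mem_ker, hθ₂, hz, map_zero, map_zero]
  have hker12 : RingHom.ker θ₁ ≤ RingHom.ker θ₂ := by
    intro f hf
    rw [RingHom.mem_ker] at hf
    have h1 : ρ f ∈ Ideal.span {(MvPowerSeries.X 0 * MvPowerSeries.X 1 :
        MvPowerSeries (Fin 2) K)} := Ideal.Quotient.eq_zero_iff_mem.mp hf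
    have h2 := mem_sup_of_map_mem ρ₀ hρ₀s hkfg f h1
    rw [hρ₀k, hmapC] at h2
    exact (sup_le hmker ((Ideal.span_singleton_le_iff_mem _).mpr hXYker)) h2
  let τ : R0 K →+* R0 K := θ₁.liftOfSurjective hθ₁s ⟨θ₂, hker12⟩
  have hτ : ∀ f, τ (θ₁ f) = θ₂ f := fun f =>
    θ₁.liftOfSurjective_comp_apply hθ₁s ⟨θ₂, hker12⟩ f
  have hτs : Function.Surjective τ := by
    intro y
    obtain ⟨f, rfl⟩ := hθ₂s y
    exact ⟨θ₁ f, hτ f⟩
  have hτi : Function.Injective τ := injective_of_surjective_endo τ hτs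
  have hker : RingHom.ker (ψ : (MvPowerSeries (Fin 2) A ⧸ Ideal.span {g}) →+* D) ≤
      (maximalIdeal A).map (algebraMap A (MvPowerSeries (Fin 2) A ⧸ Ideal.span {g})) := by
    intro q hq
    obtain ⟨f, rfl⟩ := Ideal.Quotient.mk_surjective q
    have h1 : θ₂ f = 0 := by
      rw [RingHom.mem_ker] at hq
      rw [hθ₂, show ψ (Ideal.Quotient.mk _ f) = 0 from hq, map_zero]
    have h2 : θ₁ f = 0 := by
      apply hτi; rw [hτ, h1, map_zero]
    have h3 : ρ f ∈ Ideal.span {(MvPowerSeries.X 0 * MvPowerSeries.X 1 :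
        MvPowerSeries (Fin 2) K)} := Ideal.Quotient.eq_zero_iff_mem.mp h2
    have h4 := mem_sup_of_map_mem ρ₀ hρ₀s hkfg f h3
    rw [hρ₀k, hmapC] at h4
    have h5 := Ideal.mem_map_of_mem (Ideal.Quotient.mk (Ideal.span {g})) h4
    rw [Ideal.map_sup, hmapQ, Ideal.map_span, Set.image_singleton] at h5
    have h6 : Ideal.span {Ideal.Quotient.mk (Ideal.span {g})
        (MvPowerSeries.X 0 * MvPowerSeries.X 1 : MvPowerSeries (Fin 2) A)} ≤
        (maximalIdeal A).map (algebraMap A (MvPowerSeries (Fin 2) A ⧸ Ideal.span {g})) := by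
      rw [Ideal.span_singleton_le_iff_mem]
      have e : Ideal.Quotient.mk (Ideal.span {g})
          (MvPowerSeries.X 0 * MvPowerSeries.X 1 : MvPowerSeries (Fin 2) A) =
          Ideal.Quotient.mk (Ideal.span {g}) (MvPowerSeries.C t) := by
        rw [Ideal.Quotient.eq]; exact Ideal.subset_span (Set.mem_singleton_iff.mpr rfl)
      rw [e, ← hmapQ]
      exact Ideal.mem_map_of_mem _ hCt
    exact (sup_le le_rfl h6) h5
  haveI : Nontrivial (MvPowerSeries (Fin 2) A ⧸ Ideal.span {g}) := hψ.nontrivial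
  haveI : IsLocalRing (MvPowerSeries (Fin 2) A ⧸ Ideal.span {g}) :=
    IsLocalRing.of_surjective' (Ideal.Quotient.mk _) Ideal.Quotient.mk_surjective
  have hcomp : (ψ : (MvPowerSeries (Fin 2) A ⧸ Ideal.span {g}) →+* D).comp
      (algebraMap A (MvPowerSeries (Fin 2) A ⧸ Ideal.span {g})) = algebraMap A D :=
    ψ.comp_algebraMap
  haveI : IsLocalHom ((ψ : (MvPowerSeries (Fin 2) A ⧸ Ideal.span {g}) →+* D).comp
      (algebraMap A (MvPowerSeries (Fin 2) A ⧸ Ideal.span {g}))) := by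
    rw [hcomp]; infer_instance
  haveI : IsLocalHom (algebraMap A (MvPowerSeries (Fin 2) A ⧸ Ideal.span {g})) :=
    isLocalHom_of_comp _ (ψ : (MvPowerSeries (Fin 2) A ⧸ Ideal.span {g}) →+* D)
  have hflat : ((ψ : (MvPowerSeries (Fin 2) A ⧸ Ideal.span {g}) →+* D).comp
      (algebraMap A (MvPowerSeries (Fin 2) A ⧸ Ideal.span {g}))).Flat := by
    rw [hcomp]; exact RingHom.flat_algebraMap_iff.mpr inferInstance
  exact Groth.Agent.Lib.Helper4.FibreIso1.injective_of_flat_of_ker_le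
    (algebraMap A (MvPowerSeries (Fin 2) A ⧸ Ideal.span {g}))
    (ψ : (MvPowerSeries (Fin 2) A ⧸ Ideal.span {g}) →+* D) hψ hflat hker

end Inj

end Groth.Agent.Helper1.NodeEq
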