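import Mathlib
import Groth.Prelude.Def_W4c1arstab1appArSing
import Groth.Agent.Lib.Helper9.ArNF2
import Groth.Agent.Lib.Helper1.NodeCpl2

/-!
# The node `k[[x,y]]/(y² - x²)`: branches, maximal ideal, coordinates (helper1)
-/

set_option autoImplicit false
universe u

namespace Groth.Agent.Helper1.NodeEq

open Groth.Agent.Lib.Helper9.ArNF Groth.Agent.Lib.Helper9.ArNF2 Groth.Agent.Helper1.NodeCpl

section F

variable (k : Type u) [Field k]

/-- the node `k[[x,y]]/(y² - x²)` -/
abbrev F : Type u := ArSing.ring k 1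

/-- the branch coordinate `y - x` -/
noncomputable abbrev ub : F k := ArSing.y k 1 - ArSing.x k 1

/-- the branch coordinate `y + x` -/
noncomputable abbrev vb : F k := ArSing.y k 1 + ArSing.x k 1

theorem ub_mul_vb : ub k * vb k = 0 := by
  have h := y_sq k 1
  linear_combination h

/-- restriction to the branch `y = x` -/
noncomputable def piU : F k →+* PowerSeries k where
  toFun z := cA k 1 z + PowerSeries.X * cB k 1 z
  map_one' := by
    show cA k 1 1 + PowerSeries.X * cB k 1 1 = 1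
    have h1 : (1 : F k) = ArSing.xMap k 1 1 := (map_one _).symm
    rw [h1, cA_xMap, cB_xMap, mul_zero, add_zero]
  map_mul' := by
    intro z w
    show cA k 1 (z * w) + PowerSeries.X * cB k 1 (z * w) =
      (cA k 1 z + PowerSeries.X * cB k 1 z) * (cA k 1 w + PowerSeries.X * cB k 1 w)
    rw [cA_mul, cB_mul]
    ring
  map_zero' := by
    show cA k 1 0 + PowerSeries.X * cB k 1 0 = 0
    rw [map_zero, map_zero, mul_zero, add_zero]
  map_add' := by
    intro z w
    show cA k 1 (z + w) + PowerSeries.X * cB k 1 (z + w) =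
      (cA k 1 z + PowerSeries.X * cB k 1 z) + (cA k 1 w + PowerSeries.X * cB k 1 w)
    rw [map_add, map_add]
    ring

theorem piU_apply (z : F k) : piU k z = cA k 1 z + PowerSeries.X * cB k 1 z := rfl

/-- restriction to the branch `y = -x` -/
noncomputable def piV : F k →+* PowerSeries k where
  toFun z := cA k 1 z - PowerSeries.X * cB k 1 z
  map_one' := by
    show cA k 1 1 - PowerSeries.X * cB k 1 1 = 1
    have h1 : (1 : F k) = ArSing.xMap k 1 1 := (map_one _).symm
    rw [h1, cA_xMap, cB_xMap, mul_zero, sub_zero]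
  map_mul' := by
    intro z w
    show cA k 1 (z * w) - PowerSeries.X * cB k 1 (z * w) =
      (cA k 1 z - PowerSeries.X * cB k 1 z) * (cA k 1 w - PowerSeries.X * cB k 1 w)
    rw [cA_mul, cB_mul]
    ring
  map_zero' := by
    show cA k 1 0 - PowerSeries.X * cB k 1 0 = 0
    rw [map_zero, map_zero, mul_zero, sub_zero]
  map_add' := by
    intro z w
    show cA k 1 (z + w) - PowerSeries.X * cB k 1 (z + w) =
      (cA k 1 z - PowerSeries.X * cB k 1 z) + (cA k 1 w - PowerSeries.X * cB k 1 w)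
    rw [map_add, map_add]
    ring

theorem piV_apply (z : F k) : piV k z = cA k 1 z - PowerSeries.X * cB k 1 z := rfl

theorem piU_ub : piU k (ub k) = 0 := by
  rw [piU_apply, map_sub, map_sub, cA_y, cA_x, cB_y, cB_x]
  ring

theorem piU_vb : piU k (vb k) = PowerSeries.X + PowerSeries.X := by
  rw [piU_apply, map_add, map_add, cA_y, cA_x, cB_y, cB_x]
  ring

theorem piV_vb : piV k (vb k) = 0 := by
  rw [piV_apply, map_add, map_add, cA_y, cA_x, cB_y, cB_x]
  ring

theorem piV_ub : piV k (ub k) = -(PowerSeries.X + PowerSeries.X) := by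
  rw [piV_apply, map_sub, map_sub, cA_y, cA_x, cB_y, cB_x]
  ring

theorem ker_piU : RingHom.ker (piU k) = Ideal.span {ub k} := by
  apply le_antisymm
  · intro z hz
    obtain ⟨a, b, rfl⟩ := exists_nf k 1 z
    rw [RingHom.mem_ker, piU_apply, cA_nf, cB_nf] at hz
    have hA : a = -(PowerSeries.X * b) := eq_neg_of_add_eq_zero_left hz
    rw [Ideal.mem_span_singleton']
    refine ⟨ArSing.xMap k 1 b, ?_⟩
    rw [hA, map_neg, map_mul, xMap_X]
    ring
  · rw [Ideal.span_singleton_le_iff_mem, RingHom.mem_ker]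
    exact piU_ub k

theorem ker_piV : RingHom.ker (piV k) = Ideal.span {vb k} := by
  apply le_antisymm
  · intro z hz
    obtain ⟨a, b, rfl⟩ := exists_nf k 1 z
    rw [RingHom.mem_ker, piV_apply, cA_nf, cB_nf] at hz
    have hA : a = PowerSeries.X * b := sub_eq_zero.mp hz
    rw [Ideal.mem_span_singleton']
    refine ⟨ArSing.xMap k 1 b, ?_⟩
    rw [hA, map_mul, xMap_X]
    ring
  · rw [Ideal.span_singleton_le_iff_mem, RingHom.mem_ker]
    exact piV_vb k

theorem span_ub_isPrime : (Ideal.span {ub k}).IsPrime := by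
  rw [← ker_piU]; exact RingHom.ker_isPrime _

theorem span_vb_isPrime : (Ideal.span {vb k}).IsPrime := by
  rw [← ker_piV]; exact RingHom.ker_isPrime _

theorem X_add_X_ne_zero (h2 : (2 : k) ≠ 0) :
    (PowerSeries.X + PowerSeries.X : PowerSeries k) ≠ 0 := by
  intro h
  have h1 := congrArg (PowerSeries.coeff 1) h
  rw [map_add, PowerSeries.coeff_one_X, map_zero, one_add_one_eq_two] at h1
  exact h2 h1

theorem vb_notMem (h2 : (2 : k) ≠ 0) : vb k ∉ Ideal.span {ub k} := by
  rw [← ker_piU, RingHom.mem_ker, piU_vb]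
  exact X_add_X_ne_zero k h2

theorem ub_notMem (h2 : (2 : k) ≠ 0) : ub k ∉ Ideal.span {vb k} := by
  rw [← ker_piV, RingHom.mem_ker, piV_ub, neg_eq_zero]
  exact X_add_X_ne_zero k h2

theorem ub_ne_zero : ub k ≠ 0 := by
  intro h
  have h1 := congrArg (cB k 1) h
  rw [map_sub, cB_y, cB_x, sub_zero, map_zero] at h1
  exact one_ne_zero h1

theorem vb_ne_zero : vb k ≠ 0 := by
  intro h
  have h1 := congrArg (cB k 1) h
  rw [map_add, cB_y, cB_x, add_zero, map_zero] at h1
  exact one_ne_zero h1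

theorem eps_ub : eps k 1 (ub k) = 0 := by
  rw [map_sub, eps_y, eps_x, sub_zero]

theorem eps_vb : eps k 1 (vb k) = 0 := by
  rw [map_add, eps_y, eps_x, add_zero]

theorem isUnit_of_eps_ne_zero (z : F k) (h : eps k 1 z ≠ 0) : IsUnit z :=
  IsLocalRing.notMem_maximalIdeal.mp (fun hm => h ((mem_maximalIdeal_iff k 1 z).mp hm))

theorem exists_decomp_F (h : k) (hh : 2 * h = 1) (z : F k) (hz : eps k 1 z = 0) :
    ∃ p q : F k, z = ub k * p + vb k * q := by
  obtain ⟨a, b, rfl⟩ := exists_nf k 1 z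
  rw [map_add, map_mul, eps_y, mul_zero, add_zero, eps_xMap] at hz
  obtain ⟨a', rfl⟩ := PowerSeries.X_dvd_iff.mpr hz
  have hF : (2 : F k) * algebraMap k (F k) h = 1 := by
    have := congrArg (algebraMap k (F k)) hh
    rwa [map_mul, map_ofNat, map_one] at this
  refine ⟨algebraMap k (F k) h * (ArSing.xMap k 1 b - ArSing.xMap k 1 a'),
    algebraMap k (F k) h * (ArSing.xMap k 1 b + ArSing.xMap k 1 a'), ?_⟩
  rw [map_mul, xMap_X]
  linear_combination
    (-(ArSing.x k 1 * ArSing.xMap k 1 a' + ArSing.xMap k 1 b * ArSing.y k 1)) * hF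

end F

section Coord

variable (k : Type u) [Field k] (h : k)

/-- the substitution `X0 ↦ (y - x)/2, X1 ↦ (y + x)/2` -/
noncomputable def aSub : Fin 2 → MvPowerSeries (Fin 2) k :=
  ![MvPowerSeries.C h * (MvPowerSeries.X 1 - MvPowerSeries.X 0),
    MvPowerSeries.C h * (MvPowerSeries.X 1 + MvPowerSeries.X 0)]

/-- the substitution `x ↦ X1 - X0, y ↦ X1 + X0` -/
noncomputable def bSub : Fin 2 → MvPowerSeries (Fin 2) k :=
  ![MvPowerSeries.X 1 - MvPowerSeries.X 0, MvPowerSeries.X 1 + MvPowerSeries.X 0]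

theorem hasSubst_aSub : MvPowerSeries.HasSubst (aSub k h) := by
  apply MvPowerSeries.hasSubst_of_constantCoeff_zero
  intro s
  fin_cases s
  · show MvPowerSeries.constantCoeff
      (MvPowerSeries.C h * (MvPowerSeries.X 1 - MvPowerSeries.X 0) : MvPowerSeries (Fin 2) k) = 0
    rw [map_mul, map_sub, MvPowerSeries.constantCoeff_X, MvPowerSeries.constantCoeff_X,
      sub_zero, mul_zero]
  · show MvPowerSeries.constantCoeff
      (MvPowerSeries.C h * (MvPowerSeries.X 1 + MvPowerSeries.X 0) : MvPowerSeries (Fin 2) k) = 0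
    rw [map_mul, map_add, MvPowerSeries.constantCoeff_X, MvPowerSeries.constantCoeff_X,
      add_zero, mul_zero]

theorem hasSubst_bSub : MvPowerSeries.HasSubst (bSub k) := by
  apply MvPowerSeries.hasSubst_of_constantCoeff_zero
  intro s
  fin_cases s
  · show MvPowerSeries.constantCoeff
      (MvPowerSeries.X 1 - MvPowerSeries.X 0 : MvPowerSeries (Fin 2) k) = 0
    rw [map_sub, MvPowerSeries.constantCoeff_X, MvPowerSeries.constantCoeff_X, sub_zero]
  · show MvPowerSeries.constantCoeff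
      (MvPowerSeries.X 1 + MvPowerSeries.X 0 : MvPowerSeries (Fin 2) k) = 0
    rw [map_add, MvPowerSeries.constantCoeff_X, MvPowerSeries.constantCoeff_X, add_zero]

theorem two_mul_C (hh : 2 * h = 1) :
    (2 : MvPowerSeries (Fin 2) k) * MvPowerSeries.C h = 1 := by
  rw [← map_ofNat (MvPowerSeries.C (σ := Fin 2) (R := k)) 2, ← map_mul, hh, map_one]

theorem subst_aSub_bSub (hh : 2 * h = 1) (f : MvPowerSeries (Fin 2) k) :
    MvPowerSeries.substAlgHom (hasSubst_aSub k h)
      (MvPowerSeries.substAlgHom (R := k) (hasSubst_bSub k) f) = f := by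
  have hC := two_mul_C k h hh
  rw [MvPowerSeries.substAlgHom_comp_substAlgHom_apply, MvPowerSeries.substAlgHom_apply]
  have hfun : (fun s => MvPowerSeries.substAlgHom (R := k) (hasSubst_aSub k h) (bSub k s)) =
      (MvPowerSeries.X : Fin 2 → MvPowerSeries (Fin 2) k) := by
    funext s
    fin_cases s
    · show MvPowerSeries.substAlgHom (R := k) (hasSubst_aSub k h)
        (MvPowerSeries.X 1 - MvPowerSeries.X 0) = MvPowerSeries.X 0
      rw [map_sub, MvPowerSeries.substAlgHom_X, MvPowerSeries.substAlgHom_X]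
      show MvPowerSeries.C h * (MvPowerSeries.X 1 + MvPowerSeries.X 0) -
        MvPowerSeries.C h * (MvPowerSeries.X 1 - MvPowerSeries.X 0) = MvPowerSeries.X 0
      linear_combination (MvPowerSeries.X 0 : MvPowerSeries (Fin 2) k) * hC
    · show MvPowerSeries.substAlgHom (R := k) (hasSubst_aSub k h)
        (MvPowerSeries.X 1 + MvPowerSeries.X 0) = MvPowerSeries.X 1
      rw [map_add, MvPowerSeries.substAlgHom_X, MvPowerSeries.substAlgHom_X]
      show MvPowerSeries.C h * (MvPowerSeries.X 1 + MvPowerSeries.X 0) +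
        MvPowerSeries.C h * (MvPowerSeries.X 1 - MvPowerSeries.X 0) = MvPowerSeries.X 1
      linear_combination (MvPowerSeries.X 1 : MvPowerSeries (Fin 2) k) * hC
  rw [hfun, MvPowerSeries.subst_self]
  rfl

theorem substAlgHom_aSub_eqn (hh : 2 * h = 1) :
    MvPowerSeries.substAlgHom (R := k) (hasSubst_aSub k h) (ArSing.eqn k 1) =
      MvPowerSeries.X 0 * MvPowerSeries.X 1 := by
  have hC := two_mul_C k h hh
  rw [eqn_eq, map_sub, map_pow, map_pow, MvPowerSeries.substAlgHom_X,
    MvPowerSeries.substAlgHom_X]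
  show (MvPowerSeries.C h * (MvPowerSeries.X 1 + MvPowerSeries.X 0)) ^ 2 -
    (MvPowerSeries.C h * (MvPowerSeries.X 1 - MvPowerSeries.X 0)) ^ (1 + 1) =
      MvPowerSeries.X 0 * MvPowerSeries.X 1
  linear_combination ((MvPowerSeries.X 0 : MvPowerSeries (Fin 2) k) * MvPowerSeries.X 1 *
    (2 * MvPowerSeries.C h + 1)) * hC

theorem exists_surjective_F_R0 (h2 : (2 : k) ≠ 0) :
    ∃ Φ : F k →+* R0 k, Function.Surjective Φ := by
  have hh : 2 * (2 : k)⁻¹ = 1 := mul_inv_cancel₀ h2
  let Φ₀ : MvPowerSeries (Fin 2) k →+* MvPowerSeries (Fin 2) k :=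
    (MvPowerSeries.substAlgHom (R := k) (hasSubst_aSub k (2 : k)⁻¹)).toRingHom
  have hΦ₀ : ∀ f, Φ₀ f = MvPowerSeries.substAlgHom (R := k) (hasSubst_aSub k (2 : k)⁻¹) f :=
    fun f => rfl
  have hΦ₀s : Function.Surjective Φ₀ := fun f =>
    ⟨MvPowerSeries.substAlgHom (R := k) (hasSubst_bSub k) f, by
      rw [hΦ₀]; exact subst_aSub_bSub k _ hh f⟩
  have hkill : ∀ a ∈ Ideal.span {ArSing.eqn k 1},
      ((Ideal.Quotient.mk (Ideal.span
        {(MvPowerSeries.X 0 * MvPowerSeries.X 1 : MvPowerSeries (Fin 2) k)})).comp Φ₀) a = 0 := by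
    intro a ha
    obtain ⟨c, rfl⟩ := Ideal.mem_span_singleton'.mp ha
    rw [RingHom.comp_apply, Ideal.Quotient.eq_zero_iff_mem, map_mul, hΦ₀ (ArSing.eqn k 1),
      substAlgHom_aSub_eqn k _ hh]
    exact Ideal.mul_mem_left _ _ (Ideal.subset_span (Set.mem_singleton _))
  refine ⟨Ideal.Quotient.lift _ _ hkill, ?_⟩
  intro y
  obtain ⟨g, rfl⟩ := Ideal.Quotient.mk_surjective y
  obtain ⟨f, rfl⟩ := hΦ₀s g
  exact ⟨Ideal.Quotient.mk _ f, rfl⟩

end Coord

end Groth.Agent.Helper1.NodeEq
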