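import Mathlib
import Groth.Prelude.Def_W4c1arstab1appArSing
import Groth.Agent.Lib.Helper1.NodeEq1
import Groth.Agent.Lib.Helper1.NodeEq2

/-!
# Equivariant deformation of a node under an involution preserving the branches (helper1)
-/

set_option autoImplicit false
universe u

namespace Groth.Agent.Helper1.NodeEq

open IsLocalRing Groth.Agent.Lib.Helper9.ArNF Groth.Agent.Lib.Helper9.ArNF2
  Groth.Agent.Helper1.NodeCpl

theorem node_involution_core (k R S : Type u) [Field k] (h2 : (2 : k) ≠ 0)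
    [CommRing R] [IsLocalRing R] [IsNoetherianRing R] [IsAdicComplete (maximalIdeal R) R]
    [CommRing S] [IsLocalRing S] [IsNoetherianRing S] [IsAdicComplete (maximalIdeal S) S]
    [Algebra k R] [Algebra R S] [Algebra k S] [IsScalarTower k R S]
    [IsLocalHom (algebraMap R S)] [Module.Flat R S]
    (J : Ideal S) (hJ : J = Ideal.map (algebraMap R S) (maximalIdeal R))
    (E : S →+* F k) (hEs : Function.Surjective E) (hEk : RingHom.ker E = J)
    (hEa : ∀ c : k, E (algebraMap k S c) = algebraMap k (F k) c)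
    (σ : S ≃ₐ[R] S) (hσ : ∀ s, σ (σ s) = s)
    (hbr : ∀ P ∈ J.minimalPrimes, Ideal.map (σ : S →+* S) P = P) :
    ∃ (t : R) (ξ₁ ξ₂ : k), ξ₁ ^ 2 = 1 ∧ ξ₂ ^ 2 = 1 ∧ (ξ₁ = -ξ₂ → t = 0) ∧
      ∃ f : S ≃ₐ[R] (MvPowerSeries (Fin 2) R ⧸
          Ideal.span {(MvPowerSeries.X 0 * MvPowerSeries.X 1 - MvPowerSeries.C t :
            MvPowerSeries (Fin 2) R)}),
        f (σ (f.symm (Ideal.Quotient.mk _ (MvPowerSeries.X 0)))) =
          algebraMap k R ξ₂ • Ideal.Quotient.mk _ (MvPowerSeries.X 0) ∧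
        f (σ (f.symm (Ideal.Quotient.mk _ (MvPowerSeries.X 1)))) =
          algebraMap k R ξ₁ • Ideal.Quotient.mk _ (MvPowerSeries.X 1) := by
  classical
  have hEJ : ∀ s : S, E s = 0 ↔ s ∈ J := fun s => by rw [← hEk, RingHom.mem_ker]
  let εS : S →+* k := (eps k 1).comp E
  have hεS : ∀ s, εS s = eps k 1 (E s) := fun s => rfl
  have hεa : ∀ c : k, εS (algebraMap k S c) = c := fun c => by rw [hεS, hEa, eps_algebraMap]
  have hεs : Function.Surjective εS := fun c => ⟨algebraMap k S c, hεa c⟩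
  have hmS : maximalIdeal S = RingHom.ker εS :=
    (IsLocalRing.eq_maximalIdeal (RingHom.ker_isMaximal_of_surjective εS hεs)).symm
  have hmS' : ∀ s : S, s ∈ maximalIdeal S ↔ εS s = 0 := fun s => by
    rw [hmS, RingHom.mem_ker]
  have htow : ∀ c : k, algebraMap R S (algebraMap k R c) = algebraMap k S c := fun c =>
    (IsScalarTower.algebraMap_apply k R S c).symm
  have hres : ∀ d : S, ∃ a : R, d - algebraMap R S a ∈ maximalIdeal S := by
    intro d
    refine ⟨algebraMap k R (εS d), ?_⟩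
    rw [hmS', map_sub, htow, hεa, sub_self]
  let ρ₀ : R →+* k := εS.comp (algebraMap R S)
  have hρ₀s : Function.Surjective ρ₀ := fun c => ⟨algebraMap k R c, by
    show εS (algebraMap R S (algebraMap k R c)) = c
    rw [htow, hεa]⟩
  -- the involution
  let σ' : S →ₐ[R] S := σ.toAlgHom
  have hσk : ∀ c : k, σ (algebraMap k S c) = algebraMap k S c := by
    intro c
    rw [← htow]
    exact σ.commutes _
  have hσJ : ∀ s ∈ J, σ s ∈ J := by
    intro s hs
    rw [hJ] at hs ⊢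
    exact map_mem_map σ' (maximalIdeal R) hs
  have hσunit : ∀ s : S, s ∈ maximalIdeal S → σ s ∈ maximalIdeal S := by
    intro s hs
    rw [mem_maximalIdeal, mem_nonunits_iff] at hs ⊢
    intro hu
    apply hs
    have h1 : IsUnit (σ (σ s)) := hu.map σ
    rwa [hσ] at h1
  have hεσ : ∀ s : S, εS (σ s) = εS s := by
    intro s
    have h1 : s - algebraMap k S (εS s) ∈ maximalIdeal S := by
      rw [hmS', map_sub, hεa, sub_self]
    have h3 := hσunit _ h1
    rw [map_sub, hσk, hmS', map_sub, hεa, sub_eq_zero] at h3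
    exact h3
  -- lifts of the branch coordinates
  obtain ⟨u₁, hu₁⟩ := hEs (ub k)
  obtain ⟨v₁, hv₁⟩ := hEs (vb k)
  haveI hPuP : (Ideal.span {ub k}).IsPrime := span_ub_isPrime k
  haveI hPvP : (Ideal.span {vb k}).IsPrime := span_vb_isPrime k
  have hJE : ∀ (I : Ideal (F k)), J ≤ Ideal.comap E I := by
    intro I s hs
    rw [Ideal.mem_comap, (hEJ s).mpr hs]
    exact zero_mem _
  have huv₁ : u₁ * v₁ ∈ J := by
    rw [← hEJ, map_mul, hu₁, hv₁, ub_mul_vb]
  have hPu : Ideal.comap E (Ideal.span {ub k}) ∈ J.minimalPrimes := by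
    show ((Ideal.comap E (Ideal.span {ub k})).IsPrime ∧ J ≤ Ideal.comap E (Ideal.span {ub k})) ∧
      ∀ ⦃y : Ideal S⦄, (y.IsPrime ∧ J ≤ y) →
        y ≤ Ideal.comap E (Ideal.span {ub k}) → Ideal.comap E (Ideal.span {ub k}) ≤ y
    refine ⟨⟨Ideal.comap_isPrime E _, hJE _⟩, ?_⟩
    rintro Q ⟨hQ, hJQ⟩ hQP z hz
    have hu₁Q : u₁ ∈ Q := by
      rcases hQ.mem_or_mem (hJQ huv₁) with h | h
      · exact h
      · exfalso
        have h1 : v₁ ∈ Ideal.comap E (Ideal.span {ub k}) := hQP h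
        rw [Ideal.mem_comap, hv₁] at h1
        exact vb_notMem k h2 h1
    rw [Ideal.mem_comap, Ideal.mem_span_singleton'] at hz
    obtain ⟨g, hg⟩ := hz
    obtain ⟨G, rfl⟩ := hEs g
    have h3 : z - G * u₁ ∈ J := by
      rw [← hEJ, map_sub, map_mul, hu₁, hg, sub_self]
    have e : z = (z - G * u₁) + G * u₁ := by ring
    rw [e]
    exact add_mem (hJQ h3) (Ideal.mul_mem_left _ _ hu₁Q)
  have hPv : Ideal.comap E (Ideal.span {vb k}) ∈ J.minimalPrimes := by
    show ((Ideal.comap E (Ideal.span {vb k})).IsPrime ∧ J ≤ Ideal.comap E (Ideal.span {vb k})) ∧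
      ∀ ⦃y : Ideal S⦄, (y.IsPrime ∧ J ≤ y) →
        y ≤ Ideal.comap E (Ideal.span {vb k}) → Ideal.comap E (Ideal.span {vb k}) ≤ y
    refine ⟨⟨Ideal.comap_isPrime E _, hJE _⟩, ?_⟩
    rintro Q ⟨hQ, hJQ⟩ hQP z hz
    have hv₁Q : v₁ ∈ Q := by
      rcases hQ.mem_or_mem (hJQ huv₁) with h | h
      · exfalso
        have h1 : u₁ ∈ Ideal.comap E (Ideal.span {vb k}) := hQP h
        rw [Ideal.mem_comap, hu₁] at h1
        exact ub_notMem k h2 h1
      · exact h
    rw [Ideal.mem_comap, Ideal.mem_span_singleton'] at hz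
    obtain ⟨g, hg⟩ := hz
    obtain ⟨G, rfl⟩ := hEs g
    have h3 : z - G * v₁ ∈ J := by
      rw [← hEJ, map_sub, map_mul, hv₁, hg, sub_self]
    have e : z = (z - G * v₁) + G * v₁ := by ring
    rw [e]
    exact add_mem (hJQ h3) (Ideal.mul_mem_left _ _ hv₁Q)
  have hσPu : ∀ s ∈ Ideal.comap E (Ideal.span {ub k}),
      σ s ∈ Ideal.comap E (Ideal.span {ub k}) := by
    intro s hs
    have h1 := Ideal.mem_map_of_mem (σ : S →+* S) hs
    rw [hbr _ hPu] at h1
    exact h1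
  have hσPv : ∀ s ∈ Ideal.comap E (Ideal.span {vb k}),
      σ s ∈ Ideal.comap E (Ideal.span {vb k}) := by
    intro s hs
    have h1 := Ideal.mem_map_of_mem (σ : S →+* S) hs
    rw [hbr _ hPv] at h1
    exact h1
  obtain ⟨gu, hgu⟩ : ∃ g : F k, g * ub k = E (σ u₁) := by
    have h1 : σ u₁ ∈ Ideal.comap E (Ideal.span {ub k}) := hσPu u₁ (by
      rw [Ideal.mem_comap, hu₁]; exact Ideal.subset_span (Set.mem_singleton _))
    rw [Ideal.mem_comap, Ideal.mem_span_singleton'] at h1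
    exact h1
  obtain ⟨gv, hgv⟩ : ∃ g : F k, g * vb k = E (σ v₁) := by
    have h1 : σ v₁ ∈ Ideal.comap E (Ideal.span {vb k}) := hσPv v₁ (by
      rw [Ideal.mem_comap, hv₁]; exact Ideal.subset_span (Set.mem_singleton _))
    rw [Ideal.mem_comap, Ideal.mem_span_singleton'] at h1
    exact h1
  obtain ⟨Gu, hGu⟩ := hEs gu
  obtain ⟨Gv, hGv⟩ := hEs gv
  have hc₂' : eps k 1 gu * eps k 1 gu = 1 := by
    have h1 : σ u₁ - Gu * u₁ ∈ J := by
      rw [← hEJ, map_sub, map_mul, hGu, hu₁, hgu, sub_self]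
    have h3 := hσJ _ h1
    rw [map_sub, map_mul, hσ, ← hEJ, map_sub, map_mul, hu₁, ← hgu] at h3
    have h4 : ub k * (1 - E (σ Gu) * gu) = 0 := by linear_combination h3
    by_contra hne
    have h5 : eps k 1 (1 - E (σ Gu) * gu) ≠ 0 := by
      rw [map_sub, map_one, map_mul, ← hεS, hεσ, hεS, hGu]
      intro h6
      exact hne (by linear_combination -h6)
    have h7 := isUnit_of_eps_ne_zero k _ h5
    exact ub_ne_zero k ((h7.mul_left_eq_zero).mp h4)
  have hc₁' : eps k 1 gv * eps k 1 gv = 1 := by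
    have h1 : σ v₁ - Gv * v₁ ∈ J := by
      rw [← hEJ, map_sub, map_mul, hGv, hv₁, hgv, sub_self]
    have h3 := hσJ _ h1
    rw [map_sub, map_mul, hσ, ← hEJ, map_sub, map_mul, hv₁, ← hgv] at h3
    have h4 : vb k * (1 - E (σ Gv) * gv) = 0 := by linear_combination h3
    by_contra hne
    have h5 : eps k 1 (1 - E (σ Gv) * gv) ≠ 0 := by
      rw [map_sub, map_one, map_mul, ← hεS, hεσ, hεS, hGv]
      intro h6
      exact hne (by linear_combination -h6)
    have h7 := isUnit_of_eps_ne_zero k _ h5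
    exact vb_ne_zero k ((h7.mul_left_eq_zero).mp h4)
  obtain ⟨c₂, hc₂e⟩ : ∃ c : k, eps k 1 gu = c := ⟨_, rfl⟩
  obtain ⟨c₁, hc₁e⟩ : ∃ c : k, eps k 1 gv = c := ⟨_, rfl⟩
  rw [hc₂e] at hc₂'
  rw [hc₁e] at hc₁'
  obtain ⟨h, hh⟩ : ∃ h : k, 2 * h = 1 := ⟨(2 : k)⁻¹, mul_inv_cancel₀ h2⟩
  have hSc₂ : algebraMap k S c₂ * algebraMap k S c₂ = 1 := by rw [← map_mul, hc₂', map_one]
  have hSc₁ : algebraMap k S c₁ * algebraMap k S c₁ = 1 := by rw [← map_mul, hc₁', map_one]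
  -- the eigen-coordinates
  obtain ⟨u₀, hu₀⟩ : ∃ u₀ : S, u₀ = algebraMap k S h * (u₁ + algebraMap k S c₂ * σ u₁) :=
    ⟨_, rfl⟩
  obtain ⟨v₀, hv₀⟩ : ∃ v₀ : S, v₀ = algebraMap k S h * (v₁ + algebraMap k S c₁ * σ v₁) :=
    ⟨_, rfl⟩
  have hσu₀ : σ u₀ = algebraMap k S c₂ * u₀ := by
    rw [hu₀, map_mul, map_add, map_mul, hσk, hσk, hσ]
    linear_combination (-(algebraMap k S h * σ u₁)) * hSc₂
  have hσv₀ : σ v₀ = algebraMap k S c₁ * v₀ := by
    rw [hv₀, map_mul, map_add, map_mul, hσk, hσk, hσ]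
    linear_combination (-(algebraMap k S h * σ v₁)) * hSc₁
  obtain ⟨wu, hwu⟩ : ∃ w : F k, w = algebraMap k (F k) h * (1 + algebraMap k (F k) c₂ * gu) :=
    ⟨_, rfl⟩
  obtain ⟨wv, hwv⟩ : ∃ w : F k, w = algebraMap k (F k) h * (1 + algebraMap k (F k) c₁ * gv) :=
    ⟨_, rfl⟩
  have hEu₀ : E u₀ = ub k * wu := by
    rw [hwu, hu₀, map_mul, map_add, map_mul, hEa, hEa, hu₁, ← hgu]
    ring
  have hEv₀ : E v₀ = vb k * wv := by
    rw [hwv, hv₀, map_mul, map_add, map_mul, hEa, hEa, hv₁, ← hgv]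
    ring
  have hwuU : IsUnit wu := by
    apply isUnit_of_eps_ne_zero
    rw [hwu, map_mul, map_add, map_one, map_mul, eps_algebraMap, eps_algebraMap, hc₂e, hc₂']
    have e : h * (1 + 1) = 1 := by linear_combination hh
    rw [e]; exact one_ne_zero
  have hwvU : IsUnit wv := by
    apply isUnit_of_eps_ne_zero
    rw [hwv, map_mul, map_add, map_one, map_mul, eps_algebraMap, eps_algebraMap, hc₁e, hc₁']
    have e : h * (1 + 1) = 1 := by linear_combination hh
    rw [e]; exact one_ne_zero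
  have huv : u₀ * v₀ ∈ J := by
    rw [← hEJ, map_mul, hEu₀, hEv₀]
    linear_combination (wu * wv) * ub_mul_vb k
  have hJm : J ≤ maximalIdeal S := by
    intro s hs
    rw [hmS', hεS, (hEJ s).mpr hs, map_zero]
  have hu₀m : u₀ ∈ maximalIdeal S := by
    rw [hmS', hεS, hEu₀, map_mul, eps_ub, zero_mul]
  have hv₀m : v₀ ∈ maximalIdeal S := by
    rw [hmS', hεS, hEv₀, map_mul, eps_vb, zero_mul]
  have hgen : maximalIdeal S = Ideal.span {u₀, v₀} ⊔ J := by
    apply le_antisymm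
    · intro z hz
      rw [hmS', hεS] at hz
      obtain ⟨p, q, hpq⟩ := exists_decomp_F k h hh (E z) hz
      obtain ⟨P, hP⟩ := hEs (↑hwuU.unit⁻¹ * p)
      obtain ⟨Q, hQ⟩ := hEs (↑hwvU.unit⁻¹ * q)
      have h3 : z - (P * u₀ + Q * v₀) ∈ J := by
        rw [← hEJ, map_sub, map_add, map_mul, map_mul, hP, hQ, hEu₀, hEv₀, hpq]
        have e1 : wu * ↑hwuU.unit⁻¹ = 1 := hwuU.mul_val_inv
        have e2 : wv * ↑hwvU.unit⁻¹ = 1 := hwvU.mul_val_inv
        linear_combination (-(ub k * p)) * e1 + (-(vb k * q)) * e2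
      exact Submodule.mem_sup.mpr ⟨P * u₀ + Q * v₀, Ideal.mem_span_pair.mpr ⟨P, Q, rfl⟩,
        z - (P * u₀ + Q * v₀), h3, by ring⟩
    · rw [sup_le_iff, Ideal.span_le, Set.insert_subset_iff, Set.singleton_subset_iff]
      exact ⟨⟨hu₀m, hv₀m⟩, hJm⟩
  -- the formal structure
  have hhR : (2 : R) * algebraMap k R h = 1 := by
    have := congrArg (algebraMap k R) hh
    rwa [map_mul, map_ofNat, map_one] at this
  have hc₁R : algebraMap k R c₁ * algebraMap k R c₁ = 1 := by rw [← map_mul, hc₁', map_one]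
  have hc₂R : algebraMap k R c₂ * algebraMap k R c₂ = 1 := by rw [← map_mul, hc₂', map_one]
  have huvJ : u₀ * v₀ ∈ (maximalIdeal R).map (algebraMap R S) := by rw [← hJ]; exact huv
  have hgenJ : maximalIdeal S = Ideal.span {u₀, v₀} ⊔ (maximalIdeal R).map (algebraMap R S) := by
    rw [← hJ]; exact hgen
  obtain ⟨t, ht, ht7, ψ, hψs, hψ0, hψ1⟩ := main_abstract_eq R S hres σ' hσ (algebraMap k R h)
    (algebraMap k R c₁) (algebraMap k R c₂) hhR hc₁R hc₂R u₀ v₀
    (by rw [htow]; exact hσu₀) (by rw [htow]; exact hσv₀) huvJ hgenJ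
  obtain ⟨Φ, hΦs⟩ := exists_surjective_F_R0 k h2
  have hinj : Function.Injective ψ := injective_of_flat_of_fibre_R R S k ρ₀ hρ₀s t ht ψ hψs
    (Φ.comp E) (hΦs.comp hEs) (by
      intro μ hμ
      rw [RingHom.comp_apply,
        (hEJ _).mpr (by rw [hJ]; exact Ideal.mem_map_of_mem _ hμ), map_zero])
  let g : (MvPowerSeries (Fin 2) R ⧸ Ideal.span
      {(MvPowerSeries.X 0 * MvPowerSeries.X 1 - MvPowerSeries.C t :
        MvPowerSeries (Fin 2) R)}) ≃ₐ[R] S := AlgEquiv.ofBijective ψ ⟨hinj, hψs⟩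
  have hg : ∀ q, g q = ψ q := fun q => rfl
  refine ⟨t, c₁, c₂, by rw [sq]; exact hc₁', by rw [sq]; exact hc₂', ?_, g.symm, ?_, ?_⟩
  · intro h12
    have h1 : algebraMap k R c₁ * algebraMap k R c₂ = -1 := by
      rw [← map_mul, h12, neg_mul, hc₂', map_neg, map_one]
    rw [h1] at ht7
    have e : t = algebraMap k R h * ((1 - -1) * t) := by linear_combination (-t) * hhR
    rw [e, ht7, mul_zero]
  · rw [AlgEquiv.symm_symm, AlgEquiv.symm_apply_eq, hg, hg, map_smul, Algebra.smul_def]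
    exact hψ0
  · rw [AlgEquiv.symm_symm, AlgEquiv.symm_apply_eq, hg, hg, map_smul, Algebra.smul_def]
    exact hψ1

theorem S14084_main (k R S : Type u) [Field k]
    (h2 : (2 : k) ≠ 0)
    [CommRing R] [IsLocalRing R] [IsNoetherianRing R] [IsAdicComplete (IsLocalRing.maximalIdeal R) R]
    [CommRing S] [IsLocalRing S] [IsNoetherianRing S] [IsAdicComplete (IsLocalRing.maximalIdeal S) S]
    [Algebra k R] [Algebra R S] [Algebra k S] [IsScalarTower k R S]
    [IsLocalHom (algebraMap R S)] [Module.Flat R S]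
    (e : (S ⧸ Ideal.map (algebraMap R S) (IsLocalRing.maximalIdeal R)) ≃ₐ[k]
      (MvPowerSeries (Fin 2) k ⧸
        Ideal.span {(MvPowerSeries.X 1 ^ 2 - MvPowerSeries.X 0 ^ 2 : MvPowerSeries (Fin 2) k)}))
    (σ : S ≃ₐ[R] S) (hσ : ∀ s, σ (σ s) = s)
    (hbr : ∀ P ∈ (Ideal.map (algebraMap R S) (IsLocalRing.maximalIdeal R)).minimalPrimes,
      Ideal.map (σ : S →+* S) P = P) :
    ∃ (t : R) (ξ₁ ξ₂ : k), ξ₁ ^ 2 = 1 ∧ ξ₂ ^ 2 = 1 ∧ (ξ₁ = -ξ₂ → t = 0) ∧
      ∃ f : S ≃ₐ[R] (MvPowerSeries (Fin 2) R ⧸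
          Ideal.span {(MvPowerSeries.X 0 * MvPowerSeries.X 1 - MvPowerSeries.C t : MvPowerSeries (Fin 2) R)}),
        f (σ (f.symm (Ideal.Quotient.mk _ (MvPowerSeries.X 0)))) =
          algebraMap k R ξ₂ • Ideal.Quotient.mk _ (MvPowerSeries.X 0) ∧
        f (σ (f.symm (Ideal.Quotient.mk _ (MvPowerSeries.X 1)))) =
          algebraMap k R ξ₁ • Ideal.Quotient.mk _ (MvPowerSeries.X 1) := by
  have hI : Ideal.span {(MvPowerSeries.X 1 ^ 2 - MvPowerSeries.X 0 ^ 2 : MvPowerSeries (Fin 2) k)} =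
      Ideal.span {ArSing.eqn k 1} := rfl
  let E : S →+* F k := ((Ideal.quotEquivOfEq hI).toRingHom.comp
    (e.toRingEquiv.toRingHom)).comp (Ideal.Quotient.mk _)
  have hE : ∀ s, E s = Ideal.quotEquivOfEq hI (e (Ideal.Quotient.mk _ s)) := fun s => rfl
  refine node_involution_core k R S h2 _ rfl E ?_ ?_ ?_ σ hσ hbr
  · intro y
    obtain ⟨y₁, rfl⟩ := (Ideal.quotEquivOfEq hI).surjective y
    obtain ⟨y₂, rfl⟩ := e.surjective y₁
    obtain ⟨s, rfl⟩ := Ideal.Quotient.mk_surjective y₂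
    exact ⟨s, hE s⟩
  · ext s
    rw [RingHom.mem_ker, hE, map_eq_zero_iff _ (Ideal.quotEquivOfEq hI).injective,
      map_eq_zero_iff _ e.injective, Ideal.Quotient.eq_zero_iff_mem]
  · intro c
    rw [hE]
    have h1 : Ideal.Quotient.mk (Ideal.map (algebraMap R S) (IsLocalRing.maximalIdeal R))
        (algebraMap k S c) =
        algebraMap k (S ⧸ Ideal.map (algebraMap R S) (IsLocalRing.maximalIdeal R)) c := rfl
    rw [h1, e.commutes]
    rfl

end Groth.Agent.Helper1.NodeEq
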