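import Mathlib
import Groth.Agent.Lib.Helper1.NodeCpl1

/-!
# Formal structure of a (possibly non-split) node in a family: successive approximation
for a nondegenerate binary quadratic form (helper1)
-/

set_option autoImplicit false
universe u

namespace Groth.Agent.Helper1.NodeCpl

open IsLocalRing

/-- value of a binary quadratic form -/
def qv {D : Type*} [CommRing D] (a b c u v : D) : D := a * u ^ 2 + b * u * v + c * v ^ 2

section ApproxQ

variable {A : Type u} [CommRing A] [IsLocalRing A]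
  {D : Type u} [CommRing D] [IsLocalRing D] [Algebra A D]

theorem exists_next_Q
    (hres : ∀ d : D, ∃ a : A, d - algebraMap A D a ∈ maximalIdeal D)
    (u₀ v₀ : D)
    (hgen : maximalIdeal D = Ideal.span {u₀, v₀} ⊔ (maximalIdeal A).map (algebraMap A D))
    (a' b' c' w' : D) (hw' : w' * (4 * a' * c' - b' ^ 2) = 1)
    (N : ℕ) (hN : 1 ≤ N) (u' v' : D) (α' : A)
    (hu' : u' - u₀ ∈ (maximalIdeal A).map (algebraMap A D))
    (hv' : v' - v₀ ∈ (maximalIdeal A).map (algebraMap A D)) (hα' : α' ∈ maximalIdeal A)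
    (h : qv a' b' c' u' v' - algebraMap A D α' ∈ ((maximalIdeal A).map (algebraMap A D)) ^ N) :
    ∃ (u'' v'' : D) (α'' : A), u'' - u₀ ∈ (maximalIdeal A).map (algebraMap A D) ∧
      v'' - v₀ ∈ (maximalIdeal A).map (algebraMap A D) ∧ α'' ∈ maximalIdeal A ∧
      qv a' b' c' u'' v'' - algebraMap A D α'' ∈
        ((maximalIdeal A).map (algebraMap A D)) ^ (N + 1) ∧
      u'' - u' ∈ ((maximalIdeal A).map (algebraMap A D)) ^ N ∧
      v'' - v' ∈ ((maximalIdeal A).map (algebraMap A D)) ^ N ∧
      α'' - α' ∈ maximalIdeal A ^ N := by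
  obtain ⟨δ, p, q, r, hδ, hp, hq, hr, hx⟩ :=
    dec_of_mem_pow hres u₀ v₀ hgen u' v' hu' hv' N _ h
  have hN0 : N ≠ 0 := by omega
  have hJN : ((maximalIdeal A).map (algebraMap A D)) ^ N ≤ (maximalIdeal A).map (algebraMap A D) :=
    Ideal.pow_le_self hN0
  obtain ⟨x, hxdef⟩ : ∃ x : D, x = w' * (2 * c' * p - b' * q) := ⟨_, rfl⟩
  obtain ⟨y, hydef⟩ : ∃ y : D, y = w' * (2 * a' * q - b' * p) := ⟨_, rfl⟩
  have hxm : x ∈ ((maximalIdeal A).map (algebraMap A D)) ^ N := by
    rw [hxdef]
    exact Ideal.mul_mem_left _ _ (sub_mem (Ideal.mul_mem_left _ _ hp) (Ideal.mul_mem_left _ _ hq))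
  have hym : y ∈ ((maximalIdeal A).map (algebraMap A D)) ^ N := by
    rw [hydef]
    exact Ideal.mul_mem_left _ _ (sub_mem (Ideal.mul_mem_left _ _ hq) (Ideal.mul_mem_left _ _ hp))
  refine ⟨u' - x, v' - y, α' + δ, ?_, ?_, ?_, ?_, ?_, ?_, ?_⟩
  · have e : u' - x - u₀ = (u' - u₀) - x := by ring
    rw [e]; exact sub_mem hu' (hJN hxm)
  · have e : v' - y - v₀ = (v' - v₀) - y := by ring
    rw [e]; exact sub_mem hv' (hJN hym)
  · exact add_mem hα' (Ideal.pow_le_self hN0 hδ)
  · have e : qv a' b' c' (u' - x) (v' - y) - algebraMap A D (α' + δ) = r + qv a' b' c' x y := by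
      rw [map_add]
      simp only [qv] at hx ⊢
      rw [hxdef, hydef]
      linear_combination hx - (u' * p + v' * q) * hw'
    rw [e]
    refine add_mem hr ?_
    have h2 : qv a' b' c' x y ∈ ((maximalIdeal A).map (algebraMap A D)) ^ (N + N) := by
      rw [pow_add]
      simp only [qv]
      refine add_mem (add_mem ?_ ?_) ?_
      · rw [sq, ← mul_assoc]; exact Ideal.mul_mem_mul (Ideal.mul_mem_left _ _ hxm) hxm
      · exact Ideal.mul_mem_mul (Ideal.mul_mem_left _ _ hxm) hym
      · rw [sq, ← mul_assoc]; exact Ideal.mul_mem_mul (Ideal.mul_mem_left _ _ hym) hym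
    exact Ideal.pow_le_pow_right (by omega) h2
  · have e : u' - x - u' = -x := by ring
    rw [e]; exact neg_mem hxm
  · have e : v' - y - v' = -y := by ring
    rw [e]; exact neg_mem hym
  · have e : α' + δ - α' = δ := by ring
    rw [e]; exact hδ

/-- the approximation at stage `k` -/
def GoodQ (A : Type u) [CommRing A] [IsLocalRing A] {D : Type u} [CommRing D] [Algebra A D]
    (a' b' c' u₀ v₀ : D) (k : ℕ) (t : D × D × A) : Prop :=
  t.1 - u₀ ∈ (maximalIdeal A).map (algebraMap A D) ∧
  t.2.1 - v₀ ∈ (maximalIdeal A).map (algebraMap A D) ∧ t.2.2 ∈ maximalIdeal A ∧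
    qv a' b' c' t.1 t.2.1 - algebraMap A D t.2.2 ∈
      ((maximalIdeal A).map (algebraMap A D)) ^ (k + 1)

theorem exists_seq_Q
    (hres : ∀ d : D, ∃ a : A, d - algebraMap A D a ∈ maximalIdeal D)
    (u₀ v₀ : D)
    (hgen : maximalIdeal D = Ideal.span {u₀, v₀} ⊔ (maximalIdeal A).map (algebraMap A D))
    (a' b' c' w' : D) (hw' : w' * (4 * a' * c' - b' ^ 2) = 1)
    (hq : qv a' b' c' u₀ v₀ ∈ (maximalIdeal A).map (algebraMap A D)) :
    ∃ s : ℕ → D × D × A, ∀ k, GoodQ A a' b' c' u₀ v₀ k (s k) ∧ Close A k (s k) (s (k + 1)) := by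
  have hstep : ∀ (k : ℕ) (t : {t : D × D × A // GoodQ A a' b' c' u₀ v₀ k t}),
      ∃ t' : {t' : D × D × A // GoodQ A a' b' c' u₀ v₀ (k + 1) t'}, Close A k t.1 t'.1 := by
    rintro k ⟨⟨u', v', α'⟩, h1, h2, h3, h4⟩
    obtain ⟨u'', v'', α'', g1, g2, g3, g4, g5, g6, g7⟩ :=
      exists_next_Q hres u₀ v₀ hgen a' b' c' w' hw' (k + 1) (by omega) u' v' α' h1 h2 h3 h4
    exact ⟨⟨(u'', v'', α''), g1, g2, g3, g4⟩, g5, g6, g7⟩
  choose next hnext using hstep
  have h0 : GoodQ A a' b' c' u₀ v₀ 0 (u₀, v₀, 0) := by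
    refine ⟨by simp, by simp, zero_mem _, ?_⟩
    simpa using hq
  let s : (k : ℕ) → {t : D × D × A // GoodQ A a' b' c' u₀ v₀ k t} := fun k =>
    @Nat.rec (fun k => {t : D × D × A // GoodQ A a' b' c' u₀ v₀ k t}) ⟨_, h0⟩
      (fun k t => next k t) k
  exact ⟨fun k => (s k).1, fun k => ⟨(s k).2, hnext k (s k)⟩⟩

end ApproxQ

section MainQ

theorem main_abstract_Q
    (A : Type u) [CommRing A] [IsLocalRing A] [IsNoetherianRing A]
    (D : Type u) [CommRing D] [IsLocalRing D] [IsNoetherianRing D] [Algebra A D]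
    [IsLocalHom (algebraMap A D)] [IsAdicComplete (maximalIdeal D) D]
    (hres : ∀ d : D, ∃ a : A, d - algebraMap A D a ∈ maximalIdeal D)
    (u₀ v₀ : D) (a b c : A) (hunit : IsUnit (b ^ 2 - 4 * a * c))
    (hq : qv (algebraMap A D a) (algebraMap A D b) (algebraMap A D c) u₀ v₀ ∈
      (maximalIdeal A).map (algebraMap A D))
    (hgen : maximalIdeal D = Ideal.span {u₀, v₀} ⊔ (maximalIdeal A).map (algebraMap A D)) :
    ∃ (α : AdicCompletion (maximalIdeal A) A)
      (_ : α ∈ (maximalIdeal A).map (algebraMap A (AdicCompletion (maximalIdeal A) A)))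
      (ψ : (MvPowerSeries (Fin 2) (AdicCompletion (maximalIdeal A) A) ⧸ Ideal.span
          {(MvPowerSeries.C (algebraMap A (AdicCompletion (maximalIdeal A) A) a) *
              MvPowerSeries.X 0 ^ 2 +
            MvPowerSeries.C (algebraMap A (AdicCompletion (maximalIdeal A) A) b) *
              MvPowerSeries.X 0 * MvPowerSeries.X 1 +
            MvPowerSeries.C (algebraMap A (AdicCompletion (maximalIdeal A) A) c) *
              MvPowerSeries.X 1 ^ 2 - MvPowerSeries.C α :
              MvPowerSeries (Fin 2) (AdicCompletion (maximalIdeal A) A))}) →ₐ[A] D),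
      Function.Surjective ψ := by
  classical
  have hJn : (maximalIdeal A).map (algebraMap A D) ≤ maximalIdeal D :=
    ((IsLocalRing.local_hom_TFAE (algebraMap A D)).out 0 2).mp ‹IsLocalHom (algebraMap A D)›
  obtain ⟨w₀, hw₀⟩ := hunit.exists_left_inv
  have hw' : algebraMap A D (-w₀) *
      (4 * algebraMap A D a * algebraMap A D c - algebraMap A D b ^ 2) = 1 := by
    have h1 := congrArg (algebraMap A D) hw₀
    simp only [map_mul, map_sub, map_pow, map_one, map_ofNat] at h1
    rw [map_neg]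
    linear_combination h1
  obtain ⟨s, hs⟩ := exists_seq_Q hres u₀ v₀ hgen (algebraMap A D a) (algebraMap A D b)
    (algebraMap A D c) (algebraMap A D (-w₀)) hw' hq
  have hg : (maximalIdeal A).map (Algebra.ofId A D) ≤ maximalIdeal D := by
    rw [Ideal.map_le_iff_le_comap]
    intro a ha
    rw [Ideal.mem_comap]
    exact hJn (Ideal.mem_map_of_mem _ ha)
  obtain ⟨χ, hχ⟩ := Groth.Agent.Helper2.AdicUniv.exists_lift (R := A) (maximalIdeal A)
    (maximalIdeal D) (Algebra.ofId A D) hg
  have hχ' : ∀ a : A, χ (algebraMap A (AdicCompletion (maximalIdeal A) A) a) =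
      algebraMap A D a := fun a => hχ a
  letI algAhD : Algebra (AdicCompletion (maximalIdeal A) A) D := χ.toRingHom.toAlgebra
  haveI : IsScalarTower A (AdicCompletion (maximalIdeal A) A) D :=
    IsScalarTower.of_algebraMap_eq (fun a => (hχ' a).symm)
  have hmh : maximalIdeal (AdicCompletion (maximalIdeal A) A) =
      (maximalIdeal A).map (algebraMap A (AdicCompletion (maximalIdeal A) A)) :=
    AdicCompletion.maximalIdeal_eq_map
  have hχm : (maximalIdeal (AdicCompletion (maximalIdeal A) A)).map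
      (χ : AdicCompletion (maximalIdeal A) A →+* D) ≤ (maximalIdeal A).map (algebraMap A D) := by
    rw [hmh, Ideal.map_map, Ideal.map_le_iff_le_comap]
    intro a ha
    rw [Ideal.mem_comap, RingHom.comp_apply]
    show χ (algebraMap A (AdicCompletion (maximalIdeal A) A) a) ∈ _
    rw [hχ' a]
    exact Ideal.mem_map_of_mem _ ha
  have hχpow : ∀ (n : ℕ) (x : AdicCompletion (maximalIdeal A) A),
      x ∈ maximalIdeal (AdicCompletion (maximalIdeal A) A) ^ n → χ x ∈ maximalIdeal D ^ n := by
    intro n x hx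
    have h1 : (χ : AdicCompletion (maximalIdeal A) A →+* D) x ∈
        ((maximalIdeal (AdicCompletion (maximalIdeal A) A)) ^ n).map
          (χ : AdicCompletion (maximalIdeal A) A →+* D) := Ideal.mem_map_of_mem _ hx
    rw [Ideal.map_pow] at h1
    exact Ideal.pow_right_mono (hχm.trans hJn) n h1
  obtain ⟨U, hU⟩ := exists_limit (maximalIdeal D) ((maximalIdeal A).map (algebraMap A D)) hJn
    (fun k => (s k).1) (fun k => (hs k).2.1)
  obtain ⟨V, hV⟩ := exists_limit (maximalIdeal D) ((maximalIdeal A).map (algebraMap A D)) hJn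
    (fun k => (s k).2.1) (fun k => (hs k).2.2.1)
  obtain ⟨α, hα⟩ := exists_limit (maximalIdeal (AdicCompletion (maximalIdeal A) A))
    ((maximalIdeal A).map (algebraMap A (AdicCompletion (maximalIdeal A) A))) (le_of_eq hmh.symm)
    (fun k => algebraMap A (AdicCompletion (maximalIdeal A) A) (s k).2.2) (fun k => by
      show algebraMap A (AdicCompletion (maximalIdeal A) A) (s (k + 1)).2.2 -
        algebraMap A (AdicCompletion (maximalIdeal A) A) (s k).2.2 ∈ _
      rw [← map_sub, ← Ideal.map_pow]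
      exact Ideal.mem_map_of_mem _ (hs k).2.2.2)
  have hα0 : α ∈ (maximalIdeal A).map (algebraMap A (AdicCompletion (maximalIdeal A) A)) := by
    have h1 : algebraMap A (AdicCompletion (maximalIdeal A) A) (s 1).2.2 - α ∈
        maximalIdeal (AdicCompletion (maximalIdeal A) A) ^ 1 := hα 1
    rw [pow_one, hmh] at h1
    have h2 : algebraMap A (AdicCompletion (maximalIdeal A) A) (s 1).2.2 ∈
        (maximalIdeal A).map (algebraMap A (AdicCompletion (maximalIdeal A) A)) :=
      Ideal.mem_map_of_mem _ (hs 1).1.2.2.1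
    have e : α = algebraMap A (AdicCompletion (maximalIdeal A) A) (s 1).2.2 -
        (algebraMap A (AdicCompletion (maximalIdeal A) A) (s 1).2.2 - α) := by ring
    rw [e]; exact sub_mem h2 h1
  have hUJ : U - u₀ ∈ (maximalIdeal A).map (algebraMap A D) := by
    apply Groth.Agent.Helper8.Node.mem_of_forall_mem_sup_pow
    intro N
    have h1 : (s N).1 - u₀ ∈ (maximalIdeal A).map (algebraMap A D) := (hs N).1.1
    have h2 : (s N).1 - U ∈ maximalIdeal D ^ N := hU N
    have e : U - u₀ = ((s N).1 - u₀) - ((s N).1 - U) := by ring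
    rw [e]
    exact sub_mem (Ideal.mem_sup_left h1) (Ideal.mem_sup_right h2)
  have hVJ : V - v₀ ∈ (maximalIdeal A).map (algebraMap A D) := by
    apply Groth.Agent.Helper8.Node.mem_of_forall_mem_sup_pow
    intro N
    have h1 : (s N).2.1 - v₀ ∈ (maximalIdeal A).map (algebraMap A D) := (hs N).1.2.1
    have h2 : (s N).2.1 - V ∈ maximalIdeal D ^ N := hV N
    have e : V - v₀ = ((s N).2.1 - v₀) - ((s N).2.1 - V) := by ring
    rw [e]
    exact sub_mem (Ideal.mem_sup_left h1) (Ideal.mem_sup_right h2)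
  have hu₀n : u₀ ∈ maximalIdeal D := by
    rw [hgen]; exact Ideal.mem_sup_left (Ideal.subset_span (by simp))
  have hv₀n : v₀ ∈ maximalIdeal D := by
    rw [hgen]; exact Ideal.mem_sup_left (Ideal.subset_span (by simp))
  have hUn : U ∈ maximalIdeal D := by
    have e : U = (U - u₀) + u₀ := by ring
    rw [e]; exact add_mem (hJn hUJ) hu₀n
  have hVn : V ∈ maximalIdeal D := by
    have e : V = (V - v₀) + v₀ := by ring
    rw [e]; exact add_mem (hJn hVJ) hv₀n
  have hUV : qv (algebraMap A D a) (algebraMap A D b) (algebraMap A D c) U V = χ α := by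
    rw [← sub_eq_zero]
    apply Groth.Agent.Helper2.AdicUniv.eq_zero_of_forall_mem_pow (maximalIdeal D)
    intro n
    have h1 : (s n).1 - U ∈ maximalIdeal D ^ n := hU n
    have h2 : (s n).2.1 - V ∈ maximalIdeal D ^ n := hV n
    have h3 : χ (algebraMap A (AdicCompletion (maximalIdeal A) A) (s n).2.2 - α) ∈
        maximalIdeal D ^ n := hχpow n _ (hα n)
    have h4 : qv (algebraMap A D a) (algebraMap A D b) (algebraMap A D c) (s n).1 (s n).2.1 -
        algebraMap A D (s n).2.2 ∈ maximalIdeal D ^ n :=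
      Ideal.pow_le_pow_right (Nat.le_succ n) (Ideal.pow_right_mono hJn _ (hs n).1.2.2.2)
    have e : qv (algebraMap A D a) (algebraMap A D b) (algebraMap A D c) U V - χ α =
        (qv (algebraMap A D a) (algebraMap A D b) (algebraMap A D c) (s n).1 (s n).2.1 -
          algebraMap A D (s n).2.2) -
        (algebraMap A D a * (((s n).1 - U) * ((s n).1 + U)) +
          algebraMap A D b * (((s n).1 - U) * (s n).2.1 + U * ((s n).2.1 - V)) +
          algebraMap A D c * (((s n).2.1 - V) * ((s n).2.1 + V))) +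
        χ (algebraMap A (AdicCompletion (maximalIdeal A) A) (s n).2.2 - α) := by
      rw [map_sub, hχ']; simp only [qv]; ring
    rw [e]
    refine add_mem (sub_mem h4 (add_mem (add_mem ?_ ?_) ?_)) h3
    · exact Ideal.mul_mem_left _ _ (Ideal.mul_mem_right _ _ h1)
    · exact Ideal.mul_mem_left _ _ (add_mem (Ideal.mul_mem_right _ _ h1)
        (Ideal.mul_mem_left _ _ h2))
    · exact Ideal.mul_mem_left _ _ (Ideal.mul_mem_right _ _ h2)
  obtain ⟨Ψ, hΨ⟩ := Groth.Agent.Helper8.CohenStr.exists_algHom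
    (AdicCompletion (maximalIdeal A) A) D 2 ![U, V] (by
    intro i
    fin_cases i
    · exact hUn
    · exact hVn)
  have hΨ0 : Ψ (MvPowerSeries.X 0) = U := hΨ 0
  have hΨ1 : Ψ (MvPowerSeries.X 1) = V := hΨ 1
  have hΨC : ∀ a : AdicCompletion (maximalIdeal A) A, Ψ (MvPowerSeries.C a) = χ a := by
    intro a
    rw [MvPowerSeries.c_eq_algebraMap, Ψ.commutes]
    rfl
  have hker : Ideal.span {(MvPowerSeries.C (algebraMap A (AdicCompletion (maximalIdeal A) A) a) *
              MvPowerSeries.X 0 ^ 2 +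
            MvPowerSeries.C (algebraMap A (AdicCompletion (maximalIdeal A) A) b) *
              MvPowerSeries.X 0 * MvPowerSeries.X 1 +
            MvPowerSeries.C (algebraMap A (AdicCompletion (maximalIdeal A) A) c) *
              MvPowerSeries.X 1 ^ 2 - MvPowerSeries.C α :
      MvPowerSeries (Fin 2) (AdicCompletion (maximalIdeal A) A))} ≤ RingHom.ker Ψ.toRingHom := by
    rw [Ideal.span_singleton_le_iff_mem, RingHom.mem_ker]
    show Ψ (MvPowerSeries.C (algebraMap A (AdicCompletion (maximalIdeal A) A) a) *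
              MvPowerSeries.X 0 ^ 2 +
            MvPowerSeries.C (algebraMap A (AdicCompletion (maximalIdeal A) A) b) *
              MvPowerSeries.X 0 * MvPowerSeries.X 1 +
            MvPowerSeries.C (algebraMap A (AdicCompletion (maximalIdeal A) A) c) *
              MvPowerSeries.X 1 ^ 2 - MvPowerSeries.C α) = 0
    rw [map_sub, map_add, map_add, map_mul, map_mul, map_mul, map_mul, map_pow, map_pow,
      hΨ0, hΨ1, hΨC, hΨC, hΨC, hΨC, hχ', hχ', hχ', ← hUV]
    simp only [qv]
    ring
  let ψ₀ : (MvPowerSeries (Fin 2) (AdicCompletion (maximalIdeal A) A) ⧸ Ideal.span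
      {(MvPowerSeries.C (algebraMap A (AdicCompletion (maximalIdeal A) A) a) *
              MvPowerSeries.X 0 ^ 2 +
            MvPowerSeries.C (algebraMap A (AdicCompletion (maximalIdeal A) A) b) *
              MvPowerSeries.X 0 * MvPowerSeries.X 1 +
            MvPowerSeries.C (algebraMap A (AdicCompletion (maximalIdeal A) A) c) *
              MvPowerSeries.X 1 ^ 2 - MvPowerSeries.C α :
        MvPowerSeries (Fin 2) (AdicCompletion (maximalIdeal A) A))})
        →ₐ[AdicCompletion (maximalIdeal A) A] D :=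
    Ideal.Quotient.liftₐ _ Ψ (fun a ha => RingHom.mem_ker.mp (hker ha))
  have hψ₀ : ∀ x, ψ₀ (Ideal.Quotient.mk _ x) = Ψ x := fun x => rfl
  -- surjectivity of Ψ
  have hJle : (maximalIdeal A).map (algebraMap A D) ≤
      (maximalIdeal (MvPowerSeries (Fin 2) (AdicCompletion (maximalIdeal A) A))).map
        Ψ.toRingHom := by
    rw [Ideal.map_le_iff_le_comap]
    intro a ha
    rw [Ideal.mem_comap]
    have e : algebraMap A D a = Ψ.toRingHom
        (MvPowerSeries.C (algebraMap A (AdicCompletion (maximalIdeal A) A) a)) := by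
      show _ = Ψ (MvPowerSeries.C (algebraMap A (AdicCompletion (maximalIdeal A) A) a))
      rw [hΨC, hχ']
    rw [e]
    apply Ideal.mem_map_of_mem
    rw [mem_maximalIdeal_ps_iff, MvPowerSeries.constantCoeff_C, hmh]
    exact Ideal.mem_map_of_mem _ ha
  have hX : ∀ i : Fin 2, Ψ (MvPowerSeries.X i) ∈
      (maximalIdeal (MvPowerSeries (Fin 2) (AdicCompletion (maximalIdeal A) A))).map
        Ψ.toRingHom := by
    intro i
    have h1 : (MvPowerSeries.X i : MvPowerSeries (Fin 2) (AdicCompletion (maximalIdeal A) A)) ∈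
        maximalIdeal (MvPowerSeries (Fin 2) (AdicCompletion (maximalIdeal A) A)) := by
      rw [mem_maximalIdeal_ps_iff, MvPowerSeries.constantCoeff_X]
      exact zero_mem _
    exact Ideal.mem_map_of_mem Ψ.toRingHom h1
  have hmap : (maximalIdeal (MvPowerSeries (Fin 2) (AdicCompletion (maximalIdeal A) A))).map
      Ψ.toRingHom = maximalIdeal D := by
    apply le_antisymm
    · rw [Ideal.map_le_iff_le_comap]
      intro x hx
      rw [Ideal.mem_comap]
      obtain ⟨E, G, hEG⟩ := Groth.Agent.Helper8.ThickNode.exists_decomp x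
      have hc : MvPowerSeries.constantCoeff x ∈
          maximalIdeal (AdicCompletion (maximalIdeal A) A) := (mem_maximalIdeal_ps_iff x).mp hx
      show Ψ x ∈ maximalIdeal D
      rw [hEG, map_add, map_add, map_mul, map_mul, hΨ0, hΨ1, hΨC]
      exact add_mem (add_mem ((hχm.trans hJn) (Ideal.mem_map_of_mem _ hc))
        (Ideal.mul_mem_right _ _ hUn)) (Ideal.mul_mem_right _ _ hVn)
    · rw [hgen, sup_le_iff, Ideal.span_le, Set.insert_subset_iff, Set.singleton_subset_iff]
      refine ⟨⟨?_, ?_⟩, hJle⟩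
      · have e : u₀ = Ψ (MvPowerSeries.X 0) - (U - u₀) := by rw [hΨ0]; ring
        rw [e]
        exact sub_mem (hX 0) (hJle hUJ)
      · have e : v₀ = Ψ (MvPowerSeries.X 1) - (V - v₀) := by rw [hΨ1]; ring
        rw [e]
        exact sub_mem (hX 1) (hJle hVJ)
  have hΨsurj : Function.Surjective Ψ.toRingHom := by
    haveI hPc : IsPrecomplete
        (maximalIdeal (MvPowerSeries (Fin 2) (AdicCompletion (maximalIdeal A) A)))
        (MvPowerSeries (Fin 2) (AdicCompletion (maximalIdeal A) A)) :=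
      Groth.Agent.Helper3.ArtFunLib.isPrecomplete_ps_local
    haveI : IsHausdorff ((maximalIdeal (MvPowerSeries (Fin 2)
        (AdicCompletion (maximalIdeal A) A))).map Ψ.toRingHom) D := by
      rw [hmap]; infer_instance
    apply surjective_of_mk_map_comp_surjective Ψ.toRingHom
      (I := maximalIdeal (MvPowerSeries (Fin 2) (AdicCompletion (maximalIdeal A) A)))
    intro y
    obtain ⟨d, rfl⟩ := Ideal.Quotient.mk_surjective y
    obtain ⟨a, ha⟩ := hres d
    refine ⟨MvPowerSeries.C (algebraMap A (AdicCompletion (maximalIdeal A) A) a), ?_⟩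
    rw [RingHom.comp_apply, Ideal.Quotient.eq, hmap]
    show Ψ (MvPowerSeries.C (algebraMap A (AdicCompletion (maximalIdeal A) A) a)) - d ∈
      maximalIdeal D
    rw [hΨC, hχ']
    have e : algebraMap A D a - d = -(d - algebraMap A D a) := by ring
    rw [e]; exact neg_mem ha
  refine ⟨α, hα0, ψ₀.restrictScalars A, ?_⟩
  intro d
  obtain ⟨x, hx⟩ := hΨsurj d
  exact ⟨Ideal.Quotient.mk _ x, hx⟩

end MainQ

end Groth.Agent.Helper1.NodeCpl
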