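import Mathlib
import Groth.Prelude.Def_CurvBase
import Groth.Agent.Lib.Helper1.NodeQ1
import Groth.Agent.Lib.Helper1.NodeCpl3

/-!
# Formal structure of a (possibly non-split) node in a flat family: injectivity and the
algebraic core (helper1)
-/

set_option autoImplicit false
universe u

namespace Groth.Agent.Helper1.NodeCpl

open IsLocalRing

section PSQ

variable {R : Type*} [CommRing R]

/-- binary quadratic form as a power series -/
noncomputable abbrev qf {R : Type*} [CommRing R] (a b c : R) : MvPowerSeries (Fin 2) R :=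
  MvPowerSeries.C a * MvPowerSeries.X 0 ^ 2 + MvPowerSeries.C b * MvPowerSeries.X 0 *
    MvPowerSeries.X 1 + MvPowerSeries.C c * MvPowerSeries.X 1 ^ 2

theorem map_qf {k : Type*} [CommRing k] (ρ : R →+* k) (a b c : R) :
    MvPowerSeries.map ρ (qf a b c) = qf (ρ a) (ρ b) (ρ c) := by
  simp only [qf, map_add, map_mul, map_pow, MvPowerSeries.map_C, MvPowerSeries.map_X]

theorem constantCoeff_qf (a b c : R) : MvPowerSeries.constantCoeff (qf a b c) = 0 := by
  simp only [qf, map_add, map_mul, map_pow, MvPowerSeries.constantCoeff_X]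
  ring

/-- if the reduction of `f` is a multiple of the reduction of `G` then `f ∈ I R[[X,Y]] + (G)` -/
theorem mem_sup_of_map_mem_gen {k : Type*} [CommRing k] (ρ₀ : R →+* k)
    (h : Function.Surjective ρ₀) (hfg : (RingHom.ker ρ₀).FG) (G f : MvPowerSeries (Fin 2) R)
    (hf : MvPowerSeries.map ρ₀ f ∈ Ideal.span {MvPowerSeries.map ρ₀ G}) :
    f ∈ (RingHom.ker ρ₀).map (MvPowerSeries.C : R →+* MvPowerSeries (Fin 2) R) ⊔
      Ideal.span {G} := by
  obtain ⟨g', hg'⟩ := Ideal.mem_span_singleton'.mp hf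
  obtain ⟨g, rfl⟩ := map_surjective_of_surjective ρ₀ h g'
  have h1 : f - g * G ∈
      (RingHom.ker ρ₀).map (MvPowerSeries.C : R →+* MvPowerSeries (Fin 2) R) := by
    apply mem_map_C_of_coeff_mem _ hfg
    intro n
    rw [RingHom.mem_ker, ← MvPowerSeries.coeff_map, map_sub, map_mul, hg', sub_self, map_zero]
  have e : f = (f - g * G) + g * G := by ring
  rw [e]
  exact add_mem (Ideal.mem_sup_left h1)
    (Ideal.mem_sup_right (Ideal.mul_mem_left _ _ (Ideal.subset_span (Set.mem_singleton _))))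

end PSQ

section InjQ

/-- the relation `Q - α` -/
noncomputable abbrev genQ (A : Type u) [CommRing A] [IsLocalRing A] (a b c : A) (α : Ah A) :
    PA A :=
  qf (algebraMap A (Ah A) a) (algebraMap A (Ah A) b) (algebraMap A (Ah A) c) - MvPowerSeries.C α

/-- the formal quadratic node over `Â` -/
abbrev QAq (A : Type u) [CommRing A] [IsLocalRing A] (a b c : A) (α : Ah A) : Type u :=
  PA A ⧸ Ideal.span {genQ A a b c α}

/-- the formal quadratic node over a field -/
abbrev R0q (k : Type u) [CommRing k] (a b c : k) : Type u :=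
  MvPowerSeries (Fin 2) k ⧸ Ideal.span {qf a b c}

theorem injective_of_flat_of_fibre_Q
    (A : Type u) [CommRing A] [IsLocalRing A] [IsNoetherianRing A]
    (D : Type u) [CommRing D] [IsLocalRing D] [Algebra A D]
    [IsLocalHom (algebraMap A D)] [Module.Flat A D]
    (a b c : A) (α : Ah A) (hα : α ∈ (maximalIdeal A).map (algebraMap A (Ah A)))
    (ψ : QAq A a b c α →ₐ[A] D) (hψ : Function.Surjective ψ)
    (k : Type u) [Field k] (ρ₀ : Ah A →+* k) (hρ₀s : Function.Surjective ρ₀)
    (hρ₀k : RingHom.ker ρ₀ = (maximalIdeal A).map (algebraMap A (Ah A)))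
    (a₁ b₁ c₁ : k) (ha : ρ₀ (algebraMap A (Ah A) a) = a₁) (hb : ρ₀ (algebraMap A (Ah A) b) = b₁)
    (hc : ρ₀ (algebraMap A (Ah A) c) = c₁)
    (ε : D →+* R0q k a₁ b₁ c₁) (hε : Function.Surjective ε)
    (hεm : ∀ μ ∈ maximalIdeal A, ε (algebraMap A D μ) = 0) :
    Function.Injective ψ := by
  classical
  haveI : IsNoetherianRing (Ah A) := Groth.Agent.Helper8.AdicReg.isNoetherianRing A _
  have hfg : (maximalIdeal A).FG := IsNoetherian.noetherian _
  have hkfg : (RingHom.ker ρ₀).FG := by rw [hρ₀k]; exact hfg.map _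
  obtain ⟨G, hGdef⟩ : ∃ G : PA A, G = qf (algebraMap A (Ah A) a) (algebraMap A (Ah A) b)
    (algebraMap A (Ah A) c) := ⟨_, rfl⟩
  let ρ : PA A →+* MvPowerSeries (Fin 2) k := MvPowerSeries.map ρ₀
  have hρG : ρ G = qf a₁ b₁ c₁ := by
    show MvPowerSeries.map ρ₀ G = _
    rw [hGdef, map_qf, ha, hb, hc]
  let θ₁ : PA A →+* R0q k a₁ b₁ c₁ := (Ideal.Quotient.mk _).comp ρ
  have hθ₁s : Function.Surjective θ₁ :=
    Ideal.Quotient.mk_surjective.comp (map_surjective_of_surjective ρ₀ hρ₀s)
  let θ₂ : PA A →+* R0q k a₁ b₁ c₁ :=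
    ε.comp ((ψ : QAq A a b c α →+* D).comp (Ideal.Quotient.mk _))
  have hθ₂ : ∀ f, θ₂ f = ε (ψ (Ideal.Quotient.mk _ f)) := fun f => rfl
  have hθ₂s : Function.Surjective θ₂ := by
    intro y
    obtain ⟨d, rfl⟩ := hε y
    obtain ⟨q, rfl⟩ := hψ d
    obtain ⟨f, rfl⟩ := Ideal.Quotient.mk_surjective q
    exact ⟨f, rfl⟩
  have hCcomp : (MvPowerSeries.C : Ah A →+* PA A).comp (algebraMap A (Ah A)) =
      algebraMap A (PA A) :=
    RingHom.ext fun a => (MvPowerSeries.algebraMap_apply (r := a)).symm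
  have hQcomp : (Ideal.Quotient.mk (Ideal.span {genQ A a b c α})).comp (algebraMap A (PA A)) =
      algebraMap A (QAq A a b c α) := rfl
  have hmapC : ((maximalIdeal A).map (algebraMap A (Ah A))).map
      (MvPowerSeries.C : Ah A →+* PA A) = (maximalIdeal A).map (algebraMap A (PA A)) := by
    rw [Ideal.map_map, hCcomp]
  have hmapQ : ((maximalIdeal A).map (algebraMap A (PA A))).map
      (Ideal.Quotient.mk (Ideal.span {genQ A a b c α})) =
      (maximalIdeal A).map (algebraMap A (QAq A a b c α)) := by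
    rw [Ideal.map_map, hQcomp]
  have hmker : (maximalIdeal A).map (algebraMap A (PA A)) ≤ RingHom.ker θ₂ := by
    rw [Ideal.map_le_iff_le_comap]
    intro μ hμ
    rw [Ideal.mem_comap, RingHom.mem_ker, hθ₂]
    have e : (Ideal.Quotient.mk (Ideal.span {genQ A a b c α})) (algebraMap A (PA A) μ) =
        algebraMap A (QAq A a b c α) μ := rfl
    rw [e, ψ.commutes]
    exact hεm μ hμ
  have hCα : (MvPowerSeries.C α : PA A) ∈ (maximalIdeal A).map (algebraMap A (PA A)) := by
    rw [← hmapC]; exact Ideal.mem_map_of_mem _ hα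
  have hGgen : G = genQ A a b c α + MvPowerSeries.C α := by
    rw [hGdef]; ring
  have hGker : G ∈ RingHom.ker θ₂ := by
    rw [hGgen]
    refine add_mem ?_ (hmker hCα)
    have hz : (Ideal.Quotient.mk (Ideal.span {genQ A a b c α})) (genQ A a b c α) = 0 :=
      Ideal.Quotient.eq_zero_iff_mem.mpr (Ideal.subset_span (Set.mem_singleton _))
    rw [RingHom.mem_ker, hθ₂, hz, map_zero, map_zero]
  have hker12 : RingHom.ker θ₁ ≤ RingHom.ker θ₂ := by
    intro f hf
    rw [RingHom.mem_ker] at hf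
    have h1 : ρ f ∈ Ideal.span {qf a₁ b₁ c₁} := Ideal.Quotient.eq_zero_iff_mem.mp hf
    rw [← hρG] at h1
    have h2 := mem_sup_of_map_mem_gen ρ₀ hρ₀s hkfg G f h1
    rw [hρ₀k, hmapC] at h2
    exact (sup_le hmker ((Ideal.span_singleton_le_iff_mem _).mpr hGker)) h2
  let σ : R0q k a₁ b₁ c₁ →+* R0q k a₁ b₁ c₁ :=
    θ₁.liftOfSurjective hθ₁s ⟨θ₂, hker12⟩
  have hσ : ∀ f, σ (θ₁ f) = θ₂ f := fun f =>
    θ₁.liftOfSurjective_comp_apply hθ₁s ⟨θ₂, hker12⟩ f
  have hσs : Function.Surjective σ := by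
    intro y
    obtain ⟨f, rfl⟩ := hθ₂s y
    exact ⟨θ₁ f, hσ f⟩
  haveI : IsNoetherianRing (MvPowerSeries (Fin 2) k) := inferInstance
  have hσi : Function.Injective σ := injective_of_surjective_endo σ hσs
  have hker : RingHom.ker (ψ : QAq A a b c α →+* D) ≤
      (maximalIdeal A).map (algebraMap A (QAq A a b c α)) := by
    intro q hq
    obtain ⟨f, rfl⟩ := Ideal.Quotient.mk_surjective q
    have h1 : θ₂ f = 0 := by
      rw [RingHom.mem_ker] at hq
      rw [hθ₂, show ψ (Ideal.Quotient.mk _ f) = 0 from hq, map_zero]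
    have h2 : θ₁ f = 0 := by
      apply hσi; rw [hσ, h1, map_zero]
    have h3 : ρ f ∈ Ideal.span {qf a₁ b₁ c₁} := Ideal.Quotient.eq_zero_iff_mem.mp h2
    rw [← hρG] at h3
    have h4 := mem_sup_of_map_mem_gen ρ₀ hρ₀s hkfg G f h3
    rw [hρ₀k, hmapC] at h4
    have h5 := Ideal.mem_map_of_mem (Ideal.Quotient.mk (Ideal.span {genQ A a b c α})) h4
    rw [Ideal.map_sup, hmapQ, Ideal.map_span, Set.image_singleton] at h5
    have h6 : Ideal.span {Ideal.Quotient.mk (Ideal.span {genQ A a b c α}) G} ≤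
        (maximalIdeal A).map (algebraMap A (QAq A a b c α)) := by
      rw [Ideal.span_singleton_le_iff_mem]
      have e : Ideal.Quotient.mk (Ideal.span {genQ A a b c α}) G =
          Ideal.Quotient.mk (Ideal.span {genQ A a b c α}) (MvPowerSeries.C α) := by
        rw [Ideal.Quotient.eq, hGgen, add_sub_cancel_right]
        exact Ideal.subset_span (Set.mem_singleton _)
      rw [e, ← hmapQ]
      exact Ideal.mem_map_of_mem _ hCα
    exact (sup_le le_rfl h6) h5
  haveI : Nontrivial (QAq A a b c α) := hψ.nontrivial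
  haveI : IsLocalRing (QAq A a b c α) :=
    IsLocalRing.of_surjective' (Ideal.Quotient.mk _) Ideal.Quotient.mk_surjective
  have hcomp : (ψ : QAq A a b c α →+* D).comp (algebraMap A (QAq A a b c α)) = algebraMap A D :=
    ψ.comp_algebraMap
  haveI : IsLocalHom ((ψ : QAq A a b c α →+* D).comp (algebraMap A (QAq A a b c α))) := by
    rw [hcomp]; infer_instance
  haveI : IsLocalHom (algebraMap A (QAq A a b c α)) :=
    isLocalHom_of_comp _ (ψ : QAq A a b c α →+* D)
  have hflat : ((ψ : QAq A a b c α →+* D).comp (algebraMap A (QAq A a b c α))).Flat := by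
    rw [hcomp]; exact RingHom.flat_algebraMap_iff.mpr inferInstance
  exact Groth.Agent.Lib.Helper4.FibreIso1.injective_of_flat_of_ker_le
    (algebraMap A (QAq A a b c α)) (ψ : QAq A a b c α →+* D) hψ hflat hker

end InjQ

section R0Q

variable (K : Type u) [CommRing K] (a b c : K)

/-- the constant coefficient on the formal quadratic node -/
noncomputable def ccR0q : R0q K a b c →+* K :=
  Ideal.Quotient.lift _ (MvPowerSeries.constantCoeff : MvPowerSeries (Fin 2) K →+* K) (by
    intro f hf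
    obtain ⟨g, rfl⟩ := Ideal.mem_span_singleton'.mp hf
    rw [map_mul, constantCoeff_qf, mul_zero])

theorem ccR0q_mk (f : MvPowerSeries (Fin 2) K) :
    ccR0q K a b c (Ideal.Quotient.mk _ f) = MvPowerSeries.constantCoeff f := rfl

theorem exists_decomp_R0q (z : R0q K a b c) (hz : ccR0q K a b c z = 0) :
    ∃ p q : R0q K a b c, z = Ideal.Quotient.mk _ (MvPowerSeries.X 0) * p +
      Ideal.Quotient.mk _ (MvPowerSeries.X 1) * q := by
  obtain ⟨F, rfl⟩ := Ideal.Quotient.mk_surjective z
  obtain ⟨E, G, hF⟩ := Groth.Agent.Helper8.ThickNode.exists_decomp F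
  rw [ccR0q_mk] at hz
  rw [hz, map_zero, zero_add] at hF
  refine ⟨Ideal.Quotient.mk _ E, Ideal.Quotient.mk _ G, ?_⟩
  have h := congrArg (Ideal.Quotient.mk (Ideal.span {qf a b c})) hF
  rw [map_add, map_mul, map_mul] at h
  exact h

end R0Q

section CoreQ

theorem node_family_core_Q (A B C K : Type u) [CommRing A] [IsLocalRing A] [IsNoetherianRing A]
    [CommRing B] [IsLocalRing B] [IsNoetherianRing B] [Algebra A B]
    [IsLocalHom (algebraMap A B)] [Module.Flat A B]
    [CommRing C] [IsLocalRing C] [Field K] [Algebra K C]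
    (ρ : A →+* K) (hρ : Function.Surjective ρ)
    (π : B →+* C) (hπ : Function.Surjective π)
    (hker : RingHom.ker π = (maximalIdeal A).map (algebraMap A B))
    (hcompat : ∀ a : A, π (algebraMap A B a) = algebraMap K C (ρ a))
    (hC : ∃ a b c : K, b ^ 2 - 4 * a * c ≠ 0 ∧
      ∃ e : AdicCompletion (maximalIdeal C) C ≃+* (MvPowerSeries (Fin 2) K ⧸ Ideal.span
          {(MvPowerSeries.C a * MvPowerSeries.X 0 ^ 2 + MvPowerSeries.C b * MvPowerSeries.X 0 * MvPowerSeries.X 1 +
            MvPowerSeries.C c * MvPowerSeries.X 1 ^ 2 : MvPowerSeries (Fin 2) K)}),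
        ∀ r : K, e (algebraMap C (AdicCompletion (maximalIdeal C) C) (algebraMap K C r)) =
          Ideal.Quotient.mk _ (MvPowerSeries.C r)) :
    ∃ a b c : AdicCompletion (maximalIdeal A) A, IsUnit (b ^ 2 - 4 * a * c) ∧
      ∃ h ∈ maximalIdeal (AdicCompletion (maximalIdeal A) A),
        ∃ e : AdicCompletion (maximalIdeal B) B ≃+*
            (MvPowerSeries (Fin 2) (AdicCompletion (maximalIdeal A) A) ⧸ Ideal.span
              {(MvPowerSeries.C a * MvPowerSeries.X 0 ^ 2 + MvPowerSeries.C b * MvPowerSeries.X 0 * MvPowerSeries.X 1 +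
                MvPowerSeries.C c * MvPowerSeries.X 1 ^ 2 - MvPowerSeries.C h :
                  MvPowerSeries (Fin 2) (AdicCompletion (maximalIdeal A) A))}),
          ∀ r : A, e (algebraMap B (AdicCompletion (maximalIdeal B) B) (algebraMap A B r)) =
            Ideal.Quotient.mk _
              (MvPowerSeries.C (algebraMap A (AdicCompletion (maximalIdeal A) A) r)) := by
  classical
  obtain ⟨a₀, b₀, c₀, hdisc, e₀, he₀⟩ := hC
  obtain ⟨a, rfl⟩ := hρ a₀
  obtain ⟨b, rfl⟩ := hρ b₀
  obtain ⟨c, rfl⟩ := hρ c₀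
  haveI : IsLocalHom ρ := IsLocalHom.of_surjective ρ hρ
  have hunit : IsUnit (b ^ 2 - 4 * a * c) := by
    apply isUnit_of_map_unit ρ
    rw [map_sub, map_pow, map_mul, map_mul, map_ofNat]
    exact isUnit_iff_ne_zero.mpr hdisc
  have hfg : (maximalIdeal A).FG := IsNoetherian.noetherian _
  letI : Algebra B C := π.toAlgebra
  have hπ' : Function.Surjective (algebraMap B C) := hπ
  haveI : IsNoetherianRing C := isNoetherianRing_of_surjective B C π hπ
  obtain ⟨ε', hε's, hε'c, hε'k⟩ := exists_completion_map B C hπ'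
  have htower : algebraMap A (AdicCompletion (maximalIdeal B) B) =
      (algebraMap B (AdicCompletion (maximalIdeal B) B)).comp (algebraMap A B) :=
    RingHom.ext (fun a => rfl)
  haveI : IsLocalHom (algebraMap A (AdicCompletion (maximalIdeal B) B)) := by
    rw [htower]; exact RingHom.isLocalHom_comp _ _
  haveI : IsScalarTower A B (AdicCompletion (maximalIdeal B) B) :=
    IsScalarTower.of_algebraMap_eq (fun a => rfl)
  haveI : Module.Flat A (AdicCompletion (maximalIdeal B) B) :=
    Module.Flat.trans A B (AdicCompletion (maximalIdeal B) B)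
  haveI : IsNoetherianRing (AdicCompletion (maximalIdeal B) B) :=
    Groth.Agent.Helper8.AdicReg.isNoetherianRing B _
  have hmapJ : ((maximalIdeal A).map (algebraMap A B)).map
      (algebraMap B (AdicCompletion (maximalIdeal B) B)) =
      (maximalIdeal A).map (algebraMap A (AdicCompletion (maximalIdeal B) B)) := by
    rw [Ideal.map_map, ← htower]
  let εK : AdicCompletion (maximalIdeal B) B →+* R0q K (ρ a) (ρ b) (ρ c) :=
    e₀.toRingHom.comp ε'
  have hεK : ∀ d, εK d = e₀ (ε' d) := fun d => rfl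
  have hεKs : Function.Surjective εK := by
    intro y
    obtain ⟨c, rfl⟩ := e₀.surjective y
    obtain ⟨d, rfl⟩ := hε's c
    exact ⟨d, rfl⟩
  have hεKker : RingHom.ker εK =
      (maximalIdeal A).map (algebraMap A (AdicCompletion (maximalIdeal B) B)) := by
    rw [← hmapJ, ← hker]
    have hkk : RingHom.ker (algebraMap B C) = RingHom.ker π := rfl
    rw [← hkk, ← hε'k]
    ext d
    rw [RingHom.mem_ker, RingHom.mem_ker, hεK]
    exact map_eq_zero_iff e₀ e₀.injective
  have hεKalg : ∀ r : A, εK (algebraMap A (AdicCompletion (maximalIdeal B) B) r) =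
      Ideal.Quotient.mk _ (MvPowerSeries.C (ρ r)) := by
    intro r
    have e1 : algebraMap A (AdicCompletion (maximalIdeal B) B) r =
        algebraMap B (AdicCompletion (maximalIdeal B) B) (algebraMap A B r) := rfl
    have e2 : algebraMap B C (algebraMap A B r) = algebraMap K C (ρ r) := hcompat r
    rw [hεK, e1, hε'c, e2]
    exact he₀ (ρ r)
  let φK : AdicCompletion (maximalIdeal B) B →+* K := (ccR0q K (ρ a) (ρ b) (ρ c)).comp εK
  have hφK : ∀ d, φK d = ccR0q K (ρ a) (ρ b) (ρ c) (εK d) := fun d => rfl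
  have hφKs : Function.Surjective φK := by
    intro r
    obtain ⟨d, hd⟩ := hεKs (Ideal.Quotient.mk _ (MvPowerSeries.C r))
    refine ⟨d, ?_⟩
    rw [hφK, hd, ccR0q_mk, MvPowerSeries.constantCoeff_C]
  have hφKker : RingHom.ker φK = maximalIdeal (AdicCompletion (maximalIdeal B) B) :=
    IsLocalRing.ker_eq_maximalIdeal φK hφKs
  have hmem : ∀ d : AdicCompletion (maximalIdeal B) B,
      d ∈ maximalIdeal (AdicCompletion (maximalIdeal B) B) ↔
        ccR0q K (ρ a) (ρ b) (ρ c) (εK d) = 0 := by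
    intro d; rw [← hφKker, RingHom.mem_ker, hφK]
  have hres' : ∀ d : AdicCompletion (maximalIdeal B) B, ∃ r : A,
      d - algebraMap A (AdicCompletion (maximalIdeal B) B) r ∈
        maximalIdeal (AdicCompletion (maximalIdeal B) B) := by
    intro d
    obtain ⟨r, hr⟩ := hρ (ccR0q K (ρ a) (ρ b) (ρ c) (εK d))
    refine ⟨r, ?_⟩
    rw [hmem, map_sub, map_sub, hεKalg, ccR0q_mk, MvPowerSeries.constantCoeff_C, hr, sub_self]
  obtain ⟨u₀, hu₀⟩ := hεKs (Ideal.Quotient.mk _ (MvPowerSeries.X 0))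
  obtain ⟨v₀, hv₀⟩ := hεKs (Ideal.Quotient.mk _ (MvPowerSeries.X 1))
  have hq : qv (algebraMap A (AdicCompletion (maximalIdeal B) B) a)
      (algebraMap A (AdicCompletion (maximalIdeal B) B) b)
      (algebraMap A (AdicCompletion (maximalIdeal B) B) c) u₀ v₀ ∈
      (maximalIdeal A).map (algebraMap A (AdicCompletion (maximalIdeal B) B)) := by
    rw [← hεKker, RingHom.mem_ker]
    have e : (Ideal.Quotient.mk (Ideal.span {qf (ρ a) (ρ b) (ρ c)})) (qf (ρ a) (ρ b) (ρ c)) = 0 :=
      Ideal.Quotient.eq_zero_iff_mem.mpr (Ideal.subset_span (Set.mem_singleton _))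
    simp only [qf, map_add, map_mul, map_pow] at e
    simp only [qv, map_add, map_mul, map_pow, hεKalg, hu₀, hv₀]
    exact e
  have hJle : (maximalIdeal A).map (algebraMap A (AdicCompletion (maximalIdeal B) B)) ≤
      maximalIdeal (AdicCompletion (maximalIdeal B) B) :=
    ((IsLocalRing.local_hom_TFAE (algebraMap A (AdicCompletion (maximalIdeal B) B))).out 0 2).mp
      ‹IsLocalHom (algebraMap A (AdicCompletion (maximalIdeal B) B))›
  have hu₀m : u₀ ∈ maximalIdeal (AdicCompletion (maximalIdeal B) B) := by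
    rw [hmem, hu₀, ccR0q_mk, MvPowerSeries.constantCoeff_X]
  have hv₀m : v₀ ∈ maximalIdeal (AdicCompletion (maximalIdeal B) B) := by
    rw [hmem, hv₀, ccR0q_mk, MvPowerSeries.constantCoeff_X]
  have hgen : maximalIdeal (AdicCompletion (maximalIdeal B) B) = Ideal.span {u₀, v₀} ⊔
      (maximalIdeal A).map (algebraMap A (AdicCompletion (maximalIdeal B) B)) := by
    apply le_antisymm
    · intro d hd
      rw [hmem] at hd
      obtain ⟨p, q, hpq⟩ := exists_decomp_R0q K (ρ a) (ρ b) (ρ c) (εK d) hd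
      obtain ⟨P, rfl⟩ := hεKs p
      obtain ⟨Q, rfl⟩ := hεKs q
      have hk : d - (u₀ * P + v₀ * Q) ∈ RingHom.ker εK := by
        rw [RingHom.mem_ker, map_sub, map_add, map_mul, map_mul, hu₀, hv₀, ← hpq, sub_self]
      rw [hεKker] at hk
      have e : d = (u₀ * P + v₀ * Q) + (d - (u₀ * P + v₀ * Q)) := by ring
      rw [e]
      refine Ideal.add_mem _ (Ideal.mem_sup_left ?_) (Ideal.mem_sup_right hk)
      exact Ideal.mem_span_pair.mpr ⟨P, Q, by ring⟩
    · refine sup_le ?_ hJle
      exact Ideal.span_le.mpr (Set.insert_subset_iff.mpr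
        ⟨hu₀m, Set.singleton_subset_iff.mpr hv₀m⟩)
  obtain ⟨α, hα, ψ, hψs⟩ :=
    main_abstract_Q A (AdicCompletion (maximalIdeal B) B) hres' u₀ v₀ a b c hunit hq hgen
  let ρ₁ : Ah A →+* ResidueField A := (AdicCompletion.evalOneₐ (maximalIdeal A)).toRingHom
  let ρ₀ : Ah A →+* K := (IsLocalRing.ResidueField.lift ρ).comp ρ₁
  have hρ₀alg : ∀ r : A, ρ₀ (algebraMap A (Ah A) r) = ρ r := fun r => rfl
  have hρ₀s : Function.Surjective ρ₀ := by
    intro y
    obtain ⟨r, rfl⟩ := hρ y
    exact ⟨algebraMap A (Ah A) r, hρ₀alg r⟩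
  have hρ₀k : RingHom.ker ρ₀ = (maximalIdeal A).map (algebraMap A (Ah A)) := by
    rw [← AdicCompletion.ker_evalOneₐ_eq_map _ hfg]
    ext x
    rw [RingHom.mem_ker, RingHom.mem_ker]
    show (IsLocalRing.ResidueField.lift ρ) (ρ₁ x) = 0 ↔ ρ₁ x = 0
    exact map_eq_zero_iff _ (RingHom.injective _)
  have hεm : ∀ μ ∈ maximalIdeal A,
      εK (algebraMap A (AdicCompletion (maximalIdeal B) B) μ) = 0 := by
    intro μ hμ
    rw [← RingHom.mem_ker, hεKker]; exact Ideal.mem_map_of_mem _ hμ
  have hinj := injective_of_flat_of_fibre_Q A (AdicCompletion (maximalIdeal B) B) a b c α hα ψ hψs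
    K ρ₀ hρ₀s hρ₀k (ρ a) (ρ b) (ρ c) (hρ₀alg a) (hρ₀alg b) (hρ₀alg c) εK hεKs hεm
  let E : QAq A a b c α ≃ₐ[A] AdicCompletion (maximalIdeal B) B :=
    AlgEquiv.ofBijective ψ ⟨hinj, hψs⟩
  refine ⟨algebraMap A (Ah A) a, algebraMap A (Ah A) b, algebraMap A (Ah A) c, ?_, α, ?_,
    E.symm.toRingEquiv, ?_⟩
  · have h1 := hunit.map (algebraMap A (Ah A))
    rw [map_sub, map_pow, map_mul, map_mul, map_ofNat] at h1
    exact h1
  · rw [AdicCompletion.maximalIdeal_eq_map]; exact hα
  · intro r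
    have e1 : algebraMap B (AdicCompletion (maximalIdeal B) B) (algebraMap A B r) =
        algebraMap A (AdicCompletion (maximalIdeal B) B) r := rfl
    rw [e1]
    show E.symm (algebraMap A (AdicCompletion (maximalIdeal B) B) r) = _
    rw [E.symm.commutes]
    show Ideal.Quotient.mk _ (algebraMap A (PA A) r) = _
    rw [MvPowerSeries.algebraMap_apply]

end CoreQ

end Groth.Agent.Helper1.NodeCpl
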