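import Mathlib
import Groth.Prelude
import Groth.Agent.Lib.Helper1.NodeQ2
import Groth.Agent.Lib.Helper1.NodeCpl4

/-!
# Completion of a flat family at a rational (possibly non-split) node of a fibre (helper1)
-/

set_option autoImplicit false
universe u

open CategoryTheory CategoryTheory.Limits AlgebraicGeometry IsLocalRing Opposite

namespace Groth.Agent.Helper1.NodeCpl

section MainQ

variable {T S : Scheme.{u}}

/-- the conclusion of S16290 as a predicate on the point -/
def NodeConclQ (f : T ⟶ S) (t : T) : Prop :=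
  ∀ [IsNoetherianRing (S.presheaf.stalk (f t))],
    ∃ a b c : Curv2.cpl (S.presheaf.stalk (f t)), IsUnit (b ^ 2 - 4 * a * c) ∧
      ∃ h ∈ IsLocalRing.maximalIdeal (Curv2.cpl (S.presheaf.stalk (f t))),
        ∃ e : Curv2.cpl (T.presheaf.stalk t) ≃+*
            (MvPowerSeries (Fin 2) (Curv2.cpl (S.presheaf.stalk (f t))) ⧸ Ideal.span
              {(MvPowerSeries.C a * MvPowerSeries.X 0 ^ 2 + MvPowerSeries.C b * MvPowerSeries.X 0 * MvPowerSeries.X 1 +
                MvPowerSeries.C c * MvPowerSeries.X 1 ^ 2 - MvPowerSeries.C h : MvPowerSeries (Fin 2) (Curv2.cpl (S.presheaf.stalk (f t))))}),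
          ∀ r : S.presheaf.stalk (f t),
            e (algebraMap (T.presheaf.stalk t) (Curv2.cpl (T.presheaf.stalk t)) ((f.stalkMap t).hom r)) =
              Ideal.Quotient.mk _ (MvPowerSeries.C (algebraMap (S.presheaf.stalk (f t)) (Curv2.cpl (S.presheaf.stalk (f t))) r))

theorem nodeConclQ_fiberι (f : T ⟶ S) [LocallyOfFiniteType f] (y : S) (x' : f.fiber y)
    (hfl : (f.stalkMap (f.fiberι y x')).hom.Flat)
    (hC : letI : (f.fiber y).Over (Spec (CommRingCat.of (S.residueField y))) := ⟨f.fiberToSpecResidueField y⟩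
      letI := Curv2.stalkAlgebra (S.residueField y) (f.fiber y) x'
      ∃ a b c : S.residueField y, b ^ 2 - 4 * a * c ≠ 0 ∧
          ∃ e : Curv2.cpl ((f.fiber y).presheaf.stalk x') ≃+*
              (MvPowerSeries (Fin 2) (S.residueField y) ⧸ Ideal.span
                {(MvPowerSeries.C a * MvPowerSeries.X 0 ^ 2 + MvPowerSeries.C b * MvPowerSeries.X 0 * MvPowerSeries.X 1 +
                  MvPowerSeries.C c * MvPowerSeries.X 1 ^ 2 : MvPowerSeries (Fin 2) (S.residueField y))}),
            ∀ r : S.residueField y,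
              e (algebraMap ((f.fiber y).presheaf.stalk x') _
                  (algebraMap (S.residueField y) ((f.fiber y).presheaf.stalk x') r)) =
                Ideal.Quotient.mk _ (MvPowerSeries.C r)) :
    NodeConclQ f (f.fiberι y x') := by
  intro _inst
  have hy : f (f.fiberι y x') = y := map_fiberι_apply f y x'
  letI : (f.fiber y).Over (Spec (CommRingCat.of (S.residueField y))) :=
    ⟨f.fiberToSpecResidueField y⟩
  letI algKC : Algebra (S.residueField y) ((f.fiber y).presheaf.stalk x') :=
    Curv2.stalkAlgebra (S.residueField y) (f.fiber y) x'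
  letI algAB : Algebra (S.presheaf.stalk (f (f.fiberι y x')))
      (T.presheaf.stalk (f.fiberι y x')) := (f.stalkMap (f.fiberι y x')).hom.toAlgebra
  haveI : IsLocalHom (algebraMap (S.presheaf.stalk (f (f.fiberι y x')))
      (T.presheaf.stalk (f.fiberι y x'))) :=
    (inferInstance : IsLocalHom (f.stalkMap (f.fiberι y x')).hom)
  haveI : Module.Flat (S.presheaf.stalk (f (f.fiberι y x')))
      (T.presheaf.stalk (f.fiberι y x')) := hfl
  haveI : Algebra.EssFiniteType (S.presheaf.stalk (f (f.fiberι y x')))
      (T.presheaf.stalk (f.fiberι y x')) := LocallyOfFiniteType.stalkMap f (f.fiberι y x')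
  haveI : IsNoetherianRing (T.presheaf.stalk (f.fiberι y x')) :=
    Algebra.EssFiniteType.isNoetherianRing (S.presheaf.stalk (f (f.fiberι y x'))) _
  let ρ : S.presheaf.stalk (f (f.fiberι y x')) →+* S.residueField y :=
    (S.residue y).hom.comp (S.presheaf.stalkCongr (Inseparable.of_eq hy)).hom.hom
  have hρ : Function.Surjective ρ := by
    have h1 : Function.Bijective (S.presheaf.stalkCongr (Inseparable.of_eq hy)).hom.hom :=
      ConcreteCategory.bijective_of_isIso (S.presheaf.stalkCongr (Inseparable.of_eq hy)).hom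
    exact (S.residue_surjective y).comp h1.2
  exact node_family_core_Q _ _ ((f.fiber y).presheaf.stalk x') (S.residueField y) ρ hρ
    ((f.fiberι y).stalkMap x').hom ((f.fiberι y).stalkMap_surjective x')
    (Groth.Agent.Helper3.FibStalk.ker_stalkMap_fiberι f y x')
    (fun a => fibre_compat f y x' hy a) hC

theorem S16290_main (f : T ⟶ S) [LocallyOfFiniteType f] (t : T)
    [IsNoetherianRing (S.presheaf.stalk (f t))] (hfl : (f.stalkMap t).hom.Flat)
    (ht : letI : (f.fiber (f t)).Over (Spec (CommRingCat.of (S.residueField (f t)))) := ⟨f.fiberToSpecResidueField (f t)⟩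
      letI := Curv2.stalkAlgebra (S.residueField (f t)) (f.fiber (f t)) (f.asFiber t)
      IsClosed ({f.asFiber t} : Set (f.fiber (f t))) ∧
        ∃ a b c : S.residueField (f t), b ^ 2 - 4 * a * c ≠ 0 ∧
          ∃ e : Curv2.cpl ((f.fiber (f t)).presheaf.stalk (f.asFiber t)) ≃+*
              (MvPowerSeries (Fin 2) (S.residueField (f t)) ⧸ Ideal.span
                {(MvPowerSeries.C a * MvPowerSeries.X 0 ^ 2 + MvPowerSeries.C b * MvPowerSeries.X 0 * MvPowerSeries.X 1 +
                  MvPowerSeries.C c * MvPowerSeries.X 1 ^ 2 : MvPowerSeries (Fin 2) (S.residueField (f t)))}),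
            ∀ r : S.residueField (f t),
              e (algebraMap ((f.fiber (f t)).presheaf.stalk (f.asFiber t)) _
                  (algebraMap (S.residueField (f t)) ((f.fiber (f t)).presheaf.stalk (f.asFiber t)) r)) =
                Ideal.Quotient.mk _ (MvPowerSeries.C r)) :
    ∃ a b c : Curv2.cpl (S.presheaf.stalk (f t)), IsUnit (b ^ 2 - 4 * a * c) ∧
      ∃ h ∈ IsLocalRing.maximalIdeal (Curv2.cpl (S.presheaf.stalk (f t))),
        ∃ e : Curv2.cpl (T.presheaf.stalk t) ≃+*
            (MvPowerSeries (Fin 2) (Curv2.cpl (S.presheaf.stalk (f t))) ⧸ Ideal.span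
              {(MvPowerSeries.C a * MvPowerSeries.X 0 ^ 2 + MvPowerSeries.C b * MvPowerSeries.X 0 * MvPowerSeries.X 1 +
                MvPowerSeries.C c * MvPowerSeries.X 1 ^ 2 - MvPowerSeries.C h : MvPowerSeries (Fin 2) (Curv2.cpl (S.presheaf.stalk (f t))))}),
          ∀ r : S.presheaf.stalk (f t),
            e (algebraMap (T.presheaf.stalk t) (Curv2.cpl (T.presheaf.stalk t)) ((f.stalkMap t).hom r)) =
              Ideal.Quotient.mk _ (MvPowerSeries.C (algebraMap (S.presheaf.stalk (f t)) (Curv2.cpl (S.presheaf.stalk (f t))) r)) := by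
  have h := f.fiberι_asFiber t
  have hfl' : (f.stalkMap (f.fiberι (f t) (f.asFiber t))).hom.Flat := by
    rw [h]; exact hfl
  have key : NodeConclQ f (f.fiberι (f t) (f.asFiber t)) :=
    nodeConclQ_fiberι f (f t) (f.asFiber t) hfl' ht.2
  rw [h] at key
  unfold NodeConclQ at key
  exact key

end MainQ

end Groth.Agent.Helper1.NodeCpl
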