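import Mathlib

/-!
# Noetherianity of tensor products with finitely generated field extensions

Helper library of helper1.
-/

set_option autoImplicit false

namespace Groth.Agent.Helper1.NoethTensor

open TensorProduct

universe u

theorem S6276 (k : Type u) [Field k] (R : Type u) [CommRing R] [Algebra k R] [IsNoetherianRing R]
    (K : Type u) [Field K] [Algebra k K]
    (hK : ∃ s : Finset K, IntermediateField.adjoin k (s : Set K) = ⊤) :
    IsNoetherianRing (K ⊗[k] R) := by
  obtain ⟨s, hs⟩ := hK
  let A : Subalgebra k K := Algebra.adjoin k (s : Set K)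
  haveI hAft : Algebra.FiniteType k A :=
    (Subalgebra.fg_iff_finiteType A).1 (Subalgebra.fg_adjoin_finset s)
  haveI hfrac : IsFractionRing A K := by
    apply IsFractionRing.of_field
    intro z
    have hz : z ∈ IntermediateField.adjoin k (s : Set K) := hs ▸ IntermediateField.mem_top
    obtain ⟨x, hx, y, hy, e⟩ := IntermediateField.mem_adjoin_iff_div.mp hz
    exact ⟨⟨x, hx⟩, ⟨y, hy⟩, e⟩
  haveI h1 : Algebra.FiniteType R (R ⊗[k] A) := inferInstance
  haveI h2 : IsNoetherianRing (R ⊗[k] A) := Algebra.FiniteType.isNoetherianRing R _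
  haveI h3 : IsNoetherianRing (A ⊗[k] R) :=
    isNoetherianRing_of_ringEquiv _ (Algebra.TensorProduct.comm k R A).toRingEquiv
  have hloc : IsLocalization (Algebra.algebraMapSubmonoid (A ⊗[k] R) (nonZeroDivisors A))
      ((A ⊗[k] R) ⊗[A] K) := IsLocalization.tensor K (nonZeroDivisors A)
  haveI h4 : IsNoetherianRing ((A ⊗[k] R) ⊗[A] K) :=
    IsLocalization.isNoetherianRing
      (Algebra.algebraMapSubmonoid (A ⊗[k] R) (nonZeroDivisors A)) ((A ⊗[k] R) ⊗[A] K) h3
  exact isNoetherianRing_of_ringEquiv _
    ((Algebra.TensorProduct.comm A (A ⊗[k] R) K).toRingEquiv.trans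
      (Algebra.TensorProduct.cancelBaseChange k A A K R).toRingEquiv)

end Groth.Agent.Helper1.NoethTensor
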