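import Mathlib

namespace Groth.Agent.Helper1.Normal

universe u

open IsLocalRing

variable {A : Type u} [CommRing A] [IsDomain A] [IsNoetherianRing A] [IsIntegrallyClosed A]

theorem tfae_conds_atPrime (p : Ideal A) [p.IsPrime] (hp1 : p.height ≤ 1) :
    (maximalIdeal (Localization.AtPrime p)).IsPrincipal ∧
      ∀ I : Ideal (Localization.AtPrime p), I ≠ ⊥ → ∃ n : ℕ, I = maximalIdeal _ ^ n := by
  have hic : IsIntegrallyClosed (Localization.AtPrime p) :=
    isIntegrallyClosed_of_isLocalization (Localization.AtPrime p) p.primeCompl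
      p.primeCompl_le_nonZeroDivisors
  have hdim : ringKrullDim (Localization.AtPrime p) ≤ 1 := by
    rw [IsLocalization.AtPrime.ringKrullDim_eq_height p]
    exact_mod_cast hp1
  have hK : Ring.KrullDimLE 1 (Localization.AtPrime p) := Ring.krullDimLE_iff.mpr hdim
  have h4 : IsIntegrallyClosed (Localization.AtPrime p) ∧
      ∀ P : Ideal (Localization.AtPrime p), P ≠ ⊥ → P.IsPrime → P = maximalIdeal _ := by
    refine ⟨hic, fun P hP hPp => ?_⟩
    exact eq_maximalIdeal (hPp.isMaximal_of_ne_bot hP)
  have tf := tfae_of_isNoetherianRing_of_isLocalRing_of_isDomain (Localization.AtPrime p)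
  exact ⟨(tf.out 3 4).mp h4, (tf.out 3 6).mp h4⟩

omit [IsNoetherianRing A] [IsIntegrallyClosed A] in
/-- Divisibility in the localization at `p` descends to `A` up to a denominator outside `p`. -/
theorem exists_dvd_of_dvd_atPrime (p : Ideal A) [p.IsPrime] (x y : A)
    (h : algebraMap A (Localization.AtPrime p) y ∣ algebraMap A (Localization.AtPrime p) x) :
    ∃ σ : A, σ ∉ p ∧ y ∣ σ * x := by
  obtain ⟨c, hc⟩ := h
  obtain ⟨c₀, σ, rfl⟩ := IsLocalization.exists_mk'_eq p.primeCompl c
  refine ⟨σ.1, σ.2, c₀, ?_⟩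
  apply IsLocalization.injective (Localization.AtPrime p) p.primeCompl_le_nonZeroDivisors
  rw [map_mul, map_mul, hc, mul_comm, mul_assoc, IsLocalization.mk'_spec]

theorem main (z : A) (hz : (Ideal.span {z}).radical.IsPrime) :
    ∃ (w t : A) (r : ℕ), w ∉ (Ideal.span {z}).radical ∧
      Ideal.span {algebraMap A (Localization.Away w) z} =
        Ideal.span {algebraMap A (Localization.Away w) t ^ r} ∧
      (Ideal.span {algebraMap A (Localization.Away w) t}).IsPrime := by
  by_cases hz0 : z = 0
  · subst hz0
    refine ⟨1, 0, 1, ?_, ?_, ?_⟩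
    · intro h1
      exact hz.ne_top ((Ideal.eq_top_iff_one _).mpr h1)
    · simp
    · have hdom : IsDomain (Localization.Away (1 : A)) :=
        IsLocalization.isDomain_localization (M := Submonoid.powers (1 : A))
          (powers_le_nonZeroDivisors_of_noZeroDivisors one_ne_zero)
      rw [map_zero, Ideal.span_singleton_zero]
      exact Ideal.isPrime_bot
  set p := (Ideal.span {z}).radical with hp
  have hzp : z ∈ p := Ideal.le_radical (Ideal.mem_span_singleton_self z)
  have hpmin : p ∈ (Ideal.span {z}).minimalPrimes := by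
    refine ⟨⟨hz, Ideal.le_radical⟩, fun q hq _ => ?_⟩
    exact hq.1.radical_le_iff.mpr hq.2
  have hht : p.height ≤ 1 := Ideal.height_le_one_of_isPrincipal_of_mem_minimalPrimes _ p hpmin
  obtain ⟨hprinc, hpow⟩ := tfae_conds_atPrime p hht
  set S := Localization.AtPrime p
  -- generator of the maximal ideal coming from A
  obtain ⟨τ, hτ⟩ := hprinc
  obtain ⟨t, s, rfl⟩ := IsLocalization.exists_mk'_eq p.primeCompl τ
  have hm : maximalIdeal S = Ideal.span {algebraMap A S t} := by
    rw [hτ]
    change Ideal.span _ = _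
    apply Ideal.span_singleton_eq_span_singleton.mpr
    have hu : IsUnit (algebraMap A S s.1) := IsLocalization.map_units S s
    have := IsLocalization.mk'_spec S t s
    rw [← this]
    exact (associated_mul_unit_right _ _ hu)
  have htp : t ∈ p := by
    have : algebraMap A S t ∈ maximalIdeal S := by
      rw [hm]; exact Ideal.mem_span_singleton_self _
    exact (IsLocalization.AtPrime.to_map_mem_maximal_iff S p t).mp this
  -- (z) = m^r
  have hzS : Ideal.span {algebraMap A S z} ≠ ⊥ := by
    rw [Ne, Ideal.span_singleton_eq_bot]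
    intro h0
    apply hz0
    apply IsLocalization.injective S p.primeCompl_le_nonZeroDivisors
    rw [h0, map_zero]
  obtain ⟨r, hr⟩ := hpow _ hzS
  rw [hm, Ideal.span_singleton_pow, ← map_pow] at hr
  have hassoc := Ideal.span_singleton_eq_span_singleton.mp hr
  obtain ⟨s₁, hs₁, hd₁⟩ := exists_dvd_of_dvd_atPrime p z (t ^ r) hassoc.symm.dvd
  obtain ⟨s₂, hs₂, hd₂⟩ := exists_dvd_of_dvd_atPrime p (t ^ r) z hassoc.dvd
  -- generators of p
  obtain ⟨G, hG⟩ := (IsNoetherian.noetherian p : p.FG)
  have hgen : ∀ g ∈ G, ∃ σ : A, σ ∉ p ∧ t ∣ σ * g := by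
    intro g hg
    have hgp : g ∈ p := by rw [← hG]; exact Ideal.subset_span hg
    apply exists_dvd_of_dvd_atPrime p g t
    have : algebraMap A S g ∈ maximalIdeal S :=
      (IsLocalization.AtPrime.to_map_mem_maximal_iff S p g).mpr hgp
    rw [hm] at this
    exact Ideal.mem_span_singleton.mp this
  choose! σ hσ hσd using hgen
  set w := s₁ * s₂ * ∏ g ∈ G, σ g with hw
  have hwp : w ∉ p := by
    intro hmem
    rcases hz.mem_or_mem hmem with h | h
    · rcases hz.mem_or_mem h with h | h
      · exact hs₁ h
      · exact hs₂ h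
    · obtain ⟨g, hg, hgm⟩ := (hz.prod_mem_iff).mp h
      exact hσ g hg hgm
  set T := Localization.Away w
  have hw0 : w ≠ 0 := fun h0 => hwp (h0 ▸ p.zero_mem)
  have hdomT : IsDomain T :=
    IsLocalization.isDomain_localization (M := Submonoid.powers w)
      (powers_le_nonZeroDivisors_of_noZeroDivisors hw0)
  have huw : IsUnit (algebraMap A T w) := IsLocalization.Away.algebraMap_isUnit w
  have hunit : ∀ a : A, a ∣ w → IsUnit (algebraMap A T a) := fun a ha =>
    isUnit_of_dvd_unit ((algebraMap A T).map_dvd ha) huw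
  refine ⟨w, t, r, hwp, ?_, ?_⟩
  · apply Ideal.span_singleton_eq_span_singleton.mpr
    rw [← map_pow]
    have hu1 : IsUnit (algebraMap A T s₁) := hunit s₁ ⟨s₂ * ∏ g ∈ G, σ g, by rw [hw]; ring⟩
    have hu2 : IsUnit (algebraMap A T s₂) := hunit s₂ ⟨s₁ * ∏ g ∈ G, σ g, by rw [hw]; ring⟩
    have h1 : algebraMap A T (t ^ r) ∣ algebraMap A T z := by
      have := (algebraMap A T).map_dvd hd₁
      rw [map_mul] at this
      exact (hu1.dvd_mul_left).mp this
    have h2 : algebraMap A T z ∣ algebraMap A T (t ^ r) := by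
      have := (algebraMap A T).map_dvd hd₂
      rw [map_mul] at this
      exact (hu2.dvd_mul_left).mp this
    exact associated_of_dvd_dvd h2 h1
  · have heq : Ideal.span {algebraMap A T t} = Ideal.map (algebraMap A T) p := by
      apply le_antisymm
      · rw [Ideal.span_singleton_le_iff_mem]
        exact Ideal.mem_map_of_mem _ htp
      · rw [← hG, Ideal.map_span, Ideal.span_le]
        rintro _ ⟨g, hg, rfl⟩
        have hu : IsUnit (algebraMap A T (σ g)) := by
          apply hunit
          have : σ g ∣ ∏ g ∈ G, σ g := Finset.dvd_prod_of_mem σ hg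
          exact Dvd.dvd.mul_left this _
        have := (algebraMap A T).map_dvd (hσd g hg)
        rw [map_mul] at this
        exact Ideal.mem_span_singleton.mpr ((hu.dvd_mul_left).mp this)
    rw [heq]
    apply IsLocalization.isPrime_of_isPrime_disjoint (Submonoid.powers w) T p hz
    rw [Set.disjoint_left]
    rintro _ ⟨n, rfl⟩ hmem
    exact hwp (hz.mem_of_pow_mem n hmem)

end Groth.Agent.Helper1.Normal
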