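import Mathlib

set_option autoImplicit false

open scoped TensorProduct
open IntermediateField

namespace Groth.Agent.Helper1.NormalClosTensor

universe u

theorem main {K L M : Type u} [Field K] [Field L] [Field M]
    [Algebra K L] [Algebra K M] [Algebra L M] [IsScalarTower K L M] [FiniteDimensional K L]
    [IsNormalClosure K L M] :
    ∃ f : (⨂[K] _ : Fin (Field.finSepDegree K L), L) →ₐ[K] M, Function.Surjective f := by
  classical
  have hnc := (Algebra.IsAlgebraic.isNormalClosure_iff (F := K) (K := L) (L := M)).1 inferInstance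
  have hcard : Field.finSepDegree K L = Nat.card (L →ₐ[K] M) :=
    Field.finSepDegree_eq_of_adjoin_splits K L M (S := Set.univ)
      (IntermediateField.adjoin_univ K L)
      (fun s _ => ⟨Algebra.IsIntegral.isIntegral s, hnc.1 s⟩)
  let _ : Fintype (L →ₐ[K] M) := minpoly.AlgHom.fintype K L M
  have hcard' : Fintype.card (L →ₐ[K] M) = Field.finSepDegree K L := by
    rw [hcard, Nat.card_eq_fintype_card]
  obtain ⟨e⟩ : Nonempty (Fin (Field.finSepDegree K L) ≃ (L →ₐ[K] M)) :=
    ⟨(Fintype.equivFinOfCardEq hcard').symm⟩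
  obtain ⟨mm, hmm⟩ : ∃ mm : MultilinearMap K (fun _ : Fin (Field.finSepDegree K L) => L) M,
      ∀ x : Fin (Field.finSepDegree K L) → L, mm x = ∏ i, e i (x i) := by
    refine ⟨(MultilinearMap.mkPiAlgebra K (Fin (Field.finSepDegree K L)) M).compLinearMap
      (fun i => (e i).toLinearMap), fun x => ?_⟩
    rw [MultilinearMap.compLinearMap_apply, MultilinearMap.mkPiAlgebra_apply]
    rfl
  have hone : mm 1 = 1 := by
    rw [hmm]
    simp
  have hmul : ∀ x y, mm (x * y) = mm x * mm y := by
    intro x y
    rw [hmm, hmm, hmm, ← Finset.prod_mul_distrib]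
    simp
  refine ⟨PiTensorProduct.liftAlgHom mm hone hmul, ?_⟩
  have hfdM : FiniteDimensional K M := by
    have h1 : FiniteDimensional K (normalClosure K L M) := inferInstance
    rw [hnc.2] at h1
    exact Module.Finite.equiv (IntermediateField.topEquiv (F := K) (E := M)).toLinearEquiv
  have hfield : IsField (PiTensorProduct.liftAlgHom mm hone hmul).range :=
    Subalgebra.isField_of_algebraic _
  have hle : ∀ σ : L →ₐ[K] M, σ.fieldRange ≤
      Subalgebra.toIntermediateField' (PiTensorProduct.liftAlgHom mm hone hmul).range hfield := by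
    rintro σ _ ⟨l, rfl⟩
    show σ l ∈ (PiTensorProduct.liftAlgHom mm hone hmul).range
    refine ⟨PiTensorProduct.tprod K (Pi.mulSingle (e.symm σ) l), ?_⟩
    show (PiTensorProduct.liftAlgHom mm hone hmul)
      (PiTensorProduct.tprod K (Pi.mulSingle (e.symm σ) l)) = σ l
    rw [PiTensorProduct.liftAlgHom_apply, PiTensorProduct.lift.tprod, hmm]
    rw [Finset.prod_eq_single (e.symm σ)]
    · rw [Pi.mulSingle_eq_same, Equiv.apply_symm_apply]
    · intro j _ hj
      rw [Pi.mulSingle_eq_of_ne hj, map_one]
    · intro h
      exact absurd (Finset.mem_univ _) h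
  have htop : Subalgebra.toIntermediateField' (PiTensorProduct.liftAlgHom mm hone hmul).range
      hfield = ⊤ := by
    rw [eq_top_iff, ← hnc.2]
    exact normalClosure_le_iff.2 hle
  intro m
  have hm : m ∈ Subalgebra.toIntermediateField' (PiTensorProduct.liftAlgHom mm hone hmul).range
      hfield := by rw [htop]; trivial
  exact hm

end Groth.Agent.Helper1.NormalClosTensor
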