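import Mathlib
import Groth.Agent.Lib.Helper1.NumSurj2

/-!
# Integral curves mapping onto integral curves (helper1)
-/

set_option autoImplicit false
set_option linter.style.haveILetI false
set_option linter.unusedSectionVars false
universe u
open CategoryTheory CategoryTheory.Limits AlgebraicGeometry TopologicalSpace Opposite

namespace Groth.Agent.Helper1.NumSurj3

open Groth.Agent.Helper1 Groth.Agent.Lib.Helper4.FibDim1 Groth.Agent.Lib.Helper4.PropDim1
open Groth.Agent.Helper1.NumSurj Groth.Agent.Helper1.NumSurj2

variable (k : Type u) [Field k] (X X' : Scheme.{u})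
    [X.Over (Spec (CommRingCat.of k))] [X'.Over (Spec (CommRingCat.of k))]
    [IsProper (X ↘ Spec (CommRingCat.of k))] [IsProper (X' ↘ Spec (CommRingCat.of k))]

/-- an integral curve in the target of a surjective morphism of proper schemes is the image of an
integral curve -/
theorem exists_curve_onto (g : X' ⟶ X)
    (hg : g ≫ (X ↘ Spec (CommRingCat.of k)) = X' ↘ Spec (CommRingCat.of k)) [Surjective g]
    (C : X.IdealSheafData) [IsIntegral C.subscheme]
    (hC : topologicalKrullDim (C.support : Set X) = 1) :
    ∃ C' : X'.IdealSheafData, IsIntegral C'.subscheme ∧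
      topologicalKrullDim (C'.support : Set X') = 1 ∧
      g.base '' (C'.support : Set X') = (C.support : Set X) := by
  have hY : topologicalKrullDim C.subscheme = 1 := by rw [dim_subscheme, hC]
  obtain ⟨ξ', hξ', hdim'⟩ := exists_curve_over k X X' g hg C.subscheme C.subschemeι hY
  obtain ⟨I, hI⟩ : ∃ I : X'.IdealSheafData, I = IntMult.ptIdeal ξ' := ⟨_, rfl⟩
  have hint : IsIntegral I.subscheme := by rw [hI]; exact Dv.isIntegral_ptIdeal_subscheme ξ'
  have hrangeι' : Set.range I.subschemeι = closure {ξ'} := by
    rw [hI]; exact Dv.range_ptIdeal_subschemeι ξ'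
  have hsupp : (I.support : Set X') = closure {ξ'} := by
    rw [← hrangeι']; exact I.range_subschemeι.symm
  haveI : IsProper (g ≫ (X ↘ Spec (CommRingCat.of k))) := by rw [hg]; infer_instance
  haveI : IsProper g := IsProper.of_comp g (X ↘ Spec (CommRingCat.of k))
  refine ⟨I, hint, ?_, ?_⟩
  · rw [hsupp, hdim']; exact Nat.cast_one
  · rw [hsupp, ← g.isClosedMap.closure_image_eq_of_continuous g.continuous, Set.image_singleton,
      hξ', closure_generic_subscheme' C]

end Groth.Agent.Helper1.NumSurj3
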