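import Mathlib
import Groth.Agent.Lib.Helper1.NegCfg2
import Groth.Agent.Lib.Helper1.NumSurj1
import Groth.Agent.Lib.Helper1.ArInt1
import Groth.Agent.Lib.Helper1.SpFib8
import Groth.Agent.Lib.Helper1.CurveCart1
import Groth.Agent.Lib.Helper2.Dual.ZeroConn
import Groth.Agent.Lib.Helper7.CurveThru.Loc
import Groth.Agent.Lib.Helper7.CurveThru.TrDim

/-!
# A numerically trivial invertible module with a nonzero section is trivial (helper1)
-/

set_option autoImplicit false
set_option linter.style.haveILetI false
set_option linter.unusedSectionVars false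
universe u
open CategoryTheory CategoryTheory.Limits AlgebraicGeometry TopologicalSpace Opposite

namespace Groth.Agent.Helper1.NumTrivSec

open Groth.Agent.Helper1 Groth.Agent.Helper1.Euler Groth.Agent.Helper1.Dv
open Groth.Agent.Helper1.TwForm Groth.Agent.Helper1.Curve
open Groth.Agent.Lib.Helper4.FibDim1 Groth.Agent.Lib.Helper4.PropDim1

section Main

variable (k : Type u) [Field k] (X : Scheme.{u}) [X.Over (Spec (CommRingCat.of k))]
  [IsProper (X ↘ (Spec (CommRingCat.of k)))] [IsIntegral X]

include k in
/-- a nontrivial effective Cartier divisor on an integral proper scheme over a field meets some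
integral curve properly: there is an integral closed curve whose generic point lies outside the
divisor and which meets the divisor -/
theorem exists_curve_meeting (D : X.IdealSheafData) (hEff : FGA.IsEffCartier D) (htop : D ≠ ⊤) :
    ∃ (I : X.IdealSheafData) (_ : IsIntegral I.subscheme), topologicalKrullDim I.subscheme = 1 ∧
      I.subschemeι (genericPoint I.subscheme) ∉ (D.support : Set X) ∧
      ¬ Disjoint (Set.range I.subschemeι) (D.support : Set X) := by
  haveI : AlgebraicGeometry.IsNoetherian X := isNoetherian_of_proper k X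
  have hbot : D ≠ ⊥ := by
    intro h0
    obtain ⟨U, hxU, a, ha, hU⟩ := hEff (genericPoint X)
    rw [h0] at hU
    have h1 : a ∈ Ideal.span {a} := Ideal.mem_span_singleton_self a
    rw [← hU] at h1
    have h2 : a = 0 := by simpa using h1
    haveI : Nonempty ↥(U : X.Opens) := ⟨⟨genericPoint X, hxU⟩⟩
    rw [h2] at ha
    exact zero_notMem_nonZeroDivisors ha
  have hsupp_ne : (D.support : Set X) ≠ Set.univ := by
    intro h
    apply hbot
    have h1 : D.support = ⊤ := TopologicalSpace.Closeds.ext h
    exact Scheme.IdealSheafData.support_eq_top_iff.1 h1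
  obtain ⟨η, hη⟩ : ∃ η : X, η = genericPoint X := ⟨_, rfl⟩
  have hηZ : η ∉ (D.support : Set X) := by
    intro hin
    apply hsupp_ne
    apply Set.eq_univ_of_univ_subset
    rw [← genericPoint_closure (α := X), ← hη]
    exact D.support.isClosed.closure_subset_iff.2 (Set.singleton_subset_iff.2 hin)
  have hne' : (D.support : Set X).Nonempty := by
    by_contra hemp
    rw [Set.not_nonempty_iff_eq_empty] at hemp
    apply htop
    apply (Scheme.IdealSheafData.support_eq_bot_iff D).1
    exact TopologicalSpace.Closeds.ext hemp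
  obtain ⟨x₀, hx₀⟩ := hne'
  obtain ⟨x, hsp0, -, htrx, -⟩ := exists_closed_pt (X ↘ Spec (CommRingCat.of k)) x₀
  have hxZ : x ∈ (D.support : Set X) := hsp0.mem_closed D.support.isClosed hx₀
  have hηx : η ⤳ x := by rw [hη]; exact genericPoint_specializes x
  obtain ⟨ξ, -, hξx, hξZ, hξne, himm⟩ :=
    Groth.Agent.Helper7.CurveThru.exists_immediate_generization (D.support : Set X)
      D.support.isClosed x η hηx hηZ hxZ
  have htrξ : tr (X ↘ Spec (CommRingCat.of k)) ξ = 1 := by
    rw [Groth.Agent.Helper7.CurveThru.tr_eq_add_one (X ↘ Spec (CommRingCat.of k)) ξ x hξx hξne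
      himm, htrx]
  have hdimξ : topologicalKrullDim ↥(closure ({ξ} : Set X)) = ((1 : ℕ) : WithBot ℕ∞) := by
    rw [dim_closure_of_field k (X ↘ Spec (CommRingCat.of k)) ξ, htrξ]
  obtain ⟨I, hI⟩ : ∃ I : X.IdealSheafData, I = IntMult.ptIdeal ξ := ⟨_, rfl⟩
  haveI hIint : IsIntegral I.subscheme := by rw [hI]; exact Dv.isIntegral_ptIdeal_subscheme ξ
  have hrange : Set.range I.subschemeι = closure {ξ} := by
    rw [hI]; exact Dv.range_ptIdeal_subschemeι ξ
  have hdimC : topologicalKrullDim I.subscheme = 1 := by
    rw [IsHomeomorph.topologicalKrullDim_eq _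
      (I.subschemeι.isClosedEmbedding.isEmbedding.toHomeomorph).isHomeomorph, hrange, hdimξ]
    exact Nat.cast_one
  have hgen : I.subschemeι (genericPoint I.subscheme) = ξ := by
    have hc : closure {I.subschemeι (genericPoint I.subscheme)} = closure ({ξ} : Set X) := by
      rw [NumSurj.closure_generic_subscheme' I, ← hrange,
        Scheme.IdealSheafData.range_subschemeι]
    exact (inseparable_iff_closure_eq.2 hc).eq
  refine ⟨I, hIint, hdimC, by rw [hgen]; exact hξZ, fun hdis => ?_⟩
  have hxC : x ∈ Set.range I.subschemeι := by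
    rw [hrange]; exact specializes_iff_mem_closure.1 hξx
  exact Set.disjoint_left.1 hdis hxC hxZ

/-- **a numerically trivial invertible module with a nonzero section is trivial** -/
theorem main (L : X.Modules) (hL : PicF.IsInvertible L)
    (hnum : Pic13.IsNumEquivZero k X L) (s : Coh.structureModule X ⟶ L) (hs : s ≠ 0) :
    Nonempty (L ≅ Coh.structureModule X) := by
  haveI : AlgebraicGeometry.IsNoetherian X := isNoetherian_of_proper k X
  haveI : Mono s := mono_of_ne_zero GenLoc.isInvertible_O hL s hs
  obtain ⟨D, hDdef⟩ : ∃ D : X.IdealSheafData, D = PicF2.zeroScheme L s := ⟨_, rfl⟩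
  have hinv : ClSub.IsInverseOf L (ClSub.idealMod D) := by
    rw [hDdef]
    exact Groth.Agent.Helper2.ZeroConn.isInverseOf_idealMod_zeroScheme hL s
  obtain ⟨eD⟩ := hinv
  have eD' : CohB1.tensorMod (ClSub.idealMod D) L ≅ Coh.structureModule X :=
    TildeTens.tensorModComm _ _ ≪≫ eD
  have hDinv : PicF.IsInvertible (ClSub.idealMod D) :=
    CurveCart.isInvertible_left_of_tensor_iso hL eD'
  by_cases htop : D = ⊤
  · rw [htop] at eD'
    obtain ⟨eT⟩ := SpFib.nonempty_iso_idealMod_top (X := X)
    exact ⟨(SecTwist.unitorR L).symm ≪≫ TildeTens.tensorModComm _ _ ≪≫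
      TwistTens.tensorModCongrLeft eT L ≪≫ eD'⟩
  · exfalso
    have hEff : FGA.IsEffCartier D := (Groth.Agent.S8914.result D).1 hDinv
    obtain ⟨I, hIint, hdimC, hηC, hmeet⟩ := exists_curve_meeting k X D hEff htop
    haveI := hIint
    letI instC : I.subscheme.Over (Spec (CommRingCat.of k)) :=
      ⟨I.subschemeι ≫ (X ↘ Spec (CommRingCat.of k))⟩
    haveI : IsProper (I.subscheme ↘ Spec (CommRingCat.of k)) := by
      change IsProper (I.subschemeι ≫ (X ↘ Spec (CommRingCat.of k))); infer_instance
    have h1 := ArInt.curveDeg_eq_euler k hdimC I.subschemeι D hDinv hηC L ⟨eD⟩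
    have h2 := hnum I.subscheme I.subschemeι inferInstance hdimC
    have h3 : ArSurf.curveDeg k I.subscheme ((Scheme.Modules.pullback I.subschemeι).obj L) = 0 :=
      h2
    apply hmeet
    exact (ArInt.euler_cokernel_eq_zero_iff k hdimC I.subschemeι D hDinv hηC).1
      (by rw [← h1, h3])

end Main

end Groth.Agent.Helper1.NumTrivSec
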